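import Cfsg.Statements.S4593
import Cfsg.Agent.Lib.ZStar.Elements
import Cfsg.Agent.Lib.ZStar.Final

set_option autoImplicit false
open Cfsg

namespace Cfsg.Agent.S4593

/-- Let G be a finite group with trivial centre and no nontrivial normal subgroup of odd order, whose Sylow 2-subgroups are abelian, and let P be a Sylow 2-subgroup. Every automorphism of G of 2-power order that fixes P elementwise is inner. -/
theorem result {G : Type*} [Group G] [Finite G] (hZ : Subgroup.center G = ⊥) (hcore : Cfsg.pPrimeCore 2 G = ⊥) (P : Sylow 2 G) (hab : IsMulCommutative (P : Subgroup G))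
    (α : MulAut G) (h2 : ∃ j : ℕ, orderOf α = 2 ^ j) (hfix : ∀ x ∈ (P : Subgroup G), α x = x) :
    ∃ g : G, ∀ x : G, α x = g * x * g⁻¹ := by
  classical
  haveI : Fact (Nat.Prime 2) := ⟨Nat.prime_two⟩
  set I : Subgroup (MulAut G) := (MulAut.conj : G →* MulAut G).range with hI
  suffices hαI : α ∈ I by
    obtain ⟨g, hg⟩ := hαI
    exact ⟨g, fun x => by rw [← hg, MulAut.conj_apply]⟩
  set A : Subgroup (MulAut G) := Subgroup.zpowers α with hA
  set H : Subgroup (MulAut G) := I ⊔ A with hH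
  have hinj : Function.Injective (MulAut.conj : G →* MulAut G) := by
    refine (injective_iff_map_eq_one _).mpr fun g hg => ?_
    have : g ∈ Subgroup.center G := Subgroup.mem_center_iff.mpr fun y => by
      have h1 : g * y * g⁻¹ = y := by rw [← MulAut.conj_apply, hg]; rfl
      exact (mul_inv_eq_iff_eq_mul.mp h1).symm
    rwa [hZ, Subgroup.mem_bot] at this
  have hconj : ∀ (β : MulAut G) (y : G), β * MulAut.conj y * β⁻¹ = MulAut.conj (β y) := by
    intro β y; ext z; simp
  have hIn : ∀ β : MulAut G, ∀ γ ∈ I, β * γ * β⁻¹ ∈ I := by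
    rintro β _ ⟨y, rfl⟩; exact ⟨β y, (hconj β y).symm⟩
  haveI : I.Normal := ⟨fun γ hγ β => hIn β γ hγ⟩
  have hfaith : ∀ β : MulAut G, (∀ y : G, β * MulAut.conj y = MulAut.conj y * β) → β = 1 := by
    intro β h; ext y
    refine hinj ?_
    rw [← hconj, h y, mul_inv_cancel_right, MulAut.one_apply]
  -- the abelian Sylow subgroup `P⟨α⟩` of `H`
  obtain ⟨j, hj⟩ := h2
  have hA2 : IsPGroup 2 A := IsPGroup.of_card (n := j) (by rw [hA, Nat.card_zpowers, hj])
  set PI : Subgroup (MulAut G) := (P : Subgroup G).map MulAut.conj with hPI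
  have hPA : ∀ γ ∈ PI, Commute α γ := by
    rintro _ ⟨y, hy, rfl⟩
    have h := hconj α y
    rw [hfix y hy] at h
    exact mul_inv_eq_iff_eq_mul.mp h
  haveI := hab
  have hW2 : IsPGroup 2 ↥(PI ⊔ A) := by
    refine IsPGroup.to_sup_of_normal_left' (P.isPGroup'.map _) hA2 ?_
    rw [hA, Subgroup.zpowers_le, Subgroup.mem_normalizer_iff]
    intro γ
    constructor
    · intro hγ
      rwa [(hPA γ hγ).eq, mul_inv_cancel_right]
    · intro hγ
      have h := hPA _ hγ
      have e : α * γ * α⁻¹ = γ := by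
        have h' : α * (α * γ * α⁻¹) = α * γ * α⁻¹ * α := h.eq
        rw [inv_mul_cancel_right] at h'
        exact mul_left_cancel h'
      rwa [e] at hγ
  have hWH : PI ⊔ A ≤ H := sup_le (le_sup_of_le_left (Subgroup.map_le_range _ _)) le_sup_right
  obtain ⟨S, hS⟩ := (hW2.comap_subtype (K := H)).exists_le_sylow
  have hSI : ∀ s ∈ (S : Subgroup H), (s : MulAut G) ∈ PI ⊔ A := by
    intro s hs
    have hs' : (s : MulAut G) ∈ I ⊔ A := s.2
    obtain ⟨i, hi, t, ht, hit⟩ :=
      Subgroup.mem_sup_of_normal_left.mp hs'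
    obtain ⟨y, rfl⟩ := hi
    have htH : t ∈ H := Subgroup.mem_sup_right ht
    have htS : (⟨t, htH⟩ : H) ∈ (S : Subgroup H) := hS (Subgroup.mem_sup_right ht : t ∈ PI ⊔ A)
    have hyS : (⟨MulAut.conj y, Subgroup.mem_sup_left ⟨y, rfl⟩⟩ : H) ∈ (S : Subgroup H) := by
      have h1 := (S : Subgroup H).mul_mem hs ((S : Subgroup H).inv_mem htS)
      convert h1 using 1
      exact Subtype.ext (eq_mul_inv_of_mul_eq hit)
    let f : G →* H := (MulAut.conj : G →* MulAut G).codRestrict H
      fun z => Subgroup.mem_sup_left ⟨z, rfl⟩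
    have hfinj : Function.Injective f := fun a b h => hinj (congrArg Subtype.val h)
    have hQ : IsPGroup 2 ((S : Subgroup H).comap f) := S.isPGroup'.comap_of_injective f hfinj
    have hPQ : (P : Subgroup G) ≤ (S : Subgroup H).comap f := fun z hz =>
      hS (Subgroup.mem_sup_left ⟨z, hz, rfl⟩ : MulAut.conj z ∈ PI ⊔ A)
    have hyP : y ∈ (P : Subgroup G) := (P.is_maximal' hQ hPQ) ▸ (hyS : y ∈ _)
    rw [← hit]
    exact mul_mem (Subgroup.mem_sup_left ⟨y, hyP, rfl⟩) (Subgroup.mem_sup_right ht)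
  haveI hSab : IsMulCommutative (S : Subgroup H) := by
    refine IsMulCommutative.of_comm fun s t => Subtype.ext (Subtype.ext ?_)
    have key : PI ⊔ A ≤ Subgroup.centralizer ((PI ⊔ A : Subgroup (MulAut G)) : Set (MulAut G)) := by
      refine sup_le ?_ ?_
      · rw [Subgroup.le_centralizer_iff]
        refine sup_le ?_ ?_
        · rintro _ ⟨a, ha, rfl⟩
          rw [Subgroup.mem_centralizer_iff]
          rintro _ ⟨b, hb, rfl⟩
          rw [← map_mul, ← map_mul]
          exact congrArg _ (congrArg Subtype.val (mul_comm' (⟨b, hb⟩ : (P : Subgroup G)) ⟨a, ha⟩))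
        · rw [hA, Subgroup.zpowers_le, Subgroup.mem_centralizer_iff]
          exact fun γ hγ => (hPA γ hγ).symm.eq
      · rw [hA, Subgroup.zpowers_le, Subgroup.mem_centralizer_iff]
        intro γ hγ
        have hle : PI ⊔ A ≤ Subgroup.centralizer ({α} : Set (MulAut G)) := by
          refine sup_le (fun δ hδ => ?_) ?_
          · exact Subgroup.mem_centralizer_singleton_iff.mpr (hPA δ hδ).symm.eq
          · rw [hA, Subgroup.zpowers_le, Subgroup.mem_centralizer_singleton_iff]
        exact Subgroup.mem_centralizer_singleton_iff.mp (hle hγ)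
    exact (Subgroup.mem_centralizer_iff.mp (key (hSI _ s.2)) _ (hSI _ t.2)).symm
  -- the average of `α` over the normaliser of `S`
  set N := Subgroup.normalizer ((S : Subgroup H) : Set H)
  set a : H := ⟨α, Subgroup.mem_sup_right (Subgroup.mem_zpowers α)⟩
  have haS : a ∈ (S : Subgroup H) :=
    hS (Subgroup.mem_sup_right (Subgroup.mem_zpowers α) : α ∈ PI ⊔ A)
  let SN : Subgroup N := (S : Subgroup H).subgroupOf N
  haveI : Fintype (N ⧸ SN) := Fintype.ofFinite _
  let c : N → (S : Subgroup H) := fun n =>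
    ⟨(n : H) * a * (n : H)⁻¹, (Subgroup.mem_normalizer_iff.mp n.2 a).mp haS⟩
  have hc : ∀ n n' : N, n⁻¹ * n' ∈ SN → c n' = c n := by
    intro n n' h
    refine Subtype.ext ?_
    have hcom := congrArg Subtype.val
      (mul_comm' (⟨_, Subgroup.mem_subgroupOf.mp h⟩ : (S : Subgroup H)) ⟨a, haS⟩)
    simp only [Subgroup.coe_mul, InvMemClass.coe_inv] at hcom
    show (n' : H) * a * (n' : H)⁻¹ = (n : H) * a * (n : H)⁻¹
    calc (n' : H) * a * (n' : H)⁻¹ = (n : H) * ((n : H)⁻¹ * n' * a) * (n' : H)⁻¹ := by group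
      _ = (n : H) * (a * ((n : H)⁻¹ * n')) * (n' : H)⁻¹ := by rw [hcom]
      _ = _ := by group
  letI : CommGroup (S : Subgroup H) :=
    { (inferInstance : Group (S : Subgroup H)) with mul_comm := mul_comm' }
  let b : (S : Subgroup H) := ∏ q : N ⧸ SN, c q.out
  have hbfix : ∀ n ∈ N, n * (b : H) * n⁻¹ = b := by
    intro n hn
    let φ : (S : Subgroup H) →* (S : Subgroup H) :=
      { toFun := fun s => ⟨n * s * n⁻¹, (Subgroup.mem_normalizer_iff.mp hn _).mp s.2⟩
        map_one' := Subtype.ext (by simp)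
        map_mul' := fun s t => Subtype.ext (by simp [mul_assoc]) }
    have h1 : φ b = b := by
      show φ (∏ q : N ⧸ SN, c q.out) = ∏ q : N ⧸ SN, c q.out
      rw [map_prod]
      refine Fintype.prod_equiv (MulAction.toPerm (⟨n, hn⟩ : N)) _ _ fun q => ?_
      have e : φ (c q.out) = c ((⟨n, hn⟩ : N) * q.out) := Subtype.ext (by simp [φ, c, mul_assoc])
      rw [e]
      refine hc _ _ ?_
      rw [← QuotientGroup.eq, MulAction.toPerm_apply, QuotientGroup.out_eq']
      conv_lhs => rw [← QuotientGroup.out_eq' q]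
      rfl
    exact congrArg Subtype.val h1
  have hiso : ∀ (m : ℕ) (g : H), g * (b : H) ^ m * g⁻¹ ∈ (S : Subgroup H) →
      g * (b : H) ^ m * g⁻¹ = (b : H) ^ m := by
    intro m g hg
    obtain ⟨n, hn, e⟩ := Sylow.conj_eq_normalizer_conj_of_mem S ((b : H) ^ m) g⁻¹
      (pow_mem b.2 m) (by rwa [inv_inv])
    rw [inv_inv] at e
    have e2 : ∀ k ∈ N, k * (b : H) ^ m * k⁻¹ = (b : H) ^ m := fun k hk => by
      rw [← conj_pow, hbfix k hk]
    rw [e]
    simpa using e2 n⁻¹ (inv_mem hn)
  have hz := Cfsg.Agent.Lib.ZStar.commutator_mem_oddCore_of_isolated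
    Cfsg.Agent.Lib.ZStar.zStar (Nat.card H) H rfl S (b : H) b.2 hiso
  -- the odd core of `H` is trivial
  let f : G →* H := (MulAut.conj : G →* MulAut G).codRestrict H
    fun z => Subgroup.mem_sup_left ⟨z, rfl⟩
  have hfinj : Function.Injective f := fun u v h => hinj (congrArg Subtype.val h)
  have hcoreH : ∀ y : G, f y ∈ Cfsg.oddCore H → y = 1 := by
    intro y hy
    have hle : (Cfsg.oddCore H).comap f ≤ Cfsg.pPrimeCore 2 G := by
      refine Cfsg.Agent.Lib.PSolvable.le_pPrimeCore ?_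
      exact (Cfsg.Agent.Lib.PSolvable.pPrimeCore_coprime (p := 2) (G := H)).coprime_dvd_left
        (Subgroup.card_comap_dvd_of_injective _ f hfinj)
    have := hle (show y ∈ (Cfsg.oddCore H).comap f from hy)
    rwa [hcore, Subgroup.mem_bot] at this
  have hb1 : (b : H) = 1 := by
    refine Subtype.ext (hfaith _ fun y => ?_)
    have h := hz (f y)
    have hcv : (b : H) * f y * (b : H)⁻¹ * (f y)⁻¹ = f ((b : MulAut G) y * y⁻¹) := by
      refine Subtype.ext ?_
      show (b : MulAut G) * MulAut.conj y * (b : MulAut G)⁻¹ * (MulAut.conj y)⁻¹ =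
        MulAut.conj ((b : MulAut G) y * y⁻¹)
      rw [hconj, map_mul, map_inv]
    rw [hcv] at h
    have := mul_inv_eq_one.mp (hcoreH _ h)
    have h2 := hconj (b : MulAut G) y
    rw [this] at h2
    exact mul_inv_eq_iff_eq_mul.mp h2
  -- modulo inner automorphisms `b` is an odd power of `α`
  have hodd : ¬ 2 ∣ Fintype.card (N ⧸ SN) := by
    rw [← Nat.card_eq_fintype_card, ← Subgroup.index_eq_card]
    exact fun h => S.not_dvd_index (h.trans (Subgroup.relIndex_dvd_index_of_le
      Subgroup.le_normalizer))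
  haveI : (I.subgroupOf H).Normal := inferInstance
  let π : (S : Subgroup H) →* H ⧸ I.subgroupOf H :=
    (QuotientGroup.mk' _).comp (S : Subgroup H).subtype
  have hπ : ∀ n : N, π (c n) = π ⟨a, haS⟩ := by
    intro n
    show QuotientGroup.mk' (I.subgroupOf H) ((n : H) * a * (n : H)⁻¹) = QuotientGroup.mk' _ a
    obtain ⟨i, hi, t, ht, hit⟩ :=
      Subgroup.mem_sup_of_normal_left.mp (n : H).2
    rw [QuotientGroup.mk'_eq_mk']
    refine ⟨((n : H) * a * (n : H)⁻¹)⁻¹ * a, ?_, by group⟩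
    rw [Subgroup.mem_subgroupOf]
    show (((n : H) : MulAut G) * α * ((n : H) : MulAut G)⁻¹)⁻¹ * α ∈ I
    obtain ⟨l, rfl⟩ := ht
    rw [← hit]
    have e : (i * α ^ l * α * (i * α ^ l)⁻¹)⁻¹ * α = i * (α⁻¹ * i⁻¹ * α) := by group
    rw [e]
    refine mul_mem hi ?_
    simpa using hIn α⁻¹ i⁻¹ (inv_mem hi)
  have hpow : π ⟨a, haS⟩ ^ Fintype.card (N ⧸ SN) = 1 := by
    have h1 : ∀ s : (S : Subgroup H), s = b → π s = 1 := fun s hs => by
      show QuotientGroup.mk' (I.subgroupOf H) (s : H) = 1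
      rw [hs, hb1, map_one]
    rw [← h1 b rfl]
    show _ = π (∏ q : N ⧸ SN, c q.out)
    rw [← map_pow]
    have h2 : ∀ s : Finset (N ⧸ SN), π (∏ q ∈ s, c q.out) = π (⟨a, haS⟩ ^ s.card) := by
      intro s
      induction s using Finset.induction_on with
      | empty => simp
      | insert q s hqs ih => rw [Finset.prod_insert hqs, Finset.card_insert_of_notMem hqs, pow_succ',
          map_mul, map_mul, ih, hπ]
    exact (h2 Finset.univ).symm
  have ha1 : π ⟨a, haS⟩ = 1 := by
    obtain ⟨k, hk⟩ := S.isPGroup' ⟨a, haS⟩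
    have hk' : π ⟨a, haS⟩ ^ 2 ^ k = 1 := by rw [← map_pow, hk, map_one]
    have := Nat.Coprime.pow_left k ((Nat.prime_two.coprime_iff_not_dvd).mpr hodd)
    exact orderOf_eq_one_iff.mp (Nat.eq_one_of_dvd_coprimes this (orderOf_dvd_of_pow_eq_one hk')
      (orderOf_dvd_of_pow_eq_one hpow))
  exact (Subgroup.mem_subgroupOf).mp ((QuotientGroup.eq_one_iff a).mp ha1)

end Cfsg.Agent.S4593
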