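-- Proof of statement S0255: PSL_2(7) ≅ PSL_3(2), through the quadratic residue code of length 8.
import Cfsg.Statements.S0255
import Mathlib
import Cfsg.Agent.Lib.LinGroup.Simple
import Cfsg.Agent.Lib.LinGroup.Order
import Cfsg.Agent.Lib.SL2.Basic

set_option autoImplicit false
open Cfsg

namespace Cfsg.Agent.S0255

open Matrix

theorem fact_prime_seven : Fact (Nat.Prime 7) := ⟨by norm_num⟩

attribute [local instance] fact_prime_seven

/-- The index of the point of the projective line over `ZMod 7` spanned by a vector. -/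
def ptIdx (w : Fin 2 → ZMod 7) : Fin 8 :=
  if w 1 = 0 then 7 else ⟨(w 0 * (w 1) ^ 5).val, by
    have := ZMod.val_lt (w 0 * (w 1) ^ 5); omega⟩

/-- A representative of a point. -/
def ptRep (k : Fin 8) : Fin 2 → ZMod 7 := if k = 7 then ![1, 0] else ![(k.val : ZMod 7), 1]

theorem ptIdx_ptRep : ∀ k, ptIdx (ptRep k) = k := by decide +kernel

theorem exists_scalar : ∀ a b : ZMod 7, (a ≠ 0 ∨ b ≠ 0) →
    ∃ c : ZMod 7, c ≠ 0 ∧ ![a, b] = c • ptRep (ptIdx ![a, b]) := by decide +kernel

theorem ptIdx_scale : ∀ c a b : ZMod 7, c ≠ 0 →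
    ptIdx (c • ![a, b]) = ptIdx ![a, b] := by decide +kernel

/-- The action of a matrix on the eight points. -/
def ptMap (g : Matrix.SpecialLinearGroup (Fin 2) (ZMod 7)) (k : Fin 8) : Fin 8 :=
  ptIdx ((g : Matrix (Fin 2) (Fin 2) (ZMod 7)) *ᵥ ptRep k)

theorem ptRep_ne_zero : ∀ k, ptRep k 0 ≠ 0 ∨ ptRep k 1 ≠ 0 := by decide +kernel

theorem ptMap_mul (g h : Matrix.SpecialLinearGroup (Fin 2) (ZMod 7)) (k : Fin 8) :
    ptMap (g * h) k = ptMap g (ptMap h k) := by
  have eta : ∀ u : Fin 2 → ZMod 7, u = ![u 0, u 1] := fun u => by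
    ext i; fin_cases i <;> simp
  set w := (h : Matrix (Fin 2) (Fin 2) (ZMod 7)) *ᵥ ptRep k with hw
  have hw0 : w 0 ≠ 0 ∨ w 1 ≠ 0 := by
    by_contra hc
    push Not at hc
    have h0 : w = 0 := by ext i; fin_cases i <;> simp [hc.1, hc.2]
    have hk : ptRep k = 0 := Matrix.eq_zero_of_mulVec_eq_zero
      (by rw [h.det_coe]; exact one_ne_zero) (hw ▸ h0)
    rcases ptRep_ne_zero k with e | e <;> simp [hk] at e
  obtain ⟨c, hc, hcw⟩ := exists_scalar (w 0) (w 1) hw0
  rw [← eta w] at hcw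
  have key : ptMap (g * h) k =
      ptIdx ((g : Matrix (Fin 2) (Fin 2) (ZMod 7)) *ᵥ w) := by
    show ptIdx (((g : Matrix (Fin 2) (Fin 2) (ZMod 7)) * (h : Matrix (Fin 2) (Fin 2) (ZMod 7))) *ᵥ
      ptRep k) = _
    rw [← mulVec_mulVec]
  rw [key, hcw, mulVec_smul, eta ((g : Matrix (Fin 2) (Fin 2) (ZMod 7)) *ᵥ ptRep (ptIdx w)),
    ptIdx_scale _ _ _ hc, ← eta]
  rfl

theorem ptMap_one (k : Fin 8) : ptMap 1 k = k := by simp [ptMap, ptIdx_ptRep]

/-- Three code words spanning the code modulo the all-one word. -/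
def codeWord : Fin 3 → Fin 8 → ZMod 2 :=
  ![![0, 1, 1, 0, 1, 0, 0, 1], ![0, 0, 1, 1, 0, 1, 0, 1], ![0, 0, 0, 1, 1, 0, 1, 1]]

/-- Differences of a code word at two places. -/
def codeDiff (v : Fin 3 → ZMod 2) (k l : Fin 8) : ZMod 2 :=
  (v 0 * codeWord 0 k + v 1 * codeWord 1 k + v 2 * codeWord 2 k) +
    (v 0 * codeWord 0 l + v 1 * codeWord 1 l + v 2 * codeWord 2 l)

/-- The pairs `(g, A)` such that `g` maps the word of `v` to that of `A v`. -/
def compat : Subgroup (Matrix.SpecialLinearGroup (Fin 2) (ZMod 7) ×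
    Matrix.SpecialLinearGroup (Fin 3) (ZMod 2)) where
  carrier := {x | ∀ v k l, codeDiff ((x.2 : Matrix (Fin 3) (Fin 3) (ZMod 2)) *ᵥ v)
    (ptMap x.1 k) (ptMap x.1 l) = codeDiff v k l}
  one_mem' := by intro v k l; simp [ptMap_one]
  mul_mem' {x y} hx hy := by
    intro v k l
    have e : ((x * y).2 : Matrix (Fin 3) (Fin 3) (ZMod 2)) *ᵥ v =
        (x.2 : Matrix (Fin 3) (Fin 3) (ZMod 2)) *ᵥ
          ((y.2 : Matrix (Fin 3) (Fin 3) (ZMod 2)) *ᵥ v) := by
      rw [Matrix.mulVec_mulVec]; rfl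
    rw [e, Prod.fst_mul, ptMap_mul, ptMap_mul, hx, hy]
  inv_mem' {x} hx := by
    intro v k l
    have h := hx ((x.2⁻¹ : Matrix.SpecialLinearGroup (Fin 3) (ZMod 2)).1 *ᵥ v)
      (ptMap x.1⁻¹ k) (ptMap x.1⁻¹ l)
    rw [← ptMap_mul, ← ptMap_mul, mul_inv_cancel, ptMap_one, ptMap_one, Matrix.mulVec_mulVec] at h
    have e : (x.2 : Matrix (Fin 3) (Fin 3) (ZMod 2)) *
        (x.2⁻¹ : Matrix.SpecialLinearGroup (Fin 3) (ZMod 2)).1 = 1 :=
      congrArg Subtype.val (mul_inv_cancel x.2)
    rw [e, Matrix.one_mulVec] at h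
    exact h.symm

theorem compat_mul {g h : Matrix.SpecialLinearGroup (Fin 2) (ZMod 7)}
    {A B : Matrix.SpecialLinearGroup (Fin 3) (ZMod 2)} (hg : (g, A) ∈ compat)
    (hh : (h, B) ∈ compat) : (g * h, A * B) ∈ compat := by
  rw [← Prod.mk_mul_mk]
  exact Subgroup.mul_mem compat hg hh

/-- Image of the upper transvection. -/
def imgUpper : Matrix.SpecialLinearGroup (Fin 3) (ZMod 2) :=
  ⟨!![0, 0, 1; 1, 0, 0; 0, 1, 1], by decide +kernel⟩

/-- Image of the lower transvection. -/
def imgLower : Matrix.SpecialLinearGroup (Fin 3) (ZMod 2) :=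
  ⟨!![1, 1, 1; 1, 0, 1; 0, 1, 1], by decide +kernel⟩

/-- The upper transvection. -/
def genU : Matrix.SpecialLinearGroup (Fin 2) (ZMod 7) := ⟨!![1, 1; 0, 1], by decide +kernel⟩

/-- The lower transvection. -/
def genL : Matrix.SpecialLinearGroup (Fin 2) (ZMod 7) := ⟨!![1, 0; 1, 1], by decide +kernel⟩

theorem upper_spec : ∀ (v : Fin 3 → ZMod 2) (k l : Fin 8),
    codeDiff (imgUpper.1 *ᵥ v) (ptMap genU k) (ptMap genU l) = codeDiff v k l := by
  unfold codeDiff ptMap genU imgUpper
  decide +kernel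

theorem lower_spec : ∀ (v : Fin 3 → ZMod 2) (k l : Fin 8),
    codeDiff (imgLower.1 *ᵥ v) (ptMap genL k) (ptMap genL l) = codeDiff v k l := by
  unfold codeDiff ptMap genL imgLower
  decide +kernel

theorem transvection_01 :
    SpecialLinearGroup.transvection (zero_ne_one : (0 : Fin 2) ≠ 1) (1 : ZMod 7) = genU :=
  Subtype.ext (show Matrix.transvection (0 : Fin 2) 1 (1 : ZMod 7) = !![1, 1; 0, 1] by decide +kernel)

theorem transvection_10 :
    SpecialLinearGroup.transvection (one_ne_zero : (1 : Fin 2) ≠ 0) (1 : ZMod 7) = genL :=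
  Subtype.ext (show Matrix.transvection (1 : Fin 2) 0 (1 : ZMod 7) = !![1, 0; 1, 1] by decide +kernel)

theorem exists_compat (g : Matrix.SpecialLinearGroup (Fin 2) (ZMod 7)) :
    ∃ A : Matrix.SpecialLinearGroup (Fin 3) (ZMod 2), (g, A) ∈ compat := by
  have hu : (genU, imgUpper) ∈ compat := fun v k l => upper_spec v k l
  have hl : (genL, imgLower) ∈ compat := fun v k l => lower_spec v k l
  have hT : ∀ (i j : Fin 2) (h : i ≠ j) (n : ℕ), ∃ A : Matrix.SpecialLinearGroup (Fin 3) (ZMod 2),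
      (SpecialLinearGroup.transvection h ((n : ℕ) : ZMod 7), A) ∈ compat := by
    intro i j h n
    induction n with
    | zero => exact ⟨1, by rw [Nat.cast_zero, SpecialLinearGroup.transvection_coeff_zero]
                           exact Subgroup.one_mem _⟩
    | succ n ih =>
      obtain ⟨A, hA⟩ := ih
      obtain ⟨T, hT⟩ : ∃ T : Matrix.SpecialLinearGroup (Fin 3) (ZMod 2),
          (SpecialLinearGroup.transvection h (1 : ZMod 7), T) ∈ compat := by
        fin_cases i <;> fin_cases j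
        · exact absurd rfl h
        · refine ⟨imgUpper, ?_⟩
          exact transvection_01.symm ▸ hu
        · refine ⟨imgLower, ?_⟩
          exact transvection_10.symm ▸ hl
        · exact absurd rfl h
      exact ⟨A * T, by rw [Nat.cast_succ, SpecialLinearGroup.transvection_add]
                       exact compat_mul hA hT⟩
  induction g using Lib.LinGroup.SL_transvection_induction with
  | h1 => exact ⟨1, Subgroup.one_mem _⟩
  | hmul A B hA hB =>
    obtain ⟨a, ha⟩ := hA
    obtain ⟨b, hb⟩ := hB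
    exact ⟨a * b, compat_mul ha hb⟩
  | ht i j h c =>
    obtain ⟨A, hA⟩ := hT i j h c.val
    rw [ZMod.natCast_zmod_val] at hA
    exact ⟨A, hA⟩

theorem codeDiff_inj : ∀ u v : Fin 3 → ZMod 2,
    (∀ k l : Fin 8, codeDiff u k l = codeDiff v k l) → u = v := by
  unfold codeDiff
  decide +kernel

theorem compat_unique {A : Matrix.SpecialLinearGroup (Fin 3) (ZMod 2)}
    (h : ((1 : Matrix.SpecialLinearGroup (Fin 2) (ZMod 7)), A) ∈ compat) : A = 1 := by
  refine Subtype.ext (Matrix.ext_iff_mulVec.2 fun v => codeDiff_inj _ _ fun k l => ?_)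
  have := h v k l
  simp only [ptMap_one] at this
  simpa using this

/-- The map `SL_2(7) → SL_3(2)`. -/
noncomputable def toSL3 :
    Matrix.SpecialLinearGroup (Fin 2) (ZMod 7) →* Matrix.SpecialLinearGroup (Fin 3) (ZMod 2) :=
  MonoidHom.mk' (fun g => (exists_compat g).choose) fun a b => by
    have h := Subgroup.mul_mem compat
      (Subgroup.inv_mem compat (exists_compat (a * b)).choose_spec)
      (compat_mul (exists_compat a).choose_spec (exists_compat b).choose_spec)
    rw [Prod.inv_mk, Prod.mk_mul_mk, inv_mul_cancel] at h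
    exact inv_mul_eq_one.1 (compat_unique h)

theorem toSL3_mem (g : Matrix.SpecialLinearGroup (Fin 2) (ZMod 7)) :
    (g, toSL3 g) ∈ compat := (exists_compat g).choose_spec

theorem toSL3_eq {g : Matrix.SpecialLinearGroup (Fin 2) (ZMod 7)}
    {A : Matrix.SpecialLinearGroup (Fin 3) (ZMod 2)} (h : (g, A) ∈ compat) : toSL3 g = A := by
  have := Subgroup.mul_mem compat (Subgroup.inv_mem compat (toSL3_mem g)) h
  rw [Prod.inv_mk, Prod.mk_mul_mk, inv_mul_cancel] at this
  exact inv_mul_eq_one.1 (compat_unique this)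

theorem center_le_ker :
    Subgroup.center (Matrix.SpecialLinearGroup (Fin 2) (ZMod 7)) ≤ toSL3.ker := by
  intro z hz
  rw [MonoidHom.mem_ker]
  rcases (Lib.SL2.mem_center_iff_eq z).1 hz with rfl | rfl
  · exact map_one _
  · have hneg : ∀ k : Fin 8,
        ptIdx ((-1 : Matrix (Fin 2) (Fin 2) (ZMod 7)) *ᵥ ptRep k) = k := by decide +kernel
    refine toSL3_eq fun v k l => ?_
    have hp : ∀ k, ptMap (-1) k = k := fun k => by
      show ptIdx ((-1 : Matrix (Fin 2) (Fin 2) (ZMod 7)) *ᵥ ptRep k) = k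
      exact hneg k
    simp [hp]

theorem nonempty_equiv_zmod :
    Nonempty (Matrix.ProjectiveSpecialLinearGroup (Fin 2) (ZMod 7) ≃*
      Matrix.SpecialLinearGroup (Fin 3) (ZMod 2)) := by
  let f := QuotientGroup.lift _ toSL3 center_le_ker
  have hs := Matrix.ProjectiveSpecialLinearGroup.rank_two_simple (F := ZMod 7)
    (by rw [Nat.card_zmod]; norm_num)
  have hinj : Function.Injective f := by
    rw [← MonoidHom.ker_eq_bot_iff]
    refine (f.normal_ker.eq_bot_or_eq_top).resolve_right fun htop => ?_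
    have h1 : f (QuotientGroup.mk genU) = 1 := MonoidHom.mem_ker.1 (htop ▸ Subgroup.mem_top _)
    change toSL3 genU = 1 at h1
    have himg : toSL3 genU = imgUpper := toSL3_eq fun v k l => upper_spec v k l
    rw [himg] at h1
    have h2 := congrArg (fun A : Matrix.SpecialLinearGroup (Fin 3) (ZMod 2) => A.1 0 0) h1
    revert h2
    decide +kernel
  refine ⟨MulEquiv.ofBijective f ((Nat.bijective_iff_injective_and_card f).2 ⟨hinj, ?_⟩)⟩
  have h1 := Lib.LinGroup.card_PSL_mul (F := ZMod 7) 2 (by norm_num)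
  have h2 := Lib.LinGroup.card_SL_mul (F := ZMod 2) 3 (by norm_num)
  rw [ZMod.card, Fin.prod_univ_two] at h1
  rw [ZMod.card, Fin.prod_univ_three] at h2
  norm_num [-Nat.card_eq_fintype_card] at h1 h2
  exact (show Nat.card (Matrix.ProjectiveSpecialLinearGroup (Fin 2) (ZMod 7)) =
    Nat.card (Matrix.SpecialLinearGroup (Fin 3) (ZMod 2)) by omega)

/-- PSL_2(7) is isomorphic to PSL_3(2). -/
theorem result {F K : Type*} [Field F] [Fintype F] [Field K] [Fintype K] (hF : Fintype.card F = 7) (hK : Fintype.card K = 2) : Nonempty (Matrix.ProjectiveSpecialLinearGroup (Fin 2) F ≃* Matrix.ProjectiveSpecialLinearGroup (Fin 3) K) := by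
  let f : ZMod 7 ≃+* F := ZMod.ringEquivOfPrime F (by norm_num) hF
  let k : ZMod 2 ≃+* K := ZMod.ringEquivOfPrime K Nat.prime_two hK
  obtain ⟨e⟩ := nonempty_equiv_zmod
  let g : Matrix.SpecialLinearGroup (Fin 2) F ≃*
      Matrix.SpecialLinearGroup (Fin 2) (ZMod 7) :=
    { toFun := Matrix.SpecialLinearGroup.map f.symm.toRingHom
      invFun := Matrix.SpecialLinearGroup.map f.toRingHom
      left_inv := fun a => Subtype.ext (by ext; simp)
      right_inv := fun a => Subtype.ext (by ext; simp)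
      map_mul' := map_mul _ }
  let g' : Matrix.SpecialLinearGroup (Fin 3) (ZMod 2) ≃*
      Matrix.SpecialLinearGroup (Fin 3) K :=
    { toFun := Matrix.SpecialLinearGroup.map k.toRingHom
      invFun := Matrix.SpecialLinearGroup.map k.symm.toRingHom
      left_inv := fun a => Subtype.ext (by ext; simp)
      right_inv := fun a => Subtype.ext (by ext; simp)
      map_mul' := map_mul _ }
  have hz : Subgroup.center (Matrix.SpecialLinearGroup (Fin 3) K) = ⊥ :=
    Subgroup.eq_bot_of_card_eq _ (by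
      rw [Lib.LinGroup.card_center_SL, Lib.LinGroup.card_units_eq_sub_one, hK, Fintype.card_fin]
      rfl)
  have hmap : (Subgroup.center (Matrix.SpecialLinearGroup (Fin 2) F)).map g.toMonoidHom =
      Subgroup.center (Matrix.SpecialLinearGroup (Fin 2) (ZMod 7)) := by
    ext x
    constructor
    · rintro ⟨y, hy, rfl⟩
      rw [Subgroup.mem_center_iff]
      intro z
      obtain ⟨w, rfl⟩ := g.surjective z
      show g w * g y = g y * g w
      rw [← map_mul, ← map_mul, Subgroup.mem_center_iff.1 hy w]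
    · intro hx
      obtain ⟨y, rfl⟩ := g.surjective x
      refine ⟨y, Subgroup.mem_center_iff.2 fun w => g.injective ?_, rfl⟩
      rw [map_mul, map_mul, Subgroup.mem_center_iff.1 hx (g w)]
  exact ⟨(((QuotientGroup.congr _ _ g hmap).trans e).trans g').trans
    ((QuotientGroup.quotientMulEquivOfEq hz).trans QuotientGroup.quotientBot).symm⟩

end Cfsg.Agent.S0255
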