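import Cfsg.Statements.S3909
import Mathlib

set_option autoImplicit false
open Cfsg

namespace Cfsg.Agent.S3909

/-- Let G be a finite group in which any two abelian subgroups of the same order are conjugate. Let M be a normal subgroup of G. If M contains an element of the same order as a ∈ G, then a ∈ M; and if M is elementary abelian of order p^t with p prime and t ≥ 2, then M is the unique Sylow p-subgroup of G. -/
theorem result {G : Type*} [Group G] [Finite G] (hB : ∀ A B : Subgroup G, IsMulCommutative ↥A → IsMulCommutative ↥B → Nat.card ↥A = Nat.card ↥B → ∃ g : G, B = A.map (MulAut.conj g).toMonoidHom) (M : Subgroup G) [M.Normal] :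
    (∀ a : G, (∃ m ∈ M, orderOf m = orderOf a) → a ∈ M) ∧
    ∀ (p t : ℕ) [Fact p.Prime], 2 ≤ t → Nat.card ↥M = p ^ t → Cfsg.IsElementaryAbelian p M → ∀ P : Sylow p G, (P : Subgroup G) = M := by
  have part1 : ∀ a : G, (∃ m ∈ M, orderOf m = orderOf a) → a ∈ M := by
    rintro a ⟨m, hm, hord⟩
    obtain ⟨g, hg⟩ := hB (Subgroup.zpowers m) (Subgroup.zpowers a) inferInstance inferInstance
      (by rw [Nat.card_zpowers, Nat.card_zpowers, hord])
    have ha : a ∈ Subgroup.zpowers a := Subgroup.mem_zpowers a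
    rw [hg] at ha
    obtain ⟨y, hy, rfl⟩ := Subgroup.mem_map.mp ha
    exact (‹M.Normal›).conj_mem y ((Subgroup.zpowers_le.mpr hm) hy) g
  refine ⟨part1, fun p t hp ht hcard hM P => ?_⟩
  have hpp : p.Prime := Fact.out
  have hMp : IsPGroup p M := IsPGroup.of_card hcard
  refine le_antisymm (fun x hx => ?_) (hMp.le_sylow_of_normal P)
  obtain ⟨k, hk⟩ := IsPGroup.iff_orderOf.mp P.2 ⟨x, hx⟩
  rw [← Subgroup.orderOf_coe, Subgroup.coe_mk] at hk
  match k, hk with
  | 0, hk => rw [pow_zero, orderOf_eq_one_iff] at hk; rw [hk]; exact one_mem M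
  | 1, hk =>
    obtain ⟨m, hm⟩ := exists_prime_orderOf_dvd_card' (G := M) p
      (by rw [hcard]; exact dvd_pow_self p (by omega))
    exact part1 x ⟨m, m.2, by rw [hk, pow_one, Subgroup.orderOf_coe, hm]⟩
  | k + 2, hk =>
    exfalso
    obtain ⟨B, hBc⟩ := Sylow.exists_subgroup_card_pow_prime (G := M) p (n := 2)
      (by rw [hcard]; exact Nat.pow_dvd_pow p ht)
    set y := x ^ p ^ k with hy
    have hyo : orderOf y = p ^ 2 := by
      rw [hy, orderOf_pow' x (pow_ne_zero k hpp.ne_zero), hk,
        Nat.gcd_eq_right (Nat.pow_dvd_pow p (by omega)), Nat.pow_div (by omega) hpp.pos]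
      congr 1; omega
    have hab : IsMulCommutative ↥(B.map M.subtype) := by
      haveI := hM.1
      exact Subgroup.map_isMulCommutative B M.subtype
    obtain ⟨g, hg⟩ := hB (B.map M.subtype) (Subgroup.zpowers y) hab inferInstance
      (by rw [Nat.card_zpowers, hyo, Subgroup.card_subtype, hBc])
    have hmem : y ∈ Subgroup.zpowers y := Subgroup.mem_zpowers y
    rw [hg] at hmem
    obtain ⟨b, hb, hby⟩ := Subgroup.mem_map.mp hmem
    obtain ⟨m, -, rfl⟩ := Subgroup.mem_map.mp hb
    have h1 : y ^ p = 1 := by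
      rw [← hby, ← map_pow]
      simp [hM.2 _ m.2]
    have h2 := Nat.le_of_dvd hpp.pos (hyo ▸ orderOf_dvd_of_pow_eq_one h1)
    nlinarith [hpp.two_le]

end Cfsg.Agent.S3909
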