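import Cfsg.Statements.S0850
import Cfsg.Agent.Lib.Chars.Induced

set_option autoImplicit false
open Cfsg

namespace Cfsg.Agent.S0850

/-- No element of the normalizer outside the subgroup is conjugate into it. -/
theorem conj_notMem {G : Type*} [Group G] [Finite G] (K : Subgroup G)
    (hC : ∀ k ∈ K, k ≠ 1 → Subgroup.centralizer ({k} : Set G) ≤ K) {x : G}
    (hx : x ∈ Subgroup.normalizer (K : Set G)) (hxK : x ∉ K) (g : G) : g * x * g⁻¹ ∉ K := by
  intro hk
  have hn : orderOf x ≠ 1 := fun h => hxK (orderOf_eq_one_iff.mp h ▸ K.one_mem)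
  obtain ⟨p, hp, hpd⟩ := Nat.exists_prime_and_dvd hn
  have : Fact p.Prime := ⟨hp⟩
  have hpK : p ∣ Nat.card K := by
    have h := orderOf_dvd_natCard (⟨_, hk⟩ : K)
    rw [Subgroup.orderOf_mk, show g * x * g⁻¹ = MulAut.conj g x from rfl, MulEquiv.orderOf_eq] at h
    exact hpd.trans h
  set y := x ^ (orderOf x / p) with hy
  have hy1 : orderOf y = p := by
    have hd : orderOf x / p ∣ orderOf x := Nat.div_dvd_of_dvd hpd
    rw [hy, orderOf_pow_of_dvd (Nat.div_pos (Nat.le_of_dvd (orderOf_pos x) hpd) hp.pos).ne' hd,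
      Nat.div_div_self hpd (orderOf_pos x).ne']
  have hy0 : y ≠ 1 := fun h => hp.ne_one (by rw [← hy1, h, orderOf_one])
  have hyK : y ∉ K := fun h => hxK (hC y h hy0
    (Subgroup.mem_centralizer_singleton_iff.mpr ((Commute.pow_self x _).eq.symm)))
  have hyN : y ∈ Subgroup.normalizer (K : Set G) := Subgroup.pow_mem _ hx _
  -- a fixed-point-free action of a `p`-group
  let A : Subgroup G := Subgroup.zpowers y
  let _ : MulAction A K :=
    { smul := fun a k => ⟨(a : G) * k * (a : G)⁻¹,
        ((Subgroup.mem_normalizer_iff.mp ((Subgroup.zpowers_le.mpr hyN) a.2)) k).mp k.2⟩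
      one_smul := fun k => Subtype.ext (show (1 : G) * k * (1 : G)⁻¹ = k by simp)
      mul_smul := fun a b k => Subtype.ext
        (show ((a : G) * b) * k * ((a : G) * b)⁻¹ = a * (b * k * (b : G)⁻¹) * (a : G)⁻¹ by group) }
  have hA : IsPGroup p A := IsPGroup.of_card (n := 1) (by rw [Nat.card_zpowers, hy1, pow_one])
  have hfix : MulAction.fixedPoints A K = {1} := by
    ext k
    refine ⟨fun h => ?_, ?_⟩
    · by_contra h1
      have h2 : y * (k : G) * y⁻¹ = k := congrArg Subtype.val (h ⟨y, Subgroup.mem_zpowers y⟩)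
      exact hyK (hC k k.2 (fun e => h1 (Subtype.ext e))
        (Subgroup.mem_centralizer_singleton_iff.mpr (mul_inv_eq_iff_eq_mul.mp h2)))
    · rintro rfl a
      exact Subtype.ext (show (a : G) * ((1 : K) : G) * (a : G)⁻¹ = _ by simp)
  have hmod := hA.card_modEq_card_fixedPoints K
  rw [hfix, Nat.card_coe_set_eq, Set.ncard_singleton, Nat.ModEq,
    Nat.mod_eq_zero_of_dvd hpK |>.trans rfl] at hmod
  rw [Nat.one_mod_eq_one.mpr hp.ne_one] at hmod
  exact zero_ne_one hmod

/-- Let K be a subgroup of the finite group G that meets each conjugate by an element outside its normalizer N trivially, is properly contained in N, and contains the centralizer of each of its non-identity elements (a T.I. subgroup with Frobenius normalizer). Then no element of N outside K is conjugate in G to an element of K, and for every class function ϑ of N that vanishes on N away from K and at the identity, the function induced from ϑ to G agrees with ϑ on all of N. -/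
theorem result {G : Type*} [Group G] [Fintype G] (K : Subgroup G) (hTI : ∀ g : G, g ∉ Subgroup.normalizer (K : Set G) → ∀ k ∈ K, g * k * g⁻¹ ∈ K → k = 1) (hlt : K < Subgroup.normalizer (K : Set G)) (hC : ∀ k ∈ K, k ≠ 1 → Subgroup.centralizer ({k} : Set G) ≤ K) : (∀ x ∈ Subgroup.normalizer (K : Set G), x ∉ K → ∀ g : G, g * x * g⁻¹ ∉ K) ∧ ∀ (ϑ : Subgroup.normalizer (K : Set G) → ℂ), Cfsg.IsClassFunction (Subgroup.normalizer (K : Set G)) ϑ → (∀ x : Subgroup.normalizer (K : Set G), (x : G) ∉ K → ϑ x = 0) → ϑ 1 = 0 → ∀ x : Subgroup.normalizer (K : Set G), Cfsg.indFun (Subgroup.normalizer (K : Set G)) ϑ x = ϑ x := by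
  classical
  have hnot := fun (x : G) hx hxK g => conj_notMem K hC (x := x) hx hxK g
  set N := Subgroup.normalizer (K : Set G) with hN
  refine ⟨hnot, fun θ hθ hsupp h1 x => ?_⟩
  by_cases hxK : (x : G) ∈ K
  · by_cases hx1 : x = 1
    · subst hx1
      rw [OneMemClass.coe_one, Lib.Chars.indFun_one_eq, h1, mul_zero]
    have hx1' : (x : G) ≠ 1 := fun e => hx1 (Subtype.ext e)
    have hterm : ∀ g : G, Cfsg.extendByZero N θ (g⁻¹ * x * g) = if g ∈ N then θ x else 0 := by
      intro g
      split_ifs with hg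
      · rw [Lib.Chars.extendByZero_of_mem θ (N.mul_mem (N.mul_mem (N.inv_mem hg) x.2) hg),
          ← hθ x ⟨g⁻¹, N.inv_mem hg⟩]
        congr 1
        ext
        simp
      · by_cases hm : g⁻¹ * x * g ∈ N
        · rw [Lib.Chars.extendByZero_of_mem θ hm]
          by_contra h0
          have hmK : g⁻¹ * x * g ∈ K := by
            by_contra hmK
            exact h0 (hsupp _ hmK)
          have := hTI g hg _ hmK (by simpa [mul_assoc] using hxK)
          exact hx1' (by simpa [mul_assoc, inv_mul_eq_one] using congrArg (fun z => g * z * g⁻¹) this)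
        · exact Lib.Chars.extendByZero_of_not_mem θ hm
    rw [Cfsg.indFun, Finset.sum_congr rfl fun g _ => hterm g, ← Finset.sum_filter,
      Finset.sum_const, nsmul_eq_mul, ← Fintype.card_subtype, Fintype.card_eq_nat_card,
      inv_mul_cancel_left₀ (Nat.cast_ne_zero.mpr Nat.card_pos.ne')]
  · rw [hsupp x hxK, Cfsg.indFun, Finset.sum_eq_zero, mul_zero]
    intro g _
    by_cases hm : g⁻¹ * x * g ∈ N
    · rw [Lib.Chars.extendByZero_of_mem θ hm]
      refine hsupp _ fun hmK => hnot x x.2 hxK g⁻¹ ?_
      simpa using hmK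
    · exact Lib.Chars.extendByZero_of_not_mem θ hm

end Cfsg.Agent.S0850
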