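import Cfsg.Statements.S0853
import Cfsg.Agent.Lib.TIFrob.Coherent

set_option autoImplicit false
open Cfsg

namespace Cfsg.Agent.S0853

/-- Let K be a subgroup of the finite group G that meets each conjugate by an element outside its normalizer N trivially, is properly contained in N, and contains the centralizer of each of its non-identity elements (a T.I. subgroup with Frobenius normalizer). Let S be the set of irreducible characters of N taking at some element of K a value different from their degree, suppose S has at least two members, and let star be a linear isometry on the integer span of S into the generalized characters of G that agrees with induction on the members vanishing at the identity (so S is coherent, with star as the extending isometry). Then there is a single integer m such that star χ k - χ k = m * χ 1 / e for every χ in S and every non-identity element k of K, where e is the index of K in N. -/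
theorem result {G : Type*} [Group G] [Fintype G] (K : Subgroup G) (hTI : ∀ g : G, g ∉ Subgroup.normalizer (K : Set G) → ∀ k ∈ K, g * k * g⁻¹ ∈ K → k = 1) (hlt : K < Subgroup.normalizer (K : Set G)) (hC : ∀ k ∈ K, k ≠ 1 → Subgroup.centralizer ({k} : Set G) ≤ K) [Fintype ↥(Subgroup.normalizer (K : Set G))] (S : Set (↥(Subgroup.normalizer (K : Set G)) → ℂ)) (hS : S = {χ : ↥(Subgroup.normalizer (K : Set G)) → ℂ | Cfsg.IsIrrCharacter ↥(Subgroup.normalizer (K : Set G)) χ ∧ ∃ k : ↥(Subgroup.normalizer (K : Set G)), (k : G) ∈ K ∧ χ k ≠ χ 1}) (htwo : ∃ χ ∈ S, ∃ ξ ∈ S, χ ≠ ξ) (star : (↥(Subgroup.normalizer (K : Set G)) → ℂ) → (G → ℂ)) (hstar : Cfsg.IsLinearIsometryOn (Cfsg.zspan S) star) (hext : ∀ α ∈ Cfsg.zspanOn S ({1}ᶜ : Set ↥(Subgroup.normalizer (K : Set G))), star α = Cfsg.indFun (Subgroup.normalizer (K : Set G)) α) : ∃ m : ℤ, ∀ χ ∈ S, ∀ k : ↥(Subgroup.normalizer (K : Set G)), (k : G) ∈ K → k ≠ 1 → star χ k - χ k = (m : ℂ) * χ 1 / ((K.subgroupOf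 (Subgroup.normalizer (K : Set G))).index : ℂ) := by
  classical
  have hKn : (K.subgroupOf (Subgroup.normalizer (K : Set G))).Normal := Subgroup.normal_in_normalizer
  have hC' := Lib.TIFrob.centralizer_le_subgroupOf K hC
  have hS' : ∀ χ, χ ∈ S ↔ Cfsg.IsIrrCharacter (Subgroup.normalizer (K : Set G)) χ ∧
      Lib.TIFrob.Relevant (K.subgroupOf (Subgroup.normalizer (K : Set G))) χ := fun χ => by rw [hS]; rfl
  obtain ⟨χ₀, h0, ξ₀, h0', hne⟩ := htwo
  set K' := K.subgroupOf (Subgroup.normalizer (K : Set G))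
  let χ₁ : Cfsg.IrrCharacter (Subgroup.normalizer (K : Set G)) := ⟨χ₀, ((hS' _).mp h0).1⟩
  have hχ₁ : Lib.TIFrob.Relevant K' (χ₁ : (Subgroup.normalizer (K : Set G)) → ℂ) := ((hS' _).mp h0).2
  obtain ⟨k₀, hk₀, -, -, hk₀1, -, -⟩ := Lib.TIFrob.not_constant hC' χ₁
    ⟨ξ₀, ((hS' _).mp h0').1⟩ hχ₁ ((hS' _).mp h0').2 fun e => hne (congrArg Subtype.val e)
  obtain ⟨-, -, C₁, -, -, hval₁, -⟩ := Lib.TIFrob.exists_const hC hS' hstar hext χ₁ hχ₁
  obtain ⟨d₁, hd₁0, hd₁dvd, hd₁⟩ := Lib.TIFrob.exists_degree hC' χ₁ hχ₁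
  have hd₁' : (d₁ : ℂ) ≠ 0 := Nat.cast_ne_zero.mpr hd₁0.ne'
  have hidx : ((K'.index : ℕ) : ℂ) ≠ 0 := Nat.cast_ne_zero.mpr Subgroup.index_ne_zero_of_finite
  set m₀ : ℂ := C₁ / d₁ with hm₀
  -- the common shape of the differences
  have hdiff : ∀ χ : Cfsg.IrrCharacter (Subgroup.normalizer (K : Set G)), Lib.TIFrob.Relevant K' (χ : (Subgroup.normalizer (K : Set G)) → ℂ) →
      ∀ k : (Subgroup.normalizer (K : Set G)), (k : G) ∈ K → k ≠ 1 →
        star (χ : (Subgroup.normalizer (K : Set G)) → ℂ) k - (χ : (Subgroup.normalizer (K : Set G)) → ℂ) k = m₀ * (χ : (Subgroup.normalizer (K : Set G)) → ℂ) 1 / (K'.index : ℂ) := by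
    intro χ hχ k hk hk1
    have h := Lib.TIFrob.star_sub_cross hTI hlt hC hS' hstar hext χ χ₁ hχ hχ₁ k hk
    rw [hval₁ k hk hk1, hd₁] at h
    rw [hm₀]
    field_simp
    linear_combination h
  have hsq : ∀ χ : Cfsg.IrrCharacter (Subgroup.normalizer (K : Set G)), Lib.TIFrob.Relevant K' (χ : (Subgroup.normalizer (K : Set G)) → ℂ) →
      ∃ z : ℤ, m₀ * ((χ : (Subgroup.normalizer (K : Set G)) → ℂ) 1 * (χ : (Subgroup.normalizer (K : Set G)) → ℂ) 1) = (K'.index : ℂ) * ((K'.index : ℂ) * z) := by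
    intro χ hχ
    obtain ⟨-, -, C, -, -, hval, hint⟩ := Lib.TIFrob.exists_const hC hS' hstar hext χ hχ
    obtain ⟨d, -, -, hd⟩ := Lib.TIFrob.exists_degree hC' χ hχ
    obtain ⟨z, hz⟩ := hint d hd
    refine ⟨z, ?_⟩
    have hC0 : C = m₀ * d := by
      rw [← hval k₀ hk₀ hk₀1, hdiff χ hχ k₀ hk₀ hk₀1, hd]
      field_simp
    rw [hC0] at hz
    rw [hd, ← hz]
    ring
  choose! z hz using hsq
  have hsum := Lib.TIFrob.sum_relevant hC' K'.one_mem
  rw [if_pos rfl] at hsum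
  have h1 := congrArg (fun x => m₀ * x) hsum
  simp only [Finset.mul_sum] at h1
  rw [Finset.sum_congr rfl (fun χ hχ => hz χ (Finset.mem_filter.mp hχ).2), ← Finset.mul_sum,
    ← Finset.mul_sum, ← Int.cast_sum, ← K'.card_mul_index, Nat.cast_mul] at h1
  set Z := ∑ χ ∈ Finset.univ.filter (fun χ : Cfsg.IrrCharacter (Subgroup.normalizer (K : Set G)) =>
    Lib.TIFrob.Relevant K' (χ : (Subgroup.normalizer (K : Set G)) → ℂ)), z χ
  have hZ : m₀ * ((Nat.card K' : ℂ) - 1) = (((K'.index : ℤ) * Z : ℤ) : ℂ) := by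
    apply mul_left_cancel₀ hidx
    push_cast
    linear_combination -h1
  have hint₁ : IsIntegral ℤ C₁ := by
    rw [← hval₁ k₀ hk₀ hk₀1]
    obtain ⟨ε, φ, -, -, he, -, -⟩ := Lib.TIFrob.exists_const hC hS' hstar hext χ₁ hχ₁
    rw [he, Pi.smul_apply, smul_eq_mul]
    exact ((isIntegral_algebraMap (R := ℤ) (A := ℂ) (x := ε)).mul
      (Lib.Chars.irr_isIntegral φ _)).sub (Lib.Chars.irr_isIntegral χ₁ _)
  obtain ⟨t, ht⟩ := hd₁dvd
  have hint : IsIntegral ℤ m₀ := by
    have e : m₀ = (t : ℂ) * C₁ - (((K'.index : ℤ) * Z : ℤ) : ℂ) := by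
      rw [← hZ, ht, hm₀]
      push_cast
      field_simp
      ring
    rw [e]
    exact ((isIntegral_algebraMap (R := ℤ) (A := ℂ) (x := (t : ℤ))).mul hint₁).sub
      (isIntegral_algebraMap (R := ℤ) (A := ℂ) (x := (K'.index : ℤ) * Z))
  -- a rational algebraic integer is an integer
  have hK1 : ((Nat.card K' : ℚ) - 1) ≠ 0 := by
    have : Nontrivial K' := ⟨⟨⟨k₀, hk₀⟩, 1, fun e => hk₀1 (congrArg Subtype.val e)⟩⟩
    have h : (1 : ℚ) < (Nat.card K' : ℚ) := by exact_mod_cast Finite.one_lt_card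
    linarith
  have hq : m₀ = algebraMap ℚ ℂ ((((K'.index : ℤ) * Z : ℤ) : ℚ) / ((Nat.card K' : ℚ) - 1)) := by
    have hK1' : ((Nat.card K' : ℂ) - 1) ≠ 0 := fun e => hK1 (by exact_mod_cast e)
    rw [map_div₀, map_sub, map_intCast, map_natCast, map_one, eq_div_iff hK1']
    exact hZ
  rw [hq, isIntegral_algebraMap_iff (algebraMap ℚ ℂ).injective] at hint
  obtain ⟨m, hm⟩ := IsIntegrallyClosed.isIntegral_iff.1 hint
  refine ⟨m, fun χ hχ k hk hk1 => ?_⟩
  obtain ⟨hχi, hχr⟩ := (hS' χ).mp hχ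
  have := hdiff ⟨χ, hχi⟩ hχr k hk hk1
  rw [this, hq, ← hm]
  simp

end Cfsg.Agent.S0853
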