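import Mathlib
import Cfsg.Statements.S0878
import Cfsg.Agent.Lib.Zassenhaus.Basic
-- import your own Cfsg.Agent.* helpers here

set_option autoImplicit false
open Cfsg

namespace Cfsg.Agent.S0878

/-- Let G be a Zassenhaus group on the finite set Ω, a a point, and let H be the subgroup of the stabilizer of a consisting of the identity and the elements fixing no point other than a (given here as a subgroup of the stabilizer of order one less than the number of points whose non-identity elements fix only a; it is the Frobenius kernel of the stabilizer). Then an element outside the stabilizer of a conjugates no non-identity element of H into H, and the normalizer of H is exactly the stabilizer of a. -/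
theorem result {G Ω : Type*} [Group G] [Finite G] [MulAction G Ω] [Fintype Ω] (hZ : Cfsg.IsZassenhausGroup G Ω) (a : Ω) (H : Subgroup G) (hHa : H ≤ MulAction.stabilizer G a) (hHcard : Nat.card H + 1 = Fintype.card Ω) (hHfix : ∀ u ∈ H, u ≠ 1 → ∀ c : Ω, u • c = c → c = a) : (∀ g : G, g ∉ MulAction.stabilizer G a → ∀ u ∈ H, g * u * g⁻¹ ∈ H → u = 1) ∧ Subgroup.normalizer (H : Set G) = MulAction.stabilizer G a := by
  classical
  obtain ⟨hf, h2, h3, hfix, -⟩ := hZ
  obtain ⟨K, hK⟩ := Lib.Zassenhaus.exists_isKer h2 h3 hfix a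
  obtain ⟨g₀, hg₀, a₀, b₀, hab₀, ha₀, hb₀⟩ := hfix
  obtain ⟨c₀, hc₀a, hc₀b⟩ := Lib.Zassenhaus.exists_third hg₀ ha₀ hb₀
  have hcard3 : 3 ≤ Fintype.card Ω := by
    have h : ({a₀, b₀, c₀} : Finset Ω).card = 3 :=
      Finset.card_eq_three.2 ⟨a₀, b₀, c₀, hab₀, hc₀a.symm, hc₀b.symm, rfl⟩
    rw [← h]; exact Finset.card_le_univ _
  obtain ⟨b, hb⟩ := Fintype.exists_ne_of_one_lt_card (by omega : 1 < Fintype.card Ω) a
  have hHK : H = K := by
    refine Subgroup.eq_of_le_of_card_ge (fun u hu => (hK.mem_iff u).2 ⟨hHa hu, ?_⟩) ?_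
    · rcases eq_or_ne u 1 with h | h
      · exact Or.inl h
      · exact Or.inr fun y hy e => hy (hHfix u hu h y e)
    · have hbij : Function.Bijective (fun k : K => (⟨(k : G) • b, fun e => hb
          (smul_left_cancel (k : G) (e.trans (hK.fix k.2).symm))⟩ : {y : Ω // y ≠ a})) := by
        refine ⟨fun k l hkl => ?_, fun y => ?_⟩
        · have e : (k : G) • b = (l : G) • b := congrArg Subtype.val hkl
          have h1 := hK.eq_one (mul_mem (inv_mem l.2) k.2) hb
            (by rw [mul_smul, e, inv_smul_smul])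
          exact Subtype.ext (inv_mul_eq_one.1 h1).symm
        · obtain ⟨k, hk, e⟩ := hK.transitive b y hb y.2
          exact ⟨⟨k, hk⟩, Subtype.ext e⟩
      rw [Nat.card_congr (Equiv.ofBijective _ hbij), Nat.card_eq_fintype_card,
        Fintype.card_subtype_compl, Fintype.card_subtype_eq]
      omega
  have hTI : ∀ g : G, g ∉ MulAction.stabilizer G a → ∀ u ∈ H, g * u * g⁻¹ ∈ H → u = 1 := by
    intro g hg u hu hgu
    by_contra hu1
    refine hg (hHfix _ hgu (fun e => hu1 ?_) (g • a) ?_)
    · calc u = g⁻¹ * (g * u * g⁻¹) * g := by group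
        _ = 1 := by rw [e]; group
    · rw [mul_smul, mul_smul, inv_smul_smul]
      exact congrArg (g • ·) (hHa hu)
  refine ⟨hTI, le_antisymm (fun g hg => ?_) fun g hg => ?_⟩
  · by_contra hga
    have hH1 : H ≠ ⊥ := fun e => by
      rw [e, Subgroup.card_bot] at hHcard; omega
    obtain ⟨u, hu, hu1⟩ := (Subgroup.ne_bot_iff_exists_ne_one.1 hH1 |>.elim fun u hu =>
      ⟨(u : G), u.2, fun e => hu (Subtype.ext e)⟩ : ∃ u, u ∈ H ∧ u ≠ 1)
    exact hu1 (hTI g hga u hu ((Subgroup.mem_normalizer_iff.1 hg u).1 hu))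
  · rw [Subgroup.mem_normalizer_iff]
    intro u
    rw [hHK]
    refine ⟨fun hu => hK.conj_mem hu hg, fun hu => ?_⟩
    have h1 := hK.conj_mem (g := g⁻¹) hu (inv_smul_eq_iff.2 (MulAction.mem_stabilizer_iff.1 hg).symm)
    simpa [mul_assoc] using h1

end Cfsg.Agent.S0878
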