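import Mathlib
import Cfsg.Statements.S0881
import Cfsg.Agent.Lib.Zassenhaus.InducedLinear
-- import your own Cfsg.Agent.* helpers here

set_option autoImplicit false
open Cfsg

namespace Cfsg.Agent.S0881

/-- Let G be a finite simple Zassenhaus group on Ω with n points, a ≠ b points with two-point stabilizer E of odd order less than n - 2, and let H be the subgroup of the stabilizer of a consisting of the identity and the elements fixing no point other than a (given here as a subgroup of the stabilizer of order one less than the number of points whose non-identity elements fix only a; it is the Frobenius kernel of the stabilizer). Let μ be a character of degree 1 of the stabilizer of a that is identically 1 on H but not identically 1. Then the function induced from μ to G is an irreducible character of G, and it takes the value 1 at every non-identity element of H. -/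
theorem result {G Ω : Type*} [Group G] [Fintype G] [MulAction G Ω] [Fintype Ω] (hZ : Cfsg.IsZassenhausGroup G Ω) {a b : Ω} (hab : a ≠ b) [IsSimpleGroup G] (hodd : Odd (Nat.card ↥(MulAction.stabilizer G a ⊓ MulAction.stabilizer G b : Subgroup G))) (hlt : Nat.card ↥(MulAction.stabilizer G a ⊓ MulAction.stabilizer G b : Subgroup G) < Fintype.card Ω - 2) (H : Subgroup G) (hHa : H ≤ MulAction.stabilizer G a) (hHcard : Nat.card H + 1 = Fintype.card Ω) (hHfix : ∀ u ∈ H, u ≠ 1 → ∀ c : Ω, u • c = c → c = a) (μ : MulAction.stabilizer G a → ℂ) (hμ : Cfsg.IsCharacter (MulAction.stabilizer G a) μ ∧ μ 1 = 1) (hμH : ∀ u : MulAction.stabilizer G a, (u : G) ∈ H → μ u = 1) (hμne : μ ≠ fun _ => 1) : Cfsg.IsIrrCharacter G (Cfsg.indFun (MulAction.stabilizer G a) μ) ∧ ∀ u ∈ H, u ≠ 1 → Cfsg.indFun (MulAction.stabilizer G a) μ u = 1 := by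
  classical
  obtain ⟨μh, hμh⟩ := Lib.Chars.exists_hom_of_degree_one hμ.1 hμ.2
  subst hμh
  have hinv := (Lib.Zassenhaus.SimpleOdd.simple_inverts hZ hab hodd).2
  refine ⟨?_, fun u hu hu1 => ?_⟩
  · refine Lib.Zassenhaus.InducedLinear.isIrrCharacter_indFun hZ.2.1 hinv hab hodd μh ?_
    by_contra hall
    push Not at hall
    refine hμne (funext fun x => ?_)
    have hbij : Function.Bijective (fun k : H => (⟨(k : G) • b, fun e => hab.symm
        (smul_left_cancel (k : G) (e.trans (hHa k.2).symm))⟩ : {y : Ω // y ≠ a})) := by
      refine (Nat.bijective_iff_injective_and_card _).2 ⟨fun k l hkl => ?_, ?_⟩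
      · have e : (k : G) • b = (l : G) • b := congrArg Subtype.val hkl
        by_contra hne
        refine hab.symm (hHfix _ (H.mul_mem (H.inv_mem l.2) k.2) (fun h => hne ?_) b
          (by rw [mul_smul, e, inv_smul_smul]))
        exact Subtype.ext (inv_mul_eq_one.1 h).symm
      · rw [Nat.card_eq_fintype_card (α := {y : Ω // y ≠ a}), Fintype.card_subtype_compl,
          Fintype.card_subtype_eq]
        omega
    obtain ⟨k, hk⟩ := hbij.2 ⟨(x : G) • b, fun e => hab.symm
      (smul_left_cancel (x : G) (e.trans (MulAction.mem_stabilizer_iff.1 x.2).symm))⟩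
    have hk' : (k : G) • b = (x : G) • b := congrArg Subtype.val hk
    let k' : MulAction.stabilizer G a := ⟨k, hHa k.2⟩
    have h1 : μh (k'⁻¹ * x) = 1 := hall _ (by
      change ((k : G)⁻¹ * (x : G)) • b = b
      rw [mul_smul, ← hk', inv_smul_smul])
    rw [map_mul, map_inv, inv_mul_eq_one] at h1
    have h2 := hμH k' k.2
    simp only at h2 ⊢
    rw [← h1, h2]
  · rw [Lib.Zassenhaus.InducedLinear.indFun_apply_of_unique_fix μh (hHa hu) (hHfix u hu hu1)]
    exact hμH ⟨u, hHa hu⟩ hu

end Cfsg.Agent.S0881
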