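import Cfsg.Statements.S1534
import Mathlib
import Cfsg.Agent.Lib.Coherence.TIMain

set_option autoImplicit false
open Cfsg

namespace Cfsg.Agent.S1534

/-- Let G be a finite group and K a nontrivial nilpotent subgroup whose underlying set is a TI-subset of G, properly contained in its set normaliser N, with C_G(k) ≤ K for every non-identity k ∈ K; let e be the index of K in N and S the set of irreducible characters χ of N with χ k ≠ χ 1 for some k ∈ K. Then one of: S has exactly one member, Nat.card K = e + 1 and K is an elementary abelian p-group for some prime p; or K is a Sylow 2-subgroup of G (Nat.card K is the largest power of 2 dividing Nat.card G) and [K : [K,K]] < 4e²; or (S, N minus 1, induction to G) is coherent. -/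
theorem result {G : Type*} [Group G] [Fintype G] (K : Subgroup G) (hK1 : K ≠ ⊥) (hnil : Group.IsNilpotent K) (hTI : Cfsg.IsTISubset (K : Set G)) (hlt : K < Subgroup.normalizer (K : Set G)) (hC : ∀ k ∈ K, k ≠ 1 → Subgroup.centralizer ({k} : Set G) ≤ K) [Fintype ↥(Subgroup.normalizer (K : Set G))] : (Nat.card {χ : ↥(Subgroup.normalizer (K : Set G)) → ℂ // Cfsg.IsIrrCharacter ↥(Subgroup.normalizer (K : Set G)) χ ∧ ∃ k : ↥(Subgroup.normalizer (K : Set G)), (k : G) ∈ K ∧ χ k ≠ χ 1} = 1 ∧ Nat.card K = (K.subgroupOf (Subgroup.normalizer (K : Set G))).index + 1 ∧ ∃ p : ℕ, p.Prime ∧ Cfsg.IsElementaryAbelian p K) ∨ (Nat.card K = 2 ^ (Nat.card G).factorization 2 ∧ (⁅K, K⁆.subgroupOf K).index < 4 * (K.subgroupOf (Subgroup.normalizer (K : Set G))).index ^ 2) ∨ Cfsg.IsCoherent {χ : ↥(Subgroup.normalizer (K : Set G)) → ℂ | Cfsg.IsIrrCharacter ↥(Subgroup.normalizer (K : Set G)) χ ∧ ∃ k : ↥(Subgroup.normalizer (K : Set G)), (k : G) ∈ K ∧ χ k ≠ χ 1} {1}ᶜ (fun α => Cfsg.indFun (Subgroup.normalizer (K :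 Set G)) α) := by
  classical
  have hC' : ∀ k ∈ K, k ≠ 1 →
      Subgroup.normalizer (K : Set G) ⊓ Subgroup.centralizer ({k} : Set G) ≤ K :=
    fun k hk hk1 => inf_le_right.trans (hC k hk hk1)
  have hset := Lib.Coherence.ti_set hC'
  rcases Lib.Coherence.ti_trichotomy hK1 hnil hTI hlt hC' with
    ⟨q, hq, -, hel, he, hc⟩ | ⟨m, hm, hna, hle, P, hP⟩ | h
  · refine Or.inl ⟨?_, he, q, hq, hel⟩
    rw [← hc]
    exact Nat.card_congr (Equiv.subtypeEquivRight fun χ => Set.ext_iff.1 hset χ)
  · refine Or.inr (Or.inl ⟨by rw [← hP]; exact P.card_eq_multiplicity, ?_⟩)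
    set N := Subgroup.normalizer (K : Set G) with hN
    set H := Lib.Coherence.kerIn K with hH
    have hHn : H.Normal := Subgroup.normal_in_normalizer
    -- the two descriptions of the largest abelian quotient
    have hidx : (⁅K, K⁆.subgroupOf K).index = (⁅H, H⁆ : Subgroup ↥N).relIndex H := by
      have h1 : (⁅H, H⁆ : Subgroup ↥N).map N.subtype = ⁅K, K⁆ := by
        rw [Subgroup.map_commutator, hH]
        show ⁅(K.subgroupOf N).map N.subtype, (K.subgroupOf N).map N.subtype⁆ = _
        rw [Subgroup.map_subgroupOf_eq_of_le Subgroup.le_normalizer]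
      have h2 : H.map N.subtype = K := Subgroup.map_subgroupOf_eq_of_le Subgroup.le_normalizer
      show (⁅K, K⁆ : Subgroup G).relIndex K = _
      have h3 := Subgroup.relIndex_map_map N.subtype (⁅H, H⁆ : Subgroup ↥N) H
      rw [h1, h2, Subgroup.ker_subtype, sup_bot_eq, sup_bot_eq] at h3
      exact h3
    have hodd : Odd H.index := Lib.Coherence.odd_index_of_noncomm H
      (Lib.Coherence.kerIn_centralizer hC') (fun h => hna (Lib.Coherence.kerIn_comm h))
    have hdvd : (⁅H, H⁆ : Subgroup ↥N).relIndex H ∣ 2 ^ m :=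
      (hm ▸ Lib.Coherence.kerIn_card (H := K)) ▸ Subgroup.relIndex_dvd_card _ _
    have he1 : H.index ≠ 1 := fun h => Lib.Coherence.kerIn_ne_top hlt (Subgroup.index_eq_one.1 h)
    rw [hidx]
    show _ < 4 * H.index ^ 2
    obtain ⟨r, -, hr⟩ := (Nat.dvd_prime_pow Nat.prime_two).1 hdvd
    rw [hr] at hle ⊢
    rcases lt_or_eq_of_le hle with h | h
    · rcases lt_or_eq_of_le (Nat.le_of_lt_succ h) with h' | h'
      · exact h'
      · exfalso
        refine he1 ((Nat.dvd_one).1 ?_)
        have hd : H.index ∣ 2 ^ r := h' ▸ Dvd.intro_left (4 * H.index) (by ring)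
        exact (Nat.Coprime.pow_left r (Nat.coprime_two_left.2 hodd)).symm.eq_one_of_dvd hd ▸ dvd_rfl
    · exfalso
      rcases Nat.eq_zero_or_pos r with h0 | h0
      · subst h0
        have := Nat.pos_of_ne_zero (Subgroup.index_ne_zero_of_finite (H := H))
        nlinarith
      · have : 2 ∣ 4 * H.index ^ 2 + 1 := h ▸ dvd_pow_self 2 h0.ne'
        omega
  · exact Or.inr (Or.inr (by rw [hset]; exact h))

end Cfsg.Agent.S1534
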