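import Cfsg.Statements.S0727
import Mathlib
import Cfsg.Agent.Lib.Perm.SharplyThree
import Cfsg.Agent.Lib.Perm.ZassenhausPGL

set_option autoImplicit false
open Cfsg

namespace Cfsg.Agent.S0727

open Cfsg.Agent.Lib.Perm

/-- A sharply triply transitive permutation group of degree `2^f + 1` is isomorphic to the projective general linear group of degree 2 over the field with `2^f` elements. -/
theorem result {α : Type*} [Fintype α] [DecidableEq α] {f : ℕ} (hf : 1 ≤ f) (hα : Fintype.card α = 2 ^ f + 1) (G : Subgroup (Equiv.Perm α)) (h3 : MulAction.IsMultiplyPretransitive G α 3) (hsharp : ∀ x : Fin 3 ↪ α, MulAction.stabilizer G x = ⊥) : ∃ (F : Type) (_ : Field F) (_ : Fintype F), Fintype.card F = 2 ^ f ∧ Nonempty (G ≃* Matrix.ProjGenLinGroup (Fin 2) F) := by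
  classical
  have hn : 3 ≤ Fintype.card α := by
    have : 2 ^ 1 ≤ 2 ^ f := Nat.pow_le_pow_right (by norm_num) hf
    omega
  obtain ⟨p, o, e, s, T, ℓ, j, hT, -, -, -, -, ho, he, heo, hsp, hso, hse, hss, hs1⟩ :=
    SharplyThree.exists_setup h3 hsharp hn
  have h2 := SharplyThree.two_pretransitive h3 hn
  have hG := SharplyThree.fixAtMostTwo hsharp
  let φ := SharplyThree.swapAut hsp hso
  have hinv : Function.Involutive φ := SharplyThree.swapAut_involutive hsp hso hss
  have hone : ∀ x : α, s • x = x → x = e := by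
    intro x hx
    have hle := Zassenhaus.card_fixedBy_le_two hG (Ω := α) hs1
    have hmod := Zassenhaus.card_fixedBy_mod_two (Ω := α) hss
    have hodd : Fintype.card α % 2 = 1 := by
      rw [hα, show f = f - 1 + 1 by omega, pow_succ]; omega
    have : Subsingleton (MulAction.fixedBy α s) := Finite.card_le_one_iff_subsingleton.mp (by omega)
    exact congrArg Subtype.val (Subsingleton.elim (⟨x, hx⟩ : MulAction.fixedBy α s) ⟨e, hse⟩)
  have hfpf : MonoidHom.FixedPointFree φ := by
    intro h hh
    have hh' : s * (h : G) * s⁻¹ = h := congrArg Subtype.val hh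
    rw [mul_inv_eq_iff_eq_mul] at hh'
    have hhe := hone ((h : G) • e) (by rw [← mul_smul, hh', mul_smul, hse])
    obtain ⟨hp, ho'⟩ := Subgroup.mem_inf.mp h.2
    exact Subtype.ext (hG _ p o e (Ne.symm ho) (Ne.symm heo) (Ne.symm he) hp ho' hhe)
  have hHinv := hfpf.coe_eq_inv_of_involutive hinv
  obtain ⟨K, iK, iF, hK, hiso⟩ := ZassenhausPGL.exists_mulEquiv_PGL h2 hG hT ho he heo
    (fun g hg h hh => congrArg Subtype.val (hfpf.commute_all_of_involutive hinv ⟨g, hg⟩ ⟨h, hh⟩))
    (SharplyThree.card_stab_two h3 hsharp (Ne.symm ho) hn) hsp hso hse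
    (fun h hh => congrArg Subtype.val (congrFun hHinv (⟨h * h, mul_mem hh hh⟩ : ↥(MulAction.stabilizer G p ⊓ MulAction.stabilizer G o))))
  exact ⟨K, iK, iF, by omega, hiso⟩

end Cfsg.Agent.S0727
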