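import Cfsg.Statements.S5119
import Cfsg.Agent.Lib.Fusion.Invariant

set_option autoImplicit false
open Cfsg
open Cfsg.FusionSystem Cfsg.Agent.Lib.Fusion

namespace Cfsg.Agent.S5119

/-- Let F be a saturated fusion system over a finite p-group S and E a subsystem of F over a subgroup T that is strongly closed in F. Then E is invariant in F (invariance under Aut_F(T) plus the Frattini condition) if and only if the strong invariance condition holds: for P ≤ Q ≤ T, every map φ of E from P into Q and every map ψ of F with source Q, the transported map ψ φ ψ⁻¹ on ψ(P) is a map of E. -/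
theorem result {Ω : Type*} [Group Ω] {S : Subgroup Ω} [Finite S] (p : ℕ) [Fact p.Prime] (hS : IsPGroup p S) (F : Cfsg.FusionSystem S) (hF : F.IsSaturated p) {T : Subgroup Ω} (E : Cfsg.FusionSystem T) (hE : E.IsSubsystemOf F) (hT : F.StronglyClosed T) : E.IsInvariantIn F ↔ ∀ (P Q : Subgroup Ω) (hPQ : P ≤ Q) (_ : Q ≤ T) (φ : P →* Ω) (_ : φ ∈ E.Hom P) (hφQ : ∀ x : P, φ x ∈ Q) (ψ : Q →* Ω) (_ : ψ ∈ F.Hom Q), ∃ χ ∈ E.Hom ((P.subgroupOf Q).map ψ), ∀ (x : P) (hx : ψ (Subgroup.inclusion hPQ x) ∈ (P.subgroupOf Q).map ψ), χ ⟨ψ (Subgroup.inclusion hPQ x), hx⟩ = ψ ⟨φ x, hφQ x⟩ := by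
  constructor
  · rintro ⟨-, -, hinv, hfr⟩ P Q hPQ hQT φ hφ hφQ ψ hψ
    obtain ⟨α, hα, ψ₀, hψ₀, hψx⟩ := hfr Q hQT ψ hψ
    have hψ₀' := restrict_mem hψ₀ hPQ
    obtain ⟨τ, hτ, hτr, hτx, -⟩ := exists_inverse hψ₀' (range_restrict ψ₀ hPQ)
    obtain ⟨b, hb, hbx⟩ := exists_comp hτ hφ fun y => hτr.le ⟨y, rfl⟩
    obtain ⟨χ₀, hχ₀, hχ₀x⟩ := exists_comp hb hψ₀ fun y => (hbx y).symm ▸ hφQ _
    obtain ⟨χ, hχ, hχx⟩ := hinv _ (src_le hχ₀) χ₀ hχ₀ α hα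
    have hmem : ∀ x : P, ψ (Subgroup.inclusion hPQ x) =
        (α ⟨ψ₀ (Subgroup.inclusion hPQ x), val_mem hψ₀ _⟩ : Ω) :=
      fun x => hψx _ _
    have hle : (P.subgroupOf Q).map ψ ≤ imgSub (autHom α) (imgSub ψ₀ P) := by
      intro y hy
      obtain ⟨x, hx, rfl⟩ := mem_imgSub.1 hy
      have h1 := imgSub_act_mem (a := α) (src_le hτ)
        ⟨_, apply_mem_imgSub ψ₀ x hx⟩
      rw [show ψ x = (α ⟨ψ₀ x, val_mem hψ₀ _⟩ : Ω) from hψx x _]
      exact h1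
    refine ⟨_, restrict_mem hχ hle, fun x hx => ?_⟩
    set w : imgSub ψ₀ P := ⟨_, apply_mem_imgSub ψ₀ (Subgroup.inclusion hPQ x) x.2⟩ with hw
    have e1 : Subgroup.inclusion hle ⟨_, hx⟩ = ⟨_, imgSub_act_mem (src_le hτ) w⟩ :=
      Subtype.ext (hmem x)
    show χ (Subgroup.inclusion hle ⟨_, hx⟩) = _
    rw [e1]
    refine (hχx w (val_mem hχ₀ w) _).trans ?_
    rw [hψx ⟨φ x, hφQ x⟩ (val_mem hψ₀ _)]
    refine congrArg (fun z : T => (α z : Ω)) (Subtype.ext ?_)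
    refine (hχ₀x w).trans (congrArg ψ₀ (Subtype.ext ?_))
    refine (hbx w).trans (congrArg φ (Subtype.ext ?_))
    exact hτx x w.2
  · intro hstr
    refine ⟨hE, hT, fun P hPT φ hφ α hα => ?_, fun P hP φ hφ => exists_frattini hS hF hE hT hstr hP hφ⟩
    obtain ⟨χ, hχ, hχx⟩ := actInvariant_of_stronglyInvariant hT.1 hstr α hα P φ hφ
    exact ⟨χ, hχ, fun x hφx hαx => hχx x⟩

end Cfsg.Agent.S5119
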