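import Cfsg.Statements.S3781
import Mathlib

set_option autoImplicit false
open Cfsg

namespace Cfsg.Agent.S3781

def iterSeries {G : Type*} [Group G] (K : Subgroup G) : ℕ → Subgroup G
  | 0 => K
  | t + 1 => ⁅iterSeries K t, (⊤ : Subgroup G)⁆

theorem three {G : Type*} [Group G] (A B C D : Subgroup G) (hD : D.Normal)
    (h1 : ⁅⁅B, C⁆, A⁆ ≤ D) (h2 : ⁅⁅C, A⁆, B⁆ ≤ D) : ⁅⁅A, B⁆, C⁆ ≤ D := by
  have := hD
  have hiff : ∀ X : Subgroup G, X ≤ D ↔ X.map (QuotientGroup.mk' D) = ⊥ := by
    intro X; rw [Subgroup.map_eq_bot_iff, QuotientGroup.ker_mk']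
  rw [hiff, Subgroup.map_commutator, Subgroup.map_commutator] at h1 h2 ⊢
  exact Subgroup.commutator_commutator_eq_bot_of_rotate h1 h2

/-- Let G be a finite p-group and n ≥ 1, and write γ_1(G) = G, γ_{k+1}(G) = [γ_k(G), G], and likewise γ_k(N) for a subgroup N. Let N be a normal subgroup of G contained in γ_n(G). If i > 1 and γ_{i+1}(N) ≠ 1, then |γ_i(N) : γ_{i+1}(N)| ≥ p^n. -/
theorem result {G : Type*} [Group G] [Finite G] {p : ℕ} [Fact p.Prime] (hG : IsPGroup p G) (n : ℕ) (hn : 1 ≤ n) (N : Subgroup G) [N.Normal] (hN : N ≤ (⊤ : Subgroup G).lowerCentralSeries (n - 1)) (i : ℕ) (hi : 1 < i) (hne : N.lowerCentralSeries i ≠ ⊥) : p ^ n ≤ (N.lowerCentralSeries i).relIndex (N.lowerCentralSeries (i - 1)) := by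
  haveI : Group.IsNilpotent G := hG.isNilpotent
  set K := N.lowerCentralSeries (i - 1) with hKdef
  set L := N.lowerCentralSeries i with hLdef
  have hLeq : L = ⁅K, N⁆ := by
    rw [hLdef, hKdef]
    conv_lhs => rw [show i = (i - 1) + 1 by omega]
    exact N.lowerCentralSeries_succ (i - 1)
  haveI hKn : K.Normal := inferInstance
  haveI hLn : L.Normal := inferInstance
  have hLK : L ≤ K := hLeq ▸ Subgroup.commutator_le_left K N
  -- series below K
  obtain ⟨Ks, hKs0, hKsS⟩ : ∃ Ks : ℕ → Subgroup G, Ks 0 = K ∧ ∀ t, Ks (t + 1) = ⁅Ks t, (⊤ : Subgroup G)⁆ :=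
    ⟨iterSeries K, rfl, fun t => rfl⟩
  have hKsn : ∀ t, (Ks t).Normal := by
    intro t; induction t with
    | zero => rw [hKs0]; exact hKn
    | succ t ih => rw [hKsS]; exact @Subgroup.commutator_normal G _ _ _ ih inferInstance
  have hstep : ∀ t, Ks (t + 1) ≤ Ks t := by
    intro t; rw [hKsS]; exact @Subgroup.commutator_le_left G _ _ _ (hKsn t)
  have hgam : ∀ j t, ⁅Ks t, (⊤ : Subgroup G).lowerCentralSeries j⁆ ≤ Ks (t + j + 1) := by
    intro j; induction j with
    | zero => intro t; rw [Subgroup.lowerCentralSeries_zero, Nat.add_zero, hKsS]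
    | succ j ih =>
      intro t
      rw [Subgroup.lowerCentralSeries_succ, Subgroup.commutator_comm]
      refine three _ _ _ _ (hKsn _) ?_ ?_
      · rw [Subgroup.commutator_comm (⊤ : Subgroup G) (Ks t), ← hKsS]
        convert ih (t + 1) using 2; omega
      · rw [show t + (j + 1) + 1 = (t + j + 1) + 1 by omega, hKsS]
        exact Subgroup.commutator_mono (ih t) le_rfl
  have hsup : ∀ (A B D : Subgroup G), D.Normal → ⁅A, (⊤ : Subgroup G)⁆ ≤ D → ⁅B, (⊤ : Subgroup G)⁆ ≤ D →
      ⁅A ⊔ B, (⊤ : Subgroup G)⁆ ≤ D := by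
    intro A B D hD hA hB
    haveI := hD
    have key : ∀ A : Subgroup G, ⁅A, (⊤ : Subgroup G)⁆ ≤ D ↔
        A ≤ (Subgroup.center (G ⧸ D)).comap (QuotientGroup.mk' D) := by
      intro A
      rw [Subgroup.commutator_le]
      constructor
      · intro h a ha
        rw [Subgroup.mem_comap, Subgroup.mem_center_iff]
        intro x
        obtain ⟨g, rfl⟩ := QuotientGroup.mk'_surjective D x
        have h1 := h a ha g trivial
        rw [← QuotientGroup.eq_one_iff, ← QuotientGroup.mk'_apply, map_commutatorElement,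
          commutatorElement_eq_one_iff_mul_comm] at h1
        exact h1.symm
      · intro h a ha g _
        have h1 := Subgroup.mem_center_iff.mp (h ha) (QuotientGroup.mk' D g)
        rw [← QuotientGroup.eq_one_iff, ← QuotientGroup.mk'_apply, map_commutatorElement,
          commutatorElement_eq_one_iff_mul_comm]
        exact h1.symm
    rw [key] at hA hB ⊢
    exact sup_le hA hB
  obtain ⟨c, hc⟩ := Subgroup.nilpotent_iff_lowerCentralSeries.mp (show Group.IsNilpotent G from inferInstance)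
  have hshrink : ∀ X : Subgroup G, X ≤ ⁅X, (⊤ : Subgroup G)⁆ ⊔ L → X ≤ L := by
    intro X hX
    have : ∀ j, X ≤ (⊤ : Subgroup G).lowerCentralSeries j ⊔ L := by
      intro j; induction j with
      | zero => simp [Subgroup.lowerCentralSeries_zero]
      | succ j ih =>
        refine hX.trans (sup_le ((Subgroup.commutator_mono ih le_rfl).trans ?_) le_sup_right)
        refine hsup _ _ _ inferInstance ?_ ?_
        · rw [← Subgroup.lowerCentralSeries_succ]; exact le_sup_left
        · exact (Subgroup.commutator_le_left L (⊤ : Subgroup G)).trans le_sup_right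
    simpa [hc] using this c
  have hKsle : ∀ t, Ks t ≤ K := by
    intro t; induction t with
    | zero => exact hKs0.le
    | succ t ih => exact (hstep t).trans ih
  obtain ⟨m, hm⟩ : ∃ m, L.relIndex K = p ^ m := by
    have h1 : L.relIndex K ∣ Nat.card K := L.relIndex_dvd_card K
    obtain ⟨e, he⟩ := hG.exists_card_eq
    obtain ⟨m, _, hm⟩ := (Nat.dvd_prime_pow Fact.out).mp (h1.trans (he ▸ K.card_subgroup_dvd_card))
    exact ⟨m, hm⟩
  have hp := (Fact.out : p.Prime)
  have hdec : ∀ t, Ks t ≤ L ∨ p ^ t * L.relIndex (Ks t ⊔ L) ∣ p ^ m := by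
    intro t; induction t with
    | zero => exact Or.inr (by rw [pow_zero, one_mul, hKs0, sup_eq_left.mpr hLK, hm])
    | succ t ih =>
      have hmono : Ks (t + 1) ⊔ L ≤ Ks t ⊔ L := by
        exact sup_le_sup_right (hstep t) _
      rcases ih with h | h
      · exact Or.inl ((hstep t).trans h)
      · by_cases hle : Ks t ≤ L
        · exact Or.inl ((hstep t).trans hle)
        · refine Or.inr ?_
          have hne : ¬ Ks t ⊔ L ≤ Ks (t + 1) ⊔ L := fun e => hle (hshrink _ (by rw [← hKsS]; exact le_sup_left.trans e))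
          have hmul := Subgroup.relIndex_mul_relIndex L (Ks (t + 1) ⊔ L) (Ks t ⊔ L) le_sup_right hmono
          have hr : p ∣ (Ks (t + 1) ⊔ L).relIndex (Ks t ⊔ L) := by
            have h1 : (Ks (t + 1) ⊔ L).relIndex (Ks t ⊔ L) ∣ p ^ m :=
              (Dvd.intro_left _ hmul).trans ((dvd_mul_left _ _).trans h)
            obtain ⟨e, _, he⟩ := (Nat.dvd_prime_pow hp).mp h1
            rcases Nat.eq_zero_or_pos e with e0 | e0
            · exact absurd (Subgroup.relIndex_eq_one.mp (by rw [he, e0, pow_zero])) hne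
            · rw [he]; exact dvd_pow_self p (by omega)
          calc p ^ (t + 1) * L.relIndex (Ks (t + 1) ⊔ L)
              = p ^ t * (L.relIndex (Ks (t + 1) ⊔ L) * p) := by ring
            _ ∣ p ^ t * L.relIndex (Ks t ⊔ L) := by
              rw [← hmul]; exact Nat.mul_dvd_mul_left _ (Nat.mul_dvd_mul_left _ hr)
            _ ∣ p ^ m := h
  have hKm : Ks m ≤ L := by
    rcases hdec m with h | h
    · exact h
    · have h1 : L.relIndex (Ks m ⊔ L) ∣ 1 := by
        have := h; nth_rewrite 2 [← mul_one (p ^ m)] at this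
        exact (Nat.mul_dvd_mul_iff_left (pow_pos hp.pos m)).mp this
      exact le_sup_left.trans (Subgroup.relIndex_eq_one.mp (Nat.dvd_one.mp h1))
  rw [hm]
  refine Nat.pow_le_pow_right hp.pos ?_
  by_contra hmn
  push Not at hmn
  have hanti : ∀ a b, a ≤ b → Ks b ≤ Ks a := by
    intro a b hab
    induction hab with
    | refl => exact le_rfl
    | @step b _ ih => exact (hstep b).trans ih
  have hL1 : L ≤ ⁅L, (⊤ : Subgroup G)⁆ :=
    calc L = ⁅K, N⁆ := hLeq
      _ ≤ ⁅Ks 0, (⊤ : Subgroup G).lowerCentralSeries (n - 1)⁆ := (hKs0.symm ▸ Subgroup.commutator_mono le_rfl hN)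
      _ ≤ Ks (0 + (n - 1) + 1) := hgam _ _
      _ ≤ Ks (m + 1) := hanti _ _ (by omega)
      _ ≤ ⁅L, (⊤ : Subgroup G)⁆ := by rw [hKsS]; exact Subgroup.commutator_mono hKm le_rfl
  apply hne
  rw [eq_bot_iff]
  have : ∀ j, L ≤ (⊤ : Subgroup G).lowerCentralSeries j := by
    intro j; induction j with
    | zero => simp [Subgroup.lowerCentralSeries_zero]
    | succ j ih => rw [Subgroup.lowerCentralSeries_succ]; exact hL1.trans (Subgroup.commutator_mono ih le_rfl)
  exact hc ▸ this c

end Cfsg.Agent.S3781
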