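import Cfsg.Statements.S3331
import Cfsg.Agent.Lib.H59.SelfThree.Structure
import Cfsg.Agent.S0495

set_option autoImplicit false
open Cfsg

namespace Cfsg.Agent.S3331

/-- Let G be a finite group containing a subgroup X of order 3 with C_G(X) = X. Then one of the following holds: G has a nilpotent normal subgroup N of order prime to 3 with G/N of order 3 or isomorphic to Sym(3); or G has an elementary abelian normal 2-subgroup N with G/N isomorphic to the alternating group of degree 5; or G is isomorphic to PSL(2,7). -/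
theorem result {G : Type*} [Group G] [Finite G]
    (X : Subgroup G) (hX : Nat.card X = 3) (hC : Subgroup.centralizer (X : Set G) = X) :
    (∃ (N : Subgroup G) (hN : N.Normal), Group.IsNilpotent N ∧ (Nat.card N).Coprime 3 ∧
        (Nat.card (G ⧸ N) = 3 ∨ Nonempty (G ⧸ N ≃* Equiv.Perm (Fin 3)))) ∨
    (∃ (N : Subgroup G) (hN : N.Normal), IsMulCommutative N ∧ (∀ n ∈ N, n ^ 2 = 1) ∧
        Nonempty (G ⧸ N ≃* alternatingGroup (Fin 5))) ∨
    Nonempty (G ≃* Matrix.ProjectiveSpecialLinearGroup (Fin 2) (ZMod 7)) := by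
  haveI : Fact (Nat.Prime 3) := ⟨Nat.prime_three⟩
  obtain ⟨⟨x, hxX⟩, hxo⟩ := exists_prime_orderOf_dvd_card' 3 (show 3 ∣ Nat.card X by rw [hX])
  rw [Subgroup.orderOf_mk] at hxo
  have hXx : X = Subgroup.zpowers x := (Subgroup.eq_of_le_of_card_ge (Subgroup.zpowers_le.2 hxX)
    (by rw [hX, Nat.card_zpowers, hxo])).symm
  subst hXx
  have hC' : Subgroup.centralizer ({x} : Set G) = Subgroup.zpowers x := by
    rw [← Subgroup.centralizer_closure, ← Subgroup.zpowers_eq_closure]
    exact hC
  rcases Cfsg.Agent.Lib.H59.SelfThree.isShape hxo hC' with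
    ⟨N, hN, hnil, hN3, hidx⟩ | ⟨N, hN, hab, hsq, he⟩ | ⟨hsimple, h168⟩
  · haveI := hN
    refine Or.inl ⟨N, hN, hnil, (Nat.prime_three.coprime_iff_not_dvd.2 hN3).symm, ?_⟩
    rcases hidx with h | h
    · exact Or.inl (by rw [← Subgroup.index_eq_card, h])
    · right
      have hne : ¬ IsCyclic (G ⧸ N) := by
        intro hc
        letI := hc.commGroup
        have hxq : orderOf (QuotientGroup.mk x : G ⧸ N) = 3 :=
          Cfsg.Agent.Lib.SelfCentral.quotient_orderOf Nat.prime_three hxo N hN3
        have hle : (⊤ : Subgroup (G ⧸ N)) ≤ Subgroup.zpowers (QuotientGroup.mk x : G ⧸ N) := by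
          rw [← Cfsg.Agent.Lib.SelfCentral.quotient_centralizer Nat.prime_three hxo hC' N hN3]
          exact fun a _ => Subgroup.mem_centralizer_singleton_iff.2 (mul_comm a _)
        have := Subgroup.card_le_of_le hle
        rw [Subgroup.card_top, ← Subgroup.index_eq_card, h, Nat.card_zpowers, hxq] at this
        omega
      obtain ⟨e⟩ := Cfsg.Agent.Lib.H59.SelfThree.perm_three_of_card_six (G ⧸ N)
        (by rw [← Subgroup.index_eq_card, h]) hne
      exact ⟨e⟩
  · exact Or.inr (Or.inl ⟨N, hN, hab, hsq, he⟩)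
  · right; right
    haveI := hsimple
    haveI : Fact (Nat.Prime 7) := ⟨by norm_num⟩
    exact Cfsg.Agent.S0495.result h168 (F := ZMod 7) (ZMod.card 7)

end Cfsg.Agent.S3331
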