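import Cfsg.Statements.S0695
import Cfsg.Agent.Lib.Perm.RegularNormal
open scoped Pointwise

set_option autoImplicit false
open Cfsg

namespace Cfsg.Agent.S0695

/-- A regular normal subgroup of a doubly primitive group of finite degree at least 2 is an elementary abelian 2-group (and the degree is a power of 2), unless the degree is 3. -/
theorem result {G : Type*} [Group G] {X : Type*} [Fintype X] [MulAction G X] (hX : 2 ≤ Fintype.card X) (h2 : MulAction.IsMultiplyPreprimitive G X 2) (N : Subgroup G) [N.Normal] (htrans : MulAction.IsPretransitive N X) (hreg : ∀ x : X, MulAction.stabilizer N x = ⊥) : Fintype.card X = 3 ∨ (IsMulCommutative N ∧ (∀ n ∈ N, n ^ 2 = 1) ∧ ∃ m : ℕ, Fintype.card X = 2 ^ m) := by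
  classical
  have h2' : MulAction.IsMultiplyPretransitive G X 2 :=
    MulAction.IsMultiplyPreprimitive.isMultiplyPretransitive G X 2
  haveI := htrans
  haveI : Nontrivial X := Fintype.one_lt_card_iff_nontrivial.mp hX
  obtain ⟨a⟩ : Nonempty X := inferInstance
  have ha := hreg a
  obtain ⟨p, hp, hc, he, j, hj1, hj⟩ := Lib.Perm.regularNormal_elementaryAbelian N h2' ha
  rw [Nat.card_eq_fintype_card] at hj
  by_cases hp2 : p = 2
  · exact Or.inr ⟨hc, hp2 ▸ he, j, hp2 ▸ hj⟩
  refine Or.inl ?_
  haveI : MulAction.IsPretransitive G X := Lib.Perm.isPretransitive_of_two h2'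
  haveI := h2
  haveI hprim : MulAction.IsPreprimitive (MulAction.stabilizer G a)
      (SubMulAction.ofStabilizer G a) :=
    (MulAction.is_one_preprimitive_iff _ _).mp
      (MulAction.isMultiplyPreprimitive_ofStabilizer G X (n := 1) (a := a))
  obtain ⟨x, hx⟩ := exists_ne a
  obtain ⟨n, hn, rfl⟩ := Lib.Perm.exists_mem_smul_eq N a x
  have hn1 : n ≠ 1 := by rintro rfl; exact hx (one_smul G a)
  have hninv : n ≠ n⁻¹ := fun e => by
    have h2n : n ^ 2 = 1 := by rw [pow_two]; exact eq_inv_iff_mul_eq_one.mp e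
    have h := orderOf_dvd_of_pow_eq_one h2n
    rw [orderOf_eq_prime (hp := ⟨hp⟩) (he n hn) hn1] at h
    exact hp2 ((Nat.prime_dvd_prime_iff_eq hp Nat.prime_two).mp h)
  let B : Set (SubMulAction.ofStabilizer G a) := {y | (y : X) = n • a ∨ (y : X) = n⁻¹ • a}
  have hB : MulAction.IsBlock (MulAction.stabilizer G a) B := by
    rw [MulAction.isBlock_iff_smul_eq_of_nonempty]
    intro g hne
    obtain ⟨y, hyg, hy⟩ := hne
    obtain ⟨z, hz, rfl⟩ := hyg
    have hg : (g : G) • a = a := g.2
    have hc1 := Lib.Perm.conj_smul_of_fix hg n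
    have hc2 := Lib.Perm.conj_smul_of_fix hg n⁻¹
    rw [← conj_inv] at hc2
    set m := (g : G) * n * (g : G)⁻¹
    have hm : m ∈ N := Subgroup.Normal.conj_mem ‹_› n hn g
    have hsame : m = n ∨ m = n⁻¹ := by
      rcases hz with hz | hz <;> rcases hy with hy | hy <;>
        rw [SetLike.val_smul, Subgroup.smul_def, hz] at hy
      · exact Or.inl (Lib.Perm.eq_of_smul_eq_of_regular N ha hm hn (hc1.trans hy))
      · exact Or.inr (Lib.Perm.eq_of_smul_eq_of_regular N ha hm (N.inv_mem hn) (hc1.trans hy))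
      · exact Or.inr (inv_eq_iff_eq_inv.mp
          (Lib.Perm.eq_of_smul_eq_of_regular N ha (N.inv_mem hm) hn (hc2.trans hy)))
      · exact Or.inl (inv_injective
          (Lib.Perm.eq_of_smul_eq_of_regular N ha (N.inv_mem hm) (N.inv_mem hn) (hc2.trans hy)))
    ext y
    rw [Set.mem_smul_set_iff_inv_smul_mem]
    show ((((g⁻¹ • y : SubMulAction.ofStabilizer G a)) : X) = n • a ∨ _) ↔ ((y : X) = n • a ∨ _)
    rw [SetLike.val_smul, Subgroup.smul_def, Subgroup.coe_inv, inv_smul_eq_iff, inv_smul_eq_iff,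
      ← hc1, ← hc2]
    rcases hsame with e | e <;> rw [e]
    rw [inv_inv, or_comm]
  have hni : n⁻¹ • a ≠ a :=
    Lib.Perm.smul_ne_of_regular N ha (N.inv_mem hn) (inv_ne_one.mpr hn1)
  rcases MulAction.IsPreprimitive.isTrivialBlock_of_isBlock hB with hs | hu
  · have := hs (show (⟨n • a, hx⟩ : SubMulAction.ofStabilizer G a) ∈ B from Or.inl rfl)
      (show (⟨n⁻¹ • a, hni⟩ : SubMulAction.ofStabilizer G a) ∈ B from Or.inr rfl)
    exact absurd (Lib.Perm.eq_of_smul_eq_of_regular N ha hn (N.inv_mem hn)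
      (congrArg Subtype.val this)) hninv
  · have huniv : (Set.univ : Set X) = ({a, n • a, n⁻¹ • a} : Set X) := by
      ext y
      simp only [Set.mem_univ, true_iff, Set.mem_insert_iff, Set.mem_singleton_iff]
      by_cases hy : y = a
      · exact Or.inl hy
      · exact Or.inr (Set.eq_univ_iff_forall.mp hu ⟨y, hy⟩)
    have hcard := congrArg Set.ncard huniv
    have hne' : n • a ≠ n⁻¹ • a := fun e =>
      hninv (Lib.Perm.eq_of_smul_eq_of_regular N ha hn (N.inv_mem hn) e)
    rw [Set.ncard_univ, Nat.card_eq_fintype_card, Set.ncard_insert_of_notMem (by simp [hx.symm, hni.symm]),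
      Set.ncard_pair hne'] at hcard
    exact hcard

end Cfsg.Agent.S0695
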