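import Cfsg.Statements.S0618
import Mathlib
import Cfsg.Agent.Lib.Offenders.Failure

set_option autoImplicit false
open Cfsg

namespace Cfsg.Agent.S0618

open Cfsg.Agent.Lib
open Cfsg.Agent.Lib.Offenders
open Subgroup

/-- The core argument. -/
theorem core_result {G : Type*} [Group G] [Finite G] {p : ℕ} [Fact p.Prime]
    (hsep : IsPSolvable p G) (hO : pPrimeCore p G = ⊥) (hnf : ¬ IsThompsonFactorizable p G)
    (V : Subgroup G) [V.Normal] (hV : V = SylowCentre.omegaJoin p G) :
    (p = 2 ∨ p = 3) ∧ ∃ E : Subgroup G, centralizer (V : Set G) ≤ E ∧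
      E ≤ thompsonSubgroup p G ⊔ centralizer (V : Set G) ∧
      thompsonSubgroup p G ⊔ centralizer (V : Set G) ≤ normalizer (E : Set G) ∧
      ∃ hn : ((centralizer (V : Set G)).subgroupOf E).Normal,
        Nonempty ((↥E ⧸ (centralizer (V : Set G)).subgroupOf E) ≃*
          Matrix.SpecialLinearGroup (Fin 2) (ZMod p)) := by
  subst hV
  set V := SylowCentre.omegaJoin p G
  have hel := Failure.elemAb_omegaJoin hsep hO
  set C := centralizer (V : Set G) with hC
  set Γ := Model.Hol V
  set H := thompsonSubgroup p G ⊔ C with hH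
  have hS : Setup p (Model.base V) (H.map (Model.nu V)) :=
    Failure.setup_thompson hel hsep Failure.pCore_quotient_omegaJoin
  have hgen : IsGenerated p (Model.base V) (H.map (Model.nu V)) :=
    Model.isGenerated_thompson hel le_rfl
  obtain ⟨⟨B, hB⟩⟩ : Nonempty {B : Subgroup Γ // IsTransvGroup p (Model.base V) (H.map (Model.nu V)) B} := by
    by_contra hne
    rw [not_nonempty_iff] at hne
    refine hnf ((Agent.S0608.result hO).2 ?_)
    have h1 : H.map (Model.nu V) ≤ ⊥ := (hS.le_iSup_all hgen).trans (iSup_le fun B => isEmptyElim B)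
    rw [le_bot_iff, Subgroup.map_eq_bot_iff, Model.ker_nu] at h1
    exact le_sup_left.trans h1
  refine ⟨hS.small_prime hB, ?_⟩
  set E' := groupE p (H.map (Model.nu V)) B with hE'
  refine ⟨H ⊓ E'.comap (Model.nu V), le_inf le_sup_right fun x hx => ?_, inf_le_left, ?_, ?_⟩
  · rw [mem_comap, Model.nu_eq_one_iff.2 hx]
    exact one_mem _
  · refine le_trans ?_ inf_normalizer_le_normalizer_inf
    refine le_inf le_normalizer fun h hh => le_normalizer_comap _ ?_
    exact mem_comap.2 (hS.le_normalizer_groupE hgen hB (mem_map_of_mem _ hh))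
  · refine ⟨inferInstance, ?_⟩
    obtain ⟨e⟩ := Failure.quotient_equiv (Model.nu V) (H ⊓ E'.comap (Model.nu V)) C
      fun d _ => Model.nu_eq_one_iff
    obtain ⟨e'⟩ := hS.nonempty_mulEquiv hB
    have heq : (H ⊓ E'.comap (Model.nu V)).map (Model.nu V) = E' := by
      refine le_antisymm (map_le_iff_le_comap.2 inf_le_right) fun y hy => ?_
      obtain ⟨h, hh, rfl⟩ := hS.groupE_le hB hy
      exact ⟨h, ⟨hh, hy⟩, rfl⟩
    exact ⟨e.trans ((MulEquiv.subgroupCongr heq).trans e')⟩


/-- A p-separable group with trivial p'-core in which the Thompson factorization fails has p = 2 or 3, and J(G) induces on the normal closure of Ω₁(Z(S)) a group containing a normal SL(2, p). -/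
theorem result {G : Type*} [Group G] [Finite G] {p : ℕ} [Fact p.Prime] (hsep : Cfsg.IsPSolvable p G) (hO : Cfsg.pPrimeCore p G = ⊥) (hnf : ¬ Cfsg.IsThompsonFactorizable p G) : (p = 2 ∨ p = 3) ∧ ∃ E : Subgroup G, Subgroup.centralizer ((⨆ S : Sylow p G, Cfsg.omegaOne p ((S : Subgroup G) ⊓ Subgroup.centralizer ((S : Subgroup G) : Set G))) : Set G) ≤ E ∧ E ≤ Cfsg.thompsonSubgroup p G ⊔ Subgroup.centralizer ((⨆ S : Sylow p G, Cfsg.omegaOne p ((S : Subgroup G) ⊓ Subgroup.centralizer ((S : Subgroup G) : Set G))) : Set G) ∧ Cfsg.thompsonSubgroup p G ⊔ Subgroup.centralizer ((⨆ S : Sylow p G, Cfsg.omegaOne p ((S : Subgroup G) ⊓ Subgroup.centralizer ((S : Subgroup G) : Set G))) : Set G) ≤ Subgroup.normalizer (E : Set G) ∧ ∃ hn : ((Subgroup.centralizer ((⨆ S : Sylow p G, Cfsg.omegaOne p ((S : Subgroup G) ⊓ Subgroup.centralizer ((S : Subgroup G) : Set G))) : Set G)).subgroupOf E).Normal, Nonempty ((↥E ⧸ (Subgroup.centralizer ((⨆ S : Sylow p G, Cfsg.omegaOne p ((S : Subgroup G) ⊓ Subgroup.centralizer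 ((S : Subgroup G) : Set G))) : Set G)).subgroupOf E) ≃* Matrix.SpecialLinearGroup (Fin 2) (ZMod p)) := by

  have := SylowCentre.normal_omegaJoin (G := G) (p := p)
  have h : centralizer (SylowCentre.omegaJoin p G : Set G) = centralizer
      (⨆ S : Sylow p G, ((omegaOne p ((S : Subgroup G) ⊓ centralizer ((S : Subgroup G) : Set G))) :
        Set G)) := by
    rw [SylowCentre.omegaJoin, iSup_eq_closure, centralizer_closure]
    rfl
  rw [← h]
  exact core_result hsep hO hnf _ rfl

end Cfsg.Agent.S0618
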