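import Cfsg.Statements.S2202
import Cfsg.Agent.Lib.AbelianInvCentralizer.Classify
import Cfsg.Agent.Lib.AbelianInvCentralizer.SylowTwo
-- import your own Cfsg.Agent.* helpers here

set_option autoImplicit false
set_option linter.style.haveILetI false
open Cfsg

namespace Cfsg.Agent.S2202

/-- Finite groups in which the centralizer of every involution is abelian. Let G be a finite group of even order in which the centralizer of every element of order 2 is abelian. Then the Sylow 2-subgroups of G are cyclic, or a Sylow 2-subgroup of G is normal, or G is isomorphic to the direct product of SL₂(F) for a finite field F of characteristic two and an abelian group of odd order. -/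
theorem result {G : Type*} [Group G] [Finite G] (heven : Even (Nat.card G)) (h : ∀ t : G, orderOf t = 2 → IsMulCommutative ↥(Subgroup.centralizer ({t} : Set G))) :
    (∀ P : Sylow 2 G, IsCyclic ↥P) ∨ (∀ P : Sylow 2 G, (P : Subgroup G).Normal) ∨
    (∃ (F : Type) (_ : Field F) (_ : Fintype F) (A : Type) (_ : CommGroup A) (_ : Finite A), CharP F 2 ∧ Odd (Nat.card A) ∧ Nonempty (G ≃* Matrix.SpecialLinearGroup (Fin 2) F × A)) := by
  have hC : Lib.AbelianInvCentralizer.HasAbelianCent G := fun t ht a b ha hb => by
    haveI := h t (Lib.AbelianInvCentralizer.isInv_iff.mp ht)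
    exact congrArg Subtype.val (mul_comm'
      (⟨a, Subgroup.mem_centralizer_singleton_iff.mpr ha⟩ : Subgroup.centralizer ({t} : Set G))
      ⟨b, Subgroup.mem_centralizer_singleton_iff.mpr hb⟩)
  obtain ⟨P⟩ : Nonempty (Sylow 2 G) := inferInstance
  rcases Lib.AbelianInvCentralizer.sylow_trichotomy hC P with hc | hn | ⟨hF, hS⟩
  · refine Or.inl fun Q => ?_
    obtain ⟨g, rfl⟩ := MulAction.exists_smul_eq G P Q
    exact (P.equiv (g • P)).isCyclic.mp hc
  · refine Or.inr (Or.inl fun Q => ?_)
    haveI := hn
    obtain ⟨g, rfl⟩ := MulAction.exists_smul_eq G P Q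
    rw [Sylow.smul_eq_of_normal]
    exact hn
  · obtain ⟨F, hFf, hFt, f, hchar, -, -, hodd, ⟨e⟩⟩ :=
      Lib.AbelianInvCentralizer.exists_slTwo_prod hC hS hF
    letI : CommGroup ↥(Subgroup.center G) :=
      { (inferInstance : Group ↥(Subgroup.center G)) with mul_comm := fun a b => Subtype.ext (Subgroup.mem_center_iff.mp b.2 a) }
    let σ : Shrink.{0} ↥(Subgroup.center G) ≃* ↥(Subgroup.center G) := Shrink.mulEquiv
    refine Or.inr (Or.inr ⟨F, hFf, hFt, Shrink.{0} ↥(Subgroup.center G), inferInstance,
      Finite.of_equiv _ σ.symm.toEquiv, hchar, ?_, ⟨e.trans ((MulEquiv.refl _).prodCongr σ.symm)⟩⟩)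
    rwa [Nat.card_congr σ.toEquiv]

end Cfsg.Agent.S2202
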