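import Cfsg.Statements.S0223
import Mathlib
import Cfsg.Agent.Lib.Involution.StronglyEmbedded

set_option autoImplicit false
open Cfsg
open Cfsg.Agent.Lib.Involution

namespace Cfsg.Agent.S0223

/-- Let H be a proper subgroup of even order of the finite group G. Then H is strongly embedded if and only if (i) C_G(t) ≤ H for every involution t of H and (ii) H controls fusion of its involutions: involutions of H conjugate in G are conjugate in H. -/
theorem result {G : Type*} [Group G] [Finite G] (H : Subgroup G) (hH : H ≠ ⊤) (heven : Even (Nat.card H)) : Cfsg.IsStronglyEmbedded H ↔ ((∀ t ∈ H, orderOf t = 2 → Subgroup.centralizer ({t} : Set G) ≤ H) ∧ (∀ t ∈ H, ∀ s ∈ H, orderOf t = 2 → orderOf s = 2 → IsConj t s → ∃ h ∈ H, h * t * h⁻¹ = s)) := by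
  rw [isStronglyEmbedded_iff]
  constructor
  · rintro ⟨-, -, h⟩
    refine ⟨fun t htH ht g hg => h t htH ht g ?_, fun t htH s hsH ht hs hts => ?_⟩
    · rwa [Subgroup.mem_centralizer_singleton_iff.mp hg, mul_inv_cancel_right]
    · obtain ⟨g, rfl⟩ := isConj_iff.mp hts
      exact ⟨g, h t htH ht g hsH, rfl⟩
  · rintro ⟨h1, h2⟩
    refine ⟨hH, heven, fun t htH ht g hg => ?_⟩
    obtain ⟨k, hkH, hk⟩ := h2 t htH _ hg ht (by rw [orderOf_conj_eq, ht]) (isConj_iff.mpr ⟨g, rfl⟩)
    have hmem : k⁻¹ * g ∈ Subgroup.centralizer ({t} : Set G) := by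
      rw [Subgroup.mem_centralizer_singleton_iff]
      have := congrArg (fun z => k⁻¹ * z * g) hk
      simp only [mul_assoc, inv_mul_cancel_left, inv_mul_cancel, mul_one] at this ⊢
      exact this.symm
    have := H.mul_mem hkH (h1 t htH ht hmem)
    rwa [mul_inv_cancel_left] at this

end Cfsg.Agent.S0223
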