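import Cfsg.Statements.S2427
import Mathlib
-- import your own Cfsg.Agent.* helpers here

set_option autoImplicit false
open Cfsg

namespace Cfsg.Agent.S2427


/-- `SL(2,3)`. -/
abbrev G3 := Matrix.SpecialLinearGroup (Fin 2) (ZMod 3)

lemma facts :
    (∀ a b : G3, a ^ 4 = 1 → b ^ 4 = 1 → (a * b) ^ 4 = 1) ∧
    (∀ a b : G3, (a * b * a⁻¹ * b⁻¹) ^ 4 = 1) ∧
    (∀ g : G3, g ^ 4 = 1 → ∃ a b : G3, g = a * b * a⁻¹ * b⁻¹) ∧
    (∀ s : G3, s ^ 4 = 1 ∧ s ^ 2 ≠ 1 → ∀ t : G3, t ^ 4 = 1 ∧ t ^ 2 ≠ 1 → ∃ c, c * s * c⁻¹ = t) ∧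
    (∀ g : G3, (¬ ∀ h, h * g = g * h) → ∃ h, (g * h * g⁻¹ * h⁻¹) ^ 4 = 1 ∧
      (g * h * g⁻¹ * h⁻¹) ^ 2 ≠ 1) ∧
    (∀ t : G3, t ^ 2 = 1 → ∃ u : G3, u ^ 4 = 1 ∧ u ^ 2 ≠ 1 ∧ (t = u * u ∨ t = 1)) ∧
    (Fintype.card G3 = 24 ∧ Fintype.card {g : G3 // g ^ 4 = 1} = 8) ∧
    Fintype.card {g : G3 // ∀ h, h * g = g * h} = 2 := by
  refine ⟨?_, ?_, ?_, ?_, ?_, ?_, ⟨?_, ?_⟩, ?_⟩ <;> decide +kernel

/-- `i`. -/
def qi : G3 := ⟨!![0, 1; -1, 0], by decide⟩

/-- `j`. -/
def qj : G3 := ⟨!![1, 1; 1, -1], by decide⟩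

/-- The map from the quaternion group. -/
def qmap : QuaternionGroup 2 → G3
  | .a n => qi ^ n.val
  | .xa n => qj * qi ^ n.val

lemma exists_hom : ∃ f : QuaternionGroup 2 →* G3, Function.Injective f ∧ ∀ x, f x ^ 4 = 1 := by
  have h : (qmap 1 = 1 ∧ ∀ x y, qmap (x * y) = qmap x * qmap y) ∧
      (∀ x y, qmap x = qmap y → x = y) ∧ ∀ x, qmap x ^ 4 = 1 := by decide +kernel
  exact ⟨{ toFun := qmap, map_one' := h.1.1, map_mul' := h.1.2 }, h.2.1, h.2.2⟩


/-- The group SL₂ over the field with 3 elements has order 24 and centre of order 2; its commutator subgroup has order 8, is isomorphic to the quaternion group of order 8 and is complemented by every Sylow 3-subgroup (so the group is a semidirect product of a quaternion group of order 8 by a cyclic group of order 3); and its only normal subgroups besides the trivial subgroup and the whole group are the centre and the commutator subgroup. -/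
theorem result :
    Nat.card (Matrix.SpecialLinearGroup (Fin 2) (ZMod 3)) = 24 ∧
    Nat.card (Subgroup.center (Matrix.SpecialLinearGroup (Fin 2) (ZMod 3))) = 2 ∧
    Nat.card (commutator (Matrix.SpecialLinearGroup (Fin 2) (ZMod 3))) = 8 ∧
    Nonempty (commutator (Matrix.SpecialLinearGroup (Fin 2) (ZMod 3)) ≃* QuaternionGroup 2) ∧
    (∀ P : Sylow 3 (Matrix.SpecialLinearGroup (Fin 2) (ZMod 3)),
      Subgroup.IsComplement' (commutator (Matrix.SpecialLinearGroup (Fin 2) (ZMod 3)))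
        (P : Subgroup (Matrix.SpecialLinearGroup (Fin 2) (ZMod 3)))) ∧
    ∀ N : Subgroup (Matrix.SpecialLinearGroup (Fin 2) (ZMod 3)), N.Normal →
      N = ⊥ ∨ N = ⊤ ∨ N = Subgroup.center (Matrix.SpecialLinearGroup (Fin 2) (ZMod 3)) ∨
        N = commutator (Matrix.SpecialLinearGroup (Fin 2) (ZMod 3)) := by
  classical
  obtain ⟨hmul, hcomm, hgen, hconj, hreach, hsq, hcard, hz⟩ := facts
  let Q : Subgroup G3 :=
    { carrier := {g | g ^ 4 = 1}
      mul_mem' := fun {a b} ha hb => hmul a b ha hb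
      one_mem' := one_pow _
      inv_mem' := fun {a} (ha : a ^ 4 = 1) => show (a⁻¹) ^ 4 = 1 by rw [inv_pow, ha, inv_one] }
  have hQc : commutator G3 = Q := by
    apply le_antisymm
    · rw [commutator_def, Subgroup.commutator_le]
      intro a _ b _
      exact hcomm a b
    · intro g hg
      obtain ⟨a, b, e⟩ := hgen g hg
      rw [e, commutator_def]
      exact Subgroup.commutator_mem_commutator (Subgroup.mem_top a) (Subgroup.mem_top b)
  have hQ8 : Nat.card Q = 8 := by
    show Nat.card {g : G3 // g ^ 4 = 1} = 8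
    rw [Nat.card_eq_fintype_card]; exact hcard.2
  have hG : Nat.card G3 = 24 := by rw [Nat.card_eq_fintype_card]; exact hcard.1
  refine ⟨hG, ?_, by rw [hQc]; exact hQ8, ?_, ?_, ?_⟩
  · rw [show Nat.card (Subgroup.center G3) = Nat.card {g : G3 // ∀ h, h * g = g * h} from
      Nat.card_congr (Equiv.subtypeEquivRight fun g => Subgroup.mem_center_iff),
      Nat.card_eq_fintype_card]
    exact hz
  · obtain ⟨f, hf, hfQ⟩ := exists_hom
    let f' : QuaternionGroup 2 →* commutator G3 := f.codRestrict _ (fun x => hQc ▸ hfQ x)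
    have hb : Function.Bijective f' := by
      rw [Nat.bijective_iff_injective_and_card]
      refine ⟨fun a b h => hf (congrArg Subtype.val h), ?_⟩
      rw [hQc, hQ8, Nat.card_eq_fintype_card, QuaternionGroup.card]
    exact ⟨(MulEquiv.ofBijective f' hb).symm⟩
  · intro P
    have hP : Nat.card (P : Subgroup G3) = 3 := by
      rw [P.card_eq_multiplicity, hG, show (24 : ℕ) = 2 ^ 3 * 3 from rfl,
        Nat.factorization_mul (by norm_num) (by norm_num), Finsupp.add_apply,
        Nat.Prime.factorization_self Nat.prime_three,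
        Nat.factorization_eq_zero_of_not_dvd (by norm_num : ¬ 3 ∣ 2 ^ 3)]
      rfl
    refine Subgroup.isComplement'_of_coprime ?_ ?_
    · rw [hQc, hQ8, hP, hG]
    · rw [hQc, hQ8, hP]; norm_num
  · intro N hN
    by_cases hNc : N ≤ Subgroup.center G3
    · rcases eq_or_ne N ⊥ with h | h
      · exact Or.inl h
      · refine Or.inr (Or.inr (Or.inl (Subgroup.eq_of_le_of_card_ge hNc ?_)))
        have h2 : 2 ≤ Nat.card N := by
          by_contra hlt
          exact h (Subgroup.card_eq_one.1 (by have := Nat.card_pos (α := N); omega))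
        rw [show Nat.card (Subgroup.center G3) = Nat.card {g : G3 // ∀ h, h * g = g * h} from
          Nat.card_congr (Equiv.subtypeEquivRight fun g => Subgroup.mem_center_iff),
          Nat.card_eq_fintype_card, hz]
        exact h2
    · obtain ⟨g, hgN, hgc⟩ := SetLike.not_le_iff_exists.1 hNc
      rw [Subgroup.mem_center_iff] at hgc
      obtain ⟨h, hh4, hh2⟩ := hreach g hgc
      have hs : g * h * g⁻¹ * h⁻¹ ∈ N := by
        rw [show g * h * g⁻¹ * h⁻¹ = g * (h * g⁻¹ * h⁻¹) by group]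
        exact N.mul_mem hgN (hN.conj_mem _ (N.inv_mem hgN) h)
      have hQN : Q ≤ N := by
        intro t ht
        have h4 : ∀ u : G3, u ^ 4 = 1 → u ^ 2 ≠ 1 → u ∈ N := fun u hu hu2 => by
          obtain ⟨c, hc⟩ := hconj _ ⟨hh4, hh2⟩ u ⟨hu, hu2⟩
          exact hc ▸ hN.conj_mem _ hs c
        by_cases ht2 : t ^ 2 = 1
        · obtain ⟨u, hu, hu2, e⟩ := hsq t ht2
          rcases e with e | e <;> rw [e]
          · exact N.mul_mem (h4 u hu hu2) (h4 u hu hu2)
          · exact N.one_mem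
        · exact h4 t ht ht2
      rcases eq_or_lt_of_le hQN with e | e
      · exact Or.inr (Or.inr (Or.inr (hQc.trans e).symm))
      · refine Or.inr (Or.inl (Subgroup.eq_top_of_card_eq _ ?_))
        obtain ⟨j, hj⟩ := Subgroup.card_dvd_of_le hQN
        have hd := Subgroup.card_subgroup_dvd_card N
        have hj1 : j ≠ 1 := fun h => e.ne (Subgroup.eq_of_le_of_card_ge hQN (by rw [hj, h, mul_one]))
        rw [hQ8] at hj
        rw [hG] at hd ⊢
        rw [hj] at hd ⊢
        have := Nat.le_of_dvd (by norm_num) hd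
        obtain ⟨k, hk⟩ := hd
        rcases (show j = 0 ∨ j = 2 ∨ j = 3 by omega) with rfl | rfl | rfl <;> omega

end Cfsg.Agent.S2427
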