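import Cfsg.Statements.S5112
import Cfsg.Agent.Lib.Fusion.Alperin

set_option autoImplicit false
open Cfsg
open Cfsg.FusionSystem Cfsg.Agent.Lib.Fusion

namespace Cfsg.Agent.S5112

theorem isPGroup_mulAut_of_cyclic {X : Type*} [Group X] (r s : X) (m : ℕ)
    (hr : orderOf r = 2 ^ m) (hgen : ∀ x : X, x ∈ Subgroup.zpowers r ∨ s⁻¹ * x ∈ Subgroup.zpowers r)
    (hout : ∀ x : X, x ∉ Subgroup.zpowers r → orderOf x ≠ 2 ^ m)
    (hs : s ∉ Subgroup.zpowers r) : IsPGroup 2 (MulAut X) := by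
  intro α
  have hfin : IsOfFinOrder r := by
    rw [← orderOf_pos_iff, hr]
    exact Nat.two_pow_pos m
  -- some `2`-power of `α` fixes `r`
  obtain ⟨k, hk⟩ : ∃ k, (α ^ 2 ^ k) r = r := by
    have hαr : α r ∈ Subgroup.zpowers r := by
      by_contra h
      exact hout _ h ((MulEquiv.orderOf_eq α r).trans hr)
    obtain ⟨a, ha'⟩ := hfin.mem_powers_iff_mem_zpowers.2 hαr
    change r ^ a = α r at ha'
    rcases Nat.eq_zero_or_pos m with rfl | hm
    · exact ⟨0, by rw [pow_zero, orderOf_eq_one_iff] at hr; rw [hr, map_one]⟩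
    have hiter : ∀ j : ℕ, (α ^ j) r = r ^ a ^ j := by
      intro j
      induction j with
      | zero => simp
      | succ j ih =>
        rw [pow_succ', MulAut.mul_apply, ih, map_pow, ← ha', ← pow_mul, pow_succ']
    have hcop : a.Coprime (2 ^ m) := by
      have h1 := (MulEquiv.orderOf_eq α r)
      have ha0 : a ≠ 0 := by
        rintro rfl
        rw [pow_zero] at ha'
        have hr1 : r = 1 := α.injective (ha'.symm.trans (map_one α).symm)
        rw [hr1, orderOf_one] at hr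
        exact (Nat.one_lt_two_pow hm.ne').ne hr
      rw [← ha', orderOf_pow' r ha0, hr] at h1
      have h2 : Nat.gcd (2 ^ m) a = 1 := by
        have h3 := Nat.div_mul_cancel (Nat.gcd_dvd_left (2 ^ m) a)
        rw [h1] at h3
        exact mul_left_cancel₀ (Nat.two_pow_pos m).ne' (h3.trans (mul_one _).symm)
      exact (Nat.coprime_comm.1 h2)
    refine ⟨m - 1, ?_⟩
    have h4 := Nat.ModEq.pow_totient hcop
    rw [Nat.totient_prime_pow Nat.prime_two hm, show (2 - 1 : ℕ) = 1 from rfl, mul_one] at h4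
    rw [hiter]
    conv_rhs => rw [← pow_one r]
    rwa [pow_eq_pow_iff_modEq, hr]
  set β := α ^ 2 ^ k
  obtain ⟨i, hi⟩ : s⁻¹ * β s ∈ Subgroup.zpowers r := by
    refine (hgen (β s)).resolve_left fun h => hs ?_
    obtain ⟨j, hj⟩ := h
    refine ⟨j, β.injective ?_⟩
    show β (r ^ j) = β s
    rw [map_zpow, hk]
    exact hj
  change r ^ i = s⁻¹ * β s at hi
  have hit : ∀ j : ℕ, (β ^ j) s = s * (r ^ i) ^ j := by
    intro j
    induction j with
    | zero => simp
    | succ j ih =>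
      rw [pow_succ', MulAut.mul_apply, ih, map_mul, map_pow, map_zpow, hk,
        show β s = s * r ^ i by rw [hi, mul_inv_cancel_left], mul_assoc, pow_succ']
  have hfix : ∀ j : ℕ, (β ^ j) r = r := by
    intro j
    induction j with
    | zero => simp
    | succ j ih => rw [pow_succ', MulAut.mul_apply, ih, hk]
  refine ⟨k + m, ?_⟩
  rw [pow_add, pow_mul]
  have hrm : (r ^ i) ^ 2 ^ m = 1 := by
    rw [← hr, ← zpow_natCast, ← zpow_mul, mul_comm, zpow_mul, zpow_natCast, pow_orderOf_eq_one,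
      one_zpow]
  refine MulEquiv.ext fun x => ?_
  rcases hgen x with ⟨j, rfl⟩ | ⟨j, hj⟩
  · show (β ^ 2 ^ m) (r ^ j) = r ^ j
    rw [map_zpow, hfix]
  · have hx : x = s * r ^ j := by
      change r ^ j = s⁻¹ * x at hj
      rw [hj, mul_inv_cancel_left]
    show (β ^ 2 ^ m) x = x
    rw [hx, map_mul, map_zpow, hfix, hit, hrm, mul_one]

theorem isPGroup_mulAut_dihedral (m : ℕ) (hm : 2 ≤ m) :
    IsPGroup 2 (MulAut (DihedralGroup (2 ^ m))) := by
  have : NeZero (2 ^ m) := ⟨(Nat.two_pow_pos m).ne'⟩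
  have hmem : ∀ x : DihedralGroup (2 ^ m),
      x ∈ Subgroup.zpowers (DihedralGroup.r 1) ↔ ∃ i, x = DihedralGroup.r i := by
    intro x
    constructor
    · rintro ⟨j, rfl⟩
      exact ⟨_, DihedralGroup.r_one_zpow j⟩
    · rintro ⟨i, rfl⟩
      exact ⟨i.val, by simp⟩
  refine isPGroup_mulAut_of_cyclic (DihedralGroup.r 1) (DihedralGroup.sr 0) m
    DihedralGroup.orderOf_r_one (fun x => ?_) (fun x hx => ?_) (fun h => ?_)
  · cases x with
    | r i => exact Or.inl ((hmem _).2 ⟨i, rfl⟩)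
    | sr i => exact Or.inr ((hmem _).2 ⟨i, by simp⟩)
  · cases x with
    | r i => exact absurd ((hmem _).2 ⟨i, rfl⟩) hx
    | sr i =>
      rw [DihedralGroup.orderOf_sr]
      have : 2 ^ 2 ≤ 2 ^ m := Nat.pow_le_pow_right (by norm_num) hm
      omega
  · obtain ⟨i, hi⟩ := (hmem _).1 h
    cases hi

theorem isPGroup_mulAut_quaternion (m : ℕ) (hm : 2 ≤ m) :
    IsPGroup 2 (MulAut (QuaternionGroup (2 ^ m))) := by
  have : NeZero (2 ^ m) := ⟨(Nat.two_pow_pos m).ne'⟩
  have hmem : ∀ x : QuaternionGroup (2 ^ m),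
      x ∈ Subgroup.zpowers (QuaternionGroup.a 1) ↔ ∃ i, x = QuaternionGroup.a i := by
    intro x
    constructor
    · rintro ⟨j, rfl⟩
      obtain ⟨j', hj'⟩ : ∃ j' : ℕ, (QuaternionGroup.a 1 : QuaternionGroup (2 ^ m)) ^ j =
          (QuaternionGroup.a 1) ^ j' := by
        obtain ⟨j', hj'⟩ := (isOfFinOrder_of_finite (QuaternionGroup.a (1 : ZMod (2 * 2 ^ m)))).mem_powers_iff_mem_zpowers.2 (⟨j, rfl⟩ : _ ∈ Subgroup.zpowers _)
        exact ⟨j', hj'.symm⟩
      exact ⟨_, hj'.trans (QuaternionGroup.a_one_pow j')⟩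
    · rintro ⟨i, rfl⟩
      refine ⟨((i.val : ℕ) : ℤ), ?_⟩
      show (QuaternionGroup.a 1 : QuaternionGroup (2 ^ m)) ^ ((i.val : ℕ) : ℤ) = _
      rw [zpow_natCast, QuaternionGroup.a_one_pow, ZMod.natCast_zmod_val]
  refine isPGroup_mulAut_of_cyclic (QuaternionGroup.a 1) (QuaternionGroup.xa 0) (m + 1)
    (by rw [QuaternionGroup.orderOf_a_one, pow_succ']) (fun x => ?_) (fun x hx => ?_) (fun h => ?_)
  · cases x with
    | a i => exact Or.inl ((hmem _).2 ⟨i, rfl⟩)
    | xa i =>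
      refine Or.inr ((hmem _).2 ⟨i, ?_⟩)
      rw [inv_mul_eq_iff_eq_mul, QuaternionGroup.xa_mul_a, zero_add]
  · cases x with
    | a i => exact absurd ((hmem _).2 ⟨i, rfl⟩) hx
    | xa i =>
      rw [QuaternionGroup.orderOf_xa]
      have : 2 ^ 3 ≤ 2 ^ (m + 1) := Nat.pow_le_pow_right (by norm_num) (by omega)
      omega
  · obtain ⟨i, hi⟩ := (hmem _).1 h
    cases hi

/-- If S is a dihedral or generalized quaternion 2-group of order at least 16, then in every saturated fusion system over S (at the prime 2) the automorphism group Aut_F(S) consists of the inner automorphisms of S. -/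
theorem result {Ω : Type*} [Group Ω] {S : Subgroup Ω} [Finite S] (n : ℕ) (hn : 4 ≤ n) (hshape : Nonempty (S ≃* DihedralGroup (2 ^ (n - 1))) ∨ Nonempty (S ≃* QuaternionGroup (2 ^ (n - 2)))) (F : Cfsg.FusionSystem S) (hF : F.IsSaturated 2) : F.autGroup S = Cfsg.Inn S := by
  have hS : IsPGroup 2 S := by
    refine IsPGroup.of_card (n := n) ?_
    rcases hshape with ⟨⟨e⟩⟩ | ⟨⟨e⟩⟩
    · rw [Nat.card_congr e.toEquiv, DihedralGroup.nat_card]
      conv_rhs => rw [show n = n - 1 + 1 by omega, pow_succ]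
      ring
    · rw [Nat.card_congr e.toEquiv, Nat.card_eq_fintype_card, QuaternionGroup.card]
      conv_rhs => rw [show n = n - 2 + 1 + 1 by omega, pow_succ, pow_succ]
      ring
  have hA : IsPGroup 2 (MulAut S) := by
    rcases hshape with ⟨⟨e⟩⟩ | ⟨⟨e⟩⟩
    · exact (isPGroup_mulAut_dihedral (n - 1) (by omega)).of_equiv (MulAut.congr e).symm
    · exact (isPGroup_mulAut_quaternion (n - 2) (by omega)).of_equiv (MulAut.congr e).symm
  have := finite_autGroup (F := F) (le_refl S)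
  obtain ⟨-, hsyl⟩ := isFullyAutomized_iff.1
    (isFullyAutomized_of_isFullyNormalized hS hF (isFullyNormalized_top F))
  rw [← hsyl.eq_of_le (hA.to_subgroup _) le_rfl hsyl.1, inn_eq_autInducedBy]

end Cfsg.Agent.S5112
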