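import Cfsg.Statements.S4491
import Mathlib
import Cfsg.Agent.Lib.BrauerFeit.Orth
import Cfsg.Agent.Lib.BrauerFeit.RegGen
import Cfsg.Agent.Lib.Chars.Induced

set_option autoImplicit false
open Cfsg

namespace Cfsg.Agent.S4491

open Cfsg.Agent.Lib Cfsg.Agent.Lib.Blocks Cfsg.Agent.Lib.BrauerFeit
open scoped ComplexConjugate

/-- The degree of a block member over p ^ a is a natural combination of regular coefficients. -/
theorem exists_degree_combination {G : Type*} [Group G] [Fintype G] {p : ℕ} [Fact p.Prime]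
    {M : Ideal Cfsg.AlgInt} [M.IsPrime] (hM : Cfsg.IsPModular p M)
    {B : Set (Cfsg.IrrCharacter G)} [Fintype B] (hB : Cfsg.IsPBlock M B) :
    ∃ c : Cfsg.IrrCharacter G → ℕ, ∀ χ ∈ B,
      (χ : G → ℂ) 1 / (p : ℂ) ^ (Nat.card G).factorization p =
        ∑ φ ∈ B.toFinset, (c φ : ℂ) * regCoef p φ χ := by
  classical
  obtain ⟨P⟩ : Nonempty (Sylow p G) := inferInstance
  haveI : Fintype (P : Subgroup G) := Fintype.ofFinite _
  set π : G → ℂ := indFun (P : Subgroup G) (fun _ : (P : Subgroup G) => (1 : ℂ)) with hπdef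
  have hπ : IsCharacter G π := Chars.isCharacter_indFun _
    (Chars.irr_isCharacter (Chars.trivialIrr (P : Subgroup G)))
  have hπ1 : π 1 = ((P : Subgroup G).index : ℂ) := by rw [hπdef, Chars.indFun_one_eq, mul_one]
  choose c hc using fun ψ : IrrCharacter G =>
    Chars.isCharacter_classInner_nat hπ (Chars.irr_isCharacter ψ)
  refine ⟨c, fun χ hχ => ?_⟩
  have hzero : ∀ g : G, g ≠ 1 → pRegularPart p π g = 0 := by
    intro h h1
    rw [pRegularPart_apply]
    split_ifs with hh
    · rfl
    rw [hπdef, indFun, Finset.sum_eq_zero, mul_zero]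
    intro x _
    refine Chars.extendByZero_of_not_mem _ fun hx => ?_
    obtain ⟨k, hk⟩ := IsPGroup.iff_orderOf.1 P.isPGroup' ⟨_, hx⟩
    rw [Subgroup.orderOf_mk] at hk
    have hord : orderOf (x⁻¹ * h * x) = orderOf h := by
      simpa using orderOf_injective (MulAut.conj x⁻¹).toMonoidHom (MulAut.conj x⁻¹).injective h
    rw [hord] at hk
    rcases k with _ | k
    · exact h1 (orderOf_eq_one_iff.1 (by simpa using hk))
    · exact hh (hk ▸ dvd_pow_self p k.succ_ne_zero)
  have hone : pRegularPart p π 1 = π 1 := by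
    rw [pRegularPart_apply, orderOf_one, if_neg (Nat.Prime.not_dvd_one Fact.out)]
  have h1 : classInner (pRegularPart p π) (χ : G → ℂ) =
      (χ : G → ℂ) 1 / (p : ℂ) ^ (Nat.card G).factorization p := by
    rw [classInner, Finset.sum_eq_single (1 : G) (fun g _ hg => by rw [hzero g hg, zero_mul])
      (fun h => absurd (Finset.mem_univ _) h), hone, hπ1]
    obtain ⟨n, hn⟩ := Chars.isCharacter_exists_degree (Chars.irr_isCharacter χ)
    rw [hn, Complex.conj_natCast]
    have hcard := (P : Subgroup G).card_mul_index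
    rw [P.card_eq_multiplicity] at hcard
    have hcast : (Nat.card G : ℂ) =
        (p : ℂ) ^ (Nat.card G).factorization p * ((P : Subgroup G).index : ℂ) := by
      exact_mod_cast hcard.symm
    have hi : ((P : Subgroup G).index : ℂ) ≠ 0 := Nat.cast_ne_zero.2 Subgroup.index_ne_zero_of_finite
    have hp : (p : ℂ) ^ (Nat.card G).factorization p ≠ 0 :=
      pow_ne_zero _ (Nat.cast_ne_zero.2 (Nat.Prime.ne_zero Fact.out))
    rw [hcast]
    field_simp
  have h2 : pRegularPart p π =
      ∑ φ : IrrCharacter G, fun g => (c φ : ℂ) * pRegularPart p (φ : G → ℂ) g := by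
    funext g
    rw [Finset.sum_apply, pRegularPart_apply]
    split_ifs with hg
    · simp [pRegularPart_apply, hg]
    · rw [Chars.isClassFunction_apply_eq_sum_classInner (Chars.isClassFunction_of_isCharacter hπ) g]
      simp [pRegularPart_apply, hg, hc]
  rw [← h1, h2, Chars.classInner_sum_left]
  refine (Finset.sum_subset (Finset.subset_univ B.toFinset) fun φ _ hφ => ?_).symm.trans
    (Finset.sum_congr rfl fun φ _ => ?_)
  · have hz : regCoef p φ χ = 0 := by
      rw [regCoef_comm]
      exact regCoef_eq_zero_of_not_mem (regOrth hM) hB hχ (by simpa using hφ)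
    show classInner (fun g => (c φ : ℂ) * pRegularPart p (φ : G → ℂ) g) (χ : G → ℂ) = 0
    rw [show (fun g => (c φ : ℂ) * pRegularPart p (φ : G → ℂ) g) =
      (c φ : ℂ) • pRegularPart p (φ : G → ℂ) from rfl, Chars.classInner_smul_left]
    show (c φ : ℂ) * regCoef p φ χ = 0
    rw [hz, mul_zero]
  · rw [show (fun g => (c φ : ℂ) * pRegularPart p (φ : G → ℂ) g) =
      (c φ : ℂ) • pRegularPart p (φ : G → ℂ) from rfl, Chars.classInner_smul_left]
    rfl

/-- Let B be a p-block of defect d of the finite group G (relative to a maximal ideal M of the algebraic integers containing p), and let p^a be the p-part of the order of G. Then the exact power of p dividing the sum of the squares of the degrees of the irreducible characters in B is p^(2a − d). -/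
theorem result {G : Type*} [Group G] [Finite G] (p : ℕ) [Fact p.Prime] (M : Ideal Cfsg.AlgInt) (hM : Cfsg.IsPModular p M) (B : Set (Cfsg.IrrCharacter G)) (hB : Cfsg.IsPBlock M B) : (∑ᶠ χ ∈ B, Cfsg.charDegree (χ : G → ℂ) ^ 2).factorization p = 2 * (Nat.card G).factorization p - Cfsg.blockDefect p B := by
  classical
  cases nonempty_fintype G
  haveI : Fintype B := Fintype.ofFinite _
  have : M.IsPrime := isPModular_isPrime hM
  have hp : p.Prime := Fact.out
  obtain ⟨c, hc⟩ := exists_degree_combination hM hB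
  set a := (Nat.card G).factorization p with ha
  set d := blockDefect p B with hd
  have hda : d ≤ a := Nat.sub_le _ _
  have hp0 : (p : ℂ) ≠ 0 := Nat.cast_ne_zero.2 hp.ne_zero
  have hdeg : ∀ φ ∈ B, p ^ (a - d) ∣ charDegree (φ : G → ℂ) := by
    intro φ hφ
    rw [hp.pow_dvd_iff_le_factorization (CharCount.charDegree_ne_zero φ)]
    have := factorization_add_defect (p := p) hφ
    omega
  set u : IrrCharacter G → ℕ := fun φ => charDegree (φ : G → ℂ) / p ^ (a - d) with hu
  have hu' : ∀ φ ∈ B, (φ : G → ℂ) 1 = (p : ℂ) ^ (a - d) * (u φ : ℂ) := by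
    intro φ hφ
    rw [← (HeightZero.charDegree_eq φ).1, ← Nat.cast_pow, ← Nat.cast_mul,
      Nat.mul_div_cancel' (hdeg φ hφ)]
  set T := ∑ φ ∈ B.toFinset, c φ * u φ with hT
  have hF : ((∑ χ ∈ B.toFinset, charDegree (χ : G → ℂ) ^ 2 : ℕ) : ℂ) =
      ((p ^ a * (p ^ (a - d) * T) : ℕ) : ℂ) := by
    push_cast [hT]
    calc ∑ χ ∈ B.toFinset, ((charDegree (χ : G → ℂ) : ℕ) : ℂ) ^ 2
        = ∑ χ ∈ B.toFinset, (p : ℂ) ^ a *
            ((χ : G → ℂ) 1 * ∑ φ ∈ B.toFinset, (c φ : ℂ) * regCoef p φ χ) := by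
          refine Finset.sum_congr rfl fun χ hχ => ?_
          rw [← hc χ (Set.mem_toFinset.1 hχ), (HeightZero.charDegree_eq χ).1]
          field_simp
      _ = (p : ℂ) ^ a * ∑ φ ∈ B.toFinset, (c φ : ℂ) * (φ : G → ℂ) 1 := by
          rw [← Finset.mul_sum]
          congr 1
          simp only [Finset.mul_sum]
          rw [Finset.sum_comm]
          refine Finset.sum_congr rfl fun φ hφ => ?_
          have h1 := pRegularPart_eq_finsum (regOrth hM) hB (Set.mem_toFinset.1 hφ) (1 : G)
          rw [pRegularPart_apply, orderOf_one, if_neg hp.not_dvd_one,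
            finsum_mem_eq_toFinset_sum] at h1
          rw [h1, Finset.mul_sum]
          exact Finset.sum_congr rfl fun χ _ => by ring
      _ = (p : ℂ) ^ a * ((p : ℂ) ^ (a - d) * ∑ φ ∈ B.toFinset, (c φ : ℂ) * (u φ : ℂ)) := by
          congr 1
          rw [Finset.mul_sum]
          refine Finset.sum_congr rfl fun φ hφ => ?_
          rw [hu' φ (Set.mem_toFinset.1 hφ)]
          ring
  have hT' : ¬ p ∣ T := by
    intro hdvd
    obtain ⟨χ₀, hχ₀, h0⟩ := exists_height_zero (p := p) (B := B) (Blocks.isPBlock_nonempty hB)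
    have hu0 : ¬ p ∣ u χ₀ := by
      intro h
      have h' : p ^ (a - d + 1) ∣ charDegree (χ₀ : G → ℂ) := by
        rw [← Nat.mul_div_cancel' (hdeg χ₀ hχ₀), pow_succ]
        exact mul_dvd_mul_left _ h
      rw [hp.pow_dvd_iff_le_factorization (CharCount.charDegree_ne_zero χ₀)] at h'
      have := factorization_add_defect (p := p) hχ₀
      omega
    set R : IrrCharacter G → ℂ :=
      fun φ => HeightZero.regPairing p (φ : G → ℂ) (χ₀ : G → ℂ) with hR
    set q : ℂ := (p : ℂ) ^ a / (Nat.card G : ℂ) with hq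
    have hqmem : MemLocalRing M q := by
      have h := natCast_div_mem_localRing hM (a := p ^ a) (b := Nat.card G) Nat.card_pos.ne'
        (Or.inl (by rw [hp.factorization_pow, Finsupp.single_eq_same]))
      rw [Nat.cast_pow] at h
      exact mem_localRing.1 h
    have hRmem : ∀ φ, MemLocalRing M (R φ) := fun φ => HeightZero.memLocalRing_regPairing
      (fun χ g => mem_localRing.1 (centralChar_mem_localRing χ g)) p φ (Chars.irr_isCharacter χ₀)
    have key : (u χ₀ : ℂ) = q * ((T : ℂ) * R χ₀) +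
        q * ∑ φ ∈ B.toFinset, ((c φ * u φ : ℕ) : ℂ) * (R φ - R χ₀) := by
      have h := hc χ₀ hχ₀
      rw [hu' χ₀ hχ₀] at h
      have h2 : (u χ₀ : ℂ) = ∑ φ ∈ B.toFinset, (p : ℂ) ^ d * ((c φ : ℂ) * regCoef p φ χ₀) := by
        rw [← Finset.mul_sum, ← h, show (p : ℂ) ^ a = (p : ℂ) ^ (a - d) * (p : ℂ) ^ d by
          rw [← pow_add, Nat.sub_add_cancel hda]]
        field_simp
      rw [h2, hT, Nat.cast_sum, Finset.sum_mul, ← mul_add, ← Finset.sum_add_distrib, Finset.mul_sum]
      refine Finset.sum_congr rfl fun φ hφ => ?_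
      rw [regCoef_eq_regPairing, (HeightZero.charDegree_eq φ).1, hu' φ (Set.mem_toFinset.1 hφ),
        hq, show (p : ℂ) ^ a = (p : ℂ) ^ (a - d) * (p : ℂ) ^ d by
          rw [← pow_add, Nat.sub_add_cancel hda]]
      simp only [hR]
      push_cast
      ring
    refine hu0 ((memLocalIdeal_natCast_iff hM _).1 ?_)
    rw [key]
    refine memLocalIdeal_add (memLocalIdeal_mul_left hqmem
      (memLocalIdeal_mul_right ((memLocalIdeal_natCast_iff hM T).2 hdvd) (hRmem χ₀)))
      (memLocalIdeal_mul_left hqmem (memLocalIdeal_sum _ _ fun φ hφ => memLocalIdeal_mul_left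
        (mem_localRing.1 (natCast_mem_localRing _))
        (HeightZero.regPairing_congr p (Chars.irr_isCharacter χ₀)
          (sameBlock_of_mem hB (Set.mem_toFinset.1 hφ) hχ₀))))
  rw [finsum_mem_eq_toFinset_sum, show (∑ χ ∈ B.toFinset, charDegree (χ : G → ℂ) ^ 2) =
    p ^ a * (p ^ (a - d) * T) by exact_mod_cast hF]
  have hT0 : T ≠ 0 := fun h => hT' (h ▸ dvd_zero p)
  rw [← mul_assoc, ← pow_add, Nat.factorization_mul (pow_ne_zero _ hp.ne_zero) hT0,
    Finsupp.add_apply, hp.factorization_pow, Finsupp.single_eq_same,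
    Nat.factorization_eq_zero_of_not_dvd hT']
  omega

end Cfsg.Agent.S4491
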