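import Cfsg.Statements.S4675
import Cfsg.Agent.Lib.BrauerFeit.Rank
import Cfsg.Agent.Lib.BrauerFeit.DefectGroup
import Mathlib

set_option autoImplicit false
open Cfsg

namespace Cfsg.Agent.S4675

/-- Fix a prime p and a maximal ideal M of the algebraic integers containing p. Let B be a p-block of the finite group G with defect group P and p-regular rank one (a single irreducible Brauer character). Then there are a function φ on G that is, on the p-regular elements, an integer combination of the members of B, and natural numbers d_χ (χ ∈ B), such that every χ ∈ B agrees with d_χ·φ on the p-regular elements and Σ_{χ ∈ B} d_χ² equals the order of P (the single Cartan invariant of B is the order of P). -/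
theorem result {G : Type*} [Group G] [Fintype G] (p : ℕ) [Fact p.Prime] (M : Ideal Cfsg.AlgInt) (hM : Cfsg.IsPModular p M) (B : Set (Cfsg.IrrCharacter G)) (hB : Cfsg.IsPBlock M B) (P : Subgroup G) (hP : Cfsg.IsDefectGroup p M B P) (hl : Cfsg.blockRank p B = 1) : ∃ φ : G → ℂ, ∃ d : Cfsg.IrrCharacter G → ℕ, (∃ n : Cfsg.IrrCharacter G → ℤ, ∀ x : G, Cfsg.IsPRegular p x → φ x = ∑ᶠ ψ ∈ B, (n ψ : ℂ) * (ψ : G → ℂ) x) ∧ (∀ χ ∈ B, ∀ x : G, Cfsg.IsPRegular p x → (χ : G → ℂ) x = (d χ : ℂ) * φ x) ∧ ∑ᶠ χ ∈ B, d χ ^ 2 = Nat.card P := by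
  classical
  haveI := Cfsg.Agent.Lib.Blocks.isPModular_isPrime hM
  rw [Cfsg.Agent.Lib.BrauerFeit.card_defectGroup hM hB hP]
  set D : Cfsg.IrrCharacter G → ℕ := fun χ => Cfsg.charDegree (χ : G → ℂ) with hDdef
  set g0 := B.toFinset.gcd D with hg0
  obtain ⟨χ₀, hχ₀, h0⟩ := Cfsg.Agent.Lib.BrauerFeit.exists_height_zero (p := p)
    (Cfsg.Agent.Lib.Blocks.isPBlock_nonempty hB)
  have hD1 : ∀ χ : Cfsg.IrrCharacter G, (χ : G → ℂ) 1 = (D χ : ℂ) :=
    fun χ => (Cfsg.Agent.Lib.Blocks.HeightZero.charDegree_eq χ).1.symm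
  have hD0 : ∀ χ : Cfsg.IrrCharacter G, D χ ≠ 0 :=
    fun χ => (Cfsg.Agent.Lib.Blocks.HeightZero.charDegree_eq χ).2
  have hgd : ∀ χ ∈ B, g0 ∣ D χ := fun χ hχ => Finset.gcd_dvd (Set.mem_toFinset.2 hχ)
  have hg0ne : g0 ≠ 0 := fun h => hD0 χ₀ (Nat.eq_zero_of_zero_dvd (h ▸ hgd χ₀ hχ₀))
  set d : Cfsg.IrrCharacter G → ℕ := fun χ => D χ / g0 with hd
  have hdD : ∀ χ ∈ B, (D χ : ℂ) = (g0 : ℂ) * (d χ : ℂ) := fun χ hχ => by
    rw [← Nat.cast_mul, hd, Nat.mul_div_cancel' (hgd χ hχ)]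
  have hd0 : (d χ₀ : ℂ) ≠ 0 := by
    intro h
    have := hdD χ₀ hχ₀
    rw [h, mul_zero, Nat.cast_eq_zero] at this
    exact hD0 χ₀ this
  -- all regular parts are proportional
  have hprop : ∀ χ ∈ B, ∀ x : G, Cfsg.pRegularPart p (χ : G → ℂ) x =
      (d χ : ℂ) * ((d χ₀ : ℂ)⁻¹ * Cfsg.pRegularPart p (χ₀ : G → ℂ) x) := by
    intro χ hχ x
    set V := Submodule.span ℂ
      ((fun χ : Cfsg.IrrCharacter G => Cfsg.pRegularPart p (χ : G → ℂ)) '' B) with hV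
    have hv0 : Cfsg.pRegularPart p (χ₀ : G → ℂ) ∈ V := Submodule.subset_span ⟨χ₀, hχ₀, rfl⟩
    have hv1 : ∀ ψ : Cfsg.IrrCharacter G, Cfsg.pRegularPart p (ψ : G → ℂ) 1 = (D ψ : ℂ) := fun ψ => by
      rw [Cfsg.Agent.Lib.BrauerFeit.pRegularPart_apply, orderOf_one, if_neg (by
        simpa using (Fact.out : p.Prime).ne_one), hD1 ψ]
    have hne : (⟨_, hv0⟩ : V) ≠ 0 := fun h => by
      have := congrFun (congrArg Subtype.val h) (1 : G)
      change Cfsg.pRegularPart p (χ₀ : G → ℂ) 1 = 0 at this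
      rw [hv1 χ₀] at this
      exact hD0 χ₀ (by simpa using this)
    obtain ⟨c, hc⟩ := (finrank_eq_one_iff_of_nonzero' (⟨_, hv0⟩ : V) hne).1 hl
      ⟨_, Submodule.subset_span ⟨χ, hχ, rfl⟩⟩
    have hc' : ∀ y : G, c * Cfsg.pRegularPart p (χ₀ : G → ℂ) y = Cfsg.pRegularPart p (χ : G → ℂ) y :=
      fun y => congrFun (congrArg Subtype.val hc) y
    have h1 := hc' 1
    rw [hv1, hv1, hdD χ hχ, hdD χ₀ hχ₀] at h1
    have hg : (g0 : ℂ) ≠ 0 := Nat.cast_ne_zero.2 hg0ne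
    have hcval : (d χ : ℂ) = c * (d χ₀ : ℂ) := by
      refine mul_left_cancel₀ hg ?_
      rw [← h1]
      ring
    rw [← hc' x, hcval]
    field_simp
  -- Bezout
  obtain ⟨b, hb⟩ : ∃ b : Cfsg.IrrCharacter G → ℤ, ∑ χ ∈ B.toFinset, b χ * (d χ : ℤ) = 1 := by
    have hgcd1 : B.toFinset.gcd d = 1 :=
      Finset.gcd_div_eq_one (Set.mem_toFinset.2 hχ₀) (hD0 χ₀)
    have hI : Ideal.span ((fun χ => (d χ : ℤ)) '' (B.toFinset : Set (Cfsg.IrrCharacter G))) = ⊤ := by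
      rw [Ideal.eq_top_iff_one]
      obtain ⟨a, ha⟩ := (IsPrincipalIdealRing.principal (Ideal.span
        ((fun χ => (d χ : ℤ)) '' (B.toFinset : Set (Cfsg.IrrCharacter G))))).principal
      rw [ha]
      have hdvd : a.natAbs ∣ B.toFinset.gcd d := Finset.dvd_gcd fun χ hχ => by
        have hmem : (d χ : ℤ) ∈ Ideal.span
            ((fun χ => (d χ : ℤ)) '' (B.toFinset : Set (Cfsg.IrrCharacter G))) :=
          Ideal.subset_span ⟨χ, hχ, rfl⟩
        rw [ha, Submodule.mem_span_singleton] at hmem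
        obtain ⟨k, hk⟩ := hmem
        rw [← Int.natCast_dvd_natCast, Int.natAbs_dvd]
        exact ⟨k, by rw [← hk, smul_eq_mul, mul_comm]⟩
      rw [hgcd1, Nat.dvd_one] at hdvd
      rw [Submodule.mem_span_singleton]
      rcases Int.natAbs_eq a with h | h <;> rw [hdvd] at h
      · exact ⟨1, by simp [h]⟩
      · exact ⟨-1, by simp [h]⟩
    have h1 : (1 : ℤ) ∈ Ideal.span ((fun χ => (d χ : ℤ)) '' (B.toFinset : Set (Cfsg.IrrCharacter G))) :=
      hI ▸ Submodule.mem_top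
    obtain ⟨b, hb⟩ := (Submodule.mem_span_image_finset_iff_exists_fun ℤ).1 h1
    refine ⟨fun χ => if h : χ ∈ B.toFinset then b ⟨χ, h⟩ else 0, ?_⟩
    rw [← hb, ← Finset.sum_coe_sort]
    refine Finset.sum_congr rfl fun χ _ => ?_
    simp [χ.2]
  set φ : G → ℂ := fun x => (d χ₀ : ℂ)⁻¹ * Cfsg.pRegularPart p (χ₀ : G → ℂ) x with hφ
  have hbC : ∑ χ ∈ B.toFinset, (b χ : ℂ) * (d χ : ℂ) = 1 := by exact_mod_cast hb
  refine ⟨φ, d, ⟨b, fun x hx => ?_⟩, fun χ hχ x hx => ?_, ?_⟩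
  · rw [finsum_mem_eq_toFinset_sum]
    calc φ x = ∑ χ ∈ B.toFinset, (b χ : ℂ) * ((d χ : ℂ) * φ x) := by
          simp only [← mul_assoc, ← Finset.sum_mul, hbC, one_mul]
      _ = _ := Finset.sum_congr rfl fun χ hχ => by
          rw [hφ, ← hprop χ (Set.mem_toFinset.1 hχ) x,
            Cfsg.Agent.Lib.BrauerFeit.pRegularPart_apply, if_neg (show ¬ p ∣ orderOf x from hx)]
  · rw [hφ, ← hprop χ hχ x, Cfsg.Agent.Lib.BrauerFeit.pRegularPart_apply,
      if_neg (show ¬ p ∣ orderOf x from hx)]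
  · -- the coefficient matrix is d χ * d ψ / S
    obtain ⟨m, hm, -, -, -, hndvd, -⟩ := Cfsg.Agent.Lib.BrauerFeit.exists_int_matrix hM
      (Cfsg.Agent.Lib.BrauerFeit.regOrth hM) (Cfsg.Agent.Lib.BrauerFeit.regGen p) hB
    have hx : ∀ χ ∈ B, ∀ ψ : Cfsg.IrrCharacter G, Cfsg.Agent.Lib.BrauerFeit.regCoef p χ ψ =
        (d χ : ℂ) * ((d χ₀ : ℂ)⁻¹ * Cfsg.Agent.Lib.BrauerFeit.regCoef p χ₀ ψ) := by
      intro χ hχ ψ
      simp only [Cfsg.Agent.Lib.BrauerFeit.regCoef]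
      rw [← Cfsg.Agent.Lib.Chars.classInner_smul_left, ← Cfsg.Agent.Lib.Chars.classInner_smul_left]
      congr 1
      funext x
      exact hprop χ hχ x
    set c := ((d χ₀ : ℂ)⁻¹) ^ 2 * Cfsg.Agent.Lib.BrauerFeit.regCoef p χ₀ χ₀ with hc
    have hxx : ∀ χ ∈ B, ∀ ψ ∈ B, Cfsg.Agent.Lib.BrauerFeit.regCoef p χ ψ =
        (d χ : ℂ) * (d ψ : ℂ) * c := by
      intro χ hχ ψ hψ
      rw [hx χ hχ ψ, Cfsg.Agent.Lib.BrauerFeit.regCoef_comm p χ₀ ψ, hx ψ hψ χ₀, hc]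
      ring
    set S : ℕ := ∑ χ ∈ B.toFinset, d χ ^ 2 with hS
    have hcS : c * (S : ℂ) = 1 := by
      have h := Cfsg.Agent.Lib.BrauerFeit.sum_toFinset_regCoef_mul
        (Cfsg.Agent.Lib.BrauerFeit.regOrth hM) hB hχ₀ (φ := χ₀)
      rw [Finset.sum_congr rfl fun ψ hψ => by
        rw [hxx χ₀ hχ₀ ψ (Set.mem_toFinset.1 hψ), hxx ψ (Set.mem_toFinset.1 hψ) χ₀ hχ₀],
        hxx χ₀ hχ₀ χ₀ hχ₀] at h
      have hcne : c ≠ 0 := by
        intro hc0
        have := hndvd χ₀ hχ₀ χ₀ hχ₀ h0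
        have hm0 := hm χ₀ hχ₀ χ₀
        rw [hxx χ₀ hχ₀ χ₀ hχ₀, hc0, mul_zero, mul_zero] at hm0
        rw [show m χ₀ χ₀ = 0 by exact_mod_cast hm0.symm] at this
        exact this (dvd_zero _)
      have h' : (d χ₀ : ℂ) * d χ₀ * c * (c * (S : ℂ)) = (d χ₀ : ℂ) * d χ₀ * c * 1 := by
        rw [mul_one]
        refine Eq.trans ?_ h
        rw [hS]
        push_cast
        rw [Finset.mul_sum, Finset.mul_sum]
        exact Finset.sum_congr rfl fun ψ _ => by ring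
      exact mul_left_cancel₀ (mul_ne_zero (mul_ne_zero hd0 hd0) hcne) h'
    set a := Cfsg.blockDefect p B with ha
    set t : ℤ := ∑ χ ∈ B.toFinset, ∑ ψ ∈ B.toFinset, b χ * b ψ * m χ ψ with ht
    have htS : (t : ℂ) = (p : ℂ) ^ a * c := by
      rw [ht]
      push_cast
      calc ∑ χ ∈ B.toFinset, ∑ ψ ∈ B.toFinset, (b χ : ℂ) * b ψ * m χ ψ
          = ∑ χ ∈ B.toFinset, ∑ ψ ∈ B.toFinset,
              ((b χ : ℂ) * d χ) * (((b ψ : ℂ) * d ψ) * ((p : ℂ) ^ a * c)) :=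
            Finset.sum_congr rfl fun χ hχ => Finset.sum_congr rfl fun ψ hψ => by
              rw [← hm χ (Set.mem_toFinset.1 hχ) ψ,
                hxx χ (Set.mem_toFinset.1 hχ) ψ (Set.mem_toFinset.1 hψ)]
              ring
        _ = _ := by
            simp only [← Finset.mul_sum, ← Finset.sum_mul, hbC, one_mul]
    have htS' : t * (S : ℤ) = (p : ℤ) ^ a := by
      have : ((t * (S : ℤ) : ℤ) : ℂ) = (((p : ℤ) ^ a : ℤ) : ℂ) := by
        push_cast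
        rw [htS, mul_assoc, hcS, mul_one]
      exact_mod_cast this
    have hm00 : m χ₀ χ₀ = t * (d χ₀ : ℤ) ^ 2 := by
      have : ((m χ₀ χ₀ : ℤ) : ℂ) = ((t * (d χ₀ : ℤ) ^ 2 : ℤ) : ℂ) := by
        push_cast
        rw [← hm χ₀ hχ₀ χ₀, hxx χ₀ hχ₀ χ₀ hχ₀, htS]
        ring
      exact_mod_cast this
    have hnd : ¬ (p : ℤ) ∣ t := fun hpt => by
      have := hndvd χ₀ hχ₀ χ₀ hχ₀ h0
      rw [h0, zero_add, pow_one, hm00] at this
      exact this (dvd_mul_of_dvd_left hpt _)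
    have hnat : t.natAbs * S = p ^ a := by
      have := congrArg Int.natAbs htS'
      simpa [Int.natAbs_mul, Int.natAbs_pow] using this
    obtain ⟨i, -, hi⟩ := (Nat.dvd_prime_pow (Fact.out : p.Prime)).1 ⟨S, hnat.symm⟩
    have hi0 : i = 0 := by
      by_contra hi0
      exact hnd (Int.natCast_dvd.2 (hi ▸ dvd_pow_self p hi0))
    rw [finsum_mem_eq_toFinset_sum]
    show S = p ^ a
    rw [← hnat, hi, hi0, pow_zero, one_mul]

end Cfsg.Agent.S4675
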