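import Cfsg.Statements.S0941
import Cfsg.Agent.Lib.Blocks.Covering

set_option autoImplicit false
open Cfsg

namespace Cfsg.Agent.S0941

open Cfsg.Agent.Lib.Blocks.Covering

/-- Let P be a normal p-subgroup of the finite group G such that the index of C_G(P) is a power of p, and fix a maximal ideal M of the algebraic integers containing p. Then (i) two irreducible characters of G ⧸ P lie in the same block if and only if their inflations to G do, and (ii) every block of G contains the inflation of some irreducible character of G ⧸ P; so inflation induces a bijection between the blocks of G ⧸ P and the blocks of G. -/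
theorem result {G : Type*} [Group G] [Finite G] (p : ℕ) [Fact p.Prime] (M : Ideal Cfsg.AlgInt) (hM : Cfsg.IsPModular p M) (P : Subgroup G) [P.Normal] (hP : IsPGroup p P) (hC : ∃ k : ℕ, (Subgroup.centralizer (P : Set G)).index = p ^ k) : (∀ χ ψ : Cfsg.IrrCharacter (G ⧸ P), Cfsg.SameBlock M (χ : G ⧸ P → ℂ) (ψ : G ⧸ P → ℂ) ↔ Cfsg.SameBlock M ((χ : G ⧸ P → ℂ) ∘ QuotientGroup.mk) ((ψ : G ⧸ P → ℂ) ∘ QuotientGroup.mk)) ∧ ∀ B : Set (Cfsg.IrrCharacter G), Cfsg.IsPBlock M B → ∃ χ : Cfsg.IrrCharacter (G ⧸ P), ∃ θ ∈ B, (θ : G → ℂ) = (χ : G ⧸ P → ℂ) ∘ QuotientGroup.mk := by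
  classical
  cases nonempty_fintype G
  have := Lib.Blocks.isPModular_isPrime hM
  have : Fintype P := Fintype.ofFinite _
  have : Fintype (G ⧸ P) := Fintype.ofFinite _
  let π := QuotientGroup.mk' P
  have hπ : Function.Surjective π := QuotientGroup.mk'_surjective P
  have hCn : (Subgroup.centralizer (P : Set G)).Normal := by
    refine ⟨fun c hc g => ?_⟩
    rw [Subgroup.mem_centralizer_iff] at hc ⊢
    intro x hx
    have h' := ‹P.Normal›.conj_mem x hx g⁻¹
    rw [inv_inv] at h'
    have := hc _ h'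
    calc x * (g * c * g⁻¹) = g * ((g⁻¹ * x * g) * c) * g⁻¹ := by group
      _ = g * (c * (g⁻¹ * x * g)) * g⁻¹ := by rw [this]
      _ = g * c * g⁻¹ * x := by group
  have hregπ : ∀ g : G, ¬ p ∣ orderOf g → ¬ p ∣ orderOf (π g) :=
    fun g hg h => hg (h.trans (orderOf_map_dvd π g))
  have hinj : ∀ g g' : G, ¬ p ∣ orderOf g → ¬ p ∣ orderOf g' → π g = π g' → g = g' := by
    intro g g' hg hg' he
    have hx : g⁻¹ * g' ∈ P := QuotientGroup.eq.1 he
    obtain ⟨k, hk⟩ := hP ⟨_, hx⟩
    have hk' : (g⁻¹ * g') ^ p ^ k = 1 := congrArg Subtype.val hk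
    have hcomm : Commute g (g⁻¹ * g') :=
      ((Subgroup.mem_centralizer_iff.1 (mem_of_pRegular_of_index _ hC hg)) _ hx).symm
    have h1 : (g⁻¹ * g') ^ (orderOf g * orderOf g') = 1 := by
      have hg'' : g' = g * (g⁻¹ * g') := by group
      have h2 : (g * (g⁻¹ * g')) ^ (orderOf g * orderOf g') = 1 := by
        rw [← hg'', mul_comm, pow_mul, pow_orderOf_eq_one, one_pow]
      rwa [hcomm.mul_pow, pow_mul g, pow_orderOf_eq_one, one_pow, one_mul] at h2
    have hcop : Nat.Coprime (p ^ k) (orderOf g * orderOf g') :=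
      ((((Fact.out : p.Prime).coprime_iff_not_dvd).2
        (fun h => ((Fact.out : p.Prime).dvd_mul.1 h).elim hg hg')).pow_left k)
    have := pow_gcd_eq_one.2 ⟨hk', h1⟩
    rw [Nat.Coprime.gcd_eq_one hcop, pow_one, inv_mul_eq_one] at this
    exact this
  have hsurj : ∀ q : G ⧸ P, ¬ p ∣ orderOf q → ∃ g : G, ¬ p ∣ orderOf g ∧ π g = q := by
    intro q hq
    obtain ⟨g, rfl⟩ := hπ q
    obtain ⟨x, hx⟩ := Lib.Blocks.exists_isPPart (p := p) g
    have hxE := Lib.Blocks.isPPart_iff.1 hx
    obtain ⟨y, hxy, -, ⟨k, hk⟩, hy⟩ := hx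
    refine ⟨y, hy, ?_⟩
    have h1 : orderOf (π x) ∣ p ^ k := hk ▸ orderOf_map_dvd π x
    have h2 : orderOf (π x) ∣ orderOf (π g) := by
      rw [hxE, map_pow]
      exact orderOf_pow_dvd _
    have h3 : π x = 1 := by
      rw [← orderOf_eq_one_iff]
      obtain ⟨i, -, hi⟩ := (Nat.dvd_prime_pow (Fact.out : p.Prime)).1 h1
      rcases i with _ | i
      · simpa using hi
      · exact absurd ((dvd_pow_self p i.succ_ne_zero).trans (hi ▸ h2)) hq
    rw [← hxy, map_mul, h3, one_mul]
  refine ⟨fun χ ψ => ⟨fun h g => ?_, fun h => ?_⟩, fun B hB => ?_⟩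
  · obtain ⟨c, hc⟩ : (Subgroup.centralizer ({π g} : Set (G ⧸ P))).index ∣
        (Subgroup.centralizer ({g} : Set G)).index := by
      rw [← Subgroup.index_comap_of_surjective (Subgroup.centralizer ({π g} : Set (G ⧸ P))) hπ]
      refine Subgroup.index_dvd_of_le fun y hy => ?_
      rw [Subgroup.mem_comap, Subgroup.mem_centralizer_singleton_iff, ← map_mul, ← map_mul,
        Subgroup.mem_centralizer_singleton_iff.1 hy]
    have e : ∀ φ : IrrCharacter (G ⧸ P), centralChar ((φ : G ⧸ P → ℂ) ∘ QuotientGroup.mk) g =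
        (c : ℂ) * centralChar (φ : G ⧸ P → ℂ) (π g) := by
      intro φ
      rw [centralChar, centralChar, hc]
      push_cast
      show _ * (φ : G ⧸ P → ℂ) (π g) / (φ : G ⧸ P → ℂ) (π 1) = _
      rw [map_one]
      ring
    rw [e, e, ← mul_sub]
    exact Lib.Blocks.memLocalIdeal_mul_left (Lib.Blocks.natCast_mem_localRing c) (h (π g))
  · let B' := blockOf M (χ : G ⧸ P → ℂ)
    have hB' : IsPBlock M B' := Lib.Blocks.isPBlock_blockOf χ
    let f : G → ℂ := fun g => if p ∣ orderOf g then 0 else blockCoeff B' (π g)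
    have hf : IsClassFunction G f := by
      intro x k
      have e : orderOf (k * x * k⁻¹) = orderOf x :=
        orderOf_injective (MulAut.conj k).toMonoidHom (MulAut.conj k).injective x
      simp only [f, e, map_mul, map_inv, Lib.Blocks.blockCoeff_conj]
    have hfR : ∀ g, MemLocalRing M (f g) := by
      intro g
      simp only [f]
      split_ifs
      · exact Lib.Blocks.mem_localRing.1 (zero_mem _)
      · exact Lib.Blocks.memLocalRing_blockCoeff hB' _
    have key : ∀ φ : IrrCharacter (G ⧸ P),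
        ∑ g : G, f g * (φ : G ⧸ P → ℂ) (π g) / (φ : G ⧸ P → ℂ) 1 =
          if φ ∈ B' then 1 else 0 := by
      intro φ
      rw [← sum_blockCoeff_eq_ite B' φ]
      simp only [f, ite_mul, zero_mul, ite_div, zero_div]
      rw [Finset.sum_ite, Finset.sum_const_zero, zero_add]
      rw [← Finset.sum_subset (Finset.subset_univ (Finset.univ.filter fun q : G ⧸ P => ¬ p ∣ orderOf q))
        (fun q _ hq => by
          rw [Lib.Blocks.blockCoeff_eq_zero_of_pSingular hM hB' (by simpa using hq), zero_mul, zero_div])]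
      refine Finset.sum_bij (fun g _ => π g) (fun g hg => ?_) (fun g hg g' hg' he => ?_)
        (fun q hq => ?_) (fun g _ => rfl)
      · simpa using hregπ g (by simpa using hg)
      · exact hinj g g' (by simpa using hg) (by simpa using hg') he
      · obtain ⟨g, hg, hgq⟩ := hsurj q (by simpa using hq)
        exact ⟨g, by simpa using hg, hgq⟩
    have h1 := Lib.Blocks.HeightZero.eval_congr_self hf hfR
      (Lib.Chars.irr_isClassFunction (Lib.Chars.inflate P χ))
      (Lib.Chars.irr_isClassFunction (Lib.Chars.inflate P ψ)) h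
    have e1 : ∀ (φ : IrrCharacter (G ⧸ P)) (g : G),
        (Lib.Chars.inflate P φ : G → ℂ) g = (φ : G ⧸ P → ℂ) (π g) := fun _ _ => rfl
    simp only [e1, map_one, key] at h1
    rw [if_pos (Lib.Blocks.mem_blockOf_self χ)] at h1
    by_contra hne
    rw [if_neg (show ψ ∉ B' from hne), sub_zero] at h1
    exact Lib.Blocks.not_memLocalIdeal_one h1
  · obtain ⟨θ, hθB, hθ⟩ : ∃ θ ∈ B, ∑ x : P, (θ : G → ℂ) x ≠ 0 := by
      by_contra! hall
      have h0 : ∑ x : P, blockCoeff B (x : G) = 0 := by
        simp only [Lib.Blocks.blockCoeff_eq_sum, ← Finset.mul_sum]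
        rw [Finset.sum_comm, Finset.sum_eq_zero, mul_zero]
        intro φ _
        by_cases hφ : φ ∈ B
        · simp only [if_pos hφ, ← Finset.mul_sum, ← map_sum, hall φ hφ, map_zero, mul_zero]
        · simp [hφ]
      rw [Finset.sum_eq_single (1 : P) (fun x _ hx => by
        refine Lib.Blocks.blockCoeff_eq_zero_of_pSingular hM hB ?_
        obtain ⟨k, hk⟩ := IsPGroup.iff_orderOf.1 hP x
        rw [Subgroup.orderOf_coe, hk]
        rcases k with _ | k
        · rw [pow_zero, orderOf_eq_one_iff] at hk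
          exact absurd hk hx
        · exact dvd_pow_self p k.succ_ne_zero) (fun h => absurd (Finset.mem_univ _) h)] at h0
      obtain ⟨θ, hθ⟩ := Lib.Blocks.isPBlock_nonempty hB
      rw [OneMemClass.coe_one, Lib.Blocks.blockCoeff_eq_sum, mul_eq_zero, inv_eq_zero,
        or_iff_right Lib.Chars.natCard_ne_zero] at h0
      have hre := congrArg Complex.re h0
      rw [Complex.re_sum, Complex.zero_re, Finset.sum_eq_zero_iff_of_nonneg] at hre
      · have h1 := hre θ (Finset.mem_univ _)
        obtain ⟨d, hd, hd1⟩ := Lib.Chars.isIrrCharacter_exists_degree_pos θ.2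
        rw [if_pos hθ, hd1] at h1
        simp at h1
        omega
      · intro φ _
        split_ifs with hφ
        · obtain ⟨d, -, hd⟩ := Lib.Chars.isIrrCharacter_exists_degree_pos φ.2
          rw [hd]
          simpa using mul_self_nonneg (d : ℝ)
        · simp
    obtain ⟨χ, hχ⟩ := Lib.Chars.exists_irr_quotient P θ fun x hx =>
      eq_one_of_sum_ne_zero (N := P) θ hθ ⟨x, hx⟩
    exact ⟨χ, θ, hθB, funext fun g => (hχ g).symm⟩

end Cfsg.Agent.S0941
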