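import Cfsg.Statements.S0968
import Cfsg.Agent.Lib.Blocks.TwistedChar
import Cfsg.Agent.Lib.Blocks.RegOrth
import Cfsg.Agent.Lib.Blocks.SecondMain
import Cfsg.Agent.Lib.Blocks.DefectCard
import Cfsg.Agent.S0941

set_option autoImplicit false
open Cfsg

namespace Cfsg.Agent.S0968

/-- Let P be a p-subgroup of the finite group G with P ⊔ C_G(P) = G, and let B be a block with defect group P relative to a maximal ideal M of the algebraic integers containing p. Then there is exactly one θ ∈ B with θ x = θ 1 for all x ∈ P; for this θ the exponent of p in θ(1) equals the exponent of p in the index of P; and the number of members of B equals the number of conjugacy classes of P. -/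
theorem result {G : Type*} [Group G] [Finite G] (p : ℕ) [Fact p.Prime] (M : Ideal Cfsg.AlgInt) (hM : Cfsg.IsPModular p M) (P : Subgroup G) (hP : IsPGroup p P) (hG : P ⊔ Subgroup.centralizer (P : Set G) = ⊤) (B : Set (Cfsg.IrrCharacter G)) (hB : Cfsg.IsPBlock M B) (hD : Cfsg.IsDefectGroup p M B P) : (∃! θ : Cfsg.IrrCharacter G, θ ∈ B ∧ ∀ x ∈ P, (θ : G → ℂ) x = (θ : G → ℂ) 1) ∧ (∀ θ ∈ B, (∀ x ∈ P, (θ : G → ℂ) x = (θ : G → ℂ) 1) → (Cfsg.charDegree (θ : G → ℂ)).factorization p = P.index.factorization p) ∧ Nat.card B = Nat.card (ConjClasses P) := by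
  classical
  cases nonempty_fintype G
  let : Fintype P := Fintype.ofFinite _
  have := Lib.Blocks.isPModular_isPrime hM
  have hn : P.Normal := by
    rw [← Subgroup.normalizer_eq_top_iff, eq_top_iff, ← hG, sup_le_iff]
    exact ⟨Subgroup.le_normalizer, Subgroup.centralizer_le_normalizer _⟩
  have hidx : ∃ k, (Subgroup.centralizer (P : Set G)).index = p ^ k := by
    obtain ⟨j, hj⟩ := IsPGroup.iff_card.1 hP
    have h : (Subgroup.centralizer (P : Set G)).index ∣ p ^ j := by
      rw [← hj, ← Subgroup.relIndex_top_right, ← hG, Subgroup.relIndex_sup_right]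
      exact Subgroup.relIndex_dvd_card _ _
    obtain ⟨i, -, hi⟩ := (Nat.dvd_prime_pow (Fact.out : p.Prime)).1 h
    exact ⟨i, hi⟩
  have hcomm : ∀ x ∈ P, ∀ y : G, ¬ p ∣ orderOf y → Commute x y := fun x hx y hy =>
    Subgroup.mem_centralizer_iff.1 (Lib.Blocks.Covering.mem_of_pRegular_of_index (p := p)
      (Subgroup.centralizer (P : Set G)) hidx hy) x hx
  have hall : ∀ D' : Subgroup G, IsDefectGroup p M B D' → D' = P := by
    intro D' hD'
    obtain ⟨a, ha⟩ := Lib.Blocks.isDefectGroup_conjugate hM hB hD hD'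
    rw [ha]
    ext u
    constructor
    · rintro ⟨w, hw, rfl⟩
      exact hn.conj_mem _ hw a
    · intro hu
      exact ⟨a⁻¹ * u * a⁻¹⁻¹, hn.conj_mem _ hu a⁻¹, by simp [mul_assoc]⟩
  have hvan : ∀ χ ∈ B, ∀ g x : G, IsPPart p g x → x ∉ P → (χ : G → ℂ) g = 0 := fun χ hχ g x hx hxP =>
    Lib.Blocks.char_eq_zero_of_pPart_notMem hM χ hx fun D' hD' => by
      rw [← Lib.Blocks.eq_blockOf_of_mem hB hχ] at hD'
      rwa [hall D' hD']
  have hcardP : Nat.card P = p ^ blockDefect p B := Lib.Blocks.card_defectGroup hM hB hD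
  have hdeg : ∀ θ ∈ B, (∀ x ∈ P, (θ : G → ℂ) x = (θ : G → ℂ) 1) →
      (charDegree (θ : G → ℂ)).factorization p = P.index.factorization p ∧
        blockHeight p B (θ : G → ℂ) = 0 := by
    intro θ hθ htriv
    have h1 := Lib.Blocks.factorization_degree_add_blockDefect hM hB hθ
    have h2 := congrArg (fun m => m.factorization p) (Subgroup.card_mul_index P)
    simp only [Nat.factorization_mul Nat.card_pos.ne' Subgroup.index_ne_zero_of_finite,
      Finsupp.add_apply] at h2
    rw [hcardP, (Fact.out : p.Prime).factorization_pow, Finsupp.single_eq_same] at h2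
    obtain ⟨ψ, hψ⟩ := Lib.Chars.exists_irr_quotient P θ htriv
    obtain ⟨-, -, h3⟩ := Lib.Blocks.exists_degree_eq ψ
    have e : charDegree (ψ : G ⧸ P → ℂ) = charDegree (θ : G → ℂ) := by
      rw [charDegree, charDegree, ← hψ 1]; rfl
    rw [e, ← Subgroup.index_eq_card] at h3
    have h4 : (charDegree (θ : G → ℂ)).factorization p ≤ P.index.factorization p :=
      ((Fact.out : p.Prime).pow_dvd_iff_le_factorization Subgroup.index_ne_zero_of_finite).1
        ((Nat.ordProj_dvd _ p).trans h3)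
    omega
  obtain ⟨θ, hθB, hθtriv⟩ : ∃ θ ∈ B, ∀ x ∈ P, (θ : G → ℂ) x = (θ : G → ℂ) 1 := by
    obtain ⟨ψ, θ, hθ, he⟩ := (Cfsg.Agent.S0941.result p M hM P hP hidx).2 B hB
    refine ⟨θ, hθ, fun x hx => ?_⟩
    rw [he]
    simp only [Function.comp_apply, (QuotientGroup.eq_one_iff x).2 hx, QuotientGroup.mk_one]
  have hH : Lib.Blocks.TwistedChar.Hyp p P θ := by
    refine ⟨hP, hG, hcomm, fun x hx g => ?_, hvan θ hθB⟩
    obtain ⟨ψ, hψ⟩ := Lib.Chars.exists_irr_quotient P θ hθtriv
    rw [← hψ, ← hψ, QuotientGroup.mk_mul, (QuotientGroup.eq_one_iff x).2 hx, one_mul]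
  let f : IrrCharacter P → IrrCharacter G := fun ζ =>
    ⟨_, Lib.Blocks.TwistedChar.isIrrCharacter_twist hH ζ⟩
  have hf1 : ∀ (ζ : IrrCharacter P) (y : G), ¬ p ∣ orderOf y →
      (f ζ : G → ℂ) y = (ζ : P → ℂ) 1 * (θ : G → ℂ) y := fun ζ y hy => by
    simpa using Lib.Blocks.TwistedChar.twist_mul hH (ζ : P → ℂ) 1 hy
  have h1reg : ¬ p ∣ orderOf (1 : G) := by rw [orderOf_one]; exact (Fact.out : p.Prime).not_dvd_one
  have hfB : ∀ ζ, f ζ ∈ B := by
    intro ζ
    have e1 := Lib.Blocks.Covering.sum_blockCoeff_eq_ite B θ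
    have e2 := Lib.Blocks.Covering.sum_blockCoeff_eq_ite B (f ζ)
    rw [if_pos hθB] at e1
    by_contra hcon
    rw [if_neg hcon, Finset.sum_congr rfl (g := fun g : G => blockCoeff B g * (θ : G → ℂ) g / (θ : G → ℂ) 1)
      (fun g _ => ?_), e1] at e2
    · exact one_ne_zero e2
    · by_cases hg : p ∣ orderOf g
      · simp [Lib.Blocks.blockCoeff_eq_zero_of_pSingular hM hB hg]
      · rw [hf1 ζ g hg, hf1 ζ 1 h1reg, mul_left_comm]
        exact mul_div_mul_left _ _ (Lib.Chars.irr_apply_one_ne_zero ζ)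
  have hinj : Function.Injective f := by
    intro ζ ζ' h
    have e : classInner (f ζ : G → ℂ) (f ζ' : G → ℂ) = classInner (ζ : P → ℂ) (ζ' : P → ℂ) :=
      Lib.Blocks.TwistedChar.classInner_twist hH _ _
    rw [h, Lib.Chars.classInner_irr_self, Lib.Chars.classInner_irr] at e
    by_contra hne
    rw [if_neg hne] at e
    exact one_ne_zero e
  have hsurj : ∀ χ ∈ B, ∃ ζ, f ζ = χ := by
    intro χ hχ
    by_contra! hno
    let R := Finset.univ.filter (fun y : G => ¬ p ∣ orderOf y)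
    let F : P → ℂ := fun x => ∑ y ∈ R, (χ : G → ℂ) ((x : G) * y) * (starRingEnd ℂ) ((θ : G → ℂ) y)
    have hFc : IsClassFunction P F := fun x u => Finset.sum_congr rfl fun y hy => by
      congr 1
      have hc := hcomm (u⁻¹ : P) (u⁻¹ : P).2 y (Finset.mem_filter.1 hy).2
      rw [Subgroup.coe_mul, Subgroup.coe_mul,
        ← Lib.Chars.irr_isClassFunction χ ((x : G) * y) (u : G)]
      congr 1
      rw [mul_assoc, hc.eq]
      simp only [Subgroup.coe_inv, mul_assoc]
    have hF0 : F = 0 := Lib.Chars.eq_zero_of_forall_classInner_eq_zero hFc fun ζ => by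
      have e := Lib.Chars.classInner_irr_of_ne (hno ζ).symm
      rw [classInner, Lib.Blocks.TwistedChar.sum_split P hP hcomm _ (fun g x hx hxP => by
        rw [hvan χ hχ g x hx hxP, zero_mul]), mul_eq_zero] at e
      have e' := e.resolve_left (inv_ne_zero Lib.Chars.natCard_ne_zero)
      rw [classInner, mul_eq_zero]
      right
      rw [← e']
      refine Finset.sum_congr rfl fun x _ => ?_
      simp only [F, Finset.sum_mul]
      refine Finset.sum_congr rfl fun y hy => ?_
      rw [show (f ζ : G → ℂ) ((x : G) * y) = (ζ : P → ℂ) x * (θ : G → ℂ) y from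
        Lib.Blocks.TwistedChar.twist_mul hH _ x (Finset.mem_filter.1 hy).2, map_mul]
      ring
    refine Lib.Blocks.HeightZero.not_memLocalIdeal_regPairing hM
      (Lib.Blocks.HeightZero.regOrth_holds hM) (χ := χ) (η := θ)
      (by rw [← Lib.Blocks.eq_blockOf_of_mem hB hθB]; exact (hdeg θ hθB hθtriv).2)
      (Lib.Blocks.sameBlock_of_mem hB hχ hθB) ?_
    have h0 : F 1 = 0 := by rw [hF0]; rfl
    have h2 : Lib.Blocks.HeightZero.regInner p (χ : G → ℂ) (θ : G → ℂ) = F 1 := by
      simp only [Lib.Blocks.HeightZero.regInner, Lib.Blocks.HeightZero.regWeight, F, R,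
        Finset.sum_filter, Subgroup.coe_one, one_mul]
      refine Finset.sum_congr rfl fun y _ => ?_
      by_cases hy : p ∣ orderOf y <;> simp [hy, mul_comm]
    rw [Lib.Blocks.HeightZero.regPairing_eq, h2, h0, zero_div]
    exact Lib.Blocks.memLocalIdeal_zero
  refine ⟨⟨θ, ⟨hθB, hθtriv⟩, ?_⟩, fun θ' h h' => (hdeg θ' h h').1, ?_⟩
  · rintro θ' ⟨h, h'⟩
    obtain ⟨ζ, rfl⟩ := hsurj θ' h
    have hconst : ∀ x : P, (ζ : P → ℂ) x = (ζ : P → ℂ) 1 := fun x => by
      have e := h' x x.2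
      rw [hf1 ζ 1 h1reg] at e
      have e2 : (f ζ : G → ℂ) x = (ζ : P → ℂ) x * (θ : G → ℂ) 1 := by
        simpa using Lib.Blocks.TwistedChar.twist_mul hH (ζ : P → ℂ) x h1reg
      rw [e2] at e
      exact mul_right_cancel₀ (Lib.Chars.irr_apply_one_ne_zero θ) e
    have h1 : (ζ : P → ℂ) 1 = 1 := by
      obtain ⟨a, ha, ha1⟩ := Lib.Chars.isIrrCharacter_exists_degree_pos ζ.2
      have e := Lib.Chars.classInner_irr_self ζ
      simp only [classInner, hconst, Finset.sum_const, Finset.card_univ, nsmul_eq_mul,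
        ← Nat.card_eq_fintype_card, ha1, map_natCast] at e
      rw [inv_mul_cancel_left₀ Lib.Chars.natCard_ne_zero] at e
      have : a * a = 1 := by exact_mod_cast e
      rw [ha1, Nat.eq_one_of_mul_eq_one_left this, Nat.cast_one]
    refine Subtype.ext (funext fun g => ?_)
    obtain ⟨x, hx⟩ := Lib.Blocks.exists_isPPart (p := p) g
    by_cases hxP : x ∈ P
    · show Lib.Blocks.TwistedChar.twist p P (θ : G → ℂ) (ζ : P → ℂ) g = _
      rw [Lib.Blocks.TwistedChar.twist_apply (x := ⟨x, hxP⟩) hx, hconst, h1, one_mul]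
    · show Lib.Blocks.TwistedChar.twist p P (θ : G → ℂ) (ζ : P → ℂ) g = _
      rw [Lib.Blocks.TwistedChar.twist_eq_zero hx hxP, hvan θ hθB g x hx hxP]
  · rw [← Lib.Chars.card_irrCharacter (G := P)]
    refine (Nat.card_congr (Equiv.ofBijective (fun ζ => (⟨f ζ, hfB ζ⟩ : B))
      ⟨fun a b h => hinj (congrArg Subtype.val h), fun χ => ?_⟩)).symm
    obtain ⟨ζ, hζ⟩ := hsurj χ χ.2
    exact ⟨ζ, Subtype.ext hζ⟩

end Cfsg.Agent.S0968
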