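import Cfsg.Statements.S0971
import Cfsg.Agent.Lib.Blocks.Covering
import Cfsg.Agent.Lib.Blocks.InducedBlock

set_option autoImplicit false
open Cfsg

namespace Cfsg.Agent.S0971

/-- Let Q be a normal p-subgroup of the finite group G, let N = Q ⊔ C_G(Q) (a normal subgroup) and let b be a block of N relative to a maximal ideal M of the algebraic integers containing p. Then b induces some block of G, and every block B of G containing a character whose restriction to N has a constituent in b is induced by b. -/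
theorem result {G : Type*} [Group G] [Fintype G] (p : ℕ) [Fact p.Prime] (M : Ideal Cfsg.AlgInt) (hM : Cfsg.IsPModular p M) (Q : Subgroup G) [Q.Normal] (hQ : IsPGroup p Q) [Fintype ↥(Q ⊔ Subgroup.centralizer (Q : Set G))] (b : Set (Cfsg.IrrCharacter ↥(Q ⊔ Subgroup.centralizer (Q : Set G)))) (hb : Cfsg.IsPBlock M b) : Cfsg.InducedBlockDefined M (Q ⊔ Subgroup.centralizer (Q : Set G)) b ∧ ∀ B : Set (Cfsg.IrrCharacter G), Cfsg.IsPBlock M B → (∃ χ ∈ B, ∃ θ ∈ b, Cfsg.classInner (fun n : ↥(Q ⊔ Subgroup.centralizer (Q : Set G)) => (χ : G → ℂ) n) (θ : ↥(Q ⊔ Subgroup.centralizer (Q : Set G)) → ℂ) ≠ 0) → Cfsg.IsInducedBlock M (Q ⊔ Subgroup.centralizer (Q : Set G)) b B := by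
  classical
  have := Lib.Blocks.isPModular_isPrime hM
  have hQN : Q ≤ Q ⊔ Subgroup.centralizer (Q : Set G) := le_sup_left
  have hCN : Subgroup.centralizer (Q : Set G) ≤ Q ⊔ Subgroup.centralizer (Q : Set G) := le_sup_right
  have hN : Q ⊔ Subgroup.centralizer (Q : Set G) ≤ Subgroup.normalizer (Q : Set G) := by
    rw [Subgroup.normalizer_eq_top]; exact le_top
  have hnorm : (Q ⊔ Subgroup.centralizer (Q : Set G)).Normal := inferInstance
  refine ⟨Lib.Blocks.inducedBlockDefined hM hQ hQN hCN hN hb, ?_⟩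
  rintro B hB ⟨χ, hχ, θ, hθ, hcon⟩
  refine ⟨hb, hB, fun ξ hξ χ' hχ' g => ?_⟩
  by_cases hg : g ∈ Q ⊔ Subgroup.centralizer (Q : Set G)
  · have h := Lib.Blocks.Covering.congr_of_covers hB hb hχ hχ' hθ hξ hcon ⟨g, hg⟩
    rw [← neg_sub]
    exact Lib.Blocks.memLocalIdeal_neg h
  · have h0 : inducedCentralChar (Q ⊔ Subgroup.centralizer (Q : Set G))
        (ξ : ↥(Q ⊔ Subgroup.centralizer (Q : Set G)) → ℂ) g = 0 := by
      rw [inducedCentralChar]
      have he : {h : ↥(Q ⊔ Subgroup.centralizer (Q : Set G)) | IsConj g (h : G)} = ∅ := by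
        refine Set.eq_empty_iff_forall_notMem.2 fun h hh => hg ?_
        obtain ⟨a, ha⟩ := isConj_iff.1 (IsConj.symm hh)
        rw [← ha]
        exact hnorm.conj_mem _ h.2 a
      rw [he]
      exact finsum_mem_empty
    rw [h0, zero_sub]
    refine Lib.Blocks.memLocalIdeal_neg ((Lib.Blocks.omegaBar_classSumR_eq_zero_iff χ' g).1 ?_)
    refine Lib.Blocks.omegaBar_eq_zero_of_coeff_centralizer hM Q hQ χ' fun x hx => ?_
    have hnot : ¬ IsConj g x := fun h => hg (by
      obtain ⟨a, ha⟩ := isConj_iff.1 h.symm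
      rw [← ha]
      exact hnorm.conj_mem _ (hCN hx) a)
    rw [Lib.Blocks.classSumR, Lib.Blocks.coeff_classSum, if_neg hnot, map_zero]

end Cfsg.Agent.S0971
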