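import Cfsg.Statements.S0973
import Cfsg.Agent.Lib.Blocks.DefectProps
import Cfsg.Agent.Lib.Blocks.Covering
import Cfsg.Agent.Lib.BrauerMap.BlockConj

set_option autoImplicit false
open Cfsg

namespace Cfsg.Agent.S0973

/-- Let B be a block of the finite group G with defect group P (relative to a maximal ideal M of the algebraic integers containing p), and let L = P ⊔ C_G(P). Then (i) some block b of L with defect group P (viewed in L) induces B, and (ii) if b and b' are blocks of L both inducing B, there is n ∈ N_G(P) carrying b to b': for every θ ∈ b there is θ' ∈ b' with θ' x = θ (n x n⁻¹) for all x ∈ L. -/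
theorem result {G : Type*} [Group G] [Finite G] (p : ℕ) [Fact p.Prime] (M : Ideal Cfsg.AlgInt) (hM : Cfsg.IsPModular p M) (B : Set (Cfsg.IrrCharacter G)) (hB : Cfsg.IsPBlock M B) (P : Subgroup G) (hP : Cfsg.IsDefectGroup p M B P) : (∃ b : Set (Cfsg.IrrCharacter ↥(P ⊔ Subgroup.centralizer (P : Set G))), Cfsg.IsDefectGroup p M b (P.subgroupOf (P ⊔ Subgroup.centralizer (P : Set G))) ∧ Cfsg.IsInducedBlock M (P ⊔ Subgroup.centralizer (P : Set G)) b B) ∧ ∀ b b' : Set (Cfsg.IrrCharacter ↥(P ⊔ Subgroup.centralizer (P : Set G))), Cfsg.IsInducedBlock M (P ⊔ Subgroup.centralizer (P : Set G)) b B → Cfsg.IsInducedBlock M (P ⊔ Subgroup.centralizer (P : Set G)) b' B → ∃ n ∈ Subgroup.normalizer (P : Set G), ∀ θ ∈ b, ∃ θ' ∈ b', ∀ x : ↥(P ⊔ Subgroup.centralizer (P : Set G)), ∀ hx : n * (x : G) * n⁻¹ ∈ P ⊔ Subgroup.centralizer (P : Set G), (θ' : ↥(P ⊔ Subgroup.centralizer (P : Set G)) → ℂ) x = (θ : ↥(P ⊔ Subgroup.centralizer (P : Set G)) → ℂ)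 ⟨n * (x : G) * n⁻¹, hx⟩ := by
  classical
  cases nonempty_fintype G
  have := Lib.Blocks.isPModular_isPrime hM
  set L : Subgroup G := P ⊔ Subgroup.centralizer (P : Set G) with hL
  set N := Subgroup.normalizer (P : Set G) with hN
  have hPp : IsPGroup p P := Lib.Blocks.isPGroup_of_isDefectGroup hP
  have hPL : P ≤ L := le_sup_left
  have hCL : Subgroup.centralizer (P : Set G) ≤ L := le_sup_right
  have hLN : L ≤ N := sup_le Subgroup.le_normalizer (Subgroup.centralizer_le_normalizer _)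
  have hPN : P ≤ N := Subgroup.le_normalizer
  have hCN : Subgroup.centralizer (P : Set G) ≤ N := Subgroup.centralizer_le_normalizer _
  obtain ⟨χ, hχ⟩ := Lib.Blocks.isPBlock_nonempty hB
  constructor
  · obtain ⟨g, hg, hgD⟩ := Lib.Blocks.isDefectGroup_iff.1 hP
    obtain ⟨ξ, hξ⟩ := Lib.Blocks.exists_brPhi_eq hM hPp hCL hLN hB
      (Lib.Blocks.le_centralizer_singleton_iff.1 hgD.2.1) hg.2.1 hχ
    have hind := Lib.Blocks.isInducedBlock_of_brPhi_eq hM hPp hPL hCL hLN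
      (Lib.Blocks.isPBlock_blockOf ξ) hB (Lib.Blocks.mem_blockOf_self ξ) hχ hξ
    obtain ⟨D, hD⟩ := Lib.Blocks.exists_isDefectGroup (p := p) hind.1
    have hDeq : D = P.subgroupOf L := by
      refine Subgroup.map_injective L.subtype_injective ?_
      rw [Subgroup.map_subgroupOf_eq_of_le hPL]
      exact Lib.Blocks.map_defectGroup_eq hM hPp hPL hLN hind hP hD
    exact ⟨_, hDeq ▸ hD, hind⟩
  intro b b' hb hb'
  set L' := L.subgroupOf N with hL'
  set P' := P.subgroupOf N with hP'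
  let e : L' ≃* L := Subgroup.subgroupOfEquivOfLe hLN
  have hcoe : ∀ x : L', ((e x : L) : G) = ((x : N) : G) := fun _ => rfl
  haveI hP'n : P'.Normal := (Subgroup.normal_subgroupOf_iff_le_normalizer hPN).2 le_rfl
  have hP'p : IsPGroup p P' := hPp.of_equiv (Subgroup.subgroupOfEquivOfLe hPN).symm
  have hcen : ∀ x : N, x ∈ Subgroup.centralizer (P' : Set N) ↔
      (x : G) ∈ Subgroup.centralizer (P : Set G) := by
    intro x
    simp only [Subgroup.mem_centralizer_iff]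
    exact ⟨fun h a ha => congrArg Subtype.val (h ⟨a, hPN ha⟩ ha),
      fun h a ha => Subtype.ext (h a ha)⟩
  have hC'L : Subgroup.centralizer (P' : Set N) ≤ L' := fun x hx => hCL ((hcen x).1 hx)
  have hP'L : P' ≤ L' := fun x hx => hPL hx
  haveI hL'n : L'.Normal := by
    have : L' = P' ⊔ Subgroup.centralizer (P' : Set N) := by
      refine le_antisymm ?_ (sup_le hP'L hC'L)
      intro x hx
      have hx' : (x : G) ∈ P ⊔ Subgroup.centralizer (P : Set G) := hx
      rw [sup_comm, ← SetLike.mem_coe, ← Subgroup.coe_subtype,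
        Subgroup.coe_mul_of_left_le_normalizer_right _ _ hCN] at hx'
      obtain ⟨c, hc, a, ha, hca⟩ := hx'
      have hxe : x = ⟨c, hCN hc⟩ * ⟨a, hPN ha⟩ := Subtype.ext hca.symm
      rw [hxe]
      exact mul_mem (Subgroup.mem_sup_right ((hcen _).2 hc)) (Subgroup.mem_sup_left ha)
    rw [this]
    infer_instance
  have hL'norm : L' ≤ Subgroup.normalizer (P' : Set N) := by
    rw [Subgroup.normalizer_eq_top]; exact le_top
  cases nonempty_fintype N
  let : Fintype L' := Fintype.ofFinite _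
  have key : ∀ c₀ : Set (IrrCharacter L), IsInducedBlock M L c₀ B →
      ∃ c : Set (IrrCharacter N), IsPBlock M c ∧ IsDefectGroup p M c P' ∧ IsInducedBlock M N c B ∧
        IsInducedBlock M L' (Lib.Chars.irrCongr e '' c₀) c := by
    intro c₀ hc₀
    obtain ⟨ξ, hξ⟩ := Lib.Blocks.isPBlock_nonempty hc₀.1
    let ξ' := Lib.Chars.irrCongr e ξ
    obtain ⟨χN, hχN⟩ := Lib.Blocks.exists_omegaBar_eq_brPhi hM hP'p hC'L hL'norm ξ'
    have htr : ∀ z : Lib.Blocks.RCenter M G,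
        Lib.Blocks.omegaR M ξ' (Lib.Blocks.brR M P' L' hL'norm (Lib.Blocks.brR M P N le_rfl z)) =
          Lib.Blocks.omegaR M ξ (Lib.Blocks.brR M P L hLN z) := by
      intro z
      let : Fintype L := Fintype.ofFinite _
      refine Subtype.ext ?_
      rw [Lib.Blocks.coe_omegaR, Lib.Blocks.coe_omegaR, Lib.Blocks.omega_eq_sum, Lib.Blocks.omega_eq_sum]
      refine Fintype.sum_equiv e.toEquiv _ _ fun x => ?_
      have h1 : (ξ' : L' → ℂ) x = (ξ : L → ℂ) (e x) := rfl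
      have h2 : (ξ' : L' → ℂ) 1 = (ξ : L → ℂ) 1 := congrArg (ξ : L → ℂ) (map_one e)
      simp only [Lib.Blocks.toC, MonoidAlgebra.coeff_mapRingHom, Lib.Blocks.coe_brR,
        Lib.Blocks.coeff_trunc, MulEquiv.toEquiv_eq_coe, EquivLike.coe_coe, h1, h2, hcoe, hcen]
      by_cases hx : ((x : N) : G) ∈ Subgroup.centralizer (P : Set G) <;> simp [hx]
    have hc := Lib.Blocks.isPBlock_blockOf (M := M) χN
    have hindNG : IsInducedBlock M N (blockOf M (χN : N → ℂ)) B := by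
      refine (Lib.Blocks.isInducedBlock_iff_brauer hM hPp hPN hCN le_rfl hc hB).2 fun η hη χ' hχ' g => ?_
      rw [Lib.Blocks.memLocalIdeal_brauer_sub_iff hM hPp hCN le_rfl, Lib.Blocks.brPhi_apply,
        Lib.Blocks.omegaBar_eq_of_sameBlock
          (Lib.Blocks.sameBlock_of_mem hc hη (Lib.Blocks.mem_blockOf_self χN)),
        ← hχN, Lib.Blocks.brPhi_apply, Lib.Blocks.omegaBar_apply, htr, ← Lib.Blocks.omegaBar_apply,
        ← Lib.Blocks.brPhi_apply hM hPp hCL hLN,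
        ← Lib.Blocks.memLocalIdeal_brauer_sub_iff hM hPp hCL hLN]
      exact (Lib.Blocks.isInducedBlock_iff_brauer hM hPp hPL hCL hLN hc₀.1 hB).1 hc₀ ξ hξ χ' hχ' g
    obtain ⟨D, hD⟩ := Lib.Blocks.exists_isDefectGroup (p := p) hc
    have hDeq : D = P' := by
      refine Subgroup.map_injective N.subtype_injective ?_
      rw [hP', Subgroup.map_subgroupOf_eq_of_le hPN]
      exact Lib.Blocks.map_defectGroup_eq hM hPp hPN le_rfl hindNG hP hD
    exact ⟨_, hc, hDeq ▸ hD, hindNG, Lib.Blocks.isInducedBlock_of_brPhi_eq hM hP'p hP'L hC'L hL'norm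
      (Lib.BrauerMap.isPBlock_image_irrCongr e hc₀.1) hc ⟨ξ, hξ, rfl⟩
      (Lib.Blocks.mem_blockOf_self χN) hχN⟩
  obtain ⟨c, hc, hcD, hcG, hbc⟩ := key b hb
  obtain ⟨c', hc', hcD', hcG', hbc'⟩ := key b' hb'
  obtain ⟨c₁, -, hu⟩ := Lib.Blocks.firstMain_unique hM hPp hB hP
  obtain rfl : c = c' := (hu c ⟨hc, hcD, hcG⟩).trans (hu c' ⟨hc', hcD', hcG'⟩).symm
  have hcov : ∀ {b₀ : Set (IrrCharacter L')}, IsInducedBlock M L' b₀ c →
      ∃ η ∈ c, ∃ θ ∈ b₀, classInner (Lib.Clifford.resFun L' (η : N → ℂ)) (θ : L' → ℂ) ≠ 0 :=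
    fun {b₀} h => Lib.Blocks.Covering.covers_of_congr hc h.1 fun η hη θ hθ n => by
      rw [← neg_sub]
      exact Lib.Blocks.memLocalIdeal_neg (h.2.2 θ hθ η hη n)
  obtain ⟨η, hη, θ₁, hθ₁, hcon⟩ := hcov hbc
  obtain ⟨η', hη', θ₂, hθ₂, hcon'⟩ := hcov hbc'
  obtain ⟨a, φ, hφ, haφ⟩ := Lib.Blocks.Covering.constituent_mem_conjClosure hbc.1
    (Lib.Blocks.sameBlock_of_mem hc hη hη') hθ₁ hcon hcon'
  refine ⟨(a : G), a.2, fun θ hθ => ?_⟩
  have hθ' : Lib.Chars.irrCongr e θ ∈ Lib.Chars.irrCongr e '' b := ⟨θ, hθ, rfl⟩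
  have hs := Lib.Blocks.Covering.sameBlock_conjFun (M := M) a
    (Lib.Blocks.sameBlock_of_mem hbc.1 hφ hθ')
  rw [haφ] at hs
  let ψ : IrrCharacter L' :=
    ⟨_, Lib.Clifford.isIrrCharacter_conjFun a (Lib.Chars.irrCongr e θ).2⟩
  obtain ⟨θ', hθ'b, hθ'e⟩ := Lib.Blocks.mem_of_sameBlock (ψ := ψ) hbc'.1 hθ₂ hs
  refine ⟨θ', hθ'b, fun x hx => ?_⟩
  have h := congrFun (congrArg Subtype.val hθ'e) (e.symm x)
  change (θ' : L → ℂ) (e (e.symm x)) = _ at h
  rw [e.apply_symm_apply] at h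
  rw [h]
  show (θ : L → ℂ) (e _) = _
  exact congrArg _ (Subtype.ext rfl)

end Cfsg.Agent.S0973
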