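import Cfsg.Statements.S2278
import Cfsg.Agent.Lib.KnownSimple.RootGeneration
import Cfsg.Agent.Lib.LinGroup.Generation
import Mathlib

/-!
`SL_3(F)` is generated by two conjugate regular unipotent elements.

With `U` the standard regular unipotent and `W` lower triangular with diagonal
`λ, λ⁻², λ` and suitable entries, `U⁻¹ W` is conjugate to `U`; a power of `W` is a
root element in position `(2, 0)`, and `U` with enough of these gives everything.
-/

set_option autoImplicit false
open Cfsg

namespace Cfsg.Agent.S2278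

open Matrix Cfsg.Agent.Lib.KnownSimple

variable {F : Type*} [Field F]

abbrev G3 (F : Type*) [Field F] := Matrix.SpecialLinearGroup (Fin 3) F

/-- The standard basis vectors. -/
abbrev e (i : ℕ) : Fin 3 → F := eN 3 i

/-- The standard regular unipotent element. -/
def U (F : Type*) [Field F] : G3 F := pathElt 3 (fun _ => 1)

theorem U_coe : ((U F : G3 F) : Matrix (Fin 3) (Fin 3) F) = !![1, 1, 0; 0, 1, 1; 0, 0, 1] := by
  ext i j
  fin_cases i <;> fin_cases j <;> simp [U, pathElt, pathMat]

theorem U_mulVec_zero : ((U F : G3 F) : Matrix (Fin 3) (Fin 3) F) *ᵥ e 0 = e 0 := by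
  show pathMat 3 (fun _ => (1 : F)) *ᵥ eN 3 0 = _
  exact pathMat_mulVec_zero _

theorem U_mulVec_one : ((U F : G3 F) : Matrix (Fin 3) (Fin 3) F) *ᵥ e 1 = e 1 + e 0 := by
  show pathMat 3 (fun _ => (1 : F)) *ᵥ eN 3 (0 + 1) = _
  rw [pathMat_mulVec_succ _ (by omega), one_smul]

theorem U_mulVec_two : ((U F : G3 F) : Matrix (Fin 3) (Fin 3) F) *ᵥ e 2 = e 2 + e 1 := by
  show pathMat 3 (fun _ => (1 : F)) *ᵥ eN 3 (1 + 1) = _
  rw [pathMat_mulVec_succ _ (by omega), one_smul]

theorem zero_vecMul_U : e 0 ᵥ* ((U F : G3 F) : Matrix (Fin 3) (Fin 3) F) = e 0 + e 1 := by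
  show eN 3 0 ᵥ* pathMat 3 (fun _ => (1 : F)) = _
  rw [vecMul_pathMat _ (by omega), one_smul]

theorem alt_vecMul_U : (e 0 - e 1 + e 2) ᵥ* ((U F : G3 F) : Matrix (Fin 3) (Fin 3) F) = e 0 := by
  funext x
  fin_cases x <;> simp [U_coe, eN, Matrix.vecMul, dotProduct, Fin.sum_univ_three]

section Generation

variable {H : Subgroup (G3 F)}

/-- Conjugation of a root element in position `(2,0)` by `U`. -/
theorem t1 (hu : U F ∈ H) {c : F} (h : HasRoot H 2 0 c) :
    InH H (Tm (c • (e 2 + e 1)) (e 0 - e 1 + e 2)) := by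
  have h1 := InH.conj hu (a := c • e 2) (φ := e 0 - e 1 + e 2) (by rw [alt_vecMul_U]; exact h)
  rwa [Matrix.mulVec_smul, U_mulVec_two] at h1

theorem aRoot (hu : U F ∈ H) {c d : F} (hc : HasRoot H 2 0 c) (hd : HasRoot H 2 0 d) :
    InH H (Tm ((c * d) • (e 2 + e 1)) (e 0)) := by
  have hT := t1 hu hc
  obtain ⟨g, hg, hge⟩ := hd
  have h1 : InH H (Tm (c • (e 2 + e 1)) (e 0 - e 1 + e 2 - d • e 0)) := by
    have h := InH.conj hg (a := c • (e 2 + e 1)) (φ := e 0 - e 1 + e 2 - d • e 0) (by
      rw [hge]
      have e : (e 0 - e 1 + e 2 - d • e 0) ᵥ* Tm (d • eN 3 2) (eN 3 0) = (e 0 - e 1 + e 2 : Fin 3 → F) := by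
        rw [vecMul_Tm]
        funext x
        fin_cases x <;> simp [eN, dotProduct, Fin.sum_univ_three]
      rw [e]; exact hT)
    have e : Tm (d • eN 3 2) (eN 3 0) *ᵥ (c • (e 2 + e 1)) = (c • (e 2 + e 1) : Fin 3 → F) := by
      rw [Tm_mulVec]
      funext x
      fin_cases x <;> simp [eN, dotProduct, Fin.sum_univ_three]
    rwa [hge, e] at h
  have hφ : (e 0 - e 1 + e 2 - d • e 0) ⬝ᵥ (c • (e 2 + e 1)) = (0 : F) := by
    simp [eN, dotProduct, Fin.sum_univ_three]
  have h2 := InH.neg_left h1 hφ
  have h3 := h2.mul hT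
  rw [← neg_smul, Tm_smul, Tm_smul c _ (e 0 - e 1 + e 2), Tm_mul_right] at h3
  · rw [mul_comm, Tm_smul]
    rw [mul_smul]
    convert h3 using 2
    funext x
    fin_cases x <;> simp [eN] <;> ring
  · simp [eN, dotProduct, Fin.sum_univ_three]

theorem bRoot (hu : U F ∈ H) {c : F} (h : InH H (Tm (c • (e 2 + e 1)) (e 0))) :
    InH H (Tm (c • e 2) (e 0 + e 1)) := by
  have h1 := InH.conj' hu (a := c • e 2) (φ := e 0) (by rw [Matrix.mulVec_smul, U_mulVec_two]; exact h)
  rwa [zero_vecMul_U] at h1

/-- The scalars of root elements in position `(2,0)` are closed under four-fold products. -/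
theorem quad (hu : U F ∈ H) {c₁ c₂ c₃ c₄ : F} (h₁ : HasRoot H 2 0 c₁) (h₂ : HasRoot H 2 0 c₂)
    (h₃ : HasRoot H 2 0 c₃) (h₄ : HasRoot H 2 0 c₄) : HasRoot H 2 0 (c₁ * c₂ * (c₃ * c₄)) := by
  have hA := aRoot hu h₁ h₂
  obtain ⟨g, hg, hge⟩ := bRoot hu (aRoot hu h₃ h₄)
  set x := c₁ * c₂
  set y := c₃ * c₄
  have h := InH.conj hg (a := x • (e 2 + e 1)) (φ := e 0) (by
    rw [hge]
    have e : (e 0 : Fin 3 → F) ᵥ* Tm (y • e 2) (e 0 + e 1) = e 0 := by
      rw [vecMul_Tm]; simp [eN, dotProduct, Fin.sum_univ_three]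
    rw [e]; exact hA)
  rw [hge, Tm_mulVec] at h
  have h2 := (InH.neg_left hA (by simp [eN, dotProduct, Fin.sum_univ_three])).mul h
  rw [Tm_mul_left _ _ _ (by simp [eN, dotProduct, Fin.sum_univ_three]), neg_add_cancel_left] at h2
  have e : (((e 0 + e 1) : Fin 3 → F) ⬝ᵥ (x • (e 2 + e 1))) • (y • (e 2 : Fin 3 → F)) = ((x * y) • eN 3 2 : Fin 3 → F) := by
    rw [smul_smul]; congr 1
    simp [eN, dotProduct, Fin.sum_univ_three]
  rw [e] at h2
  exact h2

/-- Closure of the scalar set under a generating element. -/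
theorem all_scalars (hu : U F ∈ H) {γ : F} (hγ : γ ≠ 0) (h : HasRoot H 2 0 γ)
    (hcl : Subring.closure ({γ ^ 3} : Set F) = ⊤) : ∀ c, HasRoot H 2 0 c := by
  let R : Subring F :=
    { carrier := {s | ∀ c, HasRoot H 2 0 c → HasRoot H 2 0 (s * c)}
      one_mem' := fun c h => by rwa [one_mul]
      mul_mem' := fun {s t} hs ht c h => by rw [mul_assoc]; exact hs _ (ht c h)
      zero_mem' := fun c h => by rw [zero_mul]; exact HasRoot.zero
      add_mem' := fun {s t} hs ht c h => by rw [add_mul]; exact (hs c h).add (by omega) (by omega) (ht c h)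
      neg_mem' := fun {s} hs c h => by rw [neg_mul]; exact (hs c h).neg (by omega) (by omega) }
  have hR : ∀ s, s ∈ R := fun s => by
    have : Subring.closure ({γ ^ 3} : Set F) ≤ R := by
      refine Subring.closure_le.2 (Set.singleton_subset_iff.2 fun c hc => ?_)
      have := quad hu h h h hc
      rwa [← mul_assoc, ← pow_three'] at this
    exact this (hcl ▸ Subring.mem_top s)
  intro c
  have := hR (c / γ) γ h
  rwa [div_mul_cancel₀ _ hγ] at this

theorem eq_top (hu : U F ∈ H) (hW : ∀ c, HasRoot H 2 0 c) : H = ⊤ := by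
  have hA : ∀ c : F, InH H (Tm (c • (e 2 + e 1)) (e 0)) := fun c => by
    simpa using aRoot hu (hW c) (hW 1)
  have r10 : ∀ c, HasRoot H 1 0 c := fun c => by
    have h := (HasRoot.neg (by omega) (by omega) (hW c)).mul (hA c)
    rw [Tm_mul_left _ _ _ (by simp [eN, dotProduct, Fin.sum_univ_three]), smul_add, neg_smul,
      neg_add_cancel_left] at h
    exact h
  have r21 : ∀ c, HasRoot H 2 1 c := fun c => by
    have h := (HasRoot.neg (by omega) (by omega) (hW c)).mul (bRoot hu (hA c))
    rw [← neg_one_mul c, mul_comm, mul_smul, Tm_smul, Tm_smul, Tm_smul c (e 2) (e 0 + e 1)] at h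
    rw [HasRoot, Tm_smul]
    rw [Tm_mul_right _ _ _ (by simp [eN, dotProduct, Fin.sum_univ_three])] at h
    convert h using 2
    funext x
    fin_cases x <;> simp [eN]
  have r02 : ∀ c, HasRoot H 0 2 c := fun c => by
    have h1 := InH.conj hu (a := c • e 1) (φ := e 0 - e 1 + e 2) (by rw [alt_vecMul_U]; exact r10 c)
    rw [Matrix.mulVec_smul, U_mulVec_one] at h1
    obtain ⟨g, hg, hge⟩ := r10 1
    have h2 := InH.conj' hg (a := c • e 0) (φ := e 0 - e 1 + e 2) (by
      rw [hge, Tm_mulVec]
      convert h1 using 2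
      funext x
      fin_cases x <;> simp [eN, dotProduct, Fin.sum_univ_three])
    obtain ⟨k, hk, hke⟩ := r21 1
    have h3 := InH.conj' hk (a := c • e 0)
      (φ := (e 0 - e 1 + e 2) ᵥ* (g : Matrix (Fin 3) (Fin 3) F)) (by
      rw [hke, Tm_mulVec]
      convert h2 using 2
      funext x
      fin_cases x <;> simp [eN, dotProduct, Fin.sum_univ_three])
    rw [hke, hge] at h3
    rw [HasRoot]
    convert h3 using 2
    funext x
    fin_cases x <;> simp [eN, Tm, Matrix.vecMul, dotProduct, Fin.sum_univ_three, Matrix.vecMulVec_apply]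
  have r01 : ∀ c, HasRoot H 0 1 c := fun c => by
    simpa using HasRoot.comm (show 0 < 3 by omega) (show 1 < 3 by omega) (show 2 < 3 by omega)
      (by omega) (by omega) (by omega) (r02 c) (r21 1)
  have r12 : ∀ c, HasRoot H 1 2 c := fun c => by
    simpa using HasRoot.comm (show 1 < 3 by omega) (show 2 < 3 by omega) (show 0 < 3 by omega)
      (by omega) (by omega) (by omega) (r10 c) (r02 1)
  refine Cfsg.Agent.Lib.LinGroup.eq_top_of_transvection_mem H fun i j hij c => ?_
  have hroot : HasRoot H (i : ℕ) (j : ℕ) c := by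
    fin_cases i <;> fin_cases j
    all_goals first
      | exact absurd rfl hij
      | exact r01 c | exact r02 c | exact r10 c | exact r12 c | exact hW c | exact r21 c
  obtain ⟨g, hg, hge⟩ := hroot
  suffices g = Matrix.SpecialLinearGroup.transvection hij c from this ▸ hg
  apply Subtype.ext
  rw [hge]
  change Tm (c • eN 3 (i : ℕ)) (eN 3 (j : ℕ)) = Matrix.transvection i j c
  ext p q
  fin_cases i <;> fin_cases j <;> fin_cases p <;> fin_cases q <;>
    simp [Tm, Matrix.transvection, eN, Matrix.vecMulVec_apply, Matrix.single_apply, Matrix.one_apply]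

end Generation

section Field

variable [Fintype F]

/-- A power of a generator of the unit group generates the field as a ring. -/
theorem closure_generator_pow (g : Fˣ) (hg : ∀ x, x ∈ Subgroup.zpowers g) (m : ℕ)
    (hne : ∀ k d : ℕ, 2 ≤ k → 2 ≤ d → k ^ d = Fintype.card F → ¬ Fintype.card F - 1 ∣ m * (k - 1)) :
    Subring.closure ({(g : F) ^ m} : Set F) = ⊤ := by
  classical
  set K := Subring.closure ({(g : F) ^ m} : Set F) with hK
  let _ : Field K := (Finite.isField_of_domain K).toField
  let _ : Algebra K F := K.subtype.toAlgebra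
  have : Module.Finite K F := Module.Finite.of_finite
  have := Fintype.ofFinite K
  have hcard := Module.card_eq_pow_finrank (K := K) (V := F)
  by_contra hnt
  have hd : 2 ≤ Module.finrank K F := by
    by_contra hlt
    push Not at hlt
    interval_cases hm : Module.finrank K F
    · have := Fintype.one_lt_card (α := F); simp at hcard; omega
    · apply hnt
      refine Subring.toSubmonoid_injective (SetLike.coe_injective ?_)
      refine Set.eq_univ_of_forall fun x => ?_
      have hb : Function.Bijective (K.subtype) :=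
        (Fintype.bijective_iff_injective_and_card _).2 ⟨Subtype.val_injective, by rw [hcard, pow_one]⟩
      obtain ⟨y, hy⟩ := hb.2 x
      exact hy ▸ y.2
  let y : K := ⟨(g : F) ^ m, Subring.subset_closure rfl⟩
  have hy : y ≠ 0 := fun h => pow_ne_zero m g.ne_zero (congrArg Subtype.val h)
  have hy1 := congrArg Subtype.val (FiniteField.pow_card_sub_one_eq_one y hy)
  refine hne (Fintype.card K) _ Fintype.one_lt_card hd hcard.symm ?_
  rw [show Fintype.card F - 1 = orderOf g by
    rw [orderOf_eq_card_of_forall_mem_zpowers hg, Nat.card_eq_fintype_card, Fintype.card_units]]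
  refine orderOf_dvd_of_pow_eq_one (Units.ext ?_)
  rw [Units.val_pow_eq_pow_val, pow_mul, Units.val_one]
  simpa [y] using hy1

end Field

/-- The conjugating matrix. -/
def conjMat (l a : F) : Matrix (Fin 3) (Fin 3) F :=
  !![-1, -1, 0; 1 - l, 1, 0; -a - 1 + l + (l ^ 2)⁻¹ - l⁻¹, (1 - l) / l, -l⁻¹]

/-- The lower triangular product. -/
def wMat (l a : F) : Matrix (Fin 3) (Fin 3) F :=
  !![l, 0, 0; a, (l ^ 2)⁻¹, 0;
    3 - 2 * l - (l ^ 2)⁻¹ + (l + 2 * (l ^ 2)⁻¹ - 3 * l⁻¹), l + 2 * (l ^ 2)⁻¹ - 3 * l⁻¹ - a, l]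

theorem conjMat_det {l : F} (hl : l ≠ 0) (a : F) : (conjMat l a).det = 1 := by
  simp [conjMat, Matrix.det_fin_three]
  field_simp
  ring

theorem conjMat_rel {l : F} (hl : l ≠ 0) (a : F) :
    ((U F : G3 F) : Matrix (Fin 3) (Fin 3) F) * conjMat l a * ((U F : G3 F) : Matrix (Fin 3) (Fin 3) F) =
      wMat l a * conjMat l a := by
  rw [U_coe]
  ext i j
  fin_cases i <;> fin_cases j <;>
    simp [conjMat, wMat, Matrix.mul_apply, Fin.sum_univ_three] <;> field_simp <;> ring

/-- The group contains a matrix power of `wMat`, so criteria on these powers suffice. -/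
theorem of_powers {l : F} (hl : l ≠ 0) (a : F)
    (h : ∀ H : Subgroup (G3 F), U F ∈ H → InH H (wMat l a) → H = ⊤) :
    ∃ u g : G3 F, IsNilpotent ((u : Matrix (Fin 3) (Fin 3) F) - 1) ∧
      ((u : Matrix (Fin 3) (Fin 3) F) - 1) ^ (3 - 1) ≠ 0 ∧
      Subgroup.closure ({u, g * u * g⁻¹} : Set (G3 F)) = ⊤ := by
  let g : G3 F := ⟨conjMat l a, conjMat_det hl a⟩
  obtain ⟨h1, h2⟩ := pathMat_regular (n := 3) (by omega) (fun _ => (1 : F)) fun _ _ => one_ne_zero
  refine ⟨U F, g, h1, h2, h _ (Subgroup.subset_closure (by simp)) ⟨U F * (g * U F * g⁻¹), ?_, ?_⟩⟩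
  · exact mul_mem (Subgroup.subset_closure (by simp)) (Subgroup.subset_closure (by simp))
  · have hh : ((U F * g * U F : G3 F) : Matrix (Fin 3) (Fin 3) F) = wMat l a * (g : Matrix (Fin 3) (Fin 3) F) := by
      simp only [Matrix.SpecialLinearGroup.coe_mul]
      exact conjMat_rel hl a
    rw [← mul_assoc, ← mul_assoc, Matrix.SpecialLinearGroup.coe_mul, hh, mul_assoc,
      ← Matrix.SpecialLinearGroup.coe_mul, mul_inv_cancel, Matrix.SpecialLinearGroup.coe_one, mul_one]

theorem wMat_one_sq [CharP F 2] (a : F) :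
    wMat 1 a * wMat 1 a = Tm ((a ^ 2) • eN 3 2) (eN 3 0) := by
  have h2 : (2 : F) = 0 := CharTwo.two_eq_zero
  ext i j
  fin_cases i <;> fin_cases j <;>
    simp [wMat, Tm, eN, Matrix.mul_apply, Fin.sum_univ_three, Matrix.vecMulVec_apply] <;> grind

/-- Powers of `wMat l 0`. -/
theorem wMat_zero_pow {l : F} (hl : l ≠ 0) (hd : (l ^ 2)⁻¹ - l ≠ 0) (k : ℕ) :
    wMat l 0 ^ k = !![l ^ k, 0, 0; 0, ((l ^ 2)⁻¹) ^ k, 0;
      (k : F) * (3 - 2 * l - (l ^ 2)⁻¹ + (l + 2 * (l ^ 2)⁻¹ - 3 * l⁻¹)) * l ^ k / l,
      (l + 2 * (l ^ 2)⁻¹ - 3 * l⁻¹) * (((l ^ 2)⁻¹) ^ k - l ^ k) / ((l ^ 2)⁻¹ - l), l ^ k] := by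
  induction k with
  | zero => ext i j; fin_cases i <;> fin_cases j <;> simp
  | succ k ih =>
    rw [pow_succ, ih]
    simp only [wMat]
    generalize (l ^ 2)⁻¹ = μ at hd ⊢
    generalize (l + 2 * μ - 3 * l⁻¹) = S
    generalize (3 - 2 * l - μ + S) = b
    ext i j
    fin_cases i <;> fin_cases j <;>
      simp [Matrix.mul_apply, Fin.sum_univ_three, pow_succ] <;> field_simp <;> ring

/-- The four-element field model, as pairs of booleans `(x, y) ↦ x + y ω`. -/
def fAdd (s t : Bool × Bool) : Bool × Bool := (xor s.1 t.1, xor s.2 t.2)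

/-- Multiplication in the model. -/
def fMul (s t : Bool × Bool) : Bool × Bool :=
  (xor (s.1 && t.1) (s.2 && t.2), xor (xor (s.1 && t.2) (s.2 && t.1)) (s.2 && t.2))

/-- The value of a pair. -/
def val (ω : F) (s : Bool × Bool) : F := (if s.1 then 1 else 0) + (if s.2 then ω else 0)

theorem val_add [CharP F 2] (ω : F) (s t : Bool × Bool) : val ω (fAdd s t) = val ω s + val ω t := by
  have h2 : (2 : F) = 0 := CharTwo.two_eq_zero
  obtain ⟨x, y⟩ := s; obtain ⟨x', y'⟩ := t
  cases x <;> cases y <;> cases x' <;> cases y' <;> simp [fAdd, val] <;> grind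

theorem val_mul [CharP F 2] {ω : F} (hω : ω * ω = ω + 1) (s t : Bool × Bool) :
    val ω (fMul s t) = val ω s * val ω t := by
  have h2 : (2 : F) = 0 := CharTwo.two_eq_zero
  obtain ⟨x, y⟩ := s; obtain ⟨x', y'⟩ := t
  cases x <;> cases y <;> cases x' <;> cases y' <;> simp [fMul, val] <;> grind

/-- Matrices in the model, as nested vectors. -/
abbrev MB := Fin 3 → Fin 3 → Bool × Bool

/-- Multiplication of model matrices. -/
def mm (A B : MB) : MB := fun i j => fAdd (fAdd (fMul (A i 0) (B 0 j)) (fMul (A i 1) (B 1 j))) (fMul (A i 2) (B 2 j))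

/-- The matrix of a model matrix. -/
def toM (ω : F) (A : MB) : Matrix (Fin 3) (Fin 3) F := Matrix.of fun i j => val ω (A i j)

theorem toM_mul [CharP F 2] {ω : F} (hω : ω * ω = ω + 1) (A B : MB) :
    toM ω (mm A B) = toM ω A * toM ω B := by
  ext i j
  simp [toM, mm, Matrix.mul_apply, Fin.sum_univ_three, val_add, val_mul hω]

/-- The model of `U`. -/
def uB : MB := ![![(true, false), (true, false), (false, false)],
  ![(false, false), (true, false), (true, false)], ![(false, false), (false, false), (true, false)]]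

/-- The model of `wMat ω ω`. -/
def wB : MB := ![![(false, true), (false, false), (false, false)],
  ![(false, true), (false, true), (false, false)], ![(false, true), (true, true), (false, true)]]

/-- The model of a root element. -/
def rB (c : Bool × Bool) : MB := ![![(true, false), (false, false), (false, false)],
  ![(false, false), (true, false), (false, false)], ![c, (false, false), (true, false)]]

theorem case_four [CharP F 2] {ω : F} (hω : ω * ω = ω + 1) {H : Subgroup (G3 F)} (hu : U F ∈ H)
    (hW : InH H (wMat ω ω)) : HasRoot H 2 0 (1 : F) ∧ HasRoot H 2 0 ω := by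
  have h2 : (2 : F) = 0 := CharTwo.two_eq_zero
  have hω0 : ω ≠ 0 := fun h => by simp [h] at hω
  have eU : toM ω uB = ((U F : G3 F) : Matrix (Fin 3) (Fin 3) F) := by
    rw [U_coe]; ext i j; fin_cases i <;> fin_cases j <;> simp [toM, uB, val]
  have i1 : ω⁻¹ = ω + 1 := by
    refine inv_eq_of_mul_eq_one_right ?_
    grind
  have i2 : (ω ^ 2)⁻¹ = ω := by
    refine inv_eq_of_mul_eq_one_right ?_
    grind
  have eW : toM ω wB = wMat ω ω := by
    ext i j
    fin_cases i <;> fin_cases j <;> simp [toM, wB, wMat, val, i1, i2] <;> grind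
  have hall : ∀ l : List Bool, InH H (toM ω ((l.map fun b => if b then wB else uB).foldl mm (rB (false, false)))) := by
    intro l
    induction l using List.reverseRecOn with
    | nil =>
      have : toM ω (rB (false, false)) = 1 := by
        ext i j; fin_cases i <;> fin_cases j <;> simp [toM, rB, val]
      simpa [this] using InH.one
    | append_singleton l b ih =>
      rw [List.map_append, List.foldl_append]
      simp only [List.map_cons, List.map_nil, List.foldl_cons, List.foldl_nil]
      rw [toM_mul hω]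
      refine ih.mul ?_
      cases b
      · simp only [Bool.false_eq_true, if_false]
        rw [eU]
        exact ⟨U F, hu, rfl⟩
      · simpa [eW] using hW
  have er : ∀ c, toM ω (rB c) = Tm (val ω c • eN 3 2) (eN 3 0) := fun c => by
    ext i j
    fin_cases i <;> fin_cases j <;> simp [toM, rB, Tm, eN, Matrix.vecMulVec_apply, val] <;> rfl
  constructor
  · have h := hall [false, false, false, true, true, true, false, true, false, true, false, true, true,
      false, false, true, false, true, false]
    rw [show List.foldl mm (rB (false, false)) (List.map _ _) = rB (true, false) by decide +kernel, er] at h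
    simpa [val, HasRoot] using h
  · have h := hall [true, true, true, true, true, true]
    rw [show List.foldl mm (rB (false, false)) (List.map _ _) = rB (false, true) by decide +kernel, er] at h
    simpa [val, HasRoot] using h

theorem InH_pow {n : ℕ} {H : Subgroup (Matrix.SpecialLinearGroup (Fin n) F)} {M : Matrix (Fin n) (Fin n) F}
    (h : InH H M) (k : ℕ) : InH H (M ^ k) := by
  obtain ⟨g, hg, rfl⟩ := h
  exact ⟨g ^ k, H.pow_mem hg k, Matrix.SpecialLinearGroup.coe_pow g k⟩

/-- Let F be a finite field. Then SL_3(F) is generated by two conjugate regular unipotent elements: there are u with u − 1 nilpotent and (u − 1)² ≠ 0, and g, such that u and g u g⁻¹ generate SL_3(F). -/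
theorem result {F : Type*} [Field F] [Fintype F] :
    ∃ u g : Matrix.SpecialLinearGroup (Fin 3) F, IsNilpotent ((u : Matrix (Fin 3) (Fin 3) F) - 1) ∧ ((u : Matrix (Fin 3) (Fin 3) F) - 1) ^ (3 - 1) ≠ 0 ∧
      Subgroup.closure ({u, g * u * g⁻¹} : Set (Matrix.SpecialLinearGroup (Fin 3) F)) = ⊤ := by
  classical
  obtain ⟨g, hg⟩ := IsCyclic.exists_generator (α := Fˣ)
  have hg0 : (g : F) ≠ 0 := g.ne_zero
  obtain ⟨p, hp⟩ := CharP.exists F
  haveI := hp
  obtain ⟨e, hpp, hq⟩ := FiniteField.card F p
  by_cases hp2 : p = 2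
  · subst hp2
    by_cases hq4 : Fintype.card F = 4
    · obtain ⟨hω1, hω3⟩ : (g : F) ≠ 1 ∧ (g : F) ^ 3 = 1 := by
        constructor
        · intro h
          have h1 : orderOf g = 1 := orderOf_eq_one_iff.2 (Units.ext h)
          rw [orderOf_eq_card_of_forall_mem_zpowers hg, Nat.card_eq_fintype_card, Fintype.card_units, hq4] at h1
          omega
        · have := FiniteField.pow_card_sub_one_eq_one (g : F) hg0
          rwa [hq4] at this
      have hω : (g : F) * g = g + 1 := by
        have h' : ((g : F) - 1) * ((g : F) * g + g + 1) = 0 := by linear_combination hω3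
        have := (mul_eq_zero.1 h').resolve_left (sub_ne_zero.2 hω1)
        rw [← sub_eq_zero, CharTwo.sub_eq_add, ← add_assoc]
        exact this
      refine of_powers hg0 (g : F) fun H hu hW => ?_
      obtain ⟨w1, wω⟩ := case_four hω hu hW
      refine eq_top hu fun c => ?_
      have hgen := closure_generator_pow g hg 1 fun k d hk hd hkd hdvd => by
        rw [hq4] at hkd hdvd
        have : k ≤ 2 := by
          by_contra h
          have := Nat.pow_le_pow_left (show 3 ≤ k by omega) d
          have := Nat.pow_le_pow_right (show 1 ≤ 3 by omega) hd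
          omega
        obtain rfl : k = 2 := by omega
        omega
      rw [pow_one] at hgen
      have hc : c ∈ Subring.closure ({(g : F)} : Set F) := hgen ▸ Subring.mem_top c
      have : ∀ d, HasRoot H 2 0 d → HasRoot H 2 0 (c * d) := by
        induction hc using Subring.closure_induction with
        | mem x hx =>
          rw [Set.mem_singleton_iff] at hx; subst hx
          intro d hd
          have := quad hu wω w1 w1 hd
          simpa using this
        | zero => intro d _; rw [zero_mul]; exact HasRoot.zero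
        | one => intro d hd; rwa [one_mul]
        | add x y _ _ hx hy => intro d hd; rw [add_mul]; exact (hx d hd).add (by omega) (by omega) (hy d hd)
        | neg x _ hx => intro d hd; rw [neg_mul]; exact (hx d hd).neg (by omega) (by omega)
        | mul x y _ _ hx hy => intro d hd; rw [mul_assoc]; exact hx _ (hy d hd)
      simpa using this 1 w1
    · refine of_powers one_ne_zero (g : F) fun H hu hW => ?_
      have hroot : HasRoot H 2 0 ((g : F) ^ 2) := by
        rw [HasRoot, ← wMat_one_sq]; exact hW.mul hW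
      refine eq_top hu (all_scalars hu (pow_ne_zero 2 hg0) hroot ?_)
      rw [← pow_mul]
      refine closure_generator_pow g hg 6 fun k d hk hd hkd hdvd => ?_
      have hk1 : 0 < 6 * (k - 1) := by omega
      have hle := Nat.le_of_dvd hk1 hdvd
      have h2 : k * k ≤ k ^ d := by rw [← pow_two]; exact Nat.pow_le_pow_right (by omega) hd
      have hk5 : k ≤ 5 := by
        by_contra h
        have := Nat.mul_le_mul_right k (show 6 ≤ k by omega)
        omega
      have hev : 2 ∣ k := (Nat.prime_two.dvd_of_dvd_pow (n := d) (hkd ▸ hq ▸ dvd_pow_self 2 e.pos.ne'))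
      have hd4 : d ≤ 4 := by
        by_contra h
        have h5 := Nat.pow_le_pow_right (show 1 ≤ k by omega) (show 5 ≤ d by omega)
        interval_cases k <;> simp at h5 <;> omega
      interval_cases k <;> interval_cases d <;> simp at hkd <;> rw [← hkd] at hdvd hq4 <;> omega
  · have hodd : Odd (Fintype.card F) := by
      rw [hq]; exact (hpp.odd_of_ne_two hp2).pow
    have h2 : (2 : F) ≠ 0 := Ring.two_ne_zero (by rwa [ringChar.eq F p])
    have hq3 : 3 ≤ Fintype.card F := by
      have := Fintype.one_lt_card (α := F); obtain ⟨r, hr⟩ := hodd; omega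
    have hne1 : ∀ η : Fˣ, (∀ x, x ∈ Subgroup.zpowers η) → (η : F) ≠ 1 := by
      intro η hη h
      have h1 : orderOf η = 1 := orderOf_eq_one_iff.2 (Units.ext h)
      rw [orderOf_eq_card_of_forall_mem_zpowers hη, Nat.card_eq_fintype_card, Fintype.card_units] at h1
      omega
    obtain ⟨η, hη, hη3⟩ : ∃ η : Fˣ, (∀ x, x ∈ Subgroup.zpowers η) ∧ (1 - (η : F)) ^ 3 ≠ 1 := by
      by_cases h : (1 - (g : F)) ^ 3 ≠ 1
      · exact ⟨g, hg, h⟩
      push Not at h
      refine ⟨g⁻¹, fun x => by rw [Subgroup.zpowers_inv]; exact hg x, fun h' => ?_⟩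
      rw [Units.val_inv_eq_inv_val] at h'
      field_simp at h'
      have hc : (g : F) ^ 3 + 1 = 0 := by grind
      by_cases hm : (g : F) = -1
      · rw [hm] at h
        have h8 : (7 : F) = 0 := by linear_combination h
        have hsq : g ^ 2 = 1 := Units.ext (by simp [hm])
        have hle : Fintype.card Fˣ ≤ 2 := by
          rw [← Nat.card_eq_fintype_card, ← orderOf_eq_card_of_forall_mem_zpowers hg]
          exact Nat.le_of_dvd (by norm_num) (orderOf_dvd_of_pow_eq_one hsq)
        rw [Fintype.card_units] at hle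
        have h3 : Fintype.card F = 3 := by omega
        have h30 : (3 : F) = 0 := by
          have := FiniteField.cast_card_eq_zero F
          rw [h3] at this
          exact_mod_cast this
        have : (1 : F) = 0 := by linear_combination h8 - 2 * h30
        exact one_ne_zero this
      · have hmin : (g : F) * g - g + 1 = 0 := by
          have : ((g : F) + 1) * ((g : F) * g - g + 1) = 0 := by linear_combination hc
          exact (mul_eq_zero.1 this).resolve_left fun e => hm (eq_neg_of_add_eq_zero_left e)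
        exact h2 (by grind)
    set l : F := (1 - (η : F))⁻¹ with hl'
    have h1η : 1 - (η : F) ≠ 0 := sub_ne_zero.2 (Ne.symm (hne1 η hη))
    have hl : l ≠ 0 := inv_ne_zero h1η
    have hd : (l ^ 2)⁻¹ - l ≠ 0 := by
      intro h
      rw [hl', inv_pow, inv_inv, sub_eq_zero] at h
      apply hη3
      rw [pow_succ, h, inv_mul_cancel₀ h1η]
    refine of_powers hl 0 fun H hu hW => ?_
    have hroot : HasRoot H 2 0 ((η : F) ^ 3) := by
      have hk := InH_pow hW (Fintype.card F - 1)
      rw [wMat_zero_pow hl hd, FiniteField.pow_card_sub_one_eq_one l hl,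
        FiniteField.pow_card_sub_one_eq_one _ (inv_ne_zero (pow_ne_zero 2 hl)),
        Nat.cast_sub (by omega), FiniteField.cast_card_eq_zero] at hk
      rw [HasRoot]
      convert hk using 1
      ext i j
      fin_cases i <;> fin_cases j <;> simp [Tm, eN, Matrix.vecMulVec_apply]
      rw [hl']
      field_simp
      ring
    refine eq_top hu (all_scalars hu (pow_ne_zero 3 η.ne_zero) hroot ?_)
    rw [← pow_mul]
    refine closure_generator_pow η hη 9 fun k d hk hdd hkd hdvd => ?_
    have hle := Nat.le_of_dvd (by omega) hdvd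
    have hk2 : k * k ≤ k ^ d := by rw [← pow_two]; exact Nat.pow_le_pow_right (by omega) hdd
    have hk8 : k ≤ 8 := by
      by_contra h
      have := Nat.mul_le_mul_right k (show 9 ≤ k by omega)
      omega
    rw [← hkd] at hodd hdvd hle
    have hko : Odd k := (Nat.odd_pow_iff (by omega)).1 hodd
    have hd3 : d ≤ 3 := by
      by_contra h
      have h5 := Nat.pow_le_pow_right (show 1 ≤ k by omega) (show 4 ≤ d by omega)
      interval_cases k <;> simp at h5 hle <;> omega
    obtain ⟨r, hr⟩ := hko
    interval_cases k <;> interval_cases d <;> simp at hdvd <;> omega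

end Cfsg.Agent.S2278
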