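import Cfsg.Statements.S2279
import Cfsg.Agent.Lib.KnownSimple.TwoUnipotents
import Cfsg.Agent.S2278
import Mathlib

/-!
`SL_n(F)`, `n ≥ 4`, is generated by two regular unipotent elements, conjugate when `|F|` is prime.

The lower triangular matrix `W` is chosen so that `U⁻¹ W` is regular unipotent and a power
of `W` is a root element in position `(n-1, 0)`.
-/

set_option autoImplicit false
open Cfsg

namespace Cfsg.Agent.S2279

open Matrix Polynomial Cfsg.Agent.Lib.KnownSimple Cfsg.Agent.Lib.KnownSimple.TwoUnip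

variable {F : Type*} [Field F] {m : ℕ}

/-- Regular unipotent. -/
def Reg {n : ℕ} (u : Matrix.SpecialLinearGroup (Fin n) F) : Prop :=
  IsNilpotent ((u : Matrix (Fin n) (Fin n) F) - 1) ∧ ((u : Matrix (Fin n) (Fin n) F) - 1) ^ (n - 1) ≠ 0

theorem g_det_ne (D : Data F m) : D.g.det ≠ 0 := by
  rw [D.g_det]
  refine mul_ne_zero ?_ (Finset.prod_ne_zero_iff.2 fun i hi => Finset.prod_ne_zero_iff.2 fun j hj => ?_)
  · rcases Int.units_eq_one_or (Equiv.Perm.sign (Fin.revPerm : Equiv.Perm (Fin (m + 1)))) with h | h <;> simp [h]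
  · exact D.mu_ne j (by have := Finset.mem_range.1 hi; have := Finset.mem_range.1 hj; omega)

theorem gens_of_data (hm : 1 ≤ m) (D : Data F m) {b : ℕ → F}
    (hb : D.lhs = ∑ j ∈ Finset.range m, C (b j) * X ^ (m - j) * D.R j)
    (h : ∀ H : Subgroup (Matrix.SpecialLinearGroup (Fin (m + 1)) F), UE F m ∈ H → InH H (D.W b) → H = ⊤) :
    (∃ u v : Matrix.SpecialLinearGroup (Fin (m + 1)) F, Reg u ∧ Reg v ∧
      Subgroup.closure ({u, v} : Set (Matrix.SpecialLinearGroup (Fin (m + 1)) F)) = ⊤) ∧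
    ((∃ c : F, c ^ (m + 1) * D.g.det = 1) → ∃ u g : Matrix.SpecialLinearGroup (Fin (m + 1)) F, Reg u ∧
      Subgroup.closure ({u, g * u * g⁻¹} : Set (Matrix.SpecialLinearGroup (Fin (m + 1)) F)) = ⊤) := by
  have hdet : IsUnit D.g.det := isUnit_iff_ne_zero.2 (g_det_ne D)
  have hU : Reg (UE F m) := pathMat_regular (by omega) _ fun _ _ => one_ne_zero
  set M := D.g * UM F m * D.g⁻¹ with hM
  have hMdet : M.det = 1 := by
    rw [hM, Matrix.det_mul, Matrix.det_mul, UM, pathMat_det, mul_one, ← Matrix.det_mul,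
      Matrix.mul_nonsing_inv _ hdet, Matrix.det_one]
  let v : Matrix.SpecialLinearGroup (Fin (m + 1)) F := ⟨M, hMdet⟩
  have hpow : ∀ k, (M - 1) ^ k = D.g * (UM F m - 1) ^ k * D.g⁻¹ := by
    intro k
    induction k with
    | zero => rw [pow_zero, pow_zero, mul_one, Matrix.mul_nonsing_inv _ hdet]
    | succ k ih =>
      have h1 : M - 1 = D.g * (UM F m - 1) * D.g⁻¹ := by
        rw [hM, mul_sub, sub_mul, mul_one, Matrix.mul_nonsing_inv _ hdet]
      rw [pow_succ, ih, h1, pow_succ]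
      simp only [mul_assoc]
      rw [← mul_assoc D.g⁻¹ D.g, Matrix.nonsing_inv_mul _ hdet, one_mul]
  have hv : Reg v := by
    obtain ⟨⟨k, hk⟩, h2⟩ := hU
    refine ⟨⟨k, ?_⟩, fun h => h2 ?_⟩
    · change (M - 1) ^ k = 0
      change (UM F m - 1) ^ k = 0 at hk
      rw [hpow, hk, mul_zero, zero_mul]
    · change (M - 1) ^ (m + 1 - 1) = 0 at h
      change (UM F m - 1) ^ (m + 1 - 1) = 0
      rw [hpow] at h
      have := congrArg (fun N => D.g⁻¹ * N * D.g) h
      simpa [mul_assoc, Matrix.nonsing_inv_mul _ hdet, ← mul_assoc D.g⁻¹ D.g] using this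
  have hW : ∀ H : Subgroup (Matrix.SpecialLinearGroup (Fin (m + 1)) F), UE F m ∈ H → v ∈ H → InH H (D.W b) := by
    intro H hu hv
    refine ⟨UE F m * v, H.mul_mem hu hv, ?_⟩
    rw [Matrix.SpecialLinearGroup.coe_mul]
    change UM F m * (D.g * UM F m * D.g⁻¹) = D.W b
    rw [← mul_assoc, ← mul_assoc, D.UgU hm hb, mul_assoc, Matrix.mul_nonsing_inv _ hdet, mul_one]
  have hgen : Subgroup.closure ({UE F m, v} : Set (Matrix.SpecialLinearGroup (Fin (m + 1)) F)) = ⊤ :=
    h _ (Subgroup.subset_closure (by simp)) (hW _ (Subgroup.subset_closure (by simp)) (Subgroup.subset_closure (by simp)))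
  refine ⟨⟨UE F m, v, hU, hv, hgen⟩, ?_⟩
  rintro ⟨c, hc⟩
  let g : Matrix.SpecialLinearGroup (Fin (m + 1)) F := ⟨c • D.g, by rw [Matrix.det_smul, Fintype.card_fin, hc]⟩
  refine ⟨UE F m, g, hU, ?_⟩
  have hgv : g * UE F m = v * g := by
    apply Subtype.ext
    rw [Matrix.SpecialLinearGroup.coe_mul, Matrix.SpecialLinearGroup.coe_mul]
    change (c • D.g) * UM F m = M * (c • D.g)
    rw [hM, Matrix.smul_mul, Matrix.mul_smul, mul_assoc, Matrix.nonsing_inv_mul _ hdet, mul_one]
  rw [hgv, mul_inv_cancel_right]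
  exact hgen

theorem full_of_prime [Fintype F] (hq : (Fintype.card F).Prime)
    {H : Subgroup (Matrix.SpecialLinearGroup (Fin (m + 1)) F)} (hm : 1 ≤ m) {γ : F} (hγ : γ ≠ 0)
    (h : HasRoot H m 0 γ) : ∀ c, HasRoot H m 0 c := by
  let S : AddSubgroup F :=
    { carrier := {c | HasRoot H m 0 c}
      add_mem' := fun ha hb => HasRoot.add (by omega) (by omega) ha hb
      zero_mem' := HasRoot.zero
      neg_mem' := fun ha => HasRoot.neg (by omega) (by omega) ha }
  haveI : Fact (Nat.card F).Prime := ⟨by rwa [Nat.card_eq_fintype_card]⟩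
  rcases AddSubgroup.eq_bot_or_eq_top_of_prime_card S with hS | hS
  · exact absurd ((AddSubgroup.mem_bot).1 (hS ▸ (show γ ∈ S from h))) hγ
  · exact fun c => show c ∈ S from hS ▸ AddSubgroup.mem_top c

theorem ext_mulVec {M N : Matrix (Fin (m + 1)) (Fin (m + 1)) F}
    (h : ∀ j, j < m + 1 → M *ᵥ TwoUnip.e F m j = N *ᵥ TwoUnip.e F m j) : M = N := by
  ext i j
  have := congrFun (h j j.2) i
  rwa [TwoUnip.e, eN_eq_single j.2, Matrix.mulVec_single_one, Matrix.mulVec_single_one] at this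

theorem root_mulVec (γ : F) (j : ℕ) :
    Tm (γ • eN (m + 1) m) (eN (m + 1) 0) *ᵥ TwoUnip.e F m j =
      TwoUnip.e F m j + (if 0 = j then γ else 0) • TwoUnip.e F m m := by
  rw [Tm_mulVec, eN_dot (show 0 < m + 1 by omega), smul_smul]
  split_ifs <;> simp

section Diagonal

/-- Data with diagonal `μ` and no further entries. -/
noncomputable def diagData (m : ℕ) (μ : ℕ → F) (hne : ∀ i, i ≤ m → μ i ≠ 0)
    (hprod : ∏ i ∈ Finset.range (m + 1), μ i = 1) : Data F m where
  mu := μ
  A := fun _ _ => 0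
  R := fun i => ∏ j ∈ Finset.range i, (C (μ j) - X)
  R_zero := Finset.prod_range_zero _
  R_succ := fun i _ => by
    rw [Finset.prod_range_succ, Finset.sum_eq_zero (fun j _ => by simp), add_zero, mul_comm]
  A_upper := fun _ _ _ => rfl
  mu_ne := hne
  prod_mu := hprod

variable {μ : ℕ → F} {hne : ∀ i, i ≤ m → μ i ≠ 0} {hprod : ∏ i ∈ Finset.range (m + 1), μ i = 1}

theorem diag_b_zero (hm : 1 ≤ m) {b : ℕ → F} (h0 : μ 0 ≠ 1)
    (hb : (diagData m μ hne hprod).lhs =
      ∑ j ∈ Finset.range m, C (b j) * X ^ (m - j) * (diagData m μ hne hprod).R j) : b 0 ≠ 0 := by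
  intro hb0
  have hR : ∀ j, 1 ≤ j → eval (μ 0) ((diagData m μ hne hprod).R j) = 0 := by
    intro j hj
    change eval (μ 0) (∏ l ∈ Finset.range j, (C (μ l) - X)) = 0
    rw [eval_prod]
    exact Finset.prod_eq_zero (Finset.mem_range.2 (show 0 < j by omega)) (by simp)
  have h := congrArg (eval (μ 0)) hb
  rw [Data.lhs, eval_add, eval_mul, eval_mul, hR m hm, mul_zero, zero_add, eval_finset_sum,
    Finset.sum_eq_zero] at h
  · simp only [eval_pow, eval_neg, eval_one, eval_sub, eval_X] at h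
    exact mul_ne_zero (pow_ne_zero _ (by simp)) (pow_ne_zero _ (sub_ne_zero.2 h0)) h
  · intro j _
    rcases Nat.eq_zero_or_pos j with rfl | hj
    · simp [hb0]
    · rw [eval_mul, hR j hj, mul_zero]

theorem diag_root [Fintype F] (hm : 1 ≤ m) (hlast : μ m = μ 0) (hmid : ∀ j, 1 ≤ j → j < m → μ j ≠ μ 0) (b : ℕ → F)
    {H : Subgroup (Matrix.SpecialLinearGroup (Fin (m + 1)) F)} (hW : InH H ((diagData m μ hne hprod).W b)) :
    HasRoot H m 0 (-b 0 / μ 0) := by
  set W := (diagData m μ hne hprod).W b with hWdef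
  have hl : μ 0 ≠ 0 := hne 0 (Nat.zero_le _)
  have hWm : W *ᵥ TwoUnip.e F m m = μ 0 • TwoUnip.e F m m := by
    rw [hWdef, Data.W_mulVec_last]; exact congrArg (· • TwoUnip.e F m m) hlast
  have hWj : ∀ j, j < m → W *ᵥ TwoUnip.e F m j = μ j • TwoUnip.e F m j + b j • TwoUnip.e F m m := by
    intro j hj
    rw [hWdef, Data.W_mulVec _ _ hj]
    simp only [diagData, ite_self]
    exact add_zero _
  have hk : ∀ (k : ℕ) (j : ℕ), j < m → ∃ c : F, (W ^ k) *ᵥ TwoUnip.e F m j = μ j ^ k • TwoUnip.e F m j + (b j * c) • TwoUnip.e F m m ∧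
      (μ j - μ 0) * c = μ j ^ k - μ 0 ^ k ∧ (μ j = μ 0 → c * μ 0 = (k : F) * μ 0 ^ k) := by
    intro k j hj
    induction k with
    | zero => exact ⟨0, by simp, by simp, by simp⟩
    | succ k ih =>
      obtain ⟨c, h1, h2, h3⟩ := ih
      refine ⟨μ j ^ k + μ 0 * c, ?_, ?_, fun h => ?_⟩
      · rw [pow_succ', ← Matrix.mulVec_mulVec, h1, Matrix.mulVec_add, Matrix.mulVec_smul, Matrix.mulVec_smul,
          hWj j hj, hWm]
        module
      · linear_combination (μ 0) * h2
      · rw [h, pow_succ, Nat.cast_succ]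
        linear_combination (μ 0) * h3 h
  have hWme : ∀ k, (W ^ k) *ᵥ TwoUnip.e F m m = μ 0 ^ k • TwoUnip.e F m m := by
    intro k
    induction k with
    | zero => simp
    | succ k ih => rw [pow_succ', ← Matrix.mulVec_mulVec, ih, Matrix.mulVec_smul, hWm, smul_smul, pow_succ]
  have h1 : ∀ j, j ≤ m → μ j ^ (Fintype.card F - 1) = 1 := fun j hj =>
    FiniteField.pow_card_sub_one_eq_one _ (hne j hj)
  have hcast : ((Fintype.card F - 1 : ℕ) : F) = -1 := by
    rw [Nat.cast_sub (Fintype.card_pos), FiniteField.cast_card_eq_zero, Nat.cast_one, zero_sub]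
  have key : W ^ (Fintype.card F - 1) = Tm ((-b 0 / μ 0) • eN (m + 1) m) (eN (m + 1) 0) := by
    refine ext_mulVec fun j hj => ?_
    rw [root_mulVec]
    rcases eq_or_lt_of_le (show j ≤ m by omega) with hjm | hjm
    · rw [hjm, hWme, h1 0 (Nat.zero_le _), if_neg (by omega), zero_smul, add_zero, one_smul]
    obtain ⟨c, hc1, hc2, hc3⟩ := hk (Fintype.card F - 1) j hjm
    rw [hc1, h1 j hjm.le, one_smul]
    congr 2
    rw [h1 j hjm.le, h1 0 (Nat.zero_le _), sub_self] at hc2
    rcases Nat.eq_zero_or_pos j with rfl | hj0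
    · rw [if_pos rfl]
      have := hc3 rfl
      rw [hcast, h1 0 (Nat.zero_le _), mul_one] at this
      rw [eq_div_iff hl, mul_assoc, this]
      ring
    · rw [if_neg (by omega), (mul_eq_zero.1 hc2).resolve_left (sub_ne_zero.2 (hmid j hj0 hjm)), mul_zero]
  rw [HasRoot, ← key]
  exact Cfsg.Agent.S2278.InH_pow hW _

end Diagonal

section Tail

/-- The data with trivial diagonal and no further entries. -/
noncomputable def baseData (m : ℕ) : Data F m :=
  diagData m (fun _ => 1) (fun _ _ => one_ne_zero) (Finset.prod_eq_one fun _ _ => rfl)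

theorem baseData_R (i : ℕ) : (baseData (F := F) m).R i = (1 - X) ^ i := by
  change ∏ j ∈ Finset.range i, (C (1 : F) - X) = _
  simp

/-- Completing prescribed first coefficients of the last row. -/
theorem exists_row_of_dvd (D : Data F m) {k : ℕ} (hk : k < m) {P : F[X]} (hPdeg : P.natDegree = k + 1)
    (hP0 : P.coeff 0 ≠ 0) (hR : ∀ j, k < j → j ≤ m → D.R j = P * (1 - X) ^ (j - k - 1)) (β : ℕ → F)
    (hdvd : P ∣ (-1) ^ (m + 1) * (X - 1) ^ (m + 1) -
      ∑ j ∈ Finset.range (k + 1), C (β j) * X ^ (m - j) * D.R j) :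
    ∃ b : ℕ → F, (∀ j, j ≤ k → b j = β j) ∧
      D.lhs = ∑ j ∈ Finset.range m, C (b j) * X ^ (m - j) * D.R j := by
  set S := ∑ j ∈ Finset.range (k + 1), C (β j) * X ^ (m - j) * D.R j with hS
  obtain ⟨Q, hQ⟩ : P ∣ D.lhs - S := by
    rw [Data.lhs, add_sub_assoc]
    refine dvd_add (dvd_mul_of_dvd_right ?_ _) hdvd
    rw [hR m hk le_rfl]
    exact dvd_mul_right _ _
  have hSdeg : S.natDegree ≤ m := natDegree_sum_le_of_forall_le _ _ fun j hj => by
    have hj' := Finset.mem_range.1 hj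
    have := D.natDegree_R (i := j) (by omega)
    refine natDegree_mul_le.trans ?_
    have := natDegree_C_mul_X_pow_le (β j) (m - j)
    omega
  have hS0 : S.coeff 0 = 0 := by
    rw [hS, finsetSum_coeff]
    refine Finset.sum_eq_zero fun j hj => ?_
    have hj' := Finset.mem_range.1 hj
    rw [mul_coeff_zero, mul_coeff_zero, coeff_X_pow, if_neg (by omega)]
    simp
  have hQ0 : Q.coeff 0 = 0 := by
    have := congrArg (fun p : F[X] => p.coeff 0) hQ
    simp only [coeff_sub, D.lhs_coeff_zero, hS0, sub_self, mul_coeff_zero] at this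
    exact (mul_eq_zero.1 this.symm).resolve_left hP0
  obtain ⟨Q', rfl⟩ := X_dvd_iff.2 hQ0
  obtain ⟨c, hc, hcz⟩ : ∃ c : ℕ → F,
      Q' = ∑ l ∈ Finset.range (m - k - 1), C (c l) * X ^ (m - k - 2 - l) * (1 - X) ^ l ∧ True := by
    rcases eq_or_ne Q' 0 with rfl | hQ'
    · exact ⟨0, by simp, trivial⟩
    have hPne : P ≠ 0 := fun h => hP0 (by simp [h])
    have hd : (P * (X * Q')).natDegree ≤ m := hQ ▸ (natDegree_sub_le _ _).trans (max_le D.lhs_natDegree hSdeg)
    rw [natDegree_mul hPne (mul_ne_zero X_ne_zero hQ'), natDegree_mul X_ne_zero hQ', natDegree_X, hPdeg] at hd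
    obtain ⟨c, hc⟩ := (baseData (F := F) m).exists_coeffs (m - k - 2) (by omega) Q' (by omega)
    refine ⟨c, ?_, trivial⟩
    rw [show m - k - 1 = m - k - 2 + 1 by omega]
    simpa only [baseData_R] using hc
  refine ⟨fun j => if j ≤ k then β j else c (j - k - 1), fun j hj => if_pos hj, ?_⟩
  rw [eq_add_of_sub_eq hQ, ← Finset.sum_range_add_sum_Ico _ (show k + 1 ≤ m by omega), add_comm]
  congr 1
  · refine Finset.sum_congr rfl fun j hj => ?_
    dsimp only
    rw [if_pos (by have := Finset.mem_range.1 hj; omega)]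
  · rw [hc, Finset.mul_sum, Finset.mul_sum, Finset.sum_Ico_eq_sum_range, show m - (k + 1) = m - k - 1 by omega]
    refine Finset.sum_congr rfl fun l hl => ?_
    have := Finset.mem_range.1 hl
    dsimp only
    rw [if_neg (by omega), hR (k + 1 + l) (by omega) (by omega), show k + 1 + l - k - 1 = l by omega,
      show m - (k + 1 + l) = (m - k - 2 - l) + 1 by omega, pow_succ]
    ring

end Tail

section Two

/-- The data for the field with two elements. -/
noncomputable def twoData (m k : ℕ) (hk : 1 ≤ k) : Data F m where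
  mu := fun _ => 1
  A := fun i j => if i = k ∧ j = 0 then 1 else 0
  R := fun i => if i ≤ k then (1 - X) ^ i else ((1 - X) ^ (k + 1) + X ^ k) * (1 - X) ^ (i - k - 1)
  R_zero := by simp
  R_succ := fun i _ => by
    rw [C_1]
    rcases lt_trichotomy i k with h | h | h
    · rw [if_pos (by omega), if_pos (by omega), Finset.sum_eq_zero (fun j _ => by simp [h.ne]), add_zero, pow_succ']
    · subst h
      rw [if_neg (by omega), if_pos le_rfl, Finset.sum_eq_single 0 (fun j _ hj => by simp [hj])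
        (fun h => absurd (Finset.mem_range.2 (show 0 < i by omega)) h)]
      simp [pow_succ']
    · rw [if_neg (by omega), if_neg (by omega), Finset.sum_eq_zero (fun j _ => by simp [h.ne']), add_zero,
        show i + 1 - k - 1 = (i - k - 1) + 1 by omega, pow_succ]
      ring
  A_upper := fun i j hij => if_neg (by omega)
  mu_ne := fun _ _ => one_ne_zero
  prod_mu := Finset.prod_eq_one fun _ _ => rfl

theorem dvd_three [CharP F 2] (l : ℕ) : ((1 - X) ^ 2 + X : F[X]) ∣ (X ^ 3) ^ l - 1 := by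
  refine dvd_trans ⟨X - 1, ?_⟩ (sub_one_dvd_pow_sub_one (X ^ 3) l)
  have h2 : (2 : F[X]) = 0 := CharTwo.two_eq_zero
  grind

theorem two_coeffs [CharP F 2] (hm : 3 ≤ m) :
    ∃ k, 1 ≤ k ∧ k < m ∧ ∃ β : ℕ → F, β k = 1 ∧
      ((1 - X) ^ (k + 1) + X ^ k : F[X]) ∣ (-1) ^ (m + 1) * (X - 1) ^ (m + 1) -
        ∑ j ∈ Finset.range (k + 1), C (β j) * X ^ (m - j) * (1 - X) ^ j := by
  have h2 : (2 : F[X]) = 0 := CharTwo.two_eq_zero
  have hL : ((-1) ^ (m + 1) * (X - 1) ^ (m + 1) : F[X]) = (1 - X) ^ (m + 1) := by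
    rw [← mul_pow]; congr 1; ring
  have hf : ∀ n, ((1 - X) ^ 2 + X : F[X]) ∣ (1 - X) ^ n - (X ^ 2) ^ n := fun n =>
    dvd_trans ⟨1, by grind⟩ (sub_dvd_pow_sub_pow (1 - X : F[X]) (X ^ 2) n)
  by_cases h5 : m = 4
  · subst h5
    refine ⟨2, by omega, by omega, fun j => if j = 2 then 1 else 0, rfl, ?_⟩
    rw [hL]
    refine ⟨(1 - X) ^ 2, ?_⟩
    simp [Finset.sum_range_succ]
    grind
  by_cases h2' : (m + 1) % 3 = 2
  · obtain ⟨k, rfl⟩ : ∃ k, m = 3 * k + 1 := ⟨(m + 1) / 3, by omega⟩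
    refine ⟨k, by omega, by omega, fun j => if j = k ∨ j = 0 ∨ j = 1 then 1 else 0, by simp, ?_⟩
    rw [hL, ← Finset.sum_subset (s₁ := ({0, 1, k} : Finset ℕ)) (fun j hj => by
        simp only [Finset.mem_insert, Finset.mem_singleton] at hj
        simp only [Finset.mem_range]; omega) (fun j _ hj => by
        simp only [Finset.mem_insert, Finset.mem_singleton, not_or] at hj
        simp [hj.1, hj.2.1, hj.2.2]),
      Finset.sum_insert (by simp; omega), Finset.sum_pair (by omega)]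
    dsimp only
    rw [if_pos (Or.inr (Or.inl rfl)),
      if_pos (Or.inr (Or.inr rfl)), if_pos (Or.inl rfl), C_1,
      show 3 * k + 1 - k = 2 * k + 1 by omega, show 3 * k + 1 - 1 = 3 * k by omega, Nat.sub_zero]
    refine ⟨X * (1 - X) ^ k * (X ^ k - (1 - X) ^ (k + 1)) +
        ((X ^ k) ^ 2 - (1 - X) ^ (k + 1) * X ^ k + ((1 - X) ^ (k + 1)) ^ 2), ?_⟩
    simp only [show 3 * k + 1 + 1 = (k + 1) + (k + 1) + k by omega, show 2 * k + 1 = k + k + 1 by omega,
      show 3 * k = k + k + k by omega, pow_add, pow_one]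
    grind
  · have h0 : ∃ l, (m + 1 = 3 * l + 3 ∨ m + 1 = 3 * l + 4) := ⟨(m + 1) / 3 - 1, by omega⟩
    obtain ⟨l, hl | hl⟩ := h0
    · refine ⟨1, le_rfl, by omega, fun j => if j = 1 then 1 else 0, rfl, ?_⟩
      have e := hf (m + 1)
      have e1 := dvd_three (F := F) (2 * (l + 1))
      have e2 := dvd_mul_of_dvd_right (dvd_three (F := F) l) (X + X ^ 2)
      obtain ⟨c, hc⟩ := e; obtain ⟨c1, hc1⟩ := e1; obtain ⟨c2, hc2⟩ := e2
      refine ⟨c + c1 + c2 + 1, ?_⟩
      rw [hL]
      simp [Finset.sum_range_succ]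
      rw [show m - 1 = 3 * l + 1 by omega]
      rw [hl] at hc ⊢
      linear_combination hc + hc1 + hc2 + (X - X ^ (3 * l + 1)) * h2
    · refine ⟨1, le_rfl, by omega, fun _ => 1, rfl, ?_⟩
      have e := hf (m + 1)
      have e1 := dvd_mul_of_dvd_right (dvd_three (F := F) (2 * (l + 1))) (X ^ 2)
      have e2 := dvd_mul_of_dvd_right (dvd_three (F := F) l) (X ^ 2)
      obtain ⟨c, hc⟩ := e; obtain ⟨c1, hc1⟩ := e1; obtain ⟨c2, hc2⟩ := e2
      refine ⟨c + c1 + c2, ?_⟩
      rw [hL]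
      simp [Finset.sum_range_succ]
      rw [show m - 1 = 3 * l + 2 by omega, show m = 3 * l + 3 by omega]
      rw [hl] at hc
      linear_combination hc + hc1 + hc2 + (X ^ 2 - X ^ (3 * l + 2)) * h2

theorem two_case [Fintype F] (hm : 3 ≤ m) (hq : Fintype.card F = 2) :
    ∃ u g : Matrix.SpecialLinearGroup (Fin (m + 1)) F, Reg u ∧
      Subgroup.closure ({u, g * u * g⁻¹} : Set (Matrix.SpecialLinearGroup (Fin (m + 1)) F)) = ⊤ := by
  classical
  haveI : CharP F 2 := charP_of_card_eq_prime_pow (p := 2) (f := 1) (by rw [hq, pow_one])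
  obtain ⟨k, hk1, hkm, β, hβ, hdvd⟩ := two_coeffs (F := F) hm
  set D : Data F m := twoData m k hk1 with hD
  have hR : ∀ j, j ≤ k → D.R j = (1 - X) ^ j := fun j hj => if_pos hj
  have hPdeg : ((1 - X) ^ (k + 1) + X ^ k : F[X]).natDegree = k + 1 := by
    have h1 : (1 - X : F[X]).natDegree = 1 := by
      rw [← natDegree_neg, neg_sub, ← C_1, natDegree_X_sub_C]
    rw [natDegree_add_eq_left_of_natDegree_lt]
    · rw [natDegree_pow, h1, mul_one]
    · rw [natDegree_pow, natDegree_pow, h1, natDegree_X]; omega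
  have hP0 : ((1 - X) ^ (k + 1) + X ^ k : F[X]).coeff 0 ≠ 0 := by
    rw [coeff_zero_eq_eval_zero]
    simp [show k ≠ 0 by omega]
  obtain ⟨b, hbk, hb⟩ := exists_row_of_dvd D hkm hPdeg hP0 (fun j hj _ => if_neg (by omega)) β (by
    rw [Finset.sum_congr rfl (fun j hj => by rw [hR j (by have := Finset.mem_range.1 hj; omega)])]
    exact hdvd)
  refine (gens_of_data (by omega) D hb fun H hu hW => ?_).2 ⟨1, ?_⟩
  · refine Gen.eq_top (by omega) hu (full_of_prime (hq ▸ Nat.prime_two) (by omega) one_ne_zero ?_)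
    have key : D.W b * D.W b = Tm ((1 : F) • eN (m + 1) m) (eN (m + 1) 0) := by
      have hWm : D.W b *ᵥ TwoUnip.e F m m = TwoUnip.e F m m := by
        rw [Data.W_mulVec_last]; exact one_smul _ _
      have hcol : ∀ j, j < m → D.W b *ᵥ TwoUnip.e F m j =
          TwoUnip.e F m j + b j • TwoUnip.e F m m + (if j = 0 then TwoUnip.e F m k else 0) := by
        intro j hj
        rw [Data.W_mulVec _ _ hj]
        simp only [hD, twoData, one_smul]
        congr 1
        funext i
        by_cases h0 : j = 0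
        · subst h0
          by_cases hi : (i : ℕ) = m
          · simp [hi, TwoUnip.e, eN, show m ≠ k by omega]
          · simp [hi, TwoUnip.e, eN]
        · simp [h0]
      refine ext_mulVec fun j hj => ?_
      rw [root_mulVec, ← Matrix.mulVec_mulVec]
      have h2 : (2 : F) = 0 := CharTwo.two_eq_zero
      rcases eq_or_lt_of_le (show j ≤ m by omega) with hjm | hjm
      · rw [hjm, hWm, hWm, if_neg (by omega), zero_smul, add_zero]
      rw [hcol j hjm, Matrix.mulVec_add, Matrix.mulVec_add, Matrix.mulVec_smul, hWm, hcol j hjm]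
      by_cases h0 : j = 0
      · subst h0
        simp only [if_true]
        rw [hcol k hkm, if_neg (by omega), add_zero, hbk k le_rfl, hβ, one_smul]
        funext i
        simp only [Pi.add_apply, Pi.smul_apply, smul_eq_mul]
        grind
      · rw [if_neg h0, if_neg (Ne.symm h0), Matrix.mulVec_zero, zero_smul]
        funext i
        simp only [Pi.add_apply, Pi.smul_apply, Pi.zero_apply, smul_eq_mul]
        grind
    rw [HasRoot, ← key]
    exact hW.mul hW
  · rw [one_pow, one_mul]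
    by_contra h1
    have h3 : ({0, 1, D.g.det} : Finset F).card = 3 := by
      rw [Finset.card_insert_of_notMem, Finset.card_pair (Ne.symm h1)]
      simp [Ne.symm (g_det_ne D)]
    have := Finset.card_le_univ ({0, 1, D.g.det} : Finset F)
    omega

end Two

section Three

/-- The data for the field with three elements. -/
noncomputable def threeData (m : ℕ) (hm : 3 ≤ m) : Data F m where
  mu := fun j => if j ≤ 2 ∨ m ≤ j then -1 else 1
  A := fun i j => if i = 1 ∧ j = 0 then 1 else if i = 2 ∧ j = 1 then -1 else 0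
  R := fun i => if i = 0 then 1 else if i = 1 then -1 - X else if i = 2 then (-1 - X) ^ 2 + X
    else (-1 - X) ^ 3 * (1 - X) ^ (i - 3)
  R_zero := rfl
  R_succ := fun i hi => by
    rcases Nat.lt_or_ge i 3 with h | h
    · interval_cases i
      · simp
      · simp [Finset.sum_range_succ]; ring
      · simp [Finset.sum_range_succ]; ring
    · rw [Finset.sum_eq_zero (fun j _ => by simp [show i ≠ 1 by omega, show i ≠ 2 by omega])]
      simp only [add_zero, show i + 1 ≠ 1 by omega, show i + 1 ≠ 0 by omega, show i + 1 ≠ 2 by omega,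
        show i ≠ 0 by omega, show i ≠ 1 by omega, show i ≠ 2 by omega, if_false,
        show ¬ (i ≤ 2 ∨ m ≤ i) by omega, C_1]
      rw [show i + 1 - 3 = (i - 3) + 1 by omega, pow_succ]
      ring
  A_upper := fun i j hij => by rw [if_neg (by omega), if_neg (by omega)]
  mu_ne := fun i _ => by split_ifs <;> simp
  prod_mu := by
    obtain ⟨k, rfl⟩ : ∃ k, m = 3 + k := ⟨m - 3, by omega⟩
    rw [show 3 + k + 1 = 3 + (k + 1) by omega, Finset.prod_range_add, Finset.prod_range_succ (n := k),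
      Finset.prod_eq_one (s := Finset.range k) (fun x hx => by
        rw [if_neg (by have := Finset.mem_range.1 hx; omega)])]
    simp [Finset.prod_range_succ]

theorem three_coeffs [CharP F 3] (hm : 3 ≤ m) (h4 : (m + 1) % 4 = 0) :
    ∃ β : ℕ → F, β 2 ≠ 0 ∧ ((-1 - X) ^ 3 : F[X]) ∣ (-1) ^ (m + 1) * (X - 1) ^ (m + 1) -
      ∑ j ∈ Finset.range (2 + 1), C (β j) * X ^ (m - j) * (threeData (F := F) m hm).R j := by
  have h3 : (3 : F[X]) = 0 := by exact_mod_cast CharP.cast_eq_zero (F[X]) 3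
  have hL : ((-1) ^ (m + 1) * (X - 1) ^ (m + 1) : F[X]) = (X - 1) ^ (m + 1) := by
    rw [Even.neg_one_pow (Nat.even_iff.2 (by omega)), one_mul]
  have hY : ∀ Q : F[X], (X ^ 3 + 1 : F[X]) ∣ Q → ((-1 - X) ^ 3 : F[X]) ∣ Q := fun Q h =>
    dvd_trans ⟨-1, by grind⟩ h
  have hA : ∀ n, (X ^ 3 + 1 : F[X]) ∣ (X ^ 3 - 1) ^ n - 1 := fun n =>
    dvd_trans ⟨1, by grind⟩ (sub_one_dvd_pow_sub_one (X ^ 3 - 1 : F[X]) n)
  have hB : ∀ n, (X ^ 3 + 1 : F[X]) ∣ (X ^ 3) ^ (2 * n) - 1 := fun n => by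
    rw [pow_mul]
    exact dvd_trans ⟨X ^ 3 - 1, by ring⟩ (sub_one_dvd_pow_sub_one _ n)
  have hC : ∀ n, (X ^ 3 + 1 : F[X]) ∣ (X ^ 3) ^ (2 * n + 1) + 1 := fun n => by
    have e : ((X : F[X]) ^ 3) ^ (2 * n + 1) + 1 = X ^ 3 * ((X ^ 3) ^ (2 * n) - 1) + (X ^ 3 + 1) := by ring
    rw [e]
    exact dvd_add (dvd_mul_of_dvd_right (hB n) _) dvd_rfl
  have hcube : ((X : F[X]) - 1) ^ 3 = X ^ 3 - 1 := by grind
  obtain ⟨l, hl | hl | hl⟩ : ∃ l, m + 1 = 6 * l + 6 ∨ m + 1 = 6 * l + 4 ∨ m + 1 = 6 * l + 8 :=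
    ⟨(if (m + 1) % 6 = 4 then (m + 1) / 6 else (m + 1) / 6 - 1), by split_ifs <;> omega⟩
  · refine ⟨fun j => if j = 0 then 1 else if j = 2 then -1 else 0, by simp, hY _ ?_⟩
    obtain ⟨a, ha⟩ := hA (2 * l + 2); obtain ⟨c, hc⟩ := hC l
    refine ⟨a + c, ?_⟩
    obtain rfl : m = 6 * l + 5 := by omega
    rw [hL]
    simp [Finset.sum_range_succ, threeData]
    rw [show (X - 1 : F[X]) ^ (6 * l + 5 + 1) = (X ^ 3 - 1) ^ (2 * l + 2) by rw [← hcube, ← pow_mul]; ring_nf]
    linear_combination ha + hc + (X ^ (6 * l + 4)) * h3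
  · refine ⟨fun j => if j = 2 then 1 else 0, by simp, hY _ ?_⟩
    obtain ⟨a, ha⟩ := hA (2 * l + 1); obtain ⟨c, hc⟩ := hB l
    refine ⟨(X - 1) * a - X * (1 + X ^ 2) * c - 1, ?_⟩
    obtain rfl : m = 6 * l + 3 := by omega
    rw [hL]
    simp [Finset.sum_range_succ, threeData]
    rw [show (X - 1 : F[X]) ^ (6 * l + 3 + 1) = (X - 1) * (X ^ 3 - 1) ^ (2 * l + 1) by
      rw [← hcube, ← pow_mul]; ring_nf]
    linear_combination (X - 1) * ha - X * (1 + X ^ 2) * hc - X ^ (6 * l + 2) * h3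
  · refine ⟨fun j => if j = 0 then 1 else if j = 1 then -1 else -1, by simp, hY _ ?_⟩
    obtain ⟨a, ha⟩ := hA (2 * l + 2); obtain ⟨c, hc⟩ := hC l
    refine ⟨(X - 1) ^ 2 * a - X ^ 2 * (X ^ 2 + X - 1) * c + X + 1, ?_⟩
    obtain rfl : m = 6 * l + 7 := by omega
    rw [hL]
    simp [Finset.sum_range_succ, threeData]
    rw [show (X - 1 : F[X]) ^ (6 * l + 7 + 1) = (X - 1) ^ 2 * (X ^ 3 - 1) ^ (2 * l + 2) by
      rw [← hcube, ← pow_mul]; ring_nf]
    linear_combination (X - 1) ^ 2 * ha - X ^ 2 * (X ^ 2 + X - 1) * hc + (X ^ (6 * l + 6) - X) * h3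

theorem sign_mod_four {n : ℕ} (h : n % 4 = 0) :
    ((Equiv.Perm.sign (Fin.revPerm : Equiv.Perm (Fin n)) : ℤ) : F) = 1 := by
  obtain ⟨l, rfl⟩ : ∃ l, n = 4 * l := ⟨n / 4, by omega⟩
  rw [sign_revPerm, Finset.sum_range_id, show 4 * l * (4 * l - 1) / 2 = 2 * (l * (4 * l - 1)) by
    rw [show 4 * l * (4 * l - 1) = 2 * (2 * (l * (4 * l - 1))) by ring, Nat.mul_div_cancel_left _ (by norm_num)],
    pow_mul]
  simp

theorem three_case [Fintype F] (hm : 3 ≤ m) (h4 : (m + 1) % 4 = 0) (hq : Fintype.card F = 3) :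
    ∃ u g : Matrix.SpecialLinearGroup (Fin (m + 1)) F, Reg u ∧
      Subgroup.closure ({u, g * u * g⁻¹} : Set (Matrix.SpecialLinearGroup (Fin (m + 1)) F)) = ⊤ := by
  haveI : Fact (Nat.Prime 3) := ⟨Nat.prime_three⟩
  haveI : CharP F 3 := charP_of_card_eq_prime_pow (p := 3) (f := 1) (by rw [hq, pow_one])
  have h3 : (3 : F) = 0 := by exact_mod_cast CharP.cast_eq_zero F 3
  obtain ⟨β, hβ, hdvd⟩ := three_coeffs (F := F) hm h4
  set D : Data F m := threeData m hm with hD
  have hdeg : ((-1 - X : F[X]) ^ 3).natDegree = 2 + 1 := by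
    rw [natDegree_pow, show (-1 - X : F[X]) = -(X + C 1) by rw [C_1]; ring, natDegree_neg, natDegree_X_add_C]
  have hP0 : ((-1 - X : F[X]) ^ 3).coeff 0 ≠ 0 := by
    rw [coeff_zero_eq_eval_zero]; simp
  obtain ⟨b, hbk, hb⟩ := exists_row_of_dvd D (k := 2) (by omega) hdeg hP0 (fun j hj _ => by
    change (if j = 0 then (1 : F[X]) else _) = _
    rw [if_neg (by omega), if_neg (by omega), if_neg (by omega), show j - 2 - 1 = j - 3 by omega]) β hdvd
  refine (gens_of_data (by omega) D hb fun H hu hW => ?_).2 ⟨1, ?_⟩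
  · refine Gen.eq_top (by omega) hu (full_of_prime (hq ▸ Nat.prime_three) (by omega) (neg_ne_zero.2 hβ) ?_)
    have hWm : D.W b *ᵥ TwoUnip.e F m m = -TwoUnip.e F m m := by
      rw [Data.W_mulVec_last]
      simp [hD, threeData]
    have hcol : ∀ j, j < m → D.W b *ᵥ TwoUnip.e F m j =
        (if j ≤ 2 then (-1 : F) else 1) • TwoUnip.e F m j + b j • TwoUnip.e F m m +
          (if j = 0 then TwoUnip.e F m 1 else if j = 1 then -TwoUnip.e F m 2 else 0) := by
      intro j hj
      rw [Data.W_mulVec _ _ hj]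
      simp only [hD, threeData, show ¬ m ≤ j by omega, or_false]
      congr 1
      funext i
      by_cases hi : (i : ℕ) = m
      · split_ifs <;> simp [TwoUnip.e, eN, hi] <;> omega
      · by_cases h0 : j = 0
        · subst h0; simp [hi, TwoUnip.e, eN]
        · by_cases h1 : j = 1
          · subst h1; simp [hi, TwoUnip.e, eN]; split_ifs <;> simp
          · simp [hi, h0, h1]
    set W := D.W b
    have w0 : W *ᵥ TwoUnip.e F m 0 = -TwoUnip.e F m 0 + b 0 • TwoUnip.e F m m + TwoUnip.e F m 1 := by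
      rw [hcol 0 (by omega)]; simp
    have w1 : W *ᵥ TwoUnip.e F m 1 = -TwoUnip.e F m 1 + b 1 • TwoUnip.e F m m - TwoUnip.e F m 2 := by
      rw [hcol 1 (by omega)]; simp [sub_eq_add_neg]
    have w2 : W *ᵥ TwoUnip.e F m 2 = -TwoUnip.e F m 2 + b 2 • TwoUnip.e F m m := by
      rw [hcol 2 (by omega)]; simp
    have key : W ^ 6 = Tm ((-β 2) • eN (m + 1) m) (eN (m + 1) 0) := by
      refine ext_mulVec fun j hj => ?_
      rw [root_mulVec, show W ^ 6 = W * W * W * W * W * W by simp [pow_succ]]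
      simp only [← Matrix.mulVec_mulVec]
      rcases eq_or_lt_of_le (show j ≤ m by omega) with hjm | hjm
      · rw [hjm, if_neg (by omega), zero_smul, add_zero]
        simp only [hWm, Matrix.mulVec_neg, neg_neg]
      rcases Nat.lt_or_ge j 3 with h | h
      · interval_cases j <;>
          simp only [w0, w1, w2, hWm, Matrix.mulVec_add, Matrix.mulVec_sub, Matrix.mulVec_smul,
            Matrix.mulVec_neg] <;>
          · funext i
            simp [hbk 2 le_rfl]
            grind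
      · have wj : W *ᵥ TwoUnip.e F m j = TwoUnip.e F m j + b j • TwoUnip.e F m m := by
          rw [hcol j hjm, if_neg (by omega), if_neg (by omega), if_neg (by omega)]; simp
        simp only [wj, hWm, Matrix.mulVec_add, Matrix.mulVec_smul, Matrix.mulVec_neg]
        rw [if_neg (by omega)]
        funext i
        simp
    rw [HasRoot, ← key]
    exact Cfsg.Agent.S2278.InH_pow hW _
  · rw [one_pow, one_mul, D.g_det, sign_mod_four h4, one_mul]
    have hP : ∀ i, i ≤ m → ∏ j ∈ Finset.range i, D.mu j = if i = 0 ∨ i = 2 then 1 else -1 := by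
      intro i
      induction i with
      | zero => simp
      | succ i ih =>
        intro hi
        rw [Finset.prod_range_succ, ih (by omega)]
        simp only [hD, threeData]
        rcases Nat.lt_or_ge i 3 with h | h
        · interval_cases i <;> simp
        · simp [show ¬ (i ≤ 2 ∨ m ≤ i) by omega, show i ≠ 0 by omega, show i ≠ 2 by omega, show i ≠ 1 by omega]
    rw [Finset.prod_congr rfl (fun i hi => hP i (by have := Finset.mem_range.1 hi; omega))]
    obtain ⟨k, rfl⟩ : ∃ k, m = 3 + k := ⟨m - 3, by omega⟩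
    rw [show 3 + k + 1 = 3 + (k + 1) by omega, Finset.prod_range_add,
      Finset.prod_eq_pow_card (s := Finset.range (k + 1)) (b := (-1 : F)) (fun x _ => by rw [if_neg (by omega)]),
      Finset.card_range, Odd.neg_one_pow (Nat.odd_iff.2 (by omega))]
    simp [Finset.prod_range_succ]

end Three

/-- The diagonal `t, t⁻¹, 1, …, 1, t⁻¹, t`. -/
def tMu (m : ℕ) (t : F) (j : ℕ) : F :=
  if j = 0 ∨ m ≤ j then t else if j = 1 ∨ j + 1 = m then t⁻¹ else 1

theorem tMu_partial {t : F} (ht : t ≠ 0) (hm : 3 ≤ m) : ∀ i, i ≤ m → ∏ j ∈ Finset.range i, tMu m t j =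
    if i = 1 then t else if i = m then t⁻¹ else 1 := by
  intro i
  induction i with
  | zero => intro _; simp [show (0 : ℕ) ≠ m by omega]
  | succ i ih =>
    intro hi
    rw [Finset.prod_range_succ, ih (by omega), tMu]
    rcases Nat.eq_zero_or_pos i with rfl | hi0
    · simp [show (0 : ℕ) ≠ m by omega]
    rw [if_neg (show i ≠ m by omega), if_neg (show ¬(i = 0 ∨ m ≤ i) by omega), if_neg (show i + 1 ≠ 1 by omega)]
    rcases eq_or_lt_of_le (show 1 ≤ i from hi0) with rfl | hi1
    · simp [ht, show 1 + 1 ≠ m by omega]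
    rw [if_neg (show i ≠ 1 by omega), one_mul]
    by_cases him : i + 1 = m
    · simp [him]
    · simp [him, show i ≠ 1 by omega]

theorem tMu_prod {t : F} (ht : t ≠ 0) (hm : 3 ≤ m) : ∏ i ∈ Finset.range (m + 1), tMu m t i = 1 := by
  rw [Finset.prod_range_succ, tMu_partial ht hm m le_rfl, if_neg (by omega), if_pos rfl, tMu,
    if_pos (Or.inr le_rfl), inv_mul_cancel₀ ht]

theorem t_case [Fintype F] (hm : 3 ≤ m) {t : F} (ht : t ≠ 0) (ht2 : t * t ≠ 1)
    (hgen : (Fintype.card F).Prime ∨ Subring.closure ({t⁻¹ / t} : Set F) = ⊤) :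
    (∃ u v : Matrix.SpecialLinearGroup (Fin (m + 1)) F, Reg u ∧ Reg v ∧
      Subgroup.closure ({u, v} : Set (Matrix.SpecialLinearGroup (Fin (m + 1)) F)) = ⊤) ∧
    ((m + 1) % 4 = 0 → ∃ u g : Matrix.SpecialLinearGroup (Fin (m + 1)) F, Reg u ∧
      Subgroup.closure ({u, g * u * g⁻¹} : Set (Matrix.SpecialLinearGroup (Fin (m + 1)) F)) = ⊤) := by
  have hne : ∀ i, i ≤ m → tMu m t i ≠ 0 := fun i _ => by unfold tMu; split_ifs <;> simp [ht]
  set D : Data F m := diagData m (tMu m t) hne (tMu_prod ht hm) with hD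
  have h0 : tMu m t 0 = t := if_pos (Or.inl rfl)
  have hlast : tMu m t m = tMu m t 0 := by rw [h0, tMu, if_pos (Or.inr le_rfl)]
  have hinv : t⁻¹ ≠ t := fun h => ht2 (by nth_rewrite 1 [← h]; exact inv_mul_cancel₀ ht)
  have h1t : t ≠ 1 := fun h => ht2 (by rw [h, mul_one])
  have hmid : ∀ j, 1 ≤ j → j < m → tMu m t j ≠ tMu m t 0 := fun j h1 h2 => by
    rw [h0, tMu, if_neg (by omega)]
    split_ifs
    · exact hinv
    · exact Ne.symm h1t
  obtain ⟨b, hb⟩ := D.exists_row
  have hb0 : b 0 ≠ 0 := diag_b_zero (by omega) (by rw [h0]; exact h1t) hb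
  have hγ : -b 0 / tMu m t 0 ≠ 0 := div_ne_zero (neg_ne_zero.2 hb0) (by rw [h0]; exact ht)
  have hmain := gens_of_data (by omega) D hb fun H hu hW => by
    have hroot := diag_root (by omega) hlast hmid b hW
    refine Gen.eq_top (by omega) hu ?_
    rcases hgen with hp | hcl
    · exact full_of_prime hp (by omega) hγ hroot
    obtain ⟨w, hw, hwe⟩ := hW
    refine Gen.full_of_scaling hm hu hγ hroot hw (l := t) (μ := t⁻¹) (β := b (m - 1) / (t⁻¹ - t)) ht hinv ?_ ?_ ?_ hcl
    · rw [hwe, Data.W_mulVec_last]; simp only [hD, diagData, hlast, h0]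
    · rw [hwe, D.vecMul_W_zero b (by omega)]; simp only [hD, diagData, h0]
    · have e : tMu m t (m - 1) = t⁻¹ := by rw [tMu, if_neg (by omega), if_pos (by omega)]
      rw [hwe, Matrix.mulVec_add, Matrix.mulVec_smul, Data.W_mulVec _ _ (show m - 1 < m by omega),
        Data.W_mulVec_last]
      simp only [hD, diagData, ite_self, hlast, h0, e]
      have hb' : b (m - 1) = b (m - 1) / (t⁻¹ - t) * (t⁻¹ - t) := (div_mul_cancel₀ _ (sub_ne_zero.2 hinv)).symm
      funext i
      simp only [Pi.add_apply, Pi.smul_apply, Pi.zero_apply, smul_eq_mul, add_zero]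
      linear_combination (TwoUnip.e F m m i) * hb'
  refine ⟨hmain.1, fun h4 => hmain.2 ⟨1, ?_⟩⟩
  rw [one_pow, one_mul, D.g_det, sign_mod_four h4, one_mul]
  change ∏ i ∈ Finset.range (m + 1), ∏ j ∈ Finset.range i, tMu m t j = 1
  rw [
    Finset.prod_congr rfl (fun i hi => tMu_partial ht hm i (by have := Finset.mem_range.1 hi; omega))]
  obtain ⟨k, rfl⟩ : ∃ k, m = k + 2 := ⟨m - 2, by omega⟩
  rw [Finset.prod_range_succ, Finset.prod_range_succ', Finset.prod_range_succ',
    Finset.prod_eq_one (fun x hx => by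
      have := Finset.mem_range.1 hx
      rw [if_neg (by omega), if_neg (by omega)])]
  simp [show k ≠ 0 by omega, ht]

theorem neg_case [Fintype F] (hm : 3 ≤ m) (hq : (Fintype.card F).Prime) (hodd : Odd (Fintype.card F))
    (h4 : (m + 1) % 4 ≠ 0) : ∃ u g : Matrix.SpecialLinearGroup (Fin (m + 1)) F, Reg u ∧
      Subgroup.closure ({u, g * u * g⁻¹} : Set (Matrix.SpecialLinearGroup (Fin (m + 1)) F)) = ⊤ := by
  have h2 : (-1 : F) ≠ 1 := by
    intro h
    have : (Fintype.card F) % 2 = 0 := FiniteField.even_card_iff_char_two.1 (by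
      by_contra hc
      exact Ring.neg_one_ne_one_of_char_ne_two hc h)
    rw [Nat.odd_iff] at hodd
    omega
  set μ : ℕ → F := fun j => if j = 0 ∨ m ≤ j then -1 else 1 with hμ
  have hpart : ∀ i, i ≤ m → ∏ j ∈ Finset.range i, μ j = if i = 0 then 1 else -1 := by
    intro i
    induction i with
    | zero => simp
    | succ i ih =>
      intro hi
      rw [Finset.prod_range_succ, ih (by omega), hμ]
      rcases Nat.eq_zero_or_pos i with rfl | h
      · simp
      · simp [show ¬ (m ≤ i) by omega, show i ≠ 0 by omega]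
  have hprod : ∏ i ∈ Finset.range (m + 1), μ i = 1 := by
    rw [Finset.prod_range_succ, hpart m le_rfl, if_neg (by omega), hμ]; simp
  have hne : ∀ i, i ≤ m → μ i ≠ 0 := fun i _ => by simp only [hμ]; split_ifs <;> simp
  set D : Data F m := diagData m μ hne hprod with hD
  have h0 : μ 0 = -1 := by simp [hμ]
  obtain ⟨b, hb⟩ := D.exists_row
  have hb0 : b 0 ≠ 0 := diag_b_zero (by omega) (by rw [h0]; exact h2) hb
  refine (gens_of_data (by omega) D hb fun H hu hW => ?_).2 ?_
  · refine Gen.eq_top (by omega) hu (full_of_prime hq (by omega)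
      (div_ne_zero (neg_ne_zero.2 hb0) (hne 0 (by omega))) (diag_root (by omega) (by simp [hμ]) ?_ b hW))
    intro j h1 h2'
    rw [h0, hμ]
    simp only [show ¬ (j = 0 ∨ m ≤ j) by omega, if_false]
    exact Ne.symm h2
  · have hdet : D.g.det = ((Equiv.Perm.sign (Fin.revPerm : Equiv.Perm (Fin (m + 1))) : ℤ) : F) * (-1) ^ m := by
      rw [D.g_det]
      congr 1
      change ∏ i ∈ Finset.range (m + 1), ∏ j ∈ Finset.range i, μ j = _
      rw [Finset.prod_congr rfl (fun i hi => hpart i (by have := Finset.mem_range.1 hi; omega)),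
        Finset.prod_range_succ']
      simp [Finset.prod_const]
    rcases Nat.even_or_odd m with he | ho
    · refine ⟨D.g.det, ?_⟩
      have hsq : D.g.det * D.g.det = 1 := by
        rw [hdet, Even.neg_one_pow he, mul_one]
        rcases Int.units_eq_one_or (Equiv.Perm.sign (Fin.revPerm : Equiv.Perm (Fin (m + 1)))) with h | h <;> simp [h]
      obtain ⟨k, hk⟩ := he
      rw [← pow_succ, show m + 1 + 1 = 2 * (k + 1) by omega, pow_mul, pow_two, hsq, one_pow]
    · refine ⟨1, ?_⟩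
      obtain ⟨l, hl⟩ : ∃ l, m + 1 = 4 * l + 2 := ⟨(m + 1) / 4, by obtain ⟨r, hr⟩ := ho; omega⟩
      rw [one_pow, one_mul, hdet, sign_revPerm, Finset.sum_range_id, Odd.neg_one_pow ho,
        show (m + 1) * (m + 1 - 1) / 2 = 2 * (4 * l * l + 3 * l) + 1 by
          rw [hl, show 4 * l + 2 - 1 = 4 * l + 1 by omega,
            show (4 * l + 2) * (4 * l + 1) = 2 * (2 * (4 * l * l + 3 * l) + 1) by ring, Nat.mul_div_cancel_left _ (by norm_num)],
        pow_succ, pow_mul]
      simp

theorem prime_case [Fintype F] (hm : 3 ≤ m) (hq : (Fintype.card F).Prime) :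
    ∃ u g : Matrix.SpecialLinearGroup (Fin (m + 1)) F, Reg u ∧
      Subgroup.closure ({u, g * u * g⁻¹} : Set (Matrix.SpecialLinearGroup (Fin (m + 1)) F)) = ⊤ := by
  rcases hq.eq_two_or_odd' with h2 | hodd
  · exact two_case hm h2
  by_cases h4 : (m + 1) % 4 = 0
  swap
  · exact neg_case hm hq hodd h4
  by_cases h3 : Fintype.card F = 3
  · exact three_case hm h4 h3
  have h5 : 5 ≤ Fintype.card F := by
    obtain ⟨r, hr⟩ := hodd; have := hq.two_le; omega
  haveI : CharP F (Fintype.card F) :=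
    haveI : Fact (Fintype.card F).Prime := ⟨hq⟩
    charP_of_card_eq_prime_pow (p := Fintype.card F) (f := 1) (pow_one _).symm
  have hcast : ∀ k : ℕ, 0 < k → k < Fintype.card F → (k : F) ≠ 0 := fun k h0 hlt h =>
    absurd (Nat.le_of_dvd h0 ((CharP.cast_eq_zero_iff F (Fintype.card F) k).1 h)) (not_le.2 hlt)
  refine (t_case hm (t := (2 : F)) (by simpa using hcast 2 (by omega) (by omega)) ?_ (Or.inl hq)).2 h4
  intro h
  exact hcast 3 (by omega) (by omega) (by push_cast; linear_combination h)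

theorem main_general [Fintype F] (hm : 3 ≤ m) :
    (∃ u v : Matrix.SpecialLinearGroup (Fin (m + 1)) F, Reg u ∧ Reg v ∧
      Subgroup.closure ({u, v} : Set (Matrix.SpecialLinearGroup (Fin (m + 1)) F)) = ⊤) := by
  by_cases hq : (Fintype.card F).Prime
  · obtain ⟨u, g, hu, h⟩ := prime_case hm hq
    refine ⟨u, g * u * g⁻¹, hu, ?_, h⟩
    have e : ((g * u * g⁻¹ : Matrix.SpecialLinearGroup (Fin (m + 1)) F) : Matrix (Fin (m + 1)) (Fin (m + 1)) F) - 1 =
        (g : Matrix (Fin (m + 1)) (Fin (m + 1)) F) * ((u : Matrix (Fin (m + 1)) (Fin (m + 1)) F) - 1) *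
          ((g⁻¹ : Matrix.SpecialLinearGroup (Fin (m + 1)) F) : Matrix (Fin (m + 1)) (Fin (m + 1)) F) := by
      rw [mul_sub, sub_mul, mul_one, ← Matrix.SpecialLinearGroup.coe_mul, ← Matrix.SpecialLinearGroup.coe_mul,
        ← Matrix.SpecialLinearGroup.coe_mul, mul_inv_cancel, Matrix.SpecialLinearGroup.coe_one]
    have hi : ((g⁻¹ : Matrix.SpecialLinearGroup (Fin (m + 1)) F) : Matrix (Fin (m + 1)) (Fin (m + 1)) F) *
        (g : Matrix (Fin (m + 1)) (Fin (m + 1)) F) = 1 := by
      rw [← Matrix.SpecialLinearGroup.coe_mul, inv_mul_cancel, Matrix.SpecialLinearGroup.coe_one]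
    set G := (g : Matrix (Fin (m + 1)) (Fin (m + 1)) F)
    set G' := ((g⁻¹ : Matrix.SpecialLinearGroup (Fin (m + 1)) F) : Matrix (Fin (m + 1)) (Fin (m + 1)) F)
    set N := (u : Matrix (Fin (m + 1)) (Fin (m + 1)) F) - 1 with hN
    have hpow : ∀ k, (G * N * G') ^ (k + 1) = G * N ^ (k + 1) * G' := by
      intro k
      induction k with
      | zero => rw [pow_one, pow_one]
      | succ k ih =>
        rw [pow_succ, ih, pow_succ N (k + 1)]
        simp only [mul_assoc]
        rw [← mul_assoc G' G, hi, one_mul]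
    obtain ⟨⟨k, hk⟩, h2⟩ := hu
    refine ⟨⟨k + 1, ?_⟩, fun h => h2 ?_⟩
    · rw [e, hpow, pow_succ, hk, zero_mul, mul_zero, zero_mul]
    · obtain ⟨m', hm'⟩ : ∃ m', m + 1 - 1 = m' + 1 := ⟨m - 1, by omega⟩
      rw [e, hm', hpow] at h
      rw [hm']
      have := congrArg (fun M => G' * M * G) h
      simpa [mul_assoc, hi, ← mul_assoc G' G] using this
  · classical
    obtain ⟨g, hg⟩ := IsCyclic.exists_generator (α := Fˣ)
    have h4 : 4 ≤ Fintype.card F := by
      have h1 := Fintype.one_lt_card (α := F)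
      by_contra h
      interval_cases hc : Fintype.card F <;> exact hq (by norm_num)
    have ht2 : (g : F) * g ≠ 1 := by
      intro h
      have hsq : g ^ 2 = 1 := Units.ext (by rw [pow_two]; exact h)
      have hle := Nat.le_of_dvd (by norm_num) (orderOf_dvd_of_pow_eq_one hsq)
      rw [orderOf_eq_card_of_forall_mem_zpowers hg, Nat.card_eq_fintype_card, Fintype.card_units] at hle
      omega
    refine (t_case hm g.ne_zero ht2 (Or.inr ?_)).1
    have hg' : ∀ x, x ∈ Subgroup.zpowers g⁻¹ := fun x => by rw [Subgroup.zpowers_inv]; exact hg x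
    have := Cfsg.Agent.S2278.closure_generator_pow g⁻¹ hg' 2 fun k d hk hd hkd hdvd => by
      have hle := Nat.le_of_dvd (by omega) hdvd
      have h2 : k * k ≤ k ^ d := by rw [← pow_two]; exact Nat.pow_le_pow_right (by omega) hd
      have := Nat.mul_le_mul_right k hk
      rw [hkd] at h2
      omega
    rwa [Units.val_inv_eq_inv_val, pow_two, ← div_eq_mul_inv] at this

/-- Let F be a finite field with q elements and n ≥ 4. Then SL_n(F) is generated by two regular unipotent elements (elements u with u − 1 nilpotent and (u − 1)^(n−1) ≠ 0); if q is prime, the two can be taken conjugate in SL_n(F). -/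
theorem result {F : Type*} [Field F] [Fintype F] (n : ℕ) (hn : 4 ≤ n) :
    (∃ u v : Matrix.SpecialLinearGroup (Fin n) F, (IsNilpotent ((u : Matrix (Fin n) (Fin n) F) - 1) ∧ ((u : Matrix (Fin n) (Fin n) F) - 1) ^ (n - 1) ≠ 0) ∧ (IsNilpotent ((v : Matrix (Fin n) (Fin n) F) - 1) ∧ ((v : Matrix (Fin n) (Fin n) F) - 1) ^ (n - 1) ≠ 0) ∧
      Subgroup.closure ({u, v} : Set (Matrix.SpecialLinearGroup (Fin n) F)) = ⊤) ∧
    ((Fintype.card F).Prime → ∃ u g : Matrix.SpecialLinearGroup (Fin n) F, (IsNilpotent ((u : Matrix (Fin n) (Fin n) F) - 1) ∧ ((u : Matrix (Fin n) (Fin n) F) - 1) ^ (n - 1) ≠ 0) ∧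
      Subgroup.closure ({u, g * u * g⁻¹} : Set (Matrix.SpecialLinearGroup (Fin n) F)) = ⊤) := by
  obtain ⟨m, rfl⟩ : ∃ m, n = m + 1 := ⟨n - 1, by omega⟩
  exact ⟨main_general (by omega), prime_case (by omega)⟩

end Cfsg.Agent.S2279
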