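import Cfsg.Statements.S1001
import Mathlib
import Cfsg.Agent.S0904
import Cfsg.Agent.Lib.Burnside.Paqb
import Cfsg.Agent.Lib.SmallGroups.Basic
import Cfsg.Agent.Lib.SmallGroups.PrimeSylow

set_option autoImplicit false
set_option linter.style.haveILetI false
open Cfsg
open Cfsg.Agent.Lib.SmallGroups Cfsg.Agent.Lib

namespace Cfsg.Agent.S1001

/-- In a finite simple group whose order has the form p * 3^a * 2^b with p prime, the centralizer of any element of order p is the cyclic group it generates. -/
theorem result {G : Type*} [Group G] [Finite G] [IsSimpleGroup G] (p a b : ℕ) (hp : p.Prime) (hG : Nat.card G = p * 3 ^ a * 2 ^ b) (x : G) (hx : orderOf x = p) : Subgroup.centralizer ({x} : Set G) = Subgroup.zpowers x := by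
  by_cases h23 : p = 2 ∨ p = 3
  · have hcomm : ∀ u v : G, u * v = v * u := by
      rcases h23 with rfl | rfl
      · exact Burnside.mul_comm_of_isSimpleGroup (p := 2) (q := 3) (a := b + 1) (b := a)
          Nat.prime_two Nat.prime_three (by rw [hG]; ring)
      · exact Burnside.mul_comm_of_isSimpleGroup (p := 2) (q := 3) (a := b) (b := a + 1)
          Nat.prime_two Nat.prime_three (by rw [hG]; ring)
    letI : CommGroup G := { ‹Group G› with mul_comm := hcomm }
    have hG' : (Nat.card G).Prime := IsSimpleGroup.prime_card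
    have hpG : p = Nat.card G := ((Nat.prime_dvd_prime_iff_eq hp hG').mp (hx ▸ orderOf_dvd_natCard x))
    have htop : Subgroup.zpowers x = ⊤ :=
      Subgroup.eq_top_of_card_eq _ (by rw [Nat.card_zpowers, hx, hpG])
    rw [htop]
    exact eq_top_iff.mpr fun g _ => Subgroup.mem_centralizer_singleton_iff.mpr (hcomm g x)
  · push Not at h23
    haveI : Fact p.Prime := ⟨hp⟩
    have hfac : Nat.card G = p ^ 1 * (3 ^ a * 2 ^ b) := by rw [hG, pow_one, mul_assoc]
    have hnd : ¬ p ∣ 3 ^ a * 2 ^ b := fun h => by
      rcases hp.dvd_mul.mp h with h | h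
      · exact h23.2 ((Nat.prime_dvd_prime_iff_eq hp Nat.prime_three).mp (hp.dvd_of_dvd_pow h))
      · exact h23.1 ((Nat.prime_dvd_prime_iff_eq hp Nat.prime_two).mp (hp.dvd_of_dvd_pow h))
    obtain ⟨S, hS⟩ := (IsPGroup.of_card (p := p) (G := Subgroup.zpowers x) (n := 1)
      (by rw [Nat.card_zpowers, hx, pow_one])).exists_le_sylow
    have hSc : Nat.card (S : Subgroup G) = p := (card_sylow_eq S hfac hnd).trans (pow_one p)
    have hx1 : x ≠ 1 := by rintro rfl; rw [orderOf_one] at hx; exact hp.ne_one hx.symm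
    rw [centralizer_eq_of_prime hSc (hS (Subgroup.mem_zpowers x)) hx1,
      zpowers_eq_of_prime hSc (hS (Subgroup.mem_zpowers x)) hx1]
    exact Cfsg.Agent.S0904.result 3 2 p a b Nat.prime_three Nat.prime_two (by norm_num)
      (Ne.symm h23.2) (Ne.symm h23.1) (by rw [hG]; ring) S

end Cfsg.Agent.S1001
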