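import Cfsg.Statements.S5626
import Mathlib
import Cfsg.Agent.Lib.PlaneFour.Iso
-- import your own Cfsg.Agent.* helpers here

set_option autoImplicit false
open Cfsg

namespace Cfsg.Agent.S5626

/-- Uniqueness of the projective plane of order 4: any two Steiner systems S(2, 5, 21) (21 points, lines of 5 points, two points on exactly one line) are isomorphic. -/
theorem result {α β : Type*} [Fintype α] [DecidableEq α] [Fintype β] [DecidableEq β] (hα : Fintype.card α = 21) (hβ : Fintype.card β = 21) {L : Set (Finset α)} {L' : Set (Finset β)} (hL : Cfsg.IsSteinerSystem 2 5 L) (hL' : Cfsg.IsSteinerSystem 2 5 L') : Cfsg.SetSystemIso L L' := by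
  classical
  have h : Lib.PlaneFour.IsPlane L := ⟨hα, hL⟩
  have h' : Lib.PlaneFour.IsPlane L' := ⟨hβ, hL'⟩
  obtain ⟨H, hH, hI⟩ := h.exists_oval
  obtain ⟨H', hH', hI'⟩ := h'.exists_oval
  obtain ⟨φ, -, hφ⟩ := h.exists_iso hH hI (Fintype.equivFinOfCardEq ((Fintype.card_coe H).trans hH))
  obtain ⟨ψ, -, hψ⟩ :=
    h'.exists_iso hH' hI' (Fintype.equivFinOfCardEq ((Fintype.card_coe H').trans hH'))
  refine ⟨φ.trans ψ.symm, ?_⟩
  ext s
  constructor
  · rintro ⟨b, hb, rfl⟩
    rw [hψ, Finset.image_image]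
    convert (hφ b).1 hb using 2
    ext x; simp
  · intro hs
    refine ⟨s.image (ψ.trans φ.symm), ?_, ?_⟩
    · rw [hφ, Finset.image_image]
      convert (hψ s).1 hs using 2
      ext x; simp
    · show (s.image (ψ.trans φ.symm)).image (φ.trans ψ.symm) = s
      rw [Finset.image_image]
      conv_rhs => rw [← Finset.image_id (s := s)]
      congr 1
      ext x; simp

end Cfsg.Agent.S5626
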