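import Cfsg.Statements.S5628
import Mathlib
import Cfsg.Agent.Lib.PlaneFour.Iso
-- import your own Cfsg.Agent.* helpers here

set_option autoImplicit false
open Cfsg
open scoped Pointwise

namespace Cfsg.Agent.S5628

/-- In a projective plane of order 4 (a Steiner system S(2, 5, 21)), every permutation of the six points of a hyperoval (a 6-set met by no line in more than two points) is the restriction of exactly one automorphism of the plane. In particular the stabiliser of a hyperoval in the automorphism group is isomorphic to the symmetric group of degree 6 acting faithfully on the hyperoval. -/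
theorem result {α : Type*} [Fintype α] [DecidableEq α] (hα : Fintype.card α = 21) (L : Set (Finset α)) (hL : Cfsg.IsSteinerSystem 2 5 L) (H : Finset α) (hH : (H.card = 6 ∧ ∀ l ∈ L, (l ∩ H).card ≤ 2)) (σ : Equiv.Perm ↥H) : ∃! g : Equiv.Perm α, g ∈ Cfsg.setSystemAut L ∧ ∀ p : ↥H, g p = σ p := by
  classical
  have h : Lib.PlaneFour.IsPlane L := ⟨hα, hL⟩
  let e : H ≃ Fin 6 := Fintype.equivFinOfCardEq ((Fintype.card_coe H).trans hH.1)
  obtain ⟨φ, hφH, hφ⟩ := h.exists_iso hH.1 hH.2 e
  obtain ⟨ψ, hψH, hψ⟩ := h.exists_iso hH.1 hH.2 (σ.trans e)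
  have hsmul : ∀ (g : Equiv.Perm α) (s : Finset α), g • s = s.image g := fun g s => rfl
  have hmem : ∀ g : Equiv.Perm α, g ∈ Cfsg.setSystemAut L ↔ ∀ s, s ∈ L ↔ s.image g ∈ L := by
    intro g
    rw [MulAction.mem_stabilizer_iff]
    constructor
    · intro hg s
      rw [← hsmul]
      nth_rewrite 2 [← hg]
      exact Set.smul_mem_smul_set_iff.symm
    · intro hg
      ext s
      rw [Set.mem_smul_set_iff_inv_smul_mem, hg, ← hsmul, smul_inv_smul]
  refine ⟨ψ.trans φ.symm, ⟨(hmem _).2 fun s => ?_, fun p => ?_⟩, ?_⟩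
  · rw [hψ s, hφ (s.image _), Finset.image_image]
    have : (φ ∘ (ψ.trans φ.symm) : α → Fin 21) = ψ := by ext x; simp
    rw [this]
  · rw [Equiv.trans_apply, hψH p, Equiv.symm_apply_eq, hφH (σ p)]
    rfl
  · rintro g ⟨hg, hgH⟩
    rw [hmem] at hg
    have : g.trans φ = ψ := by
      refine h.iso_unique hH.1 hH.2 (σ.trans e) (fun a => ?_) (fun s hs => ?_) hψH
        (fun s hs => (hψ s).1 hs)
      · rw [Equiv.trans_apply, hgH a, hφH (σ a)]; rfl
      · have := (hφ _).1 ((hg s).1 hs)
        rw [Finset.image_image] at this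
        exact this
    rw [← this]
    ext x; simp

end Cfsg.Agent.S5628
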