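import Cfsg.Statements.S0738
import Mathlib
import Cfsg.Agent.Lib.Perm.Zassenhaus
import Cfsg.Agent.Lib.Zassenhaus.Basic
import Cfsg.Agent.Lib.Frobenius.KernelNilpotent

set_option autoImplicit false
open Cfsg

namespace Cfsg.Agent.S0738

open Cfsg.Agent.Lib.Perm.Zassenhaus

/-- Let a finite Zassenhaus group of degree `n + 1` have two-point stabilisers of order `d` with `2d ≥ n - 1`. Then a normal subgroup of a point stabiliser acting regularly on the remaining points is elementary abelian, and the degree is a prime power plus one. -/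
theorem result {G Ω : Type*} [Group G] [Finite G] [MulAction G Ω] [Fintype Ω] (hZ : Cfsg.IsZassenhausGroup G Ω) {a b : Ω} (hab : a ≠ b) (hd : Fintype.card Ω - 2 ≤ 2 * Nat.card ↥(MulAction.stabilizer G a ⊓ MulAction.stabilizer G b)) (F : Subgroup G) (hFle : F ≤ MulAction.stabilizer G a) (hFn : (F.subgroupOf (MulAction.stabilizer G a)).Normal) (hreg : ∀ y z : Ω, y ≠ a → z ≠ a → ∃! u : F, (u : G) • y = z) : IsMulCommutative F ∧ ∃ p f : ℕ, p.Prime ∧ (∀ u ∈ F, u ^ p = 1) ∧ Fintype.card Ω = p ^ f + 1 := by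
  classical
  obtain ⟨hF, h2, h3, hfix, -⟩ := hZ
  obtain ⟨K, hK⟩ := Cfsg.Agent.Lib.Zassenhaus.exists_isKer h2 h3 hfix a
  have : Fintype F := Fintype.ofFinite F
  -- `F` is the kernel
  have hcardF : Nat.card F + 1 = Fintype.card Ω := by
    have hne : ∀ u : F, (u : G) • b ≠ a := fun u h => hab.symm (smul_left_cancel (u : G)
      (h.trans (MulAction.mem_stabilizer_iff.mp (hFle u.2)).symm))
    have e : F ≃ {x : Ω // x ≠ a} := Equiv.ofBijective (fun u => ⟨(u : G) • b, hne u⟩)
      ⟨fun u v h => (hreg b _ hab.symm (hne u)).unique rfl (congrArg Subtype.val h).symm,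
        fun x => ⟨(hreg b x hab.symm x.2).exists.choose,
          Subtype.ext (hreg b x hab.symm x.2).exists.choose_spec⟩⟩
    rw [Nat.card_congr e, Nat.card_eq_fintype_card, Fintype.card_subtype_compl, Fintype.card_subtype_eq]
    have : 0 < Fintype.card Ω := Fintype.card_pos_iff.mpr ⟨a⟩
    omega
  have hsemi : ∀ u ∈ F, ∀ y : Ω, y ≠ a → u • y = y → u = 1 := by
    intro u hu y hy h
    exact congrArg Subtype.val ((hreg y y hy hy).unique (y₁ := ⟨u, hu⟩) (y₂ := 1) h (one_smul G y))
  have hFK : F = K := by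
    apply le_antisymm
    · intro u hu
      refine (hK.mem_iff u).mpr ⟨hFle hu, or_iff_not_imp_left.mpr fun h1 y hy h => h1 (hsemi u hu y hy h)⟩
    · intro k hk
      rcases eq_or_ne k 1 with rfl | hk1
      · exact one_mem F
      have hkb : k • b ≠ a := fun h => hab.symm (smul_left_cancel k (h.trans (hK.fix hk).symm))
      obtain ⟨⟨u, hu⟩, hub⟩ := (hreg b _ hab.symm hkb).exists
      have huK : u ∈ K :=
        (hK.mem_iff u).mpr ⟨hFle hu, or_iff_not_imp_left.mpr fun h1 y hy h => h1 (hsemi u hu y hy h)⟩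
      have := hK.eq_one (mul_mem (inv_mem huK) hk) hab.symm
        (by rw [mul_smul, ← hub, inv_smul_smul])
      rw [inv_mul_eq_one] at this
      exact this ▸ hu
  -- nilpotency
  set A := MulAction.stabilizer G a with hA
  let H : Subgroup A := (MulAction.stabilizer G b).subgroupOf A
  have hH : Cfsg.IsFrobeniusComplement H := by
    obtain ⟨g₀, hg₀, hga, hgb⟩ := Cfsg.Agent.Lib.Zassenhaus.exists_fix_pair h2 hfix hab
    obtain ⟨c, hca, hcb⟩ := exists_third hfix a b
    refine ⟨fun e => hg₀ ?_, fun e => ?_, fun x hx => ?_⟩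
    · have : (⟨g₀, hga⟩ : A) ∈ H := hgb
      rw [e, Subgroup.mem_bot] at this
      exact congrArg Subtype.val this
    · obtain ⟨g, hg1, hg2⟩ := exists_smul_pair h2 hab hca.symm
      have : (⟨g, hg1⟩ : A) ∈ H := e ▸ Subgroup.mem_top _
      exact hcb (hg2.symm.trans this)
    · refine eq_bot_iff.2 fun y hy => Subgroup.mem_bot.2 (Subtype.ext ?_)
      obtain ⟨hy1, hy2⟩ := Subgroup.mem_inf.1 hy
      rw [Cfsg.Agent.Lib.Frobenius.mem_conj_smul_iff] at hy2
      have hy2' : (x : G)⁻¹ • (y : G) • (x : G) • b = b := by rw [← mul_smul, ← mul_smul]; exact hy2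
      refine h3 y a b ((x : G) • b) hab (fun e => hx e.symm) (fun e => hab ?_) y.2 hy1
        (inv_smul_eq_iff.1 hy2')
      exact smul_left_cancel (x : G) ((x.2 : (x : G) • a = a).trans e)
  have hnil : Group.IsNilpotent F := by
    have hker : Cfsg.frobeniusKernel H = ((F.subgroupOf A : Subgroup A) : Set A) := by
      ext x
      rw [Cfsg.Agent.Lib.Frobenius.mem_frobeniusKernel_iff, SetLike.mem_coe,
        Subgroup.mem_subgroupOf, hFK, hK.mem_iff]
      constructor
      · rintro (rfl | h)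
        · exact ⟨one_smul G a, Or.inl rfl⟩
        · refine ⟨x.2, or_iff_not_imp_left.mpr fun _ y hy he => ?_⟩
          obtain ⟨g, hg1, hg2⟩ := exists_smul_pair h2 hab hy.symm
          refine h ⟨g, hg1⟩ ?_
          show (g⁻¹ * (x : G) * g) • b = b
          rw [mul_smul, mul_smul, hg2, he, inv_smul_eq_iff, hg2]
      · rintro ⟨-, h | h⟩
        · exact Or.inl (Subtype.ext h)
        · refine or_iff_not_imp_left.mpr fun _ g hg => h ((g : G) • b) (fun e => hab ?_) ?_
          · exact smul_left_cancel (g : G) ((g.2 : (g : G) • a = a).trans e.symm)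
          · have : ((g : G)⁻¹ * (x : G) * (g : G)) • b = b := hg
            rwa [mul_smul, mul_smul, inv_smul_eq_iff] at this
    have := Cfsg.Agent.Lib.Frobenius.isNilpotent_of_eq_kernel hH hker
    exact Group.nilpotent_of_mulEquiv (Subgroup.subgroupOfEquivOfLe hFle)
  -- invariant subgroups are trivial
  have hbig : ∀ W : Subgroup F, W ≠ ⊥ →
      (∀ h ∈ MulAction.stabilizer G a ⊓ MulAction.stabilizer G b, ∀ (u v : F),
        (v : G) = h * u * h⁻¹ → u ∈ W → v ∈ W) → W = ⊤ := by
    intro W hW hinv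
    obtain ⟨w, hw, hw1⟩ : ∃ w ∈ W, w ≠ 1 := W.bot_or_exists_ne_one.resolve_left hW
    have hcard : Nat.card ↥(MulAction.stabilizer G a ⊓ MulAction.stabilizer G b) + 1 ≤ Nat.card W := by
      rw [← Finite.card_option]
      have hm : ∀ h : ↥(MulAction.stabilizer G a ⊓ MulAction.stabilizer G b), ∃ v ∈ W, (v : G) = h * (w : G) * (h : G)⁻¹ := by
        intro h
        refine ⟨⟨h * (w : G) * (h : G)⁻¹, hFn.conj_mem ⟨w, hFle w.2⟩ w.2 ⟨h, (Subgroup.mem_inf.mp h.2).1⟩⟩, ?_, rfl⟩
        exact hinv h h.2 w _ rfl hw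
      choose f hf hf' using hm
      refine Nat.card_le_card_of_injective
        (fun o => o.elim (1 : W) fun h => (⟨f h, hf h⟩ : W)) ?_
      have hne : ∀ h, f h ≠ 1 := fun h e => hw1 (Subtype.ext (by
        have := hf' h
        rw [e, OneMemClass.coe_one, eq_comm, mul_inv_eq_one, mul_eq_left] at this
        exact this))
      rintro (_ | h) (_ | g) e
      · rfl
      · exact absurd (congrArg Subtype.val e).symm (hne g)
      · exact absurd (congrArg Subtype.val e) (hne h)
      · have e' : (h : G) * w * (h : G)⁻¹ = g * w * (g : G)⁻¹ := by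
          rw [← hf', ← hf']
          exact congrArg (fun v : W => ((v : F) : G)) e
        obtain ⟨hh1, hh2⟩ := Subgroup.mem_inf.mp h.2
        obtain ⟨hg1, hg2⟩ := Subgroup.mem_inf.mp g.2
        obtain ⟨hd1, hd2⟩ := Subgroup.mem_inf.mp (mul_mem (inv_mem g.2) h.2)
        have hwb : (w : G) • b ≠ b := fun h => hw1 (Subtype.ext (hsemi w w.2 b hab.symm h))
        have hwa : (w : G) • b ≠ a := fun h => hab.symm (smul_left_cancel (w : G)
          (h.trans (MulAction.mem_stabilizer_iff.mp (hFle w.2)).symm))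
        refine congrArg some (Subtype.ext (inv_mul_eq_one.mp (h3 _ a b ((w : G) • b) hab (Ne.symm hwb)
          (Ne.symm hwa) hd1 hd2 ?_)).symm)
        rw [mul_smul, inv_smul_eq_iff]
        calc (h : G) • (w : G) • b = ((h : G) * w * (h : G)⁻¹) • b := by
              rw [mul_smul, mul_smul, inv_smul_eq_iff.mpr (MulAction.mem_stabilizer_iff.mp hh2).symm]
          _ = (g : G) • (w : G) • b := by
              rw [e', mul_smul, mul_smul, inv_smul_eq_iff.mpr (MulAction.mem_stabilizer_iff.mp hg2).symm]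
    apply Subgroup.eq_top_of_card_eq
    obtain ⟨k, hk⟩ := W.card_subgroup_dvd_card
    rcases k with _ | _ | k
    · exact absurd hk (by simpa using (Nat.card_pos (α := F)).ne')
    · simpa using hk.symm
    · rw [hA] at hd
      have : Nat.card W * 2 ≤ Nat.card F := by rw [hk]; exact Nat.mul_le_mul_left _ (by omega)
      omega
  have : Nontrivial F := by
    rw [← Finite.one_lt_card_iff_nontrivial]
    obtain ⟨c, hca, hcb⟩ := exists_third hfix a b
    have := Fintype.two_lt_card_iff.mpr ⟨a, b, c, hab, hca.symm, hcb.symm⟩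
    omega
  have hcomm : ∀ u v : F, u * v = v * u := by
    have hZ := hbig (Subgroup.center F) (Group.IsNilpotent.center_ne_bot ↥F) fun h _ u v hv hu => ?_
    · exact fun u v => (Subgroup.mem_center_iff.mp (hZ ▸ Subgroup.mem_top v) u)
    · rw [Subgroup.mem_center_iff] at hu ⊢
      intro x
      have hx : h⁻¹ * (x : G) * h ∈ F := by
        have hh1 : h ∈ A := (Subgroup.mem_inf.mp ‹_›).1
        simpa [mul_assoc] using Subgroup.mem_subgroupOf.mp (hFn.conj_mem ⟨x, hFle x.2⟩ x.2 ⟨h⁻¹, inv_mem hh1⟩)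
      have := congrArg (Subtype.val) (hu ⟨_, hx⟩)
      refine Subtype.ext ?_
      calc (x : G) * (v : G) = h * ((h⁻¹ * (x : G) * h) * (u : G)) * h⁻¹ := by rw [hv]; group
        _ = h * ((u : G) * (h⁻¹ * (x : G) * h)) * h⁻¹ := by rw [show (h⁻¹ * (x : G) * h) * (u : G) = _ from this]; rfl
        _ = (v : G) * (x : G) := by rw [hv]; group
  obtain ⟨p, hp, hpd⟩ := Nat.exists_prime_and_dvd (n := Nat.card F) Finite.one_lt_card.ne'
  have : Fact p.Prime := ⟨hp⟩
  obtain ⟨u, hu⟩ := exists_prime_orderOf_dvd_card' p hpd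
  let W : Subgroup F :=
    { carrier := {x | x ^ p = 1}
      mul_mem' := fun {x y} hx hy => by
        show (x * y) ^ p = 1
        rw [(show Commute x y from hcomm x y).mul_pow, hx, hy, one_mul]
      one_mem' := one_pow p
      inv_mem' := fun {x} hx => by show x⁻¹ ^ p = 1; rw [inv_pow, hx, inv_one] }
  have hW := hbig W (fun e => hp.ne_one (by
      have : u ∈ W := by show u ^ p = 1; rw [← hu, pow_orderOf_eq_one]
      rw [e, Subgroup.mem_bot] at this
      rw [← hu, this, orderOf_one]))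
    (fun h _ x y hy hx => by
      show y ^ p = 1
      refine Subtype.ext ?_
      rw [SubmonoidClass.coe_pow, hy, conj_pow, ← SubmonoidClass.coe_pow, show x ^ p = 1 from hx]
      simp)
  have hexp : ∀ x : F, x ^ p = 1 := fun x => (hW ▸ Subgroup.mem_top x : x ∈ W)
  obtain ⟨f, hf⟩ := IsPGroup.iff_card.mp (fun x : F => ⟨1, by rw [pow_one]; exact hexp x⟩ : IsPGroup p F)
  exact ⟨⟨⟨hcomm⟩⟩, p, f, hp, fun x hx => congrArg Subtype.val (hexp ⟨x, hx⟩), by omega⟩

end Cfsg.Agent.S0738
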