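import Cfsg.Statements.S0169
import Cfsg.Agent.S0887
import Cfsg.Agent.Lib.Chars.Ops
import Cfsg.Agent.Lib.Chars.Induced

set_option autoImplicit false
open Cfsg

namespace Cfsg.Agent.S0169

open Cfsg.Agent.Lib


/-- Itô's Theorem on character degrees: the degree of an irreducible complex representation of a finite group divides the index of any abelian normal subgroup. -/
theorem result {G : Type*} [Group G] [Finite G] {V : Type*} [AddCommGroup V] [Module ℂ V] [FiniteDimensional ℂ V] (ρ : Representation ℂ G V) [ρ.IsIrreducible] (H : Subgroup G) [H.Normal] (hH : ∀ a ∈ H, ∀ b ∈ H, a * b = b * a) : Module.finrank ℂ V ∣ H.index := by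
  classical
  cases nonempty_fintype G
  have hcomm : IsMulCommutative H := ⟨⟨fun a b => Subtype.ext (hH a a.2 b b.2)⟩⟩
  set r : H → ℂ := fun x : H => ρ.character x with hr
  have hrc : Cfsg.IsCharacter H r := Chars.isCharacter_restrict H (Chars.isCharacter_of_rep ρ)
  obtain ⟨ϑ, hϑ⟩ : ∃ ϑ : Cfsg.IrrCharacter H, Cfsg.classInner r (ϑ : H → ℂ) ≠ 0 := by
    by_contra hne
    push Not at hne
    have h := congrFun (Chars.isCharacter_eq_sum_classInner hrc) 1
    rw [Finset.sum_eq_zero fun φ _ => by rw [hne φ, zero_smul]] at h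
    simp only [hr, OneMemClass.coe_one,
      Representation.char_one, Pi.zero_apply, Nat.cast_eq_zero] at h
    exact (Chars.finrank_pos_of_isIrreducible ρ).ne' h
  have h1 : (ϑ : H → ℂ) 1 = ((1 : ℕ) : ℂ) := by rw [Chars.irr_apply_one_of_comm, Nat.cast_one]
  have := Cfsg.Agent.S0887.result H ρ.character (Chars.isIrrCharacter_of_rep ρ) (ϑ : H → ℂ) ϑ.2 hϑ
    (Module.finrank ℂ V) 1 ρ.char_one h1
  simpa using this.2

end Cfsg.Agent.S0169
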