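import Cfsg.Statements.S0728
import Mathlib
import Cfsg.Agent.Lib.Perm.Zassenhaus

set_option autoImplicit false
open Cfsg
open Cfsg.Agent.Lib.Perm.Zassenhaus

namespace Cfsg.Agent.S0728

/-- In a sharply triply transitive group of even degree at least 6 (degree `q + 1`, `q` odd), a two-point stabiliser has at most one subgroup of order 3. -/
theorem result {α : Type*} [Fintype α] [DecidableEq α] (heven : Even (Fintype.card α)) (h6 : 6 ≤ Fintype.card α) (G : Subgroup (Equiv.Perm α)) (h3 : MulAction.IsMultiplyPretransitive G α 3) (hsharp : ∀ x : Fin 3 ↪ α, MulAction.stabilizer G x = ⊥) {a b : α} (hab : a ≠ b) (A B : Subgroup G) (hA : A ≤ MulAction.stabilizer G a ⊓ MulAction.stabilizer G b) (hB : B ≤ MulAction.stabilizer G a ⊓ MulAction.stabilizer G b) (hA3 : Nat.card A = 3) (hB3 : Nat.card B = 3) : A = B := by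
  classical
  have hfix3 : FixAtMostTwo G α := by
    intro g x y z hxy hyz hxz hx hy hz
    let t : Fin 3 ↪ α := ⟨![x, y, z], by
      intro i j h; fin_cases i <;> fin_cases j <;> simp_all [hxy.symm, hyz.symm, hxz.symm]⟩
    have : g ∈ MulAction.stabilizer G t := MulAction.mem_stabilizer_iff.mpr (DFunLike.ext _ _ fun i => by
      fin_cases i <;> simpa [t] using ‹_›)
    rw [hsharp] at this
    exact Subgroup.mem_bot.mp this
  have h2 : MulAction.IsMultiplyPretransitive G α 2 :=
    MulAction.isMultiplyPretransitive_of_le (n := 3) (by norm_num) (by rw [Nat.card_eq_fintype_card]; omega)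
  have : Fintype G := Fintype.ofFinite G
  let E : Finset G := Finset.univ.filter fun g => orderOf g = 3
  let P : Finset (α × α) := Finset.univ.offDiag
  have hE : ∀ g ∈ E, (g ^ 3 = 1 ∧ g ≠ 1) := fun g hg => by
    have h := (Finset.mem_filter.mp hg).2
    exact ⟨h ▸ pow_orderOf_eq_one g, fun h1 => by simp [h1] at h⟩
  have hfixcard : ∀ g ∈ E, (Finset.univ.filter fun x : α => g • x = x).card ≤ 2 := by
    intro g hg
    refine le_trans (le_of_eq ?_) (card_fixedBy_le_two (Ω := α) hfix3 (hE g hg).2)
    rw [← Nat.card_eq_finsetCard]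
    exact Nat.card_congr (Equiv.subtypeEquivRight fun x => by simp)
  let U : Finset (Σ _ : G, α) := E.sigma fun g => Finset.univ.filter fun x => ¬ g • x = x
  let T : Finset (α × α × α) :=
    (P ×ˢ Finset.univ).filter (fun t => t.2 ≠ t.1.1 ∧ t.2 ≠ t.1.2) |>.image (fun t => (t.1.1, t.1.2, t.2))
  have hT : T.card ≤ P.card * (Fintype.card α - 2) := by
    refine Finset.card_image_le.trans ?_
    rw [show ((P ×ˢ Finset.univ).filter (fun t : (α × α) × α => t.2 ≠ t.1.1 ∧ t.2 ≠ t.1.2)) =
      P.biUnion (fun p => ((Finset.univ \ {p.1, p.2}).image fun z => (p, z))) by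
        ext ⟨p, z⟩; simp]
    refine Finset.card_biUnion_le.trans (Finset.sum_le_card_nsmul _ _ _ fun p hp => ?_)
    refine Finset.card_image_le.trans ?_
    rw [Finset.card_sdiff_of_subset (Finset.subset_univ _), Finset.card_univ,
      Finset.card_pair (by simpa [P] using hp)]
  have hU : U.card ≤ T.card := by
    refine Finset.card_le_card_of_injOn (fun u => (u.2, u.1 • u.2, u.1 • u.1 • u.2)) ?_ ?_
    · rintro ⟨g, x⟩ hu
      simp only [U, Finset.coe_sigma, Set.mem_sigma_iff, Finset.mem_coe, Finset.mem_filter,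
        Finset.mem_univ, true_and] at hu
      refine Finset.mem_image.mpr ⟨((x, g • x), g • g • x), ?_, rfl⟩
      refine Finset.mem_filter.mpr ⟨Finset.mem_product.mpr ⟨by simpa [P] using Ne.symm hu.2, Finset.mem_univ _⟩, ?_, ?_⟩
      · intro h
        have : g • g • g • x = g • x := congrArg (g • ·) h
        rw [← mul_smul, ← mul_smul, ← pow_two, ← pow_succ, (hE g hu.1).1, one_smul] at this
        exact hu.2 this.symm
      · exact fun h => hu.2 (smul_left_cancel g h)
    · rintro ⟨g, x⟩ hu ⟨g', x'⟩ hu' h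
      simp only [U, Finset.coe_sigma, Set.mem_sigma_iff, Finset.mem_coe, Finset.mem_filter,
        Finset.mem_univ, true_and] at hu hu'
      simp only [Prod.mk.injEq] at h
      obtain ⟨rfl, h1, h2'⟩ := h
      have e3 : ∀ k : G, k ^ 3 = 1 → k • k • k • x = x := fun k hk => by
        rw [← mul_smul, ← mul_smul, ← pow_two, ← pow_succ, hk, one_smul]
      have hne : g • g • x ≠ x := fun h => hu.2 (by
        have := congrArg (g • ·) h
        simp only [e3 g (hE g hu.1).1] at this
        exact this.symm)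
      have : g⁻¹ * g' = 1 := hfix3 _ x (g • x) (g • g • x) (Ne.symm hu.2)
        (fun h => hu.2 (smul_left_cancel g h.symm)) (Ne.symm hne)
        (by rw [mul_smul, inv_smul_eq_iff, h1])
        (by rw [mul_smul, inv_smul_eq_iff, h2', h1])
        (by rw [mul_smul, inv_smul_eq_iff, e3 g (hE g hu.1).1]
            conv_lhs => rw [h2', e3 g' (hE g' hu'.1).1])
      rw [inv_mul_eq_one.mp this]
  have hUcard : E.card * (Fintype.card α - 2) ≤ U.card := by
    rw [Finset.card_sigma, ← smul_eq_mul]
    refine Finset.card_nsmul_le_sum _ _ _ fun g hg => ?_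
    have := Finset.card_filter_add_card_filter_not (s := (Finset.univ : Finset α)) (fun x => g • x = x)
    rw [Finset.card_univ] at this
    have := hfixcard g hg
    omega
  have hEP : E.card ≤ P.card := Nat.le_of_mul_le_mul_right ((hUcard.trans hU).trans hT) (by omega)
  have hC := Finset.sum_card_bipartiteAbove_eq_sum_card_bipartiteBelow (s := E) (t := P)
    (fun g p => g • p.1 = p.1 ∧ g • p.2 = p.2)
  have hC1 : ∀ g ∈ E, (P.bipartiteAbove (fun g p => g • p.1 = p.1 ∧ g • p.2 = p.2) g).card ≤ 2 := by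
    intro g hg
    rw [Finset.bipartiteAbove, show P.filter (fun p => g • p.1 = p.1 ∧ g • p.2 = p.2) =
      (Finset.univ.filter fun x : α => g • x = x).offDiag by ext ⟨x, y⟩; simp [P]; tauto, Finset.offDiag_card]
    have := hfixcard g hg
    interval_cases (Finset.univ.filter fun x : α => g • x = x).card <;> omega
  -- the set of elements of order 3 fixing `a` and `b`
  let N : Finset G := E.filter fun g => g • a = a ∧ g • b = b
  have hC2 : ∀ p ∈ P, N.card ≤ (E.bipartiteBelow (fun g p => g • p.1 = p.1 ∧ g • p.2 = p.2) p).card := by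
    rintro ⟨x, y⟩ hp
    obtain ⟨k, hk1, hk2⟩ := exists_smul_pair h2 hab (by simpa [P] using hp : x ≠ y)
    refine Finset.card_le_card_of_injOn (fun g => k * g * k⁻¹) ?_ ?_
    · intro g hg
      simp only [Finset.coe_filter, N, Set.mem_ofPred_eq] at hg
      simp only [Finset.bipartiteBelow, Finset.coe_filter, Set.mem_ofPred_eq]
      refine ⟨Finset.mem_filter.mpr ⟨Finset.mem_univ _, ?_⟩, ?_, ?_⟩
      · rw [← MulAut.conj_apply, MulEquiv.orderOf_eq]; exact (Finset.mem_filter.mp hg.1).2
      · rw [← hk1]; exact conj_fix hg.2.1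
      · rw [← hk2]; exact conj_fix hg.2.2
    · intro g _ g' _ h; simpa using h
  have hN : N.card ≤ 2 := by
    have hpos : 0 < P.card := Finset.card_pos.mpr ⟨(a, b), by simp [P, hab]⟩
    refine Nat.le_of_mul_le_mul_left ?_ hpos
    calc P.card * N.card ≤ ∑ p ∈ P, (E.bipartiteBelow (fun g p => g • p.1 = p.1 ∧ g • p.2 = p.2) p).card := by
          rw [← smul_eq_mul]; exact Finset.card_nsmul_le_sum _ _ _ hC2
      _ ≤ E.card * 2 := by rw [← hC, ← smul_eq_mul]; exact Finset.sum_le_card_nsmul _ _ _ hC1
      _ ≤ P.card * 2 := Nat.mul_le_mul_right _ hEP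
  have hmem : ∀ (C : Subgroup G), C ≤ MulAction.stabilizer G a ⊓ MulAction.stabilizer G b → Nat.card C = 3 →
      (Finset.univ.filter fun g => g ∈ C ∧ g ≠ 1) = N := by
    intro C hC hC3
    apply Finset.eq_of_subset_of_card_le
    · intro g hg
      obtain ⟨-, hgC, hg1⟩ := Finset.mem_filter.mp hg
      have ho : orderOf g = 3 := by
        have hd := Subgroup.orderOf_dvd_natCard C hgC
        rw [hC3] at hd
        exact ((Nat.dvd_prime Nat.prime_three).mp hd).resolve_left (fun h => hg1 (orderOf_eq_one_iff.mp h))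
      exact Finset.mem_filter.mpr ⟨Finset.mem_filter.mpr ⟨Finset.mem_univ _, ho⟩,
        (Subgroup.mem_inf.mp (hC hgC)).1, (Subgroup.mem_inf.mp (hC hgC)).2⟩
    · refine hN.trans (le_of_eq ?_)
      rw [show (Finset.univ.filter fun g => g ∈ C ∧ g ≠ 1) = (Finset.univ.filter fun g => g ∈ C).erase 1 by
        ext g; simp [and_comm], Finset.card_erase_of_mem (by simp [C.one_mem])]
      rw [← Fintype.card_subtype, ← Nat.card_eq_fintype_card, show Nat.card {g : G // g ∈ C} = 3 from hC3]
  ext g
  rcases eq_or_ne g 1 with rfl | hg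
  · simp [A.one_mem, B.one_mem]
  · have := (hmem A hA hA3).trans (hmem B hB hB3).symm
    simpa [hg] using Finset.ext_iff.mp this g

end Cfsg.Agent.S0728
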