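import Cfsg.Statements.S0729
import Mathlib
import Mathlib
import Cfsg.Agent.Lib.Perm.IndexTwo
import Cfsg.Agent.Lib.Perm.SharplyThree
import Cfsg.Agent.Lib.Perm.KernelAction
import Cfsg.Agent.S0728

set_option autoImplicit false
open Cfsg

namespace Cfsg.Agent.S0729

open Cfsg.Agent.Lib.Perm

/-- In a sharply triply transitive group of even degree at least 6, the two-point stabiliser `H = G_{a,b}` has a normal subgroup of index 2 that is normalised by the element `s` interchanging `a, b` and fixing a third point `c`. -/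
theorem result {α : Type*} [Fintype α] [DecidableEq α] (heven : Even (Fintype.card α)) (h6 : 6 ≤ Fintype.card α) (G : Subgroup (Equiv.Perm α)) (h3 : MulAction.IsMultiplyPretransitive G α 3) (hsharp : ∀ x : Fin 3 ↪ α, MulAction.stabilizer G x = ⊥) {a b c : α} (hab : a ≠ b) (hac : a ≠ c) (hbc : b ≠ c) (s : G) (hsa : s • a = b) (hsb : s • b = a) (hsc : s • c = c) : ∃ N : Subgroup G, N ≤ MulAction.stabilizer G a ⊓ MulAction.stabilizer G b ∧ (N.subgroupOf (MulAction.stabilizer G a ⊓ MulAction.stabilizer G b)).Normal ∧ N.relIndex (MulAction.stabilizer G a ⊓ MulAction.stabilizer G b) = 2 ∧ ∀ n ∈ N, s * n * s⁻¹ ∈ N := by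
  classical
  have hn : 3 ≤ Fintype.card α := by omega
  have hG := SharplyThree.fixAtMostTwo hsharp
  have hs1 : s ≠ 1 := fun h => hab (by rw [h, one_smul] at hsa; exact hsa)
  have hss : s * s = 1 := hG _ a b c hab hbc hac (by rw [mul_smul, hsa, hsb]) (by rw [mul_smul, hsb, hsa])
    (by rw [mul_smul, hsc, hsc])
  obtain ⟨T, ℓ, j, hT, hℓ, hj, hcard, hexp⟩ := SharplyThree.exists_isKernel h3 hsharp hn a
  have := Fact.mk hℓ
  set H := MulAction.stabilizer G a ⊓ MulAction.stabilizer G b with hH
  obtain ⟨V, iV, iM, iVf, R, hrank, hRfix, -⟩ := KernelAction.exists_rep hG hT hab.symm hexp hcard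
  have hHcard : Nat.card H = Fintype.card α - 2 := SharplyThree.card_stab_two h3 hsharp hab hn
  have hV : Nat.card V = Fintype.card α - 1 := by
    have := Fintype.ofFinite V
    rw [Nat.card_eq_fintype_card, Module.card_eq_pow_finrank (K := ZMod ℓ) (V := V), ZMod.card, hrank, hcard]
    omega
  have : Nontrivial V := Finite.one_lt_card_iff_nontrivial.mp (by omega)
  let φ := SharplyThree.swapAut hsa hsb
  have hφ : Function.Involutive φ := SharplyThree.swapAut_involutive hsa hsb hss
  -- the fixed points of the swap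
  have hinj : ∀ g h : H, (g : G) • c = (h : G) • c → g = h := by
    intro g h hgh
    obtain ⟨h1, h2⟩ := Subgroup.mem_inf.mp (mul_mem (inv_mem g.2) h.2)
    exact Subtype.ext (inv_mul_eq_one.mp (hG _ a b c hab hbc hac h1 h2
      (by rw [mul_smul, ← hgh, inv_smul_smul])))
  have hfix : ∀ x, φ x = x → x * x = 1 := by
    intro x hx
    by_contra hx2
    have hx1 : x ≠ 1 := fun h => hx2 (by rw [h, one_mul])
    have hmove : ∀ h, φ h = h → s • ((h : G) • c) = (h : G) • c := by
      intro h hh
      have hh' : s * (h : G) * s⁻¹ = h := congrArg Subtype.val hh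
      rw [← mul_smul, mul_inv_eq_iff_eq_mul.mp hh', mul_smul, hsc]
    let F : Fin 3 → MulAction.fixedBy α s :=
      ![⟨_, hmove 1 (map_one φ)⟩, ⟨_, hmove x hx⟩, ⟨_, hmove (x * x) (by rw [map_mul, hx])⟩]
    have hF : Function.Injective F := by
      intro u v huv
      fin_cases u <;> fin_cases v <;> first
        | rfl
        | (exfalso
           have := hinj _ _ (congrArg Subtype.val huv)
           first
            | exact hx1 this | exact hx1 this.symm | exact hx2 this | exact hx2 this.symm
            | exact hx1 (mul_eq_left.mp this) | exact hx1 (mul_eq_left.mp this.symm))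
    have := Nat.card_le_card_of_injective F hF
    have hle := Zassenhaus.card_fixedBy_le_two hG (Ω := α) hs1
    simp only [Nat.card_eq_fintype_card, Fintype.card_fin] at this hle
    omega
  obtain ⟨N₀, hN₀⟩ := IndexTwo.exists_index_two
    ({ toFun := fun h => ((R h).toAddMonoidHom : AddMonoid.End V)
       map_one' := by rw [map_one]; rfl
       map_mul' := fun g h => by rw [map_mul]; rfl } : H →* AddMonoid.End V) hRfix
    (show Nat.card H + 1 = Nat.card V by omega)
    (by rw [hHcard]; obtain ⟨k, hk⟩ := heven; exact ⟨k - 1, by omega⟩)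
    (fun A B hA hB => Subgroup.map_injective H.subtype_injective
      (S0728.result heven h6 G h3 hsharp hab (A.map H.subtype) (B.map H.subtype)
        (Subgroup.map_subtype_le A) (Subgroup.map_subtype_le B)
        (by rw [Subgroup.card_subtype, hA]) (by rw [Subgroup.card_subtype, hB])))
    φ hφ hfix
  -- make it invariant
  obtain ⟨N, hN, hNφ⟩ : ∃ N : Subgroup H, N.index = 2 ∧ ∀ x ∈ N, φ x ∈ N := by
    by_cases h : ∀ x ∈ N₀, φ x ∈ N₀
    · exact ⟨N₀, hN₀, h⟩
    push Not at h
    obtain ⟨z, hz, hz'⟩ := h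
    have key : ∀ x y, φ (x * y) ∈ N₀ ↔ (φ x ∈ N₀ ↔ φ y ∈ N₀) := fun x y => by
      rw [map_mul]; exact Subgroup.mul_mem_iff_of_index_two hN₀
    let N : Subgroup H :=
      { carrier := {x | x ∈ N₀ ↔ φ x ∈ N₀}
        one_mem' := by simp [one_mem]
        mul_mem' := fun {x y} hx hy => by
          simp only [Set.mem_ofPred_eq] at hx hy ⊢
          rw [Subgroup.mul_mem_iff_of_index_two hN₀, key, hx, hy]
        inv_mem' := fun {x} hx => by
          simp only [Set.mem_ofPred_eq] at hx ⊢
          rwa [inv_mem_iff, map_inv, inv_mem_iff] }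
    refine ⟨N, ?_, fun x hx => ?_⟩
    · rw [Subgroup.index_eq_two_iff]
      refine ⟨z, fun x => ?_⟩
      show Xor (x * z ∈ N₀ ↔ φ (x * z) ∈ N₀) (x ∈ N₀ ↔ φ x ∈ N₀)
      rw [Subgroup.mul_mem_iff_of_index_two hN₀, key]
      simp only [Xor, hz, hz', iff_true, iff_false]
      tauto
    · show φ x ∈ N₀ ↔ φ (φ x) ∈ N₀
      rw [hφ x]
      exact (show x ∈ N₀ ↔ φ x ∈ N₀ from hx).symm
  refine ⟨N.map H.subtype, Subgroup.map_subtype_le N, ?_, ?_, ?_⟩
  · rw [Subgroup.subgroupOf, Subgroup.comap_map_eq_self_of_injective H.subtype_injective]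
    exact Subgroup.normal_of_index_eq_two hN
  · rw [Subgroup.relIndex, Subgroup.subgroupOf, Subgroup.comap_map_eq_self_of_injective H.subtype_injective, hN]
  · rintro _ ⟨x, hx, rfl⟩
    exact ⟨φ x, hNφ x hx, rfl⟩

end Cfsg.Agent.S0729
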