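import Cfsg.Statements.S0344
import Mathlib
import Mathlib
import Cfsg.Agent.Lib.Perm.SharplySimple
import Cfsg.Agent.Lib.Perm.ZassenhausPGL

set_option autoImplicit false
open Cfsg

namespace Cfsg.Agent.S0344

open Cfsg.Agent.Lib.Perm

/-- A finite simple Zassenhaus group with a two-point stabiliser of even order is isomorphic to `PSL₂(F)` for a finite
field `F` with more than three elements. -/
theorem result {G Ω : Type*} [Group G] [Finite G] [MulAction G Ω] [Finite Ω]
    (hZ : Cfsg.IsZassenhausGroup G Ω) [IsSimpleGroup G]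
    {a b : Ω} (hab : a ≠ b) (heven : Even (Nat.card ↥(MulAction.stabilizer G a ⊓ MulAction.stabilizer G b))) :
    ∃ (F : Type) (_ : Field F) (_ : Fintype F), 3 < Fintype.card F ∧ Nonempty (G ≃* Matrix.ProjectiveSpecialLinearGroup (Fin 2) F) := by
  classical
  let : Fintype Ω := Fintype.ofFinite Ω
  obtain ⟨T, hT, hd, hinv⟩ := SharplySimple.even_stabiliser hZ hab heven
  obtain ⟨hF, h2, h3, hfix, -⟩ := hZ
  obtain ⟨c, hca, hcb⟩ := Zassenhaus.exists_third hfix a b
  obtain ⟨s, hsa, hsb⟩ := Zassenhaus.exists_smul_pair h2 hab hab.symm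
  obtain ⟨K, iK, iF, hK, -, hiso⟩ := ZassenhausPGL.exists_mulEquiv_PSL h2 h3 hT hab.symm hca hcb
    (ZassenhausBasics.comm_of_inverted (s := s) (hinv s hsa hsb)) hd hinv
  refine ⟨K, iK, iF, ?_, hiso⟩
  obtain ⟨k, hk⟩ := heven
  have hpos : 0 < Nat.card ↥(MulAction.stabilizer G a ⊓ MulAction.stabilizer G b) := Nat.card_pos
  omega

end Cfsg.Agent.S0344
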