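import Cfsg.Statements.S0731
import Mathlib
import Cfsg.Agent.Lib.Perm.AbelianKernel
import Cfsg.Agent.Lib.Perm.ZassenhausPGL

set_option autoImplicit false
open Cfsg

namespace Cfsg.Agent.S0731

open Cfsg.Agent.Lib.Perm Cfsg.Agent.Lib.Perm.Zassenhaus

/-- A finite Zassenhaus group whose point stabiliser has an abelian regular normal subgroup on the remaining points is sharply triply transitive or isomorphic to `PSL(2, F)` for a finite field `F` of odd characteristic. -/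
theorem result {G Ω : Type*} [Group G] [Finite G] [MulAction G Ω] [Finite Ω] (hZ : Cfsg.IsZassenhausGroup G Ω) (x : Ω) (F : Subgroup G) (hFle : F ≤ MulAction.stabilizer G x) (hFn : (F.subgroupOf (MulAction.stabilizer G x)).Normal) (hFab : IsMulCommutative F) (hreg : ∀ y z : Ω, y ≠ x → z ≠ x → ∃! u : F, (u : G) • y = z) : (MulAction.IsMultiplyPretransitive G Ω 3 ∧ ∀ t : Fin 3 ↪ Ω, MulAction.stabilizer G t = ⊥) ∨ ∃ (K : Type) (_ : Field K) (_ : Fintype K), ringChar K ≠ 2 ∧ Nonempty (G ≃* Matrix.ProjectiveSpecialLinearGroup (Fin 2) K) := by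
  classical
  have hZ' := hZ
  obtain ⟨hF, h2, h3, hfix, -⟩ := hZ'
  let : Fintype Ω := Fintype.ofFinite Ω
  obtain ⟨g, hg, a, b, hab, -, -⟩ := hfix
  obtain ⟨o, ho⟩ : ∃ o, o ≠ x := by
    rcases eq_or_ne a x with rfl | h
    · exact ⟨b, hab.symm⟩
    · exact ⟨a, h⟩
  have hT : AffineCoords.IsKernel F x := ZassenhausBasics.isKernel_of_regular hFle hFn
    (fun s hs t ht => congrArg Subtype.val (hFab.is_comm.comm (⟨s, hs⟩ : F) ⟨t, ht⟩)) hreg
  rcases AbelianKernel.dichotomy hZ hT ho with h | ⟨h, hinv⟩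
  · exact Or.inl (AbelianKernel.three_pretransitive h2 h3 ho.symm h)
  · obtain ⟨c, hc1, hc2⟩ := exists_third hZ.2.2.2.1 x o
    obtain ⟨s, hs1, hs2⟩ := exists_smul_pair h2 ho.symm ho
    obtain ⟨K, iK, iF, -, hchar, hiso⟩ := ZassenhausPGL.exists_mulEquiv_PSL h2 h3 hT ho hc1 hc2
      (ZassenhausBasics.comm_of_inverted (s := s) (hinv s hs1 hs2)) h hinv
    exact Or.inr ⟨K, iK, iF, hchar, hiso⟩

end Cfsg.Agent.S0731
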