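import Cfsg.Statements.S0340
import Mathlib
import Cfsg.Agent.S0344
import Cfsg.Agent.S0731
import Cfsg.Agent.S0738
import Cfsg.Agent.Lib.Zassenhaus.Feit
import Cfsg.Agent.Lib.Zassenhaus.TwoKernel.Final
import Cfsg.Agent.Lib.Perm.ZassenhausPGL

set_option autoImplicit false
open Cfsg

namespace Cfsg.Agent.S0340

/-- Classification of Zassenhaus groups, simple case, order-level form: a finite simple Zassenhaus group is
isomorphic to `PSL₂(F)` for some finite field `F` or is simple of Suzuki order. -/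
theorem result {G Ω : Type*} [Group G] [Finite G] [MulAction G Ω]
    [Finite Ω] (hZ : Cfsg.IsZassenhausGroup G Ω) [IsSimpleGroup G] :
    (∃ (F : Type) (_ : Field F) (_ : Fintype F), Nonempty (G ≃* Matrix.ProjectiveSpecialLinearGroup (Fin 2) F)) ∨ Cfsg.IsSuzuki G := by
  classical
  letI := Fintype.ofFinite G
  letI := Fintype.ofFinite Ω
  have hn3 := Lib.Zassenhaus.SimpleOdd.three_le hZ
  obtain ⟨a, b, hab⟩ := Fintype.exists_pair_of_one_lt_card (α := Ω) (by omega)
  rcases Nat.even_or_odd (Nat.card ↥(MulAction.stabilizer G a ⊓ MulAction.stabilizer G b)) with hev | hodd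
  · obtain ⟨F, iF, iFF, -, hiso⟩ := Cfsg.Agent.S0344.result hZ hab hev
    exact Or.inl ⟨F, iF, iFF, hiso⟩
  haveI := hZ.1
  obtain ⟨K, hK⟩ := Lib.Zassenhaus.exists_isKer (G := G) hZ.2.1 hZ.2.2.1 hZ.2.2.2.1 a
  have hreg : ∀ y z : Ω, y ≠ a → z ≠ a → ∃! u : K, (u : G) • y = z := by
    intro y z hy hz
    obtain ⟨k, hk, hky⟩ := hK.transitive y z hy hz
    refine ⟨⟨k, hk⟩, hky, fun u hu => Subtype.ext ?_⟩
    exact (inv_mul_eq_one.1 (hK.eq_one (mul_mem (inv_mem u.2) hk) hy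
      (by rw [mul_smul, hky, ← hu, inv_smul_smul])))
  have hKle : K ≤ MulAction.stabilizer G a := fun k hk => hK.fix hk
  have hKn : ∀ g ∈ MulAction.stabilizer G a, ∀ u ∈ K, g * u * g⁻¹ ∈ K :=
    fun g hg u hu => hK.conj_mem hu hg
  have hKnormal : (K.subgroupOf (MulAction.stabilizer G a)).Normal :=
    ⟨fun u hu g => Subgroup.mem_subgroupOf.2 (hKn g g.2 u hu)⟩
  have hKcard : Nat.card K + 1 = Fintype.card Ω := by
    have hne : ∀ u : K, (u : G) • b ≠ a := fun u e => hab.symm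
      (smul_left_cancel (u : G) (e.trans (hK.fix u.2).symm))
    have ee : K ≃ {x : Ω // x ≠ a} := Equiv.ofBijective (fun u => ⟨(u : G) • b, hne u⟩)
      ⟨fun u v e => (hreg b _ hab.symm (hne u)).unique rfl (congrArg Subtype.val e).symm,
        fun x => ⟨(hreg b x hab.symm x.2).exists.choose,
          Subtype.ext (hreg b x hab.symm x.2).exists.choose_spec⟩⟩
    rw [Nat.card_congr ee, Nat.card_eq_fintype_card, Fintype.card_subtype_compl, Fintype.card_subtype_eq]
    omega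
  have hfix : ∀ u ∈ K, u ≠ 1 → ∀ c : Ω, u • c = c → c = a :=
    fun u hu hu1 c hc => by_contra fun hne => hu1 (hK.eq_one hu hne hc)
  by_cases hKab : IsMulCommutative K
  swap
  · rcases Lib.Zassenhaus.feit _ G le_rfl hZ hab (Fintype.card Ω - 1) _ (by omega) rfl hodd K hKle
      hKcard hfix with hbig | ⟨h2, ⟨u, v, huv⟩, -⟩
    · exact absurd (Cfsg.Agent.S0738.result hZ hab (by omega) K hKle hKnormal hreg).1 hKab
    · exact Or.inr (Lib.Zassenhaus.TwoKernel.isSuzuki hZ hab K hKle hKn hreg h2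
        ⟨u, u.2, v, v.2, fun e => huv (Subtype.ext e)⟩)
  refine Or.inl ?_
  rcases Cfsg.Agent.S0731.result hZ a K hKle hKnormal hKab hreg with ⟨h3, hsharp⟩ | ⟨F, iF, iFF, -, hiso⟩
  swap
  · exact ⟨F, iF, iFF, hiso⟩
  -- sharply three-transitive
  haveI := hZ.1
  obtain ⟨c, hca, hcb⟩ : ∃ c : Ω, c ≠ a ∧ c ≠ b := by
    obtain ⟨c, -, hc⟩ := Finset.exists_mem_notMem_of_card_lt_card
      (s := ({a, b} : Finset Ω)) (t := Finset.univ) (Finset.card_le_two.trans_lt (by
        rw [Finset.card_univ]; omega))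
    simp only [Finset.mem_insert, Finset.mem_singleton, not_or] at hc
    exact ⟨c, hc⟩
  have hthree : ∀ x y z x' y' z' : Ω, x ≠ y → x ≠ z → y ≠ z → x' ≠ y' → x' ≠ z' → y' ≠ z' →
      ∃ g : G, g • x = x' ∧ g • y = y' ∧ g • z = z' := by
    intro x y z x' y' z' h1 h2 h4 h5 h6 h7
    let t1 : Fin 3 ↪ Ω := ⟨![x, y, z], by
      intro i j; fin_cases i <;> fin_cases j <;> simp [h1, h2, h4, h1.symm, h2.symm, h4.symm]⟩
    let t2 : Fin 3 ↪ Ω := ⟨![x', y', z'], by
      intro i j; fin_cases i <;> fin_cases j <;> simp [h5, h6, h7, h5.symm, h6.symm, h7.symm]⟩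
    haveI := h3
    obtain ⟨g, hg⟩ := MulAction.exists_smul_eq G t1 t2
    exact ⟨g, congrArg (fun t : Fin 3 ↪ Ω => t 0) hg, congrArg (fun t : Fin 3 ↪ Ω => t 1) hg,
      congrArg (fun t : Fin 3 ↪ Ω => t 2) hg⟩
  obtain ⟨hcyc, hinv⟩ := Lib.Zassenhaus.SimpleOdd.simple_inverts hZ hab hodd
  have hd : Nat.card ↥(MulAction.stabilizer G a ⊓ MulAction.stabilizer G b) = Fintype.card Ω - 2 := by
    have hne : ∀ g : ↥(MulAction.stabilizer G a ⊓ MulAction.stabilizer G b),
        (g : G) • c ≠ a ∧ (g : G) • c ≠ b := fun g =>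
      ⟨fun e => hca (smul_left_cancel (g : G) (e.trans (g.2.1 : (g : G) • a = a).symm)),
       fun e => hcb (smul_left_cancel (g : G) (e.trans (g.2.2 : (g : G) • b = b).symm))⟩
    have ee : ↥(MulAction.stabilizer G a ⊓ MulAction.stabilizer G b) ≃ {x : Ω // x ≠ a ∧ x ≠ b} := by
      refine Equiv.ofBijective (fun g => ⟨(g : G) • c, hne g⟩) ⟨fun g g' e => ?_, fun x => ?_⟩
      · have e' : (g : G) • c = (g' : G) • c := congrArg Subtype.val e
        have hm := mul_mem (inv_mem g'.2) g.2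
        refine Subtype.ext (inv_mul_eq_one.1 (hZ.2.2.1 _ a b c hab (Ne.symm hcb) (Ne.symm hca)
          hm.1 hm.2 (by rw [mul_smul, e', inv_smul_smul]))).symm
      · obtain ⟨g, h1, h2, h4⟩ := hthree a b c a b x.1 hab hca.symm hcb.symm hab x.2.1.symm x.2.2.symm
        exact ⟨⟨g, h1, h2⟩, Subtype.ext h4⟩
    rw [Nat.card_congr ee, Nat.card_eq_fintype_card, Fintype.card_subtype,
      show (Finset.univ.filter fun x : Ω => x ≠ a ∧ x ≠ b) = Finset.univ \ {a, b} by ext x; simp,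
      Finset.card_sdiff, Finset.inter_univ, Finset.card_pair hab, Finset.card_univ]
  have hcommE : ∀ g ∈ MulAction.stabilizer G a ⊓ MulAction.stabilizer G b,
      ∀ g' ∈ MulAction.stabilizer G a ⊓ MulAction.stabilizer G b, g * g' = g' * g := by
    intro g hg g' hg'
    haveI := hcyc
    letI := IsCyclic.commGroup (α := ↥(MulAction.stabilizer G a ⊓ MulAction.stabilizer G b))
    exact congrArg Subtype.val (mul_comm
      (⟨g, hg⟩ : ↥(MulAction.stabilizer G a ⊓ MulAction.stabilizer G b)) ⟨g', hg'⟩)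
  obtain ⟨s, hsa, hsb, hsc⟩ := hthree a b c b a c hab hca.symm hcb.symm hab.symm hcb.symm hca.symm
  obtain ⟨F, iF, iFF, hFcard, ⟨hiso⟩⟩ := Lib.Perm.ZassenhausPGL.exists_mulEquiv_PGL hZ.2.1 hZ.2.2.1
    (Lib.Perm.ZassenhausBasics.isKernel_of_isKer hK
      (fun x hx y hy => congrArg Subtype.val (hKab.is_comm.comm (⟨x, hx⟩ : K) ⟨y, hy⟩)))
    hab.symm hca hcb hcommE hd hsa hsb hsc
    (fun g hg => hinv a b hab s hsa hsb _ (mul_mem hg hg))
  refine ⟨F, iF, iFF, ?_⟩
  have hevenF : Even (Fintype.card F) := by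
    obtain ⟨j, hj⟩ := hodd
    rw [hd] at hj
    exact ⟨j + 1, by omega⟩
  have hchar : ringChar F = 2 := FiniteField.even_card_iff_char_two.2 (Nat.even_iff.1 hevenF)
  have hsq : ∀ r : Fˣ, ∃ k : Fˣ, k ^ 2 = r := by
    intro r
    obtain ⟨k, hk⟩ := FiniteField.isSquare_of_char_two hchar (r : F)
    have hk0 : k ≠ 0 := fun h0 => r.ne_zero (by rw [hk, h0, zero_mul])
    exact ⟨Units.mk0 k hk0, Units.ext (by simp [pow_two, ← hk])⟩
  exact ⟨hiso.trans (MulEquiv.ofBijective (Matrix.ProjectiveSpecialLinearGroup.toPGL (n := Fin 2) (R := F))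
    ⟨Matrix.ProjectiveSpecialLinearGroup.toPGL_injective,
      (Matrix.ProjectiveSpecialLinearGroup.toPGL_surj_iff (n := Fin 2) (R := F)).2
        (by simpa using hsq)⟩).symm⟩

end Cfsg.Agent.S0340
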