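import Cfsg.Statements.S3633
import Mathlib
import Cfsg.Agent.Lib.PrimeGraph.Triple
-- import your own Cfsg.Agent.* helpers here

set_option autoImplicit false
open Cfsg

namespace Cfsg.Agent.S3633

open Cfsg.Agent.Lib.PrimeGraph in
/-- Two primes of a three-element coclique cannot both divide a normal solvable subgroup. -/
theorem two_in_solvable {G : Type*} [Group G] [Finite G] {r s t : ℕ} (hr : r.Prime) (hs : s.Prime) (ht : t.Prime)
    (hrs : r ≠ s) (hrt : r ≠ t) (hst : s ≠ t) (nrs : ∀ g : G, orderOf g ≠ r * s)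
    (nrt : ∀ g : G, orderOf g ≠ r * t) (nst : ∀ g : G, orderOf g ≠ s * t) (K : Subgroup G)
    (hKn : K.Normal) (hKs : Group.IsSolvable ↥K) (hrK : r ∣ Nat.card ↥K) (hsK : s ∣ Nat.card ↥K)
    (htG : t ∣ Nat.card G) : False := by
  induction hn : Nat.card ↥K using Nat.strong_induction_on generalizing K r s t with
  | _ n ih =>
    subst hn
    haveI := hKn
    haveI := hKs
    haveI : Nontrivial ↥K := Finite.one_lt_card_iff_nontrivial.1
      (lt_of_lt_of_le hr.one_lt (Nat.le_of_dvd Nat.card_pos hrK))
    set D := commutator ↥K with hD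
    set M := D.map K.subtype with hM
    have hlt : D < ⊤ := by
      exact Group.IsSolvable.commutator_lt_top_of_nontrivial ↥K
    have hMK : M ≤ K := by rw [hM]; exact Subgroup.map_subtype_le _
    have hcardM : Nat.card ↥M = Nat.card ↥D :=
      (Nat.card_congr (D.equivMapOfInjective K.subtype K.subtype_injective).toEquiv).symm
    haveI hMn : M.Normal := by
      rw [hM, hD]; exact ConjAct.normal_of_characteristic_of_normal
    have hMs : Group.IsSolvable ↥M :=
      Group.isSolvable_of_isSolvable_injective (f := Subgroup.inclusion hMK) (Subgroup.inclusion_injective hMK)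
    have hDlt : Nat.card ↥M < Nat.card ↥K := by
      rw [hcardM]
      refine lt_of_le_of_ne (Subgroup.card_le_card_group D) fun h => hlt.ne ?_
      exact Subgroup.eq_top_of_card_eq D h
    have hrel : M.relIndex K = D.index := by
      rw [Subgroup.relIndex, hM, Subgroup.subgroupOf, Subgroup.comap_map_eq_self_of_injective K.subtype_injective]
    have hsplit : ∀ u : ℕ, u.Prime → u ∣ Nat.card ↥K → u ∣ Nat.card ↥M ∨ u ∣ M.relIndex K := by
      intro u hu hd
      rw [← Subgroup.index_mul_card D] at hd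
      rw [hrel, hcardM]
      exact (hu.dvd_mul.1 hd).symm
    have hfinal : ∀ u v w : ℕ, u.Prime → v.Prime → w.Prime → u ≠ v → u ≠ w → v ≠ w →
        (∀ g : G, orderOf g ≠ u * v) → (∀ g : G, orderOf g ≠ u * w) → (∀ g : G, orderOf g ≠ v * w) →
        u ∣ Nat.card ↥M → v ∣ M.relIndex K → w ∣ K.index → False := by
      intro u v w hu hv hw huv huw hvw nuv nuw nvw h1 h2 h3
      rcases triple M K hMK hu hv hw huv huw hvw h1 h2 h3 with ⟨g, hg⟩ | ⟨g, hg⟩ | ⟨g, hg⟩
      · exact nuv g hg
      · exact nuw g hg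
      · exact nvw g hg
    have habel : ∀ u v : ℕ, u.Prime → v.Prime → u ≠ v → (∀ g : G, orderOf g ≠ u * v) →
        u ∣ M.relIndex K → v ∣ M.relIndex K → False := by
      intro u v hu hv huv nuv h1 h2
      rw [hrel] at h1 h2
      haveI := Fact.mk hu
      haveI := Fact.mk hv
      obtain ⟨a, ha⟩ := exists_prime_orderOf_dvd_card' (G := Abelianization ↥K) u h1
      obtain ⟨b, hb⟩ := exists_prime_orderOf_dvd_card' (G := Abelianization ↥K) v h2
      obtain ⟨c, hc⟩ := exists_orderOf_mul hu hv huv ha hb (Commute.all a b)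
      obtain ⟨k, rfl⟩ : ∃ k, Abelianization.of k = c := Quot.exists_rep c
      have hd : u * v ∣ orderOf ((k : G)) := by
        rw [← hc, Subgroup.orderOf_coe]; exact orderOf_map_dvd _ k
      exact nuv _ (orderOf_pow_orderOf_div (orderOf_pos (k : G)).ne' hd)
    rcases hsplit r hr hrK with hrM | hrQ <;> rcases hsplit s hs hsK with hsM | hsQ
    · exact ih _ hDlt hr hs ht hrs hrt hst nrs nrt nst M hMn hMs hrM hsM htG rfl
    · have htK := (ht.dvd_mul.1 (by rw [Subgroup.index_mul_card]; exact htG :
          t ∣ K.index * Nat.card ↥K))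
      rcases htK with h | h
      · exact hfinal r s t hr hs ht hrs hrt hst nrs nrt nst hrM hsQ h
      rcases hsplit t ht h with h | h
      · exact ih _ hDlt hr ht hs hrt hrs hst.symm nrt nrs (fun g => mul_comm t s ▸ nst g) M hMn hMs
          hrM h (hsK.trans (Subgroup.card_subgroup_dvd_card K)) rfl
      · exact habel s t hs ht hst nst hsQ h
    · have htK := (ht.dvd_mul.1 (by rw [Subgroup.index_mul_card]; exact htG :
          t ∣ K.index * Nat.card ↥K))
      rcases htK with h | h
      · exact hfinal s r t hs hr ht hrs.symm hst hrt (fun g => mul_comm s r ▸ nrs g) nst nrt hsM hrQ h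
      rcases hsplit t ht h with h | h
      · exact ih _ hDlt hs ht hr hst hrs.symm hrt.symm nst (fun g => mul_comm s r ▸ nrs g)
          (fun g => mul_comm t r ▸ nrt g) M hMn hMs hsM h (hrK.trans (Subgroup.card_subgroup_dvd_card K)) rfl
      · exact habel r t hr ht hrt nrt hrQ h
    · exact habel r s hr hs hrs nrs hrQ hsQ


/-- Let G be a finite group and ρ a set of at least three prime divisors of the order of G that are pairwise non-adjacent in the prime graph (no element of order rs for distinct r, s ∈ ρ). Then at most one prime of ρ divides the order of any given solvable normal subgroup of G; in particular G is not solvable. -/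
theorem result {G : Type*} [Group G] [Finite G] (ρ : Finset ℕ) (hρ : 3 ≤ ρ.card) (hc : ((∀ r ∈ ρ, r.Prime ∧ r ∣ Nat.card G) ∧ (∀ r ∈ ρ, ∀ s ∈ ρ, r ≠ s → ¬ ∃ x : G, orderOf x = r * s)))
    (K : Subgroup G) [K.Normal] (hK : Group.IsSolvable ↥K) :
    (∀ r ∈ ρ, ∀ s ∈ ρ, r ∣ Nat.card ↥K → s ∣ Nat.card ↥K → r = s) ∧ ¬ Group.IsSolvable G := by
  classical
  obtain ⟨hmem, hcl⟩ := hc
  have main : ∀ (K : Subgroup G), K.Normal → Group.IsSolvable ↥K → ∀ r ∈ ρ, ∀ s ∈ ρ,
      r ∣ Nat.card ↥K → s ∣ Nat.card ↥K → r = s := by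
    intro K hKn hKs r hr s hs hrK hsK
    by_contra hrs
    have h2 : ((ρ.erase r).erase s).Nonempty := by
      rw [← Finset.card_pos]
      have h3 : ρ.card - 1 ≤ (ρ.erase r).card := Finset.pred_card_le_card_erase
      have h4 : (ρ.erase r).card - 1 ≤ ((ρ.erase r).erase s).card := Finset.pred_card_le_card_erase
      omega
    obtain ⟨t, ht⟩ := h2
    simp only [Finset.mem_erase] at ht
    exact two_in_solvable (hmem r hr).1 (hmem s hs).1 (hmem t ht.2.2).1 hrs ht.2.1.symm ht.1.symm
      (fun g hg => hcl r hr s hs hrs ⟨g, hg⟩) (fun g hg => hcl r hr t ht.2.2 ht.2.1.symm ⟨g, hg⟩)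
      (fun g hg => hcl s hs t ht.2.2 ht.1.symm ⟨g, hg⟩) K hKn hKs hrK hsK (hmem t ht.2.2).2
  refine ⟨main K inferInstance hK, fun hG => ?_⟩
  obtain ⟨r, hr, s, hs, hrs⟩ := Finset.one_lt_card.1 (show 1 < ρ.card by omega)
  haveI := hG
  have h : Group.IsSolvable ↥(⊤ : Subgroup G) := inferInstance
  exact hrs (main ⊤ inferInstance h r hr s hs
    (by rw [Subgroup.card_top]; exact (hmem r hr).2) (by rw [Subgroup.card_top]; exact (hmem s hs).2))

end Cfsg.Agent.S3633
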