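import Cfsg.Statements.S1475
import Mathlib
import Cfsg.Agent.S3633

set_option autoImplicit false
open Cfsg

namespace Cfsg.Agent.S1475

/-- Let G be a finite solvable group such that the order of every element is a prime power (1 included). Then at most two distinct primes divide the order of G. -/
theorem result {G : Type*} [Group G] [Finite G] [Group.IsSolvable G] (h : ∀ g : G, IsPrimePow (orderOf g) ∨ g = 1) :
    (Nat.card G).primeFactors.card ≤ 2 := by
  by_contra! hc
  refine (S3633.result (Nat.card G).primeFactors hc ⟨fun r hr => ?_, fun r hr s hs hrs => ?_⟩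
    (⊤ : Subgroup G) inferInstance).2 inferInstance
  · exact ⟨Nat.prime_of_mem_primeFactors hr, Nat.dvd_of_mem_primeFactors hr⟩
  · rintro ⟨x, hx⟩
    have h1 := Nat.prime_of_mem_primeFactors hr
    have h2 := Nat.prime_of_mem_primeFactors hs
    rcases h x with hpp | rfl
    · obtain ⟨q, k, hq, hk, hqk⟩ := hpp
      have hq' : q.Prime := Nat.prime_iff.mpr hq
      have hr1 : r = q := (Nat.prime_dvd_prime_iff_eq h1 hq').mp
        (h1.dvd_of_dvd_pow (hqk ▸ hx ▸ dvd_mul_right r s))
      have hs1 : s = q := (Nat.prime_dvd_prime_iff_eq h2 hq').mp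
        (h2.dvd_of_dvd_pow (hqk ▸ hx ▸ dvd_mul_left s r))
      exact hrs (hr1.trans hs1.symm)
    · rw [orderOf_one] at hx
      exact h1.ne_one (Nat.dvd_one.mp ⟨s, hx⟩)

end Cfsg.Agent.S1475
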