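import Cfsg.Statements.S3992
import Mathlib
import Cfsg.Agent.Lib.PrimeGraph.SolvableTriple
import Cfsg.Agent.Lib.MinimalNormal
import Cfsg.Agent.Lib.Primitive62.Basic
import Cfsg.Agent.Lib.Components.GenFitting
import Cfsg.Agent.Lib.Frobenius.FPF

set_option autoImplicit false
open Cfsg

namespace Cfsg.Agent.S3992

/-- In a group whose elements have prime power order, commuting elements of distinct prime
orders do not exist. -/
theorem false_of_commute {G : Type*} [Group G] (hpp : ∀ g : G, g ≠ 1 → IsPrimePow (orderOf g))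
    {a b : G} {p q : ℕ} (hp : p.Prime) (hq : q.Prime) (hne : p ≠ q)
    (ha : orderOf a = p) (hb : orderOf b = q) (hc : Commute a b) : False := by
  have ho : orderOf (a * b) = p * q := by
    rw [hc.orderOf_mul_eq_mul_orderOf_of_coprime (by rw [ha, hb]; exact (Nat.coprime_primes hp hq).2 hne),
      ha, hb]
  have h1 : a * b ≠ 1 := by
    intro h
    rw [h, orderOf_one] at ho
    exact hp.one_lt.ne' (Nat.eq_one_of_mul_eq_one_right ho.symm)
  have h2 := hpp _ h1
  rw [ho] at h2
  obtain ⟨r, k, hr, -, hk⟩ := h2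
  have hr' := hr.nat_prime
  exact hne (((Nat.prime_dvd_prime_iff_eq hp hr').mp (hp.dvd_of_dvd_pow (hk ▸ dvd_mul_right p q))).trans
    ((Nat.prime_dvd_prime_iff_eq hq hr').mp (hq.dvd_of_dvd_pow (hk ▸ dvd_mul_left q p))).symm)

/-- The property passes to quotients. -/
theorem quotient {G : Type*} [Group G] [Finite G] (hpp : ∀ g : G, g ≠ 1 → IsPrimePow (orderOf g))
    (N : Subgroup G) [N.Normal] : ∀ g : G ⧸ N, g ≠ 1 → IsPrimePow (orderOf g) := by
  intro g hg
  obtain ⟨x, rfl⟩ := QuotientGroup.mk'_surjective N g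
  have hx : x ≠ 1 := fun h => hg (by rw [h, map_one])
  exact IsPrimePow.dvd (hpp x hx) (orderOf_map_dvd (QuotientGroup.mk' N) x)
    (fun h => hg (orderOf_eq_one_iff.mp h))

/-- A non-solvable group has order with two distinct prime divisors. -/
theorem exists_prime_ne {H : Type*} [Group H] [Finite H] (hH : ¬ Group.IsSolvable H) (p : ℕ) :
    ∃ q : ℕ, q.Prime ∧ q ∣ Nat.card H ∧ q ≠ p := by
  by_contra hall
  simp only [not_exists, not_and, ne_eq, not_not] at hall
  rcases eq_or_ne (Nat.card H) 1 with h1 | h1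
  · haveI := (Nat.card_eq_one_iff_unique.mp h1).1
    exact hH inferInstance
  obtain ⟨q, hq, hqd⟩ := Nat.exists_prime_and_dvd h1
  haveI := Fact.mk hq
  have hG : IsPGroup q H := IsPGroup.of_card (n := (Nat.card H).primeFactorsList.length)
    (Nat.eq_prime_pow_of_unique_prime_dvd Nat.card_pos.ne'
      fun hd hdd => (hall _ hd hdd).trans (hall q hq hqd).symm)
  haveI := hG.isNilpotent
  exact hH inferInstance


/-- Let G be a finite non-solvable group in which every element has prime-power order, and let R be its largest solvable normal subgroup. Then R is a p-group for some prime p; G/R has a non-abelian simple normal subgroup contained in every nontrivial normal subgroup of G/R (its unique minimal normal subgroup); and the order of every solvable subgroup of G has at most two prime divisors. -/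
theorem result {G : Type*} [Group G] [Finite G] (hns : ¬ Group.IsSolvable G) (hpp : ∀ g : G, g ≠ 1 → IsPrimePow (orderOf g))
    (R : Subgroup G) [R.Normal] (hRs : Group.IsSolvable ↥R) (hRmax : ∀ N : Subgroup G, N.Normal → Group.IsSolvable ↥N → N ≤ R) :
    (∃ p : ℕ, p.Prime ∧ IsPGroup p ↥R) ∧
      (∃ M : Subgroup (G ⧸ R), M.Normal ∧ IsSimpleGroup ↥M ∧ ¬ IsMulCommutative ↥M ∧
        ∀ N : Subgroup (G ⧸ R), N.Normal → N ≠ ⊥ → M ≤ N) ∧
      ∀ H : Subgroup G, Group.IsSolvable ↥H → (Nat.card ↥H).primeFactors.card ≤ 2 := by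
  refine ⟨?_, ?_, ?_⟩
  · -- the radical is a p-group
    by_cases hR : R = ⊥
    · subst hR
      exact ⟨2, Nat.prime_two, IsPGroup.of_bot⟩
    obtain ⟨N, hN, hNne, hNR, hmin⟩ :=
      Cfsg.Agent.Lib.MinimalNormal.exists_minimal_normal_le (M := R) inferInstance hR
    haveI : Group.IsSolvable N := Cfsg.Agent.Lib.Components.isSolvable_subgroup_mono hNR hRs
    obtain ⟨hNab, p, hp, hexp⟩ := Cfsg.Agent.Lib.MinimalNormal.elementaryAbelian N hNne hmin
    haveI := Fact.mk hp
    have hNp : IsPGroup p N := fun x => ⟨1, Subtype.ext (by simpa using hexp _ x.2)⟩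
    refine ⟨p, hp, ?_⟩
    obtain ⟨P, hNP, hPmax⟩ :=
      (Set.toFinite {P : Subgroup G | P.Normal ∧ P ≤ R ∧ IsPGroup p P}).exists_le_maximal
        (a := N) ⟨hN, hNR, hNp⟩
    obtain ⟨hPn, hPR, hPp⟩ := hPmax.1
    by_contra hRp
    haveI : (R.map (QuotientGroup.mk' P)).Normal :=
      Subgroup.Normal.map inferInstance _ (QuotientGroup.mk'_surjective P)
    have hRb : R.map (QuotientGroup.mk' P) ≠ ⊥ := fun h => by
      rw [Subgroup.map_eq_bot_iff, QuotientGroup.ker_mk'] at h
      exact hRp (hPp.to_le h)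
    obtain ⟨Qb, hQb, hQbne, hQbR, hQbmin⟩ :=
      Cfsg.Agent.Lib.MinimalNormal.exists_minimal_normal_le (M := R.map (QuotientGroup.mk' P))
        inferInstance hRb
    haveI : Group.IsSolvable Qb := Cfsg.Agent.Lib.Components.isSolvable_subgroup_mono hQbR
      (Cfsg.Agent.Lib.Components.isSolvable_subgroup_map hRs (QuotientGroup.mk' P))
    obtain ⟨hQbab, q, hq, hQexp⟩ := Cfsg.Agent.Lib.MinimalNormal.elementaryAbelian Qb hQbne hQbmin
    haveI := Fact.mk hq
    set Q := Qb.comap (QuotientGroup.mk' P) with hQdef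
    haveI hQn : Q.Normal := hQb.comap _
    have hQR : Q ≤ R := by
      refine (Subgroup.comap_mono hQbR).trans ?_
      rw [Subgroup.comap_map_eq, QuotientGroup.ker_mk']
      exact sup_le le_rfl hPR
    have hPQ : P ≤ Q := fun x hx => by
      rw [hQdef, Subgroup.mem_comap,
        show QuotientGroup.mk' P x = 1 from (QuotientGroup.eq_one_iff x).mpr hx]
      exact one_mem Qb
    have hqp : q ≠ p := by
      rintro rfl
      have hQp : IsPGroup q Q := IsPGroup.comap_of_ker_isPGroup
        (fun x => ⟨1, Subtype.ext (by simpa using hQexp _ x.2)⟩) _ (by rwa [QuotientGroup.ker_mk'])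
      have h1 : Q ≤ P := hPmax.2 ⟨hQn, hQR, hQp⟩ hPQ
      refine hQbne (eq_bot_iff.mpr fun y hy => ?_)
      obtain ⟨x, rfl⟩ := QuotientGroup.mk'_surjective P y
      exact Subgroup.mem_bot.mpr ((QuotientGroup.eq_one_iff x).mpr (h1 hy))
    obtain ⟨S⟩ : Nonempty (Sylow q Q) := inferInstance
    set Q0 : Subgroup G := (S : Subgroup Q).map Q.subtype with hQ0
    have hQ0q : IsPGroup q Q0 := S.isPGroup'.map _
    have hQ0Q : Q0 ≤ Q := Subgroup.map_subtype_le _
    have hdisj : ∀ x ∈ Q0, x ∈ P → x = 1 := fun x h1 h2 =>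
      (Subgroup.mem_bot).mp (Disjoint.le_bot (IsPGroup.disjoint_of_ne q p hqp _ _ hQ0q hPp) ⟨h1, h2⟩)
    have hinj : ∀ x ∈ Q0, ∀ y ∈ Q0, (QuotientGroup.mk' P) x = QuotientGroup.mk' P y → x = y := by
      intro x hx y hy h
      have : x⁻¹ * y ∈ P := by
        rw [← QuotientGroup.eq_one_iff (N := P)]
        show QuotientGroup.mk' P (x⁻¹ * y) = 1
        rw [map_mul, map_inv, h, inv_mul_cancel]
      exact inv_mul_eq_one.mp (hdisj _ (mul_mem (inv_mem hx) hy) this)
    have hcomm : ∀ a b : Q0, Commute a b := fun a b => Subtype.ext (hinj _ (mul_mem a.2 b.2) _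
      (mul_mem b.2 a.2) (by
        show QuotientGroup.mk' P ((a : G) * b) = QuotientGroup.mk' P ((b : G) * a)
        rw [map_mul, map_mul]
        exact congrArg Subtype.val (hQbab.is_comm.comm ⟨_, hQ0Q a.2⟩ ⟨_, hQ0Q b.2⟩)))
    have hexp0 : ∀ a : Q0, a ^ q = 1 := fun a => Subtype.ext (hinj _ (Q0.pow_mem a.2 q) _ Q0.one_mem
      (by show QuotientGroup.mk' P ((a : G) ^ q) = QuotientGroup.mk' P 1; rw [map_pow, map_one]; exact hQexp _ (hQ0Q a.2)))
    have hQ0ne : Q0 ≠ ⊥ := by
      rw [hQ0, Ne, Subgroup.map_eq_bot_iff_of_injective _ Q.subtype_injective]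
      refine S.ne_bot_of_dvd_card ?_
      obtain ⟨y, hy⟩ := (Subgroup.ne_bot_iff_exists_ne_one.mp hQbne)
      have ho : orderOf y = q := orderOf_eq_prime (Subtype.ext (by simpa using hQexp _ y.2)) hy
      exact (ho ▸ orderOf_dvd_natCard y).trans (Subgroup.card_dvd_of_surjective
        ((QuotientGroup.mk' P).subgroupComap Qb)
        ((QuotientGroup.mk' P).subgroupComap_surjective_of_surjective Qb
          (QuotientGroup.mk'_surjective P)))
    letI : CommGroup N :=
      { (inferInstance : Group N) with mul_comm := fun a b => hNab.is_comm.comm a b }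
    have hnorm : Q0 ≤ Subgroup.normalizer (N : Set G) := by
      rw [Subgroup.normalizer_eq_top_iff.mpr hN]; exact le_top
    haveI : Nontrivial N := N.nontrivial_iff_ne_bot.mpr hNne
    letI := Cfsg.Agent.Lib.Frobenius.FPF.conjAction Q0 N hnorm
    have hfpf : Cfsg.Agent.Lib.Frobenius.FPF.IsFPF Q0 N := by
      refine Cfsg.Agent.Lib.Frobenius.FPF.isFPF_conjAction Q0 N hnorm fun a ha ha1 => ?_
      rw [eq_bot_iff]
      rintro v ⟨hv, hvc⟩
      rw [Subgroup.mem_bot]
      by_contra hv1
      exact Cfsg.Agent.S3992.false_of_commute hpp hp hq hqp.symm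
        (orderOf_eq_prime (hexp v hv) hv1)
        (orderOf_eq_prime (congrArg Subtype.val (hexp0 ⟨a, ha⟩)) ha1)
        (Subgroup.mem_centralizer_singleton_iff.mp hvc)
    haveI : IsCyclic Q0 := Cfsg.Agent.Lib.Frobenius.FPF.isCyclic_of_commute hfpf hcomm
    haveI : Nontrivial Q0 := Q0.nontrivial_iff_ne_bot.mpr hQ0ne
    obtain ⟨z, hz⟩ := IsCyclic.exists_generator (α := Q0)
    have hz1 : z ≠ 1 := by
      rintro rfl
      obtain ⟨w, hw⟩ := exists_ne (1 : Q0)
      obtain ⟨i, hi⟩ := hz w
      exact hw (by simpa using hi.symm)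
    have hzo : orderOf (z : G) = q := by
      rw [Subgroup.orderOf_coe]; exact orderOf_eq_prime (hexp0 z) hz1
    have hC : IsPGroup q (Subgroup.centralizer (Q0 : Set G)) := by
      refine IsPGroup.iff_orderOf.mpr fun c => ?_
      refine ⟨(orderOf c).primeFactorsList.length,
        Nat.eq_prime_pow_of_unique_prime_dvd (orderOf_pos c).ne' fun {r} hr hrd => ?_⟩
      by_contra hrq
      have hd : r ∣ orderOf (c : G) := by rwa [Subgroup.orderOf_coe]
      exact Cfsg.Agent.S3992.false_of_commute hpp hr hq hrq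
        (orderOf_pow_orderOf_div (orderOf_pos (c : G)).ne' hd) hzo
        (Commute.pow_left (Subgroup.mem_centralizer_iff.mp c.2 _ z.2).symm _)
    haveI hNs : Group.IsSolvable (Subgroup.normalizer (Q0 : Set G)) := by
      haveI : Group.IsSolvable (Subgroup.centralizer (Q0 : Set G)) := by
        haveI := hC.isNilpotent
        infer_instance
      haveI : IsMulCommutative (MulAut Q0) := ⟨⟨fun a b => MulEquiv.ext fun x => by
        obtain ⟨i, rfl⟩ := hz x
        obtain ⟨m, hm⟩ := hz (a z)
        obtain ⟨n, hn⟩ := hz (b z)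
        simp only [MulAut.mul_apply, map_zpow, ← hm, ← hn, ← zpow_mul, mul_comm m n]⟩⟩
      letI : CommGroup (MulAut Q0) :=
        { (inferInstance : Group (MulAut Q0)) with mul_comm := fun a b => mul_comm' a b }
      haveI : Group.IsSolvable ((Subgroup.centralizer (Q0 : Set G)).subgroupOf
          (Subgroup.normalizer (Q0 : Set G))) :=
        Cfsg.Agent.Lib.Components.isSolvable_subgroupOf inferInstance
      refine Group.isSolvable_of_ker_le_range
        ((Subgroup.centralizer (Q0 : Set G)).subgroupOf (Subgroup.normalizer (Q0 : Set G))).subtype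
        Q0.normalizerMonoidHom ?_
      rw [Subgroup.normalizerMonoidHom_ker, Subgroup.range_subtype]
    have htop : Subgroup.normalizer (Q0 : Set G) ⊔ Q = ⊤ := Sylow.normalizer_sup_eq_top S
    have hQs : Group.IsSolvable Q := Cfsg.Agent.Lib.Components.isSolvable_subgroup_mono hQR hRs
    have hall := Cfsg.Agent.Lib.Components.isSolvable_sup (H := Q)
      (K := Subgroup.normalizer (Q0 : Set G))
      (by rw [Subgroup.normalizer_eq_top_iff.mpr hQn]; exact le_top) hQs hNs
    rw [sup_comm, htop] at hall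
    exact hns (Group.isSolvable_of_surjective
      (f := (⊤ : Subgroup G).subtype) (fun x => ⟨⟨x, trivial⟩, rfl⟩))
  · -- the unique minimal normal subgroup of the quotient
    have hpp' := Cfsg.Agent.S3992.quotient hpp R
    have hnsq : ¬ Group.IsSolvable (G ⧸ R) := fun hs => hns (Group.isSolvable_of_ker_le_range R.subtype
      (QuotientGroup.mk' R) (by rw [QuotientGroup.ker_mk', Subgroup.range_subtype]))
    have hrad : ∀ N : Subgroup (G ⧸ R), N.Normal → N ≠ ⊥ → ¬ Group.IsSolvable N := by
      intro N hN hNne hNs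
      have hsolv : Group.IsSolvable (N.comap (QuotientGroup.mk' R)) := by
        have hle : R ≤ N.comap (QuotientGroup.mk' R) := fun x hx => by
          rw [Subgroup.mem_comap,
            show QuotientGroup.mk' R x = 1 from (QuotientGroup.eq_one_iff x).mpr hx]
          exact one_mem N
        refine Group.isSolvable_of_ker_le_range (Subgroup.inclusion hle)
          ((QuotientGroup.mk' R).subgroupComap N) fun x hx => ?_
        refine ⟨⟨x, (QuotientGroup.eq_one_iff (x : G)).mp (congrArg Subtype.val hx)⟩, rfl⟩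
      refine hNne (eq_bot_iff.mpr fun y hy => ?_)
      obtain ⟨x, rfl⟩ := QuotientGroup.mk'_surjective R y
      exact Subgroup.mem_bot.mpr ((QuotientGroup.eq_one_iff x).mpr (hRmax _ (hN.comap _) hsolv hy))
    haveI : Nontrivial (G ⧸ R) := by
      by_contra h
      rw [not_nontrivial_iff_subsingleton] at h
      exact hnsq inferInstance
    obtain ⟨M, hM, hMne, -, hmin⟩ := Cfsg.Agent.Lib.MinimalNormal.exists_minimal_normal_le
      (M := (⊤ : Subgroup (G ⧸ R))) inferInstance top_ne_bot
    have hMns := hrad M hM hMne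
    rcases Cfsg.Agent.Lib.Primitive62.minimal_normal_cases M hMne hmin with ⟨hab, -⟩ |
      ⟨S, iS, iSs, iSf, k, hk, hS, ⟨e⟩⟩
    · exact (hMns (Group.isSolvable_of_comm fun a b => mul_comm' a b)).elim
    have hSns : ¬ Group.IsSolvable S := fun h => hS (IsMulCommutative.of_comm
      ((IsSimpleGroup.comm_iff_isSolvable).mpr h))
    have hk1 : k = 1 := by
      by_contra hk1
      obtain ⟨i, j, hij⟩ : ∃ i j : Fin k, i ≠ j :=
        ⟨⟨0, by omega⟩, ⟨1, by omega⟩, fun h => by simp at h⟩
      obtain ⟨p, hp, hpd, -⟩ := Cfsg.Agent.S3992.exists_prime_ne hSns 0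
      obtain ⟨q, hq, hqd, hqp⟩ := Cfsg.Agent.S3992.exists_prime_ne hSns p
      haveI := Fact.mk hp
      haveI := Fact.mk hq
      obtain ⟨a, ha⟩ := exists_prime_orderOf_dvd_card' p hpd
      obtain ⟨b, hb⟩ := exists_prime_orderOf_dvd_card' q hqd
      classical
      let f : Fin k → (S →* G ⧸ R) := fun l =>
        M.subtype.comp (e.symm.toMonoidHom.comp (MonoidHom.mulSingle (fun _ => S) l))
      have hf : ∀ l, Function.Injective (f l) := fun l =>
        M.subtype_injective.comp (e.symm.injective.comp (Pi.mulSingle_injective (M := fun _ : Fin k => S) l))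
      refine Cfsg.Agent.S3992.false_of_commute hpp' hp hq hqp.symm (a := f i a) (b := f j b) ?_ ?_ ?_
      · rw [orderOf_injective _ (hf i), ha]
      · rw [orderOf_injective _ (hf j), hb]
      · exact ((Pi.mulSingle_commute hij a b).map e.symm.toMonoidHom).map M.subtype
    subst hk1
    refine ⟨M, hM, ?_, ?_, ?_⟩
    · haveI := iSs
      exact (e.trans (MulEquiv.funUnique (Fin 1) S)).isSimpleGroup
    · exact fun hab => hMns (Group.isSolvable_of_comm fun a b => mul_comm' a b)
    intro N hN hNne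
    obtain ⟨M', hM', hM'ne, hM'N, hmin'⟩ :=
      Cfsg.Agent.Lib.MinimalNormal.exists_minimal_normal_le (M := N) hN hNne
    by_cases hMM : M ≤ M'
    · exact hMM.trans hM'N
    exfalso
    have hinf : Disjoint M M' := by
      rcases hmin (M ⊓ M') inferInstance inf_le_left with h | h
      · exact disjoint_iff.mpr h
      · exact absurd (inf_eq_left.mp h) hMM
    obtain ⟨p, hp, hpd, -⟩ := Cfsg.Agent.S3992.exists_prime_ne hMns 0
    obtain ⟨q, hq, hqd, hqp⟩ := Cfsg.Agent.S3992.exists_prime_ne (hrad M' hM' hM'ne) p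
    haveI := Fact.mk hp
    haveI := Fact.mk hq
    obtain ⟨a, ha⟩ := exists_prime_orderOf_dvd_card' (G := M) p hpd
    obtain ⟨b, hb⟩ := exists_prime_orderOf_dvd_card' (G := M') q hqd
    exact Cfsg.Agent.S3992.false_of_commute hpp' hp hq hqp.symm
      (by rw [Subgroup.orderOf_coe, ha]) (by rw [Subgroup.orderOf_coe, hb])
      (Subgroup.commute_of_normal_of_disjoint M M' hM hM' hinf _ _ a.2 b.2)
  · intro H hH
    by_contra hcard
    push Not at hcard
    obtain ⟨p, q, r, hp, hq, hr, hpq, hpr, hqr⟩ := Finset.two_lt_card_iff.mp hcard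
    rw [Nat.mem_primeFactors] at hp hq hr
    have key : ∀ (x : H) (a b : ℕ), a.Prime → b.Prime → a ≠ b → orderOf x = a * b → False := by
      intro x a b ha hb hab hx
      have hpow : ∀ c, c.Prime → c ∣ orderOf (x : G) →
          orderOf ((x : G) ^ (orderOf (x : G) / c)) = c := fun c _ hd =>
        orderOf_pow_orderOf_div (orderOf_pos _).ne' hd
      have hx' : orderOf (x : G) = a * b := by rw [Subgroup.orderOf_coe, hx]
      exact Cfsg.Agent.S3992.false_of_commute hpp ha hb hab (hpow a ha (hx' ▸ dvd_mul_right a b))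
        (hpow b hb (hx' ▸ dvd_mul_left b a)) (Commute.pow_pow_self _ _ _)
    rcases Cfsg.Agent.Lib.PrimeGraph.solvable_triple hp.1 hq.1 hr.1 hpq hpr hqr _ H rfl hH hp.2.1
      hq.2.1 hr.2.1 with ⟨x, hx⟩ | ⟨x, hx⟩ | ⟨x, hx⟩
    exacts [key x _ _ hp.1 hq.1 hpq hx, key x _ _ hp.1 hr.1 hpr hx, key x _ _ hq.1 hr.1 hqr hx]

end Cfsg.Agent.S3992
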