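-- Proof of statement S0254: PSL_2(9) ≅ A_6, through the ten 3|3 partitions of six letters.
import Cfsg.Statements.S0254
import Mathlib
import Cfsg.Agent.Lib.LinGroup.Simple
import Cfsg.Agent.Lib.LinGroup.ProjLine
import Cfsg.Agent.Lib.SL2.Basic

set_option autoImplicit false
open Cfsg

namespace Cfsg.Agent.S0254

open Matrix

/-- The field with nine elements, as `a + b i`. -/
structure Nine where
  /-- Real part. -/
  re : ZMod 3
  /-- Imaginary part. -/
  im : ZMod 3
deriving DecidableEq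

/-- `Nine` as a product. -/
def nineEquiv : Nine ≃ ZMod 3 × ZMod 3 :=
  ⟨fun x => (x.re, x.im), fun x => ⟨x.1, x.2⟩, fun _ => rfl, fun _ => rfl⟩

instance : Fintype Nine := Fintype.ofEquiv _ nineEquiv.symm
instance : Zero Nine := ⟨⟨0, 0⟩⟩
instance : One Nine := ⟨⟨1, 0⟩⟩
instance : Add Nine := ⟨fun x y => ⟨x.re + y.re, x.im + y.im⟩⟩
instance : Neg Nine := ⟨fun x => ⟨-x.re, -x.im⟩⟩
instance : Mul Nine := ⟨fun x y => ⟨x.re * y.re - x.im * y.im, x.re * y.im + x.im * y.re⟩⟩
instance : Inv Nine :=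
  ⟨fun x => ⟨x.re * (x.re * x.re + x.im * x.im), -x.im * (x.re * x.re + x.im * x.im)⟩⟩

instance instFieldNine : Field Nine :=
  Field.ofMinimalAxioms Nine (by decide +kernel) (by decide +kernel) (by decide +kernel)
    (by decide +kernel) (by decide +kernel) (by decide +kernel) (by decide +kernel)
    (by decide +kernel) (by decide +kernel) ⟨0, 1, by decide⟩

theorem card_nine : Fintype.card Nine = 9 := by
  rw [Fintype.card_congr nineEquiv, Fintype.card_prod, ZMod.card]

/-- The number of a field element. -/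
def nineIdx (x : Nine) : Fin 9 :=
  ⟨3 * x.re.val + x.im.val, by
    have := ZMod.val_lt x.re; have := ZMod.val_lt x.im; omega⟩

/-- The point of the projective line spanned by a vector. -/
def ptIdx (w : Fin 2 → Nine) : Fin 10 :=
  if w 1 = 0 then 9 else (nineIdx (w 0 * (w 1)⁻¹)).castSucc

/-- A representative of a point. -/
def ptRep (k : Fin 10) : Fin 2 → Nine :=
  if k = 9 then ![1, 0] else ![⟨((k.val / 3 : ℕ) : ZMod 3), ((k.val % 3 : ℕ) : ZMod 3)⟩, 1]

theorem ptIdx_ptRep : ∀ k, ptIdx (ptRep k) = k := by decide +kernel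

theorem exists_scalar : ∀ a b : Nine, (a ≠ 0 ∨ b ≠ 0) →
    ∃ c : Nine, c ≠ 0 ∧ ![a, b] = c • ptRep (ptIdx ![a, b]) := by decide +kernel

theorem ptIdx_scale : ∀ c a b : Nine, c ≠ 0 → ptIdx (c • ![a, b]) = ptIdx ![a, b] := by
  decide +kernel

/-- The action of a matrix on the ten points. -/
def ptMap (g : Matrix.SpecialLinearGroup (Fin 2) Nine) (k : Fin 10) : Fin 10 :=
  ptIdx ((g : Matrix (Fin 2) (Fin 2) Nine) *ᵥ ptRep k)

theorem ptRep_ne_zero : ∀ k, ptRep k 0 ≠ 0 ∨ ptRep k 1 ≠ 0 := by decide +kernel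

theorem ptMap_mul (g h : Matrix.SpecialLinearGroup (Fin 2) Nine) (k : Fin 10) :
    ptMap (g * h) k = ptMap g (ptMap h k) := by
  have eta : ∀ u : Fin 2 → Nine, u = ![u 0, u 1] := fun u => by
    ext i <;> fin_cases i <;> simp
  set w := (h : Matrix (Fin 2) (Fin 2) Nine) *ᵥ ptRep k with hw
  have hw0 : w 0 ≠ 0 ∨ w 1 ≠ 0 := by
    by_contra hc
    push Not at hc
    have h0 : w = 0 := by funext i; fin_cases i <;> simp [hc.1, hc.2]
    have hk : ptRep k = 0 := Matrix.eq_zero_of_mulVec_eq_zero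
      (by rw [h.det_coe]; exact one_ne_zero) (hw ▸ h0)
    rcases ptRep_ne_zero k with e | e <;> simp [hk] at e
  obtain ⟨c, hc, hcw⟩ := exists_scalar (w 0) (w 1) hw0
  rw [← eta w] at hcw
  have key : ptMap (g * h) k = ptIdx ((g : Matrix (Fin 2) (Fin 2) Nine) *ᵥ w) := by
    show ptIdx (((g : Matrix (Fin 2) (Fin 2) Nine) * (h : Matrix (Fin 2) (Fin 2) Nine)) *ᵥ
      ptRep k) = _
    rw [← mulVec_mulVec]
  rw [key, hcw, mulVec_smul, eta ((g : Matrix (Fin 2) (Fin 2) Nine) *ᵥ ptRep (ptIdx w)),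
    ptIdx_scale _ _ _ hc, ← eta]
  rfl

theorem ptMap_one (k : Fin 10) : ptMap 1 k = k := by simp [ptMap, ptIdx_ptRep]

/-- The ten partitions of six letters into two triples, indexed by the points. -/
def partCol : Fin 10 → Fin 6 → Fin 2 :=
  ![![1, 1, 1, 0, 0, 0],
    ![1, 1, 0, 1, 0, 0],
    ![1, 1, 0, 0, 1, 0],
    ![1, 0, 1, 0, 0, 1],
    ![1, 0, 0, 1, 0, 1],
    ![1, 0, 0, 0, 1, 1],
    ![1, 0, 0, 1, 1, 0],
    ![1, 0, 1, 0, 1, 0],
    ![1, 0, 1, 1, 0, 0],
    ![1, 1, 0, 0, 0, 1]]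

/-- Whether two letters lie in the same triple. -/
def sameSide (k : Fin 10) (a b : Fin 6) : Bool := partCol k a == partCol k b

/-- The pairs `(g, π)` inducing the same map on the ten partitions. -/
def compat : Subgroup (Matrix.SpecialLinearGroup (Fin 2) Nine × Equiv.Perm (Fin 6)) where
  carrier := {x | ∀ k a b, sameSide (ptMap x.1 k) (x.2 a) (x.2 b) = sameSide k a b}
  one_mem' := by intro k a b; simp [ptMap_one]
  mul_mem' {x y} hx hy := by
    intro k a b
    rw [Prod.fst_mul, Prod.snd_mul, ptMap_mul, Equiv.Perm.mul_apply, Equiv.Perm.mul_apply, hx, hy]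
  inv_mem' {x} hx := by
    intro k a b
    have h := hx (ptMap x.1⁻¹ k) (x.2⁻¹ a) (x.2⁻¹ b)
    rw [← ptMap_mul, mul_inv_cancel, ptMap_one, Equiv.Perm.coe_inv, Equiv.apply_symm_apply,
      Equiv.apply_symm_apply] at h
    rw [Prod.fst_inv, Prod.snd_inv, Equiv.Perm.coe_inv, h]

/-- Images of the transvections. -/
def imgList : Fin 2 → Fin 9 → Fin 6 → Fin 6 :=
  ![![![0, 1, 2, 3, 4, 5],
      ![0, 1, 3, 4, 2, 5],
      ![0, 1, 4, 2, 3, 5],
      ![5, 0, 2, 3, 4, 1],
      ![5, 0, 3, 4, 2, 1],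
      ![5, 0, 4, 2, 3, 1],
      ![1, 5, 2, 3, 4, 0],
      ![1, 5, 3, 4, 2, 0],
      ![1, 5, 4, 2, 3, 0]],
    ![![0, 1, 2, 3, 4, 5],
      ![0, 1, 2, 5, 3, 4],
      ![0, 1, 2, 4, 5, 3],
      ![2, 0, 1, 3, 4, 5],
      ![2, 0, 1, 5, 3, 4],
      ![2, 0, 1, 4, 5, 3],
      ![1, 2, 0, 3, 4, 5],
      ![1, 2, 0, 5, 3, 4],
      ![1, 2, 0, 4, 5, 3]]]

/-- Their inverses. -/
def imgListInv : Fin 2 → Fin 9 → Fin 6 → Fin 6 :=
  ![![![0, 1, 2, 3, 4, 5],
      ![0, 1, 4, 2, 3, 5],
      ![0, 1, 3, 4, 2, 5],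
      ![1, 5, 2, 3, 4, 0],
      ![1, 5, 4, 2, 3, 0],
      ![1, 5, 3, 4, 2, 0],
      ![5, 0, 2, 3, 4, 1],
      ![5, 0, 4, 2, 3, 1],
      ![5, 0, 3, 4, 2, 1]],
    ![![0, 1, 2, 3, 4, 5],
      ![0, 1, 2, 4, 5, 3],
      ![0, 1, 2, 5, 3, 4],
      ![1, 2, 0, 3, 4, 5],
      ![1, 2, 0, 4, 5, 3],
      ![1, 2, 0, 5, 3, 4],
      ![2, 0, 1, 3, 4, 5],
      ![2, 0, 1, 4, 5, 3],
      ![2, 0, 1, 5, 3, 4]]]

theorem imgList_left : ∀ i c a, imgListInv i c (imgList i c a) = a := by decide +kernel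
theorem imgList_right : ∀ i c a, imgList i c (imgListInv i c a) = a := by decide +kernel

/-- The permutation attached to a transvection. -/
def imgPerm (i : Fin 2) (c : Nine) : Equiv.Perm (Fin 6) :=
  ⟨imgList i (nineIdx c), imgListInv i (nineIdx c), imgList_left i _, imgList_right i _⟩

theorem imgList_spec : ∀ (i j : Fin 2) (c : Nine) (k : Fin 10) (a b : Fin 6), i ≠ j →
    sameSide (ptIdx (Matrix.transvection i j c *ᵥ ptRep k))
      (imgList i (nineIdx c) a) (imgList i (nineIdx c) b) = sameSide k a b := by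
  decide +kernel

theorem exists_compat (g : Matrix.SpecialLinearGroup (Fin 2) Nine) :
    ∃ π : Equiv.Perm (Fin 6), (g, π) ∈ compat := by
  induction g using Lib.LinGroup.SL_transvection_induction with
  | h1 => exact ⟨1, Subgroup.one_mem _⟩
  | hmul A B hA hB =>
    obtain ⟨a, ha⟩ := hA
    obtain ⟨b, hb⟩ := hB
    refine ⟨a * b, ?_⟩
    rw [← Prod.mk_mul_mk]
    exact Subgroup.mul_mem compat ha hb
  | ht i j h c =>
    refine ⟨imgPerm i c, fun k a b => ?_⟩
    show sameSide (ptIdx (((SpecialLinearGroup.transvection h c :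
      Matrix.SpecialLinearGroup (Fin 2) Nine) : Matrix (Fin 2) (Fin 2) Nine) *ᵥ ptRep k)) _ _ = _
    rw [Lib.LinGroup.coe_transvection]
    exact imgList_spec i j c k a b h

/-- The letters are separated by the partitions. -/
theorem sameSide_count : ∀ a b c d : Fin 6, a ≠ b → c ≠ d →
    (∀ k, sameSide k a b = sameSide k c d) → (a = c ∧ b = d) ∨ (a = d ∧ b = c) := by
  decide +kernel

theorem compat_unique {π : Equiv.Perm (Fin 6)}
    (h : ((1 : Matrix.SpecialLinearGroup (Fin 2) Nine), π) ∈ compat) : π = 1 := by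
  have h' : ∀ k a b, sameSide k (π a) (π b) = sameSide k a b := fun k a b => by
    simpa [ptMap_one] using h k a b
  ext a
  obtain ⟨l, hla, hl⟩ : ∃ l, l ≠ a ∧ π a ≠ l := by
    have : ∀ a x : Fin 6, ∃ l, l ≠ a ∧ x ≠ l := by decide
    exact this a (π a)
  rcases sameSide_count (π a) (π l) a l (π.injective.ne hla.symm) hla.symm
      (fun k => h' k a l) with ⟨e, -⟩ | ⟨e, -⟩
  · rw [Equiv.Perm.one_apply, e]
  · exact absurd e hl

/-- The action of `SL_2(9)` on six letters. -/
noncomputable def toPerm : Matrix.SpecialLinearGroup (Fin 2) Nine →* Equiv.Perm (Fin 6) :=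
  MonoidHom.mk' (fun g => (exists_compat g).choose) fun a b => by
    have h := Subgroup.mul_mem compat
      (Subgroup.inv_mem compat (exists_compat (a * b)).choose_spec)
      (Subgroup.mul_mem compat (exists_compat a).choose_spec (exists_compat b).choose_spec)
    rw [Prod.inv_mk, Prod.mk_mul_mk, Prod.mk_mul_mk, inv_mul_cancel] at h
    exact inv_mul_eq_one.1 (compat_unique h)

theorem toPerm_eq {g : Matrix.SpecialLinearGroup (Fin 2) Nine} {π : Equiv.Perm (Fin 6)}
    (h : (g, π) ∈ compat) : toPerm g = π := by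
  have hs : (g, toPerm g) ∈ compat := (exists_compat g).choose_spec
  have := Subgroup.mul_mem compat (Subgroup.inv_mem compat hs) h
  rw [Prod.inv_mk, Prod.mk_mul_mk, inv_mul_cancel] at this
  exact inv_mul_eq_one.1 (compat_unique this)

theorem center_le_ker :
    Subgroup.center (Matrix.SpecialLinearGroup (Fin 2) Nine) ≤ toPerm.ker := by
  intro z hz
  rw [MonoidHom.mem_ker]
  rcases (Lib.SL2.mem_center_iff_eq z).1 hz with rfl | rfl
  · exact map_one _
  · have hneg : ∀ k : Fin 10,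
        ptIdx ((-1 : Matrix (Fin 2) (Fin 2) Nine) *ᵥ ptRep k) = k := by decide +kernel
    refine toPerm_eq fun k a b => ?_
    have hp : ptMap (-1) k = k := by
      show ptIdx ((-1 : Matrix (Fin 2) (Fin 2) Nine) *ᵥ ptRep k) = k
      exact hneg k
    simp [hp]

theorem nonempty_equiv_nine :
    Nonempty (Matrix.ProjectiveSpecialLinearGroup (Fin 2) Nine ≃* alternatingGroup (Fin 6)) := by
  let f : Matrix.ProjectiveSpecialLinearGroup (Fin 2) Nine →* Equiv.Perm (Fin 6) :=
    QuotientGroup.lift _ toPerm center_le_ker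
  have hs := Matrix.ProjectiveSpecialLinearGroup.rank_two_simple (F := Nine)
    (by rw [Nat.card_eq_fintype_card, card_nine]; norm_num)
  have hinj : Function.Injective f := by
    rw [← MonoidHom.ker_eq_bot_iff]
    refine (f.normal_ker.eq_bot_or_eq_top).resolve_right fun htop => ?_
    let t : Matrix.SpecialLinearGroup (Fin 2) Nine :=
      SpecialLinearGroup.transvection (zero_ne_one : (0 : Fin 2) ≠ 1) 1
    have h1 : f (QuotientGroup.mk t) = 1 := MonoidHom.mem_ker.1 (htop ▸ Subgroup.mem_top _)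
    change toPerm t = 1 at h1
    have himg : toPerm t = imgPerm 0 1 := toPerm_eq fun k a b => by
      show sameSide (ptIdx ((t : Matrix (Fin 2) (Fin 2) Nine) *ᵥ ptRep k)) _ _ = _
      rw [Lib.LinGroup.coe_transvection]
      exact imgList_spec 0 1 1 k a b zero_ne_one
    rw [himg] at h1
    have h2 := congrArg (fun π : Equiv.Perm (Fin 6) => π 0) h1
    change imgList 0 (nineIdx 1) 0 = 0 at h2
    revert h2
    decide +kernel
  letI : MulAction (Matrix.ProjectiveSpecialLinearGroup (Fin 2) Nine) (Fin 6) :=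
    MulAction.compHom _ f
  haveI : FaithfulSMul (Matrix.ProjectiveSpecialLinearGroup (Fin 2) Nine) (Fin 6) :=
    ⟨fun h => hinj (Equiv.ext h)⟩
  have h1 := Lib.LinGroup.card_PSL_two_mul (F := Nine)
  rw [card_nine] at h1
  norm_num [-Nat.card_eq_fintype_card] at h1
  exact Lib.LinGroup.nonempty_mulEquiv_alternating (α := Fin 6) (k := 6) (by simp)
    (by simp only [Nat.factorial]; omega)

/-- PSL_2(9) is isomorphic to A_6. -/
theorem result {F : Type*} [Field F] [Fintype F] (hF : Fintype.card F = 9) : Nonempty (Matrix.ProjectiveSpecialLinearGroup (Fin 2) F ≃* alternatingGroup (Fin 6)) := by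
  have he : Nonempty (F ≃+* Nine) := ⟨FiniteField.ringEquivOfCardEq (hF.trans card_nine.symm)⟩
  obtain ⟨f⟩ := he
  obtain ⟨e⟩ := nonempty_equiv_nine
  let g : Matrix.SpecialLinearGroup (Fin 2) F ≃* Matrix.SpecialLinearGroup (Fin 2) Nine :=
    { toFun := Matrix.SpecialLinearGroup.map f.toRingHom
      invFun := Matrix.SpecialLinearGroup.map f.symm.toRingHom
      left_inv := fun a => Subtype.ext (by ext <;> simp)
      right_inv := fun a => Subtype.ext (by ext <;> simp)
      map_mul' := map_mul _ }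
  have hg : (Subgroup.center (Matrix.SpecialLinearGroup (Fin 2) F)).map g.toMonoidHom =
      Subgroup.center (Matrix.SpecialLinearGroup (Fin 2) Nine) := by
    ext x
    rw [Subgroup.mem_map_equiv, Subgroup.mem_center_iff, Subgroup.mem_center_iff]
    constructor
    · intro h y
      simpa using congrArg g (h (g.symm y))
    · intro h y
      simpa using congrArg g.symm (h (g y))
  exact ⟨(QuotientGroup.congr _ _ g hg).trans e⟩

end Cfsg.Agent.S0254
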