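import Cfsg.Statements.S0198
import Cfsg.Agent.Lib.Chars.Ops
import Cfsg.Agent.Lib.Chars.Completeness

set_option autoImplicit false
open Cfsg

namespace Cfsg.Agent.S0198

open Cfsg.Agent.Lib

/-- A generalized character of norm two vanishing at the identity is a difference of two
irreducible characters. -/
theorem exists_sub_of_norm_two {G : Type*} [Group G] [Fintype G] {t : G → ℂ}
    (h : Cfsg.IsGeneralizedCharacter G t) (h1 : t 1 = 0) (h2 : Cfsg.classInner t t = 2) :
    ∃ a b : Cfsg.IrrCharacter G, a ≠ b ∧ t = (a : G → ℂ) - (b : G → ℂ) := by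
  classical
  have hcl := Chars.isClassFunction_of_isGeneralizedCharacter h
  choose m hm using fun χ : Cfsg.IrrCharacter G => Chars.isGeneralizedCharacter_classInner_int h
    (Chars.isGeneralizedCharacter_of_isCharacter (Chars.irr_isCharacter χ))
  choose d hd0 hd using fun χ : Cfsg.IrrCharacter G => Chars.isIrrCharacter_exists_degree_pos χ.2
  have hexp := Chars.isClassFunction_eq_sum_classInner hcl
  rw [Chars.classInner_eq_sum_mul_conj hcl hcl] at h2
  simp only [hm, map_intCast] at h2 hexp
  have hsq : ∑ χ, m χ * m χ = 2 := by exact_mod_cast h2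
  have hdeg : ∑ χ, m χ * (d χ : ℤ) = 0 := by
    have := congrFun hexp 1
    simp only [h1, Finset.sum_apply, Pi.smul_apply, smul_eq_mul, hd] at this
    exact_mod_cast this.symm
  set S := Finset.univ.filter fun χ => m χ ≠ 0 with hS
  have hsqS : ∑ χ ∈ S, m χ * m χ = 2 := by
    rw [← hsq]
    exact Finset.sum_subset (Finset.subset_univ _) fun χ _ hχ => by
      simp only [hS, Finset.mem_filter, Finset.mem_univ, true_and, not_not] at hχ
      simp [hχ]
  have hdegS : ∑ χ ∈ S, m χ * (d χ : ℤ) = 0 := by
    rw [← hdeg]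
    exact Finset.sum_subset (Finset.subset_univ _) fun χ _ hχ => by
      simp only [hS, Finset.mem_filter, Finset.mem_univ, true_and, not_not] at hχ
      simp [hχ]
  have hbound : ∀ χ ∈ S, 1 ≤ m χ * m χ := fun χ hχ => by
    have := (Finset.mem_filter.mp hχ).2
    have : 0 < m χ * m χ := mul_self_pos.mpr this
    omega
  have hcard : S.card ≤ 2 := by
    have := Finset.card_nsmul_le_sum S (fun χ => m χ * m χ) 1 hbound
    rw [hsqS] at this
    simp only [nsmul_eq_mul, mul_one] at this
    exact_mod_cast this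
  have hexpS : t = ∑ χ ∈ S, (m χ : ℂ) • (χ : G → ℂ) := by
    rw [hexp]
    exact (Finset.sum_subset (Finset.subset_univ _) fun χ _ hχ => by
      simp only [hS, Finset.mem_filter, Finset.mem_univ, true_and, not_not] at hχ
      simp [hχ]).symm
  interval_cases hc : S.card
  · rw [Finset.card_eq_zero.mp hc, Finset.sum_empty] at hsqS
    exact absurd hsqS (by norm_num)
  · obtain ⟨x, hx⟩ := Finset.card_eq_one.mp hc
    rw [hx, Finset.sum_singleton] at hdegS
    have hxS : x ∈ S := by rw [hx]; simp
    rcases mul_eq_zero.mp hdegS with h' | h'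
    · exact absurd h' (Finset.mem_filter.mp hxS).2
    · exact absurd h' (by exact_mod_cast (hd0 x).ne')
  · obtain ⟨x, y, hxy, hS2⟩ := Finset.card_eq_two.mp hc
    rw [hS2, Finset.sum_pair hxy] at hsqS hdegS hexpS
    have hx := hbound x (by rw [hS2]; simp)
    have hy := hbound y (by rw [hS2]; simp)
    have hxd : (0 : ℤ) < d x := by exact_mod_cast hd0 x
    have hyd : (0 : ℤ) < d y := by exact_mod_cast hd0 y
    rcases mul_self_eq_one_iff.mp (show m x * m x = 1 by omega) with e | e <;>
      rcases mul_self_eq_one_iff.mp (show m y * m y = 1 by omega) with e' | e' <;>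
      rw [e, e'] at hdegS hexpS
    · exfalso; linarith
    · exact ⟨x, y, hxy, by rw [hexpS]; simp [sub_eq_add_neg]⟩
    · exact ⟨y, x, hxy.symm, by rw [hexpS]; simp [sub_eq_add_neg, add_comm]⟩
    · exfalso; linarith


/-- The isometry lemma behind exceptional characters. Let τ be a family of generalized characters of a finite group G indexed by Fin n, with τ i₀ = 0, every τ i vanishing at the identity, and inner products ⟨τ i, τ j⟩ = 2 if i = j and 1 otherwise for i, j ≠ i₀. Then there are a sign ε and pairwise distinct irreducible characters μ i with τ i = ε (μ i − μ i₀) for all i. -/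
theorem result {G : Type*} [Group G] [Fintype G] (n : ℕ) (i₀ : Fin n) (τ : Fin n → (G → ℂ)) (h0 : τ i₀ = 0) (hgen : ∀ i, Cfsg.IsGeneralizedCharacter G (τ i)) (hone : ∀ i, τ i 1 = 0) (hgram : ∀ i j, i ≠ i₀ → j ≠ i₀ → Cfsg.classInner (τ i) (τ j) = if i = j then 2 else 1) : ∃ ε : ℂ, (ε = 1 ∨ ε = -1) ∧ ∃ μ : Fin n → (G → ℂ), (∀ i, Cfsg.IsIrrCharacter G (μ i)) ∧ Function.Injective μ ∧ ∀ i, τ i = ε • (μ i - μ i₀) := by
  classical
  by_cases hone' : ∀ i : Fin n, i = i₀
  · refine ⟨1, Or.inl rfl, fun _ => fun _ => 1, fun _ => Chars.isIrrCharacter_one, ?_, ?_⟩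
    · intro a b _; rw [hone' a, hone' b]
    · intro i; rw [hone' i, h0]; simp
  push Not at hone'
  obtain ⟨j, hj⟩ := hone'
  have hdec : ∀ i, i ≠ i₀ → ∃ a b : Cfsg.IrrCharacter G, a ≠ b ∧
      τ i = (a : G → ℂ) - (b : G → ℂ) := fun i hi =>
    exists_sub_of_norm_two (hgen i) (hone i) (by simpa using hgram i i hi hi)
  choose a b hab hτ using hdec
  have hip : ∀ i k (hi : i ≠ i₀) (hk : k ≠ i₀), i ≠ k →
      (a i hi = a k hk ∧ b i hi ≠ b k hk) ∨ (a i hi ≠ a k hk ∧ b i hi = b k hk) := by
    intro i k hi hk hik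
    have h := hgram i k hi hk
    rw [hτ i hi, hτ k hk, if_neg hik, Chars.classInner_sub_left, Chars.classInner_sub_right,
      Chars.classInner_sub_right, Chars.classInner_irr, Chars.classInner_irr, Chars.classInner_irr,
      Chars.classInner_irr] at h
    by_cases h1 : a i hi = a k hk
    · by_cases h4 : b i hi = b k hk
      · have n1 : a i hi ≠ b k hk := fun e => hab k hk (h1.symm.trans e)
        have n2 : b i hi ≠ a k hk := fun e => hab i hi (h1.trans e.symm)
        rw [if_pos h1, if_pos h4, if_neg n1, if_neg n2] at h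
        norm_num at h
      · exact Or.inl ⟨h1, h4⟩
    · by_cases h4 : b i hi = b k hk
      · exact Or.inr ⟨h1, h4⟩
      · rw [if_neg h1, if_neg h4] at h
        split_ifs at h <;> norm_num at h
  by_cases hB : ∀ i (hi : i ≠ i₀), b i hi = b j hj
  · refine ⟨1, Or.inl rfl, fun i => if hi : i = i₀ then (b j hj : G → ℂ) else (a i hi : G → ℂ),
      ?_, ?_, ?_⟩
    · intro i; dsimp only; split
      · exact (b j hj).2
      · exact (a i _).2
    · intro i k hik
      dsimp only at hik
      by_cases hi : i = i₀ <;> by_cases hk : k = i₀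
      · rw [hi, hk]
      · rw [dif_pos hi, dif_neg hk] at hik
        exact absurd (Subtype.ext hik).symm ((hB k hk) ▸ hab k hk)
      · rw [dif_neg hi, dif_pos hk] at hik
        exact absurd (Subtype.ext hik) ((hB i hi) ▸ hab i hi)
      · rw [dif_neg hi, dif_neg hk] at hik
        by_contra hne
        rcases hip i k hi hk hne with ⟨-, h⟩ | ⟨h, -⟩
        · exact h ((hB i hi).trans (hB k hk).symm)
        · exact h (Subtype.ext hik)
    · intro i
      by_cases hi : i = i₀
      · rw [hi, h0]; simp
      · dsimp only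
        rw [dif_neg hi, dif_pos rfl, hτ i hi, hB i hi, one_smul]
  · push Not at hB
    obtain ⟨m, hm, hmb⟩ := hB
    have hA : ∀ i (hi : i ≠ i₀), a i hi = a j hj := by
      intro i hi
      by_cases hij : i = j
      · subst hij; rfl
      have hmj : m ≠ j := fun e => hmb (by subst e; rfl)
      rcases hip i j hi hj hij with ⟨h, -⟩ | ⟨h, hbij⟩
      · exact h
      exfalso
      rcases hip m j hm hj hmj with ⟨ha, -⟩ | ⟨-, hb'⟩
      · have him : i ≠ m := fun e => h (by subst e; exact ha)
        rcases hip i m hi hm him with ⟨h', -⟩ | ⟨-, h'⟩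
        · exact h (h'.trans ha)
        · exact hmb (h'.symm.trans hbij)
      · exact hmb hb'
    refine ⟨-1, Or.inr rfl, fun i => if hi : i = i₀ then (a j hj : G → ℂ) else (b i hi : G → ℂ),
      ?_, ?_, ?_⟩
    · intro i; dsimp only; split
      · exact (a j hj).2
      · exact (b i _).2
    · intro i k hik
      dsimp only at hik
      by_cases hi : i = i₀ <;> by_cases hk : k = i₀
      · rw [hi, hk]
      · rw [dif_pos hi, dif_neg hk] at hik
        exact absurd (Subtype.ext hik) ((hA k hk) ▸ hab k hk)
      · rw [dif_neg hi, dif_pos hk] at hik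
        exact absurd (Subtype.ext hik).symm ((hA i hi) ▸ hab i hi)
      · rw [dif_neg hi, dif_neg hk] at hik
        by_contra hne
        rcases hip i k hi hk hne with ⟨-, h⟩ | ⟨h, -⟩
        · exact h (Subtype.ext hik)
        · exact h ((hA i hi).trans (hA k hk).symm)
    · intro i
      by_cases hi : i = i₀
      · rw [hi, h0]; simp
      · dsimp only
        rw [dif_neg hi, dif_pos rfl, hτ i hi, hA i hi]; simp

end Cfsg.Agent.S0198
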