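import Cfsg.Statements.S0050
import Cfsg.Agent.Lib.Hall.Solvable
-- import your own Cfsg.Agent.* helpers here

set_option autoImplicit false
open Cfsg
open scoped Pointwise

namespace Cfsg.Agent.S0050

/-- Frattini argument for Hall subgroups: if L is a solvable normal subgroup and H a subgroup of L of order coprime to its index in L, then L together with the normaliser of H generates the whole group. -/
theorem result {G : Type*} [Group G] [Finite G] (L : Subgroup G) [L.Normal] (hL : Group.IsSolvable L)
    (H : Subgroup G) (hHL : H ≤ L) (hHall : (Nat.card H).Coprime (H.relIndex L)) :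
    L ⊔ Subgroup.normalizer (H : Set G) = ⊤ := by
  classical
  refine top_le_iff.mp fun g _ => ?_
  have key : ∀ x ∈ L, g * x * g⁻¹ ∈ L := fun x hx => Subgroup.Normal.conj_mem inferInstance x hx g
  let K : Subgroup G := MulAut.conj g • H
  have hKL : K ≤ L := by
    intro y hy
    rw [Subgroup.mem_pointwise_smul_iff_inv_smul_mem] at hy
    have h1 := key _ (hHL hy)
    simpa [MulAut.smul_def, mul_assoc] using h1
  have hcK : Nat.card (K.subgroupOf L) = Nat.card H := by
    rw [Nat.card_congr (Subgroup.subgroupOfEquivOfLe hKL).toEquiv]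
    exact Nat.card_congr (Subgroup.equivSMul (MulAut.conj g) H).toEquiv.symm
  have hcH : Nat.card (H.subgroupOf L) = Nat.card H :=
    Nat.card_congr (Subgroup.subgroupOfEquivOfLe hHL).toEquiv
  have hcard : Nat.card L = Nat.card H * H.relIndex L := by
    rw [← hcH, Subgroup.relIndex, Subgroup.card_mul_index]
  have := hL
  obtain ⟨l, hl⟩ := Cfsg.Agent.Lib.Hall.conj_of_card_eq (G := L) hcard hHall hcH hcK
  have hmem : (l : G)⁻¹ * g ∈ Subgroup.normalizer (H : Set G) := by
    have hstep : ∀ h ∈ H, ((l : G)⁻¹ * g) * h * ((l : G)⁻¹ * g)⁻¹ ∈ H := by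
      intro h hh
      have hk : g * h * g⁻¹ ∈ K := by
        rw [Subgroup.mem_pointwise_smul_iff_inv_smul_mem]
        simpa [MulAut.smul_def, mul_assoc] using hh
      have hk' : (⟨g * h * g⁻¹, hKL hk⟩ : L) ∈ K.subgroupOf L := hk
      rw [← hl, Subgroup.mem_pointwise_smul_iff_inv_smul_mem, Subgroup.mem_subgroupOf] at hk'
      simpa [MulAut.smul_def, mul_assoc] using hk'
    refine Subgroup.mem_normalizer_iff.mpr fun h => ⟨hstep h, fun hh => ?_⟩
    let f : H → H := fun x => ⟨_, hstep x x.2⟩
    have hf : Function.Injective f := fun a b e => by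
      have := congrArg Subtype.val e
      simpa [f] using this
    obtain ⟨x, hx⟩ := Finite.surjective_of_injective hf ⟨_, hh⟩
    have hx' : ((l : G)⁻¹ * g) * (x : G) * ((l : G)⁻¹ * g)⁻¹ = ((l : G)⁻¹ * g) * h * ((l : G)⁻¹ * g)⁻¹ :=
      congrArg Subtype.val hx
    rw [← mul_left_cancel (mul_right_cancel hx')]
    exact x.2
  have : g = (l : G) * ((l : G)⁻¹ * g) := by group
  rw [this]
  exact mul_mem (Subgroup.mem_sup_left l.2) (Subgroup.mem_sup_right hmem)

end Cfsg.Agent.S0050
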