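import Cfsg.Statements.S0514
import Mathlib
import Cfsg.Agent.Lib.Transfer.Criteria
import Cfsg.Agent.Lib.Coprime.Basic

set_option autoImplicit false
open Cfsg

namespace Cfsg.Agent.S0514

/-- The rotation part of the dihedral group as the kernel of a sign map. -/
def reflSign (n : ℕ) : DihedralGroup n →* Multiplicative (ZMod 2) :=
  MonoidHom.mk' (fun x => match x with
    | .r _ => Multiplicative.ofAdd 0
    | .sr _ => Multiplicative.ofAdd 1) (by
    rintro (i | i) (j | j) <;> simp only [DihedralGroup.r_mul_r, DihedralGroup.r_mul_sr,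
      DihedralGroup.sr_mul_r, DihedralGroup.sr_mul_sr] <;> decide)

theorem multiplicative_two_ext : ∀ a b : Multiplicative (ZMod 2), (a = 1 ↔ b = 1) → a = b := by
  decide

theorem ofAdd_one_ne_one : Multiplicative.ofAdd (1 : ZMod 2) ≠ 1 := by decide

open Subgroup in
/-- An element of odd order normalising a 2-subgroup of dihedral type and fixing one of its
involutions centralises it. -/
theorem mem_centralizer_of_dihedral {G : Type*} [Group G] [Finite G] {n : ℕ} (Q : Subgroup G)
    (hQ : IsPGroup 2 Q) (ι : Q →* DihedralGroup n) (hι : Function.Injective ι) {g t : G}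
    (hg : g ∈ normalizer (Q : Set G)) (hodd : (orderOf g).Coprime 2)
    (htQ : t ∈ Q) (ht1 : t ≠ 1) (hgt : g * t = t * g) : g ∈ centralizer (Q : Set G) := by
  haveI : Fact (Nat.Prime 2) := ⟨Nat.prime_two⟩
  have hsq : ∀ q : Q, reflSign n (ι q) ≠ 1 → q * q = 1 := by
    intro q hq
    apply hι
    rw [map_mul, map_one]
    match hv : ι q with
    | .r i => exact absurd (by rw [hv]; rfl) hq
    | .sr i => exact DihedralGroup.sr_mul_self i
  set Q0 := ((reflSign n).comp ι).ker with hQ0
  have hmem0 : ∀ q : Q, q ∈ Q0 ↔ ∃ i, ι q = DihedralGroup.r i := by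
    intro q
    rw [hQ0, MonoidHom.mem_ker, MonoidHom.comp_apply]
    match hv : ι q with
    | .r i => exact ⟨fun _ => ⟨i, rfl⟩, fun _ => rfl⟩
    | .sr i => exact ⟨fun h => absurd h ofAdd_one_ne_one, fun ⟨j, hj⟩ => absurd hj (by simp)⟩
  haveI hcyc : IsCyclic Q0 := by
    let ρ : Multiplicative (ZMod n) →* DihedralGroup n :=
      MonoidHom.mk' (fun i => DihedralGroup.r (Multiplicative.toAdd i)) (fun a b => by simp)
    have hρ : Function.Injective ρ := fun a b h => DihedralGroup.r.inj h
    have hle : Q0.map ι ≤ ρ.range := by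
      rintro _ ⟨q, hq, rfl⟩
      obtain ⟨i, hi⟩ := (hmem0 q).1 hq
      exact ⟨Multiplicative.ofAdd i, hi.symm⟩
    haveI : IsCyclic ρ.range := isCyclic_of_surjective ρ.rangeRestrict ρ.rangeRestrict_surjective
    haveI : IsCyclic (Q0.map ι) :=
      isCyclic_of_injective (Subgroup.inclusion hle) (Subgroup.inclusion_injective hle)
    exact isCyclic_of_injective (Q0.equivMapOfInjective ι hι).toMonoidHom
      (Q0.equivMapOfInjective ι hι).injective
  have hconjQ : ∀ q : Q, g * (q : G) * g⁻¹ ∈ Q := fun q => (mem_normalizer_iff.1 hg q).1 q.2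
  rw [mem_centralizer_iff]
  intro q hq
  by_cases hbig : ∃ x : Q, x * x ≠ 1
  · -- the rotations of Q are generated by an element of order at least 4
    obtain ⟨y, hy⟩ := IsCyclic.exists_generator (α := Q0)
    have hyy : ∀ w ∈ Q0, ∃ m : ℤ, (y : Q) ^ m = w := fun w hw => by
      obtain ⟨m, hm⟩ := hy ⟨w, hw⟩
      exact ⟨m, congrArg Subtype.val hm⟩
    have hy4 : (y : Q) * y ≠ 1 := by
      obtain ⟨x, hx⟩ := hbig
      have hx0 : x ∈ Q0 := by
        by_contra h
        exact hx (hsq x fun h' => h (MonoidHom.mem_ker.2 h'))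
      obtain ⟨m, rfl⟩ := hyy x hx0
      intro h
      apply hx
      rw [← Commute.mul_zpow (Commute.refl _), h, one_zpow]
    set Z := zpowers ((y : Q) : G) with hZ
    have hgy : ∀ b ∈ normalizer (Q : Set G), b * ((y : Q) : G) * b⁻¹ ∈ Z := by
      intro b hb
      have hbQ : b * ((y : Q) : G) * b⁻¹ ∈ Q := (mem_normalizer_iff.1 hb _).1 (y : Q).2
      have hsq' : (⟨_, hbQ⟩ : Q) * ⟨_, hbQ⟩ ≠ 1 := by
        intro h
        apply hy4
        have h' : b * ((y : Q) : G) * b⁻¹ * (b * ((y : Q) : G) * b⁻¹) = 1 := congrArg Subtype.val h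
        apply Subtype.ext
        show ((y : Q) : G) * ((y : Q) : G) = 1
        calc ((y : Q) : G) * ((y : Q) : G) = b⁻¹ * (b * ((y : Q) : G) * b⁻¹ * (b * ((y : Q) : G) * b⁻¹)) * b := by group
          _ = 1 := by rw [h']; group
      have h0 : (⟨_, hbQ⟩ : Q) ∈ Q0 := by
        by_contra h
        exact hsq' (hsq _ fun h' => h (MonoidHom.mem_ker.2 h'))
      obtain ⟨m, hm⟩ := hyy _ h0
      exact ⟨m, by simpa using congrArg Subtype.val hm⟩
    have hgZ : g ∈ normalizer (Z : Set G) := by
      rw [mem_normalizer_iff]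
      have h1 : ∀ b ∈ normalizer (Q : Set G), ∀ z ∈ Z, b * z * b⁻¹ ∈ Z := by
        rintro b hb _ ⟨m, rfl⟩
        show b * ((y : Q) : G) ^ m * b⁻¹ ∈ Z
        rw [← conj_zpow]
        exact zpow_mem (hgy b hb) m
      refine fun z => ⟨h1 g hg z, fun hz => ?_⟩
      have := h1 g⁻¹ (inv_mem hg) _ hz
      simpa [mul_assoc] using this
    -- automorphisms of a cyclic 2-group form a 2-group
    have hgy' : g * ((y : Q) : G) = ((y : Q) : G) * g := by
      let f : zpowers (⟨g, hgZ⟩ : normalizer (Z : Set G)) →* MulAut Z :=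
        (normalizerMonoidHom Z).comp (zpowers (⟨g, hgZ⟩ : normalizer (Z : Set G))).subtype
      have h1 : Nat.card f.range ∣ orderOf g := by
        have := card_range_dvd f
        rwa [Nat.card_zpowers, ← Subgroup.orderOf_coe] at this
      have h2 : Nat.card f.range ∣ Nat.card (MulAut Z) := card_subgroup_dvd_card _
      rw [IsCyclic.card_mulAut] at h2
      obtain ⟨k, hk⟩ := IsPGroup.iff_card.1 (hQ.to_le (zpowers_le.2 (y : Q).2))
      rw [← hZ] at hk
      have h3 : Nat.card f.range ∣ 2 ^ k := by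
        rw [hk] at h2
        rcases k with _ | k
        · simpa using h2
        · rw [Nat.totient_prime_pow Nat.prime_two (Nat.succ_pos k)] at h2
          simp only [Nat.add_sub_cancel, Nat.succ_sub_one, mul_one] at h2
          exact h2.trans (pow_dvd_pow 2 (by omega))
      have h4 : Nat.card f.range = 1 :=
        Nat.eq_one_of_dvd_coprimes (hodd.pow_right k) h1 h3
      have h5 : f ⟨⟨g, hgZ⟩, mem_zpowers _⟩ = 1 := by
        have := Subgroup.card_eq_one.1 h4
        exact mem_bot.1 (this ▸ ⟨_, rfl⟩)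
      have h6 := congrArg (fun φ : MulAut Z => ((φ ⟨_, mem_zpowers _⟩ : Z) : G)) h5
      exact mul_inv_eq_iff_eq_mul.1 h6
    have hcomm0 : ∀ w : Q, w ∈ Q0 → Commute (w : G) g := fun w hw => by
      obtain ⟨m, rfl⟩ := hyy w hw
      push_cast
      exact (Commute.zpow_left hgy'.symm m)
    -- trivial action on the quotient by the rotations
    have hsgn : ∀ w : Q, ((reflSign n).comp ι) ⟨_, hconjQ w⟩ = ((reflSign n).comp ι) w := by
      intro w
      apply multiplicative_two_ext
      constructor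
      · intro h
        have h1 : (⟨_, hconjQ w⟩ : Q) ∈ Q0 := h
        have h2 : g * (g * (w : G) * g⁻¹) = g * (w : G) * g⁻¹ * g := ((hcomm0 _ h1).symm).eq
        have h3 : g * (w : G) * g⁻¹ = (w : G) := mul_left_cancel (h2.trans (by group))
        rwa [show (⟨_, hconjQ w⟩ : Q) = w from Subtype.ext h3] at h1
      · intro h
        have h1 := hcomm0 w h
        rw [show (⟨_, hconjQ w⟩ : Q) = w from Subtype.ext (mul_inv_eq_iff_eq_mul.2 h1.symm.eq)]
        exact h
    have hinv : g * q⁻¹ * g⁻¹ ∈ Q := hconjQ ⟨q⁻¹, inv_mem hq⟩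
    have hc0 : (⟨q, hq⟩ * ⟨_, hinv⟩ : Q) ∈ Q0 := by
      rw [MonoidHom.mem_ker, map_mul, hsgn ⟨q⁻¹, inv_mem hq⟩, ← map_mul]
      rw [show (⟨q, hq⟩ : Q) * ⟨q⁻¹, inv_mem hq⟩ = 1 from Subtype.ext (mul_inv_cancel q), map_one]
    have heq : ((⟨q, hq⟩ * ⟨_, hinv⟩ : Q) : G) = q * g * q⁻¹ * g⁻¹ := by
      show q * (g * q⁻¹ * g⁻¹) = _
      group
    refine (Cfsg.Agent.Lib.Coprime.commute_of_commute_commutator (k := q) (a := g) ?_ ?_).eq
    · exact heq ▸ hcomm0 _ hc0
    · rw [← heq, Subgroup.orderOf_coe]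
      obtain ⟨k, hk⟩ := IsPGroup.iff_orderOf.1 hQ (⟨q, hq⟩ * ⟨_, hinv⟩ : Q)
      rw [hk]
      exact hodd.pow_right k
  · -- exponent 2: order at most four
    push Not at hbig
    have h0 : Nat.card Q0 ≤ 2 := by
      obtain ⟨y, hy⟩ := IsCyclic.exists_generator (α := Q0)
      rw [← orderOf_eq_card_of_forall_mem_zpowers hy]
      exact Nat.le_of_dvd (by norm_num)
        (orderOf_dvd_of_pow_eq_one (Subtype.ext (by rw [pow_two]; exact hbig y)))
    have h4 : Nat.card Q ≤ 4 := by
      rw [← Q0.card_mul_index, hQ0, Subgroup.index_ker]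
      have h1 := ((reflSign n).comp ι).range.card_le_card_group
      have h2 : Nat.card (Multiplicative (ZMod 2)) = 2 := by simp [Nat.card_eq_fintype_card]
      rw [h2] at h1
      exact Nat.mul_le_mul h0 h1
    have htg : g * t * g⁻¹ = t := mul_inv_eq_iff_eq_mul.2 hgt
    -- g² fixes every element
    have hfix : g * (g * q * g⁻¹) * g⁻¹ = q := by
      classical
      by_contra hne
      have hq1 : q ≠ 1 := by rintro rfl; exact hne (by group)
      have hqt : q ≠ t := by rintro rfl; exact hne (by rw [htg, htg])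
      have hm1 : g * q * g⁻¹ ∈ Q := hconjQ ⟨q, hq⟩
      have hm2 : g * (g * q * g⁻¹) * g⁻¹ ∈ Q := hconjQ ⟨_, hm1⟩
      have hinj : ∀ a b : G, g * a * g⁻¹ = g * b * g⁻¹ → a = b := fun a b h =>
        mul_left_cancel (mul_right_cancel h)
      have n1 : g * q * g⁻¹ ≠ q := fun h => hne (by rw [h, h])
      have n2 : g * q * g⁻¹ ≠ 1 := fun h => hq1 (conj_eq_one_iff.1 h)
      have n3 : g * q * g⁻¹ ≠ t := fun h => hqt (hinj _ _ (h.trans htg.symm))
      have n4 : g * (g * q * g⁻¹) * g⁻¹ ≠ 1 := fun h => n2 (conj_eq_one_iff.1 h)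
      have n5 : g * (g * q * g⁻¹) * g⁻¹ ≠ t := fun h => n3 (hinj _ _ (h.trans htg.symm))
      have n6 : g * (g * q * g⁻¹) * g⁻¹ ≠ g * q * g⁻¹ := fun h => n1 (hinj _ _ h)
      have hsub : ({1, t, q, g * q * g⁻¹, g * (g * q * g⁻¹) * g⁻¹} : Finset G) ⊆
          (Q : Set G).toFinite.toFinset := by
        intro x hx
        simp only [Finset.mem_insert, Finset.mem_singleton] at hx
        rw [Set.Finite.mem_toFinset]
        rcases hx with rfl | rfl | rfl | rfl | rfl
        · exact one_mem Q
        · exact htQ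
        · exact hq
        · exact hm1
        · exact hm2
      have h5 := Finset.card_le_card hsub
      rw [← Set.ncard_eq_toFinset_card, ← Nat.card_coe_set_eq] at h5
      rw [Finset.card_insert_of_notMem (by simp [Ne.symm ht1, Ne.symm hq1, Ne.symm n2, Ne.symm n4]),
        Finset.card_insert_of_notMem (by simp [Ne.symm hqt, Ne.symm n3, Ne.symm n5]),
        Finset.card_insert_of_notMem (by simp [Ne.symm n1, Ne.symm hne]),
        Finset.card_insert_of_notMem (by simp [Ne.symm n6]), Finset.card_singleton] at h5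
      change 5 ≤ Nat.card Q at h5
      omega
    have h2 : Commute (g ^ 2) q := by
      show g ^ 2 * q = q * g ^ 2
      conv_rhs => rw [← hfix]
      rw [pow_two]
      group
    obtain ⟨m, hm⟩ := exists_pow_eq_self_of_coprime (hodd.symm : Nat.Coprime 2 (orderOf g))
    exact (hm ▸ h2.pow_left m).symm.eq

/-- In a finite group whose Sylow 2-subgroups are dihedral of order at least 4, the centralizer of any involution has a
normal subgroup of odd order whose index in the centralizer is a power of 2. -/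
theorem result {X : Type*} [Group X] [Finite X]
    (S : Sylow 2 X) (n : ℕ) (hn : 2 ≤ n) (hS : Nonempty ((S : Subgroup X) ≃* DihedralGroup n)) (t : X)
    (ht : orderOf t = 2) :
    ∃ N : Subgroup (Subgroup.centralizer ({t} : Set X)), N.Normal ∧ Odd (Nat.card N) ∧ ∃ k : ℕ, N.index = 2 ^ k := by
  haveI : Fact (Nat.Prime 2) := ⟨Nat.prime_two⟩
  obtain ⟨e⟩ := hS
  set C := Subgroup.centralizer ({t} : Set X)
  have htC : t ∈ C := Subgroup.mem_centralizer_singleton_iff.2 rfl
  have key : Cfsg.Agent.Lib.Transfer.LocallyPTrivial 2 C := by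
    intro Q hQ g hg hgo
    -- adjoin the central involution
    set tC : C := ⟨t, htC⟩
    have htc : ∀ x : C, x * tC = tC * x := fun x =>
      Subtype.ext (Subgroup.mem_centralizer_singleton_iff.1 x.2)
    have hTn : ∀ x : C, x ∈ Subgroup.normalizer ((Subgroup.zpowers tC : Subgroup C) : Set C) := fun x =>
      Subgroup.centralizer_le_normalizer _ (Subgroup.mem_centralizer_iff.2 (by
        rintro _ ⟨m, rfl⟩
        exact (Commute.zpow_right (htc x) m).symm.eq))
    set Q' := Q ⊔ Subgroup.zpowers tC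
    have hQ' : IsPGroup 2 Q' := hQ.to_sup_of_normal_right'
      (IsPGroup.of_card (n := 1) (by rw [Nat.card_zpowers, ← Subgroup.orderOf_coe, ht, pow_one]))
      (fun x _ => hTn x)
    obtain ⟨R, hR⟩ := (hQ'.map C.subtype).exists_le_sylow
    let e1 : Q' ≃* Q'.map C.subtype := Q'.equivMapOfInjective C.subtype C.subtype_injective
    let e2 : (R : Subgroup X) ≃* (S : Subgroup X) := Sylow.equiv R S
    let ι : Q' →* DihedralGroup n :=
      (e2.trans e).toMonoidHom.comp ((Subgroup.inclusion hR).comp e1.toMonoidHom)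
    have hgQ' : g ∈ Subgroup.normalizer (Q' : Set C) :=
      Subgroup.normalizer_inf_normalizer_le_normalizer_sup _ _ ⟨hg, hTn g⟩
    refine Subgroup.centralizer_le (fun x hx => Subgroup.mem_sup_left hx)
      (Cfsg.Agent.S0514.mem_centralizer_of_dihedral Q' hQ' ι
        ((e2.trans e).injective.comp ((Subgroup.inclusion_injective hR).comp e1.injective))
        hgQ' hgo (Subgroup.mem_sup_right (Subgroup.mem_zpowers tC)) ?_ (htc g))
    intro h
    have : t = 1 := congrArg Subtype.val h
    rw [this, orderOf_one] at ht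
    norm_num at ht
  obtain ⟨P, N, hN, hc⟩ := Cfsg.Agent.Lib.Transfer.hasNormalPComplement_iff_locallyPTrivial.2 key
  have h2N : ¬ 2 ∣ Nat.card N := Cfsg.Agent.Lib.Transfer.not_dvd_card_of_isComplement' P N hc
  obtain ⟨k, hk⟩ := IsPGroup.iff_card.1 P.2
  refine ⟨N, hN, Nat.not_even_iff_odd.1 (fun h => h2N h.two_dvd), k, ?_⟩
  rw [← hk]
  exact hc.symm.index_eq_card

end Cfsg.Agent.S0514
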