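import Cfsg.Statements.S0213
import Mathlib
import Cfsg.Agent.Lib.Involution.Basic

set_option autoImplicit false
open Cfsg
open Cfsg.Agent.Lib.Involution

namespace Cfsg.Agent.S0213

/-- Thompson Order Formula, two-class case: if every involution of the finite group G is conjugate to exactly one of the non-conjugate involutions x₁, x₂, and nᵢ is the number of pairs (u, v) with u conjugate to x₁, v conjugate to x₂ and xᵢ in the cyclic group generated by uv, then |G| = |C(x₂)| n₁ + |C(x₁)| n₂. -/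
theorem result {G : Type*} [Group G] [Finite G] (x₁ x₂ : G) (h₁ : orderOf x₁ = 2) (h₂ : orderOf x₂ = 2) (hnc : ¬ IsConj x₁ x₂) (hall : ∀ t : G, orderOf t = 2 → IsConj x₁ t ∨ IsConj x₂ t) : Nat.card G = Nat.card (Subgroup.centralizer ({x₂} : Set G)) * Nat.card {p : G × G // IsConj x₁ p.1 ∧ IsConj x₂ p.2 ∧ x₁ ∈ Subgroup.zpowers (p.1 * p.2)} + Nat.card (Subgroup.centralizer ({x₁} : Set G)) * Nat.card {p : G × G // IsConj x₁ p.1 ∧ IsConj x₂ p.2 ∧ x₂ ∈ Subgroup.zpowers (p.1 * p.2)} := by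
  classical
  have := Fintype.ofFinite G
  have hev : ∀ p : G × G, IsConj x₁ p.1 → IsConj x₂ p.2 → Even (orderOf (p.1 * p.2)) := by
    intro p h h'
    rw [← Nat.not_odd_iff_even]
    exact fun ho => hnc (h.trans ((isConj_of_odd (mul_self_eq_one ((isConj_orderOf h).trans h₁))
      (mul_self_eq_one ((isConj_orderOf h').trans h₂)) ho).trans h'.symm))
  let φ : G × G → G := fun p => (p.1 * p.2) ^ (orderOf (p.1 * p.2) / 2)
  have count : ∀ x : G, orderOf x = 2 →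
      Nat.card {p : G × G // (IsConj x₁ p.1 ∧ IsConj x₂ p.2) ∧ IsConj x (φ p)} =
        Nat.card {y : G // IsConj x y} * Nat.card {p : G × G //
          IsConj x₁ p.1 ∧ IsConj x₂ p.2 ∧ x ∈ Subgroup.zpowers (p.1 * p.2)} := by
    intro x hx
    have hcj : ∀ y : {y : G // IsConj x y}, ∃ g : G, g * x * g⁻¹ = y.1 :=
      fun y => isConj_iff.mp y.2
    choose c hc using hcj
    rw [← Nat.card_prod]
    have cj : ∀ (g a b : G), IsConj a b → IsConj a (g * b * g⁻¹) :=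
      fun g a b h => h.trans (isConj_iff.mpr ⟨g, rfl⟩)
    refine Nat.card_congr
      { toFun := fun p => (⟨φ p.1, p.2.2⟩,
          ⟨((c ⟨φ p.1, p.2.2⟩)⁻¹ * p.1.1 * c ⟨φ p.1, p.2.2⟩,
            (c ⟨φ p.1, p.2.2⟩)⁻¹ * p.1.2 * c ⟨φ p.1, p.2.2⟩), ?_, ?_, ?_⟩)
        invFun := fun q => ⟨(c q.1 * q.2.1.1 * (c q.1)⁻¹, c q.1 * q.2.1.2 * (c q.1)⁻¹),
          ⟨cj _ _ _ q.2.2.1, cj _ _ _ q.2.2.2.1⟩, ?_⟩
        left_inv := ?_
        right_inv := ?_ }
    · simpa using cj (c ⟨φ p.1, p.2.2⟩)⁻¹ _ _ p.2.1.1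
    · simpa using cj (c ⟨φ p.1, p.2.2⟩)⁻¹ _ _ p.2.1.2
    · set g := c ⟨φ p.1, p.2.2⟩ with hg
      have hgx : g * x * g⁻¹ = φ p.1 := hc _
      have hmem : φ p.1 ∈ Subgroup.zpowers (p.1.1 * p.1.2) := pow_mem (Subgroup.mem_zpowers _) _
      obtain ⟨k, hk⟩ := hmem
      simp only at hk
      refine ⟨k, ?_⟩
      show (g⁻¹ * p.1.1 * g * (g⁻¹ * p.1.2 * g)) ^ k = x
      rw [show g⁻¹ * p.1.1 * g * (g⁻¹ * p.1.2 * g) = g⁻¹ * (p.1.1 * p.1.2) * g⁻¹⁻¹ by group,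
        conj_zpow, hk, ← hgx]
      group
    · have hz : φ (c q.1 * q.2.1.1 * (c q.1)⁻¹, c q.1 * q.2.1.2 * (c q.1)⁻¹) = q.1.1 := by
        symm
        refine (eq_half_pow ((isConj_orderOf q.1.2).trans hx) ?_).2
        obtain ⟨k, hk⟩ := q.2.2.2.2
        refine ⟨k, ?_⟩
        show (c q.1 * q.2.1.1 * (c q.1)⁻¹ * (c q.1 * q.2.1.2 * (c q.1)⁻¹)) ^ k = q.1.1
        rw [show c q.1 * q.2.1.1 * (c q.1)⁻¹ * (c q.1 * q.2.1.2 * (c q.1)⁻¹) =
          c q.1 * (q.2.1.1 * q.2.1.2) * (c q.1)⁻¹ by group, conj_zpow]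
        rw [show (q.2.1.1 * q.2.1.2) ^ k = x from hk]
        exact hc q.1
      rw [hz]; exact q.1.2
    · intro p
      refine Subtype.ext (Prod.ext ?_ ?_) <;> simp [mul_assoc]
    · rintro ⟨y, ⟨u, v⟩, hu, hv, hxm⟩
      have hz : φ (c y * u * (c y)⁻¹, c y * v * (c y)⁻¹) = y.1 := by
        symm
        refine (eq_half_pow ((isConj_orderOf y.2).trans hx) ?_).2
        obtain ⟨k, hk⟩ := hxm
        refine ⟨k, ?_⟩
        show (c y * u * (c y)⁻¹ * (c y * v * (c y)⁻¹)) ^ k = y.1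
        rw [show c y * u * (c y)⁻¹ * (c y * v * (c y)⁻¹) = c y * (u * v) * (c y)⁻¹ by group,
          conj_zpow, show (u * v) ^ k = x from hk]
        exact hc y
      have hy : ∀ h, (⟨φ (c y * u * (c y)⁻¹, c y * v * (c y)⁻¹), h⟩ : {y : G // IsConj x y}) = y :=
        fun h => Subtype.ext hz
      refine Prod.ext (hy _) (Subtype.ext ?_)
      simp only [hy]
      simp [mul_assoc]
  have split : Nat.card {y : G // IsConj x₁ y} * Nat.card {y : G // IsConj x₂ y} =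
      Nat.card {p : G × G // (IsConj x₁ p.1 ∧ IsConj x₂ p.2) ∧ IsConj x₁ (φ p)} +
      Nat.card {p : G × G // (IsConj x₁ p.1 ∧ IsConj x₂ p.2) ∧ IsConj x₂ (φ p)} := by
    rw [← Nat.card_prod, ← Nat.card_congr (Equiv.subtypeProdEquivProd (p := IsConj x₁)
      (q := IsConj x₂))]
    have hunion : {p : G × G | IsConj x₁ p.1 ∧ IsConj x₂ p.2} =
        {p : G × G | (IsConj x₁ p.1 ∧ IsConj x₂ p.2) ∧ IsConj x₁ (φ p)} ∪
        {p : G × G | (IsConj x₁ p.1 ∧ IsConj x₂ p.2) ∧ IsConj x₂ (φ p)} := by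
      ext p
      simp only [Set.mem_union, Set.mem_setOf_eq]
      constructor
      · intro h
        rcases hall (φ p) (orderOf_half_pow (hev p h.1 h.2)) with h' | h'
        · exact Or.inl ⟨h, h'⟩
        · exact Or.inr ⟨h, h'⟩
      · rintro (h | h) <;> exact h.1
    show Nat.card {p : G × G | IsConj x₁ p.1 ∧ IsConj x₂ p.2} =
      Nat.card {p : G × G | (IsConj x₁ p.1 ∧ IsConj x₂ p.2) ∧ IsConj x₁ (φ p)} +
      Nat.card {p : G × G | (IsConj x₁ p.1 ∧ IsConj x₂ p.2) ∧ IsConj x₂ (φ p)}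
    rw [Nat.card_coe_set_eq, Nat.card_coe_set_eq, Nat.card_coe_set_eq, hunion]
    refine Set.ncard_union_eq ?_ (Set.toFinite _) (Set.toFinite _)
    rw [Set.disjoint_left]
    rintro p ⟨-, h⟩ ⟨-, h'⟩
    exact hnc (h.trans h'.symm)
  rw [count x₁ h₁, count x₂ h₂] at split
  have e₁ := card_isConj_mul_card_centralizer x₁
  have e₂ := card_isConj_mul_card_centralizer x₂
  refine Nat.eq_of_mul_eq_mul_left (Nat.card_pos (α := G)) ?_
  rw [mul_add]
  conv_lhs => rw [← e₁]; arg 2; rw [e₁, ← e₂]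
  nth_rewrite 1 [← e₁]
  nth_rewrite 1 [← e₂]
  linear_combination (Nat.card (Subgroup.centralizer ({x₁} : Set G)) *
    Nat.card (Subgroup.centralizer ({x₂} : Set G))) * split

end Cfsg.Agent.S0213
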