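import Cfsg.Statements.S0201
import Mathlib
import Cfsg.Agent.Lib.ZStar.Final

set_option autoImplicit false
open Cfsg
open Cfsg.Agent.Lib.Involution

namespace Cfsg.Agent.S0201

/-- Brauer–Suzuki Theorem: if a Sylow 2-subgroup of a finite group is generalized quaternion (of order at least 8) and the group has no nontrivial normal subgroup of odd order, then its centre has order 2. -/
theorem result {G : Type*} [Group G] [Finite G] (S : Sylow 2 G) (n : ℕ) (e : (S : Subgroup G) ≃* QuaternionGroup (2 ^ (n + 1))) (hO : ∀ N : Subgroup G, N.Normal → Odd (Nat.card N) → N = ⊥) : Nat.card (Subgroup.center G) = 2 := by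
  haveI : Fact (Nat.Prime 2) := ⟨Nat.prime_two⟩
  rcases n with _ | n
  swap
  · obtain ⟨a, b, hQ⟩ := Lib.BrauerSuzuki.exists_qSetup S n e _ rfl
    exact hQ.card_center hO
  have hO' : Cfsg.oddCore G = ⊥ := Lib.ZStar.oddCore_eq_bot_iff.2 hO
  have hC2 : IsPGroup 2 (Subgroup.center G) := by
    refine IsPGroup.of_card (n := (Nat.card (Subgroup.center G)).primeFactorsList.length)
      (Nat.eq_prime_pow_of_unique_prime_dvd (p := 2) (Nat.card_pos (α := Subgroup.center G)).ne'
        fun {q} hq hqd => ?_)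
    by_contra hne
    haveI := Fact.mk hq
    obtain ⟨⟨c, hc⟩, hco⟩ := exists_prime_orderOf_dvd_card' (G := Subgroup.center G) q hqd
    rw [Subgroup.orderOf_mk] at hco
    have hn : (Subgroup.zpowers c).Normal := ⟨fun x hx g => by
      rw [Subgroup.mem_center_iff.1 (Subgroup.zpowers_le.2 hc hx) g, mul_inv_cancel_right]
      exact hx⟩
    have h := hO _ hn (by rw [Nat.card_zpowers, hco]; exact hq.odd_of_ne_two hne)
    rw [Subgroup.zpowers_eq_bot] at h
    rw [h, orderOf_one] at hco
    exact hq.one_lt.ne hco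
  have hCS : Subgroup.center G ≤ (S : Subgroup G) :=
    Lib.BrauerSuzuki.le_sylow_of_normal (inferInstance : (Subgroup.center G).Normal) hC2 S
  have hsmall : ∀ x : QuaternionGroup (2 ^ 1), (∀ y, x * y = y * x) →
      x = QuaternionGroup.a 0 ∨ x = QuaternionGroup.a 2 := by decide
  have hinj : ∀ c ∈ Subgroup.center G, ∃ h : c ∈ (S : Subgroup G),
      e ⟨c, h⟩ = QuaternionGroup.a 0 ∨ e ⟨c, h⟩ = QuaternionGroup.a 2 := fun c hc => by
    refine ⟨hCS hc, hsmall _ fun y => ?_⟩
    obtain ⟨w, rfl⟩ := e.surjective y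
    rw [← map_mul, ← map_mul]
    exact congrArg e (Subtype.ext (Subgroup.mem_center_iff.1 hc w).symm)
  obtain ⟨z, hz2⟩ : ∃ z : (S : Subgroup G), orderOf z = 2 :=
    ⟨e.symm (QuaternionGroup.a 2), by
      exact (orderOf_injective e.symm.toMonoidHom e.symm.injective _).trans
        (orderOf_eq_prime (by decide) (by decide))⟩
  have hzc : (z : G) ∈ Subgroup.center G := by
    refine Lib.ZStar.q8Case G S e hO' z z.2 (by rw [Subgroup.orderOf_coe, hz2]) fun x hx hx2 => ?_
    have hq : ∀ q : QuaternionGroup (2 ^ 1), q * q = 1 → q ≠ 1 → q = QuaternionGroup.a 2 := by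
      decide
    have key : ∀ w : (S : Subgroup G), orderOf w = 2 → e w = QuaternionGroup.a 2 := fun w hw => by
      refine hq _ ?_ fun h => ?_
      · rw [← map_mul, Lib.ZStar.mul_self_of_orderOf_two hw, map_one]
      · rw [EmbeddingLike.map_eq_one_iff] at h
        rw [h, orderOf_one] at hw
        exact absurd hw (by norm_num)
    exact congrArg Subtype.val
      (e.injective ((key ⟨x, hx⟩ (by rw [Subgroup.orderOf_mk, hx2])).trans (key z hz2).symm))
  let f : Subgroup.center G → Bool := fun c =>
    decide (e ⟨c, hCS c.2⟩ = QuaternionGroup.a 2)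
  have hf : Function.Injective f := by
    intro c d h
    obtain ⟨_, hc⟩ := hinj c c.2
    obtain ⟨_, hd⟩ := hinj d d.2
    have h' := e.injective (a₁ := ⟨c, hCS c.2⟩) (a₂ := ⟨d, hCS d.2⟩)
    refine Subtype.ext (congrArg Subtype.val (h' ?_) :)
    rcases hc with hc | hc <;> rcases hd with hd | hd <;> simp [f, hc, hd] at h ⊢ <;> first | exact h | exact h.symm
  refine le_antisymm ((Nat.card_le_card_of_injective f hf).trans (by simp)) ?_
  have h1 := Subgroup.orderOf_dvd_natCard (Subgroup.center G) hzc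
  rw [Subgroup.orderOf_coe, hz2] at h1
  exact Nat.le_of_dvd Nat.card_pos h1

end Cfsg.Agent.S0201
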