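import Cfsg.Statements.S3335
import Mathlib
-- import your own Cfsg.Agent.* helpers here

set_option autoImplicit false
open Cfsg

namespace Cfsg.Agent.S3335

/-- The relations of the presentation, for the generators with index below `k`. -/
structure Rels {G : Type*} [Group G] (x : ℕ → G) (k : ℕ) : Prop where
  cube : x 0 ^ 3 = 1
  sq : ∀ i, 1 ≤ i → i < k → x i ^ 2 = 1
  adj : ∀ i, i + 1 < k → (x i * x (i + 1)) ^ 3 = 1
  far : ∀ i j, i + 1 < j → j < k → (x i * x j) ^ 2 = 1

theorem Rels.mono {G : Type*} [Group G] {x : ℕ → G} {k l : ℕ} (h : Rels x k) (hl : l ≤ k) :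
    Rels x l :=
  ⟨h.cube, fun i a b => h.sq i a (by omega), fun i a => h.adj i (by omega),
    fun i j a b => h.far i j a (by omega)⟩

variable {G : Type*} [Group G] {x : ℕ → G}

/-- Descending products `x k * x (k - 1) * …` with `d` factors. -/
def desc (x : ℕ → G) (k : ℕ) : ℕ → G
  | 0 => 1
  | d + 1 => desc x k d * x (k - d)

/-- The coset representative `x k * x (k - 1) * ⋯ * x j`. -/
def rep (x : ℕ → G) (k j : ℕ) : G := desc x k (k + 1 - j)

theorem rep_top (k : ℕ) : rep x k (k + 1) = 1 := by simp [rep, desc]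

theorem rep_step (k j : ℕ) (hj : j ≤ k) : rep x k j = rep x k (j + 1) * x j := by
  unfold rep
  rw [show k + 1 - j = (k + 1 - (j + 1)) + 1 by omega]
  show desc x k _ * x (k - (k + 1 - (j + 1))) = _
  rw [show k - (k + 1 - (j + 1)) = j by omega]

theorem inv_eq_self {k : ℕ} (h : Rels x (k + 1)) {i : ℕ} (h1 : 1 ≤ i) (h2 : i ≤ k) : (x i)⁻¹ = x i := by
  rw [inv_eq_iff_mul_eq_one, ← pow_two]
  exact h.sq i h1 (by omega)

theorem comm_far {k : ℕ} (h : Rels x (k + 1)) {i j : ℕ} (h1 : 1 ≤ i) (h2 : i + 1 < j) (h3 : j ≤ k) :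
    Commute (x i) (x j) := by
  have hf := h.far i j h2 (by omega)
  rw [pow_two, ← inv_eq_iff_mul_eq_one, mul_inv_rev, inv_eq_self h h1 (by omega),
    inv_eq_self h (by omega) h3] at hf
  exact hf.symm

theorem invert_zero {k : ℕ} (h : Rels x (k + 1)) {j : ℕ} (h2 : 2 ≤ j) (h3 : j ≤ k) :
    x j * x 0 = (x 0)⁻¹ * x j := by
  have hf : x 0 * (x j * x 0 * x j) = 1 := by
    rw [← h.far 0 j (by omega) (by omega), pow_two]
    simp only [mul_assoc]
  have hj := inv_eq_self h (by omega) h3
  calc x j * x 0 = x j * x 0 * x j * (x j)⁻¹ := by rw [mul_inv_cancel_right]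
    _ = (x 0)⁻¹ * x j := by rw [← eq_inv_of_mul_eq_one_right hf, hj]

theorem braid {k : ℕ} (h : Rels x (k + 1)) {i : ℕ} (h1 : 1 ≤ i) (h2 : i < k) :
    x i * x (i + 1) * x i = x (i + 1) * x i * x (i + 1) := by
  have hf : (x i * x (i + 1) * x i) * (x (i + 1) * x i * x (i + 1)) = 1 := by
    rw [← h.adj i (by omega), pow_succ, pow_two]
    simp only [mul_assoc]
  rw [eq_inv_of_mul_eq_one_left hf, mul_inv_rev, mul_inv_rev, inv_eq_self h h1 (by omega),
    inv_eq_self h (by omega) (by omega), mul_assoc]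

theorem twist {k : ℕ} (hk : 1 ≤ k) (h : Rels x (k + 1)) :
    x 1 * x 0 * x 1 = (x 0)⁻¹ * x 1 * (x 0)⁻¹ ∧ x 1 * (x 0)⁻¹ * x 1 = x 0 * x 1 * x 0 := by
  have h1 := inv_eq_self h le_rfl hk
  have hf : (x 0 * (x 1 * x 0 * x 1)) * (x 0 * x 1) = 1 := by
    rw [← h.adj 0 (by omega), pow_succ, pow_two]
    simp only [mul_assoc, zero_add]
  have h5 : x 1 * x 0 * x 1 = (x 0)⁻¹ * x 1 * (x 0)⁻¹ := by
    have h6 := eq_inv_of_mul_eq_one_left hf
    rw [mul_inv_rev, h1] at h6
    rw [mul_assoc (x 0)⁻¹, ← h6, inv_mul_cancel_left]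
  refine ⟨h5, ?_⟩
  have h7 := congrArg (fun g : G => g⁻¹) h5
  simp only [mul_inv_rev, inv_inv, h1] at h7
  simpa only [mul_assoc] using h7

theorem commute_rep {k : ℕ} (h : Rels x (k + 1)) {i : ℕ} (h1 : 1 ≤ i) :
    ∀ j, i + 2 ≤ j → j ≤ k + 1 → Commute (x i) (rep x k j) := by
  intro j hij hj
  induction hj using Nat.decreasingInduction with
  | self => rw [rep_top]; exact Commute.one_right _
  | of_succ l hl ih =>
    rw [rep_step k l (by omega)]
    exact (ih (by omega)).mul_right (comm_far h h1 (by omega) (by omega))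

theorem conj_zero {k : ℕ} (h : Rels x (k + 1)) :
    ∀ j, 2 ≤ j → j ≤ k + 1 → ∀ a ∈ Subgroup.zpowers (x 0),
      rep x k j * a * (rep x k j)⁻¹ ∈ Subgroup.zpowers (x 0) := by
  intro j hij hj
  induction hj using Nat.decreasingInduction with
  | self => intro a ha; simpa [rep_top] using ha
  | of_succ l hl ih =>
    intro a ha
    obtain ⟨e, rfl⟩ := Subgroup.mem_zpowers_iff.mp ha
    have hc : x l * x 0 ^ e * (x l)⁻¹ = (x 0 ^ e)⁻¹ := by
      rw [← conj_zpow, invert_zero h hij (by omega), mul_inv_cancel_right, inv_zpow]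
    rw [rep_step k l (by omega), mul_inv_rev, show rep x k (l + 1) * x l * x 0 ^ e *
      ((x l)⁻¹ * (rep x k (l + 1))⁻¹) = rep x k (l + 1) * (x l * x 0 ^ e * (x l)⁻¹) *
        (rep x k (l + 1))⁻¹ by group, hc]
    exact ih (by omega) _ (inv_mem (Subgroup.mem_zpowers_iff.mpr ⟨e, rfl⟩))

theorem rep_shift {k : ℕ} (h : Rels x (k + 1)) {i : ℕ} (hi : i ≤ k) :
    ∀ j, 1 ≤ j → j + 1 ≤ i → rep x k j * x i = x (i - 1) * rep x k j := by
  obtain _ | m := i
  · intro j _ hj; omega
  intro j hj hji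
  rw [Nat.succ_sub_one]
  have hjm : j ≤ m := by omega
  clear hji
  induction hjm using Nat.decreasingInduction with
  | self =>
    have hc : Commute (x m) (rep x k (m + 1 + 1)) := commute_rep h hj _ (by omega) (by omega)
    rw [rep_step k m (by omega), rep_step k (m + 1) hi, mul_assoc, mul_assoc, ← mul_assoc (x (m + 1)),
      ← braid h hj (by omega)]
    simp only [← mul_assoc]
    rw [hc.eq]
  | of_succ l hl ih =>
    rw [rep_step k l (by omega), mul_assoc,
      (comm_far h hj (show l + 1 < m + 1 by omega) hi).eq, ← mul_assoc, ih (by omega), mul_assoc]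

/-- The representatives. -/
def reps (x : ℕ → G) (k : ℕ) : Set G :=
  (fun j => rep x k j) '' Set.Icc 1 (k + 1) ∪ {rep x k 1 * x 0, rep x k 1 * x 0 ^ 2}

theorem rep_mem {k j : ℕ} (h1 : 1 ≤ j) (h2 : j ≤ k + 1) : rep x k j ∈ reps x k :=
  Or.inl ⟨j, ⟨h1, h2⟩, rfl⟩

theorem step_mem {k : ℕ} (hk : 1 ≤ k) (h : Rels x (k + 1)) (H : Subgroup G)
    (hH : ∀ i, i < k → x i ∈ H) {i : ℕ} (hi : i ≤ k) :
    ∀ r ∈ reps x k, ∃ r' ∈ reps x k, r * x i * r'⁻¹ ∈ H := by
  have h03 : x 0 * x 0 * x 0 = 1 := by rw [← h.cube, pow_succ, pow_two]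
  have hz : ∀ {j : ℕ}, 2 ≤ j → j ≤ k + 1 → ∀ a ∈ Subgroup.zpowers (x 0),
      rep x k j * a * (rep x k j)⁻¹ ∈ H := fun h2 hj a ha =>
    (Subgroup.zpowers_le.mpr (hH 0 (by omega))) (conj_zero h _ h2 hj a ha)
  -- the representatives `rep j`
  have hA : ∀ j, 1 ≤ j → j ≤ k + 1 → ∃ r' ∈ reps x k, rep x k j * x i * r'⁻¹ ∈ H := by
    intro j h1 h2
    by_cases e1 : i + 1 = j
    · subst e1
      rw [← rep_step k i hi]
      rcases Nat.eq_zero_or_pos i with rfl | hp
      · exact ⟨rep x k 1 * x 0, Or.inr (Or.inl rfl), by rw [← rep_step k 0 hi, mul_inv_cancel]; exact one_mem _⟩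
      · exact ⟨_, rep_mem hp (by omega), by rw [mul_inv_cancel]; exact one_mem _⟩
    by_cases e2 : i = j
    · subst e2
      refine ⟨_, rep_mem (j := i + 1) (by omega) (by omega), ?_⟩
      rw [rep_step k i hi, mul_assoc _ (x i) (x i), ← pow_two, h.sq i h1 (by omega), mul_one,
        mul_inv_cancel]
      exact one_mem _
    refine ⟨_, rep_mem h1 h2, ?_⟩
    rcases Nat.lt_or_ge i j with hlt | hge
    · rcases Nat.eq_zero_or_pos i with rfl | hp
      · exact hz (by omega) h2 _ (Subgroup.mem_zpowers _)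
      · have hc := commute_rep h hp j (by omega) h2
        rw [← hc.eq, mul_inv_cancel_right]
        exact hH i (by omega)
    · -- `i > j`
      have key := rep_shift h hi j h1 (by omega)
      rw [key, mul_inv_cancel_right]
      exact hH _ (by omega)
  have hsq : x 0 ^ 2 = (x 0)⁻¹ := by
    rw [eq_inv_iff_mul_eq_one, ← pow_succ]
    exact h.cube
  have ht := twist hk h
  have h1 := inv_eq_self h le_rfl hk
  rintro r (⟨j, ⟨hj1, hj2⟩, rfl⟩ | rfl | rfl)
  · exact hA j hj1 hj2
  · rcases Nat.eq_zero_or_pos i with rfl | hp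
    · refine ⟨rep x k 1 * x 0 ^ 2, Or.inr (Or.inr rfl), ?_⟩
      rw [mul_assoc (rep x k 1), ← pow_two, mul_inv_cancel]
      exact one_mem _
    refine ⟨rep x k 1 * x 0 ^ 2, Or.inr (Or.inr rfl), ?_⟩
    rcases Nat.lt_or_ge i 2 with hi2 | hi2
    · obtain rfl : i = 1 := by omega
      have e : rep x k 1 * x 0 * x 1 * (rep x k 1 * x 0 ^ 2)⁻¹ =
          rep x k 2 * (x 0)⁻¹ * (rep x k 2)⁻¹ := by
        rw [rep_step k 1 hi, hsq, mul_assoc (rep x k 2 * x 1), mul_assoc (rep x k 2),
          ← mul_assoc (x 1), ht.1]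
        simp only [mul_inv_rev, mul_assoc, inv_inv, inv_mul_cancel_left, mul_inv_cancel_left]
      rw [e]
      exact hz le_rfl (by omega) _ (inv_mem (Subgroup.mem_zpowers _))
    · have e : x 0 * x i = x i * x 0 ^ 2 := by
        rw [hsq]
        have hv := invert_zero h hi2 hi
        calc x 0 * x i = x 0 * (x i * x 0) * (x 0)⁻¹ := by group
          _ = x i * (x 0)⁻¹ := by rw [hv, ← mul_assoc, mul_inv_cancel, one_mul]
      rw [mul_assoc (rep x k 1), e, ← mul_assoc, rep_shift h hi 1 le_rfl (by omega), mul_assoc (x (i - 1)),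
        mul_inv_cancel_right]
      exact hH _ (by omega)
  · rcases Nat.eq_zero_or_pos i with rfl | hp
    · refine ⟨rep x k 1, rep_mem le_rfl (by omega), ?_⟩
      rw [mul_assoc (rep x k 1), ← pow_succ, h.cube, mul_one, mul_inv_cancel]
      exact one_mem _
    refine ⟨rep x k 1 * x 0, Or.inr (Or.inl rfl), ?_⟩
    rcases Nat.lt_or_ge i 2 with hi2 | hi2
    · obtain rfl : i = 1 := by omega
      have e : rep x k 1 * x 0 ^ 2 * x 1 * (rep x k 1 * x 0)⁻¹ =
          rep x k 2 * x 0 * (rep x k 2)⁻¹ := by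
        rw [rep_step k 1 hi, hsq, mul_assoc (rep x k 2 * x 1), mul_assoc (rep x k 2),
          ← mul_assoc (x 1), ht.2]
        simp only [mul_inv_rev, mul_assoc, mul_inv_cancel_left]
      rw [e]
      exact hz le_rfl (by omega) _ (Subgroup.mem_zpowers _)
    · have e : x 0 ^ 2 * x i = x i * x 0 := by
        rw [hsq, invert_zero h hi2 hi]
      rw [mul_assoc (rep x k 1), e, ← mul_assoc, rep_shift h hi 1 le_rfl (by omega), mul_assoc (x (i - 1)),
        mul_inv_cancel_right]
      exact hH _ (by omega)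

theorem finite_and_card_le (x : ℕ → G) : ∀ k, 1 ≤ k → Rels x k →
    (Subgroup.closure (x '' Set.Iio k) : Set G).Finite ∧
      2 * (Subgroup.closure (x '' Set.Iio k) : Set G).ncard ≤ (k + 2).factorial := by
  intro k hk
  induction k, hk using Nat.le_induction with
  | base =>
    intro h
    have he : Subgroup.closure (x '' Set.Iio 1) = Subgroup.zpowers (x 0) := by
      rw [Subgroup.zpowers_eq_closure, show Set.Iio 1 = {0} by ext; simp, Set.image_singleton]
    have ho : orderOf (x 0) ∣ 3 := orderOf_dvd_of_pow_eq_one h.cube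
    have hf : IsOfFinOrder (x 0) := isOfFinOrder_iff_pow_eq_one.mpr ⟨3, by norm_num, h.cube⟩
    rw [he]
    refine ⟨hf.finite_zpowers, ?_⟩
    rw [show ((Subgroup.zpowers (x 0) : Set G)).ncard = orderOf (x 0) from
      (Nat.card_coe_set_eq _).symm.trans (Nat.card_zpowers _)]
    have := Nat.le_of_dvd (by norm_num) ho
    simp only [Nat.factorial]
    omega
  | succ k hk ih =>
    intro h
    obtain ⟨hfin, hcard⟩ := ih (h.mono (by omega))
    set H := Subgroup.closure (x '' Set.Iio k)
    have hH : ∀ i, i < k → x i ∈ H := fun i hi => Subgroup.subset_closure ⟨i, hi, rfl⟩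
    have hR : (reps x k).Finite := ((Set.finite_Icc _ _).image _).union (by simp)
    have hRc : (reps x k).ncard ≤ k + 3 := by
      refine (Set.ncard_union_le _ _).trans ?_
      have h1 := Set.ncard_image_le (f := fun j => rep x k j) (Set.finite_Icc 1 (k + 1))
      have h2 := Set.ncard_insert_le (rep x k 1 * x 0) ({rep x k 1 * x 0 ^ 2} : Set G)
      rw [Set.ncard_singleton] at h2
      have h3 : (Set.Icc 1 (k + 1)).ncard = k + 1 := by
        rw [← Finset.coe_Icc, Set.ncard_coe_finset, Nat.card_Icc]; omega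
      omega
    have hsub : (Subgroup.closure (x '' Set.Iio (k + 1)) : Set G) ⊆
        (fun p : G × G => p.1 * p.2) '' ((H : Set G) ×ˢ reps x k) := by
      have hmul : ∀ i, i ≤ k → ∀ g, (∃ r ∈ reps x k, g * r⁻¹ ∈ H) →
          ∃ r ∈ reps x k, g * x i * r⁻¹ ∈ H := by
        rintro i hi g ⟨r, hr, hg⟩
        obtain ⟨r', hr', hg'⟩ := step_mem hk h H hH hi r hr
        refine ⟨r', hr', ?_⟩
        rw [show g * x i * r'⁻¹ = (g * r⁻¹) * (r * x i * r'⁻¹) by group]
        exact mul_mem hg hg'
      intro g hg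
      suffices hs : ∃ r ∈ reps x k, g * r⁻¹ ∈ H by
        obtain ⟨r, hr, hgr⟩ := hs
        exact ⟨(g * r⁻¹, r), ⟨hgr, hr⟩, inv_mul_cancel_right g r⟩
      refine Subgroup.closure_induction_right (p := fun g _ => ∃ r ∈ reps x k, g * r⁻¹ ∈ H)
        ⟨rep x k (k + 1), rep_mem (by omega) le_rfl, by rw [rep_top, inv_one, mul_one]; exact one_mem _⟩
        ?_ ?_ hg
      · rintro g _ _ ⟨i, hi, rfl⟩ hg
        exact hmul i (Nat.lt_succ_iff.mp hi) g hg
      · rintro g _ _ ⟨i, hi, rfl⟩ hg
        have hi' : i ≤ k := Nat.lt_succ_iff.mp hi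
        rcases Nat.eq_zero_or_pos i with rfl | hp
        · rw [show (x 0)⁻¹ = x 0 * x 0 from
            (eq_inv_of_mul_eq_one_left (by rw [← pow_two, ← pow_succ]; exact h.cube)).symm,
            ← mul_assoc]
          exact hmul 0 hi' _ (hmul 0 hi' g hg)
        · rw [inv_eq_self h hp hi']
          exact hmul i hi' g hg
    have hfin' := (hfin.prod hR).image (fun p : G × G => p.1 * p.2)
    refine ⟨hfin'.subset hsub, ?_⟩
    have h4 := (Set.ncard_le_ncard hsub hfin').trans (Set.ncard_image_le (hfin.prod hR))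
    rw [Set.ncard_prod] at h4
    calc 2 * (Subgroup.closure (x '' Set.Iio (k + 1)) : Set G).ncard
        ≤ 2 * ((H : Set G).ncard * (reps x k).ncard) := Nat.mul_le_mul_left 2 h4
      _ ≤ (k + 2).factorial * (k + 3) := by
          rw [← mul_assoc]; exact Nat.mul_le_mul hcard hRc
      _ = (k + 1 + 2).factorial := by
          rw [show k + 1 + 2 = (k + 2) + 1 by omega, Nat.factorial_succ (k + 2)]; ring

section Perm

variable {α : Type*} [DecidableEq α] {a b c d e : α}

theorem perm_three (h1 : a ≠ b) (h2 : a ≠ c) (h3 : b ≠ c) :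
    (Equiv.swap a b * Equiv.swap b c) ^ 3 = 1 := by
  ext z
  by_cases za : z = a <;> by_cases zb : z = b <;> by_cases zc : z = c <;>
    simp_all [pow_succ, Equiv.swap_apply_of_ne_of_ne, h1.symm, h2.symm, h3.symm]

theorem perm_two (h1 : a ≠ c) (h2 : a ≠ d) (h3 : b ≠ c) (h4 : b ≠ d) :
    (Equiv.swap a b * Equiv.swap c d) ^ 2 = 1 := by
  have hd : Equiv.swap a b * Equiv.swap c d = Equiv.swap c d * Equiv.swap a b := by
    ext z
    by_cases za : z = a <;> by_cases zb : z = b <;> by_cases zc : z = c <;> by_cases zd : z = d <;>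
      simp_all [Equiv.swap_apply_of_ne_of_ne, h1.symm, h2.symm, h3.symm, h4.symm]
  rw [pow_two]
  nth_rewrite 2 [hd]
  rw [mul_assoc, ← mul_assoc (Equiv.swap c d), Equiv.swap_mul_self, one_mul, Equiv.swap_mul_self]

theorem perm_comm (h1 : a ≠ c) (h2 : a ≠ d) (h3 : b ≠ c) (h4 : b ≠ d) :
    Equiv.swap a b * Equiv.swap c d = Equiv.swap c d * Equiv.swap a b := by
  ext z
  by_cases za : z = a <;> by_cases zb : z = b <;> by_cases zc : z = c <;> by_cases zd : z = d <;>
    simp_all [Equiv.swap_apply_of_ne_of_ne, h1.symm, h2.symm, h3.symm, h4.symm]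

theorem perm_cycle_conj (h1 : a ≠ b) (h2 : a ≠ c) (h3 : b ≠ c) :
    Equiv.swap a b * Equiv.swap b c * Equiv.swap a b = Equiv.swap a c := by
  ext z
  by_cases za : z = a <;> by_cases zb : z = b <;> by_cases zc : z = c <;>
    simp_all [Equiv.swap_apply_of_ne_of_ne, h1.symm, h2.symm, h3.symm]

theorem perm_step (h1 : a ≠ b) (h2 : a ≠ c) (h3 : a ≠ d) (h4 : b ≠ c) (h5 : b ≠ d) (h6 : c ≠ d) :
    (Equiv.swap a b * Equiv.swap c d) * (Equiv.swap a b * Equiv.swap b c) *
      (Equiv.swap a b * Equiv.swap c d) = (Equiv.swap a b * Equiv.swap b d)⁻¹ := by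
  rw [mul_inv_rev, Equiv.swap_inv, Equiv.swap_inv]
  ext z
  by_cases za : z = a <;> by_cases zb : z = b <;> by_cases zc : z = c <;> by_cases zd : z = d <;>
    simp_all [Equiv.swap_apply_of_ne_of_ne, h1.symm, h2.symm, h3.symm, h4.symm, h5.symm, h6.symm]

end Perm

/-- The point `i` of `Fin n`. -/
def pt {n : ℕ} (hn : 3 ≤ n) (i : ℕ) : Fin n := ⟨i % n, Nat.mod_lt _ (by omega)⟩

theorem pt_ne {n : ℕ} (hn : 3 ≤ n) {i j : ℕ} (hi : i < n) (hj : j < n) (h : i ≠ j) :
    pt hn i ≠ pt hn j := by
  simp [pt, Fin.ext_iff, Nat.mod_eq_of_lt hi, Nat.mod_eq_of_lt hj, h]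

/-- The image of the generator of index `i`. -/
def img {n : ℕ} (hn : 3 ≤ n) (i : ℕ) : Equiv.Perm (Fin n) :=
  if i = 0 then Equiv.swap (pt hn 0) (pt hn 1) * Equiv.swap (pt hn 1) (pt hn 2)
  else Equiv.swap (pt hn 0) (pt hn 1) * Equiv.swap (pt hn (i + 1)) (pt hn (i + 2))

theorem img_sign {n : ℕ} (hn : 3 ≤ n) {i : ℕ} (hi : i + 2 < n) : Equiv.Perm.sign (img hn i) = 1 := by
  unfold img
  split_ifs with h
  · rw [map_mul, Equiv.Perm.sign_swap (pt_ne hn (by omega) (by omega) (by omega)),
      Equiv.Perm.sign_swap (pt_ne hn (by omega) (by omega) (by omega))]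
    rfl
  · rw [map_mul, Equiv.Perm.sign_swap (pt_ne hn (by omega) (by omega) (by omega)),
      Equiv.Perm.sign_swap (pt_ne hn (by omega) (by omega) (by omega))]
    rfl

theorem img_rels {n : ℕ} (hn : 3 ≤ n) : Rels (img hn) (n - 2) := by
  have ne : ∀ {i j : ℕ}, i < n → j < n → i ≠ j → pt hn i ≠ pt hn j := fun hi hj h => pt_ne hn hi hj h
  refine ⟨?_, fun i h1 h2 => ?_, fun i h => ?_, fun i j h1 h2 => ?_⟩
  · rw [img, if_pos rfl]
    exact perm_three (ne (by omega) (by omega) (by omega)) (ne (by omega) (by omega) (by omega))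
      (ne (by omega) (by omega) (by omega))
  · rw [img, if_neg (by omega)]
    apply perm_two <;> apply ne <;> omega
  · rcases Nat.eq_zero_or_pos i with rfl | hp
    · have e : img hn 0 * img hn (0 + 1) = Equiv.swap (pt hn 0) (pt hn 2) * Equiv.swap (pt hn 2) (pt hn 3) := by
        rw [img, if_pos rfl, img, if_neg (by omega), ← mul_assoc,
          perm_cycle_conj (ne (by omega) (by omega) (by omega)) (ne (by omega) (by omega) (by omega))
            (ne (by omega) (by omega) (by omega))]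
      rw [e]
      apply perm_three <;> apply ne <;> omega
    · have e : img hn i * img hn (i + 1) =
          Equiv.swap (pt hn (i + 1)) (pt hn (i + 2)) * Equiv.swap (pt hn (i + 2)) (pt hn (i + 3)) := by
        rw [img, if_neg (by omega), img, if_neg (by omega),
          perm_comm (ne (by omega) (by omega) (by omega)) (ne (by omega) (by omega) (by omega))
            (ne (by omega) (by omega) (by omega)) (ne (by omega) (by omega) (by omega)),
          mul_assoc, Equiv.swap_mul_self_mul]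
      rw [e]
      apply perm_three <;> apply ne <;> omega
  · rcases Nat.eq_zero_or_pos i with rfl | hp
    · have e : img hn 0 * img hn j = Equiv.swap (pt hn 0) (pt hn 2) *
          Equiv.swap (pt hn (j + 1)) (pt hn (j + 2)) := by
        rw [img, if_pos rfl, img, if_neg (by omega), ← mul_assoc,
          perm_cycle_conj (ne (by omega) (by omega) (by omega)) (ne (by omega) (by omega) (by omega))
            (ne (by omega) (by omega) (by omega))]
      rw [e]
      apply perm_two <;> apply ne <;> omega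
    · have e : img hn i * img hn j =
          Equiv.swap (pt hn (i + 1)) (pt hn (i + 2)) * Equiv.swap (pt hn (j + 1)) (pt hn (j + 2)) := by
        rw [img, if_neg (by omega), img, if_neg (by omega),
          perm_comm (ne (by omega) (by omega) (by omega)) (ne (by omega) (by omega) (by omega))
            (ne (by omega) (by omega) (by omega)) (ne (by omega) (by omega) (by omega)),
          mul_assoc, Equiv.swap_mul_self_mul]
      rw [e]
      apply perm_two <;> apply ne <;> omega

theorem even_mem {n : ℕ} (hn : 3 ≤ n) {σ : Equiv.Perm (Fin n)} (hσ : Equiv.Perm.sign σ = 1) :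
    σ ∈ Subgroup.closure (img hn '' Set.Iio (n - 2)) := by
  set R := Subgroup.closure (img hn '' Set.Iio (n - 2)) with hRdef
  have hR : ∀ i, i + 2 < n → img hn i ∈ R := fun i hi =>
    Subgroup.subset_closure ⟨i, by simp only [Set.mem_Iio]; omega, rfl⟩
  have hsgn : ∀ τ ∈ R, Equiv.Perm.sign τ = 1 := by
    intro τ hτ
    induction hτ using Subgroup.closure_induction with
    | mem τ hτ =>
      obtain ⟨i, hi, rfl⟩ := hτ
      simp only [Set.mem_Iio] at hi
      exact img_sign hn (by omega)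
    | one => exact map_one _
    | mul u v _ _ hu hv => rw [map_mul, hu, hv, one_mul]
    | inv u _ hu => rw [map_inv, hu, inv_one]
  have ne : ∀ {i j : ℕ}, i < n → j < n → i ≠ j → pt hn i ≠ pt hn j := fun hi hj h => pt_ne hn hi hj h
  set t := Equiv.swap (pt hn 0) (pt hn 1) with ht
  have hcyc : ∀ i, 2 ≤ i → i < n → t * Equiv.swap (pt hn 1) (pt hn i) ∈ R := by
    intro i hi
    induction i, hi using Nat.le_induction with
    | base =>
      intro _
      have := hR 0 (by omega)
      rwa [img, if_pos rfl] at this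
    | succ i hi ih =>
      intro hlt
      have hx := hR (i - 1) (by omega)
      rw [img, if_neg (by omega), show i - 1 + 1 = i by omega, show i - 1 + 2 = i + 1 by omega] at hx
      have h := mul_mem (mul_mem hx (ih (by omega))) hx
      rw [ht, perm_step (ne (by omega) (by omega) (by omega)) (ne (by omega) (by omega) (by omega))
        (ne (by omega) (by omega) (by omega)) (ne (by omega) (by omega) (by omega))
        (ne (by omega) (by omega) (by omega)) (ne (by omega) (by omega) (by omega))] at h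
      exact inv_mem_iff.mp h
  have htt : t * t = 1 := Equiv.swap_mul_self _ _
  have hstar : ∀ a : Fin n, pt hn 0 ≠ a → Equiv.swap (pt hn 0) a * t ∈ R := by
    intro a ha
    obtain ⟨v, hv⟩ := a
    have hva : (⟨v, hv⟩ : Fin n) = pt hn v := by simp [pt, Nat.mod_eq_of_lt hv]
    rw [hva] at ha ⊢
    rcases Nat.lt_or_ge v 2 with h2 | h2
    · interval_cases v
      · exact absurd rfl ha
      · rw [← ht, htt]; exact one_mem _
    · rw [← perm_cycle_conj (ne (by omega) (by omega) (show 0 ≠ 1 by omega))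
        (ne (by omega) hv (show 0 ≠ v by omega)) (ne (by omega) hv (show 1 ≠ v by omega)), ← ht,
        mul_assoc, htt, mul_one]
      exact hcyc v h2 hv
  have hswap : ∀ a b : Fin n, a ≠ b → Equiv.swap a b * t ∈ R := by
    intro a b hab
    by_cases ha : pt hn 0 = a
    · subst ha; exact hstar b hab
    by_cases hb : pt hn 0 = b
    · subst hb; rw [Equiv.swap_comm]; exact hstar a ha
    have h := mul_mem (mul_mem (hstar a ha) (inv_mem (hstar b hb))) (hstar a ha)
    rw [mul_inv_rev, show t⁻¹ = t from Equiv.swap_inv _ _, Equiv.swap_inv] at h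
    rw [← perm_cycle_conj (a := a) (b := pt hn 0) (c := b) (Ne.symm ha) hab hb, Equiv.swap_comm a]
    rwa [show Equiv.swap (pt hn 0) a * t * (t * Equiv.swap (pt hn 0) b) * (Equiv.swap (pt hn 0) a * t) =
      Equiv.swap (pt hn 0) a * Equiv.swap (pt hn 0) b * Equiv.swap (pt hn 0) a * t by
        simp only [mul_assoc]; rw [← mul_assoc t t, htt, one_mul]] at h
  have hnorm : ∀ τ ∈ R, t * τ * t ∈ R := by
    intro τ hτ
    induction hτ using Subgroup.closure_induction with
    | mem τ hτ =>
      obtain ⟨i, hi, rfl⟩ := hτ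
      simp only [Set.mem_Iio] at hi
      unfold img
      split_ifs with h0
      · rw [← ht, ← mul_assoc t t, htt, one_mul]
        have := inv_mem (hR 0 (by omega))
        rw [img, if_pos rfl, mul_inv_rev, Equiv.swap_inv, Equiv.swap_inv] at this
        exact this
      · have := hR i (by omega)
        rw [img, if_neg h0] at this
        rw [← ht, ← mul_assoc t t, htt, one_mul]
        rw [perm_comm (ne (by omega) (by omega) (by omega)) (ne (by omega) (by omega) (by omega))
          (ne (by omega) (by omega) (by omega)) (ne (by omega) (by omega) (by omega))] at this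
        exact this
    | one => rw [mul_one, htt]; exact one_mem _
    | mul u v _ _ hu hv =>
      have := mul_mem hu hv
      rwa [show t * u * t * (t * v * t) = t * (u * v) * t by
        simp only [mul_assoc]; rw [← mul_assoc t t, htt, one_mul]] at this
    | inv u _ hu =>
      have := inv_mem hu
      rwa [mul_inv_rev, mul_inv_rev, show t⁻¹ = t from Equiv.swap_inv _ _, ← mul_assoc] at this
  have main : ∀ σ : Equiv.Perm (Fin n), σ ∈ R ∨ σ * t ∈ R := by
    intro σ
    induction σ using Equiv.Perm.swap_induction_on with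
    | one => exact Or.inl (one_mem _)
    | swap_mul f a b hab ih =>
      rcases ih with h | h
      · right
        have := mul_mem (hswap a b hab) (hnorm f h)
        rwa [show Equiv.swap a b * t * (t * f * t) = Equiv.swap a b * f * t by
          simp only [mul_assoc]; rw [← mul_assoc t t, htt, one_mul]] at this
      · left
        have := mul_mem (hswap a b hab) (hnorm _ h)
        rwa [show Equiv.swap a b * t * (t * (f * t) * t) = Equiv.swap a b * f by
          simp only [mul_assoc]; rw [← mul_assoc t t, htt, one_mul, mul_one]] at this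
  refine (main σ).resolve_right fun h => ?_
  have := hsgn _ h
  rw [map_mul, hσ, one_mul, ht, Equiv.Perm.sign_swap (ne (by omega) (by omega) (by omega))] at this
  exact absurd this (by decide)

theorem relsP (n : ℕ) (hn : 3 ≤ n) (S : Set (FreeGroup (Fin (n - 2))))
    (hS : S = {g : FreeGroup (Fin (n - 2)) | ∃ i : Fin (n - 2), i.val = 0 ∧ g = FreeGroup.of i ^ 3} ∪
       {g | ∃ i : Fin (n - 2), 1 ≤ i.val ∧ g = FreeGroup.of i ^ 2} ∪
       {g | ∃ i j : Fin (n - 2), j.val = i.val + 1 ∧ g = (FreeGroup.of i * FreeGroup.of j) ^ 3} ∪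
       {g | ∃ i j : Fin (n - 2), i.val + 1 < j.val ∧ g = (FreeGroup.of i * FreeGroup.of j) ^ 2}) :
    Rels (fun i => if h : i < n - 2 then (PresentedGroup.of ⟨i, h⟩ : PresentedGroup S) else 1) (n - 2) := by
  have hone : ∀ r ∈ S, PresentedGroup.mk S r = 1 := fun r hr => PresentedGroup.one_of_mem hr
  refine ⟨?_, fun i h1 h2 => ?_, fun i h => ?_, fun i j h1 h2 => ?_⟩
  · rw [dif_pos (by omega)]
    have h := hone (FreeGroup.of (⟨0, by omega⟩ : Fin (n - 2)) ^ 3)
      (by rw [hS]; exact Or.inl (Or.inl (Or.inl ⟨_, rfl, rfl⟩)))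
    rwa [map_pow] at h
  · rw [dif_pos h2]
    have h := hone (FreeGroup.of (⟨i, h2⟩ : Fin (n - 2)) ^ 2)
      (by rw [hS]; exact Or.inl (Or.inl (Or.inr ⟨_, h1, rfl⟩)))
    rwa [map_pow] at h
  · simp only [dif_pos h, dif_pos (show i < n - 2 by omega)]
    have h' := hone ((FreeGroup.of (⟨i, by omega⟩ : Fin (n - 2)) * FreeGroup.of ⟨i + 1, h⟩) ^ 3)
      (by rw [hS]; exact Or.inl (Or.inr ⟨_, _, rfl, rfl⟩))
    rwa [map_pow, map_mul] at h'
  · simp only [dif_pos h2, dif_pos (show i < n - 2 by omega)]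
    have h' := hone ((FreeGroup.of (⟨i, by omega⟩ : Fin (n - 2)) * FreeGroup.of ⟨j, h2⟩) ^ 2)
      (by rw [hS]; exact Or.inr ⟨_, _, h1, rfl⟩)
    rwa [map_pow, map_mul] at h'

/-- A presentation of the alternating group of degree n ≥ 3 on generators x_1, …, x_{n−2} (indexed here by 0, …, n−3): the first generator cubes to 1, every other generator squares to 1, the product of two consecutive generators has order dividing 3, and the product of two generators at distance at least 2 has order dividing 2. The group so presented is isomorphic to the alternating group of degree n. -/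
theorem result (n : ℕ) (hn : 3 ≤ n) :
    Nonempty (PresentedGroup
      ({g : FreeGroup (Fin (n - 2)) | ∃ i : Fin (n - 2), i.val = 0 ∧ g = FreeGroup.of i ^ 3} ∪
       {g | ∃ i : Fin (n - 2), 1 ≤ i.val ∧ g = FreeGroup.of i ^ 2} ∪
       {g | ∃ i j : Fin (n - 2), j.val = i.val + 1 ∧ g = (FreeGroup.of i * FreeGroup.of j) ^ 3} ∪
       {g | ∃ i j : Fin (n - 2), i.val + 1 < j.val ∧ g = (FreeGroup.of i * FreeGroup.of j) ^ 2})
      ≃* alternatingGroup (Fin n)) := by
  classical
  set S : Set (FreeGroup (Fin (n - 2))) :=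
    {g : FreeGroup (Fin (n - 2)) | ∃ i : Fin (n - 2), i.val = 0 ∧ g = FreeGroup.of i ^ 3} ∪
       {g | ∃ i : Fin (n - 2), 1 ≤ i.val ∧ g = FreeGroup.of i ^ 2} ∪
       {g | ∃ i j : Fin (n - 2), j.val = i.val + 1 ∧ g = (FreeGroup.of i * FreeGroup.of j) ^ 3} ∪
       {g | ∃ i j : Fin (n - 2), i.val + 1 < j.val ∧ g = (FreeGroup.of i * FreeGroup.of j) ^ 2} with hS
  set y : ℕ → PresentedGroup S := fun i => if h : i < n - 2 then PresentedGroup.of ⟨i, h⟩ else 1
  obtain ⟨hfin, hcard⟩ := finite_and_card_le y (n - 2) (by omega) (relsP n hn S hS)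
  have htop : Subgroup.closure (y '' Set.Iio (n - 2)) = ⊤ := by
    rw [eq_top_iff, ← PresentedGroup.closure_range_of, Subgroup.closure_le]
    rintro _ ⟨i, rfl⟩
    exact Subgroup.subset_closure ⟨i.1, i.2, by simp [y, i.2]⟩
  rw [htop, Subgroup.coe_top] at hfin hcard
  have : Finite (PresentedGroup S) := Set.finite_univ_iff.mp hfin
  rw [Set.ncard_univ, show n - 2 + 2 = n by omega] at hcard
  let f : Fin (n - 2) → alternatingGroup (Fin n) := fun i =>
    ⟨img hn i, Equiv.Perm.mem_alternatingGroup.mpr (img_sign hn (by have := i.2; omega))⟩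
  have hf : ∀ r ∈ S, FreeGroup.lift f r = 1 := by
    have hr := img_rels hn
    rintro r (((⟨i, h, rfl⟩ | ⟨i, h, rfl⟩) | ⟨i, j, h, rfl⟩) | ⟨i, j, h, rfl⟩) <;>
      simp only [map_pow, map_mul, FreeGroup.lift_apply_of] <;> refine Subtype.ext ?_ <;>
      simp only [SubgroupClass.coe_pow, Subgroup.coe_mul, OneMemClass.coe_one, f]
    · rw [h]; exact hr.cube
    · exact hr.sq _ h i.2
    · rw [h]; exact hr.adj _ (h ▸ j.2)
    · exact hr.far _ _ h j.2
  let θ := PresentedGroup.toGroup hf
  have hsurj : Function.Surjective θ := by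
    rintro ⟨σ, hσ⟩
    have hle : Subgroup.closure (img hn '' Set.Iio (n - 2)) ≤
        θ.range.map (alternatingGroup (Fin n)).subtype := by
      rw [Subgroup.closure_le]
      rintro _ ⟨i, hi, rfl⟩
      exact ⟨f ⟨i, hi⟩, ⟨PresentedGroup.of ⟨i, hi⟩, PresentedGroup.toGroup.of hf⟩, rfl⟩
    obtain ⟨_, ⟨p, rfl⟩, hp⟩ := hle (even_mem hn (Equiv.Perm.mem_alternatingGroup.mp hσ))
    exact ⟨p, Subtype.ext hp⟩
  have : Nontrivial (Fin n) := Fin.nontrivial_iff_two_le.mpr (by omega)
  have hA := two_mul_nat_card_alternatingGroup (α := Fin n)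
  rw [Nat.card_perm, Nat.card_eq_fintype_card (α := Fin n), Fintype.card_fin] at hA
  have hc : Nat.card (PresentedGroup S) = Nat.card (alternatingGroup (Fin n)) :=
    le_antisymm (by omega) (Nat.card_le_card_of_surjective θ hsurj)
  exact ⟨MulEquiv.ofBijective θ ((Nat.bijective_iff_surjective_and_card θ).mpr ⟨hsurj, hc⟩)⟩

end Cfsg.Agent.S3335
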