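import Cfsg.Statements.S0984
import Cfsg.Agent.Lib.SmallGroups.Order2520.Recognition
-- import your own Cfsg.Agent.* helpers here

set_option autoImplicit false
open Cfsg

namespace Cfsg.Agent.S0984

/-- A simple group of order 2520 is isomorphic to the alternating group of degree 7. -/
theorem result {G : Type*} [Group G] [Finite G] [IsSimpleGroup G] (h : Nat.card G = 2520) : Nonempty (G ≃* alternatingGroup (Fin 7)) := by
  haveI := Fintype.ofFinite G
  haveI : Fact (Nat.Prime 2) := ⟨Nat.prime_two⟩
  haveI : Fact (Nat.Prime 3) := ⟨Nat.prime_three⟩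
  obtain ⟨H, hH⟩ := Lib.SmallGroups.Order2520.exists_index_seven h
  have hne : H ≠ ⊤ := fun hh => by rw [hh, Subgroup.index_top] at hH; norm_num at hH
  have hf := Lib.SmallGroups.exists_injective_alternating (Lib.SmallGroups.Order2520.not_comm h) hne
  rw [hH] at hf
  obtain ⟨f, hf⟩ := hf
  refine ⟨MulEquiv.ofBijective f ((Nat.bijective_iff_injective_and_card f).mpr ⟨hf, ?_⟩)⟩
  rw [h, nat_card_alternatingGroup, Nat.card_eq_fintype_card, Fintype.card_fin]
  rfl

end Cfsg.Agent.S0984
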