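import Cfsg.Statements.S0742
import Mathlib
import Cfsg.Agent.Lib.Perm.ZassenhausBasics
import Cfsg.Agent.Lib.Perm.ZassenhausPGL

set_option autoImplicit false
open Cfsg

namespace Cfsg.Agent.S0742

open Cfsg.Agent.Lib.Perm Cfsg.Agent.Lib.Perm.Zassenhaus

/-- A finite Zassenhaus group of degree `n + 1` with two-point stabilisers of even order `d` satisfying `2d ≤ n - 1` has `n = p^f` for an odd prime `p` and is isomorphic to `PSL(2, p^f)`. -/
theorem result {G Ω : Type*} [Group G] [Finite G] [MulAction G Ω] [Fintype Ω] (hZ : Cfsg.IsZassenhausGroup G Ω) {a b : Ω} (hab : a ≠ b) (heven : Even (Nat.card ↥(MulAction.stabilizer G a ⊓ MulAction.stabilizer G b))) (hd : 2 * Nat.card ↥(MulAction.stabilizer G a ⊓ MulAction.stabilizer G b) ≤ Fintype.card Ω - 2) : ∃ (p f : ℕ) (K : Type) (_ : Field K) (_ : Fintype K), p.Prime ∧ p ≠ 2 ∧ Fintype.card K = p ^ f ∧ Fintype.card Ω = p ^ f + 1 ∧ Nonempty (G ≃* Matrix.ProjectiveSpecialLinearGroup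 (Fin 2) K) := by
  classical
  obtain ⟨hF, h2, h3, hfix, -⟩ := hZ
  obtain ⟨c, hca, hcb⟩ := exists_third hfix a b
  have hn : 3 ≤ Fintype.card Ω := Fintype.two_lt_card_iff.mpr ⟨a, b, c, hab, hca.symm, hcb.symm⟩
  obtain ⟨hge, hinvol⟩ := swap_count h2 h3 hab hn heven
  have hinvol := hinvol hd
  obtain ⟨K₀, hK₀⟩ := Cfsg.Agent.Lib.Zassenhaus.exists_isKer h2 h3 hfix a
  have : Fact (Nat.Prime 2) := ⟨Nat.prime_two⟩
  obtain ⟨t, ht⟩ := exists_prime_orderOf_dvd_card'
    (G := ↥(MulAction.stabilizer G a ⊓ MulAction.stabilizer G b)) 2 (even_iff_two_dvd.mp heven)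
  have hT := ZassenhausBasics.isKernel_of_involution h3 hK₀ hab.symm (t := (t : G))
    (Subgroup.mem_inf.mp t.2).1 (Subgroup.mem_inf.mp t.2).2
    (fun h => by rw [← Subgroup.orderOf_coe, h, orderOf_one] at ht; omega)
    (mul_self_of_orderOf (by rw [Subgroup.orderOf_coe]; exact ht))
  obtain ⟨s₀, hs₀a, hs₀b⟩ := exists_smul_pair h2 hab hab.symm
  obtain ⟨K, iK, iF, hK, hchar, hiso⟩ := ZassenhausPGL.exists_mulEquiv_PSL h2 h3 hT hab.symm hca hcb
    (ZassenhausBasics.comm_of_inverted (s := s₀) fun h hh =>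
      ZassenhausBasics.inverts_of_swaps_involutions hinvol hs₀a hs₀b hh)
    (le_antisymm hd hge) (fun s h1 h2' h hh => ZassenhausBasics.inverts_of_swaps_involutions hinvol h1 h2' hh)
  obtain ⟨p, hp⟩ := CharP.exists K
  obtain ⟨f, hprime, hcard⟩ := FiniteField.card K p
  refine ⟨p, f, K, iK, iF, hprime, fun h => hchar ?_, hcard, by omega, hiso⟩
  rw [ringChar.eq K p, h]

end Cfsg.Agent.S0742
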