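import Cfsg.Statements.S0497
import Mathlib
import Cfsg.Agent.Lib.SmallGroups.Order360
import Cfsg.Agent.S0742
import Cfsg.Agent.S0254

set_option autoImplicit false
open Cfsg

namespace Cfsg.Agent.S0497


/-- A simple group of order 360 is isomorphic to the alternating group of degree 6. -/
theorem result {G : Type*} [Group G] [Finite G] [IsSimpleGroup G]
    (h : Nat.card G = 360) : Nonempty (G ≃* alternatingGroup (Fin 6)) := by
  haveI : Fact (Nat.Prime 5) := ⟨by norm_num⟩
  haveI : Fact (Nat.Prime 3) := ⟨Nat.prime_three⟩
  have hG := Lib.SmallGroups.Order360.not_comm h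
  have hn := Lib.SmallGroups.card_sylow_mem hG (p := 5) (k := 1) (m := 72) (by rw [h]; norm_num)
    (by norm_num) (by norm_num)
  rw [show (Nat.divisors 72).filter (fun d => d % 5 = 1 ∧ d ≠ 1) = {6, 36} by decide +kernel] at hn
  simp only [Finset.mem_insert, Finset.mem_singleton] at hn
  rcases hn with h6 | h36
  · -- a subgroup of index six
    have P : Sylow 5 G := default
    have key : ∀ n, n = 6 → ∀ f : G →* alternatingGroup (Fin n), Function.Injective f →
        Nonempty (G ≃* alternatingGroup (Fin 6)) := by
      rintro n rfl f hf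
      refine ⟨MulEquiv.ofBijective f ((Nat.bijective_iff_injective_and_card f).mpr ⟨hf, ?_⟩)⟩
      have h2 := two_mul_nat_card_alternatingGroup (α := Fin 6)
      rw [Nat.card_perm, Nat.card_fin, show Nat.factorial 6 = 720 from rfl] at h2
      omega
    obtain ⟨f, hf⟩ := Lib.SmallGroups.exists_injective_alternating hG
      (Lib.SmallGroups.normalizer_sylow_ne_top hG (by rw [h]; norm_num) P)
    exact key _ (P.card_eq_index_normalizer.symm.trans h6) f hf
  · -- the action on the ten Sylow 3-subgroups is that of a Zassenhaus group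
    classical
    haveI := Fintype.ofFinite (Sylow 3 G)
    have hc : Fintype.card (Sylow 3 G) = 10 := by
      rw [← Nat.card_eq_fintype_card, Lib.SmallGroups.Order360.sylow_three_number h]
    obtain ⟨a, b, hab⟩ := Fintype.exists_pair_of_one_lt_card (by omega : 1 < Fintype.card (Sylow 3 G))
    have h4 := Lib.SmallGroups.Order360.card_stab_two h h36 hab
    obtain ⟨p, f, K, iK, iF, -, -, hK, hΩ, ⟨e⟩⟩ :=
      Cfsg.Agent.S0742.result (Lib.SmallGroups.Order360.isZassenhaus h h36) hab
        (by rw [h4]; decide) (by rw [h4, hc])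
    obtain ⟨e'⟩ := Cfsg.Agent.S0254.result (F := K) (by omega)
    exact ⟨e.trans e'⟩

end Cfsg.Agent.S0497
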