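import Cfsg.Statements.S3035
import Cfsg.Agent.Lib.InvCentralizer.Dihedral
import Cfsg.Agent.Lib.BSW.Main
import Cfsg.Agent.Lib.Involution.KleinFourSylow
import Cfsg.Agent.Lib.MinimalNormal
import Cfsg.Agent.Lib.PSolvable.Core
import Cfsg.Agent.S0495
import Cfsg.Agent.S0497
import Cfsg.Agent.S0255

set_option autoImplicit false
open Cfsg

namespace Cfsg.Agent.S3035

open Cfsg.Agent.Lib

variable {G : Type*} [Group G] [Finite G]

theorem d4_facts : ∀ d : DihedralGroup 4, (d * d = 1 ∨ d * d = .r 2) ∧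
    ((∀ m, d * m = m * d) → d = 1 ∨ d = .r 2) ∧
    (d = 1 ∨ d = .r 2 ∨ ∃ y, d * y * d⁻¹ * y⁻¹ = .r 2) ∧ (∃ y : DihedralGroup 4, y * y = .r 2) := by
  decide +kernel

theorem zmod_two_cube : ∀ r : ZMod 2, r ^ 3 = 1 → r = 1 := by decide

/-- a normal subgroup with odd order is trivial when the odd core is -/
theorem eq_bot_of_odd (hO : Cfsg.oddCore G = ⊥) {K : Subgroup G} (hK : K.Normal)
    (hodd : ¬ 2 ∣ Nat.card K) : K = ⊥ := by
  haveI := hK
  have : K ≤ Cfsg.oddCore G := PSolvable.le_pPrimeCore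
    (Nat.Coprime.symm (Nat.prime_two.coprime_iff_not_dvd.mpr hodd))
  rwa [hO, le_bot_iff] at this

/-- Burnside transfer inside a normal subgroup -/
theorem eq_of_central_sylow (hO : Cfsg.oddCore G = ⊥) {N D : Subgroup G} [N.Normal] (hDN : D ≤ N)
    (h2 : IsPGroup 2 D) (hodd : ¬ 2 ∣ D.relIndex N)
    (hcen : ∀ n ∈ N, (∀ d, d ∈ D ↔ n * d * n⁻¹ ∈ D) → ∀ d ∈ D, n * d = d * n) : D = N := by
  haveI : Fact (Nat.Prime 2) := ⟨Nat.prime_two⟩
  let P : Sylow 2 N := IsPGroup.toSylow (P := D.subgroupOf N)
    (IsPGroup.of_equiv h2 (Subgroup.subgroupOfEquivOfLe hDN).symm) hodd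
  have hNC : Subgroup.normalizer ((P : Subgroup N) : Set N) ≤ Subgroup.centralizer ((P : Subgroup N) : Set N) := by
    intro n hn
    rw [Subgroup.mem_centralizer_iff]
    intro d hd
    have hmem : ∀ {y : N}, y ∈ (P : Subgroup N) ↔ (y : G) ∈ D := fun {y} => Iff.rfl
    refine Subtype.ext (hcen n n.2 (fun x => ⟨fun hx => ?_, fun hx => ?_⟩) d (hmem.mp hd)).symm
    · exact hmem.mp ((Subgroup.mem_normalizer_iff.mp hn ⟨x, hDN hx⟩).mp (hmem.mpr hx))
    · have hxN : x ∈ N := by
        have := N.mul_mem (N.mul_mem (N.inv_mem n.2) (hDN hx)) n.2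
        simpa [mul_assoc] using this
      exact hmem.mp ((Subgroup.mem_normalizer_iff.mp hn ⟨x, hxN⟩).mpr (hmem.mpr hx))
  set K := MonoidHom.ker (MonoidHom.transferSylow P hNC)
  have hcompl : Subgroup.IsComplement' K (P : Subgroup N) :=
    MonoidHom.ker_transferSylow_isComplement' P hNC
  have hKc : Nat.card K = (P : Subgroup N).index := (hcompl.index_eq_card).symm
  have hK : ¬ 2 ∣ Nat.card K := by rw [hKc]; exact hodd
  have hiff : ∀ x : N, x ∈ K ↔ ¬ 2 ∣ orderOf x := by
    intro x
    refine ⟨fun hx h => hK (h.trans (Subgroup.orderOf_dvd_natCard _ hx)), fun h => ?_⟩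
    rw [MonoidHom.mem_ker]
    obtain ⟨k, hk⟩ := IsPGroup.iff_orderOf.mp P.isPGroup' (MonoidHom.transferSylow P hNC x)
    have hd := orderOf_map_dvd (MonoidHom.transferSylow P hNC) x
    rw [hk] at hd
    rcases k with _ | k
    · rwa [pow_zero, orderOf_eq_one_iff] at hk
    · exact absurd ((dvd_pow_self 2 k.succ_ne_zero).trans hd) h
  have hKG : (K.map N.subtype).Normal := by
    refine ⟨fun x hx g => ?_⟩
    obtain ⟨y, hy, rfl⟩ := hx
    refine ⟨⟨g * y * g⁻¹, ‹N.Normal›.conj_mem _ y.2 g⟩, ?_, rfl⟩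
    rw [SetLike.mem_coe, hiff] at hy ⊢
    rwa [← Subgroup.orderOf_coe, show ((⟨g * y * g⁻¹, ‹N.Normal›.conj_mem _ y.2 g⟩ : N) : G) = g * y * g⁻¹ from rfl,
      Involution.orderOf_conj_eq, Subgroup.orderOf_coe]
  have hbot := eq_bot_of_odd hO hKG (by rwa [Subgroup.card_map_of_injective N.subtype_injective])
  have : K = ⊥ := by simpa [Subgroup.map_eq_bot_iff_of_injective _ N.subtype_injective] using hbot
  rw [this] at hcompl
  have htop := Subgroup.isComplement'_bot_left.mp hcompl
  exact le_antisymm hDN (Subgroup.subgroupOf_eq_top.mp htop)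

theorem card_four_pair {D : Subgroup G} (hc : Nat.card D = 4) {a b : G} (ha : a ∈ D) (hb : b ∈ D) :
    a * b = b * a := by
  haveI : Fact (Nat.Prime 2) := ⟨Nat.prime_two⟩
  have := (IsPGroup.commGroupOfCardEqPrimeSq (p := 2) (G := D) (by rw [hc]; rfl)).mul_comm ⟨a, ha⟩ ⟨b, hb⟩
  exact congrArg Subtype.val this

/-- no subgroup of index two -/
theorem case_eight {z : G} (hz : orderOf z = 2)
    (e : ↥(Subgroup.centralizer ({z} : Set G)) ≃* DihedralGroup 4)
    (hC : ¬ 2 ∣ (Subgroup.centralizer ({z} : Set G)).index)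
    {N : Subgroup G} (hN : N.Normal) (hCN : Subgroup.centralizer ({z} : Set G) ≤ N)
    (hmin : ∀ M : Subgroup G, M.Normal → M ≠ ⊥ → N ≤ M) :
    IsSimpleGroup G ∧ (Nat.card G = 168 ∨ Nat.card G = 360) := by
  haveI := Fintype.ofFinite G
  haveI : Fintype ↥(Subgroup.centralizer ({z} : Set G)) := Fintype.ofFinite _
  have hzC : z ∈ Subgroup.centralizer ({z} : Set G) := Subgroup.mem_centralizer_singleton_iff.mpr rfl
  have hzN : z ∈ N := hCN hzC
  have hC8 : Nat.card ↥(Subgroup.centralizer ({z} : Set G)) = 8 := by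
    rw [Nat.card_congr e.toEquiv, DihedralGroup.nat_card]
  haveI : Nontrivial G := ⟨z, 1, Involution.ne_one hz⟩
  have h1 : Nat.card G = 168 ∨ Nat.card G = 360 := by
    haveI := Fintype.ofFinite G
    refine InvCentralizer.card_of_dihedral_centralizer z hz (fun H hH => ?_) e
    have hHb : H ≠ ⊥ := fun h => by
      rw [h, Subgroup.index_bot] at hH
      have := Subgroup.card_subgroup_dvd_card (Subgroup.centralizer ({z} : Set G))
      rw [hC8, hH] at this
      norm_num at this
    exact hC ((hH ▸ dvd_rfl : 2 ∣ H.index).trans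
      (Subgroup.index_dvd_of_le (hCN.trans (hmin H (Subgroup.normal_of_index_eq_two hH) hHb))))
  let ι : ↥(Subgroup.centralizer ({(⟨z, hzN⟩ : N)} : Set N)) ≃* ↥(Subgroup.centralizer ({z} : Set G)) :=
    { toFun := fun x => ⟨((x : N) : G), Subgroup.mem_centralizer_singleton_iff.mpr
        (congrArg Subtype.val (Subgroup.mem_centralizer_singleton_iff.mp x.2))⟩
      invFun := fun x => ⟨⟨(x : G), hCN x.2⟩, Subgroup.mem_centralizer_singleton_iff.mpr
        (Subtype.ext (Subgroup.mem_centralizer_singleton_iff.mp x.2))⟩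
      left_inv := fun x => rfl
      right_inv := fun x => rfl
      map_mul' := fun x y => rfl }
  have h2 : Nat.card N = 168 ∨ Nat.card N = 360 := by
    haveI := Fintype.ofFinite N
    refine InvCentralizer.card_of_dihedral_centralizer (⟨z, hzN⟩ : N)
      (by rw [← Subgroup.orderOf_coe]; exact hz) (fun H hH => ?_) (ι.trans e)
    let R : Subgroup G := Subgroup.closure {x | ∃ y ∈ N, y * y = x}
    have hR : R.Normal := by
      refine ⟨fun x hx g => ?_⟩
      have hle : R ≤ R.comap (MulAut.conj g).toMonoidHom := by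
        refine (Subgroup.closure_le _).mpr ?_
        rintro _ ⟨y, hy, rfl⟩
        refine Subgroup.subset_closure ⟨g * y * g⁻¹, hN.conj_mem y hy g, ?_⟩
        simp [mul_assoc]
      simpa using hle hx
    obtain ⟨-, -, -, y, hy⟩ := d4_facts 1
    obtain ⟨hz1, hz2, hz3⟩ := InvCentralizer.tImage_props e hz
    have hzi : InvCentralizer.tImage e = .r 2 := ((d4_facts _).2.1 hz3).resolve_left hz2
    have hzR : z ∈ R := by
      refine Subgroup.subset_closure ⟨(e.symm y : G), hCN (e.symm y).2, ?_⟩
      rw [← Subgroup.coe_mul, ← map_mul, hy, ← hzi, InvCentralizer.symm_coe_tImage]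
    have hRH : R ≤ H.map N.subtype := by
      rw [Subgroup.closure_le]
      rintro _ ⟨y, hy, rfl⟩
      exact ⟨⟨y, hy⟩ * ⟨y, hy⟩, Subgroup.mul_self_mem_of_index_two hH _, rfl⟩
    have hRne : R ≠ ⊥ := fun h => by
      rw [h, Subgroup.mem_bot] at hzR
      exact Involution.ne_one hz hzR
    have hHN : N ≤ H.map N.subtype := (hmin R hR hRne).trans hRH
    have : H = ⊤ := eq_top_iff.mpr fun x _ => by
      obtain ⟨x', hx', he⟩ := hHN x.2
      exact N.subtype_injective he ▸ hx'
    rw [this, Subgroup.index_top] at hH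
    omega
  have hNtop : N = ⊤ := by
    refine Subgroup.eq_top_of_card_eq _ ?_
    have hd := Subgroup.card_subgroup_dvd_card N
    rcases h1 with h1 | h1 <;> rcases h2 with h2 | h2 <;> rw [h1, h2] at hd ⊢ <;> omega
  refine ⟨⟨fun M hM => ?_⟩, h1⟩
  by_cases hb : M = ⊥
  · exact Or.inl hb
  · exact Or.inr (eq_top_iff.mpr (hNtop ▸ hmin M hM hb))

/-- the case of a Klein four Sylow subgroup of the minimal normal subgroup -/
theorem case_four (hO : Cfsg.oddCore G = ⊥) {z : G} (hz : orderOf z = 2)
    (e : ↥(Subgroup.centralizer ({z} : Set G)) ≃* DihedralGroup 4)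
    (hCodd : ¬ 2 ∣ (Subgroup.centralizer ({z} : Set G)).index)
    {N : Subgroup G} (hN : N.Normal) (hzN : z ∈ N)
    (hmin : ∀ M : Subgroup G, M.Normal → M ≠ ⊥ → N ≤ M)
    (hD4 : Nat.card ↥(N ⊓ Subgroup.centralizer ({z} : Set G)) = 4)
    (hDodd : ¬ 2 ∣ (N ⊓ Subgroup.centralizer ({z} : Set G)).relIndex N)
    (hsol : IsPGroup 2 N → ∀ d ∈ N, d * d = 1) :
    Subgroup.centralizer ({z} : Set G) = ⊤ ∨ Nonempty (G ≃* Equiv.Perm (Fin 4)) ∨
      Nonempty (G ≃* Equiv.Perm (Fin 5)) := by
  classical
  haveI : Fact (Nat.Prime 2) := ⟨Nat.prime_two⟩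
  haveI : Fact (Nat.Prime 3) := ⟨Nat.prime_three⟩
  have hmem : ∀ {x : G}, x ∈ Subgroup.centralizer ({z} : Set G) ↔ x * z = z * x :=
    Subgroup.mem_centralizer_singleton_iff
  set C := Subgroup.centralizer ({z} : Set G) with hCdef
  set D := N ⊓ C with hDdef
  haveI := hN
  have hzC : z ∈ C := hmem.mpr rfl
  have hzD : z ∈ D := ⟨hzN, hzC⟩
  have hC8 : Nat.card C = 8 := by rw [Nat.card_congr e.toEquiv, DihedralGroup.nat_card]
  have hD2 : IsPGroup 2 D := IsPGroup.of_card (n := 2) (by rw [hD4]; rfl)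
  haveI := Fintype.ofFinite G
  haveI : Fintype ↥(Subgroup.centralizer ({z} : Set G)) := Fintype.ofFinite _
  obtain ⟨hz1, hz2, hz3⟩ := InvCentralizer.tImage_props e hz
  have hzi : InvCentralizer.tImage e = .r 2 := ((d4_facts _).2.1 hz3).resolve_left hz2
  have hze : ∀ {x : C}, e x = .r 2 → (x : G) = z := fun {x} h => by
    rw [← hzi] at h
    rw [e.injective h]
  have hsq : ∀ d ∈ D, d * d = 1 := by
    intro d hd
    by_contra hne
    have hdz : d * d = z := by
      rcases (d4_facts (e ⟨d, hd.2⟩)).1 with h | h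
      · exact absurd (congrArg Subtype.val ((map_eq_one_iff e e.injective).mp
          (show e (⟨d, hd.2⟩ * ⟨d, hd.2⟩) = 1 by rw [map_mul, h]))) hne
      · exact hze (x := ⟨d, hd.2⟩ * ⟨d, hd.2⟩) (by rw [map_mul, h])
    have hDN : D = N := by
      refine eq_of_central_sylow hO inf_le_left hD2 hDodd fun n hn hnD x hx => ?_
      have h2 : (n * d * n⁻¹) * (n * d * n⁻¹) = n * z * n⁻¹ := by rw [← hdz]; group
      have hnd : n * d * n⁻¹ ∈ D := (hnD d).mp hd
      rcases (d4_facts (e ⟨n * d * n⁻¹, hnd.2⟩)).1 with h | h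
      · have := congrArg Subtype.val ((map_eq_one_iff e e.injective).mp
          (show e (⟨n * d * n⁻¹, hnd.2⟩ * ⟨n * d * n⁻¹, hnd.2⟩) = 1 by rw [map_mul, h]))
        simp only [Subgroup.coe_mul, Subgroup.coe_one, h2, conj_eq_one_iff] at this
        exact absurd this (Involution.ne_one hz)
      · have := hze (x := ⟨n * d * n⁻¹, hnd.2⟩ * ⟨n * d * n⁻¹, hnd.2⟩) (by rw [map_mul, h])
        simp only [Subgroup.coe_mul, h2, mul_inv_eq_iff_eq_mul] at this
        exact card_four_pair hD4 ⟨hn, hmem.mpr this⟩ hx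
    exact hne (hsol (hDN ▸ hD2) d hd.1)
  have hconjIdx : Nat.card {y : G // IsConj z y} = C.index := by
    have h := Involution.card_isConj_mul_card_centralizer z
    have h2 := C.index_mul_card
    exact Nat.eq_of_mul_eq_mul_right Nat.card_pos (h.trans h2.symm)
  have hz1' := Involution.ne_one hz
  by_cases hcent : ∀ n ∈ N, (∀ d, d ∈ D ↔ n * d * n⁻¹ ∈ D) → ∀ d ∈ D, n * d = d * n
  · -- `N` is a Klein four group
    have hDN : D = N := eq_of_central_sylow hO inf_le_left hD2 hDodd hcent
    let f : {y : G // IsConj z y} → {y : ↥D // y ≠ 1} := fun y =>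
      ⟨⟨y.1, by
        obtain ⟨g, hg⟩ := isConj_iff.mp y.2
        rw [hDN, ← hg]; exact hN.conj_mem z hzN g⟩, fun h => by
        have := Involution.isConj_orderOf y.2
        rw [congrArg Subtype.val h, hz] at this
        simp at this⟩
    have hf : Function.Injective f := fun a b h => Subtype.ext (congrArg (fun w => ((w.1 : ↥D) : G)) h)
    have hle := Nat.card_le_card_of_injective f hf
    have h3 : Nat.card {y : ↥D // y ≠ 1} = 3 := by
      haveI := Fintype.ofFinite ↥D
      rw [Nat.card_eq_fintype_card, Fintype.card_subtype_compl, Fintype.card_subtype_eq,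
        ← Nat.card_eq_fintype_card, hD4]
    rw [h3, hconjIdx] at hle
    by_cases hi : C.index = 1
    · exact Or.inl (Subgroup.index_eq_one.mp hi)
    have hi3 : C.index = 3 := by
      have : C.index ≠ 0 := Subgroup.index_ne_zero_of_finite
      omega
    have hG : Nat.card G = 24 := by rw [← C.index_mul_card, hi3, hC8]
    obtain ⟨P⟩ : Nonempty (Sylow 3 G) := inferInstance
    have hP : Nat.card P = 3 := by
      have h := P.card_eq_multiplicity
      rwa [hG, show (24 : ℕ).factorization 3 = 1 from by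
        rw [Nat.factorization_def _ Nat.prime_three]
        rw [show (24 : ℕ) = 3 ^ 1 * 8 from rfl, padicValNat.mul (by norm_num) (by norm_num), padicValNat.prime_pow,
          padicValNat.eq_zero_of_not_dvd (by norm_num)], pow_one] at h
    have hn4 : Nat.card (Sylow 3 G) = 4 := by
      have h1 : Nat.card (Sylow 3 G) ∣ 8 := by
        have h := Sylow.card_dvd_index P
        have h2 : (P : Subgroup G).index = 8 := by
          have := (P : Subgroup G).index_mul_card
          rw [hG, hP] at this; omega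
        rwa [h2] at h
      have h2 := card_sylow_modEq_one 3 G
      have h3 : Nat.card (Sylow 3 G) ≠ 1 := fun h1 => by
        haveI : Subsingleton (Sylow 3 G) := (Nat.card_eq_one_iff_unique.mp h1).1
        have hn : (P : Subgroup G).Normal := Sylow.normal_of_subsingleton P
        have := eq_bot_of_odd hO hn (by rw [hP]; norm_num)
        rw [this, Subgroup.card_bot] at hP
        omega
      have h4 := Nat.le_of_dvd (by norm_num) h1
      exact (show ∀ m, m ≤ 8 → m ∣ 8 → m % 3 = 1 → m ≠ 1 → m = 4 by decide +kernel) _ h4 h1 h2 h3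
    let φ := MulAction.toPermHom G (Sylow 3 G)
    have hinj : Function.Injective φ := by
      rw [← MonoidHom.ker_eq_bot_iff]
      by_contra hne
      have hzK : z ∈ φ.ker := hmin _ (MonoidHom.normal_ker φ) hne hzN
      have hzP : z • P = P := by
        have := congrArg (fun π : Equiv.Perm (Sylow 3 G) => π P) (MonoidHom.mem_ker.mp hzK)
        simpa [φ] using this
      rw [Sylow.smul_eq_iff_mem_normalizer] at hzP
      have : (P : Subgroup G) ≤ C := by
        intro x hx
        refine hmem.mpr ?_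
        have h1 : x * z * x⁻¹ * z⁻¹ ∈ N :=
          N.mul_mem (hN.conj_mem z hzN x) (N.inv_mem hzN)
        have h2 : x * z * x⁻¹ * z⁻¹ ∈ (P : Subgroup G) := by
          have := (P : Subgroup G).mul_mem hx ((Subgroup.mem_normalizer_iff.mp hzP x⁻¹).mp ((P : Subgroup G).inv_mem hx))
          simpa [mul_assoc] using this
        have h3 : x * z * x⁻¹ * z⁻¹ = 1 := by
          rw [← orderOf_eq_one_iff]
          have a1 := Subgroup.orderOf_dvd_natCard _ (hDN ▸ h1 : x * z * x⁻¹ * z⁻¹ ∈ D)
          have a2 := Subgroup.orderOf_dvd_natCard _ h2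
          rw [hD4] at a1
          rw [hP] at a2
          exact Nat.eq_one_of_dvd_coprimes (by norm_num) a1 a2
        rwa [mul_inv_eq_one, mul_inv_eq_iff_eq_mul] at h3
      have := Subgroup.card_dvd_of_le this
      rw [hC8, hP] at this
      norm_num at this
    haveI := Fintype.ofFinite (Sylow 3 G)
    let ε : Sylow 3 G ≃ Fin 4 := Finite.equivFinOfCardEq hn4
    refine Or.inr (Or.inl ⟨MulEquiv.ofBijective (ε.permCongrHom.toMonoidHom.comp φ) ?_⟩)
    rw [Nat.bijective_iff_injective_and_card]
    refine ⟨ε.permCongrHom.injective.comp hinj, ?_⟩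
    rw [hG, Nat.card_perm, Nat.card_fin]; rfl
  -- the involutions of `N` are fused
  push Not at hcent
  obtain ⟨n, hn, hnD, d₁, hd₁, hnd₁⟩ := hcent
  let zN : N := ⟨z, hzN⟩
  have hzN2 : orderOf zN = 2 := by rw [← Subgroup.orderOf_coe]; exact hz
  let P : Sylow 2 N := IsPGroup.toSylow (P := D.subgroupOf N)
    (IsPGroup.of_equiv hD2 (Subgroup.subgroupOfEquivOfLe inf_le_left).symm) hDodd
  have hPmem : ∀ {x : N}, x ∈ (P : Subgroup N) ↔ (x : G) ∈ C := fun {x} =>
    ⟨fun h => (show (x : G) ∈ D from h).2, fun h => (show (x : G) ∈ D from ⟨x.2, h⟩)⟩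
  have hPK : IsKleinFour (P : Subgroup N) := by
    have hc : Nat.card (P : Subgroup N) = 4 := by
      rw [← hD4]; exact Nat.card_congr (Subgroup.subgroupOfEquivOfLe inf_le_left).toEquiv
    refine ⟨hc, ?_⟩
    have hexp : Monoid.exponent (P : Subgroup N) ∣ 2 := Monoid.exponent_dvd_of_forall_pow_eq_one fun x =>
      Subtype.ext (Subtype.ext (by rw [pow_two]; exact hsq _ x.2))
    haveI : Nontrivial (P : Subgroup N) := Finite.one_lt_card_iff_nontrivial.mp (by rw [hc]; norm_num)
    exact ((Nat.dvd_prime Nat.prime_two).mp hexp).resolve_left fun h =>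
      (not_subsingleton (P : Subgroup N)) (Monoid.exp_eq_one_iff.mp h)
  have hzP : zN ∈ (P : Subgroup N) := hPmem.mpr hzC
  have hnz : n * z * n⁻¹ ≠ z := fun h => by
    rw [mul_inv_eq_iff_eq_mul] at h
    exact hnd₁ (card_four_pair hD4 ⟨hn, hmem.mpr h⟩ hd₁)
  have hconjN : ∀ y : N, orderOf y = 2 → IsConj zN y := by
    intro y hy
    obtain ⟨g, hg⟩ := Involution.exists_conj_mem_sylow_two P hy
    have hb : (⟨n * z * n⁻¹, ((hnD z).mp hzD).1⟩ : N) ∈ (P : Subgroup N) := hPmem.mpr ((hnD z).mp hzD).2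
    have := Involution.kleinFour_isConj_all P hPK hzP hb (fun h => hz1' (congrArg Subtype.val h))
      (fun h => hnz (congrArg Subtype.val h).symm) (isConj_iff.mpr ⟨⟨n, hn⟩, Subtype.ext rfl⟩) hg
      (fun h => by
        have h' := Involution.orderOf_conj_eq g y
        rw [h, orderOf_one, hy] at h'; omega)
    exact this.trans (isConj_iff.mpr ⟨g⁻¹, by group⟩)
  have hCN : Subgroup.centralizer ({zN} : Set N) = (P : Subgroup N) := by
    ext x
    rw [hPmem, hmem, Subgroup.mem_centralizer_singleton_iff, Subtype.ext_iff]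
    rfl
  obtain ⟨s, hsP, hsne⟩ : ∃ s : N, s ∈ (P : Subgroup N) ∧ s ∉ Subgroup.zpowers zN := by
    by_contra hh
    push Not at hh
    have := Subgroup.card_le_of_le (show (P : Subgroup N) ≤ Subgroup.zpowers zN from hh)
    rw [hPK.card_four, Nat.card_zpowers, hzN2] at this; omega
  have hs2 : orderOf s = 2 := Involution.orderOf_eq_two (Involution.kleinFour_mul_self P hPK hsP)
    (fun h => hsne (h ▸ one_mem _))
  have hzle : Subgroup.zpowers zN ≤ (P : Subgroup N) := Subgroup.zpowers_le.mpr hzP
  obtain ⟨S, hSK, -⟩ := BSW.exists_setup zN hzN2 (Subgroup.zpowers zN) inferInstance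
    (Subgroup.zpowers_le.mpr (Subgroup.mem_centralizer_singleton_iff.mpr rfl)) (Subgroup.mem_zpowers zN)
    s hs2 (hCN ▸ hsP) hsne
    (by
      rw [hCN]
      refine le_antisymm (sup_le hzle (Subgroup.zpowers_le.mpr hsP)) ?_
      have hcard : 4 ≤ Nat.card ↥(Subgroup.zpowers zN ⊔ Subgroup.zpowers s) := by
        have h2 : Nat.card ↥(Subgroup.zpowers zN) ∣ Nat.card ↥(Subgroup.zpowers zN ⊔ Subgroup.zpowers s) :=
          Subgroup.card_dvd_of_le le_sup_left
        rw [Nat.card_zpowers, hzN2] at h2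
        have hne : Nat.card ↥(Subgroup.zpowers zN ⊔ Subgroup.zpowers s) ≠ 2 := fun h => by
          have := Subgroup.eq_of_le_of_card_ge (le_sup_left : Subgroup.zpowers zN ≤ Subgroup.zpowers zN ⊔ Subgroup.zpowers s)
            (by rw [h, Nat.card_zpowers, hzN2])
          exact hsne (this ▸ Subgroup.mem_sup_right (Subgroup.mem_zpowers s))
        have : 0 < Nat.card ↥(Subgroup.zpowers zN ⊔ Subgroup.zpowers s) := Nat.card_pos
        omega
      refine (Subgroup.eq_of_le_of_card_ge (sup_le hzle (Subgroup.zpowers_le.mpr hsP)) ?_).ge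
      rw [hPK.card_four]; exact hcard)
    (le_antisymm inf_le_left (le_inf le_rfl (Subgroup.zpowers_le.mpr
      (Subgroup.mem_centralizer_singleton_iff.mpr (Involution.kleinFour_commute P hPK hzP hsP)))))
    (fun x hx => by
      rw [Involution.kleinFour_commute P hPK hsP (hzle hx), mul_inv_cancel_right]
      exact (Involution.inv_eq_self (Involution.kleinFour_mul_self P hPK (hzle hx))).symm)
    (fun g hg => by
      rw [eq_bot_iff]
      rintro x ⟨hx, y, hy, hxy⟩
      have hz' : ∀ w ∈ Subgroup.zpowers zN, w = 1 ∨ w = zN := fun w hw => by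
        obtain ⟨k, rfl⟩ := Subgroup.mem_zpowers_iff.mp hw
        rw [← zpow_mod_orderOf, hzN2]
        rcases Int.emod_two_eq_zero_or_one k with h | h <;> simp [h]
      rcases hz' x hx with rfl | rfl
      · exact one_mem _
      rcases hz' y hy with rfl | rfl
      · simp at hxy; exact absurd hxy.symm (fun h => hz1' (congrArg Subtype.val h))
      · refine absurd (Subgroup.mem_centralizer_singleton_iff.mpr ?_) hg
        simp only [MulEquiv.coe_toMonoidHom, MulAut.conj_apply] at hxy
        exact mul_inv_eq_iff_eq_mul.mp hxy)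
    (fun x y hx hy => (hconjN x hx).symm.trans (hconjN y hy))
  have hN60 : Nat.card N = 60 ∨ Nat.card N = 12 := by
    have h := S.card_group
    rw [hSK, Nat.card_zpowers, hzN2] at h
    omega
  rcases hN60 with hN60 | hN12
  · -- `N` has five Sylow 2-subgroups
    have hnorm : Nat.card ↥(Subgroup.normalizer ((P : Subgroup N) : Set N)) ∣ 60 :=
      hN60 ▸ Subgroup.card_subgroup_dvd_card _
    have hn5 : Nat.card (Sylow 2 N) = 5 := by
      have hidx : Nat.card (Sylow 2 N) = (Subgroup.normalizer ((P : Subgroup N) : Set N)).index :=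
        P.card_eq_index_normalizer
      have hmul := (Subgroup.normalizer ((P : Subgroup N) : Set N)).index_mul_card
      rw [hN60, ← hidx] at hmul
      -- the normalizer has order twelve
      have hnN : (⟨n, hn⟩ : N) ∈ Subgroup.normalizer ((P : Subgroup N) : Set N) := by
        rw [Subgroup.mem_normalizer_iff]
        exact fun x => hnD (x : G)
      have hnP : (⟨n, hn⟩ : N) ∉ (P : Subgroup N) := fun h =>
        hnd₁ (card_four_pair hD4 h hd₁)
      have h4 : 4 ∣ Nat.card ↥(Subgroup.normalizer ((P : Subgroup N) : Set N)) :=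
        hPK.card_four ▸ Subgroup.card_dvd_of_le Subgroup.le_normalizer
      have hgt : Nat.card ↥(Subgroup.normalizer ((P : Subgroup N) : Set N)) ≠ 4 := fun h => by
        refine hnP ?_
        rw [Subgroup.eq_of_le_of_card_ge (Subgroup.le_normalizer (H := (P : Subgroup N)))
          (by rw [h, hPK.card_four])]
        exact hnN
      have hle : Nat.card ↥(Subgroup.normalizer ((P : Subgroup N) : Set N)) ≤ 12 := by
        -- the stabiliser of `z` in the normalizer is the Sylow subgroup
        set M := Subgroup.normalizer ((P : Subgroup N) : Set N)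
        let f : ↥M ⧸ (P : Subgroup N).subgroupOf M → {y : (P : Subgroup N) // y ≠ 1} :=
          Quotient.lift (fun m => ⟨⟨(m : N) * zN * (m : N)⁻¹, (Subgroup.mem_normalizer_iff.mp m.2 zN).mp hzP⟩,
            fun h => hz1' (congrArg Subtype.val (by simpa using congrArg Subtype.val h : zN = 1))⟩) (by
              intro a b hab
              have hab : ((a : N))⁻¹ * (b : N) ∈ (P : Subgroup N) := Subgroup.mem_subgroupOf.mp (QuotientGroup.leftRel_apply.mp hab)
              refine Subtype.ext (Subtype.ext ?_)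
              have := Involution.kleinFour_commute P hPK hab hzP
              push_cast at this ⊢
              show (a : N) * zN * (a : N)⁻¹ = (b : N) * zN * (b : N)⁻¹
              calc (a : N) * zN * (a : N)⁻¹ = (a : N) * (zN * ((a : N)⁻¹ * b)) * (b : N)⁻¹ := by group
                _ = (a : N) * (((a : N)⁻¹ * b) * zN) * (b : N)⁻¹ := by rw [← this]
                _ = (b : N) * zN * (b : N)⁻¹ := by group)
        have hf : Function.Injective f := by
          intro a b hab
          induction a using QuotientGroup.induction_on with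
          | H a =>
            induction b using QuotientGroup.induction_on with
            | H b =>
              have h := congrArg (fun w => ((w.1 : (P : Subgroup N)) : N)) hab
              refine QuotientGroup.eq.mpr ?_
              rw [Subgroup.mem_subgroupOf, ← hCN, Subgroup.mem_centralizer_singleton_iff]
              push_cast
              change (a : N) * zN * (a : N)⁻¹ = (b : N) * zN * (b : N)⁻¹ at h
              calc (a : N)⁻¹ * b * zN = (a : N)⁻¹ * ((b : N) * zN * (b : N)⁻¹) * b := by group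
                _ = (a : N)⁻¹ * ((a : N) * zN * (a : N)⁻¹) * b := by rw [h]
                _ = zN * ((a : N)⁻¹ * b) := by group
        have h1 := Nat.card_le_card_of_injective f hf
        have h3 : Nat.card {y : (P : Subgroup N) // y ≠ 1} = 3 := by
          haveI := Fintype.ofFinite ↥(P : Subgroup N)
          rw [Nat.card_eq_fintype_card, Fintype.card_subtype_compl, Fintype.card_subtype_eq,
            ← Nat.card_eq_fintype_card, hPK.card_four]
        have h5 := Subgroup.card_eq_card_quotient_mul_card_subgroup ((P : Subgroup N).subgroupOf M)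
        rw [Nat.card_congr (Subgroup.subgroupOfEquivOfLe (Subgroup.le_normalizer (H := (P : Subgroup N)))).toEquiv,
          hPK.card_four] at h5
        omega
      obtain ⟨k, hk⟩ := h4
      have : k = 3 := by
        have hk3 : k ≤ 3 := by omega
        interval_cases k
        · simp at hk
        · omega
        · rw [hk] at hnorm; norm_num at hnorm
        · rfl
      rw [hk, this] at hmul
      omega
    let φ := (MulAction.toPermHom (MulAut N) (Sylow 2 N)).comp (MulAut.conjNormal (H := N))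
    have hinj : Function.Injective φ := by
      rw [← MonoidHom.ker_eq_bot_iff]
      by_contra hne
      have hle := hmin _ (MonoidHom.normal_ker φ) hne
      have hP : (P : Subgroup N).Normal := by
        refine ⟨fun x hx g => ?_⟩
        have h := congrArg (fun π : Equiv.Perm (Sylow 2 N) => π P) (MonoidHom.mem_ker.mp (hle g.2))
        have h' : (MulAut.conjNormal (g : G) : MulAut N) • P = P := by simpa [φ] using h
        have h'' := congrArg (fun Q : Sylow 2 N => (Q : Subgroup N)) h'
        simp only [Sylow.pointwise_smul_def, Subgroup.pointwise_smul_def] at h''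
        rw [← h'']
        exact ⟨x, hx, Subtype.ext (by simp)⟩
      haveI := hP
      letI := Sylow.unique_of_normal P hP
      have : Nat.card (Sylow 2 N) = 1 := Nat.card_unique
      omega
    let ε : Sylow 2 N ≃ Fin 5 := Finite.equivFinOfCardEq hn5
    have hcard : Nat.card G = 120 := by
      have h1 : Nat.card G ∣ 120 := by
        have := Subgroup.card_dvd_of_injective (ε.permCongrHom.toMonoidHom.comp φ) (ε.permCongrHom.injective.comp hinj)
        rwa [Nat.card_perm, Nat.card_fin] at this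
      have h2 : 8 ∣ Nat.card G := hC8 ▸ Subgroup.card_subgroup_dvd_card C
      have h3 : 60 ∣ Nat.card G := hN60 ▸ Subgroup.card_subgroup_dvd_card N
      exact Nat.dvd_antisymm h1 (show Nat.lcm 8 60 ∣ Nat.card G from Nat.lcm_dvd h2 h3)
    refine Or.inr (Or.inr ⟨MulEquiv.ofBijective (ε.permCongrHom.toMonoidHom.comp φ) ?_⟩)
    rw [Nat.bijective_iff_injective_and_card]
    refine ⟨ε.permCongrHom.injective.comp hinj, ?_⟩
    rw [hcard, Nat.card_perm, Nat.card_fin]; rfl
  · -- order twelve: `D` would be normal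
    exfalso
    have hcls : Nat.card {y : N // IsConj zN y} = 3 := by
      have h := Involution.card_isConj_mul_card_centralizer zN
      rw [hCN, hPK.card_four, hN12] at h
      omega
    let f : {y : (P : Subgroup N) // y ≠ 1} → {y : N // IsConj zN y} := fun y =>
      ⟨y.1, hconjN _ (Involution.orderOf_eq_two (Involution.kleinFour_mul_self P hPK y.1.2)
        fun h => y.2 (Subtype.ext h))⟩
    have hfi : Function.Injective f := fun a b h => Subtype.ext (Subtype.ext (congrArg (fun w => (w.1 : N)) h))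
    have h3 : Nat.card {y : (P : Subgroup N) // y ≠ 1} = 3 := by
      haveI := Fintype.ofFinite ↥(P : Subgroup N)
      rw [Nat.card_eq_fintype_card, Fintype.card_subtype_compl, Fintype.card_subtype_eq,
        ← Nat.card_eq_fintype_card, hPK.card_four]
    have hfb : Function.Bijective f :=
      (Nat.bijective_iff_injective_and_card f).mpr ⟨hfi, by rw [h3, hcls]⟩
    have hDn : D.Normal := by
      refine ⟨fun x hx g => ?_⟩
      by_cases hx1 : x = 1
      · simp [hx1]
      have hgx : orderOf (⟨g * x * g⁻¹, hN.conj_mem x hx.1 g⟩ : N) = 2 := by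
        rw [← Subgroup.orderOf_coe]
        show orderOf (g * x * g⁻¹) = 2
        rw [Involution.orderOf_conj_eq]
        exact Involution.orderOf_eq_two (hsq x hx) hx1
      obtain ⟨y, hy⟩ := hfb.2 ⟨_, hconjN _ hgx⟩
      have he : ((y.1 : (P : Subgroup N)) : N) = ⟨g * x * g⁻¹, hN.conj_mem x hx.1 g⟩ := congrArg Subtype.val hy
      have h := y.1.2
      rw [he] at h
      exact h
    have hDN : N ≤ D := hmin D hDn fun h => by
      rw [h, Subgroup.mem_bot] at hzD; exact hz1' hzD
    have := Subgroup.card_le_of_le hDN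
    omega

/-- Let G be a finite group with an involution z whose centralizer is dihedral of order 8. Then G = C_G(z) O(G) with O(G) the largest normal subgroup of odd order, or G is isomorphic to the symmetric group of degree 4, the symmetric group of degree 5, the group SL₃(2), or the alternating group of degree 6. -/
theorem result {G : Type*} [Group G] [Finite G] (z : G) (hz : orderOf z = 2)
    (hC : Nonempty (↥(Subgroup.centralizer ({z} : Set G)) ≃* DihedralGroup 4)) :
    Subgroup.centralizer ({z} : Set G) ⊔ Cfsg.oddCore G = ⊤ ∨ Nonempty (G ≃* Equiv.Perm (Fin 4)) ∨ Nonempty (G ≃* Equiv.Perm (Fin 5)) ∨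
      Nonempty (G ≃* Matrix.SpecialLinearGroup (Fin 3) (ZMod 2)) ∨ Nonempty (G ≃* ↥(alternatingGroup (Fin 6))) := by
  classical
  haveI : Fact (Nat.Prime 2) := ⟨Nat.prime_two⟩
  obtain ⟨e⟩ := hC
  have hmem : ∀ {x : G}, x ∈ Subgroup.centralizer ({z} : Set G) ↔ x * z = z * x :=
    Subgroup.mem_centralizer_singleton_iff
  set C := Subgroup.centralizer ({z} : Set G) with hCdef
  have hzC : z ∈ C := hmem.mpr rfl
  have hz1 := Cfsg.Agent.Lib.Involution.ne_one hz
  haveI := Fintype.ofFinite G
  haveI : Fintype ↥(Subgroup.centralizer ({z} : Set G)) := Fintype.ofFinite _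
  obtain ⟨-, hzi2, hzi3⟩ := Cfsg.Agent.Lib.InvCentralizer.tImage_props e hz
  have hzi : Cfsg.Agent.Lib.InvCentralizer.tImage e = .r 2 := ((d4_facts _).2.1 hzi3).resolve_left hzi2
  have hze : ∀ {x : C}, e x = .r 2 → (x : G) = z := fun {x} h => by
    rw [← hzi] at h
    rw [e.injective h]
  have hC8 : Nat.card C = 8 := by rw [Nat.card_congr e.toEquiv, DihedralGroup.nat_card]
  have hC2 : IsPGroup 2 C := IsPGroup.of_card (n := 3) (by rw [hC8]; rfl)
  obtain ⟨S, hS⟩ := hC2.exists_le_sylow
  have hSC : (S : Subgroup G) = C := by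
    refine le_antisymm ?_ hS
    haveI : Nontrivial (S : Subgroup G) := ⟨⟨z, hS hzC⟩, 1, fun h => hz1 (congrArg Subtype.val h)⟩
    haveI := S.isPGroup'.center_nontrivial
    obtain ⟨⟨w, hw⟩, hw1⟩ := exists_ne (1 : Subgroup.center (S : Subgroup G))
    rw [Subgroup.mem_center_iff] at hw
    have hwC : (w : G) ∈ C := hmem.mpr (congrArg Subtype.val (hw ⟨z, hS hzC⟩)).symm
    have hwc : ∀ m, e ⟨w, hwC⟩ * m = m * e ⟨w, hwC⟩ := by
      intro m
      obtain ⟨y, rfl⟩ := e.surjective m
      rw [← map_mul, ← map_mul]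
      exact congrArg e (Subtype.ext (congrArg Subtype.val (hw ⟨y, hS y.2⟩)).symm)
    have hwz : (w : G) = z := by
      rcases (d4_facts _).2.1 hwc with h | h
      · exact absurd (Subtype.ext (Subtype.ext (congrArg Subtype.val ((map_eq_one_iff e e.injective).mp h) :
          (w : G) = 1))) hw1
      · exact hze h
    intro x hx
    refine hmem.mpr ?_
    rw [← hwz]
    exact congrArg Subtype.val (hw ⟨x, hx⟩)
  have hCodd : ¬ 2 ∣ C.index := hSC ▸ S.not_dvd_index
  -- an even normal subgroup contains `z`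
  have heven : ∀ M : Subgroup G, M.Normal → 2 ∣ Nat.card M → z ∈ M := by
    intro M hM h2
    obtain ⟨u, hu, hu2⟩ := Cfsg.Agent.Lib.Involution.exists_orderOf_eq_two M (even_iff_two_dvd.mpr h2)
    obtain ⟨g, hg⟩ := Cfsg.Agent.Lib.Involution.exists_conj_mem_sylow_two S (t := u) (by assumption)
    rw [hSC] at hg
    have hdM : g * u * g⁻¹ ∈ M := hM.conj_mem u (by assumption) g
    have hd1 : g * u * g⁻¹ ≠ 1 := by
      rw [Ne, conj_eq_one_iff]; exact Cfsg.Agent.Lib.Involution.ne_one (by assumption)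
    rcases (d4_facts (e ⟨_, hg⟩)).2.2.1 with h | h | ⟨y, hy⟩
    · exact absurd (congrArg Subtype.val ((map_eq_one_iff e e.injective).mp h)) hd1
    · exact hze h ▸ hdM
    · obtain ⟨y', rfl⟩ := e.surjective y
      rw [← map_inv, ← map_inv, ← map_mul, ← map_mul, ← map_mul] at hy
      rw [← hze hy]
      push_cast
      rw [show (g * u * g⁻¹) * (y' : G) * (g * u * g⁻¹)⁻¹ * (y' : G)⁻¹ =
        (g * u * g⁻¹) * ((y' : G) * (g * u * g⁻¹)⁻¹ * (y' : G)⁻¹) by group]
      exact M.mul_mem hdM (hM.conj_mem _ (M.inv_mem hdM) _)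
  by_cases hO : Cfsg.oddCore G = ⊥
  swap
  · left
    have hOn : (Cfsg.oddCore G).Normal := Subgroup.sSup_normal _ fun N hN => hN.1
    have hO2 : ¬ 2 ∣ Nat.card (Cfsg.oddCore G) := Cfsg.Agent.Lib.PSolvable.pPrimeCore_not_dvd
    have hOC : ∀ x ∈ Cfsg.oddCore G, x ∈ C → x = 1 := fun x hx hxC => by
      have h1 := Subgroup.orderOf_dvd_natCard _ hx
      have h2 := Subgroup.orderOf_dvd_natCard _ hxC
      rw [hC8] at h2
      exact orderOf_eq_one_iff.mp (Nat.eq_one_of_dvd_coprimes
        (show Nat.Coprime (Nat.card (Cfsg.oddCore G)) (2 ^ 3) from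
          Nat.Coprime.pow_right 3 (Nat.Coprime.symm (Nat.prime_two.coprime_iff_not_dvd.mpr hO2))) h1 h2)
    have hzz := Cfsg.Agent.Lib.Involution.mul_self_eq_one hz
    have hzinv := Cfsg.Agent.Lib.Involution.inv_eq_self hzz
    let f : Cfsg.oddCore G → Cfsg.oddCore G := fun x =>
      ⟨(x : G)⁻¹ * (z * x * z⁻¹), (Cfsg.oddCore G).mul_mem ((Cfsg.oddCore G).inv_mem x.2) (hOn.conj_mem _ x.2 z)⟩
    have hf : Function.Injective f := by
      intro a b hab
      have h : (a : G)⁻¹ * (z * a * z⁻¹) = (b : G)⁻¹ * (z * b * z⁻¹) := congrArg Subtype.val hab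
      have h' : ((b : G) * (a : G)⁻¹) * z = z * ((b : G) * (a : G)⁻¹) := by
        calc ((b : G) * (a : G)⁻¹) * z = b * ((a : G)⁻¹ * (z * a * z⁻¹)) * z * (a : G)⁻¹ := by group
          _ = b * ((b : G)⁻¹ * (z * b * z⁻¹)) * z * (a : G)⁻¹ := by rw [h]
          _ = z * ((b : G) * (a : G)⁻¹) := by group
      have := hOC _ ((Cfsg.oddCore G).mul_mem b.2 ((Cfsg.oddCore G).inv_mem a.2)) (hmem.mpr h')
      exact Subtype.ext (mul_inv_eq_one.mp this).symm
    have hinv : ∀ x ∈ Cfsg.oddCore G, z * x * z = x⁻¹ := by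
      intro x hx
      obtain ⟨y, hy⟩ := (Finite.injective_iff_surjective.mp hf) ⟨x, hx⟩
      have hy' : (y : G)⁻¹ * (z * y * z⁻¹) = x := congrArg Subtype.val hy
      rw [← hy', hzinv]
      simp [mul_assoc, mul_inv_rev, hzinv]
      first | exact hzz | rw [← mul_assoc z z, hzz, one_mul]
    haveI := hOn
    let K : Subgroup G := Subgroup.centralizer (Cfsg.oddCore G : Set G)
    have hKn : K.Normal := inferInstance
    have hzK : z ∉ K := fun h => hO (eq_bot_iff.mpr fun x hx => Subgroup.mem_bot.mpr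
      (hOC x hx (hmem.mpr ((Subgroup.mem_centralizer_iff.mp h) x hx))))
    have hK2 : ¬ 2 ∣ Nat.card K := fun h => hzK (heven K hKn h)
    have hKO : K ≤ Cfsg.oddCore G := Cfsg.Agent.Lib.PSolvable.le_pPrimeCore
      (Nat.Coprime.symm (Nat.prime_two.coprime_iff_not_dvd.mpr hK2))
    rw [eq_top_iff]
    intro g _
    have hw : z * (g * z * g⁻¹) ∈ Cfsg.oddCore G := by
      refine hKO (Subgroup.mem_centralizer_iff.mpr fun x hx => ?_)
      have h1 := hinv x hx
      have h2 := hinv (g⁻¹ * x * g) (by simpa using hOn.conj_mem x hx g⁻¹)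
      have h3 : (g * z * g⁻¹) * x * (g * z * g⁻¹) = x⁻¹ := by
        calc (g * z * g⁻¹) * x * (g * z * g⁻¹) = g * (z * (g⁻¹ * x * g) * z) * g⁻¹ := by group
          _ = x⁻¹ := by rw [h2]; group
      calc x * (z * (g * z * g⁻¹)) = z * (z * x * z) * (g * z * g⁻¹) := by
            simp only [← mul_assoc, hzz, one_mul]
        _ = z * x⁻¹ * (g * z * g⁻¹) := by rw [h1]
        _ = z * ((g * z * g⁻¹) * x * (g * z * g⁻¹)) * (g * z * g⁻¹) := by rw [h3]
        _ = z * (g * z * g⁻¹) * x := by
            simp only [mul_assoc, inv_mul_cancel_left]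
            rw [← mul_assoc z z, hzz, one_mul, mul_inv_cancel, mul_one]
    set w := z * (g * z * g⁻¹) with hwdef
    obtain ⟨j, hj⟩ : ∃ j, orderOf w = 2 * j + 1 := Nat.not_even_iff_odd.mp fun h =>
      hO2 ((even_iff_two_dvd.mp h).trans (Subgroup.orderOf_dvd_natCard _ hw))
    set o := w ^ (j + 1)
    have ho : o ∈ Cfsg.oddCore G := (Cfsg.oddCore G).pow_mem hw _
    have hoo : o * o = w := by
      rw [← pow_add, show j + 1 + (j + 1) = orderOf w + 1 by omega, pow_succ, pow_orderOf_eq_one, one_mul]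
    have hgz : o * g ∈ C := by
      refine hmem.mpr ?_
      have e1 : g * z * g⁻¹ = z * (o * o) := by
        rw [hoo, hwdef, ← mul_assoc z z, hzz, one_mul]
      have e2 : z * o = o⁻¹ * z := by
        have := hinv o ho
        rw [← this]
        simp [mul_assoc, hzz]
      calc o * g * z = o * (g * z * g⁻¹) * g := by group
        _ = o * (z * o * o) * g := by rw [e1, ← mul_assoc z o o]
        _ = z * (o * g) := by rw [e2]; group
    have : g = o⁻¹ * (o * g) := by group
    rw [this]
    exact (C ⊔ Cfsg.oddCore G).mul_mem (Subgroup.mem_sup_right ((Cfsg.oddCore G).inv_mem ho)) (Subgroup.mem_sup_left hgz)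
  -- trivial odd core
  have hzmem : ∀ M : Subgroup G, M.Normal → M ≠ ⊥ → z ∈ M := fun M hM hne =>
    heven M hM (by_contra fun h2 => hne (eq_bot_of_odd hO hM h2))
  haveI : Nontrivial G := ⟨z, 1, hz1⟩
  obtain ⟨N, hN, hNb, -, hNmin⟩ := Cfsg.Agent.Lib.MinimalNormal.exists_minimal_normal_le (M := (⊤ : Subgroup G))
    inferInstance top_ne_bot
  haveI := hN
  have hzN : z ∈ N := hzmem N hN hNb
  have hmin : ∀ M : Subgroup G, M.Normal → M ≠ ⊥ → N ≤ M := fun M hM hne => by
    haveI := hM
    rcases hNmin (M ⊓ N) inferInstance inf_le_right with h | h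
    · exact absurd (Subgroup.mem_bot.mp (h ▸ (⟨hzmem M hM hne, hzN⟩ : z ∈ M ⊓ N))) hz1
    · exact inf_eq_right.mp h
  have hsol : IsPGroup 2 N → ∀ d ∈ N, d * d = 1 := by
    intro h2 d hd
    haveI := h2.isNilpotent
    obtain ⟨-, p, hpp, hp⟩ := Cfsg.Agent.Lib.MinimalNormal.elementaryAbelian N hNb hNmin
    have hp2 : p = 2 := by
      have := orderOf_dvd_of_pow_eq_one (hp z hzN)
      rw [hz] at this
      exact ((Nat.prime_dvd_prime_iff_eq Nat.prime_two hpp).mp this).symm
    rw [← pow_two, ← hp2]; exact hp d hd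
  set D := N ⊓ C with hDdef
  have hDodd : ¬ 2 ∣ D.relIndex N := by
    intro h2
    have hD2 : IsPGroup 2 D := hC2.to_le inf_le_right
    obtain ⟨m, hm⟩ := IsPGroup.iff_card.mp hD2
    have hdvd : 2 ^ (m + 1) ∣ Nat.card N := by
      rw [← Cfsg.Agent.Lib.PSolvable.card_mul_relIndex (inf_le_left : D ≤ N), pow_succ, hm]
      exact Nat.mul_dvd_mul_left _ h2
    obtain ⟨Q⟩ : Nonempty (Sylow 2 N) := inferInstance
    have hQ := Q.pow_dvd_card_of_pow_dvd_card hdvd
    have hQG : IsPGroup 2 ((Q : Subgroup N).map N.subtype) := Q.isPGroup'.map _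
    obtain ⟨R, hR⟩ := hQG.exists_le_sylow
    obtain ⟨g, hg⟩ := MulAction.exists_smul_eq G R S
    have hle : ((Q : Subgroup N).map N.subtype).map (MulAut.conj g).toMonoidHom ≤ D := by
      rintro _ ⟨x, hx, rfl⟩
      obtain ⟨x', -, rfl⟩ := id hx
      refine ⟨hN.conj_mem _ x'.2 g, ?_⟩
      rw [← hSC, ← hg, Sylow.coe_subgroup_smul]
      exact Subgroup.smul_mem_pointwise_smul _ (MulAut.conj g) _ (hR hx)
    have h6 := Subgroup.card_le_of_le hle
    rw [Subgroup.card_map_of_injective (MulAut.conj g).injective,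
      Subgroup.card_map_of_injective N.subtype_injective, hm] at h6
    have h5 := (Nat.le_of_dvd Nat.card_pos hQ).trans h6
    exact absurd h5 (not_le.mpr (Nat.pow_lt_pow_right (by norm_num) (Nat.lt_succ_self m)))
  have hzD : z ∈ D := ⟨hzN, hzC⟩
  have hDd : Nat.card D ∣ 2 ^ 3 := (Subgroup.card_dvd_of_le inf_le_right).trans (by rw [hC8]; rfl)
  obtain ⟨k, hk, hDk⟩ := (Nat.dvd_prime_pow Nat.prime_two).mp hDd
  interval_cases k
  · exfalso
    rw [pow_zero, Subgroup.card_eq_one] at hDk
    rw [hDk, Subgroup.mem_bot] at hzD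
    exact hz1 hzD
  · left
    have hD2 : IsPGroup 2 D := IsPGroup.of_card (n := 1) hDk
    have hDe : D = Subgroup.zpowers z := (Subgroup.eq_of_le_of_card_ge (Subgroup.zpowers_le.mpr hzD)
      (by rw [hDk, Nat.card_zpowers, hz, pow_one])).symm
    have hDN : D = N := eq_of_central_sylow hO inf_le_left hD2 hDodd fun n hn hnD d hd => by
      have hnz : n * z * n⁻¹ = z := by
        have h := (hnD z).mp hzD
        rw [hDe, Subgroup.mem_zpowers_iff] at h
        obtain ⟨i, hi⟩ := h
        rw [← zpow_mod_orderOf, hz] at hi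
        rcases Int.emod_two_eq_zero_or_one i with h' | h' <;> simp [h'] at hi
        · exact absurd (conj_eq_one_iff.mp hi.symm) hz1
        · exact hi.symm
      rw [mul_inv_eq_iff_eq_mul] at hnz
      rw [hDe, Subgroup.mem_zpowers_iff] at hd
      obtain ⟨i, rfl⟩ := hd
      exact ((Commute.zpow_right (show Commute n z from hnz)) i).eq
    have : C = ⊤ := eq_top_iff.mpr fun g _ => hmem.mpr (by
      have h := hN.conj_mem z hzN g
      rw [← hDN, hDe, Subgroup.mem_zpowers_iff] at h
      obtain ⟨i, hi⟩ := h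
      rw [← zpow_mod_orderOf, hz] at hi
      rcases Int.emod_two_eq_zero_or_one i with h' | h' <;> simp [h'] at hi
      · exact absurd (conj_eq_one_iff.mp hi.symm) hz1
      · exact mul_inv_eq_iff_eq_mul.mp hi.symm)
    simp [this]
  · rcases case_four hO hz e hCodd hN hzN hmin (by rw [← hDdef, hDk]; rfl) hDodd hsol with h | h | h
    · left; rw [show C = ⊤ from h]; simp
    · exact Or.inr (Or.inl h)
    · exact Or.inr (Or.inr (Or.inl h))
  · have hCN : C ≤ N := by
      have : D = C := Subgroup.eq_of_le_of_card_ge inf_le_right (by rw [hDk, hC8]; rfl)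
      rw [← this]; exact inf_le_left
    obtain ⟨hsimp, h168 | h360⟩ := case_eight hz e hCodd hN hCN hmin
    · right; right; right; left
      haveI := hsimp
      haveI : Fact (Nat.Prime 7) := ⟨by norm_num⟩
      obtain ⟨e1⟩ := Cfsg.Agent.S0495.result h168 (F := ZMod 7) (ZMod.card 7)
      obtain ⟨e2⟩ := Cfsg.Agent.S0255.result (F := ZMod 7) (K := ZMod 2) (ZMod.card 7) (ZMod.card 2)
      have hcen : Subgroup.center (Matrix.SpecialLinearGroup (Fin 3) (ZMod 2)) = ⊥ := by
        have hu : ∀ r : ZMod 2, r ^ 3 = 1 → r = 1 := zmod_two_cube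
        rw [eq_bot_iff]
        intro A hA
        obtain ⟨r, hr, hA'⟩ := Matrix.SpecialLinearGroup.mem_center_iff.mp hA
        rw [Fintype.card_fin] at hr
        rw [Subgroup.mem_bot]
        refine Subtype.ext ?_
        rw [← hA', hu r hr]; simp
      exact ⟨e1.trans (e2.trans ((QuotientGroup.quotientMulEquivOfEq hcen).trans QuotientGroup.quotientBot))⟩
    · right; right; right; right
      haveI := hsimp
      exact Cfsg.Agent.S0497.result h360

end Cfsg.Agent.S3035
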