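import Cfsg.Statements.S0547
import Mathlib
import Cfsg.Agent.Lib.Supersolvable.MinNormal

set_option linter.style.haveILetI false

set_option autoImplicit false
open Cfsg

namespace Cfsg.Agent.S0547

open Cfsg.Agent.Lib.Supersolvable in
theorem regular_of_minimal {G : Type*} [Group G] [Finite G] [Group.IsSolvable G] {Ω : Type*}
    [Nonempty Ω] [MulAction G Ω] [FaithfulSMul G Ω] (hprim : MulAction.IsPreprimitive G Ω)
    (M : Subgroup G) [M.Normal] (hM : M ≠ ⊥)
    (hmin : ∀ K : Subgroup G, K.Normal → K ≤ M → K = ⊥ ∨ K = M) :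
    MulAction.IsPretransitive M Ω ∧ (∀ ω : Ω, MulAction.stabilizer M ω = ⊥) ∧
      ∃ p d : ℕ, p.Prime ∧ 0 < d ∧ Nat.card Ω = p ^ d ∧ Nat.card M = p ^ d := by
  haveI := hprim
  haveI := isMulCommutative_of_minimal hM hmin
  have htrans : MulAction.IsPretransitive M Ω := by
    refine MulAction.IsQuasiPreprimitive.isPretransitive_of_normal (G := G) fun hfix => hM ?_
    rw [Subgroup.eq_bot_iff_forall]
    intro m hm
    refine eq_of_smul_eq_smul (α := Ω) fun ω => ?_
    rw [one_smul]
    have h2 : ω ∈ MulAction.fixedPoints M Ω := hfix ▸ Set.mem_univ ω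
    exact h2 ⟨m, hm⟩
  have hstab : ∀ ω : Ω, MulAction.stabilizer M ω = ⊥ := by
    intro ω
    rw [Subgroup.eq_bot_iff_forall]
    intro m hm
    refine Subtype.ext (eq_of_smul_eq_smul (α := Ω) fun x => ?_)
    rw [Subgroup.coe_one, one_smul]
    obtain ⟨m', rfl⟩ := htrans.exists_smul_eq ω x
    show m • m' • ω = m' • ω
    rw [← mul_smul, mul_comm' m m', mul_smul, MulAction.mem_stabilizer_iff.1 hm]
  obtain ⟨p, hp, hpg, -⟩ := exists_prime_exponent hM hmin
  haveI := Fact.mk hp
  obtain ⟨d, hd, hdc⟩ := isPGroup_prime_dvd hpg hM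
  refine ⟨htrans, hstab, p, d, hp, hd, ?_, hdc⟩
  obtain ⟨ω⟩ := (inferInstance : Nonempty Ω)
  rw [← MulAction.index_stabilizer_of_transitive M ω, hstab ω, Subgroup.index_bot, hdc]


/-- Let a finite solvable group G act faithfully and primitively on a set, and let M be a minimal normal subgroup of G. Then M is transitive with trivial point stabilizers, and the number of points equals the order of M, which is a prime power p ^ d with d ≥ 1. -/
theorem result {G : Type*} [Group G] [Finite G] [Group.IsSolvable G] {Ω : Type*} [Nonempty Ω] [MulAction G Ω] [FaithfulSMul G Ω] (hprim : MulAction.IsPreprimitive G Ω) (M : Subgroup G) [M.Normal] (hM : M ≠ ⊥) (hmin : ∀ K : Subgroup G, K.Normal → K ≤ M → K = ⊥ ∨ K = M) : MulAction.IsPretransitive M Ω ∧ (∀ ω : Ω, MulAction.stabilizer M ω = ⊥) ∧ ∃ p d : ℕ, p.Prime ∧ 0 < d ∧ Nat.card Ω = p ^ d ∧ Nat.card M = p ^ d := by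
  exact regular_of_minimal hprim M hM hmin

end Cfsg.Agent.S0547
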