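import Cfsg.Statements.S2585
import Mathlib
-- import your own Cfsg.Agent.* helpers here

set_option autoImplicit false
open Cfsg

namespace Cfsg.Agent.S2585

open scoped Matrix in
theorem sympForm_preserved {F : Type*} [CommRing F] {m : ℕ}
    (A : Matrix.symplecticGroup (Fin m) F) (x y : Fin m ⊕ Fin m → F) :
    Cfsg.sympForm m F ((A : Matrix _ _ F) *ᵥ x) ((A : Matrix _ _ F) *ᵥ y) =
      Cfsg.sympForm m F x y := by
  unfold Cfsg.sympForm
  rw [dotProduct_comm, Matrix.dotProduct_mulVec, ← Matrix.mulVec_transpose, Matrix.mulVec_mulVec,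
    Matrix.mulVec_mulVec, SymplecticGroup.mem_iff'.1 A.2, dotProduct_comm]

theorem sympForm_eq_sum {F : Type*} [CommRing F] {m : ℕ} (x y : Fin m ⊕ Fin m → F) :
    Cfsg.sympForm m F x y =
      (∑ i, x (Sum.inr i) * y (Sum.inl i)) - ∑ i, x (Sum.inl i) * y (Sum.inr i) := by
  unfold Cfsg.sympForm Matrix.J dotProduct
  rw [Fintype.sum_sum_type]
  simp [Matrix.mulVec, dotProduct, Matrix.fromBlocks, Matrix.one_apply, Fintype.sum_sum_type,
    Finset.sum_neg_distrib]
  ring


/-- Over a finite field of characteristic two every element of the symplectic group is orthogonal for a suitable quadratic form: for each A in Sp_2m(F) there is a quadratic form Q on F^(2m) whose polar form is the alternating form defining Sp_2m(F) (so Q is non-degenerate) and which A preserves. Equivalently, for m ≥ 1, Sp_2m(F) is the union of the conjugates of its two orthogonal subgroups O⁺_2m(F) and O⁻_2m(F). -/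
theorem result {F : Type*} [Field F] [Fintype F] [CharP F 2] {m : ℕ} (A : Matrix.symplecticGroup (Fin m) F) : ∃ Q : QuadraticForm F (Fin m ⊕ Fin m → F), (∀ u v : Fin m ⊕ Fin m → F, QuadraticMap.polar ⇑Q u v = Cfsg.sympForm m F u v) ∧ ∀ v : Fin m ⊕ Fin m → F, Q ((A : Matrix (Fin m ⊕ Fin m) (Fin m ⊕ Fin m) F).mulVec v) = Q v := by
  classical
  let B : LinearMap.BilinMap F (Fin m ⊕ Fin m → F) F :=
    LinearMap.mk₂ F (fun x y => ∑ i, x (Sum.inr i) * y (Sum.inl i))
      (fun a b c => by simp [add_mul, Finset.sum_add_distrib])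
      (fun r a b => by simp [Finset.mul_sum, mul_assoc])
      (fun a b c => by simp [mul_add, Finset.sum_add_distrib])
      (fun r a b => by simp [Finset.mul_sum, mul_left_comm])
  have hB : ∀ x y, B x y + B y x = Cfsg.sympForm m F x y := by
    intro x y
    rw [sympForm_eq_sum, CharTwo.sub_eq_add]
    show (∑ i, x (Sum.inr i) * y (Sum.inl i)) + (∑ i, y (Sum.inr i) * x (Sum.inl i)) = _
    congr 1
    exact Finset.sum_congr rfl fun i _ => mul_comm _ _
  let f : Module.End F (Fin m ⊕ Fin m → F) :=
    Matrix.toLin' (A : Matrix (Fin m ⊕ Fin m) (Fin m ⊕ Fin m) F)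
  let r : F → F := fun x => (frobeniusEquiv F 2).symm x
  have hr : ∀ x, r x ^ 2 = x := fun x => frobeniusEquiv_symm_pow_p F 2 x
  have hr2 : ∀ x, r (x ^ 2) = x := fun x => by
    show (frobeniusEquiv F 2).symm _ = x
    rw [RingEquiv.symm_apply_eq, frobeniusEquiv_def]
  let D : (Fin m ⊕ Fin m → F) → F := fun v => B (f v) (f v) + B v v
  have hDadd : ∀ a b, D (a + b) = D a + D b := by
    intro a b
    have h1 := hB (f a) (f b)
    have h2 := hB a b
    have h3 : Cfsg.sympForm m F (f a) (f b) = Cfsg.sympForm m F a b := sympForm_preserved A a b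
    simp only [D, map_add, LinearMap.add_apply]
    have h4 : (B (f a) (f b) + B (f b) (f a)) + (B a b + B b a) = 0 := by
      rw [h1, h2, h3, CharTwo.add_self_eq_zero]
    linear_combination h4
  have hDsmul : ∀ (c : F) a, D (c • a) = c ^ 2 * D a := by
    intro c a
    simp only [D, map_smul, LinearMap.smul_apply, smul_eq_mul]
    ring
  let L : Module.Dual F (Fin m ⊕ Fin m → F) :=
    { toFun := fun v => r (D v)
      map_add' := fun a b => by rw [hDadd]; exact map_add (frobeniusEquiv F 2).symm _ _
      map_smul' := fun c a => by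
        rw [hDsmul, RingHom.id_apply, smul_eq_mul]
        show (frobeniusEquiv F 2).symm (c ^ 2 * D a) = c * r (D a)
        rw [map_mul]
        exact congrArg (· * r (D a)) (hr2 c) }
  have hL : L ∈ (LinearMap.ker (f + 1)).dualAnnihilator := by
    rw [Submodule.mem_dualAnnihilator]
    intro v hv
    rw [LinearMap.mem_ker] at hv
    have hv2 : f v = v := by
      have : f v + v = 0 := hv
      funext i
      exact CharTwo.add_eq_zero.1 (congrFun this i)
    show r (D v) = 0
    simp only [D, hv2, CharTwo.add_self_eq_zero]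
    exact map_zero (frobeniusEquiv F 2).symm
  rw [← LinearMap.range_dualMap_eq_dualAnnihilator_ker] at hL
  obtain ⟨φ, hφ⟩ := hL
  refine ⟨(B + (LinearMap.mul F F).compl₁₂ φ φ).toQuadraticMap, ?_, ?_⟩
  · intro u v
    rw [LinearMap.BilinMap.polar_toQuadraticMap, ← hB u v]
    simp only [LinearMap.add_apply, LinearMap.compl₁₂_apply, LinearMap.mul_apply']
    have : φ u * φ v + φ v * φ u = 0 := by rw [mul_comm (φ v), CharTwo.add_self_eq_zero]
    linear_combination this
  · intro v
    simp only [LinearMap.BilinMap.toQuadraticMap_apply, LinearMap.add_apply,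
      LinearMap.compl₁₂_apply, LinearMap.mul_apply']
    show B (f v) (f v) + φ (f v) * φ (f v) = B v v + φ v * φ v
    have h : φ (f v) + φ v = r (D v) := by
      have := LinearMap.congr_fun hφ v
      rw [LinearMap.dualMap_apply, LinearMap.add_apply, map_add] at this
      exact this
    have h2 : (φ (f v) + φ v) ^ 2 = B (f v) (f v) + B v v := by rw [h, hr]
    rw [CharTwo.add_sq] at h2
    have h3 : (B (f v) (f v) + φ (f v) * φ (f v)) + (B v v + φ v * φ v) = 0 := by
      rw [← CharTwo.add_self_eq_zero (B (f v) (f v) + B v v)]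
      nth_rewrite 2 [← h2]
      ring
    exact CharTwo.add_eq_zero.1 h3

end Cfsg.Agent.S2585
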