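import Cfsg.Statements.S2582
import Mathlib
import Cfsg.Agent.S2585
import Cfsg.Agent.Lib.Similarity.CayleyOrth
-- import your own Cfsg.Agent.* helpers here

set_option autoImplicit false
open Cfsg

namespace Cfsg.Agent.S2582
open Cfsg.Agent.Lib.Similarity

theorem sympForm_bilin {F : Type*} [Field F] {m : ℕ} :
    ∃ B : (Fin m ⊕ Fin m → F) →ₗ[F] (Fin m ⊕ Fin m → F) →ₗ[F] F,
      (∀ u v, B u v = Cfsg.sympForm m F u v) ∧ (∀ v, B v v = 0) ∧
      (∀ v, (∀ w, B w v = 0) → v = 0) := by
  classical
  have hB : ∀ u v, Matrix.toLinearMap₂' F (Matrix.J (Fin m) F) u v = Cfsg.sympForm m F u v :=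
    fun u v => Matrix.toLinearMap₂'_apply' _ _ _
  refine ⟨Matrix.toLinearMap₂' F (Matrix.J (Fin m) F), hB, fun v => ?_, fun v hv => ?_⟩
  · rw [hB, S2585.sympForm_eq_sum]
    simp [mul_comm]
  · funext i
    cases i with
    | inl i =>
      have := hv (Pi.single (Sum.inr i) 1)
      rw [hB, S2585.sympForm_eq_sum] at this
      simpa [Pi.single_apply] using this
    | inr i =>
      have := hv (Pi.single (Sum.inl i) 1)
      rw [hB, S2585.sympForm_eq_sum] at this
      simpa [Pi.single_apply] using this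


/-- Which unipotent Jordan types occur in the finite symplectic group: over a finite field, a unipotent matrix with Jordan block sizes d_1, …, d_t (sum 2m, all at least 1) is similar to an element of Sp_2m(F) if and only if every odd block size occurs an even number of times. -/
theorem result {F : Type*} [Field F] [Fintype F] {m t : ℕ} (d : Fin t → ℕ) (hd : ∀ k, 1 ≤ d k) (hsum : ∑ k, d k = 2 * m) : (∃ e : ((k : Fin t) × Fin (d k)) ≃ (Fin m ⊕ Fin m), ∃ A : Matrix.symplecticGroup (Fin m) F, IsConj (Matrix.reindex e e (Cfsg.jordanTypeMatrix d F)) (A : Matrix (Fin m ⊕ Fin m) (Fin m ⊕ Fin m) F)) ↔ ∀ j : ℕ, Odd j → Even (Finset.univ.filter (fun k : Fin t => d k = j)).card := by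
  classical
  constructor
  · rintro ⟨e, A, h⟩ j hj
    rw [isConj_reindex_jordan_iff] at h
    obtain ⟨B, hB, halt, hnd⟩ := sympForm_bilin (F := F) (m := m)
    rw [← count_partsOf]
    exact even_count_of_alt_isometry B halt hnd _ h.1
      (fun u v => by rw [hB, hB]; exact S2585.sympForm_preserved A u v) _ h.2 j hj
  · intro h
    obtain ⟨m', hm', A, hA, hnil, hr⟩ := isSympType_of_even F (partsOf d) (pos_of_mem_partsOf hd)
      (fun j hj => by rw [count_partsOf]; exact h j hj)
    obtain rfl : m' = m := by rw [sum_partsOf, hsum] at hm'; omega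
    obtain ⟨e⟩ := exists_jordan_equiv d hsum (n := Fin m' ⊕ Fin m') (by simp; omega)
    exact ⟨e, ⟨A, hA⟩, (isConj_reindex_jordan_iff d e A).2 ⟨hnil, hr⟩⟩

end Cfsg.Agent.S2582
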