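import Cfsg.Statements.S0143
import Cfsg.Agent.Lib.Burnside.Paqb

set_option autoImplicit false
open Cfsg

namespace Cfsg.Agent.S0143

/-- If a finite simple group has a non-identity element whose conjugacy class has prime-power size, then the group has prime order. -/
theorem result {G : Type*} [Group G] [Finite G] [IsSimpleGroup G] (p k : ℕ) (hp : p.Prime) (g : G) (hg : g ≠ 1) (hclass : (Subgroup.centralizer ({g} : Set G)).index = p ^ k) : (Nat.card G).Prime := by
  rcases Nat.eq_zero_or_pos k with hk | hk
  · rw [hk, pow_zero, Subgroup.index_eq_one] at hclass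
    have hmem : g ∈ Subgroup.center G := Subgroup.mem_center_iff.mpr fun x =>
      Subgroup.mem_centralizer_singleton_iff.mp (hclass ▸ Subgroup.mem_top x)
    have htop : Subgroup.center G = ⊤ :=
      ((inferInstance : (Subgroup.center G).Normal).eq_bot_or_eq_top).resolve_left fun h =>
        hg (Subgroup.mem_bot.mp (h ▸ hmem))
    let inst : CommGroup G :=
      { (inferInstance : Group G) with
        mul_comm := fun a b => Subgroup.mem_center_iff.mp (htop ▸ Subgroup.mem_top b) a }
    exact IsSimpleGroup.prime_card
  · exact absurd ((Cfsg.Agent.Lib.Chars.card_conjClass_eq_index g).trans hclass)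
      (Cfsg.Agent.Lib.Burnside.class_card_ne_prime_pow hp hk)

end Cfsg.Agent.S0143
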