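import Cfsg.Statements.S5549
import Cfsg.Agent.Lib.Golay.Transitive
import Cfsg.Agent.Lib.Golay.ClassData89

set_option autoImplicit false
open Cfsg

namespace Cfsg.Agent.S5549

open Cfsg.Agent.Lib
open Cfsg.Agent.Lib.Golay (word IsCodeSet)
open scoped Pointwise symmDiff

/-- The weight class of a mask, up to complement. -/
def typ (m : ℕ) : ℕ := min (Golay.popCount m) (24 - Golay.popCount m)

/-- The xor of a list. -/
def xorL : List ℕ → ℕ
  | [] => 0
  | a :: l => a ^^^ xorL l

/-- The check of all levels after the listed fixed sets. -/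
def levelsOK : List ℕ → List (ℕ × List (List ℕ) × List (List ℕ)) → Bool
  | _, [] => true
  | pre, (o, cs, T) :: r =>
    Golay.isCodeMask o && Golay.popCount o == 8 &&
    (cs.all fun S => S.all fun v => pre.contains v) &&
    (T.all fun t => Golay.inM24 t && pre.all fun v => Golay.imageMask t v == v) &&
    (((List.range 4096).map Golay.encode).filter fun q => Golay.popCount q == 8 &&
      cs.all fun S => typ (q ^^^ xorL S) == typ (o ^^^ xorL S)) ==
      (T.map fun t => Golay.imageMask t o) &&
    levelsOK (o :: pre) r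

theorem levels_ok : levelsOK [Golay.ClassData.first] Golay.ClassData.levels = true := by
  decide +kernel

theorem first_ok : (Golay.isCodeMask Golay.ClassData.first &&
    Golay.popCount Golay.ClassData.first == 8) = true := by decide +kernel

theorem span_ok : Golay.ClassData.span.map xorL = Golay.genRows ∧
    (Golay.ClassData.span.all fun S => S.all fun v => v == 2 ^ 24 - 1 ||
      (Golay.ClassData.first :: Golay.ClassData.levels.map Prod.fst).contains v) = true := by
  decide +kernel

theorem ptsOf_full : Golay.ptsOf (2 ^ 24 - 1) = Finset.univ := by decide +kernel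

/-- The two options for a set up to complement. -/
def Same (a b : Finset GolayPt) : Prop := a = b ∨ a = bᶜ

theorem compl_symmDiff' (a b : Finset GolayPt) : aᶜ ∆ b = (a ∆ b)ᶜ := by
  ext p
  simp only [Finset.mem_symmDiff, Finset.mem_compl]
  tauto

theorem Same.symmDiff {a b c d : Finset GolayPt} (h : Same a b) (h' : Same c d) :
    Same (a ∆ c) (b ∆ d) := by
  rcases h with rfl | rfl <;> rcases h' with rfl | rfl
  · exact Or.inl rfl
  · right; rw [symmDiff_comm, compl_symmDiff', symmDiff_comm]
  · right; exact compl_symmDiff' _ _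
  · left; rw [compl_symmDiff', symmDiff_comm, compl_symmDiff', compl_compl, symmDiff_comm]

theorem Same.smul {a b : Finset GolayPt} (h : Same a b) (g : Equiv.Perm GolayPt) :
    Same (g • a) (g • b) := by
  rcases h with rfl | rfl
  · exact Or.inl rfl
  · right
    ext p
    simp [← Finset.inv_smul_mem_iff]

theorem Same.min_eq {a b : Finset GolayPt} (h : Same a b) :
    min a.card (24 - a.card) = min b.card (24 - b.card) := by
  rcases h with rfl | rfl
  · rfl
  · have := Finset.card_le_univ b
    rw [Finset.card_compl, Golay.card_golayPt]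
    rw [Golay.card_golayPt] at this
    omega

/-- Structure preserved by the map. -/
structure ClassMap (X : Finset GolayPt → Finset GolayPt) : Prop where
  code : ∀ s, IsCodeSet s → IsCodeSet (X s)
  map_symmDiff : ∀ s t, IsCodeSet s → IsCodeSet t → X (s ∆ t) = X s ∆ X t
  univ' : X Finset.univ = Finset.univ
  weight : ∀ s, IsCodeSet s → min (X s).card (24 - (X s).card) = min s.card (24 - s.card)

theorem ClassMap.smul {X : Finset GolayPt → Finset GolayPt} (h : ClassMap X)
    {g : Equiv.Perm GolayPt} (hg : g ∈ M24) : ClassMap fun s => g • X s where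
  code s hs := Golay.M24_isCodeSet hg (h.code s hs)
  map_symmDiff s t hs ht := by rw [h.map_symmDiff s t hs ht, Golay.smul_symmDiff_finset]
  univ' := by rw [h.univ', Finset.smul_finset_univ]
  weight s hs := by rw [Finset.card_smul_finset]; exact h.weight s hs

theorem ClassMap.empty {X : Finset GolayPt → Finset GolayPt} (h : ClassMap X) : X ∅ = ∅ := by
  have := h.map_symmDiff ∅ ∅ Golay.isCodeSet_empty Golay.isCodeSet_empty
  rw [symmDiff_self, symmDiff_self, Finset.bot_eq_empty] at this
  exact this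

theorem same_xorL {X : Finset GolayPt → Finset GolayPt} (h : ClassMap X) :
    ∀ S : List ℕ, (∀ v ∈ S, IsCodeSet (Golay.ptsOf v) ∧ Same (X (Golay.ptsOf v)) (Golay.ptsOf v)) →
      IsCodeSet (Golay.ptsOf (xorL S)) ∧ Same (X (Golay.ptsOf (xorL S))) (Golay.ptsOf (xorL S))
  | [], _ => by
    rw [xorL, Golay.ptsOf_zero, h.empty]
    exact ⟨Golay.isCodeSet_empty, Or.inl rfl⟩
  | a :: l, hS => by
    obtain ⟨h1, h2⟩ := hS a (List.mem_cons_self ..)
    obtain ⟨h3, h4⟩ := same_xorL h l fun v hv => hS v (List.mem_cons_of_mem _ hv)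
    rw [xorL, Golay.ptsOf_xor]
    exact ⟨h1.symmDiff h3, by rw [h.map_symmDiff _ _ h1 h3]; exact h2.symmDiff h4⟩

/-- A list of sets kept up to complement. -/
def Fixes (X : Finset GolayPt → Finset GolayPt) (pre : List ℕ) : Prop :=
  ∀ v ∈ pre, IsCodeSet (Golay.ptsOf v) ∧ Same (X (Golay.ptsOf v)) (Golay.ptsOf v)

theorem exists_fixes : ∀ {L : List (ℕ × List (List ℕ) × List (List ℕ))} {pre : List ℕ}
    {X : Finset GolayPt → Finset GolayPt}, levelsOK pre L = true → ClassMap X → Fixes X pre →
      ∃ g ∈ M24, Fixes (fun s => g • X s) (pre ++ L.map Prod.fst)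
  | [], pre, X, _, _, hf => ⟨1, one_mem _, by simpa using hf⟩
  | (o, cs, T) :: r, pre, X, hok, hX, hf => by
    simp only [levelsOK, Bool.and_eq_true] at hok
    obtain ⟨⟨⟨⟨⟨ho1, ho8⟩, hcs⟩, hT⟩, heq⟩, hrec⟩ := hok
    have hoC : IsCodeSet (Golay.ptsOf o) := Golay.isCodeSet_of_isCodeMask ho1
    obtain ⟨q, hq8, hqX⟩ : ∃ q : Finset GolayPt, q.card = 8 ∧ Same (X (Golay.ptsOf o)) q := by
      have := hX.weight _ hoC
      rw [Golay.card_ptsOf, beq_iff_eq.mp ho8] at this
      by_cases h8 : (X (Golay.ptsOf o)).card = 8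
      · exact ⟨_, h8, Or.inl rfl⟩
      · refine ⟨(X (Golay.ptsOf o))ᶜ, ?_, Or.inr (compl_compl _).symm⟩
        rw [Finset.card_compl, Golay.card_golayPt]
        have := Finset.card_le_univ (X (Golay.ptsOf o))
        rw [Golay.card_golayPt] at this
        omega
    have hqC : IsCodeSet q := by
      rcases hqX with e | e
      · exact e ▸ hX.code _ hoC
      · have := (hX.code _ hoC).compl
        rwa [e, compl_compl] at this
    have hmem : Golay.maskOf q ∈ T.map fun t => Golay.imageMask t o := by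
      rw [← beq_iff_eq.mp heq, List.mem_filter]
      refine ⟨?_, ?_⟩
      · obtain ⟨x, hx, e⟩ := hqC.exists_eq
        rw [e, Golay.maskOf_ptsOf (Golay.encode_lt x hx)]
        exact List.mem_map.mpr ⟨x, List.mem_range.mpr hx, rfl⟩
      · rw [Bool.and_eq_true, beq_iff_eq, ← Golay.card_ptsOf, Golay.ptsOf_maskOf,
          List.all_eq_true]
        refine ⟨hq8, fun S hS => ?_⟩
        obtain ⟨hSC, hSX⟩ := same_xorL hX S fun v hv =>
          hf v (List.contains_iff_mem.mp (List.all_eq_true.mp (List.all_eq_true.mp hcs S hS) v hv))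
        rw [beq_iff_eq, typ, typ, ← Golay.card_ptsOf, ← Golay.card_ptsOf, Golay.ptsOf_xor,
          Golay.ptsOf_xor, Golay.ptsOf_maskOf]
        rw [← hX.weight _ (hoC.symmDiff hSC), hX.map_symmDiff _ _ hoC hSC]
        exact (hqX.symmDiff hSX).min_eq.symm
    obtain ⟨t, ht, hte⟩ := List.mem_map.mp hmem
    have hT' := List.all_eq_true.mp hT t ht
    rw [Bool.and_eq_true] at hT'
    have htM := Golay.toPerm_mem_M24 hT'.1
    have hto : Golay.toPerm t • Golay.ptsOf o = q := by
      rw [Golay.toPerm_smul_ptsOf (Golay.inM24.valid hT'.1), hte, Golay.ptsOf_maskOf]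
    have hnew : Fixes (fun s => (Golay.toPerm t)⁻¹ • X s) (o :: pre) := by
      intro v hv
      rcases List.mem_cons.mp hv with rfl | hv
      · refine ⟨hoC, ?_⟩
        have := hqX.smul (Golay.toPerm t)⁻¹
        rwa [show (Golay.toPerm t)⁻¹ • q = Golay.ptsOf v from inv_smul_eq_iff.mpr hto.symm] at this
      · refine ⟨(hf v hv).1, ?_⟩
        have hfix : Golay.toPerm t • Golay.ptsOf v = Golay.ptsOf v := by
          rw [Golay.toPerm_smul_ptsOf (Golay.inM24.valid hT'.1),
            beq_iff_eq.mp (List.all_eq_true.mp hT'.2 v hv)]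
        have := (hf v hv).2.smul (Golay.toPerm t)⁻¹
        rwa [show (Golay.toPerm t)⁻¹ • Golay.ptsOf v = Golay.ptsOf v from
          inv_smul_eq_iff.mpr hfix.symm] at this
    obtain ⟨g, hg, hgf⟩ := exists_fixes hrec (hX.smul (inv_mem htM)) hnew
    refine ⟨g * (Golay.toPerm t)⁻¹, mul_mem hg (inv_mem htM), fun v hv => ?_⟩
    simp only [mul_smul]
    refine hgf v ?_
    simp only [List.map_cons, List.mem_append, List.mem_cons, List.cons_append] at hv ⊢
    rcases hv with h | h | h
    · exact Or.inr (Or.inl h)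
    · exact Or.inl h
    · exact Or.inr (Or.inr h)

theorem exists_same {X : Finset GolayPt → Finset GolayPt} (hX : ClassMap X) :
    ∃ σ ∈ M24, ∀ s, IsCodeSet s → Same (X s) (σ • s) := by
  have hfC : IsCodeSet (Golay.ptsOf Golay.ClassData.first) := by
    have := first_ok; rw [Bool.and_eq_true] at this
    exact Golay.isCodeSet_of_isCodeMask this.1
  obtain ⟨a, ha, hae⟩ : ∃ a ∈ M24, Same (a • X (Golay.ptsOf Golay.ClassData.first))
      (Golay.ptsOf Golay.ClassData.first) := by
    have h8 : (Golay.ptsOf Golay.ClassData.first).card = 8 := by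
      have := first_ok
      rw [Bool.and_eq_true, beq_iff_eq] at this
      rw [Golay.card_ptsOf]; exact this.2
    have hw := hX.weight _ hfC
    rw [h8] at hw
    have hC := hX.code _ hfC
    have hle := Finset.card_le_univ (X (Golay.ptsOf Golay.ClassData.first))
    rw [Golay.card_golayPt] at hle
    by_cases hc : (X (Golay.ptsOf Golay.ClassData.first)).card = 8
    · obtain ⟨a, ha, e⟩ := Golay.octads_transitive (Golay.mem_octads_iff.mpr ⟨hC, hc⟩)
        (Golay.mem_octads_iff.mpr ⟨hfC, h8⟩)
      exact ⟨a, ha, Or.inl e⟩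
    · obtain ⟨a, ha, e⟩ := Golay.octads_transitive
        (Golay.mem_octads_iff.mpr ⟨hC.compl, by
          rw [Finset.card_compl, Golay.card_golayPt]; omega⟩)
        (Golay.mem_octads_iff.mpr ⟨hfC, h8⟩)
      refine ⟨a, ha, Or.inr ?_⟩
      have hh : (a • X (Golay.ptsOf Golay.ClassData.first))ᶜ =
          a • (X (Golay.ptsOf Golay.ClassData.first))ᶜ := by
        ext p
        simp [← Finset.inv_smul_mem_iff]
      exact (compl_compl _).symm.trans (congrArg compl (hh.trans e))
  obtain ⟨g, hg, hf⟩ := exists_fixes levels_ok (hX.smul ha) (fun v hv => by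
    rw [List.mem_singleton] at hv; subst hv; exact ⟨hfC, hae⟩)
  set Y : Finset GolayPt → Finset GolayPt := fun s => g • a • X s with hY
  have hYc : ClassMap Y := (hX.smul ha).smul hg
  have hrow : ∀ m ∈ Golay.genRows,
      IsCodeSet (Golay.ptsOf m) ∧ Same (Y (Golay.ptsOf m)) (Golay.ptsOf m) := by
    intro m hm
    rw [← span_ok.1] at hm
    obtain ⟨S, hS, rfl⟩ := List.mem_map.mp hm
    refine same_xorL hYc S fun v hv => ?_
    have := List.all_eq_true.mp (List.all_eq_true.mp span_ok.2 S hS) v hv
    rw [Bool.or_eq_true, beq_iff_eq, List.contains_iff_mem] at this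
    rcases this with e | e
    · rw [e, ptsOf_full, hYc.univ']
      exact ⟨Golay.isCodeSet_univ, Or.inl rfl⟩
    · exact hf v (by simpa using e)
  refine ⟨(g * a)⁻¹, inv_mem (mul_mem hg ha), fun s hs => ?_⟩
  obtain ⟨x, -, rfl⟩ := hs.exists_eq
  have := (Golay.combine_mem
    (P := fun m => IsCodeSet (Golay.ptsOf m) ∧ Same (Y (Golay.ptsOf m)) (Golay.ptsOf m))
    (by rw [Golay.ptsOf_zero, hYc.empty]; exact ⟨Golay.isCodeSet_empty, Or.inl rfl⟩)
    (fun p q hp hq => by
      rw [Golay.ptsOf_xor, hYc.map_symmDiff _ _ hp.1 hq.1]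
      exact ⟨hp.1.symmDiff hq.1, hp.2.symmDiff hq.2⟩) Golay.genRows hrow x).2.smul (g * a)⁻¹
  simp only [hY, smul_smul, inv_mul_cancel, one_smul] at this
  exact this

theorem comp_symm_word (σ : Equiv.Perm GolayPt) (s : Finset GolayPt) :
    (fun p => word s (σ.symm p)) = word (σ • s) := by
  funext p
  simp only [word]
  congr 1
  rw [← Finset.inv_smul_mem_iff]
  rfl

theorem word_compl (s : Finset GolayPt) :
    word sᶜ = word s + fun _ => (1 : ZMod 2) := by
  funext p
  by_cases h : p ∈ s <;> simp [word, h] <;> decide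


/-- Let X be a group of linear automorphisms of the length-24 binary Golay code of the definitions that fix the all-ones word, containing the coordinate-permutation action of every element of the code's automorphism group (the Mathieu group of degree 24), and such that every element of X sends each codeword into its orbit under that Mathieu group up to adding the all-ones word (X has the same orbits as the Mathieu group on the code modulo the all-ones word). Then every element of X agrees, modulo the all-ones word, with the action of a single element of the Mathieu group: X induces exactly the Mathieu group on the code modulo the all-ones word. -/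
theorem result (X : Subgroup (↥Cfsg.golayCode ≃ₗ[ZMod 2] ↥Cfsg.golayCode)) (h1 : ∀ x ∈ X, ∀ e : ↥Cfsg.golayCode, (e : (Cfsg.GolayPt → ZMod 2)) = (fun _ => (1 : ZMod 2)) → x e = e) (hM : ∀ σ ∈ Cfsg.M24, ∃ x ∈ X, ∀ c : ↥Cfsg.golayCode, ((x c : ↥Cfsg.golayCode) : (Cfsg.GolayPt → ZMod 2)) = fun p => (c : (Cfsg.GolayPt → ZMod 2)) (σ.symm p)) (horb : ∀ x ∈ X, ∀ c : ↥Cfsg.golayCode, ∃ σ ∈ Cfsg.M24, ((x c : ↥Cfsg.golayCode) : (Cfsg.GolayPt → ZMod 2)) = (fun p => (c : (Cfsg.GolayPt → ZMod 2)) (σ.symm p)) ∨ ((x c : ↥Cfsg.golayCode) : (Cfsg.GolayPt → ZMod 2)) = (fun p => (c : (Cfsg.GolayPt → ZMod 2)) (σ.symm p)) + fun _ => (1 : ZMod 2)) (x : ↥Cfsg.golayCode ≃ₗ[ZMod 2] ↥Cfsg.golayCode) (hx : x ∈ X) : ∃ σ ∈ Cfsg.M24, ∀ c : ↥Cfsg.golayCode, ((x c : ↥Cfsg.golayCode) : (Cfsg.GolayPt → ZMod 2)) = (fun p => (c : (Cfsg.GolayPt → ZMod 2)) (σ.symm p)) ∨ ((x c : ↥Cfsg.golayCode) : (Cfsg.GolayPt → ZMod 2)) = (fun p => (c : (Cfsg.GolayPt → ZMod 2)) (σ.symm p)) + fun _ => (1 : ZMod 2) := by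
  classical
  let X : Finset GolayPt → Finset GolayPt := fun s =>
    if h : IsCodeSet s then support₂ (x ⟨word s, h⟩ : GolayPt → ZMod 2) else ∅
  have hXv : ∀ s (h : IsCodeSet s), X s = support₂ (x ⟨word s, h⟩ : GolayPt → ZMod 2) :=
    fun s h => dif_pos h
  have hX : ClassMap X := by
    refine ⟨fun s hs => ?_, fun s t hs ht => ?_, ?_, fun s hs => ?_⟩
    · rw [hXv s hs]; exact Golay.mem_golayCode_iff.mp (x _).2
    · rw [hXv s hs, hXv t ht, hXv _ (hs.symmDiff ht)]
      have e : (⟨word (s ∆ t), hs.symmDiff ht⟩ : ↥golayCode) = ⟨word s, hs⟩ + ⟨word t, ht⟩ :=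
        Subtype.ext (Golay.word_symmDiff s t)
      apply Golay.word_injective
      rw [Golay.word_symmDiff (support₂ _), Golay.word_support₂, Golay.word_support₂,
        Golay.word_support₂, e, map_add, Submodule.coe_add]
    · rw [hXv _ Golay.isCodeSet_univ]
      have := h1 x hx ⟨word Finset.univ, Golay.isCodeSet_univ⟩ Golay.word_univ
      rw [this, Golay.support₂_word]
    · rw [hXv s hs]
      obtain ⟨σ, -, h⟩ := horb x hx ⟨word s, hs⟩
      simp only [comp_symm_word, ← word_compl] at h
      rw [← Finset.card_smul_finset σ s]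
      rcases h with e | e <;> rw [e, Golay.support₂_word]
      exact Same.min_eq (Or.inr rfl)
  obtain ⟨σ, hσ, h⟩ := exists_same hX
  refine ⟨σ, hσ, fun c => ?_⟩
  have hc := Golay.mem_golayCode_iff.mp c.2
  have e : (⟨word (support₂ c.1), hc⟩ : ↥golayCode) = c := Subtype.ext (Golay.word_support₂ _)
  have h' := h _ hc
  rw [hXv _ hc, e] at h'
  conv => rw [← Golay.word_support₂ (x c : GolayPt → ZMod 2), ← Golay.word_support₂ c.1]
  rw [comp_symm_word, ← word_compl]
  exact h'.imp (fun h => by rw [h]) (fun h => by rw [h])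

end Cfsg.Agent.S5549
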