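import Cfsg.Statements.S1680
import Mathlib
import Cfsg.Agent.Lib.CosetTable.Presentation
import Cfsg.Agent.Lib.CosetTable.Suz1782.Checked

set_option autoImplicit false
open Cfsg

open scoped Pointwise

namespace Cfsg.Agent.S1680

open Cfsg.Agent.Lib.CosetTable
open Cfsg.Spor

/-- the presentation with numbered generators -/
def pres : Pres Suz.Gen where
  k := 7
  gen n := [Suz.Gen.a, .b, .c, .d, .e, .f, .g].getD n .a
  idx
    | .a => 0 | .b => 1 | .c => 2 | .d => 3 | .e => 4 | .f => 5 | .g => 6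
  edges := Suz.edges
  extraE := [
    .mul (.of 0) (.inv (.pow (.mul (.of 2) (.of 3)) 4)),
    .mul (.of 0) (.inv (.pow (.mul (.of 5) (.of 6)) 2)),
    .pow (.mul (.mul (.mul (.of 0) (.of 1)) (.of 2)) (.of 5)) 5,
    .pow (.mul (.mul (.of 1) (.of 5)) (.of 6)) 5,
    .pow (.mul (.pow (.mul (.mul (.mul (.mul (.of 1) (.of 2)) (.of 3)) (.of 2)) (.of 3)) 5) (.of 4)) 3]
  subsE := [.of 0, .of 1, .of 2, .of 3, .of 4, .of 5]

theorem pres_good : pres.Good where
  gen_idx x := by cases x <;> rfl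
  idx_lt x := by cases x <;> decide
  idx_gen := by decide
  mem_nodes x := by cases x <;> decide

theorem certified :
    pres.Certified Suz.extra Suz1782.cert Suz1782.tab 38050 where
  good := pres_good
  extra_eq := rfl
  k_eq := rfl
  rels_eq := by decide +kernel
  subs_eq := by decide +kernel
  words := Suz1782.words_ok
  checked := Suz1782.checked

theorem gens_eq : {x | x ∈ pres.subsE.map (WExp.free pres.gen)} =
    ({Suz.a, Suz.b, Suz.c, Suz.d, Suz.e, Suz.f} : Set (FreeGroup Suz.Gen)) := by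
  ext x
  simp only [pres, List.map_cons, List.map_nil, Set.mem_setOf_eq, List.mem_cons,
    List.not_mem_nil, or_false, Set.mem_insert_iff, Set.mem_singleton_iff]
  rfl


/-- In the presented sporadic Suzuki group, let H be the subgroup generated by the images of a, …, f. Then H has index 1782, H has orbits of sizes 416 and 1365 on the cosets of H other than H itself (with the index 1782 this makes the action rank 3). -/
theorem result : (((Subgroup.closure ({Cfsg.Spor.Suz.a, Cfsg.Spor.Suz.b, Cfsg.Spor.Suz.c, Cfsg.Spor.Suz.d, Cfsg.Spor.Suz.e, Cfsg.Spor.Suz.f} : Set (FreeGroup Cfsg.Spor.Suz.Gen))).map (PresentedGroup.mk (Cfsg.Spor.coxRelators Cfsg.Spor.Suz.edges ∪ {r | r ∈ Cfsg.Spor.Suz.extra})))).index = 1782 ∧ ∃ q₁ q₂ : Cfsg.Spor.Suz ⧸ (((Subgroup.closure ({Cfsg.Spor.Suz.a, Cfsg.Spor.Suz.b, Cfsg.Spor.Suz.c, Cfsg.Spor.Suz.d, Cfsg.Spor.Suz.e, Cfsg.Spor.Suz.f} : Set (FreeGroup Cfsg.Spor.Suz.Gen))).map (PresentedGroup.mk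 (Cfsg.Spor.coxRelators Cfsg.Spor.Suz.edges ∪ {r | r ∈ Cfsg.Spor.Suz.extra})))), (MulAction.orbit (((Subgroup.closure ({Cfsg.Spor.Suz.a, Cfsg.Spor.Suz.b, Cfsg.Spor.Suz.c, Cfsg.Spor.Suz.d, Cfsg.Spor.Suz.e, Cfsg.Spor.Suz.f} : Set (FreeGroup Cfsg.Spor.Suz.Gen))).map (PresentedGroup.mk (Cfsg.Spor.coxRelators Cfsg.Spor.Suz.edges ∪ {r | r ∈ Cfsg.Spor.Suz.extra})))) q₁).ncard = 416 ∧ (MulAction.orbit (((Subgroup.closure ({Cfsg.Spor.Suz.a, Cfsg.Spor.Suz.b, Cfsg.Spor.Suz.c, Cfsg.Spor.Suz.d, Cfsg.Spor.Suz.e, Cfsg.Spor.Suz.f} : Set (FreeGroup Cfsg.Spor.Suz.Gen))).map (PresentedGroup.mk (Cfsg.Spor.coxRelators Cfsg.Spor.Suz.edges ∪ {r | r ∈ Cfsg.Spor.Suz.extra})))) q₂).ncard = 1365 := by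
  rw [← gens_eq]
  obtain ⟨q₁, h1⟩ := certified.orbit Suz1782.orb1 (by decide) Suz1782.orb1_ok
  obtain ⟨q₂, h2⟩ := certified.orbit Suz1782.orb2 (by decide) Suz1782.orb2_ok
  exact ⟨certified.index, q₁, q₂, h1, h2⟩

end Cfsg.Agent.S1680
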