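import Cfsg.Statements.S1694
import Mathlib
import Cfsg.Agent.S1680
import Cfsg.Agent.Lib.CosetTable.Maximal
import Cfsg.Agent.Lib.CosetTable.SuzSimple.OK
import Cfsg.Agent.Lib.CosetTable.SuzSimpleKills.Cover
import Cfsg.Agent.Lib.CosetTable.SuzSimpleMax1.Cover
import Cfsg.Agent.Lib.CosetTable.SuzSimpleMax2.Cover
import Cfsg.Agent.Lib.CosetTable.SuzLevelC.Cover
import Cfsg.Agent.Lib.CosetTable.SuzLevelD.Cover
import Cfsg.Agent.Lib.CosetTable.SuzLevelE.Cover
import Cfsg.Agent.Lib.CosetTable.SuzLevelF.Cover

set_option autoImplicit false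
open Cfsg

open scoped Pointwise

namespace Cfsg.Agent.S1694

open Cfsg.Agent.Lib.CosetTable

/-- the generators of the presented group -/
noncomputable abbrev gn : ℕ → Cfsg.Spor.Suz := Pres.gens S1680.pres Cfsg.Spor.Suz.extra

theorem model_act : Model gn Suz1782.cert :=
  Pres.model S1680.pres_good S1680.certified.extra_eq S1680.certified.k_eq
    S1680.certified.rels_eq S1680.certified.words

theorem order_le : Finite Cfsg.Spor.Suz ∧ Nat.card Cfsg.Spor.Suz ≤ 448345497600 := by
  have M := model_act
  have h0 := orderLE_step M [2, 3] (by decide +kernel) SuzLevelC.cover (orderLE_nil _)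
  have h1 := orderLE_step M [0, 1, 2, 3] (by decide +kernel) SuzLevelD.cover h0
  have h2 := orderLE_step M [0, 1, 2, 3, 4] (by decide +kernel) SuzLevelE.cover h1
  have h3 := orderLE_step M [0, 1, 2, 3, 4, 5] (by decide +kernel) SuzLevelF.cover h2
  have h4 := orderLE_step M (List.range 7) (by decide +kernel) Suz1782.checked.toCover h3
  exact finite_card_top M h4


/-- The presented sporadic Suzuki group is simple of the expected order (that is, it is a simple group of the order of the sporadic Suzuki group). -/
theorem result : Cfsg.IsSuz Cfsg.Spor.Suz := by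
  have D := S1680.certified
  obtain ⟨φ, hφ⟩ := Pres.exists_action D.good D.extra_eq D.k_eq D.rels_eq D.words D.checked
  exact Suz1782.checked.isSimple model_act φ hφ order_le (d := 11) (by norm_num) SuzSimple.levels
    SuzSimple.levels_ok SuzSimple.levels_card
    [(Suz1782.orb1, SuzSimple.rep1), (Suz1782.orb2, SuzSimple.rep2)]
    (by
      intro q hq
      simp only [List.mem_cons, List.not_mem_nil, or_false] at hq
      rcases hq with rfl | rfl
      · exact ⟨by decide, Suz1782.orb1_ok, by decide +kernel, by decide +kernel, SuzSimpleMax1.cert, SuzSimpleMax1.tab, _,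
          ⟨rfl, by decide +kernel, by decide +kernel, SuzSimpleMax1.words_ok, SuzSimpleMax1.cover, rfl⟩⟩
      · exact ⟨by decide, Suz1782.orb2_ok, by decide +kernel, by decide +kernel, SuzSimpleMax2.cert, SuzSimpleMax2.tab, _,
          ⟨rfl, by decide +kernel, by decide +kernel, SuzSimpleMax2.words_ok, SuzSimpleMax2.cover, rfl⟩⟩)
    SuzSimple.covered_ok SuzSimple.elt (by decide +kernel) SuzSimple.elt_pow (by decide +kernel)
    (C' := SuzSimpleKills.cert) (A' := SuzSimpleKills.tab)
    ⟨rfl, by decide +kernel, rfl, SuzSimpleKills.words_ok, SuzSimpleKills.cover, rfl⟩ (by norm_num)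

end Cfsg.Agent.S1694
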