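import Cfsg.Statements.S1679
import Mathlib
import Cfsg.Agent.S1680
import Cfsg.Agent.S1694
import Cfsg.Agent.S1059
import Cfsg.Agent.Lib.CosetTable.Hom
import Cfsg.Agent.Lib.CosetTable.Maximal
import Cfsg.Agent.Lib.CosetTable.SuzG2.Checked
import Cfsg.Agent.Lib.CosetTable.SuzG2Simple.OK
import Cfsg.Agent.Lib.CosetTable.SuzG2SimpleKills.Cover
import Cfsg.Agent.Lib.CosetTable.SuzG2SimpleMax1.Cover
import Cfsg.Agent.Lib.CosetTable.SuzG2SimpleMax2.Cover
import Cfsg.Agent.Lib.CosetTable.SuzLevelC.Cover
import Cfsg.Agent.Lib.CosetTable.SuzLevelD.Cover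
import Cfsg.Agent.Lib.CosetTable.SuzLevelE.Cover
import Cfsg.Agent.Lib.CosetTable.SuzG2Mat.Basic

set_option autoImplicit false
open Cfsg

open scoped Pointwise

namespace Cfsg.Agent.S1679


open Cfsg.Agent.Lib.CosetTable

/-- the presentation on `a, …, f` -/
def presH : Pres (Fin 6) where
  k := 6
  gen n := ([0, 1, 2, 3, 4, 5] : List (Fin 6)).getD n 0
  idx x := x.val
  edges := [(0, 5, 1), (1, 3, 2), (2, 8, 3), (3, 3, 4), (1, 3, 5)]
  extraE := [
    .mul (.of 0) (.inv (.pow (.mul (.of 2) (.of 3)) 4)),
    .pow (.mul (.mul (.mul (.of 0) (.of 1)) (.of 2)) (.of 5)) 5,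
    .pow (.mul (.pow (.mul (.mul (.mul (.mul (.of 1) (.of 2)) (.of 3)) (.of 2)) (.of 3)) 5) (.of 4)) 3]
  subsE := [.of 0, .of 1, .of 2, .of 3, .of 4]

/-- its relators -/
def extraH : List (FreeGroup (Fin 6)) := presH.extraE.map (WExp.free presH.gen)

theorem presH_good : presH.Good where
  gen_idx x := by fin_cases x <;> rfl
  idx_lt x := x.isLt
  idx_gen := by decide
  mem_nodes x := by fin_cases x <;> decide

/-- the presented group -/
abbrev PH : Type := presH.Grp extraH

theorem certified : presH.Certified extraH SuzG2.cert SuzG2.tab 5179 where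
  good := presH_good
  extra_eq := rfl
  k_eq := rfl
  rels_eq := by decide +kernel
  subs_eq := by decide +kernel
  words := SuzG2.words_ok
  checked := SuzG2.checked

theorem model_H : Model (presH.gens extraH) SuzG2.cert :=
  Pres.model presH_good rfl rfl certified.rels_eq SuzG2.words_ok

theorem order_le : Finite PH ∧ Nat.card PH ≤ 251596800 := by
  have M := model_H
  have h0 := orderLE_step M [2, 3] (by decide +kernel) SuzLevelC.cover (orderLE_nil _)
  have h1 := orderLE_step M [0, 1, 2, 3] (by decide +kernel) SuzLevelD.cover h0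
  have h2 := orderLE_step M [0, 1, 2, 3, 4] (by decide +kernel) SuzLevelE.cover h1
  have h3 := orderLE_step M (List.range 6) (by decide +kernel) SuzG2.checked.toCover h2
  exact finite_card_top M h3

theorem simple_PH : IsSimpleGroup PH ∧ Nat.card PH = 251596800 := by
  have D := certified
  obtain ⟨φ, hφ⟩ := Pres.exists_action D.good D.extra_eq D.k_eq D.rels_eq D.words D.checked
  exact SuzG2.checked.isSimple model_H φ hφ order_le (d := 13) (by norm_num) SuzG2Simple.levels
    SuzG2Simple.levels_ok SuzG2Simple.levels_card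
    [(SuzG2.orb1, SuzG2Simple.rep1), (SuzG2.orb2, SuzG2Simple.rep2)]
    (by
      intro q hq
      simp only [List.mem_cons, List.not_mem_nil, or_false] at hq
      rcases hq with rfl | rfl
      · exact ⟨by decide, SuzG2.orb1_ok, by decide +kernel, by decide +kernel, SuzG2SimpleMax1.cert,
          SuzG2SimpleMax1.tab, _, ⟨rfl, by decide +kernel, by decide +kernel,
            SuzG2SimpleMax1.words_ok, SuzG2SimpleMax1.cover, rfl⟩⟩
      · exact ⟨by decide, SuzG2.orb2_ok, by decide +kernel, by decide +kernel, SuzG2SimpleMax2.cert,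
          SuzG2SimpleMax2.tab, _, ⟨rfl, by decide +kernel, by decide +kernel,
            SuzG2SimpleMax2.words_ok, SuzG2SimpleMax2.cover, rfl⟩⟩)
    SuzG2Simple.covered_ok SuzG2Simple.elt (by decide +kernel) SuzG2Simple.elt_pow
    (by decide +kernel) (C' := SuzG2SimpleKills.cert) (A' := SuzG2SimpleKills.tab)
    ⟨rfl, by decide +kernel, rfl, SuzG2SimpleKills.words_ok, SuzG2SimpleKills.cover, rfl⟩
    (by norm_num)

/-- the subgroup generated by `a, …, f` -/
noncomputable abbrev subH : Subgroup Cfsg.Spor.Suz := S1680.pres.subgrp Cfsg.Spor.Suz.extra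

theorem card_subH : Nat.card subH = 251596800 := by
  have h := Subgroup.index_mul_card subH
  rw [show subH.index = _ from S1680.certified.index, S1694.result.2] at h
  change 1782 * Nat.card subH = 448345497600 at h
  omega

theorem exists_to_subH : ∃ π : PH →* Cfsg.Spor.Suz, π.range = subH ∧
    Function.Injective π := by
  have M := S1694.model_act
  obtain ⟨π, hπ⟩ := Pres.exists_hom (extra := extraH) presH_good rfl
    (fun n => S1694.gn n)
    (fun n _ => Pres.gens_invol S1680.pres_good _)
    (by decide +kernel)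
    (by
      intro w hw
      have h : allL (fun w => Suz1782.cert.rels.contains w) presH.relWords = true := by
        decide +kernel
      exact M.rel _ (List.contains_iff_mem.mp (allL_spec h w hw)))
  have hr : π.range = subH := by
    rw [show subH = _ from
      Pres.subgrp_eq S1680.pres_good S1680.certified.k_eq S1680.certified.subs_eq Suz1782.words_ok,
      Pres.range_eq presH_good π _ hπ, show Suz1782.cert.subs = (List.range 6).map fun a => [a] from
        by decide +kernel]
    show Subgroup.closure _ = Subgroup.closure _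
    congr 1
    ext x
    simp only [Set.mem_setOf_eq, List.mem_map, List.mem_range]
    constructor
    · rintro ⟨g, hg, rfl⟩
      exact ⟨_, ⟨g, hg, rfl⟩, by simp only [eval, one_mul]⟩
    · rintro ⟨_, ⟨a, ha, rfl⟩, rfl⟩
      exact ⟨a, ha, by simp only [eval, one_mul]⟩
  refine ⟨π, hr, ?_⟩
  haveI := order_le.1
  have h1 : Nat.card π.range = 251596800 := by rw [hr]; exact card_subH
  have h2 := Nat.card_le_card_of_surjective _ π.rangeRestrict_surjective
  have hb : Function.Bijective π.rangeRestrict :=
    (Nat.bijective_iff_surjective_and_card _).mpr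
      ⟨π.rangeRestrict_surjective, by
        have h3 : Nat.card (presH.Grp extraH) = 251596800 := simple_PH.2
        omega⟩
  exact fun a b h => hb.1 (Subtype.ext h)

open SuzG2Mat in
theorem letters_ok : ∀ i < 9, ∃ h : (letters.getD i (0, 0)).1 < Cfsg.Lie.chevG2.nroots,
    (letters.getD i (0, 0)).2 < 4 ∧
    xOK ⟨_, h⟩ (letters.getD i (0, 0)).2 (letterCodes.getD i 0) ∧
    mulOK (letterCodes.getD i 0) (letterCodes.getD i 0) oneCode = true := by
  decide +kernel

open SuzG2Mat in
theorem gens_ok : ∀ g < 6,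
    (genWords.getD g []).all (fun i => decide (i < 9)) = true ∧
    chainOK letterCodes (matCodes.getD g 0) (genWords.getD g []) (genChains.getD g []) oneCode
      = true ∧
    mulOK (matCodes.getD g 0) (matCodes.getD g 0) oneCode = true := by
  decide +kernel

/-- checks every relator against its chain of partial products -/
noncomputable def chainsOK : List (List ℕ) → List (List ℕ) → Bool
  | [], [] => true
  | w :: ws, c :: cs =>
    SuzG2Mat.chainOK SuzG2Mat.matCodes SuzG2Mat.oneCode w c SuzG2Mat.oneCode && chainsOK ws cs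
  | _, _ => false

theorem chainsOK_spec : ∀ {ws cs : List (List ℕ)}, chainsOK ws cs = true → ∀ w ∈ ws,
    ∃ c, SuzG2Mat.chainOK SuzG2Mat.matCodes SuzG2Mat.oneCode w c SuzG2Mat.oneCode = true
  | [], _, _, w, hw => absurd hw List.not_mem_nil
  | _ :: _, [], h, _, _ => by simp [chainsOK] at h
  | a :: ws, c :: cs, h, w, hw => by
    simp only [chainsOK, Bool.and_eq_true] at h
    rcases List.mem_cons.mp hw with rfl | hw
    · exact ⟨c, h.1⟩
    · exact chainsOK_spec h.2 w hw

open SuzG2Mat in
theorem exists_to_G2 {K : Type} [Field K] [CharP K 2] (w : K) (hw : w * w = 1 + w) :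
    ∃ q : PH →* Cfsg.Lie.chevG2.group K, Function.Injective q := by
  let v : Cfsg.Lie.chevG2.group K →* Matrix Idx Idx K :=
    (Units.coeHom _).comp (Cfsg.Lie.chevG2.group K).subtype
  have hlet : ∀ i, ∃ x : Cfsg.Lie.chevG2.group K,
      i < 9 → v x = toMat w (letterCodes.getD i 0) := by
    intro i
    by_cases hi : i < 9
    · obtain ⟨h, ht, hx, hm⟩ := letters_ok i hi
      have hsq := (toMat_mul hw hm).trans (toMat_one (w := w))
      exact ⟨⟨⟨_, _, hsq, hsq⟩, Subgroup.subset_closure ⟨_, _, xMat_eq hw ht hx⟩⟩, fun _ => rfl⟩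
    · exact ⟨1, fun h => absurd h hi⟩
  choose l hl using hlet
  have hgen : ∀ g, ∃ x : Cfsg.Lie.chevG2.group K,
      (g < 6 → v x = toMat w (matCodes.getD g 0)) ∧ x * x = 1 := by
    intro g
    by_cases hg : g < 6
    · obtain ⟨h1, h2, h3⟩ := gens_ok g hg
      have hv := chainOK_spec hw h2 v l
        (fun i hi => hl i (of_decide_eq_true (List.all_eq_true.mp h1 i hi))) 1
        (by rw [map_one, toMat_one])
      refine ⟨_, fun _ => hv, Subtype.ext (Units.ext ?_)⟩
      show v (_ * _) = 1
      rw [map_mul, hv, toMat_mul hw h3, toMat_one]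
    · exact ⟨1, fun h => absurd h hg, one_mul 1⟩
  choose p hp hpp using hgen
  have hlt : ∀ w ∈ presH.relWords, ∀ a ∈ w, a < presH.k := by decide +kernel
  obtain ⟨ρ, hρ⟩ := Pres.exists_hom (extra := extraH) presH_good rfl p (fun g _ => hpp g) hlt
    (by
      intro u hu
      obtain ⟨c, hc⟩ := chainsOK_spec (cs := relChains)
        (show chainsOK presH.relWords relChains = true by decide +kernel) u hu
      have := chainOK_spec hw hc v p (fun g hg => hp g (hlt u hu g hg)) 1
        (by rw [map_one, toMat_one])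
      rw [mul_one, ← eval_eq_prod_reverse, toMat_one] at this
      exact Subtype.ext (Units.ext this))
  refine ⟨ρ, (MonoidHom.ker_eq_bot_iff ρ).mp ?_⟩
  haveI := simple_PH.1
  rcases ρ.normal_ker.eq_bot_or_eq_top with h | h
  · exact h
  · exfalso
    have h0 : ρ (presH.gens extraH 0) = 1 := MonoidHom.mem_ker.mp (by rw [h]; trivial)
    rw [hρ 0 (by decide)] at h0
    have h1 : toMat w (matCodes.getD 0 0) = 1 := by rw [← hp 0 (by decide), h0, map_one]
    have e : ent (matCodes.getD 0 0) (pos (.inr ⟨8, by decide⟩)) (pos (.inl ⟨0, by decide⟩)) = 1 := by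
      decide +kernel
    have h2 := congrFun (congrFun h1 (.inr ⟨8, by decide⟩)) (.inl ⟨0, by decide⟩)
    simp only [toMat, Matrix.of_apply, e, dec, Matrix.one_apply, reduceCtorEq, if_false] at h2
    exact one_ne_zero h2

theorem exists_root (K : Type) [Field K] [Fintype K] (h : Fintype.card K = 4) :
    CharP K 2 ∧ ∃ w : K, w * w = 1 + w := by
  haveI : CharP K 2 := (CharP.charP_iff_prime_eq_zero Nat.prime_two).mpr (by
    have h4 : ((4 : ℕ) : K) = 0 := h ▸ Nat.cast_card_eq_zero K
    have : (2 : K) * 2 = 0 := by rw [← h4]; norm_num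
    simpa using mul_self_eq_zero.mp this)
  refine ⟨inferInstance, ?_⟩
  classical
  obtain ⟨w, hw⟩ : ∃ w : K, w ∉ ({0, 1} : Finset K) := by
    by_contra hc
    push Not at hc
    have h1 := Finset.card_le_card (show Finset.univ ⊆ ({0, 1} : Finset K) from fun x _ => hc x)
    have h2 : ({0, 1} : Finset K).card ≤ 2 := Finset.card_le_two
    rw [Finset.card_univ] at h1
    omega
  simp only [Finset.mem_insert, Finset.mem_singleton, not_or] at hw
  have h4 : w ^ 4 = w := h ▸ FiniteField.pow_card w
  have h2 : (2 : K) = 0 := CharTwo.two_eq_zero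
  have hne : w * (w - 1) ≠ 0 := mul_ne_zero hw.1 (sub_ne_zero.mpr hw.2)
  refine ⟨w, mul_left_cancel₀ hne ?_⟩
  linear_combination h4 - (w * (w - 1) * (1 + w)) * h2

/-- In the presented sporadic Suzuki group (generators a, …, g), the subgroup generated by the images of a, …, f is isomorphic to the adjoint Chevalley group of type G₂ over a field with four elements. -/
theorem result : ∃ (K : Type) (_ : Field K) (_ : Fintype K), Fintype.card K = 4 ∧ Nonempty ((((Subgroup.closure ({Cfsg.Spor.Suz.a, Cfsg.Spor.Suz.b, Cfsg.Spor.Suz.c, Cfsg.Spor.Suz.d, Cfsg.Spor.Suz.e, Cfsg.Spor.Suz.f} : Set (FreeGroup Cfsg.Spor.Suz.Gen))).map (PresentedGroup.mk (Cfsg.Spor.coxRelators Cfsg.Spor.Suz.edges ∪ {r | r ∈ Cfsg.Spor.Suz.extra})))) ≃* Cfsg.Lie.chevG2.group K) := by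
  let K := GaloisField 2 2
  letI : Fintype K := Fintype.ofFinite K
  have hK : Fintype.card K = 4 := by
    rw [← Nat.card_eq_fintype_card, GaloisField.card 2 2 (by norm_num)]
    norm_num
  refine ⟨K, inferInstance, inferInstance, hK, ?_⟩
  rw [← S1680.gens_eq]
  show Nonempty (subH ≃* Cfsg.Lie.chevG2.group K)
  obtain ⟨π, hr, hinj⟩ := exists_to_subH
  obtain ⟨hc, w, hw⟩ := exists_root K hK
  obtain ⟨q, hq⟩ := exists_to_G2 w hw
  let e : PH ≃* subH := (MonoidHom.ofInjective hinj).trans (MulEquiv.subgroupCongr hr)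
  have hG : Nat.card (Cfsg.Lie.chevG2.group K) = 251596800 := by
    rw [S1059.result hK]; norm_num
  haveI := order_le.1
  haveI : Finite (Cfsg.Lie.chevG2.group K) :=
    Nat.finite_of_card_ne_zero (by rw [hG]; norm_num)
  have hb : Function.Bijective q :=
    (Nat.bijective_iff_injective_and_card _).mpr ⟨hq, by
      rw [hG]; exact simple_PH.2⟩
  exact ⟨e.symm.trans (MulEquiv.ofBijective q hb)⟩

end Cfsg.Agent.S1679
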