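import Cfsg.Statements.S1699
import Mathlib
import Cfsg.Agent.Lib.CosetTable.ONPres.Order
import Cfsg.Agent.Lib.CosetTable.ONSimple.OK
import Cfsg.Agent.Lib.CosetTable.ONSimple.Covered
import Cfsg.Agent.Lib.CosetTable.ON122760.OrbsOK
import Cfsg.Agent.Lib.CosetTable.ONSimpleKills.Cover
import Cfsg.Agent.Lib.CosetTable.ONSimpleMax1.Cover
import Cfsg.Agent.Lib.CosetTable.ONSimpleMax2.Cover
import Cfsg.Agent.Lib.CosetTable.ONSimpleMax3.Cover
import Cfsg.Agent.Lib.CosetTable.ONSimpleMax4.Cover

set_option autoImplicit false
open Cfsg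

open scoped Pointwise

namespace Cfsg.Agent.S1699

open Cfsg.Agent.Lib.CosetTable

/-- The presented O'Nan group is simple of the expected order (that is, it is a simple group of the order of the O'Nan group). -/
theorem result : Cfsg.IsON Cfsg.Spor.ON := by
  obtain ⟨φ, hφ⟩ := ONPres.exists_action
  exact ON122760.checked.isSimple ONPres.model_top φ hφ ONPres.order_le (d := 5) (by norm_num) ONSimple.levels
    ONSimple.levels_ok ONSimple.levels_card
    [(ON122760.orb1, ONSimple.rep1), (ON122760.orb2, ONSimple.rep2),
      (ON122760.orb3, ONSimple.rep3), (ON122760.orb4, ONSimple.rep4)]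
    (by
      intro q hq
      simp only [List.mem_cons, List.not_mem_nil, or_false] at hq
      rcases hq with rfl | rfl | rfl | rfl
      · exact ⟨by decide +kernel, ON122760.orb1_ok, by decide +kernel, by decide +kernel, ONSimpleMax1.cert,
          ONSimpleMax1.tab, _,
          ⟨rfl, by decide +kernel, by decide +kernel, ONSimpleMax1.words_ok, ONSimpleMax1.cover, rfl⟩⟩
      · exact ⟨by decide +kernel, ON122760.orb2_ok, by decide +kernel, by decide +kernel, ONSimpleMax2.cert,
          ONSimpleMax2.tab, _,
          ⟨rfl, by decide +kernel, by decide +kernel, ONSimpleMax2.words_ok, ONSimpleMax2.cover, rfl⟩⟩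
      · exact ⟨by decide +kernel, ON122760.orb3_ok, by decide +kernel, by decide +kernel, ONSimpleMax3.cert,
          ONSimpleMax3.tab, _,
          ⟨rfl, by decide +kernel, by decide +kernel, ONSimpleMax3.words_ok, ONSimpleMax3.cover, rfl⟩⟩
      · exact ⟨by decide +kernel, ON122760.orb4_ok, by decide +kernel, by decide +kernel, ONSimpleMax4.cert,
          ONSimpleMax4.tab, _,
          ⟨rfl, by decide +kernel, by decide +kernel, ONSimpleMax4.words_ok, ONSimpleMax4.cover, rfl⟩⟩)
    ONSimple.covered_ok ONSimple.elt (by decide +kernel)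
    (Big.fixOK_of_fix_base ON122760.checked φ hφ ONPres.model_top ONPres.order_le ONSimple.levels
      ONSimple.levels_ok ONSimple.levels_card _ (by decide +kernel) ONSimple.elt_base)
    (by decide +kernel) (C' := ONSimpleKills.cert) (A' := ONSimpleKills.tab)
    ⟨rfl, by decide +kernel, rfl, ONSimpleKills.words_ok, ONSimpleKills.cover, rfl⟩ (by norm_num)

end Cfsg.Agent.S1699
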