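import Cfsg.Statements.S0660
import Mathlib
-- import your own Cfsg.Agent.* helpers here

set_option autoImplicit false
open Cfsg

namespace Cfsg.Agent.S0660

/-- Under a coprime action on an abelian group, an invariant subgroup that is complemented admits an invariant complement. -/
theorem result {G : Type*} [Group G] [Finite G] (V A U : Subgroup G) (hVab : IsMulCommutative V) (hAV : A ≤ Subgroup.normalizer (V : Set G)) (hcop : (Nat.card A).Coprime (Nat.card V)) (hUV : U ≤ V) (hAU : A ≤ Subgroup.normalizer (U : Set G)) (W : Subgroup G) (hWV : W ≤ V) (hUW : U ⊓ W = ⊥) (hUWV : U ⊔ W = V) : ∃ W' : Subgroup G, W' ≤ V ∧ A ≤ Subgroup.normalizer (W' : Set G) ∧ U ⊓ W' = ⊥ ∧ U ⊔ W' = V := by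
  let : CommGroup V := { (inferInstance : Group V) with mul_comm := hVab.is_comm.comm }
  classical
  let : Fintype A := Fintype.ofFinite _
  let φ : A →* MulAut V := V.normalizerMonoidHom.comp (Subgroup.inclusion hAV)
  have hφ : ∀ (a : A) (w : V), ((φ a w : V) : G) = (a : G) * w.1 * (a : G)⁻¹ := fun a w => rfl
  let U' : Subgroup V := U.subgroupOf V
  let W₁ : Subgroup V := W.subgroupOf V
  have hdec : ∀ v : V, ∃ u : V, u ∈ U' ∧ u⁻¹ * v ∈ W₁ := by
    intro v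
    have h1 : U' ⊔ W₁ = ⊤ := by
      rw [← Subgroup.subgroupOf_sup hUV hWV, hUWV, Subgroup.subgroupOf_self]
    obtain ⟨u, hu, w, hw, huw⟩ := Subgroup.mem_sup.mp (h1 ▸ Subgroup.mem_top v)
    exact ⟨u, hu, by rw [← huw, inv_mul_cancel_left]; exact hw⟩
  choose π hπU hπW using hdec
  have huniq : ∀ v u : V, u ∈ U' → u⁻¹ * v ∈ W₁ → π v = u := by
    intro v u hu hw
    have h1 : ((π v : V) : G)⁻¹ * u ∈ U ⊓ W := by
      refine ⟨U.mul_mem (U.inv_mem (hπU v)) hu, ?_⟩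
      have h2 := W₁.mul_mem (hπW v) (W₁.inv_mem hw)
      have h3 : (π v)⁻¹ * v * (u⁻¹ * v)⁻¹ = (π v)⁻¹ * u := by group
      rw [h3] at h2
      exact h2
    rw [hUW, Subgroup.mem_bot] at h1
    exact Subtype.ext (inv_mul_eq_one.mp h1)
  let πh : V →* V := MonoidHom.mk' π fun x y => by
    refine huniq _ _ (mul_mem (hπU x) (hπU y)) ?_
    have h1 : (π x * π y)⁻¹ * (x * y) = ((π x)⁻¹ * x) * ((π y)⁻¹ * y) := by
      rw [mul_inv, mul_mul_mul_comm]
    rw [h1]
    exact mul_mem (hπW x) (hπW y)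
  have hUfix : ∀ (a : A) (u : V), u ∈ U' → φ a u ∈ U' := fun a u hu =>
    (Subgroup.mem_normalizer_iff.mp (hAU a.2) _).mp hu
  let σ : V →* V := ∏ a : A, ((φ a).toMonoidHom.comp πh).comp (φ a⁻¹).toMonoidHom
  have hσ : ∀ v, σ v = ∏ a : A, φ a (π (φ a⁻¹ v)) := fun v => by
    simp [σ, MonoidHom.finsetProd_apply, πh]
  have hσU : ∀ v, σ v ∈ U' := fun v => by
    rw [hσ]; exact Subgroup.prod_mem _ fun a _ => hUfix a _ (hπU _)
  have hσfix : ∀ u ∈ U', σ u = u ^ Nat.card A := by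
    intro u hu
    have h0 : ∀ a : A, φ a (π (φ a⁻¹ u)) = u := fun a => by
      rw [huniq _ (φ a⁻¹ u) (hUfix _ u hu) (by rw [inv_mul_cancel]; exact one_mem _),
        ← MulAut.mul_apply, ← map_mul, mul_inv_cancel, map_one, MulAut.one_apply]
    rw [hσ, Finset.prod_congr rfl fun a _ => h0 a, Finset.prod_const, Finset.card_univ,
      Nat.card_eq_fintype_card]
  have hσeq : ∀ (b : A) (v : V), σ (φ b v) = φ b (σ v) := by
    intro b v
    rw [hσ, hσ, map_prod]
    refine (Fintype.prod_equiv (Equiv.mulLeft b) _ _ fun a => ?_).symm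
    simp only [Equiv.coe_mulLeft, mul_inv_rev, map_mul, MulAut.mul_apply]
    congr 3
    rw [show φ b⁻¹ (φ b v) = (φ b⁻¹ * φ b) v from rfl, ← map_mul φ b⁻¹ b, inv_mul_cancel, map_one, MulAut.one_apply]
  refine ⟨σ.ker.map V.subtype, Subgroup.map_subtype_le _, ?_, ?_, ?_⟩
  · intro a ha
    have key : ∀ (b : A) (w : V), w ∈ σ.ker → φ b w ∈ σ.ker := fun b w hw => by
      rw [MonoidHom.mem_ker, hσeq, MonoidHom.mem_ker.mp hw, map_one]
    refine Subgroup.mem_normalizer_iff.mpr fun x => ⟨?_, ?_⟩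
    · rintro ⟨w, hw, rfl⟩
      exact ⟨_, key ⟨a, ha⟩ w hw, rfl⟩
    · rintro ⟨w, hw, hwx⟩
      refine ⟨_, key ⟨a, ha⟩⁻¹ w hw, ?_⟩
      have h1 : (w : G) = a * x * a⁻¹ := hwx
      show (((⟨a, ha⟩ : A)⁻¹ : A) : G) * (w : G) * ((((⟨a, ha⟩ : A)⁻¹ : A) : G))⁻¹ = x
      rw [h1]
      simp [mul_assoc]
  · rw [eq_bot_iff]
    rintro x ⟨hxU, w, hw, rfl⟩
    have hw' : σ w = 1 := MonoidHom.mem_ker.mp hw
    have h2 := hσfix w hxU
    rw [hw'] at h2
    have h3 := orderOf_eq_one_iff.mp (Nat.eq_one_of_dvd_coprimes hcop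
      (orderOf_dvd_of_pow_eq_one h2.symm) (orderOf_dvd_natCard w))
    rw [h3]; rfl
  · refine le_antisymm (sup_le hUV (Subgroup.map_subtype_le _)) fun x hx => ?_
    obtain ⟨u, hu⟩ := (powCoprime (G := U') (n := Nat.card A)
      ((hcop.coprime_dvd_right (Subgroup.card_subgroup_dvd_card U')).symm)).surjective
        ⟨σ ⟨x, hx⟩, hσU _⟩
    have hu' : (u : V) ^ Nat.card A = σ ⟨x, hx⟩ := congrArg Subtype.val hu
    have hker : (u : V)⁻¹ * ⟨x, hx⟩ ∈ σ.ker := by
      rw [MonoidHom.mem_ker, map_mul, map_inv, hσfix _ u.2, hu', inv_mul_cancel]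
    have h := mul_mem (Subgroup.mem_sup_left (T := σ.ker.map V.subtype) (show ((u : V) : G) ∈ U from u.2))
      (Subgroup.mem_sup_right (Subgroup.mem_map_of_mem V.subtype hker))
    simpa using h

end Cfsg.Agent.S0660
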