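import Cfsg.Statements.S0755
import Mathlib
import Cfsg.Agent.Lib.Forms.Families
-- import your own Cfsg.Agent.* helpers here

set_option autoImplicit false
open Cfsg

namespace Cfsg.Agent.S0755

/-- Classification of Hermitian forms over finite fields: if σ is a non-identity involutive automorphism of the finite field F and B is a non-degenerate conjugate-symmetric σ-sesquilinear form on the finite-dimensional space V, then V has a B-orthonormal basis. -/
theorem result {F V : Type*} [Field F] [Finite F] [AddCommGroup V] [Module F V] [FiniteDimensional F V] (σ : F →+* F) (hσ : σ ≠ RingHom.id F) (hσ2 : ∀ a : F, σ (σ a) = a) (B : V →ₛₗ[σ] V →ₗ[F] F) (hS : B.IsSymm) (hB : B.Nondegenerate) : ∃ b : Module.Basis (Fin (Module.finrank F V)) F V, ∀ i j, B (b i) (b j) = if i = j then 1 else 0 := by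
  have h := Cfsg.Agent.Lib.Forms.IsGoodForm.of_hermitian hσ hσ2 hS hB
  suffices hk : ∀ k, k ≤ Module.finrank F V →
      ∃ v : Fin k → V, ∀ i j, B (v i) (v j) = if i = j then 1 else 0 by
    obtain ⟨v, hv⟩ := hk _ le_rfl
    obtain ⟨b, hb⟩ := Cfsg.Agent.Lib.Forms.exists_basis_of_linearIndependent
      (Cfsg.Agent.Lib.Forms.linearIndependent_of_orthogonal (B := B) (v := v) (fun i j hij => by simp [hv, hij])
        (fun i => by simp [hv])) rfl
    exact ⟨b, fun i j => by rw [hb, hb, hv]⟩
  intro k
  induction k with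
  | zero => exact fun _ => ⟨Fin.elim0, fun i => i.elim0⟩
  | succ k ih =>
    intro hk
    obtain ⟨v, hv⟩ := ih (by omega)
    obtain ⟨w, hw, hww⟩ := h.exists_orth_anisotropic (Cfsg.Agent.Lib.Forms.hermitian_polarization hσ hS)
      (v := v) (fun i j hij => by simp [hv, hij]) (fun i => by simp [hv]) (by omega)
    obtain ⟨x, hx⟩ := Cfsg.Agent.Lib.Forms.exists_norm_eq hσ hσ2 (c := (B w w)⁻¹) (by rw [map_inv₀, hS.eq])
    refine ⟨Fin.snoc v (x • w), fun i j => ?_⟩
    induction i using Fin.lastCases <;> induction j using Fin.lastCases <;>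
      simp only [Fin.snoc_last, Fin.snoc_castSucc]
    · simp [map_smulₛₗ]
      rw [show x * (σ x * B w w) = (B w w)⁻¹ * B w w by rw [← hx]; ring, inv_mul_cancel₀ hww]
    · simp [map_smulₛₗ, h.eq_zero_symm (hw _), Fin.ext_iff]
      omega
    · simp [hw, Fin.ext_iff]
      omega
    · simp [hv]

end Cfsg.Agent.S0755
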