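import Cfsg.Statements.S2643
import Mathlib
import Cfsg.Agent.Lib.FormConj.Unipotent
import Cfsg.Agent.Lib.Classical.UnitaryOrder
import Cfsg.Agent.Lib.Similarity.RegularNilpotent

set_option autoImplicit false
open Cfsg

namespace Cfsg.Agent.S2643

open Matrix
open scoped MatrixGroups
open Cfsg.Agent.Lib

variable {K : Type*} [Field K] [Fintype K] {q n : ℕ}

/-- Rank sequence of a regular unipotent matrix. -/
theorem rank_pow (u : Matrix (Fin n) (Fin n) K) (h1 : (u - 1) ^ n = 0) (h2 : (u - 1).rank = n - 1) (j : ℕ) :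
    ((u - 1) ^ j).rank = n - j := by
  have hr : Module.finrank K (LinearMap.range (toLinAlgEquiv' (u - 1))) = n - 1 := h2
  have hk := LinearMap.finrank_range_add_finrank_ker (toLinAlgEquiv' (u - 1))
  rw [Module.finrank_fin_fun] at hk
  have h := Similarity.finrank_range_pow_regular (toLinAlgEquiv' (u - 1)) (by omega)
    (Module.finrank_fin_fun K) (by rw [← map_pow, h1, map_zero]) j
  rw [← map_pow] at h
  exact h

/-- A unitary matrix commuting with a regular unipotent one has determinant an `n`-th power of a norm-one scalar. -/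
theorem exists_det_eq (hK : Fintype.card K = q ^ 2) (hn : 1 ≤ n) (u : Matrix (Fin n) (Fin n) K)
    (h1 : (u - 1) ^ n = 0) (h2 : (u - 1).rank = n - 1) (c : GL (Fin n) K) (hc : c ∈ Cfsg.GU n K q)
    (hcu : Commute (c : Matrix (Fin n) (Fin n) K) u) :
    ∃ a : Kˣ, a ^ (q + 1) = 1 ∧ (c : Matrix (Fin n) (Fin n) K).det = (a : K) ^ n := by
  obtain ⟨m, rfl⟩ : ∃ m, n = m + 1 := ⟨n - 1, by omega⟩
  let T := (toLinAlgEquiv' : Matrix (Fin (m + 1)) (Fin (m + 1)) K ≃ₐ[K] _)
  let N := T (u - 1)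
  have hm : Module.finrank K (Fin (m + 1) → K) = m + 1 := Module.finrank_fin_fun K
  have hk := LinearMap.finrank_range_add_finrank_ker N
  have hr : Module.finrank K (LinearMap.range N) = m + 1 - 1 := h2
  have hN : N ^ (m + 1) = 0 := by rw [← map_pow, h1, map_zero]
  obtain ⟨v, hv⟩ := Similarity.exists_pow_apply_ne_zero N (by omega) hm
  have hcN : Commute (T (c : Matrix _ _ K)) N := (hcu.sub_right (Commute.one_right _)).map T
  let b := Similarity.cyclicBasis N hm hN v hv
  let cs : Fin (m + 1) → K := fun i => b.repr (T (c : Matrix _ _ K) v) i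
  have hT' : T (c : Matrix _ _ K) = ∑ i, cs i • N ^ (i : ℕ) := by
    refine Similarity.eq_of_commute_of_apply_eq N hm hN v hv hcN
      (Commute.sum_left _ _ _ fun i _ => ((Commute.refl N).pow_left _).smul_left _) ?_
    conv_lhs => rw [← b.sum_repr (T (c : Matrix _ _ K) v)]
    simp [cs, b, Similarity.cyclicBasis_apply]
  have hnil : IsNilpotent (T (c : Matrix _ _ K) - cs 0 • 1) := by
    have : T (c : Matrix _ _ K) - cs 0 • 1 = N * ∑ i : Fin m, cs i.succ • N ^ (i : ℕ) := by
      rw [hT', Fin.sum_univ_succ, Finset.mul_sum]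
      simp [pow_succ']
    rw [this]
    exact Commute.isNilpotent_mul_right
      (Commute.sum_right _ _ _ fun i _ => ((Commute.refl N).pow_right _).smul_right _) ⟨_, hN⟩
  have hdet : (c : Matrix (Fin (m + 1)) (Fin (m + 1)) K).det = cs 0 ^ (m + 1) := by
    rw [← LinearMap.det_toLin']
    exact (Similarity.det_of_isNilpotent_sub _ _ hnil).trans (congrArg _ hm)
  have ha0 : cs 0 ≠ 0 := fun h => by
    rw [h, zero_pow (Nat.succ_ne_zero m)] at hdet
    exact (GeneralLinearGroup.det c).ne_zero hdet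
  refine ⟨Units.mk0 _ ha0, ?_, hdet⟩
  -- a power of `c` is the scalar `a ^ (p ^ k)`
  obtain ⟨N', hN'⟩ := hnil
  obtain ⟨p, hp⟩ := CharP.exists K
  haveI := Fact.mk (CharP.char_is_prime K p)
  obtain ⟨k, hk'⟩ : ∃ k, N' ≤ p ^ k := ⟨N', (Nat.lt_pow_self (Fact.out : p.Prime).one_lt).le⟩
  have h3 : ((c : Matrix (Fin (m + 1)) (Fin (m + 1)) K) - cs 0 • 1) ^ p ^ k = 0 := by
    refine T.injective ?_
    rw [map_zero, map_pow, map_sub, map_smul, map_one]
    exact pow_eq_zero_of_le hk' hN'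
  rw [sub_pow_char_pow_of_commute (p := p) k (h := (Commute.one_right _).smul_right _), sub_eq_zero, smul_pow,
    one_pow] at h3
  have h4 : c ^ p ^ k = GeneralLinearGroup.scalar (Fin (m + 1)) (Units.mk0 _ ha0 ^ p ^ k) := by
    refine Units.ext ?_
    rw [Units.val_pow_eq_pow_val, h3, GeneralLinearGroup.coe_scalar, Units.val_pow_eq_pow_val, Units.val_mk0,
      Matrix.smul_one_eq_diagonal]
    rfl
  have h5 := FieldDescent.pow_eq_one_of_scalar_mem hK (by omega) _ (h4 ▸ pow_mem hc (p ^ k))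
  rw [← pow_mul, mul_comm, pow_mul] at h5
  refine Units.ext ((iterateFrobenius K p k).injective ?_)
  rw [iterateFrobenius_def, iterateFrobenius_def, Units.val_one, one_pow, ← Units.val_pow_eq_pow_val, h5,
    Units.val_one]

/-- An element of `GU` of determinant one as an element of `SU`. -/
theorem exists_SU (g : GL (Fin n) K) (hg : g ∈ Cfsg.GU n K q) (hd : (g : Matrix (Fin n) (Fin n) K).det = 1) :
    ∃ u : Cfsg.SU n K q, ((u : GL (Fin n) K) : Matrix (Fin n) (Fin n) K) = g :=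
  ⟨⟨⟨g, hd⟩, hg⟩, rfl⟩

/-- A regular unipotent element of `SU`. -/
theorem exists_regular (hK : Fintype.card K = q ^ 2) :
    ∃ u : Cfsg.SU n K q, (((u : GL (Fin n) K) : Matrix (Fin n) (Fin n) K) - 1) ^ n = 0 ∧
      (((u : GL (Fin n) K) : Matrix (Fin n) (Fin n) K) - 1).rank = n - 1 := by
  classical
  have h1 : (Cfsg.jordanBlock n K - 1) ^ n = 0 :=
    (toLinAlgEquiv' : Matrix (Fin n) (Fin n) K ≃ₐ[K] _).injective (by
      rw [map_pow, map_zero]; exact (Similarity.jordanBlock_nilpotent_regular n).1)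
  obtain ⟨J, hJ⟩ := (IsNilpotent.isUnit_one_add ⟨n, h1⟩)
  rw [add_sub_cancel] at hJ
  obtain ⟨g, hg⟩ := FormConj.exists_GU_isConj_unipotent hK J (by rw [hJ]; exact ⟨n, h1⟩)
  have hg' : IsConj (Cfsg.jordanBlock n K) ((g : GL (Fin n) K) : Matrix (Fin n) (Fin n) K) := by
    rw [← hJ]
    exact (Units.coeHom _).map_isConj hg
  obtain ⟨c, hc⟩ := hg'
  have hpow : ∀ j, (c : Matrix (Fin n) (Fin n) K) * (Cfsg.jordanBlock n K - 1) ^ j
      = (((g : GL (Fin n) K) : Matrix (Fin n) (Fin n) K) - 1) ^ j * c := fun j =>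
    ((SemiconjBy.sub_right hc (SemiconjBy.one_right _)).pow_right j)
  have hnil : (((g : GL (Fin n) K) : Matrix (Fin n) (Fin n) K) - 1) ^ n = 0 := by
    have := hpow n
    rw [h1, mul_zero] at this
    exact c.mul_left_eq_zero.mp this.symm
  have hdet : ((g : GL (Fin n) K) : Matrix (Fin n) (Fin n) K).det = 1 := by
    have := Similarity.det_of_isNilpotent_sub
      ((toLinAlgEquiv' : Matrix (Fin n) (Fin n) K ≃ₐ[K] _) ((g : GL (Fin n) K) : Matrix (Fin n) (Fin n) K)) 1
      (by rw [one_smul, ← map_one (toLinAlgEquiv' : Matrix (Fin n) (Fin n) K ≃ₐ[K] _), ← map_sub]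
          exact IsNilpotent.map ⟨n, hnil⟩ _)
    rw [← LinearMap.det_toLin', one_pow] at *
    exact this
  obtain ⟨u, hu⟩ := exists_SU (g : GL (Fin n) K) g.2 hdet
  refine ⟨u, by rw [hu]; exact hnil, ?_⟩
  have hdu : IsUnit (c : Matrix (Fin n) (Fin n) K).det := (isUnit_iff_isUnit_det _).1 c.isUnit
  rw [hu, ← rank_mul_eq_left_of_isUnit_det _ _ hdu, ← pow_one (((g : GL (Fin n) K) : Matrix (Fin n) (Fin n) K) - 1),
    ← hpow, rank_mul_eq_right_of_isUnit_det _ _ hdu]
  exact Similarity.rank_jordanBlock_sub_one_pow n 1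

/-- Conjugacy in `SU` is conjugation in `GU` by an element of determinant one. -/
theorem isConj_SU_iff (u v : Cfsg.SU n K q) :
    IsConj u v ↔ ∃ s : GL (Fin n) K, s ∈ Cfsg.GU n K q ∧ GeneralLinearGroup.det s = 1 ∧
      s * (u : GL (Fin n) K) * s⁻¹ = (v : GL (Fin n) K) := by
  constructor
  · intro h
    obtain ⟨s, hs⟩ := isConj_iff.1 h
    refine ⟨(s : GL (Fin n) K), s.2, Units.ext (s.1.2), ?_⟩
    rw [mul_inv_eq_iff_eq_mul] at hs ⊢
    exact Units.ext (congrArg (fun x : Cfsg.SU n K q => ((x : SpecialLinearGroup (Fin n) K) : Matrix (Fin n) (Fin n) K)) hs)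
  · rintro ⟨s, hs, hd, h⟩
    obtain ⟨s', hs'⟩ := exists_SU s hs (congrArg Units.val hd)
    refine isConj_iff.2 ⟨s', ?_⟩
    rw [mul_inv_eq_iff_eq_mul] at h ⊢
    refine Subtype.ext (Subtype.ext ?_)
    have := congrArg Units.val h
    rw [Units.val_mul, Units.val_mul, ← hs'] at this
    exact this


/-- Regular unipotent classes of SU_n(q), n ≥ 2: the elements u of the special unitary group (isometries of Σ u_i v_i^q of determinant one over the field with q² elements) with (u − 1)^n = 0 and rank(u − 1) = n − 1 form exactly gcd(n, q + 1) conjugacy classes of SU_n(q). -/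
theorem result {K : Type*} [Field K] [Fintype K] {q n : ℕ} (hK : Fintype.card K = q ^ 2) (hn : 2 ≤ n) : Nat.card {C : ConjClasses ↥(Cfsg.SU n K q) // ∃ u : ↥(Cfsg.SU n K q), ConjClasses.mk u = C ∧ (((u : GL (Fin n) K) : Matrix (Fin n) (Fin n) K) - 1) ^ n = 0 ∧ (((u : GL (Fin n) K) : Matrix (Fin n) (Fin n) K) - 1).rank = n - 1} = Nat.gcd n (q + 1) := by
  classical
  have hn1 : 1 ≤ n := by omega
  obtain ⟨u₀, hu₀, hr₀⟩ := exists_regular (n := n) hK
  let H : Subgroup Kˣ := (Classical.guDet n K q).range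
  have hH : Nat.card H = q + 1 := Classical.natCard_range_guDet hK n hn1
  have hmemH : ∀ a : Kˣ, a ^ (q + 1) = 1 → a ^ n ∈ H := fun a ha =>
    ⟨⟨_, FieldDescent.scalar_mem_GU (n := n) hK a ha⟩, Units.ext (by simp [Classical.guDet])⟩
  let P : Subgroup H := (powMonoidHom n : H →* H).range
  have hP : P.index = Nat.gcd n (q + 1) := by
    rw [IsCyclic.index_powMonoidHom_range, hH, Nat.gcd_comm]
  rw [← hP, Subgroup.index_eq_card]
  choose d hd using fun z : H => z.2
  have hdz : ∀ z : H, GeneralLinearGroup.det ((d z : Cfsg.GU n K q) : GL (Fin n) K) = z.1 := hd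
  have hconjmem : ∀ g : Cfsg.GU n K q,
      (g : GL (Fin n) K) * (u₀ : GL (Fin n) K) * (g : GL (Fin n) K)⁻¹ ∈ Cfsg.GU n K q ∧
        (((g : GL (Fin n) K) * (u₀ : GL (Fin n) K) * (g : GL (Fin n) K)⁻¹ : GL (Fin n) K) :
          Matrix (Fin n) (Fin n) K).det = 1 := fun g =>
    ⟨mul_mem (mul_mem g.2 u₀.2) (inv_mem g.2),
      congrArg Units.val (show GeneralLinearGroup.det ((g : GL (Fin n) K) * (u₀ : GL (Fin n) K)
        * (g : GL (Fin n) K)⁻¹) = 1 by
        rw [map_mul, map_mul, map_inv, mul_comm, inv_mul_cancel_left]; exact Units.ext u₀.1.2)⟩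
  choose U hU using fun g : Cfsg.GU n K q => exists_SU _ (hconjmem g).1 (hconjmem g).2
  have hUeq : ∀ g : Cfsg.GU n K q,
      (U g : GL (Fin n) K) = (g : GL (Fin n) K) * (u₀ : GL (Fin n) K) * (g : GL (Fin n) K)⁻¹ :=
    fun g => Units.ext (hU g)
  -- `U g` and `U g'` are conjugate iff the determinants agree modulo `n`-th powers
  have hkey : ∀ g g' : Cfsg.GU n K q, IsConj (U g) (U g') ↔ ∃ a : Kˣ, a ^ (q + 1) = 1 ∧
      GeneralLinearGroup.det (g' : GL (Fin n) K) = GeneralLinearGroup.det (g : GL (Fin n) K) * a ^ n := by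
    intro g g'
    rw [isConj_SU_iff, hUeq, hUeq]
    constructor
    · rintro ⟨s, hs, hsd, h⟩
      set c := (g : GL (Fin n) K)⁻¹ * s⁻¹ * (g' : GL (Fin n) K) with hc
      have hcu : Commute c (u₀ : GL (Fin n) K) := by
        show c * _ = _ * c
        rw [hc]
        calc _ = (g : GL (Fin n) K)⁻¹ * s⁻¹ * ((g' : GL (Fin n) K) * (u₀ : GL (Fin n) K) * (g' : GL (Fin n) K)⁻¹)
              * (g' : GL (Fin n) K) := by group
          _ = _ := by rw [← h]; group
      obtain ⟨a, ha, hdet⟩ := exists_det_eq hK hn1 _ hu₀ hr₀ c (mul_mem (mul_mem (inv_mem g.2) (inv_mem hs)) g'.2)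
        (hcu.map (Units.coeHom _))
      refine ⟨a, ha, ?_⟩
      have e : GeneralLinearGroup.det c = a ^ n := Units.ext (by simpa using hdet)
      rw [hc, map_mul, map_mul, map_inv, map_inv, hsd, inv_one, mul_one] at e
      rw [← e, mul_inv_cancel_left]
    · rintro ⟨a, ha, hdet⟩
      set z := GeneralLinearGroup.scalar (Fin n) a
      refine ⟨(g' : GL (Fin n) K) * z⁻¹ * (g : GL (Fin n) K)⁻¹,
        mul_mem (mul_mem g'.2 (inv_mem (FieldDescent.scalar_mem_GU hK a ha))) (inv_mem g.2), ?_, ?_⟩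
      · have hz : GeneralLinearGroup.det z = a ^ n := Units.ext (by simp [z])
        rw [map_mul, map_mul, map_inv, map_inv, hz, hdet, mul_inv_cancel_right, mul_inv_cancel]
      · have hzc : z⁻¹ * (u₀ : GL (Fin n) K) = (u₀ : GL (Fin n) K) * z⁻¹ :=
          (Commute.inv_left (GeneralLinearGroup.scalar_commute a _)).eq
        calc _ = (g' : GL (Fin n) K) * (z⁻¹ * (u₀ : GL (Fin n) K)) * z * (g' : GL (Fin n) K)⁻¹ := by group
          _ = _ := by rw [hzc]; group
  have hreg : ∀ g : Cfsg.GU n K q,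
      (((U g : GL (Fin n) K) : Matrix (Fin n) (Fin n) K) - 1) ^ n = 0 ∧
      (((U g : GL (Fin n) K) : Matrix (Fin n) (Fin n) K) - 1).rank = n - 1 := by
    intro g
    have hs : SemiconjBy ((g : GL (Fin n) K) : Matrix (Fin n) (Fin n) K)
        (((u₀ : GL (Fin n) K) : Matrix (Fin n) (Fin n) K) - 1)
        (((U g : GL (Fin n) K) : Matrix (Fin n) (Fin n) K) - 1) := by
      refine SemiconjBy.sub_right ?_ (SemiconjBy.one_right _)
      show _ * _ = _ * _
      rw [hUeq, Units.val_mul, Units.val_mul, Units.inv_mul_cancel_right]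
    have hdu : IsUnit ((g : GL (Fin n) K) : Matrix (Fin n) (Fin n) K).det :=
      (isUnit_iff_isUnit_det _).1 (g : GL (Fin n) K).isUnit
    constructor
    · have := hs.pow_right n
      rw [hu₀] at this
      exact (g : GL (Fin n) K).mul_left_eq_zero.mp ((this : _ = _).symm.trans (mul_zero _))
    · rw [← rank_mul_eq_left_of_isUnit_det _ _ hdu, ← (hs : _ = _), rank_mul_eq_right_of_isUnit_det _ _ hdu, hr₀]
  let f : H → {C : ConjClasses ↥(Cfsg.SU n K q) // ∃ u : ↥(Cfsg.SU n K q), ConjClasses.mk u = C ∧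
      (((u : GL (Fin n) K) : Matrix (Fin n) (Fin n) K) - 1) ^ n = 0 ∧
      (((u : GL (Fin n) K) : Matrix (Fin n) (Fin n) K) - 1).rank = n - 1} :=
    fun z => ⟨ConjClasses.mk (U (d z)), U (d z), rfl, hreg _⟩
  have hf : ∀ z z' : H, f z = f z' ↔ z⁻¹ * z' ∈ P := by
    intro z z'
    rw [Subtype.ext_iff, ConjClasses.mk_eq_mk_iff_isConj, hkey]
    simp only [hdz]
    constructor
    · rintro ⟨a, ha, e⟩
      have haH : a ∈ H := by
        let D : Matrix (Fin n) (Fin n) K := diagonal (Function.update (fun _ => (1 : K)) ⟨0, hn1⟩ (a : K))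
        have hD : D.det = a := by
          rw [det_diagonal, Finset.prod_update_of_mem (Finset.mem_univ _)]; simp
        refine ⟨⟨GeneralLinearGroup.mkOfDetNeZero D (by rw [hD]; exact a.ne_zero),
          Classical.diagonal_mem_GU hK _ fun i => ?_⟩, Units.ext hD⟩
        rcases eq_or_ne i ⟨0, hn1⟩ with rfl | h
        · rw [Function.update_self, ← Units.val_pow_eq_pow_val, ha, Units.val_one]
        · rw [Function.update_of_ne h, one_pow]
      exact ⟨⟨a, haH⟩, Subtype.ext (show a ^ n = z.1⁻¹ * z'.1 by rw [e, inv_mul_cancel_left])⟩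
    · rintro ⟨a, e⟩
      refine ⟨a.1, ?_, ?_⟩
      · rw [← hH]; exact congrArg Subtype.val (pow_card_eq_one' (x := a))
      · have := congrArg Subtype.val e
        simp only [powMonoidHom_apply, SubmonoidClass.coe_pow, Subgroup.coe_mul, InvMemClass.coe_inv] at this
        rw [this, mul_inv_cancel_left]
  refine (Nat.card_congr (Equiv.ofBijective (Quotient.lift (s := QuotientGroup.leftRel P) f fun z z' h =>
    (hf z z').2 (QuotientGroup.leftRel_apply.1 h)) ⟨?_, ?_⟩)).symm
  · intro x y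
    induction x using Quotient.inductionOn with | h z => ?_
    induction y using Quotient.inductionOn with | h z' => ?_
    exact fun h => Quotient.sound (QuotientGroup.leftRel_apply.2 ((hf z z').1 h))
  · rintro ⟨C, u, rfl, hu, hr⟩
    have hconj : IsConj (((u₀ : GL (Fin n) K)) : Matrix (Fin n) (Fin n) K) ((u : GL (Fin n) K) : Matrix (Fin n) (Fin n) K) :=
      Similarity.isConj_of_unipotent ⟨n, hu₀⟩ ⟨n, hu⟩ fun j => by rw [rank_pow _ hu₀ hr₀, rank_pow _ hu hr]
    obtain ⟨c, hc⟩ := hconj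
    have hGL : IsConj ((⟨(u₀ : GL (Fin n) K), u₀.2⟩ : Cfsg.GU n K q) : GL (Fin n) K)
        ((⟨(u : GL (Fin n) K), u.2⟩ : Cfsg.GU n K q) : GL (Fin n) K) :=
      isConj_iff.2 ⟨c, by rw [mul_inv_eq_iff_eq_mul]; exact Units.ext hc⟩
    obtain ⟨g, hg⟩ := isConj_iff.1 ((FormConj.isConj_GU_iff hK _ _).2 hGL)
    have hg' : U g = u := Subtype.ext (Subtype.ext (show _ = ((u : GL (Fin n) K) : Matrix (Fin n) (Fin n) K) by
      rw [← show (g : GL (Fin n) K) * (u₀ : GL (Fin n) K) * (g : GL (Fin n) K)⁻¹ = (u : GL (Fin n) K) from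
        congrArg Subtype.val hg, ← hUeq]
      rfl))
    refine ⟨Quotient.mk _ ⟨GeneralLinearGroup.det (g : GL (Fin n) K), g, rfl⟩, Subtype.ext ?_⟩
    refine ConjClasses.mk_eq_mk_iff_isConj.2 (hg' ▸ (hkey _ g).2 ⟨1, one_pow _, ?_⟩)
    rw [hdz, one_pow, mul_one]

end Cfsg.Agent.S2643
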