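import Cfsg.Statements.S4481
import Cfsg.Agent.Lib.DihedralBlock.Table
import Cfsg.Agent.Lib.DihedralBlock.Make

set_option autoImplicit false
open Cfsg

namespace Cfsg.Agent.S4481

/-- The principal 2-block of a group with dihedral Sylow 2-subgroups. Let G be a finite group whose Sylow 2-subgroup P is dihedral of order 2^n ≥ 8, let σ be an element of P of order 2^(n−1), ζ a primitive 2^(n−1)-th root of unity, and M a maximal ideal of the algebraic integers containing 2. Then the principal 2-block consists of exactly 3 + 2^(n−2) irreducible characters, which can be labelled 1, χ₁, χ₂, χ₃ and χ^(j) for 1 ≤ j ≤ 2^(n−2) − 1 (all distinct), with signs δ₁, δ₂, δ₃ such that for 0 < λ < 2^(n−1): χ₁(σ^λ) = δ₁, χ₂(σ^λ) = δ₂(−1)^(λ+1), χ₃(σ^λ) = δ₃(−1)^(λ+1) and χ^(j)(σ^λ) = δ₁(ζ^(jλ) + ζ^(−jλ)); and for every element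 ρ of odd order and every j: 1 + δ₁χ₁(ρ) = −δ₂χ₂(ρ) − δ₃χ₃(ρ) = δ₁χ^(j)(ρ). -/
theorem result {G : Type*} [Group G] [Finite G] (M : Ideal Cfsg.AlgInt) (hM : Cfsg.IsPModular 2 M) (n : ℕ) (hn : 3 ≤ n) (P : Sylow 2 G) (hP : Nonempty ((P : Subgroup G) ≃* DihedralGroup (2 ^ (n - 1)))) (σ : G) (hσ : σ ∈ (P : Subgroup G)) (hσo : orderOf σ = 2 ^ (n - 1)) (ζ : ℂ) (hζ : IsPrimitiveRoot ζ (2 ^ (n - 1))) : Nat.card (Cfsg.principalBlock M G) = 3 + 2 ^ (n - 2) ∧ ∃ (χ₁ χ₂ χ₃ : Cfsg.IrrCharacter G) (χ' : Fin (2 ^ (n - 2) - 1) → Cfsg.IrrCharacter G) (δ₁ δ₂ δ₃ : ℤ), (δ₁ = 1 ∨ δ₁ = -1) ∧ (δ₂ = 1 ∨ δ₂ = -1) ∧ (δ₃ = 1 ∨ δ₃ = -1) ∧ Function.Injective χ' ∧ (χ₁ : G → ℂ) ≠ (fun _ => 1) ∧ (χ₂ : G → ℂ) ≠ (fun _ => 1) ∧ (χ₃ : G → ℂ) ≠ (fun _ => 1) ∧ χ₁ ≠ χ₂ ∧ χ₁ ≠ χ₃ ∧ χ₂ ≠ χ₃ ∧ (∀ j, χ' j ≠ χ₁ ∧ χ' j ≠ χ₂ ∧ χ' j ≠ χ₃ ∧ (χ' j : G →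 ℂ) ≠ (fun _ => 1)) ∧ Cfsg.principalBlock M G = {χ : Cfsg.IrrCharacter G | (χ : G → ℂ) = (fun _ => 1) ∨ χ = χ₁ ∨ χ = χ₂ ∨ χ = χ₃ ∨ ∃ j, χ = χ' j} ∧ (∀ l : ℕ, 0 < l → l < 2 ^ (n - 1) → (χ₁ : G → ℂ) (σ ^ l) = δ₁ ∧ (χ₂ : G → ℂ) (σ ^ l) = δ₂ * (-1) ^ (l + 1) ∧ (χ₃ : G → ℂ) (σ ^ l) = δ₃ * (-1) ^ (l + 1) ∧ ∀ j : Fin (2 ^ (n - 2) - 1), (χ' j : G → ℂ) (σ ^ l) = δ₁ * (ζ ^ (((j : ℕ) + 1) * l) + (ζ ^ (((j : ℕ) + 1) * l))⁻¹)) ∧ ∀ ρ : G, Odd (orderOf ρ) → ∀ j : Fin (2 ^ (n - 2) - 1), 1 + δ₁ * (χ₁ : G → ℂ) ρ = -δ₂ * (χ₂ : G → ℂ) ρ - δ₃ * (χ₃ : G → ℂ) ρ ∧ 1 + δ₁ * (χ₁ : G → ℂ) ρ = δ₁ * (χ' j : G → ℂ) ρ := by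
  classical
  haveI := Cfsg.Agent.Lib.Blocks.isPModular_isPrime hM
  obtain ⟨τ, D⟩ := Cfsg.Agent.Lib.DihedralBlock.exists_dsylow_of_iso hn hP hσ hσo
  have hm : 2 ^ (n - 1) = 2 * 2 ^ (n - 2) := by
    rw [← pow_succ', show n - 2 + 1 = n - 1 by omega]
  obtain ⟨χ₁, χ₂, χ₃, e, δ₁, δ₂, δ₃, hT⟩ := D.exists_table hM (ζ := ζ) (hm ▸ hζ)
  set q := 2 ^ (n - 2) with hq
  have hI : ∀ j : Fin (q - 1), (j : ℕ) + 1 ∈ Finset.Icc 1 (q - 1) := fun j =>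
    Finset.mem_Icc.2 ⟨by omega, j.2⟩
  have hinj : Function.Injective fun j : Fin (q - 1) => e ((j : ℕ) + 1) := fun i j h =>
    Fin.ext (Nat.succ_injective (hT.e_inj (Finset.mem_coe.2 (hI i)) (Finset.mem_coe.2 (hI j)) h))
  have hblock : Cfsg.principalBlock M G = {χ : Cfsg.IrrCharacter G | (χ : G → ℂ) = (fun _ => 1) ∨
      χ = χ₁ ∨ χ = χ₂ ∨ χ = χ₃ ∨ ∃ j : Fin (q - 1), χ = e ((j : ℕ) + 1)} := by
    rw [hT.block]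
    ext χ
    refine or_congr Iff.rfl (or_congr Iff.rfl (or_congr Iff.rfl (or_congr Iff.rfl ?_)))
    constructor
    · rintro ⟨i, hi, rfl⟩
      rw [Finset.mem_Icc] at hi
      exact ⟨⟨i - 1, by omega⟩, by simp only; rw [Nat.sub_add_cancel hi.1]⟩
    · rintro ⟨j, rfl⟩
      exact ⟨_, hI j, rfl⟩
  refine ⟨?_, χ₁, χ₂, χ₃, fun j => e ((j : ℕ) + 1), δ₁, δ₂, δ₃, hT.sign₁, hT.sign₂, hT.sign₃, hinj,
    hT.ne₁, hT.ne₂, hT.ne₃, hT.ne₁₂, hT.ne₁₃, hT.ne₂₃, fun j => hT.e_ne _ (hI j), hblock, ?_, ?_⟩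
  · let triv : Cfsg.IrrCharacter G := ⟨fun _ => 1, Cfsg.Agent.Lib.Chars.isIrrCharacter_one⟩
    let f : Fin 4 ⊕ Fin (q - 1) → Cfsg.IrrCharacter G :=
      Sum.elim ![triv, χ₁, χ₂, χ₃] fun j => e ((j : ℕ) + 1)
    have hd : ∀ χ : Cfsg.IrrCharacter G, (χ : G → ℂ) ≠ (fun _ => 1) → triv ≠ χ := fun χ h h' =>
      h (h' ▸ rfl)
    have hf : Function.Injective f := by
      refine (?_ : Function.Injective ![triv, χ₁, χ₂, χ₃]).sumElim hinj ?_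
      · have := hd χ₁ hT.ne₁
        have := hd χ₂ hT.ne₂
        have := hd χ₃ hT.ne₃
        intro i j h
        fin_cases i <;> fin_cases j <;>
          first
            | rfl
            | (simp at h; simp_all [hT.ne₁₂, hT.ne₁₃, hT.ne₂₃, hT.ne₁₂.symm, hT.ne₁₃.symm,
                hT.ne₂₃.symm])
      · intro i j h
        obtain ⟨h1, h2, h3, h4⟩ := hT.e_ne _ (hI j)
        fin_cases i
        exacts [h4 (congrArg Subtype.val h.symm), h1 h.symm, h2 h.symm, h3 h.symm]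
    have hr : Cfsg.principalBlock M G = Set.range f := by
      rw [hblock]
      ext χ
      constructor
      · rintro (h | h | h | h | ⟨j, h⟩)
        exacts [⟨Sum.inl 0, Subtype.ext h.symm⟩, ⟨Sum.inl 1, h.symm⟩, ⟨Sum.inl 2, h.symm⟩,
          ⟨Sum.inl 3, h.symm⟩, ⟨Sum.inr j, h.symm⟩]
      · rintro ⟨i | j, rfl⟩
        · fin_cases i
          exacts [Or.inl rfl, Or.inr (Or.inl rfl), Or.inr (Or.inr (Or.inl rfl)),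
            Or.inr (Or.inr (Or.inr (Or.inl rfl)))]
        · exact Or.inr (Or.inr (Or.inr (Or.inr ⟨j, rfl⟩)))
    rw [hr, Nat.card_range_of_injective hf, Nat.card_sum, Nat.card_fin, Nat.card_fin]
    have := D.two_le
    omega
  · intro l hl1 hl2
    have hl : l ∈ Finset.Ioo 0 (2 * q) := Finset.mem_Ioo.2 ⟨hl1, by omega⟩
    exact ⟨hT.val₁ l hl, hT.val₂ l hl, hT.val₃ l hl, fun j => hT.valE _ (hI j) l hl⟩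
  · intro ρ hρ j
    exact ⟨hT.reg ρ hρ, hT.regE ρ hρ _ (hI j)⟩

end Cfsg.Agent.S4481
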