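import Cfsg.Statements.S0813
import Cfsg.Agent.Lib.PSLAut.Kernel

set_option autoImplicit false
open Cfsg

namespace Cfsg.Agent.S0813

/-- |Aut(PSL_n(q))|, q = p^f: for n ≥ 3 it is 2 f |PGL_n(q)|, and for n = 2 (q ≥ 4) it is f |PGL_2(q)|. -/
theorem result {F : Type*} [Field F] [Fintype F] (p f : ℕ) [Fact p.Prime] (hf : 1 ≤ f) (hF : Fintype.card F = p ^ f) (n : ℕ) (hn : 2 ≤ n) (h2 : n = 2 → 4 ≤ p ^ f) : Nat.card (MulAut (Matrix.ProjectiveSpecialLinearGroup (Fin n) F)) = (if n = 2 then 1 else 2) * f * Nat.card (Matrix.ProjGenLinGroup (Fin n) F) := by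
  classical
  have hfc := Lib.PSLAut.card_ringEquiv (F := F) hF
  let R := ↥(Lib.PSLAut.conj : GL (Fin n) F →* MulAut (Lib.PSLAut.PSLn n F)).range
  rcases Nat.lt_or_ge n 3 with h | h3
  · obtain rfl : n = 2 := by omega
    let Φ : R × (F ≃+* F) → MulAut (Lib.PSLAut.PSLn 2 F) := fun x => x.1.1 * Lib.PSLAut.fieldAut x.2
    have hbij : Function.Bijective Φ := by
      constructor
      · rintro ⟨⟨_, g, rfl⟩, σ⟩ ⟨⟨_, g', rfl⟩, σ'⟩ hx
        simp only [Φ] at hx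
        obtain ⟨h1, h2⟩ := Lib.PSLAut.conj_eq_fieldAut le_rfl (g := g'⁻¹ * g) (σ := σ' * σ⁻¹) (by
          rw [map_mul, map_mul, map_inv, map_inv, inv_mul_eq_iff_eq_mul, ← mul_assoc,
            eq_mul_inv_iff_mul_eq, hx])
        rw [map_mul, map_inv, inv_mul_eq_one] at h2
        exact Prod.ext (Subtype.ext h2.symm) (mul_inv_eq_one.mp h1).symm
      · intro β
        obtain ⟨g, σ, ε, hε, rfl⟩ := Lib.PSLAut.exists_eq_conj_mul_fieldAut_mul le_rfl β
        rcases hε with rfl | rfl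
        · exact ⟨(⟨_, g, rfl⟩, σ), (mul_one _).symm⟩
        · obtain ⟨w, hw⟩ := Lib.PSLAut.invTrans_eq_conj_two (F := F)
          refine ⟨(⟨_, g * Lib.PSLAut.glField σ w, rfl⟩, σ), ?_⟩
          simp only [Φ]
          rw [hw, map_mul, mul_assoc, mul_assoc, Lib.PSLAut.fieldAut_mul_conj]
    rw [← Nat.card_congr (Equiv.ofBijective Φ hbij), Nat.card_prod, hfc, if_pos rfl, one_mul,
      Nat.card_congr Lib.PSLAut.pglEquivRange.toEquiv, mul_comm]
  · let Φ : R × (F ≃+* F) × Bool → MulAut (Lib.PSLAut.PSLn n F) := fun x =>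
      x.1.1 * Lib.PSLAut.fieldAut x.2.1 * (if x.2.2 then Lib.PSLAut.invTrans else 1)
    have hbij : Function.Bijective Φ := by
      constructor
      · rintro ⟨⟨_, g, rfl⟩, σ, b⟩ ⟨⟨_, g', rfl⟩, σ', b'⟩ hx
        obtain ⟨h1, rfl, rfl⟩ := Lib.PSLAut.normalForm_injective h3 hx
        exact Prod.ext (Subtype.ext h1) rfl
      · intro β
        obtain ⟨g, σ, ε, hε, rfl⟩ := Lib.PSLAut.exists_eq_conj_mul_fieldAut_mul hn β
        rcases hε with rfl | rfl
        · exact ⟨(⟨_, g, rfl⟩, σ, false), rfl⟩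
        · exact ⟨(⟨_, g, rfl⟩, σ, true), rfl⟩
    rw [← Nat.card_congr (Equiv.ofBijective Φ hbij), Nat.card_prod, Nat.card_prod, hfc,
      if_neg (by omega : n ≠ 2), Nat.card_congr Lib.PSLAut.pglEquivRange.toEquiv,
      Nat.card_eq_fintype_card (α := Bool), Fintype.card_bool]
    ring

end Cfsg.Agent.S0813
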