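import Cfsg.Statements.S0101
import Cfsg.Agent.Lib.Transfer.Criteria

set_option autoImplicit false
open Cfsg

namespace Cfsg.Agent.S0101

/-- A central element of a Sylow subgroup of a perfect group lies in its Frattini subgroup. -/
theorem center_inf_sylow_le_frattini {H : Type*} [Group H] [Finite H] {p : ℕ} [Fact p.Prime]
    (hH : commutator H = ⊤) (P : Sylow p H) {z : H} (hz : z ∈ Subgroup.center H)
    (hzP : z ∈ (P : Subgroup H)) : (⟨z, hzP⟩ : (P : Subgroup H)) ∈ frattini (P : Subgroup H) := by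
  by_contra hnot
  obtain ⟨M, hM, hzM⟩ : ∃ M : Subgroup (P : Subgroup H), IsCoatom M ∧ ⟨z, hzP⟩ ∉ M := by
    by_contra! hcon
    exact hnot (Subgroup.mem_iInf.mpr fun M => Subgroup.mem_iInf.mpr fun hM => hcon M hM)
  have hle : commutator (P : Subgroup H) ≤ M :=
    (Lib.Transfer.commutator_le_frattini_of_isPGroup P.2).trans (frattini_le_coatom hM)
  haveI : M.Normal := Subgroup.Normal.of_commutator_le _ hle
  haveI : IsMulCommutative ((P : Subgroup H) ⧸ M) :=
    Subgroup.Normal.quotient_commutative_iff_commutator_le.mpr hle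
  open scoped IsMulCommutative in
  let t : H →* (P : Subgroup H) ⧸ M := MonoidHom.transfer (QuotientGroup.mk' M)
  have key : ∀ (k : ℕ) (g₀ : H), g₀⁻¹ * z ^ k * g₀ ∈ (P : Subgroup H) →
      g₀⁻¹ * z ^ k * g₀ = z ^ k := fun k g₀ _ => by
    rw [mul_assoc, ← Subgroup.mem_center_iff.mp (pow_mem hz k) g₀, inv_mul_cancel_left]
  have ht : t z = 1 := by
    have := Abelianization.commutator_subset_ker t (hH ▸ Subgroup.mem_top z)
    exact this
  rw [MonoidHom.transfer_eq_pow _ z key] at ht
  have hpow : ((⟨z, hzP⟩ : (P : Subgroup H)) ^ (P : Subgroup H).index) ∈ M :=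
    (QuotientGroup.eq_one_iff (N := M) _).mp ht
  obtain ⟨n, hn⟩ := IsPGroup.iff_card.mp P.2
  obtain ⟨m, hm⟩ := exists_pow_eq_self_of_coprime (x := (⟨z, hzP⟩ : (P : Subgroup H)))
    (n := (P : Subgroup H).index)
    (Nat.Coprime.coprime_dvd_right (orderOf_dvd_natCard _) P.card_coprime_index.symm)
  exact hzM (hm ▸ pow_mem hpow m)

/-- In a perfect central extension, the kernel meets each Sylow p-subgroup P inside the Frattini subgroup of P. -/
theorem result {H : Type*} {G : Type*} [Group H] [Group G] [Finite H] (σ : H →* G) (hσ : Function.Surjective σ) (hc : σ.ker ≤ Subgroup.center H) (hH : commutator H = ⊤) {p : ℕ} [Fact p.Prime] (P : Sylow p H) : σ.ker ⊓ (P : Subgroup H) ≤ (frattini P).map (P : Subgroup H).subtype := by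
  rintro z ⟨hz, hzP⟩
  exact ⟨⟨z, hzP⟩, center_inf_sylow_le_frattini hH P (hc hz) hzP, rfl⟩

end Cfsg.Agent.S0101
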