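import Cfsg.Statements.S0102
import Cfsg.Agent.Lib.Transfer.Abelian
import Cfsg.Agent.S0101

set_option autoImplicit false
open Cfsg

namespace Cfsg.Agent.S0102

/-- A finite perfect group with cyclic Sylow p-subgroups has no perfect central extension whose kernel has order divisible by p. -/
theorem result {G : Type*} {H : Type*} [Group G] [Group H] [Finite G] [Finite H] (hG : commutator G = ⊤) {p : ℕ} [Fact p.Prime] (hcyc : ∀ P : Sylow p G, IsCyclic P) (σ : H →* G) (hσ : Function.Surjective σ) (hz : σ.ker ≤ Subgroup.center H) (hH : commutator H = ⊤) : ¬ p ∣ Nat.card σ.ker := by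
  have hσz : ∀ z : σ.ker, (z : H) ∈ Subgroup.center H := fun w => hz w.2
  intro hd
  obtain ⟨z, hz⟩ := exists_prime_orderOf_dvd_card' p hd
  have hzc : (z : H) ∈ Subgroup.center H := hσz z
  have hzp : IsPGroup p (Subgroup.zpowers (z : H)) :=
    IsPGroup.of_card (n := 1) (by rw [Nat.card_zpowers, Subgroup.orderOf_coe, hz, pow_one])
  obtain ⟨P, hP⟩ := hzp.exists_le_sylow
  have hcycP : IsCyclic (P : Subgroup H) := by
    haveI : IsCyclic ((P.mapSurjective hσ : Sylow p G) : Subgroup G) := hcyc _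
    obtain ⟨⟨y, hy⟩, hgen⟩ := IsCyclic.exists_generator (α := ((P.mapSurjective hσ : Sylow p G) : Subgroup G))
    obtain ⟨x, hxP, hxy⟩ : y ∈ (P : Subgroup H).map σ := hy
    refine isCyclic_iff_exists_zpowers_eq_top.mpr ⟨⟨x, hxP⟩, frattini_nongenerating ?_⟩
    rw [eq_top_iff]
    rintro ⟨w, hw⟩ -
    obtain ⟨n, hn⟩ := hgen ⟨σ w, ⟨w, hw, rfl⟩⟩
    have hn' : y ^ n = σ w := congrArg Subtype.val hn
    have hk : (x ^ n)⁻¹ * w ∈ σ.ker := by
      rw [MonoidHom.mem_ker, map_mul, map_inv, map_zpow, hxy, hn', inv_mul_cancel]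
    have hmem : (⟨x, hxP⟩ : (P : Subgroup H)) ^ n *
        (⟨(x ^ n)⁻¹ * w, mul_mem (inv_mem (zpow_mem hxP n)) hw⟩ : (P : Subgroup H)) = ⟨w, hw⟩ :=
      Subtype.ext (by simp)
    rw [← hmem]
    exact Subgroup.mul_mem_sup (zpow_mem (Subgroup.mem_zpowers _) n)
      (S0101.center_inf_sylow_le_frattini hH P (hσz ⟨_, hk⟩) _)
  haveI := hcycP
  have hb := Lib.Transfer.inf_commutator_inf_center_eq_bot (P : Subgroup H)
    IsCyclic.isMulCommutative P.card_coprime_index
  rw [hH, inf_top_eq] at hb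
  have : (z : H) ∈ (⊥ : Subgroup H) := hb ▸ ⟨hP (Subgroup.mem_zpowers _), hzc⟩
  rw [Subgroup.mem_bot] at this
  rw [← Subgroup.orderOf_coe, this, orderOf_one] at hz
  exact (Fact.out : p.Prime).one_lt.ne hz

end Cfsg.Agent.S0102
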