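import Cfsg.Statements.S1230
import Cfsg.Agent.Lib.SECount.Zassenhaus

set_option autoImplicit false
open Cfsg

namespace Cfsg.Agent.S1230

theorem center_eq_bot_of_charTwo (F : Type*) [Field F] [CharP F 2] :
    Subgroup.center (Matrix.SpecialLinearGroup (Fin 2) F) = ⊥ := by
  refine (Subgroup.eq_bot_iff_forall _).2 fun A hA => ?_
  obtain ⟨r, hr, hA'⟩ := Matrix.SpecialLinearGroup.mem_center_iff.1 hA
  rw [Fintype.card_fin] at hr
  have h2 : (2 : F) = 0 := CharTwo.two_eq_zero
  have h3 : (r + 1) * (r + 1) = 0 := by linear_combination hr + (r + 1) * h2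
  have h4 : r = 1 := by linear_combination mul_self_eq_zero.1 h3 - h2
  apply Subtype.ext
  rw [← hA', h4, map_one, Matrix.SpecialLinearGroup.coe_one]


/-- Let G be a finite group with a Sylow 2-subgroup T that is neither cyclic nor normal, such that the centralizer of every involution is an elementary abelian 2-group. Then G ≅ PSL(2,F) for a finite field F with |F| = |T|. -/
theorem result {G : Type*} [Group G] [Finite G] (T : Sylow 2 G) (hnc : ¬ IsCyclic (T : Subgroup G)) (hnn : ¬ (T : Subgroup G).Normal) (hC : ∀ t : G, orderOf t = 2 → IsMulCommutative (Subgroup.centralizer ({t} : Set G)) ∧ ∀ c ∈ Subgroup.centralizer ({t} : Set G), c ^ 2 = 1) : ∃ (F : Type) (_ : Field F) (_ : Fintype F), Fintype.card F = Nat.card T ∧ Nonempty (G ≃* Matrix.ProjectiveSpecialLinearGroup (Fin 2) F) := by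

  obtain ⟨F0, _, _, hchar, hcard, ⟨e⟩⟩ := Lib.SECount.exists_sl_mulEquiv T hnc hnn hC
  obtain ⟨p, hp, n, hpprime, hn⟩ := FiniteField.card' F0
  obtain rfl : p = 2 := CharP.eq F0 hp hchar
  haveI : Fact (Nat.Prime 2) := ⟨Nat.prime_two⟩
  letI : Fintype (GaloisField 2 n) := Fintype.ofFinite _
  have hK : Fintype.card (GaloisField 2 n) = Fintype.card F0 := by
    rw [← Nat.card_eq_fintype_card, GaloisField.card 2 n n.ne_zero, hn]
  refine ⟨GaloisField 2 n, inferInstance, inferInstance, hK.trans hcard, ⟨?_⟩⟩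
  let r : GaloisField 2 n ≃+* F0 := FiniteField.ringEquivOfCardEq hK
  have hinj : Function.Bijective (Matrix.SpecialLinearGroup.map (n := Fin 2) r.toRingHom) := by
    refine ⟨fun a b h => Subtype.ext (Matrix.map_injective r.injective (congrArg Subtype.val h)),
      fun b => ⟨Matrix.SpecialLinearGroup.map r.symm.toRingHom b, ?_⟩⟩
    ext i j
    simp
  exact e.trans (((MulEquiv.ofBijective _ hinj).symm).trans
    ((QuotientGroup.quotientMulEquivOfEq (center_eq_bot_of_charTwo _)).trans
      QuotientGroup.quotientBot).symm)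

end Cfsg.Agent.S1230
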