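import Cfsg.Statements.S1011
import Mathlib
import Cfsg.Agent.Lib.SmallGroups.Basic
import Cfsg.Agent.Lib.SmallGroups.PrimeSylow
import Cfsg.Agent.Lib.SmallGroups.Order504

import Cfsg.Agent.S1230
import Cfsg.Agent.Lib.SL2.Dickson

set_option autoImplicit false
set_option linter.style.haveILetI false
open Cfsg
open Cfsg.Agent.Lib.SmallGroups

namespace Cfsg.Agent.S1011

/-- A simple group of order 504 is isomorphic to the projective special linear group of dimension 2 over the field with 8 elements. -/
theorem result {G : Type*} [Group G] [Finite G] [IsSimpleGroup G] (h : Nat.card G = 504) {F : Type*} [Field F] [Fintype F] (hF : Fintype.card F = 8) : Nonempty (G ≃* Matrix.ProjectiveSpecialLinearGroup (Fin 2) F) := by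
  haveI : Fact (Nat.Prime 2) := ⟨Nat.prime_two⟩
  have hG : ¬ IsMulCommutative G := Order504.not_comm h
  have hT : ∀ T : Sylow 2 G, Nat.card T = 8 := fun T =>
    (card_sylow_eq T (k := 3) (m := 63) (by rw [h]; norm_num) (by norm_num)).trans (by norm_num)
  have T : Sylow 2 G := default
  have hC := fun (t : G) (ht : orderOf t = 2) => Order504.elemCentralizers h ht
  have hnc : ¬ IsCyclic (T : Subgroup G) := by
    intro hc
    obtain ⟨⟨y, hyT⟩, hy⟩ := hc.exists_generator
    have hy8 : orderOf y = 8 := by
      rw [← hT T, ← orderOf_eq_card_of_forall_mem_zpowers hy, Subgroup.orderOf_mk]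
    have hy2 : orderOf (y ^ 4) = 2 := by
      rw [orderOf_pow, hy8]; norm_num
    have h3 := (hC _ hy2).2 y (Subgroup.mem_centralizer_singleton_iff.mpr
      ((Commute.refl y).pow_right _).eq)
    have h4 := Nat.le_of_dvd (by norm_num) (orderOf_dvd_of_pow_eq_one h3)
    omega
  have hnn : ¬ (T : Subgroup G).Normal := fun hn =>
    normalizer_sylow_ne_top hG (by rw [h]; norm_num) T (Subgroup.normalizer_eq_top_iff.mpr hn)
  obtain ⟨F', _, _, hF', ⟨e⟩⟩ := Cfsg.Agent.S1230.result T hnc hnn hC
  exact ⟨e.trans (Cfsg.Agent.Lib.SL2.pslCongr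
    (FiniteField.ringEquivOfCardEq (by rw [hF', hF, hT T])))⟩

end Cfsg.Agent.S1011
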