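import Cfsg.Statements.S0225
import Mathlib
import Cfsg.Agent.Lib.ZStar.Final

set_option autoImplicit false
open Cfsg
open Cfsg.Agent.Lib.Involution

namespace Cfsg.Agent.S0225

/-- If a finite group G has even order but contains no Klein four-subgroup (2-rank 1), then some involution z of G is central modulo a normal subgroup of odd order: there is a normal subgroup N of odd order containing every commutator z g z⁻¹ g⁻¹. -/
theorem result {G : Type*} [Group G] [Finite G] (heven : Even (Nat.card G)) (hrank : ∀ E : Subgroup G, ¬ IsKleinFour E) : ∃ z : G, orderOf z = 2 ∧ ∃ N : Subgroup G, N.Normal ∧ Odd (Nat.card N) ∧ ∀ g : G, z * g * z⁻¹ * g⁻¹ ∈ N := by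
  haveI : Fact (Nat.Prime 2) := ⟨Nat.prime_two⟩
  obtain ⟨z, hz⟩ := exists_prime_orderOf_dvd_card' (G := G) 2 (even_iff_two_dvd.1 heven)
  refine ⟨z, hz, Cfsg.oddCore G, inferInstance,
    Nat.coprime_two_right.1 Lib.PSolvable.pPrimeCore_coprime,
    fun g => Lib.ZStar.zStar G z ⟨hz, fun a ha => ?_⟩ g⟩
  by_contra hne
  set y := a * z * a⁻¹ with hy
  have hz' := Lib.ZStar.mul_self_of_orderOf_two hz
  have hy2 : orderOf y = 2 :=
    (Lib.Involution.isConj_orderOf (isConj_iff.2 ⟨a, rfl⟩)).trans hz
  have hy' := Lib.ZStar.mul_self_of_orderOf_two hy2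
  refine hrank (Subgroup.closure {z, y}) ?_
  have hyz : z * y ≠ 1 := fun h => hne (by
    rw [← inv_eq_of_mul_eq_one_right hz']; exact (inv_eq_of_mul_eq_one_right h).symm)
  let K : Subgroup G :=
    { carrier := {1, z, y, z * y}
      one_mem' := by simp
      mul_mem' := by
        have e1 : y * z = z * y := ha.symm.eq
        have e2 : z * (z * y) = y := by rw [← mul_assoc, hz', one_mul]
        have e3 : y * (z * y) = z := by rw [← mul_assoc, e1, mul_assoc, hy', mul_one]
        have e4 : z * y * z = y := by rw [mul_assoc, e1, e2]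
        have e5 : z * y * y = z := by rw [mul_assoc, hy', mul_one]
        have e6 : z * y * (z * y) = 1 := by rw [← mul_assoc, e4, hy']
        rintro p q (rfl | rfl | rfl | rfl) (rfl | rfl | rfl | rfl) <;>
          simp [hz', hy', e1, e2, e3, e4, e5, e6]
      inv_mem' := by
        rintro p (rfl | rfl | rfl | rfl)
        · simp
        · simp [inv_eq_of_mul_eq_one_right hz']
        · simp [inv_eq_of_mul_eq_one_right hy']
        · rw [mul_inv_rev, inv_eq_of_mul_eq_one_right hz', inv_eq_of_mul_eq_one_right hy',
            ha.symm.eq]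
          simp }
  have hK : Subgroup.closure {z, y} = K := by
    refine le_antisymm ((Subgroup.closure_le K).2 ?_) ?_
    · rintro p (rfl | rfl) <;> simp [K]
    · rintro p (rfl | rfl | rfl | rfl)
      · exact Subgroup.one_mem _
      · exact Subgroup.subset_closure (by simp)
      · exact Subgroup.subset_closure (by simp)
      · exact Subgroup.mul_mem _ (Subgroup.subset_closure (by simp))
          (Subgroup.subset_closure (by simp))
  rw [hK]
  have hz1 : z ≠ 1 := fun h => by rw [h, orderOf_one] at hz; exact absurd hz (by norm_num)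
  have hy1 : y ≠ 1 := fun h => by rw [h, orderOf_one] at hy2; exact absurd hy2 (by norm_num)
  refine ⟨?_, ?_⟩
  · rw [← SetLike.coe_sort_coe, Nat.card_coe_set_eq]
    show Set.ncard ({1, z, y, z * y} : Set G) = 4
    have d1 : z * y ≠ z := fun h => hy1 (mul_eq_left.1 h)
    have d2 : z * y ≠ y := fun h => hz1 (mul_eq_right.1 h)
    rw [Set.ncard_insert_of_notMem (by simp [hz1.symm, hy1.symm, hyz.symm]),
      Set.ncard_insert_of_notMem (by simp [Ne.symm hne, d1.symm]),
      Set.ncard_insert_of_notMem (by simp [d2.symm]), Set.ncard_singleton]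
  · have hdvd : Monoid.exponent K ∣ 2 := Monoid.exponent_dvd_iff_forall_pow_eq_one.2 fun w => by
      refine Subtype.ext ?_
      obtain ⟨w, hw⟩ := w
      show w ^ 2 = 1
      rw [sq]
      rcases hw with rfl | rfl | rfl | rfl
      · rw [one_mul]
      · exact hz'
      · exact hy'
      · rw [mul_assoc, ← mul_assoc y z y, ← ha.eq, mul_assoc z y y, hy', mul_one, hz']
    rcases (Nat.dvd_prime Nat.prime_two).1 hdvd with h | h
    · have h2 := Monoid.pow_exponent_eq_one (⟨z, by simp [K]⟩ : K)
      rw [h, pow_one] at h2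
      exact absurd (congrArg Subtype.val h2) hz1
    · exact h

end Cfsg.Agent.S0225
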