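import Cfsg.Statements.S1248
import Cfsg.Agent.Lib.Unitary3.SylowTwo
import Cfsg.Agent.Lib.Classical.UnitaryCentre
import Cfsg.Agent.S0754

set_option autoImplicit false
open Cfsg

namespace Cfsg.Agent.S1248

open Cfsg.Agent.Lib
open scoped commutatorElement

theorem center_le_commutator_unip {F : Type*} [Field F] [CharP F 2] [Fintype F] {q : ℕ}
    (hF : Fintype.card F = q ^ 2) (hq : 2 ≤ q) :
    Subgroup.center ↥(Unitary3.unip (F := F) hF) ≤ commutator ↥(Unitary3.unip (F := F) hF) := by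
  intro x hx
  obtain ⟨⟨⟨a₀, b⟩, hp⟩, rfl⟩ := Unitary3.uPt_surj hF x
  obtain rfl : a₀ = 0 := (Unitary3.mem_center_unip hF hq _).mp hx
  by_cases hb : b = 0
  · subst hb
    rw [(Unitary3.uPt_eq_one_iff hF _).mpr rfl]
    exact one_mem _
  have hbq : b ^ q = b := by
    simp only [Unitary3.uCond, zero_mul, add_zero] at hp
    exact (CharTwo.add_eq_zero.mp hp).symm
  obtain ⟨a, ha⟩ : ∃ a : F, a ^ (q + 1) = b := by
    have h2 := S0754.result hF b hb hbq
    obtain ⟨μ, hμ⟩ : Nonempty {x : F // x ^ (q + 1) = b} := (Nat.card_pos_iff.1 (by omega)).1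
    exact ⟨μ, hμ⟩
  obtain ⟨⟨d, hd⟩⟩ := (Nat.card_pos_iff.mp
    (show 0 < Nat.card {c : F // Unitary3.uCond q (a, c)} by
      rw [Unitary3.natCard_fibre hF a]; omega)).1
  obtain ⟨⟨e, he⟩⟩ := (Nat.card_pos_iff.mp
    (show 0 < Nat.card {c : F // Unitary3.uCond q (d, c)} by
      rw [Unitary3.natCard_fibre hF d]; omega)).1
  obtain ⟨⟨f, hf⟩⟩ := (Nat.card_pos_iff.mp
    (show 0 < Nat.card {c : F // Unitary3.uCond q (1, c)} by
      rw [Unitary3.natCard_fibre hF 1]; omega)).1
  set X := Unitary3.uPt hF ⟨(d, e), he⟩ with hX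
  set Y := Unitary3.uPt hF ⟨(1, f), hf⟩ with hY
  have h1 : X * Y = Unitary3.uPt hF ⟨(0, b), hp⟩ * (Y * X) := by
    rw [hX, hY, Unitary3.uPt_mul, Unitary3.uPt_mul, Unitary3.uPt_mul]
    refine congrArg _ (Subtype.ext ?_)
    simp only [Unitary3.uCond] at hd
    simp only [Unitary3.uMul, one_pow, zero_pow (Unitary3.q_ne hF)]
    refine Prod.ext (by ring) ?_
    rw [pow_succ] at ha
    linear_combination hd + ha - (d + a ^ q * a) * Unitary3.c2 (1 : F)
  rw [show Unitary3.uPt hF ⟨(0, b), hp⟩ = X * Y * X⁻¹ * Y⁻¹ by rw [h1]; group]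
  exact Subgroup.commutator_mem_commutator (Subgroup.mem_top _) (Subgroup.mem_top _)


/-- Let F be a field with 16 elements and S a Sylow 2-subgroup of PSU(3) over F (the unitary group U₃(4)). Then |S| = 64; the centre Z(S) is a Klein four-group and coincides with the subgroup generated by the involutions of S and with the derived subgroup; and every element of S ⧸ Z(S) squares to the identity, S ⧸ Z(S) having order 16. -/
theorem result {F : Type*} [Field F] [Fintype F] (hF : Fintype.card F = 16) (S : Sylow 2 (Cfsg.PSU 3 F 4)) : Nat.card S = 64 ∧ IsKleinFour (Subgroup.center (S : Subgroup (Cfsg.PSU 3 F 4))) ∧ Subgroup.center (S : Subgroup (Cfsg.PSU 3 F 4)) = Subgroup.closure {x : (S : Subgroup (Cfsg.PSU 3 F 4)) | orderOf x = 2} ∧ Subgroup.center (S : Subgroup (Cfsg.PSU 3 F 4)) = commutator (S : Subgroup (Cfsg.PSU 3 F 4)) ∧ Nat.card ((S : Subgroup (Cfsg.PSU 3 F 4)) ⧸ Subgroup.center (S : Subgroup (Cfsg.PSU 3 F 4))) = 16 ∧ ∀ x : (S : Subgroup (Cfsg.PSU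 3 F 4)) ⧸ Subgroup.center (S : Subgroup (Cfsg.PSU 3 F 4)), x ^ 2 = 1 := by

  have hq : (2 : ℕ) ≤ 4 := by norm_num
  haveI : Fact (Nat.Prime 2) := ⟨Nat.prime_two⟩
  haveI : CharP F 2 := charP_of_card_eq_prime_pow (f := 4) (by rw [hF]; norm_num)
  have hF' : Fintype.card F = (2 ^ 2) ^ 2 := hF.trans (by norm_num)
  -- the centre of `SU₃(4)` is trivial
  have hZ : Subgroup.center (Cfsg.SU 3 F 4) = ⊥ := by
    rw [← Subgroup.card_eq_one, Lib.Classical.natCard_center_SU (by rw [hF]; norm_num) 3 (by norm_num)]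
    norm_num
  let π : ↥(Cfsg.SU 3 F 4) ≃* Cfsg.PSU 3 F 4 :=
    ((QuotientGroup.quotientMulEquivOfEq hZ).trans QuotientGroup.quotientBot).symm
  let P : Sylow 2 ↥(Cfsg.SU 3 F (2 ^ 2)) :=
    S.comapOfInjective π.toMonoidHom π.injective (by
      intro x _; exact ⟨π.symm x, π.apply_symm_apply x⟩)
  obtain ⟨e₀⟩ := Lib.Unitary3.nonempty_sylow_equiv_unip (F := F) (n := 2) two_ne_zero hF' P
  let U := Lib.Unitary3.unip (F := F) hF'
  let e : (S : Subgroup (Cfsg.PSU 3 F 4)) ≃* U :=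
    (((π.subgroupMap (P : Subgroup _)).trans (MulEquiv.subgroupCongr (by
      show Subgroup.map π.toMonoidHom ((S : Subgroup _).comap π.toMonoidHom) = _
      rw [Subgroup.map_comap_eq_self_of_surjective π.surjective]))).symm).trans e₀
  have hq' : 2 ≤ 2 ^ 2 := by norm_num
  have hcU : Nat.card U = 64 := by rw [Lib.Unitary3.natCard_unip hF']; norm_num
  have hzU : Nat.card (Subgroup.center U) = 4 := by
    rw [Lib.Unitary3.natCard_center_unip hF' hq']; norm_num
  have hc : Nat.card (S : Subgroup (Cfsg.PSU 3 F 4)) = 64 := (Nat.card_congr e.toEquiv).trans hcU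
  have hcen : ∀ x, x ∈ Subgroup.center (S : Subgroup (Cfsg.PSU 3 F 4)) ↔
      e x ∈ Subgroup.center U := fun x => by
    simp only [Subgroup.mem_center_iff]
    refine ⟨fun h g => ?_, fun h g => ?_⟩
    · obtain ⟨y, rfl⟩ := e.surjective g
      rw [← map_mul, ← map_mul, h y]
    · apply e.injective
      rw [map_mul, map_mul, h (e g)]
  have hz : Nat.card (Subgroup.center (S : Subgroup (Cfsg.PSU 3 F 4))) = 4 :=
    (Nat.card_congr (e.toEquiv.subtypeEquiv hcen)).trans hzU
  have hsq : ∀ x : (S : Subgroup (Cfsg.PSU 3 F 4)), x ^ 2 = 1 ↔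
      x ∈ Subgroup.center (S : Subgroup (Cfsg.PSU 3 F 4)) := fun x => by
    rw [hcen, ← Lib.Unitary3.sq_eq_one_iff_unip hF' hq', ← map_pow, map_eq_one_iff _ e.injective]
  have hsqc : ∀ x : (S : Subgroup (Cfsg.PSU 3 F 4)),
      x ^ 2 ∈ Subgroup.center (S : Subgroup (Cfsg.PSU 3 F 4)) := fun x => by
    rw [hcen, map_pow]; exact Lib.Unitary3.sq_mem_center_unip hF' hq' _
  have hquot : Nat.card ((S : Subgroup (Cfsg.PSU 3 F 4)) ⧸
      Subgroup.center (S : Subgroup (Cfsg.PSU 3 F 4))) = 16 := by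
    have := Subgroup.card_eq_card_quotient_mul_card_subgroup
      (Subgroup.center (S : Subgroup (Cfsg.PSU 3 F 4)))
    rw [hc, hz] at this
    omega
  have hexp : ∀ x : (S : Subgroup (Cfsg.PSU 3 F 4)) ⧸
      Subgroup.center (S : Subgroup (Cfsg.PSU 3 F 4)), x ^ 2 = 1 := fun x => by
    obtain ⟨y, rfl⟩ := QuotientGroup.mk_surjective x
    rw [← QuotientGroup.mk_pow, QuotientGroup.eq_one_iff]
    exact hsqc y
  refine ⟨hc, ⟨hz, ?_⟩, ?_, ?_, hquot, hexp⟩
  · haveI : Nontrivial (Subgroup.center (S : Subgroup (Cfsg.PSU 3 F 4))) :=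
      Finite.one_lt_card_iff_nontrivial.mp (by rw [hz]; norm_num)
    exact (Monoid.exponent_eq_prime_iff Nat.prime_two).mpr fun x hx =>
      orderOf_eq_prime (Subtype.ext ((hsq x.1).mpr x.2)) hx
  · refine le_antisymm (fun x hx => ?_) ((Subgroup.closure_le _).mpr fun x hx => ?_)
    · by_cases h1 : x = 1
      · subst h1; exact one_mem _
      · exact Subgroup.subset_closure (orderOf_eq_prime ((hsq x).mpr hx) h1)
    · exact (hsq x).mp (orderOf_dvd_iff_pow_eq_one.mp (show orderOf x = 2 from hx).dvd)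
  · refine le_antisymm ?_ ?_
    · intro x hx
      have h1 := center_le_commutator_unip hF' hq' ((hcen x).mp hx)
      have h2 : Subgroup.map e.toMonoidHom (commutator (S : Subgroup (Cfsg.PSU 3 F 4))) =
          commutator U := by
        rw [commutator_def, Subgroup.map_commutator, Subgroup.map_top_of_surjective _ e.surjective,
          commutator_def]
      rw [← h2] at h1
      obtain ⟨y, hy, hyx⟩ := h1
      rwa [← e.injective hyx]
    · rw [commutator_eq_closure, Subgroup.closure_le]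
      rintro _ ⟨a, b, rfl⟩
      show (⁅a, b⁆ : ↥(S : Subgroup (Cfsg.PSU 3 F 4))) ∈ Subgroup.center (S : Subgroup (Cfsg.PSU 3 F 4))
      rw [← QuotientGroup.eq_one_iff, ← QuotientGroup.mk'_apply, map_commutatorElement,
        commutatorElement_eq_one_iff_commute]
      have hinv : ∀ z : (S : Subgroup (Cfsg.PSU 3 F 4)) ⧸
          Subgroup.center (S : Subgroup (Cfsg.PSU 3 F 4)), z⁻¹ = z := fun z =>
        inv_eq_of_mul_eq_one_right (by rw [← sq]; exact hexp z)
      show _ * _ = _ * _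
      conv_lhs => rw [← hinv ((QuotientGroup.mk' _) a * (QuotientGroup.mk' _) b), mul_inv_rev, hinv, hinv]

end Cfsg.Agent.S1248
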