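import Cfsg.Statements.S0499
import Mathlib
import Cfsg.Agent.Lib.Transfer.Criteria
import Cfsg.Agent.Lib.SmallGroups.Basic

set_option autoImplicit false
open Cfsg

namespace Cfsg.Agent.S0499

open Subgroup in
/-- An element of odd order acting nontrivially on a group of order 2, 4 or 8 has order divisible by 3,
or by 7 in the case of order 8. -/
theorem dvd_orderOf_of_not_centralize {G : Type*} [Group G] [Finite G] (Q : Subgroup G) {g : G}
    (hg : g ∈ normalizer (Q : Set G)) (hodd : (orderOf g).Coprime 2)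
    (hnc : g ∉ centralizer (Q : Set G)) (hQ : Nat.card Q ∈ ({1, 2, 4, 8} : Finset ℕ)) :
    (3 ∣ orderOf g ∧ 4 ≤ Nat.card Q) ∨ (7 ∣ orderOf g ∧ Nat.card Q = 8) := by
  classical
  letI := Fintype.ofFinite G
  haveI : Fact (Nat.Prime 5) := ⟨by norm_num⟩
  let f : zpowers (⟨g, hg⟩ : normalizer (Q : Set G)) →* MulAut Q :=
    (Subgroup.normalizerMonoidHom Q).comp (zpowers (⟨g, hg⟩ : normalizer (Q : Set G))).subtype
  have hord : Nat.card f.range ∣ orderOf g := by
    have h1 := Subgroup.card_range_dvd f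
    rwa [Nat.card_zpowers, ← Subgroup.orderOf_coe] at h1
  let C : Subgroup Q :=
    { carrier := {x | ∀ φ ∈ f.range, φ x = x}
      one_mem' := fun φ _ => map_one φ
      mul_mem' := fun {a b} ha hb φ hφ => by rw [map_mul, ha φ hφ, hb φ hφ]
      inv_mem' := fun {a} ha φ hφ => by rw [map_inv, ha φ hφ] }
  have hCne : C ≠ ⊤ := by
    intro hC
    apply hnc
    rw [mem_centralizer_iff]
    intro q hq
    have h1 : (⟨q, hq⟩ : Q) ∈ C := hC ▸ Subgroup.mem_top _
    have h2 : f ⟨⟨g, hg⟩, mem_zpowers _⟩ ⟨q, hq⟩ = ⟨q, hq⟩ := h1 _ ⟨_, rfl⟩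
    have h3 : g * q * g⁻¹ = q := congrArg Subtype.val h2
    exact (mul_inv_eq_iff_eq_mul.1 h3).symm
  have hdvd := C.card_subgroup_dvd_card
  have hlt : Nat.card C < Nat.card Q := lt_of_le_of_ne C.card_le_card_group fun h =>
    hCne (Subgroup.eq_top_of_card_eq C h)
  let ψ : f.range →* Equiv.Perm {x : Q // x ≠ 1} :=
    MonoidHom.mk' (fun φ => Equiv.subtypeEquiv φ.1.toEquiv fun x => by simp) (fun a b => rfl)
  have hψ : Function.Injective ψ := by
    intro a b hab
    refine Subtype.ext (MulEquiv.ext fun x => ?_)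
    by_cases hx : x = 1
    · rw [hx, map_one, map_one]
    · exact congrArg Subtype.val (Equiv.ext_iff.1 hab ⟨x, hx⟩)
  have hfac : Nat.card f.range ∣ (Nat.card Q - 1).factorial := by
    refine dvd_trans (Subgroup.card_dvd_of_injective ψ hψ) (dvd_of_eq ?_)
    rw [Nat.card_perm, Nat.card_eq_fintype_card, Fintype.card_subtype_compl, Fintype.card_subtype_eq,
      Nat.card_eq_fintype_card]
  simp only [Finset.mem_insert, Finset.mem_singleton] at hQ
  by_contra hcon
  push Not at hcon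
  have h2 : ¬ 2 ∣ orderOf g := (Nat.Prime.coprime_iff_not_dvd Nat.prime_two).1 hodd.symm
  -- the acting group is a 5-group
  have hK5 : Nat.card f.range ∣ 5 := by
    have hd7 : Nat.card f.range ∣ 5040 := dvd_trans hfac (by
      rcases hQ with h | h | h | h <;> rw [h] <;> decide)
    have hd : Nat.card f.range ∈ Nat.divisors 5040 := Nat.mem_divisors.2 ⟨hd7, by norm_num⟩
    have key : ∀ d ∈ Nat.divisors 5040, ¬ 2 ∣ d → d ∣ 5 ∨ 3 ∣ d ∨ 7 ∣ d := by decide +kernel
    rcases key _ hd (fun h => h2 (h.trans hord)) with h | h | h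
    · exact h
    · exfalso
      have hlow := hcon.1 (h.trans hord)
      have h3 : 3 ∣ (Nat.card Q - 1).factorial := h.trans hfac
      rcases hQ with e | e | e | e <;> rw [e] at h3 hlow <;> revert h3 hlow <;> decide
    · exfalso
      have hne := hcon.2 (h.trans hord)
      have h3 : 7 ∣ (Nat.card Q - 1).factorial := h.trans hfac
      rcases hQ with e | e | e | e <;> rw [e] at h3 hne <;> revert h3 hne <;> decide
  have h5 : IsPGroup 5 f.range := by
    obtain ⟨n, -, hn⟩ := (Nat.dvd_prime_pow (Fact.out : Nat.Prime 5)).1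
      (show Nat.card f.range ∣ 5 ^ 1 by simpa using hK5)
    exact IsPGroup.of_card hn
  have hmod := h5.card_modEq_card_fixedPoints (Q : Type _)
  have hfix : MulAction.fixedPoints f.range (Q : Type _) = (C : Set Q) := by
    ext x
    exact ⟨fun h φ hφ => h ⟨φ, hφ⟩, fun h φ => h φ.1 φ.2⟩
  rw [hfix] at hmod
  change Nat.card Q ≡ Nat.card C [MOD 5] at hmod
  have hb : Nat.card Q ≤ 8 := by omega
  have hCmem : Nat.card C ∈ Nat.divisors (Nat.card Q) := Nat.mem_divisors.2 ⟨hdvd, by omega⟩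
  rcases hQ with e | e | e | e <;> rw [e] at hCmem hlt hmod <;>
    [rw [show Nat.divisors 1 = {1} by decide] at hCmem; rw [show Nat.divisors 2 = {1, 2} by decide] at hCmem;
     rw [show Nat.divisors 4 = {1, 2, 4} by decide] at hCmem;
     rw [show Nat.divisors 8 = {1, 2, 4, 8} by decide] at hCmem] <;>
    simp only [Finset.mem_insert, Finset.mem_singleton] at hCmem <;>
    simp only [Nat.ModEq] at hmod <;> omega

/-- A non-abelian finite simple group of even order has order divisible by 12, 16 or 56. -/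
theorem result {G : Type*} [Group G] [Finite G] [IsSimpleGroup G]
    (hG : ¬ IsMulCommutative G) (h2 : Even (Nat.card G)) :
    12 ∣ Nat.card G ∨ 16 ∣ Nat.card G ∨ 56 ∣ Nat.card G := by
  haveI : Fact (Nat.Prime 2) := ⟨Nat.prime_two⟩
  have h2' : 2 ∣ Nat.card G := even_iff_two_dvd.1 h2
  have P : Sylow 2 G := default
  obtain ⟨k, hk⟩ := IsPGroup.iff_card.1 P.2
  have hPdvd : Nat.card (P : Subgroup G) ∣ Nat.card G := Subgroup.card_subgroup_dvd_card _
  by_cases h16 : 16 ∣ Nat.card G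
  · exact Or.inr (Or.inl h16)
  have hk3 : k ≤ 3 := by
    by_contra hk4
    exact h16 (((pow_dvd_pow 2 (show 4 ≤ k by omega)).trans (dvd_of_eq hk.symm)).trans hPdvd)
  have hno : ¬ Cfsg.HasNormalPComplement 2 G := by
    rintro ⟨R, N, hN, hc⟩
    rcases hN.eq_bot_or_eq_top with hb | ht
    · rw [hb, Subgroup.isComplement'_bot_left] at hc
      have := R.2
      rw [hc] at this
      exact Cfsg.Agent.Lib.SmallGroups.not_isPGroup hG (this.of_equiv Subgroup.topEquiv)
    · rw [ht, Subgroup.isComplement'_top_left] at hc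
      exact R.ne_bot_of_dvd_card h2' hc
  rw [Cfsg.Agent.Lib.Transfer.hasNormalPComplement_iff_locallyPTrivial] at hno
  obtain ⟨Q, hQ, g, hgN, hgo, hgc⟩ :
      ∃ Q : Subgroup G, IsPGroup 2 Q ∧ ∃ g ∈ Subgroup.normalizer (Q : Set G),
        (orderOf g).Coprime 2 ∧ g ∉ Subgroup.centralizer (Q : Set G) := by
    simpa [Cfsg.Agent.Lib.Transfer.LocallyPTrivial] using hno
  obtain ⟨j, hj⟩ := IsPGroup.iff_card.1 hQ
  obtain ⟨R, hR⟩ := hQ.exists_le_sylow
  have hRk : Nat.card (R : Subgroup G) = 2 ^ k := by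
    rw [R.card_eq_multiplicity, ← P.card_eq_multiplicity, hk]
  have hjk : j ≤ k := by
    have := Subgroup.card_dvd_of_le hR
    rw [hj, hRk, Nat.pow_dvd_pow_iff_le_right (by norm_num)] at this
    exact this
  have hmem : Nat.card Q ∈ ({1, 2, 4, 8} : Finset ℕ) := by
    rw [hj]
    have : j ≤ 3 := by omega
    interval_cases j <;> decide
  have hQG : Nat.card Q ∣ Nat.card G := Subgroup.card_subgroup_dvd_card _
  rcases Cfsg.Agent.S0499.dvd_orderOf_of_not_centralize Q hgN hgo hgc hmem with ⟨h3, h4⟩ | ⟨h7, h8⟩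
  · refine Or.inl ((show (12 : ℕ) = 4 * 3 by norm_num) ▸
      Nat.Coprime.mul_dvd_of_dvd_of_dvd (by norm_num) ?_ (h3.trans (orderOf_dvd_natCard g)))
    refine dvd_trans ?_ hQG
    rw [hj] at h4 ⊢
    rcases j with _ | _ | j
    · norm_num at h4
    · norm_num at h4
    · exact ⟨2 ^ j, by ring⟩
  · exact Or.inr (Or.inr ((show (56 : ℕ) = 8 * 7 by norm_num) ▸
      Nat.Coprime.mul_dvd_of_dvd_of_dvd (by norm_num) (h8 ▸ hQG) (h7.trans (orderOf_dvd_natCard g))))

end Cfsg.Agent.S0499
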