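import Cfsg.Statements.S0987
import Mathlib
import Cfsg.Agent.Lib.SmallGroups.Basic
import Cfsg.Agent.Lib.SmallGroups.PrimeSylow

set_option autoImplicit false
set_option linter.style.haveILetI false
open Cfsg
open Cfsg.Agent.Lib.SmallGroups Subgroup
open scoped Pointwise

namespace Cfsg.Agent.S0987

/-- If a finite group has order pqr for primes p < q < r, then its Sylow r-subgroups are normal. -/
theorem result {G : Type*} [Group G] [Finite G] (p q r : ℕ) (hp : p.Prime) (hq : q.Prime) [Fact r.Prime] (hpq : p < q) (hqr : q < r) (hG : Nat.card G = p * q * r) (R : Sylow r G) : (R : Subgroup G).Normal := by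
  classical
  haveI : Fact q.Prime := ⟨hq⟩
  haveI : Fact p.Prime := ⟨hp⟩
  suffices h : Nat.card (Sylow r G) = 1 by
    haveI : Subsingleton (Sylow r G) := (Nat.card_eq_one_iff_unique.mp h).1
    exact R.normal_of_subsingleton
  by_contra hr1
  have hpp := hp.two_le
  have hndvd : ∀ a b c : ℕ, a.Prime → b.Prime → c.Prime → a ≠ b → a ≠ c → ¬ a ∣ b * c :=
    fun a b c ha hb hc hab hac h => (ha.dvd_mul.mp h).elim
      (fun h => hab ((Nat.prime_dvd_prime_iff_eq ha hb).mp h))
      (fun h => hac ((Nat.prime_dvd_prime_iff_eq ha hc).mp h))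
  have hrG : Nat.card G = r ^ 1 * (p * q) := by rw [hG]; ring
  have hqG : Nat.card G = q ^ 1 * (p * r) := by rw [hG]; ring
  have hpG : Nat.card G = p ^ 1 * (q * r) := by rw [hG]; ring
  have hr' := hndvd r p q Fact.out hp hq (by omega) (by omega)
  have hq' := hndvd q p r hq hp Fact.out (by omega) (by omega)
  have hp' := hndvd p q r hp hq Fact.out (by omega) (by omega)
  -- possible values
  have hlist : ∀ {s a b : ℕ}, [Fact s.Prime] → a.Prime → b.Prime → Nat.card G = s ^ 1 * (a * b) →
      ¬ s ∣ a * b → Nat.card (Sylow s G) ≠ 1 →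
      (Nat.card (Sylow s G) = a ∧ s < a) ∨ (Nat.card (Sylow s G) = b ∧ s < b) ∨
        Nat.card (Sylow s G) = a * b := by
    intro s a b _ ha hb h1 h2 h3
    have hmod := card_sylow_modEq_one s G
    have hgt : s < Nat.card (Sylow s G) := by
      have h4 : 0 < Nat.card (Sylow s G) := Nat.card_pos
      rcases Nat.lt_or_ge s (Nat.card (Sylow s G)) with h | h
      · exact h
      · exfalso
        rcases h.lt_or_eq with h | h
        · rw [Nat.ModEq, Nat.mod_eq_of_lt h, Nat.mod_eq_of_lt (Fact.out : s.Prime).one_lt] at hmod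
          exact h3 hmod
        · rw [Nat.ModEq, h, Nat.mod_self, Nat.mod_eq_of_lt (Fact.out : s.Prime).one_lt] at hmod
          exact absurd hmod (by norm_num)
    obtain ⟨x, y, hx, hy, hxy⟩ := exists_dvd_and_dvd_of_dvd_mul (card_sylow_dvd h1 h2)
    rcases (Nat.dvd_prime ha).mp hx with rfl | rfl <;>
      rcases (Nat.dvd_prime hb).mp hy with rfl | rfl <;> (try simp only [one_mul, mul_one] at hxy)
    · exact absurd hxy h3
    · exact Or.inr (Or.inl ⟨hxy, hxy ▸ hgt⟩)
    · exact Or.inl ⟨hxy, hxy ▸ hgt⟩
    · exact Or.inr (Or.inr hxy)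
  have hnr : Nat.card (Sylow r G) = p * q := by
    rcases hlist hp hq hrG hr' hr1 with ⟨-, h⟩ | ⟨-, h⟩ | h
    · omega
    · omega
    · exact h
  -- a normal subgroup of order p or q would lie in N(R), whose order is r
  have hNR : Nat.card (normalizer ((R : Subgroup G) : Set G)) = r := by
    have h := card_normalizer_sylow_mul R
    rw [hnr, hG] at h
    exact Nat.eq_of_mul_eq_mul_right (Nat.mul_pos hp.pos hq.pos) (h.trans (by ring))
  have hcardR : ∀ Q : Sylow r G, Nat.card (Q : Subgroup G) = r := fun Q => by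
    rw [card_sylow_eq Q hrG hr', pow_one]
  have key : ∀ s : ℕ, (Fact s.Prime) → (s = p ∨ s = q) → Nat.card (Sylow s G) ≠ 1 := by
    intro s hs hsp h1
    have S : Sylow s G := default
    haveI : Subsingleton (Sylow s G) := (Nat.card_eq_one_iff_unique.mp h1).1
    haveI hn := S.normal_of_subsingleton
    have hS : Nat.card (S : Subgroup G) = s := by
      rcases hsp with rfl | rfl
      · rw [card_sylow_eq S hpG hp', pow_one]
      · rw [card_sylow_eq S hqG hq', pow_one]
    -- M = R S has order r s, and R is normal in it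
    set M := (R : Subgroup G) ⊔ (S : Subgroup G) with hM
    have hRM : (R : Subgroup G) ≤ M := le_sup_left
    have hsr : s < r := by rcases hsp with rfl | rfl <;> omega
    have hMcard : Nat.card M = r * s := by
      have hdisj : Disjoint (R : Subgroup G) (S : Subgroup G) := by
        rw [disjoint_iff]
        refine inf_eq_bot_of_coprime ?_
        rw [hcardR R, hS]
        exact (Nat.coprime_primes Fact.out hs.out).mpr hsr.ne'
      have e : Nat.card M = Nat.card (↥(R : Subgroup G) × ↥(S : Subgroup G)) := by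
        refine (Nat.card_congr (Equiv.ofBijective
          (fun z : ↥(R : Subgroup G) × ↥(S : Subgroup G) => (⟨z.1.1 * z.2.1,
            mul_mem (hRM z.1.2) (le_sup_right (a := (R : Subgroup G)) z.2.2)⟩ : M)) ⟨?_, ?_⟩)).symm
        · exact fun a b h => mul_injective_of_disjoint hdisj (congrArg Subtype.val h)
        · rintro ⟨x, hx⟩
          have : x ∈ ((R : Subgroup G) : Set G) * ((S : Subgroup G) : Set G) := by
            rw [← mul_normal]; exact hx
          obtain ⟨a, ha, b, hb, rfl⟩ := this
          exact ⟨(⟨a, ha⟩, ⟨b, hb⟩), rfl⟩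
      rw [e, Nat.card_prod, hcardR, hS]
    have hnM : Nat.card (Sylow r M) = 1 := by
      have h2 : Nat.card M = r ^ 1 * s := by rw [hMcard, pow_one]
      have h3 : ¬ r ∣ s := fun h => absurd (Nat.le_of_dvd hs.out.pos h) (by omega)
      have h4 := card_sylow_dvd h2 h3
      rcases (Nat.dvd_prime hs.out).mp h4 with h5 | h5
      · exact h5
      · exfalso
        have := card_sylow_modEq_one r M
        rw [h5, Nat.ModEq, Nat.mod_eq_of_lt hsr, Nat.mod_eq_of_lt (Fact.out : r.Prime).one_lt] at this
        exact hs.out.ne_one this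
    have hle : M ≤ normalizer ((R : Subgroup G) : Set G) := by
      haveI : Subsingleton (Sylow r M) := (Nat.card_eq_one_iff_unique.mp hnM).1
      exact (normal_subgroupOf_iff_le_normalizer hRM).mp (R.subtype hRM).normal_of_subsingleton
    have h6 := card_le_of_le hle
    rw [hMcard, hNR] at h6
    have := hs.out.two_le
    nlinarith [(Fact.out : r.Prime).pos]
  have hnp : q ≤ Nat.card (Sylow p G) := by
    rcases hlist hq Fact.out hpG hp' (key p inferInstance (Or.inl rfl)) with ⟨h, -⟩ | ⟨h, -⟩ | h <;>
      rw [h]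
    · omega
    · exact Nat.le_mul_of_pos_right _ (by omega)
  have hnq : r ≤ Nat.card (Sylow q G) := by
    rcases hlist hp Fact.out hqG hq' (key q inferInstance (Or.inr rfl)) with ⟨-, h⟩ | ⟨h, -⟩ | h
    · omega
    · omega
    · rw [h]; exact Nat.le_mul_of_pos_left _ hp.pos
  have P : Sylow p G := default
  have Q : Sylow q G := default
  have c1 := card_orderOf_eq_prime R (hcardR R)
  have c2 := card_orderOf_eq_prime Q (by rw [card_sylow_eq Q hqG hq', pow_one])
  have c3 := card_orderOf_eq_prime P (by rw [card_sylow_eq P hpG hp', pow_one])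
  haveI := Fintype.ofFinite G
  let A : ℕ → Finset G := fun s => Finset.univ.filter (fun g => orderOf g = s)
  have hA : ∀ s, (A s).card = Nat.card {g : G // orderOf g = s} := fun s => by
    rw [Nat.card_eq_fintype_card, Fintype.card_subtype]
  have hdisj : ∀ s t, s ≠ t → Disjoint (A s) (A t) := fun s t h =>
    Finset.disjoint_filter.mpr fun g _ hg hg' => h (hg.symm.trans hg')
  have hsum : (A r).card + (A q).card + (A p).card ≤ Fintype.card G := by
    rw [← Finset.card_union_of_disjoint (hdisj r q (by omega)), ← Finset.card_union_of_disjoint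
      (Finset.disjoint_union_left.mpr ⟨hdisj r p (by omega), hdisj q p (by omega)⟩)]
    exact Finset.card_le_univ _
  rw [hA, hA, hA, c1, c2, c3, ← Nat.card_eq_fintype_card, hG, hnr] at hsum
  have e2 := Nat.mul_le_mul_right (q - 1) hnq
  have e3 := Nat.mul_le_mul_right (p - 1) hnp
  obtain ⟨q', rfl⟩ : ∃ a, q = a + 1 := ⟨q - 1, by omega⟩
  obtain ⟨p', rfl⟩ : ∃ a, p = a + 1 := ⟨p - 1, by omega⟩
  obtain ⟨r', rfl⟩ : ∃ a, r = a + 1 := ⟨r - 1, by omega⟩
  simp only [Nat.add_sub_cancel] at *
  nlinarith [Nat.mul_le_mul (show 1 ≤ q' by omega) (show q' + 2 ≤ r' + 1 by omega),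
    Nat.mul_le_mul_left (q'+1) (show 1 ≤ p' by omega)]

end Cfsg.Agent.S0987
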