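import Cfsg.Statements.S0988
import Mathlib
import Cfsg.Agent.Lib.SmallGroups.Basic
import Cfsg.Agent.Lib.SmallGroups.PrimeSylow
import Cfsg.Agent.Lib.SmallGroups.SqTwoPrimes

set_option autoImplicit false
set_option linter.style.haveILetI false
open Cfsg
open Cfsg.Agent.Lib.SmallGroups Cfsg.Agent.Lib

namespace Cfsg.Agent.S0988

/-- If a finite simple group has order p^2 * q * r with p, q and r prime, then its order is 60. -/
theorem result {G : Type*} [Group G] [Finite G] [IsSimpleGroup G] (p q r : ℕ) (hp : p.Prime) (hq : q.Prime) (hr : r.Prime) (hG : Nat.card G = p ^ 2 * q * r) : Nat.card G = 60 := by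
  have hnp : ¬ (Nat.card G).Prime := fun h => by
    rw [hG, mul_assoc] at h
    rcases Nat.prime_mul_iff.mp h with ⟨h1, -⟩ | ⟨-, h1⟩
    · exact Nat.Prime.not_prime_pow (le_refl 2) h1
    · exact (Nat.one_lt_pow two_ne_zero hp.one_lt).ne' h1
  have hc := not_isMulCommutative_of_not_prime hnp
  have two : ∀ {s t a b : ℕ}, s.Prime → t.Prime → Nat.card G = s ^ a * t ^ b → False :=
    fun hs ht h => hc ⟨⟨fun x y => Burnside.mul_comm_of_isSimpleGroup hs ht h x y⟩⟩
  have hpq : p ≠ q := by rintro rfl; exact two hp hr (a := 3) (b := 1) (by rw [hG]; ring)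
  have hpr : p ≠ r := by rintro rfl; exact two hp hq (a := 3) (b := 1) (by rw [hG]; ring)
  have hqr : q ≠ r := by rintro rfl; exact two hp hq (a := 2) (b := 2) (by rw [hG]; ring)
  -- `p` is the smallest prime divisor
  have hm : (Nat.card G).minFac = p := by
    have hne : Nat.card G ≠ 1 := Finite.one_lt_card.ne'
    have hmp := Nat.minFac_prime hne
    by_contra hne'
    have h2 := sq_minFac_dvd_card hc
    rw [hG] at h2 hne' hmp
    generalize (p ^ 2 * q * r).minFac = l at h2 hne' hmp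
    have hco : l.Coprime (p ^ 2) := ((Nat.coprime_primes hmp hp).mpr hne').pow_right 2
    rw [mul_assoc] at h2
    have h3 := (hco.pow_left 2).dvd_of_dvd_mul_left h2
    have h4 : l ∣ q * r := (dvd_pow_self l two_ne_zero).trans h3
    rcases hmp.dvd_mul.mp h4 with h5 | h5
    · rw [(Nat.prime_dvd_prime_iff_eq hmp hq).mp h5, pow_two] at h3
      exact hqr ((Nat.prime_dvd_prime_iff_eq hq hr).mp (Nat.dvd_of_mul_dvd_mul_left hq.pos h3))
    · rw [(Nat.prime_dvd_prime_iff_eq hmp hr).mp h5, pow_two, mul_comm q] at h3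
      exact hqr ((Nat.prime_dvd_prime_iff_eq hr hq).mp (Nat.dvd_of_mul_dvd_mul_left hr.pos h3)).symm
  have hq' : p < q := lt_of_le_of_ne
    (hm ▸ Nat.minFac_le_of_dvd hq.two_le ⟨p ^ 2 * r, by rw [hG]; ring⟩) hpq
  have hr' : p < r := lt_of_le_of_ne
    (hm ▸ Nat.minFac_le_of_dvd hr.two_le ⟨p ^ 2 * q, by rw [hG]; ring⟩) hpr
  haveI : Fact p.Prime := ⟨hp⟩
  obtain ⟨rfl, h3⟩ := eq_two_three hc hq hr hq' hr' (by rw [hG]; ring)
  rcases h3 with rfl | rfl
  · exact card_eq_sixty hc hr (by omega) (by rw [hG]; ring)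
  · exact card_eq_sixty hc hq (by omega) (by rw [hG]; ring)

end Cfsg.Agent.S0988
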