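import Cfsg.Statements.S1253
import Cfsg.Agent.Lib.ZStar.Reduce
import Cfsg.Agent.Lib.BrauerSuzukiQ.Main
import Cfsg.Agent.Lib.Coprime.Sylow
import Cfsg.Agent.Lib.CharP.SubnormalSylow

set_option autoImplicit false
open Cfsg

namespace Cfsg.Agent.S1253

open Subgroup
open Cfsg.Agent.Lib

variable {G : Type*} [Group G] [Finite G] {z : G}

theorem conj_mul_self_eq (hz : IsIsolatedInvolution z) {k g : G} (hk : z * k * z⁻¹ = k⁻¹)
    (hgk : g⁻¹ * k ∈ centralizer ({z} : Set G)) : k * k = g * z * g⁻¹ * z := by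
  have hzz := Isolated.mul_self hz
  have hzi : z⁻¹ = z := inv_eq_of_mul_eq_one_right hzz
  have h1 := mem_centralizer_singleton_iff.mp hgk
  calc k * k = k * (z * k * z⁻¹)⁻¹ := by rw [hk, inv_inv]
    _ = g * ((g⁻¹ * k) * z) * k⁻¹ * z⁻¹ := by group
    _ = g * (z * (g⁻¹ * k)) * k⁻¹ * z⁻¹ := by rw [h1]
    _ = g * z * g⁻¹ * z⁻¹ := by group
    _ = g * z * g⁻¹ * z := by rw [hzi]

theorem mem_of_mul_self_mem {H : Subgroup G} {k : G} (hk : Odd (orderOf k)) (h : k * k ∈ H) :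
    k ∈ H := by
  obtain ⟨j, hj⟩ := hk
  have h2 : (k * k) ^ (j + 1) = k := by
    rw [← sq, ← pow_mul, show 2 * (j + 1) = orderOf k + 1 by omega, pow_succ, pow_orderOf_eq_one,
      one_mul]
  exact h2 ▸ pow_mem h _

theorem relIndex_eq_card_inverted (hz : IsIsolatedInvolution z) (R : Subgroup G)
    (hodd : Odd (Nat.card R)) (hzR : z ∈ normalizer (R : Set G)) :
    (R ⊓ centralizer ({z} : Set G)).relIndex R =
      Nat.card {x : G // x ∈ R ∧ z * x * z⁻¹ = x⁻¹} := by
  set C := centralizer ({z} : Set G) with hC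
  have hord : ∀ x ∈ R, Odd (orderOf x) := fun x hx =>
    hodd.of_dvd_nat (Subgroup.orderOf_mk x hx ▸ _root_.orderOf_dvd_natCard (⟨x, hx⟩ : R))
  rw [inf_relIndex_left, relIndex, index_eq_card]
  refine (Nat.card_congr (Equiv.ofBijective
    (fun x : {x : G // x ∈ R ∧ z * x * z⁻¹ = x⁻¹} =>
      (QuotientGroup.mk (⟨x.1, x.2.1⟩ : R) : R ⧸ C.subgroupOf R)) ⟨?_, ?_⟩)).symm
  · intro x y hxy
    have h0 : (⟨x.1, x.2.1⟩ : R)⁻¹ * ⟨y.1, y.2.1⟩ ∈ C.subgroupOf R := QuotientGroup.eq.mp hxy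
    have h1 : x.1⁻¹ * y.1 ∈ C := h0
    obtain ⟨r, -, hr⟩ := Isolated.existsUnique_rep hz x.1
    exact Subtype.ext ((hr x.1 ⟨⟨hord _ x.2.1, x.2.2⟩, by simp [one_mem]⟩).trans
      (hr y.1 ⟨⟨hord _ y.2.1, y.2.2⟩, h1⟩).symm)
  · intro q
    induction q using QuotientGroup.induction_on with
    | _ g =>
      obtain ⟨k, ⟨⟨hko, hk⟩, hgk⟩, -⟩ := Isolated.existsUnique_rep hz (g : G)
      have hkR : k ∈ R := by
        refine mem_of_mul_self_mem hko ?_
        rw [conj_mul_self_eq hz hk hgk]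
        have h3 : z * (g : G)⁻¹ * z ∈ R := by
          have := (mem_normalizer_iff.mp hzR _).mp (inv_mem g.2)
          rwa [inv_eq_of_mul_eq_one_right (Isolated.mul_self hz)] at this
        simpa [mul_assoc] using mul_mem g.2 h3
      exact ⟨⟨k, hkR, hk⟩, (QuotientGroup.eq.mpr (show g⁻¹ * (⟨k, hkR⟩ : R) ∈ C.subgroupOf R from hgk)).symm⟩

theorem not_dvd_relIndex_centralizer (hz : IsIsolatedInvolution z)
    (hZ : ∀ g : G, z * g * z⁻¹ * g⁻¹ ∈ oddCore G) {p : ℕ} [hp : Fact p.Prime] (hp2 : p ≠ 2)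
    (P : Sylow p G) (hzP : z ∈ normalizer ((P : Subgroup G) : Set G)) :
    ¬ p ∣ ((P : Subgroup G) ⊓ centralizer ({z} : Set G)).relIndex (centralizer ({z} : Set G)) := by
  haveI : Fact (Nat.Prime 2) := ⟨Nat.prime_two⟩
  set C := centralizer ({z} : Set G) with hC
  set O := oddCore G with hO
  haveI hOn : O.Normal := (inferInstance : (pPrimeCore 2 G).Normal)
  have hOodd : Odd (Nat.card O) := Nat.coprime_two_right.1 PSolvable.pPrimeCore_coprime
  have hzO : z ∈ normalizer (O : Set G) := le_normalizer_of_normal (mem_top z)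
  obtain ⟨a, ha⟩ := IsPGroup.iff_card.mp P.isPGroup'
  have hPodd : Odd (Nat.card (P : Subgroup G)) := ha ▸ (hp.out.odd_of_ne_two hp2).pow
  have hinv : ∀ k : G, Odd (orderOf k) → z * k * z⁻¹ = k⁻¹ → k ∈ O := by
    intro k hk hzk
    refine mem_of_mul_self_mem hk ?_
    have h1 := O.inv_mem (hZ k)
    rwa [hzk, ← mul_inv_rev, inv_inv] at h1
  set P' := (P : Subgroup G) ⊓ O with hP'
  have hzP' : z ∈ normalizer (P' : Set G) := inf_normalizer_le_normalizer_inf ⟨hzP, hzO⟩
  have hP'odd : Odd (Nat.card P') := hPodd.of_dvd_nat (card_dvd_of_le inf_le_left)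
  have e1 := relIndex_eq_card_inverted hz (P : Subgroup G) hPodd hzP
  have e2 := relIndex_eq_card_inverted hz P' hP'odd hzP'
  have e3 := relIndex_eq_card_inverted hz O hOodd hzO
  have hsub : Nat.card {x : G // x ∈ (P : Subgroup G) ∧ z * x * z⁻¹ = x⁻¹} =
      Nat.card {x : G // x ∈ P' ∧ z * x * z⁻¹ = x⁻¹} :=
    Nat.card_congr (Equiv.subtypeEquivRight fun x => ⟨fun h => ⟨⟨h.1, hinv x
      (hPodd.of_dvd_nat (Subgroup.orderOf_mk x h.1 ▸ _root_.orderOf_dvd_natCard
        (⟨x, h.1⟩ : (P : Subgroup G)))) h.2⟩, h.2⟩, fun h => ⟨h.1.1, h.2⟩⟩)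
  have hK : Nat.card {x : G // x ∈ O ∧ z * x * z⁻¹ = x⁻¹} = C.index := by
    rw [index_eq_card]
    have hord : ∀ x ∈ O, Odd (orderOf x) := fun x hx =>
      hOodd.of_dvd_nat (Subgroup.orderOf_mk x hx ▸ _root_.orderOf_dvd_natCard (⟨x, hx⟩ : O))
    refine Nat.card_congr (Equiv.ofBijective
      (fun x : {x : G // x ∈ O ∧ z * x * z⁻¹ = x⁻¹} => (QuotientGroup.mk x.1 : G ⧸ C)) ⟨?_, ?_⟩)
    · intro x y hxy
      obtain ⟨r, -, hr⟩ := Isolated.existsUnique_rep hz x.1
      exact Subtype.ext ((hr x.1 ⟨⟨hord _ x.2.1, x.2.2⟩, by simp [one_mem]⟩).trans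
        (hr y.1 ⟨⟨hord _ y.2.1, y.2.2⟩, QuotientGroup.eq.mp hxy⟩).symm)
    · intro q
      induction q using QuotientGroup.induction_on with
      | _ g =>
        obtain ⟨k, ⟨⟨hko, hk⟩, hgk⟩, -⟩ := Isolated.existsUnique_rep hz g
        exact ⟨⟨k, hinv k hko hk, hk⟩, (QuotientGroup.eq.mpr hgk).symm⟩
  -- coprime action inside `O`
  set Z := zpowers z with hZdef
  have hCZ : centralizer (Z : Set G) = C := by
    rw [hC, hZdef, zpowers_eq_closure, centralizer_closure]
  have hZO : Z ≤ normalizer (O : Set G) := zpowers_le.mpr hzO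
  have hcop : (Nat.card Z).Coprime (Nat.card O) := by
    rw [Nat.card_zpowers, hz.1, Nat.coprime_two_left]; exact hOodd
  have hZs : Group.IsSolvable Z := by
    have hZ2 : IsPGroup 2 Z := IsPGroup.of_card (n := 1) (by rw [Nat.card_zpowers, hz.1, pow_one])
    haveI := hZ2.isNilpotent
    infer_instance
  have hPO : ¬ p ∣ (P'.subgroupOf O).index := by
    rw [show P'.subgroupOf O = (P : Subgroup G).subgroupOf O from inf_subgroupOf_right _ _]
    intro hd
    exact P.not_dvd_index (hd.trans (Lib.CharP.relIndex_dvd_index_of_normal_right _ O))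
  let P₁ : Sylow p O := IsPGroup.toSylow (P := P'.subgroupOf O)
    ((P.isPGroup'.to_le inf_le_left).comap_subtype) hPO
  have hP₁ : ((P₁ : Subgroup O).map O.subtype : Subgroup G) = P' :=
    map_subgroupOf_eq_of_le inf_le_right
  have hnd : ¬ p ∣ (P' ⊓ C).relIndex (O ⊓ C) := by
    obtain ⟨U⟩ : Nonempty (Sylow p ↥(O ⊓ C)) := inferInstance
    set UG := (U : Subgroup ↥(O ⊓ C)).map (O ⊓ C).subtype with hUG
    have hUle : UG ≤ O ⊓ C := map_subtype_le _
    obtain ⟨c, hc, hcu⟩ := Coprime.exists_centralizer_conj_le (A := Z) (K := O) hZO hcop (Or.inl hZs)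
      (P := P₁) (by rw [hP₁]; exact zpowers_le.mpr hzP') (hUle.trans inf_le_left) (U.isPGroup'.map _)
      (le_centralizer_iff.mp ((hUle.trans inf_le_right).trans hCZ.ge) |>.trans
        (centralizer_le_normalizer _))
    rw [hP₁] at hcu
    have hcard : Nat.card UG ≤ Nat.card ↥(P' ⊓ C) := by
      refine Nat.card_le_card_of_injective (fun u => ⟨c * (u : G) * c⁻¹, hcu _ u.2, ?_⟩) ?_
      · have hcC : c ∈ C := hCZ ▸ hc.2
        exact C.mul_mem (C.mul_mem hcC (hUle u.2).2) (C.inv_mem hcC)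
      · intro u v h
        have h1 : c * (u : G) * c⁻¹ = c * v * c⁻¹ := congrArg Subtype.val h
        exact Subtype.ext (mul_left_cancel (mul_right_cancel h1))
    obtain ⟨V, hV⟩ := ((P.isPGroup'.to_le (inf_le_left.trans inf_le_left : P' ⊓ C ≤ P)).comap_subtype
      (K := O ⊓ C)).exists_le_sylow
    have hle : P' ⊓ C ≤ O ⊓ C := inf_le_inf_right _ inf_le_right
    have hVe : (P' ⊓ C).subgroupOf (O ⊓ C) = V := by
      refine eq_of_le_of_card_ge hV ?_
      rw [Nat.card_congr (subgroupOfEquivOfLe hle).toEquiv,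
        Nat.card_congr (V.equiv U).toEquiv,
        Nat.card_congr ((U : Subgroup ↥(O ⊓ C)).equivMapOfInjective _ (O ⊓ C).subtype_injective).toEquiv]
      exact hcard
    rw [relIndex, hVe]
    exact V.not_dvd_index
  -- the orders
  have f1 : ((P : Subgroup G) ⊓ C).relIndex (P : Subgroup G) * (P : Subgroup G).index =
      ((P : Subgroup G) ⊓ C).index := relIndex_mul_index inf_le_left
  have f2 : ((P : Subgroup G) ⊓ C).relIndex C * C.index = ((P : Subgroup G) ⊓ C).index :=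
    relIndex_mul_index inf_le_right
  have f3 : (P' ⊓ C).relIndex (O ⊓ C) * (O ⊓ C).relIndex O = (P' ⊓ C).relIndex O :=
    relIndex_mul_relIndex _ _ _ (inf_le_inf_right _ inf_le_right) inf_le_left
  have f4 : (P' ⊓ C).relIndex P' * P'.relIndex O = (P' ⊓ C).relIndex O :=
    relIndex_mul_relIndex _ _ _ inf_le_left inf_le_right
  rw [e3, hK] at f3
  rw [e2, ← hsub, ← e1, ← f3] at f4
  obtain ⟨m, -, hm⟩ := (Nat.dvd_prime_pow hp.out).mp
    (ha ▸ relIndex_dvd_card ((P : Subgroup G) ⊓ C) (P : Subgroup G) :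
      ((P : Subgroup G) ⊓ C).relIndex (P : Subgroup G) ∣ p ^ a)
  rw [hm] at f1 f4
  intro hdvd
  have h5 : p ^ m ∣ C.index := by
    refine Nat.Coprime.dvd_of_dvd_mul_left ?_ (Dvd.intro _ f4)
    exact ((hp.out.coprime_iff_not_dvd.mpr hnd).pow_left m)
  have h6 : p ^ (m + 1) ∣ p ^ m * (P : Subgroup G).index := by
    rw [f1, ← f2, pow_succ']
    exact mul_dvd_mul hdvd h5
  rw [pow_succ] at h6
  exact P.not_dvd_index (Nat.dvd_of_mul_dvd_mul_left (pow_pos hp.out.pos m) h6)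

universe w

theorem zstar_statement : ZStar.ZStarStatement.{w} :=
  ZStar.zstar_of_quaternionCase fun K _ _ P n e hO z hz hz2 huniq => by
    haveI : Fact (Nat.Prime 2) := ⟨Nat.prime_two⟩
    have hone : BrauerSuzukiQ.OneInvolution K := by
      intro a b ha hb hab
      have hK : IsPGroup 2 ↥(zpowers a ⊔ zpowers b) :=
        (IsPGroup.of_card (n := 1) (by rw [Nat.card_zpowers, ha, pow_one])).to_sup_of_normal_left'
          (IsPGroup.of_card (n := 1) (by rw [Nat.card_zpowers, hb, pow_one]))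
          (zpowers_le.mpr (centralizer_le_normalizer _ (mem_centralizer_iff.mpr fun x hx => by
            obtain ⟨i, rfl⟩ := hx
            exact (hab.zpow_left i).eq)))
      obtain ⟨Q, hQ⟩ := hK.exists_le_sylow
      obtain ⟨g, hg⟩ := MulAction.exists_smul_eq K Q P
      have hmem : ∀ x ∈ (Q : Subgroup K), orderOf x = 2 → g * x * g⁻¹ = z := fun x hx hx2 =>
        huniq _ (by rw [← hg]; exact ⟨x, hx, rfl⟩) (((MulAut.conj g).orderOf_eq x).trans hx2)
      have h1 := hmem a (hQ (mem_sup_left (mem_zpowers a))) ha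
      have h2 := hmem b (hQ (mem_sup_right (mem_zpowers b))) hb
      exact mul_left_cancel (mul_right_cancel (h1.trans h2.symm))
    refine mem_center_iff.mpr fun g => ?_
    have h := BrauerSuzukiQ.commutator_mem_oddCore hone hz2 g
    rw [show pPrimeCore 2 K = ⊥ from hO, mem_bot, mul_inv_eq_one, mul_inv_eq_iff_eq_mul] at h
    exact h.symm


/-- Let z be an isolated involution of the finite group G with centralizer C, p an odd prime and P a Sylow p-subgroup of G normalized by z. Then P ∩ C has p-power-free index in C (it is a Sylow p-subgroup of C), and |P : C_P(z)| equals the number of elements x ∈ P with z x z⁻¹ = x⁻¹. -/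
theorem result {G : Type*} [Group G] [Finite G] (z : G) (hz : Cfsg.IsIsolatedInvolution z) {p : ℕ} [Fact p.Prime] (hp : p ≠ 2) (P : Sylow p G) (hzP : z ∈ Subgroup.normalizer ((P : Subgroup G) : Set G)) : ¬ p ∣ ((P : Subgroup G) ⊓ Subgroup.centralizer ({z} : Set G)).relIndex (Subgroup.centralizer ({z} : Set G)) ∧ ((P : Subgroup G) ⊓ Subgroup.centralizer ({z} : Set G)).relIndex (P : Subgroup G) = Nat.card {x : G // x ∈ P ∧ z * x * z⁻¹ = x⁻¹} := by

  haveI : Fact (Nat.Prime 2) := ⟨Nat.prime_two⟩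
  refine ⟨not_dvd_relIndex_centralizer hz (zstar_statement G z hz) hp P hzP, ?_⟩
  obtain ⟨a, ha⟩ := IsPGroup.iff_card.mp P.isPGroup'
  exact relIndex_eq_card_inverted hz (P : Subgroup G)
    (ha ▸ ((Fact.out : p.Prime).odd_of_ne_two hp).pow) hzP

end Cfsg.Agent.S1253
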