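import Cfsg.Statements.S1010
import Cfsg.Agent.Lib.SylowNumber.Factor
import Cfsg.Agent.Lib.SylowTwentyOne41.Main
-- import your own Cfsg.Agent.* helpers here

set_option autoImplicit false
open Cfsg

namespace Cfsg.Agent.S1010

/-- No finite group has exactly twenty-one Sylow 5-subgroups. -/
theorem result {G : Type*} [Group G] [Finite G] : Nat.card (Sylow 5 G) ≠ 21 := by
  intro h
  haveI : Fact (Nat.Prime 5) := ⟨by norm_num⟩
  have hpp : ¬ IsPrimePow 21 := by
    rw [isPrimePow_iff_card_primeFactors_eq_one,
      show (21 : ℕ) = 3 * 7 from rfl, Nat.primeFactors_mul (by norm_num) (by norm_num),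
      Nat.Prime.primeFactors (by norm_num), Nat.Prime.primeFactors (by norm_num)]
    decide
  obtain ⟨S, _, _, hs, hS, h21⟩ := Lib.SylowNumber.exists_simple_of_atomic (p := 5) (n := 21)
    (by norm_num) hpp (fun m hm hm5 => by
      have : m ≤ 21 := Nat.le_of_dvd (by norm_num) hm
      interval_cases m <;> omega) h
  exact SylowTwentyOne41.false_of_simple hS h21

end Cfsg.Agent.S1010
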