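import Cfsg.Statements.S0188
import Cfsg.Agent.Lib.Chars.Completeness

set_option autoImplicit false
open Cfsg

namespace Cfsg.Agent.S0188

open Cfsg.Agent.Lib
open scoped ComplexConjugate

theorem classInner_prod {G : Type*} [Group G] [Fintype G] {H : Type*} [Group H] [Fintype H]
    (a b : G → ℂ) (c d : H → ℂ) :
    Cfsg.classInner (fun x : G × H => a x.1 * c x.2) (fun x : G × H => b x.1 * d x.2)
      = Cfsg.classInner a b * Cfsg.classInner c d := by
  simp only [Cfsg.classInner, Nat.card_prod, Nat.cast_mul, mul_inv, Fintype.sum_prod_type, map_mul]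
  rw [mul_mul_mul_comm _ (∑ g, a g * conj (b g)), Finset.sum_mul_sum]
  congr 1
  exact Finset.sum_congr rfl fun g _ => Finset.sum_congr rfl fun h _ => by ring

theorem classInner_fubini {G : Type*} [Group G] [Fintype G] {H : Type*} [Group H] [Fintype H]
    (θ : G × H → ℂ) (φ : G → ℂ) (ψ : H → ℂ) :
    Cfsg.classInner θ (fun x : G × H => φ x.1 * ψ x.2)
      = Cfsg.classInner (fun g : G => Cfsg.classInner (fun h : H => θ (g, h)) ψ) φ := by
  simp only [Cfsg.classInner, Nat.card_prod, Nat.cast_mul, mul_inv, Fintype.sum_prod_type, map_mul,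
    Finset.mul_sum, Finset.sum_mul]
  exact Finset.sum_congr rfl fun g _ => Finset.sum_congr rfl fun h _ => by ring


/-- The irreducible complex characters of G × H are precisely the functions (g, h) ↦ φ g * ψ h with φ, ψ irreducible characters of G and H. -/
theorem result {G : Type*} [Group G] [Finite G] {H : Type*} [Group H] [Finite H] (θ : G × H → ℂ) : Cfsg.IsIrrCharacter (G × H) θ ↔ ∃ (φ : G → ℂ) (ψ : H → ℂ), Cfsg.IsIrrCharacter G φ ∧ Cfsg.IsIrrCharacter H ψ ∧ θ = fun x => φ x.1 * ψ x.2 := by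
  classical
  cases nonempty_fintype G
  cases nonempty_fintype H
  have hprod : ∀ (φ : G → ℂ) (ψ : H → ℂ), Cfsg.IsIrrCharacter G φ → Cfsg.IsIrrCharacter H ψ →
      Cfsg.IsIrrCharacter (G × H) (fun x => φ x.1 * ψ x.2) := by
    intro φ ψ hφ hψ
    have h1 := (Chars.isIrrCharacter_iff_classInner_eq_one
      (Chars.isCharacter_of_isIrrCharacter hφ)).mp hφ
    have h2 := (Chars.isIrrCharacter_iff_classInner_eq_one
      (Chars.isCharacter_of_isIrrCharacter hψ)).mp hψ
    obtain ⟨n, ρ, -, rfl⟩ := hφ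
    obtain ⟨m, σ, -, rfl⟩ := hψ
    have hc : Cfsg.IsCharacter (G × H) (fun x => ρ.character x.1 * σ.character x.2) :=
      Chars.isCharacter_mul ⟨n, ρ.comp (MonoidHom.fst G H), rfl⟩ ⟨m, σ.comp (MonoidHom.snd G H), rfl⟩
    rw [Chars.isIrrCharacter_iff_classInner_eq_one hc, classInner_prod, h1, h2, one_mul]
  constructor
  · intro hθ
    by_contra hne
    have horth : ∀ (φ : Cfsg.IrrCharacter G) (ψ : Cfsg.IrrCharacter H),
        Cfsg.classInner θ (fun x : G × H => (φ : G → ℂ) x.1 * (ψ : H → ℂ) x.2) = 0 := by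
      intro φ ψ
      exact Chars.classInner_irr_of_ne (χ := ⟨θ, hθ⟩) (ψ := ⟨_, hprod _ _ φ.2 ψ.2⟩)
        fun h => hne ⟨_, _, φ.2, ψ.2, congrArg Subtype.val h⟩
    have hcl := Chars.irr_isClassFunction ⟨θ, hθ⟩
    have hz : θ = 0 := by
      funext x
      obtain ⟨a, b⟩ := x
      have hcol : ∀ ψ : Cfsg.IrrCharacter H,
          (fun g : G => Cfsg.classInner (fun h : H => θ (g, h)) (ψ : H → ℂ)) = 0 := by
        intro ψ
        refine Chars.eq_zero_of_forall_classInner_eq_zero (fun g k => ?_) fun φ => ?_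
        · simp only [Cfsg.classInner]
          congr 1
          refine Finset.sum_congr rfl fun h _ => ?_
          have := hcl (g, h) (k, 1)
          simp only [Prod.mk_mul_mk, Prod.inv_mk, one_mul, inv_one, mul_one] at this
          exact congrArg (fun t => t * conj ((ψ : H → ℂ) h)) this
        · rw [← classInner_fubini, horth φ ψ]
      have := Chars.eq_zero_of_forall_classInner_eq_zero (f := fun h : H => θ (a, h))
        (fun h k => by
          have := hcl (a, h) (1, k)
          simpa [Prod.mk_mul_mk, Prod.inv_mk] using this)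
        (fun ψ => congrFun (hcol ψ) a)
      exact congrFun this b
    exact Chars.irr_apply_one_ne_zero ⟨θ, hθ⟩ (congrFun hz 1)
  · rintro ⟨φ, ψ, hφ, hψ, rfl⟩
    exact hprod φ ψ hφ hψ

end Cfsg.Agent.S0188
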