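import Cfsg.Statements.S4429
import Mathlib
import Cfsg.Agent.Lib.M11Degrees.Enum
import Cfsg.Agent.Lib.M11Degrees.Values
import Cfsg.Agent.Lib.M11Degrees.Group

set_option autoImplicit false
open Cfsg

namespace Cfsg.Agent.S4429

/-- Let G be a simple group of order 7920. Then G has exactly ten irreducible complex characters, and their degrees, listed with multiplicity, are 1, 10, 10, 10, 11, 16, 16, 44, 45, 55: for every natural number n, the number of irreducible characters of degree n is 1 if n ∈ {1, 11, 44, 45, 55}, 3 if n = 10, 2 if n = 16, and 0 otherwise. -/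
theorem result {G : Type*} [Group G] [Finite G] [IsSimpleGroup G] (hG : Nat.card G = 7920) : Nat.card (Cfsg.IrrCharacter G) = 10 ∧ ∀ n : ℕ, Nat.card {χ : Cfsg.IrrCharacter G // Cfsg.charDegree (χ : G → ℂ) = n} = (if n = 1 ∨ n = 11 ∨ n = 44 ∨ n = 45 ∨ n = 55 then 1 else if n = 10 then 3 else if n = 16 then 2 else 0) := by
  classical
  haveI := Fintype.ofFinite G
  have hcomm := Lib.M11Degrees.not_comm hG
  haveI : Fact (Nat.Prime 11) := ⟨by norm_num⟩
  obtain ⟨y, hy⟩ := exists_prime_orderOf_dvd_card' (G := G) 11 (by rw [hG]; norm_num)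
  obtain ⟨hCy, -, -⟩ := Lib.M11Degrees.eleven hG hy
  obtain ⟨x, hx, hxN, hxC, hy3⟩ := Lib.M11Degrees.exists_five_normalizing hG hy
  obtain ⟨hCx, hx2⟩ := Lib.M11Degrees.five hG hy hx hxN hxC
  choose d hd0 hd1 hdvd using fun χ : Cfsg.IrrCharacter G => Lib.Chars.irr_degree_dvd_card χ
  have hdeg : ∀ χ : Cfsg.IrrCharacter G, Cfsg.charDegree (χ : G → ℂ) = d χ := fun χ => by
    rw [Cfsg.charDegree, hd1, Complex.natCast_re, Nat.floor_natCast]
  choose v hv hv5 using fun χ => Lib.M11Degrees.exists_int_value_five χ hx hx2 (hd1 χ)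
  choose q hq hq11 using fun χ => Lib.M11Degrees.exists_nat_normSq_eleven χ hy hy3 (hd1 χ)
  -- the column sums
  have s1 : ∑ χ, d χ * d χ = 7920 := by
    have h1 := Lib.Chars.sum_degree_sq (G := G)
    rw [hG] at h1
    have : (((∑ χ, d χ * d χ : ℕ) : ℕ) : ℂ) = ((7920 : ℕ) : ℂ) := by
      rw [← h1]; push_cast
      exact Finset.sum_congr rfl fun χ _ => by rw [hd1, sq]
    exact_mod_cast this
  have s2 : ∑ χ, (v χ).natAbs * (v χ).natAbs = 5 := by
    have h1 := Lib.Chars.column_orthogonality_of_isConj (IsConj.refl x)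
    rw [hCx] at h1
    have h2 : ((∑ χ, v χ * v χ : ℤ) : ℂ) = ((5 : ℤ) : ℂ) := by
      push_cast
      refine (Finset.sum_congr rfl fun χ _ => ?_).trans (h1.trans (by norm_num))
      rw [hv, map_intCast]
    have h3 : (∑ χ, v χ * v χ : ℤ) = 5 := by exact_mod_cast h2
    have h4 : ((∑ χ, (v χ).natAbs * (v χ).natAbs : ℕ) : ℤ) = ((5 : ℕ) : ℤ) := by
      push_cast
      simp only [abs_mul_abs_self]
      exact h3
    exact_mod_cast h4
  have s3 : ∑ χ, (d χ : ℤ) * v χ = 0 := by
    have hx1 : x ≠ 1 := fun h => by rw [h, orderOf_one] at hx; norm_num at hx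
    have h1 := Lib.Chars.sum_degree_mul_irr (G := G) x
    rw [if_neg hx1] at h1
    have h2 : ((∑ χ, (d χ : ℤ) * v χ : ℤ) : ℂ) = ((0 : ℤ) : ℂ) := by
      push_cast
      refine (Finset.sum_congr rfl fun χ _ => ?_).trans h1
      rw [hd1, hv]
    exact_mod_cast h2
  have s4 : ∑ χ, q χ = 11 := by
    have h1 := Lib.Chars.column_orthogonality_of_isConj (IsConj.refl y)
    rw [hCy] at h1
    have : ((∑ χ, q χ : ℕ) : ℂ) = ((11 : ℕ) : ℂ) := by
      rw [← h1]; push_cast
      exact Finset.sum_congr rfl fun χ _ => (hq χ).symm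
    exact_mod_cast this
  -- split off the trivial character
  set χ₀ := Lib.Chars.trivialIrr G with hχ₀
  have hd₀ : d χ₀ = 1 := by
    have := hd1 χ₀
    rw [hχ₀, Lib.Chars.trivialIrr_apply] at this
    exact_mod_cast this.symm
  have hv₀ : v χ₀ = 1 := by
    have := hv χ₀
    rw [hχ₀, Lib.Chars.trivialIrr_apply] at this
    exact_mod_cast this.symm
  have hq₀ : q χ₀ = 1 := by
    have := hq χ₀
    rw [hχ₀, Lib.Chars.trivialIrr_apply, map_one, mul_one] at this
    exact_mod_cast this.symm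
  have hmem : χ₀ ∈ (Finset.univ : Finset (Cfsg.IrrCharacter G)) := Finset.mem_univ _
  set R := (Finset.univ : Finset (Cfsg.IrrCharacter G)).erase χ₀ with hR
  set L : Multiset (ℕ × ℤ) := R.val.map fun χ => (d χ, v χ) with hL
  have hsum : ∀ {β : Type} [AddCommMonoid β] (f : ℕ × ℤ → β),
      (L.map f).sum = ∑ χ ∈ R, f (d χ, v χ) := by
    intro β _ f
    rw [hL, Multiset.map_map]; rfl
  have hsol := Lib.M11Degrees.degrees_eq L ?_ ?_ ?_ ?_ ?_
  rotate_left
  · intro z hz
    obtain ⟨χ, hχ, rfl⟩ := Multiset.mem_map.1 hz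
    refine ⟨?_, hG ▸ hdvd χ, hv5 χ⟩
    by_contra h2
    have h1 : d χ = 1 := by have := hd0 χ; simp only at h2; omega
    exact Finset.ne_of_mem_erase hχ
      (Lib.M11Degrees.eq_trivial_of_degree_one hcomm χ (by rw [hd1, h1, Nat.cast_one]))
  · rw [hsum]
    rw [← Finset.add_sum_erase _ _ hmem, ← hR, hd₀] at s1
    simp only at s1 ⊢
    omega
  · rw [hsum]
    rw [← Finset.add_sum_erase _ _ hmem, ← hR, hv₀] at s2
    simp only [Int.natAbs_one] at s2 ⊢
    omega
  · rw [hsum]
    rw [← Finset.add_sum_erase _ _ hmem, ← hR, hv₀, hd₀] at s3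
    simp only [Nat.cast_one] at s3 ⊢
    omega
  · rw [hsum]
    rw [← Finset.add_sum_erase _ _ hmem, ← hR, hq₀] at s4
    have hle : ∑ χ ∈ R, d χ * d χ % 11 ≤ ∑ χ ∈ R, q χ :=
      Finset.sum_le_sum fun χ _ => by rw [← hq11]; exact Nat.mod_le _ _
    simp only at hle ⊢
    omega
  have hall : (Finset.univ : Finset (Cfsg.IrrCharacter G)).val.map d =
      1 ::ₘ (Lib.M11Degrees.answer : Multiset ℕ) := by
    rw [← hsol, hL, Multiset.map_map, hR]
    conv_lhs => rw [← Finset.insert_erase hmem, Finset.insert_val_of_notMem (Finset.notMem_erase _ _),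
      Multiset.map_cons, hd₀]
    rfl
  constructor
  · rw [Nat.card_eq_fintype_card]
    have := congrArg Multiset.card hall
    rw [Multiset.card_map] at this
    simpa [Lib.M11Degrees.answer] using this
  · intro n
    rw [Nat.card_eq_fintype_card, Fintype.card_subtype]
    have hcount := congrArg (Multiset.count n) hall
    rw [Multiset.count_map] at hcount
    have hfil : ((Finset.univ : Finset (Cfsg.IrrCharacter G)).filter
        fun χ : Cfsg.IrrCharacter G => Cfsg.charDegree (χ : G → ℂ) = n).card =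
        Multiset.count n (1 ::ₘ (Lib.M11Degrees.answer : Multiset ℕ)) := by
      rw [← hcount, Finset.card_def, Finset.filter_val]
      congr 1
      exact Multiset.filter_congr fun χ _ => by rw [hdeg, eq_comm]
    rw [hfil, Multiset.cons_coe, Multiset.coe_count, Lib.M11Degrees.answer]
    simp only [List.count_cons, List.count_nil, beq_iff_eq]
    split_ifs <;> omega

end Cfsg.Agent.S4429
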