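import Cfsg.Statements.S3378
import Mathlib
import Cfsg.Agent.S3377
import Cfsg.Agent.S0493
import Cfsg.Agent.S0494
-- import your own Cfsg.Agent.* helpers here

set_option autoImplicit false
open Cfsg

namespace Cfsg.Agent.S3378

/-- First generator in `SL(2,5)`. -/
def sx : Matrix.SpecialLinearGroup (Fin 2) (ZMod 5) := ⟨!![0, 1; 4, 4], by decide⟩

/-- Second generator in `SL(2,5)`. -/
def sy : Matrix.SpecialLinearGroup (Fin 2) (ZMod 5) := ⟨!![0, 4; 1, 2], by decide⟩

/-- The central involution of `SL(2,5)`. -/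
def sz : Matrix.SpecialLinearGroup (Fin 2) (ZMod 5) := ⟨!![4, 0; 0, 4], by decide⟩

/-- Words for the 120 elements. -/
def words : List (List ℕ) := [[], [0], [1], [0, 0], [0, 1], [1, 0], [1, 1], [0, 0, 1], [0, 1, 0], [0, 1, 1], [1, 0, 0], [1, 0, 1], [1, 1, 0], [1, 1, 1], [0, 0, 1, 0], [0, 0, 1, 1], [0, 1, 0, 0], [0, 1, 0, 1], [0, 1, 1, 0], [0, 1, 1, 1], [1, 0, 0, 1], [1, 0, 1, 1], [1, 1, 0, 0], [1, 1, 0, 1], [1, 1, 1, 0], [1, 1, 1, 1], [0, 0, 1, 0, 0], [0, 0, 1, 0, 1], [0, 0, 1, 1, 0], [0, 0, 1, 1, 1], [0, 1, 0, 0, 1], [0, 1, 0, 1, 1], [0, 1, 1, 0, 0], [0, 1, 1, 0, 1], [0, 1, 1, 1, 0], [0, 1, 1, 1, 1], [1, 0, 0, 1, 1], [1, 0, 1, 1, 1], [1, 1, 0, 0, 1], [1, 1, 0, 1, 1], [1, 1, 1, 0, 1], [0, 0, 1, 0, 0, 1], [0, 0, 1, 0, 1, 1], [0, 0, 1, 1, 0, 0], [0, 0, 1, 1, 0, 1], [0, 0, 1, 1, 1, 0], [0, 0, 1, 1, 1, 1], [0, 1, 0, 0, 1, 1], [0, 1, 0, 1, 1, 1], [0, 1, 1, 0, 0, 1], [0, 1, 1, 0, 1, 1], [0, 1, 1, 1, 0, 1], [1, 0, 0, 1, 1, 0], [1, 0, 0, 1, 1, 1], [1,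 0, 1, 1, 1, 0], [1, 0, 1, 1, 1, 1], [1, 1, 0, 0, 1, 1], [1, 1, 0, 1, 1, 1], [1, 1, 1, 0, 1, 1], [0, 0, 1, 0, 0, 1, 1], [0, 0, 1, 0, 1, 1, 1], [0, 0, 1, 1, 0, 0, 1], [0, 0, 1, 1, 0, 1, 1], [0, 0, 1, 1, 1, 0, 1], [0, 1, 0, 0, 1, 1, 0], [0, 1, 0, 0, 1, 1, 1], [0, 1, 0, 1, 1, 1, 0], [0, 1, 0, 1, 1, 1, 1], [0, 1, 1, 0, 0, 1, 1], [0, 1, 1, 0, 1, 1, 1], [0, 1, 1, 1, 0, 1, 1], [1, 0, 0, 1, 1, 0, 0], [1, 0, 0, 1, 1, 0, 1], [1, 0, 0, 1, 1, 1, 0], [1, 1, 0, 0, 1, 1, 0], [1, 1, 0, 1, 1, 1, 0], [1, 1, 0, 1, 1, 1, 1], [1, 1, 1, 0, 1, 1, 1], [0, 0, 1, 0, 0, 1, 1, 0], [0, 0, 1, 0, 0, 1, 1, 1], [0, 0, 1, 0, 1, 1, 1, 0], [0, 0, 1, 0, 1, 1, 1, 1], [0, 0, 1, 1, 0, 0, 1, 1], [0, 0, 1, 1, 0, 1, 1, 1], [0, 0, 1, 1, 1, 0, 1, 1], [0, 1, 0, 0, 1, 1, 0, 0], [0, 1, 0, 0, 1, 1, 0, 1], [0, 1, 0, 0, 1, 1, 1, 0], [0, 1, 1, 0, 0, 1, 1, 0], [0, 1, 1, 0, 1, 1, 1, 0], [0, 1, 1, 0, 1, 1, 1, 1], [0, 1, 1, 1, 0, 1, 1, 1], [1, 0, 0, 1, 1, 0, 0, 1], [1, 0, 0, 1, 1, 1, 0, 1], [1, 1, 0,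 0, 1, 1, 0, 0], [1, 1, 0, 0, 1, 1, 0, 1], [1, 1, 1, 0, 1, 1, 1, 0], [0, 0, 1, 0, 0, 1, 1, 0, 0], [0, 0, 1, 0, 0, 1, 1, 0, 1], [0, 0, 1, 0, 0, 1, 1, 1, 0], [0, 0, 1, 1, 0, 0, 1, 1, 0], [0, 0, 1, 1, 0, 1, 1, 1, 0], [0, 0, 1, 1, 0, 1, 1, 1, 1], [0, 0, 1, 1, 1, 0, 1, 1, 1], [0, 1, 0, 0, 1, 1, 0, 0, 1], [0, 1, 0, 0, 1, 1, 1, 0, 1], [0, 1, 1, 0, 0, 1, 1, 0, 0], [0, 1, 1, 0, 0, 1, 1, 0, 1], [0, 1, 1, 1, 0, 1, 1, 1, 0], [1, 0, 0, 1, 1, 0, 0, 1, 1], [1, 0, 0, 1, 1, 1, 0, 1, 1], [1, 1, 0, 0, 1, 1, 0, 0, 1], [0, 0, 1, 0, 0, 1, 1, 0, 0, 1], [0, 0, 1, 0, 0, 1, 1, 1, 0, 1], [0, 0, 1, 1, 0, 0, 1, 1, 0, 1], [0, 0, 1, 1, 1, 0, 1, 1, 1, 0], [0, 1, 0, 0, 1, 1, 0, 0, 1, 1], [0, 1, 1, 0, 0, 1, 1, 0, 0, 1], [1, 0, 0, 1, 1, 0, 0, 1, 1, 0], [1, 0, 0, 1, 1, 1, 0, 1, 1, 1]]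

/-- The element named by a word. -/
def sigma (w : List ℕ) : Matrix.SpecialLinearGroup (Fin 2) (ZMod 5) :=
  (w.map fun i => if i = 0 then sx else sy).prod

theorem range_words :
    ((words.map sigma).map fun s => [s.1 0 0, s.1 0 1, s.1 1 0, s.1 1 1]).Nodup := by
  decide +kernel

theorem isSolvable_of_card_lt : ∀ (n : ℕ) (G : Type*) [Group G] [Finite G],
    Nat.card G = n → n < 60 → Group.IsSolvable G := by
  intro n
  induction n using Nat.strong_induction_on with
  | _ n ih =>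
    intro G _ _ hn hlt
    by_cases hnt : Nontrivial G
    swap
    · rw [not_nontrivial_iff_subsingleton] at hnt
      infer_instance
    by_cases hs : IsSimpleGroup G
    · by_cases hc : IsCyclic G
      · have : IsMulCommutative G := inferInstance
        exact Group.isSolvable_of_comm fun a b => mul_comm' a b
      · have := Cfsg.Agent.S0493.result hc (by omega)
        omega
    · obtain ⟨N, hNn, hNb, hNt⟩ : ∃ N : Subgroup G, N.Normal ∧ N ≠ ⊥ ∧ N ≠ ⊤ := by
        by_contra h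
        push Not at h
        exact hs ⟨fun N hN => (em (N = ⊥)).imp_right (h N hN)⟩
      have h1 : 1 < Nat.card N := (Subgroup.one_lt_card_iff_ne_bot N).mpr hNb
      have h2 : 1 < N.index := by
        have := Subgroup.index_ne_zero_of_finite (H := N)
        have := mt Subgroup.index_eq_one.mp hNt
        omega
      have hmul := N.card_mul_index
      have : Group.IsSolvable N := ih _ (by nlinarith) N rfl (by nlinarith)
      have : Group.IsSolvable (G ⧸ N) :=
        ih _ (by rw [← Subgroup.index_eq_card]; nlinarith) (G ⧸ N) rfl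
          (by rw [← Subgroup.index_eq_card]; nlinarith)
      exact Group.isSolvable_of_ker_le_range N.subtype (QuotientGroup.mk' N)
        (by rw [QuotientGroup.ker_mk', Subgroup.range_subtype])

theorem quat_involution : ∀ a : QuaternionGroup 2, a * a = 1 → a = 1 ∨ a = QuaternionGroup.a 2 := by
  decide

theorem alt_generated (R : Subgroup (Equiv.Perm (Fin 5))) (hx : Cfsg.Agent.S3377.gx ∈ R)
    (hy : Cfsg.Agent.S3377.gy ∈ R) : 60 ≤ Nat.card R := by
  classical
  have hnd : (Cfsg.Agent.S3377.words.map Cfsg.Agent.S3377.sigma).Nodup :=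
    List.Nodup.of_map _ Cfsg.Agent.S3377.range_words
  have hsub : ((Cfsg.Agent.S3377.words.map Cfsg.Agent.S3377.sigma).toFinset :
      Set (Equiv.Perm (Fin 5))) ⊆ R := by
    intro s hs
    simp only [List.coe_toFinset, List.mem_map, Set.mem_ofPred_eq] at hs
    obtain ⟨w, -, rfl⟩ := hs
    refine list_prod_mem fun a ha => ?_
    obtain ⟨i, -, rfl⟩ := List.mem_map.mp ha
    split_ifs <;> assumption
  have h1 := Nat.card_mono (Set.toFinite _) hsub
  rw [Nat.card_eq_card_toFinset, Finset.toFinset_coe, List.toFinset_card_of_nodup hnd,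
    List.length_map] at h1
  exact le_trans (by decide) h1

/-- The relators. -/
abbrev rels : Set (FreeGroup (Fin 3)) :=
  {FreeGroup.of (0 : Fin 3) ^ 3, FreeGroup.of (1 : Fin 3) ^ 5, FreeGroup.of (2 : Fin 3) ^ 2,
    (FreeGroup.of (2 : Fin 3))⁻¹ * FreeGroup.of 0 * FreeGroup.of 2 * (FreeGroup.of (0 : Fin 3))⁻¹,
    (FreeGroup.of (2 : Fin 3))⁻¹ * FreeGroup.of 1 * FreeGroup.of 2 * (FreeGroup.of (1 : Fin 3))⁻¹,
    (FreeGroup.of (0 : Fin 3) * FreeGroup.of 1) ^ 2 * (FreeGroup.of (2 : Fin 3))⁻¹}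

theorem card_le : Finite (PresentedGroup rels) ∧ Nat.card (PresentedGroup rels) ≤ 120 := by
  set P := PresentedGroup rels
  set x : P := PresentedGroup.of 0 with hx
  set y : P := PresentedGroup.of 1 with hy
  set z : P := PresentedGroup.of 2 with hz
  have hone : ∀ r ∈ rels, (PresentedGroup.mk rels r) = 1 := fun r hr => PresentedGroup.one_of_mem hr
  have hz2 : z ^ 2 = 1 := by
    have h := hone (FreeGroup.of 2 ^ 2) (by simp [rels])
    rwa [map_pow] at h
  have hzx : z⁻¹ * x * z * x⁻¹ = 1 := by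
    have h := hone ((FreeGroup.of (2 : Fin 3))⁻¹ * FreeGroup.of 0 * FreeGroup.of 2 * (FreeGroup.of (0 : Fin 3))⁻¹)
      (by simp [rels])
    rwa [map_mul, map_mul, map_mul, map_inv, map_inv] at h
  have hzy : z⁻¹ * y * z * y⁻¹ = 1 := by
    have h := hone ((FreeGroup.of (2 : Fin 3))⁻¹ * FreeGroup.of 1 * FreeGroup.of 2 * (FreeGroup.of (1 : Fin 3))⁻¹)
      (by simp [rels])
    rwa [map_mul, map_mul, map_mul, map_inv, map_inv] at h
  have hzc : z ∈ Subgroup.center P := by
    rw [Subgroup.mem_center_iff]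
    intro g
    have h : g ∈ Subgroup.centralizer ({z} : Set P) := by
      have : (⊤ : Subgroup P) ≤ Subgroup.centralizer ({z} : Set P) := by
        rw [← PresentedGroup.closure_range_of, Subgroup.closure_le]
        rintro _ ⟨i, rfl⟩
        rw [SetLike.mem_coe, Subgroup.mem_centralizer_singleton_iff]
        have key : ∀ u : P, z⁻¹ * u * z * u⁻¹ = 1 → u * z = z * u := fun u h => by
          rw [mul_inv_eq_one, mul_assoc, inv_mul_eq_iff_eq_mul] at h
          exact h
        fin_cases i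
        · exact key x hzx
        · exact key y hzy
        · rfl
      exact this (Subgroup.mem_top g)
    exact Subgroup.mem_centralizer_singleton_iff.mp h
  set Z := Subgroup.zpowers z
  have hZn : Z.Normal := ⟨fun n hn g => by
    have : n ∈ Subgroup.center P := (Subgroup.zpowers_le.mpr hzc) hn
    rwa [Subgroup.mem_center_iff.mp this g, mul_assoc, mul_inv_cancel, mul_one]⟩
  let q := QuotientGroup.mk' Z
  have hqz : q z = 1 := (QuotientGroup.eq_one_iff z).mpr (Subgroup.mem_zpowers z)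
  let f : Fin 2 → P ⧸ Z := ![q x, q y]
  have hf : ∀ r ∈ ({FreeGroup.of (0 : Fin 2) ^ 3, FreeGroup.of (1 : Fin 2) ^ 5,
      (FreeGroup.of (0 : Fin 2) * FreeGroup.of 1) ^ 2} : Set (FreeGroup (Fin 2))),
      FreeGroup.lift f r = 1 := by
    simp only [Set.mem_insert_iff, Set.mem_singleton_iff]
    rintro r (rfl | rfl | rfl)
    · have h := hone (FreeGroup.of 0 ^ 3) (by simp [rels])
      rw [map_pow] at h
      rw [map_pow, FreeGroup.lift_apply_of]
      show q x ^ 3 = 1
      rw [← map_pow, show x ^ 3 = 1 from h, map_one]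
    · have h := hone (FreeGroup.of 1 ^ 5) (by simp [rels])
      rw [map_pow] at h
      rw [map_pow, FreeGroup.lift_apply_of]
      show q y ^ 5 = 1
      rw [← map_pow, show y ^ 5 = 1 from h, map_one]
    · have h := hone ((FreeGroup.of (0 : Fin 3) * FreeGroup.of 1) ^ 2 * (FreeGroup.of (2 : Fin 3))⁻¹)
        (by simp [rels])
      rw [map_mul, map_pow, map_mul, map_inv, mul_inv_eq_one] at h
      rw [map_pow, map_mul, FreeGroup.lift_apply_of, FreeGroup.lift_apply_of]
      show (q x * q y) ^ 2 = 1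
      rw [← map_mul, ← map_pow, show (x * y) ^ 2 = z from h, hqz]
  let ψ := PresentedGroup.toGroup hf
  have hψ : Function.Surjective ψ := by
    rw [← MonoidHom.range_eq_top, eq_top_iff,
      ← Subgroup.map_top_of_surjective q (QuotientGroup.mk'_surjective Z),
      ← PresentedGroup.closure_range_of, MonoidHom.map_closure, Subgroup.closure_le]
    rintro _ ⟨_, ⟨i, rfl⟩, rfl⟩
    fin_cases i
    · exact ⟨PresentedGroup.of 0, PresentedGroup.toGroup.of hf⟩
    · exact ⟨PresentedGroup.of 1, PresentedGroup.toGroup.of hf⟩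
    · exact ⟨1, by rw [map_one]; exact hqz.symm⟩
  obtain ⟨e5⟩ := Cfsg.Agent.S3377.result
  have := Finite.of_equiv _ e5.symm.toEquiv
  have hQle : Nat.card (P ⧸ Z) ≤ 60 := by
    refine (Nat.card_le_card_of_surjective ψ hψ).trans (le_of_eq ?_)
    rw [Nat.card_congr e5.toEquiv, nat_card_alternatingGroup]
    simp [Nat.factorial]
  have : Finite (P ⧸ Z) := Finite.of_surjective ψ hψ
  have hZc : Nat.card Z ≤ 2 := by
    rw [Nat.card_zpowers]
    exact orderOf_le_of_pow_eq_one (by norm_num) hz2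
  have : Finite Z := by
    apply Nat.finite_of_card_ne_zero
    rw [Nat.card_zpowers]
    exact (isOfFinOrder_iff_pow_eq_one.mpr ⟨2, by norm_num, hz2⟩).orderOf_pos.ne'
  have : Finite P := Finite.of_subgroup_quotient (H := Z)
  refine ⟨this, ?_⟩
  rw [Subgroup.card_eq_card_quotient_mul_card_subgroup Z]
  calc Nat.card (P ⧸ Z) * Nat.card Z ≤ 60 * 2 := Nat.mul_le_mul hQle hZc
    _ = 120 := by norm_num

theorem iso_of_quaternion (G : Type*) [Group G] [Finite G] (hcard : Nat.card G = 120)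
    (hns : ¬ Group.IsSolvable G)
    (hq : ∀ P : Sylow 2 G, Nonempty ((P : Subgroup G) ≃* QuaternionGroup 2)) :
    Nonempty (PresentedGroup rels ≃* G) := by
  classical
  have : Fact (Nat.Prime 2) := ⟨Nat.prime_two⟩
  have : Fact (Nat.Prime 5) := ⟨by norm_num⟩
  have huniq : ∀ (K : Subgroup G), IsPGroup 2 K → ∀ s ∈ K, ∀ t ∈ K, orderOf s = 2 → orderOf t = 2 → s = t := by
    intro K hK s hs t ht hso hto
    obtain ⟨S, hS⟩ := hK.exists_le_sylow
    obtain ⟨e⟩ := hq S
    have key : ∀ u (hu : u ∈ K), orderOf u = 2 → e ⟨u, hS hu⟩ = QuaternionGroup.a 2 := by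
      intro u hu huo
      refine (quat_involution _ ?_).resolve_left fun h => ?_
      · rw [← map_mul, ← map_one e]
        congr 1
        refine Subtype.ext ?_
        show u * u = 1
        rw [← pow_two, ← huo, pow_orderOf_eq_one]
      · rw [MulEquiv.map_eq_one_iff] at h
        rw [show u = 1 from congrArg Subtype.val h, orderOf_one] at huo
        omega
    exact congrArg Subtype.val (e.injective ((key s hs hso).trans (key t ht hto).symm))
  -- six Sylow 5-subgroups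
  have hn5 : Nat.card (Sylow 5 G) = 6 := by
    obtain ⟨P⟩ := (inferInstance : Nonempty (Sylow 5 G))
    have hP5 : Nat.card (P : Subgroup G) = 5 := by
      rw [P.card_eq_multiplicity, hcard, show (120 : ℕ) = 5 ^ 1 * 24 by norm_num,
        Nat.factorization_mul (by norm_num) (by norm_num), Nat.Prime.factorization_pow (by norm_num)]
      simp [Nat.factorization_eq_zero_of_not_dvd]
    have hmod : Nat.card (Sylow 5 G) % 5 = 1 % 5 := card_sylow_modEq_one 5 G
    have hdvd : Nat.card (Sylow 5 G) ∣ 24 := by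
      have h := P.card_dvd_index
      have hi := (P : Subgroup G).card_mul_index
      rw [hP5, hcard] at hi
      rwa [show (P : Subgroup G).index = 24 by omega] at h
    have hmem : Nat.card (Sylow 5 G) ∈ Nat.divisors 24 := Nat.mem_divisors.2 ⟨hdvd, by norm_num⟩
    rw [show Nat.divisors 24 = {1, 2, 3, 4, 6, 8, 12, 24} by decide] at hmem
    simp only [Finset.mem_insert, Finset.mem_singleton] at hmem
    have h16 : Nat.card (Sylow 5 G) = 1 ∨ Nat.card (Sylow 5 G) = 6 := by omega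
    refine h16.resolve_left fun h1 => hns ?_
    have hPn : (P : Subgroup G).Normal := by
      rw [← Subgroup.normalizer_eq_top_iff, ← Subgroup.index_eq_one]
      exact (P.card_eq_index_normalizer).symm.trans h1
    have : Group.IsSolvable (P : Subgroup G) := isSolvable_of_card_lt 5 _ hP5 (by norm_num)
    have : Group.IsSolvable (G ⧸ (P : Subgroup G)) := isSolvable_of_card_lt 24 _ (by
      have := Subgroup.card_eq_card_quotient_mul_card_subgroup (P : Subgroup G)
      rw [hP5, hcard] at this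
      omega) (by norm_num)
    exact Group.isSolvable_of_ker_le_range (P : Subgroup G).subtype (QuotientGroup.mk' (P : Subgroup G))
      (by rw [QuotientGroup.ker_mk', Subgroup.range_subtype])
  -- the action on them is not faithful
  let ρ : G →* Equiv.Perm (Sylow 5 G) := MulAction.toPermHom G (Sylow 5 G)
  have hK : ρ.ker ≠ ⊥ := by
    intro hbot
    rw [MonoidHom.ker_eq_bot_iff] at hbot
    obtain ⟨S⟩ := (inferInstance : Nonempty (Sylow 2 G))
    obtain ⟨e⟩ := hq S
    obtain ⟨z, hz⟩ := exists_prime_orderOf_dvd_card' (G := (S : Subgroup G)) 2 (by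
      rw [Nat.card_congr e.toEquiv, Nat.card_eq_fintype_card, QuaternionGroup.card]; norm_num)
    have hz1 : (z : G) ≠ 1 := by
      intro h
      rw [← Subgroup.orderOf_coe, h, orderOf_one] at hz
      omega
    obtain ⟨Q, hQ⟩ : ∃ Q : Sylow 5 G, (z : G) • Q ≠ Q := by
      by_contra! h
      exact hz1 (hbot (by rw [map_one]; exact Equiv.ext fun Q => h Q))
    have hst : MulAction.stabilizer (S : Subgroup G) Q = ⊥ := by
      by_contra hne
      have hp : IsPGroup 2 (MulAction.stabilizer (S : Subgroup G) Q) := S.2.to_subgroup _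
      obtain ⟨n, hn⟩ := hp.exists_card_eq
      have hn0 : n ≠ 0 := fun h => hne (Subgroup.card_eq_one.mp (by rw [hn, h, pow_zero]))
      obtain ⟨t, ht⟩ := exists_prime_orderOf_dvd_card' (G := MulAction.stabilizer (S : Subgroup G) Q) 2
        (hn ▸ dvd_pow_self 2 hn0)
      have htz : ((t : (S : Subgroup G)) : G) = (z : G) := huniq _ S.2 _ (t : (S : Subgroup G)).2 _ z.2
        (by rw [Subgroup.orderOf_coe, Subgroup.orderOf_coe]; exact ht)
        (by rw [Subgroup.orderOf_coe]; exact hz)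
      apply hQ
      have h2 := t.2
      rw [MulAction.mem_stabilizer_iff, Subgroup.smul_def, htz] at h2
      exact h2
    have h1 := MulAction.index_stabilizer (S : Subgroup G) Q
    rw [hst, Subgroup.index_bot, Nat.card_congr e.toEquiv, Nat.card_eq_fintype_card, QuaternionGroup.card] at h1
    have h2 := Set.ncard_le_card (MulAction.orbit (S : Subgroup G) Q)
    rw [← h1, hn5] at h2
    omega
  set K := ρ.ker
  have hK2 : IsPGroup 2 K := by
    have hK5 : ¬ 5 ∣ Nat.card K := by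
      intro h
      obtain ⟨k, hk⟩ := exists_prime_orderOf_dvd_card' 5 h
      have hall : ∀ Q : Sylow 5 G, (k : G) ∈ (Q : Subgroup G) := by
        intro Q
        have hkQ : (k : G) • Q = Q := Equiv.ext_iff.mp k.2 Q
        rw [Sylow.smul_eq_iff_mem_normalizer] at hkQ
        have hp : IsPGroup 5 (Subgroup.zpowers (k : G)) := IsPGroup.of_card (n := 1)
          (by rw [Nat.card_zpowers, Subgroup.orderOf_coe, hk, pow_one])
        have hsup : IsPGroup 5 ↥((Q : Subgroup G) ⊔ Subgroup.zpowers (k : G)) :=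
          Q.2.to_sup_of_normal_left' hp (Subgroup.zpowers_le.mpr hkQ)
        rw [← Q.3 hsup le_sup_left]
        exact Subgroup.mem_sup_right (Subgroup.mem_zpowers _)
      have hz5 : ∀ Q : Sylow 5 G, (Q : Subgroup G) = Subgroup.zpowers (k : G) := by
        intro Q
        refine (Subgroup.eq_of_le_of_card_ge (Subgroup.zpowers_le.mpr (hall Q)) ?_).symm
        rw [Nat.card_zpowers, Subgroup.orderOf_coe, hk, Q.card_eq_multiplicity, hcard,
          show (120 : ℕ) = 5 ^ 1 * 24 by norm_num, Nat.factorization_mul (by norm_num) (by norm_num),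
          Nat.Prime.factorization_pow (by norm_num)]
        simp [Nat.factorization_eq_zero_of_not_dvd]
      have : Subsingleton (Sylow 5 G) := ⟨fun A B => Sylow.ext ((hz5 A).trans (hz5 B).symm)⟩
      rw [Nat.card_unique] at hn5
      omega
    have hK3 : ¬ 3 ∣ Nat.card K := by
      intro h
      have : Fact (Nat.Prime 3) := ⟨by norm_num⟩
      obtain ⟨k, hk⟩ := exists_prime_orderOf_dvd_card' 3 h
      obtain ⟨Q⟩ := (inferInstance : Nonempty (Sylow 5 G))
      have hkQ : (k : G) • Q = Q := Equiv.ext_iff.mp k.2 Q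
      rw [Sylow.smul_eq_iff_mem_normalizer] at hkQ
      have h3 := Subgroup.orderOf_dvd_natCard _ hkQ
      rw [Subgroup.orderOf_coe, hk] at h3
      have h4 := (Subgroup.normalizer ((Q : Subgroup G) : Set G)).card_mul_index
      rw [show (Subgroup.normalizer ((Q : Subgroup G) : Set G)).index = 6 from Q.card_eq_index_normalizer.symm.trans hn5, hcard] at h4
      have h3' : 3 ∣ Nat.card (Subgroup.normalizer ((Q : Subgroup G) : Set G)) := h3
      rw [show Nat.card (Subgroup.normalizer ((Q : Subgroup G) : Set G)) = 20 by omega] at h3'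
      omega
    have hmem : Nat.card K ∈ Nat.divisors 120 :=
      Nat.mem_divisors.2 ⟨hcard ▸ Subgroup.card_subgroup_dvd_card K, by norm_num⟩
    have hd : ∀ d ∈ Nat.divisors 120, d % 5 ≠ 0 → d % 3 ≠ 0 → d ∈ [1, 2, 4, 8] := by decide
    have h5 : Nat.card K % 5 ≠ 0 := fun h => hK5 (Nat.dvd_of_mod_eq_zero h)
    have h3 : Nat.card K % 3 ≠ 0 := fun h => hK3 (Nat.dvd_of_mod_eq_zero h)
    have := hd _ hmem h5 h3
    simp only [List.mem_cons, List.not_mem_nil, or_false] at this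
    rcases this with h | h | h | h
    · exact IsPGroup.of_card (n := 0) (by rw [h]; norm_num)
    · exact IsPGroup.of_card (n := 1) (by rw [h]; norm_num)
    · exact IsPGroup.of_card (n := 2) (by rw [h]; norm_num)
    · exact IsPGroup.of_card (n := 3) (by rw [h]; norm_num)
  obtain ⟨n, hn⟩ := hK2.exists_card_eq
  have hn0 : n ≠ 0 := fun h => hK (Subgroup.card_eq_one.mp (by rw [hn, h, pow_zero]))
  obtain ⟨z', hz'⟩ := exists_prime_orderOf_dvd_card' 2 (hn ▸ dvd_pow_self 2 hn0)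
  set z : G := (z' : G)
  have hzo : orderOf z = 2 := by rw [Subgroup.orderOf_coe]; exact hz'
  have hzc : ∀ g : G, g * z = z * g := by
    intro g
    have h := huniq K hK2 _ ((inferInstance : K.Normal).conj_mem z z'.2 g) z z'.2
      ((orderOf_injective (MulAut.conj g).toMonoidHom (MulAut.conj g).injective z).trans hzo) hzo
    exact mul_inv_eq_iff_eq_mul.mp h
  have hinv : ∀ t : G, orderOf t = 2 → t = z := by
    intro t ht
    let Tc : Subgroup G := Subgroup.zpowers t ⊔ Subgroup.zpowers z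
    have hT : IsPGroup 2 Tc := by
      refine (IsPGroup.of_card (n := 1) (by rw [Nat.card_zpowers, ht, pow_one])).to_sup_of_normal_left'
        (IsPGroup.of_card (n := 1) (by rw [Nat.card_zpowers, hzo, pow_one])) ?_
      refine le_trans ?_ (Subgroup.centralizer_le_normalizer _)
      rw [Subgroup.zpowers_le, Subgroup.mem_centralizer_iff]
      intro u _
      exact hzc u
    exact huniq Tc hT t (Subgroup.mem_sup_left (Subgroup.mem_zpowers t)) z
      (Subgroup.mem_sup_right (Subgroup.mem_zpowers z)) ht hzo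
  set Z := Subgroup.zpowers z
  have hZc : Nat.card Z = 2 := by rw [Nat.card_zpowers, hzo]
  have hZn : Z.Normal := ⟨fun u hu g => by
    obtain ⟨i, rfl⟩ := hu
    have h : Commute g (z ^ i) := Commute.zpow_right (hzc g) i
    rw [h.eq, mul_assoc, mul_inv_cancel, mul_one]
    exact ⟨i, rfl⟩⟩
  have hq60 : Nat.card (G ⧸ Z) = 60 := by
    have := Subgroup.card_eq_card_quotient_mul_card_subgroup Z
    rw [hcard, hZc] at this
    omega
  have hqs : IsSimpleGroup (G ⧸ Z) := by
    have : Nontrivial (G ⧸ Z) := Finite.one_lt_card_iff_nontrivial.mp (by omega)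
    refine ⟨fun N hN => ?_⟩
    by_contra h
    push Not at h
    have h1 : 1 < Nat.card N := (Subgroup.one_lt_card_iff_ne_bot N).mpr h.1
    have h2 : 1 < N.index := by
      have := Subgroup.index_ne_zero_of_finite (H := N)
      have := mt Subgroup.index_eq_one.mp h.2
      omega
    have hmul := N.card_mul_index
    have : Group.IsSolvable N := isSolvable_of_card_lt _ N rfl (by nlinarith)
    have : Group.IsSolvable ((G ⧸ Z) ⧸ N) :=
      isSolvable_of_card_lt _ _ rfl (by rw [← Subgroup.index_eq_card]; nlinarith)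
    have : Group.IsSolvable (G ⧸ Z) := Group.isSolvable_of_ker_le_range N.subtype (QuotientGroup.mk' N)
      (by rw [QuotientGroup.ker_mk', Subgroup.range_subtype])
    have : Group.IsSolvable Z := isSolvable_of_card_lt _ Z hZc (by norm_num)
    exact hns (Group.isSolvable_of_ker_le_range Z.subtype (QuotientGroup.mk' Z)
      (by rw [QuotientGroup.ker_mk', Subgroup.range_subtype]))
  obtain ⟨e⟩ := Cfsg.Agent.S0494.result hq60
  let φ : G →* alternatingGroup (Fin 5) := e.toMonoidHom.comp (QuotientGroup.mk' Z)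
  have hφs : Function.Surjective φ := e.surjective.comp (QuotientGroup.mk'_surjective Z)
  have hφk : ∀ g, φ g = 1 → g = 1 ∨ g = z := by
    intro g hg
    have hgZ : g ∈ Z := (QuotientGroup.eq_one_iff g).mp (e.injective (hg.trans (map_one e).symm))
    obtain ⟨i, rfl⟩ := hgZ
    rcases Int.emod_two_eq_zero_or_one i with h | h
    · left
      show z ^ i = 1
      rw [← zpow_mod_orderOf, hzo]
      simp [h]
    · right
      show z ^ i = z
      rw [← zpow_mod_orderOf, hzo]
      simp [h]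
  let ax : alternatingGroup (Fin 5) :=
    ⟨Cfsg.Agent.S3377.gx, by rw [Equiv.Perm.mem_alternatingGroup]; decide⟩
  let ay : alternatingGroup (Fin 5) :=
    ⟨Cfsg.Agent.S3377.gy, by rw [Equiv.Perm.mem_alternatingGroup]; decide⟩
  have hax : ax ^ 3 = 1 := Subtype.ext (show Cfsg.Agent.S3377.gx ^ 3 = 1 by decide)
  have hay : ay ^ 5 = 1 := Subtype.ext (show Cfsg.Agent.S3377.gy ^ 5 = 1 by decide)
  have haxy : (ax * ay) ^ 2 = 1 :=
    Subtype.ext (show (Cfsg.Agent.S3377.gx * Cfsg.Agent.S3377.gy) ^ 2 = 1 by decide)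
  have haxy1 : ax * ay ≠ 1 := fun h => absurd (congrArg Subtype.val h)
    (show Cfsg.Agent.S3377.gx * Cfsg.Agent.S3377.gy ≠ 1 by decide)
  obtain ⟨a₀, ha₀⟩ := hφs ax
  obtain ⟨b₀, hb₀⟩ := hφs ay
  have hz2 : z ^ 2 = 1 := orderOf_dvd_iff_pow_eq_one.mp hzo.dvd
  set a := a₀ ^ 4
  set b := b₀ ^ 6
  have ha : a ^ 3 = 1 := by
    rw [← pow_mul, show 4 * 3 = 3 * 4 by norm_num, pow_mul]
    rcases hφk (a₀ ^ 3) (by rw [map_pow, ha₀, hax]) with h | h <;> rw [h]
    · simp
    · rw [show 4 = 2 * 2 by norm_num, pow_mul, hz2, one_pow]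
  have hb : b ^ 5 = 1 := by
    rw [← pow_mul, show 6 * 5 = 5 * 6 by norm_num, pow_mul]
    rcases hφk (b₀ ^ 5) (by rw [map_pow, hb₀, hay]) with h | h <;> rw [h]
    · simp
    · rw [show 6 = 2 * 3 by norm_num, pow_mul, hz2, one_pow]
  have hφa : φ a = ax := by rw [map_pow, ha₀, pow_succ, hax, one_mul]
  have hφb : φ b = ay := by rw [map_pow, hb₀, pow_succ, hay, one_mul]
  have hab : (a * b) ^ 2 = z := by
    refine (hφk _ (by rw [map_pow, map_mul, hφa, hφb, haxy])).resolve_left fun h => haxy1 ?_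
    have hne : a * b ≠ 1 := fun h1 => haxy1 (by rw [← hφa, ← hφb, ← map_mul, h1, map_one])
    have h2 : a * b = z := hinv _ (orderOf_eq_prime h hne)
    rw [← hφa, ← hφb, ← map_mul, h2]
    show e ((z : G) : G ⧸ Z) = 1
    rw [(QuotientGroup.eq_one_iff z).mpr (Subgroup.mem_zpowers z), map_one]
  have hrel : ∀ r ∈ rels, FreeGroup.lift ![a, b, z] r = 1 := by
    simp only [rels, Set.mem_insert_iff, Set.mem_singleton_iff]
    rintro r (rfl | rfl | rfl | rfl | rfl | rfl) <;>
      simp only [map_pow, map_mul, map_inv, FreeGroup.lift_apply_of, Matrix.cons_val_zero,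
        Matrix.cons_val_one, Matrix.cons_val]
    · exact ha
    · exact hb
    · exact hz2
    · rw [mul_assoc z⁻¹, hzc a]; group
    · rw [mul_assoc z⁻¹, hzc b]; group
    · rw [hab, mul_inv_cancel]
  let θ := PresentedGroup.toGroup hrel
  have hθ : Function.Surjective θ := by
    rw [← MonoidHom.range_eq_top]
    set R := θ.range
    have hzR : z ∈ R := ⟨PresentedGroup.of 2, PresentedGroup.toGroup.of hrel⟩
    have himg : 60 ≤ Nat.card (R.map φ) := by
      rw [Nat.card_congr ((R.map φ).equivMapOfInjective _ (alternatingGroup (Fin 5)).subtype_injective).toEquiv]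
      refine alt_generated _ ⟨ax, ⟨a, ⟨PresentedGroup.of 0, PresentedGroup.toGroup.of hrel⟩, hφa⟩, rfl⟩
        ⟨ay, ⟨b, ⟨PresentedGroup.of 1, PresentedGroup.toGroup.of hrel⟩, hφb⟩, rfl⟩
    have hA : Nat.card (alternatingGroup (Fin 5)) = 60 := by
      rw [nat_card_alternatingGroup]; simp [Nat.factorial]
    have htop := Subgroup.eq_top_of_le_card _ (hA.le.trans himg)
    rw [eq_top_iff]
    intro g _
    obtain ⟨r, hr, hrg⟩ : φ g ∈ R.map φ := htop ▸ Subgroup.mem_top _
    have h := hφk (r⁻¹ * g) (by rw [map_mul, map_inv, hrg, inv_mul_cancel])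
    rcases h with h | h
    · rw [inv_mul_eq_one] at h; exact h ▸ hr
    · rw [inv_mul_eq_iff_eq_mul] at h; exact h ▸ R.mul_mem hr hzR
  obtain ⟨hfin, hle⟩ := card_le
  have hc : Nat.card (PresentedGroup rels) = Nat.card G :=
    le_antisymm (hcard ▸ hle) (Nat.card_le_card_of_surjective θ hθ)
  exact ⟨MulEquiv.ofBijective θ ((Nat.bijective_iff_surjective_and_card θ).mpr ⟨hθ, hc⟩)⟩

theorem sl_iso : Nonempty (PresentedGroup rels ≃* Matrix.SpecialLinearGroup (Fin 2) (ZMod 5)) := by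
  classical
  have hrel : ∀ r ∈ rels, FreeGroup.lift ![sx, sy, sz] r = 1 := by
    simp only [rels, Set.mem_insert_iff, Set.mem_singleton_iff]
    rintro r (rfl | rfl | rfl | rfl | rfl | rfl) <;>
      simp only [map_pow, map_mul, map_inv, FreeGroup.lift_apply_of, Matrix.cons_val_zero,
        Matrix.cons_val_one, Matrix.cons_val] <;> decide +kernel
  let θ := PresentedGroup.toGroup hrel
  have hnd : (words.map sigma).Nodup := List.Nodup.of_map _ range_words
  have hge : 120 ≤ Nat.card θ.range := by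
    have hsub : ((words.map sigma).toFinset : Set (Matrix.SpecialLinearGroup (Fin 2) (ZMod 5))) ⊆ θ.range := by
      intro s hs
      simp only [List.coe_toFinset, List.mem_map, Set.mem_ofPred_eq] at hs
      obtain ⟨w, -, rfl⟩ := hs
      refine list_prod_mem fun a ha => ?_
      obtain ⟨i, -, rfl⟩ := List.mem_map.mp ha
      split_ifs
      · exact ⟨PresentedGroup.of 0, PresentedGroup.toGroup.of hrel⟩
      · exact ⟨PresentedGroup.of 1, PresentedGroup.toGroup.of hrel⟩
    have h1 := Nat.card_mono (Set.toFinite _) hsub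
    rw [Nat.card_eq_card_toFinset, Finset.toFinset_coe, List.toFinset_card_of_nodup hnd,
      List.length_map] at h1
    exact le_trans (by decide +kernel) h1
  have hS : Nat.card (Matrix.SpecialLinearGroup (Fin 2) (ZMod 5)) = 120 := by
    rw [Nat.card_eq_fintype_card]; decide +kernel
  have hθ : Function.Surjective θ := by
    rw [← MonoidHom.range_eq_top]
    exact Subgroup.eq_top_of_le_card _ (hS.le.trans hge)
  obtain ⟨hfin, hle⟩ := card_le
  have hc : Nat.card (PresentedGroup rels) = Nat.card (Matrix.SpecialLinearGroup (Fin 2) (ZMod 5)) :=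
    le_antisymm (hS ▸ hle) (Nat.card_le_card_of_surjective θ hθ)
  exact ⟨MulEquiv.ofBijective θ ((Nat.bijective_iff_surjective_and_card θ).mpr ⟨hθ, hc⟩)⟩

/-- Every non-solvable group of order 120 whose Sylow 2-subgroups are quaternion of order 8 is isomorphic to SL(2,5), and SL(2,5) has the presentation ⟨x, y, z | x³ = y⁵ = z² = 1, z⁻¹xz = x, z⁻¹yz = y, (xy)² = z⟩. -/
theorem result :
    (∀ (G : Type*) [Group G] [Finite G], Nat.card G = 120 → ¬ Group.IsSolvable G →
      (∀ P : Sylow 2 G, Nonempty ((P : Subgroup G) ≃* QuaternionGroup 2)) →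
      Nonempty (G ≃* Matrix.SpecialLinearGroup (Fin 2) (ZMod 5))) ∧
    Nonempty (PresentedGroup ({FreeGroup.of (0 : Fin 3) ^ 3, FreeGroup.of (1 : Fin 3) ^ 5, FreeGroup.of (2 : Fin 3) ^ 2,
        (FreeGroup.of (2 : Fin 3))⁻¹ * FreeGroup.of 0 * FreeGroup.of 2 * (FreeGroup.of (0 : Fin 3))⁻¹,
        (FreeGroup.of (2 : Fin 3))⁻¹ * FreeGroup.of 1 * FreeGroup.of 2 * (FreeGroup.of (1 : Fin 3))⁻¹,
        (FreeGroup.of (0 : Fin 3) * FreeGroup.of 1) ^ 2 * (FreeGroup.of (2 : Fin 3))⁻¹} : Set (FreeGroup (Fin 3)))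
      ≃* Matrix.SpecialLinearGroup (Fin 2) (ZMod 5)) := by
  refine ⟨fun G _ _ hc hns hq => ?_, sl_iso⟩
  obtain ⟨e⟩ := iso_of_quaternion G hc hns hq
  obtain ⟨f⟩ := sl_iso
  exact ⟨e.symm.trans f⟩

end Cfsg.Agent.S3378
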