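import Cfsg.Statements.S3742
import Mathlib

set_option autoImplicit false
open Cfsg

namespace Cfsg.Agent.S3742

/-- The six elements of order four of the quaternion group, sent to the 4-cycles on the four
diagonals of a cube given by the quarter turns about the corresponding oriented axes. -/
def cyc : QuaternionGroup 2 → Equiv.Perm (Fin 4)
  | .a i => ![1, rx, 1, rx⁻¹] i
  | .xa i => ![ry, rz⁻¹, ry⁻¹, rz] i
where
  rx : Equiv.Perm (Fin 4) := ⟨![2, 0, 3, 1], ![1, 3, 0, 2], by decide, by decide⟩
  ry : Equiv.Perm (Fin 4) := ⟨![1, 2, 3, 0], ![3, 0, 1, 2], by decide, by decide⟩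
  rz : Equiv.Perm (Fin 4) := ⟨![3, 2, 0, 1], ![2, 3, 1, 0], by decide, by decide⟩

/-- The six elements of order four. -/
def six : List (QuaternionGroup 2) := [.a 1, .a 3, .xa 0, .xa 1, .xa 2, .xa 3]

/-- The automorphism of `Q₈` induced by a permutation of the four diagonals. -/
def act (σ : Equiv.Perm (Fin 4)) (q : QuaternionGroup 2) : QuaternionGroup 2 :=
  if q = .a 0 ∨ q = .a 2 then q
  else ((six.find? fun r => cyc r = σ * cyc q * σ⁻¹).getD 1)

theorem act_mul : ∀ σ : Equiv.Perm (Fin 4), ∀ p q : QuaternionGroup 2, act σ (p * q) = act σ p * act σ q := by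
  decide +kernel

theorem act_comp : ∀ σ τ : Equiv.Perm (Fin 4), ∀ q : QuaternionGroup 2, act (σ * τ) q = act σ (act τ q) := by
  decide +kernel

theorem act_one : ∀ q : QuaternionGroup 2, act 1 q = q := by
  decide +kernel

theorem act_faithful : ∀ σ : Equiv.Perm (Fin 4), (∀ q : QuaternionGroup 2, act σ q = q) → σ = 1 := by
  decide +kernel

theorem act_pairs : ∀ x y : QuaternionGroup 2, x * x = .a 2 → y * y = .a 2 → y ≠ x → y ≠ x * .a 2 →
    ∃ σ : Equiv.Perm (Fin 4), act σ (.a 1) = x ∧ act σ (.xa 0) = y := by
  decide +kernel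

theorem gen_decomp : ∀ q : QuaternionGroup 2, ∃ k : Fin 4,
    q = (.a 1 : QuaternionGroup 2) ^ (k : ℕ) ∨ q = .xa 0 * (.a 1 : QuaternionGroup 2) ^ (k : ℕ) := by
  decide +kernel

/-- The homomorphism from the symmetric group to the automorphism group. -/
def toAut : Equiv.Perm (Fin 4) →* MulAut (QuaternionGroup 2) where
  toFun σ :=
    { toFun := act σ
      invFun := act σ⁻¹
      left_inv := fun q => by rw [← act_comp, inv_mul_cancel, act_one]
      right_inv := fun q => by rw [← act_comp, mul_inv_cancel, act_one]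
      map_mul' := act_mul σ }
  map_one' := MulEquiv.ext act_one
  map_mul' σ τ := MulEquiv.ext (act_comp σ τ)

theorem toAut_bijective : Function.Bijective toAut := by
  constructor
  · rw [injective_iff_map_eq_one]
    intro σ h
    exact act_faithful σ fun q => DFunLike.congr_fun h q
  · intro f
    have ha2 : f (.a 2) = .a 2 := by
      have hord : orderOf (f (.a 2)) = 2 := by
        rw [MulEquiv.orderOf_eq]
        exact orderOf_eq_prime (by decide) (by decide)
      have : ∀ z : QuaternionGroup 2, z ^ 2 = 1 → z ≠ 1 → z = .a 2 := by decide +kernel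
      exact this _ (orderOf_dvd_iff_pow_eq_one.1 (dvd_of_eq hord)) (by intro e; simp [e] at hord)
    have hsq : ∀ z : QuaternionGroup 2, z * z = .a 2 → f z * f z = .a 2 := fun z hz => by
      rw [← map_mul, hz, ha2]
    obtain ⟨σ, h1, h2⟩ := act_pairs (f (.a 1)) (f (.xa 0)) (hsq _ (by decide)) (hsq _ (by decide))
      (fun h => by have := f.injective h; exact absurd this (by decide))
      (fun h => by
        rw [← ha2, ← map_mul] at h
        have := f.injective h
        exact absurd this (by decide))
    refine ⟨σ, MulEquiv.ext fun q => ?_⟩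
    have g1 : toAut σ (.a 1) = f (.a 1) := h1
    have g2 : toAut σ (.xa 0) = f (.xa 0) := h2
    obtain ⟨k, rfl | rfl⟩ := gen_decomp q
    · rw [map_pow, map_pow, g1]
    · rw [map_mul, map_mul, map_pow, map_pow, g1, g2]

/-- The automorphism group of the quaternion group of order 8 is isomorphic to the symmetric group of degree 4. -/
theorem result : Nonempty (MulAut (QuaternionGroup 2) ≃* Equiv.Perm (Fin 4)) := by
  exact ⟨(MulEquiv.ofBijective toAut toAut_bijective).symm⟩

end Cfsg.Agent.S3742
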