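import Cfsg.Statements.S0775
import Mathlib
import Cfsg.Agent.Lib.Forms.Frames
import Cfsg.Agent.Lib.Forms.Symplectic
import Cfsg.Agent.Lib.Forms.Stab
import Cfsg.Agent.Lib.Forms.Bridge
import Cfsg.Agent.Lib.Classical.Symplectic
-- import your own Cfsg.Agent.* helpers here

set_option autoImplicit false
open Cfsg

namespace Cfsg.Agent.S0775

/-- Maximal parabolics of the symplectic group: if W is a k-dimensional subspace of F^(2m) on which the symplectic form vanishes identically, its stabiliser in Sp_2m(q) has order q^(k(k+1)/2 + 2k(m−k)) · |Sp_(2m−2k)(q)| · |GL_k(q)|. -/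
theorem result {F : Type*} [Field F] [Fintype F] {q : ℕ} (hF : Fintype.card F = q) (m k : ℕ) (hk : k ≤ m) (W : Submodule F (Fin m ⊕ Fin m → F)) (hWk : Module.finrank F W = k) (hW : ∀ u ∈ W, ∀ v ∈ W, Cfsg.sympForm m F u v = 0) : Nat.card ↥(Cfsg.stabilizing (Cfsg.spToMat m F) (W : Set (Fin m ⊕ Fin m → F))) = q ^ (k * (k + 1) / 2 + 2 * k * (m - k)) * (q ^ ((m - k) ^ 2) * ∏ i ∈ Finset.range (m - k), (q ^ (2 * (i + 1)) - 1)) * ∏ i : Fin k, (q ^ k - q ^ (i : ℕ)) := by
  classical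
  open Cfsg.Agent.Lib.Forms in
  have h := sympBilin_goodForm (m := m) (F := F)
  let ρ : Matrix.symplecticGroup (Fin m) F →* ((Fin m ⊕ Fin m → F) ≃ₗ[F] (Fin m ⊕ Fin m → F)) :=
    (Cfsg.Agent.Lib.Forms.glEquiv _ F).toMonoidHom.comp (Matrix.symplecticGroup (Fin m) F).subtype.toHomUnits
  have hρ : ∀ g v, ρ g v = (g : Matrix (Fin m ⊕ Fin m) (Fin m ⊕ Fin m) F).mulVec v := fun g v =>
    Cfsg.Agent.Lib.Forms.glEquiv_apply _ v
  have hpres : ∀ g u v, (Cfsg.Agent.Lib.Forms.sympBilin m F) (ρ g u) (ρ g v) = (Cfsg.Agent.Lib.Forms.sympBilin m F) u v := fun g u v => by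
    simp only [Cfsg.Agent.Lib.Forms.sympBilin_apply, hρ]
    exact Cfsg.Agent.Lib.Forms.mem_symplecticGroup_iff_preserves.1 g.2 u v
  have hdim : Module.finrank F (Fin m ⊕ Fin m → F) = 2 * m := by
    rw [Module.finrank_fintype_fun_eq_card, Fintype.card_sum, Fintype.card_fin, two_mul]
  have hcount : Nat.card (Cfsg.Agent.Lib.Forms.isoFrames (Cfsg.Agent.Lib.Forms.sympBilin m F) k)
      = ∏ j ∈ Finset.range k, (q ^ (2 * m - j) - q ^ j) := by
    refine Cfsg.Agent.Lib.Forms.natCard_isoFrames h (fun j => q ^ (2 * m - j) - q ^ j) k fun j hj f hf => ?_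
    set S := Submodule.span F (Set.range f) with hS
    have hSf : Module.finrank F S = j := by
      rw [hS, finrank_span_eq_card hf.1, Fintype.card_fin]
    have hle : S ≤ Cfsg.Agent.Lib.Forms.perp (Cfsg.Agent.Lib.Forms.sympBilin m F) S := fun x hx => Cfsg.Agent.Lib.Forms.isoFrames_self hf x hx
    have hperp : Module.finrank F (Cfsg.Agent.Lib.Forms.perp (Cfsg.Agent.Lib.Forms.sympBilin m F) S) = 2 * m - j := by
      have := h.finrank_add_finrank_perp S
      rw [hdim, hSf] at this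
      omega
    have hext : Cfsg.Agent.Lib.Forms.frameExt (Cfsg.Agent.Lib.Forms.sympBilin m F) f
        = ((Cfsg.Agent.Lib.Forms.perp (Cfsg.Agent.Lib.Forms.sympBilin m F) S : Submodule F _) : Set (Fin m ⊕ Fin m → F)) \ (S : Set (Fin m ⊕ Fin m → F)) := by
      ext v
      exact ⟨fun hv => ⟨hv.1, hv.2.2⟩, fun hv => ⟨hv.1, by simp [Cfsg.Agent.Lib.Forms.sympForm_self], hv.2⟩⟩
    rw [hext]
    show (((Cfsg.Agent.Lib.Forms.perp (Cfsg.Agent.Lib.Forms.sympBilin m F) S : Submodule F _) : Set (Fin m ⊕ Fin m → F)) \ (S : Set (Fin m ⊕ Fin m → F))).ncard = _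
    rw [Set.ncard_sdiff hle]
    show Nat.card (Cfsg.Agent.Lib.Forms.perp (Cfsg.Agent.Lib.Forms.sympBilin m F) S) - Nat.card S = _
    rw [Module.natCard_eq_pow_finrank (K := F), Module.natCard_eq_pow_finrank (K := F) (V := S), hperp, hSf,
      Nat.card_eq_fintype_card, hF]
  have hmain := Cfsg.Agent.Lib.Forms.natCard_stabilizer_mul (B := Cfsg.Agent.Lib.Forms.sympBilin m F) ρ hpres (k := k)
    (fun f hf f' hf' => by
      obtain ⟨e, he, hef⟩ := h.witt_family f f' hf.1 hf'.1 fun i j => by rw [hf.2, hf'.2]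
      exact ⟨Cfsg.Agent.Lib.Forms.spMk e (by simpa using he), fun i => by rw [hρ, Cfsg.Agent.Lib.Forms.spMk_mulVec, hef]⟩)
    W hWk (by simpa using hW) (Cfsg.stabilizing (Cfsg.spToMat m F) (W : Set (Fin m ⊕ Fin m → F)))
    (fun g => by
      rw [Cfsg.Agent.Lib.Forms.mem_stabilizing_submodule_iff]
      simp only [hρ]
      rfl)
  have hq : 1 < q := hF ▸ Fintype.one_lt_card
  rw [hcount, Cfsg.Agent.Lib.Classical.natCard_symplecticGroup, hF] at hmain
  simp only [Nat.card_eq_fintype_card (α := F), hF] at hmain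
  have hpos : ∀ j ∈ Finset.range k, 0 < q ^ (2 * m - j) - q ^ j := fun j hj => by
    have := Finset.mem_range.1 hj
    exact Nat.sub_pos_of_lt (Nat.pow_lt_pow_right hq (by omega))
  refine Nat.eq_of_mul_eq_mul_right (Finset.prod_pos hpos) (hmain.trans ?_)
  rw [show ∏ j ∈ Finset.range k, (q ^ (2 * m - j) - q ^ j)
      = q ^ (∑ j ∈ Finset.range k, j) * ∏ j ∈ Finset.range k, (q ^ (2 * (m - j)) - 1) by
    rw [← Finset.prod_pow_eq_pow_sum, ← Finset.prod_mul_distrib]
    refine Finset.prod_congr rfl fun j hj => ?_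
    have := Finset.mem_range.1 hj
    rw [Nat.mul_sub, mul_one, ← pow_add]
    congr 2
    omega]
  rw [show ∏ i ∈ Finset.range m, (q ^ (2 * (i + 1)) - 1)
      = (∏ i ∈ Finset.range (m - k), (q ^ (2 * (i + 1)) - 1)) * ∏ j ∈ Finset.range k, (q ^ (2 * (m - j)) - 1) by
    conv_lhs => rw [show m = (m - k) + k by omega, Finset.prod_range_add]
    congr 1
    rw [← Finset.prod_range_reflect]
    refine Finset.prod_congr rfl fun j hj => ?_
    have := Finset.mem_range.1 hj
    congr 3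
    omega]
  have hexp : m ^ 2 = k * (k + 1) / 2 + 2 * k * (m - k) + (m - k) ^ 2 + ∑ j ∈ Finset.range k, j := by
    obtain ⟨t, rfl⟩ : ∃ t, m = k + t := ⟨m - k, by omega⟩
    rw [Nat.add_sub_cancel_left, Finset.sum_range_id]
    have h1 : k * (k + 1) / 2 + k * (k - 1) / 2 = k * k := by
      obtain ⟨a, ha⟩ := Nat.even_mul_succ_self k
      rcases k with _ | k
      · simp
      · obtain ⟨c, hc⟩ := Nat.even_mul_succ_self k
        rw [ha, Nat.add_sub_cancel, mul_comm (k + 1) k, hc]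
        have : (k + 1) * (k + 1 + 1) + k * (k + 1) = 2 * ((k + 1) * (k + 1)) := by ring
        omega
    have h2 : (k + t) ^ 2 = k * k + 2 * k * t + t ^ 2 := by ring
    omega
  rw [hexp]
  simp only [pow_add]
  ring

end Cfsg.Agent.S0775
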