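import Cfsg.Statements.S0782
import Mathlib
import Cfsg.Agent.Lib.Forms.UnitaryFrames
import Cfsg.Agent.Lib.Forms.Unitary
import Cfsg.Agent.Lib.Forms.Stab
import Cfsg.Agent.Lib.Classical.UnitaryOrder
-- import your own Cfsg.Agent.* helpers here

set_option autoImplicit false
open Cfsg

namespace Cfsg.Agent.S0782

open Cfsg.Agent.Lib.Forms in
theorem gu_stab_card {F : Type*} [Field F] [Fintype F] {q : ℕ} (hF : Fintype.card F = q ^ 2) (n k : ℕ)
    (hk : 2 * k ≤ n) (W : Submodule F (Fin n → F)) (hWk : Module.finrank F W = k)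
    (hW : ∀ u ∈ W, ∀ v ∈ W, Cfsg.hermForm n F q u v = 0) :
    Nat.card ↥((Cfsg.stabilizing (Cfsg.glToMat (Fin n) F) (W : Set (Fin n → F))).subgroupOf (Cfsg.GU n F q))
      = q ^ (k * (2 * n - 3 * k)) * (∏ i : Fin k, ((q ^ 2) ^ k - (q ^ 2) ^ (i : ℕ))) *
        (q ^ ((n - 2 * k) * ((n - 2 * k) - 1) / 2) *
          ∏ i ∈ Finset.range (n - 2 * k), (if Even i then q ^ (i + 1) + 1 else q ^ (i + 1) - 1)) := by
  classical
  have h := hermSesq_goodForm (n := n) hF
  have hq := two_le_of_card_sq hF
  let ρ : Cfsg.GU n F q →* ((Fin n → F) ≃ₗ[F] (Fin n → F)) :=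
    (glEquiv (Fin n) F).toMonoidHom.comp (Cfsg.GU n F q).subtype
  have hρ : ∀ g v, ρ g v = (g.1 : Matrix (Fin n) (Fin n) F).mulVec v := fun g v => glEquiv_apply g.1 v
  have hmain := natCard_stabilizer_mul (B := hermSesq hF n) ρ
    (fun g u v => by simp only [hermSesq_apply, hρ]; exact mem_preserving_iff.1 g.2 v u) (k := k)
    (fun f hf f' hf' => by
      obtain ⟨e, he, hef⟩ := h.witt_family f f' hf.1 hf'.1 fun i j => by rw [hf.2, hf'.2]
      refine ⟨⟨(glEquiv (Fin n) F).symm e, mem_preserving_iff.2 fun u v => ?_⟩, fun i => ?_⟩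
      · have := he v u
        simpa [glEquiv_symm_mulVec] using this
      · rw [hρ]; exact (glEquiv_symm_mulVec e _).trans (hef i))
    W hWk (fun u hu v hv => by rw [hermSesq_apply]; exact hW v hv u hu)
    ((Cfsg.stabilizing (Cfsg.glToMat (Fin n) F) (W : Set (Fin n → F))).subgroupOf (Cfsg.GU n F q))
    (fun g => by rw [Subgroup.mem_subgroupOf, mem_stabilizing_submodule_iff]; simp only [hρ]; rfl)
  let a : ℕ → ℕ := fun i => if Even i then q ^ (i + 1) + 1 else q ^ (i + 1) - 1
  have hcount : Nat.card (isoFrames (hermSesq hF n) k)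
      = ∏ j ∈ Finset.range k, q ^ (2 * j) * (a (n - 2 * j - 1) * a (n - 2 * j - 2)) := by
    refine natCard_isoFrames h _ k fun j hj f hf => ?_
    rw [natCard_frameExt hF (by omega) hf, Cfsg.Agent.Lib.Classical.natCard_hermForm_zero hF,
      Nat.add_sub_cancel]
    congr 1
    obtain ⟨r, hr⟩ : ∃ r, n - 2 * j = r + 2 := ⟨n - 2 * j - 2, by omega⟩
    rw [hr, show r + 2 - 1 = r + 1 by omega, show r + 2 - 2 = r by omega]
    simp only [a]
    rcases Nat.even_or_odd r with he | ho
    · have h2 : ¬ Even (r + 1) := by rw [Nat.even_add_one, not_not]; exact he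
      have h3 : Even (r + 2) := by rw [Nat.even_add]; simp [he]
      rw [if_pos h3, if_neg h2, if_pos he]
    · have h1 : ¬ Even r := Nat.not_even_iff_odd.2 ho
      have h3 : ¬ Even (r + 2) := by rw [Nat.even_add]; simp [h1]
      rw [if_neg h3, if_pos ho.add_one, if_neg h1]
  rw [hcount, Cfsg.Agent.Lib.Classical.natCard_GU hF, hF] at hmain
  have hpos : ∀ j ∈ Finset.range k, 0 < q ^ (2 * j) * (a (n - 2 * j - 1) * a (n - 2 * j - 2)) := fun j _ => by
    have ha : ∀ i, 0 < a i := fun i => by
      simp only [a]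
      split_ifs
      · omega
      · exact Nat.sub_pos_of_lt (Nat.one_lt_pow i.succ_ne_zero (by omega))
    exact Nat.mul_pos (pow_pos (by omega) _) (Nat.mul_pos (ha _) (ha _))
  refine Nat.eq_of_mul_eq_mul_right (Finset.prod_pos hpos) (hmain.trans ?_)
  have hsplit : ∀ l, 2 * l ≤ n → ∏ i ∈ Finset.range n, a i
      = (∏ i ∈ Finset.range (n - 2 * l), a i) * ∏ j ∈ Finset.range l, (a (n - 2 * j - 1) * a (n - 2 * j - 2)) := by
    intro l
    induction l with
    | zero => simp
    | succ l ih =>
      intro hl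
      rw [ih (by omega), Finset.prod_range_succ (n := l),
        show n - 2 * l = (n - 2 * (l + 1)) + 1 + 1 by omega, Finset.prod_range_succ, Finset.prod_range_succ,
        show n - 2 * (l + 1) + 1 + 1 - 1 = n - 2 * (l + 1) + 1 by omega,
        show n - 2 * (l + 1) + 1 + 1 - 2 = n - 2 * (l + 1) by omega]
      ring
  show q ^ (n * (n - 1) / 2) * (∏ i ∈ Finset.range n, a i) * _
    = _ * (_ * ∏ i ∈ Finset.range (n - 2 * k), a i) * _
  rw [hsplit k hk, Finset.prod_mul_distrib (f := fun j => q ^ (2 * j)), Finset.prod_pow_eq_pow_sum,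
    ← Finset.mul_sum]
  have hexp : n * (n - 1) / 2
      = k * (2 * n - 3 * k) + (n - 2 * k) * ((n - 2 * k) - 1) / 2 + 2 * ∑ j ∈ Finset.range k, j := by
    obtain ⟨r, rfl⟩ : ∃ r, n = 2 * k + r := ⟨n - 2 * k, by omega⟩
    rw [Nat.add_sub_cancel_left, show 2 * (2 * k + r) - 3 * k = k + 2 * r by omega]
    have hs : (∑ j ∈ Finset.range k, j) * 2 = k * (k - 1) := Finset.sum_range_id_mul_two k
    have hr2 : Even (r * (r - 1)) := Nat.even_mul_pred_self r
    obtain ⟨c, hc⟩ := hr2
    have key : (2 * k + r) * (2 * k + r - 1) = 2 * (k * (k + 2 * r)) + r * (r - 1) + 2 * (k * (k - 1)) := by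
      rcases k with _ | k
      · simp
      · rcases r with _ | r
        · simp only [Nat.add_sub_cancel, add_zero, mul_zero, Nat.zero_sub]
          rw [show 2 * (k + 1) - 1 = 2 * k + 1 by omega]; ring
        · simp only [Nat.add_sub_cancel]
          rw [show 2 * (k + 1) + (r + 1) - 1 = 2 * k + r + 2 by omega]; ring
    rw [key, hc]
    omega
  rw [hexp]
  simp only [pow_add]
  ring

/-- Maximal parabolics of SU_n(q): if W is a k-dimensional subspace of F^n (n ≥ 1, |F| = q²) on which the Hermitian form vanishes, then (q + 1) times the order of its stabiliser in SU_n(q) equals q^(k(2n−3k)) · |GL_k(q²)| · |GU_(n−2k)(q)|, where |GU_m(q)| = q^(m(m−1)/2) Π_(i=1..m) (q^i − (−1)^i). -/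
theorem result {F : Type*} [Field F] [Fintype F] {q : ℕ} (hF : Fintype.card F = q ^ 2) (n k : ℕ) (hn : 1 ≤ n) (hk : 2 * k ≤ n) (W : Submodule F (Fin n → F)) (hWk : Module.finrank F W = k) (hW : ∀ u ∈ W, ∀ v ∈ W, Cfsg.hermForm n F q u v = 0) : (q + 1) * Nat.card ↥((Cfsg.stabilizing (Cfsg.slToMat n F) (W : Set (Fin n → F))).subgroupOf (Cfsg.SU n F q)) = q ^ (k * (2 * n - 3 * k)) * (∏ i : Fin k, ((q ^ 2) ^ k - (q ^ 2) ^ (i : ℕ))) * (q ^ ((n - 2 * k) * ((n - 2 * k) - 1) / 2) * ∏ i ∈ Finset.range (n - 2 * k), (if Even i then q ^ (i + 1) + 1 else q ^ (i + 1) - 1)) := by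
  classical
  open Cfsg.Agent.Lib.Forms Cfsg.Agent.Lib.Classical in
  have hq := Cfsg.Agent.Lib.Forms.two_le_of_card_sq hF
  have hG := gu_stab_card hF n k hk W hWk hW
  rw [← hG]
  set P := (Cfsg.stabilizing (Cfsg.glToMat (Fin n) F) (W : Set (Fin n → F))).subgroupOf (Cfsg.GU n F q)
  set Q := (Cfsg.stabilizing (Cfsg.slToMat n F) (W : Set (Fin n → F))).subgroupOf (Cfsg.SU n F q)
  let φ : P →* Fˣ := (Cfsg.Agent.Lib.Classical.guDet n F q).comp P.subtype
  have hker : Nat.card Q = Nat.card φ.ker := Nat.card_congr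
    { toFun := fun g => ⟨⟨⟨Matrix.SpecialLinearGroup.toGL g.1.1, g.1.2⟩, g.2⟩, Units.ext g.1.1.2⟩
      invFun := fun g => ⟨⟨⟨(g.1.1.1 : Matrix (Fin n) (Fin n) F), congrArg Units.val g.2⟩, g.1.1.2⟩, g.1.2⟩
      left_inv := fun _ => rfl
      right_inv := fun g => Subtype.ext (Subtype.ext (Subtype.ext (Units.ext rfl))) }
  have hrange : Nat.card φ.range = q + 1 := by
    refine le_antisymm ?_ ?_
    · rw [← Cfsg.Agent.Lib.Classical.natCard_range_guDet hF n hn]
      exact Subgroup.card_le_of_le (by rintro x ⟨g, rfl⟩; exact ⟨g.1, rfl⟩)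
    · rcases Nat.eq_zero_or_pos k with hk0 | hkpos
      · rw [← Cfsg.Agent.Lib.Classical.natCard_range_guDet hF n hn]
        refine Subgroup.card_le_of_le ?_
        rintro x ⟨g, rfl⟩
        refine ⟨⟨g, ?_⟩, rfl⟩
        have hbot : W = ⊥ := Submodule.finrank_eq_zero.1 (hWk.trans hk0)
        rw [Subgroup.mem_subgroupOf, Cfsg.Agent.Lib.Forms.mem_stabilizing_submodule_iff]
        intro v hv
        rw [hbot, Submodule.mem_bot] at hv ⊢
        simp [hv]
      · have hne : W ≠ ⊥ := fun e => by rw [e, finrank_bot] at hWk; omega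
        obtain ⟨w, hwW, hw0⟩ := Submodule.exists_mem_ne_zero_of_ne_bot hne
        have h := Cfsg.Agent.Lib.Forms.hermSesq_goodForm (n := n) hF
        obtain ⟨a', -, -, ha'⟩ := h.exists_sep (H := ⊥) (x := w) (by simpa using hw0)
        obtain ⟨d, hd⟩ := h.trace a'
        rw [one_mul] at hd
        set B := Cfsg.Agent.Lib.Forms.hermSesq hF n with hBdef
        have hww : B w w = 0 := by rw [hBdef, Cfsg.Agent.Lib.Forms.hermSesq_apply]; exact hW w hwW w hwW
        have hwa' : B w a' = 1 := by rw [h.herm a' w, ha', map_one, mul_one]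
        set a := a' + d • w with ha
        have hwa : B w a = 1 := by rw [ha, map_add, map_smul, hww, hwa']; simp
        have haw : B a w = 1 := by rw [h.herm w a, hwa]; simp
        have haa : B a a = 0 := by
          simp only [ha, map_add, LinearMap.add_apply, map_smulₛₗ, LinearMap.smul_apply, map_smul,
            smul_eq_mul, RingHom.id_apply, hww, hwa', ha']
          linear_combination hd
        let ψ : Fˣ →* Fˣ :=
          { toFun := fun x => x * (Units.map (Cfsg.Agent.Lib.Forms.qPowHom hF).toMonoidHom x)⁻¹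
            map_one' := by simp
            map_mul' := fun x y => by rw [map_mul, mul_inv, mul_mul_mul_comm] }
        have hψ : ψ.range ≤ φ.range := by
          rintro x ⟨l, rfl⟩
          let p : F := (l : F) - 1
          let r : F := ((Cfsg.Agent.Lib.Forms.qPowHom hF (l : F)))⁻¹ - 1
          let M : Matrix (Fin n) (Fin n) F :=
            1 + Matrix.vecMulVec (p • w) (Cfsg.Agent.Lib.Forms.conjVec q a)
              + Matrix.vecMulVec (r • a) (Cfsg.Agent.Lib.Forms.conjVec q w)
          have hl0 : Cfsg.Agent.Lib.Forms.qPowHom hF (l : F) ≠ 0 := (map_ne_zero _).2 l.ne_zero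
          have hM : ∀ x, M.mulVec x = x + (p * B a x) • w + (r * B w x) • a := fun x => by
            simp only [M, Matrix.add_mulVec, Matrix.one_mulVec, Matrix.vecMulVec_mulVec,
              Cfsg.Agent.Lib.Forms.conjVec_dotProduct, hBdef, Cfsg.Agent.Lib.Forms.hermSesq_apply]
            funext i
            simp only [Pi.add_apply, Pi.smul_apply, op_smul_eq_smul, smul_eq_mul]
            ring
          have hdet : M.det = (l : F) * (Cfsg.Agent.Lib.Forms.qPowHom hF (l : F))⁻¹ := by
            simp only [M, Cfsg.Agent.Lib.Forms.det_one_add_two, dotProduct_smul,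
              Cfsg.Agent.Lib.Forms.conjVec_dotProduct, smul_eq_mul]
            simp only [hBdef, Cfsg.Agent.Lib.Forms.hermSesq_apply] at hww hwa haw haa
            rw [hww, hwa, haw, haa]
            simp only [p, r]
            ring
          let g : Matrix.GeneralLinearGroup (Fin n) F :=
            Matrix.GeneralLinearGroup.mkOfDetNeZero M (by rw [hdet]; exact mul_ne_zero l.ne_zero (inv_ne_zero hl0))
          have hgGU : g ∈ Cfsg.GU n F q := by
            refine Cfsg.Agent.Lib.Forms.mem_preserving_iff.2 fun u v => ?_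
            have := h.pairScaling_preserves (w := w) (a := a) (k := (l : F))
              (l := (Cfsg.Agent.Lib.Forms.qPowHom hF (l : F))⁻¹) (mul_inv_cancel₀ hl0) hww haa hwa v u
            simp only [Cfsg.Agent.Lib.Forms.pairScaling_apply, mul_one] at this
            show Cfsg.hermForm n F q (M.mulVec u) (M.mulVec v) = _
            rw [hM, hM]
            exact this
          refine ⟨⟨⟨g, hgGU⟩, ?_⟩, Units.ext ?_⟩
          · rw [Subgroup.mem_subgroupOf, Cfsg.Agent.Lib.Forms.mem_stabilizing_submodule_iff]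
            intro v hv
            show M.mulVec v ∈ W
            rw [hM, show B w v = 0 by rw [hBdef, Cfsg.Agent.Lib.Forms.hermSesq_apply]; exact hW v hv w hwW]
            simpa using W.add_mem hv (W.smul_mem _ hwW)
          · show M.det = _
            rw [hdet]
            simp [ψ]
        refine le_trans ?_ (Subgroup.card_le_of_le hψ)
        have h1 : Nat.card ψ.ker ≤ q - 1 := by
          rw [Nat.card_eq_fintype_card, Fintype.card_subtype]
          refine le_trans (Finset.card_le_card ?_) (IsCyclic.card_pow_eq_one_le (α := Fˣ) (n := q - 1) (by omega))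
          intro x hx
          simp only [Finset.mem_filter, Finset.mem_univ, true_and, MonoidHom.mem_ker] at hx ⊢
          have h2 : x = x ^ q := by
            have := congrArg Units.val (mul_inv_eq_one.1 hx)
            exact Units.ext (by simpa using this)
          refine mul_left_cancel (a := x) ?_
          rw [← pow_succ', Nat.sub_add_cancel (by omega), ← h2, mul_one]
        have h2 : Nat.card ψ.range * Nat.card ψ.ker = q ^ 2 - 1 := by
          rw [← Subgroup.index_ker, Subgroup.index_mul_card, Nat.card_units, Nat.card_eq_fintype_card, hF]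
        rw [show q ^ 2 - 1 = (q + 1) * (q - 1) by simpa using Nat.sq_sub_sq q 1] at h2
        by_contra hlt
        have : Nat.card ψ.range * Nat.card ψ.ker < (q + 1) * (q - 1) :=
          Nat.mul_lt_mul_of_lt_of_le (by omega) h1 (by omega)
        omega
  rw [hker, ← hrange, ← Subgroup.index_ker, Subgroup.index_mul_card]

end Cfsg.Agent.S0782
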