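import Cfsg.Statements.S0572
import Mathlib
set_option autoImplicit false
open scoped commutatorElement
open Cfsg

namespace Cfsg.Agent.S0572

/-- The key calculation in the theorem of Itô. -/
theorem ito_aux {G : Type*} [Group G] {A B : Subgroup G}
    (hAB : ∀ g : G, ∃ a ∈ A, ∃ b ∈ B, g = a * b)
    (hcA : ∀ a ∈ A, ∀ a' ∈ A, a * a' = a' * a) (hcB : ∀ b ∈ B, ∀ b' ∈ B, b * b' = b' * b)
    {a x b y : G} (ha : a ∈ A) (hx : x ∈ A) (hb : b ∈ B) (hy : y ∈ B) :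
    Commute ⁅x⁻¹, y⁻¹⁆ ⁅a, b⁆ := by
  have hBA : ∀ g : G, ∃ b ∈ B, ∃ a ∈ A, g = b * a := by
    intro g
    obtain ⟨u, hu, v, hv, huv⟩ := hAB g⁻¹
    exact ⟨v⁻¹, inv_mem hv, u⁻¹, inv_mem hu, by rw [← mul_inv_rev, ← huv, inv_inv]⟩
  obtain ⟨b2, hb2, a2, ha2, h2⟩ : ∃ b2 ∈ B, ∃ a2 ∈ A, x * b * x⁻¹ = b2 * a2 := hBA _
  obtain ⟨a3, ha3, b3, hb3, h3⟩ : ∃ a3 ∈ A, ∃ b3 ∈ B, y * a * y⁻¹ = a3 * b3 := hAB _
  -- conjugation by `x y` and by `y x` agree on `⁅a, b⁆`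
  have hxa : x * a * x⁻¹ = a := by rw [hcA x hx a ha]; group
  have hyb : y * b * y⁻¹ = b := by rw [hcB y hy b hb]; group
  have hyb2 : y * b2 * y⁻¹ = b2 := by rw [hcB y hy b2 hb2]; group
  have hxa3 : x * a3 * x⁻¹ = a3 := by rw [hcA x hx a3 ha3]; group
  have conjc : ∀ g u v : G, g * ⁅u, v⁆ * g⁻¹ = ⁅g * u * g⁻¹, g * v * g⁻¹⁆ := by
    intro g u v; rw [commutatorElement_def, commutatorElement_def]; group
  have redA : ∀ u ∈ A, ∀ v ∈ B, ∀ w ∈ A, ⁅u, v * w⁆ = ⁅u, v⁆ := by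
    intro u hu v hv w hw
    have huw : u * w * u⁻¹ = w := by rw [hcA u hu w hw]; group
    rw [commutatorElement_def, commutatorElement_def]
    calc u * (v * w) * u⁻¹ * (v * w)⁻¹
        = u * v * u⁻¹ * (u * w * u⁻¹) * w⁻¹ * v⁻¹ := by group
      _ = u * v * u⁻¹ * v⁻¹ := by rw [huw]; group
  have redB : ∀ u ∈ A, ∀ v ∈ B, ∀ w ∈ B, ⁅u * w, v⁆ = ⁅u, v⁆ := by
    intro u hu v hv w hw
    have hwv : w * v * w⁻¹ = v := by rw [hcB w hw v hv]; group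
    rw [commutatorElement_def, commutatorElement_def]
    calc u * w * v * (u * w)⁻¹ * v⁻¹ = u * (w * v * w⁻¹) * u⁻¹ * v⁻¹ := by group
      _ = u * v * u⁻¹ * v⁻¹ := by rw [hwv]
  have e1 : (y * x) * ⁅a, b⁆ * (y * x)⁻¹ = ⁅a3, b2⁆ := by
    calc (y * x) * ⁅a, b⁆ * (y * x)⁻¹ = y * (x * ⁅a, b⁆ * x⁻¹) * y⁻¹ := by group
      _ = y * ⁅a, b2⁆ * y⁻¹ := by rw [conjc, hxa, h2, redA a ha b2 hb2 a2 ha2]
      _ = ⁅a3, b2⁆ := by rw [conjc, hyb2, h3, redB a3 ha3 b2 hb2 b3 hb3]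
  have e2 : (x * y) * ⁅a, b⁆ * (x * y)⁻¹ = ⁅a3, b2⁆ := by
    calc (x * y) * ⁅a, b⁆ * (x * y)⁻¹ = x * (y * ⁅a, b⁆ * y⁻¹) * x⁻¹ := by group
      _ = x * ⁅a3, b⁆ * x⁻¹ := by rw [conjc, hyb, h3, redB a3 ha3 b hb b3 hb3]
      _ = ⁅a3, b2⁆ := by rw [conjc, hxa3, h2, redA a3 ha3 b2 hb2 a2 ha2]
  -- hence `(y x)⁻¹ (x y)` centralizes every such commutator
  have hcomm : ∀ u ∈ A, ∀ v ∈ B, ((y * x) * ⁅u, v⁆ * (y * x)⁻¹ = (x * y) * ⁅u, v⁆ * (x * y)⁻¹) →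
      Commute ((y * x)⁻¹ * (x * y)) ⁅u, v⁆ := by
    intro u _ v _ h
    show (y * x)⁻¹ * (x * y) * ⁅u, v⁆ = ⁅u, v⁆ * ((y * x)⁻¹ * (x * y))
    calc (y * x)⁻¹ * (x * y) * ⁅u, v⁆
        = (y * x)⁻¹ * ((x * y) * ⁅u, v⁆ * (x * y)⁻¹) * (x * y) := by group
      _ = ⁅u, v⁆ * ((y * x)⁻¹ * (x * y)) := by rw [← h]; group
  have h0 := hcomm a ha b hb (e1.trans e2.symm)
  have : (y * x)⁻¹ * (x * y) = ⁅x⁻¹, y⁻¹⁆ := by rw [commutatorElement_def]; group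
  rw [this] at h0
  exact h0

/-- Commutators `⁅a, b⁆` with `a ∈ A`, `b ∈ B` commute pairwise. -/
theorem ito_commute {G : Type*} [Group G] {A B : Subgroup G}
    (hAB : ∀ g : G, ∃ a ∈ A, ∃ b ∈ B, g = a * b)
    (hcA : ∀ a ∈ A, ∀ a' ∈ A, a * a' = a' * a) (hcB : ∀ b ∈ B, ∀ b' ∈ B, b * b' = b' * b)
    {a x b y : G} (ha : a ∈ A) (hx : x ∈ A) (hb : b ∈ B) (hy : y ∈ B) :
    Commute ⁅a, b⁆ ⁅x, y⁆ := by
  have h := ito_aux hAB hcA hcB ha (inv_mem hx) hb (inv_mem hy)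
  rw [inv_inv, inv_inv] at h
  exact h.symm

/-- Itô's Theorem: if a group G is the product AB of two abelian subgroups, then the commutator subgroup of G is abelian, i.e. the second term of the derived series is trivial. -/
theorem result {G : Type*} [Group G] (A B : Subgroup G) [IsMulCommutative A] [IsMulCommutative B] (hAB : ∀ g : G, ∃ a ∈ A, ∃ b ∈ B, g = a * b) : derivedSeries G 2 = ⊥ := by
  have hcA : ∀ a ∈ A, ∀ a' ∈ A, a * a' = a' * a := fun a ha a' ha' =>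
    setLike_mul_comm ha ha'
  have hcB : ∀ b ∈ B, ∀ b' ∈ B, b * b' = b' * b := fun b hb b' hb' =>
    setLike_mul_comm hb hb'
  set N : Subgroup G := ⁅A, B⁆ with hN
  -- `N` is normal
  have hnorm : N.Normal := by
    rw [← Subgroup.normalizer_eq_top_iff, eq_top_iff]
    intro g _
    obtain ⟨a, ha, b, hb, rfl⟩ := hAB g
    exact mul_mem (Subgroup.normalizer_commutator_ge_left A B ha)
      (Subgroup.normalizer_commutator_ge_right A B hb)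
  -- `G' ≤ N`
  have hle : derivedSeries G 1 ≤ N := by
    rw [derivedSeries_one, ← Subgroup.Normal.quotient_commutative_iff_commutator_le]
    refine ⟨⟨?_⟩⟩
    have hAB' : ∀ a ∈ A, ∀ b ∈ B, ((a : G) : G ⧸ N) * (b : G) = (b : G) * (a : G) := by
      intro a ha b hb
      rw [← QuotientGroup.mk_mul, ← QuotientGroup.mk_mul, QuotientGroup.eq]
      have h : (a * b)⁻¹ * (b * a) = ⁅b⁻¹, a⁻¹⁆ := by rw [commutatorElement_def]; group
      rw [h, hN, Subgroup.commutator_comm]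
      exact Subgroup.commutator_mem_commutator (inv_mem hb) (inv_mem ha)
    rintro ⟨x⟩ ⟨y⟩
    obtain ⟨a, ha, b, hb, rfl⟩ := hAB x
    obtain ⟨a', ha', b', hb', rfl⟩ := hAB y
    change ((a * b : G) : G ⧸ N) * ((a' * b' : G) : G ⧸ N) = ((a' * b' : G) : G ⧸ N) * ((a * b : G) : G ⧸ N)
    have e1 : (a : G ⧸ N) * a' = a' * a := by rw [← QuotientGroup.mk_mul, hcA a ha a' ha']; rfl
    have e2 : (b : G ⧸ N) * b' = b' * b := by rw [← QuotientGroup.mk_mul, hcB b hb b' hb']; rfl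
    simp only [QuotientGroup.mk_mul]
    calc (a : G ⧸ N) * b * (a' * b') = a * ((b : G ⧸ N) * a') * b' := by group
      _ = a * (a' * b) * b' := by rw [hAB' a' ha' b hb]
      _ = ((a : G ⧸ N) * a') * (b * b') := by group
      _ = (a' * a) * (b' * b) := by rw [e1, e2]
      _ = a' * ((a : G ⧸ N) * b') * b := by group
      _ = a' * (b' * a) * b := by rw [hAB' a ha b' hb']
      _ = a' * b' * (a * b) := by group
  -- the generators of `N` commute pairwise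
  have hAb : ⁅A, B⁆ ≤ Subgroup.centralizer (⁅A, B⁆ : Subgroup G) := by
    rw [Subgroup.le_centralizer_iff]
    rw [Subgroup.commutator_le]
    intro a ha b hb
    rw [Subgroup.mem_centralizer_iff]
    have key : ∀ a1 ∈ A, ∀ b1 ∈ B, Commute ⁅a, b⁆ ⁅a1, b1⁆ := fun a1 ha1 b1 hb1 =>
      ito_commute hAB hcA hcB ha ha1 hb hb1
    have : ⁅A, B⁆ ≤ Subgroup.centralizer {⁅a, b⁆} := by
      rw [Subgroup.commutator_le]
      intro a1 ha1 b1 hb1
      rw [Subgroup.mem_centralizer_iff]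
      intro z hz
      rw [Set.mem_singleton_iff.1 hz]
      exact (key a1 ha1 b1 hb1).eq
    intro z hz
    exact ((Subgroup.mem_centralizer_iff.1 (this hz)) _ rfl).symm
  rw [derivedSeries_succ, eq_bot_iff]
  refine (Subgroup.commutator_mono hle hle).trans ?_
  rw [le_bot_iff, Subgroup.commutator_eq_bot_iff_le_centralizer]
  exact hAb

end Cfsg.Agent.S0572
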