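import Mathlib
import Cfsg.Statements.S5442
import Cfsg.Agent.Lib.FischerType.Pair
import Cfsg.Agent.Lib.FischerType.Alt6
-- import your own Cfsg.Agent.* helpers here

set_option autoImplicit false
open Cfsg

namespace Cfsg.Agent.S5442

/-- Let G be a finite group of large Fischer type at the involution z: the generalized Fitting subgroup Q of H = C_G(z) is extraspecial of order 2^13, H has normal subgroups Q ≤ H₁ ≤ H₂ with H₁/Q of order 3, H₂/H₁ the projective special unitary group of dimension 4 over the field with nine elements and H₂ of index 2 in H, and some conjugate of z other than z lies in Q. Let s = g z g⁻¹ be a conjugate of z lying in Q and different from z. Then the intersection of Q and g Q g⁻¹ (as subgroups of G) is elementary abelian of order 2^7; and in H/Q, writing X for the image of the centralizer of s in H and E for the image of the intersection of g Q g⁻¹ with H, E is a normal subgroup of X, elementary abelian of order 32, with X/E isomorphic to the alternating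 group of degree 6. -/
theorem result {G : Type*} [Group G] [Finite G] (z : G) (Q : Subgroup (Subgroup.centralizer ({z} : Set G))) [Q.Normal] (hF : Cfsg.IsOfLargeFischerTypeAt z Q) (s : G) (hsQ : ∃ hsc : s ∈ Subgroup.centralizer ({z} : Set G), (⟨s, hsc⟩ : Subgroup.centralizer ({z} : Set G)) ∈ Q) (hs : IsConj z s) (hs1 : s ≠ z) (g : G) (hg : g * z * g⁻¹ = s) (X E : Subgroup ((Subgroup.centralizer ({z} : Set G)) ⧸ Q)) (hX : X = ((Subgroup.centralizer ({z} : Set G) ⊓ Subgroup.centralizer ({s} : Set G)).subgroupOf (Subgroup.centralizer ({z} : Set G))).map (QuotientGroup.mk' Q)) (hE : E = ((((Q.map (Subgroup.centralizer ({z} : Set G)).subtype)).map (MulAut.conj g).toMonoidHom ⊓ Subgroup.centralizer ({z} : Set G)).subgroupOf (Subgroup.centralizer ({z} : Set G))).map (QuotientGroup.mk' Q)) : Cfsg.IsElementaryAbelian 2 ((Q.map (Subgroup.centralizer ({z} : Set G)).subtype) ⊓ ((Q.map (Subgroup.centralizer ({z} : Set G)).subtype)).map (MulAut.conj g).toMonoidHom) ∧ Nat.card ↥((Q.map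 (Subgroup.centralizer ({z} : Set G)).subtype) ⊓ ((Q.map (Subgroup.centralizer ({z} : Set G)).subtype)).map (MulAut.conj g).toMonoidHom) = 2 ^ 7 ∧ E ≤ X ∧ (∀ x ∈ X, ∀ y ∈ E, x * y * x⁻¹ ∈ E) ∧ Cfsg.IsElementaryAbelian 2 E ∧ Nat.card E = 32 ∧ ∃ _ : (E.subgroupOf X).Normal, Nonempty (↥X ⧸ E.subgroupOf X ≃* alternatingGroup (Fin 6)) := by
  classical
  obtain ⟨D⟩ := Lib.FischerType.exists_fdata hF
  haveI : Finite (Additive (Abelianization Q)) := Finite.of_equiv _ D.coord.Ψ.toEquiv
  obtain ⟨hsc, hsm⟩ := hsQ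
  let a : Q := ⟨⟨s, hsc⟩, hsm⟩
  have S := D.pair a hg hs1
  obtain ⟨has, l₁, hl₁⟩ := D.conj_large (b := a) hs hs1
  obtain ⟨k, hk2, hsmall, hlarge, -, horb⟩ := D.orbits
  obtain ⟨k', hk'2, hk'⟩ : ∃ k' : Fin 5, 2 ≤ k' ∧ k' ≠ k := by
    by_cases h : k = 2
    · exact ⟨3, by decide, by rw [h]; decide⟩
    · exact ⟨2, le_rfl, fun e => h e.symm⟩
  have hfull : ∀ m : Fin 5, 2 ≤ m → ∀ i, Lib.FischerType.repW m i ≠ 0 := by decide +kernel
  obtain ⟨g', hg'⟩ := (hlarge (Lib.FischerType.repW k') (Lib.FischerType.rep_sing k').1).2 (by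
    rw [(Lib.FischerType.rep_sing k').2]
    rintro (e | e)
    · subst e; exact absurd hk'2 (by decide)
    · exact hk' e)
  obtain ⟨φ, hφi, hφx, -⟩ := D.coord.exists_alt6 (hfull k' hk'2)
  have hmove : (l₁ * g'⁻¹) • D.coord.Ψ (Lib.FischerType.repW k') = Lib.FischerType.vcl Q a := by
    rw [← hg', mul_smul, inv_smul_smul, hl₁]
  -- `X` is the stabiliser of the class of `s`
  have hXst : X = MulAction.stabilizer (Subgroup.centralizer ({z} : Set G) ⧸ Q) (Lib.FischerType.vcl Q a) := by
    ext l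
    rw [MulAction.mem_stabilizer_iff, hX]
    constructor
    · rintro ⟨c, ⟨-, hc⟩, rfl⟩
      rw [QuotientGroup.mk'_apply, Lib.FischerType.smul_vcl]
      exact congrArg (Lib.FischerType.vcl Q) (Subtype.ext (Subtype.ext
        (mul_inv_eq_iff_eq_mul.2 (Subgroup.mem_centralizer_singleton_iff.1 hc))))
    · intro hl
      obtain ⟨c, rfl, hc⟩ := D.exists_lift S hl
      exact ⟨c, ⟨c.2, Subgroup.mem_centralizer_singleton_iff.2 (mul_inv_eq_iff_eq_mul.1 hc)⟩, rfl⟩
  have hE' : E = Lib.FischerType.eimg Q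
      ((Q.map (Subgroup.centralizer ({z} : Set G)).subtype).map (MulAut.conj g).toMonoidHom) := hE
  have hEX : E ≤ X := fun e he => by
    rw [hXst, MulAction.mem_stabilizer_iff]
    exact Lib.FischerType.FData.eimg_fix S (hE' ▸ he)
  have hnorm : ∀ x ∈ X, ∀ y ∈ E, x * y * x⁻¹ ∈ E := fun x hx y hy => by
    rw [hXst, MulAction.mem_stabilizer_iff] at hx
    rw [hE'] at hy ⊢
    exact D.eimg_norm S hx hy
  have hEinv : ∀ y ∈ E, y * y = 1 := fun y hy => Lib.FischerType.FData.eimg_inv S (hE' ▸ hy)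
  have hXcard : Nat.card X = 11520 := by
    have h := (MulAction.stabilizer (Subgroup.centralizer ({z} : Set G) ⧸ Q) (Lib.FischerType.vcl Q a)).card_mul_index
    have hi : (MulAction.stabilizer (Subgroup.centralizer ({z} : Set G) ⧸ Q) (Lib.FischerType.vcl Q a)).index = 1701 := by
      rw [← horb, ← (MulAction.orbit_eq_iff.2 ⟨l₁, hl₁⟩ : MulAction.orbit (Subgroup.centralizer ({z} : Set G) ⧸ Q)
          (Lib.FischerType.vcl Q a) = MulAction.orbit (Subgroup.centralizer ({z} : Set G) ⧸ Q)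
          (D.coord.Ψ (Lib.FischerType.repW 1))),
        Nat.card_congr (MulAction.orbitEquivQuotientStabilizer _ (Lib.FischerType.vcl Q a))]
      rfl
    rw [hi, D.card_L] at h
    rw [hXst]
    omega
  haveI hnor : (E.subgroupOf X).Normal := ⟨fun y hy x => hnorm x x.2 y hy⟩
  -- the alternating group
  let f : alternatingGroup (Fin 6) →* X :=
    ((MulAut.conj (l₁ * g'⁻¹)).toMonoidHom.comp φ).codRestrict X fun σ => by
      rw [hXst, MulAction.mem_stabilizer_iff]
      show ((l₁ * g'⁻¹) * φ σ * (l₁ * g'⁻¹)⁻¹) • _ = _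
      rw [← hmove, mul_smul, mul_smul, inv_smul_smul, hφx]
  have hf : Function.Injective f := fun σ τ h => hφi ((MulAut.conj (l₁ * g'⁻¹)).injective (congrArg Subtype.val h))
  haveI := Lib.FischerType.isSimpleGroup_alt6
  let F : alternatingGroup (Fin 6) →* ↥X ⧸ E.subgroupOf X := (QuotientGroup.mk' _).comp f
  have hFi : Function.Injective F := by
    rw [← MonoidHom.ker_eq_bot_iff]
    refine (Subgroup.Normal.eq_bot_or_eq_top F.normal_ker).resolve_right fun e => ?_
    have hsq : ∀ σ : alternatingGroup (Fin 6), σ * σ = 1 := fun σ => hf (by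
      have hmem : f σ ∈ E.subgroupOf X := (QuotientGroup.eq_one_iff _).1 (MonoidHom.mem_ker.1 (e ▸ Subgroup.mem_top σ))
      rw [map_mul, map_one]
      exact Subtype.ext (hEinv _ hmem))
    obtain ⟨σ, hσ⟩ : ∃ σ : alternatingGroup (Fin 6), σ * σ ≠ 1 :=
      ⟨⟨Equiv.swap 0 1 * Equiv.swap 1 2, Equiv.Perm.mem_alternatingGroup.2 (by decide)⟩,
        fun h => absurd (congrArg (fun p : alternatingGroup (Fin 6) => p.1 0) h) (by decide +kernel)⟩
    exact hσ (hsq σ)
  have hq : Nat.card (↥X ⧸ E.subgroupOf X) * Nat.card E = 11520 := by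
    rw [← hXcard, Subgroup.card_eq_card_quotient_mul_card_subgroup (E.subgroupOf X),
      Nat.card_congr (Subgroup.subgroupOfEquivOfLe hEX).toEquiv]
  have h360 := Nat.card_le_card_of_injective F hFi
  rw [Lib.FischerType.card_alt6] at h360
  have h32 := D.thirtytwo_le_eimg S (D.card_conj g)
  rw [← hE'] at h32
  have hle : Nat.card E ≤ 32 := by nlinarith
  have hE32 : Nat.card E = 32 := le_antisymm hle h32
  have hbij : Function.Bijective F := (Nat.bijective_iff_injective_and_card F).2 ⟨hFi, by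
    rw [Lib.FischerType.card_alt6]; rw [hE32] at hq; omega⟩
  have hI := D.card_eimg S (D.card_conj g)
  rw [← hE', hE32] at hI
  have hI' : (2 : ℕ) ^ 7 * 32 = 2 ^ 12 := by norm_num
  refine ⟨⟨IsMulCommutative.of_comm fun x y => Subtype.ext (S.inf_comm_eq x.2 y.2),
      fun x hx => by rw [pow_two]; exact S.inf_sq hx⟩, by omega, hEX, hnorm,
    ⟨IsMulCommutative.of_comm fun x y => Subtype.ext ?_, fun x hx => by rw [pow_two]; exact hEinv x hx⟩,
    hE32, hnor, ⟨(MulEquiv.ofBijective F hbij).symm⟩⟩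
  have hxy := hEinv _ (mul_mem x.2 y.2)
  calc (x : Subgroup.centralizer ({z} : Set G) ⧸ Q) * y = ((x : Subgroup.centralizer ({z} : Set G) ⧸ Q) * y)⁻¹ :=
        (inv_eq_of_mul_eq_one_right hxy).symm
    _ = y * x := by rw [mul_inv_rev, inv_eq_of_mul_eq_one_right (hEinv _ x.2), inv_eq_of_mul_eq_one_right (hEinv _ y.2)]

end Cfsg.Agent.S5442
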