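import Mathlib
import Cfsg.Statements.S5440
import Cfsg.Agent.Lib.FischerType.Involutions
-- import your own Cfsg.Agent.* helpers here

set_option autoImplicit false
open Cfsg

namespace Cfsg.Agent.S5440

/-- Let G be a finite group of large Fischer type at the involution z: the generalized Fitting subgroup Q of H = C_G(z) is extraspecial of order 2^13, H has normal subgroups Q ≤ H₁ ≤ H₂ with H₁/Q of order 3, H₂/H₁ the projective special unitary group of dimension 4 over the field with nine elements and H₂ of index 2 in H, and some conjugate of z other than z lies in Q. Then H has exactly two orbits, under conjugation, on the involutions of Q other than z. -/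
theorem result {G : Type*} [Group G] [Finite G] (z : G) (Q : Subgroup (Subgroup.centralizer ({z} : Set G))) [Q.Normal] (hF : Cfsg.IsOfLargeFischerTypeAt z Q) : ∃ s t : Subgroup.centralizer ({z} : Set G), s ∈ Q ∧ t ∈ Q ∧ orderOf s = 2 ∧ orderOf t = 2 ∧ (s : G) ≠ z ∧ (t : G) ≠ z ∧ (¬ ∃ h : Subgroup.centralizer ({z} : Set G), h * s * h⁻¹ = t) ∧ ∀ x : Subgroup.centralizer ({z} : Set G), x ∈ Q → orderOf x = 2 → (x : G) ≠ z → (∃ h : Subgroup.centralizer ({z} : Set G), h * s * h⁻¹ = x) ∨ ∃ h : Subgroup.centralizer ({z} : Set G), h * t * h⁻¹ = x := by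
  obtain ⟨D⟩ := Lib.FischerType.exists_fdata hF
  obtain ⟨k, hk2, hsmall, hlarge, -, -⟩ := D.orbits
  obtain ⟨s, hs, hs2, hsz⟩ := D.exists_of_sing (Lib.FischerType.rep_sing 0).1
  obtain ⟨t, ht, ht2, htz⟩ := D.exists_of_sing (Lib.FischerType.rep_sing 1).1
  have hss : Lib.FischerType.Sing (D.vec s) := hs ▸ (Lib.FischerType.rep_sing 0).1
  have hts : Lib.FischerType.Sing (D.vec t) := ht ▸ (Lib.FischerType.rep_sing 1).1
  refine ⟨s, t, s.2, t.2, hs2, ht2, hsz, htz, fun h => ?_, fun x hxQ hx2 hxz => ?_⟩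
  · obtain ⟨g, hg⟩ := (D.conj_iff hss).1 h
    rw [hs] at hg
    rcases (hsmall _ hts).1 ⟨g, hg⟩ with e | e
    · rw [ht, (Lib.FischerType.rep_sing 1).2] at e
      exact absurd e (by decide)
    · rw [ht, (Lib.FischerType.rep_sing 1).2] at e
      subst e
      exact absurd hk2 (by decide)
  · have hxs : Lib.FischerType.Sing (D.vec ⟨x, hxQ⟩) := (D.sing_vec_iff _).2 ⟨hx2, hxz⟩
    by_cases hb : Lib.FischerType.blk (D.vec ⟨x, hxQ⟩) = 0 ∨ Lib.FischerType.blk (D.vec ⟨x, hxQ⟩) = k
    · left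
      exact (D.conj_iff (b := ⟨x, hxQ⟩) hss).2 (by rw [hs]; exact (hsmall _ hxs).2 hb)
    · right
      exact (D.conj_iff (b := ⟨x, hxQ⟩) hts).2 (by rw [ht]; exact (hlarge _ hxs).2 hb)

end Cfsg.Agent.S5440
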