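import Cfsg.Statements.S2623
import Mathlib
import Cfsg.Agent.Lib.Dickson.Decomp
import Cfsg.Agent.Lib.Dickson.StdForms
import Cfsg.Agent.Lib.Dickson.SquareClass
import Cfsg.Agent.S0756
-- import your own Cfsg.Agent.* helpers here

set_option autoImplicit false
open Cfsg

namespace Cfsg.Agent.S2623

/-- Over a finite field of odd order, two quadratic forms on F^n with non-degenerate polar forms are isometric (related by an invertible linear change of variables) if and only if their discriminants (determinants of the Gram matrices of their polar forms) lie in the same square class. -/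
theorem result {F : Type*} [Field F] [Fintype F] (h2 : (2 : F) ≠ 0) {n : ℕ} (Q₁ Q₂ : QuadraticForm F (Fin n → F)) (h₁ : (QuadraticMap.polarBilin Q₁).Nondegenerate) (h₂ : (QuadraticMap.polarBilin Q₂).Nondegenerate) : (∃ g : (Fin n → F) ≃ₗ[F] (Fin n → F), ∀ v, Q₂ (g v) = Q₁ v) ↔ IsSquare ((Matrix.of (fun i j : Fin n => QuadraticMap.polar ⇑Q₁ (Pi.single i 1) (Pi.single j 1))).det * (Matrix.of (fun i j : Fin n => QuadraticMap.polar ⇑Q₂ (Pi.single i 1) (Pi.single j 1))).det) := by
  open Cfsg.Agent.Lib.StdForms in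
  classical
  have hch : ringChar F ≠ 2 := Cfsg.Agent.Lib.Decomp.two_ne_zero_ringChar h2
  have hgram : ∀ Q : QuadraticForm F (Fin n → F),
      Matrix.of (fun i j : Fin n => QuadraticMap.polar ⇑Q (Pi.single i 1) (Pi.single j 1))
        = gramMat (QuadraticMap.polar ⇑Q) (Pi.basisFun F (Fin n)) := fun Q => by
    ext i j; simp [gramMat]
  rw [hgram, hgram]
  constructor
  · rintro ⟨g, hg⟩
    obtain ⟨d, hd, he⟩ := gramMat_det_basis (QuadraticMap.polar ⇑Q₂) (QuadraticMap.polarBilin Q₂)
      (fun u v => (QuadraticMap.polarBilin_apply_apply _ _ _).symm) (Pi.basisFun F (Fin n))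
      ((Pi.basisFun F (Fin n)).map g)
    have h12 : gramMat (QuadraticMap.polar ⇑Q₁) (Pi.basisFun F (Fin n))
        = gramMat (QuadraticMap.polar ⇑Q₂) ((Pi.basisFun F (Fin n)).map g) := by
      ext i j; simp [gramMat, QuadraticMap.polar, ← map_add, hg]
    rw [h12, he]
    exact ⟨d * (gramMat (QuadraticMap.polar ⇑Q₂) (Pi.basisFun F (Fin n))).det, by ring⟩
  intro hsq
  rcases n with _ | n
  · exact ⟨LinearEquiv.refl F _, fun v => by rw [Subsingleton.elim v 0, map_zero, map_zero, map_zero]⟩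
  obtain ⟨α, hα⟩ := FiniteField.exists_nonsquare hch
  have hα0 : α ≠ 0 := fun h => hα (h ▸ IsSquare.zero)
  have key : ∀ Q : QuadraticForm F (Fin (n + 1) → F), (QuadraticMap.polarBilin Q).Nondegenerate →
      ∃ (b : Module.Basis (Fin (n + 1)) F (Fin (n + 1) → F)) (d : F),
        (∀ i j, QuadraticMap.polar ⇑Q (b i) (b j) = if i = j then (if i = Fin.last n then d else 1) else 0) ∧
        (d = 1 ∨ d = α) ∧
        (IsSquare (gramMat (QuadraticMap.polar ⇑Q) (Pi.basisFun F (Fin (n + 1)))).det ↔ IsSquare d) := by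
    intro Q hQ
    obtain ⟨b, hb1, hb2, hb3⟩ := Cfsg.Agent.S0756.result h2 (QuadraticMap.polarBilin Q)
      ⟨fun x y => by simpa using QuadraticMap.polar_comm ⇑Q x y⟩ hQ (n := n) (by simp) α hα
    simp only [QuadraticMap.polarBilin_apply_apply] at hb1 hb2 hb3
    refine ⟨b, QuadraticMap.polar ⇑Q (b (Fin.last n)) (b (Fin.last n)), fun i j => ?_, hb3, ?_⟩
    · split_ifs with hij hi
      · subst hij; rw [hi]
      · subst hij; exact hb2 i hi
      · exact hb1 i j hij
    · obtain ⟨e, he0, he⟩ := gramMat_det_basis (QuadraticMap.polar ⇑Q) (QuadraticMap.polarBilin Q)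
        (fun u v => (QuadraticMap.polarBilin_apply_apply _ _ _).symm) (Pi.basisFun F (Fin (n + 1))) b
      have hdiag : gramMat (QuadraticMap.polar ⇑Q) b
          = Matrix.diagonal (fun i => QuadraticMap.polar ⇑Q (b i) (b i)) := by
        ext i j
        rcases eq_or_ne i j with rfl | hij
        · simp [gramMat]
        · simp [gramMat, hij, hb1 i j hij]
      rw [hdiag, Matrix.det_diagonal, Fin.prod_univ_castSucc,
        Finset.prod_eq_one (fun i _ => hb2 _ (Fin.castSucc_lt_last i).ne), one_mul] at he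
      rw [he, Cfsg.Agent.Lib.SquareClass.isSquare_sq_mul_iff he0]
  obtain ⟨b₁, d₁, hb₁, hd₁, hi₁⟩ := key Q₁ h₁
  obtain ⟨b₂, d₂, hb₂, hd₂, hi₂⟩ := key Q₂ h₂
  have hne : ∀ (Q : QuadraticForm F (Fin (n + 1) → F)), (QuadraticMap.polarBilin Q).Nondegenerate →
      (gramMat (QuadraticMap.polar ⇑Q) (Pi.basisFun F (Fin (n + 1)))).det ≠ 0 := by
    intro Q hQ
    have := (LinearMap.BilinForm.nondegenerate_iff_det_ne_zero (Pi.basisFun F (Fin (n + 1)))).1 hQ
    convert this using 2
    ext i j; simp [gramMat, LinearMap.BilinForm.toMatrix_apply]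
  rw [Cfsg.Agent.Lib.SquareClass.mul_isSquare_iff hch (hne _ h₁) (hne _ h₂), hi₁, hi₂] at hsq
  have hd : d₁ = d₂ := by
    rcases hd₁ with rfl | rfl <;> rcases hd₂ with rfl | rfl <;> simp_all [IsSquare.one]
  obtain ⟨g, hg⟩ := Cfsg.Agent.Lib.Decomp.exists_similarity h₁ Q₂ rfl b₁ (fun i => b₂ i) (c := 1) one_ne_zero
    (fun i => by
      have e1 := hb₁ i i
      have e2 := hb₂ i i
      rw [hd, ← e2, QuadraticMap.polar_self, QuadraticMap.polar_self] at e1
      rw [one_mul]
      exact (mul_left_cancel₀ h2 (by simpa [two_nsmul, two_mul] using e1)).symm)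
    (fun i j _ => by rw [hb₁, hb₂, hd, one_mul])
  exact ⟨g, fun v => by rw [hg, one_mul]⟩

end Cfsg.Agent.S2623
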