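import Cfsg.Agent.Lib.EvenWeight.Model
import Cfsg.Agent.Lib.EvenWeight.Transport
import Cfsg.Agent.Lib.Classical.Standard
import Cfsg.Statements.S0824

set_option autoImplicit false
open Cfsg

namespace Cfsg.Agent.S0824

open Cfsg.Agent.Lib

/-- A hyperbolic pair and an anisotropic pair among the even vectors of length 5. -/
def coords : EvenWeight.Coords ((Fin 1 ⊕ Fin 1) ⊕ Fin 2) 5 where
  b := Sum.elim (Sum.elim (fun _ => ![1, 1, 1, 1, 0]) (fun _ => ![0, 1, 1, 1, 1]))
    ![![0, 1, 1, 0, 0], ![0, 0, 1, 1, 0]]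
  d := Sum.elim (Sum.elim (fun _ => ![0, 1, 1, 1, 1]) (fun _ => ![1, 1, 1, 1, 0]))
    ![![0, 0, 1, 1, 0], ![0, 1, 1, 0, 0]]
  b_even := by decide +kernel
  dual := by decide +kernel
  resid := by decide +kernel

/-- O⁻_4(2) ≅ S_5: the isometry group of the form x y + z_1² + z_1 z_2 + z_2² over the field with 2 elements is isomorphic to the symmetric group on 5 letters. -/
theorem result {F : Type*} [Field F] [Fintype F] (hF : Fintype.card F = 2) : Nonempty (↥(Cfsg.isometryGroup F (Cfsg.quadFormMinus 1 F 1 1)) ≃* Equiv.Perm (Fin 5)) := by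
  obtain ⟨φ⟩ := EvenWeight.exists_equiv_zmod_two hF
  obtain ⟨e⟩ := coords.nonempty_equiv (le_refl 5) (Cfsg.quadFormMinus 1 (ZMod 2) 1 1) (by decide +kernel)
    (by decide +kernel) (by
      rw [Classical.natCard_isometryGroup_minus
        (show ∀ z₁ z₂ : ZMod 2, z₁ ^ 2 + 1 * z₁ * z₂ + 1 * z₂ ^ 2 = 0 → z₁ = 0 ∧ z₂ = 0 by decide) 1,
        Nat.card_zmod]
      decide)
  exact ⟨(EvenWeight.isometryGroupMap φ _ _ (fun v => by
    simp [Cfsg.quadFormMinus, map_sum])).trans e⟩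

end Cfsg.Agent.S0824
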