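import Cfsg.Statements.S4134
import Cfsg.Agent.Lib.ClassSizeIto.TwoSizes

set_option autoImplicit false
open Cfsg

namespace Cfsg.Agent.S4134

/-- Let G be a finite group whose conjugacy classes have exactly two sizes, 1 and n > 1. Then n is a power of a prime p and G is the direct product of a p-group and an abelian group of order prime to p: its Sylow p-subgroup P is normal with an abelian normal complement centralizing it; moreover P has an abelian normal subgroup A with P/A of exponent dividing p. -/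
theorem result {G : Type*} [Group G] [Finite G] (n : ℕ) (hn : 1 < n)
    (h : ∀ x : G, (Subgroup.centralizer ({x} : Set G)).index = 1 ∨ (Subgroup.centralizer ({x} : Set G)).index = n) (hex : ∃ x : G, (Subgroup.centralizer ({x} : Set G)).index = n) :
    ∃ (p : ℕ) (_ : Fact p.Prime) (a : ℕ), n = p ^ a ∧ ∀ P : Sylow p G, (P : Subgroup G).Normal ∧
      (∃ N : Subgroup G, N.Normal ∧ N.IsComplement' (P : Subgroup G) ∧ IsMulCommutative N ∧
        ∀ x ∈ N, ∀ y ∈ (P : Subgroup G), x * y = y * x) ∧
      ∃ A : Subgroup (P : Subgroup G), A.Normal ∧ IsMulCommutative A ∧ ∀ y : (P : Subgroup G), y ^ p ∈ A := by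
  open Cfsg.Agent.Lib.ClassSizeTop Cfsg.Agent.Lib.ClassSizeIto Subgroup in
  have h' : ∀ x : G, idx x = 1 ∨ idx x = n := h
  open Cfsg.Agent.Lib.ClassSizeTop Cfsg.Agent.Lib.ClassSizeIto Subgroup in
  exact by
    classical
    obtain ⟨x₀, hx₀⟩ := hex
    have hx₀c : x₀ ∉ center G := fun hc => by
      have := idx_eq_one_iff.2 hc
      rw [show idx x₀ = n from hx₀] at this
      omega
    -- the prime
    obtain ⟨p, hp, w, hw, k, hk⟩ : ∃ p : ℕ, p.Prime ∧ ∃ w : G, w ∉ center G ∧ ∃ k, orderOf w = p ^ k := by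
      obtain ⟨p, hp, hpd⟩ := Nat.exists_prime_and_dvd (n := orderOf (QuotientGroup.mk x₀ : G ⧸ center G))
        fun e => hx₀c ((QuotientGroup.eq_one_iff x₀).1 (orderOf_eq_one_iff.1 e))
      haveI := Fact.mk hp
      obtain ⟨a, b, he, -, hk, hb, -, -⟩ := Cfsg.Agent.Lib.ClassSize.exists_pParts (p := p) x₀
      refine ⟨p, hp, a, fun ha => ?_, hk⟩
      rw [he, QuotientGroup.mk_mul, (QuotientGroup.eq_one_iff a).2 ha, one_mul] at hpd
      exact (Nat.Prime.coprime_iff_not_dvd hp).1 hb.symm
        (hpd.trans (orderOf_map_dvd (QuotientGroup.mk' (center G)) b))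
    haveI := Fact.mk hp
    -- elements of order prime to `p` are central
    have hp' : ∀ g : G, (orderOf g).Coprime p → g ∈ center G := by
      intro g hg
      by_contra hgc
      obtain ⟨q, hq, hqd⟩ := Nat.exists_prime_and_dvd (n := orderOf (QuotientGroup.mk g : G ⧸ center G))
        fun e => hgc ((QuotientGroup.eq_one_iff g).1 (orderOf_eq_one_iff.1 e))
      haveI := Fact.mk hq
      have hqp : p ≠ q := by
        rintro rfl
        exact (Nat.Prime.coprime_iff_not_dvd hp).1 hg.symm
          (hqd.trans (orderOf_map_dvd (QuotientGroup.mk' (center G)) g))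
      obtain ⟨a, b, he, -, hka, hb, -, -⟩ := Cfsg.Agent.Lib.ClassSize.exists_pParts (p := q) g
      refine unique_prime hn h' hp hq hqp hw (fun ha => ?_) ⟨k, hk⟩ hka
      rw [he, QuotientGroup.mk_mul, (QuotientGroup.eq_one_iff a).2 ha, one_mul] at hqd
      exact (Nat.Prime.coprime_iff_not_dvd hq).1 hb.symm
        (hqd.trans (orderOf_map_dvd (QuotientGroup.mk' (center G)) b))
    obtain ⟨a, ha⟩ : ∃ a, n = p ^ a := by
      refine ⟨_, Nat.eq_prime_pow_of_unique_prime_dvd (zero_lt_one.trans hn).ne'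
        (fun {q} hq hqn => ?_)⟩
      by_contra hne
      haveI := Fact.mk hq
      obtain ⟨Q⟩ : Nonempty (Sylow q G) := inferInstance
      have hQ : (Q : Subgroup G) ≤ center G := fun v hv => hp' v (by
        obtain ⟨j, hj⟩ := IsPGroup.iff_orderOf.1 Q.isPGroup' ⟨v, hv⟩
        rw [Subgroup.orderOf_mk] at hj
        rw [hj]
        exact ((Nat.coprime_primes hq hp).2 hne).pow_left j)
      refine (Cfsg.Agent.Lib.ClassSize.not_dvd_index_iff (p := q) (x := x₀)).2
        ⟨Q, fun v hv => mem_cent.2 (mem_center_iff.1 (hQ hv) x₀).symm⟩ ?_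
      show q ∣ idx x₀
      rw [show idx x₀ = n from hx₀]
      exact hqn
    refine ⟨p, inferInstance, a, ha, fun P => ?_⟩
    have hall : ∀ g : G, ∃ i : ℕ, g ^ p ^ i ∈ center G := by
      intro g
      obtain ⟨u, v, rfl, huv, ⟨j, hj⟩, hv, -, -⟩ := Cfsg.Agent.Lib.ClassSize.exists_pParts (p := p) g
      refine ⟨j, ?_⟩
      rw [huv.mul_pow, ← hj, pow_orderOf_eq_one, one_mul]
      exact pow_mem (hp' v hv) _
    set Z := center G with hZ
    have hsup : (P : Subgroup G) ⊔ Z = ⊤ := by
      rw [← index_eq_one]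
      have h1 : ((P : Subgroup G) ⊔ Z).index ∣ (P : Subgroup G).index := index_dvd_of_le le_sup_left
      have hQ : IsPGroup p (G ⧸ Z) := by
        intro q
        induction q using QuotientGroup.induction_on with
        | _ g =>
          obtain ⟨i, hi⟩ := hall g
          exact ⟨i, by rw [← QuotientGroup.mk_pow]; exact (QuotientGroup.eq_one_iff _).2 hi⟩
      obtain ⟨e, he⟩ := IsPGroup.iff_card.1 hQ
      have h2 : ((P : Subgroup G) ⊔ Z).index ∣ p ^ e := by
        rw [← he, ← index_eq_card]; exact index_dvd_of_le le_sup_right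
      exact Nat.eq_one_of_dvd_coprimes
        (((hp.coprime_iff_not_dvd).2 P.not_dvd_index).symm.pow_right e) h1 h2
    have hmem : ∀ g : G, ∃ u ∈ (P : Subgroup G), ∃ z ∈ Z, g = u * z := by
      intro g
      have hg : g ∈ (P : Subgroup G) ⊔ Z := hsup ▸ Subgroup.mem_top g
      rw [mem_sup_of_normal_right] at hg
      obtain ⟨u, hu, z, hz, he⟩ := hg
      exact ⟨u, hu, z, hz, he.symm⟩
    have hPn : (P : Subgroup G).Normal := by
      refine ⟨fun v hv g => ?_⟩
      obtain ⟨u, hu, z, hz, rfl⟩ := hmem g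
      have e : u * z * v * (u * z)⁻¹ = u * v * u⁻¹ := by
        rw [show u * z * v * (u * z)⁻¹ = u * (z * v * z⁻¹) * u⁻¹ by group,
          ← mem_center_iff.1 hz v, mul_inv_cancel_right]
      rw [e]
      exact (P : Subgroup G).mul_mem ((P : Subgroup G).mul_mem hu hv) ((P : Subgroup G).inv_mem hu)
    let N : Subgroup G :=
      { carrier := {z | z ∈ Z ∧ (orderOf z).Coprime p}
        one_mem' := ⟨one_mem _, by simp⟩
        mul_mem' := fun {x y} hx hy => ⟨mul_mem hx.1 hy.1, Nat.Coprime.coprime_dvd_left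
          (((show Commute x y from (mem_center_iff.1 hy.1 x)).orderOf_mul_dvd_lcm).trans
            (Nat.lcm_dvd_mul _ _)) (Nat.Coprime.mul_left hx.2 hy.2)⟩
        inv_mem' := fun {x} hx => ⟨inv_mem hx.1, by rw [orderOf_inv]; exact hx.2⟩ }
    have hNZ : N ≤ Z := fun z hz => hz.1
    refine ⟨hPn, ⟨N, ⟨fun z hz g => ?_⟩, ?_, ⟨⟨fun x y => Subtype.ext (mem_center_iff.1 (hNZ y.2) x)⟩⟩,
      fun x hx y hy => (mem_center_iff.1 (hNZ hx) y).symm⟩, ?_⟩
    · have : g * z * g⁻¹ = z := by rw [mem_center_iff.1 (hNZ hz) g, mul_inv_cancel_right]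
      rwa [this]
    · refine isComplement'_of_disjoint_and_mul_eq_univ ?_ ?_
      · rw [disjoint_iff, eq_bot_iff]
        intro v hv
        obtain ⟨hvN, hvP⟩ := mem_inf.1 hv
        obtain ⟨j, hj⟩ := IsPGroup.iff_orderOf.1 P.isPGroup' ⟨v, hvP⟩
        rw [Subgroup.orderOf_mk] at hj
        have h1 := hvN.2
        rw [hj] at h1
        refine mem_bot.2 (orderOf_eq_one_iff.1 ?_)
        rw [hj]
        exact (Nat.coprime_self _).1 (h1.pow_right j)
      · rw [Set.eq_univ_iff_forall]
        intro g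
        obtain ⟨u, v, rfl, huv, ⟨j, hj⟩, hv, -, -⟩ :=
          Cfsg.Agent.Lib.ClassSize.exists_pParts (p := p) g
        refine ⟨v, ⟨hp' v hv, hv⟩, u, ?_, huv.eq.symm⟩
        have hpg : IsPGroup p (zpowers u) := IsPGroup.of_card (n := j) (by rw [Nat.card_zpowers, hj])
        obtain ⟨Q, hQ⟩ := hpg.exists_le_sylow
        haveI := Sylow.unique_of_normal P hPn
        rw [Subsingleton.elim P Q]
        exact hQ (mem_zpowers u)
    -- the abelian normal subgroup
    obtain ⟨c, hcP, hcZ, hcc, hcp⟩ : ∃ c ∈ (P : Subgroup G), c ∉ Z ∧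
        (∀ g : G, g * c * g⁻¹ * c⁻¹ ∈ Z) ∧ c ^ p ∈ Z := by
      have hQ : IsPGroup p (G ⧸ Z) := by
        intro q
        induction q using QuotientGroup.induction_on with
        | _ g =>
          obtain ⟨i, hi⟩ := hall g
          exact ⟨i, by rw [← QuotientGroup.mk_pow]; exact (QuotientGroup.eq_one_iff _).2 hi⟩
      haveI : Nontrivial (G ⧸ Z) := ⟨⟨QuotientGroup.mk w, 1, fun e => hw ((QuotientGroup.eq_one_iff w).1 e)⟩⟩
      haveI := hQ.center_nontrivial
      obtain ⟨q, hq⟩ := exists_prime_orderOf_dvd_card' (G := center (G ⧸ Z)) p (by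
        obtain ⟨e, he, hcard⟩ := (hQ.to_subgroup (center (G ⧸ Z))).nontrivial_iff_card.1 inferInstance
        rw [hcard]
        exact dvd_pow_self p he.ne')
      obtain ⟨g, hg⟩ := QuotientGroup.mk_surjective (q : G ⧸ Z)
      obtain ⟨u, hu, z, hz, rfl⟩ := hmem g
      have hgu : (QuotientGroup.mk u : G ⧸ Z) = q := by
        rw [← hg, QuotientGroup.mk_mul, (QuotientGroup.eq_one_iff z).2 hz, mul_one]
      have hqo : orderOf (q : G ⧸ Z) = p := by rw [Subgroup.orderOf_coe, hq]
      refine ⟨u, hu, fun e => ?_, fun t => ?_, ?_⟩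
      · rw [← hgu, (QuotientGroup.eq_one_iff u).2 e, orderOf_one] at hqo
        exact hp.one_lt.ne hqo
      · rw [← QuotientGroup.eq_one_iff]
        simp only [QuotientGroup.mk_mul, QuotientGroup.mk_inv, hgu]
        rw [mem_center_iff.1 q.2 (QuotientGroup.mk t)]
        group
      · rw [← QuotientGroup.eq_one_iff, QuotientGroup.mk_pow, hgu, ← hqo, pow_orderOf_eq_one]
    by_cases hbig : ∃ g : G, g ^ p ∉ Z
    · set C := centralizer ({c} : Set G) with hC
      have hbigC : ∀ g : G, g ^ p ∉ Z → centralizer ({g} : Set G) = C := by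
        intro g hg
        have hgp := cent_eq_of_le_cent h' hg
          (cent_le_cent_of_mem_zpowers (npow_mem_zpowers g p))
        refine cent_eq_of_big h' hall hg ?_ hcZ
        rw [hgp, mem_cent]
        set z := g * c * g⁻¹ * c⁻¹ with hz
        have hzZ : z ∈ Z := hcc g
        have hgc : g * c * g⁻¹ = z * c := by rw [hz]; group
        clear_value z
        have hzp : z ^ p = 1 := by
          have h1 : g * c ^ p * g⁻¹ = z ^ p * c ^ p := by
            rw [← conj_pow, hgc, (show Commute z c from (mem_center_iff.1 hzZ c).symm).mul_pow]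
          rw [mem_center_iff.1 hcp g, mul_inv_cancel_right] at h1
          exact (mul_eq_right.1 h1.symm)
        have hit : ∀ i : ℕ, g ^ i * c * (g ^ i)⁻¹ = z ^ i * c := by
          intro i
          induction i with
          | zero => simp
          | succ i ih =>
            calc g ^ (i + 1) * c * (g ^ (i + 1))⁻¹ = g * (g ^ i * c * (g ^ i)⁻¹) * g⁻¹ := by
                  rw [pow_succ']; group
              _ = (g * z ^ i * g⁻¹) * (g * c * g⁻¹) := by rw [ih]; group
              _ = z ^ (i + 1) * c := by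
                  rw [hgc, mem_center_iff.1 (pow_mem hzZ i) g, mul_inv_cancel_right, pow_succ,
                    mul_assoc]
        have := hit p
        rw [hzp, one_mul, mul_inv_eq_iff_eq_mul] at this
        exact this.symm
      obtain ⟨g₀, hg₀⟩ := hbig
      have hcommC : ∀ x ∈ C, ∀ y ∈ C, x * y = y * x := by
        intro x hx y hy
        by_cases hxc : x ∈ Z
        · exact (mem_center_iff.1 hxc y).symm
        have e1 := hbigC g₀ hg₀
        have := cent_eq_of_big h' hall hg₀ (e1.symm ▸ hx) hxc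
        have hy' : y ∈ centralizer ({x} : Set G) := this ▸ e1.symm ▸ hy
        exact (mem_cent.1 hy').symm
      refine ⟨C.subgroupOf (P : Subgroup G), ⟨fun x hx g => ?_⟩,
        ⟨⟨fun x y => Subtype.ext (Subtype.ext (hcommC _ x.2 _ y.2))⟩⟩, fun y => ?_⟩
      · rw [mem_subgroupOf, Subgroup.coe_mul, Subgroup.coe_mul, Subgroup.coe_inv, hC]
        have e : g.1 * c * g.1⁻¹ = (g.1 * c * g.1⁻¹ * c⁻¹) * c := by group
        have h1 : centralizer ({g.1 * c * g.1⁻¹} : Set G) = centralizer ({c} : Set G) := by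
          rw [e, cent_mul_central (hcc g.1)]
        rw [← h1, cent_conj]
        exact ⟨x, hx, rfl⟩
      · rw [mem_subgroupOf, SubgroupClass.coe_pow]
        by_cases hy : (y : G) ^ p ∈ Z
        · exact mem_cent.2 (mem_center_iff.1 hy c).symm
        · rw [← hbigC y hy]
          exact pow_mem (mem_cent.2 rfl) p
    · push Not at hbig
      refine ⟨Z.subgroupOf (P : Subgroup G), inferInstance,
        ⟨⟨fun x y => Subtype.ext (Subtype.ext (mem_center_iff.1 y.2 _))⟩⟩,
        fun y => by rw [mem_subgroupOf, SubgroupClass.coe_pow]; exact hbig y⟩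

end Cfsg.Agent.S4134
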