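import Cfsg.Statements.S3357
import Mathlib
import Cfsg.Agent.Lib.Frobenius.Kernel
import Cfsg.Agent.Lib.Frobenius.FPFLiftRep
-- import your own Cfsg.Agent.* helpers here

set_option autoImplicit false
open Cfsg

namespace Cfsg.Agent.S3357

open scoped Pointwise

/-- A Frobenius complement acts fixed-point-freely on some elementary abelian `q`-group, `q` prime to its order. -/
theorem exists_fpf_module {L : Type*} [Group L] [Finite L] {H : Subgroup L}
    (hH : Cfsg.IsFrobeniusComplement H) {G : Type*} [Group G] (e : G ≃* H) :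
    ∃ (q : ℕ) (_ : Fact q.Prime) (V : Subgroup L) (_ : IsMulCommutative V)
      (φ : G →* MulAut V), ¬ q ∣ Nat.card G ∧ V ≠ ⊥ ∧ (∀ v : V, v ^ q = 1) ∧
        ∀ g : G, g ≠ 1 → ∀ v : V, φ g v = v → v = 1 := by
  classical
  obtain ⟨K, hKset, hKn, hKH⟩ := Cfsg.Agent.Lib.Frobenius.exists_kernel hH
  have hcK : Nat.card K = H.index := by
    have h := Cfsg.Agent.Lib.Frobenius.card_frobeniusKernel hH
    rw [← hKset] at h
    exact h
  have hcop : (Nat.card H).Coprime (Nat.card K) :=
    hcK ▸ Cfsg.Agent.Lib.Frobenius.coprime_card_index hH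
  have hKne : K ≠ ⊥ := fun h => by
    have h1 := Cfsg.Agent.Lib.Frobenius.one_lt_index hH
    rw [← hcK, h, Subgroup.card_bot] at h1
    omega
  obtain ⟨q, hq, hqK⟩ := Nat.exists_prime_and_dvd (mt Subgroup.card_eq_one.mp hKne)
  have := Fact.mk hq
  have hqG : ¬ q ∣ Nat.card G := by
    rw [Nat.card_congr e.toEquiv]
    exact fun h => hq.not_dvd_one (hcop ▸ Nat.dvd_gcd h hqK)
  obtain ⟨Q⟩ := (inferInstance : Nonempty (Sylow q K))
  set Q' : Subgroup L := (Q : Subgroup K).map K.subtype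
  set M : Subgroup L := Subgroup.normalizer (Q' : Set L)
  have hMK : M ⊔ K = ⊤ := Sylow.normalizer_sup_eq_top Q
  have hidx : (K.subgroupOf M).index = Nat.card H := by
    change K.relIndex M = _
    rw [← Subgroup.relIndex_sup_right, hMK, Subgroup.relIndex_top_right, hKH.symm.index_eq_card]
  have hcopM : (Nat.card (K.subgroupOf M)).Coprime (K.subgroupOf M).index := by
    rw [hidx]
    refine (hcop.coprime_dvd_right ?_).symm
    exact Subgroup.card_dvd_of_injective ((M.subtype.comp (K.subgroupOf M).subtype).codRestrict K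
      fun x => x.2) fun a b h => Subtype.ext (Subtype.ext (congrArg (fun w : K => (w : L)) h))
  obtain ⟨C, hC⟩ := Subgroup.exists_right_complement'_of_coprime hcopM
  -- `C ≅ L ⧸ K ≅ H ≅ G`
  let r : C →* L ⧸ K := (QuotientGroup.mk' K).comp (M.subtype.comp C.subtype)
  have hrinj : Function.Injective r := by
    rw [← MonoidHom.ker_eq_bot_iff, eq_bot_iff]
    intro c hc
    have hcK' : ((c : M) : L) ∈ K := (QuotientGroup.eq_one_iff _).mp hc
    have h2 : (c : M) ∈ (K.subgroupOf M) ⊓ C := ⟨hcK', c.2⟩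
    rw [hC.disjoint.eq_bot, Subgroup.mem_bot] at h2
    exact Subtype.ext h2
  have hcard : Nat.card C = Nat.card (L ⧸ K) := by
    rw [← hC.symm.index_eq_card, hidx, ← hKH.symm.index_eq_card, Subgroup.index_eq_card]
  let r' : C ≃* L ⧸ K := MulEquiv.ofBijective r
    ⟨hrinj, hrinj.surjective_of_finite (Finite.equivFinOfCardEq hcard |>.trans
      (Finite.equivFinOfCardEq rfl).symm)⟩
  let i : G ≃* C := e.trans (hKH.symm.QuotientMulEquiv.symm.trans r'.symm)
  -- the module
  let V : Subgroup L :=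
    { carrier := {x | x ∈ Q' ∧ (∀ y ∈ Q', x * y = y * x) ∧ x ^ q = 1}
      one_mem' := ⟨Q'.one_mem, fun y _ => by simp, one_pow q⟩
      mul_mem' := fun {a b} ha hb => ⟨Q'.mul_mem ha.1 hb.1,
        fun y hy => Commute.mul_left (ha.2.1 y hy) (hb.2.1 y hy),
        by rw [Commute.mul_pow (ha.2.1 b hb.1), ha.2.2, hb.2.2, one_mul]⟩
      inv_mem' := fun {a} ha => ⟨Q'.inv_mem ha.1, fun y hy => Commute.inv_left (ha.2.1 y hy),
        by rw [inv_pow, ha.2.2, inv_one]⟩ }
  have hVQ : ∀ v ∈ V, v ∈ Q' := fun v hv => hv.1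
  have hMV : M ≤ Subgroup.normalizer (V : Set L) := by
    intro m hm
    refine Subgroup.mem_normalizer_fintype fun v hv => ⟨(Subgroup.mem_normalizer_iff.mp hm v).mp hv.1,
      fun y hy => ?_, by rw [conj_pow, hv.2.2, mul_one, mul_inv_cancel]⟩
    have hy' : m⁻¹ * y * m ∈ Q' := (Subgroup.mem_normalizer_iff''.mp hm y).mp hy
    have h := hv.2.1 _ hy'
    calc m * v * m⁻¹ * y = m * (v * (m⁻¹ * y * m)) * m⁻¹ := by group
      _ = m * ((m⁻¹ * y * m) * v) * m⁻¹ := by rw [h]
      _ = y * (m * v * m⁻¹) := by group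
  let φ : G →* MulAut V :=
    (V.normalizerMonoidHom).comp ((Subgroup.inclusion hMV).comp (C.subtype.comp i.toMonoidHom))
  refine ⟨q, ⟨hq⟩, V, ⟨⟨fun a b => Subtype.ext (a.2.2.1 b (hVQ b b.2))⟩⟩, φ, hqG, ?_,
    fun v => Subtype.ext v.2.2.2, fun g hg v hv => ?_⟩
  · have hQne : Nontrivial (Q : Subgroup K) :=
      (Subgroup.nontrivial_iff_ne_bot _).mpr (Q.ne_bot_of_dvd_card hqK)
    have hcn := IsPGroup.center_nontrivial Q.isPGroup'
    have hcp : IsPGroup q (Subgroup.center (Q : Subgroup K)) := Q.isPGroup'.to_subgroup _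
    obtain ⟨n, hn⟩ := hcp.exists_card_eq
    have hn0 : n ≠ 0 := fun h => by
      have := Finite.one_lt_card (α := Subgroup.center (Q : Subgroup K))
      rw [hn, h, pow_zero] at this
      omega
    obtain ⟨z, hz⟩ := exists_prime_orderOf_dvd_card' q (hn ▸ dvd_pow_self q hn0)
    intro hbot
    have hzV : (((z : (Q : Subgroup K)) : K) : L) ∈ V := by
      refine ⟨Subgroup.mem_map_of_mem K.subtype (z : (Q : Subgroup K)).2, ?_, ?_⟩
      · rintro _ ⟨y, hy, rfl⟩
        have h := Subgroup.mem_center_iff.mp z.2 ⟨y, hy⟩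
        exact (congrArg Subtype.val (congrArg Subtype.val h)).symm
      · have h : z ^ q = 1 := orderOf_dvd_iff_pow_eq_one.mp hz.dvd
        exact congrArg (fun w : Subgroup.center (Q : Subgroup K) => (((w : (Q : Subgroup K)) : K) : L)) h
    rw [hbot, Subgroup.mem_bot] at hzV
    have hz1 : z = 1 := Subtype.ext (Subtype.ext (Subtype.ext hzV))
    rw [hz1, orderOf_one] at hz
    exact hq.ne_one hz.symm
  · set c : L := (((i g : C) : M) : L) with hc
    have hcv : c * (v : L) * c⁻¹ = v := congrArg Subtype.val hv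
    have hc1 : c ≠ 1 := fun h => hg (i.injective (by rw [map_one]; exact Subtype.ext (Subtype.ext h)))
    have hcK' : c ∉ K := by
      intro h
      have h2 : ((i g : C) : M) ∈ (K.subgroupOf M) ⊓ C := ⟨h, (i g).2⟩
      rw [hC.disjoint.eq_bot, Subgroup.mem_bot] at h2
      exact hc1 (congrArg Subtype.val h2)
    have hcK'' : c ∉ (K : Set L) := hcK'
    rw [hKset, Cfsg.Agent.Lib.Frobenius.frobeniusKernel_eq_compl, Set.mem_compl_iff, not_not] at hcK''
    obtain ⟨-, u, hu⟩ := hcK''
    have hu1 : u⁻¹ * c * u ≠ 1 := fun h => hc1 (by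
      calc c = u * (u⁻¹ * c * u) * u⁻¹ := by group
        _ = 1 := by rw [h]; group)
    have hvH : u⁻¹ * (v : L) * u ∈ H := by
      refine Cfsg.Agent.Lib.Frobenius.centralizer_le hH hu hu1 (Subgroup.mem_centralizer_singleton_iff.mpr ?_)
      have hcomm : (v : L) * c = c * v := by
        rw [mul_inv_eq_iff_eq_mul] at hcv; exact hcv.symm
      calc u⁻¹ * (v : L) * u * (u⁻¹ * c * u) = u⁻¹ * ((v : L) * c) * u := by group
        _ = u⁻¹ * (c * v) * u := by rw [hcomm]
        _ = _ := by group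
    have hvK : u⁻¹ * (v : L) * u ∈ K := hKn.conj_mem' _ (Subgroup.map_subtype_le _ v.2.1) u
    have h1 : u⁻¹ * (v : L) * u ∈ K ⊓ H := ⟨hvK, hvH⟩
    rw [hKH.disjoint.eq_bot, Subgroup.mem_bot] at h1
    exact Subtype.ext (by
      calc (v : L) = u * (u⁻¹ * v * u) * u⁻¹ := by group
        _ = 1 := by rw [h1]; group)

/-- Automorphisms of an abelian group killed by `q` as endomorphisms of a `ZMod q`-module. -/
def autToEnd (q : ℕ) (W : Type*) [CommGroup W] [Module (ZMod q) (Additive W)] :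
    MulAut W →* Module.End (ZMod q) (Additive W) where
  toFun f := AddMonoidHom.toZModLinearMap q (MonoidHom.toAdditive f.toMonoidHom)
  map_one' := LinearMap.ext fun _ => rfl
  map_mul' _ _ := LinearMap.ext fun _ => rfl

/-- The rational function space of a fixed-point-free action on an abelian group killed by `q`. -/
theorem exists_rat_of_mulAut {G : Type*} [Group G] [Fintype G] [DecidableEq G] (q : ℕ)
    [Fact q.Prime] (hqG : ¬ q ∣ Fintype.card G) (W : Type*) [CommGroup W]
    [Module (ZMod q) (Additive W)] [Nontrivial W] (φ : G →* MulAut W)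
    (hfpf : ∀ g : G, g ≠ 1 → ∀ v : W, φ g v = v → v = 1) :
    ∃ x ∈ Cfsg.Agent.Lib.FPFLift.X ℚ G, x ≠ 0 :=
  Cfsg.Agent.Lib.FPFLift.exists_rat_mem_X q hqG ((autToEnd q W).comp φ) fun g hg v hv =>
    Additive.toMul.injective (hfpf g hg (Additive.toMul v) (congrArg Additive.toMul hv))

/-- Let G be a finite group that occurs as a Frobenius complement. Then G has a faithful irreducible representation over an algebraic closure of the rationals in which no non-identity element of G has 1 as an eigenvalue: there are n ≥ 1 and an injective homomorphism ρ from G to GL(n) over that field, with no invariant subspace other than 0 and the whole space, such that for g ≠ 1 the only vector fixed by ρ(g) is 0. -/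
theorem result {G : Type*} [Group G] [Finite G]
    (hFC : ∃ (L : Type) (_ : Group L) (_ : Finite L) (H : Subgroup L), Cfsg.IsFrobeniusComplement H ∧ Nonempty (G ≃* H)) :
    ∃ (n : ℕ) (ρ : G →* GL (Fin n) (AlgebraicClosure ℚ)), 0 < n ∧ Function.Injective ρ ∧
      (∀ W : Submodule (AlgebraicClosure ℚ) (Fin n → AlgebraicClosure ℚ),
        (∀ g : G, ∀ w ∈ W, ((ρ g : GL (Fin n) (AlgebraicClosure ℚ)) : Matrix (Fin n) (Fin n) (AlgebraicClosure ℚ)).mulVec w ∈ W) → W = ⊥ ∨ W = ⊤) ∧
      ∀ g : G, g ≠ 1 → ∀ v : Fin n → AlgebraicClosure ℚ,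
        ((ρ g : GL (Fin n) (AlgebraicClosure ℚ)) : Matrix (Fin n) (Fin n) (AlgebraicClosure ℚ)).mulVec v = v → v = 0 := by
  classical
  obtain ⟨L, _, _, H, hH, ⟨e⟩⟩ := hFC
  have : Fintype G := Fintype.ofFinite G
  obtain ⟨q, hq, V, hVc, φ, hqG, hVne, hVq, hfpf⟩ := exists_fpf_module hH e
  let _ : CommGroup V := { (inferInstance : Group V) with mul_comm := mul_comm' }
  have hq0 : ∀ v : Additive V, q • v = 0 := fun v => by
    show Additive.ofMul ((Additive.toMul v) ^ q) = 0
    rw [hVq]; rfl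
  let _ : Module (ZMod q) (Additive V) := AddCommGroup.zmodModule hq0
  have := (Subgroup.nontrivial_iff_ne_bot V).mpr hVne
  rw [Nat.card_eq_fintype_card] at hqG
  obtain ⟨x, hx, hx0⟩ := exists_rat_of_mulAut q hqG V φ hfpf
  let f : ℚ →+* AlgebraicClosure ℚ := algebraMap ℚ _
  have hxK : (fun u => f (x u)) ∈ Cfsg.Agent.Lib.FPFLift.X (AlgebraicClosure ℚ) G := by
    rw [Cfsg.Agent.Lib.FPFLift.mem_X] at hx ⊢
    intro g hg
    funext u
    rw [← Cfsg.Agent.Lib.FPFLift.N_map f, RingHom.mapMatrix_apply, ← Function.comp_def f x,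
      ← RingHom.map_mulVec, hx g hg]
    exact map_zero f
  have hxK0 : (fun u => f (x u)) ≠ 0 := fun h => hx0 (funext fun u => f.injective (by
    rw [Pi.zero_apply, map_zero]; exact congrFun h u))
  obtain ⟨d, σ, hd, hirr, hfix⟩ := Cfsg.Agent.Lib.FPFLift.exists_irreducible hxK hxK0
  refine ⟨d, σ, hd, fun a b hab => ?_, hirr, hfix⟩
  by_contra hne
  have : Nonempty (Fin d) := ⟨⟨0, hd⟩⟩
  obtain ⟨v, hv⟩ := exists_ne (0 : Fin d → AlgebraicClosure ℚ)
  refine hv (hfix (a * b⁻¹) (fun h => hne (mul_inv_eq_one.mp h)) v ?_)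
  rw [map_mul, map_inv, hab, mul_inv_cancel, Units.val_one, Matrix.one_mulVec]

end Cfsg.Agent.S3357
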