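import Cfsg.Statements.S5093
import Cfsg.Agent.Lib.Fusion.GroupFusion
import Cfsg.Agent.Lib.Fusion.Hyperfocal
import Cfsg.Agent.Lib.Transfer.PResidual
import Cfsg.Agent.Lib.Fusion.ModT

set_option autoImplicit false
open Cfsg
open Cfsg.FusionSystem Cfsg.Agent.Lib.Fusion
open scoped commutatorElement

namespace Cfsg.Agent.S5093

/-- Hyperfocal subgroup Theorem: for a finite group G with Sylow p-subgroup S, the hyperfocal subgroup of the fusion system of G on S equals S ∩ O^p(G), where O^p(G) is the subgroup generated by the elements of order prime to p. -/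
theorem result {G : Type*} [Group G] [Finite G] (p : ℕ) [Fact p.Prime] (S : Sylow p G) : (Cfsg.groupFusionSystem (S : Subgroup G)).hyperfocalSubgroup p = (S : Subgroup G) ⊓ Cfsg.pResidual p G := by
  set K := Cfsg.pResidual p G with hKdef
  set T := (S : Subgroup G) ⊓ K
  have hTK : T ≤ K := inf_le_right
  have hTsyl : IsSylowIn p T K := by
    obtain ⟨R, hR⟩ := exists_sylow_subgroupOf S K
    exact isSylowIn_of_sylow hTK R (by rw [hR, Subgroup.inf_subgroupOf_right])
  have hTp : IsPGroup p T := S.2.to_le inf_le_left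
  set E := fusionSystemOfSubgroup K T hTK
  refine le_antisymm ((Subgroup.closure_le _).2 ?_) ?_
  · rintro _ ⟨P, α, x, hP, hα, rfl⟩
    refine ⟨S.mul_mem (S.inv_mem (hP x.2)) (hP ((α : MulAut P) x).2), ?_⟩
    have hA : (groupFusionSystem (S : Subgroup G)).autGroup P = autInducedBy ⊤ P :=
      autGroup_groupFusion hP
    have hle : Cfsg.pResidual p ((groupFusionSystem (S : Subgroup G)).autGroup P) ≤
        (autInducedBy K P).subgroupOf _ := by
      refine Cfsg.Agent.Lib.Transfer.pResidual_le_iff.2 fun β hβ => ?_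
      have hβ2 : (β : MulAut P) ∈ autInducedBy ⊤ P := hA.le β.2
      rw [autInducedBy_eq_map] at hβ2
      obtain ⟨⟨g, hgN⟩, -, hgβ⟩ := hβ2
      obtain ⟨k, hk⟩ := Cfsg.Agent.Lib.Transfer.exists_pow_coprime (p := p) g
      have hpk : ((β : MulAut P)) ^ p ^ k ∈ autInducedBy K P := by
        rw [autInducedBy_eq_map, ← hgβ, ← map_pow]
        exact ⟨_, Cfsg.Agent.Lib.Transfer.mem_pResidual_of_coprime hk, rfl⟩
      obtain ⟨j, hj⟩ := exists_pow_eq_self_of_coprime (G := MulAut P) (x := (β : MulAut P))
        (n := p ^ k) (by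
          rw [Subgroup.orderOf_coe]
          exact (hβ.pow_right k).symm)
      rw [Subgroup.mem_subgroupOf, ← hj]
      exact Subgroup.pow_mem _ hpk j
    obtain ⟨g, hg, hgx⟩ := mem_autInducedBy.1 (Subgroup.mem_subgroupOf.1 (hle hα))
    rw [hgx]
    have h1 : (x : G)⁻¹ * g * ((x : G)⁻¹)⁻¹ ∈ K :=
      (inferInstance : (Cfsg.pResidual p G).Normal).conj_mem g hg _
    have h2 := K.mul_mem h1 (K.inv_mem hg)
    show (x : G)⁻¹ * (g * x * g⁻¹) ∈ K
    convert h2 using 1
    group
  · -- `T` is the focal subgroup of `F_T(K)`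
    have hfoc : T ≤ E.focalSubgroup := by
      have hres : Cfsg.pResidual p K = ⊤ := by
        refine Subgroup.map_injective K.subtype_injective
          (le_antisymm (Subgroup.map_mono le_top) ?_)
        rw [← MonoidHom.range_eq_map, Subgroup.range_subtype]
        exact Cfsg.Agent.Lib.Transfer.pResidual_le_iff.2 fun g hg =>
          Cfsg.Agent.Lib.Transfer.mem_map_pResidual_of_coprime
            (Cfsg.Agent.Lib.Transfer.mem_pResidual_of_coprime hg) hg
      set TK := hTsyl.toSylow
      have htriv : (TK : Subgroup K).focalSubgroupOf = ⊤ := by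
        have h1 : (TK : Subgroup K).transferFocal.ker = ⊤ :=
          eq_top_iff.2 (hres ▸ Cfsg.Agent.Lib.Transfer.pResidual_le_ker
            (TK.2.to_quotient (TK : Subgroup K).focalSubgroupOf) (TK : Subgroup K).transferFocal)
        rw [Subgroup.eq_top_iff']
        intro t
        obtain ⟨k, hk⟩ := Subgroup.transferFocal_surjective TK (t : (TK : Subgroup K) ⧸ _)
        have h2 : (TK : Subgroup K).transferFocal k = 1 := by
          have : k ∈ (TK : Subgroup K).transferFocal.ker := h1 ▸ Subgroup.mem_top k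
          exact this
        exact (QuotientGroup.eq_one_iff t).1 (hk.symm.trans h2)
      have hle : (TK : Subgroup K).focalSubgroup ≤ E.focalSubgroup.subgroupOf K := by
        rw [Subgroup.focalSubgroup_def, Subgroup.closure_le]
        rintro z ⟨hzT, x, hxT, u, rfl⟩
        rw [hTsyl.coe_toSylow, Subgroup.mem_subgroupOf] at hzT hxT
        rw [commutatorElement_def] at hzT ⊢
        push_cast at hzT
        have hx' : (x : G)⁻¹ ∈ T := T.inv_mem hxT
        have hu : (u : G) * (x : G)⁻¹ * (u : G)⁻¹ ∈ T := by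
          have := T.mul_mem hx' hzT
          convert this using 1
          group
        have hval : ∀ y : Subgroup.zpowers ((x : G)⁻¹), (u : G) * y * (u : G)⁻¹ ∈ T := by
          rintro ⟨_, n, rfl⟩
          show (u : G) * ((x : G)⁻¹) ^ n * (u : G)⁻¹ ∈ T
          rw [← conj_zpow]
          exact T.zpow_mem hu n
        refine Subgroup.subset_closure ⟨_, conjHom (Subgroup.zpowers ((x : G)⁻¹)) (u : G),
          ⟨(x : G)⁻¹, Subgroup.mem_zpowers _⟩,
          ⟨Subgroup.zpowers_le.2 hx', hval, u, u.2, fun y => rfl⟩, ?_⟩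
        rw [conjHom_apply, map_mul, map_mul, map_mul, map_inv, map_inv]
        show (x : G) * u * (x : G)⁻¹ * (u : G)⁻¹ = _
        group
      intro t ht
      have h1 : (⟨⟨t, hTK ht⟩, ht⟩ : (TK : Subgroup K)) ∈ (TK : Subgroup K).focalSubgroupOf :=
        htriv ▸ Subgroup.mem_top _
      exact hle h1
    have hEsat : E.IsSaturated p := isSaturated_fusionOfSubgroup hTsyl
    rw [focalSubgroup_eq hTp hEsat] at hfoc
    -- hence `T` is the hyperfocal subgroup of `F_T(K)`
    have hT0 : T ≤ E.hyperfocalSubgroup p := by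
      have := hyperfocal_normal E p
      have := hTp.isNilpotent
      set H0 := (E.hyperfocalSubgroup p).subgroupOf T
      have hc : commutator (T ⧸ H0) = ⊤ := by
        rw [eq_top_iff]
        rintro y -
        obtain ⟨⟨t, ht⟩, rfl⟩ := QuotientGroup.mk'_surjective H0 y
        have hsup : E.hyperfocalSubgroup p ⊔ ⁅T, T⁆ ≤
            ((commutator (T ⧸ H0)).comap (QuotientGroup.mk' H0)).map T.subtype := by
          refine sup_le (fun z hz => ?_) (Subgroup.commutator_le.2 fun a ha b hb => ?_)
          · refine ⟨⟨z, hyperfocalSubgroup_le_self E p hz⟩, ?_, rfl⟩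
            show QuotientGroup.mk' H0 _ ∈ commutator (T ⧸ H0)
            rw [show QuotientGroup.mk' H0 ⟨z, hyperfocalSubgroup_le_self E p hz⟩ = 1 from
              (QuotientGroup.eq_one_iff _).2 hz]
            exact Subgroup.one_mem _
          · refine ⟨⁅(⟨a, ha⟩ : T), ⟨b, hb⟩⁆, ?_, rfl⟩
            show QuotientGroup.mk' H0 _ ∈ commutator (T ⧸ H0)
            rw [map_commutatorElement]
            exact Subgroup.commutator_mem_commutator (Subgroup.mem_top _) (Subgroup.mem_top _)
        obtain ⟨w, hw, hwt⟩ := hsup (hfoc ht)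
        rw [show (⟨t, ht⟩ : T) = w from Subtype.ext hwt.symm]
        exact hw
      intro t ht
      rcases subsingleton_or_nontrivial (T ⧸ H0) with hs | hn
      · exact (QuotientGroup.eq_one_iff (N := H0) (⟨t, ht⟩ : T)).1 (Subsingleton.elim _ _)
      · have := (hTp.to_quotient H0).isNilpotent
        exact absurd hc (Group.IsSolvable.commutator_lt_top_of_nontrivial (G := T ⧸ H0)).ne
    refine hT0.trans ((Subgroup.closure_le _).2 ?_)
    rintro _ ⟨P, α, x, hP, hα, rfl⟩
    have hPS : P ≤ (S : Subgroup G) := hP.trans inf_le_left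
    have hle : E.autGroup P ≤ (groupFusionSystem (S : Subgroup G)).autGroup P := by
      rw [autGroup_fusionOfSubgroup hP, autGroup_groupFusion hPS]
      exact autInducedBy_mono le_top
    refine Subgroup.subset_closure ⟨P, Subgroup.inclusion hle α, x, hPS,
      Cfsg.Agent.Lib.Transfer.map_pResidual_le _ ⟨α, hα, rfl⟩, rfl⟩

end Cfsg.Agent.S5093
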