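import Cfsg.Statements.S5311
import Cfsg.Agent.Lib.Fusion.Iso

set_option autoImplicit false
open Cfsg

namespace Cfsg.Agent.S5311

open Cfsg.FusionSystem Cfsg.Agent.Lib.Fusion
open Cfsg.Agent.Lib.FusionFactor (mem_preimageAlong preimageAlong_le)

theorem layer_le_image {Ω : Type*} [Group Ω] {S : Subgroup Ω} [Finite S] {p : ℕ} [Fact p.Prime]
    (hS : IsPGroup p S) {F : Cfsg.FusionSystem S} {η : S →* Ω} (h : F.IsFactorSystem ⊥ η F)
    {T : Subgroup Ω} {E : Cfsg.FusionSystem T} (hE : E.IsLayerOf F p) (hT : T ≤ S)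
    {E' : Cfsg.FusionSystem (imageAlong η T)}
    (hE' : E.IsFactorSystem ⊥ (η.comp (Subgroup.inclusion hT)) E') : E.IsSubsystemOf E' := by
  refine hE.2.2 _ E' (Iso.isNormalIn h hT hS hE' hE.1) fun U C hC => ?_
  have hi := Iso.symm h
  have hU : U ≤ S := le_of_isSubsystemOf (isSubsystemOf_of_subnormal hC.1)
  obtain ⟨C₀, hC₀⟩ := Iso.exists_image hi hU C
  have : Finite U := finite_of_le hU
  have hsub : C₀.IsSubsystemOf E := hE.2.1 _ C₀
    ⟨Iso.isSubnormalIn hS hi hU hC₀ hC.1, Iso.quasisimple hC₀ (hS.to_le hU) hC.2⟩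
  intro P φ hφ
  have hPS : P ≤ S := (src_le hφ).trans hU
  obtain ⟨ψ, hψ, hx⟩ := Iso.exists_map_sub hU hC₀ hφ
  obtain ⟨φ', hφ', hx'⟩ := Iso.exists_map_sub hT hE' (hsub _ hψ)
  have e : P ≤ imageAlong η (imageAlong (Iso.invHom h) P) := by
    rw [Iso.imageAlong_invHom h, Iso.image_preimage h hPS]
  refine mem_of_restrict hφ' e fun x => ?_
  obtain ⟨z, hz⟩ := h.2.2.1.ge (hPS x.2)
  obtain ⟨w, hw⟩ := h.2.2.1.ge (hU (val_mem hφ x))
  have e1 : Iso.invHom h ⟨x, hPS x.2⟩ = z :=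
    (congrArg (Iso.invHom h) (Subtype.ext hz.symm)).trans (Iso.invHom_apply h z (Iso.map_mem h z))
  have hzm : (z : Ω) ∈ imageAlong (Iso.invHom h) P := ⟨⟨x, hPS x.2⟩, x.2, e1⟩
  have hψz : ψ ⟨z, hzm⟩ = w := by
    refine Eq.trans (congrArg ψ (Subtype.ext e1.symm)) ((hx x (e1.symm ▸ hzm)).trans ?_)
    exact (congrArg (Iso.invHom h) (Subtype.ext hw.symm)).trans
      (Iso.invHom_apply h w (Iso.map_mem h w))
  refine Eq.trans hw.symm ?_
  refine Eq.trans (congrArg η (Subtype.ext hψz.symm)) ((hx' ⟨z, hzm⟩ ?_).symm.trans ?_)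
  · exact ⟨z, hzm, rfl⟩
  · exact congrArg φ' (Subtype.ext hz)

/-- The layer of a saturated fusion system F over a finite p-group S is characteristic in F: for every automorphism α of S that is an automorphism of F (α and its inverse are morphisms from F to F) and every layer E of F over T, α carries T onto T and, for every map φ of E with source P, the map induced by α on α(P) (that is, α ∘ φ ∘ α⁻¹) is a map of E. -/
theorem result {Ω : Type*} [Group Ω] {S : Subgroup Ω} [Finite S] (p : ℕ) [Fact p.Prime] (hS : IsPGroup p S) (F : Cfsg.FusionSystem S) (hF : F.IsSaturated p)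
    (α : ↥S ≃* ↥S) (hα : F.IsMorphism F (S.subtype.comp α.toMonoidHom))
    (hα' : F.IsMorphism F (S.subtype.comp α.symm.toMonoidHom))
    {T : Subgroup Ω} (E : Cfsg.FusionSystem T) (hE : E.IsLayerOf F p) :
    Cfsg.FusionSystem.imageAlong (S.subtype.comp α.toMonoidHom) T = T ∧
      ∀ (P : Subgroup Ω) (φ : ↥P →* Ω), φ ∈ E.Hom P →
        ∀ φ' : ↥(Cfsg.FusionSystem.imageAlong (S.subtype.comp α.toMonoidHom) P) →* Ω,
          Cfsg.FusionSystem.InducedAlong (S.subtype.comp α.toMonoidHom) φ φ' →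
            φ' ∈ E.Hom (Cfsg.FusionSystem.imageAlong (S.subtype.comp α.toMonoidHom) P) := by
  have h : F.IsFactorSystem ⊥ (S.subtype.comp α.toMonoidHom) F := by
    refine ⟨bot_le, fun s => ?_, ?_, fun P φ' => ⟨fun hφ' => ⟨src_le hφ', ?_⟩, ?_⟩⟩
    · refine ⟨fun h1 => ?_, fun h1 => ?_⟩
      · have h2 : α s = 1 := Subtype.ext h1
        rw [Subgroup.mem_bot, (map_eq_one_iff _ α.injective).1 h2]
        rfl
      · show ((α s : S) : Ω) = 1
        rw [show s = 1 from Subtype.ext (Subgroup.mem_bot.1 h1), map_one]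
        rfl
    · rw [MonoidHom.range_comp, MonoidHom.range_eq_top.2 α.surjective, ← MonoidHom.range_eq_map,
        S.range_subtype]
    · obtain ⟨ψ, hψ, hP, hφS, hmem, hind⟩ := hα'.2 P φ' hφ'
      have hle : preimageAlong (S.subtype.comp α.toMonoidHom) P ≤
          imageAlong (S.subtype.comp α.symm.toMonoidHom) P := fun z hz => by
        obtain ⟨hzS, hm⟩ := (mem_preimageAlong _).1 hz
        exact ⟨α ⟨z, hzS⟩, hm, congrArg Subtype.val (α.symm_apply_apply ⟨z, hzS⟩)⟩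
      refine ⟨_, restrict_mem hψ hle, preimageAlong_le _ _, fun z => val_mem hψ _,
        fun z => ((mem_preimageAlong _).1 z.2).2, fun z => ?_⟩
      obtain ⟨hzS, hm⟩ := (mem_preimageAlong _).1 z.2
      have h1 := hind ⟨_, hm⟩
      have e2 : ψ ⟨z, hle z.2⟩ = ((α.symm ⟨φ' ⟨_, hm⟩, hφS _⟩ : S) : Ω) :=
        (congrArg ψ (Subtype.ext (congrArg Subtype.val (α.symm_apply_apply ⟨z, hzS⟩)).symm)).trans h1
      show φ' ⟨_, hm⟩ = ((α ⟨ψ ⟨z, hle z.2⟩, _⟩ : S) : Ω)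
      simp only [e2]
      exact (congrArg Subtype.val (α.apply_symm_apply ⟨φ' ⟨_, hm⟩, hφS _⟩)).symm
    · rintro ⟨hP, φ, hφ, hPS, hφS, hmem, hind⟩
      obtain ⟨χ, hχ, _, _, hm', hx⟩ := hα.2 _ φ hφ
      refine mem_of_restrict (R := P) hχ (fun y hy => ?_) fun y => ?_
      · refine ⟨α.symm ⟨y, hP hy⟩, (mem_preimageAlong _).2 ⟨SetLike.coe_mem _, ?_⟩,
          congrArg Subtype.val (α.apply_symm_apply _)⟩
        show ((α (α.symm ⟨y, hP hy⟩) : S) : Ω) ∈ P
        rw [MulEquiv.apply_symm_apply]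
        exact hy
      · obtain ⟨y, hy⟩ := y
        have e : ((α (α.symm ⟨y, hP hy⟩) : S) : Ω) = y :=
          congrArg Subtype.val (α.apply_symm_apply _)
        have ey : ((α (α.symm ⟨y, hP hy⟩) : S) : Ω) ∈ P := by rw [e]; exact hy
        have hu : ((α.symm ⟨y, hP hy⟩ : S) : Ω) ∈
            preimageAlong (S.subtype.comp α.toMonoidHom) P :=
          (mem_preimageAlong _).2 ⟨SetLike.coe_mem _, ey⟩
        exact (congrArg φ' (Subtype.ext e.symm)).trans
          ((hind ⟨_, hu⟩).trans ((hx ⟨_, hu⟩).symm.trans (congrArg χ (Subtype.ext e))))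
  have hT : T ≤ S := hE.1.1.2.2.2.1.1
  obtain ⟨E₁, hE₁⟩ := Iso.exists_image (Iso.symm h) hT E
  have hle₁ := layer_le_image hS (Iso.symm h) hE hT hE₁
  have hTle : imageAlong (S.subtype.comp α.toMonoidHom) T ≤ T := by
    rintro _ ⟨x, hx, rfl⟩
    have h1 := le_of_isSubsystemOf hle₁ hx
    rw [Iso.imageAlong_invHom h] at h1
    obtain ⟨_, hm⟩ := (mem_preimageAlong _).1 h1
    exact hm
  have : Finite T := finite_of_le hT
  refine ⟨Subgroup.eq_of_le_of_card_ge hTle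
    (le_of_eq (Nat.card_congr (Iso.equivImage h hT).toEquiv)), fun P φ hφ φ' hφ' => ?_⟩
  obtain ⟨hP, hφS, hmem, hind⟩ := hφ'
  obtain ⟨hpre, ψ, hψ, hx⟩ := Iso.exists_map_pre (Iso.symm h) hT hE₁ (hle₁ P hφ)
  refine mem_of_restrict hψ (Iso.preimageAlong_invHom h).ge fun y => ?_
  obtain ⟨z, hzP, hzy⟩ := y.2
  have ey : y = ⟨S.subtype.comp α.toMonoidHom z, ⟨z, hzP, rfl⟩⟩ := Subtype.ext hzy.symm
  subst ey
  refine (hind ⟨z, hzP⟩).trans ?_
  have hym : (S.subtype.comp α.toMonoidHom z) ∈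
      preimageAlong (Iso.invHom h) P := (Iso.preimageAlong_invHom h).ge ⟨z, hzP, rfl⟩
  have hψS : ψ ⟨_, hym⟩ ∈ S := hT (val_mem hψ _)
  have h3 := hx ⟨_, hym⟩ ((Iso.invHom_apply h z _).symm ▸ hzP) hψS
  have h4 : φ ⟨z, hzP⟩ = Iso.invHom h ⟨ψ ⟨_, hym⟩, hψS⟩ :=
    (congrArg φ (Subtype.ext (Iso.invHom_apply h z (Iso.map_mem h z)).symm)).trans h3
  obtain ⟨w, hw⟩ := h.2.2.1.ge hψS
  refine Eq.trans ?_ hw
  refine congrArg (S.subtype.comp α.toMonoidHom) (Subtype.ext ?_)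
  show φ ⟨z, hzP⟩ = (w : Ω)
  rw [h4]
  exact (congrArg (Iso.invHom h) (Subtype.ext hw.symm)).trans
    (Iso.invHom_apply h w (Iso.map_mem h w))

end Cfsg.Agent.S5311
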