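import Cfsg.Statements.S5198
import Cfsg.Agent.Lib.Fusion.ModT
import Cfsg.Agent.Lib.Transfer.PResidual

set_option autoImplicit false
open Pointwise
open Cfsg

namespace Cfsg.Agent.S5198

open Cfsg.FusionSystem
open Cfsg.Agent.Lib.Fusion

/-- Let F be a saturated fusion system over a finite p-group S and T a subgroup of S strongly closed in F (so T is normal in S). Then every element x of the hyperfocal subgroup of F acts on T by conjugation as an element of O^p(Aut_F(T))·Inn(T): there is an automorphism of T in the subgroup generated by the elements of Aut_F(T) of order prime to p together with the inner automorphisms of T that agrees with conjugation by x. -/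
theorem result {Ω : Type*} [Group Ω] {S : Subgroup Ω} [Finite S] (p : ℕ) [Fact p.Prime] (hS : IsPGroup p S) (F : Cfsg.FusionSystem S) (hF : F.IsSaturated p) (T : Subgroup Ω) (hT : F.StronglyClosed T) : ∀ x ∈ F.hyperfocalSubgroup p, ∃ α ∈ ((Cfsg.pResidual p ↥(F.autGroup T)).map (F.autGroup T).subtype ⊔ Cfsg.Inn ↥T : Subgroup (MulAut ↥T)), ∀ t : ↥T, ((α t : ↥T) : Ω) = x * (t : Ω) * x⁻¹ := by
  have : Finite T := finite_of_le hT.1
  have : Finite (MulAut T) := finite_mulAut hT.1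
  set O := (Cfsg.pResidual p ↥(F.autGroup T)).map (F.autGroup T).subtype with hO
  set M := O ⊔ Cfsg.Inn ↥T with hM
  let cT : S →* MulAut T :=
    (Subgroup.normalizerMonoidHom T).comp (Subgroup.inclusion (stronglyClosed_le_normalizer hT))
  have hcT : ∀ (s : S) (t : T), (cT s t : Ω) = s * (t : Ω) * (s : Ω)⁻¹ := fun _ _ => rfl
  have hcA : ∀ s : S, cT s ∈ F.autGroup T := fun s =>
    autInducedBy_le_autGroup hT.1 (mem_autInducedBy.2 ⟨s, s.2, hcT s⟩)
  have hcI : ∀ (s : S), (s : Ω) ∈ T → cT s ∈ M := fun s hs =>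
    Subgroup.mem_sup_right ⟨⟨s, hs⟩, by ext t; rfl⟩
  suffices h : F.hyperfocalSubgroup p ≤ (M.comap cT).map S.subtype by
    intro x hx
    obtain ⟨s, hs, rfl⟩ := h hx
    exact ⟨cT s, hs, hcT s⟩
  rw [hyperfocalSubgroup, Subgroup.closure_le]
  rintro _ ⟨P, α, x, hP, hα, rfl⟩
  refine ⟨(⟨x, hP x.2⟩ : S)⁻¹ * ⟨_, hP ((α : MulAut P) x).2⟩, ?_, rfl⟩
  show cT _ ∈ M
  revert x
  have hinv : ∀ (a : F.autGroup P), (∀ x : P,
      cT ((⟨x, hP x.2⟩ : S)⁻¹ * ⟨_, hP ((a : MulAut P) x).2⟩) ∈ M) → ∀ x : P,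
      cT ((⟨x, hP x.2⟩ : S)⁻¹ * ⟨_, hP (((a⁻¹ : F.autGroup P) : MulAut P) x).2⟩) ∈ M := by
    intro a ha x
    have h := M.inv_mem (ha ((a : MulAut P).symm x))
    rw [← map_inv] at h
    have he : ((a⁻¹ : F.autGroup P) : MulAut P) x = (a : MulAut P).symm x := rfl
    simpa [he, mul_inv_rev] using h
  refine Subgroup.closure_induction (p := fun a _ => ∀ x : P,
      cT ((⟨x, hP x.2⟩ : S)⁻¹ * ⟨_, hP ((a : MulAut P) x).2⟩) ∈ M) ?_ ?_ ?_ ?_ hα
  · intro a ha x
    have : Finite P := finite_of_le hP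
    obtain ⟨ψ, hψ, -, hd⟩ := exists_map_sup_stronglyClosed hS hF hT (autGroup_hom_mem hP a.2)
    have hPT : P ⊔ T ≤ S := sup_le hP hT.1
    have : Finite ↥(P ⊔ T) := finite_of_le hPT
    have : Finite (MulAut ↥(P ⊔ T)) := finite_mulAut hPT
    obtain ⟨Ψ, hΨ, hΨe⟩ := exists_aut_of_hom hψ (by
      intro z
      obtain ⟨u, hu, t, ht, hut⟩ := (mem_sup_stronglyClosed hT hP).1 z.2
      rw [show z = Subgroup.inclusion le_sup_left ⟨u, hu⟩ * Subgroup.inclusion le_sup_right ⟨t, ht⟩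
        from Subtype.ext hut.symm, map_mul]
      refine mul_mem ?_ (Subgroup.mem_sup_right (stronglyClosed_map hT hψ _ ht))
      rw [← inv_mul_cancel_right (ψ _) (((a : MulAut P) ⟨u, hu⟩ : P) : Ω)]
      exact mul_mem (Subgroup.mem_sup_right (hd ⟨u, hu⟩)) (Subgroup.mem_sup_left (SetLike.coe_mem _)))
    have hTmap : ∀ (B : F.autGroup (P ⊔ T)) (z : ↥(P ⊔ T)), (z : Ω) ∈ T →
        (((B : MulAut ↥(P ⊔ T)) z) : Ω) ∈ T := fun B z hz =>
      stronglyClosed_map hT (autGroup_hom_mem hPT B.2) z hz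
    let Rel : F.autGroup (P ⊔ T) → F.autGroup P → Prop := fun B b => ∀ u : P,
      (((B : MulAut ↥(P ⊔ T)) (Subgroup.inclusion le_sup_left u)) : Ω) *
        (((b : MulAut P) u : P) : Ω)⁻¹ ∈ T
    have hpow : ∀ n, Rel (⟨Ψ, hΨ⟩ ^ n) (a ^ n) := by
      intro n
      induction n with
      | zero => intro u; simp
      | succ n ih =>
        intro u
        rw [pow_succ', pow_succ']
        set B : MulAut ↥(P ⊔ T) := (((⟨Ψ, hΨ⟩ ^ n : F.autGroup (P ⊔ T))) : MulAut ↥(P ⊔ T))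
        set b : MulAut P := (((a ^ n : F.autGroup P)) : MulAut P)
        have h1 := ih u
        set d : ↥(P ⊔ T) := B (Subgroup.inclusion le_sup_left u) *
          (Subgroup.inclusion le_sup_left (b u))⁻¹ with hddef
        have h2 : ((Ψ d : ↥(P ⊔ T)) : Ω) ∈ T := hTmap ⟨Ψ, hΨ⟩ d h1
        have h3 := hd (b u)
        have h4 : Ψ (B (Subgroup.inclusion le_sup_left u)) =
            Ψ d * Ψ (Subgroup.inclusion le_sup_left (b u)) := by
          rw [← map_mul, hddef, inv_mul_cancel_right]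
        show ((Ψ (B (Subgroup.inclusion le_sup_left u)) : ↥(P ⊔ T)) : Ω) *
          (((a : MulAut P) (b u) : P) : Ω)⁻¹ ∈ T
        rw [h4, Subgroup.coe_mul, mul_assoc]
        refine mul_mem h2 ?_
        rw [hΨe]
        exact h3
    obtain ⟨k, hk⟩ := Cfsg.Agent.Lib.Transfer.exists_pow_coprime (p := p)
      (⟨Ψ, hΨ⟩ : F.autGroup (P ⊔ T))
    have hac : (orderOf a).Coprime p := ha
    obtain ⟨e, he⟩ := exists_pow_eq_self_of_coprime (x := a) (n := p ^ k)
      (Nat.Coprime.pow_left k hac.symm)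
    set B : F.autGroup (P ⊔ T) := (⟨Ψ, hΨ⟩ ^ p ^ k) ^ e with hB
    have hBrel : Rel B a := by
      have := hpow (p ^ k * e)
      rw [pow_mul, pow_mul, he] at this
      exact this
    have hBc : (orderOf B).Coprime p :=
      Nat.Coprime.coprime_dvd_left (orderOf_pow_dvd _) hk
    obtain ⟨β, hβA, hβe⟩ := exists_aut_of_hom
      (restrict_mem (autGroup_hom_mem hPT B.2) (le_sup_right : T ≤ P ⊔ T))
      (fun t => hTmap B _ t.2)
    have hβn : ∀ (n : ℕ) (t : T), (((β ^ n) t : T) : Ω) =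
        ((((B ^ n : F.autGroup (P ⊔ T)) : MulAut ↥(P ⊔ T))
          (Subgroup.inclusion le_sup_right t) : ↥(P ⊔ T)) : Ω) := by
      intro n
      induction n with
      | zero => intro t; rfl
      | succ n ih =>
        intro t
        rw [pow_succ, pow_succ, MulAut.mul_apply, ih, Subgroup.coe_mul, MulAut.mul_apply]
        congr 2
        exact Subtype.ext (hβe t)
    have hβc : (orderOf (⟨β, hβA⟩ : F.autGroup T)).Coprime p := by
      refine Nat.Coprime.coprime_dvd_left (orderOf_dvd_of_pow_eq_one ?_) hBc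
      apply Subtype.ext
      ext t
      rw [Subgroup.coe_pow, hβn, pow_orderOf_eq_one]
      rfl
    have hβO : β ∈ O := ⟨⟨β, hβA⟩, Cfsg.Agent.Lib.Transfer.mem_pResidual_of_coprime hβc, rfl⟩
    set s : S := ⟨x, hP x.2⟩
    have hBS : ((((B : MulAut ↥(P ⊔ T)) (Subgroup.inclusion le_sup_left x)) : ↥(P ⊔ T)) : Ω) ∈ S :=
      hPT (SetLike.coe_mem _)
    have hconj : cT ⟨_, hBS⟩ = β * cT s * β⁻¹ := by
      rw [eq_mul_inv_iff_mul_eq]
      ext t
      simp only [MulAut.mul_apply, hcT, hβe, MonoidHom.comp_apply, autHom_apply]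
      rw [show Subgroup.inclusion (le_sup_right : T ≤ P ⊔ T) (cT s t) =
        Subgroup.inclusion le_sup_left x * Subgroup.inclusion le_sup_right t *
          (Subgroup.inclusion le_sup_left x)⁻¹ from Subtype.ext rfl]
      simp
    set d : S := ⟨_, hBS⟩ * (⟨_, hP ((a : MulAut P) x).2⟩ : S)⁻¹
    have hdT : (d : Ω) ∈ T := hBrel x
    have hdec : (s⁻¹ * ⟨_, hP ((a : MulAut P) x).2⟩ : S) =
        (s⁻¹ * d⁻¹ * s) * (s⁻¹ * ⟨_, hBS⟩) := by
      simp [d, mul_assoc]
    rw [hdec, map_mul]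
    refine M.mul_mem (hcI _ ?_) ?_
    · have := stronglyClosed_conj hT (S.inv_mem s.2) (inv_mem hdT)
      simpa using this
    · rw [map_mul, map_inv, hconj]
      rw [show (cT s)⁻¹ * (β * cT s * β⁻¹) = (cT s)⁻¹ * β * cT s * β⁻¹ by simp only [mul_assoc]]
      refine M.mul_mem ?_ (Subgroup.mem_sup_left (inv_mem hβO))
      refine Subgroup.mem_sup_left ?_
      obtain ⟨b, hb, hbe⟩ := hβO
      refine ⟨⟨(cT s)⁻¹, inv_mem (hcA s)⟩ * b * ⟨(cT s)⁻¹, inv_mem (hcA s)⟩⁻¹,
        Cfsg.Agent.Lib.Transfer.pResidual_normal.conj_mem b hb _, ?_⟩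
      rw [map_mul, map_mul, map_inv, hbe]
      simp [mul_assoc]
  · intro x
    show cT ((⟨x, hP x.2⟩ : S)⁻¹ * ⟨x, _⟩) ∈ M
    rw [inv_mul_cancel, map_one]
    exact one_mem M
  · intro a b _ _ ha hb x
    have := M.mul_mem (hb x) (ha ((b : MulAut P) x))
    rw [← map_mul, mul_assoc, mul_inv_cancel_left] at this
    exact this
  · exact fun a _ ha => hinv a ha

end Cfsg.Agent.S5198
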