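import Cfsg.Statements.S5199
import Cfsg.Agent.Lib.Fusion.Alperin
import Cfsg.Agent.Lib.Fusion.CapSystem
import Cfsg.Agent.Lib.Fusion.Hyperfocal

set_option autoImplicit false
open Cfsg Cfsg.FusionSystem Cfsg.Agent.Lib Cfsg.Agent.Lib.Fusion

namespace Cfsg.Agent.S5199

/-- Let F be a saturated fusion system over a finite p-group S, E a normal subsystem of F over T, and F₀ a normal subsystem of F over a subgroup U containing both T and the hyperfocal subgroup of F, such that F₀ has p-power index in F. Then E is a subsystem of F₀. -/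
theorem result {Ω : Type*} [Group Ω] {S : Subgroup Ω} [Finite S] (p : ℕ) [Fact p.Prime] (hS : IsPGroup p S) (F : Cfsg.FusionSystem S) (hF : F.IsSaturated p) {T U : Subgroup Ω} (E : Cfsg.FusionSystem T) (hE : E.IsNormalIn F p) (F₀ : Cfsg.FusionSystem U) (hF₀ : F₀.IsNormalIn F p) (hU : T ⊔ F.hyperfocalSubgroup p ≤ U) (hidx : F₀.HasPPowerIndexIn F p) : E.IsSubsystemOf F₀ := by
  obtain ⟨⟨hEs, -, hEF, ⟨hTS, -⟩, -, -⟩, -⟩ := hE
  obtain ⟨⟨hF₀s, -, hF₀F, ⟨hUS, -⟩, -, -⟩, -⟩ := hF₀
  have hTU : T ≤ U := le_sup_left.trans hU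
  have : Finite T := finite_of_le hTS
  have hTp : IsPGroup p T := hS.to_le hTS
  suffices H : E ≤ interSystem E (capSystem F₀ hTU) from fun P φ hφ => (H P hφ).2.1
  have haut : ∀ P : Subgroup Ω, E.IsFullyAutomized p P →
      E.autGroup P ≤ (interSystem E (capSystem F₀ hTU)).autGroup P := by
    intro P hP β hβ
    have hPT := hP.1
    have hmem : β ∈ F₀.autGroup P → β ∈ (interSystem E (capSystem F₀ hTU)).autGroup P := fun hb =>
      (mem_autGroup hPT).2 ⟨autGroup_hom_mem hPT hβ, autGroup_hom_mem (hPT.trans hTU) hb, hPT,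
        fun x => hPT (β x).2⟩
    refine hmem ?_
    have : Finite P := finite_of_le hPT
    have := finite_mulAut (S := T) hPT
    have hsylow := (isFullyAutomized_iff.mp hP).2
    have hq := Cfsg.Agent.Lib.Transfer.isPGroup_quotient_pResidual (G := E.autGroup P) (p := p)
    have hdiv : ((pResidual p (E.autGroup P)) ⊔ hsylow.toSylow.1 : Subgroup (E.autGroup P)) = ⊤ := by
      rw [← Subgroup.index_eq_one]
      obtain ⟨k, hk⟩ := hq.exists_card_eq
      have hd1 := Subgroup.index_dvd_of_le (le_sup_left :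
        pResidual p (E.autGroup P) ≤ pResidual p (E.autGroup P) ⊔ hsylow.toSylow.1)
      have hd2 := Subgroup.index_dvd_of_le (le_sup_right :
        hsylow.toSylow.1 ≤ pResidual p (E.autGroup P) ⊔ hsylow.toSylow.1)
      rw [show (pResidual p (E.autGroup P)).index = p ^ k from
        (Subgroup.index_eq_card _).trans hk] at hd1
      obtain ⟨j, -, hj⟩ := (Nat.dvd_prime_pow Fact.out).mp hd1
      rcases Nat.eq_zero_or_pos j with rfl | hj0
      · rw [hj, pow_zero]
      · exact absurd ((dvd_pow_self p hj0.ne').trans (hj ▸ hd2)) hsylow.toSylow.not_dvd_index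
    have hle : (⊤ : Subgroup (E.autGroup P)) ≤ (F₀.autGroup P).comap (E.autGroup P).subtype := by
      rw [← hdiv]
      refine sup_le ?_ ?_
      · refine (Subgroup.closure_le _).2 fun γ hγ => ?_
        have hγF : (γ : MulAut P) ∈ F.autGroup P := autGroup_mono hEF P γ.2
        refine hidx.2.2 P (hPT.trans hTU) ⟨⟨γ, hγF⟩, Subgroup.subset_closure ?_, rfl⟩
        show Nat.Coprime (orderOf (⟨γ, hγF⟩ : F.autGroup P)) p
        rw [← Subgroup.orderOf_coe]
        rwa [Set.mem_setOf_eq, ← Subgroup.orderOf_coe] at hγ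
      · rw [IsSylowIn.coe_toSylow]
        intro γ hγ
        exact autInducedBy_le_autGroup (hPT.trans hTU) (autInducedBy_mono hTU (hγ : _))
    exact hle (Subgroup.mem_top (⟨β, hβ⟩ : E.autGroup P))
  exact le_of_autGroup_le hTp hEs _
    (haut T (isFullyAutomized_of_isFullyNormalized hTp hEs (isFullyNormalized_top E)))
    fun P hP => haut P (isFullyAutomized_of_isFullyNormalized hTp hEs hP.2.1)

end Cfsg.Agent.S5199
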