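import Cfsg.Statements.S5193
import Cfsg.Agent.Lib.Fusion.GlaubermanJ

set_option autoImplicit false
open Cfsg Cfsg.FusionSystem Cfsg.Agent.Lib.Fusion

namespace Cfsg.Agent.S5193

/-- Glauberman's Theorem for fusion systems. Let F be a saturated fusion system over a finite p-group S, let J(S) be the subgroup generated by the abelian subgroups of S of largest order, and let N be the normalizer fusion system of J(S) in F (a fusion system over N_S(J(S)) = S). Then every p-th power of an element of Z(S) that lies in the centre of N lies in the centre of F; and if p is odd, or if the symmetric group of degree 4 is not involved in any model of the normalizer system of a fully normalized F-centric subgroup (F is S₄-free), then the centre of N equals the centre of F. -/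
theorem result {Ω : Type*} [Group Ω] {S : Subgroup Ω} [Finite S] (p : ℕ) [Fact p.Prime] (hS : IsPGroup p S) (F : Cfsg.FusionSystem S) (hF : F.IsSaturated p) (N : Cfsg.FusionSystem (Cfsg.FusionSystem.normalizerIn S (Cfsg.thompsonSubgroupAOf S))) (hN : F.IsNormalizerSystem (Cfsg.thompsonSubgroupAOf S) N) : Subgroup.closure ((fun z : Ω => z ^ p) '' ((S ⊓ Subgroup.centralizer (S : Set Ω) : Subgroup Ω) : Set Ω)) ⊓ N.center ≤ F.center ∧ (p ≠ 2 ∨ F.IsSectionFree p (Equiv.Perm (Fin 4)) → N.center = F.center) := by
  have hJn : normalizerIn S (thompsonSubgroupAOf S) = S :=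
    normalizerIn_eq_self_of_characteristic (thompsonSubgroupAOf_le S)
      (thompsonSubgroupAOf_characteristic S)
  refine ⟨?_, fun h => le_antisymm (fun z hz => ?_) ?_⟩
  · rintro z ⟨hz, hzN⟩
    refine mem_center_of_functor p (fun Q [Group Q] => thompsonSubgroupA Q)
      (isPositive_thompsonA p) (isFunctorial_thompsonA p)
      (fun _ => True) (fun _ _ h => h) (fun _ h => h) ?_ hS hF trivial hN hzN ?_
    · intro Ω₁ _ S₁ _ F₁ _ L _ _ ι P _ _ _ hc z hzP hk hfix g
      obtain ⟨y, hy, rfl⟩ := hk
      exact central_of_thompsonA P hc hy (pow_mem (Subgroup.mem_zpowers y) p)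
        (Or.inr (Or.inl rfl)) hfix g
    · clear hzN
      induction hz using Subgroup.closure_induction with
      | mem x hx =>
        obtain ⟨y, hy, rfl⟩ := hx
        exact ⟨y, hy, rfl⟩
      | one => exact ⟨1, one_mem _, one_pow p⟩
      | mul a b _ _ ha hb =>
        obtain ⟨y, hy, rfl⟩ := ha
        obtain ⟨w, hw, rfl⟩ := hb
        exact ⟨y * w, mul_mem hy hw,
          (show Commute y w from (Subgroup.mem_centralizer_iff.mp hy.2 w hw.1).symm).mul_pow p⟩
      | inv a _ ha =>
        obtain ⟨y, hy, rfl⟩ := ha
        exact ⟨y⁻¹, inv_mem hy, inv_pow y p⟩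
  · haveI := finite_normalizerIn (S := S) (thompsonSubgroupAOf S)
    have hz' := mem_center_of_mem_center hz
    rw [hJn] at hz'
    refine mem_center_of_functor 1 (fun Q [Group Q] => thompsonSubgroupA Q)
      (isPositive_thompsonA p) (isFunctorial_thompsonA p)
      (fun F => IsOddOrFree p F) (fun hTS hEF h => h.imp_right fun h hw => h (hw.mono hTS hEF))
      (fun hE h => h.imp_right fun h hw => h (hw.of_factor hE))
      ?_ hS hF (isOddOrFree_of_sectionFree hS hF h) hN hz ⟨z, hz', pow_one z⟩
    intro Ω₁ _ S₁ _ F₁ _ L _ _ ι P hP hr hfree hc z hzP _ hfix g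
    exact central_of_thompsonA P hc hzP (Subgroup.mem_zpowers z)
      ((hfree.not_involves hr P hP).imp_right Or.inr) hfix g
  · exact center_le_normalizer_center hJn hN

end Cfsg.Agent.S5193
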