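import Cfsg.Statements.S3412
import Mathlib
import Cfsg.Agent.Lib.Compute.Perm
import Cfsg.Agent.Lib.LinGroup.Simple
import Cfsg.Agent.Lib.LinGroup.Order
import Cfsg.Agent.Lib.Recognition.GraphCheckL33Cert
import Cfsg.Agent.Lib.Recognition.GraphCheckL33Aut

set_option autoImplicit false
open Cfsg

namespace Cfsg.Agent.S3412

open Cfsg.Agent.Lib Cfsg.Agent.Lib.Compute CommGraphData

local notation "SL3" => Matrix.SpecialLinearGroup (Fin 3) (ZMod 3)
local notation "PSL3" => Matrix.ProjectiveSpecialLinearGroup (Fin 3) (ZMod 3)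

/-- The action on the 27 vectors. -/
def vecPerm (g : SL3) : Equiv.Perm (Fin 3 → ZMod 3) where
  toFun v := Matrix.mulVec g.1 v
  invFun v := Matrix.mulVec (g⁻¹).1 v
  left_inv v := by
    show Matrix.mulVec (g⁻¹).1 (Matrix.mulVec g.1 v) = v
    rw [Matrix.mulVec_mulVec, ← Matrix.SpecialLinearGroup.coe_mul, inv_mul_cancel]
    simp
  right_inv v := by
    show Matrix.mulVec g.1 (Matrix.mulVec (g⁻¹).1 v) = v
    rw [Matrix.mulVec_mulVec, ← Matrix.SpecialLinearGroup.coe_mul, mul_inv_cancel]
    simp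

/-- The action as a homomorphism. -/
def vecHom : SL3 →* Equiv.Perm (Fin 3 → ZMod 3) where
  toFun := vecPerm
  map_one' := Equiv.ext fun v => by simp [vecPerm]
  map_mul' a b := Equiv.ext fun v => by simp [vecPerm, Matrix.mulVec_mulVec]

theorem vecHom_injective : Function.Injective vecHom := fun a b h =>
  Subtype.ext (Matrix.ext_iff_mulVec.mpr fun v => Equiv.ext_iff.mp h v)

/-- The numbering of the vectors. -/
def vecEquiv : (Fin 3 → ZMod 3) ≃ Fin 27 := (finFunctionFinEquiv : (Fin 3 → Fin 3) ≃ Fin (3 ^ 3))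

/-- The coding of permutations of the vectors. -/
noncomputable def vecCoding : Coding (Equiv.Perm (Fin 3 → ZMod 3)) (permOps 8 27) :=
  permCoding 8 vecEquiv (by norm_num)

/-- The first generator. -/
def gA : SL3 := ⟨!![1, 1, 0; 0, 1, 0; 0, 0, 1], by decide +kernel⟩

/-- The second generator. -/
def gB : SL3 := ⟨!![0, 0, 1; 1, 0, 0; 0, 1, 0], by decide +kernel⟩

theorem enc_gA : vecCoding.enc (vecHom gA) = (l33Gens.getD 0 (0, 0)).1 ∧
    vecCoding.enc (vecHom gA)⁻¹ = (l33Gens.getD 0 (0, 0)).2 := by decide +kernel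

theorem enc_gB : vecCoding.enc (vecHom gB) = (l33Gens.getD 1 (0, 0)).1 ∧
    vecCoding.enc (vecHom gB)⁻¹ = (l33Gens.getD 1 (0, 0)).2 := by decide +kernel

theorem gen_cases {p : ℕ × ℕ} (hp : p ∈ l33Gens) :
    ∃ g : SL3, vecCoding.enc (vecHom g) = p.1 ∧ vecCoding.enc (vecHom g)⁻¹ = p.2 := by
  obtain ⟨i, hi, rfl⟩ := List.getElem_of_mem hp
  have hl : l33Gens.length = 2 := rfl
  rcases (by omega : i = 0 ∨ i = 1) with rfl | rfl
  · exact ⟨gA, enc_gA⟩
  · exact ⟨gB, enc_gB⟩

theorem gensOK : GensOK vecCoding l33Gens := fun p hp =>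
  have ⟨g, h1, h2⟩ := gen_cases hp
  ⟨vecHom g, trivial, h1, h2⟩

theorem chain_ok : chainCheck (permOps 8 27) l33Gens l33Chain = true := by decide +kernel

theorem chain_size : chainSize l33Chain = 5616 := by decide +kernel

theorem card_SL3 : Nat.card SL3 = 5616 := by
  have h := LinGroup.card_SL_mul (F := ZMod 3) 3 (by norm_num)
  rw [ZMod.card, Fin.prod_univ_three] at h
  norm_num [-Nat.card_eq_fintype_card] at h
  omega

theorem card_PSL3 : Nat.card PSL3 = 5616 := by
  have h := LinGroup.card_PSL_mul (F := ZMod 3) 3 (by norm_num)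
  rw [ZMod.card, Fin.prod_univ_three] at h
  norm_num [-Nat.card_eq_fintype_card] at h
  omega

theorem genGroup_eq : genGroup vecCoding l33Gens = vecHom.range := by
  refine Subgroup.eq_of_le_of_card_ge ((Subgroup.closure_le _).mpr ?_) ?_
  · rintro g ⟨p, hp, hg⟩
    obtain ⟨a, h1, -⟩ := gen_cases hp
    exact ⟨a, vecCoding.inj (h1.trans hg.symm)⟩
  · rw [card_genGroup vecCoding gensOK chain_ok, chain_size,
      ← Nat.card_congr (MonoidHom.ofInjective vecHom_injective).toEquiv, card_SL3]

theorem noTwo {G : Type*} [Group G] [IsSimpleGroup G] (hG : Nat.card G ≠ 2) (S : Subgroup G) :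
    S.index ≠ 2 := by
  intro h
  have hN := Subgroup.normal_of_index_eq_two h
  rcases hN.eq_bot_or_eq_top with rfl | rfl
  · exact hG (Subgroup.index_bot.symm.trans h)
  · simp at h

theorem exists_iso : Nonempty (genGroup vecCoding l33Gens ≃* PSL3) := by
  let q : SL3 →* PSL3 := QuotientGroup.mk' _
  have hq : Function.Bijective q := (Nat.bijective_iff_surjective_and_card q).mpr
    ⟨QuotientGroup.mk'_surjective _, card_SL3.trans card_PSL3.symm⟩
  exact ⟨(MulEquiv.subgroupCongr genGroup_eq).trans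
    ((MonoidHom.ofInjective vecHom_injective).symm.trans (MulEquiv.ofBijective q hq))⟩

theorem main {H : Type*} [Group H] [Finite H]
    (f : {h : H // h ≠ 1} ≃ {g : genGroup vecCoding l33Gens // g ≠ 1})
    (hf : ∀ x y : {h : H // h ≠ 1}, (x : H) * y = y * x ↔
      (f x : genGroup vecCoding l33Gens) * f y = f y * f x) :
    Nonempty (H ≃* genGroup vecCoding l33Gens) := by
  obtain ⟨t, ht, hM, hdeg, hcov⟩ := CommGraph.of_cert vecCoding gensOK chain_ok
    (by rw [chain_size]; omega) l33GCert_ok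
  obtain ⟨F, hF1, hF⟩ := CommGraph.exists_extension f hf
  obtain ⟨e⟩ := exists_iso
  have : IsSimpleGroup PSL3 := LinGroup.isSimpleGroup_PSL_fin (by norm_num) (by norm_num)
  have : IsSimpleGroup (genGroup vecCoding l33Gens) := e.isSimpleGroup
  have hc : Nat.card (genGroup vecCoding l33Gens) = 5616 := by
    rw [card_genGroup vecCoding gensOK chain_ok, chain_size]
  have hA := GraphAut.card_autGroup_le rfl _ _ l33GAut_ok
  refine CommGraph.nonempty_mulEquiv l33GMask t ht hM 48 hdeg hcov ?_
    (noTwo (by rw [hc]; omega)) F hF1 hF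
  rw [hc]
  omega

/-- Let H be a finite group whose commuting graph (vertices the non-identity elements, two joined when they commute) is isomorphic to that of PSL_3(3): there is a bijection between the non-identity elements of H and of PSL_3(3) under which two elements commute exactly when their images do. Then H ≅ PSL_3(3). -/
theorem result {H : Type*} [Group H] [Finite H]
    (f : {h : H // h ≠ 1} ≃ {g : Matrix.ProjectiveSpecialLinearGroup (Fin 3) (ZMod 3) // g ≠ 1})
    (hf : ∀ x y : {h : H // h ≠ 1}, (x : H) * y = y * x ↔ ((f x) : Matrix.ProjectiveSpecialLinearGroup (Fin 3) (ZMod 3)) * (f y) = (f y) * (f x)) :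
    Nonempty (H ≃* Matrix.ProjectiveSpecialLinearGroup (Fin 3) (ZMod 3)) := by
  obtain ⟨e⟩ := exists_iso
  obtain ⟨i⟩ := main (f.trans (e.symm.toEquiv.subtypeEquiv fun g => by simp)) fun x y => by
    rw [hf]
    simp [← map_mul]
  exact ⟨i.trans e⟩

end Cfsg.Agent.S3412
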