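import Cfsg.Statements.S2381
import Cfsg.Agent.Lib.CrossChar.TorusSylow
import Cfsg.Agent.Lib.Classical.Symplectic
import Mathlib

set_option autoImplicit false
open Cfsg

namespace Cfsg.Agent.S2381

open Cfsg.Agent.Lib.CrossChar
open scoped Matrix

variable {F : Type*} [Field F]

/-- Block diagonal products of symplectic groups. -/
theorem exists_block_hom {n e a : ℕ} (h : e * a ≤ n) :
    ∃ Φ : (Fin a → ↥(Matrix.symplecticGroup (Fin e) F)) →* ↥(Matrix.symplecticGroup (Fin n) F),
      Function.Injective Φ := by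
  classical
  let f : (Fin e × Fin a) ⊕ Fin (n - e * a) ≃ Fin n :=
    Fintype.equivOfCardEq (by simp; omega)
  let ε : ((Fin e ⊕ Fin e) × Fin a) ⊕ (Fin (n - e * a) ⊕ Fin (n - e * a)) ≃ Fin n ⊕ Fin n :=
    ((Equiv.sumProdDistrib _ _ _).sumCongr (Equiv.refl _)).trans
      ((Equiv.sumSumSumComm _ _ _ _).trans (f.sumCongr f))
  let D : (Fin a → Matrix (Fin e ⊕ Fin e) (Fin e ⊕ Fin e) F) →*
      Matrix (((Fin e ⊕ Fin e) × Fin a) ⊕ (Fin (n - e * a) ⊕ Fin (n - e * a)))
        (((Fin e ⊕ Fin e) × Fin a) ⊕ (Fin (n - e * a) ⊕ Fin (n - e * a))) F :=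
    { toFun := fun M => Matrix.fromBlocks (Matrix.blockDiagonal M) 0 0 1
      map_one' := by simp [Matrix.fromBlocks_one]
      map_mul' := fun M N => by
        simp [Matrix.fromBlocks_multiply, ← Matrix.blockDiagonal_mul, Pi.mul_def] }
  let φ := ((Matrix.reindexAlgEquiv F F ε).toMonoidHom.comp D).comp
    (MonoidHom.piMap fun _ : Fin a => (Matrix.symplecticGroup (Fin e) F).subtype)
  have hJ : Matrix.reindex ε ε (Matrix.fromBlocks (Matrix.blockDiagonal fun _ : Fin a => Matrix.J (Fin e) F) 0 0
      (Matrix.J (Fin (n - e * a)) F)) = Matrix.J (Fin n) F := by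
    rw [← (Matrix.reindex ε ε).eq_symm_apply]
    ext x y
    rcases x with ⟨x | x, k⟩ | (x | x) <;> rcases y with ⟨y | y, l⟩ | (y | y) <;>
      simp [ε, Matrix.J, Matrix.blockDiagonal_apply, Matrix.one_apply, Prod.ext_iff, ite_and,
        apply_ite Neg.neg] <;>
      split_ifs <;> simp_all
  have hmem : ∀ g, φ g ∈ Matrix.symplecticGroup (Fin n) F := fun g => by
    rw [SymplecticGroup.mem_iff', ← hJ,
      show φ g = Matrix.reindex ε ε (Matrix.fromBlocks (Matrix.blockDiagonal fun k => (g k :
        Matrix (Fin e ⊕ Fin e) (Fin e ⊕ Fin e) F)) 0 0 1) from rfl]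
    simp only [Matrix.reindex_apply, Matrix.transpose_submatrix, Matrix.submatrix_mul_equiv]
    congr 1
    rw [Matrix.fromBlocks_transpose, Matrix.fromBlocks_multiply, Matrix.fromBlocks_multiply]
    simp only [Matrix.transpose_zero, Matrix.transpose_one, Matrix.zero_mul, Matrix.mul_zero, Matrix.one_mul,
      Matrix.mul_one, add_zero, zero_add]
    rw [Matrix.blockDiagonal_transpose, ← Matrix.blockDiagonal_mul, ← Matrix.blockDiagonal_mul]
    congr 2
    funext k
    exact SymplecticGroup.mem_iff'.1 (g k).2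
  refine ⟨φ.codRestrict (Matrix.symplecticGroup (Fin n) F) hmem, fun g h hgh => funext fun k => Subtype.ext ?_⟩
  have h1 := (Matrix.reindexAlgEquiv F F ε).injective (congrArg Subtype.val hgh)
  exact congrFun (Matrix.blockDiagonal_injective (Matrix.fromBlocks_inj.1 h1).1) k

/-- `GL_n` as the Levi subgroup of the Siegel parabolic of `Sp_{2n}`. -/
theorem exists_levi_hom (n : ℕ) :
    ∃ Φ : GL (Fin n) F →* ↥(Matrix.symplecticGroup (Fin n) F), Function.Injective Φ := by
  let φ : GL (Fin n) F →* Matrix (Fin n ⊕ Fin n) (Fin n ⊕ Fin n) F :=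
    { toFun := fun g => Matrix.fromBlocks (g : Matrix (Fin n) (Fin n) F) 0 0
        (((g⁻¹ : GL (Fin n) F) : Matrix (Fin n) (Fin n) F)ᵀ)
      map_one' := by simp [Matrix.fromBlocks_one]
      map_mul' := fun g h => by simp [Matrix.fromBlocks_multiply, Matrix.transpose_mul] }
  have hmem : ∀ g, φ g ∈ Matrix.symplecticGroup (Fin n) F := fun g => by
    rw [SymplecticGroup.mem_iff']
    have h1 : ((g⁻¹ : GL (Fin n) F) : Matrix (Fin n) (Fin n) F) * (g : Matrix (Fin n) (Fin n) F) = 1 := g.inv_mul
    have h2 : (g : Matrix (Fin n) (Fin n) F)ᵀ * (((g⁻¹ : GL (Fin n) F) : Matrix (Fin n) (Fin n) F)ᵀ) = 1 := by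
      rw [← Matrix.transpose_mul, h1, Matrix.transpose_one]
    show (Matrix.fromBlocks _ 0 0 _)ᵀ * Matrix.J (Fin n) F * Matrix.fromBlocks _ 0 0 _ = Matrix.J (Fin n) F
    simp only [Matrix.J, Matrix.fromBlocks_transpose, Matrix.fromBlocks_multiply, Matrix.transpose_zero,
      Matrix.transpose_transpose, Matrix.zero_mul, Matrix.mul_zero, Matrix.mul_one, Matrix.one_mul, add_zero,
      zero_add, Matrix.mul_neg, Matrix.neg_mul, neg_zero, h1, h2]
  exact ⟨φ.codRestrict (Matrix.symplecticGroup (Fin n) F) hmem, fun g h hgh =>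
    Units.ext (Matrix.fromBlocks_inj.1 (congrArg Subtype.val hgh)).1⟩

variable [Fintype F] {r q : ℕ} [Fact r.Prime]

/-- `d ∣ 2i` amounts to divisibility of `i` by this. -/
def half (d : ℕ) : ℕ := if 2 ∣ d then d / 2 else d

theorem half_pos {d : ℕ} (hd : 0 < d) : 0 < half d := by
  unfold half; split_ifs with h
  · obtain ⟨e, rfl⟩ := h; omega
  · exact hd

theorem dvd_two_mul_iff (d i : ℕ) : d ∣ 2 * i ↔ half d ∣ i := by
  unfold half; split_ifs with h
  · obtain ⟨e, rfl⟩ := h
    rw [Nat.mul_div_cancel_left e two_pos, Nat.mul_dvd_mul_iff_left two_pos]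
  · exact (Nat.Coprime.dvd_mul_left ((Nat.prime_two.coprime_iff_not_dvd.2 h).symm))

theorem factorization_card_sp (hF : Fintype.card F = q) (hr2 : r ≠ 2) {n : ℕ} (hrn : n < r) (hrq : ¬ r ∣ q) :
    (Nat.card ↥(Matrix.symplecticGroup (Fin n) F)).factorization r =
      n / half (orderOf (q : ZMod r)) * rExp r q := by
  have hq : 2 ≤ q := hF ▸ Fintype.one_lt_card
  obtain ⟨hd, -⟩ := orderOf_pos_dvd hrq
  set d := orderOf (q : ZMod r) with hdd
  rw [Lib.Classical.natCard_symplecticGroup, Nat.card_eq_fintype_card, hF]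
  have hne : ∀ i ∈ Finset.range n, q ^ (2 * (i + 1)) - 1 ≠ 0 := fun i _ => by
    have := hq.trans (Nat.le_self_pow (show 2 * (i + 1) ≠ 0 by omega) q)
    omega
  rw [Nat.factorization_mul (pow_ne_zero _ (by omega)) (Finset.prod_ne_zero_iff.2 hne), Finsupp.add_apply,
    Nat.factorization_eq_zero_of_not_dvd (fun h => hrq ((Fact.out : r.Prime).dvd_of_dvd_pow h)), zero_add,
    Nat.factorization_prod hne, Finsupp.coe_finset_sum, Finset.sum_apply]
  have h1 : ∀ i ∈ Finset.range n, (q ^ (2 * (i + 1)) - 1).factorization r =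
      if half d ∣ i + 1 then rExp r q else 0 := fun i hi => by
    rw [Finset.mem_range] at hi
    simp only [← dvd_two_mul_iff]
    split_ifs with hdi
    swap
    · exact Nat.factorization_eq_zero_of_not_dvd fun h =>
        hdi ((Lib.PPD.dvd_pow_sub_one_iff_orderOf_dvd (by omega) _).1 h)
    obtain ⟨m, hm⟩ := hdi
    have hmr : ¬ r ∣ m := fun ⟨c, hc⟩ => by
      subst hc
      have hr := (Fact.out : r.Prime).two_le
      have h2 : d * c * r = 2 * (i + 1) := by rw [hm]; ring
      have h3 : d * c < 2 := by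
        by_contra h4
        have h5 : 2 * r ≤ d * c * r := Nat.mul_le_mul_right r (not_lt.1 h4)
        omega
      have h4 : d * c = 1 := by
        rcases Nat.lt_or_ge (d * c) 1 with h | h
        · rw [Nat.lt_one_iff.1 h, zero_mul] at h2; omega
        · omega
      rw [h4, one_mul] at h2
      exact hr2 ((Nat.Prime.even_iff Fact.out).1 ⟨i + 1, by omega⟩)
    have hmul : q ^ (2 * (i + 1)) - 1 = (∑ j ∈ Finset.range m, (q ^ d) ^ j) * (q ^ d - 1) := by
      rw [hm, pow_mul, geom_sum_mul_of_one_le (Nat.one_le_pow _ _ (by omega))]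
    have hsum : ¬ r ∣ ∑ j ∈ Finset.range m, (q ^ d) ^ j := fun h => by
      rw [← ZMod.natCast_eq_zero_iff] at h
      push_cast at h
      rw [hdd, pow_orderOf_eq_one] at h
      simp at h
      rw [ZMod.natCast_eq_zero_iff] at h
      exact hmr h
    have h2 : 2 ≤ q ^ d := hq.trans (Nat.le_self_pow hd.ne' q)
    rw [hmul, Nat.factorization_mul (fun h => hsum (by rw [h]; exact dvd_zero r)) (by omega), Finsupp.add_apply,
      Nat.factorization_eq_zero_of_not_dvd hsum, zero_add, factorization_pow_order_sub_one hq hrq]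
  rw [Finset.sum_congr rfl h1, ← Finset.sum_filter, Finset.sum_const, smul_eq_mul,
    Nat.card_multiples]

/-- A cyclic subgroup of order `r^v` in the smallest symplectic group allowing it. -/
theorem exists_base (hF : Fintype.card F = q) (hr2 : r ≠ 2) (hrq : ¬ r ∣ q) :
    ∃ f : Multiplicative (ZMod (r ^ rExp r q)) →*
      ↥(Matrix.symplecticGroup (Fin (half (orderOf (q : ZMod r)))) F), Function.Injective f := by
  classical
  obtain ⟨hd, hdr⟩ := orderOf_pos_dvd hrq
  have hr := (Fact.out : r.Prime).two_le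
  have hdlt : orderOf (q : ZMod r) < r := by
    have := Nat.le_of_dvd (by omega) hdr
    omega
  set d := orderOf (q : ZMod r) with hdd
  -- a single factor
  have single : ∀ {k : ℕ}, k = 1 → ∀ {G : Type _} [Group G]
      (f : (Fin k → Multiplicative (ZMod (r ^ rExp r q))) →* G), Function.Injective f →
      ∃ f' : Multiplicative (ZMod (r ^ rExp r q)) →* G, Function.Injective f' := by
    intro k hk G _ f hf
    subst hk
    exact ⟨f.comp (Pi.monoidHom fun _ => MonoidHom.id _), hf.comp fun x y h => congrFun h 0⟩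
  by_cases h2 : 2 ∣ d
  · obtain ⟨e, he⟩ := h2
    have hhalf : half d = e := by rw [half, if_pos ⟨e, he⟩, he, Nat.mul_div_cancel_left e two_pos]
    rw [hhalf]
    let φ : ↥(Matrix.symplecticGroup (Fin e) F) →* Matrix (Fin (e + e)) (Fin (e + e)) F :=
      (Matrix.reindexAlgEquiv F F finSumFinEquiv).toMonoidHom.comp (Matrix.symplecticGroup (Fin e) F).subtype
    let Q : Sylow r ↥(Matrix.symplecticGroup (Fin e) F) := Classical.arbitrary _
    let ι := φ.toHomUnits.comp (Q : Subgroup ↥(Matrix.symplecticGroup (Fin e) F)).subtype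
    have hι : Function.Injective ι := fun x y h => Subtype.ext (Subtype.ext
      ((Matrix.reindexAlgEquiv F F finSumFinEquiv).injective (congrArg Units.val h)))
    obtain ⟨T, hT⟩ := exists_torus_hom (r := r) (n := e + e) hF hrq
    have hk : (e + e) / d = 1 := by rw [he, two_mul, Nat.div_self]; omega
    have hQc : Nat.card (Q : Subgroup ↥(Matrix.symplecticGroup (Fin e) F)) =
        r ^ (Nat.card (GL (Fin (e + e)) F)).factorization r := by
      rw [Q.card_eq_multiplicity, factorization_card_sp hF hr2 (by omega) hrq, ← hdd, hhalf,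
        Nat.div_self (by omega), factorization_card_GL hF (by omega) hrq, ← hdd, hk]
    let P : Sylow r (GL (Fin (e + e)) F) := Classical.arbitrary _
    obtain ⟨e1⟩ := sylow_equiv_of_injective ι hι hQc P
    obtain ⟨e2⟩ := sylow_equiv_of_injective T hT (by
      rw [factorization_card_GL hF (by omega) hrq, Nat.card_fun, Nat.card_eq_fintype_card (α := Fin _),
        Fintype.card_fin, Nat.card_congr Multiplicative.toAdd, Nat.card_zmod, ← pow_mul, mul_comm]) P
    exact single hk ((Q : Subgroup _).subtype.comp (e2.symm.trans e1).toMonoidHom)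
      (Subtype.val_injective.comp (e2.symm.trans e1).injective)
  · have hhalf : half d = d := by rw [half, if_neg h2]
    rw [hhalf]
    obtain ⟨T, hT⟩ := exists_torus_hom (r := r) (n := d) hF hrq
    obtain ⟨L, hL⟩ := exists_levi_hom (F := F) d
    exact single (Nat.div_self hd) (L.comp T) (hL.comp hT)

/-- Sylow subgroups of `Sp_{2n}(q)` for large primes. Let `F` be a field with `q` elements and `r` an odd prime with `r > n` and `r ∤ q` (so `r` does not divide the order `2^n n!` of the Weyl group). Let `d` be the multiplicative order of `q` modulo `r`, `a` the number of `i` with `1 ≤ i ≤ n` and `d ∣ 2i` (the degrees being `2, 4, …, 2n`), and `m` the `r`-part of the value at `q` of the `d`-th cyclotomic polynomial. Then every Sylow `r`-subgroup of the symplectic group `Sp_{2n}(q)` is a direct product of `a` cyclic groups of order `m`. -/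
theorem result {F : Type*} [Field F] [Fintype F] {q : ℕ} (hq : Fintype.card F = q) (n : ℕ)
    (r : ℕ) [Fact r.Prime] (hr2 : r ≠ 2) (hrn : n < r) (hrq : ¬ r ∣ q) (P : Sylow r ↥(Matrix.symplecticGroup (Fin n) F)) :
    Nonempty (↥(P : Subgroup ↥(Matrix.symplecticGroup (Fin n) F)) ≃*
      (Fin ((Finset.Icc 1 n).filter (fun i => orderOf (q : ZMod r) ∣ 2 * i)).card →
        Multiplicative (ZMod (r ^ padicValNat r ((Polynomial.cyclotomic (orderOf (q : ZMod r)) ℤ).eval (q : ℤ)).natAbs)))) := by
  rw [← rExp_eq_padicValNat Fact.out]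
  have hcnt : ((Finset.Icc 1 n).filter (fun i => orderOf (q : ZMod r) ∣ 2 * i)).card =
      n / half (orderOf (q : ZMod r)) := by
    rw [← Nat.Ioc_filter_dvd_card_eq_div]
    congr 1
    ext i
    simp [dvd_two_mul_iff, Nat.one_le_iff_ne_zero, Nat.pos_iff_ne_zero]
  rw [hcnt]
  obtain ⟨b, hb⟩ := exists_base hq hr2 hrq
  obtain ⟨Φ, hΦ⟩ := exists_block_hom (F := F) (Nat.mul_div_le n (half (orderOf (q : ZMod r))))
  refine sylow_equiv_of_injective (Φ.comp (MonoidHom.piMap fun _ => b))
    (hΦ.comp fun x y h => funext fun i => hb (congrFun h i)) ?_ P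
  rw [factorization_card_sp hq hr2 hrn hrq, Nat.card_fun, Nat.card_eq_fintype_card (α := Fin _), Fintype.card_fin,
    Nat.card_congr Multiplicative.toAdd, Nat.card_zmod, ← pow_mul, mul_comm]

end Cfsg.Agent.S2381
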