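import Cfsg.Statements.S2553
import Cfsg.Agent.Lib.ASevenGL.Subgroups
import Cfsg.Agent.Lib.Primitive62.Basic
import Cfsg.Agent.Lib.MinimalNormal

set_option autoImplicit false
open Cfsg

namespace Cfsg.Agent.S2553

open Equiv Subgroup Cfsg.Agent.Lib.ASevenGL Cfsg.Agent.Lib.SmallGroups

theorem inList_of_equiv {X Y : Type*} [Group X] [Group Y] (e : X ≃* Y) (h : InList Y) : InList X := by
  rcases h with ⟨n, h1, h2, ⟨f⟩⟩ | ⟨⟨f⟩⟩ | ⟨⟨f⟩⟩ | ⟨⟨f⟩⟩
  · exact Or.inl ⟨n, h1, h2, ⟨e.trans f⟩⟩
  · exact Or.inr (Or.inl ⟨e.trans f⟩)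
  · exact Or.inr (Or.inr (Or.inl ⟨e.trans f⟩))
  · exact Or.inr (Or.inr (Or.inr ⟨e.trans f⟩))

/-- A group of order `n!/2` or `n!` inside `Sym(n)`. -/
theorem inList_of_injective {X : Type*} [Group X] [Finite X] {n : ℕ} (hn : n = 5 ∨ n = 6) {α : Type*} [Finite α]
    (hα : Nat.card α = n) (f : X →* Perm α) (hf : Function.Injective f)
    (hX : Nat.card X * 2 = n.factorial ∨ Nat.card X = n.factorial) : InList X := by
  classical
  rcases hX with hX | hX
  · exact Or.inl ⟨n, by omega, by omega,
      nonempty_alternating_of_injective hα (by omega) f hf (by rw [mul_comm]; exact hX)⟩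
  · let e : α ≃ Fin n := Finite.equivFinOfCardEq hα
    let g : X →* Perm (Fin n) := e.permCongrHom.toMonoidHom.comp f
    have hg : Function.Injective g := e.permCongrHom.injective.comp hf
    have hb : Function.Bijective g := (Nat.bijective_iff_injective_and_card g).2
      ⟨hg, by rw [hX, Nat.card_perm, Nat.card_fin]⟩
    rcases hn with rfl | rfl
    · exact Or.inr (Or.inl ⟨MulEquiv.ofBijective g hb⟩)
    · exact Or.inr (Or.inr (Or.inl ⟨MulEquiv.ofBijective g hb⟩))

theorem toGL_bijective {n : Type*} [Fintype n] [DecidableEq n] :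
    Function.Bijective (Matrix.SpecialLinearGroup.toGL :
      Matrix.SpecialLinearGroup n (ZMod 2) →* GL n (ZMod 2)) := by
  refine ⟨fun x y h => Subtype.ext (congrArg Units.val h), fun g => ?_⟩
  have hu : IsUnit (g.1.det) := (Matrix.isUnit_iff_isUnit_det g.1).1 g.isUnit
  exact ⟨⟨g.1, (zmod_two_cases (g.1.det)).resolve_left hu.ne_zero⟩, Units.ext rfl⟩

/-- The classification inside `A₈`. -/
theorem main (K : Subgroup AEight) (hne : K ≠ ⊥)
    (hsol : ∀ M : Subgroup K, M.Normal → Group.IsSolvable M → M = ⊥) : InList K := by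
  classical
  have hK : (⊤ : Subgroup K) ≠ ⊥ := fun h => hne ((eq_bot_iff_forall K).2 fun x hx => by
    have hx' : (⟨x, hx⟩ : K) ∈ (⊤ : Subgroup K) := mem_top _
    rw [h, mem_bot] at hx'
    exact congrArg Subtype.val hx')
  obtain ⟨M, hMn, hM, -, hmin⟩ := Lib.Primitive62.exists_minimal_normal (⊤ : Subgroup K) hK
  rcases Lib.Primitive62.minimal_normal_cases M hM hmin with ⟨hc, -⟩ | ⟨S, iS, iSs, iSf, k, hk, hS, ⟨e⟩⟩
  · haveI := hc
    exact absurd (hsol M hMn (Group.isSolvable_of_comm fun a b => mul_comm' a b)) hM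
  have hcM : Nat.card M ∣ 20160 := (M.card_subgroup_dvd_card).trans (card_dvd_aeight K)
  have hk1 : k = 1 := by
    by_contra hne1
    have hpow : Nat.card S ^ k ∣ 20160 := by
      rw [Nat.card_congr e.toEquiv, Nat.card_fun, Nat.card_fin] at hcM
      exact hcM
    have h2 : Nat.card S ^ 2 ∣ 20160 := (pow_dvd_pow _ (by omega)).trans hpow
    rcases five_or_seven_dvd hS ((dvd_pow_self _ (by norm_num : (2 : ℕ) ≠ 0)).trans h2) with h | h <;>
    · have := (pow_dvd_pow_of_dvd h 2).trans h2
      norm_num at this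
  subst hk1
  have e' : M ≃* S := e.trans (MulEquiv.piUnique fun _ : Fin 1 => S)
  haveI : IsSimpleGroup M := e'.isSimpleGroup
  have hG : ¬ IsMulCommutative M := fun h => hS (IsMulCommutative.of_comm fun a b =>
    e'.symm.injective (by rw [map_mul, map_mul]; exact mul_comm' _ _))
  let N : Subgroup AEight := M.map K.subtype
  let eN : M ≃* N := Subgroup.equivMapOfInjective M K.subtype K.subtype_injective
  haveI : IsSimpleGroup N := eN.symm.isSimpleGroup
  have hGN : ¬ IsMulCommutative N := fun h => hG (IsMulCommutative.of_comm fun a b =>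
    eN.injective (by rw [map_mul, map_mul]; exact mul_comm' _ _))
  have hNK : N ≤ K := map_subtype_le M
  have hKN : K ≤ normalizer (N : Set AEight) := fun g hg => by
    rw [mem_normalizer_iff]
    intro x
    constructor
    · rintro ⟨m, hm, rfl⟩
      exact ⟨⟨g, hg⟩ * m * ⟨g, hg⟩⁻¹, hMn.conj_mem m hm _, rfl⟩
    · rintro ⟨m, hm, he⟩
      refine ⟨⟨g, hg⟩⁻¹ * m * ⟨g, hg⟩⁻¹⁻¹, hMn.conj_mem m hm _, ?_⟩
      simp only [coe_subtype] at he ⊢
      simp [he, mul_assoc]
  by_cases h7 : 7 ∣ Nat.card N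
  · have hKeq : K = N := le_antisymm (hKN.trans (seven_facts hGN h7).1.le) hNK
    exact inList_of_equiv (MulEquiv.subgroupCongr hKeq) (seven_case hGN h7)
  have h5 : 5 ∣ Nat.card N := (five_or_seven_dvd hGN (card_dvd_aeight N)).resolve_right h7
  have hcMN : Nat.card M = Nat.card N := Nat.card_congr eN.toEquiv
  let φ : K →* MulAut M := MulAut.conjNormal
  have hφk : φ.ker = ⊥ := by
    refine hsol _ φ.normal_ker ?_
    have hcomm : ∀ c ∈ φ.ker, ∀ m ∈ M, c * m = m * c := fun c hc m hm => by
      have h := congrArg Subtype.val (MulEquiv.congr_fun (MonoidHom.mem_ker.1 hc) ⟨m, hm⟩)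
      rw [MulAut.conjNormal_apply] at h
      exact mul_inv_eq_iff_eq_mul.1 h
    have hdis : Disjoint φ.ker M := by
      rw [disjoint_iff_inf_le]
      intro x hx
      rw [mem_bot]
      have hc : (⟨x, hx.2⟩ : M) ∈ center M := mem_center_iff.2 fun m => Subtype.ext (hcomm x hx.1 m.1 m.2).symm
      rw [center_eq_bot hG, mem_bot] at hc
      exact congrArg Subtype.val hc
    let μ : φ.ker × M →* K :=
      { toFun := fun p => p.1.1 * p.2.1
        map_one' := by simp
        map_mul' := fun p r => by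
          simp only [Prod.fst_mul, Prod.snd_mul, Subgroup.coe_mul]
          rw [mul_assoc p.1.1, ← mul_assoc r.1.1, hcomm r.1.1 r.1.2 p.2.1 p.2.2, mul_assoc, ← mul_assoc p.1.1] }
    have hμ : Function.Injective μ := fun p r h => mul_injective_of_disjoint hdis h
    have hd := (card_dvd_of_injective μ hμ).trans (card_dvd_aeight K)
    rw [Nat.card_prod, hcMN] at hd
    refine solvable_of_dvd ((dvd_mul_right _ _).trans hd) (fun h => ?_) (fun h => ?_)
    · have h25 := (mul_dvd_mul h h5).trans hd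
      norm_num at h25
    · haveI : Fact (Nat.Prime 7) := ⟨by norm_num⟩
      haveI : Fact (Nat.Prime 5) := ⟨by norm_num⟩
      obtain ⟨c, hc⟩ := exists_prime_orderOf_dvd_card' 7 h
      obtain ⟨m, hm⟩ := exists_prime_orderOf_dvd_card' 5 (hcMN ▸ h5)
      let P : Subgroup AEight := zpowers (c.1.1 : AEight)
      have hP : Nat.card P = 7 := by rw [Nat.card_zpowers, Subgroup.orderOf_coe, Subgroup.orderOf_coe, hc]
      have hmem : (m.1.1 : AEight) ∈ centralizer (P : Set AEight) := by
        rw [mem_centralizer_iff]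
        intro z hz
        obtain ⟨i, rfl⟩ := mem_zpowers_iff.1 hz
        exact (Commute.zpow_left (show Commute (c.1.1 : AEight) m.1.1 from
          congrArg Subtype.val (hcomm c.1 c.2 m.1 m.2)) i)
      have h1 := orderOf_dvd_natCard (⟨_, hmem⟩ : centralizer (P : Set AEight))
      rw [Subgroup.orderOf_mk, Subgroup.orderOf_coe, Subgroup.orderOf_coe, hm] at h1
      have := h1.trans (card_centralizer_dvd (by norm_num) hP)
      norm_num [Nat.factorial] at this
  have hφ : Function.Injective φ := (MonoidHom.ker_eq_bot_iff φ).1 hφk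
  have hMK : Nat.card M ∣ Nat.card K := M.card_subgroup_dvd_card
  rcases five_facts hGN h5 h7 with h60 | ⟨h360, x, hx, hfix⟩
  · haveI : Finite M := inferInstance
    obtain ⟨eA⟩ := S0494.result (G := M) (hcMN.trans h60)
    let cA : Perm (Fin 5) ≃* MulAut (alternatingGroup (Fin 5)) := MulEquiv.ofBijective MulAut.conjNormal
      ⟨Lib.AltAut.conjNormal_injective (by simp), Lib.AltAut.conjNormal_surjective (by simp) (by simp)⟩
    let f : K →* Perm (Fin 5) := cA.symm.toMonoidHom.comp ((MulAut.congr eA).toMonoidHom.comp φ)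
    have hf : Function.Injective f := cA.symm.injective.comp ((MulAut.congr eA).injective.comp hφ)
    have hd := card_dvd_of_injective f hf
    rw [Nat.card_perm, Nat.card_fin] at hd
    rw [hcMN, h60] at hMK
    refine inList_of_injective (Or.inl rfl) (Nat.card_fin 5) f hf ?_
    have hle := Nat.le_of_dvd (Nat.factorial_pos _) hd
    rw [show (5 : ℕ).factorial = 120 from rfl] at hle ⊢
    have := Nat.card_pos (α := K)
    omega
  · let p : Fin 8 → Prop := fun y => y ∈ MulAction.orbit N x
    have hmoved : ∀ y, p y ↔ ∃ n : N, n • y ≠ y := fun y => by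
      refine ⟨fun hy => ?_, fun ⟨n, hn⟩ => by by_contra hy; exact hn (hfix y hy n)⟩
      by_contra hno
      push Not at hno
      have : MulAction.orbit N y = {y} := Set.eq_singleton_iff_unique_mem.2
        ⟨MulAction.mem_orbit_self y, by rintro _ ⟨n, rfl⟩; exact hno n⟩
      rw [← MulAction.orbit_eq_iff.2 hy, this, Nat.card_coe_set_eq, Set.ncard_singleton] at hx
      omega
    have hinv : ∀ g ∈ K, ∀ y, p ((g : Perm (Fin 8)) y) ↔ p y := fun g hg y => by
      rw [hmoved, hmoved]
      have hg' := mem_normalizer_iff.1 (hKN hg)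
      constructor
      · rintro ⟨n, hn⟩
        refine ⟨⟨g⁻¹ * n * g, by rw [hg']; simp [mul_assoc]⟩, fun he => hn ?_⟩
        change ((g⁻¹ * n * g : AEight) : Perm (Fin 8)) y = y at he
        change (n.1 : Perm (Fin 8)) ((g : Perm (Fin 8)) y) = (g : Perm (Fin 8)) y
        simp only [Subgroup.coe_mul, Subgroup.coe_inv, Perm.mul_apply, Perm.inv_def] at he
        exact (Equiv.symm_apply_eq _).1 he
      · rintro ⟨n, hn⟩
        refine ⟨⟨g * n * g⁻¹, (hg' n.1).1 n.2⟩, fun he => hn ?_⟩
        change ((g * n * g⁻¹ : AEight) : Perm (Fin 8)) ((g : Perm (Fin 8)) y) = (g : Perm (Fin 8)) y at he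
        change (n.1 : Perm (Fin 8)) y = y
        simp only [Subgroup.coe_mul, Subgroup.coe_inv, Perm.mul_apply, Perm.inv_def, Equiv.symm_apply_apply,
          EmbeddingLike.apply_eq_iff_eq] at he
        exact he
    let r := restrictHom K p hinv
    have hr : Function.Injective r := by
      rw [injective_iff_map_eq_one]
      intro g hg
      have hgp : ∀ y, p y → (g.1 : Perm (Fin 8)) y = y := fun y hy =>
        congrArg Subtype.val (Perm.ext_iff.1 hg ⟨y, hy⟩)
      apply hφ
      rw [map_one]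
      refine MulEquiv.ext fun m => Subtype.ext (Subtype.ext ?_)
      rw [MulAut.conjNormal_apply]
      show g.1 * m.1.1 * g.1⁻¹ = m.1.1
      rw [mul_inv_eq_iff_eq_mul]
      refine Subtype.ext (Perm.ext fun y => ?_)
      have hmN : m.1.1 ∈ N := ⟨m.1, m.2, rfl⟩
      show (g.1 : Perm (Fin 8)) ((m.1.1 : Perm (Fin 8)) y) = (m.1.1 : Perm (Fin 8)) ((g.1 : Perm (Fin 8)) y)
      by_cases hy : p y
      · rw [hgp y hy, hgp _ ?_]
        exact (MulAction.mem_orbit_iff.1 hy).elim fun n hn =>
          ⟨(⟨m.1.1, hmN⟩ : N) * n, (mul_smul _ _ _).trans (congrArg (fun z => (⟨m.1.1, hmN⟩ : N) • z) hn)⟩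
      · rw [show (m.1.1 : Perm (Fin 8)) y = y from hfix y hy ⟨_, hmN⟩]
        exact (hfix _ (fun h => hy ((hinv g.1 g.2 y).1 h)) ⟨_, hmN⟩).symm
    have hcard6 : Nat.card {y // p y} = 6 := hx
    have hd := card_dvd_of_injective r hr
    rw [Nat.card_perm, hcard6] at hd
    rw [hcMN, h360] at hMK
    refine inList_of_injective (Or.inr rfl) hcard6 r hr ?_
    have hle := Nat.le_of_dvd (Nat.factorial_pos _) hd
    rw [show (6 : ℕ).factorial = 720 from rfl] at hle ⊢
    have := Nat.card_pos (α := K)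
    omega

/-- Let H be a nontrivial subgroup of GL(4,2) (a group isomorphic to the alternating group of degree 8) whose largest normal 2-subgroup and largest normal subgroup of odd order are both trivial. Then H is isomorphic to an alternating group of degree n for some 5 ≤ n ≤ 8, to the symmetric group of degree 5 or 6, or to GL(3,2). -/
theorem result (H : Subgroup (GL (Fin 4) (ZMod 2))) (hH : H ≠ ⊥) (hO : Cfsg.pPrimeCore 2 ↥H = ⊥) (hO2 : Cfsg.pCore 2 ↥H = ⊥) :
    (∃ n : ℕ, 5 ≤ n ∧ n ≤ 8 ∧ Nonempty (↥H ≃* alternatingGroup (Fin n))) ∨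
    Nonempty (↥H ≃* Equiv.Perm (Fin 5)) ∨ Nonempty (↥H ≃* Equiv.Perm (Fin 6)) ∨ Nonempty (↥H ≃* GL (Fin 3) (ZMod 2)) := by
  classical
  let Ψ : Matrix.SpecialLinearGroup (Fin 4) (ZMod 2) →* GL (Fin 4) (ZMod 2) := Matrix.SpecialLinearGroup.toGL
  have hbij : Function.Bijective Ψ := toGL_bijective
  let E : GL (Fin 4) (ZMod 2) ≃* AEight :=
    ((MulEquiv.ofBijective Ψ hbij).symm.trans (MonoidHom.ofInjective S0256.toPerm_injective)).trans
      (MulEquiv.subgroupCongr range_toPerm)
  let eH : H ≃* H.map E.toMonoidHom := Subgroup.equivMapOfInjective H E.toMonoidHom E.injective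
  have h := main (H.map E.toMonoidHom) (by rw [ne_eq, map_eq_bot_iff_of_injective _ E.injective]; exact hH) (by
    intro M hM hsol
    by_contra hne
    obtain ⟨M', hM', hne', hle', hmin⟩ := Lib.Primitive62.exists_minimal_normal (M.comap eH.toMonoidHom)
      (hKn := hM.comap _) (by
        intro h
        apply hne
        rw [← map_comap_eq_self_of_surjective (f := eH.toMonoidHom) eH.surjective M, h, Subgroup.map_bot])
    haveI := hM'
    have hsc : Group.IsSolvable (M.comap eH.toMonoidHom) :=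
      Group.isSolvable_of_isSolvable_injective (f := (eH.toMonoidHom.comp (M.comap eH.toMonoidHom).subtype).codRestrict M
        fun x => x.2) fun a b h => Subtype.ext (eH.injective (congrArg Subtype.val h))
    haveI : Group.IsSolvable M' :=
      Group.isSolvable_of_isSolvable_injective (Subgroup.inclusion_injective hle')
    obtain ⟨-, q, hq, hexp⟩ := Lib.MinimalNormal.elementaryAbelian M' hne' hmin
    have hpg : IsPGroup q M' := fun a => ⟨1, Subtype.ext (by rw [pow_one]; exact hexp a.1 a.2)⟩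
    haveI := Fact.mk hq
    by_cases h2 : q = 2
    · subst h2
      exact hne' (le_bot_iff.1 (hO2 ▸ (le_sSup ⟨hM', hpg⟩ : M' ≤ Cfsg.pCore 2 ↥H)))
    · obtain ⟨i, hi⟩ := IsPGroup.iff_card.1 hpg
      refine hne' (le_bot_iff.1 (hO ▸ (le_sSup ⟨hM', ?_⟩ : M' ≤ Cfsg.pPrimeCore 2 ↥H)))
      rw [hi]
      exact Nat.Coprime.pow_left i ((Nat.coprime_primes hq Nat.prime_two).2 h2))
  exact inList_of_equiv eH h

end Cfsg.Agent.S2553
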