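import Cfsg.Statements.S0944
import Cfsg.Agent.Lib.Chars.Basic

set_option autoImplicit false
open Cfsg

namespace Cfsg.Agent.S0944

open Cfsg.Agent.Lib in
/-- The value is a sum of χ 1 signs. -/
theorem result {G : Type*} [Group G] [Finite G] (χ : Cfsg.IrrCharacter G) (u : G) (hu : orderOf u = 2) : ∃ n : ℤ, (χ : G → ℂ) u = (n : ℂ) ∧ (2 : ℤ) ∣ (Cfsg.charDegree (χ : G → ℂ) : ℤ) - n := by
  classical
  obtain ⟨d, ρ, -, hρ⟩ := χ.2
  obtain ⟨ι, _, μ, hcard, hm, hsum, -⟩ := Chars.exists_roots_sum ρ u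
  have hd : charDegree (χ : G → ℂ) = Fintype.card ι := by
    rw [hcard, charDegree, ← hρ, Representation.char_one]
    simp
  let s : ι → ℤ := fun i => if μ i = 1 then 1 else -1
  have hs : ∀ i, μ i = (s i : ℂ) := by
    intro i
    by_cases h : μ i = 1
    · simp [s, h]
    · have := hm i
      rw [hu, sq_eq_one_iff] at this
      simp [s, this.resolve_left h, h]
  refine ⟨∑ i, s i, ?_, ?_⟩
  · rw [← hρ, hsum]
    push_cast
    simp only [hs]
  · rw [hd, show ((Fintype.card ι : ℕ) : ℤ) = ∑ _i : ι, (1 : ℤ) by simp, ← Finset.sum_sub_distrib]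
    refine Finset.dvd_sum fun i _ => ?_
    by_cases h : μ i = 1 <;> simp [s, h]

end Cfsg.Agent.S0944
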