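import Cfsg.Statements.S4480
import Cfsg.Agent.Lib.KleinOrder.Four
import Cfsg.Agent.S0944

set_option autoImplicit false
open Cfsg

namespace Cfsg.Agent.S4480

open Cfsg.Agent.Lib Cfsg.Agent.Lib.Blocks Cfsg.Agent.Lib.KleinOrder

/-- Same setting as the Klein-four order formula: G of order 4·g₀ (g₀ odd) with no normal 2-complement, P a Sylow 2-subgroup, J an involution of P, M over 2, principal 2-block {1, χ₁, χ₂, χ₃} with χ_i(J) = ε_i = ±1. Suppose ε₁ε₂ε₃ = −1 and ε₃ = −1, and put q = x₃ = χ₃(1). Then there is a natural number m with 4·c(J) = m·c(P)·(q + 1), and the order of G equals (m³·c(P)/4)·(q³ − q)/2, that is 8·#G = m³·c(P)·(q³ − q). -/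
theorem result {G : Type*} [Group G] [Finite G] (M : Ideal Cfsg.AlgInt) (hM : Cfsg.IsPModular 2 M) (g₀ : ℕ) (hg₀ : Odd g₀) (hG : Nat.card G = 4 * g₀) (hnc : ¬ ∃ N : Subgroup G, N.Normal ∧ Nat.card N = g₀) (P : Sylow 2 G) (J : G) (hJ : J ∈ (P : Subgroup G)) (hJ2 : orderOf J = 2) (χ₁ χ₂ χ₃ : Cfsg.IrrCharacter G) (ε₁ ε₂ ε₃ : ℤ) (hB : Cfsg.principalBlock M G = {χ : Cfsg.IrrCharacter G | (χ : G → ℂ) = (fun _ => 1) ∨ χ = χ₁ ∨ χ = χ₂ ∨ χ = χ₃}) (hdist : (χ₁ : G → ℂ) ≠ (fun _ => 1) ∧ (χ₂ : G → ℂ) ≠ (fun _ => 1) ∧ (χ₃ : G → ℂ) ≠ (fun _ => 1) ∧ χ₁ ≠ χ₂ ∧ χ₁ ≠ χ₃ ∧ χ₂ ≠ χ₃) (hε : (ε₁ = 1 ∨ ε₁ = -1) ∧ (ε₂ = 1 ∨ ε₂ = -1) ∧ (ε₃ = 1 ∨ ε₃ = -1)) (hval : (χ₁ : G → ℂ) J = ε₁ ∧ (χ₂ : G → ℂ) J = ε₂ ∧ (χ₃ : G → ℂ) J = ε₃) (hprod : ε₁ * ε₂ * ε₃ = -1) (hε₃ : ε₃ = -1) : ∃ m : ℕ, 4 * Nat.card (Subgroup.centralizer ({J} : Set G)) = m * Nat.card (Subgroup.centralizer ((P : Subgroup G) : Set G)) * (Cfsg.charDegree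 (χ₃ : G → ℂ) + 1) ∧ 8 * Nat.card G = m ^ 3 * Nat.card (Subgroup.centralizer ((P : Subgroup G) : Set G)) * (Cfsg.charDegree (χ₃ : G → ℂ) ^ 3 - Cfsg.charDegree (χ₃ : G → ℂ)) := by
  classical
  cases nonempty_fintype G
  haveI := isPModular_isPrime hM
  obtain ⟨hK, hone⟩ := isKlein_of_no_complement hg₀ hG hnc P
  have hF : FourBlock M χ₁ χ₂ χ₃ :=
    ⟨hB, hdist.1, hdist.2.1, hdist.2.2.1, hdist.2.2.2.1, hdist.2.2.2.2.1, hdist.2.2.2.2.2⟩
  have hd := degree_sum P hK hJ hJ2 hM hF hval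
  have hcube := order_cube P hK hone hJ hJ2 hM hF hval hε
  have hind := indicator_sum P hK hJ hJ2 hM hF hval
  subst hε₃
  set x₁ := Cfsg.charDegree (χ₁ : G → ℂ) with hx₁
  set x₂ := Cfsg.charDegree (χ₂ : G → ℂ) with hx₂
  set q := Cfsg.charDegree (χ₃ : G → ℂ) with hq
  have h1 : 1 ≤ x₁ := (degree_spec χ₁).2
  have h2 : 1 ≤ x₂ := (degree_spec χ₂).2
  have h3 : 1 ≤ q := (degree_spec χ₃).2
  have hpos : ε₁ = 1 ∧ ε₂ = 1 := by
    rcases hε.1 with rfl | rfl <;> rcases hε.2.1 with rfl | rfl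
    · exact ⟨rfl, rfl⟩
    all_goals omega
  obtain ⟨rfl, rfl⟩ := hpos
  have hodd : ∀ (χ : Cfsg.IrrCharacter G) (ε : ℤ), (χ : G → ℂ) J = ε → (ε = 1 ∨ ε = -1) →
      Odd (Cfsg.charDegree (χ : G → ℂ)) := by
    intro χ ε hχ he
    obtain ⟨n, hn, hdiv⟩ := Cfsg.Agent.S0944.result χ J hJ2
    have : ε = n := by exact_mod_cast hχ.symm.trans hn
    rw [Nat.odd_iff]
    omega
  have hν : ∀ (χ : Cfsg.IrrCharacter G) (ε : ℤ), (χ : G → ℂ) J = ε → (ε = 1 ∨ ε = -1) →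
      Chars.indicator (χ : G → ℂ) = 1 ∨
        Chars.indicator (χ : G → ℂ) = 0 ∧ Chars.irrConj χ ≠ χ := by
    intro χ ε hχ he
    have hne := indicator_ne_neg_one_of_odd χ (hodd χ ε hχ he)
    obtain ⟨n, ρ, hρ, hc⟩ := χ.2
    haveI := hρ
    obtain ⟨htri, h0⟩ := Chars.indicator_trichotomy ρ
    rw [hc] at htri h0
    rcases htri with h | h | h
    · refine Or.inr ⟨h, fun heq => ?_⟩
      obtain ⟨s, hs⟩ := h0.1 h
      exact hs ((Chars.real_iff_irrConj_eq χ).2 heq s)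
    · exact Or.inl h
    · exact absurd h hne
  have hnotreal : Chars.irrConj χ₁ ≠ χ₁ := by
    rcases hν χ₁ 1 hval.1 (Or.inl rfl) with a | ⟨-, a'⟩
    · exfalso
      rw [a] at hind
      rcases hν χ₂ 1 hval.2.1 (Or.inl rfl) with b | ⟨b, -⟩ <;>
        rcases hν χ₃ (-1) hval.2.2 (Or.inr rfl) with c | ⟨c, -⟩ <;>
        rw [b, c] at hind <;> norm_num at hind
    · exact a'
  have hdegconj : Cfsg.charDegree (Chars.irrConj χ₁ : G → ℂ) = x₁ := by
    have e := (degree_spec (Chars.irrConj χ₁)).1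
    rw [Chars.irrConj_apply, (degree_spec χ₁).1, Complex.conj_natCast] at e
    exact_mod_cast e.symm
  have hx12 : x₂ = x₁ := by
    have hmem : Chars.irrConj χ₁ ∈ Cfsg.principalBlock M G :=
      irrConj_mem_principalBlock (by rw [hB]; exact Or.inr (Or.inl rfl))
    rw [hB] at hmem
    rcases hmem with h | h | h | h
    · refine absurd (funext fun g => ?_) hdist.1
      have hg := congrFun h g
      rw [Chars.irrConj_apply] at hg
      simpa using congrArg (starRingEnd ℂ) hg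
    · exact absurd h hnotreal
    · rw [hx₂, ← hdegconj, h]
    · rw [h] at hdegconj
      omega
  have hx1odd : Odd x₁ := hodd χ₁ 1 hval.1 (Or.inl rfl)
  obtain ⟨k₀, hk₀⟩ := hx1odd
  set r := k₀ + 1 with hr
  have hq4 : q + 1 = 4 * r := by omega
  -- integrality
  set c := Nat.card (Subgroup.centralizer ({J} : Set G)) with hc
  set cP := Nat.card (Subgroup.centralizer ((P : Subgroup G) : Set G)) with hcP
  obtain ⟨k, hk⟩ : q ∣ (Subgroup.centralizer ({J} : Set G)).index := by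
    refine Chars.dvd_of_isIntegral_div (by omega) ?_
    have h := (Chars.irr_isIntegral_central χ₃ J).neg
    rw [hval.2.2, (degree_spec χ₃).1] at h
    simpa [neg_div, Chars.card_conjClass_eq_index] using h
  obtain ⟨s, hs⟩ : cP ∣ c := Subgroup.card_dvd_of_le fun g hg =>
    Subgroup.mem_centralizer_singleton_iff.2 ((Subgroup.mem_centralizer_iff.1 hg J hJ).symm)
  have hG' : Nat.card G = q * k * c := by
    rw [← hk, hc, mul_comm, Subgroup.card_mul_index]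
  have hcPpos : 0 < cP := Nat.card_pos
  have hcpos : 0 < c := Nat.card_pos
  have hkey : k * r ^ 2 = x₁ * s ^ 2 := by
    rw [hx12, hG'] at hcube
    have e1 : (x₁ : ℚ) = 2 * r - 1 := by
      have : (x₁ : ℤ) = 2 * r - 1 := by omega
      exact_mod_cast this
    have e2 : (q : ℚ) - 1 = 2 * x₁ := by
      have : (q : ℤ) - 1 = 2 * x₁ := by omega
      exact_mod_cast this
    push_cast [hs] at hcube
    have hne : (8 : ℚ) * q * s * (cP : ℚ) ^ 3 * x₁ ≠ 0 := by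
      have : 0 < s := Nat.pos_of_ne_zero fun h => by rw [h, mul_zero] at hs; omega
      positivity
    have : (k : ℚ) * (r : ℚ) ^ 2 = x₁ * (s : ℚ) ^ 2 := by
      refine mul_left_cancel₀ hne ?_
      have e3 : (x₁ : ℚ) + 1 = 2 * r := by rw [e1]; ring
      linear_combination hcube - (q : ℚ) * k * s * (cP : ℚ) ^ 3 * ((x₁ : ℚ) + 1) ^ 2 * e2 -
        2 * (q : ℚ) * k * s * (cP : ℚ) ^ 3 * x₁ * (((x₁ : ℚ) + 1) + 2 * r) * e3
    exact_mod_cast this
  obtain ⟨m, hm⟩ : r ∣ s := by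
    have hco : Nat.Coprime r x₁ := by
      have h : Nat.gcd r x₁ ∣ 1 := by
        have h1 := Nat.gcd_dvd_left r x₁
        have h2 := Nat.gcd_dvd_right r x₁
        have h3 : Nat.gcd r x₁ ∣ x₁ + 1 := by
          rw [show x₁ + 1 = 2 * r by omega]
          exact h1.mul_left 2
        exact (Nat.dvd_add_right h2).1 h3
      exact Nat.dvd_one.1 h
    exact (Nat.pow_dvd_pow_iff two_ne_zero).1
      ((hco.pow_left 2).dvd_of_dvd_mul_left ⟨k, by rw [← hkey]; ring⟩)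
  have hkm : k = x₁ * m ^ 2 := by
    have : k * r ^ 2 = x₁ * m ^ 2 * r ^ 2 := by rw [hkey, hm]; ring
    exact Nat.eq_of_mul_eq_mul_right (by positivity) this
  refine ⟨m, ?_, ?_⟩
  · rw [hs, hm, hq4]; ring
  · rw [hG', hkm, hs, hm, show q ^ 3 - q = 8 * q * x₁ * r by
      have e : q ^ 3 = 8 * q * x₁ * r + q := by
        zify
        have e1 : (q : ℤ) + 1 = 4 * r := by exact_mod_cast hq4
        have e2 : (q : ℤ) - 1 = 2 * x₁ := by omega
        linear_combination (q : ℤ) * ((q : ℤ) - 1) * e1 + 4 * (r : ℤ) * q * e2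
      omega]
    ring

end Cfsg.Agent.S4480
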