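import Cfsg.Statements.S4483
import Mathlib
import Cfsg.Agent.Lib.BrauerFeit.Orth
import Cfsg.Agent.Lib.BrauerFeit.RegGen
import Cfsg.Agent.Lib.BlockCongr.Basic

set_option autoImplicit false
open Cfsg

namespace Cfsg.Agent.S4483

/-- Let G be a finite group of order 2^n·g₀ with g₀ odd, and M a maximal ideal of the algebraic integers containing 2. Every real-valued irreducible character of G of odd degree lies in the principal 2-block; consequently G has at most 2^(2n) real-valued irreducible characters of odd degree. -/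
theorem result {G : Type*} [Group G] [Finite G] (M : Ideal Cfsg.AlgInt) (hM : Cfsg.IsPModular 2 M) : (∀ χ : Cfsg.IrrCharacter G, (∀ g : G, ((χ : G → ℂ) g).im = 0) → Odd (Cfsg.charDegree (χ : G → ℂ)) → χ ∈ Cfsg.principalBlock M G) ∧ Nat.card {χ : Cfsg.IrrCharacter G // (∀ g : G, ((χ : G → ℂ) g).im = 0) ∧ Odd (Cfsg.charDegree (χ : G → ℂ))} ≤ 2 ^ (2 * (Nat.card G).factorization 2) := by
  classical
  cases nonempty_fintype G
  have : M.IsPrime := Cfsg.Agent.Lib.Blocks.isPModular_isPrime hM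
  have : Fact (Nat.Prime 2) := ⟨Nat.prime_two⟩
  have hmem : ∀ χ : Cfsg.IrrCharacter G, (∀ g : G, ((χ : G → ℂ) g).im = 0) →
      Odd (Cfsg.charDegree (χ : G → ℂ)) → χ ∈ Cfsg.principalBlock M G := by
    intro χ hreal hodd
    refine Cfsg.Agent.Lib.BlockCongr.sameBlock_one_of_inv_invariant hM χ (fun z => ?_)
      (Cfsg.Agent.Lib.BlockCongr.fix_of_odd_degree hM χ hodd)
    have hz : (χ : G → ℂ) z⁻¹ = (χ : G → ℂ) z := by
      rw [Cfsg.Agent.Lib.Chars.irr_inv, Complex.conj_eq_iff_im.mpr (hreal z)]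
    rw [Cfsg.centralChar, Cfsg.centralChar, hz,
      Cfsg.Agent.Lib.BlockCongr.centralizer_inv_eq, sub_self]
    exact Cfsg.Agent.Lib.Blocks.memLocalIdeal_zero
  refine ⟨hmem, ?_⟩
  have hB : Cfsg.IsPBlock M (Cfsg.principalBlock M G) :=
    ⟨Cfsg.Agent.Lib.Chars.trivialIrr G, rfl⟩
  have h := Cfsg.Agent.Lib.BrauerFeit.card_le hM (Cfsg.Agent.Lib.BrauerFeit.regOrth hM)
    (Cfsg.Agent.Lib.BrauerFeit.regGen 2) hB
  refine le_trans (Nat.card_le_card_of_injective
    (fun x => (⟨x.1, hmem x.1 x.2.1 x.2.2⟩ : Cfsg.principalBlock M G))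
    fun a b hab => Subtype.ext (congrArg (fun y : Cfsg.principalBlock M G => y.1) hab)) ?_
  refine le_trans h ?_
  set d := blockDefect 2 (Cfsg.principalBlock M G)
  set a := (Nat.card G).factorization 2
  have hda : (2 ^ d) ^ 2 ≤ (2 ^ a) ^ 2 :=
    Nat.pow_le_pow_left (Nat.pow_le_pow_right (by norm_num) (Nat.sub_le _ _)) 2
  have hpos : 1 ≤ (2 ^ a) ^ 2 := Nat.one_le_pow _ _ (Nat.two_pow_pos _)
  rw [show 2 ^ (2 * a) = (2 ^ a) ^ 2 by rw [← pow_mul, mul_comm]]
  omega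

end Cfsg.Agent.S4483
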