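import Cfsg.Statements.S0680
import Cfsg.Agent.Lib.Perm.SharplyTwo
open scoped Pointwise

set_option autoImplicit false
open Cfsg

namespace Cfsg.Agent.S0680

/-- A finite sharply doubly transitive permutation group has degree a prime power `p ^ j`; a Sylow `p`-subgroup is normal, elementary abelian and regular, and consists of the identity together with the elements without fixed points. (Frobenius' Theorem is not needed.) -/
theorem result {α : Type*} [Fintype α] [DecidableEq α] (G : Subgroup (Equiv.Perm α)) [MulAction.IsMultiplyPretransitive G α 2] (hsharp : ∀ x : Fin 2 ↪ α, MulAction.stabilizer G x = ⊥) (h2 : 2 ≤ Fintype.card α) : ∃ p j : ℕ, p.Prime ∧ 1 ≤ j ∧ Fintype.card α = p ^ j ∧ ∀ (hp : Fact p.Prime) (P : Sylow p G), (P : Subgroup G).Normal ∧ IsMulCommutative (P : Subgroup G) ∧ (∀ x ∈ (P : Subgroup G), x ^ p = 1) ∧ MulAction.IsPretransitive (P : Subgroup G) α ∧ (∀ a : α, MulAction.stabilizer (P : Subgroup G) a = ⊥) ∧ ∀ g : G, g ∈ (P : Subgroup G) ↔ g =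 1 ∨ ∀ a : α, g • a ≠ a := by
  haveI : Nontrivial α := Fintype.one_lt_card_iff_nontrivial.mp h2
  obtain ⟨p, j, hp, hj1, hj, hG, T, hTn, hTc, hTe, hTcard, hTt, hTs, hTmem⟩ :=
    Lib.Perm.sharplyTwo_kernel (G := G) (X := α) ‹_› hsharp
  refine ⟨p, j, hp, hj1, by rw [← Nat.card_eq_fintype_card]; exact hj, fun hp' P => ?_⟩
  haveI := hp'
  haveI := hTn
  have hlow : Nat.Coprime p (p ^ j - 1) := by
    refine (Nat.Prime.coprime_iff_not_dvd hp).mpr fun h => ?_
    have h1 : p ∣ p ^ j := dvd_pow_self p (by omega)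
    have h2' := Nat.dvd_sub h1 h
    have hpos : 1 ≤ p ^ j := Nat.one_le_pow _ _ hp.pos
    rw [show p ^ j - (p ^ j - 1) = 1 by omega] at h2'
    exact hp.ne_one (Nat.dvd_one.mp h2')
  have hPcard : Nat.card (P : Subgroup G) = p ^ j := by
    rw [Sylow.card_eq_multiplicity, hG]
    have h0 : p ^ j - 1 ≠ 0 := by
      have : 2 ≤ p ^ j := (Nat.pow_le_pow_left hp.two_le j).trans' (by
        calc 2 = 2 ^ 1 := rfl
          _ ≤ 2 ^ j := Nat.pow_le_pow_right (by norm_num) hj1)
      omega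
    congr 1
    rw [Nat.factorization_mul (pow_ne_zero _ hp.ne_zero) h0, Finsupp.add_apply,
      Nat.factorization_pow, Finsupp.smul_apply, hp.factorization_self,
      Nat.factorization_eq_zero_of_not_dvd ((Nat.Prime.coprime_iff_not_dvd hp).mp hlow)]
    simp
  have hTP : IsPGroup p T := fun g => ⟨1, by
    rw [pow_one]; exact Subtype.ext (hTe g g.2)⟩
  obtain ⟨Q, hQ⟩ := hTP.exists_le_sylow
  obtain ⟨g, hg⟩ := MulAction.exists_smul_eq G Q P
  have hTle : T ≤ (P : Subgroup G) := by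
    intro t ht
    rw [← hg, Sylow.coe_subgroup_smul]
    refine Subgroup.mem_pointwise_smul_iff_inv_smul_mem.mpr (hQ ?_)
    have := hTn.conj_mem t ht g⁻¹
    simpa [MulAut.smul_def, inv_inv] using this
  have hPT : (P : Subgroup G) = T :=
    (Subgroup.eq_of_le_of_card_ge hTle (by rw [hPcard, hTcard])).symm
  rw [hPT]
  exact ⟨hTn, hTc, hTe, hTt, hTs, hTmem⟩

end Cfsg.Agent.S0680
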