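import Cfsg.Statements.S1447
import Cfsg.Agent.Lib.RankTwo.MetacyclicAction
import Cfsg.Agent.Lib.Coprime.Quotient
import Cfsg.Agent.Lib.Regular.SmallRank

set_option autoImplicit false
open Cfsg
open scoped commutatorElement

namespace Cfsg.Agent.S1447

/-- A non-cyclic subgroup of a metacyclic `p`-group contains all elements of order `p`. -/
theorem mem_of_not_isCyclic {G : Type*} [Group G] [Finite G] {p : ℕ} [Fact p.Prime] (hp : p ≠ 2)
    {R H : Subgroup G} (hR : IsPGroup p R) (hRm : Cfsg.IsMetacyclic R) (hle : H ≤ R)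
    (hH : ¬ IsCyclic H) {x : G} (hx : x ∈ R) (hxp : x ^ p = 1) : x ∈ H := by
  have hinj := Subgroup.inclusion_injective hle
  have hHm := Lib.RankTwo.isMetacyclic_of_injective (Subgroup.inclusion hle) hinj hRm
  have hRnc : ¬ IsCyclic R := fun h => hH (isCyclic_of_injective _ hinj)
  obtain ⟨-, h1⟩ := Lib.Regular.omegaOne_of_isMetacyclic hp (hR.to_le hle) hHm hH
  obtain ⟨-, h2⟩ := Lib.Regular.omegaOne_of_isMetacyclic hp hR hRm hRnc
  have hmap : (omegaOne p (⊤ : Subgroup H)).map (Subgroup.inclusion hle) ≤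
      omegaOne p (⊤ : Subgroup R) := by
    rw [omegaOne, MonoidHom.map_closure]
    refine Subgroup.closure_mono ?_
    rintro _ ⟨y, hy, rfl⟩
    exact ⟨Subgroup.mem_top _, by rw [← map_pow, hy.2, map_one]⟩
  have heq := Subgroup.eq_of_le_of_card_ge hmap
    (by rw [Subgroup.card_map_of_injective hinj, h1, h2])
  have hxΩ : (⟨x, hx⟩ : R) ∈ omegaOne p (⊤ : Subgroup R) :=
    Subgroup.subset_closure ⟨Subgroup.mem_top _, Subtype.ext (by simpa using hxp)⟩
  rw [← heq] at hxΩ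
  obtain ⟨y, -, hy⟩ := hxΩ
  rw [show x = (y : G) from (congrArg Subtype.val hy).symm]
  exact y.2

/-- Let G be a finite group, p an odd prime, R a metacyclic p-subgroup and A a subgroup of order coprime to p normalizing R. Then [R, A] is abelian; R is generated by [R, A] and R ∩ C_G(A), which meet trivially; and if R is non-abelian and A does not centralize R, then [R, A] and R ∩ C_G(A) are nontrivial cyclic groups and [R, R] ≤ [R, A]. -/
theorem result {G : Type*} [Group G] [Finite G] (p : ℕ) [Fact p.Prime] (hp : p ≠ 2) (R A : Subgroup G) (hR : IsPGroup p R) (hRm : Cfsg.IsMetacyclic R)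
    (hA : (A ≤ Subgroup.normalizer (R : Set G))) (hcop : (Nat.card A).Coprime p) :
    IsMulCommutative ↥⁅R, A⁆ ∧ ⁅R, A⁆ ⊔ (R ⊓ Subgroup.centralizer (A : Set G)) = R ∧ ⁅R, A⁆ ⊓ (R ⊓ Subgroup.centralizer (A : Set G)) = ⊥ ∧
      (¬ IsMulCommutative R → ¬ A ≤ Subgroup.centralizer (R : Set G) →
        ⁅R, A⁆ ≠ ⊥ ∧ IsCyclic ↥⁅R, A⁆ ∧ (R ⊓ Subgroup.centralizer (A : Set G)) ≠ ⊥ ∧ IsCyclic ↥(R ⊓ Subgroup.centralizer (A : Set G)) ∧ ⁅R, R⁆ ≤ ⁅R, A⁆) := by
  set T := ⁅R, A⁆ with hT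
  set C := R ⊓ Subgroup.centralizer (A : Set G) with hC
  have hTR : T ≤ R := Lib.Coprime.commutator_le_of_le_normalizer hA
  have hTp : IsPGroup p T := hR.to_le hTR
  have hcopT : (Nat.card A).Coprime (Nat.card T) := by
    obtain ⟨k, hk⟩ := IsPGroup.iff_card.mp hTp
    rw [hk]
    exact hcop.pow_right k
  have hsol : Group.IsSolvable T := by
    haveI := hTp.isNilpotent
    infer_instance
  have hAT : A ≤ Subgroup.normalizer (T : Set G) := Subgroup.normalizer_commutator_ge_right R A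
  have hTA : ⁅T, A⁆ = T := Lib.Coprime.commutator_commutator_eq hA hcopT
  have hab : IsMulCommutative T := Lib.RankTwo.isMulCommutative_of_commutator_eq hp hTp hAT hcop hTA
    (Lib.RankTwo.isMetacyclic_of_injective (Subgroup.inclusion hTR)
      (Subgroup.inclusion_injective hTR) hRm)
  have hsup : T ⊔ C = R := Lib.Coprime.commutator_sup_centralizer hA hcopT (Or.inr hsol)
  have hdisj : T ⊓ C = ⊥ := by
    haveI := hab
    have h := Lib.Coprime.inf_centralizer_inf_commutator_eq_bot hAT hcopT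
    rw [eq_bot_iff, ← h, hTA]
    exact fun x hx => ⟨⟨hx.1, hx.2.2⟩, hx.1⟩
  refine ⟨hab, hsup, hdisj, fun hnab hnc => ?_⟩
  have hT1 : T ≠ ⊥ := fun h =>
    hnc (Subgroup.le_centralizer_iff.mp (Subgroup.commutator_eq_bot_iff_le_centralizer.mp h))
  have hC1 : C ≠ ⊥ := fun h => hnab (by
    rw [h, sup_bot_eq] at hsup
    exact hsup ▸ hab)
  have key : ∀ H K : Subgroup G, H ≤ R → K ≤ R → H ⊓ K = ⊥ → K ≠ ⊥ → IsCyclic H := by
    intro H K hH hK hHK hK1
    by_contra hcyc
    haveI : Nontrivial K := (Subgroup.nontrivial_iff_ne_bot K).mpr hK1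
    obtain ⟨n, hn0, hn⟩ := (hR.to_le hK).nontrivial_iff_card.mp inferInstance
    obtain ⟨x, hx⟩ := exists_prime_orderOf_dvd_card' (G := K) p (hn ▸ dvd_pow_self p hn0.ne')
    have hxp : (x : G) ^ p = 1 := by
      rw [← hx, ← Subgroup.orderOf_coe]; exact pow_orderOf_eq_one _
    have hx1 : (x : G) ∈ H ⊓ K :=
      ⟨mem_of_not_isCyclic hp hR hRm hH hcyc (hK x.2) hxp, x.2⟩
    rw [hHK, Subgroup.mem_bot] at hx1
    rw [show x = 1 from Subtype.ext hx1, orderOf_one] at hx
    exact (Fact.out : p.Prime).one_lt.ne hx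
  have hCR : C ≤ R := inf_le_left
  have hTc := key T C hTR hCR hdisj hC1
  have hCc := key C T hCR hTR (by rw [inf_comm]; exact hdisj) hT1
  refine ⟨hT1, hTc, hC1, hCc, ?_⟩
  haveI := IsCyclic.isMulCommutative (α := C)
  have hRT : R ≤ Subgroup.normalizer (T : Set G) := Subgroup.normalizer_commutator_ge_left R A
  rw [Subgroup.commutator_le]
  intro r hr r' hr'
  obtain ⟨t, ht, c, hc, rfl⟩ := Lib.Coprime.mem_commutator_mul_centralizer hA hcopT (Or.inr hsol) hr
  obtain ⟨u, hu, d, hd, rfl⟩ := Lib.Coprime.mem_commutator_mul_centralizer hA hcopT (Or.inr hsol) hr'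
  have hcd : c * d = d * c := congrArg Subtype.val (mul_comm' (⟨c, hc⟩ : C) ⟨d, hd⟩)
  have e : ⁅t * c, u * d⁆ = t * (c * u * c⁻¹) * ((c * d * c⁻¹) * t⁻¹ * d⁻¹) * u⁻¹ := by
    rw [commutatorElement_def]; group
  rw [e, hcd, mul_inv_cancel_right]
  exact T.mul_mem (T.mul_mem (T.mul_mem ht
    (Lib.Coprime.conj_mem_of_le_normalizer hRT (hCR hc) hu))
    (Lib.Coprime.conj_mem_of_le_normalizer hRT (hCR hd) (T.inv_mem ht))) (T.inv_mem hu)

end Cfsg.Agent.S1447
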