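import Mathlib
import Cfsg.Agent.Lib.LocalChar.PClosed
import Cfsg.Agent.Lib.LocalChar.Reduced
import Cfsg.Statements.S2831
-- import your own Cfsg.Agent.* helpers here

set_option autoImplicit false
open Cfsg
open scoped commutatorElement Pointwise

namespace Cfsg.Agent.S2831

/-- Let H be a finite group with Sylow p-subgroup T such that H is T-minimal (H is generated by the conjugates of T and T lies in exactly one maximal subgroup of H). Then H is p-irreducible: H is not p-closed and O^p(H) lies in every normal subgroup of H that is not p-closed. -/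
theorem result {H : Type*} [Group H] [Finite H] {p : ℕ} [Fact p.Prime] (T : Sylow p H) (hmin : Cfsg.IsMinimalOver (T : Subgroup H)) : Cfsg.IsPIrreducible p H := by
  obtain ⟨hgen, M, ⟨hM, hTM⟩, huniq⟩ := hmin
  have huniq' : ∀ X : Subgroup H, (T : Subgroup H) ≤ X → X ≠ ⊤ → X ≤ M := by
    intro X hTX hX
    obtain ⟨N, hN, hXN⟩ := (eq_top_or_exists_le_coatom X).resolve_left hX
    exact hXN.trans (huniq N ⟨hN, hTX.trans hXN⟩).le
  have hTne : ¬ IsPClosed p H := by
    intro hcl
    haveI := hcl T
    rw [Subgroup.normalClosure_eq_self] at hgen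
    exact hM.1 (top_le_iff.mp (hgen ▸ hTM))
  refine ⟨hTne, fun N hN hnc => ?_⟩
  haveI := hN
  have hTN : (T : Subgroup H) ≤ Subgroup.normalizer (N : Set H) := Subgroup.le_normalizer_of_normal
  obtain ⟨P, hP⟩ := Lib.LocalChar.exists_sylow_inf T hTN
  have hPmap : (P : Subgroup ↥N).map N.subtype = (T : Subgroup H) ⊓ N := by
    rw [hP, Subgroup.map_subgroupOf_eq_of_le inf_le_right]
  have hfr := Sylow.normalizer_sup_eq_top P
  rw [hPmap] at hfr
  have hTP : (T : Subgroup H) ≤ Subgroup.normalizer (((T : Subgroup H) ⊓ N : Subgroup H) : Set H) :=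
    Lib.LocalChar.le_normalizer_inf_of_le Subgroup.le_normalizer hTN
  have hne : Subgroup.normalizer (((T : Subgroup H) ⊓ N : Subgroup H) : Set H) ≠ ⊤ := by
    intro htop
    refine hnc (Lib.LocalChar.isPClosed_of_sylow_le P ?_)
    haveI hn : ((T : Subgroup H) ⊓ N : Subgroup H).Normal := Subgroup.normalizer_eq_top_iff.mp htop
    haveI : (P : Subgroup ↥N).Normal := by rw [hP]; infer_instance
    exact Lib.PSolvable.le_pCore P.isPGroup'
  have hNM : ¬ N ≤ M := fun h => hM.1 (top_le_iff.mp (hfr.ge.trans (sup_le (huniq' _ hTP hne) h)))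
  have htop : N ⊔ (T : Subgroup H) = ⊤ := by
    by_contra hne'
    exact hNM (le_sup_left.trans (huniq' _ le_sup_right hne'))
  refine Lib.Transfer.pResidual_le_iff.mpr fun g hg => ?_
  exact Lib.LocalChar.mem_of_le_sup T.isPGroup' hTN (htop ▸ Subgroup.mem_top g) hg

end Cfsg.Agent.S2831
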