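import Cfsg.Statements.S5548
import Cfsg.Agent.Lib.Golay.Transitive
import Cfsg.Agent.Lib.Golay.Cosets
import Cfsg.Agent.Lib.Leech.Moves

set_option autoImplicit false
open Cfsg

namespace Cfsg.Agent.S5548

open Cfsg.Agent.Lib
open Cfsg.Agent.Lib.Golay (word IsCodeSet)
open scoped Pointwise symmDiff

/-- Invariance under the code group. -/
def Inv (U : Submodule (ZMod 2) (GolayPt → ZMod 2)) : Prop :=
  ∀ σ ∈ M24, ∀ w ∈ U, (fun p => w (σ.symm p)) ∈ U

theorem comp_symm_word (σ : Equiv.Perm GolayPt) (s : Finset GolayPt) :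
    (fun p => word s (σ.symm p)) = word (σ • s) := by
  funext p
  simp only [word]
  congr 1
  rw [← Finset.inv_smul_mem_iff]
  rfl

theorem word_mem_smul {U : Submodule (ZMod 2) (GolayPt → ZMod 2)} (hU : Inv U)
    {σ : Equiv.Perm GolayPt} (hσ : σ ∈ M24) {s : Finset GolayPt} (h : word s ∈ U) :
    word (σ • s) ∈ U := comp_symm_word σ s ▸ hU σ hσ _ h

theorem code_inv : Inv golayCode := by
  intro σ hσ w hw
  rw [← Golay.word_support₂ w, comp_symm_word]
  exact Golay.M24_isCodeSet hσ (Golay.mem_golayCode_iff.mp hw)

theorem orbit_five {U : Submodule (ZMod 2) (GolayPt → ZMod 2)} (hU : Inv U)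
    {s t : Finset GolayPt} (h : word s ∈ U) (he : s.card = t.card) (h5 : s.card ≤ 5) :
    word t ∈ U := by
  obtain ⟨g, hg, e⟩ := Golay.exists_map_list s.toList t.toList
    (by simpa using he) (by simpa using h5) s.nodup_toList t.nodup_toList
  have : g • s = t := by
    refine Finset.eq_of_subset_of_card_le (fun p hp => ?_)
      (by rw [Finset.card_smul_finset, he])
    obtain ⟨q, hq, rfl⟩ := Finset.mem_smul_finset.mp hp
    rw [← Finset.mem_toList, ← e]
    exact List.mem_map_of_mem (Finset.mem_toList.mpr hq)
  exact this ▸ word_mem_smul hU hg h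

theorem pairs_of_small {U : Submodule (ZMod 2) (GolayPt → ZMod 2)} (hU : Inv U)
    {V : Finset GolayPt} (h : word V ∈ U) (h1 : V.Nonempty) (h4 : V.card ≤ 4)
    {i j : GolayPt} (hij : i ≠ j) : word {i, j} ∈ U := by
  have hk := h1.card_pos
  obtain ⟨T, hTs, hT⟩ := Finset.exists_subset_card_eq (s := (Finset.univ : Finset GolayPt) \ {i, j})
    (n := V.card - 1) (by
      rw [Finset.card_sdiff_of_subset (Finset.subset_univ _), Finset.card_univ, Golay.card_golayPt,
        Finset.card_pair hij]
      omega)
  have hi : i ∉ T := fun hm => by simpa using (Finset.mem_sdiff.mp (hTs hm)).2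
  have hj : j ∉ T := fun hm => by simpa using (Finset.mem_sdiff.mp (hTs hm)).2
  have a := orbit_five hU h (t := insert i T)
    (by rw [Finset.card_insert_of_notMem hi, hT]; omega) (by omega)
  have b := orbit_five hU h (t := insert j T)
    (by rw [Finset.card_insert_of_notMem hj, hT]; omega) (by omega)
  have e : insert i T ∆ insert j T = {i, j} := by
    ext p
    simp only [Finset.mem_symmDiff, Finset.mem_insert, Finset.mem_singleton]
    by_cases hpi : p = i
    · subst hpi; simp [hij, hi]
    · by_cases hpj : p = j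
      · subst hpj; simp [Ne.symm hij, hj]
      · simp [hpi, hpj]
  rw [← e, Golay.word_symmDiff]
  exact add_mem a b

theorem even_mem {U : Submodule (ZMod 2) (GolayPt → ZMod 2)}
    (h : ∀ i : GolayPt, i ≠ none → word {i, none} ∈ U) {w : GolayPt → ZMod 2}
    (hw : ∑ p, w p = 0) : w ∈ U := by
  have e : w = ∑ i, w i • (Pi.single i 1 + Pi.single none 1 : GolayPt → ZMod 2) := by
    funext q
    simp only [Finset.sum_apply, Pi.smul_apply, Pi.add_apply, smul_eq_mul, mul_add,
      Finset.sum_add_distrib, ← Finset.sum_mul, hw, zero_mul, add_zero]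
    simp [Pi.single_apply]
  rw [e]
  refine sum_mem fun i _ => U.smul_mem _ ?_
  by_cases hi : i = none
  · rw [hi, CharTwo.add_self_eq_zero]; exact zero_mem _
  · convert h i hi using 1
    funext q
    by_cases h1 : q = i
    · subst h1; simp [word, hi]
    · by_cases h2 : q = none <;> simp [word, h1, h2, Ne.symm hi]

theorem code_even {w : GolayPt → ZMod 2} (hw : w ∈ golayCode) : ∑ p, w p = 0 := by
  have := Golay.dot_eq_zero hw (Submodule.subset_span (Or.inr rfl) : (1 : GolayPt → ZMod 2) ∈ golayCode)
  simpa using this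

theorem genRows_octads : ∀ g ∈ Golay.genRows,
    (Golay.isCodeMask g && Golay.popCount g == 8) = true := by decide +kernel

theorem code_le_of_octad {U : Submodule (ZMod 2) (GolayPt → ZMod 2)} (hU : Inv U)
    {o : Finset GolayPt} (ho : o ∈ octads) (h : word o ∈ U) : golayCode ≤ U := by
  intro w hw
  obtain ⟨x, -, rfl⟩ := Golay.exists_encode hw
  refine Golay.combine_mem (P := fun m => word (Golay.ptsOf m) ∈ U) ?_ ?_ _ ?_ x
  · rw [Golay.ptsOf_zero, Golay.word_empty]; exact zero_mem _
  · intro a b ha hb; rw [Golay.ptsOf_xor, Golay.word_symmDiff]; exact add_mem ha hb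
  · intro g hg
    obtain ⟨σ, hσ, e⟩ := Golay.octads_transitive ho (Golay.mem_octads_of_mask (genRows_octads g hg))
    exact e ▸ word_mem_smul hU hσ h

theorem trivial_or_code_le {U : Submodule (ZMod 2) (GolayPt → ZMod 2)} (hU : Inv U)
    {w : GolayPt → ZMod 2} (hwU : w ∈ U) (hwC : w ∈ golayCode) :
    (w = 0 ∨ w = 1) ∨ golayCode ≤ U := by
  have hs := Golay.mem_golayCode_iff.mp hwC
  rw [← Golay.word_support₂ w] at hwU
  rcases Golay.card_isCodeSet hs with h | h | h | h | h
  · left; left
    rw [← Golay.word_support₂ w, Finset.card_eq_zero.mp h, Golay.word_empty]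
  · exact Or.inr (code_le_of_octad hU (Golay.mem_octads_iff.mpr ⟨hs, h⟩) hwU)
  · right
    have key : ∀ m : ℕ, (Golay.isCodeMask m && Golay.popCount m == 12) = true →
        word (Golay.ptsOf m) ∈ U := fun m hm => by
      obtain ⟨σ, hσ, e⟩ := Golay.dodecads_transitive (Golay.mem_dodecads_iff.mpr ⟨hs, h⟩)
        (Golay.mem_dodecads_of_mask hm)
      exact e ▸ word_mem_smul hU hσ hwU
    refine code_le_of_octad hU
      (Golay.mem_octads_of_mask (show (Golay.isCodeMask (8245261 ^^^ 15953934) &&
        Golay.popCount (8245261 ^^^ 15953934) == 8) = true by decide +kernel)) ?_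
    rw [Golay.ptsOf_xor, Golay.word_symmDiff]
    exact add_mem (key _ (by decide +kernel)) (key _ (by decide +kernel))
  · right
    have key : ∀ m : ℕ, (Golay.isCodeMask m && Golay.popCount m == 16) = true →
        word (Golay.ptsOf m) ∈ U := fun m hm => by
      rw [Bool.and_eq_true, beq_iff_eq] at hm
      obtain ⟨σ, hσ, e⟩ := Golay.octads_transitive (o := (support₂ w)ᶜ) (o' := (Golay.ptsOf m)ᶜ)
        (Golay.mem_octads_iff.mpr ⟨hs.compl, by
          rw [Finset.card_compl, Golay.card_golayPt, h]⟩)
        (Golay.mem_octads_iff.mpr ⟨(Golay.isCodeSet_of_isCodeMask hm.1).compl, by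
          rw [Finset.card_compl, Golay.card_golayPt, Golay.card_ptsOf, hm.2]⟩)
      have e' : σ • support₂ w = Golay.ptsOf m := by
        rw [← compl_inj_iff, ← e]
        ext p
        simp [← Finset.inv_smul_mem_iff]
      exact e' ▸ word_mem_smul hU hσ hwU
    refine code_le_of_octad hU
      (Golay.mem_octads_of_mask (show (Golay.isCodeMask (16101503 ^^^ 14676119) &&
        Golay.popCount (16101503 ^^^ 14676119) == 8) = true by decide +kernel)) ?_
    rw [Golay.ptsOf_xor, Golay.word_symmDiff]
    exact add_mem (key _ (by decide +kernel)) (key _ (by decide +kernel))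
  · left; right
    rw [← Golay.word_support₂ w, (Finset.card_eq_iff_eq_univ _).mp
      (h.trans Golay.card_golayPt.symm), Golay.word_univ]

/-- The dual of a subspace. -/
def perp (U : Submodule (ZMod 2) (GolayPt → ZMod 2)) : Submodule (ZMod 2) (GolayPt → ZMod 2) where
  carrier := {v | ∀ u ∈ U, ∑ p, v p * u p = 0}
  zero_mem' := fun u _ => by simp
  add_mem' := fun {a b} ha hb u hu => by
    simp [add_mul, Finset.sum_add_distrib, ha u hu, hb u hu]
  smul_mem' := fun c {a} ha u hu => by
    simp [mul_assoc, ← Finset.mul_sum, ha u hu]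

theorem perp_inv {U : Submodule (ZMod 2) (GolayPt → ZMod 2)} (hU : Inv U) : Inv (perp U) := by
  intro σ hσ v hv u hu
  have := hv _ (hU σ⁻¹ (inv_mem hσ) u hu)
  rw [← Equiv.sum_comp σ.symm] at this
  simpa [Equiv.Perm.inv_def] using this

theorem exists_small {U : Submodule (ZMod 2) (GolayPt → ZMod 2)} (hC : golayCode ≤ U)
    {w : GolayPt → ZMod 2} (hw : w ∈ U) (hwC : w ∉ golayCode) :
    ∃ V : Finset GolayPt, word V ∈ U ∧ V.Nonempty ∧ V.card ≤ 4 := by
  obtain ⟨V, hV, hc⟩ := Golay.exists_coset_card_le_four (support₂ w)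
  refine ⟨V, ?_, ?_, hc⟩
  · have := sub_mem hw (hC hV)
    rwa [Golay.word_symmDiff, Golay.word_support₂, sub_add_cancel_left,
      show -word V = word V from funext fun p => CharTwo.neg_eq _] at this
  · rw [Finset.nonempty_iff_ne_empty]
    rintro rfl
    refine hwC (Golay.mem_golayCode_iff.mpr ?_)
    rwa [← Finset.bot_eq_empty, symmDiff_bot] at hV

theorem mem_code_of_perp {v : GolayPt → ZMod 2} (hv : v ∈ perp golayCode) : v ∈ golayCode := by
  by_contra hvC
  obtain ⟨V, hV, hne, hc⟩ := exists_small (U := perp golayCode)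
    (fun u hu w hw => Golay.dot_eq_zero hu hw) hv hvC
  have hp := pairs_of_small (perp_inv code_inv) hV hne hc
    (i := Golay.pt ⟨0, by norm_num⟩) (j := none) (by decide)
  have := hp _ (Submodule.subset_span (Or.inl ⟨0, rfl⟩) : qrWord 0 ∈ golayCode)
  revert this
  decide +kernel

theorem main {W : Submodule (ZMod 2) (GolayPt → ZMod 2)} (hW : Inv W)
    (hWC : ¬ W ≤ golayCode) : golayCode ≤ W := by
  by_contra hCW
  have hsmall : ∀ w ∈ W, w ∈ golayCode → w = 0 ∨ w = 1 := fun w hw hc =>
    (trivial_or_code_le hW hw hc).resolve_right hCW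
  have hperp : ∀ v ∈ perp W, v ∈ golayCode → v = 0 ∨ v = 1 := fun v hv hc =>
    (trivial_or_code_le (perp_inv hW) hv hc).resolve_right fun hle => hWC fun w hw =>
      mem_code_of_perp fun u hu => by
        simpa [mul_comm] using hle hu w hw
  obtain ⟨i₀, hi₀⟩ : ∃ i₀ : GolayPt, i₀ = some 0 := ⟨_, rfl⟩
  -- every pair is congruent to a member of `W` modulo the code
  have hpair : word {none, i₀} ∈ W ⊔ golayCode := by
    by_contra hno
    obtain ⟨f, hf, hker⟩ := Submodule.exists_le_ker_of_notMem hno
    let v : GolayPt → ZMod 2 := fun p => f (Pi.single p 1)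
    have hfv : ∀ u : GolayPt → ZMod 2, f u = ∑ p, v p * u p := by
      intro u
      conv_lhs => rw [← Finset.univ_sum_single u, map_sum]
      refine Finset.sum_congr rfl fun p _ => ?_
      rw [show (Pi.single p (u p) : GolayPt → ZMod 2) = u p • Pi.single p 1 by
        rw [← Pi.single_smul, smul_eq_mul, mul_one], map_smul, smul_eq_mul, mul_comm]
    have hvW : v ∈ perp W := fun u hu => by
      rw [← hfv]; exact hker (Submodule.mem_sup_left hu)
    have hvC : v ∈ golayCode := mem_code_of_perp fun u hu => by
      rw [← hfv]; exact hker (Submodule.mem_sup_right hu)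
    apply hf
    rw [hfv]
    subst hi₀
    rcases hperp v hvW hvC with e | e <;> rw [e] <;> decide +kernel
  obtain ⟨w, hw, c, hc, e⟩ := Submodule.mem_sup.mp hpair
  have hfix : ∀ p, p ≠ none → p ≠ i₀ → c p = c (Golay.pt ⟨1, by norm_num⟩) := by
    intro p h1 h2
    subst hi₀
    obtain ⟨σ, hσ, hσp⟩ := Leech.exists_move_fix_two h1 h2
    obtain ⟨hσ1, hσ0⟩ := Subgroup.mem_inf.mp hσ
    obtain ⟨hσ24, hσi⟩ := Subgroup.mem_inf.mp hσ1
    rw [MulAction.mem_stabilizer_iff] at hσ0 hσi
    change σ _ = _ at hσ0 hσi
    have hinv : (fun q => c (σ.symm q)) = c := by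
      have hd : w - (fun q => w (σ.symm q)) = (fun q => c (σ.symm q)) - c := by
        have e1 : (fun q => word {none, (some 0 : GolayPt)} (σ.symm q)) =
            word {none, (some 0 : GolayPt)} := by
          rw [comp_symm_word]
          congr 1
          rw [Finset.smul_finset_insert, Finset.smul_finset_singleton, Equiv.Perm.smul_def,
            Equiv.Perm.smul_def, hσi, hσ0]
        funext q
        have a := congrFun e q
        have b := congrFun e (σ.symm q)
        have d := congrFun e1 q
        simp only [Pi.add_apply, Pi.sub_apply] at a b d ⊢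
        linear_combination a - b - d
      rcases hsmall _ (sub_mem hw (hW σ hσ24 w hw))
        (hd ▸ sub_mem (code_inv σ hσ24 c hc) hc) with h | h
      · rw [hd] at h; exact sub_eq_zero.mp h
      · exfalso
        rw [hd] at h
        have := congrFun h none
        simp only [Pi.sub_apply, Pi.one_apply] at this
        rw [show σ.symm none = none from σ.symm_apply_eq.mpr hσi.symm, sub_self] at this
        exact zero_ne_one this
    have := congrFun hinv (Golay.pt ⟨1, by norm_num⟩)
    rwa [show σ.symm (Golay.pt ⟨1, by norm_num⟩) = p from σ.symm_apply_eq.mpr hσp.symm] at this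
  have hc01 : c = 0 ∨ c = 1 := by
    have hcard := Golay.card_isCodeSet (Golay.mem_golayCode_iff.mp hc)
    rcases Golay.zmod2_cases (c (Golay.pt ⟨1, by norm_num⟩)) with h | h
    · left
      have hsub : support₂ c ⊆ {none, i₀} := by
        intro p hp
        simp only [support₂, Finset.mem_filter, Finset.mem_univ, true_and] at hp
        simp only [Finset.mem_insert, Finset.mem_singleton]
        by_contra hh
        rw [not_or] at hh
        exact hp ((hfix p hh.1 hh.2).trans h)
      have := (Finset.card_le_card hsub).trans (Finset.card_le_two)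
      rw [← Golay.word_support₂ c, Finset.card_eq_zero.mp (by omega : (support₂ c).card = 0),
        Golay.word_empty]
    · right
      have hsub : ({none, i₀} : Finset GolayPt)ᶜ ⊆ support₂ c := by
        intro p hp
        simp only [Finset.mem_compl, Finset.mem_insert, Finset.mem_singleton, not_or] at hp
        simp [support₂, (hfix p hp.1 hp.2).trans h]
      have h22 := Finset.card_le_card hsub
      rw [Finset.card_compl, Golay.card_golayPt] at h22
      have : ({none, i₀} : Finset GolayPt).card ≤ 2 := Finset.card_le_two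
      rw [← Golay.word_support₂ c, (Finset.card_eq_iff_eq_univ _).mp
        ((by omega : (support₂ c).card = 24).trans Golay.card_golayPt.symm), Golay.word_univ]
  -- so `W` with the all-ones word contains every pair
  let U := W ⊔ Submodule.span (ZMod 2) {(1 : GolayPt → ZMod 2)}
  have hUinv : Inv U := by
    intro σ hσ u hu
    obtain ⟨a, ha, b, hb, rfl⟩ := Submodule.mem_sup.mp hu
    refine Submodule.mem_sup.mpr ⟨_, hW σ hσ a ha, b, hb, ?_⟩
    obtain ⟨k, rfl⟩ := Submodule.mem_span_singleton.mp hb
    rfl
  have hpU : word {none, i₀} ∈ U := by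
    rw [← e]
    refine add_mem (Submodule.mem_sup_left hw) (Submodule.mem_sup_right ?_)
    rcases hc01 with h | h <;> rw [h]
    · exact zero_mem _
    · exact Submodule.mem_span_singleton_self _
  have hall : golayCode ≤ U := fun u hu => even_mem (fun i hi =>
    pairs_of_small hUinv hpU (by simp) (Finset.card_le_two.trans (by norm_num)) hi)
    (code_even hu)
  have ho := Golay.octad0_mem
  rw [Golay.mem_octads_iff] at ho
  obtain ⟨a, ha, b, hb, e'⟩ := Submodule.mem_sup.mp (hall ho.1)
  obtain ⟨k, rfl⟩ := Submodule.mem_span_singleton.mp hb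
  have haC : a ∈ golayCode := by
    have h1 : (1 : GolayPt → ZMod 2) ∈ golayCode := Submodule.subset_span (Or.inr rfl)
    rw [eq_sub_of_add_eq e']
    exact sub_mem ho.1 (golayCode.smul_mem k h1)
  have hk := Golay.zmod2_cases k
  revert e'
  rcases hsmall a ha haC with ha' | ha' <;> rcases hk with hk' | hk' <;> subst ha' <;> subst hk' <;>
    decide +kernel


/-- For the automorphism group of the length-24 binary Golay code of the definitions (the Mathieu group of degree 24) acting on binary words of length 24 by permuting coordinates, the only invariant subspaces of the space of all words are: zero, the span of the all-ones word, the code itself, the even-weight words, and the whole space. (So the permutation module has a unique composition series.) -/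
theorem result (W : Submodule (ZMod 2) (Cfsg.GolayPt → ZMod 2)) (hW : ∀ σ ∈ Cfsg.M24, ∀ w ∈ W, (fun p => w (σ.symm p)) ∈ W) : W = ⊥ ∨ W = Submodule.span (ZMod 2) {fun _ => (1 : ZMod 2)} ∨ W = Cfsg.golayCode ∨ (W : Set (Cfsg.GolayPt → ZMod 2)) = {w | ∑ p, w p = 0} ∨ W = ⊤ := by
  by_cases hWC : W ≤ golayCode
  · by_cases hCW : golayCode ≤ W
    · exact Or.inr (Or.inr (Or.inl (le_antisymm hWC hCW)))
    · have hs : ∀ w ∈ W, w = 0 ∨ w = 1 := fun w hw =>
        (trivial_or_code_le hW hw (hWC hw)).resolve_right hCW
      by_cases h1 : (1 : GolayPt → ZMod 2) ∈ W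
      · refine Or.inr (Or.inl (le_antisymm (fun w hw => ?_) ?_))
        · rcases hs w hw with rfl | rfl
          · exact zero_mem _
          · exact Submodule.mem_span_singleton_self _
        · rw [Submodule.span_le, Set.singleton_subset_iff]; exact h1
      · refine Or.inl ((Submodule.eq_bot_iff W).mpr fun w hw => ?_)
        exact (hs w hw).resolve_right fun e => h1 (e ▸ hw)
  · have hCW := main hW hWC
    obtain ⟨w, hw, hwC⟩ := SetLike.not_le_iff_exists.mp hWC
    obtain ⟨V, hV, hne, hc⟩ := exists_small hCW hw hwC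
    have heven : ∀ u : GolayPt → ZMod 2, ∑ p, u p = 0 → u ∈ W := fun u hu =>
      even_mem (fun i hi => pairs_of_small hW hV hne hc hi) hu
    refine Or.inr (Or.inr (Or.inr ?_))
    by_cases hodd : ∀ u ∈ W, ∑ p, u p = 0
    · exact Or.inl (Set.ext fun u => ⟨hodd u, heven u⟩)
    · push Not at hodd
      obtain ⟨u, hu, hu1⟩ := hodd
      refine Or.inr (eq_top_iff.mpr fun x _ => ?_)
      rcases Golay.zmod2_cases (∑ p, x p) with h | h
      · exact heven x h
      · have : ∑ p, (x + u) p = 0 := by
          rw [Finset.sum_congr rfl fun p _ => Pi.add_apply x u p, Finset.sum_add_distrib, h,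
            (Golay.zmod2_cases _).resolve_left hu1]
          rfl
        simpa using sub_mem (heven _ this) hu

end Cfsg.Agent.S5548
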