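import Cfsg.Statements.S2947
import Cfsg.Agent.Lib.CharP.Basic

set_option autoImplicit false
open Cfsg

namespace Cfsg.Agent.S2947

/-- A 2-group normalizing a nontrivial 2-group fixes a nontrivial element of it. -/
theorem no_fixed {G : Type*} [Group G] [Finite G] {Q R : Subgroup G} (hQ : IsPGroup 2 ↥Q)
    (hR : IsPGroup 2 ↥R) (hRQ : R ≤ Subgroup.normalizer (Q : Set G)) (hQ1 : Q ≠ ⊥)
    (hb : Q ⊓ Subgroup.centralizer (R : Set G) = ⊥) : False := by
  have : Fact (Nat.Prime 2) := ⟨Nat.prime_two⟩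
  induction hn : Nat.card Q using Nat.strong_induction_on generalizing Q with
  | _ n ih =>
    by_cases hC : ⁅Q, R⁆ = ⊥
    · exact hQ1 (by rwa [inf_eq_left.mpr (Subgroup.commutator_eq_bot_iff_le_centralizer.mp hC)] at hb)
    have hlt := Cfsg.Agent.Lib.Coprime.commutator_lt_of_isPGroup hQ hR hRQ hQ1
    refine ih (Nat.card ↥⁅Q, R⁆) (hn ▸ Set.Finite.card_lt_card (Set.toFinite _) hlt)
      (hQ.to_le hlt.le) (Subgroup.normalizer_commutator_ge_right Q R) hC ?_ rfl
    exact le_bot_iff.mp ((inf_le_inf_right _ hlt.le).trans hb.le)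

/-- Let G be a finite group of characteristic 2 type in which every 2-local subgroup is solvable and the centralizer of Ω₁(Z(S)) lies in N_G(S) for every Sylow 2-subgroup S; suppose O₂(G) = 1, fix a Sylow 2-subgroup S and a 2-local subgroup M containing N_G(J(S)) (J the Thompson subgroup generated by the elementary abelian 2-subgroups of largest order). Then M is strongly embedded in G (a proper subgroup of even order whose intersection with each conjugate by an element outside M has odd order) if and only if no nontrivial 2-subgroup of M lies in a 2-local subgroup of G not contained in M. -/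
theorem result {G : Type*} [Group G] [Finite G] (hL : Cfsg.IsCharacteristicTwoType G) (hN : ∀ N : Subgroup G, Cfsg.IsTwoLocal N → Group.IsSolvable ↥N)
    (hZ : ∀ S : Sylow 2 G, Subgroup.centralizer (Cfsg.omegaCenterOf (S : Subgroup G) : Set G) ≤ Subgroup.normalizer ((S : Subgroup G) : Set G)) (hO : Cfsg.pCore 2 G = ⊥) (S : Sylow 2 G) (M : Subgroup G) (hM : Cfsg.IsTwoLocal M)
    (hMJ : Subgroup.normalizer (Cfsg.thompsonSubgroupOf 2 (S : Subgroup G) : Set G) ≤ M) :
    Cfsg.IsStronglyEmbedded M ↔ Cfsg.straddlingTwoSubgroups M = ∅ := by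
  have hconjC : ∀ t g x : G, x ∈ Subgroup.centralizer ({t} : Set G) →
      Commute (g * x * g⁻¹) (g * t * g⁻¹) := fun t g x hx => by
    show g * x * g⁻¹ * (g * t * g⁻¹) = g * t * g⁻¹ * (g * x * g⁻¹)
    calc g * x * g⁻¹ * (g * t * g⁻¹) = g * (x * t) * g⁻¹ := by group
      _ = g * (t * x) * g⁻¹ := by rw [Subgroup.mem_centralizer_singleton_iff.mp hx]
      _ = _ := by group
  constructor
  · rintro ⟨hne, heven, hse⟩
    -- centralizers of involutions of `M` lie in `M`
    have hC : ∀ t ∈ M, orderOf t = 2 → Subgroup.centralizer ({t} : Set G) ≤ M := by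
      intro t ht ht2 c hc
      by_contra hcM
      have hodd := hse c hcM
      have hmem : t ∈ M ⊓ M.map (MulAut.conj c).toMonoidHom := by
        refine ⟨ht, t, ht, ?_⟩
        show c * t * c⁻¹ = t
        exact mul_inv_eq_iff_eq_mul.mpr (Subgroup.mem_centralizer_singleton_iff.mp hc)
      have h2 := Subgroup.orderOf_dvd_natCard _ hmem
      rw [ht2] at h2
      exact Nat.not_even_iff_odd.mpr hodd (even_iff_two_dvd.mpr h2)
    have : Fact (Nat.Prime 2) := ⟨Nat.prime_two⟩
    -- normalizers of nontrivial 2-subgroups of `M` lie in `M`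
    have hN : ∀ R : Subgroup G, IsPGroup 2 ↥R → R ≠ ⊥ → R ≤ M →
        Subgroup.normalizer (R : Set G) ≤ M := by
      intro R hR hR1 hRM g hg
      by_contra hgM
      obtain ⟨t, ht⟩ := exists_prime_orderOf_dvd_card' (G := R) 2
        (hR.card_eq_or_dvd.resolve_left fun h => hR1 (Subgroup.eq_bot_of_card_eq _ h))
      have hgi : g⁻¹ * t * g ∈ R := by
        simpa using (Subgroup.mem_normalizer_iff.mp (inv_mem hg) t).mp t.2
      have hmem : (t : G) ∈ M ⊓ M.map (MulAut.conj g).toMonoidHom :=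
        ⟨hRM t.2, g⁻¹ * t * g, hRM hgi, by simp [mul_assoc]⟩
      have h2 := Subgroup.orderOf_dvd_natCard _ hmem
      rw [Subgroup.orderOf_coe, ht] at h2
      exact Nat.not_even_iff_odd.mpr (hse g hgM) (even_iff_two_dvd.mpr h2)
    rw [Set.eq_empty_iff_forall_notMem]
    rintro R ⟨hR, hR1, hRM, L, ⟨Q, hQ, hQ1, rfl⟩, hRL, hLM⟩
    -- `Q ⊓ M` is nontrivial, so `Q ≤ M`
    have hfix : Q ⊓ M ≠ ⊥ := by
      intro h0
      have hCR : Q ⊓ Subgroup.centralizer (R : Set G) ≤ Q ⊓ M := by
        obtain ⟨t, ht⟩ := exists_prime_orderOf_dvd_card' (G := R) 2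
          (hR.card_eq_or_dvd.resolve_left fun h => hR1 (Subgroup.eq_bot_of_card_eq _ h))
        refine inf_le_inf_left Q (le_trans ?_ (hC t (hRM t.2) (by rw [Subgroup.orderOf_coe, ht])))
        exact Subgroup.centralizer_le (Set.singleton_subset_iff.mpr t.2)
      rw [h0] at hCR
      have hfp : Q ⊓ Subgroup.centralizer (R : Set G) ≠ ⊥ := by
        intro hb
        exact Cfsg.Agent.S2947.no_fixed hQ hR hRL hQ1 hb
      exact hfp (le_bot_iff.mp hCR)
    have hQM : Q ≤ M := by
      have := hQ.isNilpotent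
      by_contra h
      have hlt : (Q ⊓ M).subgroupOf Q < ⊤ := lt_top_iff_ne_top.mpr fun h' =>
        h ((Subgroup.subgroupOf_eq_top.mp h').trans inf_le_right)
      obtain ⟨u, hu, hu'⟩ :=
        SetLike.exists_of_lt (Group.normalizerCondition_of_isNilpotent _ hlt)
      apply hu'
      have h1 : (u : G) ∈ Subgroup.normalizer ((Q ⊓ M : Subgroup G) : Set G) := by
        rw [Subgroup.mem_normalizer_iff]
        intro y
        constructor
        · intro hy
          exact (Subgroup.mem_normalizer_iff.mp hu ⟨y, hy.1⟩).mp hy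
        · intro hy
          have hyQ : y ∈ Q := by
            have := Q.mul_mem (Q.mul_mem (Q.inv_mem u.2) hy.1) u.2
            simpa [mul_assoc] using this
          exact (Subgroup.mem_normalizer_iff.mp hu ⟨y, hyQ⟩).mpr hy
      exact ⟨u.2, hN _ (hQ.to_le inf_le_left) hfix inf_le_right h1⟩
    exact hLM (hN Q hQ hQ1 hQM)
  · intro hempty
    have : Fact (Nat.Prime 2) := ⟨Nat.prime_two⟩
    have hN : ∀ R : Subgroup G, IsPGroup 2 ↥R → R ≠ ⊥ → R ≤ M →
        Subgroup.normalizer (R : Set G) ≤ M := by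
      intro R hR hR1 hRM
      by_contra h
      exact (Set.eq_empty_iff_forall_notMem.mp hempty R)
        ⟨hR, hR1, hRM, _, ⟨R, hR, hR1, rfl⟩, Subgroup.le_normalizer, h⟩
    obtain ⟨U, hU, hU1, hUM⟩ := hM
    have hUle : U ≤ M := hUM ▸ Subgroup.le_normalizer
    have h2U : 2 ∣ Nat.card U :=
      hU.card_eq_or_dvd.resolve_left fun h => hU1 (Subgroup.eq_bot_of_card_eq _ h)
    refine ⟨?_, even_iff_two_dvd.mpr (h2U.trans (Subgroup.card_dvd_of_le hUle)), ?_⟩
    · intro htop
      rw [htop] at hUM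
      have hUn : U.Normal := Subgroup.normalizer_eq_top_iff.mp hUM.symm
      exact hU1 (le_bot_iff.mp (hO ▸ Cfsg.Agent.Lib.PSolvable.le_pCore (hN := hUn) hU))
    intro g hg
    by_contra hodd
    rw [Nat.not_odd_iff_even, even_iff_two_dvd] at hodd
    set I := M ⊓ M.map (MulAut.conj g).toMonoidHom with hI
    obtain ⟨P⟩ := (inferInstance : Nonempty (Sylow 2 ↥I))
    set D : Subgroup G := (P : Subgroup ↥I).map I.subtype with hD
    have hDI : D ≤ I := Subgroup.map_subtype_le _
    have hDp : IsPGroup 2 ↥D := P.isPGroup'.map _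
    have hD1 : D ≠ ⊥ := by
      intro h
      rw [hD, Subgroup.map_eq_bot_iff, Subgroup.ker_subtype, le_bot_iff] at h
      exact P.ne_bot_of_dvd_card hodd h
    -- `D` is a Sylow subgroup of `G`: otherwise its normalizer grows inside `I`
    have hNg : Subgroup.normalizer (D : Set G) ≤ M.map (MulAut.conj g).toMonoidHom := by
      have hD' : D.map (MulAut.conj g⁻¹).toMonoidHom ≤ M := by
        rintro _ ⟨x, hx, rfl⟩
        obtain ⟨y, hy, rfl⟩ := (hDI hx).2
        simpa [mul_assoc] using hy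
      have h := hN _ (hDp.map _) (by
        rwa [Ne, Subgroup.map_eq_bot_iff_of_injective _ (MulAut.conj g⁻¹).injective]) hD'
      intro n hn
      refine ⟨g⁻¹ * n * g, h ?_, by simp [mul_assoc]⟩
      refine Subgroup.le_normalizer_map _ ⟨n, hn, ?_⟩
      simp
    have hND : Subgroup.normalizer (D : Set G) ≤ I :=
      le_inf (hN D hDp hD1 (hDI.trans inf_le_left)) hNg
    obtain ⟨T, hT⟩ := hDp.exists_le_sylow
    have hTD : (T : Subgroup G) ≤ D := by
      by_contra h
      have := T.isPGroup'.isNilpotent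
      have hlt : D.subgroupOf (T : Subgroup G) < ⊤ := lt_top_iff_ne_top.mpr fun h' =>
        h (Subgroup.subgroupOf_eq_top.mp h')
      obtain ⟨u, hu, hu'⟩ := SetLike.exists_of_lt (Group.normalizerCondition_of_isNilpotent _ hlt)
      have huN : (u : G) ∈ Subgroup.normalizer (D : Set G) := by
        rw [Subgroup.mem_normalizer_iff]
        intro y
        constructor
        · intro hy
          exact (Subgroup.mem_normalizer_iff.mp hu ⟨y, hT hy⟩).mp hy
        · intro hy
          have hyT : y ∈ (T : Subgroup G) := by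
            have := mul_mem (mul_mem (inv_mem u.2) (hT hy)) u.2
            simpa [mul_assoc] using this
          exact (Subgroup.mem_normalizer_iff.mp hu ⟨y, hyT⟩).mpr hy
      apply hu'
      -- the maximal 2-subgroup `(T ⊓ I)` of `I` equals `D`
      have hp : IsPGroup 2 ↥((T : Subgroup G).subgroupOf I) :=
        IsPGroup.comap_of_injective T.isPGroup' _ I.subtype_injective
      have hle : (P : Subgroup ↥I) ≤ (T : Subgroup G).subgroupOf I := fun x hx => hT ⟨x, hx, rfl⟩
      have heq := P.3 hp hle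
      exact ⟨⟨u, hND huN⟩, heq.le u.2, rfl⟩
    have hTM : (T : Subgroup G) ≤ M := hTD.trans (hDI.trans inf_le_left)
    have hT'M : ((MulAut.conj g⁻¹ • T : Sylow 2 G) : Subgroup G) ≤ M := by
      rintro _ ⟨x, hx, rfl⟩
      obtain ⟨y, hy, rfl⟩ := (hDI (hTD hx)).2
      simpa [mul_assoc] using hy
    obtain ⟨m, hm⟩ := MulAction.exists_smul_eq ↥M ((MulAut.conj g⁻¹ • T).subtype hT'M) (T.subtype hTM)
    have hnorm : (m : G) * g⁻¹ ∈ Subgroup.normalizer ((T : Subgroup G) : Set G) := by
      rw [Subgroup.mem_normalizer_iff_map_conj_eq]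
      refine Subgroup.eq_of_le_of_card_ge ?_
        (by rw [Subgroup.card_map_of_injective (MulAut.conj _).injective])
      rintro _ ⟨x, hx, rfl⟩
      have hmem : (MulAut.conj g⁻¹) x ∈ ((MulAut.conj g⁻¹ • T : Sylow 2 G) : Subgroup G) :=
        ⟨x, hx, rfl⟩
      have h2 : m * ⟨_, hT'M hmem⟩ * m⁻¹ ∈ (T.subtype hTM : Subgroup ↥M) :=
        hm.le ⟨⟨_, hT'M hmem⟩, hmem, rfl⟩
      have h3 : (m : G) * (MulAut.conj g⁻¹ x) * (m : G)⁻¹ ∈ (T : Subgroup G) := h2
      simpa [mul_assoc] using h3
    have hTne : (T : Subgroup G) ≠ ⊥ := fun h => hD1 (le_bot_iff.mp (h ▸ hT))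
    have hmg := hN _ T.isPGroup' hTne hTM hnorm
    exact hg (by simpa using M.inv_mem ((Subgroup.mul_mem_cancel_left M m.2).mp hmg))

end Cfsg.Agent.S2947
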