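import Cfsg.Statements.S0992
import Mathlib
import Cfsg.Agent.Lib.SmallGroups.Basic
import Cfsg.Agent.Lib.SmallGroups.PrimeSylow

set_option autoImplicit false
set_option linter.style.haveILetI false
open Cfsg
open Cfsg.Agent.Lib.SmallGroups Subgroup

namespace Cfsg.Agent.S0992

/-- Let G be a non-abelian finite simple group of even order not divisible by 8, and T a Sylow 2-subgroup. Then T is a Klein four-group and the centralizer of T has index 3 in the normalizer of T. -/
theorem result {G : Type*} [Group G] [Finite G] [IsSimpleGroup G] (hG : ¬ IsMulCommutative G) (h2 : Even (Nat.card G)) (h8 : ¬ 8 ∣ Nat.card G) (T : Sylow 2 G) : IsKleinFour ↥(T : Subgroup G) ∧ (Subgroup.centralizer ((T : Subgroup G) : Set G)).relIndex (Subgroup.normalizer ((T : Subgroup G) : Set G)) = 3 := by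
  classical
  haveI : Fact (Nat.Prime 2) := ⟨Nat.prime_two⟩
  have h2d : 2 ∣ Nat.card G := even_iff_two_dvd.mp h2
  have hne : Nat.card G ≠ 1 := Finite.one_lt_card.ne'
  have hmf : (Nat.card G).minFac = 2 := Nat.minFac_eq_two_iff _ |>.mpr h2d
  have h4 : 2 ^ 2 ∣ Nat.card G := by
    have := sq_minFac_dvd_card hG
    rwa [hmf] at this
  have hT : Nat.card (T : Subgroup G) = 4 := by
    obtain ⟨k, hk⟩ := T.2.exists_card_eq
    have h1 : 2 ^ 2 ∣ 2 ^ k := hk ▸ T.pow_dvd_card_of_pow_dvd_card h4
    have h3 : ¬ 3 ≤ k := fun h => h8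
      ((pow_dvd_pow 2 h).trans (hk ▸ card_subgroup_dvd_card (T : Subgroup G)))
    have h2k := (Nat.pow_dvd_pow_iff_le_right (by norm_num)).mp h1
    rw [hk, show k = 2 by omega]; norm_num
  have hnc : ¬ IsCyclic (T : Subgroup G) := fun hc =>
    not_normalizer_le_centralizer hG h2d T (IsCyclic.normalizer_le_centralizer hmf hc)
  haveI hK : IsKleinFour ↥(T : Subgroup G) := by
    refine ⟨hT, ?_⟩
    have hsq : ∀ u : (T : Subgroup G), u ^ 2 = 1 := by
      intro u
      have h1 : orderOf u ∣ 4 := hT ▸ orderOf_dvd_natCard u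
      have h2 : orderOf u ≠ 4 := fun h => hnc (isCyclic_of_orderOf_eq_card u (h.trans hT.symm))
      apply orderOf_dvd_iff_pow_eq_one.mp
      have h3 := Nat.le_of_dvd (by norm_num) h1
      interval_cases orderOf u <;> norm_num at *
    rcases (Nat.dvd_prime Nat.prime_two).mp (Monoid.exponent_dvd_of_forall_pow_eq_one hsq) with h | h
    · haveI : Subsingleton ↥(T : Subgroup G) := Monoid.exp_eq_one_iff.mp h
      rw [Nat.card_unique] at hT
      norm_num at hT
    · exact h
  refine ⟨hK, ?_⟩
  have hle : (T : Subgroup G) ≤ centralizer ((T : Subgroup G) : Set G) := fun x hx =>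
    mem_centralizer_iff.mpr fun y hy =>
      congrArg Subtype.val (mul_comm_of_exponent_two hK.exponent_two (⟨y, hy⟩ : (T : Subgroup G)) ⟨x, hx⟩)
  set C := centralizer ((T : Subgroup G) : Set G)
  set N := normalizer ((T : Subgroup G) : Set G)
  have hne1 : C.relIndex N ≠ 1 := fun h =>
    not_normalizer_le_centralizer hG h2d T (relIndex_eq_one.mp h)
  have hodd : ¬ 2 ∣ C.relIndex N := by
    intro h
    have h1 : C.relIndex N ∣ (T : Subgroup G).relIndex N := relIndex_dvd_of_le_left _ hle
    have h2' : (T : Subgroup G).relIndex N ∣ (T : Subgroup G).index :=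
      relIndex_dvd_index_of_le le_normalizer
    exact T.not_dvd_index (h.trans (h1.trans h2'))
  have hsix : C.relIndex N ∣ 6 := by
    have key := card_dvd_of_injective _ (QuotientGroup.kerLift_injective (T : Subgroup G).normalizerMonoidHom)
    rw [normalizerMonoidHom_ker, ← index, ← relIndex] at key
    refine key.trans ?_
    haveI := Fintype.ofFinite (T : Subgroup G)
    let ψ : MulAut (T : Subgroup G) →* Equiv.Perm {u : (T : Subgroup G) // u ≠ 1} :=
      { toFun := fun a => a.toEquiv.subtypeEquiv fun u => by simp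
        map_one' := by ext; rfl
        map_mul' := fun a b => by ext; rfl }
    have hψ : Function.Injective ψ := fun a b h => by
      ext u
      by_cases hu : u = 1
      · simp [hu]
      · exact congrArg Subtype.val (congrArg Subtype.val (Equiv.congr_fun h ⟨u, hu⟩))
    refine (card_dvd_of_injective ψ hψ).trans ?_
    rw [Nat.card_perm, Nat.card_eq_fintype_card, Fintype.card_subtype_compl,
      Fintype.card_subtype_eq, ← Nat.card_eq_fintype_card, hT]
    rfl
  have := Nat.le_of_dvd (by norm_num) hsix
  interval_cases h : C.relIndex N <;> norm_num at *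

end Cfsg.Agent.S0992
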