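import Cfsg.Statements.S0999
import Cfsg.Agent.S4701
import Cfsg.Agent.Lib.BrauerReynolds.Corollaries
-- import your own Cfsg.Agent.* helpers here

set_option autoImplicit false
open Cfsg

set_option linter.style.haveILetI false

namespace Cfsg.Agent.S0999

/-- Let G be a non-cyclic finite simple group and p a prime divisor of its order with p^3 > |G|. Then p > 3 and G is isomorphic to the projective special linear group of dimension 2 over the field with p elements, or p - 1 is a power of 2 and G is isomorphic to that group over the field with p - 1 elements. -/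
theorem result {G : Type*} [Group G] [Finite G] [IsSimpleGroup G] (hG : ¬ IsCyclic G) (p : ℕ) (hp : p.Prime) (hdvd : p ∣ Nat.card G) (hbig : Nat.card G < p ^ 3) : (∃ (F : Type) (_ : Field F) (_ : Fintype F), Fintype.card F = p ∧ 3 < p ∧ Nonempty (G ≃* Matrix.ProjectiveSpecialLinearGroup (Fin 2) F)) ∨ (∃ (m : ℕ) (F : Type) (_ : Field F) (_ : Fintype F), Fintype.card F = 2 ^ m ∧ p = 2 ^ m + 1 ∧ 3 < p ∧ Nonempty (G ≃* Matrix.ProjectiveSpecialLinearGroup (Fin 2) F)) := by
  classical
  haveI : Fact p.Prime := ⟨hp⟩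
  have hnc : ¬ IsMulCommutative G := fun h => by
    letI : CommGroup G := { (inferInstance : Group G) with mul_comm := h.1.comm }
    exact hG IsSimpleGroup.isCyclic
  have hperf : commutator G = ⊤ := by
    rcases (inferInstance : (commutator G).Normal).eq_bot_or_eq_top with h | h
    · exact absurd ⟨⟨fun a b => (Subgroup.commutator_eq_bot_iff_le_centralizer.mp h
        (Subgroup.mem_top a)) b (Subgroup.mem_top b) |>.symm⟩⟩ hnc
    · exact h
  obtain ⟨P⟩ := (inferInstance : Nonempty (Sylow p G))
  have hP : ¬ (P : Subgroup G).Normal := fun h => by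
    rcases h.eq_bot_or_eq_top with h' | h'
    · exact P.ne_bot_of_dvd_card hdvd h'
    · have hG2 : IsPGroup p G := IsPGroup.of_equiv P.2 ((MulEquiv.subgroupCongr h').trans Subgroup.topEquiv)
      haveI : Group.IsNilpotent G := hG2.isNilpotent
      haveI : Nontrivial G := IsSimpleGroup.toNontrivial
      haveI : Nontrivial (Subgroup.center G) := hG2.center_nontrivial
      rcases (inferInstance : (Subgroup.center G).Normal).eq_bot_or_eq_top with h'' | h''
      · exact (Subgroup.nontrivial_iff_ne_bot _).mp inferInstance h''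
      · exact hnc ⟨⟨fun a b => (Subgroup.mem_center_iff.mp (h''.symm ▸ Subgroup.mem_top b) a)⟩⟩
  have h2 : ∀ N : Subgroup G, N.Normal → Nat.card N ≠ 2 := fun N hN h => by
    rcases hN.eq_bot_or_eq_top with h' | h'
    · rw [h', Subgroup.card_bot] at h
      omega
    · rw [h', Subgroup.card_top] at h
      haveI : Fact (Nat.Prime 2) := ⟨Nat.prime_two⟩
      exact hG (isCyclic_of_prime_card h)
  rcases Cfsg.Agent.S4701.result hperf p hdvd hbig P hP h2 with h | ⟨m, F, iF, iFt, hF, hpm, hp3, ⟨e⟩⟩
  · exact Or.inl h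
  · obtain ⟨e'⟩ := @Cfsg.Agent.Lib.BrauerReynolds.nonempty_SL_equiv_PSL F iF iFt m hF
      (Cfsg.Agent.Lib.BrauerReynolds.one_le_of_fermat hpm hp3)
    exact Or.inr ⟨m, F, iF, iFt, hF, hpm, hp3, ⟨e.trans e'⟩⟩

end Cfsg.Agent.S0999
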