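import Cfsg.Statements.S0975
import Mathlib
import Cfsg.Agent.Lib.SmallGroups.Basic
import Cfsg.Agent.Lib.SmallGroups.PrimeSylow
import Cfsg.Agent.Lib.SmallGroups.PrimeChar.Corollaries

set_option autoImplicit false
set_option linter.style.haveILetI false
open Cfsg
open Cfsg.Agent.Lib.SmallGroups

namespace Cfsg.Agent.S0975

/-- No finite simple group has order 3744 = 2^5 * 3^2 * 13. -/
theorem result {G : Type*} [Group G] [Finite G] [IsSimpleGroup G] : Nat.card G ≠ 3744 := by
  intro h
  haveI : Fact (Nat.Prime 13) := ⟨by norm_num⟩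
  have hG : ¬ IsMulCommutative G := not_isMulCommutative_of_not_prime (by rw [h]; norm_num)
  have hn := card_sylow_mem hG (p := 13) (k := 1) (m := 288) (by rw [h]; norm_num) (by norm_num) one_ne_zero
  have e : (Nat.divisors 288).filter (fun d => d % 13 = 1 ∧ d ≠ 1) = {144} := by decide +kernel
  rw [e, Finset.mem_singleton] at hn
  have P : Sylow 13 G := default
  have hP := (card_sylow_eq P (k := 1) (m := 288) (by rw [h]; norm_num) (by norm_num)).trans (pow_one 13)
  obtain ⟨f, d, hf, hd, hf1, hfd, htot⟩ :=
    PrimeChar.degrees_two hG P hP (t := 6) (by rw [hn, h]) (by norm_num) (by norm_num)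
  rw [h] at hf hd htot
  have hlt : f < 62 := by nlinarith
  have key : ∀ f < 62, f ∣ 3744 → 1 < f → (f % 13 = 1 ∨ f % 13 = 12) → f = 12 := by
    decide +kernel
  obtain rfl := key f hlt hf hf1 (by omega)
  obtain rfl : d = 11 := by omega
  norm_num at hd

end Cfsg.Agent.S0975
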