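import Cfsg.Statements.S0977
import Cfsg.Agent.Lib.BrauerTuan.FiveSetting
import Cfsg.Agent.Lib.BrauerTuan.Main
import Cfsg.Agent.Lib.SmallGroups.PrimeChar.Involutions
-- import your own Cfsg.Agent.* helpers here

set_option autoImplicit false
open Cfsg

namespace Cfsg.Agent.S0977

set_option linter.style.haveILetI false

open scoped ComplexConjugate
open Finset Cfsg.Agent.Lib
open Cfsg.Agent.Lib.DefectOne Cfsg.Agent.Lib.BrauerReynolds Cfsg.Agent.Lib.BrauerTuan

/-- The signed degree. -/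
def sgn (f : ℕ) : ℤ := if f % 5 = 1 then f else -f

/-- The possible degrees. -/
def degs : List ℕ := [4, 6, 9, 16, 24, 36, 54]

theorem mem_degs : ∀ f ∈ List.range 66, f ∣ 864 → 1 < f → (f % 5 = 1 ∨ f % 5 = 4) → f ∈ degs := by
  decide +kernel

/-- A member of a principal block, with the prime powers excluded. -/
def pick (pure : List ℕ) (f : ℕ) (b : Bool) : ℤ := if b ∧ f ∉ pure then sgn f else 0

set_option synthInstance.maxSize 5000 in
set_option synthInstance.maxHeartbeats 400000 in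
theorem table : ∀ a ∈ degs, ∀ b ∈ degs, ∀ c ∈ degs, ∀ d ∈ degs,
    1 + sgn a + sgn b + sgn c + sgn d = 0 → 1 + a * a + b * b + c * c + d * d ≤ 4320 →
    ∀ u₁ u₂ u₃ u₄ : Bool,
    (32 : ℤ) ∣ 1 + pick [4, 16] a u₁ + pick [4, 16] b u₂ + pick [4, 16] c u₃ + pick [4, 16] d u₄ →
    (∀ f ∈ [4, 9, 24, 36], f ∈ [a, b, c, d]) ∧
      (pick [4, 16] a u₁ ≠ 0 → a = 9 ∨ a = 24) ∧ ((a = 9 ∨ a = 24) → pick [4, 16] a u₁ ≠ 0) ∧
      (pick [4, 16] b u₂ ≠ 0 → b = 9 ∨ b = 24) ∧ ((b = 9 ∨ b = 24) → pick [4, 16] b u₂ ≠ 0) ∧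
      (pick [4, 16] c u₃ ≠ 0 → c = 9 ∨ c = 24) ∧ ((c = 9 ∨ c = 24) → pick [4, 16] c u₃ ≠ 0) ∧
      (pick [4, 16] d u₄ ≠ 0 → d = 9 ∨ d = 24) ∧ ((d = 9 ∨ d = 24) → pick [4, 16] d u₄ ≠ 0) ∨
    ([a, b, c, d].count 16 = 2 ∧ 9 ∈ [a, b, c, d] ∧ 24 ∈ [a, b, c, d]) := by
  decide +kernel

set_option synthInstance.maxSize 5000 in
theorem table_three : ∀ a ∈ degs, ∀ b ∈ degs, ∀ c ∈ degs, ∀ d ∈ degs,
    [a, b, c, d].count 16 = 2 → 9 ∈ [a, b, c, d] → 24 ∈ [a, b, c, d] →
    ∀ u₁ u₂ u₃ u₄ : Bool,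
    ¬ (27 : ℤ) ∣ 1 + pick [9] a u₁ + pick [9] b u₂ + pick [9] c u₃ + pick [9] d u₄ := by
  decide +kernel

theorem false_of_card {G : Type*} [Group G] [Fintype G] [IsSimpleGroup G]
    (h : Nat.card G = 4320) : False := by
  classical
  haveI : Fact (Nat.Prime 5) := ⟨by norm_num⟩
  haveI : Fact (Nat.Prime 3) := ⟨Nat.prime_three⟩
  haveI : Fact (Nat.Prime 2) := ⟨Nat.prime_two⟩
  have hG : ¬ IsMulCommutative G :=
    Lib.SmallGroups.not_isMulCommutative_of_not_prime (by rw [h]; norm_num)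
  have hna : ∃ a b : G, a * b ≠ b * a := by
    by_contra hh
    push Not at hh
    exact hG ⟨⟨hh⟩⟩
  obtain ⟨D, ⟨K⟩, het, he2, hcard, hC5⟩ := exists_five_setting hG (a := 3) (b := 5) (by rw [h]; norm_num)
  have hR := reduced_of_simple hG (p := 5) (by rw [h]; norm_num)
  have he4 : D.e ≤ 4 := Nat.le_of_dvd (by norm_num) (Dvd.intro _ het)
  rw [h] at hcard
  have he : D.e = 4 := by interval_cases hh : D.e <;> omega
  have hN : D.e * (1 + D.n * 5) = 864 := by omega
  obtain ⟨T, s, hT, h1T, hs1, hprops, hrest, hrel⟩ := exists_star D K (by rw [he] at het; omega)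
  set one := Chars.trivialIrr G with hone
  have hcard4 : (T.erase one).card = 4 := by rw [card_erase_of_mem h1T, hT, he]
  let e := (T.erase one).equivFinOfCardEq hcard4
  let χ : Fin 4 → IrrCharacter G := fun i => (e.symm i : IrrCharacter G)
  have hχ : ∀ i, χ i ∈ T ∧ χ i ≠ one := fun i =>
    ⟨mem_of_mem_erase (e.symm i).2, ne_of_mem_erase (e.symm i).2⟩
  have hχinj : Function.Injective χ := fun i j hij => e.symm.injective (Subtype.ext hij)
  have hsum : ∀ f : IrrCharacter G → ℂ,
      ∑ ψ ∈ T, f ψ = f one + f (χ 0) + f (χ 1) + f (χ 2) + f (χ 3) := by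
    intro f
    rw [← add_sum_erase _ _ h1T, ← Finset.sum_coe_sort, ← e.symm.sum_comp, Fin.sum_univ_four]
    simp only [χ, ← add_assoc]
  have hdeg : ∀ i, degOf (χ i) ∈ degs ∧ ((s (χ i) : ℤ) * degOf (χ i) = sgn (degOf (χ i))) := by
    intro i
    obtain ⟨hu, -, hcg, hdv⟩ := hprops _ (hχ i).1
    have hf := one_lt_degOf hR (hχ i).2
    have hsq := sq_degOf_lt (hχ i).2
    rw [h] at hsq
    have h66 : degOf (χ i) < 66 := by
      by_contra hcon
      have := Nat.mul_le_mul (not_lt.mp hcon) (not_lt.mp hcon)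
      omega
    have hd5 := Int.modEq_iff_dvd.mp hcg
    constructor
    · refine mem_degs _ (List.mem_range.mpr h66) (hN ▸ hdv) hf ?_
      rcases hu with hh | hh <;> rw [hh] at hd5 <;> omega
    · rcases hu with hh | hh <;> rw [hh] at hd5 ⊢ <;> unfold sgn <;> split_ifs <;> omega
  have hsum0 : 1 + sgn (degOf (χ 0)) + sgn (degOf (χ 1)) + sgn (degOf (χ 2)) + sgn (degOf (χ 3)) = 0 := by
    have h0 := hrel 1 (by norm_num)
    rw [hsum, hs1] at h0
    simp only [apply_one_eq_degOf, degOf_trivial, hone] at h0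
    rw [← (hdeg 0).2, ← (hdeg 1).2, ← (hdeg 2).2, ← (hdeg 3).2]
    apply Int.cast_injective (α := ℂ)
    push_cast at h0 ⊢
    linear_combination h0
  have hsq : 1 + degOf (χ 0) * degOf (χ 0) + degOf (χ 1) * degOf (χ 1) + degOf (χ 2) * degOf (χ 2) +
      degOf (χ 3) * degOf (χ 3) ≤ 4320 := by
    have h1 : ∑ ψ : IrrCharacter G, degOf ψ * degOf ψ = Nat.card G := by
      apply Nat.cast_injective (R := ℂ)
      push_cast
      rw [← Chars.sum_degree_sq]
      exact sum_congr rfl fun ψ _ => by rw [apply_one_eq_degOf, sq]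
    have h2 := sum_le_sum_of_subset (f := fun ψ : IrrCharacter G => degOf ψ * degOf ψ) (subset_univ T)
    rw [h1, h] at h2
    have h3 := hsum fun ψ => ((degOf ψ * degOf ψ : ℕ) : ℂ)
    rw [← Nat.cast_sum] at h3
    simp only [hone, degOf_trivial] at h3
    have h4 : ∑ ψ ∈ T, degOf ψ * degOf ψ = 1 * 1 + degOf (χ 0) * degOf (χ 0) + degOf (χ 1) * degOf (χ 1) +
        degOf (χ 2) * degOf (χ 2) + degOf (χ 3) * degOf (χ 3) := by exact_mod_cast h3
    omega
  -- principal blocks
  have hblock : ∀ (q : ℕ) [Fact q.Prime] (pure : List ℕ), q ≠ 5 →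
      (∀ f ∈ pure, ∃ k, f = q ^ k) → ∀ (M : Ideal AlgInt), IsPModular q M → ∀ u : Fin 4 → Bool,
      (∀ i, u i = decide (χ i ∈ principalBlock M G)) →
      ((q ^ (Nat.card G).factorization q : ℕ) : ℤ) ∣ 1 + pick pure (degOf (χ 0)) (u 0) +
        pick pure (degOf (χ 1)) (u 1) + pick pure (degOf (χ 2)) (u 2) + pick pure (degOf (χ 3)) (u 3) := by
    intro q _ pure hq5 hpure M hM u hu
    haveI := Blocks.isPModular_isPrime hM
    refine principal_dvd hM (by
      rw [D.S.order_x]
      exact fun hd => hq5 ((Nat.prime_dvd_prime_iff_eq (Fact.out : q.Prime) (Fact.out : Nat.Prime 5)).mp hd))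
      T (fun ψ _ hψ => hrest ψ hψ) ?_
    rw [sum_filter, hsum, if_pos trivial_mem_principal]
    have hterm : ∀ i, (if χ i ∈ principalBlock M G then (χ i : G → ℂ) D.S.x * (degOf (χ i) : ℂ) else 0) =
        ((pick pure (degOf (χ i)) (u i) : ℤ) : ℂ) := by
      intro i
      by_cases hi : χ i ∈ principalBlock M G
      · have hnp : degOf (χ i) ∉ pure := fun hp => by
          obtain ⟨k, hk⟩ := hpure _ hp
          exact notMem_principal_of_pow hna hM (hχ i).2 hk hi
        rw [if_pos hi, pick, if_pos ⟨by rw [hu i, decide_eq_true hi], hnp⟩, ← (hdeg i).2,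
          (hprops _ (hχ i).1).2.1]
        push_cast
        rfl
      · rw [if_neg hi, pick, if_neg (fun hh => by rw [hu i, decide_eq_false hi] at hh; exact Bool.false_ne_true hh.1)]
        simp
    rw [hterm 0, hterm 1, hterm 2, hterm 3, hone, Chars.trivialIrr_apply, degOf_trivial]
    push_cast
    ring
  have hf2 : (Nat.card G).factorization 2 = 5 := by
    rw [h, show (4320 : ℕ) = 2 ^ 5 * 135 by norm_num,
      Nat.factorization_mul (by norm_num) (by norm_num), Nat.prime_two.factorization_pow]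
    simp [Nat.factorization_eq_zero_of_not_dvd (n := 135) (p := 2) (by norm_num)]
  have hf3 : (Nat.card G).factorization 3 = 3 := by
    rw [h, show (4320 : ℕ) = 3 ^ 3 * 160 by norm_num,
      Nat.factorization_mul (by norm_num) (by norm_num), Nat.prime_three.factorization_pow]
    simp [Nat.factorization_eq_zero_of_not_dvd (n := 160) (p := 3) (by norm_num)]
  obtain ⟨M, hM⟩ := Glauberman.exists_isPModular Nat.prime_two
  haveI := Blocks.isPModular_isPrime hM
  let u : Fin 4 → Bool := fun i => decide (χ i ∈ principalBlock M G)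
  have h32 := hblock 2 [4, 16] (by norm_num) (by
    intro f hf
    simp only [List.mem_cons, List.not_mem_nil, or_false] at hf
    rcases hf with rfl | rfl
    exacts [⟨2, rfl⟩, ⟨4, rfl⟩]) M hM u fun _ => rfl
  rw [hf2] at h32
  rcases table _ (hdeg 0).1 _ (hdeg 1).1 _ (hdeg 2).1 _ (hdeg 3).1 hsum0 hsq _ _ _ _ h32 with
    ⟨hall, m0, m0', m1, m1', m2, m2', m3, m3'⟩ | ⟨c1, c2, c3⟩
  swap
  · obtain ⟨M', hM'⟩ := Glauberman.exists_isPModular Nat.prime_three
    have h27 := hblock 3 [9] (by norm_num) (by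
      intro f hf
      simp only [List.mem_cons, List.not_mem_nil, or_false] at hf
      subst hf
      exact ⟨2, rfl⟩) M' hM' (fun i => decide (χ i ∈ principalBlock M' G)) fun _ => rfl
    rw [hf3] at h27
    exact table_three _ (hdeg 0).1 _ (hdeg 1).1 _ (hdeg 2).1 _ (hdeg 3).1 c1 c2 c3 _ _ _ _ h27
  -- membership
  have hmem : ∀ i, (χ i ∈ principalBlock M G ↔ degOf (χ i) = 9 ∨ degOf (χ i) = 24) := by
    have hm : ∀ i, (pick [4, 16] (degOf (χ i)) (u i) ≠ 0 ↔ degOf (χ i) = 9 ∨ degOf (χ i) = 24) := by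
      intro i
      fin_cases i
      exacts [⟨m0, m0'⟩, ⟨m1, m1'⟩, ⟨m2, m2'⟩, ⟨m3, m3'⟩]
    intro i
    rw [← hm i]
    constructor
    · intro hi
      have hnp : degOf (χ i) ∉ [4, 16] := fun hp => by
        simp only [List.mem_cons, List.not_mem_nil, or_false] at hp
        rcases hp with hp | hp
        · exact notMem_principal_of_pow hna hM (k := 2) (hχ i).2 (by rw [hp]; norm_num) hi
        · exact notMem_principal_of_pow hna hM (k := 4) (hχ i).2 (by rw [hp]; norm_num) hi
      rw [pick, if_pos ⟨decide_eq_true hi, hnp⟩]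
      unfold sgn
      have := one_lt_degOf hR (hχ i).2
      split_ifs <;> omega
    · intro hi
      by_contra hni
      refine hi ?_
      rw [pick, if_neg]
      rintro ⟨hh, -⟩
      exact hni (of_decide_eq_true hh)
  have hexists : ∀ f ∈ [4, 9, 24, 36], ∃ i, degOf (χ i) = f := by
    intro f hf
    have := hall f hf
    simp only [List.mem_cons, List.not_mem_nil, or_false] at this
    rcases this with hh | hh | hh | hh
    exacts [⟨0, hh.symm⟩, ⟨1, hh.symm⟩, ⟨2, hh.symm⟩, ⟨3, hh.symm⟩]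
  obtain ⟨i4, h4⟩ := hexists 4 (by simp)
  obtain ⟨i9, h9⟩ := hexists 9 (by simp)
  obtain ⟨i24, h24⟩ := hexists 24 (by simp)
  obtain ⟨i36, h36⟩ := hexists 36 (by simp)
  have hne' : ∀ {i j : Fin 4}, degOf (χ i) ≠ degOf (χ j) → χ i ≠ χ j := fun hh he => hh (by rw [he])
  have h1ne : ∀ i, one ≠ χ i := fun i => (hχ i).2.symm
  have hTeq : T = {one, χ i4, χ i9, χ i24, χ i36} := by
    refine (eq_of_subset_of_card_le ?_ ?_).symm
    · intro ψ hψ
      simp only [mem_insert, mem_singleton] at hψ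
      rcases hψ with rfl | rfl | rfl | rfl | rfl
      exacts [h1T, (hχ _).1, (hχ _).1, (hχ _).1, (hχ _).1]
    · rw [hT, he, card_insert_of_notMem (by simp [h1ne]),
        card_insert_of_notMem (by simp [hne' (show degOf (χ i4) ≠ degOf (χ i9) by omega),
          hne' (show degOf (χ i4) ≠ degOf (χ i24) by omega), hne' (show degOf (χ i4) ≠ degOf (χ i36) by omega)]),
        card_insert_of_notMem (by simp [hne' (show degOf (χ i9) ≠ degOf (χ i24) by omega),
          hne' (show degOf (χ i9) ≠ degOf (χ i36) by omega)]),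
        card_insert_of_notMem (by simp [hne' (show degOf (χ i24) ≠ degOf (χ i36) by omega)]),
        card_singleton]
  have hsum5 : ∀ f : IrrCharacter G → ℂ,
      ∑ ψ ∈ T, f ψ = f one + (f (χ i4) + (f (χ i9) + (f (χ i24) + f (χ i36)))) := by
    intro f
    rw [hTeq, sum_insert (by simp [h1ne]),
      sum_insert (by simp [hne' (show degOf (χ i4) ≠ degOf (χ i9) by omega),
        hne' (show degOf (χ i4) ≠ degOf (χ i24) by omega), hne' (show degOf (χ i4) ≠ degOf (χ i36) by omega)]),
      sum_insert (by simp [hne' (show degOf (χ i9) ≠ degOf (χ i24) by omega),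
        hne' (show degOf (χ i9) ≠ degOf (χ i36) by omega)]),
      sum_insert (by simp [hne' (show degOf (χ i24) ≠ degOf (χ i36) by omega)]), sum_singleton]
  -- the signs
  have hs4 : s (χ i4) = -1 := by have := (hdeg i4).2; rw [h4] at this; unfold sgn at this; norm_num at this; omega
  have hs9 : s (χ i9) = -1 := by have := (hdeg i9).2; rw [h9] at this; unfold sgn at this; norm_num at this; omega
  have hs24 : s (χ i24) = -1 := by have := (hdeg i24).2; rw [h24] at this; unfold sgn at this; norm_num at this; omega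
  have hs36 : s (χ i36) = 1 := by have := (hdeg i36).2; rw [h36] at this; unfold sgn at this; norm_num at this; omega
  -- a central involution of a Sylow subgroup
  obtain ⟨S2⟩ := (inferInstance : Nonempty (Sylow 2 G))
  have hS2 : Nat.card (S2 : Subgroup G) = 32 := by rw [Sylow.card_eq_multiplicity, hf2]; norm_num
  haveI : Nontrivial (S2 : Subgroup G) := by rw [← Finite.one_lt_card_iff_nontrivial, hS2]; norm_num
  haveI := S2.isPGroup'.center_nontrivial
  obtain ⟨w, hw⟩ := exists_prime_orderOf_dvd_card' (G := Subgroup.center (S2 : Subgroup G)) 2 (by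
    obtain ⟨k, hk⟩ := IsPGroup.iff_card.mp (S2.isPGroup'.to_subgroup (Subgroup.center (S2 : Subgroup G)))
    rw [hk]
    refine dvd_pow_self 2 fun h0 => ?_
    rw [h0, pow_zero] at hk
    exact Finite.one_lt_card.ne' hk)
  set z : G := ((w : (S2 : Subgroup G)) : G) with hzdef
  have hz2 : orderOf z = 2 := by rw [hzdef, Subgroup.orderOf_coe, Subgroup.orderOf_coe]; exact hw
  have hz1 : z ≠ 1 := fun hh => by rw [hh, orderOf_one] at hz2; norm_num at hz2
  have hle : (S2 : Subgroup G) ≤ Subgroup.centralizer ({z} : Set G) := fun v hv =>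
    Subgroup.mem_centralizer_singleton_iff.2
      (congrArg Subtype.val (Subgroup.mem_center_iff.1 w.2 ⟨v, hv⟩))
  have h32C : 32 ∣ Nat.card (Subgroup.centralizer ({z} : Set G)) :=
    (dvd_of_eq hS2.symm).trans (Subgroup.card_dvd_of_le hle)
  have hidx : ¬ 2 ∣ (Subgroup.centralizer ({z} : Set G)).index := fun hd =>
    S2.not_dvd_index (hd.trans (Subgroup.index_dvd_of_le hle))
  have hC5' : ¬ 5 ∣ Nat.card (Subgroup.centralizer ({z} : Set G)) := by
    intro hd
    obtain ⟨y, hy⟩ := exists_prime_orderOf_dvd_card' 5 hd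
    rw [← Subgroup.orderOf_coe] at hy
    obtain ⟨c, j, hj, hc⟩ := D.exists_conj_xp hy
    have h1 : c⁻¹ * z * c ∈ Subgroup.centralizer ({Lib.SmallGroups.PrimeChar.xp 5 D.S.x j} : Set G) := by
      have h2 : z * (y : G) = y * z :=
        (Subgroup.mem_centralizer_singleton_iff.1 y.2).symm
      rw [← hc] at h2
      rw [Subgroup.mem_centralizer_singleton_iff]
      calc c⁻¹ * z * c * Lib.SmallGroups.PrimeChar.xp 5 D.S.x j
          = c⁻¹ * (z * (c * Lib.SmallGroups.PrimeChar.xp 5 D.S.x j * c⁻¹)) * c := by group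
        _ = _ := by rw [h2]; group
    rw [Lib.SmallGroups.PrimeChar.centralizer_xp D.S.order_x hj] at h1
    have h3 := Subgroup.orderOf_dvd_natCard _ h1
    rw [hC5, show orderOf (c⁻¹ * z * c) = orderOf z by
      have := orderOf_injective (MulAut.conj c⁻¹).toMonoidHom (MulAut.conj c⁻¹).injective z
      simpa [MulAut.conj_apply] using this, hz2] at h3
    norm_num at h3
  have hreg : ¬ 5 ∣ orderOf z := by rw [hz2]; norm_num
  choose a ha using fun i => Lib.SmallGroups.PrimeChar.exists_int_apply_involution (χ i) hz2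
  have ha4 : a i4 = 0 := by
    have h0 := apply_eq_zero_of_coprime hna (hχ i4).2 hz1 (by
      rw [h4, show (4 : ℕ) = 2 ^ 2 by norm_num]
      exact ((Nat.prime_two.coprime_iff_not_dvd.mpr hidx).symm).pow_right 2)
    rw [ha] at h0
    exact_mod_cast h0
  have horth := principal_orth hM (x := D.S.x) (by rw [D.S.order_x]; norm_num) T
    (fun ψ _ hψ => hrest ψ hψ) (h := z) (by rw [hz2])
  rw [sum_filter, hsum5, if_pos trivial_mem_principal, if_neg (fun hh => by
      rcases (hmem i4).mp hh with h' | h' <;> omega), if_pos ((hmem i9).mpr (Or.inl h9)),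
    if_pos ((hmem i24).mpr (Or.inr h24)), if_neg (fun hh => by
      rcases (hmem i36).mp hh with h' | h' <;> omega)] at horth
  simp only [hone, Chars.trivialIrr_apply, ha, map_one, (hprops _ (hχ i9).1).2.1,
    (hprops _ (hχ i24).1).2.1, hs9, hs24, map_intCast] at horth
  have hz9 : 1 - a i9 - a i24 = 0 := by
    apply Int.cast_injective (α := ℂ)
    push_cast at horth ⊢
    linear_combination horth
  have hz36 : a i36 = 0 := by
    have h0 := hrel z hreg
    rw [hsum5] at h0
    simp only [ha, hone, Chars.trivialIrr_apply] at h0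
    rw [hone] at hs1
    rw [hs1, hs4, hs9, hs24, hs36, ha4] at h0
    apply Int.cast_injective (α := ℂ)
    push_cast at h0 horth ⊢
    linear_combination h0 - horth
  -- bounds
  have hbound : ∀ i, a i < degOf (χ i) ∧ -(degOf (χ i) : ℤ) ≤ a i := by
    intro i
    have h1 := Chars.norm_char_le_degree (Chars.irr_isCharacter (χ i)) z
    rw [ha, apply_one_eq_degOf, Complex.natCast_re, Complex.norm_intCast] at h1
    have h2 : |a i| ≤ (degOf (χ i) : ℤ) := by exact_mod_cast h1
    rw [abs_le] at h2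
    refine ⟨lt_of_le_of_ne h2.2 fun hh => hz1 (faithful_of_ne_trivial (hχ i).2 ?_), h2.1⟩
    rw [ha, hh, apply_one_eq_degOf]
    push_cast
    rfl
  have h8 : (8 : ℤ) ∣ a i24 := by
    have h0 := degOf_dvd_index_mul (ha i24)
    rw [h24] at h0
    have hcop : IsCoprime (8 : ℤ) ((Subgroup.centralizer ({z} : Set G)).index : ℤ) := by
      have : Nat.Coprime (2 ^ 3) (Subgroup.centralizer ({z} : Set G)).index :=
        (Nat.prime_two.coprime_iff_not_dvd.mpr hidx).pow_left 3
      rw [Int.isCoprime_iff_gcd_eq_one]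
      exact_mod_cast this
    exact hcop.dvd_of_dvd_mul_left (dvd_trans ⟨3, by norm_num⟩ h0)
  obtain ⟨k, hk⟩ := pairs_dvd D.S.order_x hC5
    (show z * z = 1 by rw [← sq, ← hz2]; exact pow_orderOf_eq_one z) hC5'
  rw [← sum_subset (subset_univ T) (fun ψ _ hψ => by rw [hrest ψ hψ, map_zero, mul_zero, zero_div]),
    hsum5, h] at hk
  simp only [hone, Chars.trivialIrr_apply, ha, ha4, hz36, (hprops _ (hχ i9).1).2.1,
    (hprops _ (hχ i24).1).2.1, hs9, hs24, apply_one_eq_degOf, h9, h24, map_intCast, map_one] at hk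
  obtain ⟨d, hd⟩ := h32C
  rw [hd] at hk
  have hcases : a i9 = 1 ∧ a i24 = 0 ∨ a i9 = -7 ∧ a i24 = 8 := by
    have := hbound i9
    have := hbound i24
    rw [h9] at *
    omega
  rcases hcases with ⟨e9, e24⟩ | ⟨e9, e24⟩ <;> rw [e9, e24] at hk <;> norm_num at hk
  · have h1 : 5 * (32 * d * (32 * d)) * k = 3840 := by exact_mod_cast hk.symm
    have h2 : 5120 ∣ 3840 := ⟨d * d * k, by rw [← h1]; ring⟩
    norm_num at h2
  · have h1 : (((5 * (32 * d * (32 * d)) * k : ℕ) : ℤ) : ℂ) = ((-30720 : ℤ) : ℂ) := by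
      push_cast
      linear_combination -hk
    have h2 : ((5 * (32 * d * (32 * d)) * k : ℕ) : ℤ) = -30720 := Int.cast_injective h1
    omega


/-- No finite simple group has order 4320 = 2^5 * 3^3 * 5. -/
theorem result {G : Type*} [Group G] [Finite G] [IsSimpleGroup G] : Nat.card G ≠ 4320 := by
  intro h
  haveI := Fintype.ofFinite G
  exact false_of_card h

end Cfsg.Agent.S0977
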