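import Cfsg.Statements.S0980
import Cfsg.Agent.Lib.BrauerTuan.FiveSetting
import Cfsg.Agent.Lib.BrauerTuan.Main
-- import your own Cfsg.Agent.* helpers here

set_option autoImplicit false
open Cfsg

namespace Cfsg.Agent.S0980

set_option linter.style.haveILetI false

open Finset Cfsg.Agent.Lib
open Cfsg.Agent.Lib.DefectOne Cfsg.Agent.Lib.BrauerReynolds Cfsg.Agent.Lib.BrauerTuan
open Cfsg.Agent.Lib.SmallGroups.PrimeChar (xp xp_one)

/-- The degrees of the non-trivial ordinary and of the exceptional character. -/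
theorem candidates : ∀ f ∈ List.range 76, f ∣ 1152 → 1 < f →
    (f % 5 = 4 → (f - 1) ∣ 1152 → f = 4 ∨ f = 9) ∧ (f % 5 = 1 → ¬ (f + 1) ∣ 1152) := by
  decide +kernel

theorem false_of_card {G : Type*} [Group G] [Fintype G] [IsSimpleGroup G]
    (h : Nat.card G = 5760) : False := by
  classical
  haveI : Fact (Nat.Prime 5) := ⟨by norm_num⟩
  haveI : Fact (Nat.Prime 2) := ⟨Nat.prime_two⟩
  have hG : ¬ IsMulCommutative G :=
    Lib.SmallGroups.not_isMulCommutative_of_not_prime (by rw [h]; norm_num)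
  have hna : ∃ a b : G, a * b ≠ b * a := by
    by_contra hh
    push Not at hh
    exact hG ⟨⟨hh⟩⟩
  obtain ⟨D, ⟨K⟩, het, he2, hcard, -⟩ := exists_five_setting hG (a := 2) (b := 7) (by rw [h]; norm_num)
  have hR := reduced_of_simple hG (p := 5) (by rw [h]; norm_num)
  have he4 : D.e ≤ 4 := Nat.le_of_dvd (by norm_num) (Dvd.intro _ het)
  rw [h] at hcard
  have he : D.e = 2 := by
    interval_cases hh : D.e <;> omega
  have ht : D.t = 2 := by rw [he] at het; omega
  have hN : D.e * (1 + D.n * 5) = 1152 := by omega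
  obtain ⟨h1A, hδ1⟩ := D.trivial_mem_A (by omega)
  obtain ⟨χ, hχs⟩ := card_eq_one.mp (show (D.A.erase (Chars.trivialIrr G)).card = 1 by
    rw [card_erase_of_mem h1A, D.cardA, he])
  have hχ : χ ∈ D.A.erase (Chars.trivialIrr G) := hχs ▸ mem_singleton_self χ
  obtain ⟨hne, hχA⟩ := mem_erase.mp hχ
  obtain ⟨θ, hθ⟩ : D.B.Nonempty := card_pos.mp (by rw [D.cardB]; omega)
  have hθne : θ ≠ Chars.trivialIrr G := fun hh => disjoint_left.mp D.disj h1A (by rw [hh] at hθ; exact hθ)
  have hrel := degree_relation D hθ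
  rw [← add_sum_erase _ _ h1A, hδ1, degOf_trivial, hχs, sum_singleton] at hrel
  have hf1 := one_lt_degOf hR hne
  have hfd : degOf χ ∣ 1152 := hN ▸ D.dvdA χ hχA
  have hdd : degOf θ ∣ 1152 := hN ▸ D.dvdB θ hθ
  have hflt : degOf χ < 76 := by
    have hsq := sq_degOf_lt hne
    rw [h] at hsq
    by_contra hcon
    have := Nat.mul_le_mul (not_lt.mp hcon) (not_lt.mp hcon)
    omega
  obtain ⟨hc1, hc2⟩ := candidates _ (List.mem_range.mpr hflt) hfd hf1
  have hcA : (5 : ℤ) ∣ D.δ χ - (degOf χ : ℤ) := Int.modEq_iff_dvd.mp (D.congrA χ hχA)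
  obtain ⟨hε, hδ, hd⟩ : D.ε = -1 ∧ D.δ χ = -1 ∧ degOf θ + 1 = degOf χ := by
    have hd0 := one_lt_degOf hR hθne
    rcases D.ε_unit with h1 | h1 <;> rcases D.δ_unit χ hχA with h2 | h2 <;> rw [h1, h2] at hrel <;>
      rw [h2] at hcA
    · exfalso
      refine hc2 (by omega) ?_
      rwa [show degOf χ + 1 = degOf θ by omega]
    · omega
    · omega
    · exact ⟨h1, h2, by omega⟩
  have hf49 : degOf χ = 4 ∨ degOf χ = 9 := by
    rw [hδ] at hcA
    exact hc1 (by omega) (by rwa [show degOf χ - 1 = degOf θ by omega])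
  obtain ⟨M, hM⟩ := Glauberman.exists_isPModular Nat.prime_two
  haveI := Blocks.isPModular_isPrime hM
  have hxx : D.S.x = xp 5 D.S.x 1 := xp_one.symm
  have hv : ∀ ψ : IrrCharacter G, ψ ∈ principalBlock M G → ψ ∉ D.A ∪ D.B →
      (ψ : G → ℂ) D.S.x = 0 := by
    intro ψ _ hψ
    rw [mem_union, not_or] at hψ
    rw [hxx, ← K.profile_eq ψ 1, D.profile_rest ψ hψ.1 hψ.2 1 one_ne_zero]
  -- membership of the exceptional characters
  have hB8 : degOf χ = 9 → ∀ θ' ∈ D.B, θ' ∉ principalBlock M G := fun h9 θ' hθ' =>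
    notMem_principal_of_pow hna hM (k := 3)
      (fun hh => disjoint_left.mp D.disj h1A (by rw [hh] at hθ'; exact hθ'))
      (by rw [D.degB_eq hθ' hθ]; omega)
  have hA4 : degOf χ = 4 → χ ∉ principalBlock M G := fun h4 =>
    notMem_principal_of_pow hna hM (k := 2) hne (by rw [h4]; norm_num)
  have hBsame : degOf χ = 4 → ∀ θ' ∈ D.B, (θ' ∈ principalBlock M G ↔ θ ∈ principalBlock M G) := by
    intro h4 θ' hθ'
    have hs := sameBlock_exceptional K hM (by rw [hN]; norm_num) hθ hθ'
      (by rw [show degOf θ = 3 by omega]; norm_num)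
    show SameBlock M _ _ ↔ SameBlock M _ _
    constructor
    · intro hh g
      convert Blocks.memLocalIdeal_add (hh g) (Blocks.memLocalIdeal_neg (hs g)) using 1
      ring
    · intro hh g
      convert Blocks.memLocalIdeal_add (hh g) (hs g) using 1
      ring
  have hA : D.A = {Chars.trivialIrr G, χ} := by
    rw [← insert_erase h1A, hχs]
  obtain ⟨z, hz, hzval⟩ : ∃ z : ℤ, (z = 1 ∨ z = -8 ∨ z = 4 ∨ z = -3) ∧
      ∑ ψ ∈ (D.A ∪ D.B).filter (· ∈ principalBlock M G), (ψ : G → ℂ) D.S.x * (degOf ψ : ℂ) = (z : ℂ) := by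
    have h1x : (Chars.trivialIrr G : G → ℂ) D.S.x = 1 := Chars.trivialIrr_apply _
    have hχx : (χ : G → ℂ) D.S.x = -1 := by
      rw [hxx, D.applyA χ hχA 1 one_ne_zero, hδ]; norm_num
    rw [filter_union, sum_union (disjoint_filter_filter D.disj), hA, filter_insert, if_pos
      trivial_mem_principal, sum_insert (fun hh => hne (mem_singleton.mp (mem_filter.mp hh).1).symm),
      h1x, degOf_trivial]
    rcases hf49 with h4 | h9
    · rw [filter_singleton, if_neg (hA4 h4), sum_empty]
      by_cases hθI : θ ∈ principalBlock M G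
      · refine ⟨4, by norm_num, ?_⟩
        rw [filter_true_of_mem (fun θ' hθ' => (hBsame h4 θ' hθ').mpr hθI),
          sum_congr rfl fun θ' hθ' => by rw [D.degB_eq hθ' hθ], ← sum_mul, sum_apply_B K hθ, hε,
          show degOf θ = 3 by omega]
        norm_num
      · refine ⟨1, by norm_num, ?_⟩
        rw [filter_false_of_mem (fun θ' hθ' hh => hθI ((hBsame h4 θ' hθ').mp hh)), sum_empty]
        norm_num
    · rw [filter_false_of_mem (s := D.B) (hB8 h9), sum_empty]
      by_cases hχI : χ ∈ principalBlock M G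
      · refine ⟨-8, by norm_num, ?_⟩
        rw [filter_singleton, if_pos hχI, sum_singleton, hχx, h9]
        norm_num
      · refine ⟨1, by norm_num, ?_⟩
        rw [filter_singleton, if_neg hχI, sum_empty]
        norm_num
  have hdvd := principal_dvd hM (q := 2) (by rw [D.S.order_x]; norm_num) (D.A ∪ D.B) hv hzval
  have hfac : (Nat.card G).factorization 2 = 7 := by
    rw [h, show (5760 : ℕ) = 2 ^ 7 * 45 by norm_num,
      Nat.factorization_mul (by norm_num) (by norm_num), Nat.prime_two.factorization_pow]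
    simp [Nat.factorization_eq_zero_of_not_dvd (n := 45) (p := 2) (by norm_num)]
  rw [hfac] at hdvd
  rcases hz with rfl | rfl | rfl | rfl <;> norm_num at hdvd


/-- No finite simple group has order 5760 = 2^7 * 3^2 * 5. -/
theorem result {G : Type*} [Group G] [Finite G] [IsSimpleGroup G] : Nat.card G ≠ 5760 := by
  intro h
  haveI := Fintype.ofFinite G
  exact false_of_card h

end Cfsg.Agent.S0980
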