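import Cfsg.Statements.S0983
import Cfsg.Agent.S0974
import Cfsg.Agent.S0975
import Cfsg.Agent.S0976
import Cfsg.Agent.S0977
import Cfsg.Agent.S0978
import Cfsg.Agent.S0979
import Cfsg.Agent.S0980
import Cfsg.Agent.Lib.SmallGroups.Below6232.Filter
import Cfsg.Agent.Lib.SmallGroups.Below6232.Single
import Cfsg.Agent.Lib.SmallGroups.Below6232.Orders
-- import your own Cfsg.Agent.* helpers here

set_option autoImplicit false
open Cfsg

namespace Cfsg.Agent.S0983

/-- A non-abelian finite simple group of order greater than 3640 and at most 6232 has order 4080, 5616, 6048 or 6072. -/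
theorem result {G : Type*} [Group G] [Finite G] [IsSimpleGroup G] (hG : ¬ IsMulCommutative G) (h1 : 3640 < Nat.card G) (h2 : Nat.card G ≤ 6232) : Nat.card G = 4080 ∨ Nat.card G = 5616 ∨ Nat.card G = 6048 ∨ Nat.card G = 6072 := by
  have hs := Lib.SmallGroups.Below6232.mem_survivors hG h1 h2
  simp only [Lib.SmallGroups.Below6232.survivors, List.mem_cons, List.not_mem_nil, or_false] at hs
  rcases hs with h | h | h | h | h | h | h | h | h | h | h | h | h | h | h | h | h | h | h | h | h | h | h | h | h | h | h | h | h | h | h | h | h | h | h | h | h | h | h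
  · exact absurd h S0974.result
  · exact (Lib.SmallGroups.Below6232.false_3696 hG h).elim
  · exact absurd h S0975.result
  · exact (Lib.SmallGroups.Below6232.false_3780 hG h).elim
  · exact (Lib.SmallGroups.Below6232.false_3960 hG h).elim
  · exact absurd h S0976.result
  · left; exact h
  · exact (Lib.SmallGroups.Below6232.false_of_simple_order hG 13 2 6 5 (by norm_num) (by norm_num) (by norm_num) (by rw [h]; norm_num) (by norm_num) (by rw [h]; norm_num) (by rw [h]; norm_num)).elim
  · exact (Lib.SmallGroups.Below6232.false_4200 hG h).elim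
  · exact (Lib.SmallGroups.Below6232.false_of_simple_order hG 13 3 4 4 (by norm_num) (by norm_num) (by norm_num) (by rw [h]; norm_num) (by norm_num) (by rw [h]; norm_num) (by rw [h]; norm_num)).elim
  · exact absurd h S0977.result
  · exact (Lib.SmallGroups.Below6232.false_4400 hG h).elim
  · exact (Lib.SmallGroups.Below6232.false_of_simple_order hG 7 2 7 5 (by norm_num) (by norm_num) (by norm_num) (by rw [h]; norm_num) (by norm_num) (by rw [h]; norm_num) (by rw [h]; norm_num)).elim
  · exact (Lib.SmallGroups.Below6232.false_4500 hG h).elim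
  · exact (Lib.SmallGroups.Below6232.false_4620 hG h).elim
  · exact (Lib.SmallGroups.Below6232.false_4680 hG h).elim
  · exact (Lib.SmallGroups.Below6232.false_4725 hG h).elim
  · exact (Lib.SmallGroups.Below6232.false_of_cube hG (p := 17) (by norm_num) (by rw [h]; norm_num) (by rw [h]; norm_num) (by rw [h]; norm_num) (by rw [h]; norm_num)).elim
  · exact (Lib.SmallGroups.Below6232.false_4800 hG h).elim
  · exact (Lib.SmallGroups.Below6232.false_of_simple_order hG 11 2 6 7 (by norm_num) (by norm_num) (by norm_num) (by rw [h]; norm_num) (by norm_num) (by rw [h]; norm_num) (by rw [h]; norm_num)).elim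
  · exact (Lib.SmallGroups.Below6232.false_of_cube hG (p := 31) (by norm_num) (by rw [h]; norm_num) (by rw [h]; norm_num) (by rw [h]; norm_num) (by rw [h]; norm_num)).elim
  · exact absurd h S0978.result
  · exact (Lib.SmallGroups.Below6232.false_of_cube hG (p := 29) (by norm_num) (by rw [h]; norm_num) (by rw [h]; norm_num) (by rw [h]; norm_num) (by rw [h]; norm_num)).elim
  · exact (Lib.SmallGroups.Below6232.false_5148 hG h).elim
  · exact (Lib.SmallGroups.Below6232.false_5200 hG h).elim
  · exact (Lib.SmallGroups.Below6232.false_5292 hG h).elim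
  · exact (Lib.SmallGroups.Below6232.false_5400 hG h).elim
  · exact (Lib.SmallGroups.Below6232.false_5460 hG h).elim
  · exact absurd h S0979.result
  · exact (Lib.SmallGroups.Below6232.false_5600 hG h).elim
  · right; left; exact h
  · exact (Lib.SmallGroups.Below6232.false_of_cube hG (p := 53) (by norm_num) (by rw [h]; norm_num) (by rw [h]; norm_num) (by rw [h]; norm_num) (by rw [h]; norm_num)).elim
  · exact absurd h S0980.result
  · exact (Lib.SmallGroups.Below6232.false_5880 hG h).elim
  · exact (Lib.SmallGroups.Below6232.false_5940 hG h).elim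
  · exact (Lib.SmallGroups.Below6232.false_6000 hG h).elim
  · right; right; left; exact h
  · right; right; right; exact h
  · exact (Lib.SmallGroups.Below6232.false_6160 hG h).elim

end Cfsg.Agent.S0983
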