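import Cfsg.Statements.S1254
import Cfsg.Agent.Lib.SECount.DihedralSylow
import Cfsg.Agent.Lib.Transfer.Criteria
import Cfsg.Agent.S0514

set_option autoImplicit false
open Cfsg

namespace Cfsg.Agent.S1254

open DihedralGroup Lib.SECount

variable {X : Type*} [Group X] [Finite X]

/-- Off the four-subgroups, odd-order automisers of subgroups of `S` are trivial. -/
theorem mem_centralizer_of_not_kleinFour (S : Sylow 2 X) {m : ℕ}
    (eS : (S : Subgroup X) ≃* DihedralGroup m) (hm : 2 ≤ m) (Q : Subgroup X)
    (hQS : Q ≤ (S : Subgroup X)) (hQ4 : ¬ IsKleinFour Q) {g : X}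
    (hg : g ∈ Subgroup.normalizer (Q : Set X)) (hodd : (orderOf g).Coprime 2) :
    g ∈ Subgroup.centralizer (Q : Set X) := by
  haveI : NeZero m := ⟨by omega⟩
  obtain ⟨-, h2, -⟩ := dihedral_card S eS hm
  let ι : Q →* DihedralGroup m := eS.toMonoidHom.comp (Subgroup.inclusion hQS)
  have hι : Function.Injective ι := eS.injective.comp (Subgroup.inclusion_injective hQS)
  by_cases hQ1 : ∀ q : Q, q = 1
  · refine Subgroup.mem_centralizer_iff.2 fun q hq => ?_
    rw [show q = 1 from congrArg Subtype.val (hQ1 ⟨q, hq⟩)]; simp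
  push Not at hQ1
  -- an involution of `Q` fixed by `g`
  suffices h : ∃ t ∈ Q, t ≠ 1 ∧ g * t * g⁻¹ = t by
    obtain ⟨t, ht, ht1, hgt⟩ := h
    exact S0514.mem_centralizer_of_dihedral Q (S.2.to_le hQS) ι hι hg hodd ht ht1
      (mul_inv_eq_iff_eq_mul.1 hgt)
  let cg : Q → Q := fun q => ⟨g * q * g⁻¹, (Subgroup.mem_normalizer_iff.1 hg q).1 q.2⟩
  by_cases hbig : ∃ x : Q, x * x ≠ 1
  · obtain ⟨x, hx⟩ := hbig
    -- the half power of a non-involution is the central involution
    have half : ∀ y : Q, y * y ≠ 1 → ι (y ^ (orderOf y / 2)) = dihInv m := by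
      intro y hy
      obtain ⟨k, hk⟩ : ∃ k, ι y = r k := by
        cases hv : ι y with
        | r k => exact ⟨k, rfl⟩
        | sr k => exact absurd (hι (by rw [map_mul, hv, sr_mul_self, map_one])) hy
      obtain ⟨a, ha⟩ := IsPGroup.iff_orderOf.1 (S.2.to_le hQS) y
      have ha1 : a ≠ 0 := fun h => by
        rw [h, pow_zero, orderOf_eq_one_iff] at ha
        exact hy (by rw [ha, one_mul])
      obtain ⟨b, rfl⟩ : ∃ b, a = b + 1 := ⟨a - 1, by omega⟩
      have hdiv : orderOf y / 2 = 2 ^ b := by rw [ha, pow_succ]; omega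
      have hsq : y ^ 2 ^ b * y ^ 2 ^ b = 1 := by
        rw [← pow_add, ← two_mul, ← pow_succ', ← ha, pow_orderOf_eq_one]
      have hne : y ^ 2 ^ b ≠ 1 := fun h => by
        have := Nat.le_of_dvd (by positivity) (orderOf_dvd_of_pow_eq_one h)
        have := Nat.pow_lt_pow_succ (n := b) (show 1 < 2 by norm_num)
        rw [ha] at *
        omega
      rw [hdiv]
      have e : ι (y ^ 2 ^ b) = r (k * ((2 ^ b : ℕ) : ZMod m)) := by rw [map_pow, hk, r_pow]
      have h0 : ι (y ^ 2 ^ b) * ι (y ^ 2 ^ b) = 1 := by rw [← map_mul, hsq, map_one]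
      rw [e, r_mul_r, DihedralGroup.one_def, r.injEq] at h0
      rcases eq_zero_or_zhalf h0 with h | h
      · exact absurd (hι (by rw [e, h, map_one]; rfl)) hne
      · rw [e, h]; rfl
    have hcx : cg x * cg x ≠ 1 := by
      intro h
      have h1 : g * (x : X) * g⁻¹ * (g * (x : X) * g⁻¹) = 1 := congrArg Subtype.val h
      refine hx (Subtype.ext ?_)
      calc (x : X) * x = g⁻¹ * (g * (x : X) * g⁻¹ * (g * (x : X) * g⁻¹)) * g := by group
        _ = 1 := by rw [h1]; group
    have ho : orderOf (cg x) = orderOf x := by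
      rw [← Subgroup.orderOf_coe, ← Subgroup.orderOf_coe x]
      exact MulEquiv.orderOf_eq (MulAut.conj g) (x : X)
    refine ⟨(x ^ (orderOf x / 2) : Q), Subtype.coe_prop _, ?_, ?_⟩
    · intro h
      have h' := half x hx
      rw [show x ^ (orderOf x / 2) = 1 from Subtype.ext h, map_one] at h'
      have := orderOf_dihInv (m := m) h2
      rw [← h', orderOf_one] at this
      omega
    · have h' : cg x ^ (orderOf x / 2) = x ^ (orderOf x / 2) := by
        refine hι ((half x hx).symm ▸ ?_)
        rw [← ho]; exact half _ hcx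
      have h'' := congrArg Subtype.val h'
      rw [SubmonoidClass.coe_pow, SubmonoidClass.coe_pow] at h''
      rw [SubmonoidClass.coe_pow, ← conj_pow]
      exact h''
  · push Not at hbig
    have hcomm : ∀ a b : Q, a * b = b * a := fun a b => by
      have ia : a⁻¹ = a := inv_eq_of_mul_eq_one_right (hbig a)
      have ib : b⁻¹ = b := inv_eq_of_mul_eq_one_right (hbig b)
      calc a * b = (a * b)⁻¹ := (inv_eq_of_mul_eq_one_right (hbig (a * b))).symm
        _ = b * a := by rw [mul_inv_rev, ia, ib]
    -- such a `Q` has order 2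
    obtain ⟨q, hq⟩ := hQ1
    refine ⟨q, q.2, fun h => hq (Subtype.ext h), ?_⟩
    by_contra hne
    apply hQ4
    have hq' : cg q ≠ q := fun h => hne (congrArg Subtype.val h)
    have hcq1 : cg q ≠ 1 := fun h => by
      have h1 : g * (q : X) * g⁻¹ = 1 := congrArg Subtype.val h
      rw [mul_inv_eq_one, mul_eq_left] at h1
      exact hq (Subtype.ext h1)
    obtain ⟨i, hi⟩ : ∃ i : ZMod m, ∃ w : Q, ι w = sr i := by
      by_contra hno
      push Not at hno
      have hr : ∀ w : Q, w = 1 ∨ ι w = dihInv m := by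
        intro w
        cases hv : ι w with
        | sr k => exact absurd hv (hno k w)
        | r k =>
          have h0 : ι w * ι w = 1 := by rw [← map_mul, hbig w, map_one]
          rw [hv, r_mul_r, DihedralGroup.one_def, r.injEq] at h0
          rcases eq_zero_or_zhalf h0 with h | h
          · exact Or.inl (hι (by rw [hv, h, map_one]; rfl))
          · exact Or.inr (by rw [h]; rfl)
      exact hq' (hι (((hr _).resolve_left hcq1).trans ((hr q).resolve_left hq).symm))
    obtain ⟨w, hw⟩ := hi
    have hle : ι.range ≤ fourD m i := by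
      rintro _ ⟨v, rfl⟩
      refine Subgroup.mem_centralizer_singleton_iff.2 ?_
      rw [← hw, ← map_mul, ← map_mul, hcomm]
    have h4 : Nat.card Q ≤ 4 := by
      rw [Nat.card_congr (MonoidHom.ofInjective hι).toEquiv, ← card_fourD h2 i]
      exact Subgroup.card_le_of_le hle
    have hdvd : Nat.card Q ∣ 4 := by
      rw [Nat.card_congr (MonoidHom.ofInjective hι).toEquiv, ← card_fourD h2 i]
      exact Subgroup.card_dvd_of_le hle
    classical
    haveI : Fintype Q := Fintype.ofFinite _
    have h3 : 3 ≤ Nat.card Q := by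
      rw [Nat.card_eq_fintype_card]
      calc 3 = ({1, q, cg q} : Finset Q).card := by
            rw [Finset.card_insert_of_notMem, Finset.card_pair (Ne.symm hq')]
            simp [Ne.symm hq, Ne.symm hcq1]
        _ ≤ Fintype.card Q := Finset.card_le_univ _
    haveI : Nontrivial Q := ⟨⟨q, 1, hq⟩⟩
    exact ⟨by interval_cases (Nat.card Q) <;> omega,
      (Monoid.exponent_eq_prime_iff Nat.prime_two).2 fun v hv =>
        orderOf_eq_prime ((pow_two v).trans (hbig v)) hv⟩


/-- Let X be a finite group whose Sylow 2-subgroup S is dihedral (of order at least 4). Then X has a normal 2-complement if and only if, for every Klein four-subgroup U ≤ S, the normalizer N_X(U) is generated by C_X(U) and N_S(U). -/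
theorem result {X : Type*} [Group X] [Finite X] (S : Sylow 2 X) (m : ℕ) (hm : 2 ≤ m) (eS : (S : Subgroup X) ≃* DihedralGroup m) : Cfsg.HasNormalPComplement 2 X ↔ ∀ U : Subgroup X, U ≤ S → IsKleinFour U → Subgroup.normalizer (U : Set X) = Subgroup.centralizer (U : Set X) ⊔ ((S : Subgroup X) ⊓ Subgroup.normalizer (U : Set X)) := by

  haveI : Fact (Nat.Prime 2) := ⟨Nat.prime_two⟩
  constructor
  · intro h U hUS hU
    refine le_antisymm (fun g hg => ?_) (sup_le (fun c hc => ?_) inf_le_right)
    · -- write `g = w * s` with `w` in the normal complement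
      set W := Cfsg.pResidual 2 X with hWdef
      haveI : W.Normal := by
        haveI := Lib.Transfer.pResidual_characteristic (p := 2) (G := X)
        infer_instance
      have hW : W ⊓ (S : Subgroup X) = ⊥ := by
        have := (Lib.Transfer.hasNormalPComplement_iff_inf_eq_bot S).1 h
        rw [inf_comm] at this ⊢
        exact this
      obtain ⟨w, hw, s, hs, rfl⟩ := Subgroup.mem_sup_of_normal_left.1
        (show g ∈ W ⊔ (S : Subgroup X) by
          rw [hWdef, Lib.Transfer.pResidual_sup_sylow S]; exact Subgroup.mem_top _)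
      have hfix : ∀ u ∈ U, w * (s * u * s⁻¹) * w⁻¹ = s * u * s⁻¹ := by
        intro u hu
        have h1 : w * (s * u * s⁻¹) * w⁻¹ ∈ U := by
          have := (Subgroup.mem_normalizer_iff.1 hg u).1 hu
          simpa [mul_assoc] using this
        have hS' : s * u * s⁻¹ ∈ (S : Subgroup X) :=
          Subgroup.mul_mem _ (Subgroup.mul_mem _ hs (hUS hu)) (Subgroup.inv_mem _ hs)
        have h2 : w * (s * u * s⁻¹) * w⁻¹ * (s * u * s⁻¹)⁻¹ ∈ W ⊓ (S : Subgroup X) := by
          refine ⟨?_, Subgroup.mul_mem _ (hUS h1) (Subgroup.inv_mem _ hS')⟩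
          rw [show w * (s * u * s⁻¹) * w⁻¹ * (s * u * s⁻¹)⁻¹ =
            w * ((s * u * s⁻¹) * w⁻¹ * (s * u * s⁻¹)⁻¹) by group]
          exact W.mul_mem hw (Subgroup.Normal.conj_mem inferInstance _ (W.inv_mem hw) _)
        rw [hW] at h2
        exact mul_inv_eq_one.1 (Subgroup.mem_bot.1 h2)
      have hsN : s ∈ Subgroup.normalizer (U : Set X) := by
        refine Subgroup.mem_normalizer_iff.2 fun u => ⟨fun hu => ?_, fun hu => ?_⟩
        · have h1 := (Subgroup.mem_normalizer_iff.1 hg u).1 hu
          have h2 := hfix u hu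
          rw [← h2]
          simpa [mul_assoc] using h1
        · have hinj : Function.Injective (fun v : U => (⟨s * v * s⁻¹, by
              rw [← hfix v v.2]
              simpa [mul_assoc] using (Subgroup.mem_normalizer_iff.1 hg v).1 v.2⟩ : U)) :=
            fun a b hab => by simpa using hab
          obtain ⟨v, hv⟩ := Finite.injective_iff_surjective.1 hinj ⟨_, hu⟩
          have hv' : s * (v : X) * s⁻¹ = s * u * s⁻¹ := congrArg Subtype.val hv
          rw [← mul_left_cancel (mul_right_cancel hv')]
          exact v.2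
      have hwC : w ∈ Subgroup.centralizer (U : Set X) := by
        refine Subgroup.mem_centralizer_iff.2 fun u hu => ?_
        have h0 := hfix _ ((Subgroup.mem_normalizer_iff''.1 hsN u).1 hu)
        rw [show s * (s⁻¹ * u * s) * s⁻¹ = u by group] at h0
        exact (mul_inv_eq_iff_eq_mul.1 h0).symm
      exact Subgroup.mul_mem _ (Subgroup.mem_sup_left hwC) (Subgroup.mem_sup_right ⟨hs, hsN⟩)
    · refine Subgroup.mem_normalizer_iff.2 fun u => ⟨fun hu => ?_, fun hu => ?_⟩
      · rwa [← Subgroup.mem_centralizer_iff.1 hc u hu, mul_inv_cancel_right]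
      · have h2 : u = c * u * c⁻¹ :=
          mul_left_cancel (a := c) (Eq.trans (by group) (Subgroup.mem_centralizer_iff.1 hc _ hu))
        rwa [h2]
  · intro h
    rw [Lib.Transfer.hasNormalPComplement_iff_locallyPTrivial]
    refine Lib.Transfer.locallyPTrivial_of_sylow S fun Q hQS g hg hodd => ?_
    by_cases hQ4 : IsKleinFour Q
    · set N := Subgroup.normalizer (Q : Set X) with hN
      set K := (Subgroup.centralizer (Q : Set X)).subgroupOf N with hK
      haveI : K.Normal := by
        rw [hK, hN]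
        exact (Subgroup.normalizerMonoidHom_ker Q) ▸ MonoidHom.normal_ker _
      have hgK : (⟨g, hg⟩ : N) ∈ K ⊔ ((S : Subgroup X) ⊓ N).subgroupOf N := by
        rw [← Subgroup.subgroupOf_sup (by
          intro c hc
          refine Subgroup.mem_normalizer_iff.2 fun u => ⟨fun hu => ?_, fun hu => ?_⟩
          · rwa [← Subgroup.mem_centralizer_iff.1 hc u hu, mul_inv_cancel_right]
          · have h2 : u = c * u * c⁻¹ :=
              mul_left_cancel (a := c) (Eq.trans (by group) (Subgroup.mem_centralizer_iff.1 hc _ hu))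
            rwa [h2]) inf_le_right, Subgroup.mem_subgroupOf]
        exact (h Q hQS hQ4).le hg
      obtain ⟨c, hc, s, hs, hcs⟩ := Subgroup.mem_sup_of_normal_left.1 hgK
      obtain ⟨k, hk⟩ := S.2 ⟨s, (Subgroup.mem_subgroupOf.1 hs).1⟩
      have hs1 : s ^ 2 ^ k = 1 := Subtype.ext (by
        rw [SubmonoidClass.coe_pow]; exact congrArg Subtype.val hk)
      set π := QuotientGroup.mk' K
      have hπ : π ⟨g, hg⟩ = π s := by
        rw [← hcs, map_mul, show π c = 1 from (QuotientGroup.eq_one_iff c).2 hc, one_mul]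
      have h1 : orderOf (π ⟨g, hg⟩) ∣ 2 ^ k := by
        rw [hπ]; exact orderOf_dvd_of_pow_eq_one (by rw [← map_pow, hs1, map_one])
      have h2 : orderOf (π ⟨g, hg⟩) ∣ orderOf g :=
        (orderOf_map_dvd π _).trans (by rw [← Subgroup.orderOf_coe])
      have h3 := orderOf_eq_one_iff.1 (Nat.eq_one_of_dvd_coprimes
        (Nat.Coprime.pow_left k hodd.symm) h1 h2)
      exact Subgroup.mem_subgroupOf.1 ((QuotientGroup.eq_one_iff (⟨g, hg⟩ : N)).1 h3)
    · exact mem_centralizer_of_not_kleinFour S eS hm Q hQS hQ4 hg hodd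

end Cfsg.Agent.S1254
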