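import Cfsg.Statements.S3864
import Cfsg.Agent.Lib.SECount.DihedralFusion
import Cfsg.Agent.S1254

set_option autoImplicit false
open Cfsg

namespace Cfsg.Agent.S3864

open DihedralGroup Cfsg.Agent.Lib.SECount
set_option linter.style.haveILetI false
set_option linter.unusedSectionVars false

variable {G : Type*} [Group G] [Finite G] (S : Sylow 2 G) {m : ℕ} (eS : (S : Subgroup G) ≃* DihedralGroup m)

lemma orderOf_z [NeZero m] (h2 : 2 ∣ m) : orderOf (dihEmb S eS (dihInv m)) = 2 :=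
  (orderOf_injective _ (dihEmb_injective S eS) _).trans (orderOf_dihInv h2)

lemma orderOf_refl (i : ZMod m) : orderOf (dihEmb S eS (sr i)) = 2 :=
  (orderOf_injective _ (dihEmb_injective S eS) _).trans (orderOf_sr i)

lemma z_mem_four [NeZero m] (h2 : 2 ∣ m) (i : ZMod m) : dihEmb S eS (dihInv m) ∈ fourS S eS i :=
  ⟨_, (mem_fourD_iff h2).2 (Or.inr (Or.inl rfl)), rfl⟩

lemma sr_mem_four [NeZero m] (h2 : 2 ∣ m) (i : ZMod m) : dihEmb S eS (sr i) ∈ fourS S eS i :=
  ⟨_, (sr_mem_fourD_iff h2).2 (Or.inl rfl), rfl⟩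

lemma sr_ne_z (i : ZMod m) : dihEmb S eS (sr i) ≠ dihEmb S eS (dihInv m) :=
  fun h => by simpa [dihInv] using dihEmb_injective S eS h

/-- parity representatives -/
lemma exists_parity [NeZero m] (k : ZMod m) :
    ∃ j : ZMod m, r j * sr k * (r j)⁻¹ = sr 0 ∨ r j * sr k * (r j)⁻¹ = sr 1 := by
  refine ⟨((k.val / 2 : ℕ) : ZMod m), ?_⟩
  rw [r_conj_sr]
  have hk : (k.val : ZMod m) = k := ZMod.natCast_zmod_val k
  have h : k - 2 * ((k.val / 2 : ℕ) : ZMod m) = ((k.val % 2 : ℕ) : ZMod m) := by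
    have h3 : ((2 * (k.val / 2) + k.val % 2 : ℕ) : ZMod m) = k := by rw [Nat.div_add_mod]; exact hk
    push_cast at h3
    linear_combination -h3
  rcases Nat.mod_two_eq_zero_or_one k.val with h0 | h0
  · left; rw [h, h0]; simp
  · right; rw [h, h0]; simp

lemma involution_cases [NeZero m] (h2 : 2 ∣ m) {x : G} (hx : x ∈ (S : Subgroup G)) (ho : orderOf x = 2) :
    x = dihEmb S eS (dihInv m) ∨ ∃ k, x = dihEmb S eS (sr k) := by
  rw [← dihEmb_range S eS] at hx
  obtain ⟨d, rfl⟩ := hx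
  rw [orderOf_injective _ (dihEmb_injective S eS)] at ho
  cases d with
  | sr k => exact Or.inr ⟨k, rfl⟩
  | r k =>
    left
    have h0 : r k * r k = (1 : DihedralGroup m) := by rw [← pow_two, ← ho, pow_orderOf_eq_one]
    rw [r_mul_r, DihedralGroup.one_def, r.injEq] at h0
    rcases eq_zero_or_zhalf h0 with rfl | rfl
    · rw [← DihedralGroup.one_def, orderOf_one] at ho; omega
    · rfl

lemma classes [NeZero m] (h2 : 2 ∣ m) (a : G) (ha : orderOf a = 2) :
    IsConj a (dihEmb S eS (dihInv m)) ∨ IsConj a (dihEmb S eS (sr 0)) ∨ IsConj a (dihEmb S eS (sr 1)) := by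
  haveI : Fact (Nat.Prime 2) := ⟨Nat.prime_two⟩
  obtain ⟨x, hx⟩ := exists_conj_le_sylow S (IsPGroup.of_card (n := 1) (p := 2)
    (G := Subgroup.zpowers a) (by rw [Nat.card_zpowers, ha, pow_one]))
  have hxS : x * a * x⁻¹ ∈ (S : Subgroup G) := hx ⟨a, Subgroup.mem_zpowers a, rfl⟩
  have hc : IsConj a (x * a * x⁻¹) := isConj_iff.2 ⟨x, rfl⟩
  rcases involution_cases S eS h2 hxS
    (by rw [← ha]; exact MulEquiv.orderOf_eq (MulAut.conj x) a) with h | ⟨k, hk⟩
  · exact Or.inl (h ▸ hc)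
  · right
    obtain ⟨j, hj⟩ := exists_parity k
    rw [hk] at hc
    refine hj.imp (fun h => hc.trans (isConj_iff.2 ⟨dihEmb S eS (r j), ?_⟩))
      (fun h => hc.trans (isConj_iff.2 ⟨dihEmb S eS (r j), ?_⟩)) <;>
      rw [← map_mul, ← map_inv, ← map_mul, h]

/-- `R i` means `3` divides the automiser of the four-group of `sr i`. -/
abbrev R (i : ZMod m) : Prop :=
  3 ∣ (Subgroup.centralizer (fourS S eS i : Set G)).relIndex (Subgroup.normalizer (fourS S eS i : Set G))

lemma isConj_z_of_R (hm : 2 ≤ m) (i : ZMod m) (h : R S eS i) :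
    IsConj (dihEmb S eS (sr i)) (dihEmb S eS (dihInv m)) := by
  haveI : NeZero m := ⟨by omega⟩
  obtain ⟨-, h2, -⟩ := dihedral_card S eS hm
  haveI := isKleinFour_fourS S eS hm i
  obtain ⟨g, -, hg⟩ := exists_conj_of_three_dvd _ h (sr_mem_four S eS h2 i) (z_mem_four S eS h2 i)
    (fun e => by have := orderOf_refl S eS i; rw [e, orderOf_one] at this; omega)
    (fun e => by have := orderOf_z S eS h2; rw [e, orderOf_one] at this; omega)
  exact isConj_iff.2 ⟨g, hg⟩

/-- A four-group contains the four-groups' unique conjugacy partner. -/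
lemma four_eq_of_map (hm : 2 < m) (a b : ZMod m) (hab : (a = 0 ∧ b = 1) ∨ (a = 1 ∧ b = 0)) (g : G) :
    (fourS S eS a).map (MulAut.conj g).toMonoidHom ≠ fourS S eS b := by
  rcases hab with ⟨rfl, rfl⟩ | ⟨rfl, rfl⟩
  · exact not_conj_fourS S eS hm g
  · intro h
    refine not_conj_fourS S eS hm g⁻¹ ?_
    rw [← h, map_conj_trans, inv_mul_cancel]
    ext x; simp

lemma comm_z (hm : 2 ≤ m) {s : G} (hs : s ∈ (S : Subgroup G)) :
    s * dihEmb S eS (dihInv m) * s⁻¹ = dihEmb S eS (dihInv m) := by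
  obtain ⟨-, h2, -⟩ := dihedral_card S eS hm
  rw [← dihEmb_range S eS] at hs
  obtain ⟨d, rfl⟩ := hs
  rw [← map_mul, ← map_inv, ← map_mul, (dihInv_commute h2 d).symm.eq, mul_inv_cancel_right]

lemma not_isConj_z_of_not_R (hm : 2 < m) (a b : ZMod m) (hab : (a = 0 ∧ b = 1) ∨ (a = 1 ∧ b = 0))
    (h : ¬ R S eS a) : ¬ IsConj (dihEmb S eS (sr a)) (dihEmb S eS (dihInv m)) := by
  haveI : NeZero m := ⟨by omega⟩
  haveI : Fact (Nat.Prime 2) := ⟨Nat.prime_two⟩
  obtain ⟨-, h2, -⟩ := dihedral_card S eS hm.le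
  intro hc
  obtain ⟨g, hg⟩ := isConj_iff.1 hc
  set z := dihEmb S eS (dihInv m) with hz
  set C := Subgroup.centralizer ({z} : Set G) with hC
  haveI := isKleinFour_fourS S eS hm.le a
  have hSC : (S : Subgroup G) ≤ C := fun s hs => by
    rw [hC, Subgroup.mem_centralizer_singleton_iff]
    have := comm_z S eS hm.le hs
    rwa [mul_inv_eq_iff_eq_mul] at this
  set V := (fourS S eS a).map (MulAut.conj g).toMonoidHom with hV
  have hVC : V ≤ C := by
    rintro _ ⟨v, hv, rfl⟩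
    rw [hC, Subgroup.mem_centralizer_singleton_iff, ← hg]
    have hvu : v * dihEmb S eS (sr a) = dihEmb S eS (sr a) * v := congrArg Subtype.val
      (mul_comm_of_exponent_two IsKleinFour.exponent_two (⟨v, hv⟩ : fourS S eS a) ⟨_, sr_mem_four S eS h2 a⟩)
    show g * v * g⁻¹ * (g * dihEmb S eS (sr a) * g⁻¹) = g * dihEmb S eS (sr a) * g⁻¹ * (g * v * g⁻¹)
    calc _ = g * (v * dihEmb S eS (sr a)) * g⁻¹ := by group
      _ = _ := by rw [hvu]; group
  haveI : IsKleinFour V := (isKleinFour_map_iff _ (MulAut.conj g).injective _).2 inferInstance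
  -- conjugate inside `C` into `S`
  let SC : Sylow 2 C := S.subtype hSC
  obtain ⟨c, hc'⟩ := exists_conj_le_sylow SC ((isPGroup_kleinFour V).comap_subtype (K := C))
  set W := V.map (MulAut.conj (c : G)).toMonoidHom with hW
  have hWS : W ≤ (S : Subgroup G) := by
    rintro _ ⟨v, hv, rfl⟩
    have := hc' ⟨⟨v, hVC hv⟩, hv, rfl⟩
    simpa [SC, Sylow.coe_subtype, Subgroup.mem_subgroupOf] using this
  obtain ⟨k, hk⟩ := exists_eq_fourS S eS hm.le W
    ((isKleinFour_map_iff _ (MulAut.conj (c : G)).injective V).2 inferInstance) hWS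
  obtain ⟨j, hj⟩ := exists_parity k
  set s := dihEmb S eS (r j) with hsdef
  have hs : s ∈ (S : Subgroup G) := dihEmb_mem S eS _
  have hmap : (fourS S eS a).map (MulAut.conj (s * (c : G) * g)).toMonoidHom = fourS S eS 0 ∨
      (fourS S eS a).map (MulAut.conj (s * (c : G) * g)).toMonoidHom = fourS S eS 1 := by
    have e : (fourS S eS a).map (MulAut.conj (s * (c : G) * g)).toMonoidHom =
        (fourS S eS k).map (MulAut.conj s).toMonoidHom := by
      rw [← hk, hW, hV, map_conj_trans, map_conj_trans, mul_assoc]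
    rw [e, hsdef, fourS_map_conj]
    exact hj.imp (fun h => by rw [map_conj_fourD _ _ _ h]; rfl) (fun h => by rw [map_conj_fourD _ _ _ h]; rfl)
  have hfixmap : (fourS S eS a).map (MulAut.conj (s * (c : G) * g)).toMonoidHom = fourS S eS a := by
    rcases hab with ⟨rfl, rfl⟩ | ⟨rfl, rfl⟩
    · exact hmap.resolve_right (four_eq_of_map S eS hm 0 1 (Or.inl ⟨rfl, rfl⟩) _)
    · exact hmap.resolve_left (four_eq_of_map S eS hm 1 0 (Or.inr ⟨rfl, rfl⟩) _)
  set n := s * (c : G) * g with hn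
  have hnN : n ∈ Subgroup.normalizer (fourS S eS a : Set G) := by
    refine Subgroup.mem_normalizer_iff.2 fun x => ?_
    conv_rhs => rw [← hfixmap, Subgroup.mem_map_equiv, MulAut.conj_symm_apply]
    simp [mul_assoc]
  have hu : n * dihEmb S eS (sr a) * n⁻¹ = z := by
    calc n * dihEmb S eS (sr a) * n⁻¹ = s * ((c : G) * (g * dihEmb S eS (sr a) * g⁻¹) * (c : G)⁻¹) * s⁻¹ := by
          rw [hn]; group
      _ = s * z * s⁻¹ := by rw [hg, Subgroup.mem_centralizer_singleton_iff.1 c.2, mul_inv_cancel_right]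
      _ = z := comm_z S eS hm.le hs
  have hfz := (fix_of_not_three_dvd S eS hm.le a h n hnN).1
  exact sr_ne_z S eS a (mul_left_cancel (a := n) (mul_right_cancel (hu.trans hfz.symm)))

lemma not_isConj_sr (hm : 2 < m) (h1 : ¬ R S eS 1) :
    ¬ IsConj (dihEmb S eS (sr 0)) (dihEmb S eS (sr 1)) := by
  haveI : NeZero m := ⟨by omega⟩
  haveI : Fact (Nat.Prime 2) := ⟨Nat.prime_two⟩
  obtain ⟨-, h2, -⟩ := dihedral_card S eS hm.le
  intro hc
  obtain ⟨g, hg⟩ := isConj_iff.1 hc
  set v := dihEmb S eS (sr 1) with hv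
  set C := Subgroup.centralizer ({v} : Set G) with hC
  have hU : ∀ i : ZMod m, fourS S eS i ≤ Subgroup.centralizer ({dihEmb S eS (sr i)} : Set G) := by
    rintro i _ ⟨d, hd, rfl⟩
    rw [Subgroup.mem_centralizer_singleton_iff, ← map_mul, ← map_mul]
    exact congrArg _ (Subgroup.mem_centralizer_singleton_iff.1 hd)
  have hU1 : fourS S eS 1 ≤ C := hU 1
  haveI := isKleinFour_fourS S eS hm.le (1 : ZMod m)
  haveI := isKleinFour_fourS S eS hm.le (0 : ZMod m)
  set V := (fourS S eS 0).map (MulAut.conj g).toMonoidHom with hV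
  have hVC : V ≤ C := by
    rintro _ ⟨x, hx, rfl⟩
    rw [hC, Subgroup.mem_centralizer_singleton_iff, ← hg]
    show g * x * g⁻¹ * (g * dihEmb S eS (sr 0) * g⁻¹) = g * dihEmb S eS (sr 0) * g⁻¹ * (g * x * g⁻¹)
    calc _ = g * (x * dihEmb S eS (sr 0)) * g⁻¹ := by group
      _ = _ := by rw [Subgroup.mem_centralizer_singleton_iff.1 (hU 0 hx)]; group
  haveI : IsKleinFour V := (isKleinFour_map_iff _ (MulAut.conj g).injective _).2 inferInstance
  -- Sylow subgroup of `C` containing the four-group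
  obtain ⟨T, hT⟩ := ((isPGroup_kleinFour (fourS S eS 1)).comap_subtype (K := C)).exists_le_sylow
  set TG := (T : Subgroup C).map C.subtype with hTG
  obtain ⟨x, hx⟩ := exists_conj_le_sylow S (T.2.map C.subtype : IsPGroup 2 TG)
  have hU1T : fourS S eS 1 ≤ TG := fun u hu => ⟨⟨u, hU1 hu⟩, hT hu, rfl⟩
  have hxv : x * v * x⁻¹ ∈ (S : Subgroup G) := hx ⟨v, hU1T (sr_mem_four S eS h2 1), rfl⟩
  have hxo : orderOf (x * v * x⁻¹) = 2 := by
    rw [← orderOf_refl S eS (1 : ZMod m)]; exact MulEquiv.orderOf_eq (MulAut.conj x) v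
  obtain ⟨k, hk⟩ : ∃ k, x * v * x⁻¹ = dihEmb S eS (sr k) := by
    refine (involution_cases S eS h2 hxv hxo).resolve_left fun e => ?_
    exact not_isConj_z_of_not_R S eS hm 1 0 (Or.inr ⟨rfl, rfl⟩) h1 (isConj_iff.2 ⟨x, e⟩)
  have hTle : TG.map (MulAut.conj x).toMonoidHom ≤ fourS S eS k := by
    rintro _ ⟨w, hw, rfl⟩
    obtain ⟨d, hd⟩ : x * w * x⁻¹ ∈ (dihEmb S eS).range := by
      rw [dihEmb_range]; exact hx ⟨w, hw, rfl⟩
    refine ⟨d, Subgroup.mem_centralizer_singleton_iff.2 (dihEmb_injective S eS ?_), hd⟩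
    rw [map_mul, map_mul, hd, ← hk]
    obtain ⟨w', -, rfl⟩ := hw
    have hcw : (w' : G) * v = v * (w' : G) := Subgroup.mem_centralizer_singleton_iff.1 w'.2
    show x * (w' : G) * x⁻¹ * (x * v * x⁻¹) = x * v * x⁻¹ * (x * (w' : G) * x⁻¹)
    calc _ = x * ((w' : G) * v) * x⁻¹ := by group
      _ = _ := by rw [hcw]; group
  haveI := isKleinFour_fourS S eS hm.le k
  have hTU : TG = fourS S eS 1 := by
    refine (Subgroup.eq_of_le_of_card_ge hU1T ?_).symm
    have := Subgroup.card_le_of_le hTle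
    rw [Subgroup.card_map_of_injective (MulAut.conj x).injective,
      IsKleinFour.card_four (G := fourS S eS k)] at this
    rw [IsKleinFour.card_four (G := fourS S eS 1)]; exact this
  obtain ⟨c, hc'⟩ := exists_conj_le_sylow T ((isPGroup_kleinFour V).comap_subtype (K := C))
  refine not_conj_fourS S eS hm ((c : G) * g) (Subgroup.eq_of_le_of_card_ge ?_ ?_)
  · rw [← hTU, ← map_conj_trans, ← hV]
    rintro _ ⟨u, hu, rfl⟩
    exact ⟨_, hc' ⟨⟨u, hVC hu⟩, hu, rfl⟩, rfl⟩
  · rw [Subgroup.card_map_of_injective (MulAut.conj _).injective, IsKleinFour.card_four, IsKleinFour.card_four]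

lemma count_set [NeZero m] (h2 : 2 ∣ m) :
    {C : ConjClasses G | ∃ g : G, ConjClasses.mk g = C ∧ orderOf g = 2} =
      {ConjClasses.mk (dihEmb S eS (dihInv m)), ConjClasses.mk (dihEmb S eS (sr 0)),
        ConjClasses.mk (dihEmb S eS (sr 1))} := by
  ext C
  simp only [Set.mem_ofPred_eq, Set.mem_insert_iff, Set.mem_singleton_iff]
  constructor
  · rintro ⟨g, rfl, hg⟩
    rcases classes S eS h2 g hg with h | h | h
    · exact Or.inl (ConjClasses.mk_eq_mk_iff_isConj.2 h)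
    · exact Or.inr (Or.inl (ConjClasses.mk_eq_mk_iff_isConj.2 h))
    · exact Or.inr (Or.inr (ConjClasses.mk_eq_mk_iff_isConj.2 h))
  · rintro (rfl | rfl | rfl)
    · exact ⟨_, rfl, orderOf_z S eS h2⟩
    · exact ⟨_, rfl, orderOf_refl S eS 0⟩
    · exact ⟨_, rfl, orderOf_refl S eS 1⟩

/-- `z` lies in every normal subgroup with abelian quotient of exponent killing squares of rotations. -/
lemma quot_facts (hm : 2 < m) (N : Subgroup G) [N.Normal] (hcomm : ∀ a b : G ⧸ N, a * b = b * a) :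
    ((dihEmb S eS (r 1) : G) : G ⧸ N) ^ 2 = 1 ∧ dihEmb S eS (dihInv m) ∈ N := by
  haveI : NeZero m := ⟨by omega⟩
  obtain ⟨-, -, h4⟩ := dihedral_card S eS hm.le
  set f := (QuotientGroup.mk' N).comp (dihEmb S eS) with hf
  have hsq : ∀ k : ZMod m, f (r k) ^ 2 = 1 := by
    intro k
    have h1 : f (sr 0 * r k * (sr 0)⁻¹) = f (r k) := by
      rw [map_mul, map_mul, hcomm (f (sr 0)), map_inv, mul_inv_cancel_right]
    rw [show sr 0 * r k * (sr 0)⁻¹ = r (-k) by
      rw [inv_sr, sr_mul_r, sr_mul_sr]; congr 1; ring] at h1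
    rw [pow_two]
    nth_rewrite 1 [← h1]
    rw [← map_mul, r_mul_r, neg_add_cancel, ← DihedralGroup.one_def, map_one]
  refine ⟨hsq 1, ?_⟩
  rw [← QuotientGroup.eq_one_iff]
  show f (dihInv m) = 1
  have e : dihInv m = r ((m / 4 : ℕ) : ZMod m) ^ 2 := by
    obtain ⟨k, hk⟩ := h4 hm
    rw [pow_two, r_mul_r, dihInv, zhalf, ← Nat.cast_add]
    congr 2
    omega
  rw [e, map_pow, hsq]

lemma no_index_two (hm : 2 < m) (h0 : R S eS 0) (h1 : R S eS 1) :
    ∀ N : Subgroup G, N.Normal → N.index ≠ 2 := by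
  intro N hN hi
  haveI : NeZero m := ⟨by omega⟩
  obtain ⟨-, h2, -⟩ := dihedral_card S eS hm.le
  haveI : Fact (Nat.Prime 2) := ⟨Nat.prime_two⟩
  haveI := isCyclic_of_prime_card (α := G ⧸ N) (p := 2) (by rw [← Subgroup.index_eq_card, hi])
  have hz := (quot_facts S eS hm N (fun a b => (IsCyclic.isMulCommutative (α := G ⧸ N)).is_comm.comm a b)).2
  have hs : ∀ i, R S eS i → dihEmb S eS (sr i) ∈ N := fun i hR => by
    obtain ⟨g, hg⟩ := isConj_iff.1 (isConj_z_of_R S eS hm.le i hR).symm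
    rw [← hg]; exact hN.conj_mem _ hz g
  have hSN : (S : Subgroup G) ≤ N := by
    have hr1 : dihEmb S eS (r 1) ∈ N := by
      rw [show (r 1 : DihedralGroup m) = sr 0 * sr 1 by rw [sr_mul_sr, sub_zero], map_mul]
      exact N.mul_mem (hs 0 h0) (hs 1 h1)
    have hr : ∀ k : ZMod m, dihEmb S eS (r k) ∈ N := fun k => by
      rw [← ZMod.natCast_zmod_val k, ← r_one_pow, map_pow]; exact pow_mem hr1 _
    intro s hsS
    rw [← dihEmb_range S eS] at hsS
    obtain ⟨d, rfl⟩ := hsS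
    cases d with
    | r k => exact hr k
    | sr k =>
      rw [show sr k = sr 0 * r k by rw [sr_mul_r, zero_add], map_mul]
      exact N.mul_mem (hs 0 h0) (hr k)
  exact S.not_dvd_index (hi.symm.dvd.trans (Subgroup.index_dvd_of_le hSN))

lemma no_index_four (hm : 2 < m) (a : ZMod m) (h : R S eS a) :
    ∀ N : Subgroup G, N.Normal → N.index ≠ 4 := by
  intro N hN hi
  haveI : NeZero m := ⟨by omega⟩
  obtain ⟨-, h2, -⟩ := dihedral_card S eS hm.le
  haveI : Fact (Nat.Prime 2) := ⟨Nat.prime_two⟩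
  have hcard : Nat.card (G ⧸ N) = 2 ^ 2 := by rw [← Subgroup.index_eq_card, hi]; norm_num
  obtain ⟨hr, hz⟩ := quot_facts S eS hm N (IsPGroup.commutative_of_card_eq_prime_sq hcard)
  have hsa : dihEmb S eS (sr a) ∈ N := by
    obtain ⟨g, hg⟩ := isConj_iff.1 (isConj_z_of_R S eS hm.le a h).symm
    rw [← hg]; exact hN.conj_mem _ hz g
  set y := ((dihEmb S eS (r 1) : G) : G ⧸ N) with hy
  set H := (Subgroup.zpowers y).comap (QuotientGroup.mk' N) with hH
  have hrH : ∀ k : ZMod m, dihEmb S eS (r k) ∈ H := fun k => by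
    rw [← ZMod.natCast_zmod_val k, ← r_one_pow, map_pow]
    exact pow_mem (Subgroup.mem_zpowers y) _
  have hSH : (S : Subgroup G) ≤ H := by
    intro s hsS
    rw [← dihEmb_range S eS] at hsS
    obtain ⟨d, rfl⟩ := hsS
    cases d with
    | r k => exact hrH k
    | sr k =>
      rw [show sr k = sr a * r (k - a) by rw [sr_mul_r, add_sub_cancel], map_mul]
      refine H.mul_mem ?_ (hrH _)
      rw [hH, Subgroup.mem_comap, QuotientGroup.mk'_apply, (QuotientGroup.eq_one_iff _).2 hsa]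
      exact one_mem _
  have hd := Subgroup.index_dvd_of_le hSH
  rw [hH, Subgroup.index_comap_of_surjective _ (QuotientGroup.mk'_surjective N)] at hd
  have hmul := (Subgroup.zpowers y).card_mul_index
  rw [hcard, Nat.card_zpowers] at hmul
  have hy2 : orderOf y ≤ 2 := Nat.le_of_dvd two_pos (orderOf_dvd_of_pow_eq_one hr)
  have h2' : 2 ∣ (Subgroup.zpowers y).index := by
    have hpos := orderOf_pos y
    interval_cases hox : orderOf y
    · exact ⟨2, by omega⟩
    · exact ⟨1, by omega⟩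
  exact S.not_dvd_index (h2'.trans hd)

lemma pComplement (hm : 2 < m) (h0 : ¬ R S eS 0) (h1 : ¬ R S eS 1) : Cfsg.HasNormalPComplement 2 G := by
  haveI : NeZero m := ⟨by omega⟩
  haveI : Fact (Nat.Prime 2) := ⟨Nat.prime_two⟩
  obtain ⟨-, h2, h4⟩ := dihedral_card S eS hm.le
  rw [Cfsg.Agent.S1254.result S m hm.le eS]
  intro U hUS hU
  obtain ⟨i, rfl⟩ := exists_eq_fourS S eS hm.le U hU hUS
  haveI := hU
  set N := Subgroup.normalizer (fourS S eS i : Set G) with hN
  set C := Subgroup.centralizer (fourS S eS i : Set G) with hC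
  have hCN : C ≤ N := Subgroup.centralizer_le_normalizer _
  have hnR : ¬ R S eS i := by
    obtain ⟨j, hj⟩ := exists_parity i
    intro hR
    have := isConj_z_of_R S eS hm.le i hR
    rcases hj with h | h
    · refine not_isConj_z_of_not_R S eS hm 0 1 (Or.inl ⟨rfl, rfl⟩) h0 ?_
      exact (IsConj.symm (isConj_iff.2 ⟨dihEmb S eS (r j), by rw [← map_mul, ← map_inv, ← map_mul, h]⟩)).trans this
    · refine not_isConj_z_of_not_R S eS hm 1 0 (Or.inr ⟨rfl, rfl⟩) h1 ?_
      exact (IsConj.symm (isConj_iff.2 ⟨dihEmb S eS (r j), by rw [← map_mul, ← map_inv, ← map_mul, h]⟩)).trans this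
  have hidx : C.relIndex N = 2 := by
    have hd := relIndex_dvd_six (fourS S eS i)
    have he := two_dvd_relIndex S eS hm i
    have hle := Nat.le_of_dvd (by norm_num) hd
    rw [R] at hnR
    change C.relIndex N ∣ 6 at hd
    change 2 ∣ C.relIndex N at he
    change ¬ 3 ∣ C.relIndex N at hnR
    change C.relIndex N ≤ 6 at hle
    interval_cases hh : C.relIndex N <;> omega
  obtain ⟨t, ht, -, ht1, -⟩ := exists_normalizer_fourD (h4 hm) i
  have htN : dihEmb S eS t ∈ (S : Subgroup G) ⊓ N :=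
    ⟨dihEmb_mem S eS t, Subgroup.le_normalizer_map _ ⟨t, ht, rfl⟩⟩
  have htC : dihEmb S eS t ∉ C := fun h => ht1 (dihEmb_injective S eS (by
    rw [map_mul, map_mul]
    exact (Subgroup.mem_centralizer_iff.1 h _ (sr_mem_four S eS h2 i)).symm))
  set K := C ⊔ ((S : Subgroup G) ⊓ N)
  have hKN : K ≤ N := sup_le hCN inf_le_right
  have hmul := Subgroup.relIndex_mul_relIndex C K N le_sup_left hKN
  rw [hidx] at hmul
  have hne : C.relIndex K ≠ 1 := fun h =>
    htC (Subgroup.relIndex_eq_one.1 h (Subgroup.mem_sup_right htN))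
  have hone : K.relIndex N = 1 := by
    rcases (Nat.dvd_prime Nat.prime_two).1 ⟨_, hmul.symm⟩ with h | h
    · exact absurd h hne
    · rw [h] at hmul; omega
  exact le_antisymm (Subgroup.relIndex_eq_one.1 hone) hKN

/-- Let G be a finite group whose Sylow 2-subgroups are dihedral of order 2 ^ n with n ≥ 3, and count the conjugacy classes of involutions of G. Then exactly one of the following holds: there is one class of involutions and no normal subgroup of index 2; there are two classes of involutions, a normal subgroup of index 2 and none of index 4; there are three classes of involutions and G has a normal 2-complement. -/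
theorem result {G : Type*} [Group G] [Finite G] (P : Sylow 2 G) (n : ℕ) (hn : 3 ≤ n) (hdih : Nonempty (↥(P : Subgroup G) ≃* DihedralGroup (2 ^ (n - 1)))) : (Nat.card {C : ConjClasses G // ∃ g : G, ConjClasses.mk g = C ∧ orderOf g = 2} = 1 ∧ ∀ N : Subgroup G, N.Normal → N.index ≠ 2) ∨ (Nat.card {C : ConjClasses G // ∃ g : G, ConjClasses.mk g = C ∧ orderOf g = 2} = 2 ∧ (∃ N : Subgroup G, N.Normal ∧ N.index = 2) ∧ ∀ N : Subgroup G, N.Normal → N.index ≠ 4) ∨ (Nat.card {C : ConjClasses G // ∃ g : G, ConjClasses.mk g = C ∧ orderOf g = 2} = 3 ∧ Cfsg.HasNormalPComplement 2 G) := by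
  haveI : Fact (Nat.Prime 2) := ⟨Nat.prime_two⟩
  obtain ⟨eS⟩ := hdih
  have hm : 2 < 2 ^ (n - 1) := by
    have : 2 ^ 2 ≤ 2 ^ (n - 1) := Nat.pow_le_pow_right two_pos (by omega)
    omega
  haveI : NeZero (2 ^ (n - 1)) := ⟨by omega⟩
  obtain ⟨-, h2, -⟩ := Cfsg.Agent.Lib.SECount.dihedral_card P eS hm.le
  have hcount : ∀ S' : Set (ConjClasses G), {C : ConjClasses G | ∃ g : G, ConjClasses.mk g = C ∧ orderOf g = 2} = S' →
      Nat.card {C : ConjClasses G // ∃ g : G, ConjClasses.mk g = C ∧ orderOf g = 2} = S'.ncard := by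
    intro S' h
    rw [← h, ← Nat.card_coe_set_eq]
    rfl
  have hset := count_set P eS h2
  have iff : ∀ {a b : G}, ConjClasses.mk a = ConjClasses.mk b ↔ IsConj a b :=
    ConjClasses.mk_eq_mk_iff_isConj
  have i2 : ∀ a, ¬ R P eS a → ∃ N : Subgroup G, N.Normal ∧ N.index = 2 := by
    intro a ha
    obtain ⟨M, hM⟩ := Cfsg.Agent.Lib.SECount.exists_index_two_of_not_three_dvd P eS hm.le a ha
    exact ⟨M, Subgroup.normal_of_index_eq_two hM, hM⟩
  rcases Classical.em (R P eS 0) with h0 | h0 <;> rcases Classical.em (R P eS 1) with h1 | h1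
  · refine Or.inl ⟨?_, no_index_two P eS hm h0 h1⟩
    rw [hcount _ hset, iff.2 (isConj_z_of_R P eS hm.le 0 h0), iff.2 (isConj_z_of_R P eS hm.le 1 h1)]
    simp
  · refine Or.inr (Or.inl ⟨?_, i2 1 h1, no_index_four P eS hm 0 h0⟩)
    rw [hcount _ hset, iff.2 (isConj_z_of_R P eS hm.le 0 h0), Set.insert_eq_of_mem (Set.mem_insert _ _)]
    exact Set.ncard_pair fun e => not_isConj_z_of_not_R P eS hm 1 0 (Or.inr ⟨rfl, rfl⟩) h1 (iff.1 e).symm
  · refine Or.inr (Or.inl ⟨?_, i2 0 h0, no_index_four P eS hm 1 h1⟩)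
    rw [hcount _ hset, iff.2 (isConj_z_of_R P eS hm.le 1 h1), Set.pair_comm,
      Set.insert_eq_of_mem (Set.mem_insert _ _)]
    exact Set.ncard_pair fun e => not_isConj_z_of_not_R P eS hm 0 1 (Or.inl ⟨rfl, rfl⟩) h0 (iff.1 e).symm
  · refine Or.inr (Or.inr ⟨?_, pComplement P eS hm h0 h1⟩)
    rw [hcount _ hset, Set.ncard_eq_three]
    exact ⟨_, _, _, fun e => not_isConj_z_of_not_R P eS hm 0 1 (Or.inl ⟨rfl, rfl⟩) h0 (iff.1 e).symm,
      fun e => not_isConj_z_of_not_R P eS hm 1 0 (Or.inr ⟨rfl, rfl⟩) h1 (iff.1 e).symm,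
      fun e => not_isConj_sr P eS hm h1 (iff.1 e), rfl⟩

end Cfsg.Agent.S3864
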