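import Mathlib
import Cfsg.Agent.Lib.LargeExtra.ResidualTransfer
import Cfsg.Statements.S3300

set_option autoImplicit false
open Cfsg

namespace Cfsg.Agent.S3300

open Lib.LargeExtra

/-- Let G be a finite group with no nontrivial 2-group quotient (O^2(G) = G), z an involution of G with H = C_G(z), and suppose E = O_2(H) is extraspecial with C_G(E) ≤ E and of order 2^(2n+1) with n ≥ 3. If H has a normal subgroup of index 2, then z is conjugate in G to an element of E other than z. -/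
theorem result {G : Type*} [Group G] [Finite G] (hres : Cfsg.pResidual 2 G = ⊤) (z : G) (hz : orderOf z = 2)
    (E : Subgroup G) (hE : E = (Cfsg.pCore 2 ↥(Subgroup.centralizer ({z} : Set G))).map (Subgroup.centralizer ({z} : Set G)).subtype)
    (hext : Cfsg.IsExtraspecial 2 ↥E) (hcent : Subgroup.centralizer (E : Set G) ≤ E) (n : ℕ) (hn : 3 ≤ n) (hcard : Nat.card ↥E = 2 ^ (2 * n + 1))
    (K : Subgroup G) (hKH : K ≤ Subgroup.centralizer ({z} : Set G))
    (hKn : ∀ h ∈ Subgroup.centralizer ({z} : Set G), K.map (MulAut.conj h).toMonoidHom = K)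
    (hKi : K.relIndex (Subgroup.centralizer ({z} : Set G)) = 2) :
    ∃ g : G, g * z * g⁻¹ ∈ E ∧ g * z * g⁻¹ ≠ z := by
  classical
  set H := Subgroup.centralizer ({z} : Set G) with hH
  let Q : G → Subgroup G := fun x => (Cfsg.pCore 2 ↥(Subgroup.centralizer ({x} : Set G))).map
    (Subgroup.centralizer ({x} : Set G)).subtype
  have hQ : IsCoreMap Q := fun x => rfl
  subst hE
  have hX : Good (Q z) z := by
    have := hQ.good_conj hz hext hcent 1
    simpa using this
  have hX128 : 128 ≤ Nat.card (Q z) := by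
    show 128 ≤ Nat.card ↥((Cfsg.pCore 2 ↥H).map H.subtype)
    rw [hcard]
    calc 128 = 2 ^ 7 := by norm_num
      _ ≤ _ := Nat.pow_le_pow_right (by norm_num) (by omega)
  by_contra hno
  push Not at hno
  obtain ⟨χ, hχK, hχne⟩ := exists_character hKi
  refine false_of_character hres hX (hQ.isPGroup z) (H := H)
    (fun a => Subgroup.mem_centralizer_singleton_iff) χ hχne fun g hgz hgc => ?_
  have hwX : g * z * g⁻¹ ∉ Q z := fun h => hgz (hno g h)
  have hw2 : (g * z * g⁻¹) * (g * z * g⁻¹) = 1 := by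
    calc (g * z * g⁻¹) * (g * z * g⁻¹) = g * (z * z) * g⁻¹ := by group
      _ = 1 := by rw [hX.x_sq]; group
  have h4 := four_mul_card_le hX (hQ.isPGroup z) hw2 hgc hwX
  set A := Q z ⊓ Subgroup.centralizer ({g * z * g⁻¹} : Set G) with hA
  by_cases h8 : 8 * Nat.card ↥A ≤ Nat.card ↥(Q z)
  · exact Or.inr (Or.inr h8)
  refine Or.inr (Or.inl ⟨fun c hc => ?_, h4⟩)
  -- `A` is nonabelian, so `z` is a commutator of `A`
  obtain ⟨a, ha, b, hb, hab⟩ : ∃ a ∈ A, ∃ b ∈ A, a * b ≠ b * a := by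
    by_contra hcon
    push Not at hcon
    have hzA : z ∈ A := ⟨hX.x_mem, mem_centralizer_singleton'.2 hgc.symm⟩
    have h2 := sq_card_le_of_comm hX A inf_le_left hzA hcon
    nlinarith
  have hmk : ∀ x ∈ A, g⁻¹ * x * g ∈ H := fun x hx =>
    Subgroup.mem_centralizer_singleton_iff.2
      ((commute_conj_iff g x z).2 (mem_centralizer_singleton'.1 hx.2))
  have hzcomm : z = a⁻¹ * b⁻¹ * a * b := by
    have e : b⁻¹ * a * b⁻¹⁻¹ = a * z :=
      (hX.comm b⁻¹ (inv_mem hb.1) a ha.1).resolve_left fun e => hab (by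
        rw [inv_inv] at e
        calc a * b = b * (b⁻¹ * a * b) := by group
          _ = b * a := by rw [e])
    rw [inv_inv] at e
    calc z = a⁻¹ * (a * z) := (inv_mul_cancel_left _ _).symm
      _ = _ := by rw [← e]; group
  have hc' : c = (⟨_, hmk a ha⟩ : H)⁻¹ * (⟨_, hmk b hb⟩ : H)⁻¹ * ⟨_, hmk a ha⟩ * ⟨_, hmk b hb⟩ := by
    refine Subtype.ext ?_
    show (c : G) = (g⁻¹ * a * g)⁻¹ * (g⁻¹ * b * g)⁻¹ * (g⁻¹ * a * g) * (g⁻¹ * b * g)
    calc (c : G) = g⁻¹ * (g * (c : G) * g⁻¹) * g := by group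
      _ = g⁻¹ * (a⁻¹ * b⁻¹ * a * b) * g := by rw [hc, ← hzcomm]
      _ = _ := by group
  rw [hc', map_mul, map_mul, map_mul, map_inv, map_inv, mul_comm (χ _)⁻¹, mul_assoc (χ _)⁻¹,
    inv_mul_cancel, mul_one, inv_mul_cancel]

end Cfsg.Agent.S3300
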