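import Cfsg.Statements.S0956
import Cfsg.Agent.Lib.Blocks.DefectClass
import Cfsg.Agent.Lib.Blocks.Brauer
import Cfsg.Agent.Lib.Blocks.IdemCoset

set_option autoImplicit false
open Cfsg

namespace Cfsg.Agent.S0956

/-- Let D be a defect group of a block of the finite group G (relative to a maximal ideal M of the algebraic integers containing the prime p) and P a Sylow p-subgroup containing D. Then there is an element x of order prime to p such that D is a Sylow p-subgroup of the centralizer of x and D = P ∩ x P x⁻¹. -/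
theorem result {G : Type*} [Group G] [Finite G] (p : ℕ) [Fact p.Prime] (M : Ideal Cfsg.AlgInt) (hM : Cfsg.IsPModular p M) (B : Set (Cfsg.IrrCharacter G)) (hB : Cfsg.IsPBlock M B) (D : Subgroup G) (hD : Cfsg.IsDefectGroup p M B D) (P : Sylow p G) (hDP : D ≤ P) : ∃ x : G, ¬ p ∣ orderOf x ∧ (∃ S : Sylow p (Subgroup.centralizer ({x} : Set G)), (S : Subgroup (Subgroup.centralizer ({x} : Set G))).map (Subgroup.centralizer ({x} : Set G)).subtype = D) ∧ (P : Subgroup G) ⊓ (P : Subgroup G).map (MulAut.conj x).toMonoidHom = D := by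
  classical
  cases nonempty_fintype G
  have := Lib.Blocks.isPModular_isPrime hM
  haveI := Lib.Blocks.charP_residue hM
  obtain ⟨g₀, hg₀, hg₀D⟩ := Lib.Blocks.isDefectGroup_iff.1 hD
  have hDp : IsPGroup p D := hg₀D.1
  set N := Subgroup.normalizer (D : Set G) with hN
  have hC : Subgroup.centralizer (D : Set G) ≤ N := Subgroup.centralizer_le_normalizer _
  have hg₀C : g₀ ∈ Subgroup.centralizer (D : Set G) :=
    Lib.Blocks.le_centralizer_singleton_iff.1 hg₀D.2.1
  set z := Lib.Blocks.brR M D N le_rfl (Lib.Blocks.blockIdem M hB) with hz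
  set e := Lib.Blocks.toF M N (z : MonoidAlgebra (Lib.Blocks.localRing M) N) with he
  have hcen : e ∈ Subalgebra.center (Lib.Blocks.Residue M) (MonoidAlgebra (Lib.Blocks.Residue M) N) :=
    Lib.Blocks.map_mem_center _ z.2
  have hid : e * e = e := by
    have h := Lib.Blocks.toF_brR_mul hM hDp hC le_rfl (Lib.Blocks.blockIdem M hB)
      (Lib.Blocks.blockIdem M hB)
    rw [Lib.Blocks.blockIdem_mul_self, MulMemClass.coe_mul, map_mul] at h
    exact h.symm
  have hcoeff : ∀ v : N, e.coeff v ≠ 0 →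
      (v : G) ∈ Subgroup.centralizer (D : Set G) ∧ ¬ MemLocalIdeal M (blockCoeff B (v : G)) := by
    intro v hv
    by_cases hvC : (v : G) ∈ Subgroup.centralizer (D : Set G)
    · refine ⟨hvC, fun h => hv ?_⟩
      simp only [he, hz, Lib.Blocks.toF, MonoidAlgebra.coeff_mapRingHom, Lib.Blocks.coe_brR,
        Lib.Blocks.coeff_trunc, hvC, if_true, Lib.Blocks.residue_eq_zero_iff,
        Lib.Blocks.coe_coeff_blockIdem]
      exact h
    · refine absurd ?_ hv
      simp only [he, hz, Lib.Blocks.toF, MonoidAlgebra.coeff_mapRingHom, Lib.Blocks.coe_brR,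
        Lib.Blocks.coeff_trunc, hvC, if_false, map_zero]
  have hne : e ≠ 0 := by
    intro h0
    have h1 := congrArg (fun y => y.coeff (⟨g₀, hC hg₀C⟩ : N)) h0
    simp only [he, hz, Lib.Blocks.toF, MonoidAlgebra.coeff_mapRingHom, Lib.Blocks.coe_brR,
      Lib.Blocks.coeff_trunc, hg₀C, if_true, MonoidAlgebra.coeff_zero, Finsupp.coe_zero,
      Pi.zero_apply, Lib.Blocks.residue_eq_zero_iff, Lib.Blocks.coe_coeff_blockIdem] at h1
    exact hg₀.2.1 h1
  let S : Subgroup N := (P : Subgroup G).subgroupOf N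
  have hS : IsPGroup p S := P.2.comap_subtype
  obtain ⟨y, hy⟩ := Lib.Blocks.IdemCoset.exists_coset_sum_ne_zero S hS hcen hid hne
  let Q : Subgroup N := S ⊓ S.map (MulAut.conj y⁻¹).toMonoidHom
  have hQS : ∀ a : Q, y * (a : N) * y⁻¹ ∈ S := by
    rintro ⟨a, -, b, hb, rfl⟩
    simpa [mul_assoc] using hb
  let f : Q → S → S := fun a u => ⟨(a : N) * u * (y * (a : N) * y⁻¹)⁻¹,
    mul_mem (mul_mem a.2.1 u.2) (inv_mem (hQS a))⟩
  letI act : MulAction Q S :=
    { smul := f
      one_smul := fun u => Subtype.ext (show ((1 : Q) : N) * u * (y * ((1 : Q) : N) * y⁻¹)⁻¹ = u by simp)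
      mul_smul := fun a b u => Subtype.ext (show ((a * b : Q) : N) * u * (y * ((a * b : Q) : N) * y⁻¹)⁻¹ =
        (a : N) * ((b : N) * u * (y * (b : N) * y⁻¹)⁻¹) * (y * (a : N) * y⁻¹)⁻¹ by
          simp [mul_assoc]) }
  have hQp : IsPGroup p Q := hS.to_le inf_le_left
  rw [Lib.Blocks.sum_eq_sum_fixedPoints (P := Q) (p := p) (CharP.cast_eq_zero _ p) hQp
    (fun u : S => e.coeff ((u : N) * y)) (fun a u => by
      have key : ((a • u : S) : N) * y = (a : N) * ((u : N) * y) * (a : N)⁻¹ := by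
        show (a : N) * u * (y * (a : N) * y⁻¹)⁻¹ * y = _
        group
      show e.coeff (((a • u : S) : N) * y) = e.coeff ((u : N) * y)
      rw [key]
      exact Lib.Blocks.mem_center_iff.1 hcen _ _)] at hy
  obtain ⟨u, hu, hev⟩ := Finset.exists_ne_zero_of_sum_ne_zero hy
  set x : N := (u : N) * y with hx
  obtain ⟨hxC, hxu⟩ := hcoeff x hev
  have hfix : ∀ a : Q, (a : N) * x = x * (a : N) := by
    intro a
    have h := congrArg (fun t : S => (t : N) * y) ((Finset.mem_filter.1 hu).2 a)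
    change (a : N) * u * (y * (a : N) * y⁻¹)⁻¹ * y = x at h
    conv_rhs => rw [← h]
    rw [hx]
    group
  have hDS : ∀ (d : G) (hd : d ∈ D), (⟨d, Subgroup.le_normalizer hd⟩ : N) ∈ S := fun d hd => hDP hd
  have key : ∀ a : N, a ∈ S → x * a * x⁻¹ ∈ S → (a : G) ∈ D := by
    intro a ha hxa
    have hyQ : y * a * y⁻¹ ∈ S := by
      have := mul_mem (mul_mem (inv_mem u.2) hxa) u.2
      rw [hx] at this
      simpa [mul_assoc] using this
    have haQ : a ∈ Q := ⟨ha, y * a * y⁻¹, hyQ, by simp [mul_assoc]⟩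
    have hQG : IsPGroup p (Q.map N.subtype) := hQp.map _
    have hDQ : D ≤ Q.map N.subtype := by
      intro d hd
      have hc := Subgroup.mem_centralizer_iff.1 hxC d hd
      refine ⟨⟨d, Subgroup.le_normalizer hd⟩, ⟨hDS d hd, ?_⟩, rfl⟩
      have hcn : (⟨d, Subgroup.le_normalizer hd⟩ : N) * x = x * ⟨d, Subgroup.le_normalizer hd⟩ :=
        Subtype.ext hc
      refine ⟨(u : N)⁻¹ * ⟨d, Subgroup.le_normalizer hd⟩ * u,
        mul_mem (mul_mem (inv_mem u.2) (hDS d hd)) u.2, ?_⟩
      show y⁻¹ * ((u : N)⁻¹ * ⟨d, Subgroup.le_normalizer hd⟩ * u) * y⁻¹⁻¹ = _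
      have := congrArg (fun t => x⁻¹ * t) hcn
      simp only [inv_mul_cancel_left] at this
      conv_rhs => rw [← this]
      rw [hx]; group
    obtain ⟨c, hc⟩ := Lib.Blocks.exists_conj_le_of_unit hM hB hg₀ hg₀D hQG (h := (x : G))
      (Subgroup.mem_centralizer_iff.2 (by
        rintro _ ⟨q, hq, rfl⟩
        exact congrArg Subtype.val (hfix ⟨q, hq⟩))) hxu
    have heq : D = Q.map N.subtype := Subgroup.eq_of_le_of_card_ge hDQ
      ((Subgroup.card_le_of_le hc).trans (Subgroup.card_map_of_injective (MulAut.conj c).injective).le)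
    rw [heq]
    exact ⟨a, haQ, rfl⟩
  have hxreg : ¬ p ∣ orderOf (x : G) := fun h => hxu (by
    rw [Lib.Blocks.blockCoeff_eq_zero_of_pSingular hM hB h]; exact Lib.Blocks.memLocalIdeal_zero)
  refine ⟨(x : G)⁻¹, by rwa [orderOf_inv], ?_, ?_⟩
  · have hcent : Subgroup.centralizer ({(x : G)⁻¹} : Set G) = Subgroup.centralizer ({(x : G)} : Set G) := by
      ext w
      simp only [Subgroup.mem_centralizer_singleton_iff]
      constructor
      · intro h
        have := congrArg (fun t => (x : G) * t * x) h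
        simpa [mul_assoc] using this.symm
      · intro h
        have := congrArg (fun t => (x : G)⁻¹ * t * (x : G)⁻¹) h
        simpa [mul_assoc] using this.symm
    have hle : D ≤ Subgroup.centralizer ({(x : G)⁻¹} : Set G) := by
      rw [hcent]; exact Lib.Blocks.le_centralizer_singleton_iff.2 hxC
    obtain ⟨D', hD', hge⟩ := Lib.Blocks.exists_isClassDefect_ge (g := (x : G)⁻¹) hDp
      (Lib.Blocks.le_centralizer_singleton_iff.1 hle)
    have hD'x : (x : G) ∈ Subgroup.centralizer (D' : Set G) :=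
      Lib.Blocks.le_centralizer_singleton_iff.1 (hcent ▸ hD'.2.1)
    obtain ⟨c, hc⟩ := Lib.Blocks.exists_conj_le_of_unit hM hB hg₀ hg₀D hD'.1 hD'x hxu
    have heq : D = D' := Subgroup.eq_of_le_of_card_ge hge
      ((Subgroup.card_le_of_le hc).trans (Subgroup.card_map_of_injective (MulAut.conj c).injective).le)
    rw [← heq] at hD'
    obtain ⟨T, hT⟩ := Lib.Blocks.isClassDefect_iff_exists_sylow.1 hD'
    exact ⟨T, hT.symm⟩
  · set R := (P : Subgroup G) ⊓ (P : Subgroup G).map (MulAut.conj (x : G)⁻¹).toMonoidHom with hR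
    have hxR : ∀ a ∈ R, (x : G) * a * (x : G)⁻¹ ∈ P := by
      rintro a ⟨-, b, hb, rfl⟩
      simpa [mul_assoc] using hb
    have hDR : D ≤ R := fun d hd => ⟨hDP hd, d, hDP hd, by
      have hc := Subgroup.mem_centralizer_iff.1 hxC d hd
      show (x : G)⁻¹ * d * (x : G)⁻¹⁻¹ = d
      rw [inv_inv, mul_assoc, hc, inv_mul_cancel_left]⟩
    refine le_antisymm ?_ hDR
    by_contra hnot
    have hRp : IsPGroup p R := P.2.to_le inf_le_left
    haveI : Group.IsNilpotent R := hRp.isNilpotent
    have hlt : D.subgroupOf R < ⊤ := lt_top_iff_ne_top.2 fun h =>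
      hnot (Subgroup.subgroupOf_eq_top.1 h)
    obtain ⟨a, haN, haD⟩ := SetLike.exists_of_lt (normalizerCondition_of_isNilpotent _ hlt)
    refine haD ?_
    have haN' : (a : G) ∈ N := by
      rw [hN, Subgroup.mem_normalizer_iff]
      intro h
      constructor
      · intro hh
        simpa [Subgroup.mem_subgroupOf] using
          ((Subgroup.mem_normalizer_iff.1 haN) ⟨h, hDR hh⟩).1 (Subgroup.mem_subgroupOf.2 hh)
      · intro hh
        have hmem : h ∈ R := by
          have := R.mul_mem (R.mul_mem (R.inv_mem a.2) (hDR hh)) a.2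
          simpa [mul_assoc] using this
        exact Subgroup.mem_subgroupOf.1
          (((Subgroup.mem_normalizer_iff.1 haN) ⟨h, hmem⟩).2 (Subgroup.mem_subgroupOf.2 hh))
    exact Subgroup.mem_subgroupOf.2 (key ⟨a, haN'⟩ a.2.1
      (Subgroup.mem_subgroupOf.2 (hxR a a.2)))

end Cfsg.Agent.S0956
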