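import Cfsg.Statements.S0791
import Mathlib
import Cfsg.Agent.Lib.Forms.NegOneOmega
-- import your own Cfsg.Agent.* helpers here

set_option autoImplicit false
open Cfsg

namespace Cfsg.Agent.S0791

/-- −1 ∈ Ω⁻_2m(q) iff q^m ≡ −1 (mod 4), for q odd and m ≥ 1; for the minus-type form quadFormMinus (m−1) with anisotropic binary part. -/
theorem result {F : Type*} [Field F] [Fintype F] {q : ℕ} (hF : Fintype.card F = q) (hodd : Odd q) (m : ℕ) (hm : 1 ≤ m) (a b : F) (hab : ∀ z₁ z₂ : F, z₁ ^ 2 + a * z₁ * z₂ + b * z₂ ^ 2 = 0 → z₁ = 0 ∧ z₂ = 0) : (∃ g : ↥(Cfsg.isometryGroup F (Cfsg.quadFormMinus (m - 1) F a b)), g ∈ Cfsg.Omega F (Cfsg.quadFormMinus (m - 1) F a b) ∧ ((g : Matrix.GeneralLinearGroup ((Fin (m - 1) ⊕ Fin (m - 1)) ⊕ Fin 2) F) : Matrix ((Fin (m - 1) ⊕ Fin (m - 1)) ⊕ Fin 2) ((Fin (m - 1) ⊕ Fin (m - 1)) ⊕ Fin 2) F) = -1) ↔ q ^ m % 4 = 3 := by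
  classical
  have hchar := Cfsg.Agent.Lib.SquareClass.ringChar_ne_two hF hodd
  have h2 : (2 : F) ≠ 0 := Ring.two_ne_zero hchar
  set M : Matrix ((Fin (m - 1) ⊕ Fin (m - 1)) ⊕ Fin 2) ((Fin (m - 1) ⊕ Fin (m - 1)) ⊕ Fin 2) F :=
    Matrix.fromBlocks (Matrix.fromBlocks 0 1 0 0) 0 0 !![1, a; 0, b] with hM
  have hQ : ⇑(Cfsg.Agent.Lib.Forms.matQuad M) = Cfsg.quadFormMinus (m - 1) F a b := by
    funext v
    simp [Cfsg.Agent.Lib.Forms.matQuad_apply, hM, Cfsg.quadFormMinus, dotProduct, Matrix.mulVec,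
      Fintype.sum_sum_type, Matrix.one_apply, Fin.sum_univ_two]
    ring
  have hG : M + M.transpose = Matrix.fromBlocks (Matrix.fromBlocks 0 1 1 0) 0 0 !![2, a; a, 2 * b] := by
    rw [hM, Matrix.fromBlocks_transpose, Matrix.fromBlocks_transpose, Matrix.fromBlocks_add, Matrix.fromBlocks_add]
    congr 1 <;> ext i j <;> simp <;> fin_cases i <;> fin_cases j <;> simp <;> ring
  have hδ : ¬ IsSquare (a ^ 2 - 4 * b) := by
    rintro ⟨r, hr⟩
    have h := hab ((r - a) / 2) 1 (by field_simp; linear_combination -hr)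
    exact one_ne_zero h.2
  have hdet : (M + M.transpose).det = (-1) ^ m * (a ^ 2 - 4 * b) := by
    rw [hG, Matrix.det_fromBlocks_zero₂₁, Cfsg.Agent.Lib.StdForms.hyperbolic_det, Matrix.det_fin_two_of,
      show (-1 : F) ^ m = (-1) ^ (m - 1) * -1 by rw [← pow_succ, Nat.sub_add_cancel hm]]
    ring
  have hδ0 : a ^ 2 - 4 * b ≠ 0 := fun e => hδ (e ▸ IsSquare.zero)
  have hne : (-1 : F) ^ m ≠ 0 := pow_ne_zero _ (neg_ne_zero.mpr one_ne_zero)
  rw [← hQ, Cfsg.Agent.Lib.Forms.exists_negOne_mem_omega_iff h2 _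
    (Cfsg.Agent.Lib.Forms.nondegenerate_matQuad M (by rw [hdet]; exact mul_ne_zero hne hδ0))
    (by simp) (by simp [Fintype.card_sum, parity_simps]),
    Cfsg.Agent.Lib.Forms.gram_matQuad, hdet, Cfsg.Agent.Lib.SquareClass.mul_isSquare_iff hchar hne hδ0,
    Cfsg.Agent.Lib.Forms.neg_one_pow_isSquare_iff_mod_four hF hodd]
  simp only [hδ, iff_false]
  have h4 : q ^ m % 4 = 1 ∨ q ^ m % 4 = 3 := by
    obtain ⟨k, hk⟩ := hodd.pow (n := m)
    omega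
  omega

end Cfsg.Agent.S0791
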