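import Cfsg.Statements.S0294
import Mathlib
import Cfsg.Agent.Lib.Classical.EichlerStandard
import Cfsg.Agent.S0791

set_option autoImplicit false
open Cfsg

namespace Cfsg.Agent.S0294

/-- gcd(4, q^m + 1) |PΩ^-_{2m}(q)| = q^(m(m-1)) (q^m + 1) prod_{i=1}^{m-1} (q^(2i) - 1), m at least 4 (type ²D_m). -/
theorem result {F : Type*} [Field F] [Fintype F] {q : ℕ} (hF : Fintype.card F = q) (m : ℕ) (hm : 4 ≤ m) (a b : F) (hab : ∀ z₁ z₂ : F, z₁ ^ 2 + a * z₁ * z₂ + b * z₂ ^ 2 = 0 → z₁ = 0 ∧ z₂ = 0) : Nat.gcd 4 (q ^ m + 1) * Nat.card (Cfsg.POmega F (Cfsg.quadFormMinus (m - 1) F a b)) = q ^ (m * (m - 1)) * (q ^ m + 1) * ∏ i ∈ Finset.range (m - 1), (q ^ (2 * (i + 1)) - 1) := by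
  obtain ⟨k, rfl⟩ : ∃ k, m = k + 4 := ⟨m - 4, by omega⟩
  show Nat.gcd 4 (q ^ (k + 4) + 1) * Nat.card (Cfsg.POmega F (Cfsg.quadFormMinus (k + 3) F a b))
    = q ^ ((k + 4) * (k + 3)) * (q ^ (k + 4) + 1) * ∏ i ∈ Finset.range (k + 3), (q ^ (2 * (i + 1)) - 1)
  have h := (Lib.Classical.minusModel (F := F) k a b).natCard_POmega_cases
    (Lib.Classical.isotropicNondeg_hypTower (Lib.Classical.nondeg_binQ hab) k) (q ^ (k + 4) % 4 = 3)
    (fun h2 => by
      rw [Lib.Classical.coe_minusForm]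
      exact S0791.result hF (by
        rw [← hF, ← Nat.not_even_iff_odd, ← Lib.Classical.two_eq_zero_iff_even_card]; exact h2)
        (k + 4) (by omega) a b hab)
  rw [Lib.Classical.coe_minusForm, Lib.Classical.natCard_isometryGroup_minus hab (k + 3),
    Nat.card_eq_fintype_card (α := F), hF] at h
  generalize Nat.card (Cfsg.POmega F (Cfsg.quadFormMinus (k + 3) F a b)) = X at h ⊢
  generalize ∏ i ∈ Finset.range (k + 3), (q ^ (2 * (i + 1)) - 1) = P at h ⊢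
  rw [Nat.gcd_rec, Nat.add_mod]
  have hpar : q ^ (k + 4) % 2 = q % 2 := by
    rw [Nat.pow_mod]; rcases Nat.mod_two_eq_zero_or_one q with e | e <;> simp [e]
  rw [show k + 3 + 1 = k + 4 from rfl] at h
  apply Nat.eq_of_mul_eq_mul_left two_pos
  simp only [← mul_assoc]
  rw [← h]
  rcases Nat.even_or_odd q with he | ho
  · rw [if_pos he]
    rw [Nat.even_iff] at he
    have : q ^ (k + 4) % 4 = 0 ∨ q ^ (k + 4) % 4 = 2 := by omega
    rcases this with e | e <;> rw [e] <;> norm_num <;> ring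
  · rw [if_neg (Nat.not_even_iff_odd.2 ho)]
    rw [Nat.odd_iff] at ho
    split_ifs with hs
    · rw [hs]; norm_num; ring
    · rw [show q ^ (k + 4) % 4 = 1 by omega]; norm_num; ring

end Cfsg.Agent.S0294
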