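import Cfsg.Statements.S1065
import Cfsg.Agent.Lib.Chev.PoincareE8
import Cfsg.Agent.Lib.Chev.RootOrbit

set_option autoImplicit false
open Cfsg

namespace Cfsg.Agent.S1065

/-- `|E₈(q)| = q¹²⁰ ∏_{d ∈ {2,8,12,14,18,20,24,30}} (q^d - 1)`. -/
theorem result {F : Type*} [Field F] [Fintype F] {q : ℕ} (hq : Fintype.card F = q) : Nat.card ↥(Cfsg.Lie.chevE8.group F) = q ^ 120 * (q ^ 2 - 1) * (q ^ 8 - 1) * (q ^ 12 - 1) * (q ^ 14 - 1) * (q ^ 18 - 1) * (q ^ 20 - 1) * (q ^ 24 - 1) * (q ^ 30 - 1) := by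
  have h := (Lib.Chev.Rooted.mk Lib.Chev.checked_E8 Lib.Chev.descent_E8).card_group_mul (F := F)
    Lib.Chev.E8.smith_ok Lib.Chev.E8.chain_ok Lib.Chev.E8.poly_ok
  have hd : (∏ i : Fin Cfsg.Lie.chevE8.rank, (q - 1).gcd (([1, 1, 1, 1, 1, 1, 1, 1] : List ℕ).getD i.val 0)) = 1 := by
    show (∏ i : Fin 8, _) = _
    simp [Fin.prod_univ_succ, Nat.gcd_comm, pow_two]
  rw [hq, hd, show Cfsg.Lie.chevE8.nroots / 2 = 120 from rfl] at h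
  simpa [Lib.Chev.E8.degs, mul_assoc] using h

end Cfsg.Agent.S1065
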