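import Mathlib
import Cfsg.Agent.Lib.LocalChar.PClosed
import Cfsg.Agent.Lib.LocalChar.Center
import Cfsg.Statements.S2824
-- import your own Cfsg.Agent.* helpers here

set_option autoImplicit false
open Cfsg
open scoped commutatorElement Pointwise

namespace Cfsg.Agent.S2824

/-- Let H be a finite group, p a prime, T a Sylow p-subgroup, L and M subgroups of characteristic p containing T, Y_L the largest p-reduced normal subgroup of L and T₀ = C_T(Y_L). If M·C_H(Y_L) = L·C_H(Y_L), then L* := N_M(T₀) has Y_{L*} = Y_L and L·C_H(Y_L) = L*·C_H(Y_L). -/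
theorem result {H : Type*} [Group H] [Finite H] {p : ℕ} [Fact p.Prime] (T : Sylow p H) (L M : Subgroup H) (hTL : (T : Subgroup H) ≤ L) (hTM : (T : Subgroup H) ≤ M) (hL : Subgroup.centralizer (Cfsg.pCore p ↥L : Set ↥L) ≤ Cfsg.pCore p ↥L) (hM : Subgroup.centralizer (Cfsg.pCore p ↥M : Set ↥M) ≤ Cfsg.pCore p ↥M) (T₀ : Subgroup H) (hT₀ : T₀ = (T : Subgroup H) ⊓ Subgroup.centralizer (((Cfsg.largestPReducedOf p L) : Subgroup H) : Set H)) (hfac : M ⊔ Subgroup.centralizer (((Cfsg.largestPReducedOf p L) : Subgroup H) : Set H) = L ⊔ Subgroup.centralizer (((Cfsg.largestPReducedOf p L) : Subgroup H) : Set H)) (Ls : Subgroup H) (hLs : Ls = M ⊓ Subgroup.normalizer ((T₀ : Subgroup H) : Set H)) : (Cfsg.largestPReducedOf p Ls) = (Cfsg.largestPReducedOf p L) ∧ L ⊔ Subgroup.centralizer (((Cfsg.largestPReducedOf p L) : Subgroup H) : Set H) = Ls ⊔ Subgroup.centralizer (((Cfsg.largestPReducedOf p L) : Subgroup H) : Set H) := by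
  set Y := largestPReducedOf p L with hY
  set C := Subgroup.centralizer (Y : Set H) with hC
  have hr := Lib.LocalChar.isRedIn_largest (p := p) L
  have hMY : M ≤ Subgroup.normalizer (Y : Set H) :=
    (le_sup_left.trans hfac.le).trans (sup_le hr.2.1 (Subgroup.centralizer_le_normalizer _))
  have hT0T : T₀ ≤ (T : Subgroup H) := hT₀.le.trans inf_le_left
  -- Frattini argument
  have hTD : (T : Subgroup H) ≤ Subgroup.normalizer ((M ⊓ C : Subgroup H) : Set H) :=
    hTM.trans (Lib.LocalChar.le_normalizer_inf_of_le Subgroup.le_normalizer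
      (Lib.LocalChar.le_normalizer_centralizer_of_le hMY))
  have hfr := Lib.LocalChar.le_normalizer_inf_sup T (X := M) hTD inf_le_left
    (Lib.LocalChar.le_normalizer_inf_of_le Subgroup.le_normalizer
      (Lib.LocalChar.le_normalizer_centralizer_of_le hMY))
  have hTMC : (T : Subgroup H) ⊓ (M ⊓ C) = T₀ := by rw [← inf_assoc, inf_eq_left.mpr hTM, hT₀]
  rw [hTMC, ← hLs] at hfr
  have hLsM : Ls ≤ M := hLs.le.trans inf_le_left
  have hsup : Ls ⊔ C = L ⊔ C := by
    rw [← hfac]
    exact le_antisymm (sup_le_sup hLsM le_rfl)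
      (sup_le (hfr.trans (sup_le_sup le_rfl inf_le_right)) le_sup_right)
  refine ⟨?_, hsup.symm⟩
  have hTLs : (T : Subgroup H) ≤ Ls := by
    rw [hLs, hT₀]
    exact le_inf hTM (Lib.LocalChar.le_normalizer_inf_of_le Subgroup.le_normalizer
      ((hTL.trans hr.2.1).trans (Lib.LocalChar.le_normalizer_centralizer_of_le le_rfl)))
  have hYT : Y ≤ (T : Subgroup H) := hr.le_pCoreOf.trans (Lib.LocalChar.pCoreOf_le_sylow T hTL)
  have hYW : Y ≤ largestPReducedOf p Ls :=
    (hr.transfer (hYT.trans hTLs) hsup).le_largest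
  refine le_antisymm ?_ hYW
  set W := largestPReducedOf p Ls with hWdef
  have hw := Lib.LocalChar.isRedIn_largest (p := p) Ls
  have hT0O : T₀ ≤ pCoreOf p Ls :=
    Lib.CharP.le_pCoreOf (hT0T.trans hTLs) (T.isPGroup'.to_le hT0T) (hLs.le.trans inf_le_right)
  have hWC : W ≤ C := by
    refine (Lib.ElemAbelian.le_centralizer hw.2.2.1).trans ?_
    exact Subgroup.centralizer_le hYW
  have hWT0 : W ≤ T₀ := by
    rw [hT₀]
    exact le_inf (hw.le_pCoreOf.trans (Lib.LocalChar.pCoreOf_le_sylow T hTLs)) hWC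
  have hOT0 : pCoreOf p L ≤ T₀ := by
    rw [hT₀]; exact le_inf (Lib.LocalChar.pCoreOf_le_sylow T hTL) hr.pCoreOf_le_centralizer
  have hWc : W ≤ Subgroup.centralizer ((pCoreOf p L : Subgroup H) : Set H) :=
    (Subgroup.le_centralizer_iff.mp hw.pCoreOf_le_centralizer).trans
      (Subgroup.centralizer_le (hOT0.trans hT0O))
  set Ω := omegaOne p (pCoreOf p L ⊓ Subgroup.centralizer ((pCoreOf p L : Subgroup H) : Set H))
  have hLΩ : L ≤ Subgroup.normalizer (Ω : Set H) :=
    (Lib.LocalChar.le_normalizer_inf_of_le (Lib.CharP.le_normalizer_pCoreOf L)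
      (Lib.LocalChar.le_normalizer_centralizer_of_le (Lib.CharP.le_normalizer_pCoreOf L))).trans
      (Lib.Omega.normalizer_le p _)
  have hWΩ : W ≤ Ω := by
    refine Lib.Omega.elemAbelian_le hw.2.2.1 (le_inf ?_ hWc)
    exact (le_inf ((hWT0.trans hT0T).trans hTL) hWc).trans (Lib.LocalChar.centralizer_inf_le_pCoreOf hL)
  set V : Subgroup H := ⨆ l : ↥L, W.map (MulAut.conj (l : H)).toMonoidHom with hVdef
  have hWV : W ≤ V := by
    refine le_trans ?_ (le_iSup (fun l : ↥L => W.map (MulAut.conj (l : H)).toMonoidHom) 1)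
    rw [OneMemClass.coe_one, Lib.LocalChar.conj_map_one]
  have hVle : ∀ K : Subgroup H, L ≤ Subgroup.normalizer (K : Set H) → W ≤ K → V ≤ K :=
    fun K hK hWK => iSup_le fun l =>
      (Subgroup.map_mono hWK).trans (Lib.LocalChar.conj_map_eq_of_mem (hK l.2)).le
  have hVΩ : V ≤ Ω := hVle Ω hLΩ hWΩ
  refine hWV.trans (Lib.LocalChar.IsRedIn.le_largest ⟨hVΩ.trans ((Lib.Omega.le_self p _).trans
    (inf_le_left.trans (Lib.CharP.pCoreOf_le L))), Lib.LocalChar.le_normalizer_iSup_conj L W,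
    Lib.ElemAbelian.mono (Lib.Omega.inter_centralizer_isElementaryAbelian _) hVΩ,
    fun D hD hn hc => ?_⟩)
  have hDY : D ≤ C :=
    hr.2.2.2 D hD hn fun x hx hxc => Subgroup.centralizer_le (hYW.trans hWV) (hc x hx hxc)
  have hDW : D ≤ Subgroup.centralizer (W : Set H) := by
    refine Lib.LocalChar.le_of_sylow_inf T (hTL.trans hn)
      (fun x hx hxc => Subgroup.centralizer_le hWV (hc x hx hxc)) ?_
    have h1 : (T : Subgroup H) ⊓ D ≤ T₀ := hT₀ ▸ inf_le_inf le_rfl hDY
    exact h1.trans (hT0O.trans hw.pCoreOf_le_centralizer)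
  exact Subgroup.le_centralizer_iff.mp (hVle _ (Lib.LocalChar.le_normalizer_centralizer_of_le hn)
    (Subgroup.le_centralizer_iff.mp hDW))

end Cfsg.Agent.S2824
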