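import Cfsg.Statements.S0542
import Mathlib
import Cfsg.Agent.Lib.Supersolvable.MinNormal

set_option linter.style.haveILetI false

set_option autoImplicit false
open Cfsg

namespace Cfsg.Agent.S0542

/-- A Sylow p-subgroup of a finite group meets every subnormal subgroup H in a Sylow p-subgroup of H. -/
theorem result {G : Type*} [Group G] [Finite G] (p : ℕ) [Fact p.Prime] (H : Subgroup G) (hH : H.IsSubnormal) (S : Sylow p G) : ∃ Q : Sylow p H, (Q : Subgroup H) = (S : Subgroup G).subgroupOf H := by
  induction hH with
  | top =>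
    refine ⟨S.comapOfKerIsPGroup (⊤ : Subgroup G).subtype ?_ ?_, ?_⟩
    · exact IsPGroup.ker_isPGroup_of_injective (Subgroup.subtype_injective _)
    · rw [Subgroup.range_subtype]; exact le_top
    · rfl
  | step H K hle hK hN ih =>
    obtain ⟨R, hR⟩ := ih
    -- R is S ∩ K inside K
    let T : Subgroup K := H.subgroupOf K
    have hT : T.Normal := hN
    haveI := hT
    have hRT : ((R : Subgroup K) ⊓ T).subgroupOf T = (R : Subgroup K).subgroupOf T :=
      Subgroup.inf_subgroupOf_right _ _
    -- the index of R ⊓ T in T is prime to p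
    have hidx : ¬ p ∣ ((R : Subgroup K).subgroupOf T).index := by
      show ¬ p ∣ (R : Subgroup K).relIndex T
      intro hd
      have h1 : (R : Subgroup K).relIndex T ∣ (R : Subgroup K).index := by
        exact Dvd.intro _ (Cfsg.Agent.Lib.Supersolvable.relIndex_mul_sup_index (R : Subgroup K) T)
      exact R.not_dvd_index (hd.trans h1)
    have hp' : IsPGroup p ((R : Subgroup K).subgroupOf T) :=
      R.isPGroup'.comap_of_injective T.subtype T.subtype_injective
    let Q₁ : Sylow p T := hp'.toSylow hidx
    let e : T ≃* H := Subgroup.subgroupOfEquivOfLe hle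
    refine ⟨Q₁.mapSurjective (f := e.toMonoidHom) e.surjective, ?_⟩
    show ((R : Subgroup K).subgroupOf T).map e.toMonoidHom = _
    rw [hR]
    ext x
    simp only [Subgroup.mem_map, Subgroup.mem_subgroupOf, MulEquiv.coe_toMonoidHom]
    constructor
    · rintro ⟨y, hy, rfl⟩; exact hy
    · intro hx
      exact ⟨e.symm x, hx, e.apply_symm_apply x⟩

end Cfsg.Agent.S0542
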