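import Cfsg.Statements.S3836
import Mathlib
import Cfsg.Agent.Lib.PSolvable.Core

set_option autoImplicit false
open Cfsg

namespace Cfsg.Agent.S3836


open Subgroup


/-- Let G be a finite group that is p-stable in the normalizer form: for every p-subgroup Q and every x ∈ N_G(Q) with [Q, x, x] = 1, the image of x in N_G(Q)/C_G(Q) lies in O_p(N_G(Q)/C_G(Q)). Then every subgroup of G is p-stable in the same sense. -/
theorem result {G : Type*} [Group G] [Finite G] {p : ℕ} [Fact p.Prime] (hst : Cfsg.IsNormalizerPStable p G) (H : Subgroup G) : Cfsg.IsNormalizerPStable p ↥H := by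
  intro P hP g hg h
  set P' := P.map H.subtype with hP'
  have hg' : (g : G) ∈ Subgroup.normalizer (P' : Set G) :=
    le_normalizer_map H.subtype ⟨g, hg, rfl⟩
  have h' : ⁅⁅P', Subgroup.zpowers (g : G)⁆, Subgroup.zpowers (g : G)⁆ = ⊥ := by
    rw [show Subgroup.zpowers (g : G) = (Subgroup.zpowers g).map H.subtype from
      (H.subtype.map_zpowers g).symm, hP', ← map_commutator, ← map_commutator, h, Subgroup.map_bot]
  have hmain := hst P' (hP.map _) (g : G) hg' h'
  set C' := (Subgroup.centralizer (P' : Set G)).subgroupOf (Subgroup.normalizer (P' : Set G))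
  set C := (Subgroup.centralizer (P : Set H)).subgroupOf (Subgroup.normalizer (P : Set H))
  let ι : ↥(Subgroup.normalizer (P : Set H)) →* ↥(Subgroup.normalizer (P' : Set G)) :=
    MonoidHom.mk' (fun n => ⟨((n : H) : G), le_normalizer_map H.subtype ⟨n, n.2, rfl⟩⟩)
      (fun _ _ => rfl)
  have hC : C = C'.comap ι := by
    ext n
    show ((n : H) ∈ Subgroup.centralizer (P : Set H)) ↔
      (((n : H) : G) ∈ Subgroup.centralizer (P' : Set G))
    rw [mem_centralizer_iff, mem_centralizer_iff]
    constructor
    · rintro hn _ ⟨x, hx, rfl⟩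
      exact congrArg Subtype.val (hn x hx)
    · intro hn x hx
      exact Subtype.ext (hn x ⟨x, hx, rfl⟩)
  let f := QuotientGroup.map C C' ι hC.le
  have hf : Function.Injective f := by
    rw [← MonoidHom.ker_eq_bot_iff, eq_bot_iff]
    intro q hq
    obtain ⟨n, rfl⟩ := QuotientGroup.mk'_surjective C q
    exact (QuotientGroup.eq_one_iff n).2 (hC ▸ (QuotientGroup.eq_one_iff (ι n)).1 hq)
  have hnorm : (Cfsg.pCore p (↥(Subgroup.normalizer (P' : Set G)) ⧸ C')).Normal :=
    sSup_normal _ (fun N hN => hN.1)
  haveI := hnorm.comap f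
  exact Cfsg.Agent.Lib.PSolvable.le_pCore
    (Cfsg.Agent.Lib.PSolvable.pCore_isPGroup.comap_of_injective f hf) hmain

end Cfsg.Agent.S3836
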