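import Mathlib
import Cfsg.Statements.S2100
import Cfsg.Agent.Lib.Schur.ChevTorusCert
-- import your own Cfsg.Agent.* helpers here

set_option autoImplicit false
open Cfsg

namespace Cfsg.Agent.S2100

/-- Schur multipliers of the Chevalley groups of type G₂: over a field with q ≥ 5 elements the Schur multiplier of G₂(q) is trivial (here the Schur multiplier is described through stem extensions, as in the definitions); the cases q = 3 and q = 4 are exceptional and q = 2 gives a non-simple group. -/
theorem result {F : Type*} [Field F] [Fintype F] (hF : 5 ≤ Fintype.card F) : Cfsg.HasCyclicSchurMultiplier ↥(Cfsg.Lie.chevG2.group F) 1 := by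
  haveI : Finite ↥(Cfsg.Lie.chevG2.group F) := inferInstance
  refine Cfsg.Agent.Lib.Schur.hasCyclicSchurMultiplier_one_of fun Y _ τ hτ hc => ?_
  obtain ⟨hfin, hle⟩ := Cfsg.Agent.Lib.Schur.ChevLift.torusOK_G2.card_ker_inf_commutator_le
    Cfsg.Agent.Lib.Schur.ChevLift.adjTwo_G2 (Cfsg.Agent.Lib.Schur.ChevLift.exists_unit_sq_cube_ne_one
      (by rw [Nat.card_eq_fintype_card]; omega)) τ hτ hc
  have h1 := hle.trans (Cfsg.Agent.Lib.Schur.ChevLift.card_cartanKer_le (F := F)
    Cfsg.Agent.Lib.Schur.ChevLift.solve_G2)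
  rw [Nat.gcd_one_right] at h1
  exact Subgroup.eq_bot_of_card_le _ h1

end Cfsg.Agent.S2100
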