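import Cfsg.Statements.S1015
import Mathlib
import Cfsg.Agent.Lib.SmallGroups.Basic
import Cfsg.Agent.Lib.SmallGroups.Intersection

set_option autoImplicit false
set_option linter.style.haveILetI false
open Cfsg
open Cfsg.Agent.Lib.SmallGroups Subgroup

namespace Cfsg.Agent.S1015

/-- No finite simple group has order 1200 = 2^4 * 3 * 5^2. -/
theorem result {G : Type*} [Group G] [Finite G] [IsSimpleGroup G] : Nat.card G ≠ 1200 := by
  intro h
  have hG := not_isMulCommutative_of_not_prime (G := G) (by rw [h]; norm_num)
  haveI : Fact (Nat.Prime 5) := ⟨by norm_num⟩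
  have hc : Nat.card G = 5 ^ 2 * 48 := by rw [h]; norm_num
  have hn := card_sylow_mem hG (p := 5) hc (by norm_num) two_ne_zero
  rw [show (Nat.divisors 48).filter (fun d => d % 5 = 1 ∧ d ≠ 1) = {6, 16} by decide +kernel] at hn
  simp only [Finset.mem_insert, Finset.mem_singleton] at hn
  rcases hn with hn | hn
  · have := two_mul_card_dvd_factorial_card_sylow hG (p := 5) (by rw [h]; norm_num)
    rw [hn, h] at this
    norm_num [Nat.factorial] at this
  · obtain ⟨P, R, hne, hD, hPN, hRN⟩ := exists_inter_index_prime (G := G) 5
      (by rw [hn]; decide)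
    have hP := card_sylow_eq P hc (by norm_num)
    set D := (P : Subgroup G) ⊓ (R : Subgroup G)
    set N := normalizer (D : Set G)
    have hD5 : Nat.card D = 5 := by omega
    have hN : N ≠ ⊤ := by
      refine normalizer_ne_top ?_ ?_
      · intro hb
        rw [hb, card_bot] at hD5
        norm_num at hD5
      · intro ht
        rw [ht, card_top, h] at hD5
        norm_num at hD5
    have h6 : 6 ≤ Nat.card (Sylow 5 N) := by
      have h1 : Nat.card (Sylow 5 N) ≠ 1 := fun h1 => by
        haveI : Subsingleton (Sylow 5 N) := (Nat.card_eq_one_iff_unique.mp h1).1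
        exact hne (Sylow.subtype_injective (Subsingleton.elim (P.subtype hPN) (R.subtype hRN)))
      have h2 := card_sylow_modEq_one 5 N
      have h3 : 0 < Nat.card (Sylow 5 N) := Nat.card_pos
      rw [Nat.ModEq] at h2
      omega
    have hNge : 25 * 6 ≤ Nat.card N := by
      rw [← card_normalizer_sylow_mul (P.subtype hPN)]
      refine Nat.mul_le_mul ?_ h6
      have h1 := card_le_of_le (le_normalizer (H := ((P.subtype hPN : Sylow 5 N) : Subgroup N)))
      refine le_trans ?_ h1
      rw [show Nat.card ↥(P.subtype hPN : Subgroup N) = 25 from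
        (Nat.card_congr (subgroupOfEquivOfLe hPN).toEquiv).trans (hP.trans (by norm_num))]
    have hidx := N.card_mul_index
    rw [h] at hidx
    have hle : N.index ≤ 8 := by
      by_contra hlt
      push Not at hlt
      nlinarith
    have h8 := (two_mul_card_dvd_factorial hG hN).trans (Nat.factorial_dvd_factorial hle)
    rw [h] at h8
    norm_num [Nat.factorial] at h8

end Cfsg.Agent.S1015
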