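import Cfsg.Agent.Lib.Dickson.Invariant
import Cfsg.Agent.Lib.Forms.Bridge
import Cfsg.Statements.S5705

set_option autoImplicit false
open Cfsg

namespace Cfsg.Agent.S5705

open Matrix
open scoped Kronecker

/-- The element of `GL` of a linear automorphism read through a linear equivalence. -/
noncomputable def through {ι : Type} [Fintype ι] [DecidableEq ι] {F : Type*} [Field F] {V : Type*}
    [AddCommGroup V] [Module F V] (Φ : V ≃ₗ[F] (ι → F)) (A : V ≃ₗ[F] V) :
    Matrix.GeneralLinearGroup ι F :=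
  (Cfsg.Agent.Lib.Forms.glEquiv ι F).symm ((Φ.symm.trans A).trans Φ)

theorem through_apply {ι : Type} [Fintype ι] [DecidableEq ι] {F : Type*} [Field F] {V : Type*}
    [AddCommGroup V] [Module F V] (Φ : V ≃ₗ[F] (ι → F)) (A : V ≃ₗ[F] V) (p : V) :
    (through Φ A : Matrix ι ι F) *ᵥ Φ p = Φ (A p) := by
  rw [through, Cfsg.Agent.Lib.Forms.glEquiv_symm_mulVec]
  simp

open Cfsg.Agent.Lib in
theorem aux {F : Type*} [Field F] [Fintype F] {n n₂ : ℕ} (Q : QuadraticForm F (Fin n → F))
    (hnd : (QuadraticMap.polarBilin Q).Nondegenerate) (hq : Fintype.card F = 2) (hn : n ≠ 4)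
    (h2 : 2 < n₂) (e : Fin n ≃ Fin 2 × Fin n₂) (P : Matrix.GeneralLinearGroup (Fin n) F)
    (B : (Fin n₂ → F) →ₗ[F] (Fin n₂ → F) →ₗ[F] F) (halt : ∀ u, B u u = 0)
    (hBnd : ∀ u, u ≠ 0 → ∃ v, B u v ≠ 0)
    (Φ : ((Fin n₂ → F) × (Fin n₂ → F)) ≃ₗ[F] (Fin n → F))
    (hΦ : ∀ p, Φ p = (P : Matrix (Fin n) (Fin n) F) *ᵥ ((fun a : Fin 2 × Fin n₂ => ![p.1, p.2] a.1 a.2) ∘ e))
    (hQΦ : ∀ x y, Q (Φ (x, y)) = B x y) :
    ∃ K : Subgroup (Matrix.GeneralLinearGroup (Fin n) F),
      Cfsg.Geo.tensorProductSubgroup 2 n₂ e P ⊓ Cfsg.Geo.omegaGL (⇑Q) < K ∧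
        K < Cfsg.Geo.omegaGL (⇑Q) := by
  classical
  have h01 : ∀ c : F, c = 0 ∨ c = 1 := by
    intro c
    by_contra h
    push Not at h
    have hc := Finset.card_le_card (Finset.subset_univ ({0, 1, c} : Finset F))
    rw [Finset.card_univ, hq, Finset.card_insert_of_notMem (by simp [Ne.symm h.1]),
      Finset.card_insert_of_notMem (by simp [Ne.symm h.2]), Finset.card_singleton] at hc
    omega
  have htwo : (2 : F) = 0 := by
    have := FiniteField.cast_card_eq_zero F
    rwa [hq, Nat.cast_ofNat] at this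
  haveI : CharP F 2 := Dickson.charP_two_of_two_eq_zero htwo
  have hdd : ∀ u : Fin n₂ → F, u + u = 0 := fun u => by
    rw [← two_smul F u, htwo, zero_smul]
  have hdd2 : ∀ u u' : Fin n₂ → F, u + (u + u') = u' := fun u u' => by
    rw [← add_assoc, hdd, zero_add]
  have hsymm : ∀ x y, B y x = B x y := by
    intro x y
    have h := halt (x + y)
    simp only [map_add, LinearMap.add_apply, halt, zero_add, add_zero] at h
    linear_combination h - (B x y) * htwo
  -- membership in the tensor group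
  have htens : ∀ g ∈ Cfsg.Geo.tensorProductSubgroup 2 n₂ e P,
      ∃ (a : Matrix.GeneralLinearGroup (Fin 2) F) (b : Matrix.GeneralLinearGroup (Fin n₂) F),
      ∀ x y, (g : Matrix (Fin n) (Fin n) F) *ᵥ Φ (x, y)
        = Φ (a 0 0 • ((b : Matrix (Fin n₂) (Fin n₂) F) *ᵥ x) + a 0 1 • ((b : Matrix (Fin n₂) (Fin n₂) F) *ᵥ y),
             a 1 0 • ((b : Matrix (Fin n₂) (Fin n₂) F) *ᵥ x) + a 1 1 • ((b : Matrix (Fin n₂) (Fin n₂) F) *ᵥ y)) := by
    rintro _ ⟨_, ⟨k, ⟨a, b, hk⟩, rfl⟩, rfl⟩
    refine ⟨a, b, fun x y => ?_⟩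
    rw [hΦ, hΦ]
    simp only [MulEquiv.coe_toMonoidHom, MulAut.conj_apply, Units.val_mul]
    rw [← Matrix.mulVec_mulVec, ← Matrix.mulVec_mulVec,
      Matrix.mulVec_mulVec _ ((P⁻¹ : Matrix.GeneralLinearGroup (Fin n) F) : Matrix (Fin n) (Fin n) F),
      ← Units.val_mul, inv_mul_cancel, Units.val_one, Matrix.one_mulVec]
    congr 1
    funext i
    have hent : ∀ i j, ((Cfsg.Geo.glReindex e.symm k : Matrix.GeneralLinearGroup (Fin n) F) :
        Matrix (Fin n) (Fin n) F) i j = a (e i).1 (e j).1 * b (e i).2 (e j).2 := fun i j => by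
      show (k : Matrix (Fin 2 × Fin n₂) (Fin 2 × Fin n₂) F) (e i) (e j) = _
      rw [hk]; rfl
    change ((Cfsg.Geo.glReindex e.symm k : Matrix.GeneralLinearGroup (Fin n) F) :
      Matrix (Fin n) (Fin n) F) i ⬝ᵥ _ = _
    simp only [dotProduct, hent, Function.comp_apply]
    rw [e.sum_comp (fun q => a (e i).1 q.1 * b (e i).2 q.2 * ![x, y] q.1 q.2), Fintype.sum_prod_type,
      Fin.sum_univ_two]
    generalize e i = q
    obtain ⟨q1, q2⟩ := q
    fin_cases q1 <;>
      simp [Matrix.mulVec, dotProduct, Finset.mul_sum, mul_assoc]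
  -- a hyperbolic plane
  obtain ⟨u, hu⟩ : ∃ u : Fin n₂ → F, u ≠ 0 :=
    ⟨Pi.single ⟨0, by omega⟩ 1, by simp [Pi.single_eq_zero_iff]⟩
  obtain ⟨v, hv⟩ := hBnd u hu
  have huv : B u v = 1 := (h01 _).resolve_left hv
  let π : (Fin n₂ → F) →ₗ[F] (Fin n₂ → F) := (B v).smulRight u + (B u).smulRight v
  have hπa : ∀ x, π x = B v x • u + B u x • v := fun _ => rfl
  have hπu : π u = u := by rw [hπa, halt, hsymm, huv]; simp
  have hπv : π v = v := by rw [hπa, halt, huv]; simp
  have hππ : ∀ x, π (π x) = π x := fun x => by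
    conv_lhs => rw [hπa x, map_add, map_smul, map_smul, hπu, hπv]
    rw [hπa]
  have hadj : ∀ x y, B (π x) y = B x (π y) := fun x y => by
    rw [hπa, hπa]
    simp only [map_add, map_smul, LinearMap.add_apply, LinearMap.smul_apply, smul_eq_mul, hsymm x u,
      hsymm x v]
    ring
  have hπx : ∀ x, B x (π x) = 0 := fun x => by
    rw [hπa, map_add, map_smul, map_smul, smul_eq_mul, smul_eq_mul, hsymm x u, hsymm x v]
    linear_combination (B x u * B x v) * htwo
  have huvli : LinearIndependent F ![u, v] := by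
    rw [LinearIndependent.pair_iff]
    intro s t h
    have h1 := congrArg (B u) h
    have h2 := congrArg (B v) h
    simp [halt, huv, hsymm u v] at h1 h2
    exact ⟨h2, h1⟩
  have hrange : LinearMap.range π = Submodule.span F (Set.range ![u, v]) := by
    refine le_antisymm ?_ ?_
    · rintro _ ⟨x, rfl⟩
      rw [hπa]
      exact Submodule.add_mem _ (Submodule.smul_mem _ _ (Submodule.subset_span ⟨0, rfl⟩))
        (Submodule.smul_mem _ _ (Submodule.subset_span ⟨1, rfl⟩))
    · rw [Submodule.span_le]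
      rintro _ ⟨i, rfl⟩
      fin_cases i
      · exact ⟨u, hπu⟩
      · exact ⟨v, hπv⟩
  have hrank : Module.finrank F (LinearMap.range π) = 2 := by
    rw [hrange, finrank_span_eq_card huvli, Fintype.card_fin]
  obtain ⟨w, hw0, hw⟩ : ∃ w, w ≠ 0 ∧ π w = 0 := by
    have h := π.finrank_range_add_finrank_ker
    rw [hrank, Module.finrank_fin_fun] at h
    have hker : LinearMap.ker π ≠ ⊥ := fun hb => by rw [hb, finrank_bot] at h; omega
    obtain ⟨w, hw, hw0⟩ := Submodule.exists_mem_ne_zero_of_ne_bot hker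
    exact ⟨w, hw0, LinearMap.mem_ker.1 hw⟩
  -- four automorphisms
  let Zl : ((Fin n₂ → F) × (Fin n₂ → F)) ≃ₗ[F] ((Fin n₂ → F) × (Fin n₂ → F)) :=
    { toFun := fun p => (p.2, p.1 + p.2)
      map_add' := fun p q => by simp; abel
      map_smul' := fun c p => by simp
      invFun := fun p => (p.1 + p.2, p.1)
      left_inv := fun p => by
        simp only; rw [add_left_comm, hdd, add_zero]
      right_inv := fun p => by
        simp only; rw [add_right_comm, hdd, zero_add] }
  let Tl : ((Fin n₂ → F) × (Fin n₂ → F)) ≃ₗ[F] ((Fin n₂ → F) × (Fin n₂ → F)) :=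
    { toFun := fun p => (p.1 + π p.1 + π p.2, p.2 + π p.1)
      map_add' := fun p q => by simp [map_add]; constructor <;> abel
      map_smul' := fun c p => by simp [map_smul, smul_add]
      invFun := fun p => (p.1 + π p.2, p.2 + π p.1 + π p.2)
      left_inv := fun p => by
        refine Prod.ext ?_ ?_ <;> simp only [map_add, hππ]
        · linear_combination (norm := module) hdd (π p.1) + hdd (π p.2)
        · linear_combination (norm := module) hdd (π p.1) + hdd (π p.1) + hdd (π p.2)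
      right_inv := fun p => by
        refine Prod.ext ?_ ?_ <;> simp only [map_add, hππ]
        · linear_combination (norm := module) hdd (π p.1) + hdd (π p.2) + hdd (π p.2)
        · linear_combination (norm := module) hdd (π p.1) + hdd (π p.2) }
  let Sl : ((Fin n₂ → F) × (Fin n₂ → F)) ≃ₗ[F] ((Fin n₂ → F) × (Fin n₂ → F)) :=
    { toFun := fun p => (p.1 + π (p.1 + p.2), p.2 + π (p.1 + p.2))
      map_add' := fun p q => by simp [map_add]; constructor <;> abel
      map_smul' := fun c p => by simp [map_smul, smul_add]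
      invFun := fun p => (p.1 + π (p.1 + p.2), p.2 + π (p.1 + p.2))
      left_inv := fun p => by
        refine Prod.ext ?_ ?_ <;> simp only [map_add, hππ] <;>
          linear_combination (norm := module) (2 : ℕ) • hdd (π p.1) + (2 : ℕ) • hdd (π p.2)
      right_inv := fun p => by
        refine Prod.ext ?_ ?_ <;> simp only [map_add, hππ] <;>
          linear_combination (norm := module) (2 : ℕ) • hdd (π p.1) + (2 : ℕ) • hdd (π p.2) }
  have hQiso : ∀ A : ((Fin n₂ → F) × (Fin n₂ → F)) ≃ₗ[F] ((Fin n₂ → F) × (Fin n₂ → F)),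
      (∀ x y, B (A (x, y)).1 (A (x, y)).2 = B x y) →
      through Φ A ∈ isometryGroup F ⇑Q := fun A hA => Forms.mem_isometryGroup_iff.2 fun z => by
    obtain ⟨⟨x, y⟩, rfl⟩ := Φ.surjective z
    rw [through_apply, show A (x, y) = ((A (x, y)).1, (A (x, y)).2) from rfl, hQΦ, hQΦ, hA]
  have hTiso : through Φ Tl ∈ isometryGroup F ⇑Q := hQiso Tl fun x y => by
    show B (x + π x + π y) (y + π x) = B x y
    simp only [map_add, LinearMap.add_apply]
    rw [hπx x, hadj x y, hadj x (π x), hππ, hπx, hadj y y, hπx, hadj y (π x), hππ, hsymm (π x) y,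
      hadj x y]
    linear_combination (B x (π y)) * htwo
  have hSiso : through Φ Sl ∈ isometryGroup F ⇑Q := hQiso Sl fun x y => by
    show B (x + π (x + y)) (y + π (x + y)) = B x y
    have h := hπx (x + y)
    generalize π (x + y) = d at h ⊢
    simp only [map_add, LinearMap.add_apply, halt] at h ⊢
    linear_combination h + hsymm y d
  -- membership in Omega
  have hex : (∃ c : F, c ≠ 0 ∧ c ≠ 1) ∨ Fintype.card (Fin n) ≠ 4 :=
    Or.inr (by rw [Fintype.card_fin]; exact hn)
  have hom := fun g => Dickson.mem_omega_iff_charTwo hnd hex (Dickson.dickson hnd)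
    (fun _ hv => Dickson.dickson_refl hnd hv) g
  have hT2 : through Φ Tl * through Φ Tl ∈ Cfsg.Geo.omegaGL ⇑Q :=
    ⟨⟨_, hTiso⟩ * ⟨_, hTiso⟩, (hom _).2 (by rw [map_mul]; exact Int.units_mul_self _), rfl⟩
  have hS : through Φ Sl ∈ Cfsg.Geo.omegaGL ⇑Q := by
    refine ⟨⟨_, hSiso⟩, (hom _).2 ?_, rfl⟩
    show (-1 : ℤˣ) ^ (Matrix.rank _) = 1
    have hr : (((through Φ Sl : Matrix.GeneralLinearGroup (Fin n) F) : Matrix (Fin n) (Fin n) F)
        - 1).mulVecLin
        = ((Φ.toLinearMap ∘ₗ (LinearMap.id.prod LinearMap.id)) ∘ₗ π) ∘ₗ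
          ((LinearMap.fst F (Fin n₂ → F) (Fin n₂ → F) + LinearMap.snd F _ _) ∘ₗ Φ.symm.toLinearMap) := by
      refine LinearMap.ext fun z => ?_
      obtain ⟨⟨x, y⟩, rfl⟩ := Φ.surjective z
      rw [Matrix.mulVecLin_apply, Matrix.sub_mulVec, Matrix.one_mulVec, through_apply, ← map_sub]
      simp [Sl]
    have hinj : Function.Injective
        (Φ.toLinearMap ∘ₗ ((LinearMap.id : (Fin n₂ → F) →ₗ[F] (Fin n₂ → F)).prod LinearMap.id)) :=
      Φ.injective.comp fun a b h => congrArg Prod.fst h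
    have hsur : LinearMap.range
        ((LinearMap.fst F (Fin n₂ → F) (Fin n₂ → F) + LinearMap.snd F _ _) ∘ₗ Φ.symm.toLinearMap) = ⊤ :=
      LinearMap.range_eq_top.2 fun x => ⟨Φ (x, 0), by simp⟩
    rw [Matrix.rank, hr, LinearMap.range_comp_of_range_eq_top _ hsur, LinearMap.range_comp,
      ← (Submodule.equivMapOfInjective _ hinj (LinearMap.range π)).finrank_eq, hrank]
    rfl
  set Z := through Φ Zl
  let K : Subgroup (Matrix.GeneralLinearGroup (Fin n) F) :=
    Subgroup.normalizer ({Z, Z⁻¹} : Set (Matrix.GeneralLinearGroup (Fin n) F)) ⊓ Cfsg.Geo.omegaGL ⇑Q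
  have hnorm : ∀ g : Matrix.GeneralLinearGroup (Fin n) F, g * Z = Z * g ∨ g * Z = Z⁻¹ * g →
      g ∈ Subgroup.normalizer ({Z, Z⁻¹} : Set (Matrix.GeneralLinearGroup (Fin n) F)) := by
    intro g h
    rw [Subgroup.mem_set_normalizer_iff]
    intro m
    simp only [Set.mem_insert_iff, Set.mem_singleton_iff]
    rcases h with h | h
    · have h' : g * Z⁻¹ = Z⁻¹ * g := (Commute.inv_right (show Commute g Z from h)).eq
      rw [mul_inv_eq_iff_eq_mul, mul_inv_eq_iff_eq_mul, ← h, ← h', mul_right_inj, mul_right_inj]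
    · have h' : g * Z⁻¹ = Z * g := by
        rw [mul_inv_eq_iff_eq_mul, mul_assoc, h, mul_inv_cancel_left]
      rw [mul_inv_eq_iff_eq_mul, mul_inv_eq_iff_eq_mul, ← h, ← h', mul_right_inj, mul_right_inj,
        or_comm]
  have hext : ∀ g h : Matrix.GeneralLinearGroup (Fin n) F,
      (∀ x y, (g : Matrix (Fin n) (Fin n) F) *ᵥ Φ (x, y) = (h : Matrix (Fin n) (Fin n) F) *ᵥ Φ (x, y)) → g = h := by
    intro g h hgh
    apply Units.ext
    refine Matrix.toLin'.injective (LinearMap.ext fun z => ?_)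
    obtain ⟨⟨x, y⟩, rfl⟩ := Φ.surjective z
    rw [Matrix.toLin'_apply, Matrix.toLin'_apply]
    exact hgh x y
  have hZ : ∀ x y, (Z : Matrix (Fin n) (Fin n) F) *ᵥ Φ (x, y) = Φ (y, x + y) := fun x y => through_apply Φ Zl (x, y)
  have hZi : ∀ x y, ((Z⁻¹ : Matrix.GeneralLinearGroup (Fin n) F) : Matrix (Fin n) (Fin n) F) *ᵥ Φ (x, y)
      = Φ (x + y, x) := by
    intro x y
    have h : Φ (x, y) = (Z : Matrix (Fin n) (Fin n) F) *ᵥ Φ (x + y, x) := by
      rw [hZ]; congr 2; rw [add_right_comm, hdd, zero_add]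
    conv_lhs => rw [h]
    rw [Matrix.mulVec_mulVec, ← Units.val_mul, inv_mul_cancel, Units.val_one, Matrix.one_mulVec]
  refine ⟨K, lt_of_le_of_ne (le_inf ?_ inf_le_right) ?_, lt_of_le_of_ne inf_le_right ?_⟩
  · rintro g ⟨hg, -⟩
    obtain ⟨a, b, hab⟩ := htens g hg
    apply hnorm
    have hdet : (a : Matrix (Fin 2) (Fin 2) F).det ≠ 0 := Matrix.GeneralLinearGroup.det_ne_zero a
    rw [Matrix.det_fin_two] at hdet
    rcases h01 (a 0 0) with h00 | h00 <;> rcases h01 (a 0 1) with h0 | h0 <;>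
      rcases h01 (a 1 0) with h10 | h10 <;> rcases h01 (a 1 1) with h11 | h11 <;>
      first
      | (exfalso; rw [h00, h0, h10, h11] at hdet; simp at hdet; done)
      | (left; apply hext; intro x y
         rw [Units.val_mul, Units.val_mul, ← Matrix.mulVec_mulVec, ← Matrix.mulVec_mulVec, hZ, hab,
           hab, hZ, h00, h0, h10, h11]
         simp [Matrix.mulVec_add, hdd, hdd2, add_comm, add_left_comm, add_assoc]
         done)
      | (right; apply hext; intro x y
         rw [Units.val_mul, Units.val_mul, ← Matrix.mulVec_mulVec, ← Matrix.mulVec_mulVec, hZ, hab,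
           hab, hZi, h00, h0, h10, h11]
         simp [Matrix.mulVec_add, hdd, hdd2, add_comm, add_left_comm, add_assoc]
         done)
  · intro h
    have hmem : through Φ Tl * through Φ Tl ∈ K := by
      refine ⟨hnorm _ (Or.inl (hext _ _ fun x y => ?_)), hT2⟩
      rw [Units.val_mul _ Z, Units.val_mul Z, ← Matrix.mulVec_mulVec, ← Matrix.mulVec_mulVec, hZ,
        Units.val_mul, ← Matrix.mulVec_mulVec, ← Matrix.mulVec_mulVec, through_apply, through_apply,
        through_apply, through_apply,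
        show ∀ p, Tl p = (p.1 + π p.1 + π p.2, p.2 + π p.1) from fun _ => rfl]
      simp only [show ∀ p, Tl p = (p.1 + π p.1 + π p.2, p.2 + π p.1) from fun _ => rfl, map_add, hππ,
        hZ]
      congr 1
      refine Prod.ext ?_ ?_ <;> simp [hdd, hdd2, add_comm, add_left_comm, add_assoc]
    rw [← h] at hmem
    obtain ⟨a, b, hab⟩ := htens _ hmem.1
    have h1 := hab w 0
    have h2 := hab u 0
    rw [Units.val_mul, ← Matrix.mulVec_mulVec, through_apply, through_apply] at h1 h2
    have e1 := Φ.injective h1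
    have e2 := Φ.injective h2
    simp [Tl, hw, hπu, hdd, Prod.ext_iff] at e1 e2
    rcases h01 (a 1 0) with h10 | h10
    · rw [h10] at e2; simp [hu, Ne.symm hu] at e2
    · rw [h10] at e1
      obtain ⟨e1a, e1b⟩ := e1
      simp at e1b
      rw [← e1b, smul_zero] at e1a
      exact hw0 e1a
  · intro h
    rw [← h] at hS
    have hS' := (Subgroup.mem_set_normalizer_iff.1 hS.1 Z).1 (Set.mem_insert _ _)
    rcases hS' with h1 | h1
    · have h2 := congrArg (fun g : Matrix.GeneralLinearGroup (Fin n) F => (g : Matrix (Fin n) (Fin n) F) *ᵥ Φ (u, 0))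
        (mul_inv_eq_iff_eq_mul.1 h1)
      simp only [Units.val_mul, ← Matrix.mulVec_mulVec, hZ, through_apply] at h2
      rw [show Sl (u, 0) = (u + π (u + 0), 0 + π (u + 0)) from rfl,
        show Sl (0, u + 0) = (0 + π (0 + (u + 0)), (u + 0) + π (0 + (u + 0))) from rfl] at h2
      have h3 := Φ.injective h2
      simp [hπu, hdd, Prod.ext_iff, hu, Ne.symm hu] at h3
    · have h2 := congrArg (fun g : Matrix.GeneralLinearGroup (Fin n) F => (g : Matrix (Fin n) (Fin n) F) *ᵥ Φ (w, 0))
        (mul_inv_eq_iff_eq_mul.1 (Set.mem_singleton_iff.1 h1))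
      simp only [Units.val_mul, ← Matrix.mulVec_mulVec, hZ, through_apply] at h2
      rw [show Sl (w, 0) = (w + π (w + 0), 0 + π (w + 0)) from rfl,
        show Sl (0, w + 0) = (0 + π (0 + (w + 0)), (w + 0) + π (0 + (w + 0))) from rfl, hZi] at h2
      have h3 := Φ.injective h2
      simp [hw, hdd, Prod.ext_iff, hw0, Ne.symm hw0] at h3

/-- Let F be the field with 2 elements, n = 2 n₂ ≥ 13 even, Q a non-degenerate quadratic form on F^n of plus type and Ω the commutator subgroup of its isometry group. Suppose that, through P and e, the polar form of Q is similar to the tensor product of non-degenerate symplectic forms f₁ on F^2 and f₂ on F^(n₂), and Q vanishes on the images of all pure tensors. Then the elements of Ω in the stabiliser of this tensor decomposition form a subgroup that is not maximal: some subgroup lies strictly between it and Ω. -/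
theorem result {F : Type*} [Field F] [Fintype F] {n : ℕ} (hn : 13 ≤ n) (heven : Even n) (Q : (Fin n → F) → F) (hQ : Cfsg.Geo.IsNondegenerateQuadraticForm Q) (hplus : Cfsg.Geo.IsPlusTypeOn Q ⊤) (hq : Fintype.card F = 2) (n₂ : ℕ) (h2 : 2 < n₂) (e : (Fin n) ≃ Fin 2 × Fin n₂) (P : Matrix.GeneralLinearGroup (Fin n) F) (f₁ : (Fin 2 → F) → (Fin 2 → F) → F) (f₂ : (Fin n₂ → F) → (Fin n₂ → F) → F) (hf₁ : Cfsg.Geo.IsSymplecticForm f₁) (hf₂ : Cfsg.Geo.IsSymplecticForm f₂) (hT : Cfsg.Geo.IsTensorFormStructure id (QuadraticMap.polar Q) f₁ f₂ e P) (hpure : (∀ (x₁ : Fin 2 → F) (x₂ : Fin n₂ → F), Q (Matrix.mulVec (P : Matrix (Fin n) (Fin n) F) ((fun a : Fin 2 × Fin n₂ => x₁ a.1 * x₂ a.2) ∘ e)) = 0)) : ∃ K : Subgroup (Matrix.GeneralLinearGroup (Fin n) F), Cfsg.Geo.tensorProductSubgroup 2 n₂ e P ⊓ Cfsg.Geo.omegaGL Q < K ∧ K < Cfsg.Geo.omegaGL Q := by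
  have hn' : n = 2 * n₂ := by simpa using Fintype.card_congr e
  let Q₀ : QuadraticForm F (Fin n → F) := QuadraticMap.ofPolar Q
    (fun c v => by rw [hQ.smul c v, smul_eq_mul, pow_two])
    (fun x x' y => hQ.polar_bilinear.add_left x x' y)
    (fun c x y => by rw [hQ.polar_bilinear.smul_left c x y, smul_eq_mul])
  have hnd : (QuadraticMap.polarBilin Q₀).Nondegenerate := by
    refine ⟨fun v hv => ?_, fun v hv => ?_⟩
    · by_contra h
      obtain ⟨x, hx⟩ := (hQ.nondegenerate v h).2
      exact hx (hv x)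
    · by_contra h
      obtain ⟨x, hx⟩ := (hQ.nondegenerate v h).1
      exact hx (hv x)
  let B : (Fin n₂ → F) →ₗ[F] (Fin n₂ → F) →ₗ[F] F := LinearMap.mk₂ F f₂ hf₂.bilinear.add_left
    (fun c x y => by rw [hf₂.bilinear.smul_left, smul_eq_mul]) hf₂.bilinear.add_right
    (fun c x y => by rw [hf₂.bilinear.smul_right, smul_eq_mul])
  let Φ : ((Fin n₂ → F) × (Fin n₂ → F)) ≃ₗ[F] (Fin n → F) :=
    { toFun := fun p => (P : Matrix (Fin n) (Fin n) F) *ᵥ
        ((fun a : Fin 2 × Fin n₂ => ![p.1, p.2] a.1 a.2) ∘ e)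
      map_add' := fun p q => by
        rw [← Matrix.mulVec_add]; congr 1; funext i
        simp only [Function.comp_apply, Pi.add_apply, Prod.fst_add, Prod.snd_add]
        generalize e i = r; obtain ⟨r1, r2⟩ := r; fin_cases r1 <;> simp
      map_smul' := fun c p => by
        rw [RingHom.id_apply, ← Matrix.mulVec_smul]; congr 1; funext i
        simp only [Function.comp_apply, Pi.smul_apply, Prod.smul_fst, Prod.smul_snd]
        generalize e i = r; obtain ⟨r1, r2⟩ := r; fin_cases r1 <;> simp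
      invFun := fun z =>
        (fun j => (((P⁻¹ : Matrix.GeneralLinearGroup (Fin n) F) : Matrix (Fin n) (Fin n) F) *ᵥ z) (e.symm (0, j)),
         fun j => (((P⁻¹ : Matrix.GeneralLinearGroup (Fin n) F) : Matrix (Fin n) (Fin n) F) *ᵥ z) (e.symm (1, j)))
      left_inv := fun p => by
        simp only [Matrix.mulVec_mulVec, ← Units.val_mul, inv_mul_cancel, Units.val_one,
          Matrix.one_mulVec]
        ext j <;> simp
      right_inv := fun z => by
        have h : ∀ z' : Fin n → F, ((fun a : Fin 2 × Fin n₂ =>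
            ![fun j => z' (e.symm (0, j)), fun j => z' (e.symm (1, j))] a.1 a.2) ∘ e) = z' := by
          intro z'; funext i
          simp only [Function.comp_apply]
          conv_rhs => rw [← e.symm_apply_apply i]
          generalize e i = r; obtain ⟨r1, r2⟩ := r; fin_cases r1 <;> rfl
        simp only [h, Matrix.mulVec_mulVec, ← Units.val_mul, mul_inv_cancel, Units.val_one,
          Matrix.one_mulVec] }
  have hq2 : ∀ c : F, c ≠ 0 → c = 1 := by
    intro c hc
    have := FiniteField.pow_card_sub_one_eq_one c hc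
    rwa [hq, pow_one] at this
  have hexp : ∀ x y : Fin n₂ → F, f₂ x y
      = ∑ i, ∑ j, x i * f₂ (Pi.single i 1) (Pi.single j 1) * y j := by
    intro x y
    change B x y = ∑ i, ∑ j, x i * B (Pi.single i 1) (Pi.single j 1) * y j
    conv_lhs => rw [pi_eq_sum_univ' x, pi_eq_sum_univ' y]
    simp only [map_sum, LinearMap.sum_apply, map_smul, LinearMap.smul_apply, smul_eq_mul,
      Finset.mul_sum]
    rw [Finset.sum_comm]
    exact Finset.sum_congr rfl fun i _ => Finset.sum_congr rfl fun j _ => by ring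
  have hg01 : f₁ (Pi.single 0 1) (Pi.single 1 1) ≠ 0 := by
    intro h0
    obtain ⟨x, hx⟩ := (hf₁.nondegenerate (Pi.single 0 1) (by simp [Pi.single_eq_zero_iff])).2
    apply hx
    have hxe : x = x 0 • (Pi.single 0 1 : Fin 2 → F) + x 1 • (Pi.single 1 1 : Fin 2 → F) := by
      funext i; fin_cases i <;> simp
    rw [hxe, hf₁.bilinear.add_right, hf₁.bilinear.smul_right, hf₁.bilinear.smul_right,
      hf₁.alternating, h0, mul_zero, mul_zero, add_zero]
  have hQΦ : ∀ x y, Q (Φ (x, y)) = B x y := by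
    intro x y
    have h10 : Q (Φ (x, 0)) = 0 := by
      have := hpure ![1, 0] x
      convert this using 2
      show (P : Matrix (Fin n) (Fin n) F) *ᵥ _ = _
      congr 1; funext i
      simp only [Function.comp_apply]
      generalize e i = r; obtain ⟨r1, r2⟩ := r; fin_cases r1 <;> simp
    have h01' : Q (Φ (0, y)) = 0 := by
      have := hpure ![0, 1] y
      convert this using 2
      show (P : Matrix (Fin n) (Fin n) F) *ᵥ _ = _
      congr 1; funext i
      simp only [Function.comp_apply]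
      generalize e i = r; obtain ⟨r1, r2⟩ := r; fin_cases r1 <;> simp
    obtain ⟨c, hc, hT⟩ := hT
    have hp : QuadraticMap.polar Q (Φ (x, 0)) (Φ (0, y)) = c * (f₁ (Pi.single 0 1) (Pi.single 1 1) * f₂ x y) := by
      refine (hT _ _).trans ?_
      congr 1
      rw [Cfsg.Geo.formOfGram, Fintype.sum_prod_type, Fin.sum_univ_two, hexp x y]
      simp [Fintype.sum_prod_type, Fin.sum_univ_two, Cfsg.Geo.gramMatrix, Finset.mul_sum,
        mul_comm, mul_left_comm]
      simp only [Finset.sum_mul, mul_assoc]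
    rw [QuadraticMap.polar, ← map_add, Prod.mk_add_mk, add_zero, zero_add, h10, h01', sub_zero,
      sub_zero, ← mul_assoc, hq2 _ (mul_ne_zero hc hg01), one_mul] at hp
    exact hp
  exact aux Q₀ hnd hq (by omega) h2 e P B hf₂.alternating
    (fun u hu => (hf₂.nondegenerate u hu).2) Φ (fun _ => rfl) hQΦ

end Cfsg.Agent.S5705
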