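import Cfsg.Agent.Lib.IsoLines.Classical
import Cfsg.Statements.S0829

set_option autoImplicit false
open Cfsg

namespace Cfsg.Agent.S0829

/-- The unitary quadrangle of PSU_4(q): with |F| = q², the number of 2-dimensional subspaces of F^4 on which the Hermitian form Σ x_i y_i^q vanishes is (q + 1)(q³ + 1). -/
theorem result {F : Type*} [Field F] [Fintype F] {q : ℕ} (hF : Fintype.card F = q ^ 2) : Nat.card {W : Submodule F (Fin 4 → F) // Module.finrank F W = 2 ∧ ∀ u ∈ W, ∀ v ∈ W, Cfsg.hermForm 4 F q u v = 0} = (q + 1) * (q ^ 3 + 1) := by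
  classical
  have hq := Cfsg.Agent.Lib.Forms.two_le_of_card_sq hF
  show Nat.card {W : Submodule F (Fin 4 → F) //
    Cfsg.Agent.Lib.IsoLines.IsoPlane (Cfsg.hermForm 4 F q) W} = _
  have hr : Nat.card {z : Fin 2 → F // Cfsg.hermForm 2 F q z z = 0} = (q + 1) * (q ^ 2 - 1) + 1 := by
    rw [Cfsg.Agent.Lib.Classical.natCard_hermForm_zero hF]
    rw [if_pos (by decide)]
    all_goals ring
  have h := Cfsg.Agent.Lib.IsoLines.natCard_planes (f := Cfsg.hermForm 4 F q) (r := q + 1)
    fun v hv hvv => Cfsg.Agent.Lib.IsoLines.herm_through hF hr hv hvv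
  have hc : Nat.card {v : Fin 4 → F // Cfsg.hermForm 4 F q v v = 0 ∧ v ≠ 0} =
      (q ^ 3 + 1) * (q ^ 4 - 1) := by
    have h0 := Cfsg.Agent.Lib.Classical.natCard_hermForm_zero hF 4
    rw [Nat.card_eq_fintype_card, Fintype.card_subtype] at h0 ⊢
    rw [← Finset.filter_filter, Finset.filter_ne' , Finset.card_erase_of_mem (Finset.mem_filter.2 ⟨Finset.mem_univ _, by simp [Cfsg.hermForm]⟩), h0]
    rw [if_pos (by decide)]
    rw [Nat.add_sub_cancel]
    all_goals ring
  rw [hc, Nat.card_eq_fintype_card (α := F), hF, ← pow_mul] at h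
  refine Nat.eq_of_mul_eq_mul_right (Nat.sub_pos_of_lt (Nat.one_lt_pow four_ne_zero (by omega))) (h.trans ?_)
  ring

end Cfsg.Agent.S0829
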