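import Cfsg.Statements.S4249
import Mathlib
import Cfsg.Agent.Lib.Coprime.Cocyclic
import Cfsg.Agent.Lib.Core.Nilpotent
import Cfsg.Agent.Lib.Frobenius.KernelNilpotent
import Cfsg.Agent.Lib.NilpotentLocal.Basic
import Cfsg.Agent.Lib.PGroup.Thompson

/-!
Hughes--Thompson: if every element outside a proper normal subgroup `H` has order dividing `p`,
then `H` is nilpotent, and of index `p` unless the group is a `p`-group.
-/

set_option autoImplicit false
open Cfsg

namespace Cfsg.Agent.S4249

open Subgroup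

universe u

section Basic

variable {G : Type*} [Group G] {p : ℕ} {H : Subgroup G}

theorem eq_one_of_commute (hH : ∀ g, g ∉ H → g ^ p = 1) {x v : G} (hx : x ∉ H)
    (hc : Commute v x) (hv : (orderOf v).Coprime p) : v = 1 := by
  have h : v ^ p = 1 := by
    by_cases hvH : v ∈ H
    · have h1 := hH (v * x) fun h => hx ((H.mul_mem_cancel_left hvH).mp h)
      rwa [hc.mul_pow, hH x hx, mul_one] at h1
    · exact hH v hvH
  exact orderOf_eq_one_iff.mp (Nat.eq_one_of_dvd_coprimes hv dvd_rfl
    (orderOf_dvd_of_pow_eq_one h))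

theorem exists_ne_one_of_ne_bot {X : Type*} [Group X] {A : Subgroup X} (h : A ≠ ⊥) :
    ∃ z ∈ A, z ≠ 1 := by
  by_contra hc
  push Not at hc
  exact h (eq_bot_iff.mpr fun z hz => mem_bot.mpr (hc z hz))

theorem exists_pow_prime [Fact p.Prime] {X : Type*} [Group X] (hX : IsPGroup p X) {z : X}
    (hz : z ≠ 1) : ∃ w ∈ zpowers z, w ^ p = 1 ∧ w ≠ 1 := by
  obtain ⟨n, hn⟩ := IsPGroup.iff_orderOf.mp hX z
  rcases n with _ | n
  · exact absurd (orderOf_eq_one_iff.mp hn) hz
  · refine ⟨z ^ p ^ n, pow_mem (mem_zpowers z) _, ?_, ?_⟩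
    · rw [← pow_mul, ← pow_succ, ← hn, pow_orderOf_eq_one]
    · intro h
      have := Nat.le_of_dvd (pow_pos (Fact.out : p.Prime).pos n) (orderOf_dvd_of_pow_eq_one h)
      rw [hn] at this
      exact this.not_gt (Nat.pow_lt_pow_right (Fact.out : p.Prime).one_lt n.lt_succ_self)

/-- Two commuting automorphisms of order `p` such that every element outside the powers of the
first is fixed-point-free cannot act on a group of order prime to `p`. -/
theorem pair_false {K : Type u} [Group K] [Finite K] [Fact p.Prime]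
    (hcop : p.Coprime (Nat.card K)) {z x : MulAut K} (hzx : Commute z x) (hz : z ^ p = 1)
    (hz1 : z ≠ 1) (hx : x ^ p = 1) (hxz : x ∉ zpowers z)
    (hfix : ∀ i j : ℤ, x ^ j ≠ 1 → ∀ k : K, (z ^ i * x ^ j) k = k → k = 1) : False := by
  have hp : p.Prime := Fact.out
  haveI : Finite (MulAut K) :=
    Finite.of_injective (fun e : MulAut K => (⇑e : K → K)) DFunLike.coe_injective
  set A : Subgroup (MulAut K) := closure {z, x} with hA
  haveI : IsMulCommutative A := Lib.Coprime.isMulCommutative_closure_pair hzx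
  open scoped IsMulCommutative in
  have hexp : ∀ a ∈ A, (∃ i j : ℤ, a = z ^ i * x ^ j) := by
    intro a ha
    induction ha using closure_induction with
    | mem a ha =>
      rcases ha with rfl | rfl
      · exact ⟨1, 0, by simp⟩
      · exact ⟨0, 1, by simp⟩
    | one => exact ⟨0, 0, by simp⟩
    | mul a b _ _ iha ihb =>
      obtain ⟨i, j, rfl⟩ := iha
      obtain ⟨k, l, rfl⟩ := ihb
      exact ⟨i + k, j + l, by
        rw [zpow_add, zpow_add, (hzx.zpow_zpow k j).symm.mul_mul_mul_comm]⟩
    | inv a _ iha =>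
      obtain ⟨i, j, rfl⟩ := iha
      exact ⟨-i, -j, by rw [mul_inv_rev, ← zpow_neg, ← zpow_neg, (hzx.zpow_zpow _ _).eq]⟩
  have hpow : ∀ a ∈ A, a ^ p = 1 := by
    intro a ha
    obtain ⟨i, j, rfl⟩ := hexp a ha
    rw [(hzx.zpow_zpow i j).mul_pow, ← zpow_natCast (z ^ i), ← zpow_natCast (x ^ j), ← zpow_mul,
      ← zpow_mul, mul_comm i, mul_comm j, zpow_mul, zpow_mul, zpow_natCast, zpow_natCast, hz, hx,
      one_zpow, one_zpow, one_mul]
  have hAp : IsPGroup p A := fun a => ⟨1, Subtype.ext (by simpa using hpow a a.2)⟩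
  have hzA : z ∈ A := subset_closure (by simp)
  have hxA : x ∈ A := subset_closure (by simp)
  have hnc : ¬ IsCyclic A := by
    intro hc
    obtain ⟨g, hg⟩ := hc.exists_generator
    have hle : Nat.card A ≤ p := by
      rw [← orderOf_eq_card_of_forall_mem_zpowers hg]
      exact Nat.le_of_dvd hp.pos (orderOf_dvd_of_pow_eq_one (Subtype.ext
        (by simpa using hpow g g.2)))
    have heq : zpowers z = A := eq_of_le_of_card_ge (zpowers_le.mpr hzA)
      (by rw [Nat.card_zpowers, orderOf_eq_prime hz hz1]; exact hle)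
    exact hxz (heq.symm ▸ hxA)
  have hc : (Nat.card A).Coprime (Nat.card K) := by
    obtain ⟨n, hn⟩ := hAp.exists_card_eq
    rw [hn]
    exact hcop.pow_left n
  have htop : Lib.Coprime.fixedBy z = (⊤ : Subgroup K) := by
    open scoped IsMulCommutative in
    refine Lib.Coprime.eq_top_of_forall_fixedBy (A := A) A.subtype hnc hc _ ?_
    intro a ha k hk
    rw [Lib.Coprime.mem_fixedBy] at hk ⊢
    obtain ⟨i, j, hij⟩ := hexp a a.2
    by_cases hj : x ^ j = 1
    · rw [hj, mul_one] at hij
      have hai : (a : MulAut K) ∈ zpowers z := hij ▸ zpow_mem (mem_zpowers z) i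
      have hord : orderOf (a : MulAut K) = p :=
        orderOf_eq_prime (hpow a a.2) (fun h => ha (Subtype.ext h))
      have heq : zpowers (a : MulAut K) = zpowers z :=
        eq_of_le_of_card_ge (zpowers_le.mpr hai) (by
          rw [Nat.card_zpowers, Nat.card_zpowers, orderOf_eq_prime hz hz1, hord])
      have hmem : z ∈ MulAction.stabilizer (MulAut K) k := by
        have hs : zpowers (a : MulAut K) ≤ MulAction.stabilizer (MulAut K) k :=
          zpowers_le.mpr hk
        exact hs (heq.symm ▸ mem_zpowers z)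
      exact hmem
    · have : k = 1 := hfix i j hj k (by rw [← hij]; exact hk)
      rw [this, map_one]
  refine hz1 (MulEquiv.ext fun k => ?_)
  have : k ∈ Lib.Coprime.fixedBy z := htop ▸ mem_top k
  exact this

/-- A `p`-group `P ⊄ H` normalising a nontrivial `p'`-group `Q`: `P ∩ H` centralises `Q` and
`P = (P ∩ H)⟨x⟩`. -/
theorem pGroup_action [Finite G] [Fact p.Prime] (hH : ∀ g, g ∉ H → g ^ p = 1) [H.Normal]
    {P Q : Subgroup G} (hP : IsPGroup p P) (hPQ : P ≤ normalizer (Q : Set G)) (hQ : Q ≠ ⊥)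
    (hcop : p.Coprime (Nat.card Q)) {x : G} (hxP : x ∈ P) (hxH : x ∉ H) :
    P ⊓ H ≤ centralizer (Q : Set G) ∧ ∀ a ∈ P, ∃ i : ℤ, a * (x ^ i)⁻¹ ∈ H := by
  have hp : p.Prime := Fact.out
  let φ : P →* MulAut Q := Q.normalizerMonoidHom.comp (inclusion hPQ)
  have hφ : ∀ (a : P) (q : Q), ((φ a q : Q) : G) = a * q * (a : G)⁻¹ := fun a q => rfl
  set R := φ.range with hR
  let ψ : P →* R := φ.rangeRestrict
  have hψ : Function.Surjective ψ := φ.rangeRestrict_surjective
  -- elements outside `H` are fixed-point-free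
  have hfpf : ∀ a : P, (a : G) ∉ H → ∀ q : Q, φ a q = q → q = 1 := by
    intro a ha q hq
    have h := congrArg Subtype.val hq
    rw [hφ, mul_inv_eq_iff_eq_mul] at h
    refine Subtype.ext (eq_one_of_commute hH ha (show Commute (q : G) a from h.symm) ?_)
    rw [orderOf_coe]
    exact (hcop.coprime_dvd_right (orderOf_dvd_natCard q)).symm
  have hker : ∀ a : P, φ a = 1 → (a : G) ∈ H := by
    intro a ha
    by_contra hc
    refine hQ (eq_bot_iff.mpr fun q hq => ?_)
    have := hfpf a hc ⟨q, hq⟩ (by rw [ha]; rfl)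
    simpa using congrArg Subtype.val this
  set S : Subgroup R := (H.subgroupOf P).map ψ with hS
  haveI hSn : S.Normal := Subgroup.Normal.map inferInstance ψ hψ
  have hRp : IsPGroup p R := hP.of_surjective ψ hψ
  have hout : ∀ r : R, r ∉ S → (r : MulAut Q) ^ p = 1 ∧ ∀ q : Q, (r : MulAut Q) q = q → q = 1 := by
    intro r hr
    obtain ⟨a, rfl⟩ := hψ r
    have ha : (a : G) ∉ H := fun h => hr (mem_map_of_mem ψ (mem_subgroupOf.mpr h))
    refine ⟨?_, hfpf a ha⟩
    change φ a ^ p = 1
    rw [← map_pow, show a ^ p = 1 from Subtype.ext (by simpa using hH a ha), map_one]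
  have hpair : ∀ z r : R, Commute z r → z ^ p = 1 → z ≠ 1 → r ^ p = 1 → r ∉ zpowers z →
      (∀ i j : ℤ, r ^ j ≠ 1 → z ^ i * r ^ j ∉ S) → False := by
    intro z r hzr hz hz1 hr hrz hnot
    refine pair_false (K := Q) hcop (hzr.map R.subtype) (by rw [← map_pow, hz, map_one])
      (fun h => hz1 (Subtype.ext h)) (by rw [← map_pow, hr, map_one]) ?_ ?_
    · intro hmem
      obtain ⟨i, hi⟩ := mem_zpowers_iff.mp hmem
      exact hrz (mem_zpowers_iff.mpr ⟨i, Subtype.ext (by simpa using hi)⟩)
    · intro i j hj k hk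
      have hj' : r ^ j ≠ 1 := fun h => hj (by rw [← map_zpow, h, map_one])
      refine (hout _ (hnot i j hj')).2 k ?_
      simpa using hk
  set xR : R := ψ ⟨x, hxP⟩ with hxR
  have hxS : xR ∉ S := by
    rintro ⟨a, ha, hax⟩
    have h1 : φ (a⁻¹ * ⟨x, hxP⟩) = 1 := by
      have h2 : φ a = φ ⟨x, hxP⟩ := congrArg Subtype.val hax
      rw [map_mul, map_inv, h2, inv_mul_cancel]
    have h3 : (a : G)⁻¹ * x ∈ H := hker _ h1
    exact hxH ((H.mul_mem_cancel_left (H.inv_mem (mem_subgroupOf.mp ha))).mp h3)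
  have hx1 : xR ≠ 1 := fun h => hxS (h ▸ S.one_mem)
  have hxp : xR ^ p = 1 := Subtype.ext (by simpa using (hout xR hxS).1)
  have hinj : ∀ r : R, r ^ p = 1 → r ≠ 1 → ∀ j : ℤ, r ^ j ≠ 1 → r ∈ zpowers (r ^ j) := by
    intro r hr hr1 j hj
    have hle : zpowers (r ^ j) ≤ zpowers r := zpowers_le.mpr (zpow_mem (mem_zpowers r) j)
    have heq : zpowers (r ^ j) = zpowers r := eq_of_le_of_card_ge hle (by
      rw [Nat.card_zpowers, Nat.card_zpowers, orderOf_eq_prime hr hr1, orderOf_eq_prime (p := p) ?_ hj]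
      rw [← zpow_natCast, ← zpow_mul, mul_comm, zpow_mul, zpow_natCast, hr, one_zpow])
    exact heq.symm ▸ mem_zpowers r
  haveI : Group.IsNilpotent R := hRp.isNilpotent
  have hbot : S = ⊥ := by
    by_contra hne
    obtain ⟨z, hz, hz1⟩ := exists_ne_one_of_ne_bot (Lib.Nilp.inf_center_ne_bot_of_normal hne)
    obtain ⟨w, hw, hwp, hw1⟩ := exists_pow_prime hRp hz1
    have hwS : zpowers w ≤ S ⊓ center R := (zpowers_le.mpr hw).trans (zpowers_le.mpr hz)
    refine hpair w xR ((mem_center_iff.mp (hwS (mem_zpowers w)).2 xR).symm) hwp hw1 hxp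
      (fun h => hxS (hwS h).1) fun i j hj hmem => ?_
    have h1 : xR ^ j ∈ S :=
      (S.mul_mem_cancel_left (zpow_mem (show w ∈ S from (hwS (mem_zpowers w)).1) i)).mp hmem
    exact hxS ((zpowers_le.mpr h1) (hinj xR hxp hx1 j hj))
  have hcyc : ∀ r : R, r ∈ zpowers xR := by
    haveI : Nontrivial R := ⟨⟨xR, 1, hx1⟩⟩
    haveI := hRp.center_nontrivial
    obtain ⟨z, hz1⟩ := exists_ne (1 : center R)
    obtain ⟨w, hw, hwp, hw1⟩ := exists_pow_prime hRp (z := (z : R))
      (fun h => hz1 (Subtype.ext h))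
    have hwc : w ∈ center R := (zpowers_le.mpr z.2) hw
    have hall : ∀ r : R, r ∈ zpowers w := by
      intro r
      by_contra hr
      have hr1 : r ≠ 1 := fun h => hr (h ▸ one_mem _)
      have hrp : r ^ p = 1 :=
        Subtype.ext (by simpa using (hout r (by rw [hbot, mem_bot]; exact hr1)).1)
      refine hpair w r ((mem_center_iff.mp hwc r).symm) hwp hw1 hrp hr fun i j hj hmem => ?_
      rw [hbot, mem_bot, mul_eq_one_iff_inv_eq] at hmem
      have h1 : r ^ j ∈ zpowers w := hmem ▸ inv_mem (zpow_mem (mem_zpowers w) i)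
      exact hr ((zpowers_le.mpr h1) (hinj r hrp hr1 j hj))
    have heq : zpowers xR = zpowers w := eq_of_le_of_card_ge (zpowers_le.mpr (hall xR)) (by
      rw [Nat.card_zpowers, Nat.card_zpowers, orderOf_eq_prime hwp hw1, orderOf_eq_prime hxp hx1])
    intro r
    exact heq.symm ▸ hall r
  refine ⟨fun a ha => ?_, fun a ha => ?_⟩
  · have h1 : ψ ⟨a, ha.1⟩ ∈ S := mem_map_of_mem ψ (mem_subgroupOf.mpr ha.2)
    rw [hbot, mem_bot] at h1
    have h2 : φ ⟨a, ha.1⟩ = 1 := congrArg Subtype.val h1
    refine mem_centralizer_iff.mpr fun q hq => ?_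
    have h3 := hφ ⟨a, ha.1⟩ ⟨q, hq⟩
    rw [h2] at h3
    exact eq_mul_inv_iff_mul_eq.mp h3
  · obtain ⟨i, hi⟩ := mem_zpowers_iff.mp (hcyc (ψ ⟨a, ha⟩))
    refine ⟨i, ?_⟩
    have h1 : φ (⟨a, ha⟩ * ((⟨x, hxP⟩ : P) ^ i)⁻¹) = 1 := by
      have h2 : φ ⟨x, hxP⟩ ^ i = φ ⟨a, ha⟩ := by
        have h3 := congrArg R.subtype hi
        rw [map_zpow] at h3
        exact h3
      rw [map_mul, map_inv, map_zpow, h2, mul_inv_cancel]
    simpa using hker _ h1
/-- A `p'`-subgroup of `H` normalised by an element outside `H` centralises every abelian normal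
`p`-subgroup of `H`. -/
theorem centralizes_abelian [Finite G] [Fact p.Prime] (hH : ∀ g, g ∉ H → g ^ p = 1)
    {V Q : Subgroup G} [V.Normal] [IsMulCommutative V] {y : G} (hy : y ∉ H) (hQH : Q ≤ H)
    (hVH : V ≤ H) (hyQ : y ∈ normalizer (Q : Set G))
    (hcop : (Nat.card V).Coprime (Nat.card Q)) : Q ≤ centralizer (V : Set G) := by
  have hp : p.Prime := Fact.out
  open scoped IsMulCommutative in
  refine le_centralizer_iff.mp fun v hv => ?_
  open scoped IsMulCommutative in
  letI := Fintype.ofFinite Q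
  let c : G → V := fun g => ⟨g * v * g⁻¹, Subgroup.Normal.conj_mem inferInstance v hv g⟩
  have hprod : ∀ (g : G) (n : ℕ),
      (v * g) ^ n = ((∏ i ∈ Finset.range n, c (g ^ i) : V) : G) * g ^ n := by
    intro g n
    induction n with
    | zero => simp
    | succ n ih =>
      rw [pow_succ, ih, Finset.prod_range_succ]
      simp only [Subgroup.coe_mul, c, pow_succ]
      group
  have hout : ∀ s : Q, (s : G) * y ∉ H := fun s h => hy ((H.mul_mem_cancel_left (hQH s.2)).mp h)
  have hpow : ∀ s : Q, ((s : G) * y) ^ p = 1 := fun s => hH _ (hout s)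
  have hnorm : ∀ s : Q, ∏ i ∈ Finset.range p, c (((s : G) * y) ^ i) = 1 := by
    intro s
    have h1 := hH (v * ((s : G) * y)) fun h => hout s ((H.mul_mem_cancel_left (hVH hv)).mp h)
    rw [hprod, hpow s, mul_one] at h1
    exact Subtype.ext h1
  have htot : ∏ i ∈ Finset.range p, ∏ s : Q, c (((s : G) * y) ^ i) = 1 := by
    rw [Finset.prod_comm]
    exact Finset.prod_eq_one fun s _ => hnorm s
  let C : Subgroup V := (centralizer (Q : Set G)).subgroupOf V
  have hrest : ∀ i : ℕ, i + 1 < p → ∏ s : Q, c (((s : G) * y) ^ (i + 1)) ∈ C := by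
    intro i hi
    set n := i + 1 with hn
    have hmem : ∀ (s : Q) (k : ℕ), ((s : G) * y) ^ k * (y ^ k)⁻¹ ∈ Q := by
      intro s k
      induction k with
      | zero => simp
      | succ k ih =>
        rw [show ((s : G) * y) ^ (k + 1) * (y ^ (k + 1))⁻¹ =
          ((s : G) * y) ^ k * (y ^ k)⁻¹ * (y ^ k * s * (y ^ k)⁻¹) by
          rw [pow_succ, pow_succ]; group]
        exact Q.mul_mem ih ((mem_normalizer_iff.mp (pow_mem hyQ k) _).mp s.2)
    let f : Q → Q := fun s => ⟨_, hmem s n⟩
    have hf : Function.Bijective f := by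
      refine Finite.injective_iff_bijective.mp fun s s' hss => ?_
      have h := mul_right_cancel (congrArg Subtype.val hss)
      have hco : n.Coprime p :=
        (hp.coprime_iff_not_dvd.mpr fun hd => absurd (Nat.le_of_dvd (Nat.succ_pos i) hd)
          hi.not_ge).symm
      obtain ⟨j, -, hj⟩ := Nat.exists_mul_mod_eq_one_of_coprime hco hp.one_lt
      have hrec : ∀ t : Q, (((t : G) * y) ^ n) ^ j = (t : G) * y := fun t => by
        rw [← pow_mul, pow_eq_pow_mod (n * j) (hpow t), hj, pow_one]
      exact Subtype.ext (mul_right_cancel ((hrec s).symm.trans ((congrArg (· ^ j) h).trans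
        (hrec s'))))
    have hterm : ∀ s : Q, c (((s : G) * y) ^ n) = c (((f s : Q) : G) * y ^ n) := fun s => by
      simp [f]
    simp only [hterm]
    rw [Fintype.prod_bijective f hf (fun s => c (((f s : Q) : G) * y ^ n))
      (fun s : Q => c ((s : G) * y ^ n)) fun _ => rfl]
    refine mem_subgroupOf.mpr (mem_centralizer_iff.mpr fun t ht => ?_)
    let e : V →* V := (MulAut.conjNormal t : MulAut V).toMonoidHom
    have he : e (∏ s : Q, c ((s : G) * y ^ n)) = ∏ s : Q, c ((s : G) * y ^ n) := by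
      rw [map_prod]
      refine Fintype.prod_equiv (Equiv.mulLeft (⟨t, ht⟩ : Q)) _ _ fun s => Subtype.ext ?_
      simp [e, c, mul_assoc]
    have h2 := congrArg Subtype.val he
    simp only [e, MulEquiv.coe_toMonoidHom, MulAut.conjNormal_apply] at h2
    exact mul_inv_eq_iff_eq_mul.mp h2
  obtain ⟨m, hm⟩ := Nat.exists_eq_succ_of_ne_zero hp.ne_zero
  subst hm
  rw [Finset.prod_range_succ', mul_eq_one_iff_inv_eq] at htot
  have h0 : ∏ s : Q, c (((s : G) * y) ^ 0) = (⟨v, hv⟩ : V) ^ Nat.card Q := by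
    rw [Nat.card_eq_fintype_card, ← Finset.card_univ, ← Finset.prod_const]
    exact Finset.prod_congr rfl fun s _ => Subtype.ext (by simp [c])
  rw [h0] at htot
  have hvC : (⟨v, hv⟩ : V) ^ Nat.card Q ∈ C := by
    rw [← htot]
    exact C.inv_mem (C.prod_mem fun i hi => hrest i (Nat.succ_lt_succ (Finset.mem_range.mp hi)))
  obtain ⟨k, hk⟩ := exists_pow_eq_self_of_coprime
    (hcop.symm.coprime_dvd_right (orderOf_dvd_natCard (⟨v, hv⟩ : V)))
  have : (⟨v, hv⟩ : V) ∈ C := hk ▸ C.pow_mem hvC k
  exact mem_subgroupOf.mp this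

end Basic

theorem isNilpotent_of_le {G : Type*} [Group G] {X Y : Subgroup G} (h : X ≤ Y)
    [Group.IsNilpotent Y] : Group.IsNilpotent X :=
  Group.nilpotent_of_mulEquiv (subgroupOfEquivOfLe h)

theorem frattini_outside {G : Type*} [Group G] [Finite G] {H : Subgroup G} [H.Normal]
    (hne : H ≠ ⊤) {q : ℕ} [Fact q.Prime] (Q : Sylow q H) :
    ∃ y ∈ normalizer (((Q : Subgroup H).map H.subtype : Subgroup G) : Set G), y ∉ H := by
  by_contra hc
  push Not at hc
  exact hne (top_le_iff.mp ((Sylow.normalizer_sup_eq_top Q).symm.le.trans (sup_le hc le_rfl)))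

theorem nilpotent_of_not_dvd {G : Type u} [Group G] [Finite G] {p : ℕ} [Fact p.Prime]
    {H : Subgroup G} [H.Normal] (hH : ∀ g, g ∉ H → g ^ p = 1) {x : G} (hx : x ∉ H)
    (hdvd : ¬ p ∣ Nat.card H) : Group.IsNilpotent H := by
  refine Lib.Coprime.isNilpotent_of_fixedPointFree Lib.Frobenius.npcCriterion
    (MulAut.conjNormal x : MulAut H) ?_ (r := p) Fact.out ?_
  · intro g hg
    have h := congrArg Subtype.val hg
    simp only [MonoidHom.coe_coe, MulAut.conjNormal_apply] at h
    refine Subtype.ext (eq_one_of_commute hH hx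
      (show Commute (g : G) x from (mul_inv_eq_iff_eq_mul.mp h).symm) ?_)
    rw [orderOf_coe]
    exact (((Fact.out : p.Prime).coprime_iff_not_dvd.mpr hdvd).coprime_dvd_right
      (orderOf_dvd_natCard g)).symm
  · change (MulAut.conjNormal x : MulAut H) ^ p = 1
    rw [← map_pow, hH x hx, map_one]

/-- Elements outside a proper normal subgroup all of order dividing `p` force it to be nilpotent. -/
theorem main {p : ℕ} [Fact p.Prime] : ∀ n : ℕ, ∀ (G : Type u) [Group G] [Finite G],
    Nat.card G = n → ∀ H : Subgroup G, H.Normal → H ≠ ⊤ → (∀ g, g ∉ H → g ^ p = 1) →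
    Group.IsNilpotent H := by
  intro n
  induction n using Nat.strong_induction_on with
  | _ n ih =>
  intro G _ _ hn H hHn hne hH
  haveI := hHn
  have hp : p.Prime := Fact.out
  rcases eq_or_ne p 2 with rfl | hp2
  · obtain ⟨x, hx⟩ : ∃ x, x ∉ H := by
      by_contra hc
      push Not at hc
      exact hne (eq_top_iff.mpr fun x _ => hc x)
    have hinv : ∀ g, g ∉ H → g⁻¹ = g := fun g hg =>
      inv_eq_of_mul_eq_one_right (by rw [← sq]; exact hH g hg)
    have hconj : ∀ h ∈ H, x * h * x⁻¹ = h⁻¹ := by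
      intro h hh
      have h1 := hinv (x * h) fun hm => hx ((H.mul_mem_cancel_right hh).mp hm)
      rw [mul_inv_rev] at h1
      calc x * h * x⁻¹ = h⁻¹ * x⁻¹ * x⁻¹ := by rw [← h1]
        _ = h⁻¹ * (x ^ 2)⁻¹ := by group
        _ = h⁻¹ := by rw [hH x hx, inv_one, mul_one]
    refine Group.IsNilpotent.mk ⟨1, ?_⟩
    rw [Subgroup.upperCentralSeries_one, eq_top_iff]
    intro a _
    refine mem_center_iff.mpr fun b => Subtype.ext (inv_injective ?_)
    change ((b : G) * a)⁻¹ = ((a : G) * b)⁻¹
    rw [← hconj _ (H.mul_mem b.2 a.2), mul_inv_rev (a : G), ← hconj _ b.2, ← hconj _ a.2]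
    group
  -- the inductive hypothesis on proper subgroups
  have hsub : ∀ W : Subgroup G, W ≠ ⊤ → ∀ x ∈ W, x ∉ H →
      Group.IsNilpotent (H ⊓ W : Subgroup G) := by
    intro W hW x hxW hxH
    have hlt : Nat.card W < Nat.card G := by
      refine lt_of_le_of_ne (Subgroup.card_le_card_group W) fun h => hW ?_
      exact eq_top_of_card_eq W h
    have := ih _ (hn ▸ hlt) W rfl (H.subgroupOf W) inferInstance
      (fun h => hxH (mem_subgroupOf.mp (show (⟨x, hxW⟩ : W) ∈ H.subgroupOf W from h ▸ mem_top _)))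
      (fun g hg => Subtype.ext (by simpa using hH g fun h => hg (mem_subgroupOf.mpr h)))
    haveI : Group.IsNilpotent ((H ⊓ W).subgroupOf W : Subgroup W) := by
      rw [inf_subgroupOf_right]
      exact this
    exact Group.nilpotent_of_mulEquiv (subgroupOfEquivOfLe (inf_le_right (a := H) (b := W)))
  -- the inductive hypothesis on quotients
  have hquot : ∀ (R : Subgroup G) [R.Normal], R ≠ ⊥ → R ≤ H → ∀ f : G →* G ⧸ R,
      f = QuotientGroup.mk' R → Group.IsNilpotent (f.comp H.subtype).range := by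
    intro R hRn hR hRH f hf
    subst hf
    haveI : Nontrivial R := (nontrivial_iff_ne_bot R).mpr hR
    have hlt : Nat.card (G ⧸ R) < Nat.card G := by
      rw [card_eq_card_quotient_mul_card_subgroup R]
      exact lt_mul_of_one_lt_right Nat.card_pos Finite.one_lt_card
    rw [MonoidHom.range_comp, range_subtype]
    refine ih _ (hn ▸ hlt) (G ⧸ R) rfl _ (Subgroup.Normal.map hHn _ (QuotientGroup.mk'_surjective R))
      (fun h => hne ?_) fun g hg => ?_
    · have h1 := congrArg (Subgroup.comap (QuotientGroup.mk' R)) h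
      rwa [comap_map_eq, QuotientGroup.ker_mk', comap_top, sup_eq_left.mpr hRH] at h1
    · obtain ⟨g, rfl⟩ := QuotientGroup.mk'_surjective R g
      rw [← map_pow, hH g fun h => hg (mem_map_of_mem _ h), map_one]
  obtain ⟨P₀⟩ := (inferInstance : Nonempty (Sylow p H))
  set P' : Subgroup G := (P₀ : Subgroup H).map H.subtype with hP'
  have hP'p : IsPGroup p P' := P₀.2.map _
  have hP'H : P' ≤ H := map_subtype_le _
  obtain ⟨x, hxN, hxH⟩ := frattini_outside hne P₀
  rw [← hP'] at hxN
  have hcardP : p ∣ Nat.card H → p ∣ Nat.card P' := fun h => by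
    rw [hP', card_map_of_injective H.subtype_injective]
    exact P₀.dvd_card_of_dvd_card h
  -- a normal `p`-subgroup forces the Sylow subgroup of `H` to be normal
  have hnormal : ∀ R : Subgroup G, R.Normal → R ≠ ⊥ → R ≤ P' → (P₀ : Subgroup H).Normal := by
    intro R hRn hR hRP
    haveI := hRn
    set f := (QuotientGroup.mk' R).comp H.subtype with hf
    haveI : Group.IsNilpotent f.range := hquot R hR (hRP.trans hP'H) _ rfl
    have hsurj := f.rangeRestrict_surjective
    haveI : ((P₀ : Subgroup H).map f.rangeRestrict).Normal :=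
      Lib.Coprime.normal_of_isNilpotent inferInstance (P₀.mapSurjective hsurj)
    have hker : f.rangeRestrict.ker ≤ P₀ := by
      intro r hr
      rw [MonoidHom.ker_rangeRestrict] at hr
      have : (r : G) ∈ R := (QuotientGroup.eq_one_iff (r : G)).mp hr
      obtain ⟨s, hs, hsr⟩ := hRP this
      rwa [← Subtype.ext hsr]
    have := (inferInstance : ((P₀ : Subgroup H).map f.rangeRestrict).Normal).comap f.rangeRestrict
    rwa [comap_map_eq, sup_eq_left.mpr hker] at this
  by_cases hdvd : p ∣ Nat.card H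
  swap
  · exact nilpotent_of_not_dvd hH hxH hdvd
  have hP'ne : P' ≠ ⊥ := fun h => by
    have := hcardP hdvd
    rw [h, card_bot] at this
    exact hp.one_lt.ne' (Nat.dvd_one.mp this)
  have hZne := Lib.ThompsonNPC.center_ne_bot hP'p hP'ne
  by_cases hPn : (P₀ : Subgroup H).Normal
  · -- the quotient by the centre of the Sylow subgroup is nilpotent, and that centre is central
    haveI := hPn
    haveI hP'n : P'.Normal := by
      haveI : (P₀ : Subgroup H).Characteristic := P₀.characteristic_of_normal hPn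
      rw [hP']
      infer_instance
    set R : Subgroup G := P' ⊓ centralizer (P' : Set G) with hR
    haveI hRn : R.Normal := inferInstance
    haveI : IsMulCommutative R := ⟨⟨fun a b => Subtype.ext
      (mem_centralizer_iff.mp b.2.2 (a : G) a.2.1)⟩⟩
    have hRH : R ≤ H := inf_le_left.trans hP'H
    have hcent : H ≤ centralizer (R : Set G) := by
      have hall : (centralizer (R : Set G)).subgroupOf H = ⊤ := by
        refine eq_top_of_card_eq _ (Nat.dvd_antisymm (card_subgroup_dvd_card _) ?_)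
        refine (Nat.dvd_iff_prime_pow_dvd_dvd _ _).mpr fun q e hq he => ?_
        haveI := Fact.mk hq
        obtain ⟨Q⟩ := (inferInstance : Nonempty (Sylow q H))
        refine (Q.pow_dvd_card_of_pow_dvd_card he).trans (card_dvd_of_le fun a ha => ?_)
        rw [mem_subgroupOf]
        rcases eq_or_ne q p with rfl | hqp
        · haveI := Sylow.unique_of_normal P₀ hPn
          rw [Subsingleton.elim Q P₀] at ha
          have hle : P' ≤ centralizer (R : Set G) := le_centralizer_iff.mp inf_le_right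
          exact hle (mem_map_of_mem _ ha)
        · obtain ⟨y, hyN, hyH⟩ := frattini_outside hne Q
          refine centralizes_abelian hH hyH (map_subtype_le _) hRH hyN ?_ (mem_map_of_mem _ ha)
          exact IsPGroup.coprime_card_of_ne p q hqp.symm _ _ (hP'p.to_le inf_le_left)
            (Q.2.map _)
      exact subgroupOf_eq_top.mp hall
    set f := (QuotientGroup.mk' R).comp H.subtype with hf
    haveI : Group.IsNilpotent f.range := hquot R hZne hRH _ rfl
    refine Subgroup.isNilpotent_of_ker_le_center f.rangeRestrict ?_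
    intro r hr
    rw [MonoidHom.ker_rangeRestrict] at hr
    have hrR : (r : G) ∈ R := (QuotientGroup.eq_one_iff (r : G)).mp hr
    exact mem_center_iff.mpr fun g =>
      Subtype.ext (mem_centralizer_iff.mp (hcent g.2) _ hrR).symm
  · -- both Thompson locals are proper, hence `H` has a normal `p`-complement
    exfalso
    set J : Subgroup H := Cfsg.thompsonSubgroupOf p (P₀ : Subgroup H) with hJdef
    set Z : Subgroup H := (P₀ : Subgroup H) ⊓ centralizer ((P₀ : Subgroup H) : Set H) with hZdef
    have hJ' : J.map H.subtype = Cfsg.thompsonSubgroupOf p P' :=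
      (Lib.Thompson.thompsonSubgroupOf_map H.subtype_injective _).symm
    have hZ' : Z.map H.subtype ≤ P' ⊓ centralizer (P' : Set G) := by
      rintro _ ⟨z, hz, rfl⟩
      refine ⟨mem_map_of_mem _ hz.1, mem_centralizer_iff.mpr ?_⟩
      rintro _ ⟨t, ht, rfl⟩
      rw [← map_mul, ← map_mul, mem_centralizer_iff.mp hz.2 t ht]
    have hZ'' : P' ⊓ centralizer (P' : Set G) ≤ Z.map H.subtype := by
      rintro _ ⟨⟨z, hz, rfl⟩, hc⟩
      refine mem_map_of_mem _ ⟨hz, mem_centralizer_iff.mpr fun t ht => H.subtype_injective ?_⟩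
      rw [map_mul, map_mul]
      exact mem_centralizer_iff.mp hc _ (mem_map_of_mem _ ht)
    have hlocal : ∀ (X : Subgroup G), X ≠ ⊥ → X ≤ P' → x ∈ normalizer (X : Set G) →
        Group.IsNilpotent (H ⊓ normalizer (X : Set G) : Subgroup G) := by
      intro X hX hXP hxX
      refine hsub _ (fun h => hPn (hnormal X (normalizer_eq_top_iff.mp h) hX hXP)) x hxX hxH
    have hres : ∀ (A : Subgroup H) (B : Subgroup G), A.map H.subtype ≤ H ⊓ B →
        Group.IsNilpotent (H ⊓ B : Subgroup G) → Group.IsNilpotent A := by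
      intro A B hle hB
      haveI := hB
      haveI : Group.IsNilpotent (A.map H.subtype) := isNilpotent_of_le hle
      exact Group.nilpotent_of_mulEquiv (A.equivMapOfInjective _ H.subtype_injective).symm
    have h1 : Group.IsNilpotent (normalizer (J : Set H)) := by
      refine hres _ (normalizer (Cfsg.thompsonSubgroupOf p P' : Set G))
        (le_inf (map_subtype_le _) (hJ' ▸ le_normalizer_map _)) ?_
      exact hlocal _ (Lib.Thompson.thompsonSubgroupOf_ne_bot (hcardP hdvd))
        (Lib.Thompson.thompsonSubgroupOf_le p P') (Lib.Thompson.normalizer_le p P' hxN)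
    have h2 : Group.IsNilpotent (centralizer (Z : Set H)) := by
      refine hres _ (normalizer ((P' ⊓ centralizer (P' : Set G) : Subgroup G) : Set G))
        (le_inf (map_subtype_le _) ?_) ?_
      · refine le_trans ?_ (centralizer_le_normalizer _)
        rintro _ ⟨c, hc, rfl⟩
        refine mem_centralizer_iff.mpr fun t ht => ?_
        obtain ⟨z, hz, rfl⟩ := hZ'' ht
        rw [← map_mul, ← map_mul, mem_centralizer_iff.mp hc z hz]
      · exact hlocal _ hZne inf_le_left
          (Lib.ThompsonNPC.normalizer_le_normalizer_center P' hxN)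
    obtain ⟨P₁, K, hKn, hK⟩ :=
      Lib.NilpotentLocal.hasNormalPComplement_of_nilpotent_locals hp2 P₀ h1 h2
    have hKcop : p.Coprime (Nat.card K) := by
      rw [← hK.index_eq_card]
      exact hp.coprime_iff_not_dvd.mpr P₁.not_dvd_index
    have hKiff : ∀ g : H, g ∈ K ↔ (orderOf g).Coprime p := by
      intro g
      refine ⟨fun hg => ?_, fun hg => ?_⟩
      · exact (hKcop.coprime_dvd_right (K.orderOf_dvd_natCard hg)).symm
      · obtain ⟨e, he⟩ := P₁.2.exists_card_eq
        rw [← QuotientGroup.eq_one_iff, ← orderOf_eq_one_iff]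
        refine Nat.eq_one_of_dvd_coprimes (hg.pow_right e)
          (orderOf_map_dvd (QuotientGroup.mk' K) g) ?_
        rw [← he, ← hK.symm.index_eq_card, Subgroup.index_eq_card]
        exact orderOf_dvd_natCard _
    set K' : Subgroup G := K.map H.subtype with hK'
    haveI hK'n : K'.Normal := ⟨by
      rintro _ ⟨k, hk, rfl⟩ g
      refine ⟨MulAut.conjNormal g k, ?_, by simp⟩
      rw [SetLike.mem_coe, hKiff,
        MulEquiv.orderOf_eq,
        ← hKiff]
      exact hk⟩
    by_cases hK0 : K' = ⊥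
    · refine hPn ?_
      have hKbot : K = ⊥ := (map_eq_bot_iff_of_injective _ H.subtype_injective).mp hK0
      have hP1 : (P₁ : Subgroup H) = ⊤ := by simpa [hKbot] using hK.sup_eq_top
      have : (P₀ : Subgroup H) = ⊤ := eq_top_of_card_eq _ (by
        rw [P₀.card_eq_multiplicity, ← P₁.card_eq_multiplicity, hP1, card_top])
      rw [this]
      infer_instance
    · have hxp : IsPGroup p (zpowers x) := by
        refine IsPGroup.of_card_dvd_pow (n := 1) ?_
        rw [Nat.card_zpowers, pow_one]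
        exact orderOf_dvd_of_pow_eq_one (hH x hxH)
      have hPX : IsPGroup p (zpowers x ⊔ P' : Subgroup G) :=
        hxp.to_sup_of_normal_right' hP'p (zpowers_le.mpr hxN)
      have hcopK : p.Coprime (Nat.card K') := by
        rw [hK', card_map_of_injective H.subtype_injective]
        exact hKcop
      have hc := (pGroup_action hH hPX (by rw [normalizer_eq_top]; exact le_top) hK0 hcopK
        (mem_sup_left (mem_zpowers x)) hxH).1
      refine hPn (normalizer_eq_top_iff.mp (eq_top_iff.mpr ?_))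
      have hsup : K ⊔ (P₀ : Subgroup H) = ⊤ := by
        refine (isComplement'_of_coprime ?_ ?_).sup_eq_top
        · rw [P₀.card_eq_multiplicity, ← P₁.card_eq_multiplicity]
          exact hK.card_mul_card
        · obtain ⟨e, he⟩ := P₀.2.exists_card_eq
          rw [he]
          exact hKcop.symm.pow_right e
      rw [← hsup]
      refine sup_le (le_trans ?_ (centralizer_le_normalizer _)) le_normalizer
      refine le_centralizer_iff.mp fun a ha => mem_centralizer_iff.mpr fun k hk => ?_
      exact H.subtype_injective (by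
        simpa using mem_centralizer_iff.mp (hc ⟨mem_sup_right (mem_map_of_mem _ ha), a.2⟩) _
          (mem_map_of_mem H.subtype hk))

theorem hughes {G : Type u} [Group G] [Finite G] {p : ℕ} [Fact p.Prime] (hG : ¬ IsPGroup p G)
    {H : Subgroup G} [H.Normal] (hne : H ≠ ⊤) (hH : ∀ g, g ∉ H → g ^ p = 1) :
    Group.IsNilpotent H ∧ H.index = p := by
  refine ⟨main _ G rfl H inferInstance hne hH, ?_⟩
  have hp : p.Prime := Fact.out
  obtain ⟨q, hq, hqp, hqd⟩ : ∃ q, q.Prime ∧ q ≠ p ∧ q ∣ Nat.card G := by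
    by_contra hc
    push Not at hc
    refine hG (IsPGroup.of_card (n := (Nat.card G).primeFactorsList.length)
      (Nat.eq_prime_pow_of_unique_prime_dvd Nat.card_pos.ne' fun {d} hd hdd => ?_))
    by_contra hdp
    exact hc d hd hdp hdd
  haveI := Fact.mk hq
  obtain ⟨g, hg⟩ := exists_prime_orderOf_dvd_card' q hqd
  have hgH : g ∈ H := by
    by_contra hgH
    exact hqp ((Nat.prime_dvd_prime_iff_eq hq hp).mp
      (hg ▸ orderOf_dvd_of_pow_eq_one (hH g hgH)))
  have hqH : q ∣ Nat.card H := hg ▸ H.orderOf_dvd_natCard hgH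
  obtain ⟨Q⟩ := (inferInstance : Nonempty (Sylow q H))
  set Q' : Subgroup G := (Q : Subgroup H).map H.subtype with hQ'
  have hQne : Q' ≠ ⊥ := by
    intro h
    have h1 := Q.dvd_card_of_dvd_card hqH
    rw [(map_eq_bot_iff_of_injective _ H.subtype_injective).mp h, card_bot] at h1
    exact hq.one_lt.ne' (Nat.dvd_one.mp h1)
  set N : Subgroup G := normalizer (Q' : Set G) with hN
  have hNH : N ⊔ H = ⊤ := Sylow.normalizer_sup_eq_top Q
  set f : N →* G ⧸ H := (QuotientGroup.mk' H).comp N.subtype with hf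
  have hsurj : Function.Surjective f := by
    intro z
    obtain ⟨g, rfl⟩ := QuotientGroup.mk'_surjective H z
    have hg : g ∈ ((N ⊔ H : Subgroup G) : Set G) := by rw [hNH]; trivial
    rw [Subgroup.mul_normal] at hg
    obtain ⟨n, hn, h, hh, rfl⟩ := hg
    exact ⟨⟨n, hn⟩, by simp [f, (QuotientGroup.eq_one_iff h).mpr hh]⟩
  have hquot : IsPGroup p (G ⧸ H) := by
    intro z
    obtain ⟨g, rfl⟩ := QuotientGroup.mk'_surjective H z
    refine ⟨1, ?_⟩
    rw [pow_one, ← map_pow]
    by_cases hgH : g ∈ H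
    · exact (QuotientGroup.eq_one_iff _).mpr (H.pow_mem hgH p)
    · rw [hH g hgH, map_one]
  obtain ⟨P⟩ := (inferInstance : Nonempty (Sylow p N))
  have htop : ∀ z : G ⧸ H, ∃ a ∈ (P : Subgroup N), f a = z := by
    intro z
    have hmem : z ∈ ((P.mapSurjective hsurj : Sylow p (G ⧸ H)) : Subgroup (G ⧸ H)) := by
      rw [← (P.mapSurjective hsurj).3 (hquot.to_subgroup ⊤) le_top]
      exact mem_top z
    exact hmem
  obtain ⟨z, hz⟩ : ∃ z : G ⧸ H, z ≠ 1 := by
    by_contra hc
    push Not at hc
    exact hne (eq_top_iff.mpr fun g _ => (QuotientGroup.eq_one_iff g).mp (hc _))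
  obtain ⟨a, haP, rfl⟩ := htop z
  have haH : (a : G) ∉ H := fun h => hz ((QuotientGroup.eq_one_iff _).mpr h)
  have hcop : p.Coprime (Nat.card Q') := by
    obtain ⟨e, he⟩ := (Q.2.map H.subtype).exists_card_eq
    rw [hQ', he]
    exact ((Nat.coprime_primes hp hq).mpr hqp.symm).pow_right e
  have hact := (pGroup_action hH (P.2.map N.subtype) (map_subtype_le _) hQne hcop
    (mem_map_of_mem N.subtype haP) haH).2
  have hgen : ∀ w : G ⧸ H, w ∈ zpowers (f a) := by
    intro w
    obtain ⟨b, hbP, rfl⟩ := htop w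
    obtain ⟨i, hi⟩ := hact _ (mem_map_of_mem N.subtype hbP)
    refine mem_zpowers_iff.mpr ⟨i, ?_⟩
    rw [← QuotientGroup.eq_one_iff, QuotientGroup.mk_mul, QuotientGroup.mk_inv,
      mul_inv_eq_one, QuotientGroup.mk_zpow] at hi
    exact hi.symm
  rw [Subgroup.index_eq_card, ← orderOf_eq_card_of_forall_mem_zpowers hgen]
  refine orderOf_eq_prime ?_ hz
  change ((a : G) : G ⧸ H) ^ p = 1
  rw [← QuotientGroup.mk_pow, hH _ haH, QuotientGroup.mk_one]
/-- Let G be a finite group and p a prime such that G is not a p-group, and suppose the Hughes subgroup H_p(G), generated by all elements g with g^p ≠ 1, is a proper subgroup. Then H_p(G) is nilpotent and has index p in G. -/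
theorem result {G : Type*} [Group G] [Finite G] (p : ℕ) (hp : p.Prime) (hG : ¬ IsPGroup p G)
    (hH : Subgroup.closure {g : G | g ^ p ≠ 1} ≠ ⊤) :
    Group.IsNilpotent (Subgroup.closure {g : G | g ^ p ≠ 1}) ∧ (Subgroup.closure {g : G | g ^ p ≠ 1}).index = p := by
  haveI := Fact.mk hp
  haveI : (Subgroup.closure {g : G | g ^ p ≠ 1}).Normal := ⟨fun n hn g => by
    induction hn using Subgroup.closure_induction with
    | mem x hx =>
      refine Subgroup.subset_closure fun h => hx ?_
      have h' : g * x ^ p * g⁻¹ = 1 := by rw [← conj_pow]; exact h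
      exact conj_eq_one_iff.mp h'
    | one => simp
    | mul a b _ _ iha ihb =>
      rw [show g * (a * b) * g⁻¹ = g * a * g⁻¹ * (g * b * g⁻¹) by group]
      exact Subgroup.mul_mem _ iha ihb
    | inv a _ iha =>
      rw [show g * a⁻¹ * g⁻¹ = (g * a * g⁻¹)⁻¹ by group]
      exact Subgroup.inv_mem _ iha⟩
  refine hughes hG hH fun g hg => ?_
  by_contra h
  exact hg (Subgroup.subset_closure h)

end Cfsg.Agent.S4249
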