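import Cfsg.Statements.S0949
import Cfsg.Agent.Lib.Blocks.HomocyclicChar
-- import your own Cfsg.Agent.* helpers here

set_option autoImplicit false
open Cfsg

namespace Cfsg.Agent.S0949

universe u

open Cfsg.Agent.Lib

/-- The induction: the Sylow subgroup is normal. -/
theorem normal_sylow (m : ℕ) (hm : 2 ≤ m) (k : ℕ) : ∀ (G : Type u) [Group G] [Finite G],
    Nat.card G = k → ∀ P : Sylow 2 G,
    Nonempty ((P : Subgroup G) ≃* Multiplicative (ZMod (2 ^ m) × ZMod (2 ^ m))) →
    pPrimeCore 2 G = ⊥ → (P : Subgroup G).Normal := by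
  induction k using Nat.strong_induction_on with
  | _ k ih =>
    intro G _ _ hk P he hcore
    obtain ⟨e⟩ := he
    have hcardP : Nat.card (P : Subgroup G) = 2 ^ m * 2 ^ m := by
      rw [Nat.card_congr e.toEquiv, Nat.card_congr Multiplicative.toAdd, Nat.card_prod, Nat.card_zmod]
    have hcommP : ∀ a ∈ (P : Subgroup G), ∀ b ∈ (P : Subgroup G), a * b = b * a := fun a ha b hb =>
      congrArg Subtype.val (e.injective (by rw [map_mul, map_mul, mul_comm]) :
        (⟨a, ha⟩ * ⟨b, hb⟩ : (P : Subgroup G)) = ⟨b, hb⟩ * ⟨a, ha⟩)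
    by_cases h1 : (Subgroup.centralizer (P : Set G)).relIndex (Subgroup.normalizer (P : Set G)) = 1
    · have hNC := Subgroup.relIndex_eq_one.1 h1
      have hker := MonoidHom.ker_transferSylow_isComplement' P hNC
      have hle : (MonoidHom.transferSylow P hNC).ker ≤ pPrimeCore 2 G :=
        PSolvable.le_pPrimeCore (Nat.prime_two.coprime_iff_not_dvd.2
          (MonoidHom.not_dvd_card_ker_transferSylow P hNC)).symm
      rw [le_bot_iff.1 (hle.trans hcore.le)] at hker
      rw [Subgroup.isComplement'_bot_left.1 hker]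
      infer_instance
    · have h945 := Cfsg.Agent.S0945.result P m (by omega) e
      have h3 := h945.1.resolve_left h1
      obtain ⟨n, hnN, hnC⟩ : ∃ n ∈ Subgroup.normalizer (P : Set G),
          n ∉ Subgroup.centralizer (P : Set G) := by
        by_contra! hall
        exact h1 (Subgroup.relIndex_eq_one.2 hall)
      set C := Subgroup.centralizer (P : Set G)
      set N := Subgroup.normalizer (P : Set G)
      have : (C.subgroupOf N).Normal := by
        have := Subgroup.normalizerMonoidHom_ker (P : Subgroup G)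
        exact this ▸ MonoidHom.normal_ker _
      let Q := N ⧸ C.subgroupOf N
      let nQ : Q := QuotientGroup.mk ⟨n, hnN⟩
      have hQ : Nat.card Q = 3 := h3
      have : Fact (Nat.Prime 3) := ⟨Nat.prime_three⟩
      have hne : nQ ≠ 1 := fun e => hnC ((QuotientGroup.eq_one_iff (N := C.subgroupOf N) (⟨n, hnN⟩ : N)).1 e)
      have hD : Blocks.Homocyclic.Data P n := by
        refine ⟨hcommP, hnN, ?_, ?_, ?_⟩
        · have : nQ ^ 3 = 1 := hQ ▸ pow_card_eq_one'
          exact (QuotientGroup.eq_one_iff ((⟨n, hnN⟩ : N) ^ 3)).1 this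
        · intro h hh
          obtain ⟨j, hj⟩ := mem_powers_iff_mem_zpowers.2 (mem_zpowers_of_prime_card (g' := (QuotientGroup.mk ⟨h, hh⟩ : Q)) hQ hne)
          refine ⟨j, (n ^ j)⁻¹ * h, ?_, (mul_inv_cancel_left _ _).symm⟩
          exact (QuotientGroup.eq (s := C.subgroupOf N) (a := (⟨n, hnN⟩ : N) ^ j) (b := ⟨h, hh⟩)).1 hj
        · intro x hx hfix
          by_contra hx1
          refine hnC ((h945.2 h1 x hx hx1).le ⟨?_, hnN⟩)
          exact Subgroup.mem_centralizer_singleton_iff.2 (mul_inv_eq_iff_eq_mul.1 hfix)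
      have h16 : 16 ∣ Nat.card (P : Subgroup G) := by
        rw [hcardP, ← pow_add]
        exact pow_dvd_pow 2 (show 4 ≤ m + m by omega)
      have hexp : ∃ x : (P : Subgroup G), x * x ≠ 1 := by
        refine ⟨e.symm (Multiplicative.ofAdd (1, 0)), fun hx => ?_⟩
        have h2 := congrArg e hx
        rw [map_mul, map_one, e.apply_symm_apply, ← ofAdd_add, ofAdd_eq_one, Prod.mk_add_mk,
          Prod.mk_eq_zero] at h2
        have h22 : ((2 : ℕ) : ZMod (2 ^ m)) = 0 := by push_cast; linear_combination h2.1
        rw [ZMod.natCast_eq_zero_iff] at h22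
        have := (Nat.pow_dvd_pow_iff_le_right (show 1 < 2 by norm_num)).1
          (show 2 ^ m ∣ 2 ^ 1 by simpa using h22)
        omega
      obtain ⟨φ, hφ1, hφP⟩ := Blocks.Homocyclic.exists_linear_char hD h16 hexp
      let K : Subgroup G := φ.ker
      have hKlt : Nat.card K < k := by
        rw [← hk]
        refine lt_of_le_of_ne (Subgroup.card_le_card_group K) fun heq => hφ1 ?_
        exact MonoidHom.ker_eq_top_iff.1 (Subgroup.eq_top_of_card_eq K heq)
      let PK : Sylow 2 K := P.subtype hφP
      have hPK : (PK : Subgroup K) = (P : Subgroup G).subgroupOf K := rfl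
      have hcoreK : pPrimeCore 2 K = ⊥ := by
        have := PSolvable.pPrimeCore_characteristic (p := 2) (G := K)
        have hn : ((pPrimeCore 2 K).map K.subtype).Normal := inferInstance
        have hle : (pPrimeCore 2 K).map K.subtype ≤ pPrimeCore 2 G := by
          refine PSolvable.le_pPrimeCore ?_
          rw [Subgroup.card_map_of_injective K.subtype_injective]
          exact PSolvable.pPrimeCore_coprime
        rw [hcore, le_bot_iff] at hle
        exact (Subgroup.map_eq_bot_iff_of_injective _ K.subtype_injective).1 hle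
      have hPKn : (PK : Subgroup K).Normal := ih _ hKlt K rfl PK
        ⟨(Subgroup.subgroupOfEquivOfLe hφP).trans e⟩ hcoreK
      have := PK.characteristic_of_normal hPKn
      have hn : ((PK : Subgroup K).map K.subtype).Normal := inferInstance
      rwa [hPK, Subgroup.map_subgroupOf_eq_of_le hφP] at hn

/-- Let the finite group G have a Sylow 2-subgroup P isomorphic to Z/2^m × Z/2^m with m ≥ 2, and suppose G has no nontrivial normal subgroup of odd order. Then P is normal in G, C_G(P) = P, and the index of P is 1 or 3. -/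
theorem result {G : Type*} [Group G] [Finite G] (P : Sylow 2 G) (m : ℕ) (hm : 2 ≤ m) (e : (P : Subgroup G) ≃* Multiplicative (ZMod (2 ^ m) × ZMod (2 ^ m))) (hO : ∀ N : Subgroup G, N.Normal → Odd (Nat.card N) → N = ⊥) : (P : Subgroup G).Normal ∧ Subgroup.centralizer (P : Set G) = (P : Subgroup G) ∧ ((P : Subgroup G).index = 1 ∨ (P : Subgroup G).index = 3) := by
  open Cfsg.Agent.Lib in
  have hcore : pPrimeCore 2 G = ⊥ := by
    have := PSolvable.pPrimeCore_characteristic (p := 2) (G := G)
    exact hO _ inferInstance (Nat.odd_iff.2 (Nat.two_dvd_ne_zero.1 PSolvable.pPrimeCore_not_dvd))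
  have hn : (P : Subgroup G).Normal := normal_sylow m hm _ G rfl P ⟨e⟩ hcore
  set C := Subgroup.centralizer ((P : Subgroup G) : Set G) with hC
  have hPC : (P : Subgroup G) ≤ C := fun a ha => Subgroup.mem_centralizer_iff.2 fun b hb =>
    congrArg Subtype.val (e.injective (by rw [map_mul, map_mul, mul_comm]) :
      (⟨b, hb⟩ * ⟨a, ha⟩ : (P : Subgroup G)) = ⟨a, ha⟩ * ⟨b, hb⟩)
  have hCn : C.Normal := by
    have : (Subgroup.centralizer ((P : Subgroup G) : Set G)).Normal := inferInstance
    exact this
  let PC : Sylow 2 C := P.subtype hPC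
  have hNC : Subgroup.normalizer ((PC : Subgroup C) : Set C) ≤
      Subgroup.centralizer ((PC : Subgroup C) : Set C) := fun c _ =>
    Subgroup.mem_centralizer_iff.2 fun q hq =>
      Subtype.ext (Subgroup.mem_centralizer_iff.1 c.2 (q : G) hq)
  have hker := MonoidHom.ker_transferSylow_isComplement' PC hNC
  have hle : (MonoidHom.transferSylow PC hNC).ker ≤ pPrimeCore 2 C :=
    Cfsg.Agent.Lib.PSolvable.le_pPrimeCore (Nat.prime_two.coprime_iff_not_dvd.2
      (MonoidHom.not_dvd_card_ker_transferSylow PC hNC)).symm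
  have hcoreC : pPrimeCore 2 C = ⊥ := by
    have := Cfsg.Agent.Lib.PSolvable.pPrimeCore_characteristic (p := 2) (G := C)
    have hn2 : ((pPrimeCore 2 C).map C.subtype).Normal := inferInstance
    have hle2 : (pPrimeCore 2 C).map C.subtype ≤ pPrimeCore 2 G := by
      refine Cfsg.Agent.Lib.PSolvable.le_pPrimeCore ?_
      rw [Subgroup.card_map_of_injective C.subtype_injective]
      exact Cfsg.Agent.Lib.PSolvable.pPrimeCore_coprime
    rw [hcore, le_bot_iff] at hle2
    exact (Subgroup.map_eq_bot_iff_of_injective _ C.subtype_injective).1 hle2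
  rw [le_bot_iff.1 (hle.trans hcoreC.le)] at hker
  have hCP : C = (P : Subgroup G) :=
    le_antisymm (Subgroup.subgroupOf_eq_top.1 (Subgroup.isComplement'_bot_left.1 hker)) hPC
  refine ⟨hn, hCP, ?_⟩
  have h945 := (Cfsg.Agent.S0945.result P m (by omega) e).1
  have hN : Subgroup.normalizer ((P : Subgroup G) : Set G) = ⊤ := Subgroup.normalizer_eq_top_iff.2 hn
  change C.relIndex (Subgroup.normalizer ((P : Subgroup G) : Set G)) = 1 ∨
    C.relIndex (Subgroup.normalizer ((P : Subgroup G) : Set G)) = 3 at h945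
  rwa [hN, Subgroup.relIndex_top_right, hCP] at h945

end Cfsg.Agent.S0949
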