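import Cfsg.Statements.S0556
import Mathlib
import Cfsg.Agent.Lib.Supersolvable.Schmidt
import Cfsg.Agent.Lib.Frobenius.Kernel
import Cfsg.Agent.Lib.SZ.Conjugacy

set_option linter.style.haveILetI false

set_option autoImplicit false
open Cfsg

namespace Cfsg.Agent.S0556

open Cfsg.Agent.Lib Pointwise commutatorElement in
theorem frobenius_kernel_abelian {Q : Type*} [Group Q] [Finite Q] (A : Subgroup Q) (hA : IsCoatom A)
    [IsMulCommutative A] (hF : Cfsg.IsFrobeniusComplement A) :
    ∃ N : Subgroup Q, N.Normal ∧ IsMulCommutative N ∧ ∀ a b : Q, ⁅a, b⁆ ∈ N := by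
  obtain ⟨N, -, hN, hc⟩ := Frobenius.exists_kernel hF
  haveI := hN
  have hidx : N.index = Nat.card A := hc.symm.index_eq_card
  have hco : (Nat.card N).Coprime N.index := by
    rw [hidx, ← hc.index_eq_card]
    exact (Frobenius.coprime_card_index hF).symm
  haveI : Group.IsSolvable A := Group.isSolvable_of_comm (fun a b => mul_comm' a b)
  have hcomm : ∀ a b : Q, ⁅a, b⁆ ∈ N := by
    intro a b
    rw [← QuotientGroup.eq_one_iff (N := N), ← QuotientGroup.mk'_apply, map_commutatorElement,
      commutatorElement_eq_one_iff_mul_comm]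
    apply hc.symm.QuotientMulEquiv.injective
    rw [map_mul, map_mul, mul_comm']
  refine ⟨N, hN, ?_, hcomm⟩
  have hNA : N ⊓ A = ⊥ := disjoint_iff.1 hc.disjoint
  have hNne : N ≠ ⊥ := fun e => hA.1 (by
    have := hc.sup_eq_top
    rwa [e, bot_sup_eq] at this)
  have hsyl : ∀ (r : ℕ) (_ : Fact r.Prime) (R : Sylow r N),
      ((R : Subgroup N).map N.subtype).Normal := by
    intro r _ R
    let R' : Subgroup Q := (R : Subgroup N).map N.subtype
    show R'.Normal
    rw [← Subgroup.normalizer_eq_top_iff]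
    by_contra hX
    have hfr : Subgroup.normalizer (R' : Set Q) ⊔ N = ⊤ := R.normalizer_sup_eq_top
    let X : Subgroup Q := Subgroup.normalizer (R' : Set Q)
    have hi : (N.subgroupOf X).index = N.index := by
      show N.relIndex X = N.index
      rw [← Subgroup.relIndex_sup_right X N, hfr, Subgroup.relIndex_top_right]
    have hcX : Nat.card (N.subgroupOf X) ∣ Nat.card N := by
      refine dvd_trans (dvd_of_eq ?_) (Subgroup.card_dvd_of_le (inf_le_left : N ⊓ X ≤ N))
      rw [← Subgroup.card_map_of_injective X.subtype_injective, Subgroup.subgroupOf_map_subtype]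
    obtain ⟨B, hB⟩ := Subgroup.exists_right_complement'_of_coprime (N := N.subgroupOf X)
      (by rw [hi]; exact hco.coprime_dvd_left hcX)
    have hBc : Nat.card (B.map X.subtype) = N.index := by
      rw [Subgroup.card_map_of_injective X.subtype_injective, ← hB.symm.index_eq_card, hi]
    obtain ⟨g, hg⟩ := SZ.conj_of_card_eq_index N A (B.map X.subtype) hco (Or.inr inferInstance)
      hidx.symm hBc
    have hle : MulAut.conj g • A ≤ X := hg ▸ Subgroup.map_subtype_le B
    have hAX : A ≤ (MulAut.conj g)⁻¹ • X := Subgroup.pointwise_smul_subset_iff.1 hle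
    rcases hA.le_iff.1 hAX with e | e
    · apply hX
      refine top_le_iff.1 fun x _ => ?_
      have h4 : (MulAut.conj g)⁻¹ • x ∈ (MulAut.conj g)⁻¹ • X := e ▸ Subgroup.mem_top _
      exact Subgroup.smul_mem_pointwise_smul_iff.1 h4
    · apply hX
      have h1 : R' ≤ N := Subgroup.map_subtype_le _
      have h2 : (MulAut.conj g)⁻¹ • R' ≤ N ⊓ A := by
        refine le_inf ?_ (e ▸ Subgroup.pointwise_smul_le_pointwise_smul_iff.2 Subgroup.le_normalizer)
        rw [← map_inv]
        refine (Subgroup.pointwise_smul_le_pointwise_smul_iff.2 h1).trans ?_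
        exact (Supersolvable.mem_normalizer_iff_conj_smul.1
          (Subgroup.normalizer_eq_top_iff.2 hN ▸ Subgroup.mem_top g⁻¹)).le
      rw [hNA, le_bot_iff, inv_smul_eq_iff] at h2
      show Subgroup.normalizer (R' : Set Q) = ⊤
      rw [h2, Subgroup.smul_bot]
      exact Subgroup.normalizer_eq_top_iff.2 Subgroup.normal_bot
  have hnil : Group.IsNilpotent N := by
    rw [Supersolvable.isNilpotent_iff_all_sylow_normal]
    intro r hr R
    haveI := hsyl r hr R
    have h1 : ((R : Subgroup N).map N.subtype).comap N.subtype = (R : Subgroup N) :=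
      Subgroup.comap_map_eq_self_of_injective N.subtype_injective _
    rw [← h1]
    infer_instance
  haveI := (Subgroup.nontrivial_iff_ne_bot N).2 hNne
  let C : Subgroup Q := (Subgroup.center N).map N.subtype
  have hCne : C ≠ ⊥ := by
    rw [Ne, Subgroup.map_eq_bot_iff_of_injective _ N.subtype_injective]
    exact Group.IsNilpotent.center_ne_bot N
  haveI hC : C.Normal := inferInstance
  have hCA : C ⊔ A = ⊤ := hA.2 _ (lt_of_le_of_ne le_sup_right fun e => hCne (le_bot_iff.1
    (hNA ▸ le_inf (Subgroup.map_subtype_le _) ((le_sup_left : C ≤ C ⊔ A).trans_eq e.symm))))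
  have hmem : ∀ n : N, n ∈ Subgroup.center N := by
    intro n
    obtain ⟨c, ⟨z, hz, hzc⟩, a, ha, hca⟩ :=
      Subgroup.mem_sup_of_normal_left.1 (hCA ▸ Subgroup.mem_top (n : Q) : (n : Q) ∈ C ⊔ A)
    have haN : a ∈ N := by
      have : a = c⁻¹ * n := by rw [← hca]; group
      rw [this, ← hzc]
      exact mul_mem (inv_mem z.2) n.2
    have ha1 : a = 1 := (Subgroup.eq_bot_iff_forall _).1 hNA a ⟨haN, ha⟩
    rw [ha1, mul_one, ← hzc] at hca
    rwa [← show z = n from Subtype.ext hca]
  exact ⟨⟨fun a b => (Subgroup.mem_center_iff.1 (hmem b) a)⟩⟩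

open Cfsg.Agent.Lib Pointwise commutatorElement in
theorem derived_three_eq_bot {G : Type*} [Group G] [Finite G] (A : Subgroup G) (hA : IsCoatom A)
    [IsMulCommutative A] : derivedSeries G 3 = ⊥ := by
  have hAA : ⁅A, A⁆ = ⊥ := by
    rw [eq_bot_iff, Subgroup.commutator_le]
    intro a ha b hb
    rw [Subgroup.mem_bot, commutatorElement_eq_one_iff_mul_comm]
    exact congrArg Subtype.val (mul_comm' (⟨a, ha⟩ : A) ⟨b, hb⟩)
  by_cases hAn : A.Normal
  · haveI := hAn
    -- the quotient is generated by one element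
    obtain ⟨x, hx⟩ : ∃ x, x ∉ A := by
      by_contra hc
      push Not at hc
      exact hA.1 ((Subgroup.eq_top_iff' A).2 hc)
    have htop : A ⊔ Subgroup.zpowers x = ⊤ := hA.2 _ (lt_of_le_of_ne le_sup_left
      fun e => hx (e ▸ Subgroup.mem_sup_right (Subgroup.mem_zpowers x)))
    have h1 : derivedSeries G 1 ≤ A := by
      rw [derivedSeries_one, commutator_def, Subgroup.commutator_le]
      intro a _ b _
      rw [← QuotientGroup.eq_one_iff (N := A), ← QuotientGroup.mk'_apply, map_commutatorElement,
        commutatorElement_eq_one_iff_mul_comm]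
      have hz : ∀ y : G, QuotientGroup.mk' A y ∈ Subgroup.zpowers (QuotientGroup.mk' A x) := by
        intro y
        have h2 := Subgroup.mem_map_of_mem (QuotientGroup.mk' A) (htop ▸ Subgroup.mem_top y : y ∈ A ⊔ Subgroup.zpowers x)
        rwa [Subgroup.map_sup, QuotientGroup.map_mk'_self, bot_sup_eq, MonoidHom.map_zpowers] at h2
      obtain ⟨i, hi⟩ := Subgroup.mem_zpowers_iff.1 (hz a)
      obtain ⟨j, hj⟩ := Subgroup.mem_zpowers_iff.1 (hz b)
      rw [← hi, ← hj]
      exact (Commute.refl _).zpow_zpow i j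
    have h2 : derivedSeries G 2 = ⊥ := by
      rw [derivedSeries_succ, eq_bot_iff, ← hAA]
      exact Subgroup.commutator_mono h1 h1
    exact le_bot_iff.1 (h2 ▸ derivedSeries_antitone G (by norm_num))
  -- otherwise `A` is self-normalising
  have hNA : Subgroup.normalizer (A : Set G) = A :=
    (hA.le_iff.1 Subgroup.le_normalizer).resolve_left fun e => hAn (Subgroup.normalizer_eq_top_iff.1 e)
  let Z := Subgroup.center G
  have hZA : Z ≤ A := by
    rw [← hNA]
    exact Subgroup.center_le_normalizer _
  have hinter : ∀ g : G, g ∉ A → A ⊓ MulAut.conj g • A ≤ Z := by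
    intro g hg
    have hne : MulAut.conj g • A ≠ A := fun e => hg (hNA ▸ Supersolvable.mem_normalizer_iff_conj_smul.2 e)
    have htop : A ⊔ MulAut.conj g • A = ⊤ := hA.2 _ (lt_of_le_of_ne le_sup_left fun e => hne
      (Subgroup.eq_of_le_of_card_ge (le_sup_right.trans_eq e.symm)
        (Nat.card_congr (Subgroup.equivSMul (MulAut.conj g) A).toEquiv).le))
    intro z hz
    rw [Subgroup.mem_center_iff]
    intro y
    have hle : A ⊔ MulAut.conj g • A ≤ Subgroup.centralizer {z} := by
      refine sup_le (fun a ha => ?_) ?_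
      · rw [Subgroup.mem_centralizer_singleton_iff]
        exact congrArg Subtype.val (mul_comm' (⟨a, ha⟩ : A) ⟨z, hz.1⟩)
      · rintro _ ⟨a, ha, rfl⟩
        obtain ⟨b, hb, hbz⟩ := hz.2
        rw [Subgroup.mem_centralizer_singleton_iff, ← hbz]
        show MulAut.conj g a * MulAut.conj g b = MulAut.conj g b * MulAut.conj g a
        rw [← map_mul, ← map_mul]
        exact congrArg _ (congrArg Subtype.val (mul_comm' (⟨a, ha⟩ : A) ⟨b, hb⟩))
    exact Subgroup.mem_centralizer_singleton_iff.1 (hle (htop ▸ Subgroup.mem_top y))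
  let f := QuotientGroup.mk' Z
  have hf : Function.Surjective f := QuotientGroup.mk'_surjective Z
  let B := A.map f
  have hB : B.comap f = A := by
    rw [Subgroup.comap_map_eq, QuotientGroup.ker_mk', sup_eq_left.2 hZA]
  have hBc : IsCoatom B := Supersolvable.isCoatom_map_of_le hA hZA
  have hFB : Cfsg.IsFrobeniusComplement B := by
    refine ⟨fun e => hAn ?_, hBc.1, fun y hy => ?_⟩
    · have h1 : A = Z := by
        rw [← hB, e, MonoidHom.comap_bot, QuotientGroup.ker_mk']
      rw [h1]
      exact inferInstanceAs (Subgroup.center G).Normal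
    · obtain ⟨g, rfl⟩ := hf y
      have hgA : g ∉ A := fun h => hy (Subgroup.mem_map_of_mem f h)
      rw [eq_bot_iff]
      intro y hy'
      obtain ⟨h1, h2⟩ := hy'
      obtain ⟨a, ha, rfl⟩ := h1
      obtain ⟨w, hw, hwa⟩ := h2
      obtain ⟨b, hb, rfl⟩ := hw
      have haA : a ∈ MulAut.conj g • A := by
        have h3 : (g * b * g⁻¹)⁻¹ * a ∈ Z := by
          refine QuotientGroup.eq.1 (show f (g * b * g⁻¹) = f a from ?_)
          rw [map_mul, map_mul, map_inv]
          exact hwa
        have h4 : a = (g * b * g⁻¹) * ((g * b * g⁻¹)⁻¹ * a) := by group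
        rw [h4]
        refine mul_mem (Subgroup.smul_mem_pointwise_smul b (MulAut.conj g) A hb) ?_
        have hz : (g * b * g⁻¹)⁻¹ * a = g * ((g * b * g⁻¹)⁻¹ * a) * g⁻¹ := by
          rw [Subgroup.mem_center_iff.1 h3 g, mul_inv_cancel_right]
        rw [hz]
        exact Subgroup.smul_mem_pointwise_smul _ (MulAut.conj g) A (hZA h3)
      rw [Subgroup.mem_bot]
      exact (QuotientGroup.eq_one_iff a).2 (hinter g hgA ⟨ha, haA⟩)
  haveI : IsMulCommutative B := by
    refine ⟨⟨?_⟩⟩
    rintro ⟨_, a, ha, rfl⟩ ⟨_, b, hb, rfl⟩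
    refine Subtype.ext ?_
    show f a * f b = f b * f a
    rw [← map_mul, ← map_mul, show a * b = b * a from congrArg Subtype.val (mul_comm' (⟨a, ha⟩ : A) ⟨b, hb⟩)]
  obtain ⟨N, hN, hNc, hcomm⟩ := frobenius_kernel_abelian B hBc hFB
  have h1 : derivedSeries (G ⧸ Z) 1 ≤ N := by
    rw [derivedSeries_one, commutator_def, Subgroup.commutator_le]
    exact fun a _ b _ => hcomm a b
  have h2 : derivedSeries (G ⧸ Z) 2 = ⊥ := by
    rw [derivedSeries_succ, eq_bot_iff]
    refine (Subgroup.commutator_mono h1 h1).trans ?_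
    rw [Subgroup.commutator_le]
    intro a ha b hb
    rw [Subgroup.mem_bot, commutatorElement_eq_one_iff_mul_comm]
    exact congrArg Subtype.val (mul_comm' (⟨a, ha⟩ : N) ⟨b, hb⟩)
  have h3 : derivedSeries G 2 ≤ Z := by
    rw [← QuotientGroup.ker_mk' Z, ← Subgroup.map_eq_bot_iff, map_derivedSeries_eq hf, h2]
  rw [derivedSeries_succ, eq_bot_iff, ← hAA]
  exact Subgroup.commutator_mono (h3.trans hZA) (h3.trans hZA)


/-- If a finite group has a maximal subgroup that is abelian, then the third term of its derived series is trivial (so the group is solvable of derived length at most three). -/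
theorem result {G : Type*} [Group G] [Finite G] (A : Subgroup G) (hA : IsCoatom A) [IsMulCommutative A] : derivedSeries G 3 = ⊥ := by
  exact derived_three_eq_bot A hA

end Cfsg.Agent.S0556
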