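import Cfsg.Statements.S0105
import Cfsg.Agent.Lib.Transfer.Abelian

set_option autoImplicit false
open Cfsg

namespace Cfsg.Agent.S0105

open scoped Pointwise

/-- With an abelian Sylow p-subgroup P, some quotient of G is isomorphic to the part of P central in N_G(P). -/
theorem result {G : Type*} [Group G] [Finite G] {p : ℕ} [Fact p.Prime] (P : Sylow p G) (hP : IsMulCommutative P) : ∃ (N : Subgroup G) (hN : N.Normal), Nonempty (G ⧸ N ≃* ((P : Subgroup G) ⊓ Subgroup.centralizer (Subgroup.normalizer (P : Set G) : Set G) : Subgroup G)) := by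
  obtain ⟨h1, h2, h3⟩ := Lib.Transfer.abelian_sylow_normalizer P hP
  rw [Subgroup.commutator_inf_eq_focalSubgroup] at h1
  rw [h1] at h2 h3
  set C := (P : Subgroup G) ⊓
    Subgroup.centralizer (Subgroup.normalizer ((P : Subgroup G) : Set G) : Set G)
  refine ⟨(P : Subgroup G).transferFocal.ker, MonoidHom.normal_ker _, ?_⟩
  let f : C →* (P : Subgroup G) ⧸ (P : Subgroup G).focalSubgroupOf :=
    (QuotientGroup.mk' _).comp (Subgroup.inclusion (inf_le_left : C ≤ (P : Subgroup G)))
  have hf : Function.Bijective f := by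
    constructor
    · rw [← MonoidHom.ker_eq_bot_iff, eq_bot_iff]
      intro c hc
      have hc' : (c : G) ∈ (⊥ : Subgroup G) :=
        h2 ▸ ⟨Subgroup.mem_subgroupOf.mp ((QuotientGroup.eq_one_iff (N := (P : Subgroup G).focalSubgroupOf) (Subgroup.inclusion (inf_le_left : C ≤ (P : Subgroup G)) c)).mp hc), c.2⟩
      exact Subtype.ext (Subgroup.mem_bot.mp hc')
    · intro y
      obtain ⟨⟨x, hx⟩, rfl⟩ := QuotientGroup.mk_surjective y
      rw [← h3] at hx
      obtain ⟨a, ha, b, hb, hab⟩ : x ∈
          ((P : Subgroup G).focalSubgroup : Set G) * (C : Set G) := by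
        rw [← Subgroup.coe_mul_of_left_le_normalizer_right _ _
          ((Subgroup.focalSubgroup_le _).trans (Lib.Transfer.sylow_le_normalizer_of_le_centralizer
            (inf_le_left : C ≤ (P : Subgroup G))
            ((inf_le_left : C ≤ (P : Subgroup G)).trans
              (Lib.Transfer.le_centralizer_of_isMulCommutative hP le_rfl))))]
        exact hx
      refine ⟨⟨b, hb⟩, QuotientGroup.eq.mpr ?_⟩
      rw [Subgroup.focalSubgroupOf_def, Subgroup.mem_subgroupOf]
      show b⁻¹ * x ∈ _
      have hcomm : a * b = b * a :=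
        congrArg Subtype.val (hP.1.1 ⟨a, Subgroup.focalSubgroup_le _ ha⟩ ⟨b, hb.1⟩)
      simp only at hab
      rw [← hab, hcomm, inv_mul_cancel_left]
      exact ha
  exact ⟨(Subgroup.transferFocal.quotientKerMulEquivQuotientFocalSubroupOf P).trans
    (MulEquiv.ofBijective f hf).symm⟩

end Cfsg.Agent.S0105
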