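import Cfsg.Statements.S5551
import Cfsg.Agent.Lib.Leech.Basic

set_option autoImplicit false
open Cfsg
open Cfsg.Agent.Lib.Leech

namespace Cfsg.Agent.S5551

theorem sqNorm_two_smul (z : GolayPt → ℤ) : sqNorm (2 • z) = 4 * sqNorm z := by
  simp only [sqNorm, Finset.mul_sum]
  exact Finset.sum_congr rfl fun i _ => by simp only [Pi.smul_apply, nsmul_eq_mul]; push_cast; ring


/-- In the Leech lattice of the definitions (integer coordinates, minimal squared length 32), let v and w be non-zero lattice vectors of squared length at most 64 that are congruent modulo twice the lattice. Then they have the same squared length, and if that length is less than 64 then w = v or w = −v. (So a class that contains a non-zero vector of squared length at most 64 has a well-defined type 2, 3 or 4, and a class of type 2 or 3 contains no such vector other than v and −v.) -/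
theorem result (v w : Cfsg.GolayPt → ℤ) (hv : v ∈ Cfsg.leechLattice) (hw : w ∈ Cfsg.leechLattice) (hv0 : v ≠ 0) (hw0 : w ≠ 0) (hvn : Cfsg.sqNorm v ≤ 64) (hwn : Cfsg.sqNorm w ≤ 64) (hc : ∃ z ∈ Cfsg.leechLattice, v - w = 2 • z) : Cfsg.sqNorm v = Cfsg.sqNorm w ∧ (Cfsg.sqNorm v < 64 → w = v ∨ w = -v) := by
  obtain ⟨z, hz, e⟩ := hc
  by_cases hz0 : z = 0
  · subst hz0
    rw [smul_zero, sub_eq_zero] at e
    subst e
    exact ⟨rfl, fun _ => Or.inl rfl⟩
  by_cases hu0 : v - z = 0
  · have e2 : w = -v := by
      have h1 : v = z := sub_eq_zero.1 hu0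
      subst h1
      rw [two_nsmul] at e
      have : w = v - (v - w) := by abel
      rw [this, e]; abel
    subst e2
    exact ⟨(sqNorm_neg v).symm, fun _ => Or.inr rfl⟩
  have e2 : v + w = 2 • (v - z) := by
    have : v + w = 2 • v - (v - w) := by rw [two_nsmul]; abel
    rw [this, e, smul_sub]
  have h1 := sqNorm_min hz hz0
  have h2 := sqNorm_min (sub_mem hv hz) hu0
  have h3 := dotInt_add_self v w
  have h4 := dotInt_add_self v (-w)
  rw [← sub_eq_add_neg, e, sqNorm_two_smul, sqNorm_neg] at h4
  rw [e2, sqNorm_two_smul] at h3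
  have h5 : dotInt v (-w) = -dotInt v w := by simp [dotInt]
  rw [h5] at h4
  refine ⟨?_, ?_⟩ <;> omega

end Cfsg.Agent.S5551
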