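import Cfsg.Statements.S5552
import Cfsg.Agent.Lib.Leech.Orbits

set_option autoImplicit false
open Cfsg

namespace Cfsg.Agent.S5552

open Cfsg.Agent.Lib.Leech

/-- `-4 e i + 4 e ∞`. -/
def vec44' (i : GolayPt) : GolayPt → ℤ := fun j =>
  (if j = i then -4 else 0) + (if j = none then 4 else 0)

/-- A short vector not orthogonal to `vec31 none`. -/
def Good (y : GolayPt → ℤ) : Prop :=
  y ∈ leechLattice ∧ sqNorm y = 32 ∧ dotInt (vec31 none) y ≠ 0

theorem good_check : (∀ i : GolayPt, i ≠ none →
      (leechChk (vec44 i) = true ∧ sqNorm (vec44 i) = 32 ∧ dotInt (vec31 none) (vec44 i) ≠ 0) ∧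
      (leechChk (vec44' i) = true ∧ sqNorm (vec44' i) = 32 ∧ dotInt (vec31 none) (vec44' i) ≠ 0)) ∧
    (∀ t : ZMod 23, leechChk (lift2 (qrWord t) - vec31 none) = true ∧
      sqNorm (lift2 (qrWord t) - vec31 none) = 32 ∧
      dotInt (vec31 none) (lift2 (qrWord t) - vec31 none) ≠ 0) := by
  decide +kernel

theorem sqNorm_vec31 : sqNorm (vec31 none) = 32 := by decide +kernel

theorem le_of_good {P : AddSubgroup (GolayPt → ℤ)} (h : ∀ y, Good y → y ∈ P) :
    leechLattice ≤ P := by
  have h31 : vec31 none ∈ P :=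
    h _ ⟨vec31_mem none, sqNorm_vec31, by rw [dotInt_self, sqNorm_vec31]; norm_num⟩
  have hA : ∀ i : GolayPt, i ≠ none → vec44 i ∈ P ∧ vec44' i ∈ P := fun i hi =>
    ⟨h _ ⟨leechChk_sound (good_check.1 i hi).1.1, (good_check.1 i hi).1.2⟩,
      h _ ⟨leechChk_sound (good_check.1 i hi).2.1, (good_check.1 i hi).2.2⟩⟩
  have h8 : vec44 none ∈ P := by
    have e : vec44 none = vec44 (some 0) + vec44' (some 0) := by decide +kernel
    rw [e]; exact add_mem (hA _ (by decide)).1 (hA _ (by decide)).2
  have h44 : ∀ i, vec44 i ∈ P := fun i => by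
    by_cases hi : i = none
    · exact hi ▸ h8
    · exact (hA i hi).1
  have hqr : ∀ t, lift2 (qrWord t) ∈ P := fun t => by
    have := add_mem (h _ ⟨leechChk_sound (good_check.2 t).1, (good_check.2 t).2⟩) h31
    rwa [sub_add_cancel] at this
  have h1 : lift2 1 ∈ P := by
    have e : lift2 1 = vec31 none + vec31 none + vec44 none := by decide +kernel
    rw [e]; exact add_mem (add_mem h31 h31) h8
  have h4 : ∀ z : GolayPt → ℤ, (2 : ℤ) ∣ ∑ i, z i → (fun i => 4 * z i) ∈ P := by
    rintro z ⟨k, hk⟩
    have : (fun i => 4 * z i) = ∑ i, z i • vec44 i + (-k) • vec44 none := by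
      funext j
      simp only [Pi.add_apply, Finset.sum_apply, Pi.smul_apply, smul_eq_mul, vec44, mul_add,
        Finset.sum_add_distrib, mul_ite, mul_zero, Finset.sum_ite_eq, Finset.mem_univ, if_true]
      by_cases hj : j = none
      · simp only [hj, if_true]
        rw [← Finset.sum_mul, hk]; ring
      · simp only [hj, if_false, Finset.sum_const_zero]; ring
    rw [this]
    exact add_mem (sum_mem fun i _ => zsmul_mem (h44 i) _) (zsmul_mem h8 _)
  have hl : ∀ c ∈ golayCode, lift2 c ∈ P := by
    intro c hc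
    induction hc using Submodule.span_induction with
    | mem c hc =>
      rcases hc with ⟨t, rfl⟩ | rfl
      · exact hqr t
      · exact h1
    | zero =>
      rw [show lift2 0 = 0 from funext fun i => by simp [lift2]]
      exact zero_mem _
    | add a b ha hb iha ihb =>
      have e : lift2 (a + b) = lift2 a + lift2 b - fun i => 4 * ((a i * b i).val : ℤ) := by
        funext i
        simp only [lift2, Pi.add_apply, Pi.sub_apply]
        rcases zmod2_cases (a i) with h | h <;> rcases zmod2_cases (b i) with h' | h' <;>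
          rw [h, h'] <;> rfl
      rw [e]
      refine sub_mem (add_mem iha ihb) (h4 _ ?_)
      refine (ZMod.intCast_zmod_eq_zero_iff_dvd _ 2).1 (Eq.trans ?_ (code_dot ha hb))
      rw [Int.cast_sum]
      exact Finset.sum_congr rfl fun i _ => by simp
    | smul r a _ iha =>
      rcases zmod2_cases r with rfl | rfl
      · rw [zero_smul, show lift2 0 = 0 from funext fun i => by simp [lift2]]; exact zero_mem _
      · rwa [one_smul]
  have heven : ∀ x ∈ leechLattice, (∀ i, x i % 2 = 0) → x ∈ P := by
    intro x hx h0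
    obtain ⟨m, y, hm, hxy, hy, hc⟩ := exists_half hx
    obtain rfl : m = 0 := by
      have := hxy none; have := h0 none; rcases hm with rfl | rfl <;> omega
    let c : GolayPt → ZMod 2 := fun i => (y i : ZMod 2)
    have hval : ∀ i, ((c i).val : ℤ) = y i % 2 := fun i => by
      simp only [c]; rw [ZMod.val_intCast]; rfl
    let z : GolayPt → ℤ := fun i => y i / 2
    have e : x = lift2 c + fun i => 4 * z i := funext fun i => by
      simp only [lift2, Pi.add_apply, hval, z, hxy i]; omega
    rw [e]
    refine add_mem (hl c hc) (h4 _ ?_)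
    have hs : ∑ i, y i = 2 * (∑ i, z i) + ∑ i, ((c i).val : ℤ) := by
      rw [Finset.mul_sum, ← Finset.sum_add_distrib]
      exact Finset.sum_congr rfl fun i _ => by rw [hval]; simp only [z]; omega
    have hcard : ∑ i, ((c i).val : ℤ) = ((support₂ c).card : ℤ) := by
      rw [support₂, Finset.card_filter, Nat.cast_sum]
      exact Finset.sum_congr rfl fun i _ => by
        rcases zmod2_cases (c i) with h | h <;> rw [h] <;> rfl
    obtain ⟨k, hk⟩ := code_weight_dvd hc
    change (support₂ c).card = _ at hk
    omega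
  intro x hx
  rcases mem_leech_iff.1 hx with ⟨p, -, -⟩ | ⟨p, -, -⟩
  · exact heven x hx p
  · have := add_mem (heven _ (sub_mem hx (vec31_mem none)) fun i => by
      have := p i
      simp only [Pi.sub_apply, vec31]
      split <;> omega) h31
    rwa [sub_add_cancel] at this

theorem witness_check :
    let x : GolayPt → ℤ := -vec44' (some 5)
    let y : GolayPt → ℤ := vec31 none
    let z : GolayPt → ℤ := vec31 none - lift2 (qrWord 0)
    leechChk x = true ∧ leechChk z = true ∧ sqNorm x = 32 ∧ sqNorm y = 32 ∧ sqNorm z = 32 ∧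
      sqNorm (x - y) = 32 ∧ sqNorm (z - x) = 32 ∧ sqNorm (z - y) = 48 ∧
      sqNorm (z - (x - y)) = 48 := by
  decide +kernel

section quad

variable {Q : leechLattice → ZMod 2}
  (hcoset : ∀ v w : leechLattice, Q (v + (w + w)) = Q v)
  (hquad : ∀ u v w : leechLattice,
    Q (u + v + w) + Q u + Q v + Q w = Q (u + v) + Q (u + w) + Q (v + w))
  (hinv : ∀ (g : Co0) (v : leechLattice), Q (g • v) = Q v)

include hquad in
theorem map_zero' : Q 0 = 0 := by
  have := hquad 0 0 0
  simp only [add_zero] at this
  revert this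
  generalize Q 0 = a
  revert a; decide

include hcoset in
theorem sub_eq_add' (v w : leechLattice) : Q (v - w) = Q (v + w) := by
  rw [← hcoset (v - w) w]; congr 1; abel

include hcoset hquad in
theorem value32 (hc32 : ∀ v w : leechLattice, sqNorm (v : GolayPt → ℤ) = 32 →
    sqNorm (w : GolayPt → ℤ) = 32 → Q v = Q w)
    (hc48 : ∀ v w : leechLattice, sqNorm (v : GolayPt → ℤ) = 48 →
    sqNorm (w : GolayPt → ℤ) = 48 → Q v = Q w)
    (u : leechLattice) (hu : sqNorm (u : GolayPt → ℤ) = 32) : Q u = 0 := by
  obtain ⟨hx, hz, nx, ny, nz, nxy, nzx, nzy, nzw⟩ := witness_check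
  set x : leechLattice := ⟨_, leechChk_sound hx⟩
  set y : leechLattice := ⟨_, vec31_mem none⟩
  set z : leechLattice := ⟨_, leechChk_sound hz⟩
  have h := hquad z y (x - y)
  rw [show z + y + (x - y) = z + x by abel, show y + (x - y) = x by abel,
    ← sub_eq_add' hcoset z x, ← sub_eq_add' hcoset z y, ← sub_eq_add' hcoset z (x - y)] at h
  rw [hc32 (z - x) u nzx hu, hc32 z u nz hu, hc32 y u ny hu, hc32 (x - y) u nxy hu,
    hc32 x u nx hu, hc48 (z - (x - y)) (z - y) nzw nzy] at h
  revert h
  generalize Q u = a; generalize Q (z - y) = b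
  revert a b; decide

include hcoset hquad hinv in
theorem eq_zero_of_short (h32 : ∀ v : leechLattice, sqNorm (v : GolayPt → ℤ) = 32 → Q v = 0)
    (h48 : ∀ v : leechLattice, sqNorm (v : GolayPt → ℤ) = 48 → Q v = 0)
    (v : leechLattice) : Q v = 0 := by
  have hQ0 := map_zero' hquad
  -- orthogonality outside dot product zero
  have key : ∀ x y : leechLattice, sqNorm (x : GolayPt → ℤ) = 32 →
      sqNorm (y : GolayPt → ℤ) = 32 → dotInt (x : GolayPt → ℤ) y ≠ 0 → Q (x + y) = 0 := by
    intro x y hx hy hd
    have hp := dotInt_add_self (x : GolayPt → ℤ) y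
    have hm := dotInt_add_self (x : GolayPt → ℤ) (-y : leechLattice)
    have e : dotInt (x : GolayPt → ℤ) ((-y : leechLattice) : GolayPt → ℤ) = -dotInt x.1 y.1 := by
      simp [dotInt]
    have ey : sqNorm ((-y : leechLattice) : GolayPt → ℤ) = 32 := (sqNorm_neg y.1).trans hy
    rw [e, ey, hx] at hm
    rw [hx, hy] at hp
    have hd8 := dotInt_dvd x.2 y.2
    have short : ∀ s : leechLattice, (sqNorm (s : GolayPt → ℤ) ≤ 48) → Q s = 0 := by
      intro s hs
      by_cases s0 : (s : GolayPt → ℤ) = 0
      · rw [show s = 0 from Subtype.ext s0]; exact hQ0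
      have := sqNorm_min s.2 s0
      have := sqNorm_dvd s.2
      rcases (show sqNorm (s : GolayPt → ℤ) = 32 ∨ sqNorm (s : GolayPt → ℤ) = 48 by omega) with
        h | h
      · exact h32 s h
      · exact h48 s h
    rcases lt_or_gt_of_ne hd with h | h
    · refine short _ ?_
      show sqNorm (x.1 + y.1) ≤ 48
      omega
    · rw [← sub_eq_add' hcoset, sub_eq_add_neg]
      refine short _ ?_
      show sqNorm (x.1 + (-y : leechLattice).1) ≤ 48
      omega
  -- the radical of the polar form
  let R : AddSubgroup leechLattice :=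
    { carrier := {u | ∀ w, Q (u + w) + Q u + Q w = 0}
      zero_mem' := fun w => by
        rw [zero_add, hQ0]; generalize Q w = a; revert a; decide
      add_mem' := fun {a b} ha hb w => by
        have h1 := hquad a b w
        have h2 := ha b
        have h3 := ha w
        have h4 := hb w
        revert h1 h2 h3 h4
        generalize Q (a + b + w) = p; generalize Q (a + b) = q; generalize Q (a + w) = r
        generalize Q (b + w) = s; generalize Q a = i; generalize Q b = j; generalize Q w = k
        revert p q r s i j k; decide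
      neg_mem' := fun {a} ha w => by
        rw [show -a + w = (a + w) + ((-a) + (-a)) by abel, hcoset]
        rw [show Q (-a) = Q a by rw [← hcoset (-a) a]; congr 1; abel]
        exact ha w }
  let x0 : leechLattice := ⟨vec31 none, vec31_mem none⟩
  let K : AddSubgroup leechLattice :=
    { carrier := {u | Q (x0 + u) + Q x0 + Q u = 0}
      zero_mem' := by
        show Q (x0 + 0) + Q x0 + Q 0 = 0
        rw [add_zero, hQ0]; generalize Q x0 = a; revert a; decide
      add_mem' := fun {a b} ha hb => by
        have h1 := hquad x0 a b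
        have h2 : Q (x0 + a) + Q x0 + Q a = 0 := ha
        have h3 : Q (x0 + b) + Q x0 + Q b = 0 := hb
        show Q (x0 + (a + b)) + Q x0 + Q (a + b) = 0
        rw [← add_assoc]
        revert h1 h2 h3
        generalize Q (x0 + a + b) = p; generalize Q (a + b) = q; generalize Q (x0 + a) = r
        generalize Q (x0 + b) = s; generalize Q a = i; generalize Q b = j; generalize Q x0 = k
        revert p q r s i j k; decide
      neg_mem' := fun {a} ha => by
        show Q (x0 + -a) + Q x0 + Q (-a) = 0
        rw [← sub_eq_add_neg, sub_eq_add' hcoset,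
          show Q (-a) = Q a by rw [← hcoset (-a) a]; congr 1; abel]
        exact ha }
  have hK : ∀ u : leechLattice, u ∈ K := by
    intro u
    have := le_of_good (P := K.map leechLattice.subtype) (fun y hy =>
      ⟨⟨y, hy.1⟩, by
        show Q (x0 + ⟨y, hy.1⟩) + Q x0 + Q ⟨y, hy.1⟩ = 0
        rw [key x0 ⟨y, hy.1⟩ sqNorm_vec31 hy.2.1 hy.2.2, h32 x0 sqNorm_vec31,
          h32 ⟨y, hy.1⟩ hy.2.1]
        rfl, rfl⟩) u.2
    obtain ⟨u', hu', e⟩ := this
    rwa [Subtype.ext e] at hu'
  have hR : ∀ u : leechLattice, sqNorm (u : GolayPt → ℤ) = 32 → u ∈ R := by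
    intro u hu w
    obtain ⟨g, hg⟩ := exists_smul32 u x0 hu sqNorm_vec31
    have := hK (g • w)
    change Q (x0 + g • w) + Q x0 + Q (g • w) = 0 at this
    rwa [← hg, ← smul_add', hinv, hinv, hinv] at this
  let L : AddSubgroup leechLattice :=
    { carrier := {u | u ∈ R ∧ Q u = 0}
      zero_mem' := ⟨zero_mem _, hQ0⟩
      add_mem' := fun {a b} ha hb => ⟨add_mem ha.1 hb.1, by
        have h := ha.1 b
        rw [ha.2, hb.2] at h
        simpa using h⟩
      neg_mem' := fun {a} ha => ⟨neg_mem ha.1, by
        rw [← hcoset (-a) a, show -a + (a + a) = a by abel]; exact ha.2⟩ }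
  have := le_of_good (P := L.map leechLattice.subtype) (fun y hy =>
    ⟨⟨y, hy.1⟩, ⟨hR _ hy.2.1, h32 _ hy.2.1⟩, rfl⟩) v.2
  obtain ⟨v', hv', e⟩ := this
  exact Subtype.ext e ▸ hv'.2

end quad

/-- Squared length over sixteen, modulo two. -/
def q16 (v : leechLattice) : ZMod 2 := ((sqNorm (v : GolayPt → ℤ) / 16 : ℤ) : ZMod 2)

theorem q16_add (v w : leechLattice) :
    q16 (v + w) = q16 v + q16 w + ((dotInt (v : GolayPt → ℤ) w / 8 : ℤ) : ZMod 2) := by
  have h := dotInt_add_self (v : GolayPt → ℤ) w
  have := sqNorm_dvd v.2; have := sqNorm_dvd w.2; have := dotInt_dvd v.2 w.2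
  simp only [q16, AddSubgroup.coe_add]
  rw [← Int.cast_add, ← Int.cast_add]
  congr 1
  omega

theorem dot8_add (u v w : leechLattice) :
    ((dotInt ((u + v : leechLattice) : GolayPt → ℤ) w / 8 : ℤ) : ZMod 2) =
      ((dotInt (u : GolayPt → ℤ) w / 8 : ℤ) : ZMod 2) +
        ((dotInt (v : GolayPt → ℤ) w / 8 : ℤ) : ZMod 2) := by
  have e : dotInt ((u + v : leechLattice) : GolayPt → ℤ) w = dotInt u.1 w.1 + dotInt v.1 w.1 := by
    simp [dotInt, add_mul, Finset.sum_add_distrib]
  have := dotInt_dvd u.2 w.2; have := dotInt_dvd v.2 w.2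
  rw [e, ← Int.cast_add]
  congr 1
  omega

theorem q16_quad (u v w : leechLattice) :
    q16 (u + v + w) + q16 u + q16 v + q16 w = q16 (u + v) + q16 (u + w) + q16 (v + w) := by
  rw [q16_add (u + v) w, dot8_add, q16_add u w, q16_add v w]
  generalize q16 (u + v) = a; generalize q16 u = b; generalize q16 v = c; generalize q16 w = d
  generalize ((dotInt (u : GolayPt → ℤ) w / 8 : ℤ) : ZMod 2) = e
  generalize ((dotInt (v : GolayPt → ℤ) w / 8 : ℤ) : ZMod 2) = f
  revert a b c d e f; decide

theorem q16_coset (v w : leechLattice) : q16 (v + (w + w)) = q16 v := by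
  rw [q16_add v, q16_add w, dotInt_comm (v : GolayPt → ℤ), dot8_add, dotInt_self]
  have h : ((sqNorm (w : GolayPt → ℤ) / 8 : ℤ) : ZMod 2) = 0 := by
    have := sqNorm_dvd w.2
    rw [ZMod.intCast_zmod_eq_zero_iff_dvd]
    omega
  rw [h]
  generalize q16 v = a; generalize q16 w = b
  generalize ((dotInt (w : GolayPt → ℤ) (v : GolayPt → ℤ) / 8 : ℤ) : ZMod 2) = c
  revert a b c; decide


/-- On the Leech lattice of the definitions, let Q be a function to the field with two elements that is constant on cosets of twice the lattice, is a quadratic form there (Q(u+v+w) + Q(u) + Q(v) + Q(w) = Q(u+v) + Q(u+w) + Q(v+w) for all u, v, w), is invariant under every lattice automorphism, and is not identically zero. Then Q(v) is the squared length of v divided by 16, reduced modulo 2, for every lattice vector v (squared lengths of lattice vectors are multiples of 16). -/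
theorem result (Q : ↥Cfsg.leechLattice → ZMod 2) (hcoset : ∀ v w : ↥Cfsg.leechLattice, Q (v + (w + w)) = Q v) (hquad : ∀ u v w : ↥Cfsg.leechLattice, Q (u + v + w) + Q u + Q v + Q w = Q (u + v) + Q (u + w) + Q (v + w)) (hinv : ∀ (g : ↥Cfsg.Co0) (v : ↥Cfsg.leechLattice), Q (g • v) = Q v) (hne : ∃ v : ↥Cfsg.leechLattice, Q v ≠ 0) (v : ↥Cfsg.leechLattice) : Q v = ((Cfsg.sqNorm (v : Cfsg.GolayPt → ℤ) / 16 : ℤ) : ZMod 2) := by
  have hc32 : ∀ v w : leechLattice, sqNorm (v : GolayPt → ℤ) = 32 →
      sqNorm (w : GolayPt → ℤ) = 32 → Q v = Q w := fun a b ha hb => by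
    obtain ⟨g, rfl⟩ := exists_smul32 a b ha hb
    exact (hinv g a).symm
  have hc48 : ∀ v w : leechLattice, sqNorm (v : GolayPt → ℤ) = 48 →
      sqNorm (w : GolayPt → ℤ) = 48 → Q v = Q w := fun a b ha hb => by
    obtain ⟨g, rfl⟩ := exists_smul48 a b ha hb
    exact (hinv g a).symm
  have h32 := value32 hcoset hquad hc32 hc48
  obtain ⟨hx, hz, -, -, -, -, -, nzy, -⟩ := witness_check
  let s : leechLattice := ⟨_, leechChk_sound hz⟩ - ⟨_, vec31_mem none⟩
  have hs : sqNorm (s : GolayPt → ℤ) = 48 := nzy
  show Q v = q16 v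
  have main : ∀ u, Q u + Q s * q16 u = 0 := by
    refine eq_zero_of_short (Q := fun u => Q u + Q s * q16 u) ?_ ?_ ?_ ?_ ?_
    · intro a b; simp only [hcoset, q16_coset]
    · intro a b c
      have h1 := hquad a b c
      have h2 := q16_quad a b c
      revert h1 h2
      generalize Q s = k; generalize Q (a + b + c) = p1; generalize q16 (a + b + c) = p2
      generalize Q (a + b) = r1; generalize q16 (a + b) = r2
      generalize Q (a + c) = t1; generalize q16 (a + c) = t2
      generalize Q (b + c) = u1; generalize q16 (b + c) = u2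
      generalize Q a = a1; generalize q16 a = a2; generalize Q b = b1; generalize q16 b = b2
      generalize Q c = c1; generalize q16 c = c2
      intro h1 h2
      linear_combination h1 + k * h2
    · intro g a; simp only [hinv, q16, sqNorm_smul]
    · intro a ha
      have : q16 a = 0 := by rw [q16, ha]; rfl
      rw [h32 a ha, this, mul_zero, add_zero]
    · intro a ha
      have : q16 a = 1 := by rw [q16, ha]; rfl
      rw [hc48 a s ha hs, this, mul_one]
      exact CharTwo.add_self_eq_zero _
  rcases zmod2_cases (Q s) with e | e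
  · obtain ⟨u, hu⟩ := hne
    exact absurd (by simpa [e] using main u) hu
  · have h := main v
    rw [e, one_mul] at h
    exact CharTwo.add_eq_zero.1 h

end Cfsg.Agent.S5552
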