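import Cfsg.Statements.S0502
import Mathlib

set_option autoImplicit false
open Cfsg

namespace Cfsg.Agent.S0502

/-- Klein four-subgroup spanned by two commuting involutions. -/
theorem exists_klein {P : Type*} [Group P] {a b : P} (ha : a * a = 1) (hb : b * b = 1)
    (hab : a * b = b * a) (ha1 : a ≠ 1) (hb1 : b ≠ 1) (hne : a ≠ b) :
    ∃ W : Subgroup P, IsKleinFour W ∧ (∀ x, x ∈ W ↔ x = 1 ∨ x = a ∨ x = b ∨ x = a * b) := by
  have hai : a⁻¹ = a := inv_eq_of_mul_eq_one_right ha
  have hbi : b⁻¹ = b := inv_eq_of_mul_eq_one_right hb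
  have haab : a * (a * b) = b := by rw [← mul_assoc, ha, one_mul]
  have haba : a * b * a = b := by rw [hab, mul_assoc, ha, mul_one]
  have hbab : b * (a * b) = a := by rw [hab, ← mul_assoc, hb, one_mul]
  have habb : a * b * b = a := by rw [mul_assoc, hb, mul_one]
  have habab : a * b * (a * b) = 1 := by rw [← mul_assoc, haba, hb]
  let W : Subgroup P :=
    { carrier := {x | x = 1 ∨ x = a ∨ x = b ∨ x = a * b}
      one_mem' := Or.inl rfl
      mul_mem' := by
        rintro x y (rfl | rfl | rfl | rfl) (rfl | rfl | rfl | rfl) <;>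
          simp only [Set.mem_setOf_eq, one_mul, mul_one, ha, hb, haab, haba, hbab, habb, habab,
            true_or, or_true, ← hab]
      inv_mem' := by
        rintro x (rfl | rfl | rfl | rfl) <;>
          simp only [Set.mem_setOf_eq, inv_one, mul_inv_rev, hai, hbi, ← hab, true_or, or_true] }
  refine ⟨W, ⟨?_, ?_⟩, fun x => Iff.rfl⟩
  · classical
    have h1 : (W : Set P) = ↑({1, a, b, a * b} : Finset P) := by
      ext x; simp [W]
    show Nat.card (W : Set P) = 4
    rw [h1, Nat.card_coe_set_eq, Set.ncard_coe_finset]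
    have n1 : a * b ≠ 1 := fun h => hne (by rw [← hbi]; exact eq_inv_of_mul_eq_one_left h)
    have n2 : a ≠ a * b := fun h => hb1 (left_eq_mul.1 h)
    have n3 : b ≠ a * b := fun h => ha1 (right_eq_mul.1 h)
    simp [Ne.symm ha1, Ne.symm hb1, Ne.symm n1, hne, n2, n3]
  · apply Nat.dvd_antisymm
    · apply Monoid.exponent_dvd_of_forall_pow_eq_one
      rintro ⟨x, hx⟩
      apply Subtype.ext
      show x ^ 2 = 1
      rw [pow_two]
      rcases hx with rfl | rfl | rfl | rfl <;> first | exact one_mul 1 | assumption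
    · have h2 : orderOf (⟨a, Or.inr (Or.inl rfl)⟩ : W) = 2 := by
        rw [← Subgroup.orderOf_coe, orderOf_eq_prime_iff]
        exact ⟨by rw [pow_two, ha], ha1⟩
      exact h2 ▸ Monoid.order_dvd_exponent _

theorem klein_mul_self {P : Type*} [Group P] {U : Subgroup P} (hU : IsKleinFour U) {x : P} (hx : x ∈ U) :
    x * x = 1 := congrArg Subtype.val (IsKleinFour.mul_self (⟨x, hx⟩ : U))

theorem klein_comm {P : Type*} [Group P] {U : Subgroup P} (hU : IsKleinFour U) {x y : P}
    (hx : x ∈ U) (hy : y ∈ U) : x * y = y * x := by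
  have h := klein_mul_self hU (mul_mem hx hy)
  calc x * y = (x * y)⁻¹ := (inv_eq_of_mul_eq_one_right h).symm
    _ = _ := by rw [mul_inv_rev, inv_eq_of_mul_eq_one_right (klein_mul_self hU hx),
      inv_eq_of_mul_eq_one_right (klein_mul_self hU hy)]

theorem connected {P : Type*} [Group P] [Finite P] (hP : IsPGroup 2 P) (E : Subgroup P) [E.Normal]
    (hE : ∀ a ∈ E, ∀ b ∈ E, a * b = b * a) (hE2 : ∀ e ∈ E, e ^ 2 = 1) (hE8 : 8 ≤ Nat.card E) :
    Cfsg.IsFourConnected P := by
  have : Fact (Nat.Prime 2) := ⟨Nat.prime_two⟩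
  have hsq : ∀ e ∈ E, e * e = 1 := fun e he => by rw [← pow_two]; exact hE2 e he
  -- a central involution in E
  obtain ⟨z, hzE, hz1, hzc⟩ : ∃ z ∈ E, z ≠ 1 ∧ ∀ x : P, x * z = z * x := by
    letI : MulAction P E := MulAction.compHom E (MulAut.conjNormal : P →* MulAut E)
    have h2 : 2 ∣ Nat.card E := by
      obtain ⟨n, hn⟩ := IsPGroup.iff_card.1 (hP.to_subgroup E)
      rw [hn] at hE8 ⊢
      refine dvd_pow_self 2 ?_
      rintro rfl; simp at hE8
    have h1 : (1 : E) ∈ MulAction.fixedPoints P E := fun g =>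
      map_one (MulAut.conjNormal g : MulAut E)
    obtain ⟨b, hb, hb1⟩ := hP.exists_fixed_point_of_prime_dvd_card_of_fixed_point E h2 h1
    refine ⟨b, b.2, fun h => hb1 (Subtype.ext h.symm), fun x => ?_⟩
    have h3 : x * (b : P) * x⁻¹ = b := congrArg Subtype.val (hb x)
    exact mul_inv_eq_iff_eq_mul.1 h3
  let R : Subgroup P → Subgroup P → Prop :=
    fun A B : Subgroup P => IsKleinFour A ∧ IsKleinFour B ∧ ∀ a ∈ A, ∀ b ∈ B, a * b = b * a
  have hsymm : ∀ {A B}, R A B → R B A :=
    fun h => ⟨h.2.1, h.1, fun a ha b hb => (h.2.2 b hb a ha).symm⟩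
  -- every four-group is joined to one contained in E
  have main : ∀ U : Subgroup P, IsKleinFour U → ∃ W : Subgroup P, IsKleinFour W ∧ W ≤ E ∧
      Relation.ReflTransGen R U W ∧ Relation.ReflTransGen R W U := by
    intro U hU
    -- step 1: reach a four-group containing z
    have step1 : ∃ V : Subgroup P, IsKleinFour V ∧ z ∈ V ∧
        Relation.ReflTransGen R U V ∧ Relation.ReflTransGen R V U := by
      by_cases hzU : z ∈ U
      · exact ⟨U, hU, hzU, .refl, .refl⟩
      obtain ⟨u, huU, hu1⟩ : ∃ u ∈ U, u ≠ 1 := by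
        have : Nontrivial U := Finite.one_lt_card_iff_nontrivial.1 (by rw [hU.card_four]; norm_num)
        obtain ⟨u, hu⟩ := exists_ne (1 : U)
        exact ⟨u, u.2, fun h => hu (Subtype.ext h)⟩
      obtain ⟨V, hV, hVm⟩ := exists_klein (hsq z hzE) (klein_mul_self hU huU) (hzc u).symm hz1 hu1
        (fun h => hzU (h ▸ huU))
      have hr : R U V := ⟨hU, hV, fun a ha b hb => by
        rcases (hVm b).1 hb with rfl | rfl | rfl | rfl
        · rw [mul_one, one_mul]
        · exact hzc a
        · exact klein_comm hU ha huU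
        · rw [← mul_assoc, hzc a, mul_assoc, klein_comm hU ha huU, ← mul_assoc]⟩
      exact ⟨V, hV, (hVm z).2 (Or.inr (Or.inl rfl)), .single hr, .single (hsymm hr)⟩
    obtain ⟨V, hV, hzV, hUV, hVU⟩ := step1
    obtain ⟨u, huV, hu1, huz⟩ : ∃ u ∈ V, u ≠ 1 ∧ u ≠ z := by
      by_contra hcon
      push_neg at hcon
      have hsub : (V : Set P) ⊆ {1, z} := fun x hx => by
        by_cases h : x = 1
        · exact Or.inl h
        · exact Or.inr (hcon x hx h)
      have h1 := Set.ncard_le_ncard hsub (Set.toFinite _)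
      rw [← Nat.card_coe_set_eq] at h1
      have h2 : ({1, z} : Set P).ncard ≤ 2 := (Set.ncard_insert_le _ _).trans (by rw [Set.ncard_singleton])
      have h3 : Nat.card (V : Set P) = 4 := hV.card_four
      omega
    have huu := klein_mul_self hV huV
    have hui : u⁻¹ = u := inv_eq_of_mul_eq_one_right huu
    have hconjE : ∀ x ∈ E, u * x * u ∈ E := fun x hx => by
      have := ‹E.Normal›.conj_mem x hx u; rwa [hui] at this
    let f : E →* E := MonoidHom.mk' (fun x => ⟨x.1 * (u * x.1 * u), mul_mem x.2 (hconjE _ x.2)⟩) (by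
      intro x y
      apply Subtype.ext
      show x.1 * y.1 * (u * (x.1 * y.1) * u) = x.1 * (u * x.1 * u) * (y.1 * (u * y.1 * u))
      have h1 : u * (x.1 * y.1) * u = (u * x.1 * u) * (u * y.1 * u) := by
        calc u * (x.1 * y.1) * u = u * x.1 * (u * u) * y.1 * u := by rw [huu]; group
          _ = _ := by group
      rw [h1, mul_assoc x.1 y.1, ← mul_assoc y.1, hE y.1 y.2 _ (hconjE _ x.2)]; group)
    have hker : ∀ x : E, x ∈ f.ker → u * x.1 = x.1 * u := fun x hx => by
      have h1 : x.1 * (u * x.1 * u) = 1 := congrArg Subtype.val hx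
      have h2 : u * x.1 * u = x.1 := by
        rw [← inv_eq_of_mul_eq_one_right h1, inv_eq_of_mul_eq_one_right (hsq _ x.2)]
      calc u * x.1 = u * x.1 * (u * u) := by rw [huu, mul_one]
        _ = (u * x.1 * u) * u := by group
        _ = x.1 * u := by rw [h2]
    have hsub : f.range ≤ f.ker := by
      rintro _ ⟨x, rfl⟩
      apply Subtype.ext
      show x.1 * (u * x.1 * u) * (u * (x.1 * (u * x.1 * u)) * u) = 1
      have h1 : u * (x.1 * (u * x.1 * u)) * u = (u * x.1 * u) * x.1 := by
        calc u * (x.1 * (u * x.1 * u)) * u = u * x.1 * u * x.1 * (u * u) := by group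
          _ = _ := by rw [huu, mul_one]
      rw [h1, ← mul_assoc, mul_assoc x.1, hsq _ (hconjE _ x.2), mul_one, hsq _ x.2]
    obtain ⟨w, hwE, hw1, hwz, hwc⟩ : ∃ w ∈ E, w ≠ 1 ∧ w ≠ z ∧ u * w = w * u := by
      by_contra hcon
      push_neg at hcon
      have h1 : Nat.card f.ker * f.ker.index = Nat.card E := f.ker.card_mul_index
      rw [Subgroup.index_ker] at h1
      have h2 := Subgroup.card_le_of_le hsub
      have h3 : Nat.card f.ker ≤ 2 := by
        have hs : (f.ker : Set E) ⊆ {1, ⟨z, hzE⟩} := fun x hx => by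
          by_cases h : x.1 = 1
          · exact Or.inl (Subtype.ext h)
          · by_cases h' : x.1 = z
            · exact Or.inr (Subtype.ext h')
            · exact absurd (hker x hx) (hcon x.1 x.2 h h')
        have h1 := Set.ncard_le_ncard hs (Set.toFinite _)
        rw [← Nat.card_coe_set_eq] at h1
        exact h1.trans ((Set.ncard_insert_le _ _).trans (by rw [Set.ncard_singleton]))
      nlinarith [Nat.card f.ker |>.zero_le, Nat.card f.range |>.zero_le]
    obtain ⟨W, hW, hWm⟩ := exists_klein (hsq z hzE) (hsq w hwE) (hzc w).symm hz1 hw1 (Ne.symm hwz)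
    have hzu : z ≠ u := Ne.symm huz
    have hVm : ∀ x ∈ V, x = 1 ∨ x = z ∨ x = u ∨ x = z * u := by
      intro x hx
      by_contra hcon
      push_neg at hcon
      have := IsKleinFour.eq_mul_of_ne_all (x := (⟨z, hzV⟩ : V)) (y := ⟨u, huV⟩) (z := ⟨x, hx⟩)
        (fun h => hz1 (congrArg Subtype.val h)) (fun h => hu1 (congrArg Subtype.val h))
        (fun h => hzu (congrArg Subtype.val h)) (fun h => hcon.1 (congrArg Subtype.val h))
        (fun h => hcon.2.1 (congrArg Subtype.val h)) (fun h => hcon.2.2.1 (congrArg Subtype.val h))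
      exact hcon.2.2.2 (congrArg Subtype.val this)
    have hu' : ∀ b, (b = 1 ∨ b = z ∨ b = w ∨ b = z * w) → u * b = b * u := by
      rintro b (rfl | rfl | rfl | rfl)
      · rw [mul_one, one_mul]
      · exact hzc u
      · exact hwc
      · rw [← mul_assoc, hzc u, mul_assoc, hwc, ← mul_assoc]
    have hr : R V W := ⟨hV, hW, fun a ha b hb => by
      have hb' := (hWm b).1 hb
      rcases hVm a ha with rfl | rfl | rfl | rfl
      · rw [mul_one, one_mul]
      · exact (hzc b).symm
      · exact hu' b hb'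
      · rw [mul_assoc, hu' b hb', ← mul_assoc, ← hzc b, mul_assoc]⟩
    refine ⟨W, hW, fun x hx => ?_, hUV.trans (.single hr), Relation.ReflTransGen.head (hsymm hr) hVU⟩
    rcases (hWm x).1 hx with rfl | rfl | rfl | rfl
    · exact one_mem E
    · exact hzE
    · exact hwE
    · exact mul_mem hzE hwE
  intro U V hU hV
  obtain ⟨A, hA, hAE, hUA, -⟩ := main U hU
  obtain ⟨B, hB, hBE, -, hBV⟩ := main V hV
  exact hUA.trans (Relation.ReflTransGen.head ⟨hA, hB, fun a ha b hb => hE a (hAE ha) b (hBE hb)⟩ hBV)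

/-- If a finite 2-group has a normal elementary abelian subgroup of order at least 8, then any two of its Klein
four-subgroups are joined by a chain of Klein four-subgroups with consecutive members commuting elementwise. -/
theorem result {P : Type*} [Group P] [Finite P] (hP : IsPGroup 2 P)
    (E : Subgroup P) [E.Normal] (hE : IsMulCommutative E) (hE2 : ∀ e ∈ E, e ^ 2 = 1) (hE8 : 8 ≤ Nat.card E) :
    Cfsg.IsFourConnected P := by
  have hE' : ∀ a ∈ E, ∀ b ∈ E, a * b = b * a := fun a ha b hb =>
    congrArg Subtype.val (hE.is_comm.comm (⟨a, ha⟩ : E) ⟨b, hb⟩)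
  exact Cfsg.Agent.S0502.connected hP E hE' hE2 hE8

end Cfsg.Agent.S0502
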