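import Cfsg.Statements.S1231
import Cfsg.Agent.Lib.SECount.Basic

set_option autoImplicit false
open Cfsg

namespace Cfsg.Agent.S1231

theorem pRankLE_of_injective {A B : Type*} [Group A] [Group B] [Finite B] {p j : ℕ} (f : A →* B)
    (hf : Function.Injective f) (h : Cfsg.PRankLE p j B) : Cfsg.PRankLE p j A := by
  intro E hE hEp
  rw [← Subgroup.card_map_of_injective (K := E) hf]
  exact h (E.map f) inferInstance (by rintro _ ⟨e, he, rfl⟩; rw [← map_pow, hEp e he, map_one])

theorem pRankLE_of_le {G : Type*} [Group G] [Finite G] {p j : ℕ} {A B : Subgroup G} (hAB : A ≤ B)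
    (h : Cfsg.PRankLE p j B) : Cfsg.PRankLE p j A :=
  pRankLE_of_injective (Subgroup.inclusion hAB) (Subgroup.inclusion_injective hAB) h


/-- Let H be a subgroup of the finite group G, p a prime, k ≥ 1, and P a Sylow p-subgroup of H whose p-rank is at least k. Then N_G(X) ≤ H for every subgroup X of P of p-rank at least k if and only if H ∩ gHg⁻¹ has p-rank less than k for every g ∉ H. -/
theorem result {G : Type*} [Group G] [Finite G] {p : ℕ} [Fact p.Prime] (k : ℕ) (hk : 1 ≤ k) (H : Subgroup G) (P : Sylow p ↥H) (hP : ¬ Cfsg.PRankLE p (k - 1) ↥(P : Subgroup ↥H)) : (∀ X : Subgroup G, X ≤ (P : Subgroup ↥H).map H.subtype → ¬ Cfsg.PRankLE p (k - 1) ↥X → Subgroup.normalizer (X : Set G) ≤ H) ↔ (∀ g : G, g ∉ H → Cfsg.PRankLE p (k - 1) ↥(H ⊓ H.map (MulAut.conj g).toMonoidHom)) := by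

  set P' := (P : Subgroup ↥H).map H.subtype with hP'
  have hP'H : P' ≤ H := Subgroup.map_subtype_le _
  have hP'p : IsPGroup p P' := P.2.map _
  constructor
  · intro hN
    -- every `p`-subgroup of `H` is conjugate within `H` into `P'`
    have hinto : ∀ X : Subgroup G, X ≤ H → IsPGroup p X →
        ∃ h ∈ H, ∀ x ∈ X, h * x * h⁻¹ ∈ P' := by
      intro X hX hXp
      obtain ⟨Q, hQ⟩ := (hXp.of_equiv (Subgroup.subgroupOfEquivOfLe hX).symm).exists_le_sylow
      obtain ⟨h, hh⟩ := MulAction.exists_smul_eq H Q P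
      refine ⟨h, h.2, fun x hx => ?_⟩
      have h3 := Subgroup.smul_mem_pointwise_smul (⟨x, hX hx⟩ : H) (MulAut.conj h) _
        (hQ (Subgroup.mem_subgroupOf.2 hx))
      rw [← Sylow.coe_subgroup_smul, hh] at h3
      exact ⟨_, h3, by simp [mul_assoc]⟩
    have key : ∀ n : ℕ, ∀ A : Subgroup G, A ≤ P' → ¬ Cfsg.PRankLE p (k - 1) ↥A →
        Nat.card P' - Nat.card A ≤ n → ∀ x : G, (∀ a ∈ A, x * a * x⁻¹ ∈ P') → x ∈ H := by
      intro n
      induction n with
      | zero =>
        intro A hA hAr hn x hx
        have he : A = P' := Subgroup.eq_of_le_of_card_ge hA (by omega)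
        subst he
        refine hN _ le_rfl hAr ?_
        have hinj : Function.Injective (fun a : P' => (⟨x * a * x⁻¹, hx a a.2⟩ : P')) :=
          fun a b h => Subtype.ext (by
            simpa using congrArg Subtype.val h)
        refine Subgroup.mem_normalizer_iff.2 fun a => ⟨hx a, fun ha => ?_⟩
        obtain ⟨b, hb⟩ := Finite.injective_iff_surjective.1 hinj ⟨_, ha⟩
        have hb' : x * (b : G) * x⁻¹ = x * a * x⁻¹ := congrArg Subtype.val hb
        rw [← mul_left_cancel (mul_right_cancel hb')]
        exact b.2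
      | succ n IH =>
        intro A hA hAr hn x hx
        set B := A.map (MulAut.conj x).toMonoidHom with hB
        have hBP : B ≤ P' := by rintro _ ⟨a, ha, rfl⟩; exact hx a ha
        have hBr : ¬ Cfsg.PRankLE p (k - 1) ↥B := fun h => hAr (pRankLE_of_injective
          ((A.equivMapOfInjective (MulAut.conj x).toMonoidHom (MulAut.conj x).injective).toMonoidHom)
          (MulEquiv.injective _) h)
        have hcardB : Nat.card B = Nat.card A :=
          Subgroup.card_map_of_injective (MulAut.conj x).injective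
        by_cases hlt : A = P'
        · exact IH A hA hAr (by rw [hlt]; omega) x hx
        have hA' : A < P' := lt_of_le_of_ne hA hlt
        have hB' : B < P' := lt_of_le_of_ne hBP fun he => hlt
          (Subgroup.eq_of_le_of_card_ge hA (by rw [← hcardB, he]))
        -- normalizers grow in `P'`
        have grow : ∀ C : Subgroup G, C < P' → C < P' ⊓ Subgroup.normalizer (C : Set G) := by
          intro C hC
          haveI := hP'p.isNilpotent
          have hne : C.subgroupOf P' < ⊤ := lt_top_iff_ne_top.2 fun he =>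
            hC.not_ge (Subgroup.subgroupOf_eq_top.1 he)
          obtain ⟨y, hy, hyC⟩ := SetLike.exists_of_lt
            (normalizerCondition_of_isNilpotent (G := P') _ hne)
          refine lt_of_le_of_ne (le_inf hC.le Subgroup.le_normalizer) fun he => hyC ?_
          rw [Subgroup.mem_subgroupOf, he]
          refine ⟨y.2, Subgroup.mem_normalizer_iff.2 fun c => ?_⟩
          constructor <;> intro hc
          · have := (Subgroup.mem_normalizer_iff.1 hy ⟨c, hC.le hc⟩).1 (Subgroup.mem_subgroupOf.2 hc)
            simpa [Subgroup.mem_subgroupOf] using this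
          · have hcP : c ∈ P' := by
              have := Subgroup.mul_mem P' (Subgroup.mul_mem P' (Subgroup.inv_mem _ y.2) (hC.le hc)) y.2
              simpa [mul_assoc] using this
            simpa [Subgroup.mem_subgroupOf] using (Subgroup.mem_normalizer_iff.1 hy ⟨c, hcP⟩).2
              (by simpa [Subgroup.mem_subgroupOf] using hc)
        set M := P' ⊓ Subgroup.normalizer (A : Set G)
        set C := P' ⊓ Subgroup.normalizer (B : Set G)
        set C' := C.map (MulAut.conj x⁻¹).toMonoidHom
        have hC'N : C' ≤ Subgroup.normalizer (A : Set G) := by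
          rintro _ ⟨c, hc, rfl⟩
          refine Subgroup.mem_normalizer_iff.2 fun a => ?_
          have h0 := Subgroup.mem_normalizer_iff.1 hc.2 (x * a * x⁻¹)
          simp only [hB, Lib.SECount.mem_map_conj] at h0
          simp only [MulEquiv.coe_toMonoidHom, MulAut.conj_apply]
          simpa [mul_assoc] using h0
        obtain ⟨Q₁, hQ₁⟩ := ((hP'p.to_le (inf_le_left : M ≤ P')).of_equiv
          (Subgroup.subgroupOfEquivOfLe (inf_le_right : M ≤ Subgroup.normalizer (A : Set G))).symm
          ).exists_le_sylow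
        obtain ⟨Q₂, hQ₂⟩ := (((hP'p.to_le (inf_le_left : C ≤ P')).map _).of_equiv
          (Subgroup.subgroupOfEquivOfLe hC'N).symm).exists_le_sylow
        obtain ⟨c, hc⟩ := MulAction.exists_smul_eq ↥(Subgroup.normalizer (A : Set G)) Q₂ Q₁
        obtain ⟨h, hh, hhQ⟩ := hinto ((Q₁ : Subgroup _).map (Subgroup.normalizer (A : Set G)).subtype)
          (by rintro _ ⟨q, -, rfl⟩; exact hN A hA hAr q.2) (Q₁.2.map _)
        -- `h c x⁻¹` carries `C` into `P'`
        have hCmem : h * c * x⁻¹ ∈ H := by
          refine IH C inf_le_left (fun hr => hBr (pRankLE_of_le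
            (le_inf hBP Subgroup.le_normalizer) hr)) ?_ _ fun a ha => ?_
          · have := Subgroup.card_le_of_le (inf_le_left : C ≤ P')
            have : Nat.card B < Nat.card C := Set.ncard_lt_ncard (grow B hB') (Set.toFinite _)
            omega
          · have hm : x⁻¹ * a * x⁻¹⁻¹ ∈ C' := ⟨a, ha, rfl⟩
            have h3 := Subgroup.smul_mem_pointwise_smul
              (⟨_, hC'N hm⟩ : ↥(Subgroup.normalizer (A : Set G))) (MulAut.conj c) _
              (hQ₂ (Subgroup.mem_subgroupOf.2 hm))
            rw [← Sylow.coe_subgroup_smul, hc] at h3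
            have h4 := hhQ _ ⟨_, h3, rfl⟩
            simpa [mul_assoc] using h4
        have hcH : (c : G) ∈ H := hN A hA hAr c.2
        have := Subgroup.mul_mem H (Subgroup.inv_mem _ hCmem) (Subgroup.mul_mem H hh hcH)
        simpa [mul_assoc] using this
    intro g hg A hAc hAp
    by_contra hbig
    refine hg ?_
    set A' := A.map (H ⊓ H.map (MulAut.conj g).toMonoidHom).subtype with hA'
    have hA'le : A' ≤ H ⊓ H.map (MulAut.conj g).toMonoidHom := Subgroup.map_subtype_le _
    have hpA : IsPGroup p A := fun a => ⟨1, Subtype.ext (by rw [pow_one, Subgroup.coe_pow]; exact hAp a a.2)⟩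
    have hA'p : IsPGroup p A' := hpA.map _
    set A'' := A'.map (MulAut.conj g⁻¹).toMonoidHom
    have hA''H : A'' ≤ H := by
      rintro _ ⟨a, ha, rfl⟩
      simpa [mul_assoc] using Lib.SECount.mem_map_conj.1 (hA'le ha).2
    obtain ⟨h₁, hh₁, e₁⟩ := hinto A' (hA'le.trans inf_le_left) hA'p
    obtain ⟨h₂, hh₂, e₂⟩ := hinto A'' hA''H (hA'p.map _)
    set D := A'.map (MulAut.conj h₁).toMonoidHom
    have hD : D ≤ P' := by rintro _ ⟨a, ha, rfl⟩; exact e₁ a ha
    have hDr : ¬ Cfsg.PRankLE p (k - 1) ↥D := by
      intro hr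
      have h1 : Cfsg.PRankLE p (k - 1) ↥A' := pRankLE_of_injective
        ((A'.equivMapOfInjective _ (MulAut.conj h₁).injective).toMonoidHom) (MulEquiv.injective _) hr
      have h2 : Cfsg.PRankLE p (k - 1) ↥A := pRankLE_of_injective
        ((A.equivMapOfInjective _ (Subgroup.subtype_injective _)).toMonoidHom)
        (MulEquiv.injective _) h1
      refine hbig ?_
      have := h2 ⊤ ⟨⟨fun a b => Subtype.ext (hAc.is_comm.comm a.1 b.1)⟩⟩
        (fun a _ => Subtype.ext (by rw [Subgroup.coe_pow]; exact hAp a a.2))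
      rwa [Subgroup.card_top] at this
    have hx := key _ D hD hDr le_rfl (h₂ * g⁻¹ * h₁⁻¹) (by
      rintro _ ⟨a, ha, rfl⟩
      have := e₂ _ ⟨a, ha, rfl⟩
      simpa [mul_assoc] using this)
    have := Subgroup.mul_mem H (Subgroup.mul_mem H (Subgroup.inv_mem _ hh₂) hx) hh₁
    simpa [mul_assoc] using Subgroup.inv_mem _ this
  · intro h X hX hXr g hg
    by_contra hgH
    refine hXr (pRankLE_of_le ?_ (h g hgH))
    refine le_inf (hX.trans hP'H) fun x hx => Lib.SECount.mem_map_conj.2 ?_
    exact hP'H (hX ((Subgroup.mem_normalizer_iff''.1 hg x).1 hx))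

end Cfsg.Agent.S1231
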