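import Cfsg.Statements.S0520
import Mathlib
import Cfsg.Agent.S1231

set_option autoImplicit false
open Cfsg

namespace Cfsg.Agent.S0520

open Relation

theorem isKleinFour_mk {G : Type*} [Group G] [Finite G] {A : Subgroup G} (h4 : Nat.card A = 4)
    (h2 : ∀ a ∈ A, a ^ 2 = 1) : IsKleinFour A := by
  refine ⟨h4, (Nat.prime_two.eq_one_or_self_of_dvd _
    (Monoid.exponent_dvd_of_forall_pow_eq_one fun a => Subtype.ext (h2 a a.2))).resolve_left ?_⟩
  rw [Monoid.exp_eq_one_iff]
  intro hsub
  have : Nat.card A ≤ 1 := Finite.card_le_one_iff_subsingleton.mpr hsub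
  omega

theorem sq_eq_one {G : Type*} [Group G] {A : Subgroup G} [IsKleinFour A] {a : G} (ha : a ∈ A) :
    a ^ 2 = 1 := by
  have h := Monoid.pow_exponent_eq_one (⟨a, ha⟩ : A)
  rw [IsKleinFour.exponent_two] at h
  exact congrArg Subtype.val h

theorem exists_klein_le {G : Type*} [Group G] [Finite G] {Q : Subgroup G}
    (h : ¬ Cfsg.PRankLE 2 1 Q) : ∃ U : Subgroup G, U ≤ Q ∧ IsKleinFour U := by
  haveI := Fact.mk Nat.prime_two
  simp only [Cfsg.PRankLE, not_forall, not_le, exists_prop, pow_one] at h
  obtain ⟨A, -, hA2, hcard⟩ := h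
  have hA : IsPGroup 2 A := fun a => ⟨1, Subtype.ext (by simpa using hA2 a a.2)⟩
  obtain ⟨k, hk⟩ := IsPGroup.iff_card.mp hA
  have hk2 : 2 ≤ k := by
    by_contra hlt
    have : 2 ^ k ≤ 2 ^ 1 := Nat.pow_le_pow_right two_pos (by omega)
    omega
  obtain ⟨U, hU⟩ := Sylow.exists_subgroup_card_pow_prime (G := A) 2 (n := 2)
    (hk ▸ pow_dvd_pow 2 hk2)
  refine ⟨(U.map A.subtype).map Q.subtype, Subgroup.map_subtype_le _, isKleinFour_mk ?_ ?_⟩
  · rw [Subgroup.card_map_of_injective Q.subtype_injective,
      Subgroup.card_map_of_injective A.subtype_injective, hU]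
    norm_num
  · rintro _ ⟨_, ⟨u, -, rfl⟩, rfl⟩
    exact congrArg Subtype.val (hA2 _ u.2)

theorem not_pRankLE_of_klein {G : Type*} [Group G] [Finite G] {U Q : Subgroup G} [IsKleinFour U]
    (hUQ : U ≤ Q) : ¬ Cfsg.PRankLE 2 1 Q := by
  intro h
  have h' := Cfsg.Agent.S1231.pRankLE_of_le hUQ h ⊤ ⟨⟨fun a b => Subtype.ext
      (mul_comm_of_exponent_two IsKleinFour.exponent_two (a : U) (b : U))⟩⟩
    (fun a _ => Subtype.ext (sq_eq_one a.2))
  rw [Subgroup.card_top, IsKleinFour.card_four] at h'
  omega

theorem isKleinFour_map {G H : Type*} [Group G] [Group H] [Finite H] {A : Subgroup G} [IsKleinFour A]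
    {f : G →* H} (hf : Function.Injective f) : IsKleinFour (A.map f) := by
  refine isKleinFour_mk ?_ ?_
  · rw [Subgroup.card_map_of_injective hf, IsKleinFour.card_four]
  · rintro _ ⟨a, ha, rfl⟩
    rw [← map_pow, sq_eq_one ha, map_one]

/-- The commuting relation on four-groups. -/
def adj (G : Type*) [Group G] (A B : Subgroup G) : Prop :=
  IsKleinFour A ∧ IsKleinFour B ∧ ∀ a ∈ A, ∀ b ∈ B, a * b = b * a

theorem reach_map {G H : Type*} [Group G] [Group H] [Finite H] {f : G →* H}
    (hf : Function.Injective f) {A B : Subgroup G} (h : ReflTransGen (adj G) A B) :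
    ReflTransGen (adj H) (A.map f) (B.map f) := by
  refine ReflTransGen.lift (fun A : Subgroup G => A.map f) ?_ A B h
  rintro A B ⟨hA, hB, hc⟩
  refine ⟨isKleinFour_map hf, isKleinFour_map hf, ?_⟩
  rintro _ ⟨a, ha, rfl⟩ _ ⟨b, hb, rfl⟩
  rw [← map_mul, ← map_mul, hc a ha b hb]

theorem reach_symm {G : Type*} [Group G] {A B : Subgroup G} (h : ReflTransGen (adj G) A B) :
    ReflTransGen (adj G) B A := by
  induction h with
  | refl => exact ReflTransGen.refl
  | tail _ hbc ih =>
    exact (ReflTransGen.single ⟨hbc.2.1, hbc.1, fun a ha b hb => (hbc.2.2 b hb a ha).symm⟩).trans ih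

theorem reach_sylow {G : Type*} [Group G] [Finite G] {S : Subgroup G}
    (hS : Cfsg.IsFourConnected S) {U V : Subgroup G} [IsKleinFour U] [IsKleinFour V] (hU : U ≤ S)
    (hV : V ≤ S) : ReflTransGen (adj G) U V := by
  have key : ∀ W : Subgroup G, IsKleinFour W → W ≤ S → IsKleinFour (W.subgroupOf S) := by
    intro W hW hWS
    refine isKleinFour_mk ?_ fun x hx => Subtype.ext (sq_eq_one (A := W) hx)
    rw [Nat.card_congr (Subgroup.subgroupOfEquivOfLe hWS).toEquiv, IsKleinFour.card_four]
  have h := reach_map (f := S.subtype) S.subtype_injective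
    (hS _ _ (key U ‹_› hU) (key V ‹_› hV) : ReflTransGen (adj S) (U.subgroupOf S) (V.subgroupOf S))
  rwa [Subgroup.map_subgroupOf_eq_of_le hU, Subgroup.map_subgroupOf_eq_of_le hV] at h


/-- Let G be a finite group of 2-rank at least 2 and S a Sylow 2-subgroup whose commuting graph of Klein four-subgroups is
connected. Then the commuting graph of Klein four-subgroups of G is disconnected if and only if the 2-generated core — the
subgroup generated by the normalizers N_G(Q) of the subgroups Q of S that contain a Klein four-group — is a proper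
subgroup of G. -/
theorem result {G : Type*} [Group G] [Finite G] (h2 : ¬ Cfsg.PRankLE 2 1 G)
    (S : Sylow 2 G) (hS : Cfsg.IsFourConnected (S : Subgroup G)) :
    ¬ Cfsg.IsFourConnected G ↔
      (⨆ Q : {Q : Subgroup G // Q ≤ (S : Subgroup G) ∧ ¬ Cfsg.PRankLE 2 1 Q},
          Subgroup.normalizer ((Q : Subgroup G) : Set G)) ≠ ⊤ := by
  haveI := Fact.mk Nat.prime_two
  set M := ⨆ Q : {Q : Subgroup G // Q ≤ (S : Subgroup G) ∧ ¬ Cfsg.PRankLE 2 1 Q},
    Subgroup.normalizer ((Q : Subgroup G) : Set G) with hM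
  -- a four-group inside the Sylow subgroup
  obtain ⟨U₁, -, hU₁⟩ := exists_klein_le (Q := (⊤ : Subgroup G))
    (fun h => h2 (Cfsg.Agent.S1231.pRankLE_of_injective (Subgroup.topEquiv (G := G)).symm.toMonoidHom
      (Subgroup.topEquiv (G := G)).symm.injective h))
  have hU₁p : IsPGroup 2 U₁ := IsPGroup.of_card (n := 2) (by rw [IsKleinFour.card_four]; norm_num)
  obtain ⟨T, hT⟩ := hU₁p.exists_le_sylow
  obtain ⟨g₁, rfl⟩ := MulAction.exists_smul_eq G T S
  set U₀ := U₁.map (MulAut.conj g₁).toMonoidHom with hU₀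
  haveI hU₀k : IsKleinFour U₀ := isKleinFour_map (MulAut.conj g₁).injective
  have hU₀S : U₀ ≤ ((g₁ • T : Sylow 2 G) : Subgroup G) := by
    rintro _ ⟨u, hu, rfl⟩
    rw [Sylow.coe_subgroup_smul]
    exact Subgroup.smul_mem_pointwise_smul _ _ _ (hT hu)
  set S := g₁ • T
  have hQM : ∀ Q : Subgroup G, Q ≤ (S : Subgroup G) → ¬ Cfsg.PRankLE 2 1 Q →
      Subgroup.normalizer (Q : Set G) ≤ M := fun Q hQ hr => by
    rw [hM]
    exact le_iSup (fun Q : {Q : Subgroup G // Q ≤ (S : Subgroup G) ∧ ¬ Cfsg.PRankLE 2 1 Q} =>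
      Subgroup.normalizer ((Q : Subgroup G) : Set G)) ⟨Q, hQ, hr⟩
  constructor
  · -- a proper core forces disconnection
    intro hdis htop
    apply hdis
    -- every element moves `U₀` inside its component
    have hmove : ∀ g : G, g ∈ M → ReflTransGen (adj G) U₀ (U₀.map (MulAut.conj g).toMonoidHom) := by
      intro g hg
      refine Subgroup.iSup_induction
        (C := fun g => ReflTransGen (adj G) U₀ (U₀.map (MulAut.conj g).toMonoidHom)) _ hg ?_ ?_ ?_
      · rintro ⟨Q, hQS, hQr⟩ n hn
        obtain ⟨V, hVQ, hV⟩ := exists_klein_le hQr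
        haveI := hV
        have hV' : V.map (MulAut.conj n).toMonoidHom ≤ (S : Subgroup G) := by
          rintro _ ⟨v, hv, rfl⟩
          exact hQS ((Subgroup.mem_normalizer_iff.mp hn v).mp (hVQ hv))
        haveI : IsKleinFour (V.map (MulAut.conj n).toMonoidHom) :=
          isKleinFour_map (MulAut.conj n).injective
        exact (reach_sylow hS hU₀S hV').trans (reach_map (MulAut.conj n).injective
          (reach_sylow hS (hVQ.trans hQS) hU₀S))
      · have h1 : U₀.map (MulAut.conj (1 : G)).toMonoidHom = U₀ := by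
          ext x
          simp [Subgroup.mem_map]
        rw [h1]
      · intro x y hx hy
        have h3 := reach_map (f := (MulAut.conj x).toMonoidHom) (MulAut.conj x).injective hy
        have h4 : (U₀.map (MulAut.conj y).toMonoidHom).map (MulAut.conj x).toMonoidHom =
            U₀.map (MulAut.conj (x * y)).toMonoidHom := by
          rw [Subgroup.map_map]
          congr 1
          ext u
          simp [mul_assoc]
        exact hx.trans (h4 ▸ h3)
    have hall : ∀ V : Subgroup G, IsKleinFour V → ReflTransGen (adj G) U₀ V := by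
      intro V hV
      have hVp : IsPGroup 2 V := IsPGroup.of_card (n := 2) (by rw [IsKleinFour.card_four]; norm_num)
      obtain ⟨R, hR⟩ := hVp.exists_le_sylow
      obtain ⟨g, hg⟩ := MulAction.exists_smul_eq G S R
      set W := V.map (MulAut.conj g⁻¹).toMonoidHom with hW
      haveI : IsKleinFour W := isKleinFour_map (MulAut.conj g⁻¹).injective
      have hWS : W ≤ (S : Subgroup G) := by
        rintro _ ⟨v, hv, rfl⟩
        have h := hR hv
        rw [← hg, Sylow.coe_subgroup_smul, Subgroup.mem_pointwise_smul_iff_inv_smul_mem] at h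
        simpa [MulAut.smul_def] using h
      have h3 := reach_map (f := (MulAut.conj g).toMonoidHom) (MulAut.conj g).injective
        (reach_sylow hS hU₀S hWS)
      have h4 : W.map (MulAut.conj g).toMonoidHom = V := by
        rw [hW, Subgroup.map_map]
        convert Subgroup.map_id V
        ext u
        simp [mul_assoc]
      exact (hmove g (htop ▸ Subgroup.mem_top g)).trans (h4 ▸ h3)
    intro U V hU hV
    exact (reach_symm (hall U hU)).trans (hall V hV)
  · -- connectivity forces the core to be everything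
    intro hne hcon
    apply hne
    have hSM : (S : Subgroup G) ≤ M :=
      Subgroup.le_normalizer.trans (hQM _ le_rfl (not_pRankLE_of_klein hU₀S))
    set P : Sylow 2 M := S.subtype hSM
    have hP : ((P : Subgroup M).map M.subtype : Subgroup G) = S := by
      rw [show (P : Subgroup M) = (S : Subgroup G).subgroupOf M from rfl,
        Subgroup.map_subgroupOf_eq_of_le hSM]
    have hstrong := (Cfsg.Agent.S1231.result 2 (by norm_num) M P (fun h => by
      haveI : IsKleinFour (U₀.subgroupOf M) := isKleinFour_mk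
        (by rw [Nat.card_congr (Subgroup.subgroupOfEquivOfLe (hU₀S.trans hSM)).toEquiv,
          IsKleinFour.card_four]) fun x hx => Subtype.ext (sq_eq_one (A := U₀) hx)
      exact not_pRankLE_of_klein (U := U₀.subgroupOf M) (Q := (P : Subgroup M))
        (fun x hx => hU₀S hx) h)).mp
      (fun X hX hXr => hQM X (hP ▸ hX) hXr)
    have hin : ∀ V : Subgroup G, ReflTransGen (adj G) U₀ V → V ≤ M := by
      intro V h
      induction h with
      | refl => exact hU₀S.trans hSM
      | tail _ hbc ih =>
        rename_i B C _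
        intro v hv
        by_contra hvM
        haveI := hbc.1
        refine not_pRankLE_of_klein (U := B) ?_ (hstrong v hvM)
        refine le_inf ih fun b hb => ⟨b, ih hb, ?_⟩
        simp [← hbc.2.2 b hb v hv]
    rw [eq_top_iff]
    intro g _
    by_contra hg
    haveI : IsKleinFour (U₀.map (MulAut.conj g).toMonoidHom) :=
      isKleinFour_map (MulAut.conj g).injective
    exact not_pRankLE_of_klein (U := U₀.map (MulAut.conj g).toMonoidHom)
      (le_inf (hin _ (hcon _ _ hU₀k inferInstance)) (Subgroup.map_mono (hU₀S.trans hSM)))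
      (hstrong g hg)

end Cfsg.Agent.S0520
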