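import Cfsg.Statements.S0735
import Mathlib

set_option autoImplicit false
open Cfsg
open Pointwise

namespace Cfsg.Agent.S0735

/-- A 2-homogeneous permutation group (transitive on 2-subsets) of even order is doubly transitive; a non-trivial 2-homogeneous group is primitive. -/
theorem result {α : Type*} [Fintype α] [DecidableEq α] (G : Subgroup (Equiv.Perm α)) (h2 : MulAction.IsPretransitive G (Set.powersetCard α 2)) (hα : 3 ≤ Fintype.card α) : (Even (Nat.card G) → MulAction.IsMultiplyPretransitive G α 2) ∧ (G ≠ ⊥ → MulAction.IsPreprimitive G α) := by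
  have hpair : ∀ a b x y : α, a ≠ b → x ≠ y →
      ∃ g : G, (g • a = x ∧ g • b = y) ∨ (g • a = y ∧ g • b = x) := by
    intro a b x y hab hxy
    obtain ⟨g, hg⟩ := h2.exists_smul_eq ⟨{a, b}, Finset.card_pair hab⟩ ⟨{x, y}, Finset.card_pair hxy⟩
    have hg' : g • ({a, b} : Finset α) = {x, y} := congrArg Subtype.val hg
    have ha : g • a ∈ ({x, y} : Finset α) := hg' ▸ Finset.smul_mem_smul_finset (by simp)
    have hb : g • b ∈ ({x, y} : Finset α) := hg' ▸ Finset.smul_mem_smul_finset (by simp)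
    have hne : g • a ≠ g • b := fun h => hab (smul_left_cancel g h)
    simp only [Finset.mem_insert, Finset.mem_singleton] at ha hb
    rcases ha with ha | ha <;> rcases hb with hb | hb
    · exact absurd (ha.trans hb.symm) hne
    · exact ⟨g, Or.inl ⟨ha, hb⟩⟩
    · exact ⟨g, Or.inr ⟨ha, hb⟩⟩
    · exact absurd (ha.trans hb.symm) hne
  refine ⟨fun heven => ?_, fun hne => ?_⟩
  · have : Fact (Nat.Prime 2) := ⟨Nat.prime_two⟩
    obtain ⟨t, ht⟩ := exists_prime_orderOf_dvd_card' (G := G) 2 (even_iff_two_dvd.mp heven)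
    have ht1 : t ≠ 1 := by rintro rfl; simp at ht
    obtain ⟨a, ha⟩ : ∃ a : α, t • a ≠ a := by
      by_contra h
      push Not at h
      exact ht1 (Subtype.ext (Equiv.ext h))
    have htt : t • t • a = a := by
      rw [← mul_smul, ← pow_two, ← ht, pow_orderOf_eq_one, one_smul]
    have hfrom : ∀ x y : α, x ≠ y → ∃ g : G, g • a = x ∧ g • (t • a) = y := by
      intro x y hxy
      obtain ⟨g, h | h⟩ := hpair a (t • a) x y (Ne.symm ha) hxy
      · exact ⟨g, h⟩
      · exact ⟨g * t, by rw [mul_smul, h.2], by rw [mul_smul, htt, h.1]⟩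
    rw [MulAction.is_two_pretransitive_iff]
    intro x₁ x₂ y₁ y₂ hx hy
    obtain ⟨g, hg1, hg2⟩ := hfrom x₁ x₂ hx
    obtain ⟨h, hh1, hh2⟩ := hfrom y₁ y₂ hy
    exact ⟨h * g⁻¹, by rw [mul_smul, ← hg1, inv_smul_smul, hh1],
      by rw [mul_smul, ← hg2, inv_smul_smul, hh2]⟩
  · have hthird : ∀ x y : α, ∃ z, z ≠ x ∧ z ≠ y := by
      intro x y
      obtain ⟨z, -, hz⟩ := Finset.exists_mem_notMem_of_card_lt_card (s := ({x, y} : Finset α))
        (t := Finset.univ) (lt_of_le_of_lt Finset.card_le_two (by rw [Finset.card_univ]; omega))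
      simp only [Finset.mem_insert, Finset.mem_singleton, not_or] at hz
      exact ⟨z, hz.1, hz.2⟩
    refine MulAction.IsPreprimitive.mk' ?_ fun {B} hB => ?_
    · intro h
      apply hne
      rw [Subgroup.eq_bot_iff_forall]
      intro g hg
      refine Equiv.ext fun x => ?_
      have hx : x ∈ MulAction.fixedPoints G α := h ▸ Set.mem_univ x
      exact hx ⟨g, hg⟩
    by_cases hs : B.Subsingleton
    · exact Or.inl hs
    obtain ⟨a, ha, b, hb, hab⟩ := Set.not_subsingleton_iff.mp hs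
    refine Or.inr (Set.eq_univ_iff_forall.mpr fun c => ?_)
    by_contra hc
    have hac : a ≠ c := fun h => hc (h ▸ ha)
    obtain ⟨g, ⟨h1, h3⟩ | ⟨h1, h3⟩⟩ := hpair a b a c hab hac
    · have hgB : g • B = B := hB.smul_eq_of_nonempty ⟨a, ⟨a, ha, h1⟩, ha⟩
      exact hc (hgB ▸ ⟨b, hb, h3⟩)
    · have hgB : g • B = B := hB.smul_eq_of_nonempty ⟨a, ⟨b, hb, h3⟩, ha⟩
      exact hc (hgB ▸ ⟨a, ha, h1⟩)

end Cfsg.Agent.S0735
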