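import Cfsg.Statements.S5212
import Cfsg.Agent.Lib.Fusion90.MetacyclicTwo
import Cfsg.Agent.Lib.Fusion.InnerReduction
-- import your own Cfsg.Agent.* helpers here

set_option autoImplicit false
open Cfsg

namespace Cfsg.Agent.S5212

/-- Let S be a finite metacyclic 2-group that is not homocyclic abelian (a direct product of cyclic groups of one common order), not dihedral, not semidihedral and not generalized quaternion. Then every saturated fusion system over S is the inner fusion system of S. -/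
theorem result {Ω : Type*} [Group Ω] {S : Subgroup Ω} [Finite S] (hS : IsPGroup 2 S) (F : Cfsg.FusionSystem S) (hF : F.IsSaturated 2) (hm : Cfsg.IsMetacyclic ↥S) (hh : ¬ ∃ n k : ℕ, Nonempty (↥S ≃* Multiplicative (Fin k → ZMod (2 ^ n)))) (hd : ¬ ∃ m : ℕ, Nonempty (↥S ≃* DihedralGroup m)) (hq : ¬ ∃ m : ℕ, Nonempty (↥S ≃* QuaternionGroup m)) (hsd : ¬ Cfsg.IsQuasiDihedral ↥S) : ∀ P : Subgroup Ω, F.Hom P = (Cfsg.innerFusionSystem S).Hom P := by
  have : Fact (Nat.Prime 2) := ⟨Nat.prime_two⟩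
  have hA : IsPGroup 2 (MulAut ↥S) := by
    by_contra h
    rcases Cfsg.Agent.S1896.result hS hm h with e | ⟨n, ⟨e⟩⟩
    · exact hq ⟨2, e⟩
    · exact hh ⟨n, 2, ⟨e.trans ((MulEquiv.prodMultiplicative _ _).symm.trans
        (LinearEquiv.finTwoArrow (ZMod (2 ^ n)) (ZMod (2 ^ n))).symm.toAddEquiv.toMultiplicative)⟩⟩
  refine Lib.Fusion.isInner_of_automizers hS hF fun R _ hRc hRr => ?_
  obtain rfl : R = S := le_antisymm hRc.1
    (Lib.Fusion90.le_centric_radical_of_metacyclic hS
      ⟨le_rfl, fun R' hR' φ hφ x => Lib.Fusion.val_mem hφ x⟩ hm hd hq hsd hRc hRr)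
  exact hA.to_subgroup _

end Cfsg.Agent.S5212
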