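import Cfsg.Statements.S1160
import Mathlib
import Cfsg.Agent.Lib.PGroupNormalSq.Basic

set_option autoImplicit false
open Cfsg

namespace Cfsg.Agent.S1160

open Subgroup

section aux

variable {P E : Type*} [Group P] [AddCommGroup E] [DistribMulAction P E]

/-- The sum over the powers of `x`. -/
def avg (p : ℕ) (x : P) (e : E) : E := ∑ i ∈ Finset.range p, x ^ i • e

theorem avg_fixed {p : ℕ} {x : P} (e : E) (hx : x ^ p = 1) : x • avg p x e = avg p x e := by
  unfold avg
  rw [Finset.smul_sum]
  have h1 := Finset.sum_range_succ (fun i => x ^ i • e) p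
  have h2 := Finset.sum_range_succ' (fun i => x ^ i • e) p
  rw [h1, hx, pow_zero, add_left_inj] at h2
  calc ∑ i ∈ Finset.range p, x • x ^ i • e = ∑ i ∈ Finset.range p, x ^ (i + 1) • e := by
        simp [smul_smul, pow_succ']
    _ = _ := h2.symm

theorem avg_of_fixed {p : ℕ} {x : P} {e : E} (h : x • e = e) : avg p x e = p • e := by
  unfold avg
  have : ∀ i : ℕ, x ^ i • e = e := fun i => by
    induction i with
    | zero => simp
    | succ i ih => rw [pow_succ, mul_smul, h, ih]
  simp [this]

theorem avg_add {p : ℕ} {x : P} (e f : E) : avg p x (e + f) = avg p x e + avg p x f := by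
  simp [avg, Finset.sum_add_distrib]

theorem avg_smul_comm {p : ℕ} {x h : P} (hc : h * x = x * h) (e : E) :
    h • avg p x e = avg p x (h • e) := by
  unfold avg
  rw [Finset.smul_sum]
  refine Finset.sum_congr rfl fun i _ => ?_
  rw [smul_smul, smul_smul, ((show Commute h x from hc).pow_right i).eq]

theorem eq_zero_of_nsmul {p q : ℕ} (hp : p.Prime) (hq : q.Prime) (hpq : p ≠ q)
    (hE : ∀ e : E, q • e = 0) {e : E} (h : p • e = 0) : e = 0 := by
  have h1 : addOrderOf e ∣ p := addOrderOf_dvd_of_nsmul_eq_zero h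
  have h2 : addOrderOf e ∣ q := addOrderOf_dvd_of_nsmul_eq_zero (hE e)
  exact AddMonoid.addOrderOf_eq_one_iff.mp
    (Nat.eq_one_of_dvd_coprimes ((Nat.coprime_primes hp hq).mpr hpq) h1 h2)

theorem exists_exponent {p : ℕ} {z u : P} [Fact p.Prime] [Finite P] (hz : z ^ p = 1) (hz1 : z ≠ 1)
    (hu : u ∈ zpowers z) : ∃ m, m < p ∧ z ^ m = u := by
  obtain ⟨k, rfl⟩ := mem_zpowers_iff.mp hu
  have hp0 : (0 : ℤ) < p := by exact_mod_cast (Fact.out : p.Prime).pos
  have h0 : 0 ≤ k % (p : ℤ) := Int.emod_nonneg _ hp0.ne'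
  refine ⟨(k % (p : ℤ)).toNat, ?_, ?_⟩
  · have := Int.emod_lt_of_pos k hp0
    omega
  · rw [← zpow_natCast, Int.toNat_of_nonneg h0, ← orderOf_eq_prime hz hz1, zpow_mod_orderOf]

variable [Finite P] [Finite E] [FaithfulSMul P E] {p q : ℕ} [hp : Fact p.Prime]

theorem stabilizer_eq_of_le (hconst : ∀ a b : E, a ≠ 0 → b ≠ 0 →
      Nat.card (MulAction.stabilizer P a) = Nat.card (MulAction.stabilizer P b))
    {v a : E} (hv : v ≠ 0) (ha : a ≠ 0)
    (hle : MulAction.stabilizer P v ≤ MulAction.stabilizer P a) :
    MulAction.stabilizer P v = MulAction.stabilizer P a :=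
  eq_of_le_of_card_ge hle (le_of_eq (hconst a v ha hv))

theorem central_fpf (hq : q.Prime) (hpq : p ≠ q) (hE : ∀ e : E, q • e = 0)
    (hconst : ∀ a b : E, a ≠ 0 → b ≠ 0 →
      Nat.card (MulAction.stabilizer P a) = Nat.card (MulAction.stabilizer P b))
    {z : P} (hzc : z ∈ center P) (hzp : z ^ p = 1) (hz1 : z ≠ 1) {a : E} (h : z • a = a) :
    a = 0 := by
  by_contra ha
  obtain ⟨b, hb⟩ : ∃ b : E, z • b ≠ b := by
    by_contra hall
    push_neg at hall
    exact hz1 (FaithfulSMul.eq_of_smul_eq_smul fun e : E => by rw [hall e, one_smul])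
  set b' := b - z • b with hb'
  have hb'1 : b' ≠ 0 := fun e => hb (sub_eq_zero.mp e).symm
  have havg : avg p z b' = 0 := by
    have h1 := avg_add (p := p) (x := z) b' (z • b)
    rw [hb', sub_add_cancel, ← avg_smul_comm rfl b, avg_fixed b hzp, ← hb'] at h1
    exact left_eq_add.mp (h1.trans (add_comm _ _))
  have hb'2 : z • b' ≠ b' := fun e =>
    hb'1 (eq_zero_of_nsmul hp.out hq hpq hE (by rw [← avg_of_fixed e, havg]))
  have hv : avg p z (a + b') = p • a := by rw [avg_add, avg_of_fixed h, havg, add_zero]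
  have hv0 : a + b' ≠ 0 := fun e => ha (eq_zero_of_nsmul hp.out hq hpq hE (by
    rw [← hv, e]; simp [avg]))
  have hle : MulAction.stabilizer P (a + b') ≤ MulAction.stabilizer P a := by
    intro g hg
    rw [MulAction.mem_stabilizer_iff] at hg ⊢
    have h1 : p • (g • a - a) = 0 := by
      rw [smul_sub, smul_comm, ← hv, avg_smul_comm (mem_center_iff.mp hzc g) (a + b'), hg, sub_self]
    exact sub_eq_zero.mp (eq_zero_of_nsmul hp.out hq hpq hE h1)
  have hmem : z ∈ MulAction.stabilizer P (a + b') :=
    (stabilizer_eq_of_le hconst hv0 ha hle).symm ▸ h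
  rw [MulAction.mem_stabilizer_iff, smul_add, h, add_left_cancel_iff] at hmem
  exact hb'2 hmem

theorem main (hp2 : p ≠ 2) (hP : IsPGroup p P) (hq : q.Prime) (hE : ∀ e : E, q • e = 0)
    (hconst : ∀ a b : E, a ≠ 0 → b ≠ 0 →
      Nat.card (MulAction.stabilizer P a) = Nat.card (MulAction.stabilizer P b)) :
    IsCyclic P ∧ ∀ g : P, g ≠ 1 → ∀ a : E, g • a = a → a = 0 := by
  rcases subsingleton_or_nontrivial E with hsub | hnt
  · haveI : Subsingleton P :=
      ⟨fun g h => FaithfulSMul.eq_of_smul_eq_smul fun e : E => Subsingleton.elim _ _⟩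
    exact ⟨isCyclic_of_subsingleton, fun g hg => absurd (Subsingleton.elim g 1) hg⟩
  by_cases hpq : p = q
  · subst hpq
    have hdvd : p ∣ Nat.card E := by
      obtain ⟨e, he⟩ := exists_ne (0 : E)
      have h1 : addOrderOf e = p := addOrderOf_eq_prime (hE e) he
      exact h1 ▸ addOrderOf_dvd_natCard e
    obtain ⟨a, ha, hane⟩ := hP.exists_fixed_point_of_prime_dvd_card_of_fixed_point E hdvd
      (a := 0) (fun g => smul_zero g)
    haveI : Subsingleton P := by
      refine subsingleton_of_forall_eq 1 fun g => FaithfulSMul.eq_of_smul_eq_smul fun e : E => ?_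
      rw [one_smul]
      rcases eq_or_ne e 0 with rfl | he
      · exact smul_zero g
      have htop : MulAction.stabilizer P a = ⊤ := eq_top_iff.mpr fun g _ => ha g
      have h1 : MulAction.stabilizer P e = ⊤ :=
        eq_top_of_le_card _ (by rw [hconst e a he hane.symm, htop, card_top])
      have : g ∈ MulAction.stabilizer P e := h1 ▸ mem_top g
      exact this
    exact ⟨isCyclic_of_subsingleton, fun g hg => absurd (Subsingleton.elim g 1) hg⟩
  have hfpf := @central_fpf P E _ _ _ _ _ _ p q _ hq hpq hE hconst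
  have hzero : ∀ {e : E}, p • e = 0 → e = 0 := fun h => eq_zero_of_nsmul hp.out hq hpq hE h
  have hcyc : IsCyclic P := by
    by_contra hnc
    have htop : ¬ IsCyclic (⊤ : Subgroup P) := fun h =>
      hnc (isCyclic_of_surjective (⊤ : Subgroup P).subtype fun g => ⟨⟨g, trivial⟩, rfl⟩)
    obtain ⟨z, w, hzc, hz1, hzp, -, hwp, -, hwz, hA⟩ :=
      Cfsg.Agent.Lib.PGroupNormalSq.exists_normal_sq hp2 hP ⊤ htop
    have hzfix : ∀ {e : E}, z • e = e → e = 0 := fun h => hfpf hzc hzp hz1 h
    have hzcomm : ∀ u : P, u * z = z * u := fun u => mem_center_iff.mp hzc u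
    have hzn : (zpowers z).Normal := ⟨fun u hu g => by
      obtain ⟨i, rfl⟩ := mem_zpowers_iff.mp hu
      rw [mem_center_iff.mp (zpow_mem hzc i) g, mul_inv_cancel_right]
      exact zpow_mem (mem_zpowers z) i⟩
    -- some `w z ^ i` has a fixed point
    obtain ⟨e₀, he₀⟩ := exists_ne (0 : E)
    have hzero_avg : ∀ e : E, avg p z e = 0 := fun e => hzfix (avg_fixed e hzp)
    have hsum : ∑ i ∈ Finset.range p, avg p (w * z ^ i) e₀ = p • e₀ := by
      unfold avg
      rw [Finset.sum_comm]
      rw [Finset.sum_eq_single 0]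
      · simp
      · intro k hk hk0
        have hk' : k < p := Finset.mem_range.mp hk
        have : ∀ i : ℕ, (w * z ^ i) ^ k • e₀ = w ^ k • (z ^ k) ^ i • e₀ := fun i => by
          rw [((show Commute w z from hzcomm w).pow_right i).mul_pow, mul_smul, ← pow_mul, ← pow_mul,
            mul_comm i k]
        simp only [this, ← Finset.smul_sum]
        have hzk : z ^ k ≠ 1 := fun h => by
          have := orderOf_dvd_of_pow_eq_one h
          rw [orderOf_eq_prime hzp hz1] at this
          exact hk0 (Nat.eq_zero_of_dvd_of_lt this hk')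
        have h0 : avg p (z ^ k) e₀ = 0 := hfpf (pow_mem hzc k)
          (by rw [← pow_mul, mul_comm, pow_mul, hzp, one_pow]) hzk
          (avg_fixed e₀ (by rw [← pow_mul, mul_comm, pow_mul, hzp, one_pow]))
        unfold avg at h0
        rw [h0, smul_zero]
      · intro h
        exact absurd (Finset.mem_range.mpr hp.out.pos) h
    obtain ⟨i₀, -, hi₀⟩ : ∃ i ∈ Finset.range p, avg p (w * z ^ i) e₀ ≠ 0 := by
      by_contra hall
      push_neg at hall
      exact he₀ (hzero (hsum.symm.trans (Finset.sum_eq_zero hall)))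
    set x := w * z ^ i₀ with hx
    have hxp : x ^ p = 1 := by
      rw [hx, ((show Commute w z from hzcomm w).pow_right i₀).mul_pow, hwp, ← pow_mul, mul_comm i₀,
        pow_mul, hzp, one_pow, one_mul]
    have hx1 : x ≠ 1 := fun h => hwz (eq_inv_of_mul_eq_one_left h ▸
      inv_mem (pow_mem (mem_zpowers z) i₀))
    set a := avg p x e₀ with ha
    have hxa : x • a = a := avg_fixed e₀ hxp
    -- conjugates of `x` are `x z ^ m`
    have hconj : ∀ g : P, ∃ m, m < p ∧ g * x * g⁻¹ = x * z ^ m := by
      intro g
      let π := QuotientGroup.mk' (zpowers z)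
      haveI := hA
      haveI : ((closure ({z, w} : Set P)).map π).Normal :=
        Subgroup.Normal.map inferInstance _ (QuotientGroup.mk'_surjective _)
      have hπz : π z = 1 := (QuotientGroup.eq_one_iff z).mpr (mem_zpowers z)
      have hmap : (closure ({z, w} : Set P)).map π = zpowers (π w) := by
        rw [MonoidHom.map_closure, Set.image_pair, hπz, Subgroup.closure_insert_one]
        exact (zpowers_eq_closure _).symm
      have hπw : π w ≠ 1 := fun h => hwz ((QuotientGroup.eq_one_iff w).mp h)
      obtain ⟨u, hu, huc, hu1⟩ := Cfsg.Agent.Lib.Critical.exists_center_mem (hP.to_quotient (zpowers z))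
        (N := (closure ({z, w} : Set P)).map π) (by rw [hmap, zpowers_ne_bot]; exact hπw)
      rw [hmap] at hu
      have how : orderOf (π w) = p := orderOf_eq_prime (by rw [← map_pow, hwp, map_one]) hπw
      haveI : Fact (Nat.card (zpowers (π w))).Prime := ⟨by rw [Nat.card_zpowers, how]; exact hp.out⟩
      have hgen : zpowers (π w) ≤ zpowers u := by
        intro v hv
        have := mem_zpowers_of_prime_card (G := zpowers (π w)) (g := ⟨u, hu⟩) (g' := ⟨v, hv⟩) rfl
          (fun h => hu1 (congrArg Subtype.val h))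
        obtain ⟨j, hj⟩ := mem_zpowers_iff.mp this
        exact mem_zpowers_iff.mpr ⟨j, congrArg Subtype.val hj⟩
      have hπx : π x ∈ center (P ⧸ zpowers z) := by
        rw [hx, map_mul, map_pow, hπz, one_pow, mul_one]
        exact zpowers_le.mpr huc (hgen (mem_zpowers _))
      have hdiff : x⁻¹ * (g * x * g⁻¹) ∈ zpowers z := by
        rw [← QuotientGroup.eq_one_iff, ← QuotientGroup.mk'_apply]
        simp only [map_mul, map_inv]
        show (π x)⁻¹ * (π g * π x * (π g)⁻¹) = 1
        rw [mem_center_iff.mp hπx (π g)]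
        group
      obtain ⟨m, hm, e⟩ := exists_exponent hzp hz1 hdiff
      exact ⟨m, hm, by rw [e, mul_inv_cancel_left]⟩
    have hxnc : ¬ x ∈ center P := fun h => hi₀ (hfpf h hxp hx1 hxa)
    obtain ⟨g, hg⟩ : ∃ g : P, g * x * g⁻¹ ≠ x := by
      by_contra hall
      push_neg at hall
      exact hxnc (mem_center_iff.mpr fun g => by rw [← mul_inv_eq_iff_eq_mul, hall g])
    obtain ⟨n, hn, hgn⟩ := hconj g
    have hn0 : n ≠ 0 := fun h => hg (by rw [hgn, h, pow_zero, mul_one])
    -- two components only meet in zero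
    have hdisj : ∀ {i j : ℕ} {e : E}, i < p → j < p → i ≠ j → (x * z ^ i) • e = e →
        avg p (x * z ^ j) e = 0 := by
      intro i j e hi hj hij he
      have hxj : (x * z ^ j) ^ p = 1 := by
        rw [((show Commute x z from hzcomm x).pow_right j).mul_pow, hxp, ← pow_mul, mul_comm j,
          pow_mul, hzp, one_pow, one_mul]
      set f := avg p (x * z ^ j) e with hf
      have h1 : (x * z ^ i) • f = f := by
        rw [hf, avg_smul_comm ?_, he]
        have hzi : ∀ (k : ℕ) (u : P), Commute (z ^ k) u := fun k u =>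
          (show Commute z u from (hzcomm u).symm).pow_left k
        exact (((Commute.refl x).mul_right (hzi j x).symm).mul_left
          ((hzi i x).mul_right (hzi i (z ^ j)))).eq
      have h2 : (x * z ^ j) • f = f := avg_fixed e hxj
      have h3 : z ^ i • f = z ^ j • f := by
        have := h1.trans h2.symm
        rwa [mul_smul x, mul_smul x, smul_left_cancel_iff] at this
      by_contra hne
      have hzd : z ^ i * (z ^ j)⁻¹ ≠ 1 := fun h => hij (by
        have := mul_inv_eq_one.mp h
        exact pow_injOn_Iio_orderOf (by rwa [Set.mem_Iio, orderOf_eq_prime hzp hz1])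
          (by rwa [Set.mem_Iio, orderOf_eq_prime hzp hz1]) this)
      refine hne (hfpf (mul_mem (pow_mem hzc i) (inv_mem (pow_mem hzc j))) ?_ hzd ?_)
      · rw [((Commute.pow_pow_self z i j).inv_right).mul_pow, inv_pow, ← pow_mul, ← pow_mul,
          mul_comm i, mul_comm j, pow_mul, pow_mul, hzp, one_pow, one_pow, inv_one, mul_one]
      · have h4 : (z ^ j)⁻¹ • z ^ i • f = f := by rw [h3, inv_smul_smul]
        rwa [smul_smul, (((Commute.pow_pow_self z i j).inv_right).symm).eq] at h4
    have hga : (x * z ^ n) • g • a = g • a := by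
      rw [← hgn, mul_smul, mul_smul, inv_smul_smul, hxa]
    have hga0 : g • a ≠ 0 := fun h => hi₀ ((smul_eq_zero_iff_eq g).mp h)
    have hxfix : avg p x a = p • a := avg_of_fixed hxa
    have hxga : avg p x (g • a) = 0 := by
      have := hdisj hn hp.out.pos hn0 hga
      rwa [pow_zero, mul_one] at this
    have hv0 : a + g • a ≠ 0 := fun h => hi₀ (hzero (by
      have h' := congrArg (avg p x) h
      rw [avg_add, hxfix, hxga, add_zero] at h'
      rw [h']; simp [avg]))
    have hle : MulAction.stabilizer P (a + g • a) ≤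
        MulAction.stabilizer P a ⊓ MulAction.stabilizer P (g • a) := by
      intro h hh
      rw [MulAction.mem_stabilizer_iff, smul_add] at hh
      obtain ⟨m, hm, hhm⟩ := hconj h
      have hha : (x * z ^ m) • h • a = h • a := by rw [← hhm, mul_smul, mul_smul, inv_smul_smul, hxa]
      set k := (m + n) % p with hk
      have hkp : k < p := Nat.mod_lt _ hp.out.pos
      have hzk : z ^ k = z ^ (m + n) := by
        rw [hk, ← orderOf_eq_prime hzp hz1, pow_mod_orderOf]
      have hhga : (x * z ^ k) • h • g • a = h • g • a := by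
        have h1 : h * (x * z ^ n) * h⁻¹ = x * z ^ k := by
          rw [hzk, pow_add, ← mul_assoc x, ← hhm]
          calc h * (x * z ^ n) * h⁻¹ = h * x * (z ^ n * h⁻¹) := by group
            _ = h * x * (h⁻¹ * z ^ n) := by
              rw [((show Commute h⁻¹ z from hzcomm _).pow_right n).eq]
            _ = h * x * h⁻¹ * z ^ n := by group
        rw [← h1, mul_smul, mul_smul, inv_smul_smul, hga]
      rcases eq_or_ne m 0 with rfl | hm0
      · rw [pow_zero, mul_one] at hha
        have hk0 : k ≠ 0 := by
          rw [hk, zero_add, Nat.mod_eq_of_lt hn]; exact hn0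
        have h2 : avg p x (h • g • a) = 0 := by
          have := hdisj hkp hp.out.pos hk0 hhga
          rwa [pow_zero, mul_one] at this
        have h3 := congrArg (avg p x) hh
        rw [avg_add, avg_add, avg_of_fixed hha, h2, hxfix, hxga, add_zero, add_zero] at h3
        have h4 : h • a = a := sub_eq_zero.mp (hzero (by rw [smul_sub, h3, sub_self]))
        refine ⟨h4, ?_⟩
        rw [h4, add_left_cancel_iff] at hh
        exact hh
      · exfalso
        rcases eq_or_ne k 0 with hk0 | hk0
        · have hmn : m ≠ n := by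
            intro e
            have h2 : p ∣ m + n := Nat.dvd_of_mod_eq_zero hk0
            rw [e, ← two_mul] at h2
            rcases hp.out.dvd_mul.mp h2 with h3 | h3
            · exact hp2 ((Nat.prime_dvd_prime_iff_eq hp.out Nat.prime_two).mp h3)
            · exact hn0 (Nat.eq_zero_of_dvd_of_lt h3 hn)
          rw [hk0, pow_zero, mul_one] at hhga
          have h3 := congrArg (avg p (x * z ^ n)) hh
          rw [avg_add, avg_add, hdisj hm hn hmn hha,
            hdisj hp.out.pos hn (Ne.symm hn0) (by rwa [pow_zero, mul_one]), avg_of_fixed hga,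
            hdisj hp.out.pos hn (Ne.symm hn0) (by rwa [pow_zero, mul_one]), zero_add, zero_add] at h3
          exact hga0 (hzero h3.symm)
        · have h1 := hdisj hm hp.out.pos hm0 hha
          have h2 := hdisj hkp hp.out.pos hk0 hhga
          rw [pow_zero, mul_one] at h1 h2
          have h3 := congrArg (avg p x) hh
          rw [avg_add, avg_add, h1, h2, hxfix, hxga, add_zero, add_zero] at h3
          exact hi₀ (hzero h3.symm)
    have e1 := stabilizer_eq_of_le hconst hv0 hi₀ (hle.trans inf_le_left)
    have e2 := stabilizer_eq_of_le hconst hv0 hga0 (hle.trans inf_le_right)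
    have hxga' : x ∈ MulAction.stabilizer P (g • a) := by
      rw [← e2, e1]; exact hxa
    rw [MulAction.mem_stabilizer_iff] at hxga'
    have hzn : z ^ n • g • a = g • a := by
      have := hga.trans hxga'.symm
      rwa [mul_smul x, smul_left_cancel_iff] at this
    refine hga0 (hfpf (pow_mem hzc n) (by rw [← pow_mul, mul_comm, pow_mul, hzp, one_pow]) ?_ hzn)
    intro h
    have := orderOf_dvd_of_pow_eq_one h
    rw [orderOf_eq_prime hzp hz1] at this
    exact hn0 (Nat.eq_zero_of_dvd_of_lt this hn)
  refine ⟨hcyc, fun g hg a hga => ?_⟩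
  obtain ⟨k, hk⟩ := IsPGroup.iff_orderOf.mp hP g
  obtain ⟨k, rfl⟩ : ∃ k', k = k' + 1 := ⟨k - 1, by
    rcases Nat.eq_zero_or_pos k with rfl | h
    · rw [pow_zero, orderOf_eq_one_iff] at hk; exact absurd hk hg
    · omega⟩
  haveI := hcyc
  refine hfpf (z := g ^ p ^ k) (mem_center_iff.mpr fun u =>
    (IsCyclic.isMulCommutative (α := P)).is_comm.comm u _) ?_ ?_ ?_
  · rw [← pow_mul, ← pow_succ, ← hk, pow_orderOf_eq_one]
  · intro h
    have := orderOf_dvd_of_pow_eq_one h
    rw [hk, Nat.pow_dvd_pow_iff_le_right hp.out.one_lt] at this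
    omega
  · induction p ^ k with
    | zero => simp
    | succ i ih => rw [pow_succ, mul_smul, hga, ih]

end aux

/-- Let `p ≠ 2` be prime and `P` a finite `p`-group acting faithfully by additive automorphisms on a finite elementary abelian `q`-group `E` (`q` prime), such that `|P_a|` is the same for all `a ≠ 0`. Then `P` is cyclic and every non-identity element of `P` fixes only `0`. -/
theorem result {P E : Type*} [Group P] [Finite P]
    [AddCommGroup E] [Finite E] [DistribMulAction P E] [FaithfulSMul P E]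
    {p q : ℕ} [Fact p.Prime] (hp2 : p ≠ 2) (hP : IsPGroup p P) (hq : q.Prime) (hE : ∀ e : E, q • e = 0)
    (hconst : ∀ a b : E, a ≠ 0 → b ≠ 0 →
      Nat.card (MulAction.stabilizer P a) = Nat.card (MulAction.stabilizer P b)) :
    IsCyclic P ∧ ∀ g : P, g ≠ 1 → ∀ a : E, g • a = a → a = 0 := by
  exact Cfsg.Agent.S1160.main hp2 hP hq hE hconst

end Cfsg.Agent.S1160
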