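import Cfsg.Statements.S3863
import Mathlib

set_option autoImplicit false
open Cfsg

namespace Cfsg.Agent.S3863


theorem conj_pow_inv {G : Type*} [Group G] {t x : G} (h : t * x * t⁻¹ = x⁻¹) (m : ℕ) :
    Odd m → t ^ m * x * (t ^ m)⁻¹ = x⁻¹ := by
  rintro ⟨k, rfl⟩
  induction k with
  | zero => simpa using h
  | succ k ih =>
    have : 2 * (k + 1) + 1 = (2 * k + 1) + 1 + 1 := by ring
    rw [this, pow_succ', pow_succ']
    calc (t * (t * t ^ (2 * k + 1))) * x * (t * (t * t ^ (2 * k + 1)))⁻¹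
        = t * (t * (t ^ (2 * k + 1) * x * (t ^ (2 * k + 1))⁻¹) * t⁻¹) * t⁻¹ := by group
      _ = t * (t * x⁻¹ * t⁻¹) * t⁻¹ := by rw [ih]
      _ = t * x * t⁻¹ := by
          rw [show t * x⁻¹ * t⁻¹ = (t * x * t⁻¹)⁻¹ by group, h, inv_inv, h]
      _ = x⁻¹ := h

theorem exists_two_elt {G : Type*} [Group G] [Finite G] {x : G} (hx : IsConj x x⁻¹) :
    ∃ t : G, (∃ j : ℕ, orderOf t = 2 ^ j) ∧ t * x * t⁻¹ = x⁻¹ := by
  obtain ⟨g, hg⟩ := isConj_iff.1 hx
  obtain ⟨a, m, hm, hgm⟩ := Nat.exists_eq_two_pow_mul_odd (orderOf_pos g).ne'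
  refine ⟨g ^ m, ⟨a, ?_⟩, conj_pow_inv hg m hm⟩
  rw [orderOf_pow_of_dvd hm.pos.ne' (hgm ▸ Dvd.intro_left _ rfl), hgm,
    Nat.mul_div_cancel _ hm.pos]

theorem sq_eq_one_of_odd {G : Type*} [Group G] [Finite G] {x : G} (hx : IsConj x x⁻¹)
    (h : Odd (Subgroup.centralizer ({x} : Set G)).index) : x ^ 2 = 1 := by
  classical
  haveI := Fintype.ofFinite G
  replace h : Odd (MulAction.orbit (ConjAct G) x).ncard := by
    have e : (MulAction.stabilizer (ConjAct G) x).index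
        = (Subgroup.centralizer ({x} : Set G)).index := by
      rw [ConjAct.stabilizer_eq_centralizer]
      rfl
    rw [← MulAction.index_stabilizer, e]
    exact h
  rw [← Nat.card_coe_set_eq] at h
  set C := MulAction.orbit (ConjAct G) x with hC
  have hinv : ∀ y : G, y ∈ C → y⁻¹ ∈ C := by
    intro y hy
    rw [hC, ConjAct.mem_orbit_conjAct] at hy ⊢
    refine (IsConj.trans ?_ hx.symm)
    obtain ⟨c, hc⟩ := isConj_iff.1 hy
    exact isConj_iff.2 ⟨c, by rw [← hc]; group⟩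
  let f : C → C := fun y => ⟨y.1⁻¹, hinv y.1 y.2⟩
  have hf : Function.Involutive f := fun y => Subtype.ext (inv_inv y.1)
  have hodd : ¬ 2 ∣ Fintype.card C := by
    rw [← Nat.card_eq_fintype_card]; exact fun h2 => Nat.not_even_iff_odd.2 (by simpa using h) (even_iff_two_dvd.2 h2)
  obtain ⟨y, hy⟩ := Equiv.Perm.exists_fixed_point_of_prime (p := 2) (n := 1)
    (hp := ⟨Nat.prime_two⟩) hodd (σ := hf.toPerm f) (by
      ext y; simp [pow_succ, Function.Involutive.toPerm, hf y])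
  have hy' : y.1⁻¹ = y.1 := congrArg Subtype.val hy
  have hc : IsConj y.1 x := ConjAct.mem_orbit_conjAct.1 y.2
  obtain ⟨c, hc⟩ := isConj_iff.1 hc
  have : y.1 ^ 2 = 1 := by rw [pow_two, ← inv_eq_iff_mul_eq_one]; exact hy'
  rw [← hc, conj_pow, this, mul_one, mul_inv_cancel]


/-- Let x be an element of the finite group G that is conjugate to its inverse. Then some 2-element conjugates x to its inverse; if the conjugacy class of x has odd size then x ^ 2 = 1; and x lies in, and is conjugate to its inverse inside, every normal subgroup of odd index. -/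
theorem result {G : Type*} [Group G] [Finite G] (x : G) (hx : IsConj x x⁻¹) : (∃ t : G, (∃ j : ℕ, orderOf t = 2 ^ j) ∧ t * x * t⁻¹ = x⁻¹) ∧ (Odd (Subgroup.centralizer ({x} : Set G)).index → x ^ 2 = 1) ∧ ∀ (N : Subgroup G) [N.Normal], Odd N.index → ∃ hxN : x ∈ N, IsConj (⟨x, hxN⟩ : N) (⟨x, hxN⟩ : N)⁻¹ := by
  obtain ⟨t, ⟨j, hj⟩, ht⟩ := exists_two_elt hx
  refine ⟨⟨t, ⟨j, hj⟩, ht⟩, sq_eq_one_of_odd hx, ?_⟩
  intro N _ hN
  have htN : t ∈ N := by
    have h1 : orderOf (QuotientGroup.mk' N t) ∣ 2 ^ j := hj ▸ orderOf_map_dvd _ t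
    have h2 : orderOf (QuotientGroup.mk' N t) ∣ N.index := orderOf_dvd_natCard _
    have h3 : Nat.Coprime (2 ^ j) N.index := (Nat.coprime_two_left.2 hN).pow_left j
    have := Nat.eq_one_of_dvd_coprimes h3 h1 h2
    rwa [orderOf_eq_one_iff, QuotientGroup.mk'_apply, QuotientGroup.eq_one_iff] at this
  have hsq : x ^ 2 ∈ N := by
    have h2 : x⁻¹ * t * x * t⁻¹ ∈ N := by
      have h4 := N.mul_mem (‹N.Normal›.conj_mem t htN x⁻¹) (N.inv_mem htN)
      simpa [mul_assoc] using h4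
    have h5 : x⁻¹ * t * x * t⁻¹ = (x ^ 2)⁻¹ := by
      rw [show x⁻¹ * t * x * t⁻¹ = x⁻¹ * (t * x * t⁻¹) by group, ht, pow_two, mul_inv_rev]
    exact N.inv_mem_iff.1 (h5 ▸ h2)
  have hxN : x ∈ N := by
    have h1 : orderOf (QuotientGroup.mk' N x) ∣ 2 := by
      apply orderOf_dvd_of_pow_eq_one
      rw [← map_pow, QuotientGroup.mk'_apply, QuotientGroup.eq_one_iff]; exact hsq
    have h2 : orderOf (QuotientGroup.mk' N x) ∣ N.index := orderOf_dvd_natCard _
    have := Nat.eq_one_of_dvd_coprimes (Nat.coprime_two_left.2 hN) h1 h2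
    rwa [orderOf_eq_one_iff, QuotientGroup.mk'_apply, QuotientGroup.eq_one_iff] at this
  exact ⟨hxN, isConj_iff.2 ⟨⟨t, htN⟩, Subtype.ext ht⟩⟩

end Cfsg.Agent.S3863
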