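import Cfsg.Statements.S4742
import Cfsg.Agent.Lib.CharCount.DefectZero
import Mathlib

set_option autoImplicit false
open Cfsg

namespace Cfsg.Agent.S4742

/-- Let p ≠ q be primes dividing the order of the finite group G, and suppose the centralizer of every non-identity p-element of G has order prime to q. Then either G has an irreducible character of p-defect zero, or for every non-identity q-element z of G there are conjugates g, h of z such that g h⁻¹ is a non-identity p-element. -/
theorem result {G : Type*} [Group G] [Finite G] (p q : ℕ) [Fact p.Prime] [Fact q.Prime] (hppq : p ≠ q) (hpG : p ∣ Nat.card G) (hqG : q ∣ Nat.card G) (hC : ∀ g : G, g ≠ 1 → (∃ k : ℕ, orderOf g = p ^ k) → ¬ q ∣ Nat.card ↥(Subgroup.centralizer ({g} : Set G))) : (∃ χ : Cfsg.IrrCharacter G, (Cfsg.charDegree (χ : G → ℂ)).factorization p = (Nat.card G).factorization p) ∨ ∀ z : G, z ≠ 1 → (∃ k : ℕ, orderOf z = q ^ k) → ∃ g h : G, IsConj z g ∧ IsConj z h ∧ g * h⁻¹ ≠ 1 ∧ ∃ k : ℕ, orderOf (g * h⁻¹) = p ^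 k := by
  by_contra hcon
  push Not at hcon
  obtain ⟨hno, z, hz1, ⟨k, hk⟩, hall⟩ := hcon
  have hzC : ¬ p ∣ Nat.card (Subgroup.centralizer ({z} : Set G)) := fun hdvd => by
    obtain ⟨y, hy⟩ := exists_prime_orderOf_dvd_card' (G := Subgroup.centralizer ({z} : Set G)) p hdvd
    have hy' : orderOf (y : G) = p := by rw [Subgroup.orderOf_coe, hy]
    refine hC (y : G) (fun h1 => ?_) ⟨1, by rw [hy', pow_one]⟩ ?_
    · rw [h1, orderOf_one] at hy'
      exact (Fact.out : p.Prime).ne_one hy'.symm
    · have hmem : z ∈ Subgroup.centralizer ({(y : G)} : Set G) :=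
        Subgroup.mem_centralizer_singleton_iff.2
          (Subgroup.mem_centralizer_singleton_iff.1 y.2).symm
      refine dvd_trans ?_ (Subgroup.orderOf_dvd_natCard _ hmem)
      rw [hk]
      refine dvd_pow_self q (fun h0 => hz1 ?_)
      rw [← orderOf_eq_one_iff, hk, h0, pow_zero]
  obtain ⟨P⟩ : Nonempty (Sylow p G) := inferInstance
  rcases Cfsg.Agent.Lib.CharCount.exists_defectZero_or_exists_conj p z hzC P with
    ⟨χ, hχ⟩ | ⟨g, h, hg, hh, hgh, hgh1⟩
  · exact hno χ hχ
  · obtain ⟨j, hj⟩ := IsPGroup.iff_orderOf.1 P.isPGroup' ⟨_, hgh⟩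
    rw [Subgroup.orderOf_mk] at hj
    exact hall g h hg hh hgh1 j hj

end Cfsg.Agent.S4742
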