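import Cfsg.Statements.S4743
import Cfsg.Agent.S4742
import Mathlib

set_option autoImplicit false
open Cfsg

namespace Cfsg.Agent.S4743

/-- Let p ≠ q be primes dividing the order of the finite group G, suppose the centralizer of every non-identity p-element has order prime to q, and suppose G is p-solvable or q-solvable. Then G has an irreducible character of p-defect zero or an irreducible character of q-defect zero. -/
theorem result {G : Type*} [Group G] [Finite G] (p q : ℕ) [Fact p.Prime] [Fact q.Prime] (hppq : p ≠ q) (hpG : p ∣ Nat.card G) (hqG : q ∣ Nat.card G) (hC : ∀ g : G, g ≠ 1 → (∃ k : ℕ, orderOf g = p ^ k) → ¬ q ∣ Nat.card ↥(Subgroup.centralizer ({g} : Set G))) (hsolv : Cfsg.IsPSolvable p G ∨ Cfsg.IsPSolvable q G) : (∃ χ : Cfsg.IrrCharacter G, (Cfsg.charDegree (χ : G → ℂ)).factorization p = (Nat.card G).factorization p) ∨ (∃ χ : Cfsg.IrrCharacter G, (Cfsg.charDegree (χ : G → ℂ)).factorization q = (Nat.card G).factorization q) := by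
  by_contra hcon
  push Not at hcon
  obtain ⟨hp0, hq0⟩ := hcon
  have hC' : ∀ g : G, g ≠ 1 → (∃ k : ℕ, orderOf g = q ^ k) →
      ¬ p ∣ Nat.card ↥(Subgroup.centralizer ({g} : Set G)) := by
    intro g hg1 hgk hdvd
    obtain ⟨y, hy⟩ := exists_prime_orderOf_dvd_card' (G := Subgroup.centralizer ({g} : Set G)) p hdvd
    have hy' : orderOf (y : G) = p := by rw [Subgroup.orderOf_coe, hy]
    refine hC (y : G) (fun h1 => ?_) ⟨1, by rw [hy', pow_one]⟩ ?_
    · rw [h1, orderOf_one] at hy'
      exact (Fact.out : p.Prime).ne_one hy'.symm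
    · have hmem : g ∈ Subgroup.centralizer ({(y : G)} : Set G) :=
        Subgroup.mem_centralizer_singleton_iff.2
          (Subgroup.mem_centralizer_singleton_iff.1 y.2).symm
      obtain ⟨k, hk⟩ := hgk
      refine dvd_trans ?_ (Subgroup.orderOf_dvd_natCard _ hmem)
      rw [hk]
      refine dvd_pow_self q (fun h0 => hg1 ?_)
      rw [← orderOf_eq_one_iff, hk, h0, pow_zero]
  have key : ∀ (a b : ℕ) [Fact a.Prime] [Fact b.Prime], a ≠ b →
      (∀ z : G, z ≠ 1 → (∃ k : ℕ, orderOf z = b ^ k) → ∃ g h : G, IsConj z g ∧ IsConj z h ∧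
        g * h⁻¹ ≠ 1 ∧ ∃ k : ℕ, orderOf (g * h⁻¹) = a ^ k) →
      ∀ L : Subgroup G, L.Normal → b ∣ Nat.card L → a ∣ Nat.card L := by
    intro a b _ _ _ hall L hL hbL
    obtain ⟨z, hz⟩ := exists_prime_orderOf_dvd_card' (G := L) b hbL
    have hz' : orderOf (z : G) = b := by rw [Subgroup.orderOf_coe, hz]
    obtain ⟨g, h, hg, hh, hne, k, hk⟩ := hall (z : G) (fun h1 => by
      rw [h1, orderOf_one] at hz'
      exact (Fact.out : b.Prime).ne_one hz'.symm) ⟨1, by rw [hz', pow_one]⟩
    have hmem : ∀ y : G, IsConj (z : G) y → y ∈ L := fun y hy => by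
      obtain ⟨c, rfl⟩ := isConj_iff.1 hy
      exact hL.conj_mem _ z.2 c
    refine dvd_trans ?_ (Subgroup.orderOf_dvd_natCard _ (L.mul_mem (hmem g hg) (L.inv_mem (hmem h hh))))
    rw [hk]
    refine dvd_pow_self a (fun h0 => hne ?_)
    rw [← orderOf_eq_one_iff, hk, h0, pow_zero]
  have hpq : ∀ L : Subgroup G, L.Normal → q ∣ Nat.card L → p ∣ Nat.card L :=
    key p q hppq ((Cfsg.Agent.S4742.result p q hppq hpG hqG hC).resolve_left
      (fun ⟨χ, hχ⟩ => hp0 χ hχ))
  have hqp : ∀ L : Subgroup G, L.Normal → p ∣ Nat.card L → q ∣ Nat.card L :=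
    key q p hppq.symm ((Cfsg.Agent.S4742.result q p hppq.symm hqG hpG hC').resolve_left
      (fun ⟨χ, hχ⟩ => hq0 χ hχ))
  have main : ∀ (a b : ℕ) [Fact a.Prime] [Fact b.Prime], a ≠ b → a ∣ Nat.card G →
      (∀ L : Subgroup G, L.Normal → b ∣ Nat.card L → a ∣ Nat.card L) →
      (∀ L : Subgroup G, L.Normal → a ∣ Nat.card L → b ∣ Nat.card L) →
      ¬ Cfsg.IsPSolvable a G := by
    intro a b _ _ hab haG hba hab' ⟨n, H, h0, hlast, hmono, hnorm, hfac⟩
    have hall : ∀ i : Fin (n + 1), ¬ a ∣ Nat.card (H i) := by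
      intro i
      induction i using Fin.induction with
      | zero => rw [h0, Subgroup.card_bot, Nat.dvd_one]; exact (Fact.out : a.Prime).ne_one
      | succ i ih =>
        intro hd
        have hle : H i.castSucc ≤ H i.succ := hmono i.castSucc_le_succ
        have hmul : Nat.card (H i.castSucc) * (H i.castSucc).relIndex (H i.succ) =
            Nat.card (H i.succ) := by
          rw [← Subgroup.relIndex_bot_left (H i.castSucc), Subgroup.relIndex_mul_relIndex _ _ _ bot_le hle,
            Subgroup.relIndex_bot_left]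
        rcases hfac i with ⟨m, hm⟩ | hco
        · have hb := hab' _ (hnorm _) hd
          rw [← hmul, hm] at hb
          rcases (Fact.out : b.Prime).dvd_mul.1 hb with h | h
          · exact ih (hba _ (hnorm _) h)
          · exact hab ((Nat.prime_dvd_prime_iff_eq Fact.out Fact.out).1
              ((Fact.out : b.Prime).dvd_of_dvd_pow h)).symm
        · rw [← hmul] at hd
          rcases (Fact.out : a.Prime).dvd_mul.1 hd with h | h
          · exact ih h
          · exact ((Fact.out : a.Prime).coprime_iff_not_dvd.1 hco.symm) h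
    exact hall (Fin.last n) (by rw [hlast, Subgroup.card_top]; exact haG)
  rcases hsolv with h | h
  · exact main p q hppq hpG hpq hqp h
  · exact main q p hppq.symm hqG hqp hpq h

end Cfsg.Agent.S4743
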