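import Cfsg.Statements.S0081
import Cfsg.Agent.Lib.Transfer.Criteria

set_option autoImplicit false
open Cfsg

namespace Cfsg.Agent.S0081

open scoped Pointwise

/-- If a normal subgroup meets a Sylow p-subgroup P inside the Frattini subgroup of P, then it has a normal p-complement. -/
theorem result {G : Type*} [Group G] [Finite G] {p : ℕ} [Fact p.Prime] (P : Sylow p G) (N : Subgroup G) [N.Normal] (h : N ⊓ (P : Subgroup G) ≤ (frattini P).map (P : Subgroup G).subtype) : Cfsg.HasNormalPComplement p N := by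
  set M := N ⊔ (P : Subgroup G) with hM
  have hNM : N ≤ M := le_sup_left
  have hPM : (P : Subgroup G) ≤ M := le_sup_right
  set S : Sylow p M := P.subtype hPM with hS
  have hNn : (N.subgroupOf M).Normal := Subgroup.Normal.subgroupOf inferInstance M
  have hPQ : IsPGroup p (M ⧸ N.subgroupOf M) := by
    refine S.2.of_surjective ((QuotientGroup.mk' (N.subgroupOf M)).comp (S : Subgroup M).subtype) ?_
    intro y
    obtain ⟨⟨m, hm⟩, rfl⟩ := QuotientGroup.mk'_surjective _ y
    obtain ⟨a, ha, b, hb, rfl⟩ : m ∈ (N : Set G) * ((P : Subgroup G) : Set G) := by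
      rw [← Subgroup.normal_mul]; exact hm
    refine ⟨⟨⟨b, hPM hb⟩, hb⟩, ?_⟩
    rw [MonoidHom.comp_apply]
    refine QuotientGroup.eq.mpr ?_
    show b⁻¹ * (a * b) ∈ N
    simpa [mul_assoc] using (inferInstance : N.Normal).conj_mem a ha b⁻¹
  have hle : Cfsg.pResidual p M ⊓ (S : Subgroup M) ≤
      (frattini S).map (S : Subgroup M).subtype := by
    rintro x ⟨hx1, hx2⟩
    have hxN : (x : G) ∈ N := Lib.Transfer.pResidual_le_of_isPGroup_quotient _ hPQ hx1
    obtain ⟨y, hy, hyx⟩ := h ⟨hxN, hx2⟩
    let e : (S : Subgroup M) ≃* (P : Subgroup G) := Subgroup.subgroupOfEquivOfLe hPM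
    have he := frattini_le_comap_frattini_of_surjective
      (φ := e.symm.toMonoidHom) e.symm.surjective hy
    exact ⟨e.symm y, he, Subtype.ext hyx⟩
  have hnpc := Lib.Transfer.hasNormalPComplement_of_le_frattini S hle
  exact Lib.Transfer.hasNormalPComplement_of_injective (Subgroup.inclusion hNM)
    (Subgroup.inclusion_injective hNM) hnpc

end Cfsg.Agent.S0081
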