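import Cfsg.Statements.S5515
import Cfsg.Agent.Lib.POmegaEight.Extension
import Cfsg.Agent.S2608
import Cfsg.Agent.S0296

set_option autoImplicit false
open Cfsg

namespace Cfsg.Agent.S5515

/-- `Out PΩ⁺(8,3) ≅ S₄`. -/
theorem outEquiv : Nonempty (Cfsg.Out (Cfsg.POmega (ZMod 3) (Cfsg.quadFormPlus 4 (ZMod 3))) ≃*
    Equiv.Perm (Fin 4)) := by
  have : Fact (Nat.Prime 3) := ⟨by norm_num⟩
  have h := Cfsg.Agent.S2608.result (F := ZMod 3) (p := 3) (f := 1) le_rfl
    (by simp [ZMod.card]) (by norm_num) (m := 4) le_rfl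
  rw [if_pos rfl] at h
  have : Subsingleton (Multiplicative (ZMod 1)) := inferInstanceAs (Subsingleton (Fin 1))
  exact h.map fun e => e.trans (MulEquiv.prodUnique)

/-- `PΩ⁺(8,3)` has trivial centre. -/
theorem center_eq_bot :
    Subgroup.center (Cfsg.POmega (ZMod 3) (Cfsg.quadFormPlus 4 (ZMod 3))) = ⊥ := by
  have : Fact (Nat.Prime 3) := ⟨by norm_num⟩
  have hs := Cfsg.Agent.S0296.result (F := ZMod 3) 4 le_rfl
  rcases (Subgroup.center (Cfsg.POmega (ZMod 3) (Cfsg.quadFormPlus 4 (ZMod 3)))).normal_of_characteristic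
    |> hs.eq_bot_or_eq_top_of_normal _ with h | h
  · exact h
  · exfalso
    obtain ⟨e⟩ := outEquiv
    letI : CommGroup (Cfsg.POmega (ZMod 3) (Cfsg.quadFormPlus 4 (ZMod 3))) :=
      { (inferInstance : Group (Cfsg.POmega (ZMod 3) (Cfsg.quadFormPlus 4 (ZMod 3)))) with
        mul_comm := fun a b => Subgroup.mem_center_iff.1 (h ▸ Subgroup.mem_top b) a }
    haveI : IsSimpleGroup (Cfsg.POmega (ZMod 3) (Cfsg.quadFormPlus 4 (ZMod 3))) := hs
    haveI hcyc : IsCyclic (Cfsg.POmega (ZMod 3) (Cfsg.quadFormPlus 4 (ZMod 3))) :=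
      IsSimpleGroup.isCyclic
    let A := IsCyclic.mulAutMulEquiv (Cfsg.POmega (ZMod 3) (Cfsg.quadFormPlus 4 (ZMod 3)))
    have hc : ∀ x y : Cfsg.Out (Cfsg.POmega (ZMod 3) (Cfsg.quadFormPlus 4 (ZMod 3))),
        x * y = y * x := by
      intro x y
      induction x using QuotientGroup.induction_on with
      | H u => induction y using QuotientGroup.induction_on with
        | H v =>
          have huv : u * v = v * u := A.injective (by rw [map_mul, map_mul, mul_comm])
          rw [← QuotientGroup.mk_mul, ← QuotientGroup.mk_mul, huv]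
    have h4 : ∀ a b : Equiv.Perm (Fin 4), a * b = b * a := fun a b => by
      have := congrArg e (hc (e.symm a) (e.symm b))
      simpa using this
    exact absurd (h4 (Equiv.swap 0 1) (Equiv.swap 1 2)) (by decide)

/-- Let G and G′ be finite groups whose generalized Fitting subgroups are isomorphic to PΩ⁺(8, 3) (the commutator subgroup of the isometry group of the hyperbolic quadratic form in dimension 8 over the field with three elements, modulo its centre) with quotients isomorphic to the symmetric group of degree 3. Then G and G′ are isomorphic. -/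
theorem result {G G' : Type*} [Group G] [Finite G] [Group G'] [Finite G'] (hF : Nonempty (↥(Cfsg.generalizedFittingSubgroup G) ≃* Cfsg.POmega (ZMod 3) (Cfsg.quadFormPlus 4 (ZMod 3)))) (hF' : Nonempty (↥(Cfsg.generalizedFittingSubgroup G') ≃* Cfsg.POmega (ZMod 3) (Cfsg.quadFormPlus 4 (ZMod 3)))) [hn : (Cfsg.generalizedFittingSubgroup G).Normal] [hn' : (Cfsg.generalizedFittingSubgroup G').Normal] (hq : Nonempty (G ⧸ Cfsg.generalizedFittingSubgroup G ≃* Equiv.Perm (Fin 3))) (hq' : Nonempty (G' ⧸ Cfsg.generalizedFittingSubgroup G' ≃* Equiv.Perm (Fin 3))) : Nonempty (G ≃* G') := by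
  obtain ⟨e0⟩ := outEquiv
  exact Cfsg.Agent.Lib.POmegaEight.nonempty_mulEquiv center_eq_bot e0 hF hF' hq hq'

end Cfsg.Agent.S5515
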