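import Cfsg.Statements.S0121
import Mathlib

set_option autoImplicit false
open Cfsg

namespace Cfsg.Agent.S0121

/-- A p'-automorphism of a p-group acting trivially on a critical subgroup is trivial. -/
theorem result {G : Type*} [Group G] [Finite G] {p : ℕ} [Fact p.Prime] (hG : IsPGroup p G) (H : Subgroup G) (hH : H.Characteristic) (h1 : (frattini H).map H.subtype ≤ Subgroup.centralizer (H : Set G)) (h2 : ⁅H, (⊤ : Subgroup G)⁆ ≤ H ⊓ Subgroup.centralizer (H : Set G)) (h3 : Subgroup.centralizer (H : Set G) ≤ H) (a : MulAut G) (ha : Nat.Coprime (orderOf a) p) (h : ∀ x ∈ H, a x = x) : a = 1 := by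
  ext g
  have hHn : H.Normal := inferInstance
  have hfix : ∀ h' ∈ H, g⁻¹ * a g * h' * (g⁻¹ * a g)⁻¹ = h' := by
    intro h' hh'
    have hk : g * h' * g⁻¹ ∈ H := hHn.conj_mem h' hh' g
    have e : a g * h' * (a g)⁻¹ = g * h' * g⁻¹ := by
      rw [← h _ hk, map_mul, map_mul, map_inv, h h' hh']
    calc g⁻¹ * a g * h' * (g⁻¹ * a g)⁻¹ = g⁻¹ * (a g * h' * (a g)⁻¹) * g := by group
      _ = g⁻¹ * (g * h' * g⁻¹) * g := by rw [e]
      _ = h' := by group
  have hmem : g⁻¹ * a g ∈ H := h3 (Subgroup.mem_centralizer_iff.2 fun h' hh' => by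
    have := hfix h' hh'
    exact (mul_inv_eq_iff_eq_mul.1 this).symm)
  set z := g⁻¹ * a g with hz
  have hpow : ∀ k : ℕ, (a ^ k) g = g * z ^ k := by
    intro k
    induction k with
    | zero => simp
    | succ k ih =>
      rw [pow_succ' a, MulAut.mul_apply, ih, map_mul, map_pow, h z hmem, pow_succ' z, ← mul_assoc,
        show g * z = a g by rw [hz, mul_inv_cancel_left]]
  have hz1 : z ^ orderOf a = 1 := by
    have := hpow (orderOf a)
    rw [pow_orderOf_eq_one, MulAut.one_apply] at this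
    exact left_eq_mul.1 this
  obtain ⟨k, hk⟩ := hG z
  have hz0 : z = 1 := by
    rw [← orderOf_eq_one_iff]
    exact Nat.eq_one_of_dvd_coprimes (ha.pow_right k) (orderOf_dvd_of_pow_eq_one hz1)
      (orderOf_dvd_of_pow_eq_one hk)
  simp only [MulAut.one_apply]
  rw [hz] at hz0
  exact (inv_mul_eq_one.1 hz0).symm

end Cfsg.Agent.S0121
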