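import Cfsg.Statements.S0599
import Mathlib
import Cfsg.Agent.Lib.PGroup.ElemAbelian
import Cfsg.Agent.Lib.PGroup.Omega
import Cfsg.Agent.Lib.PGroup.Thompson
import Cfsg.Agent.Lib.PGroup.Quadratic
import Cfsg.Agent.Lib.PGroup.Replacement

set_option autoImplicit false
open Cfsg

namespace Cfsg.Agent.S0599

/-- The Timmesfeld replacement Theorem: replacing a best offender A by C_A([U, A]) gives a best offender with fixed points [U, A]C_V(A), still nontrivial on V if A was. -/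
theorem result {G : Type*} [Group G] [Finite G] {p : ℕ} [Fact p.Prime] (V A : Subgroup G) (hV : Cfsg.IsElementaryAbelian p V) (hAV : A ≤ Subgroup.normalizer (V : Set G)) (hA : Cfsg.IsBestOffenderOn p V A) (U : Subgroup G) (hU : U ≤ V) : Cfsg.IsBestOffenderOn p V (A ⊓ Subgroup.centralizer ((⁅U, A⁆ : Subgroup G) : Set G)) ∧ V ⊓ Subgroup.centralizer ((A ⊓ Subgroup.centralizer ((⁅U, A⁆ : Subgroup G) : Set G) : Subgroup G) : Set G) = ⁅U, A⁆ ⊔ (V ⊓ Subgroup.centralizer (A : Set G)) ∧ (⁅V, A⁆ ≠ ⊥ → ⁅V, A ⊓ Subgroup.centralizer ((⁅U, A⁆ : Subgroup G) : Set G)⁆ ≠ ⊥) := by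
  have hVc : ∀ x ∈ V, ∀ y ∈ V, x * y = y * x := fun x hx y hy => Lib.ElemAbelian.comm hV hx hy
  obtain ⟨h1, h2⟩ := Lib.Replacement.replacement hVc hAV hA.2.1 hU hA.1
  refine ⟨Lib.Replacement.bestOffender_mono hA inf_le_left h2.le, h1, fun hne hcon => hne ?_⟩
  have hVX : V ⊓ Subgroup.centralizer
      ((A ⊓ Subgroup.centralizer ((⁅U, A⁆ : Subgroup G) : Set G) : Subgroup G) : Set G) = V :=
    inf_eq_left.2 (Subgroup.commutator_eq_bot_iff_le_centralizer.1 hcon)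
  rw [hVX] at h1
  set C := V ⊓ Subgroup.centralizer (A : Set G) with hCdef
  have hC : ⁅C, A⁆ = ⊥ := Subgroup.commutator_eq_bot_iff_le_centralizer.2 inf_le_right
  have hUA : ⁅U, A⁆ ≤ V := (Subgroup.commutator_mono hU le_rfl).trans
    (Lib.Quadratic.commutator_le hAV)
  have hfix : ⁅⁅V, A⁆, A⁆ = ⁅V, A⁆ := by
    refine le_antisymm
      (Subgroup.commutator_mono (Lib.Quadratic.commutator_le hAV) le_rfl) ?_
    calc ⁅V, A⁆ = ⁅⁅U, A⁆ ⊔ C, A⁆ := by rw [← h1]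
      _ = ⁅⁅U, A⁆, A⁆ ⊔ ⁅C, A⁆ := Lib.Quadratic.commutator_sup hVc hAV hUA inf_le_left
      _ ≤ ⁅⁅V, A⁆, A⁆ := by
          rw [hC, sup_bot_eq]
          exact Subgroup.commutator_mono (Subgroup.commutator_mono hU le_rfl) le_rfl
  have hle : ⁅V, A⁆ ≤ V := Lib.Quadratic.commutator_le hAV
  refine Lib.Quadratic.eq_bot_of_commutator_eq
    (Lib.ElemAbelian.isPGroup (Lib.ElemAbelian.mono hV hle))
    (Subgroup.normalizer_commutator_ge_right ..) (fun a ha => ⟨1, ?_⟩) hfix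
  rw [pow_one]
  exact Subgroup.centralizer_le (SetLike.coe_subset_coe.2 hle) (hA.2.2 a ha)

end Cfsg.Agent.S0599
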