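import Cfsg.Statements.S0607
import Mathlib
import Cfsg.Agent.Lib.PGroup.ElemAbelian
import Cfsg.Agent.Lib.PGroup.Omega
import Cfsg.Agent.Lib.PGroup.Thompson
import Cfsg.Agent.Lib.PGroup.Quadratic
import Cfsg.Agent.Lib.PGroup.Replacement
import Cfsg.Agent.S0606
import Cfsg.Agent.S0599

set_option autoImplicit false
open Cfsg

namespace Cfsg.Agent.S0607

open scoped commutatorElement in

/-- The replacement Theorem for the Thompson subgroup: from A of maximal order among elementary abelian p-subgroups one obtains A₀ = [V, A] C_A([V, A]) of the same kind, quadratic on V and nontrivial on V when A is. -/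
theorem result {G : Type*} [Group G] [Finite G] {p : ℕ} [Fact p.Prime] (V : Subgroup G) [V.Normal] (hV : Cfsg.IsElementaryAbelian p V) (A : Subgroup G) (hA : A ∈ Cfsg.maxElementaryAbelianSubgroups p G) : (⁅V, A⁆ ⊔ (A ⊓ Subgroup.centralizer ((⁅V, A⁆ : Subgroup G) : Set G))) ∈ Cfsg.maxElementaryAbelianSubgroups p G ∧ ⁅⁅V, ⁅V, A⁆ ⊔ (A ⊓ Subgroup.centralizer ((⁅V, A⁆ : Subgroup G) : Set G))⁆, ⁅V, A⁆ ⊔ (A ⊓ Subgroup.centralizer ((⁅V, A⁆ : Subgroup G) : Set G))⁆ = ⊥ ∧ (⁅V, A⁆ ≠ ⊥ → ⁅V, ⁅V, A⁆ ⊔ (A ⊓ Subgroup.centralizer ((⁅V, A⁆ : Subgroup G) : Set G))⁆ ≠ ⊥) := by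
  have hbest := S0606.result V hV A hA
  have hAV : A ≤ Subgroup.normalizer (V : Set G) := by
    rw [Subgroup.normalizer_eq_top]; exact le_top
  obtain ⟨hX, hW, hne⟩ := S0599.result V A hV hAV hbest V le_rfl
  set X := A ⊓ Subgroup.centralizer ((⁅V, A⁆ : Subgroup G) : Set G) with hXdef
  have hVc : ∀ x ∈ V, ∀ y ∈ V, x * y = y * x := fun x hx y hy => Lib.ElemAbelian.comm hV hx hy
  have hRV : ⁅V, A⁆ ≤ V := Lib.Quadratic.commutator_le hAV
  have hR : IsElementaryAbelian p ⁅V, A⁆ := Lib.ElemAbelian.mono hV hRV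
  have hA0 : IsElementaryAbelian p (⁅V, A⁆ ⊔ X) :=
    Lib.ElemAbelian.sup hR (Lib.ElemAbelian.mono hA.1 inf_le_left)
      (Subgroup.le_centralizer_iff.1 inf_le_right)
  have hCA : V ⊓ Subgroup.centralizer (A : Set G) ≤ A := by
    intro x hx
    have hA' : A ∈ Lib.Thompson.maxIn p (⊤ : Subgroup G) := by
      rw [Lib.Thompson.maxIn_top]; exact hA
    exact Lib.Thompson.mem_of_pow_eq_one_of_commute hA' (Subgroup.mem_top x)
      (hV.2 x (Subgroup.mem_inf.1 hx).1)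
      (Subgroup.mem_centralizer_iff.1 (Subgroup.mem_inf.1 hx).2)
  have hCX : V ⊓ Subgroup.centralizer (A : Set G) ≤ X :=
    le_inf hCA fun x hx => Subgroup.mem_centralizer_iff.2 fun y hy =>
      hVc y (hRV hy) x (Subgroup.mem_inf.1 hx).1
  set W := V ⊓ Subgroup.centralizer (X : Set G) with hWdef
  have hsup : X ⊔ W = ⁅V, A⁆ ⊔ X := by
    rw [hW]
    refine le_antisymm (sup_le le_sup_right (sup_le le_sup_left (hCX.trans le_sup_right))) ?_
    exact sup_le (le_sup_left.trans le_sup_right) le_sup_left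
  have hinf : X ⊓ W ≤ V ⊓ Subgroup.centralizer (A : Set G) :=
    le_inf (inf_le_right.trans inf_le_left)
      ((inf_le_left.trans inf_le_left).trans (Lib.ElemAbelian.le_centralizer hA.1))
  have hcard : Nat.card A ≤ Nat.card ↥(⁅V, A⁆ ⊔ X) := by
    refine Nat.le_of_mul_le_mul_right ?_
      (Nat.card_pos (α := ↥(V ⊓ Subgroup.centralizer (A : Set G))))
    calc _ ≤ Nat.card X * Nat.card W := hX.1 X le_rfl |>.trans' (by
            obtain ⟨-, h2⟩ := Lib.Replacement.replacement hVc hAV hbest.2.1 le_rfl hbest.1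
            exact h2.le)
      _ ≤ Nat.card ↥(X ⊔ W) * Nat.card ↥(X ⊓ W) := Lib.Quadratic.card_mul_card_le X W
      _ ≤ _ := by rw [hsup]; exact Nat.mul_le_mul_left _ (Subgroup.card_le_of_le hinf)
  have hVR : V ≤ Subgroup.centralizer ((⁅V, A⁆ : Subgroup G) : Set G) := fun v hv =>
    Subgroup.mem_centralizer_iff.2 fun y hy => hVc y (hRV hy) v hv
  have hstep : ⁅V, ⁅V, A⁆ ⊔ X⁆ ≤ ⁅V, A⁆ := by
    have : V ⊔ A ≤ Subgroup.normalizer ((⁅V, A⁆ : Subgroup G) : Set G) :=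
      sup_le (Subgroup.normalizer_commutator_ge_left ..) (Subgroup.normalizer_commutator_ge_right ..)
    rw [Subgroup.commutator_le]
    intro v hv g hg
    obtain ⟨r, hr, x, hx, rfl⟩ : ∃ r ∈ ⁅V, A⁆, ∃ x ∈ X, r * x = g := by
      have hn : X ≤ Subgroup.normalizer ((⁅V, A⁆ : Subgroup G) : Set G) :=
        inf_le_left.trans (le_sup_right.trans this)
      rw [← SetLike.mem_coe, Subgroup.coe_mul_of_right_le_normalizer_left _ _ hn] at hg
      obtain ⟨r, hr, x, hx, h⟩ := Set.mem_mul.1 hg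
      exact ⟨r, hr, x, hx, h⟩
    have h1 : r * v = v * r := (Subgroup.mem_centralizer_iff.1 (hVR hv) r hr)
    have h2 : ⁅v, r * x⁆ = r * ⁅v, x⁆ * r⁻¹ := by
      simp only [commutatorElement_def]
      calc v * (r * x) * v⁻¹ * (r * x)⁻¹ = v * r * x * v⁻¹ * x⁻¹ * r⁻¹ := by simp [mul_assoc]
        _ = r * (v * x * v⁻¹ * x⁻¹) * r⁻¹ := by rw [← h1]; simp [mul_assoc]
    rw [h2]
    exact mul_mem (mul_mem hr (Subgroup.commutator_mem_commutator hv (Subgroup.mem_inf.1 hx).1))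
      (inv_mem hr)
  refine ⟨⟨hA0, fun B hB => (hA.2 B hB).trans hcard⟩, ?_, fun h1 h2 => hne h1 ?_⟩
  · rw [Subgroup.commutator_eq_bot_iff_le_centralizer]
    refine hstep.trans ?_
    rw [Subgroup.le_centralizer_iff, sup_le_iff]
    exact ⟨Lib.ElemAbelian.le_centralizer hR, inf_le_right⟩
  · exact le_bot_iff.1 (h2 ▸ Subgroup.commutator_mono le_rfl le_sup_right)

end Cfsg.Agent.S0607
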