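import Cfsg.Statements.S2507
import Cfsg.Agent.Lib.SL2.ClassSizes

set_option autoImplicit false
open Cfsg

namespace Cfsg.Agent.S2507

open Cfsg.Agent.Lib.SL2

variable {F : Type*} [Field F] [Fintype F]

theorem index_mul (x : PSLtwo F) (c : ℕ) (hc : Nat.card (Subgroup.centralizer ({x} : Set (PSLtwo F))) = c) :
    (Subgroup.centralizer ({x} : Set (PSLtwo F))).index * (c * Nat.gcd 2 (Fintype.card F - 1)) =
      Fintype.card F * (Fintype.card F ^ 2 - 1) := by
  rw [← card_PSL_mul, ← hc, ← (Subgroup.centralizer ({x} : Set (PSLtwo F))).card_mul_index]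
  ring

theorem two_eq_zero (h2 : 2 ∣ Fintype.card F) : (2 : F) = 0 := by
  by_contra h
  have := Nat.odd_iff.1 (two_ne_zero_iff_odd.1 h)
  omega


/-- Let F be a finite field with q = 2^f ≥ 4 elements. The conjugacy class sizes of PSL(2,F) are exactly 1, q(q − 1), q² − 1 and q(q + 1). -/
theorem result {F : Type*} [Field F] [Fintype F]
    (h2 : 2 ∣ Fintype.card F) (h4 : 4 ≤ Fintype.card F) :
    Set.range (fun g : (Matrix.ProjectiveSpecialLinearGroup (Fin 2) F) => (Subgroup.centralizer ({g} : Set (Matrix.ProjectiveSpecialLinearGroup (Fin 2) F))).index) =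
      {1, Fintype.card F * (Fintype.card F - 1), Fintype.card F ^ 2 - 1, Fintype.card F * (Fintype.card F + 1)} := by
  classical
  set q := Fintype.card F with hq
  have hd : Nat.gcd 2 (q - 1) = 1 := by
    rw [Nat.gcd_rec, show (q - 1) % 2 = 1 by omega]; rfl
  have h20 : (2 : F) = 0 := two_eq_zero h2
  obtain ⟨r, hr⟩ : ∃ r, q = r + 1 := ⟨q - 1, by omega⟩
  have hsq : q ^ 2 - 1 = (q - 1) * (q + 1) := by
    rw [mul_comm, ← one_pow 2, ← Nat.sq_sub_sq]
    simp
  have key : ∀ g : SLtwo F, g ∉ Subgroup.center (SLtwo F) → ∀ c, Nat.card (torus (proj g)) = c →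
      (Subgroup.centralizer ({proj g} : Set (PSLtwo F))).index * c = q * (q ^ 2 - 1) := by
    intro g hg c hc
    have := index_mul (proj g) c (by rw [centralizer_proj_eq hg (Or.inl h20), hc])
    rwa [hd, mul_one] at this
  have hell : ∀ g : SLtwo F, IsElliptic g → (Subgroup.centralizer ({proj g} : Set (PSLtwo F))).index = q * (q - 1) := by
    intro g hg
    have h := key g hg.notMem_center _ (card_torus_elliptic hg)
    rw [hd, Nat.div_one, hsq, ← mul_assoc] at h
    exact Nat.eq_of_mul_eq_mul_right (by omega) h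
  have hspl : ∀ g : SLtwo F, IsSplit g → (Subgroup.centralizer ({proj g} : Set (PSLtwo F))).index = q * (q + 1) := by
    intro g hg
    have h := key g hg.notMem_center _ (card_torus_split hg)
    rw [hd, Nat.div_one, hsq, mul_comm (q - 1), ← mul_assoc] at h
    exact Nat.eq_of_mul_eq_mul_right (by omega) h
  have hunip : ∀ x : PSLtwo F, IsUnip x → x ≠ 1 → (Subgroup.centralizer ({x} : Set (PSLtwo F))).index = q ^ 2 - 1 := by
    intro x hx hx1
    obtain ⟨g, rfl, ht⟩ := hx
    have h := key g (notMem_center_of_proj_ne hx1) _ (card_torus_unip ⟨g, rfl, ht⟩ hx1)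
    rw [mul_comm] at h
    exact Nat.eq_of_mul_eq_mul_left (by omega) h
  have hone : (Subgroup.centralizer ({1} : Set (PSLtwo F))).index = 1 := by
    rw [Subgroup.index_eq_one, eq_top_iff]
    intro x _
    rw [Subgroup.mem_centralizer_singleton_iff]
    simp
  ext n
  simp only [Set.mem_range, Set.mem_insert_iff, Set.mem_singleton_iff]
  constructor
  · rintro ⟨x, rfl⟩
    rcases eq_or_ne x 1 with rfl | hx1
    · exact Or.inl hone
    rcases semi_or_unip x with ⟨g, rfl, hg | hg⟩ | hx
    · exact Or.inr (Or.inl (hell g hg))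
    · exact Or.inr (Or.inr (Or.inr (hspl g hg)))
    · exact Or.inr (Or.inr (Or.inl (hunip x hx hx1)))
  · rintro (rfl | rfl | rfl | rfl)
    · exact ⟨1, hone⟩
    · obtain ⟨g, hg⟩ := exists_elliptic (F := F)
      exact ⟨_, hell g hg⟩
    · exact ⟨_, hunip _ (isUnip_upper 1) proj_upper_one_ne⟩
    · obtain ⟨g, hg⟩ := exists_split (F := F) h4
      exact ⟨_, hspl g hg⟩

end Cfsg.Agent.S2507
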