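import Cfsg.Statements.S2508
import Cfsg.Agent.Lib.SL2.ClassSizes

set_option autoImplicit false
open Cfsg

namespace Cfsg.Agent.S2508

open Cfsg.Agent.Lib.SL2

variable {F : Type*} [Field F] [Fintype F]

theorem index_mul (x : PSLtwo F) (c : ℕ) (hc : Nat.card (Subgroup.centralizer ({x} : Set (PSLtwo F))) = c) :
    (Subgroup.centralizer ({x} : Set (PSLtwo F))).index * (c * Nat.gcd 2 (Fintype.card F - 1)) =
      Fintype.card F * (Fintype.card F ^ 2 - 1) := by
  rw [← card_PSL_mul, ← hc, ← (Subgroup.centralizer ({x} : Set (PSLtwo F))).card_mul_index]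
  ring

theorem neg_one_square_mod (h2 : (2 : F) ≠ 0) {g : SLtwo F} (hg : tr g = 0) :
    (IsSplit g → Fintype.card F % 4 = 1) ∧ (IsElliptic g → Fintype.card F % 4 = 3) := by
  have hodd := Nat.odd_iff.1 (two_ne_zero_iff_odd.1 h2)
  constructor
  · rintro ⟨l, hl, -⟩
    have hsq : IsSquare (-1 : F) := ⟨l, by rw [hg] at hl; linear_combination -hl⟩
    have := FiniteField.isSquare_neg_one_iff.1 hsq
    omega
  · intro he
    by_contra h
    obtain ⟨l, hl⟩ := FiniteField.isSquare_neg_one_iff.2 (show Fintype.card F % 4 ≠ 3 from h)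
    exact he l (by rw [hg]; linear_combination -hl)

theorem isElliptic_or_isSplit_of_tr_zero (h2 : (2 : F) ≠ 0) {g : SLtwo F} (hg : tr g = 0) :
    IsElliptic g ∨ IsSplit g := by
  rcases elliptic_or_split_or_parabolic g with h | h | h | h
  · exact Or.inl h
  · exact Or.inr h
  · exact absurd (hg.symm.trans h).symm h2
  · exact absurd (neg_eq_zero.1 (hg.symm.trans h).symm) h2


/-- Let F be a finite field with q elements, q odd and q ≥ 7. If q ≡ 1 (mod 4) the conjugacy class sizes of PSL(2,F) are exactly 1, (q² − 1)/2, q(q + 1)/2, q(q − 1) and q(q + 1); if q ≡ 3 (mod 4) they are exactly 1, (q² − 1)/2, q(q − 1)/2, q(q + 1) and q(q − 1). -/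
theorem result {F : Type*} [Field F] [Fintype F]
    (hodd : ¬ 2 ∣ Fintype.card F) (h7 : 7 ≤ Fintype.card F) :
    (Fintype.card F % 4 = 1 →
      Set.range (fun g : (Matrix.ProjectiveSpecialLinearGroup (Fin 2) F) => (Subgroup.centralizer ({g} : Set (Matrix.ProjectiveSpecialLinearGroup (Fin 2) F))).index) =
        {1, (Fintype.card F ^ 2 - 1) / 2, Fintype.card F * (Fintype.card F + 1) / 2,
          Fintype.card F * (Fintype.card F - 1), Fintype.card F * (Fintype.card F + 1)}) ∧
    (Fintype.card F % 4 = 3 →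
      Set.range (fun g : (Matrix.ProjectiveSpecialLinearGroup (Fin 2) F) => (Subgroup.centralizer ({g} : Set (Matrix.ProjectiveSpecialLinearGroup (Fin 2) F))).index) =
        {1, (Fintype.card F ^ 2 - 1) / 2, Fintype.card F * (Fintype.card F - 1) / 2,
          Fintype.card F * (Fintype.card F + 1), Fintype.card F * (Fintype.card F - 1)}) := by
  classical
  set q := Fintype.card F with hq
  have h2 : (2 : F) ≠ 0 := two_ne_zero_iff_odd.2 (Nat.odd_iff.2 (by omega))
  have hq2 : q % 2 = 1 := by omega
  have hd : Nat.gcd 2 (q - 1) = 2 := Nat.gcd_eq_left (by omega)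
  obtain ⟨s, hs⟩ : ∃ s, q = 2 * s + 1 := ⟨q / 2, by omega⟩
  have hsq : q ^ 2 - 1 = (q - 1) * (q + 1) := by
    rw [mul_comm, ← one_pow 2, ← Nat.sq_sub_sq]
    simp
  have e1 : (q + 1) / 2 * 2 = q + 1 := Nat.div_mul_cancel (by omega)
  have e2 : (q - 1) / 2 * 2 = q - 1 := Nat.div_mul_cancel (by omega)
  have hell : ∀ g : SLtwo F, IsElliptic g → tr g ≠ 0 →
      (Subgroup.centralizer ({proj g} : Set (PSLtwo F))).index = q * (q - 1) := by
    intro g hg ht
    have h := index_mul (proj g) _ (by rw [centralizer_proj_eq hg.notMem_center (Or.inr ht), card_torus_elliptic hg])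
    rw [hd, e1, hsq, ← mul_assoc] at h
    exact Nat.eq_of_mul_eq_mul_right (by omega) h
  have hspl : ∀ g : SLtwo F, IsSplit g → tr g ≠ 0 →
      (Subgroup.centralizer ({proj g} : Set (PSLtwo F))).index = q * (q + 1) := by
    intro g hg ht
    have h := index_mul (proj g) _ (by rw [centralizer_proj_eq hg.notMem_center (Or.inr ht), card_torus_split hg])
    rw [hd, e2, hsq, mul_comm (q - 1), ← mul_assoc] at h
    exact Nat.eq_of_mul_eq_mul_right (by omega) h
  have hunip : ∀ x : PSLtwo F, IsUnip x → x ≠ 1 →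
      (Subgroup.centralizer ({x} : Set (PSLtwo F))).index = (q ^ 2 - 1) / 2 := by
    intro x hx hx1
    obtain ⟨g, rfl, ht⟩ := hx
    have h := index_mul (proj g) _ (by
      rw [centralizer_proj_eq (notMem_center_of_proj_ne hx1) (Or.inr (by rw [ht]; exact h2)),
        card_torus_unip ⟨g, rfl, ht⟩ hx1])
    rw [show Fintype.card F = q from rfl, hd, mul_left_comm] at h
    have := Nat.eq_of_mul_eq_mul_left (by omega) h
    omega
  have hinv1 : ∀ g : SLtwo F, tr g = 0 → q % 4 = 1 →
      (Subgroup.centralizer ({proj g} : Set (PSLtwo F))).index = q * (q + 1) / 2 := by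
    intro g ht h4
    have hg : IsSplit g := (isElliptic_or_isSplit_of_tr_zero h2 ht).resolve_left fun h => by
      have := (neg_one_square_mod h2 ht).2 h; omega
    have h := index_mul (proj g) _ (by rw [card_centralizer_proj_zero h2 ht, card_torus_split hg])
    rw [show Fintype.card F = q from rfl, hd, mul_assoc 2, e2, hsq, mul_comm (q - 1), ← mul_assoc, ← mul_assoc] at h
    have := Nat.eq_of_mul_eq_mul_right (by omega) h
    omega
  have hinv3 : ∀ g : SLtwo F, tr g = 0 → q % 4 = 3 →
      (Subgroup.centralizer ({proj g} : Set (PSLtwo F))).index = q * (q - 1) / 2 := by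
    intro g ht h4
    have hg : IsElliptic g := (isElliptic_or_isSplit_of_tr_zero h2 ht).resolve_right fun h => by
      have := (neg_one_square_mod h2 ht).1 h; omega
    have h := index_mul (proj g) _ (by rw [card_centralizer_proj_zero h2 ht, card_torus_elliptic hg])
    rw [show Fintype.card F = q from rfl, hd, mul_assoc 2, e1, hsq, ← mul_assoc, ← mul_assoc] at h
    have := Nat.eq_of_mul_eq_mul_right (by omega) h
    omega
  have hone : (Subgroup.centralizer ({1} : Set (PSLtwo F))).index = 1 := by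
    rw [Subgroup.index_eq_one, eq_top_iff]
    intro x _
    rw [Subgroup.mem_centralizer_singleton_iff]
    simp
  obtain ⟨ge, hge⟩ := exists_elliptic (F := F)
  obtain ⟨gs, hgs⟩ := exists_split (F := F) (by omega)
  obtain ⟨he, het, hee, -⟩ := exists_tr_ne_zero h7 (Or.inl hge)
  obtain ⟨hp, hpt, -, hpp⟩ := exists_tr_ne_zero h7 (Or.inr hgs)
  have hwt : tr (weyl : SLtwo F) = 0 := by simp [tr, weyl, ofEntries]
  constructor
  · intro h4
    ext n
    simp only [Set.mem_range, Set.mem_insert_iff, Set.mem_singleton_iff]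
    constructor
    · rintro ⟨x, rfl⟩
      rcases eq_or_ne x 1 with rfl | hx1
      · exact Or.inl hone
      rcases semi_or_unip x with ⟨g, rfl, hg⟩ | hx
      · by_cases ht : tr g = 0
        · exact Or.inr (Or.inr (Or.inl (hinv1 g ht h4)))
        rcases hg with hg | hg
        · exact Or.inr (Or.inr (Or.inr (Or.inl (hell g hg ht))))
        · exact Or.inr (Or.inr (Or.inr (Or.inr (hspl g hg ht))))
      · exact Or.inr (Or.inl (hunip x hx hx1))
    · rintro (rfl | rfl | rfl | rfl | rfl)
      · exact ⟨1, hone⟩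
      · exact ⟨_, hunip _ (isUnip_upper 1) proj_upper_one_ne⟩
      · exact ⟨_, hinv1 _ hwt h4⟩
      · exact ⟨_, hell he (hee hge) het⟩
      · exact ⟨_, hspl hp (hpp hgs) hpt⟩
  · intro h4
    ext n
    simp only [Set.mem_range, Set.mem_insert_iff, Set.mem_singleton_iff]
    constructor
    · rintro ⟨x, rfl⟩
      rcases eq_or_ne x 1 with rfl | hx1
      · exact Or.inl hone
      rcases semi_or_unip x with ⟨g, rfl, hg⟩ | hx
      · by_cases ht : tr g = 0
        · exact Or.inr (Or.inr (Or.inl (hinv3 g ht h4)))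
        rcases hg with hg | hg
        · exact Or.inr (Or.inr (Or.inr (Or.inr (hell g hg ht))))
        · exact Or.inr (Or.inr (Or.inr (Or.inl (hspl g hg ht))))
      · exact Or.inr (Or.inl (hunip x hx hx1))
    · rintro (rfl | rfl | rfl | rfl | rfl)
      · exact ⟨1, hone⟩
      · exact ⟨_, hunip _ (isUnip_upper 1) proj_upper_one_ne⟩
      · exact ⟨_, hinv3 _ hwt h4⟩
      · exact ⟨_, hspl hp (hpp hgs) hpt⟩
      · exact ⟨_, hell he (hee hge) het⟩

end Cfsg.Agent.S2508
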