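import Cfsg.Statements.S0743
import Mathlib
import Cfsg.Agent.Lib.Perm.Transitive

set_option autoImplicit false
open Cfsg

namespace Cfsg.Agent.S0743

/-- Gleason's Lemma: let `p` be a prime and `1 ≤ k < n`; if every `k`-subset of the `n` points is exactly the fixed-point set of some `p`-subgroup of `G`, then `G` is `k`-transitive. -/
theorem result {α : Type*} [Fintype α] [DecidableEq α] (G : Subgroup (Equiv.Perm α)) {p k : ℕ} (hp : p.Prime) (hk : 1 ≤ k) (hkn : k < Fintype.card α) (h : ∀ s : Finset α, s.card = k → ∃ P : Subgroup G, IsPGroup p P ∧ MulAction.fixedPoints P α = (s : Set α)) : MulAction.IsMultiplyPretransitive G α k := by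
  classical
  have : Fact p.Prime := ⟨hp⟩
  apply Cfsg.Agent.Lib.Perm.isMultiplyPretransitive_of_fixing
  intro s hs a b ha hb
  by_contra hno
  have hab : a ≠ b := by
    rintro rfl
    exact hno ⟨1, fun x _ => one_smul _ x, one_smul _ a⟩
  obtain ⟨T, hsT, hTsub, hT⟩ := Finset.exists_subsuperset_card_eq
    (s := s) (t := ({a, b} : Finset α)ᶜ) (n := k - 1)
    (by intro x hx; simp only [Finset.mem_compl, Finset.mem_insert, Finset.mem_singleton]
        rintro (rfl | rfl) <;> contradiction)
    (by omega)
    (by rw [Finset.card_compl, Finset.card_pair hab]; omega)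
  have haT : a ∉ T := fun h' => by simpa using hTsub h'
  have hbT : b ∉ T := fun h' => by simpa using hTsub h'
  let O := Cfsg.Agent.Lib.Perm.fixOrbit (↥G) s a
  have key : ∀ c, c ∉ T → (O.card ≡ (O.filter (fun x => x ∈ T ∨ x = c)).card [MOD p]) := by
    intro c hc
    obtain ⟨P, hP, hfix⟩ := h (insert c T) (by rw [Finset.card_insert_of_notMem hc, hT]; omega)
    have hPs : ∀ g : P, ∀ x ∈ s, (g : G) • x = x := by
      intro g x hx
      have : x ∈ MulAction.fixedPoints P α := by
        rw [hfix]; exact Finset.mem_coe.mpr (Finset.mem_insert_of_mem (hsT hx))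
      exact this g
    let S : SubMulAction P α :=
      { carrier := {x | x ∈ O}
        smul_mem' := fun g x hx => (Cfsg.Agent.Lib.Perm.smul_mem_fixOrbit_iff (hPs g)).mpr hx }
    have hmod := hP.card_modEq_card_fixedPoints S
    have h1 : Nat.card S = O.card := by
      rw [← Nat.card_eq_finsetCard]
      rfl
    have h2 : Nat.card (MulAction.fixedPoints P S) = (O.filter (fun x => x ∈ T ∨ x = c)).card := by
      rw [← Nat.card_eq_finsetCard]
      refine Nat.card_congr
        { toFun := fun x => ⟨x.1.1, ?_⟩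
          invFun := fun x => ⟨⟨x.1, (Finset.mem_filter.mp x.2).1⟩, ?_⟩
          left_inv := fun x => rfl
          right_inv := fun x => rfl }
      · have hx : (x.1.1 : α) ∈ MulAction.fixedPoints P α := fun g => congrArg Subtype.val (x.2 g)
        rw [hfix, Finset.coe_insert, Set.mem_insert_iff, Finset.mem_coe] at hx
        exact Finset.mem_filter.mpr ⟨x.1.2, hx.symm⟩
      · intro g
        have hx : (x.1 : α) ∈ MulAction.fixedPoints P α := by
          rw [hfix, Finset.coe_insert, Set.mem_insert_iff, Finset.mem_coe]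
          exact (Finset.mem_filter.mp x.2).2.symm
        exact Subtype.ext (hx g)
    rwa [h1, h2] at hmod
  have hbO : b ∉ O := fun hb' => hno (Cfsg.Agent.Lib.Perm.mem_fixOrbit.mp hb')
  have e1 : O.filter (fun x => x ∈ T ∨ x = a) = insert a (O.filter (fun x => x ∈ T)) := by
    have haO : a ∈ O := Cfsg.Agent.Lib.Perm.mem_fixOrbit_self s a
    ext x
    simp only [Finset.mem_filter, Finset.mem_insert]
    constructor
    · rintro ⟨h1, h2 | h2⟩
      · exact Or.inr ⟨h1, h2⟩
      · exact Or.inl h2
    · rintro (rfl | ⟨h1, h2⟩)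
      · exact ⟨haO, Or.inr rfl⟩
      · exact ⟨h1, Or.inl h2⟩
  have e2 : O.filter (fun x => x ∈ T ∨ x = b) = O.filter (fun x => x ∈ T) := by
    refine Finset.filter_congr fun x hx => ?_
    simp [show x ≠ b from fun h' => hbO (h' ▸ hx)]
  have hmod := ((key a haT).symm.trans (key b hbT))
  rw [e1, e2, Finset.card_insert_of_notMem (by simp [haT])] at hmod
  have h0 : (1 : ℕ) ≡ 0 [MOD p] :=
    Nat.ModEq.add_left_cancel' (O.filter (fun x => x ∈ T)).card (by simpa using hmod)
  exact hp.not_dvd_one (Nat.modEq_zero_iff_dvd.mp h0)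

end Cfsg.Agent.S0743
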