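import Cfsg.Statements.S2385
import Cfsg.Agent.Lib.Semisimple.SympConj
import Cfsg.Agent.Lib.Semisimple.SympModel
import Cfsg.Agent.Lib.Semisimple.Classes
import Mathlib

set_option autoImplicit false
open Cfsg

namespace Cfsg.Agent.S2385

open Cfsg.Agent.Lib.Semisimple Polynomial
open scoped Matrix

variable {F : Type*} [Field F]

theorem pow_orderOf_sp {n : ℕ} (g : ↥(Matrix.symplecticGroup (Fin n) F)) :
    (g : Matrix (Fin n ⊕ Fin n) (Fin n ⊕ Fin n) F) ^ orderOf g = 1 := by
  rw [← SubmonoidClass.coe_pow, pow_orderOf_eq_one]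
  rfl

theorem dual_charpoly_sp {n : ℕ} (A : Matrix (Fin n ⊕ Fin n) (Fin n ⊕ Fin n) F)
    (hA : A ∈ Matrix.symplecticGroup (Fin n) F) :
    A.charpoly.coeff 0 = 1 ∧ dual (RingHom.id F) A.charpoly = A.charpoly := by
  have h1 : A.det = 1 := SymplecticGroup.det_eq_one hA
  have hdet := Matrix.det_eq_sign_charpoly_coeff A
  rw [h1, Fintype.card_sum, Fintype.card_fin, Even.neg_one_pow ⟨n, rfl⟩, one_mul] at hdet
  refine ⟨hdet.symm, ?_⟩
  have h2 := charpoly_ct_inv (RingHom.id F) A (by rw [h1]; exact one_ne_zero)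
  rw [ct_id] at h2
  rw [← h2]
  set J := Matrix.J (Fin n) F
  have hm : Aᵀ * J * A = J := SymplecticGroup.mem_iff'.1 hA
  have hAu : IsUnit A.det := by rw [h1]; exact isUnit_one
  have hT : IsUnit Aᵀ.det := by rw [Matrix.det_transpose]; exact hAu
  have hJJ : J * J = -1 := Matrix.J_squared (Fin n) F
  have h3 : (Aᵀ)⁻¹ = J * A * (-J) := by
    refine Matrix.inv_eq_right_inv ?_
    rw [← Matrix.mul_assoc, ← Matrix.mul_assoc, hm, Matrix.mul_neg, hJJ, neg_neg]
  rw [h3, charpoly_rect A J (-J) (by rw [Matrix.neg_mul, hJJ, neg_neg]) rfl]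

/-- Palindromic coefficient vectors. -/
def Pal {N : ℕ} (v : Fin N → F) : Prop := ∀ i ≤ N, (monicOf v).coeff i = (monicOf v).coeff (N - i)

theorem pal_iff {N : ℕ} (f : F[X]) (hf : f.Monic) (hN : f.natDegree = N) :
    (f.coeff 0 = 1 ∧ dual (RingHom.id F) f = f) ↔ ∀ i ≤ N, f.coeff i = f.coeff (N - i) := by
  constructor
  · rintro ⟨h0, hd⟩ i hi
    conv_lhs => rw [← hd, dual_coeff _ i (hN ▸ hi), h0]
    simp [hN]
  · intro h
    have h0 : f.coeff 0 = 1 := by rw [h 0 (Nat.zero_le _), Nat.sub_zero, ← hN, hf.coeff_natDegree]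
    refine ⟨h0, Polynomial.ext fun i => ?_⟩
    rcases Nat.lt_or_ge N i with hi | hi
    · rw [coeff_eq_zero_of_natDegree_lt (p := f) (by omega),
        coeff_eq_zero_of_natDegree_lt (p := dual (RingHom.id F) f)
          (by rw [dual_natDegree _ (h0 ▸ one_ne_zero)]; omega)]
    · rw [dual_coeff _ i (hN ▸ hi), h0]
      simp [hN, h i hi]

theorem monicOf_eq {N : ℕ} (v : Fin N → F) (i : ℕ) :
    (monicOf v).coeff i = if h : i < N then v ⟨i, h⟩ else if i = N then 1 else 0 := by
  obtain ⟨h1, h2, h3⟩ := monicOf_spec v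
  split_ifs with h h'
  · exact h3 ⟨i, h⟩
  · subst h'
    have := h1.coeff_natDegree
    rwa [h2] at this
  · exact coeff_eq_zero_of_natDegree_lt (by omega)

/-- The coefficient at `i` of the palindrome with free part `w`. -/
def palCoeff {n : ℕ} (w : Fin n → F) (i : ℕ) : F :=
  if h : 1 ≤ min i (n + n - i) then
    if h' : min i (n + n - i) - 1 < n then w ⟨min i (n + n - i) - 1, h'⟩ else 0
  else 1

theorem card_pal [Fintype F] (n : ℕ) :
    Nat.card {v : Fin (n + n) → F // Pal v} = Fintype.card F ^ n := by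
  have e : {v : Fin (n + n) → F // Pal v} ≃ (Fin n → F) :=
    { toFun := fun v j => (monicOf v.1).coeff (j.val + 1)
      invFun := fun w => ⟨fun i => palCoeff w i.val, fun i hi => by
        have key : ∀ j ≤ n + n, (monicOf fun i : Fin (n + n) => palCoeff w i.val).coeff j = palCoeff w j := fun j hj => by
          rw [monicOf_eq]
          split_ifs with h h'
          · rfl
          · rw [palCoeff, dif_neg (by omega)]
          · omega
        rw [key i hi, key (n + n - i) (Nat.sub_le _ _)]
        unfold palCoeff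
        have e : min (n + n - i) (n + n - (n + n - i)) = min i (n + n - i) := by omega
        simp only [e]⟩
      left_inv := fun v => Subtype.ext (funext fun i => by
        show palCoeff (fun j : Fin n => (monicOf v.1).coeff (j.val + 1)) i.val = v.1 i
        have hp := v.2
        have hi := i.isLt
        have hv : v.1 i = (monicOf v.1).coeff i.val := by rw [monicOf_eq, dif_pos hi]
        rw [hv, palCoeff]
        split_ifs with h h'
        · rcases le_total i.val (n + n - i.val) with hle | hle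
          · rw [show min i.val (n + n - i.val) - 1 + 1 = i.val by omega]
          · rw [show min i.val (n + n - i.val) - 1 + 1 = n + n - i.val by omega, ← hp i.val (by omega)]
        · omega
        · have h0 : i.val = 0 := by omega
          rw [h0, hp 0 (by omega), Nat.sub_zero, monicOf_eq, dif_neg (by omega), if_pos rfl])
      right_inv := fun w => funext fun j => by
        have hj := j.isLt
        show (monicOf fun i : Fin (n + n) => palCoeff w i.val).coeff (j.val + 1) = w j
        rw [monicOf_eq, dif_pos (show j.val + 1 < n + n by omega)]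
        show palCoeff w (j.val + 1) = w j
        rw [palCoeff, dif_pos (by omega), dif_pos (by omega)]
        congr 1
        ext
        show min (j.val + 1) (n + n - (j.val + 1)) - 1 = j.val
        omega }
  rw [Nat.card_congr e, Nat.card_fun, Nat.card_eq_fintype_card, Nat.card_eq_fintype_card (α := Fin n),
    Fintype.card_fin]

/-- In the symplectic group `Sp_{2n}(q)`, `q` a power of the prime `p`, the number of conjugacy classes of elements of order prime to `p` is `q^n`. -/
theorem result {F : Type*} [Field F] [Fintype F] {q : ℕ} (hq : Fintype.card F = q) (p : ℕ) [Fact p.Prime] [CharP F p] (n : ℕ) :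
    Nat.card {c : ConjClasses ↥(Matrix.symplecticGroup (Fin n) F) //
      ∃ g : ↥(Matrix.symplecticGroup (Fin n) F), ConjClasses.mk g = c ∧ (orderOf g).Coprime p} = q ^ n := by
  classical
  let e : Fin n ⊕ Fin n ≃ Fin (n + n) := finSumFinEquiv
  let φ : ↥(Matrix.symplecticGroup (Fin n) F) →* Matrix (Fin (n + n)) (Fin (n + n)) F :=
    (Matrix.reindexAlgEquiv F F e).toMonoidHom.comp (Matrix.symplecticGroup (Fin n) F).subtype
  have hφ : ∀ g : ↥(Matrix.symplecticGroup (Fin n) F),
      (φ g).charpoly = (g : Matrix (Fin n ⊕ Fin n) (Fin n ⊕ Fin n) F).charpoly := fun g =>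
    Matrix.charpoly_reindex e _
  have hdeg : ∀ g : ↥(Matrix.symplecticGroup (Fin n) F),
      (g : Matrix (Fin n ⊕ Fin n) (Fin n ⊕ Fin n) F).charpoly.natDegree = n + n := fun g => by
    rw [Matrix.charpoly_natDegree_eq_dim, Fintype.card_sum, Fintype.card_fin]
  have key := card_classes (p := p) φ Pal (fun g h hg hh hc => ?_) (fun g _ => ?_) (fun v hv => ?_)
  · rw [key, card_pal, hq]
  · rw [hφ, hφ] at hc
    obtain ⟨H, hH, hHg⟩ := exists_symplectic_conj (p := p) g.2 h.2 hg (pow_orderOf_sp g) hh (pow_orderOf_sp h) hc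
    refine isConj_iff.2 ⟨⟨H, hH⟩, ?_⟩
    rw [mul_inv_eq_iff_eq_mul]
    exact Subtype.ext hHg
  · have h1 := (pal_iff (g : Matrix (Fin n ⊕ Fin n) (Fin n ⊕ Fin n) F).charpoly
      (Matrix.charpoly_monic _) (hdeg g)).1 (dual_charpoly_sp _ g.2)
    have h2 : monicOf (coeffVec (φ g)) = (g : Matrix (Fin n ⊕ Fin n) (Fin n ⊕ Fin n) F).charpoly := by
      refine Polynomial.ext fun i => ?_
      rw [monicOf_eq]
      split_ifs with h h'
      · rw [coeffVec, hφ]
      · subst h'
        have := (Matrix.charpoly_monic (g : Matrix (Fin n ⊕ Fin n) (Fin n ⊕ Fin n) F)).coeff_natDegree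
        rw [hdeg g] at this
        exact this.symm
      · exact (coeff_eq_zero_of_natDegree_lt (by rw [hdeg g]; omega)).symm
    intro i hi
    rw [h2]
    exact h1 i hi
  · obtain ⟨hm1, hm2, hm3⟩ := monicOf_spec v
    obtain ⟨h0, hd⟩ := (pal_iff _ hm1 hm2).2 hv
    obtain ⟨A, hA, hAc, o, ho, hAo⟩ := exists_sp_model (p := p) n (monicOf v) hm1 hm2 h0 hd
    refine ⟨⟨A, hA⟩, ho.coprime_dvd_left (orderOf_dvd_of_pow_eq_one (Subtype.ext ?_)), funext fun i => ?_⟩
    · rw [SubmonoidClass.coe_pow]; exact hAo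
    · rw [coeffVec, hφ]
      show A.charpoly.coeff i = v i
      rw [hAc, hm3]

end Cfsg.Agent.S2385
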