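import Cfsg.Statements.S2472
import Cfsg.Agent.Lib.PrimeGraphLinear.Symplectic
import Cfsg.Agent.Lib.ElementOrders.Basic
import Cfsg.Agent.Lib.ElementOrders.SympUnipotent

set_option autoImplicit false
open Cfsg

namespace Cfsg.Agent.S2472


open Polynomial Cfsg.Agent.Lib.PrimeGraphLinear

variable {F : Type*} [Field F] [Fintype F] {n : ℕ}

/-- No element of order `rp` when the span of `r` is the whole space. -/
theorem no_element (p : ℕ) [Fact p.Prime] [CharP F p] {r k ηk : ℕ} (hn : 1 ≤ n) (hr : r.Prime) (hr2 : r ≠ 2)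
    (hrF : (r : F) ≠ 0) (hk : k = orderOf ((Fintype.card F : ℕ) : ZMod r))
    (hηk : (Odd k ∧ ηk = k) ∨ (Even k ∧ 2 * ηk = k)) (hle : n ≤ ηk)
    (g : Matrix.symplecticGroup (Fin n) F) : orderOf g ≠ r * p := by
  classical
  intro hg
  have hp : p.Prime := Fact.out
  have : Nonempty (Fin n) := ⟨⟨0, hn⟩⟩
  set M : Matrix (Fin n ⊕ Fin n) (Fin n ⊕ Fin n) F := g.1 with hM
  have hgpow : ∀ e : ℕ, M ^ e = 1 ↔ r * p ∣ e := fun e => by
    rw [← hg, orderOf_dvd_iff_pow_eq_one, Subtype.ext_iff, SubmonoidClass.coe_pow]; rfl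
  obtain ⟨f, hf, hfP, hf1, hf2⟩ := exists_factor M hrF ((hgpow (r * p)).2 dvd_rfl)
    (fun h => hr.ne_one (by
      have := Nat.le_of_dvd hp.pos ((hgpow p).1 h)
      have := Nat.mul_le_mul_right p hr.two_le
      have := hp.pos
      omega))
  let f₀ := normalize f
  have hf₀ : Irreducible f₀ := (normalize_associated f).symm.irreducible hf
  have hfm : f₀.Monic := monic_normalize hf.ne_zero
  have hif : ∀ P : F[X], f₀ ∣ P ↔ f ∣ P := fun P => (normalize_associated f).dvd_iff_dvd_left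
  rw [← hif] at hfP hf1 hf2
  obtain ⟨D, hDP, hfD, -, hD⟩ := exists_selfdual_span g.2 hf₀ hfm hfP
  have dD := two_mul_le_natDegree_span hf₀ hr hr2 hk hηk hf1 hf2 hD
  set P := minpoly F M with hP
  have hP0 : P ≠ 0 := minpoly.ne_zero (IsIntegral.of_finite F _)
  have hPdeg := natDegree_le_card M (dvd_refl (minpoly F M))
  rw [Fintype.card_sum, Fintype.card_fin, ← hP] at hPdeg
  have hDdeg := natDegree_le_of_dvd hDP hP0
  have hnsq : ¬ Squarefree P := by
    intro hsq
    have h1 : P ∣ (X ^ r - 1) ^ p := by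
      rw [sub_pow_char, one_pow, ← pow_mul]
      exact minpoly.dvd F _ (by simp [(hgpow (r * p)).2 dvd_rfl])
    have h2 : M ^ r = 1 := by
      obtain ⟨c, hc⟩ := (hsq.dvd_pow_iff_dvd hp.ne_zero).1 h1
      have := congrArg (aeval M) hc
      simpa [hP, minpoly.aeval, sub_eq_zero] using this
    have := Nat.le_of_dvd hr.pos ((hgpow r).1 h2)
    have := Nat.mul_le_mul_left r hp.two_le
    have := hr.pos
    omega
  apply hnsq
  obtain ⟨c, hc⟩ := hDP
  have hc0 : c ≠ 0 := fun h => hP0 (by rw [hc, h, mul_zero])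
  have hD0 : D ≠ 0 := fun h => hP0 (by rw [hc, h, zero_mul])
  have hcd : c.natDegree = 0 := by
    have := natDegree_mul hD0 hc0
    rw [← hc] at this
    omega
  have hcu : IsUnit c := isUnit_iff_degree_eq_zero.2 (by rw [degree_eq_natDegree hc0, hcd]; rfl)
  rw [hc]
  rcases hD with ⟨hd, -⟩ | ⟨f', hf', hfm', hne, -, hDeq⟩
  · obtain ⟨e, he⟩ := hfD
    have he0 : e ≠ 0 := fun h => hD0 (by rw [he, h, mul_zero])
    have hed : e.natDegree = 0 := by
      have := natDegree_mul hf₀.ne_zero he0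
      rw [← he] at this
      omega
    have heu : IsUnit e := isUnit_iff_degree_eq_zero.2 (by rw [degree_eq_natDegree he0, hed]; rfl)
    exact hf₀.squarefree.squarefree_of_dvd ((associated_mul_unit_left D c hcu).dvd.trans
      (by rw [he]; exact (associated_mul_unit_left f₀ e heu).dvd))
  · refine Squarefree.squarefree_of_dvd (associated_mul_unit_left D c hcu).dvd ?_
    rw [hDeq, squarefree_mul_iff]
    exact ⟨(isCoprime_of_monic_ne hf₀ hf' hfm hfm' (Ne.symm hne)).isRelPrime, hf₀.squarefree, hf'.squarefree⟩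


/-- Adjacency of a prime and the characteristic in the prime graph of PSp(2n,q): let F be a finite field of characteristic p with q elements, n ≥ 2 with PSp(2n,F) simple, and let r ≠ p be an odd prime dividing the order of PSp(2n,F), with k the multiplicative order of q modulo r and η(k) = k for odd k, k/2 for even k. Then PSp(2n,F) has NO element of order r·p if and only if η(k) > n − 1. -/
theorem result {F : Type*} [Field F] [Fintype F] (p : ℕ) [Fact p.Prime] [CharP F p] (n : ℕ) (hn : 2 ≤ n) (hsmall : n = 2 → 3 ≤ Fintype.card F)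
    (r : ℕ) (hr : r.Prime) (hr2 : r ≠ 2) (hrp : r ≠ p) (hrG : r ∣ Nat.card (Cfsg.PSp n F))
    (k ηk : ℕ) (hk : k = orderOf ((Fintype.card F : ℕ) : ZMod r)) (hηk : (Odd k ∧ ηk = k) ∨ (Even k ∧ 2 * ηk = k)) :
    (r * p ∉ Set.range (orderOf : Cfsg.PSp n F → ℕ)) ↔ n - 1 < ηk := by
  classical
  have hp : p.Prime := Fact.out
  have hn1 : 1 ≤ n := by omega
  have hrF : (r : F) ≠ 0 := natCast_ne_zero_of_ne (p := p) hr hrp
  have hk0 : 0 < k := hk ▸ orderOf_cast_pos hr hrF
  have hηk1 : 1 ≤ ηk := by rcases hηk with ⟨_, h⟩ | ⟨_, h⟩ <;> omega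
  have hcop : (r * p).Coprime (Nat.card (Subgroup.center (Matrix.symplecticGroup (Fin n) F))) := by
    apply coprime_card_center_symp hn1
    refine Nat.Coprime.mul_left
      (((Nat.coprime_primes hr Nat.prime_two).2 hr2).coprime_dvd_right (Nat.gcd_dvd_left _ _)) ?_
    by_cases hp2 : p = 2
    · rw [hp.coprime_iff_not_dvd]
      intro hd
      have h1 : p ∣ Fintype.card F := (CharP.cast_eq_zero_iff F p _).1 (Nat.cast_card_eq_zero F)
      have h2 := Nat.dvd_sub h1 (hd.trans (Nat.gcd_dvd_right _ _))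
      rw [Nat.sub_sub_self Fintype.card_pos, Nat.dvd_one] at h2
      exact hp.ne_one h2
    · exact ((Nat.coprime_primes hp Nat.prime_two).2 hp2).coprime_dvd_right (Nat.gcd_dvd_left _ _)
  rw [Set.mem_range, exists_orderOf_quotient_iff _ hcop]
  constructor
  · intro hno
    by_contra hle
    have hsign : ((Fintype.card F : ℕ) : ZMod r) ^ ηk = -1 ∨ ((Fintype.card F : ℕ) : ZMod r) ^ ηk = 1 := by
      rcases hηk with ⟨-, h⟩ | ⟨-, h⟩
      · exact Or.inr (by rw [h, hk, pow_orderOf_eq_one])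
      · exact Or.inl (pow_half_eq_neg_one hr hk h hk0)
    obtain ⟨g, hg⟩ : ∃ g : Matrix.symplecticGroup (Fin ηk) F, r ∣ orderOf g := by
      rcases exists_symp_dvd (r := r) hηk1 hsign with ⟨g, -, hg⟩ | ⟨g, -, hg⟩ <;> exact ⟨g, hg⟩
    obtain ⟨u, hu, -⟩ := Cfsg.Agent.Lib.ElementOrders.exists_regular_unipotent (F := F) (p := p) (n - ηk)
    have hup : p ∣ orderOf u := (dvd_pow_self p (Nat.clog_pos hp.one_lt (by omega)).ne').trans hu
    obtain ⟨x, hx1, hx2⟩ := exists_symp_pad (show ηk + (n - ηk) ≤ n by omega) g u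
    exact hno (Cfsg.Agent.Lib.ElementOrders.exists_orderOf_eq_of_dvd
      (((Nat.coprime_primes hr hp).2 hrp).mul_dvd_of_dvd_of_dvd (hg.trans hx1) (hup.trans hx2)))
  · rintro h ⟨g, hg⟩
    exact no_element p hn1 hr hr2 hrF hk hηk (by omega) g hg

end Cfsg.Agent.S2472
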