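import Cfsg.Statements.S2765
import Cfsg.Agent.Lib.RankOnePush.Factors
import Cfsg.Agent.Lib.RankOnePush.ShapeBridge

set_option autoImplicit false
open Cfsg

namespace Cfsg.Agent.S2765

open Subgroup Cfsg.Agent.Lib Cfsg.Agent.Lib.RankOnePush
open Cfsg.Agent.Lib.SL2 (SLtwo PSLtwo)
open scoped commutatorElement

/-- In the same pushing-up situation (G finite, C_G(O_p(G)) ≤ O_p(G), G/K ≅ PSL₂(p^n) with n ≥ 1, a Sylow p-subgroup S in exactly one maximal subgroup, no nontrivial characteristic subgroup of S normal in G), one of the following holds: (I) S has nilpotency class 2, exponent 4 if p = 2 and exponent p otherwise, and G has exactly one noncentral chief factor inside O_p(G); or (II) p = 3, S has class 3 and exponent 9, and G has exactly two noncentral chief factors inside O_p(G). 'Exactly one' is phrased as: some noncentral chief factor U/W inside O_p(G) with G acting hypercentrally on W and on O_p(G)/U; 'exactly two' analogously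 with a chain. -/
theorem result {G : Type*} [Group G] [Finite G] {p : ℕ} [Fact p.Prime] (S : Sylow p G) (hE₁ : Subgroup.centralizer (Cfsg.pCore p G : Set G) ≤ Cfsg.pCore p G) (hE₂ : ∃! M : Subgroup G, IsCoatom M ∧ (S : Subgroup G) ≤ M) (K : Subgroup G) [K.Normal] (F : Type) [Field F] [Fintype F] (n : ℕ) (hn : 1 ≤ n) (hF : Fintype.card F = p ^ n) (hE₃ : Nonempty (G ⧸ K ≃* Matrix.ProjectiveSpecialLinearGroup (Fin 2) F)) (hd : ∀ T : Subgroup ↥(S : Subgroup G), T ≠ ⊥ → T.Characteristic → ¬ (T.map (S : Subgroup G).subtype).Normal) : ((S : Subgroup G).lowerCentralSeries 2 = ⊥ ∧ (S : Subgroup G).lowerCentralSeries 1 ≠ ⊥ ∧ (p = 2 → Monoid.exponent ↥(S : Subgroup G) = 4) ∧ (p ≠ 2 → Monoid.exponent ↥(S : Subgroup G) = p) ∧ (∃ U W : Subgroup G, W ≤ U ∧ U ≤ (Cfsg.pCore p G) ∧ Cfsg.IsChiefFactor U W ∧ ¬ ⁅U, (⊤ : Subgroup G)⁆ ≤ W ∧ (∃ k : ℕ, Cfsg.iterCommutator W ⊤ k = ⊥) ∧ (∃ k : ℕ, Cfsg.iterCommutator (Cfsg.pCore p G) ⊤ k ≤ U))) ∨ (p = 3 ∧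 (S : Subgroup G).lowerCentralSeries 3 = ⊥ ∧ (S : Subgroup G).lowerCentralSeries 2 ≠ ⊥ ∧ Monoid.exponent ↥(S : Subgroup G) = 9 ∧ (∃ U₁ W₁ U₂ W₂ : Subgroup G, W₁ ≤ U₁ ∧ U₁ ≤ W₂ ∧ W₂ ≤ U₂ ∧ U₂ ≤ (Cfsg.pCore p G) ∧ Cfsg.IsChiefFactor U₁ W₁ ∧ Cfsg.IsChiefFactor U₂ W₂ ∧ ¬ ⁅U₁, (⊤ : Subgroup G)⁆ ≤ W₁ ∧ ¬ ⁅U₂, (⊤ : Subgroup G)⁆ ≤ W₂ ∧ (∃ k : ℕ, Cfsg.iterCommutator W₁ ⊤ k = ⊥) ∧ (∃ k : ℕ, Cfsg.iterCommutator W₂ ⊤ k ≤ U₁) ∧ (∃ k : ℕ, Cfsg.iterCommutator (Cfsg.pCore p G) ⊤ k ≤ U₂))) := by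
  obtain ⟨M, ⟨hM, hSM⟩, huniq⟩ := hE₂
  obtain ⟨e⟩ := hE₃
  let ψ₀ : G →* PSLtwo F := e.toMonoidHom.comp (QuotientGroup.mk' K)
  have d : PushingUp.Data p (S : Subgroup G) M n F ψ₀ :=
    ⟨⟨S, rfl⟩, hE₁, hM, hSM, fun L h1 h2 => huniq L ⟨h1, h2⟩,
      e.surjective.comp (QuotientGroup.mk'_surjective K), hF, by omega⟩
  obtain ⟨ψ, -, s⟩ := exists_setup d
  set D := Cfsg.pCore p G
  set T := (S : Subgroup G)
  have hd' : ∀ X : Subgroup G, X ≤ T → X.Normal → (X.subgroupOf T).Characteristic → X = ⊥ := by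
    intro X hXT hXn hXc
    by_contra hne
    refine hd (X.subgroupOf T) (fun hb => hne ?_) hXc ?_
    · rw [subgroupOf_eq_bot, disjoint_iff, inf_eq_left.2 hXT] at hb
      exact hb
    · rw [map_subgroupOf_eq_of_le hXT]
      exact hXn
  have hTne : T ≠ ⊥ := fun hb => by
    have h := s.relIndex_D
    rw [hb, relIndex_bot_right] at h
    exact s.one_lt.ne h
  obtain ⟨m, -⟩ := exists_smallModule d hTne hd'
  set V := normalClosure (omegaZ p T : Set G)
  have homega : ∀ z ∈ T, z ∈ centralizer (T : Set G) → z ^ p = 1 → z ∈ V := fun z hz hc hzp =>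
    subset_normalClosure (show z ∈ omegaZ p T from ⟨⟨hz, hc⟩, hzp⟩)
  obtain ⟨U, Q, X, h⟩ := s.exists_shape m homega hd'
  haveI := m.normal
  haveI := s.normalD
  -- characteristic subgroups of `S` fixed by the residual vanish
  have hkill : ∀ W : Subgroup T, W.Characteristic → W.map T.subtype ≤ resFix p D → W = ⊥ := by
    intro W hWc hWR
    haveI := hWc
    have hn : T ≤ normalizer ((W.map T.subtype : Subgroup G) : Set G) := fun x hx => by
      refine mem_normalizer_of_conj ?_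
      rintro _ ⟨z, hz, rfl⟩
      exact ⟨_, (inferInstance : W.Normal).conj_mem z hz ⟨x, hx⟩, rfl⟩
    by_contra hne
    exact hd W hne hWc (s.normal_of_le_resFix m h hn hWR)
  have hlcs : ∀ k, T.lowerCentralSeries k ≤ resFix p D → T.lowerCentralSeries k = ⊥ := by
    intro k hk
    rw [← top_subtype_lowerCentralSeries] at hk ⊢
    rw [hkill _ inferInstance hk, Subgroup.map_bot]
  have hpow : ∀ k : ℕ, (∀ x ∈ T, x ^ k ∈ resFix p D) → ∀ x ∈ T, x ^ k = 1 := by
    intro k hk x hx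
    have hWc : (closure (Set.range fun y : T => y ^ k)).Characteristic := by
      refine characteristic_iff_map_le.2 fun φ => ?_
      rw [MonoidHom.map_closure]
      refine closure_mono ?_
      rintro _ ⟨_, ⟨y, rfl⟩, rfl⟩
      exact ⟨φ y, by simp⟩
    have h1 := hkill _ hWc (by
      rw [MonoidHom.map_closure, closure_le]
      rintro _ ⟨_, ⟨y, rfl⟩, rfl⟩
      simpa using hk y y.2)
    have h2 : (⟨x, hx⟩ : T) ^ k = 1 := by
      rw [← mem_bot, ← h1]; exact subset_closure ⟨_, rfl⟩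
    simpa using congrArg Subtype.val h2
  have hR : T ≤ normalizer (resFix p D : Set G) := by
    rw [normalizer_eq_top_iff.2 (resFix_normal s.normalD)]; exact le_top
  -- class two forces the first possibility of the shape
  have halt_of : T.lowerCentralSeries 2 = ⊥ → U = V ∧ Q = D := by
    intro h2
    by_contra halt
    obtain ⟨hp2, hmove⟩ := h.alt.resolve_left halt
    let A : Subgroup G :=
      { carrier := {g | ∀ u ∈ U, ⁅g, u⁆ ∈ V}
        one_mem' := fun u _ => by rw [commutatorElement_one_left]; exact one_mem _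
        mul_mem' := fun {a b} ha hb u hu => by
          rw [show ⁅a * b, u⁆ = a * ⁅b, u⁆ * a⁻¹ * ⁅a, u⁆ by simp only [commutatorElement_def]; group]
          exact mul_mem (m.normal.conj_mem _ (hb u hu) a) (ha u hu)
        inv_mem' := fun {a} ha u hu => by
          rw [show ⁅a⁻¹, u⁆ = a⁻¹ * ⁅a, u⁆⁻¹ * a⁻¹⁻¹ by simp only [commutatorElement_def]; group]
          exact m.normal.conj_mem _ (inv_mem (ha u hu)) a⁻¹ }
    haveI hAn : A.Normal := ⟨fun a ha g u hu => by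
      have hu' : g⁻¹ * u * g ∈ U := by simpa using h.normal.conj_mem u hu g⁻¹
      rw [show ⁅g * a * g⁻¹, u⁆ = g * ⁅a, g⁻¹ * u * g⁆ * g⁻¹ by
        simp only [commutatorElement_def]; group]
      exact m.normal.conj_mem _ (ha _ hu') g⟩
    have hSA : T ≤ A := h.hXD ▸ sup_le (fun t ht u hu => by
      have hc : ⁅t, u⁆ ∈ T.lowerCentralSeries 1 :=
        commutator_mem_commutator (h.hXS ht) (s.le_S (h.hUD hu))
      have hcU := (h.hXU t ht u (h.hUD hu)).1
      refine homega _ (s.le_S (h.hUD hcU)) (mem_centralizer_iff.2 fun x hx => ?_) (h.powU hp2 _ hcU)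
      have h5 : ⁅⁅t, u⁆, x⁆ ∈ T.lowerCentralSeries 2 := commutator_mem_commutator hc hx
      rw [h2, mem_bot] at h5
      exact (commutatorElement_eq_one_iff_mul_comm.1 h5).symm) (fun x hx u hu => by
      rw [← commutatorElement_inv]
      exact inv_mem (s.commU' m h hu hx).1)
    obtain ⟨w, -, hgen⟩ := s.exists_weyl
    have htop : ∀ g, g ∈ A := fun g => (hgen.ge.trans (sup_le hSA (by
      rintro _ ⟨t, ht, rfl⟩
      exact hAn.conj_mem t (hSA ht) w))) (mem_top g)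
    exact hmove fun g _ => ⟨1, one_mem _, fun u hu => by rw [inv_one, mul_one]; exact htop g u hu⟩
  have hclass2 : (∀ t ∈ X, ∀ t' ∈ X, ∀ u ∈ D, ⁅⁅t, u⁆, t'⁆ ∈ resFix p D) →
      T.lowerCentralSeries 2 = ⊥ := fun hf => hlcs 2 (s.lcs_two_le m h hR le_rfl hf)
  obtain ⟨hcV, hncV⟩ := s.fixG_chief m h
  have hCbot : ∃ k : ℕ, Cfsg.iterCommutator (fixG V) ⊤ k = ⊥ :=
    ⟨1, commutator_eq_bot_iff_le_centralizer.2 (inf_le_right.trans (center_le_centralizer _))⟩
  have hnab : T.lowerCentralSeries 1 ≠ ⊥ := by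
    intro h1
    obtain ⟨w, hw, hgen⟩ := s.exists_weyl
    have hi := (s.card_facts m hw hgen).2.2
    have hle : V ≤ fixS V T := fun v hv => ⟨hv, mem_centralizer_iff.2 fun t ht => ?_⟩
    · rw [relIndex_eq_one.2 hle] at hi
      exact s.one_lt.ne hi
    have h5 : ⁅t, v⁆ ∈ T.lowerCentralSeries 1 := commutator_mem_commutator ht (s.le_S (m.le hv))
    rw [h1, mem_bot] at h5
    exact commutatorElement_eq_one_iff_mul_comm.1 h5
  have hexp_dvd : ∀ k : ℕ, (∀ x ∈ T, x ^ k = 1) → Monoid.exponent T ∣ k := fun k hk =>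
    Monoid.exponent_dvd_of_forall_pow_eq_one fun x => Subtype.ext (by simpa using hk x x.2)
  have hcomm_of : Monoid.exponent T ∣ 2 → False := fun hdvd => hnab (by
    refine eq_bot_iff.2 (commutator_le.2 fun a ha b hb => ?_)
    have hsq : ∀ x : T, x * x = 1 := fun x => by
      obtain ⟨k, hk⟩ := hdvd
      rw [← pow_two, hk, pow_mul, Monoid.pow_exponent_eq_one, one_pow]
    have hinv : ∀ x : T, x⁻¹ = x := fun x => inv_eq_of_mul_eq_one_right (hsq x)
    have hab : (⟨a, ha⟩ : T) * ⟨b, hb⟩ = ⟨b, hb⟩ * ⟨a, ha⟩ := by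
      calc (⟨a, ha⟩ : T) * ⟨b, hb⟩ = ((⟨a, ha⟩ : T) * ⟨b, hb⟩)⁻¹ := (hinv _).symm
        _ = _ := by rw [mul_inv_rev, hinv, hinv]
    rw [mem_bot, commutatorElement_eq_one_iff_mul_comm]
    exact congrArg Subtype.val hab)
  by_cases halt : U = V ∧ Q = D
  · left
    have hf : ∀ t ∈ X, ∀ t' ∈ X, ∀ u ∈ D, ⁅⁅t, u⁆, t'⁆ ∈ resFix p D := fun t ht t' ht' u hu => by
      rw [commutatorElement_eq_one_iff_mul_comm.2
        (mem_centralizer_iff.1 (h.hXQ t ht u (halt.2.symm ▸ hu)).2 t' (h.hXS ht')).symm]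
      exact one_mem _
    refine ⟨hclass2 hf, hnab, fun hp2 => ?_, fun hp2 => ?_, V, fixG V, inf_le_left, m.le, hcV, hncV,
      hCbot, ?_⟩
    · have h4 : Monoid.exponent T ∣ 2 ^ 2 := hexp_dvd _ (hpow _ fun x hx => by
        have := s.pow_sq_mem m h hx
        rw [hp2] at this ⊢
        exact this)
      obtain ⟨i, hi, he⟩ := (Nat.dvd_prime_pow Nat.prime_two).1 h4
      rcases Nat.lt_or_ge i 2 with hi2 | hi2
      · exact (hcomm_of (he ▸ pow_dvd_pow 2 (by omega : i ≤ 1))).elim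
      · rw [he, show i = 2 by omega]; rfl
    · have h1 := hexp_dvd p (hpow _ fun x hx => s.pow_mem_of_triple m h hp2 hf hx)
      rcases (Nat.dvd_prime Fact.out).1 h1 with e1 | e1
      · exact (hcomm_of (e1 ▸ one_dvd 2)).elim
      · exact e1
    · exact exists_iter_le m.normal s.normalD m.le fun U' W' h1 h2 hc =>
        s.central_of_moved m h h2 hc fun t ht u hu => h1 (h.hXQ t ht u (halt.2.symm ▸ h2 hu)).1
  · right
    obtain ⟨hp2, -⟩ := h.alt.resolve_left halt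
    have hp3 : p = 3 := by
      by_contra hne
      refine halt (halt_of (hclass2 (s.triple_of_square m h hp2 (s.square_mem_of_torus m h ?_))))
      have := (Fact.out : p.Prime).two_le
      omega
    obtain ⟨U', W', hVW, hU'U, hc, hnc⟩ := s.exists_noncentral m h halt
    have hU'D : U' ≤ D := hU'U.trans h.hUD
    obtain ⟨hWQ, hdec, -⟩ := s.factor_facts m h hVW hU'D hc hnc
    refine ⟨hp3, hlcs 3 (s.lcs_three_le m h), fun h2 => halt (halt_of h2), ?_, V, fixG V, U', W',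
      inf_le_left, hVW, hc.1.le, hU'D, hcV, hc, hncV, hnc, hCbot, ?_, ?_⟩
    · have h9 : Monoid.exponent T ∣ 3 ^ 2 := hexp_dvd _ (hpow _ fun x hx => by
        have := s.pow_sq_mem m h hx
        rw [hp3] at this ⊢
        exact this)
      obtain ⟨i, hi, he⟩ := (Nat.dvd_prime_pow Nat.prime_three).1 h9
      rcases Nat.lt_or_ge i 2 with hi2 | hi2
      · refine (halt (halt_of (hclass2 (s.triple_of_square m h hp2
          (s.square_of_exponent_three m h hp3 fun x hx => ?_))))).elim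
        obtain ⟨k, hk⟩ : Monoid.exponent T ∣ 3 := he ▸ pow_dvd_pow 3 (by omega : i ≤ 1)
        have h5 : (⟨x, hx⟩ : T) ^ 3 = 1 := by
          rw [hk, pow_mul, Monoid.pow_exponent_eq_one, one_pow]
        simpa using congrArg Subtype.val h5
      · rw [he, show i = 2 by omega]; rfl
    · exact exists_iter_le m.normal hc.2.2.1 hVW fun U'' W'' h1 h2 hc' =>
        s.central_of_moved m h ((h2.trans hc.1.le).trans hU'D) hc' fun t ht u hu =>
          h1 (h.hXQ t ht u (hWQ (h2 hu))).1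
    · refine exists_iter_le hc.2.1 s.normalD hU'D fun U'' W'' h1 h2 hc' =>
        s.central_of_moved m h h2 hc' fun t ht u hu => ?_
      obtain ⟨u', hu', v, hv, rfl⟩ := hdec u (h2 hu)
      rw [show ⁅t, u' * v⁆ = ⁅t, u'⁆ * (u' * ⁅t, v⁆ * u'⁻¹) by
        simp only [commutatorElement_def]; group]
      refine mul_mem (h1 ?_) (hc'.2.2.1.conj_mem _ (h1 ((hVW.trans hc.1.le) (h.hXQ t ht v hv).1)) u')
      rw [commutatorElement_def]
      exact mul_mem (hc.2.1.conj_mem u' hu' t) (inv_mem hu')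

end Cfsg.Agent.S2765
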