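import Cfsg.Statements.S4776
import Cfsg.Agent.Lib.DetHom
import Cfsg.Agent.Lib.Codegree
import Cfsg.Agent.Lib.Clifford.Restriction

set_option autoImplicit false
open Cfsg

namespace Cfsg.Agent.S4776

open Cfsg.Agent.Lib

attribute [-instance] MonoidHom.instPow MonoidHom.mul instOneMonoidHom MonoidHom.instCommMonoid
  MonoidHom.instInv MonoidHom.instDiv

universe u

variable {G : Type u} [Group G] [Finite G] {N : Subgroup G} [hN : N.Normal]

/-- Conjugation of linear characters of a normal subgroup. -/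
def cj (g : G) (l : N →* ℂˣ) : N →* ℂˣ := l.comp (MulAut.conjNormal g : MulAut N).toMonoidHom

omit [Finite G] in
theorem cj_mul (g h : G) (l : N →* ℂˣ) : cj (g * h) l = cj h (cj g l) :=
  MonoidHom.ext fun x => congrArg l (Subtype.ext (by simp [mul_assoc]))

omit [Finite G] in
theorem cj_one (l : N →* ℂˣ) : cj (1 : G) l = l :=
  MonoidHom.ext fun x => congrArg l (Subtype.ext (by simp))

omit [Finite G] in
theorem cj_apply_mul (g : G) (l l' : N →* ℂˣ) : cj g (l * l') = cj g l * cj g l' := rfl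

omit [Finite G] in
theorem cj_pow (g : G) (l : N →* ℂˣ) (k : ℕ) : cj g (l ^ k) = cj g l ^ k :=
  MonoidHom.ext fun x => by simp [cj, MonoidHom.pow_apply]

/-- The stabiliser of a linear character of a normal subgroup. -/
def stab (l : N →* ℂˣ) : Subgroup G where
  carrier := {g | cj g l = l}
  one_mem' := cj_one l
  mul_mem' := fun {a b} (ha : cj a l = l) (hb : cj b l = l) => by
    show cj (a * b) l = l
    rw [cj_mul, ha, hb]
  inv_mem' := fun {a} (ha : cj a l = l) => by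
    show cj a⁻¹ l = l
    conv_lhs => rw [← ha]
    rw [← cj_mul, mul_inv_cancel, cj_one]

omit [Finite G] in
theorem mem_stab {l : N →* ℂˣ} {g : G} : g ∈ stab l ↔ cj g l = l := Iff.rfl

theorem det_conjFun (g : G) {θ : N → ℂ} (hθ : IsCharacter N θ) :
    DetHom.det (Clifford.conjFun g θ) = cj g (DetHom.det θ) :=
  DetHom.det_comp (MulAut.conjNormal g : MulAut N).toMonoidHom hθ

/-- `χ` lies over `θ`. -/
def Over [Fintype N] (χ : IrrCharacter G) (θ : IrrCharacter N) : Prop :=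
  classInner (Clifford.resFun N (χ : G → ℂ)) (θ : N → ℂ) ≠ 0

theorem over_facts [Fintype N] (hNG : N ≤ commutator G) {χ : IrrCharacter G} {θ : IrrCharacter N}
    (h : Over χ θ) {a b : ℕ} (ha : (χ : G → ℂ) 1 = a) (hb : (θ : N → ℂ) 1 = b) (j : ℕ) :
    b ∣ a ∧ (stab (DetHom.det (θ : N → ℂ) ^ j)).index ∣ a ∧
      (stab (DetHom.det (θ : N → ℂ) ^ j) = (⊤ : Subgroup G) →
        orderOf (DetHom.det (θ : N → ℂ) ^ j) ∣ a) := by
  classical
  cases nonempty_fintype G
  let T : Subgroup G :=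
    { carrier := {g | Clifford.conjFun g (θ : N → ℂ) = (θ : N → ℂ)}
      one_mem' := Clifford.conjFun_one _
      mul_mem' := fun {a b} (ha : Clifford.conjFun a (θ : N → ℂ) = (θ : N → ℂ))
          (hb : Clifford.conjFun b (θ : N → ℂ) = (θ : N → ℂ)) => by
        show Clifford.conjFun (a * b) (θ : N → ℂ) = (θ : N → ℂ)
        rw [Clifford.conjFun_mul, ha, hb]
      inv_mem' := fun {a} (ha : Clifford.conjFun a (θ : N → ℂ) = (θ : N → ℂ)) => by
        show Clifford.conjFun a⁻¹ (θ : N → ℂ) = (θ : N → ℂ)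
        conv_lhs => rw [← ha]
        rw [← Clifford.conjFun_mul, mul_inv_cancel, Clifford.conjFun_one] }
  have hTle : T ≤ stab (DetHom.det (θ : N → ℂ) ^ j) := fun g hg => by
    rw [mem_stab, cj_pow, ← det_conjFun g (Chars.irr_isCharacter θ),
      show Clifford.conjFun g (θ : N → ℂ) = (θ : N → ℂ) from hg]
  obtain ⟨e, he⟩ := Chars.isCharacter_classInner_nat
    (Chars.isCharacter_restrict N (Chars.irr_isCharacter χ)) (Chars.irr_isCharacter θ)
  have he' : classInner (Clifford.resFun N (χ : G → ℂ)) (θ : N → ℂ) = (e : ℂ) := he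
  have h1 := Clifford.apply_one_eq χ.2 θ.2 h T fun g => Iff.rfl
  rw [he', hb, ha] at h1
  have hab : a = e * (T.index * b) := by exact_mod_cast h1
  refine ⟨hab ▸ (dvd_mul_left b _).mul_left _,
    (Subgroup.index_dvd_of_le hTle).trans (hab ▸ (dvd_mul_right _ _).mul_left _), fun htop => ?_⟩
  set k := (Clifford.orbitFun (G := G) (θ : N → ℂ)).card with hk
  have hcard : k = T.index := Clifford.card_orbitFun T fun g => Iff.rfl
  have hch : ∀ φ ∈ Clifford.orbitFun (G := G) (θ : N → ℂ), IsCharacter N φ := fun φ hφ => by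
    obtain ⟨g, rfl⟩ := Clifford.mem_orbitFun.mp hφ
    exact Clifford.isCharacter_conjFun g (Chars.irr_isCharacter θ)
  have hdet : DetHom.det (Clifford.resFun N (χ : G → ℂ)) ^ j =
      (DetHom.det (θ : N → ℂ) ^ j) ^ (k * e) := by
    rw [Clifford.sum_resFun_eq_orbit χ.2 θ.2 h, he',
      DetHom.det_natCast_smul (Chars.isCharacter_sum _ hch), DetHom.det_sum _ hch, ← pow_mul,
      mul_comm e j, pow_mul, ← Finset.prod_pow, Finset.prod_congr rfl
        (g := fun _ => DetHom.det (θ : N → ℂ) ^ j), Finset.prod_const, ← hk, ← pow_mul]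
    intro φ hφ
    obtain ⟨g, rfl⟩ := Clifford.mem_orbitFun.mp hφ
    rw [det_conjFun g (Chars.irr_isCharacter θ), ← cj_pow]
    exact mem_stab.mp (htop ▸ Subgroup.mem_top g)
  have htriv : DetHom.det (Clifford.resFun N (χ : G → ℂ)) = 1 := by
    refine MonoidHom.ext fun n => ?_
    rw [show Clifford.resFun N (χ : G → ℂ) = fun n : N => (χ : G → ℂ) (N.subtype n) from rfl,
      DetHom.det_comp N.subtype (Chars.irr_isCharacter χ)]
    exact MonoidHom.mem_ker.mp (Abelianization.commutator_subset_ker (DetHom.det (χ : G → ℂ))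
      (hNG n.2))
  rw [htriv, one_pow] at hdet
  refine (orderOf_dvd_of_pow_eq_one hdet.symm).trans ?_
  rw [hab, hcard, mul_comm e]
  exact Nat.mul_dvd_mul_right (dvd_mul_right _ _) e

/-- Factorisation of a group by two subgroups of coprime index. -/
theorem exists_mul_of_coprime_index (A B : Subgroup G) (h : A.index.Coprime B.index) (g : G) :
    ∃ a ∈ A, ∃ b ∈ B, g = a * b := by
  let f : A ⧸ B.subgroupOf A → G ⧸ B := Quotient.map' (fun a => (a : G)) fun a b hab => by
    rw [QuotientGroup.leftRel_apply] at hab ⊢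
    exact Subgroup.mem_subgroupOf.mp hab
  have hinj : Function.Injective f := by
    rintro ⟨a⟩ ⟨b⟩ hab
    refine Quotient.sound' ?_
    rw [QuotientGroup.leftRel_apply]
    exact Subgroup.mem_subgroupOf.mpr (QuotientGroup.eq.mp hab)
  have h1 : (A ⊓ B).index = B.relIndex A * A.index := by
    rw [← Subgroup.inf_relIndex_left, Subgroup.relIndex_mul_index inf_le_left]
  have h2 : B.index ∣ B.relIndex A := by
    refine h.symm.dvd_of_dvd_mul_right ?_
    rw [← h1]
    exact Subgroup.index_dvd_of_le inf_le_right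
  have hle : Nat.card (G ⧸ B) ≤ Nat.card (A ⧸ B.subgroupOf A) := by
    change B.index ≤ B.relIndex A
    exact Nat.le_of_dvd (Nat.pos_of_ne_zero Subgroup.index_ne_zero_of_finite) h2
  have hbij := (Nat.bijective_iff_injective_and_card f).mpr
    ⟨hinj, le_antisymm (Nat.card_le_card_of_injective f hinj) hle⟩
  obtain ⟨q, hq⟩ := hbij.2 (g : G ⧸ B)
  obtain ⟨a, rfl⟩ := QuotientGroup.mk_surjective q
  exact ⟨a, a.2, (a : G)⁻¹ * g, QuotientGroup.eq.mp hq, (mul_inv_cancel_left _ _).symm⟩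

theorem index_eq_one_of_top {T : Subgroup G} (h : T = ⊤) : T.index = 1 := h ▸ Subgroup.index_top

/-- For two linear characters of `r`-power order whose orbit sizes are coprime and prime to `r`,
the orbit size of the product meets both. -/
theorem not_coprime_of_product {l m : N →* ℂˣ} {q : ℕ} (hm : m ^ q = 1)
    (hlm : (stab l : Subgroup G).index.Coprime (stab m : Subgroup G).index)
    (hm1 : (stab m : Subgroup G).index ≠ 1) (hql : q.Coprime (stab l : Subgroup G).index) :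
    ¬ (stab (l * m) : Subgroup G).index.Coprime (stab m : Subgroup G).index := by
  classical
  cases nonempty_fintype G
  intro h3
  let A : Finset (N →* ℂˣ) := Finset.univ.image fun g : G => cj g l
  have hA : ∀ {x}, x ∈ A ↔ ∃ g : G, cj g l = x := fun {x} => by simp [A]
  -- translation by `m` identifies the orbits of `l` and `l * m`
  have hfwd : ∀ g : G, ∃ v : G, cj v (l * m) = cj g l * m := fun g => by
    obtain ⟨u, hu, v, hv, rfl⟩ := exists_mul_of_coprime_index _ _ hlm g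
    refine ⟨v, ?_⟩
    rw [cj_apply_mul, mem_stab.mp hv, cj_mul, mem_stab.mp hu]
  have hbwd : ∀ g : G, ∃ v : G, cj g (l * m) = cj v l * m := fun g => by
    obtain ⟨u, hu, v, hv, rfl⟩ := exists_mul_of_coprime_index _ _ h3 g
    refine ⟨v, ?_⟩
    rw [cj_mul, mem_stab.mp hu, cj_apply_mul, mem_stab.mp hv]
  obtain ⟨h, hh⟩ : ∃ h : G, cj h m ≠ m := by
    by_contra! hall
    exact hm1 (Subgroup.index_eq_one.mpr (eq_top_iff.mpr fun g _ => mem_stab.mpr (hall g)))
  set d := cj h m * m⁻¹ with hd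
  have hmaps : ∀ x ∈ A, x * d ∈ A := by
    intro x hx
    obtain ⟨g, rfl⟩ := hA.mp hx
    obtain ⟨v, hv⟩ := hfwd (g * h⁻¹)
    obtain ⟨w, hw⟩ := hbwd (v * h)
    refine hA.mpr ⟨w, ?_⟩
    rw [cj_mul, hv, cj_apply_mul, ← cj_mul, inv_mul_cancel_right] at hw
    rw [hd, ← mul_assoc, hw, mul_inv_cancel_right]
  have himg : A.image (fun x => x * d) = A :=
    Finset.eq_of_subset_of_card_le (fun x hx => by
      obtain ⟨y, hy, rfl⟩ := Finset.mem_image.mp hx
      exact hmaps y hy) (Finset.card_image_of_injective _ (mul_left_injective d)).ge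
  have hpow : d ^ A.card = 1 := by
    have hp : ∏ x ∈ A, x * d = ∏ x ∈ A, x := by
      conv_rhs => rw [← himg]
      rw [Finset.prod_image fun a _ b _ e => mul_left_injective d e]
    rw [Finset.prod_mul_distrib, Finset.prod_const] at hp
    exact mul_eq_left.mp hp
  have hcard : A.card = (stab l : Subgroup G).index := by
    rw [Subgroup.index, ← Nat.card_eq_finsetCard]
    symm
    refine Nat.card_eq_of_bijective (fun c => Quotient.liftOn' c
      (fun g : G => (⟨cj g⁻¹ l, hA.mpr ⟨_, rfl⟩⟩ : A)) fun a b hab => Subtype.ext ?_) ⟨?_, ?_⟩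
    · rw [QuotientGroup.leftRel_apply, mem_stab] at hab
      show cj a⁻¹ l = cj b⁻¹ l
      conv_lhs => rw [show a⁻¹ = (a⁻¹ * b) * b⁻¹ by group]
      rw [cj_mul, hab]
    · rintro ⟨a⟩ ⟨b⟩ hab
      refine Quotient.sound' ?_
      rw [QuotientGroup.leftRel_apply, mem_stab, cj_mul]
      have hab' : cj a⁻¹ l = cj b⁻¹ l := Subtype.ext_iff.mp hab
      rw [hab', ← cj_mul, inv_mul_cancel, cj_one]
    · rintro ⟨x, hx⟩
      obtain ⟨g, rfl⟩ := hA.mp hx
      exact ⟨QuotientGroup.mk g⁻¹, Subtype.ext (by simp)⟩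
  have hdq : d ^ q = 1 := by rw [hd, mul_pow, inv_pow, ← cj_pow, hm]; ext; simp [cj]
  have hd1 : d = 1 := orderOf_eq_one_iff.mp (Nat.eq_one_of_dvd_coprimes hql
    (orderOf_dvd_of_pow_eq_one hdq) (hcard ▸ orderOf_dvd_of_pow_eq_one hpow))
  exact hh (mul_inv_eq_one.mp (hd ▸ hd1))

/-- Let N be a normal subgroup of the finite group G that is not perfect and is contained in the derived subgroup of G. Consider the common-divisor graph on the relative degree set cd(G|N) (the degrees of the irreducible complex characters of G whose kernel does not contain N; two distinct degrees adjacent when they have a common divisor greater than one). Then this graph has at most two connected components; and if a, b ∈ cd(G|N) lie in different components, then one of a, b is coprime to the index m of the derived subgroup of N in N while the other is divisible by every prime divisor of m. -/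
theorem result {G : Type*} [Group G] [Finite G] (N : Subgroup G) [N.Normal] (hN : ⁅N, N⁆ < N) (hNG : N ≤ commutator G) : Nat.card (Cfsg.commonDivisorGraph.induce (Cfsg.relCharDegrees N)).ConnectedComponent ≤ 2 ∧ ∀ (a b : ℕ) (ha : a ∈ Cfsg.relCharDegrees N) (hb : b ∈ Cfsg.relCharDegrees N), ¬ (Cfsg.commonDivisorGraph.induce (Cfsg.relCharDegrees N)).Reachable ⟨a, ha⟩ ⟨b, hb⟩ → (Nat.Coprime a (⁅N, N⁆.relIndex N) ∧ ∀ r : ℕ, r.Prime → r ∣ ⁅N, N⁆.relIndex N → r ∣ b) ∨ (Nat.Coprime b (⁅N, N⁆.relIndex N) ∧ ∀ r : ℕ, r.Prime → r ∣ ⁅N, N⁆.relIndex N → r ∣ a) := by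
  classical
  cases nonempty_fintype G
  have : Fintype N := Fintype.ofFinite _
  set V := Cfsg.relCharDegrees N with hV
  let Γ := Cfsg.commonDivisorGraph.induce V
  set m := ⁅N, N⁆.relIndex N with hm
  have hLin : Nat.card (N →* ℂˣ) = m := by
    rw [Chars.card_monoidHom_units, hm, Subgroup.relIndex, Subgroup.subgroupOf,
      ← N.map_subtype_commutator, Subgroup.comap_map_eq_self_of_injective N.subtype_injective]
  have : Finite (N →* ℂˣ) := Finite.of_injective _ Chars.linIrr_injective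
  have hm0 : m ≠ 0 := hLin ▸ Nat.card_pos.ne'
  have hm1 : m ≠ 1 := fun h => hN.not_ge (Subgroup.relIndex_eq_one.mp (hm ▸ h))
  have hpowm : ∀ l : N →* ℂˣ, l ^ m = 1 := fun l => hLin ▸ pow_card_eq_one'
  -- reachability of adjacent degrees
  have hR : ∀ (x y : V) (c : ℕ), c ≠ 1 → c ∣ (x : ℕ) → c ∣ (y : ℕ) → Γ.Reachable x y := by
    intro x y c hc hx hy
    by_cases hxy : x = y
    · rw [hxy]
    refine SimpleGraph.Adj.reachable ⟨fun h => hxy (Subtype.ext h), ?_⟩
    have hg : c ∣ Nat.gcd x y := Nat.dvd_gcd hx hy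
    have hx0 : (x : ℕ) ≠ 0 := by
      obtain ⟨χ, -, hχ⟩ := x.2
      obtain ⟨d, hd0, hd⟩ := Chars.isIrrCharacter_exists_degree_pos χ.2
      rw [← hχ, Codegree.charDegree_eq hd]
      exact hd0.ne'
    have h0 : 0 < Nat.gcd x y := Nat.gcd_pos_of_pos_left _ (Nat.pos_of_ne_zero hx0)
    rcases Nat.lt_or_eq_of_le (Nat.one_le_iff_ne_zero.mpr h0.ne') with h | h
    · exact h
    · exact absurd (Nat.eq_one_of_dvd_one (h ▸ hg)) hc
  -- the vertices over a character of `N`
  have hdeg : ∀ θ : Cfsg.IrrCharacter N, θ ≠ Chars.trivialIrr N →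
      ∃ x : V, ∃ χ : Cfsg.IrrCharacter G, (χ : G → ℂ) 1 = ((x : ℕ) : ℂ) ∧ Over χ θ := by
    intro θ hθ
    obtain ⟨χ, hχ⟩ : ∃ χ : IrrCharacter G,
        classInner (indFun N (θ : N → ℂ)) (χ : G → ℂ) ≠ 0 := by
      by_contra! h0
      have := congrFun (Chars.isCharacter_eq_sum_classInner
        (Chars.isCharacter_indFun N (Chars.irr_isCharacter θ))) 1
      simp [Chars.indFun_one_eq, h0, Chars.irr_apply_one_ne_zero,
        Subgroup.index_ne_zero_of_finite] at this
    have hov : Over χ θ := by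
      intro h0
      refine hχ ?_
      rw [Chars.classInner_indFun_left N _ _ (Chars.irr_isClassFunction χ), ← Chars.conj_classInner]
      exact (congrArg _ h0).trans (map_zero _)
    obtain ⟨d, hd0, hd⟩ := Chars.isIrrCharacter_exists_degree_pos χ.2
    refine ⟨⟨d, χ, ?_, Codegree.charDegree_eq hd⟩, χ, hd, hov⟩
    by_contra! hall
    refine hov ?_
    rw [show Clifford.resFun N (χ : G → ℂ) = (χ : G → ℂ) 1 • (Chars.trivialIrr N : N → ℂ) from
      funext fun x => by simp [Clifford.resFun_apply, hall x x.2],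
      Chars.classInner_smul_left, Chars.classInner_irr_of_ne hθ.symm, mul_zero]
  have hrev : ∀ x : V, ∃ (θ : Cfsg.IrrCharacter N) (χ : Cfsg.IrrCharacter G),
      θ ≠ Chars.trivialIrr N ∧ (χ : G → ℂ) 1 = ((x : ℕ) : ℂ) ∧ Over χ θ := by
    intro x
    obtain ⟨χ, ⟨z, hz, hne⟩, hχ⟩ := x.2
    obtain ⟨d, -, hd⟩ := Chars.isIrrCharacter_exists_degree_pos χ.2
    rw [Codegree.charDegree_eq hd] at hχ
    suffices ∃ θ, θ ≠ Chars.trivialIrr N ∧ Over χ θ by
      obtain ⟨θ, h1, h2⟩ := this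
      exact ⟨θ, χ, h1, by rw [hd, hχ], h2⟩
    by_contra! hcon
    refine hne ?_
    have hdec := Chars.isCharacter_eq_sum_classInner
      (Chars.isCharacter_restrict N (Chars.irr_isCharacter χ))
    rw [Finset.sum_eq_single (Chars.trivialIrr N) (fun θ _ hθ => by
      rw [show classInner (fun x : N => (χ : G → ℂ) x) (θ : N → ℂ) = 0 from
        not_not.mp (hcon θ hθ), zero_smul]) (by simp)] at hdec
    have h1 := congrFun hdec ⟨z, hz⟩
    have h2 := congrFun hdec 1
    simp only [Pi.smul_apply, Chars.trivialIrr_apply, OneMemClass.coe_one] at h1 h2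
    exact h1.trans h2.symm
  -- the `r`-part of the determinant
  let J : ℕ → ℕ := fun r => ordCompl[r] m
  let Q : ℕ → ℕ := fun r => ordProj[r] m
  let key : ℕ → Cfsg.IrrCharacter N → (N →* ℂˣ) := fun r θ => DetHom.det (θ : N → ℂ) ^ J r
  have hJQ : ∀ r, J r * Q r = m := fun r => by
    rw [mul_comm]; exact Nat.ordProj_mul_ordCompl_eq_self m r
  have hkeyQ : ∀ r θ, key r θ ^ Q r = 1 := fun r θ => by
    simp only [key]; rw [← pow_mul, hJQ, hpowm]
  have hJcop : ∀ r, r.Prime → ∀ b, ¬ r ∣ b → ((b * J r).Coprime (Q r)) := by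
    intro r hr b hb
    refine Nat.Coprime.pow_right _ (Nat.Coprime.mul_left ?_ ?_)
    · exact (hr.coprime_iff_not_dvd.mpr hb).symm
    · exact (Nat.coprime_ordCompl hr hm0).symm
  -- twisting to prescribe the key
  have hroot : ∀ r, r.Prime → ∀ b, ¬ r ∣ b → ∀ l : N →* ℂˣ, l ^ Q r = 1 →
      ∃ μ : N →* ℂˣ, μ ^ (b * J r) = l ∧ μ ^ Q r = 1 := by
    intro r hr b hb l hl
    obtain ⟨k, hk⟩ := exists_pow_eq_self_of_coprime
      ((hJcop r hr b hb).coprime_dvd_right (orderOf_dvd_of_pow_eq_one hl))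
    exact ⟨l ^ k, by rw [← pow_mul, mul_comm, pow_mul, hk],
      by rw [← pow_mul, mul_comm, pow_mul, hl, one_pow]⟩
  have htwist : ∀ r, r.Prime → ∀ (θ : Cfsg.IrrCharacter N) (b : ℕ), (θ : N → ℂ) 1 = b → ¬ r ∣ b →
      ∀ l : N →* ℂˣ, l ^ Q r = 1 → ∃ θ' : Cfsg.IrrCharacter N, (θ' : N → ℂ) 1 = b ∧
        key r θ' = l := by
    intro r hr θ b hb hrb l hl
    obtain ⟨μ, hμ, -⟩ := hroot r hr b hrb (l * (key r θ)⁻¹)
      (by rw [mul_pow, inv_pow, hl, hkeyQ]; simp)
    refine ⟨⟨_, Chars.isIrrCharacter_hom_mul μ θ.2⟩, by simp [hb], ?_⟩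
    show DetHom.det (fun g => (μ g : ℂ) * (θ : N → ℂ) g) ^ J r = l
    rw [DetHom.det_hom_mul μ (Chars.irr_isCharacter θ) hb, mul_pow, ← pow_mul, hμ,
      inv_mul_cancel_right]
  have hkey1 : ∀ r (θ : Cfsg.IrrCharacter N), key r θ ≠ 1 → θ ≠ Chars.trivialIrr N := by
    rintro r θ h rfl
    refine h ?_
    have : DetHom.det ((Chars.trivialIrr N : Cfsg.IrrCharacter N) : N → ℂ) = 1 := by
      rw [show ((Chars.trivialIrr N : Cfsg.IrrCharacter N) : N → ℂ) =
        fun n => ((1 : N →* ℂˣ) n : ℂ) from funext fun n => by simp]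
      exact DetHom.det_hom _
    simp only [key, this, one_pow]
  -- the class of a key
  let Cl : ℕ → (N →* ℂˣ) → V → Prop := fun r l x =>
    ∃ (θ : Cfsg.IrrCharacter N) (χ : Cfsg.IrrCharacter G), key r θ = l ∧
      (χ : G → ℂ) 1 = ((x : ℕ) : ℂ) ∧ Over χ θ
  have hClne : ∀ r, r.Prime → ∀ l : N →* ℂˣ, l ^ Q r = 1 → l ≠ 1 → ∃ x, Cl r l x := by
    intro r hr l hl hl1
    obtain ⟨θ, -, hθ⟩ := htwist r hr (Chars.trivialIrr N) 1 (by simp)
      hr.not_dvd_one l hl
    obtain ⟨x, χ, hx, hov⟩ := hdeg θ (hkey1 r θ (hθ ▸ hl1))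
    exact ⟨x, θ, χ, hθ, hx, hov⟩
  have hCl : ∀ {r} {l : N →* ℂˣ} {x : V}, r.Prime → l ^ Q r = 1 → l ≠ 1 → Cl r l x →
      (stab l : Subgroup G).index ∣ (x : ℕ) ∧ ((stab l : Subgroup G).index = 1 → r ∣ (x : ℕ)) := by
    rintro r l x hr hl hl1 ⟨θ, χ, rfl, hx, hov⟩
    obtain ⟨b, -, hb⟩ := Chars.isIrrCharacter_exists_degree_pos θ.2
    obtain ⟨-, h2, h3⟩ := over_facts hNG hov hx hb (J r)
    refine ⟨h2, fun h1 => ?_⟩
    have hord := h3 (Subgroup.index_eq_one.mp h1)
    obtain ⟨i, -, hi⟩ := (Nat.dvd_prime_pow hr).mp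
      (orderOf_dvd_of_pow_eq_one hl : _ ∣ r ^ m.factorization r)
    have hi0 : i ≠ 0 := fun h => hl1 (orderOf_eq_one_iff.mp (by rw [hi, h, pow_zero]))
    exact (dvd_pow_self r hi0).trans (hi ▸ hord)
  have hClR : ∀ {r} {l : N →* ℂˣ} {x y : V}, r.Prime → l ^ Q r = 1 → l ≠ 1 → Cl r l x →
      Cl r l y → Γ.Reachable x y := by
    intro r l x y hr hl hl1 hx hy
    obtain ⟨a1, a2⟩ := hCl hr hl hl1 hx
    obtain ⟨b1, b2⟩ := hCl hr hl hl1 hy
    by_cases h : (stab l : Subgroup G).index = 1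
    · exact hR x y r hr.ne_one (a2 h) (b2 h)
    · exact hR x y _ h a1 b1
  -- two primes
  have hcross : ∀ {r s} {l μ : N →* ℂˣ} {x y : V}, r.Prime → s.Prime → r ≠ s →
      l ^ Q r = 1 → l ≠ 1 → μ ^ Q s = 1 → μ ≠ 1 → Cl r l x → Cl s μ y → Γ.Reachable x y := by
    intro r s l μ x y hr hs hrs hl hl1 hμ hμ1 hx hy
    obtain ⟨a, ha, haQ⟩ := hroot r hr 1 hr.not_dvd_one l hl
    obtain ⟨b, hb, hbQ⟩ := hroot s hs 1 hs.not_dvd_one μ hμ
    rw [one_mul] at ha hb
    have hdvd : ∀ {u v : ℕ}, u.Prime → v.Prime → u ≠ v → Q v ∣ J u := fun {u v} hu hv huv => by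
      refine Nat.Coprime.dvd_of_dvd_mul_right ?_ ((hJQ u).symm ▸ Dvd.intro_left _ (hJQ v))
      exact Nat.Coprime.pow _ _ ((Nat.coprime_primes hv hu).mpr (Ne.symm huv))
    let θ : Cfsg.IrrCharacter N := Chars.linIrr (a * b)
    have hdet : DetHom.det (θ : N → ℂ) = a * b := DetHom.det_hom (a * b)
    have hkr : key r θ = l := by
      obtain ⟨c, hc⟩ := hdvd hr hs hrs
      simp only [key, hdet, mul_pow, ha]
      rw [hc, pow_mul, hbQ, one_pow, mul_one]
    have hks : key s θ = μ := by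
      obtain ⟨c, hc⟩ := hdvd hs hr (Ne.symm hrs)
      simp only [key, hdet, mul_pow, hb]
      rw [hc, pow_mul, haQ, one_pow, one_mul]
    obtain ⟨z, χ, hz, hov⟩ := hdeg θ (hkey1 r θ (hkr ▸ hl1))
    exact (hClR hr hl hl1 hx ⟨θ, χ, hkr, hz, hov⟩).trans
      (hClR hs hμ hμ1 ⟨θ, χ, hks, hz, hov⟩ hy)
  -- degrees missing a prime of `m`
  let Full : V → Prop := fun x => ∀ r : ℕ, r.Prime → r ∣ m → r ∣ (x : ℕ)
  have hrep : ∀ x : V, ¬ Full x → ∃ r, r.Prime ∧ r ∣ m ∧ ∃ l : N →* ℂˣ, l ^ Q r = 1 ∧ l ≠ 1 ∧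
      (∃ z, Cl r l z ∧ Γ.Reachable x z) ∧
      ((∀ l' : N →* ℂˣ, l' ^ Q r = 1 → l' ≠ 1 → ∃ z, Cl r l' z ∧ Γ.Reachable x z) ∨
        ((∀ s : ℕ, s.Prime → s ∣ m → s = r) → Cl r l x ∧ ¬ r ∣ (x : ℕ))) := by
    intro x hx
    simp only [Full, not_forall] at hx
    obtain ⟨r, hr, hrm, hrx⟩ := hx
    obtain ⟨θ, χ, hθ, hχ, hov⟩ := hrev x
    obtain ⟨b, -, hb⟩ := Chars.isIrrCharacter_exists_degree_pos θ.2
    have hbx := (over_facts hNG hov hχ hb 0).1
    by_cases hb1 : b = 1
    · subst hb1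
      rw [Nat.cast_one] at hb
      obtain ⟨μ, hμ⟩ := Chars.exists_hom_of_degree_one (Chars.irr_isCharacter θ) hb
      have hdet : DetHom.det (θ : N → ℂ) = μ := by rw [hμ]; exact DetHom.det_hom μ
      obtain ⟨s, hs, hsm, hne⟩ : ∃ s, s.Prime ∧ s ∣ m ∧ μ ^ J s ≠ 1 := by
        by_contra! hall
        have hμ1 : μ ≠ 1 := fun h => hθ (Subtype.ext (by rw [hμ, h]; funext n; simp))
        obtain ⟨s, hs, hsμ⟩ := Nat.exists_prime_and_dvd
          (fun h => hμ1 (orderOf_eq_one_iff.mp h))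
        have hsm := hsμ.trans (orderOf_dvd_of_pow_eq_one (hpowm μ))
        exact Nat.not_dvd_ordCompl hs hm0
          (hsμ.trans (orderOf_dvd_of_pow_eq_one (hall s hs hsm)))
      refine ⟨s, hs, hsm, key s θ, hkeyQ s θ, by simp only [key, hdet]; exact hne,
        ⟨x, ⟨θ, χ, rfl, hχ, hov⟩, SimpleGraph.Reachable.refl _⟩, Or.inr fun hall => ?_⟩
      exact ⟨⟨θ, χ, rfl, hχ, hov⟩, hall r hr hrm ▸ hrx⟩
    · have hall : ∀ l' : N →* ℂˣ, l' ^ Q r = 1 → l' ≠ 1 → ∃ z, Cl r l' z ∧ Γ.Reachable x z := by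
        intro l' hl' hl'1
        obtain ⟨θ', hb', hk⟩ := htwist r hr θ b hb (fun h => hrx (h.trans hbx)) l' hl'
        obtain ⟨z, χ', hz, hov'⟩ := hdeg θ' (hkey1 r θ' (hk ▸ hl'1))
        exact ⟨z, ⟨θ', χ', hk, hz, hov'⟩,
          hR x z b hb1 hbx (over_facts hNG hov' hz hb' 0).1⟩
      have : Fact r.Prime := ⟨hr⟩
      obtain ⟨l, hl⟩ := exists_prime_orderOf_dvd_card' r (hLin ▸ hrm)
      have hlQ : l ^ Q r = 1 := orderOf_dvd_iff_pow_eq_one.mp
        (hl ▸ dvd_pow_self r (hr.factorization_pos_of_dvd hm0 hrm).ne')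
      have hl1 : l ≠ 1 := fun h => hr.ne_one (by rw [← hl, h, orderOf_one])
      exact ⟨r, hr, hrm, l, hlQ, hl1, hall l hlQ hl1, Or.inl hall⟩
  have hnonfull : ∀ x y : V, ¬ Full x → ¬ Full y → Γ.Reachable x y := by
    intro x y hx hy
    obtain ⟨r, hr, hrm, l, hl, hl1, ⟨z, hz, hxz⟩, hxc⟩ := hrep x hx
    obtain ⟨s, hs, hsm, μ, hμ, hμ1, ⟨w, hw, hyw⟩, hyc⟩ := hrep y hy
    by_cases hrs : r = s
    · subst hrs
      by_cases htwo : ∀ t : ℕ, t.Prime → t ∣ m → t = r
      · rcases hxc with hall | hx2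
        · obtain ⟨z', hz', hxz'⟩ := hall μ hμ hμ1
          exact hxz'.trans ((hClR hr hμ hμ1 hz' hw).trans hyw.symm)
        rcases hyc with hall | hy2
        · obtain ⟨w', hw', hyw'⟩ := hall l hl hl1
          exact hxz.trans ((hClR hr hl hl1 hz hw').trans hyw'.symm)
        obtain ⟨hxl, hxr⟩ := hx2 htwo
        obtain ⟨hym, hyr⟩ := hy2 htwo
        obtain ⟨a1, a2⟩ := hCl hr hl hl1 hxl
        obtain ⟨b1, b2⟩ := hCl hr hμ hμ1 hym
        set tl := (stab l : Subgroup G).index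
        set tm := (stab μ : Subgroup G).index
        have htl : tl ≠ 1 := fun h => hxr (a2 h)
        have htm : tm ≠ 1 := fun h => hyr (b2 h)
        by_cases hcop : tl.Coprime tm
        · have hql : (Q r).Coprime tl :=
            Nat.Coprime.pow_left _ (hr.coprime_iff_not_dvd.mpr fun h => hxr (h.trans a1))
          have hqm : (Q r).Coprime tm :=
            Nat.Coprime.pow_left _ (hr.coprime_iff_not_dvd.mpr fun h => hyr (h.trans b1))
          have h3m := not_coprime_of_product hμ hcop htm hql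
          have h3l := not_coprime_of_product hl hcop.symm htl hqm
          rw [mul_comm μ l] at h3l
          have hlm1 : l * μ ≠ 1 := by
            intro h
            refine h3l ?_
            rw [h, show (stab (1 : N →* ℂˣ) : Subgroup G).index = 1 from
              Subgroup.index_eq_one.mpr (eq_top_iff.mpr fun g _ => mem_stab.mpr (by
                ext; simp [cj]))]
            exact Nat.coprime_one_left _
          have hlmQ : (l * μ) ^ Q r = 1 := by rw [mul_pow, hl, hμ]; simp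
          obtain ⟨v, hv⟩ := hClne r hr _ hlmQ hlm1
          obtain ⟨v1, -⟩ := hCl hr hlmQ hlm1 hv
          exact (hR x v _ h3l ((Nat.gcd_dvd_right _ _).trans a1)
            ((Nat.gcd_dvd_left _ _).trans v1)).trans
            (hR v y _ h3m ((Nat.gcd_dvd_left _ _).trans v1) ((Nat.gcd_dvd_right _ _).trans b1))
        · exact hR x y _ hcop ((Nat.gcd_dvd_left _ _).trans a1) ((Nat.gcd_dvd_right _ _).trans b1)
      · simp only [not_forall] at htwo
        obtain ⟨t, ht, htm, htr⟩ := htwo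
        have : Fact t.Prime := ⟨ht⟩
        obtain ⟨ν, hν⟩ := exists_prime_orderOf_dvd_card' t (hLin ▸ htm)
        have hνQ : ν ^ Q t = 1 := orderOf_dvd_iff_pow_eq_one.mp
          (hν ▸ dvd_pow_self t (ht.factorization_pos_of_dvd hm0 htm).ne')
        have hν1 : ν ≠ 1 := fun h => ht.ne_one (by rw [← hν, h, orderOf_one])
        obtain ⟨v, hv⟩ := hClne t ht ν hνQ hν1
        exact (hxz.trans (hcross hr ht (Ne.symm htr) hl hl1 hνQ hν1 hz hv)).trans
          ((hcross ht hr htr hνQ hν1 hμ hμ1 hv hw).trans hyw.symm)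
    · exact hxz.trans ((hcross hr hs hrs hl hl1 hμ hμ1 hz hw).trans hyw.symm)
  obtain ⟨r0, hr0, hr0m⟩ := Nat.exists_prime_and_dvd hm1
  have hfull : ∀ x y : V, Full x → Full y → Γ.Reachable x y := fun x y hx hy =>
    hR x y r0 hr0.ne_one (hx r0 hr0 hr0m) (hy r0 hr0 hr0m)
  constructor
  · let F : Γ.ConnectedComponent → Bool := fun c => decide (Full c.out)
    have hF : Function.Injective F := by
      intro c d h
      rw [← c.out_eq, ← d.out_eq]
      have hh : Full c.out ↔ Full d.out := decide_eq_decide.mp h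
      refine Quot.sound ?_
      by_cases hc : Full c.out
      · exact hfull _ _ hc (hh.mp hc)
      · exact hnonfull _ _ hc (mt hh.mpr hc)
    refine (Nat.card_le_card_of_injective F hF).trans ?_
    simp
  · intro a b ha hb hab
    have hfa : ∀ x y : V, ¬ Γ.Reachable x y → ¬ Full x → Full y →
        Nat.Coprime (x : ℕ) m ∧ ∀ r : ℕ, r.Prime → r ∣ m → r ∣ (y : ℕ) := by
      intro x y hxy _ hy
      refine ⟨?_, hy⟩
      by_contra hc
      obtain ⟨r, hr, hrx, hrm⟩ := Nat.Prime.not_coprime_iff_dvd.mp hc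
      exact hxy (hR x y r hr.ne_one hrx (hy r hr hrm))
    by_cases h1 : Full ⟨a, ha⟩
    · by_cases h2 : Full ⟨b, hb⟩
      · exact absurd (hfull _ _ h1 h2) hab
      · exact Or.inr (hfa _ _ (fun h => hab h.symm) h2 h1)
    · by_cases h2 : Full ⟨b, hb⟩
      · exact Or.inl (hfa _ _ hab h1 h2)
      · exact absurd (hnonfull _ _ h1 h2) hab

end Cfsg.Agent.S4776
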