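import Cfsg.Statements.S0801
import Mathlib
import Cfsg.Agent.Lib.SL2.MaxCases
-- import your own Cfsg.Agent.* helpers here

set_option autoImplicit false
open Cfsg

namespace Cfsg.Agent.S0801

open Cfsg.Agent.Lib.SL2

/-- `a + b i`. -/
abbrev R9 := ZMod 3 × ZMod 3

/-- Product, `i² = -1`. -/
def mul9 (a b : R9) : R9 := (a.1 * b.1 - a.2 * b.2, a.1 * b.2 + a.2 * b.1)

/-- Matrices over `R9`, row by row. -/
abbrev M9 := R9 × R9 × R9 × R9

/-- Matrix product. -/
def mulM9 : M9 → M9 → M9
  | (a, b, c, d), (e, f, g, h) =>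
    (mul9 a e + mul9 b g, mul9 a f + mul9 b h, mul9 c e + mul9 d g, mul9 c f + mul9 d h)

/-- A group of order 120 inside `SL₂(9)`. -/
def table9 : List M9 :=
  [
    ((1,0), (0,0), (0,0), (1,0)), ((1,0), (0,0), (1,0), (1,0)),
    ((1,0), (0,1), (0,0), (1,0)), ((1,0), (0,0), (2,0), (1,0)),
    ((1,1), (0,1), (1,0), (1,0)), ((1,0), (0,1), (1,0), (1,1)),
    ((1,0), (0,2), (0,0), (1,0)), ((1,2), (0,1), (2,0), (1,0)),
    ((1,1), (0,1), (2,1), (1,1)), ((1,2), (0,2), (1,0), (1,0)),
    ((1,0), (0,1), (2,0), (1,2)), ((1,1), (2,2), (1,0), (1,1)),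
    ((1,0), (0,2), (1,0), (1,2)), ((1,2), (0,1), (0,2), (1,1)),
    ((1,1), (0,2), (2,0), (1,0)), ((1,1), (0,1), (0,2), (1,2)),
    ((0,0), (2,2), (2,1), (1,1)), ((1,2), (0,2), (2,2), (1,2)),
    ((1,2), (1,2), (2,0), (1,2)), ((1,1), (2,2), (2,1), (0,0)),
    ((1,2), (1,0), (1,0), (1,1)), ((1,0), (0,2), (2,0), (1,1)),
    ((1,1), (1,0), (1,0), (1,2)), ((1,2), (0,1), (1,1), (1,2)),
    ((2,2), (2,2), (0,2), (1,1)), ((1,1), (0,2), (0,1), (1,2)),
    ((2,1), (1,2), (0,2), (1,2)), ((0,0), (2,2), (2,1), (0,0)),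
    ((2,2), (1,0), (2,1), (1,1)), ((1,2), (0,2), (0,1), (1,1)),
    ((2,1), (1,0), (2,2), (1,2)), ((1,2), (1,2), (0,2), (2,1)),
    ((1,1), (2,0), (2,0), (1,2)), ((1,1), (2,2), (0,2), (2,2)),
    ((1,2), (1,0), (2,2), (2,1)), ((1,2), (2,0), (2,0), (1,1)),
    ((1,1), (1,0), (2,1), (2,2)), ((1,2), (2,1), (1,0), (1,2)),
    ((0,0), (1,2), (1,1), (1,2)), ((2,2), (2,2), (2,1), (0,0)),
    ((0,2), (1,0), (0,2), (1,1)), ((1,1), (0,2), (1,2), (1,1)),
    ((0,1), (1,0), (0,1), (1,2)), ((2,1), (1,2), (2,0), (2,1)),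
    ((0,1), (2,0), (0,2), (1,2)), ((0,0), (2,2), (2,1), (2,2)),
    ((2,2), (1,0), (1,0), (2,1)), ((0,2), (2,0), (0,1), (1,1)),
    ((2,1), (1,0), (1,0), (2,2)), ((0,0), (2,1), (2,2), (1,2)),
    ((1,2), (1,2), (1,1), (0,0)), ((2,2), (0,1), (0,2), (2,1)),
    ((1,1), (2,0), (0,1), (0,2)), ((2,1), (0,1), (0,2), (2,2)),
    ((1,2), (1,0), (0,1), (0,1)), ((2,1), (0,2), (2,2), (2,1)),
    ((1,2), (2,0), (0,2), (0,1)), ((1,1), (1,1), (2,0), (1,1)),
    ((1,1), (1,0), (0,2), (0,2)), ((1,2), (2,1), (2,2), (0,0)),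
    ((0,0), (1,2), (1,1), (2,1)), ((2,1), (2,0), (1,1), (1,2)),
    ((2,2), (2,2), (1,0), (2,2)), ((0,2), (1,0), (0,1), (2,1)),
    ((2,2), (2,0), (1,2), (1,1)), ((0,1), (1,0), (0,2), (2,2)),
    ((2,1), (2,1), (0,1), (1,2)), ((2,1), (1,2), (1,1), (0,0)),
    ((2,0), (0,1), (2,0), (2,1)), ((0,1), (2,0), (0,0), (0,2)),
    ((2,2), (0,1), (2,1), (2,2)), ((2,2), (1,0), (0,2), (0,1)),
    ((2,0), (0,2), (1,0), (2,1)), ((0,2), (2,0), (0,0), (0,1)),
    ((2,2), (1,1), (0,1), (1,1)), ((2,1), (1,0), (0,1), (0,2)),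
    ((0,0), (2,1), (2,2), (0,0)), ((0,0), (1,2), (1,1), (0,0)),
    ((0,2), (2,0), (0,2), (2,1)), ((1,1), (2,0), (1,2), (2,2)),
    ((0,1), (0,0), (0,1), (0,2)), ((2,1), (0,1), (2,0), (2,0)),
    ((0,2), (0,0), (0,1), (0,1)), ((2,1), (0,2), (1,0), (2,0)),
    ((0,0), (2,1), (2,2), (2,1)), ((1,2), (2,0), (1,1), (2,1)),
    ((1,1), (1,1), (0,1), (2,2)), ((2,1), (2,0), (0,2), (0,2)),
    ((1,2), (2,1), (0,1), (2,1)), ((2,1), (2,1), (2,2), (0,0)),
    ((2,1), (0,1), (1,1), (2,1)), ((2,0), (0,1), (1,0), (2,2)),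
    ((0,2), (1,0), (0,0), (0,1)), ((2,2), (0,2), (0,1), (2,1)),
    ((2,2), (2,0), (0,1), (0,1)), ((0,0), (1,1), (1,2), (1,1)),
    ((0,1), (1,0), (0,0), (0,2)), ((2,2), (2,0), (2,0), (2,1)),
    ((0,1), (2,0), (0,1), (2,2)), ((0,1), (0,0), (0,0), (0,2)),
    ((2,2), (0,1), (1,0), (2,0)), ((0,2), (0,0), (0,2), (0,1)),
    ((2,0), (0,2), (0,0), (2,0)), ((2,1), (2,1), (1,0), (2,1)),
    ((2,2), (1,1), (2,0), (2,2)), ((2,2), (0,2), (1,2), (2,2)),
    ((0,1), (0,0), (0,2), (0,2)), ((2,0), (0,0), (2,0), (2,0)),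
    ((0,2), (0,0), (0,0), (0,1)), ((2,1), (0,2), (0,1), (2,2)),
    ((1,1), (1,1), (1,2), (0,0)), ((2,1), (2,0), (2,0), (2,2)),
    ((2,0), (0,1), (0,0), (2,0)), ((2,2), (0,2), (2,0), (2,0)),
    ((0,0), (1,1), (1,2), (2,2)), ((2,0), (0,0), (1,0), (2,0)),
    ((2,0), (0,2), (2,0), (2,2)), ((2,2), (1,1), (1,2), (0,0)),
    ((2,0), (0,0), (0,0), (2,0)), ((0,0), (1,1), (1,2), (0,0))]

lemma table9_closed : table9.length = 120 ∧ table9.contains ((1,0), (0,0), (0,0), (1,0)) = true ∧
    (table9.all fun x => table9.contains (mulM9 ((1,0), (0,0), (1,0), (1,0)) x)) = true ∧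
    (table9.all fun x => table9.contains (mulM9 ((1,0), (0,1), (0,0), (1,0)) x)) = true := by
  refine ⟨?_, ?_, ?_, ?_⟩ <;> decide +kernel

lemma card_closure_le {F : Type*} [Field F] [Fintype F] [CharP F 3] (lam : F) (h : lam ^ 2 = -1)
    (S : Subgroup (SLtwo F))
    (hS : S = Subgroup.closure ({lower 1, upper lam} : Set (SLtwo F))) : Nat.card S ≤ 120 := by
  classical
  let c : ZMod 3 →+* F := ZMod.castHom dvd_rfl F
  let ev : R9 → F := fun a => c a.1 + c a.2 * lam
  have eva : ∀ a b, ev (a + b) = ev a + ev b := fun a b => by simp [ev]; ring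
  have evm : ∀ a b, ev (mul9 a b) = ev a * ev b := fun a b => by
    simp only [ev, mul9, map_sub, map_add, map_mul]
    linear_combination -(c a.2 * c b.2) * h
  let mat : M9 → Matrix (Fin 2) (Fin 2) F := fun x => !![ev x.1, ev x.2.1; ev x.2.2.1, ev x.2.2.2]
  have hm : ∀ x y, mat (mulM9 x y) = mat x * mat y := by
    rintro ⟨a, b, c, d⟩ ⟨e, f, g, h⟩
    ext i j
    fin_cases i <;> fin_cases j <;>
      simp [mat, mulM9, eva, evm, Matrix.mul_apply, Fin.sum_univ_two]
  have hl : mat ((1,0), (0,0), (1,0), (1,0)) = (lower (1 : F) : Matrix (Fin 2) (Fin 2) F) := by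
    ext i j; fin_cases i <;> fin_cases j <;> simp [mat, ev]
  have hu : mat ((1,0), (0,1), (0,0), (1,0)) = (upper lam : Matrix (Fin 2) (Fin 2) F) := by
    ext i j; fin_cases i <;> fin_cases j <;> simp [mat, ev]
  obtain ⟨hlen, hone, hcl, hcu⟩ := table9_closed
  have hsub : ∀ g ∈ S, ∃ x ∈ table9, mat x = (g : Matrix (Fin 2) (Fin 2) F) := by
    intro g hg
    subst hS
    have hg' : g ∈ Submonoid.closure ({lower 1, upper lam} : Set (SLtwo F)) := by
      rwa [← Subgroup.closure_toSubmonoid_of_finite]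
    clear hg
    induction hg' using Submonoid.closure_induction_left with
    | one =>
      refine ⟨_, List.contains_iff_mem.1 hone, ?_⟩
      ext i j; fin_cases i <;> fin_cases j <;> simp [mat, ev]
    | mul_left a ha b _ ih =>
      obtain ⟨x, hx, e⟩ := ih
      rcases ha with rfl | rfl
      · exact ⟨_, List.contains_iff_mem.1 (List.all_eq_true.1 hcl x hx), by
          rw [hm, hl, e, Matrix.SpecialLinearGroup.coe_mul]⟩
      · exact ⟨_, List.contains_iff_mem.1 (List.all_eq_true.1 hcu x hx), by
          rw [hm, hu, e, Matrix.SpecialLinearGroup.coe_mul]⟩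
  have key : ((S : Set (SLtwo F)).toFinset.image
      (fun g : SLtwo F => (g : Matrix (Fin 2) (Fin 2) F))).card ≤ 120 := by
    rw [← hlen]
    refine le_trans (Finset.card_le_card (t := (table9.map mat).toFinset) ?_) ?_
    · intro m hm'
      simp only [Finset.mem_image, Set.mem_toFinset, SetLike.mem_coe] at hm'
      obtain ⟨g, hg, rfl⟩ := hm'
      obtain ⟨x, hx, e⟩ := hsub g hg
      exact List.mem_toFinset.2 (e ▸ List.mem_map_of_mem hx)
    · exact (List.toFinset_card_le _).trans (le_of_eq (List.length_map ..))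
  have hinj : Function.Injective (fun g : SLtwo F => (g : Matrix (Fin 2) (Fin 2) F)) :=
    fun a b e => Subtype.ext e
  rw [Finset.card_image_of_injective _ hinj, Set.toFinset_card, ← Nat.card_eq_fintype_card] at key
  exact key

lemma tr_sq_mem {F : Type*} [Field F] {K : Subfield F} {H : Subgroup (PSLtwo F)}
    {δ : Matrix.ProjGenLinGroup (Fin 2) F}
    (hH : H.map Matrix.ProjectiveSpecialLinearGroup.toPGL ≤
      (glMap K).range.map (MulAut.conj δ).toMonoidHom) {g : SLtwo F} (hg : proj g ∈ H) :
    tr g ^ 2 ∈ K := by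
  obtain ⟨_, ⟨u, rfl⟩, e⟩ := hH ⟨_, hg, rfl⟩
  obtain ⟨P, rfl⟩ := Matrix.ProjGenLinGroup.mk_surjective δ
  change MulAut.conj (Matrix.ProjGenLinGroup.mk P) (glMap K u) =
    Matrix.ProjGenLinGroup.mk (Matrix.SpecialLinearGroup.toGL g) at e
  rw [MulAut.conj_apply, glMap, MonoidHom.comp_apply, ← map_inv, ← map_mul, ← map_mul] at e
  obtain ⟨c, hc⟩ := Matrix.ProjGenLinGroup.mk_eq_mk_iff.1 e.symm
  set U := Matrix.GeneralLinearGroup.map K.subtype u with hU
  have hm := congrArg (fun x : GL (Fin 2) F => (x : Matrix (Fin 2) (Fin 2) F)) hc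
  simp only [Units.val_mul] at hm
  have hdet := congrArg Matrix.det hm
  have htr := congrArg Matrix.trace hm
  rw [Matrix.trace_mul_cycle (P : Matrix (Fin 2) (Fin 2) F), ← Units.val_mul P⁻¹ P,
    inv_mul_cancel, Units.val_one, one_mul] at htr
  rw [Matrix.det_mul, Matrix.det_mul, Matrix.det_mul, mul_right_comm, ← Matrix.det_mul (P : Matrix (Fin 2) (Fin 2) F),
    ← Units.val_mul P P⁻¹, mul_inv_cancel, Units.val_one, Matrix.det_one, one_mul] at hdet
  simp [Matrix.scalar_apply, ← Matrix.smul_one_eq_diagonal, Matrix.trace_fin_two] at htr hdet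
  have h1 : (U : Matrix (Fin 2) (Fin 2) F) 0 0 + (U : Matrix (Fin 2) (Fin 2) F) 1 1 ∈ K :=
    K.add_mem (u.1 0 0).2 (u.1 1 1).2
  have h2 : (U : Matrix (Fin 2) (Fin 2) F).det ∈ K := by
    rw [hU]
    change ((u : Matrix (Fin 2) (Fin 2) K).map K.subtype).det ∈ K
    rw [← RingHom.mapMatrix_apply, ← RingHom.map_det]
    exact Subtype.coe_prop _
  have key : tr g ^ 2 = ((U : Matrix (Fin 2) (Fin 2) F) 0 0 + (U : Matrix (Fin 2) (Fin 2) F) 1 1) ^ 2
      / (U : Matrix (Fin 2) (Fin 2) F).det := by
    rw [← htr, ← hdet]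
    simp only [tr]
    field_simp
  rw [key]
  exact div_mem (pow_mem h1 2) h2

lemma smul9 : (∀ z : alternatingGroup (Fin 4), z ^ 2 = 1 ∨ z ^ 3 = 1) ∧
    (∀ z : Equiv.Perm (Fin 4), z ^ 4 = 1 ∨ z ^ 3 = 1) ∧
    (∀ z : alternatingGroup (Fin 5), z ^ 2 = 1 ∨ z ^ 3 = 1 ∨ z ^ 5 = 1) ∧
    (∀ z : Equiv.Perm (Fin 4), z ^ 3 = 1 → Equiv.Perm.sign z = 1) := by
  refine ⟨?_, ?_, ?_, ?_⟩ <;> decide +kernel


/-- Let F be a finite field of odd characteristic and λ ≠ 0 an element generating F as a field. Then the lower and upper unitriangular matrices with off-diagonal entries 1 and λ generate SL_2(F), unless |F| = 9 and λ² = −1, in which case they generate a subgroup of order 120. -/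
theorem result {F : Type*} [Field F] [Fintype F] (h2 : (2 : F) ≠ 0) (lam : F) (hlam : lam ≠ 0) (hgen : Subfield.closure ({lam} : Set F) = ⊤) : (Subgroup.closure {g : Matrix.SpecialLinearGroup (Fin 2) F | (g : Matrix (Fin 2) (Fin 2) F) = !![1, 0; 1, 1] ∨ (g : Matrix (Fin 2) (Fin 2) F) = !![1, lam; 0, 1]} = ⊤ ∧ ¬ (Fintype.card F = 9 ∧ lam ^ 2 = -1)) ∨ (Fintype.card F = 9 ∧ lam ^ 2 = -1 ∧ Nat.card ↥(Subgroup.closure {g : Matrix.SpecialLinearGroup (Fin 2) F | (g : Matrix (Fin 2) (Fin 2) F) = !![1, 0; 1, 1] ∨ (g : Matrix (Fin 2) (Fin 2) F) = !![1, lam; 0, 1]}) = 120) := by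
  classical
  obtain ⟨p, hp, hpc⟩ : ∃ p, p.Prime ∧ CharP F p :=
    ⟨ringChar F, CharP.char_is_prime F _, ringChar.charP F⟩
  have : Fact p.Prime := ⟨hp⟩
  obtain ⟨n, -, hn⟩ := FiniteField.card F p
  have hp2 : p ≠ 2 := by
    rintro rfl
    exact h2 (by exact_mod_cast CharP.cast_eq_zero F 2)
  have hodd : Fintype.card F % 2 = 1 := Nat.odd_iff.1 (two_ne_zero_iff_odd.1 h2)
  have hset : {g : Matrix.SpecialLinearGroup (Fin 2) F | (g : Matrix (Fin 2) (Fin 2) F) = !![1, 0; 1, 1] ∨
      (g : Matrix (Fin 2) (Fin 2) F) = !![1, lam; 0, 1]} = ({lower 1, upper lam} : Set (SLtwo F)) := by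
    ext g
    simp only [Set.mem_setOf_eq, Set.mem_insert_iff, Set.mem_singleton_iff]
    constructor <;> rintro (h | h)
    · exact Or.inl (Subtype.ext h)
    · exact Or.inr (Subtype.ext h)
    · exact Or.inl (h ▸ rfl)
    · exact Or.inr (h ▸ rfl)
  rw [hset]
  set S := Subgroup.closure ({lower 1, upper lam} : Set (SLtwo F)) with hS
  set H := S.map proj with hH
  have ha : proj (lower 1) ∈ H := ⟨_, Subgroup.subset_closure (Or.inl rfl), rfl⟩
  have hb : proj (upper lam) ∈ H := ⟨_, Subgroup.subset_closure (Or.inr rfl), rfl⟩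
  have hap : proj (lower (1 : F)) ^ p = 1 := by
    rw [← map_pow, pow_char_of_tr_two p (by simp [tr]; norm_num), map_one]
  have hbp : proj (upper lam) ^ p = 1 := by
    rw [← map_pow, pow_char_of_tr_two p (by simp [tr]; norm_num), map_one]
  have hab : proj (lower 1) * proj (upper lam) ≠ proj (upper lam) * proj (lower 1) := by
    rw [← map_mul, ← map_mul]
    intro e
    rcases proj_eq_proj_iff.1 e with e | e
    · exact hlam (by simpa [mul_00] using congrArg (fun g : SLtwo F => g 0 0) e)
    · have h00 := congrArg (fun g : SLtwo F => g 0 0) e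
      have h01 := congrArg (fun g : SLtwo F => g 0 1) e
      simp [Matrix.mul_apply, Fin.sum_univ_two] at h00 h01
      exact hlam ((mul_right_inj' h2).1 (by linear_combination h01))
  have hgenH : H = Subgroup.closure ({proj (lower 1), proj (upper lam)} : Set (PSLtwo F)) := by
    rw [hH, hS, MonoidHom.map_closure, Set.image_pair]
  -- surjectivity onto `PSL₂` suffices
  have hneg : -1 ∈ S → ∀ g : SLtwo F, proj g ∈ H → g ∈ S := by
    rintro h1 g ⟨s, hs, e⟩
    rcases proj_eq_proj_iff.1 e with e' | e' <;> rw [e']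
    · exact hs
    · rw [show -s = -1 * s by simp]; exact S.mul_mem h1 hs
  have hinv : ∀ x ∈ H, x * x = 1 → x ≠ 1 → -1 ∈ S := by
    rintro x ⟨g, hg, rfl⟩ hxx hx1
    have ht := (tr_of_pow hx1).1 hxx
    have hgg : g * g = -1 := by
      refine Subtype.ext ?_
      have ch := cayley_hamilton g
      rw [ht, zero_smul, zero_sub] at ch
      simpa using ch
    exact hgg ▸ S.mul_mem hg hg
  have hG := card_PSL_mul (F := F)
  rw [Nat.gcd_eq_left (by omega)] at hG
  -- the cases
  rcases eq_or_ne H ⊤ with htop | htop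
  · left
    have hS' : S = ⊤ := by
      obtain ⟨x, hx⟩ : ∃ x : PSLtwo F, orderOf x = 2 := by
        refine exists_prime_orderOf_dvd_card' (G := PSLtwo F) 2 ?_
        have hne : Fintype.card F % 2 = 1 := hodd
        obtain ⟨t, ht⟩ : ∃ t, Fintype.card F = 2 * t + 1 := ⟨Fintype.card F / 2, by omega⟩
        rw [ht, show (2 * t + 1) ^ 2 - 1 = 4 * (t * t + t) from Nat.sub_eq_of_eq_add (by ring)] at hG
        exact Dvd.intro ((2 * t + 1) * (t * t + t)) (by
          show 2 * _ = Nat.card (Matrix.ProjectiveSpecialLinearGroup (Fin 2) F)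
          nlinarith)
      have hm1 := hinv x (htop ▸ Subgroup.mem_top x)
        (by
          have h := pow_orderOf_eq_one x
          rwa [hx, sq] at h)
        (fun e => by rw [e, orderOf_one] at hx; omega)
      exact top_le_iff.1 fun g _ => hneg hm1 g (htop ▸ Subgroup.mem_top _)
    refine ⟨hS', fun ⟨hq9, hl⟩ => ?_⟩
    have hp3 : p = 3 := (Nat.prime_dvd_prime_iff_eq hp Nat.prime_three).1
      (hp.dvd_of_dvd_pow (n := 2) (by rw [show 3 ^ 2 = 9 by norm_num, ← hq9, hn];
                                      exact dvd_pow_self p n.ne_zero))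
    subst hp3
    have := card_closure_le lam hl S hS
    rw [hS', Subgroup.card_top, card_SLtwo, hq9] at this
    norm_num at this
  right
  have hprime : ∀ (L : Subfield F) [Fintype L], Fintype.card L = p → lam ∈ L → Fintype.card F = p := by
    intro L _ hL hl
    have : L = ⊤ := top_le_iff.1 (hgen ▸ Subfield.closure_le.2 (Set.singleton_subset_iff.2 hl))
    subst this
    rw [← hL]
    exact Fintype.card_congr (Equiv.subtypeUnivEquiv (fun x => Subfield.mem_top x)).symm
  obtain ⟨L, _, hL⟩ := exists_prime_subfield p hn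
  have hfull : ∀ (K : Subfield F) (δ : Matrix.ProjGenLinGroup (Fin 2) F) (m : ℕ),
      Nat.card K ^ m = Fintype.card F → H.map Matrix.ProjectiveSpecialLinearGroup.toPGL ≤
        (glMap K).range.map (MulAut.conj δ).toMonoidHom → 2 ≤ m → False := by
    intro K δ m hKq hle hm
    have h1 : (2 + lam) ^ 2 ∈ K := by
      have h := tr_sq_mem hle (g := lower 1 * upper lam) (by rw [map_mul]; exact H.mul_mem ha hb)
      convert h using 1
      simp [tr, Matrix.mul_apply, Fin.sum_univ_two]; ring
    have h3 : (2 + 2 * lam) ^ 2 ∈ K := by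
      have h := tr_sq_mem hle (g := lower 1 * (upper lam * upper lam))
        (by rw [map_mul, map_mul]; exact H.mul_mem ha (H.mul_mem hb hb))
      convert h using 1
      simp [upper_mul, tr, Matrix.mul_apply, Fin.sum_univ_two]; ring
    have h4 : (4 : F) ∈ K := ofNat_mem K 4
    have hl2 : lam ^ 2 ∈ K := by
      have h := K.sub_mem (K.sub_mem h3 (K.add_mem h1 h1)) (neg_mem h4)
      have e : lam ^ 2 = ((2 + 2 * lam) ^ 2 - ((2 + lam) ^ 2 + (2 + lam) ^ 2) - -4) / 2 := by
        field_simp; ring
      rw [e]; exact div_mem h (ofNat_mem K 2)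
    have hl : lam ∈ K := by
      have h := K.sub_mem (K.sub_mem h1 hl2) h4
      have e : lam = ((2 + lam) ^ 2 - lam ^ 2 - 4) / 4 := by
        have : (4 : F) ≠ 0 := by rw [show (4 : F) = 2 * 2 by norm_num]; exact mul_ne_zero h2 h2
        field_simp; ring
      rw [e]; exact div_mem h h4
    have hK : K = ⊤ := top_le_iff.1 (hgen ▸ Subfield.closure_le.2 (Set.singleton_subset_iff.2 hl))
    rw [hK, Nat.card_congr (Equiv.subtypeUnivEquiv (fun x => Subfield.mem_top x)),
      Nat.card_eq_fintype_card] at hKq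
    have h1q := Fintype.one_lt_card (α := F)
    have := Nat.pow_lt_pow_right h1q hm
    rw [pow_one] at *
    nlinarith [Nat.pow_lt_pow_right h1q (show 1 < m by omega)]
  have hord : ∀ {G : Type} [Group G] (e : H ≃* G) (k : ℕ), (e ⟨_, ha⟩) ^ k = 1 → p ∣ k := by
    intro G _ e k hk
    rw [← map_pow, ← map_one e] at hk
    have hk' : proj (lower (1 : F)) ^ k = 1 := congrArg Subtype.val (e.injective hk)
    rw [← orderOf_eq_prime hap (fun e0 => hab (by rw [e0, one_mul, mul_one]))]
    exact orderOf_dvd_of_pow_eq_one hk'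
  have htr : ∀ {G : Type} [Group G] (e : H ≃* G) (g : SLtwo F) (hg : proj g ∈ H) (k : ℕ),
      (e ⟨_, hg⟩) ^ k = 1 → proj g ^ k = 1 := by
    intro G _ e g hg k hk
    rw [← map_pow, ← map_one e] at hk
    exact congrArg Subtype.val (e.injective hk)
  have h4 : p = 2 → 4 ∣ Nat.card H := fun e => absurd e hp2
  rcases dickson p H with h | ⟨A, hA, hn', -⟩ | ⟨x, hx, hx1, h⟩ | h | ⟨K, δ, -, h⟩
  · exfalso
    exact hab (by
      rw [show proj (lower (1 : F)) = 1 by simpa [h] using ha, one_mul, mul_one])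
  · exfalso
    have key : ∀ c : PSLtwo F, c ^ p = 1 → c ≠ 1 → c * c ≠ 1 := fun c hc hc1 e => by
      exact hc1 (orderOf_eq_one_iff.1 (Nat.eq_one_of_dvd_coprimes
        ((Nat.coprime_primes hp Nat.prime_two).2 hp2) (orderOf_dvd_of_pow_eq_one hc)
        (orderOf_dvd_of_pow_eq_one (show c ^ 2 = 1 by rw [sq, e]))))
    exact hab (comm_of_normIn_eq hA hn' ha hb
      (key _ hap fun e => hab (by rw [e, one_mul, mul_one]))
      (key _ hbp fun e => hab (by rw [e, one_mul, mul_one])))
  · exfalso
    exact hab (torus_comm hx1 (mem_torus_of_mem_normalizer p hx hx1 (h ha) hap)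
      (mem_torus_of_mem_normalizer p hx hx1 (h hb) hbp))
  · have hne : proj (lower 1 * upper lam) ≠ 1 := fun e => hab (by
      rw [map_mul] at e
      rw [eq_inv_of_mul_eq_one_left e, mul_inv_cancel, inv_mul_cancel])
    have hmem : proj (lower 1 * upper lam) ∈ H := by rw [map_mul]; exact H.mul_mem ha hb
    have htr1 : tr (lower 1 * upper lam) = 2 + lam := by
      simp [tr, Matrix.mul_apply, Fin.sum_univ_two]; ring
    have hsmallq : ∀ c : ℕ, p = 3 ∨ p = 5 → Fintype.card F = p → Nat.card H = c →
        c * 2 = p * (p ^ 2 - 1) → False := fun c _ hq hc hcp => by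
      refine htop (Subgroup.eq_top_of_card_eq _ ?_)
      rw [hq] at hG
      exact Nat.eq_of_mul_eq_mul_right two_pos ((hc.symm ▸ hcp).trans hG.symm)
    rcases h with ⟨⟨e⟩⟩ | ⟨⟨e⟩⟩ | ⟨⟨e⟩⟩
    · exfalso
      have hp3 : p = 3 := by
        rcases smul9.1 (e ⟨_, ha⟩) with z | z
        · exact absurd ((Nat.prime_dvd_prime_iff_eq hp Nat.prime_two).1 (hord e 2 z)) hp2
        · exact (Nat.prime_dvd_prime_iff_eq hp Nat.prime_three).1 (hord e 3 z)
      have hl : lam ∈ L := by
        rcases smul9.1 (e ⟨_, hmem⟩) with z | z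
        · have := (tr_of_pow hne).1 (by rw [← sq]; exact htr e _ hmem 2 z)
          rw [htr1] at this
          rw [show lam = -2 by linear_combination this]
          exact neg_mem (ofNat_mem L 2)
        · have := (tr_of_pow hne).2.1 (htr e _ hmem 3 z)
          rw [htr1] at this
          rcases mul_self_eq_one_iff.1 this with z' | z'
          · rw [show lam = 1 - 2 by linear_combination z']
            exact sub_mem (one_mem L) (ofNat_mem L 2)
          · rw [show lam = -1 - 2 by linear_combination z']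
            exact sub_mem (neg_mem (one_mem L)) (ofNat_mem L 2)
      refine hsmallq 12 (Or.inl hp3) (hprime L hL hl) ((Nat.card_congr e.toEquiv).trans natCard_A4) ?_
      rw [hp3]; rfl
    · exfalso
      have hp3 : p = 3 := by
        rcases smul9.2.1 (e ⟨_, ha⟩) with z | z
        · exact absurd ((Nat.prime_dvd_prime_iff_eq hp Nat.prime_two).1
            (hp.dvd_of_dvd_pow (n := 2) (hord e (2 ^ 2) z))) hp2
        · exact (Nat.prime_dvd_prime_iff_eq hp Nat.prime_three).1 (hord e 3 z)
      subst hp3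
      let f : H →* ℤˣ := (Equiv.Perm.sign).comp e.toMonoidHom
      have hf : H ≤ f.ker.map H.subtype := by
        conv_lhs => rw [hgenH]
        refine (Subgroup.closure_le _).2 ?_
        rintro x (rfl | rfl)
        · refine ⟨⟨_, ha⟩, smul9.2.2.2 _ ?_, rfl⟩
          show e ⟨_, ha⟩ ^ 3 = 1
          rw [← map_pow, ← map_one e]; exact congrArg e (Subtype.ext hap)
        · refine ⟨⟨_, hb⟩, smul9.2.2.2 _ ?_, rfl⟩
          show e ⟨_, hb⟩ ^ 3 = 1
          rw [← map_pow, ← map_one e]; exact congrArg e (Subtype.ext hbp)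
      obtain ⟨y, hy, ey⟩ := hf (e.symm (Equiv.swap 0 1)).2
      have : y = e.symm (Equiv.swap 0 1) := Subtype.ext ey
      subst this
      have hy' : Equiv.Perm.sign (e (e.symm (Equiv.swap 0 1))) = 1 := hy
      rw [MulEquiv.apply_symm_apply, Equiv.Perm.sign_swap (by decide)] at hy'
      exact absurd hy' (by decide)
    · have hc : Nat.card H = 60 := (Nat.card_congr e.toEquiv).trans natCard_A5
      have hp35 : p = 3 ∨ p = 5 := by
        rcases smul9.2.2.1 (e ⟨_, ha⟩) with z | z | z
        · exact absurd ((Nat.prime_dvd_prime_iff_eq hp Nat.prime_two).1 (hord e 2 z)) hp2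
        · exact Or.inl ((Nat.prime_dvd_prime_iff_eq hp Nat.prime_three).1 (hord e 3 z))
        · exact Or.inr ((Nat.prime_dvd_prime_iff_eq hp Nat.prime_five).1 (hord e 5 z))
      -- the possible traces
      have htraces : ∀ (g : SLtwo F) (hg : proj g ∈ H), proj g ≠ 1 →
          tr g = 0 ∨ tr g * tr g = 1 ∨
            (tr g * tr g + tr g - 1) * (tr g * tr g - tr g - 1) = 0 := by
        intro g hg hg1
        rcases smul9.2.2.1 (e ⟨_, hg⟩) with z | z | z
        · exact Or.inl ((tr_of_pow hg1).1 (by rw [← sq]; exact htr e g hg 2 z))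
        · exact Or.inr (Or.inl ((tr_of_pow hg1).2.1 (htr e g hg 3 z)))
        · exact Or.inr (Or.inr ((tr_of_pow hg1).2.2.2 (htr e g hg 5 z)))
      have hnotL : lam ∉ L := by
        intro hl
        rcases hp35 with h3 | h5
        · have hq := hprime L hL hl
          rw [hq, h3] at hG
          have hd := Subgroup.card_subgroup_dvd_card H
          rw [hc] at hd
          have := Nat.le_of_dvd Nat.card_pos hd
          show False
          rw [show Nat.card (PSLtwo F) = Nat.card (Matrix.ProjectiveSpecialLinearGroup (Fin 2) F)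
            from rfl] at this
          omega
        · refine hsmallq 60 (Or.inr h5) (hprime L hL hl) hc ?_
          rw [h5]; rfl
      have hab2 := htraces _ hmem hne
      rw [htr1] at hab2
      rcases hab2 with z | z | z
      · exact absurd (by rw [show lam = -2 by linear_combination z]; exact neg_mem (ofNat_mem L 2)) hnotL
      · refine absurd ?_ hnotL
        rcases mul_self_eq_one_iff.1 z with z' | z'
        · rw [show lam = 1 - 2 by linear_combination z']; exact sub_mem (one_mem L) (ofNat_mem L 2)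
        · rw [show lam = -1 - 2 by linear_combination z']
          exact sub_mem (neg_mem (one_mem L)) (ofNat_mem L 2)
      rcases hp35 with h3 | h5
      · subst h3
        have t3 : (3 : F) = 0 := by exact_mod_cast CharP.cast_eq_zero F 3
        have hl2 : lam ^ 2 = -1 := by
          rcases mul_eq_zero.1 z with z' | z'
          · exfalso
            have hl : lam * lam = lam + 1 := by linear_combination z' - (2 * lam + 2) * t3
            have hmem2 : proj (lower 1 * (upper lam * upper lam)) ∈ H := by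
              rw [map_mul, map_mul]; exact H.mul_mem ha (H.mul_mem hb hb)
            have ht2 : tr (lower 1 * (upper lam * upper lam)) = 2 + 2 * lam := by
              simp [upper_mul, tr, Matrix.mul_apply, Fin.sum_univ_two]; ring
            have hne2 : proj (lower 1 * (upper lam * upper lam)) ≠ 1 := fun e0 => by
              obtain ⟨-, -, h11⟩ := (mem_center_iff_entries _).1 (proj_eq_one_iff.1 e0)
              simp [upper_mul, Matrix.mul_apply, Fin.sum_univ_two] at h11
              exact hlam ((mul_right_inj' h2).1 (by linear_combination h11))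
            have := htraces _ hmem2 hne2
            rw [ht2] at this
            have tt : (2 + 2 * lam) * (2 + 2 * lam) = 2 := by
              linear_combination 4 * hl + (4 * lam + 2) * t3
            rcases this with w | w | w
            · exact h2 (by linear_combination (2 + 2 * lam) * w - tt)
            · exact one_ne_zero (α := F) (by linear_combination w - tt)
            · rw [tt] at w
              rcases mul_eq_zero.1 w with w' | w'
              · exact one_ne_zero (α := F) (by linear_combination -tt + (2 + 2 * lam - 1) * w')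
              · exact one_ne_zero (α := F) (by linear_combination -tt - (2 + 2 * lam + 1) * w')
          · linear_combination z' - lam * t3
        have hq9 : Fintype.card F = 9 := by
          rcases Nat.lt_or_ge (n : ℕ) 2 with h | h
          · exfalso
            have : (n : ℕ) = 1 := by have := n.pos; omega
            rw [this, pow_one] at hn
            rw [hn] at hG
            have hd := Subgroup.card_subgroup_dvd_card H
            rw [hc] at hd
            have hG' : Nat.card (PSLtwo F) * 2 = 3 * (3 ^ 2 - 1) := hG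
            have := Nat.le_of_dvd Nat.card_pos hd
            omega
          obtain ⟨M, ⟨eM⟩⟩ : ∃ M : Subfield F, Nonempty (lam ^ 9 = lam → lam ∈ M ∧ Nat.card M ≤ 9) := by
            classical
            let M : Subfield F := RingHom.eqLocusField (iterateFrobenius F 3 2) (RingHom.id F)
            refine ⟨M, ⟨fun h9 => ⟨?_, ?_⟩⟩⟩
            · show iterateFrobenius F 3 2 lam = lam
              rw [iterateFrobenius_def]; exact h9
            · have hdeg := FiniteField.X_pow_card_sub_X_natDegree_eq F (show 1 < 9 by norm_num)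
              have hsub : ((Finset.univ : Finset M).map ⟨Subtype.val, Subtype.val_injective⟩).val ≤
                  (Polynomial.X ^ 9 - Polynomial.X : Polynomial F).roots := by
                rw [Multiset.le_iff_subset (Finset.nodup _)]
                intro x hx
                rw [Polynomial.mem_roots (FiniteField.X_pow_card_sub_X_ne_zero F (by norm_num))]
                simp at hx
                have hx' : iterateFrobenius F 3 2 x = x := hx
                rw [iterateFrobenius_def] at hx'
                simp [sub_eq_zero]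
                exact hx'
              have := (Multiset.card_le_card hsub).trans (Polynomial.card_roots' _)
              rw [hdeg, Finset.card_val, Finset.card_map, Finset.card_univ] at this
              rwa [Nat.card_eq_fintype_card]
          obtain ⟨hlM, hM9⟩ := eM (by
            linear_combination (lam ^ 7 - lam ^ 5 + lam ^ 3 - lam) * hl2)
          have hM : M = ⊤ := top_le_iff.1 (hgen ▸ Subfield.closure_le.2 (Set.singleton_subset_iff.2 hlM))
          rw [hM, Nat.card_congr (Equiv.subtypeUnivEquiv (fun x => Subfield.mem_top x)),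
            Nat.card_eq_fintype_card] at hM9
          have : 3 ^ 2 ≤ Fintype.card F := hn ▸ Nat.pow_le_pow_right (by norm_num) h
          omega
        refine ⟨hq9, hl2, ?_⟩
        obtain ⟨a, ha2, ha1⟩ : ∃ a : alternatingGroup (Fin 5), a * a = 1 ∧ a ≠ 1 := by decide +kernel
        have hm1 := hinv ((e.symm a : H) : PSLtwo F) (e.symm a).2
          (by rw [← Subgroup.coe_mul, ← map_mul, ha2, map_one, Subgroup.coe_one])
          (fun e0 => ha1 (by
            have : e.symm a = 1 := Subtype.ext e0
            simpa using congrArg e this))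
        have hS2 : S = H.comap proj := le_antisymm (fun g hg => ⟨g, hg, rfl⟩) (fun g hg => hneg hm1 g hg)
        have hker : Nat.card (proj (F := F)).ker = 2 := by
          rw [show (proj (F := F)).ker = Subgroup.center (SLtwo F) from QuotientGroup.ker_mk' _]
          exact card_center_odd h2
        have hi : S.index = H.index := by
          rw [hS2]; exact Subgroup.index_comap_of_surjective H proj_surjective
        have h1 := Subgroup.index_mul_card S
        have h1' := Subgroup.index_mul_card H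
        rw [hi, card_SLtwo, ← card_PSL_mul] at h1
        rw [Nat.gcd_eq_left (show 2 ∣ Fintype.card F - 1 by omega),
          show Nat.card (Matrix.ProjectiveSpecialLinearGroup (Fin 2) F) = H.index * Nat.card H from
            h1'.symm, hc, mul_assoc] at h1
        exact Nat.eq_of_mul_eq_mul_left (Nat.pos_of_ne_zero Subgroup.index_ne_zero_of_finite) h1
      · subst h5
        refine absurd ?_ hnotL
        have t5 : (5 : F) = 0 := by exact_mod_cast CharP.cast_eq_zero F 5
        rcases mul_eq_zero.1 z with z' | z'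
        · have : lam * lam = 0 := by linear_combination z' - (lam + 1) * t5
          exact absurd (mul_self_eq_zero.1 this) hlam
        · have : (lam + 4) * (lam + 4) = 0 := by linear_combination z' + (lam + 3) * t5
          rw [show lam = -4 by linear_combination mul_self_eq_zero.1 this]
          exact neg_mem (ofNat_mem L 4)
  · exfalso
    have hKq : Nat.card K ^ Module.finrank K F = Fintype.card F := by
      rw [Nat.card_eq_fintype_card]; exact Module.card_eq_pow_finrank.symm
    have hle : H.map Matrix.ProjectiveSpecialLinearGroup.toPGL ≤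
        (glMap K).range.map (MulAut.conj δ).toMonoidHom := by
      rcases h with e | e
      · exact e.le
      · exact e.le.trans (Subgroup.map_mono (slMap_le_glMap K))
    refine hfull K δ _ hKq hle ?_
    by_contra hlt
    have h1 : Module.finrank K F = 1 := by
      have : 0 < Module.finrank K F := Module.finrank_pos
      omega
    rw [h1, pow_one] at hKq
    refine htop (Subgroup.eq_top_of_le_card _ ?_)
    have hinj := Matrix.ProjectiveSpecialLinearGroup.toPGL_injective (n := Fin 2) (R := F)
    rw [card_PSL, ← Subgroup.card_map_of_injective (K := H) hinj]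
    rcases h with h | h <;> rw [h, Subgroup.card_map_of_injective (MulEquiv.injective _)]
    · rw [card_glMap_range', hKq]; exact Nat.div_le_self _ _
    · rw [card_slMap_range, hKq]

end Cfsg.Agent.S0801
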