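import Cfsg.Statements.S2430
import Mathlib
import Cfsg.Agent.Lib.SL2.NormalizerSL
-- import your own Cfsg.Agent.* helpers here

set_option autoImplicit false
open Cfsg

namespace Cfsg.Agent.S2430

open Cfsg.Agent.Lib.SL2

/-- Let F be a finite field with q elements, q odd, ℓ an odd prime, and P a Sylow ℓ-subgroup of SL₂ over F. If ℓ divides q − 1, the centraliser of P is cyclic of order q − 1 (a split torus) and the normaliser of P has order 2(q − 1); if ℓ divides q + 1, the centraliser of P is cyclic of order q + 1 (a non-split torus) and the normaliser of P has order 2(q + 1). -/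
theorem result {F : Type*} [Field F] [Fintype F] (hodd : Odd (Fintype.card F)) (ℓ : ℕ) [Fact ℓ.Prime] (hℓ : ℓ ≠ 2)
    (P : Sylow ℓ (Matrix.SpecialLinearGroup (Fin 2) F)) :
    (ℓ ∣ Fintype.card F - 1 →
      Nat.card (Subgroup.centralizer ((P : Subgroup (Matrix.SpecialLinearGroup (Fin 2) F)) : Set (Matrix.SpecialLinearGroup (Fin 2) F))) = Fintype.card F - 1 ∧
      IsCyclic (Subgroup.centralizer ((P : Subgroup (Matrix.SpecialLinearGroup (Fin 2) F)) : Set (Matrix.SpecialLinearGroup (Fin 2) F))) ∧
      Nat.card (Subgroup.normalizer ((P : Subgroup (Matrix.SpecialLinearGroup (Fin 2) F)) : Set (Matrix.SpecialLinearGroup (Fin 2) F))) = 2 * (Fintype.card F - 1)) ∧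
    (ℓ ∣ Fintype.card F + 1 →
      Nat.card (Subgroup.centralizer ((P : Subgroup (Matrix.SpecialLinearGroup (Fin 2) F)) : Set (Matrix.SpecialLinearGroup (Fin 2) F))) = Fintype.card F + 1 ∧
      IsCyclic (Subgroup.centralizer ((P : Subgroup (Matrix.SpecialLinearGroup (Fin 2) F)) : Set (Matrix.SpecialLinearGroup (Fin 2) F))) ∧
      Nat.card (Subgroup.normalizer ((P : Subgroup (Matrix.SpecialLinearGroup (Fin 2) F)) : Set (Matrix.SpecialLinearGroup (Fin 2) F))) = 2 * (Fintype.card F + 1)) := by
  classical
  have h2 : (2 : F) ≠ 0 := two_ne_zero_iff_odd.2 hodd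
  have hq2 : Fintype.card F % 2 = 1 := Nat.odd_iff.1 hodd
  have hl : ℓ.Prime := Fact.out
  have hl3 : 3 ≤ ℓ := by have := hl.two_le; omega
  -- a general torus whose order carries the whole `ℓ`-part
  have key : ∀ (g : SLtwo F) (c : ℕ), (IsElliptic g ∨ IsSplit g) →
      Nat.card (Subgroup.centralizer ({g} : Set (SLtwo F))) = c →
      IsCyclic (Subgroup.centralizer ({g} : Set (SLtwo F))) → ℓ ∣ c →
      ¬ ℓ ∣ (Subgroup.centralizer ({g} : Set (SLtwo F))).index →
      Nat.card (Subgroup.centralizer ((P : Subgroup (SLtwo F)) : Set (SLtwo F))) = c ∧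
      IsCyclic (Subgroup.centralizer ((P : Subgroup (SLtwo F)) : Set (SLtwo F))) ∧
      Nat.card (Subgroup.normalizer ((P : Subgroup (SLtwo F)) : Set (SLtwo F))) = 2 * c := by
    intro g c hg hc hcyc hlc hnd
    have hgc : g ∉ Subgroup.center (SLtwo F) :=
      hg.elim IsElliptic.notMem_center IsSplit.notMem_center
    set C := Subgroup.centralizer ({g} : Set (SLtwo F)) with hC
    obtain ⟨R⟩ : Nonempty (Sylow ℓ C) := inferInstance
    set Q := (R : Subgroup C).map C.subtype with hQ
    have hQC : Q ≤ C := Subgroup.map_subtype_le _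
    have hQp : IsPGroup ℓ Q := R.isPGroup'.map _
    have hQi : ¬ ℓ ∣ Q.index := by
      rw [Subgroup.index_map_subtype]
      intro h
      rcases hl.dvd_mul.1 h with h | h
      · exact R.not_dvd_index h
      · exact hnd h
    let S : Sylow ℓ (SLtwo F) := hQp.toSylow hQi
    have hSQ : (S : Subgroup (SLtwo F)) = Q := rfl
    -- a non-central element of `Q`
    obtain ⟨y, hy, hyc⟩ : ∃ y ∈ Q, y ∉ Subgroup.center (SLtwo F) := by
      by_contra hcon
      push Not at hcon
      have h1 := Subgroup.card_dvd_of_le (show Q ≤ Subgroup.center (SLtwo F) from hcon)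
      rw [card_center_odd h2] at h1
      have h3 : ℓ ∣ Nat.card Q := by
        have h4 := Subgroup.index_mul_card Q
        have h5 : ℓ ∣ Nat.card (SLtwo F) :=
          hlc.trans (hc ▸ Subgroup.card_subgroup_dvd_card C)
        rw [← h4] at h5
        exact (hl.dvd_mul.1 h5).resolve_left hQi
      have := Nat.le_of_dvd two_pos (h3.trans h1)
      omega
    have hcQ : Subgroup.centralizer ((Q : Subgroup (SLtwo F)) : Set (SLtwo F)) = C := by
      apply le_antisymm
      · rw [hC, ← centralizer_eq_of_mem hgc (hQC hy) hyc]
        exact Subgroup.centralizer_le (Set.singleton_subset_iff.2 hy)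
      · intro x hx
        rw [Subgroup.mem_centralizer_iff]
        exact fun z hz => centralizer_comm hgc (hQC hz) hx
    have hnQ : Subgroup.normalizer ((Q : Subgroup (SLtwo F)) : Set (SLtwo F)) =
        Subgroup.normalizer (C : Set (SLtwo F)) := by
      apply le_antisymm
      · intro n hn
        rw [Subgroup.mem_normalizer_iff]
        intro x
        rw [← hcQ, Subgroup.mem_centralizer_iff, Subgroup.mem_centralizer_iff]
        constructor
        · intro h z hz
          have hz' : n⁻¹ * z * n ∈ Q := by
            have := (Subgroup.mem_normalizer_iff.1 hn (n⁻¹ * z * n)).2 (by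
              rw [show n * (n⁻¹ * z * n) * n⁻¹ = z by group]; exact hz)
            exact this
          have := congrArg (fun w => n * w * n⁻¹) (h _ hz')
          simpa [mul_assoc] using this
        · intro h z hz
          have := congrArg (fun w => n⁻¹ * w * n)
            (h _ ((Subgroup.mem_normalizer_iff.1 hn z).1 hz))
          simpa [mul_assoc] using this
      · -- `Q` is characteristic in the abelian `C`
        have hchar : ∀ x, x ∈ Q ↔ x ∈ C ∧ ∃ k : ℕ, x ^ (ℓ ^ k) = 1 := by
          intro x
          constructor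
          · intro hx
            obtain ⟨k, hk⟩ := hQp ⟨x, hx⟩
            exact ⟨hQC hx, k, congrArg Subtype.val hk⟩
          · rintro ⟨hxC, k, hk⟩
            have hp : IsPGroup ℓ (Subgroup.zpowers x) := by
              obtain ⟨j, -, hj⟩ := (Nat.dvd_prime_pow hl).1 (orderOf_dvd_of_pow_eq_one hk)
              exact IsPGroup.of_card (n := j) (by rw [Nat.card_zpowers, hj])
            have hnorm : Q ≤ Subgroup.normalizer ((Subgroup.zpowers x : Subgroup (SLtwo F)) : Set (SLtwo F)) := by
              intro z hz
              rw [Subgroup.mem_normalizer_iff]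
              intro w
              have hz1 : ∀ w ∈ Subgroup.zpowers x, z * w = w * z := fun w hw =>
                centralizer_comm hgc (hQC hz) (Subgroup.zpowers_le.2 hxC hw)
              constructor
              · intro hw
                rwa [hz1 w hw, mul_inv_cancel_right]
              · intro hw
                have h' := hz1 _ hw
                have : w = z * w * z⁻¹ := by
                  calc w = z⁻¹ * (z * w * z⁻¹ * z) := by group
                    _ = z⁻¹ * (z * (z * w * z⁻¹)) := by rw [← h']
                    _ = z * w * z⁻¹ := by group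
                rwa [this]
            have hsup := IsPGroup.to_sup_of_normal_right' hQp hp hnorm
            exact (S.is_maximal' hsup le_sup_left).le (Subgroup.mem_sup_right (Subgroup.mem_zpowers x))
        intro n hn
        rw [Subgroup.mem_normalizer_iff]
        intro x
        rw [hchar, hchar, Subgroup.mem_normalizer_iff.1 hn x]
        refine and_congr_right fun _ => exists_congr fun k => ?_
        rw [conj_pow, conj_eq_one_iff]
    obtain ⟨γ, hγ⟩ := MulAction.exists_smul_eq (SLtwo F) S P
    have hPQ : (P : Subgroup (SLtwo F)) = Q.map (MulAut.conj γ).toMonoidHom := by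
      rw [← hγ, Sylow.coe_subgroup_smul]; rfl
    have hcP : Subgroup.centralizer ((P : Subgroup (SLtwo F)) : Set (SLtwo F)) =
        C.map (MulAut.conj γ).toMonoidHom := by
      rw [← hcQ, hPQ]
      ext x
      rw [Subgroup.mem_map_equiv, Subgroup.mem_centralizer_iff, Subgroup.mem_centralizer_iff]
      constructor
      · intro h z hz
        apply (MulAut.conj γ).injective
        rw [map_mul, map_mul, MulEquiv.apply_symm_apply]
        exact h _ ⟨z, hz, rfl⟩
      · rintro h _ ⟨z, hz, rfl⟩
        apply (MulAut.conj γ).symm.injective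
        rw [map_mul, map_mul]
        simpa [mul_assoc] using h z hz
    obtain ⟨hNc, -, -⟩ := normalizer_centralizer_facts h2 hg
    refine ⟨?_, ?_, ?_⟩
    · rw [hcP, Subgroup.card_map_of_injective (MulEquiv.injective _), hc]
    · rw [hcP]
      exact isCyclic_of_surjective _ ((MulAut.conj γ).toMonoidHom.subgroupMap_surjective C)
    · rw [hPQ, ← Subgroup.map_equiv_normalizer_eq, Subgroup.card_map_of_injective
        (MulEquiv.injective _), hnQ, hNc, hc]
  have hcard := card_SLtwo (F := F)
  have hq1 : 1 < Fintype.card F := Fintype.one_lt_card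
  have hsq : Fintype.card F ^ 2 - 1 = (Fintype.card F - 1) * (Fintype.card F + 1) := by
    rw [mul_comm, ← Nat.sq_sub_sq, one_pow]
  have hnotq : ∀ a, ℓ ∣ a → (a = Fintype.card F - 1 ∨ a = Fintype.card F + 1) →
      ¬ ℓ ∣ Fintype.card F := by
    intro a ha hor hd
    rcases hor with rfl | rfl
    · have := Nat.dvd_sub hd ha
      rw [show Fintype.card F - (Fintype.card F - 1) = 1 by omega] at this
      exact hl.not_dvd_one this
    · exact hl.not_dvd_one ((Nat.dvd_add_right hd).1 ha)
  have hboth : ¬ (ℓ ∣ Fintype.card F - 1 ∧ ℓ ∣ Fintype.card F + 1) := by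
    rintro ⟨h1, h3⟩
    have := Nat.dvd_sub h3 h1
    rw [show Fintype.card F + 1 - (Fintype.card F - 1) = 2 by omega] at this
    have := Nat.le_of_dvd two_pos this
    omega
  constructor
  · intro hd
    have h4 : 4 ≤ Fintype.card F := by
      have := Nat.le_of_dvd (by omega) hd
      omega
    obtain ⟨g, hg⟩ := exists_split h4
    refine key g _ (Or.inr hg) (card_centralizer_split hg) (isCyclic_centralizer_split hg) hd ?_
    have hi := Subgroup.index_mul_card (Subgroup.centralizer ({g} : Set (SLtwo F)))
    rw [card_centralizer_split hg, hcard, hsq, ← mul_assoc, mul_right_comm] at hi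
    have hi' := Nat.eq_of_mul_eq_mul_right (by omega) hi
    rw [hi']
    intro h
    exact (hl.dvd_mul.1 h).elim (hnotq _ hd (Or.inl rfl)) (fun h' => hboth ⟨hd, h'⟩)
  · intro hd
    obtain ⟨g, hg⟩ := exists_elliptic (F := F)
    refine key g _ (Or.inl hg) (card_centralizer_elliptic hg) (isCyclic_centralizer_elliptic hg) hd ?_
    have hi := Subgroup.index_mul_card (Subgroup.centralizer ({g} : Set (SLtwo F)))
    rw [card_centralizer_elliptic hg, hcard, hsq, ← mul_assoc] at hi
    have hi' := Nat.eq_of_mul_eq_mul_right (by omega) hi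
    rw [hi']
    intro h
    exact (hl.dvd_mul.1 h).elim (hnotq _ hd (Or.inr rfl)) (fun h' => hboth ⟨h', hd⟩)

end Cfsg.Agent.S2430
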