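import Cfsg.Statements.S3341
import Cfsg.Agent.Lib.ThreeSelfCentral.Main
import Cfsg.Agent.S0497

set_option autoImplicit false
open Cfsg

namespace Cfsg.Agent.S3341

/-- Let G be a finite simple group whose Sylow 3-subgroup S is elementary abelian of order 9, such that G has more than one conjugacy class of elements of order 3 and C_G(s) = S for every non-identity s in S. Then G is isomorphic to the alternating group of degree 6. -/
theorem result {G : Type*} [Group G] [Finite G] [IsSimpleGroup G]
    (P : Sylow 3 G) (S : Subgroup G) (hSP : S = P) (hcomm : IsMulCommutative S) (hexp : ∀ a ∈ S, a ^ 3 = 1)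
    (hcard : Nat.card S = 9)
    (hclasses : ∃ a b : G, orderOf a = 3 ∧ orderOf b = 3 ∧ ∀ g : G, g * a * g⁻¹ ≠ b)
    (hcent : ∀ s ∈ S, s ≠ 1 → Subgroup.centralizer ({s} : Set G) = S) :
    Nonempty (G ≃* alternatingGroup (Fin 6)) := by
  have h : Cfsg.Agent.Lib.ThreeSelfCentral.Data P := by
    subst hSP
    exact ⟨hexp, fun a ha b hb => congrArg Subtype.val (mul_comm' (⟨a, ha⟩ : (P : Subgroup G)) ⟨b, hb⟩),
      hcard, hcent⟩
  haveI := Fintype.ofFinite G
  obtain ⟨a, b, ha, hb, hab⟩ := hclasses
  rcases Cfsg.Agent.Lib.ThreeSelfCentral.card_group h ⟨a, b, ha, hb, fun e => by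
    obtain ⟨g, hg⟩ := isConj_iff.1 e; exact hab g hg⟩ with e | e
  · exact Cfsg.Agent.S0497.result e
  · exfalso
    haveI : Fact (Nat.Prime 19) := ⟨by norm_num⟩
    have hG : ¬ IsMulCommutative G :=
      Cfsg.Agent.Lib.SmallGroups.not_isMulCommutative_of_not_prime (by rw [e]; norm_num)
    have hn := Cfsg.Agent.Lib.SmallGroups.card_sylow_mem hG (p := 19) (k := 1) (m := 36)
      (by rw [e]; norm_num) (by norm_num) (by norm_num)
    rw [show (Nat.divisors 36).filter (fun d => d % 19 = 1 ∧ d ≠ 1) = ∅ by decide +kernel] at hn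
    exact absurd hn (Finset.notMem_empty _)

end Cfsg.Agent.S3341
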