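import Cfsg.Statements.S0132
import Mathlib
import Cfsg.Agent.Lib.Transfer.Criteria

set_option autoImplicit false
open Cfsg

namespace Cfsg.Agent.S0132

/-- In a nilpotent group elements of coprime order commute. -/
theorem commute_of_nilpotent {G : Type*} [Group G] (hn : Group.IsNilpotent G) :
    ∀ q y : G, (orderOf q).Coprime (orderOf y) → Commute q y := by
  refine Group.nilpotent_center_quotient_ind (P := fun H _ _ => ∀ q y : H,
    (orderOf q).Coprime (orderOf y) → Commute q y) G (fun H _ _ q y _ => Subsingleton.elim _ _)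
    (fun G _ _ ih => ?_)
  · intro q y h
    have hquot := ih (QuotientGroup.mk' (Subgroup.center G) q)
      (QuotientGroup.mk' (Subgroup.center G) y)
      ((h.coprime_dvd_left (orderOf_map_dvd _ q)).coprime_dvd_right (orderOf_map_dvd _ y))
    set c := q * y * q⁻¹ * y⁻¹ with hc
    have hcZ : c ∈ Subgroup.center G := by
      rw [← QuotientGroup.eq_one_iff, ← QuotientGroup.mk'_apply, hc, map_mul, map_mul, map_mul,
        map_inv, map_inv, hquot.eq]
      group
    have hcy : c ^ orderOf y = 1 := by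
      have e : q * y * q⁻¹ = c * y := by rw [hc]; group
      have := congrArg (fun z => z ^ orderOf y) e
      simp only [conj_pow, pow_orderOf_eq_one, mul_one, mul_inv_cancel] at this
      rw [(Commute.symm (Subgroup.mem_center_iff.1 hcZ y)).mul_pow, pow_orderOf_eq_one,
        mul_one] at this
      exact this.symm
    have hcq : c⁻¹ ^ orderOf q = 1 := by
      have e : y * q * y⁻¹ = c⁻¹ * q := by rw [hc]; group
      have := congrArg (fun z => z ^ orderOf q) e
      simp only [conj_pow, pow_orderOf_eq_one, mul_one, mul_inv_cancel] at this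
      rw [(Commute.symm (Subgroup.mem_center_iff.1 (inv_mem hcZ) q)).mul_pow, pow_orderOf_eq_one,
        mul_one] at this
      exact this.symm
    rw [inv_pow, inv_eq_one] at hcq
    have hc1 : c = 1 := orderOf_eq_one_iff.1 (Nat.eq_one_of_dvd_coprimes h
      (orderOf_dvd_of_pow_eq_one hcq) (orderOf_dvd_of_pow_eq_one hcy))
    exact mul_inv_eq_iff_eq_mul.1 (mul_inv_eq_one.1 (hc ▸ hc1))

/-- A minimal non-p-nilpotent finite group is a minimal non-nilpotent group with a normal Sylow p-subgroup. -/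
theorem result {G : Type*} [Group G] [Finite G] {p : ℕ} [Fact p.Prime] (h1 : ¬ Cfsg.HasNormalPComplement p G) (h2 : ∀ H : Subgroup G, H ≠ ⊤ → Cfsg.HasNormalPComplement p H) : (∀ H : Subgroup G, H ≠ ⊤ → Group.IsNilpotent H) ∧ ¬ Group.IsNilpotent G ∧ ∀ P : Sylow p G, (P : Subgroup G).Normal := by
  classical
  have hp : p.Prime := Fact.out
  obtain ⟨Q, hQ, y, hyN, hyo, hyC⟩ : ∃ Q : Subgroup G, IsPGroup p Q ∧ ∃ y ∈ Subgroup.normalizer (Q : Set G),
      (orderOf y).Coprime p ∧ y ∉ Subgroup.centralizer (Q : Set G) := by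
    by_contra h
    apply h1
    rw [Lib.Transfer.hasNormalPComplement_iff_locallyPTrivial]
    intro Q hQ g hg hgo
    by_contra hgC
    exact h ⟨Q, hQ, g, hg, hgo, hgC⟩
  have hzn : Subgroup.zpowers y ≤ Subgroup.normalizer (Q : Set G) := Subgroup.zpowers_le.2 hyN
  -- `G = Q ⋊ ⟨y⟩`
  have htop : Q ⊔ Subgroup.zpowers y = ⊤ := by
    by_contra hne
    have hnpc := h2 _ hne
    have hloc := Lib.Transfer.hasNormalPComplement_iff_locallyPTrivial.1 hnpc
    set M := Q ⊔ Subgroup.zpowers y
    have hQM : Q ≤ M := le_sup_left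
    have hyM : y ∈ M := Subgroup.mem_sup_right (Subgroup.mem_zpowers y)
    have := hloc (Q.subgroupOf M) (IsPGroup.of_equiv hQ (Subgroup.subgroupOfEquivOfLe hQM).symm)
      ⟨y, hyM⟩ (by
        rw [Subgroup.mem_normalizer_iff]
        intro m
        simp only [Subgroup.mem_subgroupOf, Subgroup.coe_mul, Subgroup.coe_inv]
        exact Subgroup.mem_normalizer_iff.1 hyN m) (by rwa [Subgroup.orderOf_mk])
    apply hyC
    rw [Subgroup.mem_centralizer_iff]
    intro q hq
    exact congrArg Subtype.val (Subgroup.mem_centralizer_iff.1 this ⟨q, hQM hq⟩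
      (Subgroup.mem_subgroupOf.2 hq))
  have hQn : Q.Normal := by
    rw [← Subgroup.normalizer_eq_top_iff, ← top_le_iff, ← htop]
    exact sup_le Subgroup.le_normalizer hzn
  set π := QuotientGroup.mk' Q with hπ
  have hgen : ∀ g : G, π g ∈ Subgroup.zpowers (π y) := by
    intro g
    have hg : g ∈ Q ⊔ Subgroup.zpowers y := by rw [htop]; exact Subgroup.mem_top g
    obtain ⟨q, hq, z, ⟨i, rfl⟩, rfl⟩ := Subgroup.mem_sup_of_normal_left.1 hg
    refine ⟨i, ?_⟩
    show (π y) ^ i = π (q * y ^ i)
    rw [map_mul, map_zpow, show π q = 1 from (QuotientGroup.eq_one_iff q).2 hq, one_mul]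
  have hidx : ¬ p ∣ Q.index := by
    intro hd
    have h1' : Q.index = Nat.card (Subgroup.zpowers (π y)) := by
      rw [(Subgroup.eq_top_iff' (Subgroup.zpowers (π y))).2 (fun x => by
        obtain ⟨g, rfl⟩ := QuotientGroup.mk'_surjective Q x
        exact hgen g), Subgroup.card_top]
      rfl
    rw [h1', Nat.card_zpowers] at hd
    exact hp.coprime_iff_not_dvd.1 hyo.symm (hd.trans (orderOf_map_dvd π y))
  have hSyl : ∀ P : Sylow p G, (P : Subgroup G) = Q := by
    intro P
    have hle : Q ≤ (P : Subgroup G) := hQ.le_sylow_of_normal P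
    refine le_antisymm (fun g hg => ?_) hle
    by_contra hgQ
    have hdvd : Q.relIndex (P : Subgroup G) ∣ Q.index := Subgroup.relIndex_dvd_index_of_normal _ _
    obtain ⟨k, hk⟩ := IsPGroup.iff_card.1 P.2
    have h' : Q.relIndex (P : Subgroup G) ∣ p ^ k := hk ▸ Subgroup.relIndex_dvd_card _ _
    obtain ⟨j, -, hj⟩ := (Nat.dvd_prime_pow hp).1 h'
    cases j with
    | zero => rw [pow_zero] at hj; exact hgQ (Subgroup.relIndex_eq_one.1 hj hg)
    | succ j => exact hidx ((dvd_pow_self p j.succ_ne_zero).trans (hj ▸ hdvd))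
  refine ⟨fun H hH => ?_, fun hnil => ?_, fun P => hSyl P ▸ hQn⟩
  · -- proper subgroups are nilpotent
    obtain ⟨S, N, hN, hNS⟩ := h2 H hH
    have hNp := Lib.Transfer.not_dvd_card_of_isComplement' S N hNS
    have hNQ : ∀ n : N, ((n : H) : G) ∈ Q → n = 1 := by
      intro n hn
      obtain ⟨k, hk⟩ := hQ ⟨_, hn⟩
      have hk' : n ^ p ^ k = 1 := Subtype.ext (Subtype.ext (by
        simpa using congrArg Subtype.val hk))
      exact orderOf_eq_one_iff.1 (Nat.eq_one_of_dvd_coprimes
        ((hp.coprime_iff_not_dvd.2 hNp).pow_left k) (orderOf_dvd_of_pow_eq_one hk')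
        (orderOf_dvd_natCard n))
    have hcen : (QuotientGroup.mk' N).ker ≤ Subgroup.center H := by
      rw [QuotientGroup.ker_mk']
      intro n hn
      rw [Subgroup.mem_center_iff]
      intro h
      have hmem : h * n * h⁻¹ * n⁻¹ ∈ N := mul_mem (hN.conj_mem n hn h) (inv_mem hn)
      have hQ' : ((h * n * h⁻¹ * n⁻¹ : H) : G) ∈ Q := by
        rw [← QuotientGroup.eq_one_iff]
        change π _ = 1
        obtain ⟨i, hi⟩ := hgen (h : G)
        obtain ⟨j, hj⟩ := hgen (n : G)
        simp only [Subgroup.coe_mul, Subgroup.coe_inv, map_mul, map_inv, ← hi, ← hj]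
        group
      have := congrArg Subtype.val (hNQ ⟨_, hmem⟩ hQ')
      exact mul_inv_eq_iff_eq_mul.1 (mul_inv_eq_one.1 this)
    haveI : Group.IsNilpotent (H ⧸ N) :=
      (Lib.Transfer.isPGroup_quotient_of_isComplement' S N hNS).isNilpotent
    exact Subgroup.isNilpotent_of_ker_le_center _ hcen
  · -- in a nilpotent group elements of coprime order commute
    apply hyC
    rw [Subgroup.mem_centralizer_iff]
    intro q hq
    obtain ⟨k, hk⟩ := hQ ⟨q, hq⟩
    have hqo : (orderOf q) ∣ p ^ k := orderOf_dvd_of_pow_eq_one (congrArg Subtype.val hk)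
    exact (commute_of_nilpotent hnil q y
      (Nat.Coprime.coprime_dvd_left hqo (hyo.symm.pow_left k))).eq

end Cfsg.Agent.S0132
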