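import Cfsg.Statements.S2395
import Mathlib

set_option autoImplicit false
open Cfsg

namespace Cfsg.Agent.S2395

open Cfsg.Lie

/-- One deduction step: the roots whose generators die in the abelianization, by the relator of the pair `w`. -/
def step (D : ChevalleyDatum) (x : Bool) (L : List ℕ) (w : ℕ × ℕ) : List ℕ :=
  if w.1 < D.nroots ∧ w.2 < D.nroots ∧ w.2 ≠ w.1 ∧ w.2 ≠ D.neg w.1 then
    match (D.commTerms w.1 w.2).filter (fun c => decide (c.1 ∉ L)) with
    | [(k, c, 1, 1)] => if c = 1 ∨ c = -1 then [k] else []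
    | [(k, c, 1, 1), (k', c', 1, 2)] =>
        if x = true ∧ (c = 1 ∨ c = -1) ∧ (c' = 1 ∨ c' = -1) then [k, k'] else []
    | _ => []
  else []

def round (D : ChevalleyDatum) (x : Bool) (L : List ℕ) (ws : List (ℕ × ℕ)) : List ℕ :=
  L ++ ws.flatMap (step D x L)

def cert (D : ChevalleyDatum) (x : Bool) (w1 w2 : List (ℕ × ℕ)) : Bool :=
  (List.range D.nroots).all fun k => decide (k ∈ round D x (round D x [] w1) w2)

variable {K : Type*} [Field K]

theorem step_sound (D : ChevalleyDatum) (x : Bool) (hx : x = true → ∃ e : K, e ≠ 0 ∧ e ≠ 1)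
    {M : Type*} [AddCommGroup M] (f : ℕ → K →+ M)
    (hf : ∀ r s : ℕ, r < D.nroots → s < D.nroots → s ≠ r → s ≠ D.neg r → ∀ t u : K,
      ((D.commTerms r s).map fun c => f c.1 ((c.2.1 : K) * (-t) ^ c.2.2.1 * u ^ c.2.2.2)).sum = 0)
    (L : List ℕ) (hL : ∀ k ∈ L, f k = 0) (w : ℕ × ℕ) : ∀ k ∈ step D x L w, f k = 0 := by
  intro k hk
  unfold step at hk
  split_ifs at hk with hw
  swap; · simp at hk
  obtain ⟨h1, h2, h3, h4⟩ := hw
  have key : ∀ t u : K, (((D.commTerms w.1 w.2).filter (fun c => decide (c.1 ∉ L))).map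
      fun c => f c.1 ((c.2.1 : K) * (-t) ^ c.2.2.1 * u ^ c.2.2.2)).sum = 0 := by
    intro t u
    rw [← hf w.1 w.2 h1 h2 h3 h4 t u]
    generalize D.commTerms w.1 w.2 = l
    induction l with
    | nil => rfl
    | cons c l ih =>
      by_cases hc : c.1 ∈ L
      · rw [List.filter_cons_of_neg (by simpa using hc), List.map_cons, List.sum_cons, hL _ hc,
          AddMonoidHom.zero_apply, zero_add, ih]
      · rw [List.filter_cons_of_pos (by simpa using hc), List.map_cons, List.map_cons, List.sum_cons,
          List.sum_cons, ih]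
  split at hk
  · rename_i j c heq
    rw [heq] at key
    split_ifs at hk with hc
    swap; · simp at hk
    obtain rfl : k = j := by simpa using hk
    refine AddMonoidHom.ext fun a => ?_
    rcases hc with rfl | rfl
    · simpa using key (-a) 1
    · simpa using key a 1
  · rename_i j c j' c' heq
    rw [heq] at key
    split_ifs at hk with hc
    swap; · simp at hk
    obtain ⟨hx', hc, hc'⟩ := hc
    obtain ⟨e, he0, he1⟩ := hx hx'
    have hc0 : (c : K) ≠ 0 := by rcases hc with rfl | rfl <;> simp
    have hc0' : (c' : K) ≠ 0 := by rcases hc' with rfl | rfl <;> simp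
    have key' : ∀ t u : K, f j ((c : K) * -t * u) + f j' ((c' : K) * -t * u ^ 2) = 0 := fun t u => by
      simpa using key t u
    have hj' : f j' = 0 := by
      refine AddMonoidHom.ext fun a => ?_
      have e2 : e - 1 ≠ 0 := sub_ne_zero.2 he1
      have h5' := key' (-(a / e) / ((c' : K) * (e - 1))) e
      have h6' := key' (-(a / e) / ((c' : K) * (e - 1)) * e) 1
      have h7' : (c : K) * -(-(a / e) / ((c' : K) * (e - 1)) * e) * 1 =
          (c : K) * -(-(a / e) / ((c' : K) * (e - 1))) * e := by ring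
      rw [h7'] at h6'
      have h8' := sub_eq_zero.2 (h5'.trans h6'.symm)
      rw [add_sub_add_left_eq_sub, ← map_sub] at h8'
      have h9' : (c' : K) * -(-(a / e) / ((c' : K) * (e - 1))) * e ^ 2
          - (c' : K) * -(-(a / e) / ((c' : K) * (e - 1)) * e) * 1 ^ 2 = a := by field_simp
      rwa [h9'] at h8'
    have hj : f j = 0 := by
      refine AddMonoidHom.ext fun a => ?_
      have h5 := key' (-a / (c : K)) 1
      have h7 : (c : K) * -(-a / (c : K)) * 1 = a := by field_simp
      rw [hj', AddMonoidHom.zero_apply, add_zero, h7] at h5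
      simpa using h5
    rcases List.mem_cons.1 hk with rfl | hk
    · exact hj
    · obtain rfl : k = j' := by simpa using hk
      exact hj'
  · simp at hk

theorem perfect_of_cert (D : ChevalleyDatum) (x : Bool) (hx : x = true → ∃ e : K, e ≠ 0 ∧ e ≠ 1)
    (w1 w2 : List (ℕ × ℕ)) (h : cert D x w1 w2 = true) : commutator (D.SteinbergCover K) = ⊤ := by
  let mk : FreeGroup (Fin D.nroots × K) →* Abelianization (D.SteinbergCover K) :=
    Abelianization.of.comp (PresentedGroup.mk (D.steinbergRelsAB K))
  have hrel : ∀ g ∈ D.steinbergRelsAB K, mk g = 1 := fun g hg => by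
    simp [mk, PresentedGroup.one_of_mem hg]
  have hadd : ∀ r : ℕ, ∀ a b : K, mk (D.stX r (a + b)) = mk (D.stX r a) * mk (D.stX r b) := fun r a b => by
    by_cases hr : r < D.nroots
    · have := hrel _ (Or.inl ⟨r, a, b, hr, rfl⟩)
      rw [map_mul, map_mul, map_inv, mul_inv_eq_one] at this
      exact this.symm
    · simp [ChevalleyDatum.stX, hr]
  let f : ℕ → K →+ Additive (Abelianization (D.SteinbergCover K)) := fun r =>
    AddMonoidHom.mk' (fun a => Additive.ofMul (mk (D.stX r a))) fun a b => by rw [hadd]; rfl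
  have hf : ∀ r s : ℕ, r < D.nroots → s < D.nroots → s ≠ r → s ≠ D.neg r → ∀ t u : K,
      ((D.commTerms r s).map fun c => f c.1 ((c.2.1 : K) * (-t) ^ c.2.2.1 * u ^ c.2.2.2)).sum = 0 := by
    intro r s hr hs h1 h2 t u
    have := hrel _ (Or.inr ⟨r, s, t, u, hr, hs, h1, h2, rfl⟩)
    rw [map_mul, map_inv, map_mul, map_mul, map_mul, map_inv, map_inv, mul_inv_eq_one] at this
    have h3 : mk (D.stWord (D.commWord K r s t u)) = 1 := by
      rw [← this, mul_assoc, mul_comm (mk (D.stX s u)) (mk (D.stX r t)), ← mul_assoc]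
      simp
    rw [ChevalleyDatum.stWord, ChevalleyDatum.commWord, List.map_map, map_list_prod, List.map_map] at h3
    have h4 := congrArg Additive.ofMul h3
    rw [ofMul_list_prod, List.map_map] at h4
    simpa [f, Function.comp_def] using h4
  have h0 : ∀ L, (∀ k ∈ L, f k = 0) → ∀ ws, ∀ k ∈ round D x L ws, f k = 0 := by
    intro L hL ws k hk
    rcases List.mem_append.1 hk with hk | hk
    · exact hL k hk
    · obtain ⟨w, -, hw⟩ := List.mem_flatMap.1 hk
      exact step_sound D x hx f hf L hL w k hw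
  have hall : ∀ k < D.nroots, f k = 0 := fun k hk =>
    h0 _ (h0 [] (by simp) w1) w2 k (of_decide_eq_true (List.all_eq_true.1 h k (List.mem_range.2 hk)))
  have hmk : mk = 1 := by
    refine FreeGroup.ext_hom _ _ fun p => ?_
    have := congrArg (fun g : K →+ _ => Additive.toMul (g p.2)) (hall p.1 p.1.isLt)
    simpa [f, ChevalleyDatum.stX] using this
  rw [← Abelianization.ker_of, eq_top_iff]
  intro g _
  obtain ⟨a, rfl⟩ := PresentedGroup.mk_surjective (D.steinbergRelsAB K) g
  exact DFunLike.congr_fun hmk a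

theorem certG2 : cert Cfsg.Lie.chevG2 true
    [(0, 6), (0, 10), (1, 5), (1, 11), (5, 11), (6, 10)]
    [(0, 8), (0, 9), (1, 9), (5, 8)] = true := by decide +kernel

theorem certB2 : cert Cfsg.Lie.chevB2 true
    [(0, 5), (0, 6), (3, 2), (3, 6), (4, 5)]
    [] = true := by decide +kernel

theorem certD4 : cert Cfsg.Lie.chevD4 false
    [(0, 14), (0, 15), (0, 16), (0, 17), (0, 19), (0, 20), (0, 21), (0, 22), (1, 9), (1, 17), (1, 20), (1, 21), (1, 23), (2, 22), (2, 23), (3, 22), (3, 23), (4, 23), (6, 22), (6, 23), (7, 23), (8, 23), (9, 23), (14, 22)]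
    [] = true := by decide +kernel

theorem certF4 : cert Cfsg.Lie.chevF4 false
    [(0, 24), (0, 26), (0, 31), (0, 32), (0, 42), (0, 43), (0, 45), (0, 46), (1, 23), (1, 32), (1, 43), (1, 45), (1, 47), (2, 46), (2, 47), (3, 33), (3, 34), (3, 35), (3, 36), (3, 37), (3, 38), (3, 39), (3, 40), (4, 46), (4, 47), (5, 47), (7, 14), (7, 37), (7, 38), (7, 39), (7, 44), (8, 40), (8, 44), (9, 40), (9, 44), (10, 40), (10, 44), (11, 44), (12, 44), (13, 44), (14, 44), (15, 46), (15, 47), (16, 47), (21, 47), (23, 47), (24, 46), (33, 40)]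
    [] = true := by decide +kernel

theorem certE6 : cert Cfsg.Lie.chevE6 false
    [(0, 46), (0, 47), (0, 48), (0, 49), (0, 50), (0, 51), (0, 52), (0, 53), (0, 54), (0, 55), (0, 61), (0, 62), (0, 63), (0, 64), (0, 65), (0, 66), (0, 67), (0, 68), (0, 69), (0, 70), (1, 25), (1, 53), (1, 54), (1, 55), (1, 64), (1, 65), (1, 66), (1, 67), (1, 68), (1, 69), (1, 71), (2, 55), (2, 66), (2, 67), (2, 68), (2, 70), (2, 71), (3, 67), (3, 69), (3, 70), (3, 71), (4, 68), (4, 69), (4, 70), (4, 71), (5, 55), (5, 69), (5, 70), (5, 71), (6, 70), (6, 71), (7, 70), (7, 71), (8, 71), (9, 71), (10, 71), (16, 66), (16, 69), (16, 70), (16, 71), (17, 70), (17, 71), (18, 70), (18, 71), (19, 71), (20, 71), (21, 71), (22, 71), (23, 71), (24, 71), (25, 71), (46, 70)]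
    [] = true := by decide +kernel

theorem certE7 : cert Cfsg.Lie.chevE7 false
    [(0, 93), (0, 94), (0, 95), (0, 96), (0, 97), (0, 98), (0, 99), (0, 100), (0, 101), (0, 102), (0, 103), (0, 104), (0, 105), (0, 106), (0, 107), (0, 108), (0, 109), (0, 110), (0, 111), (0, 112), (0, 113), (0, 114), (0, 115), (0, 116), (0, 117), (0, 118), (0, 119), (0, 120), (0, 121), (0, 122), (0, 123), (0, 124), (1, 32), (1, 109), (1, 110), (1, 111), (1, 112), (1, 113), (1, 114), (1, 115), (1, 116), (1, 117), (1, 118), (1, 119), (1, 120), (1, 121), (1, 122), (1, 123), (1, 125), (2, 115), (2, 116), (2, 117), (2, 118), (2, 119), (2, 120), (2, 121), (2, 122), (2, 124), (2, 125), (3, 118), (3, 119), (3, 120), (3, 121), (3, 123), (3, 124), (3, 125), (4, 119), (4, 120), (4, 122), (4, 123), (4, 124), (4, 125), (5, 119), (5, 121), (5, 122), (5, 123), (5, 124), (5, 125), (6, 120), (6, 121), (6, 122), (6, 123), (6, 124), (6, 125), (7, 122), (7, 123), (7, 124), (7, 125), (8, 123), (8, 124), (8, 125), (9, 123), (9, 124), (9, 125),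 (10, 123), (10, 124), (10, 125), (11, 124), (11, 125), (12, 124), (12, 125), (13, 124), (13, 125), (14, 124), (14, 125), (15, 124), (15, 125), (16, 124), (16, 125), (17, 125), (18, 125), (19, 125), (20, 125), (21, 125), (22, 125), (23, 125), (24, 125), (25, 125), (26, 125), (27, 125), (28, 125), (29, 125), (30, 125), (31, 125), (32, 125), (93, 124)]
    [] = true := by decide +kernel

theorem certE8 : cert Cfsg.Lie.chevE8 false
    [(0, 120), (0, 122), (0, 125), (0, 129), (0, 134), (0, 140), (0, 146), (0, 151), (0, 155), (0, 158), (0, 160), (0, 161), (0, 168), (0, 173), (0, 177), (0, 180), (0, 182), (0, 183), (0, 187), (0, 190), (0, 192), (0, 193), (0, 196), (0, 198), (0, 199), (0, 201), (0, 202), (0, 203), (0, 206), (0, 208), (0, 209), (0, 211), (0, 212), (0, 213), (0, 215), (0, 216), (0, 217), (0, 218), (0, 220), (0, 221), (0, 222), (0, 223), (0, 224), (0, 225), (0, 227), (0, 228), (0, 229), (0, 230), (0, 231), (0, 232), (0, 233), (0, 234), (0, 235), (0, 236), (0, 237), (0, 238), (1, 119), (1, 161),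 (1, 183), (1, 193), (1, 199), (1, 202), (1, 203), (1, 209), (1, 212), (1, 213), (1, 216), (1, 217), (1, 218), (1, 221), (1, 222), (1, 223), (1, 224), (1, 225), (1, 228), (1, 229), (1, 230), (1, 231), (1, 232), (1, 233), (1, 234), (1, 235), (1, 236), (1, 237), (1, 239), (2, 203), (2, 213), (2, 217), (2, 218), (2, 222), (2, 223), (2, 224), (2, 225), (2, 229), (2, 230), (2, 231), (2, 232), (2, 233), (2, 234), (2, 235), (2, 236), (2, 238), (2, 239), (3, 218), (3, 223), (3, 224), (3, 225), (3, 230), (3, 231), (3, 232), (3, 233), (3, 234), (3, 235), (3, 237), (3, 238), (3, 239), (4, 224), (4, 225), (4, 231), (4, 232), (4, 233), (4, 234), (4, 236), (4, 237), (4, 238), (4, 239), (5, 225), (5, 232), (5, 233), (5, 235), (5, 236), (5, 237), (5, 238), (5, 239), (6, 225), (6, 234), (6, 235), (6, 236), (6, 237), (6, 238), (6, 239), (7, 234), (7, 235), (7, 236), (7, 237), (7, 238), (7, 239), (8, 235), (8, 236), (8, 237), (8, 238), (8, 239), (9, 236), (9, 237), (9, 238), (9, 239), (10, 237), (10, 238), (10, 239), (11,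 238), (11, 239), (12, 239), (14, 233), (14, 234), (14, 235), (14, 236), (14, 237), (14, 238), (14, 239), (15, 235), (15, 236), (15, 237), (15, 238), (15, 239), (16, 236), (16, 237), (16, 238), (16, 239), (17, 237), (17, 238), (17, 239), (18, 238), (18, 239), (19, 239), (21, 236), (21, 237), (21, 238), (21, 239), (22, 237), (22, 238), (22, 239), (23, 238), (23, 239), (24, 239), (26, 237), (26, 238), (26, 239), (27, 238), (27, 239), (28, 239), (30, 238), (30, 239), (31, 239), (33, 239), (36, 237), (36, 238), (36, 239), (37, 238), (37, 239), (38, 239), (40, 238), (40, 239), (41, 239), (43, 239), (46, 238), (46, 239), (47, 239), (49, 239), (52, 239), (56, 238), (56, 239), (57, 239), (59, 239), (62, 239), (66, 239), (71, 239), (78, 238), (78, 239), (79, 239), (81, 239), (84, 239), (88, 239), (93, 239), (99, 239), (105, 239), (110, 239), (114, 239), (117, 239), (119, 239), (120, 238)]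
    [] = true := by decide +kernel

/-- The group presented by Steinberg's generators x̄_r(t) subject only to (R1) (additivity) and (R2) (the commutator formula) is perfect, for each of the types G₂, B₂, D₄, F₄, E₆, E₇, E₈ over any field (for types B₂ and G₂ the field must have more than two elements — the cases where the Chevalley group is not simple are set aside). -/
theorem result {K : Type*} [Field K] (D : Cfsg.Lie.ChevalleyDatum) (hD : D ∈ [Cfsg.Lie.chevG2, Cfsg.Lie.chevB2, Cfsg.Lie.chevD4, Cfsg.Lie.chevF4, Cfsg.Lie.chevE6, Cfsg.Lie.chevE7, Cfsg.Lie.chevE8]) (hK : D ∈ [Cfsg.Lie.chevB2, Cfsg.Lie.chevG2] → ∃ x : K, x ≠ 0 ∧ x ≠ 1) :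
    commutator (D.SteinbergCover K) = ⊤ := by
  simp only [List.mem_cons, List.not_mem_nil, or_false] at hD
  rcases hD with rfl | rfl | rfl | rfl | rfl | rfl | rfl
  · exact perfect_of_cert _ true (fun _ => hK (by simp)) _ _ certG2
  · exact perfect_of_cert _ true (fun _ => hK (by simp)) _ _ certB2
  · exact perfect_of_cert _ false (fun h => by simp at h) _ _ certD4
  · exact perfect_of_cert _ false (fun h => by simp at h) _ _ certF4
  · exact perfect_of_cert _ false (fun h => by simp at h) _ _ certE6
  · exact perfect_of_cert _ false (fun h => by simp at h) _ _ certE7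
  · exact perfect_of_cert _ false (fun h => by simp at h) _ _ certE8

end Cfsg.Agent.S2395
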