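import Mathlib
import Cfsg.Statements.S2397
import Cfsg.Agent.Lib.Schur.ChevUniv
import Cfsg.Agent.Lib.Schur.ChevTorusCert
import Cfsg.Agent.Lib.Schur.ChevLacedE8
-- import your own Cfsg.Agent.* helpers here

set_option autoImplicit false
open Cfsg

namespace Cfsg.Agent.S2397

/-- Over a finite field the relators (R3) h̄_r(t₁) h̄_r(t₂) = h̄_r(t₁ t₂) are consequences of (R1) and (R2): for each of the types G₂, B₂, D₄, F₄, E₆, E₇, E₈ (for types B₂ and G₂ the field must have more than two elements — the cases where the Chevalley group is not simple are set aside) the group presented by (R1), (R2) is canonically isomorphic to the one presented by (R1)–(R3), by an isomorphism matching the generators x̄_r(t). -/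
theorem result {K : Type*} [Field K] [Finite K] (D : Cfsg.Lie.ChevalleyDatum) (hD : D ∈ [Cfsg.Lie.chevG2, Cfsg.Lie.chevB2, Cfsg.Lie.chevD4, Cfsg.Lie.chevF4, Cfsg.Lie.chevE6, Cfsg.Lie.chevE7, Cfsg.Lie.chevE8]) (hK : D ∈ [Cfsg.Lie.chevB2, Cfsg.Lie.chevG2] → ∃ x : K, x ≠ 0 ∧ x ≠ 1) :
    ∃ e : D.SteinbergCover K ≃* D.SteinbergGroup K, ∀ (r : ℕ) (t : K), e (D.scGen K r t) = D.stGen K r t := by
  obtain ⟨C, θ, U⟩ := Cfsg.Agent.Lib.Schur.ChevLift.exists_univMap_cover (F := K) hD
  have hmul := U.lift.hX_mul_all_symbol U.gen (Cfsg.Agent.Lib.Schur.ChevLift.symbolOK_of_mem hD)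
  have hw : ∀ w : List (ℕ × K), Cfsg.Agent.Lib.Schur.ChevLift.wordX (D.scGen K) w =
      PresentedGroup.mk (D.steinbergRelsAB K) (D.stWord w) := fun w => by
    simp [Cfsg.Agent.Lib.Schur.ChevLift.wordX, Cfsg.Lie.ChevalleyDatum.stWord, Cfsg.Lie.ChevalleyDatum.scGen,
      map_list_prod, Function.comp_def]
  have hrels : ∀ g ∈ D.steinbergRels K, PresentedGroup.mk (D.steinbergRelsAB K) g = 1 := by
    rintro g (h | ⟨r, t, u, hr, ht, hu, rfl⟩)
    · exact PresentedGroup.one_of_mem h
    · rw [map_mul, map_mul, map_inv, mul_inv_eq_one]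
      simp only [Cfsg.Lie.ChevalleyDatum.stH, ← hw]
      simpa using (U.lift.hWord_mul hmul hr (Units.mk0 t ht) (Units.mk0 u hu)).symm
  let f : D.SteinbergCover K →* D.SteinbergGroup K :=
    PresentedGroup.toGroup (f := fun p => PresentedGroup.of p) fun g hg => by
      have hlift : ∀ a, FreeGroup.lift (fun p => PresentedGroup.of (rels := D.steinbergRels K) p) a =
          PresentedGroup.mk (D.steinbergRels K) a := fun a => by
        refine DFunLike.congr_fun (FreeGroup.ext_hom _ _ fun p => ?_) a
        simp [PresentedGroup.of]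
      rw [hlift]
      exact PresentedGroup.one_of_mem (Or.inl hg)
  let b : D.SteinbergGroup K →* D.SteinbergCover K :=
    PresentedGroup.toGroup (f := fun p => PresentedGroup.of p) fun g hg => by
      have hlift : ∀ a, FreeGroup.lift (fun p => PresentedGroup.of (rels := D.steinbergRelsAB K) p) a =
          PresentedGroup.mk (D.steinbergRelsAB K) a := fun a => by
        refine DFunLike.congr_fun (FreeGroup.ext_hom _ _ fun p => ?_) a
        simp [PresentedGroup.of]
      rw [hlift]
      exact hrels g hg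
  refine ⟨MonoidHom.toMulEquiv f b ?_ ?_, fun r t => ?_⟩
  · exact PresentedGroup.ext fun p => by simp [f, b]
  · exact PresentedGroup.ext fun p => by simp [f, b]
  · show f (D.scGen K r t) = D.stGen K r t
    unfold Cfsg.Lie.ChevalleyDatum.scGen Cfsg.Lie.ChevalleyDatum.stGen Cfsg.Lie.ChevalleyDatum.stX
    split_ifs with hr
    · exact PresentedGroup.toGroup.of _
    · simp

end Cfsg.Agent.S2397
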