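import Cfsg.Statements.S4220
import Mathlib
import Cfsg.Agent.S0713

/-!
An `(r+1)`-transitive group of degree `kp + r` (`k < p`, `k < r`) contains the alternating group.

The pointwise stabiliser `K` of an `r`-set `R` is transitive on the other `kp` points, so a Sylow
`p`-subgroup `P` of `K` has `k` orbits of length `p` there, and `N = N(P) ∩ G_R` induces `S_r` on
`R`.  Elements of the kernel `D` of `N` on the `k` orbits act on each orbit by affine maps, so
either some non-trivial element of `G` is supported in `R`, or `P` contains a `p`-cycle, or `S_r`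
is a quotient of a group of order at most `k!`, except for one case of degree 9, handled separately.
-/

set_option autoImplicit false
open Cfsg

namespace Cfsg.Agent.S4220

open Equiv MulAction
open scoped commutatorElement

variable {α : Type*} [Fintype α] [DecidableEq α]

/-- Tuples of distinct points of length at most `n` can be moved to each other by `G`. -/
theorem exists_mem_map (G : Subgroup (Perm α)) {n m : ℕ}
    (hG : IsMultiplyPretransitive G α n) (hmn : m ≤ n) (hn : n ≤ Fintype.card α)
    (x y : Fin m ↪ α) : ∃ g ∈ G, ∀ i, g (x i) = y i := by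
  haveI := hG
  haveI := isMultiplyPretransitive_of_le (G := G) (α := α) hmn
    (by rwa [Nat.card_eq_fintype_card])
  obtain ⟨g, hg⟩ := exists_smul_eq G x y
  exact ⟨g, g.2, fun i => by rw [← hg]; rfl⟩

omit [DecidableEq α] in
theorem preprimitive [DecidableEq α] (G : Subgroup (Perm α)) {n : ℕ}
    (hG : IsMultiplyPretransitive G α n) (h2 : 2 ≤ n) (hn : n ≤ Fintype.card α) :
    IsPreprimitive G α := by
  haveI := hG
  exact isPreprimitive_of_is_two_pretransitive
    (isMultiplyPretransitive_of_le (G := G) (α := α) h2 (by rwa [Nat.card_eq_fintype_card]))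

/-- A prime order element moving few points gives the alternating group. -/
theorem of_cycle (G : Subgroup (Perm α)) (hG : IsPreprimitive G α) (h5 : 5 ≤ Fintype.card α)
    {g : Perm α} {p : ℕ} (hp : p.Prime) (hg : g ∈ G) (hgo : orderOf g = p)
    (hs : g.support.card ≤ p) (hfix : p + 3 ≤ Fintype.card α) : alternatingGroup α ≤ G := by
  have hc : g.IsCycle := Perm.isCycle_of_prime_order (hgo ▸ hp) (by
    rw [hgo]; have := hp.two_le; omega)
  exact S0713.result G hG hp h5 hfix hc (by rw [← hc.orderOf, hgo]) hg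

/-- A 4-transitive group with a non-trivial element moving at most four points. -/
theorem small_support (G : Subgroup (Perm α)) {n : ℕ} (hG : IsMultiplyPretransitive G α n)
    (h4 : 4 ≤ n) (hn : n ≤ Fintype.card α) (h5 : 5 ≤ Fintype.card α)
    {g : Perm α} (hg : g ∈ G) (hg1 : g ≠ 1) (hs : g.support.card ≤ 4) :
    alternatingGroup α ≤ G := by
  have hprim := preprimitive G hG (by omega) hn
  have small : ∀ x ∈ G, x ≠ 1 → x.support.card ≤ 3 → alternatingGroup α ≤ G := by
    intro x hx hx1 hxs
    have h1 : 2 ≤ x.support.card := Perm.two_le_card_support_of_ne_one hx1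
    rcases Nat.lt_or_ge x.support.card 3 with h | h
    · rw [Perm.subgroup_eq_top_of_isPreprimitive_of_isSwap_mem hprim x
        (Perm.card_support_eq_two.1 (by omega)) hx]
      exact le_top
    · exact Perm.alternatingGroup_le_of_isPreprimitive_of_isThreeCycle_mem hprim
        (card_support_eq_three_iff.1 (by omega)) hx
  rcases Nat.lt_or_ge g.support.card 4 with h | h
  · exact small g hg hg1 (by omega)
  obtain ⟨a, b, c, d, hab, hac, had, hbc, hbd, hcd, hS⟩ :=
    Finset.card_eq_four.1 (show g.support.card = 4 by omega)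
  obtain ⟨e, he⟩ : ∃ e, e ∉ g.support := by
    by_contra hcon
    push Not at hcon
    have := Finset.card_le_card (show (Finset.univ : Finset α) ⊆ g.support from fun x _ => hcon x)
    rw [Finset.card_univ] at this
    omega
  have hne : ∀ x ∈ g.support, x ≠ e := fun x hx h => he (h ▸ hx)
  have hea := hne a (by simp [hS])
  have heb := hne b (by simp [hS])
  have hec := hne c (by simp [hS])
  have hed := hne d (by simp [hS])
  have hinjx : Function.Injective ![a, b, c, d] := by
    intro i j; fin_cases i <;> fin_cases j <;>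
      simp [hab, hac, had, hbc, hbd, hcd, hab.symm, hac.symm, had.symm, hbc.symm, hbd.symm, hcd.symm]
  have hinjy : Function.Injective ![a, b, c, e] := by
    intro i j; fin_cases i <;> fin_cases j <;>
      simp [hab, hac, hbc, hab.symm, hac.symm, hbc.symm, hea, heb, hec, hea.symm, heb.symm, hec.symm]
  obtain ⟨h', hh', hmap⟩ := exists_mem_map G hG h4 hn ⟨_, hinjx⟩ ⟨_, hinjy⟩
  have ha : h' a = a := hmap 0
  have hb : h' b = b := hmap 1
  have hc : h' c = c := hmap 2
  have hd : h' d = e := hmap 3
  set g' := h' * g * h'⁻¹ with hg'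
  have hagree : ∀ x, g x ≠ d → x ≠ d → x ≠ e → g' x = g x := by
    intro x hgx hxd hxe
    by_cases hx : x ∈ g.support
    · have h1 : h'⁻¹ x = x := by
        rw [Perm.inv_eq_iff_eq]
        rw [hS] at hx
        simp only [Finset.mem_insert, Finset.mem_singleton] at hx
        rcases hx with rfl | rfl | rfl | rfl
        exacts [ha.symm, hb.symm, hc.symm, absurd rfl hxd]
      have h2 := Perm.apply_mem_support.2 hx
      rw [hg', Perm.mul_apply, Perm.mul_apply, h1]
      rw [hS] at h2
      simp only [Finset.mem_insert, Finset.mem_singleton] at h2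
      rcases h2 with h2 | h2 | h2 | h2
      exacts [h2.symm ▸ ha, h2.symm ▸ hb, h2.symm ▸ hc, absurd h2 hgx]
    · have h1 : h'⁻¹ x ∉ g.support := by
        intro hmem
        have h3 : h' (h'⁻¹ x) = x := by simp
        rw [hS] at hmem
        simp only [Finset.mem_insert, Finset.mem_singleton] at hmem
        rcases hmem with hm | hm | hm | hm <;> rw [hm] at h3
        · exact hx (by rw [← h3, ha]; simp [hS])
        · exact hx (by rw [← h3, hb]; simp [hS])
        · exact hx (by rw [← h3, hc]; simp [hS])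
        · exact hxe (by rw [← h3, hd])
      rw [Perm.notMem_support] at h1 hx
      rw [hg', Perm.mul_apply, Perm.mul_apply, h1, hx]
      simp
  refine small (g⁻¹ * g') (mul_mem (inv_mem hg) (mul_mem (mul_mem hh' hg) (inv_mem hh'))) ?_ ?_
  · intro h1
    have h2 : g' = g := (inv_mul_eq_one.1 h1).symm
    apply he
    rw [← h2, hg', Perm.support_conj, Finset.mem_map]
    exact ⟨d, by simp [hS], hd⟩
  · refine (Finset.card_le_card (t := ({g⁻¹ d, d, e} : Finset α)) fun x hx => ?_).trans
      Finset.card_le_three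
    by_contra hcon
    simp only [Finset.mem_insert, Finset.mem_singleton, not_or] at hcon
    apply Perm.mem_support.1 hx
    rw [Perm.mul_apply, hagree x (fun h => hcon.1 (by rw [← h]; simp)) hcon.2.1 hcon.2.2]
    simp

/-- A 4-transitive group of degree 9 contains the alternating group. -/
theorem degree_nine (G : Subgroup (Perm α)) (hcard : Fintype.card α = 9)
    (hG : IsMultiplyPretransitive G α 4) : alternatingGroup α ≤ G := by
  have hprim := preprimitive G hG (by omega) (by omega)
  obtain ⟨x⟩ := Function.Embedding.nonempty_of_card_le (α := Fin 4) (β := α) (by simp; omega)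
  haveI hPT : IsPretransitive G (Fin 4 ↪ α) := hG
  by_cases hK : stabilizer G x = ⊥
  swap
  · haveI : Nontrivial (stabilizer G x) := (Subgroup.nontrivial_iff_ne_bot _).2 hK
    obtain ⟨q, hq, hdvd⟩ := Nat.exists_prime_and_dvd
      (Finite.one_lt_card (α := stabilizer G x)).ne'
    haveI := Fact.mk hq
    obtain ⟨y, hy⟩ := exists_prime_orderOf_dvd_card' q hdvd
    set g : Perm α := ((y : G) : Perm α)
    have hgo : orderOf g = q := by
      show orderOf ((y : G) : Perm α) = q
      rw [Subgroup.orderOf_coe, Subgroup.orderOf_coe, hy]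
    have hg : g ∈ G := (y : G).2
    have hg1 : g ≠ 1 := fun h => hq.one_lt.ne (by rw [← hgo, h, orderOf_one])
    have hs : g.support.card ≤ 5 := by
      have hsub : g.support ⊆ (Finset.univ.map x)ᶜ := by
        intro a ha
        rw [Finset.mem_compl, Finset.mem_map]
        rintro ⟨i, -, rfl⟩
        exact Perm.mem_support.1 ha (DFunLike.congr_fun (show (y : G) • x = x from y.2) i)
      refine (Finset.card_le_card hsub).trans ?_
      rw [Finset.card_compl, Finset.card_map, Finset.card_univ, Fintype.card_fin, hcard]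
    obtain ⟨m, hm⟩ := Perm.cycleType_prime_order (hgo.symm ▸ hq : (orderOf g).Prime)
    have hsum : g.support.card = (m + 1) * q := by
      rw [← Perm.sum_cycleType, hm, Multiset.sum_replicate, smul_eq_mul, hgo]
    rcases Nat.lt_or_ge g.support.card 5 with h | h
    · exact small_support G hG le_rfl (by omega) (by omega) hg hg1 (by omega)
    · have hq5 : q = 5 := by
        have : (m + 1) * q = 5 := by omega
        exact ((Nat.prime_dvd_prime_iff_eq hq (by norm_num : Nat.Prime 5)).1
          (this ▸ dvd_mul_left _ _))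
      exact of_cycle G hprim (by omega) hq hg hgo (by omega) (by omega)
  -- sharply 4-transitive: order 3024
  have hGc : Nat.card G = 3024 := by
    have h1 : (stabilizer G x).index = Nat.card (Fin 4 ↪ α) := by
      rw [index_stabilizer]
      rw [@orbit_eq_univ _ _ _ _ hPT, Set.ncard_univ]
    rw [hK, Subgroup.index_bot] at h1
    rw [h1, Nat.card_eq_fintype_card, Fintype.card_embedding_eq, Fintype.card_fin, hcard]
    decide
  haveI : Fact (Nat.Prime 7) := ⟨by norm_num⟩
  let Q : Sylow 7 G := default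
  have hQ : Nat.card Q = 7 := by
    rw [Q.card_eq_multiplicity, hGc]
    have h7 : Nat.factorization 3024 7 = 1 := by
      rw [Nat.factorization_def _ (by norm_num : Nat.Prime 7), show 3024 = 7 * 432 by norm_num,
        padicValNat.mul (by norm_num) (by norm_num), padicValNat_self,
        padicValNat.eq_zero_of_not_dvd (by norm_num)]
    rw [h7]; rfl
  have hn7 : Nat.card (Sylow 7 G) ≤ 36 := by
    have h1 := card_sylow_modEq_one 7 G
    have h2 := Q.card_dvd_index
    have h3 := (Q : Subgroup G).index_mul_card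
    rw [hQ, hGc] at h3
    rw [show (Q : Subgroup G).index = 432 by omega] at h2
    obtain ⟨d, hd⟩ := h2
    by_contra hlt
    have hd' : d < 12 := by
      by_contra h
      have := Nat.mul_le_mul (Nat.le_of_lt (Nat.lt_of_not_le hlt)) (Nat.le_of_not_lt h)
      nlinarith
    unfold Nat.ModEq at h1
    interval_cases d <;> omega
  have hN : 84 ≤ Nat.card (Subgroup.normalizer ((Q : Subgroup G) : Set G)) := by
    have h1 := (Subgroup.normalizer ((Q : Subgroup G) : Set G)).index_mul_card
    rw [hGc] at h1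
    have h4 : (Subgroup.normalizer ((Q : Subgroup G) : Set G)).index = Nat.card (Sylow 7 G) :=
      Q.card_eq_index_normalizer.symm
    rw [h4] at h1
    by_contra h
    have := Nat.mul_le_mul hn7 (Nat.le_of_lt_succ (Nat.lt_of_not_le h) :
      Nat.card (Subgroup.normalizer ((Q : Subgroup G) : Set G)) ≤ 83)
    omega
  haveI hQcyc : IsCyclic Q := isCyclic_of_prime_card hQ
  have hC : 14 ≤ Nat.card (Subgroup.centralizer ((Q : Subgroup G) : Set G)) := by
    set Φ := (Q : Subgroup G).normalizerMonoidHom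
    have h1 := Φ.ker.index_mul_card
    rw [Subgroup.index_ker] at h1
    have h2 : Nat.card Φ.range ≤ 6 := by
      refine (Subgroup.card_le_card_group _).trans ?_
      rw [IsCyclic.card_mulAut]
      rw [hQ, Nat.totient_prime (by norm_num)]
    have h3 : Nat.card Φ.ker ≤ Nat.card (Subgroup.centralizer ((Q : Subgroup G) : Set G)) := by
      rw [Subgroup.normalizerMonoidHom_ker]
      exact Nat.card_le_card_of_injective (fun a => (⟨(a.1 : G), a.2⟩ :
        ↥(Subgroup.centralizer ((Q : Subgroup G) : Set G))))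
        fun a b h => Subtype.ext (Subtype.ext (congrArg Subtype.val h :))
    have := Nat.mul_le_mul h2 h3
    omega
  obtain ⟨s, hs⟩ := exists_prime_orderOf_dvd_card' (G := Q) 7 (by rw [hQ])
  set g : Perm α := ((s : G) : Perm α)
  have hgo : orderOf g = 7 := by
    show orderOf ((s : G) : Perm α) = 7
    rw [Subgroup.orderOf_coe, Subgroup.orderOf_coe, hs]
  have hgcyc : g.IsCycle := Perm.isCycle_of_prime_order (by rw [hgo]; norm_num) (by
    rw [hgo]; have := g.support.card_le_univ; omega)
  have hgs : g.support.card = 7 := by rw [← hgcyc.orderOf, hgo]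
  have hcent : Nat.card (Subgroup.centralizer ({g} : Set (Perm α))) = 14 := by
    rw [Perm.nat_card_centralizer, hgcyc.cycleType, hgs, hcard]
    simp [Nat.factorial]
  set C' := (Subgroup.centralizer ((Q : Subgroup G) : Set G)).map G.subtype
  have hle : C' ≤ Subgroup.centralizer ({g} : Set (Perm α)) := by
    rintro _ ⟨c, hc, rfl⟩
    rw [Subgroup.mem_centralizer_iff]
    rintro h rfl
    exact congrArg Subtype.val (Subgroup.mem_centralizer_iff.1 hc (s : G) s.2)
  have heq : C' = Subgroup.centralizer ({g} : Set (Perm α)) := by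
    refine Subgroup.eq_of_le_of_card_ge hle ?_
    rw [hcent, Subgroup.card_map_of_injective G.subtype_injective]
    exact hC
  obtain ⟨u, v, huv, huveq⟩ := Finset.card_eq_two.1
    (show g.supportᶜ.card = 2 by rw [Finset.card_compl, hgs, hcard])
  have hsw : Equiv.swap u v ∈ Subgroup.centralizer ({g} : Set (Perm α)) := by
    rw [Subgroup.mem_centralizer_iff]
    rintro h rfl
    refine (Perm.Disjoint.commute ?_).eq
    intro a
    by_cases ha : a ∈ g.support
    · right
      have hau : a ∉ g.supportᶜ := by simp [Perm.mem_support.1 ha]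
      rw [huveq] at hau
      simp only [Finset.mem_insert, Finset.mem_singleton, not_or] at hau
      exact Equiv.swap_apply_of_ne_of_ne hau.1 hau.2
    · exact Or.inl (Perm.notMem_support.1 ha)
  rw [← heq] at hsw
  obtain ⟨c, -, hc⟩ := hsw
  rw [Perm.subgroup_eq_top_of_isPreprimitive_of_isSwap_mem hprim _ ⟨u, v, huv, rfl⟩
    (hc ▸ c.2)]
  exact le_top

/-- A normal subgroup of `S₄` all of whose elements have order dividing 3 is trivial. -/
theorem perm_fin_four : ∀ σ : Perm (Fin 4), σ ^ 3 = 1 → σ ≠ 1 →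
    ∃ τ : Perm (Fin 4), (σ * (τ * σ * τ⁻¹)) ^ 3 ≠ 1 := by decide +kernel

theorem center_fin_three : ∀ σ : Perm (Fin 3), (∀ τ, σ * τ = τ * σ) → σ = 1 := by decide +kernel

theorem center_fin_four : ∀ σ : Perm (Fin 4), (∀ τ, σ * τ = τ * σ) → σ = 1 := by decide +kernel

/-- If all fibres of a map on a set with at most three points are not singletons, it is constant. -/
theorem exists_unique_value {ι β : Type*} [DecidableEq ι] (Q : Finset ι) (hQ : Q.card ≤ 3)
    (f : ι → β) (hne : ∃ a ∈ Q, ∃ b ∈ Q, f a ≠ f b) :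
    ∃ q ∈ Q, ∀ q' ∈ Q, q' ≠ q → f q' ≠ f q := by
  by_contra hcon
  push Not at hcon
  obtain ⟨a, ha, b, hb, hab⟩ := hne
  obtain ⟨a', ha', ha'n, ha'e⟩ := hcon a ha
  obtain ⟨b', hb', hb'n, hb'e⟩ := hcon b hb
  have hsub : ({a, a', b, b'} : Finset ι) ⊆ Q := by
    intro x hx
    simp only [Finset.mem_insert, Finset.mem_singleton] at hx
    rcases hx with rfl | rfl | rfl | rfl <;> assumption
  have h4 : ({a, a', b, b'} : Finset ι).card = 4 := by
    rw [Finset.card_eq_four]
    refine ⟨a, a', b, b', ha'n.symm, ?_, ?_, ?_, ?_, hb'n.symm, rfl⟩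
    · intro h; exact hab (congrArg f h)
    · intro h; exact hab (h ▸ hb'e)
    · intro h; exact hab (ha'e.symm.trans (congrArg f h))
    · intro h; exact hab (ha'e.symm.trans ((congrArg f h).trans hb'e))
  have := Finset.card_le_card hsub
  omega

/-- `S_r` is not a section of `S_k` for `k < r`. -/
theorem count_contra {N ι κ : Type*} [Group N] [Finite ι] [Finite κ]
    (hlt : Nat.card κ < Nat.card ι) (h2 : 2 ≤ Nat.card ι) (ρ : N →* Perm ι) (hρ : Function.Surjective ρ)
    (ψ : N →* Perm κ) (h : ψ.ker ≤ ρ.ker) : False := by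
  have h1 := Subgroup.index_dvd_of_le h
  rw [Subgroup.index_ker, Subgroup.index_ker, MonoidHom.range_eq_top_of_surjective _ hρ,
    Subgroup.card_top, Nat.card_perm] at h1
  have h3 := h1.trans (Subgroup.card_subgroup_dvd_card ψ.range)
  rw [Nat.card_perm] at h3
  have h4 := Nat.le_of_dvd (Nat.factorial_pos _) h3
  rcases Nat.eq_zero_or_pos (Nat.card κ) with h0 | h0
  · rw [h0, Nat.factorial_zero] at h4
    have := Nat.self_le_factorial (Nat.card ι)
    omega
  · exact absurd ((Nat.factorial_lt h0).2 hlt) (not_lt.2 h4)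

/-- Let `n = kp + r` with `p` prime, `1 ≤ k < p` and `r > k`, excluding the case `k = 1, r = 2`. Then a permutation group of degree `n` that is `(r + 1)`-fold transitive contains the alternating group. -/
theorem result {α : Type*} [Fintype α] [DecidableEq α] (G : Subgroup (Equiv.Perm α)) {k p r : ℕ} (hp : p.Prime) (hn : Fintype.card α = k * p + r) (hk : 1 ≤ k) (hpk : k < p) (hrk : k < r) (hex : ¬ (k = 1 ∧ r = 2)) (hG : MulAction.IsMultiplyPretransitive G α (r + 1)) : alternatingGroup α ≤ G := by
  classical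
  haveI := Fact.mk hp
  have hp2 := hp.two_le
  have hkp : p ≤ k * p := Nat.le_mul_of_pos_left p hk
  have hr3 : 3 ≤ r := by omega
  have h5 : 5 ≤ Fintype.card α := by omega
  have hprim := preprimitive G hG (by omega) (by omega)
  have hfix : p + 3 ≤ Fintype.card α := by omega
  haveI : Nonempty α := Fintype.card_pos_iff.1 (by omega)
  by_contra halt
  -- the set `R` of `r` points and the maps between tuples
  obtain ⟨R, -, hRc⟩ := Finset.exists_subset_card_eq
    (show r ≤ (Finset.univ : Finset α).card by rw [Finset.card_univ]; omega)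
  have hRcompl : Rᶜ.card = k * p := by rw [Finset.card_compl, hRc, hn]; omega
  let e : Fin r ≃ ↥R := (finCongr hRc.symm).trans R.equivFin.symm
  let xs : Fin r ↪ α := e.toEmbedding.trans (Function.Embedding.subtype _)
  have hxs : ∀ a, a ∈ R → ∃ i, xs i = a := fun a ha => ⟨e.symm ⟨a, ha⟩, by
    show (((e (e.symm ⟨a, ha⟩)) : ↥R) : α) = a
    rw [Equiv.apply_symm_apply]⟩
  have hxsR : ∀ i, xs i ∈ R := fun i => (e i).2
  -- the pointwise stabiliser
  let K : Subgroup (Perm α) :=
    { carrier := {g | g ∈ G ∧ ∀ a ∈ R, g a = a}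
      mul_mem' := fun {g h} hg hh => ⟨mul_mem hg.1 hh.1, fun a ha => by
        rw [Perm.mul_apply, hh.2 a ha, hg.2 a ha]⟩
      one_mem' := ⟨one_mem _, fun a _ => rfl⟩
      inv_mem' := fun {g} hg => ⟨inv_mem hg.1, fun a ha => by
        rw [Perm.inv_eq_iff_eq]; exact (hg.2 a ha).symm⟩ }
  have hKtrans : ∀ a ∉ R, ∀ b ∉ R, ∃ g ∈ K, g a = b := by
    intro a ha b hb
    have hinj : ∀ c ∉ R, Function.Injective (Fin.snoc (fun i => xs i) c : Fin (r + 1) → α) :=
      fun c hc => Fin.snoc_injective_iff.2 ⟨xs.injective, by rintro ⟨i, rfl⟩; exact hc (hxsR i)⟩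
    obtain ⟨g, hg, hmap⟩ := exists_mem_map G hG le_rfl (by omega) ⟨_, hinj a ha⟩ ⟨_, hinj b hb⟩
    refine ⟨g, ⟨hg, fun c hc => ?_⟩, ?_⟩
    · obtain ⟨i, rfl⟩ := hxs c hc
      simpa using hmap i.castSucc
    · simpa using hmap (Fin.last r)
  -- the Sylow subgroup
  let P0 : Sylow p ↥K := default
  let P : Subgroup (Perm α) := (P0 : Subgroup ↥K).map K.subtype
  have hPK : P ≤ K := Subgroup.map_subtype_le _
  have hPG : ∀ g ∈ P, g ∈ G := fun g hg => (hPK hg).1
  have hPR : ∀ g ∈ P, ∀ a ∈ R, g a = a := fun g hg => (hPK hg).2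
  have hPp : IsPGroup p P := P0.2.map _
  have hPnotR : ∀ g ∈ P, ∀ a ∉ R, g a ∉ R := fun g hg a ha h => ha (by
    have h1 := hPR g hg _ h
    rwa [← g.injective h1])
  let O : α → Finset α := fun a => (Finset.univ : Finset α).filter (fun b => ∃ g ∈ P, g a = b)
  have hO : ∀ a b, b ∈ O a ↔ ∃ g ∈ P, g a = b := fun a b => by simp [O]
  have hOself : ∀ a, a ∈ O a := fun a => (hO a a).2 ⟨1, one_mem _, rfl⟩
  have hOeq : ∀ a b, b ∈ O a → O b = O a := by
    intro a b hb
    obtain ⟨g, hg, rfl⟩ := (hO a b).1 hb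
    ext c
    rw [hO, hO]
    constructor
    · rintro ⟨h, hh, rfl⟩; exact ⟨h * g, mul_mem hh hg, rfl⟩
    · rintro ⟨h, hh, rfl⟩
      exact ⟨h * g⁻¹, mul_mem hh (inv_mem hg), by simp⟩
  have horb : ∀ a, MulAction.orbit P a = (O a : Set α) := by
    intro a; ext b
    rw [Finset.mem_coe, hO, MulAction.mem_orbit_iff]
    exact ⟨fun ⟨g, hg⟩ => ⟨g.1, g.2, hg⟩, fun ⟨g, hg, h⟩ => ⟨⟨g, hg⟩, h⟩⟩
  have hOR : ∀ a ∉ R, ∀ b ∈ O a, b ∉ R := fun a ha b hb => by
    obtain ⟨g, hg, rfl⟩ := (hO a b).1 hb
    exact hPnotR g hg a ha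
  have hOcard : ∀ a ∉ R, (O a).card = p := by
    intro a ha
    obtain ⟨m, hm⟩ := hPp.card_orbit a
    rw [horb, Nat.card_coe_set_eq, Set.ncard_coe_finset] at hm
    have hle : (O a).card ≤ k * p := by
      rw [← hRcompl]
      exact Finset.card_le_card fun b hb => Finset.mem_compl.2 (hOR a ha b hb)
    have hm0 : m ≠ 0 := by
      rintro rfl
      rw [pow_zero, Finset.card_eq_one] at hm
      obtain ⟨c, hc⟩ := hm
      have hfixa : ∀ g ∈ P, g a = a := fun g hg => by
        have h1 := (hO a (g a)).2 ⟨g, hg, rfl⟩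
        have h2 := hOself a
        rw [hc, Finset.mem_singleton] at h1 h2
        rw [h1, h2]
      have hle' : (P0 : Subgroup ↥K) ≤ stabilizer ↥K a := fun g hg => hfixa _ ⟨g, hg, rfl⟩
      have horbK : MulAction.orbit ↥K a = ((Rᶜ : Finset α) : Set α) := by
        ext b
        rw [MulAction.mem_orbit_iff, Finset.mem_coe, Finset.mem_compl]
        constructor
        · rintro ⟨g, rfl⟩ hb
          apply ha
          have h1 := g.2.2 _ hb
          have h2 : (g : Perm α) a = a := (g : Perm α).injective h1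
          rwa [show g • a = a from h2] at hb
        · intro hb
          obtain ⟨g, hg, hgab⟩ := hKtrans a ha b hb
          exact ⟨⟨g, hg⟩, hgab⟩
      have hidx : (stabilizer ↥K a).index = k * p := by
        rw [index_stabilizer, horbK, Set.ncard_coe_finset, hRcompl]
      exact P0.not_dvd_index ((dvd_mul_left p k).trans (hidx ▸ Subgroup.index_dvd_of_le hle'))
    have : m = 1 := by
      by_contra hne
      have h1 : p ^ 2 ≤ p ^ m := Nat.pow_le_pow_right hp.pos (by omega)
      have h2 : k * p < p * p := Nat.mul_lt_mul_of_pos_right hpk hp.pos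
      rw [pow_two] at h1
      omega
    rw [hm, this, pow_one]
  -- restriction of `P` to an orbit is cyclic of order `p`
  have hagpow : ∀ a, ∀ g ∈ P, ∀ h : Perm α, (∀ b ∈ O a, h b = g b) →
      ∀ m : ℕ, ∀ b ∈ O a, (h ^ m) b = (g ^ m) b := by
    intro a g hg h hgh m
    induction m with
    | zero => intro b _; rfl
    | succ m ih =>
      intro b hb
      rw [pow_succ, pow_succ, Perm.mul_apply, Perm.mul_apply, hgh b hb]
      exact ih _ (by rw [← hOeq a b hb]; exact (hO b _).2 ⟨g, hg, rfl⟩)
  have hmoves : ∀ a ∉ R, ∃ g ∈ P, g a ≠ a := by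
    intro a ha
    by_contra hcon
    push Not at hcon
    have hsub : O a ⊆ {a} := fun b hb => by
      obtain ⟨g, hg, rfl⟩ := (hO a b).1 hb
      rw [hcon g hg, Finset.mem_singleton]
    have := Finset.card_le_card hsub
    rw [hOcard a ha, Finset.card_singleton] at this
    omega
  have hmemorb : ∀ a b, b ∈ O a → b ∈ MulAction.orbit ↥P a := fun a b hb => by rw [horb]; exact hb
  have hrange : ∀ a ∉ R,
      Nat.card (MulAction.toPermHom ↥P ↥(MulAction.orbit ↥P a)).range = p := by
    intro a ha
    set π := MulAction.toPermHom ↥P ↥(MulAction.orbit ↥P a)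
    have hπp : IsPGroup p π.range := hPp.of_surjective π.rangeRestrict π.rangeRestrict_surjective
    obtain ⟨m, hm⟩ := IsPGroup.iff_card.1 hπp
    have hdvd := Subgroup.card_subgroup_dvd_card π.range
    rw [hm, Nat.card_perm, horb, Nat.card_coe_set_eq, Set.ncard_coe_finset, hOcard a ha] at hdvd
    have hm1 : m ≤ 1 := by
      by_contra hlt
      have h2 : p ^ 2 ∣ p.factorial := (pow_dvd_pow p (by omega)).trans hdvd
      have h3 : p * p ∣ p * (p - 1).factorial := by
        rw [Nat.mul_factorial_pred hp.ne_zero, ← pow_two]; exact h2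
      have h4 := (hp.dvd_factorial).1 (Nat.dvd_of_mul_dvd_mul_left hp.pos h3)
      omega
    have hm0 : m ≠ 0 := by
      rintro rfl
      rw [pow_zero] at hm
      obtain ⟨g, hg, hga⟩ := hmoves a ha
      have h1 : π ⟨g, hg⟩ ∈ π.range := ⟨_, rfl⟩
      rw [Subgroup.eq_bot_of_card_eq _ hm, Subgroup.mem_bot] at h1
      exact hga (congrArg Subtype.val (Equiv.congr_fun h1 ⟨a, hmemorb a a (hOself a)⟩))
    rw [hm, show m = 1 by omega, pow_one]
  have hcyc : ∀ a ∉ R, ∀ g ∈ P, g a ≠ a → ∀ h ∈ P, ∃ j : ℕ, ∀ b ∈ O a, h b = (g ^ j) b := by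
    intro a ha g hg hga h hh
    set π := MulAction.toPermHom ↥P ↥(MulAction.orbit ↥P a)
    have hne : π.rangeRestrict ⟨g, hg⟩ ≠ 1 := fun h1 => hga (congrArg Subtype.val
      (Equiv.congr_fun (congrArg Subtype.val h1) ⟨a, hmemorb a a (hOself a)⟩))
    obtain ⟨j, hj⟩ := mem_powers_of_prime_card (hrange a ha) (g' := π.rangeRestrict ⟨h, hh⟩) hne
    refine ⟨j, fun b hbO => ?_⟩
    have h2 : π (⟨g, hg⟩ ^ j) = π ⟨h, hh⟩ := by
      rw [map_pow]; exact congrArg Subtype.val hj
    exact (congrArg Subtype.val (Equiv.congr_fun h2 ⟨b, hmemorb a b hbO⟩)).symm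
  have hext : ∀ g h : Perm α, g ∈ P → h ∈ P → (∀ a ∉ R, g a = h a) → g = h := fun g h hg hh he' =>
    Equiv.ext fun a => if ha : a ∈ R then by rw [hPR g hg a ha, hPR h hh a ha] else he' a ha
  have hpowp : ∀ g ∈ P, g ^ p = 1 := by
    intro g hg
    refine hext _ _ (pow_mem hg p) (one_mem _) fun a ha => ?_
    set π := MulAction.toPermHom ↥P ↥(MulAction.orbit ↥P a)
    have h1 : π (⟨g, hg⟩ ^ p) = 1 := by
      rw [map_pow]
      have h0 := pow_card_eq_one' (x := π.rangeRestrict ⟨g, hg⟩)
      rw [hrange a ha] at h0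
      exact congrArg Subtype.val h0
    exact congrArg Subtype.val (Equiv.congr_fun h1 ⟨a, hmemorb a a (hOself a)⟩)
  have hPcomm : ∀ g ∈ P, ∀ h ∈ P, g * h = h * g := by
    intro g hg h hh
    refine hext _ _ (mul_mem hg hh) (mul_mem hh hg) fun a ha => ?_
    obtain ⟨x, hx, hxa⟩ := hmoves a ha
    obtain ⟨i, hi⟩ := hcyc a ha x hx hxa g hg
    obtain ⟨j, hj⟩ := hcyc a ha x hx hxa h hh
    rw [Perm.mul_apply, Perm.mul_apply, hj a (hOself a), hi a (hOself a),
      hi _ ((hO a _).2 ⟨_, pow_mem hx j, rfl⟩), hj _ ((hO a _).2 ⟨_, pow_mem hx i, rfl⟩),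
      ← Perm.mul_apply, ← Perm.mul_apply, ← pow_add, ← pow_add, Nat.add_comm]
  -- no single `p`-cycle in `P`
  have hnocyc : ∀ g ∈ P, ∀ a, (∀ b ∉ O a, g b = b) → g = 1 := by
    intro g hg a hga
    by_contra h1
    refine halt (of_cycle G hprim h5 hp (hPG g hg) (orderOf_eq_prime (hpowp g hg) h1) ?_ hfix)
    have hsub : g.support ⊆ O a := fun b hb => by
      by_contra hcon
      exact Perm.mem_support.1 hb (hga b hcon)
    by_cases ha : a ∈ R
    · exfalso
      apply h1
      refine Equiv.ext fun b => ?_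
      by_cases hb : b ∈ O a
      · obtain ⟨x, hx, rfl⟩ := (hO a b).1 hb
        rw [hPR x hx a ha, hPR g hg a ha]; rfl
      · exact hga b hb
    · exact (Finset.card_le_card hsub).trans (hOcard a ha).le
  -- the normaliser of `P` in the setwise stabiliser
  let N : Subgroup (Perm α) :=
    { carrier := {g | g ∈ G ∧ (∀ a, g a ∈ R ↔ a ∈ R) ∧ ∀ x, g * x * g⁻¹ ∈ P ↔ x ∈ P}
      mul_mem' := fun {g h} hg hh => ⟨mul_mem hg.1 hh.1, fun a => by
        rw [Perm.mul_apply, hg.2.1, hh.2.1], fun x => by
        rw [show g * h * x * (g * h)⁻¹ = g * (h * x * h⁻¹) * g⁻¹ by group, hg.2.2, hh.2.2]⟩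
      one_mem' := ⟨one_mem _, fun a => Iff.rfl, fun x => by simp⟩
      inv_mem' := fun {g} hg => ⟨inv_mem hg.1, fun a => by
        conv_rhs => rw [show a = g (g⁻¹ a) by simp, hg.2.1], fun x => by
        rw [← hg.2.2]; group⟩ }
  have hNG : ∀ g ∈ N, g ∈ G := fun g hg => hg.1
  have hNP : ∀ n ∈ N, ∀ x ∈ P, n * x * n⁻¹ ∈ P := fun n hn x hx => (hn.2.2 x).2 hx
  have hNP' : ∀ n ∈ N, ∀ x ∈ P, n⁻¹ * x * n ∈ P := fun n hn x hx => by
    simpa using hNP _ (inv_mem hn) x hx
  have hNimg : ∀ n ∈ N, ∀ a, (O a).image n = O (n a) := by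
    intro n hn a
    ext b
    rw [Finset.mem_image]
    constructor
    · rintro ⟨c, hc, rfl⟩
      obtain ⟨x, hx, rfl⟩ := (hO a c).1 hc
      exact (hO _ _).2 ⟨n * x * n⁻¹, hNP n hn x hx, by simp⟩
    · intro hb
      obtain ⟨x, hx, rfl⟩ := (hO _ b).1 hb
      exact ⟨(n⁻¹ * x * n) a, (hO a _).2 ⟨_, hNP' n hn x hx, rfl⟩, by simp⟩
  have hfrat : ∀ σ : Perm ↥R, ∃ n ∈ N, ∀ a : ↥R, n a = σ a := by
    intro σ
    obtain ⟨g, hg, hmap⟩ := exists_mem_map G hG (by omega : r ≤ r + 1) (by omega) xs
      (e.toEmbedding.trans (σ.toEmbedding.trans (Function.Embedding.subtype _)))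
    have hgR : ∀ a : ↥R, g a = σ a := fun a => by
      have := hmap (e.symm a)
      simpa [xs] using this
    have hiff : ∀ a, g a ∈ R ↔ a ∈ R := by
      intro a
      constructor
      · intro h
        have h2 := hgR (σ.symm ⟨g a, h⟩)
        rw [Equiv.apply_symm_apply] at h2
        rw [← g.injective h2]
        exact (σ.symm ⟨g a, h⟩).2
      · intro ha; rw [hgR ⟨a, ha⟩]; exact (σ ⟨a, ha⟩).2
    have hconjK : ∀ x ∈ K, g * x * g⁻¹ ∈ K := fun x hx => ⟨mul_mem (mul_mem hg hx.1) (inv_mem hg),
      fun a ha => by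
        have h1 : g⁻¹ a ∈ R := (hiff _).1 (by simpa using ha)
        rw [Perm.mul_apply, Perm.mul_apply, hx.2 _ h1]; simp⟩
    let Q0 : Subgroup (Perm α) := P.map (MulAut.conj g).toMonoidHom
    have hQ0K : Q0 ≤ K := by
      rintro _ ⟨x, hx, rfl⟩; exact hconjK x (hPK hx)
    have hQ0c : Nat.card (Q0.subgroupOf K) = Nat.card P0 := by
      rw [Nat.card_congr (Subgroup.subgroupOfEquivOfLe hQ0K).toEquiv,
        Subgroup.card_map_of_injective (MulEquiv.injective _),
        Subgroup.card_map_of_injective K.subtype_injective]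
    obtain ⟨Q1, hQ1⟩ := ((hPp.map (MulAut.conj g).toMonoidHom).of_equiv
      (Subgroup.subgroupOfEquivOfLe hQ0K).symm).exists_le_sylow
    have hQeq : Q0.subgroupOf K = (Q1 : Subgroup ↥K) := Subgroup.eq_of_le_of_card_ge hQ1 (by
      rw [hQ0c, P0.card_eq_multiplicity, Q1.card_eq_multiplicity])
    obtain ⟨c, hc⟩ := exists_smul_eq ↥K Q1 P0
    refine ⟨(c : Perm α) * g, ⟨mul_mem c.2.1 hg, ?_, ?_⟩, ?_⟩
    · intro a
      rw [Perm.mul_apply, ← hiff a]
      constructor
      · intro h; have := c.2.2 _ h; rwa [← (c : Perm α).injective this]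
      · intro h; rwa [c.2.2 _ h]
    · intro x
      have hmem : ∀ y ∈ P, (c : Perm α) * g * y * ((c : Perm α) * g)⁻¹ ∈ P := by
        intro y hy
        have h1 : g * y * g⁻¹ ∈ Q0 := ⟨y, hy, rfl⟩
        have h2 : (⟨g * y * g⁻¹, hQ0K h1⟩ : ↥K) ∈ (Q1 : Subgroup ↥K) :=
          hQeq ▸ Subgroup.mem_subgroupOf.2 h1
        refine ⟨c * ⟨g * y * g⁻¹, hQ0K h1⟩ * c⁻¹, ?_, by simp; group⟩
        rw [← hc, SetLike.mem_coe, Sylow.coe_subgroup_smul]
        exact ⟨_, h2, rfl⟩
      let fP : ↥P → ↥P := fun y => ⟨_, hmem y y.2⟩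
      have hfP : Function.Injective fP := fun y z hyz => Subtype.ext (by
        simpa [fP] using congrArg Subtype.val hyz)
      refine ⟨fun h => ?_, hmem x⟩
      obtain ⟨y, hy⟩ := (Finite.injective_iff_surjective.1 hfP) ⟨_, h⟩
      have h3 := congrArg Subtype.val hy
      simp only [fP, mul_left_inj, mul_right_inj] at h3
      exact h3 ▸ y.2
    · intro a
      rw [Perm.mul_apply, hgR a, c.2.2 _ (σ a).2]
  let ρ : ↥N →* Perm ↥R :=
    { toFun := fun n => Equiv.Perm.subtypePerm (n : Perm α) n.2.2.1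
      map_one' := by ext; rfl
      map_mul' := fun a b => by ext; rfl }
  have hρ : Function.Surjective ρ := fun σ => by
    obtain ⟨n, hn, hσ⟩ := hfrat σ
    exact ⟨⟨n, hn⟩, Equiv.ext fun a => Subtype.ext (hσ a)⟩
  have hρapply : ∀ (n : ↥N) (a : ↥R), ((ρ n) a : α) = (n : Perm α) a := fun _ _ => rfl
  -- no non-trivial element of `G` is supported in `R`
  have hH0 : ∀ g ∈ G, (∀ a ∉ R, g a = a) → g = 1 := by
    intro g hg hgR
    by_contra hg1
    apply halt
    have hsupp : g.support ⊆ R := fun a ha => by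
      by_contra hcon; exact Perm.mem_support.1 ha (hgR a hcon)
    rcases Nat.lt_or_ge r 5 with hr | hr
    · exact small_support G hG (by omega) (by omega) h5 hg hg1
        ((Finset.card_le_card hsupp).trans (by omega))
    let M : Subgroup (Perm ↥R) := G.comap Perm.ofSubtype
    haveI : M.Normal := ⟨fun σ hσ τ => by
      obtain ⟨n, hn, hnτ⟩ := hfrat τ
      have hkey : (Perm.ofSubtype (τ * σ * τ⁻¹) : Perm α) = n * Perm.ofSubtype σ * n⁻¹ := by
        rw [eq_mul_inv_iff_mul_eq]
        refine Equiv.ext fun a => ?_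
        rw [Perm.mul_apply, Perm.mul_apply]
        by_cases ha : a ∈ R
        · rw [Perm.ofSubtype_apply_of_mem _ ha, hnτ ⟨a, ha⟩,
            Perm.ofSubtype_apply_of_mem _ (τ ⟨a, ha⟩).2, hnτ]
          simp
        · rw [Perm.ofSubtype_apply_of_not_mem _ ha,
            Perm.ofSubtype_apply_of_not_mem _ (fun h => ha ((hn.2.1 a).1 h))]
      show Perm.ofSubtype (τ * σ * τ⁻¹) ∈ G
      rw [hkey]
      exact mul_mem (mul_mem (hNG n hn) hσ) (inv_mem (hNG n hn))⟩
    have hgiff : ∀ a, g a ∈ R ↔ a ∈ R := fun a => by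
      by_cases ha : a ∈ g.support
      · exact iff_of_true (hsupp (Perm.apply_mem_support.2 ha)) (hsupp ha)
      · rw [Perm.notMem_support.1 ha]
    have hσ : Perm.ofSubtype (Perm.subtypePerm g hgiff) = g :=
      Perm.ofSubtype_subtypePerm _ fun a ha => hsupp (Perm.mem_support.2 ha)
    haveI : Nontrivial M := (Subgroup.nontrivial_iff_ne_bot _).2 fun h => hg1 (by
      have h1 : Perm.subtypePerm g hgiff ∈ M := show _ ∈ G by rw [hσ]; exact hg
      rw [h, Subgroup.mem_bot] at h1
      rw [← hσ, h1, map_one])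
    have hA := Perm.alternatingGroup_le_of_normal (α := ↥R) (by simp; omega) (N := M) inferInstance
    obtain ⟨t, htR, htc⟩ := Finset.exists_subset_card_eq (show 3 ≤ R.card by omega)
    obtain ⟨u, v, w, huv, huw, hvw, ht⟩ := Finset.card_eq_three.1 htc
    have hu : u ∈ R := htR (by simp [ht])
    have hv : v ∈ R := htR (by simp [ht])
    have hw : w ∈ R := htR (by simp [ht])
    have h3 := Perm.isThreeCycle_swap_mul_swap_same (a := (⟨u, hu⟩ : ↥R)) (b := ⟨v, hv⟩)
      (c := ⟨w, hw⟩) (by simpa using huv) (by simpa using huw) (by simpa using hvw)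
    refine Perm.alternatingGroup_le_of_isPreprimitive_of_isThreeCycle_mem hprim ?_
      (hA h3.mem_alternatingGroup)
    rw [← card_support_eq_three_iff, Perm.support_ofSubtype, Finset.card_map]
    convert h3.card_support using 3
  have hdet : ∀ n : ↥N, (∀ a ∉ R, (n : Perm α) a = a) → n = 1 := fun n hn =>
    Subtype.ext (hH0 _ (hNG _ n.2) hn)
  -- the action on orbits
  let Qs : Finset (Finset α) := Rᶜ.image O
  have hQs : Qs.card = k := by
    have h := Finset.card_eq_sum_card_image O Rᶜ
    have hfib : ∀ q ∈ Qs, (Rᶜ.filter fun x => O x = q).card = p := by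
      intro q hq
      obtain ⟨a, ha, rfl⟩ := Finset.mem_image.1 hq
      rw [Finset.mem_compl] at ha
      rw [show (Rᶜ.filter fun x => O x = O a) = O a from ?_, hOcard a ha]
      ext b
      rw [Finset.mem_filter, Finset.mem_compl]
      exact ⟨fun hb => hb.2 ▸ hOself b, fun hb => ⟨hOR a ha b hb, hOeq a b hb⟩⟩
    rw [Finset.sum_congr rfl hfib, Finset.sum_const, smul_eq_mul, hRcompl] at h
    exact (Nat.eq_of_mul_eq_mul_right hp.pos h).symm
  have hQmem : ∀ n ∈ N, ∀ q ∈ Qs, q.image n ∈ Qs := by
    intro n hn q hq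
    obtain ⟨a, ha, rfl⟩ := Finset.mem_image.1 hq
    rw [hNimg n hn a]
    exact Finset.mem_image_of_mem O (Finset.mem_compl.2 fun h =>
      Finset.mem_compl.1 ha ((hn.2.1 a).1 h))
  letI actQ : MulAction ↥N ↥Qs :=
    { smul := fun n q => ⟨q.1.image (n : Perm α), hQmem _ n.2 _ q.2⟩
      one_smul := fun q => Subtype.ext (by
        show q.1.image _ = _
        simp)
      mul_smul := fun a b q => Subtype.ext (by
        show q.1.image _ = (q.1.image _).image _
        rw [Finset.image_image]; rfl) }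
  let ψ : ↥N →* Perm ↥Qs := MulAction.toPermHom _ _
  have hD : ∀ n : ↥N, n ∈ ψ.ker → ∀ a ∉ R, ∀ b ∈ O a, (n : Perm α) b ∈ O a := by
    intro n hn a ha b hb
    have h1 := Equiv.congr_fun (MonoidHom.mem_ker.1 hn)
      ⟨O a, Finset.mem_image_of_mem O (Finset.mem_compl.2 ha)⟩
    have h2 : (O a).image (n : Perm α) = O a := congrArg Subtype.val h1
    rw [← h2]
    exact Finset.mem_image_of_mem _ hb
  have hconj : ∀ (n m : ↥N) (g : Perm α), ((n * m : ↥N) : Perm α) * g * ((n * m : ↥N) : Perm α)⁻¹ =
      (n : Perm α) * ((m : Perm α) * g * (m : Perm α)⁻¹) * (n : Perm α)⁻¹ := by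
    intro n m g; push_cast; group
  have hcommutator : ∀ (n m : ↥N), (∀ h ∈ P, (n : Perm α) * ((m : Perm α) * h * (m : Perm α)⁻¹) *
        (n : Perm α)⁻¹ = (m : Perm α) * ((n : Perm α) * h * (n : Perm α)⁻¹) * (m : Perm α)⁻¹) →
      ∀ g ∈ P, ((⁅n, m⁆ : ↥N) : Perm α) * g * ((⁅n, m⁆ : ↥N) : Perm α)⁻¹ = g := by
    intro n m h g hg
    have hmn := hNP' _ (m * n).2 g hg
    have h1 := h _ hmn
    push_cast at h1
    rw [commutatorElement_def]
    push_cast
    calc _ = (n : Perm α) * ((m : Perm α) * (((m : Perm α) * n)⁻¹ * g * ((m : Perm α) * n)) *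
          (m : Perm α)⁻¹) * (n : Perm α)⁻¹ := by group
      _ = _ := h1
      _ = g := by group
  -- `T` : elements of `ker ψ` centralising `P`
  have hTab : ∀ c d : ↥N, c ∈ ψ.ker → d ∈ ψ.ker →
      (∀ g ∈ P, (c : Perm α) * g = g * c) → (∀ g ∈ P, (d : Perm α) * g = g * d) →
      c * d = d * c := by
    intro c d hc hd hcP hdP
    have hpt : ∀ a ∉ R, (c : Perm α) ((d : Perm α) a) = (d : Perm α) ((c : Perm α) a) := by
      intro a ha
      obtain ⟨g, hg, hga⟩ := (hO a _).1 (hD c hc a ha a (hOself a))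
      obtain ⟨h, hh, hha⟩ := (hO a _).1 (hD d hd a ha a (hOself a))
      rw [← hha, ← hga, ← Perm.mul_apply, hcP h hh, Perm.mul_apply, ← hga,
        ← Perm.mul_apply (d : Perm α), hdP g hg, Perm.mul_apply, ← hha,
        ← Perm.mul_apply, ← Perm.mul_apply, hPcomm h hh g hg]
    apply mul_inv_eq_one.1
    refine hdet _ fun a ha => ?_
    have hb : (((d * c)⁻¹ : ↥N) : Perm α) a ∉ R := fun h =>
      ha ((((d * c)⁻¹ : ↥N).2.2.1 a).1 h)
    push_cast at hb ⊢
    show (c : Perm α) ((d : Perm α) _) = a
    rw [hpt _ hb]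
    simp
  have hTp : ∀ c : ↥N, c ∈ ψ.ker → (∀ g ∈ P, (c : Perm α) * g = g * c) → c ^ p = 1 := by
    intro c hc hcP
    refine hdet _ fun a ha => ?_
    obtain ⟨g, hg, hga⟩ := (hO a _).1 (hD c hc a ha a (hOself a))
    have : ∀ m : ℕ, ((c : Perm α) ^ m) a = (g ^ m) a := by
      intro m
      induction m with
      | zero => rfl
      | succ m ih =>
        rw [pow_succ', Perm.mul_apply, ih, ← Perm.mul_apply, hcP _ (pow_mem hg m), Perm.mul_apply,
          ← hga, ← Perm.mul_apply, ← pow_succ]
    rw [Subgroup.coe_pow, this, hpowp g hg]; rfl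
  -- multipliers on orbits
  have hmult : ∀ n : ↥N, n ∈ ψ.ker → ∀ a ∉ R, ∃ i : ℕ, ∀ g ∈ P, ∀ b ∈ O a,
      ((n : Perm α) * g * (n : Perm α)⁻¹) b = (g ^ i) b := by
    intro n hn a ha
    obtain ⟨x, hx, hxa⟩ := hmoves a ha
    obtain ⟨i, hi⟩ := hcyc a ha x hx hxa _ (hNP n n.2 x hx)
    refine ⟨i, fun g hg b hb => ?_⟩
    obtain ⟨j, hj⟩ := hcyc a ha x hx hxa g hg
    have hb' : (n : Perm α)⁻¹ b ∈ O a := hD n⁻¹ (inv_mem hn) a ha b hb
    have h1 : ((n : Perm α) * g * (n : Perm α)⁻¹) b = ((n : Perm α) * x ^ j * (n : Perm α)⁻¹) b := by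
      simp only [Perm.mul_apply]
      rw [hj _ hb']
    rw [h1, ← conj_pow, hagpow a (x ^ i) (pow_mem hx i) _ hi j b hb,
      hagpow a (x ^ j) (pow_mem hx j) g hj i b hb, ← pow_mul, ← pow_mul, mul_comm i j]
  -- the kernel image
  rcases Nat.lt_or_ge r 5 with hr | hr
  · by_cases hexc : r = 3 ∧ p = 3 ∧ k = 2
    · obtain ⟨rfl, rfl, rfl⟩ := hexc
      exact halt (degree_nine G (by omega) hG)
    -- multipliers are constant
    have hconst : ∀ n : ↥N, n ∈ ψ.ker → ∃ i : ℕ, ∀ g ∈ P,
        (n : Perm α) * g * (n : Perm α)⁻¹ = g ^ i := by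
      intro n hn
      choose! i hi using hmult n hn
      have hrep : ∀ q ∈ Qs, ∃ a, a ∉ R ∧ O a = q := fun q hq => by
        obtain ⟨a, ha, rfl⟩ := Finset.mem_image.1 hq
        exact ⟨a, Finset.mem_compl.1 ha, rfl⟩
      choose! rep hrepR hrepO using hrep
      let f : Finset α → ZMod p := fun q => (i (rep q) : ZMod p)
      by_cases hne : ∃ a ∈ Qs, ∃ b ∈ Qs, f a ≠ f b
      · exfalso
        obtain ⟨q, hq, hquniq⟩ := exists_unique_value Qs (by omega) f hne
        have hsep : ∀ S : Finset (Finset α), S ⊆ Qs → q ∉ S →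
            ∃ h ∈ P, h (rep q) ≠ rep q ∧ ∀ s ∈ S, ∀ b ∈ s, h b = b := by
          intro S
          induction S using Finset.induction_on with
          | empty =>
            intro _ _
            obtain ⟨h, hh, hha⟩ := hmoves _ (hrepR q hq)
            exact ⟨h, hh, hha, by simp⟩
          | @insert s S hsS ih =>
            intro hsub hqS
            rw [Finset.insert_subset_iff] at hsub
            rw [Finset.mem_insert, not_or] at hqS
            obtain ⟨h, hh, hha, hS⟩ := ih hsub.2 hqS.2
            set l := i (rep s)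
            have hnh := hNP n n.2 h hh
            refine ⟨(n : Perm α) * h * (n : Perm α)⁻¹ * h ^ ((p - 1) * l),
              mul_mem hnh (pow_mem hh _), ?_, ?_⟩
            · intro hfix'
              rw [Perm.mul_apply, hi _ (hrepR q hq) h hh _
                ((hO _ _).2 ⟨_, pow_mem hh _, rfl⟩), ← Perm.mul_apply, ← pow_add] at hfix'
              set m := i (rep q) + (p - 1) * l
              have hm : ¬ p ∣ m := fun hd => hquniq s hsub.1 (Ne.symm hqS.1) (by
                have h0 : (m : ZMod p) = 0 := (ZMod.natCast_eq_zero_iff _ _).2 hd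
                simp only [m, Nat.cast_add, Nat.cast_mul, Nat.cast_sub hp.pos, Nat.cast_one,
                  CharP.cast_eq_zero, zero_sub, neg_mul, one_mul] at h0
                show (l : ZMod p) = f q
                exact (add_neg_eq_zero.1 h0).symm)
              obtain ⟨u, -, hu⟩ := Nat.exists_mul_mod_eq_one_of_coprime
                ((hp.coprime_iff_not_dvd.2 hm).symm) hp.one_lt
              apply hha
              have h1 : h = (h ^ m) ^ u := by
                rw [← pow_mul]
                conv_lhs => rw [← pow_one h]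
                exact pow_eq_pow_of_modEq (by unfold Nat.ModEq; rw [hu, Nat.one_mod_eq_one.2
                  hp.one_lt.ne']) (hpowp h hh)
              rw [h1]
              exact Perm.pow_apply_eq_self_of_apply_eq_self hfix' u
            · intro s' hs' b hb
              rw [Finset.mem_insert] at hs'
              rcases hs' with rfl | hs'
              · have hbO : b ∈ O (rep s') := by rwa [hrepO _ hsub.1]
                rw [Perm.mul_apply, hi _ (hrepR _ hsub.1) h hh _ (by
                  rw [← hOeq _ b hbO]; exact (hO _ _).2 ⟨_, pow_mem hh _, rfl⟩),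
                  ← Perm.mul_apply, ← pow_add,
                  show l + (p - 1) * l = p * l by
                    rw [Nat.sub_one_mul]; have := Nat.le_mul_of_pos_left l hp.pos; omega,
                  pow_mul, hpowp h hh, one_pow]
                rfl
              · have hbR : b ∉ R ∧ O b = s' := by
                  obtain ⟨hr', ho'⟩ := And.intro (hrepR _ (hsub.2 hs')) (hrepO _ (hsub.2 hs'))
                  rw [← ho'] at hb
                  exact ⟨hOR _ hr' b hb, (hOeq _ b hb).trans ho'⟩
                have hb' : (n : Perm α)⁻¹ b ∈ s' := hbR.2 ▸ hD n⁻¹ (inv_mem hn) b hbR.1 b (hOself b)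
                rw [Perm.mul_apply, Perm.pow_apply_eq_self_of_apply_eq_self (hS s' hs' b hb),
                  Perm.mul_apply, Perm.mul_apply, hS s' hs' _ hb']
                simp
        obtain ⟨h, hh, hha, hS⟩ := hsep (Qs.erase q) (Finset.erase_subset _ _) (Finset.notMem_erase _ _)
        have h1 : h = 1 := hnocyc h hh (rep q) fun b hb => by
          by_cases hbR : b ∈ R
          · exact hPR h hh b hbR
          · refine hS (O b) (Finset.mem_erase.2 ⟨fun he' => hb ?_,
              Finset.mem_image_of_mem O (Finset.mem_compl.2 hbR)⟩) b (hOself b)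
            rw [hrepO q hq, ← he']; exact hOself b
        exact hha (by rw [h1]; rfl)
      · push Not at hne
        obtain ⟨q0, hq0⟩ : Qs.Nonempty := Finset.card_pos.1 (by omega)
        refine ⟨i (rep q0), fun g hg => hext _ _ (hNP n n.2 g hg) (pow_mem hg _) fun a ha => ?_⟩
        have hqa : O a ∈ Qs := Finset.mem_image_of_mem O (Finset.mem_compl.2 ha)
        have hmem : a ∈ O (rep (O a)) := by rw [hrepO _ hqa]; exact hOself a
        rw [hi _ (hrepR _ hqa) g hg a hmem]
        have hmod : i (rep (O a)) ≡ i (rep q0) [MOD p] :=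
          (ZMod.natCast_eq_natCast_iff _ _ _).1 (hne _ hqa _ hq0)
        rw [pow_eq_pow_of_modEq hmod (hpowp g hg)]
    let T : Subgroup ↥N :=
      { carrier := {c | c ∈ ψ.ker ∧ ∀ g ∈ P, (c : Perm α) * g = g * c}
        mul_mem' := fun {c d} hc hd => ⟨mul_mem hc.1 hd.1, fun g hg => by
          push_cast; rw [mul_assoc, hd.2 g hg, ← mul_assoc, hc.2 g hg, mul_assoc]⟩
        one_mem' := ⟨one_mem _, fun g _ => by simp⟩
        inv_mem' := fun {c} hc => ⟨inv_mem hc.1, fun g hg => by
          push_cast; rw [eq_comm, eq_inv_mul_iff_mul_eq, ← mul_assoc, hc.2 g hg, mul_inv_cancel_right]⟩ }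
    haveI hTn : T.Normal := ⟨fun c hc n => ⟨(MonoidHom.normal_ker ψ).conj_mem c hc.1 n,
      fun g hg => by
        have h1 := hc.2 _ (hNP' n n.2 g hg)
        push_cast
        calc (n : Perm α) * c * (n : Perm α)⁻¹ * g =
            (n : Perm α) * ((c : Perm α) * ((n : Perm α)⁻¹ * g * n)) * (n : Perm α)⁻¹ := by group
          _ = _ := by rw [h1]; group⟩⟩
    have hDN : ∀ n m : ↥N, n ∈ ψ.ker → ⁅n, m⁆ ∈ T := by
      intro n m hn
      obtain ⟨i, hi⟩ := hconst n hn
      refine ⟨?_, fun g hg => mul_inv_eq_iff_eq_mul.1 (hcommutator n m (fun h hh => ?_) g hg)⟩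
      · rw [MonoidHom.mem_ker, map_commutatorElement, MonoidHom.mem_ker.1 hn,
          commutatorElement_one_left]
      · rw [hi _ (hNP m m.2 h hh), hi h hh, conj_pow]
    have htriv : ∀ σ ∈ T.map ρ, σ = 1 := by
      haveI : (T.map ρ).Normal := hTn.map ρ hρ
      have hpow : ∀ σ ∈ T.map ρ, σ ^ p = 1 := by
        rintro _ ⟨c, hc, rfl⟩; rw [← map_pow, hTp c hc.1 hc.2, map_one]
      intro σ hσ
      rcases Nat.lt_or_ge p 5 with hp5 | hp5
      · -- `p = 3`, `r = 4`
        have hp' : p ≠ 4 := by rintro rfl; exact absurd hp (by norm_num)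
        by_cases hk1 : k = 1
        · -- one orbit: `P` contains a `p`-cycle
          exfalso
          obtain ⟨a, ha⟩ : (Rᶜ).Nonempty := Finset.card_pos.1 (by rw [hRcompl, hk1]; omega)
          rw [Finset.mem_compl] at ha
          obtain ⟨g, hg, hga⟩ := hmoves a ha
          refine hga ?_
          have : g = 1 := hnocyc g hg a fun b hb => by
            by_cases hbR : b ∈ R
            · exact hPR g hg b hbR
            · exfalso
              apply hb
              have hsub : O a = Rᶜ := Finset.eq_of_subset_of_card_le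
                (fun b hb => Finset.mem_compl.2 (hOR a ha b hb))
                (by rw [hOcard a ha, hRcompl, hk1, one_mul])
              rw [hsub]; exact Finset.mem_compl.2 hbR
          rw [this]; rfl
        obtain ⟨rfl, rfl⟩ : p = 3 ∧ r = 4 := by omega
        let φ : Perm ↥R ≃* Perm (Fin 4) := Equiv.permCongrHom e.symm
        by_contra hσ1
        obtain ⟨τ, hτ⟩ := perm_fin_four (φ σ) (by rw [← map_pow, hpow σ hσ, map_one])
          (fun h => hσ1 (φ.injective (h.trans (map_one φ).symm)))
        apply hτ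
        have h2 := hpow _ (mul_mem hσ
          (Subgroup.Normal.conj_mem inferInstance σ hσ (φ.symm τ)))
        have h3 := congrArg φ h2
        simpa using h3
      · have ho : orderOf σ ∣ p := orderOf_dvd_of_pow_eq_one (hpow σ hσ)
        have ho' : orderOf σ ∣ r.factorial := by
          rw [← hRc, ← Fintype.card_coe R, ← Fintype.card_perm]
          exact orderOf_dvd_card
        rcases (Nat.dvd_prime hp).1 ho with h | h
        · exact orderOf_eq_one_iff.1 h
        · exfalso
          rw [h] at ho'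
          have := (hp.dvd_factorial).1 ho'
          omega
    have hDker : ψ.ker ≤ ρ.ker := by
      intro n hn
      have hc : ∀ τ, ρ n * τ = τ * ρ n := by
        intro τ
        obtain ⟨m, rfl⟩ := hρ τ
        exact commutatorElement_eq_one_iff_mul_comm.1 (by
          rw [← map_commutatorElement]; exact htriv _ ⟨_, hDN n m hn, rfl⟩)
      rw [MonoidHom.mem_ker]
      let φ : Perm ↥R ≃* Perm (Fin r) := Equiv.permCongrHom e.symm
      have hc' : ∀ τ, φ (ρ n) * τ = τ * φ (ρ n) := fun τ => by
        obtain ⟨τ', rfl⟩ := φ.surjective τ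
        rw [← map_mul, hc, map_mul]
      apply φ.injective
      rw [map_one]
      obtain rfl | rfl : r = 3 ∨ r = 4 := by omega
      · exact center_fin_three _ hc'
      · exact center_fin_four _ hc'
    exact count_contra (by simp [hQs, hRc, hrk]) (by simp; omega) ρ hρ ψ hDker
  · -- `r ≥ 5`
    have hD' : ∀ n m : ↥N, n ∈ ψ.ker → m ∈ ψ.ker → ⁅n, m⁆ ∈ ψ.ker ∧
        ∀ g ∈ P, ((⁅n, m⁆ : ↥N) : Perm α) * g = g * ((⁅n, m⁆ : ↥N) : Perm α) := by
      intro n m hn hm
      refine ⟨?_, fun g hg => mul_inv_eq_iff_eq_mul.1 (hcommutator n m (fun h hh => ?_) g hg)⟩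
      · rw [MonoidHom.mem_ker, map_commutatorElement, MonoidHom.mem_ker.1 hn,
          commutatorElement_one_left]
      · refine hext _ _ (hNP n n.2 _ (hNP m m.2 h hh)) (hNP m m.2 _ (hNP n n.2 h hh)) fun a ha => ?_
        obtain ⟨i, hi⟩ := hmult n hn a ha
        obtain ⟨j, hj⟩ := hmult m hm a ha
        rw [hi _ (hNP m m.2 h hh) a (hOself a), hj _ (hNP n n.2 h hh) a (hOself a),
          hagpow a _ (pow_mem hh j) _ (hj h hh) i a (hOself a),
          hagpow a _ (pow_mem hh i) _ (hi h hh) j a (hOself a), ← pow_mul, ← pow_mul, mul_comm]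
    haveI : Group.IsSolvable ↥(ψ.ker) := by
      refine ⟨⟨2, ?_⟩⟩
      rw [derivedSeries_succ, derivedSeries_one, eq_bot_iff, Subgroup.commutator_le]
      intro c hc d hd
      have hle : commutator ↥(ψ.ker) ≤
          ({ carrier := {c | ∀ g ∈ P, ((c : ↥N) : Perm α) * g = g * (c : ↥N)}
             mul_mem' := fun {c d} hc hd g hg => by
               push_cast; rw [mul_assoc, hd g hg, ← mul_assoc, hc g hg, mul_assoc]
             one_mem' := fun g _ => by simp
             inv_mem' := fun {c} hc g hg => by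
               push_cast
               rw [eq_comm, eq_inv_mul_iff_mul_eq, ← mul_assoc, hc g hg, mul_inv_cancel_right] } :
            Subgroup ↥(ψ.ker)) := by
        rw [commutator_def, Subgroup.commutator_le]
        intro x _ y _
        exact (hD' x y x.2 y.2).2
      rw [Subgroup.mem_bot, commutatorElement_eq_one_iff_mul_comm]
      exact Subtype.ext (hTab c d c.2 d.2 (hle hc) (hle hd))
    haveI : (ψ.ker.map ρ).Normal := (MonoidHom.normal_ker ψ).map ρ hρ
    haveI : Group.IsSolvable ↥(ψ.ker.map ρ) := solvable_of_surjective (ρ.subgroupMap_surjective ψ.ker)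
    have hbot : ψ.ker.map ρ = ⊥ := by
      by_contra hne
      have := (Subgroup.nontrivial_iff_ne_bot _).2 hne
      have hA := Perm.alternatingGroup_le_of_normal (α := ↥R) (by simp; omega) this
      haveI : Group.IsSolvable ↥(alternatingGroup ↥R) :=
        solvable_of_solvable_injective (Subgroup.inclusion_injective hA)
      refine Equiv.Perm.not_solvable ↥R (by simp; omega) ?_
      exact solvable_of_ker_le_range (alternatingGroup ↥R).subtype Perm.sign
        (by rw [Subgroup.range_subtype]; exact le_of_eq rfl)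
    exact count_contra (by simp [hQs, hRc, hrk]) (by simp; omega) ρ hρ ψ (fun n hn => by
      rw [MonoidHom.mem_ker, ← Subgroup.mem_bot, ← hbot]; exact ⟨n, hn, rfl⟩)

end Cfsg.Agent.S4220
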