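import Cfsg.Statements.S3805
import Cfsg.Agent.Lib.ThreeLocal.Main

set_option autoImplicit false
open Cfsg

namespace Cfsg.Agent.S3805

/-- Let G be a finite group whose Sylow 3-subgroup T is elementary abelian of order 9 and self-centralizing, with N_G(T)/T a Klein four-group, and suppose that the centralizer of every nonidentity element of T lies in N_G(T). Then T is normal in G. -/
theorem result {G : Type*} [Group G] [Finite G]
    (T : Sylow 3 G) (hT : Cfsg.IsElementaryAbelian 3 (T : Subgroup G)) (hcard : Nat.card T = 9)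
    (hC : Subgroup.centralizer ((T : Subgroup G) : Set G) = T)
    [hn : ((T : Subgroup G).subgroupOf (Subgroup.normalizer ((T : Subgroup G) : Set G))).Normal]
    (hK : IsKleinFour (↥(Subgroup.normalizer ((T : Subgroup G) : Set G)) ⧸
      (T : Subgroup G).subgroupOf (Subgroup.normalizer ((T : Subgroup G) : Set G))))
    (hloc : ∀ t ∈ (T : Subgroup G), t ≠ 1 →
      Subgroup.centralizer ({t} : Set G) ≤ Subgroup.normalizer ((T : Subgroup G) : Set G)) :
    Subgroup.normalizer ((T : Subgroup G) : Set G) = ⊤ := by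
  haveI := Fintype.ofFinite G
  obtain ⟨-, hTc, hTp⟩ : (T : Subgroup G) = T ∧ IsMulCommutative (T : Subgroup G) ∧
      ∀ x ∈ (T : Subgroup G), x ^ 3 = 1 := ⟨rfl, hT.1, hT.2⟩
  have h : Cfsg.Agent.Lib.ThreeLocal.Data T :=
    ⟨hTp, fun a ha b hb => congrArg Subtype.val (mul_comm' (⟨a, ha⟩ : (T : Subgroup G)) ⟨b, hb⟩),
      hcard, hC, hloc⟩
  set N := Subgroup.normalizer ((T : Subgroup G) : Set G) with hN
  set T' := (T : Subgroup G).subgroupOf N with hT'
  have hq : ∀ g ∈ N, ∀ k ∈ N, g * g ∈ (T : Subgroup G) ∧ g⁻¹ * k⁻¹ * g * k ∈ (T : Subgroup G) := by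
    intro g hg k hk
    constructor
    · have e : QuotientGroup.mk' T' (⟨g, hg⟩ * ⟨g, hg⟩) = 1 := by
        rw [map_mul]; exact IsKleinFour.mul_self _
      exact (QuotientGroup.eq_one_iff (N := T') _).1 e
    · have e : QuotientGroup.mk' T' (⟨g, hg⟩⁻¹ * ⟨k, hk⟩⁻¹ * ⟨g, hg⟩ * ⟨k, hk⟩) = 1 := by
        simp only [map_mul, map_inv, IsKleinFour.inv_eq_self]
        generalize QuotientGroup.mk' T' ⟨g, hg⟩ = x
        generalize QuotientGroup.mk' T' ⟨k, hk⟩ = y
        rw [mul_assoc, IsKleinFour.mul_self]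
      exact (QuotientGroup.eq_one_iff (N := T') _).1 e
  have hN36 : Nat.card N = 36 := by
    rw [Subgroup.card_eq_card_quotient_mul_card_subgroup T', IsKleinFour.card_four,
      Nat.card_congr (Subgroup.subgroupOfEquivOfLe Subgroup.le_normalizer).toEquiv, hcard]
  exact Cfsg.Agent.Lib.ThreeLocal.normalizer_eq_top h hN36 (fun g hg => (hq g hg g hg).1)
    (fun g hg k hk => (hq g hg k hk).2)

end Cfsg.Agent.S3805
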