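import Cfsg.Statements.S5432
import Cfsg.Agent.Lib.ExtraTwo.Coord

set_option autoImplicit false
open Cfsg

namespace Cfsg.Agent.S5432

open Subgroup Cfsg.Agent.Lib.ExtraStruct Cfsg.Agent.Lib.ExtraTwoCoord
open scoped commutatorElement

theorem plus_add (m : ℕ) (u v : Fin m ⊕ Fin m → ZMod 2) :
    Cfsg.quadFormPlus m (ZMod 2) (u + v) = Cfsg.quadFormPlus m (ZMod 2) u +
      Cfsg.quadFormPlus m (ZMod 2) v + ∑ i, u i * v (Sum.swap i) := by
  simp only [Cfsg.quadFormPlus, Pi.add_apply, Fintype.sum_sum_type, Sum.swap_inl, Sum.swap_inr,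
    ← Finset.sum_add_distrib]
  exact Finset.sum_congr rfl fun i _ => by ring

/-- Pairing on the index set of the minus form. -/
def swapMinus (m : ℕ) : (Fin m ⊕ Fin m) ⊕ Fin 2 → (Fin m ⊕ Fin m) ⊕ Fin 2 :=
  Sum.map Sum.swap (Equiv.swap 0 1)

theorem minus_add (m : ℕ) (u v : (Fin m ⊕ Fin m) ⊕ Fin 2 → ZMod 2) :
    Cfsg.quadFormMinus m (ZMod 2) 1 1 (u + v) = Cfsg.quadFormMinus m (ZMod 2) 1 1 u +
      Cfsg.quadFormMinus m (ZMod 2) 1 1 v + ∑ i, u i * v (swapMinus m i) := by
  simp only [Cfsg.quadFormMinus, swapMinus, Pi.add_apply, Fintype.sum_sum_type, Sum.map_inl,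
    Sum.map_inr, Sum.swap_inl, Sum.swap_inr, Fin.sum_univ_two, Equiv.swap_apply_left,
    Equiv.swap_apply_right]
  have e : ∀ a b c d : Fin m → ZMod 2, ∑ i, (a i + b i) * (c i + d i) =
      ∑ i, a i * c i + ∑ i, b i * d i + (∑ i, a i * d i + ∑ i, c i * b i) := by
    intro a b c d
    simp only [← Finset.sum_add_distrib]
    exact Finset.sum_congr rfl fun i _ => by ring
  rw [e]
  generalize u (Sum.inr 0) = u0
  generalize u (Sum.inr 1) = u1
  generalize v (Sum.inr 0) = v0
  generalize v (Sum.inr 1) = v1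
  have h2 : (2 : ZMod 2) = 0 := rfl
  linear_combination (u0 * v0 + u1 * v1) * h2

theorem minus_singular_le (m : ℕ) (W : Submodule (ZMod 2) ((Fin m ⊕ Fin m) ⊕ Fin 2 → ZMod 2))
    (hW : ∀ v ∈ W, Cfsg.quadFormMinus m (ZMod 2) 1 1 v = 0) : Module.finrank (ZMod 2) W ≤ m := by
  let P : W →ₗ[ZMod 2] (Fin m → ZMod 2) :=
    (LinearMap.funLeft (ZMod 2) (ZMod 2) (fun i => Sum.inl (Sum.inl i))).comp W.subtype
  have hker : ∀ v : P.ker, (∀ i, (v : W).1 (.inl (.inl i)) = 0) ∧ (∀ i, (v : W).1 (.inr i) = 0) := by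
    rintro ⟨⟨v, hv⟩, hvP⟩
    have hx : ∀ i, v (.inl (.inl i)) = 0 := fun i => congrFun (LinearMap.mem_ker.1 hvP) i
    refine ⟨hx, ?_⟩
    have h0 := hW v hv
    simp only [Cfsg.quadFormMinus, hx, zero_mul, Finset.sum_const_zero, zero_add] at h0
    have key : ∀ a b : ZMod 2, a ^ 2 + 1 * a * b + 1 * b ^ 2 = 0 → a = 0 ∧ b = 0 := by decide
    obtain ⟨ha, hb⟩ := key _ _ h0
    exact Fin.forall_fin_two.2 ⟨ha, hb⟩
  let R : P.ker →ₗ[ZMod 2] Module.Dual (ZMod 2) (Fin m → ZMod 2) :=
    (dotProductEquiv (ZMod 2) (Fin m)).toLinearMap.comp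
      ((LinearMap.funLeft (ZMod 2) (ZMod 2) (fun i => Sum.inl (Sum.inr i))).comp
        (W.subtype.comp P.ker.subtype))
  have hR : ∀ v, R v ∈ P.range.dualAnnihilator := by
    intro v
    rw [Submodule.mem_dualAnnihilator]
    rintro _ ⟨w, rfl⟩
    obtain ⟨hx, hz⟩ := hker v
    have e := minus_add m (w : W).1 (v : W).1
    rw [hW _ w.2, hW _ v.1.2, hW _ (W.add_mem w.2 v.1.2), zero_add, zero_add] at e
    simp only [swapMinus, Fintype.sum_sum_type, Sum.map_inl, Sum.map_inr, Sum.swap_inl,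
      Sum.swap_inr, hx, hz, mul_zero, Finset.sum_const_zero, add_zero] at e
    show (fun i => (v : W).1 (.inl (.inr i))) ⬝ᵥ (fun i => (w : W).1 (.inl (.inl i))) = 0
    rw [e, dotProduct]
    exact Finset.sum_congr rfl fun i _ => mul_comm _ _
  have hinj : Function.Injective (R.codRestrict P.range.dualAnnihilator hR) := by
    refine Function.Injective.of_comp (f := Subtype.val) ?_
    show Function.Injective R
    refine (injective_iff_map_eq_zero R).2 fun v hv => ?_
    have hy : (fun i => (v : W).1 (.inl (.inr i))) = 0 :=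
      (LinearEquiv.map_eq_zero_iff (dotProductEquiv (ZMod 2) (Fin m))).1 hv
    obtain ⟨hx, hz⟩ := hker v
    refine Subtype.ext (Subtype.ext (funext ?_))
    rintro ((i | i) | i)
    exacts [hx i, congrFun hy i, hz i]
  have h1 := LinearMap.finrank_le_finrank_of_injective hinj
  have h2 := Subspace.finrank_add_finrank_dualAnnihilator_eq P.range
  have h3 := LinearMap.finrank_range_add_finrank_ker P
  rw [Module.finrank_fintype_fun_eq_card, Fintype.card_fin] at h2
  omega



/-- Let E be an extraspecial 2-group of order 2^(2n+1), n ≥ 1. If E contains an elementary abelian subgroup of order 2^(n+1) (plus type), then its outer automorphism group is isomorphic to the full isometry group of the hyperbolic quadratic form in dimension 2n over the field with two elements; otherwise (minus type) it is isomorphic to the full isometry group of the elliptic quadratic form in dimension 2n over that field. -/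
theorem result {E : Type*} [Group E] [Finite E] (hE : Cfsg.IsExtraspecial 2 E) (n : ℕ) (hn : 1 ≤ n) (hcard : Nat.card E = 2 ^ (2 * n + 1)) : ((∃ A : Subgroup E, Cfsg.IsElementaryAbelian 2 A ∧ Nat.card ↥A = 2 ^ (n + 1)) → Nonempty (Cfsg.Out E ≃* Cfsg.isometryGroup (ZMod 2) (Cfsg.quadFormPlus n (ZMod 2)))) ∧ ((¬ ∃ A : Subgroup E, Cfsg.IsElementaryAbelian 2 A ∧ Nat.card ↥A = 2 ^ (n + 1)) → Nonempty (Cfsg.Out E ≃* Cfsg.isometryGroup (ZMod 2) (Cfsg.quadFormMinus (n - 1) (ZMod 2) 1 1))) := by
  obtain ⟨k, rfl⟩ : ∃ k, n = k + 1 := ⟨n - 1, by omega⟩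
  haveI : Fact (Nat.Prime 2) := ⟨Nat.prime_two⟩
  have h := extraLike_of_isExtraspecial hE
  have hc3 : Nat.card E = 2 ^ (2 * k + 3) := by rw [hcard]; congr 1
  obtain ⟨e, x, y, p, q, hx, hy, hp, hq, hpq, hxy, hxx, hyy, hxp, hxq, hyp, hyq⟩ :=
    exists_family h k hc3
  have hyx : ∀ i j, bit ⁅y i, x j⁆ = if i = j then 1 else 0 := fun i j => by
    rw [bit_comm_symm h, hxy]; exact if_congr eq_comm rfl rfl
  have hpx : ∀ i, bit ⁅p, x i⁆ = 0 := fun i => (bit_comm_symm h _ _).trans (hxp i)
  have hqx : ∀ i, bit ⁅q, x i⁆ = 0 := fun i => (bit_comm_symm h _ _).trans (hxq i)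
  have hpy : ∀ i, bit ⁅p, y i⁆ = 0 := fun i => (bit_comm_symm h _ _).trans (hyp i)
  have hqy : ∀ i, bit ⁅q, y i⁆ = 0 := fun i => (bit_comm_symm h _ _).trans (hyq i)
  have hqp : bit ⁅q, p⁆ = 1 := (bit_comm_symm h _ _).trans hpq
  show _ ∧ (_ → Nonempty (Cfsg.Out E ≃* Cfsg.isometryGroup (ZMod 2) (Cfsg.quadFormMinus k (ZMod 2) 1 1)))
  rcases zmod_two_cases e with rfl | rfl
  · -- plus type
    obtain ⟨π, hsurj, hker, hQ⟩ := exists_coord h (ι := Fin (k + 1) ⊕ Fin (k + 1))
      (by rw [hc3, Fintype.card_sum, Fintype.card_fin, ← pow_succ']; congr 1; omega)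
      Sum.swap (fun i => by cases i <;> rfl) (Cfsg.quadFormPlus (k + 1) (ZMod 2)) (plus_add (k + 1))
      (Sum.elim (Fin.cons p x) (Fin.cons q y))
      (by
        rintro (i | i) (j | j) <;> refine Fin.cases ?_ (fun i => ?_) i <;>
          refine Fin.cases ?_ (fun j => ?_) j <;>
          simp [hxy, hyx, hxx, hyy, hxp, hxq, hyp, hyq, hpq, hqp, hpx, hqx, hpy, hqy, bit_one,
            eq_comm, (Fin.succ_ne_zero _).symm])
      (by
        rintro (i | i) <;> refine Fin.cases ?_ (fun i => ?_) i <;>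
          simp [hx, hy, hp, hq, Cfsg.quadFormPlus, Pi.single_apply])
    refine ⟨fun _ => nonempty_out_equiv h hsurj hker hQ, fun hno => absurd ?_ hno⟩
    let W : Subgroup (Multiplicative (Fin (k + 1) ⊕ Fin (k + 1) → ZMod 2)) :=
      { carrier := {v | ∀ i, Multiplicative.toAdd v (.inr i) = 0}
        one_mem' := fun i => rfl
        mul_mem' := fun {a b} ha hb i => by rw [toAdd_mul, Pi.add_apply, ha i, hb i, add_zero]
        inv_mem' := fun {a} ha i => by rw [toAdd_inv, Pi.neg_apply, ha i, neg_zero] }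
    have hsq : ∀ a ∈ W.comap π, a ^ 2 = 1 := fun a ha => (hQ a).2 (by
      simp only [Cfsg.quadFormPlus]
      exact Finset.sum_eq_zero fun i _ => by rw [show _ = (0 : ZMod 2) from ha i, mul_zero])
    refine ⟨W.comap π, ⟨⟨⟨fun a b => Subtype.ext ?_⟩⟩, hsq⟩, ?_⟩
    · have e1 := hsq _ (mul_mem a.2 b.2)
      have ea := hsq _ a.2
      have eb := hsq _ b.2
      simp only [sq] at e1 ea eb
      show (a : E) * b = b * a
      calc (a : E) * b = ((a : E) * b)⁻¹ := (inv_eq_of_mul_eq_one_right e1).symm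
        _ = (b : E) * a := by
          rw [mul_inv_rev, inv_eq_of_mul_eq_one_right eb, inv_eq_of_mul_eq_one_right ea]
    · let eW : W ≃ (Fin (k + 1) → ZMod 2) :=
        { toFun := fun v i => Multiplicative.toAdd v.1 (.inl i)
          invFun := fun f => ⟨Multiplicative.ofAdd (Sum.elim f 0), fun i => rfl⟩
          left_inv := fun v => Subtype.ext (Multiplicative.toAdd.injective (funext fun i => by
            cases i with
            | inl i => rfl
            | inr i => exact (v.2 i).symm))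
          right_inv := fun f => rfl }
      let f : W.comap π →* W := (π.comp (W.comap π).subtype).codRestrict W fun a => a.2
      have hf : Function.Surjective f := fun w => by
        obtain ⟨g, hg⟩ := hsurj w.1
        exact ⟨⟨g, show π g ∈ W from hg ▸ w.2⟩, Subtype.ext hg⟩
      have e1 := card_mul_index f.ker
      rw [index_ker, MonoidHom.range_eq_top.mpr hf, card_top, Nat.card_congr eW,
        Nat.card_eq_fintype_card (α := Fin (k + 1) → ZMod 2), Fintype.card_fun, ZMod.card,
        Fintype.card_fin] at e1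
      have e2 : Nat.card f.ker = 2 := by
        refine Eq.trans ?_ h.card_center
        refine Nat.card_congr
          { toFun := fun a => ⟨a.1.1, hker ▸ MonoidHom.mem_ker.2 (congrArg Subtype.val a.2)⟩
            invFun := fun c => ⟨⟨c.1, show π c.1 ∈ W by
              rw [MonoidHom.mem_ker.1 (hker.symm ▸ c.2 : c.1 ∈ π.ker)]; exact one_mem _⟩,
              Subtype.ext (MonoidHom.mem_ker.1 (hker.symm ▸ c.2 : c.1 ∈ π.ker))⟩
            left_inv := fun a => rfl
            right_inv := fun c => rfl }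
      rw [← e1, e2]; ring
  · -- minus type
    obtain ⟨π, hsurj, hker, hQ⟩ := exists_coord h (ι := (Fin k ⊕ Fin k) ⊕ Fin 2)
      (by rw [hc3, Fintype.card_sum, Fintype.card_sum, Fintype.card_fin, Fintype.card_fin,
        ← pow_succ']; congr 1; omega)
      (swapMinus k) (fun i => by rcases i with (i | i) | i <;> simp [swapMinus])
      (Cfsg.quadFormMinus k (ZMod 2) 1 1) (minus_add k)
      (Sum.elim (Sum.elim x y) ![p, q])
      (by
        rintro ((i | i) | i) ((j | j) | j) <;> (try fin_cases i) <;> (try fin_cases j) <;>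
          simp [swapMinus, hxy, hyx, hxx, hyy, hxp, hxq, hyp, hyq, hpq, hqp, hpx, hqx, hpy, hqy,
            bit_one, eq_comm])
      (by
        rintro ((i | i) | i) <;> (try fin_cases i) <;>
          simp [hx, hy, hp, hq, Cfsg.quadFormMinus, Pi.single_apply])
    refine ⟨?_, fun _ => nonempty_out_equiv h hsurj hker hQ⟩
    rintro ⟨A, ⟨-, hA⟩, hAc⟩
    exfalso
    let W : AddSubgroup ((Fin k ⊕ Fin k) ⊕ Fin 2 → ZMod 2) := Subgroup.toAddSubgroup' (A.map π)
    have hW : Module.finrank (ZMod 2) (AddSubgroup.toZModSubmodule 2 W) ≤ k := by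
      refine minus_singular_le k _ ?_
      rintro v hv
      obtain ⟨a, ha, hav⟩ := (hv : Multiplicative.ofAdd v ∈ A.map π)
      have e := (hQ a).1 (hA a ha)
      rwa [hav] at e
    have hcW : Nat.card (A.map π) ≤ 2 ^ k := by
      have e := Module.natCard_eq_pow_finrank (K := ZMod 2) (V := ↥(AddSubgroup.toZModSubmodule 2 W))
      rw [Nat.card_zmod] at e
      calc Nat.card (A.map π) = Nat.card ↥(AddSubgroup.toZModSubmodule 2 W) := rfl
        _ ≤ 2 ^ k := e ▸ Nat.pow_le_pow_right (by norm_num) hW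
    let f : A →* A.map π := π.subgroupMap A
    have e1 := card_mul_index f.ker
    rw [index_ker, MonoidHom.range_eq_top.mpr (π.subgroupMap_surjective A), card_top, hAc] at e1
    have e2 : Nat.card f.ker ≤ 2 := by
      refine le_of_le_of_eq ?_ h.card_center
      refine Nat.card_le_card_of_injective
        (fun a => (⟨a.1.1, hker ▸ MonoidHom.mem_ker.2 (congrArg Subtype.val a.2)⟩ : center E)) ?_
      intro a b hab
      exact Subtype.ext (Subtype.ext (congrArg (fun c : center E => (c : E)) hab))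
    have : 2 ^ (k + 1 + 1) ≤ 2 * 2 ^ k := e1 ▸ Nat.mul_le_mul e2 hcW
    rw [pow_succ, pow_succ] at this
    have := Nat.two_pow_pos k
    omega

end Cfsg.Agent.S5432
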