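import Cfsg.Statements.S4607
import Cfsg.Agent.Lib.Contrib.BlockTwo
import Cfsg.Agent.Lib.Contrib.Matrix
import Cfsg.Agent.Lib.Blocks.DefectTwo
import Cfsg.Agent.S4733

set_option autoImplicit false
open Cfsg

namespace Cfsg.Agent.S4607

open Cfsg.Agent.Lib
open Cfsg.Agent.Lib.Blocks

variable {G : Type*} [Group G] [Fintype G] {p : ℕ} [Fact p.Prime] {M : Ideal AlgInt} [M.IsPrime]
  {B : Set (IrrCharacter G)}

/-- A block of positive defect has more than one character. -/
theorem one_lt_card (hM : IsPModular p M) (hB : IsPBlock M B) (hd : blockDefect p B ≠ 0) :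
    1 < Nat.card B := by
  classical
  obtain ⟨N, lam, hN, hlR, hlU, hc⟩ := Lib.Contrib.exists_intMatrix hM hB
  obtain ⟨χ, hχ, h0⟩ := Blocks.exists_height_zero (p := p) hB
  have hne : 0 < Nat.card B := by
    haveI : Nonempty B := ⟨⟨χ, hχ⟩⟩
    exact Nat.card_pos
  by_contra hle
  obtain ⟨hrank, -, h3⟩ := S4733.result p M hM B hB
  have h1 : Nat.card B = 1 := by omega
  rcases Nat.lt_or_ge (blockRank p B) 1 with hr | hr
  · have hsingle : B.toFinset = {χ} := by
      rw [Nat.card_eq_card_toFinset, Finset.card_eq_one] at h1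
      obtain ⟨ψ, hψ⟩ := h1
      rw [hψ, Finset.singleton_inj]
      exact (Finset.mem_singleton.1 (hψ ▸ Set.mem_toFinset.2 hχ)).symm
    have hr0 : blockRank p B = 0 := by omega
    have hzero : (N χ χ : ℂ) = 0 := by
      rw [hN χ hχ χ]
      have hsum := BrauerFeit.blockRank_eq_sum_regCoef hM hB
      rw [hr0, Nat.cast_zero, hsingle, Finset.sum_singleton] at hsum
      rw [← hsum, mul_zero]
    refine not_memLocalIdeal_mul (mem_localRing.1 (mul_mem (mem_localRing.2 hlR)
      (mem_localRing.2 (Lib.Contrib.degree_div_mem hM hχ)))) (Lib.Contrib.degree_div_mem hM hχ)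
      (not_memLocalIdeal_mul hlR (Lib.Contrib.degree_div_mem hM hχ) hlU
        (Lib.Contrib.degree_div_not_mem hM hχ h0)) (Lib.Contrib.degree_div_not_mem hM hχ h0) ?_
    have h := memLocalIdeal_neg (hc χ hχ χ hχ)
    simpa [hzero] using h
  · exact hd (h3.2 (by omega))

/-- A block with exactly two characters has defect one for the prime two. -/
theorem defect_eq_one (hM : IsPModular p M) (hB : IsPBlock M B) (h2 : Nat.card B = 2) :
    p = 2 ∧ blockDefect p B = 1 := by
  classical
  have hp : p.Prime := hM.1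
  have hd : blockDefect p B ≠ 0 := fun h => by
    have := ((S4733.result p M hM B hB).2.1.1 h).1
    omega
  obtain ⟨N, lam, hN, hlR, hlU, hc⟩ := Lib.Contrib.exists_intMatrix hM hB
  obtain ⟨χ, hχ, h0⟩ := Blocks.exists_height_zero (p := p) hB
  rw [Nat.card_eq_card_toFinset] at h2
  obtain ⟨ψ, hψeq⟩ : ∃ ψ, B.toFinset.erase χ = {ψ} := Finset.card_eq_one.1 (by
    rw [Finset.card_erase_of_mem (Set.mem_toFinset.2 hχ), h2])
  have hψm : ψ ∈ B.toFinset.erase χ := by rw [hψeq]; exact Finset.mem_singleton_self ψ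
  obtain ⟨hne, hψ'⟩ := Finset.mem_erase.1 hψm
  have hψ : ψ ∈ B := Set.mem_toFinset.1 hψ'
  have hsum : ∀ f : IrrCharacter G → ℂ, ∑ η ∈ B.toFinset, f η = f χ + f ψ := fun f => by
    rw [← Finset.add_sum_erase _ _ (Set.mem_toFinset.2 hχ), hψeq, Finset.sum_singleton]
  set a := N χ χ
  set c := N χ ψ
  set q : ℤ := (p : ℤ) ^ blockDefect p B
  have hq0 : q ≠ 0 := pow_ne_zero _ (by exact_mod_cast hp.ne_zero)
  have hsym : N ψ χ = c := by
    have : (N ψ χ : ℂ) = (c : ℂ) := by rw [hN ψ hψ χ, hN χ hχ ψ, BrauerFeit.regCoef_comm]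
    exact_mod_cast this
  have e1 : a * a + c * c = q * a := by
    have : ((a * a + c * c : ℤ) : ℂ) = ((q * a : ℤ) : ℂ) := by
      have h := congrArg (fun w => (p : ℂ) ^ blockDefect p B * (p : ℂ) ^ blockDefect p B * w)
        (BrauerFeit.sum_toFinset_regCoef_mul (BrauerFeit.regOrth hM) hB (φ := χ) hχ)
      simp only [hsum] at h
      rw [BrauerFeit.regCoef_comm p ψ χ] at h
      simp only [a, c, q]
      push_cast
      rw [hN χ hχ χ, hN χ hχ ψ]
      linear_combination h
    exact_mod_cast this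
  have haU : ¬ (p : ℤ) ∣ a := fun h => by
    refine not_memLocalIdeal_mul (mem_localRing.1 (mul_mem (mem_localRing.2 hlR)
      (mem_localRing.2 (Lib.Contrib.degree_div_mem hM hχ)))) (Lib.Contrib.degree_div_mem hM hχ)
      (not_memLocalIdeal_mul hlR (Lib.Contrib.degree_div_mem hM hχ) hlU
        (Lib.Contrib.degree_div_not_mem hM hχ h0)) (Lib.Contrib.degree_div_not_mem hM hχ h0) ?_
    simpa [a] using memLocalIdeal_sub ((memLocalIdeal_intCast_iff hM a).2 h) (hc χ hχ χ hχ)
  have hc0 : c ≠ 0 := fun h => haU (by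
    rw [h, mul_zero, add_zero] at e1
    rcases mul_eq_mul_right_iff.1 e1 with h' | h'
    · rw [h']
      exact dvd_pow_self _ hd
    · rw [h']; exact dvd_zero _)
  set dχ := charDegree (χ : G → ℂ)
  set dψ := charDegree (ψ : G → ℂ)
  have e2 : a * (dχ : ℤ) + c * (dψ : ℤ) = q * (dχ : ℤ) := by
    have h := BrauerFeit.pRegularPart_eq_finsum (BrauerFeit.regOrth hM) hB hχ (1 : G)
    rw [BrauerFeit.pRegularPart_apply, if_neg (by rw [orderOf_one]; exact hp.not_dvd_one),
      finsum_mem_eq_toFinset_sum, hsum, (exists_degree_eq χ).1, (exists_degree_eq ψ).1] at h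
    have : ((a * (dχ : ℤ) + c * (dψ : ℤ) : ℤ) : ℂ) = ((q * (dχ : ℤ) : ℤ) : ℂ) := by
      simp only [a, c, q]
      push_cast
      rw [hN χ hχ χ, hN χ hχ ψ]
      simp only [dχ, dψ]
      linear_combination -((p : ℂ) ^ blockDefect p B) * h
    exact_mod_cast this
  have e3 : a * ((dχ : ℤ) ^ 2 + (dψ : ℤ) ^ 2) = q * (dχ : ℤ) ^ 2 := by
    refine mul_left_cancel₀ (pow_ne_zero 2 hc0) ?_
    linear_combination a * (c * (dψ : ℤ) + q * (dχ : ℤ) - a * (dχ : ℤ)) * e2 +
      (a - q) * (dχ : ℤ) ^ 2 * e1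
  obtain ⟨P, -⟩ : ∃ P : Sylow p G, True := ⟨default, trivial⟩
  have hdvd := Lib.Contrib.sq_card_dvd_two_mul_sum hM hB h2.le P.isPGroup'
  rw [P.card_eq_multiplicity] at hdvd
  have hN' : ∑ η ∈ B.toFinset, charDegree (η : G → ℂ) ^ 2 = dχ ^ 2 + dψ ^ 2 := by
    rw [← Finset.add_sum_erase _ _ (Set.mem_toFinset.2 hχ), hψeq, Finset.sum_singleton]
  rw [hN'] at hdvd
  set e := (Nat.card G).factorization p
  have hdχ : dχ ≠ 0 := (exists_degree_eq χ).2.1
  have hv := BrauerFeit.factorization_add_defect (p := p) hχ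
  rw [h0, add_zero] at hv
  have h3 : ((p ^ e) ^ 2 : ℕ) ∣ 2 * p ^ blockDefect p B * dχ ^ 2 := by
    have h4 : (((p ^ e) ^ 2 : ℕ) : ℤ) ∣ ((2 * p ^ blockDefect p B * dχ ^ 2 : ℕ) : ℤ) := by
      have h5 : (((p ^ e) ^ 2 : ℕ) : ℤ) ∣ a * ((2 * (dχ ^ 2 + dψ ^ 2) : ℕ) : ℤ) :=
        dvd_mul_of_dvd_right (Int.natCast_dvd_natCast.2 hdvd) _
      convert h5 using 1
      push_cast
      linear_combination -2 * e3
    exact_mod_cast h4
  have hp0 := hp.ne_zero
  have h6 := (Nat.factorization_le_iff_dvd (by positivity) (by positivity)).2 h3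
  have h7 := h6 p
  rw [← pow_mul, hp.factorization_pow, Finsupp.single_eq_same, Nat.factorization_mul (by positivity)
    (by positivity), Nat.factorization_mul two_ne_zero (by positivity)] at h7
  simp only [Finsupp.coe_add, Pi.add_apply, Nat.factorization_pow, Finsupp.coe_smul, Pi.smul_apply,
    smul_eq_mul, hp.factorization_self] at h7
  change dχ.factorization p + _ = _ at hv
  rcases eq_or_ne p 2 with hp2 | hp2
  · subst hp2
    rw [Nat.prime_two.factorization_self] at h7
    exact ⟨rfl, by omega⟩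
  · rw [Nat.Prime.factorization Nat.prime_two, Finsupp.single_eq_of_ne hp2] at h7
    exact absurd (show blockDefect p B = 0 by omega) hd

/-- Let G be a finite group, p a prime, M a maximal ideal of the algebraic integers containing p, and B a p-block of G with defect group D. Then B contains exactly two irreducible characters if and only if D has order 2. -/
theorem result {G : Type*} [Group G] [Finite G] (p : ℕ) [Fact p.Prime] (M : Ideal Cfsg.AlgInt) (hM : Cfsg.IsPModular p M) (B : Set (Cfsg.IrrCharacter G)) (hB : Cfsg.IsPBlock M B) (D : Subgroup G) (hD : Cfsg.IsDefectGroup p M B D) : Nat.card B = 2 ↔ Nat.card D = 2 := by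
  have := Blocks.isPModular_isPrime hM
  cases nonempty_fintype G
  have hcard := Blocks.card_defectGroup hM hB hD
  constructor
  · intro h
    obtain ⟨rfl, hd⟩ := defect_eq_one hM hB h
    rw [hcard, hd, pow_one]
  · intro h
    rw [hcard] at h
    obtain ⟨rfl, hd⟩ : p = 2 ∧ blockDefect p B = 1 := by
      obtain ⟨h1, h2⟩ := (Nat.Prime.pow_eq_iff Nat.prime_two).1 h
      exact ⟨h1, h2⟩
    have h1 := DefectTwo.card_le_two hM hB hd.le
    have h2 := one_lt_card hM hB (by omega)
    omega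

end Cfsg.Agent.S4607
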