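import Cfsg.Statements.S1012
import Mathlib
import Cfsg.Agent.Lib.SmallGroups.Basic
import Cfsg.Agent.Lib.SmallGroups.PrimeSylow

set_option autoImplicit false
set_option linter.style.haveILetI false
open Cfsg
open Cfsg.Agent.Lib.SmallGroups Subgroup

namespace Cfsg.Agent.S1012

/-- A group of order 24 containing no element of order 6 is isomorphic to the symmetric group of degree 4. -/
theorem result {G : Type*} [Group G] [Finite G] (h : Nat.card G = 24) (h6 : ∀ g : G, orderOf g ≠ 6) : Nonempty (G ≃* Equiv.Perm (Fin 4)) := by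
  classical
  haveI : Fact (Nat.Prime 3) := ⟨by norm_num⟩
  have hc : Nat.card G = 3 ^ 1 * 8 := by rw [h]; norm_num
  have P : Sylow 3 G := default
  have hP : Nat.card (P : Subgroup G) = 3 := card_sylow_eq P hc (by norm_num)
  -- no even order centralizer of a 3-element
  have hC : ¬ 2 ∣ Nat.card (centralizer ((P : Subgroup G) : Set G)) := by
    intro h2
    haveI : Fact (Nat.Prime 2) := ⟨Nat.prime_two⟩
    obtain ⟨⟨x, hx⟩, hx2⟩ := exists_prime_orderOf_dvd_card' 2 h2
    rw [orderOf_mk] at hx2
    haveI : Nontrivial (P : Subgroup G) := Finite.one_lt_card_iff_nontrivial.mp (by rw [hP]; norm_num)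
    obtain ⟨⟨y, hy⟩, hy1⟩ := exists_ne (1 : (P : Subgroup G))
    have hy3 := orderOf_eq_of_prime hP hy fun e => hy1 (Subtype.ext e)
    refine h6 (x * y) ?_
    rw [(show Commute x y from (mem_centralizer_iff.mp hx y hy).symm).orderOf_mul_eq_mul_orderOf_of_coprime
      (by rw [hx2, hy3]; norm_num), hx2, hy3]
  have hn : Nat.card (Sylow 3 G) = 4 := by
    have h1 := card_sylow_dvd hc (by norm_num)
    have h2 := card_sylow_modEq_one 3 G
    have h3 : Nat.card (Sylow 3 G) ≠ 1 := by
      intro h3
      obtain ⟨e, he, hN⟩ := exists_card_normalizer_eq hP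
      have h4 := card_normalizer_sylow_mul P
      rw [h3, mul_one, hN, h] at h4
      have : e = 1 ∨ e = 2 := (Nat.dvd_prime Nat.prime_two).mp he
      apply hC
      rcases this with rfl | rfl <;> omega
    have h5 := Nat.le_of_dvd (by norm_num) h1
    rw [Nat.ModEq] at h2
    interval_cases hk : Nat.card (Sylow 3 G) <;> norm_num at *
  haveI := Fintype.ofFinite (Sylow 3 G)
  have hbij : Function.Bijective (MulAction.toPermHom G (Sylow 3 G)) := by
    rw [Nat.bijective_iff_injective_and_card, Nat.card_perm, h, hn]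
    refine ⟨?_, rfl⟩
    rw [← MonoidHom.ker_eq_bot_iff]
    set K := (MulAction.toPermHom G (Sylow 3 G)).ker with hK
    have hKN : ∀ Q : Sylow 3 G, K ≤ normalizer ((Q : Subgroup G) : Set G) := fun Q x hx => by
      have h1 : x • Q = Q := Equiv.congr_fun (MonoidHom.mem_ker.mp hx) Q
      exact Sylow.smul_eq_iff_mem_normalizer.mp h1
    have hN6 : Nat.card (normalizer ((P : Subgroup G) : Set G)) = 6 := by
      have h4 := card_normalizer_sylow_mul P
      rw [hn, h] at h4
      omega
    have hKcard : Nat.card K ∣ 6 := hN6 ▸ card_dvd_of_le (hKN P)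
    have h3K : ¬ 3 ∣ Nat.card K := by
      intro h3
      obtain ⟨⟨x, hx⟩, hx3⟩ := exists_prime_orderOf_dvd_card' 3 h3
      rw [orderOf_mk] at hx3
      -- x lies in every Sylow 3-subgroup
      obtain ⟨Q₀, hQ₀, huniq⟩ := existsUnique_sylow_of_orderOf P hP hx3
      have hall : ∀ Q : Sylow 3 G, Q = Q₀ := fun Q => by
        have hxp : IsPGroup 3 (zpowers x) :=
          IsPGroup.of_card (n := 1) (by rw [Nat.card_zpowers, hx3, pow_one])
        have h1 : zpowers x ≤ (Q : Subgroup G) := by
          intro y hy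
          exact ((hxp.inf_normalizer_sylow Q).le ⟨hy, zpowers_le.mpr (hKN Q hx) hy⟩).2
        exact huniq Q (Subgroup.eq_of_le_of_card_ge h1 (by
          rw [Nat.card_congr (Sylow.equiv Q P).toEquiv, hP, Nat.card_zpowers, hx3])).symm
      haveI : Subsingleton (Sylow 3 G) := ⟨fun a b => (hall a).trans (hall b).symm⟩
      rw [Nat.card_unique] at hn
      norm_num at hn
    have h2K : Nat.card K ∣ 2 := by
      have := Nat.le_of_dvd (by norm_num) hKcard
      interval_cases Nat.card K <;> norm_num at *
    -- an element of K centralizes P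
    rcases (Nat.dvd_prime Nat.prime_two).mp h2K with h1 | h1
    · exact eq_bot_of_card_eq K h1
    · exfalso
      apply hC
      have hKC : K ≤ centralizer ((P : Subgroup G) : Set G) := fun x hx => by
        rw [mem_centralizer_iff]
        intro y hy
        have hd : Disjoint K (P : Subgroup G) := disjoint_iff.mpr
          (inf_eq_bot_of_coprime (by rw [h1, hP]; norm_num))
        have hmem : x * y * x⁻¹ * y⁻¹ ∈ K ⊓ (P : Subgroup G) := by
          refine ⟨?_, (P : Subgroup G).mul_mem ((mem_normalizer_iff.mp (hKN P hx) y).mp hy)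
            ((P : Subgroup G).inv_mem hy)⟩
          show x * y * x⁻¹ * y⁻¹ ∈ K
          rw [show x * y * x⁻¹ * y⁻¹ = x * (y * x⁻¹ * y⁻¹) by group]
          exact K.mul_mem hx (Subgroup.Normal.conj_mem inferInstance _ (K.inv_mem hx) y)
        rw [disjoint_iff.mp hd, mem_bot] at hmem
        rw [mul_inv_eq_one, mul_inv_eq_iff_eq_mul] at hmem
        exact hmem.symm
      exact h1 ▸ card_dvd_of_le hKC
  exact ⟨(MulEquiv.ofBijective _ hbij).trans
    ((Fintype.equivFinOfCardEq (by rw [← Nat.card_eq_fintype_card, hn])).permCongrHom)⟩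

end Cfsg.Agent.S1012
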