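import Cfsg.Statements.S0996
import Cfsg.Agent.Lib.BrauerReynolds.Corollaries
-- import your own Cfsg.Agent.* helpers here

set_option autoImplicit false
open Cfsg

set_option linter.style.haveILetI false

namespace Cfsg.Agent.S0996

/-- Let G be a finite perfect group containing an element z of prime order p whose centralizer is the cyclic group it generates, and suppose the number 1 + n * p of Sylow p-subgroups satisfies n < (p + 3) / 2. Then p > 3 and G is isomorphic to the projective special linear group of dimension 2 over the field with p elements, or p - 1 is a power of 2 and G is isomorphic to that group over the field with p - 1 elements. -/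
theorem result {G : Type*} [Group G] [Finite G] (hperf : commutator G = ⊤) (p : ℕ) [Fact p.Prime] (z : G) (hz : orderOf z = p) (hC : Subgroup.centralizer ({z} : Set G) = Subgroup.zpowers z) (hn : 2 * Nat.card (Sylow p G) < (p + 1) * (p + 2)) : (∃ (F : Type) (_ : Field F) (_ : Fintype F), Fintype.card F = p ∧ 3 < p ∧ Nonempty (G ≃* Matrix.ProjectiveSpecialLinearGroup (Fin 2) F)) ∨ (∃ (m : ℕ) (F : Type) (_ : Field F) (_ : Fintype F), Fintype.card F = 2 ^ m ∧ p = 2 ^ m + 1 ∧ 3 < p ∧ Nonempty (G ≃* Matrix.ProjectiveSpecialLinearGroup (Fin 2) F)) := by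
  classical
  obtain ⟨P, hP, hPz⟩ := Cfsg.Agent.Lib.BrauerReynolds.exists_sylow_card_of_selfCentralizing hz hC
  have hp := (Fact.out : p.Prime)
  haveI := Cfsg.Agent.Lib.PSolvable.pPrimeCore_characteristic (p := p) (G := G)
  haveI : (Cfsg.pPrimeCore p G).Normal := inferInstance
  obtain ⟨n, hn'⟩ : ∃ n, Nat.card (Sylow p G) = 1 + n * p := by
    have h1 := card_sylow_modEq_one p G
    have h2 : 1 ≤ Nat.card (Sylow p G) := Nat.card_pos
    obtain ⟨j, hj⟩ := (Nat.modEq_iff_dvd' h2).mp h1.symm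
    exact ⟨j, by rw [mul_comm]; omega⟩
  have h2n : 2 * n < p + 3 := by
    by_contra h
    have h1 : (p + 3) * p ≤ 2 * n * p := Nat.mul_le_mul_right p (by omega)
    have h2 : (p + 1) * (p + 2) = (p + 3) * p + 2 := by ring
    have h3 : 2 * n * p = 2 * (n * p) := mul_assoc _ _ _
    omega
  have hF := Cfsg.Agent.Lib.BrauerReynolds.not_fRep_of_lt (p := p) h2n
  obtain ⟨hR, Q, n', k, hQ, hQn, hfac⟩ :=
    Cfsg.Agent.Lib.BrauerReynolds.reduced_quotient hperf P hP hn'
  have hQ0 : 1 ≤ n' := by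
    rcases Nat.eq_zero_or_pos n' with h0 | h0
    · exfalso
      rw [h0, zero_mul, add_zero, Q.card_eq_index_normalizer, Subgroup.index_eq_one] at hQn
      haveI hQnorm : (Q : Subgroup (G ⧸ Cfsg.pPrimeCore p G)).Normal :=
        Subgroup.normalizer_eq_top_iff.mp hQn
      haveI : IsCyclic (Q : Subgroup (G ⧸ Cfsg.pPrimeCore p G)) := isCyclic_of_prime_card hQ
      refine Cfsg.Agent.Lib.BrauerReynolds.not_normalizer_le_centralizer_of_perfect hR.perfect
        ((dvd_of_eq hQ.symm).trans (Subgroup.card_subgroup_dvd_card _)) Q fun g _ => ?_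
      rw [Subgroup.mem_centralizer_iff]
      intro y hy
      have h1 := Cfsg.Agent.Lib.BrauerReynolds.hom_eq_one_of_comm hR.perfect
        (MulAut.conjNormal (H := (Q : Subgroup (G ⧸ Cfsg.pPrimeCore p G)))) (fun a b => by
          obtain ⟨i, hi⟩ := MonoidHom.map_cyclic
            (MulAut.conjNormal (H := (Q : Subgroup (G ⧸ Cfsg.pPrimeCore p G))) a).toMonoidHom
          obtain ⟨j, hj⟩ := MonoidHom.map_cyclic
            (MulAut.conjNormal (H := (Q : Subgroup (G ⧸ Cfsg.pPrimeCore p G))) b).toMonoidHom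
          ext1 x
          simp only [MulEquiv.toMonoidHom_eq_coe, MonoidHom.coe_coe] at hi hj
          rw [MulAut.mul_apply, MulAut.mul_apply, hj, map_zpow, hi, map_zpow, hj, ← zpow_mul,
            ← zpow_mul, mul_comm i j]) g
      have h2 : g * y * g⁻¹ = y := by
        have := congrArg (fun f : MulAut (Q : Subgroup (G ⧸ Cfsg.pPrimeCore p G)) =>
          ((f ⟨y, hy⟩ : (Q : Subgroup (G ⧸ Cfsg.pPrimeCore p G))) : G ⧸ Cfsg.pPrimeCore p G)) h1
        simpa using this
      exact (mul_inv_eq_iff_eq_mul.mp h2).symm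
    · exact h0
  have hk : k = 0 := by
    by_contra hk
    have h1 : 1 * p ≤ n' * p := Nat.mul_le_mul_right p hQ0
    have h2 : 1 * p ≤ k * p := Nat.mul_le_mul_right p (by omega)
    have h3 : (1 + p) * (1 + p) ≤ (1 + n' * p) * (1 + k * p) :=
      Nat.mul_le_mul (by omega) (by omega)
    rw [← hfac, ← hn'] at h3
    have h4 : 2 * ((1 + p) * (1 + p)) = (p + 1) * (p + 2) + p * (p + 1) := by ring
    omega
  have hbot : Cfsg.pPrimeCore p G = ⊥ :=
    Cfsg.Agent.Lib.BrauerReynolds.core_eq_bot_of_card_sylow_eq hz hC P hPz _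
      Cfsg.Agent.Lib.PSolvable.pPrimeCore_not_dvd (by rw [hn', hQn, hfac, hk]; ring)
  let e : G ≃* G ⧸ Cfsg.pPrimeCore p G :=
    QuotientGroup.quotientBot.symm.trans (QuotientGroup.quotientMulEquivOfEq hbot.symm)
  rcases Cfsg.Agent.Lib.BrauerReynolds.main hperf P hP hn' with h | ⟨F, iF, iFt, hF', hp3, -, ⟨f⟩⟩ |
    ⟨m, F, iF, iFt, hF', hpm, hp3, -, ⟨f⟩⟩
  · exact absurd h hF
  · exact Or.inl ⟨F, iF, iFt, hF', hp3, ⟨e.trans f⟩⟩
  · obtain ⟨g⟩ := @Cfsg.Agent.Lib.BrauerReynolds.nonempty_SL_equiv_PSL F iF iFt m hF'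
      (Cfsg.Agent.Lib.BrauerReynolds.one_le_of_fermat hpm hp3)
    exact Or.inr ⟨m, F, iF, iFt, hF', hpm, hp3, ⟨(e.trans f).trans g⟩⟩

end Cfsg.Agent.S0996
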