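import Cfsg.Statements.S1017
import Mathlib
import Cfsg.Agent.Lib.SmallGroups.Basic
import Cfsg.Agent.Lib.SmallGroups.PrimeSylow
import Cfsg.Agent.Lib.SmallGroups.SymSylow
import Cfsg.Agent.Lib.SmallGroups.LargeCentralizer

set_option autoImplicit false
set_option linter.style.haveILetI false
open Cfsg
open Cfsg.Agent.Lib.SmallGroups

namespace Cfsg.Agent.S1017

/-- No finite simple group has order 2016 = 2^5 * 3^2 * 7. -/
theorem result {G : Type*} [Group G] [Finite G] [IsSimpleGroup G] : Nat.card G ≠ 2016 := by
  intro h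
  haveI : Fact (Nat.Prime 7) := ⟨by norm_num⟩
  have hG : ¬ IsMulCommutative G := not_isMulCommutative_of_not_prime (by rw [h]; norm_num)
  have hn := card_sylow_mem hG (p := 7) (k := 1) (m := 288) (by rw [h]; norm_num) (by norm_num) one_ne_zero
  have e : (Nat.divisors 288).filter (fun d => d % 7 = 1 ∧ d ≠ 1) = {8, 36, 288} := by decide +kernel
  rw [e] at hn
  simp only [Finset.mem_insert, Finset.mem_singleton] at hn
  have P : Sylow 7 G := default
  have hP := (card_sylow_eq P (k := 1) (m := 288) (by rw [h]; norm_num) (by norm_num)).trans (pow_one 7)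
  have hN := card_normalizer_sylow_mul P
  rw [h] at hN
  obtain ⟨e, he, he1, ⟨c, hc⟩, hcard⟩ := exists_card_normalizer_eq_of_simple hG P hP
  rw [hcard, hc] at hN
  rcases hn with hn | hn | hn <;> rw [hn] at hN
  · have := two_mul_card_dvd_of_card_sylow hG (p := 7) (by norm_num) (by rw [h]; norm_num) hn
    rw [h] at this
    norm_num at this
  · have hmem : e ∈ Nat.divisors 6 := Nat.mem_divisors.mpr ⟨he, by norm_num⟩
    rw [show Nat.divisors 6 = {1, 2, 3, 6} from by decide +kernel] at hmem
    simp only [Finset.mem_insert, Finset.mem_singleton] at hmem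
    rcases hmem with rfl | rfl | rfl | rfl
    · exact he1 rfl
    · refine false_of_thirty_six hG P hP (a := 2) le_rfl hn (by rw [hc]; norm_num; omega) ?_
      rw [hcard, hc]; norm_num; omega
    · omega
    · omega
  · have h1 : e * c = 1 := by linarith
    exact he1 (Nat.eq_one_of_mul_eq_one_right h1)

end Cfsg.Agent.S1017
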