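import Cfsg.Statements.S1127
import Mathlib
import Cfsg.Agent.Lib.RankOne.Fixed

set_option autoImplicit false
open Cfsg

namespace Cfsg.Agent.S1127

/-- In the rank-one set-up (`G` finite and doubly transitive on `Ω`, `t` an involution moving `a`, `Q` normal in `G_a` with `G_a = Q D`, `Q ⊓ D = 1` for the two-point stabiliser `D = G_a ⊓ G_{t • a}`, `|Q|` even, `|D|` odd): if `s` is an involution of `G_a` and `r ∈ Q` satisfy `t s t = r⁻¹ t r`, then `C_D(t) = C_D(s)`; moreover `C_D(t) ⊓ C_D(K) = C_D(I ∩ G_a)`, where `K` is the set of elements of `D` inverted by `t` and `I ∩ G_a` the set of involutions of `G_a`. -/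
theorem result {G Ω : Type*} [Group G] [Finite G] [MulAction G Ω] {a : Ω} {t : G} {Q : Subgroup G}
    (hS : Cfsg.IsRankOneSetup G Ω a t Q) :
    (∀ s r : G, s ∈ Cfsg.involutionsIn (MulAction.stabilizer G a : Set G) → r ∈ Q → t * s * t = r⁻¹ * t * r →
        (MulAction.stabilizer G a ⊓ MulAction.stabilizer G (t • a)) ⊓ Subgroup.centralizer {t} = (MulAction.stabilizer G a ⊓ MulAction.stabilizer G (t • a)) ⊓ Subgroup.centralizer {s}) ∧
      (MulAction.stabilizer G a ⊓ MulAction.stabilizer G (t • a)) ⊓ Subgroup.centralizer {t} ⊓ Subgroup.centralizer (Cfsg.invertedBy (MulAction.stabilizer G a ⊓ MulAction.stabilizer G (t • a)) t) =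
        (MulAction.stabilizer G a ⊓ MulAction.stabilizer G (t • a)) ⊓ Subgroup.centralizer (Cfsg.involutionsIn (MulAction.stabilizer G a : Set G)) := by
  open Cfsg.Agent.Lib.RankOne in
  refine ⟨fun s r hs hr h => ?_, ?_⟩
  · ext c
    simp only [Subgroup.mem_inf, Subgroup.mem_centralizer_singleton_iff]
    exact and_congr_right fun hc => commute_t_iff hS hs hr h hc
  · open Cfsg.Agent.Lib.RankOne in
    obtain ⟨s, r, hs, hr, h⟩ := exists_structure hS
    ext c
    constructor
    · rintro ⟨⟨hcD, hct⟩, hcK⟩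
      refine ⟨hcD, Subgroup.mem_centralizer_iff.mpr fun u hu => ?_⟩
      obtain ⟨k, hk, rfl⟩ := exists_conj_inverted hS hs hu
      have h1 : Commute c k := (Subgroup.mem_centralizer_iff.mp hcK k hk).symm
      have h2 : Commute c s :=
        (commute_t_iff hS hs hr h hcD).mp (Subgroup.mem_centralizer_singleton_iff.mp hct)
      exact ((h1.inv_right.mul_right h2).mul_right h1).eq.symm
    · rintro ⟨hcD, hcI⟩
      have hcI := Subgroup.mem_centralizer_iff.mp hcI
      have hct : c * t = t * c := (commute_t_iff hS hs hr h hcD).mpr (hcI s hs).symm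
      refine ⟨⟨hcD, Subgroup.mem_centralizer_singleton_iff.mpr hct⟩,
        Subgroup.mem_centralizer_iff.mpr fun k hk => ?_⟩
      rw [inverted_iff hS] at hk
      have hk' : c * k * c⁻¹ ∈ Cfsg.invertedBy (twoStab a t) t := by
        refine (inverted_iff hS).mpr ⟨mul_mem (mul_mem hcD hk.1) (inv_mem hcD), ?_⟩
        have hc' : t * c * t = c := by rw [← hct, mul_assoc, hS.mul_self, mul_one]
        rw [t_conj_mul hS, t_conj_mul hS, t_conj_inv hS, hc', hk.2]
        group
      have e : c * k * c⁻¹ = k := by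
        refine inj_conj hS hs hk' ((inverted_iff hS).mpr hk) ?_
        have h1 := hcI _ (by
          simpa using conj_involutionsIn hS ((MulAction.stabilizer G a).inv_mem (D_le hS hk.1)) hs :
          k⁻¹ * s * k ∈ Cfsg.involutionsIn (MulAction.stabilizer G a : Set G))
        have h2 : c⁻¹ * s * c = s := by rw [mul_assoc, hcI s hs, inv_mul_cancel_left]
        calc (c * k * c⁻¹)⁻¹ * s * (c * k * c⁻¹)
            = c * (k⁻¹ * (c⁻¹ * s * c) * k) * c⁻¹ := by group
          _ = k⁻¹ * s * k := by rw [h2, ← h1]; group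
      calc k * c = c * k * c⁻¹ * c := by rw [e]
        _ = c * k := by group

end Cfsg.Agent.S1127
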