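import Cfsg.Statements.S3333
import Mathlib
import Cfsg.Agent.Lib.SixPointRecognition.Finish
import Cfsg.Agent.S3716

set_option autoImplicit false
open Cfsg

namespace Cfsg.Agent.S3333

/-- The local data extracted from the hypotheses. -/
noncomputable def setting {G : Type*} [Group G] {P : Sylow 3 G} {S : Subgroup G} (hSP : S = P)
    (hcard : Nat.card S = 9) (hC : Subgroup.centralizer (S : Set G) = S)
    (eN : Subgroup.normalizer (S : Set G) ⧸ S.subgroupOf (Subgroup.normalizer (S : Set G)) ≃* DihedralGroup 4)
    (hcent : ∀ x ∈ S, x ≠ 1 → Subgroup.centralizer ({x} : Set G) ≤ Subgroup.normalizer (S : Set G)) :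
    Lib.SixPointRecognition.Setting (P : Subgroup G) (Subgroup.normalizer (S : Set G)) where
  card_S := hSP ▸ hcard
  normal := by rw [hSP]
  self := hSP ▸ hC
  cent := hSP ▸ hcent
  π := eN.toMonoidHom.comp (QuotientGroup.mk' _)
  π_surj := eN.surjective.comp (QuotientGroup.mk'_surjective _)
  π_eq_one := fun n => by
    rw [MonoidHom.comp_apply, MulEquiv.coe_toMonoidHom, map_eq_one_iff _ eN.injective,
      QuotientGroup.mk'_apply, QuotientGroup.eq_one_iff, Subgroup.mem_subgroupOf, ← hSP]


/-- Let G be a finite group with a Sylow 3-subgroup S of order 9 that is its own centralizer, with N_G(S)/S dihedral of order 8, and such that C_G(x) ≤ N_G(S) for every non-identity x in S. Then S is normal in G or G is isomorphic to the symmetric group of degree 6. -/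
theorem result {G : Type*} [Group G] [Finite G]
    (P : Sylow 3 G) (S : Subgroup G) (hSP : S = P) (hcard : Nat.card S = 9)
    (hC : Subgroup.centralizer (S : Set G) = S)
    (eN : Subgroup.normalizer (S : Set G) ⧸ S.subgroupOf (Subgroup.normalizer (S : Set G)) ≃* DihedralGroup 4)
    (hcent : ∀ x ∈ S, x ≠ 1 → Subgroup.centralizer ({x} : Set G) ≤ Subgroup.normalizer (S : Set G)) :
    S.Normal ∨ Nonempty (G ≃* Equiv.Perm (Fin 6)) := by
  classical
  haveI : Fact (Nat.Prime 3) := ⟨Nat.prime_three⟩
  have D := setting hSP hcard hC eN hcent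
  have hns : ¬ IsSimpleGroup G := by
    refine Cfsg.Agent.S3716.result P (hSP ▸ hcard) (fun m hm => D.exp_three hm) (hSP ▸ hC)
      (Subgroup.normalizer (S : Set G)) (by rw [hSP]) (hSP ▸ hcent) ?_
    intro T
    haveI : Fact (Nat.Prime 2) := ⟨Nat.prime_two⟩
    have hT : Nat.card T = 8 := by
      rw [T.card_eq_multiplicity, D.card_N, show (72 : ℕ) = 2 ^ 3 * 9 by norm_num,
        Nat.factorization_mul (by norm_num) (by norm_num), Finsupp.add_apply, Nat.prime_two.factorization_pow,
        Finsupp.single_eq_same, Nat.factorization_eq_zero_of_not_dvd (by norm_num)]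
      norm_num
    let f : ↥(T : Subgroup ↥(Subgroup.normalizer (S : Set G))) →* DihedralGroup 4 :=
      D.π.comp (T : Subgroup ↥(Subgroup.normalizer (S : Set G))).subtype
    have hf : Function.Injective f := by
      rw [injective_iff_map_eq_one]
      intro a ha
      have h1 : ((a : ↥(Subgroup.normalizer (S : Set G))) : G) ∈ (P : Subgroup G) :=
        (D.π_eq_one _).1 ha
      have h3 : orderOf a ∣ 3 := orderOf_dvd_of_pow_eq_one (Subtype.ext (Subtype.ext (D.exp_three h1)))
      have h8 : orderOf a ∣ 8 := hT ▸ orderOf_dvd_natCard a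
      exact orderOf_eq_one_iff.1 (Nat.eq_one_of_dvd_coprimes (by norm_num : Nat.Coprime 3 8) h3 h8)
    exact ⟨MulEquiv.ofBijective f ((Nat.bijective_iff_injective_and_card f).2
      ⟨hf, by rw [hT, DihedralGroup.nat_card]⟩)⟩
  rcases Lib.SixPointRecognition.normal_or_perm D hns with h | h
  · left; rw [hSP]; exact h
  · exact Or.inr h

end Cfsg.Agent.S3333
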