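import Cfsg.Statements.S4413
import Mathlib
import Cfsg.Agent.Lib.MinusThirtyTwo.Basic
import Cfsg.Agent.Lib.SectRank.Basic

open scoped commutatorElement
-- import your own Cfsg.Agent.* helpers here

set_option autoImplicit false
open Cfsg

namespace Cfsg.Agent.S4413

/-- Let P be an extraspecial 2-group of order 32 with no elementary abelian subgroup of order 8 (the central product of a dihedral and a quaternion group of order 8). Then the inner automorphism group of P has order 16 and the outer automorphism group Aut(P)/Inn(P) is isomorphic to the symmetric group of degree 5; in particular Aut(P) has order 1920. -/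
theorem result {P : Type*} [Group P] [Finite P]
    (hex : Cfsg.IsExtraspecial 2 P) (h32 : Nat.card P = 32)
    (hminus : ∀ A : Subgroup P, Cfsg.IsElementaryAbelian 2 A → Nat.card ↥A ≤ 4)
    [(MulAut.conj : P →* MulAut P).range.Normal] :
    Nat.card ↥(MulAut.conj : P →* MulAut P).range = 16 ∧ Nat.card (MulAut P) = 1920 ∧
      Nonempty ((MulAut P ⧸ (MulAut.conj : P →* MulAut P).range) ≃* Equiv.Perm (Fin 5)) := by
  classical
  haveI : Fact (Nat.Prime 2) := ⟨Nat.prime_two⟩
  have hel := Cfsg.Agent.Lib.ExtraStruct.extraLike_of_isExtraspecial hex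
  obtain ⟨z, hzc, hz1⟩ := Cfsg.Agent.Lib.ExtraStruct.exists_center_ne_one hel
  have hzord := Cfsg.Agent.Lib.ExtraStruct.orderOf_eq_of_mem_center hel hzc hz1
  have hz2 : z * z = 1 := by rw [← sq, ← hzord, pow_orderOf_eq_one]
  have hzcomm : ∀ x : P, Commute x z := fun x => Subgroup.mem_center_iff.mp hzc x
  have hmemZ : ∀ w ∈ Subgroup.center P, w = 1 ∨ w = z := by
    intro w hw
    by_cases h : w = 1
    · exact Or.inl h
    · exact Or.inr (Cfsg.Agent.Lib.ExtraStruct.eq_of_mem_center_two hel hw h hzc hz1)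
  have hpair : ∀ u v : P, u * v ≠ v * u → ⁅u, v⁆ = z := fun u v h =>
    (hmemZ _ (hel.comm_mem u v)).resolve_left fun he => h (commutatorElement_eq_one_iff_mul_comm.mp he)
  -- commuting involutions
  have eight : ∀ x w : P, x * x = 1 → w * w = 1 → x * w = w * x → x ∉ Subgroup.center P →
      w ∉ Subgroup.center P → x * w ∉ Subgroup.center P → False := by
    intro x w hx hw hxw hxZ hwZ hxwZ
    have hsec : ∀ y : P, y * y = 1 → Cfsg.Agent.Lib.SectRank.IsElemSection 2 ⊥ (Subgroup.zpowers y) := by
      intro y hy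
      refine ⟨bot_le, fun a ha b hb => ?_, fun a ha => ?_⟩
      · obtain ⟨i, rfl⟩ := Subgroup.mem_zpowers_iff.mp ha
        obtain ⟨j, rfl⟩ := Subgroup.mem_zpowers_iff.mp hb
        rw [Subgroup.mem_bot]; group
      · obtain ⟨i, rfl⟩ := Subgroup.mem_zpowers_iff.mp ha
        rw [Subgroup.mem_bot, ← zpow_natCast, ← zpow_mul, mul_comm, zpow_mul, Nat.cast_ofNat,
          zpow_two, hy, one_zpow]
    have hcases : ∀ y : P, y * y = 1 → ∀ u ∈ Subgroup.zpowers y, u = 1 ∨ u = y := by
      intro y hy u hu
      obtain ⟨k, rfl⟩ := mem_powers_iff_mem_zpowers.mpr hu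
      rcases Nat.even_or_odd k with ⟨l, rfl⟩ | ⟨l, rfl⟩
      · left
        show y ^ (l + l) = 1
        rw [← two_mul, pow_mul, sq, hy, one_pow]
      · right
        show y ^ (2 * l + 1) = y
        rw [pow_succ, pow_mul, sq, hy, one_pow, one_mul]
    have hx1 : x ≠ 1 := fun h => hxZ (h ▸ one_mem _)
    have hw1 : w ≠ 1 := fun h => hwZ (h ▸ one_mem _)
    have hc1 : ∀ a ∈ Subgroup.zpowers z, ∀ b ∈ Subgroup.zpowers x, a * b = b * a := by
      intro a ha b _
      rcases hcases z hz2 a ha with rfl | rfl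
      · simp
      · exact (hzcomm b).eq.symm
    have hd1 : Subgroup.zpowers z ⊓ Subgroup.zpowers x = ⊥ := by
      rw [eq_bot_iff]
      rintro u ⟨h1, h2⟩
      rcases hcases x hx u h2 with rfl | rfl
      · exact one_mem _
      · exact absurd ((Subgroup.zpowers_le.mpr hzc) h1) hxZ
    have hE : ∀ u ∈ Subgroup.zpowers z ⊔ Subgroup.zpowers x, Commute u w ∧
        ∃ a ∈ Subgroup.center P, u = a ∨ u = a * x := by
      intro u hu
      have hle : Subgroup.zpowers z ⊔ Subgroup.zpowers x ≤ Subgroup.center P ⊔ Subgroup.zpowers x :=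
        sup_le_sup_right (Subgroup.zpowers_le.mpr hzc) _
      have hu' := hle hu
      rw [← SetLike.mem_coe, Subgroup.normal_mul (Subgroup.center P) (Subgroup.zpowers x)] at hu'
      obtain ⟨a, ha, b, hb, rfl⟩ := hu'
      have haw : Commute a w := (Subgroup.mem_center_iff.mp ha w).symm
      rcases hcases x hx b hb with rfl | rfl
      · exact ⟨by simpa using haw, a, ha, Or.inl (mul_one a)⟩
      · exact ⟨haw.mul_left hxw, a, ha, Or.inr rfl⟩
    have hc2 : ∀ a ∈ Subgroup.zpowers z ⊔ Subgroup.zpowers x, ∀ b ∈ Subgroup.zpowers w, a * b = b * a := by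
      intro a ha b hb
      rcases hcases w hw b hb with rfl | rfl
      · simp
      · exact (hE a ha).1.eq
    have hd2 : (Subgroup.zpowers z ⊔ Subgroup.zpowers x) ⊓ Subgroup.zpowers w = ⊥ := by
      rw [eq_bot_iff]
      rintro u ⟨h1, h2⟩
      rcases hcases w hw u h2 with rfl | rfl
      · exact one_mem _
      · obtain ⟨-, a, ha, h | h⟩ := hE u h1
        · exact absurd (h ▸ ha) hwZ
        · refine absurd ?_ hxwZ
          rw [h, Subgroup.mem_center_iff.mp ha x |>.symm, ← mul_assoc, hx, one_mul]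
          exact ha
    have hS := ((hsec z hz2).sup (hsec x hx) hc1).sup (hsec w hw) hc2
    rw [bot_sup_eq, bot_sup_eq] at hS
    have hA : Cfsg.IsElementaryAbelian 2 (Subgroup.zpowers z ⊔ Subgroup.zpowers x ⊔ Subgroup.zpowers w) := by
      refine ⟨⟨⟨fun a b => Subtype.ext ?_⟩⟩, fun a ha => Subgroup.mem_bot.mp (hS.pow a ha)⟩
      have := Subgroup.mem_bot.mp (hS.comm a a.2 b b.2)
      exact commutatorElement_eq_one_iff_mul_comm.mp (by rwa [commutatorElement_def])
    have h8 := hminus _ hA
    rw [Cfsg.Agent.Lib.SectRank.card_sup_of_commute hc2 hd2,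
      Cfsg.Agent.Lib.SectRank.card_sup_of_commute hc1 hd1, Nat.card_zpowers, Nat.card_zpowers,
      Nat.card_zpowers, hzord, orderOf_eq_prime (by rw [sq, hx]) hx1,
      orderOf_eq_prime (by rw [sq, hw]) hw1] at h8
    omega
  -- twelve square roots of one
  have hcount : Nat.card {g : P // g ^ 2 = 1} = 12 := by
    refine (Cfsg.Agent.Lib.ExtraStruct.card_sq_one 2 P hel (by rw [h32]; norm_num) (by norm_num)).2 ?_
    rintro ⟨x, y, hxy, hx, -, w, hwc, hw⟩
    have hwx : Commute x (w : P) := Subgroup.mem_centralizer_iff.mp w.2 x (Set.mem_insert _ _)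
    have hxnc : x ∉ Subgroup.center P := fun h =>
      hxy (commutatorElement_eq_one_iff_mul_comm.mpr (Subgroup.mem_center_iff.mp h y).symm)
    rw [Cfsg.Agent.Lib.ExtraStruct.center_centralizer_pair hel hxy, Subgroup.mem_subgroupOf] at hwc
    have hw' : (w : P) * w = 1 := by
      rw [← sq, ← SubgroupClass.coe_pow, hw]; rfl
    refine eight x w (by rw [← sq, hx]) hw' hwx.eq hxnc hwc fun h => hxy ?_
    have hxC : x ∈ Subgroup.centralizer ({x, y} : Set P) := by
      have := mul_mem (Cfsg.Agent.Lib.ExtraStruct.center_le_centralizer x y h) (inv_mem w.2)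
      simpa using this
    exact commutatorElement_eq_one_iff_mul_comm.mpr
      (Subgroup.mem_centralizer_iff.mp hxC y (Set.mem_insert_of_mem _ rfl)).symm
  -- the five singular classes
  set Z := Subgroup.center P
  set q := QuotientGroup.mk' Z
  have hqZ : ∀ u, q u = 1 ↔ u ∈ Z := fun u => QuotientGroup.eq_one_iff u
  have hindep : ∀ x y : P, q x = q y → x ^ 2 = 1 → y ^ 2 = 1 := by
    intro x y hxy hx
    have hζ : x⁻¹ * y ∈ Z := QuotientGroup.eq.mp hxy
    rw [← mul_inv_cancel_left x y, Commute.mul_pow (Subgroup.mem_center_iff.mp hζ x), hx, one_mul]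
    rcases hmemZ _ hζ with e | e <;> rw [e]
    · exact one_pow 2
    · rw [sq, hz2]
  let t : Set (P ⧸ Z) := {v | ∃ x : P, q x = v ∧ x ^ 2 = 1}
  have htcard : Nat.card t = 6 := by
    have h1 : Nat.card {g : P // g ^ 2 = 1} = Nat.card (QuotientGroup.mk ⁻¹' t : Set P) :=
      Nat.card_congr (Equiv.subtypeEquivRight fun g =>
        ⟨fun h => ⟨g, rfl, h⟩, fun ⟨x, hx, h⟩ => hindep x g hx h⟩)
    rw [hcount, Nat.card_congr (QuotientGroup.preimageMkEquivSubgroupProdSet Z t), Nat.card_prod,
      show Nat.card Z = 2 from hel.card_center] at h1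
    omega
  let Sg := {v : P ⧸ Z // v ≠ 1 ∧ v ∈ t}
  have h5 : Nat.card Sg = 5 := by
    have hone : (1 : P ⧸ Z) ∈ t := ⟨1, map_one q, one_pow 2⟩
    have : Nat.card Sg = (t \ {1}).ncard := by
      rw [← Nat.card_coe_set_eq]
      exact Nat.card_congr (Equiv.subtypeEquivRight fun v => by simp [and_comm])
    rw [this, Set.ncard_diff_singleton_of_mem hone, ← Nat.card_coe_set_eq, htcard]
  haveI : Fintype Sg := Fintype.ofFinite _
  let e : Sg ≃ Fin 5 := Finite.equivFinOfCardEq h5
  choose ℓ hℓ hℓ2 using fun v : Sg => v.2.2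
  have hℓZ : ∀ v, ℓ v ∉ Z := fun v h => v.2.1 (by rw [← hℓ v, (hqZ _).mpr h])
  have hℓsq : ∀ v, ℓ v * ℓ v = 1 := fun v => by rw [← sq]; exact hℓ2 v
  have hqcomm : ∀ u v : P ⧸ Z, u * v = v * u := by
    intro u v
    obtain ⟨a, rfl⟩ := QuotientGroup.mk'_surjective Z u
    obtain ⟨b, rfl⟩ := QuotientGroup.mk'_surjective Z v
    rw [← commutatorElement_eq_one_iff_mul_comm, ← map_commutatorElement, hqZ]
    exact hel.comm_mem a b
  have hqsq : ∀ u : P ⧸ Z, u * u = 1 := by
    intro u
    obtain ⟨a, rfl⟩ := QuotientGroup.mk'_surjective Z u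
    rw [← map_mul, hqZ, ← sq]
    exact hel.pow_mem a
  have hcom : ∀ v w : Sg, v ≠ w → ⁅ℓ v, ℓ w⁆ = z := by
    intro v w hne
    refine hpair _ _ fun h => eight (ℓ v) (ℓ w) (hℓsq v) (hℓsq w) h (hℓZ v) (hℓZ w) fun hvw => hne ?_
    apply Subtype.ext
    rw [← hℓ v, ← hℓ w]
    rw [← hqZ, map_mul] at hvw
    rw [← inv_eq_of_mul_eq_one_right hvw, inv_eq_of_mul_eq_one_right (hqsq _)]
  have hgen : ∀ f : Fin 4 → Sg, Function.Injective f →
      Subgroup.closure (Set.range fun i => ℓ (f i)) = ⊤ := by
    intro f hf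
    letI : CommGroup (P ⧸ Z) := { (inferInstance : Group (P ⧸ Z)) with mul_comm := hqcomm }
    set a : Fin 4 → P := fun i => ℓ (f i)
    have ha : ∀ i j, i ≠ j → ⁅a i, a j⁆ = z := fun i j h => hcom _ _ fun he => h (hf he)
    have ha2 : ∀ i, a i ^ 2 = 1 := fun i => hℓ2 _
    have hord4 : ∀ i j, i ≠ j → (a i * a j) ^ 2 = z := fun i j h => by
      rw [Cfsg.Agent.Lib.Extraspecial.mul_pow_eq (hel.comm_mem _ _), ha2, ha2, one_mul, one_mul,
        show Nat.choose 2 2 = 1 from rfl, pow_one, ha j i h.symm]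
    let v : Fin 4 → P ⧸ Z := fun i => q (a i)
    have f1 : ∀ i, v i ≠ 1 := fun i h => hℓZ _ ((hqZ _).mp h)
    have f2 : ∀ i j, i ≠ j → v i * v j ≠ 1 := fun i j h he => by
      have := hindep (1 : P) (a i * a j) (by rw [map_one, map_mul]; exact he.symm) (one_pow 2)
      rw [hord4 i j h] at this
      exact hz1 this
    have f3 : ∀ i j k, i ≠ j → v i * v j * v k ≠ 1 := fun i j k h he => by
      have hk : q (a k) = q (a i * a j) := by
        rw [map_mul]
        show v k = v i * v j
        rw [← inv_eq_of_mul_eq_one_right he, inv_eq_of_mul_eq_one_right (hqsq _)]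
      have := hindep _ _ hk (ha2 k)
      rw [hord4 i j h] at this
      exact hz1 this
    have f4 : v 0 * v 1 * v 2 * v 3 ≠ 1 := fun he => by
      have hk : q (a 3) = q (a 0 * a 1 * a 2) := by
        rw [map_mul, map_mul]
        show v 3 = v 0 * v 1 * v 2
        rw [← inv_eq_of_mul_eq_one_right he, inv_eq_of_mul_eq_one_right (hqsq _)]
      have hsq := hindep _ _ hk (ha2 3)
      rw [Cfsg.Agent.Lib.Extraspecial.mul_pow_eq (hel.comm_mem _ _), hord4 0 1 (by decide), ha2,
        mul_one, show Nat.choose 2 2 = 1 from rfl, pow_one,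
        Cfsg.Agent.Lib.Extraspecial.commutator_mul_right (hel.comm_mem _ _), ha 2 0 (by decide),
        ha 2 1 (by decide), hz2, mul_one] at hsq
      exact hz1 hsq
    let E : (Fin 4 → Bool) → P ⧸ Z := fun b => ∏ i, if b i then v i else 1
    have hE : ∀ b b', E b * E b' = E fun i => xor (b i) (b' i) := by
      intro b b'
      simp only [E]
      rw [← Finset.prod_mul_distrib]
      refine Finset.prod_congr rfl fun i _ => ?_
      rcases Bool.eq_false_or_eq_true (b i) with h | h <;>
        rcases Bool.eq_false_or_eq_true (b' i) with h' | h' <;> simp [h, h', hqsq]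
    have hE1 : ∀ b, E b = 1 → ∀ i, b i = false := by
      intro b hb
      simp only [E, Fin.prod_univ_four] at hb
      cases h0 : b 0 <;> cases h1 : b 1 <;> cases h2 : b 2 <;> cases h3 : b 3 <;>
        simp only [h0, h1, h2, h3, if_true, if_false, Bool.false_eq_true, one_mul, mul_one] at hb <;>
        first
          | (intro i; fin_cases i <;> assumption)
          | exact absurd hb f4
          | exact absurd hb (f1 _)
          | exact absurd hb (f2 _ _ (by decide))
          | exact absurd hb (f3 _ _ _ (by decide))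
    have hinj : Function.Injective E := by
      intro b b' h
      funext i
      have := hE1 _ (show E (fun i => xor (b i) (b' i)) = 1 by rw [← hE, h, hqsq]) i
      simpa using this
    have hVcard : Nat.card (P ⧸ Z) = 16 := by
      have := Z.card_mul_index
      rw [hel.card_center, Subgroup.index_eq_card, h32] at this
      omega
    have hbij := (Nat.bijective_iff_injective_and_card E).mpr ⟨hinj, by simp [hVcard, Nat.card_eq_fintype_card]⟩
    set C := Subgroup.closure (Set.range a)
    have hzC : z ∈ C := by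
      rw [← ha 0 1 (by decide), commutatorElement_def]
      have m0 : a 0 ∈ C := Subgroup.subset_closure ⟨0, rfl⟩
      have m1 : a 1 ∈ C := Subgroup.subset_closure ⟨1, rfl⟩
      exact C.mul_mem (C.mul_mem (C.mul_mem m0 m1) (C.inv_mem m0)) (C.inv_mem m1)
    refine eq_top_iff.mpr fun x _ => ?_
    obtain ⟨b, hb⟩ := hbij.2 (q x)
    have hmem : E b ∈ C.map q := Subgroup.prod_mem _ fun i _ => by
      split_ifs
      · exact ⟨a i, Subgroup.subset_closure ⟨i, rfl⟩, rfl⟩
      · exact one_mem _
    rw [hb] at hmem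
    obtain ⟨c, hc, hcx⟩ := hmem
    have hζ : c⁻¹ * x ∈ Z := QuotientGroup.eq.mp hcx
    rw [← mul_inv_cancel_left c x]
    rcases hmemZ _ hζ with h | h <;> rw [h]
    · simpa using hc
    · exact C.mul_mem hc hzC
  -- the action on the classes
  have hwd : ∀ (σ : MulAut P) (x y : P), q x = q y → q (σ x) = q (σ y) := by
    intro σ x y h
    have hζ : x⁻¹ * y ∈ Z := QuotientGroup.eq.mp h
    refine QuotientGroup.eq.mpr ?_
    rw [← map_inv, ← map_mul, Subgroup.mem_center_iff]
    intro g
    obtain ⟨g', rfl⟩ := σ.surjective g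
    rw [← map_mul, ← map_mul, Subgroup.mem_center_iff.mp hζ g']
  have himg : ∀ (σ : MulAut P) (v : Sg), q (σ (ℓ v)) ≠ 1 ∧ q (σ (ℓ v)) ∈ t := by
    intro σ v
    refine ⟨fun h => hℓZ v ?_, σ (ℓ v), rfl, by rw [← map_pow, hℓ2, map_one]⟩
    have := hwd σ⁻¹ (σ (ℓ v)) 1 (by rw [h, map_one])
    rw [map_one, map_one, ← MulAut.mul_apply, inv_mul_cancel, MulAut.one_apply] at this
    exact (hqZ _).mp this
  let act : MulAut P → Sg → Sg := fun σ v => ⟨q (σ (ℓ v)), himg σ v⟩
  have hmul : ∀ σ τ v, act (σ * τ) v = act σ (act τ v) := fun σ τ v =>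
    Subtype.ext (hwd σ (τ (ℓ v)) (ℓ (act τ v)) (hℓ (act τ v)).symm)
  have hone : ∀ v, act 1 v = v := fun v => Subtype.ext (hℓ v)
  let ψ : MulAut P →* Equiv.Perm Sg :=
    { toFun := fun σ =>
        { toFun := act σ
          invFun := act σ⁻¹
          left_inv := fun v => by rw [← hmul, inv_mul_cancel, hone]
          right_inv := fun v => by rw [← hmul, mul_inv_cancel, hone] }
      map_one' := Equiv.ext hone
      map_mul' := fun σ τ => Equiv.ext (hmul σ τ) }
  let f : Fin 4 → Sg := fun i => e.symm i.castSucc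
  have hf : Function.Injective f := e.symm.injective.comp (Fin.castSucc_injective 4)
  have hψsurj : Function.Surjective ψ := by
    intro τ
    obtain ⟨φ, hφ⟩ := Cfsg.Agent.Lib.MinusThirtyTwo.exists_aut h32 hz2 hzcomm
      (a := fun i => ℓ (f i)) (b := fun i => ℓ (τ (f i))) (fun i => hℓsq _) (fun i => hℓsq _)
      (fun i j h => hcom _ _ fun he => h (hf he))
      (fun i j h => hcom _ _ fun he => h (hf (τ.injective he)))
      (hgen f hf) (hgen (fun i => τ (f i)) (τ.injective.comp hf))
    have hagree : ∀ i, ψ φ (f i) = τ (f i) := fun i => Subtype.ext (by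
      show q (φ (ℓ (f i))) = _
      rw [hφ i, hℓ])
    refine ⟨φ, Equiv.ext fun v => ?_⟩
    obtain ⟨k, rfl⟩ := e.symm.surjective v
    rcases Fin.eq_castSucc_or_eq_last k with ⟨i, rfl⟩ | rfl
    · exact hagree i
    · obtain ⟨k', hk'⟩ := e.symm.surjective (τ⁻¹ (ψ φ (e.symm (Fin.last 4))))
      rcases Fin.eq_castSucc_or_eq_last k' with ⟨i, rfl⟩ | rfl
      · exfalso
        have h1 : τ (f i) = ψ φ (e.symm (Fin.last 4)) := by
          show τ (e.symm i.castSucc) = _
          rw [hk']; exact τ.apply_symm_apply _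
        rw [← hagree i] at h1
        exact (Fin.castSucc_lt_last i).ne (e.symm.injective ((ψ φ).injective h1))
      · conv_rhs => rw [hk']
        exact (τ.apply_symm_apply _).symm
  -- the kernel
  have hkerle : Nat.card ψ.ker ≤ 16 := by
    let s : ψ.ker → (Fin 4 → Bool) := fun σ i => decide ((σ : MulAut P) (ℓ (f i)) = ℓ (f i))
    have hs : Function.Injective s := by
      intro σ τ h
      apply Subtype.ext
      apply MulEquiv.ext
      intro x
      have hx : x ∈ Subgroup.closure (Set.range fun i => ℓ (f i)) := by rw [hgen f hf]; trivial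
      induction hx using Subgroup.closure_induction with
      | mem y hy =>
        obtain ⟨i, rfl⟩ := hy
        have hor : ∀ ρ : ψ.ker, (ρ : MulAut P) (ℓ (f i)) = ℓ (f i) ∨ (ρ : MulAut P) (ℓ (f i)) = ℓ (f i) * z := by
          intro ρ
          have h1 : ψ (ρ : MulAut P) (f i) = f i := by rw [MonoidHom.mem_ker.mp ρ.2]; rfl
          have h2 : q ((ρ : MulAut P) (ℓ (f i))) = q (ℓ (f i)) := by
            rw [hℓ]; exact congrArg Subtype.val h1
          have hζ : (ℓ (f i))⁻¹ * (ρ : MulAut P) (ℓ (f i)) ∈ Z := QuotientGroup.eq.mp h2.symm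
          rcases hmemZ _ hζ with h | h
          · exact Or.inl (inv_mul_eq_one.mp h).symm
          · exact Or.inr (by rw [← h, mul_inv_cancel_left])
        have hk := congrFun h i
        simp only [s, decide_eq_decide] at hk
        rcases hor σ with a | a <;> rcases hor τ with b | b
        · exact a.trans b.symm
        · exact (a.trans (hk.mp a).symm)
        · exact ((hk.mpr b).trans b.symm)
        · exact a.trans b.symm
      | one => rw [map_one, map_one]
      | mul u v _ _ hu hv => rw [map_mul, map_mul, hu, hv]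
      | inv u _ hu => rw [map_inv, map_inv, hu]
    refine le_trans (Nat.card_le_card_of_injective s hs) ?_
    simp
  have hInn : Nat.card ↥(MulAut.conj : P →* MulAut P).range = 16 := by
    have h1 := (MulAut.conj : P →* MulAut P).ker.card_mul_index
    rw [Subgroup.index_ker, h32] at h1
    have h2 : (MulAut.conj : P →* MulAut P).ker = Z := by
      ext x
      rw [MonoidHom.mem_ker, Subgroup.mem_center_iff]
      constructor
      · intro h g
        have := congrArg (fun σ : MulAut P => σ g) h
        simp only [MulAut.conj_apply, MulAut.one_apply] at this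
        exact (mul_inv_eq_iff_eq_mul.mp this).symm
      · intro h
        refine MulEquiv.ext fun g => ?_
        rw [MulAut.conj_apply, ← h g, mul_inv_cancel_right]
        rfl
    rw [h2, hel.card_center] at h1
    omega
  have hker : ψ.ker = (MulAut.conj : P →* MulAut P).range := by
    refine (Subgroup.eq_of_le_of_card_ge ?_ (by rw [hInn]; exact hkerle)).symm
    rintro _ ⟨x, rfl⟩
    rw [MonoidHom.mem_ker]
    refine Equiv.ext fun v => Subtype.ext ?_
    show q (x * ℓ v * x⁻¹) = _
    rw [map_mul, map_mul, map_inv, hqcomm (q x), mul_inv_cancel_right, hℓ]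
    rfl
  have hiso : (MulAut P ⧸ (MulAut.conj : P →* MulAut P).range) ≃* Equiv.Perm (Fin 5) :=
    ((QuotientGroup.quotientMulEquivOfEq hker.symm).trans
      (QuotientGroup.quotientKerEquivOfSurjective ψ hψsurj)).trans e.permCongrHom
  refine ⟨hInn, ?_, ⟨hiso⟩⟩
  rw [Subgroup.card_eq_card_quotient_mul_card_subgroup (MulAut.conj : P →* MulAut P).range, hInn,
    Nat.card_congr hiso.toEquiv, Nat.card_eq_fintype_card, Fintype.card_perm]
  rfl

end Cfsg.Agent.S4413
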