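import Cfsg.Statements.S0346
import Mathlib
import Cfsg.Agent.Lib.Zassenhaus.Feit
import Cfsg.Agent.S0738
import Cfsg.Agent.S0741

set_option autoImplicit false
open Cfsg

namespace Cfsg.Agent.S0346

/-- The number of points of a finite simple Zassenhaus group is `p^k + 1` for some prime power `p^k` (the regular normal
subgroup of a point stabiliser is a `p`-group). -/
theorem result {G Ω : Type*} [Group G] [Finite G] [MulAction G Ω] [Fintype Ω]
    (hZ : Cfsg.IsZassenhausGroup G Ω) [IsSimpleGroup G] :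
    IsPrimePow (Fintype.card Ω - 1) := by
  classical
  haveI := hZ.1
  obtain ⟨g₀, hg₀, a, b, hab, hga, hgb⟩ := hZ.2.2.2.1
  obtain ⟨K, hK⟩ := Cfsg.Agent.Lib.Zassenhaus.exists_isKer hZ.2.1 hZ.2.2.1 hZ.2.2.2.1 a
  have hn := Cfsg.Agent.Lib.Zassenhaus.SimpleOdd.three_le hZ
  have hne : ∀ u : K, (u : G) • b ≠ a := fun u h =>
    hab.symm (smul_left_cancel (u : G) (h.trans (hK.fix u.2).symm))
  have hreg : ∀ y z : Ω, y ≠ a → z ≠ a → ∃! u : K, (u : G) • y = z := by
    intro y z hy hz
    obtain ⟨k, hk, hkz⟩ := hK.transitive y z hy hz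
    refine ⟨⟨k, hk⟩, hkz, fun l hl => Subtype.ext ?_⟩
    have := hK.eq_one (mul_mem (inv_mem l.2) hk) hy
      (by rw [mul_smul, hkz, ← hl, inv_smul_smul])
    exact inv_mul_eq_one.1 this
  have hcard : Nat.card K + 1 = Fintype.card Ω := by
    have e : K ≃ {x : Ω // x ≠ a} := Equiv.ofBijective (fun u => ⟨(u : G) • b, hne u⟩)
      ⟨fun u v h => (hreg b _ hab.symm (hne u)).unique rfl (congrArg Subtype.val h).symm,
        fun x => ⟨(hreg b x hab.symm x.2).exists.choose,
          Subtype.ext (hreg b x hab.symm x.2).exists.choose_spec⟩⟩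
    rw [Nat.card_congr e, Nat.card_eq_fintype_card, Fintype.card_subtype_compl, Fintype.card_subtype_eq]
    omega
  set e := Nat.card ↥(MulAction.stabilizer G a ⊓ MulAction.stabilizer G b) with he
  suffices hd : Fintype.card Ω - 2 ≤ 2 * e ∨ IsPGroup 2 K by
    rcases hd with hd | hd
    · have hn' : (K.subgroupOf (MulAction.stabilizer G a)).Normal :=
        ⟨fun x hx g => Subgroup.mem_subgroupOf.2 (hK.conj_mem (Subgroup.mem_subgroupOf.1 hx) g.2)⟩
      obtain ⟨-, p, f, hp, -, hpf⟩ := Cfsg.Agent.S0738.result hZ hab hd K (fun u hu => hK.fix hu) hn' hreg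
      have hf : f ≠ 0 := fun h0 => by rw [h0, pow_zero] at hpf; omega
      rw [hpf, Nat.add_sub_cancel]
      exact hp.isPrimePow.pow hf
    · haveI : Fact (Nat.Prime 2) := ⟨Nat.prime_two⟩
      obtain ⟨k, hk⟩ := hd.exists_card_eq
      have hk0 : k ≠ 0 := fun h0 => by rw [h0, pow_zero] at hk; omega
      rw [← hcard, Nat.add_sub_cancel, hk]
      exact Nat.prime_two.isPrimePow.pow hk0
  rcases Nat.even_or_odd e with hev | hod
  · exact Or.inl (Cfsg.Agent.S0741.result hZ hab hev)
  · rcases Cfsg.Agent.Lib.Zassenhaus.feit _ G le_rfl hZ hab (Fintype.card Ω - 1) e (by omega) he.symm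
      hod K (fun u hu => hK.fix hu) hcard
      (fun u hu hu1 c hc => by_contra fun hne' => hu1 (hK.eq_one hu hne' hc)) with h | h
    · exact Or.inl (by omega)
    · exact Or.inr h.1

end Cfsg.Agent.S0346
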