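import Cfsg.Statements.S0347
import Mathlib
import Cfsg.Agent.Lib.Zassenhaus.TwoKernel.Final

set_option autoImplicit false
open Cfsg

namespace Cfsg.Agent.S0347

/-- If in a finite simple Zassenhaus group the stabiliser of a point `x` has a normal `2`-subgroup `U` which is
non-abelian and acts regularly on the points other than `x`, then the group is simple of Suzuki order (order-level
predicate `IsSuzuki`). -/
theorem result {G Ω : Type*} [Group G] [Finite G] [MulAction G Ω] [Finite Ω]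
    (hZ : Cfsg.IsZassenhausGroup G Ω) [IsSimpleGroup G]
    (x : Ω) (U : Subgroup G) (hUle : U ≤ MulAction.stabilizer G x) (hUn : (U.subgroupOf (MulAction.stabilizer G x)).Normal)
    (hU2 : IsPGroup 2 U) (hUna : ∃ u v : U, u * v ≠ v * u)
    (hreg : ∀ y z : Ω, y ≠ x → z ≠ x → ∃! u : U, (u : G) • y = z) :
    Cfsg.IsSuzuki G := by
  obtain ⟨u, v, huv⟩ := hUna
  obtain ⟨y, hy⟩ : ∃ y : Ω, x ≠ y := by
    obtain ⟨c, d, hcd⟩ : ∃ c d : Ω, c ≠ d :=
      let ⟨_, _, _, ⟨_, _, a, b, hab, _⟩, _⟩ := hZ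
      ⟨a, b, hab⟩
    by_cases h1 : x = c
    · exact ⟨d, h1 ▸ hcd⟩
    · exact ⟨c, h1⟩
  exact Cfsg.Agent.Lib.Zassenhaus.TwoKernel.isSuzuki hZ hy U hUle
    (fun g hg w hw => Subgroup.mem_subgroupOf.1 (hUn.conj_mem ⟨w, hUle hw⟩ hw ⟨g, hg⟩))
    hreg hU2 ⟨u, u.2, v, v.2, fun e => huv (Subtype.ext e)⟩

end Cfsg.Agent.S0347
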