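import Cfsg.Statements.S4492
import Mathlib
import Cfsg.Agent.Lib.InvariantCore.Extension
import Cfsg.Agent.Lib.InvariantCore.Unit
import Cfsg.Agent.Lib.Blocks.Covering
import Cfsg.Agent.Lib.Blocks.DefectCard
import Cfsg.Agent.Lib.Blocks.DefectProps
import Cfsg.Agent.Lib.Clifford.Restriction
import Cfsg.Agent.Lib.Chars.Induced
import Cfsg.Agent.Lib.PSolvable.HallHigman

set_option autoImplicit false
open Cfsg

namespace Cfsg.Agent.S4492

open Cfsg.Agent.Lib Cfsg.Agent.Lib.Blocks

/-- Let G be a finite p-solvable group, N = O_{p'}(G) its largest normal subgroup of order prime to p, and θ an irreducible character of N invariant under conjugation by G; fix a maximal ideal M of the algebraic integers containing p. Then the irreducible characters of G lying over θ (those whose restriction to N contains θ) form a single p-block of G, and the defect groups of that block are exactly the Sylow p-subgroups of G. -/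
theorem result {G : Type*} [Group G] [Fintype G] (p : ℕ) [Fact p.Prime] (M : Ideal Cfsg.AlgInt) (hM : Cfsg.IsPModular p M) (hsolv : Cfsg.IsPSolvable p G) (N : Subgroup G) [hN : N.Normal] [Fintype N] (hNdef : N = Cfsg.pPrimeCore p G) (θ : Cfsg.IrrCharacter N) (hinv : ∀ (g : G) (n : N), (θ : N → ℂ) ⟨g * n * g⁻¹, hN.conj_mem n n.2 g⟩ = (θ : N → ℂ) n) : ∃ B : Set (Cfsg.IrrCharacter G), Cfsg.IsPBlock M B ∧ (∀ χ : Cfsg.IrrCharacter G, χ ∈ B ↔ Cfsg.classInner (fun n : N => (χ : G → ℂ) n) (θ : N → ℂ) ≠ 0) ∧ (∀ P : Sylow p G, Cfsg.IsDefectGroup p M B (P : Subgroup G)) ∧ ∀ D : Subgroup G, Cfsg.IsDefectGroup p M B D → ∃ P : Sylow p G, D = (P : Subgroup G) := by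
  classical
  haveI := isPModular_isPrime hM
  have hNp : ¬ p ∣ Nat.card N := hNdef ▸ PSolvable.pPrimeCore_not_dvd
  have hp : p.Prime := Fact.out
  have hNn : ∀ n : N, ∀ g : G, g * n * g⁻¹ ∈ N := fun n g => hN.conj_mem n n.2 g
  -- the normal subgroup `L` and its Sylow subgroup
  let L : Subgroup G := pPrimePCore p G
  haveI hLn : L.Normal := PSolvable.pPrimePCore_normal
  obtain ⟨PL⟩ : Nonempty (Sylow p L) := inferInstance
  let Q : Subgroup G := (PL : Subgroup L).map L.subtype
  have hQL : Q ≤ L := Subgroup.map_subtype_le _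
  have hQ : IsPGroup p Q := PL.isPGroup'.map _
  have hcent : Subgroup.centralizer (Q : Set G) ≤ L :=
    PSolvable.isPConstrained_of_isPSolvable hsolv PL
  have hNL : N ≤ L := hNdef ▸ PSolvable.pPrimeCore_le_pPrimePCore
  have hcov : ∀ l ∈ L, ∃ u ∈ Q, u⁻¹ * l ∈ N := by
    intro l hl
    have h : QuotientGroup.mk' (pPrimeCore p G) l ∈ pCore p (G ⧸ pPrimeCore p G) := hl
    rw [← PSolvable.map_sylow_pPrimePCore PL] at h
    obtain ⟨u, hu, hul⟩ := h
    exact ⟨u, hu, hNdef ▸ (QuotientGroup.eq).1 hul⟩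
  have hindex : ∀ R : Subgroup G, IsPGroup p R → ∃ a, N.relIndex (R ⊔ N) = p ^ a := by
    intro R hR
    obtain ⟨a, ha⟩ := IsPGroup.iff_card.1 hR
    have hdiv : N.relIndex (R ⊔ N) ∣ p ^ a := by
      rw [← ha, Subgroup.relIndex_sup_right]
      exact Subgroup.relIndex_dvd_card _ _
    obtain ⟨b, -, hb⟩ := (Nat.dvd_prime_pow hp).1 hdiv
    exact ⟨b, hb⟩
  have hLsup : L = Q ⊔ N := by
    refine le_antisymm (fun l hl => ?_) (sup_le hQL hNL)
    obtain ⟨u, hu, hul⟩ := hcov l hl
    simpa using mul_mem (Subgroup.mem_sup_left hu : u ∈ Q ⊔ N) (Subgroup.mem_sup_right hul)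
  -- the invariant extension
  obtain ⟨η, hη, hηinv⟩ := InvariantCore.exists_canonical_extension N L hNL hNp
    (hLsup ▸ hindex Q hQ) θ hinv
  let f : G → ℂ := fun x => if hx : x ∈ L then (η : L → ℂ) ⟨x, hx⟩ else 0
  have hfmem : ∀ x : L, f (x : G) = (η : L → ℂ) x := fun x => dif_pos x.2
  let K : Subgroup L := N.subgroupOf L
  have hKirr : IsIrrCharacter K (fun k : K => (η : L → ℂ) k) := by
    have e : (fun k : K => (η : L → ℂ) k) =
        fun k => (θ : N → ℂ) (Subgroup.subgroupOfEquivOfLe hNL k) := funext fun k =>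
      (hη (Subgroup.subgroupOfEquivOfLe hNL k)).symm ▸ rfl
    rw [e]
    exact Chars.isIrrCharacter_comp_mulEquiv _ θ.2
  let E : InvariantCore.CoreExt N L :=
    { f := f
      conj := fun g x => by
        by_cases hx : x ∈ L
        · have hx' : g * x * g⁻¹ ∈ L := hLn.conj_mem x hx g
          simp only [f, dif_pos hx, dif_pos hx']
          exact hηinv g (fun s hs => hLn.conj_mem s hs g) ⟨x, hx⟩
        · have hx' : ¬ g * x * g⁻¹ ∈ L := fun h => hx (by
            simpa [mul_assoc] using hLn.conj_mem _ h g⁻¹)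
          simp only [f, dif_neg hx, dif_neg hx']
      int := fun x => by
        by_cases hx : x ∈ L
        · simp only [f, dif_pos hx]
          exact Chars.irr_isIntegral η _
        · simp only [f, dif_neg hx]
          exact isIntegral_zero
      ne := by
        rw [show (1 : G) = ((1 : L) : G) from rfl, hfmem]
        exact Chars.irr_apply_one_ne_zero η
      conv := fun a ha b hb => by
        have h := InvariantCore.sum_restrict_mul η K hKirr ⟨a, ha⟩ ⟨b, hb⟩
        rw [show (1 : G) = ((1 : L) : G) from rfl, hfmem,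
          show f (a * b) = (η : L → ℂ) (⟨a, ha⟩ * ⟨b, hb⟩) from hfmem (⟨a, ha⟩ * ⟨b, hb⟩),
          ← Nat.card_congr (Subgroup.subgroupOfEquivOfLe hNL).toEquiv, ← h, ← Finset.sum_filter]
        refine Finset.sum_bij' (fun x hx => (⟨⟨x, hNL (Finset.mem_filter.1 hx).2⟩,
          (Finset.mem_filter.1 hx).2⟩ : K)) (fun k _ => ((k : L) : G))
          (fun _ _ => Finset.mem_univ _)
          (fun k _ => Finset.mem_filter.2 ⟨Finset.mem_univ _, k.2⟩) (fun _ _ => rfl)
          (fun _ _ => rfl) (fun x hx => ?_)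
        have hxL : x ∈ L := hNL (Finset.mem_filter.1 hx).2
        exact congrArg₂ (· * ·) (hfmem (⟨a, ha⟩ * ⟨x, hxL⟩))
          (hfmem ((⟨x, hxL⟩ : L)⁻¹ * ⟨b, hb⟩)) }
  have hfN : ∀ n : N, f (n : G) = (θ : N → ℂ) n := fun n =>
    (hfmem (Subgroup.inclusion hNL n)).trans (hη n)
  have hover : ∀ χ : IrrCharacter G,
      classInner (fun n : N => (χ : G → ℂ) n) (θ : N → ℂ) ≠ 0 →
      ∀ n ∈ N, (χ : G → ℂ) n / (χ : G → ℂ) 1 = f n / f 1 := by
    intro χ hχ n hn
    have hinv' : ∀ g : G, Clifford.conjFun g (θ : N → ℂ) = (θ : N → ℂ) := fun g =>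
      funext fun m => (congrArg (θ : N → ℂ) (Subtype.ext (by simp))).trans (hinv g m)
    have h := Clifford.resFun_eq_smul_of_invariant χ.2 θ.2 (N := N) hχ hinv'
    have hn' := congrFun h ⟨n, hn⟩
    have h1 := congrFun h 1
    simp only [Clifford.resFun, OneMemClass.coe_one, Pi.smul_apply, smul_eq_mul] at hn' h1
    rw [hn', h1, show f n = (θ : N → ℂ) ⟨n, hn⟩ from hfN ⟨n, hn⟩,
      show f 1 = (θ : N → ℂ) 1 from hfN 1]
    exact mul_div_mul_left _ _ hχ
  have hsame : ∀ χ χ' : IrrCharacter G,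
      classInner (fun n : N => (χ : G → ℂ) n) (θ : N → ℂ) ≠ 0 →
      classInner (fun n : N => (χ' : G → ℂ) n) (θ : N → ℂ) ≠ 0 →
      SameBlock M (χ : G → ℂ) (χ' : G → ℂ) := fun χ χ' h h' =>
    InvariantCore.sameBlock_of_coreExt hM hNp hNL E Q hQ hQL hcov hcent χ χ' (hover χ h)
      (hover χ' h')
  -- a character of degree prime to p over θ
  obtain ⟨χ₀, hχ₀θ, hχ₀p⟩ : ∃ χ : IrrCharacter G,
      classInner (fun n : N => (χ : G → ℂ) n) (θ : N → ℂ) ≠ 0 ∧
      ¬ p ∣ charDegree (χ : G → ℂ) := by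
    obtain ⟨P⟩ : Nonempty (Sylow p G) := inferInstance
    let S : Subgroup G := (P : Subgroup G) ⊔ N
    have hNS : N ≤ S := le_sup_right
    obtain ⟨ηS, hηS, -⟩ := InvariantCore.exists_canonical_extension N S hNS hNp
      (hindex _ P.isPGroup') θ hinv
    obtain ⟨d, hd0, hd, hddvd⟩ := Chars.irr_degree_dvd_card θ
    obtain ⟨n, hn⟩ := Chars.isCharacter_exists_nat_decomp
      (Chars.isCharacter_indFun S (Chars.irr_isCharacter ηS))
    choose D hD0 hD using fun φ : IrrCharacter G => Chars.isIrrCharacter_exists_degree_pos φ.2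
    obtain ⟨φ, hφp, hφn⟩ : ∃ φ, ¬ p ∣ D φ ∧ n φ ≠ 0 := by
      by_contra! h
      have h1 := congrFun hn 1
      have hone : (ηS : S → ℂ) 1 = (d : ℂ) := by
        rw [← hd, ← hηS 1, map_one]
      rw [Chars.indFun_one_eq, hone] at h1
      simp only [Finset.sum_apply, Pi.smul_apply, smul_eq_mul, hD] at h1
      have h2 : S.index * d = ∑ φ, n φ * D φ := by exact_mod_cast h1
      have h3 : p ∣ S.index * d := h2 ▸ Finset.dvd_sum fun φ _ => by
        by_cases hd' : p ∣ D φ
        · exact dvd_mul_of_dvd_right hd' _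
        · rw [h φ hd', zero_mul]; exact dvd_zero p
      rcases hp.dvd_mul.1 h3 with h3 | h3
      · exact P.not_dvd_index (h3.trans (Subgroup.index_dvd_of_le le_sup_left))
      · exact hNp (h3.trans hddvd)
    refine ⟨φ, ?_, ?_⟩
    · obtain ⟨m, hm⟩ := Chars.isCharacter_exists_nat_decomp
        (Chars.isCharacter_restrict S (Chars.irr_isCharacter φ))
      have hmS : m ηS ≠ 0 := by
        intro h0
        have h1 := Chars.classInner_indFun_left S (ηS : S → ℂ) _ (Chars.irr_isClassFunction φ)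
        rw [hn, Chars.classInner_sum_smul_irr, ← Chars.conj_classInner, hm,
          Chars.classInner_sum_smul_irr, h0, Nat.cast_zero, map_zero, Nat.cast_eq_zero] at h1
        exact hφn h1
      have hresN : (fun k : N => (φ : G → ℂ) k) =
          ∑ δ : IrrCharacter S, (m δ : ℂ) • fun k : N => (δ : S → ℂ) (Subgroup.inclusion hNS k) := by
        funext k
        have := congrFun hm (Subgroup.inclusion hNS k)
        simpa [Finset.sum_apply] using this
      have hnat : ∀ δ : IrrCharacter S, ∃ j : ℕ,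
          classInner (fun k : N => (δ : S → ℂ) (Subgroup.inclusion hNS k)) (θ : N → ℂ) = j :=
        fun δ => Chars.isCharacter_classInner_nat
          (Chars.isCharacter_comp _ (Chars.irr_isCharacter δ)) (Chars.irr_isCharacter θ)
      choose j hj using hnat
      have hj1 : j ηS = 1 := by
        have h := hj ηS
        rw [show (fun k : N => (ηS : S → ℂ) (Subgroup.inclusion hNS k)) = (θ : N → ℂ) from
          funext hηS, Chars.classInner_irr_self] at h
        exact_mod_cast h.symm
      rw [hresN, Chars.classInner_sum_left]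
      simp only [Chars.classInner_smul_left, hj]
      rw [← Finset.sum_congr rfl fun δ _ => Nat.cast_mul (m δ) (j δ), ← Nat.cast_sum,
        Nat.cast_ne_zero]
      intro h0
      have := (Finset.sum_eq_zero_iff.1 h0) ηS (Finset.mem_univ _)
      rw [hj1, mul_one] at this
      exact hmS this
    · rw [show charDegree (φ : G → ℂ) = D φ by simp [charDegree, hD]]
      exact hφp
  let B := blockOf M (χ₀ : G → ℂ)
  have hB : IsPBlock M B := isPBlock_blockOf χ₀
  have hBiff : ∀ χ : IrrCharacter G,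
      χ ∈ B ↔ classInner (fun n : N => (χ : G → ℂ) n) (θ : N → ℂ) ≠ 0 := fun χ =>
    ⟨fun h => Covering.constituent_of_sameBlock hM hNp h hχ₀θ, fun h => hsame χ₀ χ hχ₀θ h⟩
  have hdef : blockDefect p B = (Nat.card G).factorization p := by
    have h0 : sInf ((fun χ : IrrCharacter G => (charDegree (χ : G → ℂ)).factorization p) '' B) = 0 :=
      Nat.le_zero.1 (Nat.sInf_le ⟨χ₀, mem_blockOf_self χ₀,
        Nat.factorization_eq_zero_of_not_dvd hχ₀p⟩)
    rw [blockDefect, h0, Nat.sub_zero]
  have hsyl : ∀ D : Subgroup G, IsDefectGroup p M B D → ∃ P : Sylow p G, D = (P : Subgroup G) := by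
    intro D hD
    have hc := card_defectGroup hM hB hD
    rw [hdef] at hc
    exact ⟨Sylow.ofCard D hc, rfl⟩
  refine ⟨B, hB, hBiff, fun P => ?_, hsyl⟩
  obtain ⟨D, hD⟩ := exists_isDefectGroup (p := p) hB
  obtain ⟨P', rfl⟩ := hsyl D hD
  obtain ⟨g, hg⟩ := MulAction.exists_smul_eq G P' P
  rw [← hg]
  exact isDefectGroup_conj hD g

end Cfsg.Agent.S4492
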