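import Cfsg.Statements.S4146
import Cfsg.Agent.Lib.FourSizes.Crossed

set_option autoImplicit false
open Cfsg

namespace Cfsg.Agent.S4146

/-- Let G be a finite group whose conjugacy class sizes are exactly 1, n, m and nm for coprime integers n, m > 1. Then G is nilpotent and n and m are prime powers. -/
theorem result {G : Type*} [Group G] [Finite G] (n m : ℕ) (hn : 1 < n) (hm : 1 < m) (hcop : n.Coprime m)
    (h : Set.range (fun x : G => (Subgroup.centralizer ({x} : Set G)).index) = ({1, n, m, n * m} : Set ℕ)) :
    Group.IsNilpotent G ∧ IsPrimePow n ∧ IsPrimePow m := by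
  have hr : ∀ k : ℕ, k ∈ ({1, n, m, n * m} : Set ℕ) →
      ∃ x : G, Lib.ClassSizeTop.idx x = k := fun k hk => by
    rw [← h] at hk
    exact hk
  have hs : Lib.FourSizes.Sizes G m n :=
    ⟨hm, hn, hcop.symm, fun x => by
      have : Lib.ClassSizeTop.idx x ∈ ({1, n, m, n * m} : Set ℕ) := h ▸ Set.mem_range_self x
      simp only [Set.mem_insert_iff, Set.mem_singleton_iff] at this
      rw [mul_comm m n]
      tauto,
      hr m (by simp), hr n (by simp), by rw [mul_comm m n]; exact hr _ (by simp)⟩
  exact hs.nilpotent_and_primePow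

end Cfsg.Agent.S4146
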