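import Cfsg.Statements.S4034
import Mathlib
import Cfsg.Agent.Lib.Burnside.Paqb
import Cfsg.Agent.Lib.Hall.Solvable
import Cfsg.Agent.Lib.Hall.PSolvable
import Cfsg.Agent.Lib.Core.Fitting

set_option autoImplicit false
open Cfsg
open Pointwise

namespace Cfsg.Agent.S4034

open Cfsg.Agent.Lib

universe u

variable {G : Type u} [Group G] [Finite G] {p : ℕ} [hp : Fact p.Prime]

omit [Finite G] in
theorem comm_of_mem {H : Subgroup G} [IsMulCommutative H] {a b : G} (ha : a ∈ H) (hb : b ∈ H) :
    a * b = b * a :=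
  congrArg Subtype.val ((IsMulCommutative.is_comm (M := H)).comm ⟨a, ha⟩ ⟨b, hb⟩)

/-- all p-regular elements have centralizers of p-power index -/
def Reg (p : ℕ) (G : Type u) [Group G] : Prop :=
  ∀ x : G, (orderOf x).Coprime p → ∃ k : ℕ, (Subgroup.centralizer ({x} : Set G)).index = p ^ k

theorem ncard_carrier (x : G) :
    (ConjClasses.mk x).carrier.ncard = (Subgroup.centralizer ({x} : Set G)).index := by
  rw [← Nat.card_coe_set_eq, ← Chars.card_conjClass_eq_index]
  exact Nat.card_congr (Equiv.subtypeEquivRight fun y => by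
    rw [ConjClasses.mem_carrier_iff_mk_eq, ConjClasses.mk_eq_mk_iff_isConj, isConj_comm])

theorem coprime_card_of_reg {H : Subgroup G} (h : (Nat.card H).Coprime p) {x : G} (hx : x ∈ H) :
    (orderOf x).Coprime p :=
  h.coprime_dvd_left (Subgroup.orderOf_dvd_natCard H hx)

theorem reg_subgroup (hG : Reg p G) (N : Subgroup G) [N.Normal] : Reg p N := by
  intro x hx
  obtain ⟨k, hk⟩ := hG x (by rwa [Subgroup.orderOf_coe])
  have h1 : (Subgroup.centralizer ({(x : G)} : Set G)).relIndex N ∣ p ^ k :=
    hk ▸ Hall.relIndex_dvd_index_of_normal_right _ N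
  have h2 : (Subgroup.centralizer ({(x : G)} : Set G)).subgroupOf N =
      Subgroup.centralizer ({x} : Set N) := by
    ext y
    simp [Subgroup.mem_subgroupOf, Subgroup.mem_centralizer_singleton_iff, Subtype.ext_iff]
  obtain ⟨j, -, hj⟩ := (Nat.dvd_prime_pow hp.out).mp h1
  exact ⟨j, h2 ▸ hj⟩

theorem reg_quotient (hG : Reg p G) {Q : Type u} [Group Q] (f : G →* Q)
    (hf : Function.Surjective f) : Reg p Q := by
  intro y hy
  obtain ⟨x, rfl⟩ := hf y
  set a := (Nat.card G).factorization p
  obtain ⟨e, he1, he2⟩ := Nat.chineseRemainder (Nat.Coprime.pow_right a hy) 1 0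
  set z := x ^ e with hz
  have hfz : f z = f x := by
    rw [hz, map_pow, ← pow_mod_orderOf, he1, pow_mod_orderOf, pow_one]
  have hzo : (orderOf z).Coprime p := by
    have hd : orderOf z ∣ Nat.card G / p ^ a := by
      rw [orderOf_dvd_iff_pow_eq_one, hz, ← pow_mul]
      obtain ⟨t, ht⟩ := Nat.modEq_zero_iff_dvd.mp he2
      rw [ht, mul_comm _ t, mul_assoc, Nat.mul_div_cancel' (Nat.ordProj_dvd _ p), mul_comm,
        pow_mul, pow_card_eq_one', one_pow]
    exact (Nat.coprime_ordCompl hp.out Nat.card_pos.ne').symm.coprime_dvd_left hd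
  obtain ⟨k, hk⟩ := hG z hzo
  have hle : (Subgroup.centralizer ({z} : Set G)).map f ≤ Subgroup.centralizer ({f x} : Set Q) := by
    rintro _ ⟨c, hc, rfl⟩
    rw [Subgroup.mem_centralizer_singleton_iff, ← hfz, ← map_mul, ← map_mul,
      Subgroup.mem_centralizer_singleton_iff.mp hc]
  obtain ⟨j, -, hj⟩ := (Nat.dvd_prime_pow hp.out).mp
    (hk ▸ (Subgroup.index_dvd_of_le hle).trans (Subgroup.index_map_dvd _ hf))
  exact ⟨j, hj⟩

theorem isSolvable_of_reg {G : Type u} [Group G] [Finite G] (hG : Reg p G) : Group.IsSolvable G := by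
  induction hn : Nat.card G using Nat.strong_induction_on generalizing G with
  | _ n ih =>
    subst hn
    by_cases hs : ∃ N : Subgroup G, N.Normal ∧ N ≠ ⊥ ∧ N ≠ ⊤
    · obtain ⟨N, hN, hb, ht⟩ := hs
      have h1 : Nat.card N < Nat.card G :=
        lt_of_le_of_ne N.card_le_card_group fun h => ht (Subgroup.eq_top_of_card_eq _ h)
      have h2 : Nat.card (G ⧸ N) < Nat.card G := by
        rw [Subgroup.card_eq_card_quotient_mul_card_subgroup N]
        exact lt_mul_of_one_lt_right Nat.card_pos (N.one_lt_card_iff_ne_bot.mpr hb)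
      have := ih _ h1 (reg_subgroup hG N) rfl
      have := ih _ h2 (reg_quotient hG _ (QuotientGroup.mk'_surjective N)) rfl
      exact Group.isSolvable_of_ker_le_range N.subtype (QuotientGroup.mk' N)
        (by rw [QuotientGroup.ker_mk', Subgroup.range_subtype])
    · push_neg at hs
      by_cases hpg : IsPGroup p G
      · haveI := hpg.isNilpotent
        infer_instance
      obtain ⟨q, hq, hqd, hqp⟩ : ∃ q, q.Prime ∧ q ∣ Nat.card G ∧ q ≠ p := by
        by_contra h
        push_neg at h
        exact hpg (IsPGroup.of_card (n := (Nat.card G).primeFactorsList.length)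
          (Nat.eq_prime_pow_of_unique_prime_dvd Nat.card_pos.ne' fun {q} hq hd => h q hq hd))
      haveI := Fact.mk hq
      obtain ⟨x, hx⟩ := exists_prime_orderOf_dvd_card' q hqd
      have hx1 : x ≠ 1 := fun h => hq.ne_one (by rw [← hx, h, orderOf_one])
      haveI : Nontrivial G := ⟨⟨x, 1, hx1⟩⟩
      haveI : IsSimpleGroup G := ⟨fun N hN => (em (N = ⊥)).imp_right (hs N hN)⟩
      obtain ⟨k, hk⟩ := hG x (by rw [hx]; exact (Nat.coprime_primes hq hp.out).mpr hqp)
      rcases Nat.eq_zero_or_pos k with h0 | h0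
      · rw [h0, pow_zero, Subgroup.index_eq_one] at hk
        have hxc : x ∈ Subgroup.center G := Subgroup.mem_center_iff.mpr fun g =>
          Subgroup.mem_centralizer_singleton_iff.mp (hk ▸ Subgroup.mem_top g)
        have htop : Subgroup.center G = ⊤ := hs _ inferInstance fun hbot => hx1 (by
          rwa [hbot, Subgroup.mem_bot] at hxc)
        exact isSolvable_of_comm fun a b =>
          (Subgroup.mem_center_iff.mp (htop ▸ Subgroup.mem_top b) a)
      · exact absurd ((Chars.card_conjClass_eq_index x).trans hk)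
          (Burnside.class_card_ne_prime_pow hp.out h0)

theorem forward {G : Type u} [Group G] [Finite G] (hG : Reg p G) :
    ∃ H : Subgroup G, Cfsg.IsPiHall ({p}ᶜ) H ∧ IsMulCommutative H := by
  induction hn : Nat.card G using Nat.strong_induction_on generalizing G with
  | _ n ih =>
    subst hn
    haveI := isSolvable_of_reg hG
    have hP := Hall.hallProperties_of_isSolvable (G := G) ({p}ᶜ)
    obtain ⟨H, hH⟩ := hP.1
    refine ⟨H, hH, ?_⟩
    by_cases hO : pCore p G = ⊥
    · -- `F(G)` is a p'-group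
      have hFp : Hall.IsPiNumber ({p}ᶜ) (Nat.card (fittingSubgroup G)) := by
        intro q hq hd hqp
        rw [Set.mem_singleton_iff] at hqp
        subst hqp
        have h1 : (pCore q G).relIndex (fittingSubgroup G) = Nat.card (fittingSubgroup G) := by
          rw [hO, Subgroup.relIndex_bot_left]
        exact Fitting.not_dvd_relIndex_pCore_fitting (G := G) q (h1.symm ▸ hd)
      haveI := Fitting.fittingSubgroup_normal (G := G)
      have hFle : ∀ K : Subgroup G, IsPiHall ({p}ᶜ) K → fittingSubgroup G ≤ K :=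
        fun K hK => Hall.le_isPiHall_of_normal hK hFp
      have key : ∀ h ∈ H, ∃ K : Subgroup G, IsPiHall ({p}ᶜ) K ∧ h ∈ K ∧
          K ≤ Subgroup.centralizer ({h} : Set G) := by
        intro h hh
        set C := Subgroup.centralizer ({h} : Set G) with hC
        obtain ⟨k, hk⟩ := hG h (coprime_card_of_reg ((Hall.isPiHall_compl_iff H).mp hH).1 hh)
        have hhC : h ∈ C := Subgroup.mem_centralizer_singleton_iff.mpr rfl
        have hU : Hall.IsPiNumber ({p}ᶜ) (Nat.card (Subgroup.zpowers (⟨h, hhC⟩ : C))) := by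
          rw [Nat.card_zpowers, Subgroup.orderOf_mk]
          exact ((Hall.isPiHall_iff H).mp hH).1.of_dvd (Subgroup.orderOf_dvd_natCard H hh)
        obtain ⟨K, hK, hUK⟩ := (Hall.hallProperties_of_isSolvable (G := C) ({p}ᶜ)).2.2 _ hU
        refine ⟨K.map C.subtype, ?_, ⟨⟨h, hhC⟩, hUK (Subgroup.mem_zpowers _), rfl⟩,
          Subgroup.map_subtype_le _⟩
        rw [Hall.isPiHall_iff] at hK ⊢
        rw [Subgroup.card_map_of_injective C.subtype_injective, Subgroup.index_map_subtype, hk,
          compl_compl]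
        refine ⟨hK.1, Hall.IsPiNumber.mul ?_ (Hall.isPiNumber_pow_prime (π := {p}) hp.out
          (Set.mem_singleton p) k)⟩
        simpa using hK.2
      have hHF : H ≤ fittingSubgroup G := fun h hh => by
        obtain ⟨K, hK, -, hKC⟩ := key h hh
        refine Fitting.centralizer_fittingSubgroup_le (Subgroup.mem_centralizer_iff.mpr fun f hf => ?_)
        exact Subgroup.mem_centralizer_singleton_iff.mp (hKC (hFle K hK hf))
      have hHFeq : H = fittingSubgroup G := le_antisymm hHF (hFle H hH)
      refine ⟨⟨fun a b => Subtype.ext ?_⟩⟩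
      obtain ⟨K, hK, -, hKC⟩ := key a a.2
      have hKH : K = H := by
        rw [hHFeq]
        exact (Subgroup.eq_of_le_of_card_ge (hFle K hK)
          (le_of_eq (by rw [Hall.isPiHall_card_eq hK hH, hHFeq]))).symm
      exact (Subgroup.mem_centralizer_singleton_iff.mp (hKC (hKH.symm ▸ b.2))).symm
    · set N := pCore p G with hN
      have hlt : Nat.card (G ⧸ N) < Nat.card G := by
        rw [Subgroup.card_eq_card_quotient_mul_card_subgroup N]
        exact lt_mul_of_one_lt_right Nat.card_pos (N.one_lt_card_iff_ne_bot.mpr hO)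
      set q := QuotientGroup.mk' N
      have hqs : Function.Surjective q := QuotientGroup.mk'_surjective N
      haveI : Group.IsSolvable (G ⧸ N) := Group.isSolvable_of_surjective hqs
      obtain ⟨K, hK, hKc⟩ := ih _ hlt (reg_quotient hG q hqs) rfl
      obtain ⟨g, hg⟩ := (Hall.hallProperties_of_isSolvable (G := G ⧸ N) ({p}ᶜ)).2.1 K (H.map q)
        hK (Hall.isPiHall_map hH hqs)
      haveI : IsMulCommutative (H.map q) := by
        rw [← hg]
        haveI := hKc
        exact ⟨⟨fun a b => by
          apply (Subgroup.equivSMul (MulAut.conj g) K).symm.injective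
          rw [map_mul, map_mul]
          exact Std.Commutative.comm _ _⟩⟩
      have hco : (Nat.card H).Coprime (Nat.card N) := by
        obtain ⟨b, hb⟩ := (PSolvable.pCore_isPGroup (p := p) (G := G)).exists_card_eq
        rw [hN, hb]
        exact Nat.Coprime.pow_right _ ((Hall.isPiHall_compl_iff H).mp hH).1
      refine ⟨⟨fun a b => Subtype.ext ?_⟩⟩
      have hin : ∀ x ∈ H, q x = 1 → x = 1 := fun x hx hx1 => by
        have hd : H ⊓ N = ⊥ := Subgroup.inf_eq_bot_of_coprime hco
        have : x ∈ H ⊓ N := ⟨hx, (QuotientGroup.eq_one_iff x).mp hx1⟩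
        rwa [hd, Subgroup.mem_bot] at this
      have hcq : q (a : G) * q (b : G) = q (b : G) * q (a : G) :=
        comm_of_mem (H := H.map q) (Subgroup.mem_map_of_mem q a.2) (Subgroup.mem_map_of_mem q b.2)
      have h1 := hin ((a : G) * b * ((b : G) * a)⁻¹)
        (H.mul_mem (H.mul_mem a.2 b.2) (H.inv_mem (H.mul_mem b.2 a.2)))
        (by rw [map_mul, map_inv, map_mul, map_mul, hcq, mul_inv_cancel])
      exact mul_inv_eq_one.mp h1

theorem backward {G : Type u} [Group G] [Finite G] {H : Subgroup G} (hc : IsMulCommutative H)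
    (hH : Cfsg.IsPiHall ({p}ᶜ) H) {x : G} (hx : (orderOf x).Coprime p) :
    ∃ k : ℕ, (Subgroup.centralizer ({x} : Set G)).index = p ^ k := by
  induction hn : Nat.card G using Nat.strong_induction_on generalizing G with
  | _ n ih =>
    subst hn
    by_cases hxc : x ∈ Subgroup.center G
    · refine ⟨0, ?_⟩
      rw [pow_zero, Subgroup.index_eq_one, eq_top_iff]
      intro g _
      exact Subgroup.mem_centralizer_singleton_iff.mpr (Subgroup.mem_center_iff.mp hxc g)
    -- some primary part of `x` is not central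
    obtain ⟨q, hq, y, hyx, hyq, hyc⟩ : ∃ q, q.Prime ∧ ∃ y ∈ Subgroup.zpowers x,
        (∃ m, orderOf y = q ^ m) ∧ y ∉ Subgroup.center G := by
      by_contra h
      push_neg at h
      refine hxc ?_
      have hsub : Subgroup.zpowers x ≤ Subgroup.center G := by
        refine Subgroup.subgroupOf_eq_top.mp (Fitting.eq_top_of_sylow_le fun q hq => ?_)
        obtain ⟨P⟩ := (inferInstance : Nonempty (Sylow q (Subgroup.zpowers x)))
        refine ⟨P, fun z hz => ?_⟩
        haveI := Fact.mk hq
        obtain ⟨m, hm⟩ := IsPGroup.iff_orderOf.mp P.2 ⟨z, hz⟩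
        rw [Subgroup.orderOf_mk] at hm
        exact h q hq z z.2 ⟨m, by rw [Subgroup.orderOf_coe, hm]⟩
      exact hsub (Subgroup.mem_zpowers x)
    obtain ⟨m, hm⟩ := hyq
    haveI := Fact.mk hq
    have hy1 : y ≠ 1 := fun h => hyc (h ▸ one_mem _)
    have hqp : ¬ q = p := by
      intro he
      subst he
      have hd : orderOf y ∣ orderOf x := by
        have := Subgroup.orderOf_dvd_natCard _ hyx
        rwa [Nat.card_zpowers] at this
      have h1 : (orderOf y).Coprime q := hx.coprime_dvd_left hd
      rw [hm] at h1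
      cases m with
      | zero => exact hy1 (orderOf_eq_one_iff.mp (by rw [hm, pow_zero]))
      | succ m => exact hq.one_lt.ne' (Nat.Coprime.eq_one_of_dvd (h1.symm.coprime_dvd_right (dvd_pow_self q (Nat.succ_ne_zero m))) dvd_rfl)
    obtain ⟨hHp, b, hb⟩ := (Hall.isPiHall_compl_iff H).mp hH
    have hqi : ¬ q ∣ H.index := fun hd => hqp
      ((Nat.prime_dvd_prime_iff_eq hq hp.out).mp (hq.dvd_of_dvd_pow (hb ▸ hd)))
    obtain ⟨Q⟩ := (inferInstance : Nonempty (Sylow q H))
    have hQi : ¬ q ∣ ((Q : Subgroup H).map H.subtype).index := by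
      rw [Subgroup.index_map_subtype]
      exact fun hd => (hq.dvd_mul.mp hd).elim Q.not_dvd_index hqi
    let Q' : Sylow q G := (Q.2.map H.subtype).toSylow hQi
    obtain ⟨R, hR⟩ := (IsPGroup.of_card (n := m) (p := q)
      (by rw [Nat.card_zpowers, hm]) : IsPGroup q (Subgroup.zpowers y)).exists_le_sylow
    obtain ⟨g, hg⟩ := MulAction.exists_smul_eq G Q' R
    set H' : Subgroup G := MulAut.conj g • H with hH'
    have hyH : y ∈ H' := by
      have h1 : y ∈ (R : Subgroup G) := hR (Subgroup.mem_zpowers y)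
      rw [← hg, Sylow.coe_subgroup_smul, IsPGroup.toSylow_coe] at h1
      exact Subgroup.pointwise_smul_le_pointwise_smul_iff.mpr (Subgroup.map_subtype_le _) h1
    haveI hc' : IsMulCommutative H' := by
      haveI := hc
      exact ⟨⟨fun a b => by
        apply (Subgroup.equivSMul (MulAut.conj g) H).symm.injective
        rw [map_mul, map_mul]
        exact Std.Commutative.comm _ _⟩⟩
    set C := Subgroup.centralizer ({y} : Set G) with hCdef
    have hH'C : H' ≤ C := fun z hz => Subgroup.mem_centralizer_singleton_iff.mpr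
      (comm_of_mem (H := H') hz hyH)
    have hH'hall := Hall.isPiHall_conj hH g
    have hxC : x ∈ C := by
      obtain ⟨i, rfl⟩ := Subgroup.mem_zpowers_iff.mp hyx
      exact Subgroup.mem_centralizer_singleton_iff.mpr (Commute.zpow_right (Commute.refl x) i).eq
    have hlt : Nat.card C < Nat.card G := by
      refine lt_of_le_of_ne C.card_le_card_group fun h => hyc ?_
      rw [Subgroup.mem_center_iff]
      intro w
      exact Subgroup.mem_centralizer_singleton_iff.mp
        (show w ∈ C by rw [Subgroup.eq_top_of_card_eq _ h]; exact Subgroup.mem_top w)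
    haveI : IsMulCommutative (H'.subgroupOf C) := ⟨⟨fun a b => Subtype.ext (Subtype.ext
      (comm_of_mem (H := H') a.2 b.2))⟩⟩
    have hHC : Cfsg.IsPiHall ({p}ᶜ) (H'.subgroupOf C) := by
      rw [Hall.isPiHall_iff] at hH'hall ⊢
      rw [SZ.card_subgroupOf hH'C]
      exact ⟨hH'hall.1, hH'hall.2.of_dvd (Subgroup.relIndex_dvd_index_of_le hH'C)⟩
    obtain ⟨k, hk⟩ := ih _ hlt (H := H'.subgroupOf C) inferInstance hHC (x := ⟨x, hxC⟩)
      (by rwa [Subgroup.orderOf_mk]) rfl
    have hCi : ∃ j, C.index = p ^ j := by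
      obtain ⟨-, i, hi⟩ := (Hall.isPiHall_compl_iff H').mp hH'hall
      obtain ⟨j, -, hj⟩ := (Nat.dvd_prime_pow hp.out).mp (hi ▸ Subgroup.index_dvd_of_le hH'C)
      exact ⟨j, hj⟩
    obtain ⟨j, hj⟩ := hCi
    have hd : (Subgroup.centralizer ({x} : Set G)).index ∣ p ^ (k + j) := by
      rw [pow_add, ← hk, ← hj, ← Subgroup.index_map_subtype]
      refine Subgroup.index_dvd_of_le ?_
      rintro _ ⟨z, hz, rfl⟩
      exact Subgroup.mem_centralizer_singleton_iff.mpr
        (congrArg Subtype.val (Subgroup.mem_centralizer_singleton_iff.mp hz))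
    obtain ⟨i, -, hi⟩ := (Nat.dvd_prime_pow hp.out).mp hd
    exact ⟨i, hi⟩

/-- Let G be a finite group and p a prime. Every conjugacy class of p-regular elements of G (elements of order prime to p) has p-power size if and only if G has an abelian p-complement, i.e. an abelian subgroup of order prime to p and p-power index. -/
theorem result {G : Type*} [Group G] [Finite G] {p : ℕ} (hp : p.Prime) :
    (∀ x : G, (orderOf x).Coprime p → ∃ k : ℕ, (ConjClasses.mk x).carrier.ncard = p ^ k) ↔
    (∃ H : Subgroup G, IsMulCommutative H ∧ ¬ p ∣ Nat.card H ∧ ∃ k : ℕ, H.index = p ^ k) := by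
  haveI := Fact.mk hp
  simp only [ncard_carrier]
  constructor
  · intro h
    obtain ⟨H, hH, hc⟩ := forward (p := p) h
    obtain ⟨h1, h2⟩ := (Hall.isPiHall_compl_iff H).mp hH
    exact ⟨H, hc, hp.coprime_iff_not_dvd.mp h1.symm, h2⟩
  · rintro ⟨H, hc, h1, h2⟩ x hx
    exact backward hc ((Hall.isPiHall_compl_iff H).mpr
      ⟨(hp.coprime_iff_not_dvd.mpr h1).symm, h2⟩) hx

end Cfsg.Agent.S4034
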