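import Cfsg.Statements.S4033
import Cfsg.Agent.Lib.TwoRegular69.Basic
import Cfsg.Agent.S4034

set_option autoImplicit false
open Cfsg

namespace Cfsg.Agent.S4033

open Subgroup Cfsg.Agent.Lib Cfsg.Agent.Lib.ThreeSizes Cfsg.Agent.Lib.ClassSizeTop

theorem single {G : Type*} [Group G] [Finite G] {p q : ℕ} (hp : p.Prime) (hq : q.Prime)
    (hqp : q ≠ p) (h : ∀ r : ℕ, r.Prime → r ≠ p → r ≠ q → ∀ v : G, El r v → v ∈ center G) :
    ∃ (_ : Fact q.Prime) (P : Sylow p G) (Q : Sylow q G) (A : Subgroup G),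
        A ≤ Subgroup.center G ∧
        Nat.card ↥((P : Subgroup G) ⊔ (Q : Subgroup G)) = Nat.card P * Nat.card Q ∧
        ((P : Subgroup G) ⊔ (Q : Subgroup G)).Normal ∧
        ((P : Subgroup G) ⊔ (Q : Subgroup G)) ⊓ A = ⊥ ∧
        ((P : Subgroup G) ⊔ (Q : Subgroup G)) ⊔ A = ⊤ := by
  classical
  haveI := Fact.mk hp
  haveI := Fact.mk hq
  haveI : Group.IsSolvable G := isSolvable_of_two_primes hp hq fun r hr hrd => by
    haveI := Fact.mk hr
    obtain ⟨v, hv, hvZ⟩ := exists_el_of_dvd_index hrd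
    by_contra hne
    push Not at hne
    exact hvZ (h r hr hne.1 hne.2 v hv)
  obtain ⟨K, hK⟩ := (Hall.hallProperties_of_isSolvable (G := G) ({p, q} : Set ℕ)).1
  obtain ⟨hK1, hK2⟩ := (Hall.isPiHall_iff K).1 hK
  let A : Subgroup G :=
    { carrier := {z | z ∈ center G ∧ (orderOf z).Coprime (p * q)}
      one_mem' := ⟨one_mem _, by simp⟩
      mul_mem' := fun {a b} ha hb => ⟨mul_mem ha.1 hb.1,
        (ha.2.mul_left hb.2).coprime_dvd_left
          (show Commute a b from (mem_center_iff.1 hb.1 a)).orderOf_mul_dvd_mul_orderOf⟩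
      inv_mem' := fun {a} ha => ⟨inv_mem ha.1, by rw [orderOf_inv]; exact ha.2⟩ }
  have hnd : ∀ l, l.Prime → l ∈ ({p, q} : Set ℕ) → ¬ l ∣ K.index := fun l hl hm hd =>
    hK2 l hl hd hm
  have hKA : K ⊔ A = ⊤ := by
    rw [← index_eq_one]
    by_contra hne
    obtain ⟨r, hr, hrd⟩ := Nat.exists_prime_and_dvd hne
    haveI := Fact.mk hr
    have hrK : r ∣ K.index := hrd.trans (index_dvd_of_le le_sup_left)
    have hrpq : r ≠ p ∧ r ≠ q := by
      constructor
      · rintro rfl; exact hnd _ hr (by simp) hrK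
      · rintro rfl; exact hnd _ hr (by simp) hrK
    obtain ⟨R⟩ : Nonempty (Sylow r G) := inferInstance
    refine R.not_dvd_index' FiniteIndex.index_ne_zero (hrd.trans (index_dvd_of_le ?_))
    intro x hx
    have hxe : El r x := (R.2 ⟨x, hx⟩).imp fun k hk => congrArg Subtype.val hk
    refine mem_sup_right ⟨h r hr hrpq.1 hrpq.2 x hxe, ?_⟩
    obtain ⟨k, hk⟩ := hxe.orderOf_dvd
    exact ((((Nat.coprime_primes hr hp).2 hrpq.1).mul_right
      ((Nat.coprime_primes hr hq).2 hrpq.2)).pow_left k).coprime_dvd_left hk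
  have hAZ : A ≤ center G := fun z hz => hz.1
  haveI hKn : K.Normal := by
    rw [← normalizer_eq_top_iff, eq_top_iff, ← hKA]
    refine sup_le le_normalizer ((hAZ).trans fun z hz => ?_)
    refine mem_normalizer_iff.2 fun a => ?_
    rw [← mem_center_iff.1 hz a, mul_inv_cancel_right]
  have hle : ∀ (l : ℕ) [Fact l.Prime] (S : Sylow l G), l ∈ ({p, q} : Set ℕ) →
      (S : Subgroup G) ≤ K := by
    intro l hl S hm
    obtain ⟨k, hk⟩ := S.2.exists_card_eq
    have h1 : K.relIndex S ∣ K.index := relIndex_dvd_index_of_normal K S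
    obtain ⟨i, -, hi⟩ := (Nat.dvd_prime_pow hl.out).1
      ((relIndex_dvd_card K (S : Subgroup G)).trans hk.dvd)
    rcases Nat.eq_zero_or_pos i with h0 | h0
    · rwa [h0, pow_zero, relIndex_eq_one] at hi
    · exact absurd ((dvd_pow_self l h0.ne').trans (hi ▸ h1)) (hnd l hl.out hm)
  obtain ⟨P⟩ : Nonempty (Sylow p G) := inferInstance
  obtain ⟨Q⟩ : Nonempty (Sylow q G) := inferInstance
  have hPK := hle p P (by simp)
  have hQK := hle q Q (by simp)
  have hprimes : ∀ l, l.Prime → l ∣ Nat.card K → l = p ∨ l = q := fun l hl hd => by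
    simpa using hK1 l hl hd
  have hPQ : (P : Subgroup G) ⊔ (Q : Subgroup G) = K := by
    refine le_antisymm (sup_le hPK hQK) (relIndex_eq_one.1 ?_)
    by_contra hne
    obtain ⟨l, hl, hld⟩ := Nat.exists_prime_and_dvd hne
    have h1 : l ∣ ((P : Subgroup G) ⊔ (Q : Subgroup G)).index :=
      hld.trans (relIndex_dvd_index_of_le (sup_le hPK hQK))
    rcases hprimes l hl (hld.trans (relIndex_dvd_card _ _)) with rfl | rfl
    · exact P.not_dvd_index' FiniteIndex.index_ne_zero (h1.trans (index_dvd_of_le le_sup_left))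
    · exact Q.not_dvd_index' FiniteIndex.index_ne_zero (h1.trans (index_dvd_of_le le_sup_right))
  have hcard : Nat.card K = Nat.card P * Nat.card Q := by
    obtain ⟨m, hm⟩ := card_dvd_of_le hPK
    have hm0 : m ≠ 0 := fun h0 => Nat.card_pos.ne' (hm.trans (by rw [h0, mul_zero]))
    have hmq := Nat.eq_prime_pow_of_unique_prime_dvd (p := q) hm0 fun {d} hd hdm => by
      refine (hprimes d hd (hdm.trans (Dvd.intro_left _ hm.symm))).resolve_left ?_
      rintro rfl
      refine P.not_dvd_index' FiniteIndex.index_ne_zero (hdm.trans ?_)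
      refine Dvd.intro K.index (Nat.eq_of_mul_eq_mul_left (Nat.card_pos (α := P)) ?_)
      rw [← mul_assoc, ← hm, card_mul_index, card_mul_index]
    obtain ⟨k, hk⟩ := Q.2.exists_card_eq
    have hco : (Nat.card Q).Coprime (Nat.card P) := by
      obtain ⟨j, hj⟩ := P.2.exists_card_eq
      rw [hk, hj]
      exact Nat.Coprime.pow k j ((Nat.coprime_primes hq hp).2 hqp)
    have h1 : m ∣ Nat.card Q := by
      rw [hmq]
      refine Q.pow_dvd_card_of_pow_dvd_card ?_
      rw [← hmq]
      exact (Dvd.intro_left _ hm.symm).trans (card_subgroup_dvd_card K)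
    have h2 : Nat.card Q ∣ m := hco.dvd_of_dvd_mul_left (hm ▸ card_dvd_of_le hQK)
    rw [hm, Nat.dvd_antisymm h1 h2]
  refine ⟨Fact.mk hq, P, Q, A, hAZ, by rw [hPQ, hcard], by rw [hPQ]; exact hKn, ?_,
    by rw [hPQ]; exact hKA⟩
  rw [hPQ, eq_bot_iff]
  intro x hx
  rw [mem_bot, ← orderOf_eq_one_iff]
  by_contra hne
  obtain ⟨l, hl, hld⟩ := Nat.exists_prime_and_dvd hne
  have hdK : l ∣ Nat.card K := hld.trans (Subgroup.orderOf_dvd_natCard K (mem_inf.1 hx).1)
  have hco : (orderOf x).Coprime (p * q) := (mem_inf.1 hx).2.2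
  rcases hprimes l hl hdK with rfl | rfl
  · exact hl.not_dvd_one (hco ▸ Nat.dvd_gcd hld (dvd_mul_right _ _))
  · exact hl.not_dvd_one (hco ▸ Nat.dvd_gcd hld (dvd_mul_left _ _))

/-- Let G be a finite group and p a prime, and suppose the conjugacy classes of p-regular elements of G (elements of order prime to p) have exactly two distinct sizes. Then either G has an abelian p-complement (an abelian subgroup of order prime to p and p-power index), or there are a prime q ≠ p, a Sylow p-subgroup P, a Sylow q-subgroup Q and a central subgroup A such that PQ is a normal subgroup of order #P·#Q and G is the internal direct product PQ × A. -/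
theorem result {G : Type*} [Group G] [Finite G] {p : ℕ} (hp : p.Prime)
    (h2 : Set.ncard (Set.range fun x : {x : G // (orderOf x).Coprime p} => (ConjClasses.mk (x : G)).carrier.ncard) = 2) :
    (∃ H : Subgroup G, IsMulCommutative H ∧ ¬ p ∣ Nat.card H ∧ ∃ k : ℕ, H.index = p ^ k) ∨
    (∃ (q : ℕ) (_ : Fact q.Prime) (P : Sylow p G) (Q : Sylow q G) (A : Subgroup G), q ≠ p ∧
        A ≤ Subgroup.center G ∧ Nat.card ↥((P : Subgroup G) ⊔ (Q : Subgroup G)) = Nat.card P * Nat.card Q ∧
        ((P : Subgroup G) ⊔ (Q : Subgroup G)).Normal ∧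
        ((P : Subgroup G) ⊔ (Q : Subgroup G)) ⊓ A = ⊥ ∧ ((P : Subgroup G) ⊔ (Q : Subgroup G)) ⊔ A = ⊤) := by
  classical
  haveI := Fact.mk hp
  have hcar : ∀ x : G, (ConjClasses.mk x).carrier.ncard = idx x := fun x => S4034.ncard_carrier x
  obtain ⟨a, b, hab, hrange⟩ := Set.ncard_eq_two.1 h2
  have hval : ∀ x : G, (orderOf x).Coprime p → idx x = a ∨ idx x = b := by
    intro x hx
    have h := Set.mem_range_self (f := fun x : {x : G // (orderOf x).Coprime p} =>
      (ConjClasses.mk (x : G)).carrier.ncard) ⟨x, hx⟩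
    rw [hrange] at h
    simpa [hcar] using h
  obtain ⟨n, hT, x₀, hx₀, hx₀Z⟩ : ∃ n, TwoRegular69.TwoSizes G p n ∧
      ∃ x : G, (orderOf x).Coprime p ∧ x ∉ center G := by
    have h1 : idx (1 : G) = a ∨ idx (1 : G) = b := hval 1 (by simp)
    rw [idx_eq_one_iff.2 (one_mem _)] at h1
    have hb : ∀ v, v = a ∨ v = b → ∃ x : G, (orderOf x).Coprime p ∧ idx x = v := by
      intro v hv
      have hmem : v ∈ ({a, b} : Set ℕ) := hv
      rw [← hrange] at hmem
      obtain ⟨⟨x, hx⟩, he⟩ := hmem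
      exact ⟨x, hx, by rw [← hcar]; exact he⟩
    rcases h1 with rfl | rfl
    · obtain ⟨x, hx, he⟩ := hb b (Or.inr rfl)
      refine ⟨b, fun y hy hyZ => (hval y hy).resolve_left fun h => hyZ (idx_eq_one_iff.1 h),
        x, hx, fun hZ => hab ?_⟩
      rw [← he, idx_eq_one_iff.2 hZ]
    · obtain ⟨x, hx, he⟩ := hb a (Or.inl rfl)
      refine ⟨a, fun y hy hyZ => (hval y hy).resolve_right fun h => hyZ (idx_eq_one_iff.1 h),
        x, hx, fun hZ => hab ?_⟩
      rw [← he, idx_eq_one_iff.2 hZ]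
  by_cases h2a : TwoRegular69.TwoActive G p
  · left
    obtain ⟨k, hk⟩ := TwoRegular69.eq_pow_of_twoActive hT hp h2a
    refine (S4034.result hp).1 fun x hx => ?_
    by_cases hxZ : x ∈ center G
    · exact ⟨0, by rw [hcar, idx_eq_one_iff.2 hxZ, pow_zero]⟩
    · exact ⟨k, by rw [hcar, hT x hx hxZ, hk]⟩
  · right
    simp only [TwoRegular69.TwoActive, not_forall, not_exists, not_and, not_not] at h2a
    obtain ⟨q, hq⟩ := h2a
    obtain ⟨t, ht, u, hu, hue, huZ⟩ := exists_noncentral_part hx₀Z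
    have htp : t ≠ p := by
      rintro rfl
      refine huZ ?_
      have hu1 : u = 1 := by
        obtain ⟨k, hk⟩ := hue.orderOf_dvd
        exact orderOf_eq_one_iff.1 (Nat.eq_one_of_dvd_coprimes (hx₀.pow_right k)
          (orderOf_dvd_of_mem_zpowers hu) hk)
      rw [hu1]
      exact one_mem _
    have htq : t = q := hq t ⟨ht, htp, u, hue, huZ⟩
    subst htq
    obtain ⟨hF, P, Q, A, h⟩ := single (p := p) (q := t) hp ht htp fun r hr hrp hrt v hv => by
      by_contra hvZ
      exact hrt (hq r ⟨hr, hrp, v, hv, hvZ⟩)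
    exact ⟨t, hF, P, Q, A, htp, h⟩

end Cfsg.Agent.S4033
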