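import Cfsg.Statements.S0689
import Cfsg.Agent.Lib.Zass25.Regular
-- import your own Cfsg.Agent.* helpers here

set_option autoImplicit false
open Cfsg

namespace Cfsg.Agent.S0689

/-- The insoluble sharply doubly transitive groups: a non-solvable linear group over the prime field that is regular on the non-zero vectors of `V` occurs only for `|V| = 11², 29², 59²`, and is `SL(2,5) × C_m` with `m = 1, 7, 29` respectively. -/
theorem result {p : ℕ} [Fact p.Prime] {V : Type*} [AddCommGroup V] [Module (ZMod p) V] [Finite V] (H : Subgroup (V ≃ₗ[ZMod p] V)) (hreg : ∀ v w : V, v ≠ 0 → w ≠ 0 → ∃! h : H, (h : V ≃ₗ[ZMod p] V) v = w) (hsolv : ¬ Group.IsSolvable H) : (Nat.card V = 121 ∧ Nonempty (H ≃* Matrix.SpecialLinearGroup (Fin 2) (ZMod 5))) ∨ (Nat.card V = 841 ∧ Nonempty (H ≃* Matrix.SpecialLinearGroup (Fin 2) (ZMod 5) × Multiplicative (ZMod 7))) ∨ (Nat.card V = 3481 ∧ Nonempty (H ≃* Matrix.SpecialLinearGroup (Fin 2) (ZMod 5) × Multiplicative (ZMod 29))) := by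
  have : Nontrivial V := by
    by_contra hV
    rw [not_nontrivial_iff_subsingleton] at hV
    have : Subsingleton H := ⟨fun a b => Subtype.ext (LinearEquiv.ext fun v => Subsingleton.elim _ _)⟩
    exact hsolv inferInstance
  have := Lib.LinearFPF.finite_group (p := p) (V := V)
  obtain ⟨L, M, ⟨e⟩, hd, hs, hc, hn, hcases⟩ := Lib.Zass25.regular_structure H hreg hsolv
  let f : L × M →* H :=
    { toFun := fun x => (x.1 : H) * x.2
      map_one' := by simp
      map_mul' := fun x y => by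
        show ((x.1 : H) * y.1) * (x.2 * y.2) = (x.1 : H) * x.2 * ((y.1 : H) * y.2)
        rw [mul_assoc (x.1 : H), ← mul_assoc (y.1 : H), hc _ y.1.2 _ x.2.2]
        group }
  have hf : Function.Bijective f := by
    constructor
    · rw [← MonoidHom.ker_eq_bot_iff, eq_bot_iff]
      rintro ⟨l, x⟩ (hlx : (l : H) * x = 1)
      have hl : (l : H) ∈ L ⊓ M := ⟨l.2, by
        show (l : H) ∈ M
        rw [eq_inv_of_mul_eq_one_left hlx]; exact inv_mem x.2⟩
      rw [hd, Subgroup.mem_bot] at hl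
      rw [hl, one_mul] at hlx
      exact Subgroup.mem_bot.mpr (Prod.ext (Subtype.ext hl) (Subtype.ext hlx))
    · have hle : L ⊔ M ≤ f.range := sup_le (fun l hl => ⟨(⟨l, hl⟩, 1), mul_one l⟩)
        (fun x hx => ⟨(1, ⟨x, hx⟩), one_mul x⟩)
      rw [hs] at hle
      exact MonoidHom.range_eq_top.mp (top_le_iff.mp hle)
  let E : L × M ≃* H := MulEquiv.ofBijective f hf
  have hV : Nat.card V = p ^ 2 := by
    rw [Module.natCard_eq_pow_finrank (K := ZMod p), hn, Nat.card_zmod]
  rcases hcases with ⟨rfl, hm⟩ | ⟨rfl, hm⟩ | ⟨rfl, hm⟩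
  · refine Or.inl ⟨hV.trans (by norm_num), ⟨?_⟩⟩
    have : Subsingleton M := (Nat.card_eq_one_iff_unique.mp hm).1
    have : Unique M := uniqueOfSubsingleton 1
    exact E.symm.trans ((MulEquiv.prodUnique (M := L) (N := M)).trans e)
  · refine Or.inr (Or.inl ⟨hV.trans (by norm_num), ⟨?_⟩⟩)
    have : Fact (Nat.Prime 7) := ⟨by norm_num⟩
    have : IsCyclic M := isCyclic_of_prime_card hm
    exact E.symm.trans (e.prodCongr (mulEquivOfCyclicCardEq (by
      rw [hm, Nat.card_congr Multiplicative.toAdd, Nat.card_zmod])))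
  · refine Or.inr (Or.inr ⟨hV.trans (by norm_num), ⟨?_⟩⟩)
    have : Fact (Nat.Prime 29) := ⟨by norm_num⟩
    have : IsCyclic M := isCyclic_of_prime_card hm
    exact E.symm.trans (e.prodCongr (mulEquivOfCyclicCardEq (by
      rw [hm, Nat.card_congr Multiplicative.toAdd, Nat.card_zmod])))

end Cfsg.Agent.S0689
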