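import Cfsg.Statements.S0206
import Mathlib
import Cfsg.Agent.Lib.Involution.Basic

set_option autoImplicit false
open Cfsg
open Cfsg.Agent.Lib.Involution

namespace Cfsg.Agent.S0206

/-- Two distinct involutions x, y of a finite group generate a subgroup isomorphic to the dihedral group of order 2·|xy|. -/
theorem result {G : Type*} [Group G] [Finite G] (x y : G) (hx : orderOf x = 2) (hy : orderOf y = 2) (hxy : x ≠ y) : Nonempty (↥(Subgroup.closure ({x, y} : Set G)) ≃* DihedralGroup (orderOf (x * y))) := by
  have hx' := mul_self_eq_one hx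
  have hy' := mul_self_eq_one hy
  set n := orderOf (x * y) with hn
  have : NeZero n := ⟨(orderOf_pos _).ne'⟩
  set c := x * y with hc
  let p : ZMod n → G := fun i => c ^ i.val
  have p0 : p 0 = 1 := by simp [p]
  have padd : ∀ i j, p (i + j) = p i * p j := fun i j => by
    simp only [p]
    rw [ZMod.val_add, ← pow_add]
    exact pow_mod_orderOf c _
  have pneg : ∀ i, p (-i) = (p i)⁻¹ := fun i => by
    apply eq_inv_of_mul_eq_one_left
    rw [← padd, neg_add_cancel, p0]
  have pinj : Function.Injective p := fun i j h => by
    have := pow_injOn_Iio_orderOf (x := c) (Set.mem_Iio.mpr i.val_lt) (Set.mem_Iio.mpr j.val_lt) h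
    exact ZMod.val_injective n this
  have pz : ∀ k : ℤ, p (k : ZMod n) = c ^ k := fun k => by
    simp only [p]
    rw [← zpow_natCast, ZMod.val_intCast, hn, zpow_mod_orderOf]
  have xp : ∀ i, x * p i = (p i)⁻¹ * x := fun i => mul_pow_pair hx' hy' i.val
  let f : DihedralGroup n →* G :=
    { toFun := fun g => match g with
        | .r i => p i
        | .sr i => x * p i
      map_one' := p0
      map_mul' := fun a b => by
        rcases a with i | i <;> rcases b with j | j
        · simp only [DihedralGroup.r_mul_r, padd]
        · simp only [DihedralGroup.r_mul_sr]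
          rw [sub_eq_neg_add, padd, pneg, ← mul_assoc, ← mul_assoc]
          congr 1
          rw [← pneg, xp (-i), pneg, inv_inv]
        · simp only [DihedralGroup.sr_mul_r]
          rw [padd, mul_assoc]
        · simp only [DihedralGroup.sr_mul_sr]
          rw [sub_eq_neg_add, padd, pneg, ← mul_assoc, xp i, mul_assoc ((p i)⁻¹) x x, hx', mul_one] }
  have hfinj : Function.Injective f := by
    rw [injective_iff_map_eq_one]
    rintro (i | i) h
    · have : p i = p 0 := by rw [p0]; exact h
      rw [pinj this]; rfl
    · exfalso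
      apply notMem_zpowers_mul hx hy hxy
      have h' : x * p i = 1 := h
      have hh : x = (p i)⁻¹ := eq_inv_of_mul_eq_one_left h'
      have hm : (p i)⁻¹ ∈ Subgroup.zpowers c := inv_mem (pow_mem (Subgroup.mem_zpowers _) _)
      rwa [← hh] at hm
  have hrange : f.range = Subgroup.closure ({x, y} : Set G) := by
    apply le_antisymm
    · rintro _ ⟨i | i, rfl⟩
      · exact (mem_closure_pair_iff hx' hy' _).mpr ⟨(i.val : ℤ), Or.inl (zpow_natCast _ _).symm⟩
      · exact mul_mem (Subgroup.subset_closure (by simp))
          ((mem_closure_pair_iff hx' hy' _).mpr ⟨(i.val : ℤ), Or.inl (zpow_natCast _ _).symm⟩)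
    · rw [Subgroup.closure_le]
      rintro z (rfl | rfl)
      · exact ⟨.sr 0, by show z * p 0 = z; rw [p0, mul_one]⟩
      · refine ⟨.sr ((1 : ℤ) : ZMod n), ?_⟩
        show x * p ((1 : ℤ) : ZMod n) = z
        rw [pz, zpow_one, hc, ← mul_assoc, hx', one_mul]
  exact ⟨((MonoidHom.ofInjective hfinj).trans (MulEquiv.subgroupCongr hrange)).symm⟩

end Cfsg.Agent.S0206
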