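import Cfsg.Statements.S1644
import Mathlib
import Cfsg.Agent.Lib.JankoUnique.Main

-- import your own Cfsg.Agent.* helpers here

set_option autoImplicit false
open Cfsg

namespace Cfsg.Agent.S1644

/-- The first Janko group recognised by an involution centraliser, at the level of isomorphism: a finite simple group with abelian Sylow 2-subgroups of order 8 and an involution whose centraliser is isomorphic to Z/2 × A₅ is isomorphic to the subgroup of GL(7, 11) generated by the two explicit Janko matrices. -/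
theorem result {G : Type*} [Group G] [Finite G] [IsSimpleGroup G] (S : Sylow 2 G) (hS : IsMulCommutative (S : Subgroup G)) (h8 : Nat.card S = 8) (t : G) (ht : orderOf t = 2) (e : (Subgroup.centralizer ({t} : Set G)) ≃* Multiplicative (ZMod 2) × alternatingGroup (Fin 5)) : Cfsg.Spor.IsoJ1 G := by
  classical
  haveI : Fact (Nat.Prime 2) := ⟨Nat.prime_two⟩
  have hp : IsPGroup 2 (Subgroup.zpowers t) :=
    IsPGroup.of_card (n := 1) (by rw [Nat.card_zpowers, ht]; rfl)
  obtain ⟨Q, hQ⟩ := hp.exists_le_sylow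
  have htc : Cfsg.IsTwoCentralInvolution t := by
    refine ⟨ht, Q, hQ (Subgroup.mem_zpowers t), fun x hx => ?_⟩
    obtain ⟨g, rfl⟩ := MulAction.exists_smul_eq G S Q
    have htQ : t ∈ (↑(g • S) : Subgroup G) := hQ (Subgroup.mem_zpowers t)
    have hxQ : x ∈ (↑(g • S) : Subgroup G) := hx
    rw [Sylow.coe_subgroup_smul] at htQ hxQ
    obtain ⟨a, ha, rfl⟩ := hxQ
    obtain ⟨b, hb, rfl⟩ := htQ
    have hab : a * b = b * a := hS.is_comm.comm (⟨a, ha⟩ : (S : Subgroup G)) ⟨b, hb⟩ |> congrArg Subtype.val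
    show g * a * g⁻¹ * (g * b * g⁻¹) = g * b * g⁻¹ * (g * a * g⁻¹)
    calc g * a * g⁻¹ * (g * b * g⁻¹) = g * (a * b) * g⁻¹ := by group
      _ = g * (b * a) * g⁻¹ := by rw [hab]
      _ = _ := by group
  exact Cfsg.Agent.Lib.JankoUnique.iso_of_hyp
    (Cfsg.Agent.Lib.JankoOrder.hyp_of_centralizer t htc e) ht

end Cfsg.Agent.S1644
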