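import Cfsg.Statements.S3937
import Mathlib
import Cfsg.Agent.Lib.Zipper
import Cfsg.Agent.Lib.Core.Fitting

set_option autoImplicit false
open Cfsg

namespace Cfsg.Agent.S3937
universe u

open scoped commutatorElement

/-- The iterated commutator `[x, g, …, g]`. -/
theorem foldl_replicate_succ {G : Type*} [Group G] (x g : G) (n : ℕ) :
    (List.replicate (n + 1) g).foldl (fun a b => a * b * a⁻¹ * b⁻¹) x =
      ⁅(List.replicate n g).foldl (fun a b => a * b * a⁻¹ * b⁻¹) x, g⁆ := by
  rw [List.replicate_succ', List.foldl_append]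
  rfl

theorem engel_of_mem_fitting {G : Type*} [Group G] [Finite G] (g : G)
    (hg : g ∈ Cfsg.fittingSubgroup G) :
    ∀ x : G, ∃ n : ℕ, (List.replicate n g).foldl (fun a b => a * b * a⁻¹ * b⁻¹) x = 1 := by
  intro x
  set F := Cfsg.fittingSubgroup G with hF
  haveI : F.Normal := Lib.Fitting.fittingSubgroup_normal
  haveI := Lib.Fitting.isNilpotent_fittingSubgroup (G := G)
  obtain ⟨c, hc⟩ := Subgroup.nilpotent_iff_lowerCentralSeries.mp (inferInstance : Group.IsNilpotent F)
  have key : ∀ k : ℕ, ∃ y : F, y ∈ (⊤ : Subgroup F).lowerCentralSeries k ∧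
      (y : G) = (List.replicate (k + 1) g).foldl (fun a b => a * b * a⁻¹ * b⁻¹) x := by
    intro k
    induction k with
    | zero =>
      refine ⟨⟨⁅x, g⁆, ?_⟩, by simp, rfl⟩
      rw [commutatorElement_def]
      exact mul_mem ((inferInstance : F.Normal).conj_mem g hg x) (inv_mem hg)
    | succ k ih =>
      obtain ⟨y, hy, hyx⟩ := ih
      refine ⟨⁅y, (⟨g, hg⟩ : F)⁆, ?_, ?_⟩
      · rw [Subgroup.lowerCentralSeries_succ]
        exact Subgroup.commutator_mem_commutator hy (Subgroup.mem_top _)
      · rw [foldl_replicate_succ x g (k + 1), ← hyx]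
        simp [commutatorElement_def]
  obtain ⟨y, hy, hyx⟩ := key c
  rw [hc, Subgroup.mem_bot] at hy
  exact ⟨c + 1, by rw [← hyx, hy, Subgroup.coe_one]⟩

/-- Every subgroup of a nilpotent group is subnormal. -/
theorem isSubnormal_of_nilpotent {G : Type*} [Group G] [Finite G] [Group.IsNilpotent G]
    (H : Subgroup G) : H.IsSubnormal := by
  induction hn : Nat.card G - Nat.card ↥H using Nat.strong_induction_on generalizing H with
  | _ n ih =>
    by_cases hH : H = ⊤
    · subst hH; exact .top
    have hlt : H < Subgroup.normalizer (H : Set G) :=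
      Group.normalizerCondition_of_isNilpotent H (lt_top_iff_ne_top.mpr hH)
    refine .step H _ Subgroup.le_normalizer (ih _ ?_ _ rfl) Subgroup.normal_in_normalizer
    have h1 : Nat.card H < Nat.card (Subgroup.normalizer (H : Set G)) :=
      lt_of_le_of_ne (Subgroup.card_le_of_le hlt.le) fun e =>
        hlt.ne (Subgroup.eq_of_le_of_card_ge hlt.le e.ge)
    have h2 := (Subgroup.normalizer (H : Set G)).card_le_card_group
    omega

theorem mem_fitting_of_engel : ∀ (m : ℕ) (G : Type u) [Group G] [Finite G], Nat.card G = m →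
    ∀ g : G, (∀ x : G, ∃ n : ℕ, (List.replicate n g).foldl (fun a b => a * b * a⁻¹ * b⁻¹) x = 1) →
      g ∈ Cfsg.fittingSubgroup G := by
  intro m
  induction m using Nat.strong_induction_on with
  | _ m ih =>
    intro G _ _ hm g hg
    set A := Subgroup.zpowers g with hA
    by_cases hsn : A.IsSubnormal
    · letI : CommGroup A := IsCyclic.commGroup
      exact Lib.Fitting.le_fittingSubgroup_of_isSubnormal hsn CommGroup.isNilpotent
        (Subgroup.mem_zpowers g)
    -- the images of iterated commutators in subgroups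
    have hcoe : ∀ (Y : Subgroup G) (a : Y) (y : Y) (n : ℕ),
        (((List.replicate n a).foldl (fun u v => u * v * u⁻¹ * v⁻¹) y : Y) : G) =
          (List.replicate n (a : G)).foldl (fun u v => u * v * u⁻¹ * v⁻¹) (y : G) := by
      intro Y a y n
      induction n with
      | zero => rfl
      | succ n ihn =>
        rw [foldl_replicate_succ, foldl_replicate_succ, ← ihn]
        simp [commutatorElement_def]
    have hY : ∀ Y : Subgroup G, Y ≠ ⊤ → (hgY : g ∈ Y) →
        (⟨g, hgY⟩ : Y) ∈ Cfsg.fittingSubgroup Y := by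
      intro Y hYtop hgY
      refine ih (Nat.card Y) ?_ Y rfl _ fun y => ?_
      · rw [← hm]
        exact lt_of_le_of_ne Y.card_le_card_group fun e => hYtop (Y.eq_top_of_card_eq e)
      · obtain ⟨n, hn⟩ := hg y
        exact ⟨n, Subtype.ext (by rw [hcoe, Subgroup.coe_one]; exact hn)⟩
    obtain ⟨M, hM, hAM, huniq⟩ := Lib.Zipper.zipper A (fun Y hYtop hAY => by
      have hgY : g ∈ Y := hAY (Subgroup.mem_zpowers g)
      have hle : A.subgroupOf Y ≤ Cfsg.fittingSubgroup Y := by
        intro y hy
        obtain ⟨k, hk⟩ := Subgroup.mem_zpowers_iff.mp (Subgroup.mem_subgroupOf.mp hy)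
        rw [show y = (⟨g, hgY⟩ : Y) ^ k from Subtype.ext (by simp [hk])]
        exact zpow_mem (hY Y hYtop hgY) k
      haveI : (Cfsg.fittingSubgroup Y).Normal := Lib.Fitting.fittingSubgroup_normal
      haveI := Lib.Fitting.isNilpotent_fittingSubgroup (G := Y)
      exact Subgroup.IsSubnormal.trans hle (isSubnormal_of_nilpotent _)
        Lib.Fitting.fittingSubgroup_normal.isSubnormal) hsn
    have hgM : g ∈ M := hAM (Subgroup.mem_zpowers g)
    by_cases hMn : M.Normal
    · have h1 := hY M hM.1 hgM
      have h2 := Lib.Fitting.map_subtype_fittingSubgroup_le (hMn.isSubnormal)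
      exact h2 ⟨_, h1, rfl⟩
    -- the last term outside `M` of an Engel sequence
    exfalso
    obtain ⟨x, hx⟩ : ∃ x : G, x ∉ M := by
      by_contra hall
      push Not at hall
      exact hM.1 (eq_top_iff.mpr fun y _ => hall y)
    obtain ⟨n, hn⟩ := hg x
    obtain ⟨i, hi1, hi2⟩ : ∃ i : ℕ, (List.replicate i g).foldl (fun a b => a * b * a⁻¹ * b⁻¹) x ∉ M ∧
        (List.replicate (i + 1) g).foldl (fun a b => a * b * a⁻¹ * b⁻¹) x ∈ M := by
      by_contra hcon
      push Not at hcon
      have : ∀ i, (List.replicate i g).foldl (fun a b => a * b * a⁻¹ * b⁻¹) x ∉ M := by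
        intro i
        induction i with
        | zero => simpa using hx
        | succ i ihi => exact hcon i ihi
      exact this n (hn ▸ one_mem M)
    set c := (List.replicate i g).foldl (fun a b => a * b * a⁻¹ * b⁻¹) x with hc
    rw [foldl_replicate_succ, commutatorElement_def] at hi2
    have hcg : c * g * c⁻¹ ∈ M := by simpa using mul_mem hi2 hgM
    -- a second maximal subgroup containing `g`
    let M' : Subgroup G := M.comap (MulAut.conj c).toMonoidHom
    have hM' : IsCoatom M' := by
      have e : M' = (Subgroup.comap (MulAut.conj c).toMonoidHom) M := rfl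
      refine ⟨fun h => hM.1 (eq_top_iff.mpr fun y _ => ?_), fun K hK => ?_⟩
      · have : c⁻¹ * y * c ∈ M' := h ▸ Subgroup.mem_top _
        simpa [M', mul_assoc] using this
      · have h1 : M < K.map (MulAut.conj c).toMonoidHom := by
          refine lt_of_le_of_ne (fun y hy => ⟨c⁻¹ * y * c, hK.le (by simpa [M', mul_assoc] using hy),
            by simp [mul_assoc]⟩) fun h => ?_
          refine hK.ne (le_antisymm hK.le fun k hk => ?_)
          show MulAut.conj c k ∈ M
          rw [h]
          exact ⟨k, hk, rfl⟩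
        have h2 := hM.2 _ h1
        rw [eq_top_iff]
        intro y _
        obtain ⟨k, hk, hky⟩ := Subgroup.mem_map.mp (show c * y * c⁻¹ ∈
          K.map (MulAut.conj c).toMonoidHom from h2 ▸ Subgroup.mem_top _)
        have : k = y := (MulAut.conj c).injective (hky.trans rfl)
        exact this ▸ hk
    have heq : M' = M := huniq M' hM' (Subgroup.zpowers_le.mpr hcg)
    have hnorm : Subgroup.normalizer (M : Set G) = M := by
      rcases hM.le_iff.mp (Subgroup.le_normalizer : M ≤ Subgroup.normalizer (M : Set G)) with h | h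
      · exact absurd (Subgroup.normalizer_eq_top_iff.mp h) hMn
      · exact h
    refine hi1 (hnorm.le (Subgroup.mem_normalizer_iff.mpr fun y => ?_))
    conv_lhs => rw [← heq]
    exact Iff.rfl


/-- Baer's characterization of the Fitting subgroup: in a finite group G, an element g lies in the Fitting subgroup if and only if g is a left Engel element, that is, for every x there is n with [x, g, g, …, g] = 1 (n entries g, [a, b] = aba⁻¹b⁻¹). -/
theorem result {G : Type*} [Group G] [Finite G] (g : G) :
    g ∈ Cfsg.fittingSubgroup G ↔ ∀ x : G, ∃ n : ℕ, (List.replicate n g).foldl (fun a b => a * b * a⁻¹ * b⁻¹) x = 1 := by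
  exact ⟨engel_of_mem_fitting g, fun h => mem_fitting_of_engel (Nat.card G) G rfl g h⟩

end Cfsg.Agent.S3937
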