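import Cfsg.Statements.S3939
import Mathlib
import Cfsg.Agent.S3937

set_option autoImplicit false
set_option maxHeartbeats 800000
open Cfsg

namespace Cfsg.Agent.S3939
open scoped commutatorElement

/-- Elements of coprime orders in a nilpotent group commute. -/
theorem commute_of_coprime {H : Type*} [Group H] [Finite H] [Group.IsNilpotent H] {a b : H}
    (hab : (orderOf a).Coprime (orderOf b)) : Commute a b := by
  by_contra hcon
  have h1 : ⁅a, b⁆ ≠ 1 := fun h => hcon (commutatorElement_eq_one_iff_mul_comm.mp h)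
  obtain ⟨p, hp, hpd⟩ := Nat.exists_prime_and_dvd (mt orderOf_eq_one_iff.mp h1)
  haveI : Fact p.Prime := ⟨hp⟩
  obtain ⟨e⟩ : Nonempty ((∀ q : (Nat.card H).primeFactors, ∀ P : Sylow (q : ℕ) H, (P : Subgroup H)) ≃* H) :=
    ((Group.isNilpotent_of_finite_tfae (G := H)).out 0 4 rfl rfl).mp inferInstance
  refine hcon ?_
  have hcomm : ∀ (q : (Nat.card H).primeFactors) (P : Sylow (q : ℕ) H),
      Commute (e.symm a q P) (e.symm b q P) := by
    intro q P
    haveI : Fact (q : ℕ).Prime := ⟨Nat.prime_of_mem_primeFactors q.2⟩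
    obtain ⟨i, hi⟩ := IsPGroup.iff_orderOf.mp P.2 (e.symm a q P)
    obtain ⟨j, hj⟩ := IsPGroup.iff_orderOf.mp P.2 (e.symm b q P)
    have hdiv : ∀ c : H, orderOf (e.symm c q P) ∣ orderOf c := fun c =>
      orderOf_dvd_of_pow_eq_one (by
        rw [← Pi.pow_apply, ← Pi.pow_apply, ← map_pow, pow_orderOf_eq_one, map_one]; rfl)
    rcases Nat.eq_zero_or_pos i with rfl | hi0
    · rw [pow_zero, orderOf_eq_one_iff] at hi; rw [hi]; exact Commute.one_left _
    rcases Nat.eq_zero_or_pos j with rfl | hj0
    · rw [pow_zero, orderOf_eq_one_iff] at hj; rw [hj]; exact Commute.one_right _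
    exfalso
    exact (Fact.out : (q : ℕ).Prime).ne_one (Nat.eq_one_of_dvd_coprimes hab
      (((dvd_pow_self _ hi0.ne').trans hi.symm.dvd).trans (hdiv a))
      (((dvd_pow_self _ hj0.ne').trans hj.symm.dvd).trans (hdiv b)))
  have h : Commute (e.symm a) (e.symm b) := funext fun q => funext fun P => hcomm q P
  simpa using h.map e.toMonoidHom

/-- One prime at a time. -/
theorem ppart_mem_hypercentre {G : Type*} [Group G] [Finite G] {p : ℕ} [Fact p.Prime] (y : G)
    (hy : y ∈ Cfsg.pCore p G) (hcomm : ∀ x : G, (orderOf x).Coprime p → Commute y x) :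
    y ∈ ⨆ n : ℕ, Subgroup.upperCentralSeries G n := by
  classical
  obtain ⟨P⟩ : Nonempty (Sylow p G) := inferInstance
  set V : Subgroup G := Cfsg.pCore p G ⊓ Subgroup.centralizer {x : G | (orderOf x).Coprime p} with hV
  haveI hVn : V.Normal := by
    constructor
    intro v hv c
    refine ⟨(inferInstance : (Cfsg.pCore p G).Normal).conj_mem v hv.1 c, ?_⟩
    refine Subgroup.mem_centralizer_iff.mpr fun x hx => ?_
    have hx' : c⁻¹ * x * c ∈ {x : G | (orderOf x).Coprime p} := by
      show (orderOf (c⁻¹ * x * c)).Coprime p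
      rw [show c⁻¹ * x * c = MulAut.conj c⁻¹ x by simp, MulEquiv.orderOf_eq]
      exact hx
    have h := Subgroup.mem_centralizer_iff.mp hv.2 _ hx'
    calc x * (c * v * c⁻¹) = c * ((c⁻¹ * x * c) * v) * c⁻¹ := by group
      _ = c * (v * (c⁻¹ * x * c)) * c⁻¹ := by rw [h]
      _ = c * v * c⁻¹ * x := by group
  have hVP : V ≤ (P : Subgroup G) := inf_le_left.trans (Lib.PSolvable.pCore_le_sylow P)
  haveI := P.2.isNilpotent
  have hgen : (P : Subgroup G) ⊔ Subgroup.closure {x : G | (orderOf x).Coprime p} = ⊤ := by
    refine Lib.Fitting.eq_top_of_sylow_le fun q hq => ?_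
    haveI : Fact q.Prime := ⟨hq⟩
    by_cases hqp : q = p
    · subst hqp; exact ⟨P, le_sup_left⟩
    obtain ⟨Q⟩ : Nonempty (Sylow q G) := inferInstance
    refine ⟨Q, fun x hx => Subgroup.mem_sup_right (Subgroup.subset_closure ?_)⟩
    obtain ⟨i, hi⟩ := IsPGroup.iff_orderOf.mp Q.2 ⟨x, hx⟩
    show (orderOf x).Coprime p
    rw [show orderOf x = q ^ i by rw [← hi, ← Subgroup.orderOf_coe]]
    exact Nat.Coprime.pow_left i ((Nat.coprime_primes hq Fact.out).mpr hqp)
  have key : ∀ (n : ℕ) (v : G) (hv : v ∈ V),
      (⟨v, hVP hv⟩ : ↥(P : Subgroup G)) ∈ Subgroup.upperCentralSeries ↥(P : Subgroup G) n →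
        v ∈ Subgroup.upperCentralSeries G n := by
    intro n
    induction n with
    | zero =>
      intro v hv h
      rw [Subgroup.upperCentralSeries_zero, Subgroup.mem_bot] at h ⊢
      exact congrArg Subtype.val h
    | succ n ih =>
      intro v hv h
      rw [Subgroup.mem_upperCentralSeries_succ_iff] at h ⊢
      let K : Subgroup G := (Subgroup.centralizer
        ({QuotientGroup.mk' (Subgroup.upperCentralSeries G n) v} : Set _)).comap
          (QuotientGroup.mk' (Subgroup.upperCentralSeries G n))
      have hKmem : ∀ z : G, z ∈ K ↔ ⁅v, z⁆ ∈ Subgroup.upperCentralSeries G n := fun z => by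
        rw [← QuotientGroup.eq_one_iff (N := Subgroup.upperCentralSeries G n) ⁅v, z⁆, ← QuotientGroup.mk'_apply, map_commutatorElement,
          commutatorElement_eq_one_iff_mul_comm, Subgroup.mem_comap,
          Subgroup.mem_centralizer_singleton_iff]
        exact eq_comm
      have hK : K = ⊤ := by
        rw [eq_top_iff, ← hgen, sup_le_iff]
        refine ⟨fun z hz => (hKmem z).mpr ?_, (Subgroup.closure_le _).mpr fun z hz => (hKmem z).mpr ?_⟩
        · have hvz : ⁅v, z⁆ ∈ V := by
            rw [commutatorElement_def, mul_assoc, mul_assoc, ← mul_assoc z]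
            exact mul_mem hv (hVn.conj_mem _ (inv_mem hv) z)
          have h2 := h ⟨z, hz⟩
          refine ih _ hvz ?_
          convert h2 using 1
          exact Subtype.ext (by simp [commutatorElement_def])
        · have hc := Subgroup.mem_centralizer_iff.mp hv.2 z hz
          rw [commutatorElement_eq_one_iff_mul_comm.mpr hc.symm]
          exact one_mem _
      exact fun z => (hKmem z).mp (hK ▸ Subgroup.mem_top z)
  obtain ⟨n, hn⟩ := (inferInstance : Group.IsNilpotent ↥(P : Subgroup G)).nilpotent
  have hyV : y ∈ V := ⟨hy, Subgroup.mem_centralizer_iff.mpr fun x hx => (hcomm x hx).eq.symm⟩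
  exact Subgroup.mem_iSup_of_mem n (key n y hyV (hn ▸ Subgroup.mem_top _))

/-- The hypercentre contains the elements generating nilpotent subgroups with everything. -/
theorem mem_hypercentre {G : Type*} [Group G] [Finite G] (g : G) (hg : g ∈ Cfsg.fittingSubgroup G)
    (h : ∀ x : G, Group.IsNilpotent ↥(Subgroup.closure ({x, g} : Set G))) :
    g ∈ ⨆ n : ℕ, Subgroup.upperCentralSeries G n := by
  classical
  suffices key : ∀ (m : ℕ) (y : G), orderOf y ≤ m → y ∈ Subgroup.zpowers g →
      y ∈ ⨆ n : ℕ, Subgroup.upperCentralSeries G n from key _ g le_rfl (Subgroup.mem_zpowers g)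
  intro m
  induction m using Nat.strong_induction_on with
  | _ m ih =>
    intro y hym hy
    by_cases h1 : y = 1
    · subst h1; exact one_mem _
    obtain ⟨p, hp, hpd⟩ := Nat.exists_prime_and_dvd (mt orderOf_eq_one_iff.mp h1)
    haveI : Fact p.Prime := ⟨hp⟩
    set o := orderOf y with ho
    have ho0 : o ≠ 0 := (orderOf_pos y).ne'
    have hcop : Nat.Coprime (p ^ o.factorization p) (o / p ^ o.factorization p) :=
      Nat.Coprime.pow_left _ (Nat.coprime_ordCompl hp ho0)
    have ham := Nat.ordProj_mul_ordCompl_eq_self o p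
    obtain ⟨e, he1, he2⟩ := Nat.chineseRemainder hcop 1 0
    obtain ⟨f, hf1, hf2⟩ := Nat.chineseRemainder hcop 0 1
    have hsum : e + f ≡ 1 [MOD o] := by
      rw [← ham]
      exact (Nat.modEq_and_modEq_iff_modEq_mul hcop).mp ⟨he1.add hf1, he2.add hf2⟩
    have hsplit : y = y ^ e * y ^ f := by
      rw [← pow_add]
      conv_lhs => rw [← pow_one y]
      exact pow_eq_pow_iff_modEq.mpr hsum.symm
    rw [hsplit]
    refine mul_mem ?_ ?_
    · -- the p-part
      have hpow : (y ^ e) ^ p ^ o.factorization p = 1 := by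
        rw [← pow_mul]
        refine orderOf_dvd_iff_pow_eq_one.mp ?_
        rw [← ho]
        calc o = (o / p ^ o.factorization p) * p ^ o.factorization p :=
              ((mul_comm _ _).trans ham).symm
          _ ∣ _ := Nat.mul_dvd_mul ((Nat.modEq_zero_iff_dvd).mp he2) dvd_rfl
      have hyF : y ^ e ∈ Cfsg.fittingSubgroup G :=
        pow_mem (Subgroup.zpowers_le.mpr hg hy) e
      refine ppart_mem_hypercentre (p := p) (y ^ e) ?_ fun x hx => ?_
      · haveI := Lib.Fitting.isNilpotent_fittingSubgroup (G := G)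
        haveI : (Cfsg.fittingSubgroup G).Normal := Lib.Fitting.fittingSubgroup_normal
        let P : Sylow p ↥(Cfsg.fittingSubgroup G) := default
        haveI : (P : Subgroup ↥(Cfsg.fittingSubgroup G)).Characteristic := P.characteristic_of_normal inferInstance
        have hle : ((P : Subgroup ↥(Cfsg.fittingSubgroup G)).map (Cfsg.fittingSubgroup G).subtype) ≤
            Cfsg.pCore p G := Lib.PSolvable.le_pCore (P.2.map _)
        refine hle (Subgroup.mem_map.mpr ⟨(⟨y ^ e, hyF⟩ : Cfsg.fittingSubgroup G), ?_, rfl⟩)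
        haveI := Sylow.unique_of_normal P inferInstance
        have hyp : (⟨y ^ e, hyF⟩ : Cfsg.fittingSubgroup G) ^ p ^ o.factorization p = 1 :=
          Subtype.ext hpow
        have hpg : IsPGroup p (Subgroup.zpowers (⟨y ^ e, hyF⟩ : Cfsg.fittingSubgroup G)) := by
          rintro ⟨z, hz⟩
          obtain ⟨k, rfl⟩ := Subgroup.mem_zpowers_iff.mp hz
          refine ⟨o.factorization p, Subtype.ext ?_⟩
          show ((⟨y ^ e, hyF⟩ : Cfsg.fittingSubgroup G) ^ k) ^ (p ^ o.factorization p) = 1
          rw [← zpow_natCast, ← zpow_mul, mul_comm, zpow_mul, zpow_natCast, hyp, one_zpow]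
        obtain ⟨Q, hQ⟩ := hpg.exists_le_sylow
        have hPQ : Q = P := Subsingleton.elim _ _
        rw [hPQ] at hQ
        have hmem := hQ (Subgroup.mem_zpowers (⟨y ^ e, hyF⟩ : Cfsg.fittingSubgroup G))
        exact hmem
      · haveI := h x
        have hxH : x ∈ Subgroup.closure ({x, g} : Set G) := Subgroup.subset_closure (Set.mem_insert _ _)
        have hgH : g ∈ Subgroup.closure ({x, g} : Set G) :=
          Subgroup.subset_closure (Set.mem_insert_of_mem _ (Set.mem_singleton g))
        have hyH : y ^ e ∈ Subgroup.closure ({x, g} : Set G) :=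
          pow_mem (Subgroup.zpowers_le.mpr hgH hy) e
        have hc := commute_of_coprime (a := (⟨_, hyH⟩ : Subgroup.closure ({x, g} : Set G)))
          (b := ⟨x, hxH⟩) (by
            rw [← Subgroup.orderOf_coe, ← Subgroup.orderOf_coe]
            exact Nat.Coprime.coprime_dvd_left (orderOf_dvd_of_pow_eq_one hpow)
              (Nat.Coprime.pow_left _ hx.symm))
        exact congrArg Subtype.val hc.eq
    · refine ih (orderOf (y ^ f)) ?_ _ le_rfl (pow_mem hy f)
      have hd : orderOf (y ^ f) ∣ o / p ^ o.factorization p := by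
        refine orderOf_dvd_of_pow_eq_one ?_
        rw [← pow_mul]
        refine orderOf_dvd_iff_pow_eq_one.mp ?_
        rw [← ho]
        calc o = p ^ o.factorization p * (o / p ^ o.factorization p) := ham.symm
          _ ∣ _ := Nat.mul_dvd_mul ((Nat.modEq_zero_iff_dvd).mp hf1) dvd_rfl
      refine lt_of_lt_of_le ?_ hym
      refine (Nat.le_of_dvd (Nat.div_pos (Nat.le_of_dvd (Nat.pos_of_ne_zero ho0)
        (Nat.ordProj_dvd o p)) (pow_pos hp.pos _)) hd).trans_lt ?_
      exact Nat.div_lt_self (Nat.pos_of_ne_zero ho0) (Nat.one_lt_pow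
        (hp.factorization_pos_of_dvd ho0 hpd).ne' hp.one_lt)

/-- A hypercentral element generates nilpotent subgroups with everything. -/
theorem isNilpotent_closure {G : Type*} [Group G] [Finite G] (g : G)
    (hg : g ∈ ⨆ n : ℕ, Subgroup.upperCentralSeries G n) (x : G) :
    Group.IsNilpotent ↥(Subgroup.closure ({x, g} : Set G)) := by
  set H := Subgroup.closure ({x, g} : Set G) with hH
  rw [Subgroup.mem_iSup_of_directed (Monotone.directed_le (Subgroup.upperCentralSeries_mono G))] at hg
  obtain ⟨n, hn⟩ := hg
  have key : ∀ (m : ℕ) (z : H), (z : G) ∈ Subgroup.upperCentralSeries G m →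
      z ∈ Subgroup.upperCentralSeries H m := by
    intro m
    induction m with
    | zero =>
      intro z hz
      rw [Subgroup.upperCentralSeries_zero, Subgroup.mem_bot] at hz ⊢
      exact Subtype.ext hz
    | succ m ih =>
      intro z hz
      rw [Subgroup.mem_upperCentralSeries_succ_iff] at hz ⊢
      exact fun w => ih _ (by simpa [commutatorElement_def] using hz w)
  have hgH : g ∈ H := Subgroup.subset_closure (Set.mem_insert_of_mem _ rfl)
  have hxH : x ∈ H := Subgroup.subset_closure (Set.mem_insert _ _)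
  set g' : H := ⟨g, hgH⟩
  set x' : H := ⟨x, hxH⟩
  have hgn : g' ∈ Subgroup.upperCentralSeries H n := key n g' hn
  -- the quotient by the hypercentral part is cyclic
  let q := QuotientGroup.mk' (Subgroup.upperCentralSeries H n)
  have htop : (Subgroup.closure ({x', g'} : Set H)) = ⊤ := by
    apply Subgroup.map_injective H.subtype_injective
    rw [MonoidHom.map_closure, Set.image_pair, ← MonoidHom.range_eq_map, Subgroup.range_subtype]
    rfl
  have hcomm : ∀ a : H, q a ∈ Subgroup.zpowers (q x') := by
    intro a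
    have ha : a ∈ (Subgroup.zpowers (q x')).comap q := by
      have hle : Subgroup.closure ({x', g'} : Set H) ≤ (Subgroup.zpowers (q x')).comap q := by
        refine (Subgroup.closure_le _).mpr ?_
        rintro b (rfl | rfl)
        · exact Subgroup.mem_zpowers _
        · show q g' ∈ Subgroup.zpowers (q x')
          rw [show q g' = 1 from (QuotientGroup.eq_one_iff g').mpr hgn]
          exact one_mem _
      exact hle (htop ▸ Subgroup.mem_top a)
    exact ha
  rw [Subgroup.nilpotent_iff_finite_ascending_central_series]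
  refine ⟨n + 1, Subgroup.upperCentralSeries H, Subgroup.upperCentralSeries_isAscendingCentralSeries H, ?_⟩
  rw [eq_top_iff]
  intro a _
  rw [Subgroup.mem_upperCentralSeries_succ_iff]
  intro b
  rw [← QuotientGroup.eq_one_iff (N := Subgroup.upperCentralSeries H n) ⁅a, b⁆,
    ← QuotientGroup.mk'_apply, map_commutatorElement, commutatorElement_eq_one_iff_mul_comm]
  obtain ⟨i, hi⟩ := Subgroup.mem_zpowers_iff.mp (hcomm a)
  obtain ⟨j, hj⟩ := Subgroup.mem_zpowers_iff.mp (hcomm b)
  show q a * q b = q b * q a
  rw [← hi, ← hj, ← zpow_add, ← zpow_add, add_comm]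


/-- In a finite group G the set of elements g such that the subgroup generated by g and x is nilpotent for every x ∈ G is exactly the hypercenter of G (the last term of the upper central series). -/
theorem result {G : Type*} [Group G] [Finite G] (g : G) :
    (∀ x : G, Group.IsNilpotent ↥(Subgroup.closure ({x, g} : Set G))) ↔ g ∈ ⨆ n : ℕ, Subgroup.upperCentralSeries G n := by
  constructor
  · intro h
    have hengel : g ∈ Cfsg.fittingSubgroup G := by
      refine (S3937.result g).mpr fun x => ?_
      haveI := h x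
      set H := Subgroup.closure ({x, g} : Set G) with hH
      have hx : x ∈ H := Subgroup.subset_closure (Set.mem_insert _ _)
      have hgH : g ∈ H := Subgroup.subset_closure (Set.mem_insert_of_mem _ rfl)
      obtain ⟨n, hn⟩ := S3937.engel_of_mem_fitting (⟨g, hgH⟩ : H)
        (Lib.Fitting.le_fittingSubgroup (N := ⊤) inferInstance (Subgroup.mem_top _)) ⟨x, hx⟩
      refine ⟨n, ?_⟩
      have hcoe : ∀ m : ℕ,
          (((List.replicate m (⟨g, hgH⟩ : H)).foldl (fun u v => u * v * u⁻¹ * v⁻¹) ⟨x, hx⟩ : H) : G) =
            (List.replicate m g).foldl (fun u v => u * v * u⁻¹ * v⁻¹) x := by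
        intro m
        induction m with
        | zero => rfl
        | succ m ih =>
          rw [S3937.foldl_replicate_succ, S3937.foldl_replicate_succ, ← ih]
          simp [commutatorElement_def]
      rw [← hcoe, hn, Subgroup.coe_one]
    exact mem_hypercentre g hengel fun x => h x
  · intro hg x
    exact isNilpotent_closure g hg x

end Cfsg.Agent.S3939
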