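import Cfsg.Statements.S0519
import Mathlib
import Cfsg.Agent.Lib.TwoClass.Classify
import Cfsg.Agent.Lib.PGroupNormalSq.Basic
import Cfsg.Agent.Lib.PGroup.Critical

set_option autoImplicit false
open Cfsg

namespace Cfsg.Agent.S0519

open Cfsg.Agent.Lib

/-- A group generated by two commuting distinct involutions is not cyclic. -/
theorem not_isCyclic_of_two_involutions {G : Type*} [Group G] [Finite G] {V : Subgroup G} {z t : G}
    (hz : z ∈ V) (ht : t ∈ V) (hz2 : z ^ 2 = 1) (ht2 : t ^ 2 = 1) (hz1 : z ≠ 1) (ht1 : t ≠ 1)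
    (hne : z ≠ t) : ¬ IsCyclic V := by
  intro hc
  classical
  haveI := Fintype.ofFinite V
  have h := hc.card_pow_eq_one_le (n := 2) (by norm_num)
  have hsub : ({1, ⟨z, hz⟩, ⟨t, ht⟩} : Finset V) ⊆ Finset.univ.filter (fun a : V => a ^ 2 = 1) := by
    intro x hx
    simp only [Finset.mem_insert, Finset.mem_singleton] at hx
    rw [Finset.mem_filter]
    rcases hx with rfl | rfl | rfl
    · simp
    · exact ⟨Finset.mem_univ _, Subtype.ext hz2⟩
    · exact ⟨Finset.mem_univ _, Subtype.ext ht2⟩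
  have h3 : ({1, ⟨z, hz⟩, ⟨t, ht⟩} : Finset V).card = 3 := by
    rw [Finset.card_eq_three]
    exact ⟨_, _, _, fun h => hz1 (congrArg Subtype.val h).symm,
      fun h => ht1 (congrArg Subtype.val h).symm, fun h => hne (congrArg Subtype.val h), rfl⟩
  have := Finset.card_le_card hsub
  omega

/-- The dihedral group of order eight has a normal four-group. -/
theorem dihedral_four : ∃ V : Subgroup (DihedralGroup 4), V.Normal ∧ IsMulCommutative V ∧
    ¬ IsCyclic V := by
  let V : Subgroup (DihedralGroup 4) :=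
    { carrier := {x | x = 1 ∨ x = DihedralGroup.r 2 ∨ x = DihedralGroup.sr 0 ∨
        x = DihedralGroup.sr 2}
      one_mem' := Or.inl rfl
      mul_mem' := by
        intro x y hx hy
        rcases hx with rfl | rfl | rfl | rfl <;> rcases hy with rfl | rfl | rfl | rfl <;>
          (show _ ∨ _; decide)
      inv_mem' := by
        intro x hx
        rcases hx with rfl | rfl | rfl | rfl <;> (show _ ∨ _; decide) }
  refine ⟨V, ⟨?_⟩, ⟨⟨?_⟩⟩, ?_⟩
  · intro x hx g
    rcases hx with rfl | rfl | rfl | rfl <;> revert g <;> (show ∀ _, _ ∨ _; decide)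
  · rintro ⟨x, hx⟩ ⟨y, hy⟩
    refine Subtype.ext ?_
    rcases hx with rfl | rfl | rfl | rfl <;> rcases hy with rfl | rfl | rfl | rfl <;> decide
  · exact not_isCyclic_of_two_involutions (V := V) (z := DihedralGroup.r 2)
      (t := DihedralGroup.sr 0) (Or.inr (Or.inl rfl)) (Or.inr (Or.inr (Or.inl rfl))) (by decide)
      (by decide) (by decide) (by decide) (by decide)

/-- A finite 2-group all of whose normal abelian subgroups are cyclic, if not cyclic, has
commutator subgroup of index four. -/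
theorem index_commutator {P : Type*} [Group P] [Finite P] (hP : IsPGroup 2 P)
    (hn : ∀ A : Subgroup P, A.Normal → IsMulCommutative A → IsCyclic A) (hnc : ¬ IsCyclic P) :
    3 ≤ (Nat.card P).factorization 2 ∧ (commutator P).index = 4 := by
  haveI := Fact.mk Nat.prime_two
  obtain ⟨A, hA⟩ := (Set.toFinite {A : Subgroup P | A.Normal ∧ IsMulCommutative A}).exists_maximal
    ⟨⊥, inferInstance, ⟨⟨fun a b => Subsingleton.elim _ _⟩⟩⟩
  obtain ⟨hAn, hAc⟩ := hA.1
  haveI := hAn
  obtain ⟨⟨a, haA⟩, ha⟩ := (hn A hAn hAc).exists_generator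
  have hAz : A = Subgroup.zpowers a := by
    refine le_antisymm (fun x hx => ?_) (Subgroup.zpowers_le.mpr haA)
    obtain ⟨i, hi⟩ := ha ⟨x, hx⟩
    exact ⟨i, congrArg Subtype.val hi⟩
  have hcent : Subgroup.centralizer (A : Set P) = A := by
    refine Critical.centralizer_eq_of_maximal_normal_abelian hP A.le_centralizer ?_
    intro B hBn hBc hAB
    exact le_antisymm (hA.2 ⟨hBn, ⟨⟨fun x y => Subtype.ext
      (Subgroup.mem_centralizer_iff.1 (hBc y.2) x x.2)⟩⟩⟩ hAB) hAB
  have hmemA : ∀ g : P, g * a * g⁻¹ = a → g ∈ A := by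
    intro g hg
    rw [← hcent, Subgroup.mem_centralizer_iff]
    intro x hx
    rw [hAz] at hx
    obtain ⟨i, rfl⟩ := hx
    exact (Commute.zpow_left (mul_inv_eq_iff_eq_mul.mp hg).symm i).eq
  obtain ⟨k, hk⟩ := IsPGroup.iff_orderOf.mp hP a
  have hdvd : ∀ i : ℤ, a ^ i = 1 ↔ (2 : ℤ) ^ k ∣ i := by
    intro i
    rw [← orderOf_dvd_iff_zpow_eq_one, hk]
    push_cast
    rfl
  have hact : ∀ g : P, ∃ r : ℤ, g * a * g⁻¹ = a ^ r := by
    intro g
    have h := hAn.conj_mem a haA g
    rw [hAz] at h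
    obtain ⟨i, hi⟩ := h
    exact ⟨i, hi.symm⟩
  have hk2 : 2 ≤ k := by
    by_contra hlt
    refine hnc (isCyclic_iff_exists_zpowers_eq_top.mpr ⟨a, ?_⟩)
    rw [← hAz, eq_top_iff]
    intro g _
    refine hmemA g ?_
    rcases Nat.lt_or_ge k 1 with h0 | h1
    · obtain rfl : k = 0 := by omega
      rw [pow_zero, orderOf_eq_one_iff] at hk
      simp [hk]
    · obtain rfl : k = 1 := by omega
      obtain ⟨r, hr⟩ := hact g
      rcases Int.even_or_odd r with ⟨m, hm⟩ | ⟨m, hm⟩
      · have h1 : a ^ r = 1 := (hdvd r).mpr ⟨m, by rw [hm]; ring⟩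
        rw [h1, conj_eq_one_iff] at hr
        simp [hr]
      · rw [hr, hm, zpow_add, zpow_one, (hdvd (2 * m)).mpr ⟨m, by ring⟩, one_mul]
  set z : P := a ^ (2 ^ (k - 1) : ℕ) with hz
  have hz1 : z ≠ 1 := fun h => by
    have h' := orderOf_dvd_of_pow_eq_one h
    rw [hk, Nat.pow_dvd_pow_iff_le_right (by norm_num)] at h'
    omega
  have hzsq : z ^ 2 = 1 := by
    rw [hz, ← pow_mul, ← pow_succ, show k - 1 + 1 = k by omega, ← hk, pow_orderOf_eq_one]
  have hzA : z ∈ A := pow_mem haA _
  -- the exponent of the action is odd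
  have hodd : ∀ g : P, ∀ r : ℤ, g * a * g⁻¹ = a ^ r → Odd r := by
    intro g r hr
    rw [← Int.not_even_iff_odd]
    rintro ⟨m, hm⟩
    apply hz1
    have h1 : (g * a * g⁻¹) ^ (2 ^ (k - 1) : ℕ) = 1 := by
      rw [hr, ← zpow_natCast, ← zpow_mul, hdvd]
      refine ⟨m, ?_⟩
      rw [hm, Nat.cast_pow, Nat.cast_ofNat]
      have : (2 : ℤ) ^ k = 2 ^ (k - 1) * 2 := by
        rw [← pow_succ, show k - 1 + 1 = k by omega]
      rw [this]; ring
    rwa [conj_pow, conj_eq_one_iff] at h1
  have hzc : ∀ g : P, g * z * g⁻¹ = z := by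
    intro g
    obtain ⟨r, hr⟩ := hact g
    obtain ⟨m, hm⟩ := hodd g r hr
    have h1 : g * z * g⁻¹ = z ^ r := by
      rw [hz, ← conj_pow, hr, ← zpow_natCast (a ^ r), ← zpow_mul, ← zpow_natCast a, ← zpow_mul,
        mul_comm]
    rw [h1, hm, zpow_add, zpow_mul, zpow_one,
      show z ^ (2 : ℤ) = z ^ (2 : ℕ) from zpow_natCast z 2, hzsq, one_zpow, one_mul]
  have hcomp : ∀ (g g' : P) (r r' : ℤ), g * a * g⁻¹ = a ^ r → g' * a * g'⁻¹ = a ^ r' →
      g * g' * a * (g * g')⁻¹ = a ^ (r * r') := by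
    intro g g' r r' h h'
    rw [show g * g' * a * (g * g')⁻¹ = g * (g' * a * g'⁻¹) * g⁻¹ by group, h', ← conj_zpow, h,
      ← zpow_mul]
  -- no element outside acts as `1` modulo 4
  have hkey : ∀ g : P, ∀ r : ℤ, g * a * g⁻¹ = a ^ r → (4 : ℤ) ∣ r - 1 → g ∈ A := by
    intro g r hr h4
    by_contra hgA
    obtain ⟨h, hhA, hh2, r, hr, h4⟩ : ∃ h : P, h ∉ A ∧ h ^ 2 ∈ A ∧
        ∃ s : ℤ, h * a * h⁻¹ = a ^ s ∧ (4 : ℤ) ∣ s - 1 := by
      obtain ⟨n, hn'⟩ := hP g
      clear hnc
      induction n generalizing g r with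
      | zero => exact absurd (by rw [pow_zero, pow_one] at hn'; exact hn' ▸ A.one_mem) hgA
      | succ n ih =>
        by_cases hg2 : g ^ 2 ∈ A
        · exact ⟨g, hgA, hg2, r, hr, h4⟩
        · exact ih (g ^ 2) (r * r) (by rw [pow_two]; exact hcomp g g r r hr hr)
            (by rw [show r * r - 1 = (r - 1) * (r + 1) by ring]; exact h4.mul_right _) hg2
            (by rw [← pow_mul, ← pow_succ']; exact hn')
    have hr1 : ¬ (2 : ℤ) ^ k ∣ r - 1 := fun hd => hhA (hmemA h (by
      rw [hr, show r = r - 1 + 1 by ring, zpow_add, (hdvd _).mpr hd, one_mul, zpow_one]))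
    obtain ⟨u, hu⟩ : ∃ u : ℤ, r + 1 = 2 * u ∧ Odd u := by
      obtain ⟨m, hm⟩ := h4
      exact ⟨2 * m + 1, by omega, ⟨m, rfl⟩⟩
    obtain ⟨hru, hu⟩ := hu
    have hh2a : h * (h ^ 2) * h⁻¹ = h ^ 2 := by group
    obtain ⟨j, hj⟩ : ∃ j : ℤ, a ^ j = h ^ 2 := by
      rw [hAz] at hh2; exact hh2
    -- the exponent of the square is even
    have hr2 : (2 : ℤ) ^ k ∣ r * r - 1 := by
      rw [← hdvd, zpow_sub, zpow_one, ← hcomp h h r r hr hr, ← pow_two, ← hj,
        show a ^ j * a * (a ^ j)⁻¹ = a by rw [← zpow_neg, mul_assoc, ← zpow_one_add, ← zpow_add,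
          show j + (1 + -j) = 1 by ring, zpow_one], mul_inv_cancel]
    have hcop : IsCoprime u ((2 : ℤ) ^ (k - 1)) := by
      refine IsCoprime.pow_right ?_
      obtain ⟨m, rfl⟩ := hu
      exact ⟨1, -m, by ring⟩
    have hk' : (2 : ℤ) ^ k = 2 * 2 ^ (k - 1) := by
      rw [← pow_succ', show k - 1 + 1 = k by omega]
    have hr1' : (2 : ℤ) ^ (k - 1) ∣ r - 1 := by
      refine hcop.symm.dvd_of_dvd_mul_left (z := r - 1) ?_
      rw [hk', show r * r - 1 = (2 : ℤ) * (u * (r - 1)) by linear_combination (r - 1) * hru] at hr2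
      exact Int.dvd_of_mul_dvd_mul_left two_ne_zero hr2
    have hjr : (2 : ℤ) ^ k ∣ j * (r - 1) := by
      rw [← hdvd, mul_sub, zpow_sub, mul_one, mul_comm j r, zpow_mul, ← hr, conj_zpow, hj, hh2a,
        mul_inv_cancel]
    obtain ⟨c, hc⟩ := hr1'
    have hcodd : Odd c := by
      rw [← Int.not_even_iff_odd]
      rintro ⟨m, rfl⟩
      exact hr1 ⟨m, by rw [hc, hk']; ring⟩
    have hjeven : Even j := by
      rw [hc, hk', show j * (2 ^ (k - 1) * c) = 2 ^ (k - 1) * (j * c) by ring,
        mul_comm (2 : ℤ)] at hjr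
      have h2 : (2 : ℤ) ∣ j * c := Int.dvd_of_mul_dvd_mul_left (pow_ne_zero _ two_ne_zero) hjr
      rcases Int.even_mul.mp (even_iff_two_dvd.mpr h2) with h' | h'
      · exact h'
      · exact absurd h' (Int.not_even_iff_odd.mpr hcodd)
    obtain ⟨i, hi⟩ := hjeven
    obtain ⟨v, w, hvw⟩ := hcop
    set l : ℤ := -i * v with hl
    set t : P := h * a ^ l with ht
    have htA : t ∉ A := fun hm => hhA ((A.mul_mem_cancel_right (zpow_mem haA l)).mp hm)
    have ht2 : t ^ 2 = 1 := by
      rw [pow_two, ht, show h * a ^ l * (h * a ^ l) = (h * a ^ l * h⁻¹) * h ^ 2 * a ^ l by group,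
        ← conj_zpow, hr, ← hj, ← zpow_mul, ← zpow_add, ← zpow_add, hdvd, hk']
      refine ⟨w * i, ?_⟩
      rw [hi, hl]
      linear_combination (-i * v) * hru + (2 * i) * -1 * hvw
    have hta : t * a * t⁻¹ = a ^ r := by
      rw [ht, show h * a ^ l * a * (h * a ^ l)⁻¹ = h * (a ^ l * a * (a ^ l)⁻¹) * h⁻¹ by group,
        show a ^ l * a * (a ^ l)⁻¹ = a by group, hr]
    set V : Subgroup P := Subgroup.closure {z, t} with hV
    have hzV : z ∈ V := Subgroup.subset_closure (Set.mem_insert _ _)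
    have htV : t ∈ V := Subgroup.subset_closure (Set.mem_insert_of_mem _ rfl)
    have hVn : V.Normal := by
      rw [← Subgroup.normalizer_eq_top_iff, eq_top_iff]
      intro g _
      have hgen : ∀ g : P, ∀ x ∈ V, g * x * g⁻¹ ∈ V := by
        intro g x hx
        induction hx using Subgroup.closure_induction with
        | mem x hx =>
          rcases hx with rfl | rfl
          · rw [hzc]; exact hzV
          · obtain ⟨s, hs⟩ := hact g
            have hgt : g * t * g⁻¹ * t⁻¹ ∈ A := by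
              refine hmemA _ ?_
              have h3 := hcomp (g * t) g⁻¹ _ _ (hcomp g t s r hs hta) (hact g⁻¹).choose_spec
              have h5 := hcomp g g⁻¹ s _ hs (hact g⁻¹).choose_spec
              rw [mul_inv_cancel, one_mul, inv_one, mul_one] at h5
              have h4 : g * t * g⁻¹ * a * (g * t * g⁻¹)⁻¹ = a ^ r := by
                rw [h3, show s * r * (hact g⁻¹).choose = s * (hact g⁻¹).choose * r by ring,
                  zpow_mul a (s * (hact g⁻¹).choose), ← h5]
              rw [show g * t * g⁻¹ * t⁻¹ * a * (g * t * g⁻¹ * t⁻¹)⁻¹ =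
                g * t * g⁻¹ * (t⁻¹ * a * t) * (g * t * g⁻¹)⁻¹ by group]
              have ht' : t⁻¹ = t := inv_eq_of_mul_eq_one_right (by rw [← pow_two, ht2])
              have h6 : t⁻¹ * a * t = a ^ r := by
                conv_lhs => rw [ht']
                have h7 := hta
                rw [ht'] at h7
                exact h7
              have hrr : a ^ (r * r) = a := by
                rw [← hcomp t t r r hta hta, ← pow_two, ht2]; simp
              rw [h6, ← conj_zpow, h4, ← zpow_mul, hrr]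
            rw [hAz] at hgt
            obtain ⟨m, hm⟩ := hgt
            have hsq : (a ^ m * t) ^ 2 = 1 := by
              rw [show a ^ m = g * t * g⁻¹ * t⁻¹ from hm,
                show g * t * g⁻¹ * t⁻¹ * t = g * t * g⁻¹ by group, conj_pow, ht2]
              simp
            have hm2 : (2 : ℤ) ^ k ∣ m + r * m := by
              rw [← hdvd, zpow_add, zpow_mul, ← hta, conj_zpow]
              have ht' : t⁻¹ = t := inv_eq_of_mul_eq_one_right (by rw [← pow_two, ht2])
              rw [ht', ← hsq, pow_two]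
              group
            have hmd : (2 : ℤ) ^ (k - 1) ∣ m := by
              refine IsCoprime.dvd_of_dvd_mul_left (IsCoprime.symm ⟨v, w, hvw⟩) (z := m) ?_
              rw [hk', show m + r * m = 2 * (u * m) by linear_combination m * hru] at hm2
              exact Int.dvd_of_mul_dvd_mul_left two_ne_zero hm2
            obtain ⟨e, he⟩ := hmd
            have haz : a ^ m = z ^ e := by
              rw [he, zpow_mul, hz, ← zpow_natCast, Nat.cast_pow, Nat.cast_ofNat]
            have : g * t * g⁻¹ = z ^ e * t := by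
              rw [← haz, show a ^ m = g * t * g⁻¹ * t⁻¹ from hm]; group
            rw [this]
            exact V.mul_mem (V.zpow_mem hzV e) htV
        | one => simp
        | mul x y _ _ hx hy => rw [← conj_mul]; exact V.mul_mem hx hy
        | inv x _ hx => rw [← conj_inv]; exact V.inv_mem hx
      rw [Subgroup.mem_normalizer_iff]
      refine fun x => ⟨hgen g x, fun hx => ?_⟩
      have := hgen g⁻¹ _ hx
      rwa [show g⁻¹ * (g * x * g⁻¹) * g⁻¹⁻¹ = x by group] at this
    have hzt : z * t = t * z := by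
      have := hzc t
      rw [mul_inv_eq_iff_eq_mul] at this
      exact this.symm
    have hVc : IsMulCommutative V := by
      refine Subgroup.isMulCommutative_closure ?_
      rintro x (rfl | rfl) y (rfl | rfl)
      exacts [rfl, hzt, hzt.symm, rfl]
    exact not_isCyclic_of_two_involutions hzV htV hzsq ht2 hz1
      (fun h1 => htA (h1 ▸ A.one_mem)) (fun h1 => htA (h1 ▸ hzA)) (hn V hVn hVc)
  -- the index is two
  obtain ⟨g, hgA⟩ : ∃ g : P, g ∉ A := by
    by_contra hc
    push Not at hc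
    refine hnc (isCyclic_iff_exists_zpowers_eq_top.mpr ⟨a, ?_⟩)
    rw [← hAz, eq_top_iff]
    exact fun g _ => hc g
  have h3 : ∀ g : P, g ∉ A → ∀ r : ℤ, g * a * g⁻¹ = a ^ r → (4 : ℤ) ∣ r + 1 := by
    intro g hg r hr
    obtain ⟨m, hm⟩ := hodd g r hr
    rcases Int.even_or_odd m with ⟨l, hl⟩ | ⟨l, hl⟩
    · exact absurd (hkey g r hr ⟨l, by omega⟩) hg
    · exact ⟨l + 1, by omega⟩
  have hindex : A.index = 2 := by
    rw [Subgroup.index_eq_two_iff]
    refine ⟨g, fun b => ?_⟩
    rcases em (b ∈ A) with hb | hb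
    · exact Or.inr ⟨hb, fun h => hgA ((A.mul_mem_cancel_left hb).mp h)⟩
    · refine Or.inl ⟨?_, hb⟩
      obtain ⟨r, hr⟩ := hact b
      obtain ⟨s, hs⟩ := hact g
      refine hkey _ _ (hcomp b g r s hr hs) ?_
      obtain ⟨x, hx⟩ := h3 b hb r hr
      obtain ⟨y, hy⟩ := h3 g hgA s hs
      exact ⟨4 * x * y - x - y, by linear_combination s * hx + (4 * x - 1) * hy⟩
  obtain ⟨r, hr⟩ := hact g
  -- the commutator subgroup
  set A2 := Subgroup.zpowers (a ^ (2 : ℕ)) with hA2
  have hA2n : A2.Normal := by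
    refine ⟨fun x hx b => ?_⟩
    obtain ⟨i, rfl⟩ := hx
    obtain ⟨s, hs⟩ := hact b
    refine ⟨s * i, ?_⟩
    simp only
    rw [← conj_zpow, ← conj_pow, hs, ← zpow_natCast, ← zpow_mul, ← zpow_natCast, ← zpow_mul,
      ← zpow_mul]
    ring_nf
  obtain ⟨n, hn'⟩ := IsPGroup.iff_card.mp hP
  have hcardA : Nat.card A = 2 ^ k := by rw [hAz, Nat.card_zpowers, hk]
  have hP2 : Nat.card P = 2 ^ (k + 1) := by
    rw [← A.card_mul_index, hcardA, hindex, pow_succ]
  have hA2card : Nat.card A2 = 2 ^ (k - 1) := by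
    rw [hA2, Nat.card_zpowers, orderOf_pow, hk,
      show Nat.gcd (2 ^ k) 2 = 2 from Nat.gcd_eq_right (dvd_pow_self 2 (by omega)),
      show 2 ^ k = 2 ^ (k - 1) * 2 by rw [← pow_succ, show k - 1 + 1 = k by omega],
      Nat.mul_div_cancel _ two_pos]
  have hA2i : A2.index = 4 := by
    have h := A2.card_mul_index
    rw [hA2card, hP2, show k + 1 = (k - 1) + 2 by omega, pow_add] at h
    exact Nat.eq_of_mul_eq_mul_left (pow_pos two_pos _) h
  refine ⟨by rw [hP2, Nat.Prime.factorization_pow Nat.prime_two, Finsupp.single_eq_same]; omega,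
    ?_⟩
  suffices hc : commutator P = A2 by rw [hc, hA2i]
  refine le_antisymm ?_ ?_
  · haveI := hA2n
    haveI : IsMulCommutative (P ⧸ A2) :=
      IsPGroup.isMulCommutative_of_card_eq_prime_sq (p := 2)
        (by rw [← Subgroup.index_eq_card, hA2i]; norm_num)
    rw [commutator_def, Subgroup.commutator_le]
    intro x _ y _
    rw [← QuotientGroup.eq_one_iff, commutatorElement_def]
    rw [QuotientGroup.mk_mul, QuotientGroup.mk_mul, QuotientGroup.mk_mul, QuotientGroup.mk_inv,
      QuotientGroup.mk_inv, mul_comm' (x : P ⧸ A2) (y : P ⧸ A2)]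
    group
  · rw [hA2, Subgroup.zpowers_le]
    obtain ⟨x, hx⟩ := h3 g hgA r hr
    have hcom : a ^ (r - 1) ∈ commutator P := by
      rw [zpow_sub, zpow_one, ← hr, commutator_def]
      exact Subgroup.commutator_mem_commutator (Subgroup.mem_top g) (Subgroup.mem_top a)
    obtain ⟨v, w, hvw⟩ : IsCoprime (2 * x - 1 : ℤ) ((2 : ℤ) ^ (k - 1)) :=
      IsCoprime.pow_right ⟨-1, x, by ring⟩
    have h2 : a ^ (2 : ℕ) = (a ^ (r - 1)) ^ v := by
      rw [← zpow_natCast, ← zpow_mul, ← mul_inv_eq_one, ← zpow_sub, hdvd]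
      refine ⟨w, ?_⟩
      rw [show (2 : ℤ) ^ k = 2 * 2 ^ (k - 1) by rw [← pow_succ', show k - 1 + 1 = k by omega],
        Nat.cast_ofNat]
      linear_combination (-2) * hvw - v * hx
    rw [h2]
    exact Subgroup.zpow_mem _ hcom v


/-- Let P be a finite p-group in which every abelian normal subgroup is cyclic, but which has a non-cyclic abelian
subgroup. Then p = 2 and P is generalized quaternion, dihedral of order at least 16, or quasi-dihedral. -/
theorem result {P : Type*} [Group P] [Finite P] (p : ℕ) [Fact p.Prime]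
    (hP : IsPGroup p P) (hn : ∀ A : Subgroup P, A.Normal → IsMulCommutative A → IsCyclic A)
    (hm : ∃ B : Subgroup P, IsMulCommutative B ∧ ¬ IsCyclic B) :
    p = 2 ∧ ((∃ n : ℕ, Nonempty (P ≃* QuaternionGroup n)) ∨ (∃ n : ℕ, 8 ≤ n ∧ Nonempty (P ≃* DihedralGroup n)) ∨
      Cfsg.IsQuasiDihedral P) := by
  have hnc : ¬ IsCyclic P := by
    intro hc
    obtain ⟨B, -, hB⟩ := hm
    exact hB inferInstance
  by_cases hp2 : p = 2
  · subst hp2
    refine ⟨rfl, ?_⟩
    obtain ⟨n, hcard⟩ := IsPGroup.iff_card.mp hP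
    obtain ⟨h3, hidx⟩ := index_commutator hP hn hnc
    rw [hcard, Nat.Prime.factorization_pow Nat.prime_two, Finsupp.single_eq_same] at h3
    rcases TwoClass.classify h3 hcard hidx with ⟨k, ⟨e⟩⟩ | ⟨k, hk, a, b, ha, hb, hab⟩ | ⟨k, hq⟩
    · refine Or.inr (Or.inl ⟨2 ^ (k + 2), ?_, ⟨e⟩⟩)
      rcases Nat.eq_zero_or_pos k with rfl | hpos
      · exfalso
        obtain ⟨V, hVn, hVc, hV⟩ := dihedral_four
        let f : DihedralGroup 4 ≃* P := e.symm
        haveI := hVc
        have hcyc : IsCyclic (V.map f.toMonoidHom) :=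
          hn _ (hVn.map _ f.surjective) (Subgroup.map_isMulCommutative _ _)
        exact hV (isCyclic_of_surjective _
          (V.equivMapOfInjective f.toMonoidHom f.injective).symm.surjective)
      · calc 8 = 2 ^ 3 := by norm_num
          _ ≤ 2 ^ (k + 2) := Nat.pow_le_pow_right two_pos (by omega)
    · exact Or.inr (Or.inr ⟨k + 3, by omega, hk, a, b, ha, hb, by
        rw [show k + 3 - 1 = k + 2 by omega]; exact hab⟩)
    · exact Or.inl ⟨_, hq⟩
  · exfalso
    haveI : (⊤ : Subgroup P).Normal := inferInstance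
    obtain ⟨z, w, hz, hz1, hzp, -, hwp, -, hwz, hnorm⟩ :=
      PGroupNormalSq.exists_normal_sq hp2 hP ⊤ (fun h => hnc
        (isCyclic_of_surjective _ Subgroup.topEquiv.surjective))
    have hcomm : IsMulCommutative (Subgroup.closure ({z, w} : Set P)) := by
      refine Subgroup.isMulCommutative_closure ?_
      rintro x (rfl | rfl) y (rfl | rfl)
      exacts [rfl, (Subgroup.mem_center_iff.mp hz _).symm, Subgroup.mem_center_iff.mp hz _, rfl]
    obtain ⟨⟨g, hg⟩, hgen⟩ := (hn _ hnorm hcomm).exists_generator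
    set W := Subgroup.closure ({z, w} : Set P) with hW
    have hWp : ∀ x ∈ W, x ^ p = 1 := by
      intro x hx
      induction hx using Subgroup.closure_induction with
      | mem x hx => rcases hx with rfl | rfl <;> assumption
      | one => exact one_pow p
      | mul x y hx hy ihx ihy =>
        rw [(show Commute x y from congrArg Subtype.val
          (hcomm.is_comm.comm (⟨x, hx⟩ : W) ⟨y, hy⟩)).mul_pow, ihx, ihy, one_mul]
      | inv x _ ih => rw [inv_pow, ih, inv_one]
    obtain ⟨i, hi⟩ := hgen ⟨z, Subgroup.subset_closure (Set.mem_insert _ _)⟩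
    obtain ⟨j, hj⟩ := hgen ⟨w, Subgroup.subset_closure (Set.mem_insert_of_mem _ rfl)⟩
    have hi' : g ^ i = z := congrArg Subtype.val hi
    have hj' : g ^ j = w := congrArg Subtype.val hj
    have hordg : orderOf g = p :=
      orderOf_eq_prime (hWp g hg) fun h => hz1 (by rw [← hi', h, one_zpow])
    have heq : Subgroup.zpowers z = Subgroup.zpowers g :=
      Subgroup.eq_of_le_of_card_ge (Subgroup.zpowers_le.mpr ⟨i, hi'⟩)
        (by rw [Nat.card_zpowers, Nat.card_zpowers, hordg, orderOf_eq_prime hzp hz1])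
    exact hwz (heq ▸ ⟨j, hj'⟩)

end Cfsg.Agent.S0519
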