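import Cfsg.Statements.S0505
import Mathlib
import Cfsg.Agent.Lib.CharP.Basic
import Cfsg.Agent.Lib.SolvableCore.Basic

set_option autoImplicit false
open Cfsg

namespace Cfsg.Agent.S0505

open Cfsg Subgroup Cfsg.Agent.Lib in
/-- The 2-core of the centraliser of `T` lies in the 2-core of the normaliser of `T`. -/
theorem pCoreOf_centralizer_le {G : Type*} [Group G] [Finite G] {p : ℕ} [Fact p.Prime] (T : Subgroup G) :
    pCoreOf p (centralizer (T : Set G)) ≤ pCoreOf p (normalizer (T : Set G)) := by
  set C := centralizer (T : Set G)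
  have hCN : C ≤ normalizer (T : Set G) := centralizer_le_normalizer _
  refine CharP.le_pCoreOf ((CharP.pCoreOf_le C).trans hCN) (CharP.pCoreOf_isPGroup C) fun g hg => ?_
  have hC : ∀ a ∈ normalizer (T : Set G), ∀ y ∈ C, a * y * a⁻¹ ∈ C := fun a ha y hy => by
    refine mem_centralizer_iff.2 fun z hz => ?_
    have h1 := mem_centralizer_iff.1 hy _ ((mem_normalizer_iff''.mp ha z).mp hz)
    calc z * (a * y * a⁻¹) = a * ((a⁻¹ * z * a) * y) * a⁻¹ := by group
      _ = a * (y * (a⁻¹ * z * a)) * a⁻¹ := by rw [h1]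
      _ = _ := by group
  have key : ∀ a ∈ normalizer (T : Set G),
      (pCoreOf p C).map (MulAut.conj a).toMonoidHom ≤ pCoreOf p C := by
    intro a ha
    refine CharP.le_pCoreOf ?_ ((CharP.pCoreOf_isPGroup C).map _) fun c hc => ?_
    · rintro _ ⟨y, hy, rfl⟩
      exact hC a ha y (CharP.pCoreOf_le C hy)
    · have h1 : a⁻¹ * c * a ∈ C := by simpa using hC a⁻¹ (inv_mem ha) c hc
      have h2 := CharP.le_normalizer_pCoreOf (p := p) C h1
      rw [mem_normalizer_iff]
      intro y
      simp only [Subgroup.mem_map_equiv, MulAut.conj_symm_apply]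
      rw [mem_normalizer_iff.1 h2 (a⁻¹ * y * a)]
      simp [mul_assoc]
  rw [mem_normalizer_iff]
  intro y
  constructor
  · intro hy; exact key g hg ⟨y, hy, rfl⟩
  · intro hy
    have := key g⁻¹ (inv_mem hg) ⟨_, hy, rfl⟩
    simpa [mul_assoc] using this

/-- Let G be a finite group of even order in which the centralizer of every involution is solvable and has trivial
core (no nontrivial normal subgroup of odd order). Then G is of characteristic 2 type. -/
theorem result {G : Type*} [Group G] [Finite G]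
    (h2 : Even (Nat.card G))
    (hs : ∀ t : G, orderOf t = 2 → Group.IsSolvable (Subgroup.centralizer ({t} : Set G)))
    (hc : ∀ t : G, orderOf t = 2 → Cfsg.oddCore (Subgroup.centralizer ({t} : Set G)) = ⊥) :
    Cfsg.IsCharacteristicTwoType G := by
  open Cfsg Subgroup Cfsg.Agent.Lib in
  refine ⟨h2, fun T hT hTb => ?_⟩
  haveI : Fact (Nat.Prime 2) := ⟨Nat.prime_two⟩
  haveI : Nontrivial T := T.bot_or_nontrivial.resolve_left hTb
  haveI := hT.center_nontrivial
  have hd : 2 ∣ Nat.card (Subgroup.center T) := by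
    obtain ⟨n, hn⟩ := IsPGroup.iff_card.1 (hT.to_subgroup (Subgroup.center T))
    have := Finite.one_lt_card (α := Subgroup.center T)
    rw [hn] at this ⊢
    exact dvd_pow_self 2 (by rintro rfl; simp at this)
  obtain ⟨z, hz⟩ := exists_prime_orderOf_dvd_card' 2 hd
  rw [← Subgroup.orderOf_coe, ← Subgroup.orderOf_coe] at hz
  set t : G := ((z : T) : G)
  have htT : t ∈ T := (z : T).2
  set K := Subgroup.centralizer ({t} : Set G)
  have hTK : T ≤ K := fun y hy => by
    rw [Subgroup.mem_centralizer_singleton_iff]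
    exact congrArg Subtype.val (Subgroup.mem_center_iff.1 z.2 ⟨y, hy⟩)
  have hCK : Subgroup.centralizer (T : Set G) ≤ K :=
    Subgroup.centralizer_le (Set.singleton_subset_iff.2 htT)
  have hK := SolvableCore.centralizer_pCore_le (p := 2) (hs t hz) (hc t hz)
  refine CharP.centralizer_pCore_le_of_forall fun x hxN hx hxc => ?_
  have h1 : T ≤ pCoreOf 2 (Subgroup.normalizer (T : Set G)) :=
    CharP.le_pCoreOf Subgroup.le_normalizer hT le_rfl
  have hxT : x ∈ Subgroup.centralizer (T : Set G) := Subgroup.centralizer_le (fun y hy => h1 hy) hxc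
  refine CharP.eq_one_of_centralizes_pCoreOf hK (hCK hxT) hx ?_
  refine Coprime.thompson_PxQ (U := pCoreOf 2 K) (Q := Subgroup.zpowers x) hT ?_
    (CharP.pCoreOf_isPGroup K) ?_ (hTK.trans (CharP.le_normalizer_pCoreOf K))
    ((Subgroup.zpowers_le.2 (hCK hxT)).trans (CharP.le_normalizer_pCoreOf K)) ?_
    (Subgroup.mem_zpowers x)
  · rwa [Nat.card_zpowers]
  · exact Subgroup.le_centralizer_iff.1 (Subgroup.zpowers_le.2 hxT)
  · refine le_trans ?_ (Subgroup.le_centralizer_iff.1 (Subgroup.zpowers_le.2 hxc))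
    refine le_trans ?_ (Cfsg.Agent.S0505.pCoreOf_centralizer_le T)
    refine CharP.le_pCoreOf inf_le_right ((CharP.pCoreOf_isPGroup K).to_le inf_le_left) fun g hg => ?_
    exact Subgroup.inf_normalizer_le_normalizer_inf
      ⟨CharP.le_normalizer_pCoreOf K (hCK hg), Subgroup.le_normalizer hg⟩

end Cfsg.Agent.S0505
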