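import Cfsg.Statements.S0518
import Cfsg.Agent.Lib.JComp78.Local

set_option autoImplicit false
open Cfsg

namespace Cfsg.Agent.S0518

/-- Let G be a finite group of characteristic 2 type with trivial 2-core in which every 2-local subgroup is solvable
and, for every Sylow 2-subgroup S, the centralizer of the set of central involutions of S lies in the normalizer of S.
Then either G has a strongly embedded subgroup, or the subgroup generated by the elements of odd order has two distinct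
maximal 2-local subgroups, each isomorphic to the symmetric group of degree 4, whose intersection has order 8. -/
theorem result {G : Type*} [Group G] [Finite G]
    (hL : Cfsg.IsCharacteristicTwoType G) (hO : Cfsg.pCore 2 G = ⊥)
    (hN : ∀ N : Subgroup G, Cfsg.IsTwoLocal N → Group.IsSolvable N)
    (hZ : ∀ S : Sylow 2 G,
      Subgroup.centralizer {z : G | z ∈ (S : Subgroup G) ∧ z ^ 2 = 1 ∧ ∀ s ∈ (S : Subgroup G), s * z = z * s} ≤
        Subgroup.normalizer ((S : Subgroup G) : Set G))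
    (H : Subgroup G) (hH : H = Subgroup.closure {g : G | Odd (orderOf g)}) :
    (∃ K : Subgroup G, Cfsg.IsStronglyEmbedded K) ∨
      ∃ M₁ M₂ : Subgroup H, M₁ ≠ M₂ ∧ Cfsg.IsMaximalTwoLocal M₁ ∧ Cfsg.IsMaximalTwoLocal M₂ ∧
        Nonempty (M₁ ≃* Equiv.Perm (Fin 4)) ∧ Nonempty (M₂ ≃* Equiv.Perm (Fin 4)) ∧ Nat.card ↥(M₁ ⊓ M₂) = 8 := by
  have hG : Agent.Lib.JComp.ZNGroup G := ⟨hL, hN, fun S => (Subgroup.centralizer_le fun z hz =>
    Agent.Lib.JComp.mem_omegaCenterOf.2 ⟨hz.1, Subgroup.mem_centralizer_iff.2 hz.2.2, hz.2.1⟩).trans (hZ S)⟩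
  subst hH
  have : Fact (Nat.Prime 2) := ⟨Nat.prime_two⟩
  obtain ⟨S⟩ : Nonempty (Sylow 2 G) := inferInstance
  set M := Subgroup.normalizer (Cfsg.thompsonSubgroupOf 2 (S : Subgroup G) : Set G) with hMdef
  have hM : Cfsg.IsTwoLocal M := Agent.Lib.JComp.isTwoLocal_normalizer
    (S.isPGroup'.to_le (Agent.Lib.Thompson.thompsonSubgroupOf_le 2 _))
    (Agent.Lib.Thompson.thompsonSubgroupOf_ne_bot
      (S.dvd_card_of_dvd_card (even_iff_two_dvd.1 hL.1)))
  by_cases hne : (Cfsg.straddlingTwoSubgroups M).Nonempty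
  swap
  · exact Or.inl ⟨M, (S2947.result hL hN hG.centralizer_le hO S M hM le_rfl).2
      (Set.not_nonempty_iff_eq_empty.1 hne)⟩
  refine Or.inr ?_
  obtain ⟨T, hT⟩ := Agent.Lib.JComp.exists_max_straddling hne
  obtain ⟨hTp, -, hTM, -⟩ := Agent.Lib.JComp.straddle_facts hT
  obtain ⟨S', hMJ', hTS⟩ := Agent.Lib.JComp.exists_sylow_ge S le_rfl hTM hTp
  obtain ⟨K, hK⟩ := Agent.Lib.JComp.jComponentsOutside_nonempty hG S' hMJ' hT
  obtain ⟨L, K₂, -, -, g, g₂, hKne⟩ := Agent.Lib.JComp.exists_good_pair hG hO S' hMJ' hT hTS hK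
  obtain ⟨A, B, gA, gB, hnc⟩ := Agent.Lib.JComp.exists_noncomm hG g g₂ hKne
  have hnc' : ¬ Cfsg.wOf B ≤ Subgroup.centralizer (Cfsg.wOf A : Set G) :=
    fun h => hnc (Subgroup.le_centralizer_iff.1 h)
  obtain ⟨hA, -, hT8⟩ := Agent.Lib.JComp78.inf_odd_iso hG S' hTS gA gB hnc
  obtain ⟨hB, -, -⟩ := Agent.Lib.JComp78.inf_odd_iso hG S' hTS gB gA hnc'
  set H := Subgroup.closure {g : G | Odd (orderOf g)} with hH
  have hAB := Agent.Lib.JComp78.not_le_normalizer gA gB hnc
  refine ⟨(Subgroup.normalizer (A : Set G)).subgroupOf H, (Subgroup.normalizer (B : Set G)).subgroupOf H,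
    fun e => hAB fun a ha => ?_, Agent.Lib.JComp78.inf_odd_maximal hG S' hTS gA gB hnc,
    Agent.Lib.JComp78.inf_odd_maximal hG S' hTS gB gA hnc', hA, hB, ?_⟩
  · obtain ⟨x, w, s⟩ := gA.exists_side
    exact Subgroup.mem_subgroupOf.1 (e.le (Subgroup.mem_subgroupOf.2 (Subgroup.le_normalizer ha) :
      (⟨a, Agent.Lib.JComp78.le_closure_odd s ha⟩ : H) ∈ _))
  have f := Agent.Lib.JComp.amalFacts gA gB hnc
  suffices h : Subgroup.normalizer (A : Set G) ⊓ Subgroup.normalizer (B : Set G) = T by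
    rw [show ∀ P Q : Subgroup G, P.subgroupOf H ⊓ Q.subgroupOf H = (P ⊓ Q).subgroupOf H from
      fun P Q => (Subgroup.comap_inf _ _ _).symm, h]
    exact hT8
  refine (le_antisymm (le_inf gA.le_norm gB.le_norm) ?_).symm
  obtain ⟨x, w, s⟩ := gA.exists_side
  have hLA := gA.normalizer_eq_sup s f.elem_left f.card_cases hG
  have hcard : T.relIndex (Subgroup.normalizer (A : Set G)) = 3 := by
    have h1 := Subgroup.relIndex_mul_relIndex ⊥ T _ bot_le gA.le_norm
    rw [Subgroup.relIndex_bot_left, Subgroup.relIndex_bot_left] at h1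
    refine Nat.eq_of_mul_eq_mul_left (Nat.card_pos (α := T)) (h1.trans ?_)
    rw [hLA, s.card_sup, mul_comm]
  have hmul := Subgroup.relIndex_mul_relIndex T
    (Subgroup.normalizer (A : Set G) ⊓ Subgroup.normalizer (B : Set G)) _
    (le_inf gA.le_norm gB.le_norm) inf_le_left
  rw [hcard] at hmul
  rcases Nat.prime_three.eq_one_or_self_of_dvd _ ⟨_, hmul.symm⟩ with h | h
  · exact Subgroup.relIndex_eq_one.1 h
  · rw [h] at hmul
    have h1 : (Subgroup.normalizer (A : Set G) ⊓ Subgroup.normalizer (B : Set G)).relIndex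
        (Subgroup.normalizer (A : Set G)) = 1 := by omega
    exact absurd ((Subgroup.le_normalizer.trans (Subgroup.relIndex_eq_one.1 h1)).trans inf_le_right) hAB

end Cfsg.Agent.S0518
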