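import Cfsg.Statements.S0018
import Mathlib
import Cfsg.Agent.Lib.PSolvable.HallHigman

set_option autoImplicit false
open Cfsg

namespace Cfsg.Agent.S0018

/-- A finite solvable group whose Sylow p-subgroups are abelian has p-length one: a Sylow p-subgroup together with the largest normal subgroup of order prime to p generates a normal subgroup. -/
theorem result {G : Type*} [Group G] [Finite G] [Group.IsSolvable G]
    (p : ℕ) [Fact p.Prime] (P : Sylow p G) (hP : IsMulCommutative P) :
    ((P : Subgroup G) ⊔ Cfsg.pPrimeCore p G).Normal := by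
  set N := Cfsg.pPrimeCore p G with hN
  set q := QuotientGroup.mk' N with hq
  have hqs : Function.Surjective q := QuotientGroup.mk'_surjective N
  haveI : Group.IsSolvable (G ⧸ N) := Group.isSolvable_of_surjective hqs
  let Q : Sylow p (G ⧸ N) := P.mapSurjective hqs
  have hQ : (Q : Subgroup (G ⧸ N)) = (P : Subgroup G).map q := rfl
  have hle : (Q : Subgroup (G ⧸ N)) ≤ Cfsg.pCore p (G ⧸ N) := by
    refine le_trans ?_ (Cfsg.Agent.Lib.PSolvable.centralizer_pCore_le_of_isPSolvable
      Cfsg.Agent.Lib.PSolvable.isPSolvable_of_isSolvable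
      Cfsg.Agent.Lib.PSolvable.pPrimeCore_quotient_eq_bot)
    haveI : IsMulCommutative (Q : Subgroup (G ⧸ N)) := by
      rw [hQ]
      haveI := hP
      infer_instance
    exact (Subgroup.le_centralizer_iff_isMulCommutative.mpr ‹_›).trans
      (Subgroup.centralizer_le (SetLike.coe_subset_coe.mpr
        (Cfsg.Agent.Lib.PSolvable.pCore_le_sylow Q)))
  have heq : (Q : Subgroup (G ⧸ N)) = Cfsg.pCore p (G ⧸ N) :=
    le_antisymm hle (Cfsg.Agent.Lib.PSolvable.pCore_le_sylow Q)
  have hsup : (P : Subgroup G) ⊔ N = (Cfsg.pCore p (G ⧸ N)).comap q := by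
    rw [← heq, hQ, Subgroup.comap_map_eq, hq, QuotientGroup.ker_mk']
  rw [hsup]
  exact Subgroup.Normal.comap inferInstance q

end Cfsg.Agent.S0018
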