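import Cfsg.Statements.S0049
import Mathlib
-- import your own Cfsg.Agent.* helpers here

set_option autoImplicit false
open Cfsg

namespace Cfsg.Agent.S0049

/-- A prime divisor of the order of a finite group also divides the index of the Frattini subgroup. -/
theorem result {G : Type*} [Group G] [Finite G] (p : ℕ) (hp : p.Prime) (hdvd : p ∣ Nat.card G) :
    p ∣ (frattini G).index := by
  have := Fact.mk hp
  let P : Sylow p G := default
  have hP : (P : Subgroup G) ≠ ⊥ := P.ne_bot_of_dvd_card hdvd
  by_contra hd
  have hle : (P : Subgroup G) ≤ frattini G := by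
    intro x hx
    have hPg := (P.isPGroup'.map (QuotientGroup.mk' (frattini G)))
    have hc : Nat.card (Subgroup.map (QuotientGroup.mk' (frattini G)) (P : Subgroup G)) = 1 := by
      obtain ⟨k, hk⟩ := hPg.exists_card_eq
      have hdv := Subgroup.card_subgroup_dvd_card (Subgroup.map (QuotientGroup.mk' (frattini G)) (P : Subgroup G))
      rw [hk] at hdv
      rcases Nat.eq_zero_or_pos k with rfl | hk0
      · simpa using hk
      · exact absurd ((dvd_pow_self p hk0.ne').trans hdv) (by simpa [Subgroup.index] using hd)
    have := Subgroup.mem_map_of_mem (QuotientGroup.mk' (frattini G)) hx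
    rw [Subgroup.card_eq_one.mp hc, Subgroup.mem_bot] at this
    exact (QuotientGroup.eq_one_iff x).mp this
  let Q : Sylow p (frattini G) := P.subtype hle
  have hQ : Subgroup.map (frattini G).subtype (Q : Subgroup (frattini G)) = (P : Subgroup G) := by
    rw [Sylow.coe_subtype, Subgroup.map_subgroupOf_eq_of_le hle]
  have hnorm := frattini_nongenerating (Sylow.normalizer_sup_eq_top Q)
  have hPn : (P : Subgroup G).Normal := by
    rw [hQ] at hnorm
    exact Subgroup.normalizer_eq_top_iff.mp hnorm
  obtain ⟨H, hH⟩ := Subgroup.exists_right_complement'_of_coprime P.card_coprime_index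
  have htop : H = ⊤ := frattini_nongenerating (top_le_iff.mp (by
    rw [← hH.sup_eq_top]
    exact sup_le (hle.trans le_sup_right) le_sup_left))
  have hdj := hH.disjoint
  rw [htop, disjoint_top] at hdj
  exact hP hdj

end Cfsg.Agent.S0049
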