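import Cfsg.Statements.S0054
import Cfsg.Agent.Lib.Perm.RegularNormal
-- import your own Cfsg.Agent.* helpers here

set_option autoImplicit false
open Cfsg

namespace Cfsg.Agent.S0054

/-- A regular normal subgroup of a finite 2-transitive group is elementary abelian: it is commutative and all its elements have order dividing one prime. -/
theorem result {G : Type*} [Group G] [Finite G]
    {X : Type*} [Nonempty X] [MulAction G X] (h2 : MulAction.IsMultiplyPretransitive G X 2)
    (N : Subgroup G) [N.Normal] (htrans : MulAction.IsPretransitive N X) (hreg : ∀ x : X, MulAction.stabilizer N x = ⊥) :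
    IsMulCommutative N ∧ ∃ p : ℕ, p.Prime ∧ ∀ n ∈ N, n ^ p = 1 := by
  classical
  obtain ⟨x₀⟩ := ‹Nonempty X›
  have hfin : Finite X := Finite.of_surjective (fun n : N => n • x₀) (fun y => MulAction.exists_smul_eq N x₀ y)
  rcases subsingleton_or_nontrivial X with hs | hn
  · have h1 : ∀ n : N, n = 1 := fun n => by
      have hn : n ∈ MulAction.stabilizer N x₀ :=
        MulAction.mem_stabilizer_iff.mpr (Subsingleton.elim _ _)
      rwa [hreg x₀, Subgroup.mem_bot] at hn
    refine ⟨⟨⟨fun a b => by rw [h1 a, h1 b]⟩⟩, 2, Nat.prime_two, fun n hn => ?_⟩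
    have e : n = 1 := congrArg Subtype.val (h1 ⟨n, hn⟩)
    rw [e, one_pow]
  · obtain ⟨p, hp, hc, he, -⟩ :=
      Cfsg.Agent.Lib.Perm.regularNormal_elementaryAbelian N h2 (hreg x₀)
    exact ⟨hc, p, hp, he⟩

end Cfsg.Agent.S0054
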