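import Cfsg.Statements.S0056
import Cfsg.Agent.Lib.Coprime.Basic

set_option autoImplicit false
open Cfsg

namespace Cfsg.Agent.S0056

/-- A coprime action on an abelian group that fixes all elements of prime order is trivial. -/
theorem result {G : Type*} [Group G] [Finite G] (A V : Subgroup G) [IsMulCommutative V]
    (hAV : A ≤ Subgroup.normalizer (V : Set G)) (hcop : (Nat.card A).Coprime (Nat.card V))
    (hΩ : ∀ v ∈ V, (orderOf v).Prime → ∀ a ∈ A, a * v = v * a) : A ≤ Subgroup.centralizer (V : Set G) := by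
  have h1 := Cfsg.Agent.Lib.Coprime.inf_centralizer_inf_commutator_eq_bot hAV hcop
  have h2 : ⁅V, A⁆ = ⊥ := by
    by_contra hne
    obtain ⟨q, hq, hqd⟩ := Nat.exists_prime_and_dvd
      (n := Nat.card (⁅V, A⁆ : Subgroup G)) (by rwa [ne_eq, Subgroup.card_eq_one])
    haveI := Fact.mk hq
    obtain ⟨x, hx⟩ := exists_prime_orderOf_dvd_card' q hqd
    have hxV : (x : G) ∈ V := Cfsg.Agent.Lib.Coprime.commutator_le_of_le_normalizer hAV x.2
    have ho : orderOf (x : G) = q := by rwa [Subgroup.orderOf_coe]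
    have hxC : (x : G) ∈ Subgroup.centralizer (A : Set G) :=
      Subgroup.mem_centralizer_iff.mpr fun a ha => hΩ x hxV (ho.symm ▸ hq) a ha
    have hx1 : (x : G) = 1 := Subgroup.mem_bot.mp (h1 ▸ ⟨⟨hxV, hxC⟩, x.2⟩)
    rw [hx1, orderOf_one] at ho
    exact hq.one_lt.ne ho
  exact Subgroup.le_centralizer_iff.mp (Subgroup.commutator_eq_bot_iff_le_centralizer.mp h2)

end Cfsg.Agent.S0056
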