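import Cfsg.Statements.S0057
import Cfsg.Agent.Lib.Coprime.Sylow

set_option autoImplicit false
open Cfsg

namespace Cfsg.Agent.S0057


open Subgroup MulAction
open scoped commutatorElement

/-- For `K` normal, `H.relIndex K` divides the index of `H`. -/
theorem relIndex_dvd_index_of_normal_right {G : Type*} [Group G] [Finite G] (H K : Subgroup G)
    [K.Normal] : H.relIndex K ∣ H.index := by
  have hcard : ∀ L M : Subgroup G, Nat.card (L ⊓ M : Subgroup G) * L.relIndex M = Nat.card M := by
    intro L M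
    rw [← inf_relIndex_right L M, relIndex, ← card_mul_index ((L ⊓ M).subgroupOf M),
      Nat.card_congr (subgroupOfEquivOfLe (inf_le_right : L ⊓ M ≤ M)).toEquiv]
  have h1 := hcard K (H ⊔ K)
  rw [inf_eq_left.mpr (le_sup_right : K ≤ H ⊔ K), relIndex_sup_right] at h1
  have h2 := hcard H (H ⊔ K)
  rw [inf_eq_left.mpr (le_sup_left : H ≤ H ⊔ K)] at h2
  have h3 := hcard H K
  have h4 := hcard K H
  rw [inf_comm] at h4
  have h5 : H.relIndex (H ⊔ K) = H.relIndex K := by
    refine Nat.eq_of_mul_eq_mul_left (Nat.card_pos (α := H)) (h2.trans ?_)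
    rw [← h1, ← h3, ← h4]; ring
  rw [← h5]
  exact relIndex_dvd_index_of_le le_sup_left

/-- If `R` is a `p`-group, `C` has index `p` in `K` and `R ≤ K` is not inside `C`, then `K = R C`. -/
theorem exists_mul_of_relIndex_eq_prime {K : Type*} [Group K] [Finite K] {p : ℕ} [Fact p.Prime]
    {C R : Subgroup K} (hC : C.index = p) (hR : IsPGroup p R) (hRC : ¬ R ≤ C) (k : K) :
    ∃ r ∈ R, r⁻¹ * k ∈ C := by
  have hst : stabilizer R ((1 : K) : K ⧸ C) = C.subgroupOf R := by
    ext r
    change ((r : K) • ((1 : K) : K ⧸ C) = ((1 : K) : K ⧸ C)) ↔ (r : K) ∈ C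
    rw [MulAction.Quotient.smul_coe, smul_eq_mul, mul_one, QuotientGroup.eq, mul_one, inv_mem_iff]
  obtain ⟨n, hn⟩ := hR.index (C.subgroupOf R)
  have hn0 : n ≠ 0 := by
    intro h0
    rw [h0, pow_zero, index_eq_one, subgroupOf_eq_top] at hn
    exact hRC hn
  have horb : (orbit R ((1 : K) : K ⧸ C)).ncard = (Set.univ : Set (K ⧸ C)).ncard := by
    refine le_antisymm (Set.ncard_le_ncard (Set.subset_univ _)) ?_
    rw [Set.ncard_univ, ← index_eq_card, hC, ← index_stabilizer, hst, hn]
    exact Nat.le_self_pow hn0 p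
  have huniv : orbit R ((1 : K) : K ⧸ C) = Set.univ :=
    Set.eq_of_subset_of_ncard_le (Set.subset_univ _) horb.ge
  obtain ⟨r, hr⟩ : (k : K ⧸ C) ∈ orbit R ((1 : K) : K ⧸ C) := huniv ▸ Set.mem_univ _
  refine ⟨r, r.2, ?_⟩
  change (r : K) • ((1 : K) : K ⧸ C) = (k : K ⧸ C) at hr
  rw [MulAction.Quotient.smul_coe, smul_eq_mul, mul_one, QuotientGroup.eq] at hr
  exact hr

/-- Every Sylow subgroup is invariant and `[K, A]` is a `p`-group. -/
theorem isPGroup_commutator {G : Type*} [Group G] [Finite G] {A K : Subgroup G}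
    (hAK : A ≤ normalizer (K : Set G))
    (hcop : (Nat.card A).Coprime (Nat.card K)) (hsolv : Group.IsSolvable A ∨ Group.IsSolvable K)
    {p : ℕ} [Fact p.Prime] (hidx : (K ⊓ centralizer (A : Set G)).relIndex K = p) :
    IsPGroup p (⁅K, A⁆ : Subgroup G) := by
  have hp := (Fact.out : p.Prime)
  obtain ⟨P, hP⟩ :=
    Cfsg.Agent.Lib.Coprime.exists_invariant_sylow (p := p) hAK hcop hsolv
  set C := (K ⊓ centralizer (A : Set G)).subgroupOf K with hC
  have hCidx : C.index = p := hidx
  have hPC : ¬ (P : Subgroup K) ≤ C := fun h =>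
    P.not_dvd_index ((dvd_of_eq hCidx.symm).trans (index_dvd_of_le h))
  -- every Sylow subgroup is invariant
  have hinv : ∀ Q : Sylow p K,
      A ≤ normalizer (((Q : Subgroup K).map K.subtype : Subgroup G) : Set G) := by
    intro Q
    obtain ⟨m, rfl⟩ := MulAction.exists_smul_eq K P Q
    obtain ⟨x, hx, hxm⟩ := exists_mul_of_relIndex_eq_prime hCidx P.2 hPC m⁻¹
    have hxP : x • P = P := Sylow.smul_eq_iff_mem_normalizer.mpr (le_normalizer hx)
    have hm : m = (x⁻¹ * m⁻¹)⁻¹ * x⁻¹ := by group
    have hxP' : x⁻¹ • P = P := by rw [inv_smul_eq_iff, hxP]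
    rw [hm, mul_smul, hxP']
    set c := (x⁻¹ * m⁻¹)⁻¹ with hc
    have hcC : (c : G) ∈ centralizer (A : Set G) := (C.inv_mem hxm).2
    refine Cfsg.Agent.Lib.Coprime.le_normalizer_of_conj_mem ?_
    rintro a ha _ ⟨_, ⟨y, hy, rfl⟩, rfl⟩
    obtain ⟨z, hz, hze⟩ :=
      Cfsg.Agent.Lib.Coprime.conj_mem_of_le_normalizer hP ha ⟨y, hy, rfl⟩
    refine ⟨MulAut.conj c z, ⟨z, hz, rfl⟩, ?_⟩
    have h1 : a * (c : G) = c * a := mem_centralizer_iff.mp hcC a ha
    have h2 : (c : G)⁻¹ * a⁻¹ = a⁻¹ * (c : G)⁻¹ := by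
      rw [← mul_inv_rev, h1, mul_inv_rev]
    simp only [MulAut.conj_apply, Subgroup.subtype_apply, Subgroup.coe_mul, Subgroup.coe_inv,
      MulDistribMulAction.toMonoidEnd_apply, MulDistribMulAction.toMonoidHom_apply,
      MulAut.smul_def] at hze ⊢
    rw [hze]
    calc (c : G) * (a * y * a⁻¹) * (c : G)⁻¹ = (c * a) * y * (a⁻¹ * (c : G)⁻¹) := by group
      _ = (a * c) * y * ((c : G)⁻¹ * a⁻¹) := by rw [h1, h2]
      _ = a * ((c : G) * y * (c : G)⁻¹) * a⁻¹ := by group
  set D := ⁅K, A⁆ with hD
  have hDK : D ≤ K := Cfsg.Agent.Lib.Coprime.commutator_le_of_le_normalizer hAK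
  set P' := (P : Subgroup K).map K.subtype with hP'
  have hDN : D ≤ normalizer (P' : Set G) := by
    rw [hD, commutator_le]
    intro k hk a ha
    have h1 := hinv ((⟨k, hk⟩ : K)⁻¹ • P) ha
    have h2 : k * a * k⁻¹ ∈ normalizer (P' : Set G) := by
      have key : ∀ b : G, b ∈ normalizer
          (((((⟨k, hk⟩ : K)⁻¹ • P : Sylow p K) : Subgroup K).map K.subtype : Subgroup G) : Set G) →
          ∀ y ∈ P', k * b * k⁻¹ * y * (k * b * k⁻¹)⁻¹ ∈ P' := by
        rintro b hb _ ⟨y, hy, rfl⟩
        have hy' : k⁻¹ * (y : G) * k ∈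
            (((⟨k, hk⟩ : K)⁻¹ • P : Sylow p K) : Subgroup K).map K.subtype :=
          ⟨_, ⟨y, hy, rfl⟩, by simp⟩
        obtain ⟨_, ⟨z, hz, rfl⟩, hze⟩ := (mem_normalizer_iff.mp hb _).mp hy'
        refine ⟨z, hz, ?_⟩
        simp only [Subgroup.subtype_apply, MulAut.conj_apply, Subgroup.coe_mul, Subgroup.coe_inv,
          MulDistribMulAction.toMonoidEnd_apply, MulDistribMulAction.toMonoidHom_apply,
          MulAut.smul_def, inv_inv] at hze ⊢
        calc (z : G) = k * (k⁻¹ * (z : G) * k) * k⁻¹ := by group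
          _ = k * (b * (k⁻¹ * y * k) * b⁻¹) * k⁻¹ := by rw [hze]
          _ = _ := by group
      rw [mem_normalizer_iff]
      refine fun y => ⟨key a h1 y, fun hy => ?_⟩
      have := key a⁻¹ (inv_mem h1) _ hy
      convert this using 1
      group
    rw [commutatorElement_def]
    exact (normalizer (P' : Set G)).mul_mem h2 ((normalizer (P' : Set G)).inv_mem (hinv P ha))
  -- `R = D ∩ P` is a normal Sylow subgroup of `D` and absorbs `[D, A]`
  have hKD : K ≤ normalizer (D : Set G) := normalizer_commutator_ge_left K A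
  haveI : (D.subgroupOf K).Normal := normal_subgroupOf_of_le_normalizer hKD
  set C' := (K ⊓ centralizer (A : Set G)).subgroupOf D with hC'
  set R := P'.subgroupOf D with hR
  haveI : R.Normal := normal_subgroupOf_of_le_normalizer hDN
  have hRp : IsPGroup p R := (P.2.map _).comap_subtype
  have hidxD : C'.index ∣ p := by
    have h1 : (C.subgroupOf (D.subgroupOf K)).index = C'.index := by
      change C.relIndex (D.subgroupOf K) = (K ⊓ centralizer (A : Set G)).relIndex D
      rw [hC, relIndex_subgroupOf hDK]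
    rw [← h1, ← hCidx]
    exact relIndex_dvd_index_of_normal_right C (D.subgroupOf K)
  have hDA : ⁅D, A⁆ = D := Cfsg.Agent.Lib.Coprime.commutator_commutator_eq hAK
    (Cfsg.Agent.Lib.Coprime.coprime_of_le_right hDK hcop)
  rcases (Nat.dvd_prime hp).mp hidxD with h1 | h1
  · -- `A` centralises `D`
    have hDC : D ≤ centralizer (A : Set G) :=
      (subgroupOf_eq_top.mp (index_eq_one.mp h1)).trans inf_le_right
    rw [← hDA, commutator_eq_bot_iff_le_centralizer.mpr hDC]
    exact IsPGroup.of_bot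
  have hRC : ¬ R ≤ C' := by
    intro hle
    have h2 : p ∣ R.index := h1 ▸ index_dvd_of_le hle
    have h3 : R.index ∣ (P : Subgroup K).index := by
      have : R.index = (P : Subgroup K).relIndex (D.subgroupOf K) := by
        change P'.relIndex D = _
        rw [← relIndex_subgroupOf (H := P') hDK]
        congr 1
        exact (comap_map_eq_self_of_injective K.subtype_injective _)
      rw [this]
      exact relIndex_dvd_index_of_normal_right (P : Subgroup K) (D.subgroupOf K)
    exact P.not_dvd_index (h2.trans h3)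
  have hle : D ≤ P' := by
    conv_lhs => rw [← hDA]
    rw [commutator_le]
    intro d hd a ha
    obtain ⟨r, hr, hrd⟩ := exists_mul_of_relIndex_eq_prime h1 hRp hRC ⟨d, hd⟩
    have hc : ⁅(r : G)⁻¹ * d, a⁆ = 1 := commutatorElement_eq_one_iff_mul_comm.mpr
      (mem_centralizer_iff.mp hrd.2 a ha).symm
    have hsplit : d = (r : G) * ((r : G)⁻¹ * d) := by group
    rw [hsplit, commutatorElement_mul_left_eq_conj_mul, hc]
    simp only [mul_one, mul_inv_cancel, one_mul]
    rw [commutatorElement_def, show (r : G) * a * (r : G)⁻¹ * a⁻¹ = r * (a * (r : G)⁻¹ * a⁻¹) by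
      group]
    exact P'.mul_mem hr
      (Cfsg.Agent.Lib.Coprime.conj_mem_of_le_normalizer hP ha (P'.inv_mem hr))
  exact (P.2.map _).to_le hle


/-- Under coprime action, if the centraliser of A in K has prime index p in K then the commutator subgroup [K, A] has order exactly p. -/
theorem result {G : Type*} [Group G] [Finite G] (A K : Subgroup G) (hAK : A ≤ Subgroup.normalizer (K : Set G))
    (hcop : (Nat.card A).Coprime (Nat.card K)) (hsolv : Group.IsSolvable A ∨ Group.IsSolvable K)
    (p : ℕ) (hp : p.Prime) (hidx : (K ⊓ Subgroup.centralizer (A : Set G)).relIndex K = p) :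
    Nat.card (⁅K, A⁆ : Subgroup G) = p := by
  haveI := Fact.mk hp
  have hR := isPGroup_commutator hAK hcop hsolv hidx
  set R : Subgroup G := ⁅K, A⁆ with hRdef
  have hRK : R ≤ K := Cfsg.Agent.Lib.Coprime.commutator_le_of_le_normalizer hAK
  have hAR : A ≤ normalizer (R : Set G) := normalizer_commutator_ge_right K A
  have hcopR := Cfsg.Agent.Lib.Coprime.coprime_of_le_right hRK hcop
  have hRA : ⁅R, A⁆ = R := Cfsg.Agent.Lib.Coprime.commutator_commutator_eq hAK hcopR
  set C := R ⊓ centralizer (A : Set G) with hC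
  have hne : R ≠ ⊥ := by
    intro h0
    have : K ≤ centralizer (A : Set G) := commutator_eq_bot_iff_le_centralizer.mp h0
    rw [inf_eq_left.mpr this, relIndex_self] at hidx
    exact hp.one_lt.ne hidx
  have hCR : ¬ R ≤ C := fun h => hne (by
    rw [← hRA]; exact commutator_eq_bot_iff_le_centralizer.mpr (h.trans inf_le_right))
  have hidxR : (C.subgroupOf R).index = p := by
    haveI : (R.subgroupOf K).Normal :=
      normal_subgroupOf_of_le_normalizer (normalizer_commutator_ge_left K A)
    have h1 : C.relIndex R ∣ p := by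
      have h2 : C.relIndex R = (K ⊓ centralizer (A : Set G)).relIndex R := by
        rw [← inf_relIndex_right (K ⊓ centralizer (A : Set G)) R, hC]
        congr 1
        rw [inf_comm K, inf_assoc, inf_eq_right.mpr hRK, inf_comm]
      rw [h2, ← hidx, ← relIndex_subgroupOf (H := K ⊓ centralizer (A : Set G)) hRK]
      exact relIndex_dvd_index_of_normal_right _ _
    rcases (Nat.dvd_prime hp).mp h1 with h | h
    · exact absurd (relIndex_eq_one.mp h) hCR
    · exact h
  haveI hCn : (C.subgroupOf R).Normal := by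
    refine normal_of_index_eq_minFac_card ?_
    obtain ⟨n, hn⟩ := IsPGroup.iff_card.mp hR
    rw [hidxR, hn]
    rcases eq_or_ne n 0 with rfl | hn0
    · exact absurd (eq_bot_of_card_eq R (by rw [hn, pow_zero])) hne
    rw [Nat.pow_minFac hn0, hp.minFac_eq]
  -- `R` centralises `C`
  have hRC : ⁅R, C⁆ = ⊥ := by
    have h1 : ⁅⁅R, C⁆, A⁆ = ⊥ := by
      refine commutator_eq_bot_iff_le_centralizer.mpr (le_trans ?_ (inf_le_right : C ≤ _))
      exact le_normalizer_iff_commutator_le_right.mp
        (normal_subgroupOf_iff_le_normalizer inf_le_left |>.mp hCn)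
    have h2 : ⁅⁅C, A⁆, R⁆ = ⊥ := by
      rw [show ⁅C, A⁆ = ⊥ from commutator_eq_bot_iff_le_centralizer.mpr inf_le_right,
        commutator_bot_left]
    have h3 := commutator_commutator_eq_bot_of_rotate h1 h2
    rwa [commutator_comm A R, hRA] at h3
  obtain ⟨x, hxR, hxC⟩ := SetLike.not_le_iff_exists.mp hCR
  have hsup : C ⊔ zpowers x = R := by
    refine le_antisymm (sup_le inf_le_left (zpowers_le.mpr hxR)) ?_
    have h2 : (C ⊔ zpowers x).relIndex R ∣ p :=
      hidxR ▸ relIndex_dvd_of_le_left R (le_sup_left : C ≤ C ⊔ zpowers x)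
    rcases (Nat.dvd_prime hp).mp h2 with h | h
    · exact relIndex_eq_one.mp h
    · exfalso
      have h3 := relIndex_mul_relIndex C (C ⊔ zpowers x) R le_sup_left
        (sup_le inf_le_left (zpowers_le.mpr hxR))
      rw [h, show C.relIndex R = p from hidxR] at h3
      have h4 : C.relIndex (C ⊔ zpowers x) = 1 :=
        Nat.eq_of_mul_eq_mul_right hp.pos (h3.trans (one_mul p).symm)
      exact hxC (relIndex_eq_one.mp h4 (mem_sup_right (mem_zpowers x)))
  haveI : IsMulCommutative R := by
    rw [← le_centralizer_iff_isMulCommutative]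
    have hCc : C ≤ centralizer (R : Set G) :=
      le_centralizer_iff.mp (commutator_eq_bot_iff_le_centralizer.mp hRC)
    conv_lhs => rw [← hsup]
    refine sup_le hCc (zpowers_le.mpr ?_)
    intro y hy
    rw [← hsup] at hy
    have hle : C ⊔ zpowers x ≤ centralizer ({x} : Set G) := by
      refine sup_le (fun c hc => mem_centralizer_singleton_iff.mpr ?_)
        (zpowers_le.mpr (mem_centralizer_singleton_iff.mpr rfl))
      exact (mem_centralizer_iff.mp (hCc hc) x hxR).symm
    exact (mem_centralizer_singleton_iff.mp (hle hy))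
  have hbot : C = ⊥ := by
    have := Cfsg.Agent.Lib.Coprime.inf_centralizer_inf_commutator_eq_bot hAR hcopR
    rwa [hRA, inf_eq_left.mpr inf_le_left] at this
  have := card_mul_index (C.subgroupOf R)
  rw [hidxR, hbot, bot_subgroupOf, card_bot, one_mul] at this
  exact this.symm

end Cfsg.Agent.S0057
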