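import Cfsg.Statements.S0060
import Cfsg.Agent.Lib.PSolvable.Core
-- import your own Cfsg.Agent.* helpers here

set_option autoImplicit false
open Pointwise
open Cfsg

namespace Cfsg.Agent.S0060

/-- Brodkey's Theorem: in a finite group with abelian Sylow p-subgroups and no nontrivial normal p-subgroup, some conjugate of a Sylow p-subgroup meets it trivially. -/
theorem result {G : Type*} [Group G] [Finite G] (p : ℕ) [Fact p.Prime]
    (S : Sylow p G) (hS : IsMulCommutative S) (hOp : Cfsg.pCore p G = ⊥) :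
    ∃ g : G, (S : Subgroup G) ⊓ MulAut.conj g • (S : Subgroup G) = ⊥ := by
  classical
  have : Nonempty (Sylow p G) := inferInstance
  obtain ⟨g, -, hmin⟩ := (Set.toFinite (Set.univ : Set G)).exists_minimalFor
    (fun g => ((S : Subgroup G) ⊓ MulAut.conj g • (S : Subgroup G) : Subgroup G)) _ Set.univ_nonempty
  refine ⟨g, ?_⟩
  set T : Subgroup G := MulAut.conj g • (S : Subgroup G) with hT
  set D : Subgroup G := (S : Subgroup G) ⊓ T with hD
  have hTeq : T = ((g • S : Sylow p G) : Subgroup G) := rfl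
  have hTc : IsMulCommutative T := by
    refine ⟨⟨fun a b => Subtype.ext ?_⟩⟩
    have ha := a.2; have hb := b.2
    simp only [hT, Subgroup.mem_pointwise_smul_iff_inv_smul_mem] at ha hb
    have := setLike_mul_comm ha hb
    simp only [← map_mul, MulAut.smul_def] at this
    exact (MulAut.conj g)⁻¹.injective this
  let C := Subgroup.centralizer (D : Set G)
  have hTC : T ≤ C := fun t ht => Subgroup.mem_centralizer_iff.mpr fun d hd =>
    setLike_mul_comm (Subgroup.mem_inf.mp hd).2 ht
  have key : ∀ R : Sylow p G, D ≤ (R : Subgroup G) := by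
    intro R
    have hTC' : ((g • S : Sylow p G) : Subgroup G) ≤ C := hTC
    obtain ⟨T', hle⟩ := (R.isPGroup'.comap_subtype (K := C)).exists_le_sylow
    obtain ⟨c, hcT⟩ := MulAction.exists_smul_eq C T' ((g • S).subtype hTC')
    have hsub : ∀ x ∈ (R : Subgroup G), x ∈ C → (c : G) * x * (c : G)⁻¹ ∈ T := by
      intro x hx hxC
      have h1 : (⟨x, hxC⟩ : C) ∈ T' := hle hx
      have h2 : c * ⟨x, hxC⟩ * c⁻¹ ∈ (c • T' : Sylow p C) := by
        change _ ∈ MulAut.conj c • (T' : Subgroup C)
        rw [Subgroup.mem_pointwise_smul_iff_inv_smul_mem]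
        simp [MulAut.smul_def, mul_assoc]
        exact h1
      rw [hcT] at h2
      exact h2
    have hR' : ((c : G) • R : Sylow p G) = ((c : G) • R) := rfl
    obtain ⟨r, hr⟩ := MulAction.exists_smul_eq G S ((c : G) • R)
    have hle1 : (S : Subgroup G) ⊓ MulAut.conj r • (S : Subgroup G) ≤ D := by
      intro x hx
      obtain ⟨hxS, hxR⟩ := Subgroup.mem_inf.mp hx
      refine Subgroup.mem_inf.mpr ⟨hxS, ?_⟩
      have hxR' : x ∈ ((c : G) • R : Sylow p G) := by rw [← hr]; exact hxR
      change x ∈ MulAut.conj (c : G) • (R : Subgroup G) at hxR'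
      rw [Subgroup.mem_pointwise_smul_iff_inv_smul_mem] at hxR'
      have hy : (c : G)⁻¹ * x * (c : G) ∈ (R : Subgroup G) := by
        simpa [MulAut.smul_def, mul_assoc] using hxR'
      have hxC : x ∈ C := Subgroup.mem_centralizer_iff.mpr fun d hd =>
        setLike_mul_comm (Subgroup.mem_inf.mp hd).1 hxS
      have := hsub _ hy (mul_mem (mul_mem (inv_mem c.2) hxC) c.2)
      simpa [mul_assoc] using this
    have hge := hmin (Set.mem_univ r) hle1
    intro d hd
    have hdR : d ∈ MulAut.conj r • (S : Subgroup G) := (Subgroup.mem_inf.mp (hge hd)).2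
    have hdR' : d ∈ ((c : G) • R : Sylow p G) := by rw [← hr]; exact hdR
    change d ∈ MulAut.conj (c : G) • (R : Subgroup G) at hdR'
    rw [Subgroup.mem_pointwise_smul_iff_inv_smul_mem] at hdR'
    have hcd : (c : G)⁻¹ * d * (c : G) = d := by
      rw [mul_assoc, ← (Subgroup.mem_centralizer_iff.mp c.2 d hd).symm, ← mul_assoc]
      simp
    simpa [MulAut.smul_def, mul_assoc, hcd] using hdR'
  have hcl : Subgroup.normalClosure (D : Set G) ≤ Cfsg.pCore p G := by
    refine Cfsg.Agent.Lib.PSolvable.le_pCore (S.isPGroup'.to_le ?_)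
    refine (Subgroup.closure_le _).mpr ?_
    intro x hx
    rw [Group.mem_conjugatesOfSet_iff] at hx
    obtain ⟨d, hd, hxd⟩ := hx
    obtain ⟨a, rfl⟩ := isConj_iff.mp hxd
    have := key (a⁻¹ • S) hd
    change d ∈ MulAut.conj a⁻¹ • (S : Subgroup G) at this
    rw [Subgroup.mem_pointwise_smul_iff_inv_smul_mem] at this
    simp [MulAut.smul_def, mul_assoc] at this ⊢
    exact this
  rw [hOp, le_bot_iff] at hcl
  exact eq_bot_iff.mpr fun x hx => hcl ▸ Subgroup.subset_normalClosure hx

end Cfsg.Agent.S0060
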