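import Cfsg.Statements.S0063
import Mathlib
-- import your own Cfsg.Agent.* helpers here

set_option autoImplicit false
open Cfsg

namespace Cfsg.Agent.S0063

/-- A finite group of prime-power order p ^ m with m > 1 is nilpotent of class at most m - 1. -/
theorem result {G : Type*} [Group G] [Finite G] (p m : ℕ) [Fact p.Prime]
    (hG : Nat.card G = p ^ m) (hm : 1 < m) : Group.nilpotencyClass G ≤ m - 1 := by
  suffices key : ∀ (k : ℕ) (H : Type _) [Group H] [Finite H], Nat.card H = p ^ k →
      Group.nilpotencyClass H ≤ max 1 (k - 1) by
    have := key m G hG
    omega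
  intro k
  induction k using Nat.strong_induction_on with
  | _ k ih =>
    intro H _ _ hH
    have hP : IsPGroup p H := IsPGroup.of_card hH
    have hnil : Group.IsNilpotent H := hP.isNilpotent
    by_cases hab : ∀ a b : H, a * b = b * a
    · letI : CommGroup H := { ‹Group H› with mul_comm := hab }
      exact le_trans CommGroup.nilpotencyClass_le_one (le_max_left _ _)
    have : Nontrivial H := by
      by_contra hs
      rw [not_nontrivial_iff_subsingleton] at hs
      exact hab fun a b => Subsingleton.elim _ _
    obtain ⟨j, hj⟩ := (hP.to_quotient (Subgroup.center H)).exists_card_eq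
    obtain ⟨z, hz⟩ := (hP.to_subgroup (Subgroup.center H)).exists_card_eq
    have hmul := Subgroup.card_eq_card_quotient_mul_card_subgroup (Subgroup.center H)
    rw [hH, hj, hz, ← pow_add] at hmul
    have hk : k = j + z := Nat.pow_right_injective (Fact.out : p.Prime).two_le hmul
    have hz0 : z ≠ 0 := by
      rintro rfl
      exact not_subsingleton_iff_nontrivial.mpr hP.center_nontrivial
        (Finite.card_le_one_iff_subsingleton.mp (by simp [hz]))
    have hj2 : 2 ≤ j := by
      by_contra hlt
      have hcyc : IsCyclic (H ⧸ Subgroup.center H) := by
        interval_cases j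
        · have := Finite.card_le_one_iff_subsingleton.mp (le_of_eq (hj.trans (pow_zero p)))
          infer_instance
        · exact isCyclic_of_prime_card (p := p) (hj.trans (pow_one p))
      exact hab fun a b => ((QuotientGroup.mk' (Subgroup.center H)).isMulCommutative_of_isCyclic_of_ker_le_center
        (le_of_eq (QuotientGroup.ker_mk' _))).is_comm.comm a b
    have hq := ih j (by omega) (H ⧸ Subgroup.center H) hj
    rw [Group.nilpotencyClass_eq_quotient_center_plus_one]
    omega

end Cfsg.Agent.S0063
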