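import Cfsg.Statements.S0064
import Mathlib
-- import your own Cfsg.Agent.* helpers here

set_option autoImplicit false
open Cfsg

namespace Cfsg.Agent.S0064

/-- A finite group is nilpotent exactly when each of its subgroups is subnormal. -/
theorem result {G : Type*} [Group G] [Finite G] :
    Group.IsNilpotent G ↔ ∀ H : Subgroup G, H.IsSubnormal := by
  constructor
  · intro hnil H
    induction H using WellFoundedGT.induction with
    | _ H ih =>
      rcases eq_or_ne H ⊤ with rfl | hne
      · exact Subgroup.IsSubnormal.top
      · have hlt : H < Subgroup.normalizer (H : Set G) :=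
          Group.normalizerCondition_of_isNilpotent H (lt_top_iff_ne_top.mpr hne)
        exact .step H _ hlt.le (ih _ hlt) (Subgroup.normal_subgroupOf_of_le_normalizer le_rfl)
  · intro h
    refine ((Group.isNilpotent_of_finite_tfae (G := G)).out 0 1).mpr fun H hH => ?_
    rcases Subgroup.IsSubnormal.iff_eq_top_or_exists.mp (h H) with rfl | ⟨K, hlt, hK, hn⟩
    · exact absurd hH (lt_irrefl _)
    · exact lt_of_lt_of_le hlt ((Subgroup.normal_subgroupOf_iff_le_normalizer hlt.le).mp hn)

end Cfsg.Agent.S0064
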