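import Cfsg.Statements.S0065
import Mathlib
-- import your own Cfsg.Agent.* helpers here

set_option autoImplicit false
open Cfsg

namespace Cfsg.Agent.S0065

/-- A nontrivial normal subgroup of a nilpotent group intersects the centre nontrivially. -/
theorem result {G : Type*} [Group G] [Finite G] [Group.IsNilpotent G]
    (N : Subgroup G) [N.Normal] (hN : N ≠ ⊥) : N ⊓ Subgroup.center G ≠ ⊥ := by
  intro hbot
  apply hN
  have key : ∀ i, N ⊓ Subgroup.upperCentralSeries G i = ⊥ := by
    intro i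
    induction i with
    | zero => rw [Subgroup.upperCentralSeries_zero, inf_bot_eq]
    | succ i ih =>
      rw [eq_bot_iff, ← hbot]
      intro x hx
      obtain ⟨hxN, hxZ⟩ := Subgroup.mem_inf.mp hx
      refine Subgroup.mem_inf.mpr ⟨hxN, Subgroup.mem_center_iff.mpr fun y => ?_⟩
      rw [Subgroup.mem_upperCentralSeries_succ_iff] at hxZ
      have h1 : x * y * x⁻¹ * y⁻¹ ∈ N := by
        have : x * y * x⁻¹ * y⁻¹ = x * (y * x⁻¹ * y⁻¹) := by group
        rw [this]
        exact mul_mem hxN (Subgroup.Normal.conj_mem inferInstance _ (inv_mem hxN) y)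
      have h2 : x * y * x⁻¹ * y⁻¹ ∈ (⊥ : Subgroup G) := ih ▸ Subgroup.mem_inf.mpr ⟨h1, hxZ y⟩
      rw [Subgroup.mem_bot, mul_inv_eq_one, mul_inv_eq_iff_eq_mul] at h2
      exact h2.symm
  obtain ⟨n, hn⟩ := Group.IsNilpotent.nilpotent G
  simpa [hn] using key n

end Cfsg.Agent.S0065
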