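import Cfsg.Statements.S0067
import Cfsg.Agent.Lib.Core.Fitting
import Cfsg.Agent.Lib.Involution.BaerSuzuki
-- import your own Cfsg.Agent.* helpers here

set_option autoImplicit false
open Pointwise
open Cfsg

namespace Cfsg.Agent.S0067

/-- If the join of a subgroup A with each of its conjugates is nilpotent, then A is subnormal in the finite group and contained in the Fitting subgroup. -/
theorem result {G : Type*} [Group G] [Finite G] (A : Subgroup G)
    (h : ∀ g : G, Group.IsNilpotent (A ⊔ MulAut.conj g • A : Subgroup G)) : A.IsSubnormal ∧ A ≤ Cfsg.fittingSubgroup G := by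
  classical
  have hA : Group.IsNilpotent A := by
    have := h 1
    exact (Group.isNilpotent_congr (Subgroup.subgroupOfEquivOfLe (le_sup_left :
      A ≤ A ⊔ MulAut.conj (1 : G) • A))).mp inferInstance
  have hle : A ≤ Cfsg.fittingSubgroup G := by
    rw [← Subgroup.subgroupOf_eq_top]
    refine Cfsg.Agent.Lib.Fitting.eq_top_of_sylow_le fun p hp => ?_
    have := Fact.mk hp
    let P : Sylow p A := default
    refine ⟨P, fun x hx => ?_⟩
    let X : Subgroup G := (P : Subgroup A).map A.subtype
    obtain ⟨N, hN, hNp, hXN⟩ := Cfsg.Agent.Lib.Involution.baer_suzuki (p := p) X (fun g => by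
      have hJ := h g
      set J : Subgroup G := A ⊔ MulAut.conj g • A with hJdef
      have hXJ : X ≤ J := (Subgroup.map_subtype_le _).trans le_sup_left
      have hYJ : X.map (MulAut.conj g).toMonoidHom ≤ J := by
        rintro _ ⟨y, hy, rfl⟩
        refine Subgroup.mem_sup_right ?_
        rw [Subgroup.mem_pointwise_smul_iff_inv_smul_mem]
        simpa [MulAut.smul_def, mul_assoc] using Subgroup.map_subtype_le _ hy
      have hXp : IsPGroup p X := P.isPGroup'.map _
      have hYp : IsPGroup p (X.map (MulAut.conj g).toMonoidHom) := hXp.map _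
      obtain ⟨S, hS⟩ := (hXp.comap_subtype (K := J)).exists_le_sylow
      obtain ⟨T, hT⟩ := (hYp.comap_subtype (K := J)).exists_le_sylow
      have hSn : (S : Subgroup J).Normal := inferInstance
      have := Sylow.unique_of_normal S hSn
      obtain rfl : T = S := Subsingleton.elim _ _
      refine (T.isPGroup'.map J.subtype).to_le (sup_le ?_ ?_)
      · exact fun y hy => ⟨⟨y, hXJ hy⟩, hS hy, rfl⟩
      · exact fun y hy => ⟨⟨y, hYJ hy⟩, hT hy, rfl⟩)
    have := hN
    exact Cfsg.Agent.Lib.Fitting.le_fittingSubgroup hNp.isNilpotent (hXN ⟨x, hx, rfl⟩)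
  refine ⟨?_, hle⟩
  have hFn : (Cfsg.fittingSubgroup G).Normal := Cfsg.Agent.Lib.Fitting.fittingSubgroup_normal
  have hF := Cfsg.Agent.Lib.Fitting.isNilpotent_fittingSubgroup (G := G)
  refine Subgroup.IsSubnormal.trans hle ?_ hFn.isSubnormal
  have key : ∀ H : Subgroup (Cfsg.fittingSubgroup G), H.IsSubnormal := by
    intro H
    induction H using WellFoundedGT.induction with
    | _ H ih =>
      rcases eq_or_ne H ⊤ with rfl | hne
      · exact Subgroup.IsSubnormal.top
      · have hlt : H < Subgroup.normalizer (H : Set (Cfsg.fittingSubgroup G)) :=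
          Group.normalizerCondition_of_isNilpotent H (lt_top_iff_ne_top.mpr hne)
        exact .step H _ hlt.le (ih _ hlt) (Subgroup.normal_subgroupOf_of_le_normalizer le_rfl)
  exact key _

end Cfsg.Agent.S0067
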