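import Cfsg.Statements.S0068
import Cfsg.Agent.Lib.Frobenius.Even
-- import your own Cfsg.Agent.* helpers here

set_option autoImplicit false
open Cfsg

namespace Cfsg.Agent.S0068

/-- Frobenius complements of even order: if H complements a nontrivial normal subgroup K, each nonidentity element of H has trivial centraliser in K, and H has even order, then H contains a unique involution s, K is abelian, and s inverts every element of K. -/
theorem result {G : Type*} [Group G] [Finite G] (K H : Subgroup G) [K.Normal]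
    (hc : Subgroup.IsComplement' K H) (hK : K ≠ ⊥) (hfpf : ∀ h ∈ H, h ≠ 1 → K ⊓ Subgroup.centralizer {h} = ⊥)
    (heven : 2 ∣ Nat.card H) :
    (∃ s ∈ H, orderOf s = 2 ∧ (∀ t ∈ H, orderOf t = 2 → t = s) ∧ ∀ k ∈ K, s * k * s⁻¹ = k⁻¹) ∧ IsMulCommutative K := by
  classical
  have hH : H ≠ ⊥ := by
    rintro rfl
    simp at heven
  have hF := Cfsg.Agent.Lib.Frobenius.isFrobeniusComplement_of_fpf hc hK hH hfpf
  obtain ⟨⟨s, hs⟩, hso⟩ := exists_prime_orderOf_dvd_card' (G := H) 2 heven
  have hso' : orderOf s = 2 := by rw [← hso, Subgroup.orderOf_mk]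
  have hs2 : s * s = 1 := by rw [← pow_two, ← hso', pow_orderOf_eq_one]
  have hs1 : s ≠ 1 := fun e => by rw [e, orderOf_one] at hso'; exact absurd hso' (by norm_num)
  have hfix : MonoidHom.FixedPointFree ((MulAut.conjNormal s : MulAut K) : K → K) := by
    intro k hk
    have e : s * (k : G) * s⁻¹ = k := by
      rw [← MulAut.conjNormal_apply]; exact congrArg Subtype.val hk
    have hm : (k : G) ∈ K ⊓ Subgroup.centralizer {s} :=
      Subgroup.mem_inf.mpr ⟨k.2, Subgroup.mem_centralizer_singleton_iff.mpr
        (eq_mul_inv_iff_mul_eq.mp e.symm)⟩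
    rw [hfpf s hs hs1, Subgroup.mem_bot] at hm
    exact Subtype.ext hm
  have hinv : Function.Involutive ((MulAut.conjNormal s : MulAut K) : K → K) := by
    intro k
    apply Subtype.ext
    rw [MulAut.conjNormal_apply, MulAut.conjNormal_apply]
    calc s * (s * (k : G) * s⁻¹) * s⁻¹ = (s * s) * (k : G) * (s * s)⁻¹ := by group
      _ = k := by rw [hs2]; group
  have hinvert := hfix.coe_eq_inv_of_involutive hinv
  refine ⟨⟨s, hs, hso', fun t ht hto => ?_, fun k hk => ?_⟩,
    ⟨⟨fun a b => (hfix.commute_all_of_involutive hinv a b).eq⟩⟩⟩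
  · refine Cfsg.Agent.Lib.Frobenius.involution_unique hF ht ?_ ?_ hs hs1 hs2
    · exact fun e => by rw [e, orderOf_one] at hto; exact absurd hto (by norm_num)
    · rw [← pow_two, ← hto, pow_orderOf_eq_one]
  · have h := congrFun hinvert ⟨k, hk⟩
    have h' := congrArg (fun x : K => (x : G)) h
    simpa [MulAut.conjNormal_apply] using h'

end Cfsg.Agent.S0068
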