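import Cfsg.Statements.S0073
import Cfsg.Agent.Lib.Transfer.SmallSylow

set_option autoImplicit false
open Cfsg

namespace Cfsg.Agent.S0073

/-- For a finite non-abelian simple group, either the cube of the least prime divisor of the order divides the order, or 12 does. -/
theorem result {G : Type*} [Group G] [Finite G] [IsSimpleGroup G] (hG : ∃ x y : G, x * y ≠ y * x) : (Nat.card G).minFac ^ 3 ∣ Nat.card G ∨ 12 ∣ Nat.card G := by
  set p := (Nat.card G).minFac with hpdef
  have hne : Nat.card G ≠ 1 := fun h => by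
    haveI := (Nat.card_eq_one_iff_unique.mp h).1
    obtain ⟨x, y, hxy⟩ := hG
    exact hxy (Subsingleton.elim _ _)
  haveI hp : Fact p.Prime := ⟨Nat.minFac_prime hne⟩
  by_contra! hcon
  obtain ⟨h3, h12⟩ := hcon
  let P : Sylow p G := default
  obtain ⟨k, hk⟩ := IsPGroup.iff_card.mp P.2
  have hkd : p ^ k ∣ Nat.card G := hk ▸ Subgroup.card_subgroup_dvd_card _
  have hk2 : k ≤ 2 := by
    by_contra! hk3
    exact h3 ((pow_dvd_pow p hk3).trans hkd)
  have hP : IsMulCommutative P := by
    interval_cases k
    · rw [pow_zero] at hk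
      haveI := (Nat.card_eq_one_iff_unique.mp hk).1
      exact ⟨⟨fun a b => Subsingleton.elim _ _⟩⟩
    · haveI := isCyclic_of_prime_card (hk.trans (pow_one p))
      exact IsCyclic.isMulCommutative
    · exact IsPGroup.isMulCommutative_of_card_eq_prime_sq hk
  refine Lib.Transfer.not_hasNormalPComplement_of_isSimpleGroup hG (Nat.minFac_dvd _)
    (Lib.Transfer.hasNormalPComplement_of_forall_prime P hP hk fun r hr hrd hrp i hi hik hri => ?_)
  have hle : p ≤ r := Nat.minFac_le_of_dvd hr.two_le hrd
  have hlt : p < r := lt_of_le_of_ne hle (Ne.symm hrp)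
  have h2p := hp.out.two_le
  have hi2 : i ≤ 2 := hik.trans hk2
  interval_cases i
  · rw [pow_one] at hri
    have := Nat.le_of_dvd (by omega) hri
    omega
  · rw [show p ^ 2 - 1 = (p + 1) * (p - 1) by
      simpa using Nat.sq_sub_sq p 1] at hri
    rcases hr.dvd_mul.mp hri with h | h
    · have hr' : r = p + 1 := le_antisymm (Nat.le_of_dvd (by omega) h) hlt
      have hp2 : p = 2 := by
        rcases hp.out.eq_two_or_odd' with h2 | hodd
        · exact h2
        · obtain ⟨m, hm⟩ := hodd
          have h2r : 2 ∣ r := ⟨m + 1, by omega⟩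
          have := (Nat.prime_dvd_prime_iff_eq Nat.prime_two hr).mp h2r
          omega
      have hk' : k = 2 := le_antisymm hk2 hik
      subst hk'
      rw [hp2] at hr' hkd
      subst hr'
      exact h12 (Nat.Coprime.mul_dvd_of_dvd_of_dvd (by decide : Nat.Coprime (2 ^ 2) (2 + 1)) hkd hrd)
    · have := Nat.le_of_dvd (by omega) h
      omega

end Cfsg.Agent.S0073
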