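import Cfsg.Statements.S0076
import Cfsg.Agent.Lib.Transfer.Fusion

set_option autoImplicit false
open Cfsg

namespace Cfsg.Agent.S0076

/-- Two P-invariant subsets of a Sylow p-subgroup P that are conjugate in G are conjugate under the normalizer of P. -/
theorem result {G : Type*} [Group G] [Finite G] {p : ℕ} [Fact p.Prime] (P : Sylow p G) (X Y : Set G) (hXP : X ⊆ P) (hYP : Y ⊆ P) (hX : ∀ x ∈ P, (fun y => x * y * x⁻¹) '' X = X) (hY : ∀ x ∈ P, (fun y => x * y * x⁻¹) '' Y = Y) (g : G) (hg : (fun y => g * y * g⁻¹) '' X = Y) : ∃ n ∈ Subgroup.normalizer (P : Set G), (fun y => n * y * n⁻¹) '' X = Y := by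
  have hstab : ∀ {Z : Set G}, (∀ x ∈ P, (fun y => x * y * x⁻¹) '' Z = Z) →
      (P : Subgroup G) ≤ Subgroup.normalizer Z := by
    intro Z hZ x hx
    rw [Subgroup.mem_set_normalizer_iff]
    intro h
    constructor
    · intro hh
      rw [← hZ x hx]
      exact ⟨h, hh, rfl⟩
    · intro hh
      rw [← hZ x hx] at hh
      obtain ⟨z, hz, he⟩ := hh
      simp only [mul_left_inj, mul_right_inj] at he
      exact he ▸ hz
  have h2 : (P : Subgroup G).map (MulAut.conj g).toMonoidHom ≤ Subgroup.normalizer Y := by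
    rintro _ ⟨x, hx, rfl⟩
    have hxX := Subgroup.mem_set_normalizer_iff.mp (hstab hX hx)
    rw [Subgroup.mem_set_normalizer_iff]
    intro h
    rw [← hg]
    simp only [Set.mem_image, MulEquiv.coe_toMonoidHom, MulAut.conj_apply]
    constructor
    · rintro ⟨z, hz, rfl⟩
      exact ⟨x * z * x⁻¹, (hxX z).mp hz, by group⟩
    · rintro ⟨z, hz, he⟩
      refine ⟨x⁻¹ * z * x, (hxX _).mpr (by simpa [mul_assoc] using hz), ?_⟩
      have e : h = (g * x * g⁻¹)⁻¹ * (g * z * g⁻¹) * (g * x * g⁻¹) := by rw [he]; group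
      rw [e]; group
  obtain ⟨c, hc, hn⟩ := Lib.Transfer.exists_mul_mem_normalizer_of_weaklyClosed P
    (Lib.Transfer.isWeaklyClosed_sylow P) _ g (hstab hY) h2
  refine ⟨c * g, hn, ?_⟩
  have hcY := Subgroup.mem_set_normalizer_iff.mp hc
  ext z
  simp only [Set.mem_image]
  constructor
  · rintro ⟨x, hx, rfl⟩
    have := (hcY (g * x * g⁻¹)).mp (hg ▸ ⟨x, hx, rfl⟩)
    simpa [mul_assoc] using this
  · intro hz
    have := (hcY (c⁻¹ * z * c)).mpr (by simpa [mul_assoc] using hz)
    rw [← hg] at this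
    obtain ⟨x, hx, he⟩ := this
    refine ⟨x, hx, ?_⟩
    have e : z = c * (g * x * g⁻¹) * c⁻¹ := by simp only at he; rw [he]; group
    rw [e]; group

end Cfsg.Agent.S0076
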