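import Cfsg.Statements.S0078
import Cfsg.Agent.Lib.Transfer.Criteria

set_option autoImplicit false
open Cfsg

namespace Cfsg.Agent.S0078

/-- In a p-normal group, a Sylow p-subgroup P meets O^p(G) exactly where it meets O^p(V), for any subgroup V containing the normalizer of the centre of P. -/
theorem result {G : Type*} [Group G] [Finite G] {p : ℕ} [Fact p.Prime] (P : Sylow p G) (hn : ∀ Q : Sylow p G, (P : Subgroup G) ⊓ Subgroup.centralizer (P : Set G) ≤ (Q : Subgroup G) → (Q : Subgroup G) ⊓ Subgroup.centralizer (Q : Set G) = (P : Subgroup G) ⊓ Subgroup.centralizer (P : Set G)) (V : Subgroup G) (hV : Subgroup.normalizer (((P : Subgroup G) ⊓ Subgroup.centralizer (P : Set G) : Subgroup G) : Set G) ≤ V) : (P : Subgroup G) ⊓ Cfsg.pResidual p G = (P : Subgroup G) ⊓ (Cfsg.pResidual p V).map V.subtype := by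
  set Z := (P : Subgroup G) ⊓ Subgroup.centralizer (P : Set G) with hZdef
  have hW : Cfsg.IsWeaklyClosed Z (P : Subgroup G) := by
    refine ⟨inf_le_left, fun g hg => ?_⟩
    have hmem : ∀ x : G, x ∈ ((g⁻¹ • P : Sylow p G) : Subgroup G) ↔ g * x * g⁻¹ ∈ P := by
      intro x
      rw [Lib.Transfer.sylow_smul_coe, Lib.Transfer.mem_map_conj, inv_inv]
      rfl
    have hle : Z ≤ ((g⁻¹ • P : Sylow p G) : Subgroup G) := fun z hz =>
      (hmem z).mpr (hg ⟨z, hz, rfl⟩)
    have key : Z.map (MulAut.conj g⁻¹).toMonoidHom =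
        ((g⁻¹ • P : Sylow p G) : Subgroup G) ⊓
          Subgroup.centralizer ((g⁻¹ • P : Sylow p G) : Set G) := by
      ext x
      rw [Lib.Transfer.mem_map_conj, inv_inv]
      simp only [hZdef, Subgroup.mem_inf, Subgroup.mem_centralizer_iff]
      constructor
      · rintro ⟨h1, h2⟩
        refine ⟨(hmem x).mpr h1, fun h hh => ?_⟩
        have h3 := h2 _ ((hmem h).mp hh)
        calc h * x = g⁻¹ * (g * h * g⁻¹ * (g * x * g⁻¹)) * g := by group
          _ = g⁻¹ * (g * x * g⁻¹ * (g * h * g⁻¹)) * g := by rw [h3]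
          _ = x * h := by group
      · rintro ⟨h1, h2⟩
        refine ⟨(hmem x).mp h1, fun h hh => ?_⟩
        have h3 := h2 (g⁻¹ * h * g) ((hmem _).mpr (by simpa [mul_assoc] using hh))
        calc h * (g * x * g⁻¹) = g * (g⁻¹ * h * g * x) * g⁻¹ := by group
          _ = g * (x * (g⁻¹ * h * g)) * g⁻¹ := by rw [h3]
          _ = g * x * g⁻¹ * h := by group
    rw [hn _ hle, Lib.Transfer.map_conj_eq_iff] at key
    exact Lib.Transfer.map_conj_eq_iff.mpr (by simpa using inv_mem key)
  have hPV : (P : Subgroup G) ≤ V :=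
    (Lib.Transfer.sylow_le_normalizer_of_le_centralizer hW.1 inf_le_right).trans hV
  refine Lib.Transfer.pResidual_inf_sylow_eq_of_control P hPV fun x hx g hg => ?_
  obtain ⟨n, hn', h⟩ := Lib.Transfer.control_normalizer_of_weaklyClosed P inf_le_right hW {x}
    (by simpa using hx) g (fun y hy => by rw [Set.mem_singleton_iff.mp hy]; exact hg)
  exact ⟨n, hV hn', h x rfl⟩

end Cfsg.Agent.S0078
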