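import Cfsg.Statements.S0079
import Cfsg.Agent.Lib.Transfer.Hall

set_option autoImplicit false
open Cfsg

namespace Cfsg.Agent.S0079

/-- A nilpotent Hall subgroup has a normal complement exactly when elements of it that are conjugate in the whole group are already conjugate inside it. -/
theorem result {G : Type*} [Group G] [Finite G] (H : Subgroup G) (hH : Group.IsNilpotent H) (hHall : Nat.Coprime (Nat.card H) H.index) : (∃ N : Subgroup G, N.Normal ∧ N.IsComplement' H) ↔ ∀ x ∈ H, ∀ y ∈ H, (∃ g : G, g * x * g⁻¹ = y) → ∃ h ∈ H, h * x * h⁻¹ = y := by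
  constructor
  · rintro ⟨N, hN, hc⟩ x hx y hy ⟨g, hg⟩
    obtain ⟨⟨⟨n, hn⟩, ⟨h, hh⟩⟩, he⟩ := hc.2 g
    simp only at he
    refine ⟨h, hh, ?_⟩
    have h1 : (h * x * h⁻¹)⁻¹ * (n * (h * x * h⁻¹) * n⁻¹) ∈ N ⊓ H := by
      refine ⟨?_, H.mul_mem (H.inv_mem (H.mul_mem (H.mul_mem hh hx) (H.inv_mem hh))) ?_⟩
      · have := mul_mem (hN.conj_mem n hn (h * x * h⁻¹)⁻¹) (inv_mem hn)
        simpa [mul_assoc] using this
      · have e : n * (h * x * h⁻¹) * n⁻¹ = y := by rw [← hg, ← he]; group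
        rw [e]; exact hy
    rw [hc.disjoint.eq_bot, Subgroup.mem_bot, inv_mul_eq_one] at h1
    rw [← hg, ← he, h1]; group
  · intro h
    haveI := hH
    refine Lib.Transfer.exists_normal_complement_of_control H hHall
      (fun p hp => haveI := Fact.mk hp; Lib.Transfer.hasNormalPComplement_of_isNilpotent)
      fun x hx g hg => ?_
    exact h x hx _ hg ⟨g, rfl⟩

end Cfsg.Agent.S0079
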