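import Cfsg.Statements.S0082
import Cfsg.Agent.Lib.Transfer.SmallSylow

set_option autoImplicit false
open Cfsg

namespace Cfsg.Agent.S0082

/-- With a cyclic Sylow p-subgroup, either there is a normal p-complement or the elements of order prime to p generate the whole group. -/
theorem result {G : Type*} [Group G] [Finite G] {p : ℕ} [Fact p.Prime] (P : Sylow p G) (hP : IsCyclic P) : Cfsg.HasNormalPComplement p G ∨ Cfsg.pResidual p G = ⊤ := by
  have hPc : IsMulCommutative P := hP.isMulCommutative
  obtain ⟨_, h2, h3⟩ := Lib.Transfer.abelian_sylow_normalizer P hPc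
  have hle := Lib.Transfer.sylow_inf_pResidual_of_isMulCommutative P hPc
  set N := Subgroup.normalizer ((P : Subgroup G) : Set G)
  set C := (P : Subgroup G) ⊓ Subgroup.centralizer (N : Set G)
  have hcP : ⁅(P : Subgroup G), N⁆ ≤ (P : Subgroup G) :=
    Subgroup.le_normalizer_iff_commutator_le_left.mp le_rfl
  have hz : (⁅(P : Subgroup G), N⁆.subgroupOf (P : Subgroup G)) ⊓
      (C.subgroupOf (P : Subgroup G)) = ⊥ := by
    show Subgroup.comap _ _ ⊓ Subgroup.comap _ _ = _
    rw [← Subgroup.comap_inf, h2, MonoidHom.comap_bot]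
    exact (MonoidHom.ker_eq_bot_iff _).mpr (Subgroup.subtype_injective _)
  haveI := hP
  rcases Lib.Transfer.eq_bot_or_eq_bot_of_isCyclic P.2 _ _ hz with h | h
  · left
    have hb : ⁅(P : Subgroup G), N⁆ = ⊥ := by
      rw [← Subgroup.map_subgroupOf_eq_of_le hcP, h, Subgroup.map_bot]
    refine Lib.Transfer.hasNormalPComplement_of_normalizer_le_centralizer P ?_
    rw [← Subgroup.le_centralizer_iff]
    exact Subgroup.commutator_eq_bot_iff_le_centralizer.mp hb
  · right
    have hb : C = ⊥ := by
      rw [← Subgroup.map_subgroupOf_eq_of_le (show C ≤ (P : Subgroup G) from inf_le_left), h,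
        Subgroup.map_bot]
    rw [hb, sup_bot_eq, ← hle] at h3
    have := Lib.Transfer.pResidual_sup_sylow P
    rwa [sup_eq_left.mpr (inf_eq_left.mp h3)] at this

end Cfsg.Agent.S0082
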