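import Cfsg.Statements.S0083
import Cfsg.Agent.Lib.Transfer.Abelian

set_option autoImplicit false
open Cfsg

namespace Cfsg.Agent.S0083

/-- For an abelian Sylow p-subgroup P, a normal p-complement exists exactly when the normalizer of P is an internal direct product of P with some subgroup. -/
theorem result {G : Type*} [Group G] [Finite G] {p : ℕ} [Fact p.Prime] (P : Sylow p G) (hP : IsMulCommutative P) : Cfsg.HasNormalPComplement p G ↔ ∃ Q : Subgroup G, Q ≤ Subgroup.centralizer (P : Set G) ∧ Q ⊓ (P : Subgroup G) = ⊥ ∧ Q ⊔ (P : Subgroup G) = Subgroup.normalizer (P : Set G) := by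
  constructor
  · intro h
    set N := Subgroup.normalizer ((P : Subgroup G) : Set G)
    have hPN : (P : Subgroup G) ≤ N := Subgroup.le_normalizer
    have hN := Lib.Transfer.hasNormalPComplement_subgroup h N
    set S : Sylow p N := P.subtype hPN
    have hd := (Lib.Transfer.hasNormalPComplement_iff_inf_eq_bot S).mp hN
    haveI hSn : (S : Subgroup N).Normal :=
      (Subgroup.normal_subgroupOf_iff_le_normalizer hPN).mpr le_rfl
    have hcomm := fun a b => Subgroup.commute_of_normal_of_disjoint _ _
      (Lib.Transfer.pResidual_normal (G := N) (p := p)) hSn (disjoint_iff.mpr hd) a b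
    refine ⟨(Cfsg.pResidual p N).map N.subtype, ?_, ?_, ?_⟩
    · rintro _ ⟨q, hq, rfl⟩
      rw [Subgroup.mem_centralizer_iff]
      intro x hx
      exact (congrArg Subtype.val (hcomm q ⟨x, hPN hx⟩ hq hx)).symm
    · rw [← Lib.Transfer.map_inf_eq_of_le, ← Sylow.coe_subtype P hPN, hd, Subgroup.map_bot]
    · rw [← Subgroup.map_subgroupOf_eq_of_le hPN, ← Subgroup.map_sup, ← Sylow.coe_subtype P hPN,
        Lib.Transfer.pResidual_sup_sylow S, ← MonoidHom.range_eq_map, Subgroup.range_subtype]
      rfl
  · rintro ⟨Q, hQ, _, hQP⟩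
    refine Lib.Transfer.hasNormalPComplement_of_normalizer_le_centralizer P ?_
    show Subgroup.normalizer (P : Set G) ≤ _
    rw [← hQP]
    exact sup_le hQ (Lib.Transfer.le_centralizer_of_isMulCommutative hP le_rfl)

end Cfsg.Agent.S0083
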