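import Cfsg.Statements.S0084
import Cfsg.Agent.Lib.Transfer.SmallSylow

set_option autoImplicit false
open Cfsg

namespace Cfsg.Agent.S0084

/-- A group whose Sylow 2-subgroups are Klein four-groups and whose order is prime to 3 has a normal 2-complement. -/
theorem result {G : Type*} [Group G] [Finite G] (T : Sylow 2 G) (hT : IsKleinFour T) (h3 : ¬ 3 ∣ Nat.card G) : Cfsg.HasNormalPComplement 2 G := by
  have hP : IsMulCommutative (T : Subgroup G) := by
    refine ⟨⟨fun a b => ?_⟩⟩
    have hi : ∀ x : (T : Subgroup G), x⁻¹ = x := fun x => inv_eq_of_mul_eq_one_right (by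
      have h := Monoid.pow_exponent_eq_one x
      have he : Monoid.exponent (T : Subgroup G) = 2 := hT.exponent_two
      rw [he, sq] at h
      exact h)
    have := hi (a * b)
    rw [mul_inv_rev, hi, hi] at this
    exact this.symm
  refine Lib.Transfer.hasNormalPComplement_of_forall_prime T hP (k := 2) hT.card_four
    fun r hr hrd hr2 i hi hik hri => ?_
  interval_cases i
  · exact hr.one_lt.ne' (Nat.dvd_one.mp hri)
  · exact h3 ((Nat.prime_dvd_prime_iff_eq hr Nat.prime_three).mp hri ▸ hrd)

end Cfsg.Agent.S0084
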