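import Cfsg.Statements.S0087
import Cfsg.Agent.Lib.Transfer.Hall

set_option autoImplicit false
open Cfsg

namespace Cfsg.Agent.S0087

/-- A Hall subgroup that is central in its normalizer has a normal complement. -/
theorem result {G : Type*} [Group G] [Finite G] (H : Subgroup G) (hHall : Nat.Coprime (Nat.card H) H.index) (h : Subgroup.normalizer (H : Set G) ≤ Subgroup.centralizer (H : Set G)) : ∃ N : Subgroup G, N.Normal ∧ N.IsComplement' H := by
  have hab : IsMulCommutative H :=
    ⟨⟨fun a b => Subtype.ext ((Subgroup.mem_centralizer_iff.mp (h (Subgroup.le_normalizer b.2)) a a.2))⟩⟩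
  refine Lib.Transfer.exists_normal_complement_of_control H hHall
    (fun p hp => haveI := Fact.mk hp
      haveI := hab
      Lib.Transfer.hasNormalPComplement_of_normalizer_le_centralizer default fun c _ =>
        Subgroup.mem_centralizer_iff.mpr fun s _ => mul_comm' s c)
    fun x hx g hg => ⟨1, one_mem _, ?_⟩
  set y := g * x * g⁻¹ with hy
  set C := Subgroup.centralizer ({y} : Set G) with hC
  set K := H.map (MulAut.conj g).toMonoidHom with hK
  have hHC : H ≤ C := Lib.Transfer.le_centralizer_of_isMulCommutative hab (by simpa using hg)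
  have hKC : K ≤ C := by
    refine Lib.Transfer.le_centralizer_of_isMulCommutative
      (Lib.Transfer.isMulCommutative_map_conj hab g) ?_
    simp only [Set.singleton_subset_iff, SetLike.mem_coe]
    exact ⟨x, hx, rfl⟩
  have hKn : Nat.card K = Nat.card H := Subgroup.card_map_of_injective (MulAut.conj g).injective
  obtain ⟨⟨c, hc⟩, he⟩ := Lib.Transfer.conj_of_abelian_hall (H.subgroupOf C) (K.subgroupOf C)
    (Lib.Transfer.subgroupOf_isMulCommutative hab C)
    (Lib.Transfer.subgroupOf_isMulCommutative (Lib.Transfer.isMulCommutative_map_conj hab g) C)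
    (by rw [Lib.SZ.card_subgroupOf hHC, Lib.SZ.card_subgroupOf hKC, hKn])
    (by
      rw [Lib.SZ.card_subgroupOf hHC]
      exact hHall.coprime_dvd_right (Subgroup.relIndex_dvd_index_of_le hHC))
  have he' := Lib.SZ.exists_conj_of_subgroupOf hKC hHC ⟨c, hc⟩ he
  have hcg : c * g ∈ Subgroup.normalizer (H : Set G) := by
    rw [← Lib.Transfer.map_conj_eq_iff, ← Lib.Transfer.map_conj_map_conj]
    exact he'
  have h1 := Subgroup.mem_centralizer_iff.mp (h hcg) x hx
  have h2 := Subgroup.mem_centralizer_iff.mp hc y rfl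
  have h3 : c * y * c⁻¹ = x := by
    calc c * y * c⁻¹ = (c * g) * x * (c * g)⁻¹ := by rw [hy]; group
      _ = x * (c * g) * (c * g)⁻¹ := by rw [h1]
      _ = x := by group
  calc 1 * x * (1 : G)⁻¹ = x := by group
    _ = c * y * c⁻¹ := h3.symm
    _ = y * c * c⁻¹ := by rw [h2]
    _ = y := by group

end Cfsg.Agent.S0087
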