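import Cfsg.Statements.S0089
import Cfsg.Agent.Lib.Transfer.Abelian

set_option autoImplicit false
open Cfsg

namespace Cfsg.Agent.S0089

/-- When all Sylow subgroups are abelian, the derived subgroup meets the centre trivially. -/
theorem result {G : Type*} [Group G] [Finite G] (h : ∀ p : ℕ, p.Prime → ∀ P : Sylow p G, IsMulCommutative P) : commutator G ⊓ Subgroup.center G = ⊥ := by
  rw [eq_bot_iff]
  intro x hx
  rw [Subgroup.mem_bot]
  by_contra hne
  obtain ⟨q, hq, hqd⟩ := Nat.exists_prime_and_dvd fun h1 => hne (orderOf_eq_one_iff.mp h1)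
  haveI := Fact.mk hq
  set y := x ^ (orderOf x / q)
  have hy : orderOf y = q := by
    show orderOf (x ^ (orderOf x / q)) = q
    rw [orderOf_pow_of_dvd (Nat.div_pos (Nat.le_of_dvd (orderOf_pos x) hqd) hq.pos).ne'
      (Nat.div_dvd_of_dvd hqd), Nat.div_div_self hqd (orderOf_pos x).ne']
  have hyp : IsPGroup q (Subgroup.zpowers y) :=
    IsPGroup.of_card (n := 1) (by rw [Nat.card_zpowers, hy, pow_one])
  obtain ⟨P, hP⟩ := hyp.exists_le_sylow
  have hb := Lib.Transfer.inf_commutator_inf_center_eq_bot (P : Subgroup G) (h q hq P)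
    P.card_coprime_index
  have hy1 : y ∈ (⊥ : Subgroup G) :=
    hb ▸ ⟨⟨hP (Subgroup.mem_zpowers y), pow_mem hx.1 _⟩, pow_mem hx.2 _⟩
  rw [Subgroup.mem_bot] at hy1
  rw [hy1, orderOf_one] at hy
  exact hq.one_lt.ne hy

end Cfsg.Agent.S0089
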