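import Cfsg.Statements.S0091
import Cfsg.Agent.Lib.Transfer.Criteria

set_option autoImplicit false
open Cfsg

namespace Cfsg.Agent.S0091

/-- If a nontrivial Sylow p-subgroup controls its own fusion then it is not contained in the derived subgroup. -/
theorem result {G : Type*} [Group G] [Finite G] {p : ℕ} [Fact p.Prime] (P : Sylow p G) (hp : p ∣ Nat.card G) (h : ∀ x ∈ P, ∀ y ∈ P, (∃ g : G, g * x * g⁻¹ = y) → ∃ z ∈ P, z * x * z⁻¹ = y) : ¬ (P : Subgroup G) ≤ commutator G := by
  intro hle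
  have hPne := P.ne_bot_of_dvd_card hp
  have he := Lib.Transfer.commutator_inf_eq_of_control P le_rfl fun x hx g hg => by
    obtain ⟨z, hz, hz'⟩ := h x hx _ hg ⟨g, rfl⟩
    exact ⟨z, hz, hz'⟩
  rw [inf_eq_right.mpr hle] at he
  obtain ⟨D, hDn, hD, hD'⟩ := Lib.Transfer.exists_normal_lt_commutator_le P.2 ⊤
    (fun ht => hPne (by
      rw [← Subgroup.range_subtype (P : Subgroup G), MonoidHom.range_eq_map, ht,
        Subgroup.map_bot]))
  have h1 : Subgroup.map (P : Subgroup G).subtype (⁅(⊤ : Subgroup (P : Subgroup G)), (⊤ : Subgroup (P : Subgroup G))⁆ : Subgroup (P : Subgroup G)) =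
      ⁅(P : Subgroup G), (P : Subgroup G)⁆ := by
    rw [Subgroup.map_commutator, ← MonoidHom.range_eq_map, Subgroup.range_subtype]
  refine hD.ne (top_le_iff.mp fun x _ => hD' ?_)
  refine (Subgroup.mem_map_iff_mem (Subgroup.subtype_injective _)).mp ?_
  rw [h1]
  exact (he.le x.2).1

end Cfsg.Agent.S0091
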