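import Cfsg.Statements.S0092
import Cfsg.Agent.Lib.Transfer.Abelian
import Cfsg.Agent.Lib.SZ.Conjugacy

set_option autoImplicit false
open Cfsg

namespace Cfsg.Agent.S0092

open scoped Pointwise in
/-- Splitting over a normal subgroup of `p`-power index without nontrivial `p`-quotient whose
Sylow `p`-subgroups are abelian. -/
theorem exists_complement {G : Type*} [Group G] [Finite G] {p : ℕ} [Fact p.Prime] (K : Subgroup G)
    [K.Normal] (hidx : IsPGroup p (G ⧸ K)) (hK : Cfsg.pResidual p K = ⊤)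
    (hab : ∀ Q : Sylow p K, IsMulCommutative Q) : ∃ R : Subgroup G, R.IsComplement' K := by
  let Q : Sylow p K := default
  have hQc : IsMulCommutative (Q : Subgroup K) := hab Q
  set NK := Subgroup.normalizer ((Q : Subgroup K) : Set K) with hNK
  have hQN : (Q : Subgroup K) ≤ NK := Subgroup.le_normalizer
  obtain ⟨-, h2, -⟩ := Lib.Transfer.abelian_sylow_normalizer Q hQc
  have hQeq := Lib.Transfer.sylow_inf_pResidual_of_isMulCommutative Q hQc
  rw [hK, inf_top_eq] at hQeq
  rw [← hQeq, ← inf_assoc, inf_idem] at h2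
  set Q' : Sylow p NK := Q.subtype hQN with hQ'
  have hQ'n : (Q' : Subgroup NK).Normal :=
    (Subgroup.normal_subgroupOf_iff_le_normalizer hQN).mpr le_rfl
  have hQ'c : IsMulCommutative (Q' : Subgroup NK) :=
    Lib.Transfer.subgroupOf_isMulCommutative hQc NK
  obtain ⟨B, hB⟩ := Subgroup.exists_right_complement'_of_coprime Q'.card_coprime_index
  -- `B` has trivial fixed points on `Q`
  have hfix : ∀ q : NK, q ∈ (Q' : Subgroup NK) → q ∈ Subgroup.normalizer (B : Set NK) → q = 1 := by
    intro q hq hqn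
    have hqB : ∀ b ∈ B, q * b = b * q := by
      intro b hb
      have h1 : q * b * q⁻¹ * b⁻¹ ∈ (Q' : Subgroup NK) := by
        have h0 : q * (b * q⁻¹ * b⁻¹) ∈ (Q' : Subgroup NK) :=
          mul_mem hq (hQ'n.conj_mem _ (inv_mem hq) b)
        simpa [mul_assoc] using h0
      have h1' : q * b * q⁻¹ * b⁻¹ ∈ B :=
        mul_mem ((Subgroup.mem_normalizer_iff.mp hqn b).mp hb) (inv_mem hb)
      have h3 : q * b * q⁻¹ * b⁻¹ ∈ (⊥ : Subgroup NK) := hB.disjoint.eq_bot ▸ ⟨h1, h1'⟩
      rw [Subgroup.mem_bot, mul_inv_eq_one, mul_inv_eq_iff_eq_mul] at h3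
      exact h3
    have hcent : (q : K) ∈ Subgroup.centralizer (NK : Set K) := by
      rw [Subgroup.mem_centralizer_iff]
      intro x hx
      obtain ⟨⟨⟨a, haQ⟩, ⟨b, hb⟩⟩, he⟩ := hB.2 ⟨x, hx⟩
      have hqa : Commute q a := congrArg Subtype.val (hQ'c.1.1 ⟨q, hq⟩ ⟨a, haQ⟩)
      have hqab : Commute q (a * b) := hqa.mul_right (hqB b hb)
      have he' : (⟨x, hx⟩ : NK) = a * b := he.symm
      exact (congrArg Subtype.val (he' ▸ hqab.eq) : (q : K) * x = x * q).symm
    have : (q : K) ∈ (⊥ : Subgroup K) := h2 ▸ ⟨hq, hcent⟩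
    exact Subtype.ext (Subgroup.mem_bot.mp this)
  set QG := (Q : Subgroup K).map K.subtype with hQG
  set NKG := NK.map K.subtype with hNKG
  set BG := (B.map NK.subtype).map K.subtype with hBG
  set Nbig := Subgroup.normalizer (QG : Set G) with hNbig
  set L := Nbig ⊓ Subgroup.normalizer (BG : Set G) with hL
  have htopF : Nbig ⊔ K = ⊤ := Sylow.normalizer_sup_eq_top Q
  have hNKmem : ∀ k : K, (k : G) ∈ Nbig ↔ k ∈ NK := by
    intro k
    rw [hNbig, hNK, Subgroup.mem_normalizer_iff, Subgroup.mem_normalizer_iff]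
    constructor
    · intro h x
      have h' := h (K.subtype x)
      rw [show (k : G) * K.subtype x * (k : G)⁻¹ = K.subtype (k * x * k⁻¹) from rfl, hQG,
        Subgroup.mem_map_iff_mem (Subgroup.subtype_injective K),
        Subgroup.mem_map_iff_mem (Subgroup.subtype_injective K)] at h'
      exact h'
    · intro h x
      constructor
      · rintro ⟨y, hy, rfl⟩
        exact ⟨k * y * k⁻¹, (h y).mp hy, rfl⟩
      · rintro ⟨y, hy, he⟩
        refine ⟨k⁻¹ * y * k, (h _).mpr (by rw [show k * (k⁻¹ * y * k) * k⁻¹ = y by group]; exact hy), ?_⟩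
        have he' : (y : G) = (k : G) * x * (k : G)⁻¹ := he
        simp [he', mul_assoc]
  -- every element of `G` is in `K L`
  have htop : K ⊔ L = ⊤ := by
    rw [eq_top_iff, ← htopF, sup_le_iff]
    refine ⟨fun n hn => ?_, le_sup_left⟩
    -- the conjugate of `B` by `n`
    let B' : Subgroup NK :=
      ((BG.map (MulAut.conj n).toMonoidHom).comap K.subtype).comap NK.subtype
    have hconj : ∀ b : NK, ∃ b' : NK, ((b' : K) : G) = n * ((b : K) : G) * n⁻¹ := by
      intro b
      have hk : n * ((b : K) : G) * n⁻¹ ∈ K := (inferInstance : K.Normal).conj_mem _ (b : K).2 n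
      refine ⟨⟨⟨_, hk⟩, (hNKmem ⟨_, hk⟩).mp ?_⟩, rfl⟩
      exact mul_mem (mul_mem hn ((hNKmem b).mpr b.2)) (inv_mem hn)
    have hB'card : Nat.card B' = Nat.card B := by
      have hle : BG.map (MulAut.conj n).toMonoidHom ≤ NKG := by
        rintro _ ⟨_, ⟨_, ⟨b, hb, rfl⟩, rfl⟩, rfl⟩
        obtain ⟨b', hb'⟩ := hconj b
        exact ⟨b', b'.2, hb'⟩
      have e1 : (B'.map NK.subtype).map K.subtype = BG.map (MulAut.conj n).toMonoidHom := by
        refine le_antisymm ?_ ?_
        · rintro _ ⟨_, ⟨x, hx, rfl⟩, rfl⟩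
          exact hx
        · intro x hx
          obtain ⟨y, hy, rfl⟩ := hle hx
          exact ⟨y, ⟨⟨y, hy⟩, hx, rfl⟩, rfl⟩
      have e2 := congrArg (fun H : Subgroup G => Nat.card H) e1
      simp only [hBG, Subgroup.card_map_of_injective (Subgroup.subtype_injective _),
        Subgroup.card_map_of_injective
          (show Function.Injective (MulAut.conj n).toMonoidHom from (MulAut.conj n).injective)]
        at e2
      exact e2
    obtain ⟨m, hm, he⟩ := Lib.SZ.exists_mem_conj_of_card_eq_index (Q' : Subgroup NK) B' B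
      Q'.card_coprime_index (Or.inl (Group.isSolvable_of_comm fun a b => hQ'c.1.1 a b))
      (by rw [hB'card, Lib.SZ.card_eq_index_of_isComplement' hB])
      (Lib.SZ.card_eq_index_of_isComplement' hB)
    have hmn : ((m : K) : G) * n ∈ L := by
      refine ⟨mul_mem ((hNKmem m).mpr m.2) hn, ?_⟩
      show _ ∈ Subgroup.normalizer (BG : Set G)
      rw [← Lib.Transfer.map_conj_eq_iff]
      refine Subgroup.eq_of_le_of_card_ge ?_ (Subgroup.card_map_of_injective
        (show Function.Injective (MulAut.conj (((m : K) : G) * n)).toMonoidHom from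
          (MulAut.conj _).injective)).ge
      rintro _ ⟨_, ⟨_, ⟨b, hb, rfl⟩, rfl⟩, rfl⟩
      obtain ⟨b', hb'⟩ := hconj b
      have hb'B : b' ∈ B' := ⟨_, ⟨(b : K), ⟨b, hb, rfl⟩, rfl⟩, hb'.symm⟩
      have hmem : m * b' * m⁻¹ ∈ B := by
        rw [← he]
        exact Subgroup.mem_map_of_mem _ hb'B
      refine ⟨((m * b' * m⁻¹ : NK) : K), ⟨_, hmem, rfl⟩, ?_⟩
      simp [hb', mul_assoc]
    have := mul_mem (Subgroup.mem_sup_left (inv_mem (m : K).2) : ((m : K) : G)⁻¹ ∈ K ⊔ L)
      (Subgroup.mem_sup_right hmn)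
    rwa [inv_mul_cancel_left] at this
  have hKL : K ⊓ L ≤ BG := by
    rintro x ⟨hxK, hxL⟩
    have hxN : (⟨x, hxK⟩ : K) ∈ NK := (hNKmem ⟨x, hxK⟩).mp hxL.1
    obtain ⟨⟨⟨a, ha⟩, ⟨b, hb⟩⟩, he⟩ := hB.2 ⟨_, hxN⟩
    have hb' : ((b : K) : G) ∈ Subgroup.normalizer (BG : Set G) :=
      Subgroup.le_normalizer ⟨_, ⟨b, hb, rfl⟩, rfl⟩
    have hxa : x = ((a : K) : G) * ((b : K) : G) :=
      (congrArg (fun y : NK => ((y : K) : G)) he).symm
    have ha' : ((a : K) : G) ∈ Subgroup.normalizer (BG : Set G) :=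
      (mul_mem_cancel_right hb').mp (hxa ▸ hxL.2)
    have hinj : Function.Injective (K.subtype.comp NK.subtype) :=
      (Subgroup.subtype_injective K).comp (Subgroup.subtype_injective NK)
    have hBG' : BG = B.map (K.subtype.comp NK.subtype) := Subgroup.map_map _ _ _
    have han : a ∈ Subgroup.normalizer (B : Set NK) := by
      rw [Subgroup.mem_normalizer_iff]
      intro y
      have h' := Subgroup.mem_normalizer_iff.mp ha' (K.subtype.comp NK.subtype y)
      rw [hBG', Subgroup.mem_map_iff_mem hinj,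
        show ((a : K) : G) = K.subtype.comp NK.subtype a from rfl, ← map_inv, ← map_mul, ← map_mul,
        Subgroup.mem_map_iff_mem hinj] at h'
      exact h'
    rw [hfix a ha han] at hxa
    exact ⟨(b : K), ⟨b, hb, rfl⟩, by simpa using hxa.symm⟩
  let R₀ : Sylow p L := default
  set R := (R₀ : Subgroup L).map L.subtype with hR
  refine ⟨R, Subgroup.isComplement'_of_disjoint_and_mul_eq_univ (disjoint_iff.mpr ?_) ?_⟩
  · refine disjoint_iff.mp (Subgroup.disjoint_def.mpr fun {x} hxR hxK => ?_)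
    obtain ⟨_, ⟨b, hb, rfl⟩, hbx⟩ := hKL ⟨hxK, Subgroup.map_subtype_le _ hxR⟩
    obtain ⟨r, hr, hrx⟩ := hxR
    obtain ⟨k, hk⟩ := R₀.2 ⟨r, hr⟩
    have hxp : x ^ p ^ k = 1 := by
      rw [← hrx, ← map_pow, show r ^ p ^ k = 1 from congrArg Subtype.val hk, map_one]
    have hbp : b ^ p ^ k = 1 := by
      refine ((Subgroup.subtype_injective K).comp (Subgroup.subtype_injective NK)) ?_
      simp only [Function.comp_apply, map_pow, map_one]
      show (K.subtype (NK.subtype b)) ^ p ^ k = 1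
      rw [hbx, hxp]
    have hnd : ¬ p ∣ Nat.card B := by
      rw [Lib.SZ.card_eq_index_of_isComplement' hB]; exact Q'.not_dvd_index
    have hb1 : (⟨b, hb⟩ : B) = 1 := by
      refine orderOf_eq_one_iff.mp (Nat.eq_one_of_dvd_coprimes
        ((((Fact.out : p.Prime).coprime_iff_not_dvd).mpr hnd).pow_left k) ?_ (orderOf_dvd_natCard _))
      exact orderOf_dvd_of_pow_eq_one (Subtype.ext hbp)
    rw [← hbx, show b = 1 from congrArg Subtype.val hb1, map_one, map_one]
  · have hRK : R ⊔ K = ⊤ := by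
      let f : L →* G ⧸ K := (QuotientGroup.mk' K).comp L.subtype
      have hf : Function.Surjective f := by
        intro y
        obtain ⟨g, rfl⟩ := QuotientGroup.mk'_surjective K y
        obtain ⟨k, hk, l, hl, rfl⟩ : g ∈ (K : Set G) * (L : Set G) := by
          rw [← Subgroup.normal_mul, htop]; trivial
        refine ⟨⟨l, hl⟩, ?_⟩
        show ((l : G) : G ⧸ K) = ((k * l : G) : G ⧸ K)
        rw [QuotientGroup.mk_mul, (QuotientGroup.eq_one_iff k).mpr hk, one_mul]
      have hmap : (R₀.mapSurjective hf : Subgroup (G ⧸ K)) = ⊤ :=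
        ((R₀.mapSurjective hf).is_maximal' (IsPGroup.of_equiv hidx Subgroup.topEquiv.symm)
          le_top).symm
      rw [eq_top_iff]
      intro g _
      obtain ⟨r, hr, he⟩ : (g : G ⧸ K) ∈ (R₀ : Subgroup L).map f := by
        rw [← Sylow.coe_mapSurjective hf R₀, hmap]; trivial
      have hrg : (r : G)⁻¹ * g ∈ K := QuotientGroup.eq.mp he
      simpa using Subgroup.mul_mem_sup (show (r : G) ∈ R from ⟨r, hr, rfl⟩) hrg
    rw [← Subgroup.mul_normal, hRK, Subgroup.coe_top]


/-- If the Sylow p-subgroups of O^p(G) are abelian then G splits over O^p(G). -/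
theorem result {G : Type*} [Group G] [Finite G] {p : ℕ} [Fact p.Prime] (h : ∀ Q : Sylow p (Cfsg.pResidual p G), IsMulCommutative Q) : ∃ K : Subgroup G, K.IsComplement' (Cfsg.pResidual p G) := by
  exact exists_complement _ Lib.Transfer.isPGroup_quotient_pResidual
    Lib.Transfer.pResidual_pResidual h

end Cfsg.Agent.S0092
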