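import Cfsg.Statements.S0094
import Cfsg.Agent.Lib.PGroup.Extraspecial

set_option autoImplicit false
open Cfsg

namespace Cfsg.Agent.S0094

open scoped commutatorElement

/-- In a special p-group every central element has order dividing p. -/
theorem result {P : Type*} [Group P] [Finite P] {p : ℕ} [Fact p.Prime] (h : Cfsg.IsSpecial p P) (z : P) (hz : z ∈ Subgroup.center P) : z ^ p = 1 := by
  obtain ⟨hP, hf, hc⟩ := h
  have hpow : ∀ x : P, x ^ p ∈ Subgroup.center P := fun x =>
    hf ▸ Lib.PFrattini.pow_mem_frattini hP x
  have hz' : z ∈ commutator P := hc ▸ hz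
  rw [commutator_eq_closure] at hz'
  induction hz' using Subgroup.closure_induction with
  | mem x hx =>
    obtain ⟨a, b, rfl⟩ := hx
    have hab : ⁅a, b⁆ ∈ Subgroup.center P :=
      hc ▸ Subgroup.commutator_mem_commutator (Subgroup.mem_top a) (Subgroup.mem_top b)
    rw [← Lib.Extraspecial.commutator_pow_left hab, commutatorElement_eq_one_iff_mul_comm]
    exact (Subgroup.mem_center_iff.mp (hpow a) b).symm
  | one => exact one_pow p
  | mul x y hx hy ihx ihy =>
    have hxc : x ∈ Subgroup.center P := by rw [← hc, commutator_eq_closure]; exact hx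
    have hyc : y ∈ Subgroup.center P := by rw [← hc, commutator_eq_closure]; exact hy
    have hxy : Commute x y := Subgroup.mem_center_iff.mp hyc x
    rw [hxy.mul_pow, ihx hxc, ihy hyc, one_mul]
  | inv x hx ih =>
    have hxc : x ∈ Subgroup.center P := by rw [← hc, commutator_eq_closure]; exact hx
    rw [inv_pow, ih hxc, inv_one]

end Cfsg.Agent.S0094
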