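import Cfsg.Statements.S0096
import Cfsg.Agent.Lib.PGroup.Extraspecial

set_option autoImplicit false
open Cfsg

namespace Cfsg.Agent.S0096

open scoped commutatorElement

/-- For odd p, in a p-group of class at most two the elements of order dividing p generate a subgroup of exponent dividing p. -/
theorem result {P : Type*} [Group P] [Finite P] {p : ℕ} [Fact p.Prime] (hp : p ≠ 2) (hP : IsPGroup p P) (h2 : ⁅commutator P, (⊤ : Subgroup P)⁆ = ⊥) (g : P) (hg : g ∈ Subgroup.closure {x : P | x ^ p = 1}) : g ^ p = 1 := by
  have hcen : ∀ a b : P, ⁅a, b⁆ ∈ Subgroup.center P := fun a b => by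
    rw [Subgroup.mem_center_iff]
    intro g
    have h1 := Subgroup.commutator_mem_commutator (Subgroup.commutator_mem_commutator
      (Subgroup.mem_top a) (Subgroup.mem_top b)) (Subgroup.mem_top g)
    rw [← commutator_def, h2, Subgroup.mem_bot, commutatorElement_eq_one_iff_mul_comm] at h1
    exact h1.symm
  induction hg using Subgroup.closure_induction with
  | mem x hx => exact hx
  | one => exact one_pow p
  | mul x y _ _ ihx ihy =>
    rw [Lib.Extraspecial.mul_pow_eq (hcen y x), ihx, ihy, one_mul, one_mul]
    obtain ⟨k, hk⟩ := (Fact.out : p.Prime).dvd_choose_self two_ne_zero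
      (lt_of_le_of_ne (Fact.out : p.Prime).two_le (Ne.symm hp))
    rw [hk, pow_mul, ← Lib.Extraspecial.commutator_pow_left (hcen y x), ihy,
      commutatorElement_one_left, one_pow]
  | inv x _ ih => rw [inv_pow, ih, inv_one]

end Cfsg.Agent.S0096
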