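import Cfsg.Statements.S0097
import Cfsg.Agent.Lib.PGroup.Extraspecial

set_option autoImplicit false
open Cfsg

namespace Cfsg.Agent.S0097

/-- For odd p and E extraspecial, the subgroup generated by the elements of order dividing p has exponent dividing p and index at most p. -/
theorem result {E : Type*} [Group E] [Finite E] {p : ℕ} [Fact p.Prime] (hp : p ≠ 2) (h : Cfsg.IsExtraspecial p E) : (Subgroup.closure {x : E | x ^ p = 1}).index ≤ p ∧ ∀ g ∈ Subgroup.closure {x : E | x ^ p = 1}, g ^ p = 1 := by
  let f : E →* Subgroup.center E :=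
    { toFun := fun x => ⟨x ^ p, Lib.Extraspecial.pow_mem_center h x⟩
      map_one' := Subtype.ext (one_pow p)
      map_mul' := fun a b => Subtype.ext (Lib.Extraspecial.mul_pow_prime h hp a b) }
  have hle : Subgroup.closure {x : E | x ^ p = 1} ≤ f.ker :=
    (Subgroup.closure_le _).mpr fun x hx => Subtype.ext hx
  have heq : Subgroup.closure {x : E | x ^ p = 1} = f.ker :=
    le_antisymm hle fun x hx => Subgroup.subset_closure (congrArg Subtype.val hx)
  refine ⟨?_, fun g hg => congrArg Subtype.val (hle hg)⟩
  rw [heq, Subgroup.index_ker]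
  exact (Subgroup.card_le_card_group _).trans (Lib.Extraspecial.card_center h).le

end Cfsg.Agent.S0097
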