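import Cfsg.Statements.S0099
import Cfsg.Agent.Lib.Extraspecial.Structure

set_option autoImplicit false
open Cfsg

namespace Cfsg.Agent.S0099

/-- Among three extraspecial 2-groups of equal order, some two are isomorphic. -/
theorem result {E₁ : Type*} {E₂ : Type*} {E₃ : Type*} [Group E₁] [Group E₂] [Group E₃] [Finite E₁] [Finite E₂] [Finite E₃] (h₁ : Cfsg.IsExtraspecial 2 E₁) (h₂ : Cfsg.IsExtraspecial 2 E₂) (h₃ : Cfsg.IsExtraspecial 2 E₃) (h12 : Nat.card E₁ = Nat.card E₂) (h23 : Nat.card E₂ = Nat.card E₃) : Nonempty (E₁ ≃* E₂) ∨ Nonempty (E₂ ≃* E₃) ∨ Nonempty (E₁ ≃* E₃) := by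
  haveI : Fact (Nat.Prime 2) := ⟨Nat.prime_two⟩
  have h₁' := Lib.ExtraStruct.extraLike_of_isExtraspecial h₁
  have h₂' := Lib.ExtraStruct.extraLike_of_isExtraspecial h₂
  have h₃' := Lib.ExtraStruct.extraLike_of_isExtraspecial h₃
  obtain ⟨k, hk⟩ := Lib.ExtraStruct.exists_card_eq _ E₁ rfl h₁'
  have hk₂ : Nat.card E₂ = 2 ^ (2 * k + 1) := h12.symm.trans hk
  have hk₃ : Nat.card E₃ = 2 ^ (2 * k + 1) := h23.symm.trans hk₂
  by_cases p₁ : Lib.ExtraStruct.IsPlusType k E₁ <;>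
    by_cases p₂ : Lib.ExtraStruct.IsPlusType k E₂
  · exact Or.inl (Lib.ExtraStruct.exists_mulEquiv_of_type k _ _ hk hk₂ h₁' h₂' (by tauto))
  · by_cases p₃ : Lib.ExtraStruct.IsPlusType k E₃
    · exact Or.inr (Or.inr (Lib.ExtraStruct.exists_mulEquiv_of_type k _ _ hk hk₃ h₁' h₃' (by tauto)))
    · exact Or.inr (Or.inl (Lib.ExtraStruct.exists_mulEquiv_of_type k _ _ hk₂ hk₃ h₂' h₃' (by tauto)))
  · by_cases p₃ : Lib.ExtraStruct.IsPlusType k E₃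
    · exact Or.inr (Or.inl (Lib.ExtraStruct.exists_mulEquiv_of_type k _ _ hk₂ hk₃ h₂' h₃' (by tauto)))
    · exact Or.inr (Or.inr (Lib.ExtraStruct.exists_mulEquiv_of_type k _ _ hk hk₃ h₁' h₃' (by tauto)))
  · exact Or.inl (Lib.ExtraStruct.exists_mulEquiv_of_type k _ _ hk hk₂ h₁' h₂' (by tauto))

end Cfsg.Agent.S0099
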