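import Cfsg.Statements.S0100
import Cfsg.Agent.Lib.PLemmas.NormalSeries
import Cfsg.Agent.Lib.PLemmas.AlperinExponent

set_option autoImplicit false
open Cfsg

namespace Cfsg.Agent.S0100

/-- For odd p, a p-group without normal elementary abelian subgroups of order p^3 has p-rank at most 2. -/
theorem result {P : Type*} [Group P] [Finite P] {p : ℕ} [Fact p.Prime] (hp : p ≠ 2) (hP : IsPGroup p P) (h : ∀ A : Subgroup P, A.Normal → IsMulCommutative A → (∀ a ∈ A, a ^ p = 1) → Nat.card A ≠ p ^ 3) (E : Subgroup P) (hE : IsMulCommutative E) (hEe : ∀ e ∈ E, e ^ p = 1) : Nat.card E ≤ p ^ 2 := by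
  classical
  obtain ⟨A, hA⟩ := (Set.toFinite {B : Subgroup P | B.Normal ∧ IsMulCommutative B ∧
    ∀ b ∈ B, b ^ p = 1}).exists_maximal ⟨⊥, inferInstance,
      ⟨⟨fun a b => Subsingleton.elim _ _⟩⟩, fun b hb => by
        rw [Subgroup.mem_bot.1 hb, one_pow]⟩
  obtain ⟨hAn, hAc, hAe⟩ := hA.1
  have hp1 := (Fact.out : p.Prime).one_lt
  obtain ⟨a, ha⟩ := IsPGroup.iff_card.1 (hP.to_subgroup A)
  have ha2 : a ≤ 2 := by
    by_contra! h3
    obtain ⟨K, hKn, hKA, hK⟩ := Lib.PLemmas.exists_normal_le_card_eq hP A ha h3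
    exact h K hKn ⟨⟨fun x y => Subtype.ext
      (congrArg Subtype.val (hAc.1.1 ⟨x, hKA x.2⟩ ⟨y, hKA y.2⟩) :)⟩⟩
      (fun x hx => hAe x (hKA hx)) hK
  set C := Subgroup.centralizer (A : Set P) with hC
  have hmem : ∀ x ∈ C, x ^ p = 1 → x ∈ A := by
    have := Lib.PLemmas.mem_of_maximal_normal_abelian_exponent hP 1 (by rwa [pow_one]) A
      (by simpa using hAe) fun B hBn hBc hBe hAB =>
        le_antisymm (hA.2 ⟨hBn, hBc, by simpa using hBe⟩ hAB) hAB
    simpa using this
  have hle : E ⊓ C ≤ A := fun x hx => hmem x hx.2 (hEe x hx.1)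
  have hidx : C.index ≤ p := by
    refine (Lib.PLemmas.index_centralizer_le hP A ha).trans ?_
    interval_cases a <;> simp [Fact.out, (Fact.out : p.Prime).one_le]
  have hprod : Nat.card E = C.relIndex E * Nat.card (E ⊓ C : Subgroup P) := by
    rw [← (C.subgroupOf E).index_mul_card, ← Subgroup.card_map_of_injective
      (Subgroup.subtype_injective E), Subgroup.subgroupOf_map_subtype, inf_comm]
    rfl
  have hrel : C.relIndex E ≤ p :=
    (Nat.le_of_dvd (Nat.pos_of_ne_zero Subgroup.index_ne_zero_of_finite)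
      (Subgroup.relIndex_dvd_index_of_normal C E)).trans hidx
  obtain ⟨i, hi⟩ := IsPGroup.iff_card.1 (hP.to_subgroup (E ⊓ C))
  rcases le_or_gt i 1 with hi1 | hi2
  · rw [hprod, hi, sq]
    exact Nat.mul_le_mul hrel ((Nat.pow_le_pow_right (by omega) hi1).trans_eq (pow_one p))
  · have hcard := Subgroup.card_le_of_le hle
    have hia : p ^ 2 ≤ p ^ i := Nat.pow_le_pow_right (by omega) hi2
    have hA2 : Nat.card A ≤ p ^ 2 := ha ▸ Nat.pow_le_pow_right (by omega) ha2
    have heq : E ⊓ C = A := Subgroup.eq_of_le_of_card_ge hle (hA2.trans (hia.trans hi.ge))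
    have hEC : E ≤ C := by
      intro e he
      rw [hC, Subgroup.mem_centralizer_iff]
      intro x hx
      have hxE : x ∈ E := (heq.ge hx).1
      exact (congrArg Subtype.val (hE.1.1 ⟨x, hxE⟩ ⟨e, he⟩) :)
    rw [← inf_eq_left.2 hEC, heq]
    exact hA2

end Cfsg.Agent.S0100
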