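import Cfsg.Statements.S0103
import Cfsg.Agent.Lib.Transfer.Fusion

set_option autoImplicit false
open Cfsg

namespace Cfsg.Agent.S0103

/-- If a Sylow p-subgroup P intersects every distinct conjugate trivially, then its normalizer controls fusion in P. -/
theorem result {G : Type*} [Group G] [Finite G] {p : ℕ} [Fact p.Prime] (P : Sylow p G) (hTI : ∀ g : G, (P : Subgroup G).map (MulAut.conj g).toMonoidHom ≠ (P : Subgroup G) → (P : Subgroup G) ⊓ (P : Subgroup G).map (MulAut.conj g).toMonoidHom = ⊥) (x y : G) (hx : x ∈ P) (hy : y ∈ P) (hc : ∃ g : G, g * x * g⁻¹ = y) : ∃ n ∈ Subgroup.normalizer (P : Set G), n * x * n⁻¹ = y := by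
  obtain ⟨g, hg⟩ := hc
  by_cases hx1 : x = 1
  · subst hx1
    exact ⟨1, one_mem _, by rw [← hg]; group⟩
  · refine ⟨g, Lib.Transfer.map_conj_eq_iff.mp (by_contra fun hne => hx1 ?_), hg⟩
    have hb : y ∈ (⊥ : Subgroup G) := hTI g hne ▸
      ⟨hy, Lib.Transfer.mem_map_conj.mpr (by rw [← hg]; simpa [mul_assoc] using (show x ∈ (P : Subgroup G) from hx))⟩
    rw [Subgroup.mem_bot] at hb
    have : x = g⁻¹ * y * g := by rw [← hg]; group
    rw [this, hb]; group

end Cfsg.Agent.S0103
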