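import Cfsg.Statements.S0104
import Cfsg.Agent.Lib.Transfer.Fusion

set_option autoImplicit false
open Cfsg

namespace Cfsg.Agent.S0104

/-- A subgroup Z of a Sylow p-subgroup P that is normalized by N_G(P) is weakly closed in P exactly when it is normal in every Sylow p-subgroup containing it. -/
theorem result {G : Type*} [Group G] [Finite G] {p : ℕ} [Fact p.Prime] (P : Sylow p G) (Z : Subgroup G) (hZP : Z ≤ (P : Subgroup G)) (hZN : Subgroup.normalizer (P : Set G) ≤ Subgroup.normalizer (Z : Set G)) : Cfsg.IsWeaklyClosed Z P ↔ ∀ R : Sylow p G, Z ≤ (R : Subgroup G) → (R : Subgroup G) ≤ Subgroup.normalizer (Z : Set G) := by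
  constructor
  · intro hW R hR
    obtain ⟨g, hg⟩ := Lib.Transfer.exists_sylow_map_conj_eq P R
    have hgN : g ∈ Subgroup.normalizer (Z : Set G) :=
      Lib.Transfer.map_conj_eq_iff.mp (hW.2 g ((Subgroup.map_mono hR).trans_eq hg))
    intro r hr
    have h1 : g * r * g⁻¹ ∈ Subgroup.normalizer (Z : Set G) :=
      hZN (Subgroup.le_normalizer (hg.le ⟨r, hr, rfl⟩))
    have := mul_mem (mul_mem (inv_mem hgN) h1) hgN
    simpa [mul_assoc] using this
  · intro h
    refine ⟨hZP, fun g hg => ?_⟩
    have hle : Z ≤ ((g⁻¹ • P : Sylow p G) : Subgroup G) := by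
      intro z hz
      rw [Lib.Transfer.sylow_smul_coe, Lib.Transfer.mem_map_conj, inv_inv]
      exact hg ⟨z, hz, rfl⟩
    set Z' := Z.map (MulAut.conj g).toMonoidHom with hZ'
    have hPN : (P : Subgroup G) ≤ Subgroup.normalizer (Z' : Set G) := by
      intro x hx
      have hx' : g⁻¹ * x * g ∈ Subgroup.normalizer (Z : Set G) := h _ hle (by
        rw [Lib.Transfer.sylow_smul_coe, Lib.Transfer.mem_map_conj, inv_inv]
        simpa [mul_assoc] using hx)
      rw [← Lib.Transfer.map_conj_eq_iff, hZ', Lib.Transfer.map_conj_map_conj,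
        show x * g = g * (g⁻¹ * x * g) by group, ← Lib.Transfer.map_conj_map_conj,
        Lib.Transfer.map_conj_eq_iff.mpr hx']
    have hPNZ : (P : Subgroup G) ≤ Subgroup.normalizer (Z : Set G) :=
      Subgroup.le_normalizer.trans hZN
    obtain ⟨c, hc, hn⟩ := Lib.Transfer.exists_mul_mem_normalizer_of_weaklyClosed P
      (Lib.Transfer.isWeaklyClosed_sylow P) (Subgroup.normalizer (Z' : Set G)) g hPN (by
        rintro _ ⟨x, hx, rfl⟩
        rw [← Lib.Transfer.map_conj_eq_iff, hZ', Lib.Transfer.map_conj_map_conj]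
        show Z.map (MulAut.conj (g * x * g⁻¹ * g)).toMonoidHom = _
        rw [show g * x * g⁻¹ * g = g * x by group, ← Lib.Transfer.map_conj_map_conj,
          Lib.Transfer.map_conj_eq_iff.mpr (hPNZ hx)])
    calc Z' = Z'.map (MulAut.conj c).toMonoidHom := (Lib.Transfer.map_conj_eq_iff.mpr hc).symm
      _ = Z.map (MulAut.conj (c * g)).toMonoidHom := by rw [hZ', Lib.Transfer.map_conj_map_conj]
      _ = Z := Lib.Transfer.map_conj_eq_iff.mpr (hZN hn)

end Cfsg.Agent.S0104
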