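import Cfsg.Statements.S0107
import Mathlib
import Cfsg.Agent.Lib.Involution.ThompsonTransfer

set_option autoImplicit false
open Cfsg

namespace Cfsg.Agent.S0107

/-- A finite group with no nontrivial 2-group quotient and dihedral Sylow 2-subgroups of order at least 8 has a single class of involutions. -/
theorem result {G : Type*} [Group G] [Finite G] (T : Sylow 2 G) (n : ℕ) (hn : 2 ≤ n) (hT : Nonempty ((T : Subgroup G) ≃* DihedralGroup (2 ^ n))) (hO : Cfsg.pResidual 2 G = ⊤) (x y : G) (hx : orderOf x = 2) (hy : orderOf y = 2) : ∃ g : G, g * x * g⁻¹ = y := by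
  classical
  -- no subgroup of index two
  have hno : ∀ H : Subgroup G, H.index ≠ 2 := by
    intro H hH
    have := Subgroup.normal_of_index_eq_two hH
    have hle : Cfsg.pResidual 2 G ≤ H := by
      refine (Subgroup.closure_le _).2 fun g hg => ?_
      have h1 : g ^ 2 ∈ H := hH ▸ H.pow_index_mem g
      obtain ⟨m, hm⟩ := exists_pow_eq_self_of_coprime (show (2 : ℕ).Coprime (orderOf g) from hg.symm)
      rw [← hm]
      exact pow_mem h1 m
    rw [hO, top_le_iff] at hle
    rw [hle, Subgroup.index_top] at hH
    exact absurd hH (by norm_num)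
  obtain ⟨e⟩ := hT
  have hm0 : (2 : ℕ) ^ n ≠ 0 := by positivity
  have : NeZero ((2 : ℕ) ^ n) := ⟨hm0⟩
  -- the cyclic subgroup of index two
  set C : Subgroup (DihedralGroup (2 ^ n)) := Subgroup.zpowers (DihedralGroup.r 1) with hC
  have hCcard : Nat.card C = 2 ^ n := by rw [hC, Nat.card_zpowers, DihedralGroup.orderOf_r_one]
  set Q : Subgroup G := (C.comap e.toMonoidHom).map (T : Subgroup G).subtype with hQ
  have hQle : Q ≤ (T : Subgroup G) := Subgroup.map_subtype_le _
  have hQi : Q.relIndex (T : Subgroup G) = 2 := by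
    rw [Subgroup.relIndex, hQ, Subgroup.subgroupOf,
      Subgroup.comap_map_eq_self_of_injective (T : Subgroup G).subtype_injective,
      Subgroup.index_comap_of_surjective _ e.surjective]
    have h1 := C.card_mul_index
    rw [hCcard, DihedralGroup.nat_card, Nat.mul_comm 2] at h1
    exact Nat.eq_of_mul_eq_mul_left (by positivity) h1
  -- the only involution of `Q` is the central one
  have key : ∀ u v : G, u ∈ Q → v ∈ Q → orderOf u = 2 → orderOf v = 2 → u = v := by
    rintro u v ⟨a, ha, rfl⟩ ⟨b, hb, rfl⟩ hu hv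
    have hor : ∀ w : (T : Subgroup G), orderOf ((T : Subgroup G).subtype w) = 2 →
        orderOf (e w) = 2 := by
      intro w hw
      exact (e.orderOf_eq w).trans ((orderOf_injective _ (T : Subgroup G).subtype_injective w).symm.trans hw)
    have hCc : IsCyclic C := inferInstance
    have h := IsCyclic.card_pow_eq_one_le (α := C) (n := 2) (by norm_num)
    have hnone : ∀ w ∈ C, orderOf w = 2 → ∀ w' ∈ C, orderOf w' = 2 → w = w' := by
      intro w hw hwo w' hwo'm hwo'
      by_contra hne
      let s : Finset C := {⟨1, one_mem C⟩, ⟨w, hw⟩, ⟨w', hwo'm⟩}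
      have hs : s.card = 3 := by
        have h1 : w ≠ 1 := fun h => by rw [h, orderOf_one] at hwo; norm_num at hwo
        have h2 : w' ≠ 1 := fun h => by rw [h, orderOf_one] at hwo'; norm_num at hwo'
        rw [Finset.card_eq_three]
        exact ⟨_, _, _, fun h => h1 (congrArg Subtype.val h).symm,
          fun h => h2 (congrArg Subtype.val h).symm, fun h => hne (congrArg Subtype.val h), rfl⟩
      have hsub : s ⊆ ({a : C | a ^ 2 = 1} : Finset C) := by
        intro z hz
        simp only [Finset.mem_filter, Finset.mem_univ, true_and]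
        simp only [s, Finset.mem_insert, Finset.mem_singleton] at hz
        rcases hz with rfl | rfl | rfl
        · exact one_pow 2
        · exact Subtype.ext (by rw [Subgroup.coe_pow, Subgroup.coe_one]; exact orderOf_dvd_iff_pow_eq_one.1 hwo.dvd)
        · exact Subtype.ext (by rw [Subgroup.coe_pow, Subgroup.coe_one]; exact orderOf_dvd_iff_pow_eq_one.1 hwo'.dvd)
      have := Finset.card_le_card hsub
      omega
    have := hnone (e a) ha (hor a hu) (e b) hb (hor b hv)
    rw [e.injective this]
  have hall : ∀ u : G, orderOf u = 2 → ∃ g : G, g * u * g⁻¹ ∈ Q := fun u hu =>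
    Lib.Involution.exists_conj_mem_of_no_index_two hno T Q hQle hQi u hu
  obtain ⟨g, hg⟩ := hall x hx
  obtain ⟨h, hh⟩ := hall y hy
  have hord : ∀ (g u : G), orderOf (g * u * g⁻¹) = orderOf u := fun g u =>
    (MulAut.conj g).orderOf_eq u
  have heq := key _ _ hg hh ((hord g x).trans hx) ((hord h y).trans hy)
  refine ⟨h⁻¹ * g, ?_⟩
  calc h⁻¹ * g * x * (h⁻¹ * g)⁻¹ = h⁻¹ * (g * x * g⁻¹) * h := by group
    _ = h⁻¹ * (h * y * h⁻¹) * h := by rw [heq]
    _ = y := by group

end Cfsg.Agent.S0107
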