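import Cfsg.Statements.S0109
import Mathlib
import Cfsg.Agent.Lib.ThompsonNPC.Offender
import Cfsg.Agent.Lib.OddStability.ZJ
import Cfsg.Agent.Lib.PGroup.AbelianSylowTwo

set_option autoImplicit false
open Cfsg

namespace Cfsg.Agent.S0109

/-- The Thompson factorization Theorem for solvable groups states that, with p odd (and abelian Sylow 2-subgroups when p = 3) and no nontrivial normal subgroup of order prime to p, every element of G is a product of an element normalizing J(P) and an element centralizing the elements of order dividing p in the centre of P. -/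
theorem result {G : Type*} [Group G] [Finite G] {p : ℕ} [Fact p.Prime] (hp : p ≠ 2) (hs : Group.IsSolvable G) (h3 : p = 3 → ∀ T : Sylow 2 G, IsMulCommutative T) (hF : ∀ N : Subgroup G, N.Normal → Nat.Coprime (Nat.card N) p → N = ⊥) (P : Sylow p G) (g : G) : ∃ a ∈ Subgroup.normalizer (Cfsg.thompsonSubgroupOf p (P : Subgroup G) : Set G), ∃ c ∈ Subgroup.centralizer {x : G | x ∈ (P : Subgroup G) ∧ (∀ y ∈ (P : Subgroup G), x * y = y * x) ∧ x ^ p = 1}, g = a * c := by
  classical
  have hpp : p.Prime := Fact.out
  set H := Cfsg.pCore p G with hH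
  have h0 : Cfsg.pPrimeCore p G = ⊥ := hF _ inferInstance
    (hpp.coprime_iff_not_dvd.2 Lib.PSolvable.pPrimeCore_not_dvd).symm
  have hCH : Subgroup.centralizer (H : Set G) ≤ H :=
    Lib.PSolvable.centralizer_pCore_le_of_isPSolvable Lib.PSolvable.isPSolvable_of_isSolvable h0
  have hHP : H ≤ (P : Subgroup G) := Lib.PSolvable.pCore_le_sylow P
  set X : Set G := {x : G | x ∈ (P : Subgroup G) ∧
    (∀ y ∈ (P : Subgroup G), x * y = y * x) ∧ x ^ p = 1} with hX
  have hXc : X ⊆ (Subgroup.centralizer (H : Set G) : Set G) := fun x hx =>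
    Subgroup.mem_centralizer_iff.2 fun h hh => (hx.2.1 h (hHP hh)).symm
  set V := Subgroup.normalClosure X with hV
  have hVc : V ≤ Subgroup.centralizer (H : Set G) := Subgroup.normalClosure_le_normal hXc
  have hVH : V ≤ H := hVc.trans hCH
  have hVcomm : ∀ a ∈ V, ∀ b ∈ V, a * b = b * a := fun a ha b hb =>
    Subgroup.mem_centralizer_iff.1 (hVc hb) a (hVH ha)
  have hVe : Cfsg.IsElementaryAbelian p V := by
    refine Lib.ElemAbelian.closure ?_ ?_
    · exact fun a ha b hb => hVcomm a (Subgroup.subset_closure ha) b (Subgroup.subset_closure hb)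
    · intro a ha
      obtain ⟨x, hx, hxa⟩ := Group.mem_conjugatesOfSet_iff.1 ha
      obtain ⟨c, rfl⟩ := isConj_iff.1 hxa
      rw [conj_pow, hx.2.2, mul_one, mul_inv_cancel]
  have hVP : V ≤ (P : Subgroup G) := hVH.trans hHP
  let _ : CommGroup V := { (inferInstance : Group V) with
    mul_comm := fun a b => Subtype.ext (hVcomm a a.2 b b.2) }
  have : V.Normal := Subgroup.normalClosure_normal
  let φ : G →* MulAut V := MulAut.conjNormal
  have hker : ∀ g : G, g ∈ φ.ker ↔ ∀ v ∈ V, g * v = v * g := by
    intro g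
    rw [MonoidHom.mem_ker]
    constructor
    · intro h v hv
      have := congrArg Subtype.val (DFunLike.congr_fun h ⟨v, hv⟩)
      rw [MulAut.conjNormal_apply] at this
      exact mul_inv_eq_iff_eq_mul.1 this
    · intro h
      refine MulEquiv.ext fun v => Subtype.ext ?_
      rw [MulAut.conjNormal_apply, MulAut.one_apply]
      exact mul_inv_eq_iff_eq_mul.2 (h v v.2)
  set R := φ.range
  have : Group.IsSolvable R := Group.isSolvable_of_surjective φ.rangeRestrict_surjective
  -- the `p`-core of the image is trivial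
  have hRcore : ∀ g : G, φ.rangeRestrict g ∈ Cfsg.pCore p R → g ∈ φ.ker := by
    intro g hg
    rw [hker]
    have key : ∀ d : G, φ.rangeRestrict d ∈ Cfsg.pCore p R → ∀ x ∈ X, d * x = x * d := by
      intro d hd x hx
      obtain ⟨y, hy, hyd⟩ := Lib.PSolvable.pCore_le_sylow
        (P.mapSurjective φ.rangeRestrict_surjective) hd
      have h1 := congrArg Subtype.val hyd
      rw [MonoidHom.coe_rangeRestrict, MonoidHom.coe_rangeRestrict] at h1
      have h2 := congrArg Subtype.val
        (DFunLike.congr_fun h1 ⟨x, Subgroup.subset_normalClosure hx⟩)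
      rw [MulAut.conjNormal_apply, MulAut.conjNormal_apply] at h2
      simp only at h2
      rw [mul_inv_eq_iff_eq_mul.2 (hx.2.1 y hy).symm] at h2
      exact mul_inv_eq_iff_eq_mul.1 h2.symm
    intro v hv
    have hle : V ≤ Subgroup.centralizer ({g} : Set G) := by
      rw [hV, Subgroup.normalClosure, Subgroup.closure_le]
      intro a ha
      obtain ⟨x, hx, hxa⟩ := Group.mem_conjugatesOfSet_iff.1 ha
      obtain ⟨c, rfl⟩ := isConj_iff.1 hxa
      refine Subgroup.mem_centralizer_singleton_iff.2 ?_
      have h3 := key (c⁻¹ * g * c) (by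
        rw [map_mul, map_mul, map_inv]
        exact (inferInstance : (Cfsg.pCore p R).Normal).conj_mem' _ hg _) x hx
      calc c * x * c⁻¹ * g = c * (x * (c⁻¹ * g * c)) * c⁻¹ := by group
        _ = c * ((c⁻¹ * g * c) * x) * c⁻¹ := by rw [h3]
        _ = g * (c * x * c⁻¹) := by group
    exact (Subgroup.mem_centralizer_singleton_iff.1 (hle hv)).symm
  -- quadratic elements act trivially
  have hquad : ∀ a : G, (∀ v ∈ V, Commute a (a * v * a⁻¹ * v⁻¹)) → a ∈ φ.ker := by
    intro a ha
    apply hRcore
    let ρ : R →* AddMonoid.End (Additive V) := Lib.ThompsonNPC.toAddEnd.comp R.subtype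
    have hM : ∀ v : Additive V, p • v = 0 := fun v => by
      apply Additive.toMul.injective
      rw [toMul_nsmul, toMul_zero]
      exact Subtype.ext (hVe.2 _ (Additive.toMul v : V).2)
    have hinj : ∀ r : R, (∀ v, ρ r v = v) → r = 1 := fun r hr =>
      Subtype.ext (MulEquiv.ext fun v => congrArg Additive.toMul (hr (Additive.ofMul v)))
    have hu : Lib.TwoQuadratic.IsUnipotentTwo (ρ (φ.rangeRestrict a)) := by
      show (ρ (φ.rangeRestrict a) - 1) * (ρ (φ.rangeRestrict a) - 1) = 0
      refine DFunLike.ext _ _ fun w => ?_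
      have e : ρ (φ.rangeRestrict a) (ρ (φ.rangeRestrict a) w - w) =
          ρ (φ.rangeRestrict a) w - w := by
        apply Additive.toMul.injective
        apply Subtype.ext
        show a * ((a * (Additive.toMul w : V) * a⁻¹) / ((Additive.toMul w : V) : G)) * a⁻¹ =
          (a * (Additive.toMul w : V) * a⁻¹) / ((Additive.toMul w : V) : G)
        rw [div_eq_mul_inv, (ha _ (Additive.toMul w : V).2).eq, mul_inv_cancel_right]
      show ρ (φ.rangeRestrict a) (ρ (φ.rangeRestrict a) w - w) -
        (ρ (φ.rangeRestrict a) w - w) = 0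
      rw [e, sub_self]
    by_contra hna
    rcases eq_or_ne p 3 with h | h
    · exact hna (Lib.AbelianSylowTwo.mem_pCore hp
        (Lib.AbelianSylowTwo.abelianTwo_of_surjective φ.rangeRestrict
          φ.rangeRestrict_surjective (h3 h)) hM ρ hinj hu)
    · exact h (Lib.QuadraticStable.sl2Three_of_not_mem_pCore hp
        Lib.PSolvable.isPSolvable_of_isSolvable hM ρ hinj hu hna).1
  -- the Thompson subgroup centralises `V`
  set C := φ.ker with hC
  have hJC : Cfsg.thompsonSubgroupOf p (P : Subgroup G) ≤ C := by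
    rw [Lib.Thompson.thompsonSubgroupOf_eq_sSup]
    refine sSup_le fun A hA => ?_
    by_contra hAC
    obtain ⟨A, ⟨hA, hAC⟩, hmax⟩ := Set.exists_max_image
      {A : Subgroup G | A ∈ Lib.Thompson.maxIn p (P : Subgroup G) ∧ ¬ A ≤ C}
      (fun A => Nat.card (A ⊓ V : Subgroup G)) (Set.toFinite _) ⟨A, hA, hAC⟩
    have hVA : V ≤ Subgroup.normalizer (A : Set G) := by
      by_contra hn
      have hVn : (P : Subgroup G) ≤ Subgroup.normalizer (V : Set G) := by
        rw [Subgroup.normalizer_eq_top_iff.2 inferInstance]; exact le_top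
      obtain ⟨A', hA', hA'N, hlt⟩ := Lib.OddStability.exists_replacement hp P.2 hVP hVn
        (fun x hx y hy z _ => by
          rw [commutatorElement_eq_one_iff_mul_comm.2 (hVcomm x hx y hy)]
          exact Commute.one_left z) hA hn
      have hA'C : A' ≤ C := by
        by_contra h
        exact absurd (hmax A' ⟨hA', h⟩) (not_le_of_gt (Set.ncard_lt_ncard hlt (Set.toFinite _)))
      refine hn (le_trans (fun v hv => ?_) hA'N)
      exact Lib.Thompson.mem_of_pow_eq_one_of_commute hA' (hVP hv) (hVe.2 v hv)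
        fun a ha => (hker a).1 (hA'C ha) v hv
    refine hAC fun a ha => hquad a fun v hv => ?_
    have h1 := (Subgroup.mem_normalizer_iff.1 (hVA hv) a⁻¹).1 (inv_mem ha)
    exact Lib.ElemAbelian.comm hA.1 ha (by simpa only [mul_assoc] using mul_mem ha h1)
  -- the Frattini argument
  obtain ⟨S, hS⟩ := Lib.LocalChar.exists_sylow_inf P (D := C)
    ((Subgroup.normalizer_eq_top_iff.2 inferInstance).ge.trans' le_top)
  have hfr := Sylow.normalizer_sup_eq_top S
  rw [hS, Subgroup.map_subgroupOf_eq_of_le inf_le_right] at hfr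
  obtain ⟨a, ha, c, hc, hac⟩ := Subgroup.mem_sup_of_normal_right.1
    (show g ∈ Subgroup.normalizer (((P : Subgroup G) ⊓ C : Subgroup G) : Set G) ⊔ C by
      rw [hfr]; exact Subgroup.mem_top g)
  refine ⟨a, ?_, c, ?_, hac.symm⟩
  · have h := Lib.Thompson.normalizer_le p _ ha
    rwa [Lib.Thompson.thompsonSubgroupOf_eq_of_le
      (le_inf (Lib.Thompson.thompsonSubgroupOf_le p _) hJC) inf_le_left] at h
  · exact Subgroup.mem_centralizer_iff.2 fun x hx =>
      ((hker c).1 hc x (Subgroup.subset_normalClosure hx)).symm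

end Cfsg.Agent.S0109
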