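import Cfsg.Statements.S0110
import Mathlib
import Cfsg.Agent.Lib.PLemmas.NormalSeries

set_option autoImplicit false
open Cfsg

namespace Cfsg.Agent.S0110

/-- In a p-group G, an extraspecial subgroup E with [G, E] ≤ Z(E) satisfies G = E C_G(E). -/
theorem result {G : Type*} [Group G] [Finite G] {p : ℕ} [Fact p.Prime] (hG : IsPGroup p G) (E : Subgroup G) (hE : Cfsg.IsExtraspecial p E) (h : ⁅(⊤ : Subgroup G), E⁆ ≤ E ⊓ Subgroup.centralizer (E : Set G)) : E ⊔ Subgroup.centralizer (E : Set G) = ⊤ := by
  classical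
  have hp : p.Prime := Fact.out
  have : Group.IsNilpotent G := hG.isNilpotent
  have hEn : E.Normal := by
    refine Subgroup.commutator_top_left_le_iff.1 (h.trans inf_le_left)
  set Z := E ⊓ Subgroup.centralizer (E : Set G) with hZ
  have hcomm : ∀ g : G, ∀ e ∈ E, g * e * g⁻¹ * e⁻¹ ∈ Z := fun g e he =>
    h (Subgroup.commutator_mem_commutator (Subgroup.mem_top g) he)
  have hZc : ∀ z ∈ Z, ∀ e ∈ E, z * e = e * z := fun z hz e he =>
    (Subgroup.mem_centralizer_iff.1 hz.2 e he).symm
  -- `Z` has order `p`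
  have hZmap : Z = (Subgroup.center E).map E.subtype := by
    refine le_antisymm ?_ ?_
    · intro z hz
      refine ⟨⟨z, hz.1⟩, ?_, rfl⟩
      rw [SetLike.mem_coe, Subgroup.mem_center_iff]
      exact fun e => Subtype.ext (hZc z hz e e.2).symm
    · rintro _ ⟨z, hz, rfl⟩
      exact ⟨z.2, Subgroup.mem_centralizer_iff.2 fun e he =>
        congrArg Subtype.val (Subgroup.mem_center_iff.1 hz ⟨e, he⟩)⟩
  have hZcard : Nat.card Z = p := by
    rw [hZmap, Subgroup.card_map_of_injective E.subtype_injective]
    exact hE.2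
  let _ : CommGroup Z := { (inferInstance : Group Z) with
    mul_comm := fun a b => Subtype.ext (hZc a a.2 b b.2.1) }
  -- the map to `Hom(E, Z)`
  let ψ : G → (E →* Z) := fun g => MonoidHom.mk' (fun e => ⟨g * e * g⁻¹ * (e : G)⁻¹, hcomm g e e.2⟩)
    (fun a b => by
      refine Subtype.ext ?_
      simp only [Subgroup.coe_mul, mul_inv_rev]
      calc g * ((a : G) * b) * g⁻¹ * ((b : G)⁻¹ * (a : G)⁻¹)
          = g * (a : G) * g⁻¹ * ((g * b * g⁻¹ * (b : G)⁻¹) * (a : G)⁻¹) := by group
        _ = g * (a : G) * g⁻¹ * ((a : G)⁻¹ * (g * b * g⁻¹ * (b : G)⁻¹)) := by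
            rw [hZc _ (hcomm g b b.2) _ (inv_mem a.2)]
        _ = _ := by group)
  have hψ : ∀ g (e : E), ((ψ g e : Z) : G) = g * e * g⁻¹ * (e : G)⁻¹ := fun _ _ => rfl
  -- homomorphisms kill the centre
  have hkill : ∀ f : E →* Z, ∀ z ∈ Subgroup.center E, f z = 1 := by
    intro f z hz
    rw [← hE.1.2.2] at hz
    exact MonoidHom.mem_ker.1 (Abelianization.commutator_subset_ker f hz)
  -- count homomorphisms
  have hhom : Nat.card (E →* Z) ≤ (Subgroup.center E).index := by
    have hfin : ∀ K : Subgroup E, Subgroup.center E ≤ K →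
        Nat.card {f : K → Z // ∃ F : E →* Z, ∀ k : K, f k = F k} ≤
          (Subgroup.center E).relIndex K := by
      intro K hK
      induction hn : Nat.card K using Nat.strong_induction_on generalizing K with
      | _ n ih =>
      subst hn
      rcases eq_or_lt_of_le hK with rfl | hlt
      · rw [Subgroup.relIndex_self]
        refine Finite.card_le_one_iff_subsingleton.2 ⟨fun a b => Subtype.ext (funext fun k => ?_)⟩
        obtain ⟨F, hF⟩ := a.2
        obtain ⟨F', hF'⟩ := b.2
        rw [hF, hF', hkill F k k.2, hkill F' k k.2]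
      · have hKn : K.Normal := by
          exact Subgroup.Normal.of_commutator_le _ (hE.1.2.2.le.trans hK)
        have hEp : IsPGroup p E := hE.1.1
        -- a subgroup of index `p` below `K`
        obtain ⟨i, hi⟩ := (hEp.to_subgroup K).exists_card_eq
        obtain ⟨M, hM, hcM, hMK, hMcard⟩ : ∃ M : Subgroup E, M.Normal ∧
            Subgroup.center E ≤ M ∧ M < K ∧ p * Nat.card M = Nat.card K := by
          obtain ⟨M, hM⟩ := (Set.toFinite {M : Subgroup E | Subgroup.center E ≤ M ∧ M < K}).exists_maximal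
            ⟨_, le_rfl, hlt⟩
          have hMn : M.Normal :=
            Subgroup.Normal.of_commutator_le _ (hE.1.2.2.le.trans hM.1.1)
          obtain ⟨M', hM'n, hMM', hM'K, hcard, -⟩ :=
            Lib.PLemmas.exists_normal_step hEp hM.1.2
          refine ⟨M, hMn, hM.1.1, hM.1.2, ?_⟩
          rcases eq_or_lt_of_le hM'K with heq | hlt'
          · rw [← hcard, heq]
          · have := Subgroup.card_le_of_le (hM.2 ⟨hM.1.1.trans hMM', hlt'⟩ hMM')
            rw [hcard] at this
            have := Nat.card_pos (α := M)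
            have := hp.two_le
            nlinarith
        obtain ⟨v, hvK, hvM⟩ := SetLike.exists_of_lt hMK
        have hsup : K ≤ M ⊔ Subgroup.zpowers v := by
          have hle : M ⊔ Subgroup.zpowers v ≤ K := sup_le hMK.le (Subgroup.zpowers_le.2 hvK)
          obtain ⟨c, hc⟩ := Subgroup.card_dvd_of_le (le_sup_left : M ≤ M ⊔ Subgroup.zpowers v)
          have hd := Subgroup.card_dvd_of_le hle
          rw [hc, ← hMcard, Nat.mul_comm p, Nat.mul_dvd_mul_iff_left Nat.card_pos] at hd
          rcases (Nat.dvd_prime hp).1 hd with rfl | rfl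
          · have := Subgroup.eq_of_le_of_card_ge
              (le_sup_left : M ≤ M ⊔ Subgroup.zpowers v) (by rw [hc, mul_one])
            exact absurd (this.symm ▸ Subgroup.mem_sup_right (Subgroup.mem_zpowers v)) hvM
          · exact (Subgroup.eq_of_le_of_card_ge hle (by rw [hc, ← hMcard, Nat.mul_comm])).ge
        have hMlt : Nat.card M < Nat.card K := Set.ncard_lt_ncard hMK (Set.toFinite _)
        have hih := ih _ hMlt M hcM rfl
        let R : {f : K → Z // ∃ F : E →* Z, ∀ k : K, f k = F k} →
            {f : M → Z // ∃ F : E →* Z, ∀ k : M, f k = F k} × Z := fun a =>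
          (⟨fun m => a.1 ⟨m, hMK.le m.2⟩, a.2.elim fun F hF => ⟨F, fun m => hF _⟩⟩, a.1 ⟨v, hvK⟩)
        have hR : Function.Injective R := by
          intro a b hab
          obtain ⟨F, hF⟩ := a.2
          obtain ⟨F', hF'⟩ := b.2
          refine Subtype.ext (funext fun k => ?_)
          rw [hF, hF']
          have hle : M ⊔ Subgroup.zpowers v ≤ F.eqLocus F' := by
            refine sup_le (fun m hm => ?_) (Subgroup.zpowers_le.2 ?_)
            · have h1 : a.1 ⟨m, hMK.le hm⟩ = b.1 ⟨m, hMK.le hm⟩ :=
                congrArg (fun z : _ × Z => z.1.1 ⟨m, hm⟩) hab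
              rwa [hF, hF'] at h1
            · have h1 : a.1 ⟨v, hvK⟩ = b.1 ⟨v, hvK⟩ := congrArg Prod.snd hab
              rwa [hF, hF'] at h1
          exact hle (hsup k.2)
        refine (Nat.card_le_card_of_injective R hR).trans ?_
        rw [Nat.card_prod, hZcard]
        refine (Nat.mul_le_mul_right p hih).trans (le_of_eq ?_)
        have e1 := Subgroup.relIndex_mul_relIndex ⊥ (Subgroup.center E) M bot_le hcM
        have e2 := Subgroup.relIndex_mul_relIndex ⊥ (Subgroup.center E) K bot_le hK
        rw [Subgroup.relIndex_bot_left, Subgroup.relIndex_bot_left] at e1 e2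
        refine Nat.eq_of_mul_eq_mul_left (Nat.card_pos (α := Subgroup.center E)) ?_
        rw [← mul_assoc, e1, e2, Nat.mul_comm, hMcard]
    have := hfin ⊤ le_top
    rw [Subgroup.relIndex_top_right] at this
    refine le_trans ?_ this
    refine Nat.card_le_card_of_injective (fun F => ⟨fun k => F k, F, fun _ => rfl⟩) fun F F' hFF => ?_
    exact MonoidHom.ext fun e => congrFun (congrArg Subtype.val hFF) ⟨e, Subgroup.mem_top e⟩
  let χ : E ⧸ Subgroup.center E → (E →* Z) := fun q => ψ ((q.out : E) : G)
  have hχ : Function.Injective χ := by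
    intro a b hab
    rw [← a.out_eq, ← b.out_eq]
    refine QuotientGroup.eq.2 (Subgroup.mem_center_iff.2 fun e => Subtype.ext ?_)
    have := congrArg Subtype.val (DFunLike.congr_fun hab e)
    simp only [χ, hψ] at this
    have h' := mul_right_cancel this
    simp only [Subgroup.coe_mul, Subgroup.coe_inv]
    calc (e : G) * (((a.out : E) : G)⁻¹ * ((b.out : E) : G))
        = ((a.out : E) : G)⁻¹ * (((a.out : E) : G) * e * ((a.out : E) : G)⁻¹) * ((b.out : E) : G) := by
          group
      _ = ((a.out : E) : G)⁻¹ * (((b.out : E) : G) * e * ((b.out : E) : G)⁻¹) * ((b.out : E) : G) := by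
          rw [h']
      _ = _ := by group
  have hfinHom : Finite (E →* Z) := Finite.of_injective _ DFunLike.coe_injective
  have hbij : Function.Bijective χ :=
    hχ.bijective_of_nat_card_le hhom
  rw [eq_top_iff]
  intro g _
  obtain ⟨q, hq⟩ := hbij.2 (ψ g)
  set e0 := ((q.out : E) : G) with he0
  rw [show g = e0 * (e0⁻¹ * g) by group]
  refine mul_mem (Subgroup.mem_sup_left (q.out : E).2) (Subgroup.mem_sup_right ?_)
  rw [Subgroup.mem_centralizer_iff]
  intro e he
  have := congrArg Subtype.val (DFunLike.congr_fun hq ⟨e, he⟩)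
  simp only [χ, hψ, ← he0] at this
  have h' := mul_right_cancel this
  calc e * (e0⁻¹ * g) = e0⁻¹ * (e0 * e * e0⁻¹) * g := by group
    _ = e0⁻¹ * (g * e * g⁻¹) * g := by rw [h']
    _ = _ := by group

end Cfsg.Agent.S0110
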