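import Cfsg.Statements.S0114
import Mathlib
import Cfsg.Agent.Lib.PLemmas.MaximalClass
import Cfsg.Agent.Lib.TwoGroup.Recognition

set_option autoImplicit false
open Cfsg

namespace Cfsg.Agent.S0114

/-- The central quotient of a 2-group of maximal class is dihedral. -/
theorem result {X : Type*} [Group X] [Finite X] (n : ℕ) (hn : 3 ≤ n) (hX : Nat.card X = 2 ^ n) (hc : Group.nilpotencyClass X = n - 1) : Nonempty (X ⧸ Subgroup.center X ≃* DihedralGroup (2 ^ (n - 2))) := by
  have : Fact (Nat.Prime 2) := ⟨Nat.prime_two⟩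
  obtain ⟨hZ, C, hC, hCi, hinv⟩ := Lib.PLemmas.two_group_index_four hn hX
    ((Lib.PLemmas.nilpotencyClass_eq_iff_index_four hn hX).1 hc)
  have hG : IsPGroup 2 X := IsPGroup.of_card hX
  have hQ := Lib.PLemmas.card_quotient_center_of_card_two (by omega) hX hZ
  have hnt : Subgroup.center X ≤ C := by
    intro z hz
    by_contra hzC
    -- then `X` would be commutative
    have hgen := Lib.PLemmas.sup_zpowers_eq_top_of_index_two hCi hzC
    have htop : Subgroup.center X = ⊤ := by
      have hCZ : C ≤ Subgroup.center X := by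
        intro c hcC
        rw [Subgroup.mem_center_iff]
        intro g
        have := Subgroup.normal_of_index_eq_two hCi
        obtain ⟨d, hd, y, hy, rfl⟩ := Subgroup.mem_sup_of_normal_left.1
          (show g ∈ C ⊔ Subgroup.zpowers z by rw [hgen]; exact Subgroup.mem_top g)
        have hy' : y ∈ Subgroup.center X := (Subgroup.zpowers_le.2 hz) hy
        have h1 : Commute d c := congrArg Subtype.val
          (IsCyclic.isMulCommutative.is_comm.comm (⟨d, hd⟩ : C) ⟨c, hcC⟩)
        exact (h1.mul_left ((Subgroup.mem_center_iff.1 hy' c).symm)).eq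
      rw [← top_le_iff, ← hgen]
      exact sup_le hCZ (Subgroup.zpowers_le.2 hz)
    rw [htop, Subgroup.card_top, hX] at hZ
    exact absurd (Nat.pow_right_injective le_rfl (hZ.trans (pow_one 2).symm)) (by omega)
  obtain ⟨x, hx⟩ : ∃ x : X, x ∉ C := by
    by_contra h
    push_neg at h
    rw [(Subgroup.eq_top_iff' C).2 h, Subgroup.index_top] at hCi
    omega
  obtain ⟨⟨c, hc'⟩, hgen⟩ := IsCyclic.exists_generator (α := C)
  set π := QuotientGroup.mk' (Subgroup.center X) with hπ
  have hzp : C = Subgroup.zpowers c := by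
    refine le_antisymm (fun d hd => ?_) (Subgroup.zpowers_le.2 hc')
    obtain ⟨i, hi⟩ := hgen ⟨d, hd⟩
    exact ⟨i, by simpa using congrArg Subtype.val hi⟩
  have hcard : orderOf (π c) = 2 ^ (n - 2) := by
    rw [← Nat.card_zpowers, ← MonoidHom.map_zpowers, ← hzp]
    have h1 := C.card_mul_index
    have h2 := (C.map π).card_mul_index
    have h3 : (C.map π).index = C.index :=
      Subgroup.index_map_eq C (QuotientGroup.mk'_surjective _)
        (by rw [hπ, QuotientGroup.ker_mk']; exact hnt)
    rw [h3, hCi, hQ, show n - 1 = n - 2 + 1 by omega, pow_succ] at h2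
    omega
  have hb : π x * π x = 1 := by
    rw [← map_mul]
    exact (QuotientGroup.eq_one_iff _).2 (hinv x hx).1
  have hba : π x * π c * (π x)⁻¹ = (π c)⁻¹ := by
    refine (inv_eq_of_mul_eq_one_right ?_).symm
    rw [← map_inv, ← map_mul, ← map_mul, ← map_mul]
    exact (QuotientGroup.eq_one_iff _).2 ((hinv x hx).2 c hc')
  have hnot : π x ∉ Subgroup.zpowers (π c) := by
    rw [← MonoidHom.map_zpowers, ← hzp]
    rintro ⟨d, hd, hdx⟩
    have h1 : d⁻¹ * x ∈ Subgroup.center X := QuotientGroup.eq.1 hdx
    have := mul_mem hd (hnt h1)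
    rw [mul_inv_cancel_left] at this
    exact hx this
  obtain ⟨e⟩ := Lib.TwoGroup.nonempty_mulEquiv_dihedral hcard hb hba hnot ⊤
    (Subgroup.mem_top _) (Subgroup.mem_top _) (fun g _ => by
      obtain ⟨g, rfl⟩ := QuotientGroup.mk'_surjective _ g
      by_cases hg : g ∈ C
      · left
        rw [← MonoidHom.map_zpowers, ← hzp]
        exact Subgroup.mem_map_of_mem _ hg
      · right
        rw [← map_mul, ← MonoidHom.map_zpowers, ← hzp]
        refine Subgroup.mem_map_of_mem _ ?_
        rw [Subgroup.mul_mem_iff_of_index_two hCi]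
        exact ⟨fun h => absurd h hx, fun h => absurd h hg⟩)
  exact ⟨Subgroup.topEquiv.symm.trans e⟩

end Cfsg.Agent.S0114
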