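import Cfsg.Statements.S0118
import Mathlib
import Cfsg.Agent.Lib.ThompsonNPC.ZJControl
import Cfsg.Agent.Lib.Qd.Basic

set_option autoImplicit false
open Cfsg

namespace Cfsg.Agent.S0118

/-- Glauberman's ZJ-Theorem, in the case of groups with no section isomorphic to SL(2,p), p odd: conjugation of subsets of a Sylow p-subgroup P inside P is always induced from the normalizer of Z(J(P)). -/
theorem result {G : Type*} [Group G] [Finite G] {p : ℕ} [Fact p.Prime] (hp : p ≠ 2) (hfree : ¬ ∃ (H K : Subgroup G) (hK : (K.subgroupOf H).Normal), Nonempty ((H ⧸ K.subgroupOf H) ≃* Matrix.SpecialLinearGroup (Fin 2) (ZMod p))) (P : Sylow p G) (A : Set G) (hA : A ⊆ (P : Set G)) (g : G) (hAg : (fun a => g⁻¹ * a * g) '' A ⊆ (P : Set G)) : ∃ n ∈ Subgroup.normalizer (Cfsg.centerThompsonOf p (P : Subgroup G) : Set G), ∀ a ∈ A, n⁻¹ * a * n = g⁻¹ * a * g := by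
  have hqd : ¬ Cfsg.Involves (Cfsg.qd p) G := fun h => by
    obtain ⟨K, f, hf⟩ := Lib.ThompsonNPC.exists_hom_of_involves h
    let e : Cfsg.qd p →* Cfsg.qdOver (ZMod p) :=
      (MulEquiv.subgroupCongr (Cfsg.Agent.Lib.Qd.qd_eq p)).toMonoidHom
    obtain ⟨H, R, hn, he⟩ := Lib.ThompsonNPC.involves_of_hom_surjective K
      (((Cfsg.Agent.Lib.Qd.blockHom (F := ZMod p)).comp e).comp f)
      ((Cfsg.Agent.Lib.Qd.blockHom_surjective.comp (MulEquiv.surjective _)).comp hf)
    exact hfree ⟨H, R, hn, he⟩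
  exact Lib.ThompsonNPC.controls_of_not_involves hp G hqd P A g hA hAg

end Cfsg.Agent.S0118
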