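import Cfsg.Statements.S0119
import Mathlib
import Cfsg.Agent.Lib.PGroup.Frattini

set_option autoImplicit false
open Cfsg
open scoped commutatorElement

namespace Cfsg.Agent.S0119

/-- If a p'-group A of automorphisms of a p-group G satisfies G = [G, A] and acts trivially on every characteristic abelian subgroup, then G is special with centre equal to the fixed points of A. -/
theorem result {G : Type*} [Group G] [Finite G] {p : ℕ} [Fact p.Prime] (hG : IsPGroup p G) (A : Subgroup (MulAut G)) (hA : Nat.Coprime (Nat.card A) p) (hGA : Subgroup.closure {x : G | ∃ g : G, ∃ a ∈ A, x = g⁻¹ * a g} = ⊤) (hchar : ∀ H : Subgroup G, H.Characteristic → IsMulCommutative H → ∀ a ∈ A, ∀ h ∈ H, a h = h) : Cfsg.IsSpecial p G ∧ (∀ g : G, (g ∈ Subgroup.center G ↔ ∀ a ∈ A, a g = g)) := by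
  classical
  have hp : p.Prime := Fact.out
  have := hG.isNilpotent
  -- generators
  have hgen : ∀ {M : Subgroup G}, (∀ g : G, ∀ a ∈ A, g⁻¹ * a g ∈ M) → M = ⊤ := by
    intro M hM
    rw [← top_le_iff, ← hGA, Subgroup.closure_le]
    rintro x ⟨g, a, ha, rfl⟩
    exact hM g a ha
  -- characteristic abelian subgroups are central
  have hcen : ∀ H : Subgroup G, H.Characteristic → IsMulCommutative H → H ≤ Subgroup.center G := by
    intro H hH hHc h hh
    have hHn : H.Normal := inferInstance
    have hall : Subgroup.centralizer ({h} : Set G) = ⊤ := hgen fun g a ha => by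
      rw [Subgroup.mem_centralizer_iff]
      rintro x (rfl : x = h)
      have e1 := hchar H hH hHc a ha _ (hHn.conj_mem x hh g)
      rw [map_mul, map_mul, map_inv, hchar H hH hHc a ha x hh] at e1
      calc x * (g⁻¹ * a g) = g⁻¹ * (g * x * g⁻¹) * a g := by group
        _ = g⁻¹ * (a g * x * (a g)⁻¹) * a g := by rw [e1]
        _ = _ := by group
    rw [Subgroup.mem_center_iff]
    intro g
    have : g ∈ Subgroup.centralizer ({h} : Set G) := by rw [hall]; exact Subgroup.mem_top g
    exact (Subgroup.mem_centralizer_iff.1 this h rfl).symm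
  -- class at most two
  have hclass : commutator G ≤ Subgroup.center G := by
    obtain ⟨N, hN⟩ := Subgroup.nilpotent_iff_lowerCentralSeries.1 hG.isNilpotent
    set L := (⊤ : Subgroup G).lowerCentralSeries with hL
    have hsucc : ∀ i, L (i + 1) = ⁅L i, (⊤ : Subgroup G)⁆ :=
      Subgroup.lowerCentralSeries_succ _
    have hstep : ∀ k, L (k + 3) = ⊥ → L (k + 2) = ⊥ := by
      intro k hk
      have h1 : L (k + 1) ≤ L 1 := Subgroup.lowerCentralSeries_antitone _ (by omega)
      have h2 : ⁅L (k + 1), commutator G⁆ = ⊥ := by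
        have e : ⁅⁅L (k + 1), (⊤ : Subgroup G)⁆, (⊤ : Subgroup G)⁆ = ⊥ := by
          rw [← hsucc, ← hsucc]; exact hk
        rw [Subgroup.commutator_comm, commutator_def]
        refine Subgroup.commutator_commutator_eq_bot_of_rotate ?_ e
        rw [Subgroup.commutator_comm (⊤ : Subgroup G) (L (k + 1))]
        exact e
      have hc : IsMulCommutative (L (k + 1)) := by
        refine ⟨⟨fun a b => Subtype.ext ?_⟩⟩
        have hh : ⁅(a : G), (b : G)⁆ ∈ ⁅L (k + 1), commutator G⁆ :=
          Subgroup.commutator_mem_commutator a.2 (h1 b.2 : (b : G) ∈ commutator G)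
        rw [h2, Subgroup.mem_bot, commutatorElement_eq_one_iff_mul_comm] at hh
        exact hh
      have hchL : (L (k + 1)).Characteristic := by rw [hL]; infer_instance
      have := hcen (L (k + 1)) hchL hc
      rw [hsucc (k + 1)]
      exact Subgroup.commutator_top_right_eq_bot_iff_le_center.2 this
    have hdown : ∀ k, L (k + 2) = ⊥ → L 2 = ⊥ := by
      intro k
      induction k with
      | zero => exact id
      | succ k ih => exact fun hk => ih (hstep k hk)
    have hN2 : L 2 = ⊥ := hdown N (le_bot_iff.1 (hN ▸ Subgroup.lowerCentralSeries_antitone _ (by omega)))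
    exact Subgroup.commutator_top_right_eq_bot_iff_le_center.1 hN2
  have hZchar : ∀ a ∈ A, ∀ z ∈ Subgroup.center G, a z = z :=
    hchar _ inferInstance inferInstance
  -- fixed points lie in the derived group
  have hfix : ∀ g : G, (∀ a ∈ A, a g = g) → g ∈ commutator G := by
    intro g hg
    have := Fintype.ofFinite A
    let N : G →* Abelianization G :=
      { toFun := fun g => ∏ a : A, Abelianization.of ((a : MulAut G) g)
        map_one' := by simp
        map_mul' := fun u v => by simp [Finset.prod_mul_distrib] }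
    have hker : ∀ g : G, ∀ a ∈ A, g⁻¹ * a g ∈ N.ker := by
      intro g a ha
      rw [MonoidHom.mem_ker, map_mul, map_inv, inv_mul_eq_one]
      show ∏ b : A, Abelianization.of ((b : MulAut G) g) = ∏ b : A, Abelianization.of ((b : MulAut G) (a g))
      refine (Equiv.prod_comp (Equiv.mulRight (⟨a, ha⟩ : A))
        (fun b : A => Abelianization.of ((b : MulAut G) g))).symm.trans ?_
      exact Finset.prod_congr rfl fun b _ => rfl
    have hN : g ∈ N.ker := by rw [hgen hker]; exact Subgroup.mem_top g
    rw [MonoidHom.mem_ker] at hN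
    have hN' : Abelianization.of g ^ Nat.card A = 1 := by
      rw [← hN]
      show _ = ∏ b : A, Abelianization.of ((b : MulAut G) g)
      rw [Finset.prod_congr rfl (fun b _ => by rw [hg b b.2]), Finset.prod_const, Finset.card_univ,
        Nat.card_eq_fintype_card]
    obtain ⟨k, hk⟩ := hG g
    have hk' : Abelianization.of g ^ p ^ k = 1 := by rw [← map_pow, hk, map_one]
    have := Nat.eq_one_of_dvd_coprimes (hA.pow_right k) (orderOf_dvd_of_pow_eq_one hN')
      (orderOf_dvd_of_pow_eq_one hk')
    exact (QuotientGroup.eq_one_iff g).1 (orderOf_eq_one_iff.1 this)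
  have hZG' : Subgroup.center G ≤ commutator G := fun z hz =>
    hfix z fun a ha => hZchar a ha z hz
  have hcomm : commutator G = Subgroup.center G := le_antisymm hclass hZG'
  -- `p`-th powers are central
  have hpow : ∀ x : G, x ^ p ∈ Subgroup.center G := by
    have hcpow : ∀ (x y : G) (n : ℕ), x * y ^ n * x⁻¹ * (y ^ n)⁻¹ = (x * y * x⁻¹ * y⁻¹) ^ n := by
      intro x y n
      have hc : x * y * x⁻¹ * y⁻¹ ∈ Subgroup.center G :=
        hclass (Subgroup.commutator_mem_commutator (Subgroup.mem_top x) (Subgroup.mem_top y))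
      induction n with
      | zero => simp
      | succ n ih =>
        rw [pow_succ' y, pow_succ' (x * y * x⁻¹ * y⁻¹), mul_inv_rev, ← ih]
        have hc' := Subgroup.mem_center_iff.1 hc
        calc x * (y * y ^ n) * x⁻¹ * ((y ^ n)⁻¹ * y⁻¹)
            = (x * y * x⁻¹ * y⁻¹) * y * (x * y ^ n * x⁻¹ * (y ^ n)⁻¹) * y⁻¹ := by group
          _ = (x * y * x⁻¹ * y⁻¹) * (y * (x * y ^ n * x⁻¹ * (y ^ n)⁻¹)) * y⁻¹ := by group
          _ = (x * y * x⁻¹ * y⁻¹) * ((x * y ^ n * x⁻¹ * (y ^ n)⁻¹) * y) * y⁻¹ := by
              have hz : x * y ^ n * x⁻¹ * (y ^ n)⁻¹ ∈ Subgroup.center G :=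
                hclass (Subgroup.commutator_mem_commutator (Subgroup.mem_top x)
                  (Subgroup.mem_top (y ^ n)))
              rw [Subgroup.mem_center_iff.1 hz y]
          _ = _ := by group
    have hdesc : ∀ e, (∀ x : G, x ^ p ^ (e + 2) ∈ Subgroup.center G) →
        ∀ x : G, x ^ p ^ (e + 1) ∈ Subgroup.center G := by
      intro e he
      set S : Set G := {z | ∃ x : G, z = x ^ p ^ (e + 1)} with hS
      have hSc : ∀ a ∈ S, ∀ b ∈ S, a * b = b * a := by
        rintro _ ⟨x, rfl⟩ _ ⟨y, rfl⟩
        set q := p ^ (e + 1)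
        rw [← mul_inv_eq_iff_eq_mul, ← mul_inv_eq_one, hcpow]
        have hcq : (x * y ^ q) * (x ^ q)⁻¹ = x * y ^ q * (x ^ q)⁻¹ := rfl
        have h1 : (x ^ q * y * (x ^ q)⁻¹ * y⁻¹) ^ q = x ^ q * y ^ q * (x ^ q)⁻¹ * (y ^ q)⁻¹ :=
          (hcpow (x ^ q) y q).symm
        have h2 : x ^ q * y * (x ^ q)⁻¹ * y⁻¹ = ((y * x * y⁻¹ * x⁻¹) ^ q)⁻¹ := by
          rw [← hcpow y x q]; group
        rw [h2, inv_pow, ← pow_mul, ← hcpow y x (q * q)]
        have hbig : x ^ (q * q) ∈ Subgroup.center G := by
          have hq : q * q = p ^ (e + 2) * p ^ e := by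
            rw [← pow_add, ← pow_add]; congr 1; omega
          rw [hq, pow_mul]
          exact pow_mem (he x) _
        rw [Subgroup.mem_center_iff.1 hbig y]
        group
      have hchS : (Subgroup.closure S).Characteristic := by
        rw [Subgroup.characteristic_iff_map_le]
        intro φ
        rw [MonoidHom.map_closure, Subgroup.closure_le]
        rintro _ ⟨_, ⟨x, rfl⟩, rfl⟩
        exact Subgroup.subset_closure ⟨φ x, by simp⟩
      intro x
      exact hcen _ hchS (Subgroup.isMulCommutative_closure hSc)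
        (Subgroup.subset_closure ⟨x, rfl⟩)
    obtain ⟨k, hk⟩ := hG.exists_card_eq
    have hdown : ∀ e, (∀ x : G, x ^ p ^ (e + 1) ∈ Subgroup.center G) →
        ∀ x : G, x ^ p ^ 1 ∈ Subgroup.center G := by
      intro e
      induction e with
      | zero => exact id
      | succ e ih => exact fun he => ih (hdesc e he)
    intro x
    have := hdown k (fun x => by
      rw [pow_succ, pow_mul, ← hk, pow_card_eq_one', one_pow]
      exact one_mem _) x
    rwa [pow_one] at this
  refine ⟨⟨hG, le_antisymm ?_ ?_, hcomm⟩, fun g => ⟨fun hg a ha => hZchar a ha g hg,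
    fun hg => hclass (hfix g hg)⟩⟩
  · exact Lib.PFrattini.frattini_le hclass hpow
  · exact hcomm ▸ Lib.PFrattini.commutator_le_frattini hG

end Cfsg.Agent.S0119
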