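import Cfsg.Statements.S0120
import Mathlib
import Cfsg.Agent.Lib.CoprimeOmega.Basic

set_option autoImplicit false
open Cfsg

namespace Cfsg.Agent.S0120

/-- For odd p, a p'-automorphism of a p-group acting trivially on the elements of order dividing p is trivial. -/
theorem result {G : Type*} [Group G] [Finite G] {p : ℕ} [Fact p.Prime] (hp : p ≠ 2) (hG : IsPGroup p G) (a : MulAut G) (ha : Nat.Coprime (orderOf a) p) (h : ∀ x : G, x ^ p = 1 → a x = x) : a = 1 := by
  ext g
  let A : Subgroup (MulAut G) := Subgroup.zpowers a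
  let φ : A →* MulAut G := A.subtype
  let inl : G →* G ⋊[φ] A := SemidirectProduct.inl
  let b : G ⋊[φ] A := SemidirectProduct.inr ⟨a, Subgroup.mem_zpowers a⟩
  have hconj : ∀ x : G, b * inl x * b⁻¹ = inl (a x) := by
    intro x
    have e := SemidirectProduct.inl_aut (φ := φ) ⟨a, Subgroup.mem_zpowers a⟩ x
    rw [map_inv] at e
    exact e.symm
  have hb : (orderOf b).Coprime p := by
    rw [orderOf_injective _ (SemidirectProduct.inr_injective (φ := φ)), Subgroup.orderOf_mk]
    exact ha
  have hfin : Finite (G ⋊[φ] A) := Finite.of_equiv _ SemidirectProduct.equivProd.symm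
  have key := Lib.CoprimeOmega.commute_of_commute_order_p (G := G ⋊[φ] A) hp hb
    (D := inl.range) (hG.of_surjective inl.rangeRestrict inl.rangeRestrict_surjective)
    (by rintro _ ⟨x, rfl⟩; exact ⟨a x, (hconj x).symm⟩)
    (by
      rintro _ ⟨x, rfl⟩ hx
      rw [← map_pow, ← map_one inl] at hx
      have := h x (SemidirectProduct.inl_injective hx)
      have e := hconj x
      rw [this] at e
      exact mul_inv_eq_iff_eq_mul.1 e)
  have e := key (inl g) ⟨g, rfl⟩
  have e2 := hconj g
  rw [e, mul_inv_cancel_right] at e2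
  exact (SemidirectProduct.inl_injective e2).symm

end Cfsg.Agent.S0120
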