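import Cfsg.Statements.S0125
import Mathlib

set_option autoImplicit false
open Cfsg

namespace Cfsg.Agent.S0125

/-- The centralizer of a self-centralizing normal subgroup A of a Sylow p-subgroup is the direct product of A with a normal p'-subgroup. -/
theorem result {G : Type*} [Group G] [Finite G] {p : ℕ} [Fact p.Prime] (R : Sylow p G) (A : Subgroup G) (hAR : A ≤ (R : Subgroup G)) (hAn : (R : Subgroup G) ≤ Subgroup.normalizer (A : Set G)) (hC : (R : Subgroup G) ⊓ Subgroup.centralizer (A : Set G) = A) : ∃ H : Subgroup G, H ≤ Subgroup.centralizer (A : Set G) ∧ Nat.Coprime (Nat.card H) p ∧ Subgroup.centralizer (A : Set G) ≤ Subgroup.normalizer (H : Set G) ∧ H ⊓ A = ⊥ ∧ H ⊔ A = Subgroup.centralizer (A : Set G) := by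
  have hAC : A ≤ Subgroup.centralizer (A : Set G) := by
    conv_lhs => rw [← hC]
    exact inf_le_right
  set C := Subgroup.centralizer (A : Set G) with hCdef
  have hnorm : ∀ r ∈ (R : Subgroup G), ∀ c ∈ C, r * c * r⁻¹ ∈ C := by
    intro r hr c hc
    rw [hCdef, Subgroup.mem_centralizer_iff]
    intro a ha
    have hra : r⁻¹ * a * r ∈ A := by
      have h := Subgroup.mem_normalizer_iff.1 (hAn (inv_mem hr)) a
      rw [inv_inv] at h
      exact h.1 ha
    have e := Subgroup.mem_centralizer_iff.1 hc _ hra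
    calc a * (r * c * r⁻¹) = r * ((r⁻¹ * a * r) * c) * r⁻¹ := by group
      _ = r * (c * (r⁻¹ * a * r)) * r⁻¹ := by rw [e]
      _ = r * c * r⁻¹ * a := by group
  -- `A` is a Sylow subgroup of `C`
  have hA' : IsPGroup p (A.subgroupOf C) :=
    IsPGroup.of_equiv (R.2.to_le hAR) (Subgroup.subgroupOfEquivOfLe hAC).symm
  have hidx : ¬ p ∣ (A.subgroupOf C).index := by
    obtain ⟨S, hS⟩ := hA'.exists_le_sylow
    have hCN : C ≤ Subgroup.normalizer (A : Set G) := by
      intro c hc
      rw [Subgroup.mem_normalizer_iff]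
      intro a
      constructor
      · intro ha
        have h1 := Subgroup.mem_centralizer_iff.1 hc a ha
        rwa [← h1, mul_inv_cancel_right]
      · intro ha
        have h1 := Subgroup.mem_centralizer_iff.1 hc _ ha
        have h2 : c * a * c⁻¹ = a := by
          apply mul_left_cancel (a := c)
          calc c * (c * a * c⁻¹) = c * a * c⁻¹ * c := h1.symm
            _ = c * a := by group
        rwa [h2] at ha
    set N := Subgroup.normalizer (A : Set G) with hN
    let RN : Sylow p N := R.subtype hAn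
    have hTN : (S : Subgroup C).map C.subtype ≤ N := (Subgroup.map_subtype_le _).trans hCN
    have hT : IsPGroup p (((S : Subgroup C).map C.subtype).subgroupOf N) :=
      IsPGroup.of_equiv (S.2.map C.subtype) (Subgroup.subgroupOfEquivOfLe hTN).symm
    obtain ⟨Q, hQ⟩ := hT.exists_le_sylow
    obtain ⟨n, rfl⟩ := MulAction.exists_smul_eq N RN Q
    have hle : (S : Subgroup C) ≤ A.subgroupOf C := by
      intro s hs
      rw [Subgroup.mem_subgroupOf]
      have hsN : (s : G) ∈ N := hCN s.2
      have hsQ : (⟨(s : G), hsN⟩ : N) ∈ (n • RN : Sylow p N).toSubgroup :=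
        hQ (Subgroup.mem_subgroupOf.2 ⟨s, hs, rfl⟩)
      rw [Sylow.coe_subgroup_smul, Subgroup.mem_pointwise_smul_iff_inv_smul_mem] at hsQ
      have hR' : (n : G)⁻¹ * s * n ∈ (R : Subgroup G) := by
        have hsQ' : ((MulAut.conj n)⁻¹ • (⟨(s : G), hsN⟩ : N) : N) ∈ (RN : Subgroup N) := hsQ
        simpa [RN, Sylow.coe_subtype, Subgroup.mem_subgroupOf, MulAut.inv_def, MulAut.smul_def]
          using hsQ'
      have hCn : (n : G)⁻¹ * s * n ∈ C := by
        refine Subgroup.mem_centralizer_iff.2 ?_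
        intro a ha
        have hna : (n : G) * a * (n : G)⁻¹ ∈ A := (Subgroup.mem_normalizer_iff.1 n.2 a).1 ha
        have e := Subgroup.mem_centralizer_iff.1 s.2 _ hna
        calc a * ((n : G)⁻¹ * s * n) = (n : G)⁻¹ * (((n : G) * a * (n : G)⁻¹) * s) * n := by group
          _ = (n : G)⁻¹ * (s * ((n : G) * a * (n : G)⁻¹)) * n := by rw [e]
          _ = (n : G)⁻¹ * s * n * a := by group
      have hA'' : (n : G)⁻¹ * s * n ∈ A := hC ▸ Subgroup.mem_inf.2 ⟨hR', hCn⟩
      have := (Subgroup.mem_normalizer_iff.1 n.2 _).1 hA''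
      rwa [show (n : G) * ((n : G)⁻¹ * s * n) * (n : G)⁻¹ = s by group] at this
    rw [le_antisymm hS hle]
    exact S.not_dvd_index
  let S : Sylow p C := hA'.toSylow hidx
  have hS : Subgroup.normalizer (S : Set C) ≤ Subgroup.centralizer (S : Set C) := by
    intro g _
    rw [Subgroup.mem_centralizer_iff]
    intro a ha
    exact Subtype.ext (Subgroup.mem_centralizer_iff.1 g.2 _ ha)
  have hcompl := MonoidHom.ker_transferSylow_isComplement' S hS
  have hnd := MonoidHom.not_dvd_card_ker_transferSylow S hS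
  set K := (MonoidHom.transferSylow S hS).ker with hK
  have hKn : K.Normal := inferInstance
  have hScoe : (S : Subgroup C) = A.subgroupOf C := rfl
  refine ⟨K.map C.subtype, Subgroup.map_subtype_le K, ?_, ?_, ?_, ?_⟩
  · rw [Subgroup.card_map_of_injective C.subtype_injective]
    exact ((Fact.out : p.Prime).coprime_iff_not_dvd.2 hnd).symm
  · have key : ∀ (c : C) (h : G), h ∈ K.map C.subtype →
        (c : G) * h * (c : G)⁻¹ ∈ K.map C.subtype := by
      intro c h hh
      obtain ⟨k, hk, rfl⟩ := Subgroup.mem_map.1 hh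
      refine Subgroup.mem_map.2 ⟨c * k * c⁻¹, hKn.conj_mem k hk c, ?_⟩
      simp only [Subgroup.coe_subtype, Subgroup.coe_mul, Subgroup.coe_inv]
    intro c hc
    rw [Subgroup.mem_normalizer_iff]
    intro h
    refine ⟨key ⟨c, hc⟩ h, fun hh => ?_⟩
    have := key ⟨c⁻¹, inv_mem hc⟩ _ hh
    simp only [inv_inv] at this
    rwa [show c⁻¹ * (c * h * c⁻¹) * c = h by group] at this
  · have hd := hcompl.disjoint
    rw [hScoe] at hd
    rw [Subgroup.eq_bot_iff_forall]
    rintro x ⟨⟨k, hk, rfl⟩, hxA⟩
    have := Subgroup.disjoint_def.1 hd hk (Subgroup.mem_subgroupOf.2 hxA)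
    simp [this]
  · have hd := congrArg (Subgroup.map C.subtype) hcompl.sup_eq_top
    rwa [Subgroup.map_sup, hScoe, Subgroup.map_subgroupOf_eq_of_le hAC,
      ← MonoidHom.range_eq_map, Subgroup.range_subtype] at hd

end Cfsg.Agent.S0125
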