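import Cfsg.Statements.S0131
import Mathlib

set_option autoImplicit false
open Cfsg
open scoped commutatorElement

namespace Cfsg.Agent.S0131

/-- P/P' has a normal complement in G exactly when the focal subgroup G' ∩ P is as small as possible, namely P'. -/
theorem result {G : Type*} [Group G] [Finite G] {p : ℕ} [Fact p.Prime] (P : Sylow p G) : (∃ N : Subgroup G, N.Normal ∧ N ⊓ (P : Subgroup G) = ⁅(P : Subgroup G), (P : Subgroup G)⁆ ∧ N ⊔ (P : Subgroup G) = ⊤) ↔ commutator G ⊓ (P : Subgroup G) = ⁅(P : Subgroup G), (P : Subgroup G)⁆ := by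
  constructor
  · rintro ⟨N, hN, hinf, hsup⟩
    apply le_antisymm
    · have hle : commutator G ≤ N ⊔ ⁅(P : Subgroup G), (P : Subgroup G)⁆ := by
        rw [commutator_def]
        nth_rewrite 1 [← hsup]
        nth_rewrite 1 [← hsup]
        rw [Subgroup.commutator_le]
        intro a ha b hb
        rw [← SetLike.mem_coe, Subgroup.normal_mul] at ha hb
        obtain ⟨n, hn, q, hq, rfl⟩ := Set.mem_mul.1 ha
        obtain ⟨n', hn', q', hq', rfl⟩ := Set.mem_mul.1 hb
        rw [← hinf, sup_eq_left.2 inf_le_left]
        have hPc : ⁅q, q'⁆ ∈ N := by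
          have : ⁅q, q'⁆ ∈ N ⊓ (P : Subgroup G) := by
            rw [hinf]; exact Subgroup.commutator_mem_commutator hq hq'
          exact this.1
        have e : (QuotientGroup.mk' N) ⁅n * q, n' * q'⁆ = (QuotientGroup.mk' N) ⁅q, q'⁆ := by
          have h1 : (QuotientGroup.mk' N) n = 1 := (QuotientGroup.eq_one_iff n).2 hn
          have h2 : (QuotientGroup.mk' N) n' = 1 := (QuotientGroup.eq_one_iff n').2 hn'
          simp only [map_commutatorElement, map_mul, h1, h2, one_mul]
        have h3 : (QuotientGroup.mk' N) ⁅q, q'⁆ = 1 := (QuotientGroup.eq_one_iff _).2 hPc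
        rw [h3] at e
        exact (QuotientGroup.eq_one_iff _).1 e
      rw [← hinf, sup_eq_left.2 inf_le_left] at hle
      rw [← hinf]
      exact inf_le_inf_right _ hle
    · exact le_inf (commutator_def G ▸ Subgroup.commutator_mono le_top le_top)
        (Subgroup.commutator_le.2 fun a ha b hb => by
          rw [commutatorElement_def]
          exact mul_mem (mul_mem (mul_mem ha hb) (inv_mem ha)) (inv_mem hb))
  · intro h
    refine ⟨(P : Subgroup G).transferFocal.ker, inferInstance, ?_, ?_⟩
    · rw [Subgroup.ker_transferFocal_inf_eq_focalSubgroup,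
        ← Subgroup.commutator_inf_eq_focalSubgroup, h]
    · rw [eq_top_iff]
      intro g _
      obtain ⟨x, hx⟩ := Subgroup.focalSubgroupOf.pow_index_surjective P
        ((P : Subgroup G).transferFocal g)
      obtain ⟨x, rfl⟩ := QuotientGroup.mk'_surjective _ x
      simp only [QuotientGroup.mk'_apply] at hx
      rw [← Subgroup.transferFocal_eq_pow] at hx
      have hmem : g * (x : G)⁻¹ ∈ (P : Subgroup G).transferFocal.ker := by
        rw [MonoidHom.mem_ker, map_mul, map_inv, hx, mul_inv_cancel]
      rw [show g = g * (x : G)⁻¹ * x by group]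
      exact mul_mem (Subgroup.mem_sup_left hmem) (Subgroup.mem_sup_right x.2)

end Cfsg.Agent.S0131
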