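import Cfsg.Statements.S0167
import Cfsg.Agent.Lib.Chars.Completeness

set_option autoImplicit false
open Cfsg

namespace Cfsg.Agent.S0167

open scoped ComplexConjugate


/-- An element g of a finite group is a commutator if and only if the sum over the irreducible characters χ of χ g / χ 1 is nonzero. -/
theorem result {G : Type*} [Group G] [Finite G] (g : G) : (∃ a b : G, g = a * b * a⁻¹ * b⁻¹) ↔ ∑ᶠ χ : Cfsg.IrrCharacter G, (χ : G → ℂ) g / (χ : G → ℂ) 1 ≠ 0 := by
  classical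
  cases nonempty_fintype G
  rw [Cfsg.Agent.Lib.Chars.finsum_irr]
  have hcount : ((Finset.univ.filter fun x : G × G => g = x.1 * x.2 * x.1⁻¹ * x.2⁻¹).card : ℂ)
      = (Nat.card G : ℂ) * ∑ χ : Cfsg.IrrCharacter G, (χ : G → ℂ) g / (χ : G → ℂ) 1 := by
    rw [Finset.natCast_card_filter, Fintype.sum_prod_type, Finset.mul_sum]
    have hrow : ∀ a : G, ∑ b : G, (if g = a * b * a⁻¹ * b⁻¹ then (1 : ℂ) else 0)
        = ∑ χ : Cfsg.IrrCharacter G, (χ : G → ℂ) (a⁻¹ * g) * conj ((χ : G → ℂ) a⁻¹) := by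
      intro a
      rw [Cfsg.Agent.Lib.Chars.column_orthogonality_eq]
      by_cases hc : IsConj a⁻¹ (a⁻¹ * g)
      · rw [Cfsg.Agent.Lib.Chars.classIndicator, if_pos hc, mul_one, Finset.sum_boole,
          Nat.card_eq_fintype_card, ← Fintype.card_subtype]
        congr 1
        obtain ⟨b₀, hb₀⟩ := isConj_iff.mp hc
        refine Fintype.card_congr
          { toFun := fun b => ⟨b₀⁻¹ * b.1, ?_⟩
            invFun := fun c => ⟨b₀ * c.1, ?_⟩
            left_inv := fun b => Subtype.ext (by simp)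
            right_inv := fun c => Subtype.ext (by simp) }
        · have hb : b.1 * a⁻¹ * b.1⁻¹ = b₀ * a⁻¹ * b₀⁻¹ := by
            rw [hb₀]
            calc b.1 * a⁻¹ * b.1⁻¹ = a⁻¹ * (a * b.1 * a⁻¹ * b.1⁻¹) := by group
              _ = a⁻¹ * g := congrArg _ b.2.symm
          rw [Subgroup.mem_centralizer_singleton_iff]
          calc b₀⁻¹ * b.1 * a⁻¹ = b₀⁻¹ * (b.1 * a⁻¹ * b.1⁻¹) * b.1 := by group
            _ = a⁻¹ * (b₀⁻¹ * b.1) := by rw [hb]; group
        · have h := Subgroup.mem_centralizer_singleton_iff.mp c.2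
          have h' : (b₀ * c.1) * a⁻¹ * (b₀ * c.1)⁻¹ = a⁻¹ * g := by
            rw [← hb₀]
            calc b₀ * c.1 * a⁻¹ * (b₀ * c.1)⁻¹ = b₀ * (c.1 * a⁻¹) * c.1⁻¹ * b₀⁻¹ := by group
              _ = b₀ * a⁻¹ * b₀⁻¹ := by rw [h]; group
          calc g = a * (a⁻¹ * g) := by group
            _ = _ := by rw [← h']; group
      · rw [Cfsg.Agent.Lib.Chars.classIndicator, if_neg hc, mul_zero]
        refine Finset.sum_eq_zero fun b _ => if_neg fun hb => hc (isConj_iff.mpr ⟨b, ?_⟩)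
        rw [hb]; group
    rw [Finset.sum_congr rfl fun a _ => hrow a, Finset.sum_comm]
    refine Finset.sum_congr rfl fun χ _ => ?_
    obtain ⟨n, ρ, hρ, hχ⟩ := χ.2
    rw [← hχ, ← mul_div_assoc]
    have hcf : Cfsg.IsClassFunction G ρ.character := fun x k => ρ.char_conj x k
    obtain ⟨c, hc⟩ := Cfsg.Agent.Lib.Chars.exists_scalar_of_commute ρ _
      (Cfsg.Agent.Lib.Chars.classSumEnd_comm ρ hcf)
    have htr := Cfsg.Agent.Lib.Chars.trace_classSumEnd ρ ρ.character
    rw [Cfsg.Agent.Lib.Chars.classInner_self_of_irreducible, mul_one, hc, map_smul,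
      LinearMap.trace_one, smul_eq_mul] at htr
    have hd : (Module.finrank ℂ (Fin n → ℂ) : ℂ) ≠ 0 :=
      Nat.cast_ne_zero.mpr (Cfsg.Agent.Lib.Chars.finrank_pos_of_isIrreducible ρ).ne'
    rw [eq_div_iff (by rw [Representation.char_one]; exact hd), Representation.char_one, ← htr]
    have hT : ∑ a : G, ρ.character (a⁻¹ * g) * conj (ρ.character a⁻¹) = c * ρ.character g := by
      have h1 : LinearMap.trace ℂ _ (Cfsg.Agent.Lib.Chars.classSumEnd ρ ρ.character * ρ g)
          = c * ρ.character g := by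
        rw [hc, smul_mul_assoc, one_mul, map_smul, smul_eq_mul]; rfl
      rw [← h1, Cfsg.Agent.Lib.Chars.classSumEnd, Finset.sum_mul, map_sum]
      refine Finset.sum_congr rfl fun a _ => ?_
      rw [← Cfsg.Agent.Lib.Chars.char_inv ρ a⁻¹, inv_inv, smul_mul_assoc, ← map_mul, map_smul,
        smul_eq_mul, mul_comm]
      rfl
    rw [hT]; ring
  constructor
  · rintro ⟨a, b, rfl⟩ h0
    rw [h0, mul_zero, Nat.cast_eq_zero, Finset.card_eq_zero] at hcount
    have : (a, b) ∈ (Finset.univ.filter fun x : G × G =>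
        a * b * a⁻¹ * b⁻¹ = x.1 * x.2 * x.1⁻¹ * x.2⁻¹) := by simp
    rw [hcount] at this
    simp at this
  · intro h
    have hpos : (Finset.univ.filter fun x : G × G => g = x.1 * x.2 * x.1⁻¹ * x.2⁻¹).Nonempty := by
      rw [← Finset.card_ne_zero]
      intro h0
      rw [h0, Nat.cast_zero, eq_comm, mul_eq_zero] at hcount
      exact h (hcount.resolve_left Cfsg.Agent.Lib.Chars.natCard_ne_zero)
    obtain ⟨x, hx⟩ := hpos
    exact ⟨x.1, x.2, (Finset.mem_filter.mp hx).2⟩

end Cfsg.Agent.S0167
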