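import Cfsg.Statements.S0168
import Cfsg.Agent.Lib.Chars.Integral

set_option autoImplicit false
open Cfsg

namespace Cfsg.Agent.S0168

open Cfsg.Agent.Lib
open scoped ComplexConjugate


/-- The Burnside–Brauer Theorem. Let χ be the character of a faithful complex representation of a finite group, taking m distinct values. Then every irreducible character has nonzero inner product with χ ^ i for some i < m. -/
theorem result {G : Type*} [Group G] [Fintype G] {V : Type*} [AddCommGroup V] [Module ℂ V] [FiniteDimensional ℂ V] (ρ : Representation ℂ G V) (hfaithful : Function.Injective ρ) (ψ : G → ℂ) (hψ : Cfsg.IsIrrCharacter G ψ) : ∃ i : ℕ, i < Nat.card (Set.range ρ.character) ∧ Cfsg.classInner (fun g => ρ.character g ^ i) ψ ≠ 0 := by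
  classical
  by_contra hne
  push Not at hne
  set χ := ρ.character with hχdef
  set T : Finset ℂ := (Finset.univ : Finset G).image χ with hT
  have hTcard : T.card = Nat.card (Set.range χ) := by
    rw [Nat.card_coe_set_eq, ← Set.ncard_coe_finset, hT, Finset.coe_image, Finset.coe_univ,
      Set.image_univ]
  have hmem : χ 1 ∈ T := Finset.mem_image.mpr ⟨1, Finset.mem_univ _, rfl⟩
  set L := Lagrange.basis T id (χ 1) with hL
  have hdeg : L.natDegree < T.card := by
    rw [hL, Lagrange.natDegree_basis (Set.injOn_id _) hmem]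
    exact Nat.sub_lt (Finset.card_pos.mpr ⟨_, hmem⟩) Nat.one_pos
  have h0 : ∑ g : G, L.eval (χ g) * conj (ψ g) = 0 := by
    simp only [Polynomial.eval_eq_sum_range' hdeg, Finset.sum_mul]
    rw [Finset.sum_comm]
    refine Finset.sum_eq_zero fun i hi => ?_
    have := hne i (hTcard ▸ Finset.mem_range.mp hi)
    rw [Cfsg.classInner, mul_eq_zero, inv_eq_zero] at this
    simp only [mul_assoc, ← Finset.mul_sum]
    rw [this.resolve_left Chars.natCard_ne_zero, mul_zero]
  rw [Finset.sum_eq_single 1] at h0
  · have hself := Lagrange.eval_basis_self (v := id) (Set.injOn_id (T : Set ℂ)) hmem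
    simp only [id] at hself
    rw [hL, hself, one_mul] at h0
    exact Chars.irr_apply_one_ne_zero ⟨ψ, hψ⟩ ((map_eq_zero _).mp h0)
  · intro g _ hg
    have hne' : χ 1 ≠ χ g := fun h => hg (hfaithful (by
      rw [map_one, (Chars.char_eq_finrank_iff ρ g).mp (h.symm.trans ρ.char_one)]
      rfl))
    have := Lagrange.eval_basis_of_ne (v := id) hne' (Finset.mem_image.mpr ⟨g, Finset.mem_univ _, rfl⟩ : χ g ∈ T)
    simp only [id] at this
    rw [hL, this, zero_mul]
  · simp

end Cfsg.Agent.S0168
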