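import Cfsg.Statements.S0170
import Cfsg.Agent.Lib.Chars.TI
import Cfsg.Agent.S0198

set_option autoImplicit false
open Cfsg

namespace Cfsg.Agent.S0170

open Cfsg.Agent.Lib


/-- Exceptional characters. Let S be a subset of a finite group contained in its normalizer N and meeting its conjugates by elements outside N only in the identity. Given n ≥ 2 distinct irreducible characters of N of equal degree that vanish on N away from S, there exist a sign ε and n distinct irreducible characters θ_i of G such that inducing χ_i − χ_j to G gives ε (θ_i − θ_j) for all i, j. -/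
theorem result {G : Type*} [Group G] [Fintype G] (S : Set G) (hSN : S ⊆ Subgroup.normalizer S) (hTI : ∀ g : G, g ∉ Subgroup.normalizer S → ∀ s ∈ S, g * s * g⁻¹ ∈ S → s = 1) (n : ℕ) (hn : 2 ≤ n) (χ : Fin n → (Subgroup.normalizer S → ℂ)) (hirr : ∀ i, Cfsg.IsIrrCharacter (Subgroup.normalizer S) (χ i)) (hinj : Function.Injective χ) (hvan : ∀ i, ∀ x : Subgroup.normalizer S, (x : G) ∉ S → χ i x = 0) (hdeg : ∀ i j, χ i 1 = χ j 1) : ∃ ε : ℂ, (ε = 1 ∨ ε = -1) ∧ ∃ θ : Fin n → (G → ℂ), (∀ i, Cfsg.IsIrrCharacter G (θ i)) ∧ Function.Injective θ ∧ ∀ i j, Cfsg.indFun (Subgroup.normalizer S) (χ i) - Cfsg.indFun (Subgroup.normalizer S) (χ j) = ε • (θ i - θ j) := by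
  classical
  let N : Subgroup G := Subgroup.normalizer S
  let i₀ : Fin n := ⟨0, by omega⟩
  have hχcl : ∀ i, Cfsg.IsClassFunction N (χ i) := fun i =>
    Chars.irr_isClassFunction ⟨χ i, hirr i⟩
  let τ : Fin n → (G → ℂ) := fun i => Cfsg.indFun N (χ i) - Cfsg.indFun N (χ i₀)
  have hτ : ∀ i, τ i = Cfsg.indFun N (χ i - χ i₀) := fun i => (Chars.indFun_sub N _ _).symm
  have hgram : ∀ i j, i ≠ i₀ → j ≠ i₀ →
      Cfsg.classInner (τ i) (τ j) = if i = j then 2 else 1 := by
    intro i j hi hj
    rw [hτ, hτ, Chars.classInner_indFun_of_ti S hTI _ _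
      (Chars.isClassFunction_sub (hχcl j) (hχcl i₀))
      (fun x hx => by simp [hvan i x hx, hvan i₀ x hx])
      (fun x hx => by simp [hvan j x hx, hvan i₀ x hx])
      (by simp [hdeg i i₀])]
    have hirr' : ∀ a b, Cfsg.classInner (χ a) (χ b) = if a = b then 1 else 0 := by
      intro a b
      have h := Chars.classInner_irr (⟨χ a, hirr a⟩ : Cfsg.IrrCharacter N) ⟨χ b, hirr b⟩
      simpa [Subtype.ext_iff, hinj.eq_iff] using h
    rw [Chars.classInner_sub_left, Chars.classInner_sub_right, Chars.classInner_sub_right,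
      hirr', hirr', hirr', hirr', if_neg hi, if_neg (Ne.symm hj), if_pos rfl]
    split <;> norm_num
  obtain ⟨ε, hε, μ, hμ, hμinj, hμτ⟩ := Cfsg.Agent.S0198.result n i₀ τ (by simp [τ])
    (fun i => Chars.isGeneralizedCharacter_sub
      (Chars.isGeneralizedCharacter_of_isCharacter
        (Chars.isCharacter_indFun N (Chars.isCharacter_of_isIrrCharacter (hirr i))))
      (Chars.isGeneralizedCharacter_of_isCharacter
        (Chars.isCharacter_indFun N (Chars.isCharacter_of_isIrrCharacter (hirr i₀)))))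
    (fun i => by
      rw [hτ, Chars.indFun_one_eq]
      simp [hdeg i i₀])
    hgram
  refine ⟨ε, hε, μ, hμ, hμinj, fun i j => ?_⟩
  have h1 := hμτ i
  have h2 := hμτ j
  calc Cfsg.indFun N (χ i) - Cfsg.indFun N (χ j) = τ i - τ j := by simp [τ]
    _ = ε • (μ i - μ j) := by rw [h1, h2, ← smul_sub, sub_sub_sub_cancel_right]

end Cfsg.Agent.S0170
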