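import Cfsg.Statements.S0171
import Cfsg.Agent.Lib.Burnside.NormalInd
import Cfsg.Agent.Lib.Burnside.FixedIrr

set_option autoImplicit false
open Cfsg

namespace Cfsg.Agent.S0171

open Cfsg.Agent.Lib

/-- Every element of `K h` is `K`-conjugate to `h`. -/
theorem exists_conj_eq {G : Type*} [Group G] [Finite G] (K : Subgroup G) [K.Normal]
    {H : Subgroup G} (hfpf : ∀ h ∈ H, h ≠ 1 → ∀ k ∈ K, h * k = k * h → k = 1)
    (h : G) (hh : h ∈ H) (hh1 : h ≠ 1) (d : G) (hd : d ∈ K) :
    ∃ y ∈ K, y * h * y⁻¹ = d * h := by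
  let f : K → K := fun y => ⟨(y : G) * (h * (y : G)⁻¹ * h⁻¹),
    K.mul_mem y.2 (‹K.Normal›.conj_mem _ (K.inv_mem y.2) h)⟩
  have hf : Function.Injective f := by
    intro a b hab
    have hab' : (a : G) * (h * (a : G)⁻¹ * h⁻¹) = b * (h * (b : G)⁻¹ * h⁻¹) :=
      congrArg Subtype.val hab
    have := hfpf h hh hh1 ((b : G)⁻¹ * a) (K.mul_mem (K.inv_mem b.2) a.2) (by
      calc h * ((b : G)⁻¹ * a) = (b : G)⁻¹ * ((b : G) * (h * (b : G)⁻¹ * h⁻¹)) * h * a := by group
        _ = (b : G)⁻¹ * a * h := by rw [← hab']; group)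
    exact Subtype.ext (inv_mul_eq_one.mp this).symm
  obtain ⟨y, hy⟩ := (Finite.injective_iff_surjective.mp hf) ⟨d, hd⟩
  refine ⟨y, y.2, ?_⟩
  have hy' : (y : G) * (h * (y : G)⁻¹ * h⁻¹) = d := congrArg Subtype.val hy
  rw [← hy']; group


/-- Let G = K H with K normal, K ⊓ H trivial, and no non-identity element of H commuting with a non-identity element of K (a Frobenius group with kernel K and complement H). Then every non-principal irreducible character of K induces to an irreducible character of G. -/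
theorem result {G : Type*} [Group G] [Fintype G] (K H : Subgroup G) [K.Normal] (hKH : K ⊓ H = ⊥) (hKH' : K ⊔ H = ⊤) (hfpf : ∀ h ∈ H, h ≠ 1 → ∀ k ∈ K, h * k = k * h → k = 1) (τ : K → ℂ) (hτ : Cfsg.IsIrrCharacter K τ) (hτ1 : τ ≠ fun _ => 1) : Cfsg.IsIrrCharacter G (Cfsg.indFun K τ) := by
  classical
  have hc := Chars.isCharacter_indFun K (Chars.isCharacter_of_isIrrCharacter hτ)
  rw [Chars.isIrrCharacter_iff_classInner_eq_one hc, Burnside.classInner_indFun_irr K hτ hτ]
  have hcl := Chars.isClassFunction_of_isCharacter (Chars.isCharacter_of_isIrrCharacter hτ)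
  have hstab : ∀ x : G, Burnside.conjFun K x τ = τ ↔ x ∈ K := by
    intro x
    refine ⟨fun hx => ?_, fun hx => Burnside.conjFun_mem K τ hcl ⟨x, hx⟩⟩
    have hx' : x ∈ K ⊔ H := hKH' ▸ Subgroup.mem_top x
    rw [Subgroup.mem_sup_of_normal_left] at hx'
    obtain ⟨k, hk, h, hh, rfl⟩ := hx'
    by_contra hmem
    have hh1 : h ≠ 1 := fun e => hmem (by simpa [e] using hk)
    have hfix : Burnside.conjFun K h τ = τ := by
      calc Burnside.conjFun K h τ
          = Burnside.conjFun K h (Burnside.conjFun K k τ) := by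
            rw [show Burnside.conjFun K k τ = τ from Burnside.conjFun_mem K τ hcl ⟨k, hk⟩]
        _ = τ := by rw [Burnside.conjFun_conjFun]; exact hx
    let α : K ≃* K := (MulAut.conjNormal h : MulAut K)
    have hcls : Nat.card {C : ConjClasses K // ConjClasses.map α.toMonoidHom C = C} ≤ 1 := by
      refine Finite.card_le_one_iff_subsingleton.mpr ⟨?_⟩
      suffices hall : ∀ C : {C : ConjClasses K // ConjClasses.map α.toMonoidHom C = C},
          C.1 = ConjClasses.mk 1 from fun A B => Subtype.ext ((hall A).trans (hall B).symm)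
      rintro ⟨C, hC⟩
      obtain ⟨c, rfl⟩ := ConjClasses.exists_rep C
      obtain ⟨d, hd⟩ := isConj_iff.mp (ConjClasses.mk_eq_mk_iff_isConj.mp hC)
      have hd' : (d : G) * (h * c * h⁻¹) * (d : G)⁻¹ = (c : G) := congrArg Subtype.val hd
      obtain ⟨y, hy, hyd⟩ := exists_conj_eq K hfpf h hh hh1 d d.2
      have hcomm : h * (y⁻¹ * c * y) = (y⁻¹ * c * y) * h := by
        have e : h * (y⁻¹ * c * y) * h⁻¹ = y⁻¹ * c * y := by
          calc h * (y⁻¹ * c * y) * h⁻¹
              = y⁻¹ * ((y * h * y⁻¹) * c * (y * h * y⁻¹)⁻¹) * y := by group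
            _ = y⁻¹ * c * y := by
              rw [hyd, show (d : G) * h * c * ((d : G) * h)⁻¹ = c by
                conv_rhs => rw [← hd']
                group]
        exact mul_inv_eq_iff_eq_mul.mp e
      have h0 := hfpf h hh hh1 (y⁻¹ * c * y) (by simpa using ‹K.Normal›.conj_mem _ c.2 y⁻¹) hcomm
      have hc1 : c = 1 := Subtype.ext (by
        have : y * (y⁻¹ * c * y) * y⁻¹ = y * 1 * y⁻¹ := by rw [h0]
        simpa [mul_assoc] using this)
      exact congrArg ConjClasses.mk hc1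
    rw [← Burnside.card_fixed_irrCharacter α, Finite.card_le_one_iff_subsingleton] at hcls
    have h1 : ((Chars.trivialIrr K : Cfsg.IrrCharacter K) : K → ℂ) ∘ α = (Chars.trivialIrr K : K → ℂ) := rfl
    have h2 : ((⟨τ, hτ⟩ : Cfsg.IrrCharacter K) : K → ℂ) ∘ α = τ := by
      funext n
      exact congrFun hfix n
    have heq := congrArg Subtype.val (congrArg Subtype.val (hcls.elim ⟨_, h2⟩ ⟨_, h1⟩))
    exact hτ1 heq
  rw [Nat.card_congr (Equiv.subtypeEquivRight hstab), inv_mul_cancel₀]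
  exact Nat.cast_ne_zero.mpr Nat.card_pos.ne'

end Cfsg.Agent.S0171
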