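import Cfsg.Statements.S0172
import Cfsg.Agent.S0171
import Cfsg.Agent.Lib.Chars.Completeness

set_option autoImplicit false
open Cfsg

namespace Cfsg.Agent.S0172

open Cfsg.Agent.Lib

/-- The centraliser orders add up to the class number times the group order. -/
theorem sum_centralizer (L : Type*) [Group L] [Fintype L] :
    ∑ g : L, Nat.card (Subgroup.centralizer ({g} : Set L)) = Nat.card (ConjClasses L) * Nat.card L := by
  rw [← card_comm_eq_card_conjClasses_mul_card, ← Nat.card_sigma]
  exact Nat.card_congr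
    { toFun := fun x => ⟨(x.1, x.2.1),
        (Subgroup.mem_centralizer_singleton_iff.mp x.2.2).symm⟩
      invFun := fun p => ⟨p.1.1, p.1.2,
        Subgroup.mem_centralizer_singleton_iff.mpr p.2.symm⟩
      left_inv := fun x => rfl
      right_inv := fun p => rfl }

/-- A centraliser contained in a subgroup may be computed there. -/
theorem card_centralizer_subgroup {L : Type*} [Group L] {S : Subgroup L} (s : S)
    (h : Subgroup.centralizer ({(s : L)} : Set L) ≤ S) :
    Nat.card (Subgroup.centralizer ({s} : Set S)) = Nat.card (Subgroup.centralizer ({(s : L)} : Set L)) :=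
  Nat.card_congr
    { toFun := fun x => ⟨((x : S) : L), Subgroup.mem_centralizer_singleton_iff.mpr
        (congrArg Subtype.val (Subgroup.mem_centralizer_singleton_iff.mp x.2))⟩
      invFun := fun x => ⟨⟨x.1, h x.2⟩, Subgroup.mem_centralizer_singleton_iff.mpr
        (Subtype.ext (Subgroup.mem_centralizer_singleton_iff.mp x.2))⟩
      left_inv := fun x => rfl
      right_inv := fun x => rfl }


/-- Class number of a Frobenius group: if G = K H with K normal, K ⊓ H trivial and no non-identity element of H commuting with a non-identity element of K, then |H| * k(G) + 1 = |H| * k(H) + k(K), where k denotes the number of conjugacy classes. -/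
theorem result {G : Type*} [Group G] [Finite G] (K H : Subgroup G) [K.Normal] (hKH : K ⊓ H = ⊥) (hKH' : K ⊔ H = ⊤) (hfpf : ∀ h ∈ H, h ≠ 1 → ∀ k ∈ K, h * k = k * h → k = 1) : Nat.card H * Nat.card (ConjClasses G) + 1 = Nat.card H * Nat.card (ConjClasses H) + Nat.card (ConjClasses K) := by
  classical
  cases nonempty_fintype G
  have hcard : Nat.card K * Nat.card H = Nat.card G := by
    have hd : Disjoint K H := disjoint_iff.mpr hKH
    exact (Subgroup.isComplement'_of_disjoint_and_mul_eq_univ hd (by
      rw [← Subgroup.normal_mul, hKH', Subgroup.coe_top])).card_mul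
  set N : G → ℕ := fun g => Nat.card (Subgroup.centralizer ({g} : Set G)) with hNdef
  have hsplit := Finset.sum_filter_add_sum_filter_not Finset.univ (fun g : G => g ∈ K) N
  have htot : ∑ g, N g = Nat.card (ConjClasses G) * Nat.card G := sum_centralizer G
  have h1 : ∑ g ∈ Finset.univ.filter (fun g : G => g ∈ K), N g + Nat.card K
      = Nat.card (ConjClasses K) * Nat.card K + Nat.card G := by
    rw [← sum_centralizer K]
    have hK : ∑ g ∈ Finset.univ.filter (fun g : G => g ∈ K), N g = ∑ g : K, N (g : G) :=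
      (Finset.sum_subtype _ (fun x => by simp) N)
    rw [hK, ← Finset.add_sum_erase _ _ (Finset.mem_univ (1 : K)),
      ← Finset.add_sum_erase _ (fun g : K => Nat.card (Subgroup.centralizer ({g} : Set K)))
        (Finset.mem_univ (1 : K))]
    have e1 : N ((1 : K) : G) = Nat.card G := by
      simp only [hNdef, OneMemClass.coe_one]
      rw [show Subgroup.centralizer ({1} : Set G) = ⊤ from
        eq_top_iff.mpr fun x _ => Subgroup.mem_centralizer_singleton_iff.mpr (by simp), Subgroup.card_top]
    have e2 : Nat.card (Subgroup.centralizer ({(1 : K)} : Set K)) = Nat.card K := by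
      rw [show Subgroup.centralizer ({(1 : K)} : Set K) = ⊤ from
        eq_top_iff.mpr fun x _ => Subgroup.mem_centralizer_singleton_iff.mpr (by simp), Subgroup.card_top]
    have e3 : ∀ g ∈ (Finset.univ : Finset K).erase 1,
        N (g : G) = Nat.card (Subgroup.centralizer ({g} : Set K)) := by
      intro g hg
      refine (card_centralizer_subgroup g fun x hx => ?_).symm
      rw [Subgroup.mem_centralizer_singleton_iff] at hx
      by_contra hxK
      have hx' : x ∈ K ⊔ H := hKH' ▸ Subgroup.mem_top x
      rw [Subgroup.mem_sup_of_normal_left] at hx'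
      obtain ⟨k, hk, h, hh, rfl⟩ := hx'
      have hh1 : h ≠ 1 := fun e => hxK (by simpa [e] using hk)
      obtain ⟨y, hy, hyk⟩ := Cfsg.Agent.S0171.exists_conj_eq K hfpf h hh hh1 k hk
      have h0 := hfpf h hh hh1 (y⁻¹ * g * y)
        (by simpa using ‹K.Normal›.conj_mem _ g.2 y⁻¹) (by
        calc h * (y⁻¹ * g * y) = y⁻¹ * ((y * h * y⁻¹) * g) * y := by group
          _ = y⁻¹ * (g * (y * h * y⁻¹)) * y := by rw [hyk, hx]
          _ = y⁻¹ * g * y * h := by group)
      have : (g : G) = 1 := by
        calc (g : G) = y * (y⁻¹ * g * y) * y⁻¹ := by group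
          _ = 1 := by rw [h0]; group
      exact (Finset.mem_erase.mp hg).1 (Subtype.ext this)
    rw [Finset.sum_congr rfl e3, e1, e2]
    omega
  have h2 : ∑ g ∈ Finset.univ.filter (fun g : G => g ∉ K), N g + Nat.card G
      = Nat.card K * (Nat.card (ConjClasses H) * Nat.card H) := by
    rw [← sum_centralizer H, ← Finset.add_sum_erase _
      (fun h : H => Nat.card (Subgroup.centralizer ({h} : Set H))) (Finset.mem_univ (1 : H))]
    have e2 : Nat.card (Subgroup.centralizer ({(1 : H)} : Set H)) = Nat.card H := by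
      rw [show Subgroup.centralizer ({(1 : H)} : Set H) = ⊤ from
        eq_top_iff.mpr fun x _ => Subgroup.mem_centralizer_singleton_iff.mpr (by simp), Subgroup.card_top]
    rw [e2, mul_add, hcard, add_comm (Nat.card G), Nat.card_eq_fintype_card (α := K),
      ← Finset.card_univ, ← smul_eq_mul, ← Finset.sum_const, ← Finset.sum_product']
    congr 1
    symm
    refine Finset.sum_bij (fun kh _ => (kh.1 : G) * (kh.2 : G) * (kh.1 : G)⁻¹) ?_ ?_ ?_ ?_
    · rintro ⟨k, h⟩ hkh
      refine Finset.mem_filter.mpr ⟨Finset.mem_univ _, fun hmem => ?_⟩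
      have : (h : G) ∈ K ⊓ H := ⟨by
        have := K.mul_mem (K.mul_mem (K.inv_mem k.2) hmem) k.2
        simpa [mul_assoc] using this, h.2⟩
      rw [hKH, Subgroup.mem_bot] at this
      exact (Finset.mem_erase.mp (Finset.mem_product.mp hkh).2).1 (Subtype.ext this)
    · rintro ⟨k, h⟩ hkh ⟨k', h'⟩ _ heq
      simp only at heq
      have hh : (h : G) = h' := by
        have hm : (h : G) * (h' : G)⁻¹ ∈ K ⊓ H := by
          refine ⟨?_, H.mul_mem h.2 (H.inv_mem h'.2)⟩
          have e : (h : G) * (h' : G)⁻¹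
              = ((k : G)⁻¹ * k') * ((h' : G) * ((k' : G)⁻¹ * k) * (h' : G)⁻¹) := by
            calc (h : G) * (h' : G)⁻¹ = (k : G)⁻¹ * ((k : G) * h * (k : G)⁻¹) * k * (h' : G)⁻¹ := by group
              _ = _ := by rw [heq]; group
          rw [e]
          exact K.mul_mem (K.mul_mem (K.inv_mem k.2) k'.2)
            (‹K.Normal›.conj_mem _ (K.mul_mem (K.inv_mem k'.2) k.2) _)
        rw [hKH, Subgroup.mem_bot] at hm
        exact mul_inv_eq_one.mp hm
      have hh1 : (h : G) ≠ 1 := fun e =>
        (Finset.mem_erase.mp (Finset.mem_product.mp hkh).2).1 (Subtype.ext e)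
      have h0 := hfpf h h.2 hh1 ((k' : G)⁻¹ * k) (K.mul_mem (K.inv_mem k'.2) k.2) (by
        calc (h : G) * ((k' : G)⁻¹ * k) = (k' : G)⁻¹ * ((k' : G) * h' * (k' : G)⁻¹) * k := by
              rw [hh]; group
          _ = (k' : G)⁻¹ * k * h := by rw [← heq]; group)
      exact Prod.ext (Subtype.ext (inv_mul_eq_one.mp h0).symm) (Subtype.ext hh)
    · intro g hg
      have hgK := (Finset.mem_filter.mp hg).2
      have hg' : g ∈ K ⊔ H := hKH' ▸ Subgroup.mem_top g
      rw [Subgroup.mem_sup_of_normal_left] at hg'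
      obtain ⟨k, hk, h, hh, rfl⟩ := hg'
      have hh1 : h ≠ 1 := fun e => hgK (by simpa [e] using hk)
      obtain ⟨y, hy, hyk⟩ := Cfsg.Agent.S0171.exists_conj_eq K hfpf h hh hh1 k hk
      exact ⟨(⟨y, hy⟩, ⟨h, hh⟩), Finset.mem_product.mpr ⟨Finset.mem_univ _,
        Finset.mem_erase.mpr ⟨fun e => hh1 (congrArg Subtype.val e), Finset.mem_univ _⟩⟩, hyk⟩
    · rintro ⟨k, h⟩ hkh
      have hh1 : (h : G) ≠ 1 := fun e =>
        (Finset.mem_erase.mp (Finset.mem_product.mp hkh).2).1 (Subtype.ext e)
      simp only [hNdef]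
      rw [Chars.card_centralizer_eq_of_isConj
        (isConj_iff.mpr ⟨(k : G), rfl⟩ : IsConj (h : G) ((k : G) * h * (k : G)⁻¹)).symm]
      refine card_centralizer_subgroup h fun x hx => ?_
      rw [Subgroup.mem_centralizer_singleton_iff] at hx
      have hx' : x ∈ K ⊔ H := hKH' ▸ Subgroup.mem_top x
      rw [Subgroup.mem_sup_of_normal_left] at hx'
      obtain ⟨a, ha, b, hb, rfl⟩ := hx'
      suffices a = 1 by rw [this, one_mul]; exact hb
      have hb' : b * h * b⁻¹ * (h : G)⁻¹ ∈ K ⊓ H := by
        refine ⟨?_, H.mul_mem (H.mul_mem (H.mul_mem hb h.2) (H.inv_mem hb)) (H.inv_mem h.2)⟩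
        have e : b * h * b⁻¹ * (h : G)⁻¹ = a⁻¹ * ((h : G) * a * (h : G)⁻¹) := by
          calc b * h * b⁻¹ * (h : G)⁻¹ = a⁻¹ * (a * b * h) * b⁻¹ * (h : G)⁻¹ := by group
            _ = _ := by rw [hx]; group
        rw [e]
        exact K.mul_mem (K.inv_mem ha) (‹K.Normal›.conj_mem _ ha _)
      rw [hKH, Subgroup.mem_bot] at hb'
      refine hfpf h h.2 hh1 a ha ?_
      calc (h : G) * a = (h : G) * (a * b) * b⁻¹ := by group
        _ = a * (b * h * b⁻¹ * (h : G)⁻¹) * h := by rw [← hx]; group
        _ = a * h := by rw [hb', mul_one]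
  rw [htot] at hsplit
  have hKpos : 0 < Nat.card K := Nat.card_pos
  refine Nat.eq_of_mul_eq_mul_left hKpos ?_
  have e : Nat.card K * (Nat.card H * Nat.card (ConjClasses G))
      = Nat.card (ConjClasses G) * Nat.card G := by rw [← hcard]; ring
  rw [mul_add, e, mul_add, mul_one]
  nlinarith

end Cfsg.Agent.S0172
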