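import Cfsg.Statements.S0174
import Cfsg.Agent.Lib.Burnside.NormalInd

set_option autoImplicit false
open Cfsg

namespace Cfsg.Agent.S0174

open Cfsg.Agent.Lib
open scoped ComplexConjugate


/-- The Clifford Theorem for characters: if θ is an irreducible character of a finite group G, N is a normal subgroup and χ is an irreducible character of N occurring in the restriction of θ, then θ restricted to N equals e times the sum of the distinct G-conjugates of χ, where e is the inner product of the restriction with χ. -/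
theorem result {G : Type*} [Group G] [Fintype G] (N : Subgroup G) [Fintype N] (hN : N.Normal) (θ : G → ℂ) (hθ : Cfsg.IsIrrCharacter G θ) (χ : N → ℂ) (hχ : Cfsg.IsIrrCharacter N χ) (hconst : Cfsg.classInner (fun n : N => θ n) χ ≠ 0) : (fun n : N => θ n) = Cfsg.classInner (fun n : N => θ n) χ • ∑ᶠ ψ ∈ {ψ : N → ℂ | ∃ g : G, ψ = fun n : N => χ ⟨g * n * g⁻¹, hN.conj_mem n n.2 g⟩}, ψ := by
  classical
  have := hN
  set r : N → ℂ := fun n : N => θ n with hr
  have hrc : Cfsg.IsCharacter N r :=
    Chars.isCharacter_restrict N (Chars.isCharacter_of_isIrrCharacter hθ)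
  have hθcl := Chars.irr_isClassFunction ⟨θ, hθ⟩
  have hinv : ∀ g : G, Cfsg.classInner r (Burnside.conjFun N g χ) = Cfsg.classInner r χ := by
    intro g
    simp only [Cfsg.classInner]
    congr 1
    refine Fintype.sum_equiv (MulAut.conjNormal g : MulAut N).toEquiv _ _ fun n => ?_
    have e : θ ((MulAut.conjNormal g n : N) : G) = θ n := by
      rw [MulAut.conjNormal_apply]; exact hθcl n g
    show θ n * conj (Burnside.conjFun N g χ n)
      = θ ((MulAut.conjNormal g n : N) : G) * conj (χ (MulAut.conjNormal g n))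
    rw [e]; rfl
  have hsupp : ∀ ψ : Cfsg.IrrCharacter N, Cfsg.classInner r (ψ : N → ℂ) ≠ 0 →
      ∃ g : G, (ψ : N → ℂ) = Burnside.conjFun N g χ := by
    intro ψ hψ
    by_contra hne
    push Not at hne
    have hI : Cfsg.IsCharacter G (Cfsg.indFun N χ) :=
      Chars.isCharacter_indFun N (Chars.isCharacter_of_isIrrCharacter hχ)
    obtain ⟨m, hm⟩ := Chars.isCharacter_exists_nat_decomp hI
    have hmθ : m ⟨θ, hθ⟩ ≠ 0 := by
      intro h0
      have h1 : Cfsg.classInner (Cfsg.indFun N χ) θ = (m ⟨θ, hθ⟩ : ℂ) := by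
        rw [hm]; exact Chars.classInner_sum_smul_irr _ ⟨θ, hθ⟩
      rw [Chars.classInner_indFun_left N χ θ hθcl, h0, Nat.cast_zero,
        ← Chars.conj_classInner, map_eq_zero] at h1
      exact hconst h1
    have hzero : Cfsg.classInner (fun n : N => Cfsg.indFun N χ n) (ψ : N → ℂ) = 0 := by
      rw [Burnside.classInner_restrict_indFun, Finset.sum_eq_zero, mul_zero]
      intro x _
      exact Chars.classInner_irr_of_ne (χ := ⟨_, Burnside.isIrrCharacter_conjFun N x hχ⟩)
        fun e => hne x (congrArg Subtype.val e).symm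
    have hexp : (fun n : N => Cfsg.indFun N χ n)
        = ∑ φ : Cfsg.IrrCharacter G, (m φ : ℂ) • (fun n : N => (φ : G → ℂ) n) := by
      funext n
      rw [hm]; simp
    choose k hk using fun φ : Cfsg.IrrCharacter G => Chars.isCharacter_classInner_nat
      (Chars.isCharacter_restrict N (Chars.irr_isCharacter φ)) (Chars.irr_isCharacter ψ)
    rw [hexp, Chars.classInner_sum_left] at hzero
    simp only [Chars.classInner_smul_left, hk, ← Nat.cast_mul, ← Nat.cast_sum, Nat.cast_eq_zero,
      Finset.sum_eq_zero_iff, Finset.mem_univ, true_implies, mul_eq_zero] at hzero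
    rcases hzero ⟨θ, hθ⟩ with h | h
    · exact hmθ h
    · have h' := hk ⟨θ, hθ⟩
      rw [h, Nat.cast_zero] at h'
      exact hψ h'
  set S : Set (N → ℂ) :=
    {ψ : N → ℂ | ∃ g : G, ψ = fun n : N => χ ⟨g * n * g⁻¹, hN.conj_mem n n.2 g⟩} with hS
  have hfin : S.Finite := (Set.finite_range fun g : G => Burnside.conjFun N g χ).subset
    fun ψ ⟨g, hg⟩ => ⟨g, hg.symm⟩
  rw [finsum_mem_eq_finite_toFinset_sum _ hfin, Finset.smul_sum]
  conv_lhs => rw [Chars.isCharacter_eq_sum_classInner hrc]
  rw [← Finset.sum_filter_of_ne (p := fun φ : Cfsg.IrrCharacter N => (φ : N → ℂ) ∈ S)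
    (fun φ _ h => by
      obtain ⟨g, hg⟩ := hsupp φ fun h0 => h (by rw [h0, zero_smul])
      exact ⟨g, hg⟩)]
  refine Finset.sum_nbij (fun φ : Cfsg.IrrCharacter N => (φ : N → ℂ)) ?_ ?_ ?_ ?_
  · intro φ hφ
    exact hfin.mem_toFinset.mpr (Finset.mem_filter.mp hφ).2
  · exact Subtype.val_injective.injOn
  · intro f hf
    have hf' := hfin.mem_toFinset.mp hf
    obtain ⟨g, hg⟩ := hf'
    refine ⟨⟨f, ?_⟩, Finset.mem_filter.mpr ⟨Finset.mem_univ _, g, hg⟩, rfl⟩
    rw [hg]
    exact Burnside.isIrrCharacter_conjFun N g hχ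
  · intro φ hφ
    obtain ⟨g, hg⟩ := (Finset.mem_filter.mp hφ).2
    have hg' : (φ : N → ℂ) = Burnside.conjFun N g χ := hg
    simp only [hg', hinv g]

end Cfsg.Agent.S0174
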