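import Cfsg.Statements.S0175
import Cfsg.Agent.Lib.Chars.Integral
import Cfsg.Agent.Lib.Chars.Induced

set_option autoImplicit false
open Cfsg

namespace Cfsg.Agent.S0175

open Cfsg.Agent.Lib
open scoped commutatorElement


/-- Taketa's Theorem on M-groups: if every irreducible complex character of a finite group is induced from a linear character (a homomorphism to ℂˣ) of some subgroup, the group is solvable. -/
theorem result {G : Type*} [Group G] [Fintype G] (hM : ∀ χ : G → ℂ, Cfsg.IsIrrCharacter G χ → ∃ (H : Subgroup G) (lam : H →* ℂˣ), χ = Cfsg.indFun H (fun h => (lam h : ℂ))) : Group.IsSolvable G := by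
  classical
  suffices h : ∀ n : ℕ, ∀ χ : G → ℂ, Cfsg.IsIrrCharacter G χ → ∀ d : ℕ, χ 1 = (d : ℂ) → d ≤ n →
      ∀ g ∈ derivedSeries G n, χ g = χ 1 by
    refine ⟨⟨Nat.card G, ?_⟩⟩
    rw [Subgroup.eq_bot_iff_forall]
    intro g hg
    refine isConj_one_left.mp ((Chars.isConj_iff_irr (g := g) (h := 1)).mpr fun χ => ?_)
    obtain ⟨d, hd0, hd, hdvd⟩ := Chars.irr_degree_dvd_card χ
    exact h _ χ χ.2 d hd (Nat.le_of_dvd Nat.card_pos hdvd) g hg
  intro n
  induction n with
  | zero =>
    intro χ hχ d hd hd0
    obtain ⟨d', hpos, hd'⟩ := Chars.isIrrCharacter_exists_degree_pos hχ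
    rw [hd] at hd'
    have : d = d' := by exact_mod_cast hd'
    omega
  | succ n ih =>
    intro χ hχ d hd hdn g hg
    by_cases hle : d ≤ n
    · exact ih χ hχ d hd hle g (derivedSeries_antitone G (Nat.le_succ n) hg)
    obtain ⟨H, lam, rfl⟩ := hM χ hχ
    set θ : H → ℂ := fun h => (lam h : ℂ) with hθ
    have hdH : d = H.index := by
      have := Chars.indFun_one_eq H θ
      rw [hd] at this
      simp only [hθ, map_one, Units.val_one, mul_one] at this
      exact_mod_cast this
    have hsub : derivedSeries G n ≤ H := by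
      by_cases hH : H = ⊤
      · rw [hH]; exact le_top
      intro y hy
      set P : G → ℂ := Cfsg.indFun H (fun _ => 1) with hP
      have hPc : Cfsg.IsCharacter G P :=
        Chars.isCharacter_indFun H ⟨1, Representation.trivial ℂ H (Fin 1 → ℂ), by
          funext x
          simp [Representation.character, Representation.trivial, LinearMap.trace_one]⟩
      obtain ⟨m, hm⟩ := Chars.isCharacter_exists_nat_decomp hPc
      have hP1 : P 1 = (H.index : ℂ) := by rw [hP, Chars.indFun_one_eq, mul_one]
      choose e he0 he using fun ψ : Cfsg.IrrCharacter G => Chars.isIrrCharacter_exists_degree_pos ψ.2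
      have hsum : ∑ ψ, m ψ * e ψ = H.index := by
        have := congrFun hm 1
        simp only [hP1, Finset.sum_apply, Pi.smul_apply, smul_eq_mul, he] at this
        exact_mod_cast this.symm
      have htriv : m (Chars.trivialIrr G) = 1 := by
        have h1 : Cfsg.classInner P (Chars.trivialIrr G : G → ℂ) = (m (Chars.trivialIrr G) : ℂ) := by
          rw [hm, Chars.classInner_sum_smul_irr]
        rw [hP, Chars.classInner_indFun_left H _ _ (Chars.irr_isClassFunction _)] at h1
        have h2 : Cfsg.classInner (fun _ : H => (1 : ℂ)) (fun h : H => (Chars.trivialIrr G : G → ℂ) h)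
            = 1 := Chars.classInner_irr_self (Chars.trivialIrr H)
        rw [h2] at h1
        exact_mod_cast h1.symm
      have hone : e (Chars.trivialIrr G) = 1 := by
        have := he (Chars.trivialIrr G)
        rw [Chars.trivialIrr_apply] at this
        exact_mod_cast this.symm
      have hsmall : ∀ ψ, m ψ ≠ 0 → e ψ ≤ n := by
        intro ψ hψ
        rcases eq_or_ne ψ (Chars.trivialIrr G) with rfl | hne
        · rw [hone]
          by_contra h
          have : H.index ≤ 1 := by omega
          exact hH (Subgroup.index_eq_one.mp (le_antisymm this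
            (Nat.one_le_iff_ne_zero.mpr Subgroup.index_ne_zero_of_finite)))
        · have h2 := Finset.add_le_sum (f := fun ψ => m ψ * e ψ) (fun _ _ => Nat.zero_le _)
            (Finset.mem_univ ψ) (Finset.mem_univ (Chars.trivialIrr G)) hne
          simp only [hsum, htriv, hone] at h2
          have := Nat.le_mul_of_pos_left (e ψ) (Nat.pos_of_ne_zero hψ)
          omega
      have hPy : P y = P 1 := by
        simp only [hm, Finset.sum_apply, Pi.smul_apply, smul_eq_mul]
        refine Finset.sum_congr rfl fun ψ _ => ?_
        by_cases hψ : m ψ = 0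
        · simp [hψ]
        · rw [ih ψ ψ.2 (e ψ) (he ψ) (hsmall ψ hψ) y hy]
      by_contra hyH
      rw [hP1, hP] at hPy
      have hbound : ∀ x : G, (Cfsg.extendByZero H (fun _ => (1 : ℂ)) (x⁻¹ * y * x)) =
          if x⁻¹ * y * x ∈ H then 1 else 0 := by
        intro x
        by_cases hx : x⁻¹ * y * x ∈ H
        · rw [if_pos hx, Chars.extendByZero_of_mem _ hx]
        · rw [if_neg hx, Chars.extendByZero_of_not_mem _ hx]
      simp only [Cfsg.indFun, hbound] at hPy
      rw [Finset.sum_boole, inv_mul_eq_iff_eq_mul₀ (Nat.cast_ne_zero.mpr Nat.card_pos.ne'),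
        ← Nat.cast_mul, Subgroup.card_mul_index, Nat.card_eq_fintype_card] at hPy
      have hall := Finset.card_eq_iff_eq_univ _ |>.mp (Nat.cast_injective hPy)
      have := Finset.eq_univ_iff_forall.mp hall 1
      simp only [Finset.mem_filter, Finset.mem_univ, true_and, inv_one, one_mul, mul_one] at this
      exact hyH this
    have hker : ∀ y ∈ derivedSeries G (n + 1), Cfsg.extendByZero H θ y = 1 := by
      intro y hy
      have hy' : y ∈ (commutator H).map H.subtype := by
        rw [commutator_eq_closure, MonoidHom.map_closure]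
        rw [derivedSeries_succ, Subgroup.commutator_def] at hy
        refine (Subgroup.closure_mono ?_) hy
        rintro _ ⟨a, ha, b, hb, rfl⟩
        exact ⟨⁅(⟨a, hsub ha⟩ : H), ⟨b, hsub hb⟩⁆, ⟨⟨a, hsub ha⟩, ⟨b, hsub hb⟩, rfl⟩, by
          simp [commutatorElement_def]⟩
      obtain ⟨h, hh, rfl⟩ := Subgroup.mem_map.mp hy'
      rw [Subgroup.subtype_apply, Chars.extendByZero_coe]
      have : commutator H ≤ lam.ker := Abelianization.commutator_subset_ker lam
      simp only [hθ, MonoidHom.mem_ker.mp (this hh), Units.val_one]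
    rw [hd, hdH]
    simp only [Cfsg.indFun]
    rw [Finset.sum_congr rfl (g := fun _ => (1 : ℂ)) fun x _ => hker _ (by
      have := (derivedSeries_normal G (n + 1)).conj_mem g hg x⁻¹
      simpa using this)]
    rw [Finset.sum_const, Finset.card_univ, nsmul_eq_mul, mul_one,
      inv_mul_eq_iff_eq_mul₀ (Nat.cast_ne_zero.mpr Nat.card_pos.ne'), ← Nat.cast_mul,
      Subgroup.card_mul_index, Nat.card_eq_fintype_card]

end Cfsg.Agent.S0175
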