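import Cfsg.Statements.S0176
import Cfsg.Agent.Lib.Clifford.Correspondence
import Cfsg.Agent.Lib.Chars.Ops
import Cfsg.Agent.Lib.Core.Nilpotent

set_option autoImplicit false
open Cfsg

namespace Cfsg.Agent.S0176

open Cfsg.Agent.Lib

universe u

theorem indFun_congr {G : Type u} [Group G] [Fintype G] {H₁ H₂ : Subgroup G} (h : H₁ = H₂)
    (f : H₁ → ℂ) (g : H₂ → ℂ) (hfg : ∀ x : H₁, f x = g ⟨x, h ▸ x.2⟩) :
    Cfsg.indFun H₁ f = Cfsg.indFun H₂ g := by
  subst h
  congr 1
  exact funext hfg

/-- A finite nilpotent group has only monomial irreducible characters. -/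
theorem monomial (m : ℕ) : ∀ {G : Type u} [Group G] [Fintype G] [Group.IsNilpotent G],
    Nat.card G ≤ m → ∀ χ : G → ℂ, Cfsg.IsIrrCharacter G χ →
    ∃ (H : Subgroup G) (lam : H →* ℂˣ), χ = Cfsg.indFun H (fun h => (lam h : ℂ)) := by
  classical
  induction m with
  | zero =>
    intro G _ _ _ hm
    have := Nat.card_pos (α := G)
    omega
  | succ m ih =>
    intro G _ _ _ hm χ hχ
    by_cases hker : ∀ x : G, χ x = χ 1 → x = 1
    · by_cases hcomm : ∀ a b : G, a * b = b * a
      · have : IsMulCommutative G := ⟨⟨hcomm⟩⟩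
        obtain ⟨φ, hφ⟩ := Chars.exists_hom_of_degree_one (Chars.isCharacter_of_isIrrCharacter hχ)
          (Chars.irr_apply_one_of_comm ⟨χ, hχ⟩)
        refine ⟨⊤, φ.comp (⊤ : Subgroup G).subtype, ?_⟩
        funext g
        have hg : ∀ x : G, Cfsg.extendByZero (⊤ : Subgroup G)
            (fun h => ((φ.comp (⊤ : Subgroup G).subtype) h : ℂ)) (x⁻¹ * g * x) = χ g := by
          intro x
          rw [Chars.extendByZero_of_mem _ (Subgroup.mem_top _), hφ]
          show (φ (x⁻¹ * g * x) : ℂ) = φ g
          rw [hcomm x⁻¹ g, inv_mul_cancel_right]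
        simp only [Cfsg.indFun, hg, Finset.sum_const, Finset.card_univ, nsmul_eq_mul]
        rw [Subgroup.card_top, Nat.card_eq_fintype_card, inv_mul_cancel_left₀]
        exact Nat.cast_ne_zero.mpr Fintype.card_ne_zero
      · obtain ⟨a, ha, haZ⟩ : ∃ a : G, (QuotientGroup.mk a : G ⧸ Subgroup.center G) ∈
            Subgroup.center (G ⧸ Subgroup.center G) ∧ a ∉ Subgroup.center G := by
          have hnt : Nontrivial (G ⧸ Subgroup.center G) :=
            QuotientGroup.nontrivial_iff.mpr fun h => hcomm fun a b =>
              Subgroup.mem_center_iff.mp (h ▸ Subgroup.mem_top b) a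
          have hne : (⊤ : Subgroup (G ⧸ Subgroup.center G)) ⊓
              Subgroup.center (G ⧸ Subgroup.center G) ≠ ⊥ :=
            Nilp.inf_center_ne_bot_of_normal top_ne_bot
          obtain ⟨q, hq, hq1⟩ := (Subgroup.bot_or_exists_ne_one _).resolve_left hne
          obtain ⟨a, rfl⟩ := QuotientGroup.mk_surjective q
          exact ⟨a, hq.2, fun h => hq1 ((QuotientGroup.eq_one_iff a).mpr h)⟩
        set A : Subgroup G := (Subgroup.zpowers (QuotientGroup.mk a : G ⧸ Subgroup.center G)).comap
          (QuotientGroup.mk' (Subgroup.center G)) with hA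
        have hzn : (Subgroup.zpowers (QuotientGroup.mk a : G ⧸ Subgroup.center G)).Normal :=
          ⟨fun x hx g => by
            have : x ∈ Subgroup.center (G ⧸ Subgroup.center G) :=
              (Subgroup.zpowers_le.mpr ha) hx
            rw [Subgroup.mem_center_iff.mp this g, mul_inv_cancel_right]
            exact hx⟩
        have hAn : A.Normal := hzn.comap _
        have hAform : ∀ x ∈ A, ∃ (i : ℤ) (z : G), z ∈ Subgroup.center G ∧ x = a ^ i * z := by
          intro x hx
          obtain ⟨i, hi⟩ := Subgroup.mem_zpowers_iff.mp (Subgroup.mem_comap.mp hx)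
          refine ⟨i, (a ^ i)⁻¹ * x, ?_, by simp⟩
          rw [← QuotientGroup.eq, QuotientGroup.mk_zpow]
          exact hi
        have hAcomm : IsMulCommutative A := ⟨⟨fun x y => by
          obtain ⟨i, z, hz, hx⟩ := hAform x x.2
          obtain ⟨j, w, hw, hy⟩ := hAform y y.2
          apply Subtype.ext
          show (x : G) * y = y * x
          rw [hx, hy]
          calc a ^ i * z * (a ^ j * w) = a ^ i * (z * a ^ j) * w := by group
            _ = a ^ i * (a ^ j * z) * w := by rw [Subgroup.mem_center_iff.mp hz (a ^ j)]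
            _ = a ^ j * a ^ i * (z * w) := by group
            _ = a ^ j * a ^ i * (w * z) := by rw [Subgroup.mem_center_iff.mp hw z]
            _ = a ^ j * (a ^ i * w) * z := by group
            _ = a ^ j * (w * a ^ i) * z := by rw [← Subgroup.mem_center_iff.mp hw (a ^ i)]
            _ = a ^ j * w * (a ^ i * z) := by group⟩⟩
        have haA : a ∈ A := Subgroup.mem_comap.mpr (Subgroup.mem_zpowers _)
        have := Fintype.ofFinite A
        obtain ⟨θ, hθ⟩ : ∃ θ : Cfsg.IrrCharacter A,
            Cfsg.classInner (Clifford.resFun A χ) (θ : A → ℂ) ≠ 0 := by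
          by_contra hne
          push Not at hne
          have hres : Cfsg.IsCharacter A (Clifford.resFun A χ) :=
            Chars.isCharacter_restrict A (Chars.isCharacter_of_isIrrCharacter hχ)
          have h := congrFun (Chars.isCharacter_eq_sum_classInner hres) 1
          rw [Finset.sum_eq_zero fun φ _ => by rw [hne φ, zero_smul]] at h
          exact Chars.irr_apply_one_ne_zero ⟨χ, hχ⟩ h
        let T : Subgroup G :=
          { carrier := {g | Clifford.conjFun g (θ : A → ℂ) = θ}
            one_mem' := Clifford.conjFun_one _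
            mul_mem' := fun {x y} hx hy => by
              show Clifford.conjFun (x * y) (θ : A → ℂ) = θ
              rw [Clifford.conjFun_mul, show Clifford.conjFun x (θ : A → ℂ) = θ from hx]
              exact hy
            inv_mem' := fun {x} hx => by
              show Clifford.conjFun x⁻¹ (θ : A → ℂ) = θ
              have hx' : Clifford.conjFun x (θ : A → ℂ) = θ := hx
              conv_lhs => rw [← hx']
              rw [← Clifford.conjFun_mul, mul_inv_cancel, Clifford.conjFun_one] }
        have hT : ∀ g, g ∈ T ↔ Clifford.conjFun g (θ : A → ℂ) = θ := fun g => Iff.rfl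
        have hAT : A ≤ T := fun x hx => funext fun y =>
          Chars.irr_isClassFunction θ y ⟨x, hx⟩
        have hTne : T ≠ ⊤ := by
          intro htop
          apply haZ
          rw [Subgroup.mem_center_iff]
          intro g
          have hres := Clifford.resFun_eq_smul_of_invariant hχ θ.2 hθ
            fun x => (hT x).mp (htop ▸ Subgroup.mem_top x)
          obtain ⟨φ, hφ⟩ := Chars.exists_hom_of_degree_one (Chars.irr_isCharacter θ)
            (Chars.irr_apply_one_of_comm θ)
          have hga : (θ : A → ℂ) ⟨g * a * g⁻¹, hAn.conj_mem a haA g⟩ = (θ : A → ℂ) ⟨a, haA⟩ :=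
            congrFun ((hT g).mp (htop ▸ Subgroup.mem_top g)) ⟨a, haA⟩
          rw [hφ] at hga
          have hφeq : φ ⟨g * a * g⁻¹, hAn.conj_mem a haA g⟩ = φ ⟨a, haA⟩ := Units.ext hga
          set w : A := ⟨g * a * g⁻¹, hAn.conj_mem a haA g⟩ * ⟨a, haA⟩⁻¹ with hw
          have hw1 : φ w = 1 := by rw [hw, map_mul, map_inv, hφeq, mul_inv_cancel]
          have hval : χ (w : G) = χ 1 := by
            have h1 := congrFun hres w
            have h2 := congrFun hres 1
            simp only [Clifford.resFun, Pi.smul_apply, OneMemClass.coe_one, hφ, hw1, map_one] at h1 h2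
            rw [h1, h2]
          have := hker _ hval
          simp only [hw, Subgroup.coe_mul, Subgroup.coe_inv, mul_inv_eq_one] at this
          exact (mul_inv_eq_iff_eq_mul.mp this)
        have := Fintype.ofFinite T
        obtain ⟨ψ, hψ, hind, -⟩ := Clifford.exists_clifford_correspondent θ.2 hT hAT hχ hθ
        have hlt : Nat.card T < Nat.card G :=
          Nat.lt_of_le_of_ne (Subgroup.card_le_card_group T)
            fun h => hTne (Subgroup.eq_top_of_card_eq _ h)
        obtain ⟨H, lam, rfl⟩ := ih (G := T) (by omega) ψ hψ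
        let e : H ≃* H.map T.subtype := H.equivMapOfInjective T.subtype T.subtype_injective
        refine ⟨H.map T.subtype, lam.comp e.symm.toMonoidHom, ?_⟩
        rw [← hind, ← Chars.indFun_trans (H.map T.subtype) T (Subgroup.map_subtype_le H)]
        congr 1
        refine (indFun_congr (Subgroup.comap_map_eq_self_of_injective T.subtype_injective H) _ _
          fun x => ?_).symm
        show ((lam (e.symm ⟨((x : T) : G), _⟩) : ℂˣ) : ℂ) = (lam ⟨(x : T), _⟩ : ℂ)
        congr 2
        exact (MulEquiv.symm_apply_eq e).mpr (Subtype.ext rfl)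
    · push Not at hker
      obtain ⟨x, hx, hx1⟩ := hker
      obtain ⟨n, ρ, hρ, rfl⟩ := hχ
      let K : Subgroup G :=
        { carrier := {g | ρ g = 1}
          one_mem' := map_one ρ
          mul_mem' := fun {a b} ha hb => by
            simp only [Set.mem_ofPred_eq] at ha hb ⊢
            rw [map_mul, ha, hb, one_mul]
          inv_mem' := fun {a} ha => by
            simp only [Set.mem_ofPred_eq] at ha ⊢
            calc ρ a⁻¹ = ρ a⁻¹ * ρ a := by rw [ha, mul_one]
              _ = 1 := by rw [← map_mul, inv_mul_cancel, map_one] }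
      have hN : K.Normal := ⟨fun m hm g => by
        show ρ (g * m * g⁻¹) = 1
        rw [map_mul, map_mul, show ρ m = 1 from hm, mul_one, ← map_mul, mul_inv_cancel, map_one]⟩
      have hxK : x ∈ K := (Chars.rep_eq_one_iff ρ x).mpr hx
      have := Fintype.ofFinite (G ⧸ K)
      obtain ⟨ψ, hψ⟩ := Chars.exists_irr_quotient K ⟨ρ.character, n, ρ, hρ, rfl⟩
        fun y hy => (Chars.rep_eq_one_iff ρ y).mp hy
      have hlt : Nat.card (G ⧸ K) < Nat.card G := by
        rw [Subgroup.card_eq_card_quotient_mul_card_subgroup K]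
        exact lt_mul_of_one_lt_right Nat.card_pos
          ((Subgroup.one_lt_card_iff_ne_bot K).mpr fun h =>
            hx1 (Subgroup.mem_bot.mp (h ▸ hxK)))
      obtain ⟨H, lam, hψH⟩ := ih (G := G ⧸ K) (by omega) (ψ : G ⧸ K → ℂ) ψ.2
      refine ⟨H.comap (QuotientGroup.mk' K),
        lam.comp ((QuotientGroup.mk' K).subgroupComap H), ?_⟩
      funext g
      rw [← show (ψ : G ⧸ K → ℂ) (g : G ⧸ K) = ρ.character g from hψ g, hψH]
      simp only [Cfsg.indFun]
      have hterm : ∀ y : G, Cfsg.extendByZero (H.comap (QuotientGroup.mk' K))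
          (fun h => ((lam.comp ((QuotientGroup.mk' K).subgroupComap H)) h : ℂ)) (y⁻¹ * g * y)
          = Cfsg.extendByZero H (fun h => (lam h : ℂ))
            ((QuotientGroup.mk' K y)⁻¹ * (g : G ⧸ K) * QuotientGroup.mk' K y) := by
        intro y
        have e : (QuotientGroup.mk' K y)⁻¹ * (g : G ⧸ K) * QuotientGroup.mk' K y
            = QuotientGroup.mk' K (y⁻¹ * g * y) := by simp
        rw [e]
        by_cases hy : y⁻¹ * g * y ∈ H.comap (QuotientGroup.mk' K)
        · rw [Chars.extendByZero_of_mem _ hy, Chars.extendByZero_of_mem _ (Subgroup.mem_comap.mp hy)]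
          rfl
        · rw [Chars.extendByZero_of_not_mem _ hy,
            Chars.extendByZero_of_not_mem _ fun h => hy (Subgroup.mem_comap.mpr h)]
      simp only [hterm]
      rw [Chars.sum_comp_of_surjective (QuotientGroup.mk' K) (QuotientGroup.mk'_surjective K)
        (fun q => Cfsg.extendByZero H (fun h => (lam h : ℂ)) (q⁻¹ * (g : G ⧸ K) * q))]
      have hcard : Nat.card (H.comap (QuotientGroup.mk' K))
          = Nat.card (QuotientGroup.mk' K).ker * Nat.card H := by
        have h1 := (H.comap (QuotientGroup.mk' K)).card_mul_index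
        rw [Subgroup.index_comap_of_surjective _ (QuotientGroup.mk'_surjective K),
          Subgroup.card_eq_card_quotient_mul_card_subgroup K, ← H.card_mul_index,
          QuotientGroup.ker_mk'] at *
        refine Nat.eq_of_mul_eq_mul_right (Nat.pos_of_ne_zero (Subgroup.index_ne_zero_of_finite (H := H))) ?_
        rw [h1]; ring
      rw [hcard, Nat.cast_mul, mul_inv, ← mul_assoc, mul_comm (_ : ℂ)⁻¹ (Nat.card H : ℂ)⁻¹,
        mul_assoc (Nat.card H : ℂ)⁻¹, inv_mul_cancel₀ (Nat.cast_ne_zero.mpr Nat.card_pos.ne'), mul_one]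


/-- A finite nilpotent group is an M-group: each irreducible complex character is induced from a homomorphism of some subgroup into ℂˣ. -/
theorem result {G : Type*} [Group G] [Fintype G] [Group.IsNilpotent G] (χ : G → ℂ) (hχ : Cfsg.IsIrrCharacter G χ) : ∃ (H : Subgroup G) (lam : H →* ℂˣ), χ = Cfsg.indFun H (fun h => (lam h : ℂ)) := by
  classical
  exact monomial _ le_rfl χ hχ

end Cfsg.Agent.S0176
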