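import Cfsg.Statements.S0177
import Cfsg.Agent.Lib.Chars.Ops
import Cfsg.Agent.Lib.Chars.Induced

set_option autoImplicit false
open Cfsg

namespace Cfsg.Agent.S0177

open Cfsg.Agent.Lib

/-- Integral combinations of functions induced from linear characters of cyclic subgroups. -/
def IsArtin {G : Type*} [Group G] [Fintype G] (φ : G → ℂ) : Prop :=
  ∃ l : List ((A : Subgroup G) × ((A →* ℂˣ) × ℤ)), (∀ t ∈ l, IsCyclic t.1) ∧
    φ = (l.map fun t => (t.2.2 : ℂ) • Cfsg.indFun t.1 (fun a => (t.2.1 a : ℂ))).sum

/-- The part of `|G| χ` supported on conjugates of the generators of `A`. -/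
noncomputable def cycPart {G : Type*} [Group G] [Fintype G] (χ : G → ℂ) (A : Subgroup G) : G → ℂ :=
  fun g => ∑ x : G,
    @ite ℂ (Subgroup.zpowers (x⁻¹ * g * x) = A) (Classical.propDecidable _) (χ g) 0

theorem isArtin_zero {G : Type*} [Group G] [Fintype G] : IsArtin (0 : G → ℂ) :=
  ⟨[], by simp, by simp⟩

theorem isArtin_add {G : Type*} [Group G] [Fintype G] {φ ψ : G → ℂ} (h : IsArtin φ)
    (h' : IsArtin ψ) : IsArtin (φ + ψ) := by
  obtain ⟨l, hl, rfl⟩ := h
  obtain ⟨l', hl', rfl⟩ := h'
  exact ⟨l ++ l', fun t ht => (List.mem_append.mp ht).elim (hl t) (hl' t), by simp⟩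

theorem isArtin_neg {G : Type*} [Group G] [Fintype G] {φ : G → ℂ} (h : IsArtin φ) :
    IsArtin (-φ) := by
  obtain ⟨l, hl, rfl⟩ := h
  refine ⟨l.map fun t => ⟨t.1, t.2.1, -t.2.2⟩, ?_, ?_⟩
  · intro t ht
    obtain ⟨s, hs, rfl⟩ := List.mem_map.mp ht
    exact hl s hs
  · clear hl
    induction l with
    | nil => simp
    | cons a l ih =>
      simp only [List.map_cons, List.sum_cons, neg_add, ih]
      simp

theorem isArtin_sub {G : Type*} [Group G] [Fintype G] {φ ψ : G → ℂ} (h : IsArtin φ)
    (h' : IsArtin ψ) : IsArtin (φ - ψ) := sub_eq_add_neg φ ψ ▸ isArtin_add h (isArtin_neg h')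

theorem isArtin_sum {G : Type*} [Group G] [Fintype G] {ι : Type*} (s : Finset ι) {f : ι → G → ℂ}
    (h : ∀ i ∈ s, IsArtin (f i)) : IsArtin (∑ i ∈ s, f i) :=
  Finset.sum_induction _ _ (fun _ _ => isArtin_add) isArtin_zero h


/-- The Artin induction Theorem: for a character χ of a finite group, |G| • χ is a ℤ-linear combination of functions induced from homomorphisms of cyclic subgroups into ℂˣ. -/
theorem result {G : Type*} [Group G] [Fintype G] (χ : G → ℂ) (hχ : Cfsg.IsCharacter G χ) : ∃ l : List ((A : Subgroup G) × ((A →* ℂˣ) × ℤ)), (∀ t ∈ l, IsCyclic t.1) ∧ (Nat.card G : ℂ) • χ = (l.map fun t => (t.2.2 : ℂ) • Cfsg.indFun t.1 (fun a => (t.2.1 a : ℂ))).sum := by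
  classical
  have key : ∀ (m : ℕ) (A : Subgroup G), IsCyclic A → Nat.card A ≤ m →
      IsArtin (cycPart χ A) := by
    intro m
    induction m with
    | zero =>
      intro A _ hA
      have := Nat.card_pos (α := A)
      omega
    | succ m ih =>
      intro A hA hAm
      have : IsMulCommutative A := hA.isMulCommutative
      set below := Finset.univ.filter fun B : Subgroup G => B ≤ A with hbelow
      have hAmem : A ∈ below := by simp [hbelow]
      have hid : (fun g => ∑ x : G, if x⁻¹ * g * x ∈ A then χ g else 0)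
          = ∑ B ∈ below, cycPart χ B := by
        funext g
        simp only [Finset.sum_apply, cycPart]
        rw [Finset.sum_comm]
        refine Finset.sum_congr rfl fun x _ => ?_
        rw [Finset.sum_ite_eq]
        exact if_congr (by simp [hbelow, Subgroup.zpowers_le]) rfl rfl
      rw [← Finset.add_sum_erase _ _ hAmem] at hid
      have hlhs : IsArtin (fun g => ∑ x : G, if x⁻¹ * g * x ∈ A then χ g else 0) := by
        have hcl := Chars.isClassFunction_of_isCharacter hχ
        have e : (fun g => ∑ x : G, if x⁻¹ * g * x ∈ A then χ g else 0)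
            = (Nat.card A : ℂ) • Cfsg.indFun A (fun a : A => χ a) := by
          funext g
          simp only [Pi.smul_apply, smul_eq_mul, Cfsg.indFun]
          rw [mul_inv_cancel_left₀ (Nat.cast_ne_zero.mpr Nat.card_pos.ne')]
          refine Finset.sum_congr rfl fun x _ => ?_
          by_cases hx : x⁻¹ * g * x ∈ A
          · rw [if_pos hx, Chars.extendByZero_of_mem _ hx]
            simpa using (hcl g x⁻¹).symm
          · rw [if_neg hx, Chars.extendByZero_of_not_mem _ hx]
        obtain ⟨n, hn⟩ := Chars.isCharacter_exists_nat_decomp (Chars.isCharacter_restrict A hχ)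
        rw [e, hn, Chars.indFun_sum, Finset.smul_sum]
        refine isArtin_sum _ fun φ _ => ?_
        obtain ⟨lam, hlam⟩ := Chars.exists_hom_of_degree_one (Chars.irr_isCharacter φ)
          (Chars.irr_apply_one_of_comm φ)
        rw [Chars.indFun_smul, smul_smul, hlam]
        exact ⟨[⟨A, lam, (Nat.card A : ℤ) * (n φ : ℤ)⟩], by simpa using hA, by simp⟩
      have hrest : IsArtin (∑ B ∈ below.erase A, cycPart χ B) := by
        refine isArtin_sum _ fun B hB => ?_
        obtain ⟨hne, hB'⟩ := Finset.mem_erase.mp hB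
        have hBA : B ≤ A := (Finset.mem_filter.mp hB').2
        refine ih B (isCyclic_of_injective (Subgroup.inclusion hBA) (Subgroup.inclusion_injective hBA)) ?_
        have : Nat.card B < Nat.card A := by
          refine Nat.lt_of_le_of_ne (Subgroup.card_le_of_le hBA) fun h => hne ?_
          exact Subgroup.eq_of_le_of_card_ge hBA h.ge
        omega
      have : cycPart χ A = (fun g => ∑ x : G, if x⁻¹ * g * x ∈ A then χ g else 0)
          - ∑ B ∈ below.erase A, cycPart χ B := eq_sub_of_add_eq hid.symm
      rw [this]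
      exact isArtin_sub hlhs hrest
  have htot : (Nat.card G : ℂ) • χ = ∑ A : Subgroup G, cycPart χ A := by
    funext g
    simp only [Finset.sum_apply, cycPart, Pi.smul_apply, smul_eq_mul]
    rw [Finset.sum_comm]
    simp [Nat.card_eq_fintype_card]
  rw [htot]
  refine isArtin_sum _ fun A _ => ?_
  by_cases hA : IsCyclic A
  · exact key _ A hA le_rfl
  · refine ⟨[], by simp, ?_⟩
    funext g
    simp only [cycPart, List.map_nil, List.sum_nil, Pi.zero_apply]
    refine Finset.sum_eq_zero fun x _ => if_neg fun h => hA ?_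
    rw [← h]; infer_instance

end Cfsg.Agent.S0177
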