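import Cfsg.Statements.S0178
import Mathlib

set_option autoImplicit false
open Cfsg

namespace Cfsg.Agent.S0178

/-- An abelian subgroup has a common eigenvector in every nonzero complex representation. -/
theorem exists_common_eigenvector {G : Type*} [Group G] {V : Type*} [AddCommGroup V] [Module ℂ V]
    [FiniteDimensional ℂ V] [Nontrivial V] (ρ : Representation ℂ G V) (A : Subgroup G)
    (hA : ∀ a ∈ A, ∀ b ∈ A, a * b = b * a) :
    ∃ v : V, v ≠ 0 ∧ ∀ a ∈ A, ∃ μ : ℂ, ρ a v = μ • v := by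
  classical
  have hex : ∃ n, ∃ W : Submodule ℂ V,
      W ≠ ⊥ ∧ (∀ a ∈ A, ∀ w ∈ W, ρ a w ∈ W) ∧ Module.finrank ℂ W = n :=
    ⟨_, ⊤, top_ne_bot, fun _ _ _ _ => Submodule.mem_top, rfl⟩
  obtain ⟨W, hW0, hWinv, hWn⟩ := Nat.find_spec hex
  obtain ⟨v, hvW, hv0⟩ := Submodule.exists_mem_ne_zero_of_ne_bot hW0
  refine ⟨v, hv0, fun a ha => ?_⟩
  haveI : Nontrivial W := Submodule.nontrivial_iff_ne_bot.mpr hW0
  obtain ⟨μ, hμ⟩ := Module.End.exists_eigenvalue ((ρ a).restrict (hWinv a ha))
  obtain ⟨u, hu⟩ := hμ.exists_hasEigenvector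
  refine ⟨μ, ?_⟩
  set E : Submodule ℂ V := W ⊓ LinearMap.ker (ρ a - μ • (1 : Module.End ℂ V)) with hE
  have hmem : ∀ w, w ∈ E ↔ w ∈ W ∧ ρ a w = μ • w := by
    intro w
    simp [hE, sub_eq_zero]
  have hEinv : ∀ b ∈ A, ∀ w ∈ E, ρ b w ∈ E := by
    intro b hb w hw
    rw [hmem] at hw ⊢
    refine ⟨hWinv b hb w hw.1, ?_⟩
    rw [← Module.End.mul_apply, ← map_mul, hA a ha b hb, map_mul, Module.End.mul_apply, hw.2,
      map_smul]
  have hE0 : E ≠ ⊥ := by
    intro h
    have : (u : V) ∈ E := by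
      rw [hmem]
      exact ⟨u.2, congrArg Subtype.val hu.apply_eq_smul⟩
    rw [h, Submodule.mem_bot] at this
    exact hu.2 (Subtype.ext this)
  have hle : E ≤ W := inf_le_left
  have heq : E = W := Submodule.eq_of_le_of_finrank_le hle (by
    rw [hWn]
    exact Nat.find_min' hex ⟨E, hE0, hEinv, rfl⟩)
  have : v ∈ E := by rw [heq]; exact hvW
  exact ((hmem v).mp this).2


/-- The degree of an irreducible complex representation of a finite group is at most the index of any abelian subgroup. -/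
theorem result {G : Type*} [Group G] [Finite G] {V : Type*} [AddCommGroup V] [Module ℂ V] [FiniteDimensional ℂ V] (ρ : Representation ℂ G V) [ρ.IsIrreducible] (A : Subgroup G) (hA : ∀ a ∈ A, ∀ b ∈ A, a * b = b * a) : Module.finrank ℂ V ≤ A.index := by
  classical
  haveI : Nontrivial V := by
    rcases subsingleton_or_nontrivial V with h | h
    · exact absurd (Subrepresentation.toSubmodule_injective (Subsingleton.elim _ _)) (bot_ne_top (α := Subrepresentation ρ))
    · exact h
  obtain ⟨v, hv0, hv⟩ := exists_common_eigenvector ρ A hA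
  haveI : Fintype (G ⧸ A) := Fintype.ofFinite _
  let f : G ⧸ A → V := fun q => ρ q.out v
  let σ : Subrepresentation ρ :=
    { toSubmodule := Submodule.span ℂ (Set.range f)
      apply_mem_toSubmodule := fun g w hw => by
        have : (Submodule.span ℂ (Set.range f)).map (ρ g) ≤ Submodule.span ℂ (Set.range f) := by
          rw [Submodule.map_span, Submodule.span_le]
          rintro _ ⟨_, ⟨q, rfl⟩, rfl⟩
          obtain ⟨a, ha⟩ := QuotientGroup.mk_out_eq_mul A (g * q.out)
          obtain ⟨μ, hμ⟩ := hv ((a : A) : G)⁻¹ (A.inv_mem a.2)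
          have e : g * q.out = (QuotientGroup.mk (g * q.out) : G ⧸ A).out * ((a : A) : G)⁻¹ := by
            rw [ha]; simp
          have e2 : ρ g (ρ q.out v) = μ • f (QuotientGroup.mk (g * q.out)) := by
            rw [← Module.End.mul_apply, ← map_mul]
            conv_lhs => rw [e, map_mul, Module.End.mul_apply, hμ, map_smul]
          rw [SetLike.mem_coe, e2]
          exact Submodule.smul_mem _ _ (Submodule.subset_span ⟨_, rfl⟩)
        exact this ⟨w, hw, rfl⟩ }
  have hσ : σ = ⊤ := by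
    refine (eq_bot_or_eq_top σ).resolve_left fun h => hv0 ?_
    obtain ⟨a, ha⟩ := QuotientGroup.mk_out_eq_mul A (1 : G)
    obtain ⟨μ, hμ⟩ := hv ((a : A) : G)⁻¹ (A.inv_mem a.2)
    have hf : f (QuotientGroup.mk 1) ∈ σ.toSubmodule := Submodule.subset_span ⟨_, rfl⟩
    rw [h] at hf
    have hf0 : f (QuotientGroup.mk 1) = 0 := by
      exact (Submodule.mem_bot ℂ).mp hf
    have := congrArg (ρ ((QuotientGroup.mk 1 : G ⧸ A).out)⁻¹) hf0
    simpa [f] using this
  have htop : Submodule.span ℂ (Set.range f) = ⊤ :=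
    congrArg Subrepresentation.toSubmodule hσ
  calc Module.finrank ℂ V = Module.finrank ℂ (Submodule.span ℂ (Set.range f)) := by
        rw [htop, finrank_top]
    _ ≤ Fintype.card (G ⧸ A) := finrank_range_le_card f
    _ = A.index := by rw [Subgroup.index, Nat.card_eq_fintype_card]

end Cfsg.Agent.S0178
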