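import Cfsg.Statements.S0180
import Cfsg.Agent.Lib.GaloisPos.Basic
import Cfsg.Agent.Lib.GaloisChar.Basic
import Cfsg.Agent.Lib.Chars.Integral

set_option autoImplicit false
open Cfsg

namespace Cfsg.Agent.S0180

open Cfsg.Agent.Lib


/-- Every irreducible complex character of a finite group takes only rational values if and only if g is conjugate to g ^ m for every element g and every m coprime to the group order. -/
theorem result {G : Type*} [Group G] [Finite G] : (∀ χ : Cfsg.IrrCharacter G, ∀ g : G, ∃ q : ℚ, (χ : G → ℂ) g = (q : ℂ)) ↔ ∀ m : ℕ, m.Coprime (Nat.card G) → ∀ g : G, IsConj g (g ^ m) := by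
  classical
  cases nonempty_fintype G
  constructor
  · intro hrat m hm g
    obtain ⟨σ, hσ⟩ := GaloisChar.exists_ringEquiv_pow (Nat.card_pos (α := G)) hm
    refine (Chars.isConj_iff_irr).mpr fun χ => ?_
    obtain ⟨q, hq⟩ := hrat χ g
    have h1 : σ ((χ : G → ℂ) g) = (χ : G → ℂ) g := by rw [hq]; exact map_ratCast σ q
    obtain ⟨n, ρ, hρ, hc⟩ := χ.2
    rw [← hc] at h1 ⊢
    obtain ⟨ι, _, b, μ, hμ, hb⟩ := Chars.exists_eigenbasis ρ g
    have hgm : ∀ i, ρ (g ^ m) (b i) = μ i ^ m • b i := by
      intro i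
      rw [map_pow]
      clear hσ hm
      induction m with
      | zero => simp
      | succ j hj => rw [pow_succ', Module.End.mul_apply, hj, map_smul, hb, smul_smul, ← pow_succ]
    conv_lhs => rw [← h1]
    rw [Representation.character, Chars.trace_eq_sum_of_eigenbasis _ b μ hb,
      Representation.character, Chars.trace_eq_sum_of_eigenbasis _ b _ hgm, map_sum]
    exact Finset.sum_congr rfl fun i _ => hσ _ (by
      obtain ⟨c, hc'⟩ := orderOf_dvd_natCard g
      rw [hc', pow_mul, hμ i, one_pow])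
  · intro hconj χ g
    have hmem := GaloisPos.char_mem_qbar (Chars.irr_isCharacter χ) g
    obtain ⟨z, hz⟩ := GaloisPos.exists_int_of_fixed ⟨_, hmem⟩ (Chars.irr_isIntegral χ g) fun ψ => by
      obtain ⟨k, hk, hkχ⟩ := GaloisPos.exists_pow_char' (G := G) ψ
      rw [hkχ _ (Chars.irr_isCharacter χ) g hmem]
      exact Chars.isClassFunction_apply_eq (Chars.irr_isClassFunction χ) (hconj k hk g)
    exact ⟨z, by rw [show (χ : G → ℂ) g = (z : ℂ) from hz]; push_cast; rfl⟩

end Cfsg.Agent.S0180
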