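import Cfsg.Statements.S0181
import Cfsg.Agent.Lib.Chars.Basic

set_option autoImplicit false
open Cfsg

namespace Cfsg.Agent.S0181

/-- Let H be a normal subgroup of a finite group G and ρ an irreducible complex representation whose kernel does not contain H. If g commutes with no non-identity element of H, then the character of ρ vanishes at g. -/
theorem result {G : Type*} [Group G] [Finite G] {V : Type*} [AddCommGroup V] [Module ℂ V] [FiniteDimensional ℂ V] (ρ : Representation ℂ G V) [ρ.IsIrreducible] (H : Subgroup G) [H.Normal] (hker : ∃ h ∈ H, ρ h ≠ LinearMap.id) (g : G) (hg : ∀ h ∈ H, h * g = g * h → h = 1) : ρ.character g = 0 := by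
  classical
  cases nonempty_fintype H
  obtain ⟨h₀, hh₀, hne⟩ := hker
  let U : Subrepresentation ρ :=
    ⟨Representation.invariants (ρ.comp H.subtype), fun x v hv => ρ.le_comap_invariants H x hv⟩
  have hU : U = ⊥ := (eq_bot_or_eq_top U).resolve_right fun h => hne (LinearMap.ext fun v => by
    have hv : v ∈ U.toSubmodule := h ▸ Submodule.mem_top
    exact hv ⟨h₀, hh₀⟩)
  have hsum : ∑ h : H, ρ (h : G) = 0 := LinearMap.ext fun v => by
    have hv : (∑ h : H, ρ (h : G)) v ∈ U.toSubmodule := by
      intro k
      show ρ (k : G) ((∑ h : H, ρ (h : G)) v) = (∑ h : H, ρ (h : G)) v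
      rw [← Module.End.mul_apply, Finset.mul_sum]
      congr 1
      exact Fintype.sum_equiv (Equiv.mulLeft k) _ _ fun h => by rw [← map_mul]; rfl
    rw [hU] at hv
    exact (Submodule.mem_bot ℂ).mp hv
  let f : H → H := fun h => ⟨g⁻¹ * h * g * (h : G)⁻¹,
    H.mul_mem (by simpa using (‹H.Normal›.conj_mem _ h.2 g⁻¹)) (H.inv_mem h.2)⟩
  have hinj : Function.Injective f := by
    intro a b hab
    have hab' : g⁻¹ * (a : G) * g * (a : G)⁻¹ = g⁻¹ * b * g * (b : G)⁻¹ := congrArg Subtype.val hab
    have h1 := hg ((b : G)⁻¹ * a) (H.mul_mem (H.inv_mem b.2) a.2) (by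
      calc (b : G)⁻¹ * a * g = (b : G)⁻¹ * g * (g⁻¹ * a * g * (a : G)⁻¹) * a := by group
        _ = g * ((b : G)⁻¹ * a) := by rw [hab']; group)
    exact Subtype.ext (inv_mul_eq_one.mp h1).symm
  have hconst : ∀ h : H, ρ.character (g * f h) = ρ.character g := by
    intro h
    have : g * (f h : G) = (h : G) * g * (h : G)⁻¹ := by simp only [f]; group
    rw [this, Representation.char_conj]
  have htot : ∑ h : H, ρ.character (g * h) = 0 := by
    simp only [Representation.character, map_mul, ← map_sum, ← Finset.mul_sum, hsum, mul_zero, map_zero]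
  rw [← Equiv.sum_comp (Equiv.ofBijective f (Finite.injective_iff_bijective.mp hinj))] at htot
  simp only [Equiv.ofBijective_apply, hconst, Finset.sum_const, Finset.card_univ, nsmul_eq_mul,
    mul_eq_zero] at htot
  exact htot.resolve_left (Nat.cast_ne_zero.mpr Fintype.card_ne_zero)

end Cfsg.Agent.S0181
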