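import Cfsg.Statements.S0184
import Cfsg.Agent.Lib.Chars.Completeness
import Cfsg.Agent.Lib.Clifford.Basic
import Cfsg.Agent.Lib.Core.Nilpotent

set_option autoImplicit false
open Cfsg

namespace Cfsg.Agent.S0184

open Cfsg.Agent.Lib


/-- A finite p-group admits a faithful irreducible complex representation if and only if its centre is cyclic. -/
theorem result {G : Type*} [Group G] [Finite G] (p : ℕ) [Fact p.Prime] (hG : IsPGroup p G) : (∃ (n : ℕ) (ρ : Representation ℂ G (Fin n → ℂ)), ρ.IsIrreducible ∧ Function.Injective ρ) ↔ IsCyclic (Subgroup.center G) := by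
  classical
  cases nonempty_fintype G
  constructor
  · rintro ⟨n, ρ, hρ, hinj⟩
    have hscal : ∀ z : Subgroup.center G, ∃ c : ℂ, ρ (z : G) = c • (1 : Module.End ℂ (Fin n → ℂ)) :=
      fun z => Cfsg.Agent.Lib.Clifford.schur_scalar ρ (ρ z) fun g => by
        rw [← map_mul, ← map_mul, Subgroup.mem_center_iff.mp z.2 g]
    choose c hc using hscal
    have := Chars.nontrivial_of_isIrreducible ρ
    have hsmul : Function.Injective fun a : ℂ => a • (1 : Module.End ℂ (Fin n → ℂ)) :=
      fun a b h => (algebraMap ℂ (Module.End ℂ (Fin n → ℂ))).injective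
        (by simpa only [Algebra.algebraMap_eq_smul_one] using h)
    let f : Subgroup.center G →* ℂ :=
      { toFun := c
        map_one' := hsmul (by simp [← hc])
        map_mul' := fun a b => hsmul (by
          simp only [← hc, Subgroup.coe_mul, map_mul]
          rw [hc, hc, smul_mul_smul_comm, one_mul]) }
    exact isCyclic_of_subgroup_isDomain f fun a b hab => Subtype.ext (hinj (by
      rw [hc, hc, show c a = c b from hab]))
  · intro hcyc
    rcases subsingleton_or_nontrivial G with hG1 | hG1
    · obtain ⟨n, ρ, hρ, -⟩ := Chars.isIrrCharacter_one (G := G)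
      exact ⟨n, ρ, hρ, fun a b _ => Subsingleton.elim a b⟩
    have hp : p.Prime := Fact.out
    have : Nontrivial (Subgroup.center G) := hG.center_nontrivial
    obtain ⟨k, hk0, hk⟩ := ((hG.to_subgroup _).nontrivial_iff_card).mp this
    obtain ⟨z, hz⟩ := exists_prime_orderOf_dvd_card' (G := Subgroup.center G) p
      (hk ▸ dvd_pow_self p hk0.ne')
    have hz1 : (z : G) ≠ 1 := fun h => hp.one_lt.ne' (by
      rw [← hz, show z = 1 from Subtype.ext h, orderOf_one])
    obtain ⟨χ, hχ⟩ : ∃ χ : Cfsg.IrrCharacter G, (χ : G → ℂ) z ≠ (χ : G → ℂ) 1 := by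
      by_contra hne
      push Not at hne
      exact hz1 (isConj_one_left.mp (Chars.isConj_iff_irr.mpr hne))
    obtain ⟨n, ρ, hρ, hc⟩ := χ.2
    refine ⟨n, ρ, hρ, ?_⟩
    let K : Subgroup G :=
      { carrier := {g | ρ g = 1}
        one_mem' := map_one ρ
        mul_mem' := fun {a b} ha hb => by
          simp only [Set.mem_ofPred_eq] at ha hb ⊢
          rw [map_mul, ha, hb, one_mul]
        inv_mem' := fun {a} ha => by
          simp only [Set.mem_ofPred_eq] at ha ⊢
          calc ρ a⁻¹ = ρ a⁻¹ * ρ a := by rw [ha, mul_one]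
            _ = 1 := by rw [← map_mul, inv_mul_cancel, map_one] }
    have hK : ∀ g, g ∈ K ↔ ρ g = 1 := fun g => Iff.rfl
    have hN : K.Normal := ⟨fun m hm g => by
      rw [hK] at hm ⊢
      rw [map_mul, map_mul, hm, mul_one, ← map_mul, mul_inv_cancel, map_one]⟩
    have hKbot : K = ⊥ := by
      by_contra hKne
      have : Group.IsNilpotent G := hG.isNilpotent
      set D := (K ⊓ Subgroup.center G).subgroupOf (Subgroup.center G) with hD
      have hDne : D ≠ ⊥ := by
        rw [hD, Ne, Subgroup.subgroupOf_eq_bot, disjoint_iff, inf_assoc, inf_idem]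
        exact Nilp.inf_center_ne_bot_of_normal hKne
      have hDn : Nontrivial D := (Subgroup.nontrivial_iff_ne_bot D).mpr hDne
      obtain ⟨j, hj0, hj⟩ := (((hG.to_subgroup _).to_subgroup D).nontrivial_iff_card).mp hDn
      obtain ⟨w, hw⟩ := exists_prime_orderOf_dvd_card' (G := D) p (hj ▸ dvd_pow_self p hj0.ne')
      rw [← Subgroup.orderOf_coe] at hw
      have hle := IsCyclic.card_pow_eq_one_le (α := Subgroup.center G) hp.pos
      have hsub : ∀ x : Subgroup.center G, orderOf x = p →
          (Finset.univ.filter fun a : Subgroup.center G => a ^ p = 1)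
            = Finset.univ.filter fun a => a ∈ Subgroup.zpowers x := by
        intro x hx
        refine (Finset.eq_of_subset_of_card_le (fun a ha => ?_) ?_).symm
        · obtain ⟨i, rfl⟩ := Subgroup.mem_zpowers_iff.mp (Finset.mem_filter.mp ha).2
          refine Finset.mem_filter.mpr ⟨Finset.mem_univ _, ?_⟩
          rw [← zpow_natCast (x ^ i), ← zpow_mul, mul_comm, zpow_mul, zpow_natCast, ← hx,
            pow_orderOf_eq_one, one_zpow]
        · refine hle.trans (le_of_eq ?_)
          rw [← Fintype.card_subtype, ← Nat.card_eq_fintype_card]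
          exact (hx.symm.trans (Nat.card_zpowers x).symm)
      have hzw : z ∈ Subgroup.zpowers (w : Subgroup.center G) := by
        have h1 : z ∈ Finset.univ.filter fun a => a ∈ Subgroup.zpowers z := by simp
        rw [← hsub z hz, hsub _ hw] at h1
        exact (Finset.mem_filter.mp h1).2
      have hzD : z ∈ D := (Subgroup.zpowers_le.mpr w.2) hzw
      have hzK : (z : G) ∈ K := (Subgroup.mem_subgroupOf.mp hzD).1
      exact hχ (by rw [← hc, Representation.character, (hK _).mp hzK, LinearMap.trace_one,
        Representation.char_one])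
    intro a b hab
    have hmem : a⁻¹ * b ∈ K := by
      rw [hK, map_mul, ← hab, ← map_mul, inv_mul_cancel, map_one]
    rw [hKbot, Subgroup.mem_bot] at hmem
    exact inv_mul_eq_one.mp hmem

end Cfsg.Agent.S0184
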