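import Cfsg.Statements.S0185
import Cfsg.Agent.Lib.Chars.Integral

set_option autoImplicit false
open Cfsg

namespace Cfsg.Agent.S0185

open Cfsg.Agent.Lib


/-- If a finite group has a faithful complex representation of degree less than the smallest prime dividing its order, the group is abelian. -/
theorem result {G : Type*} [Group G] [Finite G] {V : Type*} [AddCommGroup V] [Module ℂ V] [FiniteDimensional ℂ V] (ρ : Representation ℂ G V) (hfaithful : Function.Injective ρ) (hdeg : ∀ p : ℕ, p.Prime → p ∣ Nat.card G → Module.finrank ℂ V < p) (a b : G) : a * b = b * a := by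
  classical
  have key : Commute (ρ a) (ρ b) := by
    refine Chars.rep_induction (G := G) (P := fun W _ _ _ σ =>
      (∀ p : ℕ, p.Prime → p ∣ Nat.card G → Module.finrank ℂ W < p) → Commute (σ a) (σ b))
      ?_ ?_ ?_ V ρ hdeg
    · intro W _ _ _ σ hW _
      exact LinearMap.ext fun x => Subsingleton.elim _ _
    · intro W _ _ _ σ hσ hW
      have h1 : Module.finrank ℂ W = 1 := by
        by_contra h
        obtain ⟨p, hp, hpd⟩ := Nat.exists_prime_and_dvd h
        have := hW p hp (hpd.trans (Chars.finrank_dvd_card σ))
        exact absurd (Nat.le_of_dvd (Chars.finrank_pos_of_isIrreducible σ) hpd) (not_le.mpr this)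
      obtain ⟨v, hv0, hv⟩ := finrank_eq_one_iff'.mp h1
      refine LinearMap.ext fun w => ?_
      obtain ⟨c, rfl⟩ := hv w
      obtain ⟨ca, hca⟩ := hv (σ a v)
      obtain ⟨cb, hcb⟩ := hv (σ b v)
      simp [Module.End.mul_apply, map_smul, ← hca, ← hcb, smul_smul, mul_comm]
    · intro W _ _ _ σ S T hST hS hT hW
      have hS' := hS fun p hp hd => lt_of_le_of_lt (Submodule.finrank_le _) (hW p hp hd)
      have hT' := hT fun p hp hd => lt_of_le_of_lt (Submodule.finrank_le _) (hW p hp hd)
      refine LinearMap.ext fun w => ?_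
      obtain ⟨s, hs, t, ht, rfl⟩ := Submodule.mem_sup.mp
        (((Chars.isCompl_toSubmodule σ hST).sup_eq_top).symm ▸ Submodule.mem_top : w ∈ _)
      have e1 := congrArg Subtype.val (LinearMap.congr_fun hS' ⟨s, hs⟩)
      have e2 := congrArg Subtype.val (LinearMap.congr_fun hT' ⟨t, ht⟩)
      simp only [Subrepresentation.toRepresentation, Module.End.mul_apply] at e1 e2
      simp only [Module.End.mul_apply, map_add]
      exact congrArg₂ (· + ·) e1 e2
  exact hfaithful (by rw [map_mul, map_mul]; exact key.eq)

end Cfsg.Agent.S0185
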