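import Cfsg.Statements.S0186
import Cfsg.Agent.Lib.Burnside.Paqb
import Cfsg.Agent.S0185

set_option autoImplicit false
open Cfsg

namespace Cfsg.Agent.S0186

open Cfsg.Agent.Lib


/-- Let G be a finite simple group of order n and p a prime dividing n. If G has more than n / p^2 conjugacy classes, then every Sylow p-subgroup of G is abelian. -/
theorem result {G : Type*} [Group G] [Finite G] [IsSimpleGroup G] (p : ℕ) [Fact p.Prime] (hp : p ∣ Nat.card G) (hmany : Nat.card G < p ^ 2 * Nat.card (ConjClasses G)) (P : Sylow p G) (a b : G) (ha : a ∈ P) (hb : b ∈ P) : a * b = b * a := by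
  classical
  cases nonempty_fintype G
  by_contra hab
  have hp2 : p ^ 2 ∣ Nat.card G := by
    refine dvd_trans ?_ (Subgroup.card_subgroup_dvd_card (P : Subgroup G))
    obtain ⟨k, hk⟩ := P.isPGroup'.exists_card_eq
    rw [hk]
    refine pow_dvd_pow p ?_
    by_contra hk2
    have hcyc : IsCyclic (P : Subgroup G) := by
      interval_cases k
      · have : Subsingleton (P : Subgroup G) :=
          (Nat.card_eq_one_iff_unique.mp (by simpa using hk)).1
        infer_instance
      · exact isCyclic_of_prime_card (by simpa using hk)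
    exact hab (congrArg Subtype.val (IsMulCommutative.is_comm.comm (⟨a, ha⟩ : (P : Subgroup G)) ⟨b, hb⟩))
  choose e he0 he using fun ψ : Cfsg.IrrCharacter G => Chars.isIrrCharacter_exists_degree_pos ψ.2
  have hsq : ∑ ψ, e ψ ^ 2 = Nat.card G := by
    have := Chars.sum_degree_sq (G := G)
    simp only [he] at this
    exact_mod_cast this
  have hbig : ∀ ψ, ψ ≠ Chars.trivialIrr G → p ≤ e ψ := by
    intro ψ hψ
    by_contra hlt
    obtain ⟨n, ρ, hρ, hc⟩ := ψ.2
    have hinj := Cfsg.Agent.Lib.Burnside.injective_of_isSimpleGroup ρ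
      fun h => hψ (Subtype.ext (hc.symm.trans h))
    have hn : e ψ = Module.finrank ℂ (Fin n → ℂ) := by
      have := he ψ
      rw [← hc, Representation.char_one] at this
      exact_mod_cast this.symm
    refine hab ?_
    have key := Cfsg.Agent.S0185.result (ρ.comp (P : Subgroup G).subtype)
      (hinj.comp Subtype.val_injective) (fun r hr hrd => ?_) ⟨a, ha⟩ ⟨b, hb⟩
    · exact congrArg Subtype.val key
    · obtain ⟨k, hk⟩ := P.isPGroup'.exists_card_eq
      rw [hk] at hrd
      have := (Nat.prime_dvd_prime_iff_eq hr Fact.out).mp (hr.dvd_of_dvd_pow hrd)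
      subst this
      rw [← hn]; omega
  have hone : e (Chars.trivialIrr G) = 1 := by
    have := he (Chars.trivialIrr G)
    rw [Chars.trivialIrr_apply] at this
    exact_mod_cast this.symm
  rw [← Finset.add_sum_erase _ _ (Finset.mem_univ (Chars.trivialIrr G)), hone] at hsq
  have hge := Finset.card_nsmul_le_sum ((Finset.univ : Finset (Cfsg.IrrCharacter G)).erase
    (Chars.trivialIrr G)) (fun ψ => e ψ ^ 2) (p ^ 2)
    fun ψ hψ => Nat.pow_le_pow_left (hbig ψ (Finset.mem_erase.mp hψ).1) 2
  rw [Finset.card_erase_of_mem (Finset.mem_univ _), Finset.card_univ, ← Nat.card_eq_fintype_card,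
    Chars.card_irrCharacter, smul_eq_mul] at hge
  obtain ⟨m, hm⟩ := hp2
  rw [hm] at hmany hsq
  have hlt : m < Nat.card (ConjClasses G) := Nat.lt_of_mul_lt_mul_left hmany
  have hle : p ^ 2 * m ≤ (Nat.card (ConjClasses G) - 1) * p ^ 2 := by
    rw [mul_comm]; exact Nat.mul_le_mul_right _ (by omega)
  simp only [one_pow] at hsq
  omega

end Cfsg.Agent.S0186
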