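import Cfsg.Statements.S0187
import Cfsg.Agent.Lib.Chars.Completeness

set_option autoImplicit false
open Cfsg

namespace Cfsg.Agent.S0187

/-- A finite group is commutative if and only if every irreducible complex character has degree 1. -/
theorem result {G : Type*} [Group G] [Finite G] : (∀ a b : G, a * b = b * a) ↔ ∀ χ : Cfsg.IrrCharacter G, (χ : G → ℂ) 1 = 1 := by
  classical
  constructor
  · intro hab χ
    obtain ⟨n, ρ, hρ, hc⟩ := χ.2
    have : IsMulCommutative G := ⟨⟨hab⟩⟩
    rw [← hc, Representation.char_one, Representation.IsIrreducible.finrank_eq_one_of_isMulCommutative ρ,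
      Nat.cast_one]
  · intro h a b
    cases nonempty_fintype G
    have h1 := Cfsg.Agent.Lib.Chars.sum_degree_sq (G := G)
    simp only [h, one_pow, Finset.sum_const, Finset.card_univ, nsmul_eq_mul, mul_one] at h1
    have h2 : Nat.card (ConjClasses G) = Nat.card G := by
      rw [← Cfsg.Agent.Lib.Chars.card_irrCharacter, Nat.card_eq_fintype_card]
      exact_mod_cast h1
    have hinj : Function.Injective (ConjClasses.mk : G → ConjClasses G) :=
      ((Nat.bijective_iff_surjective_and_card _).mpr ⟨ConjClasses.mk_surjective, h2.symm⟩).1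
    have := hinj (ConjClasses.mk_eq_mk_iff_isConj.mpr (isConj_iff.mpr ⟨a, rfl⟩) :
      ConjClasses.mk b = ConjClasses.mk (a * b * a⁻¹))
    exact (eq_mul_inv_iff_mul_eq.mp this).symm

end Cfsg.Agent.S0187
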