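import Cfsg.Statements.S0190
import Mathlib

set_option autoImplicit false
open Cfsg

namespace Cfsg.Agent.S0190

/-- For a transitive action of a finite group on X, the permutation character g ↦ (number of fixed points of g) is the function induced from the principal character of the stabilizer of any point. -/
theorem result {G : Type*} [Group G] [Fintype G] (X : Type*) [MulAction G X] [Finite X] [MulAction.IsPretransitive G X] (x : X) : (fun g : G => (Nat.card (MulAction.fixedBy X g) : ℂ)) = Cfsg.indFun (MulAction.stabilizer G x) (fun _ => 1) := by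
  classical
  haveI : Fintype X := Fintype.ofFinite X
  funext g
  unfold Cfsg.indFun
  set H := MulAction.stabilizer G x with hH
  have hext : ∀ y : G, Cfsg.extendByZero H (fun _ => (1 : ℂ)) (y⁻¹ * g * y) =
      if g • (y • x) = y • x then 1 else 0 := by
    intro y
    have hiff : y⁻¹ * g * y ∈ H ↔ g • (y • x) = y • x := by
      rw [hH, MulAction.mem_stabilizer_iff, mul_smul, mul_smul, inv_smul_eq_iff]
    unfold Cfsg.extendByZero
    by_cases h : y⁻¹ * g * y ∈ H
    · rw [if_pos (hiff.mp h)]
      exact Subtype.val_injective.extend_apply _ _ (⟨_, h⟩ : H)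
    · rw [if_neg (fun h' => h (hiff.mpr h')), Function.extend_apply']
      · rfl
      · rintro ⟨z, hz⟩; exact h (hz ▸ z.2)
  simp only [hext]
  rw [← Finset.sum_fiberwise Finset.univ (fun y : G => y • x)]
  have hfib : ∀ z : X, (∑ y ∈ Finset.univ.filter (fun y : G => y • x = z),
      if g • (y • x) = y • x then (1 : ℂ) else 0) =
      (Nat.card H : ℂ) * if g • z = z then 1 else 0 := by
    intro z
    obtain ⟨y₀, rfl⟩ := MulAction.exists_smul_eq G x z
    rw [Finset.sum_congr rfl (g := fun _ => if g • (y₀ • x) = y₀ • x then (1 : ℂ) else 0)]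
    · rw [Finset.sum_const, nsmul_eq_mul]
      congr 2
      rw [Nat.card_eq_fintype_card, ← Finset.card_univ]
      refine Eq.symm (Finset.card_bij (fun (h : H) (_ : h ∈ (Finset.univ : Finset H)) => y₀ * (h : G)) ?_ ?_ ?_)
      · intro h _
        simp only [Finset.mem_filter, Finset.mem_univ, true_and]
        rw [mul_smul, MulAction.mem_stabilizer_iff.mp h.2]
      · intro a _ b _ hab
        exact Subtype.ext (mul_left_cancel hab)
      · intro y hy
        simp only [Finset.mem_filter, Finset.mem_univ, true_and] at hy
        refine ⟨⟨y₀⁻¹ * y, ?_⟩, Finset.mem_univ _, by simp⟩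
        rw [hH, MulAction.mem_stabilizer_iff, mul_smul, hy, inv_smul_smul]
    · intro y hy
      simp only [Finset.mem_filter, Finset.mem_univ, true_and] at hy
      rw [hy]
  simp only [hfib]
  rw [← Finset.mul_sum, ← mul_assoc, inv_mul_cancel₀ (Nat.cast_ne_zero.mpr Nat.card_pos.ne'), one_mul,
    Finset.sum_boole, Nat.card_eq_fintype_card, ← Fintype.card_subtype]
  rfl

end Cfsg.Agent.S0190
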