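import Cfsg.Statements.S0191
import Cfsg.Agent.Lib.GaloisPos.Basic

set_option autoImplicit false
open Cfsg

namespace Cfsg.Agent.S0191

open Cfsg.Agent.Lib


/-- An irreducible complex representation of a finite group of degree greater than 1 has a character that vanishes somewhere. -/
theorem result {G : Type*} [Group G] [Finite G] {V : Type*} [AddCommGroup V] [Module ℂ V] [FiniteDimensional ℂ V] (ρ : Representation ℂ G V) [ρ.IsIrreducible] (hdeg : 1 < Module.finrank ℂ V) : ∃ g : G, ρ.character g = 0 := by
  classical
  cases nonempty_fintype G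
  by_contra hne
  push Not at hne
  set s := (Finset.univ : Finset G).erase 1 with hs
  have hpow : ∀ k : ℕ, k.Coprime (Nat.card G) → ∀ g ∈ s, g ^ k ∈ s := by
    intro k hk g hg
    refine Finset.mem_erase.mpr ⟨fun h => (Finset.mem_erase.mp hg).1 ?_, Finset.mem_univ _⟩
    exact (powCoprime hk.symm).injective (by simpa [powCoprime] using h)
  have hle := GaloisPos.card_ne_zero_le_sum_normSq (Chars.isCharacter_of_rep ρ) s hpow
  rw [Finset.filter_true_of_mem fun g _ => hne g] at hle
  have horth := Chars.classInner_self_of_irreducible ρ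
  rw [Cfsg.classInner, inv_mul_eq_one₀ Chars.natCard_ne_zero] at horth
  simp only [Complex.mul_conj] at horth
  have hR : (Nat.card G : ℝ) = ∑ g : G, Complex.normSq (ρ.character g) := by exact_mod_cast horth
  rw [← Finset.add_sum_erase _ _ (Finset.mem_univ (1 : G)), Representation.char_one,
    Complex.normSq_natCast] at hR
  rw [hs, Finset.card_erase_of_mem (Finset.mem_univ _), Finset.card_univ,
    ← Nat.card_eq_fintype_card, Nat.cast_sub (Nat.one_le_iff_ne_zero.mpr Nat.card_pos.ne'), Nat.cast_one] at hle
  have : (2 : ℝ) ≤ (Module.finrank ℂ V : ℝ) := by exact_mod_cast hdeg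
  nlinarith

end Cfsg.Agent.S0191
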