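import Cfsg.Statements.S0192
import Cfsg.Agent.Lib.Chars.Completeness

set_option autoImplicit false
open Cfsg

namespace Cfsg.Agent.S0192

/-- Brauer's generation criterion. Let G be a finite simple group, H₁ and H₂ subgroups, and χ a non-principal irreducible character. If the multiplicity of the principal character in χ restricted to H₁ ⊓ H₂ is less than the sum of the corresponding multiplicities for H₁ and H₂, then H₁ and H₂ do not generate G. -/
theorem result {G : Type*} [Group G] [Fintype G] [IsSimpleGroup G] (H₁ H₂ : Subgroup G) [Fintype H₁] [Fintype H₂] [Fintype ↥(H₁ ⊓ H₂)] (χ : G → ℂ) (hχ : Cfsg.IsIrrCharacter G χ) (hχ1 : χ ≠ fun _ => 1) (hlt : (Cfsg.classInner (fun x : ↥(H₁ ⊓ H₂) => χ x) (fun _ => 1)).re < (Cfsg.classInner (fun x : H₁ => χ x) (fun _ => 1)).re + (Cfsg.classInner (fun x : H₂ => χ x) (fun _ => 1)).re) : H₁ ⊔ H₂ ≠ ⊤ := by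
  classical
  intro htop
  obtain ⟨n, ρ, hρ, rfl⟩ := hχ
  have key : ∀ (K : Subgroup G) [Fintype K], (Cfsg.classInner (fun x : K => ρ.character x) (fun _ => 1)).re
      = Module.finrank ℂ (Representation.invariants (ρ.comp K.subtype)) := by
    intro K _
    have : Invertible (Nat.card K : ℂ) := invertibleOfNonzero Cfsg.Agent.Lib.Chars.natCard_ne_zero
    have h := Representation.card_inv_mul_sum_char_eq_finrank (ρ := ρ.comp K.subtype)
    have : Cfsg.classInner (fun x : K => ρ.character x) (fun _ => 1)
        = (Module.finrank ℂ (Representation.invariants (ρ.comp K.subtype)) : ℂ) := by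
      rw [← h, Cfsg.classInner]
      simp [Representation.character]
    rw [this, Complex.natCast_re]
  rw [key, key, key] at hlt
  set U₁ := Representation.invariants (ρ.comp H₁.subtype)
  set U₂ := Representation.invariants (ρ.comp H₂.subtype)
  set U := Representation.invariants (ρ.comp (H₁ ⊓ H₂).subtype)
  have hle : U₁ ⊔ U₂ ≤ U := by
    refine sup_le (fun v hv x => ?_) (fun v hv x => ?_)
    · exact hv ⟨x.1, x.2.1⟩
    · exact hv ⟨x.1, x.2.2⟩
  have hlt' : Module.finrank ℂ U < Module.finrank ℂ U₁ + Module.finrank ℂ U₂ := by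
    exact_mod_cast hlt
  have hinf : 0 < Module.finrank ℂ ↥(U₁ ⊓ U₂) := by
    have h1 := Submodule.finrank_sup_add_finrank_inf_eq U₁ U₂
    have h2 := Submodule.finrank_mono hle
    omega
  obtain ⟨v, hv, hv0⟩ := Submodule.exists_mem_ne_zero_of_ne_bot (p := U₁ ⊓ U₂) (by
    intro h; rw [h, finrank_bot] at hinf; exact hinf.false)
  have hfix : ∀ g : G, ρ g v = v := by
    intro g
    have hg : g ∈ H₁ ⊔ H₂ := htop ▸ Subgroup.mem_top g
    rw [Subgroup.sup_eq_closure] at hg
    induction hg using Subgroup.closure_induction with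
    | mem x hx =>
      rcases hx with hx | hx
      · exact hv.1 ⟨x, hx⟩
      · exact hv.2 ⟨x, hx⟩
    | one => simp
    | mul a b _ _ ha hb => rw [map_mul, Module.End.mul_apply, hb, ha]
    | inv a _ ha =>
      conv_lhs => rw [← ha]
      rw [← Module.End.mul_apply, ← map_mul, inv_mul_cancel, map_one, Module.End.one_apply]
  let S : Subrepresentation ρ :=
    ⟨Submodule.span ℂ {v}, fun g w hw => by
      obtain ⟨c, rfl⟩ := Submodule.mem_span_singleton.mp hw
      rw [map_smul, hfix]; exact hw⟩
  have hS : S = ⊤ := (eq_bot_or_eq_top S).resolve_left fun h => hv0 (by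
    have := Submodule.mem_span_singleton_self (R := ℂ) v
    rw [show Submodule.span ℂ {v} = ⊥ from congrArg Subrepresentation.toSubmodule h] at this
    exact (Submodule.mem_bot ℂ).mp this)
  have hS' : Submodule.span ℂ {v} = ⊤ := congrArg Subrepresentation.toSubmodule hS
  refine hχ1 (funext fun g => ?_)
  have hid : ρ g = 1 := LinearMap.ext fun w => by
    obtain ⟨c, rfl⟩ := Submodule.mem_span_singleton.mp (hS' ▸ Submodule.mem_top : w ∈ Submodule.span ℂ {v})
    simp [hfix g]
  have hd := finrank_span_singleton (K := ℂ) hv0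
  rw [hS', finrank_top] at hd
  rw [Representation.character, hid, LinearMap.trace_one, hd, Nat.cast_one]

end Cfsg.Agent.S0192
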