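import Cfsg.Statements.S0194
import Cfsg.Agent.Lib.Burnside.NormalInd

set_option autoImplicit false
open scoped ComplexConjugate
open Cfsg

namespace Cfsg.Agent.S0194

open Cfsg.Agent.Lib
open scoped ComplexConjugate


/-- Let G have odd order, H be a normal subgroup and θ a non-principal irreducible character of H. Then the function induced from θ is orthogonal to its complex conjugate. -/
theorem result {G : Type*} [Group G] [Fintype G] (hodd : Odd (Nat.card G)) (H : Subgroup G) [H.Normal] (θ : H → ℂ) (hθ : Cfsg.IsIrrCharacter H θ) (hθ1 : θ ≠ fun _ => 1) : Cfsg.classInner (fun g => conj (Cfsg.indFun H θ g)) (Cfsg.indFun H θ) = 0 := by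
  classical
  have hstar : (fun g => conj (Cfsg.indFun H θ g)) = Cfsg.indFun H (fun h => conj (θ h)) := by
    funext g
    simp only [Cfsg.indFun, map_mul, map_inv₀, map_natCast, map_sum]
    congr 1
    refine Finset.sum_congr rfl fun x _ => ?_
    by_cases hx : x⁻¹ * g * x ∈ H
    · rw [Chars.extendByZero_of_mem _ hx, Chars.extendByZero_of_mem _ hx]
    · rw [Chars.extendByZero_of_not_mem _ hx, Chars.extendByZero_of_not_mem _ hx, map_zero]
  have hθ' : Cfsg.IsIrrCharacter H (fun h => conj (θ h)) := Chars.isIrrCharacter_star hθ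
  rw [hstar, Cfsg.Agent.Lib.Burnside.classInner_indFun_irr H hθ' hθ]
  have : IsEmpty {x : G // Burnside.conjFun H x (fun h => conj (θ h)) = θ} := by
    refine ⟨fun ⟨x, hx⟩ => hθ1 ?_⟩
    have hx' : Burnside.conjFun H x θ = fun h => conj (θ h) := by
      funext h
      have := congrArg conj (congrFun hx h)
      simpa [Burnside.conjFun] using this
    have h2 : Burnside.conjFun H (x ^ 2) θ = θ := by
      rw [pow_two, ← Burnside.conjFun_conjFun, hx', hx]
    obtain ⟨k, hk⟩ := hodd
    have hx1 : x = (x ^ 2) ^ (k + 1) := by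
      rw [← pow_mul, show 2 * (k + 1) = Nat.card G + 1 by omega, pow_succ, pow_card_eq_one', one_mul]
    have h3 : Burnside.conjFun H x θ = θ := by
      rw [hx1]; exact Burnside.conjFun_pow_fixed H _ θ h2 _
    exact Burnside.eq_one_of_star_eq_self_of_odd
      (Odd.of_dvd_nat ⟨k, hk⟩ (Subgroup.card_subgroup_dvd_card H)) hθ
      fun h => (congrFun (hx'.symm.trans h3) h)
  simp

end Cfsg.Agent.S0194
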