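import Cfsg.Statements.S0196
import Mathlib

set_option autoImplicit false
open Cfsg

namespace Cfsg.Agent.S0196

/-- Let A be a subgroup of a finite group G that equals the centralizer of each of its non-identity elements, and let N be its normalizer. Then the index of A in N divides |A| − 1 (N/A permutes the non-identity elements of A in orbits of full length). -/
theorem result {G : Type*} [Group G] [Finite G] (A : Subgroup G) (hA : ∀ x ∈ A, x ≠ 1 → Subgroup.centralizer ({x} : Set G) = A) : (A.subgroupOf (Subgroup.normalizer (A : Set G))).index ∣ Nat.card A - 1 := by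
  classical
  set N : Subgroup G := Subgroup.normalizer (A : Set G) with hN
  let X := {x : A // x ≠ 1}
  have key : ∀ (n : N) (a : A), (n : G) * (a : G) * (n : G)⁻¹ ∈ A := fun n a =>
    (Subgroup.mem_normalizer_iff.mp n.2 a).mp a.2
  let act : MulAction N X :=
    { smul := fun n x => ⟨⟨(n : G) * (x.1 : G) * (n : G)⁻¹, key n x.1⟩, fun h => x.2 (by
        have h' := congrArg Subtype.val h
        simp only [OneMemClass.coe_one, mul_inv_eq_one, mul_eq_left] at h'
        exact Subtype.ext h')⟩
      one_smul := fun x => by
        apply Subtype.ext; apply Subtype.ext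
        show ((1 : N) : G) * (x.1 : G) * ((1 : N) : G)⁻¹ = (x.1 : G)
        simp
      mul_smul := fun m n x => by
        apply Subtype.ext; apply Subtype.ext
        show ((m * n : N) : G) * (x.1 : G) * ((m * n : N) : G)⁻¹ =
          (m : G) * ((n : G) * (x.1 : G) * (n : G)⁻¹) * (m : G)⁻¹
        simp [mul_assoc] }
  have hst : ∀ x : X, MulAction.stabilizer N x = A.subgroupOf N := by
    intro x
    ext n
    have hx : ((x.1 : A) : G) ≠ 1 := by
      intro h; exact x.2 (Subtype.ext h)
    rw [MulAction.mem_stabilizer_iff, Subgroup.mem_subgroupOf]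
    constructor
    · intro h
      have h' : (n : G) * (x.1 : G) * (n : G)⁻¹ = (x.1 : G) :=
        congrArg (fun y : X => ((y.1 : A) : G)) h
      rw [← hA _ x.1.2 hx, Subgroup.mem_centralizer_singleton_iff]
      exact mul_inv_eq_iff_eq_mul.mp h'
    · intro h
      rw [← hA _ x.1.2 hx, Subgroup.mem_centralizer_singleton_iff] at h
      apply Subtype.ext; apply Subtype.ext
      show (n : G) * (x.1 : G) * (n : G)⁻¹ = (x.1 : G)
      rw [h]; simp
  haveI : Fintype (Quotient (MulAction.orbitRel N X)) := Fintype.ofFinite _
  have hX : Nat.card X = Nat.card A - 1 := by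
    haveI : Fintype A := Fintype.ofFinite _
    simp only [X, Nat.card_eq_fintype_card, Fintype.card_subtype_compl, Fintype.card_subtype_eq]
  have horb : ∀ x : X, Nat.card (MulAction.orbit N x) = (A.subgroupOf N).index := by
    intro x
    rw [← hst x, MulAction.index_stabilizer, Nat.card_coe_set_eq]
  rw [← hX, Nat.card_congr (MulAction.selfEquivSigmaOrbits N X), Nat.card_sigma]
  exact Finset.dvd_sum fun ω _ => by
    obtain ⟨x, rfl⟩ := Quotient.mk_surjective ω
    convert (dvd_of_eq (horb x).symm) using 1
    have : MulAction.orbit N (Quotient.mk (MulAction.orbitRel N X) x).out = MulAction.orbit N x := by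
      rw [MulAction.orbit_eq_iff]
      exact Quotient.mk_out (s := MulAction.orbitRel N X) x
    rw [this]

end Cfsg.Agent.S0196
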