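import Cfsg.Statements.S0197
import Cfsg.Agent.Lib.InvCentralizer.GLTwoThreeMain

set_option autoImplicit false
open Cfsg

namespace Cfsg.Agent.S0197

/-- If a finite simple group has an involution whose centralizer is isomorphic to the general linear group GL(2, 3), then the group has order 5616 or 7920. -/
theorem result {G : Type*} [Group G] [Finite G] [IsSimpleGroup G] (t : G) (ht : orderOf t = 2) (e : Subgroup.centralizer ({t} : Set G) ≃* Matrix.GeneralLinearGroup (Fin 2) (ZMod 3)) : Nat.card G = 5616 ∨ Nat.card G = 7920 := by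
  haveI : Fintype G := Fintype.ofFinite G
  haveI : Fact (Nat.Prime 3) := ⟨Nat.prime_three⟩
  refine Cfsg.Agent.Lib.InvCentralizer.card_of_gl_centralizer t ht (fun H hH => ?_)
    (e.trans Cfsg.Agent.Lib.InvCentralizer.glThreeEquiv)
  haveI hn : H.Normal := Subgroup.normal_of_index_eq_two hH
  rcases hn.eq_bot_or_eq_top with h | h
  · rw [h, Subgroup.index_bot] at hH
    have hd := Subgroup.card_subgroup_dvd_card (Subgroup.centralizer ({t} : Set G))
    rw [hH, Nat.card_congr (e.trans Cfsg.Agent.Lib.InvCentralizer.glThreeEquiv).toEquiv,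
      Nat.card_eq_fintype_card,
      show Fintype.card Cfsg.Agent.Lib.InvCentralizer.GLThree = 48 by decide +kernel] at hd
    norm_num at hd
  · rw [h, Subgroup.index_top] at hH
    omega

end Cfsg.Agent.S0197
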