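import Cfsg.Statements.S0212
import Mathlib
import Cfsg.Agent.Lib.Involution.BrauerFowlerThms
import Cfsg.Agent.Lib.SmallGroups.Basic

set_option autoImplicit false
open Cfsg
open Cfsg.Agent.Lib.Involution

namespace Cfsg.Agent.S0212

/-- The Brauer–Fowler bound: if G is a finite simple group and t an involution of G whose centralizer has order n, then |G| ≤ (2n^2)!. -/
theorem result {G : Type*} [Group G] [Finite G] [IsSimpleGroup G] (t : G) (ht : orderOf t = 2) : Nat.card G ≤ Nat.factorial (2 * (Nat.card (Subgroup.centralizer ({t} : Set G))) ^ 2) := by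
  classical
  have := Fintype.ofFinite G
  set n := Nat.card (Subgroup.centralizer ({t} : Set G)) with hn
  have hn1 : 1 ≤ n := Nat.card_pos
  by_cases hab : IsMulCommutative G
  · letI : CommGroup G := { (inferInstance : Group G) with mul_comm := hab.is_comm.comm }
    have hp : (Nat.card G).Prime := IsSimpleGroup.prime_card
    have h2 : 2 = Nat.card G :=
      (Nat.prime_dvd_prime_iff_eq Nat.prime_two hp).mp (ht ▸ orderOf_dvd_natCard t)
    rw [← h2]
    calc (2 : ℕ) ≤ 2 * n ^ 2 := by nlinarith
      _ ≤ _ := Nat.self_le_factorial _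
  · set K : Set G := {y | IsConj t y} with hK
    set k := K.ncard with hk
    have hKinv : ∀ a ∈ K, orderOf a = 2 := fun a ha => (isConj_orderOf ha).trans ht
    have hkn : k * n = Nat.card G := by
      rw [hk, ← Nat.card_coe_set_eq]; exact card_isConj_mul_card_centralizer t
    obtain ⟨x, hx1, hx⟩ : ∃ x : G, x ≠ 1 ∧
        Nat.card G ≤ Nat.card (Subgroup.centralizer ({x} : Set G)) * (2 * n ^ 2) := by
      by_contra hcon
      push_neg at hcon
      have hsum := card_sq_le_card_add_sum K hKinv
        (fun y => Nat.card (Subgroup.centralizer ({y} : Set G)))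
        (fun y _ => card_pairs_le_centralizer y K K hKinv hKinv)
      have h1 : (∑ y ∈ Finset.univ.erase (1 : G), Nat.card (Subgroup.centralizer ({y} : Set G))) *
          (2 * n ^ 2) ≤ ∑ _y ∈ Finset.univ.erase (1 : G), Nat.card G := by
        rw [Finset.sum_mul]
        exact Finset.sum_le_sum fun y hy => (hcon y (Finset.ne_of_mem_erase hy)).le
      rw [Finset.sum_const, smul_eq_mul, Finset.card_erase_of_mem (Finset.mem_univ _),
        Finset.card_univ, ← Nat.card_eq_fintype_card] at h1
      have hk2 : 2 ≤ k := by
        by_contra hk'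
        have hk1 : k = 1 := by
          rcases Nat.eq_zero_or_pos k with h0 | h0
          · rw [h0, zero_mul] at hkn
            have := Nat.card_pos (α := G); omega
          · omega
        rw [hk1, one_mul] at hkn
        exact Cfsg.Agent.Lib.SmallGroups.centralizer_ne_top hab (ne_one ht)
          (Subgroup.eq_top_of_card_eq _ hkn)
      have hsum2 := Nat.mul_le_mul_right (2 * n ^ 2) hsum
      rw [← hkn] at h1
      obtain ⟨m, hm⟩ : ∃ m, k * n = m + 1 := ⟨k * n - 1, by
        have := Nat.card_pos (α := G); omega⟩
      rw [hm, Nat.add_sub_cancel] at h1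
      rw [← hk] at hsum2
      have e : 2 * (k * n) ^ 2 ≤ 2 * (k * n) * n + m * (m + 1) := by
        calc 2 * (k * n) ^ 2 = k * k * (2 * n ^ 2) := by ring
          _ ≤ _ := hsum2
          _ = 2 * (k * n) * n + (∑ y ∈ Finset.univ.erase (1 : G),
              Nat.card (Subgroup.centralizer ({y} : Set G))) * (2 * n ^ 2) := by ring
          _ ≤ _ := Nat.add_le_add_left h1 _
      have h2n : 2 * n ≤ m + 1 := hm ▸ Nat.mul_le_mul_right n hk2
      rw [hm] at e
      have e2 : (m + 1) * (2 * (m + 1)) ≤ (m + 1) * (2 * n + m) := by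
        calc (m + 1) * (2 * (m + 1)) = 2 * (m + 1) ^ 2 := by ring
          _ ≤ _ := e
          _ = (m + 1) * (2 * n + m) := by ring
      have := Nat.le_of_mul_le_mul_left e2 (Nat.succ_pos m)
      omega
    have hne := Cfsg.Agent.Lib.SmallGroups.centralizer_ne_top hab hx1
    set C := Subgroup.centralizer ({x} : Set G)
    have hidx : C.index ≤ 2 * n ^ 2 := by
      rw [← C.card_mul_index] at hx
      exact Nat.le_of_mul_le_mul_left hx Nat.card_pos
    have h2 := Nat.le_of_dvd (Nat.factorial_pos _)
      (Cfsg.Agent.Lib.SmallGroups.two_mul_card_dvd_factorial hab hne)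
    have h3 := Nat.factorial_le hidx
    omega

end Cfsg.Agent.S0212
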