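import Cfsg.Statements.S0214
import Mathlib
import Cfsg.Agent.Lib.Involution.StronglyEmbedded

set_option autoImplicit false
open Cfsg
open Cfsg.Agent.Lib.Involution

namespace Cfsg.Agent.S0214

/-- Let H be a proper subgroup of the finite group G and P a nontrivial Sylow 2-subgroup of H. Then H is strongly embedded in G if and only if N_G(X) ≤ H for every nontrivial subgroup X of P. -/
theorem result {G : Type*} [Group G] [Finite G] (H : Subgroup G) (hH : H ≠ ⊤) (P : Sylow 2 ↥H) (hP : (P : Subgroup ↥H) ≠ ⊥) : Cfsg.IsStronglyEmbedded H ↔ (∀ X : Subgroup ↥H, X ≤ (P : Subgroup ↥H) → X ≠ ⊥ → Subgroup.normalizer ((X.map H.subtype : Subgroup G) : Set G) ≤ H) := by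
  have : Fact (Nat.Prime 2) := ⟨Nat.prime_two⟩
  constructor
  · intro hse X hXP hX
    refine IsSE_normalizer_le hse (Subgroup.map_subtype_le X) ?_
    rw [Subgroup.card_map_of_injective H.subtype_injective]
    obtain ⟨k, hk⟩ := (P.2.to_le hXP).exists_card_eq
    rcases k with _ | k
    · exact absurd (Subgroup.eq_bot_of_card_eq X (by simpa using hk)) hX
    · rw [hk, pow_succ]; exact even_iff_two_dvd.mpr (dvd_mul_left _ _)
  · intro hcond
    have heven : Even (Nat.card H) := by
      obtain ⟨k, hk⟩ := P.2.exists_card_eq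
      rcases k with _ | k
      · exact absurd (Subgroup.eq_bot_of_card_eq _ (by simpa using hk)) hP
      · rw [even_iff_two_dvd]
        refine dvd_trans ?_ (Subgroup.card_subgroup_dvd_card (P : Subgroup H))
        rw [hk, pow_succ]; exact dvd_mul_left _ _
    have hc : ∀ X : Subgroup G, X ≤ H → IsPGroup 2 X → X ≠ ⊥ →
        Subgroup.normalizer (X : Set G) ≤ H := by
      intro X hXH hX2 hXne g hg
      obtain ⟨R, hR⟩ := IsPGroup.exists_le_sylow (P := X.subgroupOf H)
        (hX2.comap_subtype (K := H))
      obtain ⟨k, hk⟩ := MulAction.exists_smul_eq H R P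
      set Y : Subgroup H := (X.subgroupOf H).map (MulAut.conj k).toMonoidHom with hY
      have hYP : Y ≤ (P : Subgroup H) := by
        rw [← hk, Sylow.coe_subgroup_smul]
        exact Subgroup.map_mono hR
      have hYne : Y ≠ ⊥ := by
        rw [hY, Ne, Subgroup.map_eq_bot_iff_of_injective _ (MulEquiv.injective _),
          Subgroup.subgroupOf_eq_bot]
        intro hd
        exact hXne (le_bot_iff.mp (hd le_rfl hXH))
      have hYG : Y.map H.subtype = X.map (MulAut.conj (k : G)).toMonoidHom := by
        rw [hY, Subgroup.map_map, show H.subtype.comp (MulAut.conj k).toMonoidHom =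
          ((MulAut.conj (k : G)).toMonoidHom).comp H.subtype from MonoidHom.ext fun _ => rfl,
          ← Subgroup.map_map, Subgroup.map_subgroupOf_eq_of_le hXH]
      have hmem := hcond Y hYP hYne (x := (k : G) * g * (k : G)⁻¹) (by
        rw [hYG, Subgroup.mem_normalizer_iff]
        intro z
        rw [Subgroup.mem_map_equiv, Subgroup.mem_map_equiv]
        simp only [MulAut.conj_symm_apply]
        rw [Subgroup.mem_normalizer_iff.mp hg ((k : G)⁻¹ * z * k)]
        simp [mul_assoc])
      have := H.mul_mem (H.mul_mem (H.inv_mem k.2) hmem) k.2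
      simpa [mul_assoc] using this
    rw [isStronglyEmbedded_iff]
    refine ⟨hH, heven, fun t htH ht g hgt => ?_⟩
    by_contra hgH
    set D := H ⊓ H.map (MulAut.conj g).toMonoidHom with hD
    have hDeven : Even (Nat.card D) := (even_card_inf_map_conj_iff H g).mpr ⟨t, htH, ht, hgt⟩
    obtain ⟨S⟩ : Nonempty (Sylow 2 D) := inferInstance
    set D2 : Subgroup G := (S : Subgroup D).map D.subtype with hD2
    have hD2D : D2 ≤ D := Subgroup.map_subtype_le _
    have hD2H : D2 ≤ H := hD2D.trans inf_le_left
    have hD2p : IsPGroup 2 D2 := S.2.map _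
    have hD2ne : D2 ≠ ⊥ := by
      rw [hD2, Ne, Subgroup.map_eq_bot_iff_of_injective _ D.subtype_injective]
      exact S.ne_bot_of_dvd_card (even_iff_two_dvd.mp hDeven)
    -- the conjugate of `D2` inside `H`
    set E2 : Subgroup G := D2.map (MulAut.conj g⁻¹).toMonoidHom with hE2
    have hE2H : E2 ≤ H := by
      rintro _ ⟨z, hz, rfl⟩
      obtain ⟨w, hw, hwz⟩ := (hD2D hz).2
      rw [← hwz]
      simpa [mul_assoc] using hw
    have hE2p : IsPGroup 2 E2 := hD2p.map _
    have hE2ne : E2 ≠ ⊥ := by
      rwa [hE2, Ne, Subgroup.map_eq_bot_iff_of_injective _ (MulEquiv.injective _)]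
    obtain ⟨Q, hQ⟩ := IsPGroup.exists_le_sylow (P := D2.subgroupOf H) (hD2p.comap_subtype (K := H))
    by_cases hQeq : D2.subgroupOf H = (Q : Subgroup H)
    · -- `D2` is a Sylow 2-subgroup of `H`
      obtain ⟨Q', hQ'⟩ := IsPGroup.exists_le_sylow (P := E2.subgroupOf H)
        (hE2p.comap_subtype (K := H))
      have hQ'eq : E2.subgroupOf H = (Q' : Subgroup H) := by
        apply Subgroup.eq_of_le_of_card_ge hQ'
        rw [Q'.card_eq_multiplicity, ← Q.card_eq_multiplicity, ← hQeq,
          Nat.card_congr (Subgroup.subgroupOfEquivOfLe hE2H).toEquiv,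
          Nat.card_congr (Subgroup.subgroupOfEquivOfLe hD2H).toEquiv, hE2,
          Subgroup.card_map_of_injective (f := (MulAut.conj g⁻¹).toMonoidHom) (MulEquiv.injective _)]
      obtain ⟨k, hk⟩ := MulAction.exists_smul_eq H Q' Q
      have hk' : E2.map (MulAut.conj (k : G)).toMonoidHom = D2 := by
        have h1 : (Q : Subgroup H) = (E2.subgroupOf H).map (MulAut.conj k).toMonoidHom := by
          rw [← hk, Sylow.coe_subgroup_smul, hQ'eq]; rfl
        have h2 := congrArg (Subgroup.map H.subtype) h1
        rw [← hQeq, Subgroup.map_subgroupOf_eq_of_le hD2H, Subgroup.map_map,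
          show H.subtype.comp (MulAut.conj k).toMonoidHom =
            ((MulAut.conj (k : G)).toMonoidHom).comp H.subtype from MonoidHom.ext fun _ => rfl,
          ← Subgroup.map_map, Subgroup.map_subgroupOf_eq_of_le hE2H] at h2
        exact h2.symm
      rw [hE2, Subgroup.map_map] at hk'
      have hN : (k : G) * g⁻¹ ∈ Subgroup.normalizer (D2 : Set G) := by
        rw [Subgroup.mem_normalizer_iff]
        intro z
        conv_rhs => rw [← hk']
        rw [Subgroup.mem_map]
        constructor
        · intro hz; exact ⟨z, hz, by simp [mul_assoc]⟩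
        · rintro ⟨w, hw, hwz⟩
          have : w = z := by simpa [mul_assoc] using hwz
          exact this ▸ hw
      have h3 := hc D2 hD2H hD2p hD2ne hN
      have := H.mul_mem (H.inv_mem k.2) h3
      exact hgH (by simpa using H.inv_mem this)
    · -- otherwise `D2` grows inside `H ⊓ g H g⁻¹`
      set Q2 : Subgroup G := (Q : Subgroup H).map H.subtype with hQ2
      have hQ2p : IsPGroup 2 Q2 := Q.2.map _
      have hle : D2 ≤ Q2 := by
        rw [← Subgroup.map_subgroupOf_eq_of_le hD2H]; exact Subgroup.map_mono hQ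
      have : Group.IsNilpotent Q2 := hQ2p.isNilpotent
      have hlt : D2.subgroupOf Q2 < ⊤ := by
        rw [lt_top_iff_ne_top, Ne, Subgroup.subgroupOf_eq_top]
        intro h
        apply hQeq
        refine le_antisymm hQ fun z hz => ?_
        exact h ⟨z, hz, rfl⟩
      obtain ⟨y, hy, hyn⟩ := SetLike.exists_of_lt
        (Group.normalizerCondition_of_isNilpotent (G := Q2) _ hlt)
      have hyN : (y : G) ∈ Subgroup.normalizer (D2 : Set G) := by
        rw [Subgroup.mem_normalizer_iff]
        intro z
        constructor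
        · intro hz
          have := (Subgroup.mem_normalizer_iff.mp hy ⟨z, hle hz⟩).mp hz
          simpa [Subgroup.mem_subgroupOf] using this
        · intro hz
          have hzQ : z ∈ Q2 := by
            have := Q2.mul_mem (Q2.mul_mem (Q2.inv_mem y.2) (hle hz)) y.2
            simpa [mul_assoc] using this
          exact (Subgroup.mem_normalizer_iff.mp hy ⟨z, hzQ⟩).mpr
            (by simpa [Subgroup.mem_subgroupOf] using hz)
      have hyD : (y : G) ∈ D := by
        refine ⟨Subgroup.map_subtype_le _ y.2, g⁻¹ * y * g, ?_, by simp [mul_assoc]⟩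
        refine hc E2 hE2H hE2p hE2ne ?_
        rw [hE2, Subgroup.mem_normalizer_iff]
        intro z
        rw [Subgroup.mem_map_equiv, Subgroup.mem_map_equiv]
        simp only [MulAut.conj_symm_apply, inv_inv]
        rw [Subgroup.mem_normalizer_iff.mp hyN (g * z * g⁻¹)]
        simp [mul_assoc]
      have hbig : IsPGroup 2 ((D2 ⊔ Subgroup.zpowers (y : G)).subgroupOf D) :=
        (hQ2p.to_le (sup_le hle (Subgroup.zpowers_le.mpr y.2))).comap_subtype
      have heq := S.3 hbig (fun z hz => show (z : G) ∈ D2 ⊔ Subgroup.zpowers (y : G) from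
        Subgroup.mem_sup_left ⟨z, hz, rfl⟩)
      apply hyn
      rw [Subgroup.mem_subgroupOf]
      refine ⟨⟨y, hyD⟩, ?_, rfl⟩
      rw [← heq]
      exact Subgroup.mem_sup_right (Subgroup.mem_zpowers _)

end Cfsg.Agent.S0214
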