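import Cfsg.Statements.S0216
import Mathlib
import Cfsg.Agent.Lib.Involution.Isolated

set_option autoImplicit false
open Cfsg
open Cfsg.Agent.Lib.Involution

namespace Cfsg.Agent.S0216

/-- For an involution u in a Sylow 2-subgroup P of a finite group G, the following are equivalent: no G-conjugate of u other than u lies in P; every commutator of u with an element of G has odd order. -/
theorem result {G : Type*} [Group G] [Finite G] (P : Sylow 2 G) (u : G) (hu : orderOf u = 2) (huP : u ∈ P) : (∀ g : G, g * u * g⁻¹ ∈ P → g * u * g⁻¹ = u) ↔ (∀ g : G, Odd (orderOf (u * g * u⁻¹ * g⁻¹))) := by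
  have : Fact (Nat.Prime 2) := ⟨Nat.prime_two⟩
  have hu' := mul_self_eq_one hu
  have huinv := inv_eq_self hu'
  constructor
  · intro hiso g
    set s := g * u * g⁻¹ with hsdef
    have hsu : IsConj u s := isConj_iff.mpr ⟨g, rfl⟩
    have hs' := mul_self_eq_one ((isConj_orderOf hsu).trans hu)
    rw [show u * g * u⁻¹ * g⁻¹ = u * s by rw [hsdef, huinv]; group]
    obtain ⟨a, m, hm, hn⟩ := Nat.exists_eq_two_pow_mul_odd (n := orderOf (u * s)) (orderOf_pos _).ne'
    obtain ⟨k, hk⟩ := hm
    suffices h : (u * s) ^ m = 1 by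
      have h1 := orderOf_dvd_of_pow_eq_one h
      exact (show Odd m from ⟨k, hk⟩).of_dvd_nat h1
    set y := u * (u * s) ^ m with hy
    have hyeq : y = (u * s) ^ (-(m : ℤ)) * u := by
      rw [hy, mul_pow_pair hu' hs', zpow_neg, zpow_natCast]
    have hyconj : IsConj u y := by
      refine hsu.trans (isConj_iff.mpr ⟨(u * s) ^ (-(k : ℤ)), ?_⟩)
      conv_lhs => arg 1; arg 2; rw [right_eq_zpow_mul hu' hs']
      rw [mul_assoc _ ((u * s) ^ (-1 : ℤ) * u), mul_assoc ((u * s) ^ (-1 : ℤ)), ← zpow_neg, neg_neg,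
        mul_zpow_pair hu' hs', ← mul_assoc, ← mul_assoc, ← zpow_add, ← zpow_add, hyeq]
      congr 2
      omega
    have hy' := mul_self_eq_one ((isConj_orderOf hyconj).trans hu)
    have hprod : u * y = (u * s) ^ m := by rw [hy, ← mul_assoc, hu', one_mul]
    have hpow : (u * y) ^ 2 ^ a = 1 := by
      rw [hprod, ← pow_mul, mul_comm, ← hn, pow_orderOf_eq_one]
    have := eq_of_isolated_of_isPGroup P hiso (IsConj.refl u) hyconj
      (isPGroup_two_closure_pair hu' hy' a hpow) (Subgroup.subset_closure (by simp))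
      (Subgroup.subset_closure (by simp))
    rw [← hprod, ← this, hu']
  · intro hodd g hg
    have hmem : u * g * u⁻¹ * g⁻¹ ∈ (P : Subgroup G) := by
      rw [show u * g * u⁻¹ * g⁻¹ = u * (g * u * g⁻¹)⁻¹ by group]
      exact Subgroup.mul_mem _ huP (Subgroup.inv_mem _ hg)
    obtain ⟨k, hk⟩ := IsPGroup.iff_orderOf.mp P.2 ⟨_, hmem⟩
    rw [Subgroup.orderOf_mk] at hk
    have ho := hodd g
    rcases k with _ | k
    · rw [pow_zero, orderOf_eq_one_iff,
        show u * g * u⁻¹ * g⁻¹ = u * (g * u * g⁻¹)⁻¹ by group, mul_inv_eq_one] at hk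
      exact hk.symm
    · rw [hk, Nat.odd_iff, pow_succ, Nat.mul_mod_left] at ho
      exact absurd ho (by decide)

end Cfsg.Agent.S0216
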