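import Cfsg.Statements.S0218
import Mathlib
import Cfsg.Agent.Lib.Involution.Basic

set_option autoImplicit false
open Cfsg
open Cfsg.Agent.Lib.Involution

namespace Cfsg.Agent.S0218

/-- The generalized quaternion group of order 2^(n+3) contains exactly one element of order 2. -/
theorem result (n : ℕ) : Nat.card {x : QuaternionGroup (2 ^ (n + 1)) // orderOf x = 2} = 1 := by
  have key : ∀ (M : ℕ) [NeZero M] (u : QuaternionGroup M), orderOf u = 2 →
      u = QuaternionGroup.a (M : ZMod (2 * M)) := by
    intro M hM
    rintro (i | i) hu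
    · congr 1
      rw [QuaternionGroup.orderOf_a] at hu
      have hg : Nat.gcd (2 * M) i.val = M := by
        have := Nat.div_mul_cancel (Nat.gcd_dvd_left (2 * M) i.val)
        rw [hu] at this
        omega
      obtain ⟨q, hq⟩ : M ∣ i.val := by
        conv_lhs => rw [← hg]
        exact Nat.gcd_dvd_right _ _
      have hlt := ZMod.val_lt i
      have hq1 : q < 2 := by nlinarith
      have hval : i.val = M := by
        rcases (show q = 0 ∨ q = 1 by omega) with rfl | rfl
        · rw [hq, mul_zero, Nat.gcd_zero_right] at hg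
          have : 0 < M := Nat.pos_of_ne_zero hM.out
          omega
        · rw [hq, mul_one]
      rw [← ZMod.natCast_zmod_val i, hval]
    · rw [QuaternionGroup.orderOf_xa] at hu; omega
  have hm : NeZero (2 ^ (n + 1)) := ⟨by positivity⟩
  rw [Nat.card_eq_one_iff_unique]
  refine ⟨⟨fun u v => Subtype.ext ?_⟩, ?_⟩
  · rw [key _ _ u.2, key _ _ v.2]
  · obtain ⟨t, ht⟩ := exists_prime_orderOf_dvd_card' (G := QuaternionGroup (2 ^ (n + 1))) 2
      (by rw [Nat.card_eq_fintype_card, QuaternionGroup.card]; omega)
    exact ⟨⟨t, ht⟩⟩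

end Cfsg.Agent.S0218
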