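import Cfsg.Statements.S0220
import Mathlib
import Cfsg.Agent.Lib.Involution.Basic
import Cfsg.Agent.Lib.Involution.ThompsonTransfer

set_option autoImplicit false
open Cfsg
open Cfsg.Agent.Lib.Involution

namespace Cfsg.Agent.S0220

/-- If x is an involution of a finite group G and a Sylow 2-subgroup of the centralizer of x is cyclic, then G has a subgroup of index 2; in particular G is not simple unless it has order 2. -/
theorem result {G : Type*} [Group G] [Finite G] (x : G) (hx : orderOf x = 2) (S : Sylow 2 ↥(Subgroup.centralizer ({x} : Set G))) (hS : IsCyclic (S : Subgroup ↥(Subgroup.centralizer ({x} : Set G)))) : ∃ H : Subgroup G, H.index = 2 := by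
  have : Fact (Nat.Prime 2) := ⟨Nat.prime_two⟩
  set K : Subgroup G := (S : Subgroup (Subgroup.centralizer ({x} : Set G))).map (Subgroup.centralizer ({x} : Set G)).subtype with hK
  obtain ⟨P, hP⟩ := (S.2.map (Subgroup.centralizer ({x} : Set G)).subtype).exists_le_sylow
  have hPC : (P : Subgroup G).subgroupOf (Subgroup.centralizer ({x} : Set G)) = (S : Subgroup (Subgroup.centralizer ({x} : Set G))) :=
    S.3 (P.2.comap_subtype (K := (Subgroup.centralizer ({x} : Set G)))) (fun z hz => hP ⟨z, hz, rfl⟩)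
  have hxK : x ∈ K := by
    have hxC : x ∈ (Subgroup.centralizer ({x} : Set G)) := Subgroup.mem_centralizer_singleton_iff.mpr rfl
    obtain ⟨R, hR⟩ := IsPGroup.exists_le_sylow (P := Subgroup.zpowers (⟨x, hxC⟩ : (Subgroup.centralizer ({x} : Set G)))) (p := 2)
      (IsPGroup.of_card (n := 1) (by rw [Nat.card_zpowers, Subgroup.orderOf_mk, hx, pow_one]))
    obtain ⟨c, hc⟩ := MulAction.exists_smul_eq (Subgroup.centralizer ({x} : Set G)) R S
    refine ⟨⟨x, hxC⟩, ?_, rfl⟩
    rw [← hc, Sylow.coe_subgroup_smul]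
    have h1 := Subgroup.smul_mem_pointwise_smul _ (MulAut.conj c) _ (hR (Subgroup.mem_zpowers _))
    have e : MulAut.conj c • (⟨x, hxC⟩ : (Subgroup.centralizer ({x} : Set G))) = ⟨x, hxC⟩ := by
      apply Subtype.ext
      show (c : G) * x * (c : G)⁻¹ = x
      rw [Subgroup.mem_centralizer_singleton_iff.mp c.2, mul_inv_cancel_right]
    rw [e] at h1
    exact h1
  haveI : IsCyclic (S : Subgroup (Subgroup.centralizer ({x} : Set G))) := hS
  obtain ⟨a, ha⟩ := IsCyclic.exists_generator (α := (S : Subgroup (Subgroup.centralizer ({x} : Set G))))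
  have hKa : ∀ w ∈ K, w ∈ Subgroup.zpowers ((a : (Subgroup.centralizer ({x} : Set G))) : G) := by
    rintro _ ⟨w, hw, rfl⟩
    obtain ⟨k, hk⟩ := ha ⟨w, hw⟩
    exact ⟨k, by simpa using congrArg (fun v : (S : Subgroup (Subgroup.centralizer ({x} : Set G))) => ((v : (Subgroup.centralizer ({x} : Set G))) : G)) hk⟩
  have hxP : x ∈ (P : Subgroup G) := hP hxK
  haveI : Nontrivial (P : Subgroup G) :=
    ⟨⟨⟨x, hxP⟩, 1, fun h => ne_one hx (congrArg Subtype.val h)⟩⟩
  haveI := P.2.center_nontrivial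
  have h2 : 2 ∣ Nat.card (Subgroup.center (P : Subgroup G)) := by
    obtain ⟨k, hk⟩ := (P.2.to_subgroup (Subgroup.center (P : Subgroup G))).exists_card_eq
    rcases k with _ | k
    · have := Finite.one_lt_card (α := Subgroup.center (P : Subgroup G)); omega
    · rw [hk, pow_succ]; exact dvd_mul_left _ _
  obtain ⟨z, hz⟩ := exists_prime_orderOf_dvd_card' 2 h2
  rw [← Subgroup.orderOf_coe, ← Subgroup.orderOf_coe] at hz
  have hzcomm : ∀ w ∈ (P : Subgroup G), w * ((z : (P : Subgroup G)) : G) = ((z : (P : Subgroup G)) : G) * w :=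
    fun w hw => congrArg Subtype.val (Subgroup.mem_center_iff.mp z.2 ⟨w, hw⟩)
  have hzC : ((z : (P : Subgroup G)) : G) ∈ (Subgroup.centralizer ({x} : Set G)) :=
    Subgroup.mem_centralizer_singleton_iff.mpr (hzcomm x hxP).symm
  have hzK : ((z : (P : Subgroup G)) : G) ∈ K := by
    refine ⟨⟨_, hzC⟩, ?_, rfl⟩
    rw [← hPC]; exact (z : (P : Subgroup G)).2
  have hzx : ((z : (P : Subgroup G)) : G) = x :=
    eq_of_mem_zpowers hz hx (hKa _ hzK) (hKa _ hxK)
  have hPK : (P : Subgroup G) ≤ K := fun w hw => by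
    refine ⟨⟨w, Subgroup.mem_centralizer_singleton_iff.mpr (by rw [← hzx]; exact hzcomm w hw)⟩,
      ?_, rfl⟩
    rw [← hPC]; exact hw
  have hKcyc : IsCyclic K :=
    ((S : Subgroup (Subgroup.centralizer ({x} : Set G))).equivMapOfInjective (Subgroup.centralizer ({x} : Set G)).subtype (Subgroup.centralizer ({x} : Set G)).subtype_injective).isCyclic.mp hS
  have hPcyc : IsCyclic (P : Subgroup G) := by
    rw [le_antisymm hPK hP]; exact hKcyc
  obtain ⟨H, -, hH⟩ := exists_index_two_of_isCyclic_sylow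
    (even_iff_two_dvd.mpr (hx ▸ orderOf_dvd_natCard x)) P hPcyc
  exact ⟨H, hH⟩

end Cfsg.Agent.S0220
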