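import Cfsg.Statements.S0221
import Mathlib
import Cfsg.Agent.Lib.Involution.Basic
import Cfsg.Agent.Lib.Involution.ThompsonTransfer
import Cfsg.Agent.Lib.Involution.NormalFour

set_option autoImplicit false
open Cfsg
open Cfsg.Agent.Lib.Involution

namespace Cfsg.Agent.S0221

/-- Let G be a finite group with no subgroup of index 2 whose 2-rank is at least 3 (it contains an elementary abelian subgroup of order 8). Then the centralizer of every involution of G also contains an elementary abelian subgroup of order 8. -/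
theorem result {G : Type*} [Group G] [Finite G] (hno : ∀ H : Subgroup G, H.index ≠ 2) (hrank : ∃ E : Subgroup G, Nat.card E = 8 ∧ ∀ e ∈ E, e ^ 2 = 1) (x : G) (hx : orderOf x = 2) : ∃ E : Subgroup G, E ≤ Subgroup.centralizer ({x} : Set G) ∧ Nat.card E = 8 ∧ ∀ e ∈ E, e ^ 2 = 1 := by
  have : Fact (Nat.Prime 2) := ⟨Nat.prime_two⟩
  obtain ⟨E, hE, hE2⟩ := hrank
  obtain ⟨S, hS⟩ := (IsPGroup.of_card (p := 2) (n := 3) (G := E) (by rw [hE]; norm_num)).exists_le_sylow
  obtain ⟨Q, hQ, hprop⟩ := exists_index_two_rank_three S.2 (E.subgroupOf (S : Subgroup G))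
    (by rw [Nat.card_congr (Subgroup.subgroupOfEquivOfLe hS).toEquiv, hE])
    (fun e he => Subtype.ext (by
      have := hE2 (e : G) he
      rwa [pow_two] at this))
  obtain ⟨g, hg⟩ := exists_conj_mem_of_no_index_two hno S (Q.map (S : Subgroup G).subtype)
    (Subgroup.map_subtype_le Q)
    (by rw [Subgroup.relIndex, Subgroup.subgroupOf,
          Subgroup.comap_map_eq_self_of_injective (Subgroup.subtype_injective _)]
        exact hQ) x hx
  obtain ⟨y, hyQ, hy⟩ := hg
  have hy' : (y : G) = g * x * g⁻¹ := hy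
  obtain ⟨F, hF, hF2, hFc⟩ := hprop y hyQ (Subtype.ext (by
    show (y : G) * y = 1
    rw [hy']
    exact mul_self_eq_one (by rw [orderOf_conj_eq, hx])))
  refine ⟨(F.map (S : Subgroup G).subtype).map (MulAut.conj g⁻¹).toMonoidHom, ?_, ?_, ?_⟩
  · rintro _ ⟨w, ⟨v, hv, rfl⟩, rfl⟩
    rw [Subgroup.mem_centralizer_singleton_iff]
    have h : (v : G) * y = y * v := congrArg Subtype.val (hFc v hv).eq
    rw [hy'] at h
    have h' := congrArg (fun z => g⁻¹ * z * g) h
    simpa [mul_assoc] using h'
  · rw [Subgroup.card_map_of_injective (MulEquiv.injective _),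
      Subgroup.card_map_of_injective (Subgroup.subtype_injective _), hF]
  · rintro _ ⟨w, ⟨v, hv, rfl⟩, rfl⟩
    have h : (v : G) * v = 1 := congrArg Subtype.val (hF2 v hv)
    rw [← map_pow, pow_two]
    show (MulAut.conj g⁻¹) ((v : G) * v) = 1
    rw [h, map_one]

end Cfsg.Agent.S0221
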