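import Cfsg.Statements.S0224
import Mathlib
import Cfsg.Agent.Lib.Involution.StronglyEmbedded

set_option autoImplicit false
open Cfsg
open Cfsg.Agent.Lib.Involution

namespace Cfsg.Agent.S0224

/-- Let H be a proper subgroup of even order of the finite group G. Then H is strongly embedded if and only if each involution of H fixes exactly one point (namely the coset H) in the action of G on the cosets of H. -/
theorem result {G : Type*} [Group G] [Finite G] (H : Subgroup G) (hH : H ≠ ⊤) (heven : Even (Nat.card H)) : Cfsg.IsStronglyEmbedded H ↔ ∀ t ∈ H, orderOf t = 2 → Nat.card {c : G ⧸ H // t • c = c} = 1 := by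
  rw [isStronglyEmbedded_iff]
  have fix_iff : ∀ (t g : G), t • (g : G ⧸ H) = (g : G ⧸ H) ↔ g⁻¹ * t * g ∈ H := by
    intro t g
    rw [MulAction.Quotient.smul_coe, smul_eq_mul, eq_comm, QuotientGroup.eq, mul_assoc]
  constructor
  · rintro ⟨-, -, h⟩ t htH ht
    rw [Nat.card_eq_one_iff_unique]
    refine ⟨⟨?_⟩, ⟨⟨((1 : G) : G ⧸ H), (fix_iff t 1).mpr (by simpa using htH)⟩⟩⟩
    have key : ∀ c : {c : G ⧸ H // t • c = c}, c.1 = ((1 : G) : G ⧸ H) := by
      rintro ⟨c, hc⟩
      induction c using QuotientGroup.induction_on with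
      | _ g =>
        have hg := (fix_iff t g).mp hc
        have := h t htH ht g⁻¹ (by rwa [inv_inv])
        exact QuotientGroup.eq.mpr (by simpa using this)
    exact fun a b => Subtype.ext ((key a).trans (key b).symm)
  · intro h
    refine ⟨hH, heven, fun t htH ht g hg => ?_⟩
    obtain ⟨hsub, -⟩ := Nat.card_eq_one_iff_unique.mp (h t htH ht)
    have he := congrArg Subtype.val (hsub.elim
      (⟨(g⁻¹ : G), (fix_iff t g⁻¹).mpr (by rwa [inv_inv])⟩ : {c : G ⧸ H // t • c = c})
      ⟨((1 : G) : G ⧸ H), (fix_iff t 1).mpr (by simpa using htH)⟩)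
    have := QuotientGroup.eq.mp he
    simpa using this

end Cfsg.Agent.S0224
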