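import Cfsg.Statements.S0228
import Mathlib
import Cfsg.Agent.Lib.Involution.Basic

set_option autoImplicit false
open Cfsg
open Cfsg.Agent.Lib.Involution

namespace Cfsg.Agent.S0228

/-- A group of order 12 in which no involution is central is isomorphic to the alternating group on four letters. -/
theorem result {G : Type*} [Group G] [Finite G] (hG : Nat.card G = 12) (hz : ∀ z : G, orderOf z = 2 → z ∉ Subgroup.center G) : Nonempty (G ≃* alternatingGroup (Fin 4)) := by
  classical
  have : Fact (Nat.Prime 3) := ⟨Nat.prime_three⟩
  have : Fact (Nat.Prime 2) := ⟨Nat.prime_two⟩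
  have hfac3 : (12 : ℕ).factorization 3 = 1 := by
    rw [show (12 : ℕ) = 3 ^ 1 * 4 by norm_num, Nat.factorization_mul (by norm_num) (by norm_num),
      Nat.Prime.factorization_pow Nat.prime_three]
    simp [Nat.factorization_eq_zero_of_not_dvd]
  have hfac2 : (12 : ℕ).factorization 2 = 2 := by
    rw [show (12 : ℕ) = 2 ^ 2 * 3 by norm_num, Nat.factorization_mul (by norm_num) (by norm_num),
      Nat.Prime.factorization_pow Nat.prime_two]
    simp [Nat.factorization_eq_zero_of_not_dvd]
  obtain ⟨P⟩ : Nonempty (Sylow 3 G) := inferInstance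
  have hP : Nat.card (P : Subgroup G) = 3 := by
    rw [P.card_eq_multiplicity, hG, hfac3, pow_one]
  have hidx : (P : Subgroup G).index = 4 := by
    have := (P : Subgroup G).card_mul_index
    rw [hP, hG] at this; omega
  have hn : Nat.card (Sylow 3 G) = 1 ∨ Nat.card (Sylow 3 G) = 4 := by
    have h1 := P.card_dvd_index
    rw [hidx] at h1
    have h2 := card_sylow_modEq_one 3 G
    unfold Nat.ModEq at h2
    have h3 := Nat.le_of_dvd (by norm_num) h1
    interval_cases h : Nat.card (Sylow 3 G) <;> simp_all
  rcases hn with h1 | h4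
  · exfalso
    have : Subsingleton (Sylow 3 G) := (Nat.card_eq_one_iff_unique.mp h1).1
    have hN : (P : Subgroup G).Normal := P.normal_of_subsingleton
    obtain ⟨x, hx⟩ := exists_prime_orderOf_dvd_card' (G := (P : Subgroup G)) 3 (by rw [hP])
    rw [← Subgroup.orderOf_coe] at hx
    have hgen : (P : Subgroup G) = Subgroup.zpowers (x : G) := by
      symm
      apply Subgroup.eq_of_le_of_card_ge (Subgroup.zpowers_le.mpr x.2)
      rw [Nat.card_zpowers, hx, hP]
    have hcl : Nat.card {y : G // IsConj (x : G) y} ≤ 2 := by
      have hsub : {y : G | IsConj (x : G) y} ⊆ {(x : G), (x : G) ^ 2} := by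
        intro y hy
        obtain ⟨g, rfl⟩ := isConj_iff.mp hy
        have h := hN.conj_mem _ x.2 g
        replace h := (SetLike.ext_iff.mp hgen _).mp h
        rw [← mem_powers_iff_mem_zpowers, mem_powers_iff_mem_range_orderOf,
          Finset.mem_image] at h
        obtain ⟨k, hk, hk'⟩ := h
        rw [Finset.mem_range, hx] at hk
        interval_cases k
        · exfalso
          rw [pow_zero, eq_comm, conj_eq_one_iff] at hk'
          rw [hk', orderOf_one] at hx; omega
        · rw [pow_one] at hk'
          exact Or.inl hk'.symm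
        · exact Or.inr hk'.symm
      have h := Set.ncard_le_ncard hsub (Set.toFinite _)
      rw [← Nat.card_coe_set_eq] at h
      refine le_trans h (le_trans (Set.ncard_insert_le _ _) ?_)
      rw [Set.ncard_singleton]
    have heq := card_isConj_mul_card_centralizer (x : G)
    rw [hG] at heq
    have hCev : Even (Nat.card (Subgroup.centralizer ({(x : G)} : Set G))) := by
      rw [Nat.even_iff]
      interval_cases h : Nat.card {y : G // IsConj (x : G) y} <;> omega
    obtain ⟨z, hzC, hz2⟩ := exists_orderOf_eq_two _ hCev
    obtain ⟨S, hS⟩ := IsPGroup.exists_le_sylow (P := Subgroup.zpowers z) (p := 2)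
      (IsPGroup.of_card (n := 1) (by rw [Nat.card_zpowers, hz2, pow_one]))
    have hS4 : Nat.card (S : Subgroup G) = 4 := by
      rw [S.card_eq_multiplicity, hG, hfac2]; norm_num
    have hScomm := IsPGroup.isMulCommutative_of_card_eq_prime_sq (p := 2)
      (G := (S : Subgroup G)) (by rw [hS4]; norm_num)
    apply hz z hz2
    rw [Subgroup.mem_center_iff]
    intro g
    have hle1 : (P : Subgroup G) ≤ Subgroup.centralizer ({z} : Set G) := by
      rw [hgen, Subgroup.zpowers_le, Subgroup.mem_centralizer_singleton_iff]
      exact (Subgroup.mem_centralizer_singleton_iff.mp hzC).symm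
    have hle2 : (S : Subgroup G) ≤ Subgroup.centralizer ({z} : Set G) := by
      intro s hs
      rw [Subgroup.mem_centralizer_singleton_iff]
      exact congrArg Subtype.val
        (hScomm.is_comm.comm ⟨s, hs⟩ ⟨z, hS (Subgroup.mem_zpowers z)⟩)
    have htop : Subgroup.centralizer ({z} : Set G) = ⊤ := by
      apply Subgroup.eq_top_of_card_eq
      have d1 := Subgroup.card_dvd_of_le hle1
      have d2 := Subgroup.card_dvd_of_le hle2
      rw [hP] at d1; rw [hS4] at d2
      refine Nat.dvd_antisymm (Subgroup.card_subgroup_dvd_card _) ?_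
      rw [hG]
      exact (Nat.Coprime.mul_dvd_of_dvd_of_dvd (by norm_num : Nat.Coprime 3 4) d1 d2)
    exact Subgroup.mem_centralizer_singleton_iff.mp (htop ▸ Subgroup.mem_top g)
  · have hfin : Finite (Sylow 3 G) := inferInstance
    let e : Sylow 3 G ≃ Fin 4 := (Finite.equivFin (Sylow 3 G)).trans (finCongr h4)
    let f : G →* Equiv.Perm (Fin 4) :=
      e.permCongrHom.toMonoidHom.comp (MulAction.toPermHom G (Sylow 3 G))
    have hnorm : ∀ Q : Sylow 3 G,
        Subgroup.normalizer ((Q : Subgroup G) : Set G) = (Q : Subgroup G) := by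
      intro Q
      have hidxQ : (Subgroup.normalizer ((Q : Subgroup G) : Set G)).index = 4 := by
        rw [← h4]; exact Q.card_eq_index_normalizer.symm
      have hQ : Nat.card (Q : Subgroup G) = 3 := by
        rw [Q.card_eq_multiplicity, hG, hfac3, pow_one]
      refine (Subgroup.eq_of_le_of_card_ge Subgroup.le_normalizer ?_).symm
      have := (Subgroup.normalizer ((Q : Subgroup G) : Set G)).card_mul_index
      rw [hidxQ, hG] at this
      omega
    have hf : Function.Injective f := by
      rw [injective_iff_map_eq_one]
      intro g hg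
      have hfix : ∀ Q : Sylow 3 G, g • Q = Q := by
        intro Q
        have := Equiv.congr_fun hg (e Q)
        simpa [f, Equiv.permCongr_apply] using this
      have hmem : ∀ Q : Sylow 3 G, g ∈ (Q : Subgroup G) := fun Q => by
        rw [← hnorm Q]; exact Sylow.smul_eq_iff_mem_normalizer.mp (hfix Q)
      have : Nontrivial (Sylow 3 G) := Finite.one_lt_card_iff_nontrivial.mp (by omega)
      obtain ⟨Q, hQ⟩ := exists_ne P
      by_contra hne
      apply hQ
      have hQ3 : Nat.card (Q : Subgroup G) = 3 := by
        rw [Q.card_eq_multiplicity, hG, hfac3, pow_one]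
      have hord : orderOf g = 3 := by
        have h := (P : Subgroup G).orderOf_dvd_natCard (hmem P)
        rw [hP] at h
        rcases (Nat.dvd_prime Nat.prime_three).mp h with h | h
        · exact absurd (orderOf_eq_one_iff.mp h) hne
        · exact h
      refine Sylow.ext ?_
      rw [← Subgroup.eq_of_le_of_card_ge (Subgroup.zpowers_le.mpr (hmem Q))
        (by rw [Nat.card_zpowers, hord, hQ3]), ← Subgroup.eq_of_le_of_card_ge
        (Subgroup.zpowers_le.mpr (hmem P)) (by rw [Nat.card_zpowers, hord, hP])]
    have hr : f.range = alternatingGroup (Fin 4) := by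
      apply Equiv.Perm.eq_alternatingGroup_of_index_eq_two
      have h1 : Nat.card f.range = 12 := by
        rw [← Nat.card_congr (MonoidHom.ofInjective hf).toEquiv, hG]
      have h2 := f.range.card_mul_index
      rw [h1, Nat.card_perm, Nat.card_eq_fintype_card, Fintype.card_fin] at h2
      simp [Nat.factorial] at h2
      omega
    exact ⟨(MonoidHom.ofInjective hf).trans (MulEquiv.subgroupCongr hr)⟩

end Cfsg.Agent.S0228
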