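import Cfsg.Statements.S0229
import Mathlib
import Cfsg.Agent.Lib.Involution.Isolated

set_option autoImplicit false
open Cfsg
open Cfsg.Agent.Lib.Involution

namespace Cfsg.Agent.S0229

/-- Let t be an involution of a Sylow 2-subgroup S of a finite group G, conjugate in G to no other element of S, and let s be an involution of G not conjugate to t. Then the order of st is twice an odd number. -/
theorem result {G : Type*} [Group G] [Finite G] (S : Sylow 2 G) (t : G) (ht : orderOf t = 2) (htS : t ∈ S) (hiso : ∀ g : G, g * t * g⁻¹ ∈ S → g * t * g⁻¹ = t) (s : G) (hs : orderOf s = 2) (hns : ¬ IsConj s t) : orderOf (s * t) % 4 = 2 := by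
  have : Fact (Nat.Prime 2) := ⟨Nat.prime_two⟩
  have ht' := mul_self_eq_one ht
  have hs' := mul_self_eq_one hs
  have hst : orderOf (s * t) = orderOf (t * s) := by
    rw [← orderOf_inv (s * t), mul_inv_rev, inv_eq_self ht', inv_eq_self hs']
  rw [hst]
  have hev : Even (orderOf (t * s)) := by
    rw [← Nat.not_odd_iff_even]
    exact fun ho => hns (isConj_of_odd ht' hs' ho).symm
  by_contra h
  have h4 : 4 ∣ orderOf (t * s) := by
    obtain ⟨m, hm⟩ := hev; omega
  have hz := commute_half_pow_left ht' hs' hev
  have hconj : IsConj t (t * (t * s) ^ (orderOf (t * s) / 2)) := by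
    obtain ⟨c, hc⟩ := h4
    refine isConj_iff.mpr ⟨(t * s) ^ (c : ℤ), ?_⟩
    rw [zpow_conj_left ht' hs', ← hz.eq, ← zpow_natCast]
    congr 2
    omega
  have heq := eq_of_isolated_of_commute S ht hiso (IsConj.refl t) hconj
    ((Commute.refl t).mul_right hz.symm)
  exact ne_one (orderOf_half_pow hev) (left_eq_mul.mp heq)

end Cfsg.Agent.S0229
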