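import Cfsg.Statements.S0230
import Mathlib
import Cfsg.Agent.Lib.Involution.Basic

set_option autoImplicit false
open Cfsg
open Cfsg.Agent.Lib.Involution

namespace Cfsg.Agent.S0230

/-- Let G be a finite group with two non-conjugate involutions, and let t be an involution whose centralizer has maximal order among centralizers of involutions. Then |G| < |C_G(t)|^3. -/
theorem result {G : Type*} [Group G] [Finite G] (s t : G) (hs : orderOf s = 2) (ht : orderOf t = 2) (hnc : ¬ IsConj s t) (hmax : ∀ u : G, orderOf u = 2 → Nat.card (Subgroup.centralizer ({u} : Set G)) ≤ Nat.card (Subgroup.centralizer ({t} : Set G))) : Nat.card G < Nat.card (Subgroup.centralizer ({t} : Set G)) ^ 3 := by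
  classical
  have := Fintype.ofFinite G
  set C := Subgroup.centralizer ({t} : Set G)
  have key : ∀ s' : {y : G // IsConj s y}, ∃ z ∈ (C : Set G), orderOf z = 2 ∧
      s'.1 ∈ Subgroup.centralizer ({z} : Set G) := by
    intro s'
    have hs' : orderOf s'.1 = 2 := (isConj_orderOf s'.2).trans hs
    have hev : Even (orderOf (s'.1 * t)) := by
      rw [← Nat.not_odd_iff_even]
      exact fun ho => hnc (s'.2.trans (isConj_of_odd (mul_self_eq_one hs') (mul_self_eq_one ht) ho))
    refine ⟨_, Subgroup.mem_centralizer_singleton_iff.mpr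
      (commute_half_pow_right (mul_self_eq_one hs') (mul_self_eq_one ht) hev).eq,
      orderOf_half_pow hev, Subgroup.mem_centralizer_singleton_iff.mpr
      (commute_half_pow_left (mul_self_eq_one hs') (mul_self_eq_one ht) hev).symm.eq⟩
  choose z hzC hz hzs using key
  let f : {y : G // IsConj s y} →
      Σ w : {w : C // w ≠ 1}, Subgroup.centralizer ({(w.1 : G)} : Set G) :=
    fun s' => ⟨⟨⟨z s', hzC s'⟩, fun h => ne_one (hz s') (congrArg Subtype.val h)⟩, ⟨s'.1, hzs s'⟩⟩
  have hf : Function.Injective f := fun a b h => Subtype.ext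
    (congrArg (fun q : (Σ w : {w : C // w ≠ 1}, Subgroup.centralizer ({(w.1 : G)} : Set G)) =>
      (q.2 : G)) h)
  let g : {y : G // IsConj s y} → {w : C // w ≠ 1} × G := fun s' => ((f s').1, s'.1)
  have hk : Nat.card {y : G // IsConj s y} ≤ (Nat.card C - 1) * Nat.card C := by
    have hle := Finset.card_le_mul_card_image (s := (Finset.univ : Finset {y : G // IsConj s y}))
      (f := fun s' => (⟨z s', hzC s'⟩ : C)) (Nat.card C) ?_
    · rw [Finset.card_univ, ← Nat.card_eq_fintype_card] at hle
      refine hle.trans ?_
      rw [mul_comm]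
      gcongr
      have hsub : Finset.image (fun s' => (⟨z s', hzC s'⟩ : C)) Finset.univ ⊆
          Finset.univ.erase 1 := by
        intro w hw
        obtain ⟨s', -, rfl⟩ := Finset.mem_image.mp hw
        exact Finset.mem_erase.mpr ⟨fun h => ne_one (hz s') (congrArg Subtype.val h),
          Finset.mem_univ _⟩
      refine (Finset.card_le_card hsub).trans ?_
      rw [Finset.card_erase_of_mem (Finset.mem_univ _), Finset.card_univ, Nat.card_eq_fintype_card]
    · intro w hw
      obtain ⟨s₀, -, rfl⟩ := Finset.mem_image.mp hw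
      refine le_trans ?_ (hmax (z s₀) (hz s₀))
      rw [Nat.card_eq_fintype_card, ← Finset.card_univ]
      refine Finset.card_le_card_of_injOn
        (fun s' => if h : s'.1 ∈ Subgroup.centralizer ({z s₀} : Set G) then ⟨s'.1, h⟩ else 1)
        (fun a _ => Finset.mem_univ _) ?_
      intro a ha b hb hab
      have ha' : z a = z s₀ := congrArg Subtype.val (Finset.mem_filter.mp ha).2
      have hb' : z b = z s₀ := congrArg Subtype.val (Finset.mem_filter.mp hb).2
      simp only [dif_pos (ha' ▸ hzs a), dif_pos (hb' ▸ hzs b)] at hab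
      exact Subtype.ext (Subtype.mk.inj hab)
  rw [← card_isConj_mul_card_centralizer s]
  have hpos : 0 < Nat.card C := Nat.card_pos
  calc Nat.card {y : G // IsConj s y} * Nat.card (Subgroup.centralizer ({s} : Set G))
      ≤ (Nat.card C - 1) * Nat.card C * Nat.card C := Nat.mul_le_mul hk (hmax s hs)
    _ < Nat.card C * Nat.card C * Nat.card C :=
      Nat.mul_lt_mul_of_pos_right (Nat.mul_lt_mul_of_pos_right (Nat.sub_lt hpos one_pos) hpos) hpos
    _ = Nat.card C ^ 3 := by ring

end Cfsg.Agent.S0230
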