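import Cfsg.Statements.S0231
import Mathlib
import Cfsg.Agent.Lib.Involution.Basic

set_option autoImplicit false
open scoped Pointwise
open Cfsg
open Cfsg.Agent.Lib.Involution

namespace Cfsg.Agent.S0231

/-- Let T be a Sylow 2-subgroup of the finite group G which is not normal and which intersects every other Sylow 2-subgroup trivially. Then G has a single conjugacy class of involutions. -/
theorem result {G : Type*} [Group G] [Finite G] (T : Sylow 2 G) (hnn : ¬ (T : Subgroup G).Normal) (hTI : ∀ g : G, MulAut.conj g • (T : Subgroup G) ≠ T → MulAut.conj g • (T : Subgroup G) ⊓ T = ⊥) (s t : G) (hs : orderOf s = 2) (ht : orderOf t = 2) : IsConj s t := by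
  have : Fact (Nat.Prime 2) := ⟨Nat.prime_two⟩
  have uniq : ∀ (R R' : Sylow 2 G) (z : G), z ≠ 1 → z ∈ R → z ∈ R' → R = R' := by
    intro R R' z hz hzR hzR'
    obtain ⟨a, ha⟩ := MulAction.exists_smul_eq G R T
    set z' := a * z * a⁻¹ with hz'
    have hz'T : z' ∈ (T : Subgroup G) := by
      rw [← ha, Sylow.coe_subgroup_smul]
      exact Subgroup.smul_mem_pointwise_smul _ (MulAut.conj a) _ hzR
    obtain ⟨b, hb⟩ := MulAction.exists_smul_eq G T (a • R')
    have hb' : MulAut.conj b • (T : Subgroup G) = ((a • R' : Sylow 2 G) : Subgroup G) := by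
      rw [← hb]; rfl
    have hz'R : z' ∈ MulAut.conj b • (T : Subgroup G) := by
      rw [hb', Sylow.coe_subgroup_smul]
      exact Subgroup.smul_mem_pointwise_smul _ (MulAut.conj a) _ hzR'
    by_cases h : MulAut.conj b • (T : Subgroup G) = T
    · have : a • R' = T := Sylow.ext (hb'.symm.trans h)
      exact smul_left_cancel a (ha.trans this.symm)
    · exfalso
      have h1 : z' ∈ MulAut.conj b • (T : Subgroup G) ⊓ T := ⟨hz'R, hz'T⟩
      rw [hTI b h, Subgroup.mem_bot, hz'] at h1
      exact hz (by simpa using h1)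
  have sylow_of : ∀ a b : G, orderOf a = 2 → orderOf b = 2 → Commute a b →
      ∃ R : Sylow 2 G, a ∈ R ∧ b ∈ R := by
    intro a b ha hb hab
    obtain ⟨R, hR⟩ := (isPGroup_two_closure_pair (mul_self_eq_one ha) (mul_self_eq_one hb) 1
      (by rw [pow_one, pow_two, hab.symm.mul_mul_mul_comm, mul_self_eq_one ha, mul_self_eq_one hb,
        one_mul])).exists_le_sylow
    exact ⟨R, hR (Subgroup.subset_closure (by simp)), hR (Subgroup.subset_closure (by simp))⟩
  have key : ∀ a b : G, orderOf a = 2 → orderOf b = 2 →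
      (∀ R : Sylow 2 G, a ∈ R → b ∉ R) → IsConj a b := by
    intro a b ha hb hsep
    refine isConj_of_odd (mul_self_eq_one ha) (mul_self_eq_one hb) ?_
    rw [← Nat.not_even_iff_odd]
    intro hev
    have hz := orderOf_half_pow hev
    obtain ⟨R, haR, hzR⟩ := sylow_of a _ ha hz
      (commute_half_pow_left (mul_self_eq_one ha) (mul_self_eq_one hb) hev).symm
    obtain ⟨R', hbR', hzR'⟩ := sylow_of b _ hb hz
      (commute_half_pow_right (mul_self_eq_one ha) (mul_self_eq_one hb) hev).symm
    rw [uniq R R' _ (ne_one hz) hzR hzR'] at haR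
    exact hsep R' haR hbR'
  by_cases hst : ∃ R : Sylow 2 G, s ∈ R ∧ t ∈ R
  · obtain ⟨R, hsR, htR⟩ := hst
    obtain ⟨R', hR'⟩ : ∃ R' : Sylow 2 G, R' ≠ R := by
      by_contra hcon
      push_neg at hcon
      have : Subsingleton (Sylow 2 G) := ⟨fun x y => (hcon x).trans (hcon y).symm⟩
      exact hnn (T.normal_of_subsingleton)
    obtain ⟨a, ha⟩ := MulAction.exists_smul_eq G R R'
    have hrR' : a * s * a⁻¹ ∈ (R' : Subgroup G) := by
      rw [← ha, Sylow.coe_subgroup_smul]
      exact Subgroup.smul_mem_pointwise_smul _ (MulAut.conj a) _ hsR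
    have hr : orderOf (a * s * a⁻¹) = 2 := by rw [orderOf_conj_eq, hs]
    have hrt : IsConj (a * s * a⁻¹) t := key _ _ hr ht fun R'' h1 h2 => hR' <| by
      rw [uniq R' R'' _ (ne_one hr) hrR' h1, uniq R R'' _ (ne_one ht) htR h2]
    exact (isConj_iff.mpr ⟨a, rfl⟩ : IsConj s (a * s * a⁻¹)).trans hrt
  · push_neg at hst
    exact key s t hs ht hst

end Cfsg.Agent.S0231
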