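import Cfsg.Statements.S0234
import Mathlib
import Cfsg.Agent.Lib.Involution.BrauerFowlerThms
import Cfsg.Agent.Lib.SmallGroups.Basic

set_option autoImplicit false
open Cfsg
open Cfsg.Agent.Lib.Involution

namespace Cfsg.Agent.S0234

/-- In a finite simple group G of even order greater than 2, the number n of involutions satisfies 3n < |G|. -/
theorem result {G : Type*} [Group G] [Finite G] [IsSimpleGroup G] (heven : Even (Nat.card G)) (hgt : 2 < Nat.card G) : 3 * Nat.card {t : G // orderOf t = 2} < Nat.card G := by
  classical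
  set n := Nat.card {t : G // orderOf t = 2} with hn
  by_contra hlt
  push_neg at hlt
  have hab : ¬ IsMulCommutative G := by
    intro hab
    letI : CommGroup G := { (inferInstance : Group G) with mul_comm := hab.is_comm.comm }
    have hp : (Nat.card G).Prime := IsSimpleGroup.prime_card
    have := (Nat.prime_dvd_prime_iff_eq Nat.prime_two hp).mp (even_iff_two_dvd.mp heven)
    omega
  have hno : ∀ H : Subgroup G, H.index ≠ 2 := by
    intro H hH
    have hd := Cfsg.Agent.Lib.SmallGroups.two_mul_card_dvd_factorial hab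
      (H := H) (fun h => by rw [h, Subgroup.index_top] at hH; omega)
    rw [hH] at hd
    have := Nat.le_of_dvd (by norm_num) hd
    simp [Nat.factorial] at this
    omega
  have hZ : Odd (Nat.card (Subgroup.center G)) := by
    rw [Cfsg.Agent.Lib.SmallGroups.center_eq_bot hab, Subgroup.card_bot]; exact odd_one
  obtain ⟨H, hH, hor⟩ := brauer_fowler_index heven hZ
  have hb := hor.resolve_left (hno H)
  have hnpos : 0 < n := (odd_card_involutions heven).pos
  have hi : H.index < 6 := by
    by_contra h
    push_neg at h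
    have h1 : 12 * n ^ 2 ≤ 2 * H.index * n ^ 2 := Nat.mul_le_mul_right _ (by omega)
    nlinarith
  have hd := Cfsg.Agent.Lib.SmallGroups.two_mul_card_dvd_factorial hab hH
  have hd120 : 2 * Nat.card G ∣ Nat.factorial 5 :=
    hd.trans (Nat.factorial_dvd_factorial (by omega))
  have h60 : Nat.card G ∣ 60 := by
    rw [show Nat.factorial 5 = 2 * 60 from rfl] at hd120
    exact Nat.dvd_of_mul_dvd_mul_left two_pos hd120
  have h4 : 4 ∣ Nat.card G := by
    by_contra h4
    obtain ⟨T⟩ : Nonempty (Sylow 2 G) := inferInstance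
    have : Fact (Nat.Prime 2) := ⟨Nat.prime_two⟩
    obtain ⟨j, hj⟩ := T.2.exists_card_eq
    have hTd : Nat.card (T : Subgroup G) ∣ Nat.card G := Subgroup.card_subgroup_dvd_card _
    have hj1 : j ≤ 1 := by
      by_contra hj1
      exact h4 ((pow_dvd_pow 2 (show 2 ≤ j by omega)).trans (hj ▸ hTd))
    have hcyc : IsCyclic (T : Subgroup G) := by
      have hd2 : 2 ∣ Nat.card (T : Subgroup G) := T.dvd_card_of_dvd_card (even_iff_two_dvd.mp heven)
      refine isCyclic_of_prime_card (p := 2) ?_
      interval_cases j <;> simp_all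
    obtain ⟨M, -, hM⟩ := exists_index_two_of_isCyclic_sylow heven T hcyc
    exact hno M hM
  have hcases : Nat.card G = 4 ∨ Nat.card G = 12 ∨ Nat.card G = 20 ∨ Nat.card G = 60 := by
    have := Nat.le_of_dvd (by norm_num) h60
    obtain ⟨c, hc⟩ := h4
    obtain ⟨d, hd'⟩ := h60
    rw [hc] at hd' this
    have hcd : c * d = 15 := by linarith
    have hc15 : c ∣ 15 := ⟨d, hcd.symm⟩
    have := Nat.le_of_dvd (by norm_num) hc15
    interval_cases c <;> omega
  have h4' : Nat.card G ≠ 4 := by
    intro h
    have : Fact (Nat.Prime 2) := ⟨Nat.prime_two⟩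
    exact Cfsg.Agent.Lib.SmallGroups.not_isPGroup hab (IsPGroup.of_card (p := 2) (n := 2)
      (by rw [h]; norm_num))
  have sylow_bound : ∀ (p : ℕ) [Fact p.Prime], p ∣ Nat.card G → ∀ (P : Sylow p G),
      ∀ v, (P : Subgroup G).index = v → ∀ w, (∀ d, d ∣ v → d ≡ 1 [MOD p] → d ≤ w) →
      2 * Nat.card G ≤ Nat.factorial w := by
    intro p _ hp P v hv w hw
    have h1 := Cfsg.Agent.Lib.SmallGroups.two_mul_card_dvd_factorial_card_sylow hab hp
    exact (Nat.le_of_dvd (Nat.factorial_pos _) h1).trans (Nat.factorial_le
      (hw _ (hv ▸ P.card_dvd_index) (card_sylow_modEq_one p G)))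
  rcases hcases with hG | hG | hG | hG
  · exact h4' hG
  · have : Fact (Nat.Prime 2) := ⟨Nat.prime_two⟩
    obtain ⟨P⟩ : Nonempty (Sylow 2 G) := inferInstance
    have hP : Nat.card (P : Subgroup G) = 4 :=
      Cfsg.Agent.Lib.SmallGroups.card_sylow_eq (k := 2) (m := 3) P (by rw [hG]; norm_num) (by norm_num)
    have hv : (P : Subgroup G).index = 3 := by
      have := (P : Subgroup G).card_mul_index; rw [hP, hG] at this; omega
    have := sylow_bound 2 (even_iff_two_dvd.mp heven) P 3 hv 3
      (fun d hd _ => Nat.le_of_dvd (by norm_num) hd)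
    rw [hG] at this
    simp [Nat.factorial] at this
  · have : Fact (Nat.Prime 5) := ⟨by norm_num⟩
    obtain ⟨P⟩ : Nonempty (Sylow 5 G) := inferInstance
    have hP : Nat.card (P : Subgroup G) = 5 :=
      Cfsg.Agent.Lib.SmallGroups.card_sylow_eq (k := 1) (m := 4) P (by rw [hG]; norm_num) (by norm_num)
    have hv : (P : Subgroup G).index = 4 := by
      have := (P : Subgroup G).card_mul_index; rw [hP, hG] at this; omega
    have := sylow_bound 5 (by rw [hG]; norm_num) P 4 hv 1 (fun d hd hm => by
      have := Nat.le_of_dvd (by norm_num) hd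
      unfold Nat.ModEq at hm
      interval_cases d <;> omega)
    rw [hG] at this
    simp [Nat.factorial] at this
  · obtain ⟨f, hf⟩ := Cfsg.Agent.Lib.SmallGroups.exists_injective_alternating hab hH
    have hi5 : H.index = 5 := by
      by_contra h5
      have h1 := Nat.le_of_dvd (Nat.factorial_pos _) hd
      have h2 := Nat.factorial_le (show H.index ≤ 4 by omega)
      simp [Nat.factorial] at h2
      omega
    rw [hG] at hlt
    have key : ∀ m (f : G →* alternatingGroup (Fin m)), Function.Injective f → m = 5 → n = 15 := by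
      rintro m f hf rfl
      have hbij : Function.Bijective f := by
        refine (Nat.bijective_iff_injective_and_card f).mpr ⟨hf, ?_⟩
        rw [hG, nat_card_alternatingGroup, Nat.card_eq_fintype_card, Fintype.card_fin]
        rfl
      rw [hn, Nat.card_congr ((Equiv.ofBijective f hbij).subtypeEquiv
        (p := fun t => orderOf t = 2) (q := fun t => t * t = 1 ∧ t ≠ 1) (fun t => ?_)),
        Nat.card_eq_fintype_card]
      · decide +kernel
      · show orderOf t = 2 ↔ f t * f t = 1 ∧ f t ≠ 1
        rw [← orderOf_injective f hf t]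
        exact ⟨fun h => ⟨mul_self_eq_one h, ne_one h⟩, fun h => orderOf_eq_two h.1 h.2⟩
    have := key _ f hf hi5
    omega

end Cfsg.Agent.S0234
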