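import Cfsg.Statements.S0235
import Mathlib
import Cfsg.Agent.Lib.Involution.Basic

set_option autoImplicit false
open Cfsg
open Cfsg.Agent.Lib.Involution

namespace Cfsg.Agent.S0235

/-- If x² ≠ 1, the ordered pairs (u, v) of involutions with uv = x correspond bijectively to the involutions t with t x t⁻¹ = x⁻¹ (via (u, v) ↦ u), so the two counts agree. -/
theorem result {G : Type*} [Group G] [Finite G] (x : G) (hx : x ^ 2 ≠ 1) : Nat.card {p : G × G // orderOf p.1 = 2 ∧ orderOf p.2 = 2 ∧ p.1 * p.2 = x} = Nat.card {t : G // orderOf t = 2 ∧ t * x * t⁻¹ = x⁻¹} := by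
  have key : ∀ t : {t : G // orderOf t = 2 ∧ t * x * t⁻¹ = x⁻¹}, orderOf (t.1 * x) = 2 := by
    intro t
    apply orderOf_eq_two
    · have h := congrArg (· * x) t.2.2
      rw [inv_eq_self (mul_self_eq_one t.2.1)] at h
      simpa [mul_assoc] using h
    · intro h1
      apply hx
      have htx : t.1 = x⁻¹ := eq_inv_of_mul_eq_one_left h1
      have := mul_self_eq_one t.2.1
      rw [htx, ← mul_inv_rev, inv_eq_one] at this
      rw [pow_two, this]
  refine Nat.card_congr
    { toFun := fun p => ⟨p.1.1, p.2.1, ?_⟩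
      invFun := fun t => ⟨(t.1, t.1 * x), t.2.1, key t, ?_⟩
      left_inv := ?_
      right_inv := fun t => rfl }
  · obtain ⟨hu, hv, huv⟩ := p.2
    have := conj_zpow_pair (mul_self_eq_one hu) (mul_self_eq_one hv) 1
    rwa [zpow_one, huv] at this
  · show t.1 * (t.1 * x) = x
    rw [← mul_assoc, mul_self_eq_one t.2.1, one_mul]
  · rintro ⟨⟨u, v⟩, hu, hv, huv⟩
    refine Subtype.ext (Prod.ext rfl ?_)
    show u * x = v
    rw [← huv, ← mul_assoc, mul_self_eq_one hu, one_mul]

end Cfsg.Agent.S0235
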