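import Cfsg.Statements.S0236
import Mathlib
import Cfsg.Agent.Lib.Involution.Basic

set_option autoImplicit false
open Cfsg
open Cfsg.Agent.Lib.Involution

namespace Cfsg.Agent.S0236

/-- If x is an involution, the number of ordered pairs (u, v) of involutions with uv = x, plus one, equals the number of involutions in the centralizer of x. -/
theorem result {G : Type*} [Group G] [Finite G] (x : G) (hx : orderOf x = 2) : Nat.card {p : G × G // orderOf p.1 = 2 ∧ orderOf p.2 = 2 ∧ p.1 * p.2 = x} + 1 = Nat.card {t : G // orderOf t = 2 ∧ Commute t x} := by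
  have h1 : {t : G | orderOf t = 2 ∧ Commute t x} =
      insert x {t : G | orderOf t = 2 ∧ Commute t x ∧ t ≠ x} := by
    ext t
    simp only [Set.mem_insert_iff, Set.mem_setOf_eq]
    constructor
    · rintro ⟨a, b⟩
      rcases eq_or_ne t x with h | h
      · exact Or.inl h
      · exact Or.inr ⟨a, b, h⟩
    · rintro (rfl | ⟨a, b, -⟩)
      · exact ⟨hx, Commute.refl _⟩
      · exact ⟨a, b⟩
  show _ = Nat.card {t : G | orderOf t = 2 ∧ Commute t x}
  rw [h1, Nat.card_coe_set_eq, Set.ncard_insert_of_notMem (by simp) (Set.toFinite _),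
    ← Nat.card_coe_set_eq]
  congr 1
  have key : ∀ t : {t : G | orderOf t = 2 ∧ Commute t x ∧ t ≠ x}, orderOf (t.1 * x) = 2 := by
    intro t
    obtain ⟨a, b, c⟩ := t.2
    apply orderOf_eq_two
    · rw [b.symm.mul_mul_mul_comm, mul_self_eq_one a, mul_self_eq_one hx, one_mul]
    · intro h
      exact c ((eq_inv_of_mul_eq_one_left h).trans (inv_eq_self (mul_self_eq_one hx)))
  refine Nat.card_congr
    { toFun := fun p => ⟨p.1.1, p.2.1, ?_, ?_⟩
      invFun := fun t => ⟨(t.1, t.1 * x), t.2.1, key t, ?_⟩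
      left_inv := ?_
      right_inv := fun t => rfl }
  · obtain ⟨hu, hv, huv⟩ := p.2
    have hc := conj_zpow_pair (mul_self_eq_one hu) (mul_self_eq_one hv) 1
    rw [zpow_one, huv, inv_eq_self (mul_self_eq_one hx)] at hc
    exact mul_inv_eq_iff_eq_mul.mp hc
  · obtain ⟨hu, hv, huv⟩ := p.2
    intro h
    apply ne_one hv
    rwa [h, mul_eq_left] at huv
  · show t.1 * (t.1 * x) = x
    rw [← mul_assoc, mul_self_eq_one t.2.1, one_mul]
  · rintro ⟨⟨u, v⟩, hu, hv, huv⟩
    refine Subtype.ext (Prod.ext rfl ?_)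
    show u * x = v
    rw [← huv, ← mul_assoc, mul_self_eq_one hu, one_mul]

end Cfsg.Agent.S0236
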