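import Cfsg.Statements.S0239
import Mathlib
-- import your own Cfsg.Agent.* helpers here

set_option autoImplicit false
open Cfsg

namespace Cfsg.Agent.S0239

/-- If some nontrivial element x of a finite group G is conjugate to x⁻¹, then |G| is even. -/
theorem result {G : Type*} [Group G] [Finite G] (x : G) (hx : x ≠ 1) (hreal : IsConj x x⁻¹) : Even (Nat.card G) := by
  by_contra h
  rw [Nat.not_even_iff_odd] at h
  obtain ⟨g, hg⟩ := isConj_iff.mp hreal
  have h2 : Commute (g ^ 2) x := by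
    have e : g * x⁻¹ * g⁻¹ = x := by
      rw [← conj_inv, hg, inv_inv]
    show g ^ 2 * x = x * g ^ 2
    have e2 : g * (g * x * g⁻¹) * g⁻¹ = x := by rw [hg, e]
    calc g ^ 2 * x = (g * (g * x * g⁻¹) * g⁻¹) * g ^ 2 := by rw [pow_two]; group
      _ = x * g ^ 2 := by rw [e2]
  have hgo : Odd (orderOf g) := h.of_dvd_nat (orderOf_dvd_natCard g)
  obtain ⟨k, hk⟩ := hgo
  have hgx : Commute g x := by
    have : (g ^ 2) ^ (k + 1) = g := by
      rw [← pow_mul, show 2 * (k + 1) = orderOf g + 1 by omega, pow_succ, pow_orderOf_eq_one, one_mul]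
    rw [← this]; exact h2.pow_left _
  have hxx : x = x⁻¹ := by rw [← hg, hgx.eq, mul_inv_cancel_right]
  apply hx
  have hx2 : x ^ 2 = 1 := by rw [pow_two]; nth_rewrite 2 [hxx]; exact mul_inv_cancel x
  have : orderOf x ∣ 2 := orderOf_dvd_of_pow_eq_one hx2
  rcases (Nat.dvd_prime Nat.prime_two).mp this with h1 | h1
  · exact orderOf_eq_one_iff.mp h1
  · exact absurd (h.of_dvd_nat (h1 ▸ orderOf_dvd_natCard x)) (by decide)

end Cfsg.Agent.S0239
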