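import Cfsg.Statements.S0240
import Mathlib
import Cfsg.Agent.Lib.Involution.Basic

set_option autoImplicit false
open Cfsg
open Cfsg.Agent.Lib.Involution

namespace Cfsg.Agent.S0240

/-- Let G be a finite group with n involutions and H a subgroup with |H|·(n+1) > |G|. Then some nontrivial h ∈ H is strongly real in G: an involution t of G satisfies t h t⁻¹ = h⁻¹. -/
theorem result {G : Type*} [Group G] [Finite G] (H : Subgroup G) (hH : Nat.card G < Nat.card H * (Nat.card {t : G // orderOf t = 2} + 1)) : ∃ h : G, h ∈ H ∧ h ≠ 1 ∧ ∃ t : G, orderOf t = 2 ∧ t * h * t⁻¹ = h⁻¹ := by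
  classical
  let T : Type _ := Option {t : G // orderOf t = 2}
  let val : T → G := fun o => o.elim 1 Subtype.val
  have hT : Nat.card T = Nat.card {t : G // orderOf t = 2} + 1 := by
    simp [T, Finite.card_option]
  have hval : Function.Injective val := by
    rintro (_ | a) (_ | b) h
    · rfl
    · exact absurd (show (1 : G) = b.1 from h).symm (ne_one b.2)
    · exact absurd (show a.1 = 1 from h) (ne_one a.2)
    · exact congrArg some (Subtype.ext h)
  have : ¬ Function.Injective (fun o : T => (val o : G ⧸ H)) := by
    intro hinj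
    have h1 := Nat.card_le_card_of_injective _ hinj
    rw [hT, ← Subgroup.index_eq_card] at h1
    have h2 := Subgroup.card_mul_index H
    nlinarith
  simp only [Function.Injective, not_forall] at this
  obtain ⟨a, b, hab, hne⟩ := this
  rw [QuotientGroup.eq] at hab
  have hne' : val a ≠ val b := fun h => hne (hval h)
  refine ⟨(val a)⁻¹ * val b, hab, fun h => hne' (inv_mul_eq_one.mp h), ?_⟩
  rcases a with _ | a
  · rcases b with _ | b
    · exact absurd rfl hne
    · refine ⟨b.1, b.2, ?_⟩
      simp [val, inv_eq_self (mul_self_eq_one b.2), mul_self_eq_one b.2]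
  · refine ⟨a.1, a.2, ?_⟩
    have ha := inv_eq_self (mul_self_eq_one a.2)
    rcases b with _ | b
    · simp [val, ha, mul_self_eq_one a.2]
    · have hb := inv_eq_self (mul_self_eq_one b.2)
      simp [val, ha, hb, ← mul_assoc, mul_self_eq_one a.2]

end Cfsg.Agent.S0240
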