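import Cfsg.Statements.S0241
import Mathlib
import Cfsg.Agent.Lib.Involution.Basic

set_option autoImplicit false
open Cfsg
open Cfsg.Agent.Lib.Involution

namespace Cfsg.Agent.S0241

/-- If x ≠ 1 is conjugate to x⁻¹ in a finite group G and |C_G(x)| is odd, then some involution t satisfies t x t⁻¹ = x⁻¹. -/
theorem result {G : Type*} [Group G] [Finite G] (x : G) (hx : x ≠ 1) (hreal : IsConj x x⁻¹) (hodd : Odd (Nat.card (Subgroup.centralizer ({x} : Set G)))) : ∃ t : G, orderOf t = 2 ∧ t * x * t⁻¹ = x⁻¹ := by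
  obtain ⟨g, hg⟩ := isConj_iff.mp hreal
  have hg2 : g ^ 2 ∈ Subgroup.centralizer ({x} : Set G) := by
    rw [Subgroup.mem_centralizer_singleton_iff]
    have h2 : g * x⁻¹ * g⁻¹ = x := by rw [← conj_inv, hg, inv_inv]
    calc g ^ 2 * x = g * (g * x * g⁻¹) * g⁻¹ * g ^ 2 := by rw [pow_two]; group
      _ = x * g ^ 2 := by rw [hg, h2]
  have hm : Odd (orderOf (g ^ 2)) :=
    hodd.of_dvd_nat ((Subgroup.centralizer ({x} : Set G)).orderOf_dvd_natCard hg2)
  obtain ⟨k, hk⟩ := hm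
  have hgm : g ^ orderOf (g ^ 2) = g * (g ^ 2) ^ k := by
    rw [hk, pow_succ', pow_mul]
  have hc : Commute ((g ^ 2) ^ k) x := by
    have : Commute (g ^ 2) x := Subgroup.mem_centralizer_singleton_iff.mp hg2
    exact this.pow_left k
  have hinv : g ^ orderOf (g ^ 2) * x * (g ^ orderOf (g ^ 2))⁻¹ = x⁻¹ := by
    rw [hgm, mul_inv_rev, mul_assoc g, hc.eq]
    calc g * (x * (g ^ 2) ^ k) * (((g ^ 2) ^ k)⁻¹ * g⁻¹) = g * x * g⁻¹ := by group
      _ = x⁻¹ := hg
  refine ⟨g ^ orderOf (g ^ 2), orderOf_eq_two ?_ ?_, hinv⟩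
  · rw [← pow_two, ← pow_mul, mul_comm, pow_mul, pow_orderOf_eq_one]
  · intro h1
    rw [h1, one_mul, inv_one, mul_one] at hinv
    have hxC : x ∈ Subgroup.centralizer ({x} : Set G) := Subgroup.mem_centralizer_singleton_iff.mpr rfl
    have h2 : orderOf x = 2 := orderOf_eq_two (by nth_rewrite 1 [hinv]; exact inv_mul_cancel x) hx
    exact Nat.not_even_iff_odd.mpr hodd (even_card_of_mem h2 hxC)

end Cfsg.Agent.S0241
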