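import Cfsg.Statements.S0244
import Mathlib


set_option autoImplicit false
open Cfsg

namespace Cfsg.Agent.S0244

/-- Sp_2 = SL_2: a matrix on Fin 1 ⊕ Fin 1 lies in Mathlib's symplectic group iff its determinant is 1. -/
theorem result {R : Type*} [CommRing R] (A : Matrix (Fin 1 ⊕ Fin 1) (Fin 1 ⊕ Fin 1) R) : A ∈ Matrix.symplecticGroup (Fin 1) R ↔ A.det = 1 := by
  have hA : A.det = A (.inl 0) (.inl 0) * A (.inr 0) (.inr 0) -
      A (.inl 0) (.inr 0) * A (.inr 0) (.inl 0) := by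
    let e : Fin 2 ≃ Fin 1 ⊕ Fin 1 := (finSumFinEquiv (m := 1) (n := 1)).symm
    rw [← Matrix.det_submatrix_equiv_self e A, Matrix.det_fin_two]
    rfl
  rw [SymplecticGroup.mem_iff, ← Matrix.ext_iff, hA]
  simp only [Sum.forall, Fin.forall_fin_one, Matrix.mul_apply, Fintype.sum_sum_type,
    Fin.sum_univ_one, Matrix.J, Matrix.fromBlocks_apply₁₁, Matrix.fromBlocks_apply₁₂,
    Matrix.fromBlocks_apply₂₁, Matrix.fromBlocks_apply₂₂, Matrix.transpose_apply,
    Matrix.zero_apply, Matrix.one_apply_eq, Matrix.neg_apply]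
  constructor
  · rintro ⟨⟨-, h⟩, -⟩
    linear_combination -h
  · intro h
    refine ⟨⟨by ring, ?_⟩, ?_, by ring⟩
    · linear_combination -h
    · linear_combination h

end Cfsg.Agent.S0244
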