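import Cfsg.Statements.S0250
import Mathlib
import Cfsg.Agent.Lib.LinGroup.ProjLine


set_option autoImplicit false
open Cfsg

namespace Cfsg.Agent.S0250

/-- SL_2(2) is isomorphic to S_3. -/
theorem result {F : Type*} [Field F] [Fintype F] (hF : Fintype.card F = 2) : Nonempty (Matrix.SpecialLinearGroup (Fin 2) F ≃* Equiv.Perm (Fin 3)) := by
  classical
  have hz : Subgroup.center (Matrix.SpecialLinearGroup (Fin 2) F) = ⊥ :=
    Subgroup.eq_bot_of_card_eq _ (by
      rw [Lib.LinGroup.card_center_SL, Lib.LinGroup.card_units_eq_sub_one, hF, Fintype.card_fin]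
      rfl)
  have hcard := Lib.LinGroup.card_PSL_two_mul (F := F)
  rw [hF] at hcard
  norm_num [-Nat.card_eq_fintype_card] at hcard
  have : Fintype (Projectivization F (Fin 2 → F)) := Fintype.ofFinite _
  obtain ⟨e⟩ := Lib.LinGroup.nonempty_mulEquiv_perm
    (G := Matrix.ProjectiveSpecialLinearGroup (Fin 2) F)
    (α := Projectivization F (Fin 2 → F)) (k := 3)
    (by rw [Lib.LinGroup.card_projLine, hF]) (by rw [hcard]; decide)
  exact ⟨((QuotientGroup.quotientBot).symm.trans
    (QuotientGroup.quotientMulEquivOfEq hz.symm)).trans e⟩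

end Cfsg.Agent.S0250
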