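import Cfsg.Statements.S0257
import Mathlib
import Cfsg.Agent.Lib.LinGroup.ProjLine
import Cfsg.Agent.Lib.LinGroup.SLTwoTwoSylow


set_option autoImplicit false
open Cfsg

namespace Cfsg.Agent.S0257

/-- SL_2(3) has a normal subgroup of index 3 isomorphic to the quaternion group of order 8, and its centre has order 2. -/
theorem result {F : Type*} [Field F] [Fintype F] (hF : Fintype.card F = 3) : (∃ Q : Subgroup (Matrix.SpecialLinearGroup (Fin 2) F), Q.Normal ∧ Q.index = 3 ∧ Nonempty (Q ≃* QuaternionGroup 2)) ∧ Nat.card (Subgroup.center (Matrix.SpecialLinearGroup (Fin 2) F)) = 2 := by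
  classical
  have hodd : Odd (Fintype.card F) := by rw [hF]; decide
  have h2 : (2 : F) ≠ 0 := Lib.SL2.two_ne_zero_iff_odd.2 hodd
  let Z := Subgroup.center (Matrix.SpecialLinearGroup (Fin 2) F)
  have hcard : Nat.card (Matrix.SpecialLinearGroup (Fin 2) F) = 24 := by
    rw [Lib.SL2.card_SLtwo, hF]; rfl
  let S : Sylow 2 (Matrix.SpecialLinearGroup (Fin 2) F) := default
  obtain ⟨k, -, hfac, ⟨e⟩⟩ := Lib.LinGroup.exists_sylow_two_equiv_quaternion hodd S
  have hf3 : (Nat.card (Matrix.SpecialLinearGroup (Fin 2) F)).factorization 2 = 3 := by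
    rw [hcard, show (24 : ℕ) = 2 ^ 3 * 3 from rfl,
      Nat.factorization_mul (by norm_num) (by norm_num), Finsupp.add_apply,
      Nat.Prime.factorization_pow Nat.prime_two, Finsupp.single_eq_same,
      Nat.factorization_eq_zero_of_not_dvd (by norm_num : ¬ 2 ∣ 3)]
  have hS : Nat.card (S : Subgroup (Matrix.SpecialLinearGroup (Fin 2) F)) = 8 := by
    rw [S.card_eq_multiplicity, hf3]; rfl
  have hk : k = 1 := by
    have h := hfac
    rw [hf3] at h
    exact Nat.pow_right_injective (le_refl 2) (show 2 ^ k = 2 ^ 1 by omega)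
  subst hk
  refine ⟨⟨(S : Subgroup (Matrix.SpecialLinearGroup (Fin 2) F)), ?_, ?_, ⟨e⟩⟩,
    Lib.SL2.card_center_odd h2⟩
  · -- normality: the image is the Klein four-subgroup of A₄
    have hpsl := Lib.LinGroup.card_PSL_two_mul (F := F)
    rw [hF] at hpsl
    norm_num [-Nat.card_eq_fintype_card] at hpsl
    have : Fintype (Projectivization F (Fin 2 → F)) := Fintype.ofFinite _
    obtain ⟨f⟩ := Lib.LinGroup.nonempty_mulEquiv_alternating
      (G := Matrix.ProjectiveSpecialLinearGroup (Fin 2) F)
      (α := Projectivization F (Fin 2 → F)) (k := 4)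
      (by rw [Lib.LinGroup.card_projLine, hF]) (by simp only [Nat.factorial]; omega)
    let φ := f.toMonoidHom.comp (QuotientGroup.mk' Z)
    have hφ : Function.Surjective φ := f.surjective.comp (QuotientGroup.mk'_surjective Z)
    have himg : (S : Subgroup (Matrix.SpecialLinearGroup (Fin 2) F)).map φ =
        alternatingGroup.kleinFour (Fin 4) :=
      (alternatingGroup.two_sylow_eq_kleinFour_of_card_eq_four (α := Fin 4) (by simp)
        (S.mapSurjective hφ))
    have hker : φ.ker ≤ (S : Subgroup (Matrix.SpecialLinearGroup (Fin 2) F)) := by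
      have hZ : φ.ker = Z := by
        ext x
        simp [φ, Z, MonoidHom.mem_ker]
      rw [hZ]
      have hp : IsPGroup 2 Z := IsPGroup.of_card (n := 1) (Lib.SL2.card_center_odd h2)
      exact le_sup_right.trans (S.is_maximal' (S.isPGroup'.to_sup_of_normal_right hp) le_sup_left).le
    rw [← Subgroup.comap_map_eq_self hker, himg]
    have := alternatingGroup.characteristic_kleinFour (α := Fin 4) (by simp)
    infer_instance
  · have h := Subgroup.card_mul_index (S : Subgroup (Matrix.SpecialLinearGroup (Fin 2) F))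
    rw [hS, hcard] at h
    omega

end Cfsg.Agent.S0257
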