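import Cfsg.Statements.S0275
import Cfsg.Agent.Lib.LinGroup.SLTwoPrimeField
import Cfsg.Agent.Lib.LinGroup.SLTwoTwoSylow
import Cfsg.Agent.Lib.PUnique.Basic

set_option autoImplicit false
open Cfsg Cfsg.Agent.Lib

namespace Cfsg.Agent.S0275

/-- If p is odd and H is a subgroup of SL_2(q), q a power of p, with more than one Sylow p-subgroup, then the Sylow 2-subgroups of H are generalised quaternion. -/
theorem result {F : Type*} [Field F] [Fintype F] (p : ℕ) [Fact p.Prime] [CharP F p] (hp : p ≠ 2) (H : Subgroup (Matrix.SpecialLinearGroup (Fin 2) F)) (hH : 1 < Nat.card (Sylow p H)) (S : Sylow 2 H) : ∃ k : ℕ, 1 ≤ k ∧ Nonempty ((S : Subgroup H) ≃* QuaternionGroup (2 ^ k)) := by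
  have h2 : (2 : F) ≠ 0 := fun e =>
    hp ((Nat.prime_dvd_prime_iff_eq (Fact.out : p.Prime) Nat.prime_two).1
      ((CharP.cast_eq_zero_iff F p 2).1 (by exact_mod_cast e)))
  obtain ⟨φ, hφ, hle⟩ := LinGroup.exists_sl_two_prime_le p hp H hH
  haveI : Fact (Nat.Prime 2) := ⟨Nat.prime_two⟩
  let ψ : Matrix.SpecialLinearGroup (Fin 2) (ZMod p) →* H :=
    φ.codRestrict H fun g => hle ⟨g, rfl⟩
  have hψ : Function.Injective ψ := fun a b h => hφ (congrArg Subtype.val h)
  obtain ⟨Q⟩ : Nonempty (Sylow 2 (Matrix.SpecialLinearGroup (Fin 2) (ZMod p))) := inferInstance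
  obtain ⟨k, hk, -, ⟨eQ⟩⟩ := LinGroup.exists_sylow_two_equiv_quaternion (F := ZMod p)
    (by rw [ZMod.card]; exact (Fact.out : p.Prime).odd_of_ne_two hp) Q
  have hncyc : ¬ IsCyclic (S : Subgroup H) := by
    intro hc
    obtain ⟨T, hT⟩ := (Q.isPGroup'.map ψ).exists_le_sylow
    obtain ⟨g, hg⟩ := MulAction.exists_smul_eq H T S
    haveI hTc : IsCyclic (T : Subgroup H) :=
      isCyclic_of_surjective (Sylow.equiv S T) (Sylow.equiv S T).surjective
    letI := IsCyclic.commGroup (α := (T : Subgroup H))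
    have hcomm : ∀ a b : QuaternionGroup (2 ^ k), a * b = b * a := by
      intro a b
      refine eQ.symm.injective (Subtype.ext (hψ ?_))
      have h := congrArg Subtype.val (mul_comm
        (⟨ψ (eQ.symm a), hT (Subgroup.mem_map_of_mem _ (eQ.symm a).2)⟩ : (T : Subgroup H))
        ⟨ψ (eQ.symm b), hT (Subgroup.mem_map_of_mem _ (eQ.symm b).2)⟩)
      simpa using h
    have h := hcomm (QuaternionGroup.a 1) (QuaternionGroup.xa 0)
    rw [QuaternionGroup.a_mul_xa, QuaternionGroup.xa_mul_a] at h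
    injection h with h
    have h' : ((2 : ℕ) : ZMod (2 * 2 ^ k)) = 0 := by push_cast; linear_combination -h
    rw [ZMod.natCast_eq_zero_iff] at h'
    have := Nat.le_of_dvd two_pos h'
    have : 2 ≤ 2 ^ k := le_self_pow₀ (by norm_num) (by omega)
    omega
  have huniq : ∀ A B : Subgroup (S : Subgroup H), Nat.card A = 2 → Nat.card B = 2 → A = B := by
    have key : ∀ A B : Subgroup (S : Subgroup H), Nat.card A = 2 → Nat.card B = 2 → A ≤ B := by
      intro A B hA hB z hz
      by_cases hz1 : z = 1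
      · exact hz1 ▸ B.one_mem
      haveI : Nontrivial B := Finite.one_lt_card_iff_nontrivial.1 (by omega)
      obtain ⟨⟨w, hw⟩, hw1'⟩ := exists_ne (1 : B)
      have hw1 : w ≠ 1 := fun e => hw1' (Subtype.ext e)
      have hval : ∀ (C : Subgroup (S : Subgroup H)), Nat.card C = 2 → ∀ v ∈ C, v ≠ 1 →
          (((v : H)) : Matrix.SpecialLinearGroup (Fin 2) F) = -1 := by
        intro C hC v hv hv1
        have h := pow_card_eq_one' (x := (⟨v, hv⟩ : C))
        rw [hC] at h
        have h' : (v : (S : Subgroup H)) * v = 1 := by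
          simpa [sq] using congrArg Subtype.val h
        refine SL2.eq_neg_one_of_mul_self_eq_one h2 ?_ ?_
        · simpa using congrArg (fun u : (S : Subgroup H) =>
            ((u : H) : Matrix.SpecialLinearGroup (Fin 2) F)) h'
        · exact fun e => hv1 (Subtype.ext (Subtype.ext e))
      have : z = w := Subtype.ext (Subtype.ext ((hval A hA z hz hz1).trans (hval B hB w hw hw1).symm))
      exact this ▸ hw
    exact fun A B hA hB => le_antisymm (key A B hA hB) (key B A hB hA)
  rcases PUnique.isCyclic_or_quaternion S.isPGroup' huniq with hc | ⟨-, n, ⟨e⟩⟩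
  · exact absurd hc hncyc
  · refine ⟨n, Nat.one_le_iff_ne_zero.2 ?_, ⟨e⟩⟩
    rintro rfl
    haveI : IsCyclic (QuaternionGroup (2 ^ 0)) := by
      rw [pow_zero]; exact QuaternionGroup.quaternionGroup_one_isCyclic
    exact hncyc (isCyclic_of_surjective e.symm e.symm.surjective)

end Cfsg.Agent.S0275
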