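import Cfsg.Statements.S0276
import Mathlib
import Cfsg.Agent.Lib.LinGroup.SLTwoTwoSylow


set_option autoImplicit false
open Cfsg

namespace Cfsg.Agent.S0276

/-- For q = 3 or 5 mod 8 the Sylow 2-subgroups of PSL_2(q) are elementary abelian of order 4. -/
theorem result {F : Type*} [Field F] [Fintype F] {q : ℕ} (hF : Fintype.card F = q) (hq : q % 8 = 3 ∨ q % 8 = 5) (P : Sylow 2 (Matrix.ProjectiveSpecialLinearGroup (Fin 2) F)) : IsKleinFour (P : Subgroup (Matrix.ProjectiveSpecialLinearGroup (Fin 2) F)) := by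
  have hodd : Odd (Fintype.card F) := by rw [hF, Nat.odd_iff]; omega
  have h2 : (2 : F) ≠ 0 := Lib.SL2.two_ne_zero_iff_odd.2 hodd
  let Z := Subgroup.center (Matrix.SpecialLinearGroup (Fin 2) F)
  let S : Sylow 2 (Matrix.SpecialLinearGroup (Fin 2) F) := default
  let Q : Sylow 2 (Matrix.ProjectiveSpecialLinearGroup (Fin 2) F) :=
    S.mapSurjective (QuotientGroup.mk'_surjective Z)
  obtain ⟨k, hk, hfac, ⟨e⟩⟩ := Lib.LinGroup.exists_sylow_two_equiv_quaternion hodd S
  -- the 2-part of the order of SL_2(q) is 8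
  have h8 : 2 ^ (Nat.card (Matrix.SpecialLinearGroup (Fin 2) F)).factorization 2 = 8 := by
    have hcard := Lib.SL2.card_SLtwo (F := F)
    rw [hF] at hcard
    have hne : Nat.card (Matrix.SpecialLinearGroup (Fin 2) F) ≠ 0 := Nat.card_pos.ne'
    have h8dvd : 2 ^ 3 ∣ Nat.card (Matrix.SpecialLinearGroup (Fin 2) F) ∧
        ¬ 2 ^ 4 ∣ Nat.card (Matrix.SpecialLinearGroup (Fin 2) F) := by
      rw [hcard]
      obtain ⟨m, rfl | rfl⟩ : ∃ m, q = 8 * m + 3 ∨ q = 8 * m + 5 := ⟨q / 8, by omega⟩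
      · rw [show (8 * m + 3) ^ 2 - 1 = 8 * ((4 * m + 1) * (2 * m + 1)) by ring_nf; omega]
        refine ⟨Dvd.intro_left _ (by ring :
          (8 * m + 3) * (4 * m + 1) * (2 * m + 1) * 2 ^ 3 = _), fun h => ?_⟩
        have h' : 2 ∣ (8 * m + 3) * ((4 * m + 1) * (2 * m + 1)) :=
          Nat.dvd_of_mul_dvd_mul_left (show 0 < 8 by omega) (by
            calc 8 * 2 = 2 ^ 4 := rfl
              _ ∣ (8 * m + 3) * (8 * ((4 * m + 1) * (2 * m + 1))) := h
              _ = 8 * ((8 * m + 3) * ((4 * m + 1) * (2 * m + 1))) := by ring)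
        rcases (Nat.Prime.dvd_mul Nat.prime_two).1 h' with h' | h'
        · omega
        · rcases (Nat.Prime.dvd_mul Nat.prime_two).1 h' with h' | h' <;> omega
      · rw [show (8 * m + 5) ^ 2 - 1 = 8 * ((2 * m + 1) * (4 * m + 3)) by ring_nf; omega]
        refine ⟨Dvd.intro_left _ (by ring :
          (8 * m + 5) * (2 * m + 1) * (4 * m + 3) * 2 ^ 3 = _), fun h => ?_⟩
        have h' : 2 ∣ (8 * m + 5) * ((2 * m + 1) * (4 * m + 3)) :=
          Nat.dvd_of_mul_dvd_mul_left (show 0 < 8 by omega) (by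
            calc 8 * 2 = 2 ^ 4 := rfl
              _ ∣ (8 * m + 5) * (8 * ((2 * m + 1) * (4 * m + 3))) := h
              _ = 8 * ((8 * m + 5) * ((2 * m + 1) * (4 * m + 3))) := by ring)
        rcases (Nat.Prime.dvd_mul Nat.prime_two).1 h' with h' | h'
        · omega
        · rcases (Nat.Prime.dvd_mul Nat.prime_two).1 h' with h' | h' <;> omega
    have h3 := (Nat.prime_two.pow_dvd_iff_le_factorization hne).1 h8dvd.1
    have h4 : ¬ 4 ≤ (Nat.card (Matrix.SpecialLinearGroup (Fin 2) F)).factorization 2 :=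
      fun h => h8dvd.2 ((Nat.prime_two.pow_dvd_iff_le_factorization hne).2 h)
    rw [show (Nat.card (Matrix.SpecialLinearGroup (Fin 2) F)).factorization 2 = 3 by omega]
    rfl
  have hk2 : 2 ^ k = 2 := by have := hfac.symm.trans h8; omega
  -- the order of Q
  have hQ : Nat.card (Q : Subgroup (Matrix.ProjectiveSpecialLinearGroup (Fin 2) F)) = 4 := by
    have hmul : Nat.card (Matrix.ProjectiveSpecialLinearGroup (Fin 2) F) * Nat.card Z =
        Nat.card (Matrix.SpecialLinearGroup (Fin 2) F) :=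
      (Subgroup.card_eq_card_quotient_mul_card_subgroup Z).symm
    rw [Lib.SL2.card_center_odd h2] at hmul
    rw [Q.card_eq_multiplicity]
    rw [← hmul, Nat.factorization_mul Nat.card_pos.ne' two_ne_zero, Finsupp.add_apply,
      Nat.prime_two.factorization_self, pow_succ] at h8
    omega
  have hsq : ∀ x ∈ (Q : Subgroup (Matrix.ProjectiveSpecialLinearGroup (Fin 2) F)), x ^ 2 = 1 := by
    rintro x ⟨s, hs, rfl⟩
    rw [← map_pow, QuotientGroup.mk'_apply, QuotientGroup.eq_one_iff]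
    have h : ∀ u : QuaternionGroup 2, (u ^ 2) ^ 2 = 1 := by decide
    have h' : ((⟨s, hs⟩ : (S : Subgroup (Matrix.SpecialLinearGroup (Fin 2) F))) ^ 2) ^ 2 = 1 := by
      apply e.injective
      rw [map_pow, map_pow, map_one]
      generalize e ⟨s, hs⟩ = u
      revert u
      rw [hk2]
      exact h
    have h'' : s ^ 2 * s ^ 2 = 1 := by
      simpa [sq] using congrArg Subtype.val h'
    by_cases h1 : s ^ 2 = 1
    · rw [h1]; exact Subgroup.one_mem _
    · rw [Lib.SL2.eq_neg_one_of_mul_self_eq_one h2 h'' h1]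
      exact Lib.SL2.neg_one_mem_center
  have e' := Sylow.equiv P Q
  refine ⟨by rw [Nat.card_congr e'.toEquiv, hQ], ?_⟩
  rw [Monoid.exponent_eq_of_mulEquiv e']
  have hnt : Nontrivial (Q : Subgroup (Matrix.ProjectiveSpecialLinearGroup (Fin 2) F)) :=
    Finite.one_lt_card_iff_nontrivial.1 (by omega)
  refine Monoid.exponent_eq_prime_iff Nat.prime_two |>.2 fun g hg => ?_
  refine orderOf_eq_prime (Subtype.ext ?_) hg
  simpa using hsq _ g.2

end Cfsg.Agent.S0276
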