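import Cfsg.Statements.S0305
import Mathlib
import Cfsg.Agent.Lib.Classical.Standard

set_option autoImplicit false
open Cfsg

namespace Cfsg.Agent.S0305

/-- GO^+_2(q) is dihedral of order 2(q-1). -/
theorem result {F : Type*} [Field F] [Fintype F] {q : ℕ} (hF : Fintype.card F = q) : Nonempty (Cfsg.isometryGroup F (Cfsg.quadFormPlus 1 F) ≃* DihedralGroup (q - 1)) := by
  open Lib.Classical in
  subst hF
  rw [← Nat.card_eq_fintype_card]
  let Q0 : QuadraticForm F (Fin 0 → F) := 0
  let e : Cfsg.isometryGroup F (Cfsg.quadFormPlus 1 F) ≃* isoGroup (F := F) ⇑(hypExt Q0) :=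
    (plusIsoEquiv 1).trans ((isoGroupCongr (towerSucc 0) 1 (fun v => by
      rw [Units.val_one, one_mul]; exact hypTower_succ 0 Q0 v)).trans
      (isoGroupCongr ((LinearEquiv.refl F F).prodCongr ((LinearEquiv.refl F F).prodCongr towerZero)) 1
        (fun v => by
          rw [Units.val_one, one_mul, hypExt_apply, hypExt_apply]
          exact congrArg (v.1 * v.2.1 + ·) (hypTower_zero Q0 v.2.2))))
  have hcard : Nat.card (isoGroup (F := F) ⇑(hypExt Q0)) = 2 * (Nat.card F - 1) := by
    rw [← Nat.card_congr e.toEquiv, natCard_isometryGroup_plus 0]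
    simp
  have hq : 2 ≤ Nat.card F := Finite.one_lt_card
  obtain ⟨g, hg⟩ := IsCyclic.exists_generator (α := Fˣ)
  have hord : orderOf g = Nat.card F - 1 := by
    rw [orderOf_eq_card_of_forall_mem_zpowers hg, Nat.card_units]
  let φ : Fˣ →* isoGroup (F := F) ⇑(hypExt Q0) :=
    { toFun := fun c => ⟨hypScale c, hypScale_mem Q0 c⟩
      map_one' := Subtype.ext (LinearEquiv.ext fun p => by simp [hypScale_apply])
      map_mul' := fun c d => Subtype.ext (LinearEquiv.ext fun p => by
        simp [hypScale_apply, LinearEquiv.mul_apply, mul_assoc, mul_comm, mul_left_comm]) }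
  have hφ : Function.Injective φ := fun c d h => by
    have := congrArg (fun x : isoGroup (F := F) ⇑(hypExt Q0) => (x.1 (1, 0, 0)).1) h
    simpa [φ, hypScale_apply, Units.ext_iff] using this
  haveI : NeZero (Nat.card F - 1) := ⟨by omega⟩
  obtain ⟨d⟩ := nonempty_dihedralGroup_mulEquiv (Nat.card F - 1) (φ g)
    ⟨hypSwap, hypSwap_mem Q0⟩ (by rw [orderOf_injective φ hφ, hord])
    (Subtype.ext (LinearEquiv.ext fun p => rfl))
    (by
      rw [← map_inv]
      refine Subtype.ext (LinearEquiv.ext fun p => ?_)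
      show hypSwap (hypScale g (hypSwap p)) = hypScale g⁻¹ p
      simp [hypScale_apply, hypSwap_apply])
    (by
      intro h
      rw [Subgroup.mem_zpowers_iff] at h
      obtain ⟨k, hk⟩ := h
      rw [← map_zpow] at hk
      have := congrArg (fun x : isoGroup (F := F) ⇑(hypExt Q0) => (x.1 (1, 0, 0)).2.1) hk
      simp [φ, hypScale_apply, hypSwap_apply] at this)
    hcard
  exact ⟨e.trans d⟩

end Cfsg.Agent.S0305
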