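import Cfsg.Statements.S0306
import Mathlib
import Cfsg.Agent.Lib.Classical.Standard

set_option autoImplicit false
open Cfsg

namespace Cfsg.Agent.S0306

/-- GO^-_2(q) is dihedral of order 2(q+1). -/
theorem result {F : Type*} [Field F] [Fintype F] {q : ℕ} (hF : Fintype.card F = q) (a b : F) (hab : ∀ z₁ z₂ : F, z₁ ^ 2 + a * z₁ * z₂ + b * z₂ ^ 2 = 0 → z₁ = 0 ∧ z₂ = 0) : Nonempty (Cfsg.isometryGroup F (Cfsg.quadFormMinus 0 F a b) ≃* DihedralGroup (q + 1)) := by
  have e : Cfsg.isometryGroup F (Cfsg.quadFormMinus 0 F a b) ≃*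
      Lib.Classical.isoGroup (F := F) ⇑(Lib.Classical.binQ a b) :=
    (Lib.Classical.minusIsoEquiv 0 a b).trans (Lib.Classical.isoGroupCongr Lib.Classical.towerZero 1
      (fun v => by rw [Units.val_one, one_mul]; exact Lib.Classical.hypTower_zero _ v))
  obtain ⟨d⟩ := Lib.Classical.BinAniso.dihedral (F := F) (a := a) (b := b) hab
  rw [← hF, ← Nat.card_eq_fintype_card]
  exact ⟨e.trans d⟩

end Cfsg.Agent.S0306
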