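import Cfsg.Statements.S0307
import Mathlib

set_option autoImplicit false
open Cfsg

namespace Cfsg.Agent.S0307

/-- PSL_n(q) is normal in PGL_n(q) with cyclic quotient of order gcd(n, q-1): the image of the natural map PSL_n → PGL_n is the kernel of a surjective homomorphism onto the cyclic group of that order. -/
theorem result {F : Type*} [Field F] [Fintype F] {q : ℕ} (hF : Fintype.card F = q) (n : ℕ) (hn : 1 ≤ n) : ∃ g : Matrix.ProjGenLinGroup (Fin n) F →* Multiplicative (ZMod (Nat.gcd n (q - 1))), Function.Surjective g ∧ g.ker = (Matrix.ProjectiveSpecialLinearGroup.toPGL : Matrix.ProjectiveSpecialLinearGroup (Fin n) F →* Matrix.ProjGenLinGroup (Fin n) F).range := by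
  subst hF
  classical
  let n' := Nat.gcd n (Fintype.card F - 1)
  let P : Fˣ →* Fˣ := powMonoidHom n
  have hidx : Nat.card (Fˣ ⧸ P.range) = Nat.gcd n (Fintype.card F - 1) := by
    rw [← Subgroup.index_eq_card, Subgroup.index_range, IsCyclic.card_powMonoidHom_ker,
      Nat.card_units, Nat.card_eq_fintype_card, Nat.gcd_comm]
  let e : Fˣ ⧸ P.range ≃* Multiplicative (ZMod (Nat.gcd n (Fintype.card F - 1))) :=
    (zmodCyclicMulEquiv (G := Fˣ ⧸ P.range)
      (isCyclic_of_surjective (QuotientGroup.mk' P.range) (QuotientGroup.mk'_surjective _))).symm.trans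
      (AddEquiv.toMultiplicative (ZMod.ringEquivCongr hidx).toAddEquiv)
  let φ : Matrix.GeneralLinearGroup (Fin n) F →* Fˣ ⧸ P.range :=
    (QuotientGroup.mk' P.range).comp Matrix.GeneralLinearGroup.det
  have hle : Subgroup.center (Matrix.GeneralLinearGroup (Fin n) F) ≤ φ.ker := by
    intro z hz
    rw [Matrix.GeneralLinearGroup.center_eq_range_scalar] at hz
    obtain ⟨u, rfl⟩ := hz
    rw [MonoidHom.mem_ker]
    refine (QuotientGroup.eq_one_iff _).2 ⟨u, Units.ext ?_⟩
    simp [P]
  let g0 : Matrix.ProjGenLinGroup (Fin n) F →* Fˣ ⧸ P.range := QuotientGroup.lift _ φ hle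
  have hg0 : ∀ A, g0 (Matrix.ProjGenLinGroup.mk A) = φ A := fun A => rfl
  refine ⟨e.toMonoidHom.comp g0, e.surjective.comp ?_, ?_⟩
  · intro x
    obtain ⟨u, rfl⟩ := QuotientGroup.mk'_surjective P.range x
    haveI : Nonempty (Fin n) := ⟨⟨0, hn⟩⟩
    obtain ⟨A, hA⟩ := Matrix.GeneralLinearGroup.det_surjective (n := Fin n) u
    exact ⟨Matrix.ProjGenLinGroup.mk A, by rw [hg0]; simp [φ, hA]⟩
  · ext x
    induction x using Matrix.ProjGenLinGroup.induction_on with | mk A =>
    rw [MonoidHom.mem_ker, MonoidHom.comp_apply]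
    show e (g0 _) = 1 ↔ _
    rw [MulEquiv.map_eq_one_iff, hg0]
    constructor
    · intro h
      obtain ⟨u, hu⟩ := (QuotientGroup.eq_one_iff _).1 h
      let B := A * (Matrix.GeneralLinearGroup.scalar (Fin n) u)⁻¹
      have hB : Matrix.GeneralLinearGroup.det B = 1 := by
        rw [map_mul, map_inv, ← hu]
        apply mul_inv_eq_one.2
        apply Units.ext
        simp [P]
      let S : Matrix.SpecialLinearGroup (Fin n) F := ⟨(B : Matrix (Fin n) (Fin n) F), congrArg Units.val hB⟩
      refine ⟨QuotientGroup.mk S, ?_⟩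
      show Matrix.ProjGenLinGroup.mk (Matrix.SpecialLinearGroup.toGL S) = _
      rw [Matrix.ProjGenLinGroup.mk_eq_mk_iff]
      refine ⟨u, ?_⟩
      simp only [S]
      have : Matrix.SpecialLinearGroup.toGL (⟨(B : Matrix (Fin n) (Fin n) F), congrArg Units.val hB⟩ :
          Matrix.SpecialLinearGroup (Fin n) F) = B := Units.ext rfl
      rw [this]
      simp [B]
    · rintro ⟨X, hX⟩
      induction X using QuotientGroup.induction_on with | H S =>
      rw [Matrix.ProjectiveSpecialLinearGroup.toPGL_mk] at hX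
      rw [← hg0, ← hX, hg0]
      refine (QuotientGroup.eq_one_iff _).2 ?_
      rw [show Matrix.GeneralLinearGroup.det (Matrix.SpecialLinearGroup.toGL S) = 1 from
        Units.ext S.2]
      exact one_mem _

end Cfsg.Agent.S0307
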