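import Cfsg.Statements.S0341
import Cfsg.Agent.Lib.Zassenhaus.Basic
import Cfsg.Agent.Lib.Zassenhaus.RegularDegree

set_option autoImplicit false
open Cfsg

namespace Cfsg.Agent.S0341

/-- If a finite group acts faithfully and doubly transitively, no non-identity element fixes three points, some
non-identity element fixes two points, and some normal subgroup acts regularly, then the number of points
is `2^p` with `p` prime. -/
theorem result {G Ω : Type*} [Group G]
    [MulAction G Ω] [Fintype Ω] [FaithfulSMul G Ω] (h2 : MulAction.IsMultiplyPretransitive G Ω 2)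
    (h3 : ∀ g : G, ∀ a b c : Ω, a ≠ b → b ≠ c → a ≠ c → g • a = a → g • b = b → g • c = c → g = 1)
    (hfix : ∃ g : G, g ≠ 1 ∧ ∃ a b : Ω, a ≠ b ∧ g • a = a ∧ g • b = b)
    (N : Subgroup G) [N.Normal] (hNt : MulAction.IsPretransitive N Ω)
    (hNr : ∀ a : Ω, MulAction.stabilizer N a = ⊥) :
    ∃ p : ℕ, p.Prime ∧ Fintype.card Ω = 2 ^ p := by
  classical
  have hfinG : Finite G := Lib.Zassenhaus.finite_of_faithful (Ω := Ω)
  obtain ⟨a, b, hab⟩ : ∃ a b : Ω, a ≠ b := by
    obtain ⟨g, -, a, b, h, -, -⟩ := hfix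
    exact ⟨a, b, h⟩
  have : Nontrivial Ω := ⟨a, b, hab⟩
  obtain ⟨p, hp, hc, he, j, hj, hcard⟩ :=
    Lib.Perm.regularNormal_elementaryAbelian N h2 (hNr a)
  -- an element of prime order fixing two points
  obtain ⟨g₀, hg₀, hg₀a, hg₀b⟩ := Lib.Zassenhaus.exists_fix_pair h2 hfix hab
  obtain ⟨c, hca, hcb⟩ := Lib.Zassenhaus.exists_third hg₀ hg₀a hg₀b
  let H : Subgroup G := MulAction.stabilizer G a ⊓ MulAction.stabilizer G b
  have hH : Nat.card H ≠ 1 := fun e => hg₀ (by
    have hm : g₀ ∈ H := ⟨hg₀a, hg₀b⟩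
    rw [Subgroup.eq_bot_of_card_eq H e] at hm
    exact hm)
  obtain ⟨r, hr, hrd⟩ := Nat.exists_prime_and_dvd hH
  have : Fact r.Prime := ⟨hr⟩
  obtain ⟨⟨h, hmem⟩, hho⟩ := exists_prime_orderOf_dvd_card' r hrd
  rw [Subgroup.orderOf_mk] at hho
  have hha : h • a = a := (Subgroup.mem_inf.1 hmem).1
  have hhb : h • b = b := (Subgroup.mem_inf.1 hmem).2
  have hh1 : h ≠ 1 := fun e => by rw [e, orderOf_one] at hho; exact hr.ne_one hho.symm
  have hfix2 : ∀ y : Ω, h • y = y → y = a ∨ y = b := fun y hy => by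
    by_contra hne
    push Not at hne
    exact hh1 (h3 h a b y hab hne.2.symm hne.1.symm hha hhb hy)
  -- the translation taking `a` to `b`
  obtain ⟨⟨n, hnN⟩, hn⟩ := MulAction.exists_smul_eq N a b
  change n • a = b at hn
  have hn1 : n ≠ 1 := fun e => hab (by rw [← hn, e, one_smul])
  have hnh : h * n * h⁻¹ = n := Lib.Perm.eq_of_smul_eq_of_regular N (hNr a)
    (‹N.Normal›.conj_mem n hnN h) hnN (by rw [Lib.Perm.conj_smul_of_fix hha, hn, hhb])
  have hp2 : p = 2 := by
    by_contra hne
    have hn2 : n ^ 2 ≠ 1 := fun e => by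
      rcases (Nat.dvd_prime Nat.prime_two).1 (orderOf_dvd_of_pow_eq_one e) with ho | ho
      · exact hn1 (orderOf_eq_one_iff.1 ho)
      · have hop : orderOf n ∣ p := orderOf_dvd_of_pow_eq_one (he n hnN)
        rw [ho, Nat.prime_dvd_prime_iff_eq Nat.prime_two hp] at hop
        exact hne hop.symm
    have hfx : h • (n ^ 2 • a) = n ^ 2 • a := by
      rw [← Lib.Perm.conj_smul_of_fix (n := n ^ 2) hha]
      congr 1
      calc h * n ^ 2 * h⁻¹ = (h * n * h⁻¹) * (h * n * h⁻¹) := by rw [pow_two]; group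
        _ = n ^ 2 := by rw [hnh, pow_two]
    rcases hfix2 _ hfx with h' | h'
    · exact Lib.Perm.smul_ne_of_regular N (hNr a) (pow_mem hnN 2) hn2 h'
    · exact hn1 (by
        have := Lib.Perm.eq_of_smul_eq_of_regular N (hNr a) (pow_mem hnN 2) hnN (h'.trans hn.symm)
        rw [pow_two] at this
        exact mul_eq_left.1 this)
  subst hp2
  -- the kernel of the stabiliser of `a`
  obtain ⟨K, hK⟩ := Lib.Zassenhaus.exists_isKer h2 h3 hfix a
  have hKN : K ≤ Subgroup.normalizer (N : Set G) := by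
    rw [Subgroup.normalizer_eq_top_iff.mpr ‹N.Normal›]; exact le_top
  letI := Lib.Frobenius.FPF.conjAction K N hKN
  letI : CommGroup N :=
    { (inferInstance : Group N) with mul_comm := fun x y => mul_comm' x y }
  have : Nontrivial N := (Subgroup.nontrivial_iff_ne_bot N).2 fun e => hn1 (by
    rw [e] at hnN; exact hnN)
  have hcentral : ∀ k ∈ K, k ≠ 1 → N ⊓ Subgroup.centralizer {k} = ⊥ := by
    intro k hk hk1
    refine eq_bot_iff.2 fun x hx => Subgroup.mem_bot.2 (by_contra fun hx1 => ?_)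
    obtain ⟨hxN, hxk⟩ := Subgroup.mem_inf.1 hx
    rw [Subgroup.mem_centralizer_singleton_iff] at hxk
    refine hk1 (hK.eq_one hk (y := x • a) (Lib.Perm.smul_ne_of_regular N (hNr a) hxN hx1) ?_)
    rw [← mul_smul, ← hxk, mul_smul, hK.fix hk]
  have hfpf := Lib.Frobenius.FPF.isFPF_conjAction K N hKN hcentral
  have hodd : Odd (Nat.card K) := by
    by_contra hev
    rw [Nat.not_odd_iff_even, even_iff_two_dvd] at hev
    have : Fact (Nat.Prime 2) := ⟨Nat.prime_two⟩
    obtain ⟨k, hk⟩ := exists_prime_orderOf_dvd_card' 2 hev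
    exact Lib.Frobenius.FPF.false_of_pow_prime_eq_one hfpf Nat.prime_two
      (fun e => by rw [e, orderOf_one] at hk; omega) (hk ▸ pow_orderOf_eq_one k)
      (fun v => Subtype.ext (he v v.2))
  have : IsZGroup K := Lib.Zassenhaus.RegularDegree.isZGroup_of_fpf hfpf hodd
  let σ : K ≃* K :=
    { toFun := fun k => ⟨h * k * h⁻¹, hK.conj_mem k.2 hha⟩
      invFun := fun k => ⟨h⁻¹ * k * (h⁻¹)⁻¹, hK.conj_mem k.2 (inv_smul_eq_iff.2 hha.symm)⟩
      left_inv := fun k => Subtype.ext (by simp [mul_assoc])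
      right_inv := fun k => Subtype.ext (by simp [mul_assoc])
      map_mul' := fun k l => Subtype.ext (by simp [mul_assoc]) }
  have hσ : ∀ k, σ k = k → k = 1 := by
    intro k e
    have e' : h * (k : G) * h⁻¹ = k := congrArg Subtype.val e
    have hkb : h • ((k : G) • b) = (k : G) • b := by
      rw [← Lib.Perm.conj_smul_of_fix (n := (k : G)) hhb, e']
    refine Subtype.ext (hK.eq_one k.2 hab.symm ?_)
    rcases hfix2 _ hkb with h' | h'
    · exact absurd (smul_left_cancel (k : G) (h'.trans (hK.fix k.2).symm)) hab.symm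
    · exact h'
  have hKcomm := Lib.Zassenhaus.RegularDegree.mul_comm_of_fpf_aut σ hσ
  let φ : K →* AddMonoid.End (Additive N) :=
    { toFun := fun k => MonoidHom.toAdditive (MulAut.conjNormal (H := N) (k : G)).toMonoidHom
      map_one' := AddMonoidHom.ext fun x => by
        show Additive.ofMul (MulAut.conjNormal (1 : G) x.toMul) = x
        rw [map_one]; rfl
      map_mul' := fun k l => AddMonoidHom.ext fun x => by
        show Additive.ofMul (MulAut.conjNormal ((k : G) * l) x.toMul) =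
          Additive.ofMul (MulAut.conjNormal (k : G) (MulAut.conjNormal (l : G) x.toMul))
        rw [map_mul]; rfl }
  let t : Additive N ≃+ Additive N := MulEquiv.toAdditive (MulAut.conjNormal (H := N) h)
  have htval : ∀ x : Additive N, ((t x).toMul : G) = h * (x.toMul : G) * h⁻¹ := fun x =>
    MulAut.conjNormal_apply h x.toMul
  have hφval : ∀ (k : K) (x : Additive N), ((φ k x).toMul : G) = k * (x.toMul : G) * (k : G)⁻¹ :=
    fun k x => MulAut.conjNormal_apply (k : G) x.toMul
  have hext : ∀ x y : Additive N, (x.toMul : G) = y.toMul → x = y := fun x y e =>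
    Additive.toMul.injective (Subtype.ext e)
  have hext' : ∀ x y : Additive N, (x.toMul : G) • a = (y.toMul : G) • a → x = y := fun x y e =>
    hext x y (Lib.Perm.eq_of_smul_eq_of_regular N (hNr a) x.toMul.2 y.toMul.2 e)
  refine ⟨r, hr, ?_⟩
  rw [← Nat.card_eq_fintype_card, ← Lib.Perm.card_eq_of_regular N (hNr a)]
  refine (Nat.card_congr Additive.ofMul).trans ?_
  refine Lib.Zassenhaus.RegularDegree.card_eq_two_pow φ hKcomm σ t ?_ ?_
    (n := Additive.ofMul ⟨n, hnN⟩) (fun e => hn1 (congrArg (fun x : Additive N => (x.toMul : G)) e))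
    (hext _ _ ((htval _).trans hnh)) ?_ ?_ hr ?_
  · intro k x
    refine hext _ _ ?_
    rw [htval, hφval, hφval, htval]
    show h * (↑k * (x.toMul : G) * (↑k)⁻¹) * h⁻¹ =
      h * ↑k * h⁻¹ * (h * (x.toMul : G) * h⁻¹) * (h * ↑k * h⁻¹)⁻¹
    group
  · intro x y hx hy
    have hne : ∀ z : Additive N, z ≠ 0 → (z.toMul : G) • a ≠ a := fun z hz e =>
      hz (hext' z 0 (e.trans (one_smul G a).symm))
    obtain ⟨k, hk, hkxy⟩ := hK.transitive _ _ (hne x hx) (hne y hy)
    exact ⟨⟨k, hk⟩, hext' _ _ (by rw [hφval, Lib.Perm.conj_smul_of_fix (hK.fix hk), hkxy])⟩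
  · intro x hx
    have e := (htval x).symm.trans (congrArg (fun z : Additive N => (z.toMul : G)) hx)
    have hxa : h • ((x.toMul : G) • a) = (x.toMul : G) • a := by
      rw [← Lib.Perm.conj_smul_of_fix (n := (x.toMul : G)) hha, e]
    rcases hfix2 _ hxa with h' | h'
    · exact Or.inl (hext' x 0 (h'.trans (one_smul G a).symm))
    · exact Or.inr (hext' x _ (h'.trans hn.symm))
  · obtain ⟨m, hm⟩ := MulAction.exists_smul_eq N a c
    refine ⟨Additive.ofMul m, fun e => ?_⟩
    have e' : h * (m : G) * h⁻¹ = m :=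
      (htval _).symm.trans (congrArg (fun z : Additive N => (z.toMul : G)) e)
    have hmc : (m : G) • a = c := hm
    have hcfix : h • c = c := by
      rw [← hmc, ← Lib.Perm.conj_smul_of_fix (n := (m : G)) hha, e']
    rcases hfix2 c hcfix with h' | h'
    · exact hca h'
    · exact hcb h'
  · intro x
    have hit : ∀ i : ℕ, ((t^[i] x).toMul : G) = h ^ i * (x.toMul : G) * (h ^ i)⁻¹ := by
      intro i
      induction i with
      | zero => simp
      | succ i ih => rw [Function.iterate_succ_apply', htval, ih, pow_succ']; group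
    refine hext _ _ ?_
    rw [hit, ← hho, pow_orderOf_eq_one]
    group

end Cfsg.Agent.S0341
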