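import Cfsg.Statements.S0345
import Mathlib
import Mathlib
import Cfsg.Agent.Lib.Perm.SharplySimple
import Cfsg.Agent.Lib.Zassenhaus.SimpleOdd

set_option autoImplicit false
open Cfsg

namespace Cfsg.Agent.S0345

open Cfsg.Agent.Lib.Perm

/-- In a finite simple Zassenhaus group the stabiliser `H` of two points `a ≠ b` is cyclic, and some involution
interchanging `a` and `b` inverts every element of `H`. -/
theorem result {G Ω : Type*} [Group G] [Finite G] [MulAction G Ω] [Finite Ω]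
    (hZ : Cfsg.IsZassenhausGroup G Ω) [IsSimpleGroup G]
    {a b : Ω} (hab : a ≠ b) :
    IsCyclic ↥(MulAction.stabilizer G a ⊓ MulAction.stabilizer G b) ∧
      ∃ v : G, orderOf v = 2 ∧ v • a = b ∧ v • b = a ∧ ∀ h ∈ MulAction.stabilizer G a ⊓ MulAction.stabilizer G b, v * h * v⁻¹ = h⁻¹ := by
  classical
  let : Fintype Ω := Fintype.ofFinite Ω
  have hZ' := hZ
  obtain ⟨hF, h2, h3, hfix, -⟩ := hZ'
  obtain ⟨c, hca, hcb⟩ := Zassenhaus.exists_third hfix a b
  obtain ⟨s, hs, hsa, hsb, -⟩ := Zassenhaus.exists_involution_swap h2 h3 hab hca hcb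
  rcases Nat.even_or_odd (Nat.card ↥(MulAction.stabilizer G a ⊓ MulAction.stabilizer G b)) with he | ho
  · obtain ⟨T, hT, -, hinv⟩ := SharplySimple.even_stabiliser hZ hab he
    exact ⟨SharplySimple.isCyclic_of_comm (Fintype.two_lt_card_iff.mpr ⟨a, b, c, hab, hca.symm, hcb.symm⟩) h3 hT hab.symm
      (ZassenhausBasics.comm_of_inverted (s := s) (hinv s hsa hsb)),
      s, hs, hsa, hsb, hinv s hsa hsb⟩
  · obtain ⟨hcyc, hinv⟩ := Cfsg.Agent.Lib.Zassenhaus.SimpleOdd.simple_inverts hZ hab ho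
    exact ⟨hcyc, s, hs, hsa, hsb, hinv a b hab s hsa hsb⟩

end Cfsg.Agent.S0345
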