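import Cfsg.Statements.S0384
import Mathlib
import Cfsg.Agent.Lib.Golay.Simple

set_option autoImplicit false
open scoped Pointwise
open Cfsg

namespace Cfsg.Agent.S0384

/-- A dodecad stabiliser is sharply 5-transitive on the dodecad. -/
theorem result (d : Finset Cfsg.GolayPt) (hd : d ∈ Cfsg.dodecads) (x y : Fin 5 ↪ Cfsg.GolayPt) (hx : ∀ i, x i ∈ d) (hy : ∀ i, y i ∈ d) : ∃! g : MulAction.stabilizer Cfsg.M24 d, ∀ i, ((g : Cfsg.M24) : Equiv.Perm Cfsg.GolayPt) (x i) = y i := by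
  obtain ⟨g, hg, hgd, hgi⟩ :=
    Lib.Golay.stabDodecad_five hd x y x.injective y.injective hx hy
  refine ⟨⟨⟨g, hg⟩, hgd⟩, hgi, ?_⟩
  rintro ⟨⟨h, hh⟩, hhd⟩ hhi
  have h1 : g⁻¹ * h = 1 := Lib.Golay.stabDodecad_free hd (mul_mem (inv_mem hg) hh)
    (by rw [mul_smul, inv_smul_eq_iff]; exact (MulAction.mem_stabilizer_iff.mp hhd).trans hgd.symm)
    x x.injective hx fun i => by
      rw [Equiv.Perm.mul_apply, Equiv.Perm.inv_eq_iff_eq, hgi i]; exact hhi i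
  exact Subtype.ext (Subtype.ext (inv_mul_eq_one.mp h1).symm)

end Cfsg.Agent.S0384
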