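import Cfsg.Statements.S0423
import Cfsg.Agent.Lib.HallJankoPerm.Cert

set_option autoImplicit false
open Cfsg

namespace Cfsg.Agent.S0423

/-- Existence of a simple group of order 604800. -/
theorem result : ∃ G : Subgroup (Equiv.Perm (Fin 100)), Cfsg.IsJ2 G := by
  refine ⟨Lib.Compute.genGroup Lib.HallJankoPerm.hjCoding Lib.HallJankoPerm.hjGens, ?_, ?_⟩
  · exact Lib.Compute.isSimpleGroup_genGroup _ Lib.HallJankoPerm.gensOK_hj Lib.HallJankoPerm.hjChain_ok
      Lib.HallJankoPerm.hjCert_ok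
  · rw [Lib.Compute.card_genGroup _ Lib.HallJankoPerm.gensOK_hj Lib.HallJankoPerm.hjChain_ok,
      Lib.HallJankoPerm.hjChain_size]

end Cfsg.Agent.S0423
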