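import Cfsg.Statements.S0437
import Mathlib
import Cfsg.Agent.S0436

set_option autoImplicit false
open Cfsg

namespace Cfsg.Agent.S0437


/-- For three distinct, pairwise commuting members a, b, c of a set of 3-transpositions E, a member e of E centralises a * b * c if and only if it centralises each of a, b and c. -/
theorem result {G : Type*} [Group G] {E : Set G} (hE : Cfsg.IsThreeTranspositionSet E) {a b c e : G} (ha : a ∈ E) (hb : b ∈ E) (hc : c ∈ E) (he : e ∈ E) (hab : a ≠ b) (hac : a ≠ c) (hbc : b ≠ c) (h₁ : Commute a b) (h₂ : Commute a c) (h₃ : Commute b c) : Commute e (a * b * c) ↔ (Commute e a ∧ Commute e b ∧ Commute e c) := by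
  refine ⟨fun h => ?_, fun h => (h.1.mul_right h.2.1).mul_right h.2.2⟩
  obtain ⟨h2', h3'⟩ := hE
  have sq : ∀ x ∈ E, x * x = 1 := fun x hx => by
    have := pow_orderOf_eq_one x; rw [h2' x hx, pow_two] at this; exact this
  have cub : ∀ x ∈ E, ∀ y ∈ E, ¬ Commute x y → x * y * x = y * x * y := by
    intro x hx y hy hn
    have hxi : x⁻¹ = x := inv_eq_of_mul_eq_one_right (sq x hx)
    have hyi : y⁻¹ = y := inv_eq_of_mul_eq_one_right (sq y hy)
    rcases h3' x hx y hy with h | h
    · exfalso; apply hn
      have : (x * y)⁻¹ = x * y := inv_eq_of_mul_eq_one_right (by rwa [pow_two] at h)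
      rw [mul_inv_rev, hxi, hyi] at this
      exact this.symm
    · have : (x * y * x)⁻¹ = y * x * y := inv_eq_of_mul_eq_one_right (by
        rw [pow_succ, pow_two] at h; simpa only [mul_assoc] using h)
      rw [mul_inv_rev, mul_inv_rev, hxi, hyi] at this
      simpa only [mul_assoc] using this
  have hE : Cfsg.IsThreeTranspositionSet E := ⟨h2', h3'⟩
  by_cases hec : Commute e c
  · have : Commute e (a * b) := by
      have := h.mul_right hec
      rwa [mul_assoc, sq c hc, mul_one] at this
    exact ⟨((S0436.result hE ha hb he hab h₁).1 this).1, ((S0436.result hE ha hb he hab h₁).1 this).2, hec⟩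
  by_cases heb : Commute e b
  · have : Commute e (a * c) := by
      have h' : Commute e (a * c * b) := by rwa [mul_assoc, ← h₃.eq, ← mul_assoc]
      have := h'.mul_right heb
      rwa [mul_assoc, sq b hb, mul_one] at this
    exact ⟨((S0436.result hE ha hc he hac h₂).1 this).1, heb, ((S0436.result hE ha hc he hac h₂).1 this).2⟩
  by_cases hea : Commute e a
  · have : Commute e (b * c) := by
      have := hea.mul_right h
      rwa [← mul_assoc, ← mul_assoc, sq a ha, one_mul] at this
    exact ⟨hea, ((S0436.result hE hb hc he hbc h₃).1 this).1, ((S0436.result hE hb hc he hbc h₃).1 this).2⟩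
  exfalso
  have h1 := cub e he a ha hea
  have h2 := cub e he b hb heb
  have h3 := cub e he c hc hec
  -- e (a b) e = a b c (e c e) = a b e c
  have h4 : e * (a * b) * e = a * b * (e * c) := by
    have hconj : e * (a * b * c) * e = a * b * c := by rw [h.eq, mul_assoc, sq e he, mul_one]
    calc e * (a * b) * e = e * (a * b * c) * e * (e * c * e) := by
          calc e * (a * b) * e = e * (a * b) * (c * c) * e := by rw [sq c hc]; group
            _ = e * (a * b * c) * (e * e) * c * e := by rw [sq e he]; group
            _ = e * (a * b * c) * e * (e * c * e) := by group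
      _ = a * b * c * (c * e * c) := by rw [hconj, h3]
      _ = a * b * (c * c) * (e * c) := by group
      _ = a * b * (e * c) := by rw [sq c hc]; group
  have h5 : a * e * a * (b * e * b) = a * b * (e * c) := by
    rw [← h4, ← h1, ← h2]
    calc e * a * e * (e * b * e) = e * a * (e * e) * b * e := by group
      _ = e * (a * b) * e := by rw [sq e he]; group
  have h6 : e * (a * b) * (e * b) = b * (e * c) := by
    apply mul_left_cancel (a := a)
    calc a * (e * (a * b) * (e * b)) = a * e * a * (b * e * b) := by group
      _ = a * b * (e * c) := h5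
      _ = a * (b * (e * c)) := by group
  rw [← mul_assoc, h4] at h6
  -- a b e c b = b e c
  have h7 : a * b * e * b = b * e := by
    apply mul_right_cancel (b := c)
    calc a * b * e * b * c = a * b * (e * c) * b := by rw [mul_assoc _ b c, h₃.eq]; group
      _ = b * (e * c) := h6
      _ = b * e * c := by group
  have h8 : a * b * e = e * b * e := by
    calc a * b * e = a * b * e * (b * b) := by rw [sq b hb, mul_one]
      _ = a * b * e * b * b := by group
      _ = b * e * b := by rw [h7]
      _ = e * b * e := h2.symm
  exact hea (mul_right_cancel (mul_right_cancel h8) ▸ Commute.refl e)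

end Cfsg.Agent.S0437
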