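import Cfsg.Statements.S0438
import Mathlib

set_option autoImplicit false
open Cfsg

namespace Cfsg.Agent.S0438


/-- Let E be a set of 3-transpositions closed under conjugation, and x an involutory automorphism of the group mapping E to itself. If some a in E fails to commute with its image x a, then x fixes an element of E. -/
theorem result {G : Type*} [Group G] {E : Set G} (hE : Cfsg.IsThreeTranspositionSet E) (hconj : ∀ g : G, ∀ d ∈ E, g * d * g⁻¹ ∈ E) (x : G ≃* G) (hx : ∀ g : G, x (x g) = g) (hxE : ∀ d ∈ E, x d ∈ E) {a : G} (ha : a ∈ E) (h : ¬ Commute a (x a)) : ∃ d ∈ E, x d = d := by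
  refine ⟨a * x a * a⁻¹, hconj a (x a) (hxE a ha), ?_⟩
  obtain ⟨h2, h3⟩ := hE
  have hai : a⁻¹ = a := inv_eq_of_mul_eq_one_right (by
    have := pow_orderOf_eq_one a; rw [h2 a ha, pow_two] at this; exact this)
  have hxi : (x a)⁻¹ = x a := inv_eq_of_mul_eq_one_right (by
    have := pow_orderOf_eq_one (x a); rw [h2 _ (hxE a ha), pow_two] at this; exact this)
  rw [hai, map_mul, map_mul, hx]
  rcases h3 a ha (x a) (hxE a ha) with h' | h'
  · exfalso; apply h
    have : (a * x a)⁻¹ = a * x a := inv_eq_of_mul_eq_one_right (by rwa [pow_two] at h')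
    rw [mul_inv_rev, hai, hxi] at this
    exact this.symm
  · have : (x a * a * x a)⁻¹ = a * x a * a := inv_eq_of_mul_eq_one_left (by
      rw [pow_succ, pow_two] at h'; simpa only [mul_assoc] using h')
    rw [mul_inv_rev, mul_inv_rev, hai, hxi] at this
    simpa only [mul_assoc] using this

end Cfsg.Agent.S0438
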