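import Cfsg.Statements.S0439
import Mathlib

set_option autoImplicit false
open Cfsg

namespace Cfsg.Agent.S0439


/-- In the symmetric group of degree n ≥ 2, the set of transpositions is a conjugacy class of 3-transpositions which generates the group. -/
theorem result (n : ℕ) (hn : 2 ≤ n) : Cfsg.IsThreeTranspositionClass {σ : Equiv.Perm (Fin n) | σ.IsSwap} := by
  obtain ⟨m, rfl⟩ : ∃ m, n = m + 2 := ⟨n - 2, by omega⟩
  refine ⟨⟨?_, ?_⟩, ⟨Equiv.swap 0 1, ?_, ?_⟩, ?_⟩
  · rintro σ ⟨x, y, hxy, rfl⟩
    rw [orderOf_eq_prime_iff]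
    refine ⟨?_, ?_⟩
    · rw [pow_two, Equiv.swap_mul_self]
    · intro h; exact hxy (Equiv.swap_eq_one_iff.1 h)
  · rintro σ ⟨x, y, hxy, rfl⟩ τ ⟨z, w, hzw, rfl⟩
    have hs : ∀ i j : Fin (m + 2), (Equiv.swap i j) ^ 2 = 1 := fun i j => by rw [pow_two, Equiv.swap_mul_self]
    by_cases h : x ≠ z ∧ x ≠ w ∧ y ≠ z ∧ y ≠ w
    · left
      have hc : Commute (Equiv.swap x y) (Equiv.swap z w) := by
        apply Equiv.Perm.Disjoint.commute
        intro i
        by_cases hi : i = x ∨ i = y
        · right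
          rcases hi with rfl | rfl
          · exact Equiv.swap_apply_of_ne_of_ne h.1 h.2.1
          · exact Equiv.swap_apply_of_ne_of_ne h.2.2.1 h.2.2.2
        · left
          push_neg at hi
          exact Equiv.swap_apply_of_ne_of_ne hi.1 hi.2
      rw [hc.mul_pow, hs, hs, one_mul]
    · have key : ∀ i j k : Fin (m + 2), i ≠ j → i ≠ k →
          (Equiv.swap i j * Equiv.swap i k) ^ 2 = 1 ∨ (Equiv.swap i j * Equiv.swap i k) ^ 3 = 1 := by
        intro i j k hij hik
        by_cases hjk : j = k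
        · subst hjk; left; rw [Equiv.swap_mul_self, one_pow]
        · right
          have hthree : (Equiv.swap i j * Equiv.swap i k).IsThreeCycle :=
            Equiv.Perm.isThreeCycle_swap_mul_swap_same hij hik hjk
          rw [← hthree.orderOf, pow_orderOf_eq_one]
      have hcase : x = z ∨ x = w ∨ y = z ∨ y = w := by tauto
      rcases hcase with rfl | rfl | rfl | rfl
      · exact key x y w hxy hzw
      · rw [Equiv.swap_comm z x]; exact key x y z hxy (Ne.symm hzw)
      · rw [Equiv.swap_comm x y]; exact key y x w (Ne.symm hxy) hzw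
      · rw [Equiv.swap_comm x y, Equiv.swap_comm z y]; exact key y x z (Ne.symm hxy) (Ne.symm hzw)
  · exact ⟨0, 1, by simp, rfl⟩
  · ext σ
    simp only [Set.mem_setOf_eq, conjugatesOf]
    constructor
    · rintro ⟨x, y, hxy, rfl⟩
      exact Equiv.Perm.isConj_swap (by simp) hxy
    · intro h
      obtain ⟨c, hc⟩ := isConj_iff.1 h
      refine ⟨c 0, c 1, fun h' => by simpa using c.injective h', ?_⟩
      rw [← hc, Equiv.mul_swap_eq_swap_mul, mul_inv_cancel_right]
  · exact Equiv.Perm.closure_isSwap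

end Cfsg.Agent.S0439
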