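import Cfsg.Statements.S0440
import Mathlib
import Cfsg.Agent.Lib.Forms.Symplectic
import Cfsg.Agent.Lib.Classical.Symplectic

set_option autoImplicit false
open Cfsg

namespace Cfsg.Agent.S0440

open Matrix Cfsg.Agent.Lib.Forms in
/-- The transvection matrix attached to a vector over the field with two elements. -/
abbrev transMat (n : ℕ) (v : Fin n ⊕ Fin n → ZMod 2) : Matrix (Fin n ⊕ Fin n) (Fin n ⊕ Fin n) (ZMod 2) :=
  Cfsg.sympTransvection n v 1

theorem zmod2_cases (x : ZMod 2) : x = 0 ∨ x = 1 := by revert x; decide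

theorem zmod2_neg (x : ZMod 2) : -x = x := by revert x; decide

open Matrix Cfsg.Agent.Lib.Forms in
theorem transMat_mulVec {n : ℕ} (v x : Fin n ⊕ Fin n → ZMod 2) :
    transMat n v *ᵥ x = x + Cfsg.sympForm n (ZMod 2) x v • v := by
  rw [sympTransvection_mulVec, one_mul]

open Matrix Cfsg.Agent.Lib.Forms in
theorem exists_form_one {n : ℕ} {v : Fin n ⊕ Fin n → ZMod 2} (hv : v ≠ 0) :
    ∃ x, Cfsg.sympForm n (ZMod 2) x v = 1 := by
  by_contra h
  push Not at h
  apply hv
  refine (sympBilin_goodForm (F := ZMod 2) (m := n)).nondeg v fun x => ?_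
  rw [sympBilin_apply, sympForm_comm, zmod2_neg]
  exact (zmod2_cases _).resolve_right (h x)

open Matrix Cfsg.Agent.Lib.Forms in
theorem rank_transMat {n : ℕ} {v : Fin n ⊕ Fin n → ZMod 2} (hv : v ≠ 0) :
    (transMat n v - 1).rank = 1 := by
  have h1 : ∀ x, (transMat n v - 1) *ᵥ x = Cfsg.sympForm n (ZMod 2) x v • v := fun x => by
    rw [sub_mulVec, one_mulVec, transMat_mulVec, add_sub_cancel_left]
  have hr : LinearMap.range (transMat n v - 1).mulVecLin = ZMod 2 ∙ v := by
    apply le_antisymm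
    · rintro _ ⟨x, rfl⟩
      rw [mulVecLin_apply, h1]
      exact Submodule.smul_mem _ _ (Submodule.mem_span_singleton_self v)
    · rw [Submodule.span_singleton_le_iff_mem]
      obtain ⟨x, hx⟩ := exists_form_one hv
      exact ⟨x, by rw [mulVecLin_apply, h1, hx, one_smul]⟩
  rw [Matrix.rank, hr, finrank_span_singleton hv]

open Matrix Cfsg.Agent.Lib.Forms in
theorem exists_eq_transMat {n : ℕ} (g : Matrix.symplecticGroup (Fin n) (ZMod 2))
    (hg : ((g : Matrix (Fin n ⊕ Fin n) (Fin n ⊕ Fin n) (ZMod 2)) - 1).rank = 1) :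
    ∃ v, v ≠ 0 ∧ g = sympTransElem v 1 := by
  set A := (g : Matrix (Fin n ⊕ Fin n) (Fin n ⊕ Fin n) (ZMod 2))
  rw [Matrix.rank, finrank_eq_one_iff'] at hg
  obtain ⟨⟨u, hu⟩, hu0, hspan⟩ := hg
  have hu0' : u ≠ 0 := fun h => hu0 (Subtype.ext h)
  have hA : ∀ x, ∃ c : ZMod 2, A *ᵥ x = x + c • u := fun x => by
    obtain ⟨c, hc⟩ := hspan ⟨(A - 1) *ᵥ x, x, rfl⟩
    refine ⟨c, ?_⟩
    have hc' : c • u = (A - 1) *ᵥ x := congrArg Subtype.val hc
    rw [hc', sub_mulVec, one_mulVec, add_sub_cancel]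
  choose a ha using hA
  have hpres := mem_symplecticGroup_iff_preserves.1 g.2
  have key : ∀ x y, a x * Cfsg.sympForm n (ZMod 2) u y + a y * Cfsg.sympForm n (ZMod 2) x u = 0 := by
    intro x y
    have h := hpres x y
    rw [ha, ha] at h
    simp only [← sympBilin_apply, map_add, map_smul, LinearMap.add_apply, LinearMap.smul_apply,
      smul_eq_mul] at h
    simp only [sympBilin_apply, sympForm_self, mul_zero, add_zero] at h
    linear_combination h
  obtain ⟨y, hy⟩ := exists_form_one hu0'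
  have hy' : Cfsg.sympForm n (ZMod 2) u y = 1 := by rw [sympForm_comm, zmod2_neg, hy]
  have haval : ∀ x, a x = a y * Cfsg.sympForm n (ZMod 2) x u := fun x => by
    have h := key x y
    rw [hy', mul_one] at h
    rw [← zmod2_neg (a y * _)]
    linear_combination h
  obtain ⟨⟨w, x₀, hx₀⟩, hw⟩ : ∃ w : LinearMap.range (A - 1).mulVecLin, w ≠ 0 := ⟨_, hu0⟩
  have hay : a y = 1 := (zmod2_cases _).resolve_left fun h0 => hw (Subtype.ext (by
    show w = 0
    rw [← hx₀, mulVecLin_apply, sub_mulVec, one_mulVec, ha, haval, h0, zero_mul, zero_smul,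
      add_zero, sub_self]))
  refine ⟨u, hu0', Subtype.ext (Matrix.ext_iff_mulVec.2 fun x => ?_)⟩
  show A *ᵥ x = transMat n u *ᵥ x
  rw [ha, transMat_mulVec, haval, hay, one_mul]

open Matrix Cfsg.Agent.Lib.Forms in
theorem conj_transElem {n : ℕ} (g : Matrix.symplecticGroup (Fin n) (ZMod 2))
    (v : Fin n ⊕ Fin n → ZMod 2) :
    g * sympTransElem v 1 * g⁻¹ =
      sympTransElem ((g : Matrix (Fin n ⊕ Fin n) (Fin n ⊕ Fin n) (ZMod 2)) *ᵥ v) 1 := by
  rw [mul_inv_eq_iff_eq_mul]
  refine Subtype.ext (Matrix.ext_iff_mulVec.2 fun x => ?_)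
  show ((g : Matrix (Fin n ⊕ Fin n) (Fin n ⊕ Fin n) (ZMod 2)) * transMat n v) *ᵥ x =
    (transMat n _ * (g : Matrix (Fin n ⊕ Fin n) (Fin n ⊕ Fin n) (ZMod 2))) *ᵥ x
  rw [← mulVec_mulVec, ← mulVec_mulVec, transMat_mulVec, transMat_mulVec,
    mem_symplecticGroup_iff_preserves.1 g.2, mulVec_add, mulVec_smul]

open Matrix Cfsg.Agent.Lib.Forms in
theorem transElem_mul_self {n : ℕ} (v : Fin n ⊕ Fin n → ZMod 2) :
    sympTransElem v (1 : ZMod 2) * sympTransElem v 1 = 1 := by
  apply Subtype.ext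
  show transMat n v * transMat n v = 1
  rw [sympTransvection_mul, show (1 : ZMod 2) + 1 = 0 from by decide]
  simp [Cfsg.sympTransvection]

open Matrix Cfsg.Agent.Lib.Forms in
theorem main (n : ℕ) (_hn : 1 ≤ n) :
    Cfsg.IsThreeTranspositionClass {g : Matrix.symplecticGroup (Fin n) (ZMod 2) |
      ((g : Matrix (Fin n ⊕ Fin n) (Fin n ⊕ Fin n) (ZMod 2)) - 1).rank = 1} := by
  have hmem : ∀ v : Fin n ⊕ Fin n → ZMod 2, v ≠ 0 → sympTransElem v 1 ∈
      {g : Matrix.symplecticGroup (Fin n) (ZMod 2) |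
        ((g : Matrix (Fin n ⊕ Fin n) (Fin n ⊕ Fin n) (ZMod 2)) - 1).rank = 1} :=
    fun v hv => rank_transMat hv
  refine ⟨⟨?_, ?_⟩, ?_, ?_⟩
  · intro g hg
    obtain ⟨v, hv, rfl⟩ := exists_eq_transMat g hg
    rw [orderOf_eq_prime_iff]
    refine ⟨by rw [pow_two]; exact transElem_mul_self v, fun h => ?_⟩
    have h1 := rank_transMat hv
    rw [show transMat n v = 1 from congrArg Subtype.val h, sub_self, Matrix.rank_zero] at h1
    exact zero_ne_one h1
  · intro g hg g' hg'
    obtain ⟨v, -, rfl⟩ := exists_eq_transMat g hg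
    obtain ⟨w, -, rfl⟩ := exists_eq_transMat g' hg'
    set a := sympTransElem v (1 : ZMod 2)
    set b := sympTransElem w (1 : ZMod 2)
    have haa : a * a = 1 := transElem_mul_self v
    have hbb : b * b = 1 := transElem_mul_self w
    have hai : a⁻¹ = a := inv_eq_of_mul_eq_one_right haa
    have hbi : b⁻¹ = b := inv_eq_of_mul_eq_one_right hbb
    have h1 : a * b * a⁻¹ = sympTransElem ((a : Matrix (Fin n ⊕ Fin n) (Fin n ⊕ Fin n) (ZMod 2)) *ᵥ w) 1 :=
      conj_transElem a w
    have h2 : b * a * b⁻¹ = sympTransElem ((b : Matrix (Fin n ⊕ Fin n) (Fin n ⊕ Fin n) (ZMod 2)) *ᵥ v) 1 :=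
      conj_transElem b v
    have e1 : (a : Matrix (Fin n ⊕ Fin n) (Fin n ⊕ Fin n) (ZMod 2)) *ᵥ w =
        w + Cfsg.sympForm n (ZMod 2) w v • v := transMat_mulVec v w
    have e2 : (b : Matrix (Fin n ⊕ Fin n) (Fin n ⊕ Fin n) (ZMod 2)) *ᵥ v =
        v + Cfsg.sympForm n (ZMod 2) v w • w := transMat_mulVec w v
    rw [hai, e1] at h1
    rw [hbi, e2, sympForm_comm v w, zmod2_neg] at h2
    rcases zmod2_cases (Cfsg.sympForm n (ZMod 2) w v) with h | h
    · left
      rw [h, zero_smul, add_zero] at h1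
      calc (a * b) ^ 2 = (a * b * a) * b := by rw [pow_two]; group
        _ = b * b := by rw [h1]
        _ = 1 := hbb
    · right
      rw [h, one_smul] at h1 h2
      rw [add_comm] at h2
      calc (a * b) ^ 3 = (a * b * a) * (b * a * b) := by rw [pow_succ, pow_two]; group
        _ = 1 := by rw [h1, h2]; exact transElem_mul_self _
  · have hne : (Pi.single (Sum.inl ⟨0, _hn⟩) 1 : Fin n ⊕ Fin n → ZMod 2) ≠ 0 := by simp
    set v₀ : Fin n ⊕ Fin n → ZMod 2 := Pi.single (Sum.inl ⟨0, _hn⟩) 1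
    refine ⟨sympTransElem v₀ 1, hmem v₀ hne, ?_⟩
    ext g
    constructor
    · intro hg
      obtain ⟨v, hv, rfl⟩ := exists_eq_transMat g hg
      obtain ⟨k, hk⟩ := Cfsg.Agent.Lib.Classical.sympIso_transitive (F := ZMod 2) n v₀ v hne hv
      exact isConj_iff.2 ⟨k, by rw [conj_transElem, hk]⟩
    · intro hg
      obtain ⟨k, rfl⟩ := isConj_iff.1 hg
      rw [conj_transElem]
      refine hmem _ fun h => hne ?_
      have h' := congrArg (fun x => ((k⁻¹ : Matrix.symplecticGroup (Fin n) (ZMod 2)) :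
        Matrix (Fin n ⊕ Fin n) (Fin n ⊕ Fin n) (ZMod 2)) *ᵥ x) h
      simp only [mulVec_mulVec, mulVec_zero] at h'
      rwa [← Submonoid.coe_mul, inv_mul_cancel, OneMemClass.coe_one, one_mulVec] at h'
  · rw [eq_top_iff, ← closure_sympTransSet_eq_top (F := ZMod 2) (m := n), Subgroup.closure_le]
    rintro g ⟨w, c, hg⟩
    have hg' : g = sympTransElem w c := Subtype.ext hg
    by_cases hw : w = 0
    · have : g = 1 := Subtype.ext (by rw [hg, hw]; simp [Cfsg.sympTransvection])
      rw [this]; exact one_mem _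
    rcases zmod2_cases c with rfl | rfl
    · have : g = 1 := Subtype.ext (by rw [hg]; simp [Cfsg.sympTransvection])
      rw [this]; exact one_mem _
    · rw [hg']
      exact Subgroup.subset_closure (hmem w hw)

/-- In the symplectic group in dimension 2n ≥ 2 over the field with two elements, the elements g for which g - 1 has rank one (the symplectic transvections) form a conjugacy class of 3-transpositions generating the group. -/
theorem result (n : ℕ) (hn : 1 ≤ n) : Cfsg.IsThreeTranspositionClass {g : Matrix.symplecticGroup (Fin n) (ZMod 2) | ((g : Matrix (Fin n ⊕ Fin n) (Fin n ⊕ Fin n) (ZMod 2)) - 1).rank = 1} := by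
  exact Cfsg.Agent.S0440.main n hn

end Cfsg.Agent.S0440
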