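import Cfsg.Statements.S0442
import Mathlib

set_option autoImplicit false
open Cfsg

namespace Cfsg.Agent.S0442


/-- A standard trick for producing elements of an involution centraliser: for an involution a and an element g, let b be the conjugate g⁻¹ * a * g. If a * b has odd order 2m + 1 then g * (a * b) ^ m commutes with a; if a * b has even order 2m then (a * b) ^ m and (a * (g * a * g⁻¹)) ^ m commute with a. -/
theorem result {G : Type*} [Group G] (a g : G) (ha : orderOf a = 2) : (∀ m : ℕ, orderOf (a * (g⁻¹ * a * g)) = 2 * m + 1 → Commute (g * (a * (g⁻¹ * a * g)) ^ m) a) ∧ (∀ m : ℕ, orderOf (a * (g⁻¹ * a * g)) = 2 * m → Commute ((a * (g⁻¹ * a * g)) ^ m) a ∧ Commute ((a * (g * a * g⁻¹)) ^ m) a) := by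
  have ha2 : a * a = 1 := by
    have := pow_orderOf_eq_one a; rw [ha, pow_two] at this; exact this
  have hai : a⁻¹ = a := inv_eq_of_mul_eq_one_right ha2
  have key : ∀ b : G, b * b = 1 → ∀ k : ℕ, a * (a * b) ^ k * a = ((a * b) ^ k)⁻¹ := by
    intro b hb k
    have hbi : b⁻¹ = b := inv_eq_of_mul_eq_one_right hb
    have : a * (a * b) * a⁻¹ = (a * b)⁻¹ := by
      rw [mul_inv_rev, hbi, hai, ← mul_assoc a a b, ha2, one_mul]
    conv_lhs => rw [show a * (a * b) ^ k * a = a * (a * b) ^ k * a⁻¹ by rw [hai]]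
    rw [← conj_pow, this, inv_pow]
  have hconj : ∀ h : G, h * a * h⁻¹ * (h * a * h⁻¹) = 1 := fun h => by
    calc h * a * h⁻¹ * (h * a * h⁻¹) = h * (a * a) * h⁻¹ := by group
      _ = 1 := by rw [ha2]; group
  have hb : g⁻¹ * a * g * (g⁻¹ * a * g) = 1 := by simpa using hconj g⁻¹
  constructor
  · intro m hm
    have h1 := key _ hb m
    have hp : (a * (g⁻¹ * a * g)) ^ m * (a * (g⁻¹ * a * g)) ^ m * (a * (g⁻¹ * a * g)) = 1 := by
      rw [← pow_add, ← pow_succ, show m + m + 1 = 2 * m + 1 by omega, ← hm, pow_orderOf_eq_one]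
    generalize hu : (a * (g⁻¹ * a * g)) ^ m = u at h1 hp ⊢
    have h2 : u * a = a * u⁻¹ := by
      calc u * a = (a * a) * u * a := by rw [ha2, one_mul]
        _ = a * (a * u * a) := by group
        _ = a * u⁻¹ := by rw [h1]
    have h3 : a * (g⁻¹ * a * g) = u⁻¹ * u⁻¹ := by
      calc a * (g⁻¹ * a * g) = u⁻¹ * u⁻¹ * (u * u * (a * (g⁻¹ * a * g))) := by group
        _ = _ := by rw [hp, mul_one]
    have h4 : g⁻¹ * a * g = a * u⁻¹ * u⁻¹ := by
      calc g⁻¹ * a * g = a * a * (g⁻¹ * a * g) := by rw [ha2, one_mul]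
        _ = _ := by rw [mul_assoc a a, h3, mul_assoc]
    -- g u a = g a u⁻¹ = a g u
    show g * u * a = a * (g * u)
    calc g * u * a = g * (u * a) := by group
      _ = g * (a * u⁻¹ * u⁻¹) * u := by rw [h2]; group
      _ = g * (g⁻¹ * a * g) * u := by rw [h4]
      _ = a * (g * u) := by group
  · intro m hm
    have main : ∀ b : G, b * b = 1 → (a * b) ^ (2 * m) = 1 → Commute ((a * b) ^ m) a := by
      intro b hb hbm
      have h1 := key b hb m
      have h2 : ((a * b) ^ m)⁻¹ = (a * b) ^ m := inv_eq_of_mul_eq_one_right (by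
        rw [← pow_add, ← two_mul, hbm])
      rw [h2] at h1
      show (a * b) ^ m * a = a * (a * b) ^ m
      calc (a * b) ^ m * a = (a * a) * ((a * b) ^ m * a) := by rw [ha2, one_mul]
        _ = a * (a * (a * b) ^ m * a) := by group
        _ = _ := by rw [h1]
    refine ⟨main _ hb (by rw [← hm, pow_orderOf_eq_one]), main _ (hconj g) ?_⟩
    have : a * (g * a * g⁻¹) = g * ((a * (g⁻¹ * a * g)))⁻¹ * g⁻¹ := by
      rw [mul_inv_rev, mul_inv_rev, mul_inv_rev, inv_inv, hai]; group
    rw [this, conj_pow, inv_pow, ← hm, pow_orderOf_eq_one, inv_one, mul_one, mul_inv_cancel]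

end Cfsg.Agent.S0442
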