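import Cfsg.Statements.S0443
import Mathlib

set_option autoImplicit false
open Cfsg

namespace Cfsg.Agent.S0443


/-- Two definitions of a 2-central involution agree: an element t of order 2 of a finite group lies in the centre of some Sylow 2-subgroup if and only if its centraliser contains some Sylow 2-subgroup. -/
theorem result {G : Type*} [Group G] [Finite G] (t : G) (ht : orderOf t = 2) : Cfsg.IsTwoCentralInvolution t ↔ ∃ P : Sylow 2 G, (P : Subgroup G) ≤ Subgroup.centralizer ({t} : Set G) := by
  constructor
  · rintro ⟨-, P, -, hP⟩
    refine ⟨P, fun x hx => ?_⟩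
    rw [Subgroup.mem_centralizer_singleton_iff]
    exact hP x hx
  · rintro ⟨P, hP⟩
    refine ⟨ht, P, ?_, fun x hx => ?_⟩
    · have hcomm : ∀ x ∈ (P : Subgroup G), x * t = t * x := fun x hx =>
        Subgroup.mem_centralizer_singleton_iff.1 (hP hx)
      have hn : Subgroup.zpowers t ≤ Subgroup.normalizer ((P : Subgroup G) : Set G) := by
        rw [Subgroup.zpowers_le, Subgroup.mem_normalizer_iff]
        intro h
        constructor
        · intro hh; rwa [← hcomm h hh, mul_inv_cancel_right]
        · intro hh
          have h1 := hcomm _ hh
          have : t * h * t⁻¹ = h := by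
            have h2 : t * h = t * (t * h * t⁻¹) := by
              rw [← h1]; group
            exact (mul_left_cancel h2).symm
          rwa [this] at hh
      have h2 : IsPGroup 2 (Subgroup.zpowers t) :=
        IsPGroup.of_card (n := 1) (by rw [Nat.card_zpowers, ht, pow_one])
      have := P.2.to_sup_of_normal_left' h2 hn |> fun h => P.3 h le_sup_left
      show t ∈ (P : Subgroup G)
      rw [← this]
      exact Subgroup.mem_sup_right (Subgroup.mem_zpowers t)
    · exact Subgroup.mem_centralizer_singleton_iff.1 (hP hx)

end Cfsg.Agent.S0443
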