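import Cfsg.Statements.S0445
import Mathlib

set_option autoImplicit false
open Cfsg

namespace Cfsg.Agent.S0445

open Matrix in
/-- The matrices commuting with the transvection `1 + E₀₁`, in block form. -/
def block (r : Fin 4 → ZMod 2) (c : Fin 3 → ZMod 2) (B : Matrix (Fin 3) (Fin 3) (ZMod 2)) :
    Matrix (Fin 5) (Fin 5) (ZMod 2) :=
  !![1, r 0, r 1, r 2, r 3;
     0, 1, 0, 0, 0;
     0, c 0, B 0 0, B 0 1, B 0 2;
     0, c 1, B 1 0, B 1 1, B 1 2;
     0, c 2, B 2 0, B 2 1, B 2 2]

theorem det_block (r : Fin 4 → ZMod 2) (c : Fin 3 → ZMod 2) (B : Matrix (Fin 3) (Fin 3) (ZMod 2)) :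
    (block r c B).det = B.det := by
  simp [block, Matrix.det_succ_column_zero, Matrix.det_succ_row_zero, Fin.sum_univ_succ,
    Matrix.submatrix, Fin.succAbove]
  try ring

theorem commute_iff (A : Matrix (Fin 5) (Fin 5) (ZMod 2)) :
    A * Matrix.transvection 0 1 1 = Matrix.transvection 0 1 1 * A ↔
      (∀ k, k ≠ 0 → A k 0 = 0) ∧ (∀ l, l ≠ 1 → A 1 l = 0) ∧ A 0 0 = A 1 1 := by
  simp only [Matrix.transvection, mul_add, add_mul, mul_one, one_mul, add_right_inj]
  constructor
  · intro h
    refine ⟨fun k hk => ?_, fun l hl => ?_, ?_⟩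
    · have := congrFun (congrFun h k) 1
      rw [Matrix.mul_single_apply_same, Matrix.single_mul_apply_of_ne _ _ _ _ _ hk] at this
      simpa using this
    · have := congrFun (congrFun h 0) l
      rw [Matrix.single_mul_apply_same, Matrix.mul_single_apply_of_ne _ _ _ _ _ hl] at this
      simpa using this.symm
    · have := congrFun (congrFun h 0) 1
      rw [Matrix.single_mul_apply_same, Matrix.mul_single_apply_same] at this
      simpa using this
  · rintro ⟨h1, h2, h3⟩
    ext k l
    by_cases hk : k = 0 <;> by_cases hl : l = 1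
    · subst hk hl; rw [Matrix.single_mul_apply_same, Matrix.mul_single_apply_same]; simp [h3]
    · subst hk; rw [Matrix.single_mul_apply_same, Matrix.mul_single_apply_of_ne _ _ _ _ _ hl, h2 l hl]; simp
    · subst hl; rw [Matrix.single_mul_apply_of_ne _ _ _ _ _ hk, Matrix.mul_single_apply_same, h1 k hk]; simp
    · rw [Matrix.single_mul_apply_of_ne _ _ _ _ _ hk, Matrix.mul_single_apply_of_ne _ _ _ _ _ hl]

theorem zmod2_eq_one (x : ZMod 2) (h : x ≠ 0) : x = 1 := by
  revert x; decide

theorem eq_block (A : Matrix (Fin 5) (Fin 5) (ZMod 2)) (hA : A.det = 1)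
    (h : A * Matrix.transvection 0 1 1 = Matrix.transvection 0 1 1 * A) :
    A = block (fun i => A 0 i.succ) (fun i => A i.succ.succ 1)
      (Matrix.of fun i j => A i.succ.succ j.succ.succ) := by
  obtain ⟨h1, h2, h3⟩ := (commute_iff A).1 h
  have h0 : A 0 0 = 1 := zmod2_eq_one _ fun h0 => by
    rw [Matrix.det_eq_zero_of_column_eq_zero 0 (fun k => by by_cases hk : k = 0 <;> simp_all)] at hA
    exact zero_ne_one hA
  ext i j
  fin_cases i <;> fin_cases j <;> simp [block] <;>
    first
      | rfl
      | exact h0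
      | exact h3.symm.trans h0
      | exact h1 _ (by decide)
      | exact h2 _ (by decide)

/-- In the special linear group of dimension 5 over the field with two elements, the centraliser of a transvection has order 21504 = 2 ^ 7 · 168 (it is an extension of an extraspecial group of order 2 ^ 7 by the simple group of order 168). -/
theorem result (s : Matrix.SpecialLinearGroup (Fin 5) (ZMod 2)) (hs : (s : Matrix (Fin 5) (Fin 5) (ZMod 2)) = Matrix.transvection 0 1 1) : Nat.card (Subgroup.centralizer ({s} : Set (Matrix.SpecialLinearGroup (Fin 5) (ZMod 2)))) = 21504 := by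
  have hmem : ∀ g : Matrix.SpecialLinearGroup (Fin 5) (ZMod 2), g ∈ Subgroup.centralizer ({s} : Set _) ↔
      (g : Matrix (Fin 5) (Fin 5) (ZMod 2)) * Matrix.transvection 0 1 1 =
        Matrix.transvection 0 1 1 * (g : Matrix (Fin 5) (Fin 5) (ZMod 2)) := fun g => by
    rw [Subgroup.mem_centralizer_singleton_iff, ← hs]
    constructor
    · intro h; exact congrArg Subtype.val h
    · intro h; exact Subtype.ext h
  let e : Subgroup.centralizer ({s} : Set (Matrix.SpecialLinearGroup (Fin 5) (ZMod 2))) ≃
      (Fin 4 → ZMod 2) × (Fin 3 → ZMod 2) × GL (Fin 3) (ZMod 2) :=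
    { toFun := fun g => (fun i => g.1.1 0 i.succ, fun i => g.1.1 i.succ.succ 1,
        Matrix.GeneralLinearGroup.mkOfDetNeZero (Matrix.of fun i j => g.1.1 i.succ.succ j.succ.succ) (by
          have h := eq_block g.1.1 g.1.2 ((hmem g.1).1 g.2)
          rw [← det_block (fun i => g.1.1 0 i.succ) (fun i => g.1.1 i.succ.succ 1), ← h, g.1.2]
          exact one_ne_zero))
      invFun := fun x => ⟨⟨block x.1 x.2.1 x.2.2.1, by
          rw [det_block]
          exact zmod2_eq_one _ (Matrix.GeneralLinearGroup.det x.2.2).ne_zero⟩, (hmem _).2 (by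
          refine (commute_iff _).2 ⟨?_, ?_, ?_⟩
          · intro k hk; fin_cases k <;> simp_all [block]
          · intro l hl; fin_cases l <;> simp_all [block]
          · simp [block])⟩
      left_inv := fun g => Subtype.ext (Subtype.ext (eq_block g.1.1 g.1.2 ((hmem g.1).1 g.2)).symm)
      right_inv := fun x => by
        refine Prod.ext ?_ (Prod.ext ?_ ?_)
        · funext i; fin_cases i <;> rfl
        · funext i; fin_cases i <;> rfl
        · apply Units.ext
          ext i j
          fin_cases i <;> fin_cases j <;> rfl }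
  rw [Nat.card_congr e, Nat.card_prod, Nat.card_prod, Matrix.card_GL_field]
  simp [Fin.prod_univ_succ]

end Cfsg.Agent.S0445
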