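import Cfsg.Statements.S0446
import Mathlib

set_option autoImplicit false
open Cfsg

namespace Cfsg.Agent.S0446


/-- Every finite group of even order contains a 2-central involution, i.e. an element of order 2 in the centre of some Sylow 2-subgroup. -/
theorem result {G : Type*} [Group G] [Finite G] (h : Even (Nat.card G)) : ∃ t : G, Cfsg.IsTwoCentralInvolution t := by
  have : Fact (Nat.Prime 2) := ⟨Nat.prime_two⟩
  obtain ⟨P⟩ : Nonempty (Sylow 2 G) := inferInstance
  have hP : Nontrivial (P : Subgroup G) := by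
    have h1 : 2 ^ 1 ∣ Nat.card G := by rw [pow_one]; exact even_iff_two_dvd.1 h
    have := P.pow_dvd_card_of_pow_dvd_card h1
    apply Finite.one_lt_card_iff_nontrivial.1
    exact lt_of_lt_of_le (by norm_num) (Nat.le_of_dvd Nat.card_pos this)
  have hZ : Nontrivial (Subgroup.center (P : Subgroup G)) := P.2.center_nontrivial
  have h2 : 2 ∣ Nat.card (Subgroup.center (P : Subgroup G)) := by
    obtain ⟨n, hn⟩ := IsPGroup.iff_card.1 (P.2.to_subgroup (Subgroup.center _))
    rw [hn]
    refine dvd_pow_self 2 ?_
    rintro rfl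
    have := Finite.one_lt_card_iff_nontrivial.2 hZ
    rw [hn] at this; simp at this
  obtain ⟨z, hz⟩ := exists_prime_orderOf_dvd_card' 2 h2
  refine ⟨((z : (P : Subgroup G)) : G), ?_, P, (z : (P : Subgroup G)).2, fun x hx => ?_⟩
  · rw [Subgroup.orderOf_coe, Subgroup.orderOf_coe, hz]
  · have := Subgroup.mem_center_iff.1 z.2 ⟨x, hx⟩
    exact congrArg Subtype.val this

end Cfsg.Agent.S0446
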