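import Cfsg.Statements.S0447
import Mathlib
import Cfsg.Agent.Lib.Spin.Cover
import Cfsg.Agent.Lib.Gaschutz
import Cfsg.Agent.Lib.SmallGroups.Basic
import Cfsg.Agent.Lib.TwoGroup.Recognition

set_option autoImplicit false
open Cfsg

namespace Cfsg.Agent.S0447

open Equiv

/-- A small alternating group has a dihedral Sylow frame given by two involutions. -/
theorem exists_frame (n : ℕ) (h4 : 4 ≤ n) (h7 : n ≤ 7) :
    ∃ (s t : alternatingGroup (Fin n)) (m k : ℕ), (m = 2 ∨ m = 4) ∧ s ^ 2 = 1 ∧ t ^ 2 = 1 ∧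
      s ≠ 1 ∧ t ≠ 1 ∧ orderOf (s * t) = m ∧ s ∉ Subgroup.zpowers (s * t) ∧ Odd k ∧
      Nat.card (alternatingGroup (Fin n)) = 2 * m * k := by
  haveI : Fact (Nat.Prime 2) := ⟨Nat.prime_two⟩
  have hcard : ∀ n : ℕ, 2 ≤ n → Nat.card (alternatingGroup (Fin n)) = n.factorial / 2 := by
    intro n hn
    haveI : Nontrivial (Fin n) := Fin.nontrivial_iff_two_le.mpr hn
    rw [nat_card_alternatingGroup, Nat.card_eq_fintype_card, Fintype.card_fin]
  interval_cases n
  · refine ⟨⟨swap 0 1 * swap 2 3, by rw [Perm.mem_alternatingGroup]; decide⟩, ⟨swap 0 2 * swap 1 3, by rw [Perm.mem_alternatingGroup]; decide⟩, 2, 3, Or.inl rfl,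
      by decide, by decide, by decide, by decide, ?_, ?_, by decide,
      by rw [hcard 4 (by norm_num)]; decide⟩
    · exact orderOf_eq_prime (by decide) (by decide)
    · rw [mem_zpowers_iff_mem_range_orderOf, orderOf_eq_prime (p := 2) (by decide) (by decide)]
      decide
  · refine ⟨⟨swap 0 1 * swap 2 3, by rw [Perm.mem_alternatingGroup]; decide⟩, ⟨swap 0 2 * swap 1 3, by rw [Perm.mem_alternatingGroup]; decide⟩, 2, 15, Or.inl rfl,
      by decide, by decide, by decide, by decide, ?_, ?_, by decide,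
      by rw [hcard 5 (by norm_num)]; decide⟩
    · exact orderOf_eq_prime (by decide) (by decide)
    · rw [mem_zpowers_iff_mem_range_orderOf, orderOf_eq_prime (p := 2) (by decide) (by decide)]
      decide
  · refine ⟨⟨swap 0 1 * swap 2 3, by rw [Perm.mem_alternatingGroup]; decide⟩, ⟨swap 0 2 * swap 4 5, by rw [Perm.mem_alternatingGroup]; decide⟩, 4, 45, Or.inr rfl,
      by decide, by decide, by decide, by decide, ?_, ?_, by decide,
      by rw [hcard 6 (by norm_num)]; decide⟩
    · exact (orderOf_eq_prime_pow (p := 2) (n := 1) (by decide) (by decide)).trans (by norm_num)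
    · rw [mem_zpowers_iff_mem_range_orderOf,
        orderOf_eq_prime_pow (p := 2) (n := 1) (by decide) (by decide)]
      decide
  · refine ⟨⟨swap 0 1 * swap 2 3, by rw [Perm.mem_alternatingGroup]; decide⟩, ⟨swap 0 2 * swap 4 5, by rw [Perm.mem_alternatingGroup]; decide⟩, 4, 315, Or.inr rfl,
      by decide, by decide, by decide, by decide, ?_, ?_, by decide,
      by rw [hcard 7 (by norm_num)]; decide⟩
    · exact (orderOf_eq_prime_pow (p := 2) (n := 1) (by decide) (by decide)).trans (by norm_num)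
    · rw [mem_zpowers_iff_mem_range_orderOf,
        orderOf_eq_prime_pow (p := 2) (n := 1) (by decide) (by decide)]
      decide

/-- An involution of an alternating group of degree at most 7 has cycle type `2,2`. -/
theorem cycleType_involution {n : ℕ} (h7 : n ≤ 7) {σ : Perm (Fin n)}
    (hev : σ ∈ alternatingGroup (Fin n)) (h1 : σ ≠ 1) (h2 : σ ^ 2 = 1) :
    σ.cycleType = {2, 2} := by
  haveI : Fact (Nat.Prime 2) := ⟨Nat.prime_two⟩
  have ho : orderOf σ = 2 := orderOf_eq_prime h2 h1
  obtain ⟨k, hk⟩ := Perm.cycleType_prime_order (σ := σ) (by rw [ho]; exact Nat.prime_two)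
  rw [ho] at hk
  have hsum : σ.cycleType.sum ≤ n := by
    rw [Perm.sum_cycleType]
    exact (Finset.card_le_univ _).trans_eq (Fintype.card_fin n)
  rw [hk, Multiset.sum_replicate, smul_eq_mul] at hsum
  have hsign : Perm.sign σ = 1 := Perm.mem_alternatingGroup.mp hev
  rw [Perm.sign_of_cycleType, hk, Multiset.sum_replicate, Multiset.card_replicate, smul_eq_mul] at hsign
  have : k ≤ 2 := by omega
  interval_cases k
  · exact absurd hsign (by decide)
  · exact hk
  · exact absurd hsign (by decide)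

/-- Involutions of an alternating group of degree at most 7 are conjugate inside it. -/
theorem exists_conj_involution {n : ℕ} (h7 : n ≤ 7) {s w : alternatingGroup (Fin n)} (hs : s ≠ 1)
    (hs2 : s ^ 2 = 1) (hw : w ≠ 1) (hw2 : w ^ 2 = 1) : ∃ g : alternatingGroup (Fin n),
      g * s * g⁻¹ = w := by
  have hval : ∀ u : alternatingGroup (Fin n), u ≠ 1 → u ^ 2 = 1 →
      (u : Perm (Fin n)).cycleType = {2, 2} := fun u hu hu2 =>
    cycleType_involution h7 u.2 (fun h => hu (Subtype.ext h)) (congrArg Subtype.val hu2)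
  obtain ⟨c, hc⟩ := isConj_iff.mp
    (Perm.isConj_iff_cycleType_eq.mpr ((hval s hs hs2).trans (hval w hw hw2).symm))
  rcases Int.units_eq_one_or (Perm.sign c) with h | h
  · exact ⟨⟨c, Perm.mem_alternatingGroup.mpr h⟩, Subtype.ext hc⟩
  · obtain ⟨a, ha⟩ : ∃ a, (s : Perm (Fin n)) a ≠ a := by
      by_contra hall
      push Not at hall
      exact hs (Subtype.ext (Perm.ext hall))
    set τ := swap a ((s : Perm (Fin n)) a) with hτ
    have hss : (s : Perm (Fin n)) * s = 1 := by
      rw [← pow_two]; exact congrArg Subtype.val hs2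
    have hcomm : τ * (s : Perm (Fin n)) * τ⁻¹ = s := by
      have h1 : (s : Perm (Fin n)) * τ = τ * s := by
        rw [hτ, Equiv.mul_swap_eq_swap_mul, show (s : Perm (Fin n)) ((s : Perm (Fin n)) a) = a from
          congrArg (fun f : Perm (Fin n) => f a) hss, swap_comm]
      rw [← h1, mul_inv_cancel_right]
    refine ⟨⟨c * τ, Perm.mem_alternatingGroup.mpr ?_⟩, Subtype.ext ?_⟩
    · rw [map_mul, h, hτ, Perm.sign_swap ha.symm]; rfl
    · show c * τ * (s : Perm (Fin n)) * (c * τ)⁻¹ = w
      rw [show c * τ * (s : Perm (Fin n)) * (c * τ)⁻¹ = c * (τ * s * τ⁻¹) * c⁻¹ by group, hcomm, hc]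

/-- Part one. -/
theorem unique_involution (n : ℕ) (H : Type) [Group H] [Finite H] (hn : n ≤ 7)
    (hd : Cfsg.IsNonsplitDoubleCover H (alternatingGroup (Fin n))) :
    ∀ x y : H, orderOf x = 2 → orderOf y = 2 → x = y := by
  obtain ⟨hc2, ⟨e⟩, hns⟩ := hd
  set Z := Subgroup.center H
  set φ : H →* alternatingGroup (Fin n) := e.toMonoidHom.comp (QuotientGroup.mk' Z) with hφdef
  have hφ : Function.Surjective φ := e.surjective.comp (QuotientGroup.mk'_surjective Z)
  have hker : φ.ker = Z := by
    ext g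
    simp [hφdef, MonoidHom.mem_ker, QuotientGroup.eq_one_iff]
  suffices hcen : ∀ x : H, orderOf x = 2 → x ∈ Z by
    intro x y hx hy
    obtain ⟨u, v, huv, huniv⟩ := Nat.card_eq_two_iff.mp hc2
    have key : ∀ a b c : Z, a ≠ c → b ≠ c → a = b := by
      have hall : ∀ a : Z, a = u ∨ a = v := fun a => by
        have := (huniv ▸ Set.mem_univ a : a ∈ ({u, v} : Set Z))
        simpa using this
      intro a b c hac hbc
      rcases hall a with rfl | rfl <;> rcases hall b with rfl | rfl <;> rcases hall c with rfl | rfl <;>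
        first | rfl | exact absurd rfl hac | exact absurd rfl hbc
    have hne : ∀ {x : H}, orderOf x = 2 → x ≠ 1 := fun hx h => by simp [h] at hx
    exact congrArg Subtype.val (key ⟨x, hcen x hx⟩ ⟨y, hcen y hy⟩ 1
      (fun h => hne hx (congrArg Subtype.val h)) (fun h => hne hy (congrArg Subtype.val h)))
  intro x hx
  have hx2 : x * x = 1 := by rw [← pow_two, ← hx, pow_orderOf_eq_one]
  rw [← hker, MonoidHom.mem_ker]
  by_contra hs0
  have hs02 : φ x ^ 2 = 1 := by rw [pow_two, ← map_mul, hx2, map_one]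
  rcases Nat.lt_or_ge n 4 with hlt | h4
  · have hodd : ¬ 2 ∣ Nat.card (alternatingGroup (Fin n)) := by
      rcases Nat.lt_or_ge n 2 with h | h
      · haveI : Subsingleton (Fin n) := Fin.subsingleton_iff_le_one.mpr (by omega)
        rw [Nat.card_unique]
        norm_num
      · haveI : Nontrivial (Fin n) := Fin.nontrivial_iff_two_le.mpr h
        rw [nat_card_alternatingGroup, Nat.card_eq_fintype_card, Fintype.card_fin]
        interval_cases n <;> decide
    apply hodd
    rw [← orderOf_eq_prime hs02 hs0]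
    exact orderOf_dvd_natCard _
  -- every lift of an involution is an involution
  have hlift : ∀ u : H, φ u ≠ 1 → φ u ^ 2 = 1 → u * u = 1 := by
    intro u hu hu2
    obtain ⟨g, hg⟩ := exists_conj_involution hn hs0 hs02 hu hu2
    obtain ⟨g, rfl⟩ := hφ g
    obtain ⟨z, hz, huz⟩ : ∃ z ∈ Z, u = z * (g * x * g⁻¹) := by
      refine ⟨u * (g * x * g⁻¹)⁻¹, ?_, by group⟩
      rw [← hker, MonoidHom.mem_ker, map_mul, map_inv, map_mul, map_mul, map_inv, hg, mul_inv_cancel]
    have hzz : z * z = 1 := by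
      have h : (⟨z, hz⟩ : Z) ^ Nat.card Z = 1 := pow_card_eq_one'
      rw [hc2] at h
      rw [← pow_two]
      exact congrArg Subtype.val h
    rw [huz, show z * (g * x * g⁻¹) * (z * (g * x * g⁻¹)) =
      z * ((g * x * g⁻¹) * z) * (g * x * g⁻¹) by group,
      Subgroup.mem_center_iff.mp hz (g * x * g⁻¹),
      show z * (z * (g * x * g⁻¹)) * (g * x * g⁻¹) = z * z * (g * (x * x) * g⁻¹) by group, hzz, hx2]
    group
  obtain ⟨s, t, m, k, hm, hs2, ht2, hs1, ht1, hst, hsmem, hk, hcard⟩ := exists_frame n h4 hn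
  obtain ⟨a, rfl⟩ := hφ s
  obtain ⟨b, rfl⟩ := hφ t
  have ha := hlift a hs1 hs2
  have hb := hlift b ht1 ht2
  set r := a * b with hr
  have hφr : φ r = φ a * φ b := map_mul φ a b
  have hrm : r ^ m = 1 := by
    have hhalf : φ (r ^ (m / 2)) ≠ 1 ∧ φ (r ^ (m / 2)) ^ 2 = 1 := by
      rw [map_pow, hφr, ← hst]
      rcases hm with h | h <;> rw [hst, h]
      · refine ⟨pow_ne_one_of_lt_orderOf (by norm_num) (by rw [hst, h]; norm_num), ?_⟩
        rw [← pow_mul, show 2 / 2 * 2 = orderOf (φ a * φ b) by rw [hst, h], pow_orderOf_eq_one]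
      · refine ⟨pow_ne_one_of_lt_orderOf (by norm_num) (by rw [hst, h]; norm_num), ?_⟩
        rw [← pow_mul, show 4 / 2 * 2 = orderOf (φ a * φ b) by rw [hst, h], pow_orderOf_eq_one]
    have h := hlift _ hhalf.1 hhalf.2
    rw [← pow_add] at h
    rcases hm with h' | h' <;> subst h' <;> exact h
  have hor : orderOf r = m := Nat.dvd_antisymm (orderOf_dvd_of_pow_eq_one hrm)
    (by rw [← hst, ← hφr]; exact orderOf_map_dvd φ r)
  have hanot : a ∉ Subgroup.zpowers r := by
    rintro ⟨i, hi⟩
    exact hsmem ⟨i, by simp only; rw [← hφr, ← map_zpow]; exact congrArg φ hi⟩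
  have hainv : a⁻¹ = a := inv_eq_of_mul_eq_one_right ha
  have hbinv : b⁻¹ = b := inv_eq_of_mul_eq_one_right hb
  have hconj : a * r * a⁻¹ = r⁻¹ := by
    rw [hr, hainv, mul_inv_rev, hainv, hbinv, ← mul_assoc a a b, ha, one_mul]
  set D := Subgroup.closure {r, a} with hD
  have hDcard : Nat.card D = 2 * m :=
    Cfsg.Agent.Lib.TwoGroup.card_closure_dihedral hor ha hconj hanot
  have hTcard : Nat.card (D.map φ) = 2 * m := by
    rw [hD, MonoidHom.map_closure, Set.image_pair]
    exact Cfsg.Agent.Lib.TwoGroup.card_closure_dihedral (hφr ▸ hst)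
      (by rw [← map_mul, ha, map_one]) (by rw [← map_inv, ← map_mul, ← map_mul, hconj, map_inv])
      (by rw [hφr]; exact hsmem)
  have hinj : Function.Injective (φ.subgroupMap D) :=
    ((Nat.bijective_iff_surjective_and_card _).mpr
      ⟨φ.subgroupMap_surjective D, by rw [hDcard, hTcard]⟩).1
  have hDZ : D ⊓ Z = ⊥ := by
    rw [eq_bot_iff]
    rintro d ⟨hdD, hdZ⟩
    rw [← hker] at hdZ
    have h := @hinj ⟨d, hdD⟩ 1 (Subtype.ext (by simpa using hdZ))
    exact congrArg Subtype.val h
  set U := (D.map φ).comap φ with hU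
  have hUeq : Z ⊔ D = U := by rw [hU, Subgroup.comap_map_eq, hker, sup_comm]
  have hidx : U.index = k := by
    rw [hU, Subgroup.index_comap_of_surjective _ hφ]
    have h := (D.map φ).card_mul_index
    rw [hTcard, hcard] at h
    exact Nat.eq_of_mul_eq_mul_left (by rcases hm with h' | h' <;> omega) h
  obtain ⟨L, hL⟩ := Cfsg.Agent.Lib.Gaschutz.exists_complement Z U (hUeq ▸ le_sup_left)
    (by rw [hc2, hidx]; exact Nat.coprime_two_left.mpr hk) D (hUeq ▸ le_sup_right) hDZ hUeq
  exact hns L hL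

open Cfsg.Agent.Lib.Spin in
/-- Part two. -/
theorem two_involutions : ∃ (H : Type) (_ : Group H) (_ : Finite H),
    Cfsg.IsNonsplitDoubleCover H (alternatingGroup (Fin 8)) ∧
      ∃ x y : H, x ≠ y ∧ orderOf x = 2 ∧ orderOf y = 2 := by
  haveI hsimple : IsSimpleGroup (alternatingGroup (Fin 8)) :=
    alternatingGroup.isSimpleGroup (by simp)
  have hA : ¬ IsMulCommutative (alternatingGroup (Fin 8)) :=
    Cfsg.Agent.Lib.SmallGroups.not_isMulCommutative_of_not_prime (by
      rw [nat_card_alternatingGroup, Nat.card_eq_fintype_card, Fintype.card_fin]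
      norm_num [Nat.factorial])
  have hcenter : Subgroup.center (spinGroup 8) = Subgroup.zpowers (minusOne 8) := by
    refine le_antisymm ?_ (Subgroup.zpowers_le.mpr minusOne_mem_center)
    intro g hg
    rw [← ker_proj, MonoidHom.mem_ker, ← Subgroup.mem_bot,
      ← Cfsg.Agent.Lib.SmallGroups.center_eq_bot hA, Subgroup.mem_center_iff]
    intro w
    obtain ⟨w, rfl⟩ := proj_surjective w
    rw [← map_mul, ← map_mul, Subgroup.mem_center_iff.mp hg w]
  have hc2 : Nat.card (Subgroup.center (spinGroup 8)) = 2 := by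
    rw [hcenter, Nat.card_zpowers, orderOf_minusOne]
  refine ⟨spinGroup 8, inferInstance, inferInstance, ⟨hc2, ?_, ?_⟩, ?_⟩
  · have hn : (Subgroup.zpowers (minusOne 8)).Normal := by rw [← ker_proj]; infer_instance
    exact ⟨(QuotientGroup.quotientMulEquivOfEq hcenter).trans (nonempty_equiv hn).some⟩
  · intro L hL
    have hle : commutator (spinGroup 8) ≤ L := by
      rw [commutator_def, Subgroup.commutator_le]
      intro g _ h _
      obtain ⟨⟨⟨z1, hz1⟩, ⟨l1, hl1⟩⟩, e1⟩ := hL.2 g
      obtain ⟨⟨⟨z2, hz2⟩, ⟨l2, hl2⟩⟩, e2⟩ := hL.2 h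
      simp only at e1 e2
      have c1 := Subgroup.mem_center_iff.mp hz1
      have c2 := Subgroup.mem_center_iff.mp hz2
      have : g * h * g⁻¹ * h⁻¹ = l1 * l2 * l1⁻¹ * l2⁻¹ := by
        rw [← e1, ← e2]
        simp only [mul_inv_rev]
        calc z1 * l1 * (z2 * l2) * (l1⁻¹ * z1⁻¹) * (l2⁻¹ * z2⁻¹)
            = z1 * (l1 * z2) * l2 * l1⁻¹ * z1⁻¹ * l2⁻¹ * z2⁻¹ := by group
          _ = z1 * z2 * (l1 * l2 * l1⁻¹) * z1⁻¹ * l2⁻¹ * z2⁻¹ := by rw [c2 l1]; group
          _ = z2 * (l1 * l2 * l1⁻¹) * (l2⁻¹ * z2⁻¹) := by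
              rw [← c1 z2, mul_assoc z2 z1, ← c1 (l1 * l2 * l1⁻¹)]; group
          _ = l1 * l2 * l1⁻¹ * l2⁻¹ := by
              rw [← c2 (l1 * l2 * l1⁻¹), mul_assoc (l1 * l2 * l1⁻¹) z2, ← mul_assoc z2, ← c2 l2⁻¹]
              group
      rw [commutatorElement_def, this]
      exact L.mul_mem (L.mul_mem (L.mul_mem hl1 hl2) (L.inv_mem hl1)) (L.inv_mem hl2)
    have h1 := Subgroup.disjoint_def.mp hL.disjoint minusOne_mem_center
      (hle (minusOne_mem_commutator (by norm_num)))
    exact minusOne_ne_one h1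
  · obtain ⟨x₁, hx₁, hs₁, hv₁⟩ := exists_lift_double (n := 8) (a := 0) (b := 1) (c := 2) (d := 3)
      (by decide) (by decide) (by decide) (by decide) (by decide) (by decide)
    obtain ⟨x₂, hx₂, hs₂, hv₂⟩ := exists_lift_double (n := 8) (a := 4) (b := 5) (c := 6) (d := 7)
      (by decide) (by decide) (by decide) (by decide) (by decide) (by decide)
    have hproj : proj 8 (x₁ * x₂) ≠ 1 := by
      intro h
      have h' := congrArg Subtype.val h
      rw [map_mul, Subgroup.coe_mul, hx₁, hx₂] at h'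
      exact absurd h' (by decide)
    have hcomm : x₂ * x₁ = x₁ * x₂ := by
      refine Subtype.ext (Prod.ext (Units.ext ?_) (Subtype.ext ?_))
      · show ((x₂ : (Op 8)ˣ × alternatingGroup (Fin 8)).1 : Op 8) *
          ((x₁ : (Op 8)ˣ × alternatingGroup (Fin 8)).1 : Op 8) = _ * _
        rw [hv₁, hv₂]
        set v1 := vec (0 : Fin 8) 1
        set v2 := vec (2 : Fin 8) 3
        set v3 := vec (4 : Fin 8) 5
        set v4 := vec (6 : Fin 8) 7
        have a13 : v3 * v1 = -(v1 * v3) := vec_anticomm (by decide) (by decide) (by decide) (by decide)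
        have a14 : v4 * v1 = -(v1 * v4) := vec_anticomm (by decide) (by decide) (by decide) (by decide)
        have a23 : v3 * v2 = -(v2 * v3) := vec_anticomm (by decide) (by decide) (by decide) (by decide)
        have a24 : v4 * v2 = -(v2 * v4) := vec_anticomm (by decide) (by decide) (by decide) (by decide)
        calc v3 * v4 * (v1 * v2) = v3 * (v4 * v1) * v2 := by simp only [mul_assoc]
          _ = -(v3 * v1 * v4 * v2) := by
              rw [a14, op_mul_neg, op_neg_mul]; simp only [mul_assoc]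
          _ = v1 * v3 * (v4 * v2) := by
              rw [a13, op_neg_mul, op_neg_mul, op_neg_neg, mul_assoc]
          _ = -(v1 * (v3 * v2) * v4) := by
              rw [a24, op_mul_neg]; simp only [mul_assoc]
          _ = v1 * v2 * (v3 * v4) := by
              rw [a23, op_mul_neg, op_neg_mul, op_neg_neg]; simp only [mul_assoc]
      · show ((proj 8 x₂ : alternatingGroup (Fin 8)) : Perm (Fin 8)) * _ = _
        rw [hx₂]
        show _ * ((proj 8 x₁ : alternatingGroup (Fin 8)) : Perm (Fin 8)) =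
          ((proj 8 x₁ : alternatingGroup (Fin 8)) : Perm (Fin 8)) * (proj 8 x₂ : alternatingGroup (Fin 8))
        rw [hx₁, hx₂]
        decide
    have hsq : x₁ * x₂ * (x₁ * x₂) = 1 := by
      rw [mul_assoc, ← mul_assoc x₂, hcomm, mul_assoc x₁ x₂, hs₂, ← mul_assoc, hs₁, minusOne_sq]
    refine ⟨x₁ * x₂, minusOne 8, fun h => hproj (by rw [h, proj_minusOne]),
      orderOf_eq_prime (by rw [pow_two, hsq]) (fun h => hproj (by rw [h, map_one])), orderOf_minusOne⟩


/-- Involutions in double covers of alternating groups: for n ≤ 7, a finite non-split double cover of the alternating group of degree n has exactly one element of order 2 (the central one); for degree 8 there is a non-split double cover with two distinct involutions. -/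
theorem result : (∀ (n : ℕ) (H : Type) (_ : Group H) (_ : Finite H), n ≤ 7 → Cfsg.IsNonsplitDoubleCover H (alternatingGroup (Fin n)) → ∀ x y : H, orderOf x = 2 → orderOf y = 2 → x = y) ∧ ∃ (H : Type) (_ : Group H) (_ : Finite H), Cfsg.IsNonsplitDoubleCover H (alternatingGroup (Fin 8)) ∧ ∃ x y : H, x ≠ y ∧ orderOf x = 2 ∧ orderOf y = 2 := by
  exact ⟨fun n H _ _ hn hd => unique_involution n H hn hd, two_involutions⟩

end Cfsg.Agent.S0447
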