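import Cfsg.Statements.S0454
import Cfsg.Agent.Lib.LyCent69.Main
import Cfsg.Agent.Lib.LyCent69.PermModel

set_option autoImplicit false
open Cfsg

namespace Cfsg.Agent.S0454

/-- Existence of the Lyons group: there is a transitive permutation group of degree 8835156, simple of order 51765179004000000, whose point stabiliser is simple of the order of a group of type G2, and which has an involution whose centraliser is a non-split double cover of the alternating group of degree 11. -/
theorem result : ∃ H : Subgroup (Equiv.Perm (Fin 8835156)), Cfsg.IsLy H ∧ MulAction.IsPretransitive H (Fin 8835156) ∧ Cfsg.IsG2 (MulAction.stabilizer H (0 : Fin 8835156)) ∧ ∃ t : H, orderOf t = 2 ∧ Cfsg.IsNonsplitDoubleCover (Subgroup.centralizer ({t} : Set H)) (alternatingGroup (Fin 11)) := by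
  have hs := Cfsg.Agent.Lib.LyCent69.hbar_simple
  have hinj := Cfsg.Agent.Lib.LyMain.lyPhi_injective hs
  have hG2 : Cfsg.IsG2 Cfsg.Agent.Lib.LyMain.lyPhi.range :=
    Cfsg.Agent.Lib.LyCent69.isG2_transfer (MonoidHom.ofInjective hinj)
      ⟨hs, 5, Nat.prime_five.isPrimePow, by norm_num, by
        rw [Cfsg.Agent.Lib.LyDC.card_Hbar]; norm_num⟩
  obtain ⟨ht, hC⟩ := Cfsg.Agent.Lib.LyCent69.ly_centralizer
  exact Cfsg.Agent.Lib.LyCent69.exists_perm_model Cfsg.Agent.Lib.LyCent69.ly_isLy
    Cfsg.Agent.Lib.LyMain.lyPhi.range 8835156 (by norm_num)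
    (Cfsg.Agent.Lib.LyMain.ly_index hs) (by norm_num) hG2 _ ht hC

end Cfsg.Agent.S0454
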