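import Cfsg.Statements.S0462
import Mathlib
import Cfsg.Agent.S0245
import Cfsg.Agent.S1683
import Cfsg.Agent.S1695
import Cfsg.Agent.Lib.CosetTable.HeSp44.Field
import Cfsg.Agent.Lib.CosetTable.HeSp44.Stab
import Cfsg.Agent.Lib.CosetTable.HeSp44.Sub
import Cfsg.Agent.Lib.CosetTable.HeSp44.Sp
import Cfsg.Agent.Lib.CosetTable.HeSp44.Graph

set_option autoImplicit false
open Cfsg

open scoped Pointwise

namespace Cfsg.Agent.S0462


open Cfsg.Agent.Lib.CosetTable
open Cfsg.Agent.Lib.Compute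
open HeSp44

/-- points on which the stabiliser acts -/
noncomputable def orbPt (j : Fin 136) : ℕ := He2058.orb1.get j

theorem orbPt_lt : ∀ j : Fin 136, orbPt j < He2058.tab.n := by decide +kernel

theorem orbPt_inj : ∀ i j : Fin 136, orbPt i = orbPt j → i = j := by decide +kernel

theorem stab_acts : ∀ k : Fin 7, ∀ j : Fin 136,
    getP 8 (stabGens.getD k.val (0, 0)).1 j.val < 136 ∧
      He2058.tab.walk (He2058.cert.subs.getD k.val []) (orbPt j) =
        He2058.orb1.get (getP 8 (stabGens.getD k.val (0, 0)).1 j.val) := by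
  decide +kernel

theorem subs_length : He2058.cert.subs.length = 7 ∧ stabGens.length = 7 ∧ spGens.length = 2 ∧
    graphGens.length = 2 ∧ subGens.length = 2 := by decide +kernel

theorem sub_in_stab : subGens.all (pairCheck 8 136 stabChain) = true := by decide +kernel

theorem graph_left : ∀ k : Fin 2, ∀ j : Fin 136,
    getP 8 (subGens.getD k.val (0, 0)).1 j.val < 136 ∧
      getP 12 (graphGens.getD k.val (0, 0)).1 j.val = getP 8 (subGens.getD k.val (0, 0)).1 j.val := by
  decide +kernel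

theorem graph_right : ∀ k : Fin 2, ∀ j : Fin 255,
    getP 8 (spGens.getD k.val (0, 0)).1 j.val < 255 ∧
      getP 12 (graphGens.getD k.val (0, 0)).1 (136 + j.val) =
        136 + getP 8 (spGens.getD k.val (0, 0)).1 j.val := by
  decide +kernel

theorem spMat_symp : ∀ k : Fin 2,
    spMat k * Matrix.J (Fin 2) K4 * (spMat k).transpose = Matrix.J (Fin 2) K4 := by
  decide +kernel

theorem spMat_acts : ∀ k : Fin 2, ∀ j : Fin 255,
    getP 8 (spGens.getD k.val (0, 0)).1 j.val < 255 ∧ ∀ a : Fin 2 ⊕ Fin 2,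
      (spMat k).mulVec (spVec j.val) a = spVec (getP 8 (spGens.getD k.val (0, 0)).1 j.val) a := by
  decide +kernel

theorem spVec_inj : ∀ i j : Fin 255, (∀ a : Fin 2 ⊕ Fin 2, spVec i.val a = spVec j.val a) → i = j := by
  decide +kernel

/-- the permutation group on `n` points generated by a list of codes -/
noncomputable abbrev gp (w n : ℕ) (hw : n ≤ 2 ^ w) (S : List (ℕ × ℕ)) :
    Subgroup (Equiv.Perm (Fin n)) :=
  genGroup (permCoding w (Equiv.refl (Fin n)) hw) S

theorem h8 : (136 : ℕ) ≤ 2 ^ 8 := by norm_num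
theorem h8' : (255 : ℕ) ≤ 2 ^ 8 := by norm_num
theorem h12 : (391 : ℕ) ≤ 2 ^ 12 := by norm_num

theorem stab_ok : GensOK (permCoding 8 (Equiv.refl (Fin 136)) h8) stabGens :=
  gensOK_literal _ _ stabGens_ok
theorem sub_ok : GensOK (permCoding 8 (Equiv.refl (Fin 136)) h8) subGens :=
  gensOK_literal _ _ subGens_ok
theorem sp_ok : GensOK (permCoding 8 (Equiv.refl (Fin 255)) h8') spGens :=
  gensOK_literal _ _ spGens_ok
theorem graph_ok : GensOK (permCoding 12 (Equiv.refl (Fin 391)) h12) graphGens :=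
  gensOK_literal _ _ graphGens_ok

theorem card_stab : Nat.card (gp 8 136 h8 stabGens) = 1958400 := by
  rw [card_genGroup _ stab_ok stabChain_ok, stabChain_size]
theorem card_sub : Nat.card (gp 8 136 h8 subGens) = 979200 := by
  rw [card_genGroup _ sub_ok subChain_ok, subChain_size]
theorem card_sp : Nat.card (gp 8 255 h8' spGens) = 979200 := by
  rw [card_genGroup _ sp_ok spChain_ok, spChain_size]
theorem card_graph : Nat.card (gp 12 391 h12 graphGens) = 979200 := by
  rw [card_genGroup _ graph_ok graphChain_ok, graphChain_size]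

theorem exists_graph_gens : ∃ gs : List (Equiv.Perm (Fin 391)),
    gs.length = graphGens.length ∧ (∀ g ∈ gs, g ∈ gp 12 391 h12 graphGens) ∧
    ∀ (i : ℕ) (g : Equiv.Perm (Fin 391)) (p : ℕ × ℕ), gs[i]? = some g → graphGens[i]? = some p →
      ∀ j : Fin 391, (g j).val = getP 12 p.1 j.val := by
  have key : ∀ k : Fin graphGens.length, ∃ g, g ∈ gp 12 391 h12 graphGens ∧
      ∀ j : Fin 391, (g j).val = getP 12 (graphGens[k.val]).1 j.val := by
    intro k
    obtain ⟨g, -, h1, -⟩ := graph_ok _ (List.getElem_mem k.isLt)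
    refine ⟨g, Subgroup.subset_closure ⟨_, List.getElem_mem k.isLt, h1⟩, fun j => ?_⟩
    rw [← h1, permCoding_enc, getP_encP h12 _ _ j.isLt]
    simp [imgP]
  choose g hg hj using key
  refine ⟨List.ofFn g, List.length_ofFn, ?_, ?_⟩
  · intro x hx
    obtain ⟨k, rfl⟩ := List.mem_ofFn.1 hx
    exact hg k
  · intro i x p hx hp
    obtain ⟨hi, rfl⟩ := List.getElem?_eq_some_iff.1 hx
    obtain ⟨hi', rfl⟩ := List.getElem?_eq_some_iff.1 hp
    rw [List.getElem_ofFn hi]
    exact hj _

theorem graph_equiv_sub : Nonempty (gp 12 391 h12 graphGens ≃* gp 8 136 h8 subGens) := by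
  obtain ⟨gs, hlen, hmem, hval⟩ := exists_graph_gens
  refine nonempty_mulEquiv_genGroup h8 _ (fun j : Fin 136 => (⟨j.val, by omega⟩ : Fin 391))
    (fun i j h => Fin.ext (congrArg Fin.val h :)) gs hmem sub_ok ⟨?_, ?_⟩
    (card_graph.trans card_sub.symm)
  · rw [hlen, subs_length.2.2.2.1, subs_length.2.2.2.2]
  · intro i g p hg hp j
    obtain ⟨hi, rfl⟩ := List.getElem?_eq_some_iff.1 hp
    have hi2 : i < 2 := lt_of_lt_of_eq hi subs_length.2.2.2.2
    obtain ⟨hlt, he⟩ := graph_left ⟨i, hi2⟩ j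
    simp only [List.getD_eq_getElem _ _ hi,
      List.getD_eq_getElem _ _ (lt_of_lt_of_eq hi2 subs_length.2.2.2.1.symm)] at hlt he
    refine ⟨hlt, Fin.ext ?_⟩
    show (g ⟨j.val, _⟩).val = _
    rw [hval i g _ hg (List.getElem?_eq_getElem (lt_of_lt_of_eq hi2 subs_length.2.2.2.1.symm))]
    exact he

theorem graph_equiv_sp : Nonempty (gp 12 391 h12 graphGens ≃* gp 8 255 h8' spGens) := by
  obtain ⟨gs, hlen, hmem, hval⟩ := exists_graph_gens
  refine nonempty_mulEquiv_genGroup h8' _ (fun j : Fin 255 => (⟨136 + j.val, by omega⟩ : Fin 391))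
    (fun i j h => Fin.ext (Nat.add_left_cancel (congrArg Fin.val h :))) gs hmem sp_ok ⟨?_, ?_⟩
    (card_graph.trans card_sp.symm)
  · rw [hlen, subs_length.2.2.2.1, subs_length.2.2.1]
  · intro i g p hg hp j
    obtain ⟨hi, rfl⟩ := List.getElem?_eq_some_iff.1 hp
    have hi2 : i < 2 := lt_of_lt_of_eq hi subs_length.2.2.1
    obtain ⟨hlt, he⟩ := graph_right ⟨i, hi2⟩ j
    simp only [List.getD_eq_getElem _ _ hi,
      List.getD_eq_getElem _ _ (lt_of_lt_of_eq hi2 subs_length.2.2.2.1.symm)] at hlt he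
    refine ⟨hlt, Fin.ext ?_⟩
    show (g ⟨136 + j.val, _⟩).val = _
    rw [hval i g _ hg (List.getElem?_eq_getElem (lt_of_lt_of_eq hi2 subs_length.2.2.2.1.symm))]
    exact he

theorem card_Sp : Nat.card (Matrix.symplecticGroup (Fin 2) K4) = 979200 := by
  rw [S0245.result K4.card_eq 2]
  norm_num [Finset.prod_range_succ]

theorem sp_equiv : Nonempty (Matrix.symplecticGroup (Fin 2) K4 ≃* gp 8 255 h8' spGens) := by
  letI : MulAction (Matrix.symplecticGroup (Fin 2) K4) (Fin 2 ⊕ Fin 2 → K4) :=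
    { smul := fun g v => (g : Matrix (Fin 2 ⊕ Fin 2) (Fin 2 ⊕ Fin 2) K4).mulVec v
      one_smul := fun v => Matrix.one_mulVec v
      mul_smul := fun a b v => (Matrix.mulVec_mulVec v _ _).symm }
  let gs : List (Matrix.symplecticGroup (Fin 2) K4) :=
    List.ofFn fun k : Fin 2 => ⟨_, SymplecticGroup.mem_iff.2 (spMat_symp k)⟩
  have hacts : ActsBy 8 (fun j : Fin 255 => spVec j.val) gs spGens := by
    refine ⟨by rw [subs_length.2.2.1]; exact List.length_ofFn, fun k g p hg hp j => ?_⟩
    obtain ⟨hk, rfl⟩ := List.getElem?_eq_some_iff.1 hg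
    obtain ⟨hk', rfl⟩ := List.getElem?_eq_some_iff.1 hp
    have hk2 : k < 2 := lt_of_lt_of_eq hk List.length_ofFn
    obtain ⟨hlt, he⟩ := spMat_acts ⟨k, hk2⟩ j
    simp only [List.getD_eq_getElem _ _ hk'] at hlt he
    refine ⟨hlt, ?_⟩
    show (gs[k]'hk : Matrix (Fin 2 ⊕ Fin 2) (Fin 2 ⊕ Fin 2) K4).mulVec (spVec j.val) = _
    rw [show (gs[k]'hk : Matrix (Fin 2 ⊕ Fin 2) (Fin 2 ⊕ Fin 2) K4) = spMat ⟨k, hk2⟩ from
      congrArg Subtype.val (List.getElem_ofFn hk)]
    exact funext he
  obtain ⟨e⟩ := nonempty_mulEquiv_genGroup h8' (⊤ : Subgroup (Matrix.symplecticGroup (Fin 2) K4))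
    (fun j : Fin 255 => spVec j.val)
    (fun i j h => spVec_inj i j fun a => congrFun h a) gs (fun _ _ => trivial) sp_ok hacts
    (by rw [Subgroup.card_top, card_Sp, card_sp])
  exact ⟨Subgroup.topEquiv.symm.trans e⟩

theorem exists_subgroup (P : Type) [Group P] (e : P ≃* gp 8 136 h8 stabGens) :
    ∃ N : Subgroup P, N.index = 2 ∧ Nonempty (N ≃* Matrix.symplecticGroup (Fin 2) K4) := by
  have hle : gp 8 136 h8 subGens ≤ gp 8 136 h8 stabGens :=
    (gensOK_of_pairCheck (Equiv.refl (Fin 136)) h8 stab_ok stabChain_ok sub_in_stab).2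
  let M := (gp 8 136 h8 subGens).subgroupOf (gp 8 136 h8 stabGens)
  have hM : M.index = 2 := by
    have h := M.card_mul_index
    rw [Nat.card_congr (Subgroup.subgroupOfEquivOfLe hle).toEquiv, card_sub, card_stab] at h
    omega
  refine ⟨M.comap e.toMonoidHom, ?_, ?_⟩
  · rw [Subgroup.index_comap_of_surjective M e.surjective, hM]
  · obtain ⟨e1⟩ := graph_equiv_sub
    obtain ⟨e2⟩ := graph_equiv_sp
    obtain ⟨e3⟩ := sp_equiv
    exact ⟨((e.subgroupMap (M.comap e.toMonoidHom)).trans (MulEquiv.subgroupCongr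
        (Subgroup.map_comap_eq_self_of_surjective e.surjective M))).trans
      ((Subgroup.subgroupOfEquivOfLe hle).trans ((e1.symm.trans e2).trans e3.symm))⟩

/-- The Held group exists as a transitive permutation group of degree 2058: simple of order 4030387200, with point stabiliser containing, with index 2, a copy of the 4-dimensional symplectic group over the field with four elements. -/
theorem result : ∃ H : Subgroup (Equiv.Perm (Fin 2058)), Cfsg.IsHe H ∧ MulAction.IsPretransitive H (Fin 2058) ∧ ∃ (F : Type) (_ : Field F) (_ : Fintype F), Fintype.card F = 4 ∧ ∃ N : Subgroup (MulAction.stabilizer H (0 : Fin 2058)), N.index = 2 ∧ Nonempty (N ≃* Matrix.symplecticGroup (Fin 2) F) := by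
  have D := S1683.certified
  obtain ⟨φ, hφ⟩ : ∃ φ : Cfsg.Spor.He →* Equiv.Perm (Fin He2058.tab.n),
      ∀ g, g < He2058.cert.k → φ (S1695.gn g) = He2058.checked.perm g :=
    Pres.exists_action D.good D.extra_eq D.k_eq D.rels_eq D.words D.checked
  have M := S1695.model_act
  have K := He2058.checked
  haveI : IsSimpleGroup Cfsg.Spor.He := S1695.result.1
  haveI : Finite Cfsg.Spor.He := Nat.finite_of_card_ne_zero (by rw [S1695.result.2]; norm_num)
  have hinj : Function.Injective φ := by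
    rcases φ.normal_ker.eq_bot_or_eq_top with h | h
    · exact (MonoidHom.ker_eq_bot_iff φ).mp h
    · exfalso
      obtain ⟨x, hx⟩ := Checked.exists_map_zero (f := S1695.gn) K φ hφ ⟨1, by decide +kernel⟩
      rw [show φ x = 1 from MonoidHom.mem_ker.mp (by rw [h]; trivial), Equiv.Perm.one_apply] at hx
      exact absurd (congrArg Fin.val hx) Nat.zero_ne_one
  let H : Subgroup (Equiv.Perm (Fin He2058.tab.n)) := φ.range
  let eH : Cfsg.Spor.He ≃* H := MonoidHom.ofInjective hinj
  have hcard : Nat.card H = 4030387200 := by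
    rw [← Nat.card_congr eH.toEquiv, S1695.result.2]
  have hne : NeZero He2058.tab.n := ⟨by decide +kernel⟩
  have hsimple : IsSimpleGroup H := eH.symm.isSimpleGroup
  let pt : Fin He2058.tab.n := ⟨0, K.pos⟩
  have htr : MulAction.IsPretransitive H (Fin He2058.tab.n) := by
    refine ⟨fun i j => ?_⟩
    obtain ⟨x, hx⟩ := Checked.exists_map_zero (f := S1695.gn) K φ hφ i
    obtain ⟨y, hy⟩ := Checked.exists_map_zero (f := S1695.gn) K φ hφ j
    refine ⟨⟨φ (y * x⁻¹), _, rfl⟩, ?_⟩
    show φ (y * x⁻¹) i = j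
    rw [map_mul, map_inv, Equiv.Perm.mul_apply, ← hx, Equiv.Perm.inv_def, Equiv.symm_apply_apply, hy]
  have hstab : Nat.card (MulAction.stabilizer H pt) = 1958400 := by
    have h := (MulAction.stabilizer H pt).card_mul_index
    rw [MulAction.index_stabilizer_of_transitive, hcard, Nat.card_fin] at h
    change Nat.card (MulAction.stabilizer H pt) * 2058 = 4030387200 at h
    omega
  let T : Subgroup (Equiv.Perm (Fin He2058.tab.n)) := (MulAction.stabilizer H pt).map H.subtype
  let eT : MulAction.stabilizer H pt ≃* T :=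
    Subgroup.equivMapOfInjective _ _ H.subtype_injective
  let gs : List (Equiv.Perm (Fin He2058.tab.n)) :=
    He2058.cert.subs.map fun w => φ (eval S1695.gn w)
  have hgs : ∀ g ∈ gs, g ∈ T := by
    intro g hg
    obtain ⟨w, hw, rfl⟩ := List.mem_map.1 hg
    refine Subgroup.mem_map.2 ⟨⟨_, ⟨_, rfl⟩⟩, ?_, rfl⟩
    show φ (eval S1695.gn w) pt = pt
    exact Checked.subgroup_fix K M φ hφ (Subgroup.subset_closure ⟨w, hw, rfl⟩)
  have hacts : ActsBy 8 (fun j : Fin 136 => (⟨orbPt j, orbPt_lt j⟩ : Fin He2058.tab.n)) gs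
      stabGens := by
    refine ⟨by rw [List.length_map, subs_length.1, subs_length.2.1], fun k g p hg hp j => ?_⟩
    obtain ⟨hk, rfl⟩ := List.getElem?_eq_some_iff.1 hg
    obtain ⟨hk', rfl⟩ := List.getElem?_eq_some_iff.1 hp
    obtain ⟨hlt, he⟩ := stab_acts ⟨k, lt_of_lt_of_eq hk' subs_length.2.1⟩ j
    have hks : k < He2058.cert.subs.length :=
      lt_of_lt_of_eq (lt_of_lt_of_eq hk' subs_length.2.1) subs_length.1.symm
    simp only [List.getD_eq_getElem _ _ hk', List.getD_eq_getElem _ _ hks] at hlt he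
    have hl := M.subs_lt _ (List.getElem_mem hks)
    refine ⟨hlt, Fin.ext ?_⟩
    show ((gs[k] : Equiv.Perm _) _).val = _
    have e : gs[k] = φ (eval S1695.gn He2058.cert.subs[k]) := List.getElem_map _
    refine (congrArg Fin.val (DFunLike.congr_fun e _)).trans ?_
    rw [Checked.map_eval K M φ hφ hl, K.eval_perm hl]
    exact he
  haveI : Finite T := Finite.of_equiv _ eT.toEquiv
  obtain ⟨e⟩ := nonempty_mulEquiv_genGroup h8 T
    (fun j : Fin 136 => (⟨orbPt j, orbPt_lt j⟩ : Fin He2058.tab.n))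
    (fun i j h => orbPt_inj i j (congrArg Fin.val h)) gs hgs stab_ok hacts
    (by rw [← Nat.card_congr eT.toEquiv, hstab, card_stab])
  obtain ⟨N, hN, hN'⟩ := exists_subgroup _ (eT.trans e)
  exact ⟨H, ⟨hsimple, hcard⟩, htr, K4, inferInstance, inferInstance, K4.card_eq, N, hN, hN'⟩

end Cfsg.Agent.S0462
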