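import Cfsg.Statements.S0481
import Mathlib

set_option autoImplicit false
open Cfsg

namespace Cfsg.Agent.S0481


/-- Large extraspecial subgroups: let z be an involution of a finite group G whose centraliser C contains a normal 2-subgroup Q with centre of order 2 and all squares central, such that every element of G centralising Q lies in Q. Then C contains a Sylow 2-subgroup of G, and any involution of G whose centraliser contains a Sylow 2-subgroup of G is conjugate to z. -/
theorem result {G : Type*} [Group G] [Finite G] (z : G) (hz : orderOf z = 2) (Q : Subgroup G) (hQC : Q ≤ Subgroup.centralizer ({z} : Set G)) (hQn : ∀ g ∈ Subgroup.centralizer ({z} : Set G), ∀ q ∈ Q, g * q * g⁻¹ ∈ Q) (hQ2 : IsPGroup 2 Q) (hZ : Nat.card (Subgroup.center Q) = 2) (hsq : ∀ x : Q, x ^ 2 ∈ Subgroup.center Q) (hlarge : Subgroup.centralizer (Q : Set G) ≤ Q) : (∃ P : Sylow 2 G, (P : Subgroup G) ≤ Subgroup.centralizer ({z} : Set G)) ∧ ∀ u : G, orderOf u = 2 → (∃ P : Sylow 2 G, (P : Subgroup G) ≤ Subgroup.centralizer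 ({u} : Set G)) → IsConj z u := by
  have : Fact (Nat.Prime 2) := ⟨Nat.prime_two⟩
  set C := Subgroup.centralizer ({z} : Set G) with hC
  have hz1 : z ≠ 1 := fun h => by rw [h, orderOf_one] at hz; norm_num at hz
  have hzc : z ∈ Subgroup.centralizer (Q : Set G) := by
    rw [Subgroup.mem_centralizer_iff]
    intro q hq
    exact Subgroup.mem_centralizer_singleton_iff.1 (hQC hq)
  have hzQ : z ∈ Q := hlarge hzc
  -- an element of Q centralising Q is 1 or z
  have key : ∀ w ∈ Subgroup.centralizer (Q : Set G), w = 1 ∨ w = z := by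
    intro w hw
    have hwQ := hlarge hw
    have hwZ : (⟨w, hwQ⟩ : Q) ∈ Subgroup.center Q := Subgroup.mem_center_iff.2 fun q =>
      Subtype.ext (Subgroup.mem_centralizer_iff.1 hw q q.2)
    have hzZ : (⟨z, hzQ⟩ : Q) ∈ Subgroup.center Q := Subgroup.mem_center_iff.2 fun q =>
      Subtype.ext (Subgroup.mem_centralizer_iff.1 hzc q q.2)
    rw [Nat.card_eq_two_iff' (1 : Subgroup.center Q)] at hZ
    obtain ⟨y, -, hy⟩ := hZ
    by_contra hcon
    push_neg at hcon
    have h1 := hy ⟨_, hwZ⟩ (fun h => hcon.1 (congrArg (fun x : Subgroup.center Q => ((x : Q) : G)) h))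
    have h2 := hy ⟨_, hzZ⟩ (fun h => hz1 (congrArg (fun x : Subgroup.center Q => ((x : Q) : G)) h))
    exact hcon.2 (congrArg (fun x : Subgroup.center Q => ((x : Q) : G)) (h1.trans h2.symm))
  -- a Sylow 2-subgroup containing Q centralises z
  obtain ⟨T, hT⟩ := hQ2.exists_le_sylow
  -- take a 2-subgroup between Q and C, maximal
  obtain ⟨R, hR⟩ := (hQ2.of_equiv (Subgroup.subgroupOfEquivOfLe hQC).symm).exists_le_sylow
  have hQR : Q ≤ ((R : Subgroup C).map C.subtype) := by
    intro q hq
    exact ⟨⟨q, hQC hq⟩, hR (by simpa [Subgroup.mem_subgroupOf] using hq), rfl⟩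
  have hR2 : IsPGroup 2 ((R : Subgroup C).map C.subtype) := R.2.map _
  obtain ⟨P, hP⟩ := hR2.exists_le_sylow
  have hPC : (P : Subgroup G) ≤ C := by
    have hRC : (R : Subgroup C).map C.subtype ≤ C := Subgroup.map_subtype_le _
    by_cases heq : (R : Subgroup C).map C.subtype = (P : Subgroup G)
    · exact heq ▸ hRC
    exfalso
    have hlt : (R : Subgroup C).map C.subtype < (P : Subgroup G) := lt_of_le_of_ne hP heq
    have hnil : Group.IsNilpotent (P : Subgroup G) := P.2.isNilpotent
    have hne : ((R : Subgroup C).map C.subtype).subgroupOf (P : Subgroup G) < ⊤ := by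
      rw [lt_top_iff_ne_top, Ne, Subgroup.subgroupOf_eq_top]
      exact fun h => hlt.not_ge h
    obtain ⟨x, hxn, hxR⟩ := SetLike.exists_of_lt ((normalizerCondition_of_isNilpotent (G := (P : Subgroup G))) _ hne)
    -- `x` normalises R, hence centralises z
    rw [Subgroup.mem_normalizer_iff] at hxn
    have hxC : (x : G) ∈ C := by
      have hw : (x : G) * z * (x : G)⁻¹ ∈ Subgroup.centralizer (Q : Set G) := by
        rw [Subgroup.mem_centralizer_iff]
        intro q hq
        have hqR := hQR hq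
        have h3 := (hxn ((x)⁻¹ * ⟨q, hP hqR⟩ * x)).2 (by
          simpa [Subgroup.mem_subgroupOf, mul_assoc] using hqR)
        rw [Subgroup.mem_subgroupOf] at h3
        have h4 := Subgroup.mem_centralizer_singleton_iff.1 (hRC h3)
        simp only [Subgroup.coe_mul, InvMemClass.coe_inv] at h4
        calc q * ((x : G) * z * (x : G)⁻¹) = x * ((x : G)⁻¹ * q * x * z) * (x : G)⁻¹ := by group
          _ = x * (z * ((x : G)⁻¹ * q * x)) * (x : G)⁻¹ := by rw [h4]
          _ = _ := by group
      rcases key _ hw with h | h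
      · exact absurd (conj_eq_one_iff.1 h) hz1
      · rw [hC, Subgroup.mem_centralizer_singleton_iff]
        exact mul_inv_eq_iff_eq_mul.1 h
    -- so R is not maximal in C
    apply hxR
    rw [Subgroup.mem_subgroupOf]
    have h5 : (⟨(x : G), hxC⟩ : C) ∈ (P : Subgroup G).subgroupOf C := x.2
    have h6 : (R : Subgroup C) ≤ (P : Subgroup G).subgroupOf C := fun r hr => hP (Subgroup.mem_map_of_mem C.subtype hr)
    have h7 := R.3 (P.2.comap_subtype (K := C)) h6
    have h8 : (⟨(x : G), hxC⟩ : C) ∈ (R : Subgroup C) := by rw [← h7]; exact h5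
    exact ⟨_, h8, rfl⟩
  refine ⟨⟨P, hPC⟩, fun u hu => ?_⟩
  rintro ⟨P', hP'⟩
  obtain ⟨g, hg⟩ := MulAction.exists_smul_eq G P' P
  have hmem : ∀ q ∈ Q, g⁻¹ * q * g ∈ (P' : Subgroup G) := by
    intro q hq
    have : q ∈ ((g • P' : Sylow 2 G) : Subgroup G) := by rw [hg]; exact hP (hQR hq)
    rw [Sylow.coe_subgroup_smul, Subgroup.mem_pointwise_smul_iff_inv_smul_mem] at this
    simpa using this
  have hu' : g * u * g⁻¹ ∈ Subgroup.centralizer (Q : Set G) := by
    rw [Subgroup.mem_centralizer_iff]
    intro q hq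
    have h4 := Subgroup.mem_centralizer_singleton_iff.1 (hP' (hmem q hq))
    calc q * (g * u * g⁻¹) = g * ((g⁻¹ * q * g) * u) * g⁻¹ := by group
      _ = g * (u * (g⁻¹ * q * g)) * g⁻¹ := by rw [h4]
      _ = _ := by group
  rcases key _ hu' with h | h
  · exfalso; rw [conj_eq_one_iff] at h; rw [h, orderOf_one] at hu; norm_num at hu
  · exact (isConj_iff.2 ⟨g, h⟩).symm

end Cfsg.Agent.S0481
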