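import Mathlib
import Cfsg.Agent.Lib.Alperin22.Group
import Cfsg.Agent.Lib.SmallGroups.Order5040.Fixed
import Cfsg.Agent.S0949
import Cfsg.Agent.S0205
import Cfsg.Statements.S0516
-- import your own Cfsg.Agent.* helpers here

set_option autoImplicit false
open Cfsg
open scoped commutatorElement Pointwise

namespace Cfsg.Agent.S0516

/-- In a non-abelian finite simple group of 2-rank at most 2, a Sylow 2-subgroup is dihedral (of order at least 4),
quasi-dihedral, wreathed, or isomorphic to a Sylow 2-subgroup of the projective special unitary group of dimension 3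
over the field with 16 elements. -/
theorem result {G : Type*} [Group G] [Finite G] [IsSimpleGroup G]
    (hG : ¬ IsMulCommutative G) (h2 : Cfsg.PRankLE 2 2 G) (S : Sylow 2 G) {F : Type*} [Field F] [Fintype F]
    (hF : Fintype.card F = 16) (P : Sylow 2 (Cfsg.PSU 3 F 4)) :
    (∃ n : ℕ, 2 ≤ n ∧ Nonempty ((S : Subgroup G) ≃* DihedralGroup n)) ∨ Cfsg.IsQuasiDihedral (S : Subgroup G) ∨
      Cfsg.IsWreathed (S : Subgroup G) ∨ Nonempty ((S : Subgroup G) ≃* (P : Subgroup (Cfsg.PSU 3 F 4))) := by
  haveI : Fact (Nat.Prime 2) := ⟨Nat.prime_two⟩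
  have heven : 2 ∣ Nat.card G := by
    rcases Nat.even_or_odd (Nat.card G) with h | h
    · exact even_iff_two_dvd.mp h
    · haveI := Cfsg.Agent.S0205.result h
      exact absurd ⟨⟨IsSimpleGroup.comm_iff_isSolvable.mpr inferInstance⟩⟩ hG
  obtain ⟨t, ht⟩ := exists_prime_orderOf_dvd_card' (G := G) 2 heven
  have hfalse : ∀ z : G, ¬ Cfsg.IsIsolatedInvolution z := fun z hz =>
    Cfsg.Agent.Lib.SmallGroups.Order5040.false_of_isolated hG hz.1 hz.2
  have h1 : ¬ Cfsg.PRankLE 2 1 G := by
    intro h1
    refine hfalse t ⟨ht, fun g hg => ?_⟩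
    by_contra hne
    set y := g * t * g⁻¹ with hy
    obtain ⟨tt, t1⟩ := Cfsg.Agent.Lib.Alperin22.sq_of_orderOf_two ht
    have yy : y * y = 1 := by
      rw [hy]
      calc g * t * g⁻¹ * (g * t * g⁻¹) = g * (t * t) * g⁻¹ := by group
        _ = 1 := by rw [tt, mul_one, mul_inv_cancel]
    have y1 : y ≠ 1 := fun e => t1 (by rw [hy, mul_inv_eq_one] at e; exact mul_eq_left.mp e)
    let A : Subgroup G :=
      { carrier := {u | u * u = 1 ∧ u ∈ Subgroup.centralizer
          (Subgroup.centralizer ({t, y} : Set G) : Set G)}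
        one_mem' := ⟨one_mul 1, one_mem _⟩
        mul_mem' := by
          rintro a b ⟨ha, ha'⟩ ⟨hb, hb'⟩
          refine ⟨?_, mul_mem ha' hb'⟩
          have hsub : ({t, y} : Set G) ⊆ Subgroup.centralizer ({t, y} : Set G) := by
            rintro u (rfl | rfl) <;> refine Subgroup.mem_centralizer_iff.mpr ?_ <;>
              rintro v (rfl | rfl) <;> first | rfl | exact hg.eq | exact hg.symm.eq
          have hab : b * a = a * b := Subgroup.mem_centralizer_iff.mp ha' b
            (Subgroup.centralizer_le hsub hb')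
          calc a * b * (a * b) = a * (b * a) * b := by group
            _ = a * a * (b * b) := by rw [hab]; group
            _ = 1 := by rw [ha, hb, one_mul]
        inv_mem' := by
          rintro a ⟨ha, ha'⟩
          exact ⟨by rw [← mul_inv_rev, ha, inv_one], inv_mem ha'⟩ }
    have hsub : ({t, y} : Set G) ⊆ Subgroup.centralizer ({t, y} : Set G) := by
      rintro u (rfl | rfl) <;> refine Subgroup.mem_centralizer_iff.mpr ?_ <;>
        rintro v (rfl | rfl) <;> first | rfl | exact hg.eq | exact hg.symm.eq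
    have hA := h1 A ⟨⟨fun a b => Subtype.ext (Subgroup.mem_centralizer_iff.mp b.2.2 a
      (Subgroup.centralizer_le hsub a.2.2))⟩⟩ (fun a ha => by rw [pow_two]; exact ha.1)
    have hin : ∀ u : G, u ∈ ({t, y} : Set G) → u ∈ Subgroup.centralizer
        (Subgroup.centralizer ({t, y} : Set G) : Set G) := fun u hu =>
      Subgroup.mem_centralizer_iff.mpr fun v hv =>
        (Subgroup.mem_centralizer_iff.mp hv u hu).symm
    let f : Fin 3 → A := ![1, ⟨t, tt, hin t (by simp)⟩, ⟨y, yy, hin y (by simp)⟩]
    have hf : Function.Injective fun i => ((f i : A) : G) := by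
      intro i j hij
      fin_cases i <;> fin_cases j <;> first
        | rfl
        | exact absurd hij (by simp [f, t1, y1, t1.symm, y1.symm, Ne.symm hne, hne])
    have h3 := Nat.card_le_card_of_injective f fun i j e => hf (by simp [e])
    simp only [Nat.card_fin] at h3
    omega
  rcases Cfsg.Agent.Lib.Alperin22.group_list h2 h1 hfalse S hF P with h | h | h | ⟨n, hn, ⟨e⟩⟩ | h
  · exact Or.inl h
  · exact Or.inr (Or.inl h)
  · exact Or.inr (Or.inr (Or.inl h))
  · exfalso
    have hO : ∀ N : Subgroup G, N.Normal → Odd (Nat.card N) → N = ⊥ := by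
      intro N hN hodd
      rcases hN.eq_bot_or_eq_top with h | h
      · exact h
      · rw [h, Subgroup.card_top] at hodd
        exact absurd (even_iff_two_dvd.mpr heven) (Nat.not_even_iff_odd.mpr hodd)
    have hn' := (Cfsg.Agent.S0949.result S n hn e hO).1
    rcases hn'.eq_bot_or_eq_top with hb | ht'
    · obtain ⟨s, hs⟩ : ∃ s : G, s ∈ (S : Subgroup G) ∧ s ≠ 1 :=
        ⟨_, (e.symm (Multiplicative.ofAdd (1, 0))).2, fun he => by
          have h0 : e.symm (Multiplicative.ofAdd (1, 0)) = 1 := Subtype.ext he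
          rw [map_eq_one_iff _ e.symm.injective, ofAdd_eq_one] at h0
          have h01 := congrArg Prod.fst h0
          haveI : Fact (1 < 2 ^ n) := ⟨Nat.one_lt_two_pow (by omega)⟩
          exact one_ne_zero (α := ZMod (2 ^ n)) h01⟩
      exact hs.2 (by rw [hb] at hs; exact hs.1)
    · refine hG ⟨⟨fun a b => ?_⟩⟩
      have hab : (⟨a, ht' ▸ Subgroup.mem_top a⟩ : (S : Subgroup G)) * ⟨b, ht' ▸ Subgroup.mem_top b⟩ =
          ⟨b, ht' ▸ Subgroup.mem_top b⟩ * ⟨a, ht' ▸ Subgroup.mem_top a⟩ :=
        e.injective (by rw [map_mul, map_mul, mul_comm])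
      exact congrArg Subtype.val hab
  · exact Or.inr (Or.inr (Or.inr h))

end Cfsg.Agent.S0516
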