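import Cfsg.Statements.S0521
import Mathlib
import Cfsg.Agent.S1457
import Cfsg.Agent.Lib.OddStable.Stable
import Cfsg.Agent.Lib.PSolvable.HallHigman
import Cfsg.Agent.Lib.Coprime.Quotient
import Cfsg.Agent.Lib.PGroup.Frattini

set_option autoImplicit false
open Cfsg

namespace Cfsg.Agent.S0521

open Cfsg.Agent.Lib
open scoped commutatorElement

/-- A `p`-element normalizing a group of order dividing `p` centralizes it. -/
theorem conj_eq_of_pow_eq_one {H : Type*} [Group H] {p : ℕ} [Fact p.Prime] {a c : H}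
    (hc : c ^ p = 1) {k : ℕ} (ha : a ^ p ^ k = 1) (hac : a * c * a⁻¹ ∈ Subgroup.zpowers c) :
    a * c * a⁻¹ = c := by
  obtain ⟨r, hr⟩ := hac
  have hr' : a * c * a⁻¹ = c ^ r := hr.symm
  have hiter : ∀ n : ℕ, a ^ n * c * (a ^ n)⁻¹ = c ^ r ^ n := by
    intro n
    induction n with
    | zero => simp
    | succ n ih =>
      rw [pow_succ a, show a ^ n * a * c * (a ^ n * a)⁻¹ = a ^ n * (a * c * a⁻¹) * (a ^ n)⁻¹ by group,
        hr', ← conj_zpow, ih, ← zpow_mul, pow_succ]
  rcases eq_or_ne c 1 with rfl | hc1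
  · simp
  have h1 := hiter (p ^ k)
  rw [ha, inv_one, one_mul, mul_one] at h1
  have h2 : ((r : ZMod p)) ^ p ^ k = 1 := by
    have h3 : (p : ℤ) ∣ r ^ p ^ k - 1 := by
      have h6 : c ^ (r ^ p ^ k - 1) = 1 := by rw [zpow_sub, zpow_one, ← h1, mul_inv_cancel]
      have h7 := orderOf_dvd_iff_zpow_eq_one.mpr h6
      rwa [orderOf_eq_prime hc hc1] at h7
    have h4 := (ZMod.intCast_zmod_eq_zero_iff_dvd _ p).mpr h3
    push_cast at h4
    exact sub_eq_zero.mp h4
  rw [ZMod.pow_card_pow] at h2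
  have h5 : (p : ℤ) ∣ r - 1 := by
    rw [← ZMod.intCast_zmod_eq_zero_iff_dvd]
    push_cast
    rw [h2, sub_self]
  obtain ⟨m, hm⟩ := h5
  rw [hr', show r = (p : ℤ) * m + 1 by omega, zpow_add, zpow_mul, zpow_natCast, hc, one_zpow,
    one_mul, zpow_one]

/-- The case of trivial `O_{p'}`. -/
theorem sylow_le_pCore {G : Type*} [Group G] [Finite G] [Group.IsSolvable G]
    (hodd : Odd (Nat.card G)) {p : ℕ} [Fact p.Prime] (hp : p ≠ 2) (h0 : Cfsg.pPrimeCore p G = ⊥)
    (S : Sylow p G) (hS : IsCyclic (commutator (S : Subgroup G))) :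
    (S : Subgroup G) ≤ Cfsg.pCore p G := by
  set R := Cfsg.pCore p G with hR
  have hRp : IsPGroup p R := PSolvable.pCore_isPGroup
  haveI hRn : R.Normal := by rw [hR]; infer_instance
  set A := (commutator (S : Subgroup G)).map (S : Subgroup G).subtype with hA
  haveI hAcyc : IsCyclic A :=
    isCyclic_of_surjective _ ((commutator (S : Subgroup G)).equivMapOfInjective _
      (S : Subgroup G).subtype_injective).surjective
  have hAS : A ≤ (S : Subgroup G) := Subgroup.map_subtype_le _
  have hAn : (S : Subgroup G) ≤ Subgroup.normalizer (A : Set G) := by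
    have h := Subgroup.le_normalizer_map (H := commutator (S : Subgroup G)) (S : Subgroup G).subtype
    rwa [Subgroup.normalizer_eq_top, ← MonoidHom.range_eq_map, Subgroup.range_subtype] at h
  have hAR : A ≤ R := by
    have h := Cfsg.Agent.S1457.result hodd p S A hAS inferInstance hAn
    rwa [PSolvable.pPrimePCore_of_pPrimeCore_eq_bot h0] at h
  set Φ := (frattini R).map R.subtype with hΦ
  haveI hΦn : Φ.Normal := inferInstance
  have hΦR : Φ ≤ R := Subgroup.map_subtype_le _
  set g := QuotientGroup.mk' Φ with hg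
  have hgs : Function.Surjective g := QuotientGroup.mk'_surjective Φ
  have hker : IsPGroup p g.ker := by rw [hg, QuotientGroup.ker_mk']; exact hRp.to_le hΦR
  have hcore : ∀ y ∈ Cfsg.pCore p (G ⧸ Φ), ∃ s ∈ R, g s = y := by
    intro y hy
    obtain ⟨s, rfl⟩ := hgs y
    exact ⟨s, PSolvable.le_pCore (N := (Cfsg.pCore p (G ⧸ Φ)).comap g)
      (PSolvable.pCore_isPGroup.comap_of_ker_isPGroup g hker) hy, rfl⟩
  have hRmap : R.map g ≤ Cfsg.pCore p (G ⧸ Φ) := by
    haveI : (R.map g).Normal := hRn.map _ hgs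
    exact PSolvable.le_pCore (hRp.map g)
  haveI : Group.IsSolvable (G ⧸ Φ) := Group.isSolvable_of_surjective hgs
  -- the quotient modulo the Frattini subgroup of `R` has trivial `p'`-core
  have h0' : Cfsg.pPrimeCore p (G ⧸ Φ) = ⊥ := by
    set K := Cfsg.pPrimeCore p (G ⧸ Φ) with hK
    haveI hKn : K.Normal := by rw [hK]; infer_instance
    rw [eq_bot_iff]
    intro k hk
    obtain ⟨x, rfl⟩ := hgs k
    obtain ⟨i, m, hpm, hord⟩ := Nat.exists_eq_pow_mul_and_not_dvd
      (orderOf_pos x).ne' p (Fact.out : p.Prime).ne_one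
    set z := x ^ p ^ i with hz
    have hzord : orderOf z = m := by
      rw [hz, orderOf_pow_of_dvd (by simp [(Fact.out : p.Prime).ne_zero])
        (hord ▸ dvd_mul_right _ _), hord,
        Nat.mul_div_cancel_left _ (pow_pos (Fact.out : p.Prime).pos _)]
    have hint : R.map g ⊓ K = ⊥ :=
      PSolvable.inf_eq_bot_of_isPGroup_of_coprime (hRp.map g) PSolvable.pPrimeCore_coprime
    have hcomm : ∀ w ∈ Subgroup.zpowers z, ∀ u ∈ R, w * u * w⁻¹ * u⁻¹ ∈ Φ := by
      intro w hw u hu
      have hwK : g w ∈ K := by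
        obtain ⟨j, rfl⟩ := hw
        simp only [map_zpow, hz, map_pow]
        exact K.zpow_mem (K.pow_mem hk _) j
      have hu' : g u ∈ R.map g := Subgroup.mem_map_of_mem g hu
      have h1 : g (w * u * w⁻¹ * u⁻¹) ∈ R.map g ⊓ K := by
        refine ⟨Subgroup.mem_map_of_mem g (R.mul_mem (hRn.conj_mem u hu w) (R.inv_mem hu)), ?_⟩
        rw [map_mul, map_mul, map_mul, map_inv, map_inv, mul_assoc, mul_assoc]
        exact K.mul_mem hwK (by rw [← mul_assoc]; exact hKn.conj_mem _ (K.inv_mem hwK) _)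
      rw [hint, Subgroup.mem_bot, hg, QuotientGroup.mk'_apply, QuotientGroup.eq_one_iff] at h1
      exact h1
    have hzc : Subgroup.zpowers z ≤ Subgroup.centralizer (R : Set G) := by
      refine Coprime.le_centralizer_of_frattini
        (by rw [Subgroup.normalizer_eq_top_iff.mpr hRn]; exact le_top) ?_ hcomm
      obtain ⟨n, hn⟩ := IsPGroup.iff_card.mp hRp
      rw [Nat.card_zpowers, hzord]
      refine Nat.Coprime.coprime_dvd_right (Subgroup.card_subgroup_dvd_card (frattini R)) ?_
      rw [hn]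
      exact (((Fact.out : p.Prime).coprime_iff_not_dvd).mpr hpm).symm.pow_right n
    have hcen : Subgroup.centralizer (R : Set G) ≤ R :=
      PSolvable.centralizer_pCore_le_of_isPSolvable PSolvable.isPSolvable_of_isSolvable h0
    have hz1 : z = 1 := by
      rw [← Subgroup.zpowers_eq_bot]
      refine PSolvable.eq_bot_of_isPGroup_of_coprime (hRp.to_le (hzc.trans hcen)) ?_
      rw [Nat.card_zpowers, hzord]
      exact (((Fact.out : p.Prime).coprime_iff_not_dvd).mpr hpm).symm
    rw [Subgroup.mem_bot, ← orderOf_eq_one_iff]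
    refine Nat.eq_one_of_dvd_coprimes ((PSolvable.pPrimeCore_coprime (p := p)
      (G := G ⧸ Φ)).pow_right i) (Subgroup.orderOf_dvd_natCard K hk)
      (orderOf_dvd_of_pow_eq_one ?_)
    rw [← map_pow, ← hz, hz1, map_one]
  intro a ha
  -- `a` acts quadratically
  have hquad : ∀ s ∈ Cfsg.pCore p (G ⧸ Φ), ⁅⁅s, g a⁆, g a⁆ = 1 := by
    intro s hs
    obtain ⟨u, hu, rfl⟩ := hcore s hs
    have huS : u ∈ (S : Subgroup G) := PSolvable.pCore_le_sylow S hu
    set d := ⁅u, a⁆ with hd
    have hdA : d ∈ A := ⟨⁅(⟨u, huS⟩ : (S : Subgroup G)), ⟨a, ha⟩⁆,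
      Subgroup.commutator_mem_commutator (Subgroup.mem_top _) (Subgroup.mem_top _), rfl⟩
    obtain ⟨⟨c, hcA⟩, hcgen⟩ := IsCyclic.exists_generator (α := A)
    have hin : ∀ y ∈ A, ∃ j : ℤ, c ^ j = y := fun y hy => by
      obtain ⟨j, hj⟩ := hcgen ⟨y, hy⟩
      exact ⟨j, congrArg Subtype.val hj⟩
    have hcp : g c ^ p = 1 := by
      rw [← map_pow, hg, QuotientGroup.mk'_apply, QuotientGroup.eq_one_iff]
      exact ⟨⟨c, hAR hcA⟩ ^ p, PFrattini.pow_mem_frattini hRp _, rfl⟩
    obtain ⟨k, hk⟩ := S.2 ⟨a, ha⟩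
    have hak : g a ^ p ^ k = 1 := by
      rw [← map_pow, show a ^ p ^ k = 1 from congrArg Subtype.val hk, map_one]
    have hfix : g a * g c * (g a)⁻¹ = g c := by
      refine conj_eq_of_pow_eq_one hcp hak ?_
      obtain ⟨j, hj⟩ := hin _ ((Subgroup.mem_normalizer_iff.mp (hAn ha) c).mp hcA)
      exact ⟨j, by simp only; rw [← map_zpow, hj]; simp⟩
    have hcomm : Commute (g a) (g c) := mul_inv_eq_iff_eq_mul.mp hfix
    obtain ⟨j, hj⟩ := hin d hdA
    rw [← map_commutatorElement, ← hd, ← hj, map_zpow, commutatorElement_eq_one_iff_commute]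
    exact (hcomm.zpow_right j).symm
  have hmem := OddStable.mem_pCore_of_quadratic
    (hodd.of_dvd_nat (Subgroup.card_quotient_dvd_card _)) hp h0' hquad
  obtain ⟨s, hs, hsa⟩ := hcore _ hmem
  have h : s⁻¹ * a ∈ Φ := by
    rw [← QuotientGroup.eq_one_iff, ← QuotientGroup.mk'_apply, map_mul, map_inv]
    show (g s)⁻¹ * g a = 1
    rw [hsa, inv_mul_cancel]
  simpa using R.mul_mem hs (hΦR h)


/-- Let X be a finite solvable group of odd order, p a prime and S a Sylow p-subgroup of X whose commutator subgroup is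
cyclic. Then the product of the largest normal subgroup of X of order prime to p with S is a normal subgroup of X. -/
theorem result {X : Type*} [Group X] [Finite X] [Group.IsSolvable X]
    (hX : Odd (Nat.card X)) (p : ℕ) [Fact p.Prime] (S : Sylow p X) (hS : IsCyclic (commutator (S : Subgroup X))) :
    (Cfsg.pPrimeCore p X ⊔ (S : Subgroup X)).Normal := by
  rcases eq_or_ne p 2 with rfl | hp
  · have hbot : (S : Subgroup X) = ⊥ := by
      obtain ⟨k, hk⟩ := IsPGroup.iff_card.mp S.2
      refine Subgroup.eq_bot_of_card_eq _ ?_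
      rcases Nat.eq_zero_or_pos k with rfl | hk0
      · simpa using hk
      · exact absurd (even_iff_two_dvd.mpr ((hk ▸ dvd_pow_self 2 hk0.ne').trans
          (Subgroup.card_subgroup_dvd_card _))) (Nat.not_even_iff_odd.mpr hX)
    rw [hbot, sup_bot_eq]
    infer_instance
  set N := Cfsg.pPrimeCore p X with hN
  set f := QuotientGroup.mk' N with hf
  have hfs : Function.Surjective f := QuotientGroup.mk'_surjective N
  haveI : Group.IsSolvable (X ⧸ N) := Group.isSolvable_of_surjective hfs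
  set S' := S.mapSurjective hfs with hS'
  have hS'c : IsCyclic (commutator (S' : Subgroup (X ⧸ N))) := by
    haveI := hS
    set φ : (S : Subgroup X) →* (S' : Subgroup (X ⧸ N)) :=
      (f.comp (S : Subgroup X).subtype).codRestrict _ (fun x => by
        rw [hS', Sylow.coe_mapSurjective]; exact Subgroup.mem_map_of_mem f x.2) with hφ
    have hφs : Function.Surjective φ := by
      rintro ⟨y, hy⟩
      rw [hS', Sylow.coe_mapSurjective] at hy
      obtain ⟨x, hx, rfl⟩ := hy
      exact ⟨⟨x, hx⟩, rfl⟩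
    have h := Subgroup.map_commutator ⊤ ⊤ φ
    rw [Subgroup.map_top_of_surjective φ hφs, ← commutator_def, ← commutator_def] at h
    exact h ▸ isCyclic_of_surjective _ (φ.subgroupMap_surjective (commutator (S : Subgroup X)))
  have hle := sylow_le_pCore (hX.of_dvd_nat (Subgroup.card_quotient_dvd_card _)) hp
    Lib.PSolvable.pPrimeCore_quotient_eq_bot S' hS'c
  have heq : (S : Subgroup X).map f = Cfsg.pCore p (X ⧸ N) := by
    refine le_antisymm ?_ ?_
    · rw [← Sylow.coe_mapSurjective]; exact hle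
    · exact (Lib.PSolvable.pCore_le_sylow S').trans (Sylow.coe_mapSurjective _ _).le
  have h := Subgroup.comap_map_eq f (S : Subgroup X)
  rw [hf, QuotientGroup.ker_mk'] at h
  rw [sup_comm, ← h, ← hf, heq]
  infer_instance

end Cfsg.Agent.S0521
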