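import Cfsg.Statements.S0522
import Mathlib
import Cfsg.Agent.S1279
import Cfsg.Agent.Lib.Signalizer.Family
import Cfsg.Agent.Lib.Transitivity.Constrained
import Cfsg.Agent.Lib.Coprime.Quotient

set_option autoImplicit false
open Cfsg

namespace Cfsg.Agent.S0522

open Cfsg.Agent.Lib

/-- A `p`-element centralizing an abelian subgroup which is self-centralizing in a Sylow subgroup
that normalizes it lies in that subgroup. -/
theorem mem_of_isPGroup {X : Type*} [Group X] [Finite X] {p : ℕ} [Fact p.Prime] (P : Sylow p X)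
    {B : Subgroup X} (hBn : (P : Subgroup X) ≤ Subgroup.normalizer (B : Set X))
    (hBc : (P : Subgroup X) ⊓ Subgroup.centralizer (B : Set X) = B) {x : X}
    (hx : x ∈ Subgroup.centralizer (B : Set X)) (hxp : IsPGroup p (Subgroup.zpowers x)) :
    x ∈ B := by
  set N := Subgroup.normalizer (B : Set X) with hN
  have hxN : Subgroup.zpowers x ≤ N := by
    rw [Subgroup.zpowers_le]
    exact Subgroup.centralizer_le_normalizer (B : Set X) hx
  obtain ⟨S, hS⟩ := (hxp.comap_subtype (K := N)).exists_le_sylow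
  obtain ⟨n, hn⟩ := MulAction.exists_smul_eq N S (P.subtype hBn)
  have hxS : (⟨x, hxN (Subgroup.mem_zpowers x)⟩ : N) ∈ (S : Subgroup N) :=
    hS (show x ∈ Subgroup.zpowers x from Subgroup.mem_zpowers x)
  have h1 : MulAut.conj n ⟨x, hxN (Subgroup.mem_zpowers x)⟩ ∈ (n • S : Sylow p N) :=
    Subgroup.smul_mem_pointwise_smul _ _ _ hxS
  rw [hn] at h1
  have h2 : (n : X) * x * (n : X)⁻¹ ∈ (P : Subgroup X) := h1
  have h3 : (n : X) * x * (n : X)⁻¹ ∈ Subgroup.centralizer (B : Set X) := by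
    rw [Subgroup.mem_centralizer_iff]
    intro b hb
    have hb' : (n : X)⁻¹ * b * n ∈ B := (Subgroup.mem_normalizer_iff''.mp n.2 b).mp hb
    have h4 := Subgroup.mem_centralizer_iff.mp hx _ hb'
    calc b * ((n : X) * x * (n : X)⁻¹) = n * ((n : X)⁻¹ * b * n * x) * (n : X)⁻¹ := by group
      _ = n * (x * ((n : X)⁻¹ * b * n)) * (n : X)⁻¹ := by rw [h4]
      _ = n * x * (n : X)⁻¹ * b := by group
  have h5 : (n : X) * x * (n : X)⁻¹ ∈ B := hBc ▸ Subgroup.mem_inf.mpr ⟨h2, h3⟩
  exact (Subgroup.mem_normalizer_iff.mp n.2 x).mpr h5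

/-- A `B`-invariant `p'`-subgroup of `C(a)` lies in the `p'`-core of `C(a)`. -/
theorem le_core {X : Type*} [Group X] [Finite X] {p : ℕ} [Fact p.Prime] (hp2 : p ≠ 2)
    {B : Subgroup X} (hBp : IsPGroup p B) (hBa : IsMulCommutative B)
    (hfull : ∀ x ∈ Subgroup.centralizer (B : Set X), IsPGroup p (Subgroup.zpowers x) → x ∈ B)
    {a : X} (ha : a ∈ B)
    (hsol : Group.IsSolvable (Subgroup.centralizer ({a} : Set X)))
    {U : Subgroup X} (hUC : U ≤ Subgroup.centralizer {a}) (hU : ¬ p ∣ Nat.card U)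
    (hBU : B ≤ Subgroup.normalizer (U : Set X)) :
    U ≤ centralizerPPrimeCore p a := by
  set C := Subgroup.centralizer ({a} : Set X) with hC
  have hBC : B ≤ C := fun b hb => Subgroup.mem_centralizer_singleton_iff.mpr
    (congrArg Subtype.val (hBa.is_comm.comm ⟨b, hb⟩ ⟨a, ha⟩))
  haveI := hsol
  have hcon : IsPConstrained p C :=
    PSolvable.isPConstrained_of_isPSolvable PSolvable.isPSolvable_of_isSolvable
  have hfull' : ∀ x ∈ Subgroup.centralizer ((B.subgroupOf C : Subgroup C) : Set C),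
      IsPGroup p (Subgroup.zpowers x) → x ∈ B.subgroupOf C := by
    intro x hx hxp
    refine hfull x ?_ ?_
    · rw [Subgroup.mem_centralizer_iff]
      intro b hb
      exact congrArg Subtype.val (Subgroup.mem_centralizer_iff.mp hx ⟨b, hBC hb⟩ hb)
    · have h := hxp.map C.subtype
      rwa [MonoidHom.map_zpowers] at h
  have hcomm : IsMulCommutative ↥(B.subgroupOf C) := by
    refine ⟨⟨fun x y => Subtype.ext (Subtype.ext ?_)⟩⟩
    exact congrArg (fun z : B => (z : X)) (hBa.is_comm.comm (⟨x.1.1, x.2⟩ : B) (⟨y.1.1, y.2⟩ : B))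
  have hcard : (Nat.card (U.subgroupOf C)).Coprime p := by
    rw [Nat.card_congr (Subgroup.subgroupOfEquivOfLe hUC).toEquiv]
    exact ((Fact.out : p.Prime).coprime_iff_not_dvd.mpr hU).symm
  have hnorm : B.subgroupOf C ≤ Subgroup.normalizer ((U.subgroupOf C : Subgroup C) : Set C) := by
    intro b hb
    rw [Subgroup.mem_normalizer_iff]
    intro u
    exact Subgroup.mem_normalizer_iff.mp (hBU hb) (u : X)
  have h := Transitivity.le_pPrimeCore_of_isPConstrained hcon (hBp.comap_subtype (K := C)) hcomm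
    hfull' (fun h => absurd h hp2) hcard hnorm
  intro u hu
  exact ⟨⟨u, hUC hu⟩, h hu, rfl⟩


/-- Transitivity Theorem (odd-order setting). Let X be a finite group of odd order in which the normalizer of every
nontrivial p-subgroup is solvable, P a Sylow p-subgroup, and B an abelian subgroup of P, normalized by P, with
C_P(B) = B and containing an elementary abelian subgroup of order p^3. Then for every prime q ≠ p, any two q-subgroups
that are maximal among the q-subgroups normalized by B are conjugate by an element of the centralizer of B. -/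
theorem result {X : Type*} [Group X] [Finite X] (hX : Odd (Nat.card X)) (p : ℕ)
    [Fact p.Prime] (hloc : ∀ T : Subgroup X, IsPGroup p T → T ≠ ⊥ → Group.IsSolvable (Subgroup.normalizer (T : Set X)))
    (P : Sylow p X) (B : Subgroup X) (hBP : B ≤ (P : Subgroup X))
    (hBn : ∀ x ∈ (P : Subgroup X), ∀ b ∈ B, x * b * x⁻¹ ∈ B) (hBa : IsMulCommutative B)
    (hBc : (P : Subgroup X) ⊓ Subgroup.centralizer (B : Set X) = B)
    (hB3 : ∃ E : Subgroup X, E ≤ B ∧ (∀ e ∈ E, e ^ p = 1) ∧ p ^ 3 ≤ Nat.card E)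
    (q : ℕ) [Fact q.Prime] (hqp : q ≠ p) (Q₁ Q₂ : Subgroup X)
    (h₁ : IsPGroup q Q₁ ∧ B ≤ Subgroup.normalizer (Q₁ : Set X) ∧
      ∀ R : Subgroup X, IsPGroup q R → B ≤ Subgroup.normalizer (R : Set X) → Q₁ ≤ R → R = Q₁)
    (h₂ : IsPGroup q Q₂ ∧ B ≤ Subgroup.normalizer (Q₂ : Set X) ∧
      ∀ R : Subgroup X, IsPGroup q R → B ≤ Subgroup.normalizer (R : Set X) → Q₂ ≤ R → R = Q₂) :
    ∃ c ∈ Subgroup.centralizer (B : Set X), Q₂ = Q₁.map (MulAut.conj c).toMonoidHom := by
  obtain ⟨E, hEB, hEp, hE3⟩ := hB3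
  have hp := (Fact.out : p.Prime)
  have hq := (Fact.out : q.Prime)
  -- the prime is odd
  have hp2 : p ≠ 2 := by
    rintro rfl
    obtain ⟨k, hk⟩ := IsPGroup.iff_card.mp (P.isPGroup'.to_le (hEB.trans hBP))
    rcases Nat.eq_zero_or_pos k with rfl | hkpos
    · rw [hk] at hE3; norm_num at hE3
    · have h2 : 2 ∣ Nat.card X :=
        ((dvd_pow_self 2 hkpos.ne').trans (hk ▸ dvd_rfl)).trans (Subgroup.card_subgroup_dvd_card E)
      exact (Nat.not_even_iff_odd.mpr hX) (even_iff_two_dvd.mpr h2)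
  have hBp : IsPGroup p B := P.isPGroup'.to_le hBP
  have hEA : IsElementaryAbelian p E :=
    ⟨⟨⟨fun x y => by
      refine Subtype.ext ?_
      exact congrArg (fun z : B => (z : X))
        (hBa.is_comm.comm (⟨x, hEB x.2⟩ : B) (⟨y, hEB y.2⟩ : B))⟩⟩, hEp⟩
  have hE2 : p ^ 2 ≤ Nat.card E := SignalizerFamily.sq_le_card hE3
  have hPN : (P : Subgroup X) ≤ Subgroup.normalizer (B : Set X) :=
    fun x hx => Coprime.le_normalizer_of_conj_mem (A := (P : Subgroup X)) hBn hx
  have hfull := fun x (hx : x ∈ Subgroup.centralizer (B : Set X)) hxp =>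
    mem_of_isPGroup P hPN hBc (x := x) hx hxp
  have hsolC : ∀ a ∈ E, a ≠ 1 → Group.IsSolvable ↥(Subgroup.centralizer ({a} : Set X)) := by
    intro a ha ha1
    refine Components.isSolvable_subgroup_mono ?_ (hloc (Subgroup.zpowers a)
      (hBp.to_le (Subgroup.zpowers_le.mpr (hEB ha))) (by simpa using ha1))
    have h := Subgroup.centralizer_le_normalizer ((Subgroup.zpowers a : Subgroup X) : Set X)
    rwa [Subgroup.zpowers_eq_closure, Subgroup.centralizer_closure,
      ← Subgroup.zpowers_eq_closure] at h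
  set θ : X → Subgroup X := fun a => centralizerPPrimeCore p a with hθdef
  have hθ : IsSolvableSignalizerFunctor p E θ := Cfsg.Agent.S1279.result p E hEA hE2 hsolC
  have hBC : ∀ a ∈ E, B ≤ Subgroup.centralizer ({a} : Set X) := fun a ha b hb =>
    Subgroup.mem_centralizer_singleton_iff.mpr
      (congrArg Subtype.val (hBa.is_comm.comm ⟨b, hb⟩ ⟨a, hEB ha⟩))
  have hBθ : ∀ a ∈ E, B ≤ Subgroup.normalizer (θ a : Set X) := fun a ha =>
    (hBC a ha).trans (Components.centralizer_le_normalizer_centralizerPPrimeCore a)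
  have hndvd : ∀ Q : Subgroup X, IsPGroup q Q → ¬ p ∣ Nat.card Q := by
    intro Q hQ hd
    obtain ⟨k, hk⟩ := IsPGroup.iff_card.mp hQ
    rw [hk] at hd
    exact hqp ((Nat.prime_dvd_prime_iff_eq hp hq).mp (hp.dvd_of_dvd_pow hd)).symm
  -- invariant `q`-groups are members of the family
  have hinf : ∀ Q : Subgroup X, IsPGroup q Q → B ≤ Subgroup.normalizer (Q : Set X) →
      ∀ a ∈ E, a ≠ 1 → Q ⊓ Subgroup.centralizer {a} ≤ θ a := by
    intro Q hQ hBQ a ha ha1
    refine le_core hp2 hBp hBa hfull (hEB ha) (hsolC a ha ha1) inf_le_right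
      (hndvd _ (hQ.to_le inf_le_left)) ?_
    exact (le_inf hBQ ((hBC a ha).trans Subgroup.le_normalizer)).trans
      Subgroup.inf_normalizer_le_normalizer_inf
  have hmem : ∀ Q : Subgroup X, IsPGroup q Q → B ≤ Subgroup.normalizer (Q : Set X) →
      Q ∈ signalizerFamily p E θ := by
    intro Q hQ hBQ
    haveI := hQ.isNilpotent
    exact ⟨inferInstance, hndvd Q hQ,
      SignalizerFamily.le_normalizer_iff_invariant.mp (hEB.trans hBQ), hinf Q hQ hBQ⟩
  have hBsol : Group.IsSolvable B := Group.isSolvable_of_comm fun x y => hBa.is_comm.comm x y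
  have hcopB : ∀ K : Subgroup X, ¬ p ∣ Nat.card K → (Nat.card B).Coprime (Nat.card K) := by
    intro K hK
    obtain ⟨k, hk⟩ := IsPGroup.iff_card.mp hBp
    rw [hk]
    exact Nat.Coprime.pow_left k (hp.coprime_iff_not_dvd.mpr hK)
  -- maximal invariant subgroups are maximal members
  have hmax : ∀ Q : Subgroup X, (IsPGroup q Q ∧ B ≤ Subgroup.normalizer (Q : Set X) ∧
      ∀ R : Subgroup X, IsPGroup q R → B ≤ Subgroup.normalizer (R : Set X) → Q ≤ R → R = Q) →
      SignalizerFamily.IsMaxMember p q E θ Q := by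
    rintro Q ⟨hQ, hBQ, hQmax⟩
    refine ⟨hmem Q hQ hBQ, hQ, fun R hR hRq hle => ?_⟩
    by_contra hne
    haveI := hRq.isNilpotent
    refine (OddLocal.lt_inf_normalizer hle (Ne.symm hne)).not_ge ?_
    set Y := R ⊓ Subgroup.normalizer (Q : Set X) with hY
    have hEY : E ≤ Subgroup.normalizer (Y : Set X) :=
      (le_inf (SignalizerFamily.member_le_normalizer hR)
        ((hEB.trans hBQ).trans Subgroup.le_normalizer)).trans
        Subgroup.inf_normalizer_le_normalizer_inf
    refine SignalizerFamily.le_of_elements hEA hE2 (hndvd Y (hRq.to_le inf_le_left)) hEY ?_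
    intro a ha ha1
    set U := θ a ⊓ Subgroup.normalizer (Q : Set X) with hU
    have hBU : B ≤ Subgroup.normalizer (U : Set X) :=
      (le_inf (hBθ a ha) (hBQ.trans Subgroup.le_normalizer)).trans
        Subgroup.inf_normalizer_le_normalizer_inf
    have hQaU : Q ⊓ Subgroup.centralizer {a} ≤ U :=
      le_inf (hinf Q hQ hBQ a ha ha1) (inf_le_left.trans Subgroup.le_normalizer)
    have hBQa : B ≤ Subgroup.normalizer ((Q ⊓ Subgroup.centralizer {a} : Subgroup X) : Set X) :=
      (le_inf hBQ ((hBC a ha).trans Subgroup.le_normalizer)).trans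
        Subgroup.inf_normalizer_le_normalizer_inf
    obtain ⟨T, hT, hBT⟩ := Coprime.exists_invariant_sylow_ge (p := q) hBU
      (hcopB U (SignalizerFamily.not_dvd_of_le inf_le_left (hθ.1.2.1 a ha ha1))) (Or.inl hBsol)
      hQaU (hQ.to_le inf_le_left) hBQa
    set T' := (T : Subgroup U).map U.subtype with hT'
    have hT'N : T' ≤ Subgroup.normalizer (Q : Set X) :=
      (Subgroup.map_subtype_le _).trans inf_le_right
    have hT'Q : T' ≤ Q := by
      have h := hQmax (Q ⊔ T') (hQ.to_sup_of_normal_left' (T.isPGroup'.map _) hT'N)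
        ((le_inf hBQ hBT).trans (Components.normalizer_inf_le_normalizer_sup Q T')) le_sup_left
      exact h ▸ le_sup_right
    have hWU : Y ⊓ Subgroup.centralizer {a} ≤ U :=
      le_inf ((inf_le_inf_right _ inf_le_left).trans (SignalizerFamily.member_inf_le hR ha ha1))
        (inf_le_left.trans inf_le_right)
    have hTW : (T : Subgroup U) ≤ (Y ⊓ Subgroup.centralizer {a}).subgroupOf U := by
      intro t ht
      have htQ : (t : X) ∈ Q := hT'Q ⟨t, ht, rfl⟩
      exact ⟨⟨hle htQ, Subgroup.le_normalizer htQ⟩, hθ.1.1 a ha ha1 (inf_le_left (a := θ a) t.2)⟩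
    have hW := T.is_maximal'
      ((hRq.to_le (inf_le_left.trans inf_le_left :
        Y ⊓ Subgroup.centralizer {a} ≤ R)).comap_subtype) hTW
    intro y hy
    refine hT'Q ⟨⟨y, hWU hy⟩, ?_, rfl⟩
    rw [SetLike.mem_coe, ← hW]
    exact hy
  obtain ⟨c, hc, hcQ⟩ := SignalizerFamily.transitivity hEA hE3 hθ hqp (hmax Q₁ h₁) (hmax Q₂ h₂)
  set K := signalizerInf E θ with hK
  have hE1 : E ≠ ⊥ := SignalizerFamily.ne_bot_of_card (by norm_num) hE3
  have hKp : ¬ p ∣ Nat.card K :=
    SignalizerFamily.member_not_dvd (SignalizerFamily.signalizerInf_mem hθ le_rfl hE1)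
  have hBK : B ≤ Subgroup.normalizer (K : Set X) := by
    refine Coprime.le_normalizer_of_conj_mem fun b hb x hx => ?_
    rw [hK, signalizerInf, Subgroup.mem_iInf] at hx ⊢
    exact fun a => Coprime.conj_mem_of_le_normalizer (hBθ a a.2.1) hb (hx a)
  set M := K ⊓ Subgroup.normalizer (Q₁ : Set X) with hM
  have hBM : B ≤ Subgroup.normalizer (M : Set X) :=
    (le_inf hBK (h₁.2.1.trans Subgroup.le_normalizer)).trans
      Subgroup.inf_normalizer_le_normalizer_inf
  have hfix : ∀ {Q : Subgroup X}, B ≤ Subgroup.normalizer (Q : Set X) → ∀ {b : X}, b ∈ B →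
      Q.map (MulAut.conj b).toMonoidHom = Q :=
    fun hQ _ hb => Subgroup.mem_normalizer_iff_map_conj_eq.mp (hQ hb)
  have hc' : Q₂.map (MulAut.conj c⁻¹).toMonoidHom = Q₁ := by
    rw [← hcQ, SignalizerFamily.map_conj_conj, inv_mul_cancel, Components.map_conj_one]
  have hnorm : ∀ g : X, g ∈ Subgroup.normalizer (Q₁ : Set X) ↔
      Q₁.map (MulAut.conj g).toMonoidHom = Q₁ :=
    fun _ => Subgroup.mem_normalizer_iff_map_conj_eq
  obtain ⟨c', hc'B, hc'M⟩ := Coprime.exists_centralizer_mem_leftCoset hBM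
    (hcopB M (SignalizerFamily.not_dvd_of_le inf_le_left hKp)) (Or.inl hBsol) (k := c)
    (fun b hb => by
      refine ⟨K.mul_mem (K.inv_mem hc) (Coprime.conj_mem_of_le_normalizer hBK hb hc),
        (hnorm _).mpr ?_⟩
      rw [← SignalizerFamily.map_conj_conj, ← SignalizerFamily.map_conj_conj,
        ← SignalizerFamily.map_conj_conj, hfix h₁.2.1 (B.inv_mem hb), hcQ, hfix h₂.2.1 hb, hc'])
  refine ⟨c', hc'B, ?_⟩
  have h := (hnorm _).mp (Subgroup.mem_inf.mp hc'M).2
  conv_rhs => rw [show c' = c * (c⁻¹ * c') by group]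
  rw [← SignalizerFamily.map_conj_conj, h, hcQ]

end Cfsg.Agent.S0522
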