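import Cfsg.Statements.S0529
import Mathlib
import Cfsg.Agent.Lib.Supersolvable.Props

set_option linter.style.haveILetI false

set_option autoImplicit false
open Cfsg

namespace Cfsg.Agent.S0529

open Cfsg.Agent.Lib.Supersolvable in
theorem exists_ordered_chain (G : Type*) [Group G] [Finite G] (hG : Cfsg.IsSupersolvable G) :
    ∃ (n : ℕ) (H : Fin (n + 1) → Subgroup G), H 0 = ⊥ ∧ H (Fin.last n) = ⊤ ∧
      (∀ i, (H i).Normal) ∧
      (∀ i : Fin n, H i.castSucc ≤ H i.succ ∧ ((H i.castSucc).relIndex (H i.succ)).Prime) ∧
      ∀ i j : Fin n, i ≤ j →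
        (H j.castSucc).relIndex (H j.succ) ≤ (H i.castSucc).relIndex (H i.succ) := by
  induction hn : Nat.card G using Nat.strong_induction_on generalizing G with
  | _ n ih =>
    subst hn
    by_cases h1 : Nat.card G = 1
    · have := (Nat.card_eq_one_iff_unique.1 h1).1
      exact ⟨0, fun _ => ⊥, rfl, Subsingleton.elim _ _, fun _ => Subgroup.normal_bot,
        fun i => i.elim0, fun i => i.elim0⟩
    let p := (Nat.card G).primeFactors.max' (Nat.nonempty_primeFactors.2 (by
      have := Nat.card_pos (α := G); omega))
    have hp := Finset.max'_mem (Nat.card G).primeFactors (Nat.nonempty_primeFactors.2 (by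
      have := Nat.card_pos (α := G); omega))
    have hmax : ∀ q : ℕ, q.Prime → q ∣ Nat.card G → q ≤ p := fun q hq hqd =>
      Finset.le_max' _ q (Nat.mem_primeFactors.2 ⟨hq, hqd, Nat.card_pos.ne'⟩)
    obtain ⟨N, hN, hNc⟩ := exists_normal_card_eq_max G hG p (Nat.prime_of_mem_primeFactors hp)
      (Nat.dvd_of_mem_primeFactors hp) hmax
    have hNp : (Nat.card N).Prime := hNc ▸ Nat.prime_of_mem_primeFactors hp
    haveI := hN
    obtain ⟨m, H, h0, hl, hnor, hstep, hmono⟩ :=
      ih _ (card_quotient_lt (ne_bot_of_prime_card hNp)) (G ⧸ N) (quotient hG N) rfl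
    let f := QuotientGroup.mk' N
    have hf : Function.Surjective f := QuotientGroup.mk'_surjective N
    have hrel : ∀ a b : Subgroup (G ⧸ N), (a.comap f).relIndex (b.comap f) = a.relIndex b :=
      fun a b => by rw [Subgroup.relIndex_comap, Subgroup.map_comap_eq_self_of_surjective hf]
    have hfirst : (⊥ : Subgroup G).relIndex ((H 0).comap f) = p := by
      rw [Subgroup.relIndex_bot_left, h0, MonoidHom.comap_bot, QuotientGroup.ker_mk', hNc]
    refine ⟨m + 1, Fin.cons ⊥ (fun i => (H i).comap f), rfl, ?_, ?_, ?_, ?_⟩
    · rw [← Fin.succ_last, Fin.cons_succ, hl, Subgroup.comap_top]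
    · intro i
      induction i using Fin.cases with
      | zero => simpa using Subgroup.normal_bot
      | succ i => simpa using (hnor i).comap f
    · intro i
      induction i using Fin.cases with
      | zero =>
        simp only [Fin.castSucc_zero, Fin.cons_zero, Fin.cons_succ]
        exact ⟨bot_le, by rw [hfirst, ← hNc]; exact hNp⟩
      | succ i =>
        simp only [Fin.castSucc_succ, Fin.cons_succ, hrel]
        exact ⟨Subgroup.comap_mono (hstep i).1, (hstep i).2⟩
    · intro i j hij
      induction i using Fin.cases with
      | zero =>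
        induction j using Fin.cases with
        | zero => exact le_rfl
        | succ j =>
          simp only [Fin.castSucc_zero, Fin.castSucc_succ, Fin.cons_zero, Fin.cons_succ, hrel, hfirst]
          refine hmax _ (hstep j).2 ?_
          exact ((Subgroup.relIndex_dvd_card (H j.castSucc) (H j.succ)).trans
            (Subgroup.card_subgroup_dvd_card _)).trans (Subgroup.card_quotient_dvd_card N)
      | succ i =>
        induction j using Fin.cases with
        | zero => exact absurd hij (by simp)
        | succ j =>
          simp only [Fin.castSucc_succ, Fin.cons_succ, hrel]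
          exact hmono i j (by simpa using hij)


/-- A finite supersolvable group has a chain of normal subgroups, from the trivial subgroup to the whole group, in which every step has prime index and the primes occurring are non-increasing as one goes up the chain. -/
theorem result {G : Type*} [Group G] [Finite G] (hG : Cfsg.IsSupersolvable G) : ∃ (n : ℕ) (H : Fin (n + 1) → Subgroup G), H 0 = ⊥ ∧ H (Fin.last n) = ⊤ ∧ (∀ i, (H i).Normal) ∧ (∀ i : Fin n, H i.castSucc ≤ H i.succ ∧ ((H i.castSucc).relIndex (H i.succ)).Prime) ∧ ∀ i j : Fin n, i ≤ j → (H j.castSucc).relIndex (H j.succ) ≤ (H i.castSucc).relIndex (H i.succ) := by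
  exact exists_ordered_chain G hG

end Cfsg.Agent.S0529
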