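import Cfsg.Statements.S0530
import Mathlib
import Cfsg.Agent.Lib.Supersolvable.Props

set_option linter.style.haveILetI false

set_option autoImplicit false
open Cfsg

namespace Cfsg.Agent.S0530

open Cfsg.Agent.Lib.Supersolvable in
theorem of_card_two_mul (G : Type*) [Group G] [Finite G] (p n : ℕ) (hp : p.Prime)
    (hG : Nat.card G = 2 * p ^ n) : Cfsg.IsSupersolvable G := by
  haveI := Fact.mk hp
  induction n generalizing G with
  | zero =>
    haveI := Fact.mk Nat.prime_two
    exact of_isPGroup G (IsPGroup.of_card (p := 2) (n := 1) (by simpa using hG))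
  | succ k ih =>
    by_cases h2 : p = 2
    · subst h2
      exact of_isPGroup G (IsPGroup.of_card (p := 2) (n := k + 2) (by rw [hG]; ring))
    obtain ⟨P⟩ : Nonempty (Sylow p G) := inferInstance
    have hP : Nat.card P = p ^ (k + 1) := by
      rw [P.card_eq_multiplicity, hG, Nat.factorization_mul (by norm_num) (pow_ne_zero _ hp.ne_zero),
        Finsupp.add_apply, Nat.Prime.factorization_pow hp,
        Nat.factorization_eq_zero_of_not_dvd
          (fun h => h2 ((Nat.prime_dvd_prime_iff_eq hp Nat.prime_two).1 h))]
      simp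
    have hidx : (P : Subgroup G).index = 2 := by
      have h := (P : Subgroup G).card_mul_index
      rw [hP, hG, mul_comm 2] at h
      exact Nat.eq_of_mul_eq_mul_left (pow_pos hp.pos _) h
    haveI : (P : Subgroup G).Normal := Subgroup.normal_of_index_eq_two hidx
    haveI : Group.IsNilpotent P := P.isPGroup'.isNilpotent
    haveI : Nontrivial P := Finite.one_lt_card_iff_nontrivial.1 (hP ▸ Nat.one_lt_pow (by omega) hp.one_lt)
    have hcne : Subgroup.center P ≠ ⊥ := Group.IsNilpotent.center_ne_bot P
    have hdvd : p ∣ Nat.card (Subgroup.center P) := by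
      rcases (IsPGroup.iff_card.1 (P.isPGroup'.to_subgroup (Subgroup.center P))) with ⟨e, he⟩
      rcases e with - | e
      · exact absurd (Subgroup.card_eq_one.1 (by simpa using he)) hcne
      · exact he ▸ dvd_pow_self p (by omega)
    obtain ⟨x, hx⟩ := exists_prime_orderOf_dvd_card' p hdvd
    obtain ⟨t, ht⟩ : ∃ t : G, t ∉ (P : Subgroup G) := by
      by_contra hc
      push Not at hc
      rw [(Subgroup.eq_top_iff' _).2 hc, Subgroup.index_top] at hidx
      omega
    -- a: central element of order p, as an element of G
    have hcent : ∀ z : G, (∀ y ∈ (P : Subgroup G), y * z = z * y) →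
        ∀ w : G, ∀ y ∈ (P : Subgroup G), y * (w * z * w⁻¹) = w * z * w⁻¹ * y := by
      intro z hz w y hy
      have hy' : w⁻¹ * y * w ∈ (P : Subgroup G) := by
        simpa using (inferInstance : (P : Subgroup G).Normal).conj_mem y hy w⁻¹
      calc y * (w * z * w⁻¹) = w * ((w⁻¹ * y * w) * z) * w⁻¹ := by group
        _ = w * (z * (w⁻¹ * y * w)) * w⁻¹ := by rw [hz _ hy']
        _ = w * z * w⁻¹ * y := by group
    let a : G := ((x : P) : G)
    have ha : orderOf a = p := by
      show orderOf ((x : P) : G) = p
      rw [Subgroup.orderOf_coe, Subgroup.orderOf_coe, hx]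
    have hac : ∀ y ∈ (P : Subgroup G), y * a = a * y := fun y hy =>
      congrArg Subtype.val (Subgroup.mem_center_iff.1 x.2 ⟨y, hy⟩)
    have hacP : a ∈ (P : Subgroup G) := (x : P).2
    let b := t * a * t⁻¹
    have htt : t * t ∈ (P : Subgroup G) := Subgroup.mul_self_mem_of_index_two hidx t
    have hb : t * b * t⁻¹ = a := by
      calc t * b * t⁻¹ = (t * t) * a * (t * t)⁻¹ := by simp only [b]; group
        _ = a := by rw [hac _ htt]; group
    have hbP : b ∈ (P : Subgroup G) :=
      (inferInstance : (P : Subgroup G).Normal).conj_mem a hacP t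
    -- z: element of order p, central in P, with t z t⁻¹ a power of z
    obtain ⟨z, hz, hzc, hzt⟩ : ∃ z : G, orderOf z = p ∧
        (∀ y ∈ (P : Subgroup G), y * z = z * y) ∧ t * z * t⁻¹ ∈ Subgroup.zpowers z := by
      by_cases hab : a * b = 1
      · refine ⟨a, ha, hac, ?_⟩
        show b ∈ _
        rw [eq_inv_of_mul_eq_one_right hab]
        exact inv_mem (Subgroup.mem_zpowers a)
      · refine ⟨a * b, ?_, ?_, ?_⟩
        · refine orderOf_eq_prime ?_ hab
          have hab' : Commute a b := (hac b hbP).symm
          rw [hab'.mul_pow]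
          have h1 : a ^ p = 1 := ha ▸ pow_orderOf_eq_one a
          simp only [b, conj_pow, h1]
          group
        · intro y hy
          rw [← mul_assoc, hac y hy, mul_assoc, hcent a hac t y hy, ← mul_assoc]
        · have : t * (a * b) * t⁻¹ = a * b := by
            calc t * (a * b) * t⁻¹ = b * (t * b * t⁻¹) := by simp only [b]; group
              _ = b * a := by rw [hb]
              _ = a * b := hac b hbP
          rw [this]
          exact Subgroup.mem_zpowers _
    have hNn : (Subgroup.zpowers z).Normal := by
      have hle : ∀ g : G, g * z * g⁻¹ ∈ Subgroup.zpowers z := by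
        intro g
        by_cases hg : g ∈ (P : Subgroup G)
        · rw [hzc g hg, mul_inv_cancel_right]
          exact Subgroup.mem_zpowers z
        · have hgt : t⁻¹ * g ∈ (P : Subgroup G) := by
            rw [Subgroup.mul_mem_iff_of_index_two hidx]
            simp [hg, ht]
          have : g * z * g⁻¹ = t * z * t⁻¹ := by
            calc g * z * g⁻¹ = t * ((t⁻¹ * g) * z * (t⁻¹ * g)⁻¹) * t⁻¹ := by group
              _ = t * z * t⁻¹ := by rw [hzc _ hgt]; group
          rwa [this]
      constructor
      rintro _ ⟨m, rfl⟩ g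
      show g * z ^ m * g⁻¹ ∈ _
      rw [← conj_zpow]
      exact zpow_mem (hle g) m
    have hcardN : Nat.card (Subgroup.zpowers z) = p := by rw [Nat.card_zpowers, hz]
    haveI := hNn
    refine of_cyclic_extension (Subgroup.zpowers z) (ih (G ⧸ Subgroup.zpowers z) ?_)
    have h := Subgroup.card_eq_card_quotient_mul_card_subgroup (Subgroup.zpowers z)
    rw [hcardN, hG, pow_succ, ← mul_assoc] at h
    exact (Nat.eq_of_mul_eq_mul_right hp.pos h).symm


/-- A finite group whose order is twice a prime power is supersolvable. -/
theorem result {G : Type*} [Group G] [Finite G] (p n : ℕ) (hp : p.Prime) (hG : Nat.card G = 2 * p ^ n) : Cfsg.IsSupersolvable G := by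
  exact of_card_two_mul G p n hp hG

end Cfsg.Agent.S0530
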