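import Cfsg.Statements.S0532
import Mathlib
import Cfsg.Agent.Lib.Supersolvable.Props

set_option linter.style.haveILetI false

set_option autoImplicit false
open Cfsg

namespace Cfsg.Agent.S0532

theorem hyp_subgroup {G : Type*} [Group G] (h : ∀ H : Subgroup G, Cfsg.HasSubgroupOfEveryOrder H)
    (H : Subgroup G) : ∀ L : Subgroup H, Cfsg.HasSubgroupOfEveryOrder L := by
  intro L d hd
  let e := L.equivMapOfInjective H.subtype H.subtype_injective
  obtain ⟨K, hK⟩ := h (L.map H.subtype) d (by rwa [← Nat.card_congr e.toEquiv])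
  exact ⟨K.map e.symm.toMonoidHom,
    by rw [Subgroup.card_map_of_injective e.symm.injective, hK]⟩

theorem normal_sylow_max (G : Type*) [Group G] [Finite G]
    (h : ∀ H : Subgroup G, Cfsg.HasSubgroupOfEveryOrder H) (p : ℕ) [Fact p.Prime]
    (hdvd : p ∣ Nat.card G) (hmax : ∀ q : ℕ, q.Prime → q ∣ Nat.card G → q ≤ p)
    (P : Sylow p G) : (P : Subgroup G).Normal := by
  induction hn : Nat.card G using Nat.strong_induction_on generalizing G with
  | _ n ih =>
    subst hn
    have hp : p.Prime := Fact.out
    have h1 : Nat.card G ≠ 1 := fun e => hp.ne_one (Nat.dvd_one.1 (e ▸ hdvd))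
    have hqp : (Nat.card G).minFac.Prime := Nat.minFac_prime h1
    by_cases hpq : (Nat.card G).minFac = p
    · have hall : ∀ q : ℕ, q.Prime → q ∣ Nat.card G → q = p := fun q hq hqd =>
        le_antisymm (hmax q hq hqd) (hpq ▸ Nat.minFac_le_of_dvd hq.two_le hqd)
      have hG : IsPGroup p G :=
        IsPGroup.of_card (Nat.eq_prime_pow_of_unique_prime_dvd Nat.card_pos.ne'
          (fun {d} hd hdd => hall d hd hdd))
      have htop : (P : Subgroup G) = ⊤ :=
        (P.3 ((hG.to_subgroup ⊤)) le_top).symm
      rw [htop]; infer_instance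
    obtain ⟨K, hK⟩ := h ⊤ (Nat.card G / (Nat.card G).minFac)
      (by rw [Subgroup.card_top]; exact Nat.div_dvd_of_dvd (Nat.minFac_dvd _))
    let H : Subgroup G := K.map (⊤ : Subgroup G).subtype
    have hH : Nat.card H = Nat.card G / (Nat.card G).minFac := by
      show Nat.card (K.map (⊤ : Subgroup G).subtype) = _
      rw [Subgroup.card_map_of_injective (Subgroup.subtype_injective _), hK]
    have hidx : H.index = (Nat.card G).minFac := by
      have h2 := H.card_mul_index
      rw [hH] at h2
      have h3 := Nat.div_mul_cancel (Nat.minFac_dvd (Nat.card G))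
      have hpos : 0 < Nat.card G / (Nat.card G).minFac := hH ▸ Nat.card_pos
      exact Nat.eq_of_mul_eq_mul_left hpos (h2.trans h3.symm)
    haveI : H.Normal := Subgroup.normal_of_index_eq_minFac_card hidx
    have hlt : Nat.card H < Nat.card G := by
      rw [hH]; exact Nat.div_lt_self Nat.card_pos hqp.one_lt
    have hdvdH : p ∣ Nat.card H := by
      have h2 := H.card_mul_index
      rw [hidx] at h2
      have h3 : p ∣ Nat.card H * (Nat.card G).minFac := by rw [h2]; exact hdvd
      exact (hp.dvd_mul.1 h3).resolve_right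
        fun e => hpq ((Nat.prime_dvd_prime_iff_eq hp hqp).1 e).symm
    have hPH : (P : Subgroup G) ≤ H := by
      intro x hx
      rw [← QuotientGroup.eq_one_iff (N := H), ← orderOf_eq_one_iff]
      obtain ⟨k, hk⟩ := P.isPGroup' ⟨x, hx⟩
      have hxk : x ^ p ^ k = 1 := congrArg Subtype.val hk
      have hd1 : orderOf (x : G ⧸ H) ∣ p ^ k := by
        rw [orderOf_dvd_iff_pow_eq_one, ← QuotientGroup.mk_pow, hxk, QuotientGroup.mk_one]
      have hd2 : orderOf (x : G ⧸ H) ∣ (Nat.card G).minFac := hidx ▸ orderOf_dvd_natCard _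
      have hco : ((Nat.card G).minFac).Coprime (p ^ k) :=
        ((Nat.coprime_primes hqp hp).2 hpq).pow_right k
      exact Nat.eq_one_of_dvd_coprimes hco hd2 hd1
    have ih' := ih _ hlt H (hyp_subgroup h H) hdvdH
      (fun r hr hrd => hmax r hr (hrd.trans (Subgroup.card_subgroup_dvd_card H)))
      (P.subtype hPH) rfl
    haveI := ih'
    have := Cfsg.Agent.Lib.Supersolvable.normal_of_normal_sylow (M := H) (P.subtype hPH)
    rwa [Sylow.coe_subtype, Subgroup.map_subgroupOf_eq_of_le hPH] at this


/-- If each subgroup of a finite group satisfies the converse of Lagrange's theorem, then a Sylow subgroup for the largest prime dividing the group order is normal. -/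
theorem result {G : Type*} [Group G] [Finite G] (h : ∀ H : Subgroup G, Cfsg.HasSubgroupOfEveryOrder H) (p : ℕ) [Fact p.Prime] (hdvd : p ∣ Nat.card G) (hmax : ∀ q : ℕ, q.Prime → q ∣ Nat.card G → q ≤ p) (P : Sylow p G) : (P : Subgroup G).Normal := by
  exact normal_sylow_max G h p hdvd hmax P

end Cfsg.Agent.S0532
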