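import Cfsg.Statements.S0533
import Mathlib
import Cfsg.Agent.Lib.Supersolvable.Props
import Cfsg.Agent.Lib.Supersolvable.MinNormal
import Cfsg.Agent.S0532

set_option linter.style.haveILetI false

set_option autoImplicit false
open Cfsg

namespace Cfsg.Agent.S0533

open Cfsg.Agent.Lib.Supersolvable in
theorem step_lemma (G : Type*) [Group G] [Finite G] (p : ℕ) [Fact p.Prime] (P M : Subgroup G)
    [P.Normal] (hP : IsPGroup p P) (hPM : P ⊔ M = ⊤) (hM : Cfsg.IsSupersolvable M)
    (hidx : M.index = p) (hQ : Cfsg.IsSupersolvable (G ⧸ P)) : Cfsg.IsSupersolvable G := by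
  induction hn : Nat.card G using Nat.strong_induction_on generalizing G with
  | _ n ih =>
    subst hn
    have hp : p.Prime := Fact.out
    let P₀ : Subgroup G := P ⊓ M
    have hrel : P₀.relIndex P = p := by
      show (P ⊓ M).relIndex P = p
      rw [Subgroup.inf_relIndex_left, ← hidx, ← relIndex_mul_sup_index M P, sup_comm, hPM,
        Subgroup.index_top, mul_one]
    have hP₀ : P₀.Normal := by
      rw [← Subgroup.normalizer_eq_top_iff, eq_top_iff, ← hPM, sup_le_iff]
      constructor
      · have : (P₀.subgroupOf P).Normal := by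
          haveI : Finite P := inferInstance
          refine Subgroup.normal_of_index_eq_minFac_card ?_
          show P₀.relIndex P = _
          rw [hrel]
          obtain ⟨e, he⟩ := IsPGroup.iff_card.1 hP
          rw [he]
          rcases e with - | e
          · exfalso
            have h2 := Subgroup.relIndex_dvd_card P₀ P
            rw [hrel, he, pow_zero, Nat.dvd_one] at h2
            exact hp.ne_one h2
          · rw [Nat.pow_minFac (by omega), hp.minFac_eq]
        exact (Subgroup.normal_subgroupOf_iff_le_normalizer inf_le_left).1 this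
      · exact (Subgroup.normal_subgroupOf_iff_le_normalizer inf_le_right).1
          ((inferInstance : P.Normal).subgroupOf M |> fun h => by
            rwa [show P₀.subgroupOf M = P.subgroupOf M from Subgroup.inf_subgroupOf_right P M])
    by_cases hbot : P₀ = ⊥
    · have hc : Nat.card P = p := by
        rw [← Subgroup.relIndex_bot_left P, ← hbot, hrel]
      haveI : IsCyclic P := isCyclic_of_prime_card hc
      exact of_cyclic_extension P hQ
    haveI := hP₀
    haveI : Group.IsNilpotent P := hP.isNilpotent
    -- the part of the centre of P inside P₀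
    let Z : Subgroup G := P₀ ⊓ Subgroup.centralizer (P : Set G)
    have hZne : Z ≠ ⊥ := by
      intro hZ
      have hne' : P₀.subgroupOf P ≠ ⊥ := by
        rw [Ne, Subgroup.subgroupOf_eq_bot, disjoint_iff, inf_eq_left.2 (inf_le_left : P₀ ≤ P)]
        exact hbot
      have hfix : ∃ x : P, x ∈ P₀.subgroupOf P ∧ x ∈ Subgroup.center P ∧ x ≠ 1 := by
        let α := ↥(P₀.subgroupOf P)
        have hdvd : p ∣ Nat.card α := by
          rcases IsPGroup.iff_card.1 (hP.to_subgroup (P₀.subgroupOf P)) with ⟨e, he⟩
          rcases e with - | e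
          · exact absurd (Subgroup.card_eq_one.1 (by simpa using he)) hne'
          · exact he ▸ dvd_pow_self p (by omega)
        obtain ⟨b, hb, hb1⟩ := (hP.of_equiv ConjAct.toConjAct).exists_fixed_point_of_prime_dvd_card_of_fixed_point
          α hdvd (a := 1) (fun g => smul_one g)
        refine ⟨b, b.2, Subgroup.mem_center_iff.2 fun g => ?_, fun e => hb1 (Subtype.ext e.symm)⟩
        have := congrArg Subtype.val (hb (ConjAct.toConjAct g))
        rw [ConjAct.Subgroup.val_conj_smul, ConjAct.toConjAct_smul] at this
        exact mul_inv_eq_iff_eq_mul.1 this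
      obtain ⟨x, hx₀, hxc, hx1⟩ := hfix
      refine hx1 (Subtype.ext ((Subgroup.eq_bot_iff_forall _).1 hZ _
        ⟨hx₀, Subgroup.mem_centralizer_iff.2 ?_⟩))
      intro y hy
      exact congrArg Subtype.val (Subgroup.mem_center_iff.1 hxc ⟨y, hy⟩)
    have hZM : Z ≤ M := inf_le_left.trans inf_le_right
    haveI hZn : Z.Normal := by
      haveI : (Subgroup.centralizer (P : Set G)).Normal := inferInstance
      infer_instance
    -- a normal subgroup of M of prime order inside Z
    have key : ∀ K : Subgroup M, Reach ⊥ K → K ⊓ Z.subgroupOf M = ⊥ ∨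
        ∃ N : Subgroup M, N.Normal ∧ N ≤ Z.subgroupOf M ∧ (Nat.card N).Prime := by
      intro K hK
      induction hK with
      | refl => exact Or.inl (bot_inf_eq _)
      | @tail A B _ hs ihK =>
        rcases ihK with hA | hA
        · by_cases hB : B ⊓ Z.subgroupOf M = ⊥
          · exact Or.inl hB
          obtain ⟨hAn, hBn, g, hg⟩ := hs
          let f := (QuotientGroup.mk' A).comp (B ⊓ Z.subgroupOf M).subtype
          have hf : Function.Injective f := by
            rw [← MonoidHom.ker_eq_bot_iff, Subgroup.eq_bot_iff_forall]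
            intro x hx
            have hxA : (x : M) ∈ A := (QuotientGroup.eq_one_iff _).1 hx
            exact Subtype.ext ((Subgroup.eq_bot_iff_forall _).1 hA _ ⟨hxA, x.2.2⟩)
          have hle : f.range ≤ Subgroup.zpowers (g : M ⧸ A) := by
            rintro _ ⟨x, rfl⟩
            have h2 := Subgroup.mem_map_of_mem (QuotientGroup.mk' A) (hg ▸ x.2.1 : (x : M) ∈ A ⊔ Subgroup.zpowers g)
            rwa [Subgroup.map_sup, QuotientGroup.map_mk'_self, bot_sup_eq, MonoidHom.map_zpowers] at h2
          haveI : IsCyclic f.range := Subgroup.isCyclic_of_le hle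
          haveI : IsCyclic ↥(B ⊓ Z.subgroupOf M) :=
            isCyclic_of_surjective (MonoidHom.ofInjective hf).symm (MulEquiv.surjective _)
          obtain ⟨q, hq, hqd⟩ := Nat.exists_prime_and_dvd
            (fun h => hB (Subgroup.card_eq_one.1 h) : Nat.card ↥(B ⊓ Z.subgroupOf M) ≠ 1)
          haveI := Fact.mk hq
          obtain ⟨x, hx⟩ := exists_prime_orderOf_dvd_card' q hqd
          haveI := hBn
          haveI : (Z.subgroupOf M).Normal := hZn.subgroupOf M
          refine Or.inr ⟨Subgroup.zpowers (x : M), normal_of_le_cyclic_normal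
            (C := B ⊓ Z.subgroupOf M) (by rw [Subgroup.zpowers_le]; exact x.2),
            by rw [Subgroup.zpowers_le]; exact x.2.2, ?_⟩
          rwa [Nat.card_zpowers, Subgroup.orderOf_coe, hx]
        · exact Or.inr hA
    have hne : Z.subgroupOf M ≠ ⊥ := by
      rw [Ne, Subgroup.subgroupOf_eq_bot, disjoint_iff, inf_eq_left.2 hZM]
      exact hZne
    obtain ⟨N₁, hN₁, hN₁le, hN₁c⟩ :=
      (key ⊤ (isSupersolvable_iff.1 hM)).resolve_left (by rwa [top_inf_eq])
    let N : Subgroup G := N₁.map M.subtype
    have hNc : (Nat.card N).Prime := by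
      show (Nat.card (N₁.map M.subtype)).Prime
      rwa [Subgroup.card_map_of_injective M.subtype_injective]
    have hNZ : N ≤ Z := by
      rintro _ ⟨x, hx, rfl⟩
      exact hN₁le hx
    have hNn : N.Normal := by
      rw [← Subgroup.normalizer_eq_top_iff, eq_top_iff, ← hPM, sup_le_iff]
      refine ⟨fun g hg => ?_, ?_⟩
      · rw [Subgroup.mem_normalizer_iff]
        intro x
        constructor
        · intro hx
          have : g * x = x * g :=
            Subgroup.mem_centralizer_iff.1 ((hNZ hx).2) g hg
          rwa [this, mul_inv_cancel_right]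
        · intro hx
          have h2 : g * (g * x * g⁻¹) = g * x * g⁻¹ * g :=
            Subgroup.mem_centralizer_iff.1 ((hNZ hx).2) g hg
          have h3 : g * x * g⁻¹ = x := by
            calc g * x * g⁻¹ = g⁻¹ * (g * (g * x * g⁻¹)) := by group
              _ = x := by rw [h2]; group
          rwa [h3] at hx
      · intro m hm
        rw [Subgroup.mem_normalizer_iff]
        intro x
        constructor
        · rintro ⟨y, hy, rfl⟩
          exact ⟨_, hN₁.conj_mem y hy ⟨m, hm⟩, rfl⟩
        · rintro ⟨y, hy, he⟩
          refine ⟨_, hN₁.conj_mem y hy ⟨m, hm⟩⁻¹, ?_⟩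
          simp only [Subgroup.coe_subtype, Subgroup.coe_mul, InvMemClass.coe_inv, inv_inv] at he ⊢
          rw [he]; group
    haveI := hNn
    have hNM : N ≤ M := hNZ.trans hZM
    have hNP : N ≤ P := hNZ.trans (inf_le_left.trans inf_le_left)
    haveI : IsCyclic N := isCyclic_of_prime_card' hNc
    refine of_cyclic_extension N ?_
    let f := QuotientGroup.mk' N
    have hfs : Function.Surjective f := QuotientGroup.mk'_surjective N
    haveI : (P.map f).Normal := (inferInstance : P.Normal).map f hfs
    refine ih _ (card_quotient_lt (ne_bot_of_prime_card hNc)) (G ⧸ N) (P.map f) (M.map f)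
      (hP.map f) ?_ ?_ ?_ ?_ rfl
    · rw [← Subgroup.map_sup, hPM, Subgroup.map_top_of_surjective f hfs]
    · exact of_surjective hM (f.subgroupMap M) (f.subgroupMap_surjective M)
    · rw [Subgroup.index_map_eq M hfs (by rwa [QuotientGroup.ker_mk']), hidx]
    · exact of_mulEquiv hQ (QuotientGroup.quotientQuotientEquivQuotient N P hNP).symm

open Cfsg.Agent.Lib.Supersolvable in
theorem isSupersolvable_of_all (G : Type*) [Group G] [Finite G]
    (h : ∀ H : Subgroup G, Cfsg.HasSubgroupOfEveryOrder H) : Cfsg.IsSupersolvable G := by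
  induction hn : Nat.card G using Nat.strong_induction_on generalizing G with
  | _ n ih =>
    subst hn
    by_cases h1 : Nat.card G = 1
    · have := (Nat.card_eq_one_iff_unique.1 h1).1
      exact of_subsingleton
    have hne : (Nat.card G).primeFactors.Nonempty := Nat.nonempty_primeFactors.2 (by
      have := Nat.card_pos (α := G); omega)
    let p := (Nat.card G).primeFactors.max' hne
    have hpm := Finset.max'_mem _ hne
    haveI : Fact p.Prime := ⟨Nat.prime_of_mem_primeFactors hpm⟩
    have hp : p.Prime := Fact.out
    have hdvd : p ∣ Nat.card G := Nat.dvd_of_mem_primeFactors hpm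
    obtain ⟨P⟩ : Nonempty (Sylow p G) := inferInstance
    haveI hPn : (P : Subgroup G).Normal := Cfsg.Agent.S0532.normal_sylow_max G h p hdvd
      (fun q hq hqd => Finset.le_max' _ q (Nat.mem_primeFactors.2 ⟨hq, hqd, Nat.card_pos.ne'⟩)) P
    have hPne : (P : Subgroup G) ≠ ⊥ := P.ne_bot_of_dvd_card hdvd
    obtain ⟨K, hK⟩ := h ⊤ (Nat.card G / p)
      (by rw [Subgroup.card_top]; exact Nat.div_dvd_of_dvd hdvd)
    let M : Subgroup G := K.map (⊤ : Subgroup G).subtype
    have hMc : Nat.card M = Nat.card G / p := by
      show Nat.card (K.map (⊤ : Subgroup G).subtype) = _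
      rw [Subgroup.card_map_of_injective (Subgroup.subtype_injective _), hK]
    have hidx : M.index = p := by
      have h2 := M.card_mul_index
      rw [hMc] at h2
      exact Nat.eq_of_mul_eq_mul_left (hMc ▸ Nat.card_pos) (h2.trans (Nat.div_mul_cancel hdvd).symm)
    have hM : Cfsg.IsSupersolvable M := ih _ (by rw [hMc]; exact Nat.div_lt_self Nat.card_pos hp.one_lt)
      M (Cfsg.Agent.S0532.hyp_subgroup h M) rfl
    have hPM : (P : Subgroup G) ⊔ M = ⊤ := by
      rw [← Subgroup.index_eq_one]
      have hco : ((P : Subgroup G).index).Coprime p :=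
        (hp.coprime_iff_not_dvd.2 P.not_dvd_index).symm
      exact Nat.eq_one_of_dvd_coprimes hco (Subgroup.index_dvd_of_le le_sup_left)
        ((Subgroup.index_dvd_of_le le_sup_right).trans hidx.dvd)
    obtain ⟨C, hC⟩ := Subgroup.exists_right_complement'_of_coprime P.card_coprime_index
    have hCc : Nat.card C < Nat.card G := by
      rw [← hC.symm.index_eq_card]
      have h2 := (P : Subgroup G).card_mul_index
      have h3 : 1 < Nat.card P := by
        rw [P.card_eq_multiplicity]
        exact Nat.one_lt_pow (hp.factorization_pos_of_dvd Nat.card_pos.ne' hdvd).ne' hp.one_lt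
      have h4 : 0 < (P : Subgroup G).index := Nat.pos_of_ne_zero (P : Subgroup G).index_ne_zero_of_finite
      calc (P : Subgroup G).index < Nat.card P * (P : Subgroup G).index := lt_mul_of_one_lt_left h4 h3
        _ = Nat.card G := h2
    have hCs : Cfsg.IsSupersolvable C := ih _ hCc C (Cfsg.Agent.S0532.hyp_subgroup h C) rfl
    exact step_lemma G p P M P.isPGroup' hPM hM hidx (of_mulEquiv hCs hC.symm.QuotientMulEquiv.symm)


/-- If every subgroup of a finite group has subgroups of all orders dividing its order, then the group is supersolvable. -/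
theorem result {G : Type*} [Group G] [Finite G] (h : ∀ H : Subgroup G, Cfsg.HasSubgroupOfEveryOrder H) : Cfsg.IsSupersolvable G := by
  exact isSupersolvable_of_all G h

end Cfsg.Agent.S0533
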