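import Cfsg.Statements.S0534
import Mathlib
import Cfsg.Agent.Lib.Supersolvable.Props
import Cfsg.Agent.Lib.Hall.Solvable

set_option linter.style.haveILetI false

set_option autoImplicit false
open Cfsg

namespace Cfsg.Agent.S0534

/-- Let G be a finite solvable group and A a finite abelian group such that every prime dividing the order of A divides the order of G and, for each prime p dividing the order of G, the exponent of p in the order of A is one less than its exponent in the order of G. Then G × A has a subgroup of every order dividing its order. -/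
theorem result {G A : Type*} [Group G] [CommGroup A] [Finite G] [Finite A] [Group.IsSolvable G] (hA : ∀ p : ℕ, p.Prime → p ∣ Nat.card A → p ∣ Nat.card G) (hexp : ∀ p : ℕ, p.Prime → p ∣ Nat.card G → (Nat.card A).factorization p + 1 = (Nat.card G).factorization p) : Cfsg.HasSubgroupOfEveryOrder (G × A) := by
  intro d hd
  rw [Nat.card_prod] at hd
  have hG0 : Nat.card G ≠ 0 := Nat.card_pos.ne'
  have hA0 : Nat.card A ≠ 0 := Nat.card_pos.ne'
  have hd0 : d ≠ 0 := ne_zero_of_dvd_ne_zero (mul_ne_zero hG0 hA0) hd
  have hle : ∀ p, d.factorization p ≤ (Nat.card G).factorization p + (Nat.card A).factorization p := by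
    intro p
    have := (Nat.factorization_le_iff_dvd hd0 (mul_ne_zero hG0 hA0)).2 hd p
    rwa [Nat.factorization_mul hG0 hA0, Finsupp.add_apply] at this
  let π : Set ℕ := {p | (Nat.card G).factorization p ≤ d.factorization p}
  obtain ⟨H, hH⟩ := Cfsg.Agent.Lib.Hall.exists_isPiHall (G := G) π
  obtain ⟨hH1, hH2⟩ := (Cfsg.Agent.Lib.Hall.isPiHall_iff H).1 hH
  have hH0 : Nat.card H ≠ 0 := Nat.card_pos.ne'
  have hi0 : H.index ≠ 0 := Subgroup.index_ne_zero_of_finite
  have hfac : ∀ p, (Nat.card H).factorization p + H.index.factorization p =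
      (Nat.card G).factorization p := by
    intro p
    rw [← H.card_mul_index, Nat.factorization_mul hH0 hi0, Finsupp.add_apply]
  have hHp : ∀ p, p.Prime → (Nat.card H).factorization p =
      if p ∈ π then (Nat.card G).factorization p else 0 := by
    intro p hp
    split_ifs with hpπ
    · have : H.index.factorization p = 0 := Nat.factorization_eq_zero_of_not_dvd
        fun h => hH2 p hp h hpπ
      have := hfac p
      omega
    · exact Nat.factorization_eq_zero_of_not_dvd fun h => hpπ (hH1 p hp h)
  have hdvd : Nat.card H ∣ d := by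
    rw [← Nat.factorization_le_iff_dvd hH0 hd0]
    intro p
    by_cases hp : p.Prime
    · rw [hHp p hp]
      split_ifs with hpπ
      · exact hpπ
      · exact Nat.zero_le _
    · simp [Nat.factorization_eq_zero_of_not_prime _ hp]
  obtain ⟨e, rfl⟩ := hdvd
  have he0 : e ≠ 0 := fun h => hd0 (by rw [h, mul_zero])
  have heA : e ∣ Nat.card A := by
    rw [← Nat.factorization_le_iff_dvd he0 hA0]
    intro p
    by_cases hp : p.Prime
    swap
    · simp [Nat.factorization_eq_zero_of_not_prime _ hp]
    have h1 := hle p
    have h2 := hHp p hp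
    rw [Nat.factorization_mul hH0 he0, Finsupp.add_apply] at h1
    by_cases hpπ : p ∈ π
    · rw [if_pos hpπ] at h2
      omega
    · rw [if_neg hpπ] at h2
      have h3 : ¬ (Nat.card G).factorization p ≤ (Nat.card H * e).factorization p := hpπ
      rw [Nat.factorization_mul hH0 he0, Finsupp.add_apply] at h3
      have hpG : p ∣ Nat.card G := Nat.dvd_of_factorization_pos (by omega)
      have h4 := hexp p hp hpG
      omega
  haveI : Group.IsNilpotent A := inferInstance
  obtain ⟨B, hB⟩ := Cfsg.Agent.Lib.Supersolvable.hasSubgroupOfEveryOrder A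
    (Cfsg.Agent.Lib.Supersolvable.of_isNilpotent A) e heA
  exact ⟨H.prod B, by rw [Nat.card_congr (Subgroup.prodEquiv H B).toEquiv, Nat.card_prod, hB]⟩

end Cfsg.Agent.S0534
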