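import Cfsg.Statements.S0535
import Mathlib
import Cfsg.Agent.Lib.Hall.Factor

set_option linter.style.haveILetI false

set_option autoImplicit false
open Cfsg

namespace Cfsg.Agent.S0535

theorem isSolvable_of_prime_power_index (G : Type*) [Group G] [Finite G]
    (h : ∀ H : Subgroup G, H ≠ ⊥ → ∀ p : ℕ, p.Prime → p ∣ Nat.card H →
      ∃ K : Subgroup H, K ≠ ⊤ ∧ ∃ k : ℕ, K.index = p ^ k) : Group.IsSolvable G := by
  induction hn : Nat.card G using Nat.strong_induction_on generalizing G with
  | _ n ih =>
    subst hn
    have hsub : ∀ H : Subgroup G, H ≠ ⊤ → Group.IsSolvable H := by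
      intro H hH
      refine ih (Nat.card H) (lt_of_le_of_ne H.card_le_card_group fun e =>
        hH (Subgroup.eq_top_of_card_eq H e)) H (fun L hL p hp hd => ?_) rfl
      let e := L.equivMapOfInjective H.subtype H.subtype_injective
      obtain ⟨K, hK, k, hk⟩ := h (L.map H.subtype) (by
        rwa [Ne, Subgroup.map_eq_bot_iff_of_injective _ H.subtype_injective]) p hp
        (by rwa [← Nat.card_congr e.toEquiv])
      refine ⟨K.comap e.toMonoidHom, fun ht => hK ?_, k, by
        rw [Subgroup.index_comap_of_surjective _ e.surjective, hk]⟩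
      rw [← Subgroup.map_comap_eq_self_of_surjective (f := e.toMonoidHom) e.surjective K, ht,
        Subgroup.map_top_of_surjective _ e.surjective]
    have hidx : ∀ p : ℕ, p.Prime → p ∣ Nat.card G → ∃ M : Subgroup G,
        Group.IsSolvable M ∧ ∃ k, M.index = p ^ k := by
      intro p hp hd
      have hne : (⊤ : Subgroup G) ≠ ⊥ := fun e => hp.ne_one (Nat.dvd_one.1 (by
        rwa [← Subgroup.card_top (G := G), e, Subgroup.card_bot] at hd))
      obtain ⟨K, hK, k, hk⟩ := h ⊤ hne p hp (by rwa [Subgroup.card_top])
      refine ⟨K.map (⊤ : Subgroup G).subtype, hsub _ fun e => hK ?_, k, ?_⟩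
      · apply Subgroup.map_injective (Subgroup.subtype_injective (⊤ : Subgroup G))
        rw [e, ← MonoidHom.range_eq_map, Subgroup.range_subtype]
      · rw [Subgroup.index_map_subtype, Subgroup.index_top, mul_one, hk]
    have hs0 : Nat.card G ≠ 0 := Nat.card_pos.ne'
    have cop : ∀ p q : ℕ, p.Prime → q.Prime → p ≠ q → ∀ A B : Subgroup G,
        (∃ k, A.index = p ^ k) → (∃ k, B.index = q ^ k) → A.index.Coprime B.index := by
      rintro p q hp hq hpq A B ⟨k, hk⟩ ⟨l, hl⟩
      rw [hk, hl]
      exact ((Nat.coprime_primes hp hq).2 hpq).pow _ _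
    by_cases hcard : (Nat.card G).primeFactors.card ≤ 2
    · by_cases h0 : (Nat.card G).primeFactors = ∅
      · rcases Nat.primeFactors_eq_empty.1 h0 with e | e
        · exact absurd e hs0
        · haveI := (Nat.card_eq_one_iff_unique.1 e).1
          infer_instance
      obtain ⟨p, hp⟩ := Finset.nonempty_iff_ne_empty.2 h0
      obtain ⟨q, hq, hsub'⟩ : ∃ q ∈ (Nat.card G).primeFactors,
          ∀ r ∈ (Nat.card G).primeFactors, r = p ∨ r = q := by
        by_contra hc
        push Not at hc
        obtain ⟨r, hr, hrp, -⟩ := hc p hp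
        obtain ⟨s, hs, hsp, hsr⟩ := hc r hr
        have h3 : ({p, r, s} : Finset ℕ) ⊆ (Nat.card G).primeFactors := by
          intro x hx
          simp only [Finset.mem_insert, Finset.mem_singleton] at hx
          rcases hx with rfl | rfl | rfl <;> assumption
        have h4 := Finset.card_le_card h3
        rw [Finset.card_insert_of_notMem (by simp [Ne.symm hrp, Ne.symm hsp]),
          Finset.card_insert_of_notMem (by simpa using Ne.symm hsr), Finset.card_singleton] at h4
        omega
      obtain ⟨hpp, -, -⟩ := Nat.mem_primeFactors.1 hp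
      obtain ⟨hqp, -, -⟩ := Nat.mem_primeFactors.1 hq
      by_cases hpq : q = p
      · have hG : IsPGroup p G := IsPGroup.of_card (Nat.eq_prime_pow_of_unique_prime_dvd hs0
          (fun {d} hd hdd => (hsub' d (Nat.mem_primeFactors.2 ⟨hd, hdd, hs0⟩)).elim id
            fun e => e.trans hpq))
        haveI := Fact.mk hpp
        haveI := hG.isNilpotent
        infer_instance
      · have hfac : (Nat.card G).primeFactors = {p, q} := by
          ext r
          simp only [Finset.mem_insert, Finset.mem_singleton]
          exact ⟨hsub' r, fun hr => hr.elim (fun e => e ▸ hp) (fun e => e ▸ hq)⟩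
        refine Cfsg.Agent.Lib.Burnside.isSolvable_of_card_eq_prime_pow_mul (G := G) hpp hqp
          (a := (Nat.card G).factorization p) (b := (Nat.card G).factorization q) ?_
        conv_lhs => rw [← Nat.prod_factorization_pow_eq_self hs0]
        rw [Finsupp.prod, Nat.support_factorization, hfac, Finset.prod_pair (Ne.symm hpq)]
    · obtain ⟨p, hp, q, hq, r, hr, hpq, hpr, hqr⟩ :=
        Finset.two_lt_card.1 (not_le.1 hcard)
      rw [Nat.mem_primeFactors] at hp hq hr
      obtain ⟨A, hA, hAi⟩ := hidx p hp.1 hp.2.1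
      obtain ⟨B, hB, hBi⟩ := hidx q hq.1 hq.2.1
      obtain ⟨C, hC, hCi⟩ := hidx r hr.1 hr.2.1
      exact Cfsg.Agent.Lib.Hall.isSolvable_of_three A B C hA hB hC
        (Cfsg.Agent.Lib.Hall.exists_mul_of_coprime_index A B (cop p q hp.1 hq.1 hpq A B hAi hBi))
        (Cfsg.Agent.Lib.Hall.exists_mul_of_coprime_index A C (cop p r hp.1 hr.1 hpr A C hAi hCi))
        (cop q r hq.1 hr.1 hqr B C hBi hCi)


/-- Suppose that for every nontrivial subgroup H of a finite group and every prime p dividing the order of H there is a proper subgroup of H whose index in H is a power of p. Then the group is solvable. -/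
theorem result {G : Type*} [Group G] [Finite G] (h : ∀ H : Subgroup G, H ≠ ⊥ → ∀ p : ℕ, p.Prime → p ∣ Nat.card H → ∃ K : Subgroup H, K ≠ ⊤ ∧ ∃ k : ℕ, K.index = p ^ k) : Group.IsSolvable G := by
  exact isSolvable_of_prime_power_index G h

end Cfsg.Agent.S0535
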