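import Cfsg.Statements.S0537
import Mathlib
import Cfsg.Agent.Lib.Supersolvable.Schmidt

set_option linter.style.haveILetI false

set_option autoImplicit false
open Cfsg

namespace Cfsg.Agent.S0537

open Cfsg.Agent.Lib.Supersolvable in
theorem structure_of_all_abelian {G : Type*} [Group G] [Finite G] (hna : ¬ IsMulCommutative G)
    (h : ∀ H : Subgroup G, H ≠ ⊤ → IsMulCommutative H) :
    (∃ p : ℕ, p.Prime ∧ IsPGroup p G) ∨ ∃ p q : ℕ, p.Prime ∧ q.Prime ∧ p ≠ q ∧
      ∃ (P : Sylow p G) (Q : Sylow q G), IsCyclic P ∧ (Q : Subgroup G).Normal ∧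
        Cfsg.IsElementaryAbelian q (Q : Subgroup G) ∧ (P : Subgroup G) ⊔ Q = ⊤ := by
  have hnil : ∀ H : Subgroup G, H ≠ ⊤ → Group.IsNilpotent H := fun H hH => by
    haveI := h H hH
    letI : CommGroup H := { (inferInstance : Group H) with mul_comm := mul_comm' }
    infer_instance
  by_cases hG : Group.IsNilpotent G
  · refine Or.inl ?_
    by_contra hc
    push Not at hc
    refine hna ⟨⟨fun a b => ?_⟩⟩
    have hall := isNilpotent_iff_all_sylow_normal.1 hG
    have hcen : Subgroup.center G = ⊤ := by
      refine Cfsg.Agent.Lib.Fitting.eq_top_of_sylow_le fun r hr => ?_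
      haveI := Fact.mk hr
      obtain ⟨R⟩ : Nonempty (Sylow r G) := inferInstance
      refine ⟨R, fun x hx => ?_⟩
      have hRtop : (R : Subgroup G) ≠ ⊤ := fun e => hc r hr (fun y => by
        obtain ⟨k, hk⟩ := R.isPGroup' ⟨y, e ▸ Subgroup.mem_top y⟩
        exact ⟨k, congrArg Subtype.val hk⟩)
      rw [← Subgroup.centralizer_univ, ← Subgroup.coe_top]
      have hle : (⊤ : Subgroup G) ≤ Subgroup.centralizer ((R : Subgroup G) : Set G) := by
        refine (Cfsg.Agent.Lib.Fitting.eq_top_of_sylow_le fun s hs => ?_).ge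
        haveI := Fact.mk hs
        obtain ⟨T⟩ : Nonempty (Sylow s G) := inferInstance
        by_cases e : s = r
        · subst e
          exact ⟨R, @Subgroup.le_centralizer _ _ (R : Subgroup G) (h _ hRtop)⟩
        · refine ⟨T, fun y hy => Subgroup.mem_centralizer_iff.2 fun z hz => ?_⟩
          exact (Subgroup.commute_of_normal_of_disjoint _ _ (hall s ⟨hs⟩ T) (hall r ⟨hr⟩ R)
            (IsPGroup.disjoint_of_ne s r e _ _ T.isPGroup' R.isPGroup') y z hy hz).symm
      exact Subgroup.le_centralizer_iff.1 hle hx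
    exact (Subgroup.mem_center_iff.1 (hcen ▸ Subgroup.mem_top b) a)
  · refine Or.inr ?_
    obtain ⟨p, q, hp, hq, hpq, P, Q, hcyc, hQn, hPQ, hPn⟩ := exists_schmidt_structure hG hnil
    haveI := Fact.mk hp
    haveI := Fact.mk hq
    haveI := hQn
    refine ⟨p, q, hp, hq, hpq, P, Q, hcyc, hQn, ?_, hPQ⟩
    have hQtop : (Q : Subgroup G) ≠ ⊤ := fun e => hPn (by
      have : (P : Subgroup G) = ⊥ := by
        have hd := IsPGroup.disjoint_of_ne p q hpq _ _ P.isPGroup' Q.isPGroup'
        rwa [e, disjoint_top] at hd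
      rw [this]; infer_instance)
    haveI hQc := h _ hQtop
    refine ⟨hQc, ?_⟩
    let A : Subgroup G :=
      { carrier := {a : G | a ∈ (Q : Subgroup G) ∧ a ^ q = 1}
        one_mem' := ⟨one_mem _, one_pow q⟩
        mul_mem' := fun {a b} ha hb => ⟨mul_mem ha.1 hb.1, by
          have hc : Commute a b :=
            congrArg Subtype.val (mul_comm' (⟨a, ha.1⟩ : (Q : Subgroup G)) ⟨b, hb.1⟩)
          rw [hc.mul_pow, ha.2, hb.2, one_mul]⟩
        inv_mem' := fun {a} ha => ⟨inv_mem ha.1, by rw [inv_pow, ha.2, inv_one]⟩ }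
    haveI hA : A.Normal := by
      constructor
      intro a ha g
      exact ⟨hQn.conj_mem a ha.1 g, by rw [conj_pow, ha.2, mul_one, mul_inv_cancel]⟩
    by_contra hne
    push Not at hne
    obtain ⟨b, hb, hbq⟩ := hne
    have htop : (P : Subgroup G) ⊔ A ≠ ⊤ := by
      intro e
      obtain ⟨y, hy, a, ha, hya⟩ := Subgroup.mem_sup_of_normal_right.1
        (e ▸ Subgroup.mem_top b : b ∈ (P : Subgroup G) ⊔ A)
      have hyQ : y ∈ (Q : Subgroup G) := by
        have : y = b * a⁻¹ := by rw [← hya]; group
        rw [this]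
        exact mul_mem hb (inv_mem ha.1)
      have hy1 : y = 1 := Subgroup.disjoint_def.1
        (IsPGroup.disjoint_of_ne p q hpq _ _ P.isPGroup' Q.isPGroup') hy hyQ
      rw [hy1, one_mul] at hya
      exact hbq (hya ▸ ha.2)
    haveI := h _ htop
    -- P centralises A, hence Q
    have hfix : ∀ (k : ℕ), ∀ a ∈ (Q : Subgroup G), a ^ q ^ k = 1 → ∀ x ∈ (P : Subgroup G),
        x * a = a * x := by
      intro k
      induction k with
      | zero =>
        intro a _ h1 x _
        rw [pow_zero, pow_one] at h1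
        rw [h1, mul_one, one_mul]
      | succ k ihk =>
        intro a ha h1 x hx
        have hxa : x * a ^ q = a ^ q * x :=
          ihk (a ^ q) (pow_mem ha q) (by rwa [← pow_mul, ← pow_succ']) x hx
        -- c = [x,a] has order dividing q and is fixed by x
        let c := a⁻¹ * (x * a * x⁻¹)
        have hcQ : c ∈ (Q : Subgroup G) := mul_mem (inv_mem ha) (hQn.conj_mem a ha x)
        have hcc : Commute a⁻¹ (x * a * x⁻¹) := congrArg Subtype.val
          (mul_comm' (⟨a⁻¹, inv_mem ha⟩ : (Q : Subgroup G)) ⟨_, hQn.conj_mem a ha x⟩)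
        have hcA : c ∈ A := ⟨hcQ, by
          show (a⁻¹ * (x * a * x⁻¹)) ^ q = 1
          rw [hcc.mul_pow, conj_pow, hxa]
          group⟩
        have hxc : x * c = c * x := congrArg Subtype.val
          (mul_comm' (⟨x, Subgroup.mem_sup_left hx⟩ : ↥((P : Subgroup G) ⊔ A))
            ⟨c, Subgroup.mem_sup_right hcA⟩)
        have hit : ∀ m : ℕ, x ^ m * a = a * c ^ m * x ^ m := by
          intro m
          induction m with
          | zero => simp
          | succ m ihm =>
            have h2 : Commute x (c ^ m) := Commute.pow_right (show Commute x c from hxc) m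
            calc x ^ (m + 1) * a = x * (x ^ m * a) := by rw [pow_succ', mul_assoc]
              _ = x * (a * c ^ m * x ^ m) := by rw [ihm]
              _ = x * a * (c ^ m * x ^ m) := by simp only [mul_assoc]
              _ = a * c * x * (c ^ m * x ^ m) := by simp only [c]; group
              _ = a * c * (x * c ^ m) * x ^ m := by simp only [mul_assoc]
              _ = a * c * (c ^ m * x) * x ^ m := by rw [h2.eq]
              _ = a * c ^ (m + 1) * x ^ (m + 1) := by
                rw [pow_succ' c, pow_succ' x]; simp only [mul_assoc]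
        obtain ⟨m, hm⟩ := P.isPGroup' ⟨x, hx⟩
        have hxm : x ^ p ^ m = 1 := congrArg Subtype.val hm
        have h3 := hit (p ^ m)
        rw [hxm, one_mul, mul_one, eq_comm, mul_eq_left] at h3
        have hc1 : c = 1 := by
          rw [← orderOf_eq_one_iff]
          exact Nat.eq_one_of_dvd_coprimes (((Nat.coprime_primes hp hq).2 hpq).pow_left m)
            (orderOf_dvd_of_pow_eq_one h3) (orderOf_dvd_of_pow_eq_one hcA.2)
        calc x * a = a * c * x := by simp only [c]; group
          _ = a * x := by rw [hc1, mul_one]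
    apply hPn
    rw [← Subgroup.normalizer_eq_top_iff, eq_top_iff, ← hPQ]
    refine sup_le Subgroup.le_normalizer (le_trans ?_ (Subgroup.centralizer_le_normalizer _))
    intro a ha
    rw [Subgroup.mem_centralizer_iff]
    intro x hx
    obtain ⟨k, hk⟩ := Q.isPGroup' ⟨a, ha⟩
    exact hfix k a ha (congrArg Subtype.val hk) x hx


/-- A finite non-abelian group in which every proper subgroup is abelian is either of prime-power order, or is generated by a cyclic Sylow p-subgroup and a normal Sylow q-subgroup that is elementary abelian, for distinct primes p and q. -/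
theorem result {G : Type*} [Group G] [Finite G] (hna : ¬ IsMulCommutative G) (h : ∀ H : Subgroup G, H ≠ ⊤ → IsMulCommutative H) : (∃ p : ℕ, p.Prime ∧ IsPGroup p G) ∨ ∃ p q : ℕ, p.Prime ∧ q.Prime ∧ p ≠ q ∧ ∃ (P : Sylow p G) (Q : Sylow q G), IsCyclic P ∧ (Q : Subgroup G).Normal ∧ Cfsg.IsElementaryAbelian q (Q : Subgroup G) ∧ (P : Subgroup G) ⊔ Q = ⊤ := by
  exact structure_of_all_abelian hna h

end Cfsg.Agent.S0537
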