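import Cfsg.Statements.S0539
import Mathlib
import Cfsg.Agent.Lib.Components.Subnormal

set_option linter.style.haveILetI false

set_option autoImplicit false
open Pointwise
open Cfsg

namespace Cfsg.Agent.S0539

open Pointwise in
theorem exists_normalizing (G : Type*) [Group G] [Finite G] (S S₀ : Set (Subgroup G))
    (hS : ∀ U ∈ S, U.IsSubnormal) (hconj : ∀ U ∈ S, ∀ g : G, MulAut.conj g • U ∈ S) (h₀ : S₀ ⊂ S) :
    ∃ X ∈ S, X ∉ S₀ ∧ X ≤ Subgroup.normalizer ((sSup S₀ : Subgroup G) : Set G) := by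
  let J : Subgroup G := sSup S₀
  by_cases hex : ∃ X ∈ S, X ∉ S₀ ∧ X ≤ J
  · obtain ⟨X, hX, hX0, hXJ⟩ := hex
    exact ⟨X, hX, hX0, hXJ.trans Subgroup.le_normalizer⟩
  push Not at hex
  have hJ : J.IsSubnormal :=
    Cfsg.Agent.Lib.Components.subnormal_sSup S₀ fun H hH => hS H (h₀.1 hH)
  by_cases hJn : J.Normal
  · obtain ⟨X, hX, hX0⟩ := Set.exists_of_ssubset h₀
    exact ⟨X, hX, hX0, by rw [Subgroup.normalizer_eq_top_iff.2 hJn]; exact le_top⟩
  obtain ⟨n, f, hmono, hnor, hf0, hfn⟩ := hJ.exists_chain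
  -- largest index at which J is still normalised
  have hex' : ∃ i, ¬ f i ≤ Subgroup.normalizer (J : Set G) :=
    ⟨n, fun h => hJn (Subgroup.normalizer_eq_top_iff.1 (top_le_iff.1 (hfn ▸ h)))⟩
  classical
  let i := Nat.find hex'
  have hi : ¬ f i ≤ Subgroup.normalizer (J : Set G) := Nat.find_spec hex'
  have hi0 : i ≠ 0 := fun e => hi (by rw [e, hf0]; exact Subgroup.le_normalizer)
  obtain ⟨k, hk⟩ : ∃ k, i = k + 1 := ⟨i - 1, by omega⟩
  have hkn : f k ≤ Subgroup.normalizer (J : Set G) :=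
    not_not.1 (Nat.find_min hex' (show k < i by omega))
  obtain ⟨g, hg, hgJ⟩ := Set.not_subset.1 (hk ▸ hi)
  -- conjugation by g maps the chain term to itself
  have hfk : (MulAut.conj g) • f k = f k := by
    have hN := (Subgroup.normal_subgroupOf_iff_le_normalizer (hmono (Nat.le_succ k))).1 (hnor k)
    exact Subgroup.mem_normalizer_iff_map_conj_eq.1 (hN hg)
  have hJk : J ≤ f k := hf0 ▸ hmono (Nat.zero_le k)
  have hne : MulAut.conj g • J ≠ J := fun e => hgJ (Subgroup.mem_normalizer_iff_map_conj_eq.2 e)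
  have hnle : ¬ MulAut.conj g • J ≤ J := fun hle => hne (Subgroup.eq_of_le_of_card_ge hle
    (Nat.card_congr (Subgroup.equivSMul (MulAut.conj g) J).toEquiv).le)
  obtain ⟨X, hX, hXJ⟩ : ∃ X ∈ S₀, ¬ MulAut.conj g • X ≤ J := by
    by_contra hc
    push Not at hc
    refine hnle ?_
    rw [Subgroup.pointwise_smul_subset_iff]
    exact sSup_le fun X hX => Subgroup.pointwise_smul_subset_iff.1 (hc X hX)
  refine ⟨MulAut.conj g • X, hconj X (h₀.1 hX) g, fun hmem => hXJ (le_sSup hmem), ?_⟩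
  calc MulAut.conj g • X ≤ MulAut.conj g • f k :=
        Subgroup.pointwise_smul_le_pointwise_smul_iff.2 ((le_sSup hX).trans hJk)
    _ = f k := hfk
    _ ≤ _ := hkn


/-- Let S be a family of subnormal subgroups of a finite group that is closed under conjugation, and S₀ a proper subfamily. Then some member of S not in S₀ normalizes the join of S₀. -/
theorem result {G : Type*} [Group G] [Finite G] (S S₀ : Set (Subgroup G)) (hS : ∀ U ∈ S, U.IsSubnormal) (hconj : ∀ U ∈ S, ∀ g : G, MulAut.conj g • U ∈ S) (h₀ : S₀ ⊂ S) : ∃ X ∈ S, X ∉ S₀ ∧ X ≤ Subgroup.normalizer ((sSup S₀ : Subgroup G) : Set G) := by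
  exact exists_normalizing G S S₀ hS hconj h₀

end Cfsg.Agent.S0539
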