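import Cfsg.Statements.S0540
import Mathlib
import Cfsg.Agent.S0539
import Cfsg.Agent.Lib.Supersolvable.MinNormal

set_option linter.style.haveILetI false

set_option autoImplicit false
open Pointwise
open Cfsg

namespace Cfsg.Agent.S0540

open Pointwise in
theorem exists_greatest {G : Type*} [Group G] [Finite G] (A : Subgroup G) (U : Set (Subgroup G))
    (hU : U.Nonempty) (S : Subgroup G → Set (Subgroup G))
    (hS : ∀ V B : Subgroup G, B ∈ S V ↔ (∃ g : G, B = MulAut.conj g • A) ∧ B ≤ V ∧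
      (B.subgroupOf V).IsSubnormal)
    (h1 : ∀ V ∈ U, A ∈ S V) (h2 : ∀ V ∈ U, ∀ W ∈ U, ∀ B ∈ S W, B ≤ V → B ∈ S V)
    (h3 : ∀ V ∈ U, ∀ W ∈ U, ∃ X ∈ U,
      Subgroup.normalizer ((sSup (S V ∩ S W) : Subgroup G) : Set G) ≤ X) :
    ∃ M ∈ U, ∀ V ∈ U, V ≤ M := by
  have maxabove : ∀ V ∈ U, ∃ M ∈ U, V ≤ M ∧ ∀ X ∈ U, M ≤ X → X = M := by
    intro V hV
    obtain ⟨M, hle, hmax⟩ := (Set.toFinite U).exists_le_maximal hV
    exact ⟨M, hmax.1, hle, fun X hX hMX => le_antisymm (hmax.2 hX hMX) hMX⟩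
  by_contra hcon
  push Not at hcon
  obtain ⟨V₀, hV₀⟩ := hU
  obtain ⟨M, hM, -, hMmax⟩ := maxabove V₀ hV₀
  obtain ⟨W₀, hW₀, hnle⟩ := hcon M hM
  obtain ⟨W₁, hW₁, hle₁, hW₁max⟩ := maxabove W₀ hW₀
  let Q : Set (Subgroup G × Subgroup G) :=
    {p | p.1 ∈ U ∧ p.2 ∈ U ∧ (∀ X ∈ U, p.1 ≤ X → X = p.1) ∧ (∀ X ∈ U, p.2 ≤ X → X = p.2) ∧
      p.1 ≠ p.2}
  have hQ : Q.Nonempty := ⟨(M, W₁), hM, hW₁, hMmax, hW₁max, fun e => hnle (by
    have : W₁ = M := e.symm
    exact this ▸ hle₁)⟩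
  obtain ⟨⟨V, W⟩, ⟨hV, hW, hVmax, hWmax, hne⟩, hbest⟩ :=
    Set.exists_max_image Q (fun p => (S p.1 ∩ S p.2).ncard) (Set.toFinite Q) hQ
  dsimp only at hV hW hVmax hWmax hne hbest
  let J : Subgroup G := sSup (S V ∩ S W)
  obtain ⟨X₀, hX₀, hX₀le⟩ := h3 V hV W hW
  obtain ⟨X, hX, hX₀X, hXmax⟩ := maxabove X₀ hX₀
  have hN : Subgroup.normalizer (J : Set G) ≤ X := hX₀le.trans hX₀X
  have hTX : ∀ B ∈ S V ∩ S W, B ∈ S X := fun B hB =>
    h2 X hX V hV B hB.1 ((le_sSup hB).trans (Subgroup.le_normalizer.trans hN))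
  -- if `S Y` is exactly the intersection, then `Y` normalises `J`
  have whole : ∀ Y : Subgroup G, S Y = S V ∩ S W → Y ≤ Subgroup.normalizer (J : Set G) := by
    intro Y hY y hy
    refine Cfsg.Agent.Lib.Supersolvable.mem_normalizer_iff_conj_smul.2
      (Subgroup.eq_of_le_of_card_ge ?_ (Nat.card_congr (Subgroup.equivSMul (MulAut.conj y) J).toEquiv).le)
    rw [Subgroup.pointwise_smul_subset_iff]
    refine sSup_le fun B hB => ?_
    rw [← Subgroup.pointwise_smul_subset_iff]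
    have hB' : B ∈ S Y := by rw [hY]; exact hB
    obtain ⟨⟨g, hg⟩, hBY, hsub⟩ := (hS Y B).1 hB'
    have hyB : MulAut.conj y • B ∈ S Y := by
      rw [hS]
      refine ⟨⟨y * g, by rw [hg, ← mul_smul, map_mul]⟩, Subgroup.conj_smul_le_of_le hBY ⟨y, hy⟩, ?_⟩
      have e := Subgroup.conj_smul_subgroupOf hBY ⟨y, hy⟩
      exact e ▸ hsub.smul _
    rw [hY] at hyB
    exact le_sSup hyB
  -- otherwise some further member of `S Y` normalises `J`
  have extend : ∀ Y : Subgroup G, S V ∩ S W ⊂ S Y →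
      ∃ B ∈ S Y, B ∉ S V ∩ S W ∧ B ≤ Subgroup.normalizer (J : Set G) := by
    intro Y hY
    have hBY : ∀ B ∈ S Y, B ≤ Y := fun B hB => ((hS Y B).1 hB).2.1
    have hinj : Set.InjOn (fun B : Subgroup G => B.subgroupOf Y) (S Y) := by
      intro B hB C hC e
      have := congrArg (Subgroup.map Y.subtype) e
      rwa [Subgroup.map_subgroupOf_eq_of_le (hBY B hB),
        Subgroup.map_subgroupOf_eq_of_le (hBY C hC)] at this
    obtain ⟨C, hC, hCn, hCle⟩ := Cfsg.Agent.S0539.exists_normalizing Y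
      ((fun B : Subgroup G => B.subgroupOf Y) '' S Y)
      ((fun B : Subgroup G => B.subgroupOf Y) '' (S V ∩ S W))
      (by rintro _ ⟨B, hB, rfl⟩; exact ((hS Y B).1 hB).2.2)
      (by
        rintro _ ⟨B, hB, rfl⟩ y
        obtain ⟨⟨g, hg⟩, -, hsub⟩ := (hS Y B).1 hB
        refine ⟨MulAut.conj (y : G) • B, (hS Y _).2 ⟨⟨y * g, by rw [hg, ← mul_smul, map_mul]⟩,
          Subgroup.conj_smul_le_of_le (hBY B hB) y, ?_⟩, (Subgroup.conj_smul_subgroupOf (hBY B hB) y).symm⟩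
        exact (Subgroup.conj_smul_subgroupOf (hBY B hB) y) ▸ hsub.smul _)
      (by
        refine ⟨Set.image_mono hY.1, fun hsup => hY.2 fun B hB => ?_⟩
        obtain ⟨C, hC, e⟩ := hsup ⟨B, hB, rfl⟩
        exact hinj (hY.1 hC) hB e ▸ hC)
    obtain ⟨B, hB, rfl⟩ := hC
    refine ⟨B, hB, fun h => hCn ⟨B, h, rfl⟩, ?_⟩
    have hmap : (sSup ((fun B : Subgroup G => B.subgroupOf Y) '' (S V ∩ S W))).map Y.subtype = J := by
      rw [(Subgroup.gc_map_comap Y.subtype).l_sSup]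
      show _ = sSup (S V ∩ S W)
      rw [sSup_eq_iSup (s := S V ∩ S W), iSup_image]
      refine iSup_congr fun B => iSup_congr fun hB => ?_
      exact Subgroup.map_subgroupOf_eq_of_le (hBY B (hY.1 hB))
    rw [← hmap, ← Subgroup.map_subgroupOf_eq_of_le (hBY B hB)]
    exact (Subgroup.map_mono hCle).trans (Subgroup.le_normalizer_map _)
  -- conclusion
  have side : ∀ Y : Subgroup G, Y ∈ U → (∀ Z ∈ U, Y ≤ Z → Z = Y) → S V ∩ S W ⊂ S Y →
      X = Y := by
    intro Y hY hYmax hYs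
    obtain ⟨B, hB, hBn, hBle⟩ := extend Y hYs
    have hBX : B ∈ S X := h2 X hX Y hY B hB (hBle.trans hN)
    by_contra hXY
    have hss : S V ∩ S W ⊂ S Y ∩ S X :=
      ⟨fun C hC => ⟨hYs.1 hC, hTX C hC⟩, fun h => hBn (h ⟨hB, hBX⟩)⟩
    have h4 := Set.ncard_lt_ncard hss (Set.toFinite _)
    have h5 := hbest (Y, X) ⟨hY, hX, hYmax, hXmax, fun e => hXY e.symm⟩
    dsimp only at h5
    omega
  by_cases hVT : S V = S V ∩ S W
  · have hXV : X = V := hVmax X hX ((whole V hVT).trans hN)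
    by_cases hWT : S W = S V ∩ S W
    · exact hne (hXV.symm.trans (hWmax X hX ((whole W hWT).trans hN)))
    · exact hne (hXV.symm.trans (side W hW hWmax ⟨Set.inter_subset_right,
        fun h => hWT (Set.Subset.antisymm h Set.inter_subset_right)⟩))
  · have hXV : X = V := side V hV hVmax ⟨Set.inter_subset_left,
      fun h => hVT (Set.Subset.antisymm h Set.inter_subset_left)⟩
    by_cases hWT : S W = S V ∩ S W
    · exact hne (hXV.symm.trans (hWmax X hX ((whole W hWT).trans hN)))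
    · exact hne (hXV.symm.trans (side W hW hWmax ⟨Set.inter_subset_right,
        fun h => hWT (Set.Subset.antisymm h Set.inter_subset_right)⟩))


/-- A uniqueness lemma of zipper type. Let A be a subgroup of a finite group G and U a nonempty family of subgroups. For V in U write S(V) for the set of conjugates of A that lie in V and are subnormal in V. Assume: A belongs to S(V) for every V in U; a member of some S(W) that lies in V belongs to S(V); and for all V, W in U the normalizer of the join of S(V) ∩ S(W) lies in some member of U. Then U has a greatest element. -/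
theorem result {G : Type*} [Group G] [Finite G] (A : Subgroup G) (U : Set (Subgroup G)) (hU : U.Nonempty) (S : Subgroup G → Set (Subgroup G)) (hS : ∀ V B : Subgroup G, B ∈ S V ↔ (∃ g : G, B = MulAut.conj g • A) ∧ B ≤ V ∧ (B.subgroupOf V).IsSubnormal) (h1 : ∀ V ∈ U, A ∈ S V) (h2 : ∀ V ∈ U, ∀ W ∈ U, ∀ B ∈ S W, B ≤ V → B ∈ S V) (h3 : ∀ V ∈ U, ∀ W ∈ U, ∃ X ∈ U, Subgroup.normalizer ((sSup (S V ∩ S W) : Subgroup G) : Set G) ≤ X) : ∃ M ∈ U, ∀ V ∈ U, V ≤ M := by
  exact exists_greatest A U hU S hS h1 h2 h3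

end Cfsg.Agent.S0540
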