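import Cfsg.Statements.S0541
import Mathlib
import Cfsg.Agent.S0539
import Cfsg.Agent.Lib.Supersolvable.MinNormal

set_option linter.style.haveILetI false

set_option autoImplicit false
open Pointwise
open Cfsg

namespace Cfsg.Agent.S0541

theorem isSubnormal_of_isNilpotent {G : Type*} [Group G] [Finite G] [Group.IsNilpotent G]
    (H : Subgroup G) : H.IsSubnormal := by
  induction H using (wellFounded_gt (α := Subgroup G)).induction with
  | _ H ih =>
    by_cases hH : H = ⊤
    · rw [hH]; exact Subgroup.IsSubnormal.top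
    have hlt := normalizerCondition_of_isNilpotent (G := G) H (lt_top_iff_ne_top.2 hH)
    exact Subgroup.IsSubnormal.step H _ hlt.le (ih _ hlt)
      ((Subgroup.normal_subgroupOf_iff_le_normalizer hlt.le).2 le_rfl)

open Pointwise in
theorem exists_sylow (G : Type*) [Group G] [Finite G] (p : ℕ) [Fact p.Prime] (Z Y : Subgroup G)
    (h : ∀ g : G, IsPGroup p ↥(⨆ y ∈ Y, MulAut.conj (y * g) • Z)) :
    ∃ P : Sylow p G, Y ≤ Subgroup.normalizer
      ((⨆ g ∈ {g : G | MulAut.conj g • Z ≤ (P : Subgroup G)}, MulAut.conj g • Z : Subgroup G) : Set G) := by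
  -- subgroups generated by their conjugates of Z
  let W : Subgroup G → Subgroup G := fun P =>
    ⨆ g ∈ {g : G | MulAut.conj g • Z ≤ P}, MulAut.conj g • Z
  let R : G → Subgroup G := fun g => ⨆ y ∈ Y, MulAut.conj (y * g) • Z
  have hRY : ∀ g : G, Y ≤ Subgroup.normalizer (R g : Set G) := by
    intro g y hy
    refine Cfsg.Agent.Lib.Supersolvable.mem_normalizer_iff_conj_smul.2
      (Subgroup.eq_of_le_of_card_ge ?_ (Nat.card_congr (Subgroup.equivSMul (MulAut.conj y) (R g)).toEquiv).le)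
    rw [Subgroup.pointwise_smul_subset_iff]
    refine iSup₂_le fun y' hy' => ?_
    rw [← Subgroup.pointwise_smul_subset_iff, ← mul_smul, ← map_mul, ← mul_assoc]
    exact le_iSup₂ (f := fun y (_ : y ∈ Y) => MulAut.conj (y * g) • Z) (y * y') (mul_mem hy hy')
  let F : Set (Subgroup G) := {J | IsPGroup p J ∧ Y ≤ Subgroup.normalizer (J : Set G) ∧ J ≤ W J}
  have hbotF : (⊥ : Subgroup G) ∈ F := ⟨IsPGroup.of_bot, by
    rw [Subgroup.normalizer_eq_top_iff.2 Subgroup.normal_bot]; exact le_top, bot_le⟩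
  obtain ⟨J, -, hJmax⟩ := (Set.toFinite F).exists_le_maximal hbotF
  obtain ⟨hJp, hJY, hJW⟩ := hJmax.1
  obtain ⟨P, hJP⟩ := hJp.exists_le_sylow
  refine ⟨P, ?_⟩
  suffices hWP : W (P : Subgroup G) = J by
    show Y ≤ Subgroup.normalizer ((W (P : Subgroup G) : Subgroup G) : Set G)
    rw [hWP]; exact hJY
  refine le_antisymm ?_ (hJW.trans (biSup_mono fun g hg => le_trans hg hJP))
  refine iSup₂_le fun g hg => ?_
  by_contra hgJ
  haveI : Group.IsNilpotent (P : Subgroup G) := P.isPGroup'.isNilpotent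
  let f : G → Subgroup (P : Subgroup G) := fun g => (MulAut.conj g • Z).subgroupOf P
  let S : Set (Subgroup (P : Subgroup G)) := f '' {g | MulAut.conj g • Z ≤ (P : Subgroup G)}
  let S₀ : Set (Subgroup (P : Subgroup G)) := f '' {g | MulAut.conj g • Z ≤ J}
  have hmapf : ∀ g : G, MulAut.conj g • Z ≤ (P : Subgroup G) →
      (f g).map (P : Subgroup G).subtype = MulAut.conj g • Z :=
    fun g hg => Subgroup.map_subgroupOf_eq_of_le hg
  have hss : S₀ ⊂ S := by
    refine ⟨Set.image_mono fun g hg => le_trans hg hJP, fun hsup => ?_⟩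
    obtain ⟨g', hg', e⟩ := hsup ⟨g, hg, rfl⟩
    have e' := congrArg (Subgroup.map (P : Subgroup G).subtype) e
    rw [hmapf g' (le_trans hg' hJP), hmapf g hg] at e'
    exact hgJ (e' ▸ hg')
  obtain ⟨C, hC, hCn, hCle⟩ := Cfsg.Agent.S0539.exists_normalizing (P : Subgroup G) S S₀
    (fun U _ => isSubnormal_of_isNilpotent U)
    (by
      rintro _ ⟨g, hg, rfl⟩ x
      refine ⟨(x : G) * g, ?_, ?_⟩
      · show MulAut.conj ((x : G) * g) • Z ≤ _
        rw [map_mul, mul_smul]
        exact Subgroup.conj_smul_le_of_le hg x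
      · show (MulAut.conj ((x : G) * g) • Z).subgroupOf _ = _
        rw [map_mul, mul_smul]
        exact (Subgroup.conj_smul_subgroupOf hg x).symm)
    hss
  obtain ⟨g₁, hg₁, rfl⟩ := hC
  have hg₁J : ¬ MulAut.conj g₁ • Z ≤ J := fun h => hCn ⟨g₁, h, rfl⟩
  have hsupJ : (sSup S₀).map (P : Subgroup G).subtype = J := by
    rw [(Subgroup.gc_map_comap _).l_sSup, iSup_image]
    refine le_antisymm (iSup₂_le fun g hg => ?_) (hJW.trans (iSup₂_le fun g hg => ?_))
    · rw [hmapf g (le_trans hg hJP)]; exact hg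
    · rw [← hmapf g (le_trans hg hJP)]
      exact le_iSup₂ (f := fun g (_ : g ∈ {g | MulAut.conj g • Z ≤ J}) =>
        (f g).map (P : Subgroup G).subtype) g hg
  have hB : MulAut.conj g₁ • Z ≤ Subgroup.normalizer (J : Set G) := by
    rw [← hsupJ, ← hmapf g₁ hg₁]
    exact (Subgroup.map_mono hCle).trans (Subgroup.le_normalizer_map _)
  have hRN : R g₁ ≤ Subgroup.normalizer (J : Set G) := by
    refine iSup₂_le fun y hy => ?_
    rw [map_mul, mul_smul]
    calc MulAut.conj y • (MulAut.conj g₁ • Z)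
        ≤ MulAut.conj y • Subgroup.normalizer (J : Set G) :=
          Subgroup.pointwise_smul_le_pointwise_smul_iff.2 hB
      _ = Subgroup.normalizer (J : Set G) := Subgroup.conj_smul_eq_self_of_mem (hJY hy)
  have hJ₂ : J ⊔ R g₁ ∈ F := by
    refine ⟨?_, ?_, ?_⟩
    · rw [sup_comm]
      exact (h g₁).to_sup_of_normal_right' hJp hRN
    · exact (le_inf hJY (hRY g₁)).trans (by
        intro y hy
        rw [Cfsg.Agent.Lib.Supersolvable.mem_normalizer_iff_conj_smul, Subgroup.smul_sup,
          Cfsg.Agent.Lib.Supersolvable.mem_normalizer_iff_conj_smul.1 hy.1,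
          Cfsg.Agent.Lib.Supersolvable.mem_normalizer_iff_conj_smul.1 hy.2])
    · refine sup_le (hJW.trans (biSup_mono fun g (hg : MulAut.conj g • Z ≤ J) => le_trans hg le_sup_left)) ?_
      refine iSup₂_le fun y hy => le_iSup₂ (f := fun g (_ : g ∈ {g | MulAut.conj g • Z ≤ J ⊔ R g₁}) =>
        MulAut.conj g • Z) (y * g₁) ?_
      exact le_trans (le_iSup₂ (f := fun y (_ : y ∈ Y) => MulAut.conj (y * g₁) • Z) y hy) le_sup_right
  have h1 : R g₁ ≤ J := le_sup_right.trans (hJmax.2 hJ₂ le_sup_left)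
  apply hg₁J
  calc MulAut.conj g₁ • Z = MulAut.conj (1 * g₁) • Z := by rw [one_mul]
    _ ≤ R g₁ := le_iSup₂ (f := fun y (_ : y ∈ Y) => MulAut.conj (y * g₁) • Z) 1 Y.one_mem
    _ ≤ J := h1


/-- Let Z and Y be subgroups of a finite group G and p a prime. Suppose that for every g in G the subgroup generated by the conjugates of g Z g⁻¹ under Y is a p-group. Then there is a Sylow p-subgroup P of G such that Y normalizes the subgroup generated by all conjugates of Z contained in P. -/
theorem result {G : Type*} [Group G] [Finite G] (p : ℕ) [Fact p.Prime] (Z Y : Subgroup G) (h : ∀ g : G, IsPGroup p ↥(⨆ y ∈ Y, MulAut.conj (y * g) • Z)) : ∃ P : Sylow p G, Y ≤ Subgroup.normalizer ((⨆ g ∈ {g : G | MulAut.conj g • Z ≤ (P : Subgroup G)}, MulAut.conj g • Z : Subgroup G) : Set G) := by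
  exact exists_sylow G p Z Y h

end Cfsg.Agent.S0541
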