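import Cfsg.Statements.S0548
import Mathlib
import Cfsg.Agent.Lib.Supersolvable.MinNormal
import Cfsg.Agent.S0547

set_option linter.style.haveILetI false

set_option autoImplicit false
open Cfsg

namespace Cfsg.Agent.S0548

/-- Let a finite solvable group G act faithfully and primitively on a set, let M be a minimal normal subgroup and H the stabilizer of a point. Then H is a complement to M, no non-identity element of H centralizes M, and the only subgroups of M normalized by H are the trivial subgroup and M. -/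
theorem result {G : Type*} [Group G] [Finite G] [Group.IsSolvable G] {Ω : Type*} [MulAction G Ω] [FaithfulSMul G Ω] (hprim : MulAction.IsPreprimitive G Ω) (M : Subgroup G) [M.Normal] (hM : M ≠ ⊥) (hmin : ∀ K : Subgroup G, K.Normal → K ≤ M → K = ⊥ ∨ K = M) (ω : Ω) : Subgroup.IsComplement' M (MulAction.stabilizer G ω) ∧ MulAction.stabilizer G ω ⊓ Subgroup.centralizer (M : Set G) = ⊥ ∧ ∀ K : Subgroup G, K ≤ M → MulAction.stabilizer G ω ≤ Subgroup.normalizer (K : Set G) → K = ⊥ ∨ K = M := by
  haveI : Nonempty Ω := ⟨ω⟩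
  haveI := Cfsg.Agent.Lib.Supersolvable.isMulCommutative_of_minimal hM hmin
  obtain ⟨htrans, hstab, -⟩ := Cfsg.Agent.S0547.regular_of_minimal hprim M hM hmin
  have hcomp : Subgroup.IsComplement' M (MulAction.stabilizer G ω) := by
    refine Subgroup.isComplement'_stabilizer ω (fun h hh => ?_) (fun g => htrans.exists_smul_eq _ _)
    have : h ∈ MulAction.stabilizer M ω := hh
    rwa [hstab ω, Subgroup.mem_bot] at this
  refine ⟨hcomp, ?_, fun K hKM hKN => ?_⟩
  · rw [Subgroup.eq_bot_iff_forall]
    rintro h ⟨hh, hc⟩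
    refine eq_of_smul_eq_smul (α := Ω) fun x => ?_
    rw [one_smul]
    obtain ⟨m, rfl⟩ := htrans.exists_smul_eq ω x
    show h • (m : G) • ω = (m : G) • ω
    rw [← mul_smul, ← Subgroup.mem_centralizer_iff.1 hc m m.2, mul_smul,
      MulAction.mem_stabilizer_iff.1 hh]
  · exact hmin K (Cfsg.Agent.Lib.Supersolvable.normal_of_sup_eq_top
      hcomp.sup_eq_top hKM hKN) hKM

end Cfsg.Agent.S0548
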