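import Cfsg.Statements.S0549
import Mathlib

set_option linter.style.haveILetI false

set_option autoImplicit false
open Cfsg

namespace Cfsg.Agent.S0549

theorem inf_eq_bot {G : Type*} [Group G] (U : Subgroup G) (hU : IsCoatom U)
    (hcore : U.normalCore = ⊥) (N : Subgroup G) [N.Normal] (hN : N ≠ ⊥) :
    Subgroup.centralizer (N : Set G) ⊓ U = ⊥ := by
  have hNU : ¬ N ≤ U := fun h => hN (le_bot_iff.1 (hcore ▸ Subgroup.normal_le_normalCore.2 h))
  have htop : N ⊔ U = ⊤ := hU.2 _ (lt_of_le_of_ne le_sup_right fun e => hNU (e ▸ le_sup_left))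
  let D : Subgroup G := Subgroup.centralizer (N : Set G) ⊓ U
  have hDn : D.Normal := by
    rw [← Subgroup.normalizer_eq_top_iff, eq_top_iff, ← htop, sup_le_iff]
    have key : ∀ (g x : G), g ∈ N → x ∈ D → g * x * g⁻¹ = x := by
      intro g x hg hx
      rw [Subgroup.mem_centralizer_iff.1 hx.1 g hg, mul_inv_cancel_right]
    constructor
    · intro g hg
      rw [Subgroup.mem_normalizer_iff]
      intro x
      constructor
      · intro hx; rwa [key g x hg hx]
      · intro hx
        have h2 := key g⁻¹ _ (N.inv_mem hg) hx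
        have h3 : g⁻¹ * (g * x * g⁻¹) * g⁻¹⁻¹ = x := by group
        rw [h3] at h2
        rwa [← h2] at hx
    · exact (Subgroup.normal_subgroupOf_iff_le_normalizer inf_le_right).1
        ((Subgroup.normal_centralizer (H := N)).subgroupOf U |> fun h => by
          rwa [show D.subgroupOf U = (Subgroup.centralizer (N : Set G)).subgroupOf U from
            Subgroup.inf_subgroupOf_right _ U])
  exact le_bot_iff.1 (hcore ▸ Subgroup.normal_le_normalCore.2 (inf_le_right : D ≤ U))

theorem centralizer_minimal {G : Type*} [Group G] (U : Subgroup G) (hU : IsCoatom U)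
    (hcore : U.normalCore = ⊥) (N : Subgroup G) [N.Normal] (hN : N ≠ ⊥) :
    Subgroup.centralizer (N : Set G) = ⊥ ∨ (Subgroup.centralizer (N : Set G) ≠ ⊥ ∧
      ∀ K : Subgroup G, K.Normal → K ≤ Subgroup.centralizer (N : Set G) →
        K = ⊥ ∨ K = Subgroup.centralizer (N : Set G)) := by
  by_cases hC : Subgroup.centralizer (N : Set G) = ⊥
  · exact Or.inl hC
  refine Or.inr ⟨hC, fun K hK hKC => ?_⟩
  by_cases hKb : K = ⊥
  · exact Or.inl hKb
  refine Or.inr (le_antisymm hKC ?_)
  have hKU : ¬ K ≤ U := fun h => hKb (le_bot_iff.1 (hcore ▸ Subgroup.normal_le_normalCore.2 h))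
  have htop : K ⊔ U = ⊤ := hU.2 _ (lt_of_le_of_ne le_sup_right fun e => hKU (e ▸ le_sup_left))
  intro x hx
  obtain ⟨k, hk, u, hu, rfl⟩ := Subgroup.mem_sup_of_normal_left.1 (htop ▸ Subgroup.mem_top x : x ∈ K ⊔ U)
  have hu' : u ∈ Subgroup.centralizer (N : Set G) ⊓ U := by
    refine ⟨?_, hu⟩
    have h2 := mul_mem (inv_mem (hKC hk)) hx
    rwa [inv_mul_cancel_left] at h2
  rw [inf_eq_bot U hU hcore N hN, Subgroup.mem_bot] at hu'
  rw [hu', mul_one]
  exact hk


/-- Let U be a maximal subgroup of a finite group G whose normal core is trivial, and N a nontrivial normal subgroup with centralizer C. Then C ∩ U = 1, and either C = 1 or C is a minimal normal subgroup of G. -/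
theorem result {G : Type*} [Group G] [Finite G] (U : Subgroup G) (hU : IsCoatom U) (hcore : U.normalCore = ⊥) (N : Subgroup G) [N.Normal] (hN : N ≠ ⊥) : Subgroup.centralizer (N : Set G) ⊓ U = ⊥ ∧ (Subgroup.centralizer (N : Set G) = ⊥ ∨ (Subgroup.centralizer (N : Set G) ≠ ⊥ ∧ ∀ K : Subgroup G, K.Normal → K ≤ Subgroup.centralizer (N : Set G) → K = ⊥ ∨ K = Subgroup.centralizer (N : Set G))) := by
  exact ⟨inf_eq_bot U hU hcore N hN, centralizer_minimal U hU hcore N hN⟩

end Cfsg.Agent.S0549
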