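import Cfsg.Statements.S0550
import Mathlib
import Cfsg.Agent.S0549

set_option linter.style.haveILetI false

set_option autoImplicit false
open Cfsg

namespace Cfsg.Agent.S0550

/-- Let U be a maximal subgroup with trivial normal core in a finite group G, and A ≠ B two minimal normal subgroups. Then A is the centralizer of B and B that of A, U complements each of them, A and B are non-abelian, and A, B and (A ⊔ B) ∩ U are pairwise isomorphic. -/
theorem result {G : Type*} [Group G] [Finite G] (U : Subgroup G) (hU : IsCoatom U) (hcore : U.normalCore = ⊥) (A B : Subgroup G) [A.Normal] [B.Normal] (hA : A ≠ ⊥) (hB : B ≠ ⊥) (hAmin : ∀ K : Subgroup G, K.Normal → K ≤ A → K = ⊥ ∨ K = A) (hBmin : ∀ K : Subgroup G, K.Normal → K ≤ B → K = ⊥ ∨ K = B) (hAB : A ≠ B) : Subgroup.centralizer (B : Set G) = A ∧ Subgroup.centralizer (A : Set G) = B ∧ Subgroup.IsComplement' A U ∧ Subgroup.IsComplement' B U ∧ ¬ IsMulCommutative A ∧ Nonempty (A ≃* B) ∧ Nonempty (A ≃* ↥((A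 ⊔ B) ⊓ U)) := by
  have hdis : A ⊓ B = ⊥ := by
    rcases hAmin (A ⊓ B) inferInstance inf_le_left with h | h
    · exact h
    · exfalso
      rcases hBmin A inferInstance (inf_eq_left.1 h) with h2 | h2
      · exact hA h2
      · exact hAB h2
  have hABc : A ≤ Subgroup.centralizer (B : Set G) := by
    intro a ha
    rw [Subgroup.mem_centralizer_iff]
    intro b hb
    exact (Subgroup.commute_of_normal_of_disjoint A B inferInstance inferInstance
      (disjoint_iff.2 hdis) a b ha hb).symm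
  have hBAc : B ≤ Subgroup.centralizer (A : Set G) := Subgroup.le_centralizer_iff.1 hABc
  have hCB : Subgroup.centralizer (B : Set G) = A := by
    rcases Cfsg.Agent.S0549.centralizer_minimal U hU hcore B hB with h | ⟨-, h⟩
    · exact absurd (le_bot_iff.1 (h ▸ hABc)) hA
    · exact ((h A inferInstance hABc).resolve_left hA).symm
  have hCA : Subgroup.centralizer (A : Set G) = B := by
    rcases Cfsg.Agent.S0549.centralizer_minimal U hU hcore A hA with h | ⟨-, h⟩
    · exact absurd (le_bot_iff.1 (h ▸ hBAc)) hB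
    · exact ((h B inferInstance hBAc).resolve_left hB).symm
  have hAU : A ⊓ U = ⊥ := hCB ▸ Cfsg.Agent.S0549.inf_eq_bot U hU hcore B hB
  have hBU : B ⊓ U = ⊥ := hCA ▸ Cfsg.Agent.S0549.inf_eq_bot U hU hcore A hA
  have compl : ∀ (N : Subgroup G) [N.Normal], N ≠ ⊥ → N ⊓ U = ⊥ → Subgroup.IsComplement' N U := by
    intro N _ hN hNU
    refine Subgroup.isComplement'_of_disjoint_and_mul_eq_univ (disjoint_iff.2 hNU) ?_
    have htop : N ⊔ U = ⊤ := hU.2 _ (lt_of_le_of_ne le_sup_right fun e => hN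
      (le_bot_iff.1 (hcore ▸ Subgroup.normal_le_normalCore.2 ((le_sup_left : N ≤ N ⊔ U).trans_eq e.symm))))
    rw [← Subgroup.normal_mul, htop, Subgroup.coe_top]
  have hAcomp := compl A hA hAU
  have hBcomp := compl B hB hBU
  let D : Subgroup G := (A ⊔ B) ⊓ U
  -- projection: D ≅ (A ⊔ B) / A ≅ B
  have proj : ∀ (X Y : Subgroup G) [X.Normal] [Y.Normal], X ⊓ Y = ⊥ → X ⊓ U = ⊥ →
      Subgroup.IsComplement' X U →
      Nonempty (Y ≃* ↥((X ⊔ Y) ⊓ U)) := by
    intro X Y _ _ hXY hXU hc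
    let φ := (hc.symm.QuotientMulEquiv.toMonoidHom).comp ((QuotientGroup.mk' X).comp Y.subtype)
    have hφinj : Function.Injective φ := by
      rw [← MonoidHom.ker_eq_bot_iff, Subgroup.eq_bot_iff_forall]
      intro y hy
      have h1 : (QuotientGroup.mk' X) (y : G) = 1 :=
        hc.symm.QuotientMulEquiv.injective ((MonoidHom.mem_ker.1 hy).trans (map_one hc.symm.QuotientMulEquiv).symm)
      exact Subtype.ext ((Subgroup.eq_bot_iff_forall _).1 hXY _
        ⟨(QuotientGroup.eq_one_iff _).1 h1, y.2⟩)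
    have hspec : ∀ g : G, ((hc.symm.QuotientMulEquiv (QuotientGroup.mk' X g) : U) : G)⁻¹ * g ∈ X := by
      intro g
      rw [← QuotientGroup.eq]
      exact hc.symm.QuotientMulEquiv.symm_apply_apply _
    have hmem : ∀ y : Y, ((φ y : U) : G) ∈ (X ⊔ Y) ⊓ U := by
      intro y
      refine Subgroup.mem_inf.2 ⟨?_, (φ y).2⟩
      have h1 := hspec y
      have : ((φ y : U) : G) = (y : G) * ((((φ y : U) : G))⁻¹ * y)⁻¹ := by group
      rw [this]
      exact mul_mem (Subgroup.mem_sup_right y.2) (inv_mem (Subgroup.mem_sup_left h1))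
    let ψ : Y →* ↥((X ⊔ Y) ⊓ U) := (U.subtype.comp φ).codRestrict _ hmem
    refine ⟨MulEquiv.ofBijective ψ ⟨fun a b h => hφinj (Subtype.ext ?_), ?_⟩⟩
    · exact congrArg Subtype.val (show φ a = φ b from Subtype.ext (congrArg Subtype.val h :))
    rintro ⟨d, hd, hdU⟩
    obtain ⟨x, hx, y, hy, rfl⟩ := Subgroup.mem_sup_of_normal_left.1 hd
    refine ⟨⟨y, hy⟩, Subtype.ext ?_⟩
    show ((φ ⟨y, hy⟩ : U) : G) = x * y
    have h1 := hspec y
    have h2 : (x * y)⁻¹ * y ∈ X := by
      have : (x * y)⁻¹ * y = y⁻¹ * x⁻¹ * y⁻¹⁻¹ := by group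
      rw [this]
      exact (inferInstance : X.Normal).conj_mem _ (inv_mem hx) _
    have h3 : (((φ ⟨y, hy⟩ : U) : G))⁻¹ * (x * y) ∈ X ⊓ U := by
      refine Subgroup.mem_inf.2 ⟨?_, U.mul_mem (U.inv_mem (φ _).2) hdU⟩
      have : (((φ ⟨y, hy⟩ : U) : G))⁻¹ * (x * y) =
        ((((φ ⟨y, hy⟩ : U) : G))⁻¹ * y) * ((x * y)⁻¹ * y)⁻¹ := by group
      rw [this]
      exact mul_mem h1 (inv_mem h2)
    rw [hXU, Subgroup.mem_bot, inv_mul_eq_one] at h3
    exact h3
  refine ⟨hCB, hCA, hAcomp, hBcomp, ?_, ?_, ?_⟩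
  · intro hcomm
    have hle : A ≤ Subgroup.centralizer (A : Set G) := A.le_centralizer
    rw [hCA] at hle
    exact hA (le_bot_iff.1 (hdis ▸ le_inf le_rfl hle))
  · obtain ⟨e1⟩ := proj B A (by rw [inf_comm]; exact hdis) hBU hBcomp
    obtain ⟨e2⟩ := proj A B hdis hAU hAcomp
    rw [sup_comm B A] at e1
    exact ⟨e1.trans e2.symm⟩
  · obtain ⟨e1⟩ := proj B A (by rw [inf_comm]; exact hdis) hBU hBcomp
    rw [sup_comm B A] at e1
    exact ⟨e1⟩

end Cfsg.Agent.S0550
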