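import Cfsg.Statements.S0551
import Mathlib
import Cfsg.Agent.Lib.Supersolvable.MinNormal

set_option linter.style.haveILetI false

set_option autoImplicit false
open Pointwise
open Cfsg

namespace Cfsg.Agent.S0551

open Cfsg.Agent.Lib.Supersolvable Pointwise in
theorem conj_of_core_free {G : Type*} [Group G] [Finite G] [Group.IsSolvable G] (U V : Subgroup G)
    (hU : IsCoatom U) (hV : IsCoatom V) (hUc : U.normalCore = ⊥) (hVc : V.normalCore = ⊥) :
    ∃ g : G, MulAut.conj g • U = V := by
  rcases subsingleton_or_nontrivial G with hs | hnt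
  · exact absurd (Subsingleton.elim U ⊤) hU.1
  obtain ⟨M, hMn, hMne, hMc, hMmin, p, hp, hMp, -⟩ := exists_minimal_normal_solvable G
  haveI := hMn
  haveI := hMc
  have facts : ∀ W : Subgroup G, IsCoatom W → W.normalCore = ⊥ →
      M ⊔ W = ⊤ ∧ M ⊓ W = ⊥ ∧ Subgroup.centralizer (M : Set G) = M := by
    intro W hW hWc
    have hnle : ¬ M ≤ W := fun h => hMne (le_bot_iff.1 (hWc ▸ Subgroup.normal_le_normalCore.2 h))
    have htop : M ⊔ W = ⊤ := hW.2 _ (lt_of_le_of_ne le_sup_right fun e => hnle (e ▸ le_sup_left))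
    have hbot : M ⊓ W = ⊥ := (hMmin _ (inf_normal_of_not_le hW hnle) inf_le_left).resolve_right
      fun e => hnle (e ▸ inf_le_right)
    refine ⟨htop, hbot, le_antisymm ?_ M.le_centralizer⟩
    intro x hx
    obtain ⟨m, hm, w, hw, rfl⟩ :=
      Subgroup.mem_sup_of_normal_left.1 (htop ▸ Subgroup.mem_top x : x ∈ M ⊔ W)
    have hwc : w ∈ Subgroup.centralizer (M : Set G) := by
      have h2 := mul_mem (inv_mem (M.le_centralizer hm)) hx
      rwa [inv_mul_cancel_left] at h2
    let D : Subgroup G := Subgroup.centralizer (M : Set G) ⊓ W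
    have hD : D.Normal := by
      rw [← Subgroup.normalizer_eq_top_iff, eq_top_iff, ← htop, sup_le_iff]
      refine ⟨le_trans ?_ (Subgroup.centralizer_le_normalizer _), ?_⟩
      · exact Subgroup.le_centralizer_iff.1 (inf_le_left : D ≤ _)
      · exact (Subgroup.normal_subgroupOf_iff_le_normalizer inf_le_right).1
          ((Subgroup.normal_centralizer (H := M)).subgroupOf W |> fun h => by
            rwa [show D.subgroupOf W = (Subgroup.centralizer (M : Set G)).subgroupOf W from
              Subgroup.inf_subgroupOf_right _ W])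
    have hDb : D = ⊥ := le_bot_iff.1 (hWc ▸ Subgroup.normal_le_normalCore.2 inf_le_right)
    rw [(Subgroup.eq_bot_iff_forall _).1 hDb w ⟨hwc, hw⟩, mul_one]
    exact hm
  obtain ⟨hUt, hUb, hC⟩ := facts U hU hUc
  obtain ⟨hVt, hVb, -⟩ := facts V hV hVc
  by_cases hMtop : M = ⊤
  · subst hMtop
    rw [top_inf_eq] at hUb hVb
    exact ⟨1, by rw [map_one, one_smul, hUb, hVb]⟩
  haveI : Nontrivial (G ⧸ M) := QuotientGroup.nontrivial_iff.2 hMtop
  obtain ⟨L₁, hL₁n, hL₁ne, -, -, q, hq, hL₁q, -⟩ := exists_minimal_normal_solvable (G ⧸ M)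
  let L : Subgroup G := L₁.comap (QuotientGroup.mk' M)
  haveI hLn : L.Normal := hL₁n.comap _
  have hML : M ≤ L := by
    intro x hx
    show (QuotientGroup.mk' M) x ∈ L₁
    rw [QuotientGroup.mk'_apply, (QuotientGroup.eq_one_iff x).2 hx]
    exact one_mem L₁
  haveI := Fact.mk hp
  haveI := Fact.mk hq
  have hLc : Nat.card L = Nat.card M * Nat.card L₁ :=
    QuotientGroup.card_preimage_mk M (L₁ : Set (G ⧸ M))
  obtain ⟨e, he, hec⟩ := isPGroup_prime_dvd hMp hMne
  obtain ⟨d, hd, hdc⟩ := isPGroup_prime_dvd hL₁q hL₁ne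
  have hqp : q ≠ p := by
    rintro rfl
    have hL : IsPGroup q L := IsPGroup.of_card (n := e + d) (by rw [hLc, hec, hdc, pow_add])
    haveI := hL.isNilpotent
    have hne : M.subgroupOf L ≠ ⊥ := by
      rw [Ne, Subgroup.subgroupOf_eq_bot, disjoint_iff, inf_eq_left.2 hML]
      exact hMne
    haveI : (M.subgroupOf L).Normal := hMn.subgroupOf L
    obtain ⟨b, hb, hb1⟩ :=
      (hL.of_equiv ConjAct.toConjAct).exists_fixed_point_of_prime_dvd_card_of_fixed_point
        ↥(M.subgroupOf L) (by
          rw [Nat.card_congr (Subgroup.subgroupOfEquivOfLe hML).toEquiv, hec]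
          exact dvd_pow_self q (by omega)) (a := 1) (fun g => smul_one g)
    have hbL : ((b : L) : G) ∈ M ⊓ Subgroup.centralizer (L : Set G) := by
      refine ⟨b.2, Subgroup.mem_centralizer_iff.2 fun l hl => ?_⟩
      have := congrArg Subtype.val (hb (ConjAct.toConjAct ⟨l, hl⟩))
      rw [ConjAct.Subgroup.val_conj_smul, ConjAct.toConjAct_smul] at this
      have h2 := congrArg Subtype.val this
      simp only [Subgroup.coe_mul, InvMemClass.coe_inv] at h2
      exact mul_inv_eq_iff_eq_mul.1 h2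
    rcases hMmin (M ⊓ Subgroup.centralizer (L : Set G)) inferInstance inf_le_left with h | h
    · refine hb1 (Subtype.ext (Subtype.ext ?_))
      exact ((Subgroup.eq_bot_iff_forall _).1 h _ hbL).symm
    · have hLM : L ≤ M := hC ▸ Subgroup.le_centralizer_iff.1 (inf_eq_left.1 h)
      have h3 := Subgroup.card_le_of_le hLM
      rw [hLc, hdc] at h3
      have h4 : 1 < q ^ d := Nat.one_lt_pow (by omega) hq.one_lt
      have h5 : 0 < Nat.card M := Nat.card_pos
      nlinarith
  have sylow : ∀ W : Subgroup G, M ⊔ W = ⊤ → M ⊓ W = ⊥ →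
      ∃ R : Sylow q L, (R : Subgroup L) = W.subgroupOf L := by
    intro W hWt hWb
    have hc : Subgroup.IsComplement' (M.subgroupOf L) (W.subgroupOf L) := by
      haveI : (M.subgroupOf L).Normal := hMn.subgroupOf L
      refine Subgroup.isComplement'_of_disjoint_and_mul_eq_univ ?_ ?_
      · rw [disjoint_iff, Subgroup.eq_bot_iff_forall]
        rintro x ⟨h1, h2⟩
        exact Subtype.ext ((Subgroup.eq_bot_iff_forall _).1 hWb _ ⟨h1, h2⟩)
      · rw [Set.eq_univ_iff_forall]
        intro x
        obtain ⟨m, hm, w, hw, hx⟩ :=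
          Subgroup.mem_sup_of_normal_left.1 (hWt ▸ Subgroup.mem_top (x : G) : (x : G) ∈ M ⊔ W)
        have hwL : w ∈ L := by
          have : w = m⁻¹ * x := by rw [← hx]; group
          rw [this]
          exact mul_mem (inv_mem (hML hm)) x.2
        exact ⟨⟨m, hML hm⟩, hm, ⟨w, hwL⟩, hw, Subtype.ext hx⟩
    have hcard : Nat.card (W.subgroupOf L) = q ^ d := by
      have h2 := hc.card_mul
      rw [Nat.card_congr (Subgroup.subgroupOfEquivOfLe hML).toEquiv, hLc, hdc] at h2
      exact Nat.eq_of_mul_eq_mul_left Nat.card_pos h2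
    refine ⟨(IsPGroup.of_card hcard).toSylow ?_, IsPGroup.toSylow_coe _ _⟩
    rw [hc.index_eq_card, Nat.card_congr (Subgroup.subgroupOfEquivOfLe hML).toEquiv, hec]
    exact fun hdvd => hqp ((Nat.prime_dvd_prime_iff_eq hq hp).1 (hq.dvd_of_dvd_pow hdvd))
  have norm_eq : ∀ W : Subgroup G, IsCoatom W → W.normalCore = ⊥ → W ⊓ L ≠ ⊥ →
      Subgroup.normalizer ((W ⊓ L : Subgroup G) : Set G) = W := by
    intro W hW hWc hne
    have hle : W ≤ Subgroup.normalizer ((W ⊓ L : Subgroup G) : Set G) :=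
      (Subgroup.normal_subgroupOf_iff_le_normalizer inf_le_left).1
        (hLn.subgroupOf W |> fun h => by
          rwa [show (W ⊓ L).subgroupOf W = L.subgroupOf W from Subgroup.inf_subgroupOf_left L W])
    rcases eq_or_lt_of_le hle with h | h
    · exact h.symm
    · refine absurd ?_ hne
      haveI : (W ⊓ L).Normal := Subgroup.normalizer_eq_top_iff.1 (hW.2 _ h)
      exact le_bot_iff.1 (hWc ▸ Subgroup.normal_le_normalCore.2 inf_le_left)
  obtain ⟨R, hR⟩ := sylow U hUt hUb
  obtain ⟨T, hT⟩ := sylow V hVt hVb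
  obtain ⟨l, hl⟩ := MulAction.exists_smul_eq L R T
  have hl' : MulAut.conj l • (R : Subgroup L) = T := by
    rw [← hl, Sylow.coe_subgroup_smul]
  have hUL : ∀ (W : Subgroup G) (R' : Sylow q L), (R' : Subgroup L) = W.subgroupOf L →
      (R' : Subgroup L).map L.subtype = W ⊓ L := by
    intro W R' h
    rw [h, Subgroup.subgroupOf_map_subtype]
  refine ⟨(l : G), ?_⟩
  have key : MulAut.conj (l : G) • (U ⊓ L) = V ⊓ L := by
    rw [← hUL U R hR, ← hUL V T hT, ← hl']
    ext x
    simp only [Subgroup.mem_pointwise_smul_iff_inv_smul_mem, Subgroup.mem_map]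
    constructor
    · rintro ⟨y, hy, hyx⟩
      refine ⟨l * y * l⁻¹, ?_, ?_⟩
      · simp [MulAut.smul_def, mul_assoc, hy]
      · simp only [Subgroup.coe_subtype, MulAut.smul_def, MulAut.inv_apply,
          MulAut.conj_symm_apply] at hyx
        simp [Subgroup.coe_subtype, hyx, mul_assoc]
    · rintro ⟨y, hy, rfl⟩
      refine ⟨_, hy, ?_⟩
      simp [MulAut.smul_def]
  have hne : ∀ (W : Subgroup G) (R' : Sylow q L), (R' : Subgroup L) = W.subgroupOf L → W ⊓ L ≠ ⊥ := by
    intro W R' h e
    rw [← hUL W R' h, Subgroup.map_eq_bot_iff_of_injective _ L.subtype_injective] at e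
    refine R'.ne_bot_of_dvd_card ?_ e
    rw [hLc, hdc]
    exact Dvd.dvd.mul_left (dvd_pow_self q (by omega)) _
  rw [← norm_eq U hU hUc (hne U R hR), ← norm_eq V hV hVc (hne V T hT), ← key,
    conj_smul_normalizer]


/-- In a finite solvable group all core-free maximal subgroups are conjugate. -/
theorem result {G : Type*} [Group G] [Finite G] [Group.IsSolvable G] (U V : Subgroup G) (hU : IsCoatom U) (hV : IsCoatom V) (hUc : U.normalCore = ⊥) (hVc : V.normalCore = ⊥) : ∃ g : G, MulAut.conj g • U = V := by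
  exact conj_of_core_free U V hU hV hUc hVc

end Cfsg.Agent.S0551
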