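import Cfsg.Statements.S0552
import Mathlib
import Cfsg.Agent.Lib.Core.Fitting

set_option linter.style.haveILetI false

set_option autoImplicit false
open Cfsg

namespace Cfsg.Agent.S0552

/-- Let σ be an automorphism of a finite solvable group G fixing every element of the Fitting subgroup. If σ is not the identity then the order of σ and the order of G have a common prime factor. -/
theorem result {G : Type*} [Group G] [Finite G] [Group.IsSolvable G] (σ : G ≃* G) (hσ : ∀ x ∈ Cfsg.fittingSubgroup G, σ x = x) (hne : σ ≠ MulEquiv.refl G) : ¬ (orderOf σ).Coprime (Nat.card G) := by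
  intro hco
  refine hne (MulEquiv.ext fun g => ?_)
  haveI := Cfsg.Agent.Lib.Fitting.fittingSubgroup_normal (G := G)
  have hf : g⁻¹ * σ g ∈ Cfsg.fittingSubgroup G := by
    apply Cfsg.Agent.Lib.Fitting.centralizer_fittingSubgroup_le
    rw [Subgroup.mem_centralizer_iff]
    intro x hx
    have h1 : g * x * g⁻¹ ∈ Cfsg.fittingSubgroup G :=
      (inferInstance : (Cfsg.fittingSubgroup G).Normal).conj_mem x hx g
    have h2 := hσ _ h1
    rw [map_mul, map_mul, map_inv, hσ x hx] at h2
    calc x * (g⁻¹ * σ g) = g⁻¹ * (g * x * g⁻¹) * σ g := by group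
      _ = g⁻¹ * (σ g * x * (σ g)⁻¹) * σ g := by rw [h2]
      _ = g⁻¹ * σ g * x := by group
  have hiter : ∀ k : ℕ, (σ : G ≃* G)^[k] g = g * (g⁻¹ * σ g) ^ k := by
    intro k
    induction k with
    | zero => simp
    | succ k ih =>
      rw [Function.iterate_succ_apply', ih, map_mul, map_pow, hσ _ hf, pow_succ', ← mul_assoc g,
        mul_inv_cancel_left]
  have hpow : ∀ (k : ℕ), (σ ^ k : G ≃* G) g = (σ : G ≃* G)^[k] g := by
    intro k
    induction k with
    | zero => rfl
    | succ k ih => rw [pow_succ', MulAut.mul_apply, ih, Function.iterate_succ_apply']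
  have h3 := hiter (orderOf σ)
  rw [← hpow, pow_orderOf_eq_one] at h3
  have h4 : (g⁻¹ * σ g) ^ orderOf σ = 1 := by
    have : g * (g⁻¹ * σ g) ^ orderOf σ = g * 1 := by rw [← h3, mul_one]; rfl
    exact mul_left_cancel this
  have h5 : g⁻¹ * σ g = 1 := by
    rw [← orderOf_eq_one_iff]
    exact Nat.eq_one_of_dvd_coprimes hco (orderOf_dvd_of_pow_eq_one h4) (orderOf_dvd_natCard _)
  show σ g = g
  exact (inv_mul_eq_one.1 h5).symm

end Cfsg.Agent.S0552
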