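import Cfsg.Statements.S0553
import Mathlib
import Cfsg.Agent.Lib.Supersolvable.MinNormal

set_option linter.style.haveILetI false

set_option autoImplicit false
open Cfsg

namespace Cfsg.Agent.S0553

open Cfsg.Agent.Lib.Supersolvable in
theorem exists_normal_sylow (G : Type*) [Group G] [Finite G] [Group.IsSolvable G] [Nontrivial G]
    (h : ∀ M : Subgroup G, IsCoatom M → (Nat.card M).Coprime M.index) :
    ∃ p : ℕ, p.Prime ∧ p ∣ Nat.card G ∧ ∀ P : Sylow p G, (P : Subgroup G).Normal := by
  induction hn : Nat.card G using Nat.strong_induction_on generalizing G with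
  | _ n ih =>
    subst hn
    obtain ⟨N, hN, hne, hNc, hmin, p, hp, hNp, -⟩ := exists_minimal_normal_solvable G
    haveI := hN
    haveI := hNc
    haveI := Fact.mk hp
    obtain ⟨e, he, hec⟩ := isPGroup_prime_dvd hNp hne
    have hpN : p ∣ Nat.card N := hec ▸ dvd_pow_self p (by omega)
    have hpG : p ∣ Nat.card G := hpN.trans (Subgroup.card_subgroup_dvd_card N)
    have unique : ∀ {q : ℕ} [Fact q.Prime] (S : Sylow q G), (S : Subgroup G).Normal →
        ∀ P : Sylow q G, (P : Subgroup G).Normal := by
      intro q _ S hS P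
      haveI : Subsingleton (Sylow q G) := by
        haveI := Sylow.unique_of_normal S hS
        exact inferInstance
      rw [Subsingleton.elim P S]
      exact hS
    by_cases hidx : p ∣ N.index
    swap
    · exact ⟨p, hp, hpG, fun P => unique (hNp.toSylow hidx) (by rw [IsPGroup.toSylow_coe]; exact hN) P⟩
    have hnt : Nontrivial (G ⧸ N) := QuotientGroup.nontrivial_iff.2 fun e => by
      rw [e, Subgroup.index_top] at hidx
      exact hp.ne_one (Nat.dvd_one.1 hidx)
    have hq : ∀ M : Subgroup (G ⧸ N), IsCoatom M → (Nat.card M).Coprime M.index := by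
      intro M hM
      have hM' : IsCoatom (M.comap (QuotientGroup.mk' N)) :=
        Subgroup.isCoatom_comap_of_surjective (QuotientGroup.mk'_surjective N) hM
      have h2 := h _ hM'
      rw [Subgroup.index_comap_of_surjective _ (QuotientGroup.mk'_surjective N)] at h2
      refine h2.coprime_dvd_left ?_
      exact Dvd.intro_left _ (QuotientGroup.card_preimage_mk N (M : Set (G ⧸ N))).symm
    obtain ⟨q, hqp, hqd, hqn⟩ := ih _ (card_quotient_lt hne) (G ⧸ N) hq rfl
    haveI := Fact.mk hqp
    obtain ⟨Q⟩ : Nonempty (Sylow q G) := inferInstance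
    let f := QuotientGroup.mk' N
    have hRn : ((Q.mapSurjective (f := f) (QuotientGroup.mk'_surjective N) : Sylow q (G ⧸ N)) :
      Subgroup (G ⧸ N)).Normal := hqn _
    rw [Sylow.coe_mapSurjective] at hRn
    let R : Subgroup G := ((Q : Subgroup G).map f).comap f
    haveI hR : R.Normal := hRn.comap f
    have hRsup : R = (Q : Subgroup G) ⊔ N := by
      show ((Q : Subgroup G).map f).comap f = _
      rw [Subgroup.comap_map_eq, QuotientGroup.ker_mk']
    have hQR : (Q : Subgroup G) ≤ R := Subgroup.le_comap_map _ _
    by_cases hqeq : q = p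
    · subst hqeq
      refine ⟨q, hp, hpG, fun P => unique Q ?_ P⟩
      have hRp : IsPGroup q R := by
        rw [hRsup]
        exact Q.isPGroup'.to_sup_of_normal_right hNp
      have := Q.3 hRp hQR
      rwa [← this]
    by_cases hQn : (Q : Subgroup G).Normal
    · exact ⟨q, hqp, hqd.trans (Subgroup.card_quotient_dvd_card N), fun P => unique Q hQn P⟩
    exfalso
    obtain ⟨M, hM, hle⟩ := (eq_top_or_exists_le_coatom
      (Subgroup.normalizer ((Q : Subgroup G) : Set G))).resolve_left
        fun e => hQn (Subgroup.normalizer_eq_top_iff.1 e)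
    have hfr : Subgroup.normalizer ((Q : Subgroup G) : Set G) ⊔ R = ⊤ := Q.normalizer_sup_eq_top' hQR
    have hNM : ¬ N ≤ M := fun hNM => hM.1 (top_le_iff.1 (hfr ▸ sup_le hle
      (hRsup ▸ sup_le ((Subgroup.le_normalizer).trans hle) hNM)))
    have htop : N ⊔ M = ⊤ := hM.2 _ (lt_of_le_of_ne le_sup_right fun e => hNM (e ▸ le_sup_left))
    have hbot : N ⊓ M = ⊥ := (hmin _ (inf_normal_of_not_le hM hNM) inf_le_left).resolve_right
      fun e => hNM (e ▸ inf_le_right)
    have hc : Subgroup.IsComplement' N M := by
      refine Subgroup.isComplement'_of_disjoint_and_mul_eq_univ (disjoint_iff.2 hbot) ?_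
      rw [← Subgroup.normal_mul, htop, Subgroup.coe_top]
    have hco := h M hM
    rw [← hc.symm.index_eq_card, hc.index_eq_card] at hco
    exact (hp.coprime_iff_not_dvd.1 (hco.symm.coprime_dvd_left hpN)) hidx


/-- Let G be a nontrivial finite solvable group in which every maximal subgroup has order coprime to its index. Then for some prime p dividing the order of G the Sylow p-subgroups of G are normal. -/
theorem result {G : Type*} [Group G] [Finite G] [Group.IsSolvable G] [Nontrivial G] (h : ∀ M : Subgroup G, IsCoatom M → (Nat.card M).Coprime M.index) : ∃ p : ℕ, p.Prime ∧ p ∣ Nat.card G ∧ ∀ P : Sylow p G, (P : Subgroup G).Normal := by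
  exact exists_normal_sylow G h

end Cfsg.Agent.S0553
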