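import Cfsg.Statements.S0554
import Mathlib
import Cfsg.Agent.Lib.Supersolvable.Props
import Cfsg.Agent.Lib.Supersolvable.MinNormal

set_option linter.style.haveILetI false

set_option autoImplicit false
open Cfsg

namespace Cfsg.Agent.S0554

theorem absorb {G : Type*} [Group G] (M : Subgroup G) [M.Normal] :
    ∀ (t : ℕ) (K : Fin t → Subgroup G) (i : Fin t), M ≤ K i → ∀ (s : Fin t → G),
      (∀ j, s j ∈ K j) → ∀ m ∈ M, ∃ s' : Fin t → G, (∀ j, s' j ∈ K j) ∧
        (List.ofFn s).prod * m = (List.ofFn s').prod := by
  intro t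
  induction t with
  | zero => intro K i; exact i.elim0
  | succ t ih =>
    intro K i hi s hs m hm
    induction i using Fin.cases with
    | zero =>
      let r := (List.ofFn fun j : Fin t => s j.succ).prod
      refine ⟨Fin.cons (s 0 * (r * m * r⁻¹)) (fun j => s j.succ), fun j => ?_, ?_⟩
      · induction j using Fin.cases with
        | zero =>
          simpa using mul_mem (hs 0) (hi ((inferInstance : M.Normal).conj_mem m hm r))
        | succ j => simpa using hs j.succ
      · simp [List.ofFn_succ, r, mul_assoc]
    | succ i =>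
      obtain ⟨u, hu, he⟩ := ih (fun j => K j.succ) i hi (fun j => s j.succ) (fun j => hs j.succ) m hm
      refine ⟨Fin.cons (s 0) u, fun j => ?_, ?_⟩
      · induction j using Fin.cases with
        | zero => simpa using hs 0
        | succ j => simpa using hu j
      · rw [List.ofFn_succ (f := s), List.prod_cons, mul_assoc, he]
        simp [List.ofFn_succ]

open Cfsg.Agent.Lib.Supersolvable in
theorem exists_product (G : Type*) [Group G] [Finite G] [Group.IsSolvable G] (t : ℕ) (p : Fin t → ℕ)
    (hp : ∀ i, (p i).Prime) (hinj : Function.Injective p)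
    (hall : ∀ q : ℕ, q.Prime → q ∣ Nat.card G → ∃ i, p i = q)
    (S : (i : Fin t) → Sylow (p i) G) :
    ∀ g : G, ∃ s : (i : Fin t) → G, (∀ i, s i ∈ (S i : Subgroup G)) ∧ g = (List.ofFn s).prod := by
  induction hn : Nat.card G using Nat.strong_induction_on generalizing G with
  | _ n ih =>
    subst hn
    intro g
    rcases subsingleton_or_nontrivial G with hs | hnt
    · exact ⟨fun _ => 1, fun i => one_mem _, Subsingleton.elim _ _⟩
    obtain ⟨M, hMn, hMne, -, -, q, hq, hMq, -⟩ := exists_minimal_normal_solvable G
    haveI := hMn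
    haveI := Fact.mk hq
    obtain ⟨e, he, hec⟩ := isPGroup_prime_dvd hMq hMne
    obtain ⟨i₀, hi₀⟩ := hall q hq (((hec ▸ dvd_pow_self q (by omega)) : q ∣ Nat.card M).trans
      (Subgroup.card_subgroup_dvd_card M))
    haveI hf : ∀ i, Fact (p i).Prime := fun i => Fact.mk (hp i)
    let f := QuotientGroup.mk' M
    obtain ⟨u, hu, hue⟩ := ih _ (card_quotient_lt hMne) (G ⧸ M)
      (fun r hr hrd => hall r hr (hrd.trans (Subgroup.card_quotient_dvd_card M)))
      (fun i => (S i).mapSurjective (f := f) (QuotientGroup.mk'_surjective M)) rfl (f g)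
    have hu' : ∀ i, ∃ x ∈ (S i : Subgroup G), f x = u i := fun i => Subgroup.mem_map.1 (hu i)
    choose x hx hxu using hu'
    have hprod : f (List.ofFn x).prod = f g := by
      rw [hue, map_list_prod, List.map_ofFn]
      congr 2
      funext i
      exact hxu i
    obtain ⟨m, hm, rfl⟩ : ∃ m ∈ M, g = (List.ofFn x).prod * m :=
      ⟨_, QuotientGroup.eq.1 hprod, (mul_inv_cancel_left _ _).symm⟩
    have hMS : M ≤ (S i₀ : Subgroup G) := by
      have hM' : IsPGroup (p i₀) M := by rw [hi₀]; exact hMq
      exact hM'.le_sylow_of_normal (S i₀)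
    obtain ⟨s', hs', he'⟩ := absorb M t (fun i => (S i : Subgroup G)) i₀ hMS x hx m hm
    exact ⟨s', hs', he'⟩


/-- Let G be a finite solvable group and let S assign to each of t distinct primes, including every prime divisor of the order of G, a Sylow subgroup of G. Then every element of G is a product s_0 s_1 ⋯ s_(t-1) with s_i in S i, the factors taken in the given order. -/
theorem result {G : Type*} [Group G] [Finite G] [Group.IsSolvable G] (t : ℕ) (p : Fin t → ℕ) (hp : ∀ i, (p i).Prime) (hinj : Function.Injective p) (hall : ∀ q : ℕ, q.Prime → q ∣ Nat.card G → ∃ i, p i = q) (S : (i : Fin t) → Sylow (p i) G) : ∀ g : G, ∃ s : (i : Fin t) → G, (∀ i, s i ∈ (S i : Subgroup G)) ∧ g = (List.ofFn s).prod := by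
  exact exists_product G t p hp hinj hall S

end Cfsg.Agent.S0554
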