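import Cfsg.Statements.S0555
import Mathlib

set_option linter.style.haveILetI false

set_option autoImplicit false
open Cfsg

namespace Cfsg.Agent.S0555

/-- Let i ≥ 1. If in the derived series of a group the quotient of the i-th term by the (i+1)-st and the quotient of the (i+1)-st by the (i+2)-nd are both cyclic, then the (i+1)-st and (i+2)-nd terms coincide. -/
theorem result {G : Type*} [Group G] (i : ℕ) (hi : 1 ≤ i) (h₁ : IsCyclic (↥(derivedSeries G i) ⧸ (derivedSeries G (i + 1)).subgroupOf (derivedSeries G i))) (h₂ : IsCyclic (↥(derivedSeries G (i + 1)) ⧸ (derivedSeries G (i + 2)).subgroupOf (derivedSeries G (i + 1)))) : derivedSeries G (i + 1) = derivedSeries G (i + 2) := by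
  let A := derivedSeries G i
  let B := derivedSeries G (i + 1)
  let C := derivedSeries G (i + 2)
  have hBA : B ≤ A := derivedSeries_antitone G (Nat.le_succ i)
  have hCB : C ≤ B := derivedSeries_antitone G (Nat.le_succ (i + 1))
  refine le_antisymm ?_ hCB
  haveI : B.Normal := derivedSeries_normal G (i + 1)
  haveI : C.Normal := derivedSeries_normal G (i + 2)
  let f := QuotientGroup.mk' C
  have hBcyc : IsCyclic (B.map f) := by
    haveI := h₂
    let φ : (↥B ⧸ C.subgroupOf B) →* B.map f :=
      QuotientGroup.lift _ (f.subgroupMap B) (by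
        intro x hx
        rw [MonoidHom.mem_ker]
        exact Subtype.ext ((QuotientGroup.eq_one_iff _).2 hx))
    exact isCyclic_of_surjective φ (QuotientGroup.lift_surjective_of_surjective _ _
      (f.subgroupMap_surjective B) _)
  haveI : (B.map f).Normal := (inferInstance : B.Normal).map f (QuotientGroup.mk'_surjective C)
  -- the derived subgroup centralises the cyclic normal subgroup
  let ρ : G ⧸ C →* MulAut (B.map f) := MulAut.conjNormal
  have hcomm : ∀ x y : MulAut (B.map f), x * y = y * x := by
    intro x y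
    ext z : 1
    obtain ⟨m, hm⟩ := MonoidHom.map_cyclic (x : MulAut (B.map f)).toMonoidHom
    simp only [MulEquiv.coe_toMonoidHom] at hm
    rw [MulAut.mul_apply, MulAut.mul_apply, hm, hm, map_zpow]
  have hA : A ≤ (ρ.comp f).ker := by
    refine (derivedSeries_antitone G hi).trans ?_
    rw [derivedSeries_one, commutator_def, Subgroup.commutator_le]
    intro a _ b _
    rw [MonoidHom.mem_ker, map_commutatorElement, commutatorElement_eq_one_iff_mul_comm]
    exact hcomm _ _
  have hcent : ∀ a ∈ A, ∀ b ∈ B, f a * f b = f b * f a := by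
    intro a ha b hb
    have h1 : ρ (f a) = 1 := hA ha
    have h2 := congrArg (fun e : MulAut (B.map f) => ((e ⟨f b, Subgroup.mem_map_of_mem f hb⟩ :
      B.map f) : G ⧸ C)) h1
    simp only [ρ, MulAut.conjNormal_apply, MulAut.one_apply] at h2
    exact mul_inv_eq_iff_eq_mul.1 h2
  -- the image of A is generated by a central subgroup and one element
  obtain ⟨g, hg⟩ := h₁.exists_generator
  obtain ⟨a, rfl⟩ := QuotientGroup.mk_surjective g
  have hdec : ∀ x ∈ A, ∃ (k : ℤ), ∃ b ∈ B, x = (a : G) ^ k * b := by
    intro x hx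
    obtain ⟨k, hk⟩ := Subgroup.mem_zpowers_iff.1 (hg (QuotientGroup.mk ⟨x, hx⟩))
    rw [← QuotientGroup.mk_zpow, QuotientGroup.eq] at hk
    refine ⟨k, ((a : G) ^ k)⁻¹ * x, ?_, by group⟩
    simpa [Subgroup.mem_subgroupOf, B] using hk
  show B ≤ C
  have key : ⁅A, A⁆ ≤ C := by
    rw [Subgroup.commutator_le]
    intro x hx y hy
    rw [← QuotientGroup.eq_one_iff (N := C), ← QuotientGroup.mk'_apply, map_commutatorElement,
      commutatorElement_eq_one_iff_mul_comm]
    obtain ⟨k, b, hb, rfl⟩ := hdec x hx
    obtain ⟨l, c, hc, rfl⟩ := hdec y hy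
    have cab : Commute (f (a : G)) (f b) := hcent a a.2 b hb
    have cac : Commute (f (a : G)) (f c) := hcent a a.2 c hc
    have cbc : Commute (f b) (f c) := hcent b (hBA hb) c hc
    have h1 : Commute (f (a : G) ^ k) (f (a : G) ^ l * f c) :=
      ((Commute.refl _).zpow_zpow k l).mul_right (cac.zpow_left k)
    have h2 : Commute (f b) (f (a : G) ^ l * f c) := ((cab.zpow_left l).symm).mul_right cbc
    show f ((a : G) ^ k * b) * f ((a : G) ^ l * c) = f ((a : G) ^ l * c) * f ((a : G) ^ k * b)
    rw [map_mul, map_mul, map_zpow, map_zpow]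
    exact h1.mul_left h2
  rwa [← derivedSeries_succ] at key

end Cfsg.Agent.S0555
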