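import Cfsg.Statements.S0558
import Mathlib
import Cfsg.Agent.Lib.Factorized.FocalSeries
set_option autoImplicit false
open scoped commutatorElement
open Cfsg

namespace Cfsg.Agent.S0558

/-- If `Q` is a Sylow subgroup centralizing both `x` and its conjugate `u x u⁻¹`, and the
normalizer of `Q` is `H`, then `x` and `u x u⁻¹` are conjugate by an element of `H`. -/
theorem exists_conj_of_centralizer {G : Type*} [Group G] [Finite G] (H : Subgroup G) {q : ℕ}
    [Fact q.Prime] (Q : Sylow q G) (hQ : Subgroup.normalizer ((Q : Subgroup G) : Set G) = H)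
    {x u : G} (hx : (Q : Subgroup G) ≤ Subgroup.centralizer {x})
    (hy : (Q : Subgroup G) ≤ Subgroup.centralizer {u * x * u⁻¹}) :
    ∃ h ∈ H, h * x * h⁻¹ = u * x * u⁻¹ := by
  set y := u * x * u⁻¹ with hyd
  set C := Subgroup.centralizer ({y} : Set G)
  have hy' : ((u • Q : Sylow q G) : Subgroup G) ≤ C := by
    intro z hz
    rw [Sylow.coe_subgroup_smul, Subgroup.mem_pointwise_smul_iff_inv_smul_mem, MulAut.smul_def,
      ← map_inv, MulAut.conj_apply, inv_inv] at hz
    have h1 := Subgroup.mem_centralizer_singleton_iff.1 (hx hz)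
    rw [Subgroup.mem_centralizer_singleton_iff, hyd]
    have h2 := congrArg (fun t => u * t * u⁻¹) h1
    simp only [mul_assoc, inv_mul_cancel_left, mul_inv_cancel_left] at h2 ⊢
    simpa [mul_assoc] using h2
  obtain ⟨c, hc⟩ := MulAction.exists_smul_eq C ((u • Q).subtype hy') (Q.subtype hy)
  simp_rw [Sylow.smul_subtype, Subgroup.smul_def] at hc
  have hQeq : ((c : G) * u) • Q = Q := by
    rw [mul_smul]
    exact Sylow.subtype_injective hc
  refine ⟨c * u, hQ ▸ (Sylow.smul_eq_iff_mem_normalizer.1 hQeq), ?_⟩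
  have hcy : (c : G) * y = y * c := Subgroup.mem_centralizer_singleton_iff.1 c.2
  calc (c : G) * u * x * ((c : G) * u)⁻¹ = (c : G) * y * (c : G)⁻¹ := by rw [hyd]; group
    _ = y := by rw [hcy, mul_inv_cancel_right]


/-- Let H be a subgroup of a finite group G that is not a Sylow subgroup of G for any prime, and suppose that for every prime p dividing the order of H and every Sylow p-subgroup P of H the normalizer of P in G is exactly H. Then some normal subgroup of G is a complement to H. -/
theorem result {G : Type*} [Group G] [Finite G] (H : Subgroup G) (hnot : ∀ p : ℕ, p.Prime → ∀ P : Sylow p G, (P : Subgroup G) ≠ H) (hnorm : ∀ p : ℕ, p.Prime → p ∣ Nat.card H → ∀ P : Sylow p H, Subgroup.normalizer (((P : Subgroup H).map H.subtype : Subgroup G) : Set G) = H) : ∃ N : Subgroup G, N.Normal ∧ Subgroup.IsComplement' N H := by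
  classical
  -- the images in `G` of Sylow subgroups of `H` are Sylow subgroups of `G`
  have hsyl : ∀ (p : ℕ) [Fact p.Prime], p ∣ Nat.card H → ∀ P : Sylow p H,
      ∃ S : Sylow p G, (S : Subgroup G) = (P : Subgroup H).map H.subtype := by
    intro p hp hpd P
    obtain ⟨S, hS⟩ := (P.2.map H.subtype).exists_le_sylow
    refine ⟨S, le_antisymm ?_ hS⟩
    set Q := (P : Subgroup H).map H.subtype
    by_contra hne
    haveI := S.2.isNilpotent
    have hlt : Q.subgroupOf (S : Subgroup G) < ⊤ := by
      rw [lt_top_iff_ne_top, Ne, Subgroup.subgroupOf_eq_top]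
      exact hne
    obtain ⟨s, hs, hsQ⟩ := SetLike.exists_of_lt
      (Group.normalizerCondition_of_isNilpotent _ hlt)
    have hsN : (s : G) ∈ H := by
      rw [← hnorm p hp.out hpd P]
      refine Subgroup.mem_normalizer_fintype fun z hz => ?_
      have := (Subgroup.mem_normalizer_iff.1 hs ⟨z, hS hz⟩).1 hz
      rw [Subgroup.mem_subgroupOf] at this
      exact this
    -- `⟨Q, s⟩` is a `p`-subgroup of `H`, hence `s ∈ Q`
    have hmax := P.is_maximal' (Q := ((S : Subgroup G)).subgroupOf H)
      ((S.2.to_le (inf_le_left : (S : Subgroup G) ⊓ H ≤ S)).of_equiv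
        ((Subgroup.equivMapOfInjective (((S : Subgroup G)).subgroupOf H) H.subtype
          H.subtype_injective).trans (MulEquiv.subgroupCongr (Subgroup.subgroupOf_map_subtype _ _))).symm)
      (fun z hz => hS (Subgroup.mem_map_of_mem H.subtype hz))
    apply hsQ
    rw [Subgroup.mem_subgroupOf]
    exact ⟨⟨(s : G), hsN⟩, hmax ▸ (show (⟨(s : G), hsN⟩ : H) ∈ (S : Subgroup G).subgroupOf H from s.2), rfl⟩
  have hHall : (Nat.card H).Coprime H.index := by
    refine Nat.coprime_of_dvd fun p hp hpH hpI => ?_
    haveI := Fact.mk hp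
    obtain ⟨P⟩ := (inferInstance : Nonempty (Sylow p H))
    obtain ⟨S, hS⟩ := hsyl p hpH P
    exact S.not_dvd_index (hpI.trans (Subgroup.index_dvd_of_le (hS ▸ Subgroup.map_subtype_le _)))
  have hPn : ∀ (p : ℕ) [Fact p.Prime] (P : Sylow p H), (P : Subgroup H).Normal := by
    intro p hp P
    by_cases hpd : p ∣ Nat.card H
    · have hle := (hnorm p hp.out hpd P).ge
      have h2 := (Subgroup.normal_subgroupOf_iff_le_normalizer (Subgroup.map_subtype_le _)).2 hle
      rwa [Subgroup.subgroupOf, Subgroup.comap_map_eq_self_of_injective H.subtype_injective] at h2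
    · have : (P : Subgroup H) = ⊥ := by
        rw [Subgroup.eq_bot_iff_card, P.card_eq_multiplicity,
          Nat.factorization_eq_zero_of_not_dvd hpd, pow_zero]
      rw [this]; infer_instance
  have hnil : Group.IsNilpotent H :=
    Group.isNilpotent_of_finite_tfae.out 3 0 rfl rfl |>.mp fun p _ P => hPn p P
  -- control of fusion for elements of prime power order
  have hpp : ∀ (p : ℕ), p.Prime → ∀ x : H, (∃ k, orderOf x = p ^ k) → ∀ u : G,
      u * x * u⁻¹ ∈ H → ∃ h ∈ H, h * x * h⁻¹ = u * x * u⁻¹ := by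
    intro p hp x hx u hy
    haveI := Fact.mk hp
    by_cases hx1 : x = 1
    · exact ⟨1, one_mem _, by simp [hx1]⟩
    obtain ⟨k, hk⟩ := hx
    have hpd : p ∣ Nat.card H := by
      refine dvd_trans ?_ (orderOf_dvd_natCard x)
      rw [hk]
      refine dvd_pow_self p ?_
      rintro rfl
      exact hx1 (orderOf_eq_one_iff.1 (by simpa using hk))
    obtain ⟨q, hq, hqd, hqp⟩ : ∃ q, q.Prime ∧ q ∣ Nat.card H ∧ q ≠ p := by
      by_contra hcon
      push Not at hcon
      obtain ⟨P⟩ := (inferInstance : Nonempty (Sylow p H))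
      obtain ⟨S, hS⟩ := hsyl p hpd P
      refine hnot p hp S ?_
      rw [hS]
      have hPtop : (P : Subgroup H) = ⊤ := by
        refine Subgroup.eq_top_of_card_eq _ ?_
        rw [P.card_eq_multiplicity]
        exact (Nat.eq_prime_pow_of_unique_prime_dvd Nat.card_pos.ne' (hcon _)).symm ▸ by
          rw [Nat.factorization_pow, Finsupp.smul_apply, hp.factorization_self, smul_eq_mul, mul_one]
      rw [hPtop, ← MonoidHom.range_eq_map, H.range_subtype]
    haveI := Fact.mk hq
    obtain ⟨P⟩ := (inferInstance : Nonempty (Sylow p H))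
    obtain ⟨Q⟩ := (inferInstance : Nonempty (Sylow q H))
    obtain ⟨SQ, hSQ⟩ := hsyl q hqd Q
    have hin : ∀ z : H, orderOf z = p ^ k → z ∈ (P : Subgroup H) := by
      intro z hz
      obtain ⟨P', hP'⟩ := (IsPGroup.of_card (p := p) (n := k)
        (by rw [Nat.card_zpowers, hz] : Nat.card (Subgroup.zpowers z) = p ^ k)).exists_le_sylow
      haveI := Sylow.unique_of_normal P (hPn p P)
      rw [Subsingleton.elim P P']
      exact hP' (Subgroup.mem_zpowers z)
    have hdisj : Disjoint (P : Subgroup H) (Q : Subgroup H) :=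
      IsPGroup.disjoint_of_ne p q hqp.symm (P : Subgroup H) (Q : Subgroup H) P.2 Q.2
    have hcen : ∀ z : H, orderOf z = p ^ k →
        (SQ : Subgroup G) ≤ Subgroup.centralizer {(z : G)} := by
      intro z hz
      rw [hSQ]
      rintro _ ⟨w, hw, rfl⟩
      rw [Subgroup.mem_centralizer_singleton_iff]
      exact congrArg Subtype.val
        (Subgroup.commute_of_normal_of_disjoint _ _ (hPn p P) (hPn q Q) hdisj z w (hin z hz) hw).symm.eq
    refine exists_conj_of_centralizer H SQ (by rw [hSQ]; exact hnorm q hq hqd Q) (hcen x hk) ?_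
    refine hcen ⟨u * x * u⁻¹, hy⟩ ?_
    rw [← hk, ← Subgroup.orderOf_coe, ← Subgroup.orderOf_coe (a := x)]
    exact MulEquiv.orderOf_eq (MulAut.conj u) (x : G)
  -- the focal series is contained in the lower central series
  have hstep : ∀ L : Subgroup G, L ≤ H → H ≤ Subgroup.normalizer ((⁅L, H⁆ : Subgroup G) : Set G) →
      L.focalSubgroup ≤ ⁅L, H⁆ := by
    intro L hL hLn
    have key : ∀ n, ∀ x : G, orderOf x = n → x ∈ L → ∀ u : G, u * x * u⁻¹ ∈ L →
        x⁻¹ * (u * x * u⁻¹) ∈ ⁅L, H⁆ := by
      intro n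
      induction n using Nat.strong_induction_on with
      | _ n ih =>
      intro x hn hx u hy
      have hpos : 0 < n := hn ▸ orderOf_pos x
      by_cases hppw : IsPrimePow n ∨ n = 1
      · obtain ⟨p, hp, k, hk⟩ : ∃ p, p.Prime ∧ ∃ k, n = p ^ k := by
          rcases hppw with h | h
          · obtain ⟨p, k, hp, _, hk⟩ := (isPrimePow_nat_iff n).1 h
            exact ⟨p, hp, k, hk.symm⟩
          · exact ⟨2, Nat.prime_two, 0, h⟩
        obtain ⟨h, hh, he⟩ := hpp p hp ⟨x, hL hx⟩
          ⟨k, by rw [← Subgroup.orderOf_coe, hn, hk]⟩ u (hL hy)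
        rw [← he, show x⁻¹ * (h * x * h⁻¹) = ⁅x⁻¹, h⁆ by rw [commutatorElement_def]; group]
        exact Subgroup.commutator_mem_commutator (inv_mem hx) hh
      · push Not at hppw
        obtain ⟨p, hp, hpn⟩ := Nat.exists_prime_and_dvd hppw.2
        set a := p ^ n.factorization p
        set b := n / a
        have hab : a * b = n := Nat.ordProj_mul_ordCompl_eq_self n p
        have hcop : a.Coprime b := Nat.Coprime.pow_left _ (Nat.coprime_ordCompl hp hpos.ne')
        have ha1 : 1 < a := Nat.one_lt_pow (hp.factorization_pos_of_dvd hpos.ne' hpn).ne' hp.one_lt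
        have hb1 : 1 < b := by
          rcases Nat.lt_or_ge 1 b with h | hb
          · exact h
          · exfalso
            apply hppw.1
            have hb0 : b ≠ 0 := by
              intro h0; rw [h0, mul_zero] at hab; omega
            have hb' : b = 1 := le_antisymm hb (Nat.one_le_iff_ne_zero.2 hb0)
            have : n = a := by rw [← hab, hb', mul_one]
            rw [isPrimePow_nat_iff]
            exact ⟨p, n.factorization p, hp, hp.factorization_pos_of_dvd hpos.ne' hpn, this.symm⟩
        obtain ⟨i, j, hij⟩ : ∃ i j : ℤ, (a : ℤ) * i + (b : ℤ) * j = 1 := by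
          obtain ⟨i, j, h⟩ := Nat.isCoprime_iff_coprime.2 hcop
          exact ⟨i, j, by rw [← h]; ring⟩
        set x1 := x ^ ((a : ℤ) * i)
        set x2 := x ^ ((b : ℤ) * j)
        have hx12 : x1 * x2 = x := by rw [← zpow_add, hij, zpow_one]
        have horder : ∀ (c d : ℕ) (m : ℤ), c * d = n → 1 < c → orderOf (x ^ ((c : ℤ) * m)) < n := by
          intro c d m hcd hc
          have hd : 0 < d := Nat.pos_of_ne_zero fun h0 => by rw [h0, mul_zero] at hcd; omega
          refine lt_of_le_of_lt (Nat.le_of_dvd hd (orderOf_dvd_of_pow_eq_one ?_)) ?_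
          · rw [← zpow_natCast, ← zpow_mul,
              show (c : ℤ) * m * (d : ℤ) = ((c * d : ℕ) : ℤ) * m by push_cast; ring, hcd,
              zpow_mul, zpow_natCast, ← hn, pow_orderOf_eq_one, one_zpow]
          · rw [← hcd]; exact lt_mul_left hd hc
        have h1 := ih _ (horder a b i hab ha1) x1 rfl (L.zpow_mem hx _) u
          (by rw [← conj_zpow]; exact L.zpow_mem hy _)
        have h2 := ih _ (horder b a j (by rw [mul_comm]; exact hab) hb1) x2 rfl (L.zpow_mem hx _) u
          (by rw [← conj_zpow]; exact L.zpow_mem hy _)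
        have : x⁻¹ * (u * x * u⁻¹) = x2⁻¹ * (x1⁻¹ * (u * x1 * u⁻¹)) * x2⁻¹⁻¹ *
            (x2⁻¹ * (u * x2 * u⁻¹)) := by
          rw [← hx12]; group
        rw [this]
        exact mul_mem ((Subgroup.mem_normalizer_iff.1
          (hLn (inv_mem (hL (L.zpow_mem hx _)))) _).1 h1) h2
    rw [Subgroup.focalSubgroup_def, Subgroup.closure_le]
    rintro g ⟨hg, x, hx, u, rfl⟩
    have hy : u * x⁻¹ * u⁻¹ ∈ L := by
      have := L.mul_mem (inv_mem hx) hg
      simpa [commutatorElement_def, mul_assoc] using this
    have := key _ x⁻¹ rfl (inv_mem hx) u hy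
    simpa [commutatorElement_def, mul_assoc] using this
  obtain ⟨n, hn⟩ := H.isNilpotent_iff_lowerCentralSeries.1 hnil
  refine Lib.Factorized.focal_normal_complement n H hHall (le_bot_iff.1 (hn ▸ ?_))
  clear hn
  induction n with
  | zero => exact le_rfl
  | succ n ih =>
    rw [Function.iterate_succ_apply', Subgroup.lowerCentralSeries_succ]
    exact (Lib.Factorized.focalSubgroup_mono ih).trans
      (hstep _ (H.lowerCentralSeries_antitone (Nat.zero_le n))
        (H.self_le_normalizer_lowerCentralSeries (n + 1)))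

end Cfsg.Agent.S0558
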