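import Cfsg.Statements.S0563
import Mathlib
import Cfsg.Agent.Lib.Factorized.KegelWielandt
import Cfsg.Agent.Lib.Factorized.HallPair
set_option autoImplicit false
open Pointwise
open Cfsg

namespace Cfsg.Agent.S0563

/-- If a finite group G is the product AB of two nilpotent subgroups of coprime orders, then G is solvable, and for every Sylow p-subgroup P of A and Sylow q-subgroup Q of B the product set PQ is a subgroup. -/
theorem result {G : Type*} [Group G] [Finite G] (A B : Subgroup G) (hA : Group.IsNilpotent A) (hB : Group.IsNilpotent B) (hcop : (Nat.card A).Coprime (Nat.card B)) (hAB : ∀ g : G, ∃ a ∈ A, ∃ b ∈ B, g = a * b) : Group.IsSolvable G ∧ ∀ (p q : ℕ) [Fact p.Prime] [Fact q.Prime] (P : Sylow p A) (Q : Sylow q B), ∃ S : Subgroup G, (S : Set G) = (((P : Subgroup A).map A.subtype : Subgroup G) : Set G) * (((Q : Subgroup B).map B.subtype : Subgroup G) : Set G) := by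
  have hsolv : Group.IsSolvable G := Lib.Factorized.kegel_wielandt hA hB hAB
  refine ⟨hsolv, ?_⟩
  intro p q _ _ P Q
  have hf : Lib.Factorized.IsFactorization A B := hAB
  have hcardG : Nat.card A * Nat.card B = Nat.card G := by
    rw [hf.card_mul_card, Subgroup.inf_eq_bot_of_coprime hcop, Subgroup.card_bot, mul_one]
  have hhall : ∀ (X Y : Subgroup G) (r : ℕ) [Fact r.Prime] (R : Sylow r X),
      Group.IsNilpotent X → (Nat.card X).Coprime (Nat.card Y) → Nat.card X * Nat.card Y = Nat.card G →
      (Nat.card ((R : Subgroup X).map X.subtype)).Coprime ((R : Subgroup X).map X.subtype).index := by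
    intro X Y r hr R hX hXY hG
    have hidx : X.index = Nat.card Y := by
      refine Nat.eq_of_mul_eq_mul_left (Nat.card_pos (α := X)) ?_
      rw [X.card_mul_index, hG]
    rw [Subgroup.card_map_of_injective X.subtype_injective, Subgroup.index_map,
      Subgroup.ker_subtype, sup_bot_eq, Subgroup.range_subtype, hidx]
    exact Nat.Coprime.mul_right R.card_coprime_index
      (hXY.coprime_dvd_left (Subgroup.card_subgroup_dvd_card _))
  have hnorm : ∀ (X : Subgroup G) (r : ℕ) [Fact r.Prime] (R : Sylow r X), Group.IsNilpotent X →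
      X ≤ Subgroup.normalizer (((R : Subgroup X).map X.subtype : Subgroup G) : Set G) := by
    intro X r hr R hX
    refine (Subgroup.normal_subgroupOf_iff_le_normalizer (Subgroup.map_subtype_le _)).1 ?_
    rw [Subgroup.subgroupOf, Subgroup.comap_map_eq_self_of_injective X.subtype_injective]
    exact (Group.isNilpotent_of_finite_tfae (G := X)).out 0 3 rfl rfl |>.mp hX r inferInstance R
  obtain ⟨S, hS⟩ := hf.hall_pair_permutable (hnorm A p P hA) (hnorm B q Q hB)
    (hhall A B p P hA hcop hcardG) (hhall B A q Q hB hcop.symm (by rw [mul_comm]; exact hcardG)) 1 1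
  rw [map_one, one_smul, one_smul] at hS
  exact ⟨S, hS⟩

end Cfsg.Agent.S0563
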