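import Cfsg.Statements.S0565
import Mathlib
import Cfsg.Agent.Lib.Factorized.KegelWielandt
set_option autoImplicit false
open scoped Pointwise
open Cfsg

namespace Cfsg.Agent.S0565

universe w

open Lib.Factorized in
/-- A solvable finite product of nilpotent subgroups has a proper normal subgroup containing one
of the factors. -/
theorem exists_normal_of_solvable (n : ℕ) :
    ∀ (G : Type w) [Group G] [Finite G] (A B : Subgroup G), Nat.card G = n →
      Group.IsSolvable G → Group.IsNilpotent A → Group.IsNilpotent B → IsFactorization A B →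
      A ≠ ⊤ ∨ B ≠ ⊤ → ∃ N : Subgroup G, N.Normal ∧ N ≠ ⊤ ∧ (A ≤ N ∨ B ≤ N) := by
  induction n using Nat.strong_induction_on with
  | _ n ih =>
  intro G _ _ A B hn hsolv hA hB hf hproper
  classical
  -- a proper subgroup of a nilpotent group lies in a proper normal subgroup
  have hnil : Group.IsNilpotent G → ∀ X : Subgroup G, X ≠ ⊤ →
      ∃ N : Subgroup G, N.Normal ∧ N ≠ ⊤ ∧ X ≤ N := fun h X hX => by
    obtain ⟨M, hM, hle⟩ := (eq_top_or_exists_le_coatom X).resolve_left hX
    exact ⟨M, Subgroup.NormalizerCondition.normal_of_coatom M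
      Group.normalizerCondition_of_isNilpotent hM, hM.1, hle⟩
  by_cases hG : Group.IsNilpotent G
  · rcases hproper with h | h
    · obtain ⟨N, h1, h2, h3⟩ := hnil hG A h
      exact ⟨N, h1, h2, Or.inl h3⟩
    · obtain ⟨N, h1, h2, h3⟩ := hnil hG B h
      exact ⟨N, h1, h2, Or.inr h3⟩
  haveI : Nontrivial G := by
    by_contra h
    rw [not_nontrivial_iff_subsingleton] at h
    exact hG inferInstance
  obtain ⟨N, hN⟩ := (Set.toFinite {N : Subgroup G | N.Normal ∧ N ≠ ⊥}).exists_minimal
    ⟨⊤, inferInstance, (top_ne_bot : (⊤ : Subgroup G) ≠ ⊥)⟩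
  obtain ⟨hNn, hNb⟩ := hN.1
  haveI := hNn
  set π := QuotientGroup.mk' N with hπ
  have hπs : Function.Surjective π := QuotientGroup.mk'_surjective N
  -- if a factor does not supplement `N`, use induction
  by_cases hq : A.map π ≠ ⊤ ∨ B.map π ≠ ⊤
  · haveI := hA
    haveI := hB
    haveI := hsolv
    obtain ⟨M, hMn, hMt, hM⟩ := ih (Nat.card (G ⧸ N)) (by
        rw [← hn, ← N.index_eq_card, ← N.card_mul_index]
        exact lt_mul_left (Nat.pos_of_ne_zero Subgroup.index_ne_zero_of_finite)
          ((Subgroup.one_lt_card_iff_ne_bot N).2 hNb))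
      (G ⧸ N) (A.map π) (B.map π) rfl inferInstance
      (Group.nilpotent_of_surjective (π.subgroupMap A) (π.subgroupMap_surjective A))
      (Group.nilpotent_of_surjective (π.subgroupMap B) (π.subgroupMap_surjective B))
      (hf.map hπs) hq
    refine ⟨M.comap π, inferInstance, fun he => hMt ?_, ?_⟩
    · rw [← Subgroup.map_comap_eq_self_of_surjective hπs M, he, Subgroup.map_top_of_surjective π hπs]
    · rcases hM with h | h
      · exact Or.inl (Subgroup.map_le_iff_le_comap.1 h)
      · exact Or.inr (Subgroup.map_le_iff_le_comap.1 h)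
  push Not at hq
  exfalso
  have hsup : ∀ X : Subgroup G, X.map π = ⊤ → N ⊔ X = ⊤ := fun X hX => by
    rw [sup_comm, ← QuotientGroup.ker_mk' N, ← Subgroup.comap_map_eq, ← hπ, hX, Subgroup.comap_top]
  have hAN := hsup A hq.1
  have hBN := hsup B hq.2
  have hNs : IsMulCommutative N := by
    rw [← Subgroup.commutator_self_eq_bot_iff]
    by_contra hne
    have hlt : ⁅N, N⁆ < N := by
      haveI := hsolv
      exact Group.IsSolvable.commutator_lt_of_ne_bot hNb
    exact absurd (hN.2 ⟨inferInstance, hne⟩ hlt.le) (not_le_of_gt hlt)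
  -- each factor is a complement of `N`
  have hcompl : ∀ X : Subgroup G, Group.IsNilpotent X → N ⊔ X = ⊤ → N ⊓ X = ⊥ := by
    intro X hX htop
    have hn' : (N ⊓ X).Normal := by
      refine ⟨fun y hy g => ?_⟩
      obtain ⟨v, hv, x, hx, rfl⟩ := Subgroup.mem_sup_of_normal_left.1 (show g ∈ N ⊔ X by rw [htop]; trivial)
      have h1 : x * y * x⁻¹ ∈ N ⊓ X :=
        ⟨hNn.conj_mem y hy.1 x, X.mul_mem (X.mul_mem hx hy.2) (X.inv_mem hx)⟩
      have h2 : v * x * y * (v * x)⁻¹ = x * y * x⁻¹ := by
        rw [show v * x * y * (v * x)⁻¹ = v * (x * y * x⁻¹) * v⁻¹ by group,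
          setLike_mul_comm hv h1.1, mul_inv_cancel_right]
      rw [h2]
      exact h1
    by_contra hne
    have hle : N ≤ X := (hN.2 ⟨hn', hne⟩ inf_le_left).trans inf_le_right
    apply hG
    rw [← Group.isNilpotent_top]
    have hXtop : X = ⊤ := by rw [← htop, sup_of_le_right hle]
    exact hXtop ▸ hX
  have hA1 := hcompl A hA hAN
  have hB1 := hcompl B hB hBN
  -- `A` and `B` are maximal
  have hmax : ∀ X : Subgroup G, N ⊔ X = ⊤ → N ⊓ X = ⊥ → IsCoatom X := by
    intro X htop hinf
    refine ⟨fun he => hNb (by rwa [he, inf_top_eq] at hinf), fun Y hXY => ?_⟩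
    have hn' : (N ⊓ Y).Normal := by
      refine ⟨fun y hy g => ?_⟩
      obtain ⟨v, hv, x, hx, rfl⟩ := Subgroup.mem_sup_of_normal_left.1 (show g ∈ N ⊔ X by rw [htop]; trivial)
      have h1 : x * y * x⁻¹ ∈ N ⊓ Y :=
        ⟨hNn.conj_mem y hy.1 x, Y.mul_mem (Y.mul_mem (hXY.le hx) hy.2) (Y.inv_mem (hXY.le hx))⟩
      have h2 : v * x * y * (v * x)⁻¹ = x * y * x⁻¹ := by
        rw [show v * x * y * (v * x)⁻¹ = v * (x * y * x⁻¹) * v⁻¹ by group,
          setLike_mul_comm hv h1.1, mul_inv_cancel_right]
      rw [h2]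
      exact h1
    by_cases hb : N ⊓ Y = ⊥
    · exfalso
      refine not_le_of_gt hXY fun y hy => ?_
      obtain ⟨v, hv, x, hx, rfl⟩ := Subgroup.mem_sup_of_normal_left.1 (show y ∈ N ⊔ X by rw [htop]; trivial)
      have h1 : v ∈ N ⊓ Y := ⟨hv, by simpa using Y.mul_mem hy (Y.inv_mem (hXY.le hx))⟩
      rw [hb, Subgroup.mem_bot] at h1
      rwa [h1, one_mul]
    · rw [eq_top_iff, ← htop]
      exact sup_le ((hN.2 ⟨hn', hb⟩ inf_le_left).trans inf_le_right) hXY.le
  have hcard : Nat.card A = Nat.card B := by
    have hcompl' : ∀ X : Subgroup G, N ⊔ X = ⊤ → N ⊓ X = ⊥ → Subgroup.IsComplement' N X := by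
      intro X htop hinf
      refine Subgroup.isComplement'_of_disjoint_and_mul_eq_univ (disjoint_iff.2 hinf) ?_
      rw [← Subgroup.normal_mul, htop, Subgroup.coe_top]
    exact Nat.eq_of_mul_eq_mul_left (Nat.card_pos (α := N))
      ((hcompl' A hAN hA1).card_mul_card.trans (hcompl' B hBN hB1).card_mul_card.symm)
  have hAmax := hmax A hAN hA1
  have hBmax := hmax B hBN hB1
  obtain ⟨r, hr, hNr⟩ : ∃ r, r.Prime ∧ IsPGroup r N := by
    obtain ⟨r, hr, hrd⟩ := Nat.exists_prime_and_dvd
      (show Nat.card N ≠ 1 from fun h => hNb (Subgroup.card_eq_one.1 h))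
    haveI := Fact.mk hr
    refine ⟨r, hr, ?_⟩
    haveI := Lib.PSolvable.pCore_characteristic (p := r) (G := ↥N)
    obtain ⟨P⟩ := (inferInstance : Nonempty (Sylow r N))
    have hPn : (P : Subgroup N).Normal := ⟨fun x hx g => by
      rwa [hNs.is_comm.comm g x, mul_inv_cancel_right]⟩
    haveI := Sylow.unique_of_normal P hPn
    haveI : (P : Subgroup N).Characteristic := P.characteristic_of_normal hPn
    have hPG : ((P : Subgroup N).map N.subtype).Normal := inferInstance
    have hne : (P : Subgroup N).map N.subtype ≠ ⊥ := by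
      rw [Ne, Subgroup.map_eq_bot_iff_of_injective _ N.subtype_injective]
      exact P.ne_bot_of_dvd_card hrd
    exact (P.2.map N.subtype).to_le (hN.2 ⟨hPG, hne⟩ (Subgroup.map_subtype_le _))
  haveI := Fact.mk hr
  -- some Sylow subgroup of `A` for a prime `q ≠ r` is not normal
  obtain ⟨q, hqp, hqA, hqr, hqn⟩ : ∃ q, q.Prime ∧ q ∣ Nat.card A ∧ q ≠ r ∧
      ¬ (ppart A q).Normal := by
    by_contra hall
    push Not at hall
    -- otherwise every such Sylow subgroup centralizes `N`, and `G` is nilpotent
    apply hG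
    refine (Group.isNilpotent_of_finite_tfae (G := G)).out 3 0 rfl rfl |>.mp fun s hs S => ?_
    haveI := hs
    have hGc : Nat.card G = Nat.card N * Nat.card A := by
      have hc : Subgroup.IsComplement' N A := by
        refine Subgroup.isComplement'_of_disjoint_and_mul_eq_univ (disjoint_iff.2 hA1) ?_
        rw [← Subgroup.normal_mul, hAN, Subgroup.coe_top]
      exact hc.card_mul_card.symm
    obtain ⟨k, hk⟩ := IsPGroup.iff_card.1 hNr
    by_cases hsr : s = r
    · subst hsr
      -- the normal subgroup `N ⊔ A_r` is the Sylow subgroup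
      have hn' : (N ⊔ ppart A s).Normal := by
        rw [← Subgroup.normalizer_eq_top_iff, eq_top_iff, ← hAN]
        refine sup_le (le_sup_left.trans Subgroup.le_normalizer) ?_
        refine le_trans (le_inf ?_ le_normalizer_ppart)
          (Subgroup.normalizer_inf_normalizer_le_normalizer_sup N (ppart A s))
        exact le_top.trans (Subgroup.normalizer_eq_top (H := N)).ge
      have hp' : IsPGroup s ↥(N ⊔ ppart A s) := hNr.to_sup_of_normal_left isPGroup_ppart
      haveI := hn'
      have hle : N ⊔ ppart A s ≤ (S : Subgroup G) :=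
        le_trans (Lib.PSolvable.le_pCore hp') (Lib.PSolvable.pCore_le_sylow S)
      have hcs : Nat.card (N ⊔ ppart A s : Subgroup G) = Nat.card N * Nat.card (ppart A s) := by
        have h1 := card_set_mul_mul_card_inf N (ppart A s)
        rw [(le_bot_iff.1 (hA1 ▸ inf_le_inf_left N ppart_le) : N ⊓ ppart A s = ⊥),
          Subgroup.card_bot, mul_one, ← Subgroup.normal_mul] at h1
        exact h1
      have heq : N ⊔ ppart A s = (S : Subgroup G) := by
        refine Subgroup.eq_of_le_of_card_ge hle (le_of_eq ?_)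
        rw [hcs, S.card_eq_multiplicity, hk, card_ppart hA, ← pow_add, hGc,
          Nat.factorization_mul Nat.card_pos.ne' Nat.card_pos.ne', Finsupp.add_apply, hk,
          Nat.factorization_pow, Finsupp.smul_apply, hs.out.factorization_self, smul_eq_mul, mul_one]
      rw [← heq]
      exact hn'
    · by_cases hsA : s ∣ Nat.card A
      · haveI := hall s hs.out hsA hsr
        have hle : ppart A s ≤ (S : Subgroup G) :=
          le_trans (Lib.PSolvable.le_pCore isPGroup_ppart) (Lib.PSolvable.pCore_le_sylow S)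
        have heq : ppart A s = (S : Subgroup G) := by
          refine Subgroup.eq_of_le_of_card_ge hle (le_of_eq ?_)
          rw [card_ppart hA, S.card_eq_multiplicity, hGc,
            Nat.factorization_mul Nat.card_pos.ne' Nat.card_pos.ne', Finsupp.add_apply, hk,
            Nat.factorization_pow, Finsupp.smul_apply, hr.factorization, Finsupp.single_apply,
            if_neg (Ne.symm hsr), smul_zero, zero_add]
        rw [← heq]
        infer_instance
      · have : (S : Subgroup G) = ⊥ := by
          rw [Subgroup.eq_bot_iff_card, S.card_eq_multiplicity, hGc,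
            Nat.factorization_mul Nat.card_pos.ne' Nat.card_pos.ne', Finsupp.add_apply,
            Nat.factorization_eq_zero_of_not_dvd hsA, hk, Nat.factorization_pow, Finsupp.smul_apply,
            hr.factorization, Finsupp.single_apply, if_neg (Ne.symm hsr), smul_zero, add_zero, pow_zero]
        rw [this]; infer_instance
  haveI := Fact.mk hqp
  -- the corresponding Sylow subgroup of `B` is conjugate to it
  obtain ⟨SA, hSA⟩ := (isPGroup_ppart (A := A) (p := q)).exists_le_sylow
  obtain ⟨SB, hSB⟩ := (isPGroup_ppart (A := B) (p := q)).exists_le_sylow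
  have hSc : ∀ (X : Subgroup G) (S : Sylow q G), Group.IsNilpotent X → N ⊓ X = ⊥ → N ⊔ X = ⊤ →
      ppart X q ≤ (S : Subgroup G) → ppart X q = (S : Subgroup G) := by
    intro X S hX hinf htop hle
    have hc : Subgroup.IsComplement' N X := by
      refine Subgroup.isComplement'_of_disjoint_and_mul_eq_univ (disjoint_iff.2 hinf) ?_
      rw [← Subgroup.normal_mul, htop, Subgroup.coe_top]
    obtain ⟨k, hk⟩ := IsPGroup.iff_card.1 hNr
    refine Subgroup.eq_of_le_of_card_ge hle (le_of_eq ?_)
    rw [card_ppart hX, S.card_eq_multiplicity, ← hc.card_mul_card,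
      Nat.factorization_mul Nat.card_pos.ne' Nat.card_pos.ne', Finsupp.add_apply, hk,
      Nat.factorization_pow, Finsupp.smul_apply, hr.factorization, Finsupp.single_apply,
      if_neg hqr.symm, smul_zero, zero_add]
  have eA := hSc A SA hA hA1 hAN hSA
  have eB := hSc B SB hB hB1 hBN hSB
  obtain ⟨g, hg⟩ := MulAction.exists_smul_eq G SA SB
  have hconj : MulAut.conj g • ppart A q = ppart B q := by
    rw [eA, eB, ← Sylow.coe_subgroup_smul, hg]
  -- both factors are the normalizers of these Sylow subgroups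
  have hnA : Subgroup.normalizer (ppart A q : Set G) = A := by
    rcases eq_or_lt_of_le (le_normalizer_ppart (A := A) (p := q)) with h | h
    · exact h.symm
    · exact absurd (Subgroup.normalizer_eq_top_iff.1 (hAmax.2 _ h)) hqn
  have hgA : MulAut.conj g • A ≤ Subgroup.normalizer (ppart B q : Set G) := by
    intro x hx
    rw [Subgroup.mem_normalizer_iff]
    intro y
    have h1 : g⁻¹ * x * g ∈ Subgroup.normalizer (ppart A q : Set G) := by
      rw [hnA]; exact mem_conj_smul_iff.1 hx
    rw [← hconj, mem_conj_smul_iff, mem_conj_smul_iff,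
      Subgroup.mem_normalizer_iff.1 h1 (g⁻¹ * y * g)]
    group
  have hnB : Subgroup.normalizer (ppart B q : Set G) = B := by
    rcases eq_or_lt_of_le (le_normalizer_ppart (A := B) (p := q)) with h | h
    · exact h.symm
    · exfalso
      apply hqn
      have hBn := Subgroup.normalizer_eq_top_iff.1 (hBmax.2 _ h)
      rw [show ppart A q = MulAut.conj g⁻¹ • ppart B q by
        rw [← hconj, ← conj_mul_smul, inv_mul_cancel, map_one, one_smul]]
      rw [Subgroup.Normal.conj_smul_eq_self]
      exact hBn
  rw [hnB] at hgA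
  have heq : MulAut.conj g • A = B := Subgroup.eq_of_le_of_card_ge hgA
    (le_of_eq (by rw [← Nat.card_congr (Subgroup.equivSMul (MulAut.conj g) A).toEquiv, hcard]))
  rw [← heq] at hf
  exact hAmax.1 (eq_top_of_isFactorization_conj hf)

/-- Let the finite group G be the product AB of nilpotent subgroups A and B, not both equal to G. Then there is a proper normal subgroup of G containing A or containing B. -/
theorem result {G : Type*} [Group G] [Finite G] (A B : Subgroup G) (hA : Group.IsNilpotent A) (hB : Group.IsNilpotent B) (hAB : ∀ g : G, ∃ a ∈ A, ∃ b ∈ B, g = a * b) (hproper : A ≠ ⊤ ∨ B ≠ ⊤) : ∃ N : Subgroup G, N.Normal ∧ N ≠ ⊤ ∧ (A ≤ N ∨ B ≤ N) := by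
  exact exists_normal_of_solvable (Nat.card G) G A B rfl
    (Lib.Factorized.kegel_wielandt hA hB hAB) hA hB hAB hproper

end Cfsg.Agent.S0565
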