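import Cfsg.Statements.S0567
import Mathlib
set_option autoImplicit false
open scoped commutatorElement Pointwise
open Cfsg

namespace Cfsg.Agent.S0567

/-- If `T ⊔ H` is subnormal and `⁅T, H⁆ ≤ T`, then `⁅T, H⁆ ⊔ H` is subnormal. -/
theorem sup_step {G : Type*} [Group G] (T H : Subgroup G) (hT : (T ⊔ H).IsSubnormal) :
    (⁅T, H⁆ ⊔ H).IsSubnormal := by
  have hle : ⁅T, H⁆ ⊔ H ≤ T ⊔ H :=
    sup_le (Subgroup.commutator_le.2 fun t ht h hh => by
      rw [commutatorElement_def]
      exact mul_mem (mul_mem (mul_mem (Subgroup.mem_sup_left ht) (Subgroup.mem_sup_right hh))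
        (inv_mem (Subgroup.mem_sup_left ht))) (inv_mem (Subgroup.mem_sup_right hh))) le_sup_right
  refine Subgroup.IsSubnormal.step _ _ hle hT
    ((Subgroup.normal_subgroupOf_iff_le_normalizer hle).2 ?_)
  -- both `T` and `H` normalize `⁅T, H⁆ ⊔ H`
  have h1 : T ≤ Subgroup.normalizer ((⁅T, H⁆ : Subgroup G) : Set G) := Subgroup.normalizer_commutator_ge_left T H
  have key : ∀ t ∈ T, MulAut.conj t • (⁅T, H⁆ ⊔ H) ≤ ⁅T, H⁆ ⊔ H := by
    intro t ht
    rw [Subgroup.smul_sup]
    refine sup_le (fun x hx => Subgroup.mem_sup_left ?_) ?_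
    · obtain ⟨y, hy, rfl⟩ := Subgroup.mem_smul_pointwise_iff_exists _ _ _ |>.1 hx
      rw [MulAut.smul_def, MulAut.conj_apply]
      exact (Subgroup.mem_normalizer_iff.1 (h1 ht) y).1 hy
    · intro x hx
      obtain ⟨y, hy, rfl⟩ := Subgroup.mem_smul_pointwise_iff_exists _ _ _ |>.1 hx
      rw [MulAut.smul_def, MulAut.conj_apply,
        show t * y * t⁻¹ = ⁅t, y⁆ * y by rw [commutatorElement_def]; group]
      exact mul_mem (Subgroup.mem_sup_left (Subgroup.commutator_mem_commutator ht hy))
        (Subgroup.mem_sup_right hy)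
  refine sup_le ?_ (le_sup_right.trans Subgroup.le_normalizer)
  intro t ht
  rw [Subgroup.mem_normalizer_iff]
  intro x
  constructor
  · intro hx
    have := key t ht (Subgroup.smul_mem_pointwise_smul x (MulAut.conj t) _ hx)
    simpa [MulAut.smul_def] using this
  · intro hx
    have := key t⁻¹ (inv_mem ht) (Subgroup.smul_mem_pointwise_smul _ (MulAut.conj t⁻¹) _ hx)
    simpa [MulAut.smul_def, mul_assoc] using this

/-- A subgroup H of a group G is subnormal exactly when, for some m, the subgroup obtained from G by taking the commutator with H m times in succession is contained in H. -/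
theorem result {G : Type*} [Group G] (H : Subgroup G) : H.IsSubnormal ↔ ∃ m : ℕ, (fun K : Subgroup G => ⁅K, H⁆)^[m] ⊤ ≤ H := by
  constructor
  · intro hH
    induction hH with
    | top => exact ⟨0, le_rfl⟩
    | step J L hJL _ hN ih =>
      obtain ⟨m, hm⟩ := ih
      refine ⟨m + 1, ?_⟩
      have hanti : ∀ i, (fun K : Subgroup G => ⁅K, J⁆)^[i] ⊤ ≤ (fun K : Subgroup G => ⁅K, L⁆)^[i] ⊤ := by
        intro i
        induction i with
        | zero => exact le_rfl
        | succ i hi =>
          rw [Function.iterate_succ_apply', Function.iterate_succ_apply']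
          exact Subgroup.commutator_mono hi hJL
      rw [Function.iterate_succ_apply']
      refine (Subgroup.commutator_mono ((hanti m).trans hm) le_rfl).trans ?_
      rw [Subgroup.commutator_le]
      intro l hl j hj
      have hn := (Subgroup.normal_subgroupOf_iff_le_normalizer hJL).1 hN hl
      rw [commutatorElement_def]
      exact J.mul_mem ((Subgroup.mem_normalizer_iff.1 hn j).1 hj) (J.inv_mem hj)
  · rintro ⟨m, hm⟩
    have key : ∀ i, i ≤ m →
        (((fun K : Subgroup G => ⁅K, H⁆)^[m - i] ⊤) ⊔ H).IsSubnormal →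
        ∀ j, j ≤ i → (((fun K : Subgroup G => ⁅K, H⁆)^[m - i + j] ⊤) ⊔ H).IsSubnormal := by
      intro i _ h0 j _
      induction j with
      | zero => exact h0
      | succ j ih =>
        have hj := ih (by omega)
        set T := (fun K : Subgroup G => ⁅K, H⁆)^[m - i + j] ⊤
        have hT : (fun K : Subgroup G => ⁅K, H⁆)^[m - i + (j + 1)] ⊤ = ⁅T, H⁆ := by
          rw [← Nat.add_assoc, Function.iterate_succ_apply']
        rw [hT]
        exact sup_step T H hj
    have h := key m le_rfl (by simp) m le_rfl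
    rw [Nat.sub_self, Nat.zero_add, sup_of_le_right hm] at h
    exact h

end Cfsg.Agent.S0567
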