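import Cfsg.Statements.S0568
import Mathlib
import Cfsg.Agent.Lib.SystemNormalizer.Basic
import Cfsg.Agent.Lib.Supersolvable.Huppert

set_option linter.style.haveILetI false

set_option autoImplicit false
open Cfsg

namespace Cfsg.Agent.S0568

open Cfsg.Agent.Lib in
theorem minimal_cover_avoid {G : Type*} [Group G] [Finite G] [Group.IsSolvable G]
    (K : Nat.Primes → Subgroup G) (hK : Cfsg.IsComplementSystem K) (B : Subgroup G) [B.Normal]
    (hB : B ≠ ⊥) (hmin : ∀ N : Subgroup G, N.Normal → N ≤ B → N = ⊥ ∨ N = B)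
    (hnc : ¬ B ≤ Subgroup.center G) : B ⊓ Cfsg.systemNormalizer K = ⊥ := by
  haveI hBc := Supersolvable.isMulCommutative_of_minimal hB hmin
  obtain ⟨p, hp, hBp, -⟩ := Supersolvable.exists_prime_exponent hB hmin
  haveI := Fact.mk hp
  let C := Subgroup.centralizer (B : Set G)
  haveI : C.Normal := inferInstance
  have hCtop : C ≠ ⊤ := fun e => hnc fun b hb => Subgroup.mem_center_iff.2 fun g =>
    (Subgroup.mem_centralizer_iff.1 (show g ∈ C from e ▸ Subgroup.mem_top g) b hb).symm
  let P₀ : Nat.Primes := ⟨p, hp⟩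
  let W := B ⊓ Subgroup.centralizer (K P₀ : Set G)
  have hDW : B ⊓ Cfsg.systemNormalizer K ≤ W := by
    intro x hx
    refine ⟨hx.1, Subgroup.mem_centralizer_iff.2 fun k hk => ?_⟩
    have hbot : B ⊓ K P₀ = ⊥ := by
      refine Subgroup.inf_eq_bot_of_coprime ?_
      obtain ⟨a, ha⟩ := IsPGroup.iff_card.1 hBp
      rw [ha]
      exact (SystemNormalizer.coprime_card_pow hK P₀ a).symm
    have h1 : (x * k * x⁻¹) * k⁻¹ = 1 := by
      refine (Subgroup.eq_bot_iff_forall _).1 hbot _ ⟨?_, ?_⟩
      · have h2 : x * k * x⁻¹ * k⁻¹ = x * (k * x⁻¹ * k⁻¹) := by group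
        rw [h2]
        exact B.mul_mem hx.1 ((inferInstance : B.Normal).conj_mem _ (B.inv_mem hx.1) k)
      · exact (K P₀).mul_mem
          ((Subgroup.mem_normalizer_iff.1 (SystemNormalizer.systemNormalizer_le K P₀ hx.2) k).1 hk)
          ((K P₀).inv_mem hk)
    exact (mul_inv_eq_iff_eq_mul.1 (mul_inv_eq_one.1 h1)).symm
  -- a `p`-prime normal piece above the centraliser
  haveI : Nontrivial (G ⧸ C) := QuotientGroup.nontrivial_iff.2 hCtop
  obtain ⟨L₁, hL₁n, hL₁ne, -, -, q, hq, hL₁q, -⟩ := Supersolvable.exists_minimal_normal_solvable (G ⧸ C)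
  haveI := Fact.mk hq
  let f := QuotientGroup.mk' C
  have hf : Function.Surjective f := QuotientGroup.mk'_surjective C
  let L := L₁.comap f
  haveI : L.Normal := hL₁n.comap f
  have hCL : C ≤ L := (QuotientGroup.ker_mk' C).symm.le.trans (Subgroup.ker_le_comap f L₁)
  -- fixed points of `L` on `B`
  have hfix : B ⊓ Subgroup.centralizer (L : Set G) = ⊥ := by
    refine (hmin _ inferInstance inf_le_left).resolve_right fun e => hL₁ne ?_
    have hLC : L ≤ C := Subgroup.le_centralizer_iff.1 (inf_eq_left.1 e)
    rw [← Subgroup.map_comap_eq_self_of_surjective hf L₁]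
    exact (Subgroup.map_eq_bot_iff _).2 (hLC.trans (QuotientGroup.ker_mk' C).symm.le)
  refine le_bot_iff.1 (hDW.trans ?_)
  by_cases hqp : q = p
  · -- impossible: a `p`-group fixes a nontrivial vector
    subst hqp
    exfalso
    obtain ⟨S⟩ : Nonempty (Sylow q L) := inferInstance
    let S' : Subgroup G := (S : Subgroup L).map L.subtype
    have hS' : IsPGroup q S' := S.isPGroup'.map _
    have hBS : IsPGroup q ↥(B ⊔ S') := hBp.to_sup_of_normal_left hS'
    refine Supersolvable.inf_centralizer_ne_bot hBS hB le_sup_left (le_bot_iff.1 (le_trans ?_ hfix.le))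
    intro x hx
    refine ⟨hx.1, ?_⟩
    have hLle : L ≤ Subgroup.centralizer {x} := by
      have h1 : C ≤ Subgroup.centralizer {x} := fun c hc => Subgroup.mem_centralizer_singleton_iff.2
        (Subgroup.mem_centralizer_iff.1 hc x hx.1).symm
      have h2 : L ≤ C ⊔ S' := by
        have hS1 : S'.map f = L₁ := by
          refine Subgroup.eq_of_le_of_card_ge ?_ ?_
          · rintro _ ⟨y, hy, rfl⟩
            exact (Subgroup.map_subtype_le _ hy : y ∈ L)
          · let g := f.subgroupComap L₁
            have hg : Function.Surjective g :=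
              MonoidHom.subgroupComap_surjective_of_surjective f L₁ hf
            let S₁ : Sylow q L₁ := S.mapSurjective hg
            have htop : (S₁ : Subgroup L₁) = ⊤ := (S₁.3 (hL₁q.to_subgroup ⊤) le_top).symm
            refine (Nat.le_of_eq ?_)
            rw [← Subgroup.card_top (G := L₁), ← htop]
            show Nat.card ((S : Subgroup L).map g) = Nat.card (S'.map f)
            rw [← Subgroup.card_map_of_injective L₁.subtype_injective, Subgroup.map_map,
              Subgroup.map_map]
            rfl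
        intro l hl
        obtain ⟨s, hs, hsl⟩ := Subgroup.mem_map.1 (show f l ∈ S'.map f by rw [hS1]; exact hl)
        have h3 : s⁻¹ * l ∈ C := QuotientGroup.eq.1 (show (QuotientGroup.mk s : G ⧸ C) = QuotientGroup.mk l from hsl)
        have h4 := mul_mem (Subgroup.mem_sup_right hs) (Subgroup.mem_sup_left (T := S') h3)
        rwa [mul_inv_cancel_left] at h4
      refine h2.trans (sup_le h1 fun s hs => Subgroup.mem_centralizer_singleton_iff.2 ?_)
      exact Subgroup.mem_centralizer_iff.1 hx.2 s (Subgroup.mem_sup_right hs)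
    exact Subgroup.mem_centralizer_iff.2 fun l hl => Subgroup.mem_centralizer_singleton_iff.1 (hLle hl)
  · -- `K P₀` covers `L` modulo `C`
    have hLK : L ≤ C ⊔ K P₀ := by
      rw [← Subgroup.relIndex_eq_one]
      obtain ⟨a, ha⟩ := IsPGroup.iff_card.1 hL₁q
      have hd1 : (C ⊔ K P₀).relIndex L ∣ q ^ a := by
        have h1 : C.relIndex L = Nat.card L₁ := by
          have e : (⊥ : Subgroup (G ⧸ C)).comap f = C := by
            rw [MonoidHom.comap_bot]
            exact QuotientGroup.ker_mk' C
          have h := Subgroup.relIndex_comap (⊥ : Subgroup (G ⧸ C)) f L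
          rw [e, Subgroup.map_comap_eq_self_of_surjective hf, Subgroup.relIndex_bot_left] at h
          exact h
        rw [← ha, ← h1]
        exact Subgroup.relIndex_dvd_of_le_left L le_sup_left
      have hd2 : (C ⊔ K P₀).relIndex L ∣ p ^ (Nat.card G).factorization p := by
        rw [← hK P₀]
        refine (Dvd.intro _ (Supersolvable.relIndex_mul_sup_index (C ⊔ K P₀) L)).trans ?_
        exact Subgroup.index_dvd_of_le le_sup_right
      exact Nat.eq_one_of_dvd_coprimes (((Nat.coprime_primes hq hp).2 hqp).pow _ _) hd1 hd2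
    refine le_trans ?_ hfix.le
    intro x hx
    refine ⟨hx.1, Subgroup.mem_centralizer_iff.2 fun l hl => ?_⟩
    have h1 : C ⊔ K P₀ ≤ Subgroup.centralizer {x} := sup_le
      (fun c hc => Subgroup.mem_centralizer_singleton_iff.2 (Subgroup.mem_centralizer_iff.1 hc x hx.1).symm)
      (fun c hc => Subgroup.mem_centralizer_singleton_iff.2 (Subgroup.mem_centralizer_iff.1 hx.2 c hc))
    exact Subgroup.mem_centralizer_singleton_iff.1 (h1 (hLK hl))

open Cfsg.Agent.Lib commutatorElement in
theorem covers {G : Type*} [Group G] [Finite G] [Group.IsSolvable G] (K : Nat.Primes → Subgroup G)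
    (hK : Cfsg.IsComplementSystem K) (A B : Subgroup G) [A.Normal] [B.Normal] (_ : A < B)
    (_ : ∀ N : Subgroup G, N.Normal → A ≤ N → N ≤ B → N = A ∨ N = B)
    (hc : ⁅B, (⊤ : Subgroup G)⁆ ≤ A) : B ≤ A ⊔ Cfsg.systemNormalizer K := by
  let f := QuotientGroup.mk' A
  intro b hb
  have hmem : f b ∈ Cfsg.systemNormalizer (fun p => (K p).map f) := by
    refine Subgroup.mem_iInf.2 fun p => Subgroup.centralizer_le_normalizer _ ?_
    rw [Subgroup.mem_centralizer_iff]
    rintro y -
    obtain ⟨g, rfl⟩ := QuotientGroup.mk'_surjective A y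
    refine (commutatorElement_eq_one_iff_mul_comm.1 ?_).symm
    rw [← map_commutatorElement, QuotientGroup.mk'_apply, QuotientGroup.eq_one_iff]
    exact hc (Subgroup.commutator_mem_commutator hb (Subgroup.mem_top g))
  rw [SystemNormalizer.map_systemNormalizer hK A] at hmem
  obtain ⟨d, hd, hdb⟩ := Subgroup.mem_map.1 hmem
  have h := mul_mem (Subgroup.mem_sup_right hd)
    (Subgroup.mem_sup_left (T := Cfsg.systemNormalizer K) (QuotientGroup.eq.1 hdb : d⁻¹ * b ∈ A))
  rwa [mul_inv_cancel_left] at h

open Cfsg.Agent.Lib commutatorElement in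
theorem avoids {G : Type*} [Group G] [Finite G] [Group.IsSolvable G] (K : Nat.Primes → Subgroup G)
    (hK : Cfsg.IsComplementSystem K) (A B : Subgroup G) [A.Normal] [B.Normal] (hAB : A < B)
    (hchief : ∀ N : Subgroup G, N.Normal → A ≤ N → N ≤ B → N = A ∨ N = B)
    (hc : ¬ ⁅B, (⊤ : Subgroup G)⁆ ≤ A) : B ⊓ Cfsg.systemNormalizer K ≤ A := by
  let f := QuotientGroup.mk' A
  have hf : Function.Surjective f := QuotientGroup.mk'_surjective A
  haveI : (B.map f).Normal := (inferInstance : B.Normal).map f hf
  have hker : ∀ {X : Subgroup G}, A ≤ X → (X.map f).comap f = X := fun {X} h => by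
    rw [Subgroup.comap_map_eq, QuotientGroup.ker_mk', sup_eq_left.2 h]
  have h := minimal_cover_avoid (fun p => (K p).map f) (SystemNormalizer.map_isComplementSystem hK A)
    (B.map f) ?_ ?_ ?_
  · rw [SystemNormalizer.map_systemNormalizer hK A] at h
    intro x hx
    exact (QuotientGroup.eq_one_iff x).1 ((Subgroup.eq_bot_iff_forall _).1 h _
      ⟨Subgroup.mem_map_of_mem f hx.1, Subgroup.mem_map_of_mem f hx.2⟩)
  · intro e
    have h2 := congrArg (Subgroup.comap f) e
    rw [hker hAB.le, MonoidHom.comap_bot, QuotientGroup.ker_mk'] at h2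
    exact hAB.ne h2.symm
  · intro N hN hNB
    rcases hchief (N.comap f) (hN.comap f)
      ((QuotientGroup.ker_mk' A).symm.le.trans (Subgroup.ker_le_comap f N))
      ((Subgroup.comap_mono hNB).trans (hker hAB.le).le) with e | e
    · refine Or.inl ?_
      rw [← Subgroup.map_comap_eq_self_of_surjective hf N, e, QuotientGroup.map_mk'_self]
    · exact Or.inr (by rw [← Subgroup.map_comap_eq_self_of_surjective hf N, e])
  · intro hcen
    apply hc
    rw [Subgroup.commutator_le]
    intro b hb g _
    rw [← QuotientGroup.eq_one_iff, ← QuotientGroup.mk'_apply, map_commutatorElement,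
      commutatorElement_eq_one_iff_mul_comm]
    exact (Subgroup.mem_center_iff.1 (hcen (Subgroup.mem_map_of_mem f hb)) (f g)).symm


/-- Let D be the system normalizer of a Hall complement system of a finite solvable group G, and let A < B be normal subgroups with no normal subgroup of G strictly between them (a chief factor). If G centralizes B modulo A then B ≤ A ⊔ D (D covers the factor); otherwise B ∩ D ≤ A (D avoids it). -/
theorem result {G : Type*} [Group G] [Finite G] [Group.IsSolvable G] (K : Nat.Primes → Subgroup G) (hK : Cfsg.IsComplementSystem K) (A B : Subgroup G) [A.Normal] [B.Normal] (hAB : A < B) (hchief : ∀ N : Subgroup G, N.Normal → A ≤ N → N ≤ B → N = A ∨ N = B) : (⁅B, (⊤ : Subgroup G)⁆ ≤ A → B ≤ A ⊔ Cfsg.systemNormalizer K) ∧ (¬ ⁅B, (⊤ : Subgroup G)⁆ ≤ A → B ⊓ Cfsg.systemNormalizer K ≤ A) := by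
  exact ⟨covers K hK A B hAB hchief, avoids K hK A B hAB hchief⟩

end Cfsg.Agent.S0568
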