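import Cfsg.Statements.S0569
import Mathlib
import Cfsg.Agent.Lib.SystemNormalizer.Carter

set_option linter.style.haveILetI false

set_option autoImplicit false
open Cfsg

namespace Cfsg.Agent.S0569

open Cfsg.Agent.Lib Pointwise in
theorem contains (G : Type*) [Group G] [Finite G] [Group.IsSolvable G] :
    ∀ C : Subgroup G, Cfsg.IsCarterSubgroup C → ∃ K : Nat.Primes → Subgroup G,
      Cfsg.IsComplementSystem K ∧ Cfsg.systemNormalizer K ≤ C := by
  intro C hC
  obtain ⟨K, hK, hred⟩ := SystemNormalizer.exists_reducing C
  exact ⟨K, hK, SystemNormalizer.systemNormalizer_le_carter G K hK C hC hred⟩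

open Cfsg.Agent.Lib Pointwise in
theorem contained (G : Type*) [Group G] [Finite G] [Group.IsSolvable G] :
    ∀ K : Nat.Primes → Subgroup G, Cfsg.IsComplementSystem K →
      ∃ C : Subgroup G, Cfsg.IsCarterSubgroup C ∧ Cfsg.systemNormalizer K ≤ C := by
  intro K hK
  obtain ⟨C, hC⟩ := (Carter.exists_and_conj G).1
  obtain ⟨L, hL, hle⟩ := contains G C hC
  obtain ⟨g, hg⟩ := SystemNormalizer.exists_conj hL hK
  refine ⟨MulAut.conj g • C, hC.conj g, ?_⟩
  rw [show K = (fun p => MulAut.conj g • L p) from funext fun p => (hg p).symm,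
    ← SystemNormalizer.conj_systemNormalizer]
  exact Subgroup.pointwise_smul_le_pointwise_smul_iff.2 hle


/-- In a finite solvable group: each nilpotent self-normalizing subgroup contains the system normalizer of some Hall complement system, and the system normalizer of any Hall complement system lies in some nilpotent self-normalizing subgroup. -/
theorem result {G : Type*} [Group G] [Finite G] [Group.IsSolvable G] : (∀ C : Subgroup G, Cfsg.IsCarterSubgroup C → ∃ K : Nat.Primes → Subgroup G, Cfsg.IsComplementSystem K ∧ Cfsg.systemNormalizer K ≤ C) ∧ ∀ K : Nat.Primes → Subgroup G, Cfsg.IsComplementSystem K → ∃ C : Subgroup G, Cfsg.IsCarterSubgroup C ∧ Cfsg.systemNormalizer K ≤ C := by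
  exact ⟨contains G, contained G⟩

end Cfsg.Agent.S0569
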