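import Cfsg.Statements.S0570
import Mathlib
import Cfsg.Agent.Lib.SystemNormalizer.Carter
import Cfsg.Agent.S0569
import Cfsg.Agent.Lib.Core.Nilpotent

set_option linter.style.haveILetI false

set_option autoImplicit false
open Cfsg

namespace Cfsg.Agent.S0570

open Cfsg.Agent.Lib in
theorem carter_le (G : Type*) [Group G] [Finite G] [Group.IsSolvable G] (F : Subgroup G) [F.Normal]
    (hF : Group.IsNilpotent F) (hGF : Group.IsNilpotent (G ⧸ F)) (C : Subgroup G)
    (hC : Cfsg.IsCarterSubgroup C) (K : Nat.Primes → Subgroup G) (hK : Cfsg.IsComplementSystem K)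
    (hle : Cfsg.systemNormalizer K ≤ C) : C ≤ Cfsg.systemNormalizer K := by
  induction hn : Nat.card G using Nat.strong_induction_on generalizing G with
  | _ n ih =>
    subst hn
    haveI := hF
    haveI := hGF
    rcases subsingleton_or_nontrivial G with hs | hnt
    · intro x _
      rw [Subsingleton.elim x 1]
      exact one_mem _
    let D := Cfsg.systemNormalizer K
    -- a minimal normal subgroup, inside `F` unless `F` is trivial
    obtain ⟨N, hN, hNne, hNF, hNmin⟩ : ∃ N : Subgroup G, N.Normal ∧ N ≠ ⊥ ∧ (F = ⊥ ∨ N ≤ F) ∧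
        ∀ X : Subgroup G, X.Normal → X ≤ N → X = ⊥ ∨ X = N := by
      by_cases hb : F = ⊥
      · obtain ⟨N, h1, h2, -, h3, -⟩ := Supersolvable.exists_minimal_normal_solvable G
        exact ⟨N, h1, h2, Or.inl hb, h3⟩
      · obtain ⟨N, h1, h2, h3, h4⟩ := Components.exists_minimal_normal_le inferInstance hb
        exact ⟨N, h1, h2, Or.inr h3, h4⟩
    haveI := hN
    let f := QuotientGroup.mk' N
    have hf : Function.Surjective f := QuotientGroup.mk'_surjective N
    haveI hFm : (F.map f).Normal := (inferInstance : F.Normal).map f hf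
    have hquot : C ≤ D ⊔ N := by
      haveI hFn : Group.IsNilpotent (F.map f) :=
        Group.nilpotent_of_surjective (f.subgroupMap F) (f.subgroupMap_surjective F)
      have hQn : Group.IsNilpotent ((G ⧸ N) ⧸ F.map f) := by
        refine Group.nilpotent_of_surjective (G := G ⧸ F)
          (QuotientGroup.lift F ((QuotientGroup.mk' (F.map f)).comp f) ?_) ?_
        · intro x hx
          exact (QuotientGroup.eq_one_iff _).2 (Subgroup.mem_map_of_mem f hx)
        · intro y
          obtain ⟨y, rfl⟩ := QuotientGroup.mk'_surjective (F.map f) y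
          obtain ⟨x, rfl⟩ := hf y
          exact ⟨QuotientGroup.mk x, rfl⟩
      have h := ih _ (Supersolvable.card_quotient_lt hNne) (G ⧸ N) (F.map f) hFn hQn (C.map f)
        (SystemNormalizer.isCarter_map hC N) (fun p => (K p).map f)
        (SystemNormalizer.map_isComplementSystem hK N)
        (by rw [SystemNormalizer.map_systemNormalizer hK N]; exact Subgroup.map_mono hle) rfl
      rw [SystemNormalizer.map_systemNormalizer hK N] at h
      intro x hx
      have h2 : x ∈ (D.map f).comap f := h (Subgroup.mem_map_of_mem f hx)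
      rwa [Subgroup.comap_map_eq, QuotientGroup.ker_mk'] at h2
    by_cases hcen : N ≤ Subgroup.center G
    · refine hquot.trans (sup_le le_rfl (le_iInf fun p => hcen.trans (Subgroup.center_le_normalizer _)))
    -- `G = C F`
    have hCF : C ⊔ F = ⊤ := by
      have h1 : C.map (QuotientGroup.mk' F) = ⊤ :=
        Carter.eq_top_of_isNilpotent hGF (SystemNormalizer.isCarter_map hC F).2
      have h2 := congrArg (Subgroup.comap (QuotientGroup.mk' F)) h1
      rwa [Subgroup.comap_map_eq, QuotientGroup.ker_mk', Subgroup.comap_top] at h2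
    have hFc : F ≤ Subgroup.centralizer (N : Set G) := by
      rcases hNF with e | e
      · rw [e]; exact bot_le
      · refine Subgroup.le_centralizer_iff.1 ?_
        have h1 : N ⊓ Subgroup.centralizer (F : Set G) ≠ ⊥ := by
          haveI : (N.subgroupOf F).Normal := hN.subgroupOf F
          intro hbot
          have h2 : Subgroup.center F ⊓ N.subgroupOf F = ⊥ := by
            rw [Subgroup.eq_bot_iff_forall]
            rintro x ⟨hxc, hxN⟩
            refine Subtype.ext ((Subgroup.eq_bot_iff_forall _).1 hbot _ ⟨hxN, ?_⟩)
            exact Subgroup.mem_centralizer_iff.2 fun y hy =>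
              congrArg Subtype.val (Subgroup.mem_center_iff.1 hxc ⟨y, hy⟩)
          refine Nilp.inf_center_ne_bot_of_normal (N := N.subgroupOf F) ?_ (by rwa [inf_comm] at h2)
          rw [Ne, Subgroup.subgroupOf_eq_bot, disjoint_iff, inf_eq_left.2 e]
          exact hNne
        rcases hNmin _ inferInstance (inf_le_left : N ⊓ Subgroup.centralizer (F : Set G) ≤ N) with h | h
        · exact absurd h h1
        · exact inf_eq_left.1 h
    have hinf : C ⊓ N = ⊥ := by
      have hn1 : (C ⊓ N).Normal := by
        rw [← Subgroup.normalizer_eq_top_iff, eq_top_iff, ← hCF, sup_le_iff]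
        refine ⟨(Subgroup.normal_subgroupOf_iff_le_normalizer inf_le_left).1
          (hN.subgroupOf C |> fun h => by
            rwa [show (C ⊓ N).subgroupOf C = N.subgroupOf C from Subgroup.inf_subgroupOf_left _ _]), ?_⟩
        exact le_trans (hFc.trans (Subgroup.centralizer_le (inf_le_right : C ⊓ N ≤ N)))
          (Subgroup.centralizer_le_normalizer _)
      refine (hNmin _ hn1 inf_le_right).resolve_right fun e => hcen ?_
      have hNC : N ≤ C := inf_eq_right.1 e
      haveI : Group.IsNilpotent C := hC.1
      haveI : (N.subgroupOf C).Normal := hN.subgroupOf C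
      rcases hNmin (N ⊓ Subgroup.center G) inferInstance inf_le_left with h | h
      · exfalso
        refine Nilp.inf_center_ne_bot_of_normal (N := N.subgroupOf C) ?_ ?_
        · rw [Ne, Subgroup.subgroupOf_eq_bot, disjoint_iff, inf_eq_left.2 hNC]
          exact hNne
        · rw [Subgroup.eq_bot_iff_forall]
          rintro x ⟨hxN, hxc⟩
          refine Subtype.ext ((Subgroup.eq_bot_iff_forall _).1 h _ ⟨hxN, Subgroup.mem_center_iff.2 fun g => ?_⟩)
          have hle' : C ⊔ F ≤ Subgroup.centralizer {(x : G)} := by
            refine sup_le (fun c hc => Subgroup.mem_centralizer_singleton_iff.2 ?_) fun y hy =>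
              Subgroup.mem_centralizer_singleton_iff.2
                (Subgroup.mem_centralizer_iff.1 (hFc hy) _ hxN).symm
            exact congrArg Subtype.val (Subgroup.mem_center_iff.1 hxc ⟨c, hc⟩)
          exact Subgroup.mem_centralizer_singleton_iff.1 (hle' (hCF ▸ Subgroup.mem_top g))
      · exact inf_eq_left.1 h
    intro x hx
    obtain ⟨d, hd, m, hm, hdm⟩ := Subgroup.mem_sup_of_normal_right.1 (hquot hx)
    have hm1 : m = 1 := by
      refine (Subgroup.eq_bot_iff_forall _).1 hinf m (Subgroup.mem_inf.2 ⟨?_, hm⟩)
      have : m = d⁻¹ * x := by rw [← hdm]; group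
      rw [this]
      exact mul_mem (inv_mem (hle hd)) hx
    rwa [← hdm, hm1, mul_one]


/-- Let G be a finite group with a nilpotent normal subgroup F such that G modulo F is nilpotent (nilpotent length at most two). Then a subgroup of G is a Carter subgroup if and only if it is the system normalizer of some Hall complement system. -/
theorem result {G : Type*} [Group G] [Finite G] (F : Subgroup G) [F.Normal] (hF : Group.IsNilpotent F) (hGF : Group.IsNilpotent (G ⧸ F)) (C : Subgroup G) : Cfsg.IsCarterSubgroup C ↔ ∃ K : Nat.Primes → Subgroup G, Cfsg.IsComplementSystem K ∧ C = Cfsg.systemNormalizer K := by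
  haveI := hF
  haveI := hGF
  haveI : Group.IsSolvable G := (Group.isSolvable_iff_subgroup_quotient F).2 ⟨inferInstance, inferInstance⟩
  constructor
  · intro hC
    obtain ⟨K, hK, hle⟩ := Cfsg.Agent.S0569.contains G C hC
    exact ⟨K, hK, le_antisymm (carter_le G F hF hGF C hC K hK hle) hle⟩
  · rintro ⟨K, hK, rfl⟩
    obtain ⟨C, hC, hle⟩ := Cfsg.Agent.S0569.contained G K hK
    rwa [← le_antisymm (carter_le G F hF hGF C hC K hK hle) hle]

end Cfsg.Agent.S0570
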