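import Cfsg.Statements.S0571
import Mathlib
import Cfsg.Agent.Lib.OddLocal.ComplIn
import Cfsg.Agent.Lib.Supersolvable.Props
import Cfsg.Agent.Lib.Supersolvable.MinNormal

set_option linter.style.haveILetI false

set_option autoImplicit false
open Cfsg

namespace Cfsg.Agent.S0571

open Cfsg.Agent.Lib.Supersolvable Pointwise in
theorem of_cyclic_mul_cyclic (G : Type*) [Group G] [Finite G] (A B : Subgroup G) [IsCyclic A]
    [IsCyclic B] (hAB : ∀ g : G, ∃ a ∈ A, ∃ b ∈ B, g = a * b) : Cfsg.IsSupersolvable G := by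
  induction hn : Nat.card G using Nat.strong_induction_on generalizing G with
  | _ n ih =>
    subst hn
    rcases subsingleton_or_nontrivial G with hs | hnt
    · exact of_subsingleton
    suffices hC : ∃ C : Subgroup G, C ≠ ⊥ ∧ C.Normal ∧ IsCyclic C by
      obtain ⟨C, hCne, hCn, hCc⟩ := hC
      let f := QuotientGroup.mk' C
      haveI : IsCyclic (A.map f) := isCyclic_of_surjective _ (f.subgroupMap_surjective A)
      haveI : IsCyclic (B.map f) := isCyclic_of_surjective _ (f.subgroupMap_surjective B)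
      refine of_cyclic_extension C (ih _ (card_quotient_lt hCne) (G ⧸ C) (A.map f) (B.map f)
        (fun g => ?_) rfl)
      obtain ⟨g, rfl⟩ := QuotientGroup.mk'_surjective C g
      obtain ⟨a, ha, b, hb, rfl⟩ := hAB g
      exact ⟨f a, Subgroup.mem_map_of_mem f ha, f b, Subgroup.mem_map_of_mem f hb, map_mul f a b⟩
    have conj_mem : ∀ {A : Subgroup G}, IsCyclic A → ∀ a ∈ A, ∀ x ∈ A, a * x * a⁻¹ = x := by
      intro A hA a ha x hx
      have h := (IsCyclic.commGroup (α := A)).mul_comm ⟨a, ha⟩ ⟨x, hx⟩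
      rw [show a * x = x * a from congrArg Subtype.val h, mul_inv_cancel_right]
    -- a subgroup normalised by both factors
    have hnorm : ∀ C : Subgroup G, (∀ a ∈ A, ∀ c ∈ C, a * c * a⁻¹ ∈ C) →
        (∀ b ∈ B, ∀ c ∈ C, b * c * b⁻¹ ∈ C) → C.Normal := by
      intro C hA hB
      constructor
      intro c hc g
      obtain ⟨a, ha, b, hb, rfl⟩ := hAB g
      have : a * b * c * (a * b)⁻¹ = a * (b * c * b⁻¹) * a⁻¹ := by group
      rw [this]
      exact hA a ha _ (hB b hb c hc)
    by_cases hI : A ⊓ B = ⊥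
    swap
    · exact ⟨A ⊓ B, hI, hnorm _ (fun a ha c hc => by rw [conj_mem ‹_› a ha c hc.1]; exact hc)
        (fun b hb c hc => by rw [conj_mem ‹_› b hb c hc.2]; exact hc),
        Subgroup.isCyclic_of_le inf_le_left⟩
    -- the product map is a bijection
    have hcard : Nat.card G = Nat.card A * Nat.card B := by
      rw [← Nat.card_prod]
      refine (Nat.card_congr (Equiv.ofBijective (fun x : A × B => (x.1 : G) * x.2) ⟨?_, ?_⟩)).symm
      · rintro ⟨a, b⟩ ⟨a', b'⟩ h
        dsimp only at h
        have h2 : (a' : G)⁻¹ * a ∈ A ⊓ B := by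
          refine Subgroup.mem_inf.2 ⟨mul_mem (inv_mem a'.2) a.2, ?_⟩
          have h3 : (a' : G)⁻¹ * a = (b' : G) * (b : G)⁻¹ := by
            rw [eq_mul_inv_iff_mul_eq, mul_assoc, h, inv_mul_cancel_left]
          rw [h3]
          exact mul_mem b'.2 (inv_mem b.2)
        rw [hI, Subgroup.mem_bot, inv_mul_eq_one] at h2
        have h4 : (b : G) = b' := by
          rw [h2] at h
          exact mul_left_cancel h
        exact Prod.ext (Subtype.ext h2.symm) (Subtype.ext h4)
      · intro g
        obtain ⟨a, ha, b, hb, rfl⟩ := hAB g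
        exact ⟨(⟨a, ha⟩, ⟨b, hb⟩), rfl⟩
    -- the larger factor
    have main : ∀ (A B : Subgroup G), IsCyclic A → IsCyclic B →
        (∀ g : G, ∃ a ∈ A, ∃ b ∈ B, g = a * b) → Nat.card G ≤ Nat.card A * Nat.card A →
        ∃ C : Subgroup G, C ≠ ⊥ ∧ C.Normal ∧ IsCyclic C := by
      intro A B hA hB hAB hle
      haveI := hA
      haveI := hB
      by_cases hAt : A = ⊤
      · exact ⟨A, hAt ▸ top_ne_bot, hAt ▸ inferInstance, hA⟩
      obtain ⟨⟨b, hb⟩, hgen⟩ := hB.exists_generator
      have hbA : b ∉ A := by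
        intro h
        refine hAt ((Subgroup.eq_top_iff' A).2 fun g => ?_)
        obtain ⟨a, ha, y, hy, rfl⟩ := hAB g
        obtain ⟨k, hk⟩ := Subgroup.mem_zpowers_iff.1 (hgen ⟨y, hy⟩)
        rw [← show ((⟨b, hb⟩ : B) ^ k : B).1 = y from congrArg Subtype.val hk, Subgroup.coe_zpow]
        exact mul_mem ha (zpow_mem h k)
      let A' : Subgroup G := MulAut.conj b • A
      have hA'card : Nat.card A' = Nat.card A :=
        (Nat.card_congr (Subgroup.equivSMul (MulAut.conj b) A).toEquiv).symm
      have hmeet : A ⊓ A' ≠ ⊥ := by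
        intro hbot
        let φ : A × A' → G := fun x => (x.1 : G) * x.2
        have hinj : Function.Injective φ := by
          rintro ⟨a, c⟩ ⟨a', c'⟩ h
          dsimp only [φ] at h
          have h2 : (a' : G)⁻¹ * a ∈ A ⊓ A' := by
            refine Subgroup.mem_inf.2 ⟨mul_mem (inv_mem a'.2) a.2, ?_⟩
            have h3 : (a' : G)⁻¹ * a = (c' : G) * (c : G)⁻¹ := by
              rw [eq_mul_inv_iff_mul_eq, mul_assoc, h, inv_mul_cancel_left]
            rw [h3]
            exact mul_mem c'.2 (inv_mem c.2)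
          rw [hbot, Subgroup.mem_bot, inv_mul_eq_one] at h2
          have h4 : (c : G) = c' := by
            rw [h2] at h
            exact mul_left_cancel h
          exact Prod.ext (Subtype.ext h2.symm) (Subtype.ext h4)
        have hbij : Function.Bijective φ := by
          rw [Nat.bijective_iff_injective_and_card]
          refine ⟨hinj, le_antisymm (Nat.card_le_card_of_injective φ hinj) ?_⟩
          rw [Nat.card_prod, hA'card]
          exact hle
        obtain ⟨⟨⟨a, ha⟩, ⟨c, hc⟩⟩, hac⟩ := hbij.2 b⁻¹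
        obtain ⟨a', ha', hca'⟩ := Subgroup.mem_map.1 hc
        apply hbA
        have h5 : b = a⁻¹ * a'⁻¹ := by
          have h6 : a * (b * a' * b⁻¹) = b⁻¹ := by
            rw [show b * a' * b⁻¹ = c from hca']
            exact hac
          have h7 : a * b * a' = 1 := by
            calc a * b * a' = a * (b * a' * b⁻¹) * b := by group
              _ = 1 := by rw [h6, inv_mul_cancel]
          calc b = a⁻¹ * (a * b * a') * a'⁻¹ := by group
            _ = a⁻¹ * a'⁻¹ := by rw [h7, mul_one]
        rw [h5]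
        exact mul_mem (inv_mem ha) (inv_mem ha')
      obtain ⟨q, hq, hqd⟩ := Nat.exists_prime_and_dvd
        (fun h => hmeet (Subgroup.card_eq_one.1 h) : Nat.card ↥(A ⊓ A') ≠ 1)
      haveI := Fact.mk hq
      obtain ⟨x, hx⟩ := exists_prime_orderOf_dvd_card' q hqd
      let C : Subgroup G := Subgroup.zpowers (x : G)
      have hCA : C ≤ A := Subgroup.zpowers_le.2 x.2.1
      have hCc : Nat.card C = q := by rw [Nat.card_zpowers, Subgroup.orderOf_coe, hx]
      have hbC : MulAut.conj b • C = C := by
        have h1 : C ≤ A' := Subgroup.zpowers_le.2 x.2.2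
        have h2 : MulAut.conj b • C ≤ A' := Subgroup.pointwise_smul_le_pointwise_smul_iff.2 hCA
        haveI : IsCyclic A' := isCyclic_of_surjective _ (Subgroup.equivSMul (MulAut.conj b) A).surjective
        have h3 : Nat.card ↥(MulAut.conj b • C : Subgroup G) = q :=
          (Nat.card_congr (Subgroup.equivSMul (MulAut.conj b) C).toEquiv).symm.trans hCc
        have h4 : (MulAut.conj b • C).subgroupOf A' = C.subgroupOf A' := by
          refine Cfsg.Agent.Lib.OddLocal.subgroup_eq_of_card_eq_of_isCyclic ?_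
          rw [Nat.card_congr (Subgroup.subgroupOfEquivOfLe h2).toEquiv,
            Nat.card_congr (Subgroup.subgroupOfEquivOfLe h1).toEquiv, h3, hCc]
        have h5 := congrArg (Subgroup.map A'.subtype) h4
        rwa [Subgroup.map_subgroupOf_eq_of_le h2, Subgroup.map_subgroupOf_eq_of_le h1] at h5
      refine ⟨C, fun e => hq.ne_one (by rw [← hCc, e, Subgroup.card_bot]), ?_, inferInstance⟩
      constructor
      intro c hc g
      obtain ⟨a, ha, y, hy, rfl⟩ := hAB g
      obtain ⟨k, hk⟩ := Subgroup.mem_zpowers_iff.1 (hgen ⟨y, hy⟩)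
      have hyC : y ∈ Subgroup.normalizer (C : Set G) := by
        rw [← show ((⟨b, hb⟩ : B) ^ k : B).1 = y from congrArg Subtype.val hk, Subgroup.coe_zpow]
        exact zpow_mem (mem_normalizer_iff_conj_smul.2 hbC) k
      have h6 : a * y * c * (a * y)⁻¹ = a * (y * c * y⁻¹) * a⁻¹ := by group
      have h7 := (Subgroup.mem_normalizer_iff.1 hyC c).1 hc
      rw [h6, conj_mem hA a ha _ (hCA h7)]
      exact h7
    rcases le_total (Nat.card B) (Nat.card A) with h | h
    · exact main A B ‹_› ‹_› hAB (hcard ▸ Nat.mul_le_mul_left _ h)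
    · refine main B A ‹_› ‹_› (fun g => ?_) (hcard ▸ Nat.mul_le_mul_right _ h)
      obtain ⟨a, ha, b, hb, hg⟩ := hAB g⁻¹
      exact ⟨b⁻¹, inv_mem hb, a⁻¹, inv_mem ha, by rw [← inv_inv g, hg, mul_inv_rev]⟩


/-- If a finite group G is the product AB of two cyclic subgroups (every element is a product ab), then G is supersolvable. -/
theorem result {G : Type*} [Group G] [Finite G] (A B : Subgroup G) [IsCyclic A] [IsCyclic B] (hAB : ∀ g : G, ∃ a ∈ A, ∃ b ∈ B, g = a * b) : Cfsg.IsSupersolvable G := by
  exact of_cyclic_mul_cyclic G A B hAB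

end Cfsg.Agent.S0571
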