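import Cfsg.Statements.S0574
import Mathlib
import Cfsg.Agent.Lib.Factorized.KegelWielandt
import Cfsg.Agent.S0572
set_option autoImplicit false
open Cfsg
open scoped commutatorElement Pointwise

namespace Cfsg.Agent.S0574

universe u

theorem isNilpotent_of_class_two {G : Type u} [Group G] {B : Subgroup G}
    (hc : ∀ c ∈ ⁅B, B⁆, ∀ x ∈ B, x * c = c * x) : Group.IsNilpotent B := by
  rw [Subgroup.isNilpotent_iff_lowerCentralSeries]
  refine ⟨2, ?_⟩
  change ⁅⁅B, B⁆, B⁆ = ⊥
  rw [Subgroup.commutator_eq_bot_iff_le_centralizer]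
  intro c hcm
  rw [Subgroup.mem_centralizer_iff]
  exact fun x hx => hc c hcm x hx

theorem exists_abelian_minimal_normal {K : Type u} [Group K] [Finite K] [Nontrivial K]
    (hs : Group.IsSolvable K) :
    ∃ V : Subgroup K, V.Normal ∧ V ≠ ⊥ ∧ (∀ x ∈ V, ∀ y ∈ V, x * y = y * x) ∧
      ∀ W : Subgroup K, W.Normal → W ≤ V → W ≠ ⊥ → W = V := by
  classical
  obtain ⟨V, ⟨hVn, hVne⟩, hmin⟩ :=
    Set.exists_min_image {V : Subgroup K | V.Normal ∧ V ≠ ⊥} (fun V => Nat.card V)
      (Set.toFinite _) ⟨⊤, inferInstance, top_ne_bot⟩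
  have hVmin : ∀ W : Subgroup K, W.Normal → W ≤ V → W ≠ ⊥ → W = V := fun W hW hle hne =>
    Subgroup.eq_of_le_of_card_ge hle (hmin W ⟨hW, hne⟩)
  refine ⟨V, hVn, hVne, ?_, hVmin⟩
  have hbot : ⁅V, V⁆ = ⊥ := by
    by_contra h
    have hV : ⁅V, V⁆ = V := hVmin _ inferInstance (Subgroup.commutator_le_right V V) h
    have hle : ∀ n, V ≤ derivedSeries K n := by
      intro n
      induction n with
      | zero => simp
      | succ n ih =>
        rw [derivedSeries_succ]
        exact hV.symm.le.trans (Subgroup.commutator_mono ih ih)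
    obtain ⟨n, hn⟩ := hs.solvable
    exact hVne (le_bot_iff.1 (hn ▸ hle n))
  intro x hx y hy
  exact ((Subgroup.mem_centralizer_iff.1
    (Subgroup.commutator_eq_bot_iff_le_centralizer.1 hbot hy)) x hx)

theorem class_two_claim (n : ℕ) : ∀ (K : Type u) [Group K] [Finite K] (A B : Subgroup K),
    Nat.card K = n → (∀ x ∈ A, ∀ y ∈ A, x * y = y * x) →
    (∀ c ∈ ⁅B, B⁆, ∀ x ∈ B, x * c = c * x) → Lib.Factorized.IsFactorization A B →
    ∀ b ∈ ⁅B, B⁆, A ⊔ Subgroup.zpowers b = ⊤ → b = 1 := by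
  induction n using Nat.strong_induction_on with
  | _ n ih =>
  intro K _ _ A B hn hA hB hAB b hb htop
  rcases subsingleton_or_nontrivial K with h | h
  · exact Subsingleton.elim _ _
  haveI : IsMulCommutative A := ⟨⟨fun x y => Subtype.ext (hA x x.2 y y.2)⟩⟩
  have hs : Group.IsSolvable K :=
    Lib.Factorized.kegel_wielandt (isNilpotent_of_class_two fun c hc x hx =>
      hA x hx c (Subgroup.commutator_le_self A hc)) (isNilpotent_of_class_two hB) hAB
  obtain ⟨V, hVn, hVne, hVc, hVmin⟩ := exists_abelian_minimal_normal hs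
  have hπ := QuotientGroup.mk'_surjective V
  have hlt : Nat.card (K ⧸ V) < n := by
    rw [← hn, V.card_eq_card_quotient_mul_card_subgroup]
    exact lt_mul_of_one_lt_right Nat.card_pos ((Subgroup.one_lt_card_iff_ne_bot V).2 hVne)
  have hbV : b ∈ V := by
    rw [← QuotientGroup.eq_one_iff]
    refine ih _ hlt (K ⧸ V) (A.map (QuotientGroup.mk' V)) (B.map (QuotientGroup.mk' V)) rfl
      ?_ ?_ (hAB.map hπ) _ ?_ ?_
    · rintro _ ⟨x, hx, rfl⟩ _ ⟨y, hy, rfl⟩
      rw [← map_mul, ← map_mul, hA x hx y hy]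
    · rw [← Subgroup.map_commutator]
      rintro _ ⟨c, hc, rfl⟩ _ ⟨x, hx, rfl⟩
      rw [← map_mul, ← map_mul, hB c hc x hx]
    · rw [← Subgroup.map_commutator]
      exact Subgroup.mem_map_of_mem _ hb
    · have : Subgroup.map (QuotientGroup.mk' V) (A ⊔ Subgroup.zpowers b) = ⊤ := by
        rw [htop, Subgroup.map_top_of_surjective _ hπ]
      rwa [Subgroup.map_sup, MonoidHom.map_zpowers] at this
  have hAV : ∀ g : K, ∃ a ∈ A, ∃ v ∈ V, g = a * v := by
    intro g
    have hg : g ∈ ((A ⊔ V : Subgroup K) : Set K) := by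
      have : A ⊔ Subgroup.zpowers b ≤ A ⊔ V := sup_le_sup_left (Subgroup.zpowers_le.2 hbV) A
      rw [htop] at this
      exact this (Subgroup.mem_top g)
    rw [Subgroup.mul_normal] at hg
    obtain ⟨a, ha, v, hv, rfl⟩ := hg
    exact ⟨a, ha, v, hv, rfl⟩
  by_contra hb1
  have hdec : ∀ x ∈ B, ∃ a, (∀ g : K, a * g = g * a) ∧ ∃ v ∈ V, x = a * v := by
    intro x hx
    obtain ⟨a, ha, v, hv, rfl⟩ := hAV x
    refine ⟨a, ?_, v, hv, rfl⟩
    have hab : a * b = b * a := by
      have h1 := hB b hb _ hx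
      rw [mul_assoc, hVc v hv b hbV, ← mul_assoc, ← mul_assoc] at h1
      exact mul_right_cancel h1
    let W : Subgroup K := V ⊓ Subgroup.centralizer {a}
    have hW : ∀ w, w ∈ W ↔ w ∈ V ∧ a * w = w * a := by
      intro w
      simp only [W, Subgroup.mem_inf, Subgroup.mem_centralizer_iff, Set.mem_singleton_iff,
        forall_eq]
    have hWn : W.Normal := by
      refine ⟨fun w hw g => ?_⟩
      obtain ⟨hwV, hwa⟩ := (hW w).1 hw
      obtain ⟨a', ha', v', hv', rfl⟩ := hAV g
      have e : a' * v' * w * (a' * v')⁻¹ = a' * w * a'⁻¹ := by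
        have h3 : v' * w * v'⁻¹ = w := by rw [hVc v' hv' w hwV]; group
        calc a' * v' * w * (a' * v')⁻¹ = a' * (v' * w * v'⁻¹) * a'⁻¹ := by group
          _ = a' * w * a'⁻¹ := by rw [h3]
      rw [e, hW]
      refine ⟨hVn.conj_mem w hwV a', ?_⟩
      calc a * (a' * w * a'⁻¹) = (a * a') * w * a'⁻¹ := by group
        _ = a' * (a * w) * a'⁻¹ := by rw [hA a ha a' ha']; group
        _ = a' * w * (a * a'⁻¹) := by rw [hwa]; group
        _ = a' * w * (a'⁻¹ * a) := by rw [hA a ha a'⁻¹ (A.inv_mem ha')]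
        _ = a' * w * a'⁻¹ * a := by group
    have hWV : W = V := hVmin W hWn inf_le_left
      (fun h => hb1 (by
        have := (hW b).2 ⟨hbV, hab⟩
        rwa [h, Subgroup.mem_bot] at this))
    intro g
    obtain ⟨a', ha', v', hv', rfl⟩ := hAV g
    have h4 : a * v' = v' * a := ((hW v').1 (hWV.symm ▸ hv')).2
    rw [← mul_assoc, hA a ha a' ha', mul_assoc, h4, ← mul_assoc]
  have hBB : ⁅B, B⁆ = ⊥ := by
    rw [Subgroup.commutator_eq_bot_iff_le_centralizer]
    intro x hx
    rw [Subgroup.mem_centralizer_iff]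
    intro y hy
    obtain ⟨a, hac, v, hv, rfl⟩ := hdec x hx
    obtain ⟨a', ha'c, v', hv', rfl⟩ := hdec y hy
    calc a' * v' * (a * v) = a' * (v' * a) * v := by group
      _ = a' * a * (v' * v) := by rw [← hac v']; group
      _ = a * a' * (v * v') := by rw [← hac a', hVc v' hv' v hv]
      _ = a * (a' * v) * v' := by group
      _ = a * v * (a' * v') := by rw [ha'c v]; group
  rw [hBB, Subgroup.mem_bot] at hb
  exact hb1 hb

theorem omega_lt {d n : ℕ} (hn : n ≠ 0) (hd : d ∣ n) (hlt : d < n) :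
    d.primeFactorsList.length < n.primeFactorsList.length := by
  obtain ⟨k, rfl⟩ := hd
  have hd0 : d ≠ 0 := left_ne_zero_of_mul hn
  have hk0 : k ≠ 0 := right_ne_zero_of_mul hn
  rw [(Nat.perm_primeFactorsList_mul hd0 hk0).length_eq, List.length_append]
  have : k.primeFactorsList ≠ [] := by
    rw [Ne, Nat.primeFactorsList_eq_nil]
    rintro (h | h)
    · exact hk0 h
    · simp [h] at hlt
  have := List.length_pos_of_ne_nil this
  omega

theorem main (n : ℕ) : ∀ (G : Type u) [Group G] [Finite G] (A B : Subgroup G),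
    Nat.card G = n → (∀ x ∈ A, ∀ y ∈ A, x * y = y * x) →
    (∀ c ∈ ⁅B, B⁆, ∀ x ∈ B, x * c = c * x) → Lib.Factorized.IsFactorization A B →
    derivedSeries G (2 * (1 + (Nat.card ↥⁅B, B⁆).primeFactorsList.length)) = ⊥ := by
  classical
  induction n using Nat.strong_induction_on with
  | _ n ih =>
  intro G _ _ A B hn hA hB hAB
  haveI : IsMulCommutative A := ⟨⟨fun x y => Subtype.ext (hA x x.2 y y.2)⟩⟩
  by_cases hB' : ⁅B, B⁆ = ⊥
  · haveI : IsMulCommutative B := ⟨⟨fun x y => Subtype.ext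
      ((Subgroup.mem_centralizer_iff.1 (Subgroup.commutator_eq_bot_iff_le_centralizer.1 hB' y.2))
        x x.2)⟩⟩
    rw [hB', Subgroup.card_bot, Nat.primeFactorsList_one, List.length_nil]
    exact S0572.result A B hAB
  obtain ⟨b0, hb0, hb0ne⟩ := (Subgroup.bot_or_exists_ne_one ⁅B, B⁆).resolve_left hB'
  obtain ⟨b, ⟨hb, hbne⟩, hmin⟩ :=
    Set.exists_min_image {b : G | b ∈ ⁅B, B⁆ ∧ b ≠ 1}
      (fun b => Nat.card ↥(A ⊔ Subgroup.zpowers b)) (Set.toFinite _) ⟨b0, hb0, hb0ne⟩
  set K : Subgroup G := A ⊔ Subgroup.zpowers b with hK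
  have hBle : ⁅B, B⁆ ≤ B := Subgroup.commutator_le_self B
  have hAK : A ≤ K := le_sup_left
  have hfK : Lib.Factorized.IsFactorization (A.subgroupOf K) (B.subgroupOf K) :=
    hAB.subgroupOf_left hAK
  -- `B ⊓ K` is abelian
  have hBK : ⁅B ⊓ K, B ⊓ K⁆ = ⊥ := by
    by_contra hne
    obtain ⟨c, hc, hcne⟩ := (Subgroup.bot_or_exists_ne_one _).resolve_left hne
    have hc' : c ∈ ⁅B, B⁆ := Subgroup.commutator_mono inf_le_left inf_le_left hc
    have hcK : c ∈ K := (Subgroup.commutator_le_self (B ⊓ K) hc).2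
    have hle : A ⊔ Subgroup.zpowers c ≤ K := sup_le hAK (Subgroup.zpowers_le.2 hcK)
    have heq : A ⊔ Subgroup.zpowers c = K :=
      Subgroup.eq_of_le_of_card_ge hle (hmin c ⟨hc', hcne⟩)
    have hmap : (B.subgroupOf K).map K.subtype = B ⊓ K := by
      rw [Subgroup.subgroupOf_map_subtype]
    have h2 := class_two_claim (Nat.card K) K (A.subgroupOf K) (B.subgroupOf K) rfl
      (fun x hx y hy => Subtype.ext (hA x hx y hy))
      (fun z hz x hx => Subtype.ext (hB z
        (Subgroup.commutator_mono inf_le_left inf_le_left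
          (hmap ▸ (Subgroup.map_commutator (B.subgroupOf K) (B.subgroupOf K) K.subtype) ▸
            Subgroup.mem_map_of_mem K.subtype hz)) x hx))
      hfK ⟨c, hcK⟩ (by
        rw [← Subgroup.mem_map_iff_mem K.subtype_injective, Subgroup.map_commutator, hmap]
        exact hc) (by
        apply Subgroup.map_injective K.subtype_injective
        rw [Subgroup.map_sup, MonoidHom.map_zpowers, ← MonoidHom.range_eq_map,
          Subgroup.range_subtype, Subgroup.map_subgroupOf_eq_of_le hAK]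
        exact heq)
    exact hcne (congrArg Subtype.val h2)
  have hK2 : ⁅⁅K, K⁆, ⁅K, K⁆⁆ = ⊥ := by
    haveI : IsMulCommutative (A.subgroupOf K) :=
      ⟨⟨fun x y => Subtype.ext (Subtype.ext (hA _ x.2 _ y.2))⟩⟩
    haveI : IsMulCommutative (B.subgroupOf K) := ⟨⟨fun x y => Subtype.ext (Subtype.ext
      ((Subgroup.mem_centralizer_iff.1 (Subgroup.commutator_eq_bot_iff_le_centralizer.1 hBK
        ⟨y.2, y.1.2⟩)) x.1.1 ⟨x.2, x.1.2⟩))⟩⟩
    have h := S0572.result (A.subgroupOf K) (B.subgroupOf K) hfK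
    rw [derivedSeries_succ, derivedSeries_one] at h
    have h2 := congrArg (Subgroup.map K.subtype) h
    rwa [Subgroup.map_commutator, Subgroup.map_subtype_commutator, Subgroup.map_bot] at h2
  -- the normal subgroup `R`
  set Z := Subgroup.zpowers b with hZ
  have hzc : ∀ z ∈ Z, ∀ x ∈ B, x * z = z * x := fun z hz =>
    hB z (Subgroup.zpowers_le.2 hb hz)
  have hconjA : ∀ a ∈ A, ∀ z ∈ Z, ∀ y ∈ B, y * ⁅a, z⁆ * y⁻¹ ∈ ⁅A, Z⁆ := by
    intro a ha z hz y hy
    obtain ⟨a2, ha2, b2, hb2, h2⟩ := hAB (y * a * y⁻¹)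
    have hyz : y * z * y⁻¹ = z := by rw [hzc z hz y hy]; group
    have hbz : b2 * z * b2⁻¹ = z := by rw [hzc z hz b2 hb2]; group
    have e : y * ⁅a, z⁆ * y⁻¹ = ⁅a2, z⁆ := by
      calc y * ⁅a, z⁆ * y⁻¹ = ⁅y * a * y⁻¹, y * z * y⁻¹⁆ := by
            rw [commutatorElement_def, commutatorElement_def]; group
        _ = ⁅a2 * b2, z⁆ := by rw [h2, hyz]
        _ = a2 * (b2 * z * b2⁻¹) * a2⁻¹ * z⁻¹ := by rw [commutatorElement_def]; group
        _ = ⁅a2, z⁆ := by rw [hbz, commutatorElement_def]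
    rw [e]
    exact Subgroup.commutator_mem_commutator ha2 hz
  set R : Subgroup G := ⁅A, Z⁆ ⊔ Z with hR
  have hgen : ∀ g : G, R.map (MulAut.conj g).toMonoidHom ≤ R := by
    intro g
    obtain ⟨a, ha, y, hy, rfl⟩ := hAB g
    have hA' : R.map (MulAut.conj a).toMonoidHom ≤ R := by
      rw [hR, Subgroup.map_sup]
      refine sup_le ?_ ?_
      · refine le_trans ?_ le_sup_left
        rintro _ ⟨w, hw, rfl⟩
        exact ((Subgroup.mem_normalizer_iff.1
          (Subgroup.normalizer_commutator_ge_left A Z ha)) w).1 hw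
      · rintro _ ⟨z, hz, rfl⟩
        have e : (MulAut.conj a).toMonoidHom z = ⁅a, z⁆ * z := by
          simp [commutatorElement_def]
        rw [e]
        exact mul_mem (le_sup_left (a := ⁅A, Z⁆) (Subgroup.commutator_mem_commutator ha hz))
          (le_sup_right (a := ⁅A, Z⁆) hz)
    have hB'' : R.map (MulAut.conj y).toMonoidHom ≤ R := by
      rw [hR, Subgroup.map_sup]
      refine sup_le_sup ?_ ?_
      · rw [Subgroup.map_le_iff_le_comap, Subgroup.commutator_le]
        intro a' ha' z hz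
        exact hconjA a' ha' z hz y hy
      · rintro _ ⟨z, hz, rfl⟩
        have e : (MulAut.conj y).toMonoidHom z = z := by
          simp [hzc z hz y hy]
        rwa [e]
    calc R.map (MulAut.conj (a * y)).toMonoidHom
        = (R.map (MulAut.conj y).toMonoidHom).map (MulAut.conj a).toMonoidHom := by
          rw [Subgroup.map_map, map_mul]
          rfl
      _ ≤ R.map (MulAut.conj a).toMonoidHom := Subgroup.map_mono hB''
      _ ≤ R := hA'
  haveI hRn : R.Normal := ⟨fun w hw g => hgen g (Subgroup.mem_map_of_mem _ hw)⟩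
  have hZK : Z ≤ K := le_sup_right
  have hRK : R ≤ K :=
    sup_le ((Subgroup.commutator_mono hAK hZK).trans (Subgroup.commutator_le_self K)) hZK
  have hπ := QuotientGroup.mk'_surjective R
  have hbR : b ∈ R := le_sup_right (a := ⁅A, Z⁆) (Subgroup.mem_zpowers b)
  have hRne : R ≠ ⊥ := fun h => hbne (by rwa [h, Subgroup.mem_bot] at hbR)
  have hlt : Nat.card (G ⧸ R) < n := by
    rw [← hn, R.card_eq_card_quotient_mul_card_subgroup]
    exact lt_mul_of_one_lt_right Nat.card_pos ((Subgroup.one_lt_card_iff_ne_bot R).2 hRne)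
  have hq := ih _ hlt (G ⧸ R) (A.map (QuotientGroup.mk' R)) (B.map (QuotientGroup.mk' R)) rfl
    (by
      rintro _ ⟨x, hx, rfl⟩ _ ⟨y, hy, rfl⟩
      rw [← map_mul, ← map_mul, hA x hx y hy])
    (by
      rw [← Subgroup.map_commutator]
      rintro _ ⟨c, hc, rfl⟩ _ ⟨x, hx, rfl⟩
      rw [← map_mul, ← map_mul, hB c hc x hx])
    (hAB.map hπ)
  rw [← Subgroup.map_commutator] at hq
  -- the commutator subgroup gets smaller in the quotient
  set m := 2 * (1 + (Nat.card ↥(⁅B, B⁆.map (QuotientGroup.mk' R))).primeFactorsList.length)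
    with hm
  have hdvd : Nat.card ↥(⁅B, B⁆.map (QuotientGroup.mk' R)) ∣ Nat.card ↥⁅B, B⁆ :=
    Subgroup.card_map_dvd _ _
  have hlt2 : Nat.card ↥(⁅B, B⁆.map (QuotientGroup.mk' R)) < Nat.card ↥⁅B, B⁆ := by
    refine lt_of_le_of_ne (Nat.le_of_dvd Nat.card_pos hdvd) fun he => hbne ?_
    have hbij := ((Nat.bijective_iff_surjective_and_card
      ((QuotientGroup.mk' R).subgroupMap ⁅B, B⁆)).2
        ⟨(QuotientGroup.mk' R).subgroupMap_surjective _, he.symm⟩).1
    have := @hbij ⟨b, hb⟩ 1 (Subtype.ext (by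
      simpa using (QuotientGroup.eq_one_iff b).2 hbR))
    exact congrArg Subtype.val this
  have hom := omega_lt Nat.card_pos.ne' hdvd hlt2
  have hmR : derivedSeries G m ≤ R := by
    have h := congrArg (Subgroup.comap (QuotientGroup.mk' R))
      ((map_derivedSeries_eq hπ m).trans hq)
    rw [MonoidHom.comap_bot, QuotientGroup.ker_mk'] at h
    exact (Subgroup.le_comap_map _ _).trans h.le
  have hm2 : derivedSeries G (m + 2) = ⊥ := by
    rw [derivedSeries_succ, derivedSeries_succ, eq_bot_iff, ← hK2]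
    have := hmR.trans hRK
    exact Subgroup.commutator_mono (Subgroup.commutator_mono this this)
      (Subgroup.commutator_mono this this)
  rw [eq_bot_iff, ← hm2]
  exact derivedSeries_antitone G (by omega)


/-- Let the finite group G be the product AB of an abelian subgroup A and a subgroup B of nilpotency class at most two, and let Ω be the number of prime factors, with multiplicity, of the order of the commutator subgroup of B. Then the term of index 2(1 + Ω) of the derived series of G is trivial. -/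
theorem result {G : Type*} [Group G] [Finite G] (A B : Subgroup G) [IsMulCommutative A] (hB : commutator ↥B ≤ Subgroup.center ↥B) (hAB : ∀ g : G, ∃ a ∈ A, ∃ b ∈ B, g = a * b) : derivedSeries G (2 * (1 + (Nat.card ↥(commutator ↥B)).primeFactorsList.length)) = ⊥ := by
  have hc : ∀ c ∈ ⁅B, B⁆, ∀ x ∈ B, x * c = c * x := by
    rw [← Subgroup.map_subtype_commutator B]
    rintro _ ⟨c, hc, rfl⟩ x hx
    exact congrArg Subtype.val (Subgroup.mem_center_iff.1 (hB hc) ⟨x, hx⟩)
  have h := main _ G A B rfl (fun x hx y hy => setLike_mul_comm hx hy) hc hAB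
  rwa [← Subgroup.map_subtype_commutator B,
    Subgroup.card_map_of_injective B.subtype_injective] at h

end Cfsg.Agent.S0574
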