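import Cfsg.Statements.S0576
import Mathlib
set_option autoImplicit false
open scoped Pointwise
open Cfsg

namespace Cfsg.Agent.S0576

/-- Let H be a normal subgroup of a finite group G with H contained in the Frattini subgroup of G. Then the group of inner automorphisms of H is contained in the Frattini subgroup of the automorphism group of H. -/
theorem result {G : Type*} [Group G] [Finite G] (H : Subgroup G) [H.Normal] (hH : H ≤ frattini G) : (MulAut.conj : ↥H →* MulAut ↥H).range ≤ frattini (MulAut ↥H) := by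
  refine le_iInf₂ fun M hM => ?_
  by_contra hle
  set I := (MulAut.conj : ↥H →* MulAut ↥H).range
  have hIn : I.Normal := by
    refine ⟨?_⟩
    rintro _ ⟨h, rfl⟩ φ
    refine ⟨φ h, ?_⟩
    ext x
    simp [MulAut.conj_apply]
  have htop : I ⊔ M = ⊤ := hM.2 _ (right_lt_sup.2 hle)
  set θ : G →* MulAut ↥H := MulAut.conjNormal
  have hθ : ∀ h : H, θ (h : G) = MulAut.conj h := fun h => MulAut.conjNormal_val
  have hsup : M.comap θ ⊔ frattini G = ⊤ := by
    rw [eq_top_iff]
    intro g _
    obtain ⟨i, hi, m, hm, him⟩ : θ g ∈ (I : Set (MulAut ↥H)) * (M : Set (MulAut ↥H)) := by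
      rw [← Subgroup.normal_mul, htop]; trivial
    obtain ⟨h, rfl⟩ := hi
    have h1 : (h : G)⁻¹ * g ∈ M.comap θ := by
      rw [Subgroup.mem_comap, map_mul, map_inv, hθ, ← him, inv_mul_cancel_left]
      exact hm
    have h2 : g = (h : G) * ((h : G)⁻¹ * g) := by group
    rw [h2]
    exact mul_mem (Subgroup.mem_sup_right (hH h.2)) (Subgroup.mem_sup_left h1)
  have hc := frattini_nongenerating hsup
  apply hle
  rintro _ ⟨h, rfl⟩
  rw [← hθ]
  exact Subgroup.mem_comap.1 (hc ▸ Subgroup.mem_top (h : G))

end Cfsg.Agent.S0576
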