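import Cfsg.Statements.S0584
import Mathlib
set_option autoImplicit false
open Cfsg

namespace Cfsg.Agent.S0584

/-- Let B ≤ A be normal subgroups of a finite group G with B contained in the Frattini subgroup of G. If A modulo B is nilpotent then A is nilpotent. -/
theorem result {G : Type*} [Group G] [Finite G] (A B : Subgroup G) [A.Normal] [B.Normal] (hBA : B ≤ A) (hB : B ≤ frattini G) (h : Group.IsNilpotent (↥A ⧸ B.subgroupOf A)) : Group.IsNilpotent A := by
  set B' := B.subgroupOf A with hB'
  refine ((Group.isNilpotent_of_finite_tfae (G := A)).out 0 3).mpr fun p hp P => ?_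
  haveI := hp
  set π := QuotientGroup.mk' B'
  have hQn : ((P.mapSurjective (QuotientGroup.mk'_surjective B') : Sylow p (↥A ⧸ B')) :
      Subgroup (↥A ⧸ B')).Normal :=
    ((Group.isNilpotent_of_finite_tfae (G := ↥A ⧸ B')).out 0 3 rfl rfl).mp h p hp _
  rw [P.coe_mapSurjective] at hQn
  set T := (P : Subgroup A) ⊔ B'
  have hT : T.Normal := by
    have h1 := hQn.comap π
    rwa [Subgroup.comap_map_eq, QuotientGroup.ker_mk'] at h1
  set PG := (P : Subgroup A).map A.subtype
  have hsup : Subgroup.normalizer (PG : Set G) ⊔ A = ⊤ := Sylow.normalizer_sup_eq_top P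
  have hA : A ≤ Subgroup.normalizer (PG : Set G) ⊔ B := by
    intro g hg
    set a : A := ⟨g, hg⟩
    have hP : ((a • P : Sylow p A) : Subgroup A) ≤ T := by
      rw [Sylow.coe_subgroup_smul]
      intro z hz
      obtain ⟨w, hw, rfl⟩ := Subgroup.mem_smul_pointwise_iff_exists _ _ _ |>.1 hz
      exact hT.conj_mem w (Subgroup.mem_sup_left hw) a
    obtain ⟨t, ht⟩ := MulAction.exists_smul_eq T ((a • P).subtype hP) (P.subtype le_sup_left)
    simp_rw [Sylow.smul_subtype, Subgroup.smul_def] at ht
    have h2 : ((t : A) * a) • P = P := by rw [mul_smul]; exact Sylow.subtype_injective ht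
    have h3 : (((t : A) * a : A) : G) ∈ Subgroup.normalizer (PG : Set G) :=
      Subgroup.le_normalizer_map A.subtype
        (Subgroup.mem_map_of_mem A.subtype (Sylow.smul_eq_iff_mem_normalizer.1 h2))
    have h4 : ((t : A) : G) ∈ Subgroup.normalizer (PG : Set G) ⊔ B := by
      have hle : T ≤ (Subgroup.normalizer (PG : Set G) ⊔ B).subgroupOf A := by
        refine sup_le (fun x hx => ?_) (fun x hx => ?_)
        · exact Subgroup.mem_sup_left (Subgroup.le_normalizer (Subgroup.mem_map_of_mem A.subtype hx))
        · exact Subgroup.mem_sup_right hx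
      exact hle t.2
    have h5 : g = ((t : A) : G)⁻¹ * (((t : A) * a : A) : G) := by simp [a]
    rw [h5]
    exact mul_mem (inv_mem h4) (Subgroup.mem_sup_left h3)
  have htop : Subgroup.normalizer (PG : Set G) ⊔ frattini G = ⊤ := by
    rw [eq_top_iff, ← hsup]
    exact sup_le le_sup_left (hA.trans (sup_le_sup_left hB _))
  exact (Subgroup.normalizer_eq_top_iff.mp (frattini_nongenerating htop)).of_map_subtype

end Cfsg.Agent.S0584
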