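import Cfsg.Statements.S0577
import Mathlib
import Cfsg.Agent.Lib.Factorized.Basic
import Cfsg.Agent.S0536
import Cfsg.Agent.S0584
import Cfsg.Agent.S0575
import Cfsg.Agent.Lib.PGroup.Frattini
set_option autoImplicit false
open scoped commutatorElement Pointwise
open Cfsg

namespace Cfsg.Agent.S0577

/-- Let G be a finite minimal non-nilpotent group and Q a normal Sylow q-subgroup of G, and let D be the commutator subgroup of Q regarded in G (a normal subgroup). Then G modulo D is non-abelian and all its proper subgroups are abelian. -/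
theorem result {G : Type*} [Group G] [Finite G] (hG : Cfsg.IsMinimalNonNilpotent G) (q : ℕ) [Fact q.Prime] (hq : q ∣ Nat.card G) (Q : Sylow q G) (hQ : (Q : Subgroup G).Normal) (D : Subgroup G) [D.Normal] (hD : D = (commutator ↥(Q : Subgroup G)).map (Q : Subgroup G).subtype) : ¬ IsMulCommutative (G ⧸ D) ∧ ∀ K : Subgroup (G ⧸ D), K ≠ ⊤ → IsMulCommutative K := by
  classical
  obtain ⟨p, q', hp, hq', hpq, P, Q', hPc, hQ'n, hsup⟩ := Cfsg.Agent.S0536.result hG
  haveI := Fact.mk hp
  haveI := Fact.mk hq'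
  haveI := hQ
  -- only `p` and `q'` divide the order of `G`
  have hprimes : ∀ r : ℕ, r.Prime → r ∣ Nat.card G → r = p ∨ r = q' := by
    intro r hr hrd
    haveI := hQ'n
    have hmul : Nat.card G * Nat.card ↥((P : Subgroup G) ⊓ (Q' : Subgroup G)) =
        Nat.card (P : Subgroup G) * Nat.card (Q' : Subgroup G) := by
      rw [← Lib.Factorized.IsFactorization.card_mul_card]
      intro g
      obtain ⟨a, ha, b, hb, hab⟩ : g ∈ ((P : Subgroup G) : Set G) * ((Q' : Subgroup G) : Set G) := by
        rw [← Subgroup.mul_normal, hsup]; trivial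
      exact ⟨a, ha, b, hb, hab.symm⟩
    rw [P.card_eq_multiplicity, Q'.card_eq_multiplicity] at hmul
    rcases (hr.dvd_mul).1 (hmul ▸ hrd.mul_right _) with h | h
    · exact Or.inl ((Nat.prime_dvd_prime_iff_eq hr hp).1 (hr.dvd_of_dvd_pow h))
    · exact Or.inr ((Nat.prime_dvd_prime_iff_eq hr hq').1 (hr.dvd_of_dvd_pow h))
  have hqq : q = q' := by
    refine ((hprimes q Fact.out hq).resolve_left ?_)
    rintro rfl
    -- both Sylow subgroups would be normal
    refine hG.1 (((Group.isNilpotent_of_finite_tfae (G := G)).out 0 3).mpr fun r hr R => ?_)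
    haveI := hr
    by_cases hrd : r ∣ Nat.card G
    · rcases hprimes r hr.out hrd with rfl | rfl
      · haveI := Sylow.unique_of_normal Q hQ
        rw [Subsingleton.elim R Q]; exact hQ
      · haveI := Sylow.unique_of_normal Q' hQ'n
        rw [Subsingleton.elim R Q']; exact hQ'n
    · have : (R : Subgroup G) = ⊥ := by
        rw [Subgroup.eq_bot_iff_card, R.card_eq_multiplicity,
          Nat.factorization_eq_zero_of_not_dvd hrd, pow_zero]
      rw [this]; infer_instance
  subst hqq
  -- the Sylow `q`-subgroup has commutative image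
  have hDQ : D ≤ (Q : Subgroup G) := hD ▸ Subgroup.map_subtype_le _
  have hQD : ∀ a ∈ (Q : Subgroup G), ∀ b ∈ (Q : Subgroup G),
      (a : G ⧸ D) * (b : G ⧸ D) = (b : G ⧸ D) * (a : G ⧸ D) := by
    intro a ha b hb
    rw [← QuotientGroup.mk_mul, ← QuotientGroup.mk_mul, QuotientGroup.eq,
      show (a * b)⁻¹ * (b * a) = ⁅b⁻¹, a⁻¹⁆ by rw [commutatorElement_def]; group, hD]
    exact ⟨⁅(⟨b, hb⟩ : ↥(Q : Subgroup G))⁻¹, (⟨a, ha⟩ : ↥(Q : Subgroup G))⁻¹⁆,
      Subgroup.commutator_mem_commutator (Subgroup.mem_top _) (Subgroup.mem_top _), by simp [commutatorElement_def]⟩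
  constructor
  · intro hab
    apply hG.1
    rw [← Group.isNilpotent_top]
    haveI hT : Group.IsNilpotent (↥(⊤ : Subgroup G) ⧸ D.subgroupOf ⊤) := by
      haveI : IsMulCommutative (↥(⊤ : Subgroup G) ⧸ D.subgroupOf ⊤) := by
        refine ⟨⟨?_⟩⟩
        rintro ⟨a⟩ ⟨b⟩
        have h1 := hab.is_comm.comm ((a : G) : G ⧸ D) ((b : G) : G ⧸ D)
        rw [← QuotientGroup.mk_mul, ← QuotientGroup.mk_mul, QuotientGroup.eq] at h1
        exact QuotientGroup.eq.2 h1
      open IsMulCommutative in exact CommGroup.isNilpotent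
    refine Cfsg.Agent.S0584.result (⊤ : Subgroup G) D le_top ?_ hT
    rw [hD]
    exact (Subgroup.map_mono (Lib.PFrattini.commutator_le_frattini Q.2)).trans
      (Cfsg.Agent.S0575.result _)
  intro K hK
  set π := QuotientGroup.mk' D
  have hπ : Function.Surjective π := QuotientGroup.mk'_surjective D
  -- `K` is nilpotent
  have hKnil : Group.IsNilpotent K := by
    set H := K.comap π
    have hH : H ≠ ⊤ := by
      intro h
      apply hK
      rw [← Subgroup.map_comap_eq_self_of_surjective hπ K]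
      show H.map π = ⊤
      rw [h, Subgroup.map_top_of_surjective π hπ]
    haveI := hG.2 H hH
    exact Group.nilpotent_of_surjective (π.subgroupComap K)
      (MonoidHom.subgroupComap_surjective_of_surjective π K hπ)
  -- the Sylow subgroups of `K` are commutative
  have hsyl : ∀ r : (Nat.card K).primeFactors, ∀ R : Sylow r K, IsMulCommutative ↥(R : Subgroup K) := by
    rintro ⟨r, hr⟩ R
    rw [Nat.mem_primeFactors] at hr
    haveI := Fact.mk hr.1
    have hrG : r ∣ Nat.card G :=
      hr.2.1.trans ((Subgroup.card_subgroup_dvd_card K).trans (Subgroup.card_quotient_dvd_card D))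
    obtain ⟨S, hS⟩ := (R.2.map K.subtype).exists_le_sylow
    obtain ⟨S', hS'⟩ := Sylow.mapSurjective_surjective hπ r S
    have hcomm : ∀ a ∈ (S' : Subgroup G), ∀ b ∈ (S' : Subgroup G),
        (a : G ⧸ D) * (b : G ⧸ D) = (b : G ⧸ D) * (a : G ⧸ D) := by
      rcases hprimes r hr.1 hrG with rfl | rfl
      · intro a ha b hb
        have hcy : IsCyclic ↥(S' : Subgroup G) := (S'.equiv P).isCyclic.2 hPc
        haveI := hcy
        have h2 : (⟨a, ha⟩ : ↥(S' : Subgroup G)) * ⟨b, hb⟩ = ⟨b, hb⟩ * ⟨a, ha⟩ :=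
          IsCyclic.isMulCommutative.is_comm.comm _ _
        rw [← QuotientGroup.mk_mul, ← QuotientGroup.mk_mul]
        exact congrArg (fun t => ((t : G) : G ⧸ D)) (congrArg Subtype.val h2)
      · haveI := Sylow.unique_of_normal Q hQ
        rw [Subsingleton.elim S' Q]
        exact hQD
    refine ⟨⟨fun x y => Subtype.ext (Subtype.ext ?_)⟩⟩
    have hmem : ∀ x : ↥(R : Subgroup K), ∃ a ∈ (S' : Subgroup G), (a : G ⧸ D) = ((x : K) : G ⧸ D) := by
      intro x
      have h1 : ((x : K) : G ⧸ D) ∈ (S : Subgroup (G ⧸ D)) := hS (Subgroup.mem_map_of_mem K.subtype x.2)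
      rw [← hS', Sylow.coe_mapSurjective] at h1
      exact h1
    obtain ⟨a, ha, hax⟩ := hmem x
    obtain ⟨b, hb, hby⟩ := hmem y
    simp only [Subgroup.coe_mul]
    rw [← hax, ← hby]
    exact hcomm a ha b hb
  obtain ⟨e⟩ := ((Group.isNilpotent_of_finite_tfae (G := K)).out 0 4 rfl rfl).mp hKnil
  refine ⟨⟨fun x y => e.symm.injective ?_⟩⟩
  funext r R
  simp only [map_mul, Pi.mul_apply]
  exact (hsyl r R).is_comm.comm _ _

end Cfsg.Agent.S0577
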