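import Cfsg.Statements.S0578
import Mathlib
set_option autoImplicit false
open scoped commutatorElement
open Cfsg

namespace Cfsg.Agent.S0578

universe w

/-- The property passes to subgroups, and forces commutativity. -/
theorem commutative_of_normalizer_eq (n : ℕ) :
    ∀ (G : Type w) [Group G] [Finite G], Nat.card G = n →
      (∀ A : Subgroup G, IsMulCommutative A →
        Subgroup.normalizer (A : Set G) = Subgroup.centralizer (A : Set G)) →
      IsMulCommutative G := by
  induction n using Nat.strong_induction_on with
  | _ n ih =>
  intro G _ _ hn h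
  have hsub : ∀ H : Subgroup G, H ≠ ⊤ → IsMulCommutative H := by
    intro H hH
    refine ih (Nat.card H) (hn ▸ ?_) H rfl fun A hA => ?_
    · exact lt_of_le_of_ne (Subgroup.card_le_card_group H)
        fun he => hH (Subgroup.eq_top_of_card_eq H he)
    · refine le_antisymm (fun x hx => ?_) (Subgroup.centralizer_le_normalizer _)
      rw [Subgroup.mem_centralizer_iff]
      intro a ha
      haveI := hA
      have hA' : IsMulCommutative ↥(A.map H.subtype) := inferInstance
      have hxN : (x : G) ∈ Subgroup.normalizer ((A.map H.subtype : Subgroup G) : Set G) :=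
        Subgroup.le_normalizer_map H.subtype (Subgroup.mem_map_of_mem H.subtype hx)
      rw [h _ hA', Subgroup.mem_centralizer_iff] at hxN
      exact Subtype.ext (hxN a (Subgroup.mem_map_of_mem H.subtype ha))
  by_cases hpg : ∃ p : ℕ, p.Prime ∧ IsPGroup p G
  · obtain ⟨p, hp, hG⟩ := hpg
    haveI := Fact.mk hp
    haveI := hG.isNilpotent
    rcases subsingleton_or_nontrivial G with hs | hs
    · exact ⟨⟨fun a b => Subsingleton.elim _ _⟩⟩
    obtain ⟨M, hM⟩ := IsCoatomic.exists_coatom (Subgroup G)
    haveI := Subgroup.NormalizerCondition.normal_of_coatom M Group.normalizerCondition_of_isNilpotent hM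
    have hcen : M ≤ Subgroup.center G := by
      have hh := h M (hsub M hM.1)
      rw [Subgroup.normalizer_eq_top] at hh
      intro m hm
      rw [Subgroup.mem_center_iff]
      intro g
      have hg : g ∈ Subgroup.centralizer (M : Set G) := hh ▸ Subgroup.mem_top g
      exact ((Subgroup.mem_centralizer_iff.1 hg) m hm).symm
    obtain ⟨g, hg⟩ : ∃ g : G, g ∉ M := by
      by_contra hc
      push Not at hc
      exact hM.1 (eq_top_iff.2 fun g _ => hc g)
    have htop : M ⊔ Subgroup.zpowers g = ⊤ :=
      hM.2 _ (left_lt_sup.2 fun hle => hg (hle (Subgroup.mem_zpowers g)))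
    have hle : (⊤ : Subgroup G) ≤ Subgroup.center G := by
      have hgc : Subgroup.zpowers g ≤ Subgroup.center G := by
        rw [Subgroup.zpowers_le, Subgroup.mem_center_iff]
        intro x
        have hx : (⊤ : Subgroup G) ≤ Subgroup.centralizer {g} := by
          rw [← htop]
          refine sup_le (fun m hm => ?_) ?_
          · rw [Subgroup.mem_centralizer_singleton_iff]
            exact (Subgroup.mem_center_iff.1 (hcen hm) g).symm
          · rw [Subgroup.zpowers_le, Subgroup.mem_centralizer_singleton_iff]
        exact Subgroup.mem_centralizer_singleton_iff.1 (hx (Subgroup.mem_top x))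
      rw [← htop]
      exact sup_le hcen hgc
    exact ⟨⟨fun a b => (Subgroup.mem_center_iff.1 (hle (Subgroup.mem_top b)) a)⟩⟩
  · push Not at hpg
    refine ⟨⟨fun a b => ?_⟩⟩
    rw [← commutatorElement_eq_one_iff_mul_comm, ← orderOf_eq_one_iff]
    by_contra hne
    obtain ⟨p, hp, hpd⟩ := Nat.exists_prime_and_dvd hne
    haveI := Fact.mk hp
    obtain ⟨P⟩ := (inferInstance : Nonempty (Sylow p G))
    have hPab : IsMulCommutative (P : Subgroup G) :=
      hsub _ fun he => hpg p hp ((he ▸ P.2).of_equiv Subgroup.topEquiv)
    have hP : Subgroup.normalizer (P : Set G) ≤ Subgroup.centralizer (P : Set G) :=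
      (h _ hPab).le
    have hker : ⁅a, b⁆ ∈ (MonoidHom.transferSylow P hP).ker := by
      rw [MonoidHom.mem_ker, map_commutatorElement, commutatorElement_eq_one_iff_mul_comm]
      exact setLike_mul_comm_subtype hPab _ _
    refine MonoidHom.not_dvd_card_ker_transferSylow P hP (hpd.trans ?_)
    exact Subgroup.orderOf_dvd_natCard _ hker
where
  setLike_mul_comm_subtype {G : Type w} [Group G] {P : Subgroup G} (hP : IsMulCommutative P)
      (x y : P) : x * y = y * x :=
    hP.is_comm.comm x y

/-- If in a finite group the normalizer of each abelian subgroup coincides with its centralizer, then the group is abelian. -/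
theorem result {G : Type*} [Group G] [Finite G] (h : ∀ A : Subgroup G, IsMulCommutative A → Subgroup.normalizer (A : Set G) = Subgroup.centralizer (A : Set G)) : IsMulCommutative G := by
  exact commutative_of_normalizer_eq (Nat.card G) G rfl h

end Cfsg.Agent.S0578
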