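import Cfsg.Statements.S0580
import Mathlib
set_option autoImplicit false
open Cfsg

namespace Cfsg.Agent.S0580

universe w

/-- If all maximal subgroups have prime index, a Sylow subgroup for the largest prime is normal. -/
theorem sylow_normal_of_max {G : Type*} [Group G] [Finite G]
    (h : ∀ M : Subgroup G, IsCoatom M → M.index.Prime) {p : ℕ} [hp : Fact p.Prime]
    (hmax : ∀ q : ℕ, q.Prime → q ∣ Nat.card G → q ≤ p) (P : Sylow p G) :
    (P : Subgroup G).Normal := by
  rw [← Subgroup.normalizer_eq_top_iff]
  by_contra hne
  obtain ⟨M, hM, hle⟩ := (eq_top_or_exists_le_coatom _).resolve_left hne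
  have hPM : (P : Subgroup G) ≤ M := Subgroup.le_normalizer.trans hle
  have hq := h M hM
  have hn : (Subgroup.normalizer ((P : Subgroup G) : Set G)).index % p = 1 := by
    have h1 := card_sylow_modEq_one p G
    rw [P.card_eq_index_normalizer] at h1
    exact (show _ % p = 1 % p from h1).trans (Nat.mod_eq_of_lt hp.out.one_lt)
  have hm : (Subgroup.normalizer ((P : Subgroup G) : Set G)).relIndex M % p = 1 := by
    have h1 := card_sylow_modEq_one p M
    rw [(P.subtype hPM).card_eq_index_normalizer] at h1
    have h2 : Subgroup.normalizer (((P.subtype hPM : Sylow p M) : Subgroup M) : Set M) =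
        (Subgroup.normalizer ((P : Subgroup G) : Set G)).subgroupOf M := by
      rw [Sylow.coe_subtype, Subgroup.subgroupOf_normalizer_eq hPM]
    have h3 : (Subgroup.normalizer (((P.subtype hPM : Sylow p M) : Subgroup M) : Set M)).index % p = 1 :=
      (show _ % p = 1 % p from h1).trans (Nat.mod_eq_of_lt hp.out.one_lt)
    rwa [h2] at h3
  rw [← Subgroup.relIndex_mul_index hle, Nat.mul_mod, hm, one_mul, Nat.mod_mod] at hn
  have hdvd : p ∣ M.index - 1 := (Nat.modEq_iff_dvd' hq.one_le).1
    (show 1 ≡ M.index [MOD p] by rw [Nat.ModEq, hn, Nat.mod_eq_of_lt hp.out.one_lt])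
  have h1 := Nat.le_of_dvd (by have := hq.two_le; omega) hdvd
  have h2 : M.index ≤ p := hmax M.index hq M.index_dvd_card
  have h3 : 2 ≤ M.index := hq.two_le
  omega

/-- Solvability of groups all of whose maximal subgroups have prime index. -/
theorem isSolvable_of_prime_index (n : ℕ) :
    ∀ (G : Type w) [Group G] [Finite G], Nat.card G = n →
      (∀ M : Subgroup G, IsCoatom M → M.index.Prime) → Group.IsSolvable G := by
  induction n using Nat.strong_induction_on with
  | _ n ih =>
  intro G _ _ hn h
  by_cases h1 : Nat.card G = 1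
  · haveI := (Nat.card_eq_one_iff_unique.1 h1).1
    infer_instance
  set p := (Nat.card G).primeFactors.max'
    (Nat.nonempty_primeFactors.2 (by have := Nat.card_pos (α := G); omega))
  have hp0 := Finset.max'_mem (Nat.card G).primeFactors
    (Nat.nonempty_primeFactors.2 (by have := Nat.card_pos (α := G); omega))
  rw [Nat.mem_primeFactors] at hp0
  haveI : Fact p.Prime := ⟨hp0.1⟩
  obtain ⟨P⟩ := (inferInstance : Nonempty (Sylow p G))
  haveI hPn : (P : Subgroup G).Normal := sylow_normal_of_max h
    (fun q hq hqd => Finset.le_max' _ _ (Nat.mem_primeFactors.2 ⟨hq, hqd, Nat.card_pos.ne'⟩)) P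
  have hsP : Group.IsSolvable ↥(P : Subgroup G) := by
    haveI := P.2.isNilpotent
    infer_instance
  have hsQ : Group.IsSolvable (G ⧸ (P : Subgroup G)) := by
    refine ih _ ?_ (G ⧸ (P : Subgroup G)) rfl fun M hM => ?_
    · rw [← hn, ← (P : Subgroup G).index_eq_card, ← (P : Subgroup G).card_mul_index]
      refine lt_mul_left (Nat.pos_of_ne_zero Subgroup.index_ne_zero_of_finite) ?_
      rw [Finite.one_lt_card_iff_nontrivial, Subgroup.nontrivial_iff_ne_bot]
      exact P.ne_bot_of_dvd_card hp0.2.1
    · rw [← Subgroup.index_comap_of_surjective M (QuotientGroup.mk'_surjective (P : Subgroup G))]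
      exact h _ (Subgroup.isCoatom_comap_of_surjective (QuotientGroup.mk'_surjective _) hM)
  exact solvable_of_ker_le_range (P : Subgroup G).subtype (QuotientGroup.mk' (P : Subgroup G))
    (by simp)


/-- If every maximal subgroup of a finite group has prime index, then the group is solvable. -/
theorem result {G : Type*} [Group G] [Finite G] (h : ∀ M : Subgroup G, IsCoatom M → M.index.Prime) : Group.IsSolvable G := by
  exact isSolvable_of_prime_index (Nat.card G) G rfl h

end Cfsg.Agent.S0580
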