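import Cfsg.Statements.S0582
import Mathlib
import Cfsg.Agent.Lib.Supersolvable.Props
import Cfsg.Agent.Lib.Supersolvable.MinNormal

set_option linter.style.haveILetI false

set_option autoImplicit false
open Pointwise
open Cfsg

namespace Cfsg.Agent.S0582

open Pointwise in
theorem map_conj_smul {G Q : Type*} [Group G] [Group Q] (f : G →* Q) (g : G) (X : Subgroup G) :
    (MulAut.conj g • X).map f = MulAut.conj (f g) • X.map f := by
  ext y
  constructor
  · rintro ⟨_, ⟨x, hx, rfl⟩, rfl⟩
    exact ⟨f x, Subgroup.mem_map_of_mem f hx, by simp⟩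
  · rintro ⟨_, ⟨x, hx, rfl⟩, rfl⟩
    exact ⟨MulAut.conj g x, ⟨x, hx, rfl⟩, by simp⟩

open Cfsg.Agent.Lib.Supersolvable in
theorem sylow_normal_max (X : Type*) [Group X] [Finite X] (h : Cfsg.IsSupersolvable X) (p : ℕ)
    [Fact p.Prime] (hmax : ∀ q : ℕ, q.Prime → q ∣ Nat.card X → q ≤ p) (P : Sylow p X) :
    (P : Subgroup X).Normal := by
  induction hn : Nat.card X using Nat.strong_induction_on generalizing X with
  | _ n ih =>
    subst hn
    by_cases hdvd : p ∣ Nat.card X
    swap
    · have hP : Nat.card P = 1 := by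
        rw [P.card_eq_multiplicity, Nat.factorization_eq_zero_of_not_dvd hdvd, pow_zero]
      rw [Subgroup.card_eq_one.1 hP]
      infer_instance
    obtain ⟨N, hN, hNc⟩ := exists_normal_card_eq_max X h p Fact.out hdvd hmax
    haveI := hN
    have hNp : IsPGroup p N := IsPGroup.of_card (n := 1) (by rw [hNc, pow_one])
    have hNP : N ≤ (P : Subgroup X) := hNp.le_sylow_of_normal P
    let f := QuotientGroup.mk' N
    have h2 := ih _ (card_quotient_lt (ne_bot_of_prime_card (hNc ▸ (Fact.out : p.Prime)))) (X ⧸ N)
      (quotient h N) (fun q hq hd => hmax q hq (hd.trans (Subgroup.card_quotient_dvd_card N)))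
      (P.mapSurjective (f := f) (QuotientGroup.mk'_surjective N)) rfl
    rw [Sylow.coe_mapSurjective] at h2
    have h3 := h2.comap f
    rwa [Subgroup.comap_map_eq, QuotientGroup.ker_mk', sup_eq_left.2 hNP] at h3

open Cfsg.Agent.Lib.Supersolvable Pointwise in
theorem conj_of_supersolvable {G : Type*} [Group G] [Finite G] (H K : Subgroup G)
    (hH : Cfsg.IsSupersolvable H) (hK : Cfsg.IsSupersolvable K) (hcard : Nat.card H = Nat.card K)
    (hHall : (Nat.card H).Coprime H.index) : ∃ x : G, MulAut.conj x • H = K := by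
  induction hn : Nat.card H using Nat.strong_induction_on generalizing G with
  | _ n ih =>
    subst hn
    by_cases h1 : Nat.card H = 1
    · exact ⟨1, by rw [map_one, one_smul, Subgroup.card_eq_one.1 h1,
        Subgroup.card_eq_one.1 (hcard.symm.trans h1)]⟩
    have hne : (Nat.card H).primeFactors.Nonempty := Nat.nonempty_primeFactors.2 (by
      have := Nat.card_pos (α := H); omega)
    let p := (Nat.card H).primeFactors.max' hne
    have hpm := Finset.max'_mem _ hne
    haveI hpf : Fact p.Prime := ⟨Nat.prime_of_mem_primeFactors hpm⟩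
    have hp : p.Prime := hpf.out
    have hdvd : p ∣ Nat.card H := Nat.dvd_of_mem_primeFactors hpm
    have hmax : ∀ q : ℕ, q.Prime → q ∣ Nat.card H → q ≤ p := fun q hq hqd =>
      Finset.le_max' _ q (Nat.mem_primeFactors.2 ⟨hq, hqd, Nat.card_pos.ne'⟩)
    have hpart : ∀ (X : Subgroup G), Cfsg.IsSupersolvable X → Nat.card X = Nat.card H →
        ∃ P : Sylow p G, (P : Subgroup G) ≤ X ∧ X ≤ Subgroup.normalizer ((P : Subgroup G) : Set G) := by
      intro X hX hXc
      obtain ⟨P⟩ : Nonempty (Sylow p X) := inferInstance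
      have hn := sylow_normal_max X hX p (hXc ▸ hmax) P
      have hidx : X.index = H.index := by
        have e1 := X.card_mul_index
        rw [hXc, ← H.card_mul_index] at e1
        exact Nat.eq_of_mul_eq_mul_left Nat.card_pos e1
      have hnd : ¬ p ∣ ((P : Subgroup X).map X.subtype).index := by
        rw [Subgroup.index_map_subtype, hp.dvd_mul, hidx]
        rintro (h | h)
        · exact P.not_dvd_index h
        · exact (hp.coprime_iff_not_dvd.1 (hHall.coprime_dvd_left hdvd)) h
      refine ⟨(P.isPGroup'.map X.subtype).toSylow hnd, ?_, ?_⟩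
      · rw [IsPGroup.toSylow_coe]; exact Subgroup.map_subtype_le _
      · rw [IsPGroup.toSylow_coe]
        refine (Subgroup.normal_subgroupOf_iff_le_normalizer (Subgroup.map_subtype_le _)).1 ?_
        rwa [Subgroup.subgroupOf, Subgroup.comap_map_eq_self_of_injective X.subtype_injective]
    obtain ⟨P, hPH, hHN⟩ := hpart H hH rfl
    obtain ⟨Q, hQK, hKN⟩ := hpart K hK hcard.symm
    obtain ⟨g, hg⟩ := MulAction.exists_smul_eq G P Q
    let H' : Subgroup G := MulAut.conj g • H
    have hQ : (Q : Subgroup G) = MulAut.conj g • (P : Subgroup G) := by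
      rw [← hg, Sylow.coe_subgroup_smul]
    have hQH' : (Q : Subgroup G) ≤ H' := hQ ▸ Subgroup.pointwise_smul_le_pointwise_smul_iff.2 hPH
    let M : Subgroup G := Subgroup.normalizer ((Q : Subgroup G) : Set G)
    have hH'M : H' ≤ M := by
      show MulAut.conj g • H ≤ Subgroup.normalizer ((Q : Subgroup G) : Set G)
      rw [hQ, ← conj_smul_normalizer]
      exact Subgroup.pointwise_smul_le_pointwise_smul_iff.2 hHN
    let Q' : Subgroup M := (Q : Subgroup G).subgroupOf M
    haveI : Q'.Normal := Subgroup.normal_in_normalizer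
    let f := QuotientGroup.mk' Q'
    have hf : Function.Surjective f := QuotientGroup.mk'_surjective Q'
    let H₁ := (H'.subgroupOf M).map f
    let K₁ := (K.subgroupOf M).map f
    have hH'c : Nat.card H' = Nat.card H :=
      (Nat.card_congr (Subgroup.equivSMul (MulAut.conj g) H).toEquiv).symm
    have hH's : Cfsg.IsSupersolvable (H'.subgroupOf M) :=
      of_mulEquiv (of_mulEquiv hH (Subgroup.equivSMul (MulAut.conj g) H))
        (Subgroup.subgroupOfEquivOfLe hH'M).symm
    have hKs : Cfsg.IsSupersolvable (K.subgroupOf M) :=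
      of_mulEquiv hK (Subgroup.subgroupOfEquivOfLe hKN).symm
    have hcardmap : ∀ (X : Subgroup G), (Q : Subgroup G) ≤ X → X ≤ M →
        Nat.card ((X.subgroupOf M).map f) * Nat.card Q = Nat.card X := by
      intro X hQX hXM
      have hle : Q' ≤ X.subgroupOf M := Subgroup.comap_mono hQX
      have h2 := QuotientGroup.card_preimage_mk Q' (((X.subgroupOf M).map f : Subgroup (M ⧸ Q')) : Set (M ⧸ Q'))
      have h3 : ((X.subgroupOf M).map f).comap f = X.subgroupOf M := by
        rw [Subgroup.comap_map_eq, QuotientGroup.ker_mk', sup_eq_left.2 hle]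
      calc Nat.card ((X.subgroupOf M).map f) * Nat.card Q
          = Nat.card Q' * Nat.card ((X.subgroupOf M).map f) := by
            rw [mul_comm, Nat.card_congr (Subgroup.subgroupOfEquivOfLe Subgroup.le_normalizer).toEquiv]
        _ = Nat.card (((X.subgroupOf M).map f).comap f) := h2.symm
        _ = Nat.card X := by rw [h3, Nat.card_congr (Subgroup.subgroupOfEquivOfLe hXM).toEquiv]
    have hc1 := hcardmap H' hQH' hH'M
    have hc2 := hcardmap K hQK hKN
    rw [hH'c] at hc1
    rw [← hcard] at hc2
    have hQpos : 0 < Nat.card Q := Nat.card_pos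
    have hlt : Nat.card H₁ < Nat.card H := by
      rw [← hc1]
      refine lt_mul_of_one_lt_right Nat.card_pos ?_
      rw [Q.card_eq_multiplicity]
      exact Nat.one_lt_pow (hp.factorization_pos_of_dvd Nat.card_pos.ne'
        (hdvd.trans (Subgroup.card_subgroup_dvd_card H))).ne' hp.one_lt
    have hHall₁ : (Nat.card H₁).Coprime H₁.index := by
      refine (hHall.coprime_dvd_left (hc1 ▸ dvd_mul_right _ _)).coprime_dvd_right ?_
      refine ((H'.subgroupOf M).index_map_dvd hf).trans ?_
      refine (Dvd.intro _ (Subgroup.relIndex_mul_index hH'M)).trans ?_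
      exact (Subgroup.index_map_equiv H (MulAut.conj g)).dvd
    obtain ⟨y, hy⟩ := ih _ hlt H₁ K₁ (of_surjective hH's (f.subgroupMap _) (f.subgroupMap_surjective _))
      (of_surjective hKs (f.subgroupMap _) (f.subgroupMap_surjective _))
      (Nat.eq_of_mul_eq_mul_right hQpos (hc1.trans hc2.symm)) hHall₁ rfl
    obtain ⟨m, rfl⟩ := hf y
    refine ⟨(m : G) * g, ?_⟩
    have hQm : MulAut.conj (m : G) • (Q : Subgroup G) = Q := mem_normalizer_iff_conj_smul.1 m.2
    have h3 : MulAut.conj m • H'.subgroupOf M = K.subgroupOf M := by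
      have e1 : Q' ≤ MulAut.conj m • H'.subgroupOf M := by
        rw [Subgroup.conj_smul_subgroupOf hH'M]
        refine Subgroup.comap_mono ?_
        rw [← hQm]
        exact Subgroup.pointwise_smul_le_pointwise_smul_iff.2 hQH'
      have e2 : Q' ≤ K.subgroupOf M := Subgroup.comap_mono hQK
      have e3 : (MulAut.conj m • H'.subgroupOf M).map f = K₁ := by
        rw [map_conj_smul]; exact hy
      have e4 := congrArg (Subgroup.comap f) e3
      rwa [Subgroup.comap_map_eq, Subgroup.comap_map_eq, QuotientGroup.ker_mk', sup_eq_left.2 e1,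
        sup_eq_left.2 e2] at e4
    rw [Subgroup.conj_smul_subgroupOf hH'M] at h3
    have h4 := congrArg (Subgroup.map M.subtype) h3
    rwa [Subgroup.map_subgroupOf_eq_of_le (Subgroup.conj_smul_le_of_le hH'M m),
      Subgroup.map_subgroupOf_eq_of_le hKN, show MulAut.conj (m : G) • H' = MulAut.conj ((m : G) * g) • H
        from by rw [map_mul, mul_smul]] at h4


/-- Let H and K be supersolvable subgroups of a finite group G of the same order, that order being coprime to their index. Then H and K are conjugate in G. -/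
theorem result {G : Type*} [Group G] [Finite G] (H K : Subgroup G) (hH : Cfsg.IsSupersolvable H) (hK : Cfsg.IsSupersolvable K) (hcard : Nat.card H = Nat.card K) (hHall : (Nat.card H).Coprime H.index) : ∃ x : G, MulAut.conj x • H = K := by
  exact conj_of_supersolvable H K hH hK hcard hHall

end Cfsg.Agent.S0582
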