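import Cfsg.Statements.S0583
import Mathlib
set_option autoImplicit false
open Cfsg

namespace Cfsg.Agent.S0583

/-- In a finite group the Fitting subgroup is contained in the centralizer of each minimal normal subgroup. -/
theorem result {G : Type*} [Group G] [Finite G] (M : Subgroup G) [M.Normal] (hM : M ≠ ⊥) (hmin : ∀ K : Subgroup G, K.Normal → K ≤ M → K = ⊥ ∨ K = M) : Cfsg.fittingSubgroup G ≤ Subgroup.centralizer (M : Set G) := by
  refine sSup_le fun N hN => ?_
  obtain ⟨hNn, hNil⟩ := hN
  rw [← Subgroup.commutator_eq_bot_iff_le_centralizer]
  rcases hmin ⁅N, M⁆ inferInstance (Subgroup.commutator_le_right N M) with h | h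
  · exact h
  · exfalso
    -- then `M` lies in every term of the lower central series of `N`
    have hMN : M ≤ N := h ▸ Subgroup.commutator_le_left N M
    have key : ∀ n, M ≤ N.lowerCentralSeries n := by
      intro n
      induction n with
      | zero => exact hMN
      | succ n ih =>
        conv_lhs => rw [← h, Subgroup.commutator_comm]
        exact Subgroup.commutator_mono ih (le_refl N)
    obtain ⟨n, hn⟩ := N.isNilpotent_iff_lowerCentralSeries.1 hNil
    exact hM (le_bot_iff.1 (hn ▸ key n))

end Cfsg.Agent.S0583
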