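import Cfsg.Statements.S0585
import Mathlib
set_option autoImplicit false
open scoped Pointwise
open Cfsg

namespace Cfsg.Agent.S0585

/-- An abelian normal subgroup avoiding the Frattini subgroup has a complement. -/
theorem exists_complement {G : Type*} [Group G] [Finite G] (hΦ : frattini G = ⊥) (A : Subgroup G)
    [A.Normal] [IsMulCommutative A] : ∃ H : Subgroup G, Subgroup.IsComplement' A H := by
  obtain ⟨H, hH⟩ := (Set.toFinite {H : Subgroup G | A ⊔ H = ⊤}).exists_minimal ⟨⊤, sup_top_eq A⟩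
  have hAH : A ⊔ H = ⊤ := hH.1
  have hmul : ∀ g : G, ∃ a ∈ A, ∃ h ∈ H, a * h = g := fun g => by
    have hg : g ∈ (A : Set G) * (H : Set G) := by
      rw [← Subgroup.normal_mul, hAH]; trivial
    exact hg
  refine ⟨H, ?_⟩
  have hbot : A ⊓ H = ⊥ := by
    have hn : (A ⊓ H).Normal := by
      refine ⟨fun x hx g => ?_⟩
      obtain ⟨a, ha, h, hh, rfl⟩ := hmul g
      have h1 : h * x * h⁻¹ ∈ A ⊓ H :=
        ⟨Subgroup.Normal.conj_mem inferInstance x hx.1 h, H.mul_mem (H.mul_mem hh hx.2) (H.inv_mem hh)⟩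
      have h2 : a * (h * x * h⁻¹) * a⁻¹ = h * x * h⁻¹ := by
        rw [setLike_mul_comm ha h1.1, mul_inv_cancel_right]
      have : a * h * x * (a * h)⁻¹ = a * (h * x * h⁻¹) * a⁻¹ := by group
      rw [this, h2]
      exact h1
    by_contra hne
    have : ¬ A ⊓ H ≤ frattini G := by rwa [hΦ, le_bot_iff]
    rw [frattini, Order.radical, le_iInf₂_iff] at this
    push Not at this
    obtain ⟨M, hM, hnle⟩ := this
    have htop : (A ⊓ H) ⊔ M = ⊤ := hM.2 _ (right_lt_sup.2 hnle)
    have hAHM : A ⊔ (H ⊓ M) = ⊤ := by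
      rw [eq_top_iff]
      intro g _
      obtain ⟨a, ha, h, hh, rfl⟩ := hmul g
      obtain ⟨d, hd, m, hm, rfl⟩ : h ∈ ((A ⊓ H : Subgroup G) : Set G) * (M : Set G) := by
        rw [← Subgroup.normal_mul, htop]; trivial
      have hmH : m ∈ H := by simpa using H.mul_mem (H.inv_mem hd.2) hh
      exact mul_mem (Subgroup.mem_sup_left ha)
        (mul_mem (Subgroup.mem_sup_left hd.1) (Subgroup.mem_sup_right ⟨hmH, hm⟩))
    have hle : H ≤ H ⊓ M := hH.2 hAHM inf_le_left
    exact hnle (inf_le_right.trans (hle.trans inf_le_right))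
  refine Subgroup.isComplement'_of_disjoint_and_mul_eq_univ (disjoint_iff.2 hbot) ?_
  rw [← Subgroup.normal_mul, hAH, Subgroup.coe_top]

/-- If the Frattini subgroup of a finite group G is trivial, then every abelian normal subgroup of G has a complement in G. -/
theorem result {G : Type*} [Group G] [Finite G] (hΦ : frattini G = ⊥) (A : Subgroup G) [A.Normal] [IsMulCommutative A] : ∃ H : Subgroup G, Subgroup.IsComplement' A H := by
  exact exists_complement hΦ A

end Cfsg.Agent.S0585
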