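import Cfsg.Statements.S0586
import Mathlib
import Cfsg.Agent.Lib.Factorized.NilpotentFrattini
import Cfsg.Agent.S0575
import Cfsg.Agent.S0585
set_option autoImplicit false
open Cfsg

namespace Cfsg.Agent.S0586

/-- A nilpotent normal subgroup is abelian when the Frattini subgroup is trivial. -/
theorem abelian_of_normal_nilpotent {G : Type*} [Group G] [Finite G] (hΦ : frattini G = ⊥)
    (N : Subgroup G) [N.Normal] [Group.IsNilpotent N] : IsMulCommutative N := by
  have h := Subgroup.map_mono (f := N.subtype)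
    (Lib.Factorized.commutator_le_frattini_of_nilpotent (G := ↥N))
  have h' := h.trans (Cfsg.Agent.S0575.result N)
  rw [hΦ, le_bot_iff, Subgroup.map_eq_bot_iff_of_injective _ N.subtype_injective,
    commutator_eq_bot_iff] at h'
  exact h'

/-- An abelian normal subgroup lies in the join of the abelian minimal normal subgroups. -/
theorem le_socle {G : Type*} [Group G] [Finite G] (hΦ : frattini G = ⊥) (n : ℕ) (N : Subgroup G)
    (hN : N.Normal) (hA : IsMulCommutative N) (hn : Nat.card N = n) :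
    N ≤ sSup {N : Subgroup G | N.Normal ∧ N ≠ ⊥ ∧ IsMulCommutative N ∧
      ∀ K : Subgroup G, K.Normal → K ≤ N → K = ⊥ ∨ K = N} := by
  induction n using Nat.strong_induction_on generalizing N with
  | _ n ih =>
    by_cases hbot : N = ⊥
    · rw [hbot]; exact bot_le
    obtain ⟨M, hM⟩ := (Set.toFinite {M : Subgroup G | M.Normal ∧ M ≠ ⊥ ∧ M ≤ N}).exists_minimal
      ⟨N, hN, hbot, le_rfl⟩
    obtain ⟨hMn, hMb, hMN⟩ := hM.1
    have hMA : IsMulCommutative M :=
      ⟨⟨fun a b => Subtype.ext (setLike_mul_comm (hMN a.2) (hMN b.2))⟩⟩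
    obtain ⟨H, hH⟩ := Cfsg.Agent.S0585.result hΦ M
    have hNH : (N ⊓ H).Normal := by
      refine ⟨fun x hx g => ?_⟩
      obtain ⟨⟨a, h⟩, hah⟩ := hH.2 g
      subst hah
      have h1 : (h : G) * x * (h : G)⁻¹ ∈ N ⊓ H :=
        ⟨hN.conj_mem x hx.1 h, H.mul_mem (H.mul_mem h.2 hx.2) (H.inv_mem h.2)⟩
      have h2 : (a : G) * ((h : G) * x * (h : G)⁻¹) * (a : G)⁻¹ = (h : G) * x * (h : G)⁻¹ := by
        rw [setLike_mul_comm (hMN a.2) h1.1, mul_inv_cancel_right]
      have : (a : G) * h * x * ((a : G) * h)⁻¹ = (a : G) * ((h : G) * x * (h : G)⁻¹) * (a : G)⁻¹ := by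
        group
      rw [this, h2]
      exact h1
    have hNA : IsMulCommutative ↥(N ⊓ H) :=
      ⟨⟨fun a b => Subtype.ext (setLike_mul_comm a.2.1 b.2.1)⟩⟩
    have hlt : Nat.card ↥(N ⊓ H) < Nat.card N := by
      by_contra hle
      have he : N ⊓ H = N := Subgroup.eq_of_le_of_card_ge inf_le_left (not_lt.1 hle)
      have : M ≤ M ⊓ H := le_inf le_rfl (hMN.trans (he ▸ inf_le_right))
      rw [disjoint_iff.1 hH.disjoint, le_bot_iff] at this
      exact hMb this
    have hdec : N ≤ M ⊔ (N ⊓ H) := by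
      intro x hx
      obtain ⟨⟨a, h⟩, hah⟩ := hH.2 x
      subst hah
      have hh : (h : G) ∈ N := by simpa using N.mul_mem (N.inv_mem (hMN a.2)) hx
      exact mul_mem (Subgroup.mem_sup_left a.2) (Subgroup.mem_sup_right ⟨hh, h.2⟩)
    refine hdec.trans (sup_le (le_sSup ⟨hMn, hMb, hMA, fun K hK hKM => ?_⟩)
      (ih _ (hn ▸ hlt) _ hNH hNA rfl))
    by_cases hKb : K = ⊥
    · exact Or.inl hKb
    · exact Or.inr (le_antisymm hKM (hM.2 ⟨hK, hKb, hKM.trans hMN⟩ hKM))

/-- If the Frattini subgroup of a finite group G is trivial, then the Fitting subgroup of G equals the join of all abelian minimal normal subgroups of G. -/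
theorem result {G : Type*} [Group G] [Finite G] (hΦ : frattini G = ⊥) : Cfsg.fittingSubgroup G = sSup {N : Subgroup G | N.Normal ∧ N ≠ ⊥ ∧ IsMulCommutative N ∧ ∀ K : Subgroup G, K.Normal → K ≤ N → K = ⊥ ∨ K = N} := by
  refine le_antisymm (sSup_le fun N hN => ?_) (sSup_le fun N hN => le_sSup ⟨hN.1, ?_⟩)
  · obtain ⟨hNn, hNil⟩ := hN
    exact le_socle hΦ (Nat.card N) N hNn
      (abelian_of_normal_nilpotent hΦ N) rfl
  · haveI := hN.2.2.1
    open IsMulCommutative in exact CommGroup.isNilpotent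

end Cfsg.Agent.S0586
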