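import Cfsg.Statements.S0587
import Mathlib
import Cfsg.Agent.S0549
import Cfsg.Agent.S0575
import Cfsg.Agent.Lib.PGroup.Frattini
import Cfsg.Agent.Lib.PSolvable.Core
set_option autoImplicit false
open Cfsg

namespace Cfsg.Agent.S0587

/-- Let G be a finite group whose largest normal p-subgroup L is nontrivial, and M a maximal subgroup of G with trivial normal core. Then L is elementary abelian, M is a complement to L, L is a minimal normal subgroup of G, the centralizer of L is L, and for every prime q such that the largest normal q-subgroup of M is nontrivial, the order of L is congruent to 1 modulo q and q ≠ p. -/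
theorem result {G : Type*} [Group G] [Finite G] (p : ℕ) [Fact p.Prime] (hL : Cfsg.pCore p G ≠ ⊥) (M : Subgroup G) (hM : IsCoatom M) (hcore : M.normalCore = ⊥) : Cfsg.IsElementaryAbelian p (Cfsg.pCore p G) ∧ Subgroup.IsComplement' (Cfsg.pCore p G) M ∧ (∀ K : Subgroup G, K.Normal → K ≤ Cfsg.pCore p G → K = ⊥ ∨ K = Cfsg.pCore p G) ∧ Subgroup.centralizer ((Cfsg.pCore p G : Subgroup G) : Set G) = Cfsg.pCore p G ∧ ∀ (q : ℕ) [Fact q.Prime], Cfsg.pCore q ↥M ≠ ⊥ → Nat.card (Cfsg.pCore p G) % q = 1 % q ∧ q ≠ p := by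
  classical
  set L := Cfsg.pCore p G with hLd
  haveI := Lib.PSolvable.pCore_characteristic (p := p) (G := G)
  haveI hLn : L.Normal := inferInstanceAs (Cfsg.pCore p G).Normal
  have hLp : IsPGroup p L := Lib.PSolvable.pCore_isPGroup
  -- `L` is elementary abelian
  have hΦ : frattini ↥L = ⊥ := by
    rw [← Subgroup.map_eq_bot_iff_of_injective _ L.subtype_injective, ← le_bot_iff, ← hcore,
      Subgroup.normal_le_normalCore]
    exact (Cfsg.Agent.S0575.result L).trans (frattini_le_coatom hM)
  have hab : IsMulCommutative L := by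
    rw [← commutator_eq_bot_iff, ← le_bot_iff, ← hΦ]
    exact Lib.PFrattini.commutator_le_frattini hLp
  have hpow : ∀ a ∈ L, a ^ p = 1 := by
    intro a ha
    have h1 := Lib.PFrattini.pow_mem_frattini hLp (⟨a, ha⟩ : L)
    rw [hΦ, Subgroup.mem_bot] at h1
    exact congrArg Subtype.val h1
  have hLc : L ≤ Subgroup.centralizer (L : Set G) := Subgroup.le_centralizer L
  have hCM : Subgroup.centralizer (L : Set G) ⊓ M = ⊥ := Cfsg.Agent.S0549.inf_eq_bot M hM hcore L hL
  have hLM : L ⊓ M = ⊥ := le_bot_iff.1 (hCM ▸ inf_le_inf_right M hLc)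
  have hnle : ¬ L ≤ M := fun h => hL (by rw [← inf_eq_left.2 h, hLM])
  have htop : L ⊔ M = ⊤ := hM.2 _ (right_lt_sup.2 hnle)
  have hmul : ∀ g : G, ∃ l ∈ L, ∃ m ∈ M, l * m = g := fun g =>
    Subgroup.mem_sup_of_normal_left.1 (htop ▸ Subgroup.mem_top g : g ∈ L ⊔ M)
  have hcompl : Subgroup.IsComplement' L M := by
    refine Subgroup.isComplement'_of_disjoint_and_mul_eq_univ (disjoint_iff.2 hLM) ?_
    rw [← Subgroup.normal_mul, htop, Subgroup.coe_top]
  have hC : Subgroup.centralizer (L : Set G) = L := by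
    refine le_antisymm (fun x hx => ?_) hLc
    obtain ⟨l, hl, m, hm, rfl⟩ := hmul x
    have h1 : m ∈ Subgroup.centralizer (L : Set G) ⊓ M :=
      ⟨by simpa using mul_mem (inv_mem (hLc hl)) hx, hm⟩
    rw [hCM, Subgroup.mem_bot] at h1
    simpa [h1] using hl
  refine ⟨⟨hab, hpow⟩, hcompl, ?_, hC, ?_⟩
  · intro K hK hKL
    rcases Cfsg.Agent.S0549.centralizer_minimal M hM hcore L hL with h | ⟨-, h⟩
    · exact absurd (hC ▸ h) hL
    · rw [hC] at h
      exact h K hK hKL
  intro q hq hX
  haveI := hq
  set X := (Cfsg.pCore q ↥M).map M.subtype with hXd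
  have hXM : X ≤ M := Subgroup.map_subtype_le _
  have hXb : X ≠ ⊥ := fun h => hX ((Subgroup.map_eq_bot_iff_of_injective _ M.subtype_injective).1 h)
  have hXq : IsPGroup q X := (Lib.PSolvable.pCore_isPGroup).map M.subtype
  have hXn : M ≤ Subgroup.normalizer (X : Set G) := by
    haveI := Lib.PSolvable.pCore_characteristic (p := q) (G := ↥M)
    have h1 : (X.subgroupOf M).Normal := by
      rw [Subgroup.subgroupOf, Subgroup.comap_map_eq_self_of_injective M.subtype_injective]
      infer_instance
    exact (Subgroup.normal_subgroupOf_iff_le_normalizer hXM).1 h1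
  have hqp : q ≠ p := by
    rintro rfl
    have hn : (L ⊔ X).Normal := by
      rw [← Subgroup.normalizer_eq_top_iff, eq_top_iff, ← htop]
      refine sup_le (le_sup_left.trans Subgroup.le_normalizer) ?_
      refine le_trans (le_inf ?_ hXn) (Subgroup.normalizer_inf_normalizer_le_normalizer_sup L X)
      exact le_top.trans (Subgroup.normalizer_eq_top (H := L)).ge
    have hp' : IsPGroup q ↥(L ⊔ X) := hLp.to_sup_of_normal_left hXq
    have hle : L ⊔ X ≤ L := Lib.PSolvable.le_pCore (hN := hn) hp'
    exact hXb (le_bot_iff.1 (hLM ▸ le_inf (le_sup_right.trans hle) hXM))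
  refine ⟨?_, hqp⟩
  -- `X` acts on `L` without non-trivial fixed points
  set W := L ⊓ Subgroup.centralizer (X : Set G) with hW
  have hWn : W.Normal := by
    rw [← Subgroup.normalizer_eq_top_iff, eq_top_iff, ← htop]
    refine sup_le ?_ (fun m hm => ?_)
    · intro l hl
      rw [Subgroup.mem_normalizer_iff]
      intro w
      constructor
      · intro hw
        rwa [setLike_mul_comm hl hw.1, mul_inv_cancel_right]
      · intro hw
        have h2 : w = l⁻¹ * (l * w * l⁻¹) * l := by group
        rw [h2, setLike_mul_comm (inv_mem hl) hw.1, inv_mul_cancel_right]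
        exact hw
    · have key : ∀ m ∈ M, ∀ w ∈ W, m * w * m⁻¹ ∈ W := by
        intro m hm w hw
        refine ⟨hLn.conj_mem w hw.1 m, ?_⟩
        refine Subgroup.mem_centralizer_iff.2 ?_
        intro x hx
        have hx' : m⁻¹ * x * m ∈ X := ((Subgroup.mem_normalizer_iff''.1 (hXn hm)) x).1 hx
        have := (Subgroup.mem_centralizer_iff.1 hw.2) _ hx'
        calc x * (m * w * m⁻¹) = m * ((m⁻¹ * x * m) * w) * m⁻¹ := by group
          _ = m * (w * (m⁻¹ * x * m)) * m⁻¹ := by rw [this]
          _ = m * w * m⁻¹ * x := by group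
      rw [Subgroup.mem_normalizer_iff]
      refine fun w => ⟨key m hm w, fun hw => ?_⟩
      have := key m⁻¹ (inv_mem hm) _ hw
      simpa [mul_assoc] using this
  have hWb : W = ⊥ := by
    rcases Cfsg.Agent.S0549.centralizer_minimal M hM hcore L hL with h | ⟨-, h⟩
    · exact absurd (hC ▸ h) hL
    · rw [hC] at h
      refine (h W hWn inf_le_left).resolve_right fun he => hXb ?_
      refine le_bot_iff.1 (hCM ▸ le_inf ?_ hXM)
      rw [Subgroup.le_centralizer_iff]
      exact he.ge.trans inf_le_right
  let φ : ↥X →* MulAut ↥L := (MulAut.conjNormal : G →* MulAut ↥L).comp X.subtype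
  letI : MulAction ↥X ↥L := MulAction.compHom _ φ
  have h1 := hXq.card_modEq_card_fixedPoints ↥L
  have h2 : MulAction.fixedPoints ↥X ↥L = {1} := by
    ext l
    rw [MulAction.mem_fixedPoints, Set.mem_singleton_iff]
    constructor
    · intro hl
      have : (l : G) ∈ W := by
        refine ⟨l.2, ?_⟩
        refine Subgroup.mem_centralizer_iff.2 ?_
        intro x hx
        have h3 : ((φ ⟨x, hx⟩ l : ↥L) : G) = (l : G) := congrArg Subtype.val (hl ⟨x, hx⟩)
        simp only [φ, MonoidHom.comp_apply, Subgroup.coe_subtype, MulAut.conjNormal_apply] at h3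
        exact mul_inv_eq_iff_eq_mul.1 h3
      rw [hWb, Subgroup.mem_bot] at this
      exact Subtype.ext this
    · rintro rfl x
      exact map_one (φ x)
  have h3 : Nat.card (MulAction.fixedPoints ↥X ↥L) = 1 := by rw [h2]; simp
  rw [h3] at h1
  exact h1

end Cfsg.Agent.S0587
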