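import Cfsg.Statements.S0588
import Mathlib
set_option autoImplicit false
open Cfsg

namespace Cfsg.Agent.S0588

/-- If a subgroup H of a finite group G contains the centralizer of every non-identity element of H, then the order of H is coprime to its index. -/
theorem result {G : Type*} [Group G] [Finite G] (H : Subgroup G) (h : ∀ x ∈ H, x ≠ 1 → Subgroup.centralizer ({x} : Set G) ≤ H) : (Nat.card H).Coprime H.index := by
  refine Nat.coprime_of_dvd fun p hp hpH hpI => ?_
  haveI := Fact.mk hp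
  obtain ⟨P⟩ := (inferInstance : Nonempty (Sylow p H))
  obtain ⟨S, hS⟩ := (P.2.map H.subtype).exists_le_sylow
  obtain ⟨x, hxP, hx1⟩ := (Subgroup.ne_bot_iff_exists_ne_one).1 (P.ne_bot_of_dvd_card hpH) |>
    fun ⟨⟨x, hx⟩, hx1⟩ => (⟨x, hx, fun h => hx1 (Subtype.ext h)⟩ : ∃ x : H, x ∈ (P : Subgroup H) ∧ x ≠ 1)
  have hxS : (x : G) ∈ (S : Subgroup G) := hS (Subgroup.mem_map_of_mem H.subtype hxP)
  have hSnt : Nontrivial ↥(S : Subgroup G) :=
    ⟨⟨⟨(x : G), hxS⟩, 1, fun h => hx1 (Subtype.ext (by simpa using congrArg Subtype.val h))⟩⟩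
  haveI := S.2.center_nontrivial
  obtain ⟨z, hz1⟩ := exists_ne (1 : Subgroup.center ↥(S : Subgroup G))
  have hzx : Commute ((z : ↥(S : Subgroup G)) : G) (x : G) := by
    have := Subgroup.mem_center_iff.1 z.2 ⟨(x : G), hxS⟩
    exact (congrArg Subtype.val this).symm
  have hzH : ((z : ↥(S : Subgroup G)) : G) ∈ H := by
    refine h x x.2 (fun h' => hx1 (Subtype.ext h')) ?_
    rw [Subgroup.mem_centralizer_singleton_iff]
    exact hzx.symm.eq.symm
  have hSH : (S : Subgroup G) ≤ H := by
    intro s hs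
    refine h _ hzH ?_ ?_
    · intro h'
      exact hz1 (Subtype.ext (Subtype.ext h'))
    · rw [Subgroup.mem_centralizer_singleton_iff]
      exact congrArg Subtype.val (Subgroup.mem_center_iff.1 z.2 ⟨s, hs⟩)
  exact S.not_dvd_index (hpI.trans (Subgroup.index_dvd_of_le hSH))

end Cfsg.Agent.S0588
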