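import Cfsg.Statements.S0589
import Mathlib
import Cfsg.Agent.Lib.Frobenius.Kernel
import Cfsg.Agent.Lib.Frobenius.Meet
set_option autoImplicit false
open Pointwise
open Cfsg

namespace Cfsg.Agent.S0589

/-- Let H be a Frobenius complement in a finite group G and L a subgroup of G whose order divides the order of H. Then L is contained in some conjugate of H. -/
theorem result {G : Type*} [Group G] [Finite G] (H : Subgroup G) (hH : Cfsg.IsFrobeniusComplement H) (L : Subgroup G) (hL : Nat.card L ∣ Nat.card H) : ∃ x : G, L ≤ MulAut.conj x • H := by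
  classical
  by_cases hLb : L = ⊥
  · exact ⟨1, hLb ▸ bot_le⟩
  obtain ⟨N, hNker, hNn, hNH⟩ := Lib.Frobenius.exists_kernel hH
  haveI := hNn
  have hNne : N ≠ ⊥ := by
    intro h
    apply hH.2.1
    rw [h] at hNH
    exact Subgroup.isComplement'_bot_left.1 hNH
  have hcard : Nat.card N = H.index := hNH.index_eq_card.symm
  have hcopNL : (Nat.card N).Coprime (Nat.card L) := by
    rw [hcard]
    exact ((Lib.Frobenius.coprime_card_index hH).coprime_dvd_left hL).symm
  have hdis : N ⊓ L = ⊥ := Subgroup.inf_eq_bot_of_coprime hcopNL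
  have hNHb : N ⊓ H = ⊥ := disjoint_iff.1 hNH.disjoint
  set G1 := N ⊔ L
  have hNle : N ≤ G1 := le_sup_left
  have hLle : L ≤ G1 := le_sup_right
  -- each nontrivial element of `L` acts without fixed points on `N`
  have hfix : ∀ x ∈ L, x ≠ 1 → N ⊓ Subgroup.centralizer {x} = ⊥ := by
    intro x hx hx1
    have hnot : x ∉ Cfsg.frobeniusKernel H := by
      intro hk
      have hxN : x ∈ N ⊓ L := ⟨(show x ∈ (N : Set G) by rw [hNker]; exact hk), hx⟩
      rw [hdis, Subgroup.mem_bot] at hxN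
      exact hx1 hxN
    rw [Lib.Frobenius.mem_frobeniusKernel_iff] at hnot
    push Not at hnot
    obtain ⟨g, hg⟩ := hnot.2
    refine le_bot_iff.1 fun z hz => ?_
    have h1 : g⁻¹ * z * g ∈ N ⊓ Subgroup.centralizer {g⁻¹ * x * g} := by
      refine ⟨by simpa using hNn.conj_mem z hz.1 g⁻¹, Subgroup.mem_centralizer_singleton_iff.2 ?_⟩
      have h2 := Subgroup.mem_centralizer_singleton_iff.1 hz.2
      calc g⁻¹ * z * g * (g⁻¹ * x * g) = g⁻¹ * (z * x) * g := by group
        _ = g⁻¹ * (x * z) * g := by rw [h2]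
        _ = g⁻¹ * x * g * (g⁻¹ * z * g) := by group
    rw [Lib.Frobenius.fpf_of_isFrobeniusComplement hNHb hH _ hg
      (fun h => hx1 (conj_eq_one_iff.1 (show g⁻¹ * x * g⁻¹⁻¹ = 1 by simpa using h))),
      Subgroup.mem_bot] at h1
    rw [Subgroup.mem_bot]
    exact conj_eq_one_iff.1 (show g⁻¹ * z * g⁻¹⁻¹ = 1 by simpa using h1)
  -- both `L` and `H ⊓ G1` are Frobenius complements of `G1`
  set N1 := N.subgroupOf G1
  set L1 := L.subgroupOf G1
  set H1 := H.subgroupOf G1
  have hN1 : N1 ≠ ⊥ := by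
    intro h
    exact hNne (le_bot_iff.1 (disjoint_iff.1 (Subgroup.subgroupOf_eq_bot.1 h) ▸ le_inf le_rfl hNle))
  have hL1 : L1 ≠ ⊥ := by
    intro h
    exact hLb (le_bot_iff.1 (disjoint_iff.1 (Subgroup.subgroupOf_eq_bot.1 h) ▸ le_inf le_rfl hLle))
  have hcL : Subgroup.IsComplement' N1 L1 := by
    refine Subgroup.isComplement'_of_disjoint_and_mul_eq_univ ?_ ?_
    · rw [Subgroup.disjoint_def]
      intro a ha hb
      have : (a : G) ∈ N ⊓ L := ⟨ha, hb⟩
      rw [hdis, Subgroup.mem_bot] at this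
      exact Subtype.ext this
    · refine Set.eq_univ_of_forall fun a => ?_
      obtain ⟨n, hn, l, hl, hnl⟩ := Subgroup.mem_sup_of_normal_left.1 a.2
      exact ⟨⟨n, hNle hn⟩, hn, ⟨l, hLle hl⟩, hl, Subtype.ext hnl⟩
  have hcH : Subgroup.IsComplement' N1 H1 := by
    refine Subgroup.isComplement'_of_disjoint_and_mul_eq_univ ?_ ?_
    · rw [Subgroup.disjoint_def]
      intro a ha hb
      have : (a : G) ∈ N ⊓ H := ⟨ha, hb⟩
      rw [hNHb, Subgroup.mem_bot] at this
      exact Subtype.ext this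
    · refine Set.eq_univ_of_forall fun a => ?_
      obtain ⟨⟨n, h⟩, hnh⟩ := hNH.2 (a : G)
      have hh : (h : G) ∈ G1 := by
        have hh' : (h : G) = (n : G)⁻¹ * (a : G) := by rw [← hnh, inv_mul_cancel_left]
        rw [hh']
        exact mul_mem (inv_mem (hNle n.2)) a.2
      exact ⟨⟨n, hNle n.2⟩, n.2, ⟨h, hh⟩, h.2, Subtype.ext hnh⟩
  have hFL : Cfsg.IsFrobeniusComplement L1 := by
    refine Lib.Frobenius.isFrobeniusComplement_of_fpf hcL hN1 hL1 fun x hx hx1 => ?_
    refine le_bot_iff.1 fun z hz => ?_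
    have h1 : (z : G) ∈ N ⊓ Subgroup.centralizer {(x : G)} :=
      ⟨hz.1, Subgroup.mem_centralizer_singleton_iff.2
        (congrArg Subtype.val (Subgroup.mem_centralizer_singleton_iff.1 hz.2))⟩
    rw [hfix x hx (fun h => hx1 (Subtype.ext h)), Subgroup.mem_bot] at h1
    exact Subgroup.mem_bot.2 (Subtype.ext h1)
  have hceq : Nat.card L1 = Nat.card H1 :=
    hcL.symm.card_mul_card |> fun h1 => hcH.symm.card_mul_card |> fun h2 =>
      Nat.eq_of_mul_eq_mul_right Nat.card_pos (h1.trans h2.symm)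
  have hFH : Cfsg.IsFrobeniusComplement H1 := by
    refine Lib.Frobenius.isFrobeniusComplement_of_fpf hcH hN1 ?_ fun x hx hx1 => ?_
    · intro h
      rw [h, Subgroup.card_bot, Subgroup.card_eq_one] at hceq
      exact hL1 hceq
    refine le_bot_iff.1 fun z hz => ?_
    have h1 : (z : G) ∈ N ⊓ Subgroup.centralizer {(x : G)} :=
      ⟨hz.1, Subgroup.mem_centralizer_singleton_iff.2
        (congrArg Subtype.val (Subgroup.mem_centralizer_singleton_iff.1 hz.2))⟩
    rw [Lib.Frobenius.fpf_of_isFrobeniusComplement hNHb hH (x : G) (Subgroup.mem_subgroupOf.1 hx)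
      (fun h => hx1 (Subtype.ext h)), Subgroup.mem_bot] at h1
    exact Subgroup.mem_bot.2 (Subtype.ext h1)
  obtain ⟨c, hc⟩ := Lib.Frobenius.exists_conj_le hFH hFL hceq.le
  refine ⟨(c : G)⁻¹, fun l hl => ?_⟩
  rw [Lib.Frobenius.mem_conj_smul_iff, inv_inv]
  exact hc (Subgroup.smul_mem_pointwise_smul (⟨l, hLle hl⟩ : ↥G1) (MulAut.conj c) L1 hl)

end Cfsg.Agent.S0589
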