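import Cfsg.Statements.S0590
import Mathlib
import Cfsg.Agent.Lib.PGroup.ElemAbelian
import Cfsg.Agent.Lib.PGroup.Omega
import Cfsg.Agent.Lib.PGroup.Thompson
import Cfsg.Agent.Lib.PGroup.Quadratic
import Cfsg.Agent.Lib.PGroup.Replacement

set_option autoImplicit false
open Cfsg

namespace Cfsg.Agent.S0590

open scoped commutatorElement in

/-- Quadratic action on an elementary abelian p-group forces the acting group modulo the kernel of the action to be elementary abelian. -/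
theorem result {G : Type*} [Group G] [Finite G] {p : ℕ} [Fact p.Prime] (V H : Subgroup G) (hV : Cfsg.IsElementaryAbelian p V) (hHV : H ≤ Subgroup.normalizer (V : Set G)) (hq : ⁅⁅V, H⁆, H⁆ = ⊥) : ⁅H, H⁆ ≤ Subgroup.centralizer (V : Set G) ∧ ∀ a ∈ H, a ^ p ∈ Subgroup.centralizer (V : Set G) := by
  have hvc : ∀ v ∈ V, ∀ a ∈ H, ∀ b ∈ H, b * ⁅v, a⁆ = ⁅v, a⁆ * b := fun v hv a ha b hb =>
    Lib.Quadratic.commute_of_commutator_commutator_eq_bot hq hv ha hb
  refine ⟨?_, fun a ha => Lib.Quadratic.pow_mem_centralizer hV (hHV ha) fun v hv => hvc v hv a ha a ha⟩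
  have expand : ∀ v ∈ V, ∀ a ∈ H, ∀ b ∈ H,
      Bracket.bracket v (a * b) = Bracket.bracket v a * Bracket.bracket v b := by
    intro v hv a ha b hb
    have h1 : a * ⁅v, b⁆ * a⁻¹ = ⁅v, b⁆ := by rw [hvc v hv b hb a ha, mul_inv_cancel_right]
    calc ⁅v, a * b⁆ = ⁅v, a⁆ * (a * ⁅v, b⁆ * a⁻¹) := by simp [commutatorElement_def, mul_assoc]
      _ = ⁅v, a⁆ * ⁅v, b⁆ := by rw [h1]
  rw [Subgroup.commutator_le]
  intro a ha b hb
  rw [Subgroup.mem_centralizer_iff]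
  intro z hz
  have hn : (b * a)⁻¹ ∈ Subgroup.normalizer (V : Set G) := inv_mem (mul_mem (hHV hb) (hHV ha))
  obtain ⟨w, hwdef⟩ : ∃ w, w = (b * a)⁻¹ * z * ((b * a)⁻¹)⁻¹ := ⟨_, rfl⟩
  have hw : w ∈ V := hwdef ▸ Lib.Quadratic.conj_mem hn hz
  have hwi : w⁻¹ ∈ V := inv_mem hw
  have h : ⁅w⁻¹, a * b⁆ = ⁅w⁻¹, b * a⁆ := by
    rw [expand _ hwi a ha b hb, expand _ hwi b hb a ha]
    exact Lib.ElemAbelian.comm hV (Lib.Quadratic.commutatorElement_mem (hHV ha) hwi)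
      (Lib.Quadratic.commutatorElement_mem (hHV hb) hwi)
  have h' : a * b * w * (a * b)⁻¹ = z := by
    rw [commutatorElement_def, commutatorElement_def] at h
    simp only [mul_assoc, mul_left_cancel_iff, inv_inv] at h
    rw [hwdef] at h ⊢
    simpa [mul_assoc] using h
  calc z * ⁅a, b⁆ = a * b * w * (a * b)⁻¹ * ⁅a, b⁆ := by rw [h']
    _ = ⁅a, b⁆ * z := by rw [hwdef]; simp [commutatorElement_def, mul_assoc]

end Cfsg.Agent.S0590
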