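import Cfsg.Statements.S0591
import Mathlib
import Cfsg.Agent.Lib.PGroup.ElemAbelian
import Cfsg.Agent.Lib.PGroup.Omega
import Cfsg.Agent.Lib.PGroup.Thompson
import Cfsg.Agent.Lib.PGroup.Quadratic
import Cfsg.Agent.Lib.PGroup.Replacement

set_option autoImplicit false
open Cfsg

namespace Cfsg.Agent.S0591

open scoped commutatorElement in

/-- For a quadratically acting element a on an elementary abelian p-group V, the fixed points C_V(a) have order at least the square root of the order of V. -/
theorem result {G : Type*} [Group G] [Finite G] {p : ℕ} [Fact p.Prime] (V : Subgroup G) (hV : Cfsg.IsElementaryAbelian p V) (a : G) (ha : a ∈ Subgroup.normalizer (V : Set G)) (hq : ⁅⁅V, Subgroup.zpowers a⁆, Subgroup.zpowers a⁆ = ⊥) : Nat.card V ≤ Nat.card ↥(V ⊓ Subgroup.centralizer (Subgroup.zpowers a : Set G)) ^ 2 := by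
  have hVc : ∀ x ∈ V, ∀ y ∈ V, x * y = y * x := fun x hx y hy => Lib.ElemAbelian.comm hV hx hy
  let f := Lib.Quadratic.commHom V hVc a ha
  have hker : f.ker.map V.subtype = V ⊓ Subgroup.centralizer (Subgroup.zpowers a : Set G) := by
    ext x
    rw [Subgroup.mem_map, Subgroup.mem_inf, Subgroup.zpowers_eq_closure,
      Subgroup.centralizer_closure, Subgroup.mem_centralizer_singleton_iff]
    constructor
    · rintro ⟨v, hv, rfl⟩
      exact ⟨v.2, commutatorElement_eq_one_iff_mul_comm.1 hv⟩
    · rintro ⟨hx, hc⟩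
      exact ⟨⟨x, hx⟩, commutatorElement_eq_one_iff_mul_comm.2 hc, rfl⟩
  have hrange : f.range ≤ V ⊓ Subgroup.centralizer (Subgroup.zpowers a : Set G) := by
    rintro _ ⟨v, rfl⟩
    refine Subgroup.mem_inf.2 ⟨Lib.Quadratic.commutatorElement_mem ha v.2, ?_⟩
    exact Subgroup.commutator_eq_bot_iff_le_centralizer.1 hq
      (Subgroup.commutator_mem_commutator v.2 (Subgroup.mem_zpowers a))
  calc Nat.card V = Nat.card f.ker * f.ker.index := (Subgroup.card_mul_index _).symm
    _ = Nat.card (f.ker.map V.subtype) * Nat.card f.range := by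
        rw [Subgroup.card_map_of_injective (Subgroup.subtype_injective V), Subgroup.index_ker]
    _ ≤ Nat.card ↥(V ⊓ Subgroup.centralizer (Subgroup.zpowers a : Set G)) *
          Nat.card ↥(V ⊓ Subgroup.centralizer (Subgroup.zpowers a : Set G)) := by
        rw [hker]; exact Nat.mul_le_mul_left _ (Subgroup.card_le_of_le hrange)
    _ = _ := (sq _).symm

end Cfsg.Agent.S0591
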