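import Cfsg.Statements.S0592
import Mathlib
import Cfsg.Agent.Lib.PGroup.TwoQuadratic

set_option autoImplicit false
open Cfsg

namespace Cfsg.Agent.S0592

/-- Two quadratically acting generators of a linear group that is not a p-group, with the p'-part of the order of their product dividing q - 1, give a homomorphism onto a subgroup of SL(2, q) that is not a p-group. -/
theorem result {K : Type*} [Field K] [Fintype K] {p : ℕ} [Fact p.Prime] [CharP K p] {W : Type*} [AddCommGroup W] [Module K W] [FiniteDimensional K W] [Finite W] [Nontrivial W] (H : Subgroup (W ≃ₗ[K] W)) (a b : W ≃ₗ[K] W) (hH : H = Subgroup.closure {a, b}) (ha : ∀ w : W, a (a w - w) = a w - w) (hb : ∀ w : W, b (b w - w) = b w - w) (hnp : ¬ IsPGroup p H) (hk : ∃ e k : ℕ, orderOf (a * b) = p ^ e * k ∧ k ∣ Fintype.card K - 1) : ∃ φ : H →* Matrix.SpecialLinearGroup (Fin 2) K, ¬ IsPGroup p φ.range := by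
  classical
  rw [IsPGroup] at hnp
  push Not at hnp
  obtain ⟨g, hg⟩ := hnp
  obtain ⟨e, k, hord, hk⟩ := hk
  have haH : a ∈ H := hH ▸ Subgroup.subset_closure (Set.mem_insert a _)
  have hbH : b ∈ H := hH ▸ Subgroup.subset_closure (Set.mem_insert_of_mem a rfl)
  have hgen : Subgroup.closure ({⟨a, haH⟩, ⟨b, hbH⟩} : Set H) = ⊤ := by
    apply Subgroup.map_injective (Subgroup.subtype_injective H)
    rw [MonoidHom.map_closure, ← MonoidHom.range_eq_map, Subgroup.range_subtype, Set.image_pair]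
    exact hH.symm
  let ρ : H →* Module.End K W :=
    { toFun := fun h => ((h : W ≃ₗ[K] W) : W →ₗ[K] W)
      map_one' := rfl
      map_mul' := fun _ _ => rfl }
  have hu : ∀ c : H, (∀ w : W, (c : W ≃ₗ[K] W) ((c : W ≃ₗ[K] W) w - w) = (c : W ≃ₗ[K] W) w - w) →
      Lib.TwoQuadratic.IsUnipotentTwo (ρ c) := fun c hc => LinearMap.ext fun w => by
    change (c : W ≃ₗ[K] W) ((c : W ≃ₗ[K] W) w - w) - ((c : W ≃ₗ[K] W) w - w) = 0
    rw [hc w, sub_self]
  have : Finite (W ≃ₗ[K] W) := Finite.of_injective _ DFunLike.coe_injective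
  have hk0 : 0 < p ^ e * k := hord ▸ orderOf_pos (a * b)
  obtain ⟨φ, hφ, -, -⟩ := Lib.TwoQuadratic.exists_sl2_rep (p := p) (g := g) (Fact.out : p.Prime)
    hgen hk0 (Lib.TwoQuadratic.splits_X_pow_sub_one (Fact.out : p.Prime) hk) ρ
    (hu _ ha) (hu _ hb)
    (by
      rw [← map_pow, show ((⟨a, haH⟩ : H) * ⟨b, hbH⟩) ^ (p ^ e * k) = 1 from Subtype.ext (by
        simpa [← hord] using pow_orderOf_eq_one (a * b)), map_one])
    (fun i hi => hg i (Subtype.ext (LinearEquiv.toLinearMap_injective hi)))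
  refine ⟨φ, fun hP => ?_⟩
  obtain ⟨i, hi⟩ := hP ⟨φ g, g, rfl⟩
  exact hφ i (by rw [map_pow]; exact congrArg Subtype.val hi)

end Cfsg.Agent.S0592
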