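import Cfsg.Statements.S0593
import Mathlib
import Cfsg.Agent.Lib.PGroup.AbelianSylowTwo

set_option autoImplicit false
open Cfsg

namespace Cfsg.Agent.S0593

open Cfsg.Agent.Lib
open scoped commutatorElement IsMulCommutative


/-- For odd p, a faithful group on an elementary abelian p-group generated by two quadratically acting elements is a p-group or has non-abelian Sylow 2-subgroups. -/
theorem result {G : Type*} [Group G] [Finite G] {p : ℕ} [Fact p.Prime] (hp : p ≠ 2) (V H : Subgroup G) (hV : Cfsg.IsElementaryAbelian p V) (hHV : H ≤ Subgroup.normalizer (V : Set G)) (hf : H ⊓ Subgroup.centralizer (V : Set G) = ⊥) (a b : G) (hab : H = Subgroup.closure {a, b}) (ha : ⁅⁅V, Subgroup.zpowers a⁆, Subgroup.zpowers a⁆ = ⊥) (hb : ⁅⁅V, Subgroup.zpowers b⁆, Subgroup.zpowers b⁆ = ⊥) (hnp : ¬ IsPGroup p H) (T : Sylow 2 H) : ¬ IsMulCommutative T := by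

  intro hT
  have hex : ∃ g : H, ∀ i, g ^ p ^ i ≠ 1 := by
    by_contra hcon
    simp only [not_exists, not_forall, not_not] at hcon
    exact hnp hcon
  obtain ⟨g, hg⟩ := hex
  obtain ⟨K, i1, i2, i3, φ, a', b', -, -, hgen, hφg, hφa, hφb⟩ :=
    QuadraticPair.exists_sl2_rep hV hHV hf hab ha hb hg
  obtain ⟨i, hi⟩ := SL2OddStable.isPGroup_of_isMulCommutative_sylow_two hp hφa hφb
    (L := φ.range) (by rw [MonoidHom.range_eq_map, ← hgen, MonoidHom.map_closure, Set.image_pair])
    (AbelianSylowTwo.abelianTwo_of_surjective φ.rangeRestrict φ.rangeRestrict_surjective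
      (AbelianSylowTwo.abelianTwo_of_one T hT)) ⟨φ g, g, rfl⟩
  exact hφg i (by rw [map_pow]; exact congrArg Subtype.val hi)

end Cfsg.Agent.S0593
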