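import Cfsg.Statements.S0594
import Mathlib
import Cfsg.Agent.Lib.PGroup.QuadraticPair
import Cfsg.Agent.Lib.PGroup.SL2Solvable
import Cfsg.Agent.Lib.PGroup.SectionLift

set_option autoImplicit false
open Cfsg

namespace Cfsg.Agent.S0594

open Cfsg.Agent.Lib
open scoped commutatorElement


/-- For odd p, two quadratic generators of a faithful group that is not a p-group, one of which acts nontrivially on a normal subgroup of order prime to p, force p = 3 and a section isomorphic to SL(2,3). -/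
theorem result {G : Type*} [Group G] [Finite G] {p : ℕ} [Fact p.Prime] (hp : p ≠ 2) (V H : Subgroup G) (hV : Cfsg.IsElementaryAbelian p V) (hHV : H ≤ Subgroup.normalizer (V : Set G)) (hf : H ⊓ Subgroup.centralizer (V : Set G) = ⊥) (a b : G) (hab : H = Subgroup.closure {a, b}) (ha : ⁅⁅V, Subgroup.zpowers a⁆, Subgroup.zpowers a⁆ = ⊥) (hb : ⁅⁅V, Subgroup.zpowers b⁆, Subgroup.zpowers b⁆ = ⊥) (hnp : ¬ IsPGroup p H) (Q : Subgroup G) (hQH : Q ≤ H) (hQn : H ≤ Subgroup.normalizer (Q : Set G)) (hQ : (Nat.card Q).Coprime p) (hQa : ⁅Q, Subgroup.zpowers a⁆ ≠ ⊥) : p = 3 ∧ ∃ (K L : Subgroup G) (hL : (L.subgroupOf K).Normal), K ≤ H ∧ Nonempty ((K ⧸ L.subgroupOf K) ≃* Matrix.SpecialLinearGroup (Fin 2) (ZMod 3)) := by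

  have haH : a ∈ H := hab ▸ Subgroup.subset_closure (Set.mem_insert a _)
  have hex : ∃ q ∈ Q, ⁅q, a⁆ ≠ 1 := by
    by_contra hcon
    simp only [not_exists, not_and, not_not] at hcon
    refine hQa (Subgroup.commutator_eq_bot_iff_le_centralizer.2 fun q hq => ?_)
    rw [Subgroup.mem_centralizer_iff]
    intro z hz
    obtain ⟨j, rfl⟩ := hz
    exact ((show Commute q a from commutatorElement_eq_one_iff_mul_comm.1 (hcon q hq)).zpow_right
      j).symm.eq
  obtain ⟨q, hq, hqa⟩ := hex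
  have hgQ : ⁅q, a⁆ ∈ Q := by
    rw [show ⁅q, a⁆ = q * (a * q⁻¹ * a⁻¹) by simp [commutatorElement_def, mul_assoc]]
    exact mul_mem hq ((Subgroup.mem_normalizer_iff.1 (hQn haH) q⁻¹).1 (inv_mem hq))
  set g : H := ⟨⁅q, a⁆, hQH hgQ⟩ with hg
  have hgp : ∀ i, g ^ p ^ i ≠ 1 := by
    intro i hi
    have h1 : ⁅q, a⁆ ^ p ^ i = 1 := congrArg Subtype.val hi
    have h2 : orderOf ⁅q, a⁆ ∣ Nat.card Q := by
      have := orderOf_dvd_natCard (⟨⁅q, a⁆, hgQ⟩ : Q)
      rwa [Subgroup.orderOf_mk] at this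
    exact hqa (orderOf_eq_one_iff.1 (Nat.eq_one_of_dvd_coprimes (hQ.pow_right i) h2
      (orderOf_dvd_of_pow_eq_one h1)))
  obtain ⟨K, i1, i2, i3, φ, a', b', ha', hb', hgen, hφg, hφa, hφb⟩ :=
    QuadraticPair.exists_sl2_rep hV hHV hf hab ha hb hgp
  set M := (Q.subgroupOf H).map φ with hM
  have hMc : (Nat.card M).Coprime p := by
    refine hQ.coprime_dvd_left ?_
    rw [← Nat.card_congr (Subgroup.subgroupOfEquivOfLe hQH).toEquiv]
    exact Subgroup.card_map_dvd _ φ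
  have hQn' : (Q.subgroupOf H).Normal := (Subgroup.normal_subgroupOf_iff_le_normalizer hQH).2 hQn
  have haM : φ a' ∈ Subgroup.normalizer (M : Set (Matrix.SpecialLinearGroup (Fin 2) K)) :=
    Subgroup.le_normalizer_map φ (Subgroup.mem_map_of_mem φ
      ((Subgroup.normalizer_eq_top (H := Q.subgroupOf H)).ge (Subgroup.mem_top a')))
  have hnc : φ a' ∉ Subgroup.centralizer (M : Set (Matrix.SpecialLinearGroup (Fin 2) K)) := by
    intro h
    set q' : H := ⟨q, hQH hq⟩
    have hqM : φ q' ∈ M := Subgroup.mem_map_of_mem φ hq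
    have hc : Commute (φ q') (φ a') := Subgroup.mem_centralizer_iff.1 h _ hqM
    apply hφg 0
    have hgq : g = ⁅q', a'⁆ := Subtype.ext (by
      change ⁅q, a⁆ = ((⁅q', a'⁆ : H) : G)
      simp [commutatorElement_def, ha', q'])
    rw [pow_zero, pow_one, hgq, map_commutatorElement]
    exact commutatorElement_eq_one_iff_mul_comm.2 hc.eq
  obtain ⟨h3, ψ, hψ, hle⟩ := SL2Solvable.sl2Three_of_coprime hp hφa hMc haM hnc
  refine ⟨h3, ?_⟩
  obtain ⟨K', L, hn, hKH, he⟩ := SectionLift.exists_section H φ ψ hψ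
    (hle.trans (sup_le ((Subgroup.closure_le _).2 (Set.singleton_subset_iff.2 ⟨a', rfl⟩))
      (Subgroup.map_le_range φ _)))
  exact ⟨K', L, hn, hKH, he⟩

end Cfsg.Agent.S0594
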