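import Cfsg.Statements.S0596
import Mathlib
import Cfsg.Agent.Lib.PGroup.QuadraticStable

set_option autoImplicit false
open Cfsg

namespace Cfsg.Agent.S0596

open Cfsg.Agent.Lib
open scoped commutatorElement IsMulCommutative


/-- For odd p, a p-separable group with a faithful action on an elementary abelian p-group that is not p-stable has p = 3 and involves SL(2,3). -/
theorem result {G : Type*} [Group G] [Finite G] {p : ℕ} [Fact p.Prime] (hp : p ≠ 2) (V H : Subgroup G) (hV : Cfsg.IsElementaryAbelian p V) (hHV : H ≤ Subgroup.normalizer (V : Set G)) (hf : H ⊓ Subgroup.centralizer (V : Set G) = ⊥) (hsep : Cfsg.IsPSolvable p H) (a : G) (haH : a ∈ H) (hq : ⁅⁅V, Subgroup.zpowers a⁆, Subgroup.zpowers a⁆ = ⊥) (hna : a ∉ (Cfsg.pCore p H).map H.subtype) : p = 3 ∧ ∃ (K L : Subgroup G) (hL : (L.subgroupOf K).Normal), K ≤ H ∧ Nonempty ((K ⧸ L.subgroupOf K) ≃* Matrix.SpecialLinearGroup (Fin 2) (ZMod 3)) := by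

  have : IsMulCommutative V := hV.1
  have hM : ∀ v : Additive V, p • v = 0 := fun v => by
    apply Additive.toMul.injective
    apply Subtype.ext
    rw [toMul_nsmul, SubgroupClass.coe_pow, toMul_zero, OneMemClass.coe_one]
    exact hV.2 _ (Additive.toMul v : V).2
  have hinj : ∀ h : H, (∀ v, QuadraticPair.actAdd V H hHV h v = v) → h = 1 := by
    intro h hh
    have hc : (h : G) ∈ H ⊓ Subgroup.centralizer (V : Set G) := by
      refine Subgroup.mem_inf.2 ⟨h.2, Subgroup.mem_centralizer_iff.2 fun v hv => ?_⟩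
      have h4 := congrArg (fun t => ((Additive.toMul t : V) : G)) (hh (Additive.ofMul ⟨v, hv⟩))
      simp only [QuadraticPair.actAdd_apply, toMul_ofMul] at h4
      exact (mul_inv_eq_iff_eq_mul.1 h4).symm
    rw [hf, Subgroup.mem_bot] at hc
    exact Subtype.ext hc
  obtain ⟨h3, A, B, hn, ⟨e⟩⟩ := QuadraticStable.sl2Three_of_not_mem_pCore hp hsep hM _ hinj
    (QuadraticPair.isUnipotentTwo_actAdd V H hHV ⟨a, haH⟩ hq)
    (fun h => hna ⟨⟨a, haH⟩, h, rfl⟩)
  obtain ⟨K, L, hn', hK, he⟩ := SectionLift.map_section A B e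
  exact ⟨h3, K, L, hn', hK, he⟩

end Cfsg.Agent.S0596
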