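import Cfsg.Statements.S0597
import Mathlib
import Cfsg.Agent.Lib.PGroup.ElemAbelian
import Cfsg.Agent.Lib.Components.Subnormal
import Cfsg.Agent.Lib.CharTwo.Basic

set_option autoImplicit false
open Cfsg

namespace Cfsg.Agent.S0597

open Cfsg.Agent.Lib
open scoped commutatorElement

theorem le_normalizer_commutator_left {X : Type*} [Group X] (A B : Subgroup X) :
    A ≤ Subgroup.normalizer ((⁅A, B⁆ : Subgroup X) : Set X) := by
  have key : ∀ g ∈ A, ∀ x ∈ ⁅A, B⁆, g * x * g⁻¹ ∈ ⁅A, B⁆ := by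
    intro g hg x hx
    have h1 : ⁅A, B⁆ ≤ (⁅A, B⁆).comap (MulAut.conj g).toMonoidHom := by
      rw [Subgroup.commutator_le]
      intro a ha b hb
      rw [Subgroup.mem_comap, MulEquiv.coe_toMonoidHom, MulAut.conj_apply,
        show g * ⁅a, b⁆ * g⁻¹ = ⁅g * a, b⁆ * ⁅g, b⁆⁻¹ by
          simp [commutatorElement_def, mul_assoc]]
      exact mul_mem (Subgroup.commutator_mem_commutator (mul_mem hg ha) hb)
        (inv_mem (Subgroup.commutator_mem_commutator hg hb))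
    simpa using h1 hx
  intro g hg
  refine Subgroup.mem_normalizer_iff.2 fun x => ⟨key g hg x, fun hx => ?_⟩
  simpa [mul_assoc] using key g⁻¹ (inv_mem hg) _ hx

theorem isSubnormal_commutator {X : Type*} [Group X] [Finite X] {A B : Subgroup X}
    (hA : A.IsSubnormal) (hB : B.IsSubnormal) : (⁅A, B⁆ : Subgroup X).IsSubnormal := by
  have hle : ⁅A, B⁆ ≤ A ⊔ B := Subgroup.commutator_le.2 fun a ha b hb =>
    mul_mem (mul_mem (mul_mem (Subgroup.mem_sup_left ha) (Subgroup.mem_sup_right hb))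
      (inv_mem (Subgroup.mem_sup_left ha))) (inv_mem (Subgroup.mem_sup_right hb))
  refine Subgroup.IsSubnormal.trans hle (Subgroup.Normal.isSubnormal
    ((Subgroup.normal_subgroupOf_iff_le_normalizer hle).2 ?_)) (Components.subnormal_sup hA hB)
  refine sup_le (le_normalizer_commutator_left A B) ?_
  rw [Subgroup.commutator_comm]
  exact le_normalizer_commutator_left B A


/-- If two subnormal subgroups of a faithful group on an elementary abelian p-group satisfy [V, E₁, E₂] = 1, then their commutator lies in the largest normal p-subgroup. -/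
theorem result {G : Type*} [Group G] [Finite G] {p : ℕ} [Fact p.Prime] (V H : Subgroup G) (hV : Cfsg.IsElementaryAbelian p V) (hHV : H ≤ Subgroup.normalizer (V : Set G)) (hf : H ⊓ Subgroup.centralizer (V : Set G) = ⊥) (E₁ E₂ : Subgroup G) (h₁ : E₁ ≤ H) (h₂ : E₂ ≤ H) (hs₁ : (E₁.subgroupOf H).IsSubnormal) (hs₂ : (E₂.subgroupOf H).IsSubnormal) (hc : ⁅⁅V, E₁⁆, E₂⁆ = ⊥) : ⁅E₁, E₂⁆ ≤ (Cfsg.pCore p H).map H.subtype := by

  have hVc : ∀ x ∈ V, ∀ y ∈ V, x * y = y * x := (ElemAbelian.iff_comm_pow.1 hV).1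
  have hVp : ∀ x ∈ V, x ^ p = 1 := (ElemAbelian.iff_comm_pow.1 hV).2
  have hN : ∀ g ∈ H, ∀ v ∈ V, g * v * g⁻¹ ∈ V := fun g hg v hv =>
    (Subgroup.mem_normalizer_iff.1 (hHV hg) v).1 hv
  set U := ⁅V, E₁⁆ with hU
  have hUV : U ≤ V := Subgroup.commutator_le.2 fun v hv e he => by
    rw [show ⁅v, e⁆ = v * (e * v⁻¹ * e⁻¹) by simp [commutatorElement_def, mul_assoc]]
    exact mul_mem hv (hN e (h₁ he) _ (inv_mem hv))
  have hUE : ∀ u ∈ U, ∀ b ∈ E₂, b * u = u * b := fun u hu b hb =>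
    Subgroup.mem_centralizer_iff.1 (Subgroup.commutator_eq_bot_iff_le_centralizer.1 hc hu) b hb
  have hmodU : ∀ v ∈ V, ∀ e ∈ E₁, ∃ u ∈ U, e * v * e⁻¹ = v * u := by
    intro v hv e he
    refine ⟨v⁻¹ * (e * v * e⁻¹), ?_, by rw [mul_inv_cancel_left]⟩
    rw [show v⁻¹ * (e * v * e⁻¹) = ⁅v⁻¹, e⁆ by simp [commutatorElement_def, mul_assoc]]
    exact Subgroup.commutator_mem_commutator (inv_mem hv) he
  have hUn : ∀ u ∈ U, ∀ e ∈ E₁, e * u * e⁻¹ ∈ U := by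
    intro u hu e he
    obtain ⟨u', hu', he'⟩ := hmodU u (hUV hu) e he
    exact he' ▸ mul_mem hu hu'
  let C : Subgroup G :=
    { carrier := {g | (∀ u ∈ U, g * u * g⁻¹ = u) ∧ ∀ v ∈ V, ∃ u ∈ U, g * v * g⁻¹ = v * u}
      one_mem' := ⟨fun u _ => by simp, fun v _ => ⟨1, one_mem _, by simp⟩⟩
      mul_mem' := by
        rintro g k ⟨hg1, hg2⟩ ⟨hk1, hk2⟩
        refine ⟨fun u hu => ?_, fun v hv => ?_⟩
        · rw [show g * k * u * (g * k)⁻¹ = g * (k * u * k⁻¹) * g⁻¹ by group, hk1 u hu, hg1 u hu]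
        · obtain ⟨u, hu, e⟩ := hk2 v hv
          obtain ⟨u', hu', e'⟩ := hg2 v hv
          refine ⟨u' * u, mul_mem hu' hu, ?_⟩
          rw [show g * k * v * (g * k)⁻¹ = g * (k * v * k⁻¹) * g⁻¹ by group, e,
            show g * (v * u) * g⁻¹ = (g * v * g⁻¹) * (g * u * g⁻¹) by group, e', hg1 u hu, mul_assoc]
      inv_mem' := by
        rintro g ⟨hg1, hg2⟩
        have hi : ∀ u ∈ U, g⁻¹ * u * g⁻¹⁻¹ = u := fun u hu => by
          conv_lhs => rw [← hg1 u hu]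
          simp [mul_assoc]
        refine ⟨hi, fun v hv => ?_⟩
        obtain ⟨u, hu, e⟩ := hg2 v hv
        refine ⟨u⁻¹, inv_mem hu, ?_⟩
        calc g⁻¹ * v * g⁻¹⁻¹ = g⁻¹ * ((v * u) * u⁻¹) * g⁻¹⁻¹ := by rw [mul_inv_cancel_right]
          _ = g⁻¹ * ((g * v * g⁻¹) * u⁻¹) * g⁻¹⁻¹ := by rw [e]
          _ = v * (g⁻¹ * u⁻¹ * g⁻¹⁻¹) := by group
          _ = v * u⁻¹ := by rw [hi _ (inv_mem hu)] }
  have hXC : ⁅E₁, E₂⁆ ≤ C := by
    rw [Subgroup.commutator_le]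
    intro a ha b hb
    have hb1 : ∀ u ∈ U, b * u * b⁻¹ = u := fun u hu => by rw [hUE u hu b hb, mul_inv_cancel_right]
    have hb2 : ∀ u ∈ U, b⁻¹ * u * b⁻¹⁻¹ = u := fun u hu => by
      rw [inv_inv, mul_assoc, ← hUE u hu b hb, inv_mul_cancel_left]
    refine ⟨fun u hu => ?_, fun v hv => ?_⟩
    · have h1 : a⁻¹ * u * a⁻¹⁻¹ ∈ U := hUn u hu _ (inv_mem ha)
      calc ⁅a, b⁆ * u * ⁅a, b⁆⁻¹
          = a * (b * (a⁻¹ * (b⁻¹ * u * b⁻¹⁻¹) * a⁻¹⁻¹) * b⁻¹) * a⁻¹ := by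
            rw [commutatorElement_def]; group
        _ = a * (b * (a⁻¹ * u * a⁻¹⁻¹) * b⁻¹) * a⁻¹ := by rw [hb2 u hu]
        _ = a * (a⁻¹ * u * a⁻¹⁻¹) * a⁻¹ := by rw [hb1 _ h1]
        _ = u := by group
    · have hw : b⁻¹ * v * b⁻¹⁻¹ ∈ V := hN _ (inv_mem (h₂ hb)) v hv
      obtain ⟨u, hu, e⟩ := hmodU _ hw _ (inv_mem ha)
      obtain ⟨u', hu', e'⟩ := hmodU v hv a ha
      refine ⟨u' * (a * u * a⁻¹), mul_mem hu' (hUn u hu a ha), ?_⟩
      calc ⁅a, b⁆ * v * ⁅a, b⁆⁻¹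
          = a * (b * (a⁻¹ * (b⁻¹ * v * b⁻¹⁻¹) * a⁻¹⁻¹) * b⁻¹) * a⁻¹ := by
            rw [commutatorElement_def]; group
        _ = a * (b * ((b⁻¹ * v * b⁻¹⁻¹) * u) * b⁻¹) * a⁻¹ := by rw [e]
        _ = (a * v * a⁻¹) * (a * (b * u * b⁻¹) * a⁻¹) := by group
        _ = v * (u' * (a * u * a⁻¹)) := by rw [e', hb1 u hu, mul_assoc]
  have hXH : ⁅E₁, E₂⁆ ≤ H := Subgroup.commutator_le.2 fun a ha b hb =>
    mul_mem (mul_mem (mul_mem (h₁ ha) (h₂ hb)) (inv_mem (h₁ ha))) (inv_mem (h₂ hb))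
  have hexp : ∀ g ∈ ⁅E₁, E₂⁆, g ^ p = 1 := by
    intro g hg
    obtain ⟨hg1, hg2⟩ := hXC hg
    rw [← Subgroup.mem_bot, ← hf]
    refine Subgroup.mem_inf.2 ⟨pow_mem (hXH hg) p, Subgroup.mem_centralizer_iff.2 fun v hv => ?_⟩
    obtain ⟨u, hu, e⟩ := hg2 v hv
    have hn : ∀ n : ℕ, g ^ n * v * (g ^ n)⁻¹ = v * u ^ n := by
      intro n
      induction n with
      | zero => simp
      | succ n ih =>
        rw [show g ^ (n + 1) * v * (g ^ (n + 1))⁻¹ = g * (g ^ n * v * (g ^ n)⁻¹) * g⁻¹ by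
            rw [pow_succ']; group, ih,
          show g * (v * u ^ n) * g⁻¹ = (g * v * g⁻¹) * (g * u ^ n * g⁻¹) by group, e,
          hg1 _ (pow_mem hu n), pow_succ', mul_assoc]
    have := hn p
    rw [hVp u (hUV hu), mul_one] at this
    exact (mul_inv_eq_iff_eq_mul.1 this).symm
  set X := ⁅E₁.subgroupOf H, E₂.subgroupOf H⁆ with hX
  have hmap : X.map H.subtype = ⁅E₁, E₂⁆ := by
    rw [hX, Subgroup.map_commutator, Subgroup.map_subgroupOf_eq_of_le h₁,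
      Subgroup.map_subgroupOf_eq_of_le h₂]
  have hXp : IsPGroup p X := fun x => ⟨1, by
    apply Subtype.ext; apply Subtype.ext
    rw [pow_one]
    exact hexp _ (hmap ▸ Subgroup.mem_map_of_mem H.subtype x.2)⟩
  rw [← hmap]
  exact Subgroup.map_mono (CharTwo.subnormal_le_pCore (isSubnormal_commutator hs₁ hs₂) hXp)

end Cfsg.Agent.S0597
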