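import Cfsg.Statements.S0609
import Mathlib
import Cfsg.Agent.Lib.PGroup.CoprimeImage

set_option autoImplicit false
open Cfsg

namespace Cfsg.Agent.S0609

/-- Thompson factorizability passes to and from the quotient by the largest normal subgroup of order prime to p. -/
theorem result {G : Type*} [Group G] [Finite G] {p : ℕ} [Fact p.Prime] : Cfsg.IsThompsonFactorizable p G ↔ Cfsg.IsThompsonFactorizable p (G ⧸ Cfsg.pPrimeCore p G) := by
  set N := pPrimeCore p G with hNdef
  have hN : (Nat.card N).Coprime p := Lib.PSolvable.pPrimeCore_coprime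
  have hbot : pPrimeCore p (G ⧸ N) = ⊥ := Lib.PSolvable.pPrimeCore_quotient_eq_bot
  constructor
  · intro hf S' q
    obtain ⟨S, rfl⟩ := Sylow.mapSurjective_surjective (QuotientGroup.mk'_surjective N) p S'
    obtain ⟨g, rfl⟩ := QuotientGroup.mk'_surjective N q
    obtain ⟨x, hx, c, hc, n, hn, rfl⟩ := hf S g
    refine ⟨1, one_mem _, QuotientGroup.mk' N c, ?_, QuotientGroup.mk' N n, ?_, ?_⟩
    · rw [Sylow.coe_mapSurjective, ← Lib.CoprimeImage.map_omegaCentre S.2 hN,
        Subgroup.mem_centralizer_iff]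
      rintro _ ⟨z, hz, rfl⟩
      rw [← map_mul, ← map_mul, Subgroup.mem_centralizer_iff.1 hc z hz]
    · rw [Sylow.coe_mapSurjective, ← Lib.CoprimeImage.map_thompsonSubgroupOf S.2 hN]
      exact Subgroup.le_normalizer_map _ (Subgroup.mem_map_of_mem _ hn)
    · rw [map_mul, map_mul, show (QuotientGroup.mk' N) x = 1 from (QuotientGroup.eq_one_iff x).2 hx]
  · intro hf S g
    obtain ⟨x', hx', c', hc', n', hn', he⟩ :=
      hf (S.mapSurjective (QuotientGroup.mk'_surjective N)) (QuotientGroup.mk' N g)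
    rw [hbot, Subgroup.mem_bot] at hx'
    obtain ⟨c, rfl⟩ := QuotientGroup.mk'_surjective N c'
    obtain ⟨n, rfl⟩ := QuotientGroup.mk'_surjective N n'
    rw [Sylow.coe_mapSurjective, ← Lib.CoprimeImage.map_omegaCentre S.2 hN] at hc'
    rw [Sylow.coe_mapSurjective, ← Lib.CoprimeImage.map_thompsonSubgroupOf S.2 hN] at hn'
    obtain ⟨k, hk, hkc⟩ := Lib.CoprimeImage.exists_mul_mem_centralizer
      (S.2.to_le ((Lib.Omega.le_self _ _).trans inf_le_left)) hN hc'
    obtain ⟨l, hl, hln⟩ := Lib.CoprimeImage.exists_mul_mem_normalizer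
      (S.2.to_le (Lib.Thompson.thompsonSubgroupOf_le _ _)) hN hn'
    refine ⟨g * ((k * c) * (l * n))⁻¹, ?_, k * c, hkc, l * n, hln, ?_⟩
    · apply (QuotientGroup.eq_one_iff _).1
      change QuotientGroup.mk' N (g * ((k * c) * (l * n))⁻¹) = 1
      rw [map_mul, map_inv, map_mul, map_mul, map_mul,
        show (QuotientGroup.mk' N) k = 1 from (QuotientGroup.eq_one_iff k).2 hk,
        show (QuotientGroup.mk' N) l = 1 from (QuotientGroup.eq_one_iff l).2 hl, one_mul, one_mul,
        he, hx', one_mul, mul_inv_cancel]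
    · simp [mul_assoc]

end Cfsg.Agent.S0609
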