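import Cfsg.Statements.S0611
import Mathlib
import Cfsg.Agent.Lib.Offenders.Bridge

set_option autoImplicit false
open Cfsg

namespace Cfsg.Agent.S0611

open Cfsg.Agent.Lib
open scoped commutatorElement


/-- Minimal nontrivially-acting best offenders in such a faithful group have order p, commutator [V, B] of order p and fixed points of index p. -/
theorem result {G : Type*} [Group G] [Finite G] {p : ℕ} [Fact p.Prime] (V H : Subgroup G) (hV : Cfsg.IsElementaryAbelian p V) (hHV : H ≤ Subgroup.normalizer (V : Set G)) (hf : H ⊓ Subgroup.centralizer (V : Set G) = ⊥) (hS1 : Subgroup.centralizer (Cfsg.pPrimeCore p ↥H : Set ↥H) ≤ Cfsg.pPrimeCore p ↥H) (hS3 : H = ⨆ A : {A : Subgroup G // A ≤ H ∧ Cfsg.IsBestOffenderOn p V A}, (A : Subgroup G)) (hH1 : H ≠ ⊥) (A : Subgroup G) (hAH : A ≤ H) (hA : Cfsg.IsBestOffenderOn p V A) (hAV : ⁅V, A⁆ ≠ ⊥) (hmin : ∀ B : Subgroup G, B ≤ A → Cfsg.IsBestOffenderOn p V B → ⁅V, B⁆ ≠ ⊥ → B = A) : Nat.card A = p ∧ Nat.card ↥(⁅V, A⁆) = p ∧ ((V ⊓ Subgroup.centralizer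 (A : Set G))).relIndex V = p := by

  have h : Offenders.Setup p V H := ⟨hV, hHV, hf, hS1⟩
  have hA1 : A ≠ ⊥ := fun e => hAV (by rw [e, Subgroup.commutator_bot_right])
  have hT := h.card_of_minimal hAH hA hA1 hmin
  refine ⟨hT.2.1, ?_, ?_⟩
  · obtain ⟨a, hAz, u, f, hat⟩ := h.exists_transv hT
    obtain ⟨v₀, hv₀⟩ : ∃ v, f v ≠ 0 := by
      by_contra hcon
      simp only [not_exists, not_not] at hcon
      exact hat.f_ne (LinearMap.ext hcon)
    have heq : ⁅V, A⁆ = h.toSub (Submodule.span (ZMod p) {u}) := by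
      refine le_antisymm (Subgroup.commutator_le.2 fun v hv e he => ?_) ?_
      · obtain ⟨i, rfl⟩ := (hAz ▸ he : e ∈ Subgroup.zpowers (a : G))
        refine ⟨-(h.rho (a ^ i) (h.ofV v hv) - h.ofV v hv), neg_mem ?_, ?_⟩
        · obtain ⟨n, hn⟩ : ∃ n : ℕ, a ^ n = a ^ i :=
            mem_powers_iff_mem_zpowers.2 (Subgroup.mem_zpowers_iff.2 ⟨i, rfl⟩)
          rw [← hn, hat.pow_apply, add_sub_cancel_left]
          exact Submodule.smul_mem _ _ (Submodule.mem_span_singleton_self u)
        · rw [h.val_neg, sub_eq_add_neg, h.val_add, h.val_neg, h.val_rho, h.val_ofV]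
          simp [commutatorElement_def, mul_assoc]
      · rintro _ ⟨m, hm, rfl⟩
        suffices hu : u ∈ h.ofSub ⁅V, A⁆ from (Submodule.span_le.2 (Set.singleton_subset_iff.2 hu)) hm
        have h1 : h.rho a v₀ - v₀ ∈ h.ofSub ⁅V, A⁆ := by
          show h.val (h.rho a v₀ - v₀) ∈ ⁅V, A⁆
          rw [sub_eq_add_neg, h.val_add, h.val_neg, h.val_rho,
            show (a : G) * h.val v₀ * (a : G)⁻¹ * (h.val v₀)⁻¹ = (⁅h.val v₀, (a : G)⁆)⁻¹ by
              simp [commutatorElement_def, mul_assoc]]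
          exact inv_mem (Subgroup.commutator_mem_commutator (h.val_mem v₀)
            (hAz.ge (Subgroup.mem_zpowers _)))
        rw [hat.apply, add_sub_cancel_left] at h1
        exact (Submodule.smul_mem_iff _ hv₀).1 h1
    rw [heq]
    refine Eq.trans (Nat.card_congr (Equiv.symm
      { toFun := fun (c : ZMod p) => (⟨h.val (c • u), h.mem_toSub.2
          (Submodule.smul_mem _ c (Submodule.mem_span_singleton_self u))⟩ :
            h.toSub (Submodule.span (ZMod p) {u}))
        invFun := fun w => Classical.choose (Submodule.mem_span_singleton.1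
          (h.mem_toSub.1 (show h.val (h.ofV w.1 (h.toSub_le _ w.2)) ∈ _ from w.2)))
        left_inv := fun c => ?_
        right_inv := fun w => ?_ })) (Nat.card_zmod p)
    · refine smul_left_injective (ZMod p) hat.u_ne ?_
      exact (Classical.choose_spec (Submodule.mem_span_singleton.1 (h.mem_toSub.1 (show h.val
        (h.ofV (h.val (c • u)) (h.val_mem _)) ∈ h.toSub (Submodule.span (ZMod p) {u}) from
          h.mem_toSub.2 (Submodule.smul_mem _ c (Submodule.mem_span_singleton_self u)))))).trans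
          (h.val_inj rfl)
    · refine Subtype.ext ?_
      exact congrArg h.val (Classical.choose_spec (Submodule.mem_span_singleton.1
        (h.mem_toSub.1 (show h.val (h.ofV w.1 (h.toSub_le _ w.2)) ∈ _ from w.2))))
  · have h1 := ((h.isBestOffenderOn_iff hAH).1 hA).2
    rw [hT.2.1] at h1
    have h2 := Subgroup.relIndex_mul_relIndex ⊥ (V ⊓ Subgroup.centralizer (A : Set G)) V bot_le
      inf_le_left
    rw [Subgroup.relIndex_bot_left, Subgroup.relIndex_bot_left, ← h1, mul_comm p] at h2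
    exact Nat.eq_of_mul_eq_mul_left Nat.card_pos h2

end Cfsg.Agent.S0611
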