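import Cfsg.Statements.S0615
import Mathlib
import Cfsg.Agent.Lib.Offenders.Structure
import Cfsg.Agent.Lib.Components.Subnormal
import Cfsg.Agent.Lib.CharTwo.Basic
import Cfsg.Agent.S0597

set_option autoImplicit false
open Cfsg

namespace Cfsg.Agent.S0615

open Cfsg.Agent.Lib
open Subgroup
open scoped commutatorElement

variable {G : Type*} [Group G] [Finite G] {p : ℕ} [Fact p.Prime]

/-- The hypotheses. -/
structure Hyp (p : ℕ) (V E₁ E₂ : Subgroup G) : Prop where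
  elemAb : Cfsg.IsElementaryAbelian p V
  norm : E₁ ⊔ E₂ ≤ normalizer (V : Set G)
  faithful : (E₁ ⊔ E₂) ⊓ centralizer (V : Set G) = ⊥
  sub₁ : (E₁.subgroupOf (E₁ ⊔ E₂)).IsSubnormal
  sub₂ : (E₂.subgroupOf (E₁ ⊔ E₂)).IsSubnormal
  core : Cfsg.pCore p ↥(E₁ ⊔ E₂) = ⊥
  irr₁ : ∀ U : Subgroup G, U ≤ ⁅V, E₁⁆ → E₁ ≤ normalizer (U : Set G) → U = ⊥ ∨ U = ⁅V, E₁⁆
  irr₂ : ∀ U : Subgroup G, U ≤ ⁅V, E₂⁆ → E₂ ≤ normalizer (U : Set G) → U = ⊥ ∨ U = ⁅V, E₂⁆
  inc₁₂ : ¬ ⁅V, E₁⁆ ≤ ⁅V, E₂⁆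
  inc₂₁ : ¬ ⁅V, E₂⁆ ≤ ⁅V, E₁⁆
  card₁ : 2 < Nat.card E₁
  card₂ : 2 < Nat.card E₂

variable {V E₁ E₂ : Subgroup G}

theorem Hyp.symm (h : Hyp p V E₁ E₂) : Hyp p V E₂ E₁ where
  elemAb := h.elemAb
  norm := by rw [sup_comm]; exact h.norm
  faithful := by rw [sup_comm]; exact h.faithful
  sub₁ := by rw [sup_comm]; exact h.sub₂
  sub₂ := by rw [sup_comm]; exact h.sub₁
  core := by rw [sup_comm]; exact h.core
  irr₁ := h.irr₂
  irr₂ := h.irr₁
  inc₁₂ := h.inc₂₁
  inc₂₁ := h.inc₁₂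
  card₁ := h.card₂
  card₂ := h.card₁

/-- A subnormal `p`-subgroup of `E` is trivial. -/
theorem eq_bot_of_subnormal {E X : Subgroup G} (hcore : Cfsg.pCore p ↥E = ⊥) (hXE : X ≤ E)
    (hX : (X.subgroupOf E).IsSubnormal) (hp : IsPGroup p X) : X = ⊥ := by
  have h := CharTwo.subnormal_le_pCore hX (hp.of_equiv (subgroupOfEquivOfLe hXE).symm)
  rw [hcore, le_bot_iff, subgroupOf_eq_bot, disjoint_iff, inf_eq_left.2 hXE] at h
  exact h

theorem Hyp.le_norm₁ (h : Hyp p V E₁ E₂) : E₁ ≤ normalizer (V : Set G) := le_sup_left.trans h.norm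

theorem Hyp.le_norm₂ (h : Hyp p V E₁ E₂) : E₂ ≤ normalizer (V : Set G) := le_sup_right.trans h.norm

theorem Hyp.W₁_le (h : Hyp p V E₁ E₂) : ⁅V, E₁⁆ ≤ V := Quadratic.commutator_le h.le_norm₁

/-- Elements fixing a chain `V ⊇ W` have trivial `p`-th power. -/
theorem pow_eq_one_of_stable (h : Hyp p V E₁ E₂) {W : Subgroup G} {g : G} (hg : g ∈ E₁ ⊔ E₂)
    (h1 : ∀ v ∈ V, ⁅v, g⁆ ∈ W) (h2 : g ∈ centralizer (W : Set G)) : g ^ p = 1 := by
  rw [← mem_bot, ← h.faithful]
  exact ⟨pow_mem hg p, Quadratic.pow_mem_centralizer h.elemAb (h.norm hg) fun v hv =>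
    (mem_centralizer_iff.1 h2 _ (h1 v hv)).symm⟩

/-- `E₁` fixes nothing of `[V, E₁]`. -/
theorem Hyp.fix_eq_bot (h : Hyp p V E₁ E₂) : ⁅V, E₁⁆ ⊓ centralizer (E₁ : Set G) = ⊥ := by
  refine (h.irr₁ _ inf_le_left ?_).resolve_right fun heq => ?_
  · exact Coprime.le_normalizer_inf_centralizer (normalizer_commutator_ge_right V E₁) le_normalizer
  · have hle : E₁ ≤ centralizer ((⁅V, E₁⁆ : Subgroup G) : Set G) :=
      le_centralizer_iff.1 (inf_eq_left.1 heq)
    have hp : IsPGroup p E₁ := fun g => ⟨1, Subtype.ext (by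
      rw [pow_one]
      exact pow_eq_one_of_stable h (mem_sup_left g.2)
        (fun v hv => commutator_mem_commutator hv g.2) (hle g.2))⟩
    have := eq_bot_of_subnormal h.core le_sup_left h.sub₁ hp
    have hc := h.card₁
    rw [this, card_bot] at hc
    omega

/-- The conclusion: the two planes centralise the other group. -/
def Concl (V E₁ E₂ : Subgroup G) : Prop :=
  ⁅E₁, E₂⁆ = ⊥ ∧ ⁅V, E₁⁆ ≤ centralizer (E₂ : Set G) ∧ ⁅V, E₂⁆ ≤ centralizer (E₁ : Set G)

theorem Concl.symm (h : Concl V E₁ E₂) : Concl V E₂ E₁ :=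
  ⟨by rw [commutator_comm]; exact h.1, h.2.2, h.2.1⟩

theorem Hyp.centralizes (h : Hyp p V E₁ E₂) (hn : E₂ ≤ normalizer ((⁅V, E₁⁆ : Subgroup G) : Set G)) :
    ⁅V, E₁⁆ ≤ centralizer (E₂ : Set G) := by
  have hX : ⁅V, E₁⁆ ⊓ ⁅V, E₂⁆ = ⊥ :=
    (h.irr₂ _ inf_le_right ((le_inf hn (normalizer_commutator_ge_right V E₂)).trans
      inf_normalizer_le_normalizer_inf)).resolve_right fun e => h.inc₂₁ (inf_eq_right.1 e)
  rw [← commutator_eq_bot_iff_le_centralizer, ← le_bot_iff, ← hX]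
  exact le_inf (Coprime.commutator_le_of_le_normalizer hn) (commutator_mono h.W₁_le le_rfl)

theorem Hyp.concl_of_normalizes (h : Hyp p V E₁ E₂)
    (hn : E₂ ≤ normalizer ((⁅V, E₁⁆ : Subgroup G) : Set G)) : Concl V E₁ E₂ := by
  have h1 := h.centralizes hn
  have hc : ⁅E₁, E₂⁆ = ⊥ := by
    have := Agent.S0597.result (p := p) V (E₁ ⊔ E₂) h.elemAb h.norm h.faithful E₁ E₂ le_sup_left
      le_sup_right h.sub₁ h.sub₂ (commutator_eq_bot_iff_le_centralizer.2 h1)
    rwa [h.core, Subgroup.map_bot, le_bot_iff] at this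
  refine ⟨hc, h1, h.symm.centralizes ?_⟩
  have hE : E₁ ≤ normalizer (E₂ : Set G) :=
    (commutator_eq_bot_iff_le_centralizer.1 hc).trans (centralizer_le_normalizer _)
  exact Coprime.le_normalizer_commutator h.le_norm₁ hE

/-- A proper conjugate pair inherits the hypotheses. -/
theorem Hyp.conjPair (h : Hyp p V E₁ E₂) {g : G} (hg : g ∈ E₂)
    (hgW : (⁅V, E₁⁆).map (MulAut.conj g).toMonoidHom ≠ ⁅V, E₁⁆) :
    Hyp p V E₁ (E₁.map (MulAut.conj g).toMonoidHom) ∧
      Nat.card ↥(E₁ ⊔ E₁.map (MulAut.conj g).toMonoidHom) < Nat.card ↥(E₁ ⊔ E₂) := by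
  set c := (MulAut.conj g).toMonoidHom with hc
  have hci : Function.Injective c := (MulAut.conj g).injective
  set E := E₁ ⊔ E₂ with hE
  have hgE : g ∈ E := mem_sup_right hg
  have hV : V.map c = V := mem_normalizer_iff_map_conj_eq.1 (h.norm hgE)
  have hW : ⁅V, E₁.map c⁆ = (⁅V, E₁⁆).map c := by rw [map_commutator, hV]
  have hE' : E.map c = E := mem_normalizer_iff_map_conj_eq.1 (le_normalizer hgE)
  have hle : E₁.map c ≤ E := (map_mono (le_sup_left : E₁ ≤ E)).trans hE'.le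
  have hFE : E₁ ⊔ E₁.map c ≤ E := sup_le le_sup_left hle
  have hsub : ((E₁.map c).subgroupOf E).IsSubnormal := by
    have := h.sub₁.map (f := (MulAut.conj (⟨g, hgE⟩ : E)).toMonoidHom) (MulEquiv.surjective _)
    convert this using 1
    ext x
    simp only [mem_subgroupOf, mem_map]
    constructor
    · rintro ⟨y, hy, hyx⟩
      exact ⟨⟨y, (le_sup_left : E₁ ≤ E) hy⟩, hy, Subtype.ext hyx⟩
    · rintro ⟨y, hy, rfl⟩
      exact ⟨y, hy, rfl⟩
  have hcard : Nat.card ↥(⁅V, E₁⁆.map c) = Nat.card ↥⁅V, E₁⁆ := card_map_of_injective hci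
  have hne : ¬ ⁅V, E₁⁆ ≤ ⁅V, E₁.map c⁆ := fun hle' =>
    hgW ((eq_of_le_of_card_ge (hW ▸ hle') (by rw [hcard])).symm)
  have hne' : ¬ ⁅V, E₁.map c⁆ ≤ ⁅V, E₁⁆ := fun hle' =>
    hgW (eq_of_le_of_card_ge (hW ▸ hle') (by rw [hcard]))
  refine ⟨⟨h.elemAb, hFE.trans h.norm, le_bot_iff.1 ((inf_le_inf_right _ hFE).trans h.faithful.le),
    ?_, ?_, ?_, h.irr₁, ?_, hne, hne', h.card₁, ?_⟩, ?_⟩
  · exact h.sub₁.comap (inclusion hFE)
  · exact hsub.comap (inclusion hFE)
  · set F := E₁ ⊔ E₁.map c with hF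
    have hFs : (F.subgroupOf E).IsSubnormal := by
      rw [subgroupOf_sup le_sup_left hle]
      exact Components.subnormal_sup h.sub₁ hsub
    have hX : (((Cfsg.pCore p ↥F).map F.subtype).subgroupOf E).IsSubnormal := by
      have hXF : (Cfsg.pCore p ↥F).map F.subtype ≤ F := map_subtype_le _
      refine IsSubnormal.trans (K := F.subgroupOf E) (comap_mono hXF) ?_ hFs
      refine Normal.isSubnormal ((normal_subgroupOf_iff_le_normalizer (comap_mono hXF)).2 ?_)
      intro x hx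
      have hn : (x : G) ∈ normalizer (((Cfsg.pCore p ↥F).map F.subtype : Subgroup G) : Set G) :=
        le_normalizer_map F.subtype (mem_map_of_mem F.subtype
          ((normalizer_eq_top (H := Cfsg.pCore p ↥F)).ge (mem_top (⟨x, hx⟩ : F))))
      rw [mem_normalizer_iff]
      intro y
      exact mem_normalizer_iff.1 hn y
    have := eq_bot_of_subnormal h.core ((map_subtype_le _).trans hFE) hX
      (PSolvable.pCore_isPGroup.map _)
    exact (Subgroup.map_eq_bot_iff_of_injective _ F.subtype_injective).1 this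
  · intro U hU hUn
    rw [hW] at hU ⊢
    have hU' : (U.comap c).map c = U :=
      map_comap_eq_self_of_surjective (MulAut.conj g).surjective U
    rcases h.irr₁ (U.comap c) (fun x hx => by
        obtain ⟨y, hy, e⟩ := hU hx
        exact hci e ▸ hy)
      (fun e he => by
        have := hUn (mem_map_of_mem c he)
        rw [mem_normalizer_iff] at this ⊢
        intro y
        rw [mem_comap, mem_comap, map_mul, map_mul, map_inv]
        exact this (c y)) with e | e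
    · left; rw [← hU', e, Subgroup.map_bot]
    · right; rw [← hU', e]
  · rw [card_map_of_injective hci]; exact h.card₁
  · rcases h.sub₁.lt_normal with htop | ⟨N, hN, hEN, hlt⟩
    · exfalso
      rw [subgroupOf_eq_top] at htop
      exact h.inc₂₁ (commutator_mono le_rfl (le_sup_right.trans htop))
    · have hle' : (E₁ ⊔ E₁.map c).subgroupOf E ≤ N := by
        rw [subgroupOf_sup le_sup_left hle]
        refine sup_le hEN fun x hx => ?_
        obtain ⟨y, hy, hyx⟩ := mem_subgroupOf.1 hx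
        have := hN.conj_mem ⟨y, (le_sup_left : E₁ ≤ E) hy⟩ (hEN hy) ⟨g, hgE⟩
        have e : x = (⟨g, hgE⟩ : E) * ⟨y, (le_sup_left : E₁ ≤ E) hy⟩ * (⟨g, hgE⟩ : E)⁻¹ :=
          Subtype.ext hyx.symm
        exact e ▸ this
      refine lt_of_le_of_ne (card_le_of_le hFE) fun he => hlt.ne ?_
      have : E₁ ⊔ E₁.map c = E := eq_of_le_of_card_ge hFE he.ge
      rw [this, subgroupOf_self] at hle'
      exact top_le_iff.1 hle'

/-- Conjugates of `W` under products. -/
theorem map_conj_mul (W : Subgroup G) (a b : G) :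
    W.map (MulAut.conj (a * b)).toMonoidHom =
      (W.map (MulAut.conj b).toMonoidHom).map (MulAut.conj a).toMonoidHom := by
  rw [Subgroup.map_map]
  congr 1
  ext x
  simp [mul_assoc]

theorem card_sup_le {A B : Subgroup G} (hn : B ≤ normalizer (A : Set G)) :
    Nat.card ↥(A ⊔ B) ≤ Nat.card A * Nat.card B := by
  have hf : Function.Surjective fun q : A × B =>
      (⟨q.1 * q.2, mul_mem_sup q.1.2 q.2.2⟩ : ↥(A ⊔ B)) := by
    rintro ⟨g, hg⟩
    obtain ⟨a, ha, b, hb, rfl⟩ := Offenders.exists_mul_eq_of_le_normalizer hn hg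
    exact ⟨(⟨a, ha⟩, ⟨b, hb⟩), rfl⟩
  rw [← Nat.card_prod]
  exact Nat.card_le_card_of_surjective _ hf

/-- The bound `|[V, B]|² ≤ |[V, A]|` when neither group normalises the other plane. -/
theorem sq_card_le {A B : Subgroup G} (h : Hyp p V A B) {n : ℕ}
    (hn : Nat.card ↥(A ⊔ B) = n)
    (ih : ∀ {A' B' : Subgroup G}, Hyp p V A' B' → Nat.card ↥(A' ⊔ B') < n → Concl V A' B')
    (hnA : ¬ A ≤ normalizer ((⁅V, B⁆ : Subgroup G) : Set G))
    (hnB : ¬ B ≤ normalizer ((⁅V, A⁆ : Subgroup G) : Set G)) :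
    Nat.card ↥⁅V, B⁆ * Nat.card ↥⁅V, B⁆ ≤ Nat.card ↥⁅V, A⁆ := by
  set W := ⁅V, B⁆ with hWdef
  set U := ⁅V, A⁆ with hUdef
  set T : G → Subgroup G := fun t => W.map (MulAut.conj t).toMonoidHom with hT
  have hT1 : T 1 = W := by rw [hT]; simp only [map_one]; exact Subgroup.map_id W
  have pair : ∀ e ∈ A, ∀ e' ∈ A, T e ≠ T e' →
      T e ≤ centralizer ((B.map (MulAut.conj e').toMonoidHom : Subgroup G) : Set G) := by
    intro e he e' he' hne
    have hd : e⁻¹ * e' ∈ A := mul_mem (inv_mem he) he'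
    obtain ⟨hH, hlt⟩ := h.symm.conjPair hd (fun hh => hne (by
      rw [← hWdef] at hh
      simp only [hT]
      conv_lhs => rw [← hh, ← map_conj_mul, mul_inv_cancel_left]))
    have hc := ih hH (by rw [← hn, sup_comm A B]; exact hlt)
    rintro _ ⟨x, hx, rfl⟩
    rw [mem_centralizer_iff]
    rintro _ ⟨b, hb, rfl⟩
    have := congrArg (MulAut.conj e) (mem_centralizer_iff.1 (hc.2.1 hx) _ (mem_map_of_mem _ hb))
    simpa [mul_assoc] using this
  have fix : ∀ e : G, T e ⊓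
      centralizer ((B.map (MulAut.conj e).toMonoidHom : Subgroup G) : Set G) = ⊥ := by
    intro e
    rw [_root_.eq_bot_iff]
    rintro _ ⟨⟨x, hx, rfl⟩, hxc⟩
    have hx1 : x ∈ W ⊓ centralizer (B : Set G) := by
      refine ⟨hx, mem_centralizer_iff.2 fun b hb => (MulAut.conj e).injective ?_⟩
      rw [map_mul, map_mul]
      exact mem_centralizer_iff.1 hxc _ (mem_map_of_mem _ hb)
    rw [h.symm.fix_eq_bot, mem_bot] at hx1
    rw [hx1, map_one]
    exact one_mem _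
  obtain ⟨g, hg, hgW⟩ : ∃ g ∈ B, U.map (MulAut.conj g).toMonoidHom ≠ U := by
    by_contra hcon
    simp only [not_exists, not_and, not_not] at hcon
    exact hnB fun g hg => mem_normalizer_iff_map_conj_eq.2 (hcon g hg)
  obtain ⟨e, he, heW⟩ : ∃ e ∈ A, T e ≠ W := by
    by_contra hcon
    simp only [not_exists, not_and, not_not] at hcon
    exact hnA fun e he => mem_normalizer_iff_map_conj_eq.2 (hcon e he)
  obtain ⟨hH, hlt⟩ := h.conjPair hg hgW
  have hgc : ∀ w ∈ U, g * w * g⁻¹ ∈ centralizer (A : Set G) := by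
    intro w hw
    refine (ih hH (hn ▸ hlt)).2.2 ?_
    have := mem_map_of_mem (MulAut.conj g).toMonoidHom hw
    have hV : V.map (MulAut.conj g).toMonoidHom = V :=
      mem_normalizer_iff_map_conj_eq.1 (h.le_norm₂ hg)
    rw [hUdef, map_commutator, hV] at this
    exact this
  have moved : ∀ y ∈ A, ∀ t ∈ A, (T t).map (MulAut.conj y).toMonoidHom = T t → ∀ w ∈ U,
      y * (t * w * t⁻¹) * y⁻¹ * (t * w * t⁻¹)⁻¹ ∈ T t := by
    intro y hy t ht hyt w hw
    have hc := hgc w hw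
    set x := MulAut.conj t ⁅w, g⁆ with hxdef
    have hx : x ∈ T t := mem_map_of_mem (MulAut.conj t).toMonoidHom
      (commutator_mem_commutator (h.W₁_le hw) hg)
    have hyx : MulAut.conj y x ∈ T t :=
      hyt ▸ mem_map_of_mem (MulAut.conj y).toMonoidHom hx
    set c := g * w * g⁻¹ with hcdef
    have ht' : MulAut.conj t c = c := by
      rw [MulAut.conj_apply, mem_centralizer_iff.1 hc t ht, mul_inv_cancel_right]
    have hy' : MulAut.conj y c = c := by
      rw [MulAut.conj_apply, mem_centralizer_iff.1 hc y hy, mul_inv_cancel_right]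
    have hxe : x = MulAut.conj t w * c⁻¹ := by
      rw [hxdef, show ⁅w, g⁆ = w * c⁻¹ by simp [hcdef, commutatorElement_def, mul_assoc], map_mul,
        map_inv, ht']
    have := mul_mem hyx (inv_mem hx)
    rw [hxe, map_mul, map_inv, hy'] at this
    simpa [mul_assoc] using this
  have hWe : W ⊓ T e = ⊥ := by
    rw [_root_.eq_bot_iff, ← fix e, inf_comm]
    exact inf_le_inf_left _ (hT1 ▸ pair 1 (one_mem A) e he (by rw [hT1]; exact heW.symm))
  obtain ⟨e', he', he'W, he'e⟩ : ∃ e' ∈ A, T e' ≠ W ∧ T e' ≠ T e := by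
    by_contra hcon
    simp only [not_exists, not_and, not_not] at hcon
    have key : ∀ y ∈ A, T y = W → y = 1 := by
      intro y hy hyW
      have hye : (T e).map (MulAut.conj y).toMonoidHom = T e := by
        simp only [hT]
        rw [← map_conj_mul]
        by_cases hh : T (y * e) = W
        · exfalso
          refine heW ((Subgroup.map_injective (f := (MulAut.conj y).toMonoidHom)
            (MulAut.conj y).injective) ?_)
          simp only [hT] at hh hyW ⊢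
          rw [← map_conj_mul, hh, hyW]
        · exact hcon _ (mul_mem hy he) hh
      have hfix : y ∈ centralizer (U : Set G) := by
        rw [mem_centralizer_iff]
        intro w hw
        have h1 := moved y hy 1 (one_mem A) (by rw [hT1]; exact hyW) w hw
        rw [hT1, one_mul, inv_one, mul_one] at h1
        have hw' : e⁻¹ * w * e ∈ U := by
          simpa using (mem_normalizer_iff.1 (normalizer_commutator_ge_right V A (inv_mem he)) w).1 hw
        have h2 := moved y hy e he hye _ hw'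
        rw [show e * (e⁻¹ * w * e) * e⁻¹ = w by simp [mul_assoc]] at h2
        have h3 : y * w * y⁻¹ * w⁻¹ ∈ W ⊓ T e := ⟨h1, h2⟩
        rw [hWe, mem_bot, mul_inv_eq_one, mul_inv_eq_iff_eq_mul] at h3
        exact h3.symm
      set X := A ⊓ centralizer (U : Set G) with hX
      have hXp : IsPGroup p X := fun z => ⟨1, Subtype.ext (by
        rw [pow_one]
        exact pow_eq_one_of_stable h (mem_sup_left z.2.1)
          (fun v hv => commutator_mem_commutator hv z.2.1) z.2.2)⟩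
      have hXn : A ≤ normalizer (X : Set G) :=
        Coprime.le_normalizer_inf_centralizer le_normalizer (normalizer_commutator_ge_right V A)
      have hXb := eq_bot_of_subnormal h.core (inf_le_left.trans le_sup_left) (IsSubnormal.trans
        (K := A.subgroupOf (A ⊔ B)) (comap_mono inf_le_left)
        (Normal.isSubnormal ((normal_subgroupOf_iff_le_normalizer (comap_mono inf_le_left)).2
          fun z hz => mem_normalizer_iff.2 fun w => mem_normalizer_iff.1 (hXn hz) w)) h.sub₁) hXp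
      exact mem_bot.1 (hXb ▸ (⟨hy, hfix⟩ : y ∈ X))
    have hmap : ∀ x ∈ A, x = 1 ∨ x = e := by
      intro x hx
      by_cases hxW : T x = W
      · exact Or.inl (key x hx hxW)
      · refine Or.inr (inv_mul_eq_one.1 (key _ (mul_mem (inv_mem he) hx) ?_)).symm
        have := hcon x hx hxW
        simp only [hT] at this ⊢
        rw [map_conj_mul, this, ← map_conj_mul, inv_mul_cancel, map_one]
        exact Subgroup.map_id W
    have hc2 : (A : Set G).ncard ≤ 2 :=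
      le_trans (Set.ncard_le_ncard (t := {1, e}) (fun x hx => hmap x hx) (Set.toFinite _))
        ((Set.ncard_insert_le _ _).trans (by rw [Set.ncard_singleton]))
    have := h.card₁
    rw [← Nat.card_coe_set_eq] at hc2
    exact absurd hc2 (by simpa using this)
  have hdisj2 : T e' ⊓ (W ⊔ T e) = ⊥ := by
    rw [_root_.eq_bot_iff, ← fix e']
    refine inf_le_inf_left _ (sup_le ?_ (pair e he e' he' he'e.symm))
    exact hT1 ▸ pair 1 (one_mem A) e' he' (by rw [hT1]; exact he'W.symm)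
  have hle : ∀ t ∈ A, T t ≤ U ⊔ W := by
    intro t ht
    rintro _ ⟨x, hx, rfl⟩
    rw [MulEquiv.coe_toMonoidHom, MulAut.conj_apply,
      show t * x * t⁻¹ = ⁅x, t⁆⁻¹ * x by simp [commutatorElement_def, mul_assoc]]
    exact mul_mem (mem_sup_left (inv_mem (commutator_mem_commutator (h.symm.W₁_le hx) ht)))
      (mem_sup_right hx)
  have hTc : ∀ t : G, Nat.card ↥(T t) = Nat.card W := fun t =>
    card_map_of_injective (MulAut.conj t).injective
  have hc1 := Quadratic.card_mul_card_le W (T e)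
  rw [hWe, card_bot, mul_one, hTc] at hc1
  have hc2 := Quadratic.card_mul_card_le (T e') (W ⊔ T e)
  rw [hdisj2, card_bot, mul_one, hTc] at hc2
  have hc3 : Nat.card ↥(T e' ⊔ (W ⊔ T e)) ≤ Nat.card ↥(U ⊔ W) :=
    card_le_of_le (sup_le (hle e' he') (sup_le le_sup_right (hle e he)))
  have hc4 := card_sup_le (A := U) (B := W) ((h.symm.W₁_le.trans
    ((le_centralizer_iff_isMulCommutative.2 h.elemAb.1).trans
      (centralizer_le (SetLike.coe_subset_coe.2 h.W₁_le)))).trans (centralizer_le_normalizer _))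
  have hpos : 0 < Nat.card W := Nat.card_pos
  nlinarith

theorem Hyp.concl (h : Hyp p V E₁ E₂) : Concl V E₁ E₂ := by
  induction hn : Nat.card ↥(E₁ ⊔ E₂) using Nat.strong_induction_on generalizing E₁ E₂ with
  | _ n ih =>
  by_cases hA : E₂ ≤ normalizer ((⁅V, E₁⁆ : Subgroup G) : Set G)
  · exact h.concl_of_normalizes hA
  by_cases hB : E₁ ≤ normalizer ((⁅V, E₂⁆ : Subgroup G) : Set G)
  · exact (h.symm.concl_of_normalizes hB).symm
  exfalso
  have h1 := sq_card_le h hn (fun hh hlt => ih _ hlt hh rfl) hB hA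
  have h2 := sq_card_le h.symm ((by rw [sup_comm]; exact hn) : Nat.card ↥(E₂ ⊔ E₁) = n)
    (fun hh hlt => ih _ hlt hh rfl) hA hB
  have hpos1 : 0 < Nat.card ↥⁅V, E₁⁆ := Nat.card_pos
  have hpos2 : 0 < Nat.card ↥⁅V, E₂⁆ := Nat.card_pos
  have hone : Nat.card ↥⁅V, E₂⁆ = 1 := by
    have h3 : Nat.card ↥⁅V, E₂⁆ ^ 4 ≤ Nat.card ↥⁅V, E₂⁆ := by
      calc Nat.card ↥⁅V, E₂⁆ ^ 4 = (Nat.card ↥⁅V, E₂⁆ * Nat.card ↥⁅V, E₂⁆) *
            (Nat.card ↥⁅V, E₂⁆ * Nat.card ↥⁅V, E₂⁆) := by ring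
        _ ≤ Nat.card ↥⁅V, E₁⁆ * Nat.card ↥⁅V, E₁⁆ := Nat.mul_le_mul h1 h1
        _ ≤ _ := h2
    by_contra hne
    have : 2 ≤ Nat.card ↥⁅V, E₂⁆ := by omega
    have : 2 * Nat.card ↥⁅V, E₂⁆ ≤ Nat.card ↥⁅V, E₂⁆ ^ 4 := by
      calc 2 * Nat.card ↥⁅V, E₂⁆ ≤ Nat.card ↥⁅V, E₂⁆ ^ 2 := by rw [sq]; exact Nat.mul_le_mul_right _ this
        _ ≤ _ := Nat.pow_le_pow_right (by omega) (by norm_num)
    omega
  exact h.inc₂₁ ((eq_bot_of_card_eq _ hone).le.trans bot_le)


/-- Two subnormal subgroups acting irreducibly on their incomparable commutator modules, in a faithful group with trivial largest normal p-subgroup, generate their direct product, and the commutator module splits accordingly. -/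
theorem result {G : Type*} [Group G] [Finite G] {p : ℕ} [Fact p.Prime] (V E E₁ E₂ : Subgroup G) (hV : Cfsg.IsElementaryAbelian p V) (hEV : E ≤ Subgroup.normalizer (V : Set G)) (hf : E ⊓ Subgroup.centralizer (V : Set G) = ⊥) (hgen : E = E₁ ⊔ E₂) (hs₁ : (E₁.subgroupOf E).IsSubnormal) (hs₂ : (E₂.subgroupOf E).IsSubnormal) (hOp : Cfsg.pCore p ↥E = ⊥) (hirr₁ : (∀ U : Subgroup G, U ≤ ⁅V, E₁⁆ → E₁ ≤ Subgroup.normalizer (U : Set G) → U = ⊥ ∨ U = ⁅V, E₁⁆)) (hirr₂ : (∀ U : Subgroup G, U ≤ ⁅V, E₂⁆ → E₂ ≤ Subgroup.normalizer (U : Set G) → U = ⊥ ∨ U = ⁅V, E₂⁆)) (h12 : ¬ ⁅V, E₁⁆ ≤ ⁅V, E₂⁆) (h21 : ¬ ⁅V, E₂⁆ ≤ ⁅V, E₁⁆) (hc₁ : 2 < Nat.card E₁) (hc₂ : 2 < Nat.card E₂) : ⁅E₁, E₂⁆ = ⊥ ∧ E₁ ⊓ E₂ = ⊥ ∧ ⁅V, E₁⁆ ⊓ ⁅V, E₂⁆ = ⊥ ∧ ⁅V, E⁆ = ⁅V, E₁⁆ ⊔ ⁅V, E₂⁆ := by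

  subst hgen
  have h : Hyp p V E₁ E₂ := ⟨hV, hEV, hf, hs₁, hs₂, hOp, hirr₁, hirr₂, h12, h21, hc₁, hc₂⟩
  obtain ⟨hc, hW1, hW2⟩ := h.concl
  have hWW : ⁅V, E₁⁆ ⊓ ⁅V, E₂⁆ = ⊥ := by
    rw [_root_.eq_bot_iff, ← h.fix_eq_bot]
    exact inf_le_inf_left _ hW2
  refine ⟨hc, ?_, hWW, ?_⟩
  · have hE : E₁ ⊓ E₂ ≤ E₁ ⊓ centralizer ((⁅V, E₁⁆ : Subgroup G) : Set G) :=
      le_inf inf_le_left (inf_le_right.trans (le_centralizer_iff.1 hW1))
    have hXp : IsPGroup p ↥(E₁ ⊓ centralizer ((⁅V, E₁⁆ : Subgroup G) : Set G)) := fun z =>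
      ⟨1, Subtype.ext (by
        rw [pow_one]
        exact pow_eq_one_of_stable h (mem_sup_left z.2.1)
          (fun v hv => commutator_mem_commutator hv z.2.1) z.2.2)⟩
    have hXn : E₁ ≤ normalizer
        ((E₁ ⊓ centralizer ((⁅V, E₁⁆ : Subgroup G) : Set G) : Subgroup G) : Set G) :=
      Coprime.le_normalizer_inf_centralizer le_normalizer (normalizer_commutator_ge_right V E₁)
    have hXb := eq_bot_of_subnormal h.core (inf_le_left.trans le_sup_left) (IsSubnormal.trans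
      (K := E₁.subgroupOf (E₁ ⊔ E₂)) (comap_mono inf_le_left)
      (Normal.isSubnormal ((normal_subgroupOf_iff_le_normalizer (comap_mono inf_le_left)).2
        fun z hz => mem_normalizer_iff.2 fun w => mem_normalizer_iff.1 (hXn hz) w)) h.sub₁) hXp
    exact le_bot_iff.1 (hE.trans hXb.le)
  · refine le_antisymm ?_ (sup_le (commutator_mono le_rfl le_sup_left)
      (commutator_mono le_rfl le_sup_right))
    rw [commutator_le]
    intro v hv x hx
    obtain ⟨a, ha, b, hb, rfl⟩ := Offenders.exists_mul_eq_of_le_normalizer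
      ((commutator_eq_bot_iff_le_centralizer.1 (by rw [commutator_comm]; exact hc :
        ⁅E₂, E₁⁆ = ⊥)).trans (centralizer_le_normalizer _)) hx
    have hvb : ⁅v, b⁆ ∈ ⁅V, E₂⁆ := commutator_mem_commutator hv hb
    have hab : a * ⁅v, b⁆ = ⁅v, b⁆ * a := mem_centralizer_iff.1 (hW2 hvb) a ha
    have e : ⁅v, a * b⁆ = ⁅v, a⁆ * ⁅v, b⁆ := by
      calc ⁅v, a * b⁆ = ⁅v, a⁆ * (a * ⁅v, b⁆ * a⁻¹) := by simp [commutatorElement_def, mul_assoc]
        _ = ⁅v, a⁆ * ⁅v, b⁆ := by rw [hab, mul_inv_cancel_right]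
    rw [e]
    exact mul_mem_sup (commutator_mem_commutator hv ha) hvb

end Cfsg.Agent.S0615
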