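import Cfsg.Statements.S0617
import Mathlib
import Cfsg.Agent.Lib.Offenders.Structure

set_option autoImplicit false
open Cfsg

namespace Cfsg.Agent.S0617

open Cfsg.Agent.Lib


/-- Structure Theorem for failure of factorization: a faithful group generated by best offenders, with self-centralizing p'-core, is a direct product of copies of SL(2, p) (p = 2 or 3), each acting on its own plane in V, which is the direct product of these planes and C_V(H). -/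
theorem result {G : Type*} [Group G] [Finite G] {p : ℕ} [Fact p.Prime] (V H : Subgroup G) (hV : Cfsg.IsElementaryAbelian p V) (hHV : H ≤ Subgroup.normalizer (V : Set G)) (hf : H ⊓ Subgroup.centralizer (V : Set G) = ⊥) (hS1 : Subgroup.centralizer (Cfsg.pPrimeCore p ↥H : Set ↥H) ≤ Cfsg.pPrimeCore p ↥H) (hS3 : H = ⨆ A : {A : Subgroup G // A ≤ H ∧ Cfsg.IsBestOffenderOn p V A}, (A : Subgroup G)) (hH1 : H ≠ ⊥) : (p = 2 ∨ p = 3) ∧ (∀ E : {E : Subgroup G // ∃ A : Subgroup G, A ≤ H ∧ Cfsg.IsBestOffenderOn p V A ∧ ⁅V, A⁆ ≠ ⊥ ∧ (∀ B : Subgroup G, B ≤ A → Cfsg.IsBestOffenderOn p V B → ⁅V, B⁆ ≠ ⊥ → B = A) ∧ E = ⁅((Cfsg.pPrimeCore p ↥H).map H.subtype), A⁆ ⊔ A}, H ≤ Subgroup.normalizer ((E : Subgroup G) : Set G) ∧ Nonempty (↥(E : Subgroup G) ≃* Matrix.SpecialLinearGroup (Fin 2) (ZMod p)) ∧ Nat.card ↥(⁅V, (E : Subgroup G)⁆) = p ^ 2) ∧ iSupIndep (fun E : {E : Subgroup G // ∃ A : Subgroup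 G, A ≤ H ∧ Cfsg.IsBestOffenderOn p V A ∧ ⁅V, A⁆ ≠ ⊥ ∧ (∀ B : Subgroup G, B ≤ A → Cfsg.IsBestOffenderOn p V B → ⁅V, B⁆ ≠ ⊥ → B = A) ∧ E = ⁅((Cfsg.pPrimeCore p ↥H).map H.subtype), A⁆ ⊔ A} => (E : Subgroup G)) ∧ (⨆ E : {E : Subgroup G // ∃ A : Subgroup G, A ≤ H ∧ Cfsg.IsBestOffenderOn p V A ∧ ⁅V, A⁆ ≠ ⊥ ∧ (∀ B : Subgroup G, B ≤ A → Cfsg.IsBestOffenderOn p V B → ⁅V, B⁆ ≠ ⊥ → B = A) ∧ E = ⁅((Cfsg.pPrimeCore p ↥H).map H.subtype), A⁆ ⊔ A}, (E : Subgroup G)) = H ∧ iSupIndep (fun o : Option {E : Subgroup G // ∃ A : Subgroup G, A ≤ H ∧ Cfsg.IsBestOffenderOn p V A ∧ ⁅V, A⁆ ≠ ⊥ ∧ (∀ B : Subgroup G, B ≤ A → Cfsg.IsBestOffenderOn p V B → ⁅V, B⁆ ≠ ⊥ → B = A) ∧ E = ⁅((Cfsg.pPrimeCore p ↥H).map H.subtype), A⁆ ⊔ A} => o.elim (V ⊓ Subgroup.centralizer (H : Set G)) (fun E => ⁅V, (E : Subgroup G)⁆)) ∧ (V ⊓ Subgroup.centralizer (H : Set G)) ⊔ (⨆ E : {E : Subgroup G // ∃ A : Subgroup G, A ≤ H ∧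 Cfsg.IsBestOffenderOn p V A ∧ ⁅V, A⁆ ≠ ⊥ ∧ (∀ B : Subgroup G, B ≤ A → Cfsg.IsBestOffenderOn p V B → ⁅V, B⁆ ≠ ⊥ → B = A) ∧ E = ⁅((Cfsg.pPrimeCore p ↥H).map H.subtype), A⁆ ⊔ A}, ⁅V, (E : Subgroup G)⁆) = V := by

  have h : Offenders.Setup p V H := ⟨hV, hHV, hf, hS1⟩
  have hconv : ∀ E : Subgroup G, (∃ A : Subgroup G, A ≤ H ∧ Cfsg.IsBestOffenderOn p V A ∧
      ⁅V, A⁆ ≠ ⊥ ∧ (∀ B : Subgroup G, B ≤ A → Cfsg.IsBestOffenderOn p V B → ⁅V, B⁆ ≠ ⊥ → B = A) ∧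
        E = ⁅((Cfsg.pPrimeCore p ↥H).map H.subtype), A⁆ ⊔ A) ↔
      ∃ A, Offenders.IsTransvGroup p V H A ∧ E = Offenders.groupE p H A := by
    intro E
    constructor
    · rintro ⟨A, hAH, hA, hAV, hmin, rfl⟩
      exact ⟨A, h.card_of_minimal hAH hA
        (fun e => hAV (by rw [e, Subgroup.commutator_bot_right])) hmin, rfl⟩
    · rintro ⟨A, hT, rfl⟩
      exact ⟨A, hT.1, hT.2.2, hT.commutator_ne_bot h, hT.minimal, rfl⟩
  let e := Equiv.subtypeEquivRight hconv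
  refine ⟨?_, fun E => ?_, ?_, ?_, ?_, ?_⟩
  · by_contra hcon
    refine hH1 (le_bot_iff.1 ((h.le_iSup_all hS3).trans (iSup_le fun B => ?_)))
    exact absurd (h.small_prime B.2) hcon
  · obtain ⟨A, hT, hE⟩ := (hconv _).1 E.2
    rw [hE]
    exact ⟨h.le_normalizer_groupE hS3 hT, h.nonempty_mulEquiv hT, h.card_commutator hT⟩
  · have he : ∀ E, ((e E : Offenders.Setup.Factor p V H) : Subgroup G) = (E : Subgroup G) :=
      fun _ => rfl
    have := h.iSupIndep_factor.comp e.injective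
    simp only [Function.comp_def, he] at this
    exact this
  · have he : ∀ E, ((e E : Offenders.Setup.Factor p V H) : Subgroup G) = (E : Subgroup G) :=
      fun _ => rfl
    have := h.iSup_factor hS3
    rw [← e.iSup_comp] at this
    simp only [he] at this
    exact this
  · have := h.iSupIndep_planes.comp (f := Option.map e) (Option.map_injective e.injective)
    refine Eq.mp (congrArg iSupIndep ?_) this
    funext o
    cases o <;> rfl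
  · have he : ∀ E, ((e E : Offenders.Setup.Factor p V H) : Subgroup G) = (E : Subgroup G) :=
      fun _ => rfl
    have := h.sup_planes hS3
    rw [← e.iSup_comp] at this
    simp only [he] at this
    exact this

end Cfsg.Agent.S0617
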