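import Cfsg.Statements.S0619
import Mathlib
import Cfsg.Agent.Lib.Offenders.Model
import Cfsg.Agent.Lib.PGroup.Omega
import Cfsg.Agent.Lib.PGroup.Thompson

set_option autoImplicit false
open Cfsg

namespace Cfsg.Agent.S0619

open Cfsg.Agent.Lib
open scoped commutatorElement
open Cfsg.Agent.Lib.Offenders
open Subgroup


/-- For a p-separable group and a normal elementary abelian p-subgroup V with no nontrivial normal p-subgroup modulo its centralizer C, the Thompson subgroup J(G) moves Ω₁(Z(J(C))) only inside V. -/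
theorem result {G : Type*} [Group G] [Finite G] {p : ℕ} [Fact p.Prime] (hsep : Cfsg.IsPSolvable p G) (V : Subgroup G) [V.Normal] (hV : Cfsg.IsElementaryAbelian p V) (hO : Cfsg.pCore p (G ⧸ Subgroup.centralizer (V : Set G)) = ⊥) : ⁅Cfsg.omegaOne p (Cfsg.centerThompsonOf p (Subgroup.centralizer (V : Set G))), Cfsg.thompsonSubgroup p G⁆ ≤ V := by

  set C := centralizer (V : Set G) with hC
  set X := omegaOne p (centerThompsonOf p C) with hX
  have hS := Model.setup hV (H := (⊤ : Subgroup G)) (PSolvable.isPSolvable_subgroup hsep ⊤)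
    (Model.pCore_range_eq_bot hO)
  have hXel : IsElementaryAbelian p X := Omega.inter_centralizer_isElementaryAbelian _
  have key : ∀ A ∈ maxElementaryAbelianSubgroups p G, ∀ a ∈ A, ∀ x ∈ X, ⁅x, a⁆ ∈ V := by
    intro A hA a ha x hx
    set A₀ := A ⊓ C with hA₀
    have hVA₀ : V ≤ centralizer (A₀ : Set G) := le_centralizer_iff.1 inf_le_right
    have hel : IsElementaryAbelian p (A₀ ⊔ V) :=
      ElemAbelian.sup (ElemAbelian.mono hA.1 inf_le_left) hV (le_centralizer_iff.1 hVA₀)
    have hb := hS.card_mul_le (A := A.map (Model.nu V)) (map_mono le_top) (ElemAbelian.map hA.1 _)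
    rw [Model.card_base_inf_centralizer, Model.card_base] at hb
    have hc := Quadratic.card_mul_card_le A₀ V
    have hinf : Nat.card ↥(A₀ ⊓ V) ≤ Nat.card ↥(V ⊓ centralizer (A : Set G)) :=
      card_le_of_le (le_inf inf_le_right ((inf_le_left.trans inf_le_left).trans
        (ElemAbelian.le_centralizer hA.1)))
    have hle : Nat.card A ≤ Nat.card ↥(A₀ ⊔ V) := by
      refine Nat.le_of_mul_le_mul_right ?_
        (Nat.card_pos (α := ↥(V ⊓ centralizer (A : Set G))))
      calc Nat.card A * Nat.card ↥(V ⊓ centralizer (A : Set G))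
          = Nat.card A₀ * (Nat.card ↥(A.map (Model.nu V)) *
              Nat.card ↥(V ⊓ centralizer (A : Set G))) := by
            rw [← Model.card_map_nu (V := V) A, ← hC, ← hA₀]; ring
        _ ≤ Nat.card A₀ * Nat.card V := Nat.mul_le_mul_left _ hb
        _ ≤ Nat.card ↥(A₀ ⊔ V) * Nat.card ↥(A₀ ⊓ V) := hc
        _ ≤ _ := Nat.mul_le_mul_left _ hinf
    have hVC : V ≤ C := ElemAbelian.le_centralizer hV
    have hAC : A₀ ⊔ V ≤ C := sup_le inf_le_right hVC
    have hJ : A₀ ⊔ V ≤ thompsonSubgroupOf p C :=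
      Thompson.le_thompsonSubgroupOf ⟨hel, hAC, fun B hB _ => (hA.2 B hB).trans hle⟩
    have hXc : X ≤ centralizer ((A₀ ⊔ V : Subgroup G) : Set G) :=
      ((Omega.le_self _ _).trans inf_le_right).trans (centralizer_le (SetLike.coe_subset_coe.2 hJ))
    have hel' : IsElementaryAbelian p (A₀ ⊔ V ⊔ X) :=
      ElemAbelian.sup hel hXel (le_centralizer_iff.1 hXc)
    have hXle : X ≤ A₀ ⊔ V := by
      rw [eq_of_le_of_card_ge (le_sup_left : A₀ ⊔ V ≤ A₀ ⊔ V ⊔ X) ((hA.2 _ hel').trans hle)]
      exact le_sup_right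
    obtain ⟨b, hb', v, hv, rfl⟩ := mem_sup_of_normal_right.1 (hXle hx)
    have h2 : a * b = b * a := ElemAbelian.comm hA.1 ha hb'.1
    have h3 : ⁅b * v, a⁆ = b * (v * (a * v⁻¹ * a⁻¹)) * b⁻¹ := by
      have h4 : b⁻¹ * a⁻¹ = a⁻¹ * b⁻¹ := by rw [← _root_.mul_inv_rev, ← _root_.mul_inv_rev, h2]
      rw [commutatorElement_def, _root_.mul_inv_rev]
      calc b * v * a * (v⁻¹ * b⁻¹) * a⁻¹ = b * v * a * v⁻¹ * (b⁻¹ * a⁻¹) := by simp [mul_assoc]
        _ = b * v * a * v⁻¹ * (a⁻¹ * b⁻¹) := by rw [h4]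
        _ = _ := by simp [mul_assoc]
    rw [h3]
    exact Normal.conj_mem inferInstance _
      (mul_mem hv (Normal.conj_mem inferInstance _ (inv_mem hv) a)) b
  have hle : thompsonSubgroup p G ≤
      (centralizer ((X.map (QuotientGroup.mk' V) : Subgroup (G ⧸ V)) : Set (G ⧸ V))).comap
        (QuotientGroup.mk' V) := by
    refine sSup_le fun A hA a ha => mem_centralizer_iff.2 ?_
    rintro _ ⟨x, hx, rfl⟩
    have := (QuotientGroup.eq_one_iff (N := V) _).2 (key A hA a ha x hx)
    rw [← QuotientGroup.mk'_apply, map_commutatorElement,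
      commutatorElement_eq_one_iff_mul_comm] at this
    exact this
  refine commutator_le.2 fun x hx j hj => ?_
  rw [← QuotientGroup.eq_one_iff (N := V), ← QuotientGroup.mk'_apply, map_commutatorElement,
    commutatorElement_eq_one_iff_mul_comm]
  exact mem_centralizer_iff.1 (hle hj) _ (mem_map_of_mem _ hx)

end Cfsg.Agent.S0619
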