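import Cfsg.Statements.S0620
import Mathlib
import Cfsg.Agent.Lib.Offenders.CoprimeThompson
import Cfsg.Agent.S0604

set_option autoImplicit false
open Cfsg

namespace Cfsg.Agent.S0620

open Cfsg.Agent.Lib
open Cfsg.Agent.Lib.Offenders
open Subgroup


/-- Under coprime action of an elementary abelian q-group X on a p-separable group K with trivial p'-core, K is generated by the normalizer of J(S), the centralizer of Ω₁(Z(S)) and the fixed points of X. -/
theorem result {G : Type*} [Group G] [Finite G] {p : ℕ} [Fact p.Prime] {q : ℕ} [Fact q.Prime] (K X : Subgroup G) (hXK : X ≤ Subgroup.normalizer (K : Set G)) (hX : Cfsg.IsElementaryAbelian q X) (hq : ¬ q ∣ Nat.card K) (hsep : Cfsg.IsPSolvable p ↥K) (hO : Cfsg.pPrimeCore p ↥K = ⊥) (S : Sylow p ↥K) : (Subgroup.normalizer (Cfsg.thompsonSubgroupOf p (S : Subgroup ↥K) : Set ↥K) ⊔ Subgroup.centralizer (Cfsg.omegaOne p ((S : Subgroup ↥K) ⊓ Subgroup.centralizer ((S : Subgroup ↥K) : Set ↥K)) : Set ↥K) ⊔ (Subgroup.centralizer (X : Set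 G)).subgroupOf K) = ⊤ := by

  let ι : ↥K →* ↥(normalizer (K : Set G)) := inclusion le_normalizer
  have h : CoprimeThompson.Hyp p q ι (X.subgroupOf (normalizer (K : Set G))) := by
    refine ⟨inclusion_injective _, ?_, ElemAbelian.subgroupOf hX _, hq, hsep, hO⟩
    rw [inclusion_range]
    exact (normal_subgroupOf_iff_le_normalizer le_normalizer).2 le_rfl
  have := CoprimeThompson.characteristic_omegaJoin (p := p) (K := ↥K)
  have := Thompson.characteristic p ↥K
  set H₀ := CoprimeThompson.jc p ↥K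
  have hSH : (S : Subgroup ↥K) ⊓ H₀ ≤ (S : Subgroup ↥K) := inf_le_left
  have hJ : thompsonSubgroupOf p (S : Subgroup ↥K) ≤ (S : Subgroup ↥K) ⊓ H₀ :=
    le_inf (Thompson.thompsonSubgroupOf_le _ _)
      ((S0604.result (G := ↥K) (p := p)).ge.trans' (le_iSup_of_le S le_rfl) |>.trans le_sup_left)
  set M := normalizer (thompsonSubgroupOf p (S : Subgroup ↥K) : Set ↥K) ⊔
    centralizer (omegaOne p ((S : Subgroup ↥K) ⊓ centralizer ((S : Subgroup ↥K) : Set ↥K)) : Set ↥K) ⊔
      (centralizer (X : Set G)).subgroupOf K with hM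
  have hNM : normalizer ((S : Subgroup ↥K) ⊓ H₀ : Set ↥K) ≤ M := by
    refine le_trans ?_ (le_sup_left.trans le_sup_left)
    have h1 := Thompson.normalizer_le p ((S : Subgroup ↥K) ⊓ H₀)
    rw [Thompson.thompsonSubgroupOf_eq_of_le hJ hSH] at h1
    exact h1
  have hH : H₀ ≤ M := by
    obtain ⟨P, hP⟩ := SylowNormal.exists_sylow_map_eq_inf S H₀
    refine h.jc_le ?_ ?_ P ?_
    · refine le_trans (centralizer_le (SetLike.coe_subset_coe.2 ?_)) (le_sup_right.trans le_sup_left)
      exact le_iSup (fun T : Sylow p ↥K =>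
        omegaOne p ((T : Subgroup ↥K) ⊓ centralizer ((T : Subgroup ↥K) : Set ↥K))) S
    · refine le_trans (fun k hk => ?_) le_sup_right
      rw [mem_subgroupOf, mem_centralizer_iff]
      intro x hx
      exact congrArg Subtype.val (mem_centralizer_iff.1 hk ⟨x, hXK hx⟩ (mem_subgroupOf.2 hx))
    · rw [hP]
      exact (le_normalizer (H := (S : Subgroup ↥K) ⊓ H₀)).trans hNM
  rw [eq_top_iff, ← SylowNormal.normalizer_inf_sup S H₀]
  exact sup_le hNM hH

end Cfsg.Agent.S0620
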