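import Cfsg.Statements.S0621
import Mathlib
import Cfsg.Agent.Lib.Offenders.CoprimeThompson

set_option autoImplicit false
open Cfsg

namespace Cfsg.Agent.S0621

open Cfsg.Agent.Lib
open Cfsg.Agent.Lib.Offenders
open Subgroup


/-- Let K be p-separable with O_p'(K) = 1, normalized by an elementary abelian q-group X for a prime q not dividing the order of K. If the Thompson factorization fails in K, then p is 2 or 3 and the fixed points of X contain a plane W of order p² and a subgroup inducing SL(2, p) on it. -/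
theorem result {G : Type*} [Group G] [Finite G] {p : ℕ} [Fact p.Prime] {q : ℕ} [Fact q.Prime] (K X : Subgroup G) (hXK : X ≤ Subgroup.normalizer (K : Set G)) (hX : Cfsg.IsElementaryAbelian q X) (hq : ¬ q ∣ Nat.card K) (hsep : Cfsg.IsPSolvable p ↥K) (hO : Cfsg.pPrimeCore p ↥K = ⊥) (hnf : ¬ Cfsg.IsThompsonFactorizable p ↥K) : (p = 2 ∨ p = 3) ∧ ∃ W D : Subgroup G, W ≤ K ⊓ Subgroup.centralizer (X : Set G) ∧ D ≤ K ⊓ Subgroup.centralizer (X : Set G) ∧ Cfsg.IsElementaryAbelian p W ∧ Nat.card W = p ^ 2 ∧ D ≤ Subgroup.normalizer (W : Set G) ∧ ∃ hn : ((Subgroup.centralizer (W : Set G)).subgroupOf D).Normal, Nonempty ((↥D ⧸ (Subgroup.centralizer (W : Set G)).subgroupOf D) ≃* Matrix.SpecialLinearGroup (Fin 2) (ZMod p)) := by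

  set N := normalizer (K : Set G) with hN
  let ι : ↥K →* ↥N := inclusion le_normalizer
  have h : CoprimeThompson.Hyp p q ι (X.subgroupOf N) := by
    refine ⟨inclusion_injective _, ?_, ElemAbelian.subgroupOf hX _, hq, hsep, hO⟩
    rw [inclusion_range]
    exact (normal_subgroupOf_iff_le_normalizer le_normalizer).2 le_rfl
  obtain ⟨hp, W, D, hW, hD, hWel, hWc, hDW, φ, hφ, hker⟩ := h.exists_plane hnf
  have hmap : ∀ Y : Subgroup ↥N, Y ≤ ι.range ⊓ centralizer (X.subgroupOf N : Set ↥N) →
      Y.map N.subtype ≤ K ⊓ centralizer (X : Set G) := by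
    rintro Y hY _ ⟨y, hy, rfl⟩
    obtain ⟨⟨k, hk⟩, hc⟩ := hY hy
    refine ⟨hk ▸ k.2, mem_centralizer_iff.2 fun x hx => ?_⟩
    exact congrArg Subtype.val (mem_centralizer_iff.1 hc ⟨x, hXK hx⟩ (mem_subgroupOf.2 hx))
  refine ⟨hp, W.map N.subtype, D.map N.subtype, hmap W hW, hmap D hD, ElemAbelian.map hWel _,
    by rw [card_map_of_injective (subtype_injective N)]; exact hWc, ?_, ?_⟩
  · exact (map_mono hDW).trans (le_normalizer_map _)
  · let e := D.equivMapOfInjective N.subtype (subtype_injective N)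
    let f : ↥(D.map N.subtype) →* Matrix.SpecialLinearGroup (Fin 2) (ZMod p) :=
      φ.comp e.symm.toMonoidHom
    have hk : f.ker = (centralizer (W.map N.subtype : Set G)).subgroupOf (D.map N.subtype) := by
      ext d
      obtain ⟨d, rfl⟩ := e.surjective d
      rw [MonoidHom.mem_ker, MonoidHom.comp_apply, MulEquiv.coe_toMonoidHom, e.symm_apply_apply,
        hker, mem_subgroupOf, mem_centralizer_iff, mem_centralizer_iff]
      constructor
      · rintro hd _ ⟨w, hw, rfl⟩
        exact congrArg Subtype.val (hd w hw)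
      · exact fun hd w hw => Subtype.ext (hd _ (mem_map_of_mem N.subtype hw))
    have hnorm : ((centralizer (W.map N.subtype : Set G)).subgroupOf (D.map N.subtype)).Normal :=
      hk ▸ MonoidHom.normal_ker f
    exact ⟨hnorm, ⟨(QuotientGroup.quotientMulEquivOfEq hk.symm).trans
      (QuotientGroup.quotientKerEquivOfSurjective f (hφ.comp e.symm.surjective))⟩⟩

end Cfsg.Agent.S0621
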