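import Cfsg.Statements.S0625
import Mathlib
import Cfsg.Agent.Lib.PGroup.ActionStable
import Cfsg.Agent.Lib.PGroup.QuadraticStable

set_option autoImplicit false
open Cfsg

namespace Cfsg.Agent.S0625

open Cfsg.Agent.Lib
open scoped commutatorElement IsMulCommutative


/-- A p-separable group with p at least 5 is p-stable in the action sense. -/
theorem result {G : Type*} [Group G] [Finite G] {p : ℕ} [Fact p.Prime] (hp : 5 ≤ p) (hsep : Cfsg.IsPSolvable p G) : Cfsg.IsActionPStable p G := by

  refine ActionStable.isActionPStable_of (fun H _ => Cfsg.IsPSolvable p H)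
    (fun H _ _ K h => PSolvable.isPSolvable_subgroup h K)
    (fun H _ _ N _ h => PSolvable.isPSolvable_quotient h N) ?_ hsep
  intro H _ _ hH M _ _ hM ρ hinj a ha
  by_contra hna
  obtain ⟨h3, -⟩ := QuadraticStable.sl2Three_of_not_mem_pCore (by omega) hH hM ρ hinj ha hna
  omega

end Cfsg.Agent.S0625
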