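import Cfsg.Statements.S0626
import Mathlib
import Cfsg.Agent.Lib.PGroup.ActionStable
import Cfsg.Agent.Lib.PGroup.AbelianSylowTwo

set_option autoImplicit false
open Cfsg

namespace Cfsg.Agent.S0626

open Cfsg.Agent.Lib
open scoped commutatorElement IsMulCommutative


/-- For odd p, groups whose Sylow 2-subgroups are abelian are p-stable in the action sense. -/
theorem result {G : Type*} [Group G] [Finite G] {p : ℕ} [Fact p.Prime] (hp : p ≠ 2) (hab : ∀ T : Sylow 2 G, IsMulCommutative T) : Cfsg.IsActionPStable p G := by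

  refine ActionStable.isActionPStable_of (fun H _ => AbelianSylowTwo.AbelianTwo H)
    (fun H _ _ K h => AbelianSylowTwo.abelianTwo_subgroup K h)
    (fun H _ _ N _ h => AbelianSylowTwo.abelianTwo_of_surjective _
      (QuotientGroup.mk'_surjective N) h) ?_ hab
  intro H _ _ hH M _ _ hM ρ hinj a ha
  exact AbelianSylowTwo.mem_pCore hp hH hM ρ hinj ha

end Cfsg.Agent.S0626
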