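import Cfsg.Statements.S0627
import Mathlib
import Cfsg.Agent.Lib.PGroup.StableNormal
import Cfsg.Agent.Lib.PGroup.CoprimeImage
import Cfsg.Agent.Lib.PSolvable.HallHigman
import Cfsg.Agent.Lib.PSolvable.PSolv
import Cfsg.Agent.S0625

set_option autoImplicit false
open Cfsg

namespace Cfsg.Agent.S0627

open Cfsg.Agent.Lib


/-- In a p-separable group with p at least 5, the normalizer of W(S) supplements the largest normal subgroup of order prime to p. -/
theorem result {G : Type*} [Group G] [Finite G] {p : ℕ} [Fact p.Prime] (hp : 5 ≤ p) (hsep : Cfsg.IsPSolvable p G) (S : Sylow p G) : Cfsg.pPrimeCore p G ⊔ Subgroup.normalizer (((Cfsg.stableNormalClosure p ↥(S : Subgroup G)).map (S : Subgroup G).subtype) : Set G) = ⊤ := by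

  set N := Cfsg.pPrimeCore p G with hN
  set π := QuotientGroup.mk' N with hπ
  have hNc : (Nat.card N).Coprime p := PSolvable.pPrimeCore_coprime
  have hsep' : Cfsg.IsPSolvable p (G ⧸ N) := PSolvable.isPSolvable_quotient hsep N
  have hst : Cfsg.IsActionPStable p (G ⧸ N) := Agent.S0625.result hp hsep'
  have hc : Subgroup.centralizer (Cfsg.pCore p (G ⧸ N) : Set (G ⧸ N)) ≤ Cfsg.pCore p (G ⧸ N) :=
    PSolvable.centralizer_pCore_le_of_isPSolvable hsep' PSolvable.pPrimeCore_quotient_eq_bot
  set T := S.mapSurjective (QuotientGroup.mk'_surjective N) with hT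
  let e : (S : Subgroup G) ≃* (T : Subgroup (G ⧸ N)) :=
    MulEquiv.ofBijective (π.subgroupMap (S : Subgroup G))
      ⟨fun x y h => CoprimeImage.subtype_comp_injective S.2 hNc (congrArg Subtype.val h),
        π.subgroupMap_surjective _⟩
  have hW : (StableClosure.inside p (S : Subgroup G)).map π =
      StableClosure.inside p (T : Subgroup (G ⧸ N)) := by
    rw [StableClosure.inside, StableClosure.inside, ← StableClosure.map_equiv e, Subgroup.map_map,
      Subgroup.map_map]
    rfl
  rw [eq_top_iff]
  intro g _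
  have hg : (g : G ⧸ N) ∈ Subgroup.normalizer
      (((StableClosure.inside p (S : Subgroup G)).map π : Subgroup (G ⧸ N)) : Set (G ⧸ N)) := by
    rw [hW]
    have := StableClosure.normal_inside hst hc T
    rw [Subgroup.normalizer_eq_top]
    trivial
  obtain ⟨n, hn, hng⟩ := CoprimeImage.exists_mul_mem_normalizer
    (S.2.to_le (StableClosure.inside_le (S : Subgroup G))) hNc hg
  have : g = n⁻¹ * (n * g) := by rw [inv_mul_cancel_left]
  rw [this]
  exact mul_mem (Subgroup.mem_sup_left (inv_mem hn)) (Subgroup.mem_sup_right hng)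

end Cfsg.Agent.S0627
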