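import Cfsg.Statements.S0628
import Mathlib
import Cfsg.Agent.Lib.PGroup.StableNormal
import Cfsg.Agent.Lib.ThompsonNPC.Thompson
import Cfsg.Agent.S0626

set_option autoImplicit false
open Cfsg

namespace Cfsg.Agent.S0628

open Cfsg.Agent.Lib
open Subgroup

universe u

variable {p : ℕ} [Fact p.Prime]

theorem inside_map_of_disjoint {G H : Type u} [Group G] [Group H] (f : G →* H) (S : Subgroup G)
    (h : f.ker ⊓ S = ⊥) :
    StableClosure.inside p (S.map f) = (StableClosure.inside p S).map f := by
  let e : S ≃* S.map f := MulEquiv.ofBijective (f.subgroupMap S)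
    ⟨fun x y hxy => by
      have h1 : f ((x : G) * (y : G)⁻¹) = 1 := by
        rw [map_mul, map_inv, mul_inv_eq_one]; exact congrArg Subtype.val hxy
      have h2 : (x : G) * (y : G)⁻¹ ∈ f.ker ⊓ S := mem_inf.2 ⟨h1, mul_mem x.2 (inv_mem y.2)⟩
      rw [h, mem_bot, mul_inv_eq_one] at h2
      exact Subtype.ext h2, f.subgroupMap_surjective S⟩
  rw [StableClosure.inside, StableClosure.inside, ← StableClosure.map_equiv e, Subgroup.map_map,
    Subgroup.map_map]
  rfl

/-- The local family `N(W(S))`. -/
def stableFamily (p : ℕ) [Fact p.Prime] : ThompsonNPC.LocalFamily.{u} p where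
  idx := Unit
  loc := fun _ {_} _ S => normalizer (StableClosure.inside p S : Set _)
  mono := by
    intro _ G _ M S
    rw [StableClosure.inside_map M.subtype_injective]
    exact le_normalizer_map _
  localised := by
    intro _ G _ _ S hS hS1
    refine ⟨StableClosure.inside p S, ?_, StableClosure.inside_le S, le_rfl,
      StableClosure.normalizer_le_normalizer_inside S⟩
    have : Nontrivial S := (nontrivial_iff_ne_bot S).2 hS1
    rw [Ne, StableClosure.inside, Subgroup.map_eq_bot_iff, ker_subtype, le_bot_iff]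
    exact StableClosure.ne_bot hS
  quot := by
    intro _ G H _ _ _ f hf hker P
    have hd : f.ker ⊓ (P : Subgroup G) = ⊥ := by
      rw [inf_comm]
      exact PSolvable.inf_eq_bot_of_isPGroup_of_coprime P.2
        ((Fact.out : p.Prime).coprime_iff_not_dvd.2 hker).symm
    rw [inside_map_of_disjoint f _ hd]
    exact ThompsonNPC.normalizer_map_le f hf hker (P.2.to_le (StableClosure.inside_le _))
  top_of_normal := ⟨(), fun P hP =>
    top_le_iff.1 ((normalizer_eq_top_iff.2 hP).ge.trans
      (StableClosure.normalizer_le_normalizer_inside _))⟩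

theorem stable_minimal_false (hp2 : p ≠ 2) (G : Type u) [Group G] [Finite G]
    (hgood : ThompsonNPC.Good (stableFamily.{u} p) G) (hG : ¬ Cfsg.HasNormalPComplement p G)
    (m : ThompsonNPC.Minimal p G) : False := by
  obtain ⟨P, K, hcoatom, hHK, hKn, hsup, hinf, hcomm, hcop, hCH, hHP, hPtop⟩ := m
  have hp : p.Prime := Fact.out
  have hab : ∀ T : Sylow 2 G, IsMulCommutative T := by
    intro T
    obtain ⟨a, ha⟩ := IsPGroup.iff_card.1 T.2
    have hTK : (T : Subgroup G) ≤ K := by
      intro t ht
      obtain ⟨k, hk, y, hy, rfl⟩ := mem_sup_of_normal_left.1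
        (show t ∈ K ⊔ (P : Subgroup G) by rw [hsup]; exact mem_top _)
      obtain ⟨b, hb⟩ := P.2 ⟨y, hy⟩
      have h1 : (k * y : G) ^ p ^ b ∈ K := by
        rw [← QuotientGroup.eq_one_iff, QuotientGroup.mk_pow, QuotientGroup.mk_mul,
          (QuotientGroup.eq_one_iff k).2 hk, one_mul, ← QuotientGroup.mk_pow,
          show y ^ p ^ b = 1 from congrArg Subtype.val hb]
        rfl
      have h2 : (k * y : G) ^ 2 ^ a = 1 := by
        rw [← ha]
        exact orderOf_dvd_iff_pow_eq_one.1 ((T : Subgroup G).orderOf_dvd_natCard ht)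
      have h3 : ((k * y : G) : G ⧸ K) = 1 := by
        rw [← orderOf_eq_one_iff]
        refine Nat.eq_one_of_dvd_coprimes (a := 2 ^ a) (b := p ^ b)
          (Nat.Coprime.pow a b ((Nat.coprime_primes Nat.prime_two hp).2 hp2.symm)) ?_ ?_
        · exact orderOf_dvd_of_pow_eq_one (by rw [← QuotientGroup.mk_pow, h2, QuotientGroup.mk_one])
        · exact orderOf_dvd_of_pow_eq_one (by
            rw [← QuotientGroup.mk_pow, (QuotientGroup.eq_one_iff _).2 h1])
      exact (QuotientGroup.eq_one_iff _).1 h3
    refine ⟨⟨fun x y => Subtype.ext ?_⟩⟩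
    have h1 : (x : G) * y * (x : G)⁻¹ * (y : G)⁻¹ ∈ (T : Subgroup G) ⊓ Cfsg.pCore p G :=
      mem_inf.2 ⟨mul_mem (mul_mem (mul_mem x.2 y.2) (inv_mem x.2)) (inv_mem y.2),
        hcomm _ (hTK x.2) _ (hTK y.2)⟩
    have h2 : (T : Subgroup G) ⊓ Cfsg.pCore p G = ⊥ := by
      rw [inf_comm]
      refine PSolvable.inf_eq_bot_of_isPGroup_of_coprime PSolvable.pCore_isPGroup ?_
      rw [ha]
      exact Nat.Coprime.pow_left a ((Nat.coprime_primes Nat.prime_two hp).2 hp2.symm)
    rw [h2, mem_bot, mul_inv_eq_one, mul_inv_eq_iff_eq_mul] at h1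
    exact h1
  have hn := StableClosure.normal_inside (Agent.S0626.result hp2 hab) hCH P
  have := hgood P ()
  rw [show (stableFamily p).loc () (P : Subgroup G) =
    normalizer (StableClosure.inside p (P : Subgroup G) : Set G) from rfl,
    normalizer_eq_top_iff.2 hn] at this
  exact hG (ThompsonNPC.hasNormalPComplement_top this)


/-- The normal p-complement Theorem of Thompson in the form with W(S): for odd p, G has a normal p-complement as soon as the normalizer of the characteristic subgroup W(S) of a Sylow p-subgroup S has one. -/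
theorem result {G : Type*} [Group G] [Finite G] {p : ℕ} [Fact p.Prime] (hp : p ≠ 2) (S : Sylow p G) (hN : Cfsg.HasNormalPComplement p ↥(Subgroup.normalizer (((Cfsg.stableNormalClosure p ↥(S : Subgroup G)).map (S : Subgroup G).subtype) : Set G))) : Cfsg.HasNormalPComplement p G := by

  exact ThompsonNPC.hasNormalPComplement_of_good (stableFamily p)
    (fun G _ _ => stable_minimal_false hp G) G
    (ThompsonNPC.good_of_one _ S fun _ => hN)

end Cfsg.Agent.S0628
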