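import Cfsg.Statements.S0633
import Cfsg.Agent.Lib.HallHigmanB.Linear

set_option autoImplicit false
open Cfsg

namespace Cfsg.Agent.S0633

/-- Theorem B of Hall and Higman on the minimal polynomial of a p-element of order p^n in a p-solvable linear group on a nonzero vector space in characteristic p with no nontrivial normal p-subgroup: its degree is p^n, except when some p^n₀ - 1 (n₀ ≤ n) is a power of a prime q for which the Sylow q-subgroups are non-abelian, in which case the degree is at least p^(n-n₀)(p^n₀ - 1). -/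
theorem result {F : Type*} [Field F] {p : ℕ} [Fact p.Prime] [CharP F p] {V : Type*} [AddCommGroup V] [Module F V] [FiniteDimensional F V] [Nontrivial V] (H : Subgroup (V ≃ₗ[F] V)) [Finite H] (hsol : Cfsg.IsPSolvable p H) (hOp : Cfsg.pCore p H = ⊥) (x : V ≃ₗ[F] V) (hx : x ∈ H) (n : ℕ) (hn : orderOf x = p ^ n) (r : ℕ) (hr : minpoly F (x : Module.End F V) = (Polynomial.X - 1) ^ r) : r = p ^ n ∨ ∃ n₀ q m : ℕ, 1 ≤ n₀ ∧ n₀ ≤ n ∧ q.Prime ∧ 1 ≤ m ∧ p ^ n₀ - 1 = q ^ m ∧ (∀ Q : Sylow q H, ¬ IsMulCommutative Q) ∧ p ^ (n - n₀) * (p ^ n₀ - 1) ≤ r := by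
  classical
  have hp : p.Prime := Fact.out
  let ρ₀ : H →* Module.End F V :=
    { toFun := fun h => ((h : V ≃ₗ[F] V) : Module.End F V)
      map_one' := rfl
      map_mul' := fun a b => rfl }
  have hρ₀ : Function.Injective ρ₀ := fun a b hab => Subtype.ext (LinearEquiv.toLinearMap_injective hab)
  have hr0 : (ρ₀ ⟨x, hx⟩ - 1) ^ r = 0 := by
    have h := minpoly.aeval F ((x : Module.End F V))
    rw [hr] at h
    simp only [map_pow, map_sub, Polynomial.aeval_X, map_one] at h
    exact h
  have hxo : orderOf (⟨x, hx⟩ : H) = p ^ n := by rw [← hn, Subgroup.orderOf_mk]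
  have hup : r ≤ p ^ n := by
    have hz : Polynomial.aeval (x : Module.End F V) ((Polynomial.X - 1 : Polynomial F) ^ p ^ n) = 0 := by
      rw [sub_pow_char_pow, one_pow, map_sub, map_pow, Polynomial.aeval_X, map_one]
      have h : ρ₀ ((⟨x, hx⟩ : H) ^ p ^ n) = 1 := by rw [← hxo, pow_orderOf_eq_one, map_one]
      rw [map_pow] at h
      exact sub_eq_zero.2 h
    have h := minpoly.dvd F _ hz
    rw [hr] at h
    have hX : (Polynomial.X - 1 : Polynomial F).natDegree = 1 := by
      simpa using Polynomial.natDegree_X_sub_C (1 : F)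
    have h2 := Polynomial.natDegree_le_of_dvd h (pow_ne_zero _ (by simpa using Polynomial.X_sub_C_ne_zero (1 : F)))
    rwa [Polynomial.natDegree_pow, Polynomial.natDegree_pow, hX, mul_one, mul_one] at h2
  rcases Nat.eq_zero_or_pos n with rfl | hn1
  · left
    have hr1 : r ≠ 0 := fun h0 => by
      subst h0
      rw [pow_zero] at hr0
      exact one_ne_zero hr0
    rw [pow_zero] at hup ⊢
    omega
  rcases Cfsg.Agent.Lib.HallHigmanB.bound_linear hsol hOp ρ₀ hρ₀ hn1 hxo hr0 with h | ⟨a, m, q, b, h1, h2, h3, h4, h5, h6, h7⟩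
  · exact Or.inl (le_antisymm hup h)
  · refine Or.inr ⟨m, q, b, h2, by omega, h3, h4, h5, h7, ?_⟩
    rwa [show n - m = a by omega]

end Cfsg.Agent.S0633
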