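import Cfsg.Statements.S0640
import Cfsg.Agent.Lib.RankTwo.Main
import Cfsg.Agent.Lib.PAut.TwoGen
-- import your own Cfsg.Agent.* helpers here

set_option autoImplicit false
open Cfsg

namespace Cfsg.Agent.S0640

/-- For odd p, a prime q ≠ p dividing the order of the automorphism group of a p-group of rank at most 2 divides p² - 1 and is less than p. -/
theorem result {R : Type*} [Group R] [Finite R] {p : ℕ} [Fact p.Prime] (hp : p ≠ 2) (hR : IsPGroup p R) (hrk : Cfsg.PRankLE p 2 R) (q : ℕ) (hq : q.Prime) (hqp : q ≠ p) (hdvd : q ∣ Nat.card (MulAut R)) : q ∣ p ^ 2 - 1 ∧ q < p := by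
  have hpp : p.Prime := Fact.out
  haveI := Fact.mk hq
  have : Finite (MulAut R) :=
    Finite.of_injective (fun e : MulAut R => (e : R → R)) fun e e' h => MulEquiv.ext (congrFun h)
  obtain ⟨σ, hσ⟩ := exists_prime_orderOf_dvd_card' q hdvd
  let E := R ⋊[MonoidHom.id (MulAut R)] MulAut R
  have : Finite E := Finite.of_equiv _ SemidirectProduct.equivProd.symm
  let ι : R →* E := SemidirectProduct.inl
  have hι : Function.Injective ι := SemidirectProduct.inl_injective
  let T : Subgroup E := ι.range
  have : T.Normal := by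
    show (SemidirectProduct.inl : R →* E).range.Normal
    rw [SemidirectProduct.range_inl_eq_ker_rightHom]
    infer_instance
  have hT : IsPGroup p T := hR.of_surjective ι.rangeRestrict ι.rangeRestrict_surjective
  have hTr : Cfsg.PRankLE p 2 T := by
    intro A hA hAp
    let e := MonoidHom.ofInjective hι
    rw [← Subgroup.card_map_of_injective (f := e.symm.toMonoidHom) e.symm.injective]
    refine hrk _ ?_ ?_
    · exact Subgroup.map_isMulCommutative A _
    · rintro _ ⟨a, ha, rfl⟩
      rw [← map_pow, hAp a ha, map_one]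
  set x : E := SemidirectProduct.inr σ with hx
  have hxo : orderOf x = q := by
    rw [hx, orderOf_injective _ SemidirectProduct.inr_injective, hσ]
  have hxC : x ∉ Subgroup.centralizer (T : Set E) := by
    intro h
    have h1 : σ = 1 := MulEquiv.ext fun r => by
      have h2 := Subgroup.mem_centralizer_iff.mp h (ι r) ⟨r, rfl⟩
      have h3 : ι (σ r) = x * ι r * x⁻¹ := by
        rw [hx, ← map_inv]; exact SemidirectProduct.inl_aut (φ := MonoidHom.id (MulAut R)) σ r
      rw [← h2, mul_inv_cancel_right] at h3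
      exact hι h3
    rw [h1, orderOf_one] at hσ
    exact hq.ne_one hσ.symm
  have hA : Subgroup.zpowers x ≤ Subgroup.normalizer (T : Set E) := by
    rw [Subgroup.normalizer_eq_top T]; exact le_top
  obtain ⟨V, _, _, φ, hexp, hcard, hkey⟩ :=
    Cfsg.Agent.Lib.RankTwo.exists_quotient_action hT hTr hp hA
  set a : Subgroup.zpowers x := ⟨x, Subgroup.mem_zpowers x⟩ with ha
  have hne : φ a ≠ 1 := fun h =>
    hxC (hkey a (by show (orderOf x).Coprime p; rw [hxo]; exact (Nat.coprime_primes hq hpp).mpr hqp) h)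
  have hord : orderOf (φ a) = q := by
    refine ((Nat.dvd_prime hq).mp ?_).resolve_left fun h => hne (orderOf_eq_one_iff.mp h)
    refine (orderOf_map_dvd φ a).trans ?_
    rw [← Subgroup.orderOf_coe]
    show orderOf x ∣ q
    rw [hxo]
  obtain ⟨j, hj⟩ := IsPGroup.iff_card.mp (show IsPGroup p V from fun v => ⟨1, by rw [pow_one, hexp v]⟩)
  have hj2 : j ≤ 2 := by
    rw [hj] at hcard
    exact (Nat.pow_le_pow_iff_right hpp.one_lt).mp hcard
  have hdiv : q ∣ p ^ 2 - 1 := by
    by_contra hnd
    refine hne (Cfsg.Agent.Lib.PAut.aut_eq_one_of_card_le_sq hpp hj hj2 (φ a) ?_)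
    rw [hord]
    exact hq.coprime_iff_not_dvd.mpr fun h =>
      (hq.dvd_mul.mp h).elim (fun h' => hqp ((Nat.prime_dvd_prime_iff_eq hq hpp).mp h')) hnd
  refine ⟨hdiv, ?_⟩
  have h3 : 3 ≤ p := by
    have := hpp.two_le
    omega
  rw [← one_pow 2, Nat.sq_sub_sq] at hdiv
  rcases hq.dvd_mul.mp hdiv with h | h
  · have := Nat.le_of_dvd (by omega) h
    have hne' : q ≠ p + 1 := by
      rintro rfl
      have hodd : p % 2 = 1 := (hpp.eq_two_or_odd).resolve_left hp
      have := (Nat.prime_dvd_prime_iff_eq Nat.prime_two hq).mp (Nat.dvd_of_mod_eq_zero (by omega))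
      omega
    omega
  · have := Nat.le_of_dvd (by omega) h
    omega

end Cfsg.Agent.S0640
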