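import Cfsg.Statements.S0645
import Cfsg.Agent.Lib.Regular.SmallRank
-- import your own Cfsg.Agent.* helpers here

set_option autoImplicit false
open Cfsg

namespace Cfsg.Agent.S0645

/-- Classification of p-groups with a cyclic maximal subgroup, odd p: a non-abelian one of order p^n has generators a of order p^(n-1) and b of order p, b outside the cyclic subgroup generated by a, with b a b⁻¹ = a^(1 + p^(n-2)). -/
theorem result {G : Type*} [Group G] [Finite G] {p : ℕ} [Fact p.Prime] (hp : p ≠ 2) (n : ℕ) (hn : 3 ≤ n) (hG : Nat.card G = p ^ n) (C : Subgroup G) (hC : IsCyclic C) (hCi : C.index = p) (hna : ∃ x y : G, x * y ≠ y * x) : ∃ a b : G, orderOf a = p ^ (n - 1) ∧ orderOf b = p ∧ b ∉ Subgroup.zpowers a ∧ b * a * b⁻¹ = a ^ (1 + p ^ (n - 2)) := by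
  have hR : IsPGroup p G := IsPGroup.of_card hG
  have hpp : p.Prime := Fact.out
  obtain ⟨a, ha⟩ := (Subgroup.isCyclic_iff_exists_zpowers_eq_top C).mp hC
  have hCcard : Nat.card C = p ^ (n - 1) := by
    have h1 := C.card_mul_index
    rw [hG, hCi] at h1
    have h2 : p ^ n = p ^ (n - 1) * p := by rw [← pow_succ]; congr 1; omega
    rw [h2] at h1
    exact Nat.eq_of_mul_eq_mul_right hpp.pos h1
  have hoa : orderOf a = p ^ (n - 1) := by rw [← Nat.card_zpowers, ha, hCcard]
  have haC : a ∈ C := ha ▸ Subgroup.mem_zpowers a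
  obtain ⟨z, w, hzc, hz1, hzp, -, hwp, -, hwz, hAn⟩ :=
    Cfsg.Agent.Lib.PGroupNormalSq.exists_normal_sq hp hR (⊤ : Subgroup G) (fun hcyc => by
      obtain ⟨x, y, hxy⟩ := hna
      have := (Subgroup.topEquiv (G := G)).isCyclic.mp hcyc
      obtain ⟨g, hg⟩ := this.exists_generator
      obtain ⟨i, hi⟩ := Subgroup.mem_zpowers_iff.mp (hg x)
      obtain ⟨j, hj⟩ := Subgroup.mem_zpowers_iff.mp (hg y)
      refine hxy ?_
      rw [← hi, ← hj, ← zpow_add, ← zpow_add, add_comm])
  have hCn : C.Normal := by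
    refine Subgroup.normal_of_index_eq_minFac_card ?_
    rw [hCi, hG, Nat.pow_minFac (by omega), hpp.minFac_eq]
  have hgen : ∀ g : G, g ∉ C → ∀ H : Subgroup G, C ≤ H → g ∈ H → H = ⊤ := by
    intro g hg H hCH hgH
    have h1 : H.index ∣ p := hCi ▸ Subgroup.index_dvd_of_le hCH
    rcases (Nat.dvd_prime hpp).mp h1 with h | h
    · exact Subgroup.index_eq_one.mp h
    · exfalso
      have h2 := Subgroup.relIndex_mul_index hCH
      rw [hCi, h] at h2
      have h3 : C.relIndex H = 1 := Nat.eq_of_mul_eq_mul_right hpp.pos (h2.trans (one_mul p).symm)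
      exact hg (Subgroup.relIndex_eq_one.mp h3 hgH)
  obtain ⟨x, y, hxy⟩ := hna
  have habel : ∀ g : G, g ∉ C → a * g = g * a → False := by
    intro g hg hag
    have htop := hgen g hg (Subgroup.centralizer (Subgroup.centralizer {a} : Set G))
    have hca : ∀ u : G, u ∈ Subgroup.centralizer ({a} : Set G) := by
      intro u
      have h : Subgroup.centralizer ({a} : Set G) = ⊤ := by
        refine hgen g hg _ ?_ (Subgroup.mem_centralizer_singleton_iff.mpr hag.symm)
        rw [← ha, Subgroup.zpowers_le]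
        exact Subgroup.mem_centralizer_singleton_iff.mpr rfl
      exact h ▸ Subgroup.mem_top u
    have hcg : ∀ u : G, u ∈ Subgroup.centralizer ({g} : Set G) := by
      intro u
      have h : Subgroup.centralizer ({g} : Set G) = ⊤ := by
        refine hgen g hg _ ?_ (Subgroup.mem_centralizer_singleton_iff.mpr rfl)
        rw [← ha, Subgroup.zpowers_le]
        exact Subgroup.mem_centralizer_singleton_iff.mpr hag
      exact h ▸ Subgroup.mem_top u
    have hx : Subgroup.centralizer ({x} : Set G) = ⊤ := by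
      refine hgen g hg _ ?_ (Subgroup.mem_centralizer_singleton_iff.mpr
        (Subgroup.mem_centralizer_singleton_iff.mp (hcg x)).symm)
      rw [← ha, Subgroup.zpowers_le]
      exact Subgroup.mem_centralizer_singleton_iff.mpr
        (Subgroup.mem_centralizer_singleton_iff.mp (hca x)).symm
    exact hxy (Subgroup.mem_centralizer_singleton_iff.mp (hx ▸ Subgroup.mem_top y)).symm
  have hzC : z ∈ C := by
    by_contra h
    exact habel z h (Subgroup.mem_center_iff.mp hzc a)
  have hwC : w ∉ C := fun h => by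
    have h1 : (⟨w, h⟩ : C) ∈ Subgroup.zpowers (⟨z, hzC⟩ : C) :=
      Cfsg.Agent.Lib.Regular.mem_zpowers_of_isCyclic (Subtype.ext hzp)
        (fun h' => hz1 (congrArg Subtype.val h')) (Subtype.ext hwp)
    obtain ⟨i, hi⟩ := Subgroup.mem_zpowers_iff.mp h1
    exact hwz ⟨i, congrArg Subtype.val hi⟩
  set A := Subgroup.closure ({z, w} : Set G) with hA
  have hAe : Cfsg.IsElementaryAbelian p A := Cfsg.Agent.Lib.ElemAbelian.closure (by
      rintro s (rfl | rfl) t (rfl | rfl)
      · rfl
      · exact (Subgroup.mem_center_iff.mp hzc _).symm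
      · exact Subgroup.mem_center_iff.mp hzc _
      · rfl) (by rintro s (rfl | rfl) <;> assumption)
  have hwA : w ∈ A := Subgroup.subset_closure (Set.mem_insert_of_mem _ rfl)
  set d := w * a * w⁻¹ * a⁻¹ with hd
  have hdC : d ∈ C := C.mul_mem (hCn.conj_mem a haC w) (C.inv_mem haC)
  have hdA : d ∈ A := by
    have h1 : w * (a * w⁻¹ * a⁻¹) ∈ A := A.mul_mem hwA (hAn.conj_mem _ (A.inv_mem hwA) a)
    simpa [hd, mul_assoc] using h1
  set c := a ^ p ^ (n - 2) with hc
  have hcp : c ^ p = 1 := by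
    rw [hc, ← pow_mul, ← pow_succ, show n - 2 + 1 = n - 1 by omega, ← hoa, pow_orderOf_eq_one]
  have hc1 : c ≠ 1 := fun h => by
    have h1 := orderOf_dvd_of_pow_eq_one h
    rw [hoa, Nat.pow_dvd_pow_iff_le_right hpp.one_lt] at h1
    omega
  have h1 : (⟨d, hdC⟩ : C) ∈ Subgroup.zpowers (⟨c, C.pow_mem haC _⟩ : C) :=
    Cfsg.Agent.Lib.Regular.mem_zpowers_of_isCyclic (Subtype.ext hcp)
      (fun h' => hc1 (congrArg Subtype.val h')) (Subtype.ext (hAe.2 d hdA))
  obtain ⟨k, hk⟩ := Subgroup.mem_zpowers_iff.mp h1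
  have hk' : c ^ k = d := by simpa using congrArg Subtype.val hk
  have hwd : w * d = d * w := Cfsg.Agent.Lib.ElemAbelian.comm hAe hwA hdA
  have hstep : ∀ j : ℕ, w ^ j * a * (w ^ j)⁻¹ = d ^ j * a := by
    intro j
    induction j with
    | zero => simp
    | succ j ih =>
      calc w ^ (j + 1) * a * (w ^ (j + 1))⁻¹ = w * (w ^ j * a * (w ^ j)⁻¹) * w⁻¹ := by
            rw [pow_succ']; group
        _ = (w * d ^ j) * a * w⁻¹ := by rw [ih]; group
        _ = d ^ j * (w * a * w⁻¹ * a⁻¹) * a := by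
            rw [((show Commute w d from hwd).pow_right j).eq]; group
        _ = d ^ (j + 1) * a := by rw [← hd, ← pow_succ]
  have hpk : ¬ (p : ℤ) ∣ k := by
    rintro ⟨m, rfl⟩
    refine habel w hwC ?_
    have hd1 : d = 1 := by rw [← hk', zpow_mul, zpow_natCast, hcp, one_zpow]
    have h2 := mul_inv_eq_one.mp hd1
    exact (mul_inv_eq_iff_eq_mul.mp h2).symm
  obtain ⟨j, hj⟩ : ∃ j : ℕ, (p : ℤ) ∣ k * j - 1 := by
    have hcop : IsCoprime k (p : ℤ) :=
      ((Nat.prime_iff_prime_int.mp hpp).irreducible.coprime_iff_not_dvd.mpr hpk).symm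
    obtain ⟨u, v, huv⟩ := hcop
    refine ⟨(u % (p : ℤ)).toNat, ?_⟩
    rw [Int.toNat_of_nonneg (Int.emod_nonneg _ (by exact_mod_cast hpp.ne_zero))]
    refine ⟨-v - k * (u / (p : ℤ)), ?_⟩
    have h3 := Int.mul_ediv_add_emod u (p : ℤ)
    linear_combination huv + k * h3
  have hdj : d ^ j = c := by
    obtain ⟨m, hm⟩ := hj
    rw [← hk', ← zpow_natCast, ← zpow_mul, show k * (j : ℤ) = 1 + (p : ℤ) * m by omega, zpow_add,
      zpow_one, zpow_mul, zpow_natCast, hcp, one_zpow, mul_one]
  have hbw : w ^ j ∉ C := by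
    intro h
    have h5 := hstep j
    rw [hdj] at h5
    have h6 : a * w ^ j = w ^ j * a := by
      obtain ⟨i, hi⟩ := Subgroup.mem_zpowers_iff.mp (ha.symm ▸ h : w ^ j ∈ Subgroup.zpowers a)
      rw [← hi, ← zpow_one_add, add_comm, zpow_add, zpow_one]
    rw [← h6, mul_inv_cancel_right] at h5
    exact hc1 (mul_eq_right.mp h5.symm)
  refine ⟨a, w ^ j, hoa, ?_, by rw [ha]; exact hbw, ?_⟩
  · exact orderOf_eq_prime (by rw [← pow_mul, mul_comm, pow_mul, hwp, one_pow])
      (fun h => hbw (h ▸ C.one_mem))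
  · rw [hstep, hdj, hc, ← pow_succ]
    congr 1
    omega

end Cfsg.Agent.S0645
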