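import Cfsg.Statements.S0646
import Mathlib
-- import your own Cfsg.Agent.* helpers here

set_option autoImplicit false
open Cfsg

namespace Cfsg.Agent.S0646

/-- Classification of non-abelian 2-groups with a cyclic maximal subgroup: dihedral, generalized quaternion, and for order at least 16 the modular group and the semidihedral group, each given by generators a (of index 2) and b with the stated relations. -/
theorem result {G : Type*} [Group G] [Finite G] (n : ℕ) (hn : 3 ≤ n) (hG : Nat.card G = 2 ^ n) (C : Subgroup G) (hC : IsCyclic C) (hCi : C.index = 2) (hna : ∃ x y : G, x * y ≠ y * x) : ∃ a b : G, orderOf a = 2 ^ (n - 1) ∧ b ∉ Subgroup.zpowers a ∧ ((b ^ 2 = 1 ∧ b * a * b⁻¹ = a⁻¹) ∨ (b ^ 2 = a ^ (2 ^ (n - 2)) ∧ b * a * b⁻¹ = a⁻¹) ∨ (4 ≤ n ∧ b ^ 2 = 1 ∧ b * a * b⁻¹ = a ^ (1 + 2 ^ (n - 2))) ∨ (4 ≤ n ∧ b ^ 2 = 1 ∧ b * a * b⁻¹ = a ^ (2 ^ (n - 2) - 1))) := by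
  obtain ⟨a, ha⟩ := (Subgroup.isCyclic_iff_exists_zpowers_eq_top C).mp hC
  obtain ⟨m, rfl⟩ : ∃ m, n = m + 3 := ⟨n - 3, by omega⟩
  have hCn : C.Normal := Subgroup.normal_of_index_eq_two hCi
  have hCcard : Nat.card C = 2 ^ (m + 2) := by
    have h1 := C.card_mul_index
    rw [hG, hCi, show (2:ℕ) ^ (m + 3) = 2 ^ (m + 2) * 2 from pow_succ 2 (m + 2)] at h1
    omega
  have hoa : orderOf a = 2 ^ (m + 2) := by rw [← Nat.card_zpowers, ha, hCcard]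
  have hz : ∀ i j : ℤ, (2 : ℤ) ^ (m + 2) ∣ i - j → a ^ i = a ^ j := fun i j h => by
    refine mul_inv_eq_one.mp ?_
    rw [← zpow_sub, ← orderOf_dvd_iff_zpow_eq_one, hoa]
    push_cast
    exact h
  have hz' : ∀ i j : ℤ, a ^ i = a ^ j → (2 : ℤ) ^ (m + 2) ∣ i - j := fun i j h => by
    have h1 : a ^ (i - j) = 1 := by rw [zpow_sub, h, mul_inv_cancel]
    rw [← orderOf_dvd_iff_zpow_eq_one, hoa] at h1
    push_cast at h1
    exact h1
  obtain ⟨b, hb⟩ : ∃ b, b ∉ C := by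
    by_contra h
    push Not at h
    have : C.index = 1 := Subgroup.index_eq_one.mpr (Subgroup.eq_top_iff' C |>.mpr h)
    omega
  obtain ⟨r, hr⟩ : ∃ r : ℤ, a ^ r = b * a * b⁻¹ :=
    Subgroup.mem_zpowers_iff.mp (ha ▸ hCn.conj_mem a (ha ▸ Subgroup.mem_zpowers a) b)
  obtain ⟨s, hs⟩ : ∃ s : ℤ, a ^ s = b * b :=
    Subgroup.mem_zpowers_iff.mp (ha ▸ Subgroup.mul_self_mem_of_index_two hCi b)
  have hpow : ∀ i : ℤ, b * a ^ i * b⁻¹ = a ^ (r * i) := fun i => by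
    rw [zpow_mul, hr, ← conj_zpow]
  have hrr : (2 : ℤ) ^ (m + 2) ∣ r * r - 1 := by
    refine hz' _ _ ?_
    calc a ^ (r * r) = b * (b * a * b⁻¹) * b⁻¹ := by rw [← hpow r, hr]
      _ = (b * b) * a * (b * b)⁻¹ := by group
      _ = a ^ (1 : ℤ) := by rw [← hs]; group
  have hsr : (2 : ℤ) ^ (m + 2) ∣ r * s - s := by
    refine hz' _ _ ?_
    rw [← hpow s, hs]
    group
  have hr1 : ¬ (2 : ℤ) ^ (m + 2) ∣ r - 1 := by
    intro h
    have h1 := hz r 1 h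
    rw [hr, zpow_one, mul_inv_eq_iff_eq_mul] at h1
    obtain ⟨x, y, hxy⟩ := hna
    have hgen : ∀ g : G, ∃ i : ℤ, g = a ^ i ∨ g = a ^ i * b := by
      intro g
      by_cases hg : g ∈ C
      · obtain ⟨i, hi⟩ := Subgroup.mem_zpowers_iff.mp (ha ▸ hg : g ∈ Subgroup.zpowers a)
        exact ⟨i, Or.inl hi.symm⟩
      · have h2 : g * b⁻¹ ∈ C := (Subgroup.mul_mem_iff_of_index_two hCi).mpr
          (iff_of_false hg (fun h => hb (by simpa using C.inv_mem h)))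
        obtain ⟨i, hi⟩ := Subgroup.mem_zpowers_iff.mp (ha ▸ h2 : g * b⁻¹ ∈ Subgroup.zpowers a)
        exact ⟨i, Or.inr (by rw [hi, inv_mul_cancel_right])⟩
    have hab : Commute b a := h1
    refine hxy ?_
    obtain ⟨i, rfl | rfl⟩ := hgen x <;> obtain ⟨j, rfl | rfl⟩ := hgen y
    · exact ((Commute.refl a).zpow_zpow i j).eq
    · exact (((Commute.refl a).zpow_zpow i j).mul_right (hab.symm.zpow_left i)).eq
    · exact (((Commute.refl a).zpow_zpow i j).mul_left (hab.zpow_right j)).eq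
    · exact ((((Commute.refl a).zpow_zpow i j).mul_right (hab.symm.zpow_left i)).mul_left
        ((hab.zpow_right j).mul_right (Commute.refl b))).eq
  have hsq : ∀ i : ℤ, (a ^ i * b) ^ 2 = a ^ (i + r * i + s) := fun i => by
    calc (a ^ i * b) ^ 2 = a ^ i * (b * a ^ i * b⁻¹) * (b * b) := by rw [pow_two]; group
      _ = a ^ (i + r * i + s) := by rw [hpow, ← hs, ← zpow_add, ← zpow_add]
  have hconj : ∀ i : ℤ, (a ^ i * b) * a * (a ^ i * b)⁻¹ = a ^ r := fun i => by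
    calc (a ^ i * b) * a * (a ^ i * b)⁻¹ = a ^ i * (b * a * b⁻¹) * (a ^ i)⁻¹ := by group
      _ = a ^ r := by rw [← hr]; group
  have hout : ∀ i : ℤ, a ^ i * b ∉ Subgroup.zpowers a := fun i h => by
    rw [ha] at h
    exact hb ((C.mul_mem_cancel_left (C.zpow_mem (ha ▸ Subgroup.mem_zpowers a) i)).mp h)
  have hodd : ∃ t : ℤ, r = 2 * t + 1 := by
    rcases Int.even_or_odd' r with ⟨t, rfl | rfl⟩
    · exfalso
      have h : (2 : ℤ) ∣ 2 * t * (2 * t) - 1 := (dvd_pow_self 2 (by omega)).trans hrr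
      rw [show 2 * t * (2 * t) - 1 = 2 * (2 * t * t) - 1 by ring] at h
      omega
    · exact ⟨t, rfl⟩
  obtain ⟨t, rfl⟩ := hodd
  have h4 : ((2 : ℤ) ^ m ∣ t) ∨ ((2 : ℤ) ^ m ∣ t + 1) := by
    have h : (2 : ℤ) ^ m ∣ t * (t + 1) := by
      rw [pow_add, show (2 * t + 1) * (2 * t + 1) - 1 = (t * (t + 1)) * 2 ^ 2 by ring] at hrr
      exact Int.dvd_of_mul_dvd_mul_right (by norm_num) hrr
    by_cases ht : (2 : ℤ) ∣ t
    · exact Or.inl (Int.prime_two.pow_dvd_of_dvd_mul_right m (by omega) h)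
    · exact Or.inr (Int.prime_two.pow_dvd_of_dvd_mul_left m ht h)
  simp only [show m + 3 - 1 = m + 2 by omega, show m + 3 - 2 = m + 1 by omega]
  by_cases hneg : (2 : ℤ) ^ (m + 2) ∣ 2 * t + 1 + 1
  · -- dihedral or quaternion
    have hconj' : ∀ i : ℤ, (a ^ i * b) * a * (a ^ i * b)⁻¹ = a⁻¹ := fun i => by
      rw [hconj, hz _ (-1) (by rw [sub_neg_eq_add]; exact hneg), zpow_neg_one]
    have hs0 : (2 : ℤ) ^ (m + 1) ∣ s := by
      have h := dvd_sub (hneg.mul_left s) hsr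
      rw [show s * (2 * t + 1 + 1) - ((2 * t + 1) * s - s) = 2 * s by ring,
        show (2 : ℤ) ^ (m + 2) = 2 * 2 ^ (m + 1) from pow_succ' 2 (m + 1)] at h
      exact Int.dvd_of_mul_dvd_mul_left (by norm_num) h
    obtain ⟨k, rfl⟩ := hs0
    refine ⟨a, a ^ (0 : ℤ) * b, hoa, hout 0, ?_⟩
    rcases Int.even_or_odd' k with ⟨l, rfl | rfl⟩
    · refine Or.inl ⟨?_, hconj' 0⟩
      rw [hsq, hz _ 0 ⟨l, by ring⟩, zpow_zero]
    · refine Or.inr (Or.inl ⟨?_, hconj' 0⟩)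
      rw [hsq, hz _ ((2 ^ (m + 1) : ℕ) : ℤ) ⟨l, by push_cast; ring⟩, zpow_natCast]
  · have hm1 : 1 ≤ m := by
      by_contra hm
      obtain rfl : m = 0 := by omega
      norm_num at hr1 hneg
      omega
    have hn4 : 4 ≤ m + 3 := by omega
    rcases h4 with ⟨k, rfl⟩ | ⟨k, hk⟩
    · -- modular
      have hk2 : ¬ (2 : ℤ) ∣ k := fun ⟨l, hl⟩ => hr1 ⟨l, by rw [hl]; ring⟩
      obtain ⟨l, hl⟩ : ∃ l, k = 2 * l + 1 := ⟨k / 2, by omega⟩
      have hs2 : (2 : ℤ) ∣ s := by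
        rw [show (2 * (2 ^ m * k) + 1) * s - s = (2 : ℤ) ^ (m + 1) * (k * s) by ring,
          pow_succ (2 : ℤ) (m + 1)] at hsr
        exact (Int.prime_two.dvd_or_dvd (Int.dvd_of_mul_dvd_mul_left
          (pow_ne_zero _ (by norm_num)) hsr)).resolve_left hk2
      obtain ⟨u, rfl⟩ := hs2
      obtain ⟨e, he⟩ : ∃ e : ℤ, (2 : ℤ) ^ (m + 1) ∣ e * (1 + 2 ^ m * k) + u := by
        have hev : (2 : ℤ) ∣ 2 ^ m * k := (dvd_pow_self 2 (by omega)).mul_right k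
        have hcop : IsCoprime (1 + 2 ^ m * k) ((2 : ℤ) ^ (m + 1)) :=
          IsCoprime.pow_right (((Int.prime_two.irreducible.coprime_iff_not_dvd).mpr (by omega)).symm)
        obtain ⟨x, y, hxy⟩ := hcop
        exact ⟨-u * x, ⟨y * u, by linear_combination (-u) * hxy⟩⟩
      obtain ⟨f, hf⟩ := he
      refine ⟨a, a ^ e * b, hoa, hout e, Or.inr (Or.inr (Or.inl ⟨hn4, ?_, ?_⟩))⟩
      · rw [hsq, hz _ 0 ⟨f, by linear_combination 2 * hf⟩, zpow_zero]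
      · rw [hconj, hz _ ((1 + 2 ^ (m + 1) : ℕ) : ℤ) ⟨l, by push_cast; rw [hl]; ring⟩, zpow_natCast]
    · -- semidihedral
      have hk2 : ¬ (2 : ℤ) ∣ k := fun ⟨l, hl⟩ => hneg ⟨l, by rw [hl] at hk; linear_combination 2 * hk⟩
      obtain ⟨l, hl⟩ : ∃ l, k = 2 * l + 1 := ⟨k / 2, by omega⟩
      obtain rfl : t = 2 ^ m * k - 1 := by omega
      have hs0 : (2 : ℤ) ^ (m + 1) ∣ s := by
        rw [show (2 * (2 ^ m * k - 1) + 1) * s - s = 2 * ((2 ^ m * k - 1) * s) by ring,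
          show (2 : ℤ) ^ (m + 2) = 2 * 2 ^ (m + 1) from pow_succ' 2 (m + 1)] at hsr
        have hev : (2 : ℤ) ∣ 2 ^ m * k := (dvd_pow_self 2 (by omega)).mul_right k
        exact Int.prime_two.pow_dvd_of_dvd_mul_left _ (by omega)
          (Int.dvd_of_mul_dvd_mul_left (by norm_num) hsr)
      obtain ⟨j, rfl⟩ := hs0
      have hcast : (((2 ^ (m + 1) - 1 : ℕ)) : ℤ) = 2 ^ (m + 1) - 1 := by
        rw [Nat.cast_sub Nat.one_le_two_pow]; push_cast; rfl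
      rcases Int.even_or_odd' j with ⟨i, rfl | rfl⟩
      · refine ⟨a, a ^ (0 : ℤ) * b, hoa, hout 0, Or.inr (Or.inr (Or.inr ⟨hn4, ?_, ?_⟩))⟩
        · rw [hsq, hz _ 0 ⟨i, by ring⟩, zpow_zero]
        · rw [hconj, hz _ ((2 ^ (m + 1) - 1 : ℕ) : ℤ) ⟨l, by rw [hcast, hl]; ring⟩, zpow_natCast]
      · refine ⟨a, a ^ (1 : ℤ) * b, hoa, hout 1, Or.inr (Or.inr (Or.inr ⟨hn4, ?_, ?_⟩))⟩
        · rw [hsq, hz _ 0 ⟨l + i + 1, by rw [hl]; ring⟩, zpow_zero]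
        · rw [hconj, hz _ ((2 ^ (m + 1) - 1 : ℕ) : ℤ) ⟨l, by rw [hcast, hl]; ring⟩, zpow_natCast]

end Cfsg.Agent.S0646
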