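import Cfsg.Statements.S0647
import Mathlib
-- import your own Cfsg.Agent.* helpers here

set_option autoImplicit false
open Cfsg

namespace Cfsg.Agent.S0647

/-- For a nonempty family of maximal abelian subgroups of a finite group, the intersection of the family is the centre of the subgroup it generates, which is also the full centralizer of that subgroup. -/
theorem result {S : Type*} [Group S] [Finite S] (𝒜 : Set (Subgroup S)) (hne : 𝒜.Nonempty) (hab : ∀ A ∈ 𝒜, IsMulCommutative A) (hmax : ∀ A ∈ 𝒜, ∀ B : Subgroup S, IsMulCommutative B → A ≤ B → B = A) : sInf 𝒜 = sSup 𝒜 ⊓ Subgroup.centralizer ((sSup 𝒜 : Subgroup S) : Set S) ∧ sInf 𝒜 = Subgroup.centralizer ((sSup 𝒜 : Subgroup S) : Set S) := by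
  have hC : Subgroup.centralizer ((sSup 𝒜 : Subgroup S) : Set S) ≤ sInf 𝒜 := by
    refine le_sInf fun A hA => fun x hx => ?_
    have hc : Subgroup.centralizer (A : Set S) ≥ A := Subgroup.le_centralizer_iff_isMulCommutative.mpr (hab A hA)
    have hxA : x ∈ Subgroup.centralizer (A : Set S) :=
      Subgroup.centralizer_le (show (A : Set S) ⊆ (sSup 𝒜 : Subgroup S) from le_sSup hA) hx
    have hxx : Subgroup.zpowers x ≤ Subgroup.centralizer (A : Set S) := Subgroup.zpowers_le.mpr hxA
    have hB : IsMulCommutative (A ⊔ Subgroup.zpowers x : Subgroup S) := by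
      rw [← Subgroup.le_centralizer_iff_isMulCommutative]
      refine sup_le ?_ ?_
      · exact Subgroup.le_centralizer_iff.mp (sup_le hc hxx)
      · exact Subgroup.le_centralizer_iff.mp (sup_le (Subgroup.le_centralizer_iff.mp hxx)
          (Subgroup.le_centralizer _))
    exact (hmax A hA _ hB le_sup_left).le (Subgroup.mem_sup_right (Subgroup.mem_zpowers x))
  have hI : sInf 𝒜 ≤ Subgroup.centralizer ((sSup 𝒜 : Subgroup S) : Set S) :=
    Subgroup.le_centralizer_iff.mp (sSup_le fun A hA => Subgroup.le_centralizer_iff.mp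
      ((sInf_le hA).trans (Subgroup.le_centralizer_iff_isMulCommutative.mpr (hab A hA))))
  obtain ⟨A₀, hA₀⟩ := hne
  have hJ : sInf 𝒜 ≤ sSup 𝒜 := (sInf_le hA₀).trans (le_sSup hA₀)
  exact ⟨le_antisymm (le_inf hJ hI) (inf_le_right.trans hC), le_antisymm hI hC⟩

end Cfsg.Agent.S0647
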