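import Cfsg.Statements.S0648

set_option autoImplicit false
open Cfsg

namespace Cfsg.Agent.S0648

open scoped commutatorElement

/-- If A acts on B centralizing [B, B], then [B, A] has derived subgroup central in B, and for abelian A and b ∈ B with [[b, A], A, A] = 1 the derived subgroup of the subgroup [b, A] generated by the commutators of b with A has exponent dividing 2. -/
theorem result {G : Type*} [Group G] [Finite G] (A B : Subgroup G) (hAB : A ≤ Subgroup.normalizer (B : Set G)) (hc : ⁅⁅B, B⁆, A⁆ = ⊥) : ⁅⁅B, A⁆, ⁅B, A⁆⁆ ≤ B ⊓ Subgroup.centralizer (B : Set G) ∧ (IsMulCommutative A → ∀ b ∈ B, ⁅⁅(Subgroup.closure {g : G | ∃ a ∈ A, g = b⁻¹ * a * b * a⁻¹}), A⁆, A⁆ = ⊥ → ∀ w ∈ ⁅(Subgroup.closure {g : G | ∃ a ∈ A, g = b⁻¹ * a * b * a⁻¹}), (Subgroup.closure {g : G | ∃ a ∈ A, g = b⁻¹ * a * b * a⁻¹})⁆, w ^ 2 = 1) := by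
  set K := ⁅B, A⁆ with hK
  have hKB : K ≤ B := Subgroup.commutator_le.2 fun x hx y hy => by
    rw [commutatorElement_def, mul_assoc x, mul_assoc x]
    exact B.mul_mem hx ((Subgroup.mem_normalizer_iff.1 (hAB hy) _).1 (B.inv_mem hx))
  have hBB : ⁅B, B⁆ ≤ B := Subgroup.commutator_le_self B
  have hKB' : ⁅K, ⁅B, B⁆⁆ = ⊥ := by
    refine Subgroup.commutator_commutator_eq_bot_of_rotate ?_ ?_
    · rw [Subgroup.commutator_comm A, hc, Subgroup.commutator_bot_left]
    · refine le_bot_iff.1 (le_trans (Subgroup.commutator_mono ?_ le_rfl) hc.le)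
      exact Subgroup.commutator_mono hBB le_rfl
  have hKK : ⁅⁅K, K⁆, B⁆ = ⊥ := by
    refine Subgroup.commutator_commutator_eq_bot_of_rotate ?_ ?_
    · refine le_bot_iff.1 (le_trans (Subgroup.commutator_mono ?_ le_rfl)
        (le_of_eq (by rw [Subgroup.commutator_comm]; exact hKB')))
      exact Subgroup.commutator_mono hKB le_rfl
    · refine le_bot_iff.1 (le_trans (Subgroup.commutator_mono ?_ le_rfl)
        (le_of_eq (by rw [Subgroup.commutator_comm]; exact hKB')))
      exact Subgroup.commutator_mono le_rfl hKB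
  refine ⟨le_inf ((Subgroup.commutator_mono hKB hKB).trans hBB)
    (Subgroup.commutator_eq_bot_iff_le_centralizer.1 hKK), fun hA b hb hX => ?_⟩
  set X := Subgroup.closure {g : G | ∃ a ∈ A, g = b⁻¹ * a * b * a⁻¹} with hXdef
  -- `u ∈ [B, B]` commutes with `A`; `[K, K]` commutes with `B`
  have hcA : ∀ u ∈ ⁅B, B⁆, ∀ a ∈ A, Commute a u := fun u hu a ha =>
    Subgroup.mem_centralizer_iff.1 (Subgroup.commutator_eq_bot_iff_le_centralizer.1 hc hu) a ha
  have hcK : ∀ u ∈ ⁅B, B⁆, ∀ k ∈ K, Commute u k := fun u hu k hk =>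
    Subgroup.mem_centralizer_iff.1 (Subgroup.commutator_eq_bot_iff_le_centralizer.1 hKB' hk) u hu
  have hcB : ∀ x ∈ K, ∀ y ∈ K, ∀ z ∈ B, Commute z ⁅x, y⁆ := fun x hx y hy z hz =>
    Subgroup.mem_centralizer_iff.1 (Subgroup.commutator_eq_bot_iff_le_centralizer.1 hKK
      (Subgroup.commutator_mem_commutator hx hy)) z hz
  set c : G → G := fun a => b⁻¹ * a * b * a⁻¹ with hcdef
  have hcK' : ∀ a ∈ A, c a ∈ K := fun a ha => by
    have h := Subgroup.commutator_mem_commutator (B.inv_mem hb) ha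
    simpa [hcdef, commutatorElement_def] using h
  have hXK : X ≤ K := by
    rw [hXdef, Subgroup.closure_le]; rintro _ ⟨a, ha, rfl⟩; exact hcK' a ha
  have hcX : ∀ a ∈ A, c a ∈ X := fun a ha => Subgroup.subset_closure ⟨a, ha, rfl⟩
  set d : G → G → G := fun a e => (c e)⁻¹ * (a * c e * a⁻¹) with hd
  have hdfix : ∀ a ∈ A, ∀ e ∈ A, ∀ f ∈ A, Commute f (d a e) := by
    intro a ha e he f hf
    have h1 : d a e ∈ ⁅X, A⁆ := by
      have h := Subgroup.commutator_mem_commutator (X.inv_mem (hcX e he)) ha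
      simpa [hd, commutatorElement_def, mul_assoc] using h
    exact Subgroup.mem_centralizer_iff.1 (Subgroup.commutator_eq_bot_iff_le_centralizer.1 hX h1) f hf
  have hdK : ∀ a ∈ A, ∀ e ∈ A, d a e ∈ K := by
    intro a ha e he
    have h := Subgroup.commutator_mem_commutator (B.inv_mem (hKB (hcK' e he))) ha
    simpa [hd, commutatorElement_def, mul_assoc] using h
  -- the elements `d a e` commute with the generators of `X`
  have hdc : ∀ a ∈ A, ∀ e ∈ A, ∀ f ∈ A, Commute (d a e) (c f) := by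
    intro a ha e he f hf
    set t := d a e with ht
    set u := ⁅t, b⁻¹⁆ with hu
    have huB : u ∈ ⁅B, B⁆ := Subgroup.commutator_mem_commutator (hKB (hdK a ha e he)) (B.inv_mem hb)
    have htf := hdfix a ha e he f hf
    have h1 : t * c f * t⁻¹ = u * b⁻¹ * (t * f * t⁻¹) * b * u⁻¹ * (t * f⁻¹ * t⁻¹) := by
      simp only [hu, hcdef, commutatorElement_def]; group
    have h3 : u⁻¹ * f⁻¹ = f⁻¹ * u⁻¹ := (hcA u huB f hf).inv_inv.eq.symm
    rw [← htf.eq, mul_inv_cancel_right, ← htf.inv_left.eq, mul_inv_cancel_right, mul_assoc _ u⁻¹, h3,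
      show u * b⁻¹ * f * b * (f⁻¹ * u⁻¹) = u * c f * u⁻¹ by simp only [hcdef]; group,
      (hcK u huB _ (hcK' f hf)).eq, mul_inv_cancel_right, mul_inv_eq_iff_eq_mul] at h1
    exact h1
  -- the two defining relations
  have hrel : ∀ a ∈ A, ∀ e ∈ A, d e a = ⁅c a, c e⁆ * d a e := by
    intro a ha e he
    have hz := hcB _ (hcK' a ha) _ (hcK' e he) _ (B.mul_mem (hKB (hcK' e he)) (hKB (hcK' a ha)))
    have h0 : c a * c e * d a e = c e * c a * d e a := by
      have hae : a * e = e * a := congrArg Subtype.val (hA.is_comm.comm ⟨a, ha⟩ ⟨e, he⟩)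
      calc c a * c e * d a e = b⁻¹ * (a * e) * b * (a * e)⁻¹ := by simp only [hd, hcdef]; group
        _ = b⁻¹ * (e * a) * b * (e * a)⁻¹ := by rw [hae]
        _ = c e * c a * d e a := by simp only [hd, hcdef]; group
    apply mul_left_cancel (a := c e * c a)
    rw [← h0, ← mul_assoc (c e * c a) ⁅c a, c e⁆ (d a e), hz.eq]
    simp only [commutatorElement_def]; group
  have hsq : ∀ a ∈ A, ∀ e ∈ A, ⁅c a, c e⁆ * ⁅c a, c e⁆ = 1 := by
    intro a ha e he
    set z := ⁅c a, c e⁆ with hz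
    -- conjugation by `b⁻¹` exchanges `d e a` and `d a e`
    have hswap : ∀ a ∈ A, ∀ e ∈ A, b⁻¹ * d e a * b = d a e := by
      intro a ha e he
      set u := ⁅b⁻¹, c a⁆ with hu
      have huB : u ∈ ⁅B, B⁆ := Subgroup.commutator_mem_commutator (B.inv_mem hb) (hKB (hcK' a ha))
      have hzz := hcB _ (hcK' a ha) _ (hcK' e he) _ (hKB (hcK' a ha))
      have e1 : b⁻¹ * c a * b = u * c a := by simp only [hu, commutatorElement_def]; group
      have e2 : b⁻¹ * e * b = c e * e := by simp only [hcdef]; group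
      have e3 : e * c a * e⁻¹ = c a * d e a := by simp only [hd]; group
      have h1 : (b⁻¹ * e * b) * (b⁻¹ * c a * b) * (b⁻¹ * e * b)⁻¹ =
          (b⁻¹ * c a * b) * (b⁻¹ * d e a * b) := by
        calc _ = b⁻¹ * (e * c a * e⁻¹) * b := by group
          _ = _ := by rw [e3]; group
      rw [e1, e2] at h1
      have h2 : c e * e * (u * c a) * (c e * e)⁻¹ = u * c a * d a e := by
        calc c e * e * (u * c a) * (c e * e)⁻¹
            = c e * (e * u) * c a * e⁻¹ * (c e)⁻¹ := by group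
          _ = (c e * u) * (e * c a * e⁻¹) * (c e)⁻¹ := by rw [(hcA u huB e he).eq]; group
          _ = u * c e * (c a * d e a) * (c e)⁻¹ := by rw [(hcK u huB _ (hcK' e he)).eq, e3]
          _ = u * c e * c a * (d e a * (c e)⁻¹) := by group
          _ = u * (c e * c a * (c e)⁻¹ * (c a)⁻¹ * c a * d e a) := by
              rw [(hdc e he a ha e he).inv_right.eq]; group
          _ = u * (⁅c a, c e⁆⁻¹ * c a * (⁅c a, c e⁆ * d a e)) := by
              rw [hrel a ha e he]; simp only [commutatorElement_def]; group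
          _ = u * c a * d a e := by
              rw [mul_assoc _ (c a), ← mul_assoc (c a) ⁅c a, c e⁆, hzz.eq]; group
      rw [h2] at h1
      exact (mul_left_cancel h1).symm
    have hbz : b⁻¹ * z * b = z := by
      have h := hcB _ (hcK' a ha) _ (hcK' e he) b hb
      rw [hz, mul_assoc, ← h.eq, inv_mul_cancel_left]
    have h1 := hrel a ha e he
    have h2 : b⁻¹ * d e a * b = b⁻¹ * (⁅c a, c e⁆ * d a e) * b := by rw [← h1]
    rw [hswap a ha e he, show b⁻¹ * (⁅c a, c e⁆ * d a e) * b = (b⁻¹ * z * b) * (b⁻¹ * d a e * b) by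
      simp only [hz]; group, hbz, hswap e he a ha, h1, ← hz, ← mul_assoc] at h2
    exact right_eq_mul.1 h2
  -- all elements of `[X, X]`
  have hgen : ∀ x ∈ X, ∀ y ∈ X, ⁅x, y⁆ * ⁅x, y⁆ = 1 := by
    intro x hx y hy
    have step : ∀ x ∈ K, ∀ y ∈ K, ∀ z ∈ K, ⁅x * y, z⁆ = ⁅x, z⁆ * ⁅y, z⁆ := by
      intro x hx y hy z hz
      rw [show ⁅x * y, z⁆ = x * ⁅y, z⁆ * x⁻¹ * ⁅x, z⁆ by simp only [commutatorElement_def]; group,
        (hcB y hy z hz x (hKB hx)).eq, mul_inv_cancel_right]
      exact (hcB x hx z hz _ (hBB (Subgroup.commutator_mono hKB hKB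
        (Subgroup.commutator_mem_commutator hy hz)))).eq
    have base : ∀ e ∈ A, ∀ x ∈ X, ⁅x, c e⁆ * ⁅x, c e⁆ = 1 := by
      intro e he x hx
      induction hx using Subgroup.closure_induction with
      | mem v hv => obtain ⟨a, ha, rfl⟩ := hv; exact hsq a ha e he
      | one => simp
      | mul v w hv hw ihv ihw =>
        rw [step v (hXK hv) w (hXK hw) _ (hcK' e he), mul_assoc,
          ← mul_assoc ⁅w, c e⁆, (hcB v (hXK hv) _ (hcK' e he) _ (hBB (Subgroup.commutator_mono hKB hKB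
            (Subgroup.commutator_mem_commutator (hXK hw) (hcK' e he))))).eq, mul_assoc ⁅v, c e⁆,
          ← mul_assoc, ihv, one_mul, ihw]
      | inv v hv ih =>
        have h0 : ⁅v⁻¹, c e⁆ = ⁅v, c e⁆⁻¹ := by
          apply eq_inv_of_mul_eq_one_left
          rw [← step v⁻¹ (K.inv_mem (hXK hv)) v (hXK hv) _ (hcK' e he)]
          simp
        rw [h0, ← mul_inv_rev, ih, inv_one]
    have base' : ∀ x ∈ X, ∀ e ∈ A, ⁅c e, x⁆ * ⁅c e, x⁆ = 1 := fun x hx e he => by
      rw [← commutatorElement_inv x (c e), ← mul_inv_rev, base e he x hx, inv_one]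
    induction hx using Subgroup.closure_induction with
    | mem v hv => obtain ⟨a, ha, rfl⟩ := hv; exact base' y hy a ha
    | one => simp
    | mul v w hv hw ihv ihw =>
      rw [step v (hXK hv) w (hXK hw) _ (hXK hy), mul_assoc, ← mul_assoc ⁅w, y⁆,
        (hcB v (hXK hv) _ (hXK hy) _ (hBB (Subgroup.commutator_mono hKB hKB
          (Subgroup.commutator_mem_commutator (hXK hw) (hXK hy))))).eq, mul_assoc ⁅v, y⁆,
        ← mul_assoc, ihv, one_mul, ihw]
    | inv v hv ih =>
      have h0 : ⁅v⁻¹, y⁆ = ⁅v, y⁆⁻¹ := by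
        apply eq_inv_of_mul_eq_one_left
        rw [← step v⁻¹ (K.inv_mem (hXK hv)) v (hXK hv) _ (hXK hy)]
        simp
      rw [h0, ← mul_inv_rev, ih, inv_one]
  intro w hw
  rw [Subgroup.commutator_def] at hw
  induction hw using Subgroup.closure_induction with
  | mem v hv =>
    obtain ⟨x, hx, y, hy, rfl⟩ := hv
    rw [pow_two]; exact hgen x hx y hy
  | one => simp
  | mul v v' hv hv' ihv ihv' =>
    rw [← Subgroup.commutator_def] at hv hv'
    have : Commute v v' := (Subgroup.mem_centralizer_iff.1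
      (Subgroup.commutator_eq_bot_iff_le_centralizer.1 hKK (Subgroup.commutator_mono hXK hXK hv')) v
      (hBB (Subgroup.commutator_mono (hXK.trans hKB) (hXK.trans hKB) hv)))
    rw [this.mul_pow, ihv, ihv', one_mul]
  | inv v hv ih => rw [inv_pow, ih, inv_one]

end Cfsg.Agent.S0648
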