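import Cfsg.Statements.S0649
import Mathlib
import Cfsg.Agent.Lib.PSolvable.CoprimeQuot
-- import your own Cfsg.Agent.* helpers here

set_option autoImplicit false
open Cfsg

namespace Cfsg.Agent.S0649

/-- In the Glauberman replacement situation, if B does not normalize A then some element of B normalizes N_S(A) without normalizing A. -/
theorem result {S : Type*} [Group S] [Finite S] {p : ℕ} [Fact p.Prime] (hS : IsPGroup p S) (B : Subgroup S) [B.Normal] (hB2 : p = 2 → IsMulCommutative B) (A : Subgroup S) (hA : IsMulCommutative A) (hBA : ⁅B, B⁆ ≤ A) (hnot : ¬ B ≤ Subgroup.normalizer (A : Set S)) : ∃ b ∈ B, b ∈ Subgroup.normalizer ((Subgroup.normalizer (A : Set S)) : Set S) ∧ b ∉ Subgroup.normalizer (A : Set S) := by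
  set N := Subgroup.normalizer (A : Set S) with hN
  set K := B ⊔ N with hK
  have hlt : N.subgroupOf K < ⊤ := by
    rw [lt_top_iff_ne_top, ne_eq, Subgroup.subgroupOf_eq_top]
    exact fun h => hnot (le_sup_left.trans h)
  have : Group.IsNilpotent K := (hS.to_subgroup K).isNilpotent
  obtain ⟨k, hk, hkN⟩ := SetLike.exists_of_lt
    (Group.normalizerCondition_of_isNilpotent (G := K) (N.subgroupOf K) hlt)
  obtain ⟨y, hy, z, hz, hyz⟩ := Subgroup.mem_sup_of_normal_left.mp k.2
  have hkn : (k : S) ∈ Subgroup.normalizer (N : Set S) := by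
    refine Cfsg.Agent.Lib.PSolvable.mem_normalizer_of_conj_mem fun x hx => ?_
    have hxK : x ∈ K := Subgroup.mem_sup_right hx
    exact (Subgroup.mem_normalizer_iff.mp hk ⟨x, hxK⟩).mp hx
  refine ⟨y, hy, ?_, fun h => hkN ?_⟩
  · have h2 := mul_mem hkn (inv_mem (Subgroup.le_normalizer hz))
    rwa [← hyz, mul_inv_cancel_right] at h2
  · show (k : S) ∈ N
    rw [← hyz]
    exact mul_mem h hz

end Cfsg.Agent.S0649
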