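import Cfsg.Statements.S0651
import Cfsg.Agent.Lib.ZJ.Family

set_option autoImplicit false
open Cfsg

namespace Cfsg.Agent.S0651

open Cfsg.Agent

/-- For odd p and D normal in the p-group S, the abelian subgroups of D of largest order satisfy the replacement property: a class-2 normal subgroup B of S with a member containing [B, B] but not B normalizes some such member. -/
theorem result {S : Type*} [Group S] [Finite S] {p : ℕ} [Fact p.Prime] (hS : IsPGroup p S) (hp : p ≠ 2) (D : Subgroup S) [D.Normal] : ∀ (B : Subgroup S) [B.Normal], ⁅⁅B, B⁆, B⁆ = ⊥ → (∃ U ∈ (Set.image (fun A : Subgroup ↥D => A.map D.subtype) (Cfsg.maxAbelianSubgroups ↥D)), ⁅B, B⁆ ≤ U ∧ ¬ B ≤ U) → ∃ A ∈ (Set.image (fun A : Subgroup ↥D => A.map D.subtype) (Cfsg.maxAbelianSubgroups ↥D)), ⁅B, B⁆ ≤ A ∧ ¬ B ≤ A ∧ B ≤ Subgroup.normalizer (A : Set S) := by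
  intro B _ _ h
  have hf : Set.image (fun A : Subgroup ↥D => A.map D.subtype) (Cfsg.maxAbelianSubgroups ↥D) =
      Lib.ZJ.fam 0 D := by
    have ht : Lib.ZJ.fam 0 (⊤ : Subgroup D) = Cfsg.maxAbelianSubgroups ↥D := Set.ext fun A =>
      ⟨fun hA => ⟨Lib.ZJ.abExp_zero.1 hA.2.1, fun C hC => hA.2.2 C le_top (Lib.ZJ.abExp_zero.2 hC)⟩,
        fun hA => ⟨le_top, Lib.ZJ.abExp_zero.2 hA.1, fun C _ hC => hA.2 C (Lib.ZJ.abExp_zero.1 hC)⟩⟩
    ext B'
    have hmap := Lib.ZJ.fam_map_iff (m := 0) D.subtype (U := ⊤) D.subtype_injective.injOn (B := B')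
    rw [← MonoidHom.range_eq_map, Subgroup.range_subtype, ht] at hmap
    exact hmap.symm
  rw [hf] at h ⊢
  obtain ⟨U, hU, h1, h2⟩ := h
  exact Lib.ZJ.exists_normalized hS hp (Or.inl rfl) D B ⟨U, hU, h1, h2⟩

end Cfsg.Agent.S0651
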