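import Cfsg.Statements.S0656
import Cfsg.Agent.Lib.ZJ.SL2Section

set_option autoImplicit false
open Cfsg

namespace Cfsg.Agent.S0656

open Cfsg.Agent.Lib
open scoped IsMulCommutative

/-- For odd p, a faithful group on an elementary abelian p-group with no nontrivial normal p-subgroup in which some nontrivial p-element acts quadratically has a section isomorphic to SL(2, p). -/
theorem result {G : Type*} [Group G] [Finite G] {p : ℕ} [Fact p.Prime] (hp : p ≠ 2) (V H : Subgroup G) (hV : Cfsg.IsElementaryAbelian p V) (hHV : H ≤ Subgroup.normalizer (V : Set G)) (hf : H ⊓ Subgroup.centralizer (V : Set G) = ⊥) (hO : Cfsg.pCore p ↥H = ⊥) (x : G) (hxH : x ∈ H) (hx1 : x ≠ 1) (hxp : ∃ k : ℕ, orderOf x = p ^ k) (hq : ⁅⁅V, Subgroup.zpowers x⁆, Subgroup.zpowers x⁆ = ⊥) : ∃ (K L : Subgroup G) (hL : (L.subgroupOf K).Normal), K ≤ H ∧ Nonempty ((K ⧸ L.subgroupOf K) ≃* Matrix.SpecialLinearGroup (Fin 2) (ZMod p)) := by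
  have : IsMulCommutative V := hV.1
  have hM : ∀ v : Additive V, p • v = 0 := fun v => by
    apply Additive.toMul.injective
    apply Subtype.ext
    rw [toMul_nsmul, SubgroupClass.coe_pow, toMul_zero, OneMemClass.coe_one]
    exact hV.2 _ (Additive.toMul v : V).2
  have hinj : ∀ h : H, (∀ v, QuadraticPair.actAdd V H hHV h v = v) → h = 1 := by
    intro h hh
    have hc : (h : G) ∈ H ⊓ Subgroup.centralizer (V : Set G) := by
      refine Subgroup.mem_inf.2 ⟨h.2, Subgroup.mem_centralizer_iff.2 fun v hv => ?_⟩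
      have h4 := congrArg (fun t => ((Additive.toMul t : V) : G)) (hh (Additive.ofMul ⟨v, hv⟩))
      simp only [QuadraticPair.actAdd_apply, toMul_ofMul] at h4
      exact (mul_inv_eq_iff_eq_mul.1 h4).symm
    rw [hf, Subgroup.mem_bot] at hc
    exact Subtype.ext hc
  obtain ⟨A, B, hn, ⟨e⟩⟩ := ZJ.exists_sl2_section hp hM _ hinj
    (QuadraticPair.isUnipotentTwo_actAdd V H hHV ⟨x, hxH⟩ hq)
    (fun h => hx1 (by rw [hO, Subgroup.mem_bot] at h; exact congrArg Subtype.val h))
  exact SectionLift.map_section A B e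

end Cfsg.Agent.S0656
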