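import Cfsg.Statements.S0657
import Cfsg.Agent.Lib.ZJ.Involve

set_option autoImplicit false
open Cfsg

namespace Cfsg.Agent.S0657

open Cfsg.Agent

/-- For odd p, a group that fails to be p-stable modulo its largest normal subgroup of order prime to p, and whose upper p-series does not stop there, has a section isomorphic to SL(2, p). -/
theorem result {G : Type*} [Group G] [Finite G] {p : ℕ} [Fact p.Prime] (hp : p ≠ 2) (hO : Cfsg.pPrimeCore p G < Cfsg.pPrimePCore p G) (hns : ¬ Cfsg.IsPStable p (G ⧸ Cfsg.pPrimeCore p G)) : ∃ (K L : Subgroup G) (hL : (L.subgroupOf K).Normal), K ≤ ⊤ ∧ Nonempty ((K ⧸ L.subgroupOf K) ≃* Matrix.SpecialLinearGroup (Fin 2) (ZMod p)) := by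
  set N := Cfsg.pPrimeCore p G with hN
  have hodd : Odd p := (Fact.out : p.Prime).odd_of_ne_two hp
  have hcore : Cfsg.pCore p (G ⧸ N) ≠ ⊥ := by
    intro h
    apply hO.ne'
    show (Cfsg.pCore p (G ⧸ N)).comap (QuotientGroup.mk' N) = N
    rw [h, MonoidHom.comap_bot, QuotientGroup.ker_mk']
  unfold Cfsg.IsPStable at hns
  push Not at hns
  obtain ⟨A, P, hA, hP, hnorm, -, -, hcomm, hst⟩ := hns hodd hcore
  obtain ⟨K, L, hn, ⟨e⟩⟩ := Lib.ZJ.exists_sl2_section_of_not_stableAt hp hP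
    (fun a ha => Lib.PSolvable.mem_normalizer_of_conj_mem (hnorm a ha)) hcomm hst
  obtain ⟨K', L', hn', he⟩ := Lib.ZJ.section_comap (QuotientGroup.mk' N)
    (QuotientGroup.mk'_surjective _) K L e
  exact ⟨K', L', hn', le_top, he⟩

end Cfsg.Agent.S0657
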