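import Cfsg.Statements.S0658
import Cfsg.Agent.Lib.ZJ.Constrained
import Cfsg.Agent.Lib.Transfer.Criteria

set_option autoImplicit false
open Cfsg

namespace Cfsg.Agent.S0658

open Cfsg.Agent

/-- In a group of characteristic p type all of whose p-locals are p-stable (p odd), the normalizer of Z(J(P)) contains the normalizer of every nontrivial subgroup of the Sylow p-subgroup P. -/
theorem result {G : Type*} [Group G] [Finite G] {p : ℕ} [Fact p.Prime] (hp : p ≠ 2) (hloc : ∀ Q : Subgroup G, IsPGroup p Q → Q ≠ ⊥ → Cfsg.pPrimeCore p ↥(Subgroup.normalizer (Q : Set G)) = ⊥ ∧ Cfsg.IsPConstrained p ↥(Subgroup.normalizer (Q : Set G)) ∧ Cfsg.IsPStable p ↥(Subgroup.normalizer (Q : Set G))) (P : Sylow p G) (Q : Subgroup G) (hQP : Q ≤ (P : Subgroup G)) (hQ1 : Q ≠ ⊥) : Subgroup.normalizer (Q : Set G) ≤ Subgroup.normalizer (Cfsg.centerThompsonAOf ((P : Subgroup G)) : Set G) := by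
  rw [← Lib.ZJ.zj_zero_eq]
  induction hk : Nat.card (P : Subgroup G) - Nat.card ((P : Subgroup G) ⊓ Subgroup.normalizer (Q : Set G) : Subgroup G)
    using Nat.strong_induction_on generalizing Q with
  | _ k IH =>
  subst hk
  set NN := Subgroup.normalizer (Lib.ZJ.zj 0 (P : Subgroup G) : Set G) with hNN
  set M := Subgroup.normalizer (Q : Set G) with hM
  set R₀ := (P : Subgroup G) ⊓ M with hR₀
  have bigger : ∀ Q' : Subgroup G, Q' ≤ (P : Subgroup G) → Q' ≠ ⊥ →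
      Nat.card R₀ < Nat.card ((P : Subgroup G) ⊓ Subgroup.normalizer (Q' : Set G) : Subgroup G) →
      Subgroup.normalizer (Q' : Set G) ≤ NN := by
    intro Q' h1 h2 h3
    refine IH _ ?_ Q' h1 h2 rfl
    have := Subgroup.card_le_of_le
      (inf_le_left : (P : Subgroup G) ⊓ Subgroup.normalizer (Q' : Set G) ≤ P)
    omega
  have hQR₀ : Q ≤ R₀ := le_inf hQP Subgroup.le_normalizer
  have hR₀1 : R₀ ≠ ⊥ := fun h => hQ1 (le_bot_iff.1 (hQR₀.trans h.le))
  obtain ⟨h0, hc, hs⟩ := hloc Q (P.2.to_le hQP) hQ1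
  obtain ⟨R, hR⟩ := ((P.2.to_le inf_le_left : IsPGroup p R₀).comap_subtype
    (K := M)).exists_le_sylow
  have hn := Lib.ZJ.zj_normal_of_isPStable (m := 0) hp (Or.inl rfl) h0 hc hs R
  set R' := (R : Subgroup M).map M.subtype with hR'
  have hR'p : IsPGroup p R' := R.2.map _
  have hR₀R' : R₀ ≤ R' := fun x hx => ⟨⟨x, hx.2⟩, hR (Subgroup.mem_subgroupOf.2 hx), rfl⟩
  have hR'M : R' ≤ M := Subgroup.map_subtype_le _
  have hMW : M ≤ Subgroup.normalizer (Lib.ZJ.zj 0 R' : Set G) := by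
    rw [hR', Lib.ZJ.zj_map (m := 0) M.subtype M.subtype_injective.injOn]
    intro g hg
    refine Lib.ZJ.mem_normalizer_of_conj_le ?_
    rintro _ ⟨x, hx, rfl⟩
    exact ⟨⟨g, hg⟩ * x * ⟨g, hg⟩⁻¹, hn.conj_mem x hx _, rfl⟩
  by_cases hPM : R₀ = (P : Subgroup G)
  · have he : R' = (P : Subgroup G) := P.is_maximal' hR'p (hPM ▸ hR₀R')
    rwa [he] at hMW
  have hPlt := Lib.Transfer.lt_inf_normalizer P.2 (lt_of_le_of_ne inf_le_left hPM)
  have hN0 : Subgroup.normalizer (R₀ : Set G) ≤ NN :=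
    bigger R₀ inf_le_left hR₀1 (Set.ncard_lt_ncard hPlt (Set.toFinite _))
  by_cases heq : R₀ = R'
  · rw [← heq] at hMW
    refine hMW.trans (bigger _ ((Lib.ZJ.zj_le 0 R₀).trans inf_le_left)
      (Lib.ZJ.zj_ne_bot (p := p) (P.2.to_le inf_le_left) hR₀1 (Or.inl rfl)) ?_)
    exact Set.ncard_lt_ncard (hPlt.trans_le (inf_le_inf_left _ (Lib.ZJ.normalizer_le 0 R₀)))
      (Set.toFinite _)
  have hT := Lib.Transfer.lt_inf_normalizer hR'p (lt_of_le_of_ne hR₀R' heq)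
  set T := R' ⊓ Subgroup.normalizer (R₀ : Set G) with hTdef
  have hPNN : (P : Subgroup G) ≤ NN := Subgroup.le_normalizer.trans (Lib.ZJ.normalizer_le 0 _)
  have hTNN : T ≤ NN := inf_le_right.trans hN0
  obtain ⟨n, hn', hnT⟩ : ∃ n ∈ NN, ∀ t ∈ T, n * t * n⁻¹ ∈ (P : Subgroup G) := by
    obtain ⟨W, hW⟩ := ((hR'p.to_le inf_le_left : IsPGroup p T).comap_subtype (K := NN)).exists_le_sylow
    obtain ⟨n, hn'⟩ := MulAction.exists_smul_eq NN W (P.subtype hPNN)
    refine ⟨n, n.2, fun t ht => ?_⟩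
    have h1 : n * (⟨t, hTNN ht⟩ : NN) * n⁻¹ ∈ ((P.subtype hPNN : Sylow p NN) : Subgroup NN) := by
      rw [← hn']
      exact ⟨⟨t, hTNN ht⟩, hW (Subgroup.mem_subgroupOf.2 ht), rfl⟩
    exact h1
  set Q' := Q.map (MulAut.conj n).toMonoidHom with hQ'
  have hQT : Q ≤ T := hQR₀.trans (le_inf hR₀R' Subgroup.le_normalizer)
  have hQ'P : Q' ≤ (P : Subgroup G) := by
    rintro _ ⟨x, hx, rfl⟩; exact hnT x (hQT hx)
  have hQ'1 : Q' ≠ ⊥ := fun h => hQ1
    ((Subgroup.map_eq_bot_iff_of_injective Q (f := (MulAut.conj n).toMonoidHom) (MulAut.conj n).injective).1 h)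
  have hmem : ∀ g ∈ M, n * g * n⁻¹ ∈ Subgroup.normalizer (Q' : Set G) := by
    intro g hg
    refine Lib.ZJ.mem_normalizer_of_conj_le ?_
    rintro _ ⟨x, hx, rfl⟩
    refine ⟨g * x * g⁻¹, (Subgroup.mem_normalizer_iff.1 hg x).1 hx, ?_⟩
    simp only [MulEquiv.coe_toMonoidHom, MulAut.conj_apply]; group
  have hN' := bigger Q' hQ'P hQ'1 <| by
    refine (Set.ncard_lt_ncard hT (Set.toFinite _)).trans_le ?_
    show Nat.card T ≤ _
    rw [← Subgroup.card_map_of_injective (K := T) (f := (MulAut.conj n).toMonoidHom) (MulAut.conj n).injective]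
    refine Subgroup.card_le_of_le ?_
    rintro _ ⟨t, ht, rfl⟩
    exact ⟨hnT t ht, hmem t (hR'M ht.1)⟩
  intro g hg
  have := NN.mul_mem (NN.mul_mem (NN.inv_mem hn') (hN' (hmem g hg))) hn'
  simpa [mul_assoc] using this

end Cfsg.Agent.S0658
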