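import Cfsg.Statements.S0662
import Cfsg.Agent.Lib.H66.MaxClass.Basic

set_option autoImplicit false
open Cfsg

namespace Cfsg.Agent.S0662

open Cfsg.Agent
open Cfsg.Agent.Lib.H66.MaxClass (IsMax L)
open scoped commutatorElement

theorem card_subgroups_order_p {p : ℕ} [Fact p.Prime] {Q : Type*} [Group Q] [Finite Q]
    (hexp : ∀ a : Q, a ^ p = 1) (hcard : Nat.card Q = p ^ 2) :
    Nat.card {H : Subgroup Q // Nat.card H = p} = p + 1 := by
  have hp : p.Prime := Fact.out
  classical
  let f : {a : Q // a ≠ 1} → {H : Subgroup Q // Nat.card H = p} := fun a =>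
    ⟨Subgroup.zpowers a.1, by rw [Nat.card_zpowers]; exact orderOf_eq_prime (hexp _) a.2⟩
  have hfib : ∀ H, Nat.card {a // f a = H} = p - 1 := by
    rintro ⟨H, hH⟩
    have e2 : {a // f a = (⟨H, hH⟩ : {H : Subgroup Q // Nat.card H = p})} ≃ {a : H // a ≠ 1} :=
      { toFun := fun a => ⟨⟨a.1.1, by
          have h' : Subgroup.zpowers a.1.1 = H := congrArg Subtype.val a.2
          exact (SetLike.ext_iff.mp h' _).mp (Subgroup.mem_zpowers a.1.1)⟩,
          fun h => a.1.2 (congrArg Subtype.val h)⟩
        invFun := fun a => ⟨⟨a.1.1, fun h => a.2 (Subtype.ext h)⟩,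
          Subtype.ext (Subgroup.eq_of_le_of_card_ge (Subgroup.zpowers_le.mpr a.1.2) (by
            show Nat.card H ≤ Nat.card (Subgroup.zpowers a.1.1)
            rw [Nat.card_zpowers, hH, orderOf_eq_prime (hexp _) (fun h => a.2 (Subtype.ext h))]))⟩
        left_inv := fun a => rfl
        right_inv := fun a => rfl }
    rw [Nat.card_congr e2]
    haveI := Fintype.ofFinite H
    rw [Nat.card_eq_fintype_card, Fintype.card_subtype_compl, Fintype.card_subtype_eq,
      ← Nat.card_eq_fintype_card, hH]
  haveI := Fintype.ofFinite Q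
  haveI := Fintype.ofFinite {H : Subgroup Q // Nat.card H = p}
  have htot : Nat.card {a : Q // a ≠ 1} = Nat.card {H : Subgroup Q // Nat.card H = p} * (p - 1) := by
    rw [Nat.card_congr (Equiv.sigmaFiberEquiv f).symm, Nat.card_sigma,
      Finset.sum_congr rfl (fun H _ => hfib H), Finset.sum_const, Finset.card_univ, smul_eq_mul,
      Nat.card_eq_fintype_card]
  rw [Nat.card_eq_fintype_card, Fintype.card_subtype_compl, Fintype.card_subtype_eq,
    ← Nat.card_eq_fintype_card, hcard] at htot
  have hsq : p ^ 2 - 1 = (p + 1) * (p - 1) := by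
    have := Nat.sq_sub_sq p 1
    simpa using this
  rw [hsq] at htot
  exact (Nat.eq_of_mul_eq_mul_right (by have := hp.two_le; omega) htot).symm

/-- In a p-group of maximal class of order at least p³ the normal subgroups of index at least p² are exactly the terms of the lower central series, and there are exactly p + 1 normal subgroups of index p. -/
theorem result {G : Type*} [Group G] [Finite G] {p : ℕ} [Fact p.Prime] (n : ℕ) (hG : Nat.card G = p ^ n) (hcl : Group.nilpotencyClass G = n - 1) (hn : 3 ≤ n) : (∀ (N : Subgroup G) [N.Normal] (r : ℕ), 2 ≤ r → N.index = p ^ r → N = (⊤ : Subgroup G).lowerCentralSeries (r - 1)) ∧ Nat.card {N : Subgroup G // N.Normal ∧ N.index = p} = p + 1 := by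
  have h : IsMax p G n := ⟨hG, by omega, hcl⟩
  have hpp : p.Prime := Fact.out
  refine ⟨fun N _ r hr hNi => ?_, ?_⟩
  · obtain ⟨k, hk1, hkn, hle, hmin⟩ : ∃ k, 1 ≤ k ∧ k ≤ n - 1 ∧ L G k ≤ N ∧
        (k = 1 ∨ ¬ L G (k - 1) ≤ N) := by
      classical
      have hex : ∃ k, 1 ≤ k ∧ L G k ≤ N := ⟨n - 1, by omega, by rw [h.L_eq_bot le_rfl]; exact bot_le⟩
      obtain ⟨h1, h2⟩ := Nat.find_spec hex
      refine ⟨Nat.find hex, h1, Nat.find_le ⟨by omega, by rw [h.L_eq_bot le_rfl]; exact bot_le⟩, h2, ?_⟩
      by_cases hk : Nat.find hex = 1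
      · exact Or.inl hk
      · exact Or.inr fun hle => Nat.find_min hex (m := Nat.find hex - 1) (by omega) ⟨by omega, hle⟩
    have hidx : (L G k).index = p ^ (k + 1) := by
      have h1 := (L G k).card_mul_index
      rw [h.card_L hk1 hkn, hG] at h1
      refine Nat.eq_of_mul_eq_mul_left (pow_pos hpp.pos (n - 1 - k)) ?_
      rw [h1, ← pow_add]; congr 1; omega
    have key : N = L G k := by
      rcases hmin with rfl | hmin
      · have h1 := Subgroup.index_dvd_of_le hle
        rw [hNi, hidx, Nat.pow_dvd_pow_iff_le_right hpp.one_lt] at h1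
        exact (Subgroup.eq_of_le_of_card_ge hle (le_of_eq (by
          have e1 := N.card_mul_index
          have e2 := (L G 1).card_mul_index
          rw [hNi, show r = 1 + 1 by omega] at e1
          rw [hidx, ← e1] at e2
          exact (Nat.eq_of_mul_eq_mul_right (pow_pos hpp.pos _) e2).symm))).symm
      · by_contra hne
        have hk2 : k ≠ 1 := fun hk => by
          subst hk
          have h1 := Subgroup.index_dvd_of_le hle
          rw [hNi, hidx, Nat.pow_dvd_pow_iff_le_right hpp.one_lt] at h1
          exact hne ((Subgroup.eq_of_le_of_card_ge hle (le_of_eq (by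
            have e1 := N.card_mul_index
            have e2 := (L G 1).card_mul_index
            rw [hNi, show r = 1 + 1 by omega] at e1
            rw [hidx, ← e1] at e2
            exact (Nat.eq_of_mul_eq_mul_right (pow_pos hpp.pos _) e2).symm))).symm)
        have hQ := h.quotient hk1 hkn
        have : (N.map (QuotientGroup.mk' (L G k))).Normal :=
          Subgroup.Normal.map inferInstance _ (QuotientGroup.mk'_surjective _)
        have hne' : N.map (QuotientGroup.mk' (L G k)) ≠ ⊥ := fun hb => by
          rw [Subgroup.map_eq_bot_iff, QuotientGroup.ker_mk'] at hb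
          exact hne (le_antisymm hb hle)
        have h2 := hQ.le_of_normal_ne_bot (by omega) _ hne'
        refine hmin fun z hz => ?_
        obtain ⟨a, ha, he⟩ := h2 ((h.mk_mem_L (show k + 1 - 2 ≤ k by omega)).mpr
          (show z ∈ L G (k + 1 - 2) by rwa [show k + 1 - 2 = k - 1 by omega]))
        have := N.mul_mem ha (hle (QuotientGroup.eq.mp he))
        rwa [mul_inv_cancel_left] at this
    subst key
    rw [hidx] at hNi
    have := Nat.pow_right_injective hpp.two_le hNi
    show L G k = L G (r - 1)
    rw [show r - 1 = k by omega]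
  · have hcard : Nat.card (G ⧸ L G 1) = p ^ 2 := by
      have := (h.quotient le_rfl (by omega)).card
      simpa using this
    have hexp : ∀ a : G ⧸ L G 1, a ^ p = 1 := by
      intro a
      obtain ⟨g, rfl⟩ := QuotientGroup.mk_surjective a
      rw [← QuotientGroup.mk_pow, QuotientGroup.eq_one_iff]
      exact h.pow_mem_L_one hn g
    rw [← card_subgroups_order_p hexp hcard]
    have key : ∀ N : Subgroup G, (N.Normal ∧ N.index = p) ↔ (L G 1 ≤ N ∧ N.index = p) := by
      intro N
      refine ⟨fun ⟨hN, hi⟩ => ⟨?_, hi⟩, fun ⟨hle, hi⟩ => ⟨?_, hi⟩⟩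
      · haveI : IsCyclic (G ⧸ N) := isCyclic_of_prime_card (p := p) (by rw [← Subgroup.index_eq_card, hi])
        show ⁅(⊤ : Subgroup G), (⊤ : Subgroup G)⁆ ≤ N
        refine Subgroup.commutator_le.2 fun x _ y _ => ?_
        rw [← QuotientGroup.eq_one_iff, ← QuotientGroup.mk'_apply, map_commutatorElement,
          commutatorElement_eq_one_iff_mul_comm]
        exact IsCyclic.commGroup.mul_comm _ _
      · refine ⟨fun x hx g => ?_⟩
        have h1 : ⁅g, x⁆ ∈ N := hle (Lib.H66.MaxClass.top_comm_mem (Subgroup.mem_top x : x ∈ L G 0) g)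
        have := N.mul_mem h1 hx
        simpa [commutatorElement_def] using this
    rw [Nat.card_congr (Equiv.subtypeEquivRight key)]
    refine Nat.card_congr
      { toFun := fun B => ⟨B.1.map (QuotientGroup.mk' (L G 1)), ?_⟩
        invFun := fun H => ⟨H.1.comap (QuotientGroup.mk' (L G 1)), ?_, ?_⟩
        left_inv := fun B => Subtype.ext (by
          simp only [Subgroup.comap_map_eq, QuotientGroup.ker_mk']; exact sup_eq_left.mpr B.2.1)
        right_inv := fun H => Subtype.ext
          (Subgroup.map_comap_eq_self_of_surjective (QuotientGroup.mk'_surjective _) _) }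
    · have h2 := (B.1.map (QuotientGroup.mk' (L G 1))).card_mul_index
      rw [Subgroup.index_map_eq B.1 (QuotientGroup.mk'_surjective _)
        (by rw [QuotientGroup.ker_mk']; exact B.2.1), B.2.2, hcard, sq] at h2
      exact Nat.eq_of_mul_eq_mul_right hpp.pos h2
    · intro z hz
      rw [Subgroup.mem_comap, QuotientGroup.mk'_apply, (QuotientGroup.eq_one_iff z).mpr hz]
      exact H.1.one_mem
    · rw [Subgroup.index_comap_of_surjective _ (QuotientGroup.mk'_surjective _)]
      have h2 := H.1.card_mul_index
      rw [H.2, hcard, sq] at h2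
      exact Nat.eq_of_mul_eq_mul_left hpp.pos h2

end Cfsg.Agent.S0662
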