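import Cfsg.Statements.S0663
import Cfsg.Agent.Lib.PGroup.Quadratic
import Cfsg.Agent.Lib.PSolvable.Core

set_option autoImplicit false
open Cfsg

namespace Cfsg.Agent.S0663

open Cfsg.Agent
open scoped commutatorElement
open Subgroup (mem_normalizer_iff_map_conj_eq)

/-- A p-group acts uniserially on a p-group N of order p^n exactly when the iterated commutator chain from N has length n; in that case the chain terms are all the invariant subgroups of N and they are normal in N. -/
theorem result {L : Type*} [Group L] [Finite L] {p : ℕ} [Fact p.Prime] (N G : Subgroup L) (hN : IsPGroup p N) (hG : IsPGroup p G) (hGN : G ≤ Subgroup.normalizer (N : Set L)) (n : ℕ) (hn : Nat.card N = p ^ n) : ((∀ H : Subgroup L, H ≤ N → G ≤ Subgroup.normalizer (H : Set L) → H ≠ ⊥ → (⁅H, G⁆).relIndex H = p) ↔ Cfsg.iterCommutator N G (n - 1) ≠ ⊥ ∨ n = 0) ∧ ((∀ H : Subgroup L, H ≤ N → G ≤ Subgroup.normalizer (H : Set L) → H ≠ ⊥ → (⁅H, G⁆).relIndex H = p) → ∀ H : Subgroup L, H ≤ N → G ≤ Subgroup.normalizer (H : Set L) → (∃ i ≤ n, H = Cfsg.iterCommutator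 N G i) ∧ N ≤ Subgroup.normalizer (H : Set L)) := by
  classical
  have hpp : p.Prime := Fact.out
  set X := N ⊔ G with hX
  have hXp : IsPGroup p X := hN.to_sup_of_normal_left' hG hGN
  have comm_le : ∀ {H K : Subgroup L}, K ≤ Subgroup.normalizer (H : Set L) → ⁅H, K⁆ ≤ H := fun {H K} hK =>
    Subgroup.commutator_le.2 fun x hx y hy => by
      rw [commutatorElement_def, mul_assoc x, mul_assoc x]
      exact H.mul_mem hx ((Subgroup.mem_normalizer_iff.1 (hK hy) _).1 (H.inv_mem hx))
  have comm_inv : ∀ {H K : Subgroup L}, K ≤ Subgroup.normalizer (H : Set L) →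
      K ≤ Subgroup.normalizer ((⁅H, K⁆ : Subgroup L) : Set L) := by
    intro H K hK k hk
    have hmap : ∀ {M : Subgroup L}, k ∈ Subgroup.normalizer (M : Set L) →
        M.map (MulAut.conj k).toMonoidHom = M := by
      intro M hM
      refine Subgroup.eq_of_le_of_card_ge ?_ (Subgroup.card_map_of_injective (MulAut.conj k).injective).ge
      rintro _ ⟨x, hx, rfl⟩
      exact (Subgroup.mem_normalizer_iff.1 hM x).1 hx
    have h := Subgroup.map_commutator H K (MulAut.conj k).toMonoidHom
    rw [hmap (hK hk), hmap (Subgroup.le_normalizer hk)] at h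
    exact mem_normalizer_iff_map_conj_eq.mpr h
  have lt_self : ∀ {H K : Subgroup L}, H ≤ N → H ≠ ⊥ → K ≤ X → K ≤ Subgroup.normalizer (H : Set L) →
      ⁅H, K⁆ < H := by
    intro H K hH hH1 hK hKH
    refine lt_of_le_of_ne (comm_le hKH) fun he => hH1 ?_
    exact Lib.Quadratic.eq_bot_of_le_commutator hXp (hH.trans le_sup_left)
      (he.ge.trans (Subgroup.commutator_mono le_rfl hK))
  have card_lt : ∀ {K H : Subgroup L}, H ≤ N → K < H → Nat.card K * p ≤ Nat.card H := by
    intro K H hH hlt
    obtain ⟨a, ha⟩ := IsPGroup.iff_card.1 (hN.to_le (hlt.le.trans hH))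
    obtain ⟨c, hc⟩ := IsPGroup.iff_card.1 (hN.to_le hH)
    have h1 : Nat.card K < Nat.card H := Set.ncard_lt_ncard hlt (Set.toFinite _)
    rw [ha, hc] at h1 ⊢
    rw [← pow_succ]
    exact Nat.pow_le_pow_right hpp.pos ((Nat.pow_lt_pow_iff_right hpp.one_lt).1 h1)
  set c : ℕ → Subgroup L := fun i => Cfsg.iterCommutator N G i with hc
  set d : ℕ → Subgroup L := fun i => Cfsg.iterCommutator N X i with hd
  have hc0 : c 0 = N := rfl
  have hcs : ∀ i, c (i + 1) = ⁅c i, G⁆ := fun i => rfl
  have hd0 : d 0 = N := rfl
  have hds : ∀ i, d (i + 1) = ⁅d i, X⁆ := fun i => rfl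
  have hXN : X ≤ Subgroup.normalizer (N : Set L) := sup_le Subgroup.le_normalizer hGN
  have hcinv : ∀ i, G ≤ Subgroup.normalizer (c i : Set L) := fun i => by
    induction i with
    | zero => exact hGN
    | succ i ih => rw [hcs]; exact comm_inv ih
  have hdinv : ∀ i, X ≤ Subgroup.normalizer (d i : Set L) := fun i => by
    induction i with
    | zero => exact hXN
    | succ i ih => rw [hds]; exact comm_inv ih
  have hdN : ∀ i, d i ≤ N := fun i => by
    induction i with
    | zero => exact le_rfl
    | succ i ih => rw [hds]; exact (comm_le (hdinv i)).trans ih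
  have hcd : ∀ i, c i ≤ d i := fun i => by
    induction i with
    | zero => exact le_rfl
    | succ i ih => rw [hcs, hds]; exact Subgroup.commutator_mono ih le_sup_right
  have hcN : ∀ i, c i ≤ N := fun i => (hcd i).trans (hdN i)
  have hup : ∀ i, d i = ⊥ ∨ Nat.card (d i) * p ^ i ≤ p ^ n := fun i => by
    induction i with
    | zero => right; rw [hd0, hn, pow_zero, mul_one]
    | succ i ih =>
      by_cases h : d i = ⊥
      · left; rw [hds, h, Subgroup.commutator_bot_left]
      · right
        refine le_trans ?_ (ih.resolve_left h)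
        rw [pow_succ', ← mul_assoc]
        exact Nat.mul_le_mul_right _ (card_lt (hdN i) (hds i ▸ lt_self (hdN i) h le_rfl (hdinv i)))
  have hdn : ∀ i, n ≤ i → d i = ⊥ := fun i hi => by
    rcases hup i with h | h
    · exact h
    · refine Subgroup.eq_bot_of_card_le _ ?_
      have h2 : p ^ n ≤ p ^ i := Nat.pow_le_pow_right hpp.pos hi
      exact Nat.le_of_mul_le_mul_right ((h.trans h2).trans (one_mul _).ge) (pow_pos hpp.pos i)
  have hcn : ∀ i, n ≤ i → c i = ⊥ := fun i hi => le_bot_iff.1 ((hcd i).trans (hdn i hi).le)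
  -- long chains
  have long : Cfsg.iterCommutator N G (n - 1) ≠ ⊥ ∨ n = 0 →
      ∀ i ≤ n, c i = d i ∧ Nat.card (c i) = p ^ (n - i) := by
    intro hlong i hi
    have hne : ∀ j, j < n → c j ≠ ⊥ := by
      intro j hj hbot
      rcases hlong with h | h
      · apply h
        have : ∀ t, c (j + t) = ⊥ := fun t => by
          induction t with
          | zero => exact hbot
          | succ t ih => rw [← add_assoc, hcs, ih, Subgroup.commutator_bot_left]
        have h2 := this (n - 1 - j)
        rwa [show j + (n - 1 - j) = n - 1 by omega] at h2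
      · omega
    have hlow : ∀ t, t ≤ n → p ^ t ≤ Nat.card (c (n - t)) := by
      intro t ht
      induction t with
      | zero => exact Nat.card_pos
      | succ t ih =>
        have h1 := hne (n - (t + 1)) (by omega)
        have h2 := card_lt (hcN _) (lt_self (hcN (n - (t + 1))) h1 le_sup_right (hcinv _))
        rw [← hcs, show n - (t + 1) + 1 = n - t by omega] at h2
        rw [pow_succ]
        exact (Nat.mul_le_mul_right p (ih (by omega))).trans h2
    have hupc : Nat.card (d i) ≤ p ^ (n - i) := by
      rcases hup i with h | h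
      · rw [h, Subgroup.card_bot]; exact Nat.one_le_pow _ _ hpp.pos
      · rw [← Nat.sub_add_cancel hi, pow_add] at h
        exact Nat.le_of_mul_le_mul_right h (pow_pos hpp.pos i)
    have h1 := hlow (n - i) (by omega)
    rw [show n - (n - i) = i by omega] at h1
    have he := Subgroup.eq_of_le_of_card_ge (hcd i) (hupc.trans h1)
    exact ⟨he, le_antisymm (he ▸ hupc) h1⟩
  have classify : Cfsg.iterCommutator N G (n - 1) ≠ ⊥ ∨ n = 0 →
      ∀ H : Subgroup L, H ≤ N → G ≤ Subgroup.normalizer (H : Set L) →
        (∃ i ≤ n, H = c i) ∧ N ≤ Subgroup.normalizer (H : Set L) := by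
    intro hlong H hH hGH
    obtain ⟨hcd', hcard⟩ : (∀ i ≤ n, c i = d i) ∧ ∀ i ≤ n, Nat.card (c i) = p ^ (n - i) :=
      ⟨fun i hi => (long hlong i hi).1, fun i hi => (long hlong i hi).2⟩
    have hNn : ∀ j, N ≤ Subgroup.normalizer (c j : Set L) := by
      intro j
      rcases le_or_gt j n with hj | hj
      · rw [hcd' j hj]; exact le_sup_left.trans (hdinv j)
      · rw [hcn j hj.le]
        intro x _
        exact Subgroup.mem_normalizer_iff.2 fun y => by simp [Subgroup.mem_bot]
    have main : ∃ i ≤ n, H = c i := by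
      by_cases hHb : H = ⊥
      · exact ⟨n, le_rfl, hHb.trans (hcn n le_rfl).symm⟩
      obtain ⟨i, hi, hHi, hmax⟩ : ∃ i, i < n ∧ H ≤ c i ∧ ¬ H ≤ c (i + 1) := by
        by_contra hno
        push Not at hno
        have : ∀ i, i ≤ n → H ≤ c i := fun i hi => by
          induction i with
          | zero => exact hH
          | succ i ih => exact hno i (by omega) (ih (by omega))
        exact hHb (le_bot_iff.1 ((this n le_rfl).trans (hcn n le_rfl).le))
      refine ⟨i, hi.le, ?_⟩
      have hle : ∀ j, i + 1 ≤ j → c i ≤ H ⊔ c j := by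
        intro j hj
        induction j, hj using Nat.le_induction with
        | base =>
          have hsub : H ⊔ c (i + 1) ≤ c i := sup_le hHi ((hcs i).trans_le (comm_le (hcinv i)))
          refine (Subgroup.eq_of_le_of_card_ge hsub ?_).ge
          have hlt : c (i + 1) < H ⊔ c (i + 1) :=
            lt_of_le_not_ge le_sup_right fun h => hmax (le_sup_left.trans h)
          have h2 := card_lt (hsub.trans (hcN i)) hlt
          rw [hcard (i + 1) hi, ← pow_succ, show n - (i + 1) + 1 = n - i by omega,
            ← hcard i hi.le] at h2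
          exact h2
        | succ j hj ih =>
          have hstep : c (i + 1) ≤ H ⊔ c (j + 1) := by
            rw [hcs i]
            refine Subgroup.commutator_le.2 fun z hz g hg => ?_
            have hz' := ih hz
            rw [← SetLike.mem_coe, Subgroup.coe_mul_of_left_le_normalizer_right _ _
              (hH.trans (hNn j))] at hz'
            obtain ⟨x, hx, y, hy, rfl⟩ := hz'
            rw [show ⁅x * y, g⁆ = x * ⁅y, g⁆ * x⁻¹ * ⁅x, g⁆ by
              simp only [commutatorElement_def]; group]
            refine Subgroup.mul_mem _ (Subgroup.mem_sup_right ?_)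
              (Subgroup.mem_sup_left (comm_le hGH (Subgroup.commutator_mem_commutator hx hg)))
            exact (Subgroup.mem_normalizer_iff.1 (hNn (j + 1) (hH hx)) _).1
              (hcs j ▸ Subgroup.commutator_mem_commutator hy hg)
          have hbase : c i ≤ H ⊔ c (i + 1) := by
            have hsub : H ⊔ c (i + 1) ≤ c i := sup_le hHi ((hcs i).trans_le (comm_le (hcinv i)))
            refine (Subgroup.eq_of_le_of_card_ge hsub ?_).ge
            have hlt : c (i + 1) < H ⊔ c (i + 1) :=
              lt_of_le_not_ge le_sup_right fun h => hmax (le_sup_left.trans h)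
            have h2 := card_lt (hsub.trans (hcN i)) hlt
            rw [hcard (i + 1) hi, ← pow_succ, show n - (i + 1) + 1 = n - i by omega,
              ← hcard i hi.le] at h2
            exact h2
          exact hbase.trans (sup_le le_sup_left hstep)
      refine le_antisymm hHi ?_
      have h := hle n hi
      rwa [hcn n le_rfl, sup_bot_eq] at h
    obtain ⟨i, hi, rfl⟩ := main
    exact ⟨⟨i, hi, rfl⟩, hNn i⟩
  have back : Cfsg.iterCommutator N G (n - 1) ≠ ⊥ ∨ n = 0 → ∀ H : Subgroup L, H ≤ N →
      G ≤ Subgroup.normalizer (H : Set L) → H ≠ ⊥ → (⁅H, G⁆).relIndex H = p := by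
    intro hlong H hH hGH hH1
    obtain ⟨⟨i, hi, rfl⟩, -⟩ := classify hlong H hH hGH
    have hin : i < n := lt_of_le_of_ne hi fun h => hH1 (hcn i h.ge)
    rw [← hcs]
    have h1 := Lib.PSolvable.card_mul_relIndex ((hcs i).trans_le (comm_le (hcinv i)))
    rw [(long hlong i hi).2, (long hlong (i + 1) hin).2,
      show n - i = n - (i + 1) + 1 by omega, pow_succ] at h1
    exact Nat.eq_of_mul_eq_mul_left (pow_pos hpp.pos _) h1
  have fwd : (∀ H : Subgroup L, H ≤ N → G ≤ Subgroup.normalizer (H : Set L) → H ≠ ⊥ →
      (⁅H, G⁆).relIndex H = p) → Cfsg.iterCommutator N G (n - 1) ≠ ⊥ ∨ n = 0 := by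
    intro hU
    refine (Nat.eq_zero_or_pos n).elim Or.inr fun hn0 => Or.inl ?_
    have hcard : ∀ i, i ≤ n → Nat.card (c i) = p ^ (n - i) := by
      intro i hi
      induction i with
      | zero => rw [hc0, hn, Nat.sub_zero]
      | succ i ih =>
        have h := ih (by omega)
        have hne : c i ≠ ⊥ := fun hb => by
          rw [hb, Subgroup.card_bot] at h
          have := (Nat.pow_eq_one.1 h.symm).resolve_left hpp.ne_one
          omega
        have h1 := Lib.PSolvable.card_mul_relIndex ((hcs i).trans_le (comm_le (hcinv i)))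
        rw [hcs i, hU _ (hcN i) (hcinv i) hne, h,
          show n - i = n - (i + 1) + 1 by omega, pow_succ] at h1
        rw [hcs i]
        exact Nat.eq_of_mul_eq_mul_right hpp.pos h1
    intro hb
    have h := hcard (n - 1) (by omega)
    rw [show c (n - 1) = ⊥ from hb, Subgroup.card_bot, show n - (n - 1) = 1 by omega, pow_one] at h
    exact hpp.ne_one h.symm
  exact ⟨⟨fwd, back⟩, fun hU H hH hGH => classify (fwd hU) H hH hGH⟩

end Cfsg.Agent.S0663
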