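import Cfsg.Statements.S0666
import Mathlib
import Cfsg.Agent.Lib.Frobenius.Kernel
-- import your own Cfsg.Agent.* helpers here

set_option autoImplicit false
open Cfsg

namespace Cfsg.Agent.S0666

/-- A Frobenius group acting on a nontrivial abelian group of order prime to that of its kernel, with the kernel acting without nontrivial fixed points, has a complement with a nontrivial fixed point. -/
theorem result {G : Type*} [Group G] [Finite G] (V F : Subgroup G) (hVab : IsMulCommutative V) (hV1 : V ≠ ⊥) (hFV : F ≤ Subgroup.normalizer (V : Set G)) (H : Subgroup ↥F) (hH : Cfsg.IsFrobeniusComplement H) (hcop : (Nat.card V).Coprime (Nat.card (Cfsg.frobeniusKernel H))) (hCK : V ⊓ Subgroup.centralizer (Subtype.val '' Cfsg.frobeniusKernel H : Set G) = ⊥) : V ⊓ Subgroup.centralizer ((H.map F.subtype : Subgroup G) : Set G) ≠ ⊥ := by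
  intro hCH
  obtain ⟨K, hKeq, hKn, hKH⟩ := Cfsg.Agent.Lib.Frobenius.exists_kernel hH
  let : CommGroup V := { (inferInstance : Group V) with mul_comm := hVab.is_comm.comm }
  classical
  let : Fintype K := Fintype.ofFinite _
  let : Fintype H := Fintype.ofFinite _
  let φ : ↥F →* MulAut V := V.normalizerMonoidHom.comp (Subgroup.inclusion hFV)
  have hφ : ∀ (f : ↥F) (w : V), ((φ f w : V) : G) = f.1 * w.1 * f.1⁻¹ := fun f w => rfl
  have hfix : ∀ (w : V) (S : Subgroup ↥F), (∀ s ∈ S, φ s w = w) →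
      (w : G) ∈ Subgroup.centralizer ((S.map F.subtype : Subgroup G) : Set G) := by
    intro w S hw
    refine Subgroup.mem_centralizer_iff.mpr ?_
    rintro _ ⟨s, hs, rfl⟩
    have h := congrArg (fun u : V => (u : G)) (hw s hs)
    simp only [hφ] at h
    exact mul_inv_eq_iff_eq_mul.mp h
  have hK1 : ∀ w : V, (∀ k ∈ K, φ k w = w) → w = 1 := by
    intro w hw
    have h := hfix w K hw
    have h' : (w : G) ∈ V ⊓ Subgroup.centralizer (Subtype.val '' Cfsg.frobeniusKernel H : Set G) := by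
      refine ⟨w.2, ?_⟩
      rw [← hKeq]
      exact h
    rw [hCK, Subgroup.mem_bot] at h'
    exact Subtype.ext h'
  have hH1 : ∀ w : V, (∀ s ∈ H, φ s w = w) → w = 1 := by
    intro w hw
    have h' : (w : G) ∈ V ⊓ Subgroup.centralizer ((H.map F.subtype : Subgroup G) : Set G) :=
      ⟨w.2, hfix w H hw⟩
    rw [hCH, Subgroup.mem_bot] at h'
    exact Subtype.ext h'
  have sumK : ∀ w : V, ∏ k : K, φ k w = 1 := by
    refine fun w => hK1 _ fun s hs => ?_
    rw [map_prod]
    refine Fintype.prod_equiv (Equiv.mulLeft (⟨s, hs⟩ : K)) _ _ fun k => ?_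
    simp only [Equiv.coe_mulLeft, Subgroup.coe_mul, map_mul, MulAut.mul_apply]
  have sumH : ∀ w : V, ∏ h : H, φ h w = 1 := by
    refine fun w => hH1 _ fun s hs => ?_
    rw [map_prod]
    refine Fintype.prod_equiv (Equiv.mulLeft (⟨s, hs⟩ : H)) _ _ fun k => ?_
    simp only [Equiv.coe_mulLeft, Subgroup.coe_mul, map_mul, MulAut.mul_apply]
  refine hV1 ((Subgroup.eq_bot_iff_forall _).mpr fun x hx => ?_)
  set v : V := ⟨x, hx⟩ with hv
  suffices hv1 : v = 1 from congrArg Subtype.val hv1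
  have total : ∏ k : K, ∏ h : H, φ ((k : ↥F) * h * (k : ↥F)⁻¹) v = 1 := by
    refine Finset.prod_eq_one fun k _ => ?_
    simp only [map_mul, MulAut.mul_apply]
    rw [← map_prod, sumH, map_one]
  rw [Finset.prod_comm] at total
  rw [Finset.prod_eq_single (1 : H) ?_ (by simp)] at total
  · simp only [Subgroup.coe_one, mul_one, mul_inv_cancel, map_one, MulAut.one_apply,
      Finset.prod_const, Finset.card_univ] at total
    have h1 := orderOf_dvd_of_pow_eq_one total
    have h2 : orderOf v ∣ Nat.card V := orderOf_dvd_natCard v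
    have hcard : Nat.card (Cfsg.frobeniusKernel H) = Fintype.card K := by
      rw [← Nat.card_eq_fintype_card, ← hKeq]; rfl
    rw [hcard] at hcop
    exact orderOf_eq_one_iff.mp (Nat.eq_one_of_dvd_coprimes hcop h2 h1)
  · intro h _ hne
    let T : K → K := fun k => ⟨(k : ↥F) * ((h : ↥F) * (k : ↥F)⁻¹ * (h : ↥F)⁻¹),
      K.mul_mem k.2 (hKn.conj_mem _ (K.inv_mem k.2) _)⟩
    have hT : Function.Bijective T := by
      refine Finite.injective_iff_bijective.mp fun k₁ k₂ e => ?_
      have e' : (k₁ : ↥F) * ((h : ↥F) * (k₁ : ↥F)⁻¹ * (h : ↥F)⁻¹) =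
          (k₂ : ↥F) * ((h : ↥F) * (k₂ : ↥F)⁻¹ * (h : ↥F)⁻¹) := congrArg Subtype.val e
      have hc : ((k₂ : ↥F)⁻¹ * k₁) ∈ Subgroup.centralizer ({(h : ↥F)} : Set ↥F) := by
        refine Subgroup.mem_centralizer_singleton_iff.mpr ?_
        have e'' : (k₂ : ↥F)⁻¹ * ((k₁ : ↥F) * ((h : ↥F) * (k₁ : ↥F)⁻¹ * (h : ↥F)⁻¹)) * (h : ↥F) * k₁ =
            (h : ↥F) * ((k₂ : ↥F)⁻¹ * k₁) := by rw [e']; group
        rw [← e'']
        group
      have hm := Cfsg.Agent.Lib.Frobenius.centralizer_le hH h.2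
        (fun e0 => hne (Subtype.ext e0)) hc
      have hbot := Subgroup.disjoint_def.mp hKH.disjoint (K.mul_mem (K.inv_mem k₂.2) k₁.2) hm
      exact Subtype.ext (inv_mul_eq_one.mp hbot).symm
    calc ∏ k : K, φ ((k : ↥F) * h * (k : ↥F)⁻¹) v = ∏ k : K, φ (T k : ↥F) (φ (h : ↥F) v) := by
          refine Finset.prod_congr rfl fun k _ => ?_
          rw [← MulAut.mul_apply, ← map_mul]
          congr 2
          simp only [T]
          group
      _ = ∏ k : K, φ (k : ↥F) (φ (h : ↥F) v) := hT.prod_comp fun k : K => φ (k : ↥F) (φ (h : ↥F) v)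
      _ = 1 := sumK _

end Cfsg.Agent.S0666
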