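import Cfsg.Statements.S0668
import Cfsg.Agent.Lib.Perm.PermModule

set_option autoImplicit false
open Cfsg

namespace Cfsg.Agent.S0668

/-- The equivariant linear maps between the permutation modules of two finite `G`-sets form a space whose dimension is the number of `G`-orbits on the product of the two sets. -/
theorem result {G : Type*} [Group G] {K : Type*} [Field K] {Ω₁ Ω₂ : Type*} [Fintype Ω₁] [Fintype Ω₂] [MulAction G Ω₁] [MulAction G Ω₂] : Module.finrank K ((Cfsg.permRep K G Ω₁).linHom (Cfsg.permRep K G Ω₂)).invariants = Nat.card (MulAction.orbitRel.Quotient G (Ω₁ × Ω₂)) := by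
  classical
  let e : ((Cfsg.permRep K G Ω₁).linHom (Cfsg.permRep K G Ω₂)).invariants ≃ₗ[K]
      (MulAction.orbitRel.Quotient G (Ω₁ × Ω₂) → K) :=
    { toFun := fun A q => Quotient.liftOn' q (fun xy => A.1 (Pi.single xy.1 1) xy.2)
        (fun u v h => by
          obtain ⟨g, rfl⟩ := h
          have hA := congrArg (fun F : (Ω₁ → K) →ₗ[K] (Ω₂ → K) => F (Pi.single (g • v.1) 1) (g • v.2))
            (A.2 g)
          simp only [Representation.linHom_apply, LinearMap.comp_apply,
            Lib.PermModule.permRep_single, inv_smul_smul, Lib.PermModule.permRep_app] at hA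
          exact hA.symm)
      map_add' := fun A B => funext fun q => Quotient.inductionOn' q fun xy => rfl
      map_smul' := fun c A => funext fun q => Quotient.inductionOn' q fun xy => rfl
      invFun := fun M =>
        ⟨Lib.PermModule.kernelMap fun x y => M (Quotient.mk'' (x, y)),
          (Representation.mem_invariants _ _).mpr fun g => LinearMap.ext fun f => by
            rw [Representation.linHom_apply, LinearMap.comp_apply, LinearMap.comp_apply,
              Lib.PermModule.kernelMap_comm (G := G) (fun g x y => congrArg M
                (Quotient.sound' (show (g • x, g • y) ∈ MulAction.orbit G (x, y) from ⟨g, rfl⟩))),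
              ← Module.End.mul_apply, ← map_mul, mul_inv_cancel, map_one, Module.End.one_apply]⟩
      left_inv := fun A => Subtype.ext (LinearMap.pi_ext fun x c => by
        have hs : Pi.single x c = c • (Pi.single x 1 : Ω₁ → K) := by
          ext y; simp [Pi.single_apply]
        rw [hs, map_smul, map_smul]
        congr 1
        exact (Lib.PermModule.kernelMap_single _ x).trans (funext fun y => rfl))
      right_inv := fun M => funext fun q => Quotient.inductionOn' q fun xy =>
        congrFun (Lib.PermModule.kernelMap_single (fun x y => M (Quotient.mk'' (x, y))) xy.1) xy.2 }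
  rw [LinearEquiv.finrank_eq e, Module.finrank_pi, Nat.card_eq_fintype_card]

end Cfsg.Agent.S0668
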