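import Cfsg.Statements.S0671
import Cfsg.Agent.Lib.Perm.PermModule

set_option autoImplicit false
open Cfsg

namespace Cfsg.Agent.S0671

/-- If the heart of the permutation module in characteristic `p` of a transitive action of degree `p ^ f` has no trivial composition factor, the action is doubly transitive. The hypothesis is phrased without composition series: no invariant subspaces `W < W'` between the constants and the sum-zero functions with trivial action on the quotient. -/
theorem result {G : Type*} [Group G] [Finite G] {K : Type*} [Field K] {p f : ℕ} [Fact p.Prime] [CharP K p] {Ω : Type*} [Fintype Ω] [MulAction G Ω] [MulAction.IsPretransitive G Ω] (hf : 1 ≤ f) (hcard : Fintype.card Ω = p ^ f) (h : ∀ W W' : Subrepresentation (Cfsg.permRep K G Ω), (Cfsg.permConstants K G Ω).toSubmodule ≤ W.toSubmodule → W.toSubmodule < W'.toSubmodule → W'.toSubmodule ≤ (Cfsg.permSumZero K G Ω).toSubmodule → ∃ g : G, ∃ v ∈ W'.toSubmodule, Cfsg.permRep K G Ω g v - v ∉ W.toSubmodule) : MulAction.IsMultiplyPretransitive G Ω 2 := by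
  by_contra h2
  have hc : Nat.card Ω = p ^ f := by rw [Nat.card_eq_fintype_card]; exact hcard
  obtain ⟨N, hN, hN1, hNJ⟩ := Lib.PermModule.exists_endo_of_not_two (K := K) h2
  let imN : Subrepresentation (Cfsg.permRep K G Ω) → Subrepresentation (Cfsg.permRep K G Ω) :=
    fun S => ⟨S.toSubmodule.map N, fun g v hv => by
      obtain ⟨u, hu, rfl⟩ := hv
      exact ⟨_, S.apply_mem_toSubmodule g hu, hN g u⟩⟩
  set W := imN (Cfsg.permSumZero K G Ω)
  set W' := imN ⊤
  obtain ⟨a⟩ : Nonempty Ω := Fintype.card_pos_iff.mp (hcard ▸ pow_pos (Fact.out : p.Prime).pos f)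
  classical
  have hdiff : ∀ x : Ω, (Pi.single x (1 : K) - Pi.single a 1) ∈ (Cfsg.permSumZero K G Ω).toSubmodule :=
    fun x => by simp [Lib.PermModule.mem_permSumZero, Finset.sum_sub_distrib]
  have hWne : W.toSubmodule ≠ ⊥ := by
    intro hbot
    have hvan : ∀ v ∈ (Cfsg.permSumZero K G Ω).toSubmodule, N v = 0 := fun v hv => by
      have : N v ∈ W.toSubmodule := ⟨v, hv, rfl⟩
      rw [hbot] at this
      exact (Submodule.mem_bot K).mp this
    set w := N (Pi.single a 1)
    have hw : ∀ x, N (Pi.single x 1) = w := fun x => by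
      have := hvan _ (hdiff x)
      rwa [map_sub, sub_eq_zero] at this
    have hfix : ∀ g, Cfsg.permRep K G Ω g w = w := fun g => by
      rw [← hN g, Lib.PermModule.permRep_single, hw]
    obtain ⟨v, hv⟩ := hNJ (w a)
    refine hv (funext fun x => ?_)
    have hv' : v = ∑ y, v y • (Pi.single y 1 : Ω → K) := by
      ext z; simp [Finset.sum_apply, Pi.single_apply]
    conv_lhs => rw [hv']
    simp only [map_sum, map_smul, hw, Finset.sum_apply, Pi.smul_apply, smul_eq_mul,
      Lib.PermModule.const_of_fixed hfix x a, ← Finset.sum_mul]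
    exact mul_comm _ _
  have hW'top : W'.toSubmodule ≠ ⊤ := by
    intro htop
    have hsurj : Function.Surjective N := fun y => by
      have : y ∈ W'.toSubmodule := htop ▸ Submodule.mem_top
      obtain ⟨u, -, hu⟩ := this
      exact ⟨u, hu⟩
    have := LinearMap.injective_iff_surjective.mpr hsurj (hN1.trans (map_zero N).symm)
    exact one_ne_zero (congrFun this a)
  have hle : W.toSubmodule ≤ W'.toSubmodule := Submodule.map_mono le_top
  have hlt : W.toSubmodule < W'.toSubmodule := by
    refine lt_of_le_of_ne hle fun heq => ?_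
    let kerN : Subrepresentation (Cfsg.permRep K G Ω) := ⟨LinearMap.ker N, fun g v hv => by
      rw [LinearMap.mem_ker] at hv ⊢; rw [hN, hv, map_zero]⟩
    by_cases hk : kerN.toSubmodule = ⊤
    · obtain ⟨v, hv⟩ := hNJ 0
      have : v ∈ kerN.toSubmodule := hk ▸ Submodule.mem_top
      exact hv (by ext x; simp [LinearMap.mem_ker.mp this])
    · have hker := Lib.PermModule.le_sumZero hc kerN hk
      have : N (Pi.single a 1) ∈ W.toSubmodule := by
        rw [heq]; exact ⟨_, Submodule.mem_top, rfl⟩
      obtain ⟨u, hu, hu'⟩ := this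
      have hd : (Pi.single a (1 : K) - u) ∈ (Cfsg.permSumZero K G Ω).toSubmodule :=
        hker (show N _ = 0 by rw [map_sub, hu', sub_self])
      have := (Cfsg.permSumZero K G Ω).toSubmodule.add_mem hd hu
      simp [Lib.PermModule.mem_permSumZero] at this
  obtain ⟨g, v, ⟨u, -, rfl⟩, hv⟩ := h W W' (Lib.PermModule.constants_le hc W hWne) hlt
    (Lib.PermModule.le_sumZero hc W' hW'top)
  refine hv ⟨Cfsg.permRep K G Ω g u - u, ?_, by rw [map_sub, hN]⟩
  show ∑ x, (u (g⁻¹ • x) - u x) = 0
  rw [Finset.sum_sub_distrib, Fintype.sum_equiv (MulAction.toPerm g⁻¹) (fun x => u (g⁻¹ • x)) u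
    (fun x => rfl), sub_self]

end Cfsg.Agent.S0671
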