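import Cfsg.Statements.S0677
import Cfsg.Agent.Lib.Perm.SolvablePrimeDegree
import Cfsg.Agent.S0676

set_option autoImplicit false
open Cfsg

namespace Cfsg.Agent.S0677

open MulAction in
/-- A `3`-transitive group of prime degree has no other subgroups of index `p`. -/
theorem symmetric_design {G : Type*} [Group G] [Finite G] {X : Type*} [MulAction G X] [Fintype X]
    [DecidableEq X] {p : ℕ} (hp : p.Prime) (hX : Fintype.card X = p)
    (h3 : IsMultiplyPretransitive G X 3) (H : Subgroup G) (hH : H.index = p) (Δ : Finset X)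
    (hΔ : ∀ h ∈ H, Δ.image (h • ·) = Δ) (hk2 : 2 ≤ Δ.card) (hk : Δ.card + 2 ≤ p) : False := by
  classical
  haveI : Fintype G := Fintype.ofFinite G
  set k := Δ.card with hkdef
  set 𝔅 : Finset (Finset X) := (Finset.univ : Finset G).image (fun g => Δ.image (g • ·)) with h𝔅
  have hcX : Nat.card X = p := by rw [Nat.card_eq_fintype_card, hX]
  have h2 : IsMultiplyPretransitive G X 2 :=
    isMultiplyPretransitive_of_le (n := 3) (by omega) (by omega)
  haveI : IsPretransitive G X := Lib.Perm.isPretransitive_of_two h2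
  have hmem : ∀ B, B ∈ 𝔅 ↔ ∃ g : G, Δ.image (g • ·) = B := fun B => by simp [h𝔅]
  have hBcard : ∀ B ∈ 𝔅, B.card = k := by
    intro B hB
    obtain ⟨g, rfl⟩ := (hmem B).mp hB
    exact Finset.card_image_of_injective _ fun a b e => smul_left_cancel g e
  -- there are `p` blocks
  have hcardB : 𝔅.card = p := by
    let S : Subgroup G :=
      { carrier := {g | Δ.image (g • ·) = Δ}
        one_mem' := by simp
        mul_mem' := fun {a b} (ha : Δ.image (a • ·) = Δ) (hb : Δ.image (b • ·) = Δ) => by
          show Δ.image ((a * b) • ·) = Δ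
          conv_rhs => rw [← ha, ← hb, Finset.image_image]
          simp [Function.comp_def, mul_smul]
        inv_mem' := fun {a} (ha : Δ.image (a • ·) = Δ) => by
          show Δ.image (a⁻¹ • ·) = Δ
          conv_lhs => rw [← ha, Finset.image_image]
          simp [Function.comp_def] }
    have hSH : S = H := by
      have hle : H ≤ S := hΔ
      have hne : S ≠ ⊤ := fun e => by
        obtain ⟨a, ha⟩ : Δ.Nonempty := Finset.card_pos.mp (by omega)
        obtain ⟨b, -, hb⟩ := Finset.exists_mem_notMem_of_card_lt_card (s := Δ) (t := Finset.univ)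
          (by rw [Finset.card_univ, hX]; omega)
        obtain ⟨g, hg⟩ := exists_smul_eq G a b
        have hgS : g ∈ S := e ▸ Subgroup.mem_top g
        exact hb ((show Δ.image (g • ·) = Δ from hgS) ▸ Finset.mem_image.mpr ⟨a, ha, hg⟩)
      have hd := Subgroup.relIndex_mul_index hle
      rw [hH] at hd
      rcases hp.eq_one_or_self_of_dvd S.index (Dvd.intro_left _ hd) with h | h
      · exact absurd (Subgroup.index_eq_one.mp h) hne
      · rw [h, mul_eq_right₀ hp.ne_zero, Subgroup.relIndex_eq_one] at hd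
        exact le_antisymm hd hle
    rw [← hH, ← hSH, Subgroup.index_eq_card, ← Nat.card_eq_finsetCard]
    refine Nat.card_congr (Equiv.symm (Equiv.ofBijective
      (Quotient.lift (fun g => (⟨Δ.image (g • ·), (hmem _).mpr ⟨g, rfl⟩⟩ : 𝔅)) ?_) ⟨?_, ?_⟩))
    · intro a b hab
      have hab' : Δ.image ((a⁻¹ * b) • ·) = Δ := QuotientGroup.leftRel_apply.mp hab
      refine Subtype.ext ?_
      show Δ.image (a • ·) = Δ.image (b • ·)
      conv_lhs => rw [← hab', Finset.image_image]
      simp [Function.comp_def, mul_smul]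
    · intro x y
      induction x using Quotient.inductionOn with | _ a
      induction y using Quotient.inductionOn with | _ b
      intro hab
      refine Quotient.sound (QuotientGroup.leftRel_apply.mpr ?_)
      show Δ.image ((a⁻¹ * b) • ·) = Δ
      have hab' : Δ.image (a • ·) = Δ.image (b • ·) := congrArg Subtype.val hab
      rw [show Δ.image ((a⁻¹ * b) • ·) = (Δ.image (b • ·)).image (a⁻¹ • ·) by
        simp [Finset.image_image, Function.comp_def, mul_smul], ← hab', Finset.image_image]
      simp [Function.comp_def]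
    · rintro ⟨B, hB⟩
      obtain ⟨g, rfl⟩ := (hmem B).mp hB
      exact ⟨Quotient.mk'' g, rfl⟩
  -- invariance of incidence numbers
  have hmap : ∀ (g : G) B, B ∈ 𝔅 → B.image (g • ·) ∈ 𝔅 := by
    intro g B hB
    obtain ⟨h, rfl⟩ := (hmem B).mp hB
    exact (hmem _).mpr ⟨g * h, by simp [Finset.image_image, Function.comp_def, mul_smul]⟩
  have hinv : ∀ (g : G) (P : Finset X),
      (𝔅.filter fun B => P ⊆ B).card ≤ (𝔅.filter fun B => P.image (g • ·) ⊆ B).card := by
    intro g P
    refine Finset.card_le_card_of_injOn (fun B => B.image (g • ·)) ?_ ?_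
    · intro B hB
      simp only [Finset.coe_filter, Set.mem_setOf_eq] at hB ⊢
      exact ⟨hmap g B hB.1, Finset.image_subset_image hB.2⟩
    · intro B _ C _ e
      exact Finset.image_injective (fun a b e' => smul_left_cancel g e') e
  have htr : ∀ (P Q : Finset X), (∃ g : G, P.image (g • ·) = Q) → (∃ g : G, Q.image (g • ·) = P) →
      (𝔅.filter fun B => P ⊆ B).card = (𝔅.filter fun B => Q ⊆ B).card := by
    rintro P Q ⟨g, hg⟩ ⟨g', hg'⟩
    exact le_antisymm (hg ▸ hinv g P) (hg' ▸ hinv g' Q)
  obtain ⟨a, b, c, hab, hac, hbc⟩ := Fintype.two_lt_card_iff.mp (show 2 < Fintype.card X by omega)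
  let r := (𝔅.filter fun B => ({a} : Finset X) ⊆ B).card
  let L := (𝔅.filter fun B => ({a, b} : Finset X) ⊆ B).card
  let T := (𝔅.filter fun B => ({a, b, c} : Finset X) ⊆ B).card
  have hr : ∀ x, (𝔅.filter fun B => ({x} : Finset X) ⊆ B).card = r := by
    intro x
    refine htr _ _ ?_ ?_
    · obtain ⟨g, hg⟩ := exists_smul_eq G x a; exact ⟨g, by simp [hg]⟩
    · obtain ⟨g, hg⟩ := exists_smul_eq G a x; exact ⟨g, by simp [hg]⟩
  have hL : ∀ x y, x ≠ y → (𝔅.filter fun B => ({x, y} : Finset X) ⊆ B).card = L := by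
    intro x y hxy
    refine htr _ _ ?_ ?_
    · obtain ⟨g, h1, h2'⟩ := Lib.Perm.exists_smul_two h2 hxy hab
      exact ⟨g, by simp [Finset.image_insert, h1, h2']⟩
    · obtain ⟨g, h1, h2'⟩ := Lib.Perm.exists_smul_two h2 hab hxy
      exact ⟨g, by simp [Finset.image_insert, h1, h2']⟩
  have hT : ∀ x y z, x ≠ y → x ≠ z → y ≠ z →
      (𝔅.filter fun B => ({x, y, z} : Finset X) ⊆ B).card = T := by
    intro x y z hxy hxz hyz
    refine htr _ _ ?_ ?_
    · obtain ⟨g, h1, h2', h3'⟩ := Lib.Perm.exists_smul_three h3 hxy hxz hyz hab hac hbc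
      exact ⟨g, by simp [Finset.image_insert, h1, h2', h3']⟩
    · obtain ⟨g, h1, h2', h3'⟩ := Lib.Perm.exists_smul_three h3 hab hac hbc hxy hxz hyz
      exact ⟨g, by simp [Finset.image_insert, h1, h2', h3']⟩
  -- double counting
  have count : ∀ (P S : Finset X), ∑ B ∈ 𝔅.filter (fun B => P ⊆ B), (S.filter (· ∈ B)).card =
      ∑ y ∈ S, (𝔅.filter fun B => insert y P ⊆ B).card := by
    intro P S
    simp only [Finset.card_filter]
    rw [Finset.sum_comm]
    refine Finset.sum_congr rfl fun y _ => ?_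
    rw [Finset.sum_filter]
    refine Finset.sum_congr rfl fun B _ => ?_
    simp [Finset.insert_subset_iff, ite_and, and_comm]
  have e0 : p * k = p * r := by
    have h := count ∅ Finset.univ
    rw [Finset.filter_true_of_mem (s := 𝔅) (p := fun B => (∅ : Finset X) ⊆ B)
        (fun B _ => Finset.empty_subset _),
      Finset.sum_congr rfl (fun B hB => show (Finset.univ.filter (· ∈ B)).card = k by
        rw [Finset.filter_univ_mem]; exact hBcard B hB),
      Finset.sum_const, hcardB, smul_eq_mul,
      Finset.sum_congr rfl (fun y _ => show (𝔅.filter fun B => insert y (∅ : Finset X) ⊆ B).card = r from hr y),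
      Finset.sum_const, Finset.card_univ, hX, smul_eq_mul] at h
    exact h
  have hrk : r = k := (Nat.eq_of_mul_eq_mul_left hp.pos e0).symm
  have e1 : r * (k - 1) = (p - 1) * L := by
    have h := count {a} (Finset.univ.erase a)
    rw [Finset.sum_congr rfl (fun B hB => show ((Finset.univ.erase a).filter (· ∈ B)).card = k - 1 by
        simp only [Finset.mem_filter, Finset.singleton_subset_iff] at hB
        rw [Finset.filter_erase, Finset.filter_univ_mem, Finset.card_erase_of_mem hB.2, hBcard B hB.1]),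
      Finset.sum_const, smul_eq_mul,
      Finset.sum_congr rfl (fun y hy => show (𝔅.filter fun B => insert y ({a} : Finset X) ⊆ B).card = L
        from hL y a (Finset.ne_of_mem_erase hy)),
      Finset.sum_const, Finset.card_erase_of_mem (Finset.mem_univ _), Finset.card_univ, hX,
      smul_eq_mul] at h
    exact h
  have e2 : L * (k - 2) = (p - 2) * T := by
    have h := count {a, b} ((Finset.univ.erase a).erase b)
    rw [Finset.sum_congr rfl (fun B hB => show (((Finset.univ.erase a).erase b).filter (· ∈ B)).card = k - 2 by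
        simp only [Finset.mem_filter, Finset.insert_subset_iff, Finset.singleton_subset_iff] at hB
        rw [Finset.filter_erase, Finset.filter_erase, Finset.filter_univ_mem,
          Finset.card_erase_of_mem (Finset.mem_erase.mpr ⟨hab.symm, hB.2.2⟩),
          Finset.card_erase_of_mem hB.2.1, hBcard B hB.1]
        omega),
      Finset.sum_const, smul_eq_mul,
      Finset.sum_congr rfl (fun y hy => show (𝔅.filter fun B => insert y ({a, b} : Finset X) ⊆ B).card = T from
        hT y a b (Finset.ne_of_mem_erase (Finset.mem_of_mem_erase hy)) (Finset.ne_of_mem_erase hy) hab),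
      Finset.sum_const, Finset.card_erase_of_mem (Finset.mem_erase.mpr ⟨hab.symm, Finset.mem_univ _⟩),
      Finset.card_erase_of_mem (Finset.mem_univ _), Finset.card_univ, hX, smul_eq_mul] at h
    rw [h, show p - 1 - 1 = p - 2 by omega]
  -- a block through `a`
  have hLpos : 1 ≤ L := by
    by_contra h
    have h0 : L = 0 := by omega
    rw [h0, mul_zero] at e1
    rcases Nat.mul_eq_zero.mp e1 with h | h <;> omega
  obtain ⟨B₀, hB₀⟩ := Finset.card_pos.mp (show 0 < r by omega)
  obtain ⟨hB₀𝔅, haB₀⟩ := Finset.mem_filter.mp hB₀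
  rw [Finset.singleton_subset_iff] at haB₀
  set S := B₀.erase a with hS
  have hSc : S.card = k - 1 := by rw [hS, Finset.card_erase_of_mem haB₀, hBcard B₀ hB₀𝔅]
  set 𝔄 := (𝔅.filter fun B => ({a} : Finset X) ⊆ B).erase B₀ with h𝔄
  have h𝔄c : 𝔄.card = k - 1 := by rw [h𝔄, Finset.card_erase_of_mem hB₀]; omega
  have hsplit : ∀ f : Finset X → ℤ, ∑ B ∈ 𝔄, f B =
      (∑ B ∈ 𝔅.filter (fun B => ({a} : Finset X) ⊆ B), f B) - f B₀ := fun f => by
    rw [h𝔄, Finset.sum_erase_eq_sub hB₀]
  have hS0 : (S.filter (· ∈ B₀)).card = k - 1 := by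
    rw [Finset.filter_true_of_mem (fun x hx => Finset.mem_of_mem_erase hx), hSc]
  have hsum1 : ∑ B ∈ 𝔄, ((S.filter (· ∈ B)).card : ℤ) = ((k - 1 : ℕ) : ℤ) * L - (k - 1 : ℕ) := by
    rw [hsplit, ← Nat.cast_sum, count {a} S, Finset.sum_congr rfl
      (fun y hy => show (𝔅.filter fun B => insert y ({a} : Finset X) ⊆ B).card = L from
        hL y a (Finset.ne_of_mem_erase hy)), Finset.sum_const, hSc, smul_eq_mul, hS0]
    push_cast; ring
  have hsum2 : ∑ B ∈ 𝔄, ((S.filter (· ∈ B)).card : ℤ) ^ 2 =
      ((k - 1 : ℕ) : ℤ) * L + ((k - 1 : ℕ) : ℤ) * (k - 2 : ℕ) * T - ((k - 1 : ℕ) : ℤ) ^ 2 := by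
    have hsq : ∑ B ∈ 𝔅.filter (fun B => ({a} : Finset X) ⊆ B), (S.filter (· ∈ B)).card ^ 2 =
        (k - 1) * L + (k - 1) * (k - 2) * T := by
      have h1 : ∀ B : Finset X, (S.filter (· ∈ B)).card ^ 2 =
          ∑ y ∈ S, if y ∈ B then (S.filter (· ∈ B)).card else 0 := fun B => by
        rw [Finset.sum_ite, Finset.sum_const, Finset.sum_const_zero, add_zero, smul_eq_mul, pow_two]
      simp only [h1]
      rw [Finset.sum_comm]
      have h2y : ∀ y ∈ S, (∑ B ∈ 𝔅.filter (fun B => ({a} : Finset X) ⊆ B),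
          if y ∈ B then (S.filter (· ∈ B)).card else 0) = L + (k - 2) * T := by
        intro y hy
        rw [← Finset.sum_filter, Finset.filter_filter, show (𝔅.filter fun B => ({a} : Finset X) ⊆ B ∧ y ∈ B) =
          𝔅.filter (fun B => ({y, a} : Finset X) ⊆ B) from Finset.filter_congr (fun B _ => by
            simp [Finset.insert_subset_iff, and_comm]), count, ← Finset.add_sum_erase _ _ hy]
        rw [show insert y ({y, a} : Finset X) = {y, a} by simp, hL y a (Finset.ne_of_mem_erase hy),
          Finset.sum_congr rfl (fun z hz => show (𝔅.filter fun B => insert z ({y, a} : Finset X) ⊆ B).card = T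
            from hT z y a (Finset.ne_of_mem_erase hz)
              (Finset.ne_of_mem_erase (Finset.mem_of_mem_erase hz)) (Finset.ne_of_mem_erase hy)),
          Finset.sum_const, smul_eq_mul, Finset.card_erase_of_mem hy, hSc]
        rw [show k - 1 - 1 = k - 2 by omega]
      rw [Finset.sum_congr rfl h2y, Finset.sum_const, hSc, smul_eq_mul, mul_add, mul_assoc]
    rw [hsplit, hS0]
    have := congrArg (Nat.cast (R := ℤ)) hsq
    push_cast at this ⊢
    rw [this]
  have hCS := sq_sum_le_card_mul_sum_sq (s := 𝔄) (f := fun B => ((S.filter (· ∈ B)).card : ℤ))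
  rw [hsum1, hsum2, h𝔄c] at hCS
  rw [hrk] at e1
  obtain ⟨k', hk'⟩ : ∃ k', k = k' + 2 := ⟨k - 2, by omega⟩
  obtain ⟨p', hp'⟩ : ∃ p', p = p' + 2 := ⟨p - 2, by omega⟩
  rw [hk', show k' + 2 - 2 = k' by omega, show k' + 2 - 1 = k' + 1 by omega] at hCS
  rw [hk', hp', show k' + 2 - 1 = k' + 1 by omega, show p' + 2 - 1 = p' + 1 by omega] at e1
  rw [hk', hp', show k' + 2 - 2 = k' by omega, show p' + 2 - 2 = p' by omega] at e2
  have E1 : ((k' : ℤ) + 2) * ((k' : ℤ) + 1) = ((p' : ℤ) + 1) * L := by exact_mod_cast e1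
  have E2 : (L : ℤ) * k' = (p' : ℤ) * T := by exact_mod_cast e2
  push_cast at hCS
  have hLk : (L : ℤ) ≤ k' := by
    by_contra hcon
    push Not at hcon
    have : ((p' : ℤ) + 1) * ((k' : ℤ) + 1) ≤ ((p' : ℤ) + 1) * L :=
      mul_le_mul_of_nonneg_left hcon (by positivity)
    nlinarith [hk, hk', hp']
  have hL1 : (1 : ℤ) ≤ L := by exact_mod_cast hLpos
  have hk0 : (0 : ℤ) < (k' : ℤ) + 1 := by positivity
  have hQ : ((L : ℤ) - 1) * ((L : ℤ) - 2) ≤ (k' : ℤ) * ((T : ℤ) - 1) := by
    have : ((k' : ℤ) + 1) ^ 2 * (((L : ℤ) - 1) * ((L : ℤ) - 2) - (k' : ℤ) * ((T : ℤ) - 1)) ≤ 0 := by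
      nlinarith [hCS]
    nlinarith [mul_pos hk0 hk0]
  -- multiply by `(p - 2) L` and eliminate
  have key : (((k' : ℤ) + 2 - L) ^ 2) * ((k' : ℤ) + 2 - L - 1) ≤ 0 := by
    have hpl : (0 : ℤ) ≤ (p' : ℤ) * L := by positivity
    have h1 := mul_le_mul_of_nonneg_left hQ hpl
    have eA : (p' : ℤ) * L = ((k' : ℤ) + 2) * ((k' : ℤ) + 1) - L := by linarith [E1]
    have eB : (p' : ℤ) * L * ((k' : ℤ) * ((T : ℤ) - 1)) =
        (k' : ℤ) * ((L : ℤ) * L * k' - ((p' : ℤ) * L)) := by linear_combination (-(k' : ℤ) * L) * E2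
    rw [eB, eA] at h1
    nlinarith [h1]
  have hd : (2 : ℤ) ≤ (k' : ℤ) + 2 - L := by linarith
  nlinarith [mul_pos (show (0 : ℤ) < ((k' : ℤ) + 2 - L) ^ 2 by positivity)
    (show (0 : ℤ) < (k' : ℤ) + 2 - L - 1 by linarith)]


/-- In a transitive permutation group of prime degree `p` whose Sylow `p`-normaliser has even order, the point stabilisers are the only subgroups of index `p`. -/
theorem result {α : Type*} [Fintype α] [DecidableEq α] {p : ℕ} [Fact p.Prime] (hα : Fintype.card α = p) (G : Subgroup (Equiv.Perm α)) [MulAction.IsPretransitive G α] (P : Sylow p G) (heven : Even (Nat.card (Subgroup.normalizer ((P : Subgroup G) : Set G)))) (H : Subgroup G) (hH : H.index = p) : ∃ a : α, H = MulAction.stabilizer G a := by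
  classical
  have hp := (Fact.out : p.Prime)
  have hX : Nat.card α = p := by rw [Nat.card_eq_fintype_card, hα]
  have hcardH : ∀ a : α, Nat.card H = Nat.card (MulAction.stabilizer G a) := by
    intro a
    have h1 := Subgroup.card_mul_index H
    have h2 := Subgroup.card_mul_index (MulAction.stabilizer G a)
    rw [MulAction.index_stabilizer_of_transitive G a, hX] at h2
    rw [hH] at h1
    exact Nat.eq_of_mul_eq_mul_right hp.pos (h1.trans h2.symm)
  obtain ⟨a₀⟩ : Nonempty α := Fintype.card_pos_iff.mp (hα ▸ hp.pos)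
  have hdone : ∀ a : α, (∀ h ∈ H, h • a = a) → H = MulAction.stabilizer G a := fun a ha =>
    Subgroup.eq_of_le_of_card_ge ha (hcardH a).ge
  by_cases hsol : Group.IsSolvable G
  · obtain ⟨e, hval⟩ := Lib.PrimeDegree.affine_of_solvable (G := G) hX hsol
    by_cases hbot : H = ⊥
    · exact ⟨a₀, hdone a₀ fun h hh => by rw [hbot, Subgroup.mem_bot] at hh; rw [hh, one_smul]⟩
    obtain ⟨⟨h, hh⟩, hne⟩ := Subgroup.ne_bot_iff_exists_ne_one.mp hbot
    have hh1 : h ≠ 1 := fun e' => hne (Subtype.ext e')
    have hpH : ¬ p ∣ Nat.card H := by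
      intro hd
      have hG : Nat.card G ∣ p.factorial := by
        rw [← hX, ← Nat.card_perm]
        exact Subgroup.card_dvd_of_injective G.subtype G.subtype_injective
      rw [← H.card_mul_index, hH, ← Nat.mul_factorial_pred hp.ne_zero, mul_comm p,
        Nat.mul_dvd_mul_iff_right hp.pos] at hG
      have := hp.dvd_factorial.mp (hd.trans hG)
      have := hp.two_le
      omega
    -- a translation in `H` is trivial
    have htr : ∀ g ∈ H, (∃ b : ZMod p, ∀ x, e (g • x) = e x + b) → g = 1 := by
      rintro g hg ⟨b, hb⟩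
      have hk : ∀ k : ℕ, ∀ x, e ((g ^ k) • x) = e x + k * b := by
        intro k
        induction k with
        | zero => simp
        | succ k ih => intro x; rw [pow_succ', mul_smul, hb, ih, Nat.cast_succ]; ring
      have hgp : g ^ p = 1 := FaithfulSMul.eq_of_smul_eq_smul (α := α) fun x => e.injective (by
        rw [hk, ZMod.natCast_self, zero_mul, add_zero, one_smul])
      have hd := Subgroup.orderOf_dvd_natCard (s := H) hg
      rcases hp.eq_one_or_self_of_dvd _ (orderOf_dvd_of_pow_eq_one hgp) with h1 | h1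
      · exact orderOf_eq_one_iff.mp h1
      · exact absurd (h1 ▸ hd) hpH
    obtain ⟨c, d, hcd⟩ := hval h
    have hc1 : c ≠ 1 := fun e' => hh1 (htr h hh ⟨d, fun x => by rw [hcd, e', one_mul]⟩)
    refine ⟨e.symm (d / (1 - c)), hdone _ fun g hg => ?_⟩
    obtain ⟨c', d', hcd'⟩ := hval g
    have hcomm : g * h = h * g := by
      have hmem : h⁻¹ * g⁻¹ * h * g ∈ H := H.mul_mem (H.mul_mem (H.mul_mem (H.inv_mem hh) (H.inv_mem hg)) hh) hg
      have : h⁻¹ * g⁻¹ * h * g = 1 := by
        obtain ⟨ci, di, hi⟩ := hval h⁻¹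
        obtain ⟨cj, dj, hj⟩ := hval g⁻¹
        refine htr _ hmem ⟨ci * (cj * (c * d' + d) + dj) + di, fun x => ?_⟩
        have h1 : ∀ x, ci * (c * e x + d) + di = e x := fun x => by
          rw [← hcd, ← hi, inv_smul_smul]
        have h2 : ∀ x, cj * (c' * e x + d') + dj = e x := fun x => by
          rw [← hcd', ← hj, inv_smul_smul]
        rw [mul_smul, mul_smul, mul_smul, hi, hj, hcd, hcd']
        have a1 : ci * c = 1 := by linear_combination (by simpa using h1 (e.symm 1) : ci * (c + d) + di = 1) - (by simpa using h1 (e.symm 0) : ci * d + di = 0)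
        have a2 : cj * c' = 1 := by linear_combination (by simpa using h2 (e.symm 1) : cj * (c' + d') + dj = 1) - (by simpa using h2 (e.symm 0) : cj * d' + dj = 0)
        have hfin : ci * (cj * (c * (c' * e x + d') + d) + dj) + di =
            e x + (ci * (cj * (c * d' + d) + dj) + di) := by
          linear_combination (e x * cj * c') * a1 + (e x) * a2
        exact hfin
      have h' : g⁻¹ * (h * g) = h := by
        have := congrArg (h * ·) this
        simpa [← mul_assoc] using this
      exact (inv_mul_eq_iff_eq_mul.mp h').symm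
    have hfix : h • e.symm (d / (1 - c)) = e.symm (d / (1 - c)) := e.injective (by
      rw [hcd, Equiv.apply_symm_apply]
      have : (1 : ZMod p) - c ≠ 0 := sub_ne_zero.mpr (Ne.symm hc1)
      field_simp
      ring)
    have hfix' : h • g • e.symm (d / (1 - c)) = g • e.symm (d / (1 - c)) := by
      rw [← mul_smul, ← hcomm, mul_smul, hfix]
    have huniq : ∀ y, h • y = y → e y = d / (1 - c) := fun y hy => by
      have h0 : c * e y + d = e y := by rw [← hcd, hy]
      rw [eq_div_iff (sub_ne_zero.mpr (Ne.symm hc1))]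
      linear_combination -h0
    exact e.injective (by rw [huniq _ hfix', Equiv.apply_symm_apply])
  · have h3 := Cfsg.Agent.S0676.result hα G hsol P heven
    by_contra hno
    push Not at hno
    set Δ : Finset α := (MulAction.orbit H a₀).toFinset with hΔ
    have hmem : ∀ x, x ∈ Δ ↔ ∃ h ∈ H, h • a₀ = x := fun x => by
      simp only [hΔ, Set.mem_toFinset]
      exact ⟨fun ⟨⟨h, hh⟩, e⟩ => ⟨h, hh, e⟩, fun ⟨h, hh, e⟩ => ⟨⟨h, hh⟩, e⟩⟩
    have hinv : ∀ h ∈ H, Δ.image (h • ·) = Δ := by
      intro h hh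
      ext x
      simp only [Finset.mem_image, hmem]
      constructor
      · rintro ⟨_, ⟨u, hu, rfl⟩, rfl⟩; exact ⟨h * u, H.mul_mem hh hu, mul_smul h u a₀⟩
      · rintro ⟨u, hu, rfl⟩
        exact ⟨_, ⟨h⁻¹ * u, H.mul_mem (H.inv_mem hh) hu, rfl⟩, by rw [← mul_smul, mul_inv_cancel_left]⟩
    refine symmetric_design hp hα h3 H hH Δ hinv ?_ ?_
    · by_contra hlt
      refine hno a₀ (hdone a₀ fun h hh => ?_)
      exact Finset.card_le_one.mp (by omega) _ ((hmem _).mpr ⟨h, hh, rfl⟩) a₀
        ((hmem _).mpr ⟨1, H.one_mem, one_smul _ _⟩)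
    · by_contra hgt
      have hle : Δ.card ≤ p := hα ▸ Δ.card_le_univ
      have hdvd : Δ.card ∣ Nat.card H := by
        have h := Nat.card_congr (MulAction.orbitEquivQuotientStabilizer H a₀)
        rw [Nat.card_coe_set_eq, ← Subgroup.index_eq_card] at h
        rw [hΔ, ← Set.ncard_eq_toFinset_card', h]
        exact Subgroup.index_dvd_card _
      have hpH : ¬ p ∣ Nat.card H := by
        intro hd
        have hG : Nat.card G ∣ p.factorial := by
          rw [← hX, ← Nat.card_perm]
          exact Subgroup.card_dvd_of_injective G.subtype G.subtype_injective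
        rw [← H.card_mul_index, hH, ← Nat.mul_factorial_pred hp.ne_zero, mul_comm p,
          Nat.mul_dvd_mul_iff_right hp.pos] at hG
        have := hp.dvd_factorial.mp (hd.trans hG)
        have := hp.two_le
        omega
      have hne : Δ.card ≠ p := fun e => hpH (e ▸ hdvd)
      have hc1 : Δ.card + 1 = p := by omega
      obtain ⟨x, hx⟩ : ∃ x, Δᶜ = {x} := Finset.card_eq_one.mp (by rw [Finset.card_compl, hα]; omega)
      refine hno x (hdone x fun h hh => ?_)
      have hxn : x ∉ Δ := fun hm => by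
        have : x ∈ Δᶜ := hx ▸ Finset.mem_singleton_self x
        exact (Finset.mem_compl.mp this) hm
      have : h • x ∈ Δᶜ := Finset.mem_compl.mpr fun hm => hxn (by
        have h1 := hinv h hh
        rw [← h1, Finset.mem_image] at hm
        obtain ⟨z, hz, e⟩ := hm
        exact (smul_left_cancel h e) ▸ hz)
      rw [hx, Finset.mem_singleton] at this
      exact this

end Cfsg.Agent.S0677
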