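import Cfsg.Statements.S0681
import Mathlib

set_option autoImplicit false
open Cfsg

namespace Cfsg.Agent.S0681

theorem nf_zero_mul {F : Type*} [Cfsg.NearField F] (a : F) : (0 : F) * a = 0 := by
  have h := Cfsg.NearField.right_distrib (0 : F) 0 a
  rw [add_zero] at h
  exact left_eq_add.mp h

theorem nf_neg_mul {F : Type*} [Cfsg.NearField F] (a b : F) : (-a) * b = -(a * b) := by
  apply eq_neg_of_add_eq_zero_right
  rw [← Cfsg.NearField.right_distrib, add_neg_cancel, nf_zero_mul]

theorem nf_mul_ne_zero {F : Type*} [Cfsg.NearField F] {a b : F} (ha : a ≠ 0) (hb : b ≠ 0) :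
    a * b ≠ 0 := by
  intro h
  obtain ⟨c, hc, -⟩ := Cfsg.NearField.exists_inv b hb
  have := congrArg (· * c) h
  simp only [mul_assoc, hc, mul_one, nf_zero_mul] at this
  exact ha this

/-- The affine maps `x ↦ x * a + b`, `a ≠ 0`, of a near-field form a sharply doubly transitive permutation group. -/
theorem result {F : Type*} [Cfsg.NearField F] : ∃ H : Subgroup (Equiv.Perm F), (∀ σ : Equiv.Perm F, σ ∈ H ↔ ∃ a b : F, a ≠ 0 ∧ ∀ x : F, σ x = x * a + b) ∧ MulAction.IsMultiplyPretransitive H F 2 ∧ ∀ x : Fin 2 ↪ F, MulAction.stabilizer H x = ⊥ := by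
  let H : Subgroup (Equiv.Perm F) :=
    { carrier := {σ | ∃ a b : F, a ≠ 0 ∧ ∀ x : F, σ x = x * a + b}
      one_mem' := ⟨1, 0, Cfsg.NearField.zero_ne_one.symm, fun x => by simp⟩
      mul_mem' := by
        rintro σ τ ⟨a, b, ha, hσ⟩ ⟨c, d, hc, hτ⟩
        refine ⟨c * a, d * a + b, nf_mul_ne_zero hc ha, fun x => ?_⟩
        rw [Equiv.Perm.mul_apply, hτ, hσ, Cfsg.NearField.right_distrib, mul_assoc, add_assoc]
      inv_mem' := by
        rintro σ ⟨a, b, ha, hσ⟩
        obtain ⟨c, hac, hca⟩ := Cfsg.NearField.exists_inv a ha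
        refine ⟨c, -b * c, fun e => ?_, fun x => ?_⟩
        · rw [e, Cfsg.NearField.mul_zero] at hac
          exact Cfsg.NearField.zero_ne_one hac
        · rw [Equiv.Perm.inv_eq_iff_eq, hσ, Cfsg.NearField.right_distrib, mul_assoc, hca,
            mul_assoc, hca, mul_one, mul_one, neg_add_cancel_right] }
  have hH : ∀ σ : Equiv.Perm F, σ ∈ H ↔ ∃ a b : F, a ≠ 0 ∧ ∀ x : F, σ x = x * a + b :=
    fun σ => Iff.rfl
  refine ⟨H, hH, ?_, fun x => ?_⟩
  · rw [MulAction.is_two_pretransitive_iff]
    intro u v u' v' huv huv'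
    have hd : u + -v ≠ 0 := fun e => huv (eq_of_add_neg_eq_zero e)
    have hd' : u' + -v' ≠ 0 := fun e => huv' (eq_of_add_neg_eq_zero e)
    obtain ⟨c, hdc, hcd⟩ := Cfsg.NearField.exists_inv _ hd
    have hc0 : c ≠ 0 := fun e => by
      rw [e, Cfsg.NearField.mul_zero] at hdc
      exact Cfsg.NearField.zero_ne_one hdc
    set a : F := c * (u' + -v') with ha
    have ha0 : a ≠ 0 := nf_mul_ne_zero hc0 hd'
    obtain ⟨a', haa', ha'a⟩ := Cfsg.NearField.exists_inv a ha0
    set b : F := -(v * a) + v' with hb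
    let σ : Equiv.Perm F :=
      { toFun := fun x => x * a + b
        invFun := fun x => (x + -b) * a'
        left_inv := fun x => by
          show (x * a + b + -b) * a' = x
          rw [add_neg_cancel_right, mul_assoc, haa', mul_one]
        right_inv := fun x => by
          show (x + -b) * a' * a + b = x
          rw [mul_assoc, ha'a, mul_one, neg_add_cancel_right] }
    refine ⟨⟨σ, (hH σ).mpr ⟨a, b, ha0, fun x => rfl⟩⟩, ?_, ?_⟩
    · show u * a + b = u'
      rw [hb, ← add_assoc, ← nf_neg_mul, ← Cfsg.NearField.right_distrib, ha, ← mul_assoc, hdc,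
        one_mul, neg_add_cancel_right]
    · show v * a + b = v'
      rw [hb, add_neg_cancel_left]
  · rw [Subgroup.eq_bot_iff_forall]
    rintro ⟨σ, a, b, ha, hσ⟩ hfix
    have h0 := DFunLike.congr_fun hfix 0
    have h1 := DFunLike.congr_fun hfix 1
    change σ (x 0) = x 0 at h0
    change σ (x 1) = x 1 at h1
    rw [hσ] at h0 h1
    have hd : x 0 + -(x 1) ≠ 0 := fun e =>
      absurd (x.injective (eq_of_add_neg_eq_zero e)) (by decide)
    have e1 : (x 0 + -(x 1)) * a = x 0 + -(x 1) := by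
      rw [Cfsg.NearField.right_distrib, nf_neg_mul]
      conv_rhs => rw [← h0, ← h1, neg_add_rev, add_assoc, ← add_assoc b, add_neg_cancel, zero_add]
    obtain ⟨c, -, hcd⟩ := Cfsg.NearField.exists_inv _ hd
    have ha1 : a = 1 := by
      have := congrArg (c * ·) e1
      simpa only [← mul_assoc, hcd, one_mul] using this
    have hb0 : b = 0 := by
      rw [ha1, mul_one] at h0
      exact add_eq_left.mp h0
    refine Subtype.ext (Equiv.ext fun y => ?_)
    show σ y = y
    rw [hσ, ha1, hb0, mul_one, add_zero]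

end Cfsg.Agent.S0681
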