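import Cfsg.Statements.S0682
import Cfsg.Agent.Lib.Perm.SharplyTwo
import Cfsg.Agent.S0681

set_option autoImplicit false
open Cfsg

namespace Cfsg.Agent.S0682

/-- A finite near-field has prime-power order; its additive group is commutative of prime exponent. -/
theorem result {F : Type*} [Cfsg.NearField F] [Finite F] : ∃ p j : ℕ, p.Prime ∧ 1 ≤ j ∧ Nat.card F = p ^ j ∧ (∀ x y : F, x + y = y + x) ∧ ∀ x : F, p • x = 0 := by
  classical
  haveI : Nontrivial F := ⟨⟨0, 1, Cfsg.NearField.zero_ne_one⟩⟩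
  obtain ⟨H, hH, h2, hs⟩ := Cfsg.Agent.S0681.result (F := F)
  obtain ⟨p, j, hp, hj1, hj, -, T, -, hTc, hTe, -, -, -, hTmem⟩ :=
    Lib.Perm.sharplyTwo_kernel h2 hs
  have htr : ∀ b : F, (Equiv.addRight b : Equiv.Perm F) ∈ H := fun b =>
    (hH _).mpr ⟨1, b, Cfsg.NearField.zero_ne_one.symm, fun x => by simp⟩
  have hT : ∀ b : F, (⟨_, htr b⟩ : H) ∈ T := by
    intro b
    rw [hTmem]
    by_cases hb : b = 0
    · exact Or.inl (Subtype.ext (Equiv.ext fun x => by simp [hb]))
    · refine Or.inr fun a ha => hb ?_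
      have : a + b = a := ha
      exact add_eq_left.mp this
  refine ⟨p, j, hp, hj1, hj, fun x y => ?_, fun x => ?_⟩
  · have h := congrArg (fun z : T => ((z : H) : Equiv.Perm F) 0)
      (hTc.is_comm.comm ⟨_, hT y⟩ ⟨_, hT x⟩)
    simpa using h
  · have h := congrArg (fun z : H => (z : Equiv.Perm F) 0) (hTe _ (hT x))
    simp only [Subgroup.coe_pow, Subgroup.coe_one, Equiv.Perm.coe_one, id_eq] at h
    have hpow : ∀ k : ℕ, ((Equiv.addRight x : Equiv.Perm F) ^ k) 0 = k • x := by
      intro k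
      induction k with
      | zero => simp
      | succ k ih =>
        rw [pow_succ', Equiv.Perm.mul_apply, ih, succ_nsmul]
        rfl
    rw [hpow] at h
    exact h

end Cfsg.Agent.S0682
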