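import Cfsg.Statements.S0683
import Cfsg.Agent.Lib.Perm.SharplyTwo

set_option autoImplicit false
open Cfsg

namespace Cfsg.Agent.S0683

/-- A finite sharply doubly transitive permutation group is the affine group of a near-field: the permuted set carries a near-field structure for which the group consists exactly of the maps `x ↦ x * a + b` with `a ≠ 0`. -/
theorem result {α : Type*} [Fintype α] [DecidableEq α] (H : Subgroup (Equiv.Perm α)) [MulAction.IsMultiplyPretransitive H α 2] (hsharp : ∀ x : Fin 2 ↪ α, MulAction.stabilizer H x = ⊥) (h2 : 2 ≤ Fintype.card α) : ∃ _ : Cfsg.NearField α, ∀ σ : Equiv.Perm α, σ ∈ H ↔ ∃ a b : α, a ≠ 0 ∧ ∀ x : α, σ x = x * a + b := by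
  classical
  haveI : Nontrivial α := Fintype.one_lt_card_iff_nontrivial.mp h2
  obtain ⟨p, j, hp, hj1, hj, hG, T, hTn, hTc, hTe, hTcard, hTt, hTs, hTmem⟩ :=
    Lib.Perm.sharplyTwo_kernel (G := H) (X := α) ‹_› hsharp
  obtain ⟨o, e, hoe⟩ := exists_pair_ne α
  -- translations
  have hexT : ∀ x : α, ∃ t : H, t ∈ T ∧ t • o = x := fun x => Lib.Perm.exists_mem_smul_eq T o x
  choose τ hτT hτo using hexT
  have hTuniq : ∀ s t : H, s ∈ T → t ∈ T → s • o = t • o → s = t := fun s t hs ht h =>
    Lib.Perm.eq_of_smul_eq_of_regular T (hTs o) hs ht h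
  have hcomm : ∀ s t : H, s ∈ T → t ∈ T → s * t = t * s := fun s t hs ht =>
    congrArg Subtype.val (hTc.is_comm.comm ⟨s, hs⟩ ⟨t, ht⟩)
  -- dilatations
  have hexM : ∀ x : α, ∃ m : H, x ≠ o → m • o = o ∧ m • e = x := fun x => by
    by_cases hx : x = o
    · exact ⟨1, fun h => absurd hx h⟩
    · obtain ⟨m, h1, h2'⟩ := Lib.Perm.exists_smul_two (G := H) ‹_› hoe (Ne.symm hx)
      exact ⟨m, fun _ => ⟨h1, h2'⟩⟩
  choose μ hμ using hexM
  have hMuniq : ∀ s t : H, s • o = o → t • o = o → s • e = t • e → s = t := fun s t hs ht h =>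
    (inv_mul_eq_one.mp (Lib.Perm.eq_one_of_fix_two hsharp hoe
      (by rw [mul_smul, ht, inv_smul_eq_iff, hs]) (by rw [mul_smul, ← h, inv_smul_smul])))
  let mul : α → α → α := fun x y => if y = o then o else μ y • x
  let add : α → α → α := fun x y => τ x • y
  have hadd : ∀ x y, add x y = τ x • τ y • o := fun x y => by rw [hτo y]
  have hτadd : ∀ x y, τ (add x y) = τ x * τ y := fun x y =>
    hTuniq _ _ (hτT _) (T.mul_mem (hτT x) (hτT y)) (by rw [hτo, mul_smul, hτo y])
  have hτ0 : τ o = 1 := hTuniq _ _ (hτT o) T.one_mem (by rw [hτo, one_smul])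
  have hμ1 : μ e = 1 := hMuniq _ _ (hμ e hoe.symm).1 (one_smul _ o)
    (by rw [(hμ e hoe.symm).2, one_smul])
  have hmulne : ∀ x y, x ≠ o → y ≠ o → μ y • x ≠ o := fun x y hx hy h =>
    hx (smul_left_cancel (μ y) (h.trans (hμ y hy).1.symm))
  have hμmul : ∀ x y, x ≠ o → y ≠ o → μ (μ y • x) = μ y * μ x := fun x y hx hy =>
    hMuniq _ _ (hμ _ (hmulne x y hx hy)).1 (by rw [mul_smul, (hμ x hx).1, (hμ y hy).1])
      (by rw [(hμ _ (hmulne x y hx hy)).2, mul_smul, (hμ x hx).2])
  have hconj : ∀ (m : H), m • o = o → ∀ x, m * τ x * m⁻¹ = τ (m • x) := fun m hm x =>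
    hTuniq _ _ (hTn.conj_mem _ (hτT x) m) (hτT _)
      (by rw [hτo, Lib.Perm.conj_smul_of_fix hm, hτo])
  let nf : Cfsg.NearField α :=
    { add := add
      zero := o
      neg := fun x => (τ x)⁻¹ • o
      add_assoc := fun x y z => by
        show τ (add x y) • z = τ x • τ y • z
        rw [hτadd, mul_smul]
      zero_add := fun x => by
        show τ o • x = x
        rw [hτ0, one_smul]
      add_zero := fun x => hτo x
      neg_add_cancel := fun x => by
        show τ ((τ x)⁻¹ • o) • x = o
        have : τ ((τ x)⁻¹ • o) = (τ x)⁻¹ :=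
          hTuniq _ _ (hτT _) (T.inv_mem (hτT x)) (hτo _)
        rw [this, inv_smul_eq_iff, hτo]
      nsmul := @nsmulRec α ⟨o⟩ ⟨add⟩
      zsmul := @zsmulRec α ⟨o⟩ ⟨add⟩ ⟨fun x => (τ x)⁻¹ • o⟩ (@nsmulRec α ⟨o⟩ ⟨add⟩)
      mul := mul
      one := e
      mul_assoc := fun x y z => by
        show mul (mul x y) z = mul x (mul y z)
        simp only [mul]
        by_cases hz : z = o
        · simp [hz]
        by_cases hy : y = o
        · simp [hy, hz, (hμ z hz).1]
        rw [if_neg hz, if_neg hy, if_neg hz, if_neg (hmulne y z hy hz), hμmul y z hy hz, mul_smul]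
      one_mul := fun x => by
        show mul e x = x
        simp only [mul]
        by_cases hx : x = o
        · simp [hx]
        · rw [if_neg hx, (hμ x hx).2]
      mul_one := fun x => by
        show mul x e = x
        simp only [mul]
        rw [if_neg hoe.symm, hμ1, one_smul]
      right_distrib := fun x y z => by
        show mul (add x y) z = add (mul x z) (mul y z)
        simp only [mul, add]
        by_cases hz : z = o
        · simp [hz, hτ0]
        rw [if_neg hz, if_neg hz, if_neg hz, ← hconj (μ z) (hμ z hz).1 x, mul_smul, mul_smul,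
          inv_smul_smul]
      mul_zero := fun x => if_pos rfl
      zero_ne_one := hoe
      exists_inv := fun x hx => by
        have hx' : x ≠ o := hx
        set y := (μ x)⁻¹ • e with hy
        have hy' : y ≠ o := fun h => hoe
          ((inv_smul_eq_iff.mp h).trans (hμ x hx').1).symm
        have hμy : μ y = (μ x)⁻¹ := hMuniq _ _ (hμ y hy').1
          (by rw [inv_smul_eq_iff, (hμ x hx').1]) (hμ y hy').2
        refine ⟨y, ?_, ?_⟩
        · show mul x y = e
          simp only [mul]
          rw [if_neg hy', hμy, inv_smul_eq_iff, (hμ x hx').2]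
        · show mul y x = e
          simp only [mul]
          rw [if_neg hx', hy, smul_inv_smul] }
  refine ⟨nf, fun σ => ⟨fun hσ => ?_, ?_⟩⟩
  · set b := σ o with hb
    set m : H := (τ b)⁻¹ * ⟨σ, hσ⟩ with hm
    have hmo : m • o = o := by
      rw [hm, mul_smul, inv_smul_eq_iff, hτo]; rfl
    have hane : m • e ≠ o := fun h => hoe (smul_left_cancel m (hmo.trans h.symm))
    have hμm : μ (m • e) = m := hMuniq _ _ (hμ _ hane).1 hmo (hμ _ hane).2
    refine ⟨m • e, b, hane, fun x => ?_⟩
    show σ x = add (mul x (m • e)) b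
    simp only [mul, add]
    rw [if_neg hane, hμm]
    conv_rhs => rw [← hτo b, ← mul_smul, hcomm _ _ (hτT _) (hτT _), mul_smul, hτo, hm, mul_smul,
      smul_inv_smul]
    rfl
  · rintro ⟨a, b, ha, hσ⟩
    have ha' : a ≠ o := ha
    have : σ = ((τ b * μ a : H) : Equiv.Perm α) := Equiv.ext fun x => by
      rw [hσ x]
      show add (mul x a) b = (τ b * μ a) • x
      simp only [mul, add]
      rw [if_neg ha']
      conv_lhs => rw [← hτo b, ← mul_smul, hcomm _ _ (hτT _) (hτT _), mul_smul, hτo]
      rw [mul_smul]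
    exact this ▸ (τ b * μ a : H).2

end Cfsg.Agent.S0683
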