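import Cfsg.Statements.S0685
import Cfsg.Agent.Lib.Perm.LinearFPF

set_option autoImplicit false
open Cfsg

namespace Cfsg.Agent.S0685

/-- In a linear group over the prime field that is regular on non-zero vectors and has no irreducible cyclic normal subgroup, a maximal normal abelian subgroup is properly contained in its centraliser, which is non-abelian. -/
theorem result {p : ℕ} [Fact p.Prime] {V : Type*} [AddCommGroup V] [Module (ZMod p) V] [Finite V] (H : Subgroup (V ≃ₗ[ZMod p] V)) (hreg : ∀ v w : V, v ≠ 0 → w ≠ 0 → ∃! h : H, (h : V ≃ₗ[ZMod p] V) v = w) (hI : ∀ A : Subgroup H, A.Normal → IsCyclic A → ∃ W : Submodule (ZMod p) V, W ≠ ⊥ ∧ W ≠ ⊤ ∧ ∀ a ∈ A, ∀ v ∈ W, ((a : H) : V ≃ₗ[ZMod p] V) v ∈ W) (A : Subgroup H) (hAn : A.Normal) (hAc : IsMulCommutative A) (hAmax : ∀ B : Subgroup H, B.Normal → IsMulCommutative B → A ≤ B → B = A) : A < Subgroup.centralizer (A : Set H) ∧ ¬ IsMulCommutative (Subgroup.centralizer (A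 : Set H)) := by
  haveI := Lib.LinearFPF.nontrivial_of_irred hI
  haveI := hAc
  haveI := hAn
  haveI := Lib.LinearFPF.finite_group (p := p) (V := V)
  have hcyc := Lib.LinearFPF.isCyclic_of_comm hreg A
  have hle : A ≤ Subgroup.centralizer (A : Set H) := fun a ha => Subgroup.mem_centralizer_iff.mpr
    fun b hb => congrArg Subtype.val (mul_comm' (⟨b, hb⟩ : A) ⟨a, ha⟩)
  suffices hna : ¬ IsMulCommutative (Subgroup.centralizer (A : Set H)) from
    ⟨lt_of_le_of_ne hle fun e => hna (e ▸ hAc), hna⟩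
  intro hC
  have hCA : Subgroup.centralizer (A : Set H) = A := hAmax _ inferInstance hC hle
  -- `H / A` embeds in `Aut A`
  let χ : H →* MulAut A := MulAut.conjNormal
  have hker : χ.ker ≤ A := by
    intro h hh
    rw [← hCA]
    refine Subgroup.mem_centralizer_iff.mpr fun a ha => ?_
    have := congrArg (fun z : A => (z : H)) (DFunLike.congr_fun (MonoidHom.mem_ker.mp hh) ⟨a, ha⟩)
    simp only [χ, MulAut.conjNormal_apply, MulAut.one_apply] at this
    exact (mul_inv_eq_iff_eq_mul.mp this).symm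
  have hH : Nat.card H ≤ Nat.card A * Nat.card A := by
    rw [← χ.ker.card_mul_index, Subgroup.index_ker]
    refine Nat.mul_le_mul (Subgroup.card_le_of_le hker) ((Subgroup.card_le_card_group _).trans ?_)
    rw [IsCyclic.card_mulAut]
    exact Nat.totient_le _
  obtain ⟨W₀, h0, h1, hinv⟩ := hI A hAn hcyc
  obtain ⟨W, hW0, hWle, hWinv, hWmin⟩ := Lib.LinearFPF.exists_minimal A h0 hinv
  obtain ⟨v, hvW, hv⟩ := (Submodule.ne_bot_iff W).mp hW0
  obtain ⟨w, hw⟩ : ∃ w, w ∉ W := by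
    by_contra! hall
    exact h1 (top_le_iff.mp fun x _ => hWle (hall x))
  have hw0 : w ≠ 0 := fun e => hw (e ▸ W.zero_mem)
  obtain ⟨h, hh, -⟩ := hreg v w hv hw0
  set W' := W.map (((h : V ≃ₗ[ZMod p] V)) : V →ₗ[ZMod p] V) with hW'
  have hW'inv : ∀ a ∈ A, ∀ x ∈ W', ((a : H) : V ≃ₗ[ZMod p] V) x ∈ W' := by
    rintro a ha _ ⟨u, hu, rfl⟩
    refine ⟨((h⁻¹ * a * h : H) : V ≃ₗ[ZMod p] V) u,
      hWinv _ (by simpa using hAn.conj_mem a ha h⁻¹) u hu, ?_⟩
    show ((h * (h⁻¹ * a * h) : H) : V ≃ₗ[ZMod p] V) u = ((a * h : H) : V ≃ₗ[ZMod p] V) u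
    rw [show h * (h⁻¹ * a * h) = a * h by group]
  have hdisj : W ⊓ W' = ⊥ := by
    refine (hWmin (W ⊓ W') inf_le_left fun a ha x hx =>
      ⟨hWinv a ha x hx.1, hW'inv a ha x hx.2⟩).resolve_right fun e => hw ?_
    have heq : W = W' := Submodule.eq_of_le_of_finrank_le (e ▸ inf_le_right : W ≤ W')
      (Submodule.finrank_map_le _ _)
    rw [heq, ← hh]
    exact ⟨v, hvW, rfl⟩
  have hVcard : Nat.card W * Nat.card W ≤ Nat.card V := by
    rw [← Nat.card_prod]
    refine Nat.card_le_card_of_injective (fun x => (x.1 : V) + (h : V ≃ₗ[ZMod p] V) x.2) ?_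
    intro x y e
    have hm : (x.1 : V) - y.1 ∈ W ⊓ W' := by
      refine ⟨W.sub_mem x.1.2 y.1.2, ⟨(y.2 : V) - x.2, W.sub_mem y.2.2 x.2.2, ?_⟩⟩
      have e' : (x.1 : V) + (h : V ≃ₗ[ZMod p] V) x.2 = y.1 + (h : V ≃ₗ[ZMod p] V) y.2 := e
      show (h : V ≃ₗ[ZMod p] V) ((y.2 : V) - x.2) = _
      rw [map_sub, sub_eq_sub_iff_add_eq_add, add_comm ((h : V ≃ₗ[ZMod p] V) (y.2 : V)), ← e']
    rw [hdisj, Submodule.mem_bot, sub_eq_zero] at hm
    refine Prod.ext (Subtype.ext hm) (Subtype.ext ?_)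
    have e' : (x.1 : V) + (h : V ≃ₗ[ZMod p] V) x.2 = y.1 + (h : V ≃ₗ[ZMod p] V) y.2 := e
    rw [hm] at e'
    exact (h : V ≃ₗ[ZMod p] V).injective (add_left_cancel e')
  have hW2 : 1 < Nat.card W := Finite.one_lt_card_iff_nontrivial.mpr
    (nontrivial_of_ne ⟨v, hvW⟩ 0 fun e => hv (congrArg Subtype.val e))
  have hA1 : Nat.card A ≤ Nat.card W - 1 :=
    Nat.le_of_dvd (by omega) (Lib.LinearFPF.card_dvd hreg A W hWinv)
  have hcard := Lib.LinearFPF.card_group hreg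
  obtain ⟨w', hw'⟩ : ∃ w', Nat.card W = w' + 1 := ⟨Nat.card W - 1, by omega⟩
  rw [hw'] at hVcard hA1 hW2
  rw [Nat.add_sub_cancel] at hA1
  have := Nat.mul_le_mul hA1 hA1
  simp only [add_mul, mul_add, mul_one, one_mul] at hVcard
  omega

end Cfsg.Agent.S0685
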