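import Cfsg.Statements.S0686
import Cfsg.Agent.Lib.Zass25.Linear
-- import your own Cfsg.Agent.* helpers here

set_option autoImplicit false
open Cfsg

namespace Cfsg.Agent.S0686

/-- In a linear group over the prime field that is regular on non-zero vectors and has no irreducible cyclic normal subgroup, let `A` be a maximal normal abelian subgroup and `N` a normal subgroup centralising `A` that is minimal among non-abelian normal subgroups centralising `A`. Then `N` is quaternion of order 8 or isomorphic to `SL(2,5)`. -/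
theorem result {p : ℕ} [Fact p.Prime] {V : Type*} [AddCommGroup V] [Module (ZMod p) V] [Finite V] (H : Subgroup (V ≃ₗ[ZMod p] V)) (hreg : ∀ v w : V, v ≠ 0 → w ≠ 0 → ∃! h : H, (h : V ≃ₗ[ZMod p] V) v = w) (hI : ∀ A : Subgroup H, A.Normal → IsCyclic A → ∃ W : Submodule (ZMod p) V, W ≠ ⊥ ∧ W ≠ ⊤ ∧ ∀ a ∈ A, ∀ v ∈ W, ((a : H) : V ≃ₗ[ZMod p] V) v ∈ W) (A : Subgroup H) (hAn : A.Normal) (hAc : IsMulCommutative A) (hAmax : ∀ B : Subgroup H, B.Normal → IsMulCommutative B → A ≤ B → B = A) (N : Subgroup H) (hNn : N.Normal) (hNle : N ≤ Subgroup.centralizer (A : Set H)) (hNna : ¬ IsMulCommutative N) (hNmin : ∀ M : Subgroup H, M.Normal → M ≤ N → ¬ IsMulCommutative M → M = N) : Nonempty (N ≃* QuaternionGroup 2) ∨ Nonempty (N ≃* Matrix.SpecialLinearGroup (Fin 2) (ZMod 5)) := by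
  have : Nontrivial V := by
    by_contra hV
    rw [not_nontrivial_iff_subsingleton] at hV
    exact hNna ⟨⟨fun a b => Subtype.ext (Subtype.ext (LinearEquiv.ext fun v => Subsingleton.elim _ _))⟩⟩
  have := Lib.LinearFPF.finite_group (p := p) (V := V)
  have h := Lib.Zass25.hasFpfRep_of_regular H hreg
  have := hNn
  have hmap : (commutator N).map N.subtype = ⁅N, N⁆ := Subgroup.map_subtype_commutator N
  by_cases hc : IsMulCommutative (⁅N, N⁆ : Subgroup H)
  · left
    refine Lib.Zass25.quaternion_of_class_two (h.subgroup N) hNna ?_ fun P hP hPna => ?_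
    · have hA : ⁅N, N⁆ ≤ A := by
        have hcomm : ∀ a ∈ A, ∀ x ∈ ⁅N, N⁆, a * x = x * a := fun a ha x hx =>
          Subgroup.mem_centralizer_iff.mp (hNle (Subgroup.commutator_le_right N N hx)) a ha
        have hB : IsMulCommutative (A ⊔ ⁅N, N⁆ : Subgroup H) := by
          rw [Subgroup.sup_eq_closure]
          refine Subgroup.isMulCommutative_closure ?_
          rintro x (hx | hx) y (hy | hy)
          · exact congrArg Subtype.val (hAc.is_comm.comm ⟨x, hx⟩ ⟨y, hy⟩)
          · exact hcomm x hx y hy
          · exact (hcomm y hy x hx).symm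
          · exact congrArg Subtype.val (hc.is_comm.comm ⟨x, hx⟩ ⟨y, hy⟩)
        exact (hAmax _ inferInstance hB le_sup_left) ▸ le_sup_right
      intro x hx
      have hxA : (x : H) ∈ A := hA (hmap ▸ Subgroup.mem_map_of_mem _ hx)
      exact Subgroup.mem_center_iff.mpr fun y => Subtype.ext
        (Subgroup.mem_centralizer_iff.mp (hNle y.2) x hxA).symm
    · have := hP
      have e := hNmin (P.map N.subtype) inferInstance (Subgroup.map_subtype_le P) fun hc' => hPna
        ⟨⟨fun a b => Subtype.ext (Subtype.ext (congrArg Subtype.val (hc'.is_comm.comm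
          (⟨(a : N), Subgroup.mem_map_of_mem _ a.2⟩ : P.map N.subtype)
          (⟨(b : N), Subgroup.mem_map_of_mem _ b.2⟩ : P.map N.subtype)) :))⟩⟩
      exact Subgroup.map_injective N.subtype_injective
        (e.trans (by rw [← MonoidHom.range_eq_map, Subgroup.range_subtype]))
  · right
    have : Nontrivial N := by
      by_contra hN
      rw [not_nontrivial_iff_subsingleton] at hN
      exact hNna ⟨⟨fun a b => Subsingleton.elim _ _⟩⟩
    refine Lib.Zass25.nonempty_mulEquiv_of_perfect (h.subgroup N) ?_
    refine Subgroup.map_injective N.subtype_injective ?_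
    rw [hmap, hNmin _ inferInstance (Subgroup.commutator_le_right N N) hc, ← MonoidHom.range_eq_map,
      Subgroup.range_subtype]

end Cfsg.Agent.S0686
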