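import Cfsg.Statements.S0687
import Mathlib

set_option autoImplicit false
open Cfsg

namespace Cfsg.Agent.S0687

section

variable {p : ℕ} [Fact p.Prime] {V : Type*} [AddCommGroup V] [Module (ZMod p) V] [Finite V]
  {G : Type*} [Group G] (ρ : G →* (V ≃ₗ[ZMod p] V)) (N : Subgroup G)

/-- The endomorphisms of an invariant subspace commuting with a subgroup. -/
def commRing (W : Submodule (ZMod p) V) (hW : ∀ n ∈ N, ∀ v ∈ W, ρ n v ∈ W) :
    Subring (Module.End (ZMod p) W) where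
  carrier := {φ | ∀ (n : G) (hn : n ∈ N) (w : W), (φ ⟨ρ n w, hW n hn w w.2⟩ : V) = ρ n (φ w)}
  one_mem' := fun n hn w => rfl
  mul_mem' := by
    intro φ ψ hφ hψ n hn w
    show (φ (ψ ⟨ρ n w, hW n hn w w.2⟩) : V) = ρ n (φ (ψ w))
    rw [show ψ ⟨ρ n w, hW n hn w w.2⟩ = ⟨ρ n (ψ w), hW n hn _ (ψ w).2⟩ from Subtype.ext (hψ n hn w)]
    exact hφ n hn (ψ w)
  zero_mem' := fun n hn w => by simp
  add_mem' := by
    intro φ ψ hφ hψ n hn w
    simp only [LinearMap.add_apply, Submodule.coe_add, hφ n hn w, hψ n hn w, map_add]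
  neg_mem' := by
    intro φ hφ n hn w
    simp only [LinearMap.neg_apply, NegMemClass.coe_neg, hφ n hn w, map_neg]

/-- For a minimal invariant subspace the commuting endomorphisms commute. -/
theorem commRing_comm (W : Submodule (ZMod p) V) (hW : ∀ n ∈ N, ∀ v ∈ W, ρ n v ∈ W)
    (hmin : ∀ U : Submodule (ZMod p) V, U ≤ W → (∀ n ∈ N, ∀ v ∈ U, ρ n v ∈ U) → U = ⊥ ∨ U = W)
    (hne : W ≠ ⊥) {φ ψ : Module.End (ZMod p) W} (hφ : φ ∈ commRing ρ N W hW)
    (hψ : ψ ∈ commRing ρ N W hW) : φ * ψ = ψ * φ := by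
  haveI : Finite (Module.End (ZMod p) W) :=
    Finite.of_injective (fun f : Module.End (ZMod p) W => ⇑f) DFunLike.coe_injective
  have hinj : ∀ θ ∈ commRing ρ N W hW, θ ≠ 0 → Function.Injective θ := by
    intro θ hθ h0
    rcases hmin ((LinearMap.ker θ).map W.subtype) (Submodule.map_subtype_le _ _) (by
      rintro n hn _ ⟨w, hw, rfl⟩
      refine ⟨⟨ρ n w, hW n hn w w.2⟩, ?_, rfl⟩
      refine Subtype.ext ?_
      rw [hθ n hn w, show θ w = 0 from hw, ZeroMemClass.coe_zero, map_zero]) with h | h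
    · rw [← LinearMap.ker_eq_bot]
      exact Submodule.map_injective_of_injective W.injective_subtype (by rw [h, Submodule.map_bot])
    · refine absurd (LinearMap.ext fun w => ?_) h0
      have hw : (w : V) ∈ (LinearMap.ker θ).map W.subtype := by rw [h]; exact w.2
      obtain ⟨w', hw', e⟩ := hw
      rw [← show w' = w from Subtype.ext e]
      exact hw'
  haveI : Nontrivial (Module.End (ZMod p) W) := by
    haveI : Nontrivial W := Submodule.nontrivial_iff_ne_bot.mpr hne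
    infer_instance
  haveI : NoZeroDivisors (commRing ρ N W hW) := ⟨fun {a b} hab => by
    by_contra hc
    push Not at hc
    apply hc.2
    refine Subtype.ext (LinearMap.ext fun w => hinj _ a.2 (fun h => hc.1 (Subtype.ext h)) ?_)
    rw [ZeroMemClass.coe_zero, LinearMap.zero_apply, map_zero]
    exact LinearMap.congr_fun (congrArg Subtype.val hab) w⟩
  haveI : IsDomain (commRing ρ N W hW) := NoZeroDivisors.to_isDomain _
  exact congrArg Subtype.val
    ((Finite.isDomain_to_isField (commRing ρ N W hW)).mul_comm ⟨φ, hφ⟩ ⟨ψ, hψ⟩)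

/-- A non-abelian normal subgroup of a regular linear group is irreducible. -/
theorem irreducible_of_normal (hfree : ∀ v : V, v ≠ 0 → ∀ g : G, ρ g v = v → g = 1)
    (htrans : ∀ v w : V, v ≠ 0 → w ≠ 0 → ∃ g : G, ρ g v = w) [hN : N.Normal]
    (hna : ¬ IsMulCommutative N) (W : Submodule (ZMod p) V) (hWinv : ∀ n ∈ N, ∀ v ∈ W, ρ n v ∈ W) :
    W = ⊥ ∨ W = ⊤ := by
  classical
  refine or_iff_not_imp_left.mpr fun hW => by_contra fun hWtop => hna ?_
  haveI : Finite (Submodule (ZMod p) V) :=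
    Finite.of_injective (fun W : Submodule (ZMod p) V => (W : Set V)) SetLike.coe_injective
  let Min : Submodule (ZMod p) V → Prop := fun U => U ≠ ⊥ ∧ (∀ n ∈ N, ∀ v ∈ U, ρ n v ∈ U) ∧
    ∀ U' : Submodule (ZMod p) V, U' ≤ U → (∀ n ∈ N, ∀ v ∈ U', ρ n v ∈ U') → U' = ⊥ ∨ U' = U
  obtain ⟨W1, ⟨hW1W, hW10, hW1inv⟩, hW1min⟩ := Set.Finite.exists_minimal
    (s := {U : Submodule (ZMod p) V | U ≤ W ∧ U ≠ ⊥ ∧ ∀ n ∈ N, ∀ v ∈ U, ρ n v ∈ U}) (Set.toFinite _)
    ⟨W, le_rfl, hW, hWinv⟩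
  have hM1 : Min W1 := ⟨hW10, hW1inv, fun U' hle hinv => or_iff_not_imp_left.mpr fun h0 =>
    le_antisymm hle (hW1min ⟨hle.trans hW1W, h0, hinv⟩ hle)⟩
  obtain ⟨w0, hw0, hw00⟩ := W1.ne_bot_iff.mp hW10
  -- every nonzero vector lies in a minimal invariant subspace
  have hcov : ∀ v : V, v ≠ 0 → ∃ U, Min U ∧ v ∈ U := by
    intro v hv
    obtain ⟨g, hg⟩ := htrans w0 v hw00 hv
    have hback : ∀ n ∈ N, ∀ x : V, ρ n (ρ g x) = ρ g (ρ (g⁻¹ * n * g) x) := fun n hn x => by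
      rw [← LinearEquiv.mul_apply, ← LinearEquiv.mul_apply, ← map_mul, ← map_mul]
      congr 2
      group
    have hinv : ∀ x : V, ρ g⁻¹ (ρ g x) = x := fun x => by
      rw [← LinearEquiv.mul_apply, ← map_mul, inv_mul_cancel, map_one]; rfl
    refine ⟨W1.map (ρ g).toLinearMap, ⟨?_, ?_, ?_⟩, ⟨w0, hw0, hg⟩⟩
    · intro h
      have : ρ g w0 ∈ W1.map (ρ g).toLinearMap := ⟨w0, hw0, rfl⟩
      rw [h, Submodule.mem_bot] at this
      exact hw00 ((ρ g).map_eq_zero_iff.mp this)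
    · rintro n hn _ ⟨x, hx, rfl⟩
      exact ⟨ρ (g⁻¹ * n * g) x, hW1inv _ (hN.conj_mem' n hn g) x hx, (hback n hn x).symm⟩
    · intro U' hle hU'
      rcases hM1.2.2 (U'.comap (ρ g).toLinearMap) (fun x hx => by
          obtain ⟨y, hy, e⟩ := hle hx
          rwa [← (ρ g).injective e]) (fun n hn x hx => by
          show ρ g (ρ n x) ∈ U'
          have := hU' (g * n * g⁻¹) (hN.conj_mem n hn g) _ hx
          rw [LinearEquiv.coe_coe, hback _ (hN.conj_mem n hn g)] at this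
          simpa [mul_assoc] using this) with h | h
      · refine Or.inl (U'.eq_bot_iff.mpr fun u hu => ?_)
        obtain ⟨y, hy, rfl⟩ := hle hu
        have : y ∈ U'.comap (ρ g).toLinearMap := hu
        rw [h, Submodule.mem_bot] at this
        rw [this, map_zero]
      · refine Or.inr (le_antisymm hle ?_)
        rintro _ ⟨y, hy, rfl⟩
        rw [← h] at hy
        exact hy
  obtain ⟨v2, hv2⟩ : ∃ v, v ∉ W1 := by
    by_contra hc
    push Not at hc
    exact hWtop (eq_top_iff.mpr fun v _ => hW1W (hc v))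
  obtain ⟨W2, hM2, hv2W⟩ := hcov v2 fun h => hv2 (h ▸ W1.zero_mem)
  have meet : ∀ U U', Min U → Min U' → U ≠ U' → U ⊓ U' = ⊥ := by
    intro U U' h h' hne
    have hinv : ∀ n ∈ N, ∀ v ∈ U ⊓ U', ρ n v ∈ U ⊓ U' := fun n hn v hv =>
      ⟨h.2.1 n hn v hv.1, h'.2.1 n hn v hv.2⟩
    rcases h.2.2 _ inf_le_left hinv with e | e
    · exact e
    rcases h'.2.2 _ inf_le_right hinv with e' | e'
    · exact e'
    exact absurd (e.symm.trans e') hne
  have h12 : W1 ⊓ W2 = ⊥ := meet _ _ hM1 hM2 fun h => hv2 (h ▸ hv2W)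
  have hv20 : v2 ≠ 0 := fun h => hv2 (h ▸ W1.zero_mem)
  have hzero : ∀ x, x ∈ W1 → x ∈ W2 → x = 0 := fun x h1 h2 =>
    (Submodule.mem_bot _).mp (h12 ▸ Submodule.mem_inf.mpr ⟨h1, h2⟩)
  -- equivariant maps between the two subspaces
  have hmap : ∀ u : W1, u ≠ 0 → ∃ φ : W1 →ₗ[ZMod p] W2, Function.Bijective φ ∧ (φ u : V) = v2 ∧
      ∀ n (hn : n ∈ N) (w : W1), (φ ⟨ρ n w, hW1inv n hn w w.2⟩ : V) = ρ n (φ w) := by
    intro u hu
    have hu0 : (u : V) ≠ 0 := fun h => hu (Subtype.ext h)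
    have hs0 : (u : V) + v2 ≠ 0 := fun h =>
      hv2 (by rw [eq_neg_of_add_eq_zero_right h]; exact W1.neg_mem u.2)
    obtain ⟨U, hU, hsU⟩ := hcov _ hs0
    have hU12 : U ≤ W1 ⊔ W2 := by
      have hinv : ∀ n ∈ N, ∀ v ∈ U ⊓ (W1 ⊔ W2), ρ n v ∈ U ⊓ (W1 ⊔ W2) := fun n hn v hv => by
        refine ⟨hU.2.1 n hn v hv.1, ?_⟩
        obtain ⟨a, ha, b, hb, rfl⟩ := Submodule.mem_sup.mp hv.2
        rw [map_add]
        exact Submodule.add_mem_sup (hW1inv n hn a ha) (hM2.2.1 n hn b hb)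
      rcases hU.2.2 _ inf_le_left hinv with e | e
      · exact absurd ((Submodule.mem_bot _).mp (e ▸ Submodule.mem_inf.mpr
          ⟨hsU, Submodule.add_mem_sup u.2 hv2W⟩)) hs0
      · exact e ▸ inf_le_right
    have hUW1 : U ⊓ W1 = ⊥ := meet _ _ hU hM1 fun e => hv2 (by
      subst e; simpa using U.sub_mem hsU u.2)
    have hUW2 : U ⊓ W2 = ⊥ := meet _ _ hU hM2 fun e => hu0 (hzero _ u.2 (by
      subst e; simpa using U.sub_mem hsU hv2W))
    have hex : ∀ w : W1, ∃! y : W2, (w : V) + y ∈ U := by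
      let P : W1 × W2 → Prop := fun z => (z.1 : V) + z.2 ∈ U
      have huniq : ∀ (w : W1) (y y' : W2), (w : V) + y ∈ U → (w : V) + y' ∈ U → y = y' := by
        intro w y y' h h'
        refine Subtype.ext (sub_eq_zero.mp ((Submodule.mem_bot _).mp (hUW2 ▸ Submodule.mem_inf.mpr
          ⟨?_, W2.sub_mem y.2 y'.2⟩)))
        have := U.sub_mem h h'
        simpa using this
      intro w
      -- the first coordinates form an invariant subspace
      let π : Submodule (ZMod p) V :=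
        { carrier := {a | a ∈ W1 ∧ ∃ b ∈ W2, a + b ∈ U}
          zero_mem' := ⟨W1.zero_mem, 0, W2.zero_mem, by simp⟩
          add_mem' := fun {a a'} ⟨ha, b, hb, h⟩ ⟨ha', b', hb', h'⟩ =>
            ⟨W1.add_mem ha ha', b + b', W2.add_mem hb hb', by
              rw [add_add_add_comm]; exact U.add_mem h h'⟩
          smul_mem' := fun c a ⟨ha, b, hb, h⟩ =>
            ⟨W1.smul_mem c ha, c • b, W2.smul_mem c hb, by rw [← smul_add]; exact U.smul_mem c h⟩ }
      have hπ : π = W1 := by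
        rcases hM1.2.2 π (fun a ha => ha.1) (fun n hn a ⟨ha, b, hb, h⟩ =>
          ⟨hW1inv n hn a ha, ρ n b, hM2.2.1 n hn b hb, by rw [← map_add]; exact hU.2.1 n hn _ h⟩) with e | e
        · have hu' : (u : V) ∈ π := ⟨u.2, v2, hv2W, hsU⟩
          rw [e, Submodule.mem_bot] at hu'
          exact absurd hu' hu0
        · exact e
      obtain ⟨-, b, hb, h⟩ : (w : V) ∈ π := by rw [hπ]; exact w.2
      exact ⟨⟨b, hb⟩, h, fun y hy => huniq w _ _ hy h⟩
    choose f hf hfu using hex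
    let φ : W1 →ₗ[ZMod p] W2 :=
      { toFun := f
        map_add' := fun a b => (hfu (a + b) (f a + f b) (by
          simp only [Submodule.coe_add]; rw [add_add_add_comm]; exact U.add_mem (hf a) (hf b))).symm
        map_smul' := fun c a => (hfu (c • a) (c • f a) (by
          simp only [Submodule.coe_smul]; rw [← smul_add]; exact U.smul_mem c (hf a))).symm }
    have hinjφ : Function.Injective φ := by
      rw [← LinearMap.ker_eq_bot, Submodule.eq_bot_iff]
      intro w hw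
      have h := hf w
      rw [show f w = 0 from hw, ZeroMemClass.coe_zero, add_zero] at h
      exact Subtype.ext ((Submodule.mem_bot _).mp (hUW1 ▸ Submodule.mem_inf.mpr ⟨h, w.2⟩))
    have heq : ∀ n (hn : n ∈ N) (w : W1), (φ ⟨ρ n w, hW1inv n hn w w.2⟩ : V) = ρ n (φ w) := by
      intro n hn w
      exact congrArg Subtype.val (hfu ⟨ρ n w, hW1inv n hn w w.2⟩ ⟨ρ n (f w), hM2.2.1 n hn _ (f w).2⟩
        (by show ρ n (w : V) + ρ n (f w) ∈ U; rw [← map_add]; exact hU.2.1 n hn _ (hf w))).symm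
    refine ⟨φ, ⟨hinjφ, ?_⟩, congrArg Subtype.val (hfu u ⟨v2, hv2W⟩ hsU).symm, heq⟩
    intro y
    rcases hM2.2.2 ((LinearMap.range φ).map W2.subtype) (Submodule.map_subtype_le _ _) (by
      rintro n hn _ ⟨_, ⟨w, rfl⟩, rfl⟩
      exact ⟨φ ⟨ρ n w, hW1inv n hn w w.2⟩, ⟨_, rfl⟩, heq n hn w⟩) with e | e
    · exfalso
      have h : v2 ∈ (LinearMap.range φ).map W2.subtype :=
        ⟨φ u, ⟨u, rfl⟩, congrArg Subtype.val (hfu u ⟨v2, hv2W⟩ hsU).symm⟩
      rw [e, Submodule.mem_bot] at h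
      exact hv20 h
    · have h : (y : V) ∈ (LinearMap.range φ).map W2.subtype := e.symm ▸ y.2
      obtain ⟨y', ⟨w, hw⟩, hy'⟩ := h
      exact ⟨w, hw.trans (Subtype.ext hy')⟩
  -- so the commuting endomorphisms of `W1` are transitive
  have hD : ∀ u v : W1, u ≠ 0 → v ≠ 0 → ∃ θ ∈ commRing ρ N W1 hW1inv, θ u = v := by
    intro u v hu hv
    obtain ⟨a, -, hau, haN⟩ := hmap u hu
    obtain ⟨b, hb, hbv, hbN⟩ := hmap v hv
    let e := LinearEquiv.ofBijective b hb
    refine ⟨e.symm.toLinearMap ∘ₗ a, fun n hn w => ?_, ?_⟩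
    · have h : e ⟨ρ n (e.symm (a w) : W1), hW1inv n hn _ (e.symm (a w)).2⟩ =
          a ⟨ρ n w, hW1inv n hn w w.2⟩ := by
        refine Subtype.ext ?_
        show (b _ : V) = _
        rw [hbN n hn, haN n hn]
        show ρ n ((e (e.symm (a w)) : W2) : V) = _
        rw [LinearEquiv.apply_symm_apply]
      show ((e.symm (a ⟨ρ n w, hW1inv n hn w w.2⟩) : W1) : V) = ρ n ((e.symm (a w) : W1) : V)
      rw [← h, LinearEquiv.symm_apply_apply]
    · show e.symm (a u) = v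
      rw [LinearEquiv.symm_apply_eq]
      exact Subtype.ext (hau.trans hbv.symm)
  let z : W1 := ⟨w0, hw0⟩
  have hz : z ≠ 0 := fun h => hw00 (congrArg Subtype.val h)
  refine ⟨⟨fun n m => Subtype.ext ?_⟩⟩
  obtain ⟨φ, hφ, hφz⟩ := hD z ⟨ρ n w0, hW1inv n n.2 _ hw0⟩ hz fun h =>
    hw00 ((ρ n).map_eq_zero_iff.mp (congrArg Subtype.val h))
  obtain ⟨ψ, hψ, hψz⟩ := hD z ⟨ρ m w0, hW1inv m m.2 _ hw0⟩ hz fun h =>
    hw00 ((ρ m).map_eq_zero_iff.mp (congrArg Subtype.val h))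
  have hc := LinearMap.congr_fun (commRing_comm ρ N W1 hW1inv hM1.2.2 hW10 hφ hψ) z
  simp only [Module.End.mul_apply, hφz, hψz] at hc
  have h1 := hφ m m.2 z
  have h2 := hψ n n.2 z
  rw [hφz] at h1
  rw [hψz] at h2
  have h3 : ρ (m : G) (ρ (n : G) w0) = ρ (n : G) (ρ (m : G) w0) :=
    h1.symm.trans ((congrArg Subtype.val hc).trans h2)
  rw [← LinearEquiv.mul_apply, ← LinearEquiv.mul_apply, ← map_mul, ← map_mul] at h3
  show (n : G) * m = m * n
  refine (inv_mul_eq_one.mp (hfree w0 hw00 (((m : G) * n)⁻¹ * (n * m)) ?_)).symm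
  rw [map_mul, LinearEquiv.mul_apply, ← h3, ← LinearEquiv.mul_apply, ← map_mul, inv_mul_cancel, map_one]
  rfl

end

/-- In a linear group over the prime field that is regular on non-zero vectors and has no irreducible cyclic normal subgroup, a normal subgroup `N` minimal among the non-abelian normal subgroups centralising a maximal normal abelian subgroup `A` is irreducible on `V`, and its centraliser is `A`. -/
theorem result {p : ℕ} [Fact p.Prime] {V : Type*} [AddCommGroup V] [Module (ZMod p) V] [Finite V] (H : Subgroup (V ≃ₗ[ZMod p] V)) (hreg : ∀ v w : V, v ≠ 0 → w ≠ 0 → ∃! h : H, (h : V ≃ₗ[ZMod p] V) v = w) (hI : ∀ A : Subgroup H, A.Normal → IsCyclic A → ∃ W : Submodule (ZMod p) V, W ≠ ⊥ ∧ W ≠ ⊤ ∧ ∀ a ∈ A, ∀ v ∈ W, ((a : H) : V ≃ₗ[ZMod p] V) v ∈ W) (A : Subgroup H) (hAn : A.Normal) (hAc : IsMulCommutative A) (hAmax : ∀ B : Subgroup H, B.Normal → IsMulCommutative B → A ≤ B → B = A) (N : Subgroup H) (hNn : N.Normal) (hNle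 : N ≤ Subgroup.centralizer (A : Set H)) (hNna : ¬ IsMulCommutative N) (hNmin : ∀ M : Subgroup H, M.Normal → M ≤ N → ¬ IsMulCommutative M → M = N) : (∀ W : Submodule (ZMod p) V, (∀ n ∈ N, ∀ v ∈ W, ((n : H) : V ≃ₗ[ZMod p] V) v ∈ W) → W = ⊥ ∨ W = ⊤) ∧ Subgroup.centralizer (N : Set H) = A := by
  let ρ : H →* (V ≃ₗ[ZMod p] V) := H.subtype
  have hfree : ∀ v : V, v ≠ 0 → ∀ g : H, ρ g v = v → g = 1 := fun v hv g hg =>
    (hreg v v hv hv).unique hg rfl
  have htrans : ∀ v w : V, v ≠ 0 → w ≠ 0 → ∃ g : H, ρ g v = w := fun v w hv hw => (hreg v w hv hw).exists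
  haveI := hNn
  have hirr : ∀ W : Submodule (ZMod p) V, (∀ n ∈ N, ∀ v ∈ W, ρ n v ∈ W) → W = ⊥ ∨ W = ⊤ :=
    fun W hW => irreducible_of_normal ρ N hfree htrans hNna W hW
  refine ⟨hirr, hAmax _ inferInstance ⟨⟨fun a b => Subtype.ext (Subtype.ext (LinearEquiv.ext fun v => ?_))⟩⟩ ?_⟩
  · rcases subsingleton_or_nontrivial V with hV | hV
    · exact Subsingleton.elim _ _
    have hinv : ∀ n ∈ N, ∀ v ∈ (⊤ : Submodule (ZMod p) V), ρ n v ∈ (⊤ : Submodule (ZMod p) V) :=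
      fun n _ v _ => trivial
    let lift : H → Module.End (ZMod p) (⊤ : Submodule (ZMod p) V) := fun g =>
      ((ρ g).toLinearMap ∘ₗ (⊤ : Submodule (ZMod p) V).subtype).codRestrict ⊤ fun _ => trivial
    have hmem : ∀ g ∈ Subgroup.centralizer (N : Set H), lift g ∈ commRing ρ N ⊤ hinv := by
      intro g hg n hn w
      show ρ g (ρ n (w : V)) = ρ n (ρ g (w : V))
      rw [← LinearEquiv.mul_apply, ← LinearEquiv.mul_apply, ← map_mul, ← map_mul,
        ← Subgroup.mem_centralizer_iff.mp hg n hn]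
    have hc := LinearMap.congr_fun (commRing_comm ρ N ⊤ hinv (fun U _ hU => hirr U hU) top_ne_bot
      (hmem a a.2) (hmem b b.2)) ⟨v, trivial⟩
    exact congrArg Subtype.val hc
  · intro a ha
    rw [Subgroup.mem_centralizer_iff]
    exact fun n hn => (Subgroup.mem_centralizer_iff.mp (hNle hn) a ha).symm

end Cfsg.Agent.S0687
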