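import Cfsg.Statements.S3361
import Cfsg.Agent.Lib.SolvLinear.Two
import Cfsg.Agent.Lib.SolvLinear.SLTwoThree
-- import your own Cfsg.Agent.* helpers here

set_option autoImplicit false
open Cfsg

namespace Cfsg.Agent.S3361

open Cfsg.Agent.Lib.SolvLinear

variable {q : ℕ} [hq : Fact q.Prime] {V : Type*} [AddCommGroup V] [Module (ZMod q) V] [Finite V]
  [Nontrivial V] {G : Type*} [Group G] [Finite G] {ρ : G →* (V ≃ₗ[ZMod q] V)}

theorem regular_card (ht : IsVecTransitive ρ) (hreg : ∀ v : V, v ≠ 0 → ∀ g : G, ρ g v = v → g = 1) :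
    Nat.card G = q ^ Module.finrank (ZMod q) V - 1 := by
  classical
  obtain ⟨v, hv⟩ := exists_ne (0 : V)
  let f : G → {w : V // w ≠ 0} := fun g => ⟨ρ g v, fun h => hv ((ρ g).map_eq_zero_iff.1 h)⟩
  have hf : Function.Bijective f := by
    refine ⟨fun g h e => ?_, fun w => ?_⟩
    · have e' : ρ g v = ρ h v := congrArg Subtype.val e
      refine (inv_mul_eq_one.1 (hreg v hv (h⁻¹ * g) ?_)).symm
      rw [map_mul, LinearEquiv.mul_apply, e', map_inv]
      exact (ρ h).symm_apply_apply v
    · obtain ⟨g, hg⟩ := ht v w hv w.2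
      exact ⟨g, Subtype.ext hg⟩
  rw [Nat.card_congr (Equiv.ofBijective f hf), ← card_eq_pow (q := q) (V := V)]
  have := Set.ncard_compl ({0} : Set V)
  rwa [Set.ncard_singleton] at this

theorem involution_neg (hreg : ∀ v : V, v ≠ 0 → ∀ g : G, ρ g v = v → g = 1) {u : G} (hu : u ^ 2 = 1)
    (hu1 : u ≠ 1) (v : V) : ρ u v = -v := by
  by_contra h
  refine hu1 (hreg (v + ρ u v) (fun h0 => h ?_) u ?_)
  · exact eq_neg_of_add_eq_zero_right h0
  · rw [map_add, ← LinearEquiv.mul_apply, ← map_mul, ← pow_two, hu, map_one]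
    exact add_comm _ _

theorem involution_unique (hρ : Function.Injective ρ)
    (hreg : ∀ v : V, v ≠ 0 → ∀ g : G, ρ g v = v → g = 1) {u w : G} (hu : u ^ 2 = 1) (hu1 : u ≠ 1)
    (hw : w ^ 2 = 1) (hw1 : w ≠ 1) : u = w :=
  hρ (LinearEquiv.ext fun v => by rw [involution_neg hreg hu hu1, involution_neg hreg hw hw1])

theorem semilinear_nine (hρ : Function.Injective ρ) (ht : IsVecTransitive ρ)
    (hreg : ∀ v : V, v ≠ 0 → ∀ g : G, ρ g v = v → g = 1) (hq3 : q = 3)
    (hn : Module.finrank (ZMod q) V = 2) : IsSemilinear ρ := by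
  subst hq3
  have hG := regular_card ht hreg
  rw [hn] at hG
  norm_num at hG
  obtain ⟨x, hx⟩ : ∃ x : G, x ^ 2 ≠ 1 := by
    by_contra hc
    push Not at hc
    classical
    haveI := Fintype.ofFinite G
    have hle : Fintype.card G ≤ 2 := by
      by_contra hlt
      obtain ⟨a, b, c, hab, hac, hbc⟩ := Fintype.two_lt_card_iff.1 (by omega : 2 < Fintype.card G)
      by_cases ha : a = 1
      · subst ha
        exact hbc (involution_unique hρ hreg (hc b) (Ne.symm hab) (hc c) (Ne.symm hac))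
      · by_cases hb : b = 1
        · subst hb
          exact hac (involution_unique hρ hreg (hc a) hab (hc c) (Ne.symm hbc))
        · exact hab (involution_unique hρ hreg (hc a) ha (hc b) hb)
    rw [Nat.card_eq_fintype_card] at hG
    omega
  have hdvd : orderOf x ∣ 2 ^ 3 := by
    have := orderOf_dvd_natCard x
    rwa [hG] at this
  obtain ⟨i, hi, hxi⟩ := (Nat.dvd_prime_pow Nat.prime_two).1 hdvd
  have hi2 : 2 ≤ i := by
    by_contra hlt
    apply hx
    have h1 : orderOf x ∣ 2 := hxi ▸ (pow_dvd_pow 2 (show i ≤ 1 by omega)).trans (by norm_num)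
    exact orderOf_dvd_iff_pow_eq_one.1 h1
  have hnorm : (Subgroup.zpowers x).Normal := by
    rcases Nat.eq_or_lt_of_le hi with rfl | hlt
    · have : Subgroup.zpowers x = ⊤ := by
        rw [← Subgroup.card_eq_iff_eq_top, Nat.card_zpowers, hxi, hG]; norm_num
      rw [this]; infer_instance
    · refine Subgroup.normal_of_index_eq_two ?_
      have h1 := Subgroup.index_mul_card (Subgroup.zpowers x)
      rw [Nat.card_zpowers, hxi, hG, show i = 2 by omega] at h1
      omega
  haveI := hnorm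
  have hA : IsMulCommutative (Subgroup.zpowers x) := inferInstance
  refine ⟨Subgroup.zpowers x, hnorm, hA, ?_⟩
  have h1 := natCard_dvd_degree ht _ hA hρ
  rw [Nat.card_zpowers, hxi] at h1
  have h2 := degree_le ht (Subgroup.zpowers x) hA
  have h3 := degree_pos ht (Subgroup.zpowers x) hA
  rw [hn] at h2 ⊢
  by_contra hne
  rw [show degree ρ (Subgroup.zpowers x) = 1 by omega] at h1
  have h4 := Nat.le_of_dvd (by norm_num) h1
  have h5 : 2 ^ 2 ≤ 2 ^ i := Nat.pow_le_pow_right two_pos hi2
  norm_num at h4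
  omega

/-- The triangle case yields `SL(2,3)` inside `G`. -/
theorem slTwoThree_of_triangle (hρ : Function.Injective ρ)
    (hreg : ∀ v : V, v ≠ 0 → ∀ g : G, ρ g v = v → g = 1) {D : Subgroup G} {a b0 : G} (ha : a ∈ D)
    (hb0 : b0 ∈ D) (h2 : IsClassTwo 2 D) (hab : a * b0 ≠ b0 * a)
    (hm : Nat.card D = 4 * Nat.card ↥(D ⊓ Subgroup.centralizer (D : Set G)))
    (hG : Nat.card G = 12 * Nat.card ↥(Subgroup.centralizer (D : Set G)))
    (hC4 : ¬ 4 ∣ Nat.card ↥(Subgroup.centralizer (D : Set G)))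
    (hC3 : ¬ 3 ∣ Nat.card ↥(Subgroup.centralizer (D : Set G)))
    (hcen : ∀ z ∈ Subgroup.centralizer (D : Set G), ∀ g : G, g * z = z * g)
    (htri : ∀ t : G, t ^ 3 = 1 → t ∉ Subgroup.centralizer (D : Set G) → ∀ d ∈ D,
      d ∉ D ⊓ Subgroup.centralizer (D : Set G) →
      t * d * t⁻¹ * d⁻¹ ∉ D ⊓ Subgroup.centralizer (D : Set G)) :
    ∃ f : Matrix.SpecialLinearGroup (Fin 2) (ZMod 3) →* G, Function.Injective f := by
  haveI := h2.normal
  set Z := D ⊓ Subgroup.centralizer (D : Set G) with hZ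
  have hne : ¬ D ≤ Subgroup.centralizer (D : Set G) := fun h =>
    hab (Subgroup.mem_centralizer_iff.1 (h hb0) a ha)
  have hzc : ∀ z ∈ Z, ∀ g : G, g * z = z * g := fun z hz => hcen z (Subgroup.mem_inf.1 hz).2
  -- the centre has order two
  have hu0 := h2.comm_pow a ha b0 hb0
  set u := a * b0 * a⁻¹ * b0⁻¹ with hu
  have huz : u ∈ Z := h2.comm_mem a ha b0 hb0
  have hu1 : u ≠ 1 := fun h => hab (comm_eq_one_iff.1 h)
  have huord : orderOf u = 2 := orderOf_eq_prime hu0 hu1
  have hZ2 : Nat.card Z = 2 := by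
    have h1 : 2 ∣ Nat.card Z := huord ▸ Subgroup.orderOf_dvd_natCard _ huz
    haveI : Fact (Nat.Prime 2) := ⟨Nat.prime_two⟩
    obtain ⟨k, hk⟩ := (h2.isPGroup.to_le (show Z ≤ D from inf_le_left)).exists_card_eq
    have h2' : Nat.card Z ∣ Nat.card ↥(Subgroup.centralizer (D : Set G)) :=
      Subgroup.card_dvd_of_le inf_le_right
    rcases k with _ | _ | k
    · rw [hk] at h1; norm_num at h1
    · simpa using hk
    · exact absurd ((show 4 ∣ Nat.card Z from hk ▸ ⟨2 ^ k, by rw [pow_succ, pow_succ]; ring⟩).trans h2') hC4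
  have hzu : ∀ z ∈ Z, z = 1 ∨ z = u := by
    intro z hz
    rcases eq_or_ne z 1 with h | h
    · exact Or.inl h
    · right
      refine involution_unique hρ hreg ?_ h hu0 hu1
      have : (⟨z, hz⟩ : Z) ^ 2 = 1 := hZ2 ▸ pow_card_eq_one'
      simpa using congrArg Subtype.val this
  have hsq : ∀ d ∈ D, d ∉ Z → d ^ 2 = u := by
    intro d hd hdz
    refine (hzu _ (h2.pow_mem d hd)).resolve_left fun h => ?_
    have h1 : d ≠ 1 := fun e => hdz (e ▸ Z.one_mem)
    exact hdz (involution_unique hρ hreg h h1 hu0 hu1 ▸ huz)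
  haveI : Fact (Nat.Prime 3) := ⟨Nat.prime_three⟩
  obtain ⟨t, ht⟩ := exists_prime_orderOf_dvd_card' (G := G) 3 (hG ▸ Dvd.intro (4 * _) (by ring))
  have ht3 : t ^ 3 = 1 := ht ▸ pow_orderOf_eq_one t
  have htC : t ∉ Subgroup.centralizer (D : Set G) := fun h =>
    hC3 (ht ▸ Subgroup.orderOf_dvd_natCard _ h)
  have haz : a ∉ Z := fun h => hab (hzc a h b0).symm
  have hconjD : ∀ d ∈ D, t * d * t⁻¹ ∈ D := fun d hd => h2.normal.conj_mem d hd t
  have hconjZ : ∀ d, d ∉ Z → t * d * t⁻¹ ∉ Z := fun d hd h => hd (by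
    have h1 : t⁻¹ * (t * d * t⁻¹) * t⁻¹⁻¹ = t * d * t⁻¹ := by
      rw [hzc _ h t⁻¹]; group
    have h3 : t⁻¹ * (t * d * t⁻¹) * t⁻¹⁻¹ = d := by group
    rwa [← h3, h1])
  set b := t * a * t⁻¹ with hb
  have hbD : b ∈ D := hconjD a ha
  have hbz : b ∉ Z := hconjZ a haz
  have hba' : b * a⁻¹ ∉ Z := htri t ht3 htC a ha haz
  have hab' : a * b ≠ b * a := by
    intro hc
    obtain ⟨i, j, z, hz, he⟩ := four_cosets hm ha hb0 hab b hbD
    rcases Fin.exists_fin_two.1 ⟨j, rfl⟩ with rfl | rfl
    · simp only [Fin.val_zero, pow_zero, mul_one] at he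
      rcases Fin.exists_fin_two.1 ⟨i, rfl⟩ with rfl | rfl
      · simp only [Fin.val_zero, pow_zero, one_mul] at he
        exact hbz (he ▸ hz)
      · simp only [Fin.val_one, pow_one] at he
        apply hba'
        rw [he, show a * z * a⁻¹ = z by rw [hzc z hz a, mul_inv_cancel_right]]
        exact hz
    · simp only [Fin.val_one, pow_one] at he
      apply hab
      show Commute a b0
      have h1 : b0 = (a ^ (i : ℕ))⁻¹ * b * z⁻¹ := by rw [he]; group
      rw [h1]
      exact (((Commute.refl a).pow_right _).inv_right.mul_right hc).mul_right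
        (show Commute a z from hzc z hz a).inv_right
  have hba2 : b * a = a ^ 3 * b := by
    have hcomm := h2.comm_mem a ha b hbD
    have h1 : a * b * a⁻¹ * b⁻¹ = u :=
      (hzu _ hcomm).resolve_left fun h => hab' (comm_eq_one_iff.1 h)
    have h3 : a * b = u * (b * a) := by rw [← h1]; group
    calc b * a = (u * u) * (b * a) := by rw [← pow_two, hu0, one_mul]
      _ = u * (a * b) := by rw [h3]; group
      _ = a ^ 2 * (a * b) := by rw [hsq a ha haz]
      _ = a ^ 3 * b := by group
  set c0 := t * b * t⁻¹ with hc0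
  have hc0b : c0 * b⁻¹ ∉ Z := htri t ht3 htC b hbD hbz
  have hc0t : t * c0 * t⁻¹ = a := by
    rw [hc0, hb, show t * (t * (t * a * t⁻¹) * t⁻¹) * t⁻¹ = t ^ 3 * a * (t ^ 3)⁻¹ by rw [pow_succ, pow_succ, pow_one]; group, ht3]; group
  obtain ⟨i, j, z, hz, he⟩ := four_cosets hm ha hbD hab' c0 (hconjD b hbD)
  have hij : (i : ℕ) = 1 ∧ (j : ℕ) = 1 := by
    rcases Fin.exists_fin_two.1 ⟨i, rfl⟩ with rfl | rfl <;>
      rcases Fin.exists_fin_two.1 ⟨j, rfl⟩ with rfl | rfl
    · simp only [Fin.val_zero, pow_zero, one_mul] at he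
      exact absurd (show c0 ∈ Z by rw [he]; exact hz) (hconjZ b hbz)
    · simp only [Fin.val_zero, Fin.val_one, pow_zero, pow_one, one_mul] at he
      refine absurd ?_ hc0b
      rw [he, show b * z * b⁻¹ = z by rw [hzc z hz b, mul_inv_cancel_right]]
      exact hz
    · simp only [Fin.val_zero, Fin.val_one, pow_zero, pow_one, mul_one] at he
      refine absurd ?_ hba'
      have h1 : a = b * z := by
        conv_lhs => rw [← hc0t, he]
        rw [show t * (a * z) * t⁻¹ = t * a * t⁻¹ * (t * z * t⁻¹) by group, ← hb, hzc z hz t,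
          mul_inv_cancel_right]
      have h3 : b * a⁻¹ = z⁻¹ := by
        rw [h1, mul_inv_rev, ← mul_assoc, ← (show Commute b z⁻¹ from
          (show Commute b z from hzc z hz b).inv_right).eq.symm, mul_assoc, mul_inv_cancel, mul_one]
      rw [h3]; exact Z.inv_mem hz
    · exact ⟨rfl, rfl⟩
  rw [hij.1, hij.2, pow_one, pow_one] at he
  -- normalise the sign
  obtain ⟨a', b', ha', hb', ha'z, hb'z, hrel, hba3, htb⟩ : ∃ a' b', a' ∈ D ∧ b' ∈ D ∧ a' ∉ Z ∧ b' ∉ Z ∧
      t * a' * t⁻¹ = b' ∧ b' * a' = a' ^ 3 * b' ∧ t * b' * t⁻¹ = a' * b' := by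
    rcases hzu z hz with rfl | rfl
    · exact ⟨a, b, ha, hbD, haz, hbz, rfl, hba2, by rw [mul_one] at he; exact he⟩
    · have hua : ∀ g : G, u * g = g * u := fun g => (hzc u huz g).symm
      have huu : u * u = 1 := by rw [← pow_two, hu0]
      have hnz : ∀ d, d ∉ Z → d * u ∉ Z := fun d hd h => hd ((Subgroup.mul_mem_cancel_right _ huz).1 h)
      have hconj : ∀ d : G, t * (d * u) * t⁻¹ = t * d * t⁻¹ * u := fun d => by
        rw [mul_assoc t, mul_assoc d u, hua t⁻¹]; group
      refine ⟨a * u, b * u, D.mul_mem ha huz.1, D.mul_mem hbD huz.1, hnz a haz, hnz b hbz,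
        hconj a, ?_, ?_⟩
      · have h3 : (a * u) ^ 3 = a ^ 3 * u := by
          rw [(show Commute a u from (hua a).symm).mul_pow, pow_succ u 2, hu0, one_mul]
        rw [h3]
        calc b * u * (a * u) = b * a * (u * u) := by rw [mul_assoc b, ← mul_assoc u, hua a]; group
          _ = a ^ 3 * b * (u * u) := by rw [hba2]
          _ = a ^ 3 * (u * b) * u := by rw [hua b]; group
          _ = _ := by group
      · rw [hconj b, ← hc0, he, mul_assoc, huu, mul_one]
        calc a * b = a * (u * b) * u := by rw [hua b]; rw [mul_assoc, mul_assoc b, huu, mul_one]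
          _ = _ := by group
  have ha4 : a' ^ 4 = 1 := by rw [show 4 = 2 * 2 by rfl, pow_mul, hsq a' ha' ha'z, hu0]
  have hab3 : a' * b' ≠ b' * a' := by
    intro hc
    rw [← hc] at hba3
    have h1 : a' = a' ^ 3 := mul_right_cancel hba3
    have h3 : a' ^ 2 = 1 := by
      have : a' * a' ^ 2 = a' * 1 := by rw [← pow_succ', ← h1, mul_one]
      exact mul_left_cancel this
    exact hu1 ((hsq a' ha' ha'z).symm.trans h3)
  refine exists_hom_slTwoThree (a := a') (b := b') (t := t) ha4
    (by rw [← pow_two, ← pow_two, hsq b' hb' hb'z, hsq a' ha' ha'z]) hba3 ht3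
    (mul_inv_eq_iff_eq_mul.1 hrel) (mul_inv_eq_iff_eq_mul.1 htb) ?_
  rintro ⟨i1, j1, k1⟩ ⟨i2, j2, k2⟩ h
  simp only [wordVal] at h
  have hd1 : a' ^ (i1 : ℕ) * b' ^ (j1 : ℕ) ∈ D := D.mul_mem (D.pow_mem ha' _) (D.pow_mem hb' _)
  have hd2 : a' ^ (i2 : ℕ) * b' ^ (j2 : ℕ) ∈ D := D.mul_mem (D.pow_mem ha' _) (D.pow_mem hb' _)
  set d1 := a' ^ (i1 : ℕ) * b' ^ (j1 : ℕ) with hd1'
  set d2 := a' ^ (i2 : ℕ) * b' ^ (j2 : ℕ) with hd2'
  have htD : ∀ n : ℕ, t ^ n ∈ D → 3 ∣ n := by
    intro n hn
    have h8 : (t ^ n) ^ 8 = 1 := by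
      have : (⟨t ^ n, hn⟩ : D) ^ Nat.card D = 1 := pow_card_eq_one'
      rw [hm, hZ2] at this
      simpa using congrArg Subtype.val this
    rw [← pow_mul] at h8
    have := orderOf_dvd_of_pow_eq_one h8
    rw [ht] at this
    omega
  have hk : k1 = k2 := by
    have hmem : d2⁻¹ * d1 ∈ D := D.mul_mem (D.inv_mem hd2) hd1
    have e1 : d2⁻¹ * d1 = t ^ (k2 : ℕ) * (t ^ (k1 : ℕ))⁻¹ := by
      rw [eq_mul_inv_iff_mul_eq, mul_assoc, h, inv_mul_cancel_left]
    rw [e1] at hmem
    rcases Nat.le_total (k1 : ℕ) k2 with hle | hle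
    · rw [← pow_sub t hle] at hmem
      have := htD _ hmem
      exact Fin.ext (by omega)
    · have h' := D.inv_mem hmem
      rw [mul_inv_rev, inv_inv, ← pow_sub t hle] at h'
      have := htD _ h'
      exact Fin.ext (by omega)
  subst hk
  have hij' : d1 = d2 := mul_right_cancel h
  have hord : orderOf a' = 4 := by
    refine orderOf_eq_prime_pow (p := 2) (n := 1) ?_ (by simpa using ha4)
    simpa using (hsq a' ha' ha'z).trans_ne hu1
  have hj : j1 = j2 := by
    by_contra hne'
    apply hab3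
    have hcc : ∀ x y : ℕ, Commute a' ((a' ^ x)⁻¹ * a' ^ y) := fun x y =>
      ((Commute.refl a').pow_right x).inv_right.mul_right ((Commute.refl a').pow_right y)
    rcases Fin.exists_fin_two.1 ⟨j1, rfl⟩ with rfl | rfl <;>
      rcases Fin.exists_fin_two.1 ⟨j2, rfl⟩ with rfl | rfl
    · exact absurd rfl hne'
    · simp only [hd1', hd2', Fin.val_zero, Fin.val_one, pow_zero, pow_one, mul_one] at hij'
      rw [show b' = (a' ^ (i2 : ℕ))⁻¹ * a' ^ (i1 : ℕ) by rw [hij']; group]
      exact (hcc _ _).eq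
    · simp only [hd1', hd2', Fin.val_zero, Fin.val_one, pow_zero, pow_one, mul_one] at hij'
      rw [show b' = (a' ^ (i1 : ℕ))⁻¹ * a' ^ (i2 : ℕ) by rw [← hij']; group]
      exact (hcc _ _).eq
    · exact absurd rfl hne'
  subst hj
  rw [hd1', hd2'] at hij'
  have h4 := mul_right_cancel hij'
  have := pow_injOn_Iio_orderOf (x := a') (by simp [hord, i1.2] : (i1 : ℕ) ∈ Set.Iio (orderOf a'))
    (by simp [hord, i2.2] : (i2 : ℕ) ∈ Set.Iio (orderOf a')) h4
  obtain rfl : i1 = i2 := Fin.ext this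
  rfl

/-- Let q be a prime and V a non-trivial finite vector space over the field with q elements, and let G be a finite solvable group acting faithfully and linearly on V and regularly on the non-zero vectors (transitively, with only the identity fixing a non-zero vector). Then either V can be identified with the additive group of a finite field F so that every element of G acts as x ↦ a·σ(x) (a ∈ F, σ a field automorphism), or V has 5^2, 7^2, 11^2 or 23^2 elements. Moreover, if q ≠ 2 then G has a normal subgroup of index 2, except that when V has 25 elements G may be isomorphic to SL(2,3) and when V has 121 elements G may be isomorphic to SL(2,3) × C₅. -/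
theorem result
    (q : ℕ) [Fact q.Prime] {V : Type*} [AddCommGroup V] [Module (ZMod q) V] [Finite V] [Nontrivial V]
    {G : Type*} [Group G] [Finite G] (hsol : Group.IsSolvable G)
    (ρ : G →* (V ≃ₗ[ZMod q] V)) (hρ : Function.Injective ρ)
    (htrans : ∀ v w : V, v ≠ 0 → w ≠ 0 → ∃ g : G, ρ g v = w)
    (hreg : ∀ v : V, v ≠ 0 → ∀ g : G, ρ g v = v → g = 1) :
    ((∃ (F : Type) (_ : Field F) (_ : Fintype F) (e : V ≃+ F),
        ∀ g : G, ∃ (a : F) (σ : F ≃+* F), ∀ v : V, e (ρ g v) = a * σ (e v)) ∨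
      Nat.card V ∈ ({25, 49, 121, 529} : Set ℕ)) ∧
    (q ≠ 2 → (∃ N : Subgroup G, N.Normal ∧ N.index = 2) ∨
      (Nat.card V = 25 ∧ Nonempty (G ≃* Matrix.SpecialLinearGroup (Fin 2) (ZMod 3))) ∨
      (Nat.card V = 121 ∧ Nonempty (G ≃* Matrix.SpecialLinearGroup (Fin 2) (ZMod 3) × Multiplicative (ZMod 5)))) := by
  haveI := hsol
  have hcard := card_eq_pow (q := q) (V := V)
  have hpos : 0 < Module.finrank (ZMod q) V := Module.finrank_pos
  have hG := regular_card htrans hreg
  by_cases hs : IsSemilinear ρ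
  · exact ⟨Or.inl (hs.exists_field htrans), fun hq2 => Or.inl (hs.exists_index_two hρ htrans hq2)⟩
  have hn : Module.finrank (ZMod q) V = 2 := by
    rcases Nat.lt_or_ge (Module.finrank (ZMod q) V) 3 with h | h
    · rcases Nat.lt_or_ge (Module.finrank (ZMod q) V) 2 with h1 | h2
      · exact absurd (isSemilinear_of_finrank_eq_one htrans (by omega)) hs
      · omega
    · exfalso
      obtain ⟨rfl, h4, h32⟩ := (semilinear_or_three_four hρ htrans h).resolve_left hs
      rw [hG, h4] at h32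
      norm_num at h32
  rw [hn] at hG hcard
  obtain ⟨-, -, hdich⟩ := two_dichotomy hρ htrans hs hn
  have hprimes := two_primes hρ htrans hs hn
  have hq3 : q ≠ 3 := fun h => hs (semilinear_nine hρ htrans hreg h hn)
  refine ⟨Or.inr ?_, fun _ => ?_⟩
  · rcases hprimes with rfl | rfl | rfl | rfl | rfl <;> simp [hcard] at hq3 ⊢
  rcases hdich with h | ⟨D, a, ha, b, hb, h2, hab, hm, hG12, hC, hcen, htri⟩
  · exact Or.inl h
  right
  rw [hG] at hG12
  rcases hprimes with rfl | rfl | rfl | rfl | rfl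
  · exact absurd rfl hq3
  · left
    norm_num at hG hG12 hcard
    refine ⟨hcard, ?_⟩
    obtain ⟨f, hf⟩ := slTwoThree_of_triangle hρ hreg ha hb h2 hab hm (by omega) (by omega) (by omega) hcen htri
    have hsl : Nat.card (Matrix.SpecialLinearGroup (Fin 2) (ZMod 3)) = 24 := by
      rw [← Nat.card_congr (Equiv.ofBijective _ slWord_bijective)]
      simp
    exact ⟨(MulEquiv.ofBijective f (hf.bijective_of_nat_card_le (by omega))).symm⟩
  · exfalso
    norm_num at hG12 hC
    have hC' : Nat.card ↥(Subgroup.centralizer (D : Set G)) = 4 := by omega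
    rw [hC'] at hC
    norm_num at hC
  · right
    norm_num at hG hG12 hcard
    refine ⟨hcard, ?_⟩
    have hC10 : Nat.card ↥(Subgroup.centralizer (D : Set G)) = 10 := by omega
    obtain ⟨f, hf⟩ := slTwoThree_of_triangle hρ hreg ha hb h2 hab hm (by omega) (by omega) (by omega) hcen htri
    haveI : Fact (Nat.Prime 5) := ⟨by norm_num⟩
    obtain ⟨x, hx⟩ := exists_prime_orderOf_dvd_card' (G := ↥(Subgroup.centralizer (D : Set G))) 5 (by rw [hC10]; norm_num)
    have hxord : orderOf (x : G) = 5 := by rw [Subgroup.orderOf_coe]; exact hx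
    have hcard5 : Nat.card (Subgroup.zpowers (x : G)) = Nat.card (Multiplicative (ZMod 5)) := by
      rw [Nat.card_zpowers, hxord]; simp
    let e : Multiplicative (ZMod 5) ≃* Subgroup.zpowers (x : G) :=
      (mulEquivOfPrimeCardEq (p := 5) (by rw [hcard5]; simp) (by simp)).symm
    let g : Multiplicative (ZMod 5) →* G := (Subgroup.zpowers (x : G)).subtype.comp e.toMonoidHom
    have hg : Function.Injective g := Subtype.val_injective.comp e.injective
    let F := f.noncommCoprod g fun s y => by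
      obtain ⟨i, hi⟩ := (e y).2
      show Commute (f s) (g y)
      have : g y = (x : G) ^ i := hi.symm
      rw [this]
      exact (show Commute (f s) (x : G) from hcen _ x.2 _).zpow_right i
    have hF : Function.Injective F := by
      rw [injective_iff_map_eq_one]
      rintro ⟨s, y⟩ h
      have h' : f s * g y = 1 := h
      have hy5 : g y ^ 5 = 1 := by
        rw [← map_pow, show y ^ 5 = 1 from by
          have : y ^ Nat.card (Multiplicative (ZMod 5)) = 1 := pow_card_eq_one'
          simpa using this, map_one]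
      have hs24 : f s ^ 24 = 1 := by
        rw [← map_pow, show s ^ 24 = 1 from by
          have hsl : Nat.card (Matrix.SpecialLinearGroup (Fin 2) (ZMod 3)) = 24 := by
            rw [← Nat.card_congr (Equiv.ofBijective _ slWord_bijective)]
            simp
          exact hsl ▸ pow_card_eq_one', map_one]
      have hfs : f s = (g y)⁻¹ := eq_inv_of_mul_eq_one_left h'
      have h1 : f s ^ 5 = 1 := by rw [hfs, inv_pow, hy5, inv_one]
      have h3 : f s = 1 := by simpa using pow_gcd_eq_one.2 ⟨h1, hs24⟩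
      rw [h3, one_mul] at h'
      exact Prod.ext (hf (h3.trans f.map_one.symm)) (hg (h'.trans g.map_one.symm))
    have hsl : Nat.card (Matrix.SpecialLinearGroup (Fin 2) (ZMod 3)) = 24 := by
      rw [← Nat.card_congr (Equiv.ofBijective _ slWord_bijective)]
      simp
    exact ⟨(MulEquiv.ofBijective F (hF.bijective_of_nat_card_le (by
      rw [hG, Nat.card_prod, hsl]; simp))).symm⟩
  · exfalso
    norm_num at hG12 hC
    have hC' : Nat.card ↥(Subgroup.centralizer (D : Set G)) = 44 := by omega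
    rw [hC'] at hC
    norm_num at hC

end Cfsg.Agent.S3361
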