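import Cfsg.Statements.S0688
import Mathlib
import Cfsg.Agent.S3361

set_option autoImplicit false
open Cfsg

namespace Cfsg.Agent.S0688

open Cfsg.Agent.Lib.SolvLinear

variable {q : ℕ} [hq : Fact q.Prime] {V : Type*} [AddCommGroup V] [Module (ZMod q) V] [Finite V]

/-- A subgroup spanning a field of full degree is irreducible. -/
theorem irreducible_of_degree_eq [Nontrivial V] {G : Type*} [Group G] [Finite G]
    {ρ : G →* (V ≃ₗ[ZMod q] V)} (ht : IsVecTransitive ρ) (A : Subgroup G) [A.Normal]
    (hA : IsMulCommutative A) (hk : degree ρ A = Module.finrank (ZMod q) V)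
    (W : Submodule (ZMod q) V) (hWA : ∀ a ∈ A, ∀ v ∈ W, ρ a v ∈ W) (hW : W ≠ ⊥) : W = ⊤ := by
  obtain ⟨w, hw, hw0⟩ := W.ne_bot_iff.mp hW
  haveI : Finite (Module.End (ZMod q) V) :=
    Finite.of_injective (fun f : Module.End (ZMod q) V => ⇑f) DFunLike.coe_injective
  have hstab : ∀ c ∈ alg ρ A, ∀ v ∈ W, c v ∈ W := by
    intro c hc
    refine Algebra.adjoin_induction (p := fun c _ => ∀ v ∈ W, c v ∈ W) ?_ ?_ ?_ ?_ hc
    · rintro _ ⟨a, ha, rfl⟩ v hv
      exact hWA a ha v hv
    · intro r v hv
      rw [Module.algebraMap_end_apply]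
      exact W.smul_mem r hv
    · exact fun c d _ _ h h' v hv => W.add_mem (h v hv) (h' v hv)
    · exact fun c d _ _ h h' v hv => h _ (h' v hv)
  let f : alg ρ A → V := fun c => (c : Module.End (ZMod q) V) w
  have hinj : Function.Injective f := by
    intro c d h
    by_contra hne
    rcases eq_zero_or_isUnit ht A hA ((c - d).2) with h0 | ⟨b, hb, hmul⟩
    · exact hne (sub_eq_zero.mp (Subtype.ext h0))
    · apply hw0
      have hc := LinearMap.congr_fun
        (alg_commute ρ hA (c - d).2 hb : _ * b = b * _) w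
      rw [hmul] at hc
      simp only [Module.End.one_apply, Module.End.mul_apply] at hc
      have hz : ((c - d : alg ρ A) : Module.End (ZMod q) V) w = 0 := by
        show (c : Module.End (ZMod q) V) w - (d : Module.End (ZMod q) V) w = 0
        exact sub_eq_zero.mpr h
      rw [hz, map_zero] at hc
      exact hc
  have hbij : Function.Bijective f := hinj.bijective_of_nat_card_le (by
    rw [natCard_alg ht A hA, hk, ← card_eq_pow (q := q) (V := V)])
  refine Submodule.eq_top_iff'.mpr fun v => ?_
  obtain ⟨c, rfl⟩ := hbij.2 v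
  exact hstab c c.2 w hw

/-- Degrees of the soluble exceptional sharply doubly transitive groups: if a solvable linear group over the prime field is regular on the non-zero vectors of `V` and has no irreducible cyclic normal subgroup, then `V` has 25, 49, 121 or 529 elements. -/
theorem result {p : ℕ} [Fact p.Prime] {V : Type*} [AddCommGroup V] [Module (ZMod p) V] [Finite V] (H : Subgroup (V ≃ₗ[ZMod p] V)) (hreg : ∀ v w : V, v ≠ 0 → w ≠ 0 → ∃! h : H, (h : V ≃ₗ[ZMod p] V) v = w) (hI : ∀ A : Subgroup H, A.Normal → IsCyclic A → ∃ W : Submodule (ZMod p) V, W ≠ ⊥ ∧ W ≠ ⊤ ∧ ∀ a ∈ A, ∀ v ∈ W, ((a : H) : V ≃ₗ[ZMod p] V) v ∈ W) (hsolv : Group.IsSolvable H) : Nat.card V = 25 ∨ Nat.card V = 49 ∨ Nat.card V = 121 ∨ Nat.card V = 529 := by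
  rcases subsingleton_or_nontrivial V with hV | hV
  · obtain ⟨W, h1, h2, -⟩ := hI ⊥ inferInstance inferInstance
    exact absurd (Subsingleton.elim W ⊤) h2
  haveI : Finite (V ≃ₗ[ZMod p] V) :=
    Finite.of_injective (fun f : V ≃ₗ[ZMod p] V => ⇑f) DFunLike.coe_injective
  haveI := hsolv
  let ρ : H →* (V ≃ₗ[ZMod p] V) := H.subtype
  have hρ : Function.Injective ρ := H.subtype_injective
  have htrans : IsVecTransitive ρ := fun v w hv hw => (hreg v w hv hw).exists
  have hfree : ∀ v : V, v ≠ 0 → ∀ g : H, ρ g v = v → g = 1 := fun v hv g hg =>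
    (hreg v v hv hv).unique hg rfl
  have hs : ¬ IsSemilinear ρ := by
    rintro ⟨A, hAn, hA, hk⟩
    haveI := hAn
    obtain ⟨W, hb, ht, hWA⟩ := hI A hAn (isCyclic_normal_abelian htrans A hA hρ)
    exact ht (irreducible_of_degree_eq htrans A hA hk W hWA hb)
  have hcard := card_eq_pow (q := p) (V := V)
  have hG := S3361.regular_card htrans hfree
  have hn : Module.finrank (ZMod p) V = 2 := by
    rcases Nat.lt_or_ge (Module.finrank (ZMod p) V) 3 with h | h
    · rcases Nat.lt_or_ge (Module.finrank (ZMod p) V) 2 with h1 | h2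
      · have hpos : 0 < Module.finrank (ZMod p) V := Module.finrank_pos
        exact absurd (isSemilinear_of_finrank_eq_one htrans (by omega)) hs
      · omega
    · exfalso
      obtain ⟨rfl, h4, h32⟩ := (semilinear_or_three_four hρ htrans h).resolve_left hs
      rw [hG, h4] at h32
      norm_num at h32
  rw [hn] at hcard
  have hp3 : p ≠ 3 := fun h => hs (S3361.semilinear_nine hρ htrans hfree h hn)
  rcases two_primes hρ htrans hs hn with rfl | rfl | rfl | rfl | rfl <;> simp [hcard] at hp3 ⊢

end Cfsg.Agent.S0688
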