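import Cfsg.Statements.S0691
import Cfsg.Agent.Lib.Perm.LinRegular

set_option autoImplicit false
open Cfsg

namespace Cfsg.Agent.S0691

def certL : List Lib.LinRegular.Quad :=
  [(1, 0, 0, 1), (2, 0, 0, 3), (0, 4, 1, 0), (1, 2, 1, 3), (4, 0, 0, 4),
    (0, 3, 3, 0), (2, 4, 3, 4), (0, 2, 2, 0), (4, 2, 1, 2), (2, 1, 2, 4),
    (3, 3, 4, 1), (3, 0, 0, 2), (0, 1, 4, 0), (4, 3, 4, 2), (3, 4, 3, 1),
    (1, 1, 2, 3), (3, 1, 2, 1), (1, 4, 3, 3), (1, 3, 4, 3), (3, 2, 1, 1),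
    (2, 2, 1, 4), (2, 3, 4, 4), (4, 4, 3, 2), (4, 1, 2, 2)]

def certPar : List (ℕ × ℕ) :=
  [(0, 0), (0, 0), (0, 1), (0, 2), (1, 0),
    (1, 1), (1, 2), (2, 0), (2, 2), (3, 0),
    (3, 2), (4, 0), (4, 1), (4, 2), (5, 2),
    (6, 2), (8, 0), (8, 2), (9, 1), (9, 2),
    (13, 2), (14, 2), (16, 2), (18, 2)]

def certTab : List (List ℕ) :=
  [[1, 2, 3], [4, 5, 6], [7, 4, 8], [9, 6, 10], [11, 12, 13],
    [2, 11, 14], [8, 13, 15], [12, 1, 9], [16, 9, 17], [13, 18, 19],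
    [17, 19, 0], [0, 7, 16], [5, 0, 18], [14, 16, 20], [3, 8, 21],
    [21, 17, 1], [18, 3, 22], [20, 22, 2], [6, 14, 23], [15, 20, 7],
    [23, 21, 4], [22, 10, 5], [19, 23, 11], [10, 15, 12]]

instance factPrime5 : Fact (Nat.Prime 5) := ⟨by norm_num⟩

set_option maxRecDepth 100000

/-- An exceptional sharply doubly transitive group of degree 5^2: the listed matrices generate a subgroup of GL(2,5) of order 24 acting regularly on the non-zero vectors. -/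
theorem result (A : Matrix.GeneralLinearGroup (Fin 2) (ZMod 5)) (B : Matrix.GeneralLinearGroup (Fin 2) (ZMod 5)) (C : Matrix.GeneralLinearGroup (Fin 2) (ZMod 5)) (hA : (A : Matrix (Fin 2) (Fin 2) (ZMod 5)) = !![2, 0; 0, -2]) (hB : (B : Matrix (Fin 2) (Fin 2) (ZMod 5)) = !![0, -1; 1, 0]) (hC : (C : Matrix (Fin 2) (Fin 2) (ZMod 5)) = !![1, 2; 1, -2]) : Nat.card (Subgroup.closure ({A, B, C} : Set (Matrix.GeneralLinearGroup (Fin 2) (ZMod 5)))) = 24 ∧ ∀ v w : Fin 2 → ZMod 5, v ≠ 0 → w ≠ 0 → ∃! h : Subgroup.closure ({A, B, C} : Set (Matrix.GeneralLinearGroup (Fin 2) (ZMod 5))), Matrix.mulVec ((h : Matrix.GeneralLinearGroup (Fin 2) (ZMod 5)) : Matrix (Fin 2) (Fin 2) (ZMod 5)) v = w := by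
  have key := Lib.LinRegular.regular_of_certificate (p := 5)
    ({A, B, C} : Set (Matrix.GeneralLinearGroup (Fin 2) (ZMod 5)))
    [A, B, C] (by simp) 1 (one_mem _) (by simp)
    [(2, 0, 0, 3), (0, 4, 1, 0), (1, 2, 1, 3)]
    (by simp only [List.map_cons, List.map_nil, Lib.LinRegular.qmat, hA, hB, hC]; decide)
    1 (by simp)
    certL certPar certTab [1] (by decide +kernel)
  exact ⟨key.1, key.2⟩

end Cfsg.Agent.S0691
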