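import Cfsg.Statements.S0692
import Cfsg.Agent.Lib.Perm.LinRegular

set_option autoImplicit false
open Cfsg

namespace Cfsg.Agent.S0692

def certL : List Lib.LinRegular.Quad :=
  [(1, 0, 0, 1), (0, 10, 1, 0), (2, 4, 1, 8), (10, 0, 0, 10), (10, 3, 2, 4),
    (4, 9, 8, 10), (8, 7, 10, 2), (0, 1, 10, 0), (9, 7, 10, 3), (3, 1, 4, 9),
    (1, 9, 8, 7), (6, 0, 4, 2), (7, 3, 2, 1), (1, 8, 9, 7), (7, 2, 3, 1),
    (3, 4, 1, 9), (7, 9, 6, 0), (9, 10, 7, 3), (0, 5, 2, 7), (1, 2, 10, 10),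
    (6, 8, 5, 5), (8, 10, 7, 2), (10, 2, 3, 4), (5, 0, 7, 9), (4, 8, 9, 10),
    (9, 4, 0, 5), (1, 1, 1, 2), (6, 6, 6, 8), (5, 7, 0, 9), (2, 10, 10, 1),
    (8, 5, 5, 6), (9, 0, 4, 5), (4, 2, 5, 0), (2, 1, 4, 8), (0, 6, 9, 4),
    (10, 9, 1, 1), (5, 3, 6, 6), (0, 2, 5, 7), (1, 10, 2, 10), (6, 5, 8, 5),
    (7, 6, 9, 0), (6, 10, 9, 6), (3, 0, 10, 4), (10, 6, 5, 2), (2, 7, 0, 6),
    (10, 10, 10, 9), (5, 5, 5, 3), (6, 4, 0, 2), (9, 1, 1, 10), (3, 6, 6, 5),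
    (2, 0, 7, 6), (2, 5, 6, 10), (1, 7, 3, 0), (6, 9, 10, 6), (10, 5, 6, 2),
    (0, 8, 4, 1), (6, 1, 2, 6), (4, 0, 1, 3), (0, 9, 6, 4), (10, 1, 9, 1),
    (5, 6, 3, 6), (4, 5, 2, 0), (5, 1, 2, 5), (8, 0, 1, 7), (1, 5, 6, 9),
    (5, 9, 10, 5), (7, 10, 0, 8), (9, 5, 6, 1), (10, 8, 4, 0), (3, 3, 3, 7),
    (8, 9, 9, 2), (0, 7, 3, 10), (9, 6, 5, 1), (10, 4, 8, 0), (5, 2, 1, 5),
    (1, 6, 5, 9), (0, 3, 7, 10), (5, 10, 9, 5), (7, 0, 10, 8), (8, 4, 3, 3),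
    (2, 9, 8, 9), (8, 1, 0, 7), (3, 8, 7, 8), (9, 3, 2, 2), (3, 5, 9, 8),
    (7, 1, 5, 4), (6, 2, 1, 6), (4, 1, 0, 3), (2, 6, 5, 10), (1, 3, 7, 0),
    (8, 8, 8, 4), (3, 2, 2, 9), (0, 4, 8, 1), (4, 3, 3, 8), (9, 9, 9, 3),
    (2, 3, 3, 5), (6, 7, 7, 1), (3, 10, 0, 4), (5, 8, 8, 2), (1, 4, 4, 6),
    (3, 7, 8, 8), (9, 2, 3, 2), (8, 3, 4, 3), (2, 8, 9, 9), (8, 6, 2, 3),
    (4, 10, 6, 7), (3, 9, 5, 8), (7, 5, 1, 4), (5, 4, 4, 10), (7, 7, 7, 4),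
    (6, 3, 3, 9), (7, 8, 8, 3), (2, 2, 2, 8), (9, 8, 8, 6), (10, 7, 7, 5),
    (4, 7, 7, 7), (8, 2, 6, 3), (4, 6, 10, 7), (7, 4, 4, 4), (4, 4, 4, 7)]

def certPar : List (ℕ × ℕ) :=
  [(0, 0), (0, 0), (0, 1), (1, 0), (1, 1),
    (2, 0), (2, 1), (3, 0), (3, 1), (4, 0),
    (4, 1), (5, 1), (6, 0), (7, 1), (8, 0),
    (8, 1), (9, 1), (10, 0), (11, 0), (11, 1),
    (12, 1), (13, 0), (13, 1), (14, 1), (15, 0),
    (16, 0), (16, 1), (17, 1), (18, 1), (19, 0),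
    (20, 0), (20, 1), (21, 1), (22, 0), (23, 0),
    (23, 1), (24, 1), (25, 1), (26, 0), (27, 0),
    (27, 1), (28, 1), (29, 1), (30, 1), (32, 0),
    (32, 1), (33, 1), (34, 1), (35, 0), (36, 0),
    (36, 1), (37, 1), (38, 1), (39, 1), (41, 0),
    (42, 0), (42, 1), (43, 1), (44, 1), (45, 0),
    (46, 0), (46, 1), (47, 1), (48, 1), (49, 1),
    (51, 0), (52, 0), (52, 1), (53, 1), (54, 1),
    (55, 1), (57, 0), (58, 1), (59, 1), (60, 1),
    (62, 0), (63, 0), (63, 1), (64, 1), (65, 1),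
    (66, 1), (68, 0), (69, 0), (69, 1), (70, 1),
    (71, 1), (72, 0), (73, 0), (73, 1), (74, 1),
    (75, 1), (76, 1), (78, 0), (79, 0), (79, 1),
    (80, 1), (81, 1), (82, 1), (84, 0), (85, 0),
    (86, 1), (87, 1), (90, 0), (90, 1), (91, 1),
    (92, 1), (95, 0), (96, 0), (97, 1), (98, 1),
    (99, 1), (100, 0), (100, 1), (101, 1), (105, 0),
    (106, 1), (107, 1), (108, 0), (109, 0), (110, 1)]

def certTab : List (List ℕ) :=
  [[1, 2], [3, 4], [5, 6], [7, 8], [9, 10],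
    [8, 11], [12, 0], [0, 13], [14, 15], [13, 16],
    [17, 1], [18, 19], [15, 20], [21, 22], [2, 23],
    [24, 3], [25, 26], [22, 27], [23, 28], [29, 5],
    [30, 31], [4, 32], [33, 7], [34, 35], [6, 36],
    [32, 37], [38, 9], [39, 40], [40, 41], [35, 42],
    [36, 43], [37, 12], [44, 45], [10, 46], [11, 47],
    [48, 14], [49, 50], [50, 51], [45, 52], [46, 53],
    [47, 17], [54, 18], [55, 56], [56, 57], [16, 58],
    [59, 21], [60, 61], [61, 62], [19, 63], [20, 64],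
    [58, 24], [65, 25], [66, 67], [67, 68], [62, 69],
    [63, 70], [64, 29], [71, 30], [31, 72], [26, 73],
    [27, 74], [28, 33], [75, 34], [76, 77], [77, 78],
    [72, 79], [73, 80], [74, 38], [81, 39], [82, 83],
    [83, 84], [78, 85], [86, 44], [87, 88], [88, 89],
    [41, 90], [42, 91], [43, 48], [92, 49], [93, 94],
    [94, 95], [89, 96], [90, 97], [91, 54], [98, 55],
    [99, 93], [51, 100], [52, 101], [53, 59], [97, 60],
    [102, 103], [103, 104], [57, 105], [100, 71], [101, 65],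
    [106, 66], [107, 102], [68, 108], [104, 109], [105, 110],
    [111, 112], [112, 113], [69, 81], [70, 75], [110, 76],
    [114, 111], [113, 115], [108, 116], [117, 82], [118, 114],
    [84, 119], [79, 92], [80, 86], [116, 87], [85, 98],
    [109, 117], [95, 118], [96, 106], [119, 107], [115, 99]]

instance factPrime11 : Fact (Nat.Prime 11) := ⟨by norm_num⟩

set_option maxRecDepth 100000

/-- An exceptional sharply doubly transitive group of degree 11^2: the listed matrices generate a subgroup of GL(2,11) of order 120 acting regularly on the non-zero vectors. -/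
theorem result (A : Matrix.GeneralLinearGroup (Fin 2) (ZMod 11)) (B : Matrix.GeneralLinearGroup (Fin 2) (ZMod 11)) (hA : (A : Matrix (Fin 2) (Fin 2) (ZMod 11)) = !![0, -1; 1, 0]) (hB : (B : Matrix (Fin 2) (Fin 2) (ZMod 11)) = !![2, 4; 1, -3]) : Nat.card (Subgroup.closure ({A, B} : Set (Matrix.GeneralLinearGroup (Fin 2) (ZMod 11)))) = 120 ∧ ∀ v w : Fin 2 → ZMod 11, v ≠ 0 → w ≠ 0 → ∃! h : Subgroup.closure ({A, B} : Set (Matrix.GeneralLinearGroup (Fin 2) (ZMod 11))), Matrix.mulVec ((h : Matrix.GeneralLinearGroup (Fin 2) (ZMod 11)) : Matrix (Fin 2) (Fin 2) (ZMod 11)) v = w := by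
  have key := Lib.LinRegular.regular_of_certificate (p := 11)
    ({A, B} : Set (Matrix.GeneralLinearGroup (Fin 2) (ZMod 11)))
    [A, B] (by simp) 1 (one_mem _) (by simp)
    [(0, 10, 1, 0), (2, 4, 1, 8)]
    (by simp only [List.map_cons, List.map_nil, Lib.LinRegular.qmat, hA, hB]; decide)
    1 (by simp)
    certL certPar certTab [1] (by decide +kernel)
  exact ⟨key.1, key.2⟩

end Cfsg.Agent.S0692
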