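import Cfsg.Statements.S0693
import Cfsg.Agent.Lib.Perm.LinRegular

set_option autoImplicit false
open Cfsg

namespace Cfsg.Agent.S0693

def certL : List Lib.LinRegular.Quad :=
  [(1, 0, 0, 1), (0, 58, 1, 0), (9, 15, 49, 49), (58, 0, 0, 58), (10, 10, 9, 15),
    (15, 50, 49, 10), (49, 44, 10, 9), (0, 1, 58, 0), (50, 44, 10, 10), (10, 49, 15, 50),
    (49, 50, 49, 44), (48, 20, 46, 45), (44, 10, 9, 49), (49, 49, 50, 44), (44, 9, 10, 49),
    (10, 15, 49, 50), (13, 14, 48, 20), (50, 10, 44, 10), (20, 11, 45, 13), (55, 48, 23, 4),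
    (1, 29, 4, 58), (49, 10, 44, 9), (10, 9, 10, 15), (11, 39, 13, 14), (15, 49, 50, 10),
    (14, 46, 20, 11), (36, 55, 55, 48), (55, 1, 1, 29), (11, 13, 39, 14), (48, 4, 4, 36),
    (29, 58, 58, 55), (14, 20, 46, 11), (46, 45, 11, 39), (9, 49, 15, 49), (39, 48, 14, 46),
    (4, 11, 36, 55), (58, 30, 55, 1), (20, 45, 11, 13), (55, 23, 48, 4), (1, 4, 29, 58),
    (13, 48, 14, 20), (28, 35, 34, 32), (38, 31, 30, 54), (35, 32, 31, 25), (45, 13, 39, 48),
    (23, 4, 4, 11), (4, 58, 58, 30), (48, 46, 20, 45), (11, 55, 55, 23), (30, 1, 1, 4),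
    (45, 39, 13, 48), (25, 27, 28, 35), (29, 5, 38, 31), (28, 34, 35, 32), (35, 31, 32, 25),
    (31, 21, 54, 29), (32, 24, 25, 28), (54, 28, 29, 38), (39, 14, 48, 46), (4, 36, 11, 55),
    (58, 55, 30, 1), (46, 11, 45, 39), (31, 24, 25, 27), (21, 28, 29, 5), (24, 27, 28, 34),
    (27, 34, 35, 31), (5, 30, 31, 21), (34, 31, 32, 24), (30, 21, 54, 28), (5, 38, 38, 53),
    (10, 19, 19, 48), (28, 5, 38, 30), (34, 32, 31, 24), (30, 54, 21, 28), (31, 25, 24, 27),
    (24, 28, 27, 34), (28, 38, 5, 30), (27, 35, 34, 31), (5, 31, 30, 21), (21, 6, 5, 38),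
    (40, 11, 10, 19), (21, 29, 28, 5), (38, 54, 53, 21), (19, 49, 48, 40), (18, 19, 45, 41),
    (25, 16, 42, 34), (32, 25, 24, 28), (54, 29, 28, 38), (25, 28, 27, 35), (29, 38, 5, 31),
    (54, 21, 21, 6), (49, 40, 40, 11), (31, 54, 21, 29), (6, 38, 38, 54), (11, 19, 19, 49),
    (14, 18, 18, 19), (17, 25, 25, 16), (38, 30, 31, 54), (19, 41, 41, 14), (16, 34, 34, 17),
    (38, 53, 54, 21), (19, 48, 49, 40), (21, 5, 6, 38), (40, 10, 11, 19), (41, 40, 14, 18),
    (34, 43, 17, 25), (18, 45, 19, 41), (25, 42, 16, 34), (42, 34, 34, 43), (56, 52, 52, 3),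
    (40, 18, 18, 45), (53, 21, 21, 5), (48, 40, 40, 10), (45, 41, 41, 40), (43, 25, 25, 42),
    (7, 56, 56, 52), (41, 14, 40, 18), (34, 17, 43, 25), (52, 3, 3, 7), (3, 7, 7, 56)]

def certPar : List (ℕ × ℕ) :=
  [(0, 0), (0, 0), (0, 1), (1, 0), (1, 1),
    (2, 0), (2, 1), (3, 0), (3, 1), (4, 0),
    (4, 1), (5, 1), (6, 0), (7, 1), (8, 0),
    (8, 1), (9, 1), (10, 0), (11, 0), (11, 1),
    (12, 1), (13, 0), (13, 1), (14, 1), (15, 0),
    (16, 0), (16, 1), (17, 1), (18, 1), (19, 0),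
    (20, 0), (20, 1), (21, 1), (22, 0), (23, 0),
    (23, 1), (24, 1), (25, 1), (26, 0), (27, 0),
    (27, 1), (28, 1), (29, 1), (30, 1), (32, 0),
    (32, 1), (33, 1), (34, 1), (35, 0), (36, 0),
    (36, 1), (37, 1), (38, 1), (39, 1), (41, 0),
    (42, 0), (42, 1), (43, 1), (44, 1), (45, 0),
    (46, 0), (46, 1), (47, 1), (48, 1), (49, 1),
    (51, 0), (52, 0), (52, 1), (53, 1), (54, 1),
    (55, 1), (57, 0), (58, 1), (59, 1), (60, 1),
    (62, 0), (63, 0), (63, 1), (64, 1), (65, 1),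
    (66, 1), (68, 0), (69, 0), (69, 1), (70, 1),
    (71, 1), (72, 0), (73, 0), (73, 1), (74, 1),
    (75, 1), (76, 1), (78, 0), (79, 0), (79, 1),
    (80, 1), (81, 1), (82, 1), (84, 0), (85, 0),
    (86, 1), (87, 1), (90, 0), (90, 1), (91, 1),
    (92, 1), (95, 0), (96, 0), (97, 1), (98, 1),
    (99, 1), (100, 0), (100, 1), (101, 1), (105, 0),
    (106, 1), (107, 1), (108, 0), (109, 0), (110, 1)]

def certTab : List (List ℕ) :=
  [[1, 2], [3, 4], [5, 6], [7, 8], [9, 10],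
    [8, 11], [12, 0], [0, 13], [14, 15], [13, 16],
    [17, 1], [18, 19], [15, 20], [21, 22], [2, 23],
    [24, 3], [25, 26], [22, 27], [23, 28], [29, 5],
    [30, 31], [4, 32], [33, 7], [34, 35], [6, 36],
    [32, 37], [38, 9], [39, 40], [40, 41], [35, 42],
    [36, 43], [37, 12], [44, 45], [10, 46], [11, 47],
    [48, 14], [49, 50], [50, 51], [45, 52], [46, 53],
    [47, 17], [54, 18], [55, 56], [56, 57], [16, 58],
    [59, 21], [60, 61], [61, 62], [19, 63], [20, 64],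
    [58, 24], [65, 25], [66, 67], [67, 68], [62, 69],
    [63, 70], [64, 29], [71, 30], [31, 72], [26, 73],
    [27, 74], [28, 33], [75, 34], [76, 77], [77, 78],
    [72, 79], [73, 80], [74, 38], [81, 39], [82, 83],
    [83, 84], [78, 85], [86, 44], [87, 88], [88, 89],
    [41, 90], [42, 91], [43, 48], [92, 49], [93, 94],
    [94, 95], [89, 96], [90, 97], [91, 54], [98, 55],
    [99, 93], [51, 100], [52, 101], [53, 59], [97, 60],
    [102, 103], [103, 104], [57, 105], [100, 71], [101, 65],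
    [106, 66], [107, 102], [68, 108], [104, 109], [105, 110],
    [111, 112], [112, 113], [69, 81], [70, 75], [110, 76],
    [114, 111], [113, 115], [108, 116], [117, 82], [118, 114],
    [84, 119], [79, 92], [80, 86], [116, 87], [85, 98],
    [109, 117], [95, 118], [96, 106], [119, 107], [115, 99]]

instance factPrime59 : Fact (Nat.Prime 59) := ⟨by norm_num⟩

set_option maxRecDepth 100000

/-- An exceptional sharply doubly transitive group of degree 59^2: the listed matrices generate a subgroup of GL(2,59) of order 3480 acting regularly on the non-zero vectors. -/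
theorem result (A : Matrix.GeneralLinearGroup (Fin 2) (ZMod 59)) (B : Matrix.GeneralLinearGroup (Fin 2) (ZMod 59)) (C : Matrix.GeneralLinearGroup (Fin 2) (ZMod 59)) (hA : (A : Matrix (Fin 2) (Fin 2) (ZMod 59)) = !![0, -1; 1, 0]) (hB : (B : Matrix (Fin 2) (Fin 2) (ZMod 59)) = !![9, 15; -10, -10]) (hC : (C : Matrix (Fin 2) (Fin 2) (ZMod 59)) = !![4, 0; 0, 4]) : Nat.card (Subgroup.closure ({A, B, C} : Set (Matrix.GeneralLinearGroup (Fin 2) (ZMod 59)))) = 3480 ∧ ∀ v w : Fin 2 → ZMod 59, v ≠ 0 → w ≠ 0 → ∃! h : Subgroup.closure ({A, B, C} : Set (Matrix.GeneralLinearGroup (Fin 2) (ZMod 59))), Matrix.mulVec ((h : Matrix.GeneralLinearGroup (Fin 2) (ZMod 59)) : Matrix (Fin 2) (Fin 2) (ZMod 59)) v = w := by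
  have key := Lib.LinRegular.regular_of_certificate (p := 59)
    ({A, B, C} : Set (Matrix.GeneralLinearGroup (Fin 2) (ZMod 59)))
    [A, B] (by simp) C (Subgroup.subset_closure (by simp)) (by simp)
    [(0, 58, 1, 0), (9, 15, 49, 49)]
    (by simp only [List.map_cons, List.map_nil, Lib.LinRegular.qmat, hA, hB]; decide)
    4 (by rw [hC]; ext i j; fin_cases i <;> fin_cases j <;> simp)
    certL certPar certTab [1, 4, 16, 5, 20, 21, 25, 41, 46, 7, 28, 53, 35, 22, 29, 57, 51, 27, 49, 19, 17, 9, 36, 26, 45, 3, 12, 48, 15] (by decide +kernel)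
  exact ⟨key.1, key.2⟩

end Cfsg.Agent.S0693
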