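import Cfsg.Statements.S0694
import Mathlib

set_option autoImplicit false
open Cfsg

namespace Cfsg.Agent.S0694

theorem val_ge {q r i : ℕ} (hq : 2 ≤ q) (hr : r.Prime) (hrq : r ∣ q - 1) (hi : i ≠ 0) :
    padicValNat r (q - 1) + padicValNat r i ≤ padicValNat r (q ^ i - 1) := by
  haveI := Fact.mk hr
  have hrq' : ¬ r ∣ q := fun h => hr.one_lt.ne' (Nat.dvd_one.mp (by
    have := Nat.dvd_sub h hrq
    rwa [show q - (q - 1) = 1 by omega] at this))
  rcases hr.eq_two_or_odd' with rfl | hodd
  · by_cases hev : Even i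
    · have h := padicValNat.pow_two_sub_one hq hrq' hi hev
      have h1 : 1 ≤ padicValNat 2 (q + 1) :=
        one_le_padicValNat_of_dvd (by omega) (by omega)
      omega
    · rw [Nat.not_even_iff_odd] at hev
      rw [padicValNat.eq_zero_of_not_dvd (fun h => (Nat.not_even_iff_odd.mpr hev) (even_iff_two_dvd.mpr h)),
        add_zero]
      refine (padicValNat_dvd_iff_le ?_).mp (pow_padicValNat_dvd.trans ?_)
      · have : q ≤ q ^ i := Nat.le_self_pow hi q
        omega
      · simpa using Nat.sub_dvd_pow_sub_pow q 1 i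
  · have h := padicValNat.pow_sub_pow hodd (x := q) (y := 1) (by omega) hrq hrq' hi
    rw [one_pow] at h
    omega

theorem val_eq {q r i : ℕ} (hq : 2 ≤ q) (hr : r.Prime) (hrq : r ∣ q - 1) (hi : i ≠ 0)
    (hc : r ≠ 2 ∨ 4 ∣ q - 1) :
    padicValNat r (q ^ i - 1) ≤ padicValNat r (q - 1) + padicValNat r i := by
  haveI := Fact.mk hr
  have hrq' : ¬ r ∣ q := fun h => hr.one_lt.ne' (Nat.dvd_one.mp (by
    have := Nat.dvd_sub h hrq
    rwa [show q - (q - 1) = 1 by omega] at this))
  rcases hr.eq_two_or_odd' with rfl | hodd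
  · have h4 : 4 ∣ q - 1 := hc.resolve_left (fun h => h rfl)
    have hne : q ^ (2 * i) - 1 ≠ 0 := by
      have : q ≤ q ^ (2 * i) := Nat.le_self_pow (by omega) q
      omega
    have h := padicValNat.pow_two_sub_one hq hrq' (n := 2 * i) (by omega) (even_two_mul i)
    have h1 : padicValNat 2 (q + 1) = 1 := by
      obtain ⟨c, hc⟩ : 2 ∣ q + 1 := by omega
      have hco : ¬ 2 ∣ c := by omega
      rw [hc, padicValNat.mul (by omega) (by omega), padicValNat.self (by omega),
        padicValNat.eq_zero_of_not_dvd hco]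
    rw [padicValNat.mul (by omega) hi, padicValNat.self (by omega), h1] at h
    have hfac : q ^ (2 * i) - 1 = (q ^ i + 1) * (q ^ i - 1) := by
      rw [← Nat.sq_sub_sq, ← pow_mul, mul_comm i 2, one_pow]
    have hqi : q ≤ q ^ i := Nat.le_self_pow hi q
    rw [hfac, padicValNat.mul (by omega) (by omega)] at h
    have h2 : 1 ≤ padicValNat 2 (q ^ i + 1) := by
      refine one_le_padicValNat_of_dvd (by omega) ?_
      have : ¬ 2 ∣ q ^ i := fun h => hrq' (Nat.prime_two.dvd_of_dvd_pow h)
      omega
    omega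
  · have h := padicValNat.pow_sub_pow hodd (x := q) (y := 1) (by omega) hrq hrq' hi
    rw [one_pow] at h
    omega

theorem pow_two_dvd_even {q i : ℕ} (hq : 2 ≤ q) (h2 : 2 ∣ q - 1) (hi : i ≠ 0) (hev : Even i)
    (h4 : ¬ 4 ∣ q - 1) : padicValNat 2 (q - 1) + padicValNat 2 i + 1 ≤ padicValNat 2 (q ^ i - 1) := by
  haveI := Fact.mk Nat.prime_two
  have h := padicValNat.pow_two_sub_one hq (by omega) hi hev
  have h1 : 2 ≤ padicValNat 2 (q + 1) := by
    refine (padicValNat_dvd_iff_le (by omega)).mp ?_
    show 2 ^ 2 ∣ q + 1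
    omega
  omega

theorem dvd_of_val {a b : ℕ} (hb : b ≠ 0) (ha : a ≠ 0)
    (h : ∀ r : ℕ, r.Prime → r ∣ a → padicValNat r a ≤ padicValNat r b) : a ∣ b := by
  refine (Nat.dvd_iff_prime_pow_dvd_dvd b a).mpr fun r k hr hk => ?_
  haveI := Fact.mk hr
  rcases k with _ | k
  · simp
  exact (padicValNat_dvd_iff_le hb).mpr (((padicValNat_dvd_iff_le ha).mp hk).trans
    (h r hr ((dvd_pow_self r (Nat.succ_ne_zero k)).trans hk)))


/-- The Dickson pair condition: for a prime power `q` and `n > 1`, (every prime factor of `n` divides `q - 1`, and `4 ∣ n → 4 ∣ q - 1`) holds exactly when `q ^ n ≡ 1` modulo `n * (q - 1)` but `q ^ i` is not, for `0 < i < n`. -/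
theorem result (q n : ℕ) (hq : IsPrimePow q) (hn : 1 < n) : ((∀ r : ℕ, r.Prime → r ∣ n → r ∣ q - 1) ∧ (4 ∣ n → 4 ∣ q - 1)) ↔ (q ^ n ≡ 1 [MOD n * (q - 1)] ∧ ∀ i : ℕ, 0 < i → i < n → ¬ q ^ i ≡ 1 [MOD n * (q - 1)]) := by
  have hq2 : 2 ≤ q := hq.two_le
  have hn0 : n ≠ 0 := by omega
  have hq1 : q - 1 ≠ 0 := by omega
  have hm : n * (q - 1) ≠ 0 := by positivity
  have hne : ∀ i, i ≠ 0 → q ^ i - 1 ≠ 0 := fun i hi => by
    have : q ≤ q ^ i := Nat.le_self_pow hi q
    omega
  have hmod : ∀ i, q ^ i ≡ 1 [MOD n * (q - 1)] ↔ n * (q - 1) ∣ q ^ i - 1 := fun i =>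
    ⟨fun h => (Nat.modEq_iff_dvd' (Nat.one_le_pow _ _ (by omega))).mp h.symm,
      fun h => ((Nat.modEq_iff_dvd' (Nat.one_le_pow _ _ (by omega))).mpr h).symm⟩
  simp only [hmod]
  have hvm : ∀ r, r.Prime → padicValNat r (n * (q - 1)) = padicValNat r n + padicValNat r (q - 1) :=
    fun r hr => haveI := Fact.mk hr; padicValNat.mul hn0 hq1
  have hq1dvd : ∀ r i, r.Prime → i ≠ 0 → padicValNat r (q - 1) ≤ padicValNat r (q ^ i - 1) := by
    intro r i hr hi
    haveI := Fact.mk hr
    exact (padicValNat_dvd_iff_le (hne i hi)).mp (pow_padicValNat_dvd.trans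
      (by simpa using Nat.sub_dvd_pow_sub_pow q 1 i))
  constructor
  · rintro ⟨hA, hB⟩
    refine ⟨dvd_of_val (hne n hn0) hm fun r hr _ => ?_, fun i hi0 hin hdvd => ?_⟩
    · rw [hvm r hr]
      by_cases hrn : r ∣ n
      · have := val_ge hq2 hr (hA r hr hrn) hn0
        omega
      · rw [padicValNat.eq_zero_of_not_dvd hrn, zero_add]
        exact hq1dvd r n hr hn0
    · have : n ∣ i := by
        refine dvd_of_val (by omega) hn0 fun r hr hrn => ?_
        haveI := Fact.mk hr
        have h1 : padicValNat r (n * (q - 1)) ≤ padicValNat r (q ^ i - 1) :=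
          (padicValNat_dvd_iff_le (hne i (by omega))).mp (pow_padicValNat_dvd.trans hdvd)
        rw [hvm r hr] at h1
        by_cases hc : r ≠ 2 ∨ 4 ∣ q - 1
        · have := val_eq hq2 hr (hA r hr hrn) (by omega) hc (i := i)
          omega
        · push Not at hc
          obtain ⟨rfl, h4⟩ := hc
          have hn4 : ¬ 4 ∣ n := fun h => h4 (hB h)
          have hvn : padicValNat 2 n ≤ 1 := by
            by_contra hcon
            exact hn4 ((pow_dvd_pow 2 (show 2 ≤ padicValNat 2 n by omega)).trans pow_padicValNat_dvd)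
          by_cases hev : Even i
          · have := one_le_padicValNat_of_dvd (p := 2) (show i ≠ 0 by omega) (even_iff_two_dvd.mp hev)
            omega
          · exfalso
            rw [Nat.not_even_iff_odd] at hev
            obtain ⟨j, rfl⟩ := hev
            have hq2' : q % 4 = 3 := by have := hA 2 hr hrn; omega
            have hqi : q ^ (2 * j + 1) % 4 = 3 := by
              rw [Nat.pow_mod, hq2', pow_succ, pow_mul]
              simp [Nat.mul_mod, Nat.pow_mod]
            have hv1 : padicValNat 2 (q ^ (2 * j + 1) - 1) < 2 := by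
              by_contra hcon
              have : 2 ^ 2 ∣ q ^ (2 * j + 1) - 1 :=
                (pow_dvd_pow 2 (show 2 ≤ padicValNat 2 (q ^ (2 * j + 1) - 1) by omega)).trans pow_padicValNat_dvd
              omega
            have := one_le_padicValNat_of_dvd (p := 2) hn0 hrn
            have := one_le_padicValNat_of_dvd (p := 2) hq1 (hA 2 hr hrn)
            omega
      have := Nat.le_of_dvd hi0 this
      omega
  · rintro ⟨hdiv, hmin⟩
    have hA : ∀ r : ℕ, r.Prime → r ∣ n → r ∣ q - 1 := by
      by_contra! hbad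
      obtain ⟨r₀, hr₀, hr₀n, hr₀q⟩ := hbad
      classical
      let S := n.primeFactors.filter fun r => ¬ r ∣ q - 1
      have hS : S.Nonempty :=
        ⟨r₀, Finset.mem_filter.mpr ⟨Nat.mem_primeFactors.mpr ⟨hr₀, hr₀n, hn0⟩, hr₀q⟩⟩
      set R := S.max' hS with hR
      have hRmem := S.max'_mem hS
      rw [← hR] at hRmem
      obtain ⟨hRpf, hRq⟩ := Finset.mem_filter.mp hRmem
      obtain ⟨hRp, hRn, -⟩ := Nat.mem_primeFactors.mp hRpf
      have hi0 : n / R ≠ 0 := (Nat.div_pos (Nat.le_of_dvd (by omega) hRn) hRp.pos).ne'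
      refine hmin (n / R) (Nat.pos_of_ne_zero hi0) (Nat.div_lt_self (by omega) hRp.one_lt)
        (dvd_of_val (hne _ hi0) hm fun r hr hrm => ?_)
      haveI := Fact.mk hr
      rw [hvm r hr]
      by_cases hrn : r ∣ n
      swap
      · rw [padicValNat.eq_zero_of_not_dvd hrn, zero_add]
        exact hq1dvd r _ hr hi0
      by_cases hrq : r ∣ q - 1
      · have hne' : r ≠ R := fun e => hRq (e ▸ hrq)
        haveI := Fact.mk hRp
        have h1 := val_ge hq2 hr hrq hi0
        rw [padicValNat.div_of_dvd hRn, padicValNat.eq_zero_of_not_dvd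
          (fun h => hne' ((Nat.prime_dvd_prime_iff_eq hr hRp).mp h)), Nat.sub_zero] at h1
        omega
      · rw [padicValNat.eq_zero_of_not_dvd hrq, add_zero]
        refine (padicValNat_dvd_iff_le (hne _ hi0)).mp ?_
        set k := padicValNat r n
        have hk : r ^ k ∣ n := pow_padicValNat_dvd
        have hk1 : 1 ≤ k := one_le_padicValNat_of_dvd hn0 hrn
        have hqn : r ^ k ∣ q ^ n - 1 := (hk.trans (dvd_mul_right n (q - 1))).trans hdiv
        have hco : Nat.Coprime q (r ^ k) := by
          refine Nat.Coprime.pow_right k ((hr.coprime_iff_not_dvd.mpr fun h => ?_).symm)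
          have h1 : r ∣ q ^ n := h.trans (dvd_pow_self q hn0)
          have h2 : r ∣ q ^ n - 1 := (dvd_pow_self r (by omega)).trans hqn
          have h3 := Nat.dvd_sub h1 h2
          rw [show q ^ n - (q ^ n - 1) = 1 by
            have : 1 ≤ q ^ n := Nat.one_le_pow _ _ (by omega)
            omega] at h3
          exact hr.one_lt.ne' (Nat.dvd_one.mp h3)
        let u : (ZMod (r ^ k))ˣ := ZMod.unitOfCoprime q hco
        have hu : ∀ i, u ^ i = 1 ↔ r ^ k ∣ q ^ i - 1 := by
          intro i
          rw [← Units.val_eq_one, Units.val_pow_eq_pow_val, ZMod.coe_unitOfCoprime,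
            ← Nat.modEq_iff_dvd' (Nat.one_le_pow _ _ (by omega)), ← ZMod.natCast_eq_natCast_iff]
          push_cast
          exact eq_comm
        rw [← hu, ← orderOf_dvd_iff_pow_eq_one]
        have hd1 : orderOf u ∣ n := orderOf_dvd_of_pow_eq_one ((hu n).mpr hqn)
        have hd2 : orderOf u ∣ r ^ (k - 1) * (r - 1) := by
          rw [← Nat.totient_prime_pow hr (by omega), ← ZMod.card_units_eq_totient]
          exact orderOf_dvd_card
        have hrS : r ∈ S := Finset.mem_filter.mpr ⟨Nat.mem_primeFactors.mpr ⟨hr, hrn, hn0⟩, hrq⟩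
        have hrR : r ≤ R := Finset.le_max' S r hrS
        haveI := Fact.mk hRp
        refine dvd_of_val hi0 (orderOf_pos u).ne' fun l hl _ => ?_
        haveI := Fact.mk hl
        have hl1 : padicValNat l (orderOf u) ≤ padicValNat l n :=
          (padicValNat_dvd_iff_le hn0).mp (pow_padicValNat_dvd.trans hd1)
        rw [padicValNat.div_of_dvd hRn]
        by_cases hlR : l = R
        · subst hlR
          rw [padicValNat.self hl.one_lt]
          have hne2 : r ^ (k - 1) * (r - 1) ≠ 0 :=
            mul_ne_zero (pow_ne_zero _ hr.ne_zero) (by have := hr.two_le; omega)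
          have hl2 : padicValNat R (orderOf u) ≤ padicValNat R (r ^ (k - 1) * (r - 1)) :=
            (padicValNat_dvd_iff_le hne2).mp (pow_padicValNat_dvd.trans hd2)
          rw [padicValNat.mul (pow_ne_zero _ hr.ne_zero) (by have := hr.two_le; omega), padicValNat.pow,
            padicValNat.eq_zero_of_not_dvd (show ¬ R ∣ r - 1 from fun h => by
              have := hr.two_le
              have := Nat.le_of_dvd (show 0 < r - 1 by omega) h
              omega), add_zero] at hl2
          rcases eq_or_ne r R with e | hne'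
          · rw [← e] at hl2 ⊢
            rw [padicValNat.self hr.one_lt, mul_one] at hl2
            omega
          · rw [padicValNat.eq_zero_of_not_dvd (fun h => hne'
              ((Nat.prime_dvd_prime_iff_eq hRp hr).mp h).symm), mul_zero] at hl2
            omega
        · rw [padicValNat.eq_zero_of_not_dvd (fun h => hlR ((Nat.prime_dvd_prime_iff_eq hl hRp).mp h)),
            Nat.sub_zero]
          exact hl1
    refine ⟨hA, fun h4 => ?_⟩
    by_contra hq4
    have h2q : 2 ∣ q - 1 := hA 2 Nat.prime_two (by omega)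
    have hev : Even (n / 2) := even_iff_two_dvd.mpr (by omega)
    refine hmin (n / 2) (by omega) (by omega) (dvd_of_val (hne _ (by omega)) hm fun r hr _ => ?_)
    haveI := Fact.mk hr
    rw [hvm r hr]
    by_cases hrn : r ∣ n
    swap
    · rw [padicValNat.eq_zero_of_not_dvd hrn, zero_add]
      exact hq1dvd r _ hr (by omega)
    have hd : padicValNat r (n / 2) = padicValNat r n - padicValNat r 2 :=
      padicValNat.div_of_dvd (show 2 ∣ n by omega)
    by_cases hr2 : r = 2
    · subst hr2
      have h1 := pow_two_dvd_even hq2 h2q (show n / 2 ≠ 0 by omega) hev hq4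
      rw [padicValNat.self (by norm_num)] at hd
      have := one_le_padicValNat_of_dvd (p := 2) hn0 hrn
      omega
    · have h1 := val_ge hq2 hr (hA r hr hrn) (show n / 2 ≠ 0 by omega)
      rw [padicValNat.eq_zero_of_not_dvd (fun h => hr2 ((Nat.prime_dvd_prime_iff_eq hr Nat.prime_two).mp h)),
        Nat.sub_zero] at hd
      omega

end Cfsg.Agent.S0694
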