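import Cfsg.Statements.S0696
import Cfsg.Agent.Lib.Perm.RegularNormal
open scoped Pointwise

set_option autoImplicit false
open Cfsg

namespace Cfsg.Agent.S0696

/-- A triply primitive group of degree at least 3 having a regular normal subgroup has degree 3 or 4. -/
theorem result {G : Type*} [Group G] {X : Type*} [Fintype X] [MulAction G X] (hX : 3 ≤ Fintype.card X) (h3 : MulAction.IsMultiplyPreprimitive G X 3) (N : Subgroup G) [N.Normal] (htrans : MulAction.IsPretransitive N X) (hreg : ∀ x : X, MulAction.stabilizer N x = ⊥) : Fintype.card X = 3 ∨ Fintype.card X = 4 := by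
  classical
  have h3' : MulAction.IsMultiplyPretransitive G X 3 :=
    MulAction.IsMultiplyPreprimitive.isMultiplyPretransitive G X 3
  haveI := htrans
  by_contra! hne
  have h4 : 4 ≤ Nat.card X := by rw [Nat.card_eq_fintype_card]; omega
  haveI : Nontrivial X := Fintype.one_lt_card_iff_nontrivial.mp (by omega)
  obtain ⟨a⟩ : Nonempty X := inferInstance
  have ha := hreg a
  have hsq : ∀ m ∈ N, m ^ 2 = 1 := fun m hm => Lib.Perm.regularNormal_sq_eq_one N h3' ha h4 hm
  obtain ⟨x, hx⟩ := exists_ne a
  obtain ⟨m, hm, rfl⟩ := Lib.Perm.exists_mem_smul_eq N a x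
  have hm1 : m ≠ 1 := by rintro rfl; exact hx (one_smul G a)
  have hmm : m * m = 1 := by rw [← pow_two]; exact hsq m hm
  obtain ⟨c, -, hc⟩ := Finset.exists_mem_notMem_of_card_lt_card
    (s := ({a, m • a} : Finset X)) (t := Finset.univ) (by
      have := Finset.card_le_two (a := a) (b := m • a)
      rw [Finset.card_univ]; omega)
  simp only [Finset.mem_insert, Finset.mem_singleton, not_or] at hc
  obtain ⟨n, hn, rfl⟩ := Lib.Perm.exists_mem_smul_eq N a c
  have hmn : m * n ∈ N := N.mul_mem hm hn
  set s : Set X := {a, m • a} with hs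
  have hc' : n • a ∈ SubMulAction.ofFixingSubgroup G s := by
    show n • a ∉ s
    simp [hs, hc.1, hc.2]
  have hmna : (m * n) • a ≠ a ∧ (m * n) • a ≠ m • a := by
    constructor
    · rw [mul_smul, ne_eq, ← eq_inv_smul_iff, inv_eq_of_mul_eq_one_right hmm]
      exact hc.2
    · rw [mul_smul, ne_eq, smul_left_cancel_iff]
      exact hc.1
  have hmn' : (m * n) • a ∈ SubMulAction.ofFixingSubgroup G s := by
    show (m * n) • a ∉ s
    simp [hs, hmna.1, hmna.2]
  haveI : MulAction.IsPreprimitive (fixingSubgroup G s) (SubMulAction.ofFixingSubgroup G s) :=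
    MulAction.IsMultiplyPreprimitive.isPreprimitive_ofFixingSubgroup (M := G) (α := X) (n := 3) (self := h3) (by
      rw [hs, Set.encard_pair (Ne.symm hx)]; norm_num)
  let B : Set (SubMulAction.ofFixingSubgroup G s) :=
    {y | (y : X) = n • a ∨ (y : X) = (m * n) • a}
  have hB : MulAction.IsBlock (fixingSubgroup G s) B := by
    rw [MulAction.isBlock_iff_smul_eq_of_nonempty]
    intro g hne
    obtain ⟨y, hyg, hy⟩ := hne
    obtain ⟨z, hz, rfl⟩ := hyg
    have hgfix := mem_fixingSubgroup_iff G |>.mp g.2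
    have hg : (g : G) • a = a := hgfix a (by simp [hs])
    have hgm : (g : G) * m * (g : G)⁻¹ = m := Lib.Perm.eq_of_smul_eq_of_regular N ha
      (Subgroup.Normal.conj_mem ‹_› m hm g) hm
      (by rw [Lib.Perm.conj_smul_of_fix hg]; exact hgfix _ (by simp [hs]))
    have hc1 := Lib.Perm.conj_smul_of_fix hg n
    have hc2 := Lib.Perm.conj_smul_of_fix hg (m * n)
    rw [show (g : G) * (m * n) * (g : G)⁻¹ = ((g : G) * m * (g : G)⁻¹) * ((g : G) * n * (g : G)⁻¹) by
      group, hgm] at hc2
    set n' := (g : G) * n * (g : G)⁻¹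
    have hn' : n' ∈ N := Subgroup.Normal.conj_mem ‹_› n hn g
    have hmn'' : m * n' ∈ N := N.mul_mem hm hn'
    have hsame : n' = n ∨ n' = m * n := by
      rcases hz with hz | hz <;> rcases hy with hy | hy <;>
        rw [SetLike.val_smul, Subgroup.smul_def, hz] at hy
      · exact Or.inl (Lib.Perm.eq_of_smul_eq_of_regular N ha hn' hn (hc1.trans hy))
      · exact Or.inr (Lib.Perm.eq_of_smul_eq_of_regular N ha hn' hmn (hc1.trans hy))
      · refine Or.inr ?_
        have h := congrArg (m * ·) (Lib.Perm.eq_of_smul_eq_of_regular N ha hmn'' hn (hc2.trans hy))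
        simpa [← mul_assoc, hmm] using h
      · exact Or.inl (mul_left_cancel
          (Lib.Perm.eq_of_smul_eq_of_regular N ha hmn'' hmn (hc2.trans hy)))
    ext y
    rw [Set.mem_smul_set_iff_inv_smul_mem]
    show ((((g⁻¹ • y : SubMulAction.ofFixingSubgroup G s)) : X) = n • a ∨ _) ↔
      ((y : X) = n • a ∨ _)
    rw [SetLike.val_smul, Subgroup.smul_def, Subgroup.coe_inv, inv_smul_eq_iff, inv_smul_eq_iff,
      ← hc1, ← hc2]
    rcases hsame with e | e <;> rw [e]
    rw [← mul_assoc, hmm, one_mul, or_comm]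
  rcases MulAction.IsPreprimitive.isTrivialBlock_of_isBlock hB with hs' | hu
  · have := hs' (show (⟨n • a, hc'⟩ : SubMulAction.ofFixingSubgroup G s) ∈ B from Or.inl rfl)
      (show (⟨(m * n) • a, hmn'⟩ : SubMulAction.ofFixingSubgroup G s) ∈ B from Or.inr rfl)
    have := Lib.Perm.eq_of_smul_eq_of_regular N ha hn hmn (congrArg Subtype.val this)
    exact hm1 (mul_eq_right.mp this.symm)
  · have huniv : (Finset.univ : Finset X) ⊆ {a, m • a, n • a, (m * n) • a} := by
      intro y _
      simp only [Finset.mem_insert, Finset.mem_singleton]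
      by_cases hy : y ∈ s
      · rw [hs] at hy
        simp only [Set.mem_insert_iff, Set.mem_singleton_iff] at hy
        rcases hy with h | h <;> simp [h]
      · exact Or.inr (Or.inr (Set.eq_univ_iff_forall.mp hu ⟨y, hy⟩))
    have hcard := (Finset.card_le_card huniv).trans Finset.card_le_four
    rw [Finset.card_univ] at hcard
    rw [Nat.card_eq_fintype_card] at h4
    omega

end Cfsg.Agent.S0696
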