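import Cfsg.Statements.S0698
import Cfsg.Agent.Lib.Perm.Normal

set_option autoImplicit false
open Cfsg

namespace Cfsg.Agent.S0698

/-- Jordan's Theorem on normal subgroups of multiply transitive groups: if `G` is `k`-transitive (`k > 1`) of degree greater than `k`, a non-trivial normal subgroup is `(k-1)`-transitive, except possibly for `k = 3` when it may be an elementary abelian 2-group. -/
theorem result {α : Type*} [Fintype α] [DecidableEq α] (G : Subgroup (Equiv.Perm α)) {k : ℕ} (hk : 1 < k) (hdeg : k < Fintype.card α) (hG : MulAction.IsMultiplyPretransitive G α k) (N : Subgroup G) [N.Normal] (hN : N ≠ ⊥) : MulAction.IsMultiplyPretransitive N α (k - 1) ∨ (k = 3 ∧ IsMulCommutative N ∧ ∀ n ∈ N, n ^ 2 = 1) := by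
  obtain ⟨k, rfl⟩ : ∃ j, k = j + 2 := ⟨k - 2, by omega⟩
  have hdeg' : k + 2 < Nat.card α := by rw [Nat.card_eq_fintype_card]; exact hdeg
  rcases Lib.Perm.jordan k hdeg' hG N hN with h | ⟨rfl, hreg⟩
  · exact Or.inl h
  right
  have h2 : MulAction.IsMultiplyPretransitive G α 2 :=
    MulAction.isMultiplyPretransitive_of_le (n := 3) (by omega) (by omega)
  haveI : MulAction.IsPretransitive N α := Lib.Perm.normal_isPretransitive_of_two h2 N hN
  haveI : Nontrivial α := Finite.one_lt_card_iff_nontrivial.mp (by omega)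
  obtain ⟨a⟩ : Nonempty α := inferInstance
  obtain ⟨p, -, hc, -, -⟩ := Lib.Perm.regularNormal_elementaryAbelian N h2 (hreg a)
  exact ⟨rfl, hc, fun n hn => Lib.Perm.regularNormal_sq_eq_one N hG (hreg a) (by omega) hn⟩

end Cfsg.Agent.S0698
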