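import Cfsg.Statements.S0699
import Cfsg.Agent.Lib.Perm.Normal
import Cfsg.Agent.Lib.Perm.HalfTransitiveWielandt
open scoped Pointwise

set_option autoImplicit false
open Cfsg

namespace Cfsg.Agent.S0699

open MulAction in
theorem wagner {G : Type*} [Group G] [Finite G] {X : Type*} [MulAction G X] [FaithfulSMul G X]
    [Finite X] (hodd : Odd (Nat.card X)) (h5 : 5 ≤ Nat.card X)
    (hG : IsMultiplyPretransitive G X 3) (N : Subgroup G) [N.Normal] (hN : N ≠ ⊥) :
    IsMultiplyPretransitive N X 3 := by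
  classical
  haveI : Fact (Nat.Prime 2) := ⟨Nat.prime_two⟩
  have h2 : IsMultiplyPretransitive G X 2 :=
    isMultiplyPretransitive_of_le (n := 3) (by omega) (by omega)
  have hN2 : IsMultiplyPretransitive N X 2 := by
    rcases Lib.Perm.jordan 1 (by omega) hG N hN with h | ⟨-, hreg⟩
    · exact h
    exfalso
    haveI : IsPretransitive N X := Lib.Perm.normal_isPretransitive_of_two h2 N hN
    haveI : Nontrivial X := Finite.one_lt_card_iff_nontrivial.mp (by omega)
    obtain ⟨a⟩ : Nonempty X := inferInstance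
    have hsq := fun n hn => Lib.Perm.regularNormal_sq_eq_one N hG (hreg a) (by omega) (n := n) hn
    have hP : IsPGroup 2 N := fun n => ⟨1, Subtype.ext (by simpa using hsq n n.2)⟩
    obtain ⟨j, hj⟩ := hP.exists_card_eq
    rw [Lib.Perm.card_eq_of_regular N (hreg a)] at hj
    rcases j with _ | j
    · simp at hj; omega
    · rw [hj, pow_succ] at hodd
      exact (Nat.not_even_iff_odd.mpr hodd) (even_two.mul_left _)
  rw [Lib.Perm.isMultiplyPretransitive_three_iff]
  intro a b c a' b' c' hab hac hbc hab' hac' hbc'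
  suffices htr : ∀ u v : X, u ≠ a' → u ≠ b' → v ≠ a' → v ≠ b' →
      ∃ n : N, n • a' = a' ∧ n • b' = b' ∧ n • u = v by
    obtain ⟨k, hka, hkb⟩ := Lib.Perm.exists_smul_two hN2 hab hab'
    obtain ⟨n, h1, h2', h3⟩ := htr (k • c) c'
      (by rw [← hka, Ne, smul_left_cancel_iff]; exact hac.symm)
      (by rw [← hkb, Ne, smul_left_cancel_iff]; exact hbc.symm) hac'.symm hbc'.symm
    exact ⟨n * k, by rw [mul_smul, hka, h1], by rw [mul_smul, hkb, h2'], by rw [mul_smul, h3]⟩
  by_contra hnot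
  push Not at hnot
  obtain ⟨u, v, hua, hub, hva, hvb, hno⟩ := hnot
  -- `A` is the two-point stabiliser in `N`
  set A : Subgroup G := N ⊓ stabilizer G a' ⊓ stabilizer G b' with hA
  have hmemA : ∀ g : G, g ∈ A ↔ g ∈ N ∧ g • a' = a' ∧ g • b' = b' := fun g => by
    simp [hA, and_assoc]
  -- all two-point stabilisers in `N` have the order of `A`
  have hcardA : ∀ x y : X, x ≠ y →
      Nat.card (N ⊓ stabilizer G x ⊓ stabilizer G y : Subgroup G) = Nat.card A := by
    intro x y hxy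
    obtain ⟨g, hgx, hgy⟩ := Lib.Perm.exists_smul_two h2 hxy hab'
    refine Nat.card_congr (Equiv.subtypeEquiv (MulAut.conj g).toEquiv fun h => ?_)
    show _ ↔ g * h * g⁻¹ ∈ A
    rw [hmemA, mul_smul, mul_smul, inv_smul_eq_iff.mpr hgx.symm, mul_smul, mul_smul,
      inv_smul_eq_iff.mpr hgy.symm]
    conv_rhs => rw [← hgx, ← hgy, smul_left_cancel_iff, smul_left_cancel_iff]
    simp only [Subgroup.mem_inf, mem_stabilizer_iff, and_assoc]
    exact and_congr_left' ⟨fun hh => Subgroup.Normal.conj_mem ‹_› h hh g,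
      fun hh => by simpa [mul_assoc] using Subgroup.Normal.conj_mem ‹_› _ hh g⁻¹⟩
  -- an element of `N` exchanging the two points
  obtain ⟨⟨t₀, ht₀N⟩, ht₀a, ht₀b⟩ := Lib.Perm.exists_smul_two hN2 hab' (Ne.symm hab')
  change t₀ • a' = b' at ht₀a
  change t₀ • b' = a' at ht₀b
  have hswapA : ∀ t : G, t ∈ N → t • a' = b' → t • b' = a' → ∀ h ∈ A, t * h * t⁻¹ ∈ A := by
    intro t htN hta htb h hh
    obtain ⟨hhN, hha, hhb⟩ := (hmemA h).mp hh
    refine (hmemA _).mpr ⟨N.mul_mem (N.mul_mem htN hhN) (N.inv_mem htN), ?_, ?_⟩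
    · rw [mul_smul, mul_smul, inv_smul_eq_iff.mpr htb.symm, hhb, htb]
    · rw [mul_smul, mul_smul, inv_smul_eq_iff.mpr hta.symm, hha, hta]
  -- an element exchanging the points and normalising a Sylow 2-subgroup of `A`
  let S₀ : Sylow 2 A := default
  set S : Subgroup G := (S₀ : Subgroup A).map A.subtype with hS
  have hSA : S ≤ A := Subgroup.map_subtype_le _
  let conjT : MulAut A :=
    { toFun := fun h => ⟨t₀ * h * t₀⁻¹, hswapA t₀ ht₀N ht₀a ht₀b h h.2⟩
      invFun := fun h => ⟨t₀⁻¹ * h * t₀, by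
        have := hswapA t₀⁻¹ (N.inv_mem ht₀N) (inv_smul_eq_iff.mpr ht₀b.symm)
          (inv_smul_eq_iff.mpr ht₀a.symm) h h.2
        simpa using this⟩
      left_inv := fun h => Subtype.ext (by group)
      right_inv := fun h => Subtype.ext (by group)
      map_mul' := fun x y => Subtype.ext (by simp [mul_assoc]) }
  obtain ⟨h, hh⟩ := exists_smul_eq A (conjT • S₀) S₀
  set t₁ : G := (h : G) * t₀ with ht₁
  have hhA := (hmemA _).mp h.2
  have ht₁N : t₁ ∈ N := N.mul_mem hhA.1 ht₀N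
  have ht₁a : t₁ • a' = b' := by rw [ht₁, mul_smul, ht₀a, hhA.2.2]
  have ht₁b : t₁ • b' = a' := by rw [ht₁, mul_smul, ht₀b, hhA.2.1]
  have ht₁S : ∀ x ∈ S, t₁ * x * t₁⁻¹ ∈ S := by
    rintro _ ⟨x, hx, rfl⟩
    refine ⟨MulAut.conj h (conjT x), ?_, ?_⟩
    · rw [← hh, Sylow.coe_subgroup_smul]
      exact ⟨conjT x, ⟨x, hx, rfl⟩, rfl⟩
    · show (h : G) * (t₀ * x * t₀⁻¹) * (h : G)⁻¹ = t₁ * (x : G) * t₁⁻¹
      rw [ht₁]; group
  -- make it a 2-element
  obtain ⟨s, m, hm, hsm⟩ := Nat.exists_eq_pow_mul_and_not_dvd (orderOf_pos t₁).ne' 2 (by norm_num)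
  set t := t₁ ^ m with ht
  have htN : t ∈ N := N.pow_mem ht₁N _
  have hpow : ∀ (k : ℕ), t₁ ^ (2 * k + 1) • a' = b' ∧ t₁ ^ (2 * k + 1) • b' = a' := by
    intro k
    induction k with
    | zero => simpa using ⟨ht₁a, ht₁b⟩
    | succ k ih =>
      rw [show 2 * (k + 1) + 1 = 2 + (2 * k + 1) by ring, pow_add, mul_smul, mul_smul, ih.1, ih.2,
        pow_two, mul_smul t₁ t₁, mul_smul t₁ t₁, ht₁b, ht₁a, ht₁b]
      exact ⟨rfl, rfl⟩
  obtain ⟨m', rfl⟩ : Odd m := Nat.not_even_iff_odd.mp (fun h => hm h.two_dvd)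
  have hta : t • a' = b' := (hpow m').1
  have htb : t • b' = a' := (hpow m').2
  have htS : ∀ x ∈ S, t * x * t⁻¹ ∈ S := by
    rw [ht]
    clear ht htN hta htb hsm hm
    generalize 2 * m' + 1 = k
    induction k with
    | zero => simp
    | succ k ih =>
      intro x hx
      have := ih _ (ht₁S x hx)
      rw [pow_succ]
      convert this using 1
      group
  have ht2 : ∃ s, t ^ 2 ^ s = 1 := ⟨s, by
    rw [ht, ← pow_mul, mul_comm, ← hsm, pow_orderOf_eq_one]⟩
  -- `R = S⟨t⟩` is a 2-group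
  set R : Subgroup G := Subgroup.zpowers t ⊔ S with hR
  have htnorm : Subgroup.zpowers t ≤ Subgroup.normalizer (S : Set G) := by
    rw [Subgroup.zpowers_le]
    haveI : Finite S := inferInstance
    have hsub : Subgroup.map (MulAut.conj t).toMonoidHom S ≤ S := by
      rintro _ ⟨x, hx, rfl⟩; exact htS x hx
    have heq : Subgroup.map (MulAut.conj t).toMonoidHom S = S :=
      Subgroup.eq_of_le_of_card_ge hsub (Subgroup.card_map_of_injective (MulEquiv.injective _)).ge
    refine Subgroup.mem_normalizer_iff.mpr fun x => ⟨htS x, fun hx => ?_⟩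
    obtain ⟨y, hy, hyx⟩ := heq.ge hx
    have : y = x := (MulAut.conj t).injective hyx
    exact this ▸ hy
  have hRp : IsPGroup 2 R := by
    refine IsPGroup.to_sup_of_normal_right' ?_ ?_ htnorm
    · rintro ⟨x, k, rfl⟩
      obtain ⟨s, hs⟩ := ht2
      exact ⟨s, Subtype.ext (by
        show (t ^ k) ^ 2 ^ s = 1
        rw [← zpow_natCast, ← zpow_mul, mul_comm, zpow_mul, zpow_natCast, hs, one_zpow])⟩
    · exact S₀.isPGroup'.map _
  have hRN : R ≤ N := sup_le (Subgroup.zpowers_le.mpr htN) (hSA.trans (inf_le_left.trans inf_le_left))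
  -- the orbits of `A` on the remaining points have odd size and each is stable under `R`
  have htrans : ∀ x y : X, x ≠ a' → x ≠ b' → y ≠ a' → y ≠ b' →
      ∃ g : G, g • a' = a' ∧ g • b' = b' ∧ g • x = y := fun x y h1 h2' h3 h4 =>
    Lib.Perm.exists_smul_three hG hab' h1.symm h2'.symm hab' h3.symm h4.symm
  have hAconj : ∀ g : G, g • a' = a' → g • b' = b' → ∀ h ∈ A, g * h * g⁻¹ ∈ A := by
    intro g hga hgb h hh
    obtain ⟨hhN, hha, hhb⟩ := (hmemA h).mp hh
    refine (hmemA _).mpr ⟨Subgroup.Normal.conj_mem ‹_› h hhN g, ?_, ?_⟩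
    · rw [mul_smul, mul_smul, inv_smul_eq_iff.mpr hga.symm, hha, hga]
    · rw [mul_smul, mul_smul, inv_smul_eq_iff.mpr hgb.symm, hhb, hgb]
  let O : X → Set X := fun x => orbit A x
  have hOimg : ∀ g : G, g • a' = a' → g • b' = b' → ∀ x y, y ∈ O x → g • y ∈ O (g • x) := by
    rintro g hga hgb x y ⟨⟨h, hh⟩, rfl⟩
    refine ⟨⟨g * h * g⁻¹, hAconj g hga hgb h hh⟩, ?_⟩
    show (g * h * g⁻¹) • g • x = g • h • x
    rw [mul_smul, mul_smul, inv_smul_smul]
  have hsize : ∀ x y, x ≠ a' → x ≠ b' → y ≠ a' → y ≠ b' → (O x).ncard ≤ (O y).ncard := by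
    intro x y h1 h2' h3 h4
    obtain ⟨g, hga, hgb, hgxy⟩ := htrans x y h1 h2' h3 h4
    refine Set.ncard_le_ncard_of_injOn (g • ·) (fun z hz => ?_) fun _ _ _ _ e => smul_left_cancel g e
    exact hgxy ▸ hOimg g hga hgb x z hz
  have hOne : ∀ x, x ≠ a' → x ≠ b' → ∀ y ∈ O x, y ≠ a' ∧ y ≠ b' := by
    rintro x h1 h2' _ ⟨⟨h, hh⟩, rfl⟩
    obtain ⟨-, hha, hhb⟩ := (hmemA h).mp hh
    exact ⟨fun e => h1 (smul_left_cancel h (e.trans hha.symm)),
      fun e => h2' (smul_left_cancel h (e.trans hhb.symm))⟩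
  have hoddO : ∀ x, x ≠ a' → x ≠ b' → Odd (O x).ncard := by
    intro x h1 h2'
    have hdvd : (O x).ncard ∣ ({a', b'}ᶜ : Set X).ncard := by
      refine Lib.HalfTransitive.dvd_ncard_of_orbits (K := A) _ (fun k y hy => ?_) fun y hy => ?_
      · simp only [Set.mem_compl_iff, Set.mem_insert_iff, Set.mem_singleton_iff, not_or] at hy ⊢
        exact hOne y hy.1 hy.2 _ ⟨k, rfl⟩
      · simp only [Set.mem_compl_iff, Set.mem_insert_iff, Set.mem_singleton_iff, not_or] at hy
        exact le_antisymm (hsize y x hy.1 hy.2 h1 h2') (hsize x y h1 h2' hy.1 hy.2)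
    rw [Set.ncard_compl, Set.ncard_pair hab'] at hdvd
    exact (Nat.Odd.sub_even (by omega) hodd even_two).of_dvd_nat hdvd
  -- `t` fixes every orbit
  have horbit : ∀ x, x ≠ a' → x ≠ b' → ∀ g : G, g • a' = a' → g • b' = b' →
      t • x ∈ O x → t • g • x ∈ O (g • x) := by
    intro x h1 h2' g hga hgb hx
    have hk : t * (g * t * g⁻¹)⁻¹ ∈ A := by
      have hgt := Subgroup.Normal.conj_mem ‹_› t htN g
      refine (hmemA _).mpr ⟨N.mul_mem htN (N.inv_mem hgt), ?_, ?_⟩
      · rw [mul_smul, show (g * t * g⁻¹)⁻¹ • a' = b' from inv_smul_eq_iff.mpr (by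
          rw [mul_smul, mul_smul, inv_smul_eq_iff.mpr hgb.symm, htb, hga]), htb]
      · rw [mul_smul, show (g * t * g⁻¹)⁻¹ • b' = a' from inv_smul_eq_iff.mpr (by
          rw [mul_smul, mul_smul, inv_smul_eq_iff.mpr hga.symm, hta, hgb]), hta]
    have h1' := hOimg g hga hgb x _ hx
    have e : t • g • x = (t * (g * t * g⁻¹)⁻¹) • g • t • x := by
      rw [← mul_smul, ← mul_smul, ← mul_smul]; congr 1; group
    rw [e]
    exact mem_orbit_of_mem_orbit (⟨_, hk⟩ : A) h1'
  haveI : Fintype X := Fintype.ofFinite X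
  obtain ⟨x₀, hx₀a, hx₀b, hx₀⟩ : ∃ x₀, x₀ ≠ a' ∧ x₀ ≠ b' ∧ ∀ r ∈ R, r • x₀ = x₀ := by
    have hT : ({a', b'}ᶜ : Set X).ncard % 2 = 1 := by
      rw [Set.ncard_compl, Set.ncard_pair hab']
      exact Nat.odd_iff.mp (Nat.Odd.sub_even (by omega) hodd even_two)
    have hab_R : ∀ r ∈ R, (r • a' = a' ∧ r • b' = b') ∨ (r • a' = b' ∧ r • b' = a') := by
      intro r hr
      let K : Subgroup G :=
        { carrier := {r | (r • a' = a' ∧ r • b' = b') ∨ (r • a' = b' ∧ r • b' = a')}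
          one_mem' := Or.inl ⟨one_smul _ _, one_smul _ _⟩
          mul_mem' := by
            rintro r r' (⟨h1, h2'⟩ | ⟨h1, h2'⟩) (⟨h3, h4⟩ | ⟨h3, h4⟩) <;>
              simp [mul_smul, h1, h2', h3, h4]
          inv_mem' := by
            rintro r (⟨h1, h2'⟩ | ⟨h1, h2'⟩)
            · exact Or.inl ⟨inv_smul_eq_iff.mpr h1.symm, inv_smul_eq_iff.mpr h2'.symm⟩
            · exact Or.inr ⟨inv_smul_eq_iff.mpr h2'.symm, inv_smul_eq_iff.mpr h1.symm⟩ }
      refine (sup_le (Subgroup.zpowers_le.mpr ?_) ?_ : R ≤ K) hr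
      · exact Or.inr ⟨hta, htb⟩
      · intro s hs; exact Or.inl ((hmemA s).mp (hSA hs)).2
    let T : SubMulAction R X :=
      ⟨({a', b'}ᶜ : Set X), fun r {y} hy => by
        simp only [Set.mem_compl_iff, Set.mem_insert_iff, Set.mem_singleton_iff, not_or] at hy ⊢
        show (r : G) • y ≠ a' ∧ (r : G) • y ≠ b'
        rcases hab_R r r.2 with ⟨h1, h2'⟩ | ⟨h1, h2'⟩
        · exact ⟨fun e => hy.1 (smul_left_cancel (r : G) (e.trans h1.symm)),
            fun e => hy.2 (smul_left_cancel (r : G) (e.trans h2'.symm))⟩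
        · exact ⟨fun e => hy.2 (smul_left_cancel (r : G) (e.trans h2'.symm)),
            fun e => hy.1 (smul_left_cancel (r : G) (e.trans h1.symm))⟩⟩
    obtain ⟨⟨x, hx⟩, hfix⟩ := hRp.nonempty_fixed_point_of_prime_not_dvd_card T (by
      rw [show Nat.card T = ({a', b'}ᶜ : Set X).ncard from Nat.card_coe_set_eq _]
      omega)
    have hx' : x ∉ ({a', b'} : Set X) := hx
    simp only [Set.mem_insert_iff, Set.mem_singleton_iff, not_or] at hx'
    exact ⟨x, hx'.1, hx'.2, fun r hr => congrArg Subtype.val (hfix ⟨r, hr⟩)⟩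
  -- an orbit different from that of `x₀`
  obtain ⟨y, hya, hyb, hyO⟩ : ∃ y, y ≠ a' ∧ y ≠ b' ∧ y ∉ O x₀ := by
    by_contra! hall
    obtain ⟨⟨g₁, hg₁⟩, hg₁u⟩ := hall u hua hub
    obtain ⟨⟨g₂, hg₂⟩, hg₂v⟩ := hall v hva hvb
    change g₁ • x₀ = u at hg₁u
    change g₂ • x₀ = v at hg₂v
    obtain ⟨hN', ha1, hb1⟩ := (hmemA _).mp (A.mul_mem hg₂ (A.inv_mem hg₁))
    refine hno ⟨g₂ * g₁⁻¹, hN'⟩ ha1 hb1 ?_
    show (g₂ * g₁⁻¹) • u = v
    rw [mul_smul, ← hg₁u, inv_smul_smul, hg₂v]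
  have hOy : ∀ r ∈ R, ∀ z ∈ O y, r • z ∈ O y := by
    have hbase : t • y ∈ O y := by
      obtain ⟨g, hga, hgb, rfl⟩ := htrans x₀ y hx₀a hx₀b hya hyb
      exact horbit x₀ hx₀a hx₀b g hga hgb
        (by rw [hx₀ t (Subgroup.mem_sup_left (Subgroup.mem_zpowers t))]; exact mem_orbit_self _)
    haveI : Finite (O y) := inferInstance
    have hRle : R ≤ stabilizer G (O y : Set X) := by
      refine sup_le (Subgroup.zpowers_le.mpr ?_) fun s hs => ?_
      · refine mem_stabilizer_set_iff_subset_smul_set (Set.toFinite _) |>.mpr ?_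
        have hsub : t • O y ⊆ O y := by
          rintro _ ⟨_, ⟨⟨h, hh⟩, rfl⟩, rfl⟩
          have e : t • h • y = (t * h * t⁻¹) • t • y := by
            rw [← mul_smul, ← mul_smul]; congr 1; group
          show t • h • y ∈ O y
          rw [e]
          exact mem_orbit_of_mem_orbit (⟨_, hswapA t htN hta htb h hh⟩ : A) hbase
        exact (Set.eq_of_subset_of_ncard_le hsub (by rw [Set.ncard_smul_set])).ge
      · refine mem_stabilizer_set_iff_subset_smul_set (Set.toFinite _) |>.mpr ?_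
        have hsub : s • O y ⊆ O y := by
          rintro _ ⟨z, hz, rfl⟩
          exact mem_orbit_of_mem_orbit (⟨s, hSA hs⟩ : A) hz
        exact (Set.eq_of_subset_of_ncard_le hsub (by rw [Set.ncard_smul_set])).ge
    intro r hr z hz
    have := mem_stabilizer_iff.mp (hRle hr)
    rw [← this]
    exact Set.smul_mem_smul_set hz
  obtain ⟨⟨x₁, hx₁⟩, hfix⟩ := hRp.nonempty_fixed_point_of_prime_not_dvd_card
    (⟨O y, fun r {z} hz => hOy r r.2 z hz⟩ : SubMulAction R X) (by
      rw [show Nat.card (⟨O y, fun r {z} hz => hOy r r.2 z hz⟩ : SubMulAction R X) = (O y).ncard from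
        Nat.card_coe_set_eq _]
      have := Nat.odd_iff.mp (hoddO y hya hyb)
      omega)
  have hx01 : x₀ ≠ x₁ := by
    rintro rfl
    exact hyO (mem_orbit_symm.mp hx₁)
  -- `R` lies in the stabiliser in `N` of two points, so `t` is in `S`
  have hRle : R ≤ N ⊓ stabilizer G x₀ ⊓ stabilizer G x₁ := fun r hr =>
    ⟨⟨hRN hr, hx₀ r hr⟩, congrArg Subtype.val (hfix ⟨r, hr⟩)⟩
  have hRS : R = S := by
    refine (Subgroup.eq_of_le_of_card_ge le_sup_right ?_).symm
    have hdvd : Nat.card R ∣ Nat.card A := by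
      rw [← hcardA x₀ x₁ hx01]; exact Subgroup.card_dvd_of_le hRle
    obtain ⟨i, hi⟩ := hRp.exists_card_eq
    have hScard : Nat.card S = 2 ^ (Nat.card A).factorization 2 := by
      rw [hS, Subgroup.card_map_of_injective A.subtype_injective, Sylow.card_eq_multiplicity]
    rw [hi] at hdvd
    rw [hScard, hi]
    exact Nat.pow_le_pow_right two_pos
      ((Nat.prime_two.pow_dvd_iff_le_factorization Nat.card_pos.ne').mp hdvd)
  have htA : t ∈ A := hSA (hRS ▸ Subgroup.mem_sup_left (Subgroup.mem_zpowers t))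
  exact hab' (((hmemA t).mp htA).2.1.symm.trans hta)


/-- Wagner's Theorem: a non-trivial normal subgroup of a triply transitive permutation group of odd degree at least 5 is triply transitive. -/
theorem result {α : Type*} [Fintype α] [DecidableEq α] (G : Subgroup (Equiv.Perm α)) (hodd : Odd (Fintype.card α)) (h5 : 5 ≤ Fintype.card α) (hG : MulAction.IsMultiplyPretransitive G α 3) (N : Subgroup G) [N.Normal] (hN : N ≠ ⊥) : MulAction.IsMultiplyPretransitive N α 3 := by
  exact wagner (by rwa [Nat.card_eq_fintype_card]) (by rwa [Nat.card_eq_fintype_card]) hG N hN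

end Cfsg.Agent.S0699
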