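import Cfsg.Statements.S0700
import Cfsg.Agent.Lib.Perm.Normal
import Cfsg.Agent.Lib.Perm.HalfTransitiveWielandt
import Cfsg.Agent.Lib.Frobenius.Kernel
open scoped Pointwise

set_option autoImplicit false
open Cfsg

namespace Cfsg.Agent.S0700

open MulAction in
theorem burnside_min {G : Type*} [Group G] [Finite G] {X : Type*} [MulAction G X] [FaithfulSMul G X]
    [Finite X] (hX : 2 ≤ Nat.card X) (hG : IsMultiplyPretransitive G X 2) (N : Subgroup G) [N.Normal]
    (hN : N ≠ ⊥) (hmin : ∀ M : Subgroup G, M.Normal → M ≤ N → M = ⊥ ∨ M = N) :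
    (IsMulCommutative N ∧ (∃ p : ℕ, p.Prime ∧ ∀ n ∈ N, n ^ p = 1) ∧ ∀ a : X, stabilizer N a = ⊥) ∨
      (IsSimpleGroup N ∧ IsPreprimitive N X) := by
  classical
  haveI : Nontrivial X := Finite.one_lt_card_iff_nontrivial.mp (by omega)
  haveI : IsPretransitive G X := Lib.Perm.isPretransitive_of_two hG
  haveI htN : IsPretransitive N X := Lib.Perm.normal_isPretransitive_of_two hG N hN
  obtain ⟨a⟩ : Nonempty X := inferInstance
  by_cases ha : stabilizer N a = ⊥
  · obtain ⟨p, hp, hc, he, -⟩ := Lib.Perm.regularNormal_elementaryAbelian N hG ha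
    exact Or.inl ⟨hc, ⟨p, hp, he⟩, Lib.Perm.stabilizer_eq_bot_of_conj N ha⟩
  right
  haveI hfN : FaithfulSMul N X := ⟨fun {u v} e => Subtype.ext (FaithfulSMul.eq_of_smul_eq_smul e)⟩
  -- `N` is half transitive
  have hconj : ∀ {x : X} {g : G}, g • x = x → ∀ {n : N}, n • x = x →
      (⟨g * n * g⁻¹, Subgroup.Normal.conj_mem ‹_› n.1 n.2 g⟩ : N) • x = x := by
    intro x g hg n hn
    show (g * (n : G) * g⁻¹) • x = x
    rw [Lib.Perm.conj_smul_of_fix hg, show (n : G) • x = x from hn, hg]
  have hle : ∀ x y z : X, y ≠ x → z ≠ x →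
      Nat.card (orbit (stabilizer N x) y) ≤ Nat.card (orbit (stabilizer N x) z) := by
    intro x y z hy hz
    obtain ⟨g, hgx, hgy⟩ := Lib.Perm.exists_smul_two hG hy.symm hz.symm
    rw [Nat.card_coe_set_eq, Nat.card_coe_set_eq]
    refine Set.ncard_le_ncard_of_injOn (g • ·) ?_ (fun _ _ _ _ e => smul_left_cancel g e)
    rintro _ ⟨⟨n, hn⟩, rfl⟩
    refine ⟨⟨_, hconj hgx hn⟩, ?_⟩
    show (g * (n : G) * g⁻¹) • z = g • (n : G) • y
    rw [← hgy, mul_smul, mul_smul, inv_smul_smul]
  have hhalf : ∀ x y z : X, y ≠ x → z ≠ x →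
      Nat.card (orbit (stabilizer N x) y) = Nat.card (orbit (stabilizer N x) z) :=
    fun x y z hy hz => le_antisymm (hle x y z hy hz) (hle x z y hz hy)
  -- it is not a Frobenius group, by minimality
  have hnotF : ∃ x y : X, x ≠ y ∧ stabilizer N x ⊓ stabilizer N y ≠ ⊥ := by
    by_contra! hF
    set S := stabilizer N a with hS
    have hStop : S ≠ ⊤ := by
      intro h
      obtain ⟨b, hb⟩ := exists_ne a
      obtain ⟨n, hn⟩ := exists_smul_eq N a b
      have : n ∈ S := h ▸ Subgroup.mem_top n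
      exact hb (hn.symm.trans this)
    have hmemconj : ∀ g n : N, n ∈ MulAut.conj g • S ↔ n • g • a = g • a := by
      intro g n
      rw [Subgroup.mem_pointwise_smul_iff_inv_smul_mem, hS, mem_stabilizer_iff]
      show (MulAut.conj g)⁻¹ n • a = a ↔ _
      rw [← map_inv, MulAut.conj_apply, inv_inv, mul_smul, mul_smul, inv_smul_eq_iff]
    have hFC : Cfsg.IsFrobeniusComplement S := by
      refine ⟨ha, hStop, fun g hg => (Subgroup.eq_bot_iff_forall _).mpr fun n hn => ?_⟩
      obtain ⟨h1, h2⟩ := Subgroup.mem_inf.mp hn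
      have := hF a (g • a) (fun e => hg e.symm)
      exact Subgroup.mem_bot.mp (this ▸ Subgroup.mem_inf.mpr ⟨h1, (hmemconj g n).mp h2⟩)
    obtain ⟨K, hK, hKn, hKc⟩ := Lib.Frobenius.exists_kernel hFC
    have hKmem : ∀ n : N, n ∈ K ↔ n = 1 ∨ ∀ x : X, n • x ≠ x := by
      intro n
      show n ∈ (K : Set N) ↔ _
      rw [hK]
      refine or_congr_right ⟨fun h x hx => ?_, fun h g hg => h _ ((hmemconj g n).mp hg)⟩
      obtain ⟨g, rfl⟩ := exists_smul_eq N a x
      exact h g ((hmemconj g n).mpr hx)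
    haveI : (K.map N.subtype).Normal := ⟨by
      rintro _ ⟨n, hn, rfl⟩ g
      refine ⟨⟨g * n * g⁻¹, Subgroup.Normal.conj_mem ‹_› n.1 n.2 g⟩, (hKmem _).mpr ?_, rfl⟩
      rcases (hKmem n).mp hn with rfl | h
      · exact Or.inl (Subtype.ext (by simp))
      · refine Or.inr fun x hx => h (g⁻¹ • x) ?_
        have hx' : (g * (n : G) * g⁻¹) • x = x := hx
        show (n : G) • g⁻¹ • x = g⁻¹ • x
        conv_rhs => rw [← hx', mul_smul, mul_smul, inv_smul_smul]⟩
    have hKcard : Nat.card K = Nat.card X := by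
      rw [← index_stabilizer_of_transitive N a]
      exact hKc.index_eq_card.symm
    rcases hmin (K.map N.subtype) inferInstance (Subgroup.map_subtype_le K) with h | h
    · rw [Subgroup.map_eq_bot_iff_of_injective _ N.subtype_injective] at h
      rw [h, Subgroup.card_bot] at hKcard
      omega
    · refine ha ?_
      have h1 : Nat.card K = Nat.card N := by
        rw [← Subgroup.card_map_of_injective N.subtype_injective, h]
      have h2 := hKc.card_mul
      rw [h1] at h2
      exact Subgroup.card_eq_one.mp ((mul_eq_left₀ Nat.card_pos.ne').mp h2)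
  have hprimN : IsPreprimitive N X := by
    refine (isCoatom_stabilizer_iff_preprimitive N a).mp ⟨fun h => ?_, fun Y hY =>
      Lib.HalfTransitive.eq_top_of_stabilizer_lt hhalf hnotF a hY⟩
    obtain ⟨b, hb⟩ := exists_ne a
    obtain ⟨n, hn⟩ := exists_smul_eq N a b
    have : n ∈ stabilizer N a := h ▸ Subgroup.mem_top n
    exact hb (hn.symm.trans this)
  refine ⟨?_, hprimN⟩
  -- simplicity
  haveI : Nontrivial N := (Subgroup.nontrivial_iff_ne_bot N).mpr hN
  by_contra hns
  obtain ⟨L, hLn, hL1, hL2⟩ : ∃ L : Subgroup N, L.Normal ∧ L ≠ ⊥ ∧ L ≠ ⊤ := by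
    by_contra! h
    exact hns ⟨fun L hL => Classical.or_iff_not_imp_left.mpr (h L hL)⟩
  obtain ⟨M, ⟨hMn, hM1, hM2⟩, hMmin⟩ := (Set.toFinite
    {L : Subgroup N | L.Normal ∧ L ≠ ⊥ ∧ L ≠ ⊤}).exists_minimal ⟨L, hLn, hL1, hL2⟩
  have hMmin' : ∀ L : Subgroup N, L.Normal → L ≤ M → L = ⊥ ∨ L = M := by
    intro L hL hle'
    rcases eq_or_ne L ⊥ with h | h
    · exact Or.inl h
    · exact Or.inr (le_antisymm hle' (hMmin ⟨hL, h, fun e => hM2 (top_le_iff.mp (e ▸ hle'))⟩ hle'))
  haveI := hMn
  have htM : IsPretransitive M X := Lib.Perm.normal_isPretransitive_of_ne_bot M hM1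
  -- `M` is not abelian, and conjugates of `M` are equal or commute
  let cj : G → MulAut N := fun g => MulAut.conjNormal g
  have hcj : ∀ (g : G) (n : N), ((cj g n : N) : G) = g * n * g⁻¹ := fun g n =>
    MulAut.conjNormal_apply g n
  have hmapn : ∀ g : G, (M.map (cj g).toMonoidHom).Normal := fun g =>
    Subgroup.Normal.map hMn _ (cj g).surjective
  have hexists : ∃ g : G, M.map (cj g).toMonoidHom ≠ M := by
    by_contra! hall
    haveI : (M.map N.subtype).Normal := ⟨by
      rintro _ ⟨n, hn, rfl⟩ g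
      exact ⟨cj g n, hall g ▸ ⟨n, hn, rfl⟩, hcj g n⟩⟩
    rcases hmin (M.map N.subtype) inferInstance (Subgroup.map_subtype_le M) with h | h
    · exact hM1 ((Subgroup.map_eq_bot_iff_of_injective _ N.subtype_injective).mp h)
    · refine hM2 (eq_top_iff.mpr fun n _ => ?_)
      obtain ⟨m, hm, hmn⟩ : (n : G) ∈ M.map N.subtype := h.ge n.2
      exact (Subtype.ext hmn : m = n) ▸ hm
  obtain ⟨g₀, hg₀⟩ := hexists
  set M' := M.map (cj g₀).toMonoidHom with hM'
  haveI := hmapn g₀
  have hM'1 : M' ≠ ⊥ := fun h =>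
    hM1 ((Subgroup.map_eq_bot_iff_of_injective _ (cj g₀).injective).mp h)
  haveI htM' : IsPretransitive M' X := Lib.Perm.normal_isPretransitive_of_ne_bot M' hM'1
  have hdisj : M ⊓ M' = ⊥ := by
    refine (hMmin' (M ⊓ M') inferInstance inf_le_left).resolve_right fun h => hg₀ ?_
    exact (Subgroup.eq_of_le_of_card_ge (h ▸ inf_le_right : M ≤ M')
      (Subgroup.card_map_of_injective (cj g₀).injective).le).symm
  have hcomm : ∀ m ∈ M, ∀ n ∈ M', m * n = n * m := fun m hm n hn =>
    Subgroup.commute_of_normal_of_disjoint M M' hMn inferInstance (disjoint_iff.mpr hdisj) m n hm hn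
  haveI := htM
  have regM : ∀ x : X, stabilizer M x = ⊥ := fun x =>
    Lib.Perm.stabilizer_subgroup_eq_bot_iff.mpr fun m hm hmx =>
      Lib.Perm.eq_one_of_commute_transitive M' (fun n hn => hcomm m hm n hn) hmx
  have regM' : ∀ x : X, stabilizer M' x = ⊥ := fun x =>
    Lib.Perm.stabilizer_subgroup_eq_bot_iff.mpr fun n hn hnx =>
      Lib.Perm.eq_one_of_commute_transitive M (fun m hm => (hcomm m hm n hn).symm) hnx
  -- any conjugate of `M` is `M` or `M'`
  have htwo : ∀ g : G, M.map (cj g).toMonoidHom = M ∨ M.map (cj g).toMonoidHom = M' := by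
    intro g
    set M'' := M.map (cj g).toMonoidHom with hM''
    haveI := hmapn g
    by_contra! hne
    have hcardM'' : Nat.card M'' = Nat.card M := Subgroup.card_map_of_injective (cj g).injective
    have h1 : M ⊓ M'' = ⊥ := by
      refine (hMmin' (M ⊓ M'') inferInstance inf_le_left).resolve_right fun h => hne.1 ?_
      exact (Subgroup.eq_of_le_of_card_ge (h ▸ inf_le_right : M ≤ M'') hcardM''.le).symm
    refine hne.2 (Subgroup.eq_of_le_of_card_ge (fun n hn => ?_) ?_)
    · -- the centraliser of `M` is `M'`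
      obtain ⟨n', hn', hn'a⟩ := Lib.Perm.exists_mem_smul_eq M' a (n • a)
      have : n'⁻¹ * n = 1 := Lib.Perm.eq_one_of_commute_transitive M (fun m hm => by
          have e1 : m * n = n * m := Subgroup.commute_of_normal_of_disjoint M M'' hMn inferInstance
            (disjoint_iff.mpr h1) m n hm hn
          have e2 : m * n'⁻¹ = n'⁻¹ * m := hcomm m hm _ (M'.inv_mem hn')
          rw [mul_assoc, ← e1, ← mul_assoc, ← e2, mul_assoc]) (a := a)
        (by rw [mul_smul, inv_smul_eq_iff, hn'a])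
      exact (inv_mul_eq_one.mp this) ▸ hn'
    · exact (hcardM''.trans (Subgroup.card_map_of_injective (cj g₀).injective).symm).ge
  -- all non-identity elements of `M` have the same order
  have hord : ∀ m n : M, m ≠ 1 → n ≠ 1 → orderOf n = orderOf m := by
    intro m n hm hn
    have hma : (m : N) • a ≠ a := fun e => hm (Subtype.ext
      (Lib.Perm.stabilizer_subgroup_eq_bot_iff.mp (regM a) _ m.2 e))
    have hna : (n : N) • a ≠ a := fun e => hn (Subtype.ext
      (Lib.Perm.stabilizer_subgroup_eq_bot_iff.mp (regM a) _ n.2 e))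
    obtain ⟨g, hga, hgm⟩ := Lib.Perm.exists_smul_two hG hma.symm hna.symm
    have himg : cj g (m : N) • a = (n : N) • a := by
      show ((cj g (m : N) : N) : G) • a = _
      rw [hcj, Lib.Perm.conj_smul_of_fix hga]
      exact hgm
    have hmem : cj g (m : N) ∈ M.map (cj g).toMonoidHom := ⟨(m : N), m.2, rfl⟩
    rw [← Subgroup.orderOf_coe n, ← Subgroup.orderOf_coe m, ← MulEquiv.orderOf_eq (cj g) (m : N)]
    rcases htwo g with h | h
    · rw [h] at hmem
      rw [Lib.Perm.eq_of_smul_eq_of_regular M (regM a) hmem n.2 himg]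
    · rw [h] at hmem
      set n' := cj g (m : N)
      have hpw : ∀ k : ℕ, (n' ^ k) • a = ((n : N) ^ k) • a := by
        intro k
        induction k with
        | zero => simp
        | succ k ih =>
          rw [pow_succ, mul_smul, himg, ← mul_smul, (hcomm _ n.2 _ (M'.pow_mem hmem k)).symm,
            mul_smul, ih, ← mul_smul, ← pow_succ']
      refine orderOf_eq_orderOf_iff.mpr fun k => ⟨fun h1 => ?_, fun h1 => ?_⟩
      · refine Lib.Perm.stabilizer_subgroup_eq_bot_iff.mp (regM' a) _ (M'.pow_mem hmem k) ?_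
        rw [hpw, h1, one_smul]
      · refine Lib.Perm.stabilizer_subgroup_eq_bot_iff.mp (regM a) _ (M.pow_mem n.2 k) ?_
        rw [← hpw, h1, one_smul]
  haveI : Nontrivial M := (Subgroup.nontrivial_iff_ne_bot M).mpr hM1
  set p := (Nat.card M).minFac with hp
  have hpp : p.Prime := Nat.minFac_prime Finite.one_lt_card.ne'
  haveI : Fact p.Prime := ⟨hpp⟩
  obtain ⟨x, hx⟩ := exists_prime_orderOf_dvd_card' p (Nat.minFac_dvd (Nat.card M))
  have hx1 : x ≠ 1 := fun e => hpp.ne_one (by rw [← hx, e, orderOf_one])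
  have hP : IsPGroup p M := fun n => ⟨1, by
    by_cases hn : n = 1
    · simp [hn]
    · rw [pow_one, ← hx, ← hord x n hx1 hn, pow_orderOf_eq_one]⟩
  haveI := hP.center_nontrivial
  rcases hMmin' ((Subgroup.center M).map M.subtype) inferInstance (Subgroup.map_subtype_le _) with h | h
  · rw [Subgroup.map_eq_bot_iff_of_injective _ M.subtype_injective] at h
    exact (Subgroup.nontrivial_iff_ne_bot _).mp inferInstance h
  -- `M` is abelian, so it is its own centraliser
  have hab : ∀ u ∈ M, ∀ v ∈ M, u * v = v * u := by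
    intro u hu v hv
    obtain ⟨z, hz, hzu⟩ := h.ge hu
    rw [← hzu]
    exact (congrArg Subtype.val (Subgroup.mem_center_iff.mp hz ⟨v, hv⟩)).symm
  refine hM'1 (eq_bot_iff.mpr fun n hn => ?_)
  obtain ⟨m, hm, hma⟩ := Lib.Perm.exists_mem_smul_eq M a (n • a)
  have h1 : m⁻¹ * n = 1 := Lib.Perm.eq_one_of_commute_transitive M (fun u hu => by
      rw [mul_assoc, ← hcomm u hu n hn, ← mul_assoc, hab _ (M.inv_mem hm) u hu, mul_assoc]) (a := a)
    (by rw [mul_smul, inv_smul_eq_iff, hma])
  have hnm : m = n := inv_mul_eq_one.mp h1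
  exact hdisj ▸ Subgroup.mem_inf.mpr ⟨hnm ▸ hm, hn⟩


/-- Burnside's Theorem on doubly transitive groups: a minimal normal subgroup of a finite doubly transitive permutation group is elementary abelian and regular, or simple and primitive. -/
theorem result {α : Type*} [Fintype α] [DecidableEq α] (G : Subgroup (Equiv.Perm α)) (hG : MulAction.IsMultiplyPretransitive G α 2) (N : Subgroup G) [N.Normal] (hN : N ≠ ⊥) (hmin : ∀ M : Subgroup G, M.Normal → M ≤ N → M = ⊥ ∨ M = N) : (IsMulCommutative N ∧ (∃ p : ℕ, p.Prime ∧ ∀ n ∈ N, n ^ p = 1) ∧ ∀ a : α, MulAction.stabilizer N a = ⊥) ∨ (IsSimpleGroup N ∧ MulAction.IsPreprimitive N α) := by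
  rcases Nat.lt_or_ge (Fintype.card α) 2 with hlt | hge
  · exfalso
    haveI : Subsingleton α := Fintype.card_le_one_iff_subsingleton.mp (by omega)
    exact hN ((Subgroup.eq_bot_iff_forall N).mpr fun m _ =>
      Subtype.ext (Equiv.ext fun x => Subsingleton.elim _ _))
  · exact burnside_min (by rwa [Nat.card_eq_fintype_card]) hG N hN hmin

end Cfsg.Agent.S0700
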