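import Cfsg.Statements.S0701
import Cfsg.Agent.Lib.Perm.RegularNormal

set_option autoImplicit false
open Cfsg

namespace Cfsg.Agent.S0701

/-- The centraliser in the full symmetric group of a transitive permutation group `G` is semiregular, and it is transitive if and only if `G` is regular. -/
theorem result {α : Type*} (G : Subgroup (Equiv.Perm α)) [MulAction.IsPretransitive G α] : (∀ c ∈ Subgroup.centralizer (G : Set (Equiv.Perm α)), ∀ a : α, c a = a → c = 1) ∧ (MulAction.IsPretransitive (Subgroup.centralizer (G : Set (Equiv.Perm α))) α ↔ ∀ a : α, MulAction.stabilizer G a = ⊥) := by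
  classical
  have hsem : ∀ c ∈ Subgroup.centralizer (G : Set (Equiv.Perm α)), ∀ a : α, c a = a → c = 1 :=
    fun c hc a ha => Lib.Perm.eq_one_of_commute_transitive G
      (fun n hn => (Subgroup.mem_centralizer_iff.mp hc n hn).symm) ha
  refine ⟨hsem, fun hC a => ?_, fun hreg => ?_⟩
  · rw [Lib.Perm.stabilizer_subgroup_eq_bot_iff]
    intro g hg hga
    exact Lib.Perm.eq_one_of_commute_transitive (Subgroup.centralizer (G : Set (Equiv.Perm α)))
      (fun c hc => Subgroup.mem_centralizer_iff.mp hc g hg) hga
  · refine ⟨fun a b => ?_⟩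
    have hu : ∀ g h : G, g • a = h • a → g = h := fun g h e => Subtype.ext
      (Lib.Perm.eq_of_smul_eq_of_regular G (hreg a) g.2 h.2 e)
    have hub : ∀ g h : G, g • b = h • b → g = h := fun g h e => Subtype.ext
      (Lib.Perm.eq_of_smul_eq_of_regular G (hreg b) g.2 h.2 e)
    let ea : G ≃ α := Equiv.ofBijective (fun g => g • a)
      ⟨fun g h e => hu g h e, fun x => MulAction.exists_smul_eq G a x⟩
    let eb : G ≃ α := Equiv.ofBijective (fun g => g • b)
      ⟨fun g h e => hub g h e, fun x => MulAction.exists_smul_eq G b x⟩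
    let c : Equiv.Perm α := ea.symm.trans eb
    have hc : ∀ g : G, c (g • a) = g • b := fun g => by
      show eb (ea.symm (ea g)) = g • b
      rw [Equiv.symm_apply_apply]; rfl
    refine ⟨⟨c, Subgroup.mem_centralizer_iff.mpr fun h hh => Equiv.ext fun x => ?_⟩, ?_⟩
    · obtain ⟨g, rfl⟩ := MulAction.exists_smul_eq G a x
      show h (c (g • a)) = c (h (g • a))
      rw [hc g, show h (g • a) = (⟨h, hh⟩ * g : G) • a from (mul_smul (⟨h, hh⟩ : G) g a).symm, hc,
        mul_smul]
      rfl
    · show c a = b
      simpa using hc 1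

end Cfsg.Agent.S0701
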