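import Cfsg.Statements.S0702
import Cfsg.Agent.Lib.Perm.RegularNormal

set_option autoImplicit false
open Cfsg

namespace Cfsg.Agent.S0702

/-- For a transitive permutation group `G` on a finite set, the centraliser of `G` in the symmetric group is isomorphic to `N_G(G_ω)/G_ω`, and its orbit of `ω` is the set of fixed points of `G_ω`. -/
theorem result {α : Type*} [Finite α] (G : Subgroup (Equiv.Perm α)) [MulAction.IsPretransitive G α] (a : α) : Nonempty (Subgroup.centralizer (G : Set (Equiv.Perm α)) ≃* Subgroup.normalizer ((MulAction.stabilizer G a : Subgroup G) : Set G) ⧸ (MulAction.stabilizer G a).subgroupOf (Subgroup.normalizer ((MulAction.stabilizer G a : Subgroup G) : Set G))) ∧ MulAction.orbit (Subgroup.centralizer (G : Set (Equiv.Perm α))) a = MulAction.fixedPoints (MulAction.stabilizer G a) α := by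
  classical
  set S : Subgroup G := MulAction.stabilizer G a with hS
  set N : Subgroup G := Subgroup.normalizer (S : Set G) with hN
  -- for g normalising S, the permutation x•a ↦ (x*g)•a
  have key : ∀ n : N, ∀ x y : G, x • a = y • a → (x * (n : G)) • a = (y * (n : G)) • a := by
    intro n x y h
    have h1 : y⁻¹ * x ∈ S := by
      rw [hS, MulAction.mem_stabilizer_iff, mul_smul, h, inv_smul_smul]
    have h2 : (n : G)⁻¹ * (y⁻¹ * x) * (n : G) ∈ S := by
      have := (Subgroup.mem_normalizer_iff.mp (N.inv_mem n.2) (y⁻¹ * x)).mp h1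
      rwa [inv_inv] at this
    have h3 := MulAction.mem_stabilizer_iff.mp h2
    rw [show x * (n : G) = (y * (n : G)) * ((n : G)⁻¹ * (y⁻¹ * x) * (n : G)) by group, mul_smul, h3]
  have hex : ∀ x : α, ∃ g : G, g • a = x := fun x => MulAction.exists_smul_eq G a x
  choose τ hτ using hex
  let f : N → α → α := fun n x => (τ x * (n : G)) • a
  have hf : ∀ (n : N) (g : G), f n (g • a) = (g * (n : G)) • a := fun n g =>
    key n _ _ (hτ (g • a))
  have hfmul : ∀ (m n : N) (x : α), f m (f n x) = f (n * m) x := by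
    intro m n x
    show f m ((τ x * (n : G)) • a) = (τ x * ((n * m : N) : G)) • a
    rw [hf, Subgroup.coe_mul, mul_assoc]
  have hf1 : ∀ x : α, f 1 x = x := fun x => by
    show (τ x * ((1 : N) : G)) • a = x
    rw [Subgroup.coe_one, mul_one, hτ]
  let φ : N → Equiv.Perm α := fun n =>
    ⟨f n⁻¹, f n, fun x => by rw [hfmul, inv_mul_cancel, hf1],
      fun x => by rw [hfmul, mul_inv_cancel, hf1]⟩
  have hφ : ∀ (n : N) (x : α), φ n x = f n⁻¹ x := fun _ _ => rfl
  have hmem : ∀ n : N, φ n ∈ Subgroup.centralizer (G : Set (Equiv.Perm α)) := by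
    intro n
    refine Subgroup.mem_centralizer_iff.mpr fun h hh => Equiv.ext fun x => ?_
    show h (φ n x) = φ n (h x)
    rw [hφ, hφ]
    obtain ⟨g, rfl⟩ := MulAction.exists_smul_eq G a x
    rw [hf, show h (g • a) = ((⟨h, hh⟩ : G) * g) • a from (mul_smul (⟨h, hh⟩ : G) g a).symm, hf,
      mul_assoc]
    exact (mul_smul (⟨h, hh⟩ : G) (g * ((n⁻¹ : N) : G)) a).symm
  let Φ : N →* Subgroup.centralizer (G : Set (Equiv.Perm α)) :=
    { toFun := fun n => ⟨φ n, hmem n⟩
      map_one' := Subtype.ext (Equiv.ext fun x => by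
        show f (1 : N)⁻¹ x = x
        rw [inv_one, hf1])
      map_mul' := fun m n => Subtype.ext (Equiv.ext fun x => by
        show f (m * n)⁻¹ x = f m⁻¹ (f n⁻¹ x)
        rw [hfmul, mul_inv_rev]) }
  have hΦa : ∀ n : N, ((Φ n : Equiv.Perm α)) a = ((n : G))⁻¹ • a := by
    intro n
    show f n⁻¹ a = _
    have := hf n⁻¹ 1
    rw [one_smul, one_mul] at this
    rw [this, Subgroup.coe_inv]
  have hker : Φ.ker = S.subgroupOf N := by
    ext n
    rw [MonoidHom.mem_ker, Subgroup.mem_subgroupOf]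
    constructor
    · intro h
      rw [hS, MulAction.mem_stabilizer_iff]
      have := hΦa n
      rw [h] at this
      exact (inv_smul_eq_iff.mp this.symm).symm
    · intro h
      apply Subtype.ext
      apply Lib.Perm.eq_one_of_commute_transitive G
        (fun g hg => (Subgroup.mem_centralizer_iff.mp (Φ n).2 g hg).symm) (a := a)
      show (Φ n : Equiv.Perm α) a = a
      rw [hΦa, inv_smul_eq_iff]
      exact (MulAction.mem_stabilizer_iff.mp h).symm
  have hnorm : ∀ g : G, (∀ s ∈ S, s • g • a = g • a) → g ∈ N := by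
    intro g hg
    have hsub : Subgroup.map (MulAut.conj g⁻¹).toMonoidHom S ≤ S := by
      rintro _ ⟨s, hs, rfl⟩
      rw [hS, MulAction.mem_stabilizer_iff]
      show (g⁻¹ * s * g⁻¹⁻¹) • a = a
      rw [inv_inv, mul_smul, mul_smul, hg s hs, inv_smul_smul]
    have heq : Subgroup.map (MulAut.conj g⁻¹).toMonoidHom S = S :=
      Subgroup.eq_of_le_of_card_ge hsub
        (Subgroup.card_map_of_injective (MulEquiv.injective _)).ge
    refine N.inv_mem_iff.mp (Subgroup.mem_normalizer_iff.mpr fun x => ⟨fun hx => ?_, fun hx => ?_⟩)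
    · exact hsub ⟨x, hx, rfl⟩
    · obtain ⟨y, hy, hyx⟩ := heq.ge hx
      have : y = x := (MulAut.conj g⁻¹).injective hyx
      exact this ▸ hy
  have hsurj : Function.Surjective Φ := by
    intro c
    obtain ⟨g, hg⟩ := MulAction.exists_smul_eq G a ((c : Equiv.Perm α) a)
    have hgN : g ∈ N := hnorm g fun s hs => by
      rw [hg]
      show (s : Equiv.Perm α) ((c : Equiv.Perm α) a) = (c : Equiv.Perm α) a
      rw [← Equiv.Perm.mul_apply, Subgroup.mem_centralizer_iff.mp c.2 s s.2, Equiv.Perm.mul_apply]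
      exact congrArg (c : Equiv.Perm α) hs
    refine ⟨(⟨g, hgN⟩ : N)⁻¹, Subtype.ext (inv_mul_eq_one.mp ?_)⟩
    apply Lib.Perm.eq_one_of_commute_transitive G
      (fun x hx => (Subgroup.mem_centralizer_iff.mp
        (((Φ (⟨g, hgN⟩ : N)⁻¹))⁻¹ * c).2 x hx).symm) (a := a)
    show (Φ (⟨g, hgN⟩ : N)⁻¹ : Equiv.Perm α)⁻¹ ((c : Equiv.Perm α) a) = a
    rw [Equiv.Perm.inv_eq_iff_eq, hΦa, Subgroup.coe_inv, inv_inv, hg]
  refine ⟨⟨((QuotientGroup.quotientMulEquivOfEq hker.symm).trans
    (QuotientGroup.quotientKerEquivOfSurjective Φ hsurj)).symm⟩, ?_⟩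
  ext x
  constructor
  · rintro ⟨c, rfl⟩ s
    show ((s : G) : Equiv.Perm α) ((c : Equiv.Perm α) a) = (c : Equiv.Perm α) a
    rw [← Equiv.Perm.mul_apply, Subgroup.mem_centralizer_iff.mp c.2 _ (s : G).2,
      Equiv.Perm.mul_apply]
    exact congrArg (c : Equiv.Perm α) s.2
  · intro hx
    obtain ⟨g, rfl⟩ := MulAction.exists_smul_eq G a x
    have hgN : g ∈ N := hnorm g fun s hs => hx ⟨s, hs⟩
    exact ⟨Φ (⟨g, hgN⟩ : N)⁻¹, by
      show (Φ (⟨g, hgN⟩ : N)⁻¹ : Equiv.Perm α) a = _
      rw [hΦa, Subgroup.coe_inv, inv_inv]⟩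

end Cfsg.Agent.S0702
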