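import Cfsg.Statements.S0703
import Cfsg.Agent.Lib.Perm.RegularNormal

set_option autoImplicit false
open Cfsg

namespace Cfsg.Agent.S0703

/-- An abelian transitive minimal normal subgroup `M` of a permutation group on a finite set is self-centralising in the symmetric group, regular, elementary abelian, and is the unique minimal normal subgroup. -/
theorem result {α : Type*} [Finite α] (G : Subgroup (Equiv.Perm α)) (M : Subgroup G) [M.Normal] (hM : M ≠ ⊥) (hmin : ∀ L : Subgroup G, L.Normal → L ≤ M → L = ⊥ ∨ L = M) (hab : IsMulCommutative M) (htrans : MulAction.IsPretransitive M α) : Subgroup.centralizer ((M.map G.subtype : Subgroup (Equiv.Perm α)) : Set (Equiv.Perm α)) = M.map G.subtype ∧ (∀ a : α, MulAction.stabilizer M a = ⊥) ∧ (∃ p : ℕ, p.Prime ∧ ∀ m ∈ M, m ^ p = 1) ∧ ∀ L : Subgroup G, L.Normal → L ≠ ⊥ → (∀ L' : Subgroup G, L'.Normal → L' ≤ L → L' = ⊥ ∨ L' = L) → L = M := by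
  classical
  haveI := hab
  haveI := htrans
  have hreg : ∀ a : α, MulAction.stabilizer M a = ⊥ := fun a =>
    Lib.Perm.stabilizer_eq_bot_of_comm_transitive M a
  have hcent : Subgroup.centralizer ((M.map G.subtype : Subgroup (Equiv.Perm α)) :
      Set (Equiv.Perm α)) = M.map G.subtype := by
    apply le_antisymm
    · intro c hc
      rcases isEmpty_or_nonempty α with he | ⟨⟨a⟩⟩
      · have : c = 1 := Equiv.ext fun x => isEmptyElim x
        rw [this]; exact one_mem _
      obtain ⟨m, hm, hma⟩ := Lib.Perm.exists_mem_smul_eq M a (c a)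
      haveI : MulAction.IsPretransitive (M.map G.subtype : Subgroup (Equiv.Perm α)) α :=
        ⟨fun x y => by
          obtain ⟨n, hn, h⟩ := Lib.Perm.exists_mem_smul_eq M x y
          exact ⟨⟨(n : Equiv.Perm α), Subgroup.mem_map_of_mem _ hn⟩, h⟩⟩
      have hone : ((m : Equiv.Perm α))⁻¹ * c = 1 := by
        apply Lib.Perm.eq_one_of_commute_transitive (M.map G.subtype) (a := a)
        · rintro _ ⟨n, hn, rfl⟩
          have h1 : (n : Equiv.Perm α) * c = c * n :=
            Subgroup.mem_centralizer_iff.mp hc _ (Subgroup.mem_map_of_mem _ hn)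
          have h2 : (n : Equiv.Perm α) * m = m * n := congrArg
            (fun z : M => ((z : G) : Equiv.Perm α)) (mul_comm' (⟨n, hn⟩ : M) ⟨m, hm⟩)
          show (m : Equiv.Perm α)⁻¹ * c * n = n * ((m : Equiv.Perm α)⁻¹ * c)
          rw [mul_assoc, ← h1, ← mul_assoc, ← mul_assoc]
          congr 1
          rw [inv_mul_eq_iff_eq_mul, ← mul_assoc, ← h2, mul_inv_cancel_right]
        · show (m : Equiv.Perm α)⁻¹ (c a) = a
          rw [Equiv.Perm.inv_eq_iff_eq]
          exact hma.symm
      rw [inv_mul_eq_one] at hone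
      exact hone ▸ Subgroup.mem_map_of_mem _ hm
    · rintro _ ⟨n, hn, rfl⟩
      refine Subgroup.mem_centralizer_iff.mpr ?_
      rintro _ ⟨k, hk, rfl⟩
      exact congrArg (fun z : M => ((z : G) : Equiv.Perm α)) (mul_comm' (⟨k, hk⟩ : M) ⟨n, hn⟩)
  haveI : Finite G := inferInstance
  obtain ⟨x, hxM, hx1⟩ : ∃ x ∈ M, x ≠ 1 := by
    by_contra! h
    exact hM ((Subgroup.eq_bot_iff_forall M).mpr h)
  have hord : orderOf x ≠ 1 := fun e => hx1 (orderOf_eq_one_iff.mp e)
  obtain ⟨p, hp, y, hyM, hy⟩ : ∃ p : ℕ, p.Prime ∧ ∃ y ∈ M, orderOf y = p := by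
    refine ⟨(orderOf x).minFac, Nat.minFac_prime hord, x ^ (orderOf x / (orderOf x).minFac),
      M.pow_mem hxM _, ?_⟩
    exact orderOf_pow_orderOf_div (orderOf_pos x).ne' (Nat.minFac_dvd _)
  have hy1 : y ≠ 1 := fun e => hp.ne_one (by rw [← hy, e, orderOf_one])
  let Mp : Subgroup G :=
    { carrier := {g | g ∈ M ∧ g ^ p = 1}
      one_mem' := ⟨M.one_mem, one_pow p⟩
      mul_mem' := by
        rintro u v ⟨hu, hu'⟩ ⟨hv, hv'⟩
        refine ⟨M.mul_mem hu hv, ?_⟩
        have hc : Commute u v :=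
          congrArg Subtype.val (mul_comm' (⟨u, hu⟩ : M) ⟨v, hv⟩)
        rw [hc.mul_pow, hu', hv', one_mul]
      inv_mem' := by
        rintro u ⟨hu, hu'⟩
        exact ⟨M.inv_mem hu, by rw [inv_pow, hu', inv_one]⟩ }
  have hMpn : Mp.Normal := ⟨fun u hu g => ⟨Subgroup.Normal.conj_mem ‹_› u hu.1 g,
    by rw [conj_pow, hu.2, mul_one, mul_inv_cancel]⟩⟩
  have hMp : Mp = M := by
    refine (hmin Mp hMpn fun u hu => hu.1).resolve_left fun e => hy1 ?_
    have : y ∈ Mp := ⟨hyM, hy ▸ pow_orderOf_eq_one y⟩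
    rw [e] at this
    exact Subgroup.mem_bot.mp this
  refine ⟨hcent, hreg, ⟨p, hp, fun m hm => (hMp.symm ▸ hm : m ∈ Mp).2⟩,
    fun L hL hL1 hLmin => ?_⟩
  haveI := hL
  rcases hmin (L ⊓ M) inferInstance inf_le_right with h | h
  · exfalso
    apply hL1
    have hLM : L ≤ M := fun l hl => by
      have hlc : (l : Equiv.Perm α) ∈ Subgroup.centralizer
          ((M.map G.subtype : Subgroup (Equiv.Perm α)) : Set (Equiv.Perm α)) := by
        refine Subgroup.mem_centralizer_iff.mpr ?_
        rintro _ ⟨m, hm, rfl⟩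
        exact (congrArg Subtype.val
          (Subgroup.commute_of_normal_of_disjoint L M hL inferInstance
            (disjoint_iff.mpr h) l m hl hm)).symm
      rw [hcent] at hlc
      obtain ⟨m, hm, hml⟩ := hlc
      exact (Subtype.ext hml : m = l) ▸ hm
    rwa [inf_eq_left.mpr hLM] at h
  · have hle : M ≤ L := h ▸ inf_le_left
    exact ((hLmin M inferInstance hle).resolve_left hM).symm

end Cfsg.Agent.S0703
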