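import Cfsg.Statements.S0704
import Cfsg.Agent.Lib.Perm.RegularNormal

set_option autoImplicit false
open Cfsg

namespace Cfsg.Agent.S0704

/-- Two distinct transitive minimal normal subgroups `M`, `N` of a permutation group are regular, non-abelian, isomorphic, each other's centraliser in the symmetric group, and the only minimal normal subgroups. -/
theorem result {α : Type*} (G : Subgroup (Equiv.Perm α)) (M N : Subgroup G) [M.Normal] [N.Normal] (hM : M ≠ ⊥) (hN : N ≠ ⊥) (hMmin : ∀ L : Subgroup G, L.Normal → L ≤ M → L = ⊥ ∨ L = M) (hNmin : ∀ L : Subgroup G, L.Normal → L ≤ N → L = ⊥ ∨ L = N) (hMN : M ≠ N) (hMt : MulAction.IsPretransitive M α) (hNt : MulAction.IsPretransitive N α) : (∀ a : α, MulAction.stabilizer M a = ⊥) ∧ (∀ a : α, MulAction.stabilizer N a = ⊥) ∧ ¬ IsMulCommutative M ∧ Nonempty (M ≃* N) ∧ Subgroup.centralizer ((M.map G.subtype : Subgroup (Equiv.Perm α)) : Set (Equiv.Perm α)) = N.map G.subtype ∧ Subgroup.centralizer ((N.map G.subtype : Subgroup (Equiv.Perm α)) : Set (Equiv.Perm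 α)) = M.map G.subtype ∧ ∀ L : Subgroup G, L.Normal → L ≠ ⊥ → (∀ L' : Subgroup G, L'.Normal → L' ≤ L → L' = ⊥ ∨ L' = L) → L = M ∨ L = N := by
  classical
  haveI := hMt
  haveI := hNt
  have hdisj : M ⊓ N = ⊥ := by
    refine (hMmin (M ⊓ N) inferInstance inf_le_left).resolve_right fun h => ?_
    rcases hNmin M inferInstance (h ▸ inf_le_right) with h' | h'
    · exact hM h'
    · exact hMN h'
  have hcomm : ∀ m ∈ M, ∀ n ∈ N, m * n = n * m := fun m hm n hn =>
    Subgroup.commute_of_normal_of_disjoint M N inferInstance inferInstance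
      (disjoint_iff.mpr hdisj) m n hm hn
  have regM : ∀ a : α, MulAction.stabilizer M a = ⊥ := fun a =>
    Lib.Perm.stabilizer_subgroup_eq_bot_iff.mpr fun m hm hma =>
      Lib.Perm.eq_one_of_commute_transitive N (fun n hn => hcomm m hm n hn) hma
  have regN : ∀ a : α, MulAction.stabilizer N a = ⊥ := fun a =>
    Lib.Perm.stabilizer_subgroup_eq_bot_iff.mpr fun n hn hna =>
      Lib.Perm.eq_one_of_commute_transitive M (fun m hm => (hcomm m hm n hn).symm) hna
  obtain ⟨a⟩ : Nonempty α := by
    refine (isEmpty_or_nonempty α).resolve_left fun he => hM ?_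
    exact (Subgroup.eq_bot_iff_forall M).mpr fun m _ =>
      Subtype.ext (Equiv.ext fun x => isEmptyElim x)
  have hcent : ∀ A B : Subgroup G, (∀ m ∈ A, ∀ n ∈ B, m * n = n * m) →
      MulAction.IsPretransitive A α → MulAction.IsPretransitive B α →
      Subgroup.centralizer ((A.map G.subtype : Subgroup (Equiv.Perm α)) : Set (Equiv.Perm α))
        = B.map G.subtype := by
    intro A B hAB hA hB
    haveI := hA
    haveI := hB
    haveI : MulAction.IsPretransitive (A.map G.subtype : Subgroup (Equiv.Perm α)) α :=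
      ⟨fun x y => by
        obtain ⟨n, hn, h⟩ := Lib.Perm.exists_mem_smul_eq A x y
        exact ⟨⟨(n : Equiv.Perm α), Subgroup.mem_map_of_mem _ hn⟩, h⟩⟩
    apply le_antisymm
    · intro c hc
      obtain ⟨m, hm, hma⟩ := Lib.Perm.exists_mem_smul_eq B a (c a)
      have hone : ((m : Equiv.Perm α))⁻¹ * c = 1 := by
        apply Lib.Perm.eq_one_of_commute_transitive (A.map G.subtype) (a := a)
        · rintro _ ⟨n, hn, rfl⟩
          have h1 : (n : Equiv.Perm α) * c = c * n :=
            Subgroup.mem_centralizer_iff.mp hc _ (Subgroup.mem_map_of_mem _ hn)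
          have h2 : (n : Equiv.Perm α) * m = m * n := congrArg Subtype.val (hAB n hn m hm)
          show (m : Equiv.Perm α)⁻¹ * c * n = n * ((m : Equiv.Perm α)⁻¹ * c)
          rw [mul_assoc, ← h1, ← mul_assoc, ← mul_assoc]
          congr 1
          rw [inv_mul_eq_iff_eq_mul, ← mul_assoc, ← h2, mul_inv_cancel_right]
        · show (m : Equiv.Perm α)⁻¹ (c a) = a
          rw [Equiv.Perm.inv_eq_iff_eq]
          exact hma.symm
      rw [inv_mul_eq_one] at hone
      exact hone ▸ Subgroup.mem_map_of_mem _ hm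
    · rintro _ ⟨n, hn, rfl⟩
      refine Subgroup.mem_centralizer_iff.mpr ?_
      rintro _ ⟨k, hk, rfl⟩
      exact congrArg Subtype.val (hAB k hk n hn)
  have cM := hcent M N hcomm hMt hNt
  have cN := hcent N M (fun n hn m hm => (hcomm m hm n hn).symm) hNt hMt
  have hnab : ¬ IsMulCommutative M := by
    intro h
    haveI := h
    apply hM
    rw [← hdisj]
    refine (inf_eq_left.mpr fun m hm => ?_).symm
    have : (m : Equiv.Perm α) ∈ Subgroup.centralizer
        ((M.map G.subtype : Subgroup (Equiv.Perm α)) : Set (Equiv.Perm α)) := by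
      refine Subgroup.mem_centralizer_iff.mpr ?_
      rintro _ ⟨k, hk, rfl⟩
      exact congrArg (fun z : M => ((z : G) : Equiv.Perm α)) (mul_comm' (⟨k, hk⟩ : M) ⟨m, hm⟩)
    rw [cM] at this
    obtain ⟨n, hn, hnm⟩ := this
    exact (Subtype.ext hnm : n = m) ▸ hn
  have hex : ∀ m : M, ∃ n : N, n • a = m⁻¹ • a := fun m => MulAction.exists_smul_eq N a _
  choose θ hθ using hex
  have hinjN : ∀ u v : N, u • a = v • a → u = v := fun u v h => Subtype.ext
    (Lib.Perm.eq_of_smul_eq_of_regular N (regN a) u.2 v.2 h)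
  have hinjM : ∀ u v : M, u • a = v • a → u = v := fun u v h => Subtype.ext
    (Lib.Perm.eq_of_smul_eq_of_regular M (regM a) u.2 v.2 h)
  have hmul : ∀ u v : M, θ (u * v) = θ u * θ v := by
    intro u v
    apply hinjN
    rw [hθ, mul_inv_rev, mul_smul, mul_smul, ← hθ, hθ v]
    show ((v⁻¹ : M) : G) • ((θ u : G) • a) = (θ u : G) • (((v⁻¹ : M) : G) • a)
    rw [← mul_smul, hcomm _ (v⁻¹).2 _ (θ u).2, mul_smul]
  have hbij : Function.Bijective θ := by
    refine ⟨fun u v h => ?_, fun n => ?_⟩
    · have := hθ u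
      rw [h, hθ v] at this
      exact (inv_injective (hinjM _ _ this)).symm
    · obtain ⟨m, hm⟩ := MulAction.exists_smul_eq M a (n • a)
      exact ⟨m⁻¹, hinjN _ _ (by rw [hθ, inv_inv, hm])⟩
  refine ⟨regM, regN, hnab, ⟨MulEquiv.mk' (Equiv.ofBijective θ hbij) hmul⟩, cM, cN,
    fun L hL hL1 hLmin => ?_⟩
  haveI := hL
  by_contra hne
  push Not at hne
  obtain ⟨hLM, hLN⟩ := hne
  have h1 : L ⊓ M = ⊥ := by
    refine (hMmin (L ⊓ M) inferInstance inf_le_right).resolve_right fun h => hLM ?_
    exact ((hLmin M inferInstance (h ▸ inf_le_left)).resolve_left hM).symm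
  have h2 : L ≤ N := by
    intro l hl
    have : (l : Equiv.Perm α) ∈ Subgroup.centralizer
        ((M.map G.subtype : Subgroup (Equiv.Perm α)) : Set (Equiv.Perm α)) := by
      refine Subgroup.mem_centralizer_iff.mpr ?_
      rintro _ ⟨k, hk, rfl⟩
      exact (congrArg Subtype.val (Subgroup.commute_of_normal_of_disjoint L M hL inferInstance
        (disjoint_iff.mpr h1) l k hl hk).eq).symm
    rw [cM] at this
    obtain ⟨n, hn, hnl⟩ := this
    exact (Subtype.ext hnl : n = l) ▸ hn
  exact hLN ((hNmin L hL h2).resolve_left hL1)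

end Cfsg.Agent.S0704
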