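import Cfsg.Statements.S0705
import Cfsg.Agent.Lib.Perm.RegularNormal

set_option autoImplicit false
open scoped Pointwise
open Cfsg

namespace Cfsg.Agent.S0705

/-- A generously `k`-transitive permutation group (every `(k+1)`-subset has its full symmetric group induced by the setwise stabiliser) of degree greater than `k` is `k`-transitive, and for a `k`-subset the setwise and pointwise stabilisers have the same orbits outside it. -/
theorem result {α : Type*} [Fintype α] [DecidableEq α] (G : Subgroup (Equiv.Perm α)) {k : ℕ} (hk : k < Fintype.card α) (hgen : ∀ s : Finset α, s.card = k + 1 → ∀ σ : Equiv.Perm ↥s, ∃ g ∈ G, ∀ x : ↥s, g (x : α) = σ x) : MulAction.IsMultiplyPretransitive G α k ∧ ∀ s : Finset α, s.card = k → ∀ a b : α, a ∉ s → b ∉ s → (∃ g ∈ G, g • s = s ∧ g a = b) → ∃ g ∈ G, (∀ x ∈ s, g x = x) ∧ g a = b := by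
  classical
  have hswap : ∀ s : Finset α, s.card = k + 1 → ∀ u v : α, u ∈ s → v ∈ s →
      ∃ g ∈ G, ∀ x ∈ s, g x = Equiv.swap u v x := by
    intro s hs u v hu hv
    obtain ⟨g, hg, hgx⟩ := hgen s hs (Equiv.swap ⟨u, hu⟩ ⟨v, hv⟩)
    refine ⟨g, hg, fun x hx => ?_⟩
    rw [hgx ⟨x, hx⟩]
    rcases eq_or_ne x u with rfl | hxu
    · rw [Equiv.swap_apply_left, Equiv.swap_apply_left]
    rcases eq_or_ne x v with rfl | hxv
    · rw [Equiv.swap_apply_right, Equiv.swap_apply_right]
    rw [Equiv.swap_apply_of_ne_of_ne hxu hxv,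
      Equiv.swap_apply_of_ne_of_ne (fun e => hxu (congrArg Subtype.val e))
        (fun e => hxv (congrArg Subtype.val e))]
  have hstep : ∀ m : ℕ, ∀ x y : Fin k → α, Function.Injective x → Function.Injective y →
      (Finset.univ.filter fun i => x i ≠ y i).card ≤ m → ∃ g : G, ∀ i, g • x i = y i := by
    intro m
    induction m with
    | zero =>
      intro x y _ _ h
      refine ⟨1, fun i => ?_⟩
      rw [one_smul]
      by_contra hi
      have : i ∈ Finset.univ.filter fun i => x i ≠ y i := by simp [hi]
      rw [Finset.card_eq_zero.mp (Nat.le_zero.mp h)] at this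
      simp at this
    | succ m ih =>
      intro x y hx hy h
      by_cases hall : ∀ i, x i = y i
      · exact ⟨1, fun i => by rw [one_smul, hall i]⟩
      push Not at hall
      obtain ⟨i, hi⟩ := hall
      set R : Finset α := Finset.univ.image x with hR
      have hRc : R.card = k := by
        rw [hR, Finset.card_image_of_injective _ hx, Finset.card_univ, Fintype.card_fin]
      obtain ⟨z, hzR, hz⟩ : ∃ z, z ∉ R ∧ y i ∈ insert z R := by
        by_cases hyi : y i ∈ R
        · obtain ⟨z, -, hz⟩ := Finset.exists_mem_notMem_of_card_lt_card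
            (s := R) (t := Finset.univ) (by rw [hRc, Finset.card_univ]; exact hk)
          exact ⟨z, hz, Finset.mem_insert_of_mem hyi⟩
        · exact ⟨y i, hyi, Finset.mem_insert_self _ _⟩
      obtain ⟨g, hgG, hg⟩ := hswap (insert z R)
        (by rw [Finset.card_insert_of_notMem hzR, hRc]) (x i) (y i)
        (Finset.mem_insert_of_mem (by simp [hR])) hz
      have hgx : ∀ j, g (x j) = Equiv.swap (x i) (y i) (x j) := fun j =>
        hg _ (Finset.mem_insert_of_mem (by simp [hR]))
      have hcard : (Finset.univ.filter fun j => g (x j) ≠ y j).card ≤ m := by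
        have hlt : (Finset.univ.filter fun j => g (x j) ≠ y j).card <
            (Finset.univ.filter fun j => x j ≠ y j).card := by
          refine Finset.card_lt_card ⟨fun j hj => ?_, fun hsub => ?_⟩
          · simp only [Finset.mem_filter, Finset.mem_univ, true_and] at hj ⊢
            intro e
            apply hj
            rcases eq_or_ne j i with rfl | hji
            · exact absurd e hi
            rw [hgx, Equiv.swap_apply_of_ne_of_ne (fun e' => hji (hx e'))
              (fun e' => hji (hy (e.symm.trans e'))), e]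
          · have := hsub (show i ∈ Finset.univ.filter fun j => x j ≠ y j by simp [hi])
            simp [hgx] at this
        omega
      obtain ⟨g', hg'⟩ := ih (fun j => g (x j)) y (fun a b e => hx (g.injective e)) hy hcard
      exact ⟨g' * ⟨g, hgG⟩, fun j => by rw [mul_smul]; exact hg' j⟩
  refine ⟨Lib.Perm.isMultiplyPretransitive_of_tuples fun x y hx hy => hstep _ x y hx hy le_rfl,
    fun s hs a b ha hb ⟨g, hgG, hgs, hgab⟩ => ?_⟩
  have hmem : ∀ x, x ∈ s ↔ g x ∈ s := fun x => by
    conv_rhs => rw [← hgs]
    exact (Finset.smul_mem_smul_finset_iff g).symm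
  let σ₀ : Equiv.Perm ↥(insert a s) :=
    { toFun := fun x => if h : (x : α) ∈ s
        then ⟨g x, Finset.mem_insert_of_mem ((hmem _).mp h)⟩ else x
      invFun := fun x => if h : (x : α) ∈ s
        then ⟨g⁻¹ x, Finset.mem_insert_of_mem ((hmem _).mpr (by simpa using h))⟩ else x
      left_inv := fun x => by
        by_cases h : (x : α) ∈ s
        · simp [h, (hmem _).mp h]
        · simp [h]
      right_inv := fun x => by
        by_cases h : (x : α) ∈ s
        · have : g⁻¹ (x : α) ∈ s := (hmem _).mpr (by simpa using h)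
          simp [h]
          exact fun hn => absurd this hn
        · simp [h] }
  obtain ⟨u, huG, hu⟩ := hgen (insert a s) (by rw [Finset.card_insert_of_notMem ha, hs]) σ₀
  have hus : ∀ x ∈ s, u x = g x := fun x hx => by
    rw [hu ⟨x, Finset.mem_insert_of_mem hx⟩]
    simp [σ₀, hx]
  have hua : u a = a := by
    rw [hu ⟨a, Finset.mem_insert_self _ _⟩]
    simp [σ₀, ha]
  refine ⟨g * u⁻¹, G.mul_mem hgG (G.inv_mem huG), fun x hx => ?_, ?_⟩
  · have hy : g⁻¹ x ∈ s := (hmem _).mpr (by simpa using hx)
    have : u (g⁻¹ x) = x := by rw [hus _ hy]; simp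
    show g (u⁻¹ x) = x
    conv_lhs => rw [← this]
    simp
  · show g (u⁻¹ a) = b
    rw [Equiv.Perm.inv_eq_iff_eq.mpr hua.symm, hgab]

end Cfsg.Agent.S0705
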