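import Cfsg.Statements.S0706
import Mathlib

set_option autoImplicit false
open Cfsg

namespace Cfsg.Agent.S0706

theorem image_perm {α : Type*} [DecidableEq α] (G : Subgroup (Equiv.Perm α)) {k : ℕ}
    (hgen : ∀ s : Finset α, s.card = k + 1 → ∀ σ : Equiv.Perm ↥s, ∃ g ∈ G, ∀ x : ↥s, g (x : α) = σ x)
    (Γ : Finset α) (hΓ : Γ.card = k) (τ : Equiv.Perm α) (b : α) (hb : b ∉ Γ)
    (hτ : ∀ x, τ x ∈ insert b Γ ↔ x ∈ insert b Γ) : ∃ g ∈ G, ∀ x ∈ insert b Γ, g x = τ x := by
  obtain ⟨g, hg, h⟩ := hgen (insert b Γ) (by rw [Finset.card_insert_of_notMem hb, hΓ]) (τ.subtypePerm hτ)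
  exact ⟨g, hg, fun x hx => h ⟨x, hx⟩⟩

theorem homogeneous {α : Type*} [DecidableEq α] (G : Subgroup (Equiv.Perm α)) {k : ℕ}
    (hgen : ∀ s : Finset α, s.card = k + 1 → ∀ σ : Equiv.Perm ↥s, ∃ g ∈ G, ∀ x : ↥s, g (x : α) = σ x) :
    ∀ (n : ℕ) (Γ Γ' : Finset α), Γ.card = k → Γ'.card = k → (Γ' \ Γ).card = n →
      ∃ g ∈ G, ∀ x ∈ Γ, g x ∈ Γ' := by
  intro n
  induction n with
  | zero =>
    intro Γ Γ' h h' h0
    have : Γ' = Γ := Finset.eq_of_subset_of_card_le
      (Finset.sdiff_eq_empty_iff_subset.mp (Finset.card_eq_zero.mp h0)) (by omega)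
    exact ⟨1, one_mem _, fun x hx => by simpa [this] using hx⟩
  | succ n ih =>
    intro Γ Γ' h h' hn
    obtain ⟨y, hy⟩ := Finset.card_pos.mp (show 0 < (Γ' \ Γ).card by omega)
    have hne : (Γ \ Γ').Nonempty := by
      rw [← Finset.card_pos]
      have h1 := Finset.card_sdiff_add_card_inter Γ Γ'
      have h2 := Finset.card_sdiff_add_card_inter Γ' Γ
      rw [Finset.inter_comm] at h2
      omega
    obtain ⟨x, hx⟩ := hne
    rw [Finset.mem_sdiff] at hx hy
    have hxy : x ≠ y := fun e => hy.2 (e ▸ hx.1)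
    obtain ⟨g, hg, hgx⟩ := image_perm G hgen Γ h (Equiv.swap x y) y hy.2 (by
      intro z
      by_cases h1 : z = x
      · subst h1; simp [hx.1]
      by_cases h2 : z = y
      · subst h2; simp [hx.1]
      rw [Equiv.swap_apply_of_ne_of_ne h1 h2])
    obtain ⟨g', hg', hgy⟩ := ih (insert y (Γ.erase x)) Γ' (by
      rw [Finset.card_insert_of_notMem (fun e => hy.2 (Finset.mem_of_mem_erase e)),
        Finset.card_erase_of_mem hx.1, ← h]
      have := Finset.card_pos.mpr ⟨x, hx.1⟩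
      omega) h' (by
      have : Γ' \ insert y (Γ.erase x) = (Γ' \ Γ).erase y := by
        ext z
        simp only [Finset.mem_sdiff, Finset.mem_insert, Finset.mem_erase]
        constructor
        · rintro ⟨hz, hn'⟩
          exact ⟨fun e => hn' (Or.inl e), hz, fun e => hn' (Or.inr ⟨fun e' => hx.2 (e' ▸ hz), e⟩)⟩
        · rintro ⟨hzy, hz, hzΓ⟩
          exact ⟨hz, fun e => e.elim hzy fun e => hzΓ e.2⟩
      rw [this, Finset.card_erase_of_mem (Finset.mem_sdiff.mpr hy), hn]
      omega)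
    refine ⟨g' * g, mul_mem hg' hg, fun z hz => hgy _ ?_⟩
    rw [hgx z (Finset.mem_insert_of_mem hz)]
    by_cases h1 : z = x
    · subst h1; simp
    · rw [Equiv.swap_apply_of_ne_of_ne h1 (fun e : z = y => hy.2 (e ▸ hz))]
      exact Finset.mem_insert_of_mem (Finset.mem_erase.mpr ⟨h1, hz⟩)

/-- In a generously `k`-transitive permutation group, for a prime `p ≤ k` and a `k`-set `Γ`, there are no `p` points outside `Γ` lying in distinct orbits of the pointwise stabiliser of `Γ` all of length prime to `p` (at most `p - 1` such orbits). -/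
theorem result {α : Type*} [Fintype α] [DecidableEq α] (G : Subgroup (Equiv.Perm α)) {k : ℕ} (hk : k < Fintype.card α) (hgen : ∀ s : Finset α, s.card = k + 1 → ∀ σ : Equiv.Perm ↥s, ∃ g ∈ G, ∀ x : ↥s, g (x : α) = σ x) {p : ℕ} (hp : p.Prime) (hpk : p ≤ k) (Γ : Finset α) (hΓ : Γ.card = k) (f : Fin p → α) (hf : ∀ i, f i ∉ Γ) (hdist : ∀ i j, i ≠ j → f j ∉ MulAction.orbit (fixingSubgroup G (Γ : Set α)) (f i)) : ∃ i, p ∣ Nat.card (MulAction.orbit (fixingSubgroup G (Γ : Set α)) (f i)) := by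
  classical
  by_contra hcon
  push Not at hcon
  haveI := Fact.mk hp
  obtain ⟨C, hCΓ, hC⟩ := Finset.exists_subset_card_eq (show p ≤ Γ.card by omega)
  set l := C.toList with hl
  have hnd : l.Nodup := C.nodup_toList
  have hlen : l.length = p := by rw [hl, Finset.length_toList, hC]
  set τ := l.formPerm with hτdef
  have hτne : ∀ z, l ≠ [z] := fun z e => by
    have := hp.two_le
    rw [e, List.length_singleton] at hlen
    omega
  have hτsupp : τ.support = C := by
    rw [hτdef, List.support_formPerm_of_nodup l hnd hτne, hl, Finset.toList_toFinset]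
  have hτp : τ ^ p = 1 := by
    rw [← hlen, hτdef]; exact List.formPerm_pow_length_eq_one_of_nodup l hnd
  have hτfix : ∀ x, x ∉ C → τ x = x := fun x hx => by
    rwa [← hτsupp, Equiv.Perm.notMem_support] at hx
  have hτpow : ∀ (j : ℕ) x, x ∉ C → (τ ^ j) x = x := fun j x hx =>
    Equiv.Perm.pow_apply_eq_self_of_apply_eq_self (hτfix x hx) j
  have hτmem : ∀ (j : ℕ) x, (τ ^ j) x ∈ Γ ↔ x ∈ Γ := fun j x => by
    by_cases hx : x ∈ C
    · have : (τ ^ j) x ∈ C := by
        rw [← hτsupp, Equiv.Perm.pow_apply_mem_support, hτsupp]; exact hx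
      exact iff_of_true (hCΓ this) (hCΓ hx)
    · rw [hτpow j x hx]
  -- the elements acting on `Γ` as powers of `τ`
  let M : Subgroup G :=
    { carrier := {h | ∃ j : ℕ, ∀ x ∈ Γ, (h : Equiv.Perm α) x = (τ ^ j) x}
      one_mem' := ⟨0, fun x _ => by simp⟩
      mul_mem' := by
        rintro a b ⟨i, hi⟩ ⟨j, hj⟩
        refine ⟨i + j, fun x hx => ?_⟩
        rw [Subgroup.coe_mul, Equiv.Perm.mul_apply, hj x hx, hi _ ((hτmem j x).mpr hx), pow_add,
          Equiv.Perm.mul_apply]
      inv_mem' := by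
        rintro a ⟨i, hi⟩
        refine ⟨i * (p - 1), fun x hx => ?_⟩
        rw [Subgroup.coe_inv, Equiv.Perm.inv_eq_iff_eq, hi _ ((hτmem _ x).mpr hx),
          ← Equiv.Perm.mul_apply, ← pow_add]
        rw [show i + i * (p - 1) = p * i by
          obtain ⟨q, rfl⟩ := Nat.exists_eq_succ_of_ne_zero hp.ne_zero
          simp; ring, pow_mul, hτp, one_pow, Equiv.Perm.one_apply] }
  set H := fixingSubgroup G (Γ : Set α) with hH
  have hHM : H ≤ M := fun h hh => ⟨0, fun x hx => by
    rw [pow_zero, Equiv.Perm.one_apply]; exact (mem_fixingSubgroup_iff G).mp hh x hx⟩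
  have hlift : ∀ b, b ∉ Γ → ∃ g : G, (g : Equiv.Perm α) b = b ∧ ∀ x ∈ Γ, (g : Equiv.Perm α) x = τ x := by
    intro b hb
    obtain ⟨g, hg, hgx⟩ := image_perm G hgen Γ hΓ τ b hb (fun x => by
      simp only [Finset.mem_insert]
      constructor <;> rintro (e | e)
      · exact Or.inl (by
          have hbC : b ∉ C := fun h => hb (hCΓ h)
          rw [← hτfix b hbC] at e; exact τ.injective e)
      · exact Or.inr (by simpa using (hτmem 1 x).mp (by simpa using e))
      · exact Or.inl (by rw [e]; exact hτfix b fun h => hb (hCΓ h))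
      · exact Or.inr (by simpa using (hτmem 1 x).mpr e))
    exact ⟨⟨g, hg⟩, (hgx b (Finset.mem_insert_self _ _)).trans (hτfix b fun h => hb (hCΓ h)),
      fun x hx => hgx x (Finset.mem_insert_of_mem hx)⟩
  choose g hgb hgΓ using hlift
  have hgpow : ∀ b (hb : b ∉ Γ) (j : ℕ), (∀ x ∈ Γ, ((g b hb ^ j : G) : Equiv.Perm α) x = (τ ^ j) x) := by
    intro b hb j
    induction j with
    | zero => intro x _; simp
    | succ j ih =>
      intro x hx
      rw [pow_succ, pow_succ, Subgroup.coe_mul, Equiv.Perm.mul_apply, hgΓ b hb x hx,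
        ih _ (by simpa using (hτmem 1 x).mpr hx), Equiv.Perm.mul_apply]
  -- `M` and `H` have the same orbits outside `Γ`
  have horb : ∀ b, b ∉ Γ → MulAction.orbit M b = MulAction.orbit H b := by
    intro b hb
    ext y
    constructor
    · rintro ⟨⟨h, j, hj⟩, rfl⟩
      have hmem : h * (g b hb ^ j)⁻¹ ∈ H := by
        refine (mem_fixingSubgroup_iff G).mpr fun x hx => ?_
        show ((h * (g b hb ^ j)⁻¹ : G) : Equiv.Perm α) x = x
        have hy : ((g b hb ^ j : G) : Equiv.Perm α)⁻¹ x ∈ Γ := by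
          have hh : ((g b hb ^ j : G) : Equiv.Perm α)⁻¹ x = ((τ ^ j)⁻¹) x := by
            rw [Equiv.Perm.inv_eq_iff_eq,
              hgpow b hb j _ ((hτmem j _).mp (by rw [Equiv.Perm.coe_inv, Equiv.apply_symm_apply]; exact hx)),
              Equiv.Perm.coe_inv, Equiv.apply_symm_apply]
          rw [hh, ← hτmem j, Equiv.Perm.coe_inv, Equiv.apply_symm_apply]; exact hx
        rw [Subgroup.coe_mul, Subgroup.coe_inv, Equiv.Perm.mul_apply, hj _ hy, ← hgpow b hb j _ hy,
          Equiv.Perm.coe_inv, Equiv.apply_symm_apply]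
      refine ⟨⟨_, hmem⟩, ?_⟩
      show ((h * (g b hb ^ j)⁻¹ : G) : Equiv.Perm α) b = (h : Equiv.Perm α) b
      rw [Subgroup.coe_mul, Subgroup.coe_inv, Subgroup.coe_pow, Equiv.Perm.mul_apply]
      congr 1
      rw [Equiv.Perm.inv_eq_iff_eq]
      exact (Equiv.Perm.pow_apply_eq_self_of_apply_eq_self (hgb b hb) j).symm
    · rintro ⟨⟨h, hh⟩, rfl⟩
      exact ⟨⟨h, hHM hh⟩, rfl⟩
  -- `p` times the order of `H` divides the order of `M`
  have hnorm : (H.subgroupOf M).Normal := by
    constructor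
    rintro ⟨a, _⟩ ha ⟨m, j, hj⟩
    simp only [Subgroup.mem_subgroupOf, Subgroup.coe_mul, Subgroup.coe_inv] at ha ⊢
    refine (mem_fixingSubgroup_iff G).mpr fun x hx => ?_
    show ((m * a * m⁻¹ : G) : Equiv.Perm α) x = x
    have hy : (m : Equiv.Perm α)⁻¹ x ∈ Γ := by
      have hh : (m : Equiv.Perm α)⁻¹ x = ((τ ^ j)⁻¹) x := by
        rw [Equiv.Perm.inv_eq_iff_eq,
          hj _ ((hτmem j _).mp (by rw [Equiv.Perm.coe_inv, Equiv.apply_symm_apply]; exact hx)),
          Equiv.Perm.coe_inv, Equiv.apply_symm_apply]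
      rw [hh, ← hτmem j, Equiv.Perm.coe_inv, Equiv.apply_symm_apply]; exact hx
    have : (a : Equiv.Perm α) ((m : Equiv.Perm α)⁻¹ x) = (m : Equiv.Perm α)⁻¹ x :=
      (mem_fixingSubgroup_iff G).mp ha _ hy
    rw [Subgroup.coe_mul, Subgroup.coe_mul, Subgroup.coe_inv, Equiv.Perm.mul_apply, Equiv.Perm.mul_apply,
      this, Equiv.Perm.coe_inv, Equiv.apply_symm_apply]
  have hb0 : f ⟨0, hp.pos⟩ ∉ Γ := hf _
  have hpM : p * Nat.card H ∣ Nat.card M := by
    let g0 : M := ⟨g _ hb0, 1, fun x hx => by rw [pow_one]; exact hgΓ _ hb0 x hx⟩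
    haveI := hnorm
    have hord : orderOf (QuotientGroup.mk g0 : M ⧸ H.subgroupOf M) = p := by
      refine orderOf_eq_prime ?_ ?_
      · rw [← QuotientGroup.mk_pow, QuotientGroup.eq_one_iff, Subgroup.mem_subgroupOf]
        refine (mem_fixingSubgroup_iff G).mpr fun x hx => ?_
        show ((g _ hb0 ^ p : G) : Equiv.Perm α) x = x
        rw [hgpow _ hb0 p x hx, hτp, Equiv.Perm.one_apply]
      · rw [Ne, QuotientGroup.eq_one_iff, Subgroup.mem_subgroupOf]
        intro h1
        obtain ⟨c, hc⟩ := Finset.card_pos.mp (show 0 < C.card by rw [hC]; exact hp.pos)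
        have hmove : τ c ≠ c := by rw [← Equiv.Perm.mem_support, hτsupp]; exact hc
        apply hmove
        rw [← hgΓ _ hb0 c (hCΓ hc)]
        exact (mem_fixingSubgroup_iff G).mp h1 c (hCΓ hc)
    have hdvd : p ∣ (H.subgroupOf M).index := by
      rw [Subgroup.index_eq_card, ← hord]; exact orderOf_dvd_natCard _
    have h2 := Subgroup.card_mul_index (H.subgroupOf M)
    rw [Nat.card_congr (Subgroup.subgroupOfEquivOfLe hHM).toEquiv] at h2
    rw [← h2, mul_comm p]
    exact Nat.mul_dvd_mul_left _ hdvd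
  -- a Sylow subgroup of `M` fixes a point in each of the orbits
  obtain ⟨Q⟩ : Nonempty (Sylow p M) := inferInstance
  have hfixpt : ∀ i, ∃ y ∈ MulAction.orbit H (f i), ∀ q ∈ Q, q • y = y := by
    intro i
    have hnd' : ¬ p ∣ Nat.card (MulAction.orbit M (f i)) := by rw [horb _ (hf i)]; exact hcon i
    obtain ⟨⟨y, hy⟩, hyfix⟩ := Q.2.nonempty_fixed_point_of_prime_not_dvd_card
      (MulAction.orbit M (f i)) hnd'
    refine ⟨y, horb _ (hf i) ▸ hy, fun q hq => ?_⟩
    exact congrArg Subtype.val (hyfix ⟨q, hq⟩)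
  choose y hy hyfix using hfixpt
  have hyΓ : ∀ i, y i ∉ Γ := by
    intro i hi
    obtain ⟨⟨h, hh⟩, he⟩ := hy i
    have h1 : (h : Equiv.Perm α) (y i) = y i := (mem_fixingSubgroup_iff G).mp hh _ hi
    have h2 : (h : Equiv.Perm α) (f i) = y i := he
    exact hf i ((h : Equiv.Perm α).injective (h2.trans h1.symm) ▸ hi)
  have hyinj : Function.Injective y := by
    intro i j hij
    by_contra hne
    exact hdist i j hne (by
      rw [← MulAction.orbit_eq_iff.mpr (hy i), hij, MulAction.orbit_eq_iff.mpr (hy j)]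
      exact MulAction.mem_orbit_self _)
  set Γ' := (Γ \ C) ∪ Finset.univ.image y with hΓ'
  have hΓ'card : Γ'.card = k := by
    rw [hΓ', Finset.card_union_of_disjoint, Finset.card_sdiff_of_subset hCΓ,
      Finset.card_image_of_injective _ hyinj, Finset.card_univ, Fintype.card_fin, hC]
    · omega
    · rw [Finset.disjoint_left]
      intro x hx hx'
      obtain ⟨i, -, rfl⟩ := Finset.mem_image.mp hx'
      exact hyΓ i (Finset.mem_sdiff.mp hx).1
  obtain ⟨c, hcG, hcΓ⟩ := homogeneous G hgen _ Γ Γ' hΓ hΓ'card rfl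
  let c' : G := ⟨c, hcG⟩
  have hsub : ((Q : Subgroup M).map M.subtype).map (MulAut.conj c'⁻¹).toMonoidHom ≤ H := by
    rintro _ ⟨_, ⟨q, hq, rfl⟩, rfl⟩
    refine (mem_fixingSubgroup_iff G).mpr fun x hx => ?_
    have hx' := hcΓ x hx
    have hfix : ((q : G) : Equiv.Perm α) (c x) = c x := by
      rcases Finset.mem_union.mp hx' with h | h
      · obtain ⟨j, hj⟩ := q.2
        obtain ⟨h1, h2⟩ := Finset.mem_sdiff.mp h
        rw [hj _ h1, hτpow j _ h2]
      · obtain ⟨i, -, e⟩ := Finset.mem_image.mp h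
        rw [← e]; exact hyfix i q hq
    show ((c'⁻¹ * (q : G) * c'⁻¹⁻¹ : G) : Equiv.Perm α) x = x
    rw [inv_inv, Subgroup.coe_mul, Subgroup.coe_mul, Subgroup.coe_inv, Equiv.Perm.mul_apply,
      Equiv.Perm.mul_apply]
    show c⁻¹ (((q : G) : Equiv.Perm α) (c x)) = x
    rw [hfix, Equiv.Perm.coe_inv, Equiv.symm_apply_apply]
  have hQdvd : Nat.card Q ∣ Nat.card H := by
    have := Subgroup.card_dvd_of_le hsub
    rwa [Subgroup.card_map_of_injective (MulEquiv.injective _),
      Subgroup.card_map_of_injective Subtype.val_injective] at this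
  have hQ : p ^ ((Nat.card H).factorization p + 1) ∣ Nat.card Q :=
    Q.pow_dvd_card_of_pow_dvd_card (by
      refine dvd_trans ?_ hpM
      rw [pow_succ']
      exact Nat.mul_dvd_mul_left _ (Nat.ordProj_dvd _ _))
  exact Nat.pow_succ_factorization_not_dvd Nat.card_pos.ne' hp (hQ.trans hQdvd)

end Cfsg.Agent.S0706
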