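import Cfsg.Statements.S0707
import Mathlib

set_option autoImplicit false
open Cfsg

namespace Cfsg.Agent.S0707

/-- In a primitive permutation group, distinct points have distinct stabilisers unless the group is regular of prime degree. -/
theorem result {α : Type*} (G : Subgroup (Equiv.Perm α)) [MulAction.IsPreprimitive G α] (h : ¬ (Nat.card α).Prime ∨ ∃ a : α, MulAction.stabilizer G a ≠ ⊥) {a b : α} (hab : a ≠ b) : MulAction.stabilizer G a ≠ MulAction.stabilizer G b := by
  classical
  intro heq
  let B : Set α := {x | MulAction.stabilizer G x = MulAction.stabilizer G a}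
  have hB : MulAction.IsBlock G B := by
    rw [MulAction.isBlock_iff_smul_eq_or_disjoint]
    intro g
    by_contra! hne
    obtain ⟨h1, h2⟩ := hne
    rw [Set.not_disjoint_iff] at h2
    obtain ⟨_, ⟨x, hx, rfl⟩, hgx⟩ := h2
    refine h1 (Set.ext fun y => ⟨?_, fun hy => ⟨g⁻¹ • y, ?_, smul_inv_smul g y⟩⟩)
    · rintro ⟨z, hz, rfl⟩
      show MulAction.stabilizer G (g • z) = _
      have hgx' : MulAction.stabilizer G (g • x) = MulAction.stabilizer G a := hgx
      have hz' : MulAction.stabilizer G z = MulAction.stabilizer G a := hz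
      have hx' : MulAction.stabilizer G x = MulAction.stabilizer G a := hx
      rw [MulAction.stabilizer_smul_eq_stabilizer_map_conj, hz', ← hx',
        ← MulAction.stabilizer_smul_eq_stabilizer_map_conj, hgx']
      exact hx'.symm
    · show MulAction.stabilizer G (g⁻¹ • y) = _
      have hy' : MulAction.stabilizer G y = MulAction.stabilizer G a := hy
      have hgx' : MulAction.stabilizer G (g • x) = MulAction.stabilizer G a := hgx
      rw [MulAction.stabilizer_smul_eq_stabilizer_map_conj, hy', ← hgx',
        ← MulAction.stabilizer_smul_eq_stabilizer_map_conj, inv_smul_smul]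
      exact (show MulAction.stabilizer G x = MulAction.stabilizer G a from hx).trans hgx'.symm
  rcases MulAction.IsPreprimitive.isTrivialBlock_of_isBlock hB with hs | hu
  · exact hab (hs (show a ∈ B from rfl) (show b ∈ B from heq.symm))
  have hall : ∀ x, MulAction.stabilizer G x = MulAction.stabilizer G a := fun x =>
    (Set.eq_univ_iff_forall.mp hu x :)
  have hbot : MulAction.stabilizer G a = ⊥ := (Subgroup.eq_bot_iff_forall _).mpr fun g hg =>
    Subtype.ext (Equiv.ext fun x => by
      have hgx : g ∈ MulAction.stabilizer G x := (hall x).symm ▸ hg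
      exact hgx)
  have hbot' : ∀ x : α, MulAction.stabilizer G x = ⊥ := fun x => (hall x).trans hbot
  rcases h with hp | ⟨x, hx⟩
  · haveI : Nontrivial α := ⟨⟨a, b, hab⟩⟩
    have hcoatom := MulAction.IsPreprimitive.isCoatom_stabilizer_of_isPreprimitive (G := G) a
    rw [hbot] at hcoatom
    have hcard : Nat.card G = Nat.card α := by
      rw [← MulAction.index_stabilizer_of_transitive G a, hbot, Subgroup.index_bot]
    obtain ⟨g, hg⟩ := MulAction.exists_smul_eq G a b
    have hg1 : g ≠ 1 := by rintro rfl; exact hab (by simpa using hg)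
    have hzp : Subgroup.zpowers g = ⊤ :=
      hcoatom.2 _ (bot_lt_iff_ne_bot.mpr (Subgroup.zpowers_ne_bot.mpr hg1))
    haveI : IsCyclic G := isCyclic_iff_exists_zpowers_eq_top.mpr ⟨g, hzp⟩
    haveI : IsSimpleGroup G := by
      haveI : Nontrivial G := ⟨⟨g, 1, hg1⟩⟩
      refine ⟨fun H _ => ?_⟩
      rcases eq_or_ne H ⊥ with hH | hH
      · exact Or.inl hH
      · exact Or.inr (hcoatom.2 H (bot_lt_iff_ne_bot.mpr hH))
    letI : CommGroup G := IsCyclic.commGroup
    exact hp (hcard ▸ IsSimpleGroup.prime_card)
  · exact hx (hbot' x)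

end Cfsg.Agent.S0707
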