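import Cfsg.Statements.S0708
import Mathlib

set_option autoImplicit false
open Cfsg

namespace Cfsg.Agent.S0708

theorem inj_four {α : Type*} {a b c d : α} (h1 : a ≠ b) (h2 : a ≠ c) (h3 : a ≠ d) (h4 : b ≠ c)
    (h5 : b ≠ d) (h6 : c ≠ d) : Function.Injective ![a, b, c, d] := by
  intro i j hij
  fin_cases i <;> fin_cases j <;> simp_all [eq_comm]

theorem tits_four {G : Type*} [Group G] {Ω : Type*} [MulAction G Ω]
    (h4 : MulAction.IsMultiplyPretransitive G Ω 4)
    (hsharp : ∀ x : Fin 4 ↪ Ω, MulAction.stabilizer G x = ⊥) (x : Fin 4 ↪ Ω) :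
    Finite Ω ∧ Nat.card Ω ≤ 11 ∧ (Even (Nat.card Ω) → Nat.card Ω ≤ 6) := by
  classical
  -- two elements agreeing on four points are equal
  have huniq : ∀ (g h : G) (a b c d : Ω), a ≠ b → a ≠ c → a ≠ d → b ≠ c → b ≠ d → c ≠ d →
      g • a = h • a → g • b = h • b → g • c = h • c → g • d = h • d → g = h := by
    intro g h a b c d h1 h2 h3 h4' h5 h6 ea eb ec ed
    have hinj : Function.Injective ![a, b, c, d] := inj_four h1 h2 h3 h4' h5 h6
    have hm : h⁻¹ * g ∈ MulAction.stabilizer G (⟨![a, b, c, d], hinj⟩ : Fin 4 ↪ Ω) := by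
      refine MulAction.mem_stabilizer_iff.mpr (DFunLike.ext _ _ fun i => ?_)
      show (h⁻¹ * g) • (![a, b, c, d] i) = ![a, b, c, d] i
      rw [mul_smul, inv_smul_eq_iff]
      fin_cases i <;> assumption
    rw [hsharp, Subgroup.mem_bot, inv_mul_eq_one] at hm
    exact hm.symm
  have hfix3 : ∀ g : G, g ≠ 1 → ∀ S : Finset Ω, (∀ z ∈ S, g • z = z) → S.card ≤ 3 := by
    intro g hg S hS
    by_contra! hlt
    obtain ⟨T, hTS, hT⟩ := Finset.exists_subset_card_eq (show 4 ≤ S.card by omega)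
    let e : Fin 4 ↪ Ω := (T.equivFinOfCardEq hT).symm.toEmbedding.trans (Function.Embedding.subtype _)
    have hm : g ∈ MulAction.stabilizer G e := MulAction.mem_stabilizer_iff.mpr
      (DFunLike.ext _ _ fun i => hS _ (hTS ((T.equivFinOfCardEq hT).symm i).2))
    rw [hsharp, Subgroup.mem_bot] at hm
    exact hg hm
  set p₁ := x 0; set p₂ := x 1; set p₃ := x 2; set p₄ := x 3
  have d12 : p₁ ≠ p₂ := x.injective.ne (by decide)
  have d13 : p₁ ≠ p₃ := x.injective.ne (by decide)
  have d14 : p₁ ≠ p₄ := x.injective.ne (by decide)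
  have d23 : p₂ ≠ p₃ := x.injective.ne (by decide)
  have d24 : p₂ ≠ p₄ := x.injective.ne (by decide)
  have d34 : p₃ ≠ p₄ := x.injective.ne (by decide)
  have hget : ∀ a b c d : Ω, a ≠ b → a ≠ c → a ≠ d → b ≠ c → b ≠ d → c ≠ d →
      ∃ g : G, g • a = b ∧ g • b = a ∧ g • c = c ∧ g • d = d := by
    intro a b c d h1 h2 h3 h4' h5 h6
    have hinj : Function.Injective ![a, b, c, d] := inj_four h1 h2 h3 h4' h5 h6
    have hinj' : Function.Injective ![b, a, c, d] := inj_four h1.symm h4' h5 h2 h3 h6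
    obtain ⟨g, hg⟩ := h4.exists_smul_eq ⟨_, hinj⟩ ⟨_, hinj'⟩
    exact ⟨g, DFunLike.congr_fun hg 0, DFunLike.congr_fun hg 1, DFunLike.congr_fun hg 2,
      DFunLike.congr_fun hg 3⟩
  obtain ⟨u, hu1, hu2, hu3, hu4⟩ := hget p₁ p₂ p₃ p₄ d12 d13 d14 d23 d24 d34
  have hune : u ≠ 1 := fun e => d12 (by rw [← hu1, e, one_smul])
  have huu : ∀ z : Ω, u • u • z = z := fun z => by
    have : u * u = 1 := huniq _ _ p₁ p₂ p₃ p₄ d12 d13 d14 d23 d24 d34 (by rw [mul_smul, hu1, hu2, one_smul])
      (by rw [mul_smul, hu2, hu1, one_smul]) (by rw [mul_smul, hu3, hu3, one_smul])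
      (by rw [mul_smul, hu4, hu4, one_smul])
    rw [← mul_smul, this, one_smul]
  -- a bound for finite sets of moved points
  have hM : ∀ z : Ω, u • z ≠ z → z ≠ p₁ → z ≠ p₂ → ∃ a : G, a • p₁ = p₂ ∧ a • p₂ = p₁ ∧ a • z = z ∧
      a ≠ u ∧ a ≠ 1 ∧ (∀ y : Ω, a • a • y = y) ∧ (∀ y : Ω, u • y = y → u • a • y = a • y) := by
    intro z hz hz1 hz2
    have hj1 : u • z ≠ p₁ := fun e => hz2 (by rw [← huu z, e, hu1])
    have hj2 : u • z ≠ p₂ := fun e => hz1 (by rw [← huu z, e, hu2])
    obtain ⟨a, ha1, ha2, haz, haj⟩ := hget p₁ p₂ z (u • z) d12 hz1.symm hj1.symm hz2.symm hj2.symm hz.symm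
    have haa : a * a = 1 := huniq _ _ p₁ p₂ z (u • z) d12 hz1.symm hj1.symm hz2.symm hj2.symm hz.symm
      (by rw [mul_smul, ha1, ha2, one_smul]) (by rw [mul_smul, ha2, ha1, one_smul])
      (by rw [mul_smul, haz, haz, one_smul]) (by rw [mul_smul, haj, haj, one_smul])
    refine ⟨a, ha1, ha2, haz, ?_, fun e => d12 (by rw [← ha1, e, one_smul]), fun y => by rw [← mul_smul, haa, one_smul], fun y hy => ?_⟩
    · intro e; exact hz (by rw [← e]; exact haz)
    · have hcomm : u * a = a * u := huniq _ _ p₁ p₂ z (u • z) d12 hz1.symm hj1.symm hz2.symm hj2.symm hz.symm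
        (by rw [mul_smul, mul_smul, ha1, hu2, hu1, ha2]) (by rw [mul_smul, mul_smul, ha2, hu1, hu2, ha1])
        (by rw [mul_smul, mul_smul, haz, haj]) (by rw [mul_smul, mul_smul, haj, huu, haz])
      rw [← mul_smul, hcomm, mul_smul, hy]
  choose! A hA1 hA2 hAz hAu hAne hAA hAF using hM
  -- the fixed points of `u`
  have hFfin : {y : Ω | u • y = y}.Finite := by
    by_contra hinf
    obtain ⟨S, hS, hScard⟩ := (Set.not_finite.mp hinf).exists_subset_card_eq 4
    have := hfix3 u hune S (fun z hz => hS hz)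
    omega
  set F := hFfin.toFinset with hF
  have hmF : ∀ y, y ∈ F ↔ u • y = y := fun y => by simp [hF]
  have hF3 : F.card ≤ 3 := hfix3 u hune F fun z hz => (hmF z).mp hz
  have h34 : ({p₃, p₄} : Finset Ω) ⊆ F := by
    intro y hy; simp only [Finset.mem_insert, Finset.mem_singleton] at hy
    rcases hy with rfl | rfl <;> simp [hmF, hu3, hu4]
  have hF2 : 2 ≤ F.card := by rw [← Finset.card_pair d34]; exact Finset.card_le_card h34
  have hp1F : p₁ ∉ F := fun h => d12 (by rw [← (hmF _).mp h, hu1])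
  have hp2F : p₂ ∉ F := fun h => d12 (by rw [← (hmF _).mp h, hu2])
  -- bound on a finite set of other moved points
  have hbound : ∀ S : Finset Ω, (∀ z ∈ S, u • z ≠ z ∧ z ≠ p₁ ∧ z ≠ p₂) →
      S.card ≤ 6 ∧ (F.card = 2 → S.card ≤ 3) := by
    intro S hS
    have hS' : ∀ z ∈ S, z ∉ F := fun z hz h => (hS z hz).1 ((hmF z).mp h)
    rcases (show F.card = 2 ∨ F.card = 3 by omega) with h2 | h3
    · -- every `A z` is the same element
      have hF34 : F = {p₃, p₄} := (Finset.eq_of_subset_of_card_le h34 (by rw [h2, Finset.card_pair d34])).symm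
      suffices h : S.card ≤ 3 from ⟨by omega, fun _ => h⟩
      rcases S.eq_empty_or_nonempty with rfl | ⟨z₀, hz₀⟩
      · simp
      have hval : ∀ z ∈ S, A z • p₃ = p₄ ∧ A z • p₄ = p₃ := by
        intro z hz
        obtain ⟨k1, k2, k3⟩ := hS z hz
        have m3 : A z • p₃ ∈ F := (hmF _).mpr (hAF z k1 k2 k3 p₃ hu3)
        have m4 : A z • p₄ ∈ F := (hmF _).mpr (hAF z k1 k2 k3 p₄ hu4)
        simp only [hF34, Finset.mem_insert, Finset.mem_singleton] at m3 m4
        rcases m3 with m3 | m3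
        · exfalso
          have m4' : A z • p₄ = p₄ := m4.resolve_left fun e => d34 (smul_left_cancel _ (m3.trans e.symm))
          exact hAu z k1 k2 k3 (huniq _ _ p₁ p₂ p₃ p₄ d12 d13 d14 d23 d24 d34
            ((hA1 z k1 k2 k3).trans hu1.symm) ((hA2 z k1 k2 k3).trans hu2.symm)
            (m3.trans hu3.symm) (m4'.trans hu4.symm))
        · exact ⟨m3, by rw [← m3]; exact hAA z k1 k2 k3 p₃⟩
      obtain ⟨l1, l2, l3⟩ := hS z₀ hz₀
      refine hfix3 (A z₀) (hAne z₀ l1 l2 l3) S fun z hz => ?_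
      obtain ⟨k1, k2, k3⟩ := hS z hz
      have : A z₀ = A z := huniq _ _ p₁ p₂ p₃ p₄ d12 d13 d14 d23 d24 d34
        ((hA1 z₀ l1 l2 l3).trans (hA1 z k1 k2 k3).symm) ((hA2 z₀ l1 l2 l3).trans (hA2 z k1 k2 k3).symm)
        ((hval z₀ hz₀).1.trans (hval z hz).1.symm) ((hval z₀ hz₀).2.trans (hval z hz).2.symm)
      rw [this]
      exact hAz z k1 k2 k3
    · refine ⟨?_, fun h => by omega⟩
      -- each `A z` fixes exactly one point of `F`
      have hone : ∀ z ∈ S, ∃ y ∈ F, A z • y = y ∧ ∀ y' ∈ F, y' ≠ y → A z • y' ≠ y' := by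
        intro z hz
        obtain ⟨k1, k2, k3⟩ := hS z hz
        by_cases hex : ∃ y ∈ F, A z • y = y
        · obtain ⟨y, hy, hyfix⟩ := hex
          refine ⟨y, hy, hyfix, fun y' hy' hne e => ?_⟩
          exact hAu z k1 k2 k3 (huniq _ _ p₁ p₂ y y' d12 (fun e' => hp1F (e' ▸ hy)) (fun e' => hp1F (e' ▸ hy'))
            (fun e' => hp2F (e' ▸ hy)) (fun e' => hp2F (e' ▸ hy')) hne.symm
            ((hA1 z k1 k2 k3).trans hu1.symm) ((hA2 z k1 k2 k3).trans hu2.symm)
            (hyfix.trans ((hmF y).mp hy).symm) (e.trans ((hmF y').mp hy').symm))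
        · exfalso
          push Not at hex
          have hm : ∀ y ∈ F, A z • y ∈ F := fun y hy => (hmF _).mpr (hAF z k1 k2 k3 y ((hmF y).mp hy))
          let σ : Equiv.Perm {y // y ∈ F} :=
            { toFun := fun y => ⟨A z • y.1, hm _ y.2⟩
              invFun := fun y => ⟨A z • y.1, hm _ y.2⟩
              left_inv := fun y => Subtype.ext (hAA z k1 k2 k3 y.1)
              right_inv := fun y => Subtype.ext (hAA z k1 k2 k3 y.1) }
          haveI : Fact (Nat.Prime 2) := ⟨Nat.prime_two⟩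
          have hσ : σ ^ 2 ^ 1 = 1 := by
            rw [pow_one, pow_two]; exact Equiv.ext fun y => Subtype.ext (hAA z k1 k2 k3 y.1)
          obtain ⟨y, hy⟩ := Equiv.Perm.exists_fixed_point_of_prime (p := 2)
            (by rw [Fintype.card_coe, h3]; decide) hσ
          exact hex y.1 y.2 (congrArg Subtype.val hy)
      choose! Y hYF hYfix hYne using hone
      have hmaps : ∀ z ∈ S, Y z ∈ F := hYF
      rw [Finset.card_eq_sum_card_fiberwise hmaps]
      refine le_trans (Finset.sum_le_card_nsmul _ _ 2 fun y hy => ?_) (by rw [smul_eq_mul]; omega)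
      rcases (S.filter fun z => Y z = y).eq_empty_or_nonempty with h | ⟨z₀, hz₀⟩
      · simp [h]
      obtain ⟨hz₀S, hz₀y⟩ := Finset.mem_filter.mp hz₀
      obtain ⟨l1, l2, l3⟩ := hS z₀ hz₀S
      have := hfix3 (A z₀) (hAne z₀ l1 l2 l3) (insert y (S.filter fun z => Y z = y)) fun z hz => by
        rcases Finset.mem_insert.mp hz with rfl | hz
        · exact hz₀y ▸ hYfix z₀ hz₀S
        obtain ⟨hzS, hzy⟩ := Finset.mem_filter.mp hz
        obtain ⟨k1, k2, k3⟩ := hS z hzS
        -- the two other points of `F` are interchanged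
        obtain ⟨y', y'', hne', hF'⟩ := Finset.card_eq_two.mp
          (show (F.erase y).card = 2 by rw [Finset.card_erase_of_mem hy, h3])
        have hy' : y' ∈ F.erase y := hF' ▸ Finset.mem_insert_self _ _
        have hy'' : y'' ∈ F.erase y := hF' ▸ Finset.mem_insert_of_mem (Finset.mem_singleton_self _)
        have hswap : ∀ w ∈ S, Y w = y → A w • y' = y'' := by
          intro w hw hwy
          obtain ⟨m1, m2, m3⟩ := hS w hw
          have hmem : A w • y' ∈ F.erase y := Finset.mem_erase.mpr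
            ⟨fun e => Finset.ne_of_mem_erase hy' (by
              rw [← hAA w m1 m2 m3 y', e]
              exact hwy ▸ hYfix w hw), (hmF _).mpr (hAF w m1 m2 m3 y' ((hmF y').mp (Finset.mem_of_mem_erase hy')))⟩
          simp only [hF', Finset.mem_insert, Finset.mem_singleton] at hmem
          exact hmem.resolve_left (hYne w hw y' (Finset.mem_of_mem_erase hy')
            (hwy.symm ▸ Finset.ne_of_mem_erase hy'))
        have : A z₀ = A z := huniq _ _ p₁ p₂ y y' d12 (fun e' => hp1F (e' ▸ hy))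
          (fun e' => hp1F (e' ▸ Finset.mem_of_mem_erase hy')) (fun e' => hp2F (e' ▸ hy))
          (fun e' => hp2F (e' ▸ Finset.mem_of_mem_erase hy')) (Finset.ne_of_mem_erase hy').symm
          ((hA1 z₀ l1 l2 l3).trans (hA1 z k1 k2 k3).symm) ((hA2 z₀ l1 l2 l3).trans (hA2 z k1 k2 k3).symm)
          (((hz₀y ▸ hYfix z₀ hz₀S : A z₀ • y = y)).trans (hzy ▸ hYfix z hzS : A z • y = y).symm)
          ((hswap z₀ hz₀S hz₀y).trans (hswap z hzS hzy).symm)
        rw [this]
        exact hAz z k1 k2 k3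
      rw [Finset.card_insert_of_notMem (fun h => hS' y (Finset.mem_filter.mp h).1 hy)] at this
      omega
  -- finiteness
  have hMfin : {z : Ω | u • z ≠ z ∧ z ≠ p₁ ∧ z ≠ p₂}.Finite := by
    by_contra hinf
    obtain ⟨S, hS, hScard⟩ := (Set.not_finite.mp hinf).exists_subset_card_eq 7
    have := (hbound S fun z hz => hS hz).1
    omega
  set M := hMfin.toFinset
  have hcover : (Set.univ : Set Ω) ⊆ ↑(({p₁, p₂} : Finset Ω) ∪ F ∪ M) := by
    intro z _
    simp only [Finset.coe_union, Set.mem_union, Finset.mem_coe, Finset.mem_insert, Finset.mem_singleton,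
      hmF, M, Set.Finite.mem_toFinset, Set.mem_setOf_eq]
    tauto
  haveI hfin : Finite Ω := Set.finite_univ_iff.mp ((Finset.finite_toSet _).subset hcover)
  haveI : Fintype Ω := Fintype.ofFinite Ω
  obtain ⟨hM6, hM2⟩ := hbound M fun z hz => by simpa [M] using hz
  have hcardle : Nat.card Ω ≤ 2 + F.card + M.card := by
    rw [Nat.card_eq_fintype_card, ← Finset.card_univ]
    refine (Finset.card_le_card (fun z _ => hcover (Set.mem_univ z))).trans ?_
    refine (Finset.card_union_le _ _).trans (Nat.add_le_add_right ((Finset.card_union_le _ _).trans ?_) _)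
    exact Nat.add_le_add_right Finset.card_le_two _
  refine ⟨hfin, by omega, fun hev => ?_⟩
  haveI : Fact (Nat.Prime 2) := ⟨Nat.prime_two⟩
  let σ : Equiv.Perm Ω := MulAction.toPerm u
  have hσ : σ ^ 2 ^ 1 = 1 := by rw [pow_one, pow_two]; exact Equiv.ext fun z => huu z
  have hmodeq := Equiv.Perm.card_compl_support_modEq (p := 2) hσ
  have hsupp : σ.supportᶜ = F := by
    ext z
    simp [Equiv.Perm.mem_support, hmF, σ]
  rw [hsupp, ← Nat.card_eq_fintype_card, Nat.ModEq] at hmodeq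
  have := Nat.even_iff.mp hev
  have := hM2 (by omega)
  omega


/-- Tits' argument: a sharply 4-transitive group (no finiteness assumed) has finite degree at most 11, and at most 6 when the degree is even. -/
theorem result {G : Type*} [Group G] {Ω : Type*} [MulAction G Ω] (h4 : MulAction.IsMultiplyPretransitive G Ω 4) (hsharp : ∀ x : Fin 4 ↪ Ω, MulAction.stabilizer G x = ⊥) (hne : Nonempty (Fin 4 ↪ Ω)) : Finite Ω ∧ Nat.card Ω ≤ 11 ∧ (Even (Nat.card Ω) → Nat.card Ω ≤ 6) := by
  obtain ⟨x⟩ := hne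
  exact tits_four h4 hsharp x

end Cfsg.Agent.S0708
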