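import Cfsg.Statements.S0709
import Mathlib

set_option autoImplicit false
open Cfsg

namespace Cfsg.Agent.S0709

/-- The group generated by `G` and `s i`, `2 ≤ i ≤ j - 1`. -/
def chain {α : Type*} (G : Subgroup (Equiv.Perm α)) (s : ℕ → Equiv.Perm α) (j : ℕ) :
    Subgroup (Equiv.Perm α) :=
  Subgroup.closure ((G : Set (Equiv.Perm α)) ∪ {x | ∃ i : ℕ, 2 ≤ i ∧ i + 1 ≤ j ∧ x = s i})

theorem chain_succ {α : Type*} (G : Subgroup (Equiv.Perm α)) (s : ℕ → Equiv.Perm α) {j : ℕ}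
    (hj : 2 ≤ j) : chain G s (j + 1) = chain G s j ⊔ Subgroup.zpowers (s j) := by
  apply le_antisymm
  · rw [chain, Subgroup.closure_le]
    rintro x (hx | ⟨i, hi1, hi2, rfl⟩)
    · exact Subgroup.mem_sup_left (Subgroup.subset_closure (Or.inl hx))
    · rcases (show i + 1 ≤ j ∨ i = j by omega) with h | rfl
      · exact Subgroup.mem_sup_left (Subgroup.subset_closure (Or.inr ⟨i, hi1, h, rfl⟩))
      · exact Subgroup.mem_sup_right (Subgroup.mem_zpowers _)
  · refine sup_le (Subgroup.closure_mono ?_) (Subgroup.zpowers_le.mpr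
      (Subgroup.subset_closure (Or.inr ⟨j, hj, le_rfl, rfl⟩)))
    rintro x (hx | ⟨i, hi1, hi2, rfl⟩)
    · exact Or.inl hx
    · exact Or.inr ⟨i, hi1, by omega, rfl⟩

theorem chain_two {α : Type*} (G : Subgroup (Equiv.Perm α)) (s : ℕ → Equiv.Perm α) :
    chain G s 2 = G := by
  apply le_antisymm
  · rw [chain, Subgroup.closure_le]
    rintro x (hx | ⟨i, hi1, hi2, rfl⟩)
    · exact hx
    · omega
  · exact fun x hx => Subgroup.subset_closure (Or.inl hx)

/-- `K ∪ K s K` is the group generated by `K` and `s`, once `s K s` lies in it. -/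
theorem mem_double {A : Type*} [Group A] (K : Subgroup A) (s : A) (hs2 : s * s ∈ K)
    (hsks : ∀ k ∈ K, s * k * s ∈ K ∨ ∃ a ∈ K, ∃ b ∈ K, s * k * s = a * s * b) {x : A}
    (hx : x ∈ K ⊔ Subgroup.zpowers s) : x ∈ K ∨ ∃ a ∈ K, ∃ b ∈ K, x = a * s * b := by
  let U : Subgroup A :=
    { carrier := {x | x ∈ K ∨ ∃ a ∈ K, ∃ b ∈ K, x = a * s * b}
      one_mem' := Or.inl K.one_mem
      mul_mem' := by
        rintro x y (hx | ⟨a, ha, b, hb, rfl⟩) (hy | ⟨c, hc, d, hd, rfl⟩)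
        · exact Or.inl (K.mul_mem hx hy)
        · exact Or.inr ⟨x * c, K.mul_mem hx hc, d, hd, by group⟩
        · exact Or.inr ⟨a, ha, b * y, K.mul_mem hb hy, by group⟩
        · have e : a * s * b * (c * s * d) = a * (s * (b * c) * s) * d := by group
          show _ ∨ _
          rw [e]
          rcases hsks _ (K.mul_mem hb hc) with h | ⟨u, hu, v, hv, h⟩
          · exact Or.inl (K.mul_mem (K.mul_mem ha h) hd)
          · exact Or.inr ⟨a * u, K.mul_mem ha hu, v * d, K.mul_mem hv hd, by rw [h]; group⟩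
      inv_mem' := by
        rintro x (hx | ⟨a, ha, b, hb, rfl⟩)
        · exact Or.inl (K.inv_mem hx)
        · exact Or.inr ⟨b⁻¹, K.inv_mem hb, (s * s)⁻¹ * a⁻¹, K.mul_mem (K.inv_mem hs2) (K.inv_mem ha),
            by group⟩ }
  exact (sup_le (fun k hk => Or.inl hk) (Subgroup.zpowers_le.mpr
    (Or.inr ⟨1, K.one_mem, 1, K.one_mem, by group⟩)) : K ⊔ Subgroup.zpowers s ≤ U) hx


/-- Witt's Lemma for constructing transitive extensions. Points `q 1, …, q t` (`t ≥ 2`) of a finite set are given; `G` fixes `q i` for `i ≥ 3` and is doubly transitive on the remaining points; `s 1 ∈ G` swaps `q 1, q 2`; for `2 ≤ i ≤ t-1`, `s i` swaps `q i, q (i+1)` and fixes the other `q j`; with `H` the stabiliser of `q 1, q 2` in `G`: `s i ^ 2 ∈ H`, `(s i * s (i+1)) ^ 3 ∈ H`, `(s i * s j) ^ 2 ∈ H` for `j ≥ i + 2`, and `s i` (`i ≥ 2`) normalises the stabiliser of `q 2` in `G`. Then `G` and the `s i` generate a `t`-transitive group whose pointwise stabiliser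 of the `q`'s is `H`. -/
theorem result {α : Type*} [Fintype α] [DecidableEq α] (t : ℕ) (ht : 2 ≤ t) (q : ℕ → α) (hq : ∀ i j : ℕ, 1 ≤ i → i ≤ t → 1 ≤ j → j ≤ t → q i = q j → i = j) (G : Subgroup (Equiv.Perm α)) (hfix : ∀ g ∈ G, ∀ i : ℕ, 3 ≤ i → i ≤ t → g (q i) = q i) (h2 : ∀ a b c d : α, (∀ i, 3 ≤ i → i ≤ t → a ≠ q i ∧ b ≠ q i ∧ c ≠ q i ∧ d ≠ q i) → a ≠ b → c ≠ d → ∃ g ∈ G, g a = c ∧ g b = d) (s : ℕ → Equiv.Perm α) (hs1 : s 1 ∈ G) (hs1q : s 1 (q 1) = q 2 ∧ s 1 (q 2) = q 1) (hsq : ∀ i : ℕ, 2 ≤ i → i + 1 ≤ t → s i (q i) = q (i + 1) ∧ s i (q (i + 1)) = q i ∧ ∀ j : ℕ, 1 ≤ j → j ≤ t → j ≠ i → j ≠ i + 1 → s i (q j) = q j) (H : Subgroup (Equiv.Perm α)) (hH : H = G ⊓ MulAction.stabilizer (Equiv.Perm α) (q 1) ⊓ MulAction.stabilizer (Equiv.Perm α) (q 2)) (hsq2 : ∀ i : ℕ, 1 ≤ i → i + 1 ≤ t → s i ^ 2 ∈ H) (hbraid : ∀ i : ℕ, 1 ≤ i → i + 2 ≤ t → (s i * s (i + 1)) ^ 3 ∈ H) (hcomm : ∀ i j : ℕ, 1 ≤ i → i + 2 ≤ j → j + 1 ≤ t → (s i * s j) ^ 2 ∈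 H ∧ (s j * s i) ^ 2 ∈ H) (hnorm : ∀ i : ℕ, 2 ≤ i → i + 1 ≤ t → ∀ g ∈ G ⊓ MulAction.stabilizer (Equiv.Perm α) (q 2), s i * g * (s i)⁻¹ ∈ G ⊓ MulAction.stabilizer (Equiv.Perm α) (q 2)) : MulAction.IsMultiplyPretransitive ↥(Subgroup.closure ((G : Set (Equiv.Perm α)) ∪ {x | ∃ i : ℕ, 2 ≤ i ∧ i + 1 ≤ t ∧ x = s i})) α t ∧ Subgroup.closure ((G : Set (Equiv.Perm α)) ∪ {x | ∃ i : ℕ, 2 ≤ i ∧ i + 1 ≤ t ∧ x = s i}) ⊓ fixingSubgroup (Equiv.Perm α) {x | ∃ i : ℕ, 1 ≤ i ∧ i ≤ t ∧ x = q i} = H := by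
  classical
  have hHG : ∀ x ∈ H, x ∈ G := fun x hx => by rw [hH] at hx; exact hx.1.1
  have hGle : ∀ j, ∀ g ∈ G, g ∈ chain G s j := fun j g hg => Subgroup.subset_closure (Or.inl hg)
  have hchainmono : ∀ {i j : ℕ}, i ≤ j → chain G s i ≤ chain G s j := fun hij =>
    Subgroup.closure_mono (by
      rintro x (hx | ⟨k, hk1, hk2, rfl⟩)
      · exact Or.inl hx
      · exact Or.inr ⟨k, hk1, by omega, rfl⟩)
  -- points allowed at level `j`
  let Γ : ℕ → α → Prop := fun j x => ∀ i, j < i → i ≤ t → x ≠ q i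
  have hqΓ : ∀ j m, 1 ≤ m → m ≤ j → j ≤ t → Γ j (q m) := fun j m h1 h2' h3 i hi1 hi2 e => by
    have := hq m i h1 (by omega) (by omega) hi2 e
    omega
  -- `chain j` fixes the later `q`'s
  have hfixc : ∀ j, ∀ g ∈ chain G s j, ∀ i, j < i → 3 ≤ i → i ≤ t → g (q i) = q i := by
    intro j g hg i hji hi3 hit
    have hle : chain G s j ≤ MulAction.stabilizer (Equiv.Perm α) (q i) := by
      rw [chain, Subgroup.closure_le]
      rintro x (hx | ⟨k, hk1, hk2, rfl⟩)
      · exact hfix x hx i hi3 hit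
      · exact (hsq k hk1 (by omega)).2.2 i (by omega) hit (by omega) (by omega)
    exact hle hg
  have hstable : ∀ j, 2 ≤ j → ∀ g ∈ chain G s j, ∀ x, Γ j x → Γ j (g x) := by
    intro j hj g hg x hx i hi1 hi2 e
    refine hx i hi1 hi2 (g.injective ?_)
    rw [e, hfixc j g hg i hi1 (by omega) hi2]
  -- stabiliser of `q 2` in `G`
  set L₀ := G ⊓ MulAction.stabilizer (Equiv.Perm α) (q 2) with hL₀
  have hΓ2 : ∀ x, Γ 2 x ↔ ∀ i, 3 ≤ i → i ≤ t → x ≠ q i := fun x => Iff.rfl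
  have hq12 : q 1 ≠ q 2 := fun e => by have := hq 1 2 le_rfl (by omega) (by omega) ht e; omega
  have hGdec : ∀ g ∈ G, g ∈ L₀ ∨ ∃ a ∈ L₀, ∃ b ∈ L₀, g = a * s 1 * b := by
    intro g hg
    by_cases hgq : g (q 2) = q 2
    · exact Or.inl ⟨hg, hgq⟩
    right
    have hx : Γ 2 (g (q 2)) := hstable 2 le_rfl g (hGle 2 g hg) _ (hqΓ 2 2 (by omega) le_rfl ht)
    obtain ⟨l, hl, hl1, hl2⟩ := h2 (q 1) (q 2) (g (q 2)) (q 2)
      (fun i hi1 hi2 => ⟨hqΓ 2 1 le_rfl (by omega) ht i hi1 hi2, hqΓ 2 2 (by omega) le_rfl ht i hi1 hi2,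
        hx i hi1 hi2, hqΓ 2 2 (by omega) le_rfl ht i hi1 hi2⟩) hq12 hgq
    refine ⟨l, ⟨hl, hl2⟩, (l * s 1)⁻¹ * g, ⟨G.mul_mem (G.inv_mem (G.mul_mem hl hs1)) hg, ?_⟩, by group⟩
    show ((l * s 1)⁻¹ * g) (q 2) = q 2
    rw [Equiv.Perm.mul_apply, Equiv.Perm.inv_eq_iff_eq, Equiv.Perm.mul_apply, hs1q.2, hl1]
  have hnorm' : ∀ i, 2 ≤ i → i + 1 ≤ t → ∀ g ∈ L₀, (s i)⁻¹ * g * s i ∈ L₀ := by
    intro i hi1 hi2
    have hsub : Subgroup.map (MulAut.conj (s i)).toMonoidHom L₀ ≤ L₀ := by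
      rintro _ ⟨g, hg, rfl⟩; exact hnorm i hi1 hi2 g hg
    have heq := Subgroup.eq_of_le_of_card_ge hsub
      (Subgroup.card_map_of_injective (MulEquiv.injective _)).ge
    intro g hg
    obtain ⟨u, hu, hug⟩ := heq.ge hg
    have hug' : s i * u * (s i)⁻¹ = g := hug
    rw [← hug']
    simpa [mul_assoc] using hu
  -- main induction: the double coset decomposition
  have hdec : ∀ j, 2 ≤ j → j + 1 ≤ t → ∀ g ∈ chain G s (j + 1),
      g ∈ chain G s j ∨ ∃ a ∈ chain G s j, ∃ b ∈ chain G s j, g = a * s j * b := by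
    intro j hj hjt
    induction j, hj using Nat.le_induction with
    | base =>
      intro g hg
      rw [chain_succ G s le_rfl] at hg
      refine mem_double _ _ (hGle 2 _ (hHG _ (by rw [← pow_two]; exact hsq2 2 (by omega) hjt))) ?_ hg
      intro k hk
      rw [chain_two] at hk ⊢
      have hsl : ∀ l ∈ L₀, s 2 * l * (s 2)⁻¹ ∈ G := fun l hl => (hnorm 2 le_rfl hjt l hl).1
      have hsl' : ∀ l ∈ L₀, (s 2)⁻¹ * l * s 2 ∈ G := fun l hl => (hnorm' 2 le_rfl hjt l hl).1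
      have hss : s 2 * s 2 ∈ G := hHG _ (by rw [← pow_two]; exact hsq2 2 (by omega) hjt)
      rcases hGdec k hk with hl | ⟨a, ha, b, hb, rfl⟩
      · left
        rw [show s 2 * k * s 2 = (s 2 * k * (s 2)⁻¹) * (s 2 * s 2) by group]
        exact G.mul_mem (hsl k hl) hss
      · right
        have hh := hHG _ (hbraid 1 le_rfl hjt)
        refine ⟨(s 2 * a * (s 2)⁻¹) * ((s 1)⁻¹ * (s 1 * s 2) ^ 3), G.mul_mem (hsl a ha)
          (G.mul_mem (G.inv_mem hs1) hh), ((s 2 * s 2)⁻¹) * (s 1)⁻¹ * ((s 2)⁻¹ * b * s 2),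
          G.mul_mem (G.mul_mem (G.inv_mem hss) (G.inv_mem hs1)) (hsl' b hb), ?_⟩
        rw [show (s 1 * s 2) ^ 3 = s 1 * s 2 * (s 1 * s 2) * (s 1 * s 2) by
          rw [pow_succ, pow_two]]
        group
    | succ j hj ih =>
      intro g hg
      have ih := ih (by omega)
      set σ := s (j + 1) with hσ
      have hss : σ * σ ∈ chain G s (j + 1) :=
        hGle _ _ (hHG _ (by rw [← pow_two]; exact hsq2 (j + 1) (by omega) hjt))
      -- `σ` normalises `chain j`
      have hcommute : ∀ i, 1 ≤ i → i + 2 ≤ j + 1 → s i ∈ chain G s j → σ * s i * σ⁻¹ ∈ chain G s j ∧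
          σ⁻¹ * s i * σ ∈ chain G s j := by
        intro i hi1 hi2 hmem
        obtain ⟨h1, h2'⟩ := hcomm i (j + 1) hi1 hi2 hjt
        have hs : σ ^ 2 ∈ chain G s j := hGle _ _ (hHG _ (hsq2 (j + 1) (by omega) hjt))
        constructor
        · rw [show σ * s i * σ⁻¹ = (s i)⁻¹ * (s i * σ) ^ 2 * (σ ^ 2)⁻¹ by
            rw [pow_two, pow_two]; group]
          exact mul_mem (mul_mem (inv_mem hmem) (hGle _ _ (hHG _ h1))) (inv_mem hs)
        · rw [show σ⁻¹ * s i * σ = (σ ^ 2)⁻¹ * (σ * s i) ^ 2 * (s i)⁻¹ by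
            rw [pow_two, pow_two]; group]
          exact mul_mem (mul_mem (inv_mem hs) (hGle _ _ (hHG _ h2'))) (inv_mem hmem)
      have hnormK : ∀ x ∈ chain G s j, σ * x * σ⁻¹ ∈ chain G s j ∧ σ⁻¹ * x * σ ∈ chain G s j := by
        intro x hx
        let M : Subgroup (Equiv.Perm α) :=
          (chain G s j).comap (MulAut.conj σ).toMonoidHom ⊓ (chain G s j).comap (MulAut.conj σ⁻¹).toMonoidHom
        have hmemM : ∀ y, y ∈ M ↔ σ * y * σ⁻¹ ∈ chain G s j ∧ σ⁻¹ * y * σ⁻¹⁻¹ ∈ chain G s j :=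
          fun y => Iff.rfl
        have hgen : chain G s j ≤ M := by
          conv_lhs => rw [chain]
          rw [Subgroup.closure_le]
          have hs1' := hcommute 1 le_rfl (by omega) (hGle _ _ hs1)
          have hL : ∀ y ∈ L₀, y ∈ M := fun y hy => (hmemM y).mpr
            ⟨hGle _ _ (hnorm (j + 1) (by omega) hjt y hy).1,
              by rw [inv_inv]; exact hGle _ _ (hnorm' (j + 1) (by omega) hjt y hy).1⟩
          rintro y (hy | ⟨i, hi1, hi2, rfl⟩)
          · rcases hGdec y hy with h | ⟨a, ha, b, hb, rfl⟩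
            · exact hL y h
            · exact M.mul_mem (M.mul_mem (hL a ha) ((hmemM _).mpr ⟨hs1'.1, by rw [inv_inv]; exact hs1'.2⟩))
                (hL b hb)
          · have h' := hcommute i (by omega) (by omega) (Subgroup.subset_closure (Or.inr ⟨i, hi1, hi2, rfl⟩))
            exact (hmemM _).mpr ⟨h'.1, by rw [inv_inv]; exact h'.2⟩
        have := (hmemM x).mp (hgen hx)
        exact ⟨this.1, by simpa using this.2⟩
      rw [chain_succ G s (by omega)] at hg
      refine mem_double _ _ hss ?_ hg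
      intro k hk
      rcases ih k hk with hl | ⟨a, ha, b, hb, rfl⟩
      · left
        rw [show σ * k * σ = (σ * k * σ⁻¹) * (σ * σ) by group]
        exact mul_mem (hchainmono (by omega) (hnormK k hl).1) hss
      · right
        have hh : (s j * σ) ^ 3 ∈ chain G s (j + 1) := hGle _ _ (hHG _ (hbraid j (by omega) hjt))
        have hsj : s j ∈ chain G s (j + 1) :=
          Subgroup.subset_closure (Or.inr ⟨j, hj, le_rfl, rfl⟩)
        refine ⟨(σ * a * σ⁻¹) * ((s j)⁻¹ * (s j * σ) ^ 3), mul_mem (hchainmono (by omega) (hnormK a ha).1)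
          (mul_mem (inv_mem hsj) hh), ((σ * σ)⁻¹) * (s j)⁻¹ * (σ⁻¹ * b * σ),
          mul_mem (mul_mem (inv_mem hss) (inv_mem hsj)) (hchainmono (by omega) (hnormK b hb).2), ?_⟩
        rw [show (s j * σ) ^ 3 = s j * σ * (s j * σ) * (s j * σ) by rw [pow_succ, pow_two]]
        group
  -- stabiliser of `q (j+1)` in `chain (j+1)`
  have hstab : ∀ j, 2 ≤ j → j + 1 ≤ t → ∀ g ∈ chain G s (j + 1), g (q (j + 1)) = q (j + 1) →
      g ∈ chain G s j := by
    intro j hj hjt g hg hgq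
    refine (hdec j hj hjt g hg).resolve_right ?_
    rintro ⟨a, ha, b, hb, rfl⟩
    rw [Equiv.Perm.mul_apply, Equiv.Perm.mul_apply,
      hfixc j b hb (j + 1) (by omega) (by omega) hjt, (hsq j hj hjt).2.1] at hgq
    exact hstable j hj a ha _ (hqΓ j j (by omega) le_rfl (by omega)) (j + 1) (by omega) hjt hgq
  -- multiple transitivity
  have hmt : ∀ j, 2 ≤ j → j ≤ t → ∀ x y : Fin j → α, Function.Injective x → Function.Injective y →
      (∀ i, Γ j (x i)) → (∀ i, Γ j (y i)) → ∃ g ∈ chain G s j, ∀ i, g (x i) = y i := by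
    intro j hj hjt
    induction j, hj using Nat.le_induction with
    | base =>
      intro x y hx hy hxΓ hyΓ
      obtain ⟨g, hg, h0, h1⟩ := h2 (x 0) (x 1) (y 0) (y 1)
        (fun i hi1 hi2 => ⟨hxΓ 0 i hi1 hi2, hxΓ 1 i hi1 hi2, hyΓ 0 i hi1 hi2, hyΓ 1 i hi1 hi2⟩)
        (hx.ne (by decide)) (hy.ne (by decide))
      exact ⟨g, hGle 2 g hg, fun i => by fin_cases i <;> assumption⟩
    | succ j hj ih =>
      intro x y hx hy hxΓ hyΓ
      have htop : ∀ z, Γ (j + 1) z → ∃ g ∈ chain G s (j + 1), g z = q (j + 1) := by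
        intro z hz
        by_cases hzq : z = q (j + 1)
        · exact ⟨1, one_mem _, by simp [hzq]⟩
        have hzj : Γ j z := fun i hi1 hi2 => by
          rcases (show i = j + 1 ∨ j + 1 < i by omega) with rfl | h
          · exact hzq
          · exact hz i h hi2
        obtain ⟨j', rfl⟩ : ∃ j', j = j' + 1 := ⟨j - 1, by omega⟩
        -- move `z` to `q j`
        obtain ⟨g, hg, hgz⟩ : ∃ g ∈ chain G s (j' + 1), g z = q (j' + 1) := by
          by_cases hzq' : z = q (j' + 1)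
          · exact ⟨1, one_mem _, by simp [hzq']⟩
          let e : Equiv.Perm α := Equiv.swap z (q (j' + 1))
          obtain ⟨g, hg, hgx⟩ := ih (by omega) (fun i => e (q (i.val + 1))) (fun i => q (i.val + 1))
            (fun a b hab => Fin.ext (by
              have := hq _ _ (by omega) (by omega) (by omega) (by omega) (e.injective hab); omega))
            (fun a b hab => Fin.ext (by
              have := hq _ _ (by omega) (by omega) (by omega) (by omega) hab; omega))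
            (fun i => by
              show Γ (j' + 1) (Equiv.swap z (q (j' + 1)) (q (i.val + 1)))
              rw [Equiv.swap_apply_def]
              split_ifs
              · exact hqΓ _ _ (by omega) le_rfl (by omega)
              · exact hzj
              · exact hqΓ _ _ (by omega) (by omega) (by omega))
            (fun i => hqΓ _ _ (by omega) (by omega) (by omega))
          exact ⟨g, hg, by simpa [e] using hgx ⟨j', by omega⟩⟩
        refine ⟨s (j' + 1) * g, mul_mem (Subgroup.subset_closure (Or.inr ⟨j' + 1, hj, le_rfl, rfl⟩))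
          (hchainmono (by omega) hg), ?_⟩
        rw [Equiv.Perm.mul_apply, hgz, (hsq (j' + 1) hj hjt).1]
      obtain ⟨u, hu, hux⟩ := htop (x (Fin.last j)) (hxΓ _)
      obtain ⟨v, hv, hvy⟩ := htop (y (Fin.last j)) (hyΓ _)
      have hΓ' : ∀ (w : Equiv.Perm α), w ∈ chain G s (j + 1) → ∀ z : Fin (j + 1) → α,
          Function.Injective z → (∀ i, Γ (j + 1) (z i)) → w (z (Fin.last j)) = q (j + 1) →
          ∀ i : Fin j, Γ j (w (z i.castSucc)) := by
        intro w hw z hz hzΓ hwz i m hm1 hm2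
        rcases (show m = j + 1 ∨ j + 1 < m by omega) with rfl | h
        · exact fun e => (Fin.castSucc_lt_last i).ne (hz (w.injective (e.trans hwz.symm)))
        · exact hstable (j + 1) (by omega) w hw _ (hzΓ _) m h hm2
      obtain ⟨g, hg, hgx⟩ := ih (by omega) (fun i => u (x i.castSucc)) (fun i => v (y i.castSucc))
        (fun a b e => Fin.castSucc_injective _ (hx (u.injective e)))
        (fun a b e => Fin.castSucc_injective _ (hy (v.injective e)))
        (hΓ' u hu x hx hxΓ hux) (hΓ' v hv y hy hyΓ hvy)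
      refine ⟨v⁻¹ * g * u, mul_mem (mul_mem (inv_mem hv) (hchainmono (by omega) hg)) hu, fun i => ?_⟩
      rw [Equiv.Perm.mul_apply, Equiv.Perm.mul_apply, Equiv.Perm.inv_eq_iff_eq]
      refine Fin.lastCases ?_ (fun i => ?_) i
      · rw [hux, hfixc j g hg (j + 1) (by omega) (by omega) hjt, hvy]
      · exact hgx i
  have hK : chain G s t =
      Subgroup.closure ((G : Set (Equiv.Perm α)) ∪ {x | ∃ i : ℕ, 2 ≤ i ∧ i + 1 ≤ t ∧ x = s i}) := rfl
  rw [← hK]
  refine ⟨⟨fun x y => ?_⟩, ?_⟩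
  · obtain ⟨g, hg, hgx⟩ := hmt t ht le_rfl x y x.injective y.injective
      (fun i m hm1 hm2 => absurd hm2 (by omega)) (fun i m hm1 hm2 => absurd hm2 (by omega))
    exact ⟨⟨g, hg⟩, DFunLike.ext _ _ hgx⟩
  · apply le_antisymm
    · rintro g ⟨hg, hgfix⟩
      have hfixq : ∀ i, 1 ≤ i → i ≤ t → g (q i) = q i := fun i h1 h2' =>
        (mem_fixingSubgroup_iff _).mp hgfix _ ⟨i, h1, h2', rfl⟩
      have hdown : ∀ d, d + 2 ≤ t → g ∈ chain G s (t - d) := by
        intro d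
        induction d with
        | zero => intro _; simpa using hg
        | succ d ih =>
          intro hd
          have := hstab (t - (d + 1)) (by omega) (by omega) g
            (by rw [show t - (d + 1) + 1 = t - d by omega]; exact ih (by omega))
            (hfixq _ (by omega) (by omega))
          exact this
      have := hdown (t - 2) (by omega)
      rw [show t - (t - 2) = 2 by omega, chain_two] at this
      rw [hH]
      exact ⟨⟨this, hfixq 1 le_rfl (by omega)⟩, hfixq 2 (by omega) ht⟩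
    · intro g hg
      refine ⟨hGle t g (hHG g hg), (mem_fixingSubgroup_iff _).mpr ?_⟩
      rintro _ ⟨i, h1, h2', rfl⟩
      rw [hH] at hg
      rcases (show i = 1 ∨ i = 2 ∨ 3 ≤ i by omega) with rfl | rfl | h
      · exact hg.1.2
      · exact hg.2
      · exact hfix g hg.1.1 i h h2'

end Cfsg.Agent.S0709
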