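import Cfsg.Statements.S0710
import Mathlib

set_option autoImplicit false
open Cfsg

namespace Cfsg.Agent.S0710

/-- No transitive permutation group on 13 points has order `13 * 12 * 11 * 10 * 9 * 8`. -/
theorem result {α : Type*} [Fintype α] [DecidableEq α] (hα : Fintype.card α = 13) (G : Subgroup (Equiv.Perm α)) [MulAction.IsPretransitive G α] : Nat.card G ≠ 13 * 12 * 11 * 10 * 9 * 8 := by
  classical
  intro hG
  have : Fact (Nat.Prime 13) := ⟨by norm_num⟩
  have hdvd : 13 ∣ Nat.card G := by rw [hG]; norm_num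
  obtain ⟨P⟩ := (Sylow.nonempty : Nonempty (Sylow 13 G))
  have hP : Nat.card (P : Subgroup G) = 13 := by
    rw [P.card_eq_multiplicity, hG]
    have : (13 * 12 * 11 * 10 * 9 * 8 : ℕ).factorization 13 = 1 := by
      rw [Nat.factorization_def _ (by norm_num : Nat.Prime 13)]
      rw [show (13 * 12 * 11 * 10 * 9 * 8 : ℕ) = 13 * 95040 by norm_num,
        padicValNat.mul (by norm_num) (by norm_num)]
      rw [padicValNat.self (by norm_num), padicValNat.eq_zero_of_not_dvd (by norm_num)]
    rw [this, pow_one]
  -- the normaliser of `P` has order dividing `13 * 12`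
  have : IsCyclic (P : Subgroup G) := isCyclic_of_prime_card hP
  obtain ⟨g, hg⟩ := IsCyclic.exists_generator (α := (P : Subgroup G))
  have hgo : orderOf ((g : G) : Equiv.Perm α) = 13 := by
    rw [Subgroup.orderOf_coe, Subgroup.orderOf_coe, ← Nat.card_zpowers,
      (Subgroup.eq_top_iff' (Subgroup.zpowers g)).mpr hg, Subgroup.card_top]
    exact hP
  have hcyc : ((g : G) : Equiv.Perm α).IsCycle :=
    Equiv.Perm.isCycle_of_prime_order'' (hα ▸ (by norm_num)) (hgo.trans hα.symm)
  have hsupp : ((g : G) : Equiv.Perm α).support = Finset.univ := by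
    apply Finset.eq_univ_of_card
    rw [← hcyc.orderOf, hgo, hα]
  have hN : Nat.card (Subgroup.normalizer ((P : Subgroup G) : Set G)) ∣ 13 * 12 := by
    let N := Subgroup.normalizer ((P : Subgroup G) : Set G)
    obtain ⟨a⟩ : Nonempty α := Fintype.card_pos_iff.mp (by omega)
    have hmem : ∀ y, ((g : G) : Equiv.Perm α) y ≠ y := fun y =>
      Equiv.Perm.mem_support.mp (hsupp ▸ Finset.mem_univ y)
    have hgN : (g : G) ∈ N := Subgroup.le_normalizer g.2
    have : MulAction.IsPretransitive N α := ⟨fun x y => by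
      obtain ⟨i, hi⟩ := hcyc.exists_zpow_eq (hmem x) (hmem y)
      exact ⟨(⟨g, hgN⟩ : N) ^ i, hi⟩⟩
    let φ : N →* MulAut (P : Subgroup G) := Subgroup.normalizerMonoidHom (P : Subgroup G)
    let S := MulAction.stabilizer N a
    have hinj : Function.Injective (φ.comp S.subtype) := by
      rw [injective_iff_map_eq_one]
      intro n hn
      have h1 : ((n : N) : G) * g * ((n : N) : G)⁻¹ = g :=
        congrArg Subtype.val (DFunLike.congr_fun hn g)
      have hc : Commute (((n : N) : G) : Equiv.Perm α) ((g : G) : Equiv.Perm α) :=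
        congrArg Subtype.val (mul_inv_eq_iff_eq_mul.mp h1)
      have ha : (((n : N) : G) : Equiv.Perm α) a = a := n.2
      apply Subtype.ext; apply Subtype.ext; apply Subtype.ext
      apply Equiv.ext
      intro x
      obtain ⟨i, hi⟩ := hcyc.exists_zpow_eq (hmem a) (hmem x)
      rw [← hi, ← Equiv.Perm.mul_apply, (hc.zpow_right i).eq, Equiv.Perm.mul_apply, ha]
      rfl
    have hS : Nat.card S ∣ 12 := by
      have h := Subgroup.card_dvd_of_injective (φ.comp S.subtype) hinj
      rwa [IsCyclic.card_mulAut, hP, Nat.totient_prime (by norm_num)] at h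
    rw [← S.card_mul_index, MulAction.index_stabilizer_of_transitive N a, Nat.card_eq_fintype_card (α := α),
      hα, mul_comm]
    exact Nat.mul_dvd_mul_left 13 hS
  have hle : (P : Subgroup G) ≤ Subgroup.normalizer ((P : Subgroup G) : Set G) := Subgroup.le_normalizer
  obtain ⟨d, hd⟩ := Subgroup.card_dvd_of_le hle
  rw [hP] at hd
  have h1 := Subgroup.card_mul_index (Subgroup.normalizer ((P : Subgroup G) : Set G))
  have hi : (Subgroup.normalizer ((P : Subgroup G) : Set G)).index = Nat.card (Sylow 13 G) :=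
    (Sylow.card_eq_index_normalizer P).symm
  rw [hi, hd, hG] at h1
  have hmod := card_sylow_modEq_one 13 G
  rw [hd] at hN
  have hd' : d ∣ 12 := Nat.dvd_of_mul_dvd_mul_left (by norm_num) hN
  have hd12 : d ≤ 12 := Nat.le_of_dvd (by norm_num) hd'
  have h2 : d * Nat.card (Sylow 13 G) = 95040 := by
    have : 13 * (d * Nat.card (Sylow 13 G)) = 13 * 95040 := by rw [← mul_assoc, h1]
    omega
  generalize Nat.card (Sylow 13 G) = k at h2 hmod
  unfold Nat.ModEq at hmod
  interval_cases d
  all_goals omega

end Cfsg.Agent.S0710
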