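import Cfsg.Statements.S0711
import Mathlib
import Cfsg.Agent.Lib.Perm.Transitive

set_option autoImplicit false
open Cfsg

namespace Cfsg.Agent.S0711

open Equiv in
/-- Descent step: a non-identity element of small support yields one of smaller support. -/
theorem descent {α : Type*} [Fintype α] [DecidableEq α] (G : Subgroup (Equiv.Perm α)) {k : ℕ}
    (hkn : k ≤ Fintype.card α) (hG : MulAction.IsMultiplyPretransitive G α k)
    (g : Equiv.Perm α) (hg : g ∈ G) (hm4 : 4 ≤ g.support.card) (hsupp : g.support.card < 2 * k - 2) :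
    ∃ w ∈ G, w ≠ 1 ∧ w.support.card < g.support.card := by
  classical
  -- conjugate by an element fixing `T` pointwise and sending `x₀` to `y`
  have hconj : ∀ (T : Finset α) (x₀ y : α), x₀ ∉ T → y ∉ T → T.card + 1 ≤ k →
      ∃ g' ∈ G, (∀ x ∈ T, g x ∈ T → g' x = g x) ∧ (∀ z ∈ T, g z = x₀ → g' z = y) ∧
        g'.support.card = g.support.card ∧ (T ⊆ g.support → T ⊆ g'.support) ∧
        (x₀ ∈ g.support → y ∈ g'.support) := by
    intro T x₀ y hx₀ hy hT
    obtain ⟨h, hh⟩ := Cfsg.Agent.Lib.Perm.exists_smul_of_injOn hG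
      (by rw [Nat.card_eq_fintype_card]; exact hkn) (insert x₀ T)
      (by rw [Finset.card_insert_of_notMem hx₀]; exact hT) (fun x => if x = x₀ then y else x) (by
        intro a ha b hb hab
        simp only [Finset.coe_insert, Set.mem_insert_iff, Finset.mem_coe] at ha hb
        by_cases h1 : a = x₀ <;> by_cases h2 : b = x₀
        · rw [h1, h2]
        · simp only [if_pos h1, if_neg h2] at hab
          exact absurd (hab ▸ hb.resolve_left h2) hy
        · simp only [if_neg h1, if_pos h2] at hab
          exact absurd (hab ▸ ha.resolve_left h1) hy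
        · simpa [h1, h2] using hab)
    have hT' : ∀ x ∈ T, (h : Equiv.Perm α) x = x := by
      intro x hx
      have := hh x (Finset.mem_insert_of_mem hx)
      rw [if_neg (fun e : x = x₀ => hx₀ (e ▸ hx))] at this
      exact this
    have hx₀' : (h : Equiv.Perm α) x₀ = y := by
      have := hh x₀ (Finset.mem_insert_self _ _)
      rw [if_pos rfl] at this
      exact this
    have happ : ∀ z, ((h : Equiv.Perm α) * g * (h : Equiv.Perm α)⁻¹) ((h : Equiv.Perm α) z) =
        (h : Equiv.Perm α) (g z) := fun z => by simp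
    refine ⟨_, G.mul_mem (G.mul_mem h.2 hg) (G.inv_mem h.2), fun x hx hgx => ?_, fun z hz hgz => ?_,
      Equiv.Perm.card_support_conj, fun hsub x hx => ?_, fun hx => ?_⟩
    · have := happ x; rwa [hT' x hx, hT' _ hgx] at this
    · have := happ z; rwa [hT' z hz, hgz, hx₀'] at this
    · rw [Equiv.Perm.mem_support]
      intro h'
      have := happ x; rw [hT' x hx, h'] at this
      exact Equiv.Perm.mem_support.mp (hsub hx) ((h : Equiv.Perm α).injective (this.symm.trans (hT' x hx).symm))
    · rw [Equiv.Perm.mem_support]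
      intro h'
      have := happ x₀; rw [hx₀', h'] at this
      exact Equiv.Perm.mem_support.mp hx ((h : Equiv.Perm α).injective (this.symm.trans hx₀'.symm))
  -- the key estimate for `g⁻¹ * g'`
  have hsmall : ∀ (g' : Equiv.Perm α) (A : Finset α), (∀ x ∈ A, g' x = g x) →
      (g⁻¹ * g').support.card ≤ ((g.support ∪ g'.support) \ A).card := by
    intro g' A hA
    apply Finset.card_le_card
    intro x hx
    rw [Equiv.Perm.mem_support] at hx
    rw [Finset.mem_sdiff, Finset.mem_union, Equiv.Perm.mem_support, Equiv.Perm.mem_support]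
    refine ⟨?_, fun hxA => hx (by simp [hA x hxA])⟩
    by_contra hcon
    push Not at hcon
    exact hx (by rw [Equiv.Perm.mul_apply, hcon.2, Equiv.Perm.inv_eq_iff_eq, hcon.1])
  have hfinish : ∀ g' ∈ G, ∀ z, g' z ≠ g z → ∀ B : ℕ, (g⁻¹ * g').support.card ≤ B →
      B < g.support.card → ∃ w ∈ G, w ≠ 1 ∧ w.support.card < g.support.card := by
    intro g' hg' z hz B h1 h2
    refine ⟨g⁻¹ * g', G.mul_mem (G.inv_mem hg) hg', fun h => hz ?_, h1.trans_lt h2⟩
    rw [inv_mul_eq_one] at h
    rw [h]
  have hunion : ∀ (g' : Equiv.Perm α) (S : Finset α), g'.support.card = g.support.card →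
      S ⊆ g.support → S ⊆ g'.support → ∀ A ⊆ S,
      ((g.support ∪ g'.support) \ A).card + A.card + S.card ≤ 2 * g.support.card := by
    intro g' S he h1 h2 A hA
    have := Finset.card_union_add_card_inter g.support g'.support
    have := Finset.card_le_card (Finset.subset_inter h1 h2)
    rw [Finset.card_sdiff_of_subset (hA.trans (h1.trans Finset.subset_union_left))]
    have := Finset.card_le_card (hA.trans (h1.trans (Finset.subset_union_left (s₂ := g'.support))))
    omega
  have hmn : g.support.card ≤ Fintype.card α := Finset.card_le_univ _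
  rcases le_or_gt g.support.card k with hmk | hmk
  · -- small support
    rcases hmn.eq_or_lt with hn | hn
    · -- then `G` is the symmetric group
      have hGtop : G = ⊤ := by
        apply Equiv.Perm.eq_top_of_isMultiplyPretransitive
        exact MulAction.isMultiplyPretransitive_of_le (n := k) (by rw [Nat.card_eq_fintype_card]; omega)
          (by rw [Nat.card_eq_fintype_card]; exact hkn)
      obtain ⟨a, b, hab⟩ := Fintype.one_lt_card_iff.mp (show 1 < Fintype.card α by omega)
      refine ⟨Equiv.swap a b, hGtop ▸ Subgroup.mem_top _, fun h => hab (Equiv.swap_eq_one_iff.mp h), ?_⟩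
      rw [Equiv.Perm.card_support_swap hab]; omega
    obtain ⟨x₀, hx₀⟩ := Finset.card_pos.mp (show 0 < g.support.card by omega)
    obtain ⟨y, -, hy⟩ := Finset.exists_mem_notMem_of_card_lt_card
      (s := g.support) (t := Finset.univ) (by simpa using hn)
    obtain ⟨g', hg', hA, hz, hcard, hsub, -⟩ := hconj (g.support.erase x₀) x₀ y
      (Finset.notMem_erase _ _) (fun h => hy (Finset.mem_of_mem_erase h))
      (by rw [Finset.card_erase_of_mem hx₀]; omega)
    have hzT : g⁻¹ x₀ ∈ g.support.erase x₀ := by
      rw [Finset.mem_erase, Equiv.Perm.mem_support]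
      rw [Equiv.Perm.mem_support] at hx₀
      exact ⟨fun h => hx₀ (Equiv.Perm.inv_eq_iff_eq.mp h).symm, fun h => hx₀ (by simpa using congrArg g h)⟩
    refine hfinish g' hg' (g⁻¹ x₀) ?_ _ (hsmall g' ((g.support.erase x₀).erase (g⁻¹ x₀)) ?_) ?_
    · rw [hz _ hzT (by simp)]
      rw [show g (g⁻¹ x₀) = x₀ by simp]
      exact fun h => hy (h ▸ hx₀)
    · intro x hx
      rw [Finset.mem_erase] at hx
      refine hA x hx.2 (Finset.mem_erase.mpr ⟨fun h => hx.1 (by simp [← h]), ?_⟩)
      exact Equiv.Perm.apply_mem_support.mpr (Finset.mem_of_mem_erase hx.2)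
    · have := hunion g' (g.support.erase x₀) hcard (Finset.erase_subset _ _)
        (hsub (Finset.erase_subset _ _)) _ (Finset.erase_subset (g⁻¹ x₀) _)
      rw [Finset.card_erase_of_mem hzT, Finset.card_erase_of_mem hx₀] at this
      omega
  rcases hmn.eq_or_lt with hn | hn
  · -- no fixed points
    have hfree : ∀ x, g x ≠ x := fun x => Equiv.Perm.mem_support.mp
      (Finset.eq_univ_of_card _ hn ▸ Finset.mem_univ x)
    obtain ⟨x⟩ : Nonempty α := Fintype.card_pos_iff.mp (by omega)
    obtain ⟨T₀, hT₀sub, -, hT₀⟩ := Finset.exists_subsuperset_card_eq (s := {x, g x})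
      (t := Finset.univ) (n := k - 1) (Finset.subset_univ _)
      (le_trans Finset.card_le_two (by omega)) (by rw [Finset.card_univ]; omega)
    obtain ⟨T, hTcard, u, huT, hguT, z, hzT, hgzT⟩ : ∃ T : Finset α, T.card = k - 1 ∧
        ∃ u ∈ T, g u ∈ T ∧ ∃ z ∈ T, g z ∉ T := by
      by_cases hex : ∃ z ∈ T₀, g z ∉ T₀
      · exact ⟨T₀, hT₀, x, hT₀sub (by simp), hT₀sub (by simp), hex⟩
      push Not at hex
      obtain ⟨b, hb, hbx⟩ := Finset.exists_mem_notMem_of_card_lt_card (s := ({x, g x} : Finset α))
        (t := T₀) (lt_of_le_of_lt Finset.card_le_two (by omega))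
      simp only [Finset.mem_insert, Finset.mem_singleton, not_or] at hbx
      obtain ⟨c, -, hc⟩ := Finset.exists_mem_notMem_of_card_lt_card (s := T₀)
        (t := Finset.univ) (by rw [Finset.card_univ]; omega)
      have himg : T₀.image g = T₀ := Finset.eq_of_subset_of_card_le
        (Finset.image_subset_iff.mpr hex) (by rw [Finset.card_image_of_injective _ g.injective])
      obtain ⟨z, hz, hzb⟩ := Finset.mem_image.mp (himg.symm ▸ hb : b ∈ T₀.image g)
      refine ⟨insert c (T₀.erase b), ?_, x, ?_, ?_, z, ?_, ?_⟩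
      · rw [Finset.card_insert_of_notMem (by simp [hc]), Finset.card_erase_of_mem hb, hT₀]; omega
      · exact Finset.mem_insert_of_mem (Finset.mem_erase.mpr ⟨fun h => hbx.1 h.symm, hT₀sub (by simp)⟩)
      · exact Finset.mem_insert_of_mem (Finset.mem_erase.mpr ⟨fun h => hbx.2 h.symm, hT₀sub (by simp)⟩)
      · exact Finset.mem_insert_of_mem (Finset.mem_erase.mpr ⟨fun h => hfree z (hzb.trans h.symm), hz⟩)
      · rw [hzb, Finset.mem_insert, Finset.mem_erase]
        rintro (h | h)
        · exact hc (h ▸ hb)
        · exact h.1 rfl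
    obtain ⟨y, -, hy⟩ := Finset.exists_mem_notMem_of_card_lt_card (s := insert (g z) T)
      (t := Finset.univ) (by rw [Finset.card_insert_of_notMem hgzT, Finset.card_univ]; omega)
    rw [Finset.mem_insert, not_or] at hy
    obtain ⟨g', hg', hA, hz, -, -, -⟩ := hconj T (g z) y hgzT hy.2 (by omega)
    refine hfinish g' hg' z (by rw [hz z hzT rfl]; exact hy.1) _
      (hsmall g' {u} (by intro a ha; rw [Finset.mem_singleton] at ha; subst ha; exact hA a huT hguT)) ?_
    calc ((g.support ∪ g'.support) \ {u}).card ≤ (Finset.univ \ {u}).card :=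
          Finset.card_le_card (Finset.sdiff_subset_sdiff (Finset.subset_univ _) subset_rfl)
      _ < g.support.card := by
          rw [Finset.card_sdiff_of_subset (Finset.subset_univ _), Finset.card_univ,
            Finset.card_singleton, hn]
          omega
  -- a set with at most one exit
  obtain ⟨T, hTsub, hTcard, e, hexit⟩ : ∃ T : Finset α, T ⊆ g.support ∧ T.card = k - 1 ∧
      ∃ e, ∀ z ∈ T, g z ∉ T → z = e := by
    suffices h : ∀ j, j ≤ k - 1 → ∃ T : Finset α, T ⊆ g.support ∧ T.card = j ∧
        ∃ e, ∀ z ∈ T, g z ∉ T → z = e from h _ le_rfl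
    intro j hj
    induction j with
    | zero =>
      obtain ⟨e, -⟩ := Finset.card_pos.mp (show 0 < g.support.card by omega)
      exact ⟨∅, Finset.empty_subset _, rfl, e, by simp⟩
    | succ j ih =>
      obtain ⟨T, hsub, hc, e, he⟩ := ih (by omega)
      by_cases hex : ∃ z ∈ T, g z ∉ T
      · obtain ⟨z, hz, hgz⟩ := hex
        refine ⟨insert (g z) T, Finset.insert_subset (Equiv.Perm.apply_mem_support.mpr (hsub hz)) hsub,
          by rw [Finset.card_insert_of_notMem hgz, hc], g z, fun w hw hgw => ?_⟩
        rcases Finset.mem_insert.mp hw with hw | hw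
        · exact hw
        · rw [Finset.mem_insert, not_or] at hgw
          exact absurd (by rw [he w hw hgw.2, he z hz hgz]) hgw.1
      · push Not at hex
        obtain ⟨b, hb, hbT⟩ := Finset.exists_mem_notMem_of_card_lt_card (s := T) (t := g.support) (by omega)
        refine ⟨insert b T, Finset.insert_subset hb hsub,
          by rw [Finset.card_insert_of_notMem hbT, hc], b, fun w hw hgw => ?_⟩
        rcases Finset.mem_insert.mp hw with hw | hw
        · exact hw
        · exact absurd (Finset.mem_insert_of_mem (hex w hw)) hgw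
  by_cases hex : ∃ z ∈ T, g z ∉ T
  · obtain ⟨z, hzT, hgz⟩ := hex
    obtain rfl := hexit z hzT hgz
    obtain ⟨y, hys, hy⟩ := Finset.exists_mem_notMem_of_card_lt_card (s := insert (g z) T)
      (t := g.support) (by rw [Finset.card_insert_of_notMem hgz]; omega)
    rw [Finset.mem_insert, not_or] at hy
    obtain ⟨g', hg', hA, hz, hcard, hsub, hy'⟩ := hconj T (g z) y hgz hy.2 (by omega)
    refine hfinish g' hg' z (by rw [hz z hzT rfl]; exact hy.1) _ (hsmall g' (T.erase z) ?_) ?_
    · intro x hx
      rw [Finset.mem_erase] at hx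
      refine hA x hx.2 ?_
      by_contra h
      exact hx.1 (hexit x hx.2 h)
    · have := hunion g' (insert y T) hcard (Finset.insert_subset hys hTsub)
        (Finset.insert_subset (hy' (Equiv.Perm.apply_mem_support.mpr (hTsub hzT))) (hsub hTsub))
        _ ((Finset.erase_subset z T).trans (Finset.subset_insert y T))
      rw [Finset.card_erase_of_mem hzT, Finset.card_insert_of_notMem hy.2] at this
      omega
  · push Not at hex
    obtain ⟨x₀, hx₀s, hx₀⟩ := Finset.exists_mem_notMem_of_card_lt_card (s := T) (t := g.support) (by omega)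
    obtain ⟨y, -, hy⟩ := Finset.exists_mem_notMem_of_card_lt_card
      (s := g.support) (t := Finset.univ) (by simpa using hn)
    obtain ⟨g', hg', hA, -, hcard, hsub, hy'⟩ := hconj T x₀ y hx₀ (fun h => hy (hTsub h)) (by omega)
    refine hfinish g' hg' y ?_ _ (hsmall g' T (fun x hx => hA x hx (hex x hx))) ?_
    · rw [show g y = y from Equiv.Perm.notMem_support.mp hy]
      exact Equiv.Perm.mem_support.mp (hy' hx₀s)
    · have := hunion g' T hcard hTsub (hsub hTsub) T subset_rfl
      omega


/-- A `k`-transitive permutation group (`k ≥ 3`) with a non-identity element of support smaller than `2k - 2` contains a non-identity element of support at most 3, and therefore contains the alternating group. -/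
theorem result {α : Type*} [Fintype α] [DecidableEq α] (G : Subgroup (Equiv.Perm α)) {k : ℕ} (hk : 3 ≤ k) (hkn : k ≤ Fintype.card α) (hG : MulAction.IsMultiplyPretransitive G α k) (g : Equiv.Perm α) (hg : g ∈ G) (hg1 : g ≠ 1) (hsupp : g.support.card < 2 * k - 2) : (∃ h : Equiv.Perm α, h ∈ G ∧ h ≠ 1 ∧ h.support.card ≤ 3) ∧ alternatingGroup α ≤ G := by
  classical
  have main : ∀ m, ∀ g : Equiv.Perm α, g ∈ G → g ≠ 1 → g.support.card = m → m < 2 * k - 2 →
      ∃ h : Equiv.Perm α, h ∈ G ∧ h ≠ 1 ∧ h.support.card ≤ 3 := by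
    intro m
    induction m using Nat.strong_induction_on with
    | _ m ih =>
      intro g hg hg1 hm hlt
      rcases le_or_gt m 3 with h3 | h3
      · exact ⟨g, hg, hg1, by omega⟩
      · obtain ⟨w, hw, hw1, hwc⟩ := descent G hkn hG g hg (by omega) (by omega)
        exact ih w.support.card (by omega) w hw hw1 rfl (by omega)
  obtain ⟨h, hh, hh1, hh3⟩ := main _ g hg hg1 rfl hsupp
  refine ⟨⟨h, hh, hh1, hh3⟩, ?_⟩
  have h2 : MulAction.IsMultiplyPretransitive G α 2 :=
    MulAction.isMultiplyPretransitive_of_le (n := k) (by omega)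
      (by rw [Nat.card_eq_fintype_card]; exact hkn)
  have hprim : MulAction.IsPreprimitive G α := MulAction.isPreprimitive_of_is_two_pretransitive h2
  have h0 : h.support.card ≠ 0 := by
    rw [Ne, Equiv.Perm.card_support_eq_zero]; exact hh1
  have h1 := Equiv.Perm.card_support_ne_one h
  rcases (show h.support.card = 2 ∨ h.support.card = 3 by omega) with h' | h'
  · rw [Equiv.Perm.subgroup_eq_top_of_isPreprimitive_of_isSwap_mem hprim h
      (Equiv.Perm.card_support_eq_two.mp h') hh]
    exact le_top
  · exact Equiv.Perm.alternatingGroup_le_of_isPreprimitive_of_isThreeCycle_mem hprim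
      (card_support_eq_three_iff.mp h') hh

end Cfsg.Agent.S0711
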