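import Cfsg.Statements.S0712
import Mathlib
import Cfsg.Agent.Lib.Perm.Transitive

set_option autoImplicit false
open Cfsg

namespace Cfsg.Agent.S0712

/-- Jordan: a primitive group in which the pointwise stabiliser of a set `s` is doubly transitive on the complement of `s` (which has at least 2 points) is `(|s| + 2)`-transitive. -/
theorem result {α : Type*} [Fintype α] [DecidableEq α] (G : Subgroup (Equiv.Perm α)) (hG : MulAction.IsPreprimitive G α) (s : Set α) {m : ℕ} (hsm : s.ncard = m) (hm : m + 2 ≤ Fintype.card α) (h2 : MulAction.IsMultiplyPretransitive (fixingSubgroup G s) (SubMulAction.ofFixingSubgroup G s) 2) : MulAction.IsMultiplyPretransitive G α (m + 2) := by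
  classical
  have hfix2 : ∀ u₁ u₂ v₁ v₂ : α, u₁ ∉ s → u₂ ∉ s → v₁ ∉ s → v₂ ∉ s → u₁ ≠ u₂ → v₁ ≠ v₂ →
      ∃ h : G, (∀ x ∈ s, h • x = x) ∧ h • u₁ = v₁ ∧ h • u₂ = v₂ := by
    intro u₁ u₂ v₁ v₂ a1 a2 b1 b2 hu hv
    have h2t : ∀ a b c d : SubMulAction.ofFixingSubgroup G s, a ≠ b → c ≠ d →
        ∃ g : fixingSubgroup G s, g • a = c ∧ g • b = d :=
      fun a b c d => MulAction.is_two_pretransitive_iff.mp h2
    obtain ⟨h, h1, h2'⟩ := h2t ⟨u₁, a1⟩ ⟨u₂, a2⟩ ⟨v₁, b1⟩ ⟨v₂, b2⟩
      (fun e => hu (congrArg Subtype.val e)) (fun e => hv (congrArg Subtype.val e))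
    exact ⟨h.1, fun x hx => (mem_fixingSubgroup_iff G).mp h.2 x hx,
      congrArg Subtype.val h1, congrArg Subtype.val h2'⟩
  rcases m with _ | n
  · have hs : s = ∅ := (Set.ncard_eq_zero s.toFinite).mp hsm
    rw [MulAction.is_two_pretransitive_iff]
    intro a b c d hab hcd
    obtain ⟨h, -, h1, h2'⟩ := hfix2 a b c d (by simp [hs]) (by simp [hs]) (by simp [hs]) (by simp [hs]) hab hcd
    exact ⟨h, h1, h2'⟩
  have hprim : MulAction.IsPreprimitive (fixingSubgroup G s) (SubMulAction.ofFixingSubgroup G s) :=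
    MulAction.isPreprimitive_of_is_two_pretransitive h2
  have hk : MulAction.IsMultiplyPretransitive G α (n + 2) :=
    (hG.isMultiplyPreprimitive hsm (by rw [Nat.card_eq_fintype_card]; omega) hprim).isMultiplyPretransitive
  apply Cfsg.Agent.Lib.Perm.isMultiplyPretransitive_of_fixing
  intro t ht a b ha hb
  rcases Nat.lt_or_ge t.card (n + 2) with ht' | ht'
  · obtain ⟨g, hg⟩ := Cfsg.Agent.Lib.Perm.exists_smul_of_injOn hk (by rw [Nat.card_eq_fintype_card]; omega)
      (insert a t) (le_trans (Finset.card_insert_le _ _) (by omega))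
      (fun x => if x = a then b else x) (by
        intro x hx y hy hxy
        simp only [Finset.coe_insert, Set.mem_insert_iff, Finset.mem_coe] at hx hy
        by_cases hxa : x = a <;> by_cases hya : y = a
        · rw [hxa, hya]
        · simp only [if_pos hxa, if_neg hya] at hxy
          exact absurd (hxy ▸ hy.resolve_left hya) hb
        · simp only [if_neg hxa, if_pos hya] at hxy
          exact absurd (hxy ▸ hx.resolve_left hxa) hb
        · simpa [hxa, hya] using hxy)
    refine ⟨g, fun x hx => ?_, ?_⟩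
    · rw [hg x (Finset.mem_insert_of_mem hx), if_neg]
      rintro rfl; exact ha hx
    · rw [hg a (Finset.mem_insert_self a t), if_pos rfl]
  · obtain ⟨d, hd⟩ := Finset.card_pos.mp (show 0 < t.card by omega)
    have hts : (t.erase d).card = s.toFinset.card := by
      rw [Finset.card_erase_of_mem hd, ← Set.ncard_eq_toFinset_card', hsm]; omega
    let e := Finset.equivOfCardEq hts
    obtain ⟨g, hg⟩ := Cfsg.Agent.Lib.Perm.exists_smul_of_injOn hk (by rw [Nat.card_eq_fintype_card]; omega)
      (t.erase d) (by rw [Finset.card_erase_of_mem hd]; omega)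
      (fun x => if hx : x ∈ t.erase d then (e ⟨x, hx⟩ : α) else x) (by
        intro x hx y hy hxy
        rw [Finset.mem_coe] at hx hy
        simp only [dif_pos hx, dif_pos hy] at hxy
        exact congrArg Subtype.val (e.injective (Subtype.ext hxy)))
    have hns : ∀ x, x ∉ t.erase d → g • x ∉ s := by
      intro x hx hgx
      let y := e.symm ⟨g • x, Set.mem_toFinset.mpr hgx⟩
      have hy : g • (y : α) = g • x := by
        rw [hg y y.2, dif_pos y.2]
        simp [y]
      exact hx (smul_left_cancel g hy ▸ y.2)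
    have had : a ≠ d := fun h => ha (h ▸ hd)
    have hbd : b ≠ d := fun h => hb (h ▸ hd)
    obtain ⟨h, hh, h1, h2'⟩ := hfix2 (g • d) (g • a) (g • d) (g • b) (hns d (by simp))
      (hns a (by simp [ha])) (hns d (by simp)) (hns b (by simp [hb]))
      (fun e => had.symm (smul_left_cancel g e)) (fun e => hbd.symm (smul_left_cancel g e))
    refine ⟨g⁻¹ * h * g, fun x hx => ?_, by rw [mul_smul, mul_smul, h2', inv_smul_smul]⟩
    rw [mul_smul, mul_smul, inv_smul_eq_iff]
    by_cases hxd : x = d
    · rw [hxd, h1]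
    · refine hh _ ?_
      have hx' : x ∈ t.erase d := Finset.mem_erase.mpr ⟨hxd, hx⟩
      rw [hg x hx', dif_pos hx']
      exact Set.mem_toFinset.mp (e ⟨x, hx'⟩).2

end Cfsg.Agent.S0712
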