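import Cfsg.Statements.S0714
import Mathlib

set_option autoImplicit false
open Cfsg

namespace Cfsg.Agent.S0714

/-- Over any field, the permutation module of the alternating group of degree at least 5 has exactly four invariant subspaces: zero, the constant functions, the functions with coordinate sum zero, and everything. -/
theorem result {α : Type*} [Fintype α] [DecidableEq α] (hα : 5 ≤ Fintype.card α) {K : Type*} [Field K] (W : Subrepresentation (Cfsg.permRep K (alternatingGroup α) α)) : W.toSubmodule = ⊥ ∨ W = Cfsg.permConstants K (alternatingGroup α) α ∨ W = Cfsg.permSumZero K (alternatingGroup α) α ∨ W.toSubmodule = ⊤ := by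
  let M := W.toSubmodule
  have hinv : ∀ σ : Equiv.Perm α, σ ∈ alternatingGroup α → ∀ v ∈ M, (fun x => v (σ x)) ∈ M := by
    intro σ hσ v hv
    have h := W.apply_mem_toSubmodule (⟨σ, hσ⟩ : alternatingGroup α)⁻¹ hv
    have he : (fun x => v (σ x)) =
        Cfsg.permRep K (alternatingGroup α) α (⟨σ, hσ⟩ : alternatingGroup α)⁻¹ v := by
      funext x
      simp [Cfsg.permRep]
    rw [he]; exact h
  by_cases hconst : ∀ f ∈ M, ∀ a b, f a = f b
  · have hle : M ≤ (Cfsg.permConstants K (alternatingGroup α) α).toSubmodule := by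
      intro f hf
      obtain ⟨a⟩ : Nonempty α := Fintype.card_pos_iff.mp (by omega)
      exact Submodule.mem_span_singleton.mpr ⟨f a, funext fun x => by simp [hconst f hf a x]⟩
    by_cases hbot : M = ⊥
    · exact Or.inl hbot
    refine Or.inr (Or.inl (Subrepresentation.toSubmodule_injective (le_antisymm hle ?_)))
    obtain ⟨f, hf, hf0⟩ := (Submodule.ne_bot_iff M).mp hbot
    obtain ⟨c, hc⟩ := Submodule.mem_span_singleton.mp (hle hf)
    refine Submodule.span_le.mpr ?_
    rintro _ rfl
    have hc0 : c ≠ 0 := by rintro rfl; exact hf0 (by rw [← hc, zero_smul])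
    have := M.smul_mem c⁻¹ hf
    rwa [← hc, smul_smul, inv_mul_cancel₀ hc0, one_smul] at this
  push Not at hconst
  obtain ⟨f, hf, a, b, hab⟩ := hconst
  have hab' : a ≠ b := fun h => hab (h ▸ rfl)
  obtain ⟨T, hTsub, hT⟩ := Finset.exists_subset_card_eq (s := ({a, b} : Finset α)ᶜ) (n := 3)
    (by rw [Finset.card_compl, Finset.card_pair hab']; omega)
  obtain ⟨c, d, e, hcd, hce, hde, rfl⟩ := Finset.card_eq_three.mp hT
  simp only [Finset.insert_subset_iff, Finset.singleton_subset_iff, Finset.mem_compl,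
    Finset.mem_insert, Finset.mem_singleton, not_or] at hTsub
  obtain ⟨⟨hca', hcb'⟩, ⟨hda', hdb'⟩, hea', heb'⟩ := hTsub
  have hca : c ≠ a := hca'
  have hcb : c ≠ b := hcb'
  have hda : d ≠ a := hda'
  have hdb : d ≠ b := hdb'
  have hea : e ≠ a := hea'
  have heb : e ≠ b := heb'
  have hev : ∀ x y z t : α, x ≠ y → z ≠ t → Equiv.swap x y * Equiv.swap z t ∈ alternatingGroup α := by
    intro x y z t h1 h2
    rw [Equiv.Perm.mem_alternatingGroup, map_mul, Equiv.Perm.sign_swap h1, Equiv.Perm.sign_swap h2]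
    decide
  let w : α → α → α → α → K := fun x y z =>
    Pi.single x 1 + Pi.single y 1 - (2 : K) • Pi.single z 1
  have hwmem : w a e b ∈ M := by
    let v : α → K := f - fun x => f ((Equiv.swap a b * Equiv.swap c d) x)
    have hv : v ∈ M := M.sub_mem hf (hinv _ (hev a b c d hab' hcd) f hf)
    have hu : v + (fun x => v ((Equiv.swap c d * Equiv.swap a e) x)) ∈ M :=
      M.add_mem hv (hinv _ (hev c d a e hcd (Ne.symm hea)) v hv)
    have hva : v a = f a - f b := by
      simp [v, Equiv.swap_apply_of_ne_of_ne, hca.symm, hda.symm]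
    have hvb : v b = f b - f a := by
      simp [v, Equiv.swap_apply_of_ne_of_ne, hcb.symm, hdb.symm]
    have hvc : v c = f c - f d := by
      simp [v, Equiv.swap_apply_of_ne_of_ne, hda, hdb]
    have hvd : v d = f d - f c := by
      simp [v, Equiv.swap_apply_of_ne_of_ne, hca, hcb]
    have hvo : ∀ x, x ≠ a → x ≠ b → x ≠ c → x ≠ d → v x = 0 := by
      intro x h1 h2 h3 h4
      simp [v, Equiv.swap_apply_of_ne_of_ne, h1, h2, h3, h4]
    have hve : v e = 0 := hvo e hea heb (Ne.symm hce) (Ne.symm hde)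
    have heq : v + (fun x => v ((Equiv.swap c d * Equiv.swap a e) x)) = (f a - f b) • w a e b := by
      funext x
      rcases eq_or_ne x a with rfl | hxa
      · simp [w, Equiv.swap_apply_of_ne_of_ne, Ne.symm hce, Ne.symm hde, hva, hve, hab', hea.symm]
      rcases eq_or_ne x b with rfl | hxb
      · simp [w, Equiv.swap_apply_of_ne_of_ne, hxa, heb.symm, Ne.symm hcb, Ne.symm hdb, hvb]
        ring
      rcases eq_or_ne x e with rfl | hxe
      · simp [w, Equiv.swap_apply_of_ne_of_ne, hca.symm, hda.symm, hva, hve, hxa, hxb]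
      rcases eq_or_ne x c with rfl | hxc
      · simp [w, Equiv.swap_apply_of_ne_of_ne, hxa, hxe, hvc, hvd, hxb]
      rcases eq_or_ne x d with rfl | hxd
      · simp [w, Equiv.swap_apply_of_ne_of_ne, hxa, hxe, hvc, hvd, hxb]
      simp [w, Equiv.swap_apply_of_ne_of_ne, hxa, hxe, hxb, hxc, hxd, hvo x hxa hxb hxc hxd]
    rw [heq] at hu
    have := M.smul_mem (f a - f b)⁻¹ hu
    rwa [smul_smul, inv_mul_cancel₀ (sub_ne_zero.mpr hab), one_smul] at this
  have h3 : MulAction.IsMultiplyPretransitive (alternatingGroup α) α 3 := by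
    have := alternatingGroup.isMultiplyPretransitive α
    exact MulAction.isMultiplyPretransitive_of_le (n := Nat.card α - 2)
      (by rw [Nat.card_eq_fintype_card]; omega) (by simp)
  have hwall : ∀ x y z, x ≠ y → x ≠ z → y ≠ z → w x y z ∈ M := by
    intro x y z hxy hxz hyz
    let p : Fin 3 ↪ α := ⟨![x, y, z], by
      intro i j; fin_cases i <;> fin_cases j <;> simp [hxy, hxy.symm, hxz, hxz.symm, hyz, hyz.symm]⟩
    let q : Fin 3 ↪ α := ⟨![a, e, b], by
      intro i j; fin_cases i <;> fin_cases j <;> simp [hab', hab'.symm, hea, hea.symm, heb, heb.symm]⟩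
    obtain ⟨σ, hσ⟩ := h3.exists_smul_eq p q
    have hx : (σ : Equiv.Perm α) x = a := DFunLike.congr_fun hσ 0
    have hy : (σ : Equiv.Perm α) y = e := DFunLike.congr_fun hσ 1
    have hz : (σ : Equiv.Perm α) z = b := DFunLike.congr_fun hσ 2
    have := hinv σ σ.2 _ hwmem
    have heq : (fun t => w a e b ((σ : Equiv.Perm α) t)) = w x y z := by
      funext t
      simp only [w, Pi.add_apply, Pi.sub_apply, Pi.smul_apply, Pi.single_apply, ← hx, ← hy, ← hz,
        EmbeddingLike.apply_eq_iff_eq]
    rwa [heq] at this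
  have hdiff : ∀ x y : α, Pi.single x (1 : K) - Pi.single y 1 ∈ M := by
    intro x y
    rcases eq_or_ne x y with rfl | hxy
    · simp
    obtain ⟨T, hTsub, hT⟩ := Finset.exists_subset_card_eq (s := ({x, y} : Finset α)ᶜ) (n := 2)
      (by rw [Finset.card_compl, Finset.card_pair hxy]; omega)
    obtain ⟨s, t, hst, rfl⟩ := Finset.card_eq_two.mp hT
    simp only [Finset.insert_subset_iff, Finset.singleton_subset_iff, Finset.mem_compl,
      Finset.mem_insert, Finset.mem_singleton, not_or] at hTsub
    obtain ⟨⟨hsx', hsy'⟩, htx', hty'⟩ := hTsub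
    have hsx : s ≠ x := hsx'
    have hsy : s ≠ y := hsy'
    have htx : t ≠ x := htx'
    have hty : t ≠ y := hty'
    have := M.sub_mem (hwall x s t hsx.symm htx.symm hst) (hwall y s t hsy.symm hty.symm hst)
    have heq : w x s t - w y s t = Pi.single x (1 : K) - Pi.single y 1 := by simp only [w]; abel
    rwa [heq] at this
  obtain ⟨x₀⟩ : Nonempty α := Fintype.card_pos_iff.mp (by omega)
  have hsz : ∀ v : α → K, ∑ x, v x = 0 → v ∈ M := by
    intro v hv
    have heq : v = ∑ x, v x • (Pi.single x (1 : K) - Pi.single x₀ 1) := by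
      simp only [smul_sub, Finset.sum_sub_distrib, ← Finset.sum_smul, hv, zero_smul, sub_zero]
      exact pi_eq_sum_univ' v
    rw [heq]
    exact M.sum_mem fun x _ => M.smul_mem _ (hdiff x x₀)
  by_cases hall : ∀ v ∈ M, ∑ x, v x = 0
  · exact Or.inr (Or.inr (Or.inl (Subrepresentation.toSubmodule_injective
      (le_antisymm (fun v hv => hall v hv) hsz))))
  push Not at hall
  obtain ⟨m, hm, hms⟩ := hall
  refine Or.inr (Or.inr (Or.inr ((Submodule.eq_top_iff' (p := M)).mpr fun v => ?_)))
  have h1 : v - ((∑ x, v x) / ∑ x, m x) • m ∈ M := by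
    apply hsz
    simp only [Pi.sub_apply, Pi.smul_apply, smul_eq_mul, Finset.sum_sub_distrib, ← Finset.mul_sum]
    rw [div_mul_cancel₀ _ hms, sub_self]
  simpa using M.add_mem h1 (M.smul_mem ((∑ x, v x) / ∑ x, m x) hm)

end Cfsg.Agent.S0714
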