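import Cfsg.Statements.S0716
import Mathlib
import Cfsg.Agent.Lib.Perm.Subdegree

set_option autoImplicit false
open Cfsg
open Cfsg.Agent.Lib.Perm.CentraliserRing Cfsg.Agent.Lib.Chars

namespace Cfsg.Agent.S0716

/-- (a) If all non-principal irreducible constituents of the permutation character of a transitive group have the same degree `f`, the character is multiplicity-free and all non-trivial subdegrees equal `f`. (b) A transitive group of rank at most 5 has multiplicity-free permutation character. -/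
theorem result {G : Type*} [Group G] [Fintype G] {Ω : Type*} [Fintype Ω] [MulAction G Ω] [MulAction.IsPretransitive G Ω] (a : Ω) : ((f : ℕ) → (∀ χ : G → ℂ, Cfsg.IsIrrCharacter G χ → χ ≠ (fun _ => 1) → Cfsg.classInner (fun g : G => (Nat.card (MulAction.fixedBy Ω g) : ℂ)) χ ≠ 0 → χ 1 = f) → (∀ χ : G → ℂ, Cfsg.IsIrrCharacter G χ → Cfsg.classInner (fun g : G => (Nat.card (MulAction.fixedBy Ω g) : ℂ)) χ = 0 ∨ Cfsg.classInner (fun g : G => (Nat.card (MulAction.fixedBy Ω g) : ℂ)) χ = 1) ∧ ∀ b : Ω, b ≠ a → Nat.card (MulAction.orbit (MulAction.stabilizer G a) b) = f) ∧ (Nat.card (MulAction.orbitRel.Quotient (MulAction.stabilizer G a) Ω) ≤ 5 → ∀ χ : G → ℂ, Cfsg.IsIrrCharacter G χ → Cfsg.classInner (fun g : G => (Nat.card (MulAction.fixedBy Ω g) : ℂ)) χ = 0 ∨ Cfsg.classInner (fun g : G => (Nat.card (MulAction.fixedBy Ω g) : ℂ)) χ = 1) := by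
  classical
  have : Nonempty Ω := ⟨a⟩
  have mainA : ∀ f : ℕ, (∀ χ : IrrCharacter G, χ ≠ trivialIrr G → mult (Cfsg.permRep ℂ G Ω) χ ≠ 0 →
      (χ : G → ℂ) 1 = f) → (∀ χ : IrrCharacter G, mult (Cfsg.permRep ℂ G Ω) χ ≤ 1) ∧
      ∀ b : Ω, b ≠ a → Nat.card (MulAction.orbit (MulAction.stabilizer G a) b) = f := by
    intro f hf
    let m : IrrCharacter G → ℕ := mult (Cfsg.permRep ℂ G Ω)
    let Q := MulAction.orbitRel.Quotient (MulAction.stabilizer G a) Ω
    have : Fintype Q := Fintype.ofFinite _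
    let q₀ : Q := Quotient.mk'' a
    let sz : Q → ℕ := fun q => Nat.card q.orbit
    have hdvd : ∀ b : Ω, b ≠ a → f ∣ Nat.card (MulAction.orbit (MulAction.stabilizer G a) b) :=
      fun b hb => dvd_subdegree f (fun χ h1 h2 => ⟨1, by rw [hf χ h1 h2]; simp⟩) hb
    have hne : ∀ q : Q, q ≠ q₀ → f ≤ sz q := by
      intro q hq
      induction q using Quotient.inductionOn' with
      | h b =>
        have hb : b ≠ a := fun h => hq (by rw [h])
        simp only [sz, MulAction.orbitRel.Quotient.orbit_mk]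
        exact Nat.le_of_dvd ((Nat.card_pos_iff).mpr ⟨⟨⟨b, MulAction.mem_orbit_self b⟩⟩, inferInstance⟩) (hdvd b hb)
    have h0 : sz q₀ = 1 := by
      simp only [sz, q₀, MulAction.orbitRel.Quotient.orbit_mk]
      rw [Nat.card_eq_one_iff_unique]
      refine ⟨⟨?_⟩, ⟨⟨a, MulAction.mem_orbit_self a⟩⟩⟩
      rintro ⟨x, g, rfl⟩ ⟨y, g', rfl⟩
      exact Subtype.ext (g.2.trans g'.2.symm)
    have hΩ : Fintype.card Ω = ∑ q : Q, sz q := by
      rw [← Nat.card_eq_fintype_card, Nat.card_congr (MulAction.selfEquivSigmaOrbits' (MulAction.stabilizer G a) Ω),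
        Nat.card_sigma]
    have htriv : m (trivialIrr G) = 1 := mult_trivial
    have hn : Fintype.card Ω = 1 + f * ∑ χ ∈ Finset.univ.erase (trivialIrr G), m χ := by
      apply Nat.cast_injective (R := ℂ)
      rw [card_eq_sum_mult (G := G), ← Finset.add_sum_erase _ _ (Finset.mem_univ (trivialIrr G)),
        show mult (Cfsg.permRep ℂ G Ω) (trivialIrr G) = 1 from htriv, Nat.cast_add, Nat.cast_mul,
        Nat.cast_sum, Finset.mul_sum]
      congr 1
      · simp
      · refine Finset.sum_congr rfl fun χ hχ => ?_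
        rcases Nat.eq_zero_or_pos (m χ) with h | h
        · simp [show mult (Cfsg.permRep ℂ G Ω) χ = 0 from h, h]
        · rw [hf χ (Finset.ne_of_mem_erase hχ) h.ne']; ring
    have hr : Fintype.card Q = 1 + ∑ χ ∈ Finset.univ.erase (trivialIrr G), m χ * m χ := by
      rw [← Nat.card_eq_fintype_card, ← sum_mult_sq (G := G) a,
        ← Finset.add_sum_erase _ _ (Finset.mem_univ (trivialIrr G))]
      simp [m, show mult (Cfsg.permRep ℂ G Ω) (trivialIrr G) = 1 from htriv]
    rw [hΩ, ← Finset.add_sum_erase _ _ (Finset.mem_univ q₀), h0, add_right_inj] at hn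
    have hcardQ : (Finset.univ.erase q₀).card = ∑ χ ∈ Finset.univ.erase (trivialIrr G), m χ * m χ := by
      rw [Finset.card_erase_of_mem (Finset.mem_univ _), Finset.card_univ, hr]; omega
    have hle : ∑ χ ∈ Finset.univ.erase (trivialIrr G), m χ ≤ ∑ χ ∈ Finset.univ.erase (trivialIrr G), m χ * m χ :=
      Finset.sum_le_sum fun χ _ => Nat.le_mul_self _
    have hge : f * ∑ χ ∈ Finset.univ.erase (trivialIrr G), m χ * m χ ≤
        f * ∑ χ ∈ Finset.univ.erase (trivialIrr G), m χ := by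
      rw [← hn, ← hcardQ, mul_comm, ← smul_eq_mul]
      exact Finset.card_nsmul_le_sum _ _ _ fun q hq => hne q (Finset.ne_of_mem_erase hq)
    rcases Nat.eq_zero_or_pos f with hf0 | hfpos
    · subst hf0
      have hmz : ∀ χ : IrrCharacter G, χ ≠ trivialIrr G → m χ = 0 := by
        intro χ hχ
        by_contra h
        exact irr_apply_one_ne_zero χ (by simpa using hf χ hχ h)
      refine ⟨fun χ => ?_, fun b hb => Nat.eq_zero_of_zero_dvd (hdvd b hb)⟩
      by_cases hχ : χ = trivialIrr G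
      · subst hχ; exact htriv.le
      · exact (hmz χ hχ).le.trans zero_le_one
    have heq := le_antisymm hle (Nat.le_of_mul_le_mul_left hge hfpos)
    have hm1 : ∀ χ : IrrCharacter G, m χ ≤ 1 := by
      intro χ
      by_cases hχ : χ = trivialIrr G
      · subst hχ; exact htriv.le
      · have := (Finset.sum_eq_sum_iff_of_le (fun χ _ => Nat.le_mul_self (m χ))).mp heq χ
          (Finset.mem_erase.mpr ⟨hχ, Finset.mem_univ _⟩)
        by_contra h
        push Not at h
        nlinarith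
    refine ⟨hm1, fun b hb => ?_⟩
    have hb' : (Quotient.mk'' b : Q) ≠ q₀ := by
      intro h
      obtain ⟨g, hg⟩ := Quotient.eq''.mp h
      exact hb (hg.symm.trans g.2)
    have hall := (Finset.sum_eq_sum_iff_of_le (f := fun _ : Q => f) (g := sz)
      (fun q hq => hne q (Finset.ne_of_mem_erase hq))).mp
      (by rw [Finset.sum_const, smul_eq_mul, hcardQ, hn, heq, mul_comm]) (Quotient.mk'' b)
      (Finset.mem_erase.mpr ⟨hb', Finset.mem_univ _⟩)
    simpa only [sz, MulAction.orbitRel.Quotient.orbit_mk] using hall.symm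
  have conv : ∀ χ (hχ : Cfsg.IsIrrCharacter G χ),
      mult (Cfsg.permRep ℂ G Ω) ⟨χ, hχ⟩ ≤ 1 →
      Cfsg.classInner (fun g : G => (Nat.card (MulAction.fixedBy Ω g) : ℂ)) χ = 0 ∨
      Cfsg.classInner (fun g : G => (Nat.card (MulAction.fixedBy Ω g) : ℂ)) χ = 1 := by
    intro χ hχ h
    rw [show Cfsg.classInner (fun g : G => (Nat.card (MulAction.fixedBy Ω g) : ℂ)) χ = _ from
      classInner_permChar_eq_mult (Ω := Ω) ⟨χ, hχ⟩]
    rcases Nat.le_one_iff_eq_zero_or_eq_one.mp h with h0 | h0 <;> simp [h0]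
  constructor
  · intro f hf
    have h := mainA f (fun χ h1 h2 => hf χ.1 χ.2 (fun e => h1 (Subtype.ext e)) (by
      rw [classInner_permChar_eq_mult χ]; exact_mod_cast h2))
    exact ⟨fun χ hχ => conv χ hχ (h.1 _), h.2⟩
  · intro hrk χ₀ hχ₀
    apply conv χ₀ hχ₀
    by_contra hbig
    push Not at hbig
    rw [← sum_mult_sq (G := G) a] at hrk
    have hne0 : (⟨χ₀, hχ₀⟩ : IrrCharacter G) ≠ trivialIrr G := by
      intro h
      rw [h, mult_trivial] at hbig; omega
    obtain ⟨f, -, hdeg⟩ := isIrrCharacter_exists_degree_pos hχ₀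
    have honly : ∀ ψ : IrrCharacter G, ψ ≠ trivialIrr G → mult (Cfsg.permRep ℂ G Ω) ψ ≠ 0 → ψ = ⟨χ₀, hχ₀⟩ := by
      intro ψ h1 h2
      by_contra h3
      have h4 := Finset.sum_le_univ_sum_of_nonneg (f := fun χ => mult (Cfsg.permRep ℂ G Ω) χ * mult (Cfsg.permRep ℂ G Ω) χ)
        (s := {trivialIrr G, ψ, ⟨χ₀, hχ₀⟩}) (fun _ => Nat.zero_le _)
      rw [Finset.sum_insert (by simp [Ne.symm h1, Ne.symm hne0]), Finset.sum_pair h3, mult_trivial] at h4
      have : 1 ≤ mult (Cfsg.permRep ℂ G Ω) ψ * mult (Cfsg.permRep ℂ G Ω) ψ :=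
        Nat.one_le_iff_ne_zero.mpr (mul_ne_zero h2 h2)
      nlinarith
    have h := (mainA f (fun ψ h1 h2 => by rw [honly ψ h1 h2]; exact hdeg)).1 ⟨χ₀, hχ₀⟩
    omega

end Cfsg.Agent.S0716
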