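import Cfsg.Statements.S0717
import Mathlib
import Cfsg.Agent.Lib.Perm.SelfPaired

set_option autoImplicit false
open Cfsg
open Cfsg.Agent.Lib.Perm.CentraliserRing Cfsg.Agent.Lib.Chars

namespace Cfsg.Agent.S0717

/-- All suborbits of a transitive group are self-paired (every pair of points is interchanged by some group element) if and only if the permutation character is multiplicity-free and each of its irreducible constituents is real-valued. -/
theorem result {G : Type*} [Group G] [Fintype G] {Ω : Type*} [Fintype Ω] [MulAction G Ω] [MulAction.IsPretransitive G Ω] : (∀ a b : Ω, ∃ g : G, g • a = b ∧ g • b = a) ↔ ∀ χ : G → ℂ, Cfsg.IsIrrCharacter G χ → Cfsg.classInner (fun g : G => (Nat.card (MulAction.fixedBy Ω g) : ℂ)) χ ≠ 0 → Cfsg.classInner (fun g : G => (Nat.card (MulAction.fixedBy Ω g) : ℂ)) χ = 1 ∧ ∀ g : G, (starRingEnd ℂ) (χ g) = χ g := by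
  classical
  have htr : ∀ B : Module.End ℂ (Ω → ℂ), LinearMap.trace ℂ (Ω → ℂ) B = (LinearMap.toMatrix' B).trace := fun B => by
    rw [LinearMap.trace_eq_matrix_trace ℂ (Pi.basisFun ℂ Ω), LinearMap.toMatrix_eq_toMatrix']
  constructor
  · intro hsp χ hχ hne
    have hmf : ∀ ψ, mult (Cfsg.permRep ℂ G Ω) ψ ≤ 1 := multFree_of_commute _ (fun A B hA hB => by
      apply LinearMap.toMatrix'.injective
      have hAB : IsEquivariant G (Cfsg.permRep ℂ G Ω) (A ∘ₗ B) := fun g => by
        rw [LinearMap.comp_assoc, hB g, ← LinearMap.comp_assoc, hA g, LinearMap.comp_assoc]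
      have h1 := isSymm_of_selfPaired hsp hAB
      rw [LinearMap.toMatrix'_comp, Matrix.transpose_mul, isSymm_of_selfPaired hsp hA,
        isSymm_of_selfPaired hsp hB] at h1
      rw [LinearMap.toMatrix'_comp, LinearMap.toMatrix'_comp]
      exact h1.symm)
    let χ' : IrrCharacter G := ⟨χ, hχ⟩
    have hm1 : mult (Cfsg.permRep ℂ G Ω) χ' = 1 := by
      refine le_antisymm (hmf χ') (Nat.one_le_iff_ne_zero.mpr fun h => hne ?_)
      have := classInner_permChar_eq_mult (Ω := Ω) χ'
      rw [h, Nat.cast_zero] at this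
      exact this
    refine ⟨by simpa [hm1] using classInner_permChar_eq_mult (Ω := Ω) χ', ?_⟩
    -- `χ` is real valued
    let f : G → ℂ := χ - ((irrConj χ' : IrrCharacter G) : G → ℂ)
    have hf : Cfsg.IsClassFunction G f := isClassFunction_sub (irr_isClassFunction χ') (irr_isClassFunction _)
    have hfinv : ∀ g, f g⁻¹ = - f g := fun g => by
      simp only [f, Pi.sub_apply, irrConj_apply]
      rw [show χ g⁻¹ = (starRingEnd ℂ) (χ g) from irr_inv χ' g,
        show (χ' : G → ℂ) g⁻¹ = (starRingEnd ℂ) ((χ' : G → ℂ) g) from irr_inv χ' g,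
        Complex.conj_conj, show (χ' : G → ℂ) g = χ g from rfl]
      ring
    let T := classSumEnd (Cfsg.permRep ℂ G Ω) f
    have hT0 : T = 0 := by
      apply LinearMap.toMatrix'.injective
      have hsym := isSymm_of_selfPaired hsp (A := T) (fun g => (classSumEnd_comm _ hf g))
      have hanti : (LinearMap.toMatrix' T).transpose = - LinearMap.toMatrix' T := by
        simp only [T, classSumEnd, map_sum, map_smul, Matrix.transpose_sum, Matrix.transpose_smul,
          transpose_toMatrix'_permRep, inv_inv, ← Finset.sum_neg_distrib]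
        refine Fintype.sum_equiv (Equiv.inv G) _ _ fun g => ?_
        simp [hfinv]
      rw [hsym] at hanti
      rw [map_zero]
      ext x y
      have := congrFun (congrFun hanti x) y
      simp only [Matrix.neg_apply] at this
      simp only [Matrix.zero_apply]
      linear_combination this / 2
    obtain ⟨n, σ, hσ, hc⟩ := hχ
    have hfin : Module.finrank ℂ (Representation.IntertwiningMap σ (Cfsg.permRep ℂ G Ω)) = 1 := by
      have h1 := classInner_char_eq_finrank (Cfsg.permRep ℂ G Ω) σ
      rw [hc, show Cfsg.classInner (Cfsg.permRep ℂ G Ω).character χ = _ from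
        classInner_eq_mult (Cfsg.permRep ℂ G Ω) χ', hm1] at h1
      exact_mod_cast h1.symm
    have : Nontrivial (Representation.IntertwiningMap σ (Cfsg.permRep ℂ G Ω)) := by
      by_contra hn
      rw [not_nontrivial_iff_subsingleton] at hn
      rw [Module.finrank_zero_of_subsingleton] at hfin
      omega
    obtain ⟨i, hi⟩ := exists_ne (0 : Representation.IntertwiningMap σ (Cfsg.permRep ℂ G Ω))
    have hinj := (Representation.IsIrreducible.injective_or_eq_zero i).resolve_right hi
    have hσ0 : classSumEnd σ f = 0 := by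
      refine LinearMap.ext fun u => hinj ?_
      have h2 : i (classSumEnd σ f u) = T (i u) := by
        simp [T, classSumEnd, LinearMap.sum_apply, map_sum, Representation.IntertwiningMap.isIntertwining]
      rw [h2, hT0]
      simp
    have h3 := trace_classSumEnd σ f
    rw [hσ0, map_zero, hc, classInner_sub_left] at h3
    have h4 : Cfsg.classInner χ χ - Cfsg.classInner ((irrConj χ' : IrrCharacter G) : G → ℂ) χ = 0 := by
      have h3' := h3.symm
      rw [mul_eq_zero] at h3'
      exact h3'.resolve_left natCard_ne_zero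
    have h5 : irrConj χ' = χ' := by
      by_contra h
      rw [show Cfsg.classInner χ χ = 1 from classInner_irr_self χ',
        show Cfsg.classInner ((irrConj χ' : IrrCharacter G) : G → ℂ) χ = 0 from classInner_irr_of_ne h] at h4
      norm_num at h4
    intro g
    have h6 := congrArg (fun ψ : IrrCharacter G => (ψ : G → ℂ) g) h5
    simp only [irrConj_apply] at h6
    simpa [χ'] using h6
  · intro h a b
    have hmf : ∀ ψ, mult (Cfsg.permRep ℂ G Ω) ψ ≤ 1 := fun ψ => by
      by_contra hb
      push Not at hb
      have h1 := classInner_permChar_eq_mult (Ω := Ω) ψ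
      have h2 := (h ψ.1 ψ.2 (by rw [h1]; exact_mod_cast (by omega : mult (Cfsg.permRep ℂ G Ω) ψ ≠ 0))).1
      rw [h1] at h2
      have : mult (Cfsg.permRep ℂ G Ω) ψ = 1 := by exact_mod_cast h2
      omega
    let A : Module.End ℂ (Ω → ℂ) :=
      Matrix.toLin' (orbitalMat G a b) - Matrix.toLin' (orbitalMat G a b).transpose
    have hA : IsEquivariant G (Cfsg.permRep ℂ G Ω) A := by
      rw [isEquivariant_iff_toMatrix]
      intro g x y
      simp [A, LinearMap.toMatrix'_toLin', orbitalMat_smul]
    obtain ⟨c, hc, htrc, hc0⟩ := traceFun_decomp _ hmf A hA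
    have hanti : ∀ g, LinearMap.trace ℂ (Ω → ℂ) (A ∘ₗ Cfsg.permRep ℂ G Ω g⁻¹) =
        - LinearMap.trace ℂ (Ω → ℂ) (A ∘ₗ Cfsg.permRep ℂ G Ω g) := by
      intro g
      rw [htr, htr, LinearMap.toMatrix'_comp, LinearMap.toMatrix'_comp, ← transpose_toMatrix'_permRep,
        ← Matrix.trace_transpose, Matrix.transpose_mul, Matrix.transpose_transpose,
        Matrix.trace_mul_comm, ← Matrix.trace_neg, ← Matrix.neg_mul]
      congr 2
      simp [A, LinearMap.toMatrix'_toLin', Matrix.transpose_sub]
    have hsym : ∀ g, LinearMap.trace ℂ (Ω → ℂ) (A ∘ₗ Cfsg.permRep ℂ G Ω g⁻¹) =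
        LinearMap.trace ℂ (Ω → ℂ) (A ∘ₗ Cfsg.permRep ℂ G Ω g) := by
      intro g
      rw [htrc, htrc]
      refine Finset.sum_congr rfl fun χ _ => ?_
      by_cases hm : mult (Cfsg.permRep ℂ G Ω) χ = 0
      · simp [hc χ hm]
      · rw [irr_inv χ g, (h χ.1 χ.2 (by rw [classInner_permChar_eq_mult χ]; exact_mod_cast hm)).2 g]
    have hzero : ∀ χ, c χ = 0 := by
      have hli := Fintype.linearIndependent_iff.mp (irr_linearIndependent (G := G)) c ?_
      · exact hli
      funext g
      simp only [Finset.sum_apply, Pi.smul_apply, smul_eq_mul, Pi.zero_apply]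
      rw [← htrc]
      linear_combination ((hsym g).symm.trans (hanti g)) / 2
    have hA0 := congrArg LinearMap.toMatrix' (hc0 hzero)
    simp only [A, map_sub, LinearMap.toMatrix'_toLin', map_zero] at hA0
    have h1 := congrFun (congrFun (sub_eq_zero.mp hA0) a) b
    simp only [Matrix.transpose_apply, orbitalMat, Matrix.of_apply] at h1
    rw [if_pos ⟨1, one_smul _ _, one_smul _ _⟩] at h1
    by_contra hno
    rw [if_neg hno] at h1
    exact one_ne_zero h1

end Cfsg.Agent.S0717
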