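import Cfsg.Statements.S0718
import Mathlib
import Cfsg.Agent.Lib.Perm.CentraliserCommutative
import Cfsg.Agent.Lib.Perm.PermMult

set_option autoImplicit false
open Cfsg
open Cfsg.Agent.Lib.Perm.CentraliserRing

namespace Cfsg.Agent.S0718

/-- Multiplicity-freeness of the permutation character is equivalent to commutativity of the centraliser ring, i.e. of the algebra of `G`-equivariant endomorphisms of the complex permutation module. -/
theorem result {G : Type*} [Group G] [Fintype G] {Ω : Type*} [Fintype Ω] [MulAction G Ω] : (∀ χ : G → ℂ, Cfsg.IsIrrCharacter G χ → Cfsg.classInner (fun g : G => (Nat.card (MulAction.fixedBy Ω g) : ℂ)) χ = 0 ∨ Cfsg.classInner (fun g : G => (Nat.card (MulAction.fixedBy Ω g) : ℂ)) χ = 1) ↔ ∀ S T : (Ω → ℂ) →ₗ[ℂ] (Ω → ℂ), S ∈ ((Cfsg.permRep ℂ G Ω).linHom (Cfsg.permRep ℂ G Ω)).invariants → T ∈ ((Cfsg.permRep ℂ G Ω).linHom (Cfsg.permRep ℂ G Ω)).invariants → S ∘ₗ T = T ∘ₗ S := by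
  constructor
  · intro h S T hS hT
    refine commute_of_multFree (Cfsg.permRep ℂ G Ω) (fun χ => ?_) S T
      ((mem_invariants_linHom _ S).mp hS) ((mem_invariants_linHom _ T).mp hT)
    rcases h χ.1 χ.2 with h0 | h1
    · rw [classInner_permChar_eq_mult χ] at h0
      have : mult (Cfsg.permRep ℂ G Ω) χ = 0 := by exact_mod_cast h0
      omega
    · rw [classInner_permChar_eq_mult χ] at h1
      have : mult (Cfsg.permRep ℂ G Ω) χ = 1 := by exact_mod_cast h1
      omega
  · intro h χ hχ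
    have hle := multFree_of_commute (Cfsg.permRep ℂ G Ω)
      (fun A B hA hB => h A B ((mem_invariants_linHom _ A).mpr hA) ((mem_invariants_linHom _ B).mpr hB)) ⟨χ, hχ⟩
    rw [show Cfsg.classInner (fun g : G => (Nat.card (MulAction.fixedBy Ω g) : ℂ)) χ = _ from
      classInner_permChar_eq_mult (Ω := Ω) ⟨χ, hχ⟩]
    rcases Nat.le_one_iff_eq_zero_or_eq_one.mp hle with h0 | h0 <;> simp [h0]

end Cfsg.Agent.S0718
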