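import Cfsg.Statements.S0719
import Mathlib
import Mathlib
import Cfsg.Agent.Lib.Perm.RankThreeChar

set_option autoImplicit false
open Cfsg

namespace Cfsg.Agent.S0719


/-- The three suborbits. -/
theorem exists_suborbits {G Ω : Type*} [Group G] [MulAction G Ω] [Fintype Ω] (a₀ : Ω)
    (hrank : Nat.card (MulAction.orbitRel.Quotient (MulAction.stabilizer G a₀) Ω) = 3) :
    ∃ b₁ b₂ : Ω, b₁ ≠ a₀ ∧ b₂ ≠ a₀ ∧
      MulAction.orbit (MulAction.stabilizer G a₀) b₁ ≠ MulAction.orbit (MulAction.stabilizer G a₀) b₂ ∧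
      (∀ b, b ≠ a₀ → MulAction.orbit (MulAction.stabilizer G a₀) b = MulAction.orbit (MulAction.stabilizer G a₀) b₁ ∨
        MulAction.orbit (MulAction.stabilizer G a₀) b = MulAction.orbit (MulAction.stabilizer G a₀) b₂) ∧
      (MulAction.orbit (MulAction.stabilizer G a₀) b₁).ncard + (MulAction.orbit (MulAction.stabilizer G a₀) b₂).ncard + 1 =
        Fintype.card Ω := by
  classical
  set H := MulAction.stabilizer G a₀
  let := Fintype.ofFinite (MulAction.orbitRel.Quotient H Ω)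
  let π : Ω → MulAction.orbitRel.Quotient H Ω := fun b => Quotient.mk (MulAction.orbitRel H Ω) b
  have hπ : ∀ x y, π x = π y ↔ MulAction.orbit H x = MulAction.orbit H y := fun x y => by
    rw [MulAction.orbit_eq_iff, ← MulAction.orbitRel_apply]
    exact Quotient.eq''
  have hbase : MulAction.orbit H a₀ = {a₀} := by
    ext x
    rw [Set.mem_singleton_iff]
    constructor
    · rintro ⟨h, rfl⟩; exact h.2
    · rintro rfl; exact MulAction.mem_orbit_self _
  have hcard : ((Finset.univ : Finset (MulAction.orbitRel.Quotient H Ω)).erase (π a₀)).card = 2 := by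
    rw [Finset.card_erase_of_mem (Finset.mem_univ _), Finset.card_univ, ← Nat.card_eq_fintype_card, hrank]
  obtain ⟨q₁, q₂, hq, hqs⟩ := Finset.card_eq_two.mp hcard
  obtain ⟨b₁, rfl⟩ := Quotient.mk_surjective q₁
  obtain ⟨b₂, rfl⟩ := Quotient.mk_surjective q₂
  have hb₁ : π b₁ ∈ (Finset.univ.erase (π a₀)) := by rw [hqs]; exact Finset.mem_insert_self _ _
  have hb₂ : π b₂ ∈ (Finset.univ.erase (π a₀)) := by rw [hqs]; exact Finset.mem_insert_of_mem (Finset.mem_singleton_self _)
  have hne₁ : b₁ ≠ a₀ := fun e => (Finset.mem_erase.mp hb₁).1 (by rw [e])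
  have hne₂ : b₂ ≠ a₀ := fun e => (Finset.mem_erase.mp hb₂).1 (by rw [e])
  have hne : MulAction.orbit H b₁ ≠ MulAction.orbit H b₂ := fun e => hq ((hπ _ _).mpr e)
  have hall : ∀ b, b ≠ a₀ → MulAction.orbit H b = MulAction.orbit H b₁ ∨ MulAction.orbit H b = MulAction.orbit H b₂ := by
    intro b hb
    have hmem : π b ∈ (Finset.univ.erase (π a₀)) := Finset.mem_erase.mpr ⟨fun e => hb (by
      have h1 := MulAction.mem_orbit_self (M := H) b
      rw [(hπ _ _).mp e, hbase] at h1
      exact h1), Finset.mem_univ _⟩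
    rw [hqs, Finset.mem_insert, Finset.mem_singleton] at hmem
    rcases hmem with h | h
    · exact Or.inl ((hπ _ _).mp h)
    · exact Or.inr ((hπ _ _).mp h)
  refine ⟨b₁, b₂, hne₁, hne₂, hne, hall, ?_⟩
  have hdisj : Disjoint (MulAction.orbit H b₁) (MulAction.orbit H b₂) :=
    Set.disjoint_left.mpr fun x h1 h2 => hne ((MulAction.orbit_eq_iff.mpr h1).symm.trans (MulAction.orbit_eq_iff.mpr h2))
  rw [← Set.ncard_union_eq hdisj]
  have hU : MulAction.orbit H b₁ ∪ MulAction.orbit H b₂ = {a₀}ᶜ := by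
    ext x
    simp only [Set.mem_union, Set.mem_compl_iff, Set.mem_singleton_iff]
    constructor
    · rintro h rfl
      have key : ∀ b, b ≠ x → x ∉ MulAction.orbit H b := fun b hb hx => hb (by
        have h1 := MulAction.mem_orbit_self (M := H) b
        rw [← MulAction.orbit_eq_iff.mpr hx, hbase] at h1
        exact h1)
      rcases h with h | h
      · exact key b₁ hne₁ h
      · exact key b₂ hne₂ h
    · intro hx
      rcases hall x hx with h | h
      · exact Or.inl (h ▸ MulAction.mem_orbit_self x)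
      · exact Or.inr (h ▸ MulAction.mem_orbit_self x)
  have := Set.ncard_add_ncard_compl ({a₀} : Set Ω)
  rw [Set.ncard_singleton, Nat.card_eq_fintype_card] at this
  rw [hU]; omega

/-- The integral equations force Wielandt's parameters. -/
theorem arith {m k : ℕ} (hk : 1 ≤ k) (hkm : k + 1 ≤ m) (hk1 : k = 1 → False) (σ s t : ℤ)
    (hσ : s + t = σ) (h1 : (k : ℤ) + ((m : ℤ) - 1) * s + m * t = 0)
    (h2 : ((m : ℤ) - 1) * s ^ 2 + m * t ^ 2 = 2 * m * k - k ^ 2) :
    ∃ a : ℕ, 0 < a ∧ m = 2 * a ^ 2 + 2 * a + 1 ∧ k = a * (2 * a + 1) := by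
  have hu : s = k + m * σ := by rw [← hσ]; linarith
  have ht : t = σ - s := by linarith
  have hm1 : (1 : ℤ) ≤ (m : ℤ) - 1 := by omega
  rcases lt_trichotomy σ (-1) with h | h | h
  · exfalso
    have : s ≤ -((m : ℤ) + 1) := by
      have : (m : ℤ) * σ ≤ (m : ℤ) * (-2) := mul_le_mul_of_nonneg_left (by omega) (by omega)
      omega
    have hsq : ((m : ℤ) + 1) ^ 2 ≤ s ^ 2 := by nlinarith
    have hk' : (k : ℤ) ≤ (m : ℤ) - 1 := by omega
    nlinarith [mul_le_mul_of_nonneg_left hsq (by omega : (0 : ℤ) ≤ (m : ℤ) - 1), sq_nonneg t]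
  · subst h
    obtain ⟨w, hw⟩ : ∃ w : ℕ, m = k + w + 1 := ⟨m - k - 1, by omega⟩
    have hs : s = -((w : ℤ) + 1) := by rw [hu, hw]; push_cast; ring
    have ht' : t = (w : ℤ) := by rw [ht, hs]; ring
    rw [hs, ht', hw] at h2
    push_cast at h2
    have hz : ((k + w + 1 : ℕ) : ℤ) = ((2 * w ^ 2 + 2 * w + 1 : ℕ) : ℤ) := by
      push_cast
      have hpos : ((k : ℤ) + w + 1) ≠ 0 := by positivity
      refine mul_left_cancel₀ hpos ?_
      linarith
    have hm' : m = 2 * w ^ 2 + 2 * w + 1 := by rw [hw]; exact_mod_cast hz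
    refine ⟨w, Nat.pos_of_ne_zero fun h0 => ?_, hm', ?_⟩
    · subst h0; omega
    · nlinarith
  · rcases eq_or_lt_of_le (show 0 ≤ σ by omega) with h0 | h0
    · subst h0
      exfalso
      have hs : s = k := by rw [hu]; ring
      have ht' : t = -(k : ℤ) := by rw [ht, hs]; ring
      rw [hs, ht'] at h2
      have h3 : (m : ℤ) * k * ((k : ℤ) - 1) = 0 := by linarith
      rcases mul_eq_zero.mp h3 with h4 | h4
      · rcases mul_eq_zero.mp h4 with h5 | h5 <;> omega
      · exact hk1 (by omega)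
    · exfalso
      have : (m : ℤ) + 1 ≤ s := by
        have : (m : ℤ) * 1 ≤ (m : ℤ) * σ := mul_le_mul_of_nonneg_left (by omega) (by omega)
        omega
      have hsq : ((m : ℤ) + 1) ^ 2 ≤ s ^ 2 := by nlinarith
      have hk' : (k : ℤ) ≤ (m : ℤ) - 1 := by omega
      nlinarith [mul_le_mul_of_nonneg_left hsq (by omega : (0 : ℤ) ≤ (m : ℤ) - 1), sq_nonneg t]


/-- Groups of Wielandt type: if a primitive group of degree `2m` has rank 3 and permutation character `1 + χ₁ + χ₂` with irreducible `χ₁, χ₂` of degrees `m - 1` and `m`, then `m = 2a² + 2a + 1` for some positive integer `a` and the two non-trivial subdegrees are `a(2a+1)` and `(a+1)(2a+1)`. -/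
theorem result {G : Type*} [Group G] [Fintype G] {Ω : Type*} [Fintype Ω] [MulAction G Ω] (hprim : MulAction.IsPreprimitive G Ω) {m : ℕ} (hm : Fintype.card Ω = 2 * m) (a₀ : Ω) (hrank : Nat.card (MulAction.orbitRel.Quotient (MulAction.stabilizer G a₀) Ω) = 3) (χ₁ χ₂ : G → ℂ) (h₁ : Cfsg.IsIrrCharacter G χ₁) (h₂ : Cfsg.IsIrrCharacter G χ₂) (hπ : (fun g : G => (Nat.card (MulAction.fixedBy Ω g) : ℂ)) = fun g => 1 + χ₁ g + χ₂ g) (hd₁ : χ₁ 1 = (m : ℂ) - 1) (hd₂ : χ₂ 1 = m) : ∃ a : ℕ, 0 < a ∧ m = 2 * a ^ 2 + 2 * a + 1 ∧ ∀ b : Ω, b ≠ a₀ → Nat.card (MulAction.orbit (MulAction.stabilizer G a₀) b) = a * (2 * a + 1) ∨ Nat.card (MulAction.orbit (MulAction.stabilizer G a₀) b) = (a + 1) * (2 * a + 1) := by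
  classical
  have : MulAction.IsPretransitive G Ω := hprim.toIsPretransitive
  have : Nonempty Ω := ⟨a₀⟩
  set H := MulAction.stabilizer G a₀ with hH
  have hcardorb : ∀ b : Ω, Nat.card (MulAction.orbit H b) = (MulAction.orbit H b).ncard :=
    fun b => Nat.card_coe_set_eq _
  obtain ⟨b₁, b₂, hb₁, hb₂, hne, hall, hsum, hkl⟩ : ∃ b₁ b₂ : Ω, b₁ ≠ a₀ ∧ b₂ ≠ a₀ ∧
      MulAction.orbit H b₁ ≠ MulAction.orbit H b₂ ∧
      (∀ b, b ≠ a₀ → MulAction.orbit H b = MulAction.orbit H b₁ ∨ MulAction.orbit H b = MulAction.orbit H b₂) ∧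
      (MulAction.orbit H b₁).ncard + (MulAction.orbit H b₂).ncard + 1 = 2 * m ∧
      (MulAction.orbit H b₁).ncard < (MulAction.orbit H b₂).ncard := by
    obtain ⟨b₁, b₂, hb₁, hb₂, hne, hall, hsum⟩ := exists_suborbits a₀ hrank
    rw [hm] at hsum
    have hsum' : (MulAction.orbit H b₁).ncard + (MulAction.orbit H b₂).ncard + 1 = 2 * m := hsum
    rcases Nat.lt_or_ge (MulAction.orbit H b₁).ncard (MulAction.orbit H b₂).ncard with h | h
    · exact ⟨b₁, b₂, hb₁, hb₂, hne, hall, hsum', h⟩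
    · exact ⟨b₂, b₁, hb₂, hb₁, hne.symm, fun b hb => (hall b hb).symm, by omega, by omega⟩
  set k := (MulAction.orbit H b₁).ncard with hk
  set l := (MulAction.orbit H b₂).ncard with hl
  have hk0 : 1 ≤ k := (Set.ncard_pos (Set.toFinite _)).mpr ⟨b₁, MulAction.mem_orbit_self b₁⟩
  -- the orbital graph
  let R : Ω → Ω → Prop := fun x y => ∃ g : G, g • a₀ = x ∧ g • b₁ = y
  have hRinv : ∀ (g : G) x y, R (g • x) (g • y) ↔ R x y := by
    refine fun g x y => ⟨fun ⟨h, h1, h2⟩ => ⟨g⁻¹ * h, ?_, ?_⟩, fun ⟨h, h1, h2⟩ => ⟨g * h, ?_, ?_⟩⟩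
    · rw [mul_smul, h1, inv_smul_smul]
    · rw [mul_smul, h2, inv_smul_smul]
    · rw [mul_smul, h1]
    · rw [mul_smul, h2]
  have hRO : ∀ y, R a₀ y ↔ y ∈ MulAction.orbit H b₁ :=
    fun y => ⟨fun ⟨g, h1, h2⟩ => ⟨⟨g, h1⟩, h2⟩, fun ⟨g, h2⟩ => ⟨g, g.2, h2⟩⟩
  have hirr : ∀ x, ¬ R x x := fun x ⟨g, h1, h2⟩ => hb₁ (smul_left_cancel g (h2.trans h1.symm))
  have hout : ∀ x, (Finset.univ.filter fun y => R x y).card = k := by
    intro x
    obtain ⟨g, rfl⟩ := MulAction.exists_smul_eq G a₀ x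
    rw [← Nat.card_eq_finsetCard, hk, ← Nat.card_coe_set_eq]
    refine Nat.card_congr (Equiv.subtypeEquiv (MulAction.toPerm g⁻¹) fun y => ?_)
    simp only [Finset.mem_filter, Finset.mem_univ, true_and, MulAction.toPerm_apply]
    rw [← hRO, ← hRinv g a₀ (g⁻¹ • y), smul_inv_smul]
  have hin : ∀ x, (Finset.univ.filter fun y => R y x).card = k := by
    have hconst : ∀ x, (Finset.univ.filter fun y => R y x).card = (Finset.univ.filter fun y => R y a₀).card := by
      intro x
      obtain ⟨g, rfl⟩ := MulAction.exists_smul_eq G a₀ x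
      refine (Finset.card_equiv (MulAction.toPerm g) fun y => ?_).symm
      simp only [Finset.mem_filter, Finset.mem_univ, true_and, MulAction.toPerm_apply, hRinv]
    have h := Finset.sum_card_bipartiteAbove_eq_sum_card_bipartiteBelow (s := (Finset.univ : Finset Ω))
      (t := (Finset.univ : Finset Ω)) R
    simp only [Finset.bipartiteAbove, Finset.bipartiteBelow, hout] at h
    rw [Finset.sum_congr rfl fun x _ => hconst x, Finset.sum_const, Finset.sum_const, smul_eq_mul, smul_eq_mul] at h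
    intro x
    rw [hconst, Nat.eq_of_mul_eq_mul_left (Finset.card_pos.mpr ⟨a₀, Finset.mem_univ _⟩) h]
  have hmemH : ∀ (g : H) x, R x a₀ → R ((g : G) • x) a₀ := fun g x h => by
    have := (hRinv (g : G) x a₀).mpr h
    rwa [MulAction.mem_stabilizer_iff.mp g.2] at this
  have hsymm₀ : ∀ y, R y a₀ → R a₀ y := by
    intro y hy
    rw [hRO]
    have hy0 : y ≠ a₀ := fun e => hirr a₀ (e ▸ hy)
    rcases hall y hy0 with h | h
    · exact h ▸ MulAction.mem_orbit_self y
    · exfalso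
      have hle : l ≤ (Finset.univ.filter fun z => R z a₀).card := by
        rw [hl, ← h, Set.ncard_eq_toFinset_card']
        refine Finset.card_le_card fun z hz => ?_
        obtain ⟨g, rfl⟩ := Set.mem_toFinset.mp hz
        exact Finset.mem_filter.mpr ⟨Finset.mem_univ _, hmemH g y hy⟩
      rw [hin] at hle
      omega
  have hsymm : ∀ x y, R x y → R y x := by
    intro x y h
    obtain ⟨g, rfl⟩ := MulAction.exists_smul_eq G a₀ y
    rw [← hRinv g⁻¹, inv_smul_smul]
    refine hsymm₀ _ ?_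
    rw [← hRinv g⁻¹, inv_smul_smul] at h
    exact h
  -- the matrices
  let A : Matrix Ω Ω ℂ := Matrix.of fun x y => if R x y then 1 else 0
  let J : Matrix Ω Ω ℂ := Matrix.of fun _ _ => 1
  have hA : ∀ x y, A x y = if R x y then 1 else 0 := fun _ _ => rfl
  have hJ : ∀ x y : Ω, J x y = 1 := fun _ _ => rfl
  have hcΩ : (Fintype.card Ω : ℂ) = 2 * m := by rw [hm]; push_cast; rfl
  have hAJ : A * J = (k : ℂ) • J := by
    ext x y
    rw [Matrix.mul_apply, Matrix.smul_apply, hJ, smul_eq_mul, mul_one,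
      Finset.sum_congr rfl fun z _ => by rw [hJ, mul_one, hA], Finset.sum_boole, hout]
  have hJA : J * A = (k : ℂ) • J := by
    ext x y
    rw [Matrix.mul_apply, Matrix.smul_apply, hJ, smul_eq_mul, mul_one,
      Finset.sum_congr rfl fun z _ => by rw [hJ, one_mul, hA], Finset.sum_boole, hin]
  have hJJ : J * J = (2 * m : ℂ) • J := by
    ext x y
    rw [Matrix.mul_apply, Matrix.smul_apply, hJ, smul_eq_mul, mul_one,
      Finset.sum_congr rfl fun z _ => by rw [hJ, hJ, mul_one], Finset.sum_const, Finset.card_univ,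
      nsmul_eq_mul, mul_one, hcΩ]
  let c2 : Ω → Ω → ℕ := fun x y => (Finset.univ.filter fun z => R x z ∧ R z y).card
  have hA2 : ∀ x y, (A * A) x y = c2 x y := by
    intro x y
    rw [Matrix.mul_apply, Finset.sum_congr rfl fun z _ => by
      rw [hA, hA, show ((if R x z then (1 : ℂ) else 0) * if R z y then 1 else 0) =
        if R x z ∧ R z y then 1 else 0 by split_ifs <;> simp_all], Finset.sum_boole]
  have hc2inv : ∀ (g : G) x y, c2 (g • x) (g • y) = c2 x y := fun g x y =>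
    (Finset.card_equiv (MulAction.toPerm g) fun z => by
      simp only [Finset.mem_filter, Finset.mem_univ, true_and, MulAction.toPerm_apply, hRinv]).symm
  have hc2k : ∀ x y, c2 x y ≤ k := fun x y => (hout x) ▸ Finset.card_le_card (fun z hz =>
    Finset.mem_filter.mpr ⟨Finset.mem_univ _, (Finset.mem_filter.mp hz).2.1⟩)
  set lam := c2 a₀ b₁ with hlam
  set μ := c2 a₀ b₂ with hμ
  have hsq : A * A = ((k : ℂ) - μ) • (1 : Matrix Ω Ω ℂ) + ((lam : ℂ) - μ) • A + (μ : ℂ) • J := by
    ext x y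
    rw [hA2]
    obtain ⟨g, rfl⟩ := MulAction.exists_smul_eq G a₀ x
    obtain ⟨y, rfl⟩ : ∃ y', g • y' = y := ⟨g⁻¹ • y, smul_inv_smul _ _⟩
    simp only [hc2inv, Matrix.add_apply, Matrix.smul_apply, Matrix.one_apply, hA, hJ, hRinv, smul_eq_mul,
      (MulAction.injective g).eq_iff]
    rcases eq_or_ne a₀ y with rfl | hy
    · have : c2 a₀ a₀ = k := by
        rw [← hout a₀]
        exact congrArg Finset.card (Finset.filter_congr fun z _ => ⟨fun h => h.1, fun h => ⟨h, hsymm _ _ h⟩⟩)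
      rw [this, if_pos rfl, if_neg (hirr a₀)]; ring
    · have hc : ∀ b (h : H), c2 a₀ ((h : G) • b) = c2 a₀ b := fun b h => by
        conv_lhs => rw [← MulAction.mem_stabilizer_iff.mp h.2]
        exact hc2inv _ _ _
      rcases hall y hy.symm with h | h
      · obtain ⟨g', hg'⟩ := (h ▸ MulAction.mem_orbit_self y : y ∈ MulAction.orbit H b₁)
        rw [show c2 a₀ y = lam from hg' ▸ hc b₁ g', if_neg hy,
          if_pos ((hRO y).mpr (h ▸ MulAction.mem_orbit_self y))]; ring
      · obtain ⟨g', hg'⟩ := (h ▸ MulAction.mem_orbit_self y : y ∈ MulAction.orbit H b₂)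
        rw [show c2 a₀ y = μ from hg' ▸ hc b₂ g', if_neg hy,
          if_neg (fun h' => hne ((MulAction.orbit_eq_iff.mpr ((hRO y).mp h')).symm.trans h))]; ring
  have hkey : (k : ℂ) * k = ((k : ℂ) - μ) + ((lam : ℂ) - μ) * k + μ * (2 * m) := by
    have hJ' : A * A * J = (((k : ℂ) - μ) • (1 : Matrix Ω Ω ℂ) + ((lam : ℂ) - μ) • A + (μ : ℂ) • J) * J := by
      rw [hsq]
    have h := congrFun (congrFun hJ' a₀) a₀
    simp only [mul_assoc, hAJ, mul_smul_comm, add_mul, smul_mul_assoc, one_mul, hJJ, Matrix.add_apply,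
      Matrix.smul_apply, hJ, smul_eq_mul, mul_one] at h
    exact h
  -- two distinct eigenvalues
  obtain ⟨D, hD⟩ := IsAlgClosed.exists_pow_nat_eq
    (((lam : ℂ) - μ) ^ 2 + 4 * ((k : ℂ) - μ)) (n := 2) two_pos
  have hD0 : D ≠ 0 := by
    intro h0
    rw [h0, zero_pow two_ne_zero] at hD
    have hZ : ((lam : ℤ) - μ) ^ 2 + 4 * ((k : ℤ) - μ) = 0 := by exact_mod_cast hD.symm
    have hkey' : (k : ℤ) * k = ((k : ℤ) - μ) + ((lam : ℤ) - μ) * k + μ * (2 * m) := by exact_mod_cast hkey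
    have h1 := hc2k a₀ b₁
    have h2 := hc2k a₀ b₂
    have h3 : (μ : ℤ) = k := by nlinarith [sq_nonneg ((lam : ℤ) - μ)]
    have h4 : (lam : ℤ) = μ := by
      have : ((lam : ℤ) - μ) ^ 2 = 0 := by linarith
      have := (pow_eq_zero_iff two_ne_zero).mp this
      omega
    rw [h4, h3] at hkey'
    have : (k : ℤ) * ((2 * m : ℤ) - k) = 0 := by linarith
    rcases mul_eq_zero.mp this with h5 | h5 <;> omega
  let s₀ : ℂ := (((lam : ℂ) - μ) + D) / 2
  let t₀ : ℂ := (((lam : ℂ) - μ) - D) / 2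
  have hst : s₀ + t₀ = (lam : ℂ) - μ ∧ s₀ * t₀ = (μ : ℂ) - k := by
    refine ⟨by simp only [s₀, t₀]; ring, ?_⟩
    simp only [s₀, t₀]
    linear_combination (-(1:ℂ) / 4) * hD
  have hne0 : s₀ - t₀ ≠ 0 := by
    rw [show s₀ - t₀ = D by simp only [s₀, t₀]; ring]; exact hD0
  let c₁ : Cfsg.IrrCharacter G := ⟨χ₁, h₁⟩
  let c₂ : Cfsg.IrrCharacter G := ⟨χ₂, h₂⟩
  have hc12 : c₁ ≠ c₂ := fun e => by
    have h := congrFun (congrArg Subtype.val e) 1
    change χ₁ 1 = χ₂ 1 at h
    rw [hd₁, hd₂, sub_eq_self] at h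
    exact one_ne_zero h
  -- the eigenvalue multiplicities
  have htrace : ∀ s t : ℂ, s + t = (lam : ℂ) - μ → s * t = (μ : ℂ) - k → s - t ≠ 0 →
      ∃ f : ℕ, f ≠ 0 ∧ (f = m - 1 ∨ f = m ∨ f = 2 * m - 1) ∧
        (f : ℂ) * (s - t) = -(2 * m : ℂ) * t - k + t := by
    intro s t hs hp hne'
    have hn : (2 * m : ℂ) ≠ 0 := by rw [← hcΩ]; exact Nat.cast_ne_zero.mpr Fintype.card_ne_zero
    let c : ℂ := ((k : ℂ) - t) / (2 * m)
    let E : Matrix Ω Ω ℂ := (s - t)⁻¹ • (A - t • 1 - c • J)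
    have hμc : ((k : ℂ) - s) * ((k : ℂ) - t) = μ * (2 * m) := by
      linear_combination hkey - (k : ℂ) * hs + hp
    have hE : E * E = E := by
      have hM : (A - t • 1 - c • J) * (A - t • 1 - c • J) = (s - t) • (A - t • 1 - c • J) := by
        simp only [sub_mul, mul_sub, smul_mul_assoc, mul_smul_comm, one_mul, mul_one, hAJ, hJA, hJJ, hsq,
          smul_smul, smul_sub, smul_add]
        rw [← hs, show (k : ℂ) - μ = -(s * t) by rw [hp]; ring]
        have hcc : c * (2 * m) = (k : ℂ) - t := div_mul_cancel₀ _ hn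
        have e : c * c * (2 * m) - 2 * c * ((k : ℂ) - t) + μ = -(c * (s - t)) := by
          refine mul_right_cancel₀ hn ?_
          linear_combination (c * (2 * m) + ((k : ℂ) - t) - 2 * ((k : ℂ) - t) + (s - t)) * hcc - hμc
        have e' : (μ : ℂ) = -(c * (s - t)) - c * c * (2 * m) + 2 * c * ((k : ℂ) - t) := by
          linear_combination e
        rw [e']
        module
      simp only [E, smul_mul_assoc, mul_smul_comm, hM, smul_smul]
      congr 1
      field_simp
    have hrow : ∀ x, ∑ y, E x y = 0 := by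
      intro x
      simp only [E, Matrix.smul_apply, smul_eq_mul]
      rw [← Finset.mul_sum, mul_eq_zero]
      right
      simp only [Matrix.smul_apply, Matrix.sub_apply, Matrix.one_apply, hA, hJ, smul_eq_mul, mul_ite,
        mul_one, mul_zero, Finset.sum_sub_distrib, Finset.sum_ite_eq, Finset.mem_univ,
        if_true, Finset.sum_boole, hout, Finset.sum_const, Finset.card_univ, nsmul_eq_mul, hcΩ]
      rw [mul_comm (2 * (m : ℂ)) c, div_mul_cancel₀ _ hn, Finset.sum_boole, hout]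
      ring
    have hinv : ∀ (g : G) x y, E (g • x) (g • y) = E x y := by
      intro g x y
      simp only [E, Matrix.smul_apply, Matrix.sub_apply, Matrix.one_apply, hA, hJ, hRinv,
        (MulAction.injective g).eq_iff]
    obtain ⟨a, b, ha, hb, hab⟩ := Lib.Perm.RankThreeChar.trace_mem E hinv hE hrow c₁ c₂ hc12
      (fun g => congrFun hπ g)
    rw [show (c₁ : G → ℂ) 1 = (m : ℂ) - 1 from hd₁, show (c₂ : G → ℂ) 1 = m from hd₂] at hab
    have htr : E.trace = (s - t)⁻¹ * (-(2 * m : ℂ) * t - k + t) := by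
      simp only [E, Matrix.trace, Matrix.diag, Matrix.smul_apply, Matrix.sub_apply, Matrix.one_apply_eq, hA,
        hJ, hirr, if_false, smul_eq_mul, mul_one, Finset.sum_const, Finset.card_univ, nsmul_eq_mul, hcΩ]
      rw [show (2 * (m : ℂ)) * ((s - t)⁻¹ * (0 - t - c)) = (s - t)⁻¹ * (-(2 * m) * t - c * (2 * m)) by ring,
        div_mul_cancel₀ _ hn]
      ring
    have hm1 : 1 ≤ m := by omega
    have hnz : a * (m - 1) + b * m ≠ 0 := by
      intro h0
      have hf0 : (a : ℂ) * ((m : ℂ) - 1) + b * m = 0 := by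
        rw [← Nat.cast_one, ← Nat.cast_sub hm1]
        exact_mod_cast h0
      rw [hf0] at hab
      rw [htr] at hab
      have h3 : -(2 * m : ℂ) * t - k + t = 0 := (mul_eq_zero.mp hab).resolve_left (inv_ne_zero hne')
      -- trace zero forces the idempotent to vanish
      have hE0 : E = 0 := by
        have hP : LinearMap.IsProj (LinearMap.range (Matrix.toLin' E)) (Matrix.toLin' E) :=
          ⟨fun x => ⟨x, rfl⟩, fun x ⟨f, hf⟩ => by
            rw [← hf, ← LinearMap.comp_apply, ← Matrix.toLin'_mul, hE]⟩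
        have h4 := hP.trace
        rw [Matrix.trace_toLin'_eq, htr, h3, mul_zero, eq_comm, Nat.cast_eq_zero, Submodule.finrank_eq_zero,
          LinearMap.range_eq_bot] at h4
        exact Matrix.toLin'.injective (by rw [h4, map_zero])
      have e1 := congrFun (congrFun hE0 a₀) b₁
      have e2 := congrFun (congrFun hE0 a₀) b₂
      simp only [E, Matrix.smul_apply, Matrix.sub_apply, Matrix.one_apply_ne hb₁.symm, Matrix.one_apply_ne hb₂.symm,
        hA, hJ, if_pos ((hRO b₁).mpr (MulAction.mem_orbit_self b₁)),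
        if_neg (fun h' => hne (MulAction.orbit_eq_iff.mpr ((hRO b₂).mp h')).symm), smul_eq_mul,
        Matrix.zero_apply, mul_eq_zero, inv_eq_zero, hne', false_or, mul_zero, sub_zero, mul_one] at e1 e2
      exact one_ne_zero (by linear_combination e1 - e2 : (1 : ℂ) = 0)
    refine ⟨a * (m - 1) + b * m, hnz, ?_, ?_⟩
    · interval_cases a <;> interval_cases b <;> omega
    · rw [Nat.cast_add, Nat.cast_mul, Nat.cast_mul, Nat.cast_sub hm1, Nat.cast_one, ← hab, htr]
      field_simp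
  have hm1 : 2 ≤ m := by omega
  obtain ⟨f, hf0, hf, hfeq⟩ := htrace s₀ t₀ hst.1 hst.2 hne0
  obtain ⟨f', hf0', hf', hfeq'⟩ := htrace t₀ s₀ (by rw [add_comm]; exact hst.1) (by rw [mul_comm]; exact hst.2)
    (by rw [← neg_sub]; exact neg_ne_zero.mpr hne0)
  have hff : f + f' = 2 * m - 1 := by
    apply Nat.cast_injective (R := ℂ)
    rw [Nat.cast_sub (by omega), Nat.cast_mul, Nat.cast_ofNat, Nat.cast_one, Nat.cast_add]
    refine mul_right_cancel₀ hne0 ?_
    linear_combination hfeq - hfeq'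
  obtain ⟨s, t, hs, hp, hlin⟩ : ∃ s t : ℂ, s + t = (lam : ℂ) - μ ∧ s * t = (μ : ℂ) - k ∧
      (k : ℂ) + ((m : ℂ) - 1) * s + m * t = 0 := by
    rcases hf with h | h | h
    · refine ⟨s₀, t₀, hst.1, hst.2, ?_⟩
      rw [h, Nat.cast_sub (by omega), Nat.cast_one] at hfeq
      linear_combination hfeq
    · refine ⟨t₀, s₀, by rw [add_comm]; exact hst.1, by rw [mul_comm]; exact hst.2, ?_⟩
      rw [h] at hfeq
      linear_combination hfeq
    · omega
  set σ : ℤ := (lam : ℤ) - μ with hσ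
  have hsσ : s + t = (σ : ℂ) := by rw [hs, hσ]; push_cast; ring
  have ht : t = ((-(k : ℤ) - ((m : ℤ) - 1) * σ : ℤ) : ℂ) := by
    push_cast
    linear_combination hlin - ((m : ℂ) - 1) * hsσ
  set tz : ℤ := -(k : ℤ) - ((m : ℤ) - 1) * σ
  have hsz : s = ((σ - tz : ℤ) : ℂ) := by push_cast; linear_combination hsσ - ht
  have h2nd : ((m : ℤ) - 1) * (σ - tz) ^ 2 + m * tz ^ 2 = 2 * m * k - k ^ 2 := by
    have h : (((m : ℂ) - 1) * s ^ 2 + m * t ^ 2 : ℂ) = 2 * m * k - (k : ℂ) ^ 2 := by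
      linear_combination (((m : ℂ) - 1) * s + m * t) * hs + (-((m : ℂ) - 1) - m) * hp
        + ((lam : ℂ) - μ) * hlin + hkey
    rw [hsz, ht] at h
    exact_mod_cast h
  -- excluding subdegree one by primitivity
  have hntΩ : Nontrivial Ω := ⟨⟨b₁, a₀, hb₁⟩⟩
  have hk1 : k = 1 → False := by
    intro h1
    have hco := MulAction.IsPreprimitive.isCoatom_stabilizer_of_isPreprimitive (G := G) a₀
    have hle : H ≤ MulAction.stabilizer G b₁ := by
      intro g hg
      obtain ⟨x, hx⟩ := Set.ncard_eq_one.mp (hk ▸ h1)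
      have e1 : b₁ = x := by rw [← Set.mem_singleton_iff, ← hx]; exact MulAction.mem_orbit_self b₁
      have e2 : g • b₁ = x := by rw [← Set.mem_singleton_iff, ← hx]; exact ⟨⟨g, hg⟩, rfl⟩
      exact MulAction.mem_stabilizer_iff.mpr (e2.trans e1.symm)
    rcases lt_or_eq_of_le hle with h | h
    · have htop := hco.2 _ h
      obtain ⟨g, hg⟩ := MulAction.exists_smul_eq G b₁ a₀
      exact hb₁ ((MulAction.mem_stabilizer_iff.mp (htop ▸ Subgroup.mem_top g)).symm.trans hg)
    · obtain ⟨g, hg, hgb⟩ : R b₁ a₀ := hsymm _ _ ((hRO b₁).mpr (MulAction.mem_orbit_self b₁))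
      have hfixed : ∀ y, R a₀ y → y = b₁ := by
        intro y hy
        obtain ⟨x, hx⟩ := Set.ncard_eq_one.mp (hk ▸ h1)
        have e1 : b₁ = x := by rw [← Set.mem_singleton_iff, ← hx]; exact MulAction.mem_orbit_self b₁
        have e2 : y = x := by rw [← Set.mem_singleton_iff, ← hx]; exact (hRO y).mp hy
        exact e2.trans e1.symm
      -- the pair is a block
      have hnorm : g ∈ Subgroup.normalizer (H : Set G) := by
        refine Subgroup.mem_normalizer_iff.mpr fun x => ?_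
        have e : H = MulAction.stabilizer G (g • a₀) := by rw [hg]; exact h
        conv_rhs => rw [e, MulAction.mem_stabilizer_iff, mul_smul, mul_smul, inv_smul_smul,
          (MulAction.injective g).eq_iff]
        exact MulAction.mem_stabilizer_iff
      have hlt : H < Subgroup.normalizer (H : Set G) := lt_of_le_of_ne Subgroup.le_normalizer fun e => by
        have := MulAction.mem_stabilizer_iff.mp (e ▸ hnorm : g ∈ H)
        exact hb₁ (hg.symm.trans this)
      have hn : H.Normal := Subgroup.normalizer_eq_top_iff.mp (hco.2 _ hlt)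
      have hall1 : ∀ x : G, x ∈ H → ∀ y : Ω, x • y = y := by
        intro x hx y
        obtain ⟨g', rfl⟩ := MulAction.exists_smul_eq G a₀ y
        have h2 := MulAction.mem_stabilizer_iff.mp (hn.conj_mem x hx g'⁻¹)
        rw [inv_inv, mul_smul, mul_smul, inv_smul_eq_iff] at h2
        exact h2
      have hl1 : l = 1 := by
        rw [hl, Set.ncard_eq_one]
        refine ⟨b₂, Set.eq_singleton_iff_unique_mem.mpr ⟨MulAction.mem_orbit_self _, ?_⟩⟩
        rintro _ ⟨x, rfl⟩
        exact hall1 x x.2 b₂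
      omega
  obtain ⟨a, ha, ham, hak⟩ := arith hk0 (by omega) hk1 σ (σ - tz) tz (by ring) (by
    simp only [tz]; ring) h2nd
  refine ⟨a, ha, ham, fun b hb => ?_⟩
  rw [hcardorb]
  rcases hall b hb with h | h <;> rw [h]
  · exact Or.inl hak
  · refine Or.inr ?_
    nlinarith

end Cfsg.Agent.S0719
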