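import Cfsg.Statements.S0723
import Mathlib
import Cfsg.Agent.S0721
import Cfsg.Agent.S0722
import Cfsg.Agent.Lib.CharSimple.Subdirect

set_option autoImplicit false
open Cfsg

namespace Cfsg.Agent.S0723

open Cfsg.Agent.Lib.CharSimple

theorem exists_stab_mul {α : Type*} {H : Subgroup (Equiv.Perm α)} [MulAction.IsPreprimitive H α]
    {N : Subgroup H} [N.Normal] (a : α) (hNs : ¬ N ≤ MulAction.stabilizer H a) (h : H) :
    ∃ n ∈ N, n * h ∈ MulAction.stabilizer H a := by
  have hfix : MulAction.fixedPoints N α ≠ Set.univ := fun e => hNs fun n hn => by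
    have : a ∈ MulAction.fixedPoints N α := e ▸ Set.mem_univ a
    exact this ⟨n, hn⟩
  have := MulAction.IsQuasiPreprimitive.isPretransitive_of_normal (G := H) (X := α) hfix
  obtain ⟨⟨n, hn⟩, hna⟩ := MulAction.exists_smul_eq N (h • a) a
  exact ⟨n, hn, by rw [MulAction.mem_stabilizer_iff, mul_smul]; exact hna⟩

theorem not_le_stabilizer {α : Type*} {H : Subgroup (Equiv.Perm α)} [MulAction.IsPreprimitive H α]
    {N : Subgroup H} [N.Normal] (hN : N ≠ ⊥) (a : α) : ¬ N ≤ MulAction.stabilizer H a := fun h =>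
  hN ((Subgroup.eq_bot_iff_forall _).mpr fun n hn => Subtype.ext (Equiv.ext fun b => by
    obtain ⟨g, rfl⟩ := MulAction.exists_smul_eq H a b
    have h2 : (g⁻¹ * n * g⁻¹⁻¹) • a = a := h (Subgroup.Normal.conj_mem ‹_› n hn g⁻¹)
    rw [inv_inv, mul_smul, mul_smul, inv_smul_eq_iff] at h2
    exact h2))


/-- The core of the O'Nan–Scott Theorem. Let `H` be a primitive permutation group on a finite set whose unique minimal normal subgroup `N` is non-abelian, and `K` a point stabiliser. Then there are a non-abelian simple group `T` and an isomorphism `N ≃* T^m` (`m ≥ 1`) under which `K ⊓ N` becomes either a product `∏ K_i` of proper subgroups `K_i < T`, or the set of functions constant on each block of a partition of the index set into blocks of one common size `k ≥ 2`. -/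
theorem result {α : Type*} [Finite α] (H : Subgroup (Equiv.Perm α)) [MulAction.IsPreprimitive H α] (N : Subgroup H) [N.Normal] (hN : N ≠ ⊥) (hmin : ∀ M : Subgroup H, M.Normal → M ≤ N → M = ⊥ ∨ M = N) (huniq : ∀ L : Subgroup H, L.Normal → L ≠ ⊥ → (∀ M : Subgroup H, M.Normal → M ≤ L → M = ⊥ ∨ M = L) → L = N) (hnab : ¬ IsMulCommutative N) (a : α) : ∃ (T : Type) (_ : Group T) (m : ℕ) (e : N ≃* (Fin m → T)), IsSimpleGroup T ∧ ¬ IsMulCommutative T ∧ 0 < m ∧ ((∃ K : Fin m → Subgroup T, (∀ i, K i ≠ ⊤) ∧ ∀ n : N, (n : H) ∈ MulAction.stabilizer H a ↔ ∀ i, e n i ∈ K i) ∨ (∃ (k : ℕ) (c : Fin m → Fin m), 2 ≤ k ∧ (∀ j : Fin m, Nat.card {i : Fin m // c i = j} = k ∨ Nat.card {i : Fin m // c i = j} = 0) ∧ ∀ n : N, (n : H) ∈ MulAction.stabilizer H a ↔ ∀ i j : Fin m, c i = c j → e n i = e n j)) := by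
  classical
  obtain ⟨T, iT, m, hTs, hm, ⟨e⟩⟩ := Cfsg.Agent.S0721.result N hN hmin
  have hTna : ¬ IsMulCommutative T := fun hc => hnab (IsMulCommutative.of_comm fun x y => e.injective (by
    funext i
    simp only [map_mul, Pi.mul_apply]
    exact hc.is_comm.comm _ _))
  have hfinT : Finite T := Finite.of_injective (fun t => e.symm (fun _ => t)) fun s t h =>
    congrFun (e.symm.injective h) ⟨0, hm⟩
  set K := MulAction.stabilizer H a with hK
  have hNK : ¬ N ≤ K := not_le_stabilizer hN a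
  let D : Subgroup (Fin m → T) := (K.subgroupOf N).map e.toMonoidHom
  have hD : ∀ n : N, e n ∈ D ↔ (n : H) ∈ K := fun n => by
    constructor
    · rintro ⟨n', hn', he⟩
      exact (e.injective he) ▸ hn'
    · exact fun h => ⟨n, h, rfl⟩
  let φ : H → ((Fin m → T) ≃* (Fin m → T)) := fun k =>
    e.symm.trans ((MulAut.conjNormal k : MulAut N).trans e)
  have hφ : ∀ (k : H) (n : N), φ k (e n) = e (MulAut.conjNormal k n) := fun k n => by simp [φ]
  have hφD : ∀ k ∈ K, ∀ d ∈ D, φ k d ∈ D := by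
    rintro k hk _ ⟨n, hn, rfl⟩
    show φ k (e n) ∈ D
    rw [hφ, hD, MulAut.conjNormal_apply]
    exact mul_mem (mul_mem hk hn) (inv_mem hk)
  haveI : IsSimpleGroup T := hTs
  have hσ := fun k => exists_perm (S := T) (ι := Fin m) hTna (φ k)
  choose σ hσ1 hσ2 using hσ
  have hσmul : ∀ k k' i, σ (k * k') i = σ k (σ k' i) := by
    intro k k' i
    refine coord_unique (S := T) fun x => ?_
    obtain ⟨y, rfl⟩ := (φ (k * k')).surjective x
    rw [← hσ2 (k * k') i y, hσ2 k' i y, hσ2 k (σ k' i) (φ k' y)]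
    have : φ k (φ k' y) = φ (k * k') y := by
      obtain ⟨n, rfl⟩ := e.surjective y
      rw [hφ, hφ, hφ, map_mul, MulAut.mul_apply]
    rw [this]
  let i₀ : Fin m := ⟨0, hm⟩
  have htrans : ∀ i, ∃ k ∈ K, σ k i₀ = i := by
    by_contra hcon
    push Not at hcon
    obtain ⟨i₁, hi₁⟩ := hcon
    let P : Fin m → Prop := fun i => ∃ k ∈ K, σ k i₀ = i
    have hP : ∀ k ∈ K, ∀ i, ¬ P i → ¬ P ((σ k⁻¹) i) := by
      rintro k hk i hi ⟨k', hk', he⟩
      refine hi ⟨k * k', mul_mem hk hk', ?_⟩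
      rw [hσmul, he, ← hσmul, mul_inv_cancel]
      refine coord_unique (S := T) fun x => ?_
      obtain ⟨y, rfl⟩ := (φ 1).surjective x
      rw [← hσ2 1 i y]
      have h1 : φ 1 y = y := by
        obtain ⟨n, rfl⟩ := e.surjective y
        rw [hφ, map_one, MulAut.one_apply]
      rw [h1]
    let M : Subgroup H :=
      { carrier := {x | ∃ n : N, (n : H) = x ∧ ∀ i, ¬ P i → e n i = 1}
        one_mem' := ⟨1, rfl, fun i _ => by simp⟩
        mul_mem' := by
          rintro _ _ ⟨n, rfl, hn⟩ ⟨n', rfl, hn'⟩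
          exact ⟨n * n', rfl, fun i hi => by simp [hn i hi, hn' i hi]⟩
        inv_mem' := by
          rintro _ ⟨n, rfl, hn⟩
          exact ⟨n⁻¹, rfl, fun i hi => by simp [hn i hi]⟩ }
    have hMn : M.Normal := ⟨by
      rintro _ ⟨n, rfl, hn⟩ g
      obtain ⟨z, hz, hzg⟩ := exists_stab_mul a hNK g
      refine ⟨(⟨z, hz⟩ : N)⁻¹ * MulAut.conjNormal (z * g) n * ⟨z, hz⟩, ?_, fun i hi => ?_⟩
      · simp only [Subgroup.coe_mul, Subgroup.coe_inv, MulAut.conjNormal_apply]
        group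
      · have h1 : e (MulAut.conjNormal (z * g) n) i = 1 := by
          rw [← hφ]
          have h2 := (hσ2 (z * g) (σ (z * g)⁻¹ i) (e n)).mp (hn _ (hP _ hzg i hi))
          rw [← hσmul, mul_inv_cancel] at h2
          have h3 : σ 1 i = i := by
            refine coord_unique (S := T) fun x => ?_
            obtain ⟨y, rfl⟩ := (φ 1).surjective x
            rw [← hσ2 1 i y]
            have h4 : φ 1 y = y := by
              obtain ⟨n, rfl⟩ := e.surjective y
              rw [hφ, map_one, MulAut.one_apply]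
            rw [h4]
          rwa [h3] at h2
        rw [map_mul, map_mul, map_inv, Pi.mul_apply, Pi.mul_apply, h1]
        simp⟩
    have hMN : M ≤ N := by rintro _ ⟨n, rfl, -⟩; exact n.2
    have : IsSimpleGroup T := hTs
    obtain ⟨t, ht⟩ := exists_ne (1 : T)
    have hone : σ 1 i₀ = i₀ := by
      refine coord_unique (S := T) fun x => ?_
      obtain ⟨y, rfl⟩ := (φ 1).surjective x
      rw [← hσ2 1 i₀ y]
      have h4 : φ 1 y = y := by
        obtain ⟨n, rfl⟩ := e.surjective y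
        rw [hφ, map_one, MulAut.one_apply]
      rw [h4]
    rcases hmin M hMn hMN with hb | htop
    · have hmem : ((e.symm (Pi.mulSingle i₀ t) : N) : H) ∈ M := ⟨_, rfl, fun i hi => by
        rw [e.apply_symm_apply, Pi.mulSingle_eq_of_ne fun e' : i = i₀ => hi (e' ▸ ⟨1, one_mem K, hone⟩)]⟩
      rw [hb, Subgroup.mem_bot, OneMemClass.coe_eq_one, map_eq_one_iff _ e.symm.injective,
        Pi.mulSingle_eq_one_iff] at hmem
      exact ht hmem
    · have hmem : ((e.symm (Pi.mulSingle i₁ t) : N) : H) ∈ M := by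
        rw [htop]; exact Subtype.prop _
      obtain ⟨n, hn, hn'⟩ := hmem
      obtain rfl : n = e.symm (Pi.mulSingle i₁ t) := Subtype.ext hn
      have h5 := hn' i₁ fun ⟨k, hk, he⟩ => hi₁ k hk he
      rw [e.apply_symm_apply, Pi.mulSingle_eq_same] at h5
      exact ht h5
  have : IsSimpleGroup T := hTs
  by_cases hfull : ∃ i, ∀ t, ∃ d ∈ D, d i = t
  · obtain ⟨i₁, hi₁⟩ := hfull
    have hall : ∀ i t, ∃ d ∈ D, d i = t := by
      intro i t
      obtain ⟨k₁, hk₁, hi₁'⟩ := htrans i₁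
      obtain ⟨k₂, hk₂, hi'⟩ := htrans i
      obtain ⟨y, hy⟩ := (φ k₁).surjective 1
      obtain ⟨x, hx⟩ := (φ (k₂ * k₁⁻¹)).surjective (fun _ => t)
      obtain ⟨d, hd, hdx⟩ := hi₁ (x i₁)
      refine ⟨φ (k₂ * k₁⁻¹) d, hφD _ (mul_mem hk₂ (inv_mem hk₁)) d hd, ?_⟩
      have hi2 : σ (k₂ * k₁⁻¹) i₁ = i := by
        rw [← hi₁', ← hσmul, inv_mul_cancel_right, hi']
      rw [← hi2, hσ1, hdx, ← hσ1, hx]
    obtain ⟨c, θ, hidem, hc, hθ, hDmem⟩ := exists_diagonal hTna hall
    let e' : N ≃* (Fin m → T) := e.trans (MulEquiv.piCongrRight fun i => (θ i).symm)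
    have he' : ∀ n i, e' n i = (θ i).symm (e n i) := fun n i => rfl
    have hstab : ∀ n : N, (n : H) ∈ K ↔ ∀ i j, c i = c j → e' n i = e' n j := by
      intro n
      rw [← hD, hDmem]
      constructor
      · intro h i j hij
        rw [he', he', h i, h j, MulEquiv.symm_apply_apply, MulEquiv.symm_apply_apply, hij]
      · intro h i
        have h1 := h i (c i) (hidem i).symm
        rw [he', he', show (θ (c i)).symm (e n (c i)) = e n (c i) from
          (θ (c i)).symm_apply_eq.mpr (hθ i _).symm] at h1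
        rw [← h1, MulEquiv.apply_symm_apply]
    have hinvc : ∀ k ∈ K, ∀ i j, c i = c j → c (σ k i) = c (σ k j) := by
      intro k hk i j hij
      rw [hc] at hij ⊢
      intro d hd
      obtain ⟨y, rfl⟩ := (φ k).surjective d
      have hy : y ∈ D := by
        have h1 := hφD k⁻¹ (inv_mem hk) _ hd
        obtain ⟨n, rfl⟩ := e.surjective y
        rwa [hφ, hφ, ← MulAut.mul_apply, ← map_mul, inv_mul_cancel, map_one, MulAut.one_apply] at h1
      rw [← hσ2, ← hσ2]
      exact hij y hy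
    let size : Fin m → ℕ := fun i => Nat.card {l : Fin m // c l = c i}
    have hsize : ∀ i j, size i ≤ size j := by
      intro i j
      obtain ⟨k₁, hk₁, rfl⟩ := htrans i
      obtain ⟨k₂, hk₂, rfl⟩ := htrans j
      refine Nat.card_le_card_of_injective (fun l => ⟨σ (k₂ * k₁⁻¹) l.1, ?_⟩) fun l l' h =>
        Subtype.ext ((σ _).injective (Subtype.mk.inj h))
      rw [hinvc _ (mul_mem hk₂ (inv_mem hk₁)) _ _ l.2, ← hσmul, inv_mul_cancel_right]
    refine ⟨T, iT, m, e', hTs, hTna, hm, Or.inr ⟨size i₀, c, ?_, fun j => ?_, hstab⟩⟩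
    · by_contra hlt
      push Not at hlt
      apply hNK
      intro n hn
      refine (hstab ⟨n, hn⟩).mpr fun i j hij => ?_
      have h1 : size i ≤ 1 := (hsize i i₀).trans (by omega)
      have : Subsingleton {l : Fin m // c l = c i} :=
        Finite.card_le_one_iff_subsingleton.mp h1
      rw [show i = j from congrArg Subtype.val
        (Subsingleton.elim (⟨i, rfl⟩ : {l : Fin m // c l = c i}) ⟨j, hij.symm⟩)]
    · rcases isEmpty_or_nonempty {i : Fin m // c i = j} with h | ⟨⟨i, hi⟩⟩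
      · exact Or.inr Nat.card_of_isEmpty
      · left
        subst hi
        exact le_antisymm (hsize i i₀) (hsize i₀ i)
  · push Not at hfull
    let P : Fin m → Subgroup T := fun i => D.map (Pi.evalMonoidHom (fun _ : Fin m => T) i)
    let X : Subgroup H :=
      { carrier := {x | ∃ n : N, (n : H) = x ∧ ∀ i, e n i ∈ P i}
        one_mem' := ⟨1, rfl, fun i => by simp⟩
        mul_mem' := by
          rintro _ _ ⟨n, rfl, hn⟩ ⟨n', rfl, hn'⟩
          exact ⟨n * n', rfl, fun i => by simp [mul_mem (hn i) (hn' i)]⟩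
        inv_mem' := by
          rintro _ ⟨n, rfl, hn⟩
          exact ⟨n⁻¹, rfl, fun i => by simp [hn i]⟩ }
    have hinvX : ∀ k ∈ K, ∀ x ∈ X, k * x * k⁻¹ ∈ X := by
      rintro k hk _ ⟨n, rfl, hn⟩
      refine ⟨MulAut.conjNormal k n, MulAut.conjNormal_apply k n, fun i => ?_⟩
      obtain ⟨j, rfl⟩ := (σ k).surjective i
      obtain ⟨d, hd, hdj⟩ := hn j
      refine ⟨φ k d, hφD k hk d hd, ?_⟩
      change d j = e n j at hdj
      show φ k d (σ k j) = e (MulAut.conjNormal k n) (σ k j)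
      rw [← hφ, hσ1 k j d, hσ1 k j (e n), hdj]
    have hnormX : K ≤ Subgroup.normalizer (X : Set H) := fun k hk =>
      Subgroup.mem_normalizer_iff.mpr fun x => ⟨hinvX k hk x, fun h => by
        have h1 := hinvX k⁻¹ (inv_mem hk) _ h
        simpa [mul_assoc] using h1⟩
    have hXN : X ≤ N := by rintro _ ⟨n, rfl, -⟩; exact n.2
    rcases Cfsg.Agent.S0722.result H N hN hmin a X hXN (fun x hx =>
      ⟨⟨x, hx.2⟩, rfl, fun i => ⟨_, (hD ⟨x, hx.2⟩).mpr hx.1, rfl⟩⟩) hnormX with hX | hX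
    · refine ⟨T, iT, m, e, hTs, hTna, hm, Or.inl ⟨P, fun i htop => ?_, fun n => ⟨fun hn i => ?_, fun h => ?_⟩⟩⟩
      · obtain ⟨t, ht⟩ := hfull i
        obtain ⟨d, hd, hdt⟩ : t ∈ P i := htop ▸ Subgroup.mem_top t
        exact ht d hd hdt
      · exact ⟨_, (hD n).mpr hn, rfl⟩
      · have h1 : (n : H) ∈ X := ⟨n, rfl, h⟩
        rw [hX] at h1
        exact h1.1
    · exfalso
      obtain ⟨t, ht⟩ := hfull i₀
      have h1 : ((e.symm (fun _ => t) : N) : H) ∈ X := hX.symm ▸ Subtype.prop _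
      obtain ⟨n, hn, hn'⟩ := h1
      obtain rfl : n = e.symm (fun _ => t) := Subtype.ext hn
      obtain ⟨d, hd, hdt⟩ := hn' i₀
      rw [e.apply_symm_apply] at hdt
      exact ht d hd hdt

end Cfsg.Agent.S0723
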