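import Cfsg.Statements.S0724
import Mathlib

set_option autoImplicit false
open Cfsg

namespace Cfsg.Agent.S0724

open Polynomial in
theorem card_dvd_sum_eval {G α : Type*} [Group G] [Fintype G] [MulAction G α] [Finite α] (P : ℤ[X]) :
    (Nat.card G : ℤ) ∣ ∑ g : G, P.eval (Nat.card (MulAction.fixedBy α g) : ℤ) := by
  classical
  have := Fintype.ofFinite α
  have hpow : ∀ j : ℕ, (Nat.card G : ℤ) ∣ ∑ g : G, (Nat.card (MulAction.fixedBy α g) : ℤ) ^ j := by
    intro j
    have key : ∀ g : G, Nat.card (MulAction.fixedBy (Fin j → α) g)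
        = Nat.card (MulAction.fixedBy α g) ^ j := by
      intro g
      have e : MulAction.fixedBy (Fin j → α) g ≃ (Fin j → MulAction.fixedBy α g) :=
        { toFun := fun f i => ⟨f.1 i, congrFun f.2 i⟩
          invFun := fun f => ⟨fun i => (f i).1, funext fun i => (f i).2⟩
          left_inv := fun f => rfl
          right_inv := fun f => rfl }
      rw [Nat.card_congr e, Nat.card_fun, Nat.card_fin]
    have := MulAction.sum_card_fixedBy_eq_card_orbits_mul_card_group G (Fin j → α)
    simp only [← Nat.card_eq_fintype_card, key] at this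
    refine ⟨(Nat.card (MulAction.orbitRel.Quotient G (Fin j → α)) : ℤ), ?_⟩
    rw [mul_comm]
    exact_mod_cast this
  induction P using Polynomial.induction_on' with
  | add p q hp hq => simp only [eval_add, Finset.sum_add_distrib]; exact dvd_add hp hq
  | monomial j c => simp only [eval_monomial, ← Finset.mul_sum]; exact dvd_mul_of_dvd_right (hpow j) c

/-- Blichfeldt's Theorem: if a finite set `L` of natural numbers contains the number of fixed points of every non-identity element of a permutation group `G` of degree `n`, then the order of `G` divides `∏ (n - l)` over `l ∈ L`. -/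
theorem result {α : Type*} [Fintype α] [DecidableEq α] (G : Subgroup (Equiv.Perm α)) (L : Finset ℕ) (hL : ∀ g ∈ G, g ≠ 1 → Nat.card (MulAction.fixedBy α g) ∈ L) : Nat.card G ∣ ∏ l ∈ L, (Fintype.card α - l) := by
  classical
  by_cases hbig : ∃ l ∈ L, Fintype.card α ≤ l
  · obtain ⟨l, hl, hle⟩ := hbig
    rw [Finset.prod_eq_zero hl (Nat.sub_eq_zero_of_le hle)]
    exact dvd_zero _
  push Not at hbig
  have h := card_dvd_sum_eval (G := G) (α := α) (∏ l ∈ L, (Polynomial.X - Polynomial.C (l : ℤ)))
  rw [Finset.sum_eq_single (1 : G)] at h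
  · have h1 : Nat.card (MulAction.fixedBy α (1 : G)) = Fintype.card α := by
      simp [MulAction.fixedBy_one_eq_univ]
    rw [h1, Polynomial.eval_prod] at h
    simp only [Polynomial.eval_sub, Polynomial.eval_X, Polynomial.eval_C] at h
    rw [Finset.prod_congr rfl (fun l hl => (Nat.cast_sub (hbig l hl).le).symm)] at h
    exact_mod_cast h
  · intro g _ hg
    have hmem := hL g g.2 (by simpa using hg)
    rw [Polynomial.eval_prod]
    refine Finset.prod_eq_zero hmem ?_
    rw [Polynomial.eval_sub, Polynomial.eval_X, Polynomial.eval_C, sub_eq_zero]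
    rfl
  · simp

end Cfsg.Agent.S0724
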