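import Cfsg.Statements.S0726
import Mathlib

set_option autoImplicit false
open Cfsg

namespace Cfsg.Agent.S0726

/-- The left and right regular permutation representations of a group are each other's centralisers in the symmetric group: the centraliser of the left regular image is the right regular image, and a transitive subgroup centralising the left regular image is the whole right regular image. -/
theorem result {G : Type*} [Group G] : Subgroup.centralizer ((MulAction.toPermHom G G).range : Set (Equiv.Perm G)) = (MulAction.toPermHom Gᵐᵒᵖ G).range ∧ ∀ H : Subgroup (Equiv.Perm G), H ≤ Subgroup.centralizer ((MulAction.toPermHom G G).range : Set (Equiv.Perm G)) → MulAction.IsPretransitive H G → H = (MulAction.toPermHom Gᵐᵒᵖ G).range := by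
  have hc : Subgroup.centralizer ((MulAction.toPermHom G G).range : Set (Equiv.Perm G)) =
      (MulAction.toPermHom Gᵐᵒᵖ G).range := by
    ext σ
    rw [Subgroup.mem_centralizer_iff]
    constructor
    · intro h
      refine ⟨MulOpposite.op (σ 1), Equiv.ext fun x => ?_⟩
      have := congrArg (fun τ : Equiv.Perm G => τ 1) (h _ ⟨x, rfl⟩)
      simp only [Equiv.Perm.mul_apply, MulAction.toPermHom_apply, MulAction.toPerm_apply,
        smul_eq_mul, mul_one] at this
      simpa using this
    · rintro ⟨y, rfl⟩ _ ⟨x, rfl⟩
      ext z
      simp [mul_assoc]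
  refine ⟨hc, fun H hH ht => le_antisymm (hH.trans hc.le) ?_⟩
  rintro _ ⟨y, rfl⟩
  obtain ⟨h, hh⟩ := ht.exists_smul_eq (1 : G) y.unop
  obtain ⟨z, hz⟩ := hc.le (hH h.2)
  have hzy : z = y := by
    apply MulOpposite.unop_injective
    have h1 : (MulAction.toPermHom Gᵐᵒᵖ G z) 1 = y.unop := by rw [hz]; exact hh
    simpa using h1
  rw [← hzy, hz]
  exact h.2

end Cfsg.Agent.S0726
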