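import Cfsg.Statements.S0730
import Mathlib
import Cfsg.Agent.Lib.Perm.SharplyThree
import Cfsg.Agent.Lib.Perm.KernelAction
import Cfsg.Agent.Lib.Perm.ZassenhausPGL

set_option autoImplicit false
open Cfsg

namespace Cfsg.Agent.S0730

open Cfsg.Agent.Lib.Perm

theorem mul_mul_mul_comm_of {H : Type*} [Group H] (hc : ∀ a b : H, a * b = b * a) (a b c d : H) :
    a * b * (c * d) = a * c * (b * d) := by
  rw [mul_assoc, ← mul_assoc b, hc b c, mul_assoc, ← mul_assoc]

/-- A sharply triply transitive group of degree `p^f + 1`, `p` an odd prime and `f` odd, is isomorphic to the projective general linear group of degree 2 over the field with `p^f` elements (for even `f` there is a second, twisted, group). -/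
theorem result {α : Type*} [Fintype α] [DecidableEq α] {p f : ℕ} (hp : p.Prime) (hp2 : p ≠ 2) (hfo : Odd f) (hα : Fintype.card α = p ^ f + 1) (G : Subgroup (Equiv.Perm α)) (h3 : MulAction.IsMultiplyPretransitive G α 3) (hsharp : ∀ x : Fin 3 ↪ α, MulAction.stabilizer G x = ⊥) : ∃ (F : Type) (_ : Field F) (_ : Fintype F), Fintype.card F = p ^ f ∧ Nonempty (G ≃* Matrix.ProjGenLinGroup (Fin 2) F) := by
  classical
  have : Fact p.Prime := ⟨hp⟩
  have hpf : 1 < p ^ f := Nat.one_lt_pow hfo.pos.ne' hp.one_lt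
  have hn : 3 ≤ Fintype.card α := by omega
  obtain ⟨P, o, e, s, T, ℓ, j, hT, hℓ, hj, hc, hexp, ho, he, heo, hsp, hso, hse, hss, hs1⟩ :=
    SharplyThree.exists_setup h3 hsharp hn
  have h2 := SharplyThree.two_pretransitive h3 hn
  have hG := SharplyThree.fixAtMostTwo hsharp
  have hℓp : ℓ = p ∧ j = f := by
    have hd : p ∣ ℓ ^ j := by rw [show ℓ ^ j = p ^ f by omega]; exact dvd_pow_self p hfo.pos.ne'
    obtain rfl := (Nat.prime_dvd_prime_iff_eq hp hℓ).mp (hp.dvd_of_dvd_pow hd)
    exact ⟨rfl, Nat.pow_right_injective hp.two_le (by omega : p ^ j = p ^ f)⟩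
  obtain ⟨rfl, rfl⟩ := hℓp
  obtain ⟨V, iV, iM, iVf, R, hrank, hRfix, hRinv⟩ := KernelAction.exists_rep hG hT ho hexp hα
  have hHcard := SharplyThree.card_stab_two h3 hsharp (Ne.symm ho) hn
  obtain ⟨t, ht⟩ := exists_prime_orderOf_dvd_card'
    (G := ↥(MulAction.stabilizer G P ⊓ MulAction.stabilizer G o)) 2 (by
      rw [hHcard, hα]
      have : Odd (ℓ ^ j) := (hp.odd_of_ne_two hp2).pow
      obtain ⟨k, hk⟩ := this
      omega)
  have ht1 : t ≠ 1 := fun h => by simp [h] at ht
  have ht2 : t * t = 1 := Zassenhaus.mul_self_of_orderOf ht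
  let φ := SharplyThree.swapAut hsp hso
  have hinv : Function.Involutive φ := SharplyThree.swapAut_involutive hsp hso hss
  have huniq : ∀ u : ↥(MulAction.stabilizer G P ⊓ MulAction.stabilizer G o), u ≠ 1 → u * u = 1 → u = t :=
    fun u h1 h2 => Subtype.ext (KernelAction.involution_unique hG hT ho he heo u.2
      (fun h => h1 (Subtype.ext h)) (congrArg Subtype.val h2) t.2 (fun h => ht1 (Subtype.ext h))
      (congrArg Subtype.val ht2))
  have hφt : φ t = t := huniq _ (fun h => ht1 (hinv.injective (h.trans (map_one φ).symm)))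
    (by rw [← map_mul, ht2, map_one])
  -- the fixed points of the swap in the two-point stabiliser
  have hmove : ∀ h, φ h = h → s • ((h : G) • e) = (h : G) • e := by
    intro h hh
    have hh' : s * (h : G) * s⁻¹ = h := congrArg Subtype.val hh
    rw [← mul_smul, mul_inv_eq_iff_eq_mul.mp hh', mul_smul, hse]
  have hinj : ∀ g h : ↥(MulAction.stabilizer G P ⊓ MulAction.stabilizer G o),
      (g : G) • e = (h : G) • e → g = h := by
    intro g h hgh
    obtain ⟨h1, h2⟩ := Subgroup.mem_inf.mp (mul_mem (inv_mem g.2) h.2)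
    exact Subtype.ext (inv_mul_eq_one.mp (hG _ P o e (Ne.symm ho) (Ne.symm heo) (Ne.symm he) h1 h2
      (by rw [mul_smul, ← hgh, inv_smul_smul])))
  have hfix : ∀ h, φ h = h → h = 1 ∨ h = t := by
    intro h hh
    by_contra hcon
    rw [not_or] at hcon
    have hle := Zassenhaus.card_fixedBy_le_two hG (Ω := α) hs1
    have hmem : ∀ g, φ g = g → ((g : G) • e) ∈ MulAction.fixedBy α s := fun g hg => hmove g hg
    let F : Fin 3 → MulAction.fixedBy α s := ![⟨_, hmem 1 (map_one φ)⟩, ⟨_, hmem t hφt⟩, ⟨_, hmem h hh⟩]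
    have hF : Function.Injective F := by
      intro a b hab
      fin_cases a <;> fin_cases b <;> first
        | rfl
        | (exfalso
           have := hinj _ _ (congrArg Subtype.val hab)
           first
            | exact ht1 this | exact ht1 this.symm | exact hcon.1 this | exact hcon.1 this.symm
            | exact hcon.2 this | exact hcon.2 this.symm)
    have := Nat.card_le_card_of_injective F hF
    simp only [Nat.card_eq_fintype_card, Fintype.card_fin] at this hle
    omega
  -- the determinant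
  let δ : ↥(MulAction.stabilizer G P ⊓ MulAction.stabilizer G o) →* (ZMod ℓ)ˣ :=
    (LinearMap.det.comp R).toHomUnits
  have hδ : ∀ h, (δ h : ZMod ℓ) = LinearMap.det (R h) := fun h => rfl
  obtain ⟨a, m, hm, hpm⟩ := Nat.exists_eq_two_pow_mul_odd (n := ℓ - 1) (by have := hp.two_le; omega)
  let ψ := (powMonoidHom m : (ZMod ℓ)ˣ →* (ZMod ℓ)ˣ).comp δ
  have hψt : ψ t ≠ 1 := by
    intro h
    have h' : ((δ t : ZMod ℓ)) ^ m = 1 := by
      rw [← Units.val_pow_eq_pow_val]
      exact congrArg Units.val h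
    have hd : LinearMap.det (R t) = -1 := by
      rw [hRinv t ht1 ht2, show (-1 : Module.End (ZMod ℓ) V) = (-1 : ZMod ℓ) • LinearMap.id by
          ext v; simp, LinearMap.det_smul, LinearMap.det_id, hrank, mul_one, hfo.neg_one_pow]
    rw [hδ, hd, hm.neg_one_pow] at h'
    have : Fact (2 < ℓ) := ⟨lt_of_le_of_ne hp.two_le (Ne.symm hp2)⟩
    exact ZMod.neg_one_ne_one h'
  let K := ψ.ker
  have hKodd : ∀ k, k ∈ K ↔ Odd (orderOf k) := by
    intro k
    constructor
    · intro hk
      by_contra heven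
      rw [Nat.not_odd_iff_even, even_iff_two_dvd] at heven
      have : k ^ (orderOf k / 2) ∈ K := K.pow_mem hk _
      have ho2 : orderOf (k ^ (orderOf k / 2)) = 2 := orderOf_pow_orderOf_div (orderOf_pos k).ne' heven
      rw [huniq _ (fun h => by simp [h] at ho2) (Zassenhaus.mul_self_of_orderOf ho2)] at this
      exact hψt this
    · intro hk
      have h1 : orderOf (ψ k) ∣ orderOf k := orderOf_map_dvd ψ k
      have h2 : orderOf (ψ k) ∣ 2 ^ a := by
        refine orderOf_dvd_of_pow_eq_one ?_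
        show ((δ k) ^ m) ^ (2 ^ a) = 1
        rw [← pow_mul, show m * 2 ^ a = ℓ - 1 by rw [hpm]; ring, ← ZMod.card_units ℓ, pow_card_eq_one]
      exact orderOf_eq_one_iff.mp (Nat.dvd_one.mp
        ((Nat.Coprime.pow_right a hk.coprime_two_right) ▸ Nat.dvd_gcd h1 h2))
  -- the kernel is inverted
  let φK : K →* K := MonoidHom.codRestrict (φ.comp K.subtype) K fun k => by
    rw [hKodd]
    show Odd (orderOf (φ k))
    rw [orderOf_injective φ hinv.injective]
    exact (hKodd _).mp k.2
  have hfpf : MonoidHom.FixedPointFree φK := by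
    intro k hk
    rcases hfix k (congrArg Subtype.val hk) with h | h
    · exact Subtype.ext h
    · have := (hKodd _).mp k.2
      rw [h, ht] at this
      exact absurd this (by decide)
  have hinvK : Function.Involutive φK := fun k => Subtype.ext (hinv k)
  have hKinv : ∀ k ∈ K, φ k = k⁻¹ := fun k hk =>
    congrArg Subtype.val (congrFun (hfpf.coe_eq_inv_of_involutive hinvK) ⟨k, hk⟩)
  have hKcomm : ∀ k ∈ K, ∀ l ∈ K, k * l = l * k := fun k hk l hl =>
    congrArg Subtype.val (hfpf.commute_all_of_involutive hinvK ⟨k, hk⟩ ⟨l, hl⟩)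
  -- the kernel is central
  have hcentral : K ≤ Subgroup.center _ := by
    intro k hk
    rw [Subgroup.mem_center_iff]
    by_contra hne
    push Not at hne
    obtain ⟨g, hg⟩ := hne
    let C := Subgroup.centralizer (K : Set ↥(MulAction.stabilizer G P ⊓ MulAction.stabilizer G o))
    have hgC : g ∉ C := fun h => hg (Subgroup.mem_centralizer_iff.mp h k hk).symm
    have hpow : g ^ (2 ^ a) ∈ C := by
      refine Subgroup.mem_centralizer_iff.mpr fun l hl => hKcomm l hl _ ?_
      show ψ (g ^ (2 ^ a)) = 1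
      show ((δ (g ^ (2 ^ a))) ^ m) = 1
      rw [map_pow, ← pow_mul, show 2 ^ a * m = ℓ - 1 by rw [hpm], ← ZMod.card_units ℓ, pow_card_eq_one]
    have hex : ∃ i, g ^ (2 ^ i) ∈ C := ⟨a, hpow⟩
    obtain ⟨i, hi⟩ : ∃ i, Nat.find hex = i + 1 := by
      rcases h : Nat.find hex with _ | i
      · have := Nat.find_spec hex
        rw [h, pow_zero, pow_one] at this
        exact absurd this hgC
      · exact ⟨i, rfl⟩
    have hzC : g ^ (2 ^ i) ∉ C := Nat.find_min hex (by omega)
    have hzz : g ^ (2 ^ i) * g ^ (2 ^ i) ∈ C := by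
      have := Nat.find_spec hex
      rwa [hi, pow_succ, mul_two, pow_add] at this
    generalize g ^ (2 ^ i) = z at hzC hzz
    rw [Subgroup.mem_centralizer_iff] at hzC
    push Not at hzC
    obtain ⟨l, hl, hlz⟩ := hzC
    have hzl : z * l * z⁻¹ ∈ K := (MonoidHom.normal_ker ψ).conj_mem l hl z
    let y := z * l * z⁻¹ * l⁻¹
    have hy : y ∈ K := mul_mem hzl (inv_mem hl)
    have hy1 : y ≠ 1 := fun h => hlz (mul_inv_eq_iff_eq_mul.mp (mul_inv_eq_one.mp h)).symm
    have hzy : z * y * z⁻¹ = y⁻¹ := by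
      have h1 : z * z * l * (z * z)⁻¹ = l := by
        rw [← Subgroup.mem_centralizer_iff.mp hzz l hl, mul_inv_cancel_right]
      calc z * y * z⁻¹ = (z * z * l * (z * z)⁻¹) * (z * l * z⁻¹)⁻¹ := by simp only [y]; group
        _ = y⁻¹ := by rw [h1]; simp only [y]; group
    have hA : LinearMap.det (R y - 1) ≠ 0 := by
      intro h0
      obtain ⟨v, hv, hv0⟩ := (Submodule.ne_bot_iff _).mp (LinearMap.bot_lt_ker_of_det_eq_zero h0).ne'
      exact hv0 (hRfix y hy1 v (sub_eq_zero.mp hv))
    have hzz1 : R z * R z⁻¹ = 1 := by rw [← map_mul, mul_inv_cancel, map_one]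
    have hconj : R y⁻¹ - 1 = R z * (R y - 1) * R z⁻¹ := by
      rw [mul_sub, sub_mul, mul_one, hzz1, ← hzy, map_mul, map_mul]
    have hdet1 : LinearMap.det (R y⁻¹ - 1) = LinearMap.det (R y - 1) := by
      rw [hconj, map_mul, map_mul, mul_right_comm, ← map_mul, hzz1, map_one, one_mul]
    have hfac : R y⁻¹ - 1 = R y⁻¹ * ((-1 : ZMod ℓ) • (R y - 1)) := by
      rw [mul_smul_comm, mul_sub, ← map_mul, inv_mul_cancel, map_one, mul_one, neg_one_smul, neg_sub]
    rw [hfac, map_mul, LinearMap.det_smul, hrank, hfo.neg_one_pow, ← mul_assoc] at hdet1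
    have hd1 : (δ y⁻¹ : ZMod ℓ) = -1 := by
      rw [hδ]
      have := mul_right_cancel₀ hA (hdet1.trans (one_mul _).symm)
      linear_combination -this
    have hyodd : Odd (orderOf y⁻¹) := by rw [orderOf_inv]; exact (hKodd y).mp hy
    have := congrArg (fun x => ((δ x : (ZMod ℓ)ˣ) : ZMod ℓ)) (pow_orderOf_eq_one y⁻¹)
    simp only [map_pow, Units.val_pow_eq_pow_val, map_one, Units.val_one, hd1, hyodd.neg_one_pow] at this
    have hF2 : Fact (2 < ℓ) := ⟨lt_of_le_of_ne hp.two_le (Ne.symm hp2)⟩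
    exact ZMod.neg_one_ne_one this
  have hcomm := commutative_of_cyclic_center_quotient ψ hcentral
  have hsq : ∀ h, φ (h * h) = (h * h)⁻¹ := by
    intro h
    have hfixed : φ (h * φ h) = h * φ h := by rw [map_mul, hinv h, hcomm]
    rw [eq_inv_iff_mul_eq_one, map_mul, mul_mul_mul_comm_of hcomm]
    rcases hfix _ hfixed with hx | hx <;> rw [hcomm (φ h) h, hx]
    · exact one_mul 1
    · exact ht2
  obtain ⟨F, iF, iFt, hF, hiso⟩ := ZassenhausPGL.exists_mulEquiv_PGL h2 hG hT ho he heo
    (fun g hg h hh => congrArg Subtype.val (hcomm ⟨g, hg⟩ ⟨h, hh⟩)) hHcard hsp hso hse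
    (fun h hh => congrArg Subtype.val (hsq ⟨h, hh⟩))
  exact ⟨F, iF, iFt, by omega, hiso⟩

end Cfsg.Agent.S0730
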