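import Cfsg.Statements.S0732
import Mathlib
import Cfsg.Agent.Lib.Perm.AbelianKernel
import Cfsg.Agent.Lib.Perm.ZassenhausPGL
import Cfsg.Agent.Lib.Perm.SemiAffine
import Cfsg.Agent.Lib.Perm.ProjCongr
import Cfsg.Agent.Lib.Perm.SharplyTwo
import Cfsg.Agent.S0727
import Cfsg.Agent.S0730

set_option autoImplicit false
open Cfsg

namespace Cfsg.Agent.S0732

open Cfsg.Agent.Lib.Perm Cfsg.Agent.Lib.Perm.Zassenhaus

/-- A transitive permutation group on `p + 1` points (`p` prime) of order `(p+1) p d` with `d < p` is isomorphic to `PGL(2,p)` with `d = p - 1`, or to `PSL(2,p)` with `2d = p - 1`, or else `p + 1 = 2^q` for a prime `q`, `d = 1` or `d = q`, and the group is permutation-isomorphic to a group of semi-affine maps `x ↦ a φ(x) + b` of the field with `2^q` elements. -/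
theorem result {α : Type*} [Fintype α] [DecidableEq α] {p d : ℕ} (hp : p.Prime) (hα : Fintype.card α = p + 1) (G : Subgroup (Equiv.Perm α)) [MulAction.IsPretransitive G α] (hG : Nat.card G = (p + 1) * p * d) (hd : d < p) : (d = p - 1 ∧ Nonempty (G ≃* Matrix.ProjGenLinGroup (Fin 2) (ZMod p))) ∨ (2 * d = p - 1 ∧ Nonempty (G ≃* Matrix.ProjectiveSpecialLinearGroup (Fin 2) (ZMod p))) ∨ (∃ q : ℕ, q.Prime ∧ p + 1 = 2 ^ q ∧ (d = 1 ∨ d = q) ∧ ∃ e : α ≃ GaloisField 2 q, ∀ g : G, (e.symm.trans (((g : Equiv.Perm α)).trans e)) ∈ Cfsg.semiaffineGroup (GaloisField 2 q)) := by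
  classical
  have hfin : Finite G := inferInstance
  obtain ⟨x⟩ : Nonempty α := Fintype.card_pos_iff.mp (by omega)
  have hp2 := hp.two_le
  have hpos : 0 < Nat.card G := Nat.card_pos
  have hd0 : 0 < d := by
    rcases Nat.eq_zero_or_pos d with rfl | h
    · simp only [mul_zero] at hG; omega
    · exact h
  have hA : Nat.card (MulAction.stabilizer G x) = p * d := by
    have h := (MulAction.stabilizer G x).index_mul_card
    rw [MulAction.index_stabilizer_of_transitive, Nat.card_eq_fintype_card (α := α), hα, hG, mul_assoc] at h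
    exact Nat.eq_of_mul_eq_mul_left (by omega) h
  have : Fact p.Prime := ⟨hp⟩
  -- the normal Sylow subgroup
  obtain ⟨P⟩ := Sylow.nonempty (p := p) (G := MulAction.stabilizer G x)
  have hpd : ¬ p ∣ d := fun h => absurd (Nat.le_of_dvd hd0 h) (by omega)
  have hPcard : Nat.card (P : Subgroup (MulAction.stabilizer G x)) = p := by
    rw [P.card_eq_multiplicity, hA, Nat.factorization_mul hp.ne_zero hd0.ne', Finsupp.add_apply,
      Nat.factorization_eq_zero_of_not_dvd hpd, hp.factorization_self, add_zero, pow_one]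
  have hsub : Subsingleton (Sylow p (MulAction.stabilizer G x)) := by
    rw [← Finite.card_le_one_iff_subsingleton]
    have h1 := Sylow.card_dvd_index P
    have h2 : (P : Subgroup (MulAction.stabilizer G x)).index = d := by
      have := (P : Subgroup (MulAction.stabilizer G x)).card_mul_index
      rw [hPcard, hA] at this
      exact Nat.eq_of_mul_eq_mul_left hp.pos this
    have hmod : Nat.card (Sylow p (MulAction.stabilizer G x)) % p = 1 % p :=
      card_sylow_modEq_one p (MulAction.stabilizer G x)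
    have h3 := Nat.le_of_dvd hd0 (h2 ▸ h1)
    rw [Nat.mod_eq_of_lt (by omega), Nat.mod_eq_of_lt hp.one_lt] at hmod
    omega
  have hPn : (P : Subgroup (MulAction.stabilizer G x)).Normal := Sylow.normal_of_subsingleton P
  let T : Subgroup G := (P : Subgroup (MulAction.stabilizer G x)).map (MulAction.stabilizer G x).subtype
  have hTle : T ≤ MulAction.stabilizer G x := Subgroup.map_subtype_le _
  have hTcard : Nat.card T = p := by
    rw [← hPcard]; exact Subgroup.card_map_of_injective (MulAction.stabilizer G x).subtype_injective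
  have : IsCyclic T := isCyclic_of_prime_card hTcard
  -- a point moved by the kernel
  obtain ⟨t, ht1⟩ : ∃ t : T, t ≠ 1 := by
    have : Nontrivial T := Finite.one_lt_card_iff_nontrivial.mp (by omega)
    exact exists_ne 1
  obtain ⟨y, hy⟩ : ∃ y : α, (t : G) • y ≠ y := by
    by_contra h
    push Not at h
    exact ht1 (Subtype.ext (eq_of_smul_eq_smul (α := α) fun z => by rw [h z]; exact (one_smul G z).symm))
  have hyx : y ≠ x := fun h => hy (by rw [h]; exact hTle t.2)
  let X := {z : α // z ≠ x}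
  have hne : ∀ u : T, (u : G) • y ≠ x := fun u h => hyx (smul_left_cancel (u : G)
    (h.trans (MulAction.mem_stabilizer_iff.mp (hTle u.2)).symm))
  have hinj : Function.Injective fun u : T => (⟨(u : G) • y, hne u⟩ : X) := by
    intro u v huv
    have h' : (u : G) • y = (v : G) • y := congrArg Subtype.val huv
    by_contra hne'
    let S : Subgroup T := (MulAction.stabilizer G y).subgroupOf T
    have hS : v⁻¹ * u ∈ S := by
      show ((v : G)⁻¹ * (u : G)) • y = y
      rw [mul_smul, h', inv_smul_smul]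
    rcases (Subgroup.eq_bot_or_eq_top_of_prime_card S (hp := ⟨hTcard ▸ hp⟩)) with h | h
    · rw [h, Subgroup.mem_bot, inv_mul_eq_one] at hS
      exact hne' hS.symm
    · exact hy (show t ∈ S from h ▸ Subgroup.mem_top t)
  have hbij : Function.Bijective fun u : T => (⟨(u : G) • y, hne u⟩ : X) := by
    rw [Nat.bijective_iff_injective_and_card]
    refine ⟨hinj, ?_⟩
    rw [hTcard, Nat.card_eq_fintype_card, Fintype.card_subtype_compl, Fintype.card_subtype_eq, hα]
    omega
  have hcommT : ∀ s ∈ T, ∀ u ∈ T, s * u = u * s := fun s hs u hu =>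
    congrArg Subtype.val (IsCyclic.commGroup.mul_comm (⟨s, hs⟩ : T) ⟨u, hu⟩)
  have hT : AffineCoords.IsKernel T x := by
    refine ⟨hTle, fun g hg u hu => ?_, hcommT, fun a b ha hb => ?_⟩
    · obtain ⟨w, hw, rfl⟩ := hu
      exact ⟨⟨g, hg⟩ * w * ⟨g, hg⟩⁻¹, hPn.conj_mem w hw ⟨g, hg⟩, rfl⟩
    · obtain ⟨u, hu⟩ := hbij.2 ⟨a, ha⟩
      obtain ⟨v, hv⟩ := hbij.2 ⟨b, hb⟩
      have hu' : (u : G) • y = a := congrArg Subtype.val hu
      have hv' : (v : G) • y = b := congrArg Subtype.val hv
      refine ⟨v * u⁻¹, ?_, fun w hw => eq_mul_inv_of_mul_eq (hinj (Subtype.ext ?_))⟩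
      · show ((v * u⁻¹ : T) : G) • a = b
        rw [Subgroup.coe_mul, Subgroup.coe_inv, mul_smul, ← hu', inv_smul_smul, hv']
      · show ((w * u : T) : G) • y = (v : G) • y
        rw [Subgroup.coe_mul, mul_smul, hu', hw, hv']
  -- transitivity and fixed points
  have h2 : MulAction.IsMultiplyPretransitive G α 2 := by
    rw [MulAction.is_two_pretransitive_iff]
    intro a b c e hab hce
    obtain ⟨g, hg⟩ := MulAction.exists_smul_eq G a x
    obtain ⟨g', hg'⟩ := MulAction.exists_smul_eq G c x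
    obtain ⟨u, hu, -⟩ := hT.regular (g • b) (g' • e) (fun h => hab (smul_left_cancel g (hg.trans h.symm)))
      (fun h => hce (smul_left_cancel g' (hg'.trans h.symm)))
    refine ⟨g'⁻¹ * u * g, ?_, ?_⟩
    · rw [mul_smul, mul_smul, hg, MulAction.mem_stabilizer_iff.mp (hTle u.2), inv_smul_eq_iff, hg']
    · rw [mul_smul, mul_smul, hu, inv_smul_smul]
  have h3 : FixAtMostTwo G α := by
    intro g a b c hab hbc hac hga hgb hgc
    obtain ⟨k, hka, hkb⟩ := exists_smul_pair h2 hab hyx.symm
    have hg' : k * g * k⁻¹ ∈ MulAction.stabilizer G x ⊓ MulAction.stabilizer G y :=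
      Subgroup.mem_inf.mpr ⟨by rw [MulAction.mem_stabilizer_iff, ← hka]; exact conj_fix hga,
        by rw [MulAction.mem_stabilizer_iff, ← hkb]; exact conj_fix hgb⟩
    have hcx : k • c ≠ x := fun h => hac (smul_left_cancel k (hka.trans h.symm))
    have hcy : k • c ≠ y := fun h => hbc (smul_left_cancel k (hkb.trans h.symm))
    have hfix : (k * g * k⁻¹) • (k • c) = k • c := conj_fix hgc
    refine conj_eq_one_iff.mp (?_ : k * g * k⁻¹ = 1)
    generalize k * g * k⁻¹ = g' at hg' hfix
    obtain ⟨hg'x, hg'y⟩ := Subgroup.mem_inf.mp hg'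
    obtain ⟨u, hu, -⟩ := hT.regular y (k • c) hyx hcx
    have hu1 : u ≠ 1 := fun h => hcy (by rw [← hu, h]; exact one_smul G y)
    have hconj : (⟨g' * u * g'⁻¹, hT.conj_mem g' hg'x u u.2⟩ : T) = u := hinj (Subtype.ext (by
      show (g' * u * g'⁻¹) • y = (u : G) • y
      rw [mul_smul, mul_smul, inv_smul_eq_iff.mpr (MulAction.mem_stabilizer_iff.mp hg'y).symm, hu, hfix]))
    refine eq_of_smul_eq_smul (α := α) fun z => ?_
    rw [one_smul]
    rcases eq_or_ne z x with rfl | hz
    · exact hg'x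
    · obtain ⟨w, hw, -⟩ := hT.regular y z hyx hz
      -- every element of the kernel is a power of `u`
      have hw' : w ∈ Subgroup.zpowers u := by
        rcases (Subgroup.eq_bot_or_eq_top_of_prime_card (Subgroup.zpowers u) (hp := ⟨hTcard ▸ hp⟩)) with h | h
        · exact absurd (Subgroup.zpowers_eq_bot.mp h) hu1
        · rw [h]; exact Subgroup.mem_top w
      obtain ⟨i, rfl⟩ := Subgroup.mem_zpowers_iff.mp hw'
      have hgu : Commute g' (u : G) := mul_inv_eq_iff_eq_mul.mp (congrArg Subtype.val hconj)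
      rw [← hw, SubgroupClass.coe_zpow, ← mul_smul, (hgu.zpow_right i).eq, mul_smul,
        MulAction.mem_stabilizer_iff.mp hg'y]
  have hH : Nat.card ↥(MulAction.stabilizer G x ⊓ MulAction.stabilizer G y) = d := by
    have h := Inversion.card_group h2 hT hyx
    rw [hα, Nat.add_sub_cancel, hG, mul_assoc] at h
    exact (Nat.eq_of_mul_eq_mul_left hp.pos (Nat.eq_of_mul_eq_mul_left (by omega) h)).symm
  obtain ⟨c₀, hc₀x, hc₀y⟩ : ∃ c, c ≠ x ∧ c ≠ y := by
    obtain ⟨c, -, hc⟩ := Finset.exists_mem_notMem_of_card_lt_card (s := {x, y}) (t := (Finset.univ : Finset α))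
      (by rw [Finset.card_univ, Finset.card_pair hyx.symm]; omega)
    exact ⟨c, by simpa using hc⟩
  -- the sharply three-transitive case
  by_cases hd1 : d = p - 1
  · left
    refine ⟨hd1, ?_⟩
    obtain ⟨ht3, hsharp⟩ := AbelianKernel.three_pretransitive h2 h3 hyx.symm (by rw [hH, hα]; omega)
    obtain ⟨F, iF, iFt, hF, ⟨e⟩⟩ : ∃ (F : Type) (_ : Field F) (_ : Fintype F), Fintype.card F = p ∧
        Nonempty (G ≃* Matrix.ProjGenLinGroup (Fin 2) F) := by
      rcases eq_or_ne p 2 with rfl | hodd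
      · obtain ⟨F, i1, i2, h, e⟩ := S0727.result (f := 1) le_rfl (by rw [hα]; rfl) G ht3 hsharp
        exact ⟨F, i1, i2, h.trans (pow_one 2), e⟩
      · obtain ⟨F, i1, i2, h, e⟩ := S0730.result (f := 1) hp hodd odd_one (by rw [hα, pow_one]) G ht3 hsharp
        exact ⟨F, i1, i2, h.trans (pow_one p), e⟩
    obtain ⟨e'⟩ := ProjCongr.nonempty_pgl (Fin 2)
      (FiniteField.ringEquivOfCardEq (K := F) (K' := ZMod p) (by rw [hF, ZMod.card]))
    exact ⟨e.trans e'⟩
  right
  by_cases hreg : ∃ N : Subgroup G, N.Normal ∧ MulAction.IsPretransitive N α ∧ MulAction.stabilizer N x = ⊥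
  · right
    obtain ⟨N, hNn, hNt, hNx⟩ := hreg
    have : Nontrivial α := ⟨⟨y, x, hyx⟩⟩
    obtain ⟨r, hr, hNc, -, j, hj1, hj⟩ := regularNormal_elementaryAbelian N h2 hNx
    rw [Nat.card_eq_fintype_card, hα] at hj
    have hp' : p ≠ 2 := fun h => hd1 (by omega)
    have hr2 : r = 2 := by
      have : 2 ∣ r ^ j := by
        rw [← hj]
        obtain ⟨k, hk⟩ := hp.odd_of_ne_two hp'
        exact ⟨k + 1, by omega⟩
      exact ((Nat.prime_dvd_prime_iff_eq Nat.prime_two hr).mp (Nat.prime_two.dvd_of_dvd_pow this)).symm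
    subst hr2
    have hjp : j.Prime := (Nat.prime_of_pow_sub_one_prime (fun h => by
      rw [h, pow_one] at hj; omega) (show (2 ^ j - 1).Prime by rw [← hj, Nat.add_sub_cancel]; exact hp)).2
    have : Fact j.Prime := ⟨hjp⟩
    obtain ⟨hdiv, e, he⟩ := SemiAffine.semiaffine_of_regular_normal hj hα G h3 hyx hT N hNx hNc
    rw [hH] at hdiv
    exact ⟨j, hjp, hj, (Nat.dvd_prime hjp).mp hdiv, e, he⟩
  · left
    have hd2 : d ≠ 1 := by
      rintro rfl
      have hs : ∀ f : Fin 2 ↪ α, MulAction.stabilizer G f = ⊥ := by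
        intro f
        rw [Subgroup.eq_bot_iff_forall]
        intro g hg
        obtain ⟨k, hk0, hk1⟩ := exists_smul_pair h2 (f.injective.ne (show (0 : Fin 2) ≠ 1 by decide)) hyx.symm
        have e : ∀ i, g • f i = f i := fun i => by
          exact congrArg (fun F : Fin 2 ↪ α => F i) (MulAction.mem_stabilizer_iff.mp hg)
        have hm : k * g * k⁻¹ ∈ MulAction.stabilizer G x ⊓ MulAction.stabilizer G y :=
          Subgroup.mem_inf.mpr ⟨by rw [MulAction.mem_stabilizer_iff, ← hk0]; exact conj_fix (e 0),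
            by rw [MulAction.mem_stabilizer_iff, ← hk1]; exact conj_fix (e 1)⟩
        rw [Subgroup.eq_bot_of_card_eq _ hH, Subgroup.mem_bot, conj_eq_one_iff] at hm
        exact hm
      have : Nontrivial α := ⟨⟨y, x, hyx⟩⟩
      obtain ⟨_, _, -, -, -, -, N, hNn, -, -, -, hNt, hNs, -⟩ := sharplyTwo_kernel h2 hs
      exact hreg ⟨N, hNn, hNt, hNs x⟩
    have hZ : Cfsg.IsZassenhausGroup G α := by
      refine ⟨inferInstance, h2, h3, ?_, fun N hNn hNt => ⟨x, fun h => hreg ⟨N, hNn, hNt, h⟩⟩⟩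
      obtain ⟨g, hg, hg1⟩ := (MulAction.stabilizer G x ⊓ MulAction.stabilizer G y).bot_or_exists_ne_one.resolve_left
        fun h => hd2 (by rw [← hH, h, Subgroup.card_bot])
      exact ⟨g, hg1, x, y, hyx.symm, (Subgroup.mem_inf.mp hg).1, (Subgroup.mem_inf.mp hg).2⟩
    rcases AbelianKernel.dichotomy hZ hT hyx with h | ⟨h, hinv⟩
    · rw [hH, hα] at h
      exact absurd (by omega) hd1
    obtain ⟨s, hs1, hs2⟩ := exists_smul_pair h2 hyx.symm hyx
    obtain ⟨K, iK, iF, hK, -, ⟨e⟩⟩ := ZassenhausPGL.exists_mulEquiv_PSL h2 h3 hT hyx hc₀x hc₀y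
      (ZassenhausBasics.comm_of_inverted (s := s) (hinv s hs1 hs2)) h hinv
    obtain ⟨e'⟩ := ProjCongr.nonempty_psl (Fin 2)
      (FiniteField.ringEquivOfCardEq (K := K) (K' := ZMod p) (by rw [ZMod.card]; omega))
    refine ⟨by rw [hH, hα] at h; omega, ⟨e.trans e'⟩⟩

end Cfsg.Agent.S0732
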