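import Cfsg.Statements.S0733
import Mathlib

set_option autoImplicit false
open Cfsg
open Pointwise

namespace Cfsg.Agent.S0733

/-- A permutation group of affine type — generated by the translations of a finite vector space `V` over `ZMod p` together with a group `G₀` of linear automorphisms — is primitive on `V` if and only if `G₀` is irreducible on `V`. -/
theorem result {p : ℕ} [Fact p.Prime] {V : Type*} [AddCommGroup V] [Module (ZMod p) V] [Finite V] [Nontrivial V] (G₀ : Subgroup (V ≃ₗ[ZMod p] V)) (G : Subgroup (Equiv.Perm V)) (hG : ∀ σ : Equiv.Perm V, σ ∈ G ↔ ∃ g ∈ G₀, ∃ b : V, ∀ x : V, σ x = (g : V ≃ₗ[ZMod p] V) x + b) : MulAction.IsPreprimitive G V ↔ ∀ W : Submodule (ZMod p) V, (∀ g ∈ G₀, ∀ v ∈ W, (g : V ≃ₗ[ZMod p] V) v ∈ W) → W = ⊥ ∨ W = ⊤ := by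
  have hlin : ∀ g ∈ G₀, ∃ σ : G, ∀ x : V, σ • x = (g : V ≃ₗ[ZMod p] V) x := fun g hg =>
    ⟨⟨g.toEquiv, (hG _).mpr ⟨g, hg, 0, fun x => (add_zero _).symm⟩⟩, fun x => rfl⟩
  have htr : ∀ b : V, ∃ σ : G, ∀ x : V, σ • x = x + b := fun b =>
    ⟨⟨Equiv.addRight b, (hG _).mpr ⟨1, G₀.one_mem, b, fun x => rfl⟩⟩, fun x => rfl⟩
  constructor
  · intro hp W hW
    have hB : MulAction.IsBlock G (W : Set V) := by
      rw [MulAction.isBlock_iff_smul_eq_of_nonempty]
      rintro σ ⟨z, ⟨w, hw, hwz⟩, hz⟩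
      obtain ⟨g, hg, b, hb⟩ := (hG σ).mp σ.2
      have hwz' : (g : V ≃ₗ[ZMod p] V) w + b = z := (hb w).symm.trans hwz
      have hbW : b ∈ W := by
        have := W.sub_mem hz (hW g hg w hw)
        rw [← hwz', add_sub_cancel_left] at this
        exact this
      ext y
      constructor
      · rintro ⟨u, hu, rfl⟩
        show (σ : Equiv.Perm V) u ∈ W
        rw [hb]; exact W.add_mem (hW g hg u hu) hbW
      · intro hy
        have hinv := hW g⁻¹ (G₀.inv_mem hg) (y - b) (W.sub_mem hy hbW)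
        refine ⟨_, hinv, ?_⟩
        show (σ : Equiv.Perm V) _ = y
        rw [hb, ← LinearEquiv.mul_apply, mul_inv_cancel]
        simp
    rcases hp.isTrivialBlock_of_isBlock hB with h | h
    · exact Or.inl ((Submodule.eq_bot_iff W).mpr fun x hx => h hx W.zero_mem)
    · exact Or.inr (SetLike.coe_injective (h.trans Submodule.top_coe.symm))
  · intro hirr
    have : MulAction.IsPretransitive G V := ⟨fun x y => by
      obtain ⟨σ, hσ⟩ := htr (y - x)
      exact ⟨σ, by rw [hσ]; abel⟩⟩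
    refine MulAction.IsPreprimitive.of_isTrivialBlock_base (0 : V) fun {B} h0 hB => ?_
    have hadd : ∀ x ∈ B, ∀ b ∈ B, x + b ∈ B := by
      intro x hx b hb
      obtain ⟨σ, hσ⟩ := htr b
      have hσB : σ • B = B := hB.smul_eq_of_nonempty ⟨b, ⟨0, h0, (hσ 0).trans (zero_add b)⟩, hb⟩
      rw [← hσB]; exact ⟨x, hx, hσ x⟩
    have hsmul : ∀ n : ℕ, ∀ x ∈ B, n • x ∈ B := by
      intro n x hx
      induction n with
      | zero => simpa using h0
      | succ n ih => rw [succ_nsmul]; exact hadd _ ih _ hx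
    let W : Submodule (ZMod p) V :=
      { carrier := B
        add_mem' := fun {x y} hx hy => hadd x hx y hy
        zero_mem' := h0
        smul_mem' := fun c x hx => by
          rw [← ZMod.natCast_zmod_val c, Nat.cast_smul_eq_nsmul]
          exact hsmul _ x hx }
    have hW : ∀ g ∈ G₀, ∀ v ∈ W, (g : V ≃ₗ[ZMod p] V) v ∈ W := by
      intro g hg v hv
      obtain ⟨σ, hσ⟩ := hlin g hg
      have hσB : σ • B = B := hB.smul_eq_of_nonempty ⟨0, ⟨0, h0, (hσ 0).trans (map_zero _)⟩, h0⟩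
      show _ ∈ B
      rw [← hσB]; exact ⟨v, hv, hσ v⟩
    rcases hirr W hW with h | h
    · exact Or.inl fun x hx y hy =>
        ((Submodule.eq_bot_iff W).mp h x hx).trans ((Submodule.eq_bot_iff W).mp h y hy).symm
    · exact Or.inr (congrArg SetLike.coe h)

end Cfsg.Agent.S0733
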