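import Cfsg.Statements.S0734
import Mathlib

set_option autoImplicit false
open Cfsg
open Pointwise

namespace Cfsg.Agent.S0734

/-- Higman's criterion for primitivity: a transitive action on a finite set is primitive if and only if every non-trivial orbital graph (edges = images of a fixed pair of distinct points) is connected. -/
theorem result {G : Type*} [Group G] {Ω : Type*} [Finite Ω] [MulAction G Ω] [MulAction.IsPretransitive G Ω] [Nontrivial Ω] : MulAction.IsPreprimitive G Ω ↔ ∀ a b : Ω, a ≠ b → (SimpleGraph.fromRel fun x y : Ω => ∃ g : G, g • a = x ∧ g • b = y).Connected := by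
  classical
  constructor
  · intro hp a b hab
    let R : SimpleGraph Ω := SimpleGraph.fromRel fun x y : Ω => ∃ g : G, g • a = x ∧ g • b = y
    show R.Connected
    have hadj : ∀ (g : G) x y, R.Adj x y → R.Adj (g • x) (g • y) := by
      intro g x y h
      rw [SimpleGraph.fromRel_adj] at h ⊢
      refine ⟨fun e => h.1 (smul_left_cancel g e), h.2.imp ?_ ?_⟩ <;>
        exact fun ⟨k, h1, h2⟩ => ⟨g * k, by rw [mul_smul, h1], by rw [mul_smul, h2]⟩
    have hreach : ∀ (g : G) x y, R.Reachable x y → R.Reachable (g • x) (g • y) := fun g x y h =>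
      h.map (⟨fun x => g • x, fun {x y} => hadj g x y⟩ : R →g R)
    let B : Set Ω := {x | R.Reachable a x}
    have hmem : ∀ (g : G) z, z ∈ g • B → R.Reachable (g • a) z := by
      rintro g _ ⟨w, hw, rfl⟩; exact hreach g a w hw
    have hback : ∀ (g : G) z, R.Reachable (g • a) z → z ∈ g • B := by
      intro g z h
      refine ⟨g⁻¹ • z, ?_, smul_inv_smul g z⟩
      have := hreach g⁻¹ _ _ h
      rwa [inv_smul_smul] at this
    have hB : MulAction.IsBlock G B := by
      intro g₁ g₂ hne
      rw [Set.disjoint_left]
      intro z h1 h2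
      apply hne
      ext w
      have h12 : R.Reachable (g₁ • a) (g₂ • a) := (hmem g₁ z h1).trans (hmem g₂ z h2).symm
      exact ⟨fun hw => hback g₂ w (h12.symm.trans (hmem g₁ w hw)),
        fun hw => hback g₁ w (h12.trans (hmem g₂ w hw))⟩
    rcases hp.isTrivialBlock_of_isBlock hB with h | h
    · exfalso
      refine hab (h (SimpleGraph.Reachable.refl a) ?_)
      refine SimpleGraph.Adj.reachable ?_
      exact ⟨hab, Or.inl ⟨1, one_smul _ a, one_smul _ b⟩⟩
    · exact { preconnected := fun x y => by
                have hx : R.Reachable a x := (Set.eq_univ_iff_forall.mp h) x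
                have hy : R.Reachable a y := (Set.eq_univ_iff_forall.mp h) y
                exact hx.symm.trans hy }
  · intro h
    refine { isTrivialBlock_of_isBlock := fun {B} hB => ?_ }
    by_cases hs : B.Subsingleton
    · exact Or.inl hs
    right
    obtain ⟨a, ha, b, hb, hab⟩ := Set.not_subsingleton_iff.mp hs
    have hedge : ∀ x y, (SimpleGraph.fromRel fun x y : Ω => ∃ g : G, g • a = x ∧ g • b = y).Adj x y →
        x ∈ B → y ∈ B := by
      intro x y hxy hx
      rw [SimpleGraph.fromRel_adj] at hxy
      obtain ⟨-, ⟨g, h1, h2⟩ | ⟨g, h1, h2⟩⟩ := hxy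
      · have hg : g • B = B := hB.smul_eq_of_nonempty ⟨x, ⟨a, ha, h1⟩, hx⟩
        rw [← hg]; exact ⟨b, hb, h2⟩
      · have hg : g • B = B := hB.smul_eq_of_nonempty ⟨x, ⟨b, hb, h2⟩, hx⟩
        rw [← hg]; exact ⟨a, ha, h1⟩
    apply Set.eq_univ_iff_forall.mpr
    intro y
    obtain ⟨w⟩ := (h a b hab).preconnected a y
    suffices ∀ (u v : Ω), (SimpleGraph.fromRel fun x y : Ω => ∃ g : G, g • a = x ∧ g • b = y).Walk u v →
        u ∈ B → v ∈ B from this a y w ha
    intro u v w
    induction w with
    | nil => exact id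
    | cons hadj _ ih => exact fun hu => ih (hedge _ _ hadj hu)

end Cfsg.Agent.S0734
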