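import Cfsg.Statements.S0736
import Mathlib

set_option autoImplicit false
open Cfsg
open Pointwise

namespace Cfsg.Agent.S0736

theorem not_dvd_choose {p a m : ℕ} (hp : p.Prime) : ∀ j, j < p ^ a → ¬ p ∣ (p ^ a * m + j).choose j := by
  intro j
  induction j with
  | zero => intro _ h; simp only [Nat.choose_zero_right, Nat.dvd_one] at h; exact hp.ne_one h
  | succ j ih =>
    intro hj h
    have key := Nat.add_one_mul_choose_eq (p ^ a * m + j) j
    obtain ⟨e, u, hu, heu⟩ := Nat.exists_eq_pow_mul_and_not_dvd (n := j + 1) (by omega) p hp.ne_one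
    have hea : e < a := by
      by_contra hle
      push Not at hle
      have : p ^ a ∣ j + 1 := heu ▸ dvd_mul_of_dvd_left (pow_dvd_pow p hle) u
      exact absurd (Nat.le_of_dvd (by omega) this) (by omega)
    have hsplit : p ^ a * m = p ^ e * (p * (p ^ (a - e - 1) * m)) := by
      rw [← mul_assoc p, ← pow_succ', ← mul_assoc, ← pow_add]
      congr 2; omega
    have h2 : p ^ a * m + j + 1 = p ^ e * (u + p * (p ^ (a - e - 1) * m)) := by
      rw [mul_add, ← hsplit, ← heu]; ring
    rw [h2, heu] at key
    have key' : (u + p * (p ^ (a - e - 1) * m)) * (p ^ a * m + j).choose j =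
        (p ^ a * m + j + 1).choose (p ^ e * u) * u := by
      apply Nat.eq_of_mul_eq_mul_left (pow_pos hp.pos e)
      rw [← h2] at key
      rw [← mul_assoc, ← h2, key]; ring
    have hd : p ∣ (p ^ a * m + j + 1).choose (p ^ e * u) * u := by
      apply dvd_mul_of_dvd_left
      rw [← heu]; exact h
    rw [← key'] at hd
    rcases hp.dvd_mul.mp hd with hd | hd
    · exact hu ((Nat.dvd_add_left (dvd_mul_right p _)).mp hd)
    · exact ih (by omega) hd

/-- A `k`-homogeneous permutation group of degree `n`, `k ≥ 2`, with `k + q - 1 ≤ n` for every prime power `q` dividing `k`, is `(k-1)`-homogeneous. -/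
theorem result {α : Type*} [Fintype α] [DecidableEq α] (G : Subgroup (Equiv.Perm α)) {k : ℕ} (hk : 2 ≤ k) (hG : MulAction.IsPretransitive G (Set.powersetCard α k)) (hq : ∀ q : ℕ, IsPrimePow q → q ∣ k → k + q - 1 ≤ Fintype.card α) : MulAction.IsPretransitive G (Set.powersetCard α (k - 1)) := by
  classical
  refine ⟨fun A B => ?_⟩
  by_contra hne
  push Not at hne
  have hA : (A : Finset α).card = k - 1 := A.2
  have hkn : k + 1 ≤ Fintype.card α := by
    obtain ⟨q, hq1, hq2⟩ := Nat.exists_prime_and_dvd (show k ≠ 1 by omega)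
    have := hq q hq1.isPrimePow hq2
    have := hq1.two_le
    omega
  let D : Finset (Finset α) := Finset.univ.filter fun s => ∃ g : G, g • (A : Finset α) = s
  have hDcard : ∀ s ∈ D, s.card = k - 1 := by
    intro s hs
    obtain ⟨g, rfl⟩ := (Finset.mem_filter.mp hs).2
    rw [Finset.card_smul_finset]; exact hA
  have hDinv : ∀ (g : G) (s : Finset α), s ∈ D → g • s ∈ D := by
    intro g s hs
    obtain ⟨h, rfl⟩ := (Finset.mem_filter.mp hs).2
    exact Finset.mem_filter.mpr ⟨Finset.mem_univ _, g * h, mul_smul _ _ _⟩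
  let c : Finset α → ℕ := fun T => (D.filter fun s => s ⊆ T).card
  have hle : ∀ (g : G) (T : Finset α), c T ≤ c (g • T) := by
    intro g T
    refine Finset.card_le_card_of_injOn (fun s => g • s) ?_ ?_
    · intro s hs
      simp only [Finset.coe_filter, Set.mem_ofPred_eq] at hs ⊢
      exact ⟨hDinv g s hs.1, Finset.smul_finset_subset_smul_finset hs.2⟩
    · intro s _ t _ hst; exact smul_left_cancel g hst
  have hconst : ∀ T U : Finset α, T.card = k → U.card = k → c T = c U := by
    intro T U hT hU
    obtain ⟨g, hg⟩ := hG.exists_smul_eq ⟨T, hT⟩ ⟨U, hU⟩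
    have hg' : g • T = U := congrArg Subtype.val hg
    refine le_antisymm (hg' ▸ hle g T) ?_
    have := hle g⁻¹ U
    rwa [← hg', inv_smul_smul, hg'] at this
  obtain ⟨T₀, hAT₀, hT₀⟩ := Finset.exists_superset_card_eq (s := (A : Finset α)) (n := k)
    (by omega) (by omega)
  have hAD : (A : Finset α) ∈ D := Finset.mem_filter.mpr ⟨Finset.mem_univ _, 1, one_smul _ _⟩
  have hpos : 0 < c T₀ := Finset.card_pos.mpr ⟨_, Finset.mem_filter.mpr ⟨hAD, hAT₀⟩⟩
  have hcle : c T₀ ≤ k := by
    calc c T₀ ≤ (T₀.powersetCard (k - 1)).card := Finset.card_le_card (by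
          intro s hs
          rw [Finset.mem_filter] at hs
          exact Finset.mem_powersetCard.mpr ⟨hs.2, hDcard s hs.1⟩)
      _ = k := by
          rw [Finset.card_powersetCard, hT₀, Nat.choose_symm_of_eq_add (b := 1) (by omega), Nat.choose_one_right]
  have hdvd : k ∣ c T₀ := by
    rw [Nat.dvd_iff_prime_pow_dvd_dvd]
    intro p a hp hpa
    rcases Nat.eq_zero_or_pos a with rfl | ha
    · simp
    have hS := hq (p ^ a) ⟨p, a, hp.prime, ha, rfl⟩ hpa
    obtain ⟨S, hS'⟩ : ∃ S : Finset α, S.card = k + p ^ a - 1 := by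
      obtain ⟨S, -, hS'⟩ := Finset.exists_subset_card_eq (s := (Finset.univ : Finset α))
        (n := k + p ^ a - 1) (by simpa using hS)
      exact ⟨S, hS'⟩
    have hq1 : 1 ≤ p ^ a := Nat.one_le_pow _ _ hp.pos
    have dc := Finset.sum_card_bipartiteAbove_eq_sum_card_bipartiteBelow
      (s := D.filter (fun s => s ⊆ S)) (t := S.powersetCard k) (fun s T => s ⊆ T)
    have hl : ∀ s ∈ D.filter (fun s => s ⊆ S),
        ((S.powersetCard k).bipartiteAbove (fun s T => s ⊆ T) s).card = p ^ a := by
      intro s hs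
      rw [Finset.mem_filter] at hs
      rw [Finset.bipartiteAbove]
      have : (S.powersetCard k).filter (fun T => s ⊆ T) = (S \ s).image (fun x => insert x s) := by
        ext T
        simp only [Finset.mem_filter, Finset.mem_powersetCard, Finset.mem_image, Finset.mem_sdiff]
        constructor
        · rintro ⟨⟨hTS, hT⟩, hsT⟩
          obtain ⟨x, hx⟩ := Finset.card_eq_one.mp (show (T \ s).card = 1 by
            rw [Finset.card_sdiff_of_subset hsT, hT, hDcard s hs.1]; omega)
          have hxm : x ∈ T \ s := by rw [hx]; exact Finset.mem_singleton_self x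
          rw [Finset.mem_sdiff] at hxm
          refine ⟨x, ⟨hTS hxm.1, hxm.2⟩, ?_⟩
          rw [Finset.insert_eq, ← hx, Finset.sdiff_union_of_subset hsT]
        · rintro ⟨x, ⟨hxS, hxs⟩, rfl⟩
          refine ⟨⟨Finset.insert_subset hxS hs.2, ?_⟩, Finset.subset_insert _ _⟩
          rw [Finset.card_insert_of_notMem hxs, hDcard s hs.1]; omega
      rw [this, Finset.card_image_of_injOn, Finset.card_sdiff_of_subset hs.2, hS', hDcard s hs.1]
      · omega
      · intro x hx y _ hxy
        simp only at hxy
        have hx' := (Finset.mem_sdiff.mp hx).2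
        have : x ∈ insert y s := hxy ▸ Finset.mem_insert_self x s
        exact (Finset.mem_insert.mp this).resolve_right hx'
    have hr : ∀ T ∈ S.powersetCard k,
        ((D.filter (fun s => s ⊆ S)).bipartiteBelow (fun s T => s ⊆ T) T).card = c T₀ := by
      intro T hT
      rw [Finset.mem_powersetCard] at hT
      rw [← hconst T T₀ hT.2 hT₀, Finset.bipartiteBelow, Finset.filter_filter]
      congr 1
      ext s
      simp only [Finset.mem_filter]
      exact ⟨fun h => ⟨h.1, h.2.2⟩, fun h => ⟨h.1, h.2.trans hT.1, h.2⟩⟩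
    rw [Finset.sum_congr rfl hl, Finset.sum_congr rfl hr, Finset.sum_const, Finset.sum_const,
      Finset.card_powersetCard, hS', smul_eq_mul, smul_eq_mul] at dc
    obtain ⟨m, hm⟩ := hpa
    have hnd := not_dvd_choose (a := a) (m := m) hp (p ^ a - 1) (by omega)
    rw [← hm, show k + (p ^ a - 1) = k + p ^ a - 1 by omega,
      ← Nat.choose_symm_of_eq_add (a := k) (show k + p ^ a - 1 = k + (p ^ a - 1) by omega)] at hnd
    exact ((hp.coprime_iff_not_dvd.mpr hnd).pow_left a).dvd_of_dvd_mul_left
      (dc ▸ dvd_mul_left _ _)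
  have hck : c T₀ = k := le_antisymm hcle (Nat.le_of_dvd hpos hdvd)
  have hB : (B : Finset α).card = k - 1 := B.2
  obtain ⟨U, hBU, hU⟩ := Finset.exists_superset_card_eq (s := (B : Finset α)) (n := k)
    (by omega) (by omega)
  have hBD : (B : Finset α) ∈ D := by
    have h1 : D.filter (fun s => s ⊆ U) = U.powersetCard (k - 1) := by
      apply Finset.eq_of_subset_of_card_le
      · intro s hs
        rw [Finset.mem_filter] at hs
        exact Finset.mem_powersetCard.mpr ⟨hs.2, hDcard s hs.1⟩
      · rw [Finset.card_powersetCard, hU, Nat.choose_symm_of_eq_add (b := 1) (by omega),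
          Nat.choose_one_right]
        exact (hck.symm.trans (hconst T₀ U hT₀ hU)).le
    have : (B : Finset α) ∈ U.powersetCard (k - 1) := Finset.mem_powersetCard.mpr ⟨hBU, hB⟩
    rw [← h1, Finset.mem_filter] at this
    exact this.1
  obtain ⟨g, hg⟩ := (Finset.mem_filter.mp hBD).2
  exact hne g (Subtype.ext hg)

end Cfsg.Agent.S0736
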