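import Cfsg.Statements.S0740
import Mathlib
import Cfsg.Agent.Lib.Perm.Zassenhaus

set_option autoImplicit false
open Cfsg

namespace Cfsg.Agent.S0740

/-- In a finite Zassenhaus group any two points `a ≠ b` are swapped by an involution; every such involution has exactly one fixed point when the degree is odd and 0 or 2 fixed points when the degree is even; and if the two-point stabiliser has even order, some such involution has exactly 2 fixed points. -/
theorem result {G Ω : Type*} [Group G] [Finite G] [MulAction G Ω] [Fintype Ω] (hZ : Cfsg.IsZassenhausGroup G Ω) {a b : Ω} (hab : a ≠ b) : (∃ s : G, orderOf s = 2 ∧ s • a = b ∧ s • b = a) ∧ (∀ s : G, orderOf s = 2 → s • a = b → s • b = a → (Odd (Fintype.card Ω) → Nat.card (MulAction.fixedBy Ω s) = 1) ∧ (Even (Fintype.card Ω) → Nat.card (MulAction.fixedBy Ω s) = 0 ∨ Nat.card (MulAction.fixedBy Ω s) = 2)) ∧ (Even (Fintype.card Ω) → Even (Nat.card ↥(MulAction.stabilizer G a ⊓ MulAction.stabilizer G b))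 → ∃ s : G, orderOf s = 2 ∧ s • a = b ∧ s • b = a ∧ Nat.card (MulAction.fixedBy Ω s) = 2) := by
  classical
  obtain ⟨hf, h2, h3, hfix, -⟩ := hZ
  obtain ⟨c, hca, hcb⟩ := Cfsg.Agent.Lib.Perm.Zassenhaus.exists_third hfix a b
  obtain ⟨s₀, hs₀, ha₀, hb₀, hev⟩ :=
    Cfsg.Agent.Lib.Perm.Zassenhaus.exists_involution_swap h2 h3 hab hca hcb
  have hcases : ∀ s : G, orderOf s = 2 →
      (Odd (Fintype.card Ω) → Nat.card (MulAction.fixedBy Ω s) = 1) ∧
      (Even (Fintype.card Ω) → Nat.card (MulAction.fixedBy Ω s) = 0 ∨ Nat.card (MulAction.fixedBy Ω s) = 2) := by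
    intro s hs
    have h1 : s ≠ 1 := fun h => by rw [h] at hs; simp at hs
    have hmod := Cfsg.Agent.Lib.Perm.Zassenhaus.card_fixedBy_mod_two (Ω := Ω)
      (Cfsg.Agent.Lib.Perm.Zassenhaus.mul_self_of_orderOf hs)
    have hle := Cfsg.Agent.Lib.Perm.Zassenhaus.card_fixedBy_le_two h3 (Ω := Ω) h1
    refine ⟨fun ho => ?_, fun he => ?_⟩
    · rw [Nat.odd_iff] at ho; omega
    · rw [Nat.even_iff] at he; omega
  refine ⟨⟨s₀, hs₀, ha₀, hb₀⟩, fun s hs _ _ => hcases s hs, fun he hH => ?_⟩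
  obtain ⟨x, y, hxy, hx, hy⟩ := hev hH
  refine ⟨s₀, hs₀, ha₀, hb₀, ?_⟩
  rcases (hcases s₀ hs₀).2 he with h | h
  · have : IsEmpty (MulAction.fixedBy Ω s₀) := (Nat.card_eq_zero.mp h).resolve_right (not_infinite_iff_finite.mpr inferInstance)
    exact (this.false ⟨x, hx⟩).elim
  · exact h

end Cfsg.Agent.S0740
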