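import Cfsg.Statements.S0744
import Mathlib
import Cfsg.Agent.Lib.Perm.Transitive

set_option autoImplicit false
open Cfsg

namespace Cfsg.Agent.S0744

/-- If all orbits have cardinality `r`, then `r` divides the cardinality. -/
theorem dvd_card_of_orbits {G α : Type*} [Group G] [MulAction G α] [Finite α] {r : ℕ}
    (h : ∀ a : α, Nat.card (MulAction.orbit G a) = r) : r ∣ Nat.card α := by
  classical
  have := Fintype.ofFinite α
  rw [Nat.card_congr (MulAction.selfEquivSigmaOrbits G α), Nat.card_sigma]
  exact Finset.dvd_sum fun ω _ => (h _).symm.dvd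

/-- If for some `k > 1` the pointwise stabilisers of all `(k-1)`-subsets have the same order `> 1` and those of all `k`-subsets have the same order, then the group is `(k-1)`-transitive. -/
theorem result {α : Type*} [Fintype α] [DecidableEq α] (G : Subgroup (Equiv.Perm α)) {k : ℕ} (hk : 1 < k) (hkn : k ≤ Fintype.card α) (l m : ℕ) (hl : 1 < l) (hkm1 : ∀ s : Finset α, s.card = k - 1 → Nat.card (fixingSubgroup G (s : Set α)) = l) (hkm : ∀ s : Finset α, s.card = k → Nat.card (fixingSubgroup G (s : Set α)) = m) : MulAction.IsMultiplyPretransitive G α (k - 1) := by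
  classical
  -- orbits of the pointwise stabiliser of a (k-1)-set on the other points
  have horb : ∀ T : Finset α, T.card = k - 1 → ∀ c, c ∉ T →
      Nat.card (MulAction.orbit (fixingSubgroup G (T : Set α)) c) * m = l := by
    intro T hT c hc
    have hle : fixingSubgroup G ((insert c T : Finset α) : Set α) ≤ fixingSubgroup G (T : Set α) :=
      fun g hg => (mem_fixingSubgroup_iff G).mpr fun x hx =>
        (mem_fixingSubgroup_iff G).mp hg x (by simp at hx ⊢; exact Or.inr hx)
    have he : MulAction.stabilizer (fixingSubgroup G (T : Set α)) c =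
        (fixingSubgroup G ((insert c T : Finset α) : Set α)).subgroupOf (fixingSubgroup G (T : Set α)) := by
      ext g
      rw [MulAction.mem_stabilizer_iff, Subgroup.mem_subgroupOf, mem_fixingSubgroup_iff]
      constructor
      · intro hg x hx
        simp only [Finset.coe_insert, Set.mem_insert_iff] at hx
        rcases hx with rfl | hx
        · exact hg
        · exact (mem_fixingSubgroup_iff G).mp g.2 x hx
      · intro hg; exact hg c (by simp)
    have hm' := hkm (insert c T) (by rw [Finset.card_insert_of_notMem hc, hT]; omega)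
    have hst : Nat.card (MulAction.stabilizer (fixingSubgroup G (T : Set α)) c) = m := by
      rw [he, Nat.card_congr (Subgroup.subgroupOfEquivOfLe hle).toEquiv, hm']
    have := Nat.card_congr (MulAction.orbitProdStabilizerEquivGroup (fixingSubgroup G (T : Set α)) c)
    rw [Nat.card_prod, hst, hkm1 T hT] at this
    exact this
  obtain ⟨S₀, -, hS₀⟩ := Finset.exists_subset_card_eq (s := (Finset.univ : Finset α)) (n := k)
    (by simpa using hkn)
  have hmpos : 0 < m := by rw [← hkm S₀ hS₀]; exact Nat.card_pos
  obtain ⟨c₀, hc₀⟩ := Finset.card_pos.mp (show 0 < S₀.card by omega)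
  have hT₀ : (S₀.erase c₀).card = k - 1 := by rw [Finset.card_erase_of_mem hc₀, hS₀]
  let r := Nat.card (MulAction.orbit (fixingSubgroup G ((S₀.erase c₀ : Finset α) : Set α)) c₀)
  have hr : r * m = l := horb _ hT₀ c₀ (Finset.notMem_erase _ _)
  have hrall : ∀ T : Finset α, T.card = k - 1 → ∀ c, c ∉ T →
      Nat.card (MulAction.orbit (fixingSubgroup G (T : Set α)) c) = r := fun T hT c hc =>
    Nat.eq_of_mul_eq_mul_right hmpos (by rw [horb T hT c hc, hr])
  have hr1 : r ≠ 1 := by
    intro hr1
    have htriv : fixingSubgroup G ((S₀.erase c₀ : Finset α) : Set α) = ⊥ := by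
      rw [Subgroup.eq_bot_iff_forall]
      intro g hg
      apply Subtype.ext
      apply Equiv.ext
      intro x
      by_cases hx : x ∈ S₀.erase c₀
      · exact (mem_fixingSubgroup_iff G).mp hg x (Finset.mem_coe.mpr hx)
      · have h1 := hrall _ hT₀ x hx
        rw [hr1, Nat.card_eq_one_iff_unique] at h1
        have := h1.1.elim ⟨g • x, ⟨⟨g, hg⟩, rfl⟩⟩ ⟨x, MulAction.mem_orbit_self x⟩
        exact congrArg Subtype.val this
    have := hkm1 _ hT₀
    rw [htriv, Subgroup.card_bot] at this
    omega
  apply Cfsg.Agent.Lib.Perm.isMultiplyPretransitive_of_fixing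
  intro s hs a b ha hb
  by_contra hno
  have hab : a ≠ b := by
    rintro rfl
    exact hno ⟨1, fun x _ => one_smul _ x, one_smul _ a⟩
  obtain ⟨T, hsT, hTsub, hT⟩ := Finset.exists_subsuperset_card_eq
    (s := s) (t := ({a, b} : Finset α)ᶜ) (n := k - 2)
    (by intro x hx; simp only [Finset.mem_compl, Finset.mem_insert, Finset.mem_singleton]
        rintro (rfl | rfl) <;> contradiction)
    (by omega)
    (by rw [Finset.card_compl, Finset.card_pair hab]; omega)
  have haT : a ∉ T := fun h' => by simpa using hTsub h'
  have hbT : b ∉ T := fun h' => by simpa using hTsub h'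
  let O := Cfsg.Agent.Lib.Perm.fixOrbit (↥G) s a
  have key : ∀ c, c ∉ T → r ∣ (O.filter (fun x => ¬ (x = c ∨ x ∈ T))).card := by
    intro c hc
    have hU : (insert c T).card = k - 1 := by rw [Finset.card_insert_of_notMem hc, hT]; omega
    let S : SubMulAction (fixingSubgroup G ((insert c T : Finset α) : Set α)) α :=
      { carrier := {x | x ∈ O.filter (fun x => ¬ (x = c ∨ x ∈ T))}
        smul_mem' := fun g x hx => by
          simp only [Set.mem_ofPred_eq, Finset.mem_filter] at hx ⊢
          have hfix := (mem_fixingSubgroup_iff G).mp g.2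
          refine ⟨(Cfsg.Agent.Lib.Perm.smul_mem_fixOrbit_iff
            (fun y hy => hfix y (by simp [hsT hy]))).mpr hx.1, ?_⟩
          intro hgx
          have h2 := hfix ((g : G) • x) (by simpa [Subgroup.smul_def] using hgx)
          have h3 : (g : G) • x = x := smul_left_cancel _ h2
          rw [Subgroup.smul_def, h3] at hgx
          exact hx.2 hgx }
    have hd := dvd_card_of_orbits (G := fixingSubgroup G ((insert c T : Finset α) : Set α))
      (α := S) (r := r) (fun x => by
        have hx := (Finset.mem_filter.mp x.2).2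
        rw [← hrall (insert c T) hU x.1 (by simpa using hx),
          ← SubMulAction.val_image_orbit x, Nat.card_image_of_injective Subtype.val_injective])
    have h1 : Nat.card S = (O.filter (fun x => ¬ (x = c ∨ x ∈ T))).card := by
      rw [← Nat.card_eq_finsetCard]
      rfl
    rwa [h1] at hd
  have haO : a ∈ O := Cfsg.Agent.Lib.Perm.mem_fixOrbit_self s a
  have hbO : b ∉ O := fun hb' => hno (Cfsg.Agent.Lib.Perm.mem_fixOrbit.mp hb')
  have e1 : O.filter (fun x => ¬ (x = a ∨ x ∈ T)) = (O.filter (fun x => x ∉ T)).erase a := by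
    ext x; simp only [Finset.mem_filter, Finset.mem_erase]; tauto
  have e2 : O.filter (fun x => ¬ (x = b ∨ x ∈ T)) = O.filter (fun x => x ∉ T) := by
    refine Finset.filter_congr fun x hx => ?_
    simp [show x ≠ b from fun h' => hbO (h' ▸ hx)]
  have hA := key a haT
  have hB := key b hbT
  rw [e1, Finset.card_erase_of_mem (Finset.mem_filter.mpr ⟨haO, haT⟩)] at hA
  rw [e2] at hB
  have hpos : 0 < (O.filter (fun x => x ∉ T)).card :=
    Finset.card_pos.mpr ⟨a, Finset.mem_filter.mpr ⟨haO, haT⟩⟩
  have := Nat.dvd_sub hB hA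
  rw [Nat.sub_sub_self hpos, Nat.dvd_one] at this
  exact hr1 this

end Cfsg.Agent.S0744
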