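import Cfsg.Statements.S0745
import Mathlib
import Cfsg.Agent.Lib.Perm.HomogeneousSucc
import Cfsg.Agent.Lib.Perm.HomogeneousSmallThree
import Cfsg.Agent.Lib.Perm.HomogeneousSmallFive

set_option autoImplicit false
open Cfsg

namespace Cfsg.Agent.S0745

open Equiv Equiv.Perm
open Cfsg.Agent.Lib.Perm Cfsg.Agent.Lib.Perm.HomogeneousSmall

universe u

theorem not_top {α : Type u} [Fintype α] [DecidableEq α] {G : Subgroup (Perm α)} {m : ℕ}
    (hnt : ¬ MulAction.IsMultiplyPretransitive G α m) : G ≠ ⊤ := by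
  rintro rfl
  apply hnt
  rw [MulAction.isMultiplyPretransitive_iff]
  intro x y
  obtain ⟨σ, hσ⟩ := (MulAction.isMultiplyPretransitive_iff.mp
    (Equiv.Perm.isMultiplyPretransitive α m)) (x := x) (y := y)
  exact ⟨⟨σ, trivial⟩, hσ⟩

theorem card_degree_six {α : Type u} [Fintype α] [DecidableEq α] {G : Subgroup (Perm α)}
    (ht : MulAction.IsMultiplyPretransitive G α 3)
    (hh4 : MulAction.IsPretransitive G (Set.powersetCard α 4))
    (hnt : ¬ MulAction.IsMultiplyPretransitive G α 4) (hn : Fintype.card α = 6) : Nat.card G = 120 := by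
  classical
  obtain ⟨r, hr⟩ := exists_injective (α := α) (m := 4) (by omega)
  have hw : AltOnSubset.fixer G (Finset.univ.image r) = ⊥ := by
    rw [Subgroup.eq_bot_iff_forall]
    intro g hg
    by_contra hne
    have hsub : g.support ⊆ (Finset.univ.image r)ᶜ := fun x hx => by
      rw [Finset.mem_compl]
      exact fun h => Equiv.Perm.mem_support.mp hx (hg.2 x h)
    have hle := Finset.card_le_card hsub
    rw [Finset.card_compl, Finset.card_image_of_injective _ hr, Finset.card_univ, Fintype.card_fin, hn] at hle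
    have h0 : g.support.card ≠ 0 := by simpa using hne
    have h1 : g.support.card ≠ 1 := Equiv.Perm.card_support_ne_one g
    have := MulAction.isMultiplyPretransitive_of_le (G := G) (α := α) (m := 2) (n := 3) (by norm_num)
      (by rw [Nat.card_eq_fintype_card]; omega)
    exact not_top hnt (Equiv.Perm.subgroup_eq_top_of_isPreprimitive_of_isSwap_mem
      (MulAction.isPreprimitive_of_is_two_pretransitive this) g
      (Equiv.Perm.card_support_eq_two.mp (by omega)) hg.1)
  obtain ⟨x, hx⟩ := exists_injective (α := α) (m := 3) (by omega)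
  have h := card_triple ht hh4 hr (by omega) (T := Finset.univ.image x)
    (by rw [Finset.card_image_of_injective _ hx, Finset.card_univ, Fintype.card_fin])
  rw [hw, Subgroup.card_bot, hn, mul_one, show (6 - 3 : ℕ) = 3 from rfl] at h
  have hd := Subgroup.card_subgroup_dvd_card (HomogeneousColour.induced G r)
  rw [Nat.card_perm, Nat.card_eq_fintype_card (α := Fin 4), Fintype.card_fin,
    show (4 : ℕ).factorial = 24 from rfl] at hd
  have hne : Nat.card (HomogeneousColour.induced G r) ≠ 24 := fun e =>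
    ne_top_of_not_pretransitive hh4 hr hnt (Subgroup.eq_top_of_card_eq _
      (by rw [e, Nat.card_perm, Nat.card_eq_fintype_card (α := Fin 4), Fintype.card_fin]; rfl))
  have hle := Nat.le_of_dvd (by norm_num) hd
  have hpos := Nat.card_pos (α := HomogeneousColour.induced G r)
  obtain ⟨d, hd'⟩ := hd
  have hX : Nat.card (AltOnSubset.fixer G (Finset.univ.image x)) = 1 := by
    rcases (show Nat.card (HomogeneousColour.induced G r) = 8 ∨
        Nat.card (HomogeneousColour.induced G r) = 16 by omega) with e | e <;> rw [e] at hd' h <;> omega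
  rw [HomogeneousColour.card_group_transitive ht hx, hX, hn]
  rfl


/-- Let `G` have degree `n` and `3 ≤ k ≤ n`; suppose `G` is `(k-2)`-transitive but not `(k-1)`-transitive, and is `(k-1)`-homogeneous and `k`-homogeneous. Then `k = n` and `G` is the alternating group, or `n = 5, k = 4, |G| = 20`, or `n = 6, k = 5, |G| = 120`, or `n = 9, k = 5, |G| ∈ {504, 1512}`. -/
theorem result {α : Type*} [Fintype α] [DecidableEq α] (G : Subgroup (Equiv.Perm α)) {k : ℕ} (hk : 3 ≤ k) (hkn : k ≤ Fintype.card α) (ht : MulAction.IsMultiplyPretransitive G α (k - 2)) (hnt : ¬ MulAction.IsMultiplyPretransitive G α (k - 1)) (hh1 : MulAction.IsPretransitive G (Set.powersetCard α (k - 1))) (hh : MulAction.IsPretransitive G (Set.powersetCard α k)) : (k = Fintype.card α ∧ G = alternatingGroup α) ∨ (Fintype.card α = 5 ∧ k = 4 ∧ Nat.card G = 20) ∨ (Fintype.card α = 6 ∧ k = 5 ∧ Nat.card G = 120) ∨ (Fintype.card α = 9 ∧ k = 5 ∧ (Nat.card G = 504 ∨ Nat.card G = 1512)) := by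
  classical
  have hG : ∀ {m : ℕ}, Fintype.card α = m + 2 → MulAction.IsMultiplyPretransitive G α m →
      G = alternatingGroup α := fun {m} hm h =>
    Cfsg.Agent.Lib.Perm.HomogeneousSucc.eq_alternating hm h (not_top hnt)
  rcases (show k = 3 ∨ k = 4 ∨ k = 5 ∨ 6 ≤ k by omega) with rfl | rfl | rfl | hk6
  · have h := three (G := G) ht hh1 hh hnt hkn
    exact Or.inl ⟨h.symm, hG (by rw [h]) ht⟩
  · rcases Nat.eq_or_lt_of_le hkn with h | h
    · exact Or.inl ⟨h, hG (by rw [← h]) ht⟩
    · obtain ⟨h5, hc⟩ := four (G := G) ht hh1 hh hnt h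
      exact Or.inr (Or.inl ⟨h5, rfl, hc⟩)
  · rcases Nat.eq_or_lt_of_le hkn with h | h
    · exact Or.inl ⟨h, hG (by rw [← h]) ht⟩
    rcases Nat.eq_or_lt_of_le h with h6 | h7
    · exact Or.inr (Or.inr (Or.inl ⟨h6.symm, rfl, card_degree_six ht hh1 hnt h6.symm⟩))
    · obtain ⟨h9, hc⟩ := five (G := G) ht hh1 hh hnt h7
      exact Or.inr (Or.inr (Or.inr ⟨h9, rfl, hc⟩))
  · obtain ⟨j, rfl⟩ : ∃ j, k = j + 2 := ⟨k - 2, by omega⟩
    obtain ⟨hn, halt⟩ := Cfsg.Agent.Lib.Perm.HomogeneousSucc.main (G := G) (j := j) (by omega) (by omega) ht hh1 hnt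
    exact Or.inl ⟨hn.symm, halt⟩

end Cfsg.Agent.S0745
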