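import Cfsg.Statements.S0746
import Mathlib
import Cfsg.Agent.S0736
import Cfsg.Agent.S0745

set_option autoImplicit false
open Cfsg

namespace Cfsg.Agent.S0746

/-- The Livingstone–Wagner Theorem, first form: a `k`-homogeneous group of degree `n` with `4 ≤ 2k ≤ n` is `(k-1)`-transitive. -/
theorem result {α : Type*} [Fintype α] [DecidableEq α] (G : Subgroup (Equiv.Perm α)) {k : ℕ} (hk : 2 ≤ k) (hkn : 2 * k ≤ Fintype.card α) (hh : MulAction.IsPretransitive G (Set.powersetCard α k)) : MulAction.IsMultiplyPretransitive G α (k - 1) := by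
  classical
  induction k, hk using Nat.le_induction with
  | base =>
    have h1 := Cfsg.Agent.S0736.result G le_rfl hh (fun q hq hdvd => by
      have := Nat.le_of_dvd (by norm_num) hdvd
      omega)
    rw [MulAction.isMultiplyPretransitive_iff]
    intro x y
    obtain ⟨g, hg⟩ := h1.exists_smul_eq ⟨{x 0}, Finset.card_singleton _⟩ ⟨{y 0}, Finset.card_singleton _⟩
    have hg' : ({x 0} : Finset α).image (fun a => g • a) = {y 0} := congrArg Subtype.val hg
    rw [Finset.image_singleton, Finset.singleton_inj] at hg'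
    refine ⟨g, Function.Embedding.ext fun i => ?_⟩
    obtain rfl : i = 0 := Subsingleton.elim (α := Fin 1) _ _
    exact hg'
  | succ m hm ih =>
    have h1 := Cfsg.Agent.S0736.result G (k := m + 1) (by omega) hh (fun q hq hdvd => by
      have := Nat.le_of_dvd (by omega) hdvd
      omega)
    have h2 := ih (by omega) h1
    by_contra hnt
    rcases Cfsg.Agent.S0745.result G (k := m + 1) (by omega) (by omega) h2 hnt h1 hh with
      ⟨h, -⟩ | ⟨h, h', -⟩ | ⟨h, h', -⟩ | ⟨h, h', -⟩ <;> omega

end Cfsg.Agent.S0746
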