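import Cfsg.Statements.S0752
import Mathlib
-- import your own Cfsg.Agent.* helpers here

set_option autoImplicit false
open Cfsg

namespace Cfsg.Agent.S0752

/-- Classification of alternating forms: for an alternating bilinear form B on a finite-dimensional space over any field there is a basis indexed by (Fin m ⊕ Fin m) ⊕ Fin k such that B (e_i, f_j) = δ_ij, the e's are pairwise orthogonal, the f's are pairwise orthogonal, and the last k basis vectors are orthogonal to everything (they span the radical). -/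
theorem result {F V : Type*} [Field F] [AddCommGroup V] [Module F V] [FiniteDimensional F V] (B : LinearMap.BilinForm F V) (hA : B.IsAlt) : ∃ (m k : ℕ) (b : Module.Basis ((Fin m ⊕ Fin m) ⊕ Fin k) F V), (∀ i j : Fin m, B (b (Sum.inl (Sum.inl i))) (b (Sum.inl (Sum.inr j))) = if i = j then 1 else 0) ∧ (∀ i j : Fin m, B (b (Sum.inl (Sum.inl i))) (b (Sum.inl (Sum.inl j))) = 0) ∧ (∀ i j : Fin m, B (b (Sum.inl (Sum.inr i))) (b (Sum.inl (Sum.inr j))) = 0) ∧ (∀ (j : Fin k) (v : V), B (b (Sum.inr j)) v = 0) := by
  classical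
  let P : ℕ → Prop := fun m => ∃ e f : Fin m → V, (∀ i j, B (e i) (f j) = if i = j then 1 else 0) ∧
    (∀ i j, B (e i) (e j) = 0) ∧ (∀ i j, B (f i) (f j) = 0)
  have hneg : ∀ x y, B y x = -B x y := fun x y => (LinearMap.IsAlt.neg hA x y).symm
  have hind : ∀ {m : ℕ} {e f : Fin m → V}, (∀ i j, B (e i) (f j) = if i = j then 1 else 0) →
      (∀ i j, B (e i) (e j) = 0) → (∀ i j, B (f i) (f j) = 0) →
      ∀ (c d : Fin m → F) (u : V), (∀ i, B (e i) u = 0) → (∀ i, B (f i) u = 0) →
      (∑ i, c i • e i) + (∑ i, d i • f i) + u = 0 → c = 0 ∧ d = 0 ∧ u = 0 := by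
    intro m e f hef hee hff c d u hu hu' hsum
    have h1 : d = 0 := funext fun i => by
      simpa [hee, hef, hu] using congrArg (B (e i)) hsum
    have h2 : c = 0 := funext fun i => by
      simpa [hff, hef, hneg (e _) (f i), hu'] using congrArg (B (f i)) hsum
    refine ⟨h2, h1, ?_⟩
    simpa [h1, h2] using hsum
  have hbound : ∀ m, P m → m ≤ Module.finrank F V := by
    rintro m ⟨e, f, hef, hee, hff⟩
    have hli : LinearIndependent F e := by
      rw [Fintype.linearIndependent_iff]
      intro c hc
      have := hind hef hee hff c 0 0 (by simp) (by simp) (by simpa using hc)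
      exact congrFun this.1
    simpa using hli.fintype_card_le_finrank
  have hP0 : P 0 := ⟨Fin.elim0, Fin.elim0, fun i => i.elim0, fun i => i.elim0, fun i => i.elim0⟩
  set m := Nat.findGreatest P (Module.finrank F V) with hm
  obtain ⟨e, f, hef, hee, hff⟩ : P m := Nat.findGreatest_spec (Nat.zero_le _) hP0
  set U : Submodule F V := (⨅ i, (B (e i)).ker) ⊓ ⨅ i, (B (f i)).ker with hU
  have hmemU : ∀ u, u ∈ U ↔ (∀ i, B (e i) u = 0) ∧ ∀ i, B (f i) u = 0 := fun u => by
    simp [hU, Submodule.mem_iInf, LinearMap.mem_ker]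
  have hUU : ∀ u ∈ U, ∀ w ∈ U, B u w = 0 := by
    intro u hu w hw
    by_contra hne
    have hw' : B u ((B u w)⁻¹ • w) = 1 := by simp [hne]
    have hwmem := U.smul_mem (B u w)⁻¹ hw
    rw [hmemU] at hu hwmem
    have hs : P (m + 1) := by
      refine ⟨Fin.snoc e u, Fin.snoc f ((B u w)⁻¹ • w), ?_, ?_, ?_⟩ <;>
        intro i j <;> induction i using Fin.lastCases <;> induction j using Fin.lastCases <;>
        simp only [Fin.snoc_last, Fin.snoc_castSucc]
      · rw [hw']; simp
      · rw [hneg (f _) u, hu.2]; simp [Fin.ext_iff]; omega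
      · rw [hwmem.1]; simp [Fin.ext_iff]; omega
      · rw [hef]; simp
      · exact hA.self_eq_zero u
      · rw [hneg (e _) u, hu.1]; simp
      · exact hu.1 _
      · exact hee _ _
      · exact hA.self_eq_zero _
      · rw [hneg (f _), hwmem.2]; simp
      · exact hwmem.2 _
      · exact hff _ _
    have := Nat.le_findGreatest (hbound _ hs) hs
    omega
  have hdec : ∀ x, x + ∑ i, B (f i) x • e i - ∑ i, B (e i) x • f i ∈ U := by
    intro x
    rw [hmemU]
    constructor <;> intro i <;> simp [hee, hef, hff, hneg (e _) (f _)]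
  have hrad : ∀ u ∈ U, ∀ x, B u x = 0 := by
    intro u hu x
    have e1 := hUU u hu _ (hdec x)
    rw [hmemU] at hu
    simpa [hneg (e _) u, hneg (f _) u, hu.1, hu.2] using e1
  let bU := Module.finBasis F U
  let v : (Fin m ⊕ Fin m) ⊕ Fin (Module.finrank F U) → V :=
    Sum.elim (Sum.elim e f) (fun j => (bU j : V))
  have hli : LinearIndependent F v := by
    rw [Fintype.linearIndependent_iff]
    intro c hc
    rw [Fintype.sum_sum_type, Fintype.sum_sum_type] at hc
    simp only [v, Sum.elim_inl, Sum.elim_inr] at hc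
    have hmem : (∑ j, c (Sum.inr j) • (bU j : V)) ∈ U := sum_mem fun j _ => U.smul_mem _ (bU j).2
    rw [hmemU] at hmem
    obtain ⟨h1, h2, h3⟩ := hind hef hee hff _ _ _ hmem.1 hmem.2 hc
    have h4 : ∑ j, c (Sum.inr j) • bU j = 0 := Subtype.ext (by simpa using h3)
    rintro ((i | i) | j)
    · exact congrFun h1 i
    · exact congrFun h2 i
    · exact Fintype.linearIndependent_iff.mp bU.linearIndependent _ h4 j
  have hspan : ⊤ ≤ Submodule.span F (Set.range v) := by
    intro x _
    have hx : x = (x + ∑ i, B (f i) x • e i - ∑ i, B (e i) x • f i)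
        - ∑ i, B (f i) x • e i + ∑ i, B (e i) x • f i := by abel
    rw [hx]
    refine add_mem (sub_mem ?_ (sum_mem fun i _ => Submodule.smul_mem _ _ ?_))
      (sum_mem fun i _ => Submodule.smul_mem _ _ ?_)
    · have : Submodule.map U.subtype (Submodule.span F (Set.range bU)) ≤ Submodule.span F (Set.range v) := by
        rw [Submodule.map_span, Submodule.span_le]
        rintro _ ⟨_, ⟨j, rfl⟩, rfl⟩
        exact Submodule.subset_span ⟨Sum.inr j, rfl⟩
      rw [bU.span_eq, Submodule.map_top, Submodule.range_subtype] at this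
      exact this (hdec x)
    · exact Submodule.subset_span ⟨Sum.inl (Sum.inl i), rfl⟩
    · exact Submodule.subset_span ⟨Sum.inl (Sum.inr i), rfl⟩
  refine ⟨m, Module.finrank F U, Module.Basis.mk hli hspan, ?_, ?_, ?_, ?_⟩ <;>
    simp only [Module.Basis.coe_mk, v, Sum.elim_inl, Sum.elim_inr]
  · exact hef
  · exact hee
  · exact hff
  · exact fun j => hrad _ (bU j).2

end Cfsg.Agent.S0752
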