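import Cfsg.Statements.S0753
import Mathlib

-- import your own Cfsg.Agent.* helpers here

set_option autoImplicit false
open Cfsg

namespace Cfsg.Agent.S0753

/-- If σ is a ring endomorphism of the field F other than the identity and B is a σ-sesquilinear conjugate-symmetric form with B v v = 0 for every v, then B = 0. -/
theorem result {F V : Type*} [Field F] [AddCommGroup V] [Module F V] (σ : F →+* F) (hσ : σ ≠ RingHom.id F) (B : V →ₛₗ[σ] V →ₗ[F] F) (hS : B.IsSymm) (h0 : ∀ v : V, B v v = 0) : B = 0 := by
  refine LinearMap.ext fun u => LinearMap.ext fun w => ?_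
  simp only [LinearMap.zero_apply]
  by_contra hne
  apply hσ
  ext a
  have key : ∀ z, B u z + B z u = 0 := fun z => by
    have h := h0 (u + z)
    simp only [map_add, LinearMap.add_apply, h0] at h
    linear_combination h
  have h1 := key w
  have h2 := key (a • w)
  rw [← hS.eq u w] at h1
  rw [← hS.eq u (a • w)] at h2
  simp only [map_smul, smul_eq_mul, map_mul] at h2
  rw [RingHom.id_apply]
  refine mul_right_cancel₀ hne ?_
  linear_combination σ a * h1 - h2

end Cfsg.Agent.S0753
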