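import Cfsg.Statements.S0757
import Mathlib
-- import your own Cfsg.Agent.* helpers here

set_option autoImplicit false
open Cfsg

namespace Cfsg.Agent.S0757

/-- The two diagonal forms Σ x_i^2 and Σ_(i<n) x_i^2 + α x_n^2 on F^(n+1), with α a non-square and 2 ≠ 0 in F, are inequivalent quadratic forms (so over a finite field of odd order there are exactly two classes of non-singular symmetric bilinear forms in each dimension). -/
theorem result {F : Type*} [Field F] (h2 : (2 : F) ≠ 0) (n : ℕ) (α : F) (hα : ¬ IsSquare α) : ¬ (QuadraticMap.weightedSumSquares F (fun _ : Fin (n + 1) => (1 : F))).Equivalent (QuadraticMap.weightedSumSquares F (fun i : Fin (n + 1) => if i = Fin.last n then α else (1 : F))) := by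
  rintro ⟨e⟩
  apply hα
  classical
  set w : Fin (n + 1) → F := fun i => if i = Fin.last n then α else 1 with hw
  set M : Matrix (Fin (n + 1)) (Fin (n + 1)) F := LinearMap.toMatrix' e.toLinearEquiv.toLinearMap with hM
  have hQ : ∀ x, (∑ i, w i * (e x i * e x i)) = ∑ i, x i * x i := fun x => by
    have := e.map_app x
    simp only [QuadraticMap.weightedSumSquares_apply, smul_eq_mul, one_mul] at this
    exact this
  have hbil : ∀ x y, (∑ i, w i * (e x i * e y i)) = ∑ i, x i * y i := fun x y => by
    have h := hQ (x + y)
    have e' : e (x + y) = e x + e y := map_add e.toLinearEquiv x y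
    rw [e'] at h
    simp only [Pi.add_apply, mul_add, add_mul, Finset.sum_add_distrib, hQ x, hQ y] at h
    have h' : ∀ i, w i * (e y i * e x i) = w i * (e x i * e y i) := fun i => by ring
    have h'' : ∀ i, y i * x i = x i * y i := fun i => mul_comm _ _
    simp only [h', h''] at h
    refine mul_left_cancel₀ h2 ?_
    linear_combination h
  have hmat : M.transpose * Matrix.diagonal w * M = 1 := by
    ext j k
    have := hbil (Pi.single j 1) (Pi.single k 1)
    have hj : ∀ i j, M i j = e (Pi.single j 1) i := fun i j => by
      rw [hM, LinearMap.toMatrix'_apply]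
      rfl
    rw [Matrix.mul_apply, Finset.sum_congr rfl fun i _ => show
      (M.transpose * Matrix.diagonal w) j i * M i k = w i * (e (Pi.single j 1) i * e (Pi.single k 1) i) by
        rw [Matrix.mul_diagonal, Matrix.transpose_apply, hj, hj]; ring, this]
    simp [Matrix.one_apply, Pi.single_apply, eq_comm]
  have hdet := congrArg Matrix.det hmat
  rw [Matrix.det_mul, Matrix.det_mul, Matrix.det_transpose, Matrix.det_diagonal, Matrix.det_one] at hdet
  have hprod : ∏ i, w i = α := by simp [hw, Finset.prod_ite_eq']
  rw [hprod] at hdet
  have hne : M.det ≠ 0 := by intro h; rw [h] at hdet; simp at hdet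
  exact ⟨M.det⁻¹, by field_simp; linear_combination hdet⟩

end Cfsg.Agent.S0757
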