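import Cfsg.Statements.S0758
import Mathlib
-- import your own Cfsg.Agent.* helpers here

set_option autoImplicit false
open Cfsg

namespace Cfsg.Agent.S0758

/-- For a finite field F of odd order q and a non-square α: the form x² + y² is isotropic iff q ≡ 1 mod 4, and the form x² + α y² is isotropic iff q ≡ 3 mod 4. -/
theorem result {F : Type*} [Field F] [Fintype F] (h2 : (2 : F) ≠ 0) (α : F) (hα : ¬ IsSquare α) : ((∃ x y : F, (x ≠ 0 ∨ y ≠ 0) ∧ x ^ 2 + y ^ 2 = 0) ↔ Fintype.card F % 4 = 1) ∧ ((∃ x y : F, (x ≠ 0 ∨ y ≠ 0) ∧ x ^ 2 + α * y ^ 2 = 0) ↔ Fintype.card F % 4 = 3) := by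
  classical
  have hchar : ringChar F ≠ 2 := fun h => h2 (by
    have := ringChar.Nat.cast_ringChar (R := F); rw [h] at this; simpa using this)
  have hodd := FiniteField.odd_card_of_char_ne_two hchar
  have hα0 : α ≠ 0 := fun h => hα (h ▸ IsSquare.zero)
  have key : ∀ c : F, c ≠ 0 →
      ((∃ x y : F, (x ≠ 0 ∨ y ≠ 0) ∧ x ^ 2 + c * y ^ 2 = 0) ↔ IsSquare (-c)) := by
    intro c hc
    constructor
    · rintro ⟨x, y, hxy, he⟩
      have hy : y ≠ 0 := by
        intro hy
        subst hy
        simp at he hxy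
        exact hxy he
      exact ⟨x / y, by field_simp; linear_combination -he⟩
    · rintro ⟨r, hr⟩
      exact ⟨r, 1, Or.inr one_ne_zero, by linear_combination -hr⟩
  have h4 : Fintype.card F % 4 = 1 ∨ Fintype.card F % 4 = 3 := by omega
  constructor
  · have := key 1 one_ne_zero
    simp only [one_mul] at this
    rw [this, FiniteField.isSquare_neg_one_iff]
    omega
  · rw [key α hα0]
    have hmul : quadraticChar F (-α) = -quadraticChar F (-1) := by
      rw [neg_eq_neg_one_mul α, map_mul, quadraticChar_neg_one_iff_not_isSquare.mpr hα]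
      ring
    have hne : (-1 : F) ≠ 0 := neg_ne_zero.mpr one_ne_zero
    rw [← quadraticChar_one_iff_isSquare (neg_ne_zero.mpr hα0), hmul, neg_eq_iff_eq_neg,
      quadraticChar_neg_one_iff_not_isSquare, FiniteField.isSquare_neg_one_iff]
    omega

end Cfsg.Agent.S0758
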