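import Cfsg.Statements.S0759
import Mathlib
-- import your own Cfsg.Agent.* helpers here

set_option autoImplicit false
open Cfsg

namespace Cfsg.Agent.S0759

/-- Type of the orthonormal form: over a finite field of odd order q and for m ≥ 1, the quadratic form Σ_(i<2m) x_i² on F^(2m) admits an m-dimensional subspace on which it vanishes identically if and only if it is not the case that q ≡ 3 (mod 4) and m is odd. -/
theorem result {F : Type*} [Field F] [Fintype F] (h2 : (2 : F) ≠ 0) (m : ℕ) (hm : 1 ≤ m) : (∃ W : Submodule F (Fin (2 * m) → F), Module.finrank F W = m ∧ ∀ w ∈ W, ∑ i, w i ^ 2 = 0) ↔ ¬ (Fintype.card F % 4 = 3 ∧ Odd m) := by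
  classical
  have hchar : ringChar F ≠ 2 := fun h => h2 (by
    have := ringChar.Nat.cast_ringChar (R := F); rw [h] at this; simpa using this)
  constructor
  · rintro ⟨W, hW, hW0⟩ ⟨hq, hodd⟩
    obtain ⟨C, hC⟩ := Submodule.exists_isCompl W
    have hCd : Module.finrank F C = m := by
      have := Submodule.finrank_add_eq_of_isCompl hC
      rw [hW, Module.finrank_fin_fun] at this
      omega
    let bW := (Module.finBasis F W).reindex (finCongr hW)
    let bC := (Module.finBasis F C).reindex (finCongr hCd)
    let b : Module.Basis (Fin m ⊕ Fin m) F (Fin (2 * m) → F) :=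
      (bW.prod bC).map (Submodule.prodEquivOfIsCompl W C hC)
    let e : Fin m ⊕ Fin m ≃ Fin (2 * m) := finSumFinEquiv.trans (finCongr (two_mul m).symm)
    let P : Matrix (Fin m ⊕ Fin m) (Fin m ⊕ Fin m) F := fun i j => b j (e i)
    have hdet : P.det ≠ 0 := by
      intro h0
      obtain ⟨x, hx0, hx⟩ := Matrix.exists_mulVec_eq_zero_iff.mpr h0
      apply hx0
      have hz : ∑ j, x j • b j = 0 := by
        funext k
        obtain ⟨i, rfl⟩ := e.surjective k
        have := congrFun hx i
        simpa [P, Matrix.mulVec, dotProduct, mul_comm] using this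
      funext j
      exact Fintype.linearIndependent_iff.mp b.linearIndependent x hz j
    have hbil : ∀ u ∈ W, ∀ v ∈ W, ∑ i, u i * v i = 0 := by
      intro u hu v hv
      have h := hW0 _ (add_mem hu hv)
      simp only [Pi.add_apply, add_sq, Finset.sum_add_distrib, hW0 u hu, hW0 v hv, zero_add, add_zero] at h
      simp only [mul_assoc, ← Finset.mul_sum] at h
      exact (mul_eq_zero.mp h).resolve_left h2
    have hG : (P.transpose * P).toBlocks₁₁ = 0 := by
      ext i j
      simp only [Matrix.toBlocks₁₁, Matrix.of_apply, Matrix.mul_apply, Matrix.transpose_apply, P, Matrix.zero_apply]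
      refine (e.sum_comp (fun k => b (Sum.inl i) k * b (Sum.inl j) k)).trans ?_
      refine hbil _ ?_ _ ?_ <;>
        simp [b, Module.Basis.map_apply, Submodule.coe_prodEquivOfIsCompl']
    set G := P.transpose * P with hGdef
    have hGT : G.transpose = G := by rw [hGdef, Matrix.transpose_mul, Matrix.transpose_transpose]
    have h21 : G.toBlocks₂₁ = G.toBlocks₁₂.transpose := by
      ext i j
      simp only [Matrix.toBlocks₁₂, Matrix.toBlocks₂₁, Matrix.of_apply, Matrix.transpose_apply]
      exact congrFun (congrFun hGT (Sum.inl j)) (Sum.inr i)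
    have hswap : (Matrix.fromBlocks 0 1 1 0 : Matrix (Fin m ⊕ Fin m) (Fin m ⊕ Fin m) F).det = (-1) ^ m := by
      have e1 : (Matrix.fromBlocks 1 1 0 1 : Matrix (Fin m ⊕ Fin m) (Fin m ⊕ Fin m) F)
          * Matrix.fromBlocks 0 1 1 0 = Matrix.fromBlocks 1 1 1 0 := by
        simp [Matrix.fromBlocks_multiply]
      have e2 := congrArg Matrix.det e1
      rw [Matrix.det_mul, Matrix.det_fromBlocks_zero₂₁, Matrix.det_fromBlocks_one₁₁] at e2
      simpa [Matrix.det_neg] using e2
    have hGdet : G.det * (-1) ^ m = G.toBlocks₁₂.det ^ 2 := by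
      have e1 : G * Matrix.fromBlocks 0 1 1 0
          = Matrix.fromBlocks G.toBlocks₁₂ 0 G.toBlocks₂₂ G.toBlocks₁₂.transpose := by
        conv_lhs => rw [← G.fromBlocks_toBlocks, hG, h21]
        simp [Matrix.fromBlocks_multiply]
      have e2 := congrArg Matrix.det e1
      rw [Matrix.det_mul, Matrix.det_fromBlocks_zero₁₂, Matrix.det_transpose, hswap] at e2
      rw [e2, sq]
    rw [hGdef, Matrix.det_mul, Matrix.det_transpose, Odd.neg_one_pow hodd] at hGdet
    have hsq : IsSquare (-1 : F) := ⟨G.toBlocks₁₂.det / P.det, by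
      field_simp; linear_combination hGdet⟩
    rw [FiniteField.isSquare_neg_one_iff] at hsq
    exact hsq hq
  · intro hnot
    obtain ⟨A, hA⟩ : ∃ A : Matrix (Fin m) (Fin m) F, A.transpose * A = -1 := by
      by_cases hsq : IsSquare (-1 : F)
      · obtain ⟨i, hi⟩ := hsq
        refine ⟨i • 1, ?_⟩
        rw [Matrix.transpose_smul, Matrix.transpose_one, Matrix.smul_mul, Matrix.one_mul, smul_smul, ← hi,
          neg_one_smul]
      · have hev : Even m := by
          rw [← Nat.not_odd_iff_even]
          intro ho
          rw [FiniteField.isSquare_neg_one_iff] at hsq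
          exact hnot ⟨not_not.mp hsq, ho⟩
        obtain ⟨k, hk⟩ := hev
        obtain ⟨a, b, hab⟩ : ∃ a b : F, a ^ 2 + b ^ 2 = -1 := by
          obtain ⟨a, b, hab⟩ := FiniteField.exists_root_sum_quadratic (f := Polynomial.X ^ 2)
            (g := Polynomial.X ^ 2 + 1) (Polynomial.degree_X_pow 2)
            (by rw [Polynomial.degree_add_eq_left_of_degree_lt] <;> simp)
            (FiniteField.odd_card_of_char_ne_two hchar)
          refine ⟨a, b, ?_⟩
          simp only [Polynomial.eval_pow, Polynomial.eval_X, Polynomial.eval_add, Polynomial.eval_one] at hab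
          linear_combination hab
        let e : Fin k ⊕ Fin k ≃ Fin m := finSumFinEquiv.trans (finCongr hk.symm)
        refine ⟨Matrix.reindex e e (Matrix.fromBlocks (a • 1) ((-b) • 1) (b • 1) (a • 1)), ?_⟩
        rw [Matrix.reindex_apply, Matrix.transpose_submatrix, Matrix.submatrix_mul_equiv,
          Matrix.fromBlocks_transpose, Matrix.fromBlocks_multiply]
        simp only [Matrix.transpose_smul, Matrix.transpose_one, Matrix.smul_mul, Matrix.one_mul, smul_smul,
          ← add_smul]
        rw [show a * a + b * b = -1 by linear_combination hab, show a * -b + b * a = 0 by ring,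
          show -b * a + a * b = 0 by ring, show -b * -b + a * a = -1 by linear_combination hab]
        ext i j
        obtain ⟨i, rfl⟩ := e.surjective i
        obtain ⟨j, rfl⟩ := e.surjective j
        rcases i with i | i <;> rcases j with j | j <;> simp [Matrix.one_apply]
    let e : Fin m ⊕ Fin m ≃ Fin (2 * m) := finSumFinEquiv.trans (finCongr (two_mul m).symm)
    let L : (Fin m → F) →ₗ[F] (Fin (2 * m) → F) :=
      { toFun := fun x => fun k => Sum.elim x (A.mulVec x) (e.symm k)
        map_add' := fun x y => by
          funext k; rcases h : e.symm k with i | i <;> simp [h, Matrix.mulVec_add]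
        map_smul' := fun c x => by
          funext k; rcases h : e.symm k with i | i <;> simp [h, Matrix.mulVec_smul] }
    refine ⟨L.range, ?_, ?_⟩
    · rw [LinearMap.finrank_range_of_inj, Module.finrank_fin_fun]
      intro x y hxy
      funext i
      simpa [L] using congrFun hxy (e (Sum.inl i))
    · rintro _ ⟨x, rfl⟩
      rw [← e.sum_comp (fun k => L x k ^ 2), Fintype.sum_sum_type]
      simp only [L, LinearMap.coe_mk, AddHom.coe_mk, Equiv.symm_apply_apply, Sum.elim_inl, Sum.elim_inr]
      have : (A.mulVec x) ⬝ᵥ (A.mulVec x) = -(x ⬝ᵥ x) := by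
        rw [Matrix.dotProduct_mulVec, ← Matrix.mulVec_transpose, Matrix.mulVec_mulVec, hA, Matrix.neg_mulVec,
          Matrix.one_mulVec, neg_dotProduct]
      simp only [dotProduct, ← sq] at this
      rw [this]; ring

end Cfsg.Agent.S0759
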