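import Cfsg.Statements.S0760
import Mathlib
import Cfsg.Agent.Lib.Forms.Witt
-- import your own Cfsg.Agent.* helpers here

set_option autoImplicit false
open Cfsg

namespace Cfsg.Agent.S0760

/-- Witt index is well defined: if Q is a quadratic form on a finite-dimensional space V over a finite field with non-degenerate polar form, and W₁, W₂ are subspaces on which Q vanishes that are maximal with this property, then W₁ and W₂ have the same dimension, and twice this dimension is at most dim V. -/
theorem result {F V : Type*} [Field F] [Finite F] [AddCommGroup V] [Module F V] [FiniteDimensional F V] (Q : QuadraticForm F V) (hQ : (QuadraticMap.polarBilin Q).Nondegenerate) (W₁ W₂ : Submodule F V) (h₁ : ∀ w ∈ W₁, Q w = 0) (h₂ : ∀ w ∈ W₂, Q w = 0) (hmax₁ : ∀ W : Submodule F V, W₁ ≤ W → (∀ w ∈ W, Q w = 0) → W = W₁) (hmax₂ : ∀ W : Submodule F V, W₂ ≤ W → (∀ w ∈ W, Q w = 0) → W = W₂) : Module.finrank F W₁ = Module.finrank F W₂ ∧ 2 * Module.finrank F W₁ ≤ Module.finrank F V := by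
  have key : ∀ A C : Submodule F V, (∀ w ∈ A, Q w = 0) → (∀ w ∈ C, Q w = 0) →
      (∀ W : Submodule F V, A ≤ W → (∀ w ∈ W, Q w = 0) → W = A) →
      Module.finrank F A ≤ Module.finrank F C → Module.finrank F C ≤ Module.finrank F A := by
    intro A C hA hC hmax hle
    obtain ⟨φ, hφ⟩ : ∃ φ : A →ₗ[F] C, Function.Injective φ := by
      refine ⟨(Module.finBasis F A).constr F fun i => Module.finBasis F C (Fin.castLE hle i), ?_⟩
      rw [← LinearMap.ker_eq_bot, LinearMap.ker_eq_bot']
      intro x hx
      have hli := ((Module.finBasis F C).linearIndependent.comp _ (Fin.castLE_injective hle))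
      rw [Module.Basis.constr_apply_fintype] at hx
      have h0 := Fintype.linearIndependent_iff.mp hli _ hx
      exact (Module.finBasis F A).ext_elem fun i => by simpa using h0 i
    obtain ⟨g, hg, hgA⟩ := Cfsg.Agent.Lib.Forms.witt_quad hQ (C.subtype ∘ₗ φ) (Subtype.val_injective.comp hφ)
      (fun a => by rw [hA _ a.2]; exact hC _ (φ a).2)
    have hW : C.comap g.toLinearMap = A := hmax _ (fun a ha => by
        have := hgA ⟨a, ha⟩
        rw [Submodule.mem_comap, LinearEquiv.coe_coe, this]
        exact (φ ⟨a, ha⟩).2)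
      (fun w hw => by rw [← hg]; exact hC _ hw)
    rw [← hW]
    exact le_of_eq ((LinearEquiv.finrank_eq (LinearEquiv.ofSubmodule' g C)).symm)
  have heq : Module.finrank F W₁ = Module.finrank F W₂ := by
    rcases le_total (Module.finrank F W₁) (Module.finrank F W₂) with hle | hle
    · exact le_antisymm hle (key W₁ W₂ h₁ h₂ hmax₁ hle)
    · exact le_antisymm (key W₂ W₁ h₂ h₁ hmax₂ hle) hle
  refine ⟨heq, ?_⟩
  have h := Cfsg.Agent.Lib.Forms.IsGoodForm.of_quadratic hQ
  have hle : W₁ ≤ Cfsg.Agent.Lib.Forms.perp (QuadraticMap.polarBilin Q) W₁ := fun x hx y hy => by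
    simp [QuadraticMap.polar, h₁ x hx, h₁ y hy, h₁ _ (add_mem hy hx)]
  have h1 := Submodule.finrank_mono hle
  have h2 := h.finrank_add_finrank_perp W₁
  omega

end Cfsg.Agent.S0760
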