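import Cfsg.Statements.S0761
import Mathlib
import Cfsg.Agent.Lib.Forms.Basic
-- import your own Cfsg.Agent.* helpers here

set_option autoImplicit false
open Cfsg

namespace Cfsg.Agent.S0761

/-- Hyperbolic partners: let B be a non-degenerate bilinear form on a finite-dimensional space, either alternating, or symmetric with 2 ≠ 0. If Z is a subspace on which B vanishes, x ∉ Z is isotropic and orthogonal to Z, then there is an isotropic y with B x y = 1 which is orthogonal to Z. -/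
theorem result {F V : Type*} [Field F] [AddCommGroup V] [Module F V] [FiniteDimensional F V] (B : LinearMap.BilinForm F V) (hB : B.Nondegenerate) (hform : B.IsAlt ∨ (B.IsSymm ∧ (2 : F) ≠ 0)) (x : V) (Z : Submodule F V) (hxZ : x ∉ Z) (hx : B x x = 0) (hxz : ∀ z ∈ Z, B x z = 0) (hZ : ∀ z ∈ Z, ∀ z' ∈ Z, B z z' = 0) : ∃ y : V, B y y = 0 ∧ B x y = 1 ∧ ∀ z ∈ Z, B z y = 0 := by
  obtain ⟨ε, h, ht⟩ : ∃ ε : F, Cfsg.Agent.Lib.Forms.IsGoodForm (σ := RingHom.id F) B ε ∧
      ∀ s : F, (∃ a, B a a = s) → ∃ t : F, s + t * (1 + ε) = 0 := by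
    rcases hform with hA | ⟨hS, h2⟩
    · exact ⟨-1, .of_isAlt hA hB, fun s hs => by
        obtain ⟨a, rfl⟩ := hs
        exact ⟨0, by simp [hA.self_eq_zero]⟩⟩
    · exact ⟨1, .of_isSymm hS hB h2, fun s _ => ⟨-s / 2, by field_simp; ring⟩⟩
  obtain ⟨a, ha, -, hax⟩ := h.exists_sep hxZ
  have hxa : B x (ε • a) = 1 := by
    rw [map_smul, h.herm a x, hax]; simp [h.eps_sq]
  obtain ⟨t, ht⟩ := ht _ ⟨ε • a, rfl⟩
  refine ⟨ε • a + t • x, ?_, ?_, fun z hz => ?_⟩
  · have h' : B (ε • a) x = ε := by rw [h.herm x (ε • a), hxa]; simp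
    simp only [map_add, LinearMap.add_apply, map_smul B t, map_smul (B _) t, LinearMap.smul_apply, hxa, h', hx,
      smul_eq_mul]
    linear_combination ht
  · rw [map_add, hxa, map_smul, hx]; simp
  · have h1 : B z a = 0 := h.eq_zero_symm (ha z hz)
    have h2 : B z x = 0 := h.eq_zero_symm (hxz z hz)
    simp [h1, h2]

end Cfsg.Agent.S0761
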