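import Cfsg.Statements.S0762
import Mathlib
-- import your own Cfsg.Agent.* helpers here

set_option autoImplicit false
open Cfsg

namespace Cfsg.Agent.S0762

/-- In characteristic two over a finite field, a quadratic form on a space of dimension at least 3 vanishes on some non-zero vector. -/
theorem result {F V : Type*} [Field F] [Finite F] [CharP F 2] [AddCommGroup V] [Module F V] [FiniteDimensional F V] (Q : QuadraticForm F V) (h3 : 3 ≤ Module.finrank F V) : ∃ v : V, v ≠ 0 ∧ Q v = 0 := by
  obtain ⟨u, hu⟩ : ∃ u : V, u ≠ 0 := by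
    have : Nontrivial V := Module.nontrivial_of_finrank_pos (R := F) (by omega)
    exact exists_ne 0
  by_cases hQu : Q u = 0
  · exact ⟨u, hu, hQu⟩
  set L := QuadraticMap.polarBilin Q u
  have hker : 2 ≤ Module.finrank F L.ker := by
    have h1 := L.finrank_range_add_finrank_ker
    have h2 : Module.finrank F L.range ≤ 1 := (Submodule.finrank_le _).trans (by simp)
    omega
  obtain ⟨w, hw, hwu⟩ : ∃ w, w ∈ L.ker ∧ w ∉ F ∙ u := by
    by_contra hne
    push Not at hne
    have := Submodule.finrank_mono (fun w hw => hne w hw)
    rw [finrank_span_singleton hu] at this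
    omega
  obtain ⟨c, hc⟩ := surjective_frobenius F 2 (Q w / Q u)
  rw [frobenius_def] at hc
  have h2 : (2 : F) = 0 := CharTwo.two_eq_zero
  refine ⟨w + c • u, fun h0 => hwu ?_, ?_⟩
  · rw [show w = -(c • u) from eq_neg_of_add_eq_zero_left h0]
    exact neg_mem (Submodule.smul_mem _ _ (Submodule.mem_span_singleton_self u))
  · rw [QuadraticMap.map_add (⇑Q), QuadraticMap.map_smul, QuadraticMap.polar_smul_right, QuadraticMap.polar_comm,
      show QuadraticMap.polar Q u w = 0 from hw, smul_zero, add_zero, smul_eq_mul, ← sq, hc]
    field_simp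
    linear_combination Q w * h2

end Cfsg.Agent.S0762
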