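import Cfsg.Statements.S0763
import Mathlib
import Cfsg.Agent.Lib.Forms.Basic
-- import your own Cfsg.Agent.* helpers here

set_option autoImplicit false
open Cfsg

namespace Cfsg.Agent.S0763

/-- Binary quadratic forms in characteristic two over a finite field: if Q is a quadratic form on a 2-dimensional space whose polar form is non-degenerate, then either there are vectors v, w with Q v = Q w = 0 and polar value 1 (Q is xy in these coordinates), or there are v, w and μ with Q v = 1, Q w = μ, polar value 1 and x² + x + μ without roots in F (Q is x² + xy + μy²). -/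
theorem result {F V : Type*} [Field F] [Finite F] [CharP F 2] [AddCommGroup V] [Module F V] (Q : QuadraticForm F V) (h2 : Module.finrank F V = 2) (hQ : (QuadraticMap.polarBilin Q).Nondegenerate) : (∃ v w : V, LinearIndependent F ![v, w] ∧ Q v = 0 ∧ Q w = 0 ∧ QuadraticMap.polar Q v w = 1) ∨ (∃ (v w : V) (μ : F), LinearIndependent F ![v, w] ∧ (∀ x : F, x ^ 2 + x + μ ≠ 0) ∧ Q v = 1 ∧ Q w = μ ∧ QuadraticMap.polar Q v w = 1) := by
  have : FiniteDimensional F V := FiniteDimensional.of_finrank_pos (by omega)
  have h := Cfsg.Agent.Lib.Forms.IsGoodForm.of_quadratic hQ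
  have hpart : ∀ v : V, v ≠ 0 → ∃ a, QuadraticMap.polar Q v a = 1 := by
    intro v hv
    obtain ⟨a, -, -, ha⟩ := h.exists_sep (H := (⊥ : Submodule F V)) (x := v) (by simpa using hv)
    exact ⟨a, by rw [QuadraticMap.polar_comm]; exact ha⟩
  have hind : ∀ v w : V, QuadraticMap.polar Q v w = 1 → LinearIndependent F ![v, w] := by
    intro v w hvw
    have hvv : ∀ z : V, QuadraticMap.polar Q z z = 0 := fun z => by
      rw [QuadraticMap.polar_self, two_nsmul, CharTwo.add_self_eq_zero]
    rw [LinearIndependent.pair_iff]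
    intro s t hst
    have e1 := congrArg (fun z => QuadraticMap.polar Q v z) hst
    have e2 := congrArg (fun z => QuadraticMap.polar Q w z) hst
    simp [QuadraticMap.polar_add_right, QuadraticMap.polar_smul_right, hvw, QuadraticMap.polar_comm Q w v, hvv]
      at e1 e2
    exact ⟨e2, e1⟩
  by_cases hs : ∃ v : V, v ≠ 0 ∧ Q v = 0
  · obtain ⟨v, hv, hv0⟩ := hs
    obtain ⟨a, ha⟩ := hpart v hv
    have hvw : QuadraticMap.polar Q v (a + (-Q a) • v) = 1 := by
      rw [QuadraticMap.polar_add_right, QuadraticMap.polar_smul_right, ha, QuadraticMap.polar_self, hv0]; simp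
    refine Or.inl ⟨v, a + (-Q a) • v, hind _ _ hvw, hv0, ?_, hvw⟩
    rw [Cfsg.Agent.Lib.Forms.quad_add_smul, hv0, QuadraticMap.polar_comm, ha]; ring
  · push Not at hs
    have : Nontrivial V := Module.nontrivial_of_finrank_pos (R := F) (by omega)
    obtain ⟨u, hu⟩ := exists_ne (0 : V)
    obtain ⟨c, hc⟩ := surjective_frobenius F 2 (Q u)⁻¹
    rw [frobenius_def] at hc
    have hQv : Q (c • u) = 1 := by
      rw [QuadraticMap.map_smul, smul_eq_mul, ← sq, hc, inv_mul_cancel₀ (hs u hu)]
    obtain ⟨w, hw⟩ := hpart (c • u) (fun e => by rw [e, map_zero] at hQv; exact zero_ne_one hQv)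
    refine Or.inr ⟨c • u, w, Q w, hind _ _ hw, fun x hx => ?_, hQv, rfl, hw⟩
    refine hs (w + x • (c • u)) (fun e => ?_) ?_
    · have := (LinearIndependent.pair_iff.mp (hind _ _ hw) x 1 (by rw [one_smul, add_comm]; exact e)).2
      exact one_ne_zero this
    · rw [Cfsg.Agent.Lib.Forms.quad_add_smul, hQv, QuadraticMap.polar_comm, hw]
      linear_combination hx

end Cfsg.Agent.S0763
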