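import Cfsg.Statements.S0766
import Mathlib
import Cfsg.Agent.Lib.Forms.Symplectic
-- import your own Cfsg.Agent.* helpers here

set_option autoImplicit false
open Cfsg

namespace Cfsg.Agent.S0766

/-- The subgroup generated by the symplectic transvections acts transitively on ordered pairs (u, v) with f(u, v) = 1. -/
theorem result {F : Type*} [Field F] (m : ℕ) (u v u' v' : Fin m ⊕ Fin m → F) (h : Cfsg.sympForm m F u v = 1) (h' : Cfsg.sympForm m F u' v' = 1) : ∃ A ∈ Subgroup.closure {A : Matrix.symplecticGroup (Fin m) F | ∃ (w : Fin m ⊕ Fin m → F) (c : F), (A : Matrix (Fin m ⊕ Fin m) (Fin m ⊕ Fin m) F) = Cfsg.sympTransvection m w c}, (A : Matrix (Fin m ⊕ Fin m) (Fin m ⊕ Fin m) F).mulVec u = u' ∧ (A : Matrix (Fin m ⊕ Fin m) (Fin m ⊕ Fin m) F).mulVec v = v' := by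
  have hind : ∀ a b : Fin m ⊕ Fin m → F, Cfsg.sympForm m F a b = 1 → LinearIndependent F ![a, b] := by
    intro a b hab
    rw [LinearIndependent.pair_iff]
    intro s t hst
    have e1 := congrArg (fun z => Cfsg.Agent.Lib.Forms.sympBilin m F a z) hst
    have e2 := congrArg (fun z => Cfsg.Agent.Lib.Forms.sympBilin m F b z) hst
    have hba : Cfsg.sympForm m F b a = -1 := by rw [Cfsg.Agent.Lib.Forms.sympForm_comm, hab]
    simp only [map_add, map_smul, map_zero] at e1 e2
    simp [Cfsg.Agent.Lib.Forms.sympForm_self, hab, hba] at e1 e2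
    exact ⟨e2, e1⟩
  obtain ⟨g, hg, hgi⟩ := Cfsg.Agent.Lib.Forms.sympBilin_goodForm.witt_family ![u, v] ![u', v'] (hind u v h)
    (hind u' v' h') (by
      intro i j
      fin_cases i <;> fin_cases j <;>
        simp [Cfsg.Agent.Lib.Forms.sympForm_self, h, h', Cfsg.Agent.Lib.Forms.sympForm_comm v u,
          Cfsg.Agent.Lib.Forms.sympForm_comm v' u'])
  refine ⟨Cfsg.Agent.Lib.Forms.spMk g (fun a b => by simpa using hg a b), ?_, ?_, ?_⟩
  · change _ ∈ Subgroup.closure (Cfsg.Agent.Lib.Forms.sympTransSet m F)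
    rw [Cfsg.Agent.Lib.Forms.closure_sympTransSet_eq_top]
    exact Subgroup.mem_top _
  · rw [Cfsg.Agent.Lib.Forms.spMk_mulVec]; exact hgi 0
  · rw [Cfsg.Agent.Lib.Forms.spMk_mulVec]; exact hgi 1

end Cfsg.Agent.S0766
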