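import Cfsg.Statements.S0767
import Mathlib
import Cfsg.Agent.Lib.Forms.Symplectic
-- import your own Cfsg.Agent.* helpers here

set_option autoImplicit false
open Cfsg

namespace Cfsg.Agent.S0767

/-- The root group of a point: T_v(c) T_v(d) = T_v(c + d), and for A in the symplectic group with A v = a v, the conjugate A T_v(c) A⁻¹ is again some T_v(d). -/
theorem result {F : Type*} [Field F] (m : ℕ) (v : Fin m ⊕ Fin m → F) : (∀ c d : F, Cfsg.sympTransvection m v c * Cfsg.sympTransvection m v d = Cfsg.sympTransvection m v (c + d)) ∧ ∀ (A : Matrix (Fin m ⊕ Fin m) (Fin m ⊕ Fin m) F) (a : F), A ∈ Matrix.symplecticGroup (Fin m) F → A.mulVec v = a • v → ∀ c : F, ∃ d : F, A * Cfsg.sympTransvection m v c * A⁻¹ = Cfsg.sympTransvection m v d := by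
  refine ⟨Cfsg.Agent.Lib.Forms.sympTransvection_mul v, fun A a hA hAv c => ⟨c * a * a, ?_⟩⟩
  have hdet : IsUnit A.det := SymplecticGroup.symplectic_det hA
  by_cases hv : v = 0
  · subst hv
    simp [Cfsg.sympTransvection, Matrix.mul_nonsing_inv _ hdet]
  have ha : a ≠ 0 := by
    rintro rfl
    rw [zero_smul] at hAv
    exact hv (by simpa [Matrix.mulVec_mulVec, Matrix.nonsing_inv_mul _ hdet] using congrArg (A⁻¹).mulVec hAv)
  refine Matrix.ext_iff_mulVec.mpr fun x => ?_
  rw [← Matrix.mulVec_mulVec, ← Matrix.mulVec_mulVec, Cfsg.Agent.Lib.Forms.sympTransvection_mulVec,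
    Cfsg.Agent.Lib.Forms.sympTransvection_mulVec, Matrix.mulVec_add, Matrix.mulVec_smul, hAv,
    Matrix.mulVec_mulVec, Matrix.mul_nonsing_inv _ hdet, Matrix.one_mulVec]
  have h := (Cfsg.Agent.Lib.Forms.mem_symplecticGroup_iff_preserves.mp hA) (A⁻¹.mulVec x) v
  rw [hAv, Matrix.mulVec_mulVec, Matrix.mul_nonsing_inv _ hdet, Matrix.one_mulVec] at h
  rw [← h, smul_smul]
  congr 2
  simp only [← Cfsg.Agent.Lib.Forms.sympBilin_apply, map_smul, smul_eq_mul]
  field_simp

end Cfsg.Agent.S0767
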