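import Cfsg.Statements.S0768
import Mathlib
import Cfsg.Agent.Lib.LinGroup.SympSimple
-- import your own Cfsg.Agent.* helpers here

set_option autoImplicit false
open scoped LinearAlgebra.Projectivization
open Cfsg

namespace Cfsg.Agent.S0768

/-- Primitivity: for m ≥ 1 and F finite, the symplectic group of the form sympForm (as a subgroup of the general linear group) acts primitively on the projective space of F^(2m). -/
theorem result {F : Type*} [Field F] [Finite F] (m : ℕ) (hm : 1 ≤ m) : MulAction.IsPreprimitive ↥(Cfsg.spGL m F) (ℙ F (Fin m ⊕ Fin m → F)) := by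
  classical
  have hSp : MulAction.IsPreprimitive (Matrix.symplecticGroup (Fin m) F) (ℙ F (Fin m ⊕ Fin m → F)) := by
    rcases Nat.lt_or_ge m 2 with hm1 | hm2
    · have hm' : m = 1 := by omega
      subst hm'
      have htrans : MulAction.IsPretransitive (Matrix.symplecticGroup (Fin 1) F)
          (ℙ F (Fin 1 ⊕ Fin 1 → F)) := ⟨Cfsg.Agent.Lib.LinGroup.symp_smul_transitive⟩
      refine ⟨fun {B} hB => ?_⟩
      rcases B.subsingleton_or_nontrivial with hsub | hnt
      · exact Or.inl hsub
      right
      obtain ⟨P, hP, Q, hQ, hPQ⟩ := hnt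
      induction P using Projectivization.ind with
      | _ p hp =>
      induction Q using Projectivization.ind with
      | _ q hq =>
      have hne : ∀ r : Fin 1 ⊕ Fin 1 → F, r ∉ Submodule.span F {p} → Cfsg.sympForm 1 F p r ≠ 0 := by
        intro r hr h0
        apply hr
        rw [Submodule.mem_span_singleton]
        rw [Cfsg.Agent.Lib.Forms.sympForm_apply, Fin.sum_univ_one] at h0
        by_cases hl : p (.inl 0) = 0
        · have hr' : p (.inr 0) ≠ 0 := by
            intro hr'
            apply hp
            funext i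
            rcases i with i | i <;> obtain rfl : i = 0 := Subsingleton.elim _ _ <;> assumption
          refine ⟨r (.inr 0) / p (.inr 0), funext fun i => ?_⟩
          rcases i with i | i <;> obtain rfl : i = 0 := Subsingleton.elim _ _
          · rw [hl, zero_mul, sub_zero, mul_eq_zero] at h0
            simp [hl, h0.resolve_left hr']
          · simp [hr']
        · refine ⟨r (.inl 0) / p (.inl 0), funext fun i => ?_⟩
          rcases i with i | i <;> obtain rfl : i = 0 := Subsingleton.elim _ _
          · simp [hl]
          · simp only [Pi.smul_apply, smul_eq_mul]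
            field_simp
            linear_combination h0
      have hqs := Cfsg.Agent.Lib.LinGroup.not_mem_span_of_mk_ne hp hq hPQ
      refine Set.eq_univ_of_forall fun R => ?_
      induction R using Projectivization.ind with
      | _ r hr =>
      by_cases hrp : r ∈ Submodule.span F {p}
      · obtain ⟨a, ha⟩ := Submodule.mem_span_singleton.1 hrp
        rwa [(Projectivization.mk_eq_mk_iff' F r p hr hp).2 ⟨a, ha⟩]
      set a := Cfsg.sympForm 1 F p q / Cfsg.sympForm 1 F p r with ha
      have ha0 : a ≠ 0 := div_ne_zero (hne q hqs) (hne r hrp)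
      obtain ⟨g, hg1, hg2⟩ := Cfsg.Agent.Lib.LinGroup.exists_spVec_eq_fix p q (a • r) hqs
        (fun hc => hrp ((Submodule.smul_mem_iff _ ha0).1 hc))
        (by rw [Cfsg.Agent.Lib.LinGroup.sympForm_smul_right, ha, div_mul_cancel₀ _ (hne r hrp)])
      have hgP : g • Projectivization.mk F p hp = Projectivization.mk F p hp := by
        rw [Cfsg.Agent.Lib.LinGroup.symp_smul_mk]; simp [hg1]
      have hfix := hB.smul_eq_of_mem hP (g := g) (by rw [hgP]; exact hP)
      rw [← hfix]
      refine ⟨_, hQ, ?_⟩
      show g • _ = _
      rw [Cfsg.Agent.Lib.LinGroup.symp_smul_mk, Projectivization.mk_eq_mk_iff']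
      exact ⟨a, hg2.symm⟩
    · exact Cfsg.Agent.Lib.LinGroup.symp_isPreprimitive hm2
  let u : Matrix.symplecticGroup (Fin m) F → Matrix.GeneralLinearGroup (Fin m ⊕ Fin m) F := fun g =>
    ⟨(g : Matrix _ _ F), ((g⁻¹ : Matrix.symplecticGroup (Fin m) F) : Matrix _ _ F),
      by rw [← Submonoid.coe_mul, mul_inv_cancel, Submonoid.coe_one],
      by rw [← Submonoid.coe_mul, inv_mul_cancel, Submonoid.coe_one]⟩
  let φ : Matrix.symplecticGroup (Fin m) F → ↥(Cfsg.spGL m F) := fun g =>
    ⟨u g, fun a b => Cfsg.Agent.Lib.Forms.mem_symplecticGroup_iff_preserves.mp g.2 a b⟩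
  let f : (ℙ F (Fin m ⊕ Fin m → F)) →ₑ[φ] (ℙ F (Fin m ⊕ Fin m → F)) :=
    { toFun := id
      map_smul' := fun g x => by
        induction x using Projectivization.ind with
        | _ v hv =>
          rw [id_eq, id_eq, Cfsg.Agent.Lib.LinGroup.symp_smul_mk]
          rfl }
  exact MulAction.IsPreprimitive.of_surjective (f := f) Function.surjective_id

end Cfsg.Agent.S0768
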