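import Cfsg.Statements.S0769
import Mathlib
-- import your own Cfsg.Agent.* helpers here

set_option autoImplicit false
open Cfsg

namespace Cfsg.Agent.S0769

/-- Order of the Borel subgroup of GL_n(q): the invertible lower-triangular n × n matrices over a field with q elements number q^(n(n-1)/2) (q-1)^n (unitriangular part times the diagonal torus). -/
theorem result {F : Type*} [Field F] [Fintype F] {q : ℕ} (hF : Fintype.card F = q) (n : ℕ) : Nat.card {g : Matrix.GeneralLinearGroup (Fin n) F // ∀ i j : Fin n, i < j → (g : Matrix (Fin n) (Fin n) F) i j = 0} = q ^ (n * (n - 1) / 2) * (q - 1) ^ n := by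
  classical
  let P : Type := {p : Fin n × Fin n // p.2 < p.1}
  let mk : (Fin n → Fˣ) → (P → F) → Matrix (Fin n) (Fin n) F := fun d u =>
    Matrix.of fun i j => if h : j < i then u ⟨(i, j), h⟩ else if i = j then (d i : F) else 0
  have mk_bt : ∀ d u, (mk d u).BlockTriangular OrderDual.toDual := fun d u i j (hij : i < j) => by
    simp [mk, hij.not_gt, hij.ne]
  have mk_det : ∀ d u, (mk d u).det ≠ 0 := fun d u => by
    rw [Matrix.det_of_lowerTriangular _ (mk_bt d u)]
    exact Finset.prod_ne_zero_iff.2 fun i _ => by simp [mk]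
  have hdiag : ∀ g : {g : Matrix.GeneralLinearGroup (Fin n) F //
      ∀ i j : Fin n, i < j → (g : Matrix (Fin n) (Fin n) F) i j = 0}, ∀ i,
      (g.1 : Matrix (Fin n) (Fin n) F) i i ≠ 0 := by
    intro g i
    have h : (g.1 : Matrix (Fin n) (Fin n) F).det ≠ 0 :=
      ((Matrix.isUnit_iff_isUnit_det _).1 g.1.isUnit).ne_zero
    rw [Matrix.det_of_lowerTriangular _ (fun i j (hij : i < j) => g.2 i j hij)] at h
    exact Finset.prod_ne_zero_iff.1 h i (Finset.mem_univ i)
  let e : {g : Matrix.GeneralLinearGroup (Fin n) F //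
      ∀ i j : Fin n, i < j → (g : Matrix (Fin n) (Fin n) F) i j = 0} ≃ (Fin n → Fˣ) × (P → F) :=
    { toFun := fun g => (fun i => Units.mk0 _ (hdiag g i), fun p => (g.1 : Matrix (Fin n) (Fin n) F) p.1.1 p.1.2)
      invFun := fun x => ⟨Matrix.GeneralLinearGroup.mkOfDetNeZero _ (mk_det x.1 x.2), fun i j hij => mk_bt x.1 x.2 hij⟩
      left_inv := fun g => by
        refine Subtype.ext (Units.ext (Matrix.ext fun i j => ?_))
        show mk _ _ i j = _
        simp only [mk, Matrix.of_apply, Units.val_mk0]
        split_ifs with h h'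
        · rfl
        · rw [h']
        · exact (g.2 i j (lt_of_le_of_ne (not_lt.1 h) h')).symm
      right_inv := fun x => by
        refine Prod.ext (funext fun i => Units.ext ?_) (funext fun p => ?_)
        · show mk x.1 x.2 i i = _
          simp [mk]
        · show mk x.1 x.2 p.1.1 p.1.2 = _
          simp only [mk, Matrix.of_apply]
          rw [dif_pos p.2] }
  have hP : Fintype.card P = n * (n - 1) / 2 := by
    have e' : P ≃ Σ i : Fin n, Fin (i : ℕ) :=
      { toFun := fun p => ⟨p.1.1, ⟨p.1.2, p.2⟩⟩
        invFun := fun s => ⟨(s.1, ⟨s.2, s.2.2.trans s.1.2⟩), s.2.2⟩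
        left_inv := fun p => rfl
        right_inv := fun s => rfl }
    rw [Fintype.card_congr e', Fintype.card_sigma]
    simp only [Fintype.card_fin]
    rw [Fin.sum_univ_eq_sum_range (fun i => i) n, Finset.sum_range_id]
  rw [Nat.card_congr e, Nat.card_prod, Nat.card_fun, Nat.card_fun, Nat.card_units,
    Nat.card_eq_fintype_card, Nat.card_eq_fintype_card, Nat.card_eq_fintype_card, hP, hF, Fintype.card_fin,
    mul_comm]

end Cfsg.Agent.S0769
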