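import Cfsg.Statements.S0770
import Mathlib
-- import your own Cfsg.Agent.* helpers here

set_option autoImplicit false
open Cfsg

namespace Cfsg.Agent.S0770

/-- For a field with at least 3 elements, an invertible matrix normalises the subgroup of invertible diagonal matrices of GL_n if and only if it is monomial (exactly one non-zero entry in each row). -/
theorem result {F : Type*} [Field F] (hF : ∃ a : F, a ≠ 0 ∧ a ≠ 1) (n : ℕ) (g : Matrix.GeneralLinearGroup (Fin n) F) : g ∈ Subgroup.normalizer ((Units.map (Matrix.diagonalRingHom (Fin n) F).toMonoidHom).range : Subgroup (Matrix.GeneralLinearGroup (Fin n) F)) ↔ ∀ i : Fin n, ∃! j : Fin n, (g : Matrix (Fin n) (Fin n) F) i j ≠ 0 := by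
  classical
  obtain ⟨a, ha0, ha1⟩ := hF
  set D := ((Units.map (Matrix.diagonalRingHom (Fin n) F).toMonoidHom).range :
    Subgroup (Matrix.GeneralLinearGroup (Fin n) F)) with hD
  have hmemD : ∀ x : Matrix.GeneralLinearGroup (Fin n) F, x ∈ D ↔ ∃ d : Fin n → F, (∀ i, d i ≠ 0) ∧
      (x : Matrix (Fin n) (Fin n) F) = Matrix.diagonal d := by
    intro x
    constructor
    · rintro ⟨u, rfl⟩
      exact ⟨(u : Fin n → F), fun i => by simpa using ((Pi.isUnit_iff.mp u.isUnit) i).ne_zero, rfl⟩
    · rintro ⟨d, hd, e⟩
      exact ⟨MulEquiv.piUnits.symm fun i => Units.mk0 (d i) (hd i), Units.ext (by rw [e]; rfl)⟩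
  rw [Subgroup.mem_normalizer_iff]
  constructor
  · intro hg i
    obtain ⟨j, hj⟩ : ∃ j, (g : Matrix (Fin n) (Fin n) F) i j ≠ 0 := by
      by_contra h
      push Not at h
      exact ((Matrix.isUnit_iff_isUnit_det _).1 g.isUnit).ne_zero (Matrix.det_eq_zero_of_row_eq_zero i h)
    refine ⟨j, hj, fun l hl => ?_⟩
    by_contra hlj
    let d : Fin n → F := fun k => if k = l then a else 1
    have hd : ∀ k, d k ≠ 0 := fun k => by simp only [d]; split_ifs <;> simp [ha0]
    let x := Matrix.GeneralLinearGroup.mkOfDetNeZero (Matrix.diagonal d)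
      (by rw [Matrix.det_diagonal]; exact Finset.prod_ne_zero_iff.2 fun k _ => hd k)
    obtain ⟨d', -, hd'⟩ := (hmemD _).1 ((hg x).1 ((hmemD x).2 ⟨d, hd, rfl⟩))
    have he : (g : Matrix (Fin n) (Fin n) F) * Matrix.diagonal d
        = Matrix.diagonal d' * (g : Matrix (Fin n) (Fin n) F) := by
      rw [← hd', ← Units.val_mul]
      simp [x, mul_assoc]
    have h1 := congrFun (congrFun he i) j
    have h2 := congrFun (congrFun he i) l
    simp only [Matrix.mul_diagonal, Matrix.diagonal_mul, d, if_pos trivial, if_neg (Ne.symm hlj)] at h1 h2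
    have hd'1 : d' i = 1 := by
      have : (d' i - 1) * (g : Matrix (Fin n) (Fin n) F) i j = 0 := by linear_combination -h1
      exact sub_eq_zero.1 ((mul_eq_zero.1 this).resolve_right hj)
    rw [hd'1, one_mul] at h2
    exact ha1 ((mul_right_eq_self₀.1 h2).resolve_right hl)
  · intro hg
    choose c hc hcu using hg
    have hbij : Function.Bijective c := by
      rw [← Finite.surjective_iff_bijective]
      intro j
      by_contra h
      push Not at h
      refine ((Matrix.isUnit_iff_isUnit_det _).1 g.isUnit).ne_zero (Matrix.det_eq_zero_of_column_eq_zero j fun i => ?_)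
      by_contra h'
      exact h i (hcu i j h').symm
    let σ := Equiv.ofBijective c hbij
    have hzero : ∀ i j, j ≠ c i → (g : Matrix (Fin n) (Fin n) F) i j = 0 := fun i j h => by
      by_contra h'
      exact h (hcu i j h')
    have key : ∀ d : Fin n → F, (g : Matrix (Fin n) (Fin n) F) * Matrix.diagonal d
        = Matrix.diagonal (d ∘ c) * (g : Matrix (Fin n) (Fin n) F) := by
      intro d
      ext i j
      rw [Matrix.mul_diagonal, Matrix.diagonal_mul]
      by_cases h : j = c i
      · rw [h, Function.comp_apply, mul_comm]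
      · rw [hzero i j h]; simp
    intro x
    constructor
    · intro hx
      obtain ⟨d, hd, e⟩ := (hmemD x).1 hx
      refine (hmemD _).2 ⟨d ∘ c, fun i => hd _, ?_⟩
      rw [Units.val_mul, Units.val_mul, e, key, mul_assoc, ← Units.val_mul, mul_inv_cancel, Units.val_one, mul_one]
    · intro hx
      obtain ⟨d, hd, e⟩ := (hmemD _).1 hx
      refine (hmemD x).2 ⟨d ∘ σ.symm, fun i => hd _, ?_⟩
      have h1 : (g : Matrix (Fin n) (Fin n) F) * (x : Matrix (Fin n) (Fin n) F)
          = (g : Matrix (Fin n) (Fin n) F) * Matrix.diagonal (d ∘ σ.symm) := by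
        rw [key, show (d ∘ σ.symm) ∘ c = d from funext fun i => congrArg d (σ.symm_apply_apply i), ← e,
          ← Units.val_mul, ← Units.val_mul, inv_mul_cancel_right]
      exact g.isUnit.mul_left_cancel h1

end Cfsg.Agent.S0770
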