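import Cfsg.Statements.S0771
import Mathlib
import Cfsg.Agent.Lib.Forms.Stab
-- import your own Cfsg.Agent.* helpers here

set_option autoImplicit false
open Cfsg

namespace Cfsg.Agent.S0771

/-- Maximal parabolic of GL_n(q): the stabiliser of the coordinate subspace spanned by the first k basis vectors has order q^(k(n-k)) · |GL_k(q)| · |GL_(n-k)(q)| (unipotent radical of order q^(k(n-k)) and Levi complement GL_k × GL_(n-k)). -/
theorem result {F : Type*} [Field F] [Fintype F] {q : ℕ} (hF : Fintype.card F = q) (n k : ℕ) (hk : k ≤ n) : Nat.card ↥(Cfsg.stabilizing (Cfsg.glToMat (Fin n) F) {v : Fin n → F | ∀ i : Fin n, k ≤ (i : ℕ) → v i = 0}) = q ^ (k * (n - k)) * (∏ i : Fin k, (q ^ k - q ^ (i : ℕ))) * ∏ i : Fin (n - k), (q ^ (n - k) - q ^ (i : ℕ)) := by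
  classical
  let e : Fin k ⊕ Fin (n - k) ≃ Fin n := finSumFinEquiv.trans (finCongr (by omega))
  let R : Matrix.GeneralLinearGroup (Fin n) F → Matrix (Fin k ⊕ Fin (n - k)) (Fin k ⊕ Fin (n - k)) F :=
    fun g => (g : Matrix (Fin n) (Fin n) F).submatrix e e
  have hst : ∀ g : Matrix.GeneralLinearGroup (Fin n) F,
      g ∈ Cfsg.stabilizing (Cfsg.glToMat (Fin n) F) {v : Fin n → F | ∀ i : Fin n, k ≤ (i : ℕ) → v i = 0} ↔
        (R g).toBlocks₂₁ = 0 := by
    intro g
    rw [Cfsg.Agent.Lib.Forms.mem_gl_stab_iff]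
    constructor
    · intro h
      ext i j
      exact h _ _ (by simp [e]) (by simp [e])
    · intro h i j hi hj
      obtain ⟨i, rfl⟩ := e.surjective i
      obtain ⟨j, rfl⟩ := e.surjective j
      rcases i with i | i
      · simp [e] at hi; omega
      rcases j with j | j
      · exact congrFun (congrFun h i) j
      · simp [e] at hj
  have hR : ∀ g, (R g).det ≠ 0 := fun g => by
    rw [Matrix.det_submatrix_equiv_self]; exact ((Matrix.isUnit_iff_isUnit_det _).1 g.isUnit).ne_zero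
  have hdets : ∀ g, (R g).toBlocks₂₁ = 0 → (R g).toBlocks₁₁.det ≠ 0 ∧ (R g).toBlocks₂₂.det ≠ 0 := by
    intro g h
    have h' := hR g
    rw [← Matrix.fromBlocks_toBlocks (R g), h, Matrix.det_fromBlocks_zero₂₁] at h'
    exact mul_ne_zero_iff.1 h'
  let mk : Matrix.GeneralLinearGroup (Fin k) F → Matrix.GeneralLinearGroup (Fin (n - k)) F →
      Matrix (Fin k) (Fin (n - k)) F → Matrix (Fin n) (Fin n) F :=
    fun A D B => (Matrix.fromBlocks (A : Matrix (Fin k) (Fin k) F) B 0
      (D : Matrix (Fin (n - k)) (Fin (n - k)) F)).submatrix e.symm e.symm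
  have hmk : ∀ A D B, (mk A D B).det ≠ 0 := fun A D B => by
    rw [Matrix.det_submatrix_equiv_self, Matrix.det_fromBlocks_zero₂₁]
    exact mul_ne_zero ((Matrix.isUnit_iff_isUnit_det _).1 A.isUnit).ne_zero
      ((Matrix.isUnit_iff_isUnit_det _).1 D.isUnit).ne_zero
  have hRmk : ∀ A D B, R (Matrix.GeneralLinearGroup.mkOfDetNeZero _ (hmk A D B))
      = Matrix.fromBlocks (A : Matrix (Fin k) (Fin k) F) B 0 (D : Matrix (Fin (n - k)) (Fin (n - k)) F) := by
    intro A D B
    show (mk A D B).submatrix e e = _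
    simp only [mk, Matrix.submatrix_submatrix]
    simp
  let E : ↥(Cfsg.stabilizing (Cfsg.glToMat (Fin n) F) {v : Fin n → F | ∀ i : Fin n, k ≤ (i : ℕ) → v i = 0}) ≃
      (Matrix.GeneralLinearGroup (Fin k) F × Matrix.GeneralLinearGroup (Fin (n - k)) F)
        × (Fin k → Fin (n - k) → F) :=
    { toFun := fun g => ((Matrix.GeneralLinearGroup.mkOfDetNeZero _ (hdets g ((hst g).1 g.2)).1,
        Matrix.GeneralLinearGroup.mkOfDetNeZero _ (hdets g ((hst g).1 g.2)).2), (R g).toBlocks₁₂)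
      invFun := fun x => ⟨Matrix.GeneralLinearGroup.mkOfDetNeZero _ (hmk x.1.1 x.1.2 x.2),
        (hst _).2 ((congrArg Matrix.toBlocks₂₁ (hRmk x.1.1 x.1.2 x.2)).trans (Matrix.toBlocks_fromBlocks₂₁ _ _ _ _))⟩
      left_inv := fun g => by
        refine Subtype.ext (Units.ext ?_)
        show (Matrix.fromBlocks (R g).toBlocks₁₁ (R g).toBlocks₁₂ 0 (R g).toBlocks₂₂).submatrix e.symm e.symm = _
        rw [← (hst g).1 g.2, Matrix.fromBlocks_toBlocks, Matrix.submatrix_submatrix]
        simp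
      right_inv := fun x => by
        refine Prod.ext (Prod.ext (Units.ext ?_) (Units.ext ?_)) ?_
        · show (R _).toBlocks₁₁ = _
          exact (congrArg Matrix.toBlocks₁₁ (hRmk x.1.1 x.1.2 x.2)).trans (Matrix.toBlocks_fromBlocks₁₁ _ _ _ _)
        · show (R _).toBlocks₂₂ = _
          exact (congrArg Matrix.toBlocks₂₂ (hRmk x.1.1 x.1.2 x.2)).trans (Matrix.toBlocks_fromBlocks₂₂ _ _ _ _)
        · show (R _).toBlocks₁₂ = _
          exact (congrArg Matrix.toBlocks₁₂ (hRmk x.1.1 x.1.2 x.2)).trans (Matrix.toBlocks_fromBlocks₁₂ _ _ _ _) }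
  rw [Nat.card_congr E, Nat.card_prod, Nat.card_prod, Matrix.card_GL_field, Matrix.card_GL_field, Nat.card_fun,
    Nat.card_fun, Nat.card_eq_fintype_card (α := F), hF, Nat.card_eq_fintype_card, Fintype.card_fin,
    Nat.card_eq_fintype_card, Fintype.card_fin, ← pow_mul, mul_comm (n - k) k]
  ring

end Cfsg.Agent.S0771
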