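import Cfsg.Statements.S0772
import Mathlib
import Cfsg.Agent.Lib.Forms.Stab
-- import your own Cfsg.Agent.* helpers here

set_option autoImplicit false
open Cfsg

namespace Cfsg.Agent.S0772

/-- Maximal parabolics are maximal: over a finite field, for 0 < k < n the stabiliser in GL_n of the span of the first k coordinate vectors is a maximal proper subgroup. -/
theorem result {F : Type*} [Field F] [Finite F] (n k : ℕ) (hk0 : 0 < k) (hkn : k < n) : IsCoatom (Cfsg.stabilizing (Cfsg.glToMat (Fin n) F) {v : Fin n → F | ∀ i : Fin n, k ≤ (i : ℕ) → v i = 0}) := by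
  classical
  set P := Cfsg.stabilizing (Cfsg.glToMat (Fin n) F) {v : Fin n → F | ∀ i : Fin n, k ≤ (i : ℕ) → v i = 0} with hP
  set U : Submodule F (Fin n → F) := Cfsg.Agent.Lib.Forms.supported F (fun i : Fin n => (i : ℕ) < k) with hU
  have hmem : ∀ g, g ∈ P ↔ ∀ v ∈ U, (g : Matrix (Fin n) (Fin n) F).mulVec v ∈ U := fun g => by
    rw [hP, Cfsg.Agent.Lib.Forms.setOf_eq_supported, Cfsg.Agent.Lib.Forms.mem_stabilizing_submodule_iff]
    rfl
  let T : (v φ : Fin n → F) → φ ⬝ᵥ v = 0 → Matrix.GeneralLinearGroup (Fin n) F := fun v φ h =>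
    ⟨1 + Matrix.vecMulVec v φ, 1 - Matrix.vecMulVec v φ,
      by simp [mul_sub, add_mul, Matrix.vecMulVec_mul_vecMulVec, h],
      by simp [mul_add, sub_mul, Matrix.vecMulVec_mul_vecMulVec, h]⟩
  have hTv : ∀ v φ (h : φ ⬝ᵥ v = 0) x, (T v φ h : Matrix (Fin n) (Fin n) F).mulVec x = x + (φ ⬝ᵥ x) • v := by
    intro v φ h x
    show (1 + Matrix.vecMulVec v φ).mulVec x = _
    rw [Matrix.add_mulVec, Matrix.one_mulVec, Matrix.vecMulVec_mulVec]
    funext i; simp [mul_comm]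
  have hTU : ∀ v φ (h : φ ⬝ᵥ v = 0), v ∈ U → T v φ h ∈ P := fun v φ h hv => (hmem _).2 fun x hx => by
    simp only [hTv]; exact U.add_mem hx (U.smul_mem _ hv)
  have hinv : ∀ (A : Matrix.GeneralLinearGroup (Fin n) F) (x : Fin n → F),
      ((A⁻¹ : Matrix.GeneralLinearGroup (Fin n) F) : Matrix (Fin n) (Fin n) F).mulVec
        ((A : Matrix (Fin n) (Fin n) F).mulVec x) = x := fun A x => by
    rw [Matrix.mulVec_mulVec, Units.inv_mul, Matrix.one_mulVec]
  have hconj : ∀ (A : Matrix.GeneralLinearGroup (Fin n) F) v φ (h : φ ⬝ᵥ v = 0),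
      ∃ h', A * T v φ h * A⁻¹ = T ((A : Matrix (Fin n) (Fin n) F).mulVec v)
        (Matrix.vecMul φ ((A⁻¹ : Matrix.GeneralLinearGroup (Fin n) F) : Matrix (Fin n) (Fin n) F)) h' := by
    intro A v φ h
    refine ⟨by rw [← Matrix.dotProduct_mulVec, hinv, h], Units.ext (Matrix.ext_iff_mulVec.mpr fun x => ?_)⟩
    simp only [hTv, Units.val_mul, ← Matrix.mulVec_mulVec]
    rw [
      Matrix.mulVec_add, Matrix.mulVec_smul, Matrix.mulVec_mulVec, Units.mul_inv, Matrix.one_mulVec,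
      Matrix.dotProduct_mulVec]
  refine ⟨fun htop => ?_, fun M hM => ?_⟩
  · have hlt : k < n := hkn
    have h0 : (Pi.single (⟨k, hlt⟩ : Fin n) (1 : F)) ⬝ᵥ Pi.single (⟨0, by omega⟩ : Fin n) 1 = 0 := by
      rw [single_dotProduct, Pi.single_eq_of_ne (by simp [Fin.ext_iff]; omega), mul_zero]
    have h1 : Pi.single (⟨0, by omega⟩ : Fin n) (1 : F) ⬝ᵥ Pi.single (⟨k, hlt⟩ : Fin n) 1 = 0 := by
      rw [single_dotProduct, Pi.single_eq_of_ne (by simp [Fin.ext_iff]; omega), mul_zero]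
    have := (hmem (T _ _ h1)).1 (htop ▸ Subgroup.mem_top _) (Pi.single ⟨0, by omega⟩ 1)
      (Cfsg.Agent.Lib.Forms.single_mem_supported (by show 0 < k; exact hk0) 1) ⟨k, hlt⟩ (by simp)
    simp only [hTv] at this
    simp [Fin.ext_iff, hk0.ne', Pi.single_apply] at this
  obtain ⟨g, hgM, hgP⟩ := SetLike.exists_of_lt hM
  obtain ⟨u, hu, hgu⟩ : ∃ u ∈ U, (g : Matrix (Fin n) (Fin n) F).mulVec u ∉ U := by
    by_contra h
    push Not at h
    exact hgP ((hmem g).2 h)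
  set v := (g : Matrix (Fin n) (Fin n) F).mulVec u with hv
  have hall : ∀ w φ (h : φ ⬝ᵥ w = 0), T w φ h ∈ M := by
    intro w φ h
    by_cases hw : w ∈ U
    · exact hM.le (hTU w φ h hw)
    obtain ⟨a, haU, hav, haw⟩ : ∃ a : Fin n → F, (∀ x ∈ U, a ⬝ᵥ x = 0) ∧ a ⬝ᵥ v = 1 ∧ a ⬝ᵥ w ≠ 0 := by
      have sep : ∀ z ∉ U, ∃ a : Fin n → F, (∀ x ∈ U, a ⬝ᵥ x = 0) ∧ a ⬝ᵥ z ≠ 0 := by
        intro z hz
        obtain ⟨i, hi, hzi⟩ : ∃ i : Fin n, ¬ (i : ℕ) < k ∧ z i ≠ 0 := by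
          by_contra hne
          push Not at hne
          exact hz fun i hi => hne i (not_lt.1 hi)
        exact ⟨Pi.single i 1, fun x hx => by simp [hx i hi], by simpa using hzi⟩
      obtain ⟨a, ha, hav⟩ := sep v hgu
      obtain ⟨b, hb, hbw⟩ := sep w hw
      obtain ⟨c, hc, hcv, hcw⟩ : ∃ c : Fin n → F, (∀ x ∈ U, c ⬝ᵥ x = 0) ∧ c ⬝ᵥ v ≠ 0 ∧ c ⬝ᵥ w ≠ 0 := by
        by_cases h1 : a ⬝ᵥ w = 0
        · by_cases h2 : b ⬝ᵥ v = 0
          · exact ⟨a + b, fun x hx => by simp [ha x hx, hb x hx], by simp [h2, hav], by simp [h1, hbw]⟩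
          · exact ⟨b, hb, h2, hbw⟩
        · exact ⟨a, ha, hav, h1⟩
      exact ⟨(c ⬝ᵥ v)⁻¹ • c, fun x hx => by simp [hc x hx], by simp [hcv], by simp [hcv, hcw]⟩
    let B := Matrix.vecMulVec (w - v) a
    have hdet : (1 + B).det ≠ 0 := by
      simp only [B]
      rw [Matrix.vecMulVec_eq Unit, Matrix.det_one_add_replicateCol_mul_replicateRow, dotProduct_sub, hav]
      simpa using haw
    let A := Matrix.GeneralLinearGroup.mkOfDetNeZero (1 + B) hdet
    have hA : ∀ x, (A : Matrix (Fin n) (Fin n) F).mulVec x = x + (a ⬝ᵥ x) • (w - v) := fun x => by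
      show (1 + B).mulVec x = _
      rw [Matrix.add_mulVec, Matrix.one_mulVec, Matrix.vecMulVec_mulVec]
      funext i; simp [mul_comm]
    have hAM : A ∈ M := hM.le ((hmem A).2 fun x hx => by rw [hA, haU x hx]; simpa using hx)
    have hAv : (A : Matrix (Fin n) (Fin n) F).mulVec v = w := by
      rw [hA, hav, one_smul, add_sub_cancel]
    set ψ := Matrix.vecMul φ ((A * g : Matrix.GeneralLinearGroup (Fin n) F) : Matrix (Fin n) (Fin n) F) with hψ
    have hψu : ψ ⬝ᵥ u = 0 := by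
      rw [hψ, ← Matrix.dotProduct_mulVec, Units.val_mul, ← Matrix.mulVec_mulVec, ← hv, hAv, h]
    obtain ⟨h', he⟩ := hconj (A * g) u ψ hψu
    have hmem' : A * g * T u ψ hψu * (A * g)⁻¹ ∈ M :=
      M.mul_mem (M.mul_mem (M.mul_mem hAM hgM) (hM.le (hTU u ψ hψu hu))) (M.inv_mem (M.mul_mem hAM hgM))
    rw [he] at hmem'
    convert hmem' using 2
    · rw [Units.val_mul, ← Matrix.mulVec_mulVec, ← hv, hAv]
    · rw [hψ, Matrix.vecMul_vecMul, Units.mul_inv, Matrix.vecMul_one]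
  have hPdiag : ∀ (d : Fin n → F) (hd : (Matrix.diagonal d).det ≠ 0),
      Matrix.GeneralLinearGroup.mkOfDetNeZero (Matrix.diagonal d) hd ∈ M := fun d hd => hM.le ((hmem _).2
    fun x hx i hi => by
      show (Matrix.diagonal d).mulVec x i = 0
      rw [Matrix.mulVec_diagonal, hx i hi, mul_zero])
  rw [eq_top_iff]
  intro x _
  suffices h : ∃ y ∈ M, (y : Matrix (Fin n) (Fin n) F) = (x : Matrix (Fin n) (Fin n) F) by
    obtain ⟨y, hy, e⟩ := h
    rwa [← Units.ext e]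
  refine Matrix.diagonal_transvection_induction_of_det_ne_zero
    (fun X => ∃ y ∈ M, (y : Matrix (Fin n) (Fin n) F) = X) _
    ((Matrix.isUnit_iff_isUnit_det _).1 x.isUnit).ne_zero
    (fun d hd => ⟨_, hPdiag d hd, rfl⟩) (fun t => ?_) (fun A B _ _ hA hB => ?_)
  · have hz : (Pi.single t.j (1 : F)) ⬝ᵥ Pi.single t.i t.c = 0 := by simp [t.hij.symm]
    refine ⟨_, hall _ _ hz, ?_⟩
    refine Matrix.ext_iff_mulVec.mpr fun z => ?_
    simp only [hTv]
    funext l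
    simp [Matrix.TransvectionStruct.toMatrix, Matrix.transvection, Matrix.add_mulVec, Pi.single_apply, mul_comm,
      Matrix.single_mulVec, Function.update_apply, eq_comm]
  · obtain ⟨a, ha, rfl⟩ := hA
    obtain ⟨b, hb, rfl⟩ := hB
    exact ⟨a * b, M.mul_mem ha hb, Units.val_mul a b⟩

end Cfsg.Agent.S0772
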