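import Cfsg.Statements.S0773
import Mathlib
import Cfsg.Agent.Lib.Forms.Stab
-- import your own Cfsg.Agent.* helpers here

set_option autoImplicit false
open Cfsg

namespace Cfsg.Agent.S0773

/-- The stabilisers in GL_n(F), F finite, of the coordinate subspaces of dimensions k and n − k are isomorphic groups, but when 2k ≠ n (and 0 < k < n) no element of GL_n conjugates one onto the other. -/
theorem result {F : Type*} [Field F] [Finite F] (n k : ℕ) (hk0 : 0 < k) (hkn : k < n) (h2 : 2 * k ≠ n) : Nonempty (↥(Cfsg.stabilizing (Cfsg.glToMat (Fin n) F) {v : Fin n → F | ∀ i : Fin n, k ≤ (i : ℕ) → v i = 0}) ≃* ↥(Cfsg.stabilizing (Cfsg.glToMat (Fin n) F) {v : Fin n → F | ∀ i : Fin n, n - k ≤ (i : ℕ) → v i = 0})) ∧ ∀ g : Matrix.GeneralLinearGroup (Fin n) F, (Cfsg.stabilizing (Cfsg.glToMat (Fin n) F) {v : Fin n → F | ∀ i : Fin n, k ≤ (i : ℕ) → v i = 0}).map (MulAut.conj g).toMonoidHom ≠ Cfsg.stabilizing (Cfsg.glToMat (Fin n) F) {v : Fin n → F | ∀ i : Fin n, n - k ≤ (i : ℕ) → v i = 0} := by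
  classical
  set St := fun l : ℕ => Cfsg.stabilizing (Cfsg.glToMat (Fin n) F) {v : Fin n → F | ∀ i : Fin n, l ≤ (i : ℕ) → v i = 0}
    with hSt
  have hmem : ∀ l g, g ∈ St l ↔ ∀ i j : Fin n, l ≤ (i : ℕ) → (j : ℕ) < l → (g : Matrix (Fin n) (Fin n) F) i j = 0 :=
    fun l g => Cfsg.Agent.Lib.Forms.mem_gl_stab_iff
  have hinv : ∀ (g : Matrix.GeneralLinearGroup (Fin n) F) (x : Fin n → F),
      ((g⁻¹ : Matrix.GeneralLinearGroup (Fin n) F) : Matrix (Fin n) (Fin n) F).mulVec
        ((g : Matrix (Fin n) (Fin n) F).mulVec x) = x := fun g x => by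
    rw [Matrix.mulVec_mulVec, Units.inv_mul, Matrix.one_mulVec]
  have hinv' : ∀ (g : Matrix.GeneralLinearGroup (Fin n) F) (x : Fin n → F),
      (g : Matrix (Fin n) (Fin n) F).mulVec
        (((g⁻¹ : Matrix.GeneralLinearGroup (Fin n) F) : Matrix (Fin n) (Fin n) F).mulVec x) = x := fun g x => by
    rw [Matrix.mulVec_mulVec, Units.mul_inv, Matrix.one_mulVec]
  refine ⟨⟨?_⟩, fun g hg => ?_⟩
  · let θ : Matrix.GeneralLinearGroup (Fin n) F → Matrix.GeneralLinearGroup (Fin n) F := fun g =>
      ⟨(((g⁻¹ : Matrix.GeneralLinearGroup (Fin n) F) : Matrix (Fin n) (Fin n) F)).transpose.submatrix Fin.revPerm Fin.revPerm,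
        ((g : Matrix (Fin n) (Fin n) F)).transpose.submatrix Fin.revPerm Fin.revPerm,
        by rw [Matrix.submatrix_mul_equiv, ← Matrix.transpose_mul, Units.mul_inv, Matrix.transpose_one,
          Matrix.submatrix_one_equiv],
        by rw [Matrix.submatrix_mul_equiv, ← Matrix.transpose_mul, Units.inv_mul, Matrix.transpose_one,
          Matrix.submatrix_one_equiv]⟩
    have hθθ : ∀ g, θ (θ g) = g := fun g => Units.ext (Matrix.ext fun i j => by
      show ((g : Matrix (Fin n) (Fin n) F).transpose.submatrix Fin.revPerm Fin.revPerm).transpose.submatrix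
        Fin.revPerm Fin.revPerm i j = _
      simp [Matrix.submatrix_apply])
    have hmul : ∀ g g', θ (g * g') = θ g * θ g' := fun g g' => Units.ext (by
      show (((g * g')⁻¹ : Matrix.GeneralLinearGroup (Fin n) F) : Matrix (Fin n) (Fin n) F).transpose.submatrix _ _ = _
      rw [mul_inv_rev, Units.val_mul, Matrix.transpose_mul, ← Matrix.submatrix_mul_equiv _ _ _ Fin.revPerm]
      rfl)
    have hto : ∀ l, l ≤ n → ∀ g ∈ St l, θ g ∈ St (n - l) := by
      intro l hl g hg
      rw [hmem]
      intro i j hi hj
      show ((g⁻¹ : Matrix.GeneralLinearGroup (Fin n) F) : Matrix (Fin n) (Fin n) F) (Fin.revPerm j) (Fin.revPerm i) = 0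
      refine (hmem l _).1 ((St l).inv_mem hg) _ _ ?_ ?_ <;> simp [Fin.val_rev] <;> omega
    exact
      { toFun := fun g => ⟨θ g, hto k hkn.le g g.2⟩
        invFun := fun g => ⟨θ g, by
          have h := hto (n - k) (Nat.sub_le n k) g g.2
          rw [Nat.sub_sub_self hkn.le] at h
          exact h⟩
        left_inv := fun g => Subtype.ext (hθθ g)
        right_inv := fun g => Subtype.ext (hθθ g)
        map_mul' := fun g g' => Subtype.ext (hmul g g') }
  · change (St k).map (MulAut.conj g).toMonoidHom = St (n - k) at hg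
    set U : Submodule F (Fin n → F) := Cfsg.Agent.Lib.Forms.supported F (fun i : Fin n => (i : ℕ) < k) with hU
    set W : Submodule F (Fin n → F) := U.map (Matrix.mulVecLin (g : Matrix (Fin n) (Fin n) F)) with hW
    have hWmem : ∀ x, x ∈ W ↔ ((g⁻¹ : Matrix.GeneralLinearGroup (Fin n) F) : Matrix (Fin n) (Fin n) F).mulVec x ∈ U := by
      intro x
      constructor
      · rintro ⟨y, hy, rfl⟩
        rw [Matrix.mulVecLin_apply, hinv]
        exact hy
      · exact fun hx => ⟨_, hx, by rw [Matrix.mulVecLin_apply, hinv']⟩
    have hinvar : ∀ h ∈ St (n - k), ∀ x ∈ W, (h : Matrix (Fin n) (Fin n) F).mulVec x ∈ W := by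
      intro h hh x hx
      rw [← hg] at hh
      obtain ⟨p, hp, rfl⟩ := hh
      rw [hWmem] at hx ⊢
      have hp' : ∀ y ∈ U, (p : Matrix (Fin n) (Fin n) F).mulVec y ∈ U := by
        intro y hy i hi
        simp only [Matrix.mulVec, dotProduct]
        refine Finset.sum_eq_zero fun j _ => ?_
        by_cases hj : (j : ℕ) < k
        · rw [(hmem k p).1 hp i j (not_lt.1 hi) hj, zero_mul]
        · rw [hy j hj, mul_zero]
      simp only [MulEquiv.coe_toMonoidHom, MulAut.conj_apply, Units.val_mul, ← Matrix.mulVec_mulVec, hinv]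
      exact hp' _ hx
    have hE : ∀ i j : Fin n, i ≠ j → ((i : ℕ) < n - k ∨ n - k ≤ (j : ℕ)) → ∀ x ∈ W, x j • Pi.single i (1 : F) ∈ W := by
      intro i j hij hallow x hx
      have hdet : (Matrix.transvection i j (1 : F)).det ≠ 0 := by
        rw [Matrix.det_transvection_of_ne i j hij]; exact one_ne_zero
      have h := hinvar (Matrix.GeneralLinearGroup.mkOfDetNeZero _ hdet) ((hmem _ _).2 fun a b ha hb => by
        show Matrix.transvection i j (1 : F) a b = 0
        have hab : a ≠ b := by rintro rfl; omega
        simp only [Matrix.transvection, Matrix.add_apply, Matrix.one_apply_ne hab, zero_add,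
          Matrix.single_apply, ite_eq_right_iff, and_imp]
        rintro rfl rfl
        omega) x hx
      have h' : (Matrix.transvection i j (1 : F)).mulVec x - x ∈ W := W.sub_mem h hx
      have e : (Matrix.transvection i j (1 : F)).mulVec x - x = x j • Pi.single i (1 : F) := by
        funext a
        simp [Matrix.transvection, Matrix.add_mulVec, Matrix.single_mulVec, Function.update_apply, Pi.single_apply]
      rwa [e] at h'
    have hlow : ∀ i : Fin n, (i : ℕ) < n - k → Pi.single i (1 : F) ∈ W := by
      obtain ⟨x, hx, hx0⟩ : ∃ x ∈ W, x ≠ 0 := by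
        refine ⟨_, ⟨_, Cfsg.Agent.Lib.Forms.single_mem_supported (j := (⟨0, by omega⟩ : Fin n)) hk0 (1 : F), rfl⟩, ?_⟩
        intro e
        have := hinv g (Pi.single ⟨0, by omega⟩ 1)
        rw [Matrix.mulVecLin_apply] at e
        rw [e, Matrix.mulVec_zero] at this
        simpa using congrFun this ⟨0, by omega⟩
      obtain ⟨j, hj⟩ := Function.ne_iff.1 hx0
      intro i hi
      by_cases hij : i = j
      · subst hij
        by_cases hone : ∃ l, l ≠ i ∧ x l ≠ 0
        · obtain ⟨l, hl, hl0⟩ := hone
          have := W.smul_mem (x l)⁻¹ (hE i l (Ne.symm hl) (Or.inl hi) x hx)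
          rwa [smul_smul, inv_mul_cancel₀ hl0, one_smul] at this
        · push Not at hone
          have : x = x i • Pi.single i (1 : F) := funext fun l => by
            by_cases hl : l = i
            · subst hl; simp
            · simp [hone l hl, hl]
          rw [this] at hx
          have := W.smul_mem (x i)⁻¹ hx
          rwa [smul_smul, inv_mul_cancel₀ hj, one_smul] at this
      · have := W.smul_mem (x j)⁻¹ (hE i j hij (Or.inl hi) x hx)
        rwa [smul_smul, inv_mul_cancel₀ hj, one_smul] at this
    have hWd : Module.finrank F W = k := by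
      have hUd : Module.finrank F U = k := by
        let e : U ≃ₗ[F] ({i : Fin n // (i : ℕ) < k} → F) :=
          { toFun := fun v i => (v : Fin n → F) i.1
            map_add' := fun _ _ => rfl
            map_smul' := fun _ _ => rfl
            invFun := fun c => ⟨fun i => if h : (i : ℕ) < k then c ⟨i, h⟩ else 0, fun i hi => dif_neg hi⟩
            left_inv := fun v => Subtype.ext (funext fun i => by
              by_cases h : (i : ℕ) < k
              · simp [h]
              · simp [h, v.2 i h])
            right_inv := fun c => funext fun i => by simp [i.2] }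
        rw [e.finrank_eq, Module.finrank_fintype_fun_eq_card, Fintype.card_congr
          { toFun := fun i : {i : Fin n // (i : ℕ) < k} => (⟨i.1, i.2⟩ : Fin k)
            invFun := fun i => ⟨⟨i, i.2.trans hkn⟩, i.2⟩
            left_inv := fun i => rfl
            right_inv := fun i => rfl }, Fintype.card_fin]
      rw [hW, ← hUd]
      exact (Submodule.equivMapOfInjective _ (Function.LeftInverse.injective
        (g := fun y => ((g⁻¹ : Matrix.GeneralLinearGroup (Fin n) F) : Matrix (Fin n) (Fin n) F).mulVec y)
        (fun x => by simpa using hinv g x)) U).finrank_eq.symm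
    have hge : n - k ≤ Module.finrank F W := by
      have hli : LinearIndependent F fun i : {i : Fin n // (i : ℕ) < n - k} => (Pi.single i.1 (1 : F) : Fin n → F) := by
        have := (Pi.basisFun F (Fin n)).linearIndependent.comp _
          (Subtype.val_injective (p := fun i : Fin n => (i : ℕ) < n - k))
        simpa [Function.comp_def, Pi.basisFun_apply] using this
      have hli' : LinearIndependent F fun i : {i : Fin n // (i : ℕ) < n - k} => (⟨_, hlow i.1 i.2⟩ : W) :=
        LinearIndependent.of_comp W.subtype hli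
      have := hli'.fintype_card_le_finrank
      rw [Fintype.card_congr
          { toFun := fun i : {i : Fin n // (i : ℕ) < n - k} => (⟨i.1, i.2⟩ : Fin (n - k))
            invFun := fun i => ⟨⟨i, i.2.trans_le (Nat.sub_le n k)⟩, i.2⟩
            left_inv := fun i => rfl
            right_inv := fun i => rfl }, Fintype.card_fin] at this
      exact this
    obtain ⟨x, hx, j, hj, hxj⟩ : ∃ x ∈ W, ∃ j : Fin n, n - k ≤ (j : ℕ) ∧ x j ≠ 0 := by
      by_contra hne
      push Not at hne
      have : Module.finrank F W ≤ n - k := by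
        have hinj : Function.Injective (fun (v : W) (i : Fin (n - k)) => (v : Fin n → F) ⟨i, by omega⟩) := by
          intro v v' hvv
          refine Subtype.ext (funext fun i => ?_)
          by_cases hi : (i : ℕ) < n - k
          · exact congrFun hvv ⟨i, hi⟩
          · rw [hne _ v.2 i (not_lt.1 hi), hne _ v'.2 i (not_lt.1 hi)]
        let L : W →ₗ[F] (Fin (n - k) → F) := (LinearMap.funLeft F F fun i : Fin (n - k) => (⟨i, by omega⟩ : Fin n)) ∘ₗ W.subtype
        have := LinearMap.finrank_le_finrank_of_injective (f := L) hinj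
        rwa [Module.finrank_fin_fun] at this
      omega
    have hall : ∀ i : Fin n, Pi.single i (1 : F) ∈ W := by
      intro i
      by_cases hi : (i : ℕ) < n - k
      · exact hlow i hi
      by_cases hij : i = j
      · subst hij
        have : x i • Pi.single i (1 : F) = x - ∑ l ∈ Finset.univ.erase i, x l • Pi.single l (1 : F) := by
          rw [eq_sub_iff_add_eq, Finset.add_sum_erase _ (fun l => x l • Pi.single l (1 : F)) (Finset.mem_univ i)]
          funext a
          simp [Finset.sum_apply, Pi.single_apply]
        have hm : x i • Pi.single i (1 : F) ∈ W := by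
          rw [this]
          refine W.sub_mem hx (W.sum_mem fun l hl => ?_)
          have hli := (Finset.mem_erase.1 hl).1
          have h1 := hE l i hli (Or.inr hj) x hx
          have h2 := W.smul_mem (x l * (x i)⁻¹) h1
          rwa [smul_smul, mul_assoc, inv_mul_cancel₀ hxj, mul_one] at h2
        have := W.smul_mem (x i)⁻¹ hm
        rwa [smul_smul, inv_mul_cancel₀ hxj, one_smul] at this
      · have := W.smul_mem (x j)⁻¹ (hE i j hij (Or.inr hj) x hx)
        rwa [smul_smul, inv_mul_cancel₀ hxj, one_smul] at this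
    have htop : W = ⊤ := by
      rw [eq_top_iff]
      intro v _
      rw [show v = ∑ i, v i • Pi.single i (1 : F) from funext fun a => by simp [Finset.sum_apply, Pi.single_apply]]
      exact W.sum_mem fun i _ => W.smul_mem _ (hall i)
    rw [htop, finrank_top, Module.finrank_fin_fun] at hWd
    omega

end Cfsg.Agent.S0773
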