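import Cfsg.Statements.S0774
import Mathlib
import Cfsg.Agent.S0769
import Cfsg.Agent.Lib.Forms.Stab
-- import your own Cfsg.Agent.* helpers here

set_option autoImplicit false
open Cfsg

namespace Cfsg.Agent.S0774

/-- Borel subgroup of the symplectic group: the elements of Sp_2m(q) stabilising each of the totally isotropic coordinate subspaces ⟨e_0, ..., e_k⟩ (k < m) form a subgroup of order q^(m²) (q − 1)^m. -/
theorem result {F : Type*} [Field F] [Fintype F] {q : ℕ} (hF : Fintype.card F = q) (m : ℕ) : Nat.card ↥(⨅ k : Fin m, Cfsg.stabilizing (Cfsg.spToMat m F) {v : Fin m ⊕ Fin m → F | (∀ i : Fin m, (k : ℕ) < (i : ℕ) → v (Sum.inl i) = 0) ∧ ∀ i : Fin m, v (Sum.inr i) = 0}) = q ^ (m ^ 2) * (q - 1) ^ m := by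
  classical
  let P : Fin m → Fin m ⊕ Fin m → Prop := fun k x => Sum.elim (fun i : Fin m => (i : ℕ) ≤ (k : ℕ)) (fun _ => False) x
  have hset : ∀ k : Fin m, {v : Fin m ⊕ Fin m → F | (∀ i : Fin m, (k : ℕ) < (i : ℕ) → v (Sum.inl i) = 0) ∧
      ∀ i : Fin m, v (Sum.inr i) = 0} = (Cfsg.Agent.Lib.Forms.supported F (P k) : Set _) := by
    intro k
    ext v
    simp [Cfsg.Agent.Lib.Forms.mem_supported, P, Sum.forall]
  set G := ⨅ k : Fin m, Cfsg.stabilizing (Cfsg.spToMat m F) {v : Fin m ⊕ Fin m → F |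
    (∀ i : Fin m, (k : ℕ) < (i : ℕ) → v (Sum.inl i) = 0) ∧ ∀ i : Fin m, v (Sum.inr i) = 0}
  have hmem : ∀ A : Matrix.symplecticGroup (Fin m) F, A ∈ G ↔
      (A.1).toBlocks₂₁ = 0 ∧ ∀ i j : Fin m, j < i → A.1 (.inl i) (.inl j) = 0 := by
    intro A
    simp only [G, Subgroup.mem_iInf, hset, Cfsg.Agent.Lib.Forms.mem_stabilizing_supported_iff]
    constructor
    · intro h
      refine ⟨Matrix.ext fun i j => h j (.inr i) (.inl j) (by simp [P]) (by simp [P]), fun i j hij => ?_⟩
      exact h j (.inl i) (.inl j) (by simp only [P, Sum.elim_inl, not_le]; exact hij) (by simp [P])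
    · rintro ⟨h1, h2⟩ k (i | i) (j | j) hi hj <;> simp [P] at hi hj
      · exact h2 i j (by omega)
      · exact congrFun (congrFun h1 i) j
  let U : Type _ := {g : Matrix.GeneralLinearGroup (Fin m) F //
    ∀ i j : Fin m, j < i → (g : Matrix (Fin m) (Fin m) F) i j = 0}
  let Sy : Type _ := {S : Matrix (Fin m) (Fin m) F // S.transpose = S}
  have hcond : ∀ A : Matrix.symplecticGroup (Fin m) F, A ∈ G →
      A.1.toBlocks₁₁ * A.1.toBlocks₂₂.transpose = 1 ∧
        (A.1.toBlocks₁₂ * A.1.toBlocks₁₁.transpose).transpose = A.1.toBlocks₁₂ * A.1.toBlocks₁₁.transpose := by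
    intro A hA
    have h1 := ((hmem A).1 hA).1
    have hA' := SymplecticGroup.mem_iff.1 A.2
    rw [← A.1.fromBlocks_toBlocks, h1, Matrix.J, Matrix.fromBlocks_transpose, Matrix.fromBlocks_multiply,
      Matrix.fromBlocks_multiply, Matrix.fromBlocks_inj] at hA'
    obtain ⟨e1, e2, -, -⟩ := hA'
    simp only [mul_zero, mul_one, zero_add, add_zero, mul_neg, neg_mul, Matrix.transpose_zero, neg_inj] at e1 e2
    refine ⟨e2, ?_⟩
    rw [Matrix.transpose_mul, Matrix.transpose_transpose]
    rw [← sub_eq_add_neg, sub_eq_zero] at e1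
    exact e1.symm
  let mk : U → Sy → Matrix (Fin m ⊕ Fin m) (Fin m ⊕ Fin m) F := fun X S =>
    Matrix.fromBlocks (X.1 : Matrix (Fin m) (Fin m) F)
      (S.1 * ((X.1⁻¹ : Matrix.GeneralLinearGroup (Fin m) F) : Matrix (Fin m) (Fin m) F).transpose) 0
      ((X.1⁻¹ : Matrix.GeneralLinearGroup (Fin m) F) : Matrix (Fin m) (Fin m) F).transpose
  have hmk : ∀ X S, mk X S ∈ Matrix.symplecticGroup (Fin m) F := fun X S => by
    rw [SymplecticGroup.mem_iff]
    simp only [mk, Matrix.J, Matrix.fromBlocks_transpose, Matrix.fromBlocks_multiply, Matrix.transpose_zero,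
      Matrix.transpose_transpose, Matrix.mul_zero, Matrix.zero_mul, add_zero, zero_add, Matrix.mul_neg,
      Matrix.neg_mul, Matrix.mul_one, Units.mul_inv, ← Matrix.transpose_mul, Matrix.transpose_one, neg_zero]
    rw [Matrix.transpose_mul, Matrix.transpose_transpose, S.2, Matrix.mul_assoc S.1, ← Matrix.transpose_mul,
      Units.mul_inv, Matrix.transpose_one, Matrix.mul_one, ← Matrix.mul_assoc (X.1 : Matrix (Fin m) (Fin m) F),
      Units.mul_inv, Matrix.one_mul, add_neg_cancel]
  let Φ : U × Sy → G := fun x => ⟨⟨mk x.1 x.2, hmk x.1 x.2⟩, (hmem _).2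
    ⟨by simp [mk], fun i j h => by simpa [mk] using x.1.2 i j h⟩⟩
  have hΦ : Function.Bijective Φ := by
    constructor
    · rintro ⟨X, S⟩ ⟨X', S'⟩ h
      have h' : mk X S = mk X' S' := congrArg (fun A : G => A.1.1) h
      simp only [mk, Matrix.fromBlocks_inj] at h'
      obtain rfl : X = X' := Subtype.ext (Units.ext h'.1)
      refine Prod.ext rfl (Subtype.ext ?_)
      have := congrArg (· * (X.1 : Matrix (Fin m) (Fin m) F).transpose) h'.2.1
      simpa only [Matrix.mul_assoc, ← Matrix.transpose_mul, Units.mul_inv, Matrix.transpose_one, Matrix.mul_one]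
        using this
    · intro A
      obtain ⟨h1, h2⟩ := (hmem _).1 A.2
      obtain ⟨e1, e2⟩ := hcond _ A.2
      let X : Matrix.GeneralLinearGroup (Fin m) F :=
        ⟨A.1.1.toBlocks₁₁, A.1.1.toBlocks₂₂.transpose, e1, mul_eq_one_comm.1 e1⟩
      refine ⟨(⟨X, fun i j h => h2 i j h⟩, ⟨_, e2⟩), Subtype.ext (Subtype.ext ?_)⟩
      have hX : ((X⁻¹ : Matrix.GeneralLinearGroup (Fin m) F) : Matrix (Fin m) (Fin m) F).transpose
          = A.1.1.toBlocks₂₂ := Matrix.transpose_transpose _
      show mk _ _ = A.1.1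
      simp only [mk, hX]
      rw [Matrix.mul_assoc, show A.1.1.toBlocks₁₁.transpose * A.1.1.toBlocks₂₂ = 1 by
        rw [← Matrix.transpose_transpose A.1.1.toBlocks₂₂, ← Matrix.transpose_mul, mul_eq_one_comm.1 e1,
          Matrix.transpose_one], Matrix.mul_one]
      conv_rhs => rw [← A.1.1.fromBlocks_toBlocks, h1]
  let tr : Matrix.GeneralLinearGroup (Fin m) F → Matrix.GeneralLinearGroup (Fin m) F := fun g =>
    ⟨(g : Matrix (Fin m) (Fin m) F).transpose,
      ((g⁻¹ : Matrix.GeneralLinearGroup (Fin m) F) : Matrix (Fin m) (Fin m) F).transpose,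
      by rw [← Matrix.transpose_mul, Units.inv_mul, Matrix.transpose_one],
      by rw [← Matrix.transpose_mul, Units.mul_inv, Matrix.transpose_one]⟩
  have htr : ∀ g, tr (tr g) = g := fun g => Units.ext (Matrix.transpose_transpose _)
  have hU : Nat.card U = q ^ (m * (m - 1) / 2) * (q - 1) ^ m := by
    rw [← Cfsg.Agent.S0769.result hF m]
    exact Nat.card_congr
      { toFun := fun g => ⟨tr g.1, fun i j h => g.2 j i h⟩
        invFun := fun g => ⟨tr g.1, fun i j h => g.2 j i h⟩
        left_inv := fun g => Subtype.ext (htr g.1)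
        right_inv := fun g => Subtype.ext (htr g.1) }
  have hS : Nat.card Sy = q ^ (m * (m + 1) / 2) := by
    let Q : Type := {p : Fin m × Fin m // p.2 ≤ p.1}
    have e : Sy ≃ (Q → F) :=
      { toFun := fun S p => S.1 p.1.1 p.1.2
        invFun := fun u => ⟨Matrix.of fun i j => if h : j ≤ i then u ⟨(i, j), h⟩ else u ⟨(j, i), le_of_not_ge h⟩, by
          ext i j
          simp only [Matrix.transpose_apply, Matrix.of_apply]
          by_cases h : i ≤ j <;> by_cases h' : j ≤ i
          · obtain rfl := le_antisymm h h'; rfl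
          · rw [dif_pos h, dif_neg h']
          · rw [dif_neg h, dif_pos h']
          · exact absurd (le_of_not_ge h) h'⟩
        left_inv := fun S => Subtype.ext (Matrix.ext fun i j => by
          simp only [Matrix.of_apply]
          split_ifs with h
          · rfl
          · exact congrFun (congrFun S.2 i) j)
        right_inv := fun u => funext fun p => by
          simp only [Matrix.of_apply]
          rw [dif_pos p.2] }
    have hQ : Fintype.card Q = m * (m + 1) / 2 := by
      have e' : Q ≃ Σ i : Fin m, Fin ((i : ℕ) + 1) :=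
        { toFun := fun p => ⟨p.1.1, ⟨p.1.2, Nat.lt_succ_of_le p.2⟩⟩
          invFun := fun s => ⟨(s.1, ⟨s.2, lt_of_le_of_lt (Nat.le_of_lt_succ s.2.2) s.1.2⟩), Nat.le_of_lt_succ s.2.2⟩
          left_inv := fun p => rfl
          right_inv := fun s => rfl }
      rw [Fintype.card_congr e', Fintype.card_sigma]
      simp only [Fintype.card_fin]
      rw [Fin.sum_univ_eq_sum_range (fun i => i + 1) m]
      have h := Finset.sum_range_succ' (fun i => i) m
      rw [add_zero] at h
      rw [← h, Finset.sum_range_id, Nat.add_sub_cancel, mul_comm]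
    rw [Nat.card_congr e, Nat.card_fun, Nat.card_eq_fintype_card, Nat.card_eq_fintype_card, hF, hQ]
  rw [← Nat.card_congr (Equiv.ofBijective Φ hΦ), Nat.card_prod, hU, hS]
  have hexp : m ^ 2 = m * (m - 1) / 2 + m * (m + 1) / 2 := by
    have a : 2 ∣ m * (m - 1) := (Nat.even_mul_pred_self m).two_dvd
    have b : 2 ∣ m * (m + 1) := (Nat.even_mul_succ_self m).two_dvd
    have : m * (m - 1) + m * (m + 1) = 2 * m ^ 2 := by
      rcases m with _ | k
      · simp
      · rw [Nat.add_sub_cancel]; ring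
    omega
  rw [hexp, pow_add]
  ring

end Cfsg.Agent.S0774
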