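import Cfsg.Statements.S0776
import Mathlib
import Cfsg.Agent.S0752
import Cfsg.Agent.Lib.Forms.Bridge
import Cfsg.Agent.Lib.Forms.Symplectic
import Cfsg.Agent.Lib.Forms.Stab
-- import your own Cfsg.Agent.* helpers here

set_option autoImplicit false
open Cfsg

namespace Cfsg.Agent.S0776

open Cfsg.Agent.Lib.Forms Matrix

variable {F : Type*} [Field F]

/-- A non-degenerate subspace of dimension `2 l` carries standard symplectic coordinates. -/
theorem exists_coords {m : ℕ} (U : Submodule F (Fin m ⊕ Fin m → F)) (l : ℕ) (hUl : Module.finrank F U = 2 * l)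
    (hU : ∀ u ∈ U, (∀ v ∈ U, Cfsg.sympForm m F u v = 0) → u = 0) :
    ∃ ψ : (Fin l ⊕ Fin l → F) ≃ₗ[F] U, ∀ a b,
      Cfsg.sympForm m F (ψ a : Fin m ⊕ Fin m → F) (ψ b) = Cfsg.sympForm l F a b := by
  classical
  have hA : (LinearMap.BilinForm.restrict (sympBilin m F) U).IsAlt := fun u => sympBilin_isAlt (u : Fin m ⊕ Fin m → F)
  obtain ⟨l', k', b, h1, h2, h3, h4⟩ := Cfsg.Agent.S0752.result _ hA
  have hk' : k' = 0 := by
    by_contra hne
    let i : Fin k' := ⟨0, by omega⟩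
    have := hU _ (b (Sum.inr i)).2 fun v hv => by
      have := h4 i ⟨v, hv⟩
      simpa using this
    exact b.ne_zero (Sum.inr i) (Subtype.ext this)
  subst hk'
  have hl : l' = l := by
    have := Module.finrank_eq_card_basis b
    rw [hUl] at this
    simp at this
    omega
  subst hl
  let e : ((Fin l' ⊕ Fin l') ⊕ Fin 0) ≃ (Fin l' ⊕ Fin l') :=
    (Equiv.sumEmpty _ _).trans (Equiv.sumComm _ _)
  let c := b.reindex e
  refine ⟨(Pi.basisFun F _).equiv c (Equiv.refl _), fun a a' => ?_⟩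
  set ψ := (Pi.basisFun F (Fin l' ⊕ Fin l')).equiv c (Equiv.refl _)
  have key : (LinearMap.BilinForm.restrict (sympBilin m F) U).comp ψ.toLinearMap ψ.toLinearMap
      = sympBilin l' F := by
    refine LinearMap.BilinForm.ext_basis (Pi.basisFun F _) fun x y => ?_
    simp only [LinearMap.BilinForm.comp_apply, LinearEquiv.coe_coe, ψ, Module.Basis.equiv_apply, Equiv.refl_apply,
      c, Module.Basis.reindex_apply]
    have hs : ∀ i j, sympBilin l' F (Pi.basisFun F _ i) (Pi.basisFun F _ j) = Matrix.J (Fin l') F i j := by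
      intro i j
      rw [sympBilin_apply, Cfsg.sympForm, Pi.basisFun_apply, Pi.basisFun_apply, Matrix.mulVec_single,
        single_dotProduct]
      simp
    rw [hs]
    rcases x with i | i <;> rcases y with j | j
    · show _ = _
      have := h3 i j
      simpa [e, Matrix.J, Matrix.fromBlocks] using this
    · have := h1 j i
      have hn := LinearMap.IsAlt.neg hA (b (Sum.inl (Sum.inl j))) (b (Sum.inl (Sum.inr i)))
      simp only [e, Equiv.trans_apply, Equiv.symm_trans_apply] at *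
      rw [show ((Equiv.sumEmpty _ (Fin 0)).symm ((Equiv.sumComm (Fin l') (Fin l')).symm (Sum.inl i)))
        = Sum.inl (Sum.inr i) from rfl, show ((Equiv.sumEmpty _ (Fin 0)).symm ((Equiv.sumComm (Fin l') (Fin l')).symm (Sum.inr j)))
        = Sum.inl (Sum.inl j) from rfl, ← hn, this]
      simp [Matrix.J, Matrix.fromBlocks, Matrix.one_apply, eq_comm]
    · have := h1 i j
      simp only [e, Equiv.symm_trans_apply] at *
      rw [show ((Equiv.sumEmpty _ (Fin 0)).symm ((Equiv.sumComm (Fin l') (Fin l')).symm (Sum.inr i)))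
        = Sum.inl (Sum.inl i) from rfl, show ((Equiv.sumEmpty _ (Fin 0)).symm ((Equiv.sumComm (Fin l') (Fin l')).symm (Sum.inl j)))
        = Sum.inl (Sum.inr j) from rfl, this]
      simp [Matrix.J, Matrix.fromBlocks, Matrix.one_apply]
    · show _ = _
      have := h2 i j
      simpa [e, Matrix.J, Matrix.fromBlocks] using this
  have := LinearMap.congr_fun₂ key a a'
  simpa using this

/-- If W ≤ F^(2m) is a 2k-dimensional subspace on which the symplectic form is non-degenerate, then the stabiliser of W in Sp_2m(F) is isomorphic to Sp_2k(F) × Sp_(2m−2k)(F). -/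
theorem result {F : Type*} [Field F] (m k : ℕ) (hk : k ≤ m) (W : Submodule F (Fin m ⊕ Fin m → F)) (hWk : Module.finrank F W = 2 * k) (hW : ∀ u ∈ W, (∀ v ∈ W, Cfsg.sympForm m F u v = 0) → u = 0) : Nonempty (↥(Cfsg.stabilizing (Cfsg.spToMat m F) (W : Set (Fin m ⊕ Fin m → F))) ≃* Matrix.symplecticGroup (Fin k) F × Matrix.symplecticGroup (Fin (m - k)) F) := by
  classical
  open Cfsg.Agent.Lib.Forms in
  have h := sympBilin_goodForm (m := m) (F := F)
  set W' := Cfsg.Agent.Lib.Forms.perp (Cfsg.Agent.Lib.Forms.sympBilin m F) W with hW'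
  have hdisj : Disjoint W W' := by
    rw [Submodule.disjoint_def]
    intro u hu hu'
    refine hW u hu fun v hv => ?_
    have := h.eq_zero_symm (hu' v hv)
    simpa using this
  have hcod : W ⊔ W' = ⊤ := by
    refine Submodule.eq_top_of_finrank_eq ?_
    have h1 := Submodule.finrank_sup_add_finrank_inf_eq W W'
    rw [hdisj.eq_bot, finrank_bot, add_zero] at h1
    rw [h1]
    exact h.finrank_add_finrank_perp W
  have hc : IsCompl W W' := ⟨hdisj, codisjoint_iff.2 hcod⟩
  have hdimW' : Module.finrank F W' = 2 * (m - k) := by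
    have := h.finrank_add_finrank_perp W
    rw [hWk, Module.finrank_fintype_fun_eq_card, Fintype.card_sum, Fintype.card_fin, ← hW'] at this
    omega
  have hW'nd : ∀ u ∈ W', (∀ v ∈ W', Cfsg.sympForm m F u v = 0) → u = 0 := by
    intro u hu hv
    refine h.nondeg u fun y => ?_
    have hy : y ∈ W ⊔ W' := by rw [hcod]; trivial
    obtain ⟨y1, hy1, y2, hy2, rfl⟩ := Submodule.mem_sup.1 hy
    rw [map_add, h.eq_zero_symm (hu y1 hy1), Cfsg.Agent.Lib.Forms.sympBilin_apply, hv y2 hy2, add_zero]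
  obtain ⟨ψ1, hψ1⟩ := exists_coords W k hWk hW
  obtain ⟨ψ2, hψ2⟩ := exists_coords W' (m - k) hdimW' hW'nd
  let φ : ((Fin k ⊕ Fin k → F) × (Fin (m - k) ⊕ Fin (m - k) → F)) ≃ₗ[F] (Fin m ⊕ Fin m → F) :=
    (ψ1.prodCongr ψ2).trans (Submodule.prodEquivOfIsCompl W W' hc)
  have hφv : ∀ p, φ p = (ψ1 p.1 : Fin m ⊕ Fin m → F) + ψ2 p.2 := fun p => rfl
  have hcross : ∀ a ∈ W, ∀ b ∈ W', Cfsg.sympForm m F a b = 0 ∧ Cfsg.sympForm m F b a = 0 := fun a ha b hb =>
    ⟨by simpa using hb a ha, by simpa using h.eq_zero_symm (hb a ha)⟩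
  have hφ : ∀ p p', Cfsg.sympForm m F (φ p) (φ p')
      = Cfsg.sympForm k F p.1 p'.1 + Cfsg.sympForm (m - k) F p.2 p'.2 := by
    intro p p'
    simp only [hφv, ← Cfsg.Agent.Lib.Forms.sympBilin_apply, map_add, LinearMap.add_apply]
    simp only [Cfsg.Agent.Lib.Forms.sympBilin_apply]
    rw [hψ1, hψ2, (hcross _ (ψ1 p.1).2 _ (ψ2 p'.2).2).1, (hcross _ (ψ1 p'.1).2 _ (ψ2 p.2).2).2]
    ring
  set P := Cfsg.stabilizing (Cfsg.spToMat m F) (W : Set (Fin m ⊕ Fin m → F))
  let ρ : Matrix.symplecticGroup (Fin m) F →* ((Fin m ⊕ Fin m → F) ≃ₗ[F] (Fin m ⊕ Fin m → F)) :=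
    (Cfsg.Agent.Lib.Forms.glEquiv _ F).toMonoidHom.comp (Matrix.symplecticGroup (Fin m) F).subtype.toHomUnits
  have hρ : ∀ g v, ρ g v = g.1 *ᵥ v := fun g v => Cfsg.Agent.Lib.Forms.glEquiv_apply _ v
  have hpres : ∀ g u v, Cfsg.sympForm m F (ρ g u) (ρ g v) = Cfsg.sympForm m F u v := fun g u v => by
    rw [hρ, hρ]; exact Cfsg.Agent.Lib.Forms.mem_symplecticGroup_iff_preserves.1 g.2 u v
  -- the block form of an element of the stabiliser
  have hblock : ∀ g : P, ∀ p, φ.symm (ρ g.1 (φ p))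
      = ((φ.symm (ρ g.1 (φ (p.1, 0)))).1, (φ.symm (ρ g.1 (φ (0, p.2)))).2) := by
    intro g p
    have hgW : ∀ v, v ∈ W ↔ ρ g.1 v ∈ W := fun v => by rw [hρ]; exact g.2 v
    have h1 : (φ.symm (ρ g.1 (φ (p.1, 0)))).2 = 0 := by
      have hm : φ (p.1, 0) ∈ W := by rw [hφv]; simp
      have h2 := (hgW _).1 hm
      obtain ⟨a, ha⟩ := ψ1.surjective ⟨_, h2⟩
      have : ρ g.1 (φ (p.1, 0)) = φ (a, 0) := by rw [hφv (a, 0), ha]; simp
      rw [this, LinearEquiv.symm_apply_apply]
    have h2 : (φ.symm (ρ g.1 (φ (0, p.2)))).1 = 0 := by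
      have hm : ρ g.1 (φ (0, p.2)) ∈ W' := fun x hx => by
        have hx' : (ρ g.1).symm x ∈ W := (hgW _).2 (by rwa [LinearEquiv.apply_symm_apply])
        rw [Cfsg.Agent.Lib.Forms.sympBilin_apply, ← (ρ g.1).apply_symm_apply x, hpres]
        refine (hcross _ hx' _ ?_).1
        rw [hφv]; simp
      obtain ⟨b, hb⟩ := ψ2.surjective ⟨_, hm⟩
      have : ρ g.1 (φ (0, p.2)) = φ (0, b) := by rw [hφv (0, b), hb]; simp
      rw [this, LinearEquiv.symm_apply_apply]
    conv_lhs => rw [show p = (p.1, 0) + (0, p.2) by simp]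
    rw [map_add, map_add, map_add]
    exact Prod.ext (by rw [Prod.fst_add, h2, add_zero]) (by rw [Prod.snd_add, h1, zero_add])
  let T : P →* ((Fin k ⊕ Fin k → F) × (Fin (m - k) ⊕ Fin (m - k) → F)) ≃ₗ[F]
      ((Fin k ⊕ Fin k → F) × (Fin (m - k) ⊕ Fin (m - k) → F)) :=
    { toFun := fun g => (φ.trans (ρ g.1)).trans φ.symm
      map_one' := LinearEquiv.ext fun p => by simp [hρ]
      map_mul' := fun g g' => LinearEquiv.ext fun p => by simp [map_mul] }
  have hT : ∀ g p, T g p = φ.symm (ρ g.1 (φ p)) := fun g p => rfl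
  have hTpres : ∀ g p p', Cfsg.sympForm k F (T g p).1 (T g p').1 + Cfsg.sympForm (m - k) F (T g p).2 (T g p').2
      = Cfsg.sympForm k F p.1 p'.1 + Cfsg.sympForm (m - k) F p.2 p'.2 := fun g p p' => by
    rw [← hφ, ← hφ, hT, hT, LinearEquiv.apply_symm_apply, LinearEquiv.apply_symm_apply, hpres]
  have hTsplit : ∀ g p, T g p = ((T g (p.1, 0)).1, (T g (0, p.2)).2) := fun g p => by
    simp only [hT]; exact hblock g p
  let L : P → ((Fin k ⊕ Fin k → F) →ₗ[F] (Fin k ⊕ Fin k → F)) := fun g =>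
    (LinearMap.fst F _ _).comp ((T g).toLinearMap.comp (LinearMap.inl F _ _))
  let R : P → ((Fin (m - k) ⊕ Fin (m - k) → F) →ₗ[F] (Fin (m - k) ⊕ Fin (m - k) → F)) := fun g =>
    (LinearMap.snd F _ _).comp ((T g).toLinearMap.comp (LinearMap.inr F _ _))
  have hLR : ∀ g p, T g p = (L g p.1, R g p.2) := hTsplit
  have hz : ∀ l, Cfsg.sympForm l F 0 0 = 0 := fun l => Cfsg.Agent.Lib.Forms.sympForm_self _
  have hLmem : ∀ g, LinearMap.toMatrix' (L g) ∈ Matrix.symplecticGroup (Fin k) F := fun g => by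
    rw [Cfsg.Agent.Lib.Forms.mem_symplecticGroup_iff_preserves]
    intro u v
    have := hTpres g (u, 0) (v, 0)
    rw [hLR, hLR] at this
    simpa [LinearMap.toMatrix'_mulVec, map_zero, hz] using this
  have hRmem : ∀ g, LinearMap.toMatrix' (R g) ∈ Matrix.symplecticGroup (Fin (m - k)) F := fun g => by
    rw [Cfsg.Agent.Lib.Forms.mem_symplecticGroup_iff_preserves]
    intro u v
    have := hTpres g (0, u) (0, v)
    rw [hLR, hLR] at this
    simpa [LinearMap.toMatrix'_mulVec, map_zero, hz] using this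
  let Φ : P →* Matrix.symplecticGroup (Fin k) F × Matrix.symplecticGroup (Fin (m - k)) F :=
    MonoidHom.mk' (fun g => (⟨_, hLmem g⟩, ⟨_, hRmem g⟩)) fun g g' => by
      have hm : ∀ p, T (g * g') p = T g (T g' p) := fun p => by rw [map_mul]; rfl
      refine Prod.ext (Subtype.ext ?_) (Subtype.ext ?_)
      · show LinearMap.toMatrix' (L (g * g')) = LinearMap.toMatrix' (L g) * LinearMap.toMatrix' (L g')
        rw [← LinearMap.toMatrix'_comp]
        congr 1
        refine LinearMap.ext fun u => ?_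
        have := congrArg Prod.fst (hm (u, 0))
        rw [hLR g', hLR g, hLR] at this
        exact this
      · show LinearMap.toMatrix' (R (g * g')) = LinearMap.toMatrix' (R g) * LinearMap.toMatrix' (R g')
        rw [← LinearMap.toMatrix'_comp]
        congr 1
        refine LinearMap.ext fun u => ?_
        have := congrArg Prod.snd (hm (0, u))
        rw [hLR g', hLR g, hLR] at this
        exact this
  refine ⟨MulEquiv.ofBijective Φ ⟨?_, ?_⟩⟩
  · intro g g' h
    have h1 : L g = L g' := LinearMap.toMatrix'.injective (congrArg (fun x => x.1.1) h)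
    have h2 : R g = R g' := LinearMap.toMatrix'.injective (congrArg (fun x => x.2.1) h)
    refine Subtype.ext (Subtype.ext (Matrix.ext_iff_mulVec.mpr fun v => ?_))
    obtain ⟨p, rfl⟩ := φ.surjective v
    rw [← hρ, ← hρ]
    refine φ.symm.injective ?_
    rw [← hT, ← hT, hLR, hLR, h1, h2]
  · rintro ⟨A, B⟩
    obtain ⟨eA, heA⟩ : ∃ e : (Fin k ⊕ Fin k → F) ≃ₗ[F] (Fin k ⊕ Fin k → F), ∀ v, e v = A.1 *ᵥ v :=
      ⟨Cfsg.Agent.Lib.Forms.glEquiv _ F ((Matrix.symplecticGroup (Fin k) F).subtype.toHomUnits A),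
        fun v => Cfsg.Agent.Lib.Forms.glEquiv_apply _ v⟩
    obtain ⟨eB, heB⟩ : ∃ e : (Fin (m - k) ⊕ Fin (m - k) → F) ≃ₗ[F] (Fin (m - k) ⊕ Fin (m - k) → F),
        ∀ v, e v = B.1 *ᵥ v :=
      ⟨Cfsg.Agent.Lib.Forms.glEquiv _ F ((Matrix.symplecticGroup (Fin (m - k)) F).subtype.toHomUnits B),
        fun v => Cfsg.Agent.Lib.Forms.glEquiv_apply _ v⟩
    let e := (φ.symm.trans (eA.prodCongr eB)).trans φ
    have he : ∀ u v, Cfsg.sympForm m F (e u) (e v) = Cfsg.sympForm m F u v := by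
      intro u v
      obtain ⟨p, rfl⟩ := φ.surjective u
      obtain ⟨p', rfl⟩ := φ.surjective v
      simp only [e, LinearEquiv.trans_apply, LinearEquiv.symm_apply_apply, hφ, LinearEquiv.prodCongr_apply,
        heA, heB]
      rw [Cfsg.Agent.Lib.Forms.mem_symplecticGroup_iff_preserves.1 A.2,
        Cfsg.Agent.Lib.Forms.mem_symplecticGroup_iff_preserves.1 B.2]
    have hgP : Cfsg.Agent.Lib.Forms.spMk e he ∈ P := by
      rw [Cfsg.Agent.Lib.Forms.mem_stabilizing_submodule_iff]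
      intro v hv
      show (Cfsg.Agent.Lib.Forms.spMk e he).1 *ᵥ v ∈ W
      rw [Cfsg.Agent.Lib.Forms.spMk_mulVec]
      obtain ⟨a, ha⟩ := ψ1.surjective ⟨v, hv⟩
      have : v = φ (a, 0) := by rw [hφv, ha]; simp
      rw [this]
      show φ ((eA.prodCongr eB) (φ.symm (φ (a, 0)))) ∈ W
      rw [LinearEquiv.symm_apply_apply, LinearEquiv.prodCongr_apply, hφv]
      simp
    refine ⟨⟨_, hgP⟩, ?_⟩
    have hTe : ∀ p, T ⟨_, hgP⟩ p = (eA p.1, eB p.2) := fun p => by
      rw [hT, hρ, Cfsg.Agent.Lib.Forms.spMk_mulVec]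
      show φ.symm (φ ((eA.prodCongr eB) (φ.symm (φ p)))) = _
      rw [LinearEquiv.symm_apply_apply, LinearEquiv.symm_apply_apply]
      rfl
    refine Prod.ext (Subtype.ext (Matrix.ext_iff_mulVec.mpr fun v => ?_))
      (Subtype.ext (Matrix.ext_iff_mulVec.mpr fun v => ?_))
    · show LinearMap.toMatrix' (L ⟨_, hgP⟩) *ᵥ v = _
      rw [LinearMap.toMatrix'_mulVec, ← heA]
      exact congrArg Prod.fst (hTe (v, 0))
    · show LinearMap.toMatrix' (R ⟨_, hgP⟩) *ᵥ v = _
      rw [LinearMap.toMatrix'_mulVec, ← heB]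
      exact congrArg Prod.snd (hTe (0, v))

end Cfsg.Agent.S0776
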