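import Cfsg.Statements.S0777
import Mathlib
import Cfsg.Agent.Lib.Forms.Bridge
import Cfsg.Agent.Lib.Forms.Symplectic
import Cfsg.Agent.Lib.Forms.Stab
-- import your own Cfsg.Agent.* helpers here

set_option autoImplicit false
open Cfsg

namespace Cfsg.Agent.S0777

open Cfsg.Agent.Lib.Forms Matrix

variable {F : Type*} [Field F] {m : ℕ}

def pt (j : Fin m) (b : Bool) : Fin m ⊕ Fin m := if b then Sum.inr j else Sum.inl j

theorem sympForm_single (x y : Fin m ⊕ Fin m) (a b : F) :
    Cfsg.sympForm m F (Pi.single x a) (Pi.single y b) = a * Matrix.J (Fin m) F x y * b := by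
  rw [Cfsg.sympForm, Matrix.mulVec_single, single_dotProduct]
  simp [mul_comm]; ring

/-- The two images of the `j`-th coordinate pair. -/
noncomputable def imgL (j : Fin m) (b : Bool) : Fin m ⊕ Fin m → F := Pi.single (pt j b) 1
noncomputable def imgR (j : Fin m) (b : Bool) : Fin m ⊕ Fin m → F :=
  Pi.single (pt j (!b)) (if b then -1 else 1)

noncomputable def mono (π : Equiv.Perm (Fin m)) (s : Fin m → Bool) (c : Fin m → Fˣ) :
    Matrix (Fin m ⊕ Fin m) (Fin m ⊕ Fin m) F :=
  Matrix.of fun r x => Sum.elim (fun i => ((c i : F) • imgL (π i) (s i)) r)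
    (fun i => (((c i)⁻¹ : Fˣ) : F) • imgR (π i) (s i) r) x

theorem mono_col_inl (π : Equiv.Perm (Fin m)) (s : Fin m → Bool) (c : Fin m → Fˣ) (i : Fin m) :
    mono π s c *ᵥ Pi.single (Sum.inl i) 1 = Pi.single (pt (π i) (s i)) (c i : F) := by
  funext r; simp [mono, imgL, Matrix.mulVec_single, Pi.single_apply]

theorem mono_col_inr (π : Equiv.Perm (Fin m)) (s : Fin m → Bool) (c : Fin m → Fˣ) (i : Fin m) :
    mono π s c *ᵥ Pi.single (Sum.inr i) 1 =
      Pi.single (pt (π i) (!(s i))) ((if s i then -1 else 1) * (c i : F)⁻¹) := by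
  funext r; simp [mono, imgR, Matrix.mulVec_single, Pi.single_apply, mul_comm]

theorem mono_mem (π : Equiv.Perm (Fin m)) (s : Fin m → Bool) (c : Fin m → Fˣ) :
    mono π s c ∈ Matrix.symplecticGroup (Fin m) F := by
  rw [mem_symplecticGroup_iff_preserves]
  intro u v
  have key : (sympBilin m F).comp (Matrix.mulVecLin (mono π s c)) (Matrix.mulVecLin (mono π s c))
      = sympBilin m F := by
    refine LinearMap.BilinForm.ext_basis (Pi.basisFun F _) fun x y => ?_
    simp only [Pi.basisFun_apply, LinearMap.BilinForm.comp_apply, Matrix.mulVecLin_apply, sympBilin_apply]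
    have hinj : ∀ i i' : Fin m, π i = π i' ↔ i = i' := fun i i' => π.injective.eq_iff
    rcases x with i | i <;> rcases y with i' | i' <;>
      simp only [mono_col_inl, mono_col_inr, sympForm_single] <;>
      rcases eq_or_ne i i' with rfl | hne
    all_goals cases hs : s i
    all_goals try cases hs' : s i'
    all_goals simp [pt, Matrix.J, Matrix.fromBlocks, Matrix.one_apply, hinj, *]
  have := LinearMap.congr_fun₂ key u v
  simpa using this

/-- The common eigenvectors of the diagonal torus lie on the coordinate axes. -/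
theorem eigen_axis [Fintype F] (hq : 4 ≤ Fintype.card F) {v : Fin m ⊕ Fin m → F} (hv0 : v ≠ 0)
    (hv : ∀ A : Matrix.symplecticGroup (Fin m) F,
      (∀ x, ∃ a : F, A.1 *ᵥ Pi.single x 1 = Pi.single x a) → ∃ a : F, A.1 *ᵥ v = a • v) :
    ∃ x, ∃ a : F, a ≠ 0 ∧ v = Pi.single x a := by
  classical
  obtain ⟨x, hx⟩ := Function.ne_iff.1 hv0
  refine ⟨x, v x, hx, funext fun y => ?_⟩
  rcases eq_or_ne y x with rfl | hyx
  · simp
  rw [Pi.single_eq_of_ne hyx]
  obtain ⟨t, ht0, ht⟩ : ∃ t : F, t ≠ 0 ∧ t * t ≠ 1 := by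
    by_contra hc
    push Not at hc
    have hle : Finset.univ ⊆ ({0, 1, -1} : Finset F) := fun t _ => by
      rcases eq_or_ne t 0 with h | h
      · simp [h]
      · rcases mul_self_eq_one_iff.1 (hc t h) with h' | h' <;> simp [h']
    have := (Finset.card_le_card hle).trans Finset.card_le_three
    rw [Finset.card_univ] at this
    omega
  have ht1 : t ≠ 1 := fun h => ht (by simp [h])
  let j := Sum.elim id id x
  let c : Fin m → Fˣ := fun i => if i = j then Units.mk0 t ht0 else 1
  let d : Fin m ⊕ Fin m → F := Sum.elim (fun i => (c i : F)) fun i => (c i : F)⁻¹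
  have hcol : ∀ z, mono (Equiv.refl _) (fun _ => false) c *ᵥ Pi.single z 1 = Pi.single z (d z) := by
    rintro (i | i)
    · rw [mono_col_inl]; rfl
    · rw [mono_col_inr]; simp [pt, d]
  have happ : ∀ w z, (mono (Equiv.refl _) (fun _ => false) c *ᵥ w) z = d z * w z := by
    intro w z
    conv_lhs => rw [pi_eq_sum_univ' w, Matrix.mulVec_sum]
    simp only [Finset.sum_apply, Matrix.mulVec_smul, Pi.smul_apply, smul_eq_mul]
    rw [Finset.sum_eq_single z]
    · rw [hcol]
      simp [mul_comm]
    · intro b _ hb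
      rw [hcol, Pi.single_eq_of_ne hb.symm, mul_zero]
    · simp
  obtain ⟨a, ha⟩ := hv ⟨_, mono_mem _ _ c⟩ fun z => ⟨d z, hcol z⟩
  have hax : d x = a := by
    have := congrFun ha x
    simp only [happ, Pi.smul_apply, smul_eq_mul] at this
    exact mul_right_cancel₀ hx this
  have hy := congrFun ha y
  simp only [happ, Pi.smul_apply, smul_eq_mul] at hy
  by_contra hvy
  have hd : d y = d x := (mul_right_cancel₀ hvy hy).trans hax.symm
  have hti : t⁻¹ ≠ 1 := fun h => ht1 (inv_eq_one.1 h)
  have htt : t⁻¹ ≠ t := fun h => ht (by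
    calc t * t = t * t⁻¹ := by rw [h]
      _ = 1 := mul_inv_cancel₀ ht0)
  rcases x with i | i <;> rcases y with i' | i'
  · have hne : i' ≠ i := fun h => hyx (by rw [h])
    simp [d, c, j, hne] at hd
    exact ht1 hd.symm
  · by_cases hne : i' = i
    · simp [d, c, j, hne] at hd
      exact htt hd
    · simp [d, c, j, hne] at hd
      exact ht1 hd.symm
  · by_cases hne : i' = i
    · simp [d, c, j, hne] at hd
      exact htt hd.symm
    · simp [d, c, j, hne] at hd
      exact ht1 hd
  · have hne : i' ≠ i := fun h => hyx (by rw [h])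
    simp [d, c, j, hne] at hd
    exact ht1 hd

/-- A monomial symplectic matrix is one of the `mono`s. -/
theorem exists_mono (A : Matrix.symplecticGroup (Fin m) F)
    (hA : ∀ x, ∃ y, ∃ a : F, a ≠ 0 ∧ A.1 *ᵥ Pi.single x 1 = Pi.single y a) :
    ∃ π s c, mono π s c = A.1 := by
  classical
  choose f a ha0 ha using hA
  have hform : ∀ x y, a x * Matrix.J (Fin m) F (f x) (f y) * a y = Matrix.J (Fin m) F x y := fun x y => by
    have := mem_symplecticGroup_iff_preserves.1 A.2 (Pi.single x 1) (Pi.single y 1)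
    rw [ha, ha, sympForm_single, sympForm_single, one_mul, mul_one] at this
    exact this
  have hJ : ∀ i : Fin m, Matrix.J (Fin m) F (Sum.inl i) (Sum.inr i) ≠ 0 := fun i => by
    simp [Matrix.J, Matrix.fromBlocks]
  have hswap : ∀ i : Fin m, f (Sum.inr i) = (f (Sum.inl i)).swap := fun i => by
    have h := hform (Sum.inl i) (Sum.inr i)
    by_contra hne
    apply hJ i
    rw [← h]
    rcases hl : f (Sum.inl i) with k | k <;> rcases hr : f (Sum.inr i) with k' | k' <;>
      simp [Matrix.J, Matrix.fromBlocks, Matrix.one_apply] <;> intro hkk <;>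
      exact absurd (by rw [hr, hl, hkk]; rfl) hne
  have hinj : Function.Injective f := by
    intro x y hxy
    by_contra hne
    have h2 : ∀ z, Matrix.J (Fin m) F x z * a y = Matrix.J (Fin m) F y z * a x := fun z => by
      rw [← hform x z, ← hform y z, hxy]; ring
    rcases x with i | i <;> rcases y with i' | i'
    · have := h2 (Sum.inr i)
      simp [Matrix.J, Matrix.fromBlocks, Matrix.one_apply, ha0, show i' ≠ i from fun h => hne (by rw [h])] at this
    · have := h2 (Sum.inr i)
      simp [Matrix.J, Matrix.fromBlocks, Matrix.one_apply, ha0] at this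
    · have := h2 (Sum.inl i)
      simp [Matrix.J, Matrix.fromBlocks, Matrix.one_apply, ha0] at this
    · have := h2 (Sum.inl i)
      simp [Matrix.J, Matrix.fromBlocks, Matrix.one_apply, ha0, show i' ≠ i from fun h => hne (by rw [h])] at this
  let p : Fin m → Fin m := fun i => Sum.elim id id (f (Sum.inl i))
  have hp : Function.Injective p := by
    intro i i' h
    simp only [p] at h
    have hi := hswap i
    rcases hl : f (Sum.inl i) with k | k <;> rcases hl' : f (Sum.inl i') with k' | k' <;>
      simp only [hl, hl', Sum.elim_inl, Sum.elim_inr, id_eq] at h <;> subst h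
    · exact Sum.inl_injective (hinj (hl.trans hl'.symm))
    · rw [hl] at hi
      exact absurd (hinj (hi.trans hl'.symm)) (by simp)
    · rw [hl] at hi
      exact absurd (hinj (hi.trans hl'.symm)) (by simp)
    · exact Sum.inl_injective (hinj (hl.trans hl'.symm))
  let π : Equiv.Perm (Fin m) := Equiv.ofBijective p (Finite.injective_iff_bijective.1 hp)
  let s : Fin m → Bool := fun i => (f (Sum.inl i)).isRight
  let c : Fin m → Fˣ := fun i => Units.mk0 (a (Sum.inl i)) (ha0 _)
  have hpt : ∀ i, pt (π i) (s i) = f (Sum.inl i) := fun i => by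
    show pt (Sum.elim id id (f (Sum.inl i))) (f (Sum.inl i)).isRight = _
    rcases f (Sum.inl i) with k | k <;> simp [pt]
  have hpt' : ∀ i, pt (π i) (!(s i)) = f (Sum.inr i) := fun i => by
    rw [hswap]
    show pt (Sum.elim id id (f (Sum.inl i))) (!(f (Sum.inl i)).isRight) = _
    rcases f (Sum.inl i) with k | k <;> simp [pt]
  refine ⟨π, s, c, Matrix.ext fun r x => ?_⟩
  have key : mono π s c *ᵥ Pi.single x 1 = A.1 *ᵥ Pi.single x 1 := by
    rw [ha]
    rcases x with i | i
    · rw [mono_col_inl, hpt]; rfl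
    · rw [mono_col_inr, hpt']
      congr 1
      have h := hform (Sum.inl i) (Sum.inr i)
      rw [hswap] at h
      show (if (f (Sum.inl i)).isRight then -1 else 1) * (a (Sum.inl i))⁻¹ = _
      have ha' := ha0 (Sum.inl i)
      rcases hl : f (Sum.inl i) with k | k <;> rw [hl] at h <;>
        simp [Matrix.J, Matrix.fromBlocks] at h <;>
        field_simp <;> simp <;>
        linear_combination (norm := ring_nf) -h
  simpa [Matrix.mulVec_single] using congrFun key r

theorem mono_injective : Function.Injective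
    fun p : Equiv.Perm (Fin m) × (Fin m → Bool) × (Fin m → Fˣ) => (mono p.1 p.2.1 p.2.2 : Matrix _ _ F) := by
  rintro ⟨π, s, c⟩ ⟨π', s', c'⟩ h
  have key : ∀ i, π i = π' i ∧ s i = s' i ∧ c i = c' i := by
    intro i
    have h1 := congrArg (· *ᵥ Pi.single (Sum.inl i) (1 : F)) h
    simp only [mono_col_inl] at h1
    have hpt : pt (π i) (s i) = pt (π' i) (s' i) := by
      by_contra hne
      have := congrFun h1 (pt (π i) (s i))
      simp [Pi.single_eq_of_ne hne] at this
    rw [hpt] at h1
    refine ⟨?_, ?_, Units.ext (Pi.single_injective (M := fun _ : Fin m ⊕ Fin m => F) _ h1)⟩ <;>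
      cases hs : s i <;> cases hs' : s' i <;> simp [pt, hs, hs'] at hpt <;> simp [hpt]
  exact Prod.ext (Equiv.ext fun i => (key i).1)
    (Prod.ext (funext fun i => (key i).2.1) (funext fun i => (key i).2.2))

/-- Weyl group of type C_m: for q ≥ 4 the diagonal matrices of Sp_2m(q) form a torus T ≅ (C_(q−1))^m (the elements stabilising every coordinate axis), and the normaliser of T in Sp_2m(q) has order 2^m · m! · (q − 1)^m. -/
theorem result {F : Type*} [Field F] [Fintype F] {q : ℕ} (hF : Fintype.card F = q) (hq : 4 ≤ q) (m : ℕ) : Nat.card ↥(Subgroup.normalizer (⨅ i : Fin m ⊕ Fin m, Cfsg.stabilizing (Cfsg.spToMat m F) ((Submodule.span F {(Pi.single i (1 : F) : Fin m ⊕ Fin m → F)} : Submodule F (Fin m ⊕ Fin m → F)) : Set (Fin m ⊕ Fin m → F)) : Set (Matrix.symplecticGroup (Fin m) F))) = 2 ^ m * Nat.factorial m * (q - 1) ^ m := by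
  classical
  simp only [Set.iInf_eq_iInter, ← Subgroup.coe_iInf]
  set T : Subgroup (Matrix.symplecticGroup (Fin m) F) := ⨅ i : Fin m ⊕ Fin m, Cfsg.stabilizing (Cfsg.spToMat m F) ((Submodule.span F {(Pi.single i (1 : F) : Fin m ⊕ Fin m → F)} : Submodule F (Fin m ⊕ Fin m → F)) : Set (Fin m ⊕ Fin m → F))
  have hT : ∀ A : Matrix.symplecticGroup (Fin m) F, A ∈ T ↔ ∀ x, ∃ a : F, A.1 *ᵥ Pi.single x 1 = Pi.single x a := by
    intro A
    simp only [T, Subgroup.mem_iInf, Cfsg.Agent.Lib.Forms.mem_stabilizing_submodule_iff]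
    constructor
    · intro h x
      obtain ⟨a, ha⟩ := Submodule.mem_span_singleton.1 (h x _ (Submodule.mem_span_singleton_self _))
      exact ⟨a, by rw [← Pi.single_smul, smul_eq_mul, mul_one] at ha; exact ha.symm⟩
    · intro h x v hv
      obtain ⟨b, rfl⟩ := Submodule.mem_span_singleton.1 hv
      obtain ⟨a, ha⟩ := h x
      show A.1 *ᵥ (b • Pi.single x 1) ∈ _
      rw [Matrix.mulVec_smul, ha, Submodule.mem_span_singleton]
      exact ⟨b * a, by rw [← Pi.single_smul, ← Pi.single_smul]; simp⟩
  have hinv : ∀ (g : Matrix.symplecticGroup (Fin m) F) (v : Fin m ⊕ Fin m → F),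
      (g⁻¹).1 *ᵥ (g.1 *ᵥ v) = v := fun g v => by
    rw [Matrix.mulVec_mulVec]
    have := congrArg Subtype.val (inv_mul_cancel g)
    simp only [Submonoid.coe_mul, Submonoid.coe_one] at this
    rw [this, Matrix.one_mulVec]
  have hN : ∀ g, g ∈ Subgroup.normalizer (T : Set (Matrix.symplecticGroup (Fin m) F)) ↔
      ∀ x, ∃ y, ∃ a : F, a ≠ 0 ∧ g.1 *ᵥ Pi.single x 1 = Pi.single y a := by
    intro g
    constructor
    · intro hg x
      refine eigen_axis (hF ▸ hq) (fun h0 => ?_) fun A hA => ?_
      · have := congrArg ((g⁻¹).1 *ᵥ ·) h0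
        simp only [hinv, Matrix.mulVec_zero] at this
        simp at this
      · have h1 : g⁻¹ * A * g ∈ T := by
          have := (Subgroup.mem_normalizer_iff.1 (Subgroup.inv_mem _ hg) A).1 ((hT A).2 hA)
          simpa using this
        obtain ⟨a, ha⟩ := (hT _).1 h1 x
        refine ⟨a, ?_⟩
        have h2 := congrArg (g.1 *ᵥ ·) ha
        simp only [Submonoid.coe_mul, ← Matrix.mulVec_mulVec] at h2
        have h3 : ∀ v, g.1 *ᵥ ((g⁻¹).1 *ᵥ v) = v := fun v => by
          have := hinv g⁻¹ v
          rwa [inv_inv] at this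
        rw [h3] at h2
        rw [h2, show Pi.single x a = a • (Pi.single x (1 : F) : Fin m ⊕ Fin m → F) by
          rw [← Pi.single_smul]; simp, Matrix.mulVec_smul]
    · intro hg
      have key : ∀ h : Matrix.symplecticGroup (Fin m) F,
          (∀ x, ∃ y, ∃ a : F, a ≠ 0 ∧ h.1 *ᵥ Pi.single x 1 = Pi.single y a) → ∀ A ∈ T, h⁻¹ * A * h ∈ T := by
        intro h hh A hA
        rw [hT] at hA ⊢
        intro x
        obtain ⟨y, a, ha, hxy⟩ := hh x
        obtain ⟨b, hb⟩ := hA y
        refine ⟨b, ?_⟩
        simp only [Submonoid.coe_mul, ← Matrix.mulVec_mulVec, hxy]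
        rw [show Pi.single y a = a • (Pi.single y (1 : F) : Fin m ⊕ Fin m → F) by
          rw [← Pi.single_smul]; simp, Matrix.mulVec_smul, hb,
          show Pi.single y b = b • (Pi.single y (1 : F) : Fin m ⊕ Fin m → F) by
            rw [← Pi.single_smul]; simp, smul_comm,
          show a • (Pi.single y (1 : F) : Fin m ⊕ Fin m → F) = h.1 *ᵥ Pi.single x 1 by
            rw [hxy, ← Pi.single_smul]; simp,
          Matrix.mulVec_smul, hinv, ← Pi.single_smul, smul_eq_mul, mul_one]
      have hsur : ∀ y, ∃ x, ∃ a : F, a ≠ 0 ∧ g.1 *ᵥ Pi.single x 1 = Pi.single y a := by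
        choose f a ha hfa using hg
        have hinjf : Function.Injective f := fun x x' e => by
          by_contra hne
          have h1 : g.1 *ᵥ (a x' • Pi.single x 1 - a x • Pi.single x' 1) = 0 := by
            rw [Matrix.mulVec_sub, Matrix.mulVec_smul, Matrix.mulVec_smul, hfa, hfa, ← Pi.single_smul,
              ← Pi.single_smul, e, smul_eq_mul, smul_eq_mul, mul_comm, sub_self]
          have h2 := congrArg ((g⁻¹).1 *ᵥ ·) h1
          simp only [hinv, Matrix.mulVec_zero] at h2
          have := congrFun h2 x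
          simp [Pi.single_eq_of_ne hne] at this
          exact ha _ this
        intro y
        obtain ⟨x, rfl⟩ := (Finite.injective_iff_surjective.1 hinjf) y
        exact ⟨x, a x, ha x, hfa x⟩
      have hgi : ∀ x, ∃ y, ∃ a : F, a ≠ 0 ∧ (g⁻¹).1 *ᵥ Pi.single x 1 = Pi.single y a := by
        intro y
        obtain ⟨x, a, ha, hxa⟩ := hsur y
        refine ⟨x, a⁻¹, inv_ne_zero ha, ?_⟩
        rw [show Pi.single y (1 : F) = a⁻¹ • (Pi.single y a : Fin m ⊕ Fin m → F) by
          rw [← Pi.single_smul, smul_eq_mul, inv_mul_cancel₀ ha], Matrix.mulVec_smul, ← hxa, hinv,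
          ← Pi.single_smul, smul_eq_mul, mul_one]
      rw [Subgroup.mem_normalizer_iff]
      intro A
      refine ⟨fun hA => ?_, fun hA => ?_⟩
      · have := key _ hgi A hA
        rwa [inv_inv] at this
      · have := key g hg _ hA
        simpa [mul_assoc] using this
  let Φ : Equiv.Perm (Fin m) × (Fin m → Bool) × (Fin m → Fˣ) →
      Subgroup.normalizer (T : Set (Matrix.symplecticGroup (Fin m) F)) := fun p =>
    ⟨⟨mono p.1 p.2.1 p.2.2, mono_mem _ _ _⟩, (hN _).2 (by
      rintro (i | i)
      · exact ⟨_, _, (p.2.2 i).ne_zero, mono_col_inl _ _ _ i⟩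
      · exact ⟨_, _, by split_ifs <;> simp, mono_col_inr _ _ _ i⟩)⟩
  have hΦ : Function.Bijective Φ := by
    refine ⟨fun p p' h => mono_injective (congrArg (fun g => g.1.1) h), fun g => ?_⟩
    obtain ⟨π, s, c, h⟩ := exists_mono g.1 ((hN _).1 g.2)
    exact ⟨(π, s, c), Subtype.ext (Subtype.ext h)⟩
  rw [← Nat.card_congr (Equiv.ofBijective Φ hΦ), Nat.card_prod, Nat.card_prod, Nat.card_perm, Nat.card_fun,
    Nat.card_fun, Nat.card_units, Nat.card_eq_fintype_card (α := F), hF, Nat.card_eq_fintype_card (α := Fin m),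
    Fintype.card_fin]
  simp only [Nat.card_eq_fintype_card, Fintype.card_bool, Fintype.card_fin]
  ring

end Cfsg.Agent.S0777
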