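import Cfsg.Statements.S0778
import Mathlib
import Cfsg.Agent.Lib.Forms.Stab
-- import your own Cfsg.Agent.* helpers here

set_option autoImplicit false
open Cfsg

namespace Cfsg.Agent.S0778

/-- The elements of Sp_2m(F) stabilising both W = ⟨e_1..e_m⟩ and U = ⟨f_1..f_m⟩ form a subgroup isomorphic to GL_m(F) (block-diagonal matrices diag(X, X^(−ᵀ)) up to the sign convention of J), for m ≥ 1 or m = 0 alike. -/
theorem result {F : Type*} [Field F] (m : ℕ) : Nonempty (↥(Cfsg.stabilizing (Cfsg.spToMat m F) {v : Fin m ⊕ Fin m → F | ∀ i : Fin m, v (Sum.inr i) = 0} ⊓ Cfsg.stabilizing (Cfsg.spToMat m F) {v : Fin m ⊕ Fin m → F | ∀ i : Fin m, v (Sum.inl i) = 0}) ≃* Matrix.GeneralLinearGroup (Fin m) F) := by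
  classical
  have hA : {v : Fin m ⊕ Fin m → F | ∀ i : Fin m, v (Sum.inr i) = 0}
      = (Cfsg.Agent.Lib.Forms.supported F (fun x : Fin m ⊕ Fin m => x.isLeft = true) : Set _) := by
    ext v
    simp [Cfsg.Agent.Lib.Forms.mem_supported]
  have hB : {v : Fin m ⊕ Fin m → F | ∀ i : Fin m, v (Sum.inl i) = 0}
      = (Cfsg.Agent.Lib.Forms.supported F (fun x : Fin m ⊕ Fin m => x.isRight = true) : Set _) := by
    ext v
    simp [Cfsg.Agent.Lib.Forms.mem_supported]
  set G := Cfsg.stabilizing (Cfsg.spToMat m F) {v : Fin m ⊕ Fin m → F | ∀ i : Fin m, v (Sum.inr i) = 0} ⊓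
    Cfsg.stabilizing (Cfsg.spToMat m F) {v : Fin m ⊕ Fin m → F | ∀ i : Fin m, v (Sum.inl i) = 0}
  have hmem : ∀ A, A ∈ G ↔ (A : Matrix (Fin m ⊕ Fin m) (Fin m ⊕ Fin m) F).toBlocks₂₁ = 0 ∧
      (A : Matrix (Fin m ⊕ Fin m) (Fin m ⊕ Fin m) F).toBlocks₁₂ = 0 := by
    intro A
    rw [Subgroup.mem_inf, hA, hB, Cfsg.Agent.Lib.Forms.mem_stabilizing_supported_iff,
      Cfsg.Agent.Lib.Forms.mem_stabilizing_supported_iff]
    constructor
    · rintro ⟨h1, h2⟩
      exact ⟨Matrix.ext fun i j => h1 (.inr i) (.inl j) (by simp) (by simp),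
        Matrix.ext fun i j => h2 (.inl i) (.inr j) (by simp) (by simp)⟩
    · rintro ⟨h1, h2⟩
      refine ⟨fun i j hi hj => ?_, fun i j hi hj => ?_⟩
      · rcases i with i | i <;> rcases j with j | j <;> simp at hi hj
        exact congrFun (congrFun h1 i) j
      · rcases i with i | i <;> rcases j with j | j <;> simp at hi hj
        exact congrFun (congrFun h2 i) j
  let mk : Matrix.GeneralLinearGroup (Fin m) F → Matrix (Fin m ⊕ Fin m) (Fin m ⊕ Fin m) F := fun X =>
    Matrix.fromBlocks (X : Matrix (Fin m) (Fin m) F) 0 0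
      ((X⁻¹ : Matrix.GeneralLinearGroup (Fin m) F) : Matrix (Fin m) (Fin m) F).transpose
  have hmk : ∀ X, mk X ∈ Matrix.symplecticGroup (Fin m) F := fun X => by
    rw [SymplecticGroup.mem_iff]
    simp only [mk, Matrix.J, Matrix.fromBlocks_transpose, Matrix.fromBlocks_multiply, Matrix.transpose_zero,
      Matrix.transpose_transpose, Matrix.mul_zero, Matrix.zero_mul, add_zero, zero_add, Matrix.mul_neg,
      Matrix.neg_mul, Matrix.mul_one, Units.mul_inv, ← Matrix.transpose_mul, Matrix.transpose_one, neg_zero]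
  refine ⟨(MulEquiv.ofBijective
    (⟨⟨fun X => ⟨⟨mk X, hmk X⟩, (hmem _).2 ⟨by simp [mk], by simp [mk]⟩⟩,
      Subtype.ext (Subtype.ext (by simp [mk]))⟩,
      fun X Y => Subtype.ext (Subtype.ext (by
        show mk (X * Y) = mk X * mk Y
        simp only [mk, Matrix.fromBlocks_multiply, mul_inv_rev, Units.val_mul, Matrix.transpose_mul, mul_zero,
          zero_mul, add_zero, zero_add]))⟩ : Matrix.GeneralLinearGroup (Fin m) F →* G)
    ⟨fun X Y h => Units.ext ?_, fun A => ?_⟩).symm⟩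
  · have := congrArg (fun A : G => (A.1.1 : Matrix (Fin m ⊕ Fin m) (Fin m ⊕ Fin m) F).toBlocks₁₁) h
    simpa [mk] using this
  · obtain ⟨h1, h2⟩ := (hmem _).1 A.2
    have hA' := SymplecticGroup.mem_iff.1 A.1.2
    set M : Matrix (Fin m ⊕ Fin m) (Fin m ⊕ Fin m) F := A.1.1
    rw [← M.fromBlocks_toBlocks, h1, h2, Matrix.J, Matrix.fromBlocks_transpose, Matrix.fromBlocks_multiply,
      Matrix.fromBlocks_multiply, Matrix.fromBlocks_inj] at hA'
    obtain ⟨-, e, -, -⟩ := hA'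
    simp at e
    let X : Matrix.GeneralLinearGroup (Fin m) F :=
      ⟨M.toBlocks₁₁, M.toBlocks₂₂.transpose, e, mul_eq_one_comm.1 e⟩
    refine ⟨X, Subtype.ext (Subtype.ext ?_)⟩
    show mk X = M
    conv_rhs => rw [← M.fromBlocks_toBlocks, h1, h2]
    simp only [mk]
    rw [show ((X⁻¹ : Matrix.GeneralLinearGroup (Fin m) F) : Matrix (Fin m) (Fin m) F) = M.toBlocks₂₂.transpose from rfl,
      Matrix.transpose_transpose]

end Cfsg.Agent.S0778
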