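import Cfsg.Statements.S0779
import Mathlib
import Cfsg.Agent.Lib.Forms.Bridge
-- import your own Cfsg.Agent.* helpers here

set_option autoImplicit false
open Cfsg

namespace Cfsg.Agent.S0779

/-- Unitary transvections: let |F| = q², h the standard Hermitian form Σ x_i y_i^q and v ≠ 0 with h(v, v) = 0. The linear map x ↦ x + c h(x, v) v is an isometry of h if and only if c = 0 or c^(q−1) = −1. -/
theorem result {F : Type*} [Field F] [Fintype F] {q : ℕ} (hF : Fintype.card F = q ^ 2) (n : ℕ) (v : Fin n → F) (hv : v ≠ 0) (hv0 : Cfsg.hermForm n F q v v = 0) (c : F) : (∀ x y : Fin n → F, Cfsg.hermForm n F q ((Cfsg.unitaryTransvection n q v c).mulVec x) ((Cfsg.unitaryTransvection n q v c).mulVec y) = Cfsg.hermForm n F q x y) ↔ (c = 0 ∨ c ^ (q - 1) = -1) := by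
  have hq := Cfsg.Agent.Lib.Forms.two_le_of_card_sq hF
  have h := Cfsg.Agent.Lib.Forms.hermSesq_goodForm (n := n) hF
  have key : ∀ x y, Cfsg.hermForm n F q ((Cfsg.unitaryTransvection n q v c).mulVec x)
      ((Cfsg.unitaryTransvection n q v c).mulVec y)
      = Cfsg.hermForm n F q x y
        + (c + c ^ q) * (Cfsg.hermForm n F q x v * Cfsg.hermForm n F q v y) := by
    intro x y
    have hh : Cfsg.hermForm n F q v y = Cfsg.hermForm n F q y v ^ q := by
      have := (Cfsg.Agent.Lib.Forms.hermSesq_isSymm (n := n) hF).eq v y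
      simpa using this.symm
    simp only [← Cfsg.Agent.Lib.Forms.hermSesq_apply hF, Cfsg.Agent.Lib.Forms.unitaryTransvection_mulVec,
      map_add, LinearMap.add_apply, map_smulₛₗ, LinearMap.smul_apply, smul_eq_mul, RingHom.id_apply,
      Cfsg.Agent.Lib.Forms.qPowHom_apply, map_mul]
    simp only [Cfsg.Agent.Lib.Forms.hermSesq_apply, hv0, hh]
    ring
  constructor
  · intro hiso
    obtain ⟨b, hb⟩ := h.exists_vec (LinearMap.proj (Classical.choose (Function.ne_iff.mp hv)))
    have hbv : Cfsg.hermForm n F q v b ≠ 0 := by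
      have := hb v
      rw [Cfsg.Agent.Lib.Forms.hermSesq_apply] at this
      rw [this]
      exact Classical.choose_spec (Function.ne_iff.mp hv)
    have hbv' : Cfsg.hermForm n F q b v ≠ 0 := fun h0 => hbv (by
      have := h.eq_zero_symm (x := v) (y := b) (by simpa using h0)
      simpa using this)
    have := hiso b b
    rw [key, add_eq_left, mul_eq_zero] at this
    have hc : c + c ^ q = 0 := this.resolve_right (mul_ne_zero hbv' hbv)
    by_cases hc0 : c = 0
    · exact Or.inl hc0
    · right
      refine mul_right_cancel₀ hc0 ?_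
      rw [← pow_succ, Nat.sub_add_cancel (by omega : 1 ≤ q)]
      linear_combination hc
  · intro hc x y
    rw [key]
    have : c + c ^ q = 0 := by
      rcases hc with rfl | hc
      · simp [show q ≠ 0 by omega]
      · rw [show c ^ q = c ^ (q - 1) * c by rw [← pow_succ, Nat.sub_add_cancel (by omega : 1 ≤ q)], hc]; ring
    simp [this]

end Cfsg.Agent.S0779
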