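import Cfsg.Statements.S0783
import Mathlib
import Cfsg.Agent.Lib.Classical.UnitaryOrder
-- import your own Cfsg.Agent.* helpers here

set_option autoImplicit false
open Cfsg

namespace Cfsg.Agent.S0783

/-- PGU_n(q)/PSU_n(q) is cyclic of order (n, q+1): for n ≥ 2 and |F| = q² there is a surjective homomorphism from GU_n(q) onto the cyclic group of order gcd(n, q + 1) whose kernel is generated by the determinant-one elements together with the centre. -/
theorem result {F : Type*} [Field F] [Fintype F] {q : ℕ} (hF : Fintype.card F = q ^ 2) (n : ℕ) (hn : 2 ≤ n) : ∃ φ : ↥(Cfsg.GU n F q) →* Multiplicative (ZMod (Nat.gcd n (q + 1))), Function.Surjective φ ∧ φ.ker = (Matrix.GeneralLinearGroup.det : Matrix.GeneralLinearGroup (Fin n) F →* Fˣ).ker.subgroupOf (Cfsg.GU n F q) ⊔ Subgroup.center ↥(Cfsg.GU n F q) := by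
  classical
  have hq := Cfsg.Agent.Lib.Forms.two_le_of_card_sq hF
  set D := Cfsg.Agent.Lib.Classical.guDet n F q
  set d := Nat.gcd n (q + 1)
  set R := D.range
  have hR : Nat.card R = q + 1 := Cfsg.Agent.Lib.Classical.natCard_range_guDet hF n (by omega)
  set N := (powMonoidHom n : R →* R).range with hN
  have hNi : N.index = d := by
    rw [hN, IsCyclic.index_powMonoidHom_range, hR, Nat.gcd_comm]
  have hdpos : 0 < d := Nat.gcd_pos_of_pos_right _ (by omega)
  have : NeZero d := ⟨hdpos.ne'⟩
  have : IsCyclic (R ⧸ N) := isCyclic_of_surjective (QuotientGroup.mk' N) (QuotientGroup.mk'_surjective N)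
  have e : R ⧸ N ≃* Multiplicative (ZMod d) := mulEquivOfCyclicCardEq (by
    rw [← Subgroup.index_eq_card, hNi, Nat.card_congr Multiplicative.toAdd, Nat.card_zmod])
  let φ : ↥(Cfsg.GU n F q) →* Multiplicative (ZMod d) :=
    e.toMonoidHom.comp ((QuotientGroup.mk' N).comp D.rangeRestrict)
  refine ⟨φ, ?_, ?_⟩
  · exact e.surjective.comp ((QuotientGroup.mk'_surjective N).comp D.rangeRestrict_surjective)
  have hker : ∀ g, g ∈ φ.ker ↔ ∃ x : R, (x : Fˣ) ^ n = D g := by
    intro g
    rw [MonoidHom.mem_ker]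
    simp only [φ, MonoidHom.comp_apply, MulEquiv.coe_toMonoidHom, EmbeddingLike.map_eq_one_iff]
    rw [QuotientGroup.mk'_apply, QuotientGroup.eq_one_iff]
    constructor
    · rintro ⟨x, hx⟩
      exact ⟨x, congrArg Subtype.val hx⟩
    · rintro ⟨x, hx⟩
      exact ⟨x, Subtype.ext hx⟩
  have hS : (Matrix.GeneralLinearGroup.det : Matrix.GeneralLinearGroup (Fin n) F →* Fˣ).ker.subgroupOf
      (Cfsg.GU n F q) = D.ker := by
    ext g; rfl
  have hnorm : ∀ x : R, ((x : Fˣ) : F) ^ (q + 1) = 1 := by
    intro x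
    obtain ⟨g, hg⟩ := x.2
    rw [← hg]
    exact Cfsg.Agent.Lib.Classical.det_norm_one hF g
  rw [hS]
  apply le_antisymm
  · intro g hg
    obtain ⟨x, hx⟩ := (hker g).1 hg
    have hdetz : (Matrix.diagonal fun _ : Fin n => ((x : Fˣ) : F)).det ≠ 0 := by
      rw [Matrix.det_diagonal]
      exact Finset.prod_ne_zero_iff.2 fun i _ => (x : Fˣ).ne_zero
    let z : ↥(Cfsg.GU n F q) := ⟨Matrix.GeneralLinearGroup.mkOfDetNeZero _ hdetz,
      fun u v => Cfsg.Agent.Lib.Classical.diagonal_mem_GU hF _ (fun _ => hnorm x) u v⟩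
    have hz : z ∈ Subgroup.center ↥(Cfsg.GU n F q) := by
      rw [Subgroup.mem_center_iff]
      intro k
      refine Subtype.ext (Units.ext ?_)
      show (k.1 : Matrix (Fin n) (Fin n) F) * Matrix.diagonal (fun _ => ((x : Fˣ) : F))
        = Matrix.diagonal (fun _ => ((x : Fˣ) : F)) * (k.1 : Matrix (Fin n) (Fin n) F)
      ext i j
      rw [Matrix.mul_diagonal, Matrix.diagonal_mul, mul_comm]
    rw [show g = g * z⁻¹ * z by rw [inv_mul_cancel_right]]
    refine Subgroup.mul_mem_sup ?_ hz
    rw [MonoidHom.mem_ker, map_mul, map_inv, mul_inv_eq_one, ← hx]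
    ext
    show _ = (Matrix.diagonal fun _ : Fin n => ((x : Fˣ) : F)).det
    rw [Matrix.det_diagonal, Finset.prod_const, Finset.card_univ, Fintype.card_fin, Units.val_pow_eq_pow_val]
  · refine sup_le (fun g hg => (hker g).2 ⟨1, ?_⟩) (fun z hz => (hker z).2 ?_)
    · rw [MonoidHom.mem_ker] at hg
      rw [hg]; simp
    set M := (z.1 : Matrix (Fin n) (Fin n) F)
    obtain ⟨l, hl1, hl⟩ : ∃ l : F, l ≠ 1 ∧ l ^ (q + 1) = 1 := by
      by_contra hne
      push Not at hne
      have : Subsingleton {y : F // y ^ (q + 1) = 1} := ⟨fun a b => by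
        have : ∀ y : {y : F // y ^ (q + 1) = 1}, (y : F) = 1 := fun y => by
          by_contra hy; exact hne y hy y.2
        exact Subtype.ext ((this a).trans (this b).symm)⟩
      have := Cfsg.Agent.Lib.Classical.natCard_normOne hF
      rw [Nat.card_of_subsingleton (⟨1, one_pow _⟩ : {y : F // y ^ (q + 1) = 1})] at this
      omega
    have hoff : ∀ i j, i ≠ j → M i j = 0 := by
      intro i j hij
      let w : Fin n → F := fun a => if a = i then l else 1
      have hw : ∀ a, w a ^ (q + 1) = 1 := fun a => by simp only [w]; split_ifs; exacts [hl, one_pow _]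
      have hl0 : l ≠ 0 := by rintro rfl; rw [zero_pow (by omega)] at hl; exact zero_ne_one hl
      have hwd : (Matrix.diagonal w).det ≠ 0 := by
        rw [Matrix.det_diagonal]
        exact Finset.prod_ne_zero_iff.2 fun a _ => by simp only [w]; split_ifs <;> simp [hl0]
      have h := Subgroup.mem_center_iff.1 hz ⟨Matrix.GeneralLinearGroup.mkOfDetNeZero _ hwd,
        fun u v => Cfsg.Agent.Lib.Classical.diagonal_mem_GU hF _ hw u v⟩
      have h' : Matrix.diagonal w * M = M * Matrix.diagonal w :=
        congrArg (fun k : ↥(Cfsg.GU n F q) => (k.1 : Matrix (Fin n) (Fin n) F)) h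
      have := congrFun (congrFun h' i) j
      simp only [Matrix.diagonal_mul, Matrix.mul_diagonal, w, if_pos trivial, if_neg (Ne.symm hij)] at this
      have h0 : (l - 1) * M i j = 0 := by linear_combination this
      exact (mul_eq_zero.1 h0).resolve_left (sub_ne_zero.2 hl1)
    have hdiag : ∀ i j, M i i = M j j := by
      intro i j
      let σ : Equiv.Perm (Fin n) := Equiv.swap i j
      have hP : ∀ u, (σ.permMatrix F).mulVec u = u ∘ σ := fun u => Matrix.permMatrix_mulVec _
      have hPd : (σ.permMatrix F).det ≠ 0 := by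
        rw [Matrix.det_permutation]
        rcases Int.units_eq_one_or (Equiv.Perm.sign σ) with e | e <;> simp [e]
      have h := Subgroup.mem_center_iff.1 hz ⟨Matrix.GeneralLinearGroup.mkOfDetNeZero _ hPd, fun u v => by
        show Cfsg.hermForm n F q ((σ.permMatrix F).mulVec u) ((σ.permMatrix F).mulVec v) = _
        rw [hP, hP]
        exact Equiv.sum_comp σ (fun a => u a * v a ^ q)⟩
      have h' : σ.permMatrix F * M = M * σ.permMatrix F :=
        congrArg (fun k : ↥(Cfsg.GU n F q) => (k.1 : Matrix (Fin n) (Fin n) F)) h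
      have := congrFun (congrFun h' i) j
      simp only [Matrix.mul_apply, Equiv.Perm.permMatrix, PEquiv.toMatrix_apply, Equiv.toPEquiv_apply,
        Option.mem_def, Option.some.injEq, ite_mul, one_mul, zero_mul, mul_ite, mul_one, mul_zero] at this
      have e1 : ∀ a, (σ a = j) ↔ a = i := fun a => by
        rw [← Equiv.swap_apply_left i j]; exact σ.injective.eq_iff
      simp only [e1, Finset.sum_ite_eq', Finset.mem_univ, if_true, Finset.sum_ite_eq, σ,
        Equiv.swap_apply_left] at this
      exact this.symm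
    have hM : M = Matrix.diagonal fun _ => M ⟨0, by omega⟩ ⟨0, by omega⟩ := by
      ext i j
      by_cases hij : i = j
      · subst hij; rw [Matrix.diagonal_apply_eq]; exact hdiag _ _
      · rw [Matrix.diagonal_apply_ne _ hij, hoff i j hij]
    set c := M ⟨0, by omega⟩ ⟨0, by omega⟩
    have hc : c ^ (q + 1) = 1 := by
      have := z.2 (Pi.single ⟨0, by omega⟩ 1) (Pi.single ⟨0, by omega⟩ 1)
      simp only [Units.coeHom_apply] at this
      rw [show (z.1 : Matrix (Fin n) (Fin n) F) = M from rfl, hM] at this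
      simp [Cfsg.hermForm, Matrix.mulVec_single, Pi.single_apply, Matrix.diagonal_apply, ite_pow,
        zero_pow (show q ≠ 0 by omega)] at this
      rw [pow_succ']
      exact this
    have hc0 : c ≠ 0 := by intro h; rw [h, zero_pow (by omega)] at hc; exact zero_ne_one hc
    let wf : Fin n → F := fun i => if i = ⟨0, by omega⟩ then c else 1
    have hwd : (Matrix.diagonal wf).det = c := by
      simp only [wf]
      rw [Matrix.det_diagonal, Finset.prod_ite_eq' Finset.univ (⟨0, by omega⟩ : Fin n) (fun _ => c)]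
      simp
    let w : ↥(Cfsg.GU n F q) := ⟨Matrix.GeneralLinearGroup.mkOfDetNeZero (Matrix.diagonal wf) (by rw [hwd]; exact hc0),
      fun u v => Cfsg.Agent.Lib.Classical.diagonal_mem_GU hF wf
        (fun a => by simp only [wf]; split_ifs; exacts [hc, one_pow _]) u v⟩
    refine ⟨⟨D w, ⟨w, rfl⟩⟩, Units.ext ?_⟩
    show (Matrix.diagonal wf).det ^ n = M.det
    rw [hwd, hM, Matrix.det_diagonal, Finset.prod_const, Finset.card_univ, Fintype.card_fin]

end Cfsg.Agent.S0783
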