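import Cfsg.Statements.S0785
import Mathlib
import Cfsg.Agent.Lib.Forms.Reflection
-- import your own Cfsg.Agent.* helpers here

set_option autoImplicit false
open Cfsg

namespace Cfsg.Agent.S0785

/-- det(I) = {±1}: for a quadratic form on F^n whose polar form is non-degenerate, every element of the isometry group has determinant 1 or −1, and as soon as Q takes a non-zero value some isometry has determinant −1. -/
theorem result {F : Type*} [Field F] {n : ℕ} (Q : QuadraticForm F (Fin n → F)) (hQ : (QuadraticMap.polarBilin Q).Nondegenerate) : (∀ g : ↥(Cfsg.isometryGroup F ⇑Q), ((g : Matrix.GeneralLinearGroup (Fin n) F) : Matrix (Fin n) (Fin n) F).det = 1 ∨ ((g : Matrix.GeneralLinearGroup (Fin n) F) : Matrix (Fin n) (Fin n) F).det = -1) ∧ ((∃ v, Q v ≠ 0) → ∃ g : ↥(Cfsg.isometryGroup F ⇑Q), ((g : Matrix.GeneralLinearGroup (Fin n) F) : Matrix (Fin n) (Fin n) F).det = -1) := by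
  refine ⟨fun g => ?_, fun ⟨v, hv⟩ => ⟨Cfsg.Agent.Lib.Forms.isoMk (Cfsg.Agent.Lib.Forms.reflEquiv Q hv)
    (Cfsg.Agent.Lib.Forms.reflEquiv_preserves hv), ?_⟩⟩
  · by_cases hc : ∃ c : F, c ≠ 0 ∧ c ≠ 1
    · have hg : g ∈ Subgroup.closure _ :=
        (Cfsg.Agent.Lib.Forms.closure_reflectionMatrix_eq_top Q hQ (Or.inl hc)).symm ▸ Subgroup.mem_top g
      induction hg using Subgroup.closure_induction with
      | mem x hx =>
        obtain ⟨v, hv, e⟩ := hx
        rw [e, Cfsg.Agent.Lib.Forms.det_reflectionMatrix Q hv]; simp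
      | one => simp
      | mul x y _ _ hx hy =>
        simp only [Subgroup.coe_mul, Units.val_mul, Matrix.det_mul]
        rcases hx with hx | hx <;> rcases hy with hy | hy <;> simp [hx, hy]
      | inv x _ hx =>
        simp only [Subgroup.coe_inv, Matrix.coe_units_inv, Matrix.det_nonsing_inv, Ring.inverse_eq_inv']
        rcases hx with hx | hx <;> simp [hx]
    · push Not at hc
      refine Or.inl (hc _ ?_)
      exact ((Matrix.isUnit_iff_isUnit_det _).mp (g : Matrix.GeneralLinearGroup (Fin n) F).isUnit).ne_zero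
  · rw [← Cfsg.Agent.Lib.Forms.det_reflectionMatrix Q hv]
    congr 1
    refine Matrix.ext_iff_mulVec.mpr fun x => ?_
    rw [Cfsg.Agent.Lib.Forms.isoMk_mulVec, Cfsg.Agent.Lib.Forms.reflectionMatrix_mulVec,
      Cfsg.Agent.Lib.Forms.reflEquiv_apply]

end Cfsg.Agent.S0785
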