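import Cfsg.Statements.S0787
import Mathlib
import Cfsg.Agent.Lib.Forms.Parity
import Cfsg.Agent.Lib.Orth.Omega
-- import your own Cfsg.Agent.* helpers here

set_option autoImplicit false
open Cfsg

namespace Cfsg.Agent.S0787

/-- Existence and uniqueness of Ω: if F is finite, n ≥ 2, Q is a quadratic form on F^n with non-degenerate polar form and (|F|, n) ≠ (2, 4), then the group of isometries of determinant one has a unique subgroup of index 2. -/
theorem result {F : Type*} [Field F] [Fintype F] {n : ℕ} (hn : 2 ≤ n) (Q : QuadraticForm F (Fin n → F)) (hQ : (QuadraticMap.polarBilin Q).Nondegenerate) (h : Fintype.card F ≠ 2 ∨ n ≠ 4) : ∃! H : Subgroup ↥(Cfsg.specialIsometryGroup F ⇑Q), H.index = 2 := by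
  classical
  have hex : (∃ c : F, c ≠ 0 ∧ c ≠ 1) ∨ Fintype.card (Fin n) ≠ 4 := by
    rw [Fintype.card_fin]
    refine h.imp_left fun h2 => ?_
    by_contra hne
    push Not at hne
    apply h2
    have : (Finset.univ : Finset F) = {0, 1} := by
      ext x
      simp only [Finset.mem_univ, Finset.mem_insert, Finset.mem_singleton, true_iff]
      exact or_iff_not_imp_left.mpr (hne x)
    rw [← Finset.card_univ, this, Finset.card_pair zero_ne_one]
  refine Cfsg.Agent.Lib.Forms.unique_index_two hQ hex ?_
  have hdet : ∀ g : ↥(Cfsg.isometryGroup F ⇑Q),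
      g ∈ Cfsg.specialIsometryGroup F ⇑Q ↔
        ((g : Matrix.GeneralLinearGroup (Fin n) F) : Matrix (Fin n) (Fin n) F).det = 1 := fun g => Units.ext_iff
  have hall : ∀ g : ↥(Cfsg.isometryGroup F ⇑Q),
      ((g : Matrix.GeneralLinearGroup (Fin n) F) : Matrix (Fin n) (Fin n) F).det = 1 ∨
        ((g : Matrix.GeneralLinearGroup (Fin n) F) : Matrix (Fin n) (Fin n) F).det = -1 := by
    intro g
    induction g using Cfsg.Agent.Lib.Forms.isometry_induction hQ hex with
    | h1 => simp
    | hr v hv g hg =>
      rw [Subgroup.coe_mul, Units.val_mul, Matrix.det_mul, Cfsg.Agent.Lib.Forms.det_reflElem hv]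
      rcases hg with e | e <;> simp [e]
  by_cases h2 : (2 : F) = 0
  · have : CharP F 2 := CharTwo.of_one_ne_zero_of_two_eq_zero one_ne_zero h2
    have hSO : Cfsg.specialIsometryGroup F ⇑Q = ⊤ := by
      rw [eq_top_iff]
      intro g _
      rw [hdet]
      rcases hall g with e | e
      · exact e
      · rw [e]; linear_combination -h2
    rw [hSO, Subgroup.index_top,
      Cfsg.Agent.Lib.Forms.index_Omega_char_two hQ hex (by rw [Fintype.card_fin]; omega)]
  · rw [Cfsg.Agent.Lib.Orth.index_omega h2 hQ (by rw [Fintype.card_fin]; omega)]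
    obtain ⟨v, hv⟩ := Cfsg.Agent.Lib.Forms.exists_nonsingular hQ (by rw [Fintype.card_fin]; omega)
    have hr := Cfsg.Agent.Lib.Forms.det_reflElem hv
    have hne : (-1 : F) ≠ 1 := fun e => h2 (by linear_combination -e)
    have : (Cfsg.specialIsometryGroup F ⇑Q).index = 2 := by
      rw [Subgroup.index_eq_two_iff]
      refine ⟨Cfsg.Agent.Lib.Forms.reflElem hv, fun g => ?_⟩
      rw [hdet, hdet, Subgroup.coe_mul, Units.val_mul, Matrix.det_mul, hr]
      rcases hall g with e | e <;> simp [e, Xor', hne, Ne.symm hne]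
    rw [this]

end Cfsg.Agent.S0787
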