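import Cfsg.Statements.S0789
import Mathlib
import Cfsg.Agent.Lib.Forms.Parity
-- import your own Cfsg.Agent.* helpers here

set_option autoImplicit false
open Cfsg

namespace Cfsg.Agent.S0789

/-- Ω has index 2 in O for q even: if F is finite of characteristic two, n ≥ 2, Q is a quadratic form on F^n with non-degenerate polar form, and (|F|, n) ≠ (2, 4), then the commutator subgroup of the isometry group of Q has index 2 in it. -/
theorem result {F : Type*} [Field F] [Fintype F] [CharP F 2] {n : ℕ} (hn : 2 ≤ n) (Q : QuadraticForm F (Fin n → F)) (hQ : (QuadraticMap.polarBilin Q).Nondegenerate) (h : Fintype.card F ≠ 2 ∨ n ≠ 4) : (Cfsg.Omega F ⇑Q).index = 2 := by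
  classical
  refine Cfsg.Agent.Lib.Forms.index_Omega_char_two hQ ?_ (by rw [Fintype.card_fin]; omega)
  rw [Fintype.card_fin]
  refine h.imp_left fun h2 => ?_
  by_contra hne
  push Not at hne
  apply h2
  have : (Finset.univ : Finset F) = {0, 1} := by
    ext x
    simp only [Finset.mem_univ, Finset.mem_insert, Finset.mem_singleton, true_iff]
    exact or_iff_not_imp_left.mpr (hne x)
  rw [← Finset.card_univ, this, Finset.card_pair zero_ne_one]

end Cfsg.Agent.S0789
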