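import Cfsg.Statements.S0792
import Mathlib
import Cfsg.Agent.Lib.Forms.Reflection
-- import your own Cfsg.Agent.* helpers here

set_option autoImplicit false
open Cfsg

namespace Cfsg.Agent.S0792

/-- For q odd and Q with non-degenerate polar form on F^n, the determinant-one isometries form the subgroup generated by all products r_u r_v of two reflections (Q(u), Q(v) ≠ 0). -/
theorem result {F : Type*} [Field F] [Fintype F] (h2 : (2 : F) ≠ 0) {n : ℕ} (Q : QuadraticForm F (Fin n → F)) (hQ : (QuadraticMap.polarBilin Q).Nondegenerate) : Cfsg.specialIsometryGroup F ⇑Q = Subgroup.closure {g : ↥(Cfsg.isometryGroup F ⇑Q) | ∃ u v : Fin n → F, Q u ≠ 0 ∧ Q v ≠ 0 ∧ ((g : Matrix.GeneralLinearGroup (Fin n) F) : Matrix (Fin n) (Fin n) F) = Cfsg.reflectionMatrix ⇑Q u * Cfsg.reflectionMatrix ⇑Q v} := by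
  set K := Subgroup.closure {g : ↥(Cfsg.isometryGroup F ⇑Q) | ∃ u v : Fin n → F, Q u ≠ 0 ∧ Q v ≠ 0 ∧
    ((g : Matrix.GeneralLinearGroup (Fin n) F) : Matrix (Fin n) (Fin n) F)
      = Cfsg.reflectionMatrix ⇑Q u * Cfsg.reflectionMatrix ⇑Q v}
  set S := {g : ↥(Cfsg.isometryGroup F ⇑Q) | ∃ v : Fin n → F, Q v ≠ 0 ∧
    ((g : Matrix.GeneralLinearGroup (Fin n) F) : Matrix (Fin n) (Fin n) F) = Cfsg.reflectionMatrix ⇑Q v}
  have hmemSO : ∀ g : ↥(Cfsg.isometryGroup F ⇑Q), g ∈ Cfsg.specialIsometryGroup F ⇑Q ↔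
      ((g : Matrix.GeneralLinearGroup (Fin n) F) : Matrix (Fin n) (Fin n) F).det = 1 := by
    intro g
    exact Units.ext_iff
  apply le_antisymm
  · intro g hg
    have hgS : g ∈ Subgroup.closure S := by
      rw [Cfsg.Agent.Lib.Forms.closure_reflectionMatrix_eq_top Q hQ
        (Or.inl ⟨-1, neg_ne_zero.mpr one_ne_zero, fun h => h2 (by linear_combination -h)⟩)]
      exact Subgroup.mem_top g
    have hKdet : ∀ k ∈ K, ((k : Matrix.GeneralLinearGroup (Fin n) F) : Matrix (Fin n) (Fin n) F).det = 1 := by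
      intro k hk
      rw [← hmemSO]
      refine (Subgroup.closure_le _).mpr ?_ hk
      rintro x ⟨u, v, hu, hv, e⟩
      rw [SetLike.mem_coe, hmemSO, e, Matrix.det_mul, Cfsg.Agent.Lib.Forms.det_reflectionMatrix Q hu,
        Cfsg.Agent.Lib.Forms.det_reflectionMatrix Q hv]
      ring
    have hss : ∀ r ∈ S, ∀ r' ∈ S, r * r' ∈ K := by
      rintro r ⟨u, hu, eu⟩ r' ⟨v, hv, ev⟩
      exact Subgroup.subset_closure ⟨u, v, hu, hv, by rw [Subgroup.coe_mul, Units.val_mul, eu, ev]⟩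
    have hinvol : ∀ r ∈ S, r * r = 1 := by
      rintro r ⟨u, hu, eu⟩
      refine Subtype.ext (Units.ext (Matrix.ext_iff_mulVec.mpr fun x => ?_))
      rw [Subgroup.coe_mul, Units.val_mul, eu, Subgroup.coe_one, Units.val_one, Matrix.one_mulVec,
        ← Matrix.mulVec_mulVec, Cfsg.Agent.Lib.Forms.reflectionMatrix_mulVec Q u x,
        Cfsg.Agent.Lib.Forms.reflectionMatrix_mulVec, ← Cfsg.Agent.Lib.Forms.reflEquiv_apply hu,
        ← Cfsg.Agent.Lib.Forms.reflEquiv_apply hu]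
      exact (Cfsg.Agent.Lib.Forms.reflEquiv Q hu).left_inv x
    have hstep : ∀ r ∈ S, ∀ y, (y ∈ K ∨ ∃ s ∈ S, s * y ∈ K) → (r * y ∈ K ∨ ∃ s ∈ S, s * (r * y) ∈ K) := by
      rintro r hr y (hy | ⟨s, hs, hy⟩)
      · exact Or.inr ⟨r, hr, by rw [← mul_assoc, hinvol r hr, one_mul]; exact hy⟩
      · refine Or.inl ?_
        have : r * y = (r * s) * (s * y) := by rw [mul_assoc, ← mul_assoc s, hinvol s hs, one_mul]
        rw [this]; exact mul_mem (hss r hr s hs) hy
    have hdetg := (hmemSO g).mp hg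
    have hP : g ∈ K ∨ ∃ s ∈ S, s * g ∈ K := by
      clear hdetg hg
      induction hgS using Subgroup.closure_induction_left with
      | one => exact Or.inl (one_mem _)
      | mul_left r hr y _ hy => exact hstep r hr y hy
      | inv_mul_cancel r hr y _ hy =>
        rw [inv_eq_of_mul_eq_one_right (hinvol r hr)]
        exact hstep r hr y hy
    rcases hP with h | ⟨s, ⟨u, hu, eu⟩, hsg⟩
    · exact h
    · exfalso
      have := hKdet _ hsg
      rw [Subgroup.coe_mul, Units.val_mul, Matrix.det_mul, hdetg, eu,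
        Cfsg.Agent.Lib.Forms.det_reflectionMatrix Q hu] at this
      exact h2 (by linear_combination -this)
  · refine (Subgroup.closure_le _).mpr ?_
    rintro x ⟨u, v, hu, hv, e⟩
    rw [SetLike.mem_coe, hmemSO, e, Matrix.det_mul, Cfsg.Agent.Lib.Forms.det_reflectionMatrix Q hu,
      Cfsg.Agent.Lib.Forms.det_reflectionMatrix Q hv]
    ring

end Cfsg.Agent.S0792
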