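import Cfsg.Statements.S0794
import Mathlib
import Cfsg.Agent.Lib.Forms.Parity
-- import your own Cfsg.Agent.* helpers here

set_option autoImplicit false
open Cfsg

namespace Cfsg.Agent.S0794

/-- For q odd, n ≥ 5 and Q with non-degenerate polar form: an isometry whose matrix is a Siegel transformation T_(u,v)(c) (u, v singular and orthogonal) is a commutator in the isometry group, so lies in Ω. -/
theorem result {F : Type*} [Field F] [Fintype F] (h2 : (2 : F) ≠ 0) {n : ℕ} (hn : 5 ≤ n) (Q : QuadraticForm F (Fin n → F)) (hQ : (QuadraticMap.polarBilin Q).Nondegenerate) (u v : Fin n → F) (hu : Q u = 0) (hv : Q v = 0) (huv : QuadraticMap.polar ⇑Q u v = 0) (c : F) (g : ↥(Cfsg.isometryGroup F ⇑Q)) (hg : ((g : Matrix.GeneralLinearGroup (Fin n) F) : Matrix (Fin n) (Fin n) F) = Cfsg.siegelMatrix ⇑Q u v c) : g ∈ commutatorSet ↥(Cfsg.isometryGroup F ⇑Q) ∧ g ∈ Cfsg.Omega F ⇑Q := by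
  classical
  suffices hcm : g ∈ commutatorSet ↥(Cfsg.isometryGroup F ⇑Q) by
    refine ⟨hcm, ?_⟩
    obtain ⟨a, b, rfl⟩ := hcm
    exact Subgroup.commutator_mem_commutator (Subgroup.mem_top a) (Subgroup.mem_top b)
  by_cases hind : LinearIndependent F ![u, v]
  · have h := Cfsg.Agent.Lib.Forms.IsGoodForm.of_quadratic hQ
    have hvu : v ∉ F ∙ u := by
      intro hm
      obtain ⟨k, hk⟩ := Submodule.mem_span_singleton.mp hm
      have := LinearIndependent.pair_iff.mp hind k (-1) (by simp [hk])
      exact one_ne_zero (neg_eq_zero.mp this.2)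
    obtain ⟨w, hw, -, hwv⟩ := h.exists_sep hvu
    have hwu : QuadraticMap.polar Q w u = 0 := hw u (Submodule.mem_span_singleton_self u)
    simp only [QuadraticMap.polarBilin_apply_apply] at hwv
    set v' := w + (-Q w) • v with hv'
    have hQv' : Q v' = 0 := by rw [hv', Cfsg.Agent.Lib.Forms.quad_add_smul, hv, hwv]; ring
    have hvv : QuadraticMap.polar Q v v = 0 := by rw [QuadraticMap.polar_self, hv, smul_zero]
    have hvv' : QuadraticMap.polar Q v v' = 1 := by
      rw [hv', QuadraticMap.polar_add_right, QuadraticMap.polar_smul_right, QuadraticMap.polar_comm, hwv, hvv]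
      simp
    have hv'u : QuadraticMap.polar Q v' u = 0 := by
      rw [hv', QuadraticMap.polar_add_left, QuadraticMap.polar_smul_left, hwu, QuadraticMap.polar_comm Q v u, huv]
      simp
    set h0 := Cfsg.Agent.Lib.Forms.pairScaling (σ := RingHom.id F) (QuadraticMap.polarBilin Q) v v'
      (((-1 : F) - 1) * 1) ((-1 : F) - 1) with hh0
    have hh0Q : ∀ x, Q (h0 x) = Q x :=
      Cfsg.Agent.Lib.Forms.pairScaling_preserves_quad (by ring) hv hQv' hvv'
    obtain ⟨e, he, heQ⟩ := Cfsg.Agent.Lib.Forms.exists_equiv_of_preserves_quad hQ h0 hh0Q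
    let H := Cfsg.Agent.Lib.Forms.isoMk e heQ
    have hS : ∀ d x, Q ((Cfsg.siegelMatrix (⇑Q) u v d).mulVec x) = Q x := by
      intro d x
      rw [Cfsg.Agent.Lib.Forms.siegelMatrix_mulVec, sub_eq_add_neg, ← neg_smul,
        Cfsg.Agent.Lib.Forms.quad_add_smul, Cfsg.Agent.Lib.Forms.quad_add_smul, QuadraticMap.polar_add_left,
        QuadraticMap.polar_smul_left, hu, hv, QuadraticMap.polar_comm (⇑Q) v u, huv,
        QuadraticMap.polar_comm (⇑Q) x v, QuadraticMap.polar_comm (⇑Q) x u, smul_eq_mul]
      ring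
    let S := fun d : F => Cfsg.Agent.Lib.Forms.eichlerMap (σ := RingHom.id F) (QuadraticMap.polarBilin Q) u (d • v) (-1) 0
    have hSQ : ∀ d x, Q (S d x) = Q x := by
      intro d x
      have h0' : Q (d • v) = 0 := by simp [QuadraticMap.map_smul, hv]
      have := Cfsg.Agent.Lib.Forms.eichlerMap_preserves_quad (Q := Q) hu
        (a := d • v) (by rw [QuadraticMap.polar_smul_left, QuadraticMap.polar_comm, huv, smul_zero]) x
      rwa [h0', neg_zero] at this
    obtain ⟨T, hT, hTQ⟩ := Cfsg.Agent.Lib.Forms.exists_equiv_of_preserves_quad hQ (S (c / 2)) (hSQ _)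
    let K := Cfsg.Agent.Lib.Forms.isoMk T hTQ
    refine ⟨H, K, ?_⟩
    have key : g * (K * H) = H * K := by
      refine Cfsg.Agent.Lib.Forms.isoToEquiv_injective _ (LinearEquiv.ext fun x => ?_)
      simp only [map_mul, LinearEquiv.mul_apply, K, H, Cfsg.Agent.Lib.Forms.isoToEquiv_isoMk, he, hT,
        Cfsg.Agent.Lib.Forms.isoToEquiv_apply, hg, S, hh0, Cfsg.Agent.Lib.Forms.siegelMatrix_mulVec,
        Cfsg.Agent.Lib.Forms.pairScaling_apply, Cfsg.Agent.Lib.Forms.eichlerMap_apply,
        QuadraticMap.polarBilin_apply_apply]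
      have huu : QuadraticMap.polar Q u u = 0 := by rw [QuadraticMap.polar_self, hu, smul_zero]
      have hv'v' : QuadraticMap.polar Q v' v' = 0 := by rw [QuadraticMap.polar_self, hQv', smul_zero]
      have hvu' : QuadraticMap.polar Q v u = 0 := by rw [QuadraticMap.polar_comm, huv]
      have huv' : QuadraticMap.polar Q u v' = 0 := by rw [QuadraticMap.polar_comm, hv'u]
      have hv'v : QuadraticMap.polar Q v' v = 1 := by rw [QuadraticMap.polar_comm, hvv']
      simp only [QuadraticMap.polar_add_right, QuadraticMap.polar_smul_right, QuadraticMap.polar_smul_left, huu,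
        hvv, hv'v', hvu', huv, huv', hvv', hv'v, hv'u, smul_eq_mul]
      match_scalars <;> field_simp <;> ring
    rw [commutatorElement_def, eq_comm, eq_mul_inv_iff_mul_eq, eq_mul_inv_iff_mul_eq, mul_assoc]
    exact key
  · have : g = 1 := by
      refine Subtype.ext (Units.ext ?_)
      rw [hg, Subgroup.coe_one, Units.val_one]
      refine Matrix.ext_iff_mulVec.mpr fun x => ?_
      rw [Cfsg.Agent.Lib.Forms.siegelMatrix_mulVec, Matrix.one_mulVec]
      rw [LinearIndependent.pair_iff] at hind
      push Not at hind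
      obtain ⟨s, t, hst, hne⟩ := hind
      by_cases ht : t = 0
      · subst ht
        have hs : s ≠ 0 := fun e => hne e rfl
        have hu0 : u = 0 := by simpa [hs] using hst
        simp [hu0]
      · have hv0 : v = (-s / t) • u := by
          have h1 : t • v = -(s • u) := eq_neg_of_add_eq_zero_right hst
          rw [div_eq_inv_mul, ← smul_smul, neg_smul, ← h1, smul_smul, inv_mul_cancel₀ ht, one_smul]
        rw [hv0, QuadraticMap.polar_smul_left, smul_eq_mul]
        match_scalars <;> ring
    rw [this]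
    exact ⟨1, 1, by simp [commutatorElement_def]⟩

end Cfsg.Agent.S0794
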