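import Mathlib
import Cfsg.Statements.S0796

set_option autoImplicit false
open Cfsg

namespace Cfsg.Agent.S0796

/-- If G is finite and acts faithfully and primitively on X, H is the stabiliser of a point, A is a normal subgroup of H whose normal closure in G is G, then for every non-trivial normal subgroup K of G the quotient G ⧸ K is isomorphic to A ⧸ B for some normal subgroup B of A. -/
theorem result {G X : Type*} [Group G] [Finite G] [MulAction G X] [FaithfulSMul G X] (hprim : MulAction.IsPreprimitive G X) (x : X) (A : Subgroup G) (hA : A ≤ MulAction.stabilizer G x) (hAn : (A.subgroupOf (MulAction.stabilizer G x)).Normal) (hgen : Subgroup.normalClosure (A : Set G) = ⊤) (K : Subgroup G) [K.Normal] (hK : K ≠ ⊥) : ∃ (B : Subgroup A) (_ : B.Normal), Nonempty (G ⧸ K ≃* A ⧸ B) := by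
  classical
  have hn : ∀ h ∈ MulAction.stabilizer G x, ∀ a ∈ A, h * a * h⁻¹ ∈ A := by
    intro h hh a ha
    have := hAn.conj_mem ⟨a, hA ha⟩ (Subgroup.mem_subgroupOf.2 ha) ⟨h, hh⟩
    simpa [Subgroup.mem_subgroupOf] using this
  -- `K` is transitive
  have htrans : ∀ g : G, ∃ k ∈ K, k • x = g • x := by
    have hfix : MulAction.fixedPoints K X ≠ ⊤ := by
      intro h
      apply hK
      rw [eq_bot_iff]
      intro k hk
      refine Subgroup.mem_bot.2 (eq_of_smul_eq_smul (α := X) fun y => ?_)
      have : y ∈ MulAction.fixedPoints K X := by rw [h]; trivial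
      rw [one_smul]
      exact this ⟨k, hk⟩
    haveI := hprim.toIsPretransitive
    haveI := hprim.isQuasiPreprimitive
    haveI : MulAction.IsPretransitive K X :=
      MulAction.IsQuasiPreprimitive.isPretransitive_of_normal hfix
    intro g
    obtain ⟨k, hk⟩ := MulAction.exists_smul_eq K x (g • x)
    exact ⟨k, k.2, hk⟩
  let f : A →* G ⧸ K := (QuotientGroup.mk' K).comp A.subtype
  have hsurj : Function.Surjective f := by
    have hnorm : (A ⊔ K).Normal := by
      refine ⟨fun y hy g => ?_⟩
      obtain ⟨k, hk, hkx⟩ := htrans g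
      have hh : k⁻¹ * g ∈ MulAction.stabilizer G x := by
        rw [MulAction.mem_stabilizer_iff, mul_smul, ← hkx, inv_smul_smul]
      obtain ⟨a, ha, b, hb, rfl⟩ := Subgroup.mem_sup_of_normal_right.1 hy
      have e : g * (a * b) * g⁻¹ =
          k * ((k⁻¹ * g) * a * (k⁻¹ * g)⁻¹) * k⁻¹ * (g * b * g⁻¹) := by group
      rw [e]
      exact mul_mem (mul_mem (mul_mem (Subgroup.mem_sup_right hk)
        (Subgroup.mem_sup_left (hn _ hh a ha))) (inv_mem (Subgroup.mem_sup_right hk)))
        (Subgroup.mem_sup_right (Subgroup.Normal.conj_mem inferInstance b hb g))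
    intro q
    obtain ⟨g, rfl⟩ := QuotientGroup.mk'_surjective K q
    have hg : g ∈ A ⊔ K := by
      have h : Subgroup.normalClosure (A : Set G) ≤ A ⊔ K :=
        Subgroup.normalClosure_le_normal (fun a ha => Subgroup.mem_sup_left ha)
      exact h (hgen ▸ trivial)
    obtain ⟨a, ha, b, hb, rfl⟩ := Subgroup.mem_sup_of_normal_right.1 hg
    refine ⟨⟨a, ha⟩, ?_⟩
    show QuotientGroup.mk' K a = QuotientGroup.mk' K (a * b)
    rw [map_mul, show QuotientGroup.mk' K b = 1 from (QuotientGroup.eq_one_iff b).2 hb, mul_one]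
  exact ⟨f.ker, inferInstance, ⟨(QuotientGroup.quotientKerEquivOfSurjective f hsurj).symm⟩⟩

end Cfsg.Agent.S0796
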