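import Cfsg.Statements.S0799
import Mathlib
import Cfsg.Agent.Lib.SL2.Dickson

set_option autoImplicit false
open Cfsg

namespace Cfsg.Agent.S0799

open Cfsg.Agent.Lib.SL2

/-- Dickson's classification of the subgroups of PSL_2(q), q a power of the prime p, d = gcd(2, q − 1): every subgroup H is (a) cyclic or dihedral with k dividing (q+1)/d or (q−1)/d (cyclic of order k, or dihedral of order 2k), (b) isomorphic to a subgroup of the normaliser of a Sylow p-subgroup, (c) isomorphic to A_4, S_4 or A_5, or (d) isomorphic to PSL_2(K) or PGL_2(K) for a finite field K with |K|^m = q. -/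
theorem result {F : Type*} [Field F] [Fintype F] {q : ℕ} (hF : Fintype.card F = q) (p : ℕ) [Fact p.Prime] [CharP F p] (H : Subgroup (Matrix.ProjectiveSpecialLinearGroup (Fin 2) F)) : (∃ k : ℕ, (k ∣ (q + 1) / Nat.gcd 2 (q - 1) ∨ k ∣ (q - 1) / Nat.gcd 2 (q - 1)) ∧ ((IsCyclic H ∧ Nat.card H = k) ∨ Nonempty (H ≃* DihedralGroup k))) ∨ (∃ (P : Sylow p (Matrix.ProjectiveSpecialLinearGroup (Fin 2) F)) (K : Subgroup (Matrix.ProjectiveSpecialLinearGroup (Fin 2) F)), K ≤ Subgroup.normalizer ((P : Subgroup (Matrix.ProjectiveSpecialLinearGroup (Fin 2) F)) : Set (Matrix.ProjectiveSpecialLinearGroup (Fin 2) F)) ∧ Nonempty (H ≃* K)) ∨ Nonempty (H ≃* alternatingGroup (Fin 4)) ∨ Nonempty (H ≃* Equiv.Perm (Fin 4)) ∨ Nonempty (H ≃* alternatingGroup (Fin 5)) ∨ (∃ (K : Type) (_ : Field K) (_ : Fintype K) (m : ℕ), Fintype.card K ^ m = q ∧ (Nonempty (H ≃* Matrix.ProjectiveSpecialLinearGroup (Fin 2) K) ∨ Nonempty (H ≃* Matrix.ProjGenLinGroup (Fin 2) K))) := by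
  classical
  subst hF
  rcases dickson p H with h | ⟨A, hA, -, h⟩ | ⟨x, hx, hx1, h⟩ | h | ⟨K, δ, -, h⟩
  · subst h
    exact Or.inl ⟨1, Or.inl (one_dvd _), Or.inl ⟨inferInstance, Subgroup.card_bot⟩⟩
  · exact Or.inl ⟨Nat.card A, hA.card_dvd.symm, h.imp id id⟩
  · exact Or.inr (Or.inl ⟨torusSylow p hx hx1, H, h, ⟨MulEquiv.refl H⟩⟩)
  · rcases h with h | h | h
    · exact Or.inr (Or.inr (Or.inl h))
    · exact Or.inr (Or.inr (Or.inr (Or.inl h)))
    · exact Or.inr (Or.inr (Or.inr (Or.inr (Or.inl h))))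
  · refine Or.inr (Or.inr (Or.inr (Or.inr (Or.inr ?_))))
    obtain ⟨L, hL, hLf, hLc, ⟨e⟩⟩ := exists_field_type_zero K
    refine ⟨L, hL, hLf, Module.finrank K F, ?_, ?_⟩
    · rw [hLc]; exact Module.card_eq_pow_finrank.symm
    · let eH := (H.equivMapOfInjective _ Matrix.ProjectiveSpecialLinearGroup.toPGL_injective)
      rcases h with h | h
      · exact Or.inr ⟨eH.trans ((MulEquiv.subgroupCongr h).trans (((glMap K).range.equivMapOfInjective
          (MulAut.conj δ).toMonoidHom (MulEquiv.injective _)).symm.trans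
            ((rangeGlMapEquiv K).trans (pglCongr e))))⟩
      · exact Or.inl ⟨eH.trans ((MulEquiv.subgroupCongr h).trans (((slMap K).range.equivMapOfInjective
          (MulAut.conj δ).toMonoidHom (MulEquiv.injective _)).symm.trans
            ((rangeSlMapEquiv K).trans (pslCongr e))))⟩

end Cfsg.Agent.S0799
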