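import Cfsg.Statements.S0802
import Mathlib
import Cfsg.Agent.Lib.SL2.SmallExist
-- import your own Cfsg.Agent.* helpers here

set_option autoImplicit false
open Cfsg

namespace Cfsg.Agent.S0802

open Cfsg.Agent.Lib.SL2

/-- PSL_2(p^n) has a subgroup isomorphic to A_4 if and only if it is not the case that p = 2 and n is odd. -/
theorem result {F : Type*} [Field F] [Fintype F] (p n : ℕ) [Fact p.Prime] [CharP F p] (hF : Fintype.card F = p ^ n) : (∃ H : Subgroup (Matrix.ProjectiveSpecialLinearGroup (Fin 2) F), Nonempty (H ≃* alternatingGroup (Fin 4))) ↔ ¬ (p = 2 ∧ Odd n) := by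
  classical
  constructor
  · rintro ⟨H, ⟨i⟩⟩ ⟨rfl, hn⟩
    -- an involution `x` of the normal four-group: `H` normalises its unipotent torus
    have hc : Nat.card H = 12 := (Nat.card_congr i.toEquiv).trans natCard_A4
    have hH12 : ∀ a b : alternatingGroup (Fin 4), a ^ 2 = 1 → (b * a * b⁻¹) * a = a * (b * a * b⁻¹) := by
      decide +kernel
    obtain ⟨a, ha, ha1⟩ : ∃ a : alternatingGroup (Fin 4), a ^ 2 = 1 ∧ a ≠ 1 := by decide +kernel
    set x : PSLtwo F := ((i.symm a : H) : PSLtwo F) with hx
    have hx1 : x ≠ 1 := fun e => ha1 (by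
      have : i.symm a = 1 := Subtype.ext e
      simpa using congrArg i this)
    have hxx : x * x = 1 := by
      rw [hx, ← Subgroup.coe_mul, ← sq, ← map_pow, ha, map_one, Subgroup.coe_one]
    have hu : IsUnip x := by
      rcases semi_or_unip x with h | h
      · exfalso
        have hd : orderOf x ∣ 2 := orderOf_dvd_of_pow_eq_one (by rw [sq, hxx])
        have h2 : orderOf x = 2 := by
          rcases (Nat.dvd_prime Nat.prime_two).1 hd with e | e
          exacts [absurd (orderOf_eq_one_iff.1 e) hx1, e]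
        have hcop := coprime_card_torus_semi 2 h
        have : 2 ∣ Nat.card (torus x) := by
          have h' := orderOf_dvd_natCard (⟨x, mem_torus_self x⟩ : torus x)
          rwa [Subgroup.orderOf_mk, h2] at h'
        exact Nat.prime_two.not_dvd_one (hcop ▸ Nat.dvd_gcd this dvd_rfl)
      · exact h
    have hle : H ≤ Subgroup.normalizer ((torus x : Subgroup (PSLtwo F)) : Set (PSLtwo F)) := by
      intro y hy
      rw [mem_normalizer_torus_iff hx1]
      have h := congrArg (fun w => ((i.symm w : H) : PSLtwo F)) (hH12 a (i ⟨y, hy⟩) ha)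
      simp only [map_mul, map_inv, MulEquiv.symm_apply_apply, Subgroup.coe_mul,
        Subgroup.coe_inv] at h
      exact mem_torus_of_commute_unip hu h
    have hd := Subgroup.card_dvd_of_le hle
    rw [hc, card_normalizer_torus_unip hu hx1, card_borelPSL, hF] at hd
    obtain ⟨k, rfl⟩ := hn
    have h3 : 3 ∣ (2 ^ (2 * k + 1) - 1) * 2 ^ (2 * k + 1) :=
      (Dvd.intro 4 rfl : 3 ∣ 12).trans (hd.trans (Nat.div_dvd_of_dvd
        ((Nat.gcd_dvd_right _ _).trans (dvd_mul_right _ _))))
    rcases (Nat.prime_three.dvd_mul.1 h3).symm with h | h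
    · exact absurd (Nat.prime_three.dvd_of_dvd_pow h) (by norm_num)
    · have h4 : 2 ^ (2 * k) % 3 = 1 := by rw [pow_mul, Nat.pow_mod]; simp
      have h5 : 1 ≤ 2 ^ (2 * k) := Nat.one_le_two_pow
      rw [pow_succ] at h
      omega
  · intro h
    by_cases hp : p = 2
    · subst hp
      have hn : Even n := by
        rcases Nat.even_or_odd n with e | e
        exacts [e, absurd ⟨rfl, e⟩ h]
      obtain ⟨K, _, hK⟩ := exists_subfield_four hF hn
      obtain ⟨e⟩ := borel_four_iso hK
      obtain ⟨H, ⟨i⟩⟩ := exists_iso_of_subfield (borelPSL (F := K))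
      exact ⟨H, ⟨i.trans e⟩⟩
    · refine exists_A4_odd ?_
      rw [hF, Nat.pow_mod, (Fact.out : p.Prime).eq_two_or_odd.resolve_left hp]
      simp

end Cfsg.Agent.S0802
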