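import Cfsg.Statements.S0803
import Mathlib
import Cfsg.Agent.Lib.SL2.SmallExist
-- import your own Cfsg.Agent.* helpers here

set_option autoImplicit false
open Cfsg

namespace Cfsg.Agent.S0803

open Cfsg.Agent.Lib.SL2

/-- PSL_2(q) has a subgroup isomorphic to S_4 iff q² ≡ 1 (mod 16). -/
theorem result {F : Type*} [Field F] [Fintype F] {q : ℕ} (hF : Fintype.card F = q) : (∃ H : Subgroup (Matrix.ProjectiveSpecialLinearGroup (Fin 2) F), Nonempty (H ≃* Equiv.Perm (Fin 4))) ↔ q ^ 2 % 16 = 1 := by
  subst hF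
  constructor
  · rintro ⟨H, ⟨i⟩⟩
    have hd := Subgroup.card_subgroup_dvd_card H
    rw [(Nat.card_congr i.toEquiv).trans natCard_S4] at hd
    have hG := card_PSL_mul (F := F)
    rcases Nat.mod_two_eq_zero_or_one (Fintype.card F) with h2 | h2
    · exfalso
      -- characteristic two: no element of order four
      obtain ⟨p, hp, hpc⟩ : ∃ p, p.Prime ∧ CharP F p :=
        ⟨ringChar F, CharP.char_is_prime F _, ringChar.charP F⟩
      have : Fact p.Prime := ⟨hp⟩
      obtain ⟨n, -, hn⟩ := FiniteField.card F p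
      have hp2 : p = 2 := by
        rcases hp.eq_two_or_odd with e | e
        · exact e
        · exfalso; rw [hn, Nat.pow_mod, e] at h2; simp at h2
      subst hp2
      obtain ⟨a, ha, ha2⟩ : ∃ a : Equiv.Perm (Fin 4), a ^ 4 = 1 ∧ a ^ 2 ≠ 1 := by decide +kernel
      have ho : orderOf ((i.symm a : H) : PSLtwo F) = 4 := by
        rw [Subgroup.orderOf_coe, MulEquiv.orderOf_eq]
        exact orderOf_eq_prime_pow (p := 2) (n := 1) (by simpa using ha2) (by simpa using ha)
      generalize ((i.symm a : H) : PSLtwo F) = x at ho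
      obtain ⟨g, rfl⟩ := proj_surjective x
      rcases semi_or_unip (proj g) with h | h
      · have hcop := coprime_card_torus_semi 2 h
        have h4 : 4 ∣ Nat.card (torus (proj g)) :=
          ho ▸ Subgroup.orderOf_mk (proj g) (mem_torus_self _) ▸ orderOf_dvd_natCard _
        exact Nat.prime_two.not_dvd_one
          (hcop ▸ Nat.dvd_gcd ((Dvd.intro 2 rfl).trans h4) dvd_rfl)
      · obtain ⟨g', hg', ht⟩ := h
        have h22 : proj g ^ 2 = 1 := by
          rw [← hg', ← map_pow, pow_char_of_tr_two 2 ht, map_one]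
        have := orderOf_dvd_of_pow_eq_one h22
        rw [ho] at this
        omega
    · rw [Nat.gcd_eq_left (by omega)] at hG
      obtain ⟨c, hc⟩ := hd
      obtain ⟨t, ht⟩ : ∃ t, Fintype.card F = 2 * t + 1 := ⟨Fintype.card F / 2, by omega⟩
      rw [hc, ht] at hG
      rw [show (2 * t + 1) ^ 2 - 1 = 4 * (t * t + t) from Nat.sub_eq_of_eq_add (by ring)] at hG
      have h48 : 12 * c = (2 * t + 1) * (t * t + t) := by nlinarith
      rw [ht, show (2 * t + 1) ^ 2 = 4 * (t * t + t) + 1 by ring]
      have h4 : 4 ∣ (2 * t + 1) * (t * t + t) := h48 ▸ (Dvd.intro (3 * c) (by ring))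
      have hcop : Nat.Coprime 4 (2 * t + 1) := by
        have : Nat.Coprime 2 (2 * t + 1) := by simp [Nat.coprime_mul_left_add_right]
        exact this.pow_left 2
      have := hcop.dvd_of_dvd_mul_left h4
      omega
  · intro h
    refine exists_S4 ?_
    obtain ⟨t, r, hr, ht⟩ : ∃ t r, r < 8 ∧ Fintype.card F = 8 * t + r :=
      ⟨Fintype.card F / 8, Fintype.card F % 8, Nat.mod_lt _ (by norm_num), (Nat.div_add_mod _ _).symm⟩
    rw [ht, show (8 * t + r) ^ 2 = 16 * (4 * t * t + t * r) + r ^ 2 by ring,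
      Nat.mul_add_mod] at h
    rw [ht]
    interval_cases r <;> omega

end Cfsg.Agent.S0803
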