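import Cfsg.Statements.S0804
import Mathlib
import Cfsg.Agent.Lib.SL2.SmallExist
-- import your own Cfsg.Agent.* helpers here

set_option autoImplicit false
open Cfsg

namespace Cfsg.Agent.S0804

open Cfsg.Agent.Lib.SL2

/-- PSL_2(q) has a subgroup isomorphic to A_5 iff 5 ∣ q(q² − 1). -/
theorem result {F : Type*} [Field F] [Fintype F] {q : ℕ} (hF : Fintype.card F = q) : (∃ H : Subgroup (Matrix.ProjectiveSpecialLinearGroup (Fin 2) F), Nonempty (H ≃* alternatingGroup (Fin 5))) ↔ 5 ∣ q * (q ^ 2 - 1) := by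
  subst hF
  constructor
  · rintro ⟨H, ⟨i⟩⟩
    have hd := Subgroup.card_subgroup_dvd_card H
    rw [(Nat.card_congr i.toEquiv).trans natCard_A5] at hd
    rw [← card_PSL_mul]
    exact ((Dvd.intro 12 rfl : 5 ∣ 60).trans hd).mul_right _
  · intro h
    have hq5 : Fintype.card F % 5 = 0 ∨ Fintype.card F % 5 = 1 ∨ Fintype.card F % 5 = 4 := by
      rcases (Nat.prime_five).dvd_mul.1 h with h' | h'
      · exact Or.inl (Nat.mod_eq_zero_of_dvd h')
      · obtain ⟨t, r, hr, ht⟩ : ∃ t r, r < 5 ∧ Fintype.card F = 5 * t + r :=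
          ⟨Fintype.card F / 5, Fintype.card F % 5, Nat.mod_lt _ (by norm_num),
            (Nat.div_add_mod _ _).symm⟩
        have h1 : 1 ≤ Fintype.card F ^ 2 := Nat.one_le_pow _ _ Fintype.card_pos
        rw [ht, show (5 * t + r) ^ 2 = 5 * (5 * t * t + 2 * t * r) + r ^ 2 by ring] at h' h1
        rw [ht]
        interval_cases r <;> omega
    obtain ⟨p, hp, hpc⟩ : ∃ p, p.Prime ∧ CharP F p :=
      ⟨ringChar F, CharP.char_is_prime F _, ringChar.charP F⟩
    have : Fact p.Prime := ⟨hp⟩
    obtain ⟨n, -, hn⟩ := FiniteField.card F p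
    by_cases hp2 : p = 2
    · subst hp2
      have he : Even (n : ℕ) := by
        rcases Nat.even_or_odd (n : ℕ) with e | ⟨k, hk⟩
        · exact e
        · exfalso
          rw [hn, hk, pow_succ, pow_mul, Nat.mul_mod, Nat.pow_mod] at hq5
          rcases Nat.even_or_odd k with ⟨j, rfl⟩ | ⟨j, rfl⟩
          · norm_num [← two_mul, pow_mul, Nat.pow_mod] at hq5
          · norm_num [pow_succ, pow_mul, Nat.pow_mod, Nat.mul_mod] at hq5
      obtain ⟨K, _, hK⟩ := exists_subfield_four hn he
      obtain ⟨e⟩ := psl_four_iso hK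
      obtain ⟨H, ⟨i⟩⟩ := exists_iso_of_subfield (⊤ : Subgroup (PSLtwo K))
      exact ⟨H, ⟨i.trans (Subgroup.topEquiv.trans e)⟩⟩
    · have hodd : Fintype.card F % 2 = 1 := by
        rw [hn, Nat.pow_mod, hp.eq_two_or_odd.resolve_left hp2]; simp
      refine exists_A5_odd hodd ?_
      have hchar : ringChar F ≠ 2 := by rwa [ringChar.eq F p]
      have : Fact (Nat.Prime 5) := ⟨Nat.prime_five⟩
      rcases hq5 with h0 | h14
      · have h50 : ((5 : ℕ) : F) = 0 := by
          have h5p : 5 ∣ p := Nat.prime_five.dvd_of_dvd_pow (hn ▸ Nat.dvd_of_mod_eq_zero h0)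
          rw [CharP.cast_eq_zero_iff F p, (Nat.prime_dvd_prime_iff_eq Nat.prime_five hp).1 h5p]
        exact ⟨0, by simpa using h50⟩
      · have key : IsSquare ((5 : ℕ) : F) := by
          rw [FiniteField.isSquare_odd_prime_iff hchar (by norm_num)]
          have hc : (Fintype.card F : ZMod 5) = ((Fintype.card F % 5 : ℕ) : ZMod 5) :=
            (ZMod.natCast_mod _ _).symm
          rcases (show Fintype.card F % 4 = 1 ∨ Fintype.card F % 4 = 3 by omega) with h4 | h4
          · rw [ZMod.χ₄_nat_one_mod_four h4]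
            rcases h14 with e | e <;>
              rw [hc, e, Ne, quadraticChar_neg_one_iff_not_isSquare, not_not] <;>
              first
                | exact ⟨1, by rfl⟩
                | exact ⟨2, by rfl⟩
          · rw [ZMod.χ₄_nat_three_mod_four h4]
            rcases h14 with e | e <;>
              rw [hc, e, Ne, quadraticChar_neg_one_iff_not_isSquare, not_not] <;>
              first
                | exact ⟨1, by rfl⟩
                | exact ⟨2, by rfl⟩
        simpa using key

end Cfsg.Agent.S0804
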