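import Cfsg.Statements.S0805
import Mathlib
import Cfsg.Agent.Lib.SL2.FieldEmbed
import Cfsg.Agent.Lib.LinGroup.Order
-- import your own Cfsg.Agent.* helpers here

set_option autoImplicit false
open Cfsg

namespace Cfsg.Agent.S0805

open Cfsg.Agent.Lib.SL2

/-- Subfield subgroups: let F be a finite field of odd order q and K a finite field with |K|^m = q, m ≥ 1. Then PSL_2(F) has a subgroup isomorphic to PSL_2(K), and has a subgroup isomorphic to PGL_2(K) if and only if m is even. -/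
theorem result {F K : Type*} [Field F] [Fintype F] [Field K] [Fintype K] {q : ℕ} (hF : Fintype.card F = q) (hodd : Odd q) (m : ℕ) (hm : 1 ≤ m) (hK : Fintype.card K ^ m = q) : (∃ H : Subgroup (Matrix.ProjectiveSpecialLinearGroup (Fin 2) F), Nonempty (H ≃* Matrix.ProjectiveSpecialLinearGroup (Fin 2) K)) ∧ ((∃ H : Subgroup (Matrix.ProjectiveSpecialLinearGroup (Fin 2) F), Nonempty (H ≃* Matrix.ProjGenLinGroup (Fin 2) K)) ↔ Even m) := by
  classical
  subst hF
  obtain ⟨K', ⟨e⟩⟩ := exists_subfield_of_card_pow K F (by omega) hK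
  have hK' : Fintype.card K' = Fintype.card K := (Fintype.card_congr e.toEquiv).symm
  refine ⟨?_, ?_, ?_⟩
  · obtain ⟨H, -, ⟨i⟩⟩ := exists_comap_iso (slMap_range_le K')
    exact ⟨H, ⟨i.trans ((rangeSlMapEquiv K').trans (pslCongr e.symm))⟩⟩
  · rintro ⟨H, ⟨i⟩⟩
    by_contra hm2
    rw [Nat.not_even_iff_odd] at hm2
    have h1 := Subgroup.card_subgroup_dvd_card H
    rw [Nat.card_congr i.toEquiv, Cfsg.Agent.Lib.LinGroup.card_PGL_eq_card_SL, card_SLtwo] at h1
    have h2 := card_PSL_mul (F := F)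
    rw [Nat.gcd_eq_left (Nat.dvd_of_mod_eq_zero (n := Fintype.card F - 1) (by
      obtain ⟨t, ht⟩ := hodd; omega))] at h2
    have h3 : Fintype.card K * (Fintype.card K ^ 2 - 1) * 2 ∣
        Fintype.card F * (Fintype.card F ^ 2 - 1) := h2 ▸ Nat.mul_dvd_mul_right h1 2
    set k := Fintype.card K with hk
    have hk1 : 1 < k := Fintype.one_lt_card
    have hS : k ^ (2 * m) - 1 = (k ^ 2 - 1) * ∑ i ∈ Finset.range m, (k ^ 2) ^ i := by
      have h := geom_sum_mul_add (k ^ 2 - 1) m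
      rw [Nat.sub_add_cancel (Nat.one_le_pow _ _ (by omega)), ← pow_mul] at h
      rw [mul_comm (k ^ 2 - 1)]; omega
    have hko : Odd k := by
      rw [← hK] at hodd
      exact (Nat.odd_pow_iff (by omega)).1 hodd
    have hSo : Odd (∑ i ∈ Finset.range m, (k ^ 2) ^ i) := by
      rw [Finset.odd_sum_iff_odd_card_odd, Finset.filter_true_of_mem (fun i _ => (hko.pow).pow),
        Finset.card_range]
      exact hm2
    rw [← hK, ← pow_mul, mul_comm m 2, hS] at h3
    have h4 : Odd (k ^ m * ∑ i ∈ Finset.range m, (k ^ 2) ^ i) := hko.pow.mul hSo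
    have h5 : k * (2 * (k ^ 2 - 1)) ∣ (k ^ m * ∑ i ∈ Finset.range m, (k ^ 2) ^ i) * (k ^ 2 - 1) := by
      calc k * (2 * (k ^ 2 - 1)) = k * (k ^ 2 - 1) * 2 := by ring
        _ ∣ k ^ m * ((k ^ 2 - 1) * ∑ i ∈ Finset.range m, (k ^ 2) ^ i) := h3
        _ = _ := by ring
    have hk2 : 0 < k ^ 2 - 1 := by
      have : 1 < k ^ 2 := Nat.one_lt_pow two_ne_zero hk1
      omega
    have h6 : 2 ∣ k ^ m * ∑ i ∈ Finset.range m, (k ^ 2) ^ i :=
      Nat.dvd_of_mul_dvd_mul_right hk2 ((Dvd.intro_left _ rfl).trans h5)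
    exact Nat.not_even_iff_odd.2 h4 (even_iff_two_dvd.2 h6)
  · rintro ⟨j, rfl⟩
    have hj : Fintype.card K' ^ (2 * j) = Fintype.card F := by rw [hK', two_mul, hK]
    obtain ⟨H, -, ⟨i⟩⟩ := exists_comap_iso (glMap_range_le K' (isSquare_of_even_degree K' hj))
    exact ⟨H, ⟨i.trans ((rangeGlMapEquiv K').trans (pglCongr e.symm))⟩⟩

end Cfsg.Agent.S0805
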