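import Cfsg.Statements.S0809
import Mathlib
import Cfsg.Agent.Lib.SL2.NormalizerSL
import Cfsg.Agent.Lib.SL2.SmallConj
-- import your own Cfsg.Agent.* helpers here

set_option autoImplicit false
open Cfsg

namespace Cfsg.Agent.S0809

open Cfsg.Agent.Lib.SL2

/-- In SL_2(q), q odd: any two subgroups of order 4 are conjugate, and the normaliser of a subgroup of order 4 has order 2(q − 1) if q ≡ 1 (mod 4) and 2(q + 1) if q ≡ 3 (mod 4); consequently all involutions of PSL_2(q) are conjugate. -/
theorem result {F : Type*} [Field F] [Fintype F] {q : ℕ} (hF : Fintype.card F = q) (hodd : Odd q) (A : Subgroup (Matrix.SpecialLinearGroup (Fin 2) F)) (hA : Nat.card A = 4) : (∀ B : Subgroup (Matrix.SpecialLinearGroup (Fin 2) F), Nat.card B = 4 → ∃ g : Matrix.SpecialLinearGroup (Fin 2) F, B = A.map (MulAut.conj g).toMonoidHom) ∧ (q % 4 = 1 → Nat.card ↥(Subgroup.normalizer (A : Set (Matrix.SpecialLinearGroup (Fin 2) F))) = 2 * (q - 1)) ∧ (q % 4 = 3 → Nat.card ↥(Subgroup.normalizer (A : Set (Matrix.SpecialLinearGroup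 (Fin 2) F))) = 2 * (q + 1)) ∧ (∀ x y : Matrix.ProjectiveSpecialLinearGroup (Fin 2) F, orderOf x = 2 → orderOf y = 2 → IsConj x y) := by
  classical
  subst hF
  have h2 : (2 : F) ≠ 0 := two_ne_zero_iff_odd.2 hodd
  have hsemi : ∀ g : SLtwo F, tr g = 0 → IsElliptic g ∨ IsSplit g := fun g hg =>
    elliptic_or_split_of_tr ⟨by rw [hg]; exact h2.symm, by rw [hg]; exact fun e => h2 (by linear_combination e)⟩
  have hinv : ∀ x : PSLtwo F, orderOf x = 2 → ∀ g : SLtwo F, proj g = x → tr g = 0 := by
    intro x hx g hg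
    have hne : proj g ≠ 1 := fun e => by rw [hg] at e; rw [e, orderOf_one] at hx; omega
    refine (tr_of_pow hne).1 ?_
    have h := pow_orderOf_eq_one x
    rw [hx, sq, ← hg] at h
    exact h
  have hgen : ∀ B : Subgroup (SLtwo F), Nat.card B = 4 →
      ∃ g : SLtwo F, tr g = 0 ∧ B = Subgroup.zpowers g := by
    intro B hB
    have hnc : ¬ B ≤ Subgroup.center (SLtwo F) := fun h => by
      have := Nat.le_of_dvd Nat.card_pos (Subgroup.card_dvd_of_le h)
      rw [hB, card_center_odd h2] at this
      omega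
    obtain ⟨g, hgB, hgc⟩ := SetLike.not_le_iff_exists.1 hnc
    have hd : orderOf g ∣ 2 ^ 2 := by
      rw [← Subgroup.orderOf_mk g hgB, show (2 : ℕ) ^ 2 = Nat.card B by rw [hB]; norm_num]; exact orderOf_dvd_natCard _
    have h4 : g ^ 4 = 1 := orderOf_dvd_iff_pow_eq_one.1 (by simpa using hd)
    obtain ⟨k, hk, hko⟩ := (Nat.dvd_prime_pow Nat.prime_two).1 hd
    have hk2 : k = 2 := by
      by_contra hne
      have hgg : g ^ 2 = 1 := orderOf_dvd_iff_pow_eq_one.1 (by rw [hko]; exact pow_dvd_pow 2 (show k ≤ 1 by omega) |>.trans (by simp))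
      have ch := cayley_hamilton g
      rw [← Matrix.SpecialLinearGroup.coe_mul, ← sq, hgg, Matrix.SpecialLinearGroup.coe_one] at ch
      have e00 := congrFun (congrFun ch 0) 0
      have e01 := congrFun (congrFun ch 0) 1
      have e10 := congrFun (congrFun ch 1) 0
      have e11 := congrFun (congrFun ch 1) 1
      have htn : tr g ≠ 0 := fun htn => by
        rw [htn] at e00; simp at e00
        exact h2 (by linear_combination e00)
      simp [htn] at e00 e01 e10 e11
      exact hgc ((mem_center_iff_entries g).2 ⟨e01, e10, mul_left_cancel₀ htn (by linear_combination e11 - e00)⟩)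
    subst hk2
    refine ⟨g, ?_, (Subgroup.eq_of_le_of_card_ge (Subgroup.zpowers_le.2 hgB)
      (by rw [Nat.card_zpowers, hko, hB]; norm_num)).symm⟩
    have hne : proj g ≠ 1 := fun e => hgc (proj_eq_one_iff.1 e)
    refine (tr_of_pow hne).1 ?_
    have hsq : (g ^ 2) * (g ^ 2) = 1 := by rw [← pow_add]; exact h4
    rw [← map_mul, proj_eq_one_iff, ← sq]
    have ch := cayley_hamilton (g ^ 2)
    rw [← Matrix.SpecialLinearGroup.coe_mul, hsq, Matrix.SpecialLinearGroup.coe_one] at ch
    rw [mem_center_iff_entries]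
    have e00 := congrFun (congrFun ch 0) 0
    have e01 := congrFun (congrFun ch 0) 1
    have e10 := congrFun (congrFun ch 1) 0
    have e11 := congrFun (congrFun ch 1) 1
    have htn : tr (g ^ 2) ≠ 0 := fun htn => by
      rw [htn] at e00; simp at e00
      exact h2 (by linear_combination e00)
    simp only [Matrix.sub_apply, Matrix.smul_apply, Matrix.one_apply, smul_eq_mul, Fin.isValue,
      zero_ne_one, one_ne_zero, if_false, if_true, sub_zero] at e00 e01 e10 e11
    exact ⟨(mul_eq_zero.1 e01.symm).resolve_left htn, (mul_eq_zero.1 e10.symm).resolve_left htn,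
      mul_left_cancel₀ htn (by linear_combination e11 - e00)⟩
  obtain ⟨g, hg, rfl⟩ := hgen A hA
  refine ⟨fun B hB => ?_, ?_⟩
  · obtain ⟨h, hh, rfl⟩ := hgen B hB
    obtain ⟨c, hc⟩ := isConj_iff.1 (isConj_of_tr_eq (hsemi g hg) (hg.trans hh.symm))
    exact ⟨c, by rw [MonoidHom.map_zpowers]; simp [hc]⟩
  have hgc : g ∉ Subgroup.center (SLtwo F) :=
    (hsemi g hg).elim IsElliptic.notMem_center IsSplit.notMem_center
  have hgg : g * g = -1 := by
    refine Subtype.ext ?_
    have ch := cayley_hamilton g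
    rw [hg, zero_smul, zero_sub] at ch
    simpa using ch
  obtain ⟨hNc, -, -⟩ := normalizer_centralizer_facts h2 (hsemi g hg)
  -- the normaliser of `A` is that of the torus
  have hNeq : Subgroup.normalizer ((Subgroup.zpowers g : Subgroup (SLtwo F)) : Set (SLtwo F)) =
      Subgroup.normalizer ((Subgroup.centralizer ({g} : Set (SLtwo F))) : Set (SLtwo F)) := by
    have hgC : g ∈ Subgroup.centralizer ({g} : Set (SLtwo F)) :=
      Subgroup.mem_centralizer_singleton_iff.2 rfl
    ext n
    constructor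
    · intro hn
      rw [normalizer_centralizer_eq, Subgroup.mem_comap,
        mem_normalizer_torus_iff (fun e => hgc (proj_eq_one_iff.1 e)), ← map_inv, ← map_mul,
        ← map_mul, proj_mem_torus_iff]
      exact Subgroup.zpowers_le.2 hgC ((Subgroup.mem_normalizer_iff.1 hn g).1 (Subgroup.mem_zpowers g))
    · intro hn
      have hm : n * g * n⁻¹ ∈ Subgroup.centralizer ({g} : Set (SLtwo F)) :=
        (Subgroup.mem_normalizer_iff.1 hn g).1 hgC
      have hcase := eq_or_eq_inv_of_tr ((hsemi g hg).elim IsElliptic.tr_ne IsSplit.tr_ne) hm (tr_conj g n)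
      rw [Subgroup.mem_normalizer_iff]
      intro x
      have hconj : ∀ z : ℤ, n * g ^ z * n⁻¹ = (n * g * n⁻¹) ^ z := fun z => (conj_zpow).symm
      constructor
      · rintro ⟨z, rfl⟩
        show n * g ^ z * n⁻¹ ∈ _
        rw [hconj]
        refine Subgroup.zpow_mem _ ?_ _
        rcases hcase with e | e <;> rw [e]
        exacts [Subgroup.mem_zpowers g, Subgroup.inv_mem _ (Subgroup.mem_zpowers g)]
      · rintro ⟨z, hz⟩
        change g ^ z = n * x * n⁻¹ at hz
        have hx : x = n⁻¹ * g ^ z * n := by rw [hz]; group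
        rcases hcase with e | e
        · refine ⟨z, ?_⟩
          show g ^ z = x
          conv_rhs => rw [hx, ← e, conj_zpow]
          group
        · refine ⟨-z, ?_⟩
          show g ^ (-z) = x
          have hgz : g ^ z = n * g ^ (-z) * n⁻¹ := by rw [hconj, e, inv_zpow', neg_neg]
          rw [hx, hgz]; group
  have hd4 : 4 ∣ Nat.card (Subgroup.centralizer ({g} : Set (SLtwo F))) := by
    rw [← hA]; exact Subgroup.card_dvd_of_le (Subgroup.zpowers_le.2 (Subgroup.mem_centralizer_singleton_iff.2 rfl))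
  refine ⟨fun hq => ?_, fun hq => ?_, fun x y hx hy => ?_⟩
  · rw [hNeq, hNc]
    rcases hsemi g hg with h | h
    · rw [card_centralizer_elliptic h] at hd4; omega
    · rw [card_centralizer_split h]
  · rw [hNeq, hNc]
    rcases hsemi g hg with h | h
    · rw [card_centralizer_elliptic h]
    · rw [card_centralizer_split h] at hd4; omega
  · obtain ⟨u, rfl⟩ := proj_surjective x
    obtain ⟨v, rfl⟩ := proj_surjective y
    have hu := hinv _ hx u rfl
    exact (proj).map_isConj (isConj_of_tr_eq (hsemi u hu) (hu.trans (hinv _ hy v rfl).symm))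

end Cfsg.Agent.S0809
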