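import Cfsg.Statements.S0810
import Mathlib
import Cfsg.Agent.Lib.SL2.Solvable
-- import your own Cfsg.Agent.* helpers here

set_option autoImplicit false
open Cfsg

namespace Cfsg.Agent.S0810

open Cfsg.Agent.Lib.SL2

/-- PSL_2(q) is minimal simple iff q is 2^r (r prime), 3^r (r an odd prime), a prime greater than 5 congruent to 2 or 3 mod 5, or 5. -/
theorem result {F : Type*} [Field F] [Fintype F] {q : ℕ} (hF : Fintype.card F = q) : Cfsg.IsMinimalSimple (Matrix.ProjectiveSpecialLinearGroup (Fin 2) F) ↔ ((∃ r : ℕ, r.Prime ∧ q = 2 ^ r) ∨ (∃ r : ℕ, r.Prime ∧ r ≠ 2 ∧ q = 3 ^ r) ∨ (q.Prime ∧ 5 < q ∧ (q % 5 = 2 ∨ q % 5 = 3)) ∨ q = 5) := by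
  classical
  subst hF
  obtain ⟨p, hp, hpc⟩ : ∃ p, p.Prime ∧ CharP F p :=
    ⟨ringChar F, CharP.char_is_prime F _, ringChar.charP F⟩
  have : Fact p.Prime := ⟨hp⟩
  obtain ⟨n, -, hn⟩ := FiniteField.card F p
  have hn0 := n.pos
  have hsub : ∀ d, d ∣ (n : ℕ) → d < (n : ℕ) → 4 ≤ p ^ d →
      ∃ H : Subgroup (PSLtwo F), H ≠ ⊤ ∧ ¬ Group.IsSolvable H := by
    rintro d ⟨m, hm⟩ hdn h4
    obtain ⟨L, _, hL⟩ := exists_prime_subfield p hn
    have hLq : Nat.card L ^ (n : ℕ) = Fintype.card F := by rw [Nat.card_eq_fintype_card, hL, hn]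
    obtain ⟨K, -, hK⟩ := exists_subfield_between L hLq (r := d) ⟨m, hm⟩ (by omega)
    rw [Nat.card_eq_fintype_card (α := L), hL] at hK
    have hm2 : 2 ≤ m := by
      rcases (show m = 0 ∨ m = 1 ∨ 2 ≤ m by omega) with rfl | rfl | h <;> omega
    exact exists_nonsolvable_of_subfield (K := K) (m := m) (by omega) hm2
      (by rw [hK, ← pow_mul, ← hm, hn])
  constructor
  · rintro ⟨hs, hnc, hall⟩
    have hno : ¬ ∃ H : Subgroup (PSLtwo F), H ≠ ⊤ ∧ ¬ Group.IsSolvable H :=
      fun ⟨H, h1, h2⟩ => h2 (hall H h1)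
    have h4 : 4 ≤ Fintype.card F := by
      by_contra hlt
      have hq : Fintype.card F = 2 ∨ Fintype.card F = 3 := by
        have := Fintype.one_lt_card (α := F); omega
      have hsol : Group.IsSolvable (PSLtwo F) := by
        rcases hq with e | e
        · exact isSolvable_of_card_two_three (a := 1) (b := 1) (by rw [card_PSL, e]; rfl)
        · exact isSolvable_of_card_two_three (a := 2) (b := 1) (by rw [card_PSL, e]; rfl)
      exact hnc ⟨⟨IsSimpleGroup.comm_iff_isSolvable.2 hsol⟩⟩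
    by_cases hp2 : p = 2
    · left
      refine ⟨n, ?_, hp2 ▸ hn⟩
      by_contra hnp
      have hn2 : 2 ≤ (n : ℕ) := by
        by_contra h
        rw [hn, hp2, show (n : ℕ) = 1 by omega] at h4
        omega
      obtain ⟨d, hd, hd2, hdn⟩ := Nat.exists_dvd_of_not_prime2 hn2 hnp
      exact hno (hsub d hd hdn (le_trans (by norm_num) (Nat.pow_le_pow_right hp.pos hd2 |> fun h =>
        show 2 ^ 2 ≤ p ^ d from hp2 ▸ Nat.pow_le_pow_right two_pos hd2)))
    have hodd : Fintype.card F % 2 = 1 := by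
      rw [hn, Nat.pow_mod, hp.eq_two_or_odd.resolve_left hp2]; simp
    have hA5 : 7 ≤ Fintype.card F → ¬ (Fintype.card F % 5 = 0 ∨ Fintype.card F % 5 = 1 ∨
        Fintype.card F % 5 = 4) := fun h7 h5 => hno (exists_nonsolvable_of_A5 hodd h7 h5)
    rcases (show (n : ℕ) = 1 ∨ 2 ≤ (n : ℕ) by omega) with h1 | h1
    · right; right
      rw [h1, pow_one] at hn
      rw [hn] at hA5 h4 hodd ⊢
      rcases (show p = 5 ∨ 7 ≤ p by omega) with e | e
      · exact Or.inr e
      · exact Or.inl ⟨hp, by omega, by have := hA5 e; omega⟩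
    · right; left
      have hp3 : p = 3 := by
        by_contra h3
        have := hp.two_le
        rcases (show p = 4 ∨ 5 ≤ p by omega) with e | e
        · subst e; norm_num at hp
        · exact hno (hsub 1 (one_dvd _) (by omega) (by rw [pow_one]; omega))
      subst hp3
      have h7 : 7 ≤ Fintype.card F := by
        rw [hn]; exact le_trans (by norm_num) (Nat.pow_le_pow_right (by norm_num) h1)
      have hno2 : ¬ 2 ∣ (n : ℕ) := by
        rintro ⟨j, hj⟩
        refine hA5 h7 ?_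
        rw [hn, hj, pow_mul, Nat.pow_mod]
        rcases Nat.even_or_odd j with ⟨i, rfl⟩ | ⟨i, rfl⟩ <;>
          norm_num [← two_mul, pow_succ, pow_mul, Nat.pow_mod, Nat.mul_mod]
      refine ⟨n, ?_, fun e => hno2 (e ▸ dvd_rfl), hn⟩
      by_contra hnp
      obtain ⟨d, hd, hd2, hdn⟩ := Nat.exists_dvd_of_not_prime2 h1 hnp
      exact hno (hsub d hd hdn (le_trans (by norm_num) (Nat.pow_le_pow_right (by norm_num) hd2)))
  · intro h
    have h4 : 4 ≤ Fintype.card F := by
      rcases h with ⟨r, hr, e⟩ | ⟨r, hr, -, e⟩ | ⟨-, e, -⟩ | e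
      · rw [e]; exact le_trans (by norm_num) (Nat.pow_le_pow_right two_pos hr.two_le)
      · rw [e]; exact le_trans (by norm_num) (Nat.pow_le_pow_right (by norm_num) hr.two_le)
      · omega
      · omega
    refine ⟨Cfsg.Agent.Lib.LinGroup.isSimpleGroup_PSL_fin le_rfl
      (fun _ => by rw [Nat.card_eq_fintype_card]; exact h4),
      fun hc => proj_upper_lower_ne (hc.is_comm.comm _ _), fun H hH => ?_⟩
    have hshape : (∃ r, r.Prime ∧ p = 2 ∧ (n : ℕ) = r) ∨ (∃ r, r.Prime ∧ r ≠ 2 ∧ p = 3 ∧ (n : ℕ) = r) ∨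
        ((n : ℕ) = 1 ∧ (p = 5 ∨ (5 < p ∧ (p % 5 = 2 ∨ p % 5 = 3)))) := by
      have key : ∀ b r, b.Prime → 0 < r → Fintype.card F = b ^ r → p = b ∧ (n : ℕ) = r := by
        intro b r hb hr0 e
        have e' : p = b := (Nat.prime_dvd_prime_iff_eq hp hb).1
          (hp.dvd_of_dvd_pow (e ▸ hn ▸ dvd_pow_self p n.ne_zero))
        exact ⟨e', Nat.pow_right_injective hp.two_le (hn.symm.trans (e' ▸ e))⟩
      rcases h with ⟨r, hr, e⟩ | ⟨r, hr, hr2, e⟩ | ⟨hq, hq5, hm⟩ | e
      · exact Or.inl ⟨r, hr, key 2 r Nat.prime_two hr.pos e⟩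
      · exact Or.inr (Or.inl ⟨r, hr, hr2, key 3 r Nat.prime_three hr.pos e⟩)
      · obtain ⟨e1, e2⟩ := key _ 1 hq one_pos (pow_one _).symm
        exact Or.inr (Or.inr ⟨e2, Or.inr ⟨by omega, by omega⟩⟩)
      · obtain ⟨e1, e2⟩ := key 5 1 Nat.prime_five one_pos (e.trans (pow_one _).symm)
        exact Or.inr (Or.inr ⟨e2, Or.inl e1⟩)
    rcases isSolvable_or p H with hs | ⟨⟨i⟩⟩ | ⟨K, δ, hK, hH'⟩
    · exact hs
    · exfalso
      have hc := (Nat.card_congr i.toEquiv).trans natCard_A5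
      have hdvd : 60 ∣ Nat.card (PSLtwo F) := hc ▸ Subgroup.card_subgroup_dvd_card H
      have h60 : Nat.card (PSLtwo F) = 60 → False := fun e =>
        hH (Subgroup.eq_top_of_card_eq _ (hc.trans e.symm))
      have h5d : 5 ∣ Fintype.card F * (Fintype.card F ^ 2 - 1) := by
        rw [← card_PSL_mul]; exact ((Dvd.intro 12 rfl : 5 ∣ 60).trans hdvd).mul_right _
      rcases hshape with ⟨r, hr, hp2, hnr⟩ | ⟨r, hr, hr2, hp3, hnr⟩ | ⟨h1, hp5⟩
      · subst hp2
        obtain ⟨K, δ, hK, hKH⟩ := A5_char_two i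
        obtain ⟨m, hm⟩ : ∃ m, Nat.card K ^ m = Fintype.card F :=
          ⟨Module.finrank K F, by rw [Nat.card_eq_fintype_card]; exact Module.card_eq_pow_finrank.symm⟩
        rw [hK, hn, hnr, show (4 : ℕ) = 2 ^ 2 by norm_num, ← pow_mul] at hm
        have h2m := Nat.pow_right_injective le_rfl hm
        have : r = 2 := ((Nat.prime_dvd_prime_iff_eq Nat.prime_two hr).1 (Dvd.intro m h2m)).symm
        refine h60 ?_
        rw [card_PSL, hn, hnr, this]
        rfl
      · subst hp3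
        have hm5 : Fintype.card F % 5 = 2 ∨ Fintype.card F % 5 = 3 := by
          obtain ⟨j, hj⟩ := hr.odd_of_ne_two hr2
          rw [hn, hnr, hj, pow_succ, pow_mul, Nat.mul_mod, Nat.pow_mod]
          rcases Nat.even_or_odd j with ⟨i, rfl⟩ | ⟨i, rfl⟩ <;>
            norm_num [← two_mul, pow_succ, pow_mul, Nat.pow_mod, Nat.mul_mod]
        obtain ⟨t, r, hr, ht⟩ : ∃ t r, (r = 2 ∨ r = 3) ∧ Fintype.card F = 5 * t + r :=
          ⟨Fintype.card F / 5, Fintype.card F % 5, hm5, (Nat.div_add_mod _ _).symm⟩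
        rcases Nat.prime_five.dvd_mul.1 h5d with h' | h'
        · omega
        · obtain ⟨c, hcc⟩ := h'
          have h1 : 1 ≤ Fintype.card F ^ 2 := Nat.one_le_pow _ _ Fintype.card_pos
          rw [ht, show (5 * t + r) ^ 2 = 5 * (5 * t * t + 2 * t * r) + r ^ 2 by ring] at hcc h1
          rcases hr with rfl | rfl <;> omega
      · rw [h1, pow_one] at hn
        rcases hp5 with e | ⟨-, e⟩
        · exact h60 (by rw [card_PSL, hn, e]; rfl)
        · obtain ⟨t, r, hr, ht⟩ : ∃ t r, (r = 2 ∨ r = 3) ∧ Fintype.card F = 5 * t + r :=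
            ⟨Fintype.card F / 5, Fintype.card F % 5, by rw [hn]; exact e, (Nat.div_add_mod _ _).symm⟩
          rcases Nat.prime_five.dvd_mul.1 h5d with h' | h'
          · omega
          · obtain ⟨c, hcc⟩ := h'
            have h1 : 1 ≤ Fintype.card F ^ 2 := Nat.one_le_pow _ _ Fintype.card_pos
            rw [ht, show (5 * t + r) ^ 2 = 5 * (5 * t * t + 2 * t * r) + r ^ 2 by ring] at hcc h1
            rcases hr with rfl | rfl <;> omega
    · exfalso
      obtain ⟨m, hm0, hm⟩ : ∃ m, 0 < m ∧ Nat.card K ^ m = Fintype.card F :=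
        ⟨Module.finrank K F, Module.finrank_pos,
          by rw [Nat.card_eq_fintype_card]; exact Module.card_eq_pow_finrank.symm⟩
      obtain ⟨a, -, hKa⟩ := (Nat.dvd_prime_pow hp).1 (show Nat.card K ∣ p ^ (n : ℕ) from
        hn ▸ hm ▸ dvd_pow_self _ hm0.ne')
      have ham : a * m = n := Nat.pow_right_injective hp.two_le (by
        show p ^ (a * m) = p ^ (n : ℕ)
        rw [pow_mul, ← hKa, hm, hn])
      have hm1 : m = 1 := by
        rcases hshape with ⟨r, hr, hp2, hnr⟩ | ⟨r, hr, hr2, hp3, hnr⟩ | ⟨h1, -⟩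
        · rcases (Nat.dvd_prime hr).1 (Dvd.intro m (ham.trans hnr)) with rfl | rfl
          · rw [hKa, hp2] at hK; omega
          · exact Nat.eq_of_mul_eq_mul_left hr.pos ((ham.trans hnr).trans (mul_one _).symm)
        · rcases (Nat.dvd_prime hr).1 (Dvd.intro m (ham.trans hnr)) with rfl | rfl
          · rw [hKa, hp3] at hK; omega
          · exact Nat.eq_of_mul_eq_mul_left hr.pos ((ham.trans hnr).trans (mul_one _).symm)
        · exact Nat.eq_one_of_mul_eq_one_left (ham.trans h1)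
      rw [hm1, pow_one] at hm
      refine hH (Subgroup.eq_top_of_le_card _ ?_)
      have hinj := Matrix.ProjectiveSpecialLinearGroup.toPGL_injective (n := Fin 2) (R := F)
      rw [card_PSL, ← Subgroup.card_map_of_injective (K := H) hinj]
      rcases hH' with e | e <;> rw [e, Subgroup.card_map_of_injective (MulEquiv.injective _)]
      · rw [card_glMap_range', hm]; exact Nat.div_le_self _ _
      · rw [card_slMap_range, hm]

end Cfsg.Agent.S0810
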