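import Cfsg.Statements.S0811
import Mathlib
import Cfsg.Agent.Lib.SL2.ToriExist

set_option autoImplicit false
open Cfsg

namespace Cfsg.Agent.S0811

open Cfsg.Agent.Lib.SL2

/-- For q ∉ {2, 7, 9}, PSL_2(q) has a maximal subgroup isomorphic to the dihedral group of order 2(q + 1)/d, d = gcd(2, q − 1). -/
theorem result {F : Type*} [Field F] [Fintype F] {q : ℕ} (hF : Fintype.card F = q) (hq : q ∉ ({2, 7, 9} : Finset ℕ)) : ∃ H : Subgroup (Matrix.ProjectiveSpecialLinearGroup (Fin 2) F), IsCoatom H ∧ Nonempty (H ≃* DihedralGroup ((q + 1) / Nat.gcd 2 (q - 1))) := by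
  classical
  subst hF
  obtain ⟨g, hg⟩ := exists_elliptic (F := F)
  have hx : IsSemi (proj g) := ⟨g, rfl, Or.inl hg⟩
  have hk := card_torus_elliptic hg
  refine ⟨_, ?_, by rw [← hk]; exact normalizer_torus_dihedral hx⟩
  simp only [Finset.mem_insert, Finset.mem_singleton, not_or] at hq
  have hq1 : 1 < Fintype.card F := Fintype.one_lt_card
  have hG := card_PSL_mul (F := F)
  obtain ⟨hd, hpar⟩ : 0 < Nat.gcd 2 (Fintype.card F - 1) ∧
      ((Fintype.card F % 2 = 1 ∧ Nat.gcd 2 (Fintype.card F - 1) = 2) ∨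
        (Fintype.card F % 2 = 0 ∧ Nat.gcd 2 (Fintype.card F - 1) = 1)) := by
    refine ⟨Nat.gcd_pos_of_pos_left _ two_pos, ?_⟩
    rcases Nat.mod_two_eq_zero_or_one (Fintype.card F) with h | h
    · refine Or.inr ⟨h, ?_⟩
      rw [Nat.gcd_rec, show (Fintype.card F - 1) % 2 = 1 by omega]; simp
    · exact Or.inl ⟨h, Nat.gcd_eq_left (by omega)⟩
  set d := Nat.gcd 2 (Fintype.card F - 1) with hdd
  have hsq : Fintype.card F ≤ Fintype.card F ^ 2 := Nat.le_self_pow two_ne_zero _
  by_cases h3 : Fintype.card F = 3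
  · -- `PSL₂(3)` of order 12: the normaliser has order 4
    have hd2 : d = 2 := by rw [hdd, h3]; rfl
    rw [hd2, h3] at hk hG
    have hk' : Nat.card (torus (proj g)) = 2 := hk.trans (by norm_num)
    have hG' : Nat.card (PSLtwo F) = 12 :=
      Nat.eq_of_mul_eq_mul_right two_pos (hG.trans (by norm_num))
    have hNc := normalizer_torus_card hx
    rw [hk'] at hNc
    refine ⟨fun e => ?_, fun M hM => Subgroup.eq_top_of_card_eq _ ?_⟩
    · rw [e, Subgroup.card_top] at hNc; omega
    · obtain ⟨i, hi⟩ := Subgroup.card_dvd_of_le hM.le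
      have hd' := Subgroup.card_subgroup_dvd_card M
      rw [hG'] at hd' ⊢
      rw [hNc] at hi
      have hne : Nat.card M ≠ 4 := fun h => hM.ne
        (Subgroup.eq_of_le_of_card_ge hM.le (by rw [hNc, h]))
      have := Nat.le_of_dvd (by norm_num) hd'
      have hmem : Nat.card M ∈ Nat.divisors 12 := Nat.mem_divisors.2 ⟨hd', by norm_num⟩
      rw [show Nat.divisors 12 = {1, 2, 3, 4, 6, 12} by decide] at hmem
      simp only [Finset.mem_insert, Finset.mem_singleton] at hmem
      rcases hmem with h | h | h | h | h | h <;>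
        first
          | exact h
          | exact absurd h hne
          | (exfalso; have := h.symm.trans hi; omega)
  have hk2 : (Fintype.card F + 1) = Nat.card (torus (proj g)) * d := by
    rw [hk]; exact (Nat.div_mul_cancel (by
      rcases hpar with ⟨h, e⟩ | ⟨h, e⟩ <;> rw [e] <;> omega)).symm
  have hk3 : 3 ≤ Nat.card (torus (proj g)) := by
    rcases hpar with ⟨h, e⟩ | ⟨h, e⟩ <;> rw [e] at hk2 <;> omega
  refine isCoatom_normalizer_torus hx rfl hk3 ?_ ?_ ?_ ?_
  · rw [← hdd, ← hk2]; omega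
  · intro P m hP hm hPm
    have hPP : P * P ≤ Fintype.card F := by
      calc P * P = P ^ 2 := (sq P).symm
        _ ≤ P ^ m := Nat.pow_le_pow_right (by omega) hm
        _ = Fintype.card F := hPm
    have : 3 * P ≤ P * P := Nat.mul_le_mul_right _ hP
    rcases hpar with ⟨h, e⟩ | ⟨h, e⟩ <;> rw [e] at hk2 <;> omega
  · by_cases h8 : 8 ≤ Fintype.card F
    · left
      rcases hpar with ⟨h, e⟩ | ⟨h, e⟩ <;> rw [e] at hk2 <;> omega
    · right
      have hpp : IsPrimePow (Fintype.card F) := FiniteField.isPrimePow_card F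
      rw [isPrimePow_nat_iff_bounded] at hpp
      have h45 : Fintype.card F = 4 ∨ Fintype.card F = 5 := by
        clear hG hk2 hk hsq hdd hpar
        revert hpp hq h3
        generalize Fintype.card F = q at hq1 h8 ⊢
        interval_cases q <;> decide
      rcases h45 with e | e
      · have : d = 1 := by rw [hdd, e]; rfl
        rw [this, e] at hG
        norm_num [-Nat.card_eq_fintype_card] at hG
        exact hG
      · have : d = 2 := by rw [hdd, e]; rfl
        rw [this, e] at hG
        exact Nat.eq_of_mul_eq_mul_right two_pos (hG.trans (by norm_num))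
  · have hd2 : d ≤ 2 := by rcases hpar with ⟨-, e⟩ | ⟨-, e⟩ <;> omega
    by_contra hle
    push Not at hle
    have h1 := Nat.mul_le_mul_right d hle
    rw [hG, mul_assoc, ← hk2] at h1
    obtain ⟨i, hi⟩ := Nat.exists_eq_add_of_le (show 4 ≤ Fintype.card F by omega)
    rw [hi, show (4 + i) ^ 2 = (15 + 8 * i + i * i) + 1 by ring, Nat.add_sub_cancel] at h1
    nlinarith

end Cfsg.Agent.S0811
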