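import Cfsg.Statements.S0812
import Mathlib
import Cfsg.Agent.Lib.SL2.ToriExist

set_option autoImplicit false
open Cfsg

namespace Cfsg.Agent.S0812

open Cfsg.Agent.Lib.SL2

/-- For q ∉ {2, 3, 5, 7, 9, 11}, PSL_2(q) has a maximal subgroup isomorphic to the dihedral group of order 2(q − 1)/d, d = gcd(2, q − 1). -/
theorem result {F : Type*} [Field F] [Fintype F] {q : ℕ} (hF : Fintype.card F = q) (hq : q ∉ ({2, 3, 5, 7, 9, 11} : Finset ℕ)) : ∃ H : Subgroup (Matrix.ProjectiveSpecialLinearGroup (Fin 2) F), IsCoatom H ∧ Nonempty (H ≃* DihedralGroup ((q - 1) / Nat.gcd 2 (q - 1))) := by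
  classical
  subst hF
  simp only [Finset.mem_insert, Finset.mem_singleton, not_or] at hq
  have hq1 : 1 < Fintype.card F := Fintype.one_lt_card
  obtain ⟨g, hg⟩ := exists_split (F := F) (by omega)
  have hx : IsSemi (proj g) := ⟨g, rfl, Or.inr hg⟩
  have hk := card_torus_split hg
  refine ⟨_, ?_, by rw [← hk]; exact normalizer_torus_dihedral hx⟩
  have hG := card_PSL_mul (F := F)
  obtain ⟨hd, hpar⟩ : 0 < Nat.gcd 2 (Fintype.card F - 1) ∧
      ((Fintype.card F % 2 = 1 ∧ Nat.gcd 2 (Fintype.card F - 1) = 2) ∨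
        (Fintype.card F % 2 = 0 ∧ Nat.gcd 2 (Fintype.card F - 1) = 1)) := by
    refine ⟨Nat.gcd_pos_of_pos_left _ two_pos, ?_⟩
    rcases Nat.mod_two_eq_zero_or_one (Fintype.card F) with h | h
    · refine Or.inr ⟨h, ?_⟩
      rw [Nat.gcd_rec, show (Fintype.card F - 1) % 2 = 1 by omega]; simp
    · exact Or.inl ⟨h, Nat.gcd_eq_left (by omega)⟩
  set d := Nat.gcd 2 (Fintype.card F - 1) with hdd
  have hk2 : (Fintype.card F - 1) = Nat.card (torus (proj g)) * d := by
    rw [hk]; exact (Nat.div_mul_cancel (by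
      rcases hpar with ⟨h, e⟩ | ⟨h, e⟩ <;> rw [e] <;> omega)).symm
  have hsize : Fintype.card F = 4 ∨ Fintype.card F = 8 ∨ 13 ≤ Fintype.card F := by
    by_cases h13 : 13 ≤ Fintype.card F
    · omega
    have hpp : IsPrimePow (Fintype.card F) := FiniteField.isPrimePow_card F
    rw [isPrimePow_nat_iff_bounded] at hpp
    clear hG hk2 hk hdd hpar
    revert hpp hq
    generalize Fintype.card F = q at hq1 h13 ⊢
    interval_cases q <;> decide
  have hk3 : 3 ≤ Nat.card (torus (proj g)) := by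
    rcases hpar with ⟨h, e⟩ | ⟨h, e⟩ <;> rw [e] at hk2 <;> omega
  refine isCoatom_normalizer_torus hx rfl hk3 ?_ ?_ ?_ ?_
  · rw [← hdd, ← hk2]; omega
  · intro P m hP hm hPm
    have hPP : P * P ≤ Fintype.card F := by
      calc P * P = P ^ 2 := (sq P).symm
        _ ≤ P ^ m := Nat.pow_le_pow_right (by omega) hm
        _ = Fintype.card F := hPm
    have : 3 * P ≤ P * P := Nat.mul_le_mul_right _ hP
    rcases Nat.lt_or_ge P 4 with h4 | h4
    · rcases hpar with ⟨h, e⟩ | ⟨h, e⟩ <;> rw [e] at hk2 <;> omega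
    · have : 4 * P ≤ P * P := Nat.mul_le_mul_right _ h4
      rcases hpar with ⟨h, e⟩ | ⟨h, e⟩ <;> rw [e] at hk2 <;> omega
  · rcases hsize with e | e | h13
    · right
      have : d = 1 := by rw [hdd, e]; rfl
      rw [this, e] at hG
      norm_num [-Nat.card_eq_fintype_card] at hG
      exact hG
    · left
      have : d = 1 := by rw [hdd, e]; rfl
      rw [this, e] at hk2
      omega
    · left
      rcases hpar with ⟨h, e⟩ | ⟨h, e⟩ <;> rw [e] at hk2 <;> omega
  · by_contra hle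
    push Not at hle
    have h1 := Nat.mul_le_mul_right d hle
    rw [hG, mul_assoc, ← hk2] at h1
    obtain ⟨i, hi⟩ := Nat.exists_eq_add_of_le (show 4 ≤ Fintype.card F by omega)
    rw [hi, show (4 + i) ^ 2 = (15 + 8 * i + i * i) + 1 by ring, Nat.add_sub_cancel,
      show 4 + i - 1 = 3 + i by omega] at h1
    nlinarith

end Cfsg.Agent.S0812
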