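import Cfsg.Statements.S0819

set_option autoImplicit false
open Cfsg

namespace Cfsg.Agent.S0819

open Matrix

theorem charP_two {F : Type*} [Field F] [Fintype F] (hF : Fintype.card F = 4) : CharP F 2 := by
  obtain ⟨p, hp⟩ := CharP.exists F
  haveI := hp
  obtain ⟨n, hpr, hn⟩ := FiniteField.card F p
  have : p ∣ 2 ^ 2 := by
    rw [show (2 : ℕ) ^ 2 = p ^ (n : ℕ) from by rw [← hn, hF]; norm_num]
    exact dvd_pow_self p n.ne_zero
  rwa [← (Nat.prime_dvd_prime_iff_eq hpr Nat.prime_two).1 (hpr.dvd_of_dvd_pow this)]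

/-- In `SL_3(4)`, an element of 3-power order commuting with one of order 5 is scalar. -/
theorem scalar_of_commute {F : Type*} [Field F] [Fintype F] (hF : Fintype.card F = 4)
    (b c : Matrix.SpecialLinearGroup (Fin 3) F) (hb1 : b ≠ 1) (hb : b ^ 5 = 1) (hc : c ^ 9 = 1)
    (hbc : Commute b c) : ∃ r : F, (c : Matrix (Fin 3) (Fin 3) F) = Matrix.scalar (Fin 3) r := by
  classical
  haveI := charP_two hF
  set B : Matrix (Fin 3) (Fin 3) F := (b : Matrix (Fin 3) (Fin 3) F) with hBdef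
  set C : Matrix (Fin 3) (Fin 3) F := (c : Matrix (Fin 3) (Fin 3) F) with hCdef
  have hB5 : B ^ 5 = 1 := by rw [hBdef, ← Matrix.SpecialLinearGroup.coe_pow, hb, Matrix.SpecialLinearGroup.coe_one]
  have hC9 : C ^ 9 = 1 := by rw [hCdef, ← Matrix.SpecialLinearGroup.coe_pow, hc, Matrix.SpecialLinearGroup.coe_one]
  have hBC : Commute B C := by
    show B * C = C * B
    rw [hBdef, hCdef, ← Matrix.SpecialLinearGroup.coe_mul, hbc.eq, Matrix.SpecialLinearGroup.coe_mul]
  have q4 : ∀ x : F, x ^ 4 = x := fun x => hF ▸ FiniteField.pow_card x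
  have h5 : (5 : F) = 1 := by
    linear_combination (2 : F) * (CharTwo.two_eq_zero : (2 : F) = 0)
  set P := 1 + B + B ^ 2 + B ^ 3 + B ^ 4 with hP
  have hBP : B * P = P := by
    rw [hP, mul_add, mul_add, mul_add, mul_add, mul_one, ← pow_succ', ← pow_succ', ← pow_succ',
      ← pow_two, hB5]
    abel
  have hPfix : ∀ v, B *ᵥ v = v → P *ᵥ v = v := by
    intro v hv
    have h2 : (B ^ 2) *ᵥ v = v := by rw [pow_two, ← mulVec_mulVec, hv, hv]
    have h3 : (B ^ 3) *ᵥ v = v := by rw [pow_succ, ← mulVec_mulVec, hv, h2]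
    have h4 : (B ^ 4) *ᵥ v = v := by rw [pow_succ, ← mulVec_mulVec, hv, h3]
    rw [hP, add_mulVec, add_mulVec, add_mulVec, add_mulVec, one_mulVec, hv, h2, h3, h4]
    funext i
    simp only [Pi.add_apply]
    linear_combination v i * h5
  set V1 := LinearMap.ker (B.mulVecLin - LinearMap.id) with hV1
  set W := LinearMap.ker P.mulVecLin with hW
  have mem1 : ∀ v, v ∈ V1 ↔ B *ᵥ v = v := fun v => by
    rw [hV1, LinearMap.mem_ker, LinearMap.sub_apply, sub_eq_zero, mulVecLin_apply, LinearMap.id_apply]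
  have memW : ∀ v, v ∈ W ↔ P *ᵥ v = 0 := fun v => by rw [hW, LinearMap.mem_ker, mulVecLin_apply]
  have hcompl : IsCompl V1 W := by
    constructor
    · rw [Submodule.disjoint_def]
      intro v h1 h2
      rw [← hPfix v ((mem1 v).1 h1), (memW v).1 h2]
    · rw [codisjoint_iff, eq_top_iff]
      intro v _
      have hfix : B *ᵥ (P *ᵥ v) = P *ᵥ v := by rw [mulVec_mulVec, hBP]
      rw [show v = P *ᵥ v + (v - P *ᵥ v) from (add_sub_cancel _ _).symm]
      exact Submodule.add_mem_sup ((mem1 _).2 hfix)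
        ((memW _).2 (by rw [mulVec_sub, hPfix _ hfix, sub_self]))
  -- no eigenvector in `W`
  have noEig : ∀ w ∈ W, ∀ r : F, B *ᵥ w = r • w → w = 0 := by
    intro w hw r hr
    by_contra hne
    have hn : ∀ n : ℕ, (B ^ n) *ᵥ w = r ^ n • w := by
      intro n
      induction n with
      | zero => simp
      | succ n ih => rw [pow_succ, ← mulVec_mulVec, hr, mulVec_smul, ih, smul_smul, pow_succ']
    have e5 : r ^ 5 = 1 := smul_left_injective F hne (by
      show r ^ 5 • w = (1 : F) • w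
      rw [← hn 5, hB5, one_mulVec, one_smul])
    have er : r ^ 2 = 1 := by rw [← e5, pow_succ r 4, q4, pow_two]
    have e1 : r = 1 := by
      have h := q4 r
      rw [pow_mul r 2 2, er, one_pow] at h
      exact h.symm
    rw [e1, one_smul] at hr
    exact hne (by rw [← hPfix w hr, (memW w).1 hw])
  have hV1ne : V1 ≠ ⊥ := by
    let σ : Equiv.Perm {v : Fin 3 → F // v ≠ 0} :=
      { toFun := fun v => ⟨B *ᵥ v.1, fun h => v.2 (by
          rw [← one_mulVec v.1, ← hB5, pow_succ, ← mulVec_mulVec, h, mulVec_zero])⟩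
        invFun := fun v => ⟨(B ^ 4) *ᵥ v.1, fun h => v.2 (by
          rw [← one_mulVec v.1, ← hB5, pow_succ', ← mulVec_mulVec, h, mulVec_zero])⟩
        left_inv := fun v => Subtype.ext (show (B ^ 4) *ᵥ (B *ᵥ v.1) = v.1 by
          rw [mulVec_mulVec, ← pow_succ, hB5, one_mulVec])
        right_inv := fun v => Subtype.ext (show B *ᵥ ((B ^ 4) *ᵥ v.1) = v.1 by
          rw [mulVec_mulVec, ← pow_succ', hB5, one_mulVec]) }
    haveI : Fact (Nat.Prime 5) := ⟨Nat.prime_five⟩
    have hσn : ∀ (n : ℕ) v, ((σ ^ n) v).1 = (B ^ n) *ᵥ v.1 := by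
      intro n
      induction n with
      | zero => intro v; simp
      | succ n ih =>
        intro v
        rw [pow_succ', Equiv.Perm.mul_apply, show (σ ((σ ^ n) v)).1 = B *ᵥ ((σ ^ n) v).1 from rfl,
          ih, mulVec_mulVec, ← pow_succ']
    have hσ : σ ^ 5 ^ 1 = 1 := Equiv.ext fun v => Subtype.ext (by
      rw [pow_one, hσn, hB5, one_mulVec]; rfl)
    obtain ⟨v, hv⟩ := Equiv.Perm.exists_fixed_point_of_prime (p := 5) (by
      rw [Fintype.card_subtype_compl, Fintype.card_subtype_eq, Fintype.card_pi, Finset.prod_const, hF]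
      norm_num) hσ
    exact Submodule.ne_bot_iff _ |>.2 ⟨v.1, (mem1 _).2 (congrArg Subtype.val hv), v.2⟩
  have hWne : W ≠ ⊥ := by
    intro h
    have ht : V1 = ⊤ := by simpa [h] using hcompl.sup_eq_top
    refine hb1 (Subtype.ext ?_)
    rw [Matrix.SpecialLinearGroup.coe_one, ← hBdef]
    exact Matrix.ext_of_mulVec_single fun i => by rw [(mem1 _).1 (ht ▸ Submodule.mem_top), one_mulVec]
  obtain ⟨u, hu, hu0⟩ := Submodule.ne_bot_iff _ |>.1 hV1ne
  obtain ⟨w, hw, hw0⟩ := Submodule.ne_bot_iff _ |>.1 hWne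
  have hPB : P * B = B * P := by rw [hP]; noncomm_ring
  have hPC : P * C = C * P :=
    (((((Commute.one_left C).add_left hBC).add_left (hBC.pow_left 2)).add_left (hBC.pow_left 3)).add_left
      (hBC.pow_left 4)).eq
  have hBw : B *ᵥ w ∈ W := (memW _).2 (by
    rw [mulVec_mulVec, hPB, ← mulVec_mulVec, (memW w).1 hw, mulVec_zero])
  have hli : LinearIndependent F ![w, B *ᵥ w] :=
    (LinearIndependent.pair_iff' hw0).2 fun a h => hw0 (noEig w hw a h.symm)
  have hle : Submodule.span F (Set.range ![w, B *ᵥ w]) ≤ W := by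
    rw [Submodule.span_le]
    rintro _ ⟨i, rfl⟩
    fin_cases i
    · exact hw
    · exact hBw
  have hfin := Submodule.finrank_add_eq_of_isCompl hcompl
  have h1 : 1 ≤ Module.finrank F V1 := Submodule.one_le_finrank_iff.2 hV1ne
  have h2 : 2 ≤ Module.finrank F W := by
    have := finrank_span_eq_card hli
    rw [Fintype.card_fin] at this
    have := Submodule.finrank_mono hle
    omega
  rw [Module.finrank_fin_fun] at hfin
  have hWspan : Submodule.span F (Set.range ![w, B *ᵥ w]) = W :=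
    Submodule.eq_of_le_of_finrank_eq hle (by rw [finrank_span_eq_card hli, Fintype.card_fin]; omega)
  have hV1span : Submodule.span F {u} = V1 :=
    Submodule.eq_of_le_of_finrank_eq ((Submodule.span_singleton_le_iff_mem _ _).2 hu)
      (by rw [finrank_span_singleton hu0]; omega)
  have hCu : C *ᵥ u ∈ V1 := (mem1 _).2 (by rw [mulVec_mulVec, hBC.eq, ← mulVec_mulVec, (mem1 u).1 hu])
  rw [← hV1span, Submodule.mem_span_singleton] at hCu
  obtain ⟨a, ha⟩ := hCu
  have hCw : C *ᵥ w ∈ W := (memW _).2 (by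
    rw [mulVec_mulVec, hPC, ← mulVec_mulVec, (memW w).1 hw, mulVec_zero])
  rw [← hWspan, Matrix.range_cons, Matrix.range_cons, Matrix.range_empty, Set.union_empty,
    Submodule.span_union, Submodule.mem_sup] at hCw
  obtain ⟨p, hp, q, hq, hpq⟩ := hCw
  rw [Submodule.mem_span_singleton] at hp hq
  obtain ⟨x, rfl⟩ := hp
  obtain ⟨y, rfl⟩ := hq
  set D : Matrix (Fin 3) (Fin 3) F := x • 1 + y • B with hD
  have hDC : Commute D C := ((Commute.one_left C).smul_left x).add_left (hBC.smul_left y)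
  have hCD : ∀ n : ℕ, (C ^ n) *ᵥ w = (D ^ n) *ᵥ w := by
    intro n
    induction n with
    | zero => rfl
    | succ n ih =>
      have e : C *ᵥ w = D *ᵥ w := by rw [hD, add_mulVec, smul_mulVec, smul_mulVec, one_mulVec, hpq]
      calc (C ^ (n + 1)) *ᵥ w = (C ^ n) *ᵥ (D *ᵥ w) := by rw [pow_succ, ← mulVec_mulVec, e]
        _ = D *ᵥ ((C ^ n) *ᵥ w) := by rw [mulVec_mulVec, mulVec_mulVec, (hDC.pow_right n).eq]
        _ = (D ^ (n + 1)) *ᵥ w := by rw [ih, mulVec_mulVec, pow_succ']
  have hfrob : ∀ k : ℕ, D ^ 4 ^ k = x • 1 + y • B ^ 4 ^ k := by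
    intro k
    have hcard : ∀ z : F, z ^ 4 ^ k = z := fun z => hF ▸ FiniteField.pow_card_pow k z
    rw [hD, show (4 : ℕ) ^ k = 2 ^ (2 * k) by rw [pow_mul]; norm_num,
      add_pow_expChar_pow_of_commute 2 _ ((Commute.one_left B).smul_left x |>.smul_right y),
      smul_pow, smul_pow, one_pow, show (2 : ℕ) ^ (2 * k) = 4 ^ k by rw [pow_mul]; norm_num,
      hcard, hcard]
  -- the restriction to `W` is scalar
  have h16 : (C ^ 16) *ᵥ w = C *ᵥ w := by
    rw [hCD 16, show (16 : ℕ) = 4 ^ 2 from rfl, hfrob 2, show (4 : ℕ) ^ 2 = 5 * 3 + 1 from rfl,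
      pow_succ, pow_mul, hB5, one_pow, one_mul, ← hD, ← pow_one C, hCD 1, pow_one]
  have h15 : (C ^ 15) *ᵥ w = w := by
    have := congrArg (fun v => (C ^ 8) *ᵥ v) h16
    simp only [mulVec_mulVec, ← pow_add, ← pow_succ] at this
    rwa [show 8 + 16 = 15 + 9 from rfl, pow_add, hC9, mul_one, one_mulVec] at this
  have h3 : (C ^ 3) *ᵥ w = w := by
    have e : C ^ 3 = C ^ 15 * C ^ 15 := by
      rw [← pow_add, show 15 + 15 = 9 * 3 + 3 from rfl, pow_add, pow_mul, hC9, one_pow, one_mul]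
    rw [e, ← mulVec_mulVec, h15, h15]
  have hy : y = 0 := by
    by_contra hy
    have h4 : (D ^ 4) *ᵥ w = D *ᵥ w := by
      rw [← hCD, ← pow_one D, ← hCD, pow_one, show (4 : ℕ) = 1 + 3 from rfl, pow_add, pow_one,
        ← mulVec_mulVec, h3]
    rw [show (4 : ℕ) = 4 ^ 1 from rfl, hfrob 1, pow_one, hD, add_mulVec, add_mulVec,
      add_left_cancel_iff, smul_mulVec, smul_mulVec] at h4
    have h4' : (B ^ 4) *ᵥ w = B *ᵥ w := smul_right_injective (Fin 3 → F) hy h4
    have h2 : (B ^ 2) *ᵥ w = w := by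
      have := congrArg (fun v => B *ᵥ v) h4'
      simp only [mulVec_mulVec, ← pow_two, ← pow_succ'] at this
      rwa [hB5, one_mulVec, eq_comm] at this
    refine hw0 (noEig w hw 1 ?_)
    have e : B = B ^ 2 * (B ^ 2 * B ^ 2) := by
      rw [← pow_add, ← pow_add, show 2 + (2 + 2) = 5 + 1 from rfl, pow_succ, hB5, one_mul]
    rw [one_smul, e, ← mulVec_mulVec, ← mulVec_mulVec, h2, h2, h2]
  rw [hy, zero_smul, add_zero] at hpq
  have hCBw : C *ᵥ (B *ᵥ w) = x • (B *ᵥ w) := by
    rw [mulVec_mulVec, ← hBC.eq, ← mulVec_mulVec, ← hpq, mulVec_smul]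
  -- basis
  have hli3 : LinearIndependent F ![u, w, B *ᵥ w] :=
    hli.finCons fun hmem => hu0 (Submodule.disjoint_def.1 hcompl.disjoint u hu (hle hmem))
  let bas := basisOfLinearIndependentOfCardEqFinrank hli3 (by rw [Fintype.card_fin, Module.finrank_fin_fun])
  have hbas : ∀ i, bas i = ![u, w, B *ᵥ w] i := fun i => by
    simp only [bas, coe_basisOfLinearIndependentOfCardEqFinrank]
  have hdiag : LinearMap.toMatrix bas bas C.mulVecLin = Matrix.diagonal ![a, x, x] := by
    have hv : ∀ j, C *ᵥ bas j = (![a, x, x] : Fin 3 → F) j • bas j := by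
      intro j
      rw [hbas]
      fin_cases j
      · exact ha.symm
      · exact hpq.symm
      · exact hCBw
    ext i j
    rw [LinearMap.toMatrix_apply, mulVecLin_apply, hv, map_smul, Finsupp.smul_apply, bas.repr_self,
      Finsupp.single_apply, Matrix.diagonal_apply, smul_eq_mul]
    split_ifs with h1 h2 h2
    · rw [h1, mul_one]
    · exact absurd h1.symm h2
    · exact absurd h2.symm h1
    · rw [mul_zero]
  have hdet : a * x * x = 1 := by
    have e := LinearMap.det_toMatrix bas C.mulVecLin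
    rw [hdiag, Matrix.det_diagonal, Fin.prod_univ_three, ← Matrix.toLin'_apply',
      LinearMap.det_toLin', c.2] at e
    exact e
  have hx0 : x ≠ 0 := fun h => by rw [h, mul_zero] at hdet; exact zero_ne_one hdet
  have hx3 : x ^ 3 = 1 := mul_right_cancel₀ hx0 (by rw [← pow_succ, one_mul]; exact q4 x)
  have hax : a = x := by linear_combination (-a) * hx3 + x * hdet
  refine ⟨x, Matrix.ext_of_mulVec_single fun i => ?_⟩
  have hlin : C.mulVecLin = x • LinearMap.id := bas.ext fun j => by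
    rw [hbas, LinearMap.smul_apply, LinearMap.id_apply, mulVecLin_apply]
    fin_cases j
    · exact ha.symm.trans (by rw [hax]; rfl)
    · exact hpq.symm
    · exact hCBw
  have := LinearMap.congr_fun hlin (Pi.single i 1)
  rw [mulVecLin_apply] at this
  rw [this, LinearMap.smul_apply, LinearMap.id_apply, Matrix.scalar_apply]
  funext k
  simp [Matrix.mulVec_diagonal]

/-- No element of PSL_3(4) has order 15. -/
theorem result {F : Type*} [Field F] [Fintype F] (hF : Fintype.card F = 4) (g : Matrix.ProjectiveSpecialLinearGroup (Fin 3) F) : orderOf g ≠ 15 := by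
  intro hg
  obtain ⟨A, rfl⟩ := QuotientGroup.mk_surjective g
  haveI : CharP F 2 := charP_two hF
  have hpow : ∀ n, ((QuotientGroup.mk A : Matrix.ProjectiveSpecialLinearGroup (Fin 3) F) ^ n = 1 ↔ 15 ∣ n) :=
    fun n => hg ▸ orderOf_dvd_iff_pow_eq_one.symm
  have h15 : A ^ 15 ∈ Subgroup.center (Matrix.SpecialLinearGroup (Fin 3) F) := by
    rw [← QuotientGroup.eq_one_iff, QuotientGroup.mk_pow, hpow]
  have h45 : (A ^ 15) ^ 3 = 1 := by
    obtain ⟨r, hr, hrz⟩ := Matrix.SpecialLinearGroup.mem_center_iff.1 h15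
    apply Subtype.ext
    rw [Matrix.SpecialLinearGroup.coe_pow, ← hrz, ← map_pow, Matrix.SpecialLinearGroup.coe_one]
    rw [Fintype.card_fin] at hr
    rw [hr, map_one]
  have hB : A ^ 9 ≠ 1 := fun h => absurd ((hpow 9).1 (by rw [← QuotientGroup.mk_pow, h, QuotientGroup.mk_one]))
    (by norm_num)
  refine absurd ((hpow 5).1 ?_) (by norm_num)
  rw [← QuotientGroup.mk_pow, QuotientGroup.eq_one_iff]
  have hc := scalar_of_commute hF (A ^ 9 : Matrix.SpecialLinearGroup (Fin 3) F) (A ^ 5) hB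
    (by rw [← pow_mul, ← h45, ← pow_mul]) (by rw [← pow_mul, ← h45, ← pow_mul])
    (Commute.pow_pow_self A 9 5)
  obtain ⟨r, hr⟩ := hc
  refine Matrix.SpecialLinearGroup.mem_center_iff.2 ⟨r, ?_, hr.symm⟩
  have := (A ^ 5).2
  rwa [hr, Matrix.scalar_apply, Matrix.det_diagonal, Finset.prod_const, Finset.card_univ] at this

end Cfsg.Agent.S0819
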