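import Cfsg.Agent.Lib.SLTransv.Conj
import Cfsg.Statements.S0820

set_option autoImplicit false
open Cfsg

namespace Cfsg.Agent.S0820

/-- Any two elements of order 2 of PSL_3(4) are conjugate. -/
theorem result {F : Type*} [Field F] [Fintype F] (hF : Fintype.card F = 4) (x y : Matrix.ProjectiveSpecialLinearGroup (Fin 3) F) (hx : orderOf x = 2) (hy : orderOf y = 2) : IsConj x y := by
  classical
  haveI : CharP F 2 := by
    obtain ⟨p, hp⟩ := CharP.exists F
    haveI := hp
    obtain ⟨n, hpr, hn⟩ := FiniteField.card F p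
    have : p ∣ 2 ^ 2 := by
      rw [show (2 : ℕ) ^ 2 = p ^ (n : ℕ) from by rw [← hn, hF]; norm_num]
      exact dvd_pow_self p n.ne_zero
    rwa [← (Nat.prime_dvd_prime_iff_eq hpr Nat.prime_two).1 (hpr.dvd_of_dvd_pow this)]
  -- every involution is the class of one fixed transvection
  suffices key : ∀ x : Matrix.ProjectiveSpecialLinearGroup (Fin 3) F, orderOf x = 2 →
      ∃ g : Matrix.SpecialLinearGroup (Fin 3) F,
        IsConj x (QuotientGroup.mk g) ∧
        (g : Matrix (Fin 3) (Fin 3) F) = 1 + Matrix.single 1 0 1 by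
    obtain ⟨g, hg, hgm⟩ := key x hx
    obtain ⟨g', hg', hgm'⟩ := key y hy
    exact hg.trans ((show g = g' from Subtype.ext (hgm.trans hgm'.symm)) ▸ hg'.symm)
  intro x hx
  obtain ⟨t, rfl⟩ := QuotientGroup.mk_surjective x
  have hsq : t ^ 2 ∈ Subgroup.center (Matrix.SpecialLinearGroup (Fin 3) F) := by
    rw [← QuotientGroup.eq_one_iff, QuotientGroup.mk_pow, ← hx]
    exact pow_orderOf_eq_one _
  have h3 : (t ^ 2) ^ 3 = 1 := by
    obtain ⟨r, hr, hrz⟩ := Matrix.SpecialLinearGroup.mem_center_iff.1 hsq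
    apply Subtype.ext
    rw [Matrix.SpecialLinearGroup.coe_pow, ← hrz, ← map_pow,
      Matrix.SpecialLinearGroup.coe_one]
    rw [Fintype.card_fin] at hr
    rw [hr, map_one]
  set t' := t ^ 3 with ht'
  have hmk : (QuotientGroup.mk t' : Matrix.ProjectiveSpecialLinearGroup (Fin 3) F) =
      QuotientGroup.mk t := by
    rw [ht', pow_succ, QuotientGroup.mk_mul, (QuotientGroup.eq_one_iff _).2 hsq, one_mul]
  have ht2 : t' * t' = 1 := by rw [ht', ← pow_add, ← h3, ← pow_mul]
  have hne : t' ≠ 1 := fun h => by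
    rw [h, QuotientGroup.mk_one] at hmk
    rw [← hmk, orderOf_one] at hx
    exact absurd hx (by norm_num)
  set N : Matrix (Fin 3) (Fin 3) F := (t' : Matrix (Fin 3) (Fin 3) F) - 1 with hN
  have hN2 : N * N = 0 := by
    have h2' : (t' : Matrix (Fin 3) (Fin 3) F) * (t' : Matrix (Fin 3) (Fin 3) F) = 1 := by
      rw [← Matrix.SpecialLinearGroup.coe_mul, ht2, Matrix.SpecialLinearGroup.coe_one]
    rw [hN, sub_mul, mul_sub, mul_one, one_mul, h2']
    ext a b
    simp only [Matrix.sub_apply, Matrix.zero_apply]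
    linear_combination ((1 : Matrix (Fin 3) (Fin 3) F) a b - (t' : Matrix (Fin 3) (Fin 3) F) a b) *
      (CharTwo.two_eq_zero : (2 : F) = 0)
  have htr : Cfsg.IsTransvection (t' : Matrix (Fin 3) (Fin 3) F) := by
    refine ⟨?_, hN2⟩
    have h1 : N.rank + N.rank ≤ 3 := by
      have := Matrix.rank_add_rank_le_card_of_mul_eq_zero hN2
      simpa using this
    have h0 : N.rank ≠ 0 := by
      intro h
      apply hne
      apply Subtype.ext
      rw [Matrix.SpecialLinearGroup.coe_one]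
      refine sub_eq_zero.1 (Matrix.toLin'.injective ?_)
      rw [map_zero, Matrix.toLin'_apply']
      exact LinearMap.range_eq_bot.1 (Submodule.finrank_eq_zero.1 h)
    change N.rank = 1
    omega
  obtain ⟨g, c, hc, h⟩ := Cfsg.Agent.Lib.SLTransv.exists_conj_normal 1
    (t' : Matrix (Fin 3) (Fin 3) F) htr
  refine ⟨g⁻¹ * t' * g, ?_, ?_⟩
  · rw [← hmk]
    refine isConj_iff.2 ⟨QuotientGroup.mk g⁻¹, ?_⟩
    rw [QuotientGroup.mk_mul, QuotientGroup.mk_mul, QuotientGroup.mk_inv, inv_inv]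
  · rw [Matrix.SpecialLinearGroup.coe_mul, Matrix.SpecialLinearGroup.coe_mul, mul_assoc, h,
      ← mul_assoc, ← Matrix.SpecialLinearGroup.coe_mul, inv_mul_cancel,
      Matrix.SpecialLinearGroup.coe_one, one_mul, hc le_rfl]

end Cfsg.Agent.S0820
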