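import Cfsg.Agent.Lib.Orth.Centre
import Cfsg.Agent.Lib.Orth.StandardOdd
import Cfsg.Agent.Lib.SympInv.Classes
import Cfsg.Statements.S0821

set_option autoImplicit false
open Cfsg

namespace Cfsg.Agent.S0821

open Cfsg.Agent.Lib.Orth in
/-- `PΩ_{2m+1}(q)` has at least `m` classes of involutions. -/
theorem omega_involutions {ι : Type} [Fintype ι] [DecidableEq ι] {F : Type*} [Field F] [Finite F]
    {Q : QuadraticForm F (ι → F)} (h2 : (2 : F) ≠ 0) (hQ : (QuadraticMap.polarBilin Q).Nondegenerate)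
    {m : ℕ} (hm : 2 ≤ m) (hn : Fintype.card ι = 2 * m + 1) :
    ∃ x : Fin m → {x : Cfsg.POmega F (⇑Q) // orderOf x = 2},
      ∀ k l, IsConj (x k).1 (x l).1 → k = l := by
  classical
  have hn5 : 5 ≤ Fintype.card ι := by omega
  have hcen := center_omega_eq_bot h2 hQ hn5 ⟨m, by omega⟩
  obtain ⟨v, hv, hvc⟩ := exists_orth_family h2 hQ one_ne_zero (c := (1 : F)) (k := 2 * m) (by omega)
  let w : (k : Fin m) → Fin (2 * (k.1 + 1)) → ι → F := fun k i => v (Fin.castLE (by omega) i)
  have hw : ∀ k i j, i ≠ j → QuadraticMap.polar ⇑Q (w k i) (w k j) = 0 := fun k i j hij =>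
    hv _ _ fun e => hij (Fin.castLE_injective _ e)
  have hw' : ∀ k i, Q (w k i) ≠ 0 := fun k i => by simp [w, hvc]
  choose g hgv hfix hgg hgχ using fun k => exists_negate h2 hQ (hw k) (hw' k)
  have hmem : ∀ k, g k ∈ Omega F ⇑Q := fun k =>
    negate_mem_omega h2 hQ (by omega) ⟨k.1 + 1, by omega⟩ (hw' k) (fun i => hvc _) (fun χ => hgχ k χ)
  have hne : ∀ k, g k ≠ 1 := fun k h => by
    have h1 := hgv k ⟨0, by omega⟩
    rw [h, app_one] at h1
    have h3 : QuadraticMap.polar ⇑Q (w k ⟨0, by omega⟩) (w k ⟨0, by omega⟩) = 0 := by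
      have : (2 : F) • w k ⟨0, by omega⟩ = 0 := by
        rw [two_smul]; exact eq_neg_iff_add_eq_zero.1 h1
      rw [(smul_eq_zero.1 this).resolve_left h2]
      exact QuadraticMap.polar_zero_left _ _
    rw [polar_self_eq] at h3
    exact mul_ne_zero h2 (hw' k _) h3
  have hinj : ∀ a b : Omega F ⇑Q, (QuotientGroup.mk a : Cfsg.POmega F ⇑Q) = QuotientGroup.mk b → a = b := by
    intro a b h
    rw [QuotientGroup.eq, hcen, Subgroup.mem_bot] at h
    exact inv_mul_eq_one.1 h
  refine ⟨fun k => ⟨QuotientGroup.mk ⟨g k, hmem k⟩, ?_⟩, fun k l hkl => ?_⟩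
  · refine orderOf_eq_prime ?_ fun h => hne k (congrArg Subtype.val (hinj _ 1 h))
    rw [pow_two, ← QuotientGroup.mk_mul, show (⟨g k, hmem k⟩ : Omega F ⇑Q) * ⟨g k, hmem k⟩ = 1 from
      Subtype.ext (hgg k)]
    rfl
  · obtain ⟨c, hc⟩ := isConj_iff.1 hkl
    obtain ⟨c, rfl⟩ := QuotientGroup.mk_surjective c
    rw [mul_inv_eq_iff_eq_mul] at hc
    have h := congrArg Subtype.val (hinj _ _ hc)
    simp only [Subgroup.coe_mul] at h
    have key : ∀ {k l : Fin m} {c : ↥(isometryGroup F ⇑Q)}, c * g k = g l * c → k.1 ≤ l.1 := by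
      intro k l c h
      have hsub : ∀ i, app c (w k i) ∈ Submodule.span F (Set.range (w l)) := by
        intro i
        have hneg : app (g l) (app c (w k i)) = -app c (w k i) := by
          rw [← app_mul, ← h, app_mul, hgv, app_neg]
        rw [(neg_eigen_iff h2 hQ (hw l) (hw' l) (hgv l) (hfix l) _).1 hneg]
        exact Submodule.sum_mem _ fun j _ => Submodule.smul_mem _ _ (Submodule.subset_span ⟨j, rfl⟩)
      have hli := linearIndependent_orth h2 hQ (v := fun i => app c (w k i))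
        (fun i j hij => by rw [polar_app]; exact hw k i j hij)
        (fun i => by rw [Q_app]; exact hw' k i)
      let u : Fin (2 * (k.1 + 1)) → Submodule.span F (Set.range (w l)) :=
        fun i => ⟨_, hsub i⟩
      have hu : LinearIndependent F u := LinearIndependent.of_comp (Submodule.subtype _) hli
      have := hu.fintype_card_le_finrank
      rw [finrank_span_eq_card (linearIndependent_orth h2 hQ (hw l) (hw' l))] at this
      simp at this
      omega
    have h' : (c.1)⁻¹ * g l = g k * (c.1)⁻¹ := by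
      rw [inv_mul_eq_iff_eq_mul, ← mul_assoc, h, mul_inv_cancel_right]
    exact Fin.ext (le_antisymm (key h) (key h'))

/-- PSp_2m(q) ≇ PΩ_(2m+1)(q) for q odd and m ≥ 3 (they have the same order). -/
theorem result {F : Type*} [Field F] [Fintype F] (hodd : Odd (Fintype.card F)) (m : ℕ) (hm : 3 ≤ m) : IsEmpty (Cfsg.PSp m F ≃* Cfsg.POmega F (Cfsg.quadFormOdd m F)) := by
  classical
  refine ⟨fun e => ?_⟩
  have h2 : (2 : F) ≠ 0 := by
    intro h
    have hev : Even (Fintype.card F) := by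
      rw [even_iff_two_dvd]
      haveI : CharP F 2 := CharTwo.of_one_ne_zero_of_two_eq_zero one_ne_zero h
      obtain ⟨n, hp, hn⟩ := FiniteField.card F 2
      rw [hn]
      exact dvd_pow_self 2 n.ne_zero
    exact (Nat.not_even_iff_odd.2 hodd) hev
  rw [← Cfsg.Agent.Lib.Orth.coe_oddForm] at e
  obtain ⟨x, hx⟩ := omega_involutions (Q := Cfsg.Agent.Lib.Orth.oddForm m F) h2
    (Cfsg.Agent.Lib.Orth.oddForm_nondegenerate h2 m) (m := m) (by omega) (by simp; omega)
  obtain ⟨τ, hτ⟩ := Cfsg.Agent.Lib.SympInv.exists_classify (m := m) h2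
  let y : Fin m → {x : Cfsg.PSp m F // orderOf x = 2} := fun k =>
    ⟨e.symm (x k).1, by rw [MulEquiv.orderOf_eq]; exact (x k).2⟩
  have hinj : Function.Injective (τ ∘ y) := fun k l hkl => hx k l (by
    have := e.toMonoidHom.map_isConj (hτ (y k) (y l) hkl)
    simpa [y] using this)
  have := Fintype.card_le_of_injective _ hinj
  simp at this
  omega

end Cfsg.Agent.S0821
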