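import Cfsg.Agent.Lib.EvenWeight.Transport
import Cfsg.Statements.S0823

set_option autoImplicit false
open Cfsg

namespace Cfsg.Agent.S0823

open Cfsg.Agent.Lib

/-- The special isometry group along a field isomorphism. -/
noncomputable def specialMap {F K : Type*} [Field F] [Field K] {ι : Type} [Fintype ι] [DecidableEq ι]
    (φ : F ≃+* K) (Q : (ι → F) → F) (Q' : (ι → K) → K) (h : ∀ v, φ (Q v) = Q' (fun i => φ (v i))) :
    ↥(Cfsg.specialIsometryGroup F Q) ≃* ↥(Cfsg.specialIsometryGroup K Q') :=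
  ((EvenWeight.isometryGroupMap φ Q Q' h).subgroupMap _).trans (MulEquiv.subgroupCongr (by
    have hd : ∀ g, (Matrix.GeneralLinearGroup.det.comp (Cfsg.isometryGroup K Q').subtype)
        (EvenWeight.isometryGroupMap φ Q Q' h g) = Units.map (φ.toRingHom : F →* K)
          ((Matrix.GeneralLinearGroup.det.comp (Cfsg.isometryGroup F Q).subtype) g) :=
      fun g => Units.ext (RingHom.map_det φ.toRingHom _).symm
    ext g
    constructor
    · rintro ⟨a, ha, rfl⟩
      exact (hd a).trans (by rw [MonoidHom.mem_ker.1 ha, map_one])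
    · intro hg
      obtain ⟨a, rfl⟩ := (EvenWeight.isometryGroupMap φ Q Q' h).surjective g
      refine ⟨a, MonoidHom.mem_ker.2 (Units.map_injective (f := (φ.toRingHom : F →* K)) φ.injective ?_), rfl⟩
      rw [← hd a, map_one]
      exact hg))

/-- The index type. -/
abbrev I := Unit ⊕ (Fin 1 ⊕ Fin 1)

/-- An orthonormal-type basis of the sum-zero vectors of length 4. -/
def bas : I → Fin 4 → ZMod 3 :=
  Sum.elim (fun _ => ![0, 1, 2, 0]) (Sum.elim (fun _ => ![1, 1, 1, 0]) (fun _ => ![0, 2, 2, 2]))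

/-- The dual basis. -/
def dual : I → Fin 4 → ZMod 3 :=
  Sum.elim (fun _ => ![0, 2, 1, 0]) (Sum.elim (fun _ => ![0, 2, 2, 2]) (fun _ => ![1, 1, 1, 0]))

/-- The signed permutation action. -/
def rot (π : Equiv.Perm (Fin 4)) : Matrix I I (ZMod 3) :=
  Matrix.of fun k l => ((Equiv.Perm.sign π : ℤ) : ZMod 3) * ∑ i, dual k (π i) * bas l i

theorem rot_one : rot 1 = 1 := by decide +kernel

theorem rot_mul : ∀ π ρ, rot (π * ρ) = rot π * rot ρ := by decide +kernel

theorem rot_isometry : ∀ π u, Cfsg.quadFormOdd 1 (ZMod 3) ((rot π).mulVec u) =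
    Cfsg.quadFormOdd 1 (ZMod 3) u := by decide +kernel

theorem rot_det : ∀ π, (rot π).det = 1 := by decide +kernel

theorem rot_inj : ∀ π, rot π = 1 → π = 1 := by decide +kernel

/-- The form. -/
abbrev Q3 : (I → ZMod 3) → ZMod 3 := Cfsg.quadFormOdd 1 (ZMod 3)

/-- A matrix of the image. -/
def IsRot (A : Matrix I I (ZMod 3)) : Prop := ∃ π, rot π = A

instance instDecidableIsRot (A : Matrix I I (ZMod 3)) : Decidable (IsRot A) :=
  inferInstanceAs (Decidable (∃ π, rot π = A))

/-- The matrix with given columns. -/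
def colMat (c₀ c₁ c₂ : I → ZMod 3) : Matrix I I (ZMod 3) :=
  Matrix.of fun k l => Sum.elim (fun _ => c₀) (Sum.elim (fun _ => c₁) (fun _ => c₂)) l k

set_option synthInstance.maxSize 2000 in
set_option synthInstance.maxHeartbeats 200000 in
theorem rot_surj : ∀ c₀, Q3 c₀ = 1 → ∀ c₁, Q3 c₁ = 0 → Q3 (c₀ + c₁) = 1 →
    ∀ c₂, Q3 c₂ = 0 → Q3 (c₀ + c₂) = 1 → Q3 (c₁ + c₂) = 1 →
    (colMat c₀ c₁ c₂).det = 1 →
    IsRot (colMat c₀ c₁ c₂) := by
  decide +kernel

/-- The homomorphism. -/
noncomputable def rotHom : Equiv.Perm (Fin 4) →* ↥(Cfsg.specialIsometryGroup (ZMod 3) Q3) where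
  toFun π := ⟨⟨⟨rot π, rot π⁻¹, by rw [← rot_mul, mul_inv_cancel, rot_one],
      by rw [← rot_mul, inv_mul_cancel, rot_one]⟩, fun u _ => rot_isometry π u⟩,
    MonoidHom.mem_ker.2 (Units.ext (rot_det π))⟩
  map_one' := Subtype.ext (Subtype.ext (Units.ext rot_one))
  map_mul' π ρ := Subtype.ext (Subtype.ext (Units.ext (rot_mul π ρ)))

theorem rotHom_bijective : Function.Bijective rotHom := by
  refine ⟨(injective_iff_map_eq_one _).2 fun π h => rot_inj π
    (congrArg (fun g : ↥(Cfsg.specialIsometryGroup (ZMod 3) Q3) =>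
      ((g.1.1 : Matrix.GeneralLinearGroup I (ZMod 3)) : Matrix I I (ZMod 3))) h), fun g => ?_⟩
  set A : Matrix I I (ZMod 3) := ((g.1.1 : Matrix.GeneralLinearGroup I (ZMod 3)) : Matrix I I (ZMod 3)) with hA
  have hq : ∀ u, Q3 (A.mulVec u) = Q3 u := fun u => g.1.2 u u
  have hdet : A.det = 1 := congrArg Units.val (MonoidHom.mem_ker.1 g.2)
  have e : colMat (A.col (.inl ())) (A.col (.inr (.inl 0))) (A.col (.inr (.inr 0))) = A := by
    ext k l
    rcases l with ⟨⟩ | l | l
    · rfl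
    · rw [Subsingleton.elim l 0]; rfl
    · rw [Subsingleton.elim l 0]; rfl
  have hc : ∀ l, A.col l = A.mulVec (Pi.single l 1) := fun l => (Matrix.mulVec_single_one A l).symm
  obtain ⟨π, hπ⟩ := rot_surj (A.col (.inl ())) (by rw [hc, hq]; decide +kernel)
    (A.col (.inr (.inl 0))) (by rw [hc, hq]; decide +kernel)
    (by rw [hc, hc, ← Matrix.mulVec_add, hq]; decide +kernel)
    (A.col (.inr (.inr 0))) (by rw [hc, hq]; decide +kernel)
    (by rw [hc, hc, ← Matrix.mulVec_add, hq]; decide +kernel)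
    (by rw [hc, hc, ← Matrix.mulVec_add, hq]; decide +kernel)
    (by rw [e, hdet])
  exact ⟨π, Subtype.ext (Subtype.ext (Units.ext (hπ.trans e)))⟩

/-- SO_3(3) ≅ S_4: the determinant-one isometries of the form x_0² + x_1y_1 over the field with 3 elements form a group isomorphic to the symmetric group on 4 letters. -/
theorem result {F : Type*} [Field F] [Fintype F] (hF : Fintype.card F = 3) : Nonempty (↥(Cfsg.specialIsometryGroup F (Cfsg.quadFormOdd 1 F)) ≃* Equiv.Perm (Fin 4)) := by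
  have φ : F ≃+* ZMod 3 := (ZMod.ringEquivOfPrime F Nat.prime_three hF).symm
  exact ⟨(specialMap φ _ _ (fun v => by simp [Cfsg.quadFormOdd])).trans
    (MulEquiv.ofBijective rotHom rotHom_bijective).symm⟩

end Cfsg.Agent.S0823
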