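import Cfsg.Agent.Lib.EvenWeight.Model
import Cfsg.Agent.Lib.EvenWeight.Transport
import Cfsg.Agent.Lib.Classical.Standard
import Cfsg.Statements.S0825

set_option autoImplicit false
open Cfsg

namespace Cfsg.Agent.S0825

open Cfsg.Agent.Lib

/-- Three hyperbolic pairs among the even vectors of length 8. -/
def coords : EvenWeight.Coords (Fin 3 ⊕ Fin 3) 8 where
  b := Sum.elim ![![1, 1, 1, 1, 0, 0, 0, 0],
      ![1, 0, 0, 1, 1, 1, 0, 0],
      ![0, 0, 1, 1, 1, 0, 1, 0]] ![![1, 1, 1, 0, 1, 0, 0, 0],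
      ![0, 1, 0, 1, 1, 1, 0, 0],
      ![1, 1, 0, 0, 0, 1, 1, 0]]
  d := Sum.elim ![![1, 1, 1, 0, 1, 0, 0, 0],
      ![0, 1, 0, 1, 1, 1, 0, 0],
      ![1, 1, 0, 0, 0, 1, 1, 0]] ![![1, 1, 1, 1, 0, 0, 0, 0],
      ![1, 0, 0, 1, 1, 1, 0, 0],
      ![0, 0, 1, 1, 1, 0, 1, 0]]
  b_even := by decide +kernel
  dual := by decide +kernel
  resid := by decide +kernel

/-- O⁺_6(2) ≅ S_8: the isometry group of the hyperbolic form x_1y_1 + x_2y_2 + x_3y_3 over the field with 2 elements is isomorphic to the symmetric group on 8 letters. -/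
theorem result {F : Type*} [Field F] [Fintype F] (hF : Fintype.card F = 2) : Nonempty (↥(Cfsg.isometryGroup F (Cfsg.quadFormPlus 3 F)) ≃* Equiv.Perm (Fin 8)) := by
  obtain ⟨φ⟩ := EvenWeight.exists_equiv_zmod_two hF
  obtain ⟨e⟩ := coords.nonempty_equiv (show 5 ≤ 8 by omega) (Cfsg.quadFormPlus 3 (ZMod 2)) (by decide +kernel)
    (by decide +kernel) (by
      rw [Classical.natCard_isometryGroup_plus 2, Nat.card_zmod]
      decide +kernel)
  exact ⟨(EvenWeight.isometryGroupMap φ _ _ (fun v => by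
    simp [Cfsg.quadFormPlus, map_sum])).trans e⟩

end Cfsg.Agent.S0825
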