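import Cfsg.Agent.Lib.PSUThreeTwo.Structure
import Cfsg.Statements.S0827

set_option autoImplicit false
open Cfsg

namespace Cfsg.Agent.S0827

/-- U_3(2) ≅ 3².Q_8: PSU_3(2) (form over the field with 4 elements) has a normal subgroup N which is elementary abelian of order 9 such that the quotient by N is isomorphic to the quaternion group of order 8. -/
theorem result {F : Type*} [Field F] [Fintype F] (hF : Fintype.card F = 4) : ∃ (N : Subgroup (Cfsg.PSU 3 F 2)) (_ : N.Normal), Nat.card N = 9 ∧ (∀ x ∈ N, x ^ 3 = 1) ∧ Nonempty (Cfsg.PSU 3 F 2 ⧸ N ≃* QuaternionGroup 2) := by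
  have φ : F ≃+* Cfsg.Agent.Lib.Golay.Quad :=
    FiniteField.ringEquivOfCardEq (hF.trans Cfsg.Agent.Lib.Golay.card_quad.symm)
  obtain ⟨N, hN, hcard, hexp, ⟨e⟩⟩ := Cfsg.Agent.Lib.PSUThreeTwo.exists_normal_nine
  set ψ : Cfsg.PSU 3 F 2 ≃* Cfsg.PSU 3 Cfsg.Agent.Lib.Golay.Quad 2 := Cfsg.Agent.Lib.PSUThreeTwo.psuMap φ
  haveI := hN
  haveI hN' : (N.map ψ.symm.toMonoidHom).Normal := hN.map _ ψ.symm.surjective
  refine ⟨N.map ψ.symm.toMonoidHom, hN', ?_, ?_, ⟨((QuotientGroup.congr N (N.map ψ.symm.toMonoidHom) ψ.symm rfl).symm).trans e⟩⟩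
  · rw [← hcard]
    exact (Nat.card_congr (Subgroup.equivMapOfInjective N _ ψ.symm.injective).toEquiv).symm
  · rintro _ ⟨x, hx, rfl⟩
    rw [← map_pow, hexp x hx, map_one]

end Cfsg.Agent.S0827
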