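import Cfsg.Agent.Lib.IsoLines.Classical
import Cfsg.Statements.S0828

set_option autoImplicit false
open Cfsg

namespace Cfsg.Agent.S0828

/-- The symplectic generalised quadrangle over a field with q elements: the number of 2-dimensional subspaces of F^4 on which the symplectic form vanishes is (q + 1)(q² + 1), and every non-zero vector lies in exactly q + 1 of them. -/
theorem result {F : Type*} [Field F] [Fintype F] {q : ℕ} (hF : Fintype.card F = q) : Nat.card {W : Submodule F (Fin 2 ⊕ Fin 2 → F) // Module.finrank F W = 2 ∧ ∀ u ∈ W, ∀ v ∈ W, Cfsg.sympForm 2 F u v = 0} = (q + 1) * (q ^ 2 + 1) ∧ ∀ v : Fin 2 ⊕ Fin 2 → F, v ≠ 0 → Nat.card {W : Submodule F (Fin 2 ⊕ Fin 2 → F) // Module.finrank F W = 2 ∧ v ∈ W ∧ ∀ u ∈ W, ∀ w ∈ W, Cfsg.sympForm 2 F u w = 0} = q + 1 := by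
  classical
  have hq : 2 ≤ q := hF ▸ Fintype.one_lt_card
  refine ⟨?_, fun v hv => ?_⟩
  · show Nat.card {W : Submodule F (Fin 2 ⊕ Fin 2 → F) //
      Cfsg.Agent.Lib.IsoLines.IsoPlane (Cfsg.sympForm 2 F) W} = _
    have h := Cfsg.Agent.Lib.IsoLines.natCard_planes (f := Cfsg.sympForm 2 F) (r := q + 1)
      fun v hv _ => Cfsg.Agent.Lib.IsoLines.symp_through hF hv
    have hc : Nat.card {v : Fin 2 ⊕ Fin 2 → F // Cfsg.sympForm 2 F v v = 0 ∧ v ≠ 0} = q ^ 4 - 1 := by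
      rw [Nat.card_congr (Equiv.subtypeEquivRight (q := fun v => ¬ v = 0) fun v =>
        ⟨fun h => h.2, fun h => ⟨Cfsg.Agent.Lib.Forms.sympForm_self v, h⟩⟩), Nat.card_eq_fintype_card,
        Fintype.card_subtype_compl, Fintype.card_subtype_eq, Fintype.card_fun]
      simp [hF]
    rw [hc, Nat.card_eq_fintype_card (α := F), hF] at h
    have e : q ^ 4 - 1 = (q ^ 2 + 1) * (q ^ 2 - 1) := by
      zify [Nat.one_le_pow 4 q (by omega), Nat.one_le_pow 2 q (by omega)]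
      ring
    rw [e] at h
    refine Nat.eq_of_mul_eq_mul_right (Nat.sub_pos_of_lt (Nat.one_lt_pow two_ne_zero (by omega))) (h.trans ?_)
    ring
  · rw [Nat.card_congr (Equiv.subtypeEquivRight (q := fun W : Submodule F (Fin 2 ⊕ Fin 2 → F) =>
      Cfsg.Agent.Lib.IsoLines.IsoPlane (Cfsg.sympForm 2 F) W ∧ v ∈ W) fun W =>
        ⟨fun h => ⟨⟨h.1, h.2.2⟩, h.2.1⟩, fun h => ⟨h.1.1, h.2, h.1.2⟩⟩)]
    exact Cfsg.Agent.Lib.IsoLines.symp_through hF hv

end Cfsg.Agent.S0828
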