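import Cfsg.Agent.Lib.PlusType.Tensor
import Cfsg.Agent.Lib.SympInv.Frame
import Cfsg.Statements.S0833

set_option autoImplicit false
open Cfsg

namespace Cfsg.Agent.S0833

/-- If B₁, B₂ are non-degenerate alternating forms on U (dim 2k) and W (dim 2l), then B₁ ⊗ B₂ on U ⊗ W is symmetric, non-degenerate, and vanishes identically on some subspace of dimension 2kl (half of dim U ⊗ W). -/
theorem result {F U W : Type*} [Field F] [Fintype F] [AddCommGroup U] [Module F U] [FiniteDimensional F U] [AddCommGroup W] [Module F W] [FiniteDimensional F W] (B₁ : LinearMap.BilinForm F U) (B₂ : LinearMap.BilinForm F W) (h₁ : B₁.Nondegenerate) (h₂ : B₂.Nondegenerate) (hA₁ : B₁.IsAlt) (hA₂ : B₂.IsAlt) (k l : ℕ) (hU : Module.finrank F U = 2 * k) (hW : Module.finrank F W = 2 * l) : (B₁.tmul B₂).IsSymm ∧ (B₁.tmul B₂).Nondegenerate ∧ (∃ X : Submodule F (TensorProduct F U W), Module.finrank F X = 2 * k * l ∧ ∀ x ∈ X, ∀ y ∈ X, (B₁.tmul B₂) x y = 0) := by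
  classical
  refine ⟨⟨fun x y => ?_⟩, Cfsg.Agent.Lib.PlusType.tmul_nondegenerate h₁ h₂, ?_⟩
  · have : (B₁.tmul B₂) = (B₁.tmul B₂).flip := by
      refine TensorProduct.ext' fun u w => ?_
      refine TensorProduct.ext' fun u' w' => ?_
      simp [← LinearMap.IsAlt.neg hA₁ u u', ← LinearMap.IsAlt.neg hA₂ w w']
    exact LinearMap.congr_fun (LinearMap.congr_fun this x) y
  obtain ⟨e, f, hef, -⟩ := Cfsg.Agent.Lib.SympInv.exists_full_frame hA₁ (m := k) (fun _ _ => True)
    (fun j hj e f h _ => by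
      obtain ⟨x, hx0, hx⟩ := Cfsg.Agent.Lib.SympInv.exists_perp_ne_zero (B := B₁) e f (by omega)
      obtain ⟨y, hy⟩ : ∃ y, B₁ x y = 1 := by
        obtain ⟨y, hy⟩ : ∃ y, B₁ x y ≠ 0 := by
          by_contra hcon
          push Not at hcon
          exact hx0 (h₁.1 x hcon)
        exact ⟨(B₁ x y)⁻¹ • y, by simp [hy]⟩
      have hp := Cfsg.Agent.Lib.SympInv.frameProj_perp hA₁ h y
      refine ⟨x, Cfsg.Agent.Lib.SympInv.frameProj B₁ e f y, trivial, ?_, fun i =>
        ⟨(hx i).1, (hx i).2, (hp i).1, (hp i).2⟩⟩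
      simp [Cfsg.Agent.Lib.SympInv.frameProj, map_sum, fun i => (hx i).1, fun i => (hx i).2, hy])
  let b := Cfsg.Agent.Lib.SympInv.frameBasis hA₁ hef (by omega)
  let c := Module.finBasisOfFinrankEq F W hW
  obtain ⟨X, hX, hiso⟩ := Cfsg.Agent.Lib.PlusType.span_half (B := B₁.tmul B₂)
    (v := (b.tensorProduct c) ∘ fun p : Fin k × Fin (2 * l) => (Sum.inl p.1, p.2))
    ((b.tensorProduct c).linearIndependent.comp _ (fun p q h => by
      simp only [Prod.mk.injEq, Sum.inl.injEq] at h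
      exact Prod.ext h.1 h.2))
    (fun p q => by simp [b, hef.ee])
  refine ⟨X, ?_, hiso⟩
  rw [hX, Fintype.card_prod, Fintype.card_fin, Fintype.card_fin]
  ring

end Cfsg.Agent.S0833
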