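import Cfsg.Agent.Lib.PlusType.Tensor
import Cfsg.Statements.S0835

set_option autoImplicit false
open Cfsg

namespace Cfsg.Agent.S0835

/-- Over a finite field with 2 ≠ 0: if B₁ on U (dim 2k, k ≥ 1) is non-degenerate symmetric of minus type (no totally isotropic k-subspace) and B₂ on W (dim 2l + 1) is non-degenerate symmetric, then B₁ ⊗ B₂ (dimension 2k(2l+1)) admits no totally isotropic subspace of dimension k(2l+1) (minus type). -/
theorem result {F U W : Type*} [Field F] [Fintype F] [AddCommGroup U] [Module F U] [FiniteDimensional F U] [AddCommGroup W] [Module F W] [FiniteDimensional F W] (h2 : (2 : F) ≠ 0) (B₁ : LinearMap.BilinForm F U) (B₂ : LinearMap.BilinForm F W) (h₁ : B₁.Nondegenerate) (h₂ : B₂.Nondegenerate) (hS₁ : B₁.IsSymm) (hS₂ : B₂.IsSymm) (k l : ℕ) (hk : 1 ≤ k) (hU : Module.finrank F U = 2 * k) (hW : Module.finrank F W = 2 * l + 1) (hm₁ : ¬ (∃ X : Submodule F (U), Module.finrank F X = k ∧ ∀ x ∈ X, ∀ y ∈ X, (B₁) x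 y = 0)) : ¬ (∃ X : Submodule F (TensorProduct F U W), Module.finrank F X = k * (2 * l + 1) ∧ ∀ x ∈ X, ∀ y ∈ X, (B₁.tmul B₂) x y = 0) := by
  classical
  let b := Module.finBasisOfFinrankEq F U hU
  let c := Module.finBasisOfFinrankEq F W hW
  have hn : Module.finrank F (TensorProduct F U W) = 2 * (k * (2 * l + 1)) := by
    rw [Module.finrank_tensorProduct, hU, hW]; ring
  intro hX
  apply hm₁
  refine (Cfsg.Agent.Lib.PlusType.half_iff_isSquare h2 hS₁.eq h₁ hU b).2 ?_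
  obtain ⟨s, hs⟩ := (Cfsg.Agent.Lib.PlusType.half_iff_isSquare (B := B₁.tmul B₂) h2
    (Cfsg.Agent.Lib.PlusType.tmul_symm hS₁.eq hS₂.eq)
    (Cfsg.Agent.Lib.PlusType.tmul_nondegenerate h₁ h₂) hn (b.tensorProduct c)).1 hX
  rw [Cfsg.Agent.Lib.PlusType.det_gram_tmul, Fintype.card_fin, Fintype.card_fin, pow_mul (-1 : F),
    ← mul_assoc, ← mul_pow] at hs
  set x := (-1 : F) ^ k * (LinearMap.BilinForm.toMatrix b B₁).det with hx
  set d := (LinearMap.BilinForm.toMatrix c B₂).det with hd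
  have hd0 : d ≠ 0 := Cfsg.Agent.Lib.PlusType.det_gram_ne_zero h₂ c
  have hx0 : x ≠ 0 :=
    mul_ne_zero (pow_ne_zero _ (neg_ne_zero.2 one_ne_zero)) (Cfsg.Agent.Lib.PlusType.det_gram_ne_zero h₁ b)
  refine ⟨s / (x ^ l * d ^ k), ?_⟩
  field_simp
  linear_combination hs

end Cfsg.Agent.S0835
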