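import Cfsg.Agent.Lib.LinGroup.Generation
import Cfsg.Statements.S0836

set_option autoImplicit false
open Cfsg

namespace Cfsg.Agent.S0836

/-- For i ≠ j and any scalar c, the elementary transvection 1 + c E_ij is a commutator ⁅g, h⁆ of two elements of SL_n(F) provided n ≥ 3, or n = 2 and F contains x ≠ 0 with x² ≠ 1. -/
theorem result {F : Type*} [Field F] (n : ℕ) (hn : 3 ≤ n ∨ (n = 2 ∧ ∃ x : F, x ≠ 0 ∧ x ^ 2 ≠ 1)) (i j : Fin n) (hij : i ≠ j) (c : F) (t : Matrix.SpecialLinearGroup (Fin n) F) (ht : (t : Matrix (Fin n) (Fin n) F) = Matrix.transvection i j c) : t ∈ commutatorSet (Matrix.SpecialLinearGroup (Fin n) F) := by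
  classical
  have ht' : t = Matrix.SpecialLinearGroup.transvection hij c := Subtype.ext ht
  rw [ht']
  rcases hn with hn | ⟨rfl, x, hx, hx2⟩
  · obtain ⟨k, hk⟩ : ∃ k, k ∉ ({i, j} : Finset (Fin n)) := by
      by_contra hcon
      push Not at hcon
      have := (Finset.eq_univ_iff_forall.2 hcon) ▸ Finset.card_le_two (a := i) (b := j)
      simp at this
      omega
    simp only [Finset.mem_insert, Finset.mem_singleton, not_or] at hk
    exact ⟨_, _, Cfsg.Agent.Lib.LinGroup.transvection_eq_commutator hij (Ne.symm hk.1) hk.2 c⟩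
  · let d : Fin 2 → F := fun l => if l = i then x else x⁻¹
    have huniv : (Finset.univ : Finset (Fin 2)) = {i, j} :=
      (Finset.eq_univ_of_card _ (by rw [Finset.card_pair hij]; rfl)).symm
    let D : Matrix.SpecialLinearGroup (Fin 2) F := ⟨Matrix.diagonal d, by
      rw [Matrix.det_diagonal, huniv, Finset.prod_pair hij]
      simp [d, hij.symm, hx]⟩
    refine ⟨D, Matrix.SpecialLinearGroup.transvection hij (c / (x ^ 2 - 1)), ?_⟩
    rw [commutatorElement_def, mul_inv_eq_iff_eq_mul, mul_inv_eq_iff_eq_mul]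
    have hne : x ^ 2 - 1 ≠ 0 := sub_ne_zero.2 hx2
    refine Subtype.ext (Matrix.ext_iff_mulVec.2 fun w => funext fun l => ?_)
    change ((Matrix.diagonal d * Matrix.transvection i j (c / (x ^ 2 - 1))).mulVec w) l =
      ((Matrix.transvection i j c * Matrix.transvection i j (c / (x ^ 2 - 1)) * Matrix.diagonal d).mulVec w) l
    simp only [← Matrix.mulVec_mulVec, Cfsg.Agent.Lib.LinGroup.transvection_mulVec_apply,
      Matrix.mulVec_diagonal]
    by_cases hl : l = i
    · subst hl
      simp [d, hij.symm]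
      field_simp
      ring
    · simp [d, hl]

end Cfsg.Agent.S0836
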