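import Cfsg.Agent.Lib.PlusType.Criterion
import Cfsg.Statements.S0838

set_option autoImplicit false
open Cfsg

namespace Cfsg.Agent.S0838

/-- Over a finite field with 2 ≠ 0 and n odd: two quadratic forms Q₁, Q₂ on F^n with non-degenerate polar forms are similar — there are an invertible linear map g and a scalar c ≠ 0 with Q₂ (g v) = c · Q₁ v for all v. -/
theorem result {F : Type*} [Field F] [Fintype F] (h2 : (2 : F) ≠ 0) {n : ℕ} (hn : Odd n) (Q₁ Q₂ : QuadraticForm F (Fin n → F)) (h₁ : (QuadraticMap.polarBilin Q₁).Nondegenerate) (h₂ : (QuadraticMap.polarBilin Q₂).Nondegenerate) : ∃ (g : (Fin n → F) ≃ₗ[F] (Fin n → F)) (c : F), c ≠ 0 ∧ ∀ v, Q₂ (g v) = c * Q₁ v := by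
  classical
  obtain ⟨m, rfl⟩ := hn
  have key : ∀ Q : QuadraticForm F (Fin (2 * m + 1) → F), (QuadraticMap.polarBilin Q).Nondegenerate →
      ∃ (b : Module.Basis ((Fin m ⊕ Fin m) ⊕ Unit) F (Fin (2 * m + 1) → F)) (d : F), d ≠ 0 ∧
        LinearMap.BilinForm.toMatrix b (QuadraticMap.polarBilin Q) =
          Matrix.fromBlocks (Matrix.fromBlocks 0 1 1 0) 0 0 (Matrix.diagonal fun _ => d) := by
    intro Q hQ
    have hs : ∀ x y, QuadraticMap.polarBilin Q x y = QuadraticMap.polarBilin Q y x :=
      fun x y => QuadraticMap.polar_comm (⇑Q) x y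
    obtain ⟨e, f, h⟩ := Cfsg.Agent.Lib.PlusType.exists_hypFrame (B := QuadraticMap.polarBilin Q) h2 hs hQ
      (n := m) (by simp; omega)
    obtain ⟨z, -, hzm, -, hz'⟩ := Cfsg.Agent.Lib.PlusType.exists_orth_comp h2 hs hQ h
    have hd := Cfsg.Agent.Lib.PlusType.le_finrank_frameComp (B := QuadraticMap.polarBilin Q) e f
    simp only [Module.finrank_fintype_fun_eq_card, Fintype.card_fin] at hd
    let w := z ⟨0, by omega⟩
    have hwm : ∀ i, QuadraticMap.polarBilin Q w (e i) = 0 ∧ QuadraticMap.polarBilin Q w (f i) = 0 :=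
      Cfsg.Agent.Lib.PlusType.mem_frameComp.1 (hzm _)
    have hew : ∀ i, QuadraticMap.polarBilin Q (e i) w = 0 := fun i => by rw [hs]; exact (hwm i).1
    have hfw : ∀ i, QuadraticMap.polarBilin Q (f i) w = 0 := fun i => by rw [hs]; exact (hwm i).2
    have hfe : ∀ i j, QuadraticMap.polarBilin Q (f i) (e j) = if j = i then 1 else 0 :=
      fun i j => by rw [hs, h.ef]
    let v : (Fin m ⊕ Fin m) ⊕ Unit → (Fin (2 * m + 1) → F) := Sum.elim (Sum.elim e f) fun _ => w
    have hli : LinearIndependent F v := by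
      rw [Fintype.linearIndependent_iff]
      intro c hc
      rw [Fintype.sum_sum_type, Fintype.sum_sum_type] at hc
      rintro ((j | j) | j)
      · have := congrArg (fun x => QuadraticMap.polarBilin Q x (f j)) hc
        simpa [-QuadraticMap.polarBilin_apply_apply, v, map_sum, LinearMap.sum_apply, h.ff, h.ef,
          fun i => (hwm i).2] using this
      · have := congrArg (fun x => QuadraticMap.polarBilin Q x (e j)) hc
        simpa [-QuadraticMap.polarBilin_apply_apply, v, map_sum, LinearMap.sum_apply, h.ee, hfe,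
          fun i => (hwm i).1] using this
      · have := congrArg (fun x => QuadraticMap.polarBilin Q x w) hc
        simp [-QuadraticMap.polarBilin_apply_apply, v, map_sum, LinearMap.sum_apply, hew, hfw] at this
        exact this.resolve_right (hz' _)
    let b := basisOfLinearIndependentOfCardEqFinrank' v hli (by simp; omega)
    have hb : ⇑b = v := coe_basisOfLinearIndependentOfCardEqFinrank' _ _ _
    refine ⟨b, QuadraticMap.polarBilin Q w w, hz' _, ?_⟩
    refine Matrix.ext fun i j => ?_
    rw [LinearMap.BilinForm.toMatrix_apply, hb]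
    rcases i with (i | i) | i <;> rcases j with (j | j) | j <;>
      simp [-QuadraticMap.polarBilin_apply_apply, v, h.ee, h.ff, h.ef, hfe, hew, hfw, hwm,
        Matrix.one_apply, eq_comm]
  obtain ⟨b₁, d₁, hd₁, hM₁⟩ := key Q₁ h₁
  obtain ⟨b₂, d₂, hd₂, hM₂⟩ := key Q₂ h₂
  set c := d₂ / d₁ with hc
  have hc0 : c ≠ 0 := div_ne_zero hd₂ hd₁
  let s : (Fin m ⊕ Fin m) ⊕ Unit → F := Sum.elim (Sum.elim (fun _ => 1) fun _ => c) fun _ => 1
  have hs0 : ∀ i, IsUnit (s i) := fun i => by
    rcases i with (i | i) | i <;> simp [s, hc0]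
  let g := b₁.equiv (b₂.isUnitSMul hs0) (Equiv.refl _)
  refine ⟨g, c, hc0, fun v => ?_⟩
  have hB : (QuadraticMap.polarBilin Q₂).compl₁₂ g.toLinearMap g.toLinearMap =
      c • QuadraticMap.polarBilin Q₁ := by
    refine LinearMap.ext_basis b₁ b₁ fun i j => ?_
    have e₁ := congrFun (congrFun hM₁ i) j
    have e₂ := congrFun (congrFun hM₂ i) j
    rw [LinearMap.BilinForm.toMatrix_apply] at e₁ e₂
    simp only [LinearMap.compl₁₂_apply, LinearEquiv.coe_coe, g]
    rw [Module.Basis.equiv_apply, Module.Basis.equiv_apply]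
    simp only [Equiv.refl_apply, Module.Basis.isUnitSMul_apply, map_smul, LinearMap.smul_apply,
      smul_eq_mul, e₁, e₂]
    rcases i with (i | i) | i <;> rcases j with (j | j) | j <;>
      simp [s, Matrix.one_apply, hc, div_mul_cancel₀ _ hd₁]
  have := LinearMap.congr_fun (LinearMap.congr_fun hB v) v
  simp only [LinearMap.compl₁₂_apply, LinearEquiv.coe_coe, LinearMap.smul_apply,
    QuadraticMap.polarBilin_apply_apply, QuadraticMap.polar_self, two_nsmul, smul_eq_mul] at this
  exact mul_left_cancel₀ h2 (by linear_combination this)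

end Cfsg.Agent.S0838
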