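import Cfsg.Agent.Lib.SLTransv.Conj
import Cfsg.Statements.S0839

set_option autoImplicit false
open Cfsg

namespace Cfsg.Agent.S0839

/-- Every transvection t ∈ SL_(n+2)(F) (rank(t − 1) = 1, (t − 1)² = 0) is conjugate in SL_(n+2)(F) to 1 + v·e_0ᵀ for some column vector v with v_0 = 0 (the group A of matrices that are the identity except in the first column below the diagonal); the dimension is written n + 2 ≥ 2. -/
theorem result {F : Type*} [Field F] (n : ℕ) (t : Matrix.SpecialLinearGroup (Fin (n + 2)) F) (ht : Cfsg.IsTransvection (t : Matrix (Fin (n + 2)) (Fin (n + 2)) F)) : ∃ (g : Matrix.SpecialLinearGroup (Fin (n + 2)) F) (v : Fin (n + 2) → F), v 0 = 0 ∧ ((g⁻¹ * t * g : Matrix.SpecialLinearGroup (Fin (n + 2)) F) : Matrix (Fin (n + 2)) (Fin (n + 2)) F) = 1 + Matrix.vecMulVec v (Pi.single 0 1) := by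
  obtain ⟨g, c, -, h⟩ := Cfsg.Agent.Lib.SLTransv.exists_conj_normal n
    (t : Matrix (Fin (n + 2)) (Fin (n + 2)) F) ht
  refine ⟨g, Pi.single 1 c, by simp, ?_⟩
  rw [Matrix.SpecialLinearGroup.coe_mul, Matrix.SpecialLinearGroup.coe_mul, mul_assoc, h, ← mul_assoc,
    ← Matrix.SpecialLinearGroup.coe_mul, inv_mul_cancel, Matrix.SpecialLinearGroup.coe_one, one_mul]
  congr 1
  ext a b
  by_cases ha : a = 1 <;> by_cases hb : b = 0 <;> simp [Matrix.vecMulVec_apply, Matrix.single_apply, ha, hb, eq_comm (a := (1 : Fin (n + 2))), eq_comm (a := (0 : Fin (n + 2)))]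

end Cfsg.Agent.S0839
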