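import Cfsg.Statements.S0841
import Mathlib

set_option autoImplicit false
open Cfsg

namespace Cfsg.Agent.S0841

/-- If the commutator subgroup of G lies in the centre, then for all x, y in G and every natural number n one has (x * y) ^ n = x ^ n * y ^ n * c ^ (n * (n - 1) / 2) with c = y⁻¹ * x⁻¹ * y * x. -/
theorem result {G : Type*} [Group G] (hG : commutator G ≤ Subgroup.center G) (x y : G) (n : ℕ) : (x * y) ^ n = x ^ n * y ^ n * (y⁻¹ * x⁻¹ * y * x) ^ (n * (n - 1) / 2) := by
  have hc : ∀ z : G, (y⁻¹ * x⁻¹ * y * x) * z = z * (y⁻¹ * x⁻¹ * y * x) := by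
    intro z
    have : y⁻¹ * x⁻¹ * y * x ∈ Subgroup.center G := hG (by
      rw [commutator_eq_closure]
      exact Subgroup.subset_closure ⟨y⁻¹, x⁻¹, by simp [commutatorElement_def]⟩)
    exact (Subgroup.mem_center_iff.mp this z).symm
  set c := y⁻¹ * x⁻¹ * y * x with hcdef
  have hyx : y * x = x * y * c := by simp [hcdef, mul_assoc]
  have hcp : ∀ (k : ℕ) (z : G), c ^ k * z = z * c ^ k := fun k z =>
    (Commute.pow_left (hc z) k).eq
  have hynx : ∀ k : ℕ, y ^ k * x = x * y ^ k * c ^ k := by
    intro k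
    induction k with
    | zero => simp
    | succ k ih =>
      calc y ^ (k + 1) * x = y * (y ^ k * x) := by rw [pow_succ', mul_assoc]
        _ = y * x * (y ^ k * c ^ k) := by rw [ih]; simp [mul_assoc]
        _ = x * y * (c * y ^ k) * c ^ k := by rw [hyx]; simp [mul_assoc]
        _ = x * (y * y ^ k) * (c * c ^ k) := by rw [hc]; simp [mul_assoc]
        _ = x * y ^ (k + 1) * c ^ (k + 1) := by rw [pow_succ', pow_succ']
  induction n with
  | zero => simp
  | succ k ih =>
    have hT : (k + 1) * (k + 1 - 1) / 2 = k + k * (k - 1) / 2 := by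
      rw [Nat.add_sub_cancel, show (k + 1) * k = k * (k - 1) + k * 2 by
        cases k with
        | zero => rfl
        | succ j => simp; ring]
      rw [Nat.add_mul_div_right _ _ (by norm_num), add_comm]
    calc (x * y) ^ (k + 1) = x ^ k * y ^ k * c ^ (k * (k - 1) / 2) * (x * y) := by
          rw [pow_succ, ih]
      _ = x ^ k * (y ^ k * x) * y * c ^ (k * (k - 1) / 2) := by
          rw [mul_assoc _ (c ^ _), hcp]; simp [mul_assoc]
      _ = x ^ k * x * y ^ k * (c ^ k * y) * c ^ (k * (k - 1) / 2) := by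
          rw [hynx]; simp [mul_assoc]
      _ = x ^ (k + 1) * y ^ (k + 1) * c ^ ((k + 1) * (k + 1 - 1) / 2) := by
          rw [hcp, hT, pow_succ, pow_succ, pow_add]; simp [mul_assoc]

end Cfsg.Agent.S0841
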