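import Cfsg.Statements.S0842
import Cfsg.Agent.Lib.BrauerSuzuki.Elements

set_option autoImplicit false
open Cfsg

namespace Cfsg.Agent.S0842

/-- Suppose a Sylow 2-subgroup S of the finite group G is generalized quaternion of order at least 16, and let D be the commutator subgroup of S, C its centralizer and N its normalizer in G. Then there is a subgroup K of odd order, contained in C and normalized by N, with K ⊔ S = N and K ⊔ (S ⊓ C) = C, and C has index 2 in N. -/
theorem result {G : Type*} [Group G] [Finite G] (S : Sylow 2 G) (n : ℕ) (e : (S : Subgroup G) ≃* QuaternionGroup (2 ^ (n + 2))) (D : Subgroup G) (hD : D = ⁅(S : Subgroup G), (S : Subgroup G)⁆) : ∃ K : Subgroup G, Odd (Nat.card K) ∧ K ≤ Subgroup.centralizer (D : Set G) ∧ Subgroup.normalizer (D : Set G) ≤ Subgroup.normalizer (K : Set G) ∧ K ⊔ (S : Subgroup G) = Subgroup.normalizer (D : Set G) ∧ K ⊔ ((S : Subgroup G) ⊓ Subgroup.centralizer (D : Set G)) = Subgroup.centralizer (D : Set G) ∧ ((Subgroup.centralizer (D : Set G)).subgroupOf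 (Subgroup.normalizer (D : Set G))).index = 2 := by
  obtain ⟨a, b, hQ⟩ := Lib.BrauerSuzuki.exists_qSetup S n e D hD
  obtain ⟨K, hKC, hKodd, -, hdec, hKN⟩ := hQ.exists_complement
  obtain ⟨hidx, -⟩ := hQ.index_facts
  have hC : K ⊔ ((S : Subgroup G) ⊓ Subgroup.centralizer (D : Set G))
      = Subgroup.centralizer (D : Set G) := by
    refine le_antisymm (sup_le hKC inf_le_right) fun x hx => ?_
    obtain ⟨k, hk, i, rfl⟩ := hdec x hx
    rw [hQ.inf_centralizer]
    exact Subgroup.mul_mem_sup hk (Subgroup.npow_mem_zpowers a i)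
  refine ⟨K, hKodd, hKC, hKN, ?_, hC, hidx⟩
  refine le_antisymm (sup_le (hKC.trans (Subgroup.centralizer_le_normalizer _))
    hQ.sylow_le_normalizer) fun x hx => ?_
  have hb := hQ.sylow_le_normalizer hQ.b_mem
  by_cases hxC : x ∈ Subgroup.centralizer (D : Set G)
  · exact (hC.ge.trans (sup_le_sup_left inf_le_left K)) hxC
  · have h := Subgroup.mul_mem_iff_of_index_two hidx (a := ⟨x, hx⟩) (b := ⟨b, hb⟩)
    simp only [Subgroup.mem_subgroupOf, Subgroup.coe_mul, hxC, hQ.b_notMem_centralizer,
      iff_self, iff_true] at h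
    have h2 : x * b ∈ K ⊔ (S : Subgroup G) :=
      (hC.ge.trans (sup_le_sup_left inf_le_left K)) h
    simpa using Subgroup.mul_mem _ h2 (Subgroup.inv_mem _ (Subgroup.mem_sup_right hQ.b_mem))

end Cfsg.Agent.S0842
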