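import Cfsg.Statements.S0848
import Cfsg.Agent.Lib.InvCentralizer.Dihedral

set_option autoImplicit false
open Cfsg

namespace Cfsg.Agent.S0848

/-- If a finite group equals its own commutator subgroup and contains an involution whose centralizer is isomorphic to the dihedral group of order 8, then the group has order 168 or 360. -/
theorem result {G : Type*} [Group G] [Finite G] (hperf : commutator G = ⊤) (t : G) (ht : orderOf t = 2) (e : Subgroup.centralizer ({t} : Set G) ≃* DihedralGroup 4) : Nat.card G = 168 ∨ Nat.card G = 360 := by
  haveI : Fintype G := Fintype.ofFinite G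
  refine Cfsg.Agent.Lib.InvCentralizer.card_of_dihedral_centralizer t ht (fun H hH => ?_) e
  haveI hn : H.Normal := Subgroup.normal_of_index_eq_two hH
  haveI : IsCyclic (G ⧸ H) := isCyclic_of_prime_card (p := 2) (by
    rw [← Subgroup.index_eq_card, hH])
  letI : CommGroup (G ⧸ H) := IsCyclic.commGroup
  have hle : commutator G ≤ (QuotientGroup.mk' H).ker := Abelianization.commutator_subset_ker _
  rw [hperf, QuotientGroup.ker_mk', top_le_iff] at hle
  rw [hle, Subgroup.index_top] at hH
  omega

end Cfsg.Agent.S0848
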