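import Cfsg.Statements.S0849
import Cfsg.Agent.Lib.Chars.Induced

set_option autoImplicit false
open Cfsg

namespace Cfsg.Agent.S0849

/-- Let H be a subgroup of a finite group G and S a subset of H that is mapped to itself under conjugation by H, is disjoint from its conjugate by any element outside H, and is closed under inverses. Let φ be a class function of H vanishing on H away from S, and let u, v be involutions of G. Then the sum of the induced function of φ over all products a * b with a conjugate to u and b conjugate to v equals the index of H times the sum of φ (a * b) over such pairs with a and b in H. -/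
theorem result {G : Type*} [Group G] [Fintype G] (H : Subgroup G) (S : Set G) (hSH : S ⊆ H) (hHS : ∀ h ∈ H, ∀ s ∈ S, h * s * h⁻¹ ∈ S) (hTI : ∀ g : G, g ∉ H → ∀ s ∈ S, g * s * g⁻¹ ∉ S) (hinv : ∀ s ∈ S, s⁻¹ ∈ S) (φ : H → ℂ) (hφ : Cfsg.IsClassFunction H φ) (hφS : ∀ x : H, (x : G) ∉ S → φ x = 0) (u v : G) (hu : orderOf u = 2) (hv : orderOf v = 2) : ∑ᶠ p ∈ {p : G × G | IsConj u p.1 ∧ IsConj v p.2}, Cfsg.indFun H φ (p.1 * p.2) = (H.index : ℂ) * ∑ᶠ p ∈ {p : H × H | IsConj u (p.1 : G) ∧ IsConj v (p.2 : G)}, φ (p.1 * p.2) := by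
  classical
  set P := Finset.univ.filter fun p : G × G => IsConj u p.1 ∧ IsConj v p.2
  set Q := Finset.univ.filter fun p : H × H => IsConj u (p.1 : G) ∧ IsConj v (p.2 : G)
  have hP : {p : G × G | IsConj u p.1 ∧ IsConj v p.2} = (P : Set (G × G)) := by ext; simp [P]
  have hQ : {p : H × H | IsConj u (p.1 : G) ∧ IsConj v (p.2 : G)} = (Q : Set (H × H)) := by
    ext; simp [Q]
  rw [hP, hQ, finsum_mem_coe_finset, finsum_mem_coe_finset]
  have hsq : ∀ {w x : G}, orderOf w = 2 → IsConj w x → x * x = 1 := by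
    intro w x hw hx
    obtain ⟨c, hc⟩ := isConj_iff.mp hx
    rw [← hc, ← sq, conj_pow, ← hw, pow_orderOf_eq_one, mul_one, mul_inv_cancel]
  -- only products of elements of `H` contribute
  have hres : ∑ p ∈ P, Cfsg.extendByZero H φ (p.1 * p.2) = ∑ p ∈ Q, φ (p.1 * p.2) := by
    symm
    refine Finset.sum_bij_ne_zero (fun p _ _ => ((p.1 : G), (p.2 : G))) ?_ ?_ ?_ ?_
    · intro p hp _
      simpa [P, Q] using hp
    · intro p _ _ q _ _ hpq
      simp only [Prod.mk.injEq] at hpq
      exact Prod.ext (Subtype.ext hpq.1) (Subtype.ext hpq.2)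
    · rintro ⟨x, y⟩ hp hne
      simp only [P, Finset.mem_filter, Finset.mem_univ, true_and] at hp
      have hxy : x * y ∈ S := by
        by_contra hns
        apply hne
        by_cases hm : x * y ∈ H
        · rw [Lib.Chars.extendByZero_of_mem φ hm]
          exact hφS _ hns
        · exact Lib.Chars.extendByZero_of_not_mem φ hm
      have hxi : x⁻¹ = x := inv_eq_of_mul_eq_one_right (hsq hu hp.1)
      have hyi : y⁻¹ = y := inv_eq_of_mul_eq_one_right (hsq hv hp.2)
      have hyx : y * x ∈ S := by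
        have := hinv _ hxy
        rwa [mul_inv_rev, hxi, hyi] at this
      have hxH : x ∈ H := by
        by_contra hx
        refine hTI x hx _ hxy ?_
        rwa [hxi, ← mul_assoc, hsq hu hp.1, one_mul]
      have hyH : y ∈ H := by
        by_contra hy
        refine hTI y hy _ hxy ?_
        rwa [hyi, mul_assoc, mul_assoc, hsq hv hp.2, mul_one]
      refine ⟨(⟨x, hxH⟩, ⟨y, hyH⟩), by simpa [Q] using hp, ?_, rfl⟩
      rw [Lib.Chars.extendByZero_of_mem φ (H.mul_mem hxH hyH)] at hne
      exact hne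
    · intro p _ _
      exact (Lib.Chars.extendByZero_coe H φ (p.1 * p.2)).symm
  -- conjugation permutes the pairs
  have hconj : ∀ g : G, ∑ p ∈ P, Cfsg.extendByZero H φ (g⁻¹ * (p.1 * p.2) * g)
      = ∑ p ∈ P, Cfsg.extendByZero H φ (p.1 * p.2) := by
    intro g
    refine Finset.sum_equiv ((MulAut.conj g⁻¹).toEquiv.prodCongr (MulAut.conj g⁻¹).toEquiv) ?_ ?_
    · rintro ⟨x, y⟩
      have h : ∀ w z : G, IsConj w z ↔ IsConj w (g⁻¹ * z * g) := fun w z => by
        have hc : IsConj (g⁻¹ * z * g) z := isConj_iff.mpr ⟨g, by simp [mul_assoc]⟩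
        exact ⟨fun e => e.trans hc.symm, fun e => e.trans hc⟩
      simp only [P, Finset.mem_filter, Finset.mem_univ, true_and, Equiv.prodCongr_apply,
        Prod.map_apply, MulEquiv.toEquiv_eq_coe, EquivLike.coe_coe, MulAut.conj_apply, inv_inv]
      exact and_congr (h u x) (h v y)
    · rintro ⟨x, y⟩ _
      simp [mul_assoc]
  simp only [Cfsg.indFun]
  rw [← Finset.mul_sum, Finset.sum_comm, Finset.sum_congr rfl fun g _ => hconj g, hres,
    Finset.sum_const, Finset.card_univ, Fintype.card_eq_nat_card, nsmul_eq_mul, ← mul_assoc,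
    ← H.card_mul_index, Nat.cast_mul, inv_mul_cancel_left₀ (Nat.cast_ne_zero.mpr Nat.card_pos.ne')]

end Cfsg.Agent.S0849
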