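import Cfsg.Statements.S0851
import Cfsg.Agent.Lib.TIFrob.Induced
import Cfsg.Agent.Lib.Coherence.Virtual

set_option autoImplicit false
open Cfsg

namespace Cfsg.Agent.S0851

open Cfsg.Agent.Lib

/-- A family of differences of norm two with inner products one has a common constituent. -/
theorem exists_common {G : Type*} [Group G] [Fintype G] {ι : Type*} [DecidableEq ι] (s : Finset ι)
    (μ ν : ι → Cfsg.IrrCharacter G) (hne : ∀ i ∈ s, μ i ≠ ν i)
    (h : ∀ i ∈ s, ∀ j ∈ s, i ≠ j →
      Cfsg.classInner ((μ i : G → ℂ) - (ν i : G → ℂ)) ((μ j : G → ℂ) - (ν j : G → ℂ)) = 1) :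
    (∀ i ∈ s, ∀ j ∈ s, i ≠ j → μ i = μ j ∧ ν i ≠ ν j) ∨
      (∀ i ∈ s, ∀ j ∈ s, i ≠ j → ν i = ν j ∧ μ i ≠ μ j) := by
  classical
  have key : ∀ i ∈ s, ∀ j ∈ s, i ≠ j → (μ i = μ j ∧ ν i ≠ ν j) ∨ (ν i = ν j ∧ μ i ≠ μ j) := by
    intro i hi j hj hij
    have := h i hi j hj hij
    simp only [Chars.classInner_sub_left, Chars.classInner_sub_right, Chars.classInner_irr] at this
    by_cases a : μ i = μ j <;> by_cases b : ν i = ν j
    · have c : μ i ≠ ν j := fun e => hne i hi (e.trans b.symm)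
      have d : ν i ≠ μ j := fun e => hne i hi (a.trans e.symm)
      rw [if_pos a, if_pos b, if_neg c, if_neg d] at this
      norm_num at this
    · exact Or.inl ⟨a, b⟩
    · exact Or.inr ⟨b, a⟩
    · exfalso
      rw [if_neg a, if_neg b] at this
      split_ifs at this <;> norm_num at this
  by_contra hcon
  push Not at hcon
  obtain ⟨⟨i, hi, j, hj, hij, hA⟩, k, hk, l, hl, hkl, hB⟩ := hcon
  have h1 : ν i = ν j ∧ μ i ≠ μ j :=
    (key i hi j hj hij).resolve_left fun e => e.2 (hA e.1)
  have h2 : μ k = μ l ∧ ν k ≠ ν l :=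
    (key k hk l hl hkl).resolve_right fun e => e.2 (hB e.1)
  -- any third index agrees with `i` in the second components
  have all : ∀ m ∈ s, ν m = ν i := by
    intro m hm
    by_contra hmi
    have hmi' : m ≠ i := fun e => hmi (by rw [e])
    have hmj' : m ≠ j := fun e => hmi (by rw [e, h1.1])
    have a1 := ((key m hm i hi hmi').resolve_right fun e => hmi e.1).1
    have a2 := ((key m hm j hj hmj').resolve_right fun e => hmi (e.1.trans h1.1.symm)).1
    exact h1.2 (a1.symm.trans a2)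
  exact h2.2 ((all k hk).trans (all l hl).symm)

/-- Let K be a subgroup of the finite group G that meets each conjugate by an element outside its normalizer N trivially, is properly contained in N, and contains the centralizer of each of its non-identity elements (a T.I. subgroup with Frobenius normalizer). Suppose K is abelian, let e be the index of K in N, and call an irreducible character of N relevant when it takes at some element of K a value different from its degree. Then either there is exactly one relevant character and K is an elementary abelian p-group of order e + 1 for some prime p, or there are a sign ε and an injective map f from the relevant characters to the irreducible characters of G such that inducing χ - ξ to G gives ε (f χ - f ξ) for all relevant χ and ξ. -/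
theorem result {G : Type*} [Group G] [Fintype G] (K : Subgroup G) (hTI : ∀ g : G, g ∉ Subgroup.normalizer (K : Set G) → ∀ k ∈ K, g * k * g⁻¹ ∈ K → k = 1) (hlt : K < Subgroup.normalizer (K : Set G)) (hC : ∀ k ∈ K, k ≠ 1 → Subgroup.centralizer ({k} : Set G) ≤ K) (hab : ∀ a ∈ K, ∀ b ∈ K, a * b = b * a) : (Nat.card {χ : Cfsg.IrrCharacter (Subgroup.normalizer (K : Set G)) // ∃ k : Subgroup.normalizer (K : Set G), (k : G) ∈ K ∧ (χ : ↥(Subgroup.normalizer (K : Set G)) → ℂ) k ≠ (χ : ↥(Subgroup.normalizer (K : Set G)) → ℂ) 1} = 1 ∧ ∃ p : ℕ, p.Prime ∧ Cfsg.IsElementaryAbelian p K ∧ Nat.card K = (K.subgroupOf (Subgroup.normalizer (K : Set G))).index + 1) ∨ ∃ (ε : ℂ) (f : {χ : Cfsg.IrrCharacter (Subgroup.normalizer (K : Set G)) // ∃ k : Subgroup.normalizer (K : Set G), (k : G) ∈ K ∧ (χ : ↥(Subgroup.normalizer (K : Set G)) → ℂ) k ≠ (χ : ↥(Subgroup.normalizer (K : Set G)) → ℂ) 1} → Cfsg.IrrCharacter G), (ε = 1 ∨ ε = -1) ∧ Function.Injective f ∧ ∀ χ ξ, Cfsg.indFun (Subgroup.normalizer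 (K : Set G)) ((χ.1 : ↥(Subgroup.normalizer (K : Set G)) → ℂ) - (ξ.1 : ↥(Subgroup.normalizer (K : Set G)) → ℂ)) = ε • ((f χ : G → ℂ) - (f ξ : G → ℂ)) := by
  classical
  set N := Subgroup.normalizer (K : Set G) with hN
  have : Fintype N := Fintype.ofFinite N
  set K' := K.subgroupOf N
  have hKn : K'.Normal := Subgroup.normal_in_normalizer
  have hC' := TIFrob.centralizer_le_subgroupOf K hC
  have hcomm : IsMulCommutative K' :=
    ⟨⟨fun a b => Subtype.ext (Subtype.ext (hab _ a.2 _ b.2))⟩⟩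
  let ι := {χ : Cfsg.IrrCharacter N // ∃ k : N, (k : G) ∈ K ∧ (χ : N → ℂ) k ≠ (χ : N → ℂ) 1}
  have hrel : ∀ χ : ι, TIFrob.Relevant K' ((χ.1 : N → ℂ)) := fun χ => χ.2
  have hdeg : ∀ χ : ι, (χ.1 : N → ℂ) 1 = (K'.index : ℂ) := fun χ =>
    TIFrob.degree_of_comm hC' χ.1 (hrel χ)
  rcases subsingleton_or_nontrivial ι with hsub | hnt
  · -- at most one relevant character
    rcases isEmpty_or_nonempty ι with hemp | ⟨⟨χ₀⟩⟩
    · exact Or.inr ⟨1, fun χ => hemp.elim χ, Or.inl rfl, fun χ => hemp.elim χ, fun χ => hemp.elim χ⟩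
    left
    refine ⟨Nat.card_eq_one_iff_unique.mpr ⟨hsub, ⟨χ₀⟩⟩, ?_⟩
    have hsum := TIFrob.sum_relevant hC' K'.one_mem
    have hfil : (Finset.univ.filter fun χ : Cfsg.IrrCharacter N => TIFrob.Relevant K' (χ : N → ℂ))
        = {χ₀.1} := by
      ext χ
      simp only [Finset.mem_filter, Finset.mem_univ, true_and, Finset.mem_singleton]
      refine ⟨fun hχ => congrArg Subtype.val (Subsingleton.elim (α := ι) ⟨χ, hχ⟩ χ₀), ?_⟩
      rintro rfl
      exact hrel χ₀
    rw [if_pos rfl, hfil, Finset.sum_singleton, hdeg χ₀, ← K'.card_mul_index, Nat.cast_mul] at hsum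
    have he0 : (K'.index : ℂ) ≠ 0 := Nat.cast_ne_zero.mpr Subgroup.index_ne_zero_of_finite
    have hcard' : Nat.card K' = K'.index + 1 := by
      have : (Nat.card K' : ℂ) = (K'.index : ℂ) + 1 :=
        mul_right_cancel₀ he0 (by linear_combination -hsum)
      exact_mod_cast this
    have hKK : Nat.card K' = Nat.card K :=
      Nat.card_congr (Subgroup.subgroupOfEquivOfLe Subgroup.le_normalizer).toEquiv
    have hidx : 0 < K'.index := Nat.pos_of_ne_zero Subgroup.index_ne_zero_of_finite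
    -- transitivity on the non-identity elements
    have htrans : ∀ k l : N, k ∈ K' → l ∈ K' → k ≠ 1 → l ≠ 1 → IsConj k l := by
      intro k l hk hl hk1 hl1
      have hcen : Subgroup.centralizer ({k} : Set N) = K' := by
        refine le_antisymm (hC' k hk hk1) fun x hx => ?_
        rw [Subgroup.mem_centralizer_singleton_iff]
        exact Subtype.ext (hab _ hx _ hk)
      let A := Finset.univ.filter (IsConj k)
      let B := Finset.univ.filter fun x : N => x ∈ K' ∧ x ≠ 1
      have hAB : A ⊆ B := fun x hx => by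
        obtain ⟨c, hc⟩ := isConj_iff.mp (Finset.mem_filter.mp hx).2
        refine Finset.mem_filter.mpr ⟨Finset.mem_univ _, hc ▸ hKn.conj_mem k hk c, ?_⟩
        rw [← hc]
        simpa using hk1
      have hAcard : A.card = K'.index := by
        rw [← hcen, ← Lib.Chars.card_conjClass_eq_index, Nat.card_eq_fintype_card,
          Fintype.card_subtype]
      have hBcard : B.card + 1 = K'.index + 1 := by
        rw [← hcard', Nat.card_eq_fintype_card (α := K'), Fintype.card_subtype,
          ← Finset.card_erase_add_one (s := Finset.univ.filter fun x : N => x ∈ K') (a := 1)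
            (by simp)]
        congr 2
        ext x
        simp [B, and_comm]
      have heq := Finset.eq_of_subset_of_card_le hAB (by omega)
      have hlB : l ∈ B := Finset.mem_filter.mpr ⟨Finset.mem_univ _, hl, hl1⟩
      rw [← heq] at hlB
      exact (Finset.mem_filter.mp hlB).2
    obtain ⟨p, hp, hpd⟩ := Nat.exists_prime_and_dvd (n := Nat.card K') (by omega)
    have : Fact p.Prime := ⟨hp⟩
    obtain ⟨x, hx⟩ := exists_prime_orderOf_dvd_card' (G := K') p hpd
    refine ⟨p, hp, ⟨⟨⟨fun a b => Subtype.ext (hab _ a.2 _ b.2)⟩⟩, fun a ha => ?_⟩, hKK ▸ hcard'⟩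
    by_cases ha1 : a = 1
    · rw [ha1, one_pow]
    have hx1 : (x : N) ≠ 1 := fun e => hp.ne_one (by
      rw [← hx, ← Subgroup.orderOf_coe, e, orderOf_one])
    obtain ⟨c, hc⟩ := isConj_iff.mp (htrans x ⟨a, Subgroup.le_normalizer ha⟩ x.2 ha hx1
      fun e => ha1 (congrArg Subtype.val e))
    have hxp : (x : N) ^ p = 1 := by
      rw [← hx, ← Subgroup.orderOf_coe, pow_orderOf_eq_one]
    have := congrArg (fun y : N => ((y ^ p : N) : G)) hc
    simp only [conj_pow, hxp, mul_one, mul_inv_cancel, SubmonoidClass.coe_pow,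
      OneMemClass.coe_one] at this
    exact this.symm
  · -- at least two relevant characters
    right
    obtain ⟨χ₁, χ₂, h12⟩ := exists_pair_ne ι
    let D : ι → (N → ℂ) := fun χ => (χ₁.1 : N → ℂ) - (χ.1 : N → ℂ)
    have hDK : ∀ χ, ∀ x : N, (x : G) ∉ K → D χ x = 0 := fun χ x hx => by
      simp [D, TIFrob.apply_eq_zero hC' _ (hrel χ₁) (x := x) hx,
        TIFrob.apply_eq_zero hC' _ (hrel χ) (x := x) hx]
    have hD1 : ∀ χ, D χ 1 = 0 := fun χ => by simp [D, hdeg]
    have hDcl : ∀ χ, Cfsg.IsClassFunction N (D χ) := fun χ =>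
      Chars.isClassFunction_sub (Chars.irr_isClassFunction _) (Chars.irr_isClassFunction _)
    have hiso : ∀ χ ξ, Cfsg.classInner (Cfsg.indFun N (D χ)) (Cfsg.indFun N (D ξ))
        = Cfsg.classInner (D χ) (D ξ) := fun χ ξ =>
      TIFrob.classInner_indFun_indFun K hTI hlt hC (hDcl ξ) (hDK ξ) (hD1 ξ)
    have hDD : ∀ χ ξ : ι, χ ≠ χ₁ → ξ ≠ χ₁ → Cfsg.classInner (D χ) (D ξ)
        = 1 + if χ = ξ then 1 else 0 := fun χ ξ hχ hξ => by
      simp only [D, Chars.classInner_sub_left, Chars.classInner_sub_right, Chars.classInner_irr,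
        Subtype.val_inj, if_neg hχ, if_neg hξ.symm, if_true]
      ring
    have hex : ∀ χ : ι, ∃ μ ν : Cfsg.IrrCharacter G, χ ≠ χ₁ →
        μ ≠ ν ∧ Cfsg.indFun N (D χ) = (μ : G → ℂ) - (ν : G → ℂ) := by
      intro χ
      by_cases hχ : χ = χ₁
      · exact ⟨Chars.trivialIrr G, Chars.trivialIrr G, fun h => absurd hχ h⟩
      have hv : Cfsg.IsGeneralizedCharacter G (Cfsg.indFun N (D χ)) :=
        ⟨_, _, Chars.isCharacter_indFun N (Chars.irr_isCharacter χ₁.1),
          Chars.isCharacter_indFun N (Chars.irr_isCharacter χ.1), Chars.indFun_sub N _ _⟩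
      obtain ⟨μ, ν, h1, h2⟩ := Coherence.norm_two_eq_sub hv
        (by rw [hiso, hDD χ χ hχ hχ, if_pos rfl]; norm_num)
        (by rw [Chars.indFun_one_eq, hD1, mul_zero])
      exact ⟨μ, ν, fun _ => ⟨h1, h2⟩⟩
    choose μ ν hμν using hex
    have hcases := exists_common (Finset.univ.erase χ₁) μ ν
      (fun i hi => (hμν i (Finset.mem_erase.mp hi).1).1) (fun i hi j hj hij => by
        rw [← (hμν i (Finset.mem_erase.mp hi).1).2, ← (hμν j (Finset.mem_erase.mp hj).1).2, hiso,
          hDD i j (Finset.mem_erase.mp hi).1 (Finset.mem_erase.mp hj).1, if_neg hij, add_zero])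
    have hm : ∀ {χ}, χ ≠ χ₁ → χ ∈ Finset.univ.erase χ₁ := fun h =>
      Finset.mem_erase.mpr ⟨h, Finset.mem_univ _⟩
    -- assemble a map from a sign and the two components
    have build : ∀ (ε : ℂ) (μ ν : ι → Cfsg.IrrCharacter G), (ε = 1 ∨ ε = -1) →
        (∀ χ, χ ≠ χ₁ → μ χ ≠ ν χ ∧
          Cfsg.indFun N (D χ) = ε • ((μ χ : G → ℂ) - (ν χ : G → ℂ))) →
        (∀ i ∈ Finset.univ.erase χ₁, ∀ j ∈ Finset.univ.erase χ₁, i ≠ j → μ i = μ j ∧ ν i ≠ ν j) →
        ∃ (ε : ℂ) (f : ι → Cfsg.IrrCharacter G), (ε = 1 ∨ ε = -1) ∧ Function.Injective f ∧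
          ∀ χ ξ, Cfsg.indFun N ((χ.1 : N → ℂ) - (ξ.1 : N → ℂ))
            = ε • ((f χ : G → ℂ) - (f ξ : G → ℂ)) := by
      intro ε μ ν hε hμν hA
      let f : ι → Cfsg.IrrCharacter G := fun χ => if χ = χ₁ then μ χ₂ else ν χ
      have hμc : ∀ χ, χ ≠ χ₁ → μ χ = μ χ₂ := fun χ hχ => by
        by_cases h : χ = χ₂
        · rw [h]
        · exact (hA χ (hm hχ) χ₂ (hm h12.symm) h).1
      have hf : ∀ χ, Cfsg.indFun N (D χ) = ε • ((f χ₁ : G → ℂ) - (f χ : G → ℂ)) := by
        intro χ
        by_cases hχ : χ = χ₁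
        · subst hχ
          simp [D, Chars.indFun_zero]
        · simp only [f, if_pos, if_neg hχ]
          rw [(hμν χ hχ).2, hμc χ hχ]
      refine ⟨ε, f, hε, ?_, fun χ ξ => ?_⟩
      · intro χ ξ h
        by_contra hne
        by_cases hχ : χ = χ₁ <;> by_cases hξ : ξ = χ₁
        · exact hne (hχ.trans hξ.symm)
        · simp only [f, if_pos hχ, if_neg hξ] at h
          exact (hμν ξ hξ).1 ((hμc ξ hξ).trans h)
        · simp only [f, if_neg hχ, if_pos hξ] at h
          exact (hμν χ hχ).1 ((hμc χ hχ).trans h.symm)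
        · simp only [f, if_neg hχ, if_neg hξ] at h
          exact (hA χ (hm hχ) ξ (hm hξ) hne).2 h
      · have : (χ.1 : N → ℂ) - (ξ.1 : N → ℂ) = D ξ - D χ := by simp [D]
        rw [this, Chars.indFun_sub, hf, hf, ← smul_sub]
        congr 1
        abel
    rcases hcases with hA | hB
    · exact build 1 μ ν (Or.inl rfl) (fun χ hχ => ⟨(hμν χ hχ).1, by
        rw [(hμν χ hχ).2, one_smul]⟩) hA
    · exact build (-1) ν μ (Or.inr rfl) (fun χ hχ => ⟨(hμν χ hχ).1.symm, by
        rw [(hμν χ hχ).2, neg_one_smul, neg_sub]⟩) hB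

end Cfsg.Agent.S0851
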