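import Cfsg.Statements.S0852
import Cfsg.Agent.Lib.TIFrob.Coherent

set_option autoImplicit false
open Cfsg

namespace Cfsg.Agent.S0852

/-- Let K be a subgroup of the finite group G that meets each conjugate by an element outside its normalizer N trivially, is properly contained in N, and contains the centralizer of each of its non-identity elements (a T.I. subgroup with Frobenius normalizer). Let S be the set of irreducible characters of N taking at some element of K a value different from their degree, suppose S has at least two members, and let star be a linear isometry on the integer span of S into the generalized characters of G that agrees with induction on the members vanishing at the identity (so S is coherent, with star as the extending isometry). Then an irreducible character ψ of G is of the form star χ or -star χ for some χ in S if and only if ψ is not constant on the non-identity elements of K. -/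
theorem result {G : Type*} [Group G] [Fintype G] (K : Subgroup G) (hTI : ∀ g : G, g ∉ Subgroup.normalizer (K : Set G) → ∀ k ∈ K, g * k * g⁻¹ ∈ K → k = 1) (hlt : K < Subgroup.normalizer (K : Set G)) (hC : ∀ k ∈ K, k ≠ 1 → Subgroup.centralizer ({k} : Set G) ≤ K) [Fintype ↥(Subgroup.normalizer (K : Set G))] (S : Set (↥(Subgroup.normalizer (K : Set G)) → ℂ)) (hS : S = {χ : ↥(Subgroup.normalizer (K : Set G)) → ℂ | Cfsg.IsIrrCharacter ↥(Subgroup.normalizer (K : Set G)) χ ∧ ∃ k : ↥(Subgroup.normalizer (K : Set G)), (k : G) ∈ K ∧ χ k ≠ χ 1}) (htwo : ∃ χ ∈ S, ∃ ξ ∈ S, χ ≠ ξ) (star : (↥(Subgroup.normalizer (K : Set G)) → ℂ) → (G → ℂ)) (hstar : Cfsg.IsLinearIsometryOn (Cfsg.zspan S) star) (hext : ∀ α ∈ Cfsg.zspanOn S ({1}ᶜ : Set ↥(Subgroup.normalizer (K : Set G))), star α = Cfsg.indFun (Subgroup.normalizer (K : Set G)) α) (ψ : G → ℂ) (hψ : Cfsg.IsIrrCharacter G ψ) : (∃ χ ∈ S, ψ = star χ ∨ ψ = -star χ) ↔ ∃ a ∈ K, ∃ b ∈ K, a ≠ 1 ∧ b ≠ 1 ∧ ψ a ≠ ψ b := by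
  classical
  have hKn : (K.subgroupOf (Subgroup.normalizer (K : Set G))).Normal := Subgroup.normal_in_normalizer
  have hC' := Lib.TIFrob.centralizer_le_subgroupOf K hC
  have hS' : ∀ χ, χ ∈ S ↔ Cfsg.IsIrrCharacter (Subgroup.normalizer (K : Set G)) χ ∧
      Lib.TIFrob.Relevant (K.subgroupOf (Subgroup.normalizer (K : Set G))) χ := fun χ => by rw [hS]; rfl
  obtain ⟨χ₀, h0, ξ₀, h0', hne⟩ := htwo
  constructor
  · rintro ⟨χ, hχS, hψχ⟩
    obtain ⟨hχi, hχr⟩ := (hS' χ).mp hχS
    obtain ⟨ε, φ, C, hε, -, hval, -⟩ :=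
      Lib.TIFrob.exists_const hC hS' hstar hext ⟨χ, hχi⟩ hχr
    obtain ⟨ξ, hξ, hξne⟩ : ∃ ξ : Cfsg.IrrCharacter (Subgroup.normalizer (K : Set G)),
        Lib.TIFrob.Relevant (K.subgroupOf (Subgroup.normalizer (K : Set G))) (ξ : (Subgroup.normalizer (K : Set G)) → ℂ) ∧ (⟨χ, hχi⟩ : Cfsg.IrrCharacter (Subgroup.normalizer (K : Set G))) ≠ ξ := by
      by_cases he : χ = χ₀
      · exact ⟨⟨ξ₀, ((hS' _).mp h0').1⟩, ((hS' _).mp h0').2,
          fun e => hne (he ▸ congrArg Subtype.val e)⟩
      · exact ⟨⟨χ₀, ((hS' _).mp h0).1⟩, ((hS' _).mp h0).2, fun e => he (congrArg Subtype.val e)⟩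
    obtain ⟨k, hk, l, hl, hk1, hl1, hkl⟩ :=
      Lib.TIFrob.not_constant hC' ⟨χ, hχi⟩ ξ hχr hξ hξne
    refine ⟨k, hk, l, hl, fun e => hk1 (Subtype.ext e), fun e => hl1 (Subtype.ext e), fun e => hkl ?_⟩
    have e' : star χ k = star χ l := by
      rcases hψχ with h | h <;> rw [h] at e
      · exact e
      · simpa using e
    have h1 : star χ k - χ k = C := hval k hk hk1
    have h2 : star χ l - χ l = C := hval l hl hl1
    show χ k = χ l
    linear_combination h2 - h1 + e'
  · rintro ⟨a, ha, b, hb, ha1, hb1, hab⟩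
    by_contra hno
    push Not at hno
    exact hab (Lib.TIFrob.constant_of_notMem hC hS' hstar hext ⟨χ₀, ((hS' _).mp h0).1⟩
      ((hS' _).mp h0).2 ⟨ψ, hψ⟩ hno (k := ⟨a, Subgroup.le_normalizer ha⟩)
      (l := ⟨b, Subgroup.le_normalizer hb⟩) ha hb (fun e => ha1 (congrArg Subtype.val e))
      (fun e => hb1 (congrArg Subtype.val e)))

end Cfsg.Agent.S0852
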