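import Cfsg.Statements.S0855
import Cfsg.Agent.Lib.KGV.Basic
import Cfsg.Agent.Lib.Clifford.Restriction
import Cfsg.Agent.Lib.Chars.Ops
import Cfsg.Agent.Lib.Chars.Induced

set_option autoImplicit false
open Cfsg

namespace Cfsg.Agent.S0855

open Cfsg.Agent.Lib

/-- The constituents below characters of prime power degree have prime power degree. -/
theorem exists_pow_degree {G : Type*} [Group G] [Finite G] {p : ℕ} (hp : p.Prime)
    (h : ∀ χ : Cfsg.IrrCharacter G, ∃ k : ℕ, (χ : G → ℂ) 1 = (p : ℂ) ^ k)
    (K : Subgroup G) [K.Normal] (θ : Cfsg.IrrCharacter K) :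
    ∃ k : ℕ, (θ : K → ℂ) 1 = (p : ℂ) ^ k := by
  classical
  cases nonempty_fintype G
  obtain ⟨m, hm0, hm⟩ := Chars.isIrrCharacter_exists_degree_pos θ.2
  have hF := Chars.isClassFunction_indFun K (θ : K → ℂ)
  obtain ⟨χ, hχ⟩ : ∃ χ : Cfsg.IrrCharacter G,
      Cfsg.classInner (Cfsg.indFun K (θ : K → ℂ)) (χ : G → ℂ) ≠ 0 := by
    by_contra! h0
    have := congrFun (Chars.isClassFunction_eq_sum_classInner hF) 1
    rw [Chars.indFun_one_eq, hm, Finset.sum_apply,
      Finset.sum_eq_zero (fun χ _ => by simp [h0 χ])] at this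
    exact mul_ne_zero (Nat.cast_ne_zero.mpr K.index_ne_zero_of_finite)
      (Nat.cast_ne_zero.mpr hm0.ne') this
  rw [Chars.classInner_indFun_left K _ _ (Chars.irr_isClassFunction χ)] at hχ
  have hθχ : Cfsg.classInner (Clifford.resFun K (χ : G → ℂ)) (θ : K → ℂ) ≠ 0 := fun h0 => hχ (by
    rw [← Chars.conj_classInner]
    change (starRingEnd ℂ) (Cfsg.classInner (Clifford.resFun K (χ : G → ℂ)) (θ : K → ℂ)) = 0
    rw [h0, map_zero])
  obtain ⟨e, he⟩ := Clifford.classInner_irr_nat
    (Chars.isCharacter_restrict K (Chars.irr_isCharacter χ)) θ.2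
  let T : Subgroup G :=
    { carrier := {g | Clifford.conjFun g (θ : K → ℂ) = θ}
      one_mem' := Clifford.conjFun_one _
      mul_mem' := fun {a b} (ha : Clifford.conjFun a _ = _) (hb : Clifford.conjFun b _ = _) => by
        show Clifford.conjFun _ _ = _
        rw [Clifford.conjFun_mul, ha, hb]
      inv_mem' := fun {a} (ha : Clifford.conjFun a _ = _) => by
        show Clifford.conjFun _ _ = _
        conv_lhs => rw [← ha, ← Clifford.conjFun_mul, mul_inv_cancel, Clifford.conjFun_one] }
  have hdeg := Clifford.apply_one_eq χ.2 θ.2 hθχ T fun g => Iff.rfl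
  obtain ⟨k, hk⟩ := h χ
  change _ = Cfsg.classInner (fun n : K => (χ : G → ℂ) n) (θ : K → ℂ) * _ at hdeg
  rw [hk, he, hm] at hdeg
  have hdeg' : p ^ k = e * (T.index * m) := by exact_mod_cast hdeg
  obtain ⟨j, -, rfl⟩ := (Nat.dvd_prime_pow hp).mp
    (Dvd.intro_left (e * T.index) (by rw [hdeg', mul_assoc]))
  exact ⟨j, by rw [hm]; push_cast; rfl⟩

/-- A group with all degrees powers of `p` and no `p`-quotient in its abelianisation has order
prime to `p`. -/
theorem coprime_card {K : Type*} [Group K] [Finite K] {p : ℕ} (hp : p.Prime)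
    (h : ∀ χ : Cfsg.IrrCharacter K, ∃ k : ℕ, (χ : K → ℂ) 1 = (p : ℂ) ^ k)
    (hab : ¬ p ∣ (commutator K).index) : ¬ p ∣ Nat.card K := by
  classical
  cases nonempty_fintype K
  intro hdvd
  apply hab
  choose k hk using h
  have hsum : ∑ χ : Cfsg.IrrCharacter K, (p ^ k χ) ^ 2 = Nat.card K := by
    have := Chars.sum_degree_sq (G := K)
    simp only [hk] at this
    exact_mod_cast this
  have hiff : ∀ χ : Cfsg.IrrCharacter K, k χ = 0 ↔ (χ : K → ℂ) 1 = 1 := fun χ => by
    rw [hk χ]
    refine ⟨fun h => by rw [h, pow_zero], fun h => ?_⟩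
    have h' : p ^ k χ = 1 := by exact_mod_cast h
    exact (Nat.pow_eq_one.mp h').resolve_left hp.ne_one
  rw [← Chars.card_linear_irr, Nat.card_eq_fintype_card, Fintype.card_subtype]
  rw [← hsum, ← Finset.sum_filter_add_sum_filter_not Finset.univ fun χ => k χ = 0] at hdvd
  have h1 : ∑ χ ∈ Finset.univ.filter (fun χ => k χ = 0), (p ^ k χ) ^ 2
      = (Finset.univ.filter fun χ : Cfsg.IrrCharacter K => (χ : K → ℂ) 1 = 1).card := by
    rw [Finset.sum_congr rfl (g := fun _ => 1) fun χ hχ => by
      rw [(Finset.mem_filter.mp hχ).2]; simp, Finset.sum_const, smul_eq_mul, mul_one,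
      Finset.filter_congr fun χ _ => hiff χ]
  rw [h1] at hdvd
  exact (Nat.dvd_add_left (Finset.dvd_sum fun χ hχ => by
    rw [← pow_mul]
    exact dvd_pow_self p (mul_ne_zero (Finset.mem_filter.mp hχ).2 two_ne_zero))).mp hdvd

/-- For a finite group G and a prime p: every irreducible character of G has degree a power of p if and only if G has an abelian normal subgroup whose order is prime to p and whose index is a power of p. -/
theorem result {G : Type*} [Group G] [Finite G] (p : ℕ) (hp : p.Prime) : (∀ χ : Cfsg.IrrCharacter G, ∃ k : ℕ, (χ : G → ℂ) 1 = (p : ℂ) ^ k) ↔ ∃ A : Subgroup G, A.Normal ∧ (∀ a ∈ A, ∀ b ∈ A, a * b = b * a) ∧ Nat.Coprime (Nat.card A) p ∧ ∃ k : ℕ, A.index = p ^ k := by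
  constructor
  · intro h
    have : Fact p.Prime := ⟨hp⟩
    let K : Subgroup G := Subgroup.closure {g : G | Nat.Coprime (orderOf g) p}
    have hKn : K.Normal := ⟨fun x hx g => by
      induction hx using Subgroup.closure_induction with
      | mem x hx =>
        refine Subgroup.subset_closure ?_
        show Nat.Coprime (orderOf (g * x * g⁻¹)) p
        rwa [show g * x * g⁻¹ = MulAut.conj g x from rfl, MulEquiv.orderOf_eq]
      | one => simp
      | mul x y _ _ hx hy => rw [← conj_mul]; exact K.mul_mem hx hy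
      | inv x _ hx => rw [← conj_inv]; exact K.inv_mem hx⟩
    have hmemK : ∀ {g : G}, Nat.Coprime (orderOf g) p → g ∈ K := fun hg => Subgroup.subset_closure hg
    -- the quotient is a `p`-group
    have hquot : IsPGroup p (G ⧸ K) := by
      intro q
      induction q using QuotientGroup.induction_on with | H g =>
      obtain ⟨k, m, hm, hkm⟩ := Nat.exists_eq_pow_mul_and_not_dvd (orderOf_pos g).ne' p hp.ne_one
      refine ⟨k, ?_⟩
      rw [← QuotientGroup.mk_pow, QuotientGroup.eq_one_iff]
      refine hmemK ?_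
      rw [orderOf_pow' _ (pow_ne_zero _ hp.ne_zero), hkm, Nat.gcd_mul_right_left,
        Nat.mul_div_cancel_left _ (pow_pos hp.pos _)]
      exact ((hp.coprime_iff_not_dvd).mpr hm).symm
    obtain ⟨k, hk⟩ := hquot.exists_card_eq
    have hθ := exists_pow_degree hp h K
    -- the abelianisation of `K` has order prime to `p`
    have hab : ¬ p ∣ (commutator K).index := by
      intro hd
      obtain ⟨x, hx⟩ := exists_prime_orderOf_dvd_card' (G := Abelianization K) p (by
        rwa [Subgroup.index_eq_card] at hd)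
      have hall : ∀ g : G, ∀ hg : g ∈ K, Nat.Coprime (orderOf (Abelianization.of (⟨g, hg⟩ : K))) p := by
        intro g hg
        induction hg using Subgroup.closure_induction with
        | mem g hg =>
          refine Nat.Coprime.coprime_dvd_left (orderOf_map_dvd _ _) ?_
          rwa [Subgroup.orderOf_mk]
        | one =>
          rw [show (⟨1, K.one_mem⟩ : K) = 1 from rfl, map_one, orderOf_one]
          exact Nat.coprime_one_left p
        | mul a b ha hb iha ihb =>
          rw [show (⟨a * b, K.mul_mem ha hb⟩ : K) = ⟨a, ha⟩ * ⟨b, hb⟩ from rfl, map_mul]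
          exact Nat.Coprime.coprime_dvd_left ((Commute.all _ _).orderOf_mul_dvd_lcm.trans
            (Nat.lcm_dvd_mul _ _)) (iha.mul_left ihb)
        | inv a ha iha =>
          rw [show (⟨a⁻¹, K.inv_mem ha⟩ : K) = ⟨a, ha⟩⁻¹ from rfl, map_inv, orderOf_inv]
          exact iha
      obtain ⟨⟨g, hg⟩, rfl⟩ := QuotientGroup.mk_surjective x
      have := hall g hg
      rw [show Abelianization.of (⟨g, hg⟩ : K) = QuotientGroup.mk ⟨g, hg⟩ from rfl] at this
      erw [hx] at this
      rw [Nat.coprime_self] at this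
      exact hp.ne_one this
    have hcard : ¬ p ∣ Nat.card K := coprime_card hp hθ hab
    refine ⟨K, hKn, ?_, ((hp.coprime_iff_not_dvd).mpr hcard).symm, k, hk⟩
    -- all characters of `K` are linear
    cases nonempty_fintype K
    have hlin : ∀ θ : Cfsg.IrrCharacter K, (θ : K → ℂ) 1 = 1 := fun θ => by
      obtain ⟨j, hj⟩ := hθ θ
      obtain ⟨d, -, hd, hdvd⟩ := Chars.irr_degree_dvd_card θ
      rw [hj] at hd
      have hd' : p ^ j = d := by exact_mod_cast hd
      rcases Nat.eq_zero_or_pos j with rfl | hj0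
      · rw [hj, pow_zero]
      · exact absurd ((dvd_pow_self p hj0.ne').trans (hd' ▸ hdvd)) hcard
    intro a ha b hb
    have hidx : (commutator K).index = Nat.card K := by
      rw [← Chars.card_linear_irr, Nat.card_congr (Equiv.subtypeUnivEquiv hlin)]
      have := Chars.sum_degree_sq (G := K)
      simp only [hlin, one_pow, Finset.sum_const, Finset.card_univ, nsmul_eq_mul, mul_one] at this
      rw [Nat.card_eq_fintype_card (α := Cfsg.IrrCharacter K)]
      exact_mod_cast this
    have hbot : commutator K = ⊥ := Subgroup.card_eq_one.mp (by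
      have := (commutator K).card_mul_index
      rw [hidx] at this
      exact Nat.eq_of_mul_eq_mul_right Nat.card_pos (this.trans (one_mul _).symm))
    have hc : (⟨a, ha⟩ : K) * ⟨b, hb⟩ = ⟨b, hb⟩ * ⟨a, ha⟩ := by
      rw [← commutatorElement_eq_one_iff_mul_comm, ← Subgroup.mem_bot, ← hbot, commutator_def]
      exact Subgroup.commutator_mem_commutator (Subgroup.mem_top _) (Subgroup.mem_top _)
    exact congrArg (fun x : K => (x : G)) hc
  · rintro ⟨A, hA, hab, -, k, hk⟩ χ
    obtain ⟨d, -, hd, hdvd⟩ := KGV.exists_degree_dvd_index A hab χ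
    rw [hk] at hdvd
    obtain ⟨j, -, rfl⟩ := (Nat.dvd_prime_pow hp).mp hdvd
    exact ⟨j, by rw [hd]; push_cast; rfl⟩

end Cfsg.Agent.S0855
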