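import Cfsg.Statements.S0858
import Cfsg.Agent.Lib.Clifford.GoingDown
import Cfsg.Agent.Lib.Clifford.IndTrans

set_option autoImplicit false
open Cfsg

namespace Cfsg.Agent.S0858

open Cfsg.Agent.Lib

universe u

theorem aux (n : ℕ) : ∀ (G : Type u) [Group G] [Fintype G] (N : Subgroup G) [N.Normal],
    Nat.card G = n → Group.IsSolvable (G ⧸ N) →
    (∀ (H K L : Subgroup G), N ≤ L → L < K → K ≤ H → (∀ h ∈ H, ∀ k ∈ K, h * k * h⁻¹ ∈ K) →
      (∀ h ∈ H, ∀ l ∈ L, h * l * h⁻¹ ∈ L) →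
      (∀ M : Subgroup G, L ≤ M → M ≤ K → (∀ h ∈ H, ∀ m ∈ M, h * m * h⁻¹ ∈ M) → M = L ∨ M = K) →
      ¬ IsSquare (L.relIndex K)) →
    ∀ χ : G → ℂ, Cfsg.IsIrrCharacter G χ →
    ∃ (H : Subgroup G) (hNH : N ≤ H) (ψ : H → ℂ), Cfsg.IsIrrCharacter H ψ ∧
      Cfsg.indFun H ψ = χ ∧ Cfsg.IsIrrCharacter N (fun n : N => ψ ⟨(n : G), hNH n.2⟩) := by
  induction n using Nat.strong_induction_on with
  | _ n ih =>
  intro G _ _ N hN hn hsolv hchief χ hχ
  classical
  by_cases hres : Cfsg.IsIrrCharacter N (Clifford.resFun N χ)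
  · refine ⟨⊤, le_top, fun x => χ x, ?_, ?_, hres⟩
    · exact Clifford.isIrrCharacter_comp_equiv Subgroup.topEquiv hχ
    · funext g
      simp only [Cfsg.indFun]
      have h1 : ∀ x : G, Cfsg.extendByZero (⊤ : Subgroup G) (fun y : (⊤ : Subgroup G) => χ y)
          (x⁻¹ * g * x) = χ g := fun x => by
        rw [Chars.extendByZero_of_mem _ (Subgroup.mem_top _)]
        have := Chars.irr_isClassFunction ⟨χ, hχ⟩ g x⁻¹
        rwa [inv_inv] at this
      rw [Finset.sum_congr rfl fun x _ => h1 x, Finset.sum_const, Finset.card_univ, nsmul_eq_mul,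
        Fintype.card_eq_nat_card, Nat.card_congr Subgroup.topEquiv.toEquiv,
        inv_mul_cancel_left₀ (Chars.natCard_ne_zero (G := G))]
  -- a minimal normal subgroup above `N` with irreducible restriction
  let S : Set (Subgroup G) := {K | K.Normal ∧ N ≤ K ∧ Cfsg.IsIrrCharacter K (Clifford.resFun K χ)}
  have hS : S.Nonempty := ⟨⊤, inferInstance, le_top,
    Clifford.isIrrCharacter_comp_equiv Subgroup.topEquiv hχ⟩
  obtain ⟨K, ⟨hKn, hNK, hKirr⟩, hKmin⟩ := S.toFinite.exists_minimal hS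
  have hNK' : N < K := lt_of_le_of_ne hNK fun h => hres (h ▸ hKirr)
  let U : Set (Subgroup G) := {L | L.Normal ∧ N ≤ L ∧ L < K}
  obtain ⟨L, ⟨hLn, hNL, hLK⟩, hLmax⟩ := U.toFinite.exists_maximal ⟨N, hN, le_rfl, hNK'⟩
  have hchiefG : ∀ M : Subgroup G, M.Normal → L ≤ M → M ≤ K → M = L ∨ M = K := by
    intro M hM hLM hMK
    rcases eq_or_lt_of_le hMK with h | h
    · exact Or.inr h
    · exact Or.inl (le_antisymm (hLmax ⟨hM, hNL.trans hLM, h⟩ hLM) hLM)
  have hab : ⁅K, K⁆ ≤ L := by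
    have : (⁅K, K⁆ ⊔ L).Normal := Subgroup.sup_normal _ _
    rcases hchiefG (⁅K, K⁆ ⊔ L) this le_sup_right (sup_le (Subgroup.commutator_le_self K) hLK.le)
      with h | h
    · exact le_sup_left.trans h.le
    exfalso
    let q := QuotientGroup.mk' L
    have hperf : K.map q = ⁅K.map q, K.map q⁆ := by
      conv_lhs => rw [← h]
      rw [Subgroup.map_sup, Subgroup.map_commutator,
        (Subgroup.map_eq_bot_iff L).mpr (by rw [QuotientGroup.ker_mk']), sup_bot_eq]
    have hQ : Group.IsSolvable (G ⧸ L) := Group.isSolvable_of_surjective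
      (f := QuotientGroup.map N L (MonoidHom.id G) hNL) (by
        intro x
        induction x using QuotientGroup.induction_on with | H g =>
        exact ⟨(g : G ⧸ N), rfl⟩)
    obtain ⟨m, hm⟩ := hQ
    have hle : ∀ j, K.map q ≤ derivedSeries (G ⧸ L) j := by
      intro j
      induction j with
      | zero => exact le_top
      | succ j ihj => rw [derivedSeries_succ, hperf]; exact Subgroup.commutator_mono ihj ihj
    have : K ≤ L := fun k hk => (QuotientGroup.eq_one_iff k).mp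
      (Subgroup.mem_bot.mp (hm ▸ hle m ⟨k, hk, rfl⟩))
    exact absurd this (not_le_of_gt hLK)
  have := Fintype.ofFinite L
  have hχcl := Chars.irr_isClassFunction ⟨χ, hχ⟩
  have hnotirr : ¬ Cfsg.IsIrrCharacter L (Clifford.resFun L χ) := fun h =>
    absurd (hKmin (y := L) ⟨hLn, hNL, h⟩ hLK.le) (not_le_of_gt hLK)
  rcases Clifford.going_down K L hLK hchiefG hab hKirr
    (fun g => Clifford.conjFun_resFun g hχcl) with h | ⟨φ, e, -, -, he⟩ | ⟨F, hF, hFcard, hFsum⟩
  · exact absurd h hnotirr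
  · refine absurd ⟨e, ?_⟩ (hchief ⊤ K L hNL hLK le_top (fun h _ k hk => hKn.conj_mem k hk h)
      (fun h _ l hl => hLn.conj_mem l hl h) fun M hLM hMK hMn => hchiefG M
        ⟨fun m hm g => hMn g (Subgroup.mem_top g) m hm⟩ hLM hMK)
    rw [← he, sq]
  obtain ⟨φ, hφF⟩ : F.Nonempty := by
    refine Finset.card_pos.mp (hFcard ▸ Nat.pos_of_ne_zero ?_)
    exact Subgroup.FiniteIndex.index_ne_zero
  have hφ := hF φ hφF
  have hinner : Cfsg.classInner (Clifford.resFun L χ) φ = 1 := by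
    rw [show Clifford.resFun L χ = ∑ ψ ∈ F, ψ from hFsum, Chars.classInner_sum_left,
      Finset.sum_eq_single φ]
    · exact Chars.classInner_irr_self ⟨φ, hφ⟩
    · intro ψ hψ hne
      exact Chars.classInner_irr_of_ne (χ := ⟨ψ, hF ψ hψ⟩) (ψ := ⟨φ, hφ⟩)
        (fun e => hne (Subtype.ext_iff.mp e))
    · exact fun h => absurd hφF h
  let T : Subgroup G :=
    { carrier := {g | Clifford.conjFun g φ = φ}
      one_mem' := Clifford.conjFun_one φ
      mul_mem' := fun {a b} (ha : _ = _) (hb : _ = _) => by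
        show Clifford.conjFun (a * b) φ = φ
        rw [Clifford.conjFun_mul, ha, hb]
      inv_mem' := fun {a} (ha : _ = _) => by
        show Clifford.conjFun a⁻¹ φ = φ
        conv_lhs => rw [← ha]
        rw [← Clifford.conjFun_mul, mul_inv_cancel, Clifford.conjFun_one] }
  have hLT : L ≤ T := fun l hl => funext fun x => Chars.irr_isClassFunction ⟨φ, hφ⟩ x ⟨l, hl⟩
  have hTtop : T ≠ ⊤ := by
    intro h
    apply hnotirr
    rw [Clifford.resFun_eq_smul_of_invariant hχ hφ (by rw [hinner]; exact one_ne_zero)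
      (fun g => (h ▸ Subgroup.mem_top g : g ∈ T)), hinner, one_smul]
    exact hφ
  have hTlt : Nat.card T < n := by
    rw [← hn]
    exact lt_of_le_of_ne (Nat.le_of_dvd Nat.card_pos T.card_subgroup_dvd_card)
      fun h => hTtop (T.eq_top_of_card_eq h)
  have hNT : N ≤ T := hNL.trans hLT
  obtain ⟨ψ₁, hψ₁, hind₁, -⟩ := Clifford.exists_clifford_correspondent hφ (T := T)
    (fun g => Iff.rfl) hLT hχ (by rw [hinner]; exact one_ne_zero)
  have hsolvT : Group.IsSolvable (T ⧸ N.subgroupOf T) := by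
    refine Group.isSolvable_of_isSolvable_injective
      (f := QuotientGroup.map (N.subgroupOf T) N T.subtype le_rfl) ?_
    rw [← MonoidHom.ker_eq_bot_iff, eq_bot_iff]
    intro x hx
    induction x using QuotientGroup.induction_on with | H t =>
    rw [Subgroup.mem_bot]
    exact (QuotientGroup.eq_one_iff t).mpr ((QuotientGroup.eq_one_iff (t : G)).mp hx)
  have hchiefT : ∀ (H K L : Subgroup T), N.subgroupOf T ≤ L → L < K → K ≤ H →
      (∀ h ∈ H, ∀ k ∈ K, h * k * h⁻¹ ∈ K) → (∀ h ∈ H, ∀ l ∈ L, h * l * h⁻¹ ∈ L) →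
      (∀ M : Subgroup T, L ≤ M → M ≤ K → (∀ h ∈ H, ∀ m ∈ M, h * m * h⁻¹ ∈ M) → M = L ∨ M = K) →
      ¬ IsSquare (L.relIndex K) := by
    intro H' K' L' hNL' hLK' hKH' hK' hL' hmax'
    have h := hchief (H'.map T.subtype) (K'.map T.subtype) (L'.map T.subtype)
      (fun x hx => ⟨⟨x, hNT hx⟩, hNL' (Subgroup.mem_subgroupOf.mpr hx), rfl⟩)
      ((Subgroup.map_lt_map_iff_of_injective T.subtype_injective).mpr hLK')
      (Subgroup.map_mono hKH')
      (by rintro _ ⟨h, hh, rfl⟩ _ ⟨k, hk, rfl⟩; exact ⟨_, hK' h hh k hk, rfl⟩)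
      (by rintro _ ⟨h, hh, rfl⟩ _ ⟨l, hl, rfl⟩; exact ⟨_, hL' h hh l hl, rfl⟩)
      (fun M hLM hMK hMn => ?_)
    · rwa [Subgroup.relIndex_map_map_of_injective L' K' T.subtype_injective] at h
    · have hMT : M ≤ T := hMK.trans (Clifford.map_subtype_le' K')
      have hM : (M.subgroupOf T).map T.subtype = M := Subgroup.map_subgroupOf_eq_of_le hMT
      rcases hmax' (M.subgroupOf T) (fun x hx => hLM ⟨x, hx, rfl⟩)
        (fun x hx => by
          obtain ⟨y, hy, e⟩ := hMK (Subgroup.mem_subgroupOf.mp hx)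
          exact T.subtype_injective e ▸ hy)
        (fun h hh m hm => hMn h ⟨h, hh, rfl⟩ m hm) with h | h
      · exact Or.inl (by rw [← hM, h])
      · exact Or.inr (by rw [← hM, h])
  obtain ⟨H₁, hNH₁, ψ, hψ, hind, hψN⟩ :=
    ih _ hTlt T (N.subgroupOf T) rfl hsolvT hchiefT ψ₁ hψ₁
  refine ⟨H₁.map T.subtype, fun x hx => ⟨⟨x, hNT hx⟩, hNH₁ (Subgroup.mem_subgroupOf.mpr hx), rfl⟩,
    Clifford.liftFun H₁ ψ, Clifford.isIrrCharacter_liftFun H₁ hψ, ?_, ?_⟩
  · rw [← Clifford.indFun_indFun, hind, hind₁]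
  · have := Clifford.isIrrCharacter_comp_equiv (Subgroup.subgroupOfEquivOfLe hNT).symm hψN
    convert this using 1
    funext x
    exact Clifford.liftFun_apply H₁ ψ
      ⟨⟨(x : G), hNT x.2⟩, hNH₁ (Subgroup.mem_subgroupOf.mpr x.2)⟩ _

/-- Let N be a normal subgroup of the finite group G with G / N solvable, and suppose that for every subgroup H containing N and all subgroups L < K between N and H that are normal in H with no subgroup normal in H strictly between them, the index of L in K is not a perfect square. Then every irreducible character χ of G is induced from an irreducible character ψ of some subgroup H containing N such that the restriction of ψ to N is irreducible. -/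
theorem result {G : Type*} [Group G] [Fintype G] (N : Subgroup G) [N.Normal] (hsolv : Group.IsSolvable (G ⧸ N)) (hchief : ∀ (H K L : Subgroup G), N ≤ L → L < K → K ≤ H → (∀ h ∈ H, ∀ k ∈ K, h * k * h⁻¹ ∈ K) → (∀ h ∈ H, ∀ l ∈ L, h * l * h⁻¹ ∈ L) → (∀ M : Subgroup G, L ≤ M → M ≤ K → (∀ h ∈ H, ∀ m ∈ M, h * m * h⁻¹ ∈ M) → M = L ∨ M = K) → ¬ IsSquare (L.relIndex K)) (χ : G → ℂ) (hχ : Cfsg.IsIrrCharacter G χ) : ∃ (H : Subgroup G) (hNH : N ≤ H) (ψ : H → ℂ), Cfsg.IsIrrCharacter H ψ ∧ Cfsg.indFun H ψ = χ ∧ Cfsg.IsIrrCharacter N (fun n : N => ψ ⟨(n : G), hNH n.2⟩) := by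
  exact aux _ G N rfl hsolv hchief χ hχ

end Cfsg.Agent.S0858
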