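import Cfsg.Statements.S0859
import Cfsg.Agent.Lib.Clifford.IndTrans
import Cfsg.Agent.Lib.Chars.Ops

set_option autoImplicit false
open Cfsg

namespace Cfsg.Agent.S0859

open Cfsg.Agent.Lib

universe u

/-- Every prime-power subgroup is commutative. -/
def PAbelian (G : Type*) [Group G] : Prop :=
  ∀ (p : ℕ) [Fact p.Prime] (P : Subgroup G), IsPGroup p P → ∀ a ∈ P, ∀ b ∈ P, a * b = b * a

theorem pAbelian_of_injective {G H : Type*} [Group G] [Group H] (f : H →* G)
    (hf : Function.Injective f) (h : PAbelian G) : PAbelian H := by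
  intro p _ P hP a ha b hb
  apply hf
  rw [map_mul, map_mul]
  exact h p (P.map f) (hP.map f) _ ⟨a, ha, rfl⟩ _ ⟨b, hb, rfl⟩

theorem pAbelian_of_surjective {G H : Type*} [Group G] [Group H] [Finite G] (f : G →* H)
    (hf : Function.Surjective f) (h : PAbelian G) : PAbelian H := by
  intro p _ P hP a ha b hb
  obtain ⟨Q, hQ⟩ := hP.exists_le_sylow
  obtain ⟨R, rfl⟩ := Sylow.mapSurjective_surjective hf p Q
  obtain ⟨x, hx, rfl⟩ := (hQ ha : a ∈ (R : Subgroup G).map f)
  obtain ⟨y, hy, rfl⟩ := (hQ hb : b ∈ (R : Subgroup G).map f)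
  rw [← map_mul, ← map_mul, h p R R.isPGroup' x hx y hy]

theorem comm_of_nilpotent {G : Type*} [Group G] [Finite G] [Group.IsNilpotent G]
    (h : PAbelian G) (x y : G) : x * y = y * x := by
  let e := Sylow.directProductOfNormal (G := G) (fun {p hp} P => inferInstance)
  apply e.symm.injective
  rw [map_mul, map_mul]
  funext p P
  have : Fact (p : ℕ).Prime := ⟨Nat.prime_of_mem_primeFactors p.2⟩
  exact Subtype.ext (h p P P.isPGroup' _ (e.symm x p P).2 _ (e.symm y p P).2)

/-- A normal abelian subgroup containing its centralizer in a solvable A-group. -/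
theorem exists_selfCentralizing {H : Type*} [Group H] [Finite H] (N : Subgroup H) [hN : N.Normal]
    (hsol : Group.IsSolvable N) (hab : PAbelian N) :
    ∃ A : Subgroup H, A.Normal ∧ A ≤ N ∧ (∀ a ∈ A, ∀ b ∈ A, a * b = b * a) ∧
      ∀ x ∈ N, (∀ a ∈ A, a * x = x * a) → x ∈ A := by
  let S : Set (Subgroup H) := {A | A.Normal ∧ A ≤ N ∧ ∀ a ∈ A, ∀ b ∈ A, a * b = b * a}
  obtain ⟨A, ⟨hAn, hAN, hAc⟩, hAmax⟩ := S.toFinite.exists_maximal
    ⟨⊥, inferInstance, bot_le, fun a ha b hb => by
      rw [Subgroup.mem_bot.mp ha, Subgroup.mem_bot.mp hb]⟩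
  refine ⟨A, hAn, hAN, hAc, ?_⟩
  by_contra hne
  push Not at hne
  obtain ⟨x, hxN, hxc, hxA⟩ := hne
  let C : Subgroup H := N ⊓ Subgroup.centralizer (A : Set H)
  have hC : C.Normal := Subgroup.normal_inf_normal _ _
  have hAC : A < C := lt_of_le_of_ne (le_inf hAN fun a ha => fun b hb => hAc b hb a ha)
    fun h => hxA (h.symm ▸ (⟨hxN, hxc⟩ : x ∈ C))
  let U : Set (Subgroup H) := {B | B.Normal ∧ A < B ∧ B ≤ C}
  obtain ⟨B, ⟨hBn, hAB, hBC⟩, hBmin⟩ := U.toFinite.exists_minimal ⟨C, hC, hAC, le_rfl⟩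
  have hBB : ⁅B, B⁆ ≤ A := by
    by_contra hnot
    have h1 : A < ⁅B, B⁆ ⊔ A := lt_of_le_of_ne le_sup_right fun h => hnot (le_sup_left.trans h.ge)
    have h2 : ⁅B, B⁆ ⊔ A ≤ B := sup_le (Subgroup.commutator_le_self B) hAB.le
    have hB : ⁅B, B⁆ ⊔ A = B :=
      le_antisymm h2 (hBmin ⟨Subgroup.sup_normal _ _, h1, h2.trans hBC⟩ h2)
    let q := QuotientGroup.mk' A
    have hperf : B.map q = ⁅B.map q, B.map q⁆ := by
      conv_lhs => rw [← hB]
      rw [Subgroup.map_sup, Subgroup.map_commutator,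
        (Subgroup.map_eq_bot_iff A).mpr (by rw [QuotientGroup.ker_mk']), sup_bot_eq]
    have : Group.IsSolvable (N.map q) :=
      Group.isSolvable_of_surjective (f := q.subgroupMap N) (q.subgroupMap_surjective N)
    obtain ⟨m, hm⟩ := this
    have hle : ∀ j, B.map q ≤ (derivedSeries (N.map q) j).map (N.map q).subtype := by
      intro j
      induction j with
      | zero =>
        rw [derivedSeries_zero, ← MonoidHom.range_eq_map, Subgroup.range_subtype]
        exact Subgroup.map_mono (hBC.trans inf_le_left)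
      | succ j ihj =>
        rw [derivedSeries_succ, Subgroup.map_commutator, hperf]
        exact Subgroup.commutator_mono ihj ihj
    have hBA : B ≤ A := by
      have := hle m
      rw [hm, Subgroup.map_bot, le_bot_iff, Subgroup.map_eq_bot_iff, QuotientGroup.ker_mk'] at this
      exact this
    exact absurd hBA (not_le_of_gt hAB)
  have hBN : B ≤ N := hBC.trans inf_le_left
  have hcent : A.subgroupOf B ≤ Subgroup.center B := by
    intro a ha
    rw [Subgroup.mem_center_iff]
    intro b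
    exact Subtype.ext ((hBC b.2).2 a (Subgroup.mem_subgroupOf.mp ha)).symm
  have hnq : Group.IsNilpotent (B ⧸ A.subgroupOf B) := by
    have : IsMulCommutative (B ⧸ A.subgroupOf B) := by
      refine ⟨⟨fun p q => ?_⟩⟩
      induction p using QuotientGroup.induction_on with | H b =>
      induction q using QuotientGroup.induction_on with | H c =>
      rw [← QuotientGroup.mk_mul, ← QuotientGroup.mk_mul, QuotientGroup.eq]
      have := hBB (Subgroup.commutator_mem_commutator (B.inv_mem c.2) (B.inv_mem b.2))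
      rw [Subgroup.mem_subgroupOf]
      simpa [commutatorElement_def, mul_assoc] using this
    exact Subgroup.nilpotent_iff_lowerCentralSeries.mpr
      ⟨1, Subgroup.lowerCentralSeries_one_eq_bot_iff.mpr this⟩
  have : Group.IsNilpotent B := Subgroup.isNilpotent_of_ker_le_center
    (QuotientGroup.mk' (A.subgroupOf B)) (by rw [QuotientGroup.ker_mk']; exact hcent)
  have hBab : PAbelian B :=
    pAbelian_of_injective (Subgroup.inclusion hBN) (Subgroup.inclusion_injective hBN) hab
  exact absurd (hAmax ⟨hBn, hBN, fun a ha b hb =>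
    congrArg Subtype.val (comm_of_nilpotent hBab ⟨a, ha⟩ ⟨b, hb⟩)⟩ hAB.le) (not_le_of_gt hAB)

/-- Induction commutes with inflation. -/
theorem indFun_comap {G Q : Type*} [Group G] [Group Q] [Fintype G] [Fintype Q] (f : G →* Q)
    (hf : Function.Surjective f) (U : Subgroup Q) (lam : U → ℂ) (g : G) :
    Cfsg.indFun (U.comap f) (fun x => lam ⟨f x, x.2⟩) g = Cfsg.indFun U lam (f g) := by
  classical
  simp only [Cfsg.indFun]
  have hext : ∀ z : G, Cfsg.extendByZero (U.comap f) (fun x => lam ⟨f x, x.2⟩) z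
      = Cfsg.extendByZero U lam (f z) := by
    intro z
    by_cases hz : f z ∈ U
    · rw [Chars.extendByZero_of_mem _ hz, Chars.extendByZero_of_mem _ (H := U.comap f) (g := z) hz]
    · rw [Chars.extendByZero_of_not_mem _ hz,
        Chars.extendByZero_of_not_mem _ (H := U.comap f) (g := z) hz]
  simp only [hext, map_mul, map_inv]
  rw [Chars.sum_comp_of_surjective f hf (fun y => Cfsg.extendByZero U lam (y⁻¹ * f g * y))]
  have hU : Nat.card (U.comap f) = Nat.card f.ker * Nat.card U := by
    have h1 := Subgroup.card_mul_index (U.comap f)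
    rw [U.index_comap_of_surjective hf, ← f.ker.card_mul_index, Subgroup.index_ker,
      MonoidHom.range_eq_top.mpr hf, Subgroup.card_top, ← U.card_mul_index, ← mul_assoc] at h1
    exact Nat.eq_of_mul_eq_mul_right (Nat.pos_of_ne_zero Subgroup.FiniteIndex.index_ne_zero) h1
  rw [hU, Nat.cast_mul, mul_inv, ← mul_assoc, mul_right_comm (Nat.card f.ker : ℂ)⁻¹,
    inv_mul_cancel₀ (Nat.cast_ne_zero.mpr Nat.card_pos.ne'), one_mul]

theorem exists_monomial (n : ℕ) : ∀ (H : Type u) [Group H] [Fintype H] (N : Subgroup H) [N.Normal],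
    Nat.card H = n → Group.IsSolvable N → PAbelian N → ∀ ψ : H → ℂ, Cfsg.IsIrrCharacter H ψ →
    Cfsg.IsIrrCharacter N (Clifford.resFun N ψ) →
    ∃ (U : Subgroup H) (lam : U → ℂ), Cfsg.IsCharacter U lam ∧ lam 1 = 1 ∧
      Cfsg.indFun U lam = ψ := by
  induction n using Nat.strong_induction_on with
  | _ n ih =>
  intro H _ _ N hN hn hsol hab ψ hψ hψN
  classical
  have hψc := Chars.isCharacter_of_isIrrCharacter hψ
  have hcl := Chars.isClassFunction_of_isCharacter hψc
  by_cases hlin : ψ 1 = 1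
  · refine ⟨⊤, fun x => ψ x, Chars.isCharacter_restrict ⊤ hψc, hlin, ?_⟩
    funext g
    simp only [Cfsg.indFun]
    have h1 : ∀ x : H, Cfsg.extendByZero (⊤ : Subgroup H) (fun y : (⊤ : Subgroup H) => ψ y)
        (x⁻¹ * g * x) = ψ g := fun x => by
      rw [Chars.extendByZero_of_mem _ (Subgroup.mem_top _)]
      have := hcl g x⁻¹
      rwa [inv_inv] at this
    rw [Finset.sum_congr rfl fun x _ => h1 x, Finset.sum_const, Finset.card_univ, nsmul_eq_mul,
        Fintype.card_eq_nat_card, Nat.card_congr Subgroup.topEquiv.toEquiv,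
        inv_mul_cancel_left₀ (Chars.natCard_ne_zero (G := H))]
  obtain ⟨k, ρ, hρ, hρψ⟩ := hψ
  have hψirr : Cfsg.IsIrrCharacter H ψ := ⟨k, ρ, hρ, hρψ⟩
  let K : Subgroup H := MonoidHom.ker ρ
  have hK : ∀ x, x ∈ K ↔ ψ x = ψ 1 := fun x => by
    rw [MonoidHom.mem_ker, Chars.rep_eq_one_iff, hρψ]
  by_cases hKbot : K ≠ ⊥
  · obtain ⟨ψb, hψb⟩ := Chars.exists_irr_quotient K ⟨ψ, hψirr⟩ fun x hx => (hK x).mp hx
    let q := QuotientGroup.mk' K
    have hcard : Nat.card (H ⧸ K) < n := by
      rw [← hn, ← K.card_mul_index, ← Subgroup.index_eq_card]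
      refine lt_mul_left (Nat.pos_of_ne_zero Subgroup.FiniteIndex.index_ne_zero) ?_
      exact lt_of_le_of_ne Nat.card_pos fun h => hKbot (Subgroup.eq_bot_of_card_eq _ h.symm)
    have := Fintype.ofFinite (H ⧸ K)
    have hNq : (N.map q).Normal := hN.map q (QuotientGroup.mk'_surjective K)
    have hsolq : Group.IsSolvable (N.map q) :=
      Group.isSolvable_of_surjective (f := q.subgroupMap N) (q.subgroupMap_surjective N)
    have habq : PAbelian (N.map q) :=
      pAbelian_of_surjective (q.subgroupMap N) (q.subgroupMap_surjective N) hab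
    have hres : Cfsg.IsIrrCharacter (N.map q) (Clifford.resFun (N.map q) (ψb : H ⧸ K → ℂ)) := by
      have := Fintype.ofFinite N
      have := Fintype.ofFinite (N.map q)
      have hc : Cfsg.IsCharacter (N.map q) (Clifford.resFun (N.map q) (ψb : H ⧸ K → ℂ)) :=
        Chars.isCharacter_restrict _ (Chars.irr_isCharacter ψb)
      rw [Chars.isIrrCharacter_iff_classInner_eq_one hc,
        ← Chars.classInner_comp_of_surjective (q.subgroupMap N) (q.subgroupMap_surjective N)]
      have e : (fun x : N => Clifford.resFun (N.map q) (ψb : H ⧸ K → ℂ) (q.subgroupMap N x))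
          = Clifford.resFun N ψ := funext fun x => hψb x
      rw [e]
      exact Chars.classInner_irr_self ⟨_, hψN⟩
    obtain ⟨U, lam, hlamc, hlam1, hind⟩ :=
      ih _ hcard (H ⧸ K) (N.map q) rfl hsolq habq _ ψb.2 hres
    refine ⟨U.comap q, fun x => lam ⟨q x, x.2⟩, Chars.isCharacter_comp (q.subgroupComap U) hlamc,
      ?_, ?_⟩
    · rw [← hlam1]
      congr 1
    · funext g
      rw [indFun_comap q (QuotientGroup.mk'_surjective K), hind]
      exact hψb g
  push Not at hKbot
  have hfaith : ∀ x, ψ x = ψ 1 → x = 1 := fun x hx => by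
    have := (hK x).mpr hx
    rwa [hKbot, Subgroup.mem_bot] at this
  obtain ⟨A, hAn, hAN, hAc, hAs⟩ := exists_selfCentralizing N hsol hab
  have := Fintype.ofFinite A
  have hAcomm : IsMulCommutative A := ⟨⟨fun a b => Subtype.ext (hAc a a.2 b b.2)⟩⟩
  obtain ⟨m, hm⟩ := Chars.isCharacter_exists_nat_decomp (Chars.isCharacter_restrict A hψc)
  obtain ⟨φ, hφ⟩ : ∃ φ, m φ ≠ 0 := by
    by_contra h
    push Not at h
    have := congrFun hm 1
    simp [h] at this
    exact Chars.irr_apply_one_ne_zero ⟨ψ, hψirr⟩ this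
  have hcon : Cfsg.classInner (Clifford.resFun A ψ) (φ : A → ℂ) ≠ 0 := by
    show Cfsg.classInner (fun x : A => ψ x) _ ≠ 0
    rw [hm, Chars.classInner_sum_smul_irr, Nat.cast_ne_zero]
    exact hφ
  let T : Subgroup H :=
    { carrier := {g | Clifford.conjFun g (φ : A → ℂ) = φ}
      one_mem' := Clifford.conjFun_one _
      mul_mem' := fun {a b} (ha : _ = _) (hb : _ = _) => by
        show Clifford.conjFun (a * b) (φ : A → ℂ) = φ
        rw [Clifford.conjFun_mul, ha, hb]
      inv_mem' := fun {a} (ha : _ = _) => by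
        show Clifford.conjFun a⁻¹ (φ : A → ℂ) = φ
        conv_lhs => rw [← ha]
        rw [← Clifford.conjFun_mul, mul_inv_cancel, Clifford.conjFun_one] }
  have hAT : A ≤ T := fun a ha => funext fun x => Chars.irr_isClassFunction φ x ⟨a, ha⟩
  have hTtop : T ≠ ⊤ := by
    intro hT
    apply hlin
    have hres := Clifford.resFun_eq_smul_of_invariant hψirr φ.2 hcon
      (fun g => (hT ▸ Subgroup.mem_top g : g ∈ T))
    obtain ⟨f, hf⟩ := Chars.exists_hom_of_degree_one (Chars.irr_isCharacter φ)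
      (Chars.irr_apply_one_of_comm φ)
    have hfinv : ∀ (g : H) (a : A), f ⟨g * a * g⁻¹, hAn.conj_mem (a : H) a.2 g⟩ = f a := fun g a => by
      refine Units.ext ?_
      have := congrFun (show Clifford.conjFun g (φ : A → ℂ) = φ from (hT ▸ Subgroup.mem_top g : g ∈ T)) a
      simpa [Clifford.conjFun, hf] using this
    have hcent : ∀ (a : A) (g : H), g * a * g⁻¹ * (a : H)⁻¹ = 1 := by
      intro a g
      refine hfaith _ ?_
      let c : A := ⟨g * a * g⁻¹, hAn.conj_mem (a : H) a.2 g⟩ * a⁻¹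
      have h1 := congrFun hres c
      have h2 := congrFun hres 1
      have hc : (φ : A → ℂ) c = (φ : A → ℂ) 1 := by
        simp [hf, c, hfinv]
      simp only [Clifford.resFun_apply, Pi.smul_apply, OneMemClass.coe_one] at h1 h2
      exact h1.trans (by rw [hc, ← h2])
    have hNA : N ≤ A := fun x hx => hAs x hx fun a ha => by
      have := hcent ⟨a, ha⟩ x
      rw [mul_inv_eq_one, mul_inv_eq_iff_eq_mul] at this
      exact this.symm
    have : IsMulCommutative N := ⟨⟨fun a b => Subtype.ext (hAc a (hNA a.2) b (hNA b.2))⟩⟩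
    exact Chars.irr_apply_one_of_comm ⟨_, hψN⟩
  have hTlt : Nat.card T < n := by
    rw [← hn]
    exact lt_of_le_of_ne (Nat.le_of_dvd Nat.card_pos T.card_subgroup_dvd_card)
      fun h => hTtop (T.eq_top_of_card_eq h)
  have := Fintype.ofFinite T
  have := Fintype.ofFinite N
  obtain ⟨ψ₁, hψ₁, hind₁, hinn₁⟩ := Clifford.exists_clifford_correspondent φ.2 (T := T)
    (fun g => Iff.rfl) hAT hψirr hcon
  -- the same inside `N`
  let A' : Subgroup N := A.subgroupOf N
  let TN : Subgroup N := T.subgroupOf N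
  have := Fintype.ofFinite A'
  have := Fintype.ofFinite TN
  let ε : A' ≃* A := Subgroup.subgroupOfEquivOfLe hAN
  let φ' : A' → ℂ := fun x => (φ : A → ℂ) (ε x)
  have hφ' : Cfsg.IsIrrCharacter A' φ' := Clifford.isIrrCharacter_comp_equiv ε φ.2
  have hT' : ∀ g : N, g ∈ TN ↔ Clifford.conjFun g φ' = φ' := by
    intro g
    constructor
    · intro (h : Clifford.conjFun (g : H) (φ : A → ℂ) = φ)
      funext x
      exact congrFun h (ε x)
    · intro h
      show Clifford.conjFun (g : H) (φ : A → ℂ) = φ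
      funext a
      have := congrFun h (ε.symm a)
      simp only [φ', MulEquiv.apply_symm_apply] at this
      exact this
  have hA'TN : A' ≤ TN := fun x hx => hAT hx
  let incl : TN →* T := (N.subtype.comp TN.subtype).codRestrict T fun x => x.2
  let ν : TN → ℂ := fun x => ψ₁ (incl x)
  have hνc : Cfsg.IsCharacter TN ν :=
    Chars.isCharacter_comp incl (Chars.isCharacter_of_isIrrCharacter hψ₁)
  obtain ⟨e, he⟩ := Chars.isCharacter_exists_nat_decomp hνc
  have hres0 : Cfsg.classInner (fun x : A' => ν ⟨(x : N), hA'TN x.2⟩) φ' ≠ 0 := by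
    have h := Clifford.classInner_comp_equiv ε (Clifford.resTo hAT ψ₁) (φ : A → ℂ)
    rw [hinn₁] at h
    exact fun h0 => hcon (h.symm.trans h0)
  have hexp : (fun x : A' => ν ⟨(x : N), hA'TN x.2⟩)
      = ∑ μ : Cfsg.IrrCharacter TN, (e μ : ℂ) • Clifford.resTo hA'TN (μ : TN → ℂ) := by
    funext x
    rw [he]
    simp [Clifford.resTo]
  rw [hexp, Chars.classInner_sum_left] at hres0
  obtain ⟨μ, -, hμ⟩ := Finset.exists_ne_zero_of_sum_ne_zero hres0
  rw [Chars.classInner_smul_left] at hμ
  have heμ : e μ ≠ 0 := fun h => left_ne_zero_of_mul hμ (by rw [h, Nat.cast_zero])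
  -- `μ` is a constituent of the restriction of `ψ`
  have hψμ : Cfsg.classInner (Clifford.resFun TN (Clifford.resFun N ψ)) (μ : TN → ℂ) ≠ 0 := by
    have hψT : Clifford.resFun T ψ = Clifford.resFun T ψ := rfl
    obtain ⟨d, hd⟩ := Chars.isCharacter_exists_nat_decomp (Chars.isCharacter_restrict T hψc)
    have hd1 : d ⟨ψ₁, hψ₁⟩ ≠ 0 := by
      intro h0
      have h := Chars.classInner_sum_smul_irr (fun ξ => (d ξ : ℂ)) ⟨ψ₁, hψ₁⟩
      rw [← hd, h0, Nat.cast_zero, ← Chars.conj_classInner, map_eq_zero,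
        ← Chars.classInner_indFun_left T ψ₁ ψ hcl, hind₁] at h
      rw [Chars.classInner_irr_self ⟨ψ, hψirr⟩] at h
      exact one_ne_zero h
    have hk : ∀ ξ : Cfsg.IrrCharacter T, ∃ j : ℕ,
        Cfsg.classInner (fun x : TN => (ξ : T → ℂ) (incl x)) (μ : TN → ℂ) = j := fun ξ =>
      Chars.isCharacter_classInner_nat (Chars.isCharacter_comp incl (Chars.irr_isCharacter ξ))
        (Chars.irr_isCharacter μ)
    choose j hj using hk
    have hsum : Clifford.resFun TN (Clifford.resFun N ψ)
        = ∑ ξ : Cfsg.IrrCharacter T, (d ξ : ℂ) • fun x : TN => (ξ : T → ℂ) (incl x) := by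
      funext x
      have := congrFun hd (incl x)
      simp only [Finset.sum_apply, Pi.smul_apply] at this ⊢
      exact this
    rw [hsum, Chars.classInner_sum_left]
    simp only [Chars.classInner_smul_left, hj, ← Nat.cast_mul, ← Nat.cast_sum, Nat.cast_ne_zero]
    intro h0
    rcases Nat.mul_eq_zero.mp ((Finset.sum_eq_zero_iff.mp h0) ⟨ψ₁, hψ₁⟩ (Finset.mem_univ _))
      with h | h
    · exact hd1 h
    · have h' := hj ⟨ψ₁, hψ₁⟩
      rw [h, show (fun x : TN => ((⟨ψ₁, hψ₁⟩ : Cfsg.IrrCharacter T) : T → ℂ) (incl x)) = ν from rfl,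
        he, Chars.classInner_sum_smul_irr, Nat.cast_inj] at h'
      exact heμ h'
  obtain ⟨hindN, -, -, -⟩ := Clifford.clifford_induced hφ' hT' hA'TN hψN μ.2 hψμ
    (right_ne_zero_of_mul hμ)
  -- degrees
  obtain ⟨a, ha0, ha⟩ := Chars.isIrrCharacter_exists_degree_pos hψ₁
  obtain ⟨b, hb0, hb⟩ := Chars.isIrrCharacter_exists_degree_pos μ.2
  choose D hD0 hD using fun ξ : Cfsg.IrrCharacter TN => Chars.isIrrCharacter_exists_degree_pos ξ.2
  have hab1 : T.index * a = TN.index * b := by
    have h1 := congrFun hind₁ 1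
    have h2 := congrFun hindN 1
    rw [Chars.indFun_one_eq, ha] at h1
    rw [Chars.indFun_one_eq, hb, Clifford.resFun_apply, OneMemClass.coe_one, ← h1] at h2
    exact_mod_cast h2.symm
  have hle : TN.index ≤ T.index := by
    have h := Subgroup.relIndex_le_of_le_right (H := T) (le_top : N ≤ ⊤)
      (by rw [Subgroup.relIndex_top_right]; exact Subgroup.FiniteIndex.index_ne_zero)
    rwa [Subgroup.relIndex_top_right] at h
  have haD : a = ∑ ξ, e ξ * D ξ := by
    have h := congrFun he 1
    simp only [Finset.sum_apply, Pi.smul_apply, smul_eq_mul, hD] at h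
    rw [show ν 1 = ψ₁ 1 from congrArg ψ₁ (map_one incl), ha] at h
    exact_mod_cast h
  have hDμ : D μ = b := by exact_mod_cast (hD μ).symm.trans hb
  have hba : b ≤ a := by
    rw [haD, ← hDμ]
    exact le_trans (Nat.le_mul_of_pos_left _ (Nat.pos_of_ne_zero heμ))
      (Finset.single_le_sum (f := fun ξ => e ξ * D ξ) (fun _ _ => Nat.zero_le _) (Finset.mem_univ μ))
  have heq : a = b := by
    refine le_antisymm ?_ hba
    refine Nat.le_of_mul_le_mul_left ?_ (Nat.pos_of_ne_zero (Subgroup.FiniteIndex.index_ne_zero (H := T)))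
    rw [hab1]
    exact Nat.mul_le_mul_right b hle
  have hνμ : ν = μ := by
    have h1 : e μ = 1 := by
      have := Finset.single_le_sum (f := fun ξ => e ξ * D ξ) (fun _ _ => Nat.zero_le _)
        (Finset.mem_univ μ)
      rw [← haD, hDμ, heq] at this
      have : e μ ≤ 1 := Nat.le_of_mul_le_mul_right (by simpa using this) hb0
      omega
    have hz : ∀ ξ, ξ ≠ μ → e ξ = 0 := by
      intro ξ hξ
      have := Finset.add_le_sum (f := fun ξ => e ξ * D ξ) (fun _ _ => Nat.zero_le _)
        (Finset.mem_univ ξ) (Finset.mem_univ μ) hξ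
      rw [← haD, hDμ, heq, h1, one_mul] at this
      exact (Nat.mul_eq_zero.mp (show e ξ * D ξ = 0 by omega)).resolve_right (hD0 ξ).ne'
    rw [he, Finset.sum_eq_single μ (fun ξ _ hξ => by simp [hz ξ hξ]) (by simp), h1]
    simp
  -- recursion
  let NT : Subgroup T := N.subgroupOf T
  let sw : NT ≃* TN :=
    { toFun := fun x => ⟨⟨((x : T) : H), x.2⟩, (x : T).2⟩
      invFun := fun x => ⟨⟨((x : N) : H), x.2⟩, (x : N).2⟩
      left_inv := fun _ => rfl
      right_inv := fun _ => rfl
      map_mul' := fun _ _ => rfl }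
  have hNTirr : Cfsg.IsIrrCharacter NT (Clifford.resFun NT ψ₁) := by
    have := Clifford.isIrrCharacter_comp_equiv sw μ.2
    rw [← hνμ] at this
    exact this
  have habT : PAbelian NT := by
    refine pAbelian_of_injective (TN.subtype.comp sw.toMonoidHom) ?_ hab
    exact Subtype.val_injective.comp sw.injective
  have hsolT : Group.IsSolvable NT :=
    Group.isSolvable_of_isSolvable_injective (f := TN.subtype.comp sw.toMonoidHom)
      (Subtype.val_injective.comp sw.injective)
  obtain ⟨U, lam, hlamc, hlam1, hindU⟩ := ih _ hTlt T NT rfl hsolT habT ψ₁ hψ₁ hNTirr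
  refine ⟨U.map T.subtype, Clifford.liftFun U lam, Clifford.isCharacter_liftFun U hlamc,
    (Clifford.liftFun_one U lam).trans hlam1, ?_⟩
  rw [← Clifford.indFun_indFun, hindU, hind₁]

/-- Let G be a finite solvable group and N a normal subgroup such that for every prime p every Sylow p-subgroup of N is abelian. Suppose every irreducible character of G is induced from an irreducible character of some subgroup containing N whose restriction to N is irreducible. Then every irreducible character of G is induced from a character of degree 1 of some subgroup. -/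
theorem result {G : Type*} [Group G] [Fintype G] [Group.IsSolvable G] (N : Subgroup G) [N.Normal] (hab : ∀ (p : ℕ) [Fact p.Prime] (P : Sylow p N), ∀ a ∈ P, ∀ b ∈ P, a * b = b * a) (hrel : ∀ χ : G → ℂ, Cfsg.IsIrrCharacter G χ → ∃ (H : Subgroup G) (hNH : N ≤ H) (ψ : H → ℂ), Cfsg.IsIrrCharacter H ψ ∧ Cfsg.indFun H ψ = χ ∧ Cfsg.IsIrrCharacter N (fun n : N => ψ ⟨(n : G), hNH n.2⟩)) (χ : G → ℂ) (hχ : Cfsg.IsIrrCharacter G χ) : ∃ (U : Subgroup G) (lam : U → ℂ), Cfsg.IsCharacter U lam ∧ lam 1 = 1 ∧ Cfsg.indFun U lam = χ := by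
  obtain ⟨H, hNH, ψ, hψ, hind, hψN⟩ := hrel χ hχ
  classical
  let NH : Subgroup H := N.subgroupOf H
  have hirr : Cfsg.IsIrrCharacter NH (Lib.Clifford.resFun NH ψ) :=
    Lib.Clifford.isIrrCharacter_comp_equiv (Subgroup.subgroupOfEquivOfLe hNH) hψN
  have habH : PAbelian NH := by
    refine pAbelian_of_injective (Subgroup.subgroupOfEquivOfLe hNH).toMonoidHom
      (Subgroup.subgroupOfEquivOfLe hNH).injective fun p hp P hP a ha b hb => ?_
    obtain ⟨Q, hQ⟩ := hP.exists_le_sylow
    exact hab p Q a (hQ ha) b (hQ hb)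
  obtain ⟨U, lam, hlamc, hlam1, hindU⟩ := exists_monomial _ H NH rfl inferInstance habH ψ hψ hirr
  refine ⟨U.map H.subtype, Lib.Clifford.liftFun U lam, Lib.Clifford.isCharacter_liftFun U hlamc,
    (Lib.Clifford.liftFun_one U lam).trans hlam1, ?_⟩
  rw [← Lib.Clifford.indFun_indFun, hindU, hind]

end Cfsg.Agent.S0859
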