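import Cfsg.Statements.S0860
import Cfsg.Agent.Lib.Chars.Completeness

set_option autoImplicit false
open Cfsg

namespace Cfsg.Agent.S0860

open scoped ComplexConjugate


/-- Let a group A act on the set of irreducible characters and on the set of conjugacy classes of a finite group G in such a way that (a • χ) evaluated on the class a • C equals χ evaluated on C, for all a, χ and C. Then every element of A fixes exactly as many irreducible characters as it fixes conjugacy classes. -/
theorem result {G : Type*} [Group G] [Finite G] {A : Type*} [Group A] [MulAction A (Cfsg.IrrCharacter G)] [MulAction A (ConjClasses G)] (hcompat : ∀ (a : A) (χ : Cfsg.IrrCharacter G) (g g' : G), ConjClasses.mk g' = a • ConjClasses.mk g → ((a • χ : Cfsg.IrrCharacter G) : G → ℂ) g' = (χ : G → ℂ) g) (a : A) : Nat.card {χ : Cfsg.IrrCharacter G // a • χ = χ} = Nat.card {C : ConjClasses G // a • C = C} := by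
  classical
  cases nonempty_fintype G
  have := Fintype.ofFinite (ConjClasses G)
  have hcl : ∀ C : ConjClasses G, ConjClasses.mk C.out = C := Quotient.out_eq
  let M : Matrix (Cfsg.IrrCharacter G) (ConjClasses G) ℂ := fun χ C => (χ : G → ℂ) C.out
  let N : Matrix (ConjClasses G) (Cfsg.IrrCharacter G) ℂ := fun C χ =>
    conj ((χ : G → ℂ) C.out) / (Nat.card (Subgroup.centralizer ({C.out} : Set G)) : ℂ)
  have hinv : ∀ C D : ConjClasses G, ∑ χ, N C χ * M χ D = if C = D then 1 else 0 := by
    intro C D
    simp only [N, M, div_mul_eq_mul_div, mul_comm (conj _), ← Finset.sum_div]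
    rw [Lib.Chars.column_orthogonality_eq, Lib.Chars.classIndicator]
    have h0 := Lib.Chars.card_centralizer_ne_zero C.out
    have hiff : IsConj C.out D.out ↔ C = D := by
      rw [← ConjClasses.mk_eq_mk_iff_isConj, hcl, hcl]
    by_cases h : C = D
    · rw [if_pos h, if_pos (hiff.mpr h), mul_one, div_self h0]
    · rw [if_neg h, if_neg (mt hiff.mp h), mul_zero, zero_div]
  have hNM : N * M = 1 := by
    ext C D
    simp [Matrix.mul_apply, Matrix.one_apply, hinv]
  let e : ConjClasses G ≃ Cfsg.IrrCharacter G := Fintype.equivOfCardEq (by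
    rw [Fintype.card_eq_nat_card, Fintype.card_eq_nat_card, Lib.Chars.card_irrCharacter])
  have hMN : M * N = 1 := (Matrix.mul_eq_one_comm_of_equiv e).mp hNM
  let P : Matrix (Cfsg.IrrCharacter G) (Cfsg.IrrCharacter G) ℂ := fun χ ψ =>
    if a • χ = ψ then 1 else 0
  let Q : Matrix (ConjClasses G) (ConjClasses G) ℂ := fun C D => if a • C = D then 1 else 0
  have hPM : P * M = M * Q := by
    ext χ D
    rw [Matrix.mul_apply, Matrix.mul_apply]
    show ∑ ψ, (if a • χ = ψ then (1 : ℂ) else 0) * M ψ D
      = ∑ C, M χ C * (if a • C = D then (1 : ℂ) else 0)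
    simp only [ite_mul, mul_ite, one_mul, mul_one, zero_mul, mul_zero,
      Finset.sum_ite_eq, Finset.mem_univ, if_true]
    rw [Finset.sum_eq_single (a⁻¹ • D)
      (fun C _ hC => if_neg fun h => hC (by rw [← h, inv_smul_smul]))
      (fun h => absurd (Finset.mem_univ _) h), if_pos (smul_inv_smul _ _)]
    exact hcompat a χ (a⁻¹ • D).out D.out (by rw [hcl, hcl, smul_inv_smul])
  have htr : Matrix.trace P = Matrix.trace Q := by
    calc Matrix.trace P = Matrix.trace (P * M * N) := by rw [Matrix.mul_assoc, hMN, Matrix.mul_one]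
      _ = Matrix.trace (M * (Q * N)) := by rw [hPM, Matrix.mul_assoc]
      _ = Matrix.trace (Q * N * M) := Matrix.trace_mul_comm _ _
      _ = Matrix.trace Q := by rw [Matrix.mul_assoc, hNM, Matrix.mul_one]
  change ∑ χ, (if a • χ = χ then (1 : ℂ) else 0) = ∑ C, (if a • C = C then (1 : ℂ) else 0) at htr
  rw [Finset.sum_boole, Finset.sum_boole, Nat.cast_inj] at htr
  rw [Nat.card_eq_fintype_card, Nat.card_eq_fintype_card, Fintype.card_subtype,
    Fintype.card_subtype]
  exact htr

end Cfsg.Agent.S0860
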