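import Cfsg.Statements.S0861
import Cfsg.Agent.Lib.Clifford.Restriction
import Cfsg.Agent.Lib.Chars.Ops
import Cfsg.Agent.Lib.GaloisPos.Basic
import Cfsg.Agent.Lib.PowMap.Basic

set_option autoImplicit false
open Cfsg

namespace Cfsg.Agent.S0861

open Cfsg.Agent.Lib

/-- A sum of `p`-power roots of unity whose number is prime to `p` is nonzero. -/
theorem sum_ne_zero_of_not_dvd {ι : Type*} (s : Finset ι) (μ : ι → ℂ) {p k : ℕ} (hp : p.Prime)
    (hμ : ∀ i ∈ s, μ i ^ p ^ k = 1) (hcard : ¬ p ∣ s.card) : ∑ i ∈ s, μ i ≠ 0 := by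
  classical
  have : Fact p.Prime := ⟨hp⟩
  intro h0
  rcases k with - | k
  · rw [Finset.sum_congr rfl (fun i hi => by simpa using hμ i hi), Finset.sum_const, nsmul_one,
      Nat.cast_eq_zero] at h0
    exact hcard (h0 ▸ dvd_zero p)
  have hpos : 0 < p ^ (k + 1) := pow_pos hp.pos _
  have : NeZero (p ^ (k + 1)) := ⟨hpos.ne'⟩
  have hω := Complex.isPrimitiveRoot_exp (p ^ (k + 1)) hpos.ne'
  set ω := Complex.exp (2 * Real.pi * Complex.I / (p ^ (k + 1) : ℕ))
  choose a ha haμ using fun i : s => hω.eq_pow_of_pow_eq_one (hμ i.1 i.2)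
  let P : Polynomial ℤ := ∑ i : s, Polynomial.X ^ a i
  have hP : Polynomial.aeval ω P = 0 := by
    simp only [P, map_sum, map_pow, Polynomial.aeval_X, haμ]
    exact (Finset.sum_coe_sort s μ).trans h0
  have hdvd := minpoly.isIntegrallyClosed_dvd (hω.isIntegral hpos) hP
  rw [← Polynomial.cyclotomic_eq_minpoly hω hpos] at hdvd
  obtain ⟨Q, hQ⟩ := hdvd
  have h1 := congrArg (Polynomial.eval 1) hQ
  rw [Polynomial.eval_mul, Polynomial.eval_one_cyclotomic_prime_pow] at h1
  have h2 : Polynomial.eval 1 P = (s.card : ℤ) := by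
    simp [P, Polynomial.eval_finsetSum]
  rw [h2] at h1
  exact hcard (Int.natCast_dvd_natCast.mp ⟨_, h1⟩)

theorem irr_apply_ne_zero {G : Type*} [Group G] [Finite G] {p : ℕ} [hp : Fact p.Prime]
    (P : Sylow p G) [(P : Subgroup G).Normal] (hab : ∀ a ∈ P, ∀ b ∈ P, a * b = b * a)
    {g : G} (hg : g ∈ P) (χ : Cfsg.IrrCharacter G) : (χ : G → ℂ) g ≠ 0 := by
  classical
  cases nonempty_fintype G
  have := Fintype.ofFinite (P : Subgroup G)
  have : IsMulCommutative (P : Subgroup G) := ⟨⟨fun a b => Subtype.ext (hab a a.2 b b.2)⟩⟩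
  obtain ⟨m, hm⟩ := Chars.isCharacter_exists_nat_decomp
    (Chars.isCharacter_restrict (P : Subgroup G) (Chars.irr_isCharacter χ))
  obtain ⟨φ, hφ⟩ : ∃ φ, m φ ≠ 0 := by
    by_contra h
    push Not at h
    have := congrFun hm 1
    simp [h] at this
    exact Chars.irr_apply_one_ne_zero χ this
  have hcon : Cfsg.classInner (Clifford.resFun (P : Subgroup G) (χ : G → ℂ))
      (φ : ↥(P : Subgroup G) → ℂ) = m φ := by
    show Cfsg.classInner (fun x : (P : Subgroup G) => (χ : G → ℂ) x) _ = _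
    rw [hm, Chars.classInner_sum_smul_irr]
  have hcon0 : Cfsg.classInner (Clifford.resFun (P : Subgroup G) (χ : G → ℂ))
      (φ : ↥(P : Subgroup G) → ℂ) ≠ 0 := by rw [hcon, Nat.cast_ne_zero]; exact hφ
  let T : Subgroup G :=
    { carrier := {g | Clifford.conjFun g (φ : ↥(P : Subgroup G) → ℂ) = φ}
      one_mem' := Clifford.conjFun_one _
      mul_mem' := fun {a b} (ha : _ = _) (hb : _ = _) => by
        show Clifford.conjFun (a * b) (φ : ↥(P : Subgroup G) → ℂ) = φ
        rw [Clifford.conjFun_mul, ha, hb]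
      inv_mem' := fun {a} (ha : _ = _) => by
        show Clifford.conjFun a⁻¹ (φ : ↥(P : Subgroup G) → ℂ) = φ
        conv_lhs => rw [← ha]
        rw [← Clifford.conjFun_mul, mul_inv_cancel, Clifford.conjFun_one] }
  have hPT : (P : Subgroup G) ≤ T := fun a ha =>
    funext fun x => Chars.irr_isClassFunction φ x ⟨a, ha⟩
  intro h0
  have h := congrFun (Clifford.sum_resFun_eq_orbit χ.2 φ.2 hcon0) ⟨g, hg⟩
  rw [hcon, Clifford.resFun_apply, h0, Pi.smul_apply, Finset.sum_apply, smul_eq_mul] at h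
  obtain ⟨k, hk⟩ := IsPGroup.iff_card.mp P.isPGroup'
  refine sum_ne_zero_of_not_dvd _ (fun ψ : ↥(P : Subgroup G) → ℂ => ψ ⟨g, hg⟩) hp.out (k := k)
    (fun ψ hψ => ?_) ?_ ((mul_eq_zero.mp h.symm).resolve_left (Nat.cast_ne_zero.mpr hφ))
  · obtain ⟨x, rfl⟩ := Clifford.mem_orbitFun.mp hψ
    have hirr := Clifford.isIrrCharacter_conjFun x φ.2
    obtain ⟨f, hf⟩ := Chars.exists_hom_of_degree_one (Chars.isCharacter_of_isIrrCharacter hirr)
      (Chars.irr_apply_one_of_comm ⟨_, hirr⟩)
    show Clifford.conjFun x (φ : ↥(P : Subgroup G) → ℂ) ⟨g, hg⟩ ^ p ^ k = 1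
    rw [hf, ← Units.val_pow_eq_pow_val, ← map_pow]
    show ((f (_ ^ p ^ k) : ℂˣ) : ℂ) = 1
    rw [← hk, pow_card_eq_one', map_one, Units.val_one]
  · rw [Clifford.card_orbitFun T fun g => Iff.rfl]
    exact fun hd => P.not_dvd_index (hd.trans (Subgroup.index_dvd_of_le hPT))

/-- Let P be a normal abelian Sylow p-subgroup of the finite group G and suppose some element g of P has centralizer exactly P. Then the number of irreducible characters of G is at most the order of P, and if equality holds then G / P is abelian (the commutator subgroup lies in P). -/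
theorem result {G : Type*} [Group G] [Finite G] (p : ℕ) [Fact p.Prime] (P : Sylow p G) [(P : Subgroup G).Normal] (hab : ∀ a ∈ P, ∀ b ∈ P, a * b = b * a) (g : G) (hg : g ∈ P) (hC : Subgroup.centralizer ({g} : Set G) = P) : Nat.card (Cfsg.IrrCharacter G) ≤ Nat.card P ∧ (Nat.card (Cfsg.IrrCharacter G) = Nat.card P → commutator G ≤ P) := by
  classical
  cases nonempty_fintype G
  have hP : ((P : Subgroup G)).Normal := inferInstance
  let trivP : Cfsg.IrrCharacter G → Prop := fun χ =>
    ∀ x ∈ (P : Subgroup G), (χ : G → ℂ) x = (χ : G → ℂ) 1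
  let S : Finset (Cfsg.IrrCharacter G) := Finset.univ.filter fun χ => ¬ trivP χ
  have hnz : ∀ χ : Cfsg.IrrCharacter G, (χ : G → ℂ) g ≠ 0 := irr_apply_ne_zero P hab hg
  -- positivity on the characters not trivial on `P`
  have hpos : (S.card : ℝ) ≤ ∑ χ ∈ S, Complex.normSq ((χ : G → ℂ) g) := by
    have h := Lib.GaloisPos.card_ne_zero_le_sum S
      (fun χ => ((Complex.normSq ((χ : G → ℂ) g) : ℝ) : ℂ))
      (fun χ _ => Lib.GaloisPos.isIntegral_normSq (Lib.Chars.irr_isCharacter χ) g)
      (fun χ => Complex.normSq ((χ : G → ℂ) g)) (fun χ _ => rfl)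
      (fun χ _ => Complex.normSq_nonneg _) (fun ψ => by
        obtain ⟨k, hk, hkχ⟩ := Lib.GaloisPos.exists_pow_char' (G := G) ψ
        refine ⟨Lib.PowMap.powIrr hk, fun χ hχ => ?_,
          (Lib.PowMap.powIrr_injective hk).injOn, fun χ _ h => ?_⟩
        · refine Finset.mem_filter.mpr ⟨Finset.mem_univ _, fun htr => (Finset.mem_filter.mp hχ).2 ?_⟩
          intro x hx
          have hkP : k.Coprime (Nat.card (P : Subgroup G)) :=
            hk.coprime_dvd_right (Subgroup.card_subgroup_dvd_card _)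
          obtain ⟨y, hy⟩ := (Lib.PowMap.bijective_pow hkP).2 ⟨x, hx⟩
          have := htr y y.2
          simp only [Lib.PowMap.powIrr_apply, one_pow] at this
          rw [show (y : G) ^ k = x from congrArg Subtype.val hy] at this
          exact this
        · rw [Lib.GaloisPos.map_normSq (Lib.Chars.irr_isCharacter χ) g
            (hkχ (χ : G → ℂ) (Lib.Chars.irr_isCharacter χ))]
          rfl)
    refine le_trans (le_of_eq ?_) h
    rw [Finset.filter_true_of_mem fun χ _ => by simpa using hnz χ]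
  -- the characters trivial on `P`
  have := Fintype.ofFinite (G ⧸ (P : Subgroup G))
  have hrest : Finset.univ.filter trivP
      = Finset.univ.image (Lib.Chars.inflate (P : Subgroup G)) := by
    ext χ
    simp only [Finset.mem_filter, Finset.mem_univ, true_and, Finset.mem_image]
    constructor
    · intro h
      obtain ⟨β, hβ⟩ := Lib.Chars.exists_irr_quotient (P : Subgroup G) χ h
      exact ⟨β, Subtype.ext (funext hβ)⟩
    · rintro ⟨β, rfl⟩ x hx
      show (β : G ⧸ (P : Subgroup G) → ℂ) (x : G ⧸ (P : Subgroup G))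
        = (β : G ⧸ (P : Subgroup G) → ℂ) ((1 : G) : G ⧸ (P : Subgroup G))
      rw [(QuotientGroup.eq_one_iff x).mpr hx]
      rfl
  have hinj : Function.Injective (Lib.Chars.inflate (P : Subgroup G)) :=
    Lib.Chars.inflate_injective _
  have htriv : ∑ χ ∈ Finset.univ.filter trivP, Complex.normSq ((χ : G → ℂ) g)
      = (Nat.card (G ⧸ (P : Subgroup G)) : ℝ) := by
    rw [hrest, Finset.sum_image hinj.injOn]
    have h := Lib.Chars.sum_degree_sq (G := G ⧸ (P : Subgroup G))
    have h' : (((∑ β : Cfsg.IrrCharacter (G ⧸ (P : Subgroup G)),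
        Complex.normSq ((Lib.Chars.inflate (P : Subgroup G) β : G → ℂ) g)) : ℝ) : ℂ)
        = ((Nat.card (G ⧸ (P : Subgroup G)) : ℝ) : ℂ) := by
      rw [Complex.ofReal_natCast, ← h, Complex.ofReal_sum]
      refine Finset.sum_congr rfl fun β _ => ?_
      have e : (Lib.Chars.inflate (P : Subgroup G) β : G → ℂ) g
          = (β : G ⧸ (P : Subgroup G) → ℂ) 1 := by
        show (β : G ⧸ (P : Subgroup G) → ℂ) (g : G ⧸ (P : Subgroup G)) = _
        rw [(QuotientGroup.eq_one_iff g).mpr hg]
      obtain ⟨d, -, hd⟩ := Lib.Chars.isIrrCharacter_exists_degree_pos β.2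
      rw [e, hd, Complex.normSq_natCast, Complex.ofReal_mul, Complex.ofReal_natCast, sq]
    exact_mod_cast h'
  have htot : ∑ χ : Cfsg.IrrCharacter G, Complex.normSq ((χ : G → ℂ) g)
      = (Nat.card P : ℝ) := by
    have h := Lib.Chars.column_orthogonality_of_isConj (IsConj.refl g)
    simp only [Complex.mul_conj] at h
    rw [hC] at h
    exact_mod_cast h
  have hsplit : ∑ χ ∈ Finset.univ.filter trivP, Complex.normSq ((χ : G → ℂ) g)
      + ∑ χ ∈ S, Complex.normSq ((χ : G → ℂ) g) = (Nat.card P : ℝ) := by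
    rw [Finset.sum_filter_add_sum_filter_not, htot]
  rw [htriv] at hsplit
  have hle : Nat.card (G ⧸ (P : Subgroup G)) + S.card ≤ Nat.card P := by
    have : (Nat.card (G ⧸ (P : Subgroup G)) : ℝ) + S.card ≤ Nat.card P := by linarith
    exact_mod_cast this
  have hcount : Nat.card (Cfsg.IrrCharacter G)
      = Nat.card (ConjClasses (G ⧸ (P : Subgroup G))) + S.card := by
    rw [Nat.card_eq_fintype_card, ← Finset.card_univ,
      ← Finset.card_filter_add_card_filter_not (s := Finset.univ) trivP, hrest,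
      Finset.card_image_of_injective _ hinj, Finset.card_univ, ← Nat.card_eq_fintype_card,
      Lib.Chars.card_irrCharacter]
  have hsurj : Function.Surjective (ConjClasses.mk : G ⧸ (P : Subgroup G) → _) :=
    ConjClasses.mk_surjective
  have hcl := Nat.card_le_card_of_surjective _ hsurj
  refine ⟨by omega, fun heq => ?_⟩
  have hcard : Nat.card (G ⧸ (P : Subgroup G)) = Nat.card (ConjClasses (G ⧸ (P : Subgroup G))) := by
    omega
  have hbij := (Nat.bijective_iff_surjective_and_card _).mpr ⟨hsurj, hcard⟩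
  rw [commutator_def, Subgroup.commutator_le]
  intro a _ b _
  rw [← QuotientGroup.eq_one_iff (N := (P : Subgroup G))]
  show ((a * b * a⁻¹ * b⁻¹ : G) : G ⧸ (P : Subgroup G)) = 1
  rw [QuotientGroup.mk_mul, QuotientGroup.mk_mul, QuotientGroup.mk_mul, QuotientGroup.mk_inv,
    QuotientGroup.mk_inv, mul_inv_eq_one]
  exact (hbij.1 (ConjClasses.mk_eq_mk_iff_isConj.mpr (isConj_iff.mpr ⟨(a : G ⧸ _), rfl⟩))).symm

end Cfsg.Agent.S0861
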