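import Cfsg.Statements.S0867
import Cfsg.Agent.Lib.Clifford.CharExtension
import Cfsg.Agent.Lib.Clifford.LinearExtension

set_option autoImplicit false
open Cfsg

namespace Cfsg.Agent.S0867

/-- Let N be a normal subgroup of the finite group G and ϑ an irreducible character of N of degree d, invariant under conjugation by G, such that the index of N is coprime to the product of d and the determinantal order of ϑ. Then there is an irreducible character χ of G restricting to ϑ whose determinantal order equals that of ϑ, and χ is the only irreducible character of G restricting to ϑ whose determinantal order is coprime to the index of N. -/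
theorem result {G : Type*} [Group G] [Finite G] (N : Subgroup G) [hN : N.Normal] (ϑ : N → ℂ) (hϑ : Cfsg.IsIrrCharacter N ϑ) (hinv : ∀ (g : G) (n : N), ϑ ⟨g * n * g⁻¹, hN.conj_mem (n : G) n.2 g⟩ = ϑ n) (d : ℕ) (hd : ϑ 1 = d) (hcop : Nat.Coprime N.index (Cfsg.detOrder ϑ * d)) : ∃ χ : G → ℂ, (Cfsg.IsIrrCharacter G χ ∧ (∀ n : N, χ n = ϑ n) ∧ Cfsg.detOrder χ = Cfsg.detOrder ϑ) ∧ ∀ χ' : G → ℂ, Cfsg.IsIrrCharacter G χ' → (∀ n : N, χ' n = ϑ n) → Nat.Coprime N.index (Cfsg.detOrder χ') → χ' = χ := by
  obtain ⟨f, hf⟩ := Lib.Clifford.exists_detHom hϑ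
  have hcd : Nat.Coprime N.index d := hcop.coprime_mul_left_right
  have hco : Nat.Coprime N.index (orderOf f) := by
    have := hcop.coprime_mul_right_right
    rwa [Cfsg.detOrder, hf, Lib.Clifford.orderOf_hom_coe] at this
  have hfinv : ∀ (g : G) (n : N), f ⟨g * n * g⁻¹, hN.conj_mem (n : G) n.2 g⟩ = f n := by
    intro g n
    obtain ⟨k, ρ, hρ, rfl⟩ := hϑ
    let e : N ≃* N := MulAut.conjNormal g
    obtain ⟨E⟩ := Lib.Clifford.equiv_of_char_eq ρ (ρ.comp e.toMonoidHom : Representation ℂ N _)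
      (funext fun m => (hinv g m).symm)
    have hdet := Lib.Clifford.det_equiv E n
    rw [Lib.Clifford.detChar_character ρ ⟨k, ρ, rfl⟩] at hf
    apply Units.ext
    rw [← congrFun hf, ← congrFun hf]
    exact hdet.symm
  obtain ⟨μ, hμ, hord⟩ := Lib.Clifford.exists_linear_extension_coprime f hfinv hco
  obtain ⟨χ, hχ, hres, hdet⟩ := Lib.Clifford.exists_char_extension hϑ hinv hd hcd μ
    (fun n => by rw [hμ, hf])
  refine ⟨χ, ⟨hχ, hres, ?_⟩, fun χ' hχ' hres' hc => ?_⟩
  · rw [Cfsg.detOrder, Cfsg.detOrder, hdet, hf, Lib.Clifford.orderOf_hom_coe,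
      Lib.Clifford.orderOf_hom_coe, hord]
  · obtain ⟨μ', hμ'⟩ := Lib.Clifford.exists_detHom hχ'
    rw [Cfsg.detOrder, hμ', Lib.Clifford.orderOf_hom_coe] at hc
    have : μ' = μ := Lib.Clifford.linear_extension_unique μ' μ (fun n => Units.ext (by
      rw [hμ, ← congrFun hf, Lib.Clifford.detChar_restrict hχ' hϑ hres', hμ'])) hc (hord ▸ hco)
    exact Lib.Clifford.char_extension_unique hϑ hd hcd hχ hχ' hres hres' (by rw [hμ', this, hdet])

end Cfsg.Agent.S0867
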