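import Cfsg.Statements.S0868
import Cfsg.Agent.Lib.Clifford.Gallagher

set_option autoImplicit false
open scoped ComplexConjugate
open Cfsg

namespace Cfsg.Agent.S0868

/-- Let N be a normal subgroup of the finite group G, χ an irreducible character of G whose restriction ϑ to N is irreducible, and ψ an irreducible character of G. Define η on G by η g = (1 / order of N) * Σ over n in N of ψ (n * g) * conj (χ (n * g)). Then: if the restriction of ψ to N has nonzero inner product with ϑ, η is an irreducible character of G; if that inner product is zero, η vanishes identically; and if ψ = χ then η is identically 1. -/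
theorem result {G : Type*} [Group G] [Fintype G] (N : Subgroup G) [N.Normal] [Fintype N] (χ : G → ℂ) (hχ : Cfsg.IsIrrCharacter G χ) (hχN : Cfsg.IsIrrCharacter N (fun n : N => χ n)) (ψ : G → ℂ) (hψ : Cfsg.IsIrrCharacter G ψ) (η : G → ℂ) (hη : η = fun g => (Nat.card N : ℂ)⁻¹ * ∑ n : N, ψ ((n : G) * g) * conj (χ ((n : G) * g))) : (Cfsg.classInner (fun n : N => ψ n) (fun n : N => χ n) ≠ 0 → Cfsg.IsIrrCharacter G η) ∧ (Cfsg.classInner (fun n : N => ψ n) (fun n : N => χ n) = 0 → η = 0) ∧ (ψ = χ → η = fun _ => 1) := by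
  classical
  obtain ⟨hirr, hinj, hiff⟩ := Lib.Clifford.gallagher (N := N) hχ hχN
  have hψcl := Lib.Chars.irr_isClassFunction ⟨ψ, hψ⟩
  have hχcl := Lib.Chars.irr_isClassFunction ⟨χ, hχ⟩
  let γ : G → ℂ := fun g => ψ g * conj (χ g)
  have hγ : Cfsg.IsClassFunction G γ := fun g k => by
    simp only [γ, show ψ (k * g * k⁻¹) = ψ g from hψcl g k,
      show χ (k * g * k⁻¹) = χ g from hχcl g k]
  have hηsum : η = ∑ β : Cfsg.IrrCharacter (G ⧸ N),
      Cfsg.classInner γ (Lib.Chars.inflate N β : G → ℂ) • (Lib.Chars.inflate N β : G → ℂ) := by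
    rw [← Lib.Clifford.cosetAvg_eq_sum hγ, hη]
  have hcoef : ∀ β : Cfsg.IrrCharacter (G ⧸ N),
      Cfsg.classInner γ (Lib.Chars.inflate N β : G → ℂ)
        = Cfsg.classInner ψ (χ * (Lib.Chars.inflate N β : G → ℂ)) := by
    intro β
    simp [Cfsg.classInner, γ, mul_assoc]
  have hdelta : ∀ β : Cfsg.IrrCharacter (G ⧸ N),
      Cfsg.classInner γ (Lib.Chars.inflate N β : G → ℂ)
        = if ψ = χ * (Lib.Chars.inflate N β : G → ℂ) then 1 else 0 := by
    intro β
    rw [hcoef]
    split_ifs with h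
    · rw [← h]
      exact Lib.Chars.classInner_irr_self ⟨ψ, hψ⟩
    · exact Lib.Chars.classInner_irr_of_ne (χ := ⟨ψ, hψ⟩) (ψ := ⟨_, hirr β⟩)
        (fun e => h (Subtype.ext_iff.mp e))
  refine ⟨fun h => ?_, fun h => ?_, fun h => ?_⟩
  · obtain ⟨β, hβ⟩ := (hiff ψ hψ).mp h
    have : η = (Lib.Chars.inflate N β : G → ℂ) := by
      rw [hηsum, Finset.sum_eq_single β]
      · rw [hdelta, if_pos hβ, one_smul]
      · intro b _ hb
        rw [hdelta, if_neg fun e => hb (hinj (e.symm.trans hβ)), zero_smul]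
      · exact fun h => absurd (Finset.mem_univ _) h
    rw [this]
    exact (Lib.Chars.inflate N β).2
  · rw [hηsum, Finset.sum_eq_zero]
    intro β _
    rw [hdelta, if_neg fun e => (hiff ψ hψ).mpr ⟨β, e⟩ h, zero_smul]
  · have htriv : (Lib.Chars.inflate N (Lib.Chars.trivialIrr (G ⧸ N)) : G → ℂ) = fun _ => 1 := rfl
    have hβ : ψ = χ * (Lib.Chars.inflate N (Lib.Chars.trivialIrr (G ⧸ N)) : G → ℂ) := by
      rw [htriv, h]; funext g; simp
    rw [hηsum, Finset.sum_eq_single (Lib.Chars.trivialIrr (G ⧸ N))]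
    · rw [hdelta, if_pos hβ, one_smul, htriv]
    · intro b _ hb
      rw [hdelta, if_neg fun e => hb (hinj (e.symm.trans hβ)), zero_smul]
    · exact fun h => absurd (Finset.mem_univ _) h

end Cfsg.Agent.S0868
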