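import Cfsg.Statements.S0873
import Mathlib


set_option autoImplicit false
open Cfsg

namespace Cfsg.Agent.S0873

/-- Let C be a normal subgroup of the finite group G of order prime to p and P a p-subgroup with C ⊔ P = G. Let λ be a character of C of degree 1 invariant under conjugation by G and equal to 1 at every element of C centralized by P. Then λ is identically 1. -/
theorem result {G : Type*} [Group G] [Finite G] (p : ℕ) [Fact p.Prime] (C P : Subgroup G) [hC : C.Normal] (hP : IsPGroup p P) (hcop : Nat.Coprime (Nat.card C) p) (hCP : C ⊔ P = ⊤) (lam : C → ℂ) (hlam : Cfsg.IsCharacter C lam ∧ lam 1 = 1) (hinv : ∀ (g : G) (c : C), lam ⟨g * c * g⁻¹, hC.conj_mem (c : G) c.2 g⟩ = lam c) (hker : ∀ c : C, (c : G) ∈ Subgroup.centralizer (P : Set G) → lam c = 1) : lam = fun _ => 1 := by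
  classical
  obtain ⟨⟨n, ρ, hρ⟩, h1⟩ := hlam
  have hn : Module.finrank ℂ (Fin n → ℂ) = 1 := by
    rw [← hρ, Representation.char_one] at h1
    exact_mod_cast h1
  obtain ⟨e, he⟩ : ∃ e : C → ℂ, ∀ c, ρ c = algebraMap ℂ (Module.End ℂ (Fin n → ℂ)) (e c) := by
    obtain ⟨v, -, hv⟩ := finrank_eq_one_iff'.1 hn
    choose e he using fun c => hv (ρ c v)
    refine ⟨e, fun c => LinearMap.ext fun w => ?_⟩
    obtain ⟨a, rfl⟩ := hv w
    rw [Module.algebraMap_end_apply, map_smul, ← he c, smul_comm]
  have hlame : ∀ c, lam c = e c := by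
    intro c
    rw [← hρ, Representation.character, he, Algebra.algebraMap_eq_smul_one, map_smul,
      LinearMap.trace_one, hn]
    simp
  have hmul : ∀ a b, lam (a * b) = lam a * lam b := by
    intro a b
    have h2 : ρ (a * b) = algebraMap ℂ _ (e a * e b) := by rw [map_mul, he, he, map_mul]
    conv_lhs => rw [← hρ, Representation.character, h2, Algebra.algebraMap_eq_smul_one, map_smul,
      LinearMap.trace_one, hn]
    simp [hlame]
  funext c
  let X := {d : C // lam d = lam c}
  let : MulAction P X :=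
    { smul := fun g d => ⟨⟨(g : G) * d.1 * (g : G)⁻¹, hC.conj_mem _ d.1.2 _⟩,
        (hinv g d.1).trans d.2⟩
      one_smul := fun d => Subtype.ext (Subtype.ext (show ((1 : P) : G) * (d.1 : G) *
        ((1 : P) : G)⁻¹ = (d.1 : G) by simp))
      mul_smul := fun a b d => Subtype.ext (Subtype.ext (show ((a * b : P) : G) * (d.1 : G) *
        ((a * b : P) : G)⁻¹ = (a : G) * ((b : G) * (d.1 : G) * (b : G)⁻¹) * (a : G)⁻¹ by
          simp [mul_assoc])) }
  let lhom : C →* ℂ := { toFun := lam, map_one' := h1, map_mul' := hmul }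
  have hcardX : Nat.card X = Nat.card lhom.ker := by
    refine Nat.card_congr
      { toFun := fun d => ⟨c⁻¹ * d.1, ?_⟩
        invFun := fun d => ⟨c * d.1, ?_⟩
        left_inv := fun d => by simp
        right_inv := fun d => by simp }
    · change lam (c⁻¹ * d.1) = 1
      rw [hmul, d.2, ← hmul, inv_mul_cancel, h1]
    · rw [hmul, show lam d.1 = 1 from d.2, mul_one]
  have hcop2 : ¬ p ∣ Nat.card X := by
    rw [hcardX]
    exact ((Fact.out : p.Prime).coprime_iff_not_dvd).1
      ((hcop.coprime_dvd_left lhom.ker.card_subgroup_dvd_card).symm)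
  obtain ⟨⟨d, hd⟩, hfix⟩ := hP.nonempty_fixed_point_of_prime_not_dvd_card X hcop2
  rw [← hd]
  refine hker d ?_
  rw [Subgroup.mem_centralizer_iff]
  intro g hg
  exact mul_inv_eq_iff_eq_mul.1 (congrArg (fun y : X => ((y.1 : C) : G)) (hfix ⟨g, hg⟩))

end Cfsg.Agent.S0873
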