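import Cfsg.Statements.S0875
import Mathlib
import Cfsg.Agent.Lib.BrauerInd.SectionSum

open scoped ComplexConjugate

set_option autoImplicit false
open Cfsg

namespace Cfsg.Agent.S0875

/-- Let G be a finite group of order m * n with m and n coprime, and g an element whose order is coprime to m. Every x in G factors uniquely as x = u * v with u, v commuting, the order of u coprime to n and the order of v coprime to m; let ϑ be the function on G equal to n at those x whose factor v is conjugate to g and equal to 0 elsewhere. Then ϑ is a linear combination of the irreducible characters of G with algebraic-integer coefficients. -/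
theorem result {G : Type*} [Group G] [Fintype G] (m n : ℕ) (hmn : Nat.card G = m * n) (hcop : Nat.Coprime m n) (g : G) (hg : Nat.Coprime (orderOf g) m) (ϑ : G → ℂ) (hϑ1 : ∀ x : G, (∃ v : G, IsConj v g ∧ (∃ u : G, x = u * v ∧ Commute u v ∧ Nat.Coprime (orderOf u) n ∧ Nat.Coprime (orderOf v) m)) → ϑ x = n) (hϑ0 : ∀ x : G, (¬ ∃ v : G, IsConj v g ∧ (∃ u : G, x = u * v ∧ Commute u v ∧ Nat.Coprime (orderOf u) n ∧ Nat.Coprime (orderOf v) m)) → ϑ x = 0) : ∃ c : Cfsg.IrrCharacter G → ℂ, (∀ χ, c χ ∈ Cfsg.AlgInt) ∧ ϑ = ∑ᶠ χ : Cfsg.IrrCharacter G, c χ • (χ : G → ℂ) := by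
  classical
  obtain ⟨k, hk⟩ := Lib.BrauerInd.exists_isProjExp hmn hcop
  have hgn : g ^ n = 1 := hk.pow_n_of_coprime hg
  have hiff : ∀ x : G, (∃ v : G, IsConj v g ∧ ∃ u : G, x = u * v ∧ Commute u v ∧
      Nat.Coprime (orderOf u) n ∧ Nat.Coprime (orderOf v) m) ↔ IsConj (x ^ k) g := by
    intro x
    constructor
    · rintro ⟨v, hv, u, rfl, hc, hu, hv'⟩
      rwa [hk.mul_pow_eq hc (hk.pow_m_of_coprime hu) (hk.pow_n_of_coprime hv')]
    · intro h
      refine ⟨x ^ k, h, x * (x ^ k)⁻¹, (inv_mul_cancel_right x _).symm, ?_, ?_, ?_⟩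
      · exact ((Commute.refl x).pow_right k).mul_left (Commute.refl (x ^ k)).inv_left
      · exact hcop.coprime_dvd_left (orderOf_dvd_of_pow_eq_one (hk.compl_pow_m x))
      · exact hk.coprime_m_of_pow_n (hk.pow_n x)
  let S : Finset G := Finset.univ.filter fun x => IsConj (x ^ k) g
  have hϑ : ∀ x, ϑ x = if x ∈ S then (n : ℂ) else 0 := by
    intro x
    by_cases hx : IsConj (x ^ k) g
    · rw [if_pos (show x ∈ S from Finset.mem_filter.2 ⟨Finset.mem_univ x, hx⟩)]
      exact hϑ1 x ((hiff x).2 hx)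
    · rw [if_neg (show x ∉ S from fun h => hx (Finset.mem_filter.1 h).2)]
      exact hϑ0 x (fun h => hx ((hiff x).1 h))
  have hclass : Cfsg.IsClassFunction G ϑ := by
    intro x y
    rw [hϑ, hϑ]
    have h1 : IsConj ((y * x * y⁻¹) ^ k) g ↔ IsConj (x ^ k) g := by
      rw [conj_pow]
      have h2 : IsConj (x ^ k) (y * x ^ k * y⁻¹) := isConj_iff.2 ⟨y, rfl⟩
      exact ⟨fun h => h2.trans h, fun h => h2.symm.trans h⟩
    simp only [S, Finset.mem_filter, Finset.mem_univ, true_and, h1]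
  refine ⟨fun χ => Cfsg.classInner ϑ (χ : G → ℂ), fun χ => ?_, ?_⟩
  swap
  · rw [Lib.Chars.finsum_irr]
    exact Lib.Chars.isClassFunction_eq_sum_classInner hclass
  rw [Cfsg.AlgInt, mem_integralClosure_iff]
  set C := Subgroup.centralizer ({g} : Set G)
  set d := Nat.gcd (Nat.card C) m with hd
  let U : Finset C := Finset.univ.filter fun u => (u : G) ^ m = 1
  have hU : ∀ u, u ∈ U ↔ (u : G) ^ m = 1 := fun u => by simp [U]
  have hUd : ∀ u, u ∈ U ↔ u ^ d = 1 := by
    intro u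
    rw [hU, ← orderOf_dvd_iff_pow_eq_one, ← orderOf_dvd_iff_pow_eq_one, hd, Nat.dvd_gcd_iff,
      Subgroup.orderOf_coe]
    exact ⟨fun h => ⟨orderOf_dvd_natCard u, h⟩, fun h => h.2⟩
  have hdC : d ∣ Nat.card C := Nat.gcd_dvd_left _ _
  have hdm : d ∣ m := Nat.gcd_dvd_right _ _
  have hm0 : m ≠ 0 := fun h => by
    rw [h, zero_mul] at hmn; exact Nat.card_pos.ne' hmn
  have hd0 : d ≠ 0 := fun h => hm0 (zero_dvd_iff.1 (h ▸ hdm))
  have hCn : Nat.card C / d ∣ n := by
    have h1 : Nat.card C ∣ m * n := hmn ▸ C.card_subgroup_dvd_card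
    obtain ⟨a, ha⟩ := hdC
    obtain ⟨b, hb⟩ := hdm
    rw [ha, Nat.mul_div_cancel_left _ (Nat.pos_of_ne_zero hd0)]
    have hab : Nat.Coprime a b := by
      have h2 : Nat.gcd (d * a) (d * b) = d := by rw [← ha, ← hb, hd]
      rw [Nat.gcd_mul_left] at h2
      exact Nat.eq_of_mul_eq_mul_left (Nat.pos_of_ne_zero hd0) (h2.trans (mul_one d).symm)
    rw [ha, hb, mul_assoc] at h1
    exact hab.dvd_of_dvd_mul_left (Nat.dvd_of_mul_dvd_mul_left (Nat.pos_of_ne_zero hd0) h1)
  have hcopd : Nat.Coprime d (Nat.card C / d) :=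
    (hcop.coprime_dvd_left hdm).coprime_dvd_right hCn
  have hgC : (⟨g, Subgroup.mem_centralizer_singleton_iff.2 rfl⟩ : C) ∈ Subgroup.center C := by
    rw [Subgroup.mem_center_iff]
    intro c
    exact Subtype.ext (Subgroup.mem_centralizer_singleton_iff.1 c.2)
  have hχ : Cfsg.IsCharacter G (χ : G → ℂ) := Lib.Chars.irr_isCharacter χ
  have hconjchar := Lib.Chars.isCharacter_star hχ
  have hint := Lib.BrauerInd.isIntegral_sum_pow_div hdC hcopd _ hgC
    (Lib.Chars.isCharacter_restrict C hconjchar) U hUd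
  have hsec := hk.card_centralizer_mul_sum_section hgn _
    (Lib.Chars.isClassFunction_of_isCharacter hconjchar) S (fun x => by simp [S]) U hU
  obtain ⟨r, hr⟩ := hCn
  have heq : Cfsg.classInner ϑ (χ : G → ℂ) = (r : ℂ) *
      ((∑ u ∈ U, conj ((χ : G → ℂ) ((u : G) * g))) / d) := by
    rw [Cfsg.classInner]
    have h1 : ∑ x : G, ϑ x * conj ((χ : G → ℂ) x) = (n : ℂ) * ∑ x ∈ S, conj ((χ : G → ℂ) x) := by
      rw [Finset.sum_congr rfl fun x _ => by rw [hϑ x, ite_mul, zero_mul], Finset.sum_ite_mem,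
        Finset.univ_inter, Finset.mul_sum]
    rw [h1]
    have hG : (Nat.card G : ℂ) ≠ 0 := Nat.cast_ne_zero.2 Nat.card_pos.ne'
    have hCd : (Nat.card C : ℂ) = d * ((Nat.card C / d : ℕ) : ℂ) := by
      rw [← Nat.cast_mul, Nat.mul_div_cancel' hdC]
    have hn : (n : ℂ) = ((Nat.card C / d : ℕ) : ℂ) * r := by exact_mod_cast hr
    have hd' : (d : ℂ) ≠ 0 := Nat.cast_ne_zero.2 hd0
    have hC' : (Nat.card C : ℂ) ≠ 0 := Nat.cast_ne_zero.2 Nat.card_pos.ne'
    rw [hn]
    rw [hCd] at hsec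
    field_simp
    linear_combination (r : ℂ) * hsec
  change IsIntegral ℤ (Cfsg.classInner ϑ (χ : G → ℂ))
  rw [heq]
  exact (by simpa using (isIntegral_algebraMap (R := ℤ) (A := ℂ) (x := (r : ℤ))) :
    IsIntegral ℤ (r : ℂ)).mul hint

end Cfsg.Agent.S0875
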