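import Mathlib
import Cfsg.Statements.S0876
import Cfsg.Agent.S0875
import Cfsg.Agent.Lib.Blocks.PPart
import Cfsg.Agent.Lib.BlockCongr.Basic
-- import your own Cfsg.Agent.* helpers here

set_option autoImplicit false
open Cfsg

namespace Cfsg.Agent.S0876

/-- Let G be a finite group, p a prime and M a maximal ideal of the ring of algebraic integers containing p. Let x, y be elements with p-parts a and b (so a⁻¹ * x and b⁻¹ * y are their p-regular parts). Then a⁻¹ * x and b⁻¹ * y are conjugate in G if and only if, for every irreducible character χ, the difference χ x - χ y lies in the local ideal at M. -/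
theorem result {G : Type*} [Group G] [Finite G] (p : ℕ) (M : Ideal Cfsg.AlgInt) (hM : Cfsg.IsPModular p M) (x y a b : G) (ha : Cfsg.IsPPart p x a) (hb : Cfsg.IsPPart p y b) : IsConj (a⁻¹ * x) (b⁻¹ * y) ↔ ∀ χ : Cfsg.IrrCharacter G, Cfsg.MemLocalIdeal M ((χ : G → ℂ) x - (χ : G → ℂ) y) := by
  classical
  have := hM.2.1.isPrime
  have hp := hM.1
  have := Fact.mk hp
  let := Fintype.ofFinite G
  have hreg : ∀ {z c : G}, Cfsg.IsPPart p z c →
      ¬ p ∣ orderOf (c⁻¹ * z) ∧ ∀ χ : Cfsg.IrrCharacter G,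
        Cfsg.MemLocalIdeal M ((χ : G → ℂ) z - (χ : G → ℂ) (c⁻¹ * z)) := by
    intro z c hc
    obtain ⟨m, n, j, h1, h2, h3⟩ := Lib.BlockCongr.exists_split hp z
    have hnm : z ^ n * z ^ m = z := by rw [← pow_add, add_comm, h2]
    obtain ⟨k, -, hk⟩ := (Nat.dvd_prime_pow hp).1 (orderOf_dvd_of_pow_eq_one h1)
    have hpp : Cfsg.IsPPart p z (z ^ n) :=
      ⟨z ^ m, hnm, Commute.pow_pow (Commute.refl z) n m, ⟨k, hk⟩, h3⟩
    rw [Lib.Blocks.isPPart_unique hc hpp, show (z ^ n)⁻¹ * z = z ^ m from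
      inv_mul_eq_iff_eq_mul.2 hnm.symm]
    exact ⟨h3, fun χ => Lib.BlockCongr.char_congr_of_pow hM (Lib.Chars.irr_isCharacter χ) h1 h2⟩
  obtain ⟨hxr, hxc⟩ := hreg ha
  obtain ⟨hyr, hyc⟩ := hreg hb
  set x' := a⁻¹ * x
  set y' := b⁻¹ * y
  constructor
  · intro h χ
    have e : (χ : G → ℂ) x' = (χ : G → ℂ) y' :=
      Lib.Chars.isClassFunction_apply_eq (Lib.Chars.irr_isClassFunction χ) h.symm
    have h1 := Lib.Blocks.memLocalIdeal_sub (hxc χ) (hyc χ)
    rwa [e, sub_sub_sub_cancel_right] at h1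
  · intro h
    by_contra hne
    set N := Nat.card G
    set v := N.factorization p
    have hN : N = p ^ v * (N / p ^ v) := (Nat.ordProj_mul_ordCompl_eq_self _ _).symm
    have hpn : ¬ p ∣ N / p ^ v := Nat.not_dvd_ordCompl hp Nat.card_pos.ne'
    have hco : Nat.Coprime (p ^ v) (N / p ^ v) := (hp.coprime_iff_not_dvd.2 hpn).pow_left v
    obtain ⟨k, hk⟩ := Lib.BrauerInd.exists_isProjExp hN hco
    have hcp : ∀ z : G, ¬ p ∣ orderOf z → Nat.Coprime (orderOf z) (p ^ v) :=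
      fun z hz => ((hp.coprime_iff_not_dvd.2 hz).symm).pow_right v
    have hiff : ∀ z : G, (∃ w : G, IsConj w x' ∧ ∃ u : G, z = u * w ∧ Commute u w ∧
        Nat.Coprime (orderOf u) (N / p ^ v) ∧ Nat.Coprime (orderOf w) (p ^ v)) →
        IsConj (z ^ k) x' := by
      rintro z ⟨w, hw, u, rfl, hc, hu, hw'⟩
      rwa [hk.mul_pow_eq hc (hk.pow_m_of_coprime hu) (hk.pow_n_of_coprime hw')]
    let ϑ : G → ℂ := fun z => if (∃ w : G, IsConj w x' ∧ ∃ u : G, z = u * w ∧ Commute u w ∧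
      Nat.Coprime (orderOf u) (N / p ^ v) ∧ Nat.Coprime (orderOf w) (p ^ v)) then
        ((N / p ^ v : ℕ) : ℂ) else 0
    obtain ⟨c, hc, hϑ⟩ := S0875.result (p ^ v) (N / p ^ v) hN hco x' (hcp x' hxr) ϑ
      (fun z hz => if_pos hz) (fun z hz => if_neg hz)
    have h1 : ϑ x' = ((N / p ^ v : ℕ) : ℂ) := if_pos ⟨x', IsConj.refl _, 1, (one_mul _).symm,
      Commute.one_left _, by simp, hcp x' hxr⟩
    have h2 : ϑ y' = 0 := if_neg fun h' => hne (by
      have h'' := hiff y' h'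
      rw [hk.pow_eq_self (hk.pow_n_of_coprime (hcp y' hyr))] at h''
      exact h''.symm)
    have h3 : Cfsg.MemLocalIdeal M (ϑ x' - ϑ y') := by
      rw [hϑ, Lib.Chars.finsum_irr, Finset.sum_apply, Finset.sum_apply, ← Finset.sum_sub_distrib]
      refine Lib.Blocks.memLocalIdeal_sum _ _ fun χ _ => ?_
      rw [Pi.smul_apply, Pi.smul_apply, ← smul_sub, smul_eq_mul]
      refine Lib.Blocks.memLocalIdeal_mul_left
        (Lib.Blocks.mem_localRing.1 (Lib.Blocks.algInt_mem_localRing ⟨c χ, hc χ⟩)) ?_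
      have h4 := Lib.Blocks.memLocalIdeal_sub (Lib.Blocks.memLocalIdeal_add (h χ) (hyc χ)) (hxc χ)
      convert h4 using 1
      ring
    rw [h1, h2, sub_zero, Lib.Blocks.memLocalIdeal_natCast_iff hM] at h3
    exact hpn h3

end Cfsg.Agent.S0876
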