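import Mathlib
import Cfsg.Statements.S0879
import Cfsg.Agent.Lib.Zassenhaus.Basic
-- import your own Cfsg.Agent.* helpers here

set_option autoImplicit false
open Cfsg

namespace Cfsg.Agent.S0879

/-- Let G be a Zassenhaus group on the finite set Ω and E the stabilizer of two distinct points a, b. Then an element outside the normalizer of E conjugates no non-identity element of E into E, and E has index 2 in its normalizer. -/
theorem result {G Ω : Type*} [Group G] [Finite G] [MulAction G Ω] [Fintype Ω] (hZ : Cfsg.IsZassenhausGroup G Ω) {a b : Ω} (hab : a ≠ b) : (∀ g : G, g ∉ Subgroup.normalizer ((MulAction.stabilizer G a ⊓ MulAction.stabilizer G b : Subgroup G) : Set G) → ∀ x ∈ (MulAction.stabilizer G a ⊓ MulAction.stabilizer G b : Subgroup G), g * x * g⁻¹ ∈ (MulAction.stabilizer G a ⊓ MulAction.stabilizer G b : Subgroup G) → x = 1) ∧ ((MulAction.stabilizer G a ⊓ MulAction.stabilizer G b : Subgroup G).subgroupOf (Subgroup.normalizer ((MulAction.stabilizer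 G a ⊓ MulAction.stabilizer G b : Subgroup G) : Set G))).index = 2 := by
  classical
  obtain ⟨hf, h2, h3, hfix, -⟩ := hZ
  set E := MulAction.stabilizer G a ⊓ MulAction.stabilizer G b
  have hmem : ∀ x : G, x ∈ E ↔ x • a = a ∧ x • b = b := fun x => Iff.rfl
  have hpair : ∀ g : G, ((g • a = a ∧ g • b = b) ∨ (g • a = b ∧ g • b = a)) →
      g ∈ Subgroup.normalizer (E : Set G) := by
    intro g hg
    have hswap : ∀ g : G, ((g • a = a ∧ g • b = b) ∨ (g • a = b ∧ g • b = a)) → ∀ x ∈ E,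
        g⁻¹ * x * g ∈ E := by
      intro g hg x hx
      rw [hmem] at hx ⊢
      simp only [mul_smul, inv_smul_eq_iff]
      rcases hg with ⟨e1, e2⟩ | ⟨e1, e2⟩ <;> simp [e1, e2, hx.1, hx.2]
    have hinv : (g⁻¹ • a = a ∧ g⁻¹ • b = b) ∨ (g⁻¹ • a = b ∧ g⁻¹ • b = a) := by
      simp only [inv_smul_eq_iff]
      rcases hg with ⟨e1, e2⟩ | ⟨e1, e2⟩
      · exact Or.inl ⟨e1.symm, e2.symm⟩
      · exact Or.inr ⟨e2.symm, e1.symm⟩
    rw [Subgroup.mem_normalizer_iff]
    intro x
    refine ⟨fun hx => ?_, fun hx => ?_⟩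
    · have := hswap g⁻¹ hinv x hx; rwa [inv_inv] at this
    · have := hswap g hg _ hx; simpa [mul_assoc] using this
  have key : ∀ g : G, ∀ x ∈ E, g * x * g⁻¹ ∈ E → x ≠ 1 →
      (g • a = a ∧ g • b = b) ∨ (g • a = b ∧ g • b = a) := by
    intro g x hx hgx hx1
    rw [hmem] at hx hgx
    have hne : g * x * g⁻¹ ≠ 1 := fun e => hx1 (by
      calc x = g⁻¹ * (g * x * g⁻¹) * g := by group
        _ = 1 := by rw [e]; group)
    have hga : g • a = a ∨ g • a = b := by
      by_contra h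
      push Not at h
      refine hne (h3 _ a b (g • a) hab (Ne.symm h.2) (Ne.symm h.1) hgx.1 hgx.2 ?_)
      rw [mul_smul, mul_smul, inv_smul_smul, hx.1]
    have hgb : g • b = a ∨ g • b = b := by
      by_contra h
      push Not at h
      refine hne (h3 _ a b (g • b) hab (Ne.symm h.2) (Ne.symm h.1) hgx.1 hgx.2 ?_)
      rw [mul_smul, mul_smul, inv_smul_smul, hx.2]
    rcases hga with e | e <;> rcases hgb with e' | e'
    · exact absurd (smul_left_cancel g (e.trans e'.symm)) hab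
    · exact Or.inl ⟨e, e'⟩
    · exact Or.inr ⟨e, e'⟩
    · exact absurd (smul_left_cancel g (e.trans e'.symm)) hab
  refine ⟨fun g hg x hx hgx => by_contra fun hx1 => hg (hpair g (key g x hx hgx hx1)), ?_⟩
  obtain ⟨x₀, hx₀, hx₀a, hx₀b⟩ := Lib.Zassenhaus.exists_fix_pair h2 hfix hab
  obtain ⟨t, hta, htb⟩ := MulAction.is_two_pretransitive_iff.1 h2 hab hab.symm
  rw [Subgroup.index_eq_two_iff]
  refine ⟨⟨t, hpair t (Or.inr ⟨hta, htb⟩)⟩, fun g => ?_⟩
  simp only [Subgroup.mem_subgroupOf, hmem, Subgroup.coe_mul, mul_smul, hta, htb]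
  rcases key g x₀ ⟨hx₀a, hx₀b⟩ ((Subgroup.mem_normalizer_iff.1 g.2 x₀).1 ⟨hx₀a, hx₀b⟩) hx₀ with
    ⟨e1, e2⟩ | ⟨e1, e2⟩
  · simp [e1, e2, hab, hab.symm, Xor']
  · simp [e1, e2, hab, hab.symm, Xor']

end Cfsg.Agent.S0879
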