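import Mathlib
import Cfsg.Statements.S0880
import Cfsg.Agent.Lib.Zassenhaus.SimpleOdd
-- import your own Cfsg.Agent.* helpers here

set_option autoImplicit false
open Cfsg

namespace Cfsg.Agent.S0880

/-- Let G be a finite simple Zassenhaus group on Ω with n points whose two-point stabilizer E has odd order less than n - 2. Then there are two elements of G, each fixing no point of Ω, that are not conjugate. -/
theorem result {G Ω : Type*} [Group G] [Finite G] [MulAction G Ω] [Fintype Ω] (hZ : Cfsg.IsZassenhausGroup G Ω) {a b : Ω} (hab : a ≠ b) [IsSimpleGroup G] (hodd : Odd (Nat.card ↥(MulAction.stabilizer G a ⊓ MulAction.stabilizer G b : Subgroup G))) (hlt : Nat.card ↥(MulAction.stabilizer G a ⊓ MulAction.stabilizer G b : Subgroup G) < Fintype.card Ω - 2) : ∃ x y : G, (∀ c : Ω, x • c ≠ c) ∧ (∀ c : Ω, y • c ≠ c) ∧ ¬ IsConj x y := by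
  classical
  let := Fintype.ofFinite G
  have hn := Lib.Zassenhaus.SimpleOdd.three_le hZ
  have hcount := Lib.Zassenhaus.SimpleOdd.two_mul_card_free hZ hab
  have hcardG := Lib.Zassenhaus.SimpleOdd.card_group hZ.2.1 hab
  set n := Fintype.card Ω with hn'
  set e := Nat.card ↥(MulAction.stabilizer G a ⊓ MulAction.stabilizer G b : Subgroup G) with he'
  have he3 : 3 ≤ e := by
    have h1 : e ≠ 1 := fun h =>
      Lib.Zassenhaus.SimpleOdd.pair_ne_bot hZ hab (Subgroup.card_eq_one.1 h)
    obtain ⟨k, hk⟩ := hodd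
    omega
  by_contra hall
  push Not at hall
  set F := Nat.card {g : G // ∀ c : Ω, g • c ≠ c} with hF'
  obtain ⟨k, hk⟩ : ∃ k, n = k + 3 := ⟨n - 3, by omega⟩
  rw [hk] at hcount hcardG
  simp only [show k + 3 - 1 = k + 2 from rfl, show k + 3 - 2 = k + 1 from rfl] at hcount hcardG
  rw [hcardG] at hcount
  have hpos : 0 < F := by
    rcases Nat.eq_zero_or_pos F with h | h
    · rw [h] at hcount; exfalso; nlinarith
    · exact h
  obtain ⟨⟨x₀, hx₀⟩⟩ : Nonempty {g : G // ∀ c : Ω, g • c ≠ c} := (Nat.card_pos_iff.1 hpos).1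
  have hclass : F * Nat.card (MulAction.stabilizer (ConjAct G) x₀) = Nat.card G := by
    have hset : {g : G | ∀ c : Ω, g • c ≠ c} = MulAction.orbit (ConjAct G) x₀ := by
      ext g
      rw [ConjAct.mem_orbit_conjAct, Set.mem_ofPred_eq]
      refine ⟨fun hg => hall g x₀ hg hx₀, fun hg c hc => ?_⟩
      obtain ⟨m, hm⟩ := isConj_iff.1 hg
      exact hx₀ (m • c) (by rw [← hm, mul_smul, mul_smul, inv_smul_smul, hc])
    have h1 := (MulAction.stabilizer (ConjAct G) x₀).index_mul_card
    rw [MulAction.index_stabilizer, ← hset, ← Nat.card_coe_set_eq] at h1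
    exact h1.trans (Nat.card_congr ConjAct.ofConjAct.toEquiv)
  generalize Nat.card (MulAction.stabilizer (ConjAct G) x₀) = j at hclass
  rw [hcardG] at hclass
  have key : ((k + 3) * e - (k + 1)) * j = 2 * ((k + 3) * e) := by
    refine Nat.eq_of_mul_eq_mul_left (show 0 < k + 2 by omega) ?_
    have h2 : 2 * F = (k + 2) * ((k + 3) * e - (k + 1)) := by
      rw [Nat.mul_sub]
      have : (k + 3) * ((k + 2) * e) = (k + 2) * ((k + 3) * e) := by ring
      omega
    rw [← mul_assoc, ← h2, mul_assoc, hclass]; ring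
  have hle : k + 1 ≤ (k + 3) * e := by nlinarith
  obtain ⟨d, hd⟩ : ∃ d, (k + 3) * e = d + (k + 1) := ⟨(k + 3) * e - (k + 1), by omega⟩
  rw [hd, Nat.add_sub_cancel] at key
  rcases j with _ | _ | _ | j
  · simp only [mul_zero] at key; omega
  · omega
  · omega
  · have h3 : d * 3 ≤ d * (j + 3) := Nat.mul_le_mul_left _ (by omega)
    have h4 : 3 * (k + 3) ≤ (k + 3) * e := by nlinarith
    have : j + 1 + 1 + 1 = j + 3 := rfl
    rw [this] at key
    omega

end Cfsg.Agent.S0880
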