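import Mathlib
import Cfsg.Statements.S0883
import Cfsg.Agent.Lib.Zassenhaus.SimpleOdd
-- import your own Cfsg.Agent.* helpers here

set_option autoImplicit false
open Cfsg

namespace Cfsg.Agent.S0883

/-- Let G be a finite simple Zassenhaus group on Ω with h + 1 points whose two-point stabilizer E has odd order e with 2e < h - 1, and let H be the subgroup of the stabilizer of a consisting of the identity and the elements fixing no point other than a (given here as a subgroup of the stabilizer of order one less than the number of points whose non-identity elements fix only a; it is the Frobenius kernel of the stabilizer). If a non-identity element u of H is a product of two involutions of G, then u is an involution. -/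
theorem result {G Ω : Type*} [Group G] [Finite G] [MulAction G Ω] [Fintype Ω] (hZ : Cfsg.IsZassenhausGroup G Ω) {a b : Ω} (hab : a ≠ b) [IsSimpleGroup G] (h e : ℕ) (hh : Fintype.card Ω = h + 1) (he : Nat.card ↥(MulAction.stabilizer G a ⊓ MulAction.stabilizer G b : Subgroup G) = e) (hodd : Odd e) (hlt : 2 * e < h - 1) (H : Subgroup G) (hHa : H ≤ MulAction.stabilizer G a) (hHcard : Nat.card H + 1 = Fintype.card Ω) (hHfix : ∀ u ∈ H, u ≠ 1 → ∀ c : Ω, u • c = c → c = a) (u : G) (hu : u ∈ H) (hu1 : u ≠ 1) (x y : G) (hx : orderOf x = 2) (hy : orderOf y = 2) (hxy : x * y = u) : orderOf u = 2 := by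
  have hodd' := he ▸ hodd
  have hinv := (Lib.Zassenhaus.SimpleOdd.simple_inverts hZ hab hodd').2
  have hxx : x * x = 1 := by rw [← pow_two, ← hx, pow_orderOf_eq_one]
  have hyy : y * y = 1 := by rw [← pow_two, ← hy, pow_orderOf_eq_one]
  have hxi : x⁻¹ = x := inv_eq_of_mul_eq_one_right hxx
  have hyi : y⁻¹ = y := inv_eq_of_mul_eq_one_right hyy
  have hua : u • a = a := hHa hu
  have hxu : x * u * x = u⁻¹ := by
    rw [← hxy, mul_inv_rev, hxi, hyi, ← mul_assoc, hxx, one_mul]
  have hxa : x • a = a := by
    refine hHfix u⁻¹ (H.inv_mem hu) (fun h => hu1 (inv_eq_one.1 h)) _ ?_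
    rw [← hxu, mul_smul, mul_smul, ← mul_smul x x, hxx, one_smul, hua]
  have hya : y • a = a := by
    rw [show y = x * u by rw [← hxy, ← mul_assoc, hxx, one_mul], mul_smul, hua, hxa]
  have hcomm := Lib.Zassenhaus.SimpleOdd.commute_of_same_fix hZ hinv hab hodd' hx hy hxa hya
  refine orderOf_eq_prime ?_ hu1
  rw [← hxy, (show Commute x y from hcomm).mul_pow, ← hx, pow_orderOf_eq_one, hx, ← hy,
    pow_orderOf_eq_one, one_mul]

end Cfsg.Agent.S0883
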