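import Cfsg.Statements.S0888
import Mathlib
import Cfsg.Agent.Lib.CharExt.Characters

set_option autoImplicit false
open Cfsg

namespace Cfsg.Agent.S0888

/-- Let N be a normal subgroup of the finite group G and ϑ an irreducible character of N invariant under conjugation by G. Suppose that for every prime p there are a subgroup P containing N, of index prime to p and with the index of N in P a power of p, and an irreducible character of P restricting to ϑ. Then ϑ is the restriction of an irreducible character of G. -/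
theorem result {G : Type*} [Group G] [Finite G] (N : Subgroup G) [hN : N.Normal] (ϑ : N → ℂ) (hϑ : Cfsg.IsIrrCharacter N ϑ) (hinv : ∀ (g : G) (n : N), ϑ ⟨g * n * g⁻¹, hN.conj_mem (n : G) n.2 g⟩ = ϑ n) (hsyl : ∀ p : ℕ, p.Prime → ∃ (P : Subgroup G) (hNP : N ≤ P) (η : P → ℂ), Nat.Coprime P.index p ∧ (∃ k : ℕ, N.relIndex P = p ^ k) ∧ Cfsg.IsIrrCharacter P η ∧ ∀ n : N, η ⟨(n : G), hNP n.2⟩ = ϑ n) : ∃ χ : G → ℂ, Cfsg.IsIrrCharacter G χ ∧ ∀ n : N, χ n = ϑ n := by
  obtain ⟨n, σ, hσirr, hσ⟩ := hϑ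
  have hsurj := Lib.CharExt.projG_surjective_of_char_invariant N σ ϑ hσ hinv
  refine Lib.CharExt.exists_irrCharacter_of_extension N σ ϑ hσ
    (Lib.CharExt.exists_extension_of_one_mem N σ hsurj
      (Lib.CharExt.one_mem_of_forall_prime _ fun p hp => ?_))
  obtain ⟨P, hNP, η, hcop, -, ⟨m, S, -, hS⟩, hη⟩ := hsyl p hp
  obtain ⟨R, hR⟩ := Lib.CharExt.exists_rep_restrict_eq N σ P hNP S fun x => by
    rw [hS, hσ]; exact hη x
  refine ⟨(P.index : ℤ), Lib.CharExt.index_mem_splitExponents N σ hsurj P hNP R hR, fun hdvd => ?_⟩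
  rw [Int.natCast_dvd_natCast] at hdvd
  exact (hp.coprime_iff_not_dvd.1 hcop.symm) hdvd

end Cfsg.Agent.S0888
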