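import Mathlib
import Cfsg.Statements.S0895
import Cfsg.Agent.Lib.Chars.Basic
-- import your own Cfsg.Agent.* helpers here

set_option autoImplicit false
open Cfsg

namespace Cfsg.Agent.S0895

/-- Let χ be a real-valued irreducible character of a finite group G whose degree is an odd natural number. Then the average over s in G of χ (s * s) equals 1. -/
theorem result {G : Type*} [Group G] [Fintype G] (χ : G → ℂ) (hχ : Cfsg.IsIrrCharacter G χ) (hreal : ∀ g : G, (χ g).im = 0) (d : ℕ) (hd : χ 1 = d) (hodd : Odd d) : (Nat.card G : ℂ)⁻¹ * ∑ s : G, χ (s * s) = 1 := by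
  classical
  obtain ⟨n, ρ, hirr, hρ⟩ := hχ
  have hn : n = d := by
    rw [← hρ, Representation.char_one, Module.finrank_fin_fun] at hd
    exact_mod_cast hd
  let M : G →* Matrix (Fin n) (Fin n) ℂ :=
    (LinearMap.toMatrixAlgEquiv' (R := ℂ) (n := Fin n)).toMonoidHom.comp ρ
  have htr : ∀ s, χ s = (M s).trace := by
    intro s
    rw [← hρ, Representation.character, LinearMap.trace_eq_matrix_trace ℂ (Pi.basisFun ℂ (Fin n))]
    rfl
  let P : Module.End ℂ (Matrix (Fin n) (Fin n) ℂ) :=
    { toFun := fun X => (Nat.card G : ℂ)⁻¹ • ∑ s : G, (M s).transpose * X * M s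
      map_add' := fun X Y => by simp [Matrix.mul_add, Matrix.add_mul, Finset.sum_add_distrib, smul_add]
      map_smul' := fun r X => by
        simp only [Matrix.mul_smul, Matrix.smul_mul, ← Finset.smul_sum, RingHom.id_apply]
        rw [smul_comm] }
  have hP : ∀ X, P X = (Nat.card G : ℂ)⁻¹ • ∑ s : G, (M s).transpose * X * M s := fun X => rfl
  have hG : (Nat.card G : ℂ) ≠ 0 := Nat.cast_ne_zero.2 Nat.card_pos.ne'
  have hinv : ∀ t X, (M t).transpose * P X * M t = P X := by
    intro t X
    rw [hP, Matrix.mul_smul, Matrix.smul_mul, Finset.mul_sum, Finset.sum_mul]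
    congr 1
    refine Fintype.sum_equiv (Equiv.mulRight t) _ _ fun s => ?_
    simp only [Equiv.coe_mulRight, map_mul, Matrix.transpose_mul, Matrix.mul_assoc]
  have hPP : ∀ X, P (P X) = P X := by
    intro X
    rw [hP (P X), Finset.sum_congr rfl fun s _ => hinv s X, Finset.sum_const, Finset.card_univ,
      ← Nat.cast_smul_eq_nsmul ℂ, smul_smul, Fintype.card_eq_nat_card, inv_mul_cancel₀ hG, one_smul]
  have hPT : ∀ X, P X.transpose = (P X).transpose := by
    intro X
    simp only [hP, Matrix.transpose_smul, Matrix.transpose_sum, Matrix.transpose_mul,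
      Matrix.transpose_transpose, Matrix.mul_assoc]
  let b := Matrix.stdBasis ℂ (Fin n) (Fin n)
  have htrace : ∀ f : Module.End ℂ (Matrix (Fin n) (Fin n) ℂ),
      LinearMap.trace ℂ _ f = ∑ i, ∑ j, f (Matrix.single i j 1) i j := by
    intro f
    rw [LinearMap.trace_eq_matrix_trace ℂ b, Matrix.trace, Fintype.sum_prod_type]
    refine Finset.sum_congr rfl fun i _ => Finset.sum_congr rfl fun j _ => ?_
    simp only [Matrix.diag_apply, LinearMap.toMatrix_apply, b, Matrix.stdBasis_eq_single]
    rfl
  have hentry : ∀ (s : G) (i j k l : Fin n),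
      ((M s).transpose * Matrix.single i j (1 : ℂ) * M s) k l = M s i k * M s j l := by
    intro s i j k l
    rw [Matrix.mul_apply, Finset.sum_eq_single j]
    · rw [Matrix.mul_single_apply_same, mul_one, Matrix.transpose_apply]
    · intro x _ hx
      simp [Matrix.mul_apply, Matrix.single_apply, hx.symm]
    · simp
  have htrP : LinearMap.trace ℂ _ P = 1 := by
    have h := Lib.Chars.classInner_irr_self (⟨χ, n, ρ, hirr, hρ⟩ : Cfsg.IrrCharacter G)
    simp only [Cfsg.classInner, Complex.conj_eq_iff_im.2 (hreal _)] at h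
    refine ((htrace P).trans ?_).trans h
    simp only [hP, Matrix.smul_apply, Matrix.sum_apply, hentry, smul_eq_mul, ← Finset.mul_sum]
    congr 1
    rw [Finset.sum_congr rfl fun i _ => Finset.sum_comm, Finset.sum_comm]
    refine Finset.sum_congr rfl fun s _ => ?_
    simp only [htr, Matrix.trace, Matrix.diag_apply]
    rw [Finset.sum_mul_sum]
  have hrank : Module.finrank ℂ (LinearMap.range P) = 1 := by
    have hproj : LinearMap.IsProj (LinearMap.range P) P :=
      ⟨fun X => LinearMap.mem_range_self P X, by rintro _ ⟨X, rfl⟩; exact hPP X⟩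
    have h := hproj.trace
    rw [htrP] at h
    exact_mod_cast h.symm
  obtain ⟨⟨B, hBmem⟩, hB0, hBspan⟩ := finrank_eq_one_iff'.1 hrank
  have hB : B ≠ 0 := fun h => hB0 (Subtype.ext h)
  have hfix : P B = B := by obtain ⟨X, rfl⟩ := hBmem; exact hPP X
  obtain ⟨ε, hε'⟩ := hBspan ⟨B.transpose, ⟨B.transpose, by rw [hPT, hfix]⟩⟩
  have hε : B.transpose = ε • B := (congrArg Subtype.val hε').symm
  have hεε : ε * ε = 1 := by
    have h1 : B = (ε * ε) • B := by
      conv_lhs => rw [← Matrix.transpose_transpose B, hε, Matrix.transpose_smul, hε, smul_smul]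
    have h2 : (1 - ε * ε) • B = 0 := by rw [sub_smul, one_smul, ← h1, sub_self]
    rcases smul_eq_zero.1 h2 with h | h
    · exact (sub_eq_zero.1 h).symm
    · exact absurd h hB
  have hτP : ∀ X, (P X).transpose = ε • P X := by
    intro X
    obtain ⟨c, hc⟩ := hBspan ⟨P X, LinearMap.mem_range_self P X⟩
    have hc' : P X = c • B := (congrArg Subtype.val hc).symm
    rw [hc', Matrix.transpose_smul, hε, smul_comm]
  have hmain : (Nat.card G : ℂ)⁻¹ * ∑ s : G, χ (s * s) = ε := by
    let τP : Module.End ℂ (Matrix (Fin n) (Fin n) ℂ) := ε • P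
    have h1 : LinearMap.trace ℂ _ τP = ε := by
      rw [map_smul, htrP, smul_eq_mul, mul_one]
    refine (Eq.symm ?_).trans h1
    refine (htrace τP).trans ?_
    have e : ∀ i j, τP (Matrix.single i j 1) i j = (P (Matrix.single i j 1)) j i := fun i j => by
      rw [← Matrix.transpose_apply (P (Matrix.single i j 1)) i j, hτP]
      rfl
    simp only [e, hP, Matrix.smul_apply, Matrix.sum_apply, hentry, smul_eq_mul, ← Finset.mul_sum]
    congr 1
    rw [Finset.sum_congr rfl fun i (_ : i ∈ Finset.univ) => Finset.sum_comm, Finset.sum_comm]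
    refine Finset.sum_congr rfl fun s _ => ?_
    simp only [htr, map_mul, Matrix.trace, Matrix.diag_apply, Matrix.mul_apply]
  rw [hmain]
  rcases mul_self_eq_one_iff.1 hεε with h | h
  · exact h
  exfalso
  have hBinv : ∀ t, (M t).transpose * B * M t = B := fun t => by
    have := hinv t B
    rwa [hfix] at this
  let K : Subrepresentation ρ := ⟨LinearMap.ker (Matrix.toLin' B), fun t v hv => by
    have hMv : ρ t v = (M t).mulVec v := by
      rw [← Matrix.toLin'_apply]
      exact (LinearMap.congr_fun (Matrix.toLin'_toMatrix' (ρ t)) v).symm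
    rw [LinearMap.mem_ker, Matrix.toLin'_apply] at hv ⊢
    have e : B * M t = (M t⁻¹).transpose * B := by
      conv_rhs => rw [← hBinv t]
      rw [← Matrix.mul_assoc, ← Matrix.mul_assoc, ← Matrix.transpose_mul, ← map_mul, mul_inv_cancel,
        map_one, Matrix.transpose_one, Matrix.one_mul]
    rw [hMv, Matrix.mulVec_mulVec, e, ← Matrix.mulVec_mulVec, hv, Matrix.mulVec_zero]⟩
  rcases IsSimpleOrder.eq_bot_or_eq_top K with hK | hK
  · have hdet : B.det = 0 := by
      have h1 : B.det = (ε ^ n) * B.det := by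
        conv_lhs => rw [← Matrix.det_transpose, hε, Matrix.det_smul, Fintype.card_fin]
      rw [h, (hn ▸ hodd : Odd n).neg_one_pow] at h1
      linear_combination (1 / 2 : ℂ) * h1
    obtain ⟨v, hv0, hv⟩ := Matrix.exists_mulVec_eq_zero_iff.2 hdet
    have : v ∈ K.toSubmodule := by
      change v ∈ LinearMap.ker (Matrix.toLin' B)
      rw [LinearMap.mem_ker, Matrix.toLin'_apply, hv]
    rw [hK] at this
    exact hv0 ((Submodule.mem_bot ℂ).1 this)
  · refine hB (Matrix.toLin'.injective (LinearMap.ext fun v => ?_))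
    have : v ∈ K.toSubmodule := by rw [hK]; trivial
    rw [map_zero]
    exact LinearMap.mem_ker.1 this

end Cfsg.Agent.S0895
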