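import Mathlib
import Cfsg.Statements.S0896
import Cfsg.Agent.Lib.CharExt.Dade
-- import your own Cfsg.Agent.* helpers here

set_option autoImplicit false
open scoped ComplexConjugate
open Cfsg

namespace Cfsg.Agent.S0896

/-- Let N be a normal subgroup of the finite group G with the index of N a power of the prime p, and ϑ an irreducible character of N invariant under conjugation by G. Then there are a p-elementary subgroup E of G with E ⊔ N = ⊤ and an irreducible character φ of the subgroup E ⊓ N, invariant under conjugation by E, such that the inner product of the restriction of ϑ to E ⊓ N with φ is an integer not divisible by p. -/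
theorem result {G : Type*} [Group G] [Fintype G] (p : ℕ) (hp : p.Prime) (N : Subgroup G) [hN : N.Normal] (hind : ∃ k : ℕ, N.index = p ^ k) (ϑ : N → ℂ) (hϑ : Cfsg.IsIrrCharacter N ϑ) (hinv : ∀ (g : G) (n : N), ϑ ⟨g * n * g⁻¹, hN.conj_mem (n : G) n.2 g⟩ = ϑ n) : ∃ (E : Subgroup G) (φ : ↥(E ⊓ N) → ℂ), Cfsg.IsElementary p E ∧ E ⊔ N = ⊤ ∧ Cfsg.IsIrrCharacter ↥(E ⊓ N) φ ∧ (∀ (g : G) (hg : g ∈ E) (x : ↥(E ⊓ N)), φ ⟨g * x * g⁻¹, ⟨(E.mul_mem (E.mul_mem hg x.2.1) (E.inv_mem hg)), hN.conj_mem (x : G) x.2.2 g⟩⟩ = φ x) ∧ ∃ m : ℕ, ¬ p ∣ m ∧ (Nat.card ↥(E ⊓ N) : ℂ)⁻¹ * ∑ᶠ x : ↥(E ⊓ N), ϑ ⟨(x : G), x.2.2⟩ * conj (φ x) = (m : ℂ) := by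
  classical
  let := Fintype.ofFinite N
  have hinv' : ∀ (g : G) (n : N), ϑ (MulAut.conjNormal g n) = ϑ n := fun g n =>
    (congrArg ϑ (Subtype.ext (MulAut.conjNormal_apply g n))).trans (hinv g n)
  obtain ⟨E, _, lam, k, hE, hEN, hpk, hk⟩ :=
    Lib.CharExt.exists_elementary_supplement hp N hind ϑ hϑ hinv'
  let := Fintype.ofFinite E
  let inclD : N.subgroupOf E →* N :=
    { toFun := fun d => ⟨((d : E) : G), d.2⟩
      map_one' := rfl
      map_mul' := fun _ _ => rfl }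
  have hβ : Cfsg.IsCharacter (N.subgroupOf E) (fun d => ϑ ⟨((d : E) : G), d.2⟩) :=
    Lib.Chars.isCharacter_comp inclD (Lib.Chars.isCharacter_of_isIrrCharacter hϑ)
  have hα : Cfsg.IsCharacter (N.subgroupOf E)
      (fun d => (lam d : ℂ) * ϑ ⟨((d : E) : G), d.2⟩) :=
    Lib.Chars.isCharacter_mul (Lib.Chars.isCharacter_comp (N.subgroupOf E).subtype
      (Lib.Chars.isCharacter_hom lam)) hβ
  have hβinv : ∀ (g : E) (d : N.subgroupOf E),
      ϑ ⟨(((MulAut.conjNormal g d : N.subgroupOf E) : E) : G), (MulAut.conjNormal g d).2⟩ =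
        ϑ ⟨((d : E) : G), d.2⟩ := fun g d =>
    (congrArg ϑ (Subtype.ext (by simp))).trans (hinv (g : G) ⟨((d : E) : G), d.2⟩)
  have hαinv : ∀ (g : E) (d : N.subgroupOf E),
      (lam (MulAut.conjNormal g d : N.subgroupOf E) : ℂ) *
        ϑ ⟨(((MulAut.conjNormal g d : N.subgroupOf E) : E) : G), (MulAut.conjNormal g d).2⟩ =
      (lam d : ℂ) * ϑ ⟨((d : E) : G), d.2⟩ := by
    intro g d
    rw [hβinv g d, MulAut.conjNormal_apply, map_mul, map_mul, map_inv, mul_comm (lam g),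
      mul_inv_cancel_right]
  have hidx : ∃ j, (N.subgroupOf E).index = p ^ j := by
    obtain ⟨j, hj⟩ := hind
    have h := Subgroup.relIndex_sup_right E N
    rw [hEN, Subgroup.relIndex_top_right] at h
    exact ⟨j, h.symm.trans hj⟩
  obtain ⟨φ, m, hφinv, hpm, hm⟩ := Lib.CharExt.exists_fixed_constituent hp (N.subgroupOf E) hidx
    _ _ hα hβ hαinv hβinv hk hpk
  let e : ↥(E ⊓ N) ≃* N.subgroupOf E :=
    { toFun := fun x => ⟨⟨x, x.2.1⟩, x.2.2⟩
      invFun := fun d => ⟨((d : E) : G), (d : E).2, d.2⟩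
      left_inv := fun _ => rfl
      right_inv := fun _ => rfl
      map_mul' := fun _ _ => rfl }
  refine ⟨E, fun x => (φ : N.subgroupOf E → ℂ) (e x), hE, hEN,
    Lib.CharSums.isIrrCharacter_comp_equiv e φ.2, fun g hg x => ?_, m, hpm, ?_⟩
  · refine (congrArg (φ : N.subgroupOf E → ℂ) ?_).trans (hφinv ⟨g, hg⟩ (e x))
    exact Subtype.ext (Subtype.ext (by simp [e]))
  · rw [← hm, Cfsg.classInner, finsum_eq_sum_of_fintype, Nat.card_congr e.toEquiv]
    congr 1
    exact Fintype.sum_equiv e.toEquiv _ _ fun x => rfl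

end Cfsg.Agent.S0896
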