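import Mathlib
import Cfsg.Statements.S0897
import Cfsg.Agent.Lib.CharExt.PQuotient
import Cfsg.Agent.Lib.CharExt.Characters
-- import your own Cfsg.Agent.* helpers here

set_option autoImplicit false
open Cfsg

namespace Cfsg.Agent.S0897

/-- Let N be a normal subgroup of the finite group G with the index of N a power of the prime p, and P a Sylow p-subgroup of G such that P ⊓ N lies in the centre of P and every character of degree 1 of P ⊓ N is the restriction of a character of degree 1 of P. Then every irreducible character of N invariant under conjugation by G is the restriction of an irreducible character of G. -/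
theorem result {G : Type*} [Group G] [Fintype G] (p : ℕ) [Fact p.Prime] (N : Subgroup G) [hN : N.Normal] (hind : ∃ k : ℕ, N.index = p ^ k) (P : Sylow p G) (hcent : ∀ x ∈ (P : Subgroup G) ⊓ N, ∀ y ∈ (P : Subgroup G), x * y = y * x) (hlin : ∀ lam : ↥((P : Subgroup G) ⊓ N) → ℂ, Cfsg.IsCharacter ↥((P : Subgroup G) ⊓ N) lam → lam 1 = 1 → ∃ μ : ↥(P : Subgroup G) → ℂ, Cfsg.IsCharacter ↥(P : Subgroup G) μ ∧ μ 1 = 1 ∧ ∀ x : ↥((P : Subgroup G) ⊓ N), μ ⟨(x : G), x.2.1⟩ = lam x) (ϑ : N → ℂ) (hϑ : Cfsg.IsIrrCharacter N ϑ) (hinv : ∀ (g : G) (n : N), ϑ ⟨g * n * g⁻¹, hN.conj_mem (n : G) n.2 g⟩ = ϑ n) : ∃ χ : G → ℂ, Cfsg.IsIrrCharacter G χ ∧ ∀ n : N, χ n = ϑ n := by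
  classical
  have hp : p.Prime := Fact.out
  let := Fintype.ofFinite N
  have hinv' : ∀ (g : G) (n : N), ϑ (MulAut.conjNormal g n) = ϑ n := fun g n =>
    (congrArg ϑ (Subtype.ext (MulAut.conjNormal_apply g n))).trans (hinv g n)
  obtain ⟨E, _, lam, k, hE, hEN, hpk, hk⟩ :=
    Lib.CharExt.exists_elementary_supplement hp N hind ϑ hϑ hinv'
  obtain ⟨hcenter, hext⟩ := Lib.CharExt.exists_linear_extension N hind P hcent hlin E hE hEN
  let := Fintype.ofFinite E
  let inclD : N.subgroupOf E →* N :=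
    { toFun := fun d => ⟨((d : E) : G), d.2⟩
      map_one' := rfl
      map_mul' := fun _ _ => rfl }
  obtain ⟨n₀, σ, hσirr, hσ⟩ := hϑ
  let τ : Representation ℂ (N.subgroupOf E) (Fin n₀ → ℂ) := σ.comp inclD
  have hτ : τ.character = fun d : N.subgroupOf E => ϑ ⟨((d : E) : G), d.2⟩ := funext fun d => congrFun hσ (inclD d)
  have hβ : Cfsg.IsCharacter (N.subgroupOf E) (fun d : N.subgroupOf E => ϑ ⟨((d : E) : G), d.2⟩) :=
    hτ ▸ Lib.Chars.isCharacter_of_rep τ
  have hα : Cfsg.IsCharacter (N.subgroupOf E)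
      (fun d : N.subgroupOf E => (lam d : ℂ) * ϑ ⟨((d : E) : G), d.2⟩) :=
    Lib.Chars.isCharacter_mul (Lib.Chars.isCharacter_comp (N.subgroupOf E).subtype
      (Lib.Chars.isCharacter_hom lam)) hβ
  have hfix : ∀ (g : E) (d : N.subgroupOf E), MulAut.conjNormal g d = d := by
    intro g d
    refine Subtype.ext ?_
    rw [MulAut.conjNormal_apply, Subgroup.mem_center_iff.1 (hcenter d.2) g, mul_inv_cancel_right]
  have hidx : ∃ j, (N.subgroupOf E).index = p ^ j := by
    obtain ⟨j, hj⟩ := hind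
    have h := Subgroup.relIndex_sup_right E N
    rw [hEN, Subgroup.relIndex_top_right] at h
    exact ⟨j, h.symm.trans hj⟩
  obtain ⟨φ, m, -, hpm, hm⟩ := Lib.CharExt.exists_fixed_constituent hp (N.subgroupOf E) hidx
    _ _ hα hβ (fun g d => by rw [hfix]) (fun g d => by rw [hfix]) hk hpk
  have : IsMulCommutative (N.subgroupOf E) :=
    ⟨⟨fun a b => Subtype.ext (Subgroup.mem_center_iff.1 (hcenter b.2) a)⟩⟩
  obtain ⟨φh, hφh⟩ := Lib.Chars.exists_hom_of_degree_one
    (Lib.Chars.irr_isCharacter φ) (Lib.Chars.irr_apply_one_of_comm φ)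
  obtain ⟨W, hW, hWdim⟩ := Lib.CharExt.exists_eigen_submodule τ φh
  have hWm : Module.finrank ℂ W = m := by
    rw [hτ, ← hφh, hm] at hWdim
    exact_mod_cast hWdim
  obtain ⟨h, μ, hph, hμ⟩ := hext (φh ^ m)
  have hmem := Lib.CharExt.mul_mem_splitExponents N σ E hEN hcenter φh W hW h μ (fun d => by
    rw [hμ d, hWm, pow_mul]; rfl)
  have hsurj := Lib.CharExt.projG_surjective_of_invariant N σ (fun g n => by
    rw [hσ]; exact hinv' g n)
  have hNidx : (N.index : ℤ) ∈ Lib.CharExt.splitExponents N σ :=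
    Lib.CharExt.index_mem_splitExponents N σ hsurj N le_rfl σ (fun _ => rfl)
  have hone : (1 : ℤ) ∈ Lib.CharExt.splitExponents N σ := by
    refine Lib.CharExt.one_mem_of_forall_prime _ fun q hq => ?_
    by_cases hqp : q = p
    · subst hqp
      refine ⟨_, hmem, fun hd => ?_⟩
      rw [Int.natCast_dvd_natCast, hWm] at hd
      exact (hp.dvd_mul.1 hd).elim hpm hph
    · refine ⟨_, hNidx, fun hd => ?_⟩
      obtain ⟨j, hj⟩ := hind
      rw [Int.natCast_dvd_natCast, hj] at hd
      exact hqp ((Nat.prime_dvd_prime_iff_eq hq hp).1 (hq.dvd_of_dvd_pow hd))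
  obtain ⟨R, hR⟩ := Lib.CharExt.exists_extension_of_one_mem N σ hsurj hone
  exact Lib.CharExt.exists_irrCharacter_of_extension N σ ϑ hσ ⟨R, hR⟩

end Cfsg.Agent.S0897
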