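import Cfsg.Statements.S0898
import Cfsg.Agent.Lib.TIBound.Average
import Cfsg.Agent.Lib.Chars.Induced

set_option autoImplicit false
open Cfsg

namespace Cfsg.Agent.S0898

open scoped ComplexConjugate
open Cfsg.Agent.Lib

/-- The Feit–Thompson bound in natural numbers. -/
theorem card_mul_sq_lt {G : Type*} [Group G] [Fintype G] (H : Subgroup G) [Fintype H]
    (hab : ∀ a ∈ H, ∀ b ∈ H, a * b = b * a) (hZ : H ⊓ Subgroup.center G = ⊥)
    (hone : ∀ g : G, g ∉ Subgroup.center G → ∀ a b : G,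
      Subgroup.centralizer ({g} : Set G) ⊓ H.map (MulAut.conj a).toMonoidHom ≠ ⊥ →
      Subgroup.centralizer ({g} : Set G) ⊓ H.map (MulAut.conj b).toMonoidHom ≠ ⊥ →
      H.map (MulAut.conj a).toMonoidHom = H.map (MulAut.conj b).toMonoidHom)
    (χ : Cfsg.IrrCharacter G) (hker : ∃ h ∈ H, (χ : G → ℂ) h ≠ (χ : G → ℂ) 1)
    {n c : ℕ} (hn : (χ : G → ℂ) 1 = n)
    (hc : Cfsg.classInner (fun h : H => (χ : G → ℂ) h) (fun _ => 1) = c) :
    (Nat.card H : ℝ) * (c : ℝ) ^ 2 < (n : ℝ) ^ 2 := by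
  classical
  set N := Subgroup.normalizer (H : Set G) with hNdef
  set Z := Subgroup.center G with hZdef
  have : Fintype N := Fintype.ofFinite N
  have hHN : H ≤ N := Subgroup.le_normalizer
  have hZN : Z ≤ N := Subgroup.center_le_normalizer _
  let K : Subgroup N := H.subgroupOf N
  have hKn : K.Normal := Subgroup.normal_in_normalizer
  have : Fintype K := Fintype.ofFinite K
  let f : G → ℝ := fun g => Complex.normSq ((χ : G → ℂ) g)
  have hf0 : ∀ g, 0 ≤ f g := fun g => Complex.normSq_nonneg _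
  have hfG : ∑ g : G, f g = Nat.card G := by
    have h := Chars.classInner_irr_self χ
    rw [Cfsg.classInner, inv_mul_eq_one₀ Chars.natCard_ne_zero] at h
    simp only [Complex.mul_conj] at h
    have h' : ((∑ g : G, f g : ℝ) : ℂ) = ((Nat.card G : ℝ) : ℂ) := by
      push_cast; exact h.symm
    exact_mod_cast h'
  -- the centre acts by scalars of absolute value one
  have hscal : ∀ z ∈ Z, ∃ w : ℂ, Complex.normSq w = 1 ∧
      ∀ g : G, (χ : G → ℂ) (g * z) = w * (χ : G → ℂ) g := by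
    intro z hz
    obtain ⟨m, ρ, hρ, hχρ⟩ := χ.2
    obtain ⟨w, hw⟩ := Chars.exists_scalar_of_commute ρ (ρ z) fun h => by
      rw [← Module.End.mul_eq_comp, ← Module.End.mul_eq_comp, ← map_mul, ← map_mul,
        Subgroup.mem_center_iff.mp hz h]
    have hval : ∀ g : G, (χ : G → ℂ) (g * z) = w * (χ : G → ℂ) g := fun g => by
      rw [← hχρ, Representation.character, Representation.character, map_mul, hw, mul_smul_comm,
        mul_one, map_smul, smul_eq_mul]
    refine ⟨w, ?_, hval⟩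
    have hnorm := (Chars.norm_char_eq_iff ρ z).mpr ⟨w, hw⟩
    have hd : ((Module.finrank ℂ (Fin m → ℂ) : ℕ) : ℂ) = (χ : G → ℂ) 1 := by
      rw [← hχρ, Representation.char_one]
    rw [hn] at hd
    rw [congrFun hχρ z, ← one_mul z, hval 1, hn, norm_mul, Complex.norm_natCast,
      Nat.cast_inj.mp hd] at hnorm
    have hn0 : (n : ℝ) ≠ 0 := Nat.cast_ne_zero.mpr fun h0 =>
      Chars.irr_apply_one_ne_zero χ (by rw [hn, h0, Nat.cast_zero])
    rw [Complex.normSq_eq_norm_sq, show ‖w‖ = 1 from mul_right_cancel₀ hn0 (hnorm.trans (one_mul _).symm),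
      one_pow]
  -- the two sets
  let U : Finset G := Finset.univ.filter fun g => g ∉ Z ∧ ∃ h ∈ H, h ≠ 1 ∧ g * h = h * g
  let T : Finset N := Finset.univ.filter fun g => ∃ h ∈ H, h ≠ 1 ∧ (g : G) * h = h * g
  obtain ⟨h₀, hh₀, hh₀ne⟩ := hker
  have hh₀1 : h₀ ≠ 1 := fun e => hh₀ne (by rw [e])
  have havgval : ∀ g : N, TIBound.avg K (fun x : N => (χ : G → ℂ) x) g
      = (Nat.card H : ℂ)⁻¹ * ∑ h : H, (χ : G → ℂ) ((g : G) * h) := by
    intro g
    simp only [TIBound.avg]
    rw [Nat.card_congr (Subgroup.subgroupOfEquivOfLe hHN).toEquiv]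
    congr 1
    exact Fintype.sum_equiv (Subgroup.subgroupOfEquivOfLe hHN).toEquiv _ _ fun k => rfl
  have houtside : ∀ g : N, g ∉ T → TIBound.avg K (fun x : N => (χ : G → ℂ) x) g = (χ : G → ℂ) g := by
    intro g hg
    rw [havgval]
    have hmem : ∀ k : H, (g : G)⁻¹ * k * g * (k : G)⁻¹ ∈ H := fun k =>
      H.mul_mem (by
        have := (Subgroup.mem_normalizer_iff.mp (N.inv_mem g.2) k).mp k.2
        simpa using this) (H.inv_mem k.2)
    let β : H → H := fun k => ⟨_, hmem k⟩
    have hinj : Function.Injective β := by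
      intro k l hkl
      have e : (g : G)⁻¹ * k * g * (k : G)⁻¹ = (g : G)⁻¹ * l * g * (l : G)⁻¹ :=
        congrArg Subtype.val hkl
      by_contra hne
      apply hg
      refine Finset.mem_filter.mpr ⟨Finset.mem_univ _, (l : G)⁻¹ * k,
        H.mul_mem (H.inv_mem l.2) k.2, fun e1 => hne (Subtype.ext (inv_mul_eq_one.mp e1).symm), ?_⟩
      have e2 : (l : G)⁻¹ * k * g = g * ((l : G)⁻¹ * k) := by
        have h2 := congrArg (fun x => (l : G)⁻¹ * g * x * k) e
        have hc := hab _ (H.inv_mem l.2) _ k.2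
        calc (l : G)⁻¹ * k * g = (l : G)⁻¹ * g * ((g : G)⁻¹ * k * g * (k : G)⁻¹) * k := by group
          _ = (l : G)⁻¹ * g * ((g : G)⁻¹ * l * g * (l : G)⁻¹) * k := h2
          _ = g * ((l : G)⁻¹ * k) := by group
      exact e2.symm
    rw [Finset.sum_congr rfl (g := fun _ => (χ : G → ℂ) g), Finset.sum_const, Finset.card_univ,
      Fintype.card_eq_nat_card, nsmul_eq_mul,
      inv_mul_cancel_left₀ (Nat.cast_ne_zero.mpr Nat.card_pos.ne')]
    intro h _
    obtain ⟨k, hk⟩ := Finite.surjective_of_injective hinj h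
    rw [← hk]
    show (χ : G → ℂ) ((g : G) * ((g : G)⁻¹ * k * g * (k : G)⁻¹)) = _
    rw [← Chars.irr_isClassFunction χ (g : G) k]
    congr 1
    group
  -- the lower bound on the normalizer
  have hlow : (Nat.card N : ℝ) + (Nat.card H : ℝ) * Nat.card Z * (c : ℝ) ^ 2
      ≤ ∑ g ∈ T, f g := by
    have h1 := TIBound.card_add_le (K := K) (φ := fun x : N => (χ : G → ℂ) x)
      (Chars.isCharacter_restrict N (Chars.irr_isCharacter χ))
      ⟨⟨h₀, hHN hh₀⟩, hh₀, hh₀ne⟩
    rw [← Finset.sum_add_sum_compl T fun g : N => Complex.normSq ((χ : G → ℂ) g),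
      ← Finset.sum_add_sum_compl T fun g : N =>
        Complex.normSq (TIBound.avg K (fun x : N => (χ : G → ℂ) x) g),
      Finset.sum_congr rfl (s₁ := Tᶜ) fun g hg => by rw [houtside g (Finset.mem_compl.mp hg)]] at h1
    let e : H × Z → N := fun p => ⟨(p.1 : G) * p.2, N.mul_mem (hHN p.1.2) (hZN p.2.2)⟩
    have he : Function.Injective e := by
      rintro ⟨h, z⟩ ⟨h', z'⟩ hp
      have hp' : (h : G) * z = h' * z' := congrArg Subtype.val hp
      have hm : (h' : G)⁻¹ * h ∈ H ⊓ Z := by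
        refine ⟨H.mul_mem (H.inv_mem h'.2) h.2, ?_⟩
        rw [show (h' : G)⁻¹ * h = z' * (z : G)⁻¹ by
          rw [eq_mul_inv_iff_mul_eq, mul_assoc, hp', inv_mul_cancel_left]]
        exact Z.mul_mem z'.2 (Z.inv_mem z.2)
      rw [hZ, Subgroup.mem_bot, inv_mul_eq_one] at hm
      rw [← hm] at hp'
      exact Prod.ext (Subtype.ext hm.symm) (Subtype.ext (mul_left_cancel hp'))
    have hsub : Finset.univ.image e ⊆ T := by
      intro x hx
      obtain ⟨⟨h, z⟩, -, rfl⟩ := Finset.mem_image.mp hx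
      refine Finset.mem_filter.mpr ⟨Finset.mem_univ _, h₀, hh₀, hh₀1, ?_⟩
      show (h : G) * z * h₀ = h₀ * (h * z)
      rw [mul_assoc, ← Subgroup.mem_center_iff.mp z.2 h₀, ← mul_assoc, hab _ h.2 _ hh₀, mul_assoc]
    have hval : ∀ p : H × Z,
        Complex.normSq (TIBound.avg K (fun x : N => (χ : G → ℂ) x) (e p)) = (c : ℝ) ^ 2 := by
      rintro ⟨h, z⟩
      obtain ⟨w, hw1, hw⟩ := hscal z z.2
      have hsum : TIBound.avg K (fun x : N => (χ : G → ℂ) x) (e (h, z)) = w * c := by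
        rw [havgval]
        have hc' : (c : ℂ) = (Nat.card H : ℂ)⁻¹ * ∑ k : H, (χ : G → ℂ) k := by
          rw [← hc]; simp [Cfsg.classInner]
        rw [hc', mul_left_comm w, Finset.mul_sum (a := w)]
        congr 1
        refine Fintype.sum_equiv (Equiv.mulLeft h) _ _ fun k => ?_
        show (χ : G → ℂ) ((h : G) * z * k) = w * (χ : G → ℂ) (h * k)
        rw [← hw, mul_assoc, ← Subgroup.mem_center_iff.mp z.2 k, mul_assoc]
      rw [hsum, Complex.normSq_mul, hw1, one_mul, Complex.normSq_natCast, sq]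
    have h2 : (Nat.card H : ℝ) * Nat.card Z * (c : ℝ) ^ 2
        ≤ ∑ g ∈ T, Complex.normSq (TIBound.avg K (fun x : N => (χ : G → ℂ) x) g) := by
      refine le_trans (le_of_eq ?_) (Finset.sum_le_sum_of_subset_of_nonneg hsub
        fun g _ _ => Complex.normSq_nonneg _)
      rw [Finset.sum_image fun p _ q _ h => he h, Finset.sum_congr rfl fun p _ => hval p,
        Finset.sum_const, Finset.card_univ, Fintype.card_prod, nsmul_eq_mul,
        Fintype.card_eq_nat_card, Fintype.card_eq_nat_card]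
      push_cast
      ring
    linarith
  -- removing the centre
  have hfZ : ∀ z ∈ Z, f z = (n : ℝ) ^ 2 := fun z hz => by
    obtain ⟨w, hw1, hw⟩ := hscal z hz
    show Complex.normSq ((χ : G → ℂ) z) = _
    rw [← one_mul z, hw 1, hn, Complex.normSq_mul, hw1, one_mul, Complex.normSq_natCast, sq]
  let ZF : Finset G := Finset.univ.filter fun g => g ∈ Z
  have hZsum : ∑ g ∈ ZF, f g = (Nat.card Z : ℝ) * (n : ℝ) ^ 2 := by
    rw [Finset.sum_congr rfl fun z hz => hfZ z (Finset.mem_filter.mp hz).2, Finset.sum_const,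
      nsmul_eq_mul, ← Fintype.card_subtype, Fintype.card_eq_nat_card]
  have hTU : ∑ g ∈ T, f g ≤ ∑ g ∈ U, f g + (Nat.card Z : ℝ) * (n : ℝ) ^ 2 := by
    rw [← hZsum, ← Finset.sum_union (Finset.disjoint_left.mpr fun g hg hg' =>
        (Finset.mem_filter.mp hg).2.1 (Finset.mem_filter.mp hg').2)]
    refine le_trans (le_of_eq (Finset.sum_image (f := f) (g := fun g : N => (g : G))
      (fun x _ y _ h => Subtype.ext h)).symm) ?_
    refine Finset.sum_le_sum_of_subset_of_nonneg ?_ fun g _ _ => hf0 g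
    intro x hx
    obtain ⟨g, hg, rfl⟩ := Finset.mem_image.mp hx
    by_cases hgz : (g : G) ∈ Z
    · exact Finset.mem_union_right _ (Finset.mem_filter.mpr ⟨Finset.mem_univ _, hgz⟩)
    · exact Finset.mem_union_left _
        (Finset.mem_filter.mpr ⟨Finset.mem_univ _, hgz, (Finset.mem_filter.mp hg).2⟩)
  -- conjugates of `U` overlap only inside a coset of the normalizer
  have hcount : (Nat.card G : ℝ) * ∑ g ∈ U, f g
      ≤ (Nat.card N : ℝ) * ((Nat.card G : ℝ) - (Nat.card Z : ℝ) * (n : ℝ) ^ 2) := by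
    have e1 : ∀ a : G, ∑ g ∈ U, f g = ∑ g : G, if a⁻¹ * g * a ∈ U then f g else 0 := by
      intro a
      rw [← Fintype.sum_ite_mem U f]
      refine Fintype.sum_equiv (MulAut.conj a).toEquiv _ _ fun g => ?_
      have hfg : f (a * g * a⁻¹) = f g :=
        congrArg Complex.normSq (Chars.irr_isClassFunction χ g a)
      simp [mul_assoc, show f (a * (g * a⁻¹)) = f g by rw [← mul_assoc]; exact hfg]
    have e2 : (Nat.card G : ℝ) * ∑ g ∈ U, f g
        = ∑ g : G, ∑ a : G, if a⁻¹ * g * a ∈ U then f g else 0 := by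
      rw [Finset.sum_comm, ← Finset.sum_congr rfl fun a _ => e1 a, Finset.sum_const,
        Finset.card_univ, Fintype.card_eq_nat_card, nsmul_eq_mul]
    have e3 : (Nat.card N : ℝ) * ((Nat.card G : ℝ) - (Nat.card Z : ℝ) * (n : ℝ) ^ 2)
        = ∑ g : G, if g ∈ Z then 0 else (Nat.card N : ℝ) * f g := by
      rw [← hZsum, ← hfG, ← Finset.sum_filter_add_sum_filter_not Finset.univ (fun g => g ∈ Z),
        add_sub_cancel_left, Finset.mul_sum, Finset.sum_filter]
      exact Finset.sum_congr rfl fun g _ => by by_cases hg : g ∈ Z <;> simp [hg]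
    rw [e2, e3]
    refine Finset.sum_le_sum fun g _ => ?_
    rw [← Finset.sum_filter, Finset.sum_const, nsmul_eq_mul]
    set A := Finset.univ.filter fun a => a⁻¹ * g * a ∈ U with hA
    rcases A.eq_empty_or_nonempty with he | ⟨a, ha⟩
    · rw [he, Finset.card_empty, Nat.cast_zero, zero_mul]
      split_ifs
      · exact le_rfl
      · exact mul_nonneg (Nat.cast_nonneg _) (hf0 g)
    have key : ∀ a ∈ A, g ∉ Z ∧
        Subgroup.centralizer ({g} : Set G) ⊓ H.map (MulAut.conj a).toMonoidHom ≠ ⊥ := by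
      intro a ha
      obtain ⟨-, hgz, h, hh, hh1, hcomm⟩ := Finset.mem_filter.mp (Finset.mem_filter.mp ha).2
      refine ⟨fun hz => hgz (by rwa [mul_assoc, ← Subgroup.mem_center_iff.mp hz a,
        inv_mul_cancel_left]), fun hb => hh1 ?_⟩
      have hm : a * h * a⁻¹ ∈ Subgroup.centralizer ({g} : Set G) ⊓
          H.map (MulAut.conj a).toMonoidHom := by
        refine ⟨Subgroup.mem_centralizer_singleton_iff.mpr ?_, h, hh, rfl⟩
        calc a * h * a⁻¹ * g = a * (h * (a⁻¹ * g * a)) * a⁻¹ := by group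
          _ = a * (a⁻¹ * g * a * h) * a⁻¹ := by rw [hcomm]
          _ = g * (a * h * a⁻¹) := by group
      rw [hb, Subgroup.mem_bot] at hm
      simpa [mul_assoc] using congrArg (fun x => a⁻¹ * x * a) hm
    rw [if_neg (key a ha).1]
    refine mul_le_mul_of_nonneg_right ?_ (hf0 g)
    rw [Nat.cast_le, Nat.card_eq_fintype_card (α := N), Fintype.card_subtype]
    refine Finset.card_le_card_of_injOn (fun b => a⁻¹ * b) (fun b hb => ?_)
      fun b _ b' _ h => mul_left_cancel h
    have heq := hone g (key a ha).1 a b (key a ha).2 (key b hb).2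
    refine Finset.mem_filter.mpr ⟨Finset.mem_univ _, ?_⟩
    show a⁻¹ * b ∈ Subgroup.normalizer (H : Set G)
    rw [Subgroup.mem_normalizer_iff]
    intro x
    have h1 : b * x * b⁻¹ ∈ H.map (MulAut.conj b).toMonoidHom ↔ x ∈ H :=
      Subgroup.mem_map_iff_mem (f := (MulAut.conj b).toMonoidHom) (MulAut.conj b).injective
    have h2 : b * x * b⁻¹ ∈ H.map (MulAut.conj a).toMonoidHom ↔
        a⁻¹ * b * x * (a⁻¹ * b)⁻¹ ∈ H := by
      conv_lhs => rw [show b * x * b⁻¹ = a * (a⁻¹ * b * x * (a⁻¹ * b)⁻¹) * a⁻¹ by group]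
      exact Subgroup.mem_map_iff_mem (f := (MulAut.conj a).toMonoidHom) (MulAut.conj a).injective
    rw [← h1, ← heq, h2]
  have hG : (0 : ℝ) < Nat.card G := Nat.cast_pos.mpr Nat.card_pos
  have hN0 : (0 : ℝ) < Nat.card N := Nat.cast_pos.mpr Nat.card_pos
  have hZ0 : (0 : ℝ) < Nat.card Z := Nat.cast_pos.mpr Nat.card_pos
  have hn0 : (0 : ℝ) < (n : ℝ) ^ 2 := pow_pos (Nat.cast_pos.mpr (Nat.pos_of_ne_zero fun h0 =>
    Chars.irr_apply_one_ne_zero χ (by rw [hn, h0, Nat.cast_zero]))) 2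
  have hcomb := le_trans (mul_le_mul_of_nonneg_left (hlow.trans hTU) hG.le)
    (le_of_eq (mul_add _ _ _))
  by_contra hge
  push Not at hge
  nlinarith [mul_le_mul_of_nonneg_left hge (mul_nonneg hG.le hZ0.le), mul_pos (mul_pos hN0 hZ0) hn0]

/-- Let H be an abelian subgroup of the finite group G meeting the centre of G trivially, such that for every non-central g the centralizer of g has nontrivial intersection with at most one conjugate of H. Let χ be an irreducible character of G with χ h ≠ χ 1 for some h in H, and let c be the inner product of the restriction of χ to H with the principal character. Then χ(1)² > (order of H)·c²; and if in addition χ 1 ≠ 1 and no proper normal subgroup of G contains H, then (1 + χ 1)² > order of H (both sides read as real numbers). -/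
theorem result {G : Type*} [Group G] [Fintype G] (H : Subgroup G) [Fintype H] (hab : ∀ a ∈ H, ∀ b ∈ H, a * b = b * a) (hZ : H ⊓ Subgroup.center G = ⊥) (hone : ∀ g : G, g ∉ Subgroup.center G → ∀ a b : G, Subgroup.centralizer ({g} : Set G) ⊓ H.map (MulAut.conj a).toMonoidHom ≠ ⊥ → Subgroup.centralizer ({g} : Set G) ⊓ H.map (MulAut.conj b).toMonoidHom ≠ ⊥ → H.map (MulAut.conj a).toMonoidHom = H.map (MulAut.conj b).toMonoidHom) (χ : G → ℂ) (hχ : Cfsg.IsIrrCharacter G χ) (hker : ∃ h ∈ H, χ h ≠ χ 1) : (χ 1).re ^ 2 > (Nat.card H : ℝ) * (Cfsg.classInner (fun h : H => χ h) (fun _ => 1)).re ^ 2 ∧ (χ 1 ≠ 1 → (∀ M : Subgroup G, M.Normal → H ≤ M → M = ⊤) → (1 + (χ 1).re) ^ 2 > (Nat.card H : ℝ)) := by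
  classical
  have hresc : ∀ {φ : G → ℂ}, Cfsg.IsCharacter G φ →
      ∃ c : ℕ, Cfsg.classInner (fun h : H => φ h) (fun _ => 1) = c := fun hφ =>
    Chars.isCharacter_classInner_nat (Chars.isCharacter_restrict H hφ)
      (Chars.irr_isCharacter (Chars.trivialIrr H))
  obtain ⟨n, hn0, hn⟩ := Chars.isIrrCharacter_exists_degree_pos hχ
  have hχc := Chars.isCharacter_of_isIrrCharacter hχ
  constructor
  · obtain ⟨c, hc⟩ := hresc hχc
    have := card_mul_sq_lt H hab hZ hone ⟨χ, hχ⟩ hker hn hc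
    rw [hn, hc, Complex.natCast_re, Complex.natCast_re]
    exact this
  intro hn1 hM
  set Φ : G → ℂ := χ * fun g => conj (χ g)
  have hΦ : Cfsg.IsCharacter G Φ := Chars.isCharacter_mul hχc (Chars.isCharacter_star hχc)
  obtain ⟨m, hm⟩ := Chars.isCharacter_exists_nat_decomp hΦ
  set t := Chars.trivialIrr G
  have hmt : m t = 1 := by
    have h1 : Cfsg.classInner Φ (t : G → ℂ) = 1 := by
      rw [← Chars.classInner_irr_self ⟨χ, hχ⟩]
      simp [Cfsg.classInner, Φ, t]
    rw [hm, Chars.classInner_sum_smul_irr] at h1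
    exact_mod_cast h1
  choose cψ hcψ using fun ψ : Cfsg.IrrCharacter G => hresc (Chars.irr_isCharacter ψ)
  choose dψ hdψ0 hdψ using fun ψ : Cfsg.IrrCharacter G => Chars.isIrrCharacter_exists_degree_pos ψ.2
  have hbound : ∀ ψ ∈ Finset.univ.erase t,
      Real.sqrt (Nat.card H) * (cψ ψ : ℝ) < dψ ψ := by
    intro ψ hψ
    have hker' : ∃ h ∈ H, (ψ : G → ℂ) h ≠ (ψ : G → ℂ) 1 := by
      by_contra hno
      push Not at hno
      obtain ⟨k, ρ, hρ, hψρ⟩ := ψ.2
      have htop := hM (MonoidHom.ker ρ) inferInstance fun h hh =>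
        MonoidHom.mem_ker.mpr ((Chars.rep_eq_one_iff ρ h).mpr (by rw [hψρ]; exact hno h hh))
      refine (Finset.mem_erase.mp hψ).1 (by_contra fun hne => ?_)
      have h0 := Chars.classInner_irr_of_ne hne
      have hall : ∀ g, (ψ : G → ℂ) g = (ψ : G → ℂ) 1 := fun g => by
        rw [← hψρ]
        exact (Chars.rep_eq_one_iff ρ g).mp (MonoidHom.mem_ker.mp (htop ▸ Subgroup.mem_top g))
      simp only [Cfsg.classInner, t, Chars.trivialIrr_apply, map_one, mul_one] at h0
      rw [Finset.sum_congr rfl fun g _ => hall g, Finset.sum_const, Finset.card_univ, nsmul_eq_mul,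
        Fintype.card_eq_nat_card, inv_mul_cancel_left₀ Chars.natCard_ne_zero] at h0
      exact Chars.irr_apply_one_ne_zero ψ h0
    have hlt := card_mul_sq_lt H hab hZ hone ψ hker' (hdψ ψ) (hcψ ψ)
    rw [← Real.sqrt_sq (Nat.cast_nonneg (cψ ψ)), ← Real.sqrt_mul (Nat.cast_nonneg _)]
    exact (Real.sqrt_lt' (Nat.cast_pos.mpr (hdψ0 ψ))).mpr hlt
  -- the multiplicity of the principal character of `H`
  have hM' : ∃ M : ℕ, n ≤ M ∧ M = ∑ ψ, m ψ * cψ ψ := by
    refine ⟨_, ?_, rfl⟩
    have hres : Cfsg.IsCharacter H (fun h : H => χ h) := Chars.isCharacter_restrict H hχc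
    obtain ⟨a, ha⟩ := Chars.isCharacter_exists_nat_decomp hres
    have hlin : ∀ θ : Cfsg.IrrCharacter H, (θ : H → ℂ) 1 = 1 := fun θ => by
      have : IsMulCommutative H := ⟨⟨fun x y => Subtype.ext (hab _ x.2 _ y.2)⟩⟩
      exact Chars.irr_apply_one_of_comm θ
    have e1 : (∑ θ, a θ * a θ : ℕ) = ∑ ψ, m ψ * cψ ψ := by
      have h1 : Cfsg.classInner (fun h : H => Φ h) (fun _ => 1)
          = Cfsg.classInner (fun h : H => χ h) (fun h : H => χ h) := by
        simp [Cfsg.classInner, Φ]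
      rw [ha, Chars.classInner_sum_smul_sum_smul] at h1
      have h2 : (fun h : H => Φ h) = ∑ ψ : Cfsg.IrrCharacter G,
          (m ψ : ℂ) • fun h : H => (ψ : G → ℂ) h := by
        funext h
        rw [hm]
        simp
      rw [h2, Chars.classInner_sum_left] at h1
      simp only [Chars.classInner_smul_left, hcψ, Complex.conj_natCast] at h1
      exact_mod_cast h1.symm
    rw [← e1]
    have e2 : n = ∑ θ, a θ := by
      have h := congrFun ha 1
      simp only [OneMemClass.coe_one, hn, Finset.sum_apply, Pi.smul_apply, hlin, smul_eq_mul,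
        mul_one] at h
      exact_mod_cast h
    rw [e2]
    exact Finset.sum_le_sum fun θ _ => Nat.le_mul_self _
  obtain ⟨M, hnM, hMsum⟩ := hM'
  have hdeg : ∑ ψ, m ψ * dψ ψ = n * n := by
    have h := congrFun hm 1
    simp only [Φ, Pi.mul_apply, hn, Complex.conj_natCast, Finset.sum_apply, Pi.smul_apply,
      smul_eq_mul, hdψ] at h
    exact_mod_cast h.symm
  have hct : cψ t = 1 := by
    have h := hcψ t
    change Cfsg.classInner (fun _ : H => (1 : ℂ)) (fun _ => 1) = _ at h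
    rw [show Cfsg.classInner (fun _ : H => (1 : ℂ)) (fun _ => 1) = 1 from
      Chars.classInner_irr_self (Chars.trivialIrr H)] at h
    exact_mod_cast h.symm
  have hdt : dψ t = 1 := by
    have h := hdψ t
    rw [Chars.trivialIrr_apply] at h
    exact_mod_cast h.symm
  rw [← Finset.add_sum_erase _ _ (Finset.mem_univ t), hmt, hct, one_mul] at hMsum
  rw [← Finset.add_sum_erase _ _ (Finset.mem_univ t), hmt, hdt, one_mul] at hdeg
  have hn2' : 2 ≤ n := by
    by_contra h
    exact hn1 (by rw [hn, show n = 1 by omega, Nat.cast_one])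
  obtain ⟨ψ₁, hψ₁, hψ₁m⟩ : ∃ ψ ∈ Finset.univ.erase t, m ψ ≠ 0 := by
    by_contra h
    push Not at h
    rw [Finset.sum_eq_zero (fun ψ hψ => by rw [h ψ hψ, zero_mul]), add_zero] at hdeg
    nlinarith
  have hR : Real.sqrt (Nat.card H) * ((M : ℝ) - 1) < (n : ℝ) * n - 1 := by
    have hM2 : (M : ℝ) = 1 + ((∑ ψ ∈ Finset.univ.erase t, m ψ * cψ ψ : ℕ) : ℝ) := by
      rw [hMsum, Nat.cast_add, Nat.cast_one]
    have hn2 : (n : ℝ) * n = 1 + ((∑ ψ ∈ Finset.univ.erase t, m ψ * dψ ψ : ℕ) : ℝ) := by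
      rw [← Nat.cast_mul, ← hdeg, Nat.cast_add, Nat.cast_one]
    rw [hM2, hn2, add_sub_cancel_left, add_sub_cancel_left, Nat.cast_sum, Nat.cast_sum,
      Finset.mul_sum]
    refine Finset.sum_lt_sum (fun ψ hψ => ?_) ⟨ψ₁, hψ₁, ?_⟩
    · push_cast
      rw [mul_left_comm]
      exact mul_le_mul_of_nonneg_left (hbound ψ hψ).le (Nat.cast_nonneg _)
    · push_cast
      rw [mul_left_comm]
      exact mul_lt_mul_of_pos_left (hbound ψ₁ hψ₁) (Nat.cast_pos.mpr (Nat.pos_of_ne_zero hψ₁m))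
  have hnM' : (n : ℝ) ≤ M := Nat.cast_le.mpr hnM
  have hn2r : (2 : ℝ) ≤ n := by exact_mod_cast hn2'
  have hsqrt : Real.sqrt (Nat.card H) < (n : ℝ) + 1 := by
    have := mul_le_mul_of_nonneg_left (sub_le_sub_right hnM' 1) (Real.sqrt_nonneg (Nat.card H))
    nlinarith [Real.sqrt_nonneg (Nat.card H : ℝ)]
  rw [hn, Complex.natCast_re, gt_iff_lt, add_comm]
  exact Real.sqrt_lt' (by linarith) |>.mp hsqrt

end Cfsg.Agent.S0898
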