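import Mathlib
import Cfsg.Statements.S0900
import Cfsg.Agent.Lib.Clifford.Restriction
-- import your own Cfsg.Agent.* helpers here

set_option autoImplicit false
open Cfsg

namespace Cfsg.Agent.S0900

/-- Let N be a normal subgroup of the finite group G, χ an irreducible character of G and ϑ an irreducible character of N having nonzero inner product with the restriction of χ. Consider: (a) the restriction of χ to N is e • ϑ for a natural number e with e ^ 2 equal to the index of N; (b) χ vanishes outside N and ϑ is invariant under conjugation by G; (c) ϑ is invariant and every irreducible character of G having nonzero inner product with the function induced from ϑ equals χ. Then (a) ↔ (b) and (a) ↔ (c). -/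
theorem result {G : Type*} [Group G] [Fintype G] (N : Subgroup G) [hN : N.Normal] [Fintype N] (χ : G → ℂ) (hχ : Cfsg.IsIrrCharacter G χ) (ϑ : N → ℂ) (hϑ : Cfsg.IsIrrCharacter N ϑ) (hcon : Cfsg.classInner (fun n : N => χ n) ϑ ≠ 0) : ((∃ e : ℕ, (fun n : N => χ n) = (e : ℂ) • ϑ ∧ e ^ 2 = N.index) ↔ ((∀ g : G, g ∉ N → χ g = 0) ∧ ∀ (g : G) (n : N), ϑ ⟨g * n * g⁻¹, hN.conj_mem (n : G) n.2 g⟩ = ϑ n)) ∧ ((∃ e : ℕ, (fun n : N => χ n) = (e : ℂ) • ϑ ∧ e ^ 2 = N.index) ↔ (∀ (g : G) (n : N), ϑ ⟨g * n * g⁻¹, hN.conj_mem (n : G) n.2 g⟩ = ϑ n ∧ ∀ ψ : G → ℂ, Cfsg.IsIrrCharacter G ψ → Cfsg.classInner (Cfsg.indFun N ϑ) ψ ≠ 0 → ψ = χ)) := by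
  classical
  have hclass := Lib.Chars.isClassFunction_of_isCharacter (Lib.Chars.isCharacter_of_isIrrCharacter hχ)
  obtain ⟨dϑ, hdϑ, hdϑ1⟩ := Lib.Chars.isIrrCharacter_exists_degree_pos hϑ
  have hscal : (∀ (g : G) (n : N), ϑ ⟨g * n * g⁻¹, hN.conj_mem (n : G) n.2 g⟩ = ϑ n) →
      ∃ e : ℕ, e ≠ 0 ∧ (fun n : N => χ n) = (e : ℂ) • ϑ := by
    intro hinv
    obtain ⟨e, he⟩ := Lib.Chars.isCharacter_classInner_nat
      (Lib.Chars.isCharacter_restrict N (Lib.Chars.isCharacter_of_isIrrCharacter hχ))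
      (Lib.Chars.isCharacter_of_isIrrCharacter hϑ)
    have h := Lib.Clifford.resFun_eq_smul_of_invariant (N := N) hχ hϑ hcon
      (fun g => funext fun n => hinv g n)
    refine ⟨e, fun h0 => hcon ?_, ?_⟩
    · rw [he, h0, Nat.cast_zero]
    · rw [← he]; exact h
  have hinv_of : ∀ e : ℕ, (fun n : N => χ n) = (e : ℂ) • ϑ →
      ∀ (g : G) (n : N), ϑ ⟨g * n * g⁻¹, hN.conj_mem (n : G) n.2 g⟩ = ϑ n := by
    intro e he g n
    have he0 : (e : ℂ) ≠ 0 := fun h => hcon (by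
      rw [he, h, zero_smul, Lib.Chars.classInner_zero_left])
    have h1 := congrFun he ⟨g * n * g⁻¹, hN.conj_mem (n : G) n.2 g⟩
    have h2 := congrFun he n
    simp only [Pi.smul_apply, smul_eq_mul] at h1 h2
    rw [hclass (n : G) g, h2] at h1
    exact (mul_left_cancel₀ he0 h1).symm
  have hnorm : ∀ e : ℕ, (fun n : N => χ n) = (e : ℂ) • ϑ →
      ((∀ g : G, g ∉ N → χ g = 0) ↔ e ^ 2 = N.index) := by
    intro e he
    have h1 : ∑ g : G, χ g * (starRingEnd ℂ) (χ g) = (Nat.card G : ℂ) := by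
      have h := Lib.Chars.classInner_irr_self (⟨χ, hχ⟩ : Cfsg.IrrCharacter G)
      simp only [Cfsg.classInner] at h
      rwa [inv_mul_eq_one₀ Lib.Chars.natCard_ne_zero, eq_comm] at h
    have h2 : ∑ n : N, χ n * (starRingEnd ℂ) (χ n) = (e : ℂ) ^ 2 * (Nat.card N : ℂ) := by
      have h := Lib.Chars.classInner_irr_self (⟨ϑ, hϑ⟩ : Cfsg.IrrCharacter N)
      simp only [Cfsg.classInner] at h
      rw [inv_mul_eq_one₀ Lib.Chars.natCard_ne_zero, eq_comm] at h
      rw [← h, Finset.mul_sum]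
      refine Finset.sum_congr rfl fun n _ => ?_
      rw [show χ n = (e : ℂ) * ϑ n from congrFun he n, map_mul, Complex.conj_natCast]
      ring
    have hG : (Nat.card G : ℂ) = (Nat.card N : ℂ) * N.index := by
      rw [← N.card_mul_index]; push_cast; ring
    have h3 : ∑ g ∈ Finset.univ.filter (fun g => g ∈ N), χ g * (starRingEnd ℂ) (χ g) =
        ∑ n : N, χ n * (starRingEnd ℂ) (χ n) :=
      Finset.sum_subtype (Finset.univ.filter fun g => g ∈ N) (fun x => by simp)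
        (fun g => χ g * (starRingEnd ℂ) (χ g))
    have h4 := Finset.sum_filter_add_sum_filter_not Finset.univ (fun g => g ∈ N)
      (fun g => χ g * (starRingEnd ℂ) (χ g))
    rw [h3, h1, h2] at h4
    constructor
    · intro hv
      rw [Finset.sum_eq_zero fun g hg => by rw [hv g (Finset.mem_filter.1 hg).2, zero_mul],
        add_zero, hG, mul_comm] at h4
      exact_mod_cast mul_left_cancel₀ Lib.Chars.natCard_ne_zero h4
    · intro he2 g hg
      have he2' : (e : ℂ) ^ 2 = (N.index : ℂ) := by exact_mod_cast he2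
      rw [hG, he2', mul_comm (Nat.card N : ℂ), add_eq_left] at h4
      simp only [Complex.mul_conj, ← Complex.ofReal_sum, Complex.ofReal_eq_zero] at h4
      exact Complex.normSq_eq_zero.1 ((Finset.sum_eq_zero_iff_of_nonneg
        (fun x _ => Complex.normSq_nonneg _)).1 h4 g
          (Finset.mem_filter.2 ⟨Finset.mem_univ _, hg⟩))
  have hI := Lib.Chars.isCharacter_indFun N (Lib.Chars.isCharacter_of_isIrrCharacter hϑ)
  obtain ⟨m, hm⟩ := Lib.Chars.isCharacter_exists_nat_decomp hI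
  have hmψ : ∀ ψ : Cfsg.IrrCharacter G,
      Cfsg.classInner (Cfsg.indFun N ϑ) (ψ : G → ℂ) = (m ψ : ℂ) := by
    intro ψ
    rw [hm, Lib.Chars.classInner_sum_smul_irr]
  have hmχ : ∀ e : ℕ, (fun n : N => χ n) = (e : ℂ) • ϑ → m ⟨χ, hχ⟩ = e := by
    intro e he
    have h := hmψ ⟨χ, hχ⟩
    rw [Lib.Chars.classInner_indFun_left N ϑ _ hclass] at h
    change Cfsg.classInner ϑ (fun n : N => χ n) = _ at h
    rw [he, Lib.Chars.classInner_smul_right, Complex.conj_natCast,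
      Lib.Chars.classInner_irr_self (⟨ϑ, hϑ⟩ : Cfsg.IrrCharacter N), mul_one] at h
    exact_mod_cast h.symm
  choose dψ hdψ hdψ1 using fun ψ : Cfsg.IrrCharacter G =>
    Lib.Chars.isIrrCharacter_exists_degree_pos ψ.2
  have hdeg : N.index * dϑ = ∑ ψ, m ψ * dψ ψ := by
    have h := congrFun hm 1
    rw [Lib.Chars.indFun_one_eq, hdϑ1, Finset.sum_apply] at h
    simp only [Pi.smul_apply, hdψ1, smul_eq_mul] at h
    exact_mod_cast h
  have hχ1 : ∀ e : ℕ, (fun n : N => χ n) = (e : ℂ) • ϑ → dψ ⟨χ, hχ⟩ = e * dϑ := by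
    intro e he
    have h := congrFun he 1
    simp only [Pi.smul_apply, smul_eq_mul, OneMemClass.coe_one] at h
    rw [hdϑ1, show χ 1 = (dψ ⟨χ, hχ⟩ : ℂ) from hdψ1 ⟨χ, hχ⟩] at h
    exact_mod_cast h
  refine ⟨⟨?_, ?_⟩, ?_, ?_⟩
  · rintro ⟨e, he, he2⟩
    exact ⟨(hnorm e he).2 he2, hinv_of e he⟩
  · rintro ⟨hv, hinv⟩
    obtain ⟨e, -, he⟩ := hscal hinv
    exact ⟨e, he, (hnorm e he).1 hv⟩
  · rintro ⟨e, he, he2⟩ g n
    refine ⟨hinv_of e he g n, fun ψ hψ hne => ?_⟩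
    by_contra hψχ
    have h1 := Finset.add_le_sum (f := fun ψ => m ψ * dψ ψ) (fun i _ => Nat.zero_le _)
      (Finset.mem_univ (⟨χ, hχ⟩ : Cfsg.IrrCharacter G))
      (Finset.mem_univ (⟨ψ, hψ⟩ : Cfsg.IrrCharacter G))
      (fun h => hψχ (congrArg Subtype.val h).symm)
    rw [← hdeg, hmχ e he, hχ1 e he, ← he2, ← mul_assoc, ← pow_two] at h1
    have h2 : m ⟨ψ, hψ⟩ * dψ ⟨ψ, hψ⟩ ≠ 0 := by
      refine Nat.mul_ne_zero (fun h0 => hne ?_) (hdψ _).ne'
      have := hmψ ⟨ψ, hψ⟩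
      rw [h0, Nat.cast_zero] at this
      exact this
    omega
  · intro h
    obtain ⟨e, -, he⟩ := hscal (fun g n => (h g n).1)
    refine ⟨e, he, ?_⟩
    have h1 : ∀ ψ : Cfsg.IrrCharacter G, ψ ≠ ⟨χ, hχ⟩ → m ψ * dψ ψ = 0 := by
      intro ψ hψ
      by_contra hne
      refine hψ (Subtype.ext ((h 1 1).2 _ ψ.2 ?_))
      rw [hmψ]
      exact Nat.cast_ne_zero.2 (Nat.ne_zero_of_mul_ne_zero_left hne)
    rw [Finset.sum_eq_single (⟨χ, hχ⟩ : Cfsg.IrrCharacter G) (fun ψ _ hψ => h1 ψ hψ) (by simp),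
      hmχ e he, hχ1 e he, ← mul_assoc, ← pow_two] at hdeg
    exact (Nat.eq_of_mul_eq_mul_right hdϑ hdeg).symm

end Cfsg.Agent.S0900
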