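import Cfsg.Statements.S0901
import Cfsg.Agent.Lib.Blocks.LocalRing

set_option autoImplicit false
open Cfsg

namespace Cfsg.Agent.S0901

open Lib.Blocks Polynomial

theorem residue_root_injective {p : ℕ} [Fact p.Prime] {M : Ideal Cfsg.AlgInt} [M.IsPrime]
    (hM : Cfsg.IsPModular p M) {m : ℕ} (hm : ¬ p ∣ m) {ζ : localRing M} (hζ : ζ ^ m = 1)
    (h1 : residue M ζ = 1) : ζ = 1 := by
  by_contra hne
  have hsum : ∑ i ∈ Finset.range m, ζ ^ i = 0 := by
    have := geom_sum_mul ζ m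
    rw [hζ, sub_self, mul_eq_zero] at this
    exact this.resolve_right (sub_ne_zero.2 hne)
  have := congrArg (residue M) hsum
  simp only [map_sum, map_pow, h1, one_pow, map_zero, Finset.sum_const, Finset.card_range,
    nsmul_eq_mul, mul_one] at this
  rw [← map_natCast (residue M), residue_natCast_eq_zero_iff hM] at this
  exact hm this

theorem exists_pow_eq_one_residue {p : ℕ} [Fact p.Prime] {M : Ideal Cfsg.AlgInt} [M.IsPrime]
    (hM : Cfsg.IsPModular p M) (a : Cfsg.AlgInt) (ha : a ∉ M) :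
    ∃ m : ℕ, ¬ p ∣ m ∧ residue M (ofAlgInt M a) ^ m = 1 := by
  haveI := charP_residue hM
  letI : Algebra (ZMod p) (Residue M) := ZMod.algebra _ p
  set x := residue M (ofAlgInt M a) with hx
  have hx0 : x ≠ 0 := fun h => ha (residue_ofAlgInt_eq_zero_iff.1 h)
  have hint : IsIntegral (ZMod p) x := by
    have h1 : IsIntegral ℤ a := (isIntegral_algHom_iff Cfsg.AlgInt.val Subtype.val_injective).1 a.2
    obtain ⟨f, hf, hroot⟩ := h1
    refine ⟨f.map (Int.castRingHom (ZMod p)), hf.map _, ?_⟩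
    rw [eval₂_map]
    have h3 := congrArg ((residue M).comp (ofAlgInt M)) hroot
    rw [hom_eval₂, map_zero, RingHom.comp_apply, ← hx] at h3
    rw [← h3]
    congr 1
    exact RingHom.ext_int _ _
  haveI : FiniteDimensional (ZMod p) (IntermediateField.adjoin (ZMod p) {x}) :=
    IntermediateField.adjoin.finiteDimensional hint
  haveI : Finite (IntermediateField.adjoin (ZMod p) {x}) := Module.finite_of_finite (ZMod p)
  haveI := Fintype.ofFinite (IntermediateField.adjoin (ZMod p) {x})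
  obtain ⟨n, hn, hcard⟩ := FiniteField.card (IntermediateField.adjoin (ZMod p) {x}) p
  refine ⟨p ^ (n : ℕ) - 1, fun hd => ?_, ?_⟩
  · have h2 : p ∣ p ^ (n : ℕ) := dvd_pow_self p n.pos.ne'
    have h3 := Nat.dvd_sub h2 hd
    rw [Nat.sub_sub_self (Nat.one_le_pow _ _ (Fact.out : p.Prime).pos)] at h3
    exact (Fact.out : p.Prime).one_lt.ne' (Nat.dvd_one.1 h3)
  · have h := FiniteField.pow_card_sub_one_eq_one
      (⟨x, IntermediateField.mem_adjoin_simple_self _ x⟩ : IntermediateField.adjoin (ZMod p) {x})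
      (fun h => hx0 (congrArg Subtype.val h))
    rw [hcard] at h
    simpa using congrArg Subtype.val h


/-- Let M be a maximal ideal of the ring of algebraic integers containing the prime p, and let U be the set of complex roots of unity of order prime to p. Then reduction modulo M is injective on U, and every algebraic integer not in M is congruent modulo M to an element of U (so U maps bijectively onto the nonzero residues). -/
theorem result (p : ℕ) [Fact p.Prime] (M : Ideal Cfsg.AlgInt) (hM : Cfsg.IsPModular p M) : (∀ ε₁ ε₂ : Cfsg.AlgInt, (∃ m : ℕ, ¬ p ∣ m ∧ (ε₁ : ℂ) ^ m = 1) → (∃ m : ℕ, ¬ p ∣ m ∧ (ε₂ : ℂ) ^ m = 1) → ε₁ - ε₂ ∈ M → ε₁ = ε₂) ∧ (∀ a : Cfsg.AlgInt, a ∉ M → ∃ ε : Cfsg.AlgInt, (∃ m : ℕ, ¬ p ∣ m ∧ (ε : ℂ) ^ m = 1) ∧ a - ε ∈ M) := by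
  haveI := hM.2.1.isPrime
  refine ⟨?_, fun a ha => ?_⟩
  · rintro ε₁ ε₂ ⟨m₁, hm₁, h₁⟩ ⟨m₂, hm₂, h₂⟩ hsub
    have he : residue M (ofAlgInt M ε₁) = residue M (ofAlgInt M ε₂) := by
      rw [← sub_eq_zero, ← map_sub, ← map_sub, residue_ofAlgInt_eq_zero_iff]
      exact hsub
    have hu₂ : (ofAlgInt M ε₂) ^ m₂ = 1 := Subtype.ext (by simpa using h₂)
    have hu₁ : (ofAlgInt M ε₁) ^ m₁ = 1 := Subtype.ext (by simpa using h₁)
    have hm₂0 : m₂ ≠ 0 := fun h => hm₂ (h ▸ dvd_zero p)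
    set ζ := ofAlgInt M ε₁ * ofAlgInt M ε₂ ^ (m₂ - 1) with hζdef
    have h1 : residue M ζ = 1 := by
      rw [hζdef, map_mul, map_pow, he, ← pow_succ', Nat.sub_add_cancel (Nat.pos_of_ne_zero hm₂0),
        ← map_pow, hu₂, map_one]
    have hζ : ζ = 1 := by
      refine residue_root_injective hM (m := m₁ * m₂) ?_ ?_ h1
      · exact fun h => ((Fact.out : p.Prime).dvd_mul.1 h).elim hm₁ hm₂
      · rw [hζdef, mul_pow, pow_mul, hu₁, one_pow, one_mul, ← pow_mul,
          show (m₂ - 1) * (m₁ * m₂) = m₂ * ((m₂ - 1) * m₁) by ring, pow_mul, hu₂, one_pow]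
    have h := congrArg (fun z => ((z * ofAlgInt M ε₂ : localRing M) : ℂ)) hζ
    rw [hζdef, mul_assoc, ← pow_succ, Nat.sub_add_cancel (Nat.pos_of_ne_zero hm₂0), hu₂,
      mul_one, one_mul] at h
    exact Subtype.ext h
  · obtain ⟨m, hm, hpow⟩ := exists_pow_eq_one_residue hM a ha
    have hm0 : m ≠ 0 := fun h => hm (h ▸ dvd_zero p)
    have hz := Complex.isPrimitiveRoot_exp m hm0
    set z := Complex.exp (2 * Real.pi * Complex.I / m)
    let ζ : Cfsg.AlgInt :=
      ⟨z, IsIntegral.of_pow (Nat.pos_of_ne_zero hm0) (hz.pow_eq_one ▸ isIntegral_one)⟩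
    have hζ : IsPrimitiveRoot ζ m := IsPrimitiveRoot.of_map_of_injective
      (f := Cfsg.AlgInt.val) hz Subtype.val_injective
    have hprod := congrArg (fun f => Polynomial.eval a f) (X_pow_sub_one_eq_prod (Nat.pos_of_ne_zero hm0) hζ)
    simp only [eval_sub, eval_pow, eval_X, eval_one, eval_prod, eval_C] at hprod
    have hmem : a ^ m - 1 ∈ M := by
      rw [← residue_ofAlgInt_eq_zero_iff (M := M), map_sub, map_sub, map_pow, map_pow, hpow,
        map_one, map_one, sub_self]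
    rw [hprod, (hM.2.1.isPrime).prod_mem_iff] at hmem
    obtain ⟨ε, hε, hmem⟩ := hmem
    rw [mem_nthRootsFinset (Nat.pos_of_ne_zero hm0)] at hε
    exact ⟨ε, ⟨m, hm, by simpa using congrArg Subtype.val hε⟩, hmem⟩

end Cfsg.Agent.S0901
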