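import Cfsg.Statements.S0903
import Mathlib

set_option autoImplicit false
open Cfsg

namespace Cfsg.Agent.S0903


/-- Let P be a p-subgroup of the finite group G, let c centralize P and let g, h ∈ G. The number of pairs (x, y) with x conjugate to g, y conjugate to h and x * y = c is congruent modulo p to the number of such pairs in which x and y both centralize P. (This is why the Brauer map on class sums is multiplicative.) -/
theorem result {G : Type*} [Group G] [Finite G] (p : ℕ) [Fact p.Prime] (P : Subgroup G) (hP : IsPGroup p P) (c : G) (hc : c ∈ Subgroup.centralizer (P : Set G)) (g h : G) : Nat.card {xy : G × G // IsConj g xy.1 ∧ IsConj h xy.2 ∧ xy.1 * xy.2 = c} ≡ Nat.card {xy : G × G // IsConj g xy.1 ∧ IsConj h xy.2 ∧ xy.1 * xy.2 = c ∧ xy.1 ∈ Subgroup.centralizer (P : Set G) ∧ xy.2 ∈ Subgroup.centralizer (P : Set G)} [MOD p] := by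
  classical
  letI act : MulAction P {xy : G × G // IsConj g xy.1 ∧ IsConj h xy.2 ∧ xy.1 * xy.2 = c} :=
    { smul := fun a q => ⟨((a : G) * q.1.1 * (a : G)⁻¹, (a : G) * q.1.2 * (a : G)⁻¹),
        q.2.1.trans (isConj_iff.2 ⟨a, rfl⟩), q.2.2.1.trans (isConj_iff.2 ⟨a, rfl⟩), by
          have hac : (a : G) * c = c * (a : G) := Subgroup.mem_centralizer_iff.1 hc a a.2
          calc (a : G) * q.1.1 * (a : G)⁻¹ * ((a : G) * q.1.2 * (a : G)⁻¹)
              = (a : G) * (q.1.1 * q.1.2) * (a : G)⁻¹ := by group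
            _ = c := by rw [q.2.2.2, hac, mul_inv_cancel_right]⟩
      one_smul := fun q => Subtype.ext (by
        show (((1 : P) : G) * q.1.1 * ((1 : P) : G)⁻¹, ((1 : P) : G) * q.1.2 * ((1 : P) : G)⁻¹) = q.1
        simp)
      mul_smul := fun a b q => Subtype.ext (by
        show (((a * b : P) : G) * q.1.1 * ((a * b : P) : G)⁻¹,
            ((a * b : P) : G) * q.1.2 * ((a * b : P) : G)⁻¹) =
          ((a : G) * ((b : G) * q.1.1 * (b : G)⁻¹) * (a : G)⁻¹,
            (a : G) * ((b : G) * q.1.2 * (b : G)⁻¹) * (a : G)⁻¹)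
        simp [mul_assoc]) }
  refine (hP.card_modEq_card_fixedPoints
    {xy : G × G // IsConj g xy.1 ∧ IsConj h xy.2 ∧ xy.1 * xy.2 = c}).trans ?_
  refine Eq.subst (motive := fun t => Nat.card _ ≡ t [MOD p]) ?_ (Nat.ModEq.refl _)
  refine Nat.card_congr
    { toFun := fun q => ⟨q.1.1, q.1.2.1, q.1.2.2.1, q.1.2.2.2, ?_, ?_⟩
      invFun := fun q => ⟨⟨q.1, q.2.1, q.2.2.1, q.2.2.2.1⟩, fun a => ?_⟩
      left_inv := fun q => rfl
      right_inv := fun q => rfl }
  · rw [Subgroup.mem_centralizer_iff]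
    intro a ha
    exact eq_mul_of_mul_inv_eq (congrArg (fun t => t.1.1) (q.2 ⟨a, ha⟩))
  · rw [Subgroup.mem_centralizer_iff]
    intro a ha
    exact eq_mul_of_mul_inv_eq (congrArg (fun t => t.1.2) (q.2 ⟨a, ha⟩))
  · refine Subtype.ext (Prod.ext ?_ ?_)
    · show (a : G) * q.1.1 * (a : G)⁻¹ = q.1.1
      rw [Subgroup.mem_centralizer_iff.1 q.2.2.2.2.1 a a.2, mul_inv_cancel_right]
    · show (a : G) * q.1.2 * (a : G)⁻¹ = q.1.2
      rw [Subgroup.mem_centralizer_iff.1 q.2.2.2.2.2 a a.2, mul_inv_cancel_right]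

end Cfsg.Agent.S0903
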