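import Cfsg.Statements.S0905
import Cfsg.Agent.Lib.Blocks.NilKernel
import Cfsg.Agent.Lib.PSolvable.Core
import Cfsg.Prelude.Def_CaseTheorems

set_option autoImplicit false
open Cfsg

namespace Cfsg.Agent.S0905


/-- Let F be a field of characteristic p and let g be an element of the finite group G no conjugate of which centralizes O_p(G). Then the class sum of g is a nilpotent element of the group algebra F[G]. -/
theorem result {G : Type*} [Group G] [Finite G] (p : ℕ) [Fact p.Prime] (F : Type*) [Field F] [CharP F p] (g : G) (hg : ∀ x : G, IsConj g x → x ∉ Subgroup.centralizer (Cfsg.pCore p G : Set G)) : IsNilpotent (∑ᶠ x ∈ ConjClasses.carrier (ConjClasses.mk g), MonoidAlgebra.single x (1 : F) : MonoidAlgebra F G) := by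
  classical
  cases nonempty_fintype G
  have hsum : (∑ᶠ x ∈ ConjClasses.carrier (ConjClasses.mk g), MonoidAlgebra.single x (1 : F) :
      MonoidAlgebra F G) = Lib.Blocks.classSum F g := by
    rw [finsum_mem_eq_toFinset_sum]
    ext x
    simp only [MonoidAlgebra.coeff_sum, Finsupp.coe_finsetSum, Finset.sum_apply,
      MonoidAlgebra.coeff_single, Finsupp.single_apply, Finset.sum_ite_eq', Set.mem_toFinset,
      Lib.Blocks.coeff_classSum, ConjClasses.mem_carrier_iff_mk_eq,
      ConjClasses.mk_eq_mk_iff_isConj]
    by_cases h : IsConj g x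
    · rw [if_pos h, if_pos h.symm]
    · rw [if_neg h, if_neg (mt IsConj.symm h)]
  rw [hsum]
  refine Lib.Blocks.isNilpotent_of_coeff_centralizer_eq_zero (p := p) (Cfsg.pCore p G)
    Lib.PSolvable.pCore_isPGroup (Lib.Blocks.classSum_mem_center g) fun x hx => ?_
  rw [Lib.Blocks.coeff_classSum, if_neg fun h => hg x h hx]

end Cfsg.Agent.S0905
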