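import Cfsg.Statements.S0911
import Cfsg.Agent.Lib.Blocks.DefectClass

set_option autoImplicit false
open Cfsg

namespace Cfsg.Agent.S0911


/-- The min–max Theorem for defect classes. Let B be a block of the finite group G relative to a maximal ideal M of the algebraic integers containing the prime p, let g represent a defect class of B and let D be a Sylow p-subgroup of the centralizer of g (viewed in G). For any h: (a) if the idempotent coefficient of B at h is a local integer outside the local ideal, then some conjugate of D contains a Sylow p-subgroup of the centralizer of h; (b) if the central character of some member of B at h is outside the local ideal, then some conjugate of D is contained in a Sylow p-subgroup of the centralizer of h. -/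
theorem result {G : Type*} [Group G] [Finite G] (p : ℕ) [Fact p.Prime] (M : Ideal Cfsg.AlgInt) (hM : Cfsg.IsPModular p M) (B : Set (Cfsg.IrrCharacter G)) (hB : Cfsg.IsPBlock M B) (g : G) (hg : Cfsg.IsDefectClass M B g) (D : Sylow p (Subgroup.centralizer ({g} : Set G))) (h : G) : (Cfsg.MemLocalRing M (Cfsg.blockCoeff B h) → ¬ Cfsg.MemLocalIdeal M (Cfsg.blockCoeff B h) → ∃ (x : G) (Q : Sylow p (Subgroup.centralizer ({h} : Set G))), (Q : Subgroup (Subgroup.centralizer ({h} : Set G))).map (Subgroup.centralizer ({h} : Set G)).subtype ≤ ((D : Subgroup (Subgroup.centralizer ({g} : Set G))).map (Subgroup.centralizer ({g} : Set G)).subtype).map (MulAut.conj x).toMonoidHom) ∧ ((∃ χ ∈ B, ¬ Cfsg.MemLocalIdeal M (Cfsg.centralChar (χ : G → ℂ) h)) → ∃ (x : G) (Q : Sylow p (Subgroup.centralizer ({h} : Set G))), ((D : Subgroup (Subgroup.centralizer ({g} : Set G))).map (Subgroup.centralizer ({g} : Set G)).subtype).map (MulAut.conj x).toMonoidHom ≤ (Q : Subgroup (Subgroup.centralizer ({h} : Set G))).map (Subgroup.centralizer ({h}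 : Set G)).subtype) := by
  haveI := hM.2.1.isPrime
  have hD := Lib.Blocks.isClassDefect_iff_exists_sylow.2 ⟨D, rfl⟩
  refine ⟨fun _ hu => ?_, fun hω => ?_⟩
  · obtain ⟨Q, hQ⟩ := Lib.Blocks.exists_isClassDefect (p := p) h
    obtain ⟨S, rfl⟩ := Lib.Blocks.isClassDefect_iff_exists_sylow.1 hQ
    obtain ⟨x, hx⟩ := Lib.Blocks.exists_conj_le_of_unit hM hB hg hD hQ.1
      (Lib.Blocks.le_centralizer_singleton_iff.1 hQ.2.1) hu
    exact ⟨x, S, hx⟩
  · obtain ⟨χ, hχ, hω⟩ := hω
    obtain ⟨Q, hQ⟩ := Lib.Blocks.exists_isClassDefect (p := p) h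
    obtain ⟨S, rfl⟩ := Lib.Blocks.isClassDefect_iff_exists_sylow.1 hQ
    obtain ⟨x, hx⟩ := Lib.Blocks.exists_conj_le_classDefect hM hB hg hD hχ hω hQ
    refine ⟨x⁻¹, S, ?_⟩
    rintro _ ⟨y, hy, rfl⟩
    obtain ⟨z, hz, hzy⟩ := hx hy
    have hz' : ((MulAut.conj x⁻¹).toMonoidHom y) = z := by
      rw [← hzy]
      simp [mul_assoc]
    rw [hz']
    exact hz

end Cfsg.Agent.S0911
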