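import Cfsg.Statements.S0912
import Cfsg.Agent.Lib.Blocks.DefectClass
import Cfsg.Agent.Lib.PSolvable.Core
import Cfsg.Prelude.Def_CaseTheorems

set_option autoImplicit false
open Cfsg

namespace Cfsg.Agent.S0912


/-- Let B be a block of the finite group G relative to a maximal ideal M of the algebraic integers containing the prime p. Every defect group of B contains the largest normal p-subgroup O_p(G). -/
theorem result {G : Type*} [Group G] [Finite G] (p : ℕ) [Fact p.Prime] (M : Ideal Cfsg.AlgInt) (hM : Cfsg.IsPModular p M) (B : Set (Cfsg.IrrCharacter G)) (hB : Cfsg.IsPBlock M B) (D : Subgroup G) (hD : Cfsg.IsDefectGroup p M B D) : Cfsg.pCore p G ≤ D := by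
  classical
  haveI := hM.2.1.isPrime
  obtain ⟨g, hg, hgD⟩ := Lib.Blocks.isDefectGroup_iff.1 hD
  obtain ⟨χ, hχ⟩ := Lib.Blocks.isPBlock_nonempty hB
  by_cases hc : g ∈ Subgroup.centralizer (Cfsg.pCore p G : Set G)
  · obtain ⟨D', hD', hle⟩ :=
      Lib.Blocks.exists_isClassDefect_ge (p := p) Lib.PSolvable.pCore_isPGroup hc
    obtain ⟨c, -, hcD⟩ := Lib.Blocks.exists_conj_of_isClassDefect hD' hgD
    rw [← hcD]
    intro y hy
    refine ⟨c⁻¹ * y * c, hle ?_, by simp [mul_assoc]⟩
    have := (Cfsg.pCore_normal p G).conj_mem y hy c⁻¹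
    simpa using this
  · refine absurd ((Lib.Blocks.omegaBar_classSumR_eq_zero_iff χ g).1 ?_) (hg.2.2 χ hχ)
    refine Lib.Blocks.omegaBar_eq_zero_of_coeff_centralizer hM (Cfsg.pCore p G)
      Lib.PSolvable.pCore_isPGroup χ fun x hx => ?_
    simp only [Lib.Blocks.classSumR, Lib.Blocks.coeff_classSum]
    rw [if_neg fun h => hc ?_, map_zero]
    obtain ⟨d, rfl⟩ := isConj_iff.1 h
    have hn : (Subgroup.centralizer (Cfsg.pCore p G : Set G)).Normal := inferInstance
    have := hn.conj_mem _ hx d⁻¹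
    simpa [mul_assoc] using this

end Cfsg.Agent.S0912
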