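import Cfsg.Statements.S0922
import Cfsg.Agent.Lib.Blocks.SecondMain

set_option autoImplicit false
open Cfsg

namespace Cfsg.Agent.S0922


/-- Let H be a subgroup of the finite group G and let the block b of H induce the block B of G (relative to a maximal ideal M of the algebraic integers containing the prime p). Let h ∈ H be such that the centralizer in G of the p-part of h lies in H, and let χ be an irreducible character of G not in B. Then the sum over k ∈ H of (the idempotent coefficient of b at k) times χ (k * h) vanishes; that is, χ annihilates f_b h where f_b is the sum of the central idempotents of the members of b. -/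
theorem result {G : Type*} [Group G] [Finite G] (p : ℕ) [Fact p.Prime] (M : Ideal Cfsg.AlgInt) (hM : Cfsg.IsPModular p M) (H : Subgroup G) (b : Set (Cfsg.IrrCharacter H)) (B : Set (Cfsg.IrrCharacter G)) (hind : Cfsg.IsInducedBlock M H b B) (h : H) (hC : ∀ z : G, Cfsg.IsPPart p (h : G) z → Subgroup.centralizer ({z} : Set G) ≤ H) (χ : Cfsg.IrrCharacter G) (hχ : χ ∉ B) : ∑ᶠ k : H, Cfsg.blockCoeff b k * (χ : G → ℂ) ((k : G) * (h : G)) = 0 := by
  classical
  haveI := hM.2.1.isPrime
  haveI : Fintype (ConjClasses G) := Fintype.ofFinite _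
  obtain ⟨z, hz⟩ := Lib.Blocks.exists_isPPart (p := p) (h : G)
  refine Lib.Blocks.secondMain_idem hM H hind.1 hind.2.1 (fun ξ hξ => ?_) h hz (hC z hz) hχ
  obtain ⟨χ', hχ'⟩ := Lib.Blocks.isPBlock_nonempty hind.2.1
  have key : ∀ z : Lib.Blocks.RCenter M G,
      Lib.Blocks.omegaBar M ξ (Lib.Blocks.resR M H z) = Lib.Blocks.omegaBar M χ' z := by
    intro w
    rw [Lib.Blocks.omegaBar_eq_sum χ' w]
    conv_lhs => rw [Lib.Blocks.rcenter_eq_sum w]
    have hsum : ∀ (s : Finset (ConjClasses G)) (f : ConjClasses G → Lib.Blocks.RCenter M G),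
        Lib.Blocks.omegaBar M ξ (Lib.Blocks.resR M H (∑ c ∈ s, f c)) =
          ∑ c ∈ s, Lib.Blocks.omegaBar M ξ (Lib.Blocks.resR M H (f c)) := by
      intro s f
      induction s using Finset.induction_on with
      | empty => simp [Lib.Blocks.brR_zero]
      | insert a t ha ih =>
        rw [Finset.sum_insert ha, Finset.sum_insert ha, Lib.Blocks.resR, Lib.Blocks.brR_add,
          map_add, ← ih]
    have hsmul : ∀ (a : Lib.Blocks.localRing M) (y : Lib.Blocks.RCenter M G),
        Lib.Blocks.resR M H (a • y) = a • Lib.Blocks.resR M H y := fun a y => by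
      refine Subtype.ext ?_
      ext x
      simp [Lib.Blocks.resR, Lib.Blocks.coe_brR, Lib.Blocks.coeff_trunc,
        Subgroup.mem_centralizer_iff]
    rw [hsum]
    refine Finset.sum_congr rfl fun c _ => ?_
    rw [hsmul, Algebra.smul_def, map_mul, Lib.Blocks.omegaBar_algebraMap,
      (Lib.Blocks.memLocalIdeal_induced_sub_iff H ξ χ' _).1 (hind.2.2 ξ hξ χ' hχ' _)]
  rw [key, Lib.Blocks.omegaBar_blockIdem, if_pos hχ']

end Cfsg.Agent.S0922
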