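import Cfsg.Statements.S0925
import Cfsg.Agent.Lib.Blocks.BlockOrth

set_option autoImplicit false
open Cfsg

namespace Cfsg.Agent.S0925

open scoped Classical in
/-- (i) Let ϑ be a class function on the finite group G and x a p-element, and suppose ϑ vanishes at every element whose p-part is conjugate to x. Then for every block B (relative to a maximal ideal M of the algebraic integers containing p) the B-part of ϑ — the sum over χ ∈ B of the inner product of ϑ with χ, times χ — also vanishes at every such element. (ii) Block orthogonality, its corollary: if the p-parts of g and h are not conjugate, then the sum over χ ∈ B of χ g * χ h⁻¹ is zero for every block B. -/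
theorem result {G : Type*} [Group G] [Finite G] (p : ℕ) [Fact p.Prime] (M : Ideal Cfsg.AlgInt) (hM : Cfsg.IsPModular p M) : (∀ (ϑ : G → ℂ), Cfsg.IsClassFunction G ϑ → ∀ x : G, (∃ k : ℕ, orderOf x = p ^ k) → (∀ u z : G, Cfsg.IsPPart p u z → IsConj x z → ϑ u = 0) → ∀ B : Set (Cfsg.IrrCharacter G), Cfsg.IsPBlock M B → ∀ u z : G, Cfsg.IsPPart p u z → IsConj x z → Cfsg.blockPart B ϑ u = 0) ∧ (∀ g h x y : G, Cfsg.IsPPart p g x → Cfsg.IsPPart p h y → ¬ IsConj x y → ∀ B : Set (Cfsg.IrrCharacter G), Cfsg.IsPBlock M B → ∑ᶠ χ ∈ B, (χ : G → ℂ) g * (χ : G → ℂ) h⁻¹ = 0) := by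
  haveI := hM.2.1.isPrime
  refine ⟨fun ϑ _ x _ hϑ B hB u z huz hxz => ?_, fun g h x y hg hh hxy B hB =>
    Lib.Blocks.block_orth hM hB hg hh hxy⟩
  simp only [Cfsg.blockPart, Cfsg.classInner]
  letI := Fintype.ofFinite G
  rw [finsum_mem_eq_toFinset_sum]
  simp only [Finset.mul_sum, Finset.sum_mul]
  rw [Finset.sum_comm]
  refine Finset.sum_eq_zero fun g _ => ?_
  obtain ⟨w, hw⟩ := Lib.Blocks.exists_isPPart (p := p) g
  by_cases hc : IsConj x w
  · simp [hϑ g w hw hc]
  · have h0 := Lib.Blocks.block_orth_conj hM hB huz hw fun h => hc (hxz.trans h)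
    rw [finsum_mem_eq_toFinset_sum] at h0
    calc _ = ((Nat.card G : ℂ)⁻¹ * ϑ g) * ∑ χ ∈ B.toFinset,
          (χ : G → ℂ) u * starRingEnd ℂ ((χ : G → ℂ) g) := by
          rw [Finset.mul_sum]; exact Finset.sum_congr rfl fun χ _ => by ring
      _ = 0 := by rw [h0, mul_zero]

end Cfsg.Agent.S0925
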