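import Cfsg.Statements.S0926
import Cfsg.Agent.Lib.Blocks.DefectProps

set_option autoImplicit false
open Cfsg

namespace Cfsg.Agent.S0926

/-- Let B be a block of the finite group G with defect group D (relative to a maximal ideal M of the algebraic integers containing p), let χ ∈ B have height zero, and let x be a p-element. Then some conjugate of x lies in D if and only if χ does not vanish on the whole p-section of x (the elements whose p-part is conjugate to x). -/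
theorem result {G : Type*} [Group G] [Finite G] (p : ℕ) [Fact p.Prime] (M : Ideal Cfsg.AlgInt) (hM : Cfsg.IsPModular p M) (B : Set (Cfsg.IrrCharacter G)) (hB : Cfsg.IsPBlock M B) (D : Subgroup G) (hD : Cfsg.IsDefectGroup p M B D) (χ : Cfsg.IrrCharacter G) (hχ : χ ∈ B) (h0 : Cfsg.blockHeight p B (χ : G → ℂ) = 0) (x : G) (hx : ∃ k : ℕ, orderOf x = p ^ k) : (∃ g : G, g * x * g⁻¹ ∈ D) ↔ ∃ u : G, (∃ z : G, Cfsg.IsPPart p u z ∧ IsConj x z) ∧ (χ : G → ℂ) u ≠ 0 := by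
  haveI := hM.2.1.isPrime
  obtain ⟨y, hy, hyD⟩ := Lib.Blocks.isDefectGroup_iff.1 hD
  constructor
  · rintro ⟨g, hg⟩
    obtain ⟨k, hk⟩ := IsPGroup.iff_orderOf.1 hyD.1 ⟨g * x * g⁻¹, hg⟩
    rw [Subgroup.orderOf_mk] at hk
    refine ⟨g * x * g⁻¹ * y, ⟨g * x * g⁻¹, ⟨y, rfl, Subgroup.mem_centralizer_iff.1
      (Lib.Blocks.le_centralizer_singleton_iff.1 hyD.2.1) _ hg,
      ⟨k, hk⟩, Lib.Blocks.isDefectClass_pRegular hM hB hy⟩, isConj_iff.2 ⟨g, rfl⟩⟩, fun h => ?_⟩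
    exact Lib.Blocks.not_memLocalIdeal_char_mul hM hB hy hyD hg hχ h0
      (h ▸ Lib.Blocks.memLocalIdeal_zero)
  · rintro ⟨u, ⟨z, hz, hxz⟩, hu⟩
    by_contra hno
    refine hu (Lib.Blocks.char_eq_zero_of_pPart_notMem hM χ hz fun D' hD' hzD' => hno ?_)
    rw [← Lib.Blocks.eq_blockOf_of_mem hB hχ] at hD'
    obtain ⟨c, rfl⟩ := Lib.Blocks.isDefectGroup_conjugate hM hB hD hD'
    obtain ⟨d, hd, rfl⟩ := hzD'
    obtain ⟨a, ha⟩ := isConj_iff.1 hxz
    refine ⟨c⁻¹ * a, ?_⟩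
    have he : c⁻¹ * a * x * (c⁻¹ * a)⁻¹ = d := by
      calc _ = c⁻¹ * (a * x * a⁻¹) * c := by group
        _ = d := by rw [ha]; simp [mul_assoc]
    rwa [he]

end Cfsg.Agent.S0926
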