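import Cfsg.Statements.S0928
import Cfsg.Agent.Lib.Blocks.Knorr
import Cfsg.Agent.Lib.Glauberman.Residue

set_option autoImplicit false
open Cfsg

namespace Cfsg.Agent.S0928

/-- Let χ be an irreducible character of the finite group G and p a prime. If χ g = 0 for every element g of order p, then the exponent of p in the degree χ(1) equals the exponent of p in the order of G (χ has p-defect zero). -/
theorem result {G : Type*} [Group G] [Finite G] (p : ℕ) [Fact p.Prime] (χ : Cfsg.IrrCharacter G) (hvan : ∀ g : G, orderOf g = p → (χ : G → ℂ) g = 0) : (Cfsg.charDegree (χ : G → ℂ)).factorization p = (Nat.card G).factorization p := by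
  obtain ⟨M, hM⟩ := Lib.Glauberman.exists_isPModular (Fact.out : p.Prime)
  haveI := hM.2.1.isPrime
  have h0 := Lib.Blocks.blockDefect_eq_zero_of_vanishing hM χ hvan
  obtain ⟨-, -, hdvd⟩ := Lib.Blocks.exists_degree_eq χ
  refine le_antisymm ?_ ?_
  · have hne : Cfsg.charDegree (χ : G → ℂ) ≠ 0 := fun h => by
      rw [h, zero_dvd_iff] at hdvd; exact Nat.card_pos.ne' hdvd
    exact (Nat.factorization_le_iff_dvd hne Nat.card_pos.ne').2 hdvd p
  · have := Lib.Blocks.factorization_degree_add_blockDefect (p := p) hM
      (Lib.Blocks.isPBlock_blockOf χ) (Lib.Blocks.mem_blockOf_self χ)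
    rw [h0, add_zero] at this
    exact Nat.le.intro this

end Cfsg.Agent.S0928
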