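import Cfsg.Statements.S0932
import Cfsg.Agent.Lib.Blocks.ClassAlgebra

set_option autoImplicit false
open Cfsg

namespace Cfsg.Agent.S0932

open scoped Classical in
theorem sum_conj_indicator {G : Type*} [Group G] [Fintype G] (g : G) (f : G → ℂ) :
    ((Subgroup.centralizer ({g} : Set G)).index : ℂ) * ∑ x : G, f (x⁻¹ * g * x) =
      (Nat.card G : ℂ) * ∑ y ∈ Finset.univ.filter (IsConj g), f y := by
  have hfib : ∀ y ∈ Finset.univ.filter (IsConj g),
      (Finset.univ.filter (fun x : G => x⁻¹ * g * x = y)).card =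
        Nat.card (Subgroup.centralizer ({g} : Set G)) := by
    intro y hy
    obtain ⟨c, rfl⟩ := isConj_iff.1 (Finset.mem_filter.1 hy).2
    rw [← Fintype.card_subtype, ← Nat.card_eq_fintype_card]
    refine Nat.card_congr ⟨fun x => ⟨(x : G) * c, ?_⟩, fun z => ⟨(z : G) * c⁻¹, ?_⟩,
      fun x => Subtype.ext (mul_inv_cancel_right _ _),
      fun z => Subtype.ext (inv_mul_cancel_right _ _)⟩
    · rw [Subgroup.mem_centralizer_singleton_iff]
      have h := x.2
      calc (x : G) * c * g = (x : G) * (c * g * c⁻¹) * c := by group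
        _ = (x : G) * ((x : G)⁻¹ * g * x) * c := by rw [h]
        _ = g * ((x : G) * c) := by group
    · have h := Subgroup.mem_centralizer_singleton_iff.1 z.2
      calc ((z : G) * c⁻¹)⁻¹ * g * ((z : G) * c⁻¹) = c * ((z : G)⁻¹ * (g * z)) * c⁻¹ := by group
        _ = c * ((z : G)⁻¹ * (z * g)) * c⁻¹ := by rw [h]
        _ = c * g * c⁻¹ := by group
  rw [← Finset.sum_fiberwise_of_maps_to (g := fun x : G => x⁻¹ * g * x)
    (t := Finset.univ.filter (IsConj g)) (fun x _ => Finset.mem_filter.2
      ⟨Finset.mem_univ _, isConj_iff.2 ⟨x⁻¹, by group⟩⟩), Finset.mul_sum, Finset.mul_sum]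
  refine Finset.sum_congr rfl fun y hy => ?_
  rw [Finset.sum_congr rfl (g := fun _ => f y) (fun x hx => by rw [(Finset.mem_filter.1 hx).2]),
    Finset.sum_const, hfib y hy, nsmul_eq_mul, ← mul_assoc, ← Nat.cast_mul,
    Subgroup.index_mul_card]


/-- Let H be a subgroup of the finite group G and ξ a character of H. For every g ∈ G, the sum of ξ h / ξ 1 over the elements h ∈ H that are conjugate in G to g equals the central character at g of the character of G induced from ξ (class size times value divided by degree). -/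
theorem result {G : Type*} [Group G] [Fintype G] (H : Subgroup G) (ξ : H → ℂ) (hξ : Cfsg.IsCharacter H ξ) (g : G) : Cfsg.inducedCentralChar H ξ g = Cfsg.centralChar (Cfsg.indFun H ξ) g := by
  classical
  obtain ⟨n, ρ, rfl⟩ := hξ
  set ξ := ρ.character with hξdef
  have hext : ∀ h : H, Cfsg.extendByZero H ξ (h : G) = ξ h := fun h =>
    Subtype.val_injective.extend_apply _ _ h
  have hout : ∀ y : G, y ∉ H → Cfsg.extendByZero H ξ y = 0 := fun y hy =>
    Function.extend_apply' _ _ _ (fun ⟨h, hh⟩ => hy (hh ▸ h.2))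
  have hsum : ∑ y ∈ Finset.univ.filter (IsConj g), Cfsg.extendByZero H ξ y =
      ∑ h ∈ Finset.univ.filter (fun h : H => IsConj g (h : G)), ξ h := by
    rw [← Finset.sum_subset (s₁ := (Finset.univ.filter (fun h : H => IsConj g (h : G))).map
      ⟨Subtype.val, Subtype.val_injective⟩)]
    · rw [Finset.sum_map]; exact Finset.sum_congr rfl fun h _ => hext h
    · intro y hy
      simp only [Finset.mem_map, Finset.mem_filter, Finset.mem_univ, true_and,
        Function.Embedding.coeFn_mk] at hy ⊢
      obtain ⟨h, hh, rfl⟩ := hy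
      exact hh
    · intro y hy hy'
      refine hout y fun hH => hy' (Finset.mem_map.2 ⟨⟨y, hH⟩, ?_, rfl⟩)
      simpa using hy
  have hone : Cfsg.indFun H ξ 1 = (Nat.card H : ℂ)⁻¹ * ((Nat.card G : ℂ) * ξ 1) := by
    have h1 : Cfsg.extendByZero H ξ 1 = ξ 1 := hext 1
    simp [Cfsg.indFun, h1]
  rw [Cfsg.centralChar, hone, Cfsg.inducedCentralChar, finsum_mem_eq_toFinset_sum, Cfsg.indFun,
    ← Finset.sum_div, Set.toFinset_setOf, mul_left_comm, sum_conj_indicator, hsum]
  have hG : (Nat.card G : ℂ) ≠ 0 := by exact_mod_cast Nat.card_pos.ne'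
  have hH : (Nat.card H : ℂ) ≠ 0 := by exact_mod_cast Nat.card_pos.ne'
  field_simp

end Cfsg.Agent.S0932
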