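import Cfsg.Statements.S0938
import Cfsg.Agent.Lib.Blocks.Covering

set_option autoImplicit false
open Cfsg

namespace Cfsg.Agent.S0938

open Cfsg.Agent.Lib.Blocks.Covering
open scoped ComplexConjugate

/-- Let B be a block of the finite group G relative to a maximal ideal M of the algebraic integers containing the prime p, and let χ ∈ B. Then the kernel of B (the set of g with ψ g = ψ 1 for all ψ ∈ B) is a normal subgroup of order prime to p contained in the kernel of χ, and it contains every normal subgroup of order prime to p on which χ takes the value χ(1); that is, it is O_p' of the kernel of χ. -/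
theorem result {G : Type*} [Group G] [Finite G] (p : ℕ) [Fact p.Prime] (M : Ideal Cfsg.AlgInt) (hM : Cfsg.IsPModular p M) (B : Set (Cfsg.IrrCharacter G)) (hB : Cfsg.IsPBlock M B) (χ : Cfsg.IrrCharacter G) (hχ : χ ∈ B) : ∃ K : Subgroup G, K.Normal ∧ (K : Set G) = Cfsg.blockKer B ∧ ¬ p ∣ Nat.card K ∧ (∀ g ∈ K, (χ : G → ℂ) g = (χ : G → ℂ) 1) ∧ ∀ N : Subgroup G, N.Normal → ¬ p ∣ Nat.card N → (∀ g ∈ N, (χ : G → ℂ) g = (χ : G → ℂ) 1) → N ≤ K := by
  classical
  cases nonempty_fintype G
  have := Lib.Blocks.isPModular_isPrime hM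
  let K : Subgroup G :=
    { carrier := blockKer B
      one_mem' := fun ψ _ => rfl
      mul_mem' := by
        intro a b ha hb ψ hψ
        obtain ⟨d, ρ, -, hρ⟩ := ψ.2
        have ha' := ha ψ hψ
        have hb' := hb ψ hψ
        rw [← hρ, ← Lib.Chars.rep_eq_one_iff] at ha' hb' ⊢
        rw [map_mul, ha', hb', mul_one]
      inv_mem' := by
        intro a ha ψ hψ
        rw [Lib.Chars.irr_inv, ha ψ hψ]
        obtain ⟨d, -, hd⟩ := Lib.Chars.isIrrCharacter_exists_degree_pos ψ.2
        rw [hd, map_natCast] }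
  have hKn : K.Normal := ⟨fun g hg k ψ hψ => by
    rw [Lib.Chars.irr_isClassFunction ψ g k]; exact hg ψ hψ⟩
  refine ⟨K, hKn, rfl, ?_, fun g hg => hg χ hχ, ?_⟩
  · intro hdvd
    obtain ⟨y, hy⟩ := exists_prime_orderOf_dvd_card' p hdvd
    have hord : p ∣ orderOf (y : G) := by rw [Subgroup.orderOf_coe, hy]
    have h0 := Lib.Blocks.weak_block_orth hM hB
      (g := (1 : G)) (by rw [orderOf_one]; exact (Fact.out : p.Prime).not_dvd_one) hord
    have hre := congrArg Complex.re h0
    rw [finsum_eq_sum_of_fintype, Complex.re_sum, Complex.zero_re,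
      Finset.sum_eq_zero_iff_of_nonneg] at hre
    · have h1 := hre χ (Finset.mem_univ _)
      obtain ⟨d, hd, hd1⟩ := Lib.Chars.isIrrCharacter_exists_degree_pos χ.2
      rw [finsum_eq_if, if_pos hχ, y.2 χ hχ, hd1] at h1
      simp at h1
      omega
    · intro ψ _
      rw [finsum_eq_if]
      split_ifs with hψ
      · obtain ⟨d, -, hd⟩ := Lib.Chars.isIrrCharacter_exists_degree_pos ψ.2
        rw [y.2 ψ hψ, hd]
        simpa using mul_self_nonneg (d : ℝ)
      · simp
  · intro N hN hNp htriv g hg ψ hψ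
    have : Fintype N := Fintype.ofFinite _
    let one : IrrCharacter N := ⟨fun _ => 1, Lib.Chars.isIrrCharacter_one⟩
    have h1 : classInner (Lib.Clifford.resFun N (χ : G → ℂ)) (one : N → ℂ) ≠ 0 := by
      have e : ∀ n : N, (χ : G → ℂ) n = (χ : G → ℂ) 1 := fun n => htriv n n.2
      simp [classInner, one, Lib.Clifford.resFun, e, Lib.Chars.irr_apply_one_ne_zero χ,
        Lib.Chars.natCard_ne_zero]
    have h2 := constituent_of_sameBlock (N := N) hM hNp (Lib.Blocks.sameBlock_of_mem hB hχ hψ) h1
    exact eq_one_of_sum_ne_zero ψ (fun h0 => h2 (by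
      simp only [classInner, one, Lib.Clifford.resFun, map_one, mul_one, h0, mul_zero])) ⟨g, hg⟩

end Cfsg.Agent.S0938
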