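import Cfsg.Statements.S0939
import Cfsg.Agent.Lib.Blocks.Covering
import Cfsg.Agent.Lib.PSolvable.Core

set_option autoImplicit false
open Cfsg

namespace Cfsg.Agent.S0939

open Cfsg.Agent.Lib.Blocks.Covering
open scoped ComplexConjugate

/-- Let G be a finite group with a normal p-complement (the largest normal subgroup O_p'(G) of order prime to p has p-power index). Then, relative to any maximal ideal M of the algebraic integers containing p, the principal block of G is the set of irreducible characters χ with χ n = χ 1 for every n ∈ O_p'(G). -/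
theorem result {G : Type*} [Group G] [Finite G] (p : ℕ) [Fact p.Prime] (M : Ideal Cfsg.AlgInt) (hM : Cfsg.IsPModular p M) (hnc : ∃ k : ℕ, (Cfsg.pPrimeCore p G).index = p ^ k) : Cfsg.principalBlock M G = {χ : Cfsg.IrrCharacter G | ∀ n ∈ Cfsg.pPrimeCore p G, (χ : G → ℂ) n = (χ : G → ℂ) 1} := by
  classical
  cases nonempty_fintype G
  have := Lib.Blocks.isPModular_isPrime hM
  let N := pPrimeCore p G
  have hNn : N.Normal := by
    have := Lib.PSolvable.pPrimeCore_characteristic (p := p) (G := G)
    exact inferInstanceAs (pPrimeCore p G).Normal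
  have : Fintype N := Fintype.ofFinite _
  have hNp : ¬ p ∣ Nat.card N := Lib.PSolvable.pPrimeCore_not_dvd
  let one : IrrCharacter N := ⟨fun _ => 1, Lib.Chars.isIrrCharacter_one⟩
  let triv : IrrCharacter G := ⟨fun _ => 1, Lib.Chars.isIrrCharacter_one⟩
  have h1 : classInner (Lib.Clifford.resFun N (triv : G → ℂ)) (one : N → ℂ) ≠ 0 := by
    simp [classInner, one, triv, Lib.Clifford.resFun, Lib.Chars.natCard_ne_zero]
  ext χ
  constructor
  · intro hχ n hn
    have h2 := constituent_of_sameBlock (χ := triv) (N := N) hM hNp hχ h1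
    exact eq_one_of_sum_ne_zero χ (fun h0 => h2 (by
      simp only [classInner, one, Lib.Clifford.resFun, map_one, mul_one]
      exact mul_eq_zero_of_right _ h0)) ⟨n, hn⟩
  · intro hχ
    have h2 : classInner (Lib.Clifford.resFun N (χ : G → ℂ)) (one : N → ℂ) ≠ 0 := by
      have e : ∀ n : N, (χ : G → ℂ) n = (χ : G → ℂ) 1 := fun n => hχ n n.2
      simp [classInner, one, Lib.Clifford.resFun, e, Lib.Chars.irr_apply_one_ne_zero χ,
        Lib.Chars.natCard_ne_zero]
    exact sameBlock_of_common_block (χ := triv) hM hnc (Lib.Blocks.sameBlock_refl _) h1 h2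

end Cfsg.Agent.S0939
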