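import Cfsg.Statements.S0943
import Cfsg.Agent.Lib.Blocks.ClassAlgebra

set_option autoImplicit false
open Cfsg

namespace Cfsg.Agent.S0943

open Cfsg.Agent.Lib Cfsg.Agent.Lib.Blocks MonoidAlgebra in
/-- Apply the central character to the product of the two class sums. -/
theorem result {G : Type*} [Group G] [Finite G] (χ : Cfsg.IrrCharacter G) (u v : G) (hc : ∀ x y : G, IsConj u x → IsConj v y → (χ : G → ℂ) (x * y) = (χ : G → ℂ) (u * v)) : (χ : G → ℂ) u * (χ : G → ℂ) v = (χ : G → ℂ) 1 * (χ : G → ℂ) (u * v) := by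
  classical
  cases nonempty_fintype G
  have hsum : ∀ g : G, classSum ℂ g =
      ∑ x ∈ Finset.univ.filter (IsConj g), single x (1 : ℂ) := by
    intro g
    ext y
    simp [coeff_classSum, coeff_sum, Finsupp.single_apply]
  have hcard : ∀ g : G, ((Finset.univ.filter (IsConj g)).card : ℂ) =
      ((Subgroup.centralizer ({g} : Set G)).index : ℂ) := by
    intro g
    rw [← natCard_isConj, Nat.card_eq_fintype_card, Fintype.card_subtype]
  have h1 := omega_mul χ (classSum_mem_center u) (classSum ℂ v)
  rw [omega_classSum (Chars.irr_isClassFunction χ),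
    omega_classSum (Chars.irr_isClassFunction χ), hsum u, hsum v, Finset.sum_mul_sum] at h1
  simp only [single_mul_single, mul_one, map_sum, omega_single, one_mul] at h1
  rw [Finset.sum_congr rfl (g := fun _ => ((Finset.univ.filter (IsConj v)).card : ℂ) *
      ((χ : G → ℂ) (u * v) / (χ : G → ℂ) 1)) (fun x hx => by
    rw [Finset.sum_congr rfl (g := fun _ => (χ : G → ℂ) (u * v) / (χ : G → ℂ) 1) (fun y hy => by
      rw [hc x y (Finset.mem_filter.1 hx).2 (Finset.mem_filter.1 hy).2]),
      Finset.sum_const, nsmul_eq_mul]), Finset.sum_const, nsmul_eq_mul, hcard, hcard] at h1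
  have hu : ((Subgroup.centralizer ({u} : Set G)).index : ℂ) ≠ 0 :=
    Nat.cast_ne_zero.2 Subgroup.FiniteIndex.index_ne_zero
  have hv : ((Subgroup.centralizer ({v} : Set G)).index : ℂ) ≠ 0 :=
    Nat.cast_ne_zero.2 Subgroup.FiniteIndex.index_ne_zero
  have h0 := Chars.irr_apply_one_ne_zero χ
  simp only [centralChar] at h1
  field_simp at h1
  linear_combination -h1

end Cfsg.Agent.S0943
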