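import Cfsg.Statements.S0950
import Cfsg.Agent.Lib.Transfer.Criteria

set_option autoImplicit false
open Cfsg
open scoped Pointwise

namespace Cfsg.Agent.S0950

theorem q8_pick : ∀ x : QuaternionGroup 2, ∃ c : QuaternionGroup 2,
    (c = QuaternionGroup.a 1 ∨ c = QuaternionGroup.xa 0 ∨ c = QuaternionGroup.xa 1) ∧
      (x ^ 2 ≠ 1 → x = c ∨ x = c ^ 3) := by decide

theorem q8_pow : ∀ x : QuaternionGroup 2, x ^ 4 = 1 := by decide

theorem q8_invol : ∀ x : QuaternionGroup 2, x ^ 2 = 1 → x = 1 ∨ x = QuaternionGroup.a 2 := by decide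

theorem q8_square : ∀ x : QuaternionGroup 2, x ^ 2 ≠ 1 →
    x ^ 2 = QuaternionGroup.a 2 ∧ x ^ 3 ^ 2 = x := by decide

variable {G : Type*} [Group G]

/-- A subgroup of order 4 of the quaternion group is one of three cyclic ones. -/
theorem q8_subgroup (A : Subgroup (QuaternionGroup 2)) (h : Nat.card A = 4) :
    ∃ c, (c = QuaternionGroup.a 1 ∨ c = QuaternionGroup.xa 0 ∨ c = QuaternionGroup.xa 1) ∧
      A = Subgroup.zpowers c := by
  obtain ⟨x, hx, hx2⟩ : ∃ x ∈ A, x ^ 2 ≠ 1 := by
    by_contra! hall
    have hle : (A : Set (QuaternionGroup 2)) ⊆ {1, QuaternionGroup.a 2} := fun x hx =>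
      q8_invol x (hall x hx)
    have := Set.ncard_le_ncard hle
    rw [← Nat.card_coe_set_eq] at this
    have h2 : ({1, QuaternionGroup.a 2} : Set (QuaternionGroup 2)).ncard ≤ 2 :=
      (Set.ncard_insert_le _ _).trans (by simp)
    change Nat.card A ≤ _ at this
    omega
  obtain ⟨c, hc, hxc⟩ := q8_pick x
  refine ⟨c, hc, ?_⟩
  have hcA : c ∈ A := by
    rcases hxc hx2 with h' | h'
    · rwa [← h']
    · have e : c = x ^ 3 := by
        rw [h', ← pow_mul]
        have := q8_pow c
        rw [show 3 * 3 = 4 * 2 + 1 from rfl, pow_succ, pow_mul, this, one_pow, one_mul]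
      rw [e]; exact pow_mem hx 3
  refine (Subgroup.eq_of_le_of_card_ge (Subgroup.zpowers_le.2 hcA) ?_).symm
  rw [h, Nat.card_zpowers]
  rcases hc with rfl | rfl | rfl
  · rw [QuaternionGroup.orderOf_a_one]
  · rw [QuaternionGroup.orderOf_xa]
  · rw [QuaternionGroup.orderOf_xa]

/-- An element of odd order normalising a cyclic group of order dividing 4 centralises it. -/
theorem commute_of_conj_mem [Finite G] {g x : G} (hx : x ^ 4 = 1) (hg : Odd (orderOf g))
    (h : g * x * g⁻¹ ∈ Subgroup.zpowers x) : g * x = x * g := by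
  rw [← mem_powers_iff_mem_zpowers] at h
  obtain ⟨n, hn⟩ := h
  replace hn : x ^ n = g * x * g⁻¹ := hn
  have h2 : g ^ 2 * x = x * g ^ 2 := by
    have he : g ^ 2 * x * (g ^ 2)⁻¹ = x ^ (n * n) := by
      rw [pow_mul, hn, conj_pow, hn, pow_two g]
      group
    have key : x ^ (n * n) = x := by
      rcases Nat.even_or_odd n with ⟨r, hr⟩ | ⟨r, hr⟩
      · have h4 : (g * x * g⁻¹) ^ 2 = 1 := by
          rw [← hn, ← pow_mul, hr, show (r + r) * 2 = 4 * r by ring, pow_mul, hx, one_pow]
        rw [conj_pow, conj_eq_one_iff] at h4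
        have hn1 : x ^ n = 1 := by rw [hr, ← two_mul, pow_mul, h4, one_pow]
        rw [hn, conj_eq_one_iff] at hn1
        rw [hn1, one_pow]
      · rw [hr, show (2 * r + 1) * (2 * r + 1) = 4 * (r * r + r) + 1 by ring, pow_succ, pow_mul,
          hx, one_pow, one_mul]
    rw [key, mul_inv_eq_iff_eq_mul] at he
    exact he
  obtain ⟨r, hr⟩ := hg
  have hg2 : g = (g ^ 2) ^ (r + 1) := by
    rw [← pow_mul, show 2 * (r + 1) = orderOf g + 1 by omega, pow_succ, pow_orderOf_eq_one,
      one_mul]
  rw [hg2]
  exact (Commute.pow_left (show Commute (g ^ 2) x from h2) (r + 1)).eq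

theorem result {G : Type*} [Group G] [Finite G] (S : Sylow 2 G) (e : (S : Subgroup G) ≃* QuaternionGroup 2) (hnc : ∀ N : Subgroup G, N.Normal → ¬ Subgroup.IsComplement' N (S : Subgroup G)) (A B : Subgroup G) (hA : A ≤ S) (hB : B ≤ S) (hA4 : Nat.card A = 4) (hB4 : Nat.card B = 4) : ∃ n ∈ Subgroup.normalizer ((S : Subgroup G) : Set G), B = A.map (MulAut.conj n).toMonoidHom := by
  classical
  let ι : QuaternionGroup 2 →* G := (S : Subgroup G).subtype.comp e.symm.toMonoidHom
  have hι : Function.Injective ι := Subtype.val_injective.comp e.symm.injective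
  have hιS : ∀ y, ι y ∈ (S : Subgroup G) := fun y => (e.symm y).2
  have hιs : ∀ x ∈ (S : Subgroup G), ∃ y, ι y = x := fun x hx => ⟨e ⟨x, hx⟩, by simp [ι]⟩
  -- the subgroups of order 4 of S
  let Ω := {C : Subgroup G // C ≤ S ∧ Nat.card C = 4}
  let cs : Fin 3 → QuaternionGroup 2 :=
    ![QuaternionGroup.a 1, QuaternionGroup.xa 0, QuaternionGroup.xa 1]
  have hΩ : ∀ C : Ω, ∃ i : Fin 3, C.1 = Subgroup.zpowers (ι (cs i)) := by
    rintro ⟨C, hC, hC4⟩
    have hrange : C ≤ ι.range := fun x hx => hιs x (hC hx)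
    have hcard : Nat.card (C.comap ι) = 4 := by
      have h' := Nat.card_congr (Subgroup.equivMapOfInjective (C.comap ι) ι hι).toEquiv
      rw [Subgroup.map_comap_eq_self hrange] at h'
      omega
    obtain ⟨c, hc, heq⟩ := q8_subgroup _ hcard
    have : C = Subgroup.zpowers (ι c) := by
      rw [← MonoidHom.map_zpowers, ← heq, Subgroup.map_comap_eq_self hrange]
    rcases hc with rfl | rfl | rfl
    · exact ⟨0, this⟩
    · exact ⟨1, this⟩
    · exact ⟨2, this⟩
  choose idx hidx using hΩ
  have hinj : Function.Injective idx := fun C D h =>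
    Subtype.ext (by rw [hidx C, hidx D, h])
  -- cyclic proper subgroups
  have hcyc : ∀ Q : Subgroup G, Q ≤ S → Q ≠ (S : Subgroup G) →
      ∃ x, x ^ 4 = 1 ∧ Q = Subgroup.zpowers x := by
    intro Q hQ hne
    have h4x : ∀ x ∈ Q, x ^ 4 = 1 := by
      intro x hx
      obtain ⟨y, rfl⟩ := hιs x (hQ hx)
      rw [← map_pow, q8_pow, map_one]
    have hS8 : Nat.card (S : Subgroup G) = 8 := by
      rw [Nat.card_congr e.toEquiv, Nat.card_eq_fintype_card, QuaternionGroup.card]
    have hdvd : Nat.card Q ∣ 2 ^ 3 := by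
      have := Subgroup.card_dvd_of_le hQ
      rwa [hS8] at this
    obtain ⟨k, hk, hk'⟩ := (Nat.dvd_prime_pow Nat.prime_two).1 hdvd
    have hk2 : k ≤ 2 := by
      by_contra hk3
      refine hne (Subgroup.eq_of_le_of_card_ge hQ ?_)
      rw [hS8, hk', show k = 3 by omega]
      norm_num
    by_cases hk1 : k ≤ 1
    · have : IsCyclic Q := by
        rcases Nat.le_one_iff_eq_zero_or_eq_one.1 hk1 with rfl | rfl
        · have : Subsingleton Q := (Nat.card_eq_one_iff_unique.1 (by simpa using hk')).1
          infer_instance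
        · exact isCyclic_of_prime_card (p := 2) (by simpa using hk')
      obtain ⟨⟨x, hx⟩, hgen⟩ := IsCyclic.exists_generator (α := Q)
      refine ⟨x, h4x x hx, le_antisymm (fun y hy => ?_) (Subgroup.zpowers_le.2 hx)⟩
      obtain ⟨i, hi⟩ := hgen ⟨y, hy⟩
      exact ⟨i, congrArg Subtype.val hi⟩
    · have hQ4 : Nat.card Q = 4 := by
        rw [hk', show k = 2 by omega]
        norm_num
      refine ⟨_, ?_, hidx ⟨Q, hQ, hQ4⟩⟩
      rw [← map_pow, q8_pow, map_one]
  -- the action of the normaliser
  have hmapS : ∀ g ∈ Subgroup.normalizer ((S : Subgroup G) : Set G), ∀ C : Ω,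
      C.1.map (MulAut.conj g).toMonoidHom ≤ S ∧
        Nat.card (C.1.map (MulAut.conj g).toMonoidHom) = 4 := by
    intro g hg C
    refine ⟨?_, ?_⟩
    · rintro _ ⟨x, hx, rfl⟩
      exact (Subgroup.mem_normalizer_iff.1 hg x).1 (C.2.1 hx)
    · rw [Subgroup.card_map_of_injective (MulAut.conj g).injective]
      exact C.2.2
  by_cases hmove : ∃ g ∈ Subgroup.normalizer ((S : Subgroup G) : Set G), Odd (orderOf g) ∧
      ∃ C : Ω, C.1.map (MulAut.conj g).toMonoidHom ≠ C.1
  · obtain ⟨g, hgN, ⟨r, hr⟩, C, hC⟩ := hmove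
    let σ : Ω → Ω := fun D => ⟨_, hmapS g hgN D⟩
    have hσ : ∀ (n : ℕ) (D : Ω),
        (σ^[n] D).1 = D.1.map (MulAut.conj (g ^ n)).toMonoidHom := by
      intro n
      induction n with
      | zero =>
        intro D
        ext x
        simp
      | succ n ih =>
        intro D
        rw [Function.iterate_succ_apply']
        show Subgroup.map (MulAut.conj g).toMonoidHom (σ^[n] D).1 = _
        rw [ih, Subgroup.map_map]
        congr 1
        ext x
        simp [pow_succ', mul_assoc]
    have hσinj : Function.Injective σ := fun D E h =>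
      Subtype.ext (Subgroup.map_injective (MulAut.conj g).injective (congrArg Subtype.val h))
    have h1 : σ C ≠ C := fun h => hC (congrArg Subtype.val h)
    have h2 : σ (σ C) ≠ C := by
      intro h
      have hfix : σ^[2 * r] C = C := by
        rw [Function.iterate_mul]
        exact Function.IsFixedPt.iterate (show Function.IsFixedPt (σ^[2]) C from h) r
      have hord : σ^[2 * r + 1] C = C := by
        apply Subtype.ext
        rw [hσ, ← hr, pow_orderOf_eq_one]
        ext x
        simp
      rw [Function.iterate_succ_apply', hfix] at hord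
      exact h1 hord
    have h3 : σ (σ C) ≠ σ C := fun h => h1 (hσinj h)
    have hall : ∀ D : Ω, ∃ n : ℕ, σ^[n] C = D := by
      intro D
      have key : idx D = idx C ∨ idx D = idx (σ C) ∨ idx D = idx (σ (σ C)) := by
        have a1 : idx (σ C) ≠ idx C := fun h => h1 (hinj h)
        have a2 : idx (σ (σ C)) ≠ idx C := fun h => h2 (hinj h)
        have a3 : idx (σ (σ C)) ≠ idx (σ C) := fun h => h3 (hinj h)
        omega
      rcases key with h | h | h
      · exact ⟨0, (hinj h).symm⟩
      · exact ⟨1, (hinj h).symm⟩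
      · exact ⟨2, (hinj h).symm⟩
    obtain ⟨a, ha⟩ := hall ⟨A, hA, hA4⟩
    obtain ⟨b, hb⟩ := hall ⟨B, hB, hB4⟩
    refine ⟨g ^ b * (g ^ a)⁻¹, mul_mem (pow_mem hgN b) (inv_mem (pow_mem hgN a)), ?_⟩
    rw [← show (σ^[a] C).1 = A from congrArg Subtype.val ha,
      ← show (σ^[b] C).1 = B from congrArg Subtype.val hb, hσ, hσ, Subgroup.map_map]
    congr 1
    ext x
    simp [mul_assoc]
  · push Not at hmove
    exfalso
    have hloc : Lib.Transfer.LocallyPTrivial 2 G := by
      intro Q hQ g hg hgo
      obtain ⟨T, hT⟩ := hQ.exists_le_sylow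
      obtain ⟨c, hc⟩ := MulAction.exists_smul_eq G T S
      let f := (MulAut.conj c).toMonoidHom
      have hQ'S : Q.map f ≤ S := by
        rw [← hc]
        rintro _ ⟨x, hx, rfl⟩
        show MulAut.conj c x ∈ (MulAut.conj c • (T : Subgroup G))
        exact Subgroup.smul_mem_pointwise_smul _ _ _ (hT hx)
      have hodd : Odd (orderOf (f g)) := by
        rw [orderOf_injective f (MulAut.conj c).injective]
        exact Nat.coprime_two_right.1 hgo
      have hfg : f g ∈ Subgroup.normalizer ((Q.map f : Subgroup G) : Set G) := by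
        rw [Subgroup.mem_normalizer_iff] at hg ⊢
        intro y
        obtain ⟨z, rfl⟩ := (MulAut.conj c).surjective y
        show f z ∈ Q.map f ↔ f g * f z * (f g)⁻¹ ∈ Q.map f
        rw [← map_inv, ← map_mul, ← map_mul,
          Subgroup.mem_map_iff_mem (MulAut.conj c).injective,
          Subgroup.mem_map_iff_mem (MulAut.conj c).injective]
        exact hg z
      have hcomm : ∀ y ∈ Q.map f, f g * y = y * f g := by
        by_cases hQS : Q.map f = (S : Subgroup G)
        · rw [hQS] at hfg ⊢
          intro y hy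
          obtain ⟨z, rfl⟩ := hιs y hy
          obtain ⟨w, hw, hzw⟩ : ∃ w, w ^ 2 ≠ 1 ∧ z ∈ Subgroup.zpowers w := by
            by_cases hz : z ^ 2 = 1
            · refine ⟨QuaternionGroup.a 1, by decide, ?_⟩
              rcases q8_invol z hz with rfl | rfl
              · exact Subgroup.one_mem _
              · refine ⟨2, ?_⟩
                decide
            · exact ⟨z, hz, Subgroup.mem_zpowers z⟩
          obtain ⟨i, rfl⟩ := hzw
          have hcw : Nat.card (Subgroup.zpowers (ι w)) = 4 := by
            rw [Nat.card_zpowers, orderOf_injective ι hι]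
            exact orderOf_eq_prime_pow (p := 2) (n := 1) (by simpa using hw) (q8_pow w)
          have hfix := hmove (f g) hfg hodd
            ⟨Subgroup.zpowers (ι w), Subgroup.zpowers_le.2 (hιS w), hcw⟩
          have hcw' : f g * ι w = ι w * f g := commute_of_conj_mem
            (by rw [← map_pow, q8_pow, map_one]) hodd (by
              have hm : f g * ι w * (f g)⁻¹ ∈
                  (Subgroup.zpowers (ι w)).map (MulAut.conj (f g)).toMonoidHom :=
                ⟨ι w, Subgroup.mem_zpowers _, rfl⟩
              rwa [show (Subgroup.zpowers (ι w)).map (MulAut.conj (f g)).toMonoidHom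
                = Subgroup.zpowers (ι w) from hfix] at hm)
          rw [map_zpow]
          exact (Commute.zpow_right (show Commute (f g) (ι w) from hcw') i).eq
        · obtain ⟨x, hx4, hxQ⟩ := hcyc _ hQ'S hQS
          rw [hxQ] at hfg ⊢
          have := commute_of_conj_mem hx4 hodd
            ((Subgroup.mem_normalizer_iff.1 hfg x).1 (Subgroup.mem_zpowers x))
          rintro y ⟨i, rfl⟩
          exact (Commute.zpow_right (show Commute (f g) x from this) i).eq
      rw [Subgroup.mem_centralizer_iff]
      intro q hq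
      apply (MulAut.conj c).injective
      show f (q * g) = f (g * q)
      rw [map_mul, map_mul]
      exact (hcomm _ ⟨q, hq, rfl⟩).symm
    have hcomp := Lib.Transfer.hasNormalPComplement_iff_locallyPTrivial.2 hloc
    exact hnc _ Lib.Transfer.pResidual_normal
      (Lib.Transfer.isComplement'_pResidual S (Lib.Transfer.hasNormalPComplement_iff.1 hcomp))

end Cfsg.Agent.S0950
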