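import Cfsg.Statements.S0951
import Cfsg.Agent.Lib.Blocks.KleinPrincipal
import Cfsg.Agent.Lib.Blocks.SecondMain
import Cfsg.Agent.Lib.Blocks.DefectClass
import Cfsg.Agent.S0941
import Cfsg.Agent.S0948
import Cfsg.Agent.S0950
import Cfsg.Agent.S0201
import Cfsg.Agent.Lib.Chars.Completeness

set_option autoImplicit false
open Cfsg

namespace Cfsg.Agent.S0951

open scoped ComplexConjugate
open Cfsg.Agent.Lib

theorem quat_exp : ∀ a : QuaternionGroup 2, a ^ 4 = 1 := by decide

theorem quat_inv : ∀ a b : QuaternionGroup 2, a ^ 2 = 1 → a ≠ 1 → b ^ 2 = 1 → b ≠ 1 → a = b := by decide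

theorem quat_comm : ∀ a b : QuaternionGroup 2, a ^ 2 ≠ 1 → a * b = b * a →
    b = 1 ∨ b = a ∨ b = a ^ 2 ∨ b = a ^ 3 := by decide

theorem quat_conj : ∀ a : QuaternionGroup 2, a ^ 2 ≠ 1 → ∃ s : QuaternionGroup 2, s * a * s⁻¹ = a ^ 3 := by
  decide

theorem quat_ne : ∃ a : QuaternionGroup 2, a ^ 2 ≠ 1 := ⟨.a 1, by decide⟩

theorem orderOf_eq_four {G : Type*} [Group G] {g : G} (h4 : g ^ 4 = 1) (h2 : g ^ 2 ≠ 1) :
    orderOf g = 4 := by
  have := orderOf_eq_prime_pow (p := 2) (n := 1) (by simpa using h2) (by simpa using h4)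
  simpa using this

variable {G : Type*} [Group G] [Finite G] (S : Sylow 2 G)

theorem exists_conj_mem {u : G} (hu : ∃ k : ℕ, orderOf u = 2 ^ k) :
    ∃ a : G, a * u * a⁻¹ ∈ (S : Subgroup G) := by
  obtain ⟨k, hk⟩ := hu
  obtain ⟨T, hT⟩ := (IsPGroup.of_card (p := 2) (n := k) (G := Subgroup.zpowers u)
    (by rw [Nat.card_zpowers, hk])).exists_le_sylow
  obtain ⟨a, rfl⟩ := MulAction.exists_smul_eq G T S
  refine ⟨a, ?_⟩
  rw [Sylow.coe_subgroup_smul, Subgroup.mem_pointwise_smul_iff_inv_smul_mem]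
  simpa [MulAut.smul_def, mul_assoc] using hT (Subgroup.mem_zpowers u)

theorem pow_four_eq_one (e : (S : Subgroup G) ≃* QuaternionGroup 2) {u : G}
    (hu : ∃ k : ℕ, orderOf u = 2 ^ k) : u ^ 4 = 1 := by
  obtain ⟨a, ha⟩ := exists_conj_mem S hu
  have h1 : (⟨_, ha⟩ : (S : Subgroup G)) ^ 4 = 1 := e.injective (by rw [map_pow, map_one, quat_exp])
  have h2 := congrArg Subtype.val h1
  rw [Subgroup.coe_pow, Subgroup.coe_one] at h2
  change (a * u * a⁻¹) ^ 4 = 1 at h2
  rwa [conj_pow, conj_eq_one_iff] at h2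

theorem involution_unique (e : (S : Subgroup G) ≃* QuaternionGroup 2) {c g : G}
    (hc : c ∈ Subgroup.center G) (hco : orderOf c = 2) (hg : orderOf g = 2) : g = c := by
  have hcS : c ∈ (S : Subgroup G) := by
    obtain ⟨a, ha⟩ := exists_conj_mem S (u := c) ⟨1, by simpa using hco⟩
    rwa [Subgroup.mem_center_iff.1 hc a, mul_inv_cancel_right] at ha
  obtain ⟨a, ha⟩ := exists_conj_mem S (u := g) ⟨1, by simpa using hg⟩
  have key : ∀ (w : G) (hw : w ∈ (S : Subgroup G)), orderOf w = 2 →
      e ⟨w, hw⟩ ^ 2 = 1 ∧ e ⟨w, hw⟩ ≠ 1 := by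
    intro w hw ho
    constructor
    · rw [← map_pow, ← map_one e]
      exact congrArg e (Subtype.ext (show w ^ 2 = 1 by rw [← ho, pow_orderOf_eq_one]))
    · intro h
      have : w = 1 := congrArg Subtype.val (e.map_eq_one_iff.1 h)
      rw [this, orderOf_one] at ho
      omega
  obtain ⟨a1, a2⟩ := key _ ha (by rw [show orderOf (a * g * a⁻¹) = orderOf g from
    orderOf_injective (MulAut.conj a).toMonoidHom (MulAut.conj a).injective g]; exact hg)
  obtain ⟨b1, b2⟩ := key _ hcS hco
  have h := congrArg Subtype.val (e.injective (quat_inv _ _ a1 a2 b1 b2))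
  simp only at h
  calc g = a⁻¹ * (a * g * a⁻¹) * a := by group
    _ = a⁻¹ * (c * a) := by rw [h, mul_assoc]
    _ = a⁻¹ * (a * c) := by rw [Subgroup.mem_center_iff.1 hc a]
    _ = c := inv_mul_cancel_left a c

theorem map_sq_ne_one (e : (S : Subgroup G) ≃* QuaternionGroup 2) {w : G} (hw : w ∈ (S : Subgroup G))
    (ho : orderOf w = 4) : e ⟨w, hw⟩ ^ 2 ≠ 1 := by
  rw [← map_pow, Ne, e.map_eq_one_iff]
  intro h
  have h' : w ^ 2 = 1 := congrArg Subtype.val h
  have := orderOf_dvd_of_pow_eq_one h'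
  rw [ho] at this
  norm_num at this

theorem isConj_of_orderOf_four (e : (S : Subgroup G) ≃* QuaternionGroup 2)
    (hnc : ∀ N : Subgroup G, N.Normal → ¬ Subgroup.IsComplement' N (S : Subgroup G))
    {x x' : G} (hx : orderOf x = 4) (hx' : orderOf x' = 4) : IsConj x x' := by
  suffices hS : ∀ x x' : G, x ∈ (S : Subgroup G) → x' ∈ (S : Subgroup G) → orderOf x = 4 →
      orderOf x' = 4 → IsConj x x' by
    obtain ⟨a, ha⟩ := exists_conj_mem S (u := x) ⟨2, by rw [hx]; norm_num⟩
    obtain ⟨a', ha'⟩ := exists_conj_mem S (u := x') ⟨2, by rw [hx']; norm_num⟩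
    have ho : ∀ a u : G, orderOf (a * u * a⁻¹) = orderOf u := fun a u =>
      orderOf_injective (MulAut.conj a).toMonoidHom (MulAut.conj a).injective u
    exact (isConj_iff.2 ⟨a, rfl⟩).trans ((hS _ _ ha ha' (by rw [ho]; exact hx) (by rw [ho]; exact hx')).trans
      (isConj_iff.2 ⟨a', rfl⟩).symm)
  intro x x' hxS hx'S hx hx'
  obtain ⟨n, hn, hB⟩ := Cfsg.Agent.S0950.result S e hnc (Subgroup.zpowers x) (Subgroup.zpowers x')
    (Subgroup.zpowers_le.2 hxS) (Subgroup.zpowers_le.2 hx'S)
    (by rw [Nat.card_zpowers, hx]) (by rw [Nat.card_zpowers, hx'])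
  have hy : n * x * n⁻¹ ∈ (S : Subgroup G) := (Subgroup.mem_normalizer_iff.1 hn x).1 hxS
  have hyo : orderOf (n * x * n⁻¹) = 4 := by
    rw [← hx]; exact orderOf_injective (MulAut.conj n).toMonoidHom (MulAut.conj n).injective x
  have hx'mem : x' ∈ Subgroup.zpowers (n * x * n⁻¹) := by
    have h : x' ∈ (Subgroup.zpowers x).map (MulAut.conj n).toMonoidHom := hB ▸ Subgroup.mem_zpowers x'
    rwa [MonoidHom.map_zpowers] at h
  obtain ⟨i, hi⟩ := hx'mem
  have hcomm : (⟨_, hy⟩ : (S : Subgroup G)) * ⟨x', hx'S⟩ = ⟨x', hx'S⟩ * ⟨_, hy⟩ :=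
    Subtype.ext (by
      show n * x * n⁻¹ * x' = x' * (n * x * n⁻¹)
      rw [← hi]; exact (Commute.self_zpow _ i).eq)
  have h1 := map_sq_ne_one S e hy hyo
  have h2 := map_sq_ne_one S e hx'S hx'
  refine (isConj_iff.2 ⟨n, rfl⟩ : IsConj x (n * x * n⁻¹)).trans ?_
  rcases quat_comm _ (e ⟨x', hx'S⟩) h1 (by rw [← map_mul, ← map_mul, hcomm]) with h | h | h | h
  · exact absurd (by rw [h, one_pow]) h2
  · exact isConj_iff.2 ⟨1, by simpa using (congrArg Subtype.val (e.injective h) : x' = n * x * n⁻¹).symm⟩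
  · refine absurd ?_ h2
    rw [h, ← pow_mul]; exact quat_exp _
  · obtain ⟨s, hs⟩ := quat_conj _ h1
    refine isConj_iff.2 ⟨((e.symm s : (S : Subgroup G)) : G), ?_⟩
    have : e.symm s * ⟨_, hy⟩ * (e.symm s)⁻¹ = ⟨x', hx'S⟩ := e.injective (by
      rw [map_mul, map_mul, map_inv, e.apply_symm_apply, hs, h])
    exact congrArg Subtype.val this

/-- The centralizer of an element of order four has a normal 2-complement of index four. -/
theorem centralizer_complement (e : (S : Subgroup G) ≃* QuaternionGroup 2) {x : G} (hx : orderOf x = 4) :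
    (Nat.card (Subgroup.centralizer ({x} : Set G))).factorization 2 = 2 ∧
      (pPrimeCore 2 (Subgroup.centralizer ({x} : Set G))).index = 4 := by
  classical
  set H := Subgroup.centralizer ({x} : Set G) with hH
  let x₀ : H := ⟨x, Subgroup.mem_centralizer_singleton_iff.2 rfl⟩
  have hx₀ : orderOf x₀ = 4 := by rw [← hx]; exact (Subgroup.orderOf_mk x _)
  have hcen : x₀ ∈ Subgroup.center H := Subgroup.mem_center_iff.2 fun w =>
    Subtype.ext (Subgroup.mem_centralizer_singleton_iff.1 w.2)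
  haveI : (Subgroup.zpowers x₀).Normal := ⟨fun n hn g => by
    have := (Subgroup.zpowers_le.2 hcen) hn
    rwa [Subgroup.mem_center_iff.1 this g, mul_inv_cancel_right]⟩
  have hzp : IsPGroup 2 (Subgroup.zpowers x₀) :=
    IsPGroup.of_card (n := 2) (by rw [Nat.card_zpowers, hx₀]; norm_num)
  let Q : Sylow 2 H := default
  have hxQ : Subgroup.zpowers x₀ ≤ (Q : Subgroup H) := by
    rw [← Q.3 (hzp.to_sup_of_normal_left Q.isPGroup') le_sup_right]
    exact le_sup_left
  have hQ : (Q : Subgroup H) ≤ Subgroup.zpowers x₀ := by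
    intro u hu
    obtain ⟨T, hT⟩ := (Q.isPGroup'.map H.subtype).exists_le_sylow
    have hxT : x ∈ (T : Subgroup G) := hT ⟨x₀, hxQ (Subgroup.mem_zpowers x₀), rfl⟩
    have huT : (u : G) ∈ (T : Subgroup G) := hT ⟨u, hu, rfl⟩
    let φ : (T : Subgroup G) ≃* QuaternionGroup 2 := (T.equiv S).trans e
    have hne : φ ⟨x, hxT⟩ ^ 2 ≠ 1 := by
      rw [← map_pow, Ne, φ.map_eq_one_iff]
      intro h
      have h' : x ^ 2 = 1 := congrArg Subtype.val h
      have := orderOf_dvd_of_pow_eq_one h'
      rw [hx] at this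
      norm_num at this
    have hcomm : φ ⟨x, hxT⟩ * φ ⟨u, huT⟩ = φ ⟨u, huT⟩ * φ ⟨x, hxT⟩ := by
      rw [← map_mul, ← map_mul]
      exact congrArg φ (Subtype.ext (Subgroup.mem_centralizer_singleton_iff.1 u.2).symm)
    have hpow : ∀ i : ℕ, φ ⟨u, huT⟩ = φ ⟨x, hxT⟩ ^ i → u ∈ Subgroup.zpowers x₀ := by
      intro i h
      rw [← map_pow] at h
      have e1 : (u : G) = x ^ i := congrArg Subtype.val (φ.injective h)
      rw [show u = x₀ ^ i from Subtype.ext (by rw [e1, Subgroup.coe_pow])]
      exact Subgroup.npow_mem_zpowers x₀ i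
    rcases quat_comm _ _ hne hcomm with h | h | h | h
    · exact hpow 0 (by rw [h, pow_zero])
    · exact hpow 1 (by rw [h, pow_one])
    · exact hpow 2 h
    · exact hpow 3 h
  have hQeq : (Q : Subgroup H) = Subgroup.zpowers x₀ := le_antisymm hQ hxQ
  have hv : (Nat.card H).factorization 2 = 2 := by
    have h := Q.card_eq_multiplicity
    rw [hQeq, Nat.card_zpowers, hx₀] at h
    exact (Nat.pow_right_injective le_rfl (a₁ := 2) (a₂ := (Nat.card H).factorization 2) h).symm
  refine ⟨hv, ?_⟩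
  have hN : Subgroup.normalizer ((Q : Subgroup H) : Set H) ≤ Subgroup.centralizer ((Q : Subgroup H) : Set H) :=
    fun w _ => Subgroup.mem_centralizer_iff.2 fun q hq =>
      (Subgroup.mem_center_iff.1 ((Subgroup.zpowers_le.2 hcen) (hQ hq)) w).symm
  have hker := MonoidHom.ker_transferSylow_isComplement' Q hN
  have hle : (MonoidHom.transferSylow Q hN).ker ≤ pPrimeCore 2 H :=
    PSolvable.le_pPrimeCore (Nat.prime_two.coprime_iff_not_dvd.2
      (MonoidHom.not_dvd_card_ker_transferSylow Q hN)).symm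
  have hd : (pPrimeCore 2 H).index ∣ 4 := by
    refine (Subgroup.index_dvd_of_le hle).trans ?_
    rw [hker.symm.index_eq_card, hQeq, Nat.card_zpowers, hx₀]
  have h1 := congrArg (fun m => m.factorization 2) (Subgroup.index_mul_card (pPrimeCore 2 H))
  have hnd : ¬ 2 ∣ Nat.card (pPrimeCore 2 H) := PSolvable.pPrimeCore_not_dvd
  simp only [Nat.factorization_mul Subgroup.index_ne_zero_of_finite Nat.card_pos.ne', Finsupp.add_apply,
    Nat.factorization_eq_zero_of_not_dvd hnd, add_zero, hv] at h1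
  obtain ⟨i, hi, hi'⟩ := (Nat.dvd_prime_pow Nat.prime_two (m := 2)).1 (show _ ∣ 2 ^ 2 from hd)
  rw [hi', Nat.prime_two.factorization_pow, Finsupp.single_eq_same] at h1
  rw [hi', h1]
  norm_num


/-- Let S be a Sylow 2-subgroup of the finite group G isomorphic to the quaternion group of order 8. Suppose G has no nontrivial normal subgroup of odd order and G ≠ S. Then, relative to any maximal ideal M of the algebraic integers containing 2, the principal block of G consists of exactly 7 irreducible characters. -/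
theorem result {G : Type*} [Group G] [Finite G] (M : Ideal Cfsg.AlgInt) (hM : Cfsg.IsPModular 2 M) (S : Sylow 2 G) (e : (S : Subgroup G) ≃* QuaternionGroup 2) (hO : ∀ N : Subgroup G, N.Normal → Odd (Nat.card N) → N = ⊥) (hG : (S : Subgroup G) ≠ ⊤) : Nat.card (Cfsg.principalBlock M G) = 7 := by
  classical
  cases nonempty_fintype G
  have := Lib.Blocks.isPModular_isPrime hM
  have hcen : Nat.card (Subgroup.center G) = 2 := Cfsg.Agent.S0201.result S 0 e hO
  have hnc : ∀ N : Subgroup G, N.Normal → ¬ Subgroup.IsComplement' N (S : Subgroup G) := by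
    intro N hN hc
    have h1 : N.index = Nat.card S := hc.symm.index_eq_card
    have hodd : Odd (Nat.card N) := by
      have h2 := congrArg (fun m => m.factorization 2) N.card_mul_index
      have hS' : Nat.card (S : Subgroup G) = 2 ^ (Nat.card G).factorization 2 := S.card_eq_multiplicity
      simp only [Nat.factorization_mul Nat.card_pos.ne' Subgroup.index_ne_zero_of_finite,
        Finsupp.add_apply] at h2
      have h3 : N.index.factorization 2 = (Nat.card G).factorization 2 := by
        rw [h1, hS', Nat.prime_two.factorization_pow, Finsupp.single_eq_same]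
      rw [Nat.odd_iff, ← Nat.two_dvd_ne_zero]
      intro hd
      have := Nat.prime_two.factorization_pos_of_dvd Nat.card_pos.ne' hd
      omega
    have hbot := hO N hN hodd
    subst hbot
    exact hG (Subgroup.isComplement'_bot_left.1 hc)
  obtain ⟨c, hc, hc1⟩ : ∃ c ∈ Subgroup.center G, c ≠ 1 := by
    have : Nontrivial (Subgroup.center G) := Finite.one_lt_card_iff_nontrivial.1 (by omega)
    obtain ⟨⟨c, hc⟩, hne⟩ := exists_ne (1 : Subgroup.center G)
    exact ⟨c, hc, fun h => hne (Subtype.ext h)⟩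
  have hco : orderOf c = 2 := by
    have h := Subgroup.orderOf_dvd_natCard (Subgroup.center G) hc
    rw [hcen] at h
    exact ((Nat.dvd_prime Nat.prime_two).1 h).resolve_left (fun h' => hc1 (orderOf_eq_one_iff.1 h'))
  have hc2 : c * c = 1 := by rw [← pow_two, ← hco, pow_orderOf_eq_one]
  have hcg : ∀ g : G, c * g = g * c := fun g => (Subgroup.mem_center_iff.1 hc g).symm
  have hinv : ∀ g : G, orderOf g = 2 → g = c := fun g hg => involution_unique S e hc hco hg
  set Z := Subgroup.center G with hZ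
  have hZmem : ∀ g : G, g ∈ Z ↔ g = 1 ∨ g = c := by
    intro g
    refine ⟨fun hg => ?_, fun h => h.elim (fun h => h ▸ Z.one_mem) (fun h => h ▸ hc)⟩
    have h := Subgroup.orderOf_dvd_natCard (Subgroup.center G) hg
    rw [hcen] at h
    rcases (Nat.dvd_prime Nat.prime_two).1 h with h' | h'
    · exact Or.inl (orderOf_eq_one_iff.1 h')
    · exact Or.inr (hinv g h')
  have hp2 : ∀ u : G, (∃ k : ℕ, orderOf u = 2 ^ k) → u = 1 ∨ u = c ∨ orderOf u = 4 := by
    intro u hu
    have h4 := pow_four_eq_one S e hu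
    by_cases h2 : u ^ 2 = 1
    · rcases (Nat.dvd_prime Nat.prime_two).1 (orderOf_dvd_of_pow_eq_one h2) with h' | h'
      · exact Or.inl (orderOf_eq_one_iff.1 h')
      · exact Or.inr (Or.inl (hinv u h'))
    · exact Or.inr (Or.inr (orderOf_eq_four h4 h2))
  have hp4 : ∀ {u : G}, orderOf u = 4 → ∃ k : ℕ, orderOf u = 2 ^ k := fun h => ⟨2, by rw [h]; norm_num⟩
  -- the quotient by the centre
  have hsurj := QuotientGroup.mk'_surjective Z
  let P : Sylow 2 (G ⧸ Z) := S.mapSurjective hsurj
  have hlift : ∀ t : G ⧸ Z, orderOf t = 2 → ∃ g : G, orderOf g = 4 ∧ (g : G ⧸ Z) = t := by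
    intro t ht
    obtain ⟨g, rfl⟩ := QuotientGroup.mk_surjective t
    obtain ⟨x, hx⟩ := Lib.Blocks.exists_isPPart (p := 2) g
    obtain ⟨y, hxy, hcm, hxo, hyo⟩ := hx
    have h2 : (g ^ 2 : G) ∈ Z := by
      rw [← QuotientGroup.eq_one_iff, QuotientGroup.mk_pow, ← ht, pow_orderOf_eq_one]
    have h4 : g ^ 4 = 1 := by
      rcases (hZmem _).1 h2 with h | h
      · rw [show (4 : ℕ) = 2 * 2 from rfl, pow_mul, h, one_pow]
      · rw [show (4 : ℕ) = 2 * 2 from rfl, pow_mul, h, pow_two, hc2]
    refine ⟨g, orderOf_eq_four h4 (fun h => ?_), rfl⟩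
    rcases (Nat.dvd_prime Nat.prime_two).1 (orderOf_dvd_of_pow_eq_one h) with h' | h'
    · rw [orderOf_eq_one_iff.1 h', QuotientGroup.mk_one, orderOf_one] at ht
      omega
    · rw [(QuotientGroup.eq_one_iff g).2 ((hZmem g).2 (Or.inr (hinv g h'))), orderOf_one] at ht
      omega
  have hone : ∀ s t : G ⧸ Z, orderOf s = 2 → orderOf t = 2 → IsConj s t := by
    intro s t hs ht
    obtain ⟨g, hg, rfl⟩ := hlift s hs
    obtain ⟨g', hg', rfl⟩ := hlift t ht
    exact (QuotientGroup.mk' Z).map_isConj (isConj_of_orderOf_four S e hnc hg hg')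
  have hPsq : ∀ q ∈ (P : Subgroup (G ⧸ Z)), q * q = 1 := by
    intro q hq
    rw [Sylow.coe_mapSurjective] at hq
    obtain ⟨g, hg, rfl⟩ := hq
    rw [← map_mul]
    refine (QuotientGroup.eq_one_iff _).2 ((hZmem _).2 ?_)
    have hgg : (g * g) * (g * g) = 1 := by
      have := pow_four_eq_one S e (u := g) (by
        obtain ⟨k, hk⟩ := IsPGroup.iff_orderOf.1 S.isPGroup' ⟨g, hg⟩
        exact ⟨k, by rw [← hk, Subgroup.orderOf_mk]⟩)
      rw [← this]; simp [pow_succ, mul_assoc]
    by_cases h1 : g * g = 1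
    · exact Or.inl h1
    · exact Or.inr (hinv _ (orderOf_eq_prime (by rw [pow_two]; exact hgg) h1))
  have hSc : Nat.card (S : Subgroup G) = 8 := by
    rw [Nat.card_congr e.toEquiv, Nat.card_eq_fintype_card, QuaternionGroup.card]
  have hPcard : Nat.card (P : Subgroup (G ⧸ Z)) = 4 := by
    have h1 := S.card_eq_multiplicity
    have h2 := congrArg (fun m => m.factorization 2) Z.card_mul_index
    have hcen' : Nat.card Z = 2 := hcen
    simp only [Nat.factorization_mul Nat.card_pos.ne' Subgroup.index_ne_zero_of_finite,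
      Finsupp.add_apply] at h2
    rw [hcen', Nat.prime_two.factorization_self] at h2
    rw [hSc, show (8 : ℕ) = 2 ^ 3 from rfl] at h1
    have h3 : (3 : ℕ) = (Nat.card G).factorization 2 :=
      Nat.pow_right_injective le_rfl h1
    rw [P.card_eq_multiplicity, ← Subgroup.index_eq_card,
      show (Z.index).factorization 2 = 2 by omega]
    rfl
  have hK : IsKleinFour (P : Subgroup (G ⧸ Z)) := by
    refine ⟨hPcard, ?_⟩
    have : Nontrivial (P : Subgroup (G ⧸ Z)) := Finite.one_lt_card_iff_nontrivial.1 (by omega)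
    exact Monoid.exponent_eq_prime_iff Nat.prime_two |>.2 fun q hq => orderOf_eq_prime (by
      rw [pow_two]; exact Subtype.ext (hPsq q q.2)) hq
  obtain ⟨a, b, d, ε, hε, ha, hb, hab, had, hbd, hblock, hval, -⟩ :=
    Cfsg.Agent.S0948.result M hM P hK hone
  obtain ⟨s₀, hs₀⟩ := quat_ne
  set x : G := ((e.symm s₀ : (S : Subgroup G)) : G) with hxdef
  have hx4 : orderOf x = 4 := by
    rw [hxdef, Subgroup.orderOf_coe, ← orderOf_injective e.toMonoidHom e.injective]
    show orderOf (e (e.symm s₀)) = 4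
    rw [e.apply_symm_apply]
    exact orderOf_eq_four (quat_exp _) hs₀
  have ht : orderOf (x : G ⧸ Z) = 2 := by
    refine orderOf_eq_prime ?_ ?_
    · have hx2 : x ^ 2 = c := hinv _ (by
        rw [orderOf_pow' x two_ne_zero, hx4]; norm_num)
      rw [← QuotientGroup.mk_pow, hx2]
      exact (QuotientGroup.eq_one_iff c).2 hc
    · intro h
      rcases (hZmem x).1 ((QuotientGroup.eq_one_iff x).1 h) with h' | h'
      · rw [h', orderOf_one] at hx4; omega
      · rw [h', hco] at hx4; omega
  let one' : IrrCharacter (G ⧸ Z) := ⟨fun _ => 1, Lib.Chars.isIrrCharacter_one⟩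
  let U : Finset (IrrCharacter G) := Finset.univ.filter
    (fun χ => χ ∈ principalBlock M G ∧ (χ : G → ℂ) c = (χ : G → ℂ) 1)
  have hdne : one' ≠ d := fun h => by
    have := (hval _ ht).2.2
    rw [← h] at this
    norm_num [one'] at this
  have hZp : IsPGroup 2 Z := IsPGroup.of_card (n := 1) (by rw [hcen, pow_one])
  have hZC : ∃ k : ℕ, (Subgroup.centralizer (Z : Set G)).index = 2 ^ k := ⟨0, by
    rw [pow_zero, Subgroup.index_eq_one, eq_top_iff]
    exact fun g _ => Subgroup.mem_centralizer_iff.2 fun z hz => (Subgroup.mem_center_iff.1 hz g).symm⟩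
  have h941 := (Cfsg.Agent.S0941.result 2 M hM Z hZp hZC).1
  have hblock' : ∀ η : IrrCharacter (G ⧸ Z),
      Lib.Chars.inflate Z η ∈ principalBlock M G ↔ η ∈ principalBlock M (G ⧸ Z) :=
    fun η => ((h941 one' η)).symm
  have hUimg : U = ({one', a, b, d} : Finset (IrrCharacter (G ⧸ Z))).image (Lib.Chars.inflate Z) := by
    ext χ
    simp only [U, Finset.mem_filter, Finset.mem_univ, true_and, Finset.mem_image, Finset.mem_insert,
      Finset.mem_singleton]
    constructor
    · rintro ⟨hB, hcv⟩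
      obtain ⟨η, hη⟩ := Lib.Chars.exists_irr_quotient Z χ fun z hz => by
        rcases (hZmem z).1 hz with rfl | rfl
        · rfl
        · exact hcv
      have hη' : Lib.Chars.inflate Z η = χ := Subtype.ext (funext hη)
      refine ⟨η, ?_, hη'⟩
      have := (hblock' η).1 (hη' ▸ hB)
      rw [hblock] at this
      rcases this with h | h
      · exact Or.inl (Subtype.ext h)
      · exact Or.inr h
    · rintro ⟨η, hη, rfl⟩
      refine ⟨(hblock' η).2 ?_, ?_⟩
      · rw [hblock]
        rcases hη with h | h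
        · exact Or.inl (congrArg Subtype.val h)
        · exact Or.inr h
      · show (η : G ⧸ Z → ℂ) (c : G ⧸ Z) = (η : G ⧸ Z → ℂ) ((1 : G) : G ⧸ Z)
        rw [(QuotientGroup.eq_one_iff c).2 hc, QuotientGroup.mk_one]
  have hUcard : U.card = 4 := by
    have ha' : one' ≠ a := fun h => ha (congrArg Subtype.val h).symm
    have hb' : one' ≠ b := fun h => hb (congrArg Subtype.val h).symm
    rw [hUimg, Finset.card_image_of_injective _ (Lib.Chars.inflate_injective Z),
      Finset.card_insert_of_notMem (by simp [ha', hb', hdne]),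
      Finset.card_insert_of_notMem (by simp [hab, had]),
      Finset.card_insert_of_notMem (by simp [hbd]), Finset.card_singleton]
  -- signs at the centre
  have hsign : ∀ χ : IrrCharacter G, ∃ s : ℂ, (s = 1 ∨ s = -1) ∧
      ∀ g : G, (χ : G → ℂ) (c * g) = s * (χ : G → ℂ) g := by
    intro χ
    obtain ⟨n, ρ, hρ, hχ⟩ := Lib.Chars.irr_exists_rep χ
    obtain ⟨s, hs⟩ := Lib.Chars.exists_scalar_of_commute ρ (ρ c) fun h => by
      rw [← Module.End.mul_eq_comp, ← Module.End.mul_eq_comp, ← map_mul, ← map_mul, hcg h]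
    have hg : ∀ g : G, (χ : G → ℂ) (c * g) = s * (χ : G → ℂ) g := fun g => by
      rw [← hχ]
      show LinearMap.trace ℂ _ (ρ (c * g)) = _
      rw [map_mul, hs, smul_mul_assoc, one_mul, map_smul, smul_eq_mul]
      rfl
    refine ⟨s, ?_, hg⟩
    have h1 := hg c
    have h0 := hg 1
    rw [hc2] at h1
    rw [mul_one] at h0
    rw [h0] at h1
    exact mul_self_eq_one_iff.1 (mul_right_cancel₀ (Lib.Chars.irr_apply_one_ne_zero χ) (by
      rw [one_mul, mul_assoc]; exact h1.symm))
  let R : Finset G := Finset.univ.filter (fun g => ¬ 2 ∣ orderOf g)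
  let X : Finset G := Finset.univ.filter (fun g => orderOf (g ^ Lib.Blocks.pPartExp G 2) = 4)
  have hsplit : ∀ f : G → ℂ, (∀ g, f (c * g) = f g) →
      ∑ g : G, f g = 2 * ∑ g ∈ R, f g + ∑ g ∈ X, f g := by
    intro f hf
    have hRpart : ∀ g : G, g ∈ R ↔ g ^ Lib.Blocks.pPartExp G 2 = 1 := by
      intro g
      refine ⟨fun h => (Lib.Blocks.isPPart_iff.1
        (Lib.Blocks.isPPart_one_of_pRegular (Finset.mem_filter.1 h).2)).symm, fun h => ?_⟩
      obtain ⟨x', hx'⟩ := Lib.Blocks.exists_isPPart (p := 2) g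
      obtain ⟨y, hxy, -, -, hy⟩ := id hx'
      have h1 := (Lib.Blocks.isPPart_iff.1 hx').trans h
      rw [h1, one_mul] at hxy
      exact Finset.mem_filter.2 ⟨Finset.mem_univ _, hxy ▸ hy⟩
    have hcpart : ∀ g : G, (c * g) ^ Lib.Blocks.pPartExp G 2 = c * g ^ Lib.Blocks.pPartExp G 2 := by
      intro g
      rw [(show Commute c g from hcg g).mul_pow, Lib.Blocks.pow_pPartExp_of_pElement ⟨1, by simpa using hco⟩]
    let R' : Finset G := Finset.univ.filter (fun g => g ^ Lib.Blocks.pPartExp G 2 = c)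
    have hR' : ∑ g ∈ R', f g = ∑ g ∈ R, f g := by
      refine Finset.sum_nbij' (fun g => c * g) (fun g => c * g) ?_ ?_ ?_ ?_ ?_
      · intro g hg
        simp only [R', Finset.mem_filter, Finset.mem_univ, true_and] at hg
        rw [hRpart, hcpart, hg, hc2]
      · intro g hg
        rw [hRpart] at hg
        simp [R', hcpart, hg]
      · intro g _; simp [← mul_assoc, hc2]
      · intro g _; simp [← mul_assoc, hc2]
      · intro g _; exact (hf g).symm
    rw [two_mul]
    nth_rewrite 2 [← hR']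
    rw [← Finset.sum_union, ← Finset.sum_union]
    · refine Finset.sum_congr (Finset.ext fun g => ?_) fun _ _ => rfl
      simp only [Finset.mem_univ, Finset.mem_union, hRpart, R', X, Finset.mem_filter, true_and, true_iff]
      obtain ⟨x', hx'⟩ := Lib.Blocks.exists_isPPart (p := 2) g
      obtain ⟨y, hxy, hcm, hxo, hy⟩ := id hx'
      rw [← Lib.Blocks.isPPart_iff.1 hx']
      rcases hp2 x' hxo with h | h | h
      · exact Or.inl (Or.inl h)
      · exact Or.inl (Or.inr h)
      · exact Or.inr h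
    · rw [Finset.disjoint_left]
      intro g hg hg'
      simp only [Finset.mem_union, hRpart, R', Finset.mem_filter, Finset.mem_univ, true_and] at hg
      simp only [X, Finset.mem_filter, Finset.mem_univ, true_and] at hg'
      rcases hg with h | h <;> rw [h] at hg'
      · rw [orderOf_one] at hg'; omega
      · rw [hco] at hg'; omega
    · rw [Finset.disjoint_left]
      intro g hg hg'
      simp only [R', Finset.mem_filter, Finset.mem_univ, true_and] at hg'
      rw [hRpart, hg'] at hg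
      exact hc1 hg
  -- the section of an element of order four
  have hcore : ∀ x' : G, orderOf x' = 4 → ∀ y : Subgroup.centralizer ({x'} : Set G),
      ¬ 2 ∣ orderOf y → y ∈ pPrimeCore 2 (Subgroup.centralizer ({x'} : Set G)) := by
    intro x' hx' y hy
    have := Lib.PSolvable.pPrimeCore_characteristic (p := 2) (G := Subgroup.centralizer ({x'} : Set G))
    haveI : (pPrimeCore 2 (Subgroup.centralizer ({x'} : Set G))).Normal := inferInstance
    exact Lib.Blocks.Covering.mem_of_pRegular_of_index _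
      ⟨2, by rw [(centralizer_complement S e hx').2]; norm_num⟩ hy
  have h2nd : ∀ {x' : G}, orderOf x' = 4 → Lib.Blocks.PrincipalSection.SecondMain 2 M x' :=
    fun hx' B hB χ hχ b hb hnot y hy =>
      Lib.Blocks.secondMain_blockPart hM (hp4 hx') hB hχ rfl hb hnot hy
  have hXval : ∀ χ ∈ principalBlock M G, ∀ g ∈ X, (χ : G → ℂ) g = (χ : G → ℂ) x := by
    intro χ hχ g hg
    obtain ⟨x', hx'⟩ := Lib.Blocks.exists_isPPart (p := 2) g
    have hx'4 : orderOf x' = 4 := by
      rw [Lib.Blocks.isPPart_iff.1 hx']; exact (Finset.mem_filter.1 hg).2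
    obtain ⟨y, rfl, hcm, -, hy⟩ := hx'
    have hyC : y ∈ Subgroup.centralizer ({x'} : Set G) :=
      Subgroup.mem_centralizer_singleton_iff.2 hcm.eq.symm
    have hv : y ∈ centralizerPPrimeCore 2 x' := ⟨⟨y, hyC⟩, hcore x' hx'4 _ (by rwa [Subgroup.orderOf_mk]), rfl⟩
    rw [Lib.Blocks.PrincipalSection.apply_mul_eq hM (hp4 hx'4) (h2nd hx'4) hv hχ,
      Lib.Chars.isClassFunction_apply_eq (Lib.Chars.irr_isClassFunction χ)
        (isConj_of_orderOf_four S e hnc hx4 hx'4)]
  have hXcard : (X.card : ℂ) * 4 = (Nat.card G : ℂ) := by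
    let O : Finset G := Finset.univ.filter (fun g => orderOf g = 4)
    have hOcard : O.card = (Subgroup.centralizer ({x} : Set G)).index := by
      rw [← Lib.Chars.card_conjClass_eq_index, Nat.card_eq_fintype_card, Fintype.card_subtype]
      congr 1
      ext g
      simp only [O, Finset.mem_filter, Finset.mem_univ, true_and]
      refine ⟨isConj_of_orderOf_four S e hnc hx4, fun h => ?_⟩
      obtain ⟨a', rfl⟩ := isConj_iff.1 h
      rw [← hx4]; exact orderOf_injective (MulAut.conj a').toMonoidHom (MulAut.conj a').injective x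
    have hfib : ∀ x' ∈ O, (X.filter (fun g => g ^ Lib.Blocks.pPartExp G 2 = x')).card * 4 =
        Nat.card (Subgroup.centralizer ({x} : Set G)) := by
      intro x' hx'
      have hx'4 : orderOf x' = 4 := (Finset.mem_filter.1 hx').2
      set C' := Subgroup.centralizer ({x'} : Set G) with hC'
      have e1 : (X.filter (fun g => g ^ Lib.Blocks.pPartExp G 2 = x')).card = Nat.card (pPrimeCore 2 C') := by
        rw [Nat.card_eq_fintype_card, ← Finset.card_univ]
        symm
        refine Finset.card_bij (fun y _ => x' * ((y : C') : G)) ?_ ?_ ?_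
        · intro y _
          have hy : ¬ 2 ∣ orderOf ((y : C') : G) := by
            rw [Subgroup.orderOf_coe]
            intro h
            exact (Lib.PSolvable.pPrimeCore_not_dvd (p := 2) (G := C'))
              (h.trans (Subgroup.orderOf_dvd_natCard _ y.2))
          have hpp : IsPPart 2 (x' * ((y : C') : G)) x' :=
            ⟨_, rfl, (Subgroup.mem_centralizer_singleton_iff.1 (y : C').2).symm, hp4 hx'4, hy⟩
          simp [X, ← Lib.Blocks.isPPart_iff.1 hpp, hx'4]
        · intro y _ y' _ h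
          exact Subtype.ext (Subtype.ext (mul_left_cancel h))
        · intro g hg
          obtain ⟨z, hz⟩ := Lib.Blocks.exists_isPPart (p := 2) g
          obtain rfl : z = x' := (Lib.Blocks.isPPart_iff.1 hz).trans (Finset.mem_filter.1 hg).2
          obtain ⟨y, hgy, hcm, -, hy⟩ := hz
          exact ⟨⟨⟨y, Subgroup.mem_centralizer_singleton_iff.2 hcm.eq.symm⟩,
            hcore z hx'4 _ (by rwa [Subgroup.orderOf_mk])⟩, Finset.mem_univ _, hgy⟩
      rw [e1]
      calc Nat.card (pPrimeCore 2 C') * 4 = Nat.card C' := by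
            rw [← (centralizer_complement S e hx'4).2, Subgroup.card_mul_index]
        _ = _ := by
            obtain ⟨a', ha'⟩ := isConj_iff.1 (isConj_of_orderOf_four S e hnc hx4 hx'4)
            rw [hC', ← ha', ← Lib.Blocks.map_centralizer_singleton]
            exact Subgroup.card_map_of_injective (f := (MulAut.conj a').toMonoidHom) (MulAut.conj a').injective
    have : X.card * 4 = Nat.card G := by
      rw [Finset.card_eq_sum_card_fiberwise (f := fun g => g ^ Lib.Blocks.pPartExp G 2) (t := O)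
        (fun g hg => by simpa [O, X] using hg), Finset.sum_mul, Finset.sum_congr rfl hfib,
        Finset.sum_const, smul_eq_mul, hOcard, Subgroup.index_mul_card]
    exact_mod_cast this
  let B : Finset (IrrCharacter G) := Finset.univ.filter (fun χ => χ ∈ principalBlock M G)
  have hUB : U ⊆ B := fun χ h => by
    simp only [U, B, Finset.mem_filter] at h ⊢; exact ⟨h.1, h.2.1⟩
  let q : IrrCharacter G → G → ℂ := fun χ g => (χ : G → ℂ) g * conj ((χ : G → ℂ) g)
  have hq : ∀ χ g, q χ (c * g) = q χ g := by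
    intro χ g
    obtain ⟨s, hs, hsg⟩ := hsign χ
    rcases hs with rfl | rfl <;> simp [q, hsg]
  have hnorm : ∀ χ, ∑ g : G, q χ g = (Nat.card G : ℂ) := by
    intro χ
    have h := Lib.Chars.classInner_irr_self χ
    rw [classInner, inv_mul_eq_one₀ Lib.Chars.natCard_ne_zero] at h
    exact h.symm
  have hfaith : ∀ χ ∈ B \ U, ∀ g : G, (χ : G → ℂ) (c * g) = -(χ : G → ℂ) g := by
    intro χ hχ g
    obtain ⟨s, hs, hsg⟩ := hsign χ
    rcases hs with rfl | rfl
    · refine absurd ?_ (Finset.mem_sdiff.1 hχ).2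
      refine Finset.mem_filter.2 ⟨Finset.mem_univ _, (Finset.mem_filter.1 (Finset.mem_sdiff.1 hχ).1).2, ?_⟩
      simpa using hsg 1
    · rw [hsg, neg_one_mul]
  have hUfix : ∀ χ ∈ U, ∀ g : G, (χ : G → ℂ) (c * g) = (χ : G → ℂ) g := by
    intro χ hχ g
    obtain ⟨s, hs, hsg⟩ := hsign χ
    have h1 := hsg 1
    rw [mul_one, (Finset.mem_filter.1 hχ).2.2] at h1
    have : s = 1 := mul_right_cancel₀ (Lib.Chars.irr_apply_one_ne_zero χ) (by rw [one_mul]; exact h1.symm)
    rw [hsg, this, one_mul]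
  have hfaith0 : ∀ χ ∈ B \ U, (χ : G → ℂ) x = 0 := by
    intro χ hχ
    have h1 := hfaith χ hχ x
    have hcx : orderOf (c * x) = 4 := by
      refine orderOf_eq_four ?_ ?_
      · rw [(show Commute c x from hcg x).mul_pow, show c ^ 4 = (c ^ 2) ^ 2 by rw [← pow_mul], pow_two c,
          hc2, one_pow, one_mul, ← hx4, pow_orderOf_eq_one]
      · rw [(show Commute c x from hcg x).mul_pow, pow_two c, hc2, one_mul]
        intro h
        have := orderOf_dvd_of_pow_eq_one h
        rw [hx4] at this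
        norm_num at this
    rw [Lib.Chars.isClassFunction_apply_eq (Lib.Chars.irr_isClassFunction χ)
      (isConj_of_orderOf_four S e hnc hx4 hcx)] at h1
    linear_combination h1 / 2
  have hBx : ∑ χ ∈ B, q χ x = 4 := by
    have h := (Lib.Blocks.PrincipalSection.sum_norm_sq_eq hM (hp4 hx4) (h2nd hx4) 1 (by simp)).trans
      (Lib.Blocks.PrincipalSection.sum_norm_sq_of_complement hM
        ⟨2, by rw [(centralizer_complement S e hx4).2]; norm_num⟩ (by simp))
    rw [(centralizer_complement S e hx4).1, finsum_mem_eq_toFinset_sum] at h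
    have h' := congrArg (fun r : ℝ => (r : ℂ)) h
    push_cast at h'
    norm_num at h'
    rw [← h']
    refine Finset.sum_congr (by ext; simp [B]) fun χ _ => ?_
    simp [q, Complex.mul_conj']
  have hUx : ∑ χ ∈ U, q χ x = 4 := by
    have h0 : ∑ χ ∈ B \ U, q χ x = 0 := Finset.sum_eq_zero fun χ hχ => by simp [q, hfaith0 χ hχ]
    rw [← hBx, ← Finset.sum_sdiff hUB, h0, zero_add]
  have hweak : ∀ y ∈ R, ∑ χ ∈ B, q χ y = 2 * ∑ χ ∈ U, q χ y := by
    intro y hy
    have hy' := (Finset.mem_filter.1 hy).2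
    have hcy : 2 ∣ orderOf (c * y) := by
      by_contra h
      have h1 := (Lib.Blocks.isPPart_iff.1 (Lib.Blocks.isPPart_one_of_pRegular (p := 2) h))
      rw [(show Commute c y from hcg y).mul_pow, Lib.Blocks.pow_pPartExp_of_pElement ⟨1, by simpa using hco⟩,
        Lib.Blocks.pow_pPartExp_of_pRegular hy', mul_one] at h1
      exact hc1 h1.symm
    have h := Lib.Blocks.weak_block_orth hM (Lib.Blocks.PrincipalSection.isPBlock_principalBlock M G) hy' hcy
    rw [finsum_mem_eq_toFinset_sum] at h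
    have h' : ∑ χ ∈ B, (χ : G → ℂ) y * conj ((χ : G → ℂ) (c * y)) = 0 := by
      rw [← h]; exact Finset.sum_congr (by ext; simp [B]) fun _ _ => rfl
    have e1 : ∑ χ ∈ B \ U, (χ : G → ℂ) y * conj ((χ : G → ℂ) (c * y)) = -∑ χ ∈ B \ U, q χ y := by
      rw [← Finset.sum_neg_distrib]
      exact Finset.sum_congr rfl fun χ hχ => by simp [q, hfaith χ hχ y]
    have e2 : ∑ χ ∈ U, (χ : G → ℂ) y * conj ((χ : G → ℂ) (c * y)) = ∑ χ ∈ U, q χ y :=
      Finset.sum_congr rfl fun χ hχ => by simp [q, hUfix χ hχ y]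
    rw [← Finset.sum_sdiff hUB, e1, e2, neg_add_eq_zero] at h'
    rw [← Finset.sum_sdiff hUB, h', two_mul]
  have hX : ∀ χ ∈ B, ∑ g ∈ X, q χ g = (X.card : ℂ) * q χ x := by
    intro χ hχ
    rw [Finset.sum_congr rfl (g := fun _ => q χ x) (fun g hg => by
      simp [q, hXval χ (Finset.mem_filter.1 hχ).2 g hg]), Finset.sum_const, nsmul_eq_mul]
  have key : ∀ T : Finset (IrrCharacter G), T ⊆ B →
      (T.card : ℂ) * (Nat.card G : ℂ) = 2 * ∑ g ∈ R, ∑ χ ∈ T, q χ g + (X.card : ℂ) * ∑ χ ∈ T, q χ x := by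
    intro T hT
    rw [← nsmul_eq_mul, ← Finset.sum_const, Finset.sum_congr rfl (g := fun χ =>
      2 * (∑ g ∈ R, q χ g) + (X.card : ℂ) * q χ x) (fun χ hχ => by
        rw [← hnorm χ, hsplit (q χ) (hq χ), hX χ (hT hχ)]),
      Finset.sum_add_distrib, ← Finset.mul_sum, ← Finset.mul_sum, Finset.sum_comm]
  have hU4 := key U hUB
  have hB4 := key B (Finset.Subset.refl _)
  rw [hUcard, hUx] at hU4
  rw [hBx, Finset.sum_congr rfl hweak, ← Finset.mul_sum] at hB4
  push_cast at hU4
  have hfin : ((B.card : ℕ) : ℂ) * (Nat.card G : ℂ) = ((7 : ℕ) : ℂ) * (Nat.card G : ℂ) := by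
    push_cast
    linear_combination hB4 - 2 * hU4 - hXcard
  have hfin' : B.card = 7 := by
    have := mul_right_cancel₀ Lib.Chars.natCard_ne_zero hfin
    exact_mod_cast this
  rw [← hfin', Nat.card_eq_fintype_card, ← Set.toFinset_card]
  congr 1
  ext; simp [B]

end Cfsg.Agent.S0951
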