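import Cfsg.Statements.S0953
import Cfsg.Agent.Lib.Blocks.BlockCount
import Cfsg.Agent.Lib.Blocks.Covering
import Cfsg.Agent.Lib.Blocks.DefectProps
import Cfsg.Agent.Lib.Chars.Induced

set_option autoImplicit false
open Cfsg

namespace Cfsg.Agent.S0953

open scoped ComplexConjugate
open Cfsg.Agent.Lib

theorem exists_over {G : Type*} [Group G] [Fintype G] (N : Subgroup G) [Fintype N]
    (θ : IrrCharacter N) :
    ∃ χ : IrrCharacter G, classInner (Clifford.resFun N (χ : G → ℂ)) (θ : N → ℂ) ≠ 0 := by
  by_contra! hall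
  have h0 : ∀ χ : IrrCharacter G, classInner (indFun N (θ : N → ℂ)) (χ : G → ℂ) = 0 := fun χ => by
    have h : classInner (fun n : N => (χ : G → ℂ) n) (θ : N → ℂ) = 0 := hall χ
    rw [Chars.classInner_indFun_left N _ _ (Chars.irr_isClassFunction χ),
      ← Chars.conj_classInner, h, map_zero]
  have h1 := Chars.eq_zero_of_forall_classInner_eq_zero
    (Chars.isClassFunction_indFun N (θ : N → ℂ)) h0
  have h2 := congrFun h1 1
  rw [Chars.indFun_one_eq, Pi.zero_apply, mul_eq_zero] at h2
  exact h2.elim (Nat.cast_ne_zero.2 Subgroup.FiniteIndex.index_ne_zero)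
    (Chars.irr_apply_one_ne_zero θ)

/-- A central element supported in a normal `p'`-subgroup and killed by all reduced central
characters is zero modulo `M`. -/
theorem residue_coeff_eq_zero {G : Type*} [Group G] [Fintype G] {p : ℕ} {M : Ideal AlgInt}
    [M.IsPrime] (hM : IsPModular p M) (K : Subgroup G) [K.Normal] [Fintype K]
    (hK : ¬ p ∣ Nat.card K) (z : Blocks.RCenter M G)
    (hsupp : ∀ g, g ∉ K → (z : MonoidAlgebra (Blocks.localRing M) G).coeff g = 0)
    (h0 : ∀ χ : IrrCharacter G, Blocks.omegaBar M χ z = 0) (g : G) :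
    Blocks.residue M ((z : MonoidAlgebra (Blocks.localRing M) G).coeff g) = 0 := by
  classical
  by_cases hg : g ∈ K
  swap
  · rw [hsupp g hg, map_zero]
  let F : G → ℂ := fun x => (((z : MonoidAlgebra (Blocks.localRing M) G).coeff x : Blocks.localRing M) : ℂ)
  have hF : IsClassFunction G F := fun x c => by
    simp only [F, Blocks.mem_center_iff.1 z.2 x c]
  let w : MonoidAlgebra ℂ K := Blocks.ofFun fun k : K => F k
  have hw : w ∈ Subalgebra.center ℂ (MonoidAlgebra ℂ K) := by
    rw [Blocks.mem_center_iff]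
    intro x c
    simp only [w, Blocks.coeff_ofFun, Subgroup.coe_mul, Subgroup.coe_inv]
    exact hF x c
  have hφ : ∀ φ : IrrCharacter K, MemLocalIdeal M (Blocks.omega (φ : K → ℂ) w) := by
    intro φ
    obtain ⟨χ, hχ⟩ := exists_over K φ
    have h := h0 χ
    rw [Blocks.omegaBar_apply, Blocks.residue_eq_zero_iff, Blocks.coe_omegaR,
      Blocks.omega_eq_sum] at h
    have e : ∑ x : G, (Blocks.toC M G (z : MonoidAlgebra (Blocks.localRing M) G)).coeff x *
        ((χ : G → ℂ) x / (χ : G → ℂ) 1) = Blocks.omega (φ : K → ℂ) w := by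
      rw [Blocks.omega_eq_sum, Blocks.Covering.sum_eq_sum_normal (N := K)
        (f := fun x => (Blocks.toC M G (z : MonoidAlgebra (Blocks.localRing M) G)).coeff x *
          ((χ : G → ℂ) x / (χ : G → ℂ) 1)) (fun x hx => by simp [Blocks.toC, hsupp x hx])]
      have e2 := Blocks.Covering.sum_normal_mul_div_eq hF χ φ hχ
      simp only [mul_div_assoc] at e2
      convert e2 using 1 <;> simp [Blocks.toC, F, w]
    rwa [e] at h
  have hg' : F g = (Nat.card K : ℂ)⁻¹ * ∑ φ : IrrCharacter K,
      Blocks.omega (φ : K → ℂ) w * ((φ : K → ℂ) 1 * conj ((φ : K → ℂ) ⟨g, hg⟩)) := by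
    rw [← Blocks.card_mul_coeff hw, inv_mul_cancel_left₀ Chars.natCard_ne_zero]
    simp [w]
  rw [Blocks.residue_eq_zero_iff]
  show MemLocalIdeal M (F g)
  rw [hg']
  refine Blocks.memLocalIdeal_mul_left
    (Blocks.mem_localRing.1 (Blocks.inv_natCast_mem_localRing hM hK))
    (Blocks.memLocalIdeal_sum _ _ fun φ _ => Blocks.memLocalIdeal_mul_right (hφ φ) ?_)
  exact Blocks.mem_localRing.1 (Blocks.isIntegral_mem_localRing
    ((Chars.irr_isIntegral φ 1).mul (Chars.isIntegral_conj (Chars.irr_isIntegral φ _))))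

/-- With a normal Sylow subgroup, the regular elements centralising it form a normal subgroup. -/
theorem exists_regular_centralizer {G : Type*} [Group G] [Finite G] {p : ℕ} [Fact p.Prime]
    (S : Sylow p G) [(S : Subgroup G).Normal] :
    ∃ K : Subgroup G, K.Normal ∧ ¬ p ∣ Nat.card K ∧
      ∀ g : G, g ∈ K ↔ ¬ p ∣ orderOf g ∧ g ∈ Subgroup.centralizer ((S : Subgroup G) : Set G) := by
  classical
  set C := Subgroup.centralizer ((S : Subgroup G) : Set G) with hC
  let Q : Sylow p C := default
  have hQS : (Q : Subgroup C).map C.subtype ≤ S := by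
    rw [← S.3 ((Q.isPGroup'.map C.subtype).to_sup_of_normal_right S.isPGroup') le_sup_right]
    exact le_sup_left
  have hcen : Subgroup.normalizer ((Q : Subgroup C) : Set C) ≤
      Subgroup.centralizer ((Q : Subgroup C) : Set C) := fun c _ =>
    Subgroup.mem_centralizer_iff.2 fun y hy =>
      Subtype.ext (Subgroup.mem_centralizer_iff.1 c.2 _ (hQS ⟨y, hy, rfl⟩))
  have hc := MonoidHom.ker_transferSylow_isComplement' Q hcen
  set K₀ := (MonoidHom.transferSylow Q hcen).ker with hK₀
  have hK₀p : ¬ p ∣ Nat.card K₀ := MonoidHom.not_dvd_card_ker_transferSylow Q hcen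
  have hk : ∃ k, K₀.index = p ^ k := ⟨_, hc.symm.index_eq_card.trans Q.card_eq_multiplicity⟩
  have hmem : ∀ g : G, g ∈ K₀.map C.subtype ↔ ¬ p ∣ orderOf g ∧ g ∈ C := by
    intro g
    constructor
    · rintro ⟨c, hc', rfl⟩
      refine ⟨fun h => hK₀p (?_ : p ∣ Nat.card K₀), c.2⟩
      rw [Subgroup.coe_subtype, Subgroup.orderOf_coe] at h
      exact h.trans (Subgroup.orderOf_dvd_natCard K₀ hc')
    · rintro ⟨hg, hgC⟩
      exact ⟨⟨g, hgC⟩, Blocks.Covering.mem_of_pRegular_of_index K₀ hk (by rwa [Subgroup.orderOf_mk]), rfl⟩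
  refine ⟨K₀.map C.subtype, ⟨fun n hn c => ?_⟩, ?_, hmem⟩
  · rw [hmem] at hn ⊢
    refine ⟨?_, (inferInstance : C.Normal).conj_mem n hn.2 c⟩
    rw [show orderOf (c * n * c⁻¹) = orderOf n from
      orderOf_injective (MulAut.conj c).toMonoidHom (MulAut.conj c).injective n]
    exact hn.1
  · rwa [Subgroup.card_map_of_injective C.subtype_injective]

/-- With a normal Sylow subgroup there are as many blocks as regular classes centralising it. -/
theorem card_blocks {G : Type*} [Group G] [Finite G] {p : ℕ} [Fact p.Prime] {M : Ideal AlgInt}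
    [M.IsPrime] (hM : IsPModular p M) (S : Sylow p G) [(S : Subgroup G).Normal] :
    Nat.card {B : Set (IrrCharacter G) // IsPBlock M B} =
      Nat.card {C : ConjClasses G // ∀ g : G, ConjClasses.mk g = C →
        ¬ p ∣ orderOf g ∧ g ∈ Subgroup.centralizer ((S : Subgroup G) : Set G)} := by
  classical
  cases nonempty_fintype G
  obtain ⟨K, hKn, hKp, hK⟩ := exists_regular_centralizer S
  let ι := {B : Set (IrrCharacter G) // IsPBlock M B}
  let f : ι → IrrCharacter G := fun B => (Blocks.isPBlock_nonempty B.2).choose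
  have hf : ∀ B : ι, f B ∈ B.1 := fun B => (Blocks.isPBlock_nonempty B.2).choose_spec
  let T : Set (ConjClasses G) := {C | ∀ g : G, ConjClasses.mk g = C →
        ¬ p ∣ orderOf g ∧ g ∈ Subgroup.centralizer ((S : Subgroup G) : Set G)}
  have hcl : ∀ a b : G, IsConj a b → a ∈ K → b ∈ K := fun a b h ha => by
    obtain ⟨c, rfl⟩ := isConj_iff.1 h
    exact hKn.conj_mem a ha c
  have hT : ∀ C : ConjClasses G, C ∈ T ↔ Blocks.classRep C ∈ K := by
    intro C
    refine ⟨fun h => (hK _).2 (h _ (Blocks.mk_classRep C)), fun h g hg => (hK g).1 ?_⟩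
    exact hcl _ _ ((Blocks.isConj_classRep_iff C g).2 hg.symm) h
  have hrow := Blocks.BlockCount.linearIndependent_omegaVec (M := M) hM f
    (fun i j h => Subtype.ext (Blocks.isPBlock_eq_of_mem i.2 j.2 (hf i)
      (Blocks.mem_of_sameBlock j.2 (hf j) (Blocks.sameBlock_symm h)))) T
    (fun i C hC hp => by
      by_contra h
      obtain ⟨D, hD⟩ := Blocks.exists_isDefectGroup (p := p) i.2
      have hle : (S : Subgroup G) ≤ D := Blocks.normal_le_defectGroup hM S.isPGroup' i.2 hD
      obtain ⟨x, hx, hxD⟩ := Blocks.exists_conj_mem_centralizer_defectGroup hM i.2 hD (hf i)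
        (fun hh => h ((Blocks.omegaBar_classSumR_eq_zero_iff (f i) (Blocks.classRep C)).2 hh))
      refine hC ((hT C).2 (hcl x _ hx.symm ((hK x).2 ⟨?_, ?_⟩)))
      · obtain ⟨c, rfl⟩ := isConj_iff.1 hx
        rwa [show orderOf (c * Blocks.classRep C * c⁻¹) = orderOf (Blocks.classRep C) from
          orderOf_injective (MulAut.conj c).toMonoidHom (MulAut.conj c).injective _]
      · exact Subgroup.centralizer_le hle hxD)
  have hcol : LinearIndependent (Blocks.Residue M)
      (fun C : T => fun i : ι => Blocks.omegaBar M (f i) (Blocks.classSumR M (Blocks.classRep (C : ConjClasses G)))) := by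
    haveI := Fintype.ofFinite T
    haveI := Fintype.ofFinite (ConjClasses G)
    haveI := Fintype.ofFinite K
    rw [Fintype.linearIndependent_iff]
    intro c hc C₀
    choose a ha using fun C : T => IsLocalRing.residue_surjective (c C)
    let z : Blocks.RCenter M G :=
      ∑ C : T, a C • Blocks.classSumR M (Blocks.classRep (C : ConjClasses G))
    have hcoeff : ∀ g : G, (z : MonoidAlgebra (Blocks.localRing M) G).coeff g =
        ∑ C : T, if (C : ConjClasses G) = ConjClasses.mk g then a C else 0 := by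
      intro g
      simp [z, Blocks.classSumR, Blocks.coeff_classSum]
      simp only [← isConj_iff, Blocks.isConj_classRep_iff]
    have hz : ∀ χ : IrrCharacter G, Blocks.omegaBar M χ z = 0 := by
      intro χ
      have e := congrFun hc ⟨_, Blocks.isPBlock_blockOf χ⟩
      simp only [Finset.sum_apply, Pi.smul_apply, smul_eq_mul, Pi.zero_apply] at e
      rw [← e, map_sum]
      refine Finset.sum_congr rfl fun C _ => ?_
      rw [Algebra.smul_def, map_mul, Blocks.omegaBar_algebraMap, ← ha C,
        Blocks.omegaBar_eq_of_sameBlock (hf ⟨_, Blocks.isPBlock_blockOf χ⟩)]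
    have h := residue_coeff_eq_zero hM K hKp z (fun g hg => by
      rw [hcoeff]
      refine Finset.sum_eq_zero fun C _ => if_neg fun e => hg ?_
      exact (hK g).2 (C.2 g e.symm)) hz (Blocks.classRep (C₀ : ConjClasses G))
    rw [hcoeff, Finset.sum_eq_single C₀ (fun C _ hne => if_neg fun e => hne (Subtype.ext (by
      rw [e, Blocks.mk_classRep]))) (fun h => absurd (Finset.mem_univ _) h),
      if_pos (Blocks.mk_classRep _).symm] at h
    rw [← ha C₀]
    exact h
  haveI := Fintype.ofFinite ι
  haveI := Fintype.ofFinite T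
  have h1 := hrow.fintype_card_le_finrank
  have h2 := hcol.fintype_card_le_finrank
  rw [Module.finrank_fintype_fun_eq_card] at h1 h2
  rw [Nat.card_eq_fintype_card, show Nat.card {C : ConjClasses G // ∀ g : G, ConjClasses.mk g = C →
        ¬ p ∣ orderOf g ∧ g ∈ Subgroup.centralizer ((S : Subgroup G) : Set G)} = Fintype.card T from
      Nat.card_eq_fintype_card (α := T)]
  exact le_antisymm h1 h2


/-- Let P be a Sylow p-subgroup of the finite group G with normalizer N, and fix a maximal ideal M of the algebraic integers containing p. The number of blocks of G having P as a defect group equals the number of conjugacy classes of N consisting of elements of order prime to p that centralize P. -/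
theorem result {G : Type*} [Group G] [Finite G] (p : ℕ) [Fact p.Prime] (M : Ideal Cfsg.AlgInt) (hM : Cfsg.IsPModular p M) (P : Sylow p G) : Nat.card {B : Set (Cfsg.IrrCharacter G) // Cfsg.IsPBlock M B ∧ Cfsg.IsDefectGroup p M B (P : Subgroup G)} = Nat.card {C : ConjClasses (Subgroup.normalizer ((P : Subgroup G) : Set G)) // ∀ n : Subgroup.normalizer ((P : Subgroup G) : Set G), ConjClasses.mk n = C → ¬ p ∣ orderOf n ∧ (n : G) ∈ Subgroup.centralizer ((P : Subgroup G) : Set G)} := by
  classical
  have := Lib.Blocks.isPModular_isPrime hM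
  set N := Subgroup.normalizer ((P : Subgroup G) : Set G) with hN
  let S : Sylow p N := P.subtype Subgroup.le_normalizer
  have hS : (S : Subgroup N) = (P : Subgroup G).subgroupOf N := rfl
  haveI : (S : Subgroup N).Normal := by
    rw [hS]
    exact (Subgroup.normal_subgroupOf_iff_le_normalizer Subgroup.le_normalizer).2 le_rfl
  have hdef : ∀ b : Set (IrrCharacter N), IsPBlock M b →
      IsDefectGroup p M b ((P : Subgroup G).subgroupOf N) := by
    intro b hb
    obtain ⟨D, hD⟩ := Lib.Blocks.exists_isDefectGroup (p := p) hb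
    have hle : (S : Subgroup N) ≤ D := Lib.Blocks.normal_le_defectGroup hM S.isPGroup' hb hD
    rw [← hS, ← S.3 (Lib.Blocks.isPGroup_of_isDefectGroup hD) hle]
    exact hD
  have hP : IsPGroup p (P : Subgroup G) := P.isPGroup'
  let toB : {b : Set (IrrCharacter N) // IsPBlock M b} →
      {B : Set (IrrCharacter G) // IsPBlock M B ∧ IsDefectGroup p M B (P : Subgroup G)} := fun b =>
    ⟨(Lib.Blocks.firstMain_exists hM hP b.2 (hdef b.1 b.2)).choose,
      (Lib.Blocks.firstMain_exists hM hP b.2 (hdef b.1 b.2)).choose_spec.1,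
      (Lib.Blocks.firstMain_exists hM hP b.2 (hdef b.1 b.2)).choose_spec.2.1⟩
  have htoB : ∀ b, IsInducedBlock M N b.1 (toB b).1 := fun b =>
    (Lib.Blocks.firstMain_exists hM hP b.2 (hdef b.1 b.2)).choose_spec.2.2
  have hbij : Function.Bijective toB := by
    constructor
    · intro b b' h
      obtain ⟨c, -, hu⟩ := Lib.Blocks.firstMain_unique hM hP (toB b).2.1 (toB b).2.2
      exact Subtype.ext ((hu b.1 ⟨b.2, hdef _ b.2, htoB b⟩).trans
        (hu b'.1 ⟨b'.2, hdef _ b'.2, h ▸ htoB b'⟩).symm)
    · rintro ⟨B, hB, hBD⟩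
      obtain ⟨b, ⟨hb, -, hind⟩, -⟩ := Lib.Blocks.firstMain_unique hM hP hB hBD
      exact ⟨⟨b, hb⟩, Subtype.ext (Lib.Blocks.isInducedBlock_unique (htoB ⟨b, hb⟩) hind)⟩
  rw [← Nat.card_congr (Equiv.ofBijective toB hbij), card_blocks hM S]
  refine Nat.card_congr (Equiv.subtypeEquivRight fun C => forall₂_congr fun n _ => and_congr_right fun _ => ?_)
  simp only [Subgroup.mem_centralizer_iff]
  constructor
  · intro h x hx
    exact congrArg Subtype.val (h ⟨x, Subgroup.le_normalizer hx⟩ hx)
  · intro h x hx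
    exact Subtype.ext (h x hx)

end Cfsg.Agent.S0953
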