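import Cfsg.Statements.S0955
import Cfsg.Agent.Lib.Blocks.InducedBlock
import Cfsg.Agent.Lib.Blocks.DefectClass
import Cfsg.Agent.Lib.PSolvable.Core

set_option autoImplicit false
open Cfsg

namespace Cfsg.Agent.S0955

open scoped ComplexConjugate


/-- Let D be a defect group of a block of the finite group G relative to a maximal ideal M of the algebraic integers containing the prime p. Then D is the largest normal p-subgroup of its own normalizer: O_p(N_G(D)) = D. -/
theorem result {G : Type*} [Group G] [Finite G] (p : ℕ) [Fact p.Prime] (M : Ideal Cfsg.AlgInt) (hM : Cfsg.IsPModular p M) (B : Set (Cfsg.IrrCharacter G)) (hB : Cfsg.IsPBlock M B) (D : Subgroup G) (hD : Cfsg.IsDefectGroup p M B D) : (Cfsg.pCore p (Subgroup.normalizer (D : Set G))).map (Subgroup.normalizer (D : Set G)).subtype = D := by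
  classical
  cases nonempty_fintype G
  have := Lib.Blocks.isPModular_isPrime hM
  obtain ⟨g, hg, hgD⟩ := Lib.Blocks.isDefectGroup_iff.1 hD
  let N := Subgroup.normalizer (D : Set G)
  have hC : Subgroup.centralizer (D : Set G) ≤ N := Subgroup.centralizer_le_normalizer _
  obtain ⟨χ, hχ⟩ := Lib.Blocks.isPBlock_nonempty hB
  have hgC : g ∈ Subgroup.centralizer (D : Set G) :=
    Lib.Blocks.le_centralizer_singleton_iff.1 hgD.2.1
  obtain ⟨ξ, hξ⟩ := Lib.Blocks.exists_brPhi_eq hM hgD.1 hC le_rfl hB hgC hg.2.1 hχ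
  let Q : Subgroup N := pCore p N
  have hQp : IsPGroup p Q := Lib.PSolvable.pCore_isPGroup
  have := Lib.PSolvable.pCore_characteristic (p := p) (G := N)
  have hQn : Q.Normal := inferInstanceAs (pCore p N).Normal
  have hDQ : D ≤ Q.map N.subtype := by
    intro d hd
    have hdN : d ∈ N := Subgroup.le_normalizer hd
    have : (D.subgroupOf N).Normal :=
      (Subgroup.normal_subgroupOf_iff_le_normalizer Subgroup.le_normalizer).2 le_rfl
    exact ⟨⟨d, hdN⟩, Lib.PSolvable.le_pCore (N := D.subgroupOf N) hgD.1.comap_subtype (show (⟨d, hdN⟩ : N) ∈ D.subgroupOf N from hd), rfl⟩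
  obtain ⟨x, hxC, hgx⟩ : ∃ x : N, x ∈ Subgroup.centralizer (Q : Set N) ∧ IsConj g (x : G) := by
    by_contra! hno
    refine hg.2.2 χ hχ ((Lib.Blocks.omegaBar_classSumR_eq_zero_iff χ g).1 ?_)
    rw [← hξ, Lib.Blocks.brPhi_apply]
    refine Lib.Blocks.omegaBar_eq_zero_of_coeff_centralizer hM Q hQp ξ fun x hx => ?_
    rw [Lib.Blocks.coe_brR, Lib.Blocks.coeff_trunc]
    split_ifs with h1
    · rw [Lib.Blocks.classSumR, Lib.Blocks.coeff_classSum, if_neg (hno x hx), map_zero]
    · rw [map_zero]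
  have hxQ : (x : G) ∈ Subgroup.centralizer ((Q.map N.subtype : Subgroup G) : Set G) := by
    rw [Subgroup.mem_centralizer_iff]
    rintro _ ⟨q, hq, rfl⟩
    exact congrArg Subtype.val (Subgroup.mem_centralizer_iff.1 hxC q hq)
  obtain ⟨c, hc⟩ := isConj_iff.1 hgx
  have hcard := Lib.Blocks.card_le_of_isClassDefect (hQp.map N.subtype) hxQ
    (hc ▸ Lib.Blocks.isClassDefect_conj hgD c)
  exact (Subgroup.eq_of_le_of_card_ge hDQ (hcard.trans
    (le_of_eq (Subgroup.card_map_of_injective (MulAut.conj c).injective)))).symm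

end Cfsg.Agent.S0955
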