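import Cfsg.Statements.S0957
import Mathlib

set_option autoImplicit false
open Cfsg

namespace Cfsg.Agent.S0957

/-- P-orbits on the pairs have size divisible by #P / #S. -/
theorem result {G : Type*} [Group G] [Finite G] (p : ℕ) [Fact p.Prime] (P : Sylow p G) (g h : G) (S : Sylow p (Subgroup.centralizer ({g} : Set G))) : Nat.card P / Nat.card S ∣ Nat.card {yz : G × G // IsConj g yz.1 ∧ IsConj h yz.2 ∧ yz.2 * yz.1⁻¹ ∈ (P : Subgroup G)} := by
  classical
  have hcl : ∀ (a y : G) (q : G), IsConj a y → IsConj a (q * y * q⁻¹) :=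
    fun a y q hy => hy.trans (isConj_iff.2 ⟨q, rfl⟩)
  let T := {yz : G × G // IsConj g yz.1 ∧ IsConj h yz.2 ∧ yz.2 * yz.1⁻¹ ∈ (P : Subgroup G)}
  let act : MulAction P T :=
    { smul := fun q t => ⟨((q : G) * t.1.1 * (q : G)⁻¹, (q : G) * t.1.2 * (q : G)⁻¹),
        hcl g _ _ t.2.1, hcl h _ _ t.2.2.1, by
          have := mul_mem (mul_mem q.2 t.2.2.2) (inv_mem q.2)
          have e : ((q : G) * t.1.2 * (q : G)⁻¹) * ((q : G) * t.1.1 * (q : G)⁻¹)⁻¹
              = (q : G) * (t.1.2 * t.1.1⁻¹) * (q : G)⁻¹ := by group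
          show ((q : G) * t.1.2 * (q : G)⁻¹) * ((q : G) * t.1.1 * (q : G)⁻¹)⁻¹ ∈ (P : Subgroup G)
          rw [e]; exact this⟩
      one_smul := fun t => Subtype.ext (by
        apply Prod.ext
        · show (1 : G) * t.1.1 * (1 : G)⁻¹ = t.1.1; simp
        · show (1 : G) * t.1.2 * (1 : G)⁻¹ = t.1.2; simp)
      mul_smul := fun a b t => Subtype.ext (by
        apply Prod.ext
        · show (a * b : G) * t.1.1 * (a * b : G)⁻¹ = a * (b * t.1.1 * (b : G)⁻¹) * (a : G)⁻¹
          group
        · show (a * b : G) * t.1.2 * (a * b : G)⁻¹ = a * (b * t.1.2 * (b : G)⁻¹) * (a : G)⁻¹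
          group) }
  letI := act
  show Nat.card P / Nat.card S ∣ Nat.card T
  have : Fintype T := Fintype.ofFinite _
  have : Fintype (MulAction.orbitRel.Quotient P T) := Fintype.ofFinite _
  rw [Nat.card_congr (MulAction.selfEquivSigmaOrbits P T), Nat.card_sigma]
  refine Finset.dvd_sum fun ω _ => ?_
  rcases Quotient.exists_rep ω with ⟨t, rfl⟩
  generalize hr : Quotient.out (⟦t⟧ : MulAction.orbitRel.Quotient P T) = r
  obtain ⟨c, hc⟩ := isConj_iff.1 r.2.1
  -- the stabiliser maps into the centraliser of g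
  let st := MulAction.stabilizer P r
  let f : st →* Subgroup.centralizer ({g} : Set G) :=
    { toFun := fun q => ⟨c⁻¹ * ((q : P) : G) * c, by
        rw [Subgroup.mem_centralizer_singleton_iff]
        have hq : ((q : P) : G) * r.1.1 * ((q : P) : G)⁻¹ = r.1.1 :=
          congrArg (fun t : T => t.1.1) q.2
        rw [← hc] at hq
        have hq' : ((q : P) : G) * (c * g * c⁻¹) = (c * g * c⁻¹) * ((q : P) : G) := by
          conv_rhs => rw [← hq]
          group
        calc c⁻¹ * ((q : P) : G) * c * g = c⁻¹ * (((q : P) : G) * (c * g * c⁻¹)) * c := by group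
          _ = c⁻¹ * ((c * g * c⁻¹) * ((q : P) : G)) * c := by rw [hq']
          _ = g * (c⁻¹ * ((q : P) : G) * c) := by group⟩
      map_one' := Subtype.ext (by simp)
      map_mul' := fun a b => Subtype.ext (by simp [mul_assoc]) }
  have finj : Function.Injective f := by
    intro a b hab
    have := congrArg (fun x : Subgroup.centralizer ({g} : Set G) => (x : G)) hab
    simpa [f] using this
  have hpg : IsPGroup p f.range :=
    (P.isPGroup'.to_subgroup st).of_surjective f.rangeRestrict f.rangeRestrict_surjective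
  obtain ⟨S', hS'⟩ := hpg.exists_le_sylow
  have hdvd : Nat.card st ∣ Nat.card S := by
    rw [Nat.card_congr (MonoidHom.ofInjective finj).toEquiv]
    have h1 := Subgroup.card_dvd_of_le hS'
    rw [S'.card_eq_multiplicity] at h1
    rw [S.card_eq_multiplicity]
    exact h1
  obtain ⟨k, hk⟩ := hdvd
  have hos : Nat.card P = Nat.card (MulAction.orbit P r) * Nat.card st := by
    rw [← Nat.card_congr (MulAction.orbitProdStabilizerEquivGroup P r), Nat.card_prod]
  by_cases hdiv : Nat.card S ∣ Nat.card P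
  · obtain ⟨l, hl⟩ := hdiv
    rw [hl, Nat.mul_div_cancel_left _ Nat.card_pos]
    refine ⟨k, ?_⟩
    have e : Nat.card st * (k * l) = Nat.card st * Nat.card (MulAction.orbit P r) := by
      rw [← mul_assoc, ← hk, ← hl, hos, mul_comm]
    have := Nat.eq_of_mul_eq_mul_left Nat.card_pos e
    rw [← this, mul_comm]
  · exact absurd (by
      rw [S.card_eq_multiplicity, P.card_eq_multiplicity]
      exact Nat.pow_dvd_pow _ ((Nat.factorization_le_iff_dvd Nat.card_pos.ne' Nat.card_pos.ne').2
        (Subgroup.card_subgroup_dvd_card _) p)) hdiv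

end Cfsg.Agent.S0957
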