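import Cfsg.Statements.S0958
import Cfsg.Agent.Lib.Blocks.DefectClass
import Cfsg.Agent.Lib.Blocks.InducedBlock

set_option autoImplicit false
open Cfsg

namespace Cfsg.Agent.S0958

/-- Let P be a p-subgroup of the finite group G and H a subgroup with P ⊔ C_G(P) ≤ H ≤ N_G(P); fix a maximal ideal M of the algebraic integers containing p. Then a block B of G is induced by some block of H if and only if some conjugate of P is contained in a defect group of B. -/
theorem result {G : Type*} [Group G] [Finite G] (p : ℕ) [Fact p.Prime] (M : Ideal Cfsg.AlgInt) (hM : Cfsg.IsPModular p M) (P H : Subgroup G) (hP : IsPGroup p P) (hPH : P ⊔ Subgroup.centralizer (P : Set G) ≤ H) (hHN : H ≤ Subgroup.normalizer (P : Set G)) (B : Set (Cfsg.IrrCharacter G)) (hB : Cfsg.IsPBlock M B) : (∃ b : Set (Cfsg.IrrCharacter H), Cfsg.IsInducedBlock M H b B) ↔ ∃ D : Subgroup G, Cfsg.IsDefectGroup p M B D ∧ ∃ x : G, P.map (MulAut.conj x).toMonoidHom ≤ D := by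
  classical
  have := Lib.Blocks.isPModular_isPrime hM
  have hPle : P ≤ H := le_sup_left.trans hPH
  have hC : Subgroup.centralizer (P : Set G) ≤ H := le_sup_right.trans hPH
  obtain ⟨χ, hχ⟩ := Lib.Blocks.isPBlock_nonempty hB
  constructor
  · rintro ⟨b, hb⟩
    obtain ⟨ξ, hξ⟩ := Lib.Blocks.isPBlock_nonempty hb.1
    obtain ⟨g, hg⟩ := Lib.Blocks.isDefectClass_exists hB
    have h1 := (Lib.Blocks.isInducedBlock_iff_brauer hM hP hPle hC hHN hb.1 hB).1 hb ξ hξ χ hχ g
    have h2 : ¬ MemLocalIdeal M (brauerCentralChar P H (ξ : H → ℂ) g) := fun h => hg.2.2 χ hχ (by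
      simpa using Lib.Blocks.memLocalIdeal_sub h h1)
    by_cases hex : ∃ h : H, IsConj g (h : G) ∧ (h : G) ∈ Subgroup.centralizer (P : Set G)
    · obtain ⟨h, hgh, hh⟩ := hex
      obtain ⟨a, ha⟩ := isConj_iff.1 hgh
      obtain ⟨D, hD, hle⟩ := Lib.Blocks.exists_isDefectGroup_ge hM hB hP hh
        (by rw [← ha, Lib.Blocks.blockCoeff_conj]; exact hg.2.1)
      exact ⟨D, hD, 1, by rintro _ ⟨y, hy, rfl⟩; simpa using hle hy⟩
    · refine absurd ?_ h2
      have h0 : brauerCentralChar P H (ξ : H → ℂ) g = 0 := by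
        rw [brauerCentralChar]
        have he : {h : H | IsConj g (h : G) ∧ (h : G) ∈ Subgroup.centralizer (P : Set G)} = ∅ :=
          Set.eq_empty_iff_forall_notMem.2 fun h hh => hex ⟨h, hh⟩
        rw [he]
        exact finsum_mem_empty
      rw [h0]
      exact Lib.Blocks.memLocalIdeal_zero
  · rintro ⟨D, hD, x, hx⟩
    obtain ⟨g, hg, hgD⟩ := Lib.Blocks.isDefectGroup_iff.1 hD
    have hmem : x⁻¹ * g * x ∈ Subgroup.centralizer (P : Set G) := by
      rw [Subgroup.mem_centralizer_iff]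
      intro y hy
      have h := hgD.2.1 (hx ⟨y, hy, rfl⟩)
      rw [Subgroup.mem_centralizer_singleton_iff] at h
      have h' : x * y * x⁻¹ * g = g * (x * y * x⁻¹) := h
      calc y * (x⁻¹ * g * x) = x⁻¹ * (x * y * x⁻¹ * g) * x := by group
        _ = x⁻¹ * (g * (x * y * x⁻¹)) * x := by rw [h']
        _ = x⁻¹ * g * x * y := by group
    have hunit : ¬ MemLocalIdeal M (blockCoeff B (x⁻¹ * g * x)) := by
      have := Lib.Blocks.blockCoeff_conj B g x⁻¹
      rw [inv_inv] at this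
      rw [this]
      exact hg.2.1
    obtain ⟨ξ, hξ⟩ := Lib.Blocks.exists_brPhi_eq hM hP hC hHN hB hmem hunit hχ
    exact ⟨_, Lib.Blocks.isInducedBlock_of_brPhi_eq hM hP hPle hC hHN
      (Lib.Blocks.isPBlock_blockOf ξ) hB (Lib.Blocks.mem_blockOf_self ξ) hχ hξ⟩

end Cfsg.Agent.S0958
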