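import Cfsg.Statements.S0959
import Cfsg.Agent.Lib.Blocks.DefectClass

set_option autoImplicit false
open Cfsg

namespace Cfsg.Agent.S0959

open scoped ComplexConjugate


/-- Let B be a block of the finite group G with defect group D (relative to a maximal ideal M of the algebraic integers containing the prime p), and let P be a p-subgroup. Then there is an element g whose idempotent coefficient for B is a local integer outside the local ideal at M and which has a conjugate centralizing P, if and only if some conjugate of P is contained in D. -/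
theorem result {G : Type*} [Group G] [Finite G] (p : ℕ) [Fact p.Prime] (M : Ideal Cfsg.AlgInt) (hM : Cfsg.IsPModular p M) (B : Set (Cfsg.IrrCharacter G)) (hB : Cfsg.IsPBlock M B) (D : Subgroup G) (hD : Cfsg.IsDefectGroup p M B D) (P : Subgroup G) (hP : IsPGroup p P) : (∃ g : G, Cfsg.MemLocalRing M (Cfsg.blockCoeff B g) ∧ ¬ Cfsg.MemLocalIdeal M (Cfsg.blockCoeff B g) ∧ ∃ c : G, IsConj g c ∧ c ∈ Subgroup.centralizer (P : Set G)) ↔ ∃ x : G, P.map (MulAut.conj x).toMonoidHom ≤ D := by
  classical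
  cases nonempty_fintype G
  have := Lib.Blocks.isPModular_isPrime hM
  constructor
  · rintro ⟨g, -, hg, c, hgc, hc⟩
    obtain ⟨a, rfl⟩ := isConj_iff.1 hgc
    obtain ⟨D', hD', hle⟩ := Lib.Blocks.exists_isDefectGroup_ge hM hB hP hc
      (by rwa [Lib.Blocks.blockCoeff_conj])
    obtain ⟨x, rfl⟩ := Lib.Blocks.isDefectGroup_conjugate hM hB hD hD'
    refine ⟨x⁻¹, ?_⟩
    rintro _ ⟨y, hy, rfl⟩
    obtain ⟨d, hd, rfl⟩ := hle hy
    simpa [mul_assoc] using hd
  · rintro ⟨x, hx⟩
    obtain ⟨g, hg, hgD⟩ := Lib.Blocks.isDefectGroup_iff.1 hD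
    refine ⟨g, hg.1, hg.2.1, x⁻¹ * g * x, isConj_iff.2 ⟨x⁻¹, by group⟩, ?_⟩
    rw [Subgroup.mem_centralizer_iff]
    intro y hy
    have h := hgD.2.1 (hx ⟨y, hy, rfl⟩)
    rw [Subgroup.mem_centralizer_singleton_iff] at h
    have h' : x * y * x⁻¹ * g = g * (x * y * x⁻¹) := h
    calc y * (x⁻¹ * g * x) = x⁻¹ * (x * y * x⁻¹ * g) * x := by group
      _ = x⁻¹ * (g * (x * y * x⁻¹)) * x := by rw [h']
      _ = x⁻¹ * g * x * y := by group

end Cfsg.Agent.S0959
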