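import Cfsg.Statements.S0962
import Cfsg.Agent.Lib.Blocks.BlockCount

set_option autoImplicit false
open Cfsg

namespace Cfsg.Agent.S0962

/-- Fix a maximal ideal M of the algebraic integers containing the prime p and a natural number d. The number of blocks of the finite group G of defect at least d is at most the number of conjugacy classes of p-regular elements of G of defect at least d, where the defect of a class is the exponent of p in the order of the centralizer of any of its elements. -/
theorem result {G : Type*} [Group G] [Finite G] (p : ℕ) [Fact p.Prime] (M : Ideal Cfsg.AlgInt) (hM : Cfsg.IsPModular p M) (d : ℕ) : Nat.card {B : Set (Cfsg.IrrCharacter G) // Cfsg.IsPBlock M B ∧ d ≤ Cfsg.blockDefect p B} ≤ Nat.card {C : ConjClasses G // ∃ g : G, ConjClasses.mk g = C ∧ Cfsg.IsPRegular p g ∧ d ≤ (Nat.card (Subgroup.centralizer ({g} : Set G))).factorization p} := by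
  classical
  have := Lib.Blocks.isPModular_isPrime hM
  let ι := {B : Set (Cfsg.IrrCharacter G) // Cfsg.IsPBlock M B ∧ d ≤ Cfsg.blockDefect p B}
  let f : ι → IrrCharacter G := fun B => (Lib.Blocks.isPBlock_nonempty B.2.1).choose
  have hf : ∀ B : ι, f B ∈ B.1 := fun B => (Lib.Blocks.isPBlock_nonempty B.2.1).choose_spec
  let S : Set (ConjClasses G) := {C | ∃ g : G, ConjClasses.mk g = C ∧ Cfsg.IsPRegular p g ∧
    d ≤ (Nat.card (Subgroup.centralizer ({g} : Set G))).factorization p}
  have hli := Lib.Blocks.BlockCount.linearIndependent_omegaVec (M := M) hM f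
    (fun i j h => Subtype.ext (Lib.Blocks.isPBlock_eq_of_mem i.2.1 j.2.1 (hf i)
      (Lib.Blocks.mem_of_sameBlock j.2.1 (hf j) (Lib.Blocks.sameBlock_symm h)))) S
    (fun i C hC hp => by
      by_contra h
      exact hC ⟨_, Lib.Blocks.mk_classRep C, hp, i.2.2.trans
        (Lib.Blocks.BlockCount.blockDefect_le_of_omegaBar_ne_zero hM i.2.1 (hf i) h)⟩)
  haveI : Fintype ι := Fintype.ofFinite ι
  haveI : Fintype S := Fintype.ofFinite S
  have h := hli.fintype_card_le_finrank
  rw [Module.finrank_fintype_fun_eq_card, ← Nat.card_eq_fintype_card,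
    ← Nat.card_eq_fintype_card] at h
  exact h

end Cfsg.Agent.S0962
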