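import Cfsg.Statements.S0963
import Cfsg.Agent.Lib.Blocks.Covering

set_option autoImplicit false
open Cfsg

namespace Cfsg.Agent.S0963

open Cfsg.Agent.Lib.Blocks.Covering
open scoped ComplexConjugate

/-- Let N be a normal subgroup of the finite group G, χ an irreducible character of G and θ an irreducible character of N. Then θ occurs in the restriction of χ to N if and only if, for every n ∈ N, the central character of χ at n (class size in G times χ n over χ 1) equals the sum of θ m / θ 1 over the elements m of N conjugate in G to n. -/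
theorem result {G : Type*} [Group G] [Fintype G] (N : Subgroup G) [N.Normal] [Fintype N] (χ : Cfsg.IrrCharacter G) (θ : Cfsg.IrrCharacter N) : Cfsg.classInner (fun n : N => (χ : G → ℂ) n) (θ : N → ℂ) ≠ 0 ↔ ∀ n : N, Cfsg.centralChar (χ : G → ℂ) (n : G) = Cfsg.inducedCentralChar N (θ : N → ℂ) (n : G) := by
  classical
  refine ⟨fun h n => centralChar_eq_inducedCentralChar χ θ h n, fun h hzero => ?_⟩
  have : Fintype (ConjClasses G) := Fintype.ofFinite _
  let f : G → ℂ := fun g => if g ∈ N then conj ((χ : G → ℂ) g) else 0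
  have hf : IsClassFunction G f := by
    intro g k
    have hiff : k * g * k⁻¹ ∈ N ↔ g ∈ N := by
      refine ⟨fun h' => ?_, fun h' => ‹N.Normal›.conj_mem g h' k⟩
      have := ‹N.Normal›.conj_mem _ h' k⁻¹
      simpa [mul_assoc] using this
    simp only [f, hiff, Lib.Chars.irr_isClassFunction χ g k]
  have h1 := Lib.Blocks.HeightZero.sum_mul_div_eq_sum_inducedCentralChar N hf (θ : N → ℂ)
  have h2 := Lib.Blocks.HeightZero.sum_mul_div_eq_sum_centralChar hf (Lib.Chars.irr_isClassFunction χ)
  have h3 : ∑ n : N, f n * (θ : N → ℂ) n / (θ : N → ℂ) 1 = 0 := by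
    rw [← Finset.sum_div]
    have := congrArg conj hzero
    rw [classInner, map_mul, map_sum, map_zero] at this
    simp only [map_mul, Complex.conj_conj, mul_eq_zero, map_inv₀, map_natCast, inv_eq_zero,
      Lib.Chars.natCard_ne_zero, false_or] at this
    simp only [f, SetLike.coe_mem, if_true, this, zero_div]
  have h4 : ∑ g : G, f g * (χ : G → ℂ) g / (χ : G → ℂ) 1 = 0 := by
    rw [h2, ← h3, h1]
    refine Finset.sum_congr rfl fun C _ => ?_
    by_cases hC : Quotient.out C ∈ N
    · rw [h ⟨_, hC⟩]
    · simp [f, hC]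
  rw [← Finset.sum_div, div_eq_zero_iff] at h4
  have h5 : ∑ g : G, ((if g ∈ N then Complex.normSq ((χ : G → ℂ) g) else 0 : ℝ) : ℂ) = 0 := by
    rw [← h4.resolve_right (Lib.Chars.irr_apply_one_ne_zero χ)]
    refine Finset.sum_congr rfl fun g _ => ?_
    by_cases hg : g ∈ N
    · simp [f, hg, Complex.normSq_eq_conj_mul_self]
    · simp [f, hg]
  rw [← Complex.ofReal_sum, Complex.ofReal_eq_zero,
    Finset.sum_eq_zero_iff_of_nonneg fun g _ => by split_ifs <;> simp [Complex.normSq_nonneg]] at h5
  have h6 := h5 1 (Finset.mem_univ _)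
  rw [if_pos N.one_mem, Complex.normSq_eq_zero] at h6
  exact Lib.Chars.irr_apply_one_ne_zero χ h6

end Cfsg.Agent.S0963
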