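import Cfsg.Statements.S0966
import Cfsg.Agent.Lib.Blocks.Covering

set_option autoImplicit false
open Cfsg

namespace Cfsg.Agent.S0966

open Cfsg.Agent.Lib.Blocks.Covering
open scoped ComplexConjugate

/-- Let N be a normal subgroup of p-power index in the finite group G and b a block of N relative to a maximal ideal M of the algebraic integers containing p. Then there is exactly one block B of G containing a character whose restriction to N has a constituent in b. -/
theorem result {G : Type*} [Group G] [Fintype G] (p : ℕ) [Fact p.Prime] (M : Ideal Cfsg.AlgInt) (hM : Cfsg.IsPModular p M) (N : Subgroup G) [N.Normal] [Fintype N] (hidx : ∃ k : ℕ, N.index = p ^ k) (b : Set (Cfsg.IrrCharacter N)) (hb : Cfsg.IsPBlock M b) : ∃! B : Set (Cfsg.IrrCharacter G), Cfsg.IsPBlock M B ∧ ∃ χ ∈ B, ∃ θ ∈ b, Cfsg.classInner (fun n : N => (χ : G → ℂ) n) (θ : N → ℂ) ≠ 0 := by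
  classical
  have := Lib.Blocks.isPModular_isPrime hM
  obtain ⟨θ, hθ⟩ := Lib.Blocks.isPBlock_nonempty hb
  obtain ⟨χ, hχ⟩ : ∃ χ : IrrCharacter G,
      classInner (fun n : N => (χ : G → ℂ) n) (θ : N → ℂ) ≠ 0 := by
    by_contra! hall
    have h0 : ∀ χ : IrrCharacter G, classInner (indFun N (θ : N → ℂ)) (χ : G → ℂ) = 0 := fun χ => by
      rw [Lib.Chars.classInner_indFun_left N _ _ (Lib.Chars.irr_isClassFunction χ),
        ← Lib.Chars.conj_classInner, hall χ, map_zero]
    have h1 := Lib.Chars.eq_zero_of_forall_classInner_eq_zero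
      (Lib.Chars.isClassFunction_indFun N (θ : N → ℂ)) h0
    have h2 := congrFun h1 1
    rw [Lib.Chars.indFun_one_eq, Pi.zero_apply, mul_eq_zero] at h2
    exact h2.elim (Nat.cast_ne_zero.2 Subgroup.FiniteIndex.index_ne_zero)
      (Lib.Chars.irr_apply_one_ne_zero θ)
  refine ⟨blockOf M (χ : G → ℂ), ⟨Lib.Blocks.isPBlock_blockOf χ, χ, Lib.Blocks.mem_blockOf_self χ,
    θ, hθ, hχ⟩, ?_⟩
  rintro B ⟨hB, χ', hχ', θ', hθ', hcon⟩
  rw [Lib.Blocks.eq_blockOf_of_mem hB hχ']
  exact Lib.Blocks.blockOf_eq_of_sameBlock (sameBlock_of_common_block hM hidx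
    (Lib.Blocks.sameBlock_of_mem hb hθ' hθ) hcon hχ)

end Cfsg.Agent.S0966
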