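import Cfsg.Statements.S0967
import Cfsg.Agent.Lib.Blocks.Covering

set_option autoImplicit false
open Cfsg

namespace Cfsg.Agent.S0967

open Cfsg.Agent.Lib.Blocks.Covering

/-- Let N be a normal subgroup of the finite group G of order prime to p and fix a maximal ideal M of the algebraic integers containing p. If χ is an irreducible character of G ⧸ N and ψ lies in the block of its inflation χ ∘ (quotient map), then ψ is itself inflated from an irreducible character ψ' of G ⧸ N lying in the block of χ. (Over a normal p'-subgroup, blocks of the quotient are whole blocks of G.) -/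
theorem result {G : Type*} [Group G] [Finite G] (p : ℕ) [Fact p.Prime] (M : Ideal Cfsg.AlgInt) (hM : Cfsg.IsPModular p M) (N : Subgroup G) [N.Normal] (hN : ¬ p ∣ Nat.card N) (χ : Cfsg.IrrCharacter (G ⧸ N)) (ψ : Cfsg.IrrCharacter G) (hψ : ψ ∈ Cfsg.blockOf M ((χ : G ⧸ N → ℂ) ∘ QuotientGroup.mk)) : ∃ ψ' : Cfsg.IrrCharacter (G ⧸ N), (ψ : G → ℂ) = (ψ' : G ⧸ N → ℂ) ∘ QuotientGroup.mk ∧ Cfsg.SameBlock M (χ : G ⧸ N → ℂ) (ψ' : G ⧸ N → ℂ) := by
  classical
  cases nonempty_fintype G
  have := Lib.Blocks.isPModular_isPrime hM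
  have : Fintype N := Fintype.ofFinite _
  have : Fintype (G ⧸ N) := Fintype.ofFinite _
  let one : IrrCharacter N := ⟨fun _ => 1, Lib.Chars.isIrrCharacter_one⟩
  let χG : IrrCharacter G := Lib.Chars.inflate N χ
  have h1 : classInner (Lib.Clifford.resFun N (χG : G → ℂ)) (one : N → ℂ) ≠ 0 := by
    have e : ∀ n : N, (χ : G ⧸ N → ℂ) ((n : G) : G ⧸ N) = (χ : G ⧸ N → ℂ) 1 := fun n => by
      rw [(QuotientGroup.eq_one_iff (n : G)).2 n.2]
    simp [classInner, one, χG, Lib.Chars.inflate, Lib.Clifford.resFun, e,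
      Lib.Chars.irr_apply_one_ne_zero χ]
  have h2 := constituent_of_sameBlock (χ := χG) (χ' := ψ) (N := N) hM hN hψ h1
  have htriv := eq_one_of_sum_ne_zero (N := N) ψ (fun h0 => h2 (by
    simp only [classInner, one, Lib.Clifford.resFun, map_one, mul_one]
    exact mul_eq_zero_of_right _ h0))
  obtain ⟨ψ', hψ'⟩ := Lib.Chars.exists_irr_quotient N ψ fun x hx => htriv ⟨x, hx⟩
  refine ⟨ψ', funext fun g => (hψ' g).symm, fun q => ?_⟩
  let π := QuotientGroup.mk' N
  have hπ : Function.Surjective π := QuotientGroup.mk'_surjective N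
  have hN0 : ¬ MemLocalIdeal M (Nat.card N : ℂ) := by
    rwa [Lib.Blocks.memLocalIdeal_natCast_iff hM]
  have key : ∀ φ : IrrCharacter (G ⧸ N),
      ∑ g : G, Lib.Chars.classIndicator q (π g) * (φ : G ⧸ N → ℂ) (π g) / (φ : G ⧸ N → ℂ) (π 1) =
        (Nat.card N : ℂ) * centralChar (φ : G ⧸ N → ℂ) q := by
    intro φ
    rw [Lib.Chars.sum_comp_of_surjective π hπ
      (fun x => Lib.Chars.classIndicator q x * (φ : G ⧸ N → ℂ) x / (φ : G ⧸ N → ℂ) (π 1)),
      QuotientGroup.ker_mk', map_one,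
      ← centralChar_eq_sum_indicator (Lib.Chars.irr_isClassFunction φ)]
  have h := Lib.Blocks.HeightZero.eval_congr_self (f := fun g : G => Lib.Chars.classIndicator q (π g))
    (fun x y => by
      simp only [map_mul, map_inv]
      exact Lib.Chars.isClassFunction_classIndicator q (π x) (π y))
    (fun g => by
      simp only [Lib.Chars.classIndicator]
      split_ifs
      · exact Lib.Blocks.mem_localRing.1 (one_mem _)
      · exact Lib.Blocks.mem_localRing.1 (zero_mem _))
    (Lib.Chars.irr_isClassFunction χG) (Lib.Chars.irr_isClassFunction ψ) hψ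
  have e1 : ∀ g : G, (χG : G → ℂ) g = (χ : G ⧸ N → ℂ) (π g) := fun g => rfl
  have e2 : ∀ g : G, (ψ : G → ℂ) g = (ψ' : G ⧸ N → ℂ) (π g) := fun g => (hψ' g).symm
  simp only [e1, e2, key] at h
  rw [← mul_sub] at h
  have h' := Lib.Blocks.memLocalIdeal_mul_left
    (Lib.Blocks.inv_mem_localRing (Lib.Blocks.natCast_mem_localRing _) hN0) h
  rwa [← mul_assoc, inv_mul_cancel₀ (Nat.cast_ne_zero.2 Nat.card_pos.ne'), one_mul] at h'

end Cfsg.Agent.S0967
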