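import Cfsg.Statements.S0969
import Cfsg.Agent.Lib.Blocks.DefectCard
import Cfsg.Agent.Lib.Blocks.SecondMain
import Cfsg.Agent.Lib.Blocks.HeightZero
import Cfsg.Agent.Lib.Chars.Completeness

set_option autoImplicit false
open Cfsg

namespace Cfsg.Agent.S0969

open scoped ComplexConjugate
open Cfsg.Agent.Lib

universe u

variable {G : Type u} [Group G] [Finite G] {p : ℕ}

theorem ratio_not_memLocalIdeal {M : Ideal AlgInt} [M.IsPrime] (hM : IsPModular p M) {a b : ℕ}
    (ha : a ≠ 0) (hb : b ≠ 0) (h : a.factorization p = b.factorization p) :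
    ¬ MemLocalIdeal M ((a : ℂ) / b) := by
  intro hi
  have h1 := Blocks.memLocalIdeal_mul_right hi
    (Blocks.mem_localRing.1 (Blocks.natCast_div_mem_localRing hM (a := b) ha (Or.inl h.le)))
  have hc : (a : ℂ) / b * ((b : ℂ) / a) = ((1 : ℕ) : ℂ) := by
    have ha' : (a : ℂ) ≠ 0 := by exact_mod_cast ha
    have hb' : (b : ℂ) ≠ 0 := by exact_mod_cast hb
    rw [Nat.cast_one]; field_simp
  rw [hc, Blocks.memLocalIdeal_natCast_iff hM] at h1
  exact hM.1.not_dvd_one h1

/-- A central element acts as a root of unity. -/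
theorem exists_central_scalar {n : ℕ} (ρ : Representation ℂ G (Fin n → ℂ)) [ρ.IsIrreducible]
    {d : G} (hd : d ∈ Subgroup.center G) :
    ∃ c : ℂ, ‖c‖ = 1 ∧ ρ d = c • (1 : Module.End ℂ (Fin n → ℂ)) := by
  cases nonempty_fintype G
  obtain ⟨c, hc⟩ := Chars.exists_scalar_of_commute ρ (ρ d) fun h => by
    rw [← Module.End.mul_eq_comp, ← Module.End.mul_eq_comp, ← map_mul, ← map_mul,
      Subgroup.mem_center_iff.1 hd h]
  refine ⟨c, ?_, hc⟩
  have h1 : ρ d ^ orderOf d = 1 := by rw [← map_pow, pow_orderOf_eq_one, map_one]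
  rw [hc, smul_pow, one_pow] at h1
  haveI := Chars.nontrivial_of_isIrreducible ρ
  refine Chars.norm_eq_one_of_pow_eq_one (orderOf_pos d) ?_
  refine smul_left_injective ℂ (one_ne_zero (α := Module.End ℂ (Fin n → ℂ))) ?_
  simpa using h1

/-- The normalized sum over a class of the central quotient is integral. -/
theorem isIntegral_quot_class_value {n : ℕ} (ρ : Representation ℂ G (Fin n → ℂ)) [ρ.IsIrreducible]
    (D : Subgroup G) [D.Normal] (hDZ : D ≤ Subgroup.center G) (g : G) :
    IsIntegral ℤ ((Nat.card {q : G ⧸ D // IsConj (g : G ⧸ D) q} : ℂ) * ρ.character g /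
      ρ.character 1) := by
  classical
  cases nonempty_fintype G
  haveI : Fintype (G ⧸ D) := Fintype.ofFinite _
  rcases eq_or_ne (ρ.character g) 0 with h0 | h0
  · rw [h0]; simpa using isIntegral_zero
  set s : Finset (G ⧸ D) := Finset.univ.filter (IsConj (g : G ⧸ D)) with hs
  have hrep : ∀ q : G ⧸ D, ∃ t : G, q ∈ s → IsConj g t ∧ (t : G ⧸ D) = q := by
    intro q
    by_cases hq : q ∈ s
    · obtain ⟨c, hc⟩ := isConj_iff.1 (Finset.mem_filter.1 hq).2
      obtain ⟨a, rfl⟩ := QuotientGroup.mk_surjective c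
      exact ⟨a * g * a⁻¹, fun _ => ⟨isConj_iff.2 ⟨a, rfl⟩, hc⟩⟩
    · exact ⟨1, fun h => absurd h hq⟩
  choose t ht using hrep
  have hsame : ∀ t₁ t₂ : G, IsConj g t₁ → IsConj g t₂ → (t₁ : G ⧸ D) = t₂ → ρ t₁ = ρ t₂ := by
    intro t₁ t₂ h₁ h₂ he
    obtain ⟨a₁, rfl⟩ := isConj_iff.1 h₁
    obtain ⟨a₂, rfl⟩ := isConj_iff.1 h₂
    have hd := QuotientGroup.eq.1 he
    obtain ⟨c, -, hc⟩ := exists_central_scalar ρ (hDZ hd)
    have hmul : ρ (a₂ * g * a₂⁻¹) = c • ρ (a₁ * g * a₁⁻¹) := by
      rw [← mul_inv_cancel_left (a₁ * g * a₁⁻¹) (a₂ * g * a₂⁻¹), map_mul, hc, mul_smul_comm,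
        mul_one]
    have hχ := congrArg (LinearMap.trace ℂ (Fin n → ℂ)) hmul
    rw [map_smul, smul_eq_mul] at hχ
    change ρ.character (a₂ * g * a₂⁻¹) = c * ρ.character (a₁ * g * a₁⁻¹) at hχ
    rw [Representation.char_conj, Representation.char_conj] at hχ
    have hc1 : c = 1 := mul_right_cancel₀ h0 (by rw [one_mul]; exact hχ.symm)
    rw [hmul, hc1, one_smul]
  have hcomm : ∀ h : G, (∑ q ∈ s, ρ (t q)) ∘ₗ ρ h = ρ h ∘ₗ ∑ q ∈ s, ρ (t q) := by
    intro h
    simp only [← Module.End.mul_eq_comp, Finset.sum_mul, Finset.mul_sum, ← map_mul]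
    have hmem : ∀ q, q ∈ s → MulAut.conj (h : G ⧸ D) q ∈ s := fun q hq => by
      rw [hs, Finset.mem_filter] at hq ⊢
      exact ⟨Finset.mem_univ _, hq.2.trans (isConj_iff.2 ⟨_, rfl⟩)⟩
    symm
    refine Finset.sum_bij (fun q _ => MulAut.conj (h : G ⧸ D) q) hmem
      (fun _ _ _ _ e => (MulAut.conj (h : G ⧸ D)).injective e) (fun q hq => ?_) (fun q hq => ?_)
    · refine ⟨(MulAut.conj (h : G ⧸ D)).symm q, ?_, by simp [mul_assoc]⟩
      rw [hs, Finset.mem_filter] at hq ⊢
      exact ⟨Finset.mem_univ _, hq.2.trans (isConj_iff.2 ⟨(h : G ⧸ D)⁻¹, by simp [mul_assoc]⟩)⟩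
    · have hq' := ht _ (hmem q hq)
      have e : h * t q = (h * t q * h⁻¹) * h := by group
      rw [e, map_mul, map_mul ρ (t _) h]
      congr 1
      refine hsame _ _ ((ht q hq).1.trans (isConj_iff.2 ⟨h, rfl⟩)) hq'.1 ?_
      rw [hq'.2, QuotientGroup.mk_mul, QuotientGroup.mk_mul, QuotientGroup.mk_inv, (ht q hq).2,
        MulAut.conj_apply]
  obtain ⟨c, hc⟩ := Chars.exists_scalar_of_commute ρ _ hcomm
  have hint : IsIntegral ℤ (∑ q ∈ s, ρ (t q) : Module.End ℂ (Fin n → ℂ)) := by
    rw [← Finset.sum_image (f := fun x => ρ x) (fun q hq q' hq' e => by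
      rw [← (ht q hq).2, ← (ht q' hq').2, e])]
    exact Chars.isIntegral_sum_rep ρ _
  rw [hc, ← Algebra.algebraMap_eq_smul_one] at hint
  haveI := Chars.nontrivial_of_isIrreducible ρ
  have hcint : IsIntegral ℤ c :=
    (isIntegral_algebraMap_iff (algebraMap ℂ (Module.End ℂ (Fin n → ℂ))).injective).1 hint
  have hcard : s.card = Nat.card {q : G ⧸ D // IsConj (g : G ⧸ D) q} := by
    rw [Nat.card_eq_fintype_card, Fintype.card_subtype]
  have htr := congrArg (LinearMap.trace ℂ (Fin n → ℂ)) hc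
  rw [map_sum, map_smul, LinearMap.trace_one, smul_eq_mul,
    Finset.sum_congr rfl (g := fun _ => ρ.character g) (fun q hq => by
      obtain ⟨k, hk⟩ := isConj_iff.1 (ht q hq).1
      rw [← hk]
      exact ρ.char_conj g k), Finset.sum_const, nsmul_eq_mul, hcard] at htr
  rw [htr, Representation.char_one, mul_div_cancel_right₀]
  · exact hcint
  · exact_mod_cast (Chars.finrank_pos_of_isIrreducible ρ).ne'

variable [Fact p.Prime] {M : Ideal AlgInt} [M.IsPrime]

/-- Some element of the quotient class count has all three of the unit properties. -/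
theorem exists_unit_class (hM : IsPModular p M) (D : Subgroup G) [D.Normal]
    (hDZ : D ≤ Subgroup.center G) (χ : IrrCharacter G)
    (hdeg : (charDegree (χ : G → ℂ)).factorization p = D.index.factorization p) :
    ∃ g : G, ¬ MemLocalIdeal M ((χ : G → ℂ) g) ∧
      ¬ MemLocalIdeal M ((Nat.card {q : G ⧸ D // IsConj (g : G ⧸ D) q} : ℂ) * (χ : G → ℂ) g /
        (χ : G → ℂ) 1) := by
  classical
  cases nonempty_fintype G
  haveI : Fintype (G ⧸ D) := Fintype.ofFinite _
  haveI : Fintype (ConjClasses (G ⧸ D)) := Fintype.ofFinite _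
  obtain ⟨n, ρ, hρ, hχ⟩ := Chars.irr_exists_rep χ
  obtain ⟨hd1, hd0⟩ := Blocks.HeightZero.charDegree_eq χ
  let F : G → ℂ := fun g => (χ : G → ℂ) g * conj ((χ : G → ℂ) g)
  have hFD : ∀ g d : G, d ∈ D → F (g * d) = F g := by
    intro g d hd
    obtain ⟨c, hc1, hc⟩ := exists_central_scalar ρ (hDZ hd)
    have h : (χ : G → ℂ) (g * d) = c * (χ : G → ℂ) g := by
      rw [← hχ]
      show LinearMap.trace ℂ _ (ρ (g * d)) = _
      rw [map_mul, hc, mul_smul_comm, mul_one, map_smul, smul_eq_mul]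
      rfl
    simp only [F, h, map_mul]
    have : c * conj c = 1 := by rw [Complex.mul_conj', hc1]; simp
    linear_combination ((χ : G → ℂ) g * conj ((χ : G → ℂ) g)) * this
  have hFout : ∀ g : G, F (Quotient.out (g : G ⧸ D)) = F g := by
    intro g
    obtain ⟨d, hd⟩ := QuotientGroup.mk_out_eq_mul D g
    rw [hd]; exact hFD g d d.2
  have hsum : ∑ g : G, F g = (Nat.card G : ℂ) := by
    have h := Chars.classInner_irr_self χ
    rw [classInner] at h
    exact (inv_mul_eq_one₀ Chars.natCard_ne_zero).1 h |>.symm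
  have hq : ∑ q : G ⧸ D, F (Quotient.out q) = (D.index : ℂ) := by
    have h : (Nat.card D : ℂ) * ∑ q : G ⧸ D, F (Quotient.out q) = (Nat.card G : ℂ) := by
      rw [← hsum, Finset.mul_sum, ← Finset.sum_fiberwise Finset.univ (fun g : G => (g : G ⧸ D))]
      refine Finset.sum_congr rfl fun q _ => ?_
      rw [Finset.sum_congr rfl (g := fun _ => F (Quotient.out q)) (fun g hg => by
        rw [← hFout g, (Finset.mem_filter.1 hg).2]), Finset.sum_const, nsmul_eq_mul]
      congr 2
      obtain ⟨a, rfl⟩ := QuotientGroup.mk_surjective q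
      rw [← Fintype.card_subtype, ← Nat.card_eq_fintype_card]
      refine Nat.card_congr
        { toFun := fun d => ⟨a * d, by rw [QuotientGroup.mk_mul_of_mem a d.2]⟩
          invFun := fun x => ⟨a⁻¹ * x.1, QuotientGroup.eq.1 x.2.symm⟩
          left_inv := fun d => Subtype.ext (by simp)
          right_inv := fun x => Subtype.ext (by simp) }
    rw [← Subgroup.card_mul_index D, Nat.cast_mul] at h
    exact mul_left_cancel₀ (by exact_mod_cast Nat.card_pos.ne') h
  let G' := fun q : G ⧸ D => F (Quotient.out q)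
  have hG' : ∀ q q' : G ⧸ D, IsConj q q' → G' q = G' q' := by
    intro q q' h
    obtain ⟨c, hc⟩ := isConj_iff.1 h
    obtain ⟨a, rfl⟩ := QuotientGroup.mk_surjective c
    have hq' : ((a * Quotient.out q * a⁻¹ : G) : G ⧸ D) = q' := by
      rw [QuotientGroup.mk_mul, QuotientGroup.mk_mul, QuotientGroup.mk_inv, QuotientGroup.out_eq',
        hc]
    simp only [G']
    rw [← hq', hFout]
    simp only [F, Chars.irr_isClassFunction χ (Quotient.out q) a]
  rw [← Finset.sum_fiberwise Finset.univ (fun q : G ⧸ D => ConjClasses.mk q)] at hq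
  have hnot := ratio_not_memLocalIdeal hM (Subgroup.index_ne_zero_of_finite (H := D)) hd0
    hdeg.symm
  rw [← hq, hd1, Finset.sum_div] at hnot
  by_contra! hno
  refine hnot (Blocks.memLocalIdeal_sum _ _ fun C _ => ?_)
  obtain ⟨q₀, rfl⟩ := ConjClasses.exists_rep C
  set g := Quotient.out q₀ with hg
  have hgq : (g : G ⧸ D) = q₀ := QuotientGroup.out_eq' q₀
  rw [Finset.sum_congr rfl (g := fun _ => G' q₀) (fun q hq => by
    exact hG' q q₀ (ConjClasses.mk_eq_mk_iff_isConj.1 (Finset.mem_filter.1 hq).2)),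
    Finset.sum_const, nsmul_eq_mul]
  have hcard : (Finset.univ.filter (fun q : G ⧸ D => ConjClasses.mk q = ConjClasses.mk q₀)).card =
      Nat.card {q : G ⧸ D // IsConj (g : G ⧸ D) q} := by
    rw [Nat.card_eq_fintype_card, Fintype.card_subtype, hgq]
    congr 1
    ext q
    simp only [Finset.mem_filter, Finset.mem_univ, true_and, ConjClasses.mk_eq_mk_iff_isConj]
    exact ⟨IsConj.symm, IsConj.symm⟩
  rw [hcard]
  have hcint : MemLocalRing M ((Nat.card {q : G ⧸ D // IsConj (g : G ⧸ D) q} : ℂ) *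
      (χ : G → ℂ) g / (χ : G → ℂ) 1) := by
    rw [← hχ]
    exact Blocks.mem_localRing.1 (Blocks.isIntegral_mem_localRing (isIntegral_quot_class_value ρ D hDZ g))
  have hval : MemLocalRing M (conj ((χ : G → ℂ) g)) :=
    Blocks.mem_localRing.1 (Blocks.isIntegral_mem_localRing
      (Chars.isIntegral_conj (Chars.irr_isIntegral χ g)))
  have hvalg : MemLocalRing M ((χ : G → ℂ) g) :=
    Blocks.mem_localRing.1 (Blocks.isIntegral_mem_localRing (Chars.irr_isIntegral χ g))
  show MemLocalIdeal M (_ * F g / _)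
  by_cases h1 : MemLocalIdeal M ((χ : G → ℂ) g)
  · have e : ∀ a b c d : ℂ, a * (b * c) / d = b * (a * c / d) := fun a b c d => by ring
    rw [e]
    refine Blocks.memLocalIdeal_mul_right h1 ?_
    have hconjinv : conj ((χ : G → ℂ) g) = (χ : G → ℂ) g⁻¹ := (Chars.irr_inv χ g).symm
    have hsz : Nat.card {q : G ⧸ D // IsConj (g : G ⧸ D) q} =
        Nat.card {q : G ⧸ D // IsConj ((g⁻¹ : G) : G ⧸ D) q} := by
      refine Nat.card_congr (Equiv.subtypeEquiv (Equiv.inv _) fun q => ?_)
      rw [QuotientGroup.mk_inv]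
      simp only [Equiv.inv_apply, isConj_iff]
      refine exists_congr fun c => ⟨fun h => by rw [← h]; group, fun h => ?_⟩
      rw [← inv_inv q, ← h]; group
    rw [hconjinv, hsz, ← hχ]
    exact Blocks.mem_localRing.1 (Blocks.isIntegral_mem_localRing (isIntegral_quot_class_value ρ D hDZ g⁻¹))
  · have e : ∀ a b c d : ℂ, a * (b * c) / d = a * b / d * c := fun a b c d => by ring
    rw [e]
    exact Blocks.memLocalIdeal_mul_right (hno g h1) hval

theorem map_sylow_le (hM : IsPModular p M) (D : Subgroup G) [D.Normal] {g : G}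
    (hC : ¬ p ∣ Nat.card (Subgroup.centralizer ({(g : G ⧸ D)} : Set (G ⧸ D)))) {u : G}
    (hu : ∃ k, orderOf u = p ^ k) (hc : u * g = g * u) : u ∈ D := by
  have hmem : (u : G ⧸ D) ∈ Subgroup.centralizer ({(g : G ⧸ D)} : Set (G ⧸ D)) := by
    rw [Subgroup.mem_centralizer_singleton_iff, ← QuotientGroup.mk_mul, ← QuotientGroup.mk_mul, hc]
  obtain ⟨k, hk⟩ := hu
  have h1 : orderOf (u : G ⧸ D) ∣ p ^ k := hk ▸ orderOf_map_dvd (QuotientGroup.mk' D) u
  have h2 : orderOf (u : G ⧸ D) ∣
      Nat.card (Subgroup.centralizer ({(g : G ⧸ D)} : Set (G ⧸ D))) := by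
    have := orderOf_dvd_natCard (⟨(u : G ⧸ D), hmem⟩ : Subgroup.centralizer ({(g : G ⧸ D)} : Set (G ⧸ D)))
    rwa [Subgroup.orderOf_mk] at this
  have h3 : orderOf (u : G ⧸ D) = 1 :=
    Nat.eq_one_of_dvd_coprimes (Nat.Coprime.pow_left k (hM.1.coprime_iff_not_dvd.2 hC)) h1 h2
  rwa [orderOf_eq_one_iff, QuotientGroup.eq_one_iff] at h3


/-- Let D be a central p-subgroup of the finite group G and χ an irreducible character with the exponent of p in χ(1) equal to the exponent of p in the index of D; fix a maximal ideal M of the algebraic integers containing p. Then D is a defect group of the block of χ, and χ g = 0 whenever the p-part of g does not lie in D. -/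
theorem result {G : Type*} [Group G] [Finite G] (p : ℕ) [Fact p.Prime] (M : Ideal Cfsg.AlgInt) (hM : Cfsg.IsPModular p M) (D : Subgroup G) (hD : IsPGroup p D) (hDZ : D ≤ Subgroup.center G) (χ : Cfsg.IrrCharacter G) (hdeg : (Cfsg.charDegree (χ : G → ℂ)).factorization p = D.index.factorization p) : Cfsg.IsDefectGroup p M (Cfsg.blockOf M (χ : G → ℂ)) D ∧ ∀ g x : G, Cfsg.IsPPart p g x → x ∉ D → (χ : G → ℂ) g = 0 := by
  classical
  cases nonempty_fintype G
  have := Lib.Blocks.isPModular_isPrime hM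
  haveI hn : D.Normal := ⟨fun d hd g => by
    rw [Subgroup.mem_center_iff.1 (hDZ hd) g, mul_inv_cancel_right]; exact hd⟩
  obtain ⟨n, ρ, hρ, hχ⟩ := Lib.Chars.irr_exists_rep χ
  obtain ⟨hd1, hd0⟩ := Lib.Blocks.HeightZero.charDegree_eq χ
  obtain ⟨g, hg1, hg2⟩ := exists_unit_class hM D hDZ χ hdeg
  set nb := Nat.card {q : G ⧸ D // IsConj (g : G ⧸ D) q} with hnb
  set C := Subgroup.centralizer ({(g : G ⧸ D)} : Set (G ⧸ D)) with hC
  have hidx : nb * Nat.card C = D.index := by
    rw [hnb, Lib.Chars.card_conjClass_eq_index, Subgroup.index_mul_card]; rfl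
  have hnb0 : nb ≠ 0 := fun h => Subgroup.index_ne_zero_of_finite (H := D) (by rw [← hidx, h, zero_mul])
  have hv : nb.factorization p = (charDegree (χ : G → ℂ)).factorization p := by
    rcases lt_trichotomy (nb.factorization p) ((charDegree (χ : G → ℂ)).factorization p) with
      h | h | h
    · refine absurd ?_ hg1
      have e : (χ : G → ℂ) g = ((nb : ℂ) * (χ : G → ℂ) g / (χ : G → ℂ) 1) *
          ((charDegree (χ : G → ℂ) : ℂ) / (nb : ℂ)) := by
        rw [hd1]
        have h1 := Lib.Chars.irr_apply_one_ne_zero χ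
        have h2 : (nb : ℂ) ≠ 0 := by exact_mod_cast hnb0
        field_simp
      rw [e]
      refine Lib.Blocks.memLocalIdeal_mul_left ?_ (Lib.Blocks.memLocalIdeal_natCast_div hM hnb0 h)
      rw [← hχ]
      exact Lib.Blocks.mem_localRing.1 (Lib.Blocks.isIntegral_mem_localRing
        (isIntegral_quot_class_value ρ D hDZ g))
    · exact h
    · refine absurd ?_ hg2
      rw [mul_div_right_comm, ← hd1]
      exact Lib.Blocks.memLocalIdeal_mul_right (Lib.Blocks.memLocalIdeal_natCast_div hM hd0 h)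
        (Lib.Blocks.mem_localRing.1 (Lib.Blocks.isIntegral_mem_localRing
          (Lib.Chars.irr_isIntegral χ g)))
  have hp' : ¬ p ∣ Nat.card C := by
    intro hdvd
    have h1 := congrArg (fun m => m.factorization p) hidx
    simp only [Nat.factorization_mul hnb0 Nat.card_pos.ne', Finsupp.add_apply, ← hdeg, hv] at h1
    have := hM.1.factorization_pos_of_dvd Nat.card_pos.ne' hdvd
    omega
  obtain ⟨x, y, hxy, hcomm, hxo, hyo⟩ := Lib.Blocks.exists_isPPart (p := p) g
  have hxD : x ∈ D := map_sylow_le hM D hp' hxo (by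
    rw [← hxy, hcomm.eq, ← mul_assoc, hcomm.eq])
  obtain ⟨c, hc1, hc⟩ := exists_central_scalar ρ (hDZ hxD)
  have hval : (χ : G → ℂ) g = c * (χ : G → ℂ) y := by
    rw [← hχ, ← hxy]
    show LinearMap.trace ℂ _ (ρ (x * y)) = _
    rw [map_mul, hc, smul_mul_assoc, one_mul, map_smul, smul_eq_mul]
    rfl
  have hcint : IsIntegral ℤ c := by
    have h := Lib.Chars.isIntegral_sum_rep ρ {x}
    rw [Finset.sum_singleton, hc, ← Algebra.algebraMap_eq_smul_one] at h
    haveI := Lib.Chars.nontrivial_of_isIrreducible ρ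
    exact (isIntegral_algebraMap_iff (algebraMap ℂ (Module.End ℂ (Fin n → ℂ))).injective).1 h
  have hy1 : ¬ MemLocalIdeal M ((χ : G → ℂ) y) := fun h => hg1 (by
    rw [hval]
    exact Lib.Blocks.memLocalIdeal_mul_left
      (Lib.Blocks.mem_localRing.1 (Lib.Blocks.isIntegral_mem_localRing hcint)) h)
  have hgy : (g : G ⧸ D) = (y : G ⧸ D) := by
    rw [← hxy, QuotientGroup.mk_mul, (QuotientGroup.eq_one_iff x).2 hxD, one_mul]
  have hSy : ∀ Q : Subgroup G, IsPGroup p Q → y ∈ Subgroup.centralizer (Q : Set G) → Q ≤ D := by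
    intro Q hQ hy u hu
    obtain ⟨k, hk⟩ := IsPGroup.iff_orderOf.1 hQ ⟨u, hu⟩
    refine map_sylow_le hM D (g := y) (by rw [← hgy]; exact hp') ⟨k, by rw [← hk, Subgroup.orderOf_mk]⟩ ?_
    exact Subgroup.mem_centralizer_iff.1 hy u hu
  have hDdef : Lib.Blocks.IsClassDefect p y D := by
    have hle : D ≤ Subgroup.centralizer ({y} : Set G) := Lib.Blocks.le_centralizer_singleton_iff.2
      (Subgroup.mem_centralizer_iff.2 fun d hd => (Subgroup.mem_center_iff.1 (hDZ hd) y).symm)
    obtain ⟨D', hD', hge⟩ := Lib.Blocks.exists_isClassDefect_ge (g := y) hD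
      (Lib.Blocks.le_centralizer_singleton_iff.1 hle)
    have := hSy D' hD'.1 (Lib.Blocks.le_centralizer_singleton_iff.1 hD'.2.1)
    rwa [le_antisymm hge this]
  have hDfact : (Subgroup.centralizer ({y} : Set G)).index.factorization p =
      (charDegree (χ : G → ℂ)).factorization p := by
    have h1 := congrArg (fun m => m.factorization p)
      (Subgroup.index_mul_card (Subgroup.centralizer ({y} : Set G)))
    have h2 := congrArg (fun m => m.factorization p) (Subgroup.card_mul_index D)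
    simp only [Nat.factorization_mul Subgroup.index_ne_zero_of_finite Nat.card_pos.ne',
      Nat.factorization_mul Nat.card_pos.ne' (Subgroup.index_ne_zero_of_finite (H := D)),
      Finsupp.add_apply, ← hdeg] at h1 h2
    have h3 : (Nat.card D).factorization p =
        (Nat.card (Subgroup.centralizer ({y} : Set G))).factorization p := by
      rw [hDdef.2.2, Nat.Prime.factorization_pow hM.1]; simp
    omega
  have hω : ¬ MemLocalIdeal M (centralChar (χ : G → ℂ) y) := by
    intro h
    rw [centralChar, mul_div_right_comm, ← hd1] at h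
    refine hy1 ?_
    have hr := Lib.Blocks.natCast_div_mem_localRing (M := M) hM
      (a := charDegree (χ : G → ℂ)) (Subgroup.index_ne_zero_of_finite (H := Subgroup.centralizer ({y} : Set G)))
      (Or.inl hDfact.le)
    have h' := Lib.Blocks.memLocalIdeal_mul_left (Lib.Blocks.mem_localRing.1 hr) h
    convert h' using 1
    have h1 : (charDegree (χ : G → ℂ) : ℂ) ≠ 0 := by exact_mod_cast hd0
    have h2 : ((Subgroup.centralizer ({y} : Set G)).index : ℂ) ≠ 0 := by
      exact_mod_cast Subgroup.index_ne_zero_of_finite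
    field_simp
  set B := blockOf M (χ : G → ℂ) with hBdef
  have hB : IsPBlock M B := Lib.Blocks.isPBlock_blockOf χ
  have hall : ∀ D' : Subgroup G, IsDefectGroup p M B D' → D' = D := by
    intro D' hD'
    obtain ⟨z, hyz, hz⟩ := Lib.Blocks.exists_conj_mem_centralizer_defectGroup hM hB hD'
      (Lib.Blocks.mem_blockOf_self χ) hω
    obtain ⟨a, ha⟩ := Lib.Blocks.exists_conj_le_of_isConj
      (Lib.Blocks.isPGroup_of_isDefectGroup hD') hz hyz hDdef
    obtain ⟨g', hg', hgD'⟩ := Lib.Blocks.isDefectGroup_iff.1 hD'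
    obtain ⟨D'', hD'', hge⟩ := Lib.Blocks.exists_isDefectGroup_ge hM hB hD (h := g')
      (Subgroup.mem_centralizer_iff.2 fun d hd => (Subgroup.mem_center_iff.1 (hDZ hd) g').symm)
      hg'.2.1
    have hc' : Nat.card D' ≤ Nat.card D := by
      have := Subgroup.card_le_of_le ha
      rwa [Subgroup.card_map_of_injective (MulAut.conj a).injective] at this
    obtain ⟨b, rfl⟩ := Lib.Blocks.isDefectGroup_conjugate hM hB hD' hD''
    have heq : D'.map (MulAut.conj b).toMonoidHom = D := (Subgroup.eq_of_le_of_card_ge hge (by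
      rw [Subgroup.card_map_of_injective (MulAut.conj b).injective]; exact hc')).symm
    ext u
    rw [← Subgroup.mem_map_iff_mem (f := (MulAut.conj b).toMonoidHom) (MulAut.conj b).injective, heq]
    constructor
    · intro hu
      have h := hn.conj_mem _ hu b⁻¹
      simpa [mul_assoc] using h
    · intro hu
      exact hn.conj_mem _ hu b
  obtain ⟨D₀, hD₀⟩ := Lib.Blocks.exists_isDefectGroup (p := p) hB
  refine ⟨hall D₀ hD₀ ▸ hD₀, fun g' x' hx' hx'D => ?_⟩
  exact Lib.Blocks.char_eq_zero_of_pPart_notMem hM χ hx' fun D' hD' => (hall D' hD').symm ▸ hx'D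

end Cfsg.Agent.S0969
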