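import Cfsg.Statements.S0970
import Cfsg.Agent.Lib.Blocks.Covering
import Cfsg.Agent.Lib.Blocks.DefectProps

set_option autoImplicit false
open Cfsg

namespace Cfsg.Agent.S0970

open scoped ComplexConjugate
open Cfsg.Agent.Lib
open Cfsg.Agent.Lib.Clifford (conjFun resFun)

universe u

variable {G : Type u} [Group G] [Fintype G] {N : Subgroup G} [hN : N.Normal] [Fintype N] {p : ℕ}
  [Fact p.Prime] {M : Ideal AlgInt} [M.IsPrime]

/-- In a union of blocks a unit idempotent coefficient comes from one of the blocks. -/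
theorem exists_block_unit {A : Set (IrrCharacter G)}
    (hA : ∀ φ ∈ A, ∀ φ' : IrrCharacter G, SameBlock M (φ : G → ℂ) (φ' : G → ℂ) → φ' ∈ A) {g : G}
    (hg : ¬ MemLocalIdeal M (blockCoeff A g)) :
    ∃ χ ∈ A, ¬ MemLocalIdeal M (blockCoeff (blockOf M (χ : G → ℂ)) g) := by
  classical
  have key : ∀ n : ℕ, ∀ A : Set (IrrCharacter G), A.ncard = n →
      (∀ φ ∈ A, ∀ φ' : IrrCharacter G, SameBlock M (φ : G → ℂ) (φ' : G → ℂ) → φ' ∈ A) →
      (∀ φ ∈ A, MemLocalIdeal M (blockCoeff (blockOf M (φ : G → ℂ)) g)) →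
      MemLocalIdeal M (blockCoeff A g) := by
    intro n
    induction n using Nat.strong_induction_on with
    | _ n ih =>
      intro A hn hA hall
      by_cases hne : A.Nonempty
      · obtain ⟨φ, hφ⟩ := hne
        have hsub : blockOf M (φ : G → ℂ) ⊆ A := fun ψ hψ => hA φ hφ ψ hψ
        have hlt : (A \ blockOf M (φ : G → ℂ)).ncard < n := by
          rw [← hn]
          exact Set.ncard_lt_ncard ⟨Set.diff_subset, fun h => (h hφ).2 (Blocks.sameBlock_refl _)⟩
        have h1 := ih _ hlt (A \ blockOf M (φ : G → ℂ)) rfl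
          (fun ψ hψ ψ' h => ⟨hA ψ hψ.1 ψ' h,
            fun h' => hψ.2 (Blocks.sameBlock_trans h' (Blocks.sameBlock_symm h))⟩)
          (fun ψ hψ => hall ψ hψ.1)
        have heq : blockCoeff A g =
            blockCoeff (blockOf M (φ : G → ℂ)) g + blockCoeff (A \ blockOf M (φ : G → ℂ)) g := by
          rw [Blocks.blockCoeff_eq_sum, Blocks.blockCoeff_eq_sum, Blocks.blockCoeff_eq_sum, ← mul_add,
            ← Finset.sum_add_distrib]
          congr 1
          refine Finset.sum_congr rfl fun ψ _ => ?_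
          by_cases h2 : ψ ∈ blockOf M (φ : G → ℂ)
          · rw [if_pos (hsub h2), if_pos h2, if_neg (fun h => h.2 h2), add_zero]
          · by_cases h3 : ψ ∈ A
            · rw [if_pos h3, if_neg h2, if_pos ⟨h3, h2⟩, zero_add]
            · rw [if_neg h3, if_neg h2, if_neg (fun h => h3 h.1), add_zero]
        rw [heq]
        exact Blocks.memLocalIdeal_add (hall φ hφ) h1
      · rw [Set.not_nonempty_iff_eq_empty.1 hne, Blocks.blockCoeff_eq_sum]
        simpa using Blocks.memLocalIdeal_zero
  by_contra! h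
  exact hg (key _ A rfl hA h)

/-- The idempotent of an invariant block of `N` is that of the set of characters covering it. -/
theorem coverWeight_eq_blockCoeff {b : Set (IrrCharacter N)} (hb : IsPBlock M b)
    (hbc : Blocks.Covering.conjClosure b = b) (g : G) :
    Blocks.Covering.coverWeight b g =
      blockCoeff {χ : IrrCharacter G | ∃ θ ∈ b, classInner (resFun N (χ : G → ℂ)) (θ : N → ℂ) ≠ 0} g := by
  classical
  set A : Set (IrrCharacter G) :=
    {χ | ∃ θ ∈ b, classInner (resFun N (χ : G → ℂ)) (θ : N → ℂ) ≠ 0} with hA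
  let z : MonoidAlgebra ℂ G := Blocks.ofFun (Blocks.Covering.coverWeight b)
  have hz : z ∈ Subalgebra.center ℂ (MonoidAlgebra ℂ G) := by
    rw [Blocks.mem_center_iff]
    intro x c
    simp only [z, Blocks.coeff_ofFun]
    exact Blocks.Covering.isClassFunction_coverWeight b x c
  have h : z = Blocks.idemC A := Blocks.eq_of_omega_eq hz (Blocks.idemC_mem_center A) fun χ => by
    rw [Blocks.omega_idemC, Blocks.omega_eq_sum]
    obtain ⟨φ, hφ⟩ := Blocks.Covering.exists_constituent (N := N) χ
    have e := Blocks.Covering.sum_coverWeight_mul_chi b χ φ hφ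
    simp only [z, Blocks.coeff_ofFun, ← mul_div_assoc]
    rw [e, hbc]
    by_cases hχ : χ ∈ A
    · rw [if_pos hχ, if_pos]
      obtain ⟨θ, hθ, hcon⟩ := hχ
      have := Blocks.Covering.constituent_mem_conjClosure hb (Blocks.sameBlock_refl (χ : G → ℂ)) hθ hcon hφ
      rwa [hbc] at this
    · rw [if_neg hχ, if_neg]
      exact fun h' => hχ ⟨φ, h', hφ⟩
  have := congrArg (fun w : MonoidAlgebra ℂ G => w.coeff g) h
  simpa [z, Blocks.idemC] using this

theorem map_centralizer_singleton_equiv {H : Type*} [Group H] (σ : H ≃* H) (x : H) :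
    (Subgroup.centralizer ({x} : Set H)).map σ.toMonoidHom = Subgroup.centralizer ({σ x} : Set H) := by
  ext w
  rw [Subgroup.mem_centralizer_singleton_iff]
  constructor
  · rintro ⟨v, hv, rfl⟩
    rw [SetLike.mem_coe, Subgroup.mem_centralizer_singleton_iff] at hv
    show σ v * σ x = σ x * σ v
    rw [← map_mul, hv, map_mul]
  · intro hw
    refine ⟨σ.symm w, ?_, σ.apply_symm_apply w⟩
    rw [SetLike.mem_coe, Subgroup.mem_centralizer_singleton_iff]
    apply σ.injective
    rw [map_mul, map_mul, σ.apply_symm_apply, hw]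

theorem card_centralizer_conjNormal (a : G) (x : N) :
    Nat.card (Subgroup.centralizer ({MulAut.conjNormal a x} : Set N)) =
      Nat.card (Subgroup.centralizer ({x} : Set N)) := by
  rw [← map_centralizer_singleton_equiv, Subgroup.card_map_of_injective (f := (MulAut.conjNormal a).toMonoidHom) (MulAut.conjNormal a).injective]

/-- If the class of `x ∈ N` has nonzero central character, its class splits in `N` a `p'` number of
times. -/
theorem factorization_centralizer (hM : IsPModular p M) {b : Set (IrrCharacter N)}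
    (hb : IsPBlock M b) (hinv : ∀ (a : G) (θ : IrrCharacter N), θ ∈ b →
      (⟨_, Clifford.isIrrCharacter_conjFun a θ.2⟩ : IrrCharacter N) ∈ b)
    {θ : IrrCharacter N} (hθ : θ ∈ b) (x : N)
    (hx : ¬ MemLocalIdeal M (inducedCentralChar N (θ : N → ℂ) (x : G))) :
    ¬ MemLocalIdeal M (centralChar (θ : N → ℂ) x) ∧
      (Nat.card (Subgroup.centralizer ({(x : G)} : Set G))).factorization p =
        (Nat.card (Subgroup.centralizer ({x} : Set N))).factorization p + N.index.factorization p := by
  classical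
  haveI := Fintype.ofFinite (ConjClasses N)
  let f : N → ℂ := fun h => Chars.classIndicator (x : G) (h : G)
  have hf : IsClassFunction N f := fun g k => by
    simp only [f, Subgroup.coe_mul, Subgroup.coe_inv]
    exact Chars.isClassFunction_classIndicator (x : G) (g : G) (k : G)
  have hcong : ∀ h : N, IsConj (x : G) (h : G) →
      MemLocalIdeal M (centralChar (θ : N → ℂ) h - centralChar (θ : N → ℂ) x) ∧
        (Subgroup.centralizer ({h} : Set N)).index = (Subgroup.centralizer ({x} : Set N)).index := by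
    intro h hh
    obtain ⟨a, ha⟩ := isConj_iff.1 hh
    obtain rfl : h = MulAut.conjNormal a x := Subtype.ext (by rw [MulAut.conjNormal_apply]; exact ha.symm)
    refine ⟨?_, ?_⟩
    · rw [← Blocks.Covering.centralChar_conjFun]
      exact Blocks.sameBlock_of_mem hb (hinv a θ hθ) hθ x
    · refine Nat.eq_of_mul_eq_mul_right (Nat.card_pos (α := Subgroup.centralizer ({x} : Set N))) ?_
      rw [Subgroup.index_mul_card, ← card_centralizer_conjNormal a x, Subgroup.index_mul_card]
  set T : Finset (ConjClasses N) :=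
    Finset.univ.filter (fun C => IsConj (x : G) ((Quotient.out C : N) : G)) with hT
  have hind : inducedCentralChar N (θ : N → ℂ) (x : G) =
      ∑ C ∈ T, centralChar (θ : N → ℂ) (Quotient.out C) := by
    rw [Blocks.Covering.inducedCentralChar_eq_sum_indicator,
      Blocks.HeightZero.sum_mul_div_eq_sum_centralChar hf (Chars.irr_isClassFunction θ), hT,
      Finset.sum_filter]
    refine Finset.sum_congr rfl fun C _ => ?_
    simp only [f, Chars.classIndicator, ite_mul, one_mul, zero_mul]
  have hcount : ((Subgroup.centralizer ({(x : G)} : Set G)).index : ℂ) =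
      (T.card : ℂ) * ((Subgroup.centralizer ({x} : Set N)).index : ℂ) := by
    have e1 : ((Subgroup.centralizer ({(x : G)} : Set G)).index : ℂ) =
        ∑ h : N, f h * (fun _ : N => (1 : ℂ)) h / (fun _ : N => (1 : ℂ)) 1 := by
      have h1 := Blocks.Covering.centralChar_eq_sum_indicator (χ := fun _ : G => (1 : ℂ))
        (fun _ _ => rfl) (x : G)
      rw [centralChar, mul_one, div_one] at h1
      rw [h1, Blocks.Covering.sum_eq_sum_normal (N := N) fun g hg => ?_]
      have hne : ¬ IsConj (x : G) g := fun hc => hg (by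
        obtain ⟨a, rfl⟩ := isConj_iff.1 hc
        exact hN.conj_mem _ x.2 a)
      simp only [Chars.classIndicator, if_neg hne, zero_mul, zero_div]
    rw [e1, Blocks.HeightZero.sum_mul_div_eq_sum_centralChar (χ := fun _ : N => (1 : ℂ)) hf
      (fun _ _ => rfl)]
    rw [show (T.card : ℂ) * ((Subgroup.centralizer ({x} : Set N)).index : ℂ) =
      ∑ C ∈ T, ((Subgroup.centralizer ({x} : Set N)).index : ℂ) by rw [Finset.sum_const, nsmul_eq_mul],
      hT, Finset.sum_filter]
    refine Finset.sum_congr rfl fun C _ => ?_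
    simp only [f, Chars.classIndicator, centralChar]
    split_ifs with h
    · rw [(hcong _ h).2]; simp
    · simp
  have hsum : MemLocalIdeal M (inducedCentralChar N (θ : N → ℂ) (x : G) -
      (T.card : ℂ) * centralChar (θ : N → ℂ) x) := by
    rw [hind, ← nsmul_eq_mul, ← Finset.sum_const, ← Finset.sum_sub_distrib]
    exact Blocks.memLocalIdeal_sum _ _ fun C hC => (hcong _ (Finset.mem_filter.1 hC).2).1
  have hnot : ¬ MemLocalIdeal M ((T.card : ℂ) * centralChar (θ : N → ℂ) x) := fun h => hx (by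
    simpa using Blocks.memLocalIdeal_add hsum h)
  have hTp : ¬ p ∣ T.card := fun h => hnot (Blocks.memLocalIdeal_mul_right
    ((Blocks.memLocalIdeal_natCast_iff hM _).2 h)
    (Blocks.mem_localRing.1 (Blocks.centralChar_mem_localRing θ x)))
  refine ⟨fun h => hnot (Blocks.memLocalIdeal_mul_left
    (Blocks.mem_localRing.1 (Blocks.natCast_mem_localRing _)) h), ?_⟩
  have hcountN : (Subgroup.centralizer ({(x : G)} : Set G)).index =
      T.card * (Subgroup.centralizer ({x} : Set N)).index := by exact_mod_cast hcount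
  have hT0 : T.card ≠ 0 := fun h => hTp (h ▸ dvd_zero p)
  have h1 := congrArg (fun m => m.factorization p)
    (Subgroup.index_mul_card (Subgroup.centralizer ({(x : G)} : Set G)))
  have h2 := congrArg (fun m => m.factorization p)
    (Subgroup.index_mul_card (Subgroup.centralizer ({x} : Set N)))
  have h3 := congrArg (fun m => m.factorization p) (Subgroup.card_mul_index N)
  rw [hcountN] at h1
  simp only [Nat.factorization_mul (Nat.mul_ne_zero hT0 Subgroup.index_ne_zero_of_finite) Nat.card_pos.ne',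
    Nat.factorization_mul hT0 Subgroup.index_ne_zero_of_finite,
    Nat.factorization_mul (Subgroup.index_ne_zero_of_finite (H := Subgroup.centralizer ({x} : Set N)))
      Nat.card_pos.ne',
    Nat.factorization_mul Nat.card_pos.ne' (Subgroup.index_ne_zero_of_finite (H := N)),
    Finsupp.add_apply, Nat.factorization_eq_zero_of_not_dvd hTp] at h1 h2 h3
  omega


/-- Let N be a normal subgroup of the finite group G and fix a maximal ideal M of the algebraic integers containing the prime p. Let b be a block of N that is invariant under conjugation by G, and B a block of G covering b (some χ ∈ B has a constituent in b) whose defect is at least that of every block covering b. If P is a defect group of B, then p does not divide the index of P ⊔ N, the subgroup P ∩ N of N is a defect group of b, and the defect of B equals the defect of b plus the exponent of p in the index of N. -/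
theorem result {G : Type*} [Group G] [Fintype G] (p : ℕ) [Fact p.Prime] (M : Ideal Cfsg.AlgInt) (hM : Cfsg.IsPModular p M) (N : Subgroup G) [hN : N.Normal] [Fintype N] (b : Set (Cfsg.IrrCharacter N)) (hb : Cfsg.IsPBlock M b) (hinv : ∀ g : G, ∀ θ ∈ b, ∀ θ' : Cfsg.IrrCharacter N, (∀ n : N, (θ' : N → ℂ) n = (θ : N → ℂ) ⟨g * n * g⁻¹, hN.conj_mem n n.2 g⟩) → θ' ∈ b) (B : Set (Cfsg.IrrCharacter G)) (hB : Cfsg.IsPBlock M B) (hcov : ∃ χ ∈ B, ∃ θ ∈ b, Cfsg.classInner (fun n : N => (χ : G → ℂ) n) (θ : N → ℂ) ≠ 0) (hmax : ∀ B' : Set (Cfsg.IrrCharacter G), Cfsg.IsPBlock M B' → (∃ χ ∈ B', ∃ θ ∈ b, Cfsg.classInner (fun n : N => (χ : G → ℂ) n) (θ : N → ℂ) ≠ 0) → Cfsg.blockDefect p B' ≤ Cfsg.blockDefect p B) (P : Subgroup G) (hP : Cfsg.IsDefectGroup p M B P) : ¬ p ∣ (P ⊔ N).index ∧ Cfsg.IsDefectGroup p M b ((P ⊓ N).subgroupOf N) ∧ Cfsg.blockDefect p B = Cfsg.blockDefect p b + N.index.factorization p := by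
  classical
  have := Lib.Blocks.isPModular_isPrime hM
  have hinv' : ∀ (a : G) (θ : IrrCharacter N), θ ∈ b →
      (⟨_, Lib.Clifford.isIrrCharacter_conjFun a θ.2⟩ : IrrCharacter N) ∈ b :=
    fun a θ hθ => hinv a θ hθ _ fun n => rfl
  have hbc : Lib.Blocks.Covering.conjClosure b = b := by
    refine Set.Subset.antisymm ?_ fun θ hθ => Lib.Blocks.Covering.mem_conjClosure_self hθ
    rintro φ ⟨a, θ, hθ, he⟩
    have e : (⟨_, Lib.Clifford.isIrrCharacter_conjFun a θ.2⟩ : IrrCharacter N) = φ := Subtype.ext he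
    exact e ▸ hinv' a θ hθ
  obtain ⟨χ, hχ, θ, hθ, hcon⟩ := hcov
  haveI := Fintype.ofFinite (ConjClasses G)
  have hone : ∑ C : ConjClasses G, Lib.Blocks.Covering.coverWeight b (Quotient.out C) *
      centralChar (χ : G → ℂ) (Quotient.out C) = 1 := by
    rw [← Lib.Blocks.HeightZero.sum_mul_div_eq_sum_centralChar
      (Lib.Blocks.Covering.isClassFunction_coverWeight b) (Lib.Chars.irr_isClassFunction χ),
      Lib.Blocks.Covering.sum_coverWeight_mul_chi b χ θ hcon,
      if_pos (Lib.Blocks.Covering.mem_conjClosure_self hθ)]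
  obtain ⟨C, hC⟩ : ∃ C : ConjClasses G,
      ¬ MemLocalIdeal M (Lib.Blocks.Covering.coverWeight b (Quotient.out C)) ∧
        ¬ MemLocalIdeal M (centralChar (χ : G → ℂ) (Quotient.out C)) := by
    by_contra! hno
    refine Lib.Blocks.not_memLocalIdeal_one (M := M) ?_
    rw [← hone]
    refine Lib.Blocks.memLocalIdeal_sum _ _ fun C _ => ?_
    by_cases h : MemLocalIdeal M (Lib.Blocks.Covering.coverWeight b (Quotient.out C))
    · exact Lib.Blocks.memLocalIdeal_mul_right h
        (Lib.Blocks.mem_localRing.1 (Lib.Blocks.centralChar_mem_localRing χ _))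
    · exact Lib.Blocks.memLocalIdeal_mul_left (Lib.Blocks.Covering.memLocalRing_coverWeight hb _) (hno C h)
  obtain ⟨hcw, hω⟩ := hC
  have hxN : Quotient.out C ∈ N := by
    by_contra h
    exact hcw (by simpa [Lib.Blocks.Covering.coverWeight, h] using Lib.Blocks.memLocalIdeal_zero)
  obtain ⟨x, hx⟩ : ∃ x : N, (x : G) = Quotient.out C := ⟨⟨_, hxN⟩, rfl⟩
  rw [← hx] at hcw hω
  have hind : ¬ MemLocalIdeal M (inducedCentralChar N (θ : N → ℂ) (x : G)) := by
    rwa [← Lib.Blocks.Covering.centralChar_eq_inducedCentralChar χ θ hcon x]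
  obtain ⟨hθx, hval⟩ := factorization_centralizer hM hb hinv' hθ x hind
  rw [Lib.Blocks.Covering.coverWeight_coe, hbc] at hcw
  have hxdef : IsDefectClass M b x := by
    refine ⟨Lib.Blocks.memLocalRing_blockCoeff hb x, hcw, fun θ' hθ' h => hθx ?_⟩
    simpa using Lib.Blocks.memLocalIdeal_add (Lib.Blocks.sameBlock_of_mem hb hθ hθ' x) h
  obtain ⟨D, hD⟩ := Lib.Blocks.exists_isClassDefect (p := p) x
  have hxD : x ∈ Subgroup.centralizer (D : Set N) :=
    Lib.Blocks.le_centralizer_singleton_iff.1 hD.2.1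
  have hxDG : (x : G) ∈ Subgroup.centralizer ((D.map N.subtype : Subgroup G) : Set G) :=
    Lib.Blocks.map_mem_centralizer_of_mem hxD
  obtain ⟨Q, hQ, hDQ⟩ := Lib.Blocks.exists_isClassDefect_ge (g := (x : G)) (hD.1.map N.subtype) hxDG
  have hdb : Nat.card D = p ^ blockDefect p b :=
    Lib.Blocks.card_defectGroup hM hb (Lib.Blocks.isDefectGroup_iff.2 ⟨x, hxdef, hD⟩)
  have hQcard : Nat.card Q = p ^ (blockDefect p b + N.index.factorization p) := by
    rw [hQ.2.2, hval, pow_add, pow_add, ← hD.2.2, hdb]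
  -- a covering block with a defect group containing Q
  set A : Set (IrrCharacter G) :=
    {χ | ∃ θ ∈ b, classInner (Lib.Clifford.resFun N (χ : G → ℂ)) (θ : N → ℂ) ≠ 0} with hA
  have hAsat : ∀ φ ∈ A, ∀ φ' : IrrCharacter G, SameBlock M (φ : G → ℂ) (φ' : G → ℂ) → φ' ∈ A := by
    rintro φ ⟨η, hη, hηc⟩ φ' hs
    obtain ⟨ψ, hψ⟩ := Lib.Blocks.Covering.exists_constituent (N := N) φ'
    have := Lib.Blocks.Covering.constituent_mem_conjClosure hb hs hη hηc hψ
    rw [hbc] at this
    exact ⟨ψ, this, hψ⟩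
  obtain ⟨χ', hχ', hunit⟩ := exists_block_unit hAsat (g := (x : G)) (by
    rw [← coverWeight_eq_blockCoeff hb hbc, Lib.Blocks.Covering.coverWeight_coe, hbc]; exact hcw)
  have hB' := Lib.Blocks.isPBlock_blockOf (M := M) χ'
  obtain ⟨D', hD', hQD'⟩ := Lib.Blocks.exists_isDefectGroup_ge hM hB' hQ.1
    (Lib.Blocks.le_centralizer_singleton_iff.1 hQ.2.1) hunit
  obtain ⟨η, hη, hηc⟩ := hχ'
  have hle := hmax _ hB' ⟨χ', Lib.Blocks.mem_blockOf_self χ', η, hη, hηc⟩
  have hQP : Nat.card Q ≤ Nat.card P := by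
    refine (Subgroup.card_le_of_le hQD').trans ?_
    rw [Lib.Blocks.card_defectGroup hM hB' hD', Lib.Blocks.card_defectGroup hM hB hP]
    exact Nat.pow_le_pow_right (Fact.out : p.Prime).pos hle
  obtain ⟨z, hxz, hz⟩ := Lib.Blocks.exists_conj_mem_centralizer_defectGroup hM hB hP hχ hω
  obtain ⟨a, ha⟩ := Lib.Blocks.exists_conj_le_of_isConj (Lib.Blocks.isPGroup_of_isDefectGroup hP) hz hxz hQ
  have hPQ : P = Q.map (MulAut.conj a).toMonoidHom := Subgroup.eq_of_le_of_card_ge ha
    ((Subgroup.card_map_of_injective (MulAut.conj a).injective).le.trans hQP)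
  have hdB : blockDefect p B = blockDefect p b + N.index.factorization p := by
    refine Nat.pow_right_injective (Fact.out : p.Prime).two_le ?_
    show p ^ blockDefect p B = p ^ _
    rw [← Lib.Blocks.card_defectGroup hM hB hP, hPQ,
      Subgroup.card_map_of_injective (MulAut.conj a).injective, hQcard]
  set x' : N := MulAut.conjNormal a x with hx'
  set D₂ := (P ⊓ N).subgroupOf N with hD₂
  have hD₂p : IsPGroup p D₂ := ((Lib.Blocks.isPGroup_of_isDefectGroup hP).to_le inf_le_left).of_equiv
    (Subgroup.subgroupOfEquivOfLe inf_le_right).symm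
  have hD₂c : D₂ ≤ Subgroup.centralizer ({x'} : Set N) := by
    rintro n hn
    have hn' : (n : G) ∈ P := hn.1
    rw [hPQ] at hn'
    obtain ⟨q, hq, hqn⟩ := hn'
    have h := hQ.2.1 hq
    rw [Subgroup.mem_centralizer_singleton_iff] at h ⊢
    refine Subtype.ext ?_
    rw [Subgroup.coe_mul, Subgroup.coe_mul, hx', MulAut.conjNormal_apply, ← hqn]
    show a * q * a⁻¹ * (a * (x : G) * a⁻¹) = a * (x : G) * a⁻¹ * (a * q * a⁻¹)
    calc a * q * a⁻¹ * (a * (x : G) * a⁻¹) = a * (q * (x : G)) * a⁻¹ := by group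
      _ = a * ((x : G) * q) * a⁻¹ := by rw [h]
      _ = _ := by group
  have hx'def : IsDefectClass M b x' := by
    refine ⟨Lib.Blocks.memLocalRing_blockCoeff hb x', ?_, fun θ' hθ' => ?_⟩
    · have e := Lib.Blocks.Covering.blockCoeff_conjClosure_conjNormal b a x
      rw [hbc] at e
      rw [hx', e]; exact hcw
    · rw [hx', ← Lib.Blocks.Covering.centralChar_conjFun]
      exact hxdef.2.2 _ (hinv' a θ' hθ')
  have hDle : D.map (MulAut.conjNormal a).toMonoidHom ≤ D₂ := by
    rintro _ ⟨d, hd, rfl⟩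
    refine Subgroup.mem_subgroupOf.2 ⟨?_, (MulAut.conjNormal a d).2⟩
    rw [hPQ]
    exact ⟨(d : G), hDQ ⟨d, hd, rfl⟩, (MulAut.conjNormal_apply a d).symm⟩
  have hD₂def : Lib.Blocks.IsClassDefect p x' D₂ := by
    refine ⟨hD₂p, hD₂c, le_antisymm ?_ ?_⟩
    · obtain ⟨D₃, hD₃, hle3⟩ := Lib.Blocks.exists_isClassDefect_ge (g := x') hD₂p
        (Lib.Blocks.le_centralizer_singleton_iff.1 hD₂c)
      exact hD₃.2.2 ▸ Subgroup.card_le_of_le hle3
    · refine le_trans (le_of_eq ?_) (Subgroup.card_le_of_le hDle)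
      rw [Subgroup.card_map_of_injective (f := (MulAut.conjNormal a).toMonoidHom) (MulAut.conjNormal a).injective, hD.2.2, hx',
        card_centralizer_conjNormal]
  refine ⟨?_, Lib.Blocks.isDefectGroup_iff.2 ⟨x', hx'def, hD₂def⟩, hdB⟩
  have hcardPN : Nat.card D₂ = p ^ blockDefect p b := by
    rw [hD₂def.2.2, hx', card_centralizer_conjNormal, ← hD.2.2, hdb]
  have hcardPN' : Nat.card (P ⊓ N : Subgroup G) = p ^ blockDefect p b := by
    rw [← hcardPN]
    exact (Nat.card_congr (Subgroup.subgroupOfEquivOfLe inf_le_right).toEquiv).symm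
  have h1 : Nat.card (P ⊓ N : Subgroup G) * N.relIndex P = Nat.card P := by
    rw [← Subgroup.inf_relIndex_left P N]
    rw [← Subgroup.relIndex_bot_left, ← Subgroup.relIndex_bot_left]
    exact Subgroup.relIndex_mul_relIndex _ _ _ bot_le inf_le_left
  have h2 : N.relIndex P * (P ⊔ N).index = N.index := by
    rw [← Subgroup.relIndex_sup_right (H := P) (K := N)]
    exact Subgroup.relIndex_mul_index le_sup_right
  rw [hcardPN', Lib.Blocks.card_defectGroup hM hB hP, hdB, pow_add] at h1
  have h1' : N.relIndex P = p ^ N.index.factorization p :=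
    Nat.eq_of_mul_eq_mul_left (pow_pos (Fact.out : p.Prime).pos _) h1
  rw [h1'] at h2
  intro hd
  obtain ⟨k, hk⟩ := hd
  have : p ^ (N.index.factorization p + 1) ∣ N.index := ⟨k, by
    conv_lhs => rw [← h2, hk]
    rw [pow_succ]; ring⟩
  have := ((Fact.out : p.Prime).pow_dvd_iff_le_factorization Subgroup.index_ne_zero_of_finite).1 this
  omega

end Cfsg.Agent.S0970
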