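import Cfsg.Statements.S0982
import Mathlib
import Cfsg.Agent.Lib.SmallGroups.Basic
import Cfsg.Agent.Lib.SmallGroups.PSLTwo.Recognition

set_option autoImplicit false
set_option linter.style.haveILetI false
open Cfsg
open Cfsg.Agent.Lib.SmallGroups

namespace Cfsg.Agent.S0982

/-- A simple group of order 6072 is isomorphic to the projective special linear group of dimension 2 over the field with 23 elements. -/
theorem result {G : Type*} [Group G] [Finite G] [IsSimpleGroup G] (h : Nat.card G = 6072) {F : Type*} [Field F] [Fintype F] (hF : Fintype.card F = 23) : Nonempty (G ≃* Matrix.ProjectiveSpecialLinearGroup (Fin 2) F) := by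
  haveI : Fact (Nat.Prime 23) := ⟨by norm_num⟩
  have hG : ¬ IsMulCommutative G := not_isMulCommutative_of_not_prime (by rw [h]; norm_num)
  have hn := card_sylow_mem hG (p := 23) (k := 1) (m := 264) (by rw [h]; norm_num) (by norm_num) one_ne_zero
  have e : (Nat.divisors 264).filter (fun d => d % 23 = 1 ∧ d ≠ 1) = {24} := by decide +kernel
  rw [e, Finset.mem_singleton] at hn
  exact PSLTwo.nonempty_mulEquiv_PSL hG hF (by norm_num) (by rw [h]) hn

end Cfsg.Agent.S0982
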