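import Cfsg.Statements.S0994
import Mathlib
import Cfsg.Agent.Lib.SmallGroups.SymSylow

set_option autoImplicit false
set_option linter.style.haveILetI false
open Cfsg
open Cfsg.Agent.Lib.SmallGroups Subgroup

namespace Cfsg.Agent.S0994

/-- No finite simple group has order 1188 = 2^2 * 3^3 * 11. -/
theorem result {G : Type*} [Group G] [Finite G] [IsSimpleGroup G] : Nat.card G ≠ 1188 := by
  intro h
  have hG := not_isMulCommutative_of_not_prime (G := G) (by rw [h]; norm_num)
  haveI : Fact (Nat.Prime 11) := ⟨by norm_num⟩
  have hn := card_sylow_mem hG (p := 11) (k := 1) (m := 108) (by rw [h]; norm_num) (by norm_num) one_ne_zero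
  have hn' : Nat.card (Sylow 11 G) = 12 := by
    rw [show (Nat.divisors 108).filter (fun d => d % 11 = 1 ∧ d ≠ 1) = {12} by decide +kernel] at hn
    simpa using hn
  have := two_mul_card_dvd_of_card_sylow hG (p := 11) (by norm_num) (by rw [h]; norm_num) hn'
  rw [h] at this
  norm_num at this

end Cfsg.Agent.S0994
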