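import Cfsg.Statements.S0995
import Mathlib
import Cfsg.Agent.Lib.SmallGroups.Intersection
import Cfsg.Agent.Lib.SmallGroups.PrimeSylow
import Cfsg.Agent.Lib.SmallGroups.Conj

set_option autoImplicit false
open Cfsg
open scoped Pointwise

namespace Cfsg.Agent.S0995

/-- Let G be a finite perfect group containing an element z of prime order p whose centralizer is the cyclic group it generates. Let t be the number of conjugacy classes of elements of order p. Then t divides p - 1, the number of Sylow p-subgroups has the form 1 + n * p, and |G| * t = (p - 1) * p * (1 + n * p). -/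
theorem result {G : Type*} [Group G] [Finite G] (hperf : commutator G = ⊤) (p : ℕ) [Fact p.Prime] (z : G) (hz : orderOf z = p) (hC : Subgroup.centralizer ({z} : Set G) = Subgroup.zpowers z) : ∃ n t : ℕ, t = Nat.card {c : ConjClasses G // ∃ g : G, ConjClasses.mk g = c ∧ orderOf g = p} ∧ t ∣ p - 1 ∧ Nat.card (Sylow p G) = 1 + n * p ∧ Nat.card G * t = (p - 1) * p * (1 + n * p) := by
  classical
  have hzc : Nat.card (Subgroup.zpowers z) = p := by rw [Nat.card_zpowers, hz]
  have hzp : IsPGroup p (Subgroup.zpowers z) := IsPGroup.of_card (n := 1) (by rw [hzc, pow_one])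
  obtain ⟨P, hzP⟩ := hzp.exists_le_sylow
  have hPz : (P : Subgroup G) = Subgroup.zpowers z := by
    refine le_antisymm ?_ hzP
    haveI : Nontrivial (P : Subgroup G) := by
      refine ⟨⟨z, hzP (Subgroup.mem_zpowers z)⟩, 1, fun h => ?_⟩
      have h1 : z = 1 := congrArg Subtype.val h
      rw [h1, orderOf_one] at hz
      exact (Fact.out : p.Prime).ne_one hz.symm
    haveI := P.2.center_nontrivial
    obtain ⟨c, hc⟩ := exists_ne (1 : Subgroup.center (P : Subgroup G))
    have hcz : ∀ u ∈ (P : Subgroup G), u * (c.1.1) = c.1.1 * u := fun u hu =>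
      congrArg Subtype.val (Subgroup.mem_center_iff.mp c.2 ⟨u, hu⟩)
    have hc1 : c.1.1 ∈ Subgroup.zpowers z := by
      rw [← hC, Subgroup.mem_centralizer_singleton_iff]
      exact (hcz z (hzP (Subgroup.mem_zpowers z))).symm
    have hgen : Subgroup.zpowers c.1.1 = Subgroup.zpowers z :=
      Cfsg.Agent.Lib.SmallGroups.zpowers_eq_of_prime hzc hc1 fun h => hc (Subtype.ext (Subtype.ext h))
    intro u hu
    rw [← hC, Subgroup.mem_centralizer_singleton_iff]
    have hcz2 : z ∈ Subgroup.zpowers c.1.1 := hgen ▸ Subgroup.mem_zpowers z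
    obtain ⟨i, hi⟩ := Subgroup.mem_zpowers_iff.mp hcz2
    rw [← hi]
    exact (Commute.zpow_right (show Commute u c.1.1 from hcz u hu) i).eq
  have hP : Nat.card (P : Subgroup G) = p := by rw [hPz, hzc]
  have hcent : Subgroup.centralizer ((P : Subgroup G) : Set G) = Subgroup.zpowers z := by
    rw [← Cfsg.Agent.Lib.SmallGroups.centralizer_eq_of_prime hP (hzP (Subgroup.mem_zpowers z))
      (fun h => (Fact.out : p.Prime).ne_one (by rw [← hz, h, orderOf_one])), hC]
  obtain ⟨e, he, hN⟩ := Cfsg.Agent.Lib.SmallGroups.exists_card_normalizer_eq hP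
  rw [hcent, hzc] at hN
  have hG : Nat.card G = e * p * Nat.card (Sylow p G) := by
    rw [← hN]; exact (Cfsg.Agent.Lib.SmallGroups.card_normalizer_sylow_mul P).symm
  have hn0 : Nat.card (Sylow p G) ≠ 0 := Nat.card_pos.ne'
  obtain ⟨n, hn⟩ : ∃ n, Nat.card (Sylow p G) = 1 + n * p := by
    refine ⟨Nat.card (Sylow p G) / p, ?_⟩
    have h1 := card_sylow_modEq_one p G
    rw [Nat.ModEq, Nat.mod_eq_of_lt (Fact.out : p.Prime).one_lt] at h1
    conv_lhs => rw [← Nat.mod_add_div (Nat.card (Sylow p G)) p, h1, Nat.mul_comm]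
  set t := Nat.card {c : ConjClasses G // ∃ g : G, ConjClasses.mk g = c ∧ orderOf g = p} with ht
  -- every class of elements of order p has `|G| / p` elements
  have hclass : ∀ g : G, orderOf g = p →
      Nat.card {y : G // IsConj g y} = e * Nat.card (Sylow p G) := by
    intro g hg
    obtain ⟨Q, hQ, -⟩ := Cfsg.Agent.Lib.SmallGroups.existsUnique_sylow_of_orderOf P hP hg
    obtain ⟨a, ha⟩ := MulAction.exists_smul_eq G P Q
    have hgC : Subgroup.centralizer ({g} : Set G) = (Q : Subgroup G) := by
      have hQc : Nat.card (Q : Subgroup G) = p :=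
        (Nat.card_congr (Sylow.equiv Q P).toEquiv).trans hP
      rw [Cfsg.Agent.Lib.SmallGroups.centralizer_eq_of_prime hQc (hQ ▸ Subgroup.mem_zpowers g)
        (fun h => (Fact.out : p.Prime).ne_one (by rw [← hg, h, orderOf_one]))]
      refine le_antisymm (fun x hx => ?_) (Cfsg.Agent.Lib.SmallGroups.le_centralizer_of_prime hQc)
      subst ha
      change x ∈ MulAut.conj a • (P : Subgroup G)
      rw [Subgroup.mem_pointwise_smul_iff_inv_smul_mem, hPz, ← hcent, Subgroup.mem_centralizer_iff]
      intro u hu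
      have hau : a * u * a⁻¹ ∈ ((a • P : Sylow p G) : Subgroup G) := by
        change a * u * a⁻¹ ∈ MulAut.conj a • (P : Subgroup G)
        rw [Subgroup.mem_pointwise_smul_iff_inv_smul_mem]
        simp only [MulAut.smul_def, MulAut.conj_inv_apply]
        rw [show a⁻¹ * (a * u * a⁻¹) * a = u by group]
        exact hu
      have hh := Subgroup.mem_centralizer_iff.mp hx _ hau
      simp only [MulAut.smul_def, MulAut.conj_inv_apply]
      calc u * (a⁻¹ * x * a) = a⁻¹ * ((a * u * a⁻¹) * x) * a := by group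
        _ = a⁻¹ * (x * (a * u * a⁻¹)) * a := by rw [hh]
        _ = a⁻¹ * x * a * u := by group
    have hidx := (Subgroup.centralizer ({g} : Set G)).card_mul_index
    have horb : Nat.card {y : G // IsConj g y} =
        (Subgroup.centralizer ({g} : Set G)).index := by
      exact Cfsg.Agent.Lib.SmallGroups.card_isConj_eq_index g
    rw [horb]
    rw [hgC, (Nat.card_congr (Sylow.equiv Q P).toEquiv).trans hP, hG] at hidx
    rw [hgC]
    exact Nat.eq_of_mul_eq_mul_left (Fact.out : p.Prime).pos (by rw [hidx]; ring)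
  have hcount : t * (e * Nat.card (Sylow p G)) = Nat.card (Sylow p G) * (p - 1) := by
    rw [← Cfsg.Agent.Lib.SmallGroups.card_orderOf_eq_prime P hP]
    let f : {g : G // orderOf g = p} →
        {c : ConjClasses G // ∃ g : G, ConjClasses.mk g = c ∧ orderOf g = p} :=
      fun g => ⟨ConjClasses.mk g.1, g.1, rfl, g.2⟩
    haveI := Fintype.ofFinite {c : ConjClasses G // ∃ g : G, ConjClasses.mk g = c ∧ orderOf g = p}
    rw [Nat.card_congr (Equiv.sigmaFiberEquiv f).symm, Nat.card_sigma,
      Finset.sum_congr rfl (g := fun _ => e * Nat.card (Sylow p G)), Finset.sum_const,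
      Finset.card_univ, smul_eq_mul, ht, Nat.card_eq_fintype_card]
    rintro ⟨c, g, rfl, hg⟩ -
    rw [← hclass g hg]
    refine Nat.card_congr ⟨fun y => ⟨y.1.1, ?_⟩, fun y => ⟨⟨y.1, ?_⟩, ?_⟩, fun y => rfl, fun y => rfl⟩
    · exact (ConjClasses.mk_eq_mk_iff_isConj.mp (congrArg Subtype.val y.2)).symm
    · obtain ⟨b, hb⟩ := isConj_iff.mp y.2
      rw [← hb, ← hg]
      exact orderOf_injective (MulAut.conj b).toMonoidHom (MulEquiv.injective _) g
    · exact Subtype.ext (ConjClasses.mk_eq_mk_iff_isConj.mpr y.2.symm)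
  have het : t * e = p - 1 := by
    apply Nat.eq_of_mul_eq_mul_right (Nat.pos_of_ne_zero hn0)
    rw [mul_assoc, hcount, mul_comm]
  refine ⟨n, t, rfl, ⟨e, het.symm⟩, hn, ?_⟩
  rw [← hn, hG, ← het]
  ring

end Cfsg.Agent.S0995
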