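import Cfsg.Statements.S0998
import Cfsg.Agent.Lib.BrauerTuan.Simple
-- import your own Cfsg.Agent.* helpers here

set_option autoImplicit false
open Cfsg

namespace Cfsg.Agent.S0998

set_option linter.style.haveILetI false

open Cfsg.Agent.Lib

/-- The power of two and the odd part in `r q ^ b = 2 ^ k X`. -/
theorem split_eq {r q b k X : ℕ} (hr : r.Prime) (hq : q.Prime) (hqr : q ≠ r) (hk : 2 ≤ k)
    (hX : Odd X) (h : r * q ^ b = 2 ^ k * X) : q = 2 ∧ r = X := by
  have hq2 : q = 2 := by
    by_contra hne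
    have hqo : Odd (q ^ b) := (hq.odd_of_ne_two hne).pow
    have h2 : 2 ∣ r * q ^ b := h ▸ dvd_mul_of_dvd_left (dvd_pow_self 2 (by omega)) _
    rcases Nat.prime_two.dvd_mul.mp h2 with h3 | h3
    · have hr2 : r = 2 := ((Nat.prime_dvd_prime_iff_eq Nat.prime_two hr).mp h3).symm
      obtain ⟨j, rfl⟩ : ∃ j, k = j + 2 := ⟨k - 2, by omega⟩
      rw [hr2, show 2 ^ (j + 2) * X = 2 * (2 * (2 ^ j * X)) by ring] at h
      have := Nat.eq_of_mul_eq_mul_left (by norm_num) h
      obtain ⟨u, hu⟩ := hqo
      omega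
    · obtain ⟨u, hu⟩ := hqo
      omega
  subst hq2
  refine ⟨rfl, Nat.dvd_antisymm ?_ ?_⟩
  · exact (Nat.Coprime.pow_right k ((Nat.coprime_primes hr Nat.prime_two).mpr (Ne.symm hqr))).dvd_of_dvd_mul_left
      (Dvd.intro _ h)
  · exact ((Nat.coprime_two_right.mpr hX).pow_right b).dvd_of_dvd_mul_right (h ▸ dvd_mul_left X _)

theorem three_dvd_two_pow_add {j : ℕ} (hj : Odd j) : 3 ∣ 2 ^ j + 1 := by
  obtain ⟨i, rfl⟩ := hj
  have : 2 ^ (2 * i + 1) % 3 = 2 := by
    rw [pow_succ, pow_mul, Nat.mul_mod, Nat.pow_mod]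
    norm_num
  exact Nat.dvd_of_mod_eq_zero (by rw [Nat.add_mod, this])

theorem three_dvd_two_pow_sub {j : ℕ} (hj : Even j) : 3 ∣ 2 ^ j - 1 := by
  obtain ⟨i, rfl⟩ := hj
  have : 2 ^ (i + i) % 3 = 1 := by
    rw [← two_mul, pow_mul, Nat.pow_mod]
    norm_num
  omega

theorem eq_three {r : ℕ} (hr : r.Prime) (h : 3 ∣ r) : r = 3 :=
  ((Nat.prime_dvd_prime_iff_eq Nat.prime_three hr).mp h).symm

theorem key {G : Type*} [Group G] [Finite G] [IsSimpleGroup G] (hG : ¬ IsMulCommutative G)
    {p q r b : ℕ} (hp : p.Prime) (hq : q.Prime) (hr : r.Prime) (hpq : p ≠ q) (hqr : q ≠ r)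
    (hrp : r < p) (hG' : Nat.card G = p * r * q ^ b) :
    (∃ (F : Type) (_ : Field F) (_ : Fintype F), Fintype.card F = 5 ∧
      Nonempty (G ≃* Matrix.ProjectiveSpecialLinearGroup (Fin 2) F)) ∨
    (∃ (F : Type) (_ : Field F) (_ : Fintype F), Fintype.card F = 7 ∧
      Nonempty (G ≃* Matrix.ProjectiveSpecialLinearGroup (Fin 2) F)) := by
  classical
  haveI : Fact p.Prime := ⟨hp⟩
  have hr2 := hr.two_le
  have hdvd : p ∣ Nat.card G := by rw [hG', mul_assoc]; exact dvd_mul_right _ _
  by_cases hsmall : r = p - 1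
  · exfalso
    have hp3 : p = 3 := by
      rcases hp.eq_two_or_odd with h | h
      · omega
      · have : 2 ∣ r := by omega
        have := (Nat.prime_dvd_prime_iff_eq Nat.prime_two hr).mp this
        omega
    have hr' : r = 2 := by omega
    subst hp3 hr'
    haveI : Fact (Nat.Prime 2) := ⟨Nat.prime_two⟩
    obtain ⟨T⟩ := (inferInstance : Nonempty (Sylow 2 G))
    refine BrauerReynolds.not_isCyclic_sylow_two (BrauerTuan.reduced_of_simple hG hdvd)
      (by rw [hG']; exact dvd_mul_of_dvd_left (by norm_num) _) T (isCyclic_of_prime_card (p := 2) ?_)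
    rw [Sylow.card_eq_multiplicity, hG', Nat.factorization_mul (by norm_num) (pow_ne_zero _ hq.ne_zero),
      hq.factorization_pow, Nat.factorization_mul (by norm_num) (by norm_num)]
    simp [Nat.prime_two.factorization_self, hqr,
      Nat.factorization_eq_zero_of_not_dvd (n := 3) (p := 2) (by norm_num)]
  rcases BrauerTuan.simple_order hG hp hq hpq.symm (g₀ := r) (b := b) (by rw [hG']; ring) (by omega) with
    ⟨F, iF, iFt, hF, hp3, hcard, ⟨m, hm⟩, hiso⟩ | ⟨m, F, iF, iFt, hF, hpm, hp3, hcard, hiso⟩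
  · rw [hG', show 2 * (p * r * q ^ b) = p * (2 * (r * q ^ b)) by ring,
      show (p + 1) * (p * (p - 1)) = p * ((p + 1) * (p - 1)) by ring] at hcard
    have h1 := Nat.eq_of_mul_eq_mul_left hp.pos hcard
    obtain ⟨j, rfl⟩ : ∃ j, m = j + 1 := ⟨m - 1, by rcases m with _ | m <;> simp at hm ⊢; omega⟩
    have hj : 1 ≤ j := by
      rcases j with _ | j
      · simp at hm; omega
      · omega
    have hjo : Even (2 ^ j) := ⟨2 ^ (j - 1), by rw [← two_mul, ← pow_succ']; congr 1; omega⟩
    rcases hm with hm | hm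
    · obtain ⟨-, hX⟩ := split_eq (k := j + 1) (X := 2 ^ j + 1) hr hq hqr (by omega) (hjo.add_one)
        (Nat.eq_of_mul_eq_mul_left (show 0 < 2 by norm_num) (by
          rw [h1, hm, Nat.add_sub_cancel, pow_succ]; ring))
      rcases Nat.even_or_odd j with hje | hje
      · exfalso
        have h3 := three_dvd_two_pow_add (hje.add_one)
        rw [← hm] at h3
        have := eq_three hp h3
        omega
      · have h3 := eq_three hr (hX ▸ three_dvd_two_pow_add hje)
        left
        refine ⟨F, iF, iFt, ?_, hiso⟩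
        rw [hF, hm, pow_succ]
        omega
    · obtain ⟨-, hX⟩ := split_eq (k := j + 1) (X := 2 ^ j - 1) hr hq hqr (by omega)
        (by obtain ⟨u, hu⟩ := hjo; exact ⟨u - 1, by have := Nat.two_pow_pos j; omega⟩)
        (Nat.eq_of_mul_eq_mul_left (show 0 < 2 by norm_num) (by
          rw [h1, hm, show p - 1 = 2 * (2 ^ j - 1) by rw [pow_succ'] at hm; omega]; ring))
      rcases Nat.even_or_odd j with hje | hje
      · have h3 := eq_three hr (hX ▸ three_dvd_two_pow_sub hje)
        right
        refine ⟨F, iF, iFt, ?_, hiso⟩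
        rw [pow_succ'] at hm
        omega
      · exfalso
        have h3 := three_dvd_two_pow_sub (hje.add_one)
        rw [← hm, Nat.add_sub_cancel] at h3
        have := eq_three hp h3
        omega
  · rw [hG', mul_assoc] at hcard
    have h1 := Nat.eq_of_mul_eq_mul_left hp.pos hcard
    have hm2 : 2 ≤ m := by
      rcases m with _ | _ | m
      · simp at hpm; omega
      · simp at hpm; omega
      · omega
    have hme : Even (2 ^ m) := ⟨2 ^ (m - 1), by rw [← two_mul, ← pow_succ']; congr 1; omega⟩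
    obtain ⟨-, hX⟩ := split_eq (k := m) (X := 2 ^ m - 1) hr hq hqr hm2
      (by obtain ⟨u, hu⟩ := hme; exact ⟨u - 1, by have := Nat.two_pow_pos m; omega⟩)
      (by rw [h1, show p - 1 = 2 ^ m by omega, show p - 2 = 2 ^ m - 1 by omega])
    rcases Nat.even_or_odd m with hje | hje
    · have h3 := eq_three hr (hX ▸ three_dvd_two_pow_sub hje)
      have hp5 : p = 5 := by omega
      subst hp5
      have h60 : Nat.card G = 60 := by rw [hG', mul_assoc, h1]; norm_num
      obtain ⟨P⟩ := (inferInstance : Nonempty (Sylow 5 G))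
      have hmul := Lib.SmallGroups.card_normalizer_sylow_mul P
      have hmod := card_sylow_modEq_one 5 G
      have hP5 : Nat.card (P : Subgroup G) = 5 := by
        rw [Sylow.card_eq_multiplicity, h60, show (60 : ℕ) = 5 * 12 by norm_num,
          Nat.factorization_mul (by norm_num) (by norm_num)]
        simp [hp.factorization_self, Nat.factorization_eq_zero_of_not_dvd (n := 12) (p := 5) (by norm_num)]
      have hdN : 5 ∣ Nat.card (Subgroup.normalizer ((P : Subgroup G) : Set G)) :=
        (dvd_of_eq hP5.symm).trans (Subgroup.card_dvd_of_le Subgroup.le_normalizer)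
      have hne : Nat.card (Sylow 5 G) ≠ 1 := fun h => by
        rw [P.card_eq_index_normalizer, Subgroup.index_eq_one] at h
        rcases (Subgroup.normalizer_eq_top_iff.mp h).eq_bot_or_eq_top with h' | h'
        · exact P.ne_bot_of_dvd_card hdvd h'
        · rw [h', Subgroup.card_top, h60] at hP5
          omega
      have hS : Nat.card (Sylow 5 G) = 5 + 1 := by
        rw [h60] at hmul
        obtain ⟨d, hd⟩ := hdN
        rw [hd] at hmul
        have hle : Nat.card (Sylow 5 G) ∣ 12 := ⟨d, by
          rw [mul_assoc] at hmul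
          have := Nat.eq_of_mul_eq_mul_left (show 0 < 5 by norm_num)
            (hmul.trans (show 60 = 5 * 12 by norm_num))
          rw [← this, mul_comm]⟩
        have := Nat.le_of_dvd (by norm_num) hle
        unfold Nat.ModEq at hmod
        interval_cases hs : Nat.card (Sylow 5 G) <;> omega
      exact Or.inl ⟨ZMod 5, inferInstance, inferInstance, ZMod.card 5,
        Lib.SmallGroups.PSLTwo.nonempty_mulEquiv_PSL hG (ZMod.card 5) (by norm_num) (by rw [h60]) hS⟩
    · exfalso
      have h3 := three_dvd_two_pow_add hje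
      rw [← hpm] at h3
      have := eq_three hp h3
      omega


/-- A non-cyclic finite simple group whose order has the form p * r * q^b for distinct primes p, q, r is isomorphic to the projective special linear group of dimension 2 over the field with 5 or with 7 elements. -/
theorem result {G : Type*} [Group G] [Finite G] [IsSimpleGroup G] (hG : ¬ IsCyclic G) (p q r b : ℕ) (hp : p.Prime) (hq : q.Prime) (hr : r.Prime) (hpq : p ≠ q) (hpr : p ≠ r) (hqr : q ≠ r) (hG' : Nat.card G = p * r * q ^ b) : (∃ (F : Type) (_ : Field F) (_ : Fintype F), Fintype.card F = 5 ∧ Nonempty (G ≃* Matrix.ProjectiveSpecialLinearGroup (Fin 2) F)) ∨ (∃ (F : Type) (_ : Field F) (_ : Fintype F), Fintype.card F = 7 ∧ Nonempty (G ≃* Matrix.ProjectiveSpecialLinearGroup (Fin 2) F)) := by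
  have hnc := Cfsg.Agent.Lib.BrauerTuan.not_isMulCommutative hG
  rcases Nat.lt_or_ge r p with h | h
  · exact key hnc hp hq hr hpq hqr h hG'
  · exact key (b := b) hnc hr hq hp (Ne.symm hqr) (Ne.symm hpq) (lt_of_le_of_ne h hpr) (by rw [hG']; ring)

end Cfsg.Agent.S0998
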