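import Cfsg.Statements.S1002
import Mathlib
import Cfsg.Agent.Lib.SmallGroups.Basic
import Cfsg.Agent.Lib.SmallGroups.PrimeSylow
import Cfsg.Agent.Lib.SmallGroups.PrimeChar.Corollaries

set_option autoImplicit false
set_option linter.style.haveILetI false
open Cfsg
open Cfsg.Agent.Lib.SmallGroups

namespace Cfsg.Agent.S1002

/-- No finite simple group has order 1004913 = 3^3 * 7 * 13 * 409. -/
theorem result {G : Type*} [Group G] [Finite G] [IsSimpleGroup G] : Nat.card G ≠ 1004913 := by
  intro h
  haveI : Fact (Nat.Prime 409) := ⟨by norm_num⟩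
  have hG : ¬ IsMulCommutative G := not_isMulCommutative_of_not_prime (by rw [h]; norm_num)
  have hn := card_sylow_mem hG (p := 409) (k := 1) (m := 2457) (by rw [h]; norm_num) (by norm_num) one_ne_zero
  have e : (Nat.divisors 2457).filter (fun d => d % 409 = 1 ∧ d ≠ 1) = {819} := by decide +kernel
  rw [e, Finset.mem_singleton] at hn
  have P : Sylow 409 G := default
  have hP := (card_sylow_eq P (k := 1) (m := 2457) (by rw [h]; norm_num) (by norm_num)).trans (pow_one 409)
  obtain ⟨f, g, d, hf, hg, hd, hfm, hgm, hf1, hg1, hfd, hdm, htot⟩ :=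
    PrimeChar.degrees_three hG P hP (t := 136) (by rw [hn, h]) (by norm_num) (by norm_num)
  rw [h] at hf hg hd htot
  have hlt : f < 1003 := by nlinarith
  have hlt' : g < 1003 := by nlinarith
  have key : ∀ f < 1003, f ∣ 1004913 → 1 < f → (f % 409 = 1 ∨ f % 409 = 408) → f = 819 := by
    decide +kernel
  obtain rfl := key f hlt hf hf1 hfm
  obtain rfl := key g hlt' hg hg1 hgm
  nlinarith

end Cfsg.Agent.S1002
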