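import Cfsg.Statements.S1008
import Mathlib
import Cfsg.Agent.Lib.SmallGroups.Order168Max

set_option autoImplicit false
set_option linter.style.haveILetI false
open Cfsg
open Cfsg.Agent.Lib.SmallGroups Subgroup

namespace Cfsg.Agent.S1008

/-- In a simple group of order 168 every maximal subgroup is either isomorphic to the symmetric group of degree 4 or non-abelian of order 21; the maximal subgroups of order 21 form one conjugacy class and those isomorphic to the symmetric group of degree 4 form exactly two conjugacy classes. -/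
theorem result {G : Type*} [Group G] [Finite G] [IsSimpleGroup G] (h : Nat.card G = 168) : (∀ M : Subgroup G, IsCoatom M → Nonempty (↥M ≃* Equiv.Perm (Fin 4)) ∨ (Nat.card ↥M = 21 ∧ ¬ IsMulCommutative ↥M)) ∧ (∀ M M' : Subgroup G, IsCoatom M → IsCoatom M' → Nat.card ↥M = 21 → Nat.card ↥M' = 21 → ∃ g : G, M' = M.map (MulAut.conj g).toMonoidHom) ∧ ∃ M₁ M₂ : Subgroup G, IsCoatom M₁ ∧ IsCoatom M₂ ∧ Nonempty (↥M₁ ≃* Equiv.Perm (Fin 4)) ∧ Nonempty (↥M₂ ≃* Equiv.Perm (Fin 4)) ∧ (∀ g : G, M₂ ≠ M₁.map (MulAut.conj g).toMonoidHom) ∧ ∀ M : Subgroup G, IsCoatom M → Nonempty (↥M ≃* Equiv.Perm (Fin 4)) → ∃ g : G, M = M₁.map (MulAut.conj g).toMonoidHom ∨ M = M₂.map (MulAut.conj g).toMonoidHom := by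
  haveI : Fact (Nat.Prime 2) := ⟨Nat.prime_two⟩
  haveI : Fact (Nat.Prime 7) := ⟨by norm_num⟩
  have hiso : ∀ M : Subgroup G, Nonempty (↥M ≃* Equiv.Perm (Fin 4)) → Nat.card M = 24 := by
    rintro M ⟨e⟩
    rw [Nat.card_congr e.toEquiv, Nat.card_perm, Nat.card_eq_fintype_card, Fintype.card_fin]
    rfl
  have conjN : ∀ (U : Subgroup G) (g : G),
      normalizer ((U.map (MulAut.conj g).toMonoidHom : Subgroup G) : Set G) =
        (normalizer (U : Set G)).map (MulAut.conj g).toMonoidHom := by
    intro U g
    ext x
    simp only [mem_normalizer_iff, Subgroup.mem_map_equiv, MulAut.conj_symm_apply]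
    constructor
    · intro H u
      have := H (g * u * g⁻¹)
      have e1 : g⁻¹ * (g * u * g⁻¹) * g = u := by group
      have e2 : g⁻¹ * (x * (g * u * g⁻¹) * x⁻¹) * g = g⁻¹ * x * g * u * (g⁻¹ * x * g)⁻¹ := by group
      rwa [e1, e2] at this
    · intro H u
      have := H (g⁻¹ * u * g)
      have e2 : g⁻¹ * x * g * (g⁻¹ * u * g) * (g⁻¹ * x * g)⁻¹ = g⁻¹ * (x * u * x⁻¹) * g := by group
      rwa [e2] at this
  refine ⟨fun M hM => ?_, fun M M' hM hM' h21 h21' => ?_, ?_⟩
  · rcases Order168.maximal_cases h hM with ⟨P, rfl⟩ | ⟨U, hU, rfl⟩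
    · right
      refine ⟨(Order168.sylow_seven_data h P).2.1, fun hc => ?_⟩
      haveI := hc
      apply not_normalizer_le_centralizer (Order168.nonabelian h) (by rw [h]; norm_num) P
      intro x hx
      rw [mem_centralizer_iff]
      intro y hy
      exact congrArg Subtype.val
        (IsMulCommutative.is_comm.comm (⟨y, le_normalizer hy⟩ : normalizer ((P : Subgroup G) : Set G)) ⟨x, hx⟩)
    · exact Or.inl (Order168.symm_four_of_card h (Order168.card_normalizer_klein h hU))
  · rcases Order168.maximal_cases h hM with ⟨P, rfl⟩ | ⟨U, hU, rfl⟩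
    · rcases Order168.maximal_cases h hM' with ⟨P', rfl⟩ | ⟨U', hU', rfl⟩
      · obtain ⟨g, rfl⟩ := MulAction.exists_smul_eq G P P'
        exact ⟨g, conjN (P : Subgroup G) g⟩
      · rw [Order168.card_normalizer_klein h hU'] at h21'; norm_num at h21'
    · rw [Order168.card_normalizer_klein h hU] at h21; norm_num at h21
  · obtain ⟨U₁, U₂, h1, h2, hnc, hall⟩ := Order168.klein_classes h
    have hc1 := Order168.card_normalizer_klein h h1
    have hc2 := Order168.card_normalizer_klein h h2
    refine ⟨normalizer (U₁ : Set G), normalizer (U₂ : Set G),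
      Order168.maximal_of_card h (Or.inr hc1), Order168.maximal_of_card h (Or.inr hc2),
      Order168.symm_four_of_card h hc1, Order168.symm_four_of_card h hc2, fun g he => ?_,
      fun M hM hiso' => ?_⟩
    · -- four-groups with the same normalizer coincide
      rw [← conjN] at he
      set W := U₁.map (MulAut.conj g).toMonoidHom with hW
      have hWK : IsKleinFour ↥W := Order168.klein_map h1 g
      by_cases hWU : W = U₂
      · exact hnc g hWU
      · obtain ⟨T, hT⟩ := Order168.exists_klein_sylow h h2
        -- both are normal in their common normalizer, whose only normal four-group is one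
        set N := normalizer (U₂ : Set G) with hN
        have hWN : W ≤ N := he ▸ le_normalizer
        have hU2N : U₂ ≤ N := le_normalizer
        haveI hWn : (W.subgroupOf N).Normal := by rw [he]; exact normal_in_normalizer
        haveI hUn : (U₂.subgroupOf N).Normal := normal_in_normalizer
        obtain ⟨x, hx⟩ := exists_prime_orderOf_dvd_card' (G := N) 3 (by rw [hc2]; norm_num)
        have hp : IsPGroup 2 (W ⊔ U₂ : Subgroup G) := by
          have : IsPGroup 2 (W.subgroupOf N ⊔ U₂.subgroupOf N : Subgroup N) :=
            IsPGroup.to_sup_of_normal_right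
              ((IsPGroup.of_card (n := 2) (by rw [hWK.card_four]; norm_num) : IsPGroup 2 W).of_equiv
                (subgroupOfEquivOfLe hWN).symm)
              ((IsPGroup.of_card (n := 2) (by rw [h2.card_four]; norm_num) : IsPGroup 2 U₂).of_equiv
                (subgroupOfEquivOfLe hU2N).symm)
          have h' := this.map N.subtype
          rwa [Subgroup.map_sup, map_subgroupOf_eq_of_le hWN, map_subgroupOf_eq_of_le hU2N] at h'
        obtain ⟨S, hS⟩ := hp.exists_le_sylow
        have hSc : (S : Subgroup G) = W ⊔ U₂ := by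
          refine (Subgroup.eq_of_le_of_card_ge hS ?_).symm
          obtain ⟨k, hk⟩ := hp.exists_card_eq
          have h4 : Nat.card U₂ < Nat.card (W ⊔ U₂ : Subgroup G) := by
            rcases lt_or_ge (Nat.card U₂) (Nat.card (W ⊔ U₂ : Subgroup G)) with hl | hl
            · exact hl
            · exact absurd (Subgroup.eq_of_le_of_card_ge
                (le_sup_left.trans (Subgroup.eq_of_le_of_card_ge le_sup_right hl).ge : W ≤ U₂)
                (by rw [hWK.card_four, h2.card_four])) hWU
          rw [Order168.card_sylow_two_subgroup h S]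
          rw [h2.card_four, hk] at h4
          rw [hk]
          exact (Nat.pow_le_pow_iff_right (n := 3) one_lt_two).mpr
            (by by_contra hk'; push Not at hk'; interval_cases k <;> norm_num at h4)
        -- then N normalizes S, impossible
        have hle : N ≤ normalizer ((S : Subgroup G) : Set G) := by
          rw [hSc]
          have hnle : W ⊔ U₂ ≤ N := sup_le hWN hU2N
          refine (normal_subgroupOf_iff_le_normalizer hnle).mp ?_
          rw [subgroupOf_sup hWN hU2N]
          infer_instance
        have h5 := card_le_of_le hle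
        rw [Order168.normalizer_sylow_two h S, Order168.card_sylow_two_subgroup h S, hc2] at h5
        norm_num at h5
    · rcases Order168.maximal_cases h hM with ⟨P, rfl⟩ | ⟨U, hU, rfl⟩
      · have := hiso _ hiso'
        rw [(Order168.sylow_seven_data h P).2.1] at this
        norm_num at this
      · obtain ⟨-, g, hg | hg⟩ := hall U hU
        · exact ⟨g, Or.inl (by rw [← conjN, hg])⟩
        · exact ⟨g, Or.inr (by rw [← conjN, hg])⟩

end Cfsg.Agent.S1008
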