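import Cfsg.Statements.S1013
import Mathlib
import Cfsg.Agent.Lib.SmallGroups.SymSylow

set_option autoImplicit false
set_option linter.style.haveILetI false
open Cfsg
open Cfsg.Agent.Lib.SmallGroups Subgroup
open scoped Pointwise

namespace Cfsg.Agent.S1013

/-- Let G be a transitive permutation group of prime degree p having more than one Sylow p-subgroup, and suppose a Sylow p-subgroup P has prime index in its normalizer. Then G is simple. -/
theorem result {α : Type*} [Fintype α] [DecidableEq α] {p : ℕ} [Fact p.Prime] (hα : Fintype.card α = p) (G : Subgroup (Equiv.Perm α)) [MulAction.IsPretransitive ↥G α] (P : Sylow p ↥G) (hn : 1 < Nat.card (Sylow p ↥G)) (ht : (((P : Subgroup ↥G).subgroupOf (Subgroup.normalizer ((P : Subgroup ↥G) : Set ↥G))).index).Prime) : IsSimpleGroup ↥G := by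
  classical
  have hp := (Fact.out : p.Prime)
  haveI : Finite α := inferInstance
  have hPcomm : Nat.card (P : Subgroup ↥G) = p := by
    obtain ⟨hS, -⟩ := sym_sylow_data (α := α) p (Or.inl hα) default
    obtain ⟨Q, hQ⟩ := (P.2.map G.subtype).exists_le_sylow
    have h1 := card_dvd_of_le hQ
    rw [Subgroup.card_map_of_injective G.subtype_injective, (sym_sylow_data p (Or.inl hα) Q).1] at h1
    rcases (Nat.dvd_prime hp).mp h1 with h2 | h2
    · exfalso
      have hdvd : p ∣ Nat.card ↥G := by
        obtain ⟨a⟩ : Nonempty α := Fintype.card_pos_iff.mp (hα ▸ hp.pos)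
        rw [← hα, ← Nat.card_eq_fintype_card, ← MulAction.index_stabilizer_of_transitive ↥G a]
        exact index_dvd_card _
      exact P.ne_bot_of_dvd_card hdvd (eq_bot_of_card_eq _ h2)
    · exact h2
  haveI : Nontrivial ↥G := by
    by_contra hc
    rw [not_nontrivial_iff_subsingleton] at hc
    have : Subsingleton (Sylow p ↥G) := ⟨fun a b => Sylow.ext (Subsingleton.elim _ _)⟩
    rw [Nat.card_unique] at hn
    omega
  refine IsSimpleGroup.mk fun M hM => ?_
  by_cases hMb : M = ⊥
  · exact Or.inl hMb
  right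
  -- M is transitive, so contains all Sylow p-subgroups
  obtain ⟨a⟩ : Nonempty α := Fintype.card_pos_iff.mp (hα ▸ hp.pos)
  have hpM : p ∣ Nat.card M := by
    obtain ⟨⟨m, hm⟩, hm1'⟩ := ne_bot_iff_exists_ne_one.mp hMb
    have hm1 : m ≠ 1 := fun h => hm1' (Subtype.ext h)
    obtain ⟨b, hb⟩ : ∃ b, (m : Equiv.Perm α) b ≠ b := by
      by_contra hc
      push Not at hc
      exact hm1 (Subtype.ext (Equiv.ext hc))
    have horb : ∀ c : α, Nat.card (MulAction.orbit M c) = Nat.card (MulAction.orbit M b) := by
      intro c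
      obtain ⟨g, rfl⟩ := MulAction.exists_smul_eq ↥G b c
      refine (Nat.card_congr (Equiv.subtypeEquiv (MulAction.toPerm g) fun x => ?_)).symm
      constructor
      · rintro ⟨n, rfl⟩
        refine ⟨⟨g * n.1 * g⁻¹, hM.conj_mem _ n.2 g⟩, ?_⟩
        show (g * n.1 * g⁻¹) • g • b = g • n.1 • b
        rw [smul_smul, smul_smul, inv_mul_cancel_right]
      · rintro ⟨n, hn⟩
        refine ⟨⟨g⁻¹ * n.1 * g, by simpa using hM.conj_mem _ n.2 g⁻¹⟩, ?_⟩
        show (g⁻¹ * n.1 * g) • b = x
        have hn' : n.1 • g • b = g • x := hn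
        rw [mul_smul, mul_smul, hn', inv_smul_smul]
    have hsum : Nat.card α = Nat.card (MulAction.orbitRel.Quotient M α) * Nat.card (MulAction.orbit M b) := by
      haveI := Fintype.ofFinite (MulAction.orbitRel.Quotient M α)
      rw [Nat.card_congr (MulAction.selfEquivSigmaOrbits M α), Nat.card_sigma,
        Finset.sum_congr rfl (fun ω _ => horb ω.out), Finset.sum_const, Finset.card_univ,
        smul_eq_mul, ← Nat.card_eq_fintype_card]
    rw [Nat.card_eq_fintype_card, hα] at hsum
    rcases (Nat.dvd_prime hp).mp (Dvd.intro_left _ hsum.symm) with h1 | h1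
    · exfalso
      haveI : Subsingleton (MulAction.orbit M b) := (Nat.card_eq_one_iff_unique.mp h1).1
      exact hb (congrArg Subtype.val
        (Subsingleton.elim (⟨(⟨m, hm⟩ : M) • b, MulAction.mem_orbit _ _⟩ : MulAction.orbit M b)
          ⟨b, MulAction.mem_orbit_self b⟩))
    · rw [← h1, ← Nat.card_eq_of_equiv_fin (Finite.equivFin (MulAction.orbit M b)),
        Nat.card_congr (MulAction.orbitEquivQuotientStabilizer M b)]
      exact index_dvd_card _
  have hPM : ∀ Q : Sylow p ↥G, (Q : Subgroup ↥G) ≤ M := by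
    obtain ⟨⟨x, hx⟩, hxo⟩ := exists_prime_orderOf_dvd_card' p hpM
    rw [orderOf_mk] at hxo
    obtain ⟨Q₀, hQ₀, -⟩ := existsUnique_sylow_of_orderOf P hPcomm hxo
    intro Q
    obtain ⟨g, rfl⟩ := MulAction.exists_smul_eq ↥G Q₀ Q
    intro y hy
    change y ∈ MulAut.conj g • (Q₀ : Subgroup ↥G) at hy
    rw [Subgroup.mem_pointwise_smul_iff_inv_smul_mem, hQ₀] at hy
    have h2 := zpowers_le.mpr hx hy
    simp only [MulAut.smul_def, MulAut.conj_inv_apply] at h2
    simpa [mul_assoc] using hM.conj_mem _ h2 g
  set N := normalizer ((P : Subgroup ↥G) : Set ↥G)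
  have hsup : N ⊔ M = ⊤ := Sylow.normalizer_sup_eq_top' P (hPM P)
  have hPN : (P : Subgroup ↥G) ≤ N ⊓ M := le_inf le_normalizer (hPM P)
  -- N ⊓ M lies between P and N
  have hmul := relIndex_mul_relIndex (P : Subgroup ↥G) (N ⊓ M) N hPN inf_le_left
  rw [inf_relIndex_left] at hmul
  have hd : M.relIndex N ∣ (P : Subgroup ↥G).relIndex N := Dvd.intro_left _ hmul
  rcases (Nat.dvd_prime ht).mp hd with h1 | h1
  · rw [relIndex_eq_one] at h1
    exact top_le_iff.mp (hsup ▸ sup_le h1 le_rfl)
  · exfalso
    -- P is self-normalizing in M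
    rw [h1] at hmul
    have h2 : (P : Subgroup ↥G).relIndex (N ⊓ M) = 1 :=
      Nat.eq_of_mul_eq_mul_right ht.pos (hmul.trans (one_mul _).symm)
    have hle : N ⊓ M ≤ (P : Subgroup ↥G) := relIndex_eq_one.mp h2
    let PM : Sylow p M := P.subtype (hPM P)
    have hnc : normalizer ((PM : Subgroup M) : Set M) ≤ centralizer ((PM : Subgroup M) : Set M) := by
      intro x hx
      have hxN : (x : ↥G) ∈ N := by
        rw [mem_normalizer_iff]
        intro y
        by_cases hy : y ∈ M
        · exact mem_normalizer_iff.mp hx ⟨y, hy⟩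
        · constructor
          · exact fun h' => absurd (hPM P h') hy
          · intro h'
            refine absurd ?_ hy
            have := M.mul_mem (M.mul_mem (M.inv_mem x.2) (hPM P h')) x.2
            simpa [mul_assoc] using this
      rw [mem_centralizer_iff]
      intro y hy
      exact Subtype.ext (commute_of_prime hPcomm hy (hle ⟨hxN, x.2⟩))
    have hc := MonoidHom.ker_transferSylow_isComplement' PM hnc
    set K := (MonoidHom.transferSylow PM hnc).ker
    have hKp : ¬ p ∣ Nat.card K := MonoidHom.not_dvd_card_ker_transferSylow PM hnc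
    haveI hchar : K.Characteristic := by
      rw [characteristic_iff_map_le]
      intro φ x hx
      obtain ⟨y, hy, rfl⟩ := hx
      have hcop : (orderOf y).Coprime p := Nat.coprime_comm.mp (hp.coprime_iff_not_dvd.mpr fun h' =>
        hKp (h'.trans (by rw [← Nat.card_zpowers]; exact card_dvd_of_le (zpowers_le.mpr hy))))
      rw [MonoidHom.mem_ker]
      have h3 := orderOf_map_dvd (MonoidHom.transferSylow PM hnc) (φ.toMonoidHom y)
      rw [show orderOf (φ.toMonoidHom y) = orderOf y from
        orderOf_injective φ.toMonoidHom (MulEquiv.injective φ) y] at h3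
      have h4 := orderOf_dvd_natCard (MonoidHom.transferSylow PM hnc (φ.toMonoidHom y))
      rw [show Nat.card ↥(PM : Subgroup M) = p from
        (Nat.card_congr (subgroupOfEquivOfLe (hPM P)).toEquiv).trans hPcomm] at h4
      rw [← orderOf_eq_one_iff]
      exact Nat.eq_one_of_dvd_coprimes hcop h3 h4
    haveI := hM
    haveI hKn : (K.map M.subtype).Normal := ConjAct.normal_of_characteristic_of_normal
    -- a normal subgroup of order prime to p is trivial
    have hKb : K = ⊥ := by
      by_contra hKb
      obtain ⟨⟨k, hk⟩, hk1'⟩ := ne_bot_iff_exists_ne_one.mp hKb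
      have hk1 : k ≠ 1 := fun h => hk1' (Subtype.ext h)
      obtain ⟨b, hb⟩ : ∃ b, ((k : ↥G) : Equiv.Perm α) b ≠ b := by
        by_contra hc'
        push Not at hc'
        exact hk1 (Subtype.ext (Subtype.ext (Equiv.ext hc')))
      set K' := K.map M.subtype
      have horb : ∀ c : α, Nat.card (MulAction.orbit K' c) = Nat.card (MulAction.orbit K' b) := by
        intro c
        obtain ⟨g, rfl⟩ := MulAction.exists_smul_eq ↥G b c
        refine (Nat.card_congr (Equiv.subtypeEquiv (MulAction.toPerm g) fun x => ?_)).symm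
        constructor
        · rintro ⟨n, rfl⟩
          refine ⟨⟨g * n.1 * g⁻¹, hKn.conj_mem _ n.2 g⟩, ?_⟩
          show (g * n.1 * g⁻¹) • g • b = g • n.1 • b
          rw [smul_smul, smul_smul, inv_mul_cancel_right]
        · rintro ⟨n, hn⟩
          refine ⟨⟨g⁻¹ * n.1 * g, by simpa using hKn.conj_mem _ n.2 g⁻¹⟩, ?_⟩
          show (g⁻¹ * n.1 * g) • b = x
          have hn' : n.1 • g • b = g • x := hn
          rw [mul_smul, mul_smul, hn', inv_smul_smul]
      have hsum : Nat.card α = Nat.card (MulAction.orbitRel.Quotient K' α) *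
          Nat.card (MulAction.orbit K' b) := by
        haveI := Fintype.ofFinite (MulAction.orbitRel.Quotient K' α)
        rw [Nat.card_congr (MulAction.selfEquivSigmaOrbits K' α), Nat.card_sigma,
          Finset.sum_congr rfl (fun ω _ => horb ω.out), Finset.sum_const, Finset.card_univ,
          smul_eq_mul, ← Nat.card_eq_fintype_card]
      rw [Nat.card_eq_fintype_card, hα] at hsum
      rcases (Nat.dvd_prime hp).mp (Dvd.intro_left _ hsum.symm) with h3 | h3
      · haveI : Subsingleton (MulAction.orbit K' b) := (Nat.card_eq_one_iff_unique.mp h3).1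
        exact hb (congrArg Subtype.val
          (Subsingleton.elim
            (⟨(⟨k, ⟨k, hk, rfl⟩⟩ : K') • b, MulAction.mem_orbit _ _⟩ : MulAction.orbit K' b)
            ⟨b, MulAction.mem_orbit_self b⟩))
      · apply hKp
        have h5 : Nat.card (MulAction.orbit K' b) ∣ Nat.card K' := by
          rw [Nat.card_congr (MulAction.orbitEquivQuotientStabilizer K' b)]
          exact index_dvd_card _
        rwa [h3, Subgroup.card_map_of_injective M.subtype_injective] at h5
    rw [hKb, isComplement'_bot_left] at hc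
    have hMP : M ≤ (P : Subgroup ↥G) := subgroupOf_eq_top.mp hc
    have hall : ∀ Q : Sylow p ↥G, Q = P := fun Q =>
      Sylow.ext (Q.3 P.2 ((hPM Q).trans hMP)).symm
    haveI : Subsingleton (Sylow p ↥G) := ⟨fun a b => (hall a).trans (hall b).symm⟩
    rw [Nat.card_unique] at hn
    omega

end Cfsg.Agent.S1013
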