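import Cfsg.Statements.S1014
import Mathlib
import Cfsg.Agent.Lib.SmallGroups.SymSylow

set_option autoImplicit false
set_option linter.style.haveILetI false
open Cfsg
open Cfsg.Agent.Lib.SmallGroups Subgroup

namespace Cfsg.Agent.S1014

/-- No finite simple group has order 1104 = 2^4 * 3 * 23. -/
theorem result {G : Type*} [Group G] [Finite G] [IsSimpleGroup G] : Nat.card G ≠ 1104 := by
  intro h
  have hG := not_isMulCommutative_of_not_prime (G := G) (by rw [h]; norm_num)
  haveI : Fact (Nat.Prime 23) := ⟨by norm_num⟩
  have hn := card_sylow_mem hG (p := 23) (k := 1) (m := 48) (by rw [h]; norm_num) (by norm_num) one_ne_zero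
  have hn' : Nat.card (Sylow 23 G) = 24 := by
    rw [show (Nat.divisors 48).filter (fun d => d % 23 = 1 ∧ d ≠ 1) = {24} by decide +kernel] at hn
    simpa using hn
  have := two_mul_card_dvd_of_card_sylow hG (p := 23) (by norm_num) (by rw [h]; norm_num) hn'
  rw [h] at this
  norm_num at this

end Cfsg.Agent.S1014
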