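import Cfsg.Statements.S1016
import Mathlib
import Cfsg.Agent.Lib.SmallGroups.Basic
import Cfsg.Agent.Lib.SmallGroups.PrimeSylow
import Cfsg.Agent.Lib.SmallGroups.SymSylow
import Cfsg.Agent.Lib.SmallGroups.Order1440

set_option autoImplicit false
set_option linter.style.haveILetI false
open Cfsg
open Cfsg.Agent.Lib.SmallGroups

namespace Cfsg.Agent.S1016

/-- No finite simple group has order 1440 = 2^5 * 3^2 * 5. -/
theorem result {G : Type*} [Group G] [Finite G] [IsSimpleGroup G] : Nat.card G ≠ 1440 := by
  intro h
  haveI : Fact (Nat.Prime 5) := ⟨by norm_num⟩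
  have hG : ¬ IsMulCommutative G := not_isMulCommutative_of_not_prime (by rw [h]; norm_num)
  have hn := card_sylow_mem hG (p := 5) (k := 1) (m := 288) (by rw [h]; norm_num) (by norm_num) one_ne_zero
  have e : (Nat.divisors 288).filter (fun d => d % 5 = 1 ∧ d ≠ 1) = {6, 16, 36, 96} := by decide +kernel
  rw [e] at hn
  simp only [Finset.mem_insert, Finset.mem_singleton] at hn
  have P : Sylow 5 G := default
  have hP := (card_sylow_eq P (k := 1) (m := 288) (by rw [h]; norm_num) (by norm_num)).trans (pow_one 5)
  have hN := card_normalizer_sylow_mul P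
  rw [h] at hN
  obtain ⟨e, he, he1, ⟨c, hc⟩, hcard⟩ := exists_card_normalizer_eq_of_simple hG P hP
  rw [hcard, hc] at hN
  have hmem : e ∈ Nat.divisors 4 := Nat.mem_divisors.mpr ⟨he, by norm_num⟩
  rw [show Nat.divisors 4 = {1, 2, 4} from by decide +kernel] at hmem
  simp only [Finset.mem_insert, Finset.mem_singleton] at hmem
  rcases hn with hn | hn | hn | hn
  · have := two_mul_card_dvd_of_card_sylow hG (p := 5) (by norm_num) (by rw [h]; norm_num) hn
    rw [h] at this
    norm_num at this
  · rw [hn] at hN
    have := card_centralizer_dvd_of_card_sylow hG P hP (k := 3) (by rw [hn])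
    rw [hc] at this
    rcases hmem with rfl | rfl | rfl
    · exact he1 rfl
    · obtain rfl : c = 9 := by omega
      norm_num [Nat.factorial] at this
    · omega
  · exact Order1440.not_thirty_six h P hn
  · rw [hn] at hN
    rcases hmem with rfl | rfl | rfl
    · exact he1 rfl
    · omega
    · omega

end Cfsg.Agent.S1016
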