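import Cfsg.Statements.S1022
import Mathlib
-- import your own Cfsg.Agent.* helpers here

set_option autoImplicit false
open Cfsg

namespace Cfsg.Agent.S1022

open Subgroup

set_option linter.style.haveILetI false

theorem eq_top_of_normal {G : Type*} [Group G] [IsSimpleGroup G] {N : Subgroup G} (hN : N.Normal)
    {x : G} (hx : x ∈ N) (hx1 : x ≠ 1) : N = ⊤ :=
  (hN.eq_bot_or_eq_top).resolve_left fun e => hx1 (mem_bot.1 (e ▸ hx))

variable {G : Type*} [Group G] [Finite G]

theorem sylow_card (hcard : Nat.card G = 459648) (P : Sylow 19 G) [Fact (Nat.Prime 19)] :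
    Nat.card (P : Subgroup G) = 19 := by
  rw [P.card_eq_multiplicity, hcard]
  have h1 : Nat.factorization 459648 19 = 1 := by
    rw [show 459648 = 19 * 24192 by norm_num, Nat.factorization_mul (by norm_num) (by norm_num)]
    simp [Nat.Prime.factorization_self (Fact.out : Nat.Prime 19),
      Nat.factorization_eq_zero_of_not_dvd (show ¬ 19 ∣ 24192 by norm_num)]
  rw [h1, pow_one]

theorem sylow_count (hcard : Nat.card G = 459648) [Fact (Nat.Prime 19)] (L : Subgroup G)
    (P : Sylow 19 G) (hP : (P : Subgroup G) ≤ L) :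
    (Nat.card (Sylow 19 L) = 1 ∨ Nat.card (Sylow 19 L) = 96 ∨ Nat.card (Sylow 19 L) = 1008) ∧
      Nat.card L = Nat.card (Sylow 19 L) *
        Nat.card (L ⊓ normalizer ((P : Subgroup G) : Set G) : Subgroup G) := by
  have hn : Nat.card (Sylow 19 L) =
      ((normalizer ((P : Subgroup G) : Set G)).subgroupOf L).index := by
    rw [Sylow.card_eq_index_normalizer (P.subtype hP), subgroupOf_normalizer_eq hP]
    rfl
  have hL : Nat.card L = Nat.card (Sylow 19 L) *
      Nat.card (L ⊓ normalizer ((P : Subgroup G) : Set G) : Subgroup G) := by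
    rw [hn, mul_comm, ← Nat.card_congr (Subgroup.subgroupOfEquivOfLe
        (inf_le_left : L ⊓ normalizer ((P : Subgroup G) : Set G) ≤ L)).toEquiv,
      inf_subgroupOf_left, Subgroup.card_mul_index]
  refine ⟨?_, hL⟩
  have h19 : 19 ∣ Nat.card (L ⊓ normalizer ((P : Subgroup G) : Set G) : Subgroup G) :=
    (sylow_card hcard P).symm.dvd.trans (card_dvd_of_le (le_inf hP le_normalizer))
  have hdvd : Nat.card (Sylow 19 L) * 19 ∣ 24192 * 19 := by
    have h1 := card_subgroup_dvd_card L
    rw [hcard, hL] at h1
    exact (mul_dvd_mul_left _ h19).trans h1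
  have hd : Nat.card (Sylow 19 L) ∈ Nat.divisors 24192 :=
    Nat.mem_divisors.2 ⟨Nat.dvd_of_mul_dvd_mul_right (by norm_num) hdvd, by norm_num⟩
  have hm : Nat.card (Sylow 19 L) % 19 = 1 := card_sylow_modEq_one 19 L
  have key : ∀ d ∈ Nat.divisors 24192, d % 19 = 1 → d = 1 ∨ d = 96 ∨ d = 1008 := by decide +kernel
  exact key _ hd hm

/-- No finite simple group has order 459648 = 2^7 * 3^3 * 7 * 19. -/
theorem result {G : Type*} [Group G] [Finite G] [IsSimpleGroup G] : Nat.card G ≠ 459648 := by
  intro hcard
  haveI : Fact (Nat.Prime 19) := ⟨by norm_num⟩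
  haveI : Fact (Nat.Prime 7) := ⟨by norm_num⟩
  haveI : Fact (Nat.Prime 2) := ⟨Nat.prime_two⟩
  let P : Sylow 19 G := default
  have hP := sylow_card hcard P
  set N := normalizer ((P : Subgroup G) : Set G) with hN
  have hNne : N ≠ ⊤ := fun e => by
    haveI : (P : Subgroup G).Normal := normalizer_eq_top_iff.1 e
    rcases (inferInstance : (P : Subgroup G).Normal).eq_bot_or_eq_top with h | h
    · rw [h, card_bot] at hP; omega
    · rw [h, card_top, hcard] at hP; omega
  obtain ⟨hn, hN'⟩ := sylow_count hcard ⊤ P le_top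
  rw [card_top, top_inf_eq, hcard] at hN'
  have htopn : Nat.card (Sylow 19 (⊤ : Subgroup G)) = Nat.card (Sylow 19 G) := by
    rw [P.card_eq_index_normalizer]
    refine Nat.eq_of_mul_eq_mul_right (m := Nat.card N) Nat.card_pos ?_
    rw [← hN', ← hcard]
    exact ((mul_comm _ _).trans (Subgroup.card_mul_index N)).symm
  rw [htopn] at hn hN'
  change _ = _ * Nat.card N at hN'
  set C := centralizer ((P : Subgroup G) : Set G) with hC
  have hCN : C ≤ N := centralizer_le_normalizer _
  have hidx : (C.subgroupOf N).index ∣ 18 := by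
    rw [hC, hN, ← normalizerMonoidHom_ker, index_ker]
    refine (card_subgroup_dvd_card _).trans ?_
    haveI : IsCyclic (P : Subgroup G) := isCyclic_of_prime_card hP
    rw [IsCyclic.card_mulAut, hP, Nat.totient_prime (by norm_num)]
  have hCcard : Nat.card C * (C.subgroupOf N).index = Nat.card N := by
    rw [← Subgroup.card_mul_index (C.subgroupOf N),
      Nat.card_congr (subgroupOfEquivOfLe hCN).toEquiv]
  rcases hn with hn | hn | hn
  · -- one Sylow subgroup
    rw [hn, one_mul] at hN'
    exact hNne (eq_top_of_card_eq N (hcard.trans hN').symm)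
  · -- an element of order 7 fixes every Sylow subgroup
    rw [hn] at hN'
    have h7 : 7 ∣ Nat.card C := by
      have h := (show Nat.card N = 4788 by omega) ▸ hCcard
      have h' : 7 ∣ Nat.card C * (C.subgroupOf N).index := by rw [h]; norm_num
      refine ((Nat.Prime.dvd_mul (by norm_num)).1 h').resolve_right fun hd => ?_
      have := hd.trans hidx
      norm_num at this
    obtain ⟨⟨y, hyC⟩, hy⟩ := exists_prime_orderOf_dvd_card' 7 h7
    rw [Subgroup.orderOf_mk] at hy
    let X := {Q : Sylow 19 G // y • Q ≠ Q}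
    have hcomm : ∀ a ∈ (P : Subgroup G), Commute a y := fun a ha => mem_centralizer_iff.1 hyC a ha
    letI : MulAction (P : Subgroup G) X :=
      { smul := fun a Q => ⟨(a : G) • (Q : Sylow 19 G), fun e => Q.2 (smul_left_cancel (a : G)
          (by rwa [← mul_smul, (hcomm a a.2).eq, mul_smul]))⟩
        one_smul := fun Q => Subtype.ext (one_smul G (Q : Sylow 19 G))
        mul_smul := fun a b Q => Subtype.ext (mul_smul (a : G) (b : G) (Q : Sylow 19 G)) }
    have h19X : 19 ∣ Nat.card X := by
      have h := P.2.card_modEq_card_fixedPoints X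
      haveI : IsEmpty (MulAction.fixedPoints (P : Subgroup G) X) := ⟨fun Q => by
        have hle : (P : Subgroup G) ≤ (Q.1.1 : Subgroup G) := P.2.sylow_mem_fixedPoints_iff.1
          fun a => congrArg Subtype.val (Q.2 a)
        have hQP : (Q.1.1 : Sylow 19 G) = P := Sylow.ext (P.3 Q.1.1.2 hle)
        apply Q.1.2
        rw [hQP]
        exact Sylow.smul_eq_iff_mem_normalizer.2 (hCN hyC)⟩
      rw [Nat.card_of_isEmpty (α := MulAction.fixedPoints _ X)] at h
      exact Nat.modEq_zero_iff_dvd.1 h
    have hyX : ∀ a ∈ zpowers y, ∀ Q : X, y • (a • (Q : Sylow 19 G)) ≠ a • (Q : Sylow 19 G) := by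
      intro a ha Q e
      obtain ⟨i, rfl⟩ := ha
      exact Q.2 (smul_left_cancel (y ^ i)
        (by rwa [← mul_smul, (Commute.zpow_self y i).eq, mul_smul]))
    letI : MulAction (zpowers y) X :=
      { smul := fun a Q => ⟨(a : G) • (Q : Sylow 19 G), hyX a a.2 Q⟩
        one_smul := fun Q => Subtype.ext (one_smul G (Q : Sylow 19 G))
        mul_smul := fun a b Q => Subtype.ext (mul_smul (a : G) (b : G) (Q : Sylow 19 G)) }
    have h7X : 7 ∣ Nat.card X := by
      have hp : IsPGroup 7 (zpowers y) :=
        IsPGroup.of_card (n := 1) (by rw [Nat.card_zpowers, hy, pow_one])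
      have h := hp.card_modEq_card_fixedPoints X
      haveI : IsEmpty (MulAction.fixedPoints (zpowers y) X) :=
        ⟨fun Q => Q.1.2 (congrArg Subtype.val (Q.2 ⟨y, mem_zpowers y⟩))⟩
      rw [Nat.card_of_isEmpty (α := MulAction.fixedPoints _ X)] at h
      exact Nat.modEq_zero_iff_dvd.1 h
    have hX : Nat.card X = 0 := by
      have h1 : Nat.card X ≤ 96 := hn ▸ Finite.card_subtype_le _
      have h2 : 133 ∣ Nat.card X := (show Nat.Coprime 19 7 by norm_num).mul_dvd_of_dvd_of_dvd h19X h7X
      omega
    have hyfix : y ∈ (MulAction.toPermHom G (Sylow 19 G)).ker := by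
      rw [MonoidHom.mem_ker]
      ext1 Q
      show y • Q = Q
      by_contra hQ
      haveI : Nonempty X := ⟨⟨Q, hQ⟩⟩
      exact Nat.card_pos.ne' hX
    have htop := eq_top_of_normal (MonoidHom.normal_ker _) hyfix
      (fun e => by rw [e, orderOf_one] at hy; omega)
    refine hNne (eq_top_iff.2 fun g _ => Sylow.smul_eq_iff_mem_normalizer.1 ?_)
    have h1 : g ∈ (MulAction.toPermHom G (Sylow 19 G)).ker := by rw [htop]; exact mem_top g
    exact Equiv.ext_iff.1 (MonoidHom.mem_ker.1 h1) P
  · -- an involution centralizing two Sylow 19-subgroups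
    rw [hn] at hN'
    have hN456 : Nat.card N = 456 := by omega
    let T₀ : Sylow 2 N := default
    set T := (T₀ : Subgroup N).map N.subtype with hT
    have hT2 : IsPGroup 2 T := T₀.2.map _
    have hTN : T ≤ N := map_subtype_le _
    have hT8 : Nat.card T = 8 := by
      rw [hT, card_map_of_injective N.subtype_injective, T₀.card_eq_multiplicity, hN456,
        show 456 = 2 ^ 3 * 57 by norm_num, Nat.factorization_mul (by norm_num) (by norm_num),
        Nat.Prime.factorization_pow Nat.prime_two]
      simp [Nat.factorization_eq_zero_of_not_dvd (show ¬ 2 ∣ 57 by norm_num)]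
    obtain ⟨S, hTS⟩ := hT2.exists_le_sylow
    have hS : Nat.card (S : Subgroup G) = 128 := by
      rw [S.card_eq_multiplicity, hcard, show 459648 = 2 ^ 7 * 3591 by norm_num,
        Nat.factorization_mul (by norm_num) (by norm_num),
        Nat.Prime.factorization_pow Nat.prime_two]
      simp [Nat.factorization_eq_zero_of_not_dvd (show ¬ 2 ∣ 3591 by norm_num)]
    obtain ⟨g, hgS, hgT, hgnT⟩ : ∃ g ∈ (S : Subgroup G), g ∈ normalizer (T : Set G) ∧ g ∉ T := by
      haveI : Group.IsNilpotent (S : Subgroup G) := S.2.isNilpotent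
      have hlt : T.subgroupOf S < ⊤ := lt_top_iff_ne_top.2 fun e => by
        have h := Nat.card_congr (subgroupOfEquivOfLe hTS).toEquiv
        rw [e, card_top, hS, hT8] at h
        omega
      obtain ⟨⟨g, hg⟩, hg1, hg2⟩ := SetLike.exists_of_lt
        (Group.normalizerCondition_of_isNilpotent _ hlt)
      rw [← subgroupOf_normalizer_eq hTS] at hg1
      exact ⟨g, hg, hg1, hg2⟩
    have hgN : g ∉ N := fun h => hgnT <| by
      have h2 : IsPGroup 2 (((T ⊔ zpowers g) : Subgroup G).subgroupOf N) :=
        (S.2.to_le (sup_le hTS (zpowers_le.2 hgS))).comap_of_injective N.subtype N.subtype_injective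
      have h3 : (T₀ : Subgroup N) ≤ ((T ⊔ zpowers g) : Subgroup G).subgroupOf N := fun t ht =>
        mem_subgroupOf.2 (mem_sup_left (mem_map_of_mem _ ht))
      have h4 : (⟨g, h⟩ : N) ∈ (T₀ : Subgroup N) :=
        T₀.3 h2 h3 ▸ mem_subgroupOf.2 (mem_sup_right (mem_zpowers g))
      exact mem_map_of_mem N.subtype h4
    set φ := (MulAut.conj g).toMonoidHom with hφ
    set Q := T ⊓ C with hQ
    have hQn : ∀ t ∈ T, ∀ q ∈ Q, t * q * t⁻¹ ∈ Q := by
      intro t ht q hq
      refine ⟨T.mul_mem (T.mul_mem ht hq.1) (T.inv_mem ht), mem_centralizer_iff.2 fun a ha => ?_⟩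
      have h := mem_centralizer_iff.1 hq.2 (t⁻¹ * a * t)
        (show t⁻¹ * a * t ∈ (P : Subgroup G) by simpa using (mem_normalizer_iff.1 (inv_mem (hTN ht)) a).1 ha)
      calc a * (t * q * t⁻¹) = t * (t⁻¹ * a * t * q) * t⁻¹ := by group
        _ = t * (q * (t⁻¹ * a * t)) * t⁻¹ := by rw [h]
        _ = t * q * t⁻¹ * a := by group
    have hφT : T.map φ = T := by
      ext x
      rw [mem_map]
      constructor
      · rintro ⟨t, ht, rfl⟩; exact (mem_normalizer_iff.1 hgT t).1 ht
      · intro hx
        exact ⟨g⁻¹ * x * g, (mem_normalizer_iff.1 hgT _).2 (by simpa [mul_assoc] using hx),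
          by simp [hφ, mul_assoc]⟩
    -- the two kernels meet non-trivially
    obtain ⟨z, hzT, hz1, hzC, hzCg⟩ : ∃ z : G, (∀ t ∈ T, t * z = z * t) ∧ z ≠ 1 ∧ z ∈ C ∧
        z ∈ C.map φ := by
      have hQ4 : 4 ≤ Nat.card Q := by
        have h1 : Nat.card Q * C.relIndex T = 8 := by
          rw [hQ, ← inf_relIndex_left T C, ← relIndex_bot_left, relIndex_mul_relIndex _ _ _ bot_le
            inf_le_left, relIndex_bot_left, hT8]
        have h2 : C.relIndex T ∣ 18 := by
          refine Dvd.dvd.trans ?_ hidx
          haveI : (C.subgroupOf N).Normal := by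
            rw [hC, hN, ← normalizerMonoidHom_ker]; infer_instance
          rw [← relIndex_subgroupOf hTN]
          exact relIndex_dvd_index_of_normal _ _
        have h3 : C.relIndex T ∣ 8 := ⟨_, (h1.symm.trans (mul_comm _ _))⟩
        have h4 : C.relIndex T ∣ 2 := (show Nat.gcd 18 8 = 2 by norm_num) ▸ Nat.dvd_gcd h2 h3
        have := Nat.le_of_dvd two_pos h4
        nlinarith
      have hne : Q ⊓ Q.map φ ≠ ⊥ := by
        intro e
        have hinj : Function.Injective fun ab : Q × (Q.map φ : Subgroup G) =>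
            (⟨(ab.1 : G) * ab.2, mul_mem ab.1.2.1 (hφT ▸ map_mono inf_le_left ab.2.2)⟩ : T) := by
          intro ab ab' h
          have h' : (ab.1 : G) * ab.2 = ab'.1 * ab'.2 := congrArg Subtype.val h
          exact (Subgroup.mul_injective_of_disjoint (disjoint_iff.2 e)) h'
        have h := Nat.card_le_card_of_injective _ hinj
        rw [Nat.card_prod, hT8, card_map_of_injective (MulAut.conj g).injective] at h
        nlinarith
      set D := (Q ⊓ Q.map φ).subgroupOf T with hD
      haveI : D.Normal := ⟨fun d hd t => by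
        rw [hD, mem_subgroupOf] at hd ⊢
        refine ⟨hQn t t.2 d hd.1, ?_⟩
        obtain ⟨q, hq, hqd⟩ := hd.2
        obtain ⟨s, hs, hst⟩ : (t : G) ∈ T.map φ := by rw [hφT]; exact t.2
        refine ⟨s * q * s⁻¹, hQn s hs q hq, ?_⟩
        simp only [map_mul, map_inv, hqd, hst, Subgroup.coe_mul, InvMemClass.coe_inv]⟩
      have hDne : D ≠ ⊥ := by
        intro e
        apply hne
        rw [eq_bot_iff]
        intro x hx
        have h : (⟨x, hx.1.1⟩ : T) ∈ D := hx
        rw [e, mem_bot] at h
        exact mem_bot.2 (congrArg Subtype.val h)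
      letI : MulAction T D := MulAction.compHom D (MulAut.conjNormal (H := D))
      obtain ⟨k, hk⟩ := IsPGroup.iff_card.1 (hT2.to_subgroup D)
      have hk0 : k ≠ 0 := fun e => hDne (card_eq_one.1 (by rw [hk, e, pow_zero]))
      obtain ⟨d, hd, hd1⟩ := hT2.exists_fixed_point_of_prime_dvd_card_of_fixed_point D
        (hk ▸ dvd_pow_self 2 hk0) (a := 1) (fun t => map_one (MulAut.conjNormal t : MulAut D))
      refine ⟨((d : T) : G), fun t ht => ?_, fun e => hd1 (Subtype.ext (Subtype.ext e.symm)),
        (mem_subgroupOf.1 d.2).1.2, map_mono inf_le_right (mem_subgroupOf.1 d.2).2⟩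
      have h : ((MulAut.conjNormal (⟨t, ht⟩ : T) d : D) : T) = d := congrArg Subtype.val (hd ⟨t, ht⟩)
      rw [MulAut.conjNormal_apply] at h
      exact mul_inv_eq_iff_eq_mul.1 (congrArg Subtype.val h)
    set L := centralizer ({z} : Set G) with hL
    have hPL : (P : Subgroup G) ≤ L := fun a ha =>
      mem_centralizer_singleton_iff.2 (mem_centralizer_iff.1 hzC a ha)
    have hgPL : (P : Subgroup G).map φ ≤ L := by
      rintro _ ⟨a, ha, rfl⟩
      obtain ⟨c, hc, rfl⟩ := hzCg
      refine mem_centralizer_singleton_iff.2 ?_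
      rw [← map_mul, ← map_mul, mem_centralizer_iff.1 hc a ha]
    obtain ⟨hnL, hLc⟩ := sylow_count hcard L P hPL
    have h8 : 8 ∣ Nat.card (L ⊓ N : Subgroup G) :=
      hT8 ▸ card_dvd_of_le (le_inf (fun t ht => mem_centralizer_singleton_iff.2 (hzT t ht)) hTN)
    have hPg : ∀ hh : Nat.card (Sylow 19 L) = 1, False := fun hh => by
      haveI := (Nat.card_eq_one_iff_unique.1 hh).1
      have hgP : ((g • P : Sylow 19 G) : Subgroup G) ≤ L := hgPL
      have e : g • P = P := Sylow.subtype_injective (hP := hgP) (hQ := hPL) (Subsingleton.elim _ _)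
      exact hgN (Sylow.smul_eq_iff_mem_normalizer.1 e)
    rcases hnL with hh | hh | hh
    · exact hPg hh
    · rw [hh] at hLc
      have h1 := card_subgroup_dvd_card L
      rw [hcard, hLc] at h1
      have h2 : 96 * 8 ∣ 459648 := (mul_dvd_mul_left 96 h8).trans h1
      norm_num at h2
    · -- all Sylow 19-subgroups centralize `z`
      have hall : ∀ R : Sylow 19 G, (R : Subgroup G) ≤ L := by
        intro R
        let f : {R : Sylow 19 G // (R : Subgroup G) ≤ L} → Sylow 19 L := fun R => R.1.subtype R.2
        have hfs : Function.Surjective f := fun R' => by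
          obtain ⟨R, hR⟩ := R'.exists_comap_subtype_eq
          have hcR : Nat.card (R : Subgroup G) = Nat.card (R' : Subgroup L) := by
            rw [sylow_card hcard R]
            obtain ⟨k, hk⟩ := Sylow.isPretransitive_of_finite.exists_smul_eq (P.subtype hPL) R'
            rw [Nat.card_congr (Sylow.equiv R' (P.subtype hPL)).toEquiv, Sylow.coe_subtype,
              Nat.card_congr (subgroupOfEquivOfLe hPL).toEquiv, hP]
          have hle : (R : Subgroup G) ≤ L := by
            have h : (R' : Subgroup L).map L.subtype = R := by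
              refine Subgroup.eq_of_le_of_card_ge ?_ ?_
              · rw [← hR]; exact map_comap_le _ _
              · rw [card_map_of_injective L.subtype_injective, hcR]
            rw [← h]; exact map_subtype_le _
          exact ⟨⟨R, hle⟩, Sylow.ext (by rw [← hR]; rfl)⟩
        have h1 := Nat.card_le_card_of_surjective f hfs
        rw [hh, ← hn] at h1
        by_contra hR
        have h2 := Finite.card_subtype_lt (p := fun R : Sylow 19 G => (R : Subgroup G) ≤ L) hR
        omega
      have hcl : normalClosure ((P : Subgroup G) : Set G) ≤ L := by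
        rw [normalClosure, closure_le]
        intro x hx
        obtain ⟨a, ha, hax⟩ := Group.mem_conjugatesOfSet_iff.1 hx
        obtain ⟨k, hk⟩ := isConj_iff.1 hax
        exact hall (k • P) (hk ▸ mem_map_of_mem (MulAut.conj k).toMonoidHom ha)
      obtain ⟨a, ha, ha1⟩ : ∃ a ∈ (P : Subgroup G), a ≠ 1 :=
        (bot_or_exists_ne_one _).resolve_left fun e => by rw [e, card_bot] at hP; omega
      have hLtop : L = ⊤ := top_le_iff.1
        ((eq_top_of_normal normalClosure_normal (subset_normalClosure ha) ha1).ge.trans hcl)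
      have hcen : center G = ⊤ := eq_top_of_normal inferInstance
        (mem_center_iff.2 fun x => mem_centralizer_singleton_iff.1 (show x ∈ L by rw [hLtop]; exact mem_top x)) hz1
      refine hNne (eq_top_iff.2 fun x _ => hCN (mem_centralizer_iff.2 fun b _ => ?_))
      exact mem_center_iff.1 (hcen ▸ mem_top x) b

end Cfsg.Agent.S1022
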