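import Cfsg.Statements.S1030
import Cfsg.Agent.Lib.Chev.SL2Hom
import Cfsg.Agent.Lib.Chev.RootOrbit

set_option autoImplicit false
open Cfsg

namespace Cfsg.Agent.S1030

/-- There is a homomorphism `SL₂(F) → GL` with image `⟨X_r, X_{-r}⟩` sending `[[1,t],[0,1]]` to `x_r(t)` and `[[1,0],[t,1]]` to `x_{-r}(t)`. -/
theorem result {F : Type*} [Field F] (D : Cfsg.Lie.ChevalleyDatum) (hD : D ∈ [Cfsg.Lie.chevG2, Cfsg.Lie.chevB2, Cfsg.Lie.chevD4, Cfsg.Lie.chevF4, Cfsg.Lie.chevE6, Cfsg.Lie.chevE7, Cfsg.Lie.chevE8]) (r : ℕ) (hr : r < D.nroots) :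
    ∃ φ : Matrix.SpecialLinearGroup (Fin 2) F →* GL D.Idx F,
      φ.range = D.rootSubgroup F r ⊔ D.rootSubgroup F (D.neg r) ∧
      ∀ (g : Matrix.SpecialLinearGroup (Fin 2) F) (t : F),
        ((g : Matrix (Fin 2) (Fin 2) F) = !![1, t; 0, 1] → ((φ g : GL D.Idx F) : Matrix D.Idx D.Idx F) = D.x F r t) ∧
        ((g : Matrix (Fin 2) (Fin 2) F) = !![1, 0; t, 1] → ((φ g : GL D.Idx F) : Matrix D.Idx D.Idx F) = D.x F (D.neg r) t) := by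
  have key : ∃ C, ∃ hh : Lib.Chev.Rooted D C, Lib.Twisted.chkEtaSigns D C = true := by
    simp only [List.mem_cons, List.not_mem_nil, or_false] at hD
    rcases hD with rfl | rfl | rfl | rfl | rfl | rfl | rfl
    exacts [⟨_, ⟨Lib.Chev.checked_G2, Lib.Chev.descent_G2⟩, Lib.Twisted.etaSigns_G2⟩,
      ⟨_, ⟨Lib.Chev.checked_B2, Lib.Chev.descent_B2⟩, Lib.Twisted.etaSigns_B2⟩,
      ⟨_, ⟨Lib.Chev.checked_D4, Lib.Chev.descent_D4⟩, Lib.Twisted.etaSigns_D4⟩,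
      ⟨_, ⟨Lib.Chev.checked_F4, Lib.Chev.descent_F4⟩, Lib.Twisted.etaSigns_F4⟩,
      ⟨_, ⟨Lib.Chev.checked_E6, Lib.Chev.descent_E6⟩, Lib.Twisted.etaSigns_E6⟩,
      ⟨_, ⟨Lib.Chev.checked_E7, Lib.Chev.descent_E7⟩, Lib.Twisted.etaSigns_E7⟩,
      ⟨_, ⟨Lib.Chev.checked_E8, Lib.Chev.descent_E8⟩, Lib.Twisted.etaSigns_E8⟩]
  obtain ⟨C, hh, hs⟩ := key
  obtain ⟨φ, hrange, hφ⟩ := hh.hasSL2 (F := F) hs r hr hr
  rw [hh.toChecked.neg_eq hr]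
  refine ⟨φ, hrange, fun g t => ⟨fun e => ?_, fun e => ?_⟩⟩
  · rw [show g = Lib.Chev.RankOneData.upper t from Subtype.ext e, (hφ t).1, Lib.Chev.coe_xGL]
  · rw [show g = Lib.Chev.RankOneData.lower t from Subtype.ext e, (hφ t).2, Lib.Chev.coe_xGL]

end Cfsg.Agent.S1030
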