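import Cfsg.Statements.S1032
import Cfsg.Agent.Lib.Chev.Basic

set_option autoImplicit false
open Cfsg

namespace Cfsg.Agent.S1032

/-- For a fundamental root `p`, a root `s` and `c ≠ 0`: `h_p(c) x_s(t) h_p(c)⁻¹ = x_s(c^{A_{p,s}} t)`, stated as `h_p(c) x_s(t) = x_s(c^{A_{p,s}} t) h_p(c)`. -/
theorem result {F : Type*} [Field F] (D : Cfsg.Lie.ChevalleyDatum) (hD : D ∈ [Cfsg.Lie.chevG2, Cfsg.Lie.chevB2, Cfsg.Lie.chevD4, Cfsg.Lie.chevF4, Cfsg.Lie.chevE6, Cfsg.Lie.chevE7, Cfsg.Lie.chevE8]) (i s : ℕ) (hi : i < D.rank) (hs : s < D.nroots) (c : F) (hc : c ≠ 0) (t : F) :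
    D.hMat F (D.simple i) c * D.x F s t = D.x F s (c ^ (D.cartan i s) * t) * D.hMat F (D.simple i) c := by
  obtain ⟨C, h⟩ := Cfsg.Agent.Lib.Chev.exists_rooted hD
  have hc' := h.toChecked
  have hh := hc'.hMat_simple hi (Units.mk0 c hc)
  rw [Units.val_mk0] at hh
  rw [hh, ← Units.val_mk0 hc, Cfsg.Agent.Lib.Chev.powDiag_eq_charDiag]
  set u := Units.mk0 c hc
  have := Cfsg.Agent.Lib.Chev.Checked.charDiag_mul_x_of_eq hc' (fun j => u ^ D.cartan i (D.simple j)) hs t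
    (χ := fun a => u ^ D.cartan i a) (fun a ha => Cfsg.Agent.Lib.Chev.Checked.chiOf_cartan hc' hi u ha)
  rwa [Units.val_zpow_eq_zpow_val] at this

end Cfsg.Agent.S1032
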