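import Cfsg.Statements.S1035
import Cfsg.Agent.Lib.Chev.PoincareG2
import Cfsg.Agent.Lib.Chev.PoincareF4
import Cfsg.Agent.Lib.Chev.PoincareE8
import Cfsg.Agent.Lib.Chev.PoincareE6
import Cfsg.Agent.Lib.Chev.PoincareE7
import Cfsg.Agent.Lib.Chev.PoincareB2
import Cfsg.Agent.Lib.Chev.PoincareD4
import Cfsg.Agent.Lib.Chev.RootOrbit

set_option autoImplicit false
open Cfsg

namespace Cfsg.Agent.S1035

/-- `d · |H| = (q - 1)^rank` over a field with `q` elements, with `d = 1` (G₂, F₄, E₈), `gcd(3, q-1)` (E₆), `gcd(2, q-1)` (E₇, B₂), `gcd(2, q-1)²` (D₄). -/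
theorem result {F : Type*} [Field F] [Fintype F] {q : ℕ} (hq : Fintype.card F = q)
    (p : Cfsg.Lie.ChevalleyDatum × ℕ)
    (hp : p ∈ [(Cfsg.Lie.chevG2, 1), (Cfsg.Lie.chevF4, 1), (Cfsg.Lie.chevE8, 1), (Cfsg.Lie.chevE6, Nat.gcd 3 (q - 1)),
      (Cfsg.Lie.chevE7, Nat.gcd 2 (q - 1)), (Cfsg.Lie.chevB2, Nat.gcd 2 (q - 1)), (Cfsg.Lie.chevD4, Nat.gcd 2 (q - 1) ^ 2)]) :
    p.2 * Nat.card (p.1.diagonalSubgroup F) = (q - 1) ^ p.1.rank := by
  simp only [List.mem_cons, List.not_mem_nil, or_false] at hp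
  rcases hp with rfl | rfl | rfl | rfl | rfl | rfl | rfl
  · have h := (Lib.Chev.Rooted.mk Lib.Chev.checked_G2 Lib.Chev.descent_G2).card_diagonal (F := F) Lib.Chev.G2.smith_ok
    have hd : (∏ i : Fin Cfsg.Lie.chevG2.rank, (q - 1).gcd (([1, 1] : List ℕ).getD i.val 0)) = 1 := by
      show (∏ i : Fin 2, _) = _
      simp [Fin.prod_univ_succ, Nat.gcd_comm, pow_two]
    rw [hq, hd] at h
    exact h
  · have h := (Lib.Chev.Rooted.mk Lib.Chev.checked_F4 Lib.Chev.descent_F4).card_diagonal (F := F) Lib.Chev.F4.smith_ok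
    have hd : (∏ i : Fin Cfsg.Lie.chevF4.rank, (q - 1).gcd (([1, 1, 1, 1] : List ℕ).getD i.val 0)) = 1 := by
      show (∏ i : Fin 4, _) = _
      simp [Fin.prod_univ_succ, Nat.gcd_comm, pow_two]
    rw [hq, hd] at h
    exact h
  · have h := (Lib.Chev.Rooted.mk Lib.Chev.checked_E8 Lib.Chev.descent_E8).card_diagonal (F := F) Lib.Chev.E8.smith_ok
    have hd : (∏ i : Fin Cfsg.Lie.chevE8.rank, (q - 1).gcd (([1, 1, 1, 1, 1, 1, 1, 1] : List ℕ).getD i.val 0)) = 1 := by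
      show (∏ i : Fin 8, _) = _
      simp [Fin.prod_univ_succ, Nat.gcd_comm, pow_two]
    rw [hq, hd] at h
    exact h
  · have h := (Lib.Chev.Rooted.mk Lib.Chev.checked_E6 Lib.Chev.descent_E6).card_diagonal (F := F) Lib.Chev.E6.smith_ok
    have hd : (∏ i : Fin Cfsg.Lie.chevE6.rank, (q - 1).gcd (([1, 1, 1, 1, 1, 3] : List ℕ).getD i.val 0)) = Nat.gcd 3 (q - 1) := by
      show (∏ i : Fin 6, _) = _
      simp [Fin.prod_univ_succ, Nat.gcd_comm, pow_two]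
    rw [hq, hd] at h
    exact h
  · have h := (Lib.Chev.Rooted.mk Lib.Chev.checked_E7 Lib.Chev.descent_E7).card_diagonal (F := F) Lib.Chev.E7.smith_ok
    have hd : (∏ i : Fin Cfsg.Lie.chevE7.rank, (q - 1).gcd (([1, 1, 1, 1, 1, 1, 2] : List ℕ).getD i.val 0)) = Nat.gcd 2 (q - 1) := by
      show (∏ i : Fin 7, _) = _
      simp [Fin.prod_univ_succ, Nat.gcd_comm, pow_two]
    rw [hq, hd] at h
    exact h
  · have h := (Lib.Chev.Rooted.mk Lib.Chev.checked_B2 Lib.Chev.descent_B2).card_diagonal (F := F) Lib.Chev.B2.smith_ok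
    have hd : (∏ i : Fin Cfsg.Lie.chevB2.rank, (q - 1).gcd (([1, 2] : List ℕ).getD i.val 0)) = Nat.gcd 2 (q - 1) := by
      show (∏ i : Fin 2, _) = _
      simp [Fin.prod_univ_succ, Nat.gcd_comm, pow_two]
    rw [hq, hd] at h
    exact h
  · have h := (Lib.Chev.Rooted.mk Lib.Chev.checked_D4 Lib.Chev.descent_D4).card_diagonal (F := F) Lib.Chev.D4.smith_ok
    have hd : (∏ i : Fin Cfsg.Lie.chevD4.rank, (q - 1).gcd (([1, 1, 2, 2] : List ℕ).getD i.val 0)) = Nat.gcd 2 (q - 1) ^ 2 := by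
      show (∏ i : Fin 4, _) = _
      simp [Fin.prod_univ_succ, Nat.gcd_comm, pow_two]
    rw [hq, hd] at h
    exact h

end Cfsg.Agent.S1035
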