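import Cfsg.Statements.S1039
import Cfsg.Agent.Lib.Chev.WeylIso
import Cfsg.Agent.Lib.Chev.PoincareG2
import Cfsg.Agent.Lib.Chev.PoincareB2
import Cfsg.Agent.Lib.Chev.PoincareD4
import Cfsg.Agent.Lib.Chev.PoincareF4
import Cfsg.Agent.Lib.Chev.PoincareE6
import Cfsg.Agent.Lib.Chev.PoincareE7
import Cfsg.Agent.Lib.Chev.PoincareE8
import Cfsg.Agent.Lib.Chev.RootOrbit
import Cfsg.Agent.Lib.Coxeter.Small
import Cfsg.Agent.Lib.Coxeter.E7
import Cfsg.Agent.Lib.Coxeter.E8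

set_option autoImplicit false
open Cfsg

namespace Cfsg.Agent.S1039

/-- `N/H ≅ W`: there is a surjective homomorphism from `N` onto the Coxeter group of the type (Mathlib's Coxeter matrix G₂, B₂, F₄, E₆, E₇, E₈, nodes numbered as the fundamental roots) with kernel `H`, mapping each `n_{p_i}` to the `i`-th simple reflection. -/
theorem result {F : Type*} [Field F]
    (p : Cfsg.Lie.ChevalleyDatum × (Σ n : ℕ, CoxeterMatrix (Fin n)))
    (hp : p ∈ [(Cfsg.Lie.chevG2, ⟨2, CoxeterMatrix.G₂⟩), (Cfsg.Lie.chevB2, ⟨2, CoxeterMatrix.B 2⟩), (Cfsg.Lie.chevD4, ⟨4, Cfsg.Lie.coxeterD4⟩), (Cfsg.Lie.chevF4, ⟨4, CoxeterMatrix.F₄⟩),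
      (Cfsg.Lie.chevE6, ⟨6, CoxeterMatrix.E₆⟩), (Cfsg.Lie.chevE7, ⟨7, CoxeterMatrix.E₇⟩), (Cfsg.Lie.chevE8, ⟨8, CoxeterMatrix.E₈⟩)]) :
    ∃ φ : ↥(p.1.monomialSubgroup F) →* p.2.2.Group, Function.Surjective φ ∧
      φ.ker = (p.1.diagonalSubgroup F).subgroupOf (p.1.monomialSubgroup F) ∧
      ∀ (i : Fin p.2.1) (g : ↥(p.1.monomialSubgroup F)),
        ((g : GL p.1.Idx F) : Matrix p.1.Idx p.1.Idx F) = p.1.nMat F (p.1.simple i) 1 → φ g = p.2.2.simple i := by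
  simp only [List.mem_cons, List.not_mem_nil, or_false] at hp
  rcases hp with rfl | rfl | rfl | rfl | rfl | rfl | rfl
  · exact (Lib.Chev.Rooted.mk Lib.Chev.checked_G2 Lib.Chev.descent_G2).exists_coxeterHom CoxeterMatrix.G₂ rfl
      (by decide +kernel) Lib.Chev.G2.chain_ok (Lib.Coxeter.card_coxeter_G2.trans (by decide +kernel))
  · exact (Lib.Chev.Rooted.mk Lib.Chev.checked_B2 Lib.Chev.descent_B2).exists_coxeterHom (CoxeterMatrix.B 2) rfl
      (by decide +kernel) Lib.Chev.B2.chain_ok (Lib.Coxeter.card_coxeter_B2.trans (by decide +kernel))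
  · exact (Lib.Chev.Rooted.mk Lib.Chev.checked_D4 Lib.Chev.descent_D4).exists_coxeterHom Cfsg.Lie.coxeterD4 rfl
      (by decide +kernel) Lib.Chev.D4.chain_ok (Lib.Coxeter.card_coxeter_D4.trans (by decide +kernel))
  · exact (Lib.Chev.Rooted.mk Lib.Chev.checked_F4 Lib.Chev.descent_F4).exists_coxeterHom CoxeterMatrix.F₄ rfl
      (by decide +kernel) Lib.Chev.F4.chain_ok (Lib.Coxeter.card_coxeter_F4.trans (by decide +kernel))
  · exact (Lib.Chev.Rooted.mk Lib.Chev.checked_E6 Lib.Chev.descent_E6).exists_coxeterHom CoxeterMatrix.E₆ rfl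
      (by decide +kernel) Lib.Chev.E6.chain_ok (Lib.Coxeter.card_coxeter_E6.trans (by decide +kernel))
  · exact (Lib.Chev.Rooted.mk Lib.Chev.checked_E7 Lib.Chev.descent_E7).exists_coxeterHom CoxeterMatrix.E₇ rfl
      (by decide +kernel) Lib.Chev.E7.chain_ok (Lib.Coxeter.card_coxeter_E7.trans (by decide +kernel))
  · exact (Lib.Chev.Rooted.mk Lib.Chev.checked_E8 Lib.Chev.descent_E8).exists_coxeterHom CoxeterMatrix.E₈ rfl
      (by decide +kernel) Lib.Chev.E8.chain_ok (Lib.Coxeter.card_coxeter_E8.trans (by decide +kernel))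

end Cfsg.Agent.S1039
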