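import Cfsg.Statements.S1046
import Cfsg.Agent.Lib.Chev.Bruhat

set_option autoImplicit false
open Cfsg

namespace Cfsg.Agent.S1046

/-- Two elements of `H` conjugate in the Chevalley group are conjugate by an element of `N`. -/
theorem result {F : Type*} [Field F] (D : Cfsg.Lie.ChevalleyDatum) (hD : D ∈ [Cfsg.Lie.chevG2, Cfsg.Lie.chevB2, Cfsg.Lie.chevD4, Cfsg.Lie.chevF4, Cfsg.Lie.chevE6, Cfsg.Lie.chevE7, Cfsg.Lie.chevE8]) (h₁ h₂ g : GL D.Idx F) (h1 : h₁ ∈ D.diagonalSubgroup F) (h2 : h₂ ∈ D.diagonalSubgroup F)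
    (hg : g ∈ D.group F) (hc : g * h₁ * g⁻¹ = h₂) :
    ∃ n ∈ D.monomialSubgroup F, n * h₁ * n⁻¹ = h₂ := by
  obtain ⟨C, hh⟩ := Lib.Chev.exists_rooted hD
  obtain ⟨L, hL, b, hb, u, hu, rfl⟩ := hh.exists_canonical hg
  set n := Lib.Chev.nProd hh.toChecked F L with hn
  obtain ⟨t', ht', et⟩ := hh.diag_mul_nProd hL h2
  have hu' : h₁⁻¹ * u * h₁ ∈ Lib.Chev.rootGen D F (Lib.Chev.invSet D C L) := by
    have := (Subgroup.mem_normalizer_iff.1 (inv_mem (hh.diagonal_le_normalizer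
      (S := Lib.Chev.invSet D C L) hh.toChecked.invSet_lt h1)) u).1 hu
    simpa using this
  have e : b * n * u * h₁ = h₂ * (b * n * u) := by rw [← hc]; group
  obtain ⟨v, hv, t, ht, rfl⟩ := hh.mem_borel_iff.1 hb
  obtain ⟨a, ha, ea⟩ := hh.nProd_conj_diag hL h1
  -- both sides in canonical form
  have hv' : h₂ * v * h₂⁻¹ ∈ D.posUnipotent F :=
    (Subgroup.mem_normalizer_iff.1 (hh.diagonal_le_normalizer_posUnipotent h2) v).1 hv
  have e1 : (v * (t * a)) * n * (h₁⁻¹ * u * h₁) = ((h₂ * v * h₂⁻¹) * (h₂ * t)) * n * u := by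
    calc (v * (t * a)) * n * (h₁⁻¹ * u * h₁) = v * t * (a * n) * h₁⁻¹ * u * h₁ := by group
      _ = v * t * (n * h₁) * h₁⁻¹ * u * h₁ := by rw [ea]
      _ = v * t * n * u * h₁ := by group
      _ = h₂ * (v * t * n * u) := e
      _ = _ := by group
  have hB1 : v * (t * a) ∈ D.borelSubgroup F :=
    mul_mem (Subgroup.mem_sup_left hv) (Subgroup.mem_sup_right (mul_mem ht ha))
  have hB2 : (h₂ * v * h₂⁻¹) * (h₂ * t) ∈ D.borelSubgroup F :=
    mul_mem (Subgroup.mem_sup_left hv') (Subgroup.mem_sup_right (mul_mem h2 ht))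
  obtain ⟨eb, -⟩ := hh.canonical_unique hL hB1 hB2 hu' hu e1
  have h3 : (h₂ * v * h₂⁻¹)⁻¹ * v = (h₂ * t) * (t * a)⁻¹ := by
    calc (h₂ * v * h₂⁻¹)⁻¹ * v = (h₂ * v * h₂⁻¹)⁻¹ * (v * (t * a)) * (t * a)⁻¹ := by group
      _ = _ := by rw [eb]; group
  have h4 : (h₂ * t) * (t * a)⁻¹ = 1 := by
    refine Subgroup.mem_bot.1 (hh.posUnipotent_inf_diagonal.le (Subgroup.mem_inf.2 ⟨?_, ?_⟩))
    · rw [← h3]; exact mul_mem (inv_mem hv') hv
    · exact mul_mem (mul_mem h2 ht) (inv_mem (mul_mem ht ha))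
  have h5 : h₂ = a := by
    have := mul_inv_eq_one.1 h4
    rw [hh.diagonal_commute h2 ht] at this
    exact mul_left_cancel this
  refine ⟨n, hh.nProd_mem_monomial hL, ?_⟩
  rw [mul_inv_eq_iff_eq_mul, ea, h5]

end Cfsg.Agent.S1046
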