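import Cfsg.Statements.S1061
import Cfsg.Agent.Lib.Chev.PoincareD4
import Cfsg.Agent.Lib.Chev.RootOrbit

set_option autoImplicit false
open Cfsg

namespace Cfsg.Agent.S1061

/-- `gcd(2, q-1)² · |D₄(q)| = q¹² (q² - 1)(q⁴ - 1)(q⁴ - 1)(q⁶ - 1)`. -/
theorem result {F : Type*} [Field F] [Fintype F] {q : ℕ} (hq : Fintype.card F = q) : Nat.gcd 2 (q - 1) ^ 2 * Nat.card ↥(Cfsg.Lie.chevD4.group F) = q ^ 12 * (q ^ 2 - 1) * (q ^ 4 - 1) * (q ^ 4 - 1) * (q ^ 6 - 1) := by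
  have h := (Lib.Chev.Rooted.mk Lib.Chev.checked_D4 Lib.Chev.descent_D4).card_group_mul (F := F)
    Lib.Chev.D4.smith_ok Lib.Chev.D4.chain_ok Lib.Chev.D4.poly_ok
  have hd : (∏ i : Fin Cfsg.Lie.chevD4.rank, (q - 1).gcd (([1, 1, 2, 2] : List ℕ).getD i.val 0)) = Nat.gcd 2 (q - 1) ^ 2 := by
    show (∏ i : Fin 4, _) = _
    simp [Fin.prod_univ_succ, Nat.gcd_comm, pow_two]
  rw [hq, hd, show Cfsg.Lie.chevD4.nroots / 2 = 12 from rfl] at h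
  simpa [Lib.Chev.D4.degs, mul_assoc] using h

end Cfsg.Agent.S1061
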