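import Cfsg.Statements.S1068
import Cfsg.Agent.Lib.Twisted.Ree.F4Sys

set_option autoImplicit false
open Cfsg

namespace Cfsg.Agent.S1068

/-- `|²F₄(q)| = q¹² (q - 1)(q³ + 1)(q⁴ - 1)(q⁶ + 1)` for `q = 2^(2m+1)` (θ = 2^m-th power map), every `m ≥ 0`. -/
theorem result {K : Type*} [Field K] [Fintype K] {m : ℕ} (hK : Fintype.card K = 2 ^ (2 * m + 1)) :
    Nat.card ↥(Cfsg.Lie.twistedF4 K (2 ^ m)) =
      (2 ^ (2 * m + 1)) ^ 12 * (2 ^ (2 * m + 1) - 1) * ((2 ^ (2 * m + 1)) ^ 3 + 1) * ((2 ^ (2 * m + 1)) ^ 4 - 1) * ((2 ^ (2 * m + 1)) ^ 6 + 1) := by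
  haveI := Lib.Twisted.ReeF.charP_of_card hK
  have he := Lib.Twisted.ReeF.pow_theta hK
  obtain ⟨σ, hσ⟩ := Lib.Twisted.ReeF.exists_sigma hK
  rw [Lib.Twisted.ReeF.card_eq hσ he, Nat.card_units, Nat.card_eq_fintype_card, hK]
  simp only [List.map_cons, List.map_nil, List.sum_cons, List.sum_nil]
  have h1 : ∀ n, 1 ≤ (2 ^ (2 * m + 1)) ^ n := fun n => Nat.one_le_pow _ _ (by positivity)
  have h2 : 1 ≤ 2 ^ (2 * m + 1) := Nat.one_le_two_pow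
  generalize 2 ^ (2 * m + 1) = q at h1 h2
  zify [h1, h2]
  norm_num
  ring

end Cfsg.Agent.S1068
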