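import Mathlib
import Cfsg.Statements.S1078
import Cfsg.Agent.Lib.Schur.ChevUniv
import Cfsg.Agent.Lib.Schur.ChevTorusCert
import Cfsg.Agent.Lib.Schur.ChevLacedE8
-- import your own Cfsg.Agent.* helpers here

set_option autoImplicit false
open Cfsg

namespace Cfsg.Agent.S1078

/-- For G₂, F₄, E₈ the presented group has trivial centre (the universal and adjoint groups coincide). -/
theorem result {K : Type*} [Field K] (D : Cfsg.Lie.ChevalleyDatum) (hD : D ∈ [Cfsg.Lie.chevG2, Cfsg.Lie.chevF4, Cfsg.Lie.chevE8]) :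
    Subgroup.center (D.SteinbergGroup K) = ⊥ := by
  have hD' : D ∈ Cfsg.Agent.Lib.Schur.ChevLift.sevenTypes := by
    simp only [List.mem_cons, List.not_mem_nil, or_false] at hD
    rcases hD with rfl | rfl | rfl <;> simp
  obtain ⟨C, θ, U⟩ := Cfsg.Agent.Lib.Schur.ChevLift.exists_univMap_group (F := K) hD'
  obtain ⟨s, hs⟩ := U.lift.exists_injective_cartanKer U.gen
    fun i hi u v => Cfsg.Agent.Lib.Schur.ChevLift.stGen_hX_mul U.lift.checked hi u v
  have htriv : Subsingleton (Cfsg.Agent.Lib.Schur.ChevLift.CartanKer D K) := by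
    simp only [List.mem_cons, List.not_mem_nil, or_false] at hD
    obtain ⟨m, v, M, hsol⟩ : ∃ m v M, Cfsg.Agent.Lib.Schur.ChevLift.solveOK D 1 0 m v M = true := by
      rcases hD with rfl | rfl | rfl
      exacts [⟨_, _, _, Cfsg.Agent.Lib.Schur.ChevLift.solve_G2⟩, ⟨_, _, _, Cfsg.Agent.Lib.Schur.ChevLift.solve_F4⟩,
        ⟨_, _, _, Cfsg.Agent.Lib.Schur.ChevLift.solve_E8⟩]
    obtain ⟨i0, hd, hinj⟩ := Cfsg.Agent.Lib.Schur.ChevLift.exists_coord_of_solveOK (F := K) hsol
    exact ⟨fun a b => hinj (by simpa using (pow_one (a.1 i0)).symm.trans ((hd a).trans ((hd b).symm.trans (pow_one (b.1 i0)))))⟩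
  rw [← U.ker_eq_center, ← Cfsg.Agent.Lib.Schur.ChevLift.UnivMap.ker_comp, eq_bot_iff]
  intro z hz
  have h1 : (⟨z, hz⟩ : ((D.group K).subtype.comp θ).ker) = 1 := hs (Subsingleton.elim _ _)
  exact Subgroup.mem_bot.2 (congrArg Subtype.val h1)

end Cfsg.Agent.S1078
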