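import Cfsg.Statements.S1079
import Cfsg.Agent.Lib.ChevMinuscule.E6
import Cfsg.Agent.Lib.ChevMinuscule.E7
import Cfsg.Agent.Lib.Schur.ChevLacedE6
import Cfsg.Agent.Lib.Schur.ChevLacedE7
-- import your own Cfsg.Agent.* helpers here

set_option autoImplicit false
open Cfsg

namespace Cfsg.Agent.S1079

open Cfsg.Lie Cfsg.Agent.Lib.Chev Cfsg.Agent.Lib.Schur.ChevLift Cfsg.Agent.Lib.ChevMinuscule

theorem card_center_eq {K : Type*} [Field K] [Fintype K] {D : ChevalleyDatum} {C : Cert} (hD : D ∈ sevenTypes)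
    {n T d j₀ i₀ : ℕ} {m m' v : List ℤ} {M : List (List ℤ)} (h : MinuscOK D C n T)
    (hm : centreB D n T d m j₀ = true) (hs : solveOK D d i₀ m' v M = true) :
    Nat.card (Subgroup.center (D.SteinbergGroup K)) = Nat.gcd d (Fintype.card K - 1) := by
  obtain ⟨C', θ, U⟩ := exists_univMap_group (F := K) hD
  obtain ⟨hfin, hle⟩ := U.lift.card_ker_le_of_mul U.gen
    fun i hi u v => stGen_hX_mul U.lift.checked hi u v
  rw [UnivMap.ker_comp, U.ker_eq_center] at hfin hle
  haveI := hfin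
  have hcard : Nat.card Kˣ = Fintype.card K - 1 := by
    rw [Nat.card_units, Nat.card_eq_fintype_card]
  refine le_antisymm ?_ ?_
  · rw [Nat.gcd_comm, ← hcard]
    exact hle.trans (card_cartanKer_le hs)
  · obtain ⟨ζ, hζ⟩ := IsCyclic.exists_ofOrder_eq_natCard (α := Kˣ)
    set g := Nat.gcd d (Fintype.card K - 1) with hg
    have hgdvd : g ∣ orderOf ζ := by rw [hζ, hcard]; exact Nat.gcd_dvd_right _ _
    have hz0 : orderOf ζ ≠ 0 := (orderOf_pos ζ).ne'
    have hord : orderOf (ζ ^ (orderOf ζ / g)) = g := orderOf_pow_orderOf_div hz0 hgdvd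
    obtain ⟨z, hz, hdvd⟩ := h.exists_central U hm (ζ ^ (orderOf ζ / g))
      (orderOf_dvd_iff_pow_eq_one.1 (by rw [hord]; exact Nat.gcd_dvd_left _ _))
    rw [hord] at hdvd
    rw [← Subgroup.orderOf_mk z hz] at hdvd
    exact Nat.le_of_dvd Nat.card_pos (hdvd.trans (orderOf_dvd_natCard _))

/-- `|Z(Ḡ)| = gcd(3, q-1)` for E₆ and `gcd(2, q-1)` for E₇ over a field with `q` elements (the centre is dual to the weight lattice modulo the root lattice). -/
theorem result {K : Type*} [Field K] [Fintype K] {q : ℕ} (hq : Fintype.card K = q)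
    (p : Cfsg.Lie.ChevalleyDatum × ℕ) (hp : p ∈ [(Cfsg.Lie.chevE6, 3), (Cfsg.Lie.chevE7, 2)]) :
    Nat.card (Subgroup.center (p.1.SteinbergGroup K)) = Nat.gcd p.2 (q - 1) := by
  subst hq
  simp only [List.mem_cons, List.not_mem_nil, or_false] at hp
  rcases hp with rfl | rfl
  · exact card_center_eq (by simp [sevenTypes]) minuscOK_E6 centre_E6 solve_E6
  · exact card_center_eq (by simp [sevenTypes]) minuscOK_E7 centre_E7 solve_E7

end Cfsg.Agent.S1079
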