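import Cfsg.Statements.S1081
import Cfsg.Agent.Lib.Twisted.GraphData

set_option autoImplicit false
open Cfsg

namespace Cfsg.Agent.S1081

/-- Graph automorphisms: for E₆ with ρ = (p₁ p₆)(p₃ p₅) and for D₄ with ρ the 3-cycle on the outer nodes there is a group automorphism sending `x_p(t) ↦ x_{ρ(p)}(t)` and `x_{-p}(t) ↦ x_{-ρ(p)}(t)` for every fundamental root `p`. -/
theorem result {F : Type*} [Field F] (p : Cfsg.Lie.ChevalleyDatum × List ℕ)
    (hp : p ∈ [(Cfsg.Lie.chevE6, [5, 1, 4, 3, 2, 0]), (Cfsg.Lie.chevD4, [2, 1, 3, 0]), (Cfsg.Lie.chevD4, [3, 1, 0, 2])]) :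
    ∃ α : ↥(p.1.group F) ≃* ↥(p.1.group F), ∀ (g : ↥(p.1.group F)) (i : ℕ) (t : F), i < p.1.rank →
      (((g : GL p.1.Idx F) : Matrix p.1.Idx p.1.Idx F) = p.1.x F (p.1.simple i) t →
        ((α g : GL p.1.Idx F) : Matrix p.1.Idx p.1.Idx F) = p.1.x F (p.1.simple (p.2.getD i 0)) t) ∧
      (((g : GL p.1.Idx F) : Matrix p.1.Idx p.1.Idx F) = p.1.x F (p.1.neg (p.1.simple i)) t →
        ((α g : GL p.1.Idx F) : Matrix p.1.Idx p.1.Idx F) = p.1.x F (p.1.neg (p.1.simple (p.2.getD i 0))) t) := by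
  have key : ∀ (D : Cfsg.Lie.ChevalleyDatum) (P : Lib.Twisted.GraphData) (l : List ℕ),
      Lib.Twisted.GraphData.Facts D P → ((List.range D.rank).all fun i =>
        decide (D.simple i < D.nroots) && decide (D.neg (D.simple i) < D.nroots) &&
        (P.root (D.simple i) == D.simple (l.getD i 0)) &&
        (P.root (D.neg (D.simple i)) == D.neg (D.simple (l.getD i 0))) &&
        (P.sign (D.simple i) == 1) && (P.sign (D.neg (D.simple i)) == 1)) = true →
      ∃ α : ↥(D.group F) ≃* ↥(D.group F), ∀ (g : ↥(D.group F)) (i : ℕ) (t : F), i < D.rank →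
        (((g : GL D.Idx F) : Matrix D.Idx D.Idx F) = D.x F (D.simple i) t →
          ((α g : GL D.Idx F) : Matrix D.Idx D.Idx F) = D.x F (D.simple (l.getD i 0)) t) ∧
        (((g : GL D.Idx F) : Matrix D.Idx D.Idx F) = D.x F (D.neg (D.simple i)) t →
          ((α g : GL D.Idx F) : Matrix D.Idx D.Idx F) = D.x F (D.neg (D.simple (l.getD i 0))) t) := by
    intro D P l hP hc
    simp only [List.all_eq_true, List.mem_range, Bool.and_eq_true, decide_eq_true_eq,
      beq_iff_eq] at hc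
    refine ⟨Lib.Twisted.GraphData.graphAut hP F, fun g i t hi => ?_⟩
    obtain ⟨⟨⟨⟨⟨c1, c2⟩, c3⟩, c4⟩, c5⟩, c6⟩ := hc i hi
    refine ⟨fun hg => ?_, fun hg => ?_⟩
    · rw [Lib.Twisted.GraphData.graphAut_x hP F g c1 t hg, c3, c5]; simp
    · rw [Lib.Twisted.GraphData.graphAut_x hP F g c2 t hg, c4, c6]; simp
  simp only [List.mem_cons, List.not_mem_nil, or_false] at hp
  rcases hp with rfl | rfl | rfl
  · exact key _ _ _ Lib.Twisted.e6Graph_facts (by decide +kernel)
  · exact key _ _ _ Lib.Twisted.d4Graph_facts (by decide +kernel)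
  · exact key _ _ _ Lib.Twisted.d4GraphInv_facts (by decide +kernel)

end Cfsg.Agent.S1081
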