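import Cfsg.Statements.S1084
import Mathlib
import Cfsg.Agent.Lib.E6Cubic.Iso

set_option autoImplicit false
open Cfsg

namespace Cfsg.Agent.S1084

/-- E₆ via the 27-dimensional cubic form: for a finite field with at least three elements, (isometries of the cubic form) / centre ≅ the Chevalley group E₆(F). -/
theorem result {F : Type*} [Field F] [Fintype F] (hF : 3 ≤ Fintype.card F) : Nonempty (Cfsg.Lie.E6 F ≃* ↥(Cfsg.Lie.chevE6.group F)) := by
  classical
  refine Cfsg.Agent.Lib.E6Cubic.nonempty_iso ?_
  obtain ⟨a, -, ha⟩ := Finset.exists_mem_notMem_of_card_lt_card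
    (s := ({0, 1} : Finset F)) (t := Finset.univ) (by
      rw [Finset.card_univ]
      exact lt_of_le_of_lt Finset.card_le_two (by omega))
  exact ⟨a, fun h => ha (by simp [h]), fun h => ha (by simp [h])⟩

end Cfsg.Agent.S1084
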