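import Mathlib
import Cfsg.Statements.S1097
import Cfsg.Agent.Lib.Schur.ChevUniv
-- import your own Cfsg.Agent.* helpers here

set_option autoImplicit false
open Cfsg

namespace Cfsg.Agent.S1097

/-- Any homomorphism from the presented group to the Chevalley group with `x̄_r(t) ↦ x_r(t)` has kernel contained in `H̄ = ⟨h̄_p(t) : p fundamental, t ≠ 0⟩`. -/
theorem result {K : Type*} [Field K] (D : Cfsg.Lie.ChevalleyDatum) (hD : D ∈ [Cfsg.Lie.chevG2, Cfsg.Lie.chevB2, Cfsg.Lie.chevD4, Cfsg.Lie.chevF4, Cfsg.Lie.chevE6, Cfsg.Lie.chevE7, Cfsg.Lie.chevE8]) (θ : D.SteinbergGroup K →* ↥(D.group K))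
    (hθ : ∀ (r : ℕ) (t : K), r < D.nroots → ((θ (D.stGen K r t) : GL D.Idx K) : Matrix D.Idx D.Idx K) = D.x K r t) :
    θ.ker ≤ Subgroup.closure {h | ∃ (i : ℕ) (t : K), i < D.rank ∧ t ≠ 0 ∧ h = PresentedGroup.mk (D.steinbergRels K) (D.stH (D.simple i) t)} := by
  obtain ⟨C, θ', U⟩ := Cfsg.Agent.Lib.Schur.ChevLift.exists_univMap_group (F := K) hD
  have e : θ = θ' := PresentedGroup.ext fun p => Subtype.ext (Units.ext (by
    have h1 := hθ p.1 p.2 p.1.isLt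
    have h2 := U.map_X p.1 p.2 p.1.isLt
    simp only [Cfsg.Lie.ChevalleyDatum.stGen, Cfsg.Lie.ChevalleyDatum.stX, dif_pos p.1.isLt] at h1 h2
    exact h1.trans h2.symm))
  subst e
  intro z hz
  have hle : Cfsg.Agent.Lib.Schur.ChevLift.torus D (D.stGen K) ≤ Subgroup.closure {h | ∃ (i : ℕ) (t : K),
      i < D.rank ∧ t ≠ 0 ∧ h = PresentedGroup.mk (D.steinbergRels K) (D.stH (D.simple i) t)} := by
    refine (Subgroup.closure_le _).2 ?_
    rintro _ ⟨i, hi, c, rfl⟩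
    refine Subgroup.subset_closure ⟨i, (c : K), hi, c.ne_zero, ?_⟩
    have hp := U.lift.checked.simple_lt hi
    simp [Cfsg.Agent.Lib.Schur.ChevLift.hX, Cfsg.Agent.Lib.Schur.ChevLift.nX,
      Cfsg.Agent.Lib.Schur.ChevLift.wordX, Cfsg.Lie.ChevalleyDatum.stH, Cfsg.Lie.ChevalleyDatum.stWord,
      Cfsg.Lie.ChevalleyDatum.stGen, Cfsg.Lie.ChevalleyDatum.hWord, Cfsg.Lie.ChevalleyDatum.nWord,
      U.lift.checked.neg_eq hp, mul_assoc]
  refine hle (U.lift.ker_le_torus (U.gen ▸ Subgroup.mem_top z) ?_)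
  simp [MonoidHom.mem_ker.1 hz]

end Cfsg.Agent.S1097
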