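import Cfsg.Statements.S1098
import Cfsg.Agent.Lib.Twisted.IsoB2
import Cfsg.Agent.Lib.Twisted.IsoF4Verify
import Cfsg.Agent.Lib.Twisted.Generation

set_option autoImplicit false
open Cfsg

namespace Cfsg.Agent.S1098

/-- Graph automorphisms in characteristic 2 (K perfect): for B₂ (a short, b long) `x_a(t) ↦ x_b(t²)`, `x_b(t) ↦ x_a(t)`, and for F₄ (p₁, p₂ short, p₃, p₄ long) `x_{p₁}(t) ↦ x_{p₄}(t²)`, `x_{p₂}(t) ↦ x_{p₃}(t²)`, `x_{p₃}(t) ↦ x_{p₂}(t)`, `x_{p₄}(t) ↦ x_{p₁}(t)`, likewise on the negatives, extend to an automorphism of the group. -/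
theorem result {K : Type*} [Field K] [CharP K 2] (hperf : ∀ x : K, ∃ y : K, y ^ 2 = x)
    (p : Cfsg.Lie.ChevalleyDatum × List (ℕ × ℕ))
    (hp : p ∈ [(Cfsg.Lie.chevB2, [(1, 2), (0, 1)]), (Cfsg.Lie.chevF4, [(3, 2), (2, 2), (1, 1), (0, 1)])]) :
    ∃ α : ↥(p.1.group K) ≃* ↥(p.1.group K), ∀ (g : ↥(p.1.group K)) (i : ℕ) (t : K), i < p.1.rank →
      (((g : GL p.1.Idx K) : Matrix p.1.Idx p.1.Idx K) = p.1.x K (p.1.simple i) t →
        ((α g : GL p.1.Idx K) : Matrix p.1.Idx p.1.Idx K) = p.1.x K (p.1.simple (p.2.getD i (0, 1)).1) (t ^ (p.2.getD i (0, 1)).2)) ∧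
      (((g : GL p.1.Idx K) : Matrix p.1.Idx p.1.Idx K) = p.1.x K (p.1.neg (p.1.simple i)) t →
        ((α g : GL p.1.Idx K) : Matrix p.1.Idx p.1.Idx K) = p.1.x K (p.1.neg (p.1.simple (p.2.getD i (0, 1)).1)) (t ^ (p.2.getD i (0, 1)).2)) := by
  simp only [List.mem_cons, List.not_mem_nil, or_false] at hp
  have key : ∀ (D : Cfsg.Lie.ChevalleyDatum) (P : Lib.Twisted.IsoData) (l : List (ℕ × ℕ)),
      P.p = 2 → Lib.Twisted.IsoData.Facts D P → Lib.Twisted.IsoData.CoreGen D P K →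
      ((List.range D.rank).all fun i =>
        decide (D.simple i < D.nroots) && decide (D.neg (D.simple i) < D.nroots) &&
        (P.root (D.simple i) == D.simple (l.getD i (0, 1)).1) &&
        (P.root (D.neg (D.simple i)) == D.neg (D.simple (l.getD i (0, 1)).1)) &&
        (P.expo (D.simple i) == (l.getD i (0, 1)).2) &&
        (P.expo (D.neg (D.simple i)) == (l.getD i (0, 1)).2)) = true →
      ∃ α : ↥(D.group K) ≃* ↥(D.group K), ∀ (g : ↥(D.group K)) (i : ℕ) (t : K), i < D.rank →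
        (((g : GL D.Idx K) : Matrix D.Idx D.Idx K) = D.x K (D.simple i) t →
          ((α g : GL D.Idx K) : Matrix D.Idx D.Idx K) =
            D.x K (D.simple (l.getD i (0, 1)).1) (t ^ (l.getD i (0, 1)).2)) ∧
        (((g : GL D.Idx K) : Matrix D.Idx D.Idx K) = D.x K (D.neg (D.simple i)) t →
          ((α g : GL D.Idx K) : Matrix D.Idx D.Idx K) =
            D.x K (D.neg (D.simple (l.getD i (0, 1)).1)) (t ^ (l.getD i (0, 1)).2)) := by
    intro D P l h2 hP hgen hc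
    haveI : Fact P.p.Prime := ⟨h2 ▸ Nat.prime_two⟩
    haveI : CharP K P.p := h2 ▸ ‹CharP K 2›
    obtain ⟨α, hα⟩ := Lib.Twisted.IsoData.exists_exc_aut (F := K) hP hgen (by rw [h2]; exact hperf)
    refine ⟨α, fun g i t hi => ?_⟩
    simp only [List.all_eq_true, List.mem_range, Bool.and_eq_true, decide_eq_true_eq, beq_iff_eq] at hc
    obtain ⟨⟨⟨⟨⟨c1, c2⟩, c3⟩, c4⟩, c5⟩, c6⟩ := hc i hi
    refine ⟨fun hg => ?_, fun hg => ?_⟩
    · rw [hα g _ t c1 hg, c3, c5]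
    · rw [hα g _ t c2 hg, c4, c6]
  rcases hp with rfl | rfl
  · exact key _ _ _ rfl Lib.Twisted.b2Iso_facts (Subgroup.closure_mono fun x hx => by
      obtain ⟨r, s, hx⟩ := hx
      exact ⟨r, (by decide +kernel : ∀ k : Fin Cfsg.Lie.chevB2.nroots,
        k.1 ∈ Lib.Twisted.b2Iso.core) r, s,
        by rw [Cfsg.Lie.ChevalleyDatum.x, dif_pos r.2]; exact hx⟩) (by decide +kernel)
  · refine key _ _ _ rfl Lib.Twisted.f4Iso_facts ?_ (by decide +kernel)
    refine (Lib.Twisted.group_le_closure_simple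
      ⟨Lib.Chev.checked_F4, Lib.Chev.descent_F4⟩).trans (Subgroup.closure_mono ?_)
    rintro x ⟨r, ⟨i, hi, hr⟩, t, hx⟩
    refine ⟨r, ?_, t, hx⟩
    have := (by decide +kernel : ∀ k : Fin Cfsg.Lie.chevF4.rank,
      Cfsg.Lie.chevF4.simple k.1 ∈ Lib.Twisted.f4Iso.core ∧
      Cfsg.Lie.chevF4.neg (Cfsg.Lie.chevF4.simple k.1) ∈ Lib.Twisted.f4Iso.core) ⟨i, hi⟩
    rcases hr with rfl | rfl
    exacts [this.1, this.2]

end Cfsg.Agent.S1098
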