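import Cfsg.Statements.S1099
import Cfsg.Agent.Lib.Twisted.IsoG2

set_option autoImplicit false
open Cfsg

namespace Cfsg.Agent.S1099

/-- Graph automorphism of G₂ in characteristic 3 (K perfect): `x_a(t) ↦ x_b(t³)`, `x_b(t) ↦ x_a(t)`, `x_{-a}(t) ↦ x_{-b}(t³)`, `x_{-b}(t) ↦ x_{-a}(t)` extend to an automorphism of the group. -/
theorem result {K : Type*} [Field K] [CharP K 3] (hperf : ∀ x : K, ∃ y : K, y ^ 3 = x) :
    ∃ α : ↥(Cfsg.Lie.chevG2.group K) ≃* ↥(Cfsg.Lie.chevG2.group K), ∀ (g : ↥(Cfsg.Lie.chevG2.group K)) (t : K),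
      (((g : GL Cfsg.Lie.chevG2.Idx K) : Matrix _ _ K) = Cfsg.Lie.chevG2.x K Cfsg.Lie.g2a t →
        ((α g : GL Cfsg.Lie.chevG2.Idx K) : Matrix _ _ K) = Cfsg.Lie.chevG2.x K Cfsg.Lie.g2b (t ^ 3)) ∧
      (((g : GL Cfsg.Lie.chevG2.Idx K) : Matrix _ _ K) = Cfsg.Lie.chevG2.x K Cfsg.Lie.g2b t →
        ((α g : GL Cfsg.Lie.chevG2.Idx K) : Matrix _ _ K) = Cfsg.Lie.chevG2.x K Cfsg.Lie.g2a t) ∧
      (((g : GL Cfsg.Lie.chevG2.Idx K) : Matrix _ _ K) = Cfsg.Lie.chevG2.x K Cfsg.Lie.g2ma t →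
        ((α g : GL Cfsg.Lie.chevG2.Idx K) : Matrix _ _ K) = Cfsg.Lie.chevG2.x K Cfsg.Lie.g2mb (t ^ 3)) ∧
      (((g : GL Cfsg.Lie.chevG2.Idx K) : Matrix _ _ K) = Cfsg.Lie.chevG2.x K Cfsg.Lie.g2mb t →
        ((α g : GL Cfsg.Lie.chevG2.Idx K) : Matrix _ _ K) = Cfsg.Lie.chevG2.x K Cfsg.Lie.g2ma t) := by
  haveI : Fact (Lib.Twisted.g2Iso.p).Prime := ⟨Nat.prime_three⟩
  haveI : CharP K Lib.Twisted.g2Iso.p := ‹CharP K 3›
  obtain ⟨α, hα⟩ := Lib.Twisted.IsoData.exists_exc_aut (F := K) Lib.Twisted.g2Iso_facts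
    (Subgroup.closure_mono fun x hx => by
      obtain ⟨r, s, hx⟩ := hx
      exact ⟨r, (by decide +kernel : ∀ k : Fin Cfsg.Lie.chevG2.nroots, k.1 ∈ Lib.Twisted.g2Iso.core) r,
        s, by rw [Cfsg.Lie.ChevalleyDatum.x, dif_pos r.2]; exact hx⟩) hperf
  refine ⟨α, fun g t => ⟨fun hg => ?_, fun hg => ?_, fun hg => ?_, fun hg => ?_⟩⟩
  · exact hα g Cfsg.Lie.g2a t (by decide) hg
  · exact (hα g Cfsg.Lie.g2b t (by decide) hg).trans (congrArg _ (pow_one t))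
  · exact hα g Cfsg.Lie.g2ma t (by decide) hg
  · exact (hα g Cfsg.Lie.g2mb t (by decide) hg).trans (congrArg _ (pow_one t))

end Cfsg.Agent.S1099
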