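import Cfsg.Statements.S1101
import Cfsg.Agent.Lib.Twisted.Ree.G2Group

set_option autoImplicit false
open Cfsg

namespace Cfsg.Agent.S1101

/-- For ²G₂ over `K` with `|K| = 3^(2m+1)`, `θ = 3^m`: `U¹ = G¹ ∩ U` consists exactly of the elements `x_a(t^θ) x_b(t) x_{a+b}(t^{θ+1}+u^θ) x_{2a+b}(t^{2θ+1}+v^θ) x_{3a+b}(u) x_{3a+2b}(v)`, `t, u, v ∈ K`, and it has `|K|³` elements. -/
theorem result {K : Type*} [Field K] [Fintype K] {m : ℕ} (hK : Fintype.card K = 3 ^ (2 * m + 1)) :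
    (∀ g : GL Cfsg.Lie.chevG2.Idx K, g ∈ Cfsg.Lie.chevG2.posUnipotent K ⊓ Cfsg.Lie.twistedG2 K (3 ^ m) ↔
      ∃ t u v : K, (g : Matrix Cfsg.Lie.chevG2.Idx Cfsg.Lie.chevG2.Idx K) = Cfsg.Lie.chevG2.wordMat K (Cfsg.Lie.reeWordU (3 ^ m) t u v)) ∧
    Nat.card ↥(Cfsg.Lie.chevG2.posUnipotent K ⊓ Cfsg.Lie.twistedG2 K (3 ^ m)) = (3 ^ (2 * m + 1)) ^ 3 := by
  haveI := Lib.Twisted.ReeG.charP_of_card hK
  have he := Lib.Twisted.ReeG.pow_theta hK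
  obtain ⟨σ, hσ⟩ := Lib.Twisted.ReeG.exists_sigma hK
  have key : ∀ g : GL Cfsg.Lie.chevG2.Idx K,
      g ∈ Cfsg.Lie.chevG2.posUnipotent K ⊓ Cfsg.Lie.twistedG2 K (3 ^ m) ↔
        ∃ t u v : K, g = (Lib.Twisted.ReeG.reeU (3 ^ m) t u v : GL Cfsg.Lie.chevG2.Idx K) := by
    refine fun g => ⟨fun hg => Lib.Twisted.ReeG.fixed_unipotent_mem hσ he hg.1
      (Lib.Twisted.ReeG.le_fixSub hσ he hg.2), ?_⟩
    rintro ⟨t, u, v, rfl⟩
    exact ⟨Lib.Twisted.ReeG.reeU_mem_pos _ t u v, Lib.Twisted.ReeG.reeU_mem t u v⟩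
  refine ⟨fun g => (key g).trans ?_, ?_⟩
  · refine exists_congr fun t => exists_congr fun u => exists_congr fun v => ⟨fun e => ?_, fun e => ?_⟩
    · rw [e, Lib.Twisted.ReeG.reeU, Lib.Twisted.coe_wordG]
    · exact Lib.Twisted.exists_wordG _ e
  · have e : ↥(Cfsg.Lie.chevG2.posUnipotent K ⊓ Cfsg.Lie.twistedG2 K (3 ^ m)) ≃ K × K × K :=
      (Equiv.ofBijective (fun x : K × K × K =>
        (⟨_, (key _).2 ⟨x.1, x.2.1, x.2.2, rfl⟩⟩ : ↥(Cfsg.Lie.chevG2.posUnipotent K ⊓ Cfsg.Lie.twistedG2 K (3 ^ m))))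
        ⟨fun x y h => by
          have h' : Lib.Twisted.ReeG.reeU (3 ^ m) x.1 x.2.1 x.2.2 = Lib.Twisted.ReeG.reeU (3 ^ m) y.1 y.2.1 y.2.2 :=
            Subtype.ext (Subtype.mk.inj h)
          obtain ⟨h1, h2, h3⟩ := Lib.Twisted.ReeG.reeU_injective he h'
          exact Prod.ext h1 (Prod.ext h2 h3),
        fun g => by
          obtain ⟨t, u, v, hg⟩ := (key g.1).1 g.2
          exact ⟨(t, u, v), Subtype.ext hg.symm⟩⟩).symm
    rw [Nat.card_congr e, Nat.card_prod, Nat.card_prod, Nat.card_eq_fintype_card, hK]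
    ring

end Cfsg.Agent.S1101
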