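import Cfsg.Statements.S1110
import Cfsg.Agent.Lib.Twisted.Ree.F4Torus

set_option autoImplicit false
open Cfsg

namespace Cfsg.Agent.S1110

/-- `|H¹| = |G¹ ∩ H|`: `|H¹| = (2 ^ (2 * m + 1) - 1) ^ 2` for ²F₄(2^(2m+1)). -/
theorem result {K : Type*} [Field K] [Fintype K] {m : ℕ} (hK : Fintype.card K = 2 ^ (2 * m + 1)) :
    Nat.card ↥(Cfsg.Lie.chevF4.diagonalSubgroup K ⊓ Cfsg.Lie.twistedF4 K (2 ^ m)) = (2 ^ (2 * m + 1) - 1) ^ 2 := by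
  haveI := Lib.Twisted.ReeF.charP_of_card hK
  have he := Lib.Twisted.ReeF.pow_theta hK
  obtain ⟨σ, hσ⟩ := Lib.Twisted.ReeF.exists_sigma hK
  have hmem : ∀ s : Kˣ × Kˣ, (Lib.Twisted.ReeF.ct (2 ^ m) s.1 s.2 : GL Cfsg.Lie.chevF4.Idx K) ∈
      Cfsg.Lie.chevF4.diagonalSubgroup K ⊓ Cfsg.Lie.twistedF4 K (2 ^ m) := fun s =>
    ⟨by rw [SetLike.mem_coe, Lib.Twisted.ReeF.rooted_F4.diagonalSubgroup_eq]; exact ⟨_, rfl⟩,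
      Lib.Twisted.ReeF.ct_mem hσ he s.1 s.2⟩
  have e : Kˣ × Kˣ ≃ ↥(Cfsg.Lie.chevF4.diagonalSubgroup K ⊓ Cfsg.Lie.twistedF4 K (2 ^ m)) :=
    Equiv.ofBijective (fun s => ⟨_, hmem s⟩) ⟨fun s s' h => by
        obtain ⟨-, -, h3, h4⟩ := Lib.Twisted.ReeF.quad_inj (congrArg Subtype.val h)
        exact Prod.ext h4 h3, fun g => by
      obtain ⟨s, t, hs⟩ := Lib.Twisted.ReeF.fixed_torus hσ g.1 g.2.1 (Lib.Twisted.ReeF.le_fixSub hσ he g.2.2)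
      exact ⟨(s, t), Subtype.ext hs.symm⟩⟩
  rw [← Nat.card_congr e, Nat.card_prod, Nat.card_units, Nat.card_eq_fintype_card, hK, sq]

end Cfsg.Agent.S1110
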