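import Cfsg.Statements.S1111
import Cfsg.Agent.Lib.Twisted.Ree.F4Sys
import Cfsg.Agent.Lib.TwoGroup.Recognition

set_option autoImplicit false
open Cfsg

namespace Cfsg.Agent.S1111

/-- `N¹/H¹ ≅ W¹`: a surjective homomorphism from `N¹ = G¹ ∩ N` onto the dihedral group of order 16 with kernel `H¹`. -/
theorem result {K : Type*} [Field K] [Fintype K] {m : ℕ} (hK : Fintype.card K = 2 ^ (2 * m + 1)) :
    ∃ φ : ↥(Cfsg.Lie.chevF4.monomialSubgroup K ⊓ Cfsg.Lie.twistedF4 K (2 ^ m)) →* DihedralGroup 8, Function.Surjective φ ∧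
      φ.ker = (Cfsg.Lie.chevF4.diagonalSubgroup K ⊓ Cfsg.Lie.twistedF4 K (2 ^ m)).subgroupOf (Cfsg.Lie.chevF4.monomialSubgroup K ⊓ Cfsg.Lie.twistedF4 K (2 ^ m)) := by
  haveI := Lib.Twisted.ReeF.charP_of_card hK
  have he := Lib.Twisted.ReeF.pow_theta hK
  obtain ⟨σ, hσ⟩ := Lib.Twisted.ReeF.exists_sigma hK
  let S := Lib.Twisted.ReeF.orbitSys hσ he
  let T := Lib.Twisted.ReeF.twist hσ
  let p : ↥(Lib.Twisted.Core.fixWGroup T) := ⟨S.wJ 0, S.wJ_fixW 0⟩
  let r : ↥(Lib.Twisted.Core.fixWGroup T) := ⟨S.wJ 1, S.wJ_fixW 1⟩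
  have hp : p * p = 1 := Subtype.ext (S.word_sq 0)
  have hr : r * r = 1 := Subtype.ext (S.word_sq 1)
  have hpr : (p * r) ^ 8 = 1 := by
    refine Subtype.ext ?_
    rw [SubmonoidClass.coe_pow]
    show (Lib.Chev.wperm Lib.Chev.checked_F4 Lib.Twisted.ReeF.LP *
      Lib.Chev.wperm Lib.Chev.checked_F4 Lib.Twisted.ReeF.LQ) ^ 8 = 1
    rw [← Lib.Chev.wperm_append]
    have hk : ∀ k : Fin Cfsg.Lie.chevF4.nroots,
        (fun s => Lib.Chev.perm Lib.Chev.F4.cert (Lib.Twisted.ReeF.LP ++ Lib.Twisted.ReeF.LQ) s)^[8] k.1 = k.1 := by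
      decide +kernel
    refine Equiv.ext fun x => Fin.ext ?_
    rw [Equiv.Perm.one_apply, ← hk x]
    have hw : Lib.Chev.IsWord Cfsg.Lie.chevF4 (Lib.Twisted.ReeF.LP ++ Lib.Twisted.ReeF.LQ) :=
      Lib.Twisted.ReeF.isWord_LP.append Lib.Twisted.ReeF.isWord_LQ
    simp only [pow_succ, pow_zero, one_mul, Equiv.Perm.mul_apply, Function.iterate_succ_apply,
      Function.iterate_zero_apply, Lib.Chev.Checked.wperm_val Lib.Chev.checked_F4 hw]
  have hinv : p * (p * r) * p⁻¹ = (p * r)⁻¹ := by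
    rw [mul_inv_rev, inv_eq_of_mul_eq_one_right hp, inv_eq_of_mul_eq_one_right hr, ← mul_assoc, hp, one_mul]
  let ψ := Lib.TwoGroup.dihedralHom (p * r) p hpr hp hinv
  have hψ : ∀ x, x ∈ Subgroup.closure {p * r, p} → x ∈ ψ.range := fun x hx => by
    rwa [Lib.TwoGroup.dihedralHom_range]
  have hsur : Function.Surjective ψ := by
    rintro ⟨w, hw⟩
    suffices ∃ x, (ψ x).1 = w from this.imp fun x hx => Subtype.ext hx
    refine S.fixW_induction (P := fun w => ∃ x, (ψ x).1 = w) ⟨1, by rw [map_one]; rfl⟩ ?_ hw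
    rintro v j _ _ ⟨x, hx⟩
    have hj : ∃ y, (ψ y).1 = S.wJ j := by
      fin_cases j
      · obtain ⟨y, hy⟩ := hψ p (Subgroup.subset_closure (by simp))
        exact ⟨y, congrArg Subtype.val hy⟩
      · obtain ⟨y, hy⟩ := hψ (p * (p * r))
          (mul_mem (Subgroup.subset_closure (by simp)) (Subgroup.subset_closure (by simp)))
        refine ⟨y, ?_⟩
        rw [← mul_assoc, hp, one_mul] at hy
        exact congrArg Subtype.val hy
    obtain ⟨y, hy⟩ := hj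
    refine ⟨x * y, ?_⟩
    rw [map_mul, Subgroup.coe_mul, hx, hy, mul_assoc,
      show S.wJ j * S.wJ j = 1 from S.word_sq j, mul_one]
  have hc : Nat.card ↥(Lib.Twisted.Core.fixWGroup T) = 16 :=
    S.card_fixWGroup (orb := [Lib.Twisted.ReeF.LP, Lib.Twisted.ReeF.LQ]) rfl Lib.Twisted.ReeF.chkEnum_F4
  have hbij : Function.Bijective ψ := hsur.bijective_of_nat_card_le (by rw [hc, DihedralGroup.nat_card])
  let e := MulEquiv.ofBijective ψ hbij
  refine ⟨e.symm.toMonoidHom.comp S.nHom1, e.symm.surjective.comp S.nHom1_surjective, ?_⟩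
  refine Eq.trans ?_ S.nHom1_ker
  ext g
  exact (show e.symm.toMonoidHom (S.nHom1 g) = 1 ↔ S.nHom1 g = 1 from e.symm.map_eq_one_iff)

end Cfsg.Agent.S1111
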