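import Cfsg.Statements.S1114
import Cfsg.Agent.Lib.Twisted.Ree.G2Torus

set_option autoImplicit false
open Cfsg

namespace Cfsg.Agent.S1114

/-- `|H¹| = |G¹ ∩ H|`: `|H¹| = 3 ^ (2 * m + 1) - 1` for ²G₂(3^(2m+1)). -/
theorem result {K : Type*} [Field K] [Fintype K] {m : ℕ} (hK : Fintype.card K = 3 ^ (2 * m + 1)) :
    Nat.card ↥(Cfsg.Lie.chevG2.diagonalSubgroup K ⊓ Cfsg.Lie.twistedG2 K (3 ^ m)) = 3 ^ (2 * m + 1) - 1 := by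
  haveI := Lib.Twisted.ReeG.charP_of_card hK
  have he := Lib.Twisted.ReeG.pow_theta hK
  obtain ⟨σ, hσ⟩ := Lib.Twisted.ReeG.exists_sigma hK
  obtain ⟨k, hk⟩ := Lib.Twisted.ReeG.card_units_eq hK
  have hmem : ∀ s : Kˣ, (Lib.Twisted.ReeG.ct (3 ^ m) s : GL Cfsg.Lie.chevG2.Idx K) ∈
      Cfsg.Lie.chevG2.diagonalSubgroup K ⊓ Cfsg.Lie.twistedG2 K (3 ^ m) := fun s =>
    ⟨by rw [SetLike.mem_coe, Lib.Chev.rooted_G2.diagonalSubgroup_eq]; exact ⟨_, rfl⟩,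
      Lib.Twisted.ReeG.ct_mem hσ he hk s⟩
  have e : Kˣ ≃ ↥(Cfsg.Lie.chevG2.diagonalSubgroup K ⊓ Cfsg.Lie.twistedG2 K (3 ^ m)) :=
    Equiv.ofBijective (fun s => ⟨_, hmem s⟩) ⟨fun s s' h =>
      (Lib.Twisted.ReeG.pair_inj (congrArg Subtype.val h)).2, fun g => by
      obtain ⟨s, hs⟩ := Lib.Twisted.ReeG.fixed_torus hσ g.1 g.2.1 (Lib.Twisted.ReeG.le_fixSub hσ he g.2.2)
      exact ⟨s, Subtype.ext hs.symm⟩⟩
  rw [← Nat.card_congr e, Nat.card_units, Nat.card_eq_fintype_card, hK]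

end Cfsg.Agent.S1114
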