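import Cfsg.Statements.S1115
import Cfsg.Agent.Lib.Twisted.Ree.G2Sys

set_option autoImplicit false
open Cfsg

namespace Cfsg.Agent.S1115

/-- `N¹/H¹ ≅ W¹`: a surjective homomorphism from `N¹ = G¹ ∩ N` onto the group of order 2 with kernel `H¹`. -/
theorem result {K : Type*} [Field K] [Fintype K] {m : ℕ} (hK : Fintype.card K = 3 ^ (2 * m + 1)) :
    ∃ φ : ↥(Cfsg.Lie.chevG2.monomialSubgroup K ⊓ Cfsg.Lie.twistedG2 K (3 ^ m)) →* Multiplicative (ZMod 2), Function.Surjective φ ∧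
      φ.ker = (Cfsg.Lie.chevG2.diagonalSubgroup K ⊓ Cfsg.Lie.twistedG2 K (3 ^ m)).subgroupOf (Cfsg.Lie.chevG2.monomialSubgroup K ⊓ Cfsg.Lie.twistedG2 K (3 ^ m)) := by
  haveI := Lib.Twisted.ReeG.charP_of_card hK
  have he := Lib.Twisted.ReeG.pow_theta hK
  obtain ⟨σ, hσ⟩ := Lib.Twisted.ReeG.exists_sigma hK
  obtain ⟨k, hk⟩ := Lib.Twisted.ReeG.card_units_eq hK
  let S := Lib.Twisted.ReeG.orbitSys hσ he hk
  have : Fact (Nat.Prime 2) := ⟨Nat.prime_two⟩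
  have hc : Nat.card ↥(Lib.Twisted.Core.fixWGroup (Lib.Twisted.ReeG.twist hσ)) = 2 :=
    S.card_fixWGroup (orb := [Lib.Twisted.ReeG.L0]) rfl Lib.Twisted.ReeG.chkEnum_G2
  let e := mulEquivOfPrimeCardEq (p := 2) hc
    (show Nat.card (Multiplicative (ZMod 2)) = 2 by simp [Nat.card_eq_fintype_card])
  refine ⟨e.toMonoidHom.comp S.nHom1, e.surjective.comp S.nHom1_surjective, ?_⟩
  have h := S.nHom1_ker
  refine Eq.trans ?_ h
  ext g
  exact (show e.toMonoidHom (S.nHom1 g) = 1 ↔ S.nHom1 g = 1 from e.map_eq_one_iff)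

end Cfsg.Agent.S1115
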