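import Cfsg.Statements.S1117
import Cfsg.Agent.Lib.Twisted.Ree.G2Sys

set_option autoImplicit false
open Cfsg

namespace Cfsg.Agent.S1117

/-- The normal core of `B¹ = G¹ ∩ B` in ²G₂(3^(2m+1)) is trivial. -/
theorem result {K : Type*} [Field K] [Fintype K] {m : ℕ} (hK : Fintype.card K = 3 ^ (2 * m + 1)) :
    ((Cfsg.Lie.chevG2.borelSubgroup K ⊓ Cfsg.Lie.twistedG2 K (3 ^ m)).subgroupOf (Cfsg.Lie.twistedG2 K (3 ^ m))).normalCore = ⊥ := by
  haveI := Lib.Twisted.ReeG.charP_of_card hK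
  have he := Lib.Twisted.ReeG.pow_theta hK
  obtain ⟨σ, hσ⟩ := Lib.Twisted.ReeG.exists_sigma hK
  obtain ⟨k, hk⟩ := Lib.Twisted.ReeG.card_units_eq hK
  exact (Lib.Twisted.ReeG.orbitSys hσ he hk).normalCore_eq_bot (Lib.Twisted.ReeG.hasLead hσ he hk)

end Cfsg.Agent.S1117
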