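import Cfsg.Statements.S1118
import Mathlib
import Cfsg.Agent.Lib.RankOne.Fixed

set_option autoImplicit false
open Cfsg

namespace Cfsg.Agent.S1118

/-- In the rank-one set-up (`G` finite and doubly transitive on `Ω`, `t` an involution moving `a`, `Q` normal in `G_a` with `G_a = Q D`, `Q ⊓ D = 1` for the two-point stabiliser `D = G_a ⊓ G_{t • a}`, `|Q|` even, `|D|` odd), the normaliser of a subset of `Q` containing a non-identity element lies in `G_a`; consequently `N_G(Q) = N_G(G_a) = G_a`. -/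
theorem result {G Ω : Type*} [Group G] [Finite G] [MulAction G Ω] {a : Ω} {t : G} {Q : Subgroup G}
    (hS : Cfsg.IsRankOneSetup G Ω a t Q) :
    (∀ X : Set G, X ⊆ (Q : Set G) → (∃ x ∈ X, x ≠ 1) → Subgroup.normalizer X ≤ MulAction.stabilizer G a) ∧
      Subgroup.normalizer (Q : Set G) = MulAction.stabilizer G a ∧
      Subgroup.normalizer (MulAction.stabilizer G a : Set G) = MulAction.stabilizer G a := by
  open Cfsg.Agent.Lib.RankOne MulAction in
  have hfix : ∀ {x g : G}, x ∈ Q → x ≠ 1 → g * x * g⁻¹ ∈ Q → g ∈ stabilizer G a := by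
    intro x g hx hx1 hgx
    by_contra hga
    have hne : g⁻¹ • a ≠ a := fun e => hga (eq_inv_smul_iff.mp e.symm)
    have h1 : x • g⁻¹ • a = g⁻¹ • a := by
      have : (g * x * g⁻¹) • a = a := Q_fix hS hgx
      rw [mul_smul, mul_smul] at this
      exact eq_inv_smul_iff.mpr this
    exact hx1 (Q_move_unique hS hne hx Q.one_mem (by rw [h1, one_smul]))
  open Cfsg.Agent.Lib.RankOne MulAction in
  have hX : ∀ X : Set G, X ⊆ (Q : Set G) → (∃ x ∈ X, x ≠ 1) →
      Subgroup.normalizer X ≤ MulAction.stabilizer G a := by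
    rintro X hX ⟨x, hx, hx1⟩ g hg
    exact hfix (hX hx) hx1 (hX ((Subgroup.mem_set_normalizer_iff.mp hg x).mp hx))
  obtain ⟨i, hi⟩ := exists_prime_orderOf_dvd_card' (G := Q) 2 (hp := ⟨Nat.prime_two⟩)
    (even_iff_two_dvd.mp hS.even_card)
  have hi1 : (i : G) ≠ 1 := fun h => by
    rw [OneMemClass.coe_eq_one] at h
    rw [h, orderOf_one] at hi
    omega
  refine ⟨hX, le_antisymm (hX _ subset_rfl ⟨i, i.2, hi1⟩) ?_, le_antisymm ?_ Subgroup.le_normalizer⟩
  · intro g hg
    rw [Subgroup.mem_normalizer_iff]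
    intro y
    refine ⟨fun hy => hS.conj_mem g hg y hy, fun hy => ?_⟩
    have := hS.conj_mem g⁻¹ ((MulAction.stabilizer G a).inv_mem hg) _ hy
    rwa [show g⁻¹ * (g * y * g⁻¹) * g⁻¹⁻¹ = y by group] at this
  · intro g hg
    have hmem : g * i * g⁻¹ ∈ MulAction.stabilizer G a :=
      (Subgroup.mem_normalizer_iff.mp hg _).mp (hS.le i.2)
    refine hfix i.2 hi1 (Cfsg.Agent.Lib.RankOne.involution_mem_Q hS hmem ?_)
    have h2 : (i : G) * i = 1 := by
      rw [← pow_two, ← Subgroup.coe_pow, ← hi, pow_orderOf_eq_one, Subgroup.coe_one]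
    calc g * i * g⁻¹ * (g * i * g⁻¹) = g * ((i : G) * i) * g⁻¹ := by group
      _ = 1 := by rw [h2]; group

end Cfsg.Agent.S1118
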