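import Cfsg.Statements.S1119
import Mathlib
import Cfsg.Agent.Lib.RankOne.Fixed

set_option autoImplicit false
open Cfsg

namespace Cfsg.Agent.S1119

/-- In the rank-one set-up (`G` finite and doubly transitive on `Ω`, `t` an involution moving `a`, `Q` normal in `G_a` with `G_a = Q D`, `Q ⊓ D = 1` for the two-point stabiliser `D = G_a ⊓ G_{t • a}`, `|Q|` even, `|D|` odd): `Q` acts regularly on `Ω` minus `a`; hence `|Ω| = |Q| + 1`, `|G| = |Q| |D| (|Q| + 1)`, some Sylow 2-subgroup of `G` lies in `Q`, and each `g ∉ G_a` is uniquely `x t y` with `x ∈ G_a`, `y ∈ Q` (canonical form). -/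
theorem result {G Ω : Type*} [Group G] [Finite G] [MulAction G Ω] {a : Ω} {t : G} {Q : Subgroup G}
    (hS : Cfsg.IsRankOneSetup G Ω a t Q) :
    (∀ b c : Ω, b ≠ a → c ≠ a → ∃! x : Q, (x : G) • b = c) ∧
      Nat.card Ω = Nat.card Q + 1 ∧
      Nat.card G = Nat.card Q * Nat.card ↥(MulAction.stabilizer G a ⊓ MulAction.stabilizer G (t • a)) * (Nat.card Q + 1) ∧
      (∃ P : Sylow 2 G, (P : Subgroup G) ≤ Q) ∧
      ∀ g : G, g ∉ MulAction.stabilizer G a → ∃! p : G × G, p.1 ∈ MulAction.stabilizer G a ∧ p.2 ∈ Q ∧ g = p.1 * t * p.2 := by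
  open Cfsg.Agent.Lib.RankOne in
  refine ⟨fun b c hb hc => ?_, card_points hS, card_group hS, ?_, fun g hg => ?_⟩
  · obtain ⟨q, hq, e⟩ := exists_Q_move' hS hb hc
    exact ⟨⟨q, hq⟩, e, fun y hy => Subtype.ext (Q_move_unique hS hb y.2 hq (hy.trans e.symm))⟩
  · haveI : Fact (Nat.Prime 2) := ⟨Nat.prime_two⟩
    obtain ⟨P0⟩ : Nonempty (Sylow 2 Q) := Sylow.nonempty
    have hcard := P0.card_eq_multiplicity
    refine ⟨Sylow.ofCard ((P0 : Subgroup Q).map Q.subtype) ?_, ?_⟩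
    · rw [Subgroup.card_map_of_injective Q.subtype_injective, hcard, card_group hS]
      congr 1
      obtain ⟨k, hk⟩ := hS.even_card
      have h2 : ¬ 2 ∣ Nat.card ↥(MulAction.stabilizer G a ⊓ MulAction.stabilizer G (t • a)) *
          (Nat.card Q + 1) := by
        rw [Nat.Prime.dvd_mul Nat.prime_two]
        obtain ⟨j, hj⟩ := hS.odd_card
        omega
      rw [mul_assoc, Nat.factorization_mul Nat.card_pos.ne' (Nat.mul_ne_zero Nat.card_pos.ne' (by omega)),
        Finsupp.add_apply, Nat.factorization_eq_zero_of_not_dvd h2, add_zero]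
    · exact Subgroup.map_subtype_le _
  · obtain ⟨x, hx, y, hy, rfl⟩ := exists_canonical hS hg
    refine ⟨(x, y), ⟨hx, hy, rfl⟩, ?_⟩
    rintro ⟨x', y'⟩ ⟨hx', hy', e⟩
    obtain ⟨rfl, rfl⟩ := canonical_unique hS hx hx' hy hy' e
    rfl

end Cfsg.Agent.S1119
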