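import Cfsg.Statements.S1120
import Mathlib
import Cfsg.Agent.Lib.RankOne.Fixed
import Cfsg.Agent.Lib.PSolvable.Core

set_option autoImplicit false
open Cfsg

namespace Cfsg.Agent.S1120

/-- In the rank-one set-up (`G` finite and doubly transitive on `Ω`, `t` an involution moving `a`, `Q` normal in `G_a` with `G_a = Q D`, `Q ⊓ D = 1` for the two-point stabiliser `D = G_a ⊓ G_{t • a}`, `|Q|` even, `|D|` odd), if `G` has 2-rank at least 2 then `O_{2'}(G)` equals the normal core of `G_a`. -/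
theorem result {G Ω : Type*} [Group G] [Finite G] [MulAction G Ω] {a : Ω} {t : G} {Q : Subgroup G}
    (hS : Cfsg.IsRankOneSetup G Ω a t Q)
    (h2 : ∃ x y : G, x ≠ 1 ∧ y ≠ 1 ∧ x ≠ y ∧ x * x = 1 ∧ y * y = 1 ∧ x * y = y * x) :
    Cfsg.pPrimeCore 2 G = (MulAction.stabilizer G a).normalCore := by
  open Cfsg.Agent.Lib.RankOne MulAction in
  have hOodd : Odd (Nat.card (Cfsg.pPrimeCore 2 G)) :=
    Nat.coprime_two_right.mp (Cfsg.Agent.Lib.PSolvable.pPrimeCore_coprime (p := 2) (G := G))
  haveI := Cfsg.Agent.Lib.PSolvable.pPrimeCore_characteristic (p := 2) (G := G)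
  refine le_antisymm ((Subgroup.normal_le_normalCore).mpr ?_) ?_
  · obtain ⟨x₀, y₀, hx1, hy1, hxy, hx2, hy2, hcomm⟩ := h2
    haveI := isPretransitive hS
    obtain ⟨c, hc⟩ := exists_fixed hS hx2
    obtain ⟨g, hg⟩ := MulAction.exists_smul_eq G c a
    have hyc : y₀ • c = c := fixed_unique hS hx2 hx1 (by rw [smul_smul, hcomm, mul_smul, hc]) hc
    have hconj : ∀ z : G, z * z = 1 → z • c = c →
        (g * z * g⁻¹) • a = a ∧ (g * z * g⁻¹) * (g * z * g⁻¹) = 1 := by
      intro z hz hzc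
      refine ⟨by rw [mul_smul, mul_smul, ← hg, inv_smul_smul, hzc], ?_⟩
      calc g * z * g⁻¹ * (g * z * g⁻¹) = g * (z * z) * g⁻¹ := by group
        _ = 1 := by rw [hz]; group
    obtain ⟨hxa, hxx⟩ := hconj x₀ hx2 hc
    obtain ⟨hya, hyy⟩ := hconj y₀ hy2 hyc
    set x := g * x₀ * g⁻¹ with hxdef
    set y := g * y₀ * g⁻¹ with hydef
    have hx : x ≠ 1 := fun h => hx1 (conj_eq_one_iff.mp h)
    have hy : y ≠ 1 := fun h => hy1 (conj_eq_one_iff.mp h)
    have hne : x ≠ y := fun h => hxy (mul_left_cancel (mul_right_cancel h))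
    have hxyc : x * y = y * x := by
      calc x * y = g * (x₀ * y₀) * g⁻¹ := by rw [hxdef, hydef]; group
        _ = y * x := by rw [hcomm, hxdef, hydef]; group
    intro o ho
    by_contra hoa
    have hu : o * y * o⁻¹ * (o * y * o⁻¹) = 1 := by
      calc o * y * o⁻¹ * (o * y * o⁻¹) = o * (y * y) * o⁻¹ := by group
        _ = 1 := by rw [hyy]; group
    have hua : (o * y * o⁻¹) • a ≠ a := by
      intro h
      rw [mul_smul, mul_smul] at h
      have h2 : y • o⁻¹ • a = o⁻¹ • a := eq_inv_smul_iff.mpr h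
      exact hoa (mem_stabilizer_iff.mpr
        (eq_inv_smul_iff.mp (fixed_unique hS hyy hy h2 hya).symm))
    obtain ⟨n, hn⟩ := odd_orderOf_mul hS hxa hx hxx hua hu
    let π := QuotientGroup.mk' (Cfsg.pPrimeCore 2 G)
    have hπo : π o = 1 := (QuotientGroup.eq_one_iff o).mpr ho
    have h3 : π (x * y) ^ (2 * n + 1) = 1 := by
      have h4 := congrArg π (pow_orderOf_eq_one (x * (o * y * o⁻¹)))
      rw [hn, map_pow, map_one] at h4
      simpa [map_mul, hπo] using h4
    have hxy2 : x * y * (x * y) = 1 := by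
      calc x * y * (x * y) = x * y * (y * x) := by rw [hxyc]
        _ = x * (y * y) * x := by group
        _ = 1 := by rw [hyy, mul_one, hxx]
    have h5 : π (x * y) ^ 2 = 1 := by rw [pow_two, ← map_mul, hxy2, map_one]
    rw [pow_succ, pow_mul, h5, one_pow, one_mul] at h3
    have h6 : x * y = 1 :=
      eq_one_of_mul_self_of_odd hOodd ((QuotientGroup.eq_one_iff _).mp h3) hxy2
    exact hne ((mul_eq_one_iff_eq_inv.mp h6).trans (inv_eq_of_mul_eq_one_right hyy))
  · refine Cfsg.Agent.Lib.PSolvable.le_pPrimeCore ?_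
    have hle : (stabilizer G a).normalCore ≤ twoStab a t := by
      intro x hx
      refine mem_twoStab.mpr ⟨Subgroup.normalCore_le _ hx, ?_⟩
      have h := Subgroup.normalCore_le _ ((stabilizer G a).normalCore_normal.conj_mem x hx t)
      rw [mem_stabilizer_iff, mul_smul, mul_smul, t_inv hS, smul_eq_iff_eq_inv_smul, t_inv hS] at h
      exact h
    exact Nat.Coprime.coprime_dvd_left (Subgroup.card_dvd_of_le hle)
      (Nat.coprime_two_right.mpr hS.odd_card)

end Cfsg.Agent.S1120
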