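import Cfsg.Statements.S1124
import Mathlib
import Cfsg.Agent.Lib.RankOne.Fixed

set_option autoImplicit false
open scoped Pointwise
open Cfsg

namespace Cfsg.Agent.S1124

/-- Let `t` be an element of order 2 of a finite group normalising a subgroup `X` of odd order, `Y = C_X(t)` and `Z` the set of elements of `X` inverted by `t`. Then `(y, z) ↦ y z` is a bijection `Y × Z → X`, so `|X| = |Y| |Z|`, and the subgroup generated by `Z` is normal in `X`. -/
theorem result {M : Type*} [Group M] [Finite M]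
    (t : M) (ht : orderOf t = 2) (X : Subgroup M) (hodd : Odd (Nat.card X))
    (hnorm : ∀ x ∈ X, t * x * t⁻¹ ∈ X) :
    (∀ x ∈ X, ∃! p : M × M, p.1 ∈ X ⊓ Subgroup.centralizer {t} ∧ p.2 ∈ Cfsg.invertedBy X t ∧ x = p.1 * p.2) ∧
      Nat.card X = Nat.card ↥(X ⊓ Subgroup.centralizer {t}) * Nat.card (Cfsg.invertedBy X t) ∧
      ∀ x ∈ X, MulAut.conj x • Subgroup.closure (Cfsg.invertedBy X t) = Subgroup.closure (Cfsg.invertedBy X t) := by
  open Cfsg.Agent.Lib.RankOne in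
  have ht2 : t * t = 1 := by rw [← pow_two, ← ht, pow_orderOf_eq_one]
  have hti : t⁻¹ = t := inv_eq_of_mul_eq_one_right ht2
  have hn : ∀ x ∈ X, t * x * t ∈ X := fun x hx => by
    have := hnorm x hx
    rwa [hti] at this
  open Cfsg.Agent.Lib.RankOne in
  have hex : ∀ x ∈ X, ∃! p : M × M, p.1 ∈ X ⊓ Subgroup.centralizer {t} ∧
      p.2 ∈ Cfsg.invertedBy X t ∧ x = p.1 * p.2 := by
    intro x hx
    obtain ⟨y, z, hy, hyt, hz, rfl⟩ := exists_fixed_mul_inverted hodd ht2 hn hx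
    refine ⟨(y, z), ⟨⟨hy, Subgroup.mem_centralizer_singleton_iff.mpr hyt⟩, hz, rfl⟩, ?_⟩
    rintro ⟨y', z'⟩ ⟨hy', hz', e⟩
    obtain ⟨rfl, rfl⟩ := fixed_mul_inverted_unique hodd ht2 hn hy hyt hz hy'.1
      (Subgroup.mem_centralizer_singleton_iff.mp hy'.2) hz' e
    rfl
  refine ⟨hex, ?_, ?_⟩
  · rw [← Nat.card_prod]
    refine (Nat.card_eq_of_bijective (fun p : ↥(X ⊓ Subgroup.centralizer {t}) × Cfsg.invertedBy X t =>
      (⟨(p.1 : M) * p.2, X.mul_mem p.1.2.1 p.2.2.1⟩ : X)) ⟨?_, ?_⟩).symm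
    · rintro ⟨⟨y, hy⟩, ⟨z, hz⟩⟩ ⟨⟨y', hy'⟩, ⟨z', hz'⟩⟩ e
      have e' : y * z = y' * z' := congrArg Subtype.val e
      have := (hex _ (X.mul_mem hy.1 hz.1)).unique (y₁ := (y, z)) (y₂ := (y', z'))
        ⟨hy, hz, rfl⟩ ⟨hy', hz', e'⟩
      obtain ⟨rfl, rfl⟩ := Prod.ext_iff.mp this
      rfl
    · rintro ⟨x, hx⟩
      obtain ⟨⟨y, z⟩, ⟨hy, hz, e⟩, -⟩ := hex x hx
      exact ⟨(⟨y, hy⟩, ⟨z, hz⟩), Subtype.ext e.symm⟩
  · have hcl : ∀ z ∈ Subgroup.closure (Cfsg.invertedBy X t), ∀ x ∈ X,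
        x * z * x⁻¹ ∈ Subgroup.closure (Cfsg.invertedBy X t) := by
      intro z hz x hx
      obtain ⟨⟨y, w⟩, ⟨hy, hw, e⟩, -⟩ := hex x hx
      have hy' : ∀ u ∈ Subgroup.closure (Cfsg.invertedBy X t),
          y * u * y⁻¹ ∈ Subgroup.closure (Cfsg.invertedBy X t) := by
        intro u hu
        induction hu using Subgroup.closure_induction with
        | mem u hu =>
          refine Subgroup.subset_closure ⟨X.mul_mem (X.mul_mem hy.1 hu.1) (X.inv_mem hy.1), ?_⟩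
          have hc : y * t = t * y := Subgroup.mem_centralizer_singleton_iff.mp hy.2
          calc t * (y * u * y⁻¹) * t⁻¹ = (t * y) * u * (t * y)⁻¹ := by group
            _ = y * (t * u * t⁻¹) * y⁻¹ := by rw [← hc]; group
            _ = (y * u * y⁻¹)⁻¹ := by rw [hu.2]; group
        | one => simp
        | mul u v _ _ hu hv =>
          rw [show y * (u * v) * y⁻¹ = (y * u * y⁻¹) * (y * v * y⁻¹) by group]
          exact mul_mem hu hv
        | inv u _ hu =>
          rw [show y * u⁻¹ * y⁻¹ = (y * u * y⁻¹)⁻¹ by group]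
          exact inv_mem hu
      have hwc := Subgroup.subset_closure hw
      rw [show x * z * x⁻¹ = y * (w * z * w⁻¹) * y⁻¹ by rw [e]; group]
      exact hy' _ (mul_mem (mul_mem hwc hz) (inv_mem hwc))
    intro x hx
    ext z
    rw [Subgroup.mem_smul_pointwise_iff_exists]
    constructor
    · rintro ⟨u, hu, rfl⟩
      exact hcl u hu x hx
    · intro hz
      refine ⟨x⁻¹ * z * x, by simpa using hcl z hz x⁻¹ (X.inv_mem hx), ?_⟩
      simp [MulAut.conj_apply, mul_assoc]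

end Cfsg.Agent.S1124
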