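import Cfsg.Statements.S1141
import Mathlib
import Cfsg.Agent.Lib.Unitary3.SuzukiTwo

set_option autoImplicit false
open Cfsg

namespace Cfsg.Agent.S1141

/-- Let `q = 2^n ≥ 4` and `|F| = q²`. A Sylow 2-subgroup `S` of `PSU₃(q)` has order `q³`, its centre has order `q`, and `S` is a Suzuki 2-group. -/
theorem result {F : Type*} [Field F] [Fintype F] {n : ℕ} (hn : 2 ≤ n)
    (hF : Fintype.card F = (2 ^ n) ^ 2) (S : Sylow 2 (Cfsg.PSU 3 F (2 ^ n))) :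
    Nat.card S = (2 ^ n) ^ 3 ∧ Nat.card (Subgroup.center ↥(S : Subgroup (Cfsg.PSU 3 F (2 ^ n)))) = 2 ^ n ∧
      Cfsg.IsSuzukiTwoGroup ↥(S : Subgroup (Cfsg.PSU 3 F (2 ^ n))) := by
  haveI : CharP F 2 := Cfsg.Agent.Lib.Unitary3.charP_two_of_card hF
  obtain ⟨e⟩ := Cfsg.Agent.Lib.Unitary3.nonempty_sylow_PSU_equiv_unip (n := n) (by omega) hF S
  have h2 : 2 ≤ 2 ^ n := le_trans (by norm_num : 2 ≤ 2 ^ 2) (Nat.pow_le_pow_right (by norm_num) hn)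
  refine ⟨(Nat.card_congr e.toEquiv).trans (Cfsg.Agent.Lib.Unitary3.natCard_unip hF),
    (Nat.card_congr (Subgroup.centerCongr e).toEquiv).trans
      (Cfsg.Agent.Lib.Unitary3.natCard_center_unip hF h2), ?_⟩
  exact Cfsg.Agent.Lib.Unitary3.isSuzukiTwoGroup_congr e.symm
    (Cfsg.Agent.Lib.Unitary3.isSuzukiTwoGroup_unip hF hn rfl)

end Cfsg.Agent.S1141
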