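import Cfsg.Statements.S1142
import Mathlib
import Cfsg.Agent.Lib.FeitHigman.Trig

set_option autoImplicit false
open Cfsg

namespace Cfsg.Agent.S1142

/-- Feit–Higman: if a finite group has a (B,N)-pair of rank 2, its Weyl group `N/(B ⊓ N)` has order 4, 6, 8, 12 or 16. -/
theorem result {G : Type*} [Group G] [Finite G] (P : Cfsg.BNPair G)
    (h2 : P.rank = 2) :
    ((P.B ⊓ P.N).subgroupOf P.N).index ∈ ({4, 6, 8, 12, 16} : Set ℕ) := by
  classical
  haveI : Finite (Cfsg.Agent.Lib.FeitHigman.Ch P) := Quotient.finite _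
  haveI : Fintype (Cfsg.Agent.Lib.FeitHigman.Ch P) := Fintype.ofFinite _
  obtain ⟨a, b, hne, huniv⟩ := Nat.card_eq_two_iff.mp h2
  have hab : ∀ x : P.S, x = a ∨ x = b := fun x => by
    have := huniv.symm.subset (Set.mem_univ x)
    simpa using this
  have hord := Cfsg.Agent.Lib.FeitHigman.ord_mem hab hne
  have hW := Cfsg.Agent.Lib.FeitHigman.card_W hab (a := a) (b := b)
  have hidx : ((P.B ⊓ P.N).subgroupOf P.N).index = 2 * Cfsg.Agent.Lib.FeitHigman.ord a b := hW
  rw [hidx]
  simp only [Set.mem_insert_iff, Set.mem_singleton_iff]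
  omega

end Cfsg.Agent.S1142
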