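import Cfsg.Statements.S1151
import Mathlib
import Cfsg.Agent.Lib.Twisted.Ree.G2Action

set_option autoImplicit false
open Cfsg

namespace Cfsg.Agent.S1151

/-- In the small Ree group ²G₂(q), q = 3^(2m+1), realised as G¹ inside the Chevalley group G₂ over the field with q elements (θ the 3^m-th power map), with H¹ = G¹ ∩ H and U¹ = G¹ ∩ U the intersections with the ambient diagonal and positive unipotent subgroups: `H¹` has exactly `(q - 1)/2` elements of odd order, and each non-identity one centralises no non-identity element of `U¹`. -/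
theorem result {K : Type*} [Field K] [Fintype K] {m : ℕ} (hK : Fintype.card K = 3 ^ (2 * m + 1)) :
    2 * Nat.card {h : ↥(Cfsg.Lie.chevG2.diagonalSubgroup K ⊓ Cfsg.Lie.twistedG2 K (3 ^ m)) // Odd (orderOf h)} = 3 ^ (2 * m + 1) - 1 ∧
      ∀ h ∈ (Cfsg.Lie.chevG2.diagonalSubgroup K ⊓ Cfsg.Lie.twistedG2 K (3 ^ m)), h ≠ 1 → Odd (orderOf h) →
        (Cfsg.Lie.chevG2.posUnipotent K ⊓ Cfsg.Lie.twistedG2 K (3 ^ m)) ⊓ Subgroup.centralizer {h} = ⊥ := by
  rw [Lib.Twisted.ReeG.diagonal_inf_eq_range hK]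
  set f := Lib.Twisted.ReeG.ctHom (K := K) (3 ^ m) with hf
  have hfi : Function.Injective f := Lib.Twisted.ReeG.ctHom_injective _
  have := Lib.Twisted.ReeG.charP_of_card hK
  have he := Lib.Twisted.ReeG.pow_theta hK
  constructor
  · obtain ⟨k, hk⟩ := Lib.Twisted.ReeG.card_units_eq hK
    have hodd : ∀ s : Kˣ, Odd (orderOf s) ↔ s ∈ (powMonoidHom (2 * k + 1) : Kˣ →* Kˣ).ker := fun s => by
      rw [MonoidHom.mem_ker, powMonoidHom_apply, ← orderOf_dvd_iff_pow_eq_one]
      refine ⟨fun h => ?_, fun h => (odd_two_mul_add_one k).of_dvd_nat h⟩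
      exact ((Nat.coprime_two_right.2 h).dvd_of_dvd_mul_left (hk ▸ orderOf_dvd_natCard s))
    have e : {h : ↥f.range // Odd (orderOf h)} ≃ ↥(powMonoidHom (2 * k + 1) : Kˣ →* Kˣ).ker :=
      ((MonoidHom.ofInjective hfi).toEquiv.subtypeEquiv fun s => by
        rw [← hodd, MulEquiv.toEquiv_eq_coe, MulEquiv.coe_toEquiv, MulEquiv.orderOf_eq]).symm
    rw [Nat.card_congr e, IsCyclic.card_powMonoidHom_ker, ← hK, ← Nat.card_eq_fintype_card,
      ← Nat.card_units, hk, Nat.gcd_mul_left_left]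
  · rintro h ⟨s, rfl⟩ hne hodd
    rw [eq_bot_iff]
    rintro g ⟨hg, hc⟩
    obtain ⟨t, u, v, rfl⟩ := (Lib.Twisted.ReeG.mem_unipotent_inf_iff hK g).1 hg
    have hs : s ≠ 1 := fun e => hne (by rw [e, map_one])
    rw [orderOf_injective f hfi] at hodd
    have e := Subgroup.mem_centralizer_iff.1 hc _ (Set.mem_singleton (f s))
    obtain ⟨rfl, rfl, rfl⟩ := Lib.Twisted.ReeG.ct_centralizes (K := K) (Nat.one_le_pow _ _ (by norm_num)) he hs hodd
      (t := t) (u := u) (v := v) (Subtype.ext (by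
        rw [Subgroup.coe_mul, Subgroup.coe_mul, Subgroup.coe_inv, mul_inv_eq_iff_eq_mul]
        exact e))
    rw [Subgroup.mem_bot, Lib.Twisted.ReeG.reeU_zero (pow_ne_zero m (by norm_num))]
    rfl

end Cfsg.Agent.S1151
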