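import Cfsg.Statements.S1154
import Mathlib
import Cfsg.Agent.Lib.Twisted.Ree.G2Action

set_option autoImplicit false
open Cfsg

namespace Cfsg.Agent.S1154

/-- In the small Ree group ²G₂(q), q = 3^(2m+1) with m ≥ 1, realised as G¹ inside the Chevalley group G₂ over the field with q elements (θ the 3^m-th power map), with `U¹ = G¹ ∩ U` (U the positive unipotent subgroup of the ambient G₂): `U¹` has exactly `q² - 1` elements of order 3. -/
theorem result {K : Type*} [Field K] [Fintype K] {m : ℕ} (hm : 1 ≤ m) (hK : Fintype.card K = 3 ^ (2 * m + 1)) :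
    Nat.card {u : ↥(Cfsg.Lie.chevG2.posUnipotent K ⊓ Cfsg.Lie.twistedG2 K (3 ^ m)) // orderOf u = 3} = (3 ^ (2 * m + 1)) ^ 2 - 1 := by
  have := Lib.Twisted.ReeG.charP_of_card hK
  have he := Lib.Twisted.ReeG.pow_theta hK
  have he0 : (3 : ℕ) ^ m ≠ 0 := pow_ne_zero m (by norm_num)
  set S := Cfsg.Lie.chevG2.posUnipotent K ⊓ Cfsg.Lie.twistedG2 K (3 ^ m) with hS
  have hmem : ∀ u v : K, (Lib.Twisted.ReeG.reeU (3 ^ m) 0 u v : GL Cfsg.Lie.chevG2.Idx K) ∈ S := fun u v =>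
    (Lib.Twisted.ReeG.mem_unipotent_inf_iff hK _).2 ⟨0, u, v, rfl⟩
  have hord : ∀ (x : ↥S) (y : ↥(Cfsg.Lie.chevG2.group K)), (x : GL Cfsg.Lie.chevG2.Idx K) = y → orderOf x = orderOf y :=
    fun x y e => by rw [← Subgroup.orderOf_coe x, e, Subgroup.orderOf_coe]
  have hiff : ∀ t u v : K, orderOf (Lib.Twisted.ReeG.reeU (3 ^ m) t u v) = 3 ↔ t = 0 ∧ (u, v) ≠ (0, 0) := fun t u v => by
    rw [orderOf_eq_prime_iff, Lib.Twisted.ReeG.reeU_cube_eq_one_iff he0, Ne,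
      Lib.Twisted.ReeG.reeU_eq_one_iff he0 he, Ne, Prod.mk.injEq]
    constructor
    · rintro ⟨rfl, h⟩
      exact ⟨rfl, fun h' => h ⟨rfl, h'⟩⟩
    · rintro ⟨rfl, h⟩
      exact ⟨rfl, fun h' => h h'.2⟩
  let g : {p : K × K // p ≠ (0, 0)} → {u : ↥S // orderOf u = 3} := fun p =>
    ⟨⟨_, hmem p.1.1 p.1.2⟩, by rw [hord _ _ rfl]; exact (hiff 0 _ _).2 ⟨rfl, p.2⟩⟩
  have hg : Function.Bijective g := by
    refine ⟨fun p p' h => ?_, fun x => ?_⟩
    · obtain ⟨-, h1, h2⟩ := Lib.Twisted.ReeG.reeU_injective he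
        (Subtype.ext (Subtype.mk.inj (Subtype.mk.inj h)))
      exact Subtype.ext (Prod.ext h1 h2)
    · obtain ⟨t, u, v, e⟩ := (Lib.Twisted.ReeG.mem_unipotent_inf_iff hK _).1 x.1.2
      have h3 := x.2
      rw [hord _ _ e] at h3
      obtain ⟨rfl, hne⟩ := (hiff t u v).1 h3
      exact ⟨⟨(u, v), hne⟩, Subtype.ext (Subtype.ext e.symm)⟩
  classical
  rw [← Nat.card_congr (Equiv.ofBijective g hg), Nat.card_eq_fintype_card, Fintype.card_subtype_compl,
    Fintype.card_subtype_eq, Fintype.card_prod, hK]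
  ring_nf

end Cfsg.Agent.S1154
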