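import Cfsg.Statements.S1163
import Mathlib
import Cfsg.Agent.Lib.SuzukiSp4.Iso

set_option autoImplicit false
open Cfsg

namespace Cfsg.Agent.S1163

open Cfsg.Agent.Lib MulAction

section aux

variable {F : Type*} [Field F] [Fintype F] {m : ℕ}

local notation "G₁" => Cfsg.Lie.Sz F (2 ^ (m + 1))

theorem main (h : Suzuki.Hyp F m) :
    Nat.card G₁ = (2 ^ (2 * m + 1)) ^ 2 * (2 ^ (2 * m + 1) - 1) * ((2 ^ (2 * m + 1)) ^ 2 + 1) ∧
    ∃ S : Sylow 2 G₁,
      Nat.card (Subgroup.normalizer ((S : Subgroup G₁) : Set G₁)) = (2 ^ (2 * m + 1)) ^ 2 * (2 ^ (2 * m + 1) - 1) ∧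
      (Subgroup.normalizer ((S : Subgroup G₁) : Set G₁)).index = (2 ^ (2 * m + 1)) ^ 2 + 1 ∧
      MulAction.IsMultiplyPretransitive G₁ (G₁ ⧸ Subgroup.normalizer ((S : Subgroup G₁) : Set G₁)) 2 ∧
      ∀ x y : G₁ ⧸ Subgroup.normalizer ((S : Subgroup G₁) : Set G₁),
        x ≠ (QuotientGroup.mk 1) → y ≠ (QuotientGroup.mk 1) →
          ∃! s : ↥(S : Subgroup G₁), (s : G₁) • x = y := by
  haveI : Fact (Nat.Prime 2) := ⟨Nat.prime_two⟩
  set e : Cfsg.Sz F m ≃* G₁ := SuzukiSp4.szEquiv h with he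
  letI : MulAction G₁ (Cfsg.suzukiOvoid F m) :=
    MulAction.compHom _ e.symm.toMonoidHom
  have hsmul : ∀ (g : G₁) (p : Cfsg.suzukiOvoid F m), g • p = e.symm g • p := fun _ _ => rfl
  set p₀ := Suzuki.ovInf F m with hp₀
  have hcardG : Nat.card G₁ =
      (2 ^ (2 * m + 1)) ^ 2 * ((2 ^ (2 * m + 1)) ^ 2 + 1) * (2 ^ (2 * m + 1) - 1) := by
    rw [← Nat.card_congr e.toEquiv, Suzuki.card_Sz h, h.hF]
  set T : Subgroup G₁ := (Suzuki.transl h).map e.toMonoidHom with hT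
  obtain ⟨P₀⟩ : Nonempty (Sylow 2 (Cfsg.Sz F m)) := Sylow.nonempty
  obtain ⟨e₀⟩ := Suzuki.transl_sylow_equiv h P₀
  have hTcard : Nat.card T = 2 ^ (Nat.card G₁).factorization 2 := by
    rw [hT, Subgroup.card_map_of_injective e.injective, Nat.card_congr e₀.toEquiv,
      P₀.card_eq_multiplicity, Nat.card_congr e.toEquiv]
  set S : Sylow 2 G₁ := Sylow.ofCard T hTcard with hS
  have hST : (S : Subgroup G₁) = T := rfl
  have hTmem : ∀ g : G₁, g ∈ T ↔ ∃ a b, e.symm g = Suzuki.szT h a b := by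
    intro g
    constructor
    · rintro ⟨x, ⟨a, b, rfl⟩, rfl⟩
      exact ⟨a, b, e.symm_apply_apply _⟩
    · rintro ⟨a, b, hg⟩
      exact ⟨_, ⟨a, b, rfl⟩, by rw [← hg]; exact e.apply_symm_apply g⟩
  have hnorm : Subgroup.normalizer ((S : Subgroup G₁) : Set G₁) = stabilizer G₁ p₀ := by
    rw [hST]
    ext g
    constructor
    · intro hg
      rcases Suzuki.ovPt_cases (g⁻¹ • p₀) with hc | ⟨x, y, hc⟩
      · rw [← hp₀, inv_smul_eq_iff] at hc
        exact hc.symm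
      · exfalso
        obtain ⟨t, ht⟩ : ∃ t : G₁, e.symm t = Suzuki.szT h 1 0 :=
          ⟨_, e.symm_apply_apply _⟩
        obtain ⟨a, b, hab⟩ := (hTmem _).mp
          ((Subgroup.mem_normalizer_iff.mp hg t).mp ((hTmem t).mpr ⟨1, 0, ht⟩))
        have h1 : (g * t * g⁻¹) • p₀ = p₀ := by
          rw [hsmul, hab]; exact Suzuki.szT_inf h a b
        rw [mul_smul, mul_smul, smul_eq_iff_eq_inv_smul, hc, hsmul, ht, Suzuki.szT_aff h] at h1
        have := (Suzuki.ovAff_injective h1).1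
        exact one_ne_zero (α := F) (by linear_combination this)
    · intro hg
      rw [Subgroup.mem_normalizer_iff]
      have key : ∀ g : G₁, g • p₀ = p₀ → ∀ t ∈ T, g * t * g⁻¹ ∈ T := by
        intro g hg t ht
        obtain ⟨c, d, hcd⟩ := (hTmem t).mp ht
        obtain ⟨a, b, u, hu⟩ := Suzuki.eq_szT_szH_of_fix h (g := e.symm g) hg
        rw [hTmem]
        obtain ⟨c', d', h1⟩ : ∃ c' d', Suzuki.szH h u * Suzuki.szT h c d * (Suzuki.szH h u)⁻¹ =
            Suzuki.szT h c' d' :=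
          ⟨_, _, mul_inv_eq_iff_eq_mul.mpr (Suzuki.szH_mul_szT h u c d)⟩
        obtain ⟨a', b', h2⟩ : ∃ a' b', Suzuki.szT h a b * Suzuki.szT h c' d' *
            (Suzuki.szT h a b)⁻¹ = Suzuki.szT h a' b' :=
          ⟨_, _, by rw [Suzuki.szT_inv, Suzuki.szT_mul, Suzuki.szT_mul]⟩
        refine ⟨a', b', ?_⟩
        rw [map_mul, map_mul, map_inv, hu, hcd, ← h2, ← h1]
        group
      intro t
      refine ⟨key g hg t, fun ht => ?_⟩
      have := key g⁻¹ (inv_smul_eq_iff.mpr hg.symm) _ ht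
      rwa [show g⁻¹ * (g * t * g⁻¹) * g⁻¹⁻¹ = t by group] at this
  haveI hpre : IsPretransitive G₁ (Cfsg.suzukiOvoid F m) := by
    haveI := Suzuki.isPretransitive_ovoid h
    refine ⟨fun p q => ?_⟩
    obtain ⟨k, hk⟩ := exists_smul_eq (Cfsg.Sz F m) p q
    exact ⟨e k, by rw [hsmul, e.symm_apply_apply, hk]⟩
  set N := Subgroup.normalizer ((S : Subgroup G₁) : Set G₁) with hN
  let φ : G₁ ⧸ N → Cfsg.suzukiOvoid F m := Quotient.lift (fun g => g • p₀) (by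
    intro g g' hgg
    have h1 : g⁻¹ * g' ∈ N := (QuotientGroup.leftRel_apply).mp hgg
    rw [hnorm, mem_stabilizer_iff, mul_smul, inv_smul_eq_iff] at h1
    exact h1.symm)
  have hφmk : ∀ g : G₁, φ (QuotientGroup.mk g) = g • p₀ := fun _ => rfl
  have hφsmul : ∀ (g : G₁) (x : G₁ ⧸ N), φ (g • x) = g • φ x := by
    intro g x
    induction x using QuotientGroup.induction_on with
    | H x =>
      show φ (QuotientGroup.mk (g * x)) = _
      rw [hφmk, hφmk, mul_smul]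
  have hφ : Function.Bijective φ := by
    refine ⟨fun x y hxy => ?_, fun p => ?_⟩
    · induction x using QuotientGroup.induction_on with
      | H x =>
        induction y using QuotientGroup.induction_on with
        | H y =>
          rw [hφmk, hφmk] at hxy
          rw [QuotientGroup.eq, hnorm, mem_stabilizer_iff, mul_smul, inv_smul_eq_iff]
          exact hxy.symm
    · obtain ⟨g, hg⟩ := exists_smul_eq G₁ p₀ p
      exact ⟨QuotientGroup.mk g, by rw [hφmk, hg]⟩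
  have hidx : N.index = (2 ^ (2 * m + 1)) ^ 2 + 1 := by
    rw [Subgroup.index, Nat.card_eq_of_bijective φ hφ, Suzuki.card_ovoid, h.hF]
  refine ⟨by rw [hcardG]; ring, S, ?_, hidx, ?_, ?_⟩
  · have h1 := N.card_mul_index
    rw [hidx, hcardG] at h1
    exact Nat.eq_of_mul_eq_mul_right (m := (2 ^ (2 * m + 1)) ^ 2 + 1) (by omega) (h1.trans (by ring))
  · rw [is_two_pretransitive_iff]
    intro a b c d hab hcd
    obtain ⟨k, hk1, hk2⟩ := is_two_pretransitive_iff.mp (Suzuki.isMultiplyPretransitive_two h)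
      (hφ.1.ne hab) (hφ.1.ne hcd)
    refine ⟨e k, hφ.1 ?_, hφ.1 ?_⟩
    · rw [hφsmul, hsmul, e.symm_apply_apply, hk1]
    · rw [hφsmul, hsmul, e.symm_apply_apply, hk2]
  · intro x y hx hy
    have hne : ∀ z : G₁ ⧸ N, z ≠ QuotientGroup.mk 1 → φ z ≠ p₀ := fun z hz hzp =>
      hz (hφ.1 (by rw [hzp, hφmk, one_smul]))
    obtain ⟨a, b, hab⟩ := (Suzuki.ovPt_cases (φ x)).resolve_left (hne x hx)
    obtain ⟨c, d, hcd⟩ := (Suzuki.ovPt_cases (φ y)).resolve_left (hne y hy)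
    have h0 : ∀ A B : F, Suzuki.szT h A B • φ x = φ y ↔
        A = c - a ∧ B = d - b - Suzuki.theta m (c - a) * a := by
      intro A B
      rw [hab, hcd, Suzuki.szT_aff h]
      constructor
      · intro h1
        obtain ⟨h2, h3⟩ := Suzuki.ovAff_injective h1
        have hA : A = c - a := by linear_combination h2
        refine ⟨hA, ?_⟩
        rw [← hA]; linear_combination h3
      · rintro ⟨rfl, rfl⟩
        congr 1 <;> ring
    obtain ⟨t, ht⟩ : ∃ t : G₁, e.symm t =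
        Suzuki.szT h (c - a) (d - b - Suzuki.theta m (c - a) * a) := ⟨_, e.symm_apply_apply _⟩
    refine ⟨⟨t, (hTmem t).mpr ⟨_, _, ht⟩⟩, hφ.1 ?_, ?_⟩
    · rw [hφsmul, hsmul, ht]; exact (h0 _ _).mpr ⟨rfl, rfl⟩
    · rintro ⟨s, hs⟩ hsx
      obtain ⟨A, B, hAB⟩ := (hTmem s).mp hs
      have h1 := congrArg φ hsx
      rw [hφsmul, hsmul, hAB] at h1
      obtain ⟨rfl, rfl⟩ := (h0 A B).mp h1
      exact Subtype.ext (e.symm.injective (hAB.trans ht.symm))

end aux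

/-- For the Suzuki group Sz(q), q = 2^(2m+1) ≥ 8, realised as the elements g of Sp₄(F) with g* = g^θ (θ the 2^(m+1)-th power map, so that θ² is squaring): `|Sz(q)| = q² (q - 1) (q² + 1)`, and there is a Sylow 2-subgroup `S` whose normaliser `H` has order `q²(q-1)` and index `q² + 1`, the action of `Sz(q)` on the cosets of `H` is doubly transitive, and `S` acts regularly on the cosets other than `H` itself. -/
theorem result {F : Type*} [Field F] [Fintype F] {m : ℕ} (hm : 1 ≤ m) (hF : Fintype.card F = 2 ^ (2 * m + 1)) :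
    Nat.card ↥(Cfsg.Lie.Sz F (2 ^ (m + 1))) = (2 ^ (2 * m + 1)) ^ 2 * (2 ^ (2 * m + 1) - 1) * ((2 ^ (2 * m + 1)) ^ 2 + 1) ∧
    ∃ S : Sylow 2 ↥(Cfsg.Lie.Sz F (2 ^ (m + 1))),
      Nat.card (Subgroup.normalizer ((S : Subgroup ↥(Cfsg.Lie.Sz F (2 ^ (m + 1)))) : Set ↥(Cfsg.Lie.Sz F (2 ^ (m + 1))))) = (2 ^ (2 * m + 1)) ^ 2 * (2 ^ (2 * m + 1) - 1) ∧
      (Subgroup.normalizer ((S : Subgroup ↥(Cfsg.Lie.Sz F (2 ^ (m + 1)))) : Set ↥(Cfsg.Lie.Sz F (2 ^ (m + 1))))).index = (2 ^ (2 * m + 1)) ^ 2 + 1 ∧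
      MulAction.IsMultiplyPretransitive ↥(Cfsg.Lie.Sz F (2 ^ (m + 1))) (↥(Cfsg.Lie.Sz F (2 ^ (m + 1))) ⧸ Subgroup.normalizer ((S : Subgroup ↥(Cfsg.Lie.Sz F (2 ^ (m + 1)))) : Set ↥(Cfsg.Lie.Sz F (2 ^ (m + 1))))) 2 ∧
      ∀ x y : ↥(Cfsg.Lie.Sz F (2 ^ (m + 1))) ⧸ Subgroup.normalizer ((S : Subgroup ↥(Cfsg.Lie.Sz F (2 ^ (m + 1)))) : Set ↥(Cfsg.Lie.Sz F (2 ^ (m + 1)))),
        x ≠ (QuotientGroup.mk 1) → y ≠ (QuotientGroup.mk 1) → ∃! s : ↥(S : Subgroup ↥(Cfsg.Lie.Sz F (2 ^ (m + 1)))), (s : ↥(Cfsg.Lie.Sz F (2 ^ (m + 1)))) • x = y := by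
  exact Cfsg.Agent.S1163.main ⟨hm, hF⟩

end Cfsg.Agent.S1163
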