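import Cfsg.Statements.S1164
import Cfsg.Agent.Lib.CurtisTits.PresIso
import Cfsg.Agent.Lib.CurtisTits.D4Check
import Cfsg.Agent.Lib.CurtisTits.D4PresCheck
import Cfsg.Agent.Lib.CurtisTits.F4Check
import Cfsg.Agent.Lib.CurtisTits.F4PresCheck
import Cfsg.Agent.Lib.CurtisTits.E6Check
import Cfsg.Agent.Lib.CurtisTits.E6PresCheck
import Cfsg.Agent.Lib.CurtisTits.E7Check
import Cfsg.Agent.Lib.CurtisTits.E7PresCheck
import Cfsg.Agent.Lib.CurtisTits.E8Check
import Cfsg.Agent.Lib.CurtisTits.E8PresCheck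
import Cfsg.Agent.Lib.Chev.All

set_option autoImplicit false
open Cfsg

namespace Cfsg.Agent.S1164

open Cfsg.Lie Cfsg.Agent.Lib.Chev Cfsg.Agent.Lib.CurtisTits in
theorem exists_cert {D : Cfsg.Lie.ChevalleyDatum}
    (hD : D ∈ [chevD4, chevF4, chevE6, chevE7, chevE8]) :
    ∃ C : Cert, ∃ T : CTCert, ∃ P : PresCert, ∃ hh : Rooted D C, PCert hh T P := by
  simp only [List.mem_cons, List.not_mem_nil, or_false] at hD
  rcases hD with rfl | rfl | rfl | rfl | rfl
  exacts [⟨_, _, _, ⟨checked_D4, descent_D4⟩, Cfsg.Agent.Lib.CurtisTits.D4.checked, Cfsg.Agent.Lib.CurtisTits.D4.presChecked⟩,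
    ⟨_, _, _, ⟨checked_F4, descent_F4⟩, Cfsg.Agent.Lib.CurtisTits.F4.checked, Cfsg.Agent.Lib.CurtisTits.F4.presChecked⟩,
    ⟨_, _, _, ⟨checked_E6, descent_E6⟩, Cfsg.Agent.Lib.CurtisTits.E6.checked, Cfsg.Agent.Lib.CurtisTits.E6.presChecked⟩,
    ⟨_, _, _, ⟨checked_E7, descent_E7⟩, Cfsg.Agent.Lib.CurtisTits.E7.checked, Cfsg.Agent.Lib.CurtisTits.E7.presChecked⟩,
    ⟨_, _, _, ⟨checked_E8, descent_E8⟩, Cfsg.Agent.Lib.CurtisTits.E8.checked, Cfsg.Agent.Lib.CurtisTits.E8.presChecked⟩]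

/-- Curtis–Tits: for the Chevalley datum of type D₄, F₄, E₆, E₇ or E₈ and a field `K` with at least four elements, there is an isomorphism from the group presented by the Curtis–Tits relators (additivity, the commutator relators and the `h̄`-relators only for roots inside a common rank-two subsystem spanned by two fundamental roots, all other generators killed) onto the group of Steinberg's presentation, sending each generator `x̄_r(t)` with `r` in such a subsystem to `x̄_r(t)`. -/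
theorem result (D : Cfsg.Lie.ChevalleyDatum)
    (hD : D ∈ [Cfsg.Lie.chevD4, Cfsg.Lie.chevF4, Cfsg.Lie.chevE6, Cfsg.Lie.chevE7, Cfsg.Lie.chevE8])
    (K : Type*) [Field K] [Fintype K] (hK : 4 ≤ Fintype.card K) :
    ∃ e : D.CurtisTitsGroup K ≃* D.SteinbergGroup K,
      ∀ (i j r : ℕ) (t : K), D.InRankTwoSub i j r →
        e (PresentedGroup.mk (D.curtisTitsRels K) (D.stX r t)) = D.stGen K r t := by
  obtain ⟨C, T, P, hh, hK'⟩ := exists_cert hD
  exact Cfsg.Agent.Lib.CurtisTits.Rel.exists_equiv hh hK'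

end Cfsg.Agent.S1164
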