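import Cfsg.Statements.S1167
import Mathlib
import Cfsg.Agent.Lib.RankOne.Inverted
import Cfsg.Agent.Lib.Zassenhaus.OddDegree
import Cfsg.Agent.Lib.Zassenhaus.SimpleOdd
import Cfsg.Agent.Lib.Perm.Feit

set_option autoImplicit false
open Cfsg

namespace Cfsg.Agent.S1167

/-- Let `G` be a finite simple Zassenhaus group on `Ω`, `U` a normal subgroup of `G_a` regular on `Ω` minus `a` which is an abelian 2-group, and `v` an involution with `v • a ≠ a`. Then there is a unique `u₀ ∈ U`, `u₀ ≠ 1`, with `v u₀ v = u₀ v u₀`. -/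
theorem result {G Ω : Type*} [Group G] [Finite G] [MulAction G Ω] [Finite Ω]
    (hZ : Cfsg.IsZassenhausGroup G Ω) [IsSimpleGroup G] {a : Ω}
    (U : Subgroup G) (hUle : U ≤ MulAction.stabilizer G a)
    (hUn : ∀ h ∈ MulAction.stabilizer G a, ∀ u ∈ U, h * u * h⁻¹ ∈ U)
    (hreg : ∀ c d : Ω, c ≠ a → d ≠ a → ∃! u : U, (u : G) • c = d)
    (hU2 : IsPGroup 2 U) (hUab : ∀ u ∈ U, ∀ u' ∈ U, u * u' = u' * u)
    (v : G) (hv1 : v ≠ 1) (hv2 : v * v = 1) (hva : v • a ≠ a) :
    ∃! u₀ : G, u₀ ∈ U ∧ u₀ ≠ 1 ∧ v * u₀ * v = u₀ * v * u₀ := by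
  classical
  have hZ' : Cfsg.IsZassenhausGroup G Ω := hZ
  obtain ⟨hfaith, h2t, h3, -, -⟩ := hZ
  haveI := hfaith
  haveI : Fintype Ω := Fintype.ofFinite Ω
  have hinfU : ∀ {c : Ω}, c ≠ a → ∀ u ∈ U, u • c = c → u = 1 := by
    intro c hc u hu huc
    have := (hreg c c hc hc).unique (y₁ := ⟨u, hu⟩) (y₂ := 1) huc (one_smul G c)
    exact congrArg Subtype.val this
  have hU1 : Nat.card U + 1 = Nat.card Ω := by
    let e : U → {c : Ω // c ≠ a} := fun u => ⟨(u : G) • v • a, fun h => hva
      (MulAction.injective (u : G) (h.trans (hUle u.2).symm))⟩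
    have he : Function.Bijective e := by
      refine ⟨fun x y h => ?_, fun c => ?_⟩
      · have h' : (x : G) • v • a = (y : G) • v • a := congrArg Subtype.val h
        exact (hreg (v • a) ((y : G) • v • a) hva (fun hy => hva
          (MulAction.injective (y : G) (hy.trans (hUle y.2).symm)))).unique h' rfl
      · obtain ⟨u, hu, -⟩ := hreg (v • a) c.1 hva c.2
        exact ⟨u, Subtype.ext hu⟩
    rw [Nat.card_congr (Equiv.ofBijective e he), Nat.card_eq_fintype_card, Nat.card_eq_fintype_card,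
      Fintype.card_subtype_compl, Fintype.card_subtype_eq]
    have : 0 < Fintype.card Ω := Fintype.card_pos_iff.mpr ⟨a⟩
    omega
  obtain ⟨n, hn⟩ := IsPGroup.iff_card.mp hU2
  have h3Ω := Cfsg.Agent.Lib.Zassenhaus.SimpleOdd.three_le hZ'
  have hn0 : n ≠ 0 := by
    rintro rfl
    rw [hn, Nat.card_eq_fintype_card] at hU1
    omega
  have heven : Even (Nat.card U) := hn ▸ (Nat.even_pow.mpr ⟨even_two, hn0⟩)
  have hodd : Odd (Nat.card Ω) := hU1 ▸ heven.add_one
  have hDodd := Cfsg.Agent.Lib.Zassenhaus.card_stab_two_odd h3 hodd (Ne.symm hva)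
  have hS : Cfsg.IsRankOneSetup G Ω a v U :=
    { two_transitive := h2t
      mul_self := hv2
      ne_one := hv1
      not_mem := hva
      le := hUle
      conj_mem := hUn
      inf_eq_bot := by
        rw [eq_bot_iff]
        rintro u ⟨hu, hub⟩
        exact Subgroup.mem_bot.mpr (hinfU hva u hu hub)
      sup_eq := by
        refine le_antisymm (sup_le hUle inf_le_left) fun g hg => ?_
        have hgb : g • v • a ≠ a := fun h => hva
          (MulAction.injective g (h.trans (MulAction.mem_stabilizer_iff.mp hg).symm))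
        obtain ⟨u, hu, -⟩ := hreg (v • a) (g • v • a) hva hgb
        rw [show g = (u : G) * ((u : G)⁻¹ * g) by group]
        refine mul_mem (Subgroup.mem_sup_left u.2) (Subgroup.mem_sup_right ⟨?_, ?_⟩)
        · exact Subgroup.mul_mem _ (Subgroup.inv_mem _ (hUle u.2)) hg
        · show ((u : G)⁻¹ * g) • v • a = v • a
          rw [mul_smul, ← hu, inv_smul_smul]
      even_card := heven
      odd_card := hDodd }
  open Cfsg.Agent.Lib in
  have hswap : v • v • a = a := RankOne.t_smul_smul hS a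
  open Cfsg.Agent.Lib in
  have hinv := Zassenhaus.inverts_of_swap h3 hodd (Ne.symm hva) hv2 rfl hswap
  let V : Subgroup G :=
    { carrier := {x | x ∈ U ∧ x * x = 1}
      mul_mem' := fun {x y} hx hy => ⟨mul_mem hx.1 hy.1, by
        calc x * y * (x * y) = x * (y * x) * y := by group
          _ = x * x * (y * y) := by rw [hUab y hy.1 x hx.1]; group
          _ = 1 := by rw [hx.2, hy.2, one_mul]⟩
      one_mem' := ⟨one_mem U, one_mul 1⟩
      inv_mem' := fun {x} hx => ⟨inv_mem hx.1, by rw [← mul_inv_rev, hx.2, inv_one]⟩ }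
  have hVU : V ≤ U := fun x hx => hx.1
  open Cfsg.Agent.Lib in
  have hI : Nat.card (Cfsg.involutionsIn (MulAction.stabilizer G a : Set G)) + 1 = Nat.card V := by
    haveI : Fintype V := Fintype.ofFinite _
    have h1 : Nat.card {x : V // x ≠ 1} + 1 = Nat.card V := by
      rw [Nat.card_eq_fintype_card, Nat.card_eq_fintype_card, Fintype.card_subtype_compl,
        Fintype.card_subtype_eq]
      have : 0 < Fintype.card V := Fintype.card_pos_iff.mpr ⟨1⟩
      omega
    rw [← h1]
    congr 1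
    refine Nat.card_congr ⟨fun s => ⟨⟨s.1, RankOne.involution_mem_Q hS s.2.1 s.2.2.2, s.2.2.2⟩,
        fun h => s.2.2.1 (congrArg Subtype.val h)⟩,
      fun x => ⟨x.1.1, hUle x.1.2.1, fun h => x.2 (Subtype.ext h), x.1.2.2⟩,
      fun s => rfl, fun x => rfl⟩
  have hD : Nat.card ↥(MulAction.stabilizer G a ⊓ MulAction.stabilizer G (v • a)) + 1 = Nat.card V := by
    rw [← hI, ← Cfsg.Agent.Lib.RankOne.card_inverted hS]
    congr 1
    refine Nat.card_congr (Equiv.subtypeEquivRight fun h => ⟨fun hh => ?_, fun hh => hh.1⟩)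
    exact (Cfsg.Agent.Lib.RankOne.inverted_iff hS).mpr ⟨hh, (hinv h hh).1⟩
  have hd : 1 < Nat.card ↥(MulAction.stabilizer G a ⊓ MulAction.stabilizer G (v • a)) :=
    Subgroup.one_lt_card_iff_ne_bot _ |>.mpr (Cfsg.Agent.Lib.Zassenhaus.SimpleOdd.pair_ne_bot hZ' (Ne.symm hva))
  have hvv : v⁻¹ = v := inv_eq_of_mul_eq_one_right hv2
  haveI : Fintype G := Fintype.ofFinite G
  have hfeit := Cfsg.Agent.Lib.Perm.Feit.card_le_two_mul (T := U) (p := a) (o := v • a) h2t h3
    ⟨hUle, hUn, hUab, hreg⟩ hva hDodd hd (s := v) rfl hswap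
    (fun h hh => by rw [hvv]; exact (hinv h hh).1)
  have hUV : V = U := by
    refine Subgroup.eq_of_le_of_card_ge hVU ?_
    obtain ⟨j, hj⟩ := Subgroup.card_dvd_of_le hVU
    rw [← Nat.card_eq_fintype_card] at hfeit
    rcases Nat.lt_or_ge j 2 with h | h
    · rw [hj]
      calc Nat.card V * j ≤ Nat.card V * 1 := Nat.mul_le_mul_left _ (by omega)
        _ = Nat.card V := mul_one _
    · have : Nat.card V * 2 ≤ Nat.card V * j := Nat.mul_le_mul_left _ h
      omega
  have helem : ∀ u ∈ U, u * u = 1 := fun u hu => by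
    rw [← hUV] at hu
    exact hu.2
  obtain ⟨s, r, hs, hr, he⟩ := Cfsg.Agent.Lib.RankOne.exists_structure hS
  have hsU := Cfsg.Agent.Lib.RankOne.involution_mem_Q hS hs.1 hs.2.2
  have hri : r⁻¹ = r := inv_eq_of_mul_eq_one_right (helem r hr)
  rw [hri] at he
  have hsr : s = r := by
    have hrvs : r * v * s = s * v * r := by
      have h2 : v * r * v = r * v * s := by
        calc v * r * v = (r * r) * v * r * v := by rw [helem r hr, one_mul]
          _ = r * (r * v * r) * v := by group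
          _ = r * (v * s * v) * v := by rw [he]
          _ = r * v * s := by
            rw [show r * (v * s * v) * v = r * v * s * (v * v) by group, hv2, mul_one]
      calc r * v * s = (r * v * s)⁻¹ := by
            rw [← h2, mul_inv_rev, mul_inv_rev, hri, hvv, ← mul_assoc]
        _ = s * v * r := by
            rw [mul_inv_rev, mul_inv_rev, hri, hvv, inv_eq_of_mul_eq_one_right hs.2.2, ← mul_assoc]
    have e2 : s * 1 * v * r = r * 1 * v * s := by rw [mul_one, mul_one]; exact hrvs.symm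
    exact (Cfsg.Agent.Lib.RankOne.triple_unique hS hsU hr (one_mem _) (one_mem _) hr hsU e2).1
  subst hsr
  refine ⟨s, ⟨hr, hs.2.1, he⟩, fun u hu => ?_⟩
  exact (Cfsg.Agent.Lib.RankOne.structure_unique hS ⟨hUle hu.1, hu.2.1, helem u hu.1⟩ hu.1
    (by rw [inv_eq_of_mul_eq_one_right (helem u hu.1)]; exact hu.2.2) hs hr
    (by rw [hri]; exact he)).1

end Cfsg.Agent.S1167
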