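import Cfsg.Statements.S1168
import Mathlib
import Cfsg.Agent.Lib.FieldAut.Span

set_option autoImplicit false
open Cfsg

namespace Cfsg.Agent.S1168

/-- For a finite field `F` of characteristic 2: if `q : F → F` is quadratic over the prime field, i.e. `(x, y) ↦ q (x + y) + q x + q y` is additive in each variable, then `q x = Σ c_{σ,τ} σ(x) τ(x)` for some coefficients indexed by pairs of field automorphisms. -/
theorem result {F : Type*} [Field F] [Fintype F] [CharP F 2]
    (q : F → F)
    (hq : ∀ x y z : F, q (x + y + z) + q (x + y) + q (x + z) + q (y + z) + q x + q y + q z = 0) :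
    ∃ (s : Finset ((F ≃+* F) × (F ≃+* F))) (c : (F ≃+* F) × (F ≃+* F) → F),
      ∀ x : F, q x = ∑ p ∈ s, c p * (p.1 x * p.2 x) := by
  classical
  haveI : Finite (F ≃+* F) := Finite.of_injective _ DFunLike.coe_injective
  haveI : Fintype (F ≃+* F) := Fintype.ofFinite _
  haveI : Fact (Nat.Prime 2) := ⟨Nat.prime_two⟩
  letI : Algebra (ZMod 2) F := ZMod.algebra F 2
  have h0 : q 0 = 0 := by
    have h := hq 0 0 0
    simp only [add_zero, CharTwo.add_self_eq_zero, zero_add] at h
    exact h
  have hsmul : ∀ (a : ZMod 2) (x : F), a = 0 ∨ a = 1 := by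
    intro a _
    fin_cases a
    · exact Or.inl rfl
    · exact Or.inr rfl
  let Qm : QuadraticMap (ZMod 2) F F := QuadraticMap.ofPolar q
    (fun a x => by rcases hsmul a x with rfl | rfl <;> simp [h0])
    (fun x y z => by
      simp only [QuadraticMap.polar, CharTwo.sub_eq_add]
      have h := hq x y z
      linear_combination h - (q (x + z) + q (y + z) + q x + q y + q z) *
        (CharTwo.two_eq_zero (R := F)))
    (fun a x y => by rcases hsmul a x with rfl | rfl <;> simp [QuadraticMap.polar, h0])
  let b := Module.finBasis (ZMod 2) F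
  have hQ : ∀ x, q x = Qm.toBilin b x x := fun x => by
    rw [← LinearMap.BilinMap.toQuadraticMap_apply, QuadraticMap.toQuadraticMap_toBilin]
    rfl
  obtain ⟨c, hc⟩ := Cfsg.Agent.Lib.FieldAut.exists_coeff_biadditive 2
    (AddMonoidHom.mk' (fun x => (Qm.toBilin b x).toAddMonoidHom)
      (fun x y => by ext z; simp))
  exact ⟨Finset.univ, c, fun x => (hQ x).trans (hc x x)⟩

end Cfsg.Agent.S1168
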