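import Cfsg.Statements.S1176
import Mathlib
import Cfsg.Agent.Lib.Isolated.Basic

set_option autoImplicit false
open Cfsg
open scoped commutatorElement

namespace Cfsg.Agent.S1176

/-- Let x₀ be an involution of the finite group G and D its conjugacy class. Assume (a) for each x ∈ D the subgroup W(x) generated by the members of D commuting with x is a 2-group of nilpotency class at most 2, and (b) the product of two distinct commuting members of D again lies in D. Then for all x, y ∈ D, if xy has even order greater than 2, its order is 4. -/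
theorem result {G : Type*} [Group G] [Finite G] (x₀ : G) (hx₀ : orderOf x₀ = 2) (ha : ∀ x : G, IsConj x₀ x → IsPGroup 2 ↥(Subgroup.closure {y : G | IsConj x₀ y ∧ Commute y x}) ∧ ⁅⁅Subgroup.closure {y : G | IsConj x₀ y ∧ Commute y x}, Subgroup.closure {y : G | IsConj x₀ y ∧ Commute y x}⁆, Subgroup.closure {y : G | IsConj x₀ y ∧ Commute y x}⁆ = ⊥) (hb : ∀ x y : G, IsConj x₀ x → IsConj x₀ y → x ≠ y → Commute x y → IsConj x₀ (x * y)) (x y : G) (hx : IsConj x₀ x) (hy : IsConj x₀ y) (heven : Even (orderOf (x * y))) (hgt : 2 < orderOf (x * y)) : orderOf (x * y) = 4 := by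
  have hxx : x * x = 1 := by
    obtain ⟨c, hc⟩ := isConj_iff.mp hx
    have ho : orderOf x = 2 := by
      rw [← hc, ← MulAut.conj_apply, MulEquiv.orderOf_eq, hx₀]
    have h := (orderOf_eq_prime_iff (p := 2)).mp ho
    simpa [sq] using h.1
  have hyy : y * y = 1 := by
    obtain ⟨c, hc⟩ := isConj_iff.mp hy
    have ho : orderOf y = 2 := by
      rw [← hc, ← MulAut.conj_apply, MulEquiv.orderOf_eq, hx₀]
    have h := (orderOf_eq_prime_iff (p := 2)).mp ho
    simpa [sq] using h.1
  obtain ⟨m, hm⟩ := heven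
  have hm2 : orderOf (x * y) = 2 * m := by omega
  obtain ⟨hwx, hk⟩ := Cfsg.Agent.Lib.Isolated.dihedral_even hxx hyy hm2
  set w := (x * y) ^ m with hw
  have hwy : Commute w y := by
    have h1 : Commute w (x * y) := (Commute.refl (x * y)).pow_left m
    have h2 := hwx.mul_right h1
    rwa [← mul_assoc, hxx, one_mul] at h2
  have hw1 : w ≠ 1 := pow_ne_one_of_lt_orderOf (by omega) (by omega)
  have hwxD : IsConj x₀ (w * x) := by
    rcases hk with ⟨k, hk⟩ | ⟨k, hk⟩
    · exact hx.trans (isConj_iff.mpr ⟨_, hk⟩)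
    · exact hy.trans (isConj_iff.mpr ⟨_, hk⟩)
  have hwD : IsConj x₀ w := by
    have h := hb (w * x) x hwxD hx (fun h => hw1 (mul_eq_right.mp h))
      (hwx.mul_left (Commute.refl x))
    rwa [mul_assoc, hxx, mul_one] at h
  obtain ⟨-, hcl⟩ := ha w hwD
  set W := Subgroup.closure {u : G | IsConj x₀ u ∧ Commute u w} with hW
  have hxW : x ∈ W := Subgroup.subset_closure ⟨hx, hwx.symm⟩
  have hyW : y ∈ W := Subgroup.subset_closure ⟨hy, hwy.symm⟩
  have h1 : ⁅x, y⁆ ∈ ⁅W, W⁆ := Subgroup.commutator_mem_commutator hxW hyW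
  have h2 := Subgroup.commutator_mem_commutator h1 hxW
  rw [hcl, Subgroup.mem_bot, commutatorElement_eq_one_iff_commute] at h2
  have hxi : x⁻¹ = x := inv_eq_of_mul_eq_one_right hxx
  have hyi : y⁻¹ = y := inv_eq_of_mul_eq_one_right hyy
  have hc : ⁅x, y⁆ = (x * y) ^ 2 := by
    rw [commutatorElement_def, hxi, hyi, sq, mul_assoc]
  rw [hc] at h2
  have hinv : x * (x * y) ^ 2 * x⁻¹ = ((x * y) ^ 2)⁻¹ := by
    rw [← conj_pow, ← inv_pow]
    congr 1
    rw [mul_inv_rev x y, hxi, hyi, ← mul_assoc x x y, hxx, one_mul]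
  rw [h2.symm.eq, mul_inv_cancel_right, eq_inv_iff_mul_eq_one, ← pow_add] at hinv
  have hdvd : orderOf (x * y) ∣ 4 := orderOf_dvd_of_pow_eq_one hinv
  have hle := Nat.le_of_dvd (by norm_num) hdvd
  omega

end Cfsg.Agent.S1176
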