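import Cfsg.Statements.S1177
import Mathlib


set_option autoImplicit false
open Cfsg

namespace Cfsg.Agent.S1177

/-- Let A be a nontrivial elementary abelian 2-subgroup of a finite group G which is a T.I. set (each conjugate of A meets A trivially or equals A) and which does not commute elementwise with any conjugate of A other than A itself. Then for every a ∈ A, a ≠ 1, every conjugate of A contained in C_G(a) is equal to A (A is weakly closed in C_G(a)). -/
theorem result {G : Type*} [Group G] [Finite G] (A : Subgroup G) (hA : Cfsg.IsElementaryAbelian 2 A) (hA1 : A ≠ ⊥) (hTI : ∀ g : G, A.map (MulAut.conj g).toMonoidHom ⊓ A = ⊥ ∨ A.map (MulAut.conj g).toMonoidHom = A) (hb : ∀ g : G, (∀ a ∈ A, ∀ b ∈ A.map (MulAut.conj g).toMonoidHom, a * b = b * a) → A.map (MulAut.conj g).toMonoidHom = A) (a : G) (ha : a ∈ A) (ha1 : a ≠ 1) (g : G) (hg : A.map (MulAut.conj g).toMonoidHom ≤ Subgroup.centralizer ({a} : Set G)) : A.map (MulAut.conj g).toMonoidHom = A :=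 by
  obtain ⟨hAc, hA2⟩ := hA
  have hAcm : ∀ x ∈ A, ∀ y ∈ A, x * y = y * x := fun x hx y hy =>
    Subtype.ext_iff.mp (hAc.is_comm.comm ⟨x, hx⟩ ⟨y, hy⟩)
  have hAi : ∀ x ∈ A, x⁻¹ = x := fun x hx =>
    inv_eq_of_mul_eq_one_right (by simpa [sq] using hA2 x hx)
  have hmem : ∀ (k u : G), u ∈ A.map (MulAut.conj k).toMonoidHom ↔ k⁻¹ * u * k ∈ A := by
    intro k u
    constructor
    · rintro ⟨v, hv, rfl⟩
      simpa [MulAut.conj_apply, mul_assoc] using hv
    · intro h
      exact ⟨_, h, by simp [MulAut.conj_apply, mul_assoc]⟩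
  set B := A.map (MulAut.conj g).toMonoidHom with hB
  have hBa : ∀ b ∈ B, b * a = a * b := fun b hb' =>
    Subgroup.mem_centralizer_singleton_iff.mp (hg hb')
  have hnorm : ∀ b ∈ B, ∀ x ∈ A, b * x * b⁻¹ ∈ A := by
    intro b hb' x hx
    have hab : a ∈ A.map (MulAut.conj b).toMonoidHom := by
      rw [hmem, mul_assoc, ← hBa b hb', inv_mul_cancel_left]
      exact ha
    rcases hTI b with h | h
    · exfalso
      have : a ∈ A.map (MulAut.conj b).toMonoidHom ⊓ A := ⟨hab, ha⟩
      rw [h] at this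
      exact ha1 (Subgroup.mem_bot.mp this)
    · rw [← h, hmem]
      simpa [mul_assoc] using hx
  rcases hTI g with hAB | hAB
  swap
  · exact hAB
  exfalso
  have hAB' : ∀ u, u ∈ A → u ∈ B → u = 1 := by
    intro u huA huB
    have : u ∈ B ⊓ A := ⟨huB, huA⟩
    rw [hAB] at this
    exact Subgroup.mem_bot.mp this
  -- an element of `A` normalising `B` centralises it
  have hcent : ∀ x ∈ A, (∀ c ∈ B, x * c * x⁻¹ ∈ B) → ∀ c ∈ B, Commute x c := by
    intro x hx hxB c hc
    have h1 : x * c * x⁻¹ * c⁻¹ = 1 := by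
      refine hAB' _ ?_ (B.mul_mem (hxB c hc) (B.inv_mem hc))
      have h2 : x * c * x⁻¹ * c⁻¹ = x * (c * x⁻¹ * c⁻¹) := by group
      rw [h2]
      exact A.mul_mem hx (hnorm c hc _ (A.inv_mem hx))
    exact mul_inv_eq_iff_eq_mul.mp (mul_inv_eq_one.mp h1)
  have hsemi : ∀ b ∈ B, b ≠ 1 → ∀ x ∈ A, Commute x b → ∀ c ∈ B, Commute x c := by
    intro b hb' hb1 x hx hxb
    refine hcent x hx fun c hc => ?_
    rw [hmem] at hb' hc ⊢
    rcases hTI (g⁻¹ * x * g) with h | h
    · exfalso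
      have h3 : g⁻¹ * b * g ∈ A.map (MulAut.conj (g⁻¹ * x * g)).toMonoidHom := by
        rw [hmem]
        have h4 : (g⁻¹ * x * g)⁻¹ * (g⁻¹ * b * g) * (g⁻¹ * x * g) = g⁻¹ * (x⁻¹ * (b * x)) * g := by
          group
        rw [h4, ← hxb.eq, inv_mul_cancel_left]
        exact hb'
      have h5 : g⁻¹ * b * g ∈ A.map (MulAut.conj (g⁻¹ * x * g)).toMonoidHom ⊓ A := ⟨h3, hb'⟩
      rw [h, Subgroup.mem_bot] at h5
      refine hb1 ?_
      calc b = g * (g⁻¹ * b * g) * g⁻¹ := by group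
        _ = 1 := by rw [h5]; group
    · rw [← h, hmem]
      have h4 : (g⁻¹ * x * g)⁻¹ * (g⁻¹ * (x * c * x⁻¹) * g) * (g⁻¹ * x * g) = g⁻¹ * c * g := by
        group
      rw [h4]
      exact hc
  -- `[x, b]` is centralised by `B`
  have hall : ∀ b ∈ B, ∀ x ∈ A, ∀ c ∈ B, Commute (x * (b * x * b⁻¹)) c := by
    intro b hb' x hx c hc
    rcases eq_or_ne b 1 with rfl | hb1
    · have : x * x = 1 := by simpa [sq] using hA2 x hx
      simp [this]
    refine hsemi b hb' hb1 _ (A.mul_mem hx (hnorm b hb' x hx)) ?_ c hc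
    have hbi : b⁻¹ = b := by
      obtain ⟨v, hv, rfl⟩ := hb'
      rw [← map_inv, hAi v hv]
    have h1 : b * b = 1 := inv_eq_iff_mul_eq_one.mp hbi
    rw [hbi]
    show x * (b * x * b) * b = b * (x * (b * x * b))
    calc x * (b * x * b) * b = x * b * x := by rw [mul_assoc, mul_assoc (b * x), h1, mul_one, mul_assoc]
      _ = b * ((b * x * b) * x) := by simp only [← mul_assoc, h1, one_mul]
      _ = b * (x * (b * x * b)) := by
          rw [hAcm x hx (b * x * b) (by simpa [hbi] using hnorm b hb' x hx)]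
  have hcomm : ∀ x ∈ A, ∀ c ∈ B, Commute x c := by
    intro x hx
    refine hcent x hx fun c hc => ?_
    have hBab : ∀ u ∈ B, ∀ v ∈ B, Commute u v := by
      rintro u ⟨p, hp, rfl⟩ v ⟨q, hq, rfl⟩
      show _ * _ = _ * _
      rw [← map_mul, ← map_mul, hAcm p hp q hq]
    have h := hb (g⁻¹ * x * g) ?_
    · rw [hmem, ← h, hmem]
      have h4 : (g⁻¹ * x * g)⁻¹ * (g⁻¹ * (x * c * x⁻¹) * g) * (g⁻¹ * x * g) = g⁻¹ * c * g := by
        group
      rw [h4]
      exact (hmem g c).mp hc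
    intro p hp q hq
    rw [hmem] at hq
    set u := g * ((g⁻¹ * x * g)⁻¹ * q * (g⁻¹ * x * g)) * g⁻¹ with hu'
    have hu : u ∈ B := by
      rw [hmem, hu']
      simpa [mul_assoc] using hq
    have hv : g * p * g⁻¹ ∈ B := by
      rw [hmem]
      simpa [mul_assoc] using hp
    have h6 : g * q * g⁻¹ = x * (u * x * u⁻¹) * u := by
      have e : g * q * g⁻¹ = x * u * x⁻¹ := by rw [hu']; group
      rw [e, hAi x hx]
      group
    have h7 : Commute (g * p * g⁻¹) (g * q * g⁻¹) := by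
      rw [h6]
      exact ((hall u hu x hx _ hv).symm).mul_right (hBab _ hv _ hu)
    exact (Commute.conj_iff g).mp h7
  have h := hb g fun p hp q hq => hcomm p hp q hq
  have hAbot : A = ⊥ := by
    have h' : B = A := h
    have h'' : B ⊓ A = ⊥ := hAB
    rwa [h', inf_idem] at h''
  exact hA1 hAbot

end Cfsg.Agent.S1177
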