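import Cfsg.Statements.S1178
import Mathlib


set_option autoImplicit false
open Cfsg

namespace Cfsg.Agent.S1178

/-- Let A be a subgroup of a Sylow 2-subgroup S of the finite group G which is weakly closed in S. If a conjugate g A g⁻¹ commutes elementwise with A, then g A g⁻¹ = A. -/
theorem result {G : Type*} [Group G] [Finite G] (S : Sylow 2 G) (A : Subgroup G) (hW : Cfsg.IsWeaklyClosed A (S : Subgroup G)) (g : G) (hc : ∀ a ∈ A, ∀ b ∈ A.map (MulAut.conj g).toMonoidHom, a * b = b * a) : A.map (MulAut.conj g).toMonoidHom = A := by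
  obtain ⟨hAS, hW⟩ := hW
  set B := A.map (MulAut.conj g).toMonoidHom with hB
  have hA : IsPGroup 2 A := S.isPGroup'.to_le hAS
  have hBp : IsPGroup 2 B := hA.map _
  have hnorm : A ≤ Subgroup.normalizer (B : Set G) := by
    intro a ha
    rw [Subgroup.mem_normalizer_iff]
    intro u
    constructor
    · intro hu
      rwa [hc a ha u hu, mul_inv_cancel_right]
    · intro hu
      have h1 := hc a ha _ hu
      have : u = a * u * a⁻¹ := by
        calc u = a⁻¹ * (a * u * a⁻¹) * a := by group
          _ = a⁻¹ * (a * (a * u * a⁻¹)) := by rw [mul_assoc, ← h1]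
          _ = _ := inv_mul_cancel_left _ _
      rwa [← this] at hu
  obtain ⟨T, hT⟩ := (hA.to_sup_of_normal_right' hBp hnorm).exists_le_sylow
  obtain ⟨t, ht⟩ := MulAction.exists_smul_eq G S T
  have key : ∀ k : G, A.map (MulAut.conj k).toMonoidHom ≤ (T : Subgroup G) →
      A.map (MulAut.conj k).toMonoidHom = A.map (MulAut.conj t).toMonoidHom := by
    intro k hk
    have hT' : (T : Subgroup G) = (S : Subgroup G).map (MulAut.conj t).toMonoidHom := by
      rw [← ht]; rfl
    have h1 : A.map (MulAut.conj (t⁻¹ * k)).toMonoidHom ≤ (S : Subgroup G) := by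
      rintro _ ⟨a, ha, rfl⟩
      have h2 := hk ⟨a, ha, rfl⟩
      rw [hT'] at h2
      obtain ⟨s, hs, hse⟩ := h2
      simp only [MulEquiv.coe_toMonoidHom, MulAut.conj_apply] at hse ⊢
      have : (t⁻¹ * k) * a * (t⁻¹ * k)⁻¹ = s := by
        calc _ = t⁻¹ * (k * a * k⁻¹) * t := by group
          _ = s := by rw [← hse]; group
      rwa [this]
    have h3 := congrArg (Subgroup.map (MulAut.conj t).toMonoidHom) (hW _ h1)
    rw [Subgroup.map_map] at h3
    rw [← h3]
    congr 1
    ext u
    simp [MulAut.conj_apply, mul_assoc]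
  have hA1 : A.map (MulAut.conj (1 : G)).toMonoidHom = A := by
    ext u
    simp
  rw [hB, key g (le_sup_right.trans hT), ← key 1 (by rw [hA1]; exact le_sup_left.trans hT), hA1]

end Cfsg.Agent.S1178
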