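import Cfsg.Statements.S1181
import Mathlib
import Cfsg.Agent.Lib.Isolated.Basic

set_option autoImplicit false
open Cfsg

namespace Cfsg.Agent.S1181

/-- Let z be an isolated involution of the finite group G and N a normal subgroup with z ∉ N. Then the centralizer of zN in G/N is the image of C_G(z), and zN is an isolated involution of G/N. -/
theorem result {G : Type*} [Group G] [Finite G] (z : G) (hz : Cfsg.IsIsolatedInvolution z) (N : Subgroup G) [N.Normal] (hzN : z ∉ N) : Subgroup.centralizer ({(QuotientGroup.mk z : G ⧸ N)} : Set (G ⧸ N)) = (Subgroup.centralizer ({z} : Set G)).map (QuotientGroup.mk' N) ∧ Cfsg.IsIsolatedInvolution (QuotientGroup.mk z : G ⧸ N) := by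
  have hconj : ∀ g : G, Commute (QuotientGroup.mk z : G ⧸ N) (QuotientGroup.mk (g * z * g⁻¹)) →
      (QuotientGroup.mk z : G ⧸ N) = QuotientGroup.mk (g * z * g⁻¹) := by
    intro g hc
    set a : G ⧸ N := QuotientGroup.mk z with ha
    set b : G ⧸ N := QuotientGroup.mk (g * z * g⁻¹) with hb
    have haa : a * a = 1 := by
      rw [ha, ← QuotientGroup.mk_mul, Cfsg.Agent.Lib.Isolated.mul_self hz, QuotientGroup.mk_one]
    have hbb : b * b = 1 := by
      rw [hb, ← QuotientGroup.mk_mul, Cfsg.Agent.Lib.Isolated.conj_mul_self hz g,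
        QuotientGroup.mk_one]
    have hodd : Odd (orderOf (a * b)) := by
      have h := Cfsg.Agent.Lib.Isolated.odd_orderOf_mul hz 1 g
      simp only [one_mul, inv_one, mul_one] at h
      refine h.of_dvd_nat ?_
      rw [ha, hb, ← QuotientGroup.mk_mul]
      exact orderOf_map_dvd (QuotientGroup.mk' N) _
    have h2 : orderOf (a * b) ∣ 2 :=
      orderOf_dvd_of_pow_eq_one (by rw [hc.mul_pow, sq, sq, haa, hbb, one_mul])
    rcases (Nat.dvd_prime Nat.prime_two).mp h2 with h3 | h3
    · rw [orderOf_eq_one_iff] at h3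
      exact (eq_inv_of_mul_eq_one_left h3).trans (inv_eq_of_mul_eq_one_right hbb)
    · rw [h3] at hodd
      exact absurd hodd (by decide)
  refine ⟨le_antisymm ?_ ?_, ?_, ?_⟩
  · intro q hq
    induction q using QuotientGroup.induction_on with
    | _ g =>
      rw [Subgroup.mem_centralizer_singleton_iff] at hq
      obtain ⟨k, hk⟩ := Cfsg.Agent.Lib.Isolated.exists_conj_pow hz g
      set c := (z * (g * z * g⁻¹)) ^ k with hc
      have hcN : c ∈ N := by
        apply N.pow_mem
        rw [← QuotientGroup.eq_one_iff, QuotientGroup.mk_mul, QuotientGroup.mk_mul,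
          QuotientGroup.mk_mul, hq, QuotientGroup.mk_inv, mul_inv_cancel_right,
          ← QuotientGroup.mk_mul, Cfsg.Agent.Lib.Isolated.mul_self hz, QuotientGroup.mk_one]
      refine ⟨c⁻¹ * g, ?_, ?_⟩
      · rw [SetLike.mem_coe, Subgroup.mem_centralizer_singleton_iff]
        refine mul_inv_eq_iff_eq_mul.mp ?_
        calc c⁻¹ * g * z * (c⁻¹ * g)⁻¹ = c⁻¹ * (g * z * g⁻¹) * c := by group
          _ = z := by rw [← hk]; group
      · rw [QuotientGroup.mk'_apply, QuotientGroup.mk_mul,
          (QuotientGroup.eq_one_iff _).mpr (N.inv_mem hcN), one_mul]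
  · rintro _ ⟨g, hg, rfl⟩
    rw [SetLike.mem_coe, Subgroup.mem_centralizer_singleton_iff] at hg
    rw [Subgroup.mem_centralizer_singleton_iff, QuotientGroup.mk'_apply, ← QuotientGroup.mk_mul,
      ← QuotientGroup.mk_mul, hg]
  · apply orderOf_eq_prime
    · rw [sq, ← QuotientGroup.mk_mul, Cfsg.Agent.Lib.Isolated.mul_self hz, QuotientGroup.mk_one]
    · rwa [ne_eq, QuotientGroup.eq_one_iff]
  · intro q hq
    induction q using QuotientGroup.induction_on with
    | _ g =>
      rw [← QuotientGroup.mk_mul, ← QuotientGroup.mk_inv, ← QuotientGroup.mk_mul] at hq ⊢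
      exact (hconj g hq).symm

end Cfsg.Agent.S1181
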