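import Cfsg.Statements.S1183
import Mathlib
import Cfsg.Agent.Lib.Isolated.Basic

set_option autoImplicit false
open Cfsg
open scoped commutatorElement

namespace Cfsg.Agent.S1183

/-- Let z be an isolated involution of the finite group G and C = C_G(z). Then the subgroup of G generated by its elements of odd order is all of G if and only if the subgroup of C generated by its elements of odd order is all of C. -/
theorem result {G : Type*} [Group G] [Finite G] (z : G) (hz : Cfsg.IsIsolatedInvolution z) : Cfsg.pResidual 2 G = ⊤ ↔ Cfsg.pResidual 2 ↥(Subgroup.centralizer ({z} : Set G)) = ⊤ := by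
  set C := Subgroup.centralizer ({z} : Set G) with hC
  have hCz : z ∈ C := Subgroup.mem_centralizer_singleton_iff.mpr rfl
  constructor
  swap
  · intro h
    set N := Cfsg.pResidual 2 G with hN
    have hCN : C ≤ N := by
      intro c hc
      have hmem : (⟨c, hc⟩ : C) ∈ Cfsg.pResidual 2 C := h ▸ Subgroup.mem_top _
      unfold Cfsg.pResidual at hmem
      have h2 := Subgroup.mem_map_of_mem C.subtype hmem
      rw [MonoidHom.map_closure] at h2
      rw [hN]
      unfold Cfsg.pResidual
      refine Subgroup.closure_mono ?_ h2
      rintro _ ⟨u, hu, rfl⟩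
      simpa using hu
    have hnormal : N.Normal := by
      rw [hN]
      unfold Cfsg.pResidual
      have h0 : (Subgroup.closure {g : G | Nat.Coprime (orderOf g) 2}) =
          Subgroup.normalClosure {g : G | Nat.Coprime (orderOf g) 2} := by
        refine le_antisymm Subgroup.closure_le_normalClosure ?_
        refine Subgroup.closure_mono ?_
        intro u hu
        rw [Group.mem_conjugatesOfSet_iff] at hu
        obtain ⟨v, hv, hvu⟩ := hu
        show Nat.Coprime (orderOf u) 2
        obtain ⟨c, hc⟩ := isConj_iff.mp hvu
        rw [← hc, ← MulAut.conj_apply, MulEquiv.orderOf_eq]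
        exact hv
      rw [h0]
      infer_instance
    rw [eq_top_iff]
    intro g _
    obtain ⟨k, hkN, hk⟩ := Cfsg.Agent.Lib.Isolated.exists_conj_mem hz N (hCN hCz) g
      (hnormal.conj_mem _ (hCN hCz) g)
    have hkg : k⁻¹ * g ∈ C := by
      rw [hC, Subgroup.mem_centralizer_singleton_iff]
      refine mul_inv_eq_iff_eq_mul.mp ?_
      calc k⁻¹ * g * z * (k⁻¹ * g)⁻¹ = k⁻¹ * (g * z * g⁻¹) * k := by group
        _ = z := by rw [← hk]; group
    simpa using N.mul_mem hkN (hCN hkg)
  · intro h
    by_contra hne
    -- a Sylow 2-subgroup of `G` inside `C`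
    obtain ⟨P, hP⟩ := (IsPGroup.iff_card.mpr ⟨1, by rw [Nat.card_zpowers, hz.1, pow_one]⟩ :
      IsPGroup 2 (Subgroup.zpowers z)).exists_le_sylow
    have hPC : (P : Subgroup G) ≤ C := fun s hs => Subgroup.mem_centralizer_singleton_iff.mpr
      (Cfsg.Agent.Lib.Isolated.central_of_isPGroup hz P.isPGroup'
        (hP (Subgroup.mem_zpowers z)) s hs).eq
    set R := Cfsg.pResidual 2 C with hR
    have hRn : R.Normal := by
      rw [hR]
      unfold Cfsg.pResidual
      have h0 : (Subgroup.closure {g : C | Nat.Coprime (orderOf g) 2}) =
          Subgroup.normalClosure {g : C | Nat.Coprime (orderOf g) 2} := by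
        refine le_antisymm Subgroup.closure_le_normalClosure ?_
        refine Subgroup.closure_mono ?_
        intro u hu
        rw [Group.mem_conjugatesOfSet_iff] at hu
        obtain ⟨v, hv, hvu⟩ := hu
        show Nat.Coprime (orderOf u) 2
        obtain ⟨c, hc⟩ := isConj_iff.mp hvu
        rw [← hc, ← MulAut.conj_apply, MulEquiv.orderOf_eq]
        exact hv
      rw [h0]
      infer_instance
    have hQ : IsPGroup 2 (C ⧸ R) := by
      intro q
      induction q using QuotientGroup.induction_on with
      | _ c =>
        obtain ⟨k, m, hm, he⟩ := Nat.exists_eq_two_pow_mul_odd (orderOf_pos c).ne'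
        refine ⟨k, ?_⟩
        rw [← QuotientGroup.mk_pow, QuotientGroup.eq_one_iff, hR]
        refine Subgroup.subset_closure ?_
        show Nat.Coprime (orderOf (c ^ 2 ^ k)) 2
        rw [orderOf_pow_of_dvd (by positivity) (Dvd.intro m he.symm), he,
          Nat.mul_div_cancel_left _ (by positivity)]
        exact Nat.coprime_two_right.mpr hm
    have hnilQ : Group.IsNilpotent (C ⧸ R) := hQ.isNilpotent
    have hnt : Nontrivial (C ⧸ R) := QuotientGroup.nontrivial_iff.mpr hne
    set ψ : C →* Abelianization (C ⧸ R) := Abelianization.of.comp (QuotientGroup.mk' R) with hψ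
    have hψsurj : Function.Surjective ψ :=
      (QuotientGroup.mk'_surjective (commutator (C ⧸ R))).comp (QuotientGroup.mk'_surjective R)
    -- `G` has no nontrivial 2-power abelian quotient
    have hP' : (P : Subgroup G) ≤ commutator G := by
      intro s hs
      have hodd : Odd (Nat.card (G ⧸ commutator G)) := by
        rw [← Nat.not_even_iff_odd, even_iff_two_dvd]
        intro h2
        have : Fact (Nat.Prime 2) := ⟨Nat.prime_two⟩
        -- all elements of the abelian quotient have odd order
        obtain ⟨q, hq⟩ := exists_prime_orderOf_dvd_card' (G := Abelianization G) 2 h2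
        have hall : ∀ x : G, Odd (orderOf (Abelianization.of x)) := by
          intro x
          have hx : x ∈ Cfsg.pResidual 2 G := h ▸ Subgroup.mem_top x
          unfold Cfsg.pResidual at hx
          induction hx using Subgroup.closure_induction with
          | mem u hu =>
            exact (Nat.coprime_two_right.mp hu).of_dvd_nat (orderOf_map_dvd _ _)
          | one => simp
          | mul u v _ _ hu hv =>
            rw [map_mul]
            exact (hu.mul hv).of_dvd_nat
              ((Commute.all _ _).orderOf_mul_dvd_mul_orderOf)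
          | inv u _ hu => rwa [map_inv, orderOf_inv]
        obtain ⟨x, rfl⟩ := QuotientGroup.mk'_surjective (commutator G) q
        have := hall x
        change Odd (orderOf (QuotientGroup.mk' (commutator G) x)) at this
        rw [show orderOf (QuotientGroup.mk' (commutator G) x) = 2 from hq] at this
        exact absurd this (by decide)
      obtain ⟨k, hk⟩ := P.isPGroup' ⟨s, hs⟩
      have hk' : s ^ 2 ^ k = 1 := congrArg Subtype.val hk
      rw [← QuotientGroup.eq_one_iff, ← orderOf_eq_one_iff]
      refine Nat.eq_one_of_dvd_coprimes (a := 2 ^ k) (b := Nat.card (G ⧸ commutator G))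
        ((Nat.coprime_two_left.mpr hodd).pow_left k) ?_ (orderOf_dvd_natCard _)
      apply orderOf_dvd_of_pow_eq_one
      rw [← QuotientGroup.mk_pow, hk', QuotientGroup.mk_one]
    -- fusion in `P` is controlled by `C`
    have hker : ∀ u : C, (u : G) ∈ Subgroup.focalSubgroup (P : Subgroup G) → ψ u = 1 := by
      intro u hu
      have : Subgroup.focalSubgroup (P : Subgroup G) ≤ ψ.ker.map C.subtype := by
        rw [Subgroup.focalSubgroup_def, Subgroup.closure_le]
        rintro w ⟨hwP, x, hx, t, rfl⟩
        have hy : t * x⁻¹ * t⁻¹ ∈ (P : Subgroup G) := by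
          have h' := mul_mem (inv_mem hx) hwP
          have e : x⁻¹ * ⁅x, t⁆ = t * x⁻¹ * t⁻¹ := by rw [commutatorElement_def]; group
          rwa [e] at h'
        obtain ⟨c, -, hcz, hcx⟩ := Cfsg.Agent.Lib.Isolated.exists_conj_commute hz (H := ⊤)
          (fun _ _ => Subgroup.mem_top _)
          (Subgroup.mem_centralizer_singleton_iff.mp (hPC (inv_mem hx)))
          (Subgroup.mem_centralizer_singleton_iff.mp (hPC hy)) (h := t) (Subgroup.mem_top _) rfl
        refine ⟨⁅(⟨x, hPC hx⟩ : C), ⟨c, Subgroup.mem_centralizer_singleton_iff.mpr hcz.eq⟩⁆, ?_, ?_⟩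
        · rw [SetLike.mem_coe, MonoidHom.mem_ker, map_commutatorElement,
            commutatorElement_eq_one_iff_commute]
          exact Commute.all _ _
        · rw [map_commutatorElement]
          show ⁅x, c⁆ = ⁅x, t⁆
          rw [commutatorElement_def, commutatorElement_def, mul_assoc (x * c), mul_assoc (x * t),
            mul_assoc x c, mul_assoc x t, ← mul_assoc c, ← mul_assoc t, hcx]
      obtain ⟨v, hv, hvu⟩ := this hu
      have : v = u := Subtype.ext hvu
      rwa [← this]
    have hPker : ∀ u : C, (u : G) ∈ (P : Subgroup G) → ψ u = 1 := fun u hu => hker u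
      ((Subgroup.commutator_inf_eq_focalSubgroup P) ▸ (⟨hP' hu, hu⟩ : (u : G) ∈ commutator G ⊓ (P : Subgroup G)))
    -- the kernel of `ψ` has odd index, and index a power of two
    have hone : Nat.card (Abelianization (C ⧸ R)) = 1 := by
      have hidx : Nat.card (Abelianization (C ⧸ R)) = ψ.ker.index := by
        rw [Subgroup.index_ker, MonoidHom.range_eq_top.mpr hψsurj, Subgroup.card_top]
      obtain ⟨k, hk⟩ := IsPGroup.iff_card.mp (hQ.of_surjective Abelianization.of
        (QuotientGroup.mk'_surjective (commutator (C ⧸ R))))
      have hodd : Odd ψ.ker.index := by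
        refine Odd.of_dvd_nat ?_ (Subgroup.index_dvd_of_le (H := (P : Subgroup G).subgroupOf C) hPker)
        rw [← Subgroup.relIndex]
        refine Odd.of_dvd_nat ?_ (Subgroup.relIndex_dvd_index_of_le hPC)
        exact Nat.odd_iff.mpr (Nat.two_dvd_ne_zero.mp P.not_dvd_index)
      rw [hidx]
      rw [← hidx, hk] at hodd
      rcases Nat.eq_zero_or_pos k with rfl | hk0
      · rw [← hidx, hk, pow_zero]
      · exact absurd hodd (Nat.not_odd_iff_even.mpr ((Nat.even_pow).mpr ⟨even_two, hk0.ne'⟩))
    have hsub : Subsingleton (Abelianization (C ⧸ R)) := (Nat.card_eq_one_iff_unique.mp hone).1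
    have : commutator (C ⧸ R) = ⊤ := QuotientGroup.subsingleton_iff.mp hsub
    have hsol : Group.IsSolvable (C ⧸ R) := inferInstance
    exact (Group.IsSolvable.commutator_lt_top_of_nontrivial (C ⧸ R)).ne this

end Cfsg.Agent.S1183
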