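import Cfsg.Statements.S1186
import Mathlib
import Cfsg.Agent.Lib.Isolated.Basic

set_option autoImplicit false
open Cfsg

namespace Cfsg.Agent.S1186

/-- Let z be an isolated involution of the finite group G, C = C_G(z), K the set of elements of odd order inverted by z, and s an involution of C. Then |G| = |C| · |C_K(sz)| · |C_K(s)|. -/
theorem result {G : Type*} [Group G] [Finite G] (z : G) (hz : Cfsg.IsIsolatedInvolution z) (s : G) (hs : orderOf s = 2) (hsz : Commute s z) : Nat.card G = Nat.card (Subgroup.centralizer ({z} : Set G)) * Nat.card {k : G // Odd (orderOf k) ∧ z * k * z⁻¹ = k⁻¹ ∧ Commute k (s * z)} * Nat.card {k : G // Odd (orderOf k) ∧ z * k * z⁻¹ = k⁻¹ ∧ Commute k s} := by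
  have hzz := Cfsg.Agent.Lib.Isolated.mul_self hz
  have hzi : z⁻¹ = z := inv_eq_of_mul_eq_one_right hzz
  have hss : s * s = 1 := by
    rw [← sq]
    exact orderOf_dvd_iff_pow_eq_one.mp hs.dvd
  have hsi : s⁻¹ = s := inv_eq_of_mul_eq_one_right hss
  set C := Subgroup.centralizer ({z} : Set G) with hC
  let K := {k : G // Odd (orderOf k) ∧ z * k * z⁻¹ = k⁻¹}
  let D := {d : G // ∃ g : G, g * z * g⁻¹ = d}
  -- `K ≃ G ⧸ C`
  have hbij : Function.Bijective (fun k : K => (QuotientGroup.mk k.1 : G ⧸ C)) := by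
    constructor
    · intro k k' h
      obtain ⟨r, -, hr⟩ := Cfsg.Agent.Lib.Isolated.existsUnique_rep hz k.1
      refine Subtype.ext ((hr k.1 ⟨k.2, ?_⟩).trans (hr k'.1 ⟨k'.2, QuotientGroup.eq.mp h⟩).symm)
      simp [Subgroup.one_mem]
    · intro q
      induction q using QuotientGroup.induction_on with
      | _ g =>
        obtain ⟨r, ⟨hr, hr'⟩, -⟩ := Cfsg.Agent.Lib.Isolated.existsUnique_rep hz g
        exact ⟨⟨r, hr⟩, (QuotientGroup.eq.mpr hr').symm⟩
  have hG : Nat.card G = Nat.card C * Nat.card K := by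
    rw [Nat.card_eq_of_bijective _ hbij, ← Subgroup.index_eq_card, Subgroup.card_mul_index]
  let e : K → D := fun k => ⟨k.1 * z * k.1⁻¹, k.1, rfl⟩
  have he : Function.Bijective e := by
    constructor
    · intro k k' h
      have h' : k.1 * z * k.1⁻¹ = k'.1 * z * k'.1⁻¹ := congrArg Subtype.val h
      apply hbij.1
      show (QuotientGroup.mk k.1 : G ⧸ C) = QuotientGroup.mk k'.1
      rw [QuotientGroup.eq, hC, Subgroup.mem_centralizer_singleton_iff]
      refine mul_inv_eq_iff_eq_mul.mp ?_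
      calc k.1⁻¹ * k'.1 * z * (k.1⁻¹ * k'.1)⁻¹ = k.1⁻¹ * (k'.1 * z * k'.1⁻¹) * k.1 := by group
        _ = z := by rw [← h']; group
    · rintro ⟨d, g, rfl⟩
      obtain ⟨r, ⟨hr, hr'⟩, -⟩ := Cfsg.Agent.Lib.Isolated.existsUnique_rep hz g
      refine ⟨⟨r, hr⟩, Subtype.ext ?_⟩
      rw [Subgroup.mem_centralizer_singleton_iff] at hr'
      calc r * z * r⁻¹ = g * ((g⁻¹ * r) * z) * r⁻¹ := by group
        _ = g * (z * (g⁻¹ * r)) * r⁻¹ := by rw [hr']
        _ = g * z * g⁻¹ := by group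
  -- fixed points correspond
  have hfix : ∀ t : G, Commute t z → ∀ k : K, (Commute k.1 t ↔ Commute (e k).1 t) := by
    intro t htz k
    constructor
    · intro hkt
      exact (hkt.mul_left htz.symm).mul_left hkt.inv_left
    · intro hdt
      have htk : Odd (orderOf (t * k.1 * t⁻¹)) ∧
          z * (t * k.1 * t⁻¹) * z⁻¹ = (t * k.1 * t⁻¹)⁻¹ := by
        constructor
        · have h := (MulAut.conj t).orderOf_eq k.1
          rw [MulAut.conj_apply] at h
          rw [h]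
          exact k.2.1
        · have e1 : z * (t * k.1 * t⁻¹) * z⁻¹ = (z * t) * k.1 * (z * t)⁻¹ := by group
          have e2 : (t * z) * k.1 * (t * z)⁻¹ = t * (z * k.1 * z⁻¹) * t⁻¹ := by group
          rw [e1, ← htz.eq, e2, k.2.2]
          group
      have h1 : e ⟨t * k.1 * t⁻¹, htk⟩ = e k := by
        apply Subtype.ext
        show t * k.1 * t⁻¹ * z * (t * k.1 * t⁻¹)⁻¹ = k.1 * z * k.1⁻¹
        have e1 : t * k.1 * t⁻¹ * z * (t * k.1 * t⁻¹)⁻¹ =
            t * (k.1 * (t⁻¹ * z * t) * k.1⁻¹) * t⁻¹ := by group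
        have e2 : t⁻¹ * z * t = z := by rw [mul_assoc, ← htz.eq, inv_mul_cancel_left]
        have e3 : Commute (k.1 * z * k.1⁻¹) t := hdt
        rw [e1, e2, ← e3.eq, mul_inv_cancel_right]
      have h2 : t * k.1 * t⁻¹ = k.1 := congrArg Subtype.val (he.1 h1)
      exact (mul_inv_eq_iff_eq_mul.mp h2).symm
  have hcard : ∀ t : G, Commute t z →
      Nat.card {k : G // Odd (orderOf k) ∧ z * k * z⁻¹ = k⁻¹ ∧ Commute k t} =
        Nat.card {d : D // Commute d.1 t} := by
    intro t htz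
    calc Nat.card {k : G // Odd (orderOf k) ∧ z * k * z⁻¹ = k⁻¹ ∧ Commute k t}
        = Nat.card {k : K // Commute k.1 t} :=
          Nat.card_congr ((Equiv.subtypeSubtypeEquivSubtypeInter _ _).trans
            (Equiv.subtypeEquivRight fun k => and_assoc)).symm
      _ = Nat.card {d : D // Commute d.1 t} :=
          Nat.card_congr ((Equiv.ofBijective e he).subtypeEquiv (hfix t htz))
  rw [hG, hcard s hsz, hcard (s * z) (hsz.mul_left (Commute.refl z)), Nat.card_eq_of_bijective e he,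
    mul_assoc]
  congr 1
  rw [← Nat.card_prod]
  -- choose, for each fixed conjugate, a conjugating element centralising `s`
  have hsel : ∀ m : {d : D // Commute d.1 s},
      ∃ h : G, Commute h s ∧ h * z * h⁻¹ = m.1.1 := by
    rintro ⟨⟨_, g, rfl⟩, hm⟩
    obtain ⟨h, hh, hh'⟩ := Cfsg.Agent.Lib.Isolated.exists_conj_mem hz
      (Subgroup.centralizer ({s} : Set G)) (Subgroup.mem_centralizer_singleton_iff.mpr hsz.symm.eq)
      g (Subgroup.mem_centralizer_singleton_iff.mpr hm.eq)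
    exact ⟨h, Subgroup.mem_centralizer_singleton_iff.mp hh, hh'⟩
  choose hsel hsel₁ hsel₂ using hsel
  let Φ : {d : D // Commute d.1 (s * z)} × {d : D // Commute d.1 s} → D := fun p =>
    ⟨hsel p.2 * p.1.1.1 * (hsel p.2)⁻¹, by
      obtain ⟨g, hg⟩ := p.1.1.2
      exact ⟨hsel p.2 * g, by rw [← hg]; group⟩⟩
  symm
  refine Nat.card_eq_of_bijective Φ ⟨?_, ?_⟩
  · rintro ⟨⟨⟨x, hxD⟩, hx⟩, m⟩ ⟨⟨⟨x', hxD'⟩, hx'⟩, m'⟩ h
    have h' : hsel m * x * (hsel m)⁻¹ = hsel m' * x' * (hsel m')⁻¹ := congrArg Subtype.val h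
    set d := hsel m * x * (hsel m)⁻¹ with hd
    have key : ∀ (m : {d : D // Commute d.1 s}) (x : G), Commute x (s * z) →
        s * (hsel m * x * (hsel m)⁻¹) * s⁻¹ =
          m.1.1 * (hsel m * x * (hsel m)⁻¹) * m.1.1⁻¹ := by
      intro m x hx
      have e1 : m.1.1 * (hsel m * x * (hsel m)⁻¹) * m.1.1⁻¹ =
          hsel m * (z * x * z⁻¹) * (hsel m)⁻¹ := by rw [← hsel₂ m]; group
      have e2 : s * x * s⁻¹ = z * x * z⁻¹ := by
        calc s * x * s⁻¹ = s * (x * (s * z)) * (s * z)⁻¹ * s⁻¹ := by group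
          _ = (s * s) * z * x * z⁻¹ * (s * s)⁻¹ := by rw [hx.eq]; group
          _ = z * x * z⁻¹ := by rw [hss]; group
      rw [e1, ← e2]
      have e3 : s * (hsel m * x * (hsel m)⁻¹) * s⁻¹ = (s * hsel m) * x * (s * hsel m)⁻¹ := by group
      have e4 : hsel m * (s * x * s⁻¹) * (hsel m)⁻¹ = (hsel m * s) * x * (hsel m * s)⁻¹ := by group
      rw [e3, e4, (hsel₁ m).eq]
    have k1 := key m x hx
    have k2 := key m' x' hx'
    rw [← h'] at k2
    rw [← hd] at k1
    have hmm : m.1.1 = m'.1.1 := by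
      obtain ⟨g, hg⟩ := m.1.2
      obtain ⟨g', hg'⟩ := m'.1.2
      obtain ⟨t, ht⟩ := hxD
      have hdz : d = (hsel m * t) * z * (hsel m * t)⁻¹ := by rw [hd, ← ht]; group
      rw [← hg] at k1 ⊢
      rw [← hg'] at k2 ⊢
      refine (Cfsg.Agent.Lib.Isolated.mul_conj_eq_of_commute' hz g' g (hsel m * t) ?_).symm
      rw [← hdz]
      have h4 : (g' * z * g'⁻¹) * (g' * z * g'⁻¹) = 1 :=
        Cfsg.Agent.Lib.Isolated.conj_mul_self hz g'
      have h5 := k1.symm.trans k2
      have h6 := inv_eq_of_mul_eq_one_right h4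
      calc g' * z * g'⁻¹ * (g * z * g⁻¹) * d
          = g' * z * g'⁻¹ * (g * z * g⁻¹ * d * (g * z * g⁻¹)⁻¹) * (g * z * g⁻¹) := by group
        _ = (g' * z * g'⁻¹) * (g' * z * g'⁻¹) * d * (g' * z * g'⁻¹)⁻¹ * (g * z * g⁻¹) := by
            rw [h5]; group
        _ = d * (g' * z * g'⁻¹ * (g * z * g⁻¹)) := by rw [h4, one_mul, h6, mul_assoc]
    have hm' : m = m' := Subtype.ext (Subtype.ext hmm)
    subst hm'
    have : x = x' := mul_left_cancel (mul_right_cancel h')
    subst this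
    rfl
  · rintro ⟨d, g, hg⟩
    have hd2 : d * d = 1 := by rw [← hg]; exact Cfsg.Agent.Lib.Isolated.conj_mul_self hz g
    have hdi : d⁻¹ = d := inv_eq_of_mul_eq_one_right hd2
    set d' := s * d * s⁻¹ with hd'
    have hd'g : (s * g) * z * (s * g)⁻¹ = d' := by rw [hd', ← hg]; group
    have hd'2 : d' * d' = 1 := by rw [← hd'g]; exact Cfsg.Agent.Lib.Isolated.conj_mul_self hz _
    have hd'i : d'⁻¹ = d' := inv_eq_of_mul_eq_one_right hd'2
    have hodd : Odd (orderOf (d' * d)) := by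
      rw [← hd'g, ← hg]; exact Cfsg.Agent.Lib.Isolated.odd_orderOf_mul hz _ _
    obtain ⟨j, hj⟩ := Cfsg.Agent.Lib.Isolated.exists_sqrt hodd
    set c := (d' * d) ^ j with hc
    obtain ⟨i, hi⟩ := Cfsg.Agent.Lib.Isolated.exists_sqrt (hodd.of_dvd_nat (orderOf_pow_dvd j))
    rw [← hc] at hi
    have hinv : d * (d' * d) * d⁻¹ = (d' * d)⁻¹ := by
      rw [mul_inv_rev, hdi, hd'i, mul_assoc d, mul_assoc d', hd2, mul_one]
    have hcinv : d * c * d⁻¹ = c⁻¹ := by rw [hc, ← conj_pow, hinv, inv_pow]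
    have hvinv : d * c ^ i * d⁻¹ = (c ^ i)⁻¹ := by rw [← conj_pow, hcinv, inv_pow]
    set m := c * d with hm
    have hmD : m = (c ^ i * g) * z * (c ^ i * g)⁻¹ := by
      calc m = c ^ i * (c ^ i * d) := by rw [← mul_assoc, hi]
        _ = c ^ i * (d * (d * c ^ i * d⁻¹)) := by rw [hdi]; simp only [← mul_assoc, hd2, one_mul]
        _ = _ := by rw [hvinv, ← hg]; group
    have hmd : m * d * m⁻¹ = d' := by
      calc m * d * m⁻¹ = c * (d * d) * (d⁻¹ * c⁻¹) := by rw [hm]; group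
        _ = c * (d * c⁻¹) := by rw [hd2, hdi, mul_one]
        _ = c * (c * d) := by
            congr 1
            rw [← hcinv, hdi]
            simp only [← mul_assoc, hd2, one_mul]
        _ = d' := by rw [← mul_assoc, hj, mul_assoc, hd2, mul_one]
    have hms : Commute m s := by
      have h2 : (s * m * s⁻¹) * d' * (s * m * s⁻¹)⁻¹ = d := by
        calc (s * m * s⁻¹) * d' * (s * m * s⁻¹)⁻¹ = s * (m * d * m⁻¹) * s⁻¹ := by rw [hd']; group
          _ = (s * s) * d * (s * s)⁻¹ := by rw [hmd, hd']; group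
          _ = d := by rw [hss]; group
      have hm2 : m * m = 1 := by rw [hmD]; exact Cfsg.Agent.Lib.Isolated.conj_mul_self hz _
      have hcomm : Commute (m * (s * m * s⁻¹)) d' := by
        show m * (s * m * s⁻¹) * d' = d' * (m * (s * m * s⁻¹))
        calc m * (s * m * s⁻¹) * d'
            = m * ((s * m * s⁻¹) * d' * (s * m * s⁻¹)⁻¹) * m⁻¹ * (m * (s * m * s⁻¹)) := by group
          _ = d' * (m * (s * m * s⁻¹)) := by rw [h2, hmd]
      have h3 : m = s * m * s⁻¹ := by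
        rw [hmD, ← hd'g] at hcomm
        rw [show s * (c ^ i * g * z * (c ^ i * g)⁻¹) * s⁻¹ =
          (s * (c ^ i * g)) * z * (s * (c ^ i * g))⁻¹ by group] at hcomm
        have h4 := Cfsg.Agent.Lib.Isolated.mul_conj_eq_of_commute' hz _ _ _ hcomm
        calc m = c ^ i * g * z * (c ^ i * g)⁻¹ := hmD
          _ = _ := h4
          _ = s * m * s⁻¹ := by rw [hmD]; group
      exact eq_mul_inv_iff_mul_eq.mp h3
    let M : {d : D // Commute d.1 s} := ⟨⟨m, c ^ i * g, hmD.symm⟩, hms⟩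
    set h := hsel M with hh
    have hhm : h * z * h⁻¹ = m := hsel₂ M
    set x := h⁻¹ * d * h with hx
    have hxD : ∃ g' : G, g' * z * g'⁻¹ = x := ⟨h⁻¹ * g, by rw [hx, ← hg]; group⟩
    have hxc : Commute x (s * z) := by
      have e1 : s * x * s⁻¹ = z * x * z⁻¹ := by
        have hsh : Commute h s := hsel₁ M
        calc s * x * s⁻¹ = (s * h⁻¹) * d * (s * h⁻¹)⁻¹ := by rw [hx]; group
          _ = h⁻¹ * d' * h := by rw [← hsh.inv_left.eq, hd']; group
          _ = h⁻¹ * (m * d * m⁻¹) * h := by rw [hmd]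
          _ = z * x * z⁻¹ := by rw [← hhm, hx]; group
      show x * (s * z) = (s * z) * x
      calc x * (s * z) = s⁻¹ * (s * x * s⁻¹) * (s * s) * z := by group
        _ = s⁻¹ * z * x := by rw [e1, hss]; group
        _ = s * z * x := by rw [hsi]
    refine ⟨(⟨⟨x, hxD⟩, hxc⟩, M), Subtype.ext ?_⟩
    show h * x * h⁻¹ = d
    rw [hx]; group

end Cfsg.Agent.S1186
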