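import Cfsg.Statements.S1227
import Cfsg.Agent.Lib.SECount.ElemAbPerm

set_option autoImplicit false
open Cfsg

namespace Cfsg.Agent.S1227

/-- Let G be a finite group with a Sylow 2-subgroup T that is neither cyclic nor normal, such that the centralizer of every involution is an elementary abelian 2-group; put H = N_G(T), let u be an involution outside H and D = H ∩ uHu⁻¹. Then u inverts every element of D, |H| = |T|·(|T| − 1), and D is a complement to T in H. -/
theorem result {G : Type*} [Group G] [Finite G] (T : Sylow 2 G) (hnc : ¬ IsCyclic (T : Subgroup G)) (hnn : ¬ (T : Subgroup G).Normal) (hC : ∀ t : G, orderOf t = 2 → IsMulCommutative (Subgroup.centralizer ({t} : Set G)) ∧ ∀ c ∈ Subgroup.centralizer ({t} : Set G), c ^ 2 = 1) (u : G) (hu : orderOf u = 2) (huH : u ∉ Subgroup.normalizer ((T : Subgroup G) : Set G)) : (∀ d ∈ Subgroup.normalizer ((T : Subgroup G) : Set G) ⊓ (Subgroup.normalizer ((T : Subgroup G) : Set G)).map (MulAut.conj u).toMonoidHom, u * d * u⁻¹ = d⁻¹) ∧ Nat.card (Subgroup.normalizer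 ((T : Subgroup G) : Set G)) = Nat.card T * (Nat.card T - 1) ∧ Subgroup.IsComplement' ((Subgroup.normalizer ((T : Subgroup G) : Set G) ⊓ (Subgroup.normalizer ((T : Subgroup G) : Set G)).map (MulAut.conj u).toMonoidHom).subgroupOf (Subgroup.normalizer ((T : Subgroup G) : Set G))) ((T : Subgroup G).subgroupOf (Subgroup.normalizer ((T : Subgroup G) : Set G))) := by
  have hcard : Nat.card (Lib.SECount.twoPointGroup T u) = Nat.card T - 1 :=
    (Lib.SECount.card_twoPointGroup T hnc hnn hC hu huH).trans
      (Lib.SECount.card_invo_norm T hnc hnn hC)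
  have hcompl : Subgroup.IsComplement'
      ((Lib.SECount.twoPointGroup T u).subgroupOf (Lib.SECount.sylowNorm T))
      ((T : Subgroup G).subgroupOf (Lib.SECount.sylowNorm T)) := by
    refine Subgroup.isComplement'_of_disjoint_and_mul_eq_univ ?_ ?_
    · rw [disjoint_iff, Subgroup.eq_bot_iff_forall]
      rintro x ⟨hx, hxT⟩
      exact Subtype.ext (Lib.SECount.inf_sylow_eq_one T hnc hnn hC huH hx hxT)
    · refine Set.eq_univ_of_forall fun x => ?_
      obtain ⟨d, hd, a, ha, hx⟩ := Lib.SECount.exists_decomp T hnc hnn hC hu huH x.2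
      exact ⟨⟨d, hd.1⟩, hd, ⟨a, Subgroup.le_normalizer ha⟩, ha, Subtype.ext hx.symm⟩
  refine ⟨fun d hd => Lib.SECount.inverts_twoPointGroup T hnc hnn hC hu huH hd, ?_, hcompl⟩
  rw [← hcompl.card_mul, mul_comm,
    Nat.card_congr (Subgroup.subgroupOfEquivOfLe (inf_le_left :
      Lib.SECount.twoPointGroup T u ≤ Lib.SECount.sylowNorm T)).toEquiv,
    Nat.card_congr (Subgroup.subgroupOfEquivOfLe (Subgroup.le_normalizer :
      (T : Subgroup G) ≤ Lib.SECount.sylowNorm T)).toEquiv, hcard]

end Cfsg.Agent.S1227
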