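import Cfsg.Statements.S1228
import Cfsg.Agent.Lib.SECount.ElemAbPerm

set_option autoImplicit false
open Cfsg

namespace Cfsg.Agent.S1228

/-- Let G be a finite group with a Sylow 2-subgroup T that is neither cyclic nor normal, such that the centralizer of every involution is an elementary abelian 2-group; put H = N_G(T), let u be an involution outside H and D = H ∩ uHu⁻¹. Then N_G(D) = D ⊔ ⟨u⟩, and a coset gH is fixed by every element of D exactly when gH = H or gH = uH. -/
theorem result {G : Type*} [Group G] [Finite G] (T : Sylow 2 G) (hnc : ¬ IsCyclic (T : Subgroup G)) (hnn : ¬ (T : Subgroup G).Normal) (hC : ∀ t : G, orderOf t = 2 → IsMulCommutative (Subgroup.centralizer ({t} : Set G)) ∧ ∀ c ∈ Subgroup.centralizer ({t} : Set G), c ^ 2 = 1) (u : G) (hu : orderOf u = 2) (huH : u ∉ Subgroup.normalizer ((T : Subgroup G) : Set G)) : Subgroup.normalizer ((Subgroup.normalizer ((T : Subgroup G) : Set G) ⊓ (Subgroup.normalizer ((T : Subgroup G) : Set G)).map (MulAut.conj u).toMonoidHom : Subgroup G) : Set G) = (Subgroup.normalizer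 ((T : Subgroup G) : Set G) ⊓ (Subgroup.normalizer ((T : Subgroup G) : Set G)).map (MulAut.conj u).toMonoidHom) ⊔ Subgroup.zpowers u ∧ ∀ g : G, ((∀ d ∈ Subgroup.normalizer ((T : Subgroup G) : Set G) ⊓ (Subgroup.normalizer ((T : Subgroup G) : Set G)).map (MulAut.conj u).toMonoidHom, d • (QuotientGroup.mk g : G ⧸ Subgroup.normalizer ((T : Subgroup G) : Set G)) = QuotientGroup.mk g) ↔ (QuotientGroup.mk g : G ⧸ Subgroup.normalizer ((T : Subgroup G) : Set G)) = QuotientGroup.mk 1 ∨ (QuotientGroup.mk g : G ⧸ Subgroup.normalizer ((T : Subgroup G) : Set G)) = QuotientGroup.mk u) := by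
  have hfix : ∀ g : G, g ∉ Lib.SECount.sylowNorm T →
      (∀ d ∈ Lib.SECount.twoPointGroup T u, g⁻¹ * d * g ∈ Lib.SECount.sylowNorm T) →
      u⁻¹ * g ∈ Lib.SECount.sylowNorm T :=
    fun g hg h => Lib.SECount.eq_of_fixed T hnc hnn hC hu huH hg h
  refine ⟨le_antisymm ?_ ?_, fun g => ⟨fun h => ?_, ?_⟩⟩
  · intro n hn
    by_cases hnH : n ∈ Lib.SECount.sylowNorm T
    · exact Subgroup.mem_sup_left
        (Lib.SECount.mem_twoPointGroup_of_mem_normalizer T hnc hnn hC hu huH hn hnH)
    · have hd : ∀ d ∈ Lib.SECount.twoPointGroup T u, n⁻¹ * d * n ∈ Lib.SECount.sylowNorm T :=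
        fun d hd => ((Subgroup.mem_normalizer_iff''.1 hn d).1 hd).1
      have huN : u ∈ Subgroup.normalizer (Lib.SECount.twoPointGroup T u : Set G) := by
        refine Subgroup.mem_normalizer_iff.2 fun d => ⟨fun h => ?_, fun h => ?_⟩
        · rw [Lib.SECount.inverts_twoPointGroup T hnc hnn hC hu huH h]
          exact Subgroup.inv_mem _ h
        · have := Lib.SECount.inverts_twoPointGroup T hnc hnn hC hu huH h
          rw [Lib.SECount.invo_inv hu] at this h
          have e : u * (u * d * u) * u = d := by
            calc u * (u * d * u) * u = (u * u) * d * (u * u) := by group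
              _ = d := by rw [Lib.SECount.invo_sq hu, one_mul, mul_one]
          rw [← e, this]
          exact Subgroup.inv_mem _ h
      rw [← mul_inv_cancel_left u n]
      exact Subgroup.mul_mem _ (Subgroup.mem_sup_right (Subgroup.mem_zpowers u))
        (Subgroup.mem_sup_left (Lib.SECount.mem_twoPointGroup_of_mem_normalizer T hnc hnn hC hu huH
          (Subgroup.mul_mem _ (Subgroup.inv_mem _ huN) hn) (hfix n hnH hd)))
  · refine sup_le Subgroup.le_normalizer (Subgroup.zpowers_le.2 ?_)
    refine Subgroup.mem_normalizer_iff.2 fun d => ⟨fun h => ?_, fun h => ?_⟩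
    · rw [Lib.SECount.inverts_twoPointGroup T hnc hnn hC hu huH h]
      exact Subgroup.inv_mem _ h
    · have := Lib.SECount.inverts_twoPointGroup T hnc hnn hC hu huH h
      rw [Lib.SECount.invo_inv hu] at this h
      have e : u * (u * d * u) * u = d := by
        calc u * (u * d * u) * u = (u * u) * d * (u * u) := by group
          _ = d := by rw [Lib.SECount.invo_sq hu, one_mul, mul_one]
      rw [← e, this]
      exact Subgroup.inv_mem _ h
  · by_cases hg : g ∈ Lib.SECount.sylowNorm T
    · exact Or.inl (QuotientGroup.eq.2 (by simpa [Lib.SECount.sylowNorm] using Subgroup.inv_mem _ hg))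
    · refine Or.inr (QuotientGroup.eq.2 ?_)
      have := hfix g hg fun d hd => by
        have h' := h d⁻¹ (Subgroup.inv_mem _ hd)
        rw [MulAction.Quotient.smul_mk, smul_eq_mul, QuotientGroup.eq] at h'
        simpa [Lib.SECount.sylowNorm, mul_assoc] using h'
      simpa [Lib.SECount.sylowNorm] using Subgroup.inv_mem _ this
  · intro h d hd
    rcases h with h | h <;> rw [h, MulAction.Quotient.smul_mk, smul_eq_mul, QuotientGroup.eq]
    · simpa [Lib.SECount.sylowNorm] using Subgroup.inv_mem _ hd.1
    · have := Subgroup.inv_mem _ ((Lib.SECount.mem_twoPointGroup_iff T).1 hd).2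
      simpa [Lib.SECount.sylowNorm, mul_assoc] using this

end Cfsg.Agent.S1228
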