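import Cfsg.Statements.S1229
import Cfsg.Agent.Lib.SECount.ElemAbPerm

set_option autoImplicit false
open Cfsg

namespace Cfsg.Agent.S1229

theorem fixed_one_iff {G : Type*} [Group G] (H : Subgroup G) (g : G) :
    g • (QuotientGroup.mk 1 : G ⧸ H) = QuotientGroup.mk 1 ↔ g ∈ H := by
  rw [MulAction.Quotient.smul_mk, smul_eq_mul, QuotientGroup.eq]
  simp


/-- Let G be a finite group with a Sylow 2-subgroup T that is neither cyclic nor normal, such that the centralizer of every involution is an elementary abelian 2-group; put H = N_G(T) and X = G/H. Then G is triply transitive on X, an element fixing three distinct points of X is the identity, and T acts regularly on X minus the point H. -/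
theorem result {G : Type*} [Group G] [Finite G] (T : Sylow 2 G) (hnc : ¬ IsCyclic (T : Subgroup G)) (hnn : ¬ (T : Subgroup G).Normal) (hC : ∀ t : G, orderOf t = 2 → IsMulCommutative (Subgroup.centralizer ({t} : Set G)) ∧ ∀ c ∈ Subgroup.centralizer ({t} : Set G), c ^ 2 = 1) : (∀ x₁ x₂ x₃ y₁ y₂ y₃ : G ⧸ Subgroup.normalizer ((T : Subgroup G) : Set G), x₁ ≠ x₂ → x₁ ≠ x₃ → x₂ ≠ x₃ → y₁ ≠ y₂ → y₁ ≠ y₃ → y₂ ≠ y₃ → ∃ g : G, g • x₁ = y₁ ∧ g • x₂ = y₂ ∧ g • x₃ = y₃) ∧ (∀ g : G, ∀ x₁ x₂ x₃ : G ⧸ Subgroup.normalizer ((T : Subgroup G) : Set G), x₁ ≠ x₂ → x₁ ≠ x₃ → x₂ ≠ x₃ → g • x₁ = x₁ → g • x₂ = x₂ → g • x₃ = x₃ → g = 1) ∧ (∀ x y : G ⧸ Subgroup.normalizer ((T : Subgroup G) : Set G), x ≠ QuotientGroup.mk 1 → y ≠ QuotientGroup.mk 1 → ∃! t : G, t ∈ T ∧ t • x = y) := by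

  have hH := Lib.SECount.isStronglyEmbedded_normalizer T hnc hnn hC
  obtain ⟨u, hu, huH⟩ := Lib.SECount.exists_invo_not_mem hH
  set o : G ⧸ Lib.SECount.sylowNorm T := QuotientGroup.mk 1 with ho
  set p : G ⧸ Lib.SECount.sylowNorm T := u • o with hp
  have hne : ∀ g : G, (QuotientGroup.mk g : G ⧸ Lib.SECount.sylowNorm T) ≠ o ↔
      g ∉ Lib.SECount.sylowNorm T := fun g => by
    rw [ne_eq, ho, QuotientGroup.eq]; simp
  have hpne : p ≠ o := by
    rw [hp, ho, MulAction.Quotient.smul_mk, smul_eq_mul, mul_one]; exact (hne u).2 huH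
  have hTo : ∀ t ∈ (T : Subgroup G), t • o = o := fun t ht =>
    (fixed_one_iff _ t).2 (Subgroup.le_normalizer ht)
  have hreg : ∀ x : G ⧸ Lib.SECount.sylowNorm T, x ≠ o → ∃ t ∈ (T : Subgroup G), t • p = x := by
    intro x hx
    obtain ⟨g, rfl⟩ := QuotientGroup.mk_surjective x
    obtain ⟨t, ht, htg⟩ := Lib.SECount.exists_mul_coset T hnc hnn hC hu huH ((hne g).1 hx)
    refine ⟨t, ht, ?_⟩
    rw [hp, ho, MulAction.Quotient.smul_mk, MulAction.Quotient.smul_mk, smul_eq_mul, smul_eq_mul,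
      mul_one, QuotientGroup.eq]
    exact htg
  have hinj : ∀ s ∈ (T : Subgroup G), ∀ t ∈ (T : Subgroup G), s • p = t • p → s = t := by
    intro s hs t ht h
    rw [hp, ho, MulAction.Quotient.smul_mk, MulAction.Quotient.smul_mk,
      MulAction.Quotient.smul_mk, smul_eq_mul, smul_eq_mul, smul_eq_mul, mul_one,
      QuotientGroup.eq] at h
    exact Lib.SECount.eq_of_mul_coset T hnc hnn hC huH hs ht h
  have hD : ∀ d, d ∈ Lib.SECount.twoPointGroup T u ↔ d • o = o ∧ d • p = p := by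
    intro d
    rw [Lib.SECount.mem_twoPointGroup_iff, fixed_one_iff, hp, ho, MulAction.Quotient.smul_mk,
      MulAction.Quotient.smul_mk, smul_eq_mul, smul_eq_mul, mul_one, eq_comm (b :=
        (QuotientGroup.mk u : G ⧸ Lib.SECount.sylowNorm T)), QuotientGroup.eq, mul_assoc]
  have hsmul : ∀ d ∈ Lib.SECount.twoPointGroup T u, ∀ t : G, d • t • p = (d * t * d⁻¹) • p := by
    intro d hd t
    rw [mul_smul, mul_smul, ((hD d⁻¹).1 (Subgroup.inv_mem _ hd)).2]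
  have hconjT : ∀ d ∈ Lib.SECount.twoPointGroup T u, ∀ t ∈ (T : Subgroup G),
      d * t * d⁻¹ ∈ (T : Subgroup G) := fun d hd t ht =>
    (Subgroup.mem_normalizer_iff.1 hd.1 t).1 ht
  -- move two distinct points to the standard pair
  have hpair : ∀ x₁ x₂ : G ⧸ Lib.SECount.sylowNorm T, x₁ ≠ x₂ →
      ∃ g : G, g • x₁ = o ∧ g • x₂ = p := by
    intro x₁ x₂ h
    obtain ⟨a, rfl⟩ := QuotientGroup.mk_surjective x₁
    have ha : a⁻¹ • (QuotientGroup.mk a : G ⧸ Lib.SECount.sylowNorm T) = o := by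
      rw [MulAction.Quotient.smul_mk, smul_eq_mul, inv_mul_cancel]
    obtain ⟨t, ht, htp⟩ := hreg (a⁻¹ • x₂) fun h' => h (smul_left_cancel a⁻¹ (ha.trans h'.symm))
    refine ⟨t⁻¹ * a⁻¹, ?_, ?_⟩
    · rw [mul_smul, ha, hTo _ (Subgroup.inv_mem _ ht)]
    · rw [mul_smul, ← htp, inv_smul_smul]
  have htriple : ∀ x₁ x₂ x₃ : G ⧸ Lib.SECount.sylowNorm T, x₁ ≠ x₂ → x₁ ≠ x₃ → x₂ ≠ x₃ →
      ∃ g : G, ∃ t ∈ (T : Subgroup G), t ≠ 1 ∧ g • x₁ = o ∧ g • x₂ = p ∧ g • x₃ = t • p := by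
    intro x₁ x₂ x₃ h12 h13 h23
    obtain ⟨g, h1, h2⟩ := hpair x₁ x₂ h12
    obtain ⟨t, ht, htp⟩ := hreg (g • x₃) fun h => h13 (smul_left_cancel g (h1.trans h.symm))
    refine ⟨g, t, ht, fun h => h23 (smul_left_cancel g ?_), h1, h2, htp.symm⟩
    rw [h2, ← htp, h, one_smul]
  refine ⟨fun x₁ x₂ x₃ y₁ y₂ y₃ a b c a' b' c' => ?_,
    fun g x₁ x₂ x₃ a b c e₁ e₂ e₃ => ?_, fun x y hx hy => ?_⟩
  · obtain ⟨g, s, hs, hs1, g1, g2, g3⟩ := htriple x₁ x₂ x₃ a b c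
    obtain ⟨k, t, ht, ht1, k1, k2, k3⟩ := htriple y₁ y₂ y₃ a' b' c'
    obtain ⟨d, hd, hdst⟩ := Lib.SECount.exists_conj_mem_inf hH hu huH
      (Lib.SECount.orderOf_eq_two_of_mem T hC hs hs1) (Subgroup.le_normalizer hs)
      (Lib.SECount.orderOf_eq_two_of_mem T hC ht ht1) (Subgroup.le_normalizer ht)
    refine ⟨k⁻¹ * d * g, ?_, ?_, ?_⟩
    · rw [mul_smul, mul_smul, g1, ((hD d).1 hd).1, ← k1, inv_smul_smul]
    · rw [mul_smul, mul_smul, g2, ((hD d).1 hd).2, ← k2, inv_smul_smul]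
    · rw [mul_smul, mul_smul, g3, hsmul d hd, hdst, ← k3, inv_smul_smul]
  · obtain ⟨k, t, ht, ht1, k1, k2, k3⟩ := htriple x₁ x₂ x₃ a b c
    have hfix : ∀ x z : G ⧸ Lib.SECount.sylowNorm T, k • x = z → g • x = x → (k * g * k⁻¹) • z = z := by
      rintro x z rfl hx
      rw [mul_smul, mul_smul, inv_smul_smul, hx]
    have hd : k * g * k⁻¹ ∈ Lib.SECount.twoPointGroup T u :=
      (hD _).2 ⟨hfix _ _ k1 e₁, hfix _ _ k2 e₂⟩
    have h3 := hfix _ _ k3 e₃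
    rw [hsmul _ hd] at h3
    have h4 := hinj _ (hconjT _ hd t ht) t ht h3
    have hdT : k * g * k⁻¹ ∈ (T : Subgroup G) := by
      rw [← Lib.SECount.centralizer_eq_sylow T hC
        (Lib.SECount.orderOf_eq_two_of_mem T hC ht ht1) ht, Subgroup.mem_centralizer_singleton_iff]
      exact mul_inv_eq_iff_eq_mul.1 h4
    simpa using Lib.SECount.inf_sylow_eq_one T hnc hnn hC huH hd hdT
  · obtain ⟨a, ha, hax⟩ := hreg x hx
    obtain ⟨b, hb, hby⟩ := hreg y hy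
    refine ⟨b * a⁻¹, ⟨Subgroup.mul_mem _ hb (Subgroup.inv_mem _ ha), ?_⟩, ?_⟩
    · rw [← hax, ← mul_smul, inv_mul_cancel_right, hby]
    · rintro t ⟨ht, htx⟩
      refine eq_mul_inv_of_mul_eq (hinj _ (Subgroup.mul_mem _ ht ha) _ hb ?_)
      rw [mul_smul, hax, htx, hby]

end Cfsg.Agent.S1229
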