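import Cfsg.Statements.S1233
import Cfsg.Agent.Lib.HaradaEight.Extraspecial

set_option autoImplicit false
open Cfsg

namespace Cfsg.Agent.S1233

theorem quat_center : ∀ p : QuaternionGroup 2, (∀ q, p * q = q * p) →
    p = 1 ∨ p = QuaternionGroup.a 2 := by decide

theorem quat_gen : ∀ p : QuaternionGroup 2, ∃ (k : Fin 4) (l : Fin 2),
    p = QuaternionGroup.a 1 ^ (k : ℕ) * QuaternionGroup.xa 0 ^ (l : ℕ) := by decide

/-- Let S be a finite 2-group and Q a subgroup of order 32 generated by two elementwise-commuting subgroups Q₁, Q₂ each isomorphic to the quaternion group of order 8 (so Q = Q₁ ∗ Q₂). If C_S(Q) ≤ Q, then every section of S has 2-rank at most 4. -/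
theorem result {S : Type*} [Group S] [Finite S] (hS : IsPGroup 2 S) (Q Q₁ Q₂ : Subgroup S) (e₁ : Q₁ ≃* QuaternionGroup 2) (e₂ : Q₂ ≃* QuaternionGroup 2) (hcomm : ∀ a ∈ Q₁, ∀ b ∈ Q₂, a * b = b * a) (hQ : Q₁ ⊔ Q₂ = Q) (hQ32 : Nat.card Q = 32) (hC : Subgroup.centralizer (Q : Set S) ≤ Q) : Cfsg.SectionalPRankLE 2 4 S := by
  let f₁ : QuaternionGroup 2 →* S := Q₁.subtype.comp e₁.symm.toMonoidHom
  let f₂ : QuaternionGroup 2 →* S := Q₂.subtype.comp e₂.symm.toMonoidHom
  have hf₁ : f₁.range = Q₁ := by
    rw [MonoidHom.range_comp, MonoidHom.range_eq_top.2 e₁.symm.surjective,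
      ← MonoidHom.range_eq_map, Subgroup.range_subtype]
  have hf₂ : f₂.range = Q₂ := by
    rw [MonoidHom.range_comp, MonoidHom.range_eq_top.2 e₂.symm.surjective,
      ← MonoidHom.range_eq_map, Subgroup.range_subtype]
  have hinj₁ : Function.Injective f₁ := Subtype.val_injective.comp e₁.symm.injective
  have hinj₂ : Function.Injective f₂ := Subtype.val_injective.comp e₂.symm.injective
  have hc12 : ∀ p q, Commute (f₁ p) (f₂ q) := fun p q =>
    hcomm _ (hf₁ ▸ ⟨p, rfl⟩) _ (hf₂ ▸ ⟨q, rfl⟩)
  let f : QuaternionGroup 2 × QuaternionGroup 2 →* S := f₁.noncommCoprod f₂ hc12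
  have hrange : f.range = Q := by
    rw [MonoidHom.noncommCoprod_range, hf₁, hf₂, hQ]
  -- the two centres agree
  obtain ⟨⟨p, q⟩, hker, hne⟩ : ∃ u, f u = 1 ∧ u ≠ 1 := by
    by_contra hcon
    push Not at hcon
    have hinj : Function.Injective f := (injective_iff_map_eq_one f).2 hcon
    have h1 := Nat.card_range_of_injective hinj
    rw [← MonoidHom.coe_range, hrange, Nat.card_prod, SetLike.coe_sort_coe, hQ32,
      Nat.card_eq_fintype_card, QuaternionGroup.card] at h1
    omega
  have hpq : f₁ p = (f₂ q)⁻¹ := mul_eq_one_iff_eq_inv.1 hker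
  have hpz : ∀ r, p * r = r * p := fun r => hinj₁ (by
    rw [map_mul, map_mul, hpq]; exact ((hc12 r q).symm.inv_left).eq)
  have hqz : ∀ r, q * r = r * q := fun r => hinj₂ (by
    rw [map_mul, map_mul, show f₂ q = (f₁ p)⁻¹ by rw [hpq, inv_inv]]
    exact ((hc12 p r).inv_left).eq)
  have hp2 : p = QuaternionGroup.a 2 := by
    refine (quat_center p hpz).resolve_left fun hp => hne ?_
    rw [hp, map_one, eq_comm, inv_eq_one] at hpq
    rw [hp, hinj₂ (hpq.trans (map_one f₂).symm)]
    rfl
  have hq2 : q = QuaternionGroup.a 2 := by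
    refine (quat_center q hqz).resolve_left fun hq => hne ?_
    rw [hq, map_one, inv_one] at hpq
    rw [hq, hinj₁ (hpq.trans (map_one f₁).symm)]
    rfl
  subst hp2 hq2
  -- equalities hold up to the kernel element
  have hrel : ∀ u v, (u = v ∨ u = v * (QuaternionGroup.a 2, QuaternionGroup.a 2)) → f u = f v := by
    rintro u v (rfl | rfl)
    · rfl
    · rw [map_mul, hker, mul_one]
  have hrel' : ∀ u v, (u = v ∨ u = v * (QuaternionGroup.a 2, QuaternionGroup.a 2)) →
      ∀ x y, f u = x → f v = y → x = y := fun u v h x y hx hy => hx ▸ hy ▸ hrel u v h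
  let qi : QuaternionGroup 2 := QuaternionGroup.a 1
  let qj : QuaternionGroup 2 := QuaternionGroup.xa 0
  let Z : QuaternionGroup 2 × QuaternionGroup 2 := (QuaternionGroup.a 2, 1)
  let A : QuaternionGroup 2 × QuaternionGroup 2 := (qi, qi)
  let C : QuaternionGroup 2 × QuaternionGroup 2 := (qi * qj, qi * qj)
  let B : QuaternionGroup 2 × QuaternionGroup 2 := (qj, qi * qj)
  let B' : QuaternionGroup 2 × QuaternionGroup 2 := (qi, qj)
  have hmem : ∀ u, f u ∈ Q := fun u => hrange ▸ ⟨u, rfl⟩
  have hD : Cfsg.Agent.Lib.HaradaEight.DualPairs Q (f Z) (f A) (f C) (f B) (f B') :=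
    { z_ne := fun h => by
        have h1 : f₁ (QuaternionGroup.a 2) = 1 := by
          have h0 : f Z = f₁ (QuaternionGroup.a 2) * f₂ 1 := rfl
          rwa [h0, map_one, mul_one] at h
        have h2 := hinj₁ (h1.trans (map_one f₁).symm)
        exact absurd h2 (by decide)
      sq := ⟨hrel' (Z * Z) 1 (by decide) _ _ (map_mul f Z Z) (map_one f),
        hrel' (A * A) 1 (by decide) _ _ (map_mul f A A) (map_one f),
        hrel' (C * C) 1 (by decide) _ _ (map_mul f C C) (map_one f),
        hrel' (B * B) 1 (by decide) _ _ (map_mul f B B) (map_one f),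
        hrel' (B' * B') 1 (by decide) _ _ (map_mul f B' B') (map_one f)⟩
      mem := ⟨hmem Z, hmem A, hmem C, hmem B, hmem B'⟩
      gen := by
        rw [← hrange]
        rintro _ ⟨u, rfl⟩
        set K := Subgroup.closure ({f Z, f A, f C, f B, f B'} : Set S) with hK
        have hgens : ∀ g, g = Z ∨ g = A ∨ g = C ∨ g = B ∨ g = B' → g ∈ K.comap f := by
          rintro g (rfl | rfl | rfl | rfl | rfl) <;> exact Subgroup.subset_closure (by simp)
        have hi : ((qi, 1) : QuaternionGroup 2 × QuaternionGroup 2) ∈ K.comap f := by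
          have h1 := mul_mem (hgens C (by simp)) (inv_mem (hgens B (by simp)))
          have h2 : C * B⁻¹ = ((qi, 1) : QuaternionGroup 2 × QuaternionGroup 2) := by decide
          rwa [h2] at h1
        have hi' : ((1, qi) : QuaternionGroup 2 × QuaternionGroup 2) ∈ K.comap f := by
          have h1 := mul_mem (inv_mem hi) (hgens A (by simp))
          have h2 : ((qi, 1) : QuaternionGroup 2 × QuaternionGroup 2)⁻¹ * A = (1, qi) := by decide
          rwa [h2] at h1
        have hj' : ((1, qj) : QuaternionGroup 2 × QuaternionGroup 2) ∈ K.comap f := by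
          have h1 := mul_mem (inv_mem hi) (hgens B' (by simp))
          have h2 : ((qi, 1) : QuaternionGroup 2 × QuaternionGroup 2)⁻¹ * B' = (1, qj) := by decide
          rwa [h2] at h1
        have hj : ((qj, 1) : QuaternionGroup 2 × QuaternionGroup 2) ∈ K.comap f := by
          have h1 := mul_mem (hgens B (by simp)) (inv_mem (mul_mem hi' hj'))
          have h2 : B * (((1, qi) : QuaternionGroup 2 × QuaternionGroup 2) * (1, qj))⁻¹ =
            (qj, 1) := by decide
          rwa [h2] at h1
        obtain ⟨r, s⟩ := u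
        obtain ⟨k, l, rfl⟩ := quat_gen r
        obtain ⟨k', l', rfl⟩ := quat_gen s
        have h3 := mul_mem (mul_mem (pow_mem hi (k : ℕ)) (pow_mem hj (l : ℕ)))
          (mul_mem (pow_mem hi' (k' : ℕ)) (pow_mem hj' (l' : ℕ)))
        simp only [Prod.pow_mk, one_pow, Prod.mk_mul_mk, one_mul, mul_one] at h3
        exact h3
      z_comm := ⟨hrel' (Z * A) (A * Z) (by decide) _ _ (map_mul f Z A) (map_mul f A Z),
        hrel' (Z * C) (C * Z) (by decide) _ _ (map_mul f Z C) (map_mul f C Z),
        hrel' (Z * B) (B * Z) (by decide) _ _ (map_mul f Z B) (map_mul f B Z),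
        hrel' (Z * B') (B' * Z) (by decide) _ _ (map_mul f Z B') (map_mul f B' Z)⟩
      ac := hrel' (A * C) (C * A) (by decide) _ _ (map_mul f A C) (map_mul f C A)
      bb := hrel' (B * B') (B' * B) (by decide) _ _ (map_mul f B B') (map_mul f B' B)
      ab := hrel' (A * B) (B * A) (by decide) _ _ (map_mul f A B) (map_mul f B A)
      ab' := hrel' (A * B') (B' * A * Z) (by decide) _ _ (map_mul f A B')
        (by rw [map_mul, map_mul])
      cb := hrel' (C * B) (B * C * Z) (by decide) _ _ (map_mul f C B) (by rw [map_mul, map_mul])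
      cb' := hrel' (C * B') (B' * C) (by decide) _ _ (map_mul f C B') (map_mul f B' C) }
  exact hD.sectionalRank_le_four hS hC

end Cfsg.Agent.S1233
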