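import Cfsg.Statements.S1234
import Cfsg.Agent.Lib.HaradaEight.Main

set_option autoImplicit false
open Cfsg

namespace Cfsg.Agent.S1234

/-- Let S be a finite 2-group and Q ≤ S a subgroup of order 32 having an elementary abelian subgroup E of order 16 and an involution s ∉ E whose centralizer in E has order 4 (so Q ≅ (Z₂ × Z₂) ≀ Z₂). If C_S(Z(Q)) = Q, then every section of S has 2-rank at most 4. -/
theorem result {S : Type*} [Group S] [Finite S] (hS : IsPGroup 2 S) (Q E : Subgroup S) (hEQ : E ≤ Q) (hE : Cfsg.IsElementaryAbelian 2 E) (hE16 : Nat.card E = 16) (hQ32 : Nat.card Q = 32) (s : S) (hsQ : s ∈ Q) (hsE : s ∉ E) (hs : orderOf s = 2) (hfix : Nat.card ↥(E ⊓ Subgroup.centralizer ({s} : Set S)) = 4) (hC : Subgroup.centralizer (((Subgroup.center Q).map Q.subtype : Subgroup S) : Set S) = Q) : Cfsg.SectionalPRankLE 2 4 S := by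
  haveI := hE.1
  have hss : s * s = 1 := by
    have h := pow_orderOf_eq_one s
    rwa [hs, pow_two] at h
  have hsinv : s⁻¹ = s := inv_eq_of_mul_eq_one_right hss
  have hEcomm : ∀ x ∈ E, ∀ y ∈ E, Commute x y := fun x hx y hy =>
    congrArg Subtype.val (hE.1.is_comm.comm ⟨x, hx⟩ ⟨y, hy⟩)
  have hcancel : ∀ x : S, x * s * s = x := fun x => by rw [mul_assoc, hss, mul_one]
  set F : Subgroup S := E ⊓ Subgroup.centralizer ({s} : Set S) with hF
  have hsF : ∀ x ∈ F, Commute x s := fun x hx => Subgroup.mem_centralizer_singleton_iff.1 hx.2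
  have hFs : ∀ x, x * s ∈ F → Commute x s := fun x hx => by
    have := (hsF _ hx).mul_left (Commute.refl s)
    rwa [hcancel] at this
  -- `E` has index two in `Q`
  have hcov : ∀ x ∈ Q, x ∈ E ∨ x * s ∈ E := by
    have hidx : (E.subgroupOf Q).index = 2 := by
      have h1 := (E.subgroupOf Q).card_mul_index
      rw [Nat.card_congr (Subgroup.subgroupOfEquivOfLe hEQ).toEquiv, hE16, hQ32] at h1
      omega
    intro x hx
    by_cases h : x ∈ E
    · exact Or.inl h
    exact Or.inr ((Subgroup.mul_mem_iff_of_index_two hidx (a := ⟨x, hx⟩) (b := ⟨s, hsQ⟩)).2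
      ⟨fun h' => absurd h' h, fun h' => absurd h' hsE⟩)
  have hFC : ∀ x ∈ Q, ∀ f ∈ F, Commute x f := by
    intro x hx f hf
    rcases hcov x hx with h | h
    · exact hEcomm x h f hf.1
    · have := (hEcomm _ h f hf.1).mul_left (hsF f hf).symm
      rwa [hcancel] at this
  -- `A = F ∪ F s`
  let A : Subgroup S :=
    { carrier := {x | x ∈ F ∨ x * s ∈ F}
      one_mem' := Or.inl (one_mem F)
      mul_mem' := by
        rintro x y (hx | hx) (hy | hy)
        · exact Or.inl (mul_mem hx hy)
        · exact Or.inr (by rw [mul_assoc]; exact mul_mem hx hy)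
        · refine Or.inr ?_
          rw [mul_assoc, (hsF y hy).eq, ← mul_assoc]
          exact mul_mem hx hy
        · refine Or.inl ?_
          have h1 := mul_mem hx hy
          rwa [← (hFs y hy).symm.eq, mul_assoc, ← mul_assoc s s, hss, one_mul] at h1
      inv_mem' := by
        rintro x (hx | hx)
        · exact Or.inl (inv_mem hx)
        · refine Or.inr ?_
          have h1 := inv_mem hx
          rw [mul_inv_rev, hsinv] at h1
          rwa [(hFs x hx).inv_left.eq] }
  have hsA : s ∈ A := Or.inr (by rw [hss]; exact one_mem F)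
  have hsnF : s ∉ F := fun h => hsE h.1
  have hAQ : ∀ x ∈ A, x ∈ Q := by
    rintro x (h | h)
    · exact hEQ h.1
    · have := mul_mem (hEQ h.1) hsQ
      rwa [hcancel] at this
  have hAs : ∀ x ∈ A, Commute x s := by
    rintro x (h | h)
    exacts [hsF x h, hFs x h]
  have hAcomm : ∀ x ∈ A, ∀ y ∈ A, Commute x y := by
    rintro x hx y (hy | hy)
    · exact hFC x (hAQ x hx) y hy
    · have := (hFC x (hAQ x hx) _ hy).mul_right (hAs x hx)
      rwa [hcancel] at this
  have hA8 : Nat.card A = 8 := by
    have hidx : (F.subgroupOf A).index = 2 := by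
      rw [Subgroup.index_eq_two_iff]
      refine ⟨⟨s, hsA⟩, fun x => ?_⟩
      show Xor ((x : S) * s ∈ F) ((x : S) ∈ F)
      rcases x.2 with h | h
      · exact Or.inr ⟨h, fun h' => hsnF ((F.mul_mem_cancel_left h).1 h')⟩
      · exact Or.inl ⟨h, fun h' => hsnF ((F.mul_mem_cancel_left h').1 h)⟩
    have h1 := (F.subgroupOf A).card_mul_index
    rw [Nat.card_congr (Subgroup.subgroupOfEquivOfLe (show F ≤ A from fun x hx => Or.inl hx)).toEquiv,
      hidx, hfix] at h1
    omega
  have hAsq : ∀ x ∈ A, x * x = 1 := by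
    rintro x (h | h)
    · rw [← pow_two]; exact hE.2 x h.1
    · have h1 := hE.2 _ h.1
      rwa [pow_two, (hFs x h).symm.mul_mul_mul_comm, hss, mul_one] at h1
  refine Cfsg.Agent.Lib.HaradaEight.sectionalRank_le_four hS hA8 hAsq (le_antisymm ?_ ?_)
  · intro x hx
    have hxQ : x ∈ Q := by
      rw [← hC, Subgroup.mem_centralizer_iff]
      rintro _ ⟨⟨y, hyQ⟩, hyc, rfl⟩
      refine Subgroup.mem_centralizer_iff.1 hx y (Or.inl ?_)
      have hyz : ∀ q ∈ Q, Commute q y := fun q hq =>
        congrArg Subtype.val (Subgroup.mem_center_iff.1 hyc ⟨q, hq⟩)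
      refine ⟨?_, Subgroup.mem_centralizer_singleton_iff.2 (hyz s hsQ).symm.eq⟩
      by_contra hyE
      have hys := (hcov y hyQ).resolve_left hyE
      have hfull : E ≤ F := fun e he => ⟨he, Subgroup.mem_centralizer_singleton_iff.2 (by
        have := (hyz e (hEQ he)).inv_right.mul_right (hEcomm e he _ hys)
        rw [inv_mul_cancel_left] at this
        exact this.eq)⟩
      have := Subgroup.card_le_of_le hfull
      rw [hE16, hfix] at this
      omega
    have hxs : Commute x s := (Subgroup.mem_centralizer_iff.1 hx s hsA).symm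
    rcases hcov x hxQ with h | h
    · exact Or.inl ⟨h, Subgroup.mem_centralizer_singleton_iff.2 hxs.eq⟩
    · exact Or.inr ⟨h, Subgroup.mem_centralizer_singleton_iff.2 (hxs.mul_left (Commute.refl s)).eq⟩
  · exact fun x hx => Subgroup.mem_centralizer_iff.2 fun y hy => (hAcomm y hy x hx).eq

end Cfsg.Agent.S1234
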