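import Cfsg.Statements.S1236
import Mathlib

set_option autoImplicit false
open Cfsg

namespace Cfsg.Agent.S1236

variable {Q : Type*} [Group Q]

theorem dihedral_fourgroup {m : ℕ} (hm : 2 ≤ m) (a b : DihedralGroup m) (ha : a ≠ 1) (hb : b ≠ 1)
    (hab : a ≠ b) (ha2 : a * a = 1) (hb2 : b * b = 1) (hc : a * b = b * a) (g : DihedralGroup m)
    (hga : g * a = a * g) (hgb : g * b = b * g) : g = 1 ∨ g = a ∨ g = b ∨ g = a * b := by
  haveI : NeZero m := ⟨by omega⟩
  have two : ∀ x y : ZMod m, x + x = 0 → y + y = 0 → x ≠ 0 → y ≠ 0 → x = y := by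
    intro x y hx hy hx0 hy0
    have key : ∀ z : ZMod m, z + z = 0 → z ≠ 0 → 2 * z.val = m := by
      intro z hz hz0
      have hv := ZMod.val_add z z
      rw [hz, ZMod.val_zero] at hv
      have hlt := ZMod.val_lt z
      have hpos : z.val ≠ 0 := fun h => hz0 ((ZMod.val_eq_zero z).1 h)
      obtain ⟨k, hk⟩ : m ∣ z.val + z.val := Nat.dvd_of_mod_eq_zero hv.symm
      rcases k with _ | _ | k
      · omega
      · omega
      · nlinarith
    exact ZMod.val_injective m (by have := key x hx hx0; have := key y hy hy0; omega)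
  have zero_or : ∀ x z : ZMod m, x + x = 0 → z + z = 0 → z ≠ 0 → x = 0 ∨ x = z := by
    intro x z hx hz hz0
    by_cases h : x = 0
    · exact Or.inl h
    · exact Or.inr (two x z hx hz h hz0)
  rw [show (1 : DihedralGroup m) = DihedralGroup.r 0 from rfl] at *
  cases a with
  | r i =>
    cases b with
    | r j =>
      simp only [DihedralGroup.r_mul_r, DihedralGroup.r.injEq, ne_eq] at ha hb hab ha2 hb2
      exact absurd (two i j ha2 hb2 ha hb) hab
    | sr j =>
      simp only [DihedralGroup.r_mul_r, DihedralGroup.r.injEq, ne_eq] at ha ha2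
      cases g with
      | r k =>
        simp only [DihedralGroup.r_mul_sr, DihedralGroup.sr_mul_r, DihedralGroup.sr.injEq] at hgb
        rcases zero_or k i (by linear_combination -hgb) ha2 ha with h | h <;> simp [h]
      | sr k =>
        simp only [DihedralGroup.sr_mul_sr, DihedralGroup.r.injEq] at hgb
        rcases zero_or (j - k) i (by linear_combination hgb) ha2 ha with h | h
        · exact Or.inr (Or.inr (Or.inl (by rw [sub_eq_zero.1 h])))
        · refine Or.inr (Or.inr (Or.inr ?_))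
          rw [DihedralGroup.r_mul_sr]
          congr 1
          linear_combination -h
  | sr i =>
    cases g with
    | r k =>
      simp only [DihedralGroup.r_mul_sr, DihedralGroup.sr_mul_r, DihedralGroup.sr.injEq] at hga
      have hk : k + k = 0 := by linear_combination -hga
      cases b with
      | r j =>
        simp only [DihedralGroup.r_mul_r, DihedralGroup.r.injEq, ne_eq] at hb hb2
        rcases zero_or k j hk hb2 hb with h | h <;> simp [h]
      | sr j =>
        simp only [DihedralGroup.sr_mul_sr, DihedralGroup.r.injEq] at hc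
        have hne : j - i ≠ 0 := fun h => hab (by rw [sub_eq_zero.1 h])
        rcases zero_or k (j - i) hk (by linear_combination hc) hne with h | h <;> simp [h]
    | sr k =>
      simp only [DihedralGroup.sr_mul_sr, DihedralGroup.r.injEq] at hga
      have hd : (k - i) + (k - i) = 0 := by linear_combination -hga
      cases b with
      | r j =>
        simp only [DihedralGroup.r_mul_r, DihedralGroup.r.injEq, ne_eq] at hb hb2
        rcases zero_or (k - i) j hd hb2 hb with h | h
        · simp [sub_eq_zero.1 h]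
        · refine Or.inr (Or.inr (Or.inr ?_))
          rw [DihedralGroup.sr_mul_r]
          congr 1
          linear_combination h
      | sr j =>
        simp only [DihedralGroup.sr_mul_sr, DihedralGroup.r.injEq] at hc
        have hne : j - i ≠ 0 := fun h => hab (by rw [sub_eq_zero.1 h])
        rcases zero_or (k - i) (j - i) hd (by linear_combination hc) hne with h | h
        · simp [sub_eq_zero.1 h]
        · simp [sub_left_inj.1 h]

theorem qd_fourgroup [Finite Q] (hQ : Cfsg.IsQuasiDihedral Q) (a b : Q) (ha : a ≠ 1) (hb : b ≠ 1)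
    (hab : a ≠ b) (ha2 : a * a = 1) (hb2 : b * b = 1) (hc : a * b = b * a) (g : Q)
    (hga : g * a = a * g) (hgb : g * b = b * g) : g = 1 ∨ g = a ∨ g = b ∨ g = a * b := by
  obtain ⟨n, hn, hcard, x, y, hx, hy, hxy⟩ := hQ
  set X := Subgroup.zpowers x with hX
  have hidx : X.index = 2 := by
    have h := X.card_mul_index
    rw [Nat.card_zpowers, hx, hcard, pow_succ] at h
    exact Nat.eq_of_mul_eq_mul_left (by positivity) h
  have hn1 : (2 : ℤ) ^ n = 2 * 2 ^ (n - 1) := by rw [← pow_succ']; congr 1; omega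
  have hn2 : (2 : ℤ) ^ (n - 1) = 2 * 2 ^ (n - 2) := by rw [← pow_succ']; congr 1; omega
  -- at most one involution in `X`
  have hsq : ∀ c ∈ X, c * c = 1 → c = 1 ∨ c = x ^ ((2 : ℤ) ^ (n - 1)) := by
    intro c hcX hc2
    obtain ⟨i, rfl⟩ := Subgroup.mem_zpowers_iff.1 hcX
    rw [← zpow_add, ← orderOf_dvd_iff_zpow_eq_one, hx] at hc2
    push_cast at hc2
    obtain ⟨k, hk⟩ : (2 : ℤ) ^ (n - 1) ∣ i := by
      obtain ⟨k, hk⟩ := hc2
      exact ⟨k, by rw [hn1] at hk; linarith⟩
    rcases Int.even_or_odd' k with ⟨l, rfl | rfl⟩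
    · left
      rw [← orderOf_dvd_iff_zpow_eq_one, hx]
      push_cast
      exact ⟨l, by rw [hk, hn1]; ring⟩
    · right
      refine zpow_eq_zpow_iff_modEq.2 (Int.modEq_iff_dvd.2 ?_)
      rw [hx]
      push_cast
      exact ⟨-l, by rw [hk, hn1]; ring⟩
  have huniq : ∀ c ∈ X, ∀ d ∈ X, c * c = 1 → d * d = 1 → c ≠ 1 → d ≠ 1 → c = d :=
    fun c h₁ d h₂ h₃ h₄ h₅ h₆ =>
      ((hsq c h₁ h₃).resolve_left h₅).trans ((hsq d h₂ h₄).resolve_left h₆).symm
  have hyX : y ∉ X := by
    intro hyX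
    have hcy : Commute y x := by
      obtain ⟨i, rfl⟩ := Subgroup.mem_zpowers_iff.1 hyX
      exact Commute.zpow_left (Commute.refl x) i
    rw [hcy.eq, mul_inv_cancel_right] at hxy
    have h1 : 2 ^ n ∣ 2 ^ (n - 1) - 2 := by
      rw [← hx, orderOf_dvd_iff_pow_eq_one]
      have h4 : (4 : ℕ) ≤ 2 ^ (n - 1) := Nat.pow_le_pow_right (n := 2) (by norm_num) (show 2 ≤ n - 1 by omega)
      apply mul_left_cancel (a := x)
      rw [← pow_succ', mul_one, show 2 ^ (n - 1) - 2 + 1 = 2 ^ (n - 1) - 1 by omega]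
      exact hxy.symm
    have h4 : (4 : ℕ) ≤ 2 ^ (n - 1) := Nat.pow_le_pow_right (n := 2) (by norm_num) (show 2 ≤ n - 1 by omega)
    have h5 : 2 ^ n = 2 * 2 ^ (n - 1) := by rw [← pow_succ']; congr 1; omega
    have := Nat.le_of_dvd (by omega) h1
    omega
  -- centralizer in `X` of an element outside `X`
  have hcent : ∀ w, w ∉ X → ∀ h ∈ X, h * w = w * h → h * h = 1 := by
    intro w hw h hh hcomm
    have hwy : w * y ∈ X := (Subgroup.mul_mem_iff_of_index_two hidx).2 (iff_of_false hw hyX)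
    obtain ⟨j, hj⟩ := Subgroup.mem_zpowers_iff.1 hwy
    obtain ⟨i, rfl⟩ := Subgroup.mem_zpowers_iff.1 hh
    have hyy : y * y = 1 := by rw [← pow_two, ← hy, pow_orderOf_eq_one]
    have hyi : y⁻¹ = y := inv_eq_of_mul_eq_one_right hyy
    have hw' : w = x ^ j * y := by rw [hj, mul_assoc, hyy, mul_one]
    have hconj : y * x ^ i * y⁻¹ = x ^ (((2 ^ (n - 1) - 1 : ℕ) : ℤ) * i) := by
      rw [← conj_zpow, hxy, zpow_mul, zpow_natCast]
    rw [hw'] at hcomm
    have h2 : x ^ i = x ^ (((2 ^ (n - 1) - 1 : ℕ) : ℤ) * i) := by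
      rw [← hconj]
      have : x ^ j * (x ^ i * y) = x ^ j * (y * x ^ i) := by
        rw [← mul_assoc, ← mul_assoc, ← zpow_add, add_comm, zpow_add, mul_assoc, hcomm, mul_assoc]
      rw [mul_left_cancel this |>.symm]
      group
    have h3 : ((2 : ℤ) ^ n) ∣ ((2 ^ (n - 1) - 1 : ℕ) : ℤ) * i - i := by
      have h6 : x ^ (((2 ^ (n - 1) - 1 : ℕ) : ℤ) * i - i) = 1 := by
        rw [zpow_sub, ← h2, mul_inv_cancel]
      rw [← orderOf_dvd_iff_zpow_eq_one, hx] at h6
      exact_mod_cast h6
    rw [Nat.cast_sub (Nat.one_le_two_pow)] at h3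
    push_cast at h3
    obtain ⟨k, hk⟩ := h3
    have hunit : IsCoprime ((2 : ℤ) ^ (n - 1)) (2 ^ (n - 2) - 1) := by
      refine IsCoprime.pow_left ⟨(2 : ℤ) ^ (n - 3), -1, ?_⟩
      rw [show n - 2 = n - 3 + 1 by omega, pow_succ]
      ring
    have hdvd : (2 : ℤ) ^ (n - 1) ∣ i := hunit.dvd_of_dvd_mul_left ⟨k, by
      rw [hn1] at hk
      rw [hn2] at hk ⊢
      linarith⟩
    obtain ⟨l, rfl⟩ := hdvd
    rw [← zpow_add, ← orderOf_dvd_iff_zpow_eq_one, hx]
    push_cast
    exact ⟨l, by rw [hn1]; ring⟩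
  have hab2 : a * b * (a * b) = 1 := by
    rw [show a * b * (a * b) = a * (b * a) * b by group, ← hc,
      show a * (a * b) * b = (a * a) * (b * b) by group, ha2, hb2, one_mul]
  have hab1 : a * b ≠ 1 := fun h => hab (mul_right_cancel (h.trans hb2.symm))
  obtain ⟨w, hwS, hw2, hwX, z, hzS, hzX, hz2, hz1, hzw⟩ :
      ∃ w, (w = a ∨ w = b) ∧ w * w = 1 ∧ w ∉ X ∧ ∃ z, (z = a ∨ z = b ∨ z = a * b) ∧ z ∈ X ∧
        z * z = 1 ∧ z ≠ 1 ∧ (z * w = a ∨ z * w = b ∨ z * w = a * b) := by
    by_cases haX : a ∈ X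
    · exact ⟨b, Or.inr rfl, hb2, fun hbX => hab (huniq a haX b hbX ha2 hb2 ha hb), a, Or.inl rfl,
        haX, ha2, ha, Or.inr (Or.inr rfl)⟩
    · by_cases hbX : b ∈ X
      · exact ⟨a, Or.inl rfl, ha2, haX, b, Or.inr (Or.inl rfl), hbX, hb2, hb, Or.inr (Or.inr hc.symm)⟩
      · exact ⟨b, Or.inr rfl, hb2, hbX, a * b, Or.inr (Or.inr rfl),
          (Subgroup.mul_mem_iff_of_index_two hidx).2 (iff_of_false haX hbX), hab2, hab1,
          Or.inl (by rw [mul_assoc, hb2, mul_one])⟩
  have hgw : g * w = w * g := by rcases hwS with rfl | rfl <;> assumption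
  by_cases hgX : g ∈ X
  · by_cases hg1 : g = 1
    · exact Or.inl hg1
    · rw [huniq g hgX z hzX (hcent w hwX g hgX hgw) hz2 hg1 hz1]
      exact Or.inr hzS
  · have hgwX : g * w ∈ X := (Subgroup.mul_mem_iff_of_index_two hidx).2 (iff_of_false hgX hwX)
    have hg' : g = g * w * w := by rw [mul_assoc, hw2, mul_one]
    by_cases hg1 : g * w = 1
    · rw [hg', hg1, one_mul]
      rcases hwS with h | h <;> simp [h]
    · rw [hg', huniq _ hgwX z hzX (hcent w hwX _ hgwX (by rw [← mul_assoc w, ← hgw]))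
        hz2 hg1 hz1]
      exact Or.inr hzw

/-- Let R be a finite group, t a central involution of R such that R ⧸ ⟨t⟩ is dihedral (of order ≥ 4) or quasi-dihedral, and A ≤ R an elementary abelian subgroup of order 8 containing t. Then C_R(A) = A. -/
theorem result {R : Type*} [Group R] [Finite R] (t : R) (ht : orderOf t = 2) (htz : t ∈ Subgroup.center R) [(Subgroup.zpowers t).Normal] (hq : (∃ m : ℕ, 2 ≤ m ∧ Nonempty (R ⧸ Subgroup.zpowers t ≃* DihedralGroup m)) ∨ Cfsg.IsQuasiDihedral (R ⧸ Subgroup.zpowers t)) (A : Subgroup R) (hA : Cfsg.IsElementaryAbelian 2 A) (hA8 : Nat.card A = 8) (htA : t ∈ A) : Subgroup.centralizer (A : Set R) = A := by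

  obtain ⟨hAc, hA2⟩ := hA
  have hcomm : ∀ p ∈ A, ∀ q ∈ A, p * q = q * p := fun p hp q hq =>
    congrArg Subtype.val (hAc.is_comm.comm ⟨p, hp⟩ ⟨q, hq⟩)
  have hle : Subgroup.zpowers t ≤ A := Subgroup.zpowers_le.2 htA
  set π := QuotientGroup.mk' (Subgroup.zpowers t) with hπ
  have hker : ∀ p, π p = 1 → p ∈ A := fun p hp => hle ((QuotientGroup.eq_one_iff p).1 hp)
  -- the image of `A` is a four group
  have hcard : Nat.card ↥(A.map π) = 4 := by
    have h1 := Subgroup.card_eq_card_quotient_mul_card_subgroup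
      ((Subgroup.zpowers t).subgroupOf A)
    rw [hA8, Nat.card_congr (Subgroup.subgroupOfEquivOfLe hle).toEquiv, Nat.card_zpowers, ht] at h1
    have e : Nat.card ↥(A.map π) = Nat.card (↥A ⧸ (π.comp A.subtype).ker) := by
      rw [Nat.card_congr (QuotientGroup.quotientKerEquivRange _).toEquiv, MonoidHom.range_comp,
        Subgroup.range_subtype]
    have e2 : (π.comp A.subtype).ker = (Subgroup.zpowers t).subgroupOf A := by
      rw [← MonoidHom.comap_ker, hπ, QuotientGroup.ker_mk', Subgroup.subgroupOf]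
    rw [e, e2]
    omega
  obtain ⟨a, haA, ha1⟩ : ∃ a ∈ A, π a ≠ 1 := by
    by_contra h
    push Not at h
    rw [(Subgroup.map_eq_bot_iff _).2 fun p hp => MonoidHom.mem_ker.2 (h p hp),
      Subgroup.card_bot] at hcard
    omega
  obtain ⟨b, hbA, hb1, hab⟩ : ∃ b ∈ A, π b ≠ 1 ∧ π a ≠ π b := by
    by_contra h
    push Not at h
    have hsub : A.map π ≤ Subgroup.zpowers (π a) := by
      rintro _ ⟨p, hp, rfl⟩
      by_cases hp1 : π p = 1
      · rw [hp1]; exact one_mem _
      · rw [← h p hp hp1]; exact Subgroup.mem_zpowers _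
    have := Nat.le_of_dvd Nat.card_pos (Subgroup.card_dvd_of_le hsub)
    rw [Nat.card_zpowers, orderOf_eq_prime (p := 2) (by rw [← map_pow, hA2 a haA, map_one]) ha1,
      hcard] at this
    omega
  have hsq : ∀ p ∈ A, π p * π p = 1 := fun p hp => by
    rw [← map_mul, ← pow_two, hA2 p hp, map_one]
  refine le_antisymm (fun r hr => ?_) fun p hp => Subgroup.mem_centralizer_iff.2 fun q hq =>
    hcomm q hq p hp
  have hra : ∀ p ∈ A, π r * π p = π p * π r := fun p hp => by
    rw [← map_mul, ← map_mul, Subgroup.mem_centralizer_iff.1 hr p hp]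
  have key : π r = 1 ∨ π r = π a ∨ π r = π b ∨ π r = π a * π b := by
    have hc : π a * π b = π b * π a := by rw [← map_mul, ← map_mul, hcomm a haA b hbA]
    rcases hq with ⟨m, hm, ⟨φ⟩⟩ | hq
    · have := dihedral_fourgroup hm (φ (π a)) (φ (π b)) (by simpa using ha1) (by simpa using hb1)
        (by simpa using hab) (by rw [← map_mul φ, hsq a haA, map_one])
        (by rw [← map_mul φ, hsq b hbA, map_one]) (by rw [← map_mul φ, ← map_mul φ, hc]) (φ (π r))
        (by rw [← map_mul φ, ← map_mul φ, hra a haA]) (by rw [← map_mul φ, ← map_mul φ, hra b hbA])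
      rwa [← map_mul φ, φ.map_eq_one_iff, φ.apply_eq_iff_eq, φ.apply_eq_iff_eq,
        φ.apply_eq_iff_eq] at this
    · exact qd_fourgroup hq (π a) (π b) ha1 hb1 hab (hsq a haA) (hsq b hbA) hc (π r) (hra a haA)
        (hra b hbA)
  have hlift : ∀ p ∈ A, π r = π p → r ∈ A := fun p hp h => by
    have := Subgroup.mul_mem _ hp (hker (p⁻¹ * r) (by rw [map_mul, map_inv, h, inv_mul_cancel]))
    simpa using this
  rcases key with h | h | h | h
  · exact hker r h
  · exact hlift a haA h
  · exact hlift b hbA h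
  · exact hlift _ (Subgroup.mul_mem _ haA hbA) (h.trans (map_mul π a b).symm)

end Cfsg.Agent.S1236
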