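import Cfsg.Statements.S1241
import Cfsg.Agent.Lib.SECount.TransferMod

set_option autoImplicit false
open Cfsg

namespace Cfsg.Agent.S1241

/-- Let G be a finite group, p a prime, H a subgroup of index prime to p, K a subgroup of H normal in H with H/K commutative, and g ∈ H ∖ K an element of p-power order such that for all integers m and all a ∈ G with a g^m a⁻¹ ∈ H one has a g^m a⁻¹ ∈ g^m K. Then g ∉ G'. -/
theorem result {G : Type*} [Group G] [Finite G] {p : ℕ} [Fact p.Prime] (H K : Subgroup G) (hHK : K ≤ H) (hKn : (K.subgroupOf H).Normal) (hab : ∀ x ∈ H, ∀ y ∈ H, x * y * x⁻¹ * y⁻¹ ∈ K) (hidx : Nat.Coprime p H.index) (g : G) (hgH : g ∈ H) (hgK : g ∉ K) (hgp : ∃ k : ℕ, orderOf g = p ^ k) (hctrl : ∀ (m : ℤ) (a : G), a * g ^ m * a⁻¹ ∈ H → (a * g ^ m * a⁻¹) * (g ^ m)⁻¹ ∈ K) : g ∉ commutator G := by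
  haveI := hKn
  letI : CommGroup (H ⧸ K.subgroupOf H) := { QuotientGroup.Quotient.group _ with
    mul_comm := fun a b => by
      induction a using QuotientGroup.induction_on with
      | _ x =>
        induction b using QuotientGroup.induction_on with
        | _ y =>
          rw [← QuotientGroup.mk_mul, ← QuotientGroup.mk_mul, QuotientGroup.eq,
            Subgroup.mem_subgroupOf]
          have h := hab (y⁻¹ : H) (y⁻¹ : H).2 (x⁻¹ : H) (x⁻¹ : H).2
          simpa [mul_assoc] using h }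
  set φ : H →* H ⧸ K.subgroupOf H := QuotientGroup.mk' _
  intro hgG
  obtain ⟨k, hk⟩ := hgp
  have h1 : MonoidHom.transfer φ g = φ ⟨g, hgH⟩ ^ H.index := by
    refine Lib.SECount.transfer_eq_map_pow φ hgH fun m g₀ hm => ?_
    have h := hctrl m g₀⁻¹ (by simpa using hm)
    rw [inv_inv, zpow_natCast] at h
    rw [← mul_inv_eq_one, ← map_pow, ← map_inv, ← map_mul]
    exact (QuotientGroup.eq_one_iff _).2 (Subgroup.mem_subgroupOf.2 h)
  rw [MonoidHom.mem_ker.1 (Abelianization.commutator_subset_ker _ hgG)] at h1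
  have h2 : orderOf (φ ⟨g, hgH⟩) ∣ p ^ k :=
    hk ▸ (orderOf_map_dvd φ _).trans (Subgroup.orderOf_mk g hgH).dvd
  have h3 : φ ⟨g, hgH⟩ = 1 := orderOf_eq_one_iff.1 (Nat.eq_one_of_dvd_coprimes
    (Nat.Coprime.pow_left k hidx) h2 (orderOf_dvd_of_pow_eq_one h1.symm))
  exact hgK (Subgroup.mem_subgroupOf.1 ((QuotientGroup.eq_one_iff _).1 h3))

end Cfsg.Agent.S1241
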