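import Cfsg.Statements.S1242
import Cfsg.Agent.Lib.SECount.TransferMod
import Cfsg.Agent.Lib.Transfer.PResidual

set_option autoImplicit false
open Cfsg
open scoped commutatorElement

namespace Cfsg.Agent.S1242

/-- Let G be a finite group, p a prime and H a subgroup of index prime to p such that any two elements of H of p-power order that are conjugate in G are conjugate in H. Then (O^p(G)·G') ∩ H = O^p(H)·H', where O^p denotes the subgroup generated by the elements of order prime to p. -/
theorem result {G : Type*} [Group G] [Finite G] {p : ℕ} [Fact p.Prime] (H : Subgroup G) (hidx : Nat.Coprime p H.index) (hfus : ∀ g ∈ H, (∃ k : ℕ, orderOf g = p ^ k) → ∀ a : G, a * g * a⁻¹ ∈ H → ∃ h ∈ H, h * g * h⁻¹ = a * g * a⁻¹) : (Cfsg.pResidual p G ⊔ commutator G) ⊓ H = (Cfsg.pResidual p ↥H ⊔ commutator ↥H).map H.subtype := by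
  haveI := Lib.Transfer.pResidual_characteristic (p := p) (G := ↥H)
  set K := Cfsg.pResidual p ↥H ⊔ commutator ↥H with hK
  haveI : K.Normal := Subgroup.sup_normal _ _
  letI : CommGroup (H ⧸ K) := { QuotientGroup.Quotient.group _ with
    mul_comm := fun a b => by
      induction a using QuotientGroup.induction_on with
      | _ x =>
        induction b using QuotientGroup.induction_on with
        | _ y =>
          rw [← QuotientGroup.mk_mul, ← QuotientGroup.mk_mul, QuotientGroup.eq]
          have h : ⁅y⁻¹, x⁻¹⁆ ∈ K := Subgroup.mem_sup_right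
            (Subgroup.commutator_mem_commutator (Subgroup.mem_top _) (Subgroup.mem_top _))
          simpa [commutatorElement_def, mul_assoc] using h }
  set φ : H →* H ⧸ K := QuotientGroup.mk' _
  have hp : IsPGroup p (H ⧸ K) := by
    refine Lib.Transfer.isPGroup_quotient_pResidual.of_surjective
      (QuotientGroup.map (Cfsg.pResidual p ↥H) K (MonoidHom.id _) le_sup_left) ?_
    intro a
    induction a using QuotientGroup.induction_on with
    | _ x => exact ⟨x, rfl⟩
  refine le_antisymm ?_ (le_inf ?_ (Subgroup.map_subtype_le K))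
  swap
  · rw [hK, Subgroup.map_sup]
    exact sup_le_sup (Lib.Transfer.pResidual_subgroup_le H)
      (Subgroup.map_subtype_commutator H ▸ Subgroup.commutator_mono le_top le_top)
  rintro x ⟨hx, hxH⟩
  have hagree : (MonoidHom.transfer φ).comp H.subtype = (powMonoidHom H.index).comp φ := by
    obtain ⟨P⟩ : Nonempty (Sylow p ↥H) := inferInstance
    refine MonoidHom.eq_of_eqOn_dense (s := ((Cfsg.pResidual p ↥H : Set H) ∪ ((P : Subgroup H) : Set H))) ?_ ?_
    · rw [Subgroup.closure_union, Subgroup.closure_eq, Subgroup.closure_eq]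
      exact Lib.Transfer.pResidual_sup_sylow P
    rintro h (hh | hh)
    · rw [MonoidHom.mem_ker.1 (Lib.Transfer.pResidual_le_ker hp
        ((MonoidHom.transfer φ).comp H.subtype) hh),
        MonoidHom.mem_ker.1 (Lib.Transfer.pResidual_le_ker hp ((powMonoidHom H.index).comp φ) hh)]
    · show MonoidHom.transfer φ (h : G) = φ h ^ H.index
      refine (Lib.SECount.transfer_eq_map_pow φ h.2 fun m g₀ hm => ?_ :
        MonoidHom.transfer φ (h : G) = φ ⟨h, h.2⟩ ^ H.index)
      obtain ⟨l, hl⟩ := P.2 ⟨h, hh⟩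
      have hl' : (h : G) ^ p ^ l = 1 := congrArg (fun z : (P : Subgroup H) => ((z : H) : G)) hl
      have hord : ∃ j : ℕ, orderOf ((h : G) ^ m) = p ^ j := by
        obtain ⟨j, -, hj⟩ := (Nat.dvd_prime_pow (Fact.out : p.Prime)).1
          (orderOf_dvd_of_pow_eq_one (show ((h : G) ^ m) ^ p ^ l = 1 by
            rw [← pow_mul, mul_comm, pow_mul, hl', one_pow]))
        exact ⟨j, hj⟩
      obtain ⟨c, hc, hce⟩ := hfus _ (Subgroup.pow_mem H h.2 m) hord g₀⁻¹ (by simpa using hm)
      have he : (⟨g₀⁻¹ * (h : G) ^ m * g₀, hm⟩ : H) = ⟨c, hc⟩ * h ^ m * ⟨c, hc⟩⁻¹ :=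
        Subtype.ext (by simpa using hce.symm)
      rw [he, map_mul, map_mul, map_pow, map_inv, mul_right_comm, mul_inv_cancel, one_mul]
  have h0 : MonoidHom.transfer φ x = 1 := MonoidHom.mem_ker.1
    (sup_le (Lib.Transfer.pResidual_le_ker hp _) (Abelianization.commutator_subset_ker _) hx)
  have h1 : φ ⟨x, hxH⟩ ^ H.index = 1 := by
    have := DFunLike.congr_fun hagree ⟨x, hxH⟩
    simpa [h0] using this.symm
  obtain ⟨j, hj⟩ := IsPGroup.iff_orderOf.1 hp (φ ⟨x, hxH⟩)
  refine ⟨⟨x, hxH⟩, (QuotientGroup.eq_one_iff _).1 (orderOf_eq_one_iff.1 ?_), rfl⟩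
  exact Nat.eq_one_of_dvd_coprimes (Nat.Coprime.pow_left j hidx) hj.dvd
    (orderOf_dvd_of_pow_eq_one h1)

end Cfsg.Agent.S1242
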