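import Cfsg.Statements.S1243
import Mathlib

set_option autoImplicit false
open Cfsg

namespace Cfsg.Agent.S1243

/-- Let T be a Sylow p-subgroup of the finite group G and W ≤ T a subgroup weakly closed in T. If d and g d g⁻¹ both centralize W, then g d g⁻¹ = h d h⁻¹ for some h ∈ N_G(W). -/
theorem result {G : Type*} [Group G] [Finite G] {p : ℕ} [Fact p.Prime] (T : Sylow p G) (W : Subgroup G) (hW : Cfsg.IsWeaklyClosed W (T : Subgroup G)) (d g : G) (hd : d ∈ Subgroup.centralizer (W : Set G)) (hgd : g * d * g⁻¹ ∈ Subgroup.centralizer (W : Set G)) : ∃ h ∈ Subgroup.normalizer (W : Set G), h * d * h⁻¹ = g * d * g⁻¹ := by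
  obtain ⟨hWT, hcl⟩ := hW
  set e := g * d * g⁻¹ with he
  set C := Subgroup.centralizer ({e} : Set G)
  have hW1 : W ≤ C := fun w hw =>
    Subgroup.mem_centralizer_singleton_iff.2 (Subgroup.mem_centralizer_iff.1 hgd w hw)
  have hW2 : W.map (MulAut.conj g).toMonoidHom ≤ C := by
    rintro _ ⟨w, hw, rfl⟩
    refine Subgroup.mem_centralizer_singleton_iff.2 ?_
    have hwd := Subgroup.mem_centralizer_iff.1 hd w hw
    simp only [MulEquiv.coe_toMonoidHom, MulAut.conj_apply, he]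
    calc g * w * g⁻¹ * (g * d * g⁻¹) = g * (w * d) * g⁻¹ := by group
      _ = g * d * g⁻¹ * (g * w * g⁻¹) := by rw [hwd]; group
  have hWp : IsPGroup p W := T.2.to_le hWT
  obtain ⟨P₁, hP₁⟩ := (hWp.of_equiv (Subgroup.subgroupOfEquivOfLe hW1).symm).exists_le_sylow
  obtain ⟨P₂, hP₂⟩ := ((hWp.map _).of_equiv
    (Subgroup.subgroupOfEquivOfLe hW2).symm).exists_le_sylow
  obtain ⟨c, hc⟩ := MulAction.exists_smul_eq C P₂ P₁
  obtain ⟨Q, hQ⟩ := (P₁.2.map C.subtype).exists_le_sylow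
  have m1 : W ≤ (Q : Subgroup G) := fun w hw =>
    hQ ⟨⟨w, hW1 hw⟩, hP₁ (Subgroup.mem_subgroupOf.2 hw), rfl⟩
  have m2 : ∀ w ∈ W, (c : G) * g * w * ((c : G) * g)⁻¹ ∈ (Q : Subgroup G) := by
    intro w hw
    have hm : g * w * g⁻¹ ∈ W.map (MulAut.conj g).toMonoidHom := ⟨w, hw, rfl⟩
    have h3 := Subgroup.smul_mem_pointwise_smul (⟨_, hW2 hm⟩ : C) (MulAut.conj c) _
      (hP₂ (Subgroup.mem_subgroupOf.2 hm))
    rw [← Sylow.coe_subgroup_smul, hc] at h3
    exact hQ ⟨_, h3, by simp [mul_assoc]⟩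
  obtain ⟨y, hy⟩ := MulAction.exists_smul_eq G Q T
  have hyQ : ∀ q ∈ (Q : Subgroup G), y * q * y⁻¹ ∈ (T : Subgroup G) := by
    intro q hq
    rw [← hy, Sylow.coe_subgroup_smul]
    exact Subgroup.smul_mem_pointwise_smul q (MulAut.conj y) _ hq
  have e1 := hcl y (by rintro _ ⟨w, hw, rfl⟩; exact hyQ w (m1 hw))
  have e2 := hcl (y * ((c : G) * g)) (by
    rintro _ ⟨w, hw, rfl⟩
    simpa [mul_assoc] using hyQ _ (m2 w hw))
  have hmem : ∀ a : G, W.map (MulAut.conj a).toMonoidHom = W →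
      a ∈ Subgroup.normalizer (W : Set G) := by
    intro a ha
    refine Subgroup.mem_normalizer_iff.2 fun w => ⟨fun hw => ha ▸ ⟨w, hw, rfl⟩, fun hw => ?_⟩
    rw [← ha] at hw
    obtain ⟨v, hv, hv'⟩ := hw
    simp only [MulEquiv.coe_toMonoidHom, MulAut.conj_apply] at hv'
    rwa [← mul_left_cancel (mul_right_cancel hv')]
  refine ⟨(c : G) * g, ?_, ?_⟩
  · simpa using Subgroup.mul_mem _ (Subgroup.inv_mem _ (hmem y e1)) (hmem _ e2)
  · have hce := Subgroup.mem_centralizer_singleton_iff.1 c.2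
    calc (c : G) * g * d * ((c : G) * g)⁻¹ = (c : G) * e * (c : G)⁻¹ := by rw [he]; group
      _ = e := by rw [hce, mul_inv_cancel_right]

end Cfsg.Agent.S1243
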