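import Cfsg.Statements.S1244
import Cfsg.Agent.Lib.SECount.NoIndexTwo
import Cfsg.Agent.Lib.Transfer.Abelian

set_option autoImplicit false
open Cfsg

namespace Cfsg.Agent.S1244

/-- Let G be a finite group with no subgroup of index 2 whose Sylow 2-subgroup S is commutative, and let R ≤ S be a subgroup whose 2-rank is exactly one less than the 2-rank r of S. Then every involution of S is conjugate, by an element of N_G(S), to an element of R. -/
theorem result {G : Type*} [Group G] [Finite G] (hG : ∀ H : Subgroup G, H.index ≠ 2) (S : Sylow 2 G) (hS : IsMulCommutative (S : Subgroup G)) (r : ℕ) (hr1 : 1 ≤ r) (hSr : Cfsg.PRankLE 2 r (S : Subgroup G) ∧ ¬ Cfsg.PRankLE 2 (r - 1) (S : Subgroup G)) (R : Subgroup G) (hRS : R ≤ S) (hRr : Cfsg.PRankLE 2 (r - 1) R ∧ (r = 1 ∨ ¬ Cfsg.PRankLE 2 (r - 2) R)) (t : G) (ht : orderOf t = 2) (htS : t ∈ S) : ∃ n ∈ Subgroup.normalizer ((S : Subgroup G) : Set G), n * t * n⁻¹ ∈ R := by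
  haveI : Fact (Nat.Prime 2) := ⟨Nat.prime_two⟩
  classical
  set N := Subgroup.normalizer ((S : Subgroup G) : Set G) with hN
  obtain ⟨h1, h2, -⟩ := Lib.Transfer.abelian_sylow_normalizer S hS
  rw [h1, inf_eq_right.2 (Lib.SECount.le_commutator_of_no_index_two hG S.2), ← hN] at h2
  have hfix : ∀ s ∈ (S : Subgroup G), (∀ n ∈ N, n * s * n⁻¹ = s) → s = 1 := by
    intro s hs hn
    have : s ∈ (S : Subgroup G) ⊓ ((S : Subgroup G) ⊓ Subgroup.centralizer (N : Set G)) :=
      ⟨hs, hs, Subgroup.mem_centralizer_iff.2 fun n hn' => mul_inv_eq_iff_eq_mul.1 (hn n hn')⟩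
    rw [h2] at this
    exact Subgroup.mem_bot.1 this
  -- the subgroup `V` of elements of order at most 2
  letI : CommGroup (S : Subgroup G) := { (S : Subgroup G).toGroup with mul_comm := hS.is_comm.comm }
  set V : Subgroup (S : Subgroup G) := (powMonoidHom 2 : (S : Subgroup G) →* _).ker with hV
  set W : Subgroup (S : Subgroup G) := R.subgroupOf (S : Subgroup G) ⊓ V with hW
  have hV2 : ∀ a : (S : Subgroup G), a ∈ V ↔ a ^ 2 = 1 := fun a => MonoidHom.mem_ker
  have hsubV : ∀ A : Subgroup (S : Subgroup G), (∀ a ∈ A, a ^ 2 = 1) → A ≤ V :=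
    fun A hA a ha => (hV2 a).2 (hA a ha)
  have hcardV : Nat.card V = 2 ^ r := by
    obtain ⟨n, hn⟩ := IsPGroup.iff_card.1 (S.2.to_subgroup V)
    have hle := hSr.1 V ⟨⟨fun a b => Subtype.ext (mul_comm _ _)⟩⟩ fun a ha => (hV2 a).1 ha
    have hgt : ¬ Nat.card V ≤ 2 ^ (r - 1) := fun h => hSr.2 fun A _ hA =>
      (Subgroup.card_le_of_le (hsubV A hA)).trans h
    rw [hn] at hle hgt ⊢
    rw [Nat.pow_le_pow_iff_right (by norm_num)] at hle hgt
    congr 1; omega
  have hcardW : Nat.card W = 2 ^ (r - 1) := by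
    have hmap : Nat.card (W.map (S : Subgroup G).subtype) = Nat.card W :=
      Subgroup.card_map_of_injective (Subgroup.subtype_injective _)
    have hWR : W.map (S : Subgroup G).subtype ≤ R := by
      rintro _ ⟨w, hw, rfl⟩; exact hw.1
    obtain ⟨n, hn⟩ := IsPGroup.iff_card.1 (S.2.to_subgroup W)
    have hle : Nat.card W ≤ 2 ^ (r - 1) := by
      have := hRr.1 ((W.map (S : Subgroup G).subtype).subgroupOf R)
        ⟨⟨fun a b => Subtype.ext (Subtype.ext (congrArg Subtype.val
          (hS.is_comm.comm ⟨_, hRS a.1.2⟩ ⟨_, hRS b.1.2⟩) :))⟩⟩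
        fun a ha => by
          obtain ⟨w, hw, hwa⟩ := ha
          exact Subtype.ext (by
            rw [Subgroup.coe_pow, show (a : G) = (w : G) from hwa.symm]
            exact congrArg Subtype.val ((hV2 w).1 hw.2))
      rwa [Nat.card_congr (Subgroup.subgroupOfEquivOfLe hWR).toEquiv, hmap] at this
    rcases hRr.2 with hr | hr
    · subst hr
      exact le_antisymm hle Nat.card_pos
    · have hgt : ¬ Nat.card W ≤ 2 ^ (r - 2) := fun h => hr fun A _ hA => by
        refine le_trans ?_ h
        rw [← hmap, ← Subgroup.card_map_of_injective (K := A) (Subgroup.subtype_injective R)]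
        refine Subgroup.card_le_of_le ?_
        rintro _ ⟨a, ha, rfl⟩
        exact ⟨⟨a, hRS a.2⟩, ⟨a.2, (hV2 _).2 (Subtype.ext (congrArg Subtype.val (hA a ha) :))⟩, rfl⟩
      rw [hn] at hle hgt ⊢
      rw [Nat.pow_le_pow_iff_right (by norm_num)] at hle hgt
      congr 1; omega
  have hWidx : (W.subgroupOf V).index = 2 := by
    have h := (W.subgroupOf V).card_mul_index
    rw [Nat.card_congr (Subgroup.subgroupOfEquivOfLe inf_le_right).toEquiv, hcardW, hcardV] at h
    obtain ⟨r', rfl⟩ : ∃ r', r = r' + 1 := ⟨r - 1, by omega⟩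
    rw [pow_succ, Nat.add_sub_cancel] at h
    exact Nat.eq_of_mul_eq_mul_left (by positivity) h
  -- suppose no conjugate of `t` lies in `R`
  by_contra hno
  push Not at hno
  haveI : Fintype (S : Subgroup G) := Fintype.ofFinite _
  haveI : Fintype V := Fintype.ofFinite _
  let O : Finset V := Finset.univ.filter fun v : V => ∃ n ∈ N, n * t * n⁻¹ = ((v : (S : Subgroup G)) : G)
  have hmemO : ∀ v : V, v ∈ O ↔ ∃ n ∈ N, n * t * n⁻¹ = ((v : (S : Subgroup G)) : G) := fun v => by
    simp [O]
  have hOW : ∀ v ∈ O, v ∉ W.subgroupOf V := by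
    intro v hv hvW
    obtain ⟨n, hn, hnv⟩ := (hmemO v).1 hv
    exact hno n hn (hnv ▸ hvW.1)
  let f : V →* Multiplicative (ZMod 2) :=
    { toFun := fun v => Multiplicative.ofAdd (if v ∈ W.subgroupOf V then 0 else 1)
      map_one' := by simp [one_mem]
      map_mul' := fun a b => by
        rw [← ofAdd_add]
        congr 1
        by_cases ha : a ∈ W.subgroupOf V <;> by_cases hb : b ∈ W.subgroupOf V <;>
          simp [Subgroup.mul_mem_iff_of_index_two hWidx, ha, hb]
        rfl }
  -- conjugation by `N` permutes `O`, so fixes the product of its elements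
  have hst : ∀ n ∈ N, n * ((∏ v ∈ O, v : V) : G) * n⁻¹ = ((∏ v ∈ O, v : V) : G) := by
    intro n hn
    have hmemS : ∀ a : (S : Subgroup G), n * (a : G) * n⁻¹ ∈ (S : Subgroup G) :=
      fun a => (Subgroup.mem_normalizer_iff.1 hn a).1 a.2
    let c : V →* V :=
      { toFun := fun v => ⟨⟨n * ((v : (S : Subgroup G)) : G) * n⁻¹, hmemS v⟩, (hV2 _).2 (Subtype.ext (by
          rw [Subgroup.coe_pow, conj_pow]
          simp [show ((v : (S : Subgroup G)) : G) ^ 2 = 1 from congrArg Subtype.val ((hV2 _).1 v.2)]))⟩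
        map_one' := by ext; simp
        map_mul' := fun a b => by ext; simp [mul_assoc] }
    have hinj : Function.Injective c := fun a b h => by
      have := congrArg (fun v : V => ((v : (S : Subgroup G)) : G)) h
      simpa [c] using this
    have himg : O.image c = O := by
      refine Finset.eq_of_subset_of_card_le (fun v hv => ?_) ?_
      · obtain ⟨w, hw, rfl⟩ := Finset.mem_image.1 hv
        obtain ⟨k, hk, hkw⟩ := (hmemO w).1 hw
        exact (hmemO _).2 ⟨n * k, Subgroup.mul_mem _ hn hk, by simp [c, ← hkw, mul_assoc]⟩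
      · rw [Finset.card_image_of_injective _ hinj]
    have e : c (∏ v ∈ O, v) = ∏ v ∈ O, v := by
      rw [map_prod]
      conv_rhs => rw [← himg]
      rw [Finset.prod_image fun a _ b _ h => hinj h]
    exact congrArg (fun v : V => ((v : (S : Subgroup G)) : G)) e
  have hs1 : (∏ v ∈ O, v : V) = 1 := Subtype.ext (Subtype.ext (hfix _ (∏ v ∈ O, v : V).1.2 hst))
  -- the orbit of an involution has odd length
  have hcard : Odd O.card := by
    let F : N → V := fun n => ⟨⟨(n : G) * t * (n : G)⁻¹, (Subgroup.mem_normalizer_iff.1 n.2 t).1 htS⟩,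
      (hV2 _).2 (Subtype.ext (by
        rw [Subgroup.coe_pow, conj_pow]
        simp [show t ^ 2 = 1 by rw [← ht, pow_orderOf_eq_one]]))⟩
    let Ct := (Subgroup.centralizer ({t} : Set G)).subgroupOf N
    have hwd : ∀ a b : N, QuotientGroup.leftRel Ct a b → F a = F b := by
      intro a b hab
      rw [QuotientGroup.leftRel_apply, Subgroup.mem_subgroupOf,
        Subgroup.mem_centralizer_singleton_iff] at hab
      refine Subtype.ext (Subtype.ext ?_)
      show (a : G) * t * (a : G)⁻¹ = (b : G) * t * (b : G)⁻¹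
      calc (a : G) * t * (a : G)⁻¹
          = (a : G) * (t * ((a⁻¹ * b : N) : G)) * (b : G)⁻¹ := by simp [mul_assoc]
        _ = (b : G) * t * (b : G)⁻¹ := by rw [← hab]; simp [mul_assoc]
    let F' : N ⧸ Ct → V := fun q => Quotient.liftOn' q F hwd
    have hF'inj : Function.Injective F' := by
      intro q q' h
      induction q using QuotientGroup.induction_on with
      | _ a =>
        induction q' using QuotientGroup.induction_on with
        | _ b =>
          rw [QuotientGroup.eq, Subgroup.mem_subgroupOf, Subgroup.mem_centralizer_singleton_iff]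
          have h' : (a : G) * t * (a : G)⁻¹ = (b : G) * t * (b : G)⁻¹ :=
            congrArg (fun v : V => ((v : (S : Subgroup G)) : G)) h
          calc ((a⁻¹ * b : N) : G) * t = (a : G)⁻¹ * ((b : G) * t * (b : G)⁻¹) * b := by
                simp [mul_assoc]
            _ = t * ((a⁻¹ * b : N) : G) := by rw [← h']; simp [mul_assoc]
    haveI : Fintype (N ⧸ Ct) := Fintype.ofFinite _
    have himg : (Finset.univ : Finset (N ⧸ Ct)).image F' = O := by
      ext v
      simp only [Finset.mem_image, Finset.mem_univ, true_and, hmemO]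
      constructor
      · rintro ⟨q, rfl⟩
        induction q using QuotientGroup.induction_on with
        | _ a => exact ⟨a, a.2, rfl⟩
      · rintro ⟨n, hn, hnv⟩
        exact ⟨QuotientGroup.mk ⟨n, hn⟩, Subtype.ext (Subtype.ext hnv)⟩
    rw [← himg, Finset.card_image_of_injective _ hF'inj, Finset.card_univ,
      ← Nat.card_eq_fintype_card, ← Subgroup.index_eq_card, ← Nat.not_even_iff_odd,
      even_iff_two_dvd]
    intro h
    have hSC : (S : Subgroup G).subgroupOf N ≤ Ct := fun a ha => by
      rw [Subgroup.mem_subgroupOf, Subgroup.mem_centralizer_singleton_iff]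
      exact congrArg Subtype.val (hS.is_comm.comm ⟨a.1, ha⟩ ⟨t, htS⟩)
    exact (S.subtype Subgroup.le_normalizer).not_dvd_index
      (h.trans (Subgroup.index_dvd_of_le hSC))
  have hf := congrArg f hs1
  rw [map_prod, map_one, Finset.prod_congr rfl (g := fun _ => Multiplicative.ofAdd (1 : ZMod 2))
    (fun v hv => by simp [f, hOW v hv]), Finset.prod_const] at hf
  obtain ⟨k, hk⟩ := hcard
  rw [hk, pow_succ, pow_mul] at hf
  revert hf
  rw [show (Multiplicative.ofAdd (1 : ZMod 2)) ^ 2 = 1 from by rw [pow_two, ← ofAdd_add]; rfl, one_pow, one_mul]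
  intro hf
  exact one_ne_zero (congrArg Multiplicative.toAdd hf)

end Cfsg.Agent.S1244
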