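import Cfsg.Statements.S1246
import Cfsg.Agent.Lib.CharP.Fitting
import Cfsg.Agent.Lib.Coprime.Basic

set_option autoImplicit false
open Cfsg

namespace Cfsg.Agent.S1246

open Subgroup
open Cfsg.Agent.Lib

theorem char_of_isPGroup_fstar {H : Type*} [Group H] [Finite H] {p : ℕ} [Fact p.Prime]
    (h : IsPGroup p ↥(Cfsg.generalizedFittingSubgroup H)) :
    centralizer (pCore p H : Set H) ≤ pCore p H := by
  haveI := Components.generalizedFittingSubgroup_normal (G := H)
  have hle : Cfsg.generalizedFittingSubgroup H ≤ pCore p H := PSolvable.le_pCore h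
  exact (centralizer_le hle).trans
    (Components.centralizer_generalizedFittingSubgroup_le.trans hle)

theorem char_centralizer_step {G : Type*} [Group G] [Finite G] {p : ℕ} [Fact p.Prime]
    {V W : Subgroup G} (hVW : V ≤ W) (hW : IsPGroup p W) (hn : W ≤ normalizer (V : Set G))
    (h : centralizer (pCore p (centralizer (V : Set G)) : Set (centralizer (V : Set G))) ≤
      pCore p (centralizer (V : Set G))) :
    centralizer (pCore p (centralizer (W : Set G)) : Set (centralizer (W : Set G))) ≤
      pCore p (centralizer (W : Set G)) := by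
  set X := centralizer (V : Set G) with hX
  set Y := centralizer (W : Set G) with hY
  have hYX : Y ≤ X := centralizer_le hVW
  set Q := Cfsg.pCoreOf p X with hQ
  have hWX : W ≤ normalizer (X : Set G) := Lib.CharP.le_normalizer_centralizer hn
  have hWQ : W ≤ normalizer (Q : Set G) := fun w hw => by
    refine mem_normalizer_fintype ?_
    rintro _ ⟨⟨x, hx⟩, hxQ, rfl⟩
    let e : X ≃* X := {
      toFun := fun y => ⟨w * y * w⁻¹, (mem_normalizer_iff.mp (hWX hw) y).mp y.2⟩
      invFun := fun y => ⟨w⁻¹ * y * w, by
        simpa using (mem_normalizer_iff.mp (inv_mem (hWX hw)) y).mp y.2⟩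
      left_inv := fun y => Subtype.ext (by group)
      right_inv := fun y => Subtype.ext (by group)
      map_mul' := fun a b => Subtype.ext (by simp [mul_assoc]) }
    refine ⟨e ⟨x, hx⟩, ?_, rfl⟩
    rw [← PSolvable.map_pCore_equiv e]
    exact ⟨_, hxQ, rfl⟩
  have hQY : Q ⊓ Y ≤ Cfsg.pCoreOf p Y :=
    Lib.CharP.le_pCoreOf inf_le_right ((Lib.CharP.pCoreOf_isPGroup X).to_le inf_le_left) fun g hg =>
      inf_normalizer_le_normalizer_inf
        ⟨Lib.CharP.le_normalizer_pCoreOf X (hYX hg), le_normalizer hg⟩
  refine Lib.CharP.centralizer_pCore_le_of_forall fun x hxY hx hxc => ?_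
  refine Lib.CharP.eq_one_of_centralizes_pCoreOf h (hYX hxY) hx
    (Coprime.thompson_PxQ (U := Q) (Q := zpowers x) hW ?_ (Lib.CharP.pCoreOf_isPGroup X) ?_ hWQ ?_ ?_
      (mem_zpowers x))
  · rwa [Nat.card_zpowers]
  · exact le_centralizer_iff.mp (zpowers_le.mpr hxY)
  · exact zpowers_le.mpr (Lib.CharP.le_normalizer_pCoreOf X (hYX hxY))
  · exact le_centralizer_iff.mp (zpowers_le.mpr (centralizer_le (fun y hy => hQY hy) hxc))

theorem char_centralizer_mono {G : Type*} [Group G] [Finite G] {p : ℕ} [Fact p.Prime]
    {U : Subgroup G} (hU : IsPGroup p U) (V : Subgroup G) (hVU : V ≤ U)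
    (h : centralizer (pCore p (centralizer (V : Set G)) : Set (centralizer (V : Set G))) ≤
      pCore p (centralizer (V : Set G))) :
    centralizer (pCore p (centralizer (U : Set G)) : Set (centralizer (U : Set G))) ≤
      pCore p (centralizer (U : Set G)) := by
  induction hd : Nat.card U - Nat.card V using Nat.strong_induction_on generalizing V with
  | _ n ih =>
    rcases hVU.eq_or_lt with rfl | hlt
    · exact h
    have : Group.IsNilpotent U := hU.isNilpotent
    obtain ⟨g, hg, hgn⟩ := SetLike.exists_of_lt (Group.normalizerCondition_of_isNilpotent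
      (G := U) (V.subgroupOf U) (lt_top_iff_ne_top.mpr
        (fun ht => hlt.not_ge (subgroupOf_eq_top.mp ht))))
    set W := U ⊓ normalizer (V : Set G) with hWdef
    have hgW : (g : G) ∈ W := by
      refine ⟨g.2, mem_normalizer_iff.mpr fun v => ⟨fun hv => ?_, fun hv => ?_⟩⟩
      · exact (mem_normalizer_iff.mp hg ⟨v, hVU hv⟩).mp hv
      · have hv' : v ∈ U := by
          simpa [mul_assoc] using U.mul_mem (U.mul_mem (U.inv_mem g.2) (hVU hv)) g.2
        exact (mem_normalizer_iff.mp hg ⟨v, hv'⟩).mpr hv
    have hVW : V < W := lt_of_le_of_ne (le_inf hVU le_normalizer) fun he => by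
      apply hgn
      show (g : G) ∈ V
      rwa [← he] at hgW
    have hc : Nat.card V < Nat.card W := Set.Finite.card_lt_card (Set.toFinite _) hVW
    have hc2 : Nat.card W ≤ Nat.card U := card_le_of_le inf_le_left
    exact ih (Nat.card U - Nat.card W) (by omega) W inf_le_left
      (char_centralizer_step hVW.le (hU.to_le inf_le_left) inf_le_right h) rfl


/-- Let V ≤ U be p-subgroups of the finite group G. If the generalized Fitting subgroup of C_G(V) is a p-group, then so is that of C_G(U). -/
theorem result {G : Type*} [Group G] [Finite G] {p : ℕ} [Fact p.Prime] (U V : Subgroup G) (hVU : V ≤ U) (hU : IsPGroup p U) (hV : IsPGroup p ↥(Cfsg.generalizedFittingSubgroup ↥(Subgroup.centralizer (V : Set G)))) : IsPGroup p ↥(Cfsg.generalizedFittingSubgroup ↥(Subgroup.centralizer (U : Set G))) := by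

  rw [Lib.CharP.generalizedFittingSubgroup_eq_pCore
    (char_centralizer_mono hU V hVU (char_of_isPGroup_fstar hV))]
  exact Lib.PSolvable.pCore_isPGroup

end Cfsg.Agent.S1246
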