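import Cfsg.Statements.S1247
import Cfsg.Agent.Lib.Components.GenFitting
import Cfsg.Agent.Lib.CharTwo.Basic
import Cfsg.Agent.Lib.Coprime.Basic
import Cfsg.Agent.Lib.PSolvable.Core

set_option autoImplicit false
open Cfsg

namespace Cfsg.Agent.S1247

open Subgroup
open Cfsg.Agent.Lib

section Abstract

variable {H : Type*} [Group H] [Finite H] {p : ℕ} [hp : Fact p.Prime]

theorem closure_coprime_eq_top (hperf : ⁅(⊤ : Subgroup H), (⊤ : Subgroup H)⁆ = (⊤ : Subgroup H)) :
    closure {g : H | (orderOf g).Coprime p} = ⊤ := by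
  set K := closure {g : H | (orderOf g).Coprime p} with hK
  have hn : K.Normal := by
    refine normalizer_eq_top_iff.mp (eq_top_iff.mpr fun g _ => ?_)
    have key : ∀ a : H, ∀ y ∈ K, a * y * a⁻¹ ∈ K := by
      intro a y hy
      induction hy using closure_induction with
      | mem x hx => exact subset_closure (show (orderOf (a * x * a⁻¹)).Coprime p by
          rwa [show orderOf (a * x * a⁻¹) = orderOf x from (MulAut.conj a).orderOf_eq x])
      | one => simp
      | mul x z _ _ hx hz => simpa [mul_assoc] using mul_mem hx hz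
      | inv x _ hx => simpa [mul_assoc] using inv_mem hx
    exact mem_normalizer_fintype (key g)
  have hQ : IsPGroup p (H ⧸ K) := by
    intro x
    obtain ⟨g, rfl⟩ := QuotientGroup.mk_surjective x
    obtain ⟨k, m, hm, hkm⟩ :=
      Nat.exists_eq_pow_mul_and_not_dvd (orderOf_pos g).ne' p hp.out.ne_one
    refine ⟨k, ?_⟩
    rw [← QuotientGroup.mk_pow, QuotientGroup.eq_one_iff]
    refine subset_closure (show (orderOf (g ^ p ^ k)).Coprime p from ?_)
    rw [orderOf_pow, hkm, Nat.gcd_mul_right_left, Nat.mul_div_cancel_left m (pow_pos hp.out.pos k)]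
    exact (hp.out.coprime_iff_not_dvd.mpr hm).symm
  have := hQ.isNilpotent
  by_contra hne
  have hq : ⁅(⊤ : Subgroup (H ⧸ K)), (⊤ : Subgroup (H ⧸ K))⁆ = (⊤ : Subgroup (H ⧸ K)) := by
    rw [← map_top_of_surjective (QuotientGroup.mk' K) (QuotientGroup.mk'_surjective K),
      ← map_commutator, hperf]
  obtain ⟨n, hn'⟩ := (Group.IsSolvable.solvable (G := H ⧸ K))
  have hall : ∀ m, derivedSeries (H ⧸ K) m = ⊤ := fun m => by
    induction m with
    | zero => rfl
    | succ m ih => rw [derivedSeries_succ, ih, hq]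
  rw [hall n] at hn'
  apply hne
  rw [eq_top_iff]
  intro g _
  have : (QuotientGroup.mk g : H ⧸ K) ∈ (⊥ : Subgroup (H ⧸ K)) := hn' ▸ mem_top _
  rwa [mem_bot, QuotientGroup.eq_one_iff] at this

/-- `O_{p'}(F(H))`. -/
def fitPrime (p : ℕ) (H : Type*) [Group H] : Subgroup H := pPrimeCore p H ⊓ fittingSubgroup H

theorem fitPrime_normal : (fitPrime p H).Normal := by
  have := Components.fittingSubgroup_normal (G := H)
  exact Subgroup.normal_inf_normal _ _

theorem fitPrime_coprime : (Nat.card (fitPrime p H)).Coprime p :=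
  PSolvable.coprime_of_le inf_le_left PSolvable.pPrimeCore_coprime

theorem commute_pCore_fitPrime {a b : H} (ha : a ∈ pCore p H) (hb : b ∈ fitPrime p H) :
    Commute a b :=
  commute_of_normal_of_disjoint _ _ inferInstance inferInstance
    (disjoint_iff.mpr PSolvable.pCore_inf_pPrimeCore) a b ha hb.1

theorem exists_fitting_decomp {f : H} (hf : f ∈ fittingSubgroup H) :
    ∃ a ∈ pCore p H, ∃ b ∈ fitPrime p H, a * b = f := by
  haveI := fitPrime_normal (p := p) (H := H)
  refine (mem_sup_of_normal_right (t := fitPrime p H)).mp ?_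
  revert f
  show fittingSubgroup H ≤ pCore p H ⊔ fitPrime p H
  rw [Components.fittingSubgroup_eq_iSup_pCore]
  refine iSup_le fun q => ?_
  haveI : Fact (q : ℕ).Prime := ⟨Nat.prime_of_mem_primeFactors q.2⟩
  by_cases hq : (q : ℕ) = p
  · rw [hq]; exact le_sup_left
  refine le_trans (le_inf ?_ ?_) le_sup_right
  · obtain ⟨k, hk⟩ := IsPGroup.iff_card.mp (PSolvable.pCore_isPGroup (G := H) (p := (q : ℕ)))
    refine PSolvable.le_pPrimeCore ?_
    rw [hk]
    exact ((Nat.coprime_primes Fact.out hp.out).mpr hq).pow_left k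
  · exact Components.pCore_le_fittingSubgroup _

theorem coprime_mem_fitPrime {x : H} (hx : x ∈ fittingSubgroup H)
    (hcop : (orderOf x).Coprime p) : x ∈ fitPrime p H := by
  obtain ⟨a, ha, b, hb, rfl⟩ := exists_fitting_decomp (p := p) hx
  have h1 : a ^ orderOf (a * b) * b ^ orderOf (a * b) = 1 := by
    rw [← (commute_pCore_fitPrime ha hb).mul_pow, pow_orderOf_eq_one]
  have h2 : a ^ orderOf (a * b) = 1 := by
    have h3 : a ^ orderOf (a * b) ∈ (⊥ : Subgroup H) := by
      rw [← PSolvable.pCore_inf_pPrimeCore (p := p)]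
      exact ⟨pow_mem ha _, by
        rw [eq_inv_of_mul_eq_one_left h1]
        exact Subgroup.inv_mem _ (Subgroup.pow_mem _ hb.1 _)⟩
    exact mem_bot.mp h3
  obtain ⟨k, hk⟩ := IsPGroup.iff_orderOf.mp (PSolvable.pCore_isPGroup (G := H) (p := p)) ⟨a, ha⟩
  rw [← Subgroup.orderOf_coe] at hk
  have : a = 1 := orderOf_eq_one_iff.mp
    (Nat.eq_one_of_dvd_coprimes (hcop.pow_right k) (orderOf_dvd_of_pow_eq_one h2) (by rw [hk]))
  rw [this, one_mul]
  exact hb

theorem commute_of_pow_coprime {x y : H} {a b : ℕ} (hab : a.Coprime b)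
    (ha : Commute x (y ^ a)) (hb : Commute x (y ^ b)) : Commute x y := by
  have h := (ha.zpow_right (Nat.gcdA a b)).mul_right (hb.zpow_right (Nat.gcdB a b))
  rwa [← zpow_natCast, ← zpow_natCast, ← zpow_mul, ← zpow_mul, ← zpow_add, ← Nat.gcd_eq_gcd_ab,
    hab.gcd_eq_one, Nat.cast_one, zpow_one] at h

theorem center_ne_bot_of_nilpotent (N : Type*) [Group N] [hN : Group.IsNilpotent N] [Nontrivial N] :
    center N ≠ ⊥ := by
  intro h
  have hz : ∀ n, Subgroup.upperCentralSeries N n = ⊥ := by
    intro n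
    induction n with
    | zero => rfl
    | succ n ih =>
      rw [eq_bot_iff, ← h]
      intro x hx
      rw [mem_center_iff]
      intro y
      have h1 := (Subgroup.mem_upperCentralSeries_succ_iff.mp hx) y
      rw [ih, mem_bot, commutatorElement_eq_one_iff_commute] at h1
      exact h1.eq.symm
  obtain ⟨n, hn⟩ := hN.nilpotent'
  rw [hz n] at hn
  exact bot_ne_top hn

theorem le_centralizer_of_self_centralizing {D R R0 : Subgroup H} (hD : IsPGroup p D)
    (hR : Group.IsNilpotent R) (hcop : (Nat.card R).Coprime p)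
    (hDR : D ≤ normalizer (R : Set H)) (hR0 : R0 ≤ R) (hC : R ⊓ centralizer (R0 : Set H) ≤ R0)
    (hD0 : D ≤ centralizer (R0 : Set H)) : D ≤ centralizer (R : Set H) := by
  set M := R ⊓ centralizer (D : Set H) with hM
  have hM0 : R0 ≤ M := le_inf hR0 (le_centralizer_iff.mp hD0)
  suffices R ≤ M from le_centralizer_iff.mp (this.trans inf_le_right)
  by_contra hne
  obtain ⟨g, hg, hgn⟩ := SetLike.exists_of_lt (Group.normalizerCondition_of_isNilpotent
    (G := R) (M.subgroupOf R) (lt_top_iff_ne_top.mpr fun h => hne (subgroupOf_eq_top.mp h)))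
  refine hgn (show (g : H) ∈ M from ⟨g.2, mem_centralizer_iff.mpr fun d hd => ?_⟩)
  have hdR : d * g * d⁻¹ ∈ R := (mem_normalizer_iff.mp (hDR hd) g).mp g.2
  have hc : (g : H) * d * (g : H)⁻¹ * d⁻¹ ∈ M := by
    have hcR : (g : H) * d * (g : H)⁻¹ * d⁻¹ ∈ R := by
      have := R.mul_mem g.2 (R.inv_mem hdR)
      simpa [mul_assoc] using this
    refine hM0 (hC ⟨hcR, mem_centralizer_iff.mpr fun r hr => ?_⟩)
    have hgr : (g : H)⁻¹ * r * g ∈ M := by
      have h1 := (mem_normalizer_iff.mp (inv_mem hg) ⟨r, hR0 hr⟩).mp (hM0 hr)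
      simpa [mem_subgroupOf] using h1
    have hcd : Commute d ((g : H)⁻¹ * r * g) := mem_centralizer_iff.mp hgr.2 d hd
    have hcd' : Commute d r := mem_centralizer_iff.mp (hM0 hr).2 d hd
    have e1 : ((g : H) * d * (g : H)⁻¹) * r = r * ((g : H) * d * (g : H)⁻¹) := by
      calc (g : H) * d * (g : H)⁻¹ * r = g * (d * ((g : H)⁻¹ * r * g)) * (g : H)⁻¹ := by group
        _ = r * ((g : H) * d * (g : H)⁻¹) := by rw [hcd.eq]; group
    exact ((show Commute ((g : H) * d * (g : H)⁻¹) r from e1).mul_left hcd'.inv_left).symm.eq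
  refine (Coprime.commute_of_commute_commutator (mem_centralizer_iff.mp hc.2 d hd).symm
    ?_).symm.eq
  obtain ⟨k, hk⟩ := IsPGroup.iff_orderOf.mp hD ⟨d, hd⟩
  rw [← Subgroup.orderOf_coe] at hk
  rw [hk]
  exact (Nat.Coprime.pow_right k (Nat.Coprime.coprime_dvd_left
    ((Subgroup.orderOf_coe (⟨_, hc.1⟩ : R)).symm ▸ orderOf_dvd_natCard _) hcop)).symm

variable {S : Subgroup H}

theorem layer_le_of_selfCentralizing (hsn : S.IsSubnormal)
    (hC : generalizedFittingSubgroup H ⊓ centralizer (S : Set H) ≤ S) : layer H ≤ S := by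
  refine Components.layer_le_iff.mpr fun L hL => ?_
  by_contra h
  exact h (fun x hx => hC ⟨(Components.isComponent_le_layer hL).trans le_sup_left hx,
    Components.isComponent_le_centralizer_of_not_le hL hsn h hx⟩)

theorem commute_layer_fitting {e f : H} (he : e ∈ layer H) (hf : f ∈ fittingSubgroup H) :
    Commute f e := mem_centralizer_iff.mp (Components.layer_le_centralizer_fittingSubgroup he) f hf

theorem exists_gen_decomp {s : H} (hs : s ∈ generalizedFittingSubgroup H) :
    ∃ e ∈ layer H, ∃ f ∈ fittingSubgroup H, e * f = s := by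
  haveI := Components.fittingSubgroup_normal (G := H)
  exact (mem_sup_of_normal_right).mp hs

theorem le_centralizer_layer (hLS : layer H ≤ S) {D : Subgroup H} (hD : IsPGroup p D)
    (hSD : S ≤ normalizer (D : Set H)) : D ≤ centralizer (layer H : Set H) := by
  haveI := Components.layer_normal (G := H)
  have hle : ⁅layer H, D⁆ ≤ layer H ⊓ D :=
    le_inf (commutator_le_left _ _)
      ((commutator_comm _ _).trans_le (Coprime.commutator_le_of_le_normalizer (hLS.trans hSD)))
  have hn : ((layer H ⊓ D).subgroupOf (layer H)).Normal :=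
    normal_subgroupOf_of_le_normalizer
      (fun x hx => inf_normalizer_le_normalizer_inf ⟨le_normalizer hx, hSD (hLS hx)⟩)
  have hsn : (layer H ⊓ D).IsSubnormal :=
    IsSubnormal.step _ _ inf_le_left Components.layer_isSubnormal hn
  have hp' : layer H ⊓ D ≤ centralizer (layer H : Set H) :=
    (CharTwo.subnormal_le_pCore (p := p) hsn (hD.to_le inf_le_right)).trans
      ((Components.pCore_le_fittingSubgroup p).trans
        (le_centralizer_iff.mp Components.layer_le_centralizer_fittingSubgroup))
  have h1 : ⁅⁅layer H, D⁆, layer H⁆ = ⊥ :=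
    commutator_eq_bot_iff_le_centralizer.mpr (hle.trans hp')
  have h2 : ⁅⁅D, layer H⁆, layer H⁆ = ⊥ := by rwa [commutator_comm D]
  have h3 : ⁅⁅layer H, layer H⁆, D⁆ = ⊥ := commutator_commutator_eq_bot_of_rotate h1 h2
  rw [Components.layer_commutator_self, commutator_eq_bot_iff_le_centralizer] at h3
  exact le_centralizer_iff.mp h3

/-- A `p`-subgroup normalised by `S` centralises `O_{p'}(F(H))`. -/
theorem le_centralizer_fitPrime (hLS : layer H ≤ S) (hSF : S ≤ generalizedFittingSubgroup H)
    (hC : generalizedFittingSubgroup H ⊓ centralizer (S : Set H) ≤ S)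
    {D : Subgroup H} (hD : IsPGroup p D) (hSD : S ≤ normalizer (D : Set H)) :
    D ≤ centralizer (fitPrime p H : Set H) := by
  haveI := fitPrime_normal (p := p) (H := H)
  have hNil : Group.IsNilpotent (fitPrime p H) := by
    haveI := Components.fittingSubgroup_isNilpotent (G := H)
    exact nilpotent_of_mulEquiv (subgroupOfEquivOfLe (inf_le_right : fitPrime p H ≤ fittingSubgroup H))
  refine le_centralizer_of_self_centralizing hD hNil fitPrime_coprime le_normalizer_of_normal
    (R0 := S ⊓ fitPrime p H) inf_le_right ?_ ?_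
  · rintro r ⟨hr, hrc⟩
    refine ⟨hC ⟨mem_sup_right hr.2, mem_centralizer_iff.mpr fun s hs => ?_⟩, hr⟩
    obtain ⟨e, he, f, hf, rfl⟩ := exists_gen_decomp (hSF hs)
    have hfS : f ∈ S := by simpa using S.mul_mem (S.inv_mem (hLS he)) hs
    have hre : Commute r e := commute_layer_fitting he hr.2
    obtain ⟨k, m, hm, hkm⟩ :=
      Nat.exists_eq_pow_mul_and_not_dvd (orderOf_pos f).ne' p hp.out.ne_one
    have hcop : Nat.Coprime m p := (hp.out.coprime_iff_not_dvd.mpr hm).symm
    have h1 : Commute r (f ^ p ^ k) := by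
      have ho : (orderOf (f ^ p ^ k)).Coprime p := by
        rwa [orderOf_pow, hkm, Nat.gcd_mul_right_left,
          Nat.mul_div_cancel_left m (pow_pos hp.out.pos k)]
      exact (mem_centralizer_iff.mp hrc _
        ⟨pow_mem hfS _, coprime_mem_fitPrime (pow_mem hf _) ho⟩).symm
    have h2 : Commute r (f ^ m) := by
      obtain ⟨a, ha, b, hb, hab⟩ := exists_fitting_decomp (p := p) hf
      have hf1 : (f ^ m) ^ p ^ k = 1 := by rw [← pow_mul, mul_comm, ← hkm, pow_orderOf_eq_one]
      rw [← pow_mul, ← hab, (commute_pCore_fitPrime ha hb).mul_pow] at hf1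
      rw [← hab, (commute_pCore_fitPrime ha hb).mul_pow]
      have hb1 : b ^ (m * p ^ k) = 1 := by
        have h3 : b ^ (m * p ^ k) ∈ (⊥ : Subgroup H) := by
          rw [← PSolvable.pCore_inf_pPrimeCore (p := p)]
          exact ⟨by rw [eq_inv_of_mul_eq_one_right hf1]; exact Subgroup.inv_mem _ (Subgroup.pow_mem _ ha _),
            pow_mem hb.1 _⟩
        exact mem_bot.mp h3
      have hbm : b ^ m = 1 := by
        have hd : orderOf (b ^ m) ∣ p ^ k := orderOf_dvd_of_pow_eq_one (by rw [← pow_mul, hb1])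
        have hd2 : orderOf (b ^ m) ∣ Nat.card (fitPrime p H) := by
          have := orderOf_dvd_natCard (⟨b ^ m, pow_mem hb m⟩ : fitPrime p H)
          rwa [← Subgroup.orderOf_coe] at this
        exact orderOf_eq_one_iff.mp (Nat.eq_one_of_dvd_coprimes
          ((fitPrime_coprime (p := p)).pow_right k).symm hd hd2)
      rw [hbm, mul_one]
      exact ((commute_pCore_fitPrime ha hr).pow_left m).symm
    exact (hre.mul_right (commute_of_pow_coprime (hcop.symm.pow_left k) h1 h2)).symm.eq
  · refine le_centralizer_iff.mp (fun x hx => mem_centralizer_iff.mpr fun d hd => ?_)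
    have h1 : x * d * x⁻¹ ∈ D := (mem_normalizer_iff.mp (hSD hx.1) d).mp hd
    have h2 : d * x⁻¹ * d⁻¹ ∈ fitPrime p H :=
      (fitPrime_normal (p := p)).conj_mem _ (inv_mem hx.2) d
    have h3 : x * d * x⁻¹ * d⁻¹ ∈ D := mul_mem h1 (inv_mem hd)
    have h4 : x * d * x⁻¹ * d⁻¹ ∈ fitPrime p H := by
      simpa [mul_assoc] using mul_mem hx.2 h2
    have h5 : x * d * x⁻¹ * d⁻¹ = 1 := by
      have := PSolvable.inf_eq_bot_of_isPGroup_of_coprime (p := p) (H := D) (K := fitPrime p H)
        hD fitPrime_coprime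
      exact mem_bot.mp (this ▸ ⟨h3, h4⟩)
    exact (mul_inv_eq_iff_eq_mul.mp (mul_inv_eq_one.mp h5)).symm

theorem commute_coprime_generalizedFitting {D : Subgroup H}
    (hE : D ≤ centralizer (layer H : Set H)) (hR : D ≤ centralizer (fitPrime p H : Set H))
    {d g : H} (hd : d ∈ D) (hg : g ∈ generalizedFittingSubgroup H)
    (hcop : (orderOf g).Coprime p) : Commute d g := by
  obtain ⟨e, he, f, hf, rfl⟩ := exists_gen_decomp hg
  obtain ⟨a, ha, b, hb, rfl⟩ := exists_fitting_decomp (p := p) hf
  obtain ⟨k, hk⟩ := IsPGroup.iff_orderOf.mp (PSolvable.pCore_isPGroup (G := H) (p := p)) ⟨a, ha⟩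
  rw [← Subgroup.orderOf_coe] at hk
  have hea : Commute a e := commute_layer_fitting he (Components.pCore_le_fittingSubgroup p ha)
  have hab : Commute a b := commute_pCore_fitPrime ha hb
  have h1 : (e * (a * b)) ^ p ^ k = (e * b) ^ p ^ k := by
    rw [show e * (a * b) = a * (e * b) by rw [← mul_assoc, ← hea.eq, mul_assoc],
      (hea.mul_right hab).mul_pow, ← hk, pow_orderOf_eq_one, one_mul]
  have h2 : Commute d (e * b) :=
    Commute.mul_right (mem_centralizer_iff.mp (hE hd) e he).symm
      (mem_centralizer_iff.mp (hR hd) b hb).symm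
  exact commute_of_pow_coprime (hcop.pow_right k) (by rw [pow_orderOf_eq_one]; exact .one_right _)
    (by rw [h1]; exact h2.pow_right _)

theorem inf_eq_bot_aux (hsn : S.IsSubnormal) (hSF : S ≤ generalizedFittingSubgroup H)
    (hC : generalizedFittingSubgroup H ⊓ centralizer (S : Set H) ≤ S)
    (hpN : ¬ p ∣ Nat.card (fittingSubgroup H))
    {D : Subgroup H} (hD : IsPGroup p D) (hSD : S ≤ normalizer (D : Set H)) : D = ⊥ := by
  have hLS := layer_le_of_selfCentralizing hsn hC
  have hR := le_centralizer_fitPrime hLS hSF hC hD hSD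
  have hE := le_centralizer_layer hLS hD hSD
  have hcopN : (Nat.card (fittingSubgroup H)).Coprime p := (hp.out.coprime_iff_not_dvd.mpr hpN).symm
  have hRN : fittingSubgroup H ≤ fitPrime p H := fun x hx => coprime_mem_fitPrime hx
    (Nat.Coprime.coprime_dvd_left ((Subgroup.orderOf_coe (⟨x, hx⟩ : fittingSubgroup H)).symm ▸
      orderOf_dvd_natCard _) hcopN)
  have hDc : D ≤ centralizer (generalizedFittingSubgroup H : Set H) :=
    le_centralizer_iff.mp (sup_le (le_centralizer_iff.mp hE)
      (hRN.trans (le_centralizer_iff.mp hR)))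
  haveI := Components.generalizedFittingSubgroup_normal (G := H)
  set Z := generalizedFittingSubgroup H ⊓ centralizer (generalizedFittingSubgroup H : Set H)
  have hZ : Z ≤ fittingSubgroup H := by
    refine Components.le_fittingSubgroup (Subgroup.normal_inf_normal _ _) ?_
    have : IsMulCommutative Z := ⟨⟨fun a b => Subtype.ext
      (mem_centralizer_iff.mp b.2.2 a a.2.1)⟩⟩
    letI : CommGroup Z := { Z.toGroup with mul_comm := fun a b => IsMulCommutative.is_comm.comm a b }
    exact CommGroup.isNilpotent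
  have hDN : D ≤ fittingSubgroup H := fun d hd => hZ
    ⟨Components.centralizer_generalizedFittingSubgroup_le (hDc hd), hDc hd⟩
  rw [← inf_eq_left.mpr hDN]
  exact PSolvable.inf_eq_bot_of_isPGroup_of_coprime hD hcopN

end Abstract

theorem centralizer_le_of_normal {G : Type*} [Group G] [IsSimpleGroup G] {A X : Subgroup G}
    (hA : IsCoatom A) (hXA : X ≤ A) (hn : A ≤ normalizer (X : Set G)) (hX : X ≠ ⊥) :
    centralizer (X : Set G) ≤ A := by
  rcases hA.le_iff.mp hn with h | h
  · rcases (normalizer_eq_top_iff.mp h).eq_bot_or_eq_top with h' | h'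
    · exact absurd h' hX
    · exact absurd (top_le_iff.mp (h' ▸ hXA)) hA.1
  · exact (centralizer_le_normalizer _).trans_eq h

theorem pCore_centralizes_residual {G : Type*} [Group G] [Finite G] [IsSimpleGroup G]
    {p : ℕ} [hp : Fact p.Prime] {A : Subgroup G} (hA : IsCoatom A) {S : Subgroup ↥A}
    (hsn : S.IsSubnormal) (hSF : S ≤ generalizedFittingSubgroup ↥A)
    (hC : generalizedFittingSubgroup ↥A ⊓ centralizer (S : Set ↥A) ≤ S)
    (hpN : p ∣ Nat.card (fittingSubgroup ↥A)) {Q : Subgroup G} (hQ : IsPGroup p Q)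
    (hSQ : S.map A.subtype ≤ normalizer (Q : Set G)) {x : G} (hx : x ∈ Q) {g : ↥A}
    (hg : g ∈ generalizedFittingSubgroup ↥A) (hcop : (orderOf g).Coprime p) :
    Commute x (g : G) := by
  have hLS := layer_le_of_selfCentralizing hsn hC
  set D := Q.subgroupOf A with hDdef
  have hD : IsPGroup p D := hQ.comap_of_injective _ A.subtype_injective
  have hSD : S ≤ normalizer (D : Set ↥A) := fun s hs =>
    mem_normalizer_iff.mpr fun d => mem_normalizer_iff.mp (hSQ ⟨s, hs, rfl⟩) d
  have hE := le_centralizer_layer hLS hD hSD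
  have hR := le_centralizer_fitPrime hLS hSF hC hD hSD
  -- reduce to `Q ≤ A`
  suffices hQA : Q ≤ A ∨ g = 1 by
    rcases hQA with hQA | rfl
    · exact congrArg Subtype.val
        (commute_coprime_generalizedFitting (d := ⟨x, hQA hx⟩) hE hR hx hg hcop).eq
    · exact Commute.one_right x
  by_cases hbot : layer ↥A = ⊥ ∧ fitPrime p ↥A = ⊥
  · right
    obtain ⟨e, he, f, hf, rfl⟩ := exists_gen_decomp hg
    rw [hbot.1, mem_bot] at he
    subst he
    rw [one_mul] at hg hcop ⊢
    exact mem_bot.mp (hbot.2 ▸ coprime_mem_fitPrime hf hcop)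
  left
  -- `P0 = Z(O_p(A))`
  haveI := fitPrime_normal (p := p) (H := ↥A)
  set P0 := pCore p ↥A ⊓ centralizer (pCore p ↥A : Set ↥A) with hP0
  have hP0n : P0.Normal := Subgroup.normal_inf_normal _ _
  have hP0S : P0 ≤ S := fun z hz => hC ⟨mem_sup_right (Components.pCore_le_fittingSubgroup p hz.1),
    mem_centralizer_iff.mpr fun s hs => by
      obtain ⟨e, he, f, hf, rfl⟩ := exists_gen_decomp (hSF hs)
      obtain ⟨a, ha, b, hb, rfl⟩ := exists_fitting_decomp (p := p) hf
      exact (Commute.mul_right
        (commute_layer_fitting he (Components.pCore_le_fittingSubgroup p hz.1))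
        ((show Commute z a from (mem_centralizer_iff.mp hz.2 a ha).symm).mul_right
          (commute_pCore_fitPrime hz.1 hb))).symm.eq⟩
  have hP0ne : P0 ≠ ⊥ := by
    intro h
    have hne : Nontrivial (pCore p ↥A) := by
      rw [nontrivial_iff_ne_bot]
      intro hb
      obtain ⟨y, hy⟩ := exists_prime_orderOf_dvd_card' p hpN
      have hN : (y : ↥A) ∈ fitPrime p ↥A := by
        obtain ⟨a, ha, b, hb', hab⟩ := exists_fitting_decomp (p := p) y.2
        rw [hb, mem_bot] at ha
        rw [← hab, ha, one_mul]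
        exact hb'
      have h1 := orderOf_dvd_natCard (⟨y, hN⟩ : fitPrime p ↥A)
      rw [← Subgroup.orderOf_coe] at h1
      change orderOf ((y : fittingSubgroup ↥A) : ↥A) ∣ _ at h1
      rw [Subgroup.orderOf_coe, hy] at h1
      exact hp.out.ne_one (Nat.eq_one_of_dvd_coprimes fitPrime_coprime h1 dvd_rfl)
    have := (PSolvable.pCore_isPGroup (G := ↥A) (p := p)).center_nontrivial
    obtain ⟨z, hz⟩ := exists_ne (1 : center (pCore p ↥A))
    refine hz (Subtype.ext (Subtype.ext (mem_bot.mp (h ▸ ⟨z.1.2, mem_centralizer_iff.mpr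
      fun a ha => ?_⟩))))
    exact congrArg Subtype.val (mem_center_iff.mp z.2 ⟨a, ha⟩)
  have normA : ∀ X : Subgroup ↥A, X.Normal → A ≤ normalizer (X.map A.subtype : Set G) := by
    intro X hX
    have := le_normalizer_map (H := X) A.subtype
    rwa [normalizer_eq_top, ← MonoidHom.range_eq_map, range_subtype] at this
  set P0G := P0.map A.subtype with hP0G
  have hCA : centralizer (P0G : Set G) ≤ A :=
    centralizer_le_of_normal hA (map_subtype_le _) (normA P0 hP0n) fun h =>
      hP0ne ((map_eq_bot_iff_of_injective _ A.subtype_injective).mp h)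
  -- coprime elements of `S` commuting with `P0` and `C_Q(P0)` centralise `Q`
  have key : ∀ y : ↥A, y ∈ S → (orderOf y).Coprime p → (∀ z ∈ P0, Commute z y) →
      (∀ d ∈ D, Commute d y) → (y : G) ∈ centralizer (Q : Set G) := by
    intro y hyS hy hyP hyD
    refine Coprime.thompson_PxQ (p := p) (P := P0G) (Q := zpowers (y : G)) (U := Q)
      ((PSolvable.pCore_isPGroup.to_le inf_le_left).map _) ?_ hQ ?_
      ((map_mono hP0S).trans hSQ) (zpowers_le.mpr (hSQ ⟨y, hyS, rfl⟩)) ?_ (mem_zpowers _)
    · rwa [Nat.card_zpowers, Subgroup.orderOf_coe]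
    · refine le_centralizer_iff.mp (zpowers_le.mpr (mem_centralizer_iff.mpr ?_))
      rintro _ ⟨z, hz, rfl⟩
      exact congrArg Subtype.val (hyP z hz).eq
    · refine le_centralizer_iff.mp (zpowers_le.mpr (mem_centralizer_iff.mpr fun d hd => ?_))
      exact congrArg Subtype.val (hyD ⟨d, hCA hd.2⟩ hd.1).eq
  by_cases hlay : layer ↥A = ⊥
  · -- use the centre of `O_{p'}(F(A))`
    have hRne : fitPrime p ↥A ≠ ⊥ := fun h => hbot ⟨hlay, h⟩
    set Z := fitPrime p ↥A ⊓ centralizer (fitPrime p ↥A : Set ↥A) with hZ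
    have hZn : Z.Normal := Subgroup.normal_inf_normal _ _
    have hZne : Z ≠ ⊥ := by
      intro h
      haveI : Group.IsNilpotent (fitPrime p ↥A) := by
        haveI := Components.fittingSubgroup_isNilpotent (G := ↥A)
        exact nilpotent_of_mulEquiv
          (subgroupOfEquivOfLe (inf_le_right : fitPrime p ↥A ≤ fittingSubgroup ↥A))
      haveI := (nontrivial_iff_ne_bot _).mpr hRne
      haveI : Nontrivial (center (fitPrime p ↥A)) :=
        (nontrivial_iff_ne_bot _).mpr (center_ne_bot_of_nilpotent _)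
      obtain ⟨z, hz⟩ := exists_ne (1 : center (fitPrime p ↥A))
      refine hz (Subtype.ext (Subtype.ext (mem_bot.mp (h ▸ ⟨z.1.2, mem_centralizer_iff.mpr
        fun a ha => ?_⟩))))
      exact congrArg Subtype.val (mem_center_iff.mp z.2 ⟨a, ha⟩)
    have hQZ : Q ≤ centralizer (Z.map A.subtype : Set G) := by
      refine le_centralizer_iff.mp ?_
      rintro _ ⟨z, hz, rfl⟩
      have hzN : z ∈ fittingSubgroup ↥A := hz.1.2
      refine key z (hC ⟨mem_sup_right hzN, mem_centralizer_iff.mpr fun s hs => ?_⟩) ?_ ?_ ?_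
      · obtain ⟨e, he, f, hf, rfl⟩ := exists_gen_decomp (hSF hs)
        obtain ⟨a, ha, b, hb, rfl⟩ := exists_fitting_decomp (p := p) hf
        exact (Commute.mul_right (commute_layer_fitting he hzN)
          ((commute_pCore_fitPrime ha hz.1).symm.mul_right
            (show Commute z b from (mem_centralizer_iff.mp hz.2 b hb).symm))).symm.eq
      · refine Nat.Coprime.coprime_dvd_left ?_ (fitPrime_coprime (p := p) (H := ↥A))
        have h1 := _root_.orderOf_dvd_natCard (⟨z, hz.1⟩ : fitPrime p ↥A)
        rwa [← Subgroup.orderOf_coe] at h1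
      · exact fun w hw => commute_pCore_fitPrime hw.1 hz.1
      · exact fun d hd => (mem_centralizer_iff.mp (hR hd) z hz.1).symm
    exact hQZ.trans (centralizer_le_of_normal hA (map_subtype_le _) (normA Z hZn) fun h =>
      hZne ((map_eq_bot_iff_of_injective _ A.subtype_injective).mp h))
  · haveI := Components.layer_normal (G := ↥A)
    have hQE : Q ≤ centralizer ((layer ↥A).map A.subtype : Set G) := by
      refine le_centralizer_iff.mp (map_le_iff_le_comap.mpr ?_)
      intro e he
      have htop : closure {g : layer ↥A | (orderOf g).Coprime p} = ⊤ :=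
        closure_coprime_eq_top (Components.layer_isPerfect (G := ↥A)).1
      have : (⊤ : Subgroup (layer ↥A)) ≤
          ((centralizer (Q : Set G)).comap A.subtype).comap (layer ↥A).subtype := by
        rw [← htop, closure_le]
        intro y hy
        have hy' : (orderOf y).Coprime p := hy
        rw [← Subgroup.orderOf_coe] at hy'
        exact key y (hLS y.2) hy'
          (fun z hz => commute_layer_fitting y.2 (Components.pCore_le_fittingSubgroup p hz.1))
          (fun d hd => (mem_centralizer_iff.mp (hE hd) _ y.2).symm)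
      exact this (mem_top ⟨e, he⟩)
    exact hQE.trans (centralizer_le_of_normal hA (map_subtype_le _)
      (normA (layer ↥A) inferInstance) fun h =>
      hlay ((map_eq_bot_iff_of_injective _ A.subtype_injective).mp h))


/-- Let G be a non-abelian finite simple group, A a maximal subgroup, F = F*(A) its generalized Fitting subgroup (viewed in G), and S ≤ F a subgroup subnormal in F with C_F(S) ≤ S. Let B be any subgroup of G containing S. Then (a) for every prime q not dividing |F(A)|, O_q(B) ∩ A = 1; and (b) for every prime p dividing |F(A)|, O_p(B) commutes elementwise with the subgroup of F generated by its elements of order prime to p. -/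
theorem result {G : Type*} [Group G] [Finite G] [IsSimpleGroup G] (hna : ¬ IsMulCommutative G) (A : Subgroup G) (hA : IsCoatom A) (S : Subgroup G) (hSF : S ≤ (Cfsg.generalizedFittingSubgroup ↥A).map A.subtype) (hSsn : (S.subgroupOf ((Cfsg.generalizedFittingSubgroup ↥A).map A.subtype)).IsSubnormal) (hSC : (Cfsg.generalizedFittingSubgroup ↥A).map A.subtype ⊓ Subgroup.centralizer (S : Set G) ≤ S) (B : Subgroup G) (hSB : S ≤ B) : (∀ q : ℕ, q.Prime → ¬ q ∣ Nat.card (Cfsg.fittingSubgroup ↥A) → (Cfsg.pCore q ↥B).map B.subtype ⊓ A = ⊥) ∧ (∀ p : ℕ, p.Prime → p ∣ Nat.card (Cfsg.fittingSubgroup ↥A) → ∀ x ∈ (Cfsg.pCore p ↥B).map B.subtype, ∀ y ∈ (Cfsg.pResidual p ↥(Cfsg.generalizedFittingSubgroup ↥A)).map ((Cfsg.generalizedFittingSubgroup ↥A).subtype) , x * (A.subtype y) = (A.subtype y) * x) := by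

  set F := Cfsg.generalizedFittingSubgroup ↥A with hF
  have hSA : S ≤ A := hSF.trans (Subgroup.map_subtype_le _)
  set S' := S.subgroupOf A with hS'
  have hS'F : S' ≤ F := fun s hs => by
    obtain ⟨t, ht, hts⟩ := hSF (show (s : G) ∈ S from hs)
    rwa [← show t = s from Subtype.ext hts]
  have hS'sn : S'.IsSubnormal := by
    have hFn : F.Normal := Lib.Components.generalizedFittingSubgroup_normal
    refine Subgroup.IsSubnormal.trans hS'F ?_ hFn.isSubnormal
    have h1 := hSsn.map (f := (F.equivMapOfInjective A.subtype A.subtype_injective).symm.toMonoidHom)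
      (MulEquiv.surjective _)
    convert h1 using 1
    ext x
    constructor
    · intro hx
      exact ⟨F.equivMapOfInjective A.subtype A.subtype_injective x, hx, by simp⟩
    · rintro ⟨y, hy, rfl⟩
      have h2 := congrArg Subtype.val
        ((F.equivMapOfInjective A.subtype A.subtype_injective).apply_symm_apply y)
      show ((((F.equivMapOfInjective A.subtype A.subtype_injective).symm y : F) : ↥A) : G) ∈ S
      rw [Subgroup.coe_equivMapOfInjective_apply] at h2
      rw [show A.subtype _ = ((_ : ↥A) : G) from rfl] at h2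
      rw [show ((((F.equivMapOfInjective A.subtype A.subtype_injective).symm y : F) : ↥A) : G) = (y : G) from h2]
      exact hy
  have hC' : F ⊓ Subgroup.centralizer (S' : Set ↥A) ≤ S' := by
    rintro x ⟨hx, hxc⟩
    refine hSC ⟨⟨x, hx, rfl⟩, Subgroup.mem_centralizer_iff.mpr fun s hs => ?_⟩
    exact congrArg Subtype.val (Subgroup.mem_centralizer_iff.mp hxc ⟨s, hSA hs⟩ hs)
  have hSn : ∀ p : ℕ, S ≤ Subgroup.normalizer
      ((Cfsg.pCore p ↥B).map B.subtype : Set G) := fun p => by
    refine hSB.trans ?_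
    have := Subgroup.le_normalizer_map (H := Cfsg.pCore p ↥B) B.subtype
    rwa [Subgroup.normalizer_eq_top, ← MonoidHom.range_eq_map, Subgroup.range_subtype] at this
  refine ⟨fun q hq hqN => ?_, fun p hp hpN x hx y hy => ?_⟩
  · haveI := Fact.mk hq
    set Q := (Cfsg.pCore q ↥B).map B.subtype with hQdef
    have hD := inf_eq_bot_aux hS'sn hS'F hC' hqN
      (D := Q.subgroupOf A)
      ((Lib.PSolvable.pCore_isPGroup.map _).comap_of_injective _ A.subtype_injective)
      (fun s hs => Subgroup.mem_normalizer_iff.mpr fun d =>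
        Subgroup.mem_normalizer_iff.mp (hSn q hs) d)
    rw [← Subgroup.subgroupOf_map_subtype, hD, Subgroup.map_bot]
  · haveI := Fact.mk hp
    obtain ⟨y', hy', rfl⟩ := hy
    induction hy' using Subgroup.closure_induction with
    | mem g hg =>
      refine (pCore_centralizes_residual hA hS'sn hS'F hC' hpN
        (Q := (Cfsg.pCore p ↥B).map B.subtype) (Lib.PSolvable.pCore_isPGroup.map _) ?_ hx g.2 ?_).eq
      · rw [Subgroup.subgroupOf_map_subtype]
        exact inf_le_left.trans (hSn p)
      · rw [Subgroup.orderOf_coe]; exact hg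
    | one => simp
    | mul a b _ _ ha hb =>
      simp only [map_mul] at *
      exact (Commute.mul_right ha hb).eq
    | inv a _ ha =>
      simp only [map_inv] at *
      exact (Commute.inv_right ha).eq

end Cfsg.Agent.S1247
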