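import Cfsg.Statements.S1249
import Mathlib

set_option autoImplicit false
open Cfsg

namespace Cfsg.Agent.S1249

/-- Let P and Q be Sylow p-subgroups of the finite group G both containing the subgroup A. If A is strongly closed in P, then A is strongly closed in Q. -/
theorem result {G : Type*} [Group G] [Finite G] {p : ℕ} [Fact p.Prime] (P Q : Sylow p G) (A : Subgroup G) (hAQ : A ≤ Q) (hA : Cfsg.IsStronglyClosed A (P : Subgroup G)) : Cfsg.IsStronglyClosed A (Q : Subgroup G) := by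
  obtain ⟨hAP, hcl⟩ := hA
  obtain ⟨c, hc⟩ := MulAction.exists_smul_eq G P Q
  have hQ : ∀ y : G, y ∈ (Q : Subgroup G) → c⁻¹ * y * c ∈ (P : Subgroup G) := by
    intro y hy
    rw [← hc, Sylow.coe_subgroup_smul] at hy
    have := Subgroup.mem_pointwise_smul_iff_inv_smul_mem.1 hy
    simpa [MulAut.smul_def, MulAut.inv_apply, MulAut.conj_symm_apply] using this
  have hinv : ∀ a ∈ A, c⁻¹ * a * c ∈ A := fun a ha => by
    simpa using hcl a ha c⁻¹ (by simpa using hQ a (hAQ ha))
  let f : A → A := fun a => ⟨c⁻¹ * a * c, hinv a a.2⟩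
  have hf : Function.Injective f := fun a b h => by
    simpa [f] using congrArg Subtype.val h
  refine ⟨hAQ, fun x hx g hg => ?_⟩
  have h1 : c⁻¹ * g * x * (c⁻¹ * g)⁻¹ ∈ A := hcl x hx (c⁻¹ * g) (by
    rw [mul_inv_rev, inv_inv]
    simpa [mul_assoc] using hQ _ hg)
  obtain ⟨a, ha⟩ := Finite.injective_iff_surjective.1 hf ⟨_, h1⟩
  have ha' : c⁻¹ * (a : G) * c = c⁻¹ * g * x * (c⁻¹ * g)⁻¹ := congrArg Subtype.val ha
  have he : (a : G) = g * x * g⁻¹ := by
    calc (a : G) = c * (c⁻¹ * (a : G) * c) * c⁻¹ := by group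
      _ = g * x * g⁻¹ := by rw [ha']; group
  exact he ▸ a.2

end Cfsg.Agent.S1249
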