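import Cfsg.Statements.S1250
import Mathlib

set_option autoImplicit false
open Cfsg

namespace Cfsg.Agent.S1250

/-- Let S be a Sylow p-subgroup of the finite group G, A ≤ S strongly closed in S, and N a normal subgroup. Then the image of A in G ⧸ N is strongly closed in the image of S (which is a Sylow p-subgroup of G ⧸ N). -/
theorem result {G : Type*} [Group G] [Finite G] {p : ℕ} [Fact p.Prime] (S : Sylow p G) (A : Subgroup G) (hA : Cfsg.IsStronglyClosed A (S : Subgroup G)) (N : Subgroup G) [N.Normal] : Cfsg.IsStronglyClosed (A.map (QuotientGroup.mk' N)) ((S : Subgroup G).map (QuotientGroup.mk' N)) := by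
  refine ⟨Subgroup.map_mono hA.1, ?_⟩
  rintro _ ⟨x, hx, rfl⟩ gb hgb
  obtain ⟨g, rfl⟩ := QuotientGroup.mk'_surjective N gb
  rw [← map_inv, ← map_mul, ← map_mul] at hgb ⊢
  have hmem : g * x * g⁻¹ ∈ (S : Subgroup G) ⊔ N := by
    have h : g * x * g⁻¹ ∈ ((S : Subgroup G).map (QuotientGroup.mk' N)).comap (QuotientGroup.mk' N) := hgb
    rwa [Subgroup.comap_map_eq, QuotientGroup.ker_mk'] at h
  have hle : Subgroup.zpowers (g * x * g⁻¹) ≤ (S : Subgroup G) ⊔ N := Subgroup.zpowers_le.2 hmem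
  have hp : IsPGroup p (Subgroup.zpowers (g * x * g⁻¹)) := by
    have hx' : g * x * g⁻¹ ∈ (S : Subgroup G).map (MulAut.conj g).toMonoidHom :=
      ⟨x, hA.1 hx, rfl⟩
    exact (S.2.map _).to_le (Subgroup.zpowers_le.2 hx')
  obtain ⟨Q, hQ⟩ := (hp.of_equiv (Subgroup.subgroupOfEquivOfLe hle).symm).exists_le_sylow
  let S' : Sylow p ↥((S : Subgroup G) ⊔ N) := S.subtype le_sup_left
  obtain ⟨k, hk⟩ := MulAction.exists_smul_eq ↥((S : Subgroup G) ⊔ N) Q S'
  obtain ⟨n, hn, s, hs, hns⟩ := Subgroup.mem_sup_of_normal_left (s := N).1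
    (show (k : G) ∈ N ⊔ (S : Subgroup G) by rw [sup_comm]; exact k.2)
  have h1 : (⟨g * x * g⁻¹, hmem⟩ : ↥((S : Subgroup G) ⊔ N)) ∈ (Q : Subgroup ↥((S : Subgroup G) ⊔ N)) :=
    hQ (Subgroup.mem_subgroupOf.2 (Subgroup.mem_zpowers _))
  have h3 := Subgroup.smul_mem_pointwise_smul _ (MulAut.conj k) _ h1
  rw [← Sylow.coe_subgroup_smul, hk] at h3
  have h2 : (k : G) * (g * x * g⁻¹) * (k : G)⁻¹ ∈ (S : Subgroup G) := by
    simpa [S', Subgroup.mem_subgroupOf] using h3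
  have ha : (k * g) * x * (k * g : G)⁻¹ ∈ A := hA.2 x hx _ (by simpa [mul_assoc] using h2)
  have hb : s⁻¹ * ((k * g) * x * (k * g : G)⁻¹) * s⁻¹⁻¹ ∈ A := hA.2 _ ha s⁻¹
    (Subgroup.mul_mem _ (Subgroup.mul_mem _ (Subgroup.inv_mem _ hs) (hA.1 ha))
      (by simpa using hs))
  refine ⟨_, hb, ?_⟩
  have hks : QuotientGroup.mk' N (k : G) = QuotientGroup.mk' N s := by
    rw [← hns, map_mul, show QuotientGroup.mk' N n = 1 from (QuotientGroup.eq_one_iff n).2 hn, one_mul]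
  simp only [map_mul, map_inv, hks]
  group

end Cfsg.Agent.S1250
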