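import Cfsg.Statements.S1255
import Cfsg.Agent.Lib.SECount.DihedralFusion
import Cfsg.Agent.Lib.SECount.NoIndexTwo

set_option autoImplicit false
open Cfsg

namespace Cfsg.Agent.S1255

open DihedralGroup Lib.SECount


/-- Let X be a finite group whose Sylow 2-subgroup S is dihedral of order 2m ≥ 4. Then X has no subgroup of index 2 and no isolated involution if and only if either all involutions of X are conjugate, or for every Klein four-subgroup U ≤ S the index |N_X(U) : C_X(U)| equals 3 when |S| = 4 and equals 6 when |S| > 4. -/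
theorem result {X : Type*} [Group X] [Finite X] (S : Sylow 2 X) (m : ℕ) (hm : 2 ≤ m) (eS : (S : Subgroup X) ≃* DihedralGroup m) : ((∀ H : Subgroup X, H.index ≠ 2) ∧ (∀ z : X, ¬ Cfsg.IsIsolatedInvolution z)) ↔ ((∀ a b : X, orderOf a = 2 → orderOf b = 2 → IsConj a b) ∨ (∀ U : Subgroup X, U ≤ S → IsKleinFour U → (Subgroup.centralizer (U : Set X)).relIndex (Subgroup.normalizer (U : Set X)) = (if Nat.card S = 4 then 3 else 6))) := by

  haveI : NeZero m := ⟨by omega⟩
  haveI : Fact (Nat.Prime 2) := ⟨Nat.prime_two⟩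
  obtain ⟨-, h2, -⟩ := dihedral_card S eS hm
  set z := dihEmb S eS (dihInv m) with hz
  have hzU : ∀ i, z ∈ fourS S eS i := fun i =>
    ⟨_, (mem_fourD_iff h2).2 (Or.inr (Or.inl rfl)), rfl⟩
  have hsrU : ∀ i, dihEmb S eS (sr i) ∈ fourS S eS i := fun i =>
    ⟨_, (sr_mem_fourD_iff h2).2 (Or.inl rfl), rfl⟩
  have hzord : orderOf z = 2 :=
    (orderOf_injective _ (dihEmb_injective S eS) _).trans (orderOf_dihInv h2)
  have hsrord : ∀ i, orderOf (dihEmb S eS (sr i)) = 2 := fun i =>
    (orderOf_injective _ (dihEmb_injective S eS) _).trans (orderOf_sr i)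
  have hz1 : z ≠ 1 := fun h => by simp [h] at hzord
  have hsr1 : ∀ i, dihEmb S eS (sr i) ≠ 1 := fun i h => by simpa [h] using hsrord i
  constructor
  · rintro ⟨hidx, -⟩
    refine Or.inr fun U hUS hU => ?_
    obtain ⟨i, rfl⟩ := exists_eq_fourS S eS hm U hU hUS
    rw [relIndex_eq_iff S eS hm i]
    by_contra h3
    obtain ⟨M, hM⟩ := exists_index_two_of_not_three_dvd S eS hm i h3
    exact hidx M hM
  · intro h
    -- in both cases all involutions are conjugate
    have hone : ∀ a b : X, orderOf a = 2 → orderOf b = 2 → IsConj a b := by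
      rcases h with h | h
      · exact h
      have key : ∀ a : X, orderOf a = 2 → IsConj a z := by
        intro a ha
        obtain ⟨x, hx⟩ := exists_conj_le_sylow S (IsPGroup.of_card (n := 1) (p := 2)
          (G := Subgroup.zpowers a) (by rw [Nat.card_zpowers, ha, pow_one]))
        have hxS : x * a * x⁻¹ ∈ (S : Subgroup X) := hx ⟨a, Subgroup.mem_zpowers a, rfl⟩
        rw [← dihEmb_range S eS] at hxS
        obtain ⟨d, hd⟩ := hxS
        have hdo : orderOf d = 2 := by
          rw [← orderOf_injective _ (dihEmb_injective S eS) d, hd, ← ha]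
          exact MulEquiv.orderOf_eq (MulAut.conj x) a
        obtain ⟨i, hi⟩ : ∃ i : ZMod m, d ∈ fourD m i := by
          cases d with
          | sr k => exact ⟨k, (sr_mem_fourD_iff h2).2 (Or.inl rfl)⟩
          | r k =>
            refine ⟨0, (r_mem_fourD_iff h2).2 (eq_zero_or_zhalf ?_)⟩
            have h0 : r k * r k = (1 : DihedralGroup m) := by rw [← pow_two, ← hdo, pow_orderOf_eq_one]
            rw [r_mul_r, DihedralGroup.one_def, r.injEq] at h0
            exact h0
        haveI := isKleinFour_fourS S eS hm i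
        have h3 := (relIndex_eq_iff S eS hm i).1
          (h _ (fourS_le S eS i) (isKleinFour_fourS S eS hm i))
        have hmem : x * a * x⁻¹ ∈ fourS S eS i := ⟨d, hi, hd⟩
        have hne : x * a * x⁻¹ ≠ 1 := fun h => by
          rw [mul_inv_eq_one, mul_eq_left] at h; simp [h] at ha
        obtain ⟨g, -, hg⟩ := exists_conj_of_three_dvd _ h3 hmem (hzU i) hne hz1
        exact (isConj_iff.2 ⟨x, rfl⟩).trans (isConj_iff.2 ⟨g, hg⟩)
      exact fun a b ha hb => (key a ha).trans (key b hb).symm
    refine ⟨fun H hH => ?_, fun w hw => ?_⟩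
    · haveI := Subgroup.normal_of_index_eq_two hH
      obtain ⟨v, hv, hvH⟩ : ∃ v : X, orderOf v = 2 ∧ v ∈ H := by
        by_cases hz' : z ∈ H
        · exact ⟨z, hzord, hz'⟩
        · by_cases hu : dihEmb S eS (sr 0) ∈ H
          · exact ⟨_, hsrord 0, hu⟩
          · refine ⟨z * dihEmb S eS (sr 0), orderOf_eq_prime ?_ ?_,
              (Subgroup.mul_mem_iff_of_index_two hH).2 (iff_of_false hz' hu)⟩
            · rw [hz, ← map_mul, ← map_pow, pow_two, dihInv, r_mul_sr, sr_mul_self, map_one]
            · rw [hz, ← map_mul]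
              exact fun h => by
                have := dihEmb_injective S eS (h.trans (map_one _).symm)
                simp [dihInv, DihedralGroup.one_def, -r_zero] at this
      have hall : ∀ w : X, orderOf w = 2 → w ∈ H := fun w hw => by
        obtain ⟨g, rfl⟩ := isConj_iff.1 (hone v w hv hw)
        exact Subgroup.Normal.conj_mem inferInstance v hvH g
      have hSH : (S : Subgroup X) ≤ H := by
        intro s hs
        rw [← dihEmb_range S eS] at hs
        obtain ⟨d, rfl⟩ := hs
        cases d with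
        | sr k => exact hall _ (hsrord k)
        | r k =>
          rw [show r k = sr 0 * sr k by rw [sr_mul_sr, sub_zero], map_mul]
          exact H.mul_mem (hall _ (hsrord 0)) (hall _ (hsrord k))
      exact S.not_dvd_index (hH.symm.dvd.trans (Subgroup.index_dvd_of_le hSH))
    · obtain ⟨hw2, hwiso⟩ := hw
      obtain ⟨g, hg⟩ := isConj_iff.1 (hone w z hw2 hzord)
      obtain ⟨g', hg'⟩ := isConj_iff.1 (hone w (dihEmb S eS (sr 0)) hw2 (hsrord 0))
      have hcom : Commute w (g⁻¹ * g' * w * (g⁻¹ * g')⁻¹) := by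
        have hw' : w = g⁻¹ * z * g := by rw [← hg]; group
        have hzs : z * dihEmb S eS (sr 0) = dihEmb S eS (sr 0) * z := by
          rw [hz, ← map_mul, ← map_mul, (dihInv_commute h2 _).eq]
        rw [show g⁻¹ * g' * w * (g⁻¹ * g')⁻¹ = g⁻¹ * dihEmb S eS (sr 0) * g by rw [← hg']; group,
          hw', Commute, SemiconjBy]
        calc g⁻¹ * z * g * (g⁻¹ * dihEmb S eS (sr 0) * g) = g⁻¹ * (z * dihEmb S eS (sr 0)) * g := by group
          _ = g⁻¹ * dihEmb S eS (sr 0) * g * (g⁻¹ * z * g) := by rw [hzs]; group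
      have h1 := hwiso _ hcom
      have h4 : dihEmb S eS (sr 0) = z := by
        rw [← hg', ← hg]
        calc g' * w * g'⁻¹ = g * (g⁻¹ * g' * w * (g⁻¹ * g')⁻¹) * g⁻¹ := by group
          _ = g * w * g⁻¹ := by rw [h1]
      simpa [dihInv] using dihEmb_injective S eS h4

end Cfsg.Agent.S1255
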