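import Cfsg.Statements.S1256
import Cfsg.Agent.Lib.SECount.DihedralSylow

set_option autoImplicit false
open Cfsg

namespace Cfsg.Agent.S1256

/-- Let X be a finite group whose Sylow 2-subgroup S is dihedral of order 2m ≥ 4. If |S| = 4, any two Klein four-subgroups of X are conjugate; if |S| > 4, there are Klein four-subgroups U₁, U₂ of X that are not conjugate, and every Klein four-subgroup of X is conjugate to U₁ or to U₂. -/
theorem result {X : Type*} [Group X] [Finite X] (S : Sylow 2 X) (m : ℕ) (hm : 2 ≤ m) (eS : (S : Subgroup X) ≃* DihedralGroup m) : (Nat.card S = 4 → ∀ U V : Subgroup X, IsKleinFour U → IsKleinFour V → (∃ x : X, U.map (MulAut.conj x).toMonoidHom = V)) ∧ (4 < Nat.card S → ∃ U₁ U₂ : Subgroup X, IsKleinFour U₁ ∧ IsKleinFour U₂ ∧ ¬ (∃ x : X, U₁.map (MulAut.conj x).toMonoidHom = U₂) ∧ ∀ V : Subgroup X, IsKleinFour V → (∃ x : X, V.map (MulAut.conj x).toMonoidHom = U₁) ∨ (∃ x : X, V.map (MulAut.conj x).toMonoidHom = U₂)) := by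
  haveI : Fact (Nat.Prime 2) := ⟨Nat.prime_two⟩
  obtain ⟨hcard, -, -⟩ := Lib.SECount.dihedral_card S eS hm
  refine ⟨fun h4 U V hU hV => ?_, fun h4 => ?_⟩
  · haveI := hU
    haveI := hV
    have key : ∀ W : Subgroup X, IsKleinFour W → ∃ x : X,
        W.map (MulAut.conj x).toMonoidHom = (S : Subgroup X) := by
      intro W hW
      obtain ⟨x, hx⟩ := Lib.SECount.exists_conj_le_sylow S (Lib.SECount.isPGroup_kleinFour W)
      exact ⟨x, Subgroup.eq_of_le_of_card_ge hx (by
        rw [((Lib.SECount.isKleinFour_map_iff _ (MulAut.conj x).injective W).2 hW).card_four, h4])⟩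
    obtain ⟨a, ha⟩ := key U hU
    obtain ⟨b, hb⟩ := key V hV
    refine ⟨b⁻¹ * a, ?_⟩
    rw [← Lib.SECount.map_conj_trans, ha, ← hb, Lib.SECount.map_conj_trans, inv_mul_cancel]
    ext x; simp
  · exact ⟨Lib.SECount.fourS S eS 0, Lib.SECount.fourS S eS 1,
      Lib.SECount.isKleinFour_fourS S eS hm 0, Lib.SECount.isKleinFour_fourS S eS hm 1,
      fun ⟨x, hx⟩ => Lib.SECount.not_conj_fourS S eS (by omega) x hx,
      fun V hV => by
        obtain ⟨x, hx | hx⟩ := Lib.SECount.exists_conj_fourS S eS hm V hV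
        · exact Or.inl ⟨x, hx⟩
        · exact Or.inr ⟨x, hx⟩⟩

end Cfsg.Agent.S1256
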