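import Cfsg.Statements.S1258
import Cfsg.Agent.Lib.Components.Basic

set_option autoImplicit false
open Cfsg
open scoped Pointwise commutatorElement

namespace Cfsg.Agent.S1258

/-- If the central quotient of a finite group X is non-abelian simple, then X = X' Z(X) and the commutator subgroup X' is quasisimple. -/
theorem result {X : Type*} [Group X] [Finite X] (hs : IsSimpleGroup (X ⧸ Subgroup.center X)) (hna : ¬ IsMulCommutative (X ⧸ Subgroup.center X)) : commutator X ⊔ Subgroup.center X = ⊤ ∧ Cfsg.IsQuasisimple ↥(commutator X) := by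
  have hq := hs
  have hnt : Nontrivial (X ⧸ Subgroup.center X) := IsSimpleGroup.toNontrivial
  have hmap : (commutator X).map (QuotientGroup.mk' (Subgroup.center X)) = ⊤ := by
    rcases ((inferInstance : (commutator X).Normal).map _
      (QuotientGroup.mk'_surjective (Subgroup.center X))).eq_bot_or_eq_top with h | h
    · exfalso
      apply hna
      rw [← commutator_eq_bot_iff, ← h, commutator_def, commutator_def, Subgroup.map_commutator,
        Subgroup.map_top_of_surjective _ (QuotientGroup.mk'_surjective _)]
    · exact h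
  have hsup : commutator X ⊔ Subgroup.center X = ⊤ := by
    have h2 := congrArg (Subgroup.comap (QuotientGroup.mk' (Subgroup.center X))) hmap
    rw [QuotientGroup.comap_map_mk', Subgroup.comap_top, sup_comm] at h2
    exact h2
  refine ⟨hsup, ?_⟩
  have hperf : ⁅commutator X, commutator X⁆ = commutator X := by
    refine le_antisymm (Subgroup.commutator_le_self _) ?_
    rw [commutator_def, Subgroup.commutator_le]
    intro x _ y _
    have hx : x ∈ ((commutator X ⊔ Subgroup.center X : Subgroup X) : Set X) := by rw [hsup]; trivial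
    have hy : y ∈ ((commutator X ⊔ Subgroup.center X : Subgroup X) : Set X) := by rw [hsup]; trivial
    rw [Subgroup.coe_mul_of_right_le_normalizer_left _ _ (by simp [Subgroup.normalizer_eq_top])] at hx hy
    obtain ⟨a, ha, z, hz, rfl⟩ := hx
    obtain ⟨b, hb, w, hw, rfl⟩ := hy
    have e : ⁅a * z, b * w⁆ = ⁅a, b⁆ := by
      have hz' := Subgroup.mem_center_iff.mp hz
      have hw' := Subgroup.mem_center_iff.mp hw
      have h1 : ⁅a * z, b * w⁆ = ⁅a, b * w⁆ := by
        rw [commutatorElement_mul_left_eq_conj_mul, commutatorElement_eq_one_iff_mul_comm.mpr (hz' _).symm]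
        simp
      have h2 : ⁅a, b * w⁆ = ⁅a, b⁆ := by
        rw [commutatorElement_mul_right_eq_mul_conj, commutatorElement_eq_one_iff_mul_comm.mpr (hw' _)]
        simp
      rw [h1, h2]
    rw [← commutator_def, e]
    exact Subgroup.commutator_mem_commutator ha hb
  have : Nontrivial (commutator X) := by
    rw [Subgroup.nontrivial_iff_ne_bot]
    intro h
    rw [h, Subgroup.map_bot] at hmap
    exact (bot_ne_top : (⊥ : Subgroup (X ⧸ Subgroup.center X)) ≠ ⊤) hmap
  refine Cfsg.Agent.Lib.Components.quasisimple_of_forall_normal (Subgroup.isPerfect_iff.mpr hperf)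
    fun N hN hne => ?_
  have := Subgroup.isPerfect_iff.mpr hperf
  have hN' : (N.map (commutator X).subtype).Normal := by
    rw [← Subgroup.normalizer_eq_top_iff, eq_top_iff, ← hsup]
    refine sup_le ?_ (le_trans ?_ (Cfsg.Agent.Lib.Components.centralizer_le_normalizer_self _))
    · have h1 := Subgroup.le_normalizer_map (H := N) (commutator X).subtype
      rwa [Subgroup.normalizer_eq_top, ← MonoidHom.range_eq_map, Subgroup.range_subtype] at h1
    · exact Subgroup.center_le_centralizer _
  rcases (hN'.map _ (QuotientGroup.mk'_surjective (Subgroup.center X))).eq_bot_or_eq_top with h | h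
  · rw [Subgroup.map_eq_bot_iff, QuotientGroup.ker_mk'] at h
    intro x hx
    rw [Subgroup.mem_center_iff]
    intro y
    exact Subtype.ext (Subgroup.mem_center_iff.mp (h ⟨x, hx, rfl⟩) y)
  · exfalso
    apply hne
    apply Cfsg.Agent.Lib.Components.eq_top_of_sup_center_eq_top
    rw [eq_top_iff]
    intro x _
    have h2 := congrArg (Subgroup.comap (QuotientGroup.mk' (Subgroup.center X))) h
    rw [QuotientGroup.comap_map_mk', Subgroup.comap_top] at h2
    have hx : (x : X) ∈ ((Subgroup.center X ⊔ N.map (commutator X).subtype : Subgroup X) : Set X) := by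
      rw [h2]; trivial
    rw [Subgroup.coe_mul_of_right_le_normalizer_left _ _ (by simp [Subgroup.normalizer_eq_top])] at hx
    obtain ⟨z, hz, n, hn, he⟩ := hx
    obtain ⟨n', hn', rfl⟩ := hn
    have hzc : z ∈ commutator X := by
      have : z = (x : X) * ((n' : X))⁻¹ := eq_mul_inv_of_mul_eq he
      rw [this]
      exact mul_mem x.2 (inv_mem n'.2)
    have hx2 : x = ⟨z, hzc⟩ * n' := Subtype.ext he.symm
    rw [hx2]
    refine mul_mem (Subgroup.mem_sup_right ?_) (Subgroup.mem_sup_left hn')
    rw [Subgroup.mem_center_iff]
    exact fun y => Subtype.ext (Subgroup.mem_center_iff.mp hz y)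

end Cfsg.Agent.S1258
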