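import Cfsg.Statements.S1276
import Cfsg.Agent.Lib.Components.PComponent

set_option autoImplicit false
open Cfsg

namespace Cfsg.Agent.S1276

/-- Let K be a 2-component of the finite group X. Then K is quasisimple if and only if ⁅K, O(K)⁆ = 1. -/
theorem result {X : Type*} [Group X] [Finite X] (K : Subgroup X) (hK : Cfsg.IsPComponent 2 K) : Cfsg.IsQuasisimple ↥K ↔ ⁅K, ((Cfsg.oddCore ↥K).map K.subtype)⁆ = ⊥ := by
  haveI : Fact (Nat.Prime 2) := ⟨Nat.prime_two⟩
  have hperf : Group.IsPerfect K :=
    Subgroup.isPerfect_iff.mpr (Cfsg.Agent.Lib.Components.isPComponent_commutator_self hK)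
  have hiff : ⁅K, (Cfsg.oddCore ↥K).map K.subtype⁆ = ⊥ ↔
      Cfsg.oddCore ↥K ≤ Subgroup.center ↥K := by
    rw [← Subgroup.commutator_top_left_eq_bot_iff_le_center,
      ← Subgroup.map_eq_bot_iff_of_injective _ K.subtype_injective, Subgroup.map_commutator,
      ← MonoidHom.range_eq_map, Subgroup.range_subtype]
  rw [hiff]
  constructor
  · intro hq
    refine (Cfsg.Agent.Lib.Components.quasisimple_normal_eq_top_or_le_center hq _).resolve_left
      fun h => Cfsg.Agent.Lib.Components.isPComponent_not_le_pPrimeCore hK ?_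
    refine le_trans ?_ (Cfsg.Agent.Lib.Components.map_pPrimeCore_le_of_subnormal hK.1)
    show K ≤ (Cfsg.oddCore ↥K).map K.subtype
    rw [h, ← MonoidHom.range_eq_map, Subgroup.range_subtype]
  · intro h
    exact Cfsg.Agent.Lib.Components.quasisimple_of_central_extension hperf
      (QuotientGroup.mk'_surjective (Cfsg.oddCore ↥K)) (by rwa [QuotientGroup.ker_mk'])
      (Cfsg.Agent.Lib.Components.quasisimple_quotient_pPrimeCore hK)

end Cfsg.Agent.S1276
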