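import Cfsg.Statements.S1281
import Cfsg.Agent.Lib.Signalizer.Family

set_option autoImplicit false
open Cfsg

namespace Cfsg.Agent.S1281

/-- Let θ be a solvable A-signalizer functor on the finite group G (A a noncyclic elementary abelian p-subgroup) and N a normal subgroup of order prime to p. Then for all non-identity a, b ∈ A, the image of θ a in G / N meets the centralizer of the image of b inside the image of θ b. -/
theorem result {G : Type*} [Group G] [Finite G] (p : ℕ) [Fact p.Prime] (A : Subgroup G) (hA : Cfsg.IsElementaryAbelian p A) (hA2 : p ^ 2 ≤ Nat.card ↥A) (θ : G → Subgroup G) (hθ : Cfsg.IsSolvableSignalizerFunctor p A θ) (N : Subgroup G) [N.Normal] (hN : ¬ p ∣ Nat.card ↥N) (a b : G) (ha : a ∈ A) (ha1 : a ≠ 1) (hb : b ∈ A) (hb1 : b ≠ 1) : (θ a).map (QuotientGroup.mk' N) ⊓ Subgroup.centralizer {QuotientGroup.mk' N b} ≤ (θ b).map (QuotientGroup.mk' N) := by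
  have hz : Subgroup.zpowers b ≤ A := Subgroup.zpowers_le.mpr hb
  have hzel := Cfsg.Agent.Lib.KBalance.isElementaryAbelian_of_le hA hz
  have hinv : Subgroup.zpowers b ≤ Subgroup.normalizer (θ a : Set G) :=
    hz.trans (Cfsg.Agent.Lib.SignalizerFamily.le_normalizer_iff_invariant.mpr
      (fun c hc x hx => hθ.1.2.2.1 a ha ha1 c hc x hx))
  have h := Cfsg.Agent.Lib.Coprime.map_inf_centralizer (A := Subgroup.zpowers b)
    (QuotientGroup.mk' N) hinv
    (Cfsg.Agent.Lib.SignalizerFamily.coprime_card hzel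
      (Cfsg.Agent.Lib.SignalizerFamily.not_dvd_of_le inf_le_right (hθ.1.2.1 a ha ha1)))
    (Or.inl (Cfsg.Agent.Lib.SignalizerFamily.isSolvable_of_isElementaryAbelian hzel))
  have h1 : Subgroup.centralizer (Subgroup.zpowers b : Set G) = Subgroup.centralizer {b} := by
    rw [Subgroup.zpowers_eq_closure, Subgroup.centralizer_closure]
  have h2 : Subgroup.centralizer (((Subgroup.zpowers b).map (QuotientGroup.mk' N) : Subgroup (G ⧸ N)) : Set (G ⧸ N)) =
      Subgroup.centralizer {QuotientGroup.mk' N b} := by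
    rw [MonoidHom.map_zpowers, Subgroup.zpowers_eq_closure, Subgroup.centralizer_closure]
  rw [h1, h2] at h
  rw [← h]
  exact Subgroup.map_mono (hθ.1.2.2.2 a ha ha1 b hb hb1)

end Cfsg.Agent.S1281
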