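import Cfsg.Statements.S1286
import Mathlib

set_option autoImplicit false
open Cfsg

namespace Cfsg.Agent.S1286

/-- There exist a finite group X, an elementary abelian subgroup A of order 4 and a solvable A-signalizer functor θ on X for the prime 2 which is not complete. -/
theorem result : ∃ (X : Type) (_ : Group X) (_ : Finite X) (A : Subgroup X) (θ : X → Subgroup X), Cfsg.IsElementaryAbelian 2 A ∧ Nat.card ↥A = 4 ∧ Cfsg.IsSolvableSignalizerFunctor 2 A θ ∧ ¬ Cfsg.IsCompleteSignalizerFunctor 2 A θ := by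
  let a : Equiv.Perm (Fin 5) := Equiv.swap 0 1
  let b : Equiv.Perm (Fin 5) := Equiv.swap 2 3
  let u : Equiv.Perm (Fin 5) := Equiv.swap 2 3 * Equiv.swap 2 4
  let v : Equiv.Perm (Fin 5) := Equiv.swap 0 1 * Equiv.swap 0 4
  have hab : ∀ g h, (g = 1 ∨ g = a ∨ g = b ∨ g = a * b) → (h = 1 ∨ h = a ∨ h = b ∨ h = a * b) →
      (g * h = 1 ∨ g * h = a ∨ g * h = b ∨ g * h = a * b) ∧ g * h = h * g := by
    rintro g h (rfl | rfl | rfl | rfl) (rfl | rfl | rfl | rfl) <;> decide +kernel
  have hinv : ∀ g, (g = 1 ∨ g = a ∨ g = b ∨ g = a * b) → g⁻¹ = g ∧ g ^ 2 = 1 := by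
    rintro g (rfl | rfl | rfl | rfl) <;> decide +kernel
  let A : Subgroup (Equiv.Perm (Fin 5)) :=
    { carrier := {g | g = 1 ∨ g = a ∨ g = b ∨ g = a * b}
      one_mem' := Or.inl rfl
      mul_mem' := fun hg hh => (hab _ _ hg hh).1
      inv_mem' := fun {g} hg => by
        show g⁻¹ = 1 ∨ _
        rw [(hinv g hg).1]
        exact hg }
  let θ : Equiv.Perm (Fin 5) → Subgroup (Equiv.Perm (Fin 5)) := fun g =>
    if g = a then Subgroup.zpowers u else if g = b then Subgroup.zpowers v else ⊥
  have hcase : ∀ g, (θ g = Subgroup.zpowers u ∧ g = a) ∨ (θ g = Subgroup.zpowers v ∧ g = b) ∨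
      θ g = ⊥ := by
    intro g
    by_cases h1 : g = a
    · exact Or.inl ⟨by simp [θ, h1], h1⟩
    by_cases h2 : g = b
    · exact Or.inr (Or.inl ⟨by
        show (if g = a then _ else if g = b then _ else _) = _
        rw [if_neg h1, if_pos h2], h2⟩)
    · exact Or.inr (Or.inr (by simp [θ, h1, h2]))
  have hou : orderOf u = 3 := by
    haveI : Fact (Nat.Prime 3) := ⟨Nat.prime_three⟩
    exact orderOf_eq_prime (by decide +kernel) (by decide +kernel)
  have hov : orderOf v = 3 := by
    haveI : Fact (Nat.Prime 3) := ⟨Nat.prime_three⟩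
    exact orderOf_eq_prime (by decide +kernel) (by decide +kernel)
  have hzu : ∀ x ∈ Subgroup.zpowers u, x = 1 ∨ x = u ∨ x = u * u := by
    intro x hx
    classical
    rw [mem_zpowers_iff_mem_range_orderOf, hou] at hx
    simp [Finset.range_add_one, pow_two] at hx
    tauto
  have hzv : ∀ x ∈ Subgroup.zpowers v, x = 1 ∨ x = v ∨ x = v * v := by
    intro x hx
    classical
    rw [mem_zpowers_iff_mem_range_orderOf, hov] at hx
    simp [Finset.range_add_one, pow_two] at hx
    tauto
  refine ⟨Equiv.Perm (Fin 5), inferInstance, inferInstance, A, θ,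
    ⟨⟨⟨fun x y => Subtype.ext (hab _ _ x.2 y.2).2⟩⟩, fun x hx => (hinv x hx).2⟩, ?_, ⟨⟨?_, ?_, ?_, ?_⟩, ?_⟩, ?_⟩
  · have e : (A : Set (Equiv.Perm (Fin 5))) = ↑({1, a, b, a * b} : Finset (Equiv.Perm (Fin 5))) := by
      ext g
      simp [A]
    show Nat.card (A : Set (Equiv.Perm (Fin 5))) = 4
    rw [e, Nat.card_coe_set_eq, Set.ncard_coe_finset]
    decide +kernel
  · intro g _ _
    rcases hcase g with ⟨h, rfl⟩ | ⟨h, rfl⟩ | h <;> rw [h]
    · exact Subgroup.zpowers_le.mpr (Subgroup.mem_centralizer_singleton_iff.mpr (by decide +kernel))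
    · exact Subgroup.zpowers_le.mpr (Subgroup.mem_centralizer_singleton_iff.mpr (by decide +kernel))
    · exact bot_le
  · intro g _ _
    rcases hcase g with ⟨h, -⟩ | ⟨h, -⟩ | h <;> rw [h]
    · rw [Nat.card_zpowers, hou]; norm_num
    · rw [Nat.card_zpowers, hov]; norm_num
    · rw [Subgroup.card_bot]; norm_num
  · intro g _ _ h hh x hx
    rcases hcase g with ⟨he, -⟩ | ⟨he, -⟩ | he <;> rw [he] at hx ⊢
    · have : h * x * h⁻¹ = 1 ∨ h * x * h⁻¹ = u ∨ h * x * h⁻¹ = u * u := by
        rcases hh with rfl | rfl | rfl | rfl <;> rcases hzu x hx with rfl | rfl | rfl <;> decide +kernel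
      rcases this with e | e | e <;> rw [e]
      exacts [one_mem _, Subgroup.mem_zpowers u, mul_mem (Subgroup.mem_zpowers u) (Subgroup.mem_zpowers u)]
    · have : h * x * h⁻¹ = 1 ∨ h * x * h⁻¹ = v ∨ h * x * h⁻¹ = v * v := by
        rcases hh with rfl | rfl | rfl | rfl <;> rcases hzv x hx with rfl | rfl | rfl <;> decide +kernel
      rcases this with e | e | e <;> rw [e]
      exacts [one_mem _, Subgroup.mem_zpowers v, mul_mem (Subgroup.mem_zpowers v) (Subgroup.mem_zpowers v)]
    · rw [Subgroup.mem_bot] at hx ⊢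
      rw [hx]
      group
  · intro g hg hg1 h hh hh1
    by_cases hgh : g = h
    · subst hgh
      exact inf_le_left
    intro x hx
    obtain ⟨hx1, hx2⟩ := Subgroup.mem_inf.mp hx
    replace hx2 := Subgroup.mem_centralizer_singleton_iff.mp hx2
    suffices x = 1 by rw [this]; exact one_mem _
    rcases hcase g with ⟨he, rfl⟩ | ⟨he, rfl⟩ | he <;> rw [he] at hx1
    · rcases hh with rfl | rfl | rfl | rfl <;> first
        | exact absurd rfl hh1
        | exact absurd rfl hgh
        | (rcases hzu x hx1 with rfl | rfl | rfl <;> revert hx2 <;> decide +kernel)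
    · rcases hh with rfl | rfl | rfl | rfl <;> first
        | exact absurd rfl hh1
        | exact absurd rfl hgh
        | (rcases hzv x hx1 with rfl | rfl | rfl <;> revert hx2 <;> decide +kernel)
    · exact Subgroup.mem_bot.mp hx1
  · intro g _ _
    rcases hcase g with ⟨h, -⟩ | ⟨h, -⟩ | h <;> rw [h] <;>
      exact Group.isSolvable_of_comm fun x y => mul_comm' x y
  · rintro ⟨-, X, -, hX2, hX⟩
    have hu : u ∈ X := by
      have h1 := hX a (Or.inr (Or.inl rfl)) (by decide +kernel)
      have h2 : u ∈ θ a := by simp [θ]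
      rw [← h1] at h2
      exact h2.1
    have hv : v ∈ X := by
      have h1 := hX b (Or.inr (Or.inr (Or.inl rfl))) (by decide +kernel)
      have h2 : v ∈ θ b := by
        have hba : b ≠ a := by decide +kernel
        simp [θ, hba]
      rw [← h1] at h2
      exact h2.1
    refine hX2 ?_
    have hw : u * v * u * v⁻¹ ∈ X := mul_mem (mul_mem (mul_mem hu hv) hu) (inv_mem hv)
    have ho : orderOf (u * v * u * v⁻¹) = 2 := orderOf_eq_prime (by decide +kernel) (by decide +kernel)
    exact ho ▸ X.orderOf_dvd_natCard hw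

end Cfsg.Agent.S1286
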