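import Cfsg.Statements.S1288
import Cfsg.Agent.Lib.Signalizer.Mid

set_option autoImplicit false
open Cfsg Cfsg.Agent.Lib Cfsg.Agent.Lib.SignalizerSolvable

namespace Cfsg.Agent.S1288

/-- Let A be a noncyclic elementary abelian p-subgroup of a finite group H normalizing a solvable subgroup K of order prime to p, q a prime dividing |K|, and U ≤ K a subgroup of order prime to q such that ⁅U, C_K(B)⁆ has order prime to q for every subgroup B of index p in A. Then U ≤ O_{q'}(K). -/
theorem result {H : Type*} [Group H] [Finite H] (p : ℕ) [Fact p.Prime] (A K : Subgroup H) (hA : Cfsg.IsElementaryAbelian p A) (hA2 : p ^ 2 ≤ Nat.card ↥A) (hK : ¬ p ∣ Nat.card ↥K) (hKs : Group.IsSolvable ↥K) (hAK : A ≤ Subgroup.normalizer (K : Set H)) (q : ℕ) [Fact q.Prime] (hqK : q ∣ Nat.card ↥K) (U : Subgroup H) (hU : U ≤ K) (hUq : ¬ q ∣ Nat.card ↥U) (hcomm : ∀ B : Subgroup H, B ≤ A → B.relIndex A = p → ¬ q ∣ Nat.card ↥⁅U, K ⊓ Subgroup.centralizer (B : Set H)⁆) : U ≤ (Cfsg.pPrimeCore q ↥K).map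 K.subtype := by
  classical
  obtain rfl | hne := eq_or_ne U ⊥
  · exact bot_le
  set R₀ := midCoreIn q K
  have hR₀K : R₀ ≤ K := Subgroup.map_subtype_le _
  have hcop := SignalizerFamily.coprime_card hA hK
  have hAR₀ : A ≤ Subgroup.normalizer (R₀ : Set H) := hAK.trans normalizer_le_normalizer_midCoreIn
  obtain ⟨T, hT⟩ := Coprime.exists_invariant_sylow (p := q) hAR₀
    (hcop.coprime_dvd_right (Subgroup.card_dvd_of_le hR₀K))
    (Or.inl (SignalizerFamily.isSolvable_of_isElementaryAbelian hA))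
  have hUr : (Nat.card U).Coprime q := ((Nat.Prime.coprime_iff_not_dvd Fact.out).mpr hUq).symm
  refine le_primeCoreIn_of_mid hKs hU hUr (midCoreIn_le_sup T) ((Subgroup.map_subtype_le _).trans hR₀K) ?_
  refine (le_stabOn_iff.mp ?_).2
  refine KBalance.le_of_hyperplanes hA hA2 hT
    (SignalizerFamily.not_dvd_of_le ((Subgroup.map_subtype_le _).trans hR₀K) hK) fun B hBA hBc => ?_
  refine le_stabOn_iff.mpr ⟨inf_le_left.trans (((Subgroup.map_subtype_le _).trans hR₀K).trans
    le_normalizer_primeCoreIn), ?_⟩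
  obtain ⟨B', hB'A, hB'p, hB'B⟩ : ∃ B' : Subgroup H, B' ≤ A ∧ B'.relIndex A = p ∧
      Subgroup.centralizer (B : Set H) ≤ Subgroup.centralizer (B' : Set H) := by
    rcases eq_or_ne B A with rfl | hBne
    · obtain ⟨B', hB', hB'c⟩ := exists_index_p hA hA2
      exact ⟨B', hB', hB'c, Subgroup.centralizer_le hB'⟩
    · exact ⟨B, hBA, relIndex_eq_of_card_le hA hBA hBne hBc, le_rfl⟩
  refine mem_primeCoreIn_of_mem_mid ?_ ?_
  · refine (Subgroup.commutator_mono (inf_le_left.trans (Subgroup.map_subtype_le _)) le_rfl).trans ?_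
    exact Subgroup.le_normalizer_iff_commutator_le_left.mp
      (hU.trans (Subgroup.le_normalizer.trans normalizer_le_normalizer_midCoreIn))
  · have h1 := hcomm B' hB'A hB'p
    rw [Subgroup.commutator_comm] at h1
    refine ((Nat.Prime.coprime_iff_not_dvd (Fact.out : q.Prime)).mpr h1).symm.coprime_dvd_left
      (Subgroup.card_dvd_of_le (Subgroup.commutator_mono ?_ le_rfl))
    exact le_inf (inf_le_left.trans ((Subgroup.map_subtype_le _).trans hR₀K))
      (inf_le_right.trans hB'B)

end Cfsg.Agent.S1288
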