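import Cfsg.Statements.S1295
import Cfsg.Agent.S1294
import Cfsg.Agent.Lib.CoreSeparated.Basic

set_option autoImplicit false
open Cfsg Cfsg.Agent.Lib

namespace Cfsg.Agent.S1295

/-- Let G be finite with O_{p'}(G) = 1 and p-rank at least 3, whose reduced rank-2 commuting graph for p is connected. Suppose that for every element a of order p with m_p(C_G(a)) ≥ 3 the p-layer of C_G(a) is trivial and O_{p'}(C_G(a)) is solvable. Then F*(C_G(a)) = O_p(C_G(a)) for every such a. -/
theorem result {G : Type*} [Group G] [Finite G] (p : ℕ) [Fact p.Prime] (hO : Cfsg.pPrimeCore p G = ⊥) (hrk : ¬ Cfsg.PRankLE p 2 G) (hconn : Cfsg.IsRankGraphConnected p 2 G) (hL : ∀ a : G, (orderOf a = p ∧ ¬ Cfsg.PRankLE p 2 ↥(Subgroup.centralizer ({a} : Set G))) → Cfsg.pLayer p ↥(Subgroup.centralizer ({a} : Set G)) = ⊥ ∧ Group.IsSolvable ↥(Cfsg.centralizerPPrimeCore p a)) (a : G) (ha : (orderOf a = p ∧ ¬ Cfsg.PRankLE p 2 ↥(Subgroup.centralizer ({a} : Set G)))) : Cfsg.generalizedFittingSubgroup ↥(Subgroup.centralizer ({a} : Set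 G)) = Cfsg.pCore p ↥(Subgroup.centralizer ({a} : Set G)) := by
  have hp : p.Prime := Fact.out
  have hconj : ∀ x g : G, centralizerPPrimeCore p (g * x * g⁻¹) =
      (centralizerPPrimeCore p x).map (MulAut.conj g).toMonoidHom := by
    intro x g
    refine le_antisymm ?_ ?_
    · intro z hz
      refine ⟨g⁻¹ * z * g, CoreSeparated.mem_centralizerPPrimeCore_of_injective
        (MulAut.conj g).toMonoidHom (MulAut.conj g).injective ?_, ?_⟩
      · simpa [mul_assoc] using hz
      · show g * (g⁻¹ * z * g) * g⁻¹ = z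
        group
    · rintro _ ⟨y, hy, rfl⟩
      refine CoreSeparated.mem_centralizerPPrimeCore_of_injective (MulAut.conj g⁻¹).toMonoidHom
        (MulAut.conj g⁻¹).injective ?_
      simpa [mul_assoc] using hy
  have hbot := Cfsg.Agent.S1294.result p hO hrk hconn (centralizerPPrimeCore p)
    (fun x hx => ⟨Components.centralizerPPrimeCore_le_centralizer x,
      (Nat.Prime.coprime_iff_not_dvd hp).mp (Components.centralizerPPrimeCore_coprime x).symm,
      (hL x hx).2⟩)
    (fun x g _ => hconj x g)
    (fun x y hx hy hxy => Components.centralizerPPrimeCore_inf_le (hL y hy).1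
      (Components.isPGroup_zpowers_of_orderOf_eq hx.1) hxy) a ha
  refine Components.gfs_eq_pCore_of_localLayer_eq_bot _ ((Components.localLayer_eq_bot_iff _).mpr
    ⟨(hL a ha).1, ?_⟩)
  exact (Subgroup.map_eq_bot_iff_of_injective _ (Subgroup.subtype_injective _)).mp hbot

end Cfsg.Agent.S1295
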