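import Cfsg.Statements.S1297
import Cfsg.Agent.Lib.KBalance.Local
-- import your own Cfsg.Agent.* helpers here

set_option autoImplicit false
open Cfsg

namespace Cfsg.Agent.S1297

/-- Let G be finite. Suppose that for every involution x, writing C = C_G(x), every component K of C / O(C) has K / Z(K) locally balanced. Then G is balanced. -/
theorem result {G : Type*} [Group G] [Finite G] (h : ∀ x : G, orderOf x = 2 → ∀ K : Subgroup (↥(Subgroup.centralizer ({x} : Set G)) ⧸ Cfsg.oddCore ↥(Subgroup.centralizer ({x} : Set G))), Cfsg.IsComponent K → Cfsg.IsLocallyBalanced (↥K ⧸ Subgroup.center ↥K)) : Cfsg.IsBalanced G := by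
  haveI : Fact (Nat.Prime 2) := ⟨Nat.prime_two⟩
  have key : ∀ x y : G, orderOf x = 2 → orderOf y = 2 → x * y = y * x →
      Cfsg.centralizerPPrimeCore 2 x ⊓ Subgroup.centralizer {y} ≤
        Cfsg.centralizerPPrimeCore 2 y ⊓ Subgroup.centralizer {x} := by
    intro x y hx hy hxy
    refine le_inf ?_ (inf_le_left.trans (Cfsg.Agent.Lib.KBalance.centralizerPPrimeCore_le x))
    have hB : Cfsg.IsElementaryAbelian 2 (Subgroup.zpowers x) := by
      refine ⟨inferInstance, fun a ha => ?_⟩
      obtain ⟨i, rfl⟩ := Subgroup.mem_zpowers_iff.mp ha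
      rw [← zpow_natCast, ← zpow_mul, mul_comm, zpow_mul, zpow_natCast,
        (hx ▸ pow_orderOf_eq_one x : x ^ 2 = 1), one_zpow]
    refine le_trans ?_ (Cfsg.Agent.Lib.KBalance.signalizerDelta_inf_le (k := 1) le_rfl hB
      (by rw [Nat.card_zpowers, hx, pow_one]) ?_ fun L hL => Or.inr ?_)
    · refine inf_le_inf_right _ (le_iInf ?_)
      rintro ⟨a, ha, ha1⟩
      obtain ⟨i, rfl⟩ := Subgroup.mem_zpowers_iff.mp ha
      have hxa : x ^ i = x := by
        have hx2 : x ^ (2 : ℤ) = 1 := by
          have h2 := pow_orderOf_eq_one x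
          rw [hx] at h2
          exact_mod_cast h2
        rcases Int.even_or_odd i with ⟨m, rfl⟩ | ⟨m, rfl⟩
        · exact absurd (by rw [← two_mul, zpow_mul, hx2, one_zpow]) ha1
        · rw [zpow_add, zpow_mul, hx2, one_zpow, one_mul, zpow_one]
      show Cfsg.centralizerPPrimeCore 2 x ≤ Cfsg.centralizerPPrimeCore 2 (x ^ i)
      rw [hxa]
    · exact Subgroup.zpowers_le.mpr (Subgroup.mem_centralizer_singleton_iff.mpr hxy)
    · intro H hH A hA hAc
      obtain ⟨a, ha, ha1⟩ := Cfsg.Agent.Lib.KBalance.ne_bot_iff_exists_ne_one'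
        (B := A) (fun e => by rw [e, Subgroup.card_bot] at hAc; omega)
      rw [eq_bot_iff, ← h y hy L hL H hH a
        (Cfsg.Agent.Lib.KBalance.orderOf_eq_of_mem hA ha ha1)]
      exact Cfsg.Agent.Lib.KBalance.signalizerDelta_le ha ha1
  intro x y hx hy hxy
  exact le_antisymm (key x y hx hy hxy) (key y x hy hx hxy.symm)

end Cfsg.Agent.S1297
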