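import Cfsg.Statements.S1300
import Cfsg.Agent.Lib.Components.BalanceBasic

set_option autoImplicit false
open Cfsg

namespace Cfsg.Agent.S1300

/-- For a finite group G, balance in the sense of commuting involutions is the same as 1-balance for the prime 2. -/
theorem result {G : Type*} [Group G] [Finite G] : Cfsg.IsBalanced G ↔ Cfsg.IsKBalanced 2 1 G := by
  haveI : Fact (Nat.Prime 2) := ⟨Nat.prime_two⟩
  have key : ∀ x : G, orderOf x = 2 →
      Cfsg.signalizerDelta 2 (Subgroup.zpowers x) = Cfsg.centralizerPPrimeCore 2 x := by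
    intro x hx
    refine le_antisymm (iInf_le_of_le ⟨x, Subgroup.mem_zpowers x, fun h => by simp [h] at hx⟩ le_rfl)
      (le_iInf ?_)
    rintro ⟨a, ha, ha1⟩
    obtain ⟨n, rfl⟩ := Subgroup.mem_zpowers_iff.mp ha
    show _ ≤ Cfsg.centralizerPPrimeCore 2 (x ^ n)
    clear ha
    rw [← zpow_mod_orderOf, hx] at ha1 ⊢
    rcases Int.emod_two_eq_zero_or_one n with h | h
    · simp [h] at ha1
    · simp [h]
  constructor
  · intro h A hA hcard b hb hcomm
    obtain ⟨⟨x, hxA⟩, hx⟩ := exists_prime_orderOf_dvd_card' (G := A) 2 (by rw [hcard]; simp)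
    rw [Subgroup.orderOf_mk] at hx
    have hAx : A = Subgroup.zpowers x := (Subgroup.eq_of_le_of_card_ge (Subgroup.zpowers_le.mpr hxA)
      (by rw [hcard, Nat.card_zpowers, hx, pow_one])).symm
    rw [hAx, key x hx, h x b hx hb (hcomm x hxA)]
    exact inf_le_left
  · intro h x y hx hy hxy
    have hstep : ∀ u v : G, orderOf u = 2 → orderOf v = 2 → Commute u v →
        Cfsg.centralizerPPrimeCore 2 u ⊓ Subgroup.centralizer {v} ≤
          Cfsg.centralizerPPrimeCore 2 v ⊓ Subgroup.centralizer {u} := by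
      intro u v hu hv huv
      refine le_inf ?_
        (inf_le_left.trans (Cfsg.Agent.Lib.Components.centralizerPPrimeCore_le_centralizer u))
      have hel : Cfsg.IsElementaryAbelian 2 (Subgroup.zpowers u) := by
        refine ⟨⟨⟨fun a b => ?_⟩⟩, ?_⟩
        · obtain ⟨a, i, rfl⟩ := a
          obtain ⟨b, j, rfl⟩ := b
          exact Subtype.ext (((Commute.refl u).zpow_zpow i j).eq)
        · rintro _ ⟨i, rfl⟩
          show (u ^ i) ^ 2 = 1
          rw [← zpow_natCast (u ^ i), ← zpow_mul, mul_comm, zpow_mul, zpow_natCast, ← hu,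
            pow_orderOf_eq_one, one_zpow]
      rw [← key u hu]
      refine h _ hel (by rw [Nat.card_zpowers, hu, pow_one]) v hv ?_
      rintro _ ⟨i, rfl⟩
      exact (huv.zpow_left i).eq
    exact le_antisymm (hstep x y hx hy hxy) (hstep y x hy hx (Commute.symm hxy))

end Cfsg.Agent.S1300
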