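import Cfsg.Statements.S1303
import Cfsg.Agent.Lib.PSolvable.HallHigman
import Cfsg.Agent.Lib.PSolvable.PSolv
import Cfsg.Agent.Lib.Burnside.Paqb

set_option autoImplicit false
open Cfsg

namespace Cfsg.Agent.S1303

/-- The group X = SL(2, 3): it is 2-constrained, O_{2'}(X) = 1, its centre A = Z(X) contains every involution of X = C_X(A), and X has a subgroup of order 3 (normalized by A) not contained in O_{2'}(X). -/
theorem result : Cfsg.IsPConstrained 2 (Matrix.SpecialLinearGroup (Fin 2) (ZMod 3)) ∧ Cfsg.pPrimeCore 2 (Matrix.SpecialLinearGroup (Fin 2) (ZMod 3)) = ⊥ ∧ (∀ t : Matrix.SpecialLinearGroup (Fin 2) (ZMod 3), orderOf t = 2 → t ∈ Subgroup.center (Matrix.SpecialLinearGroup (Fin 2) (ZMod 3))) ∧ ∃ Q : Subgroup (Matrix.SpecialLinearGroup (Fin 2) (ZMod 3)), Nat.card ↥Q = 3 ∧ ¬ (Q ≤ Cfsg.pPrimeCore 2 (Matrix.SpecialLinearGroup (Fin 2) (ZMod 3))) := by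
  have hc : Nat.card (Matrix.SpecialLinearGroup (Fin 2) (ZMod 3)) = 24 := by
    rw [Nat.card_eq_fintype_card]
    decide +kernel
  have hO : Cfsg.pPrimeCore 2 (Matrix.SpecialLinearGroup (Fin 2) (ZMod 3)) = ⊥ := by
    refine sSup_eq_bot.mpr fun N ⟨hN, hcop⟩ => (Subgroup.eq_bot_iff_forall N).mpr fun x hx => ?_
    have h3 : ∀ y ∈ N, y ^ 3 = 1 := fun y hy => by
      have hd : Nat.card N ∣ 3 := by
        refine (Nat.Coprime.pow_right 3 hcop).dvd_of_dvd_mul_right ?_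
        rw [show 3 * 2 ^ 3 = 24 by norm_num, ← hc]
        exact Subgroup.card_subgroup_dvd_card N
      exact orderOf_dvd_iff_pow_eq_one.mp ((N.orderOf_dvd_natCard hy).trans hd)
    have key : ∀ x : Matrix.SpecialLinearGroup (Fin 2) (ZMod 3), x ^ 3 = 1 → x ≠ 1 →
        ∃ g, (g * x * g⁻¹ * x⁻¹) ^ 3 ≠ 1 := by
      decide +kernel
    by_contra hx1
    obtain ⟨g, hg⟩ := key x (h3 x hx) hx1
    exact hg (h3 _ (N.mul_mem (hN.conj_mem x hx g) (N.inv_mem hx)))
  have hsol : Group.IsSolvable (Matrix.SpecialLinearGroup (Fin 2) (ZMod 3)) :=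
    Lib.Burnside.isSolvable_of_card_eq_prime_pow_mul (p := 2) (q := 3) (a := 3) (b := 1) Nat.prime_two Nat.prime_three (by rw [hc]; norm_num)
  refine ⟨Lib.PSolvable.isPConstrained_of_isPSolvable Lib.PSolvable.isPSolvable_of_isSolvable, hO, ?_, ?_⟩
  · intro t ht
    have key : ∀ t : Matrix.SpecialLinearGroup (Fin 2) (ZMod 3), t * t = 1 → ∀ g, g * t = t * g := by
      decide +kernel
    refine Subgroup.mem_center_iff.mpr (key t ?_)
    have h := pow_orderOf_eq_one t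
    rwa [ht, pow_two] at h
  · obtain ⟨u, hu1, hu2⟩ : ∃ u : Matrix.SpecialLinearGroup (Fin 2) (ZMod 3), u ^ 3 = 1 ∧ u ≠ 1 := by
      decide +kernel
    refine ⟨Subgroup.zpowers u, ?_, ?_⟩
    · haveI : Fact (Nat.Prime 3) := ⟨Nat.prime_three⟩
      rw [Nat.card_zpowers]
      exact orderOf_eq_prime hu1 hu2
    · rw [hO, Subgroup.zpowers_le, Subgroup.mem_bot]
      exact hu2

end Cfsg.Agent.S1303
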