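import Cfsg.Statements.S1304
import Mathlib

set_option autoImplicit false
open Cfsg

namespace Cfsg.Agent.S1304

/-- Let X be a perfect group and α an automorphism of X with α(x) x⁻¹ central for every x. Then α is the identity. -/
theorem result {X : Type*} [Group X] (hperf : commutator X = ⊤) (α : X ≃* X) (h : ∀ x : X, α x * x⁻¹ ∈ Subgroup.center X) : ∀ x : X, α x = x := by
  have key : ∀ y ∈ commutator X, α y = y := by
    intro y hy
    rw [commutator_eq_closure] at hy
    induction hy using Subgroup.closure_induction with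
    | mem z hz =>
      obtain ⟨a, b, rfl⟩ := hz
      have e : ∀ x : X, α x = (α x * x⁻¹) * x := fun x => (inv_mul_cancel_right _ _).symm
      rw [map_commutatorElement, e a, e b]
      have ca := Subgroup.mem_center_iff.1 (h a)
      have cb := Subgroup.mem_center_iff.1 (h b)
      generalize α a * a⁻¹ = c at ca
      generalize α b * b⁻¹ = d at cb
      simp only [commutatorElement_def, mul_inv_rev]
      have ci : ∀ u : X, u * c⁻¹ = c⁻¹ * u := fun u =>
        (Commute.inv_right (ca u : Commute u c)).eq
      have di : ∀ u : X, u * d⁻¹ = d⁻¹ * u := fun u =>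
        (Commute.inv_right (cb u : Commute u d)).eq
      calc c * a * (d * b) * (a⁻¹ * c⁻¹) * (b⁻¹ * d⁻¹)
          = c * (a * (d * b) * a⁻¹) * c⁻¹ * (b⁻¹ * d⁻¹) := by group
        _ = a * (d * b) * a⁻¹ * (b⁻¹ * d⁻¹) := by rw [← ca, mul_inv_cancel_right]
        _ = (a * d) * (b * a⁻¹ * b⁻¹) * d⁻¹ := by group
        _ = d * (a * b * a⁻¹ * b⁻¹) * d⁻¹ := by rw [cb a]; group
        _ = a * b * a⁻¹ * b⁻¹ := by rw [← cb, mul_inv_cancel_right]
    | one => exact map_one α
    | mul x y _ _ hx hy => rw [map_mul, hx, hy]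
    | inv x _ hx => rw [map_inv, hx]
  intro x
  exact key x (hperf ▸ Subgroup.mem_top x)

end Cfsg.Agent.S1304
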