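import Cfsg.Statements.S1305
import Mathlib
import Cfsg.Agent.Lib.ZStar.LBalance
import Cfsg.Agent.Lib.KBalance.BBalance

set_option autoImplicit false
open Cfsg Subgroup

namespace Cfsg.Agent.S1305

open Cfsg.Agent.Lib
open scoped commutatorElement

universe u

/-- With `[L_{2'}(C), O(C)] = 1` the 2-layer is the layer. -/
theorem pLayer_le_layer {C : Type u} [Group C] [Finite C] [Fact (Nat.Prime 2)]
    (h : ⁅pLayer 2 C, pPrimeCore 2 C⁆ = ⊥) : pLayer 2 C ≤ layer C := by
  refine sSup_le fun K hK => le_sSup (show IsComponent K from ⟨hK.1, ?_⟩)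
  haveI : Group.IsPerfect K := ⟨by
    apply map_injective K.subtype_injective
    rw [_root_.commutator_def, map_commutator, ← MonoidHom.range_eq_map, range_subtype,
      Components.isPComponent_commutator_self hK]⟩
  refine Components.quasisimple_of_central_extension inferInstance
    (f := QuotientGroup.mk' (pPrimeCore 2 K)) (QuotientGroup.mk'_surjective _) ?_
    (Components.quasisimple_quotient_pPrimeCore hK)
  rw [QuotientGroup.ker_mk']
  intro x hx
  have hxO : (x : C) ∈ pPrimeCore 2 C := by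
    have h1 := mem_map_of_mem K.subtype hx
    rw [Components.map_pPrimeCore_of_subnormal hK.1] at h1
    exact h1.2
  refine mem_center_iff.2 fun y => Subtype.ext ?_
  have h2 := commutator_mem_commutator (Components.isPComponent_le_pLayer hK y.2) hxO
  rw [h, mem_bot, commutatorElement_eq_one_iff_mul_comm] at h2
  exact h2

/-- The heart: inside `X = C(b)`. -/
theorem exists_component_pump {X : Type u} [Group X] [Finite X] [Fact (Nat.Prime 2)]
    (hL : pLayer 2 X ≤ layer X) (a : X) (ha : orderOf a = 2) (K : Subgroup X)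
    (hKa : K ≤ centralizer ({a} : Set X))
    (hK : IsComponent (K.subgroupOf (centralizer ({a} : Set X)))) (hK2 : 2 ∣ Nat.card K) :
    ∃ D : Subgroup X, IsComponent D ∧ (K ≤ D ∨ (D.map (MulAut.conj a).toMonoidHom ≠ D ∧
      ∀ k ∈ K, ∃ d ∈ D, d * (a * d * a⁻¹) = k)) := by
  set R := zpowers a with hR
  have ha2 : a * a = 1 := by rw [← pow_two, ← ha]; exact pow_orderOf_eq_one a
  have hmemR : ∀ r, r ∈ R ↔ r = 1 ∨ r = a := fun r => by
    constructor
    · rintro ⟨i, rfl⟩
      rcases Int.even_or_odd' i with ⟨j, rfl | rfl⟩ <;>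
        simp [zpow_add, zpow_mul, show a ^ (2 : ℤ) = 1 by rw [zpow_two]; exact ha2]
    · rintro (rfl | rfl)
      · exact one_mem _
      · exact mem_zpowers _
  have hNC : normalizer (R : Set X) = centralizer ({a} : Set X) := by
    refine le_antisymm (fun g hg => ?_) (by
      rw [← centralizer_closure, ← zpowers_eq_closure]; exact centralizer_le_normalizer _)
    rw [mem_centralizer_singleton_iff]
    rcases (hmemR _).1 ((mem_normalizer_iff.1 hg a).1 (mem_zpowers a)) with h | h
    · exfalso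
      rw [mul_inv_eq_one, mul_eq_left] at h
      rw [h, orderOf_one] at ha; omega
    · exact (mul_inv_eq_iff_eq_mul.1 h)
  have hRp : IsPGroup 2 R := IsPGroup.of_card (n := 1) (by rw [Nat.card_zpowers, ha, pow_one])
  set Cs := centralizer ({a} : Set X) with hCs
  have hKC : IsPComponentOf 2 K Cs := ⟨hKa, Components.isComponent_isPComponent hK
    (by rwa [Nat.card_congr (subgroupOfEquivOfLe hKa).toEquiv])⟩
  have hKN : IsPComponentOf 2 K (normalizer (R : Set X)) := by rw [hNC]; exact hKC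
  have hKperf := KBalance.pcompOf_perfect hKN
  have hKE : K ≤ layer X := by
    refine le_trans ?_ hL
    have h1 := Lib.ZStar.LBalance.pLayer_normalizer_le (X := X) hRp
    refine le_trans ?_ h1
    rw [← map_subgroupOf_eq_of_le hKN.1]
    exact map_mono (Components.isPComponent_le_pLayer hKN.2)
  have hK1 : K ≠ ⊥ := fun h => by rw [h, card_bot] at hK2; omega
  obtain ⟨E, hE, hKEne⟩ : ∃ E : Subgroup X, IsComponent E ∧ ¬ K ≤ centralizer (E : Set X) := by
    by_contra h
    push Not at h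
    apply hK1
    rw [← hKperf, commutator_eq_bot_iff_le_centralizer, le_centralizer_iff]
    refine le_trans hKE (Components.layer_le_iff.mpr fun L hL => ?_)
    exact le_centralizer_iff.mp (h L hL)
  set E' := E.map (MulAut.conj a).toMonoidHom with hE'
  have hE'c : IsComponent E' := Components.isComponent_conj hE a
  set V := ⨆ M : {M : Subgroup X // IsComponent M ∧ M ≠ E ∧ M ≠ E'}, (M : Subgroup X)
  have hconj : ∀ S : Subgroup X, (S.map (MulAut.conj a).toMonoidHom).map (MulAut.conj a).toMonoidHom = S := by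
    intro S
    rw [Components.map_conj_map_conj, ha2, Components.map_conj_one]
  have hnormR : ∀ S : Subgroup X, S.map (MulAut.conj a).toMonoidHom ≤ S → R ≤ normalizer (S : Set X) := by
    intro S hS
    rw [hR, zpowers_le, mem_normalizer_iff_map_conj_eq]
    refine le_antisymm hS ?_
    conv_lhs => rw [← hconj S]
    exact map_mono hS
  have hUR : R ≤ normalizer ((E ⊔ E' : Subgroup X) : Set X) :=
    hnormR _ (by rw [Subgroup.map_sup, hE', hconj, sup_comm])
  have hVR : R ≤ normalizer (V : Set X) := hnormR _ (by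
    rw [Subgroup.map_iSup]
    refine iSup_le fun M => le_iSup_of_le ⟨M.1.map (MulAut.conj a).toMonoidHom,
      Components.isComponent_conj M.2.1 a,
      fun e => M.2.2.2 ((hconj M.1).symm.trans (congrArg _ e)),
      fun e => M.2.2.1 ((hconj M.1).symm.trans ((congrArg _ e).trans (hconj E)))⟩ le_rfl)
  have hVU : V ≤ centralizer ((E ⊔ E' : Subgroup X) : Set X) := iSup_le fun M => by
    rw [le_centralizer_iff, sup_le_iff]
    exact ⟨Components.isComponent_le_centralizer hE M.2.1 (Ne.symm M.2.2.1),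
      Components.isComponent_le_centralizer hE'c M.2.1 (Ne.symm M.2.2.2)⟩
  have hKUV : K ≤ (E ⊔ E') ⊔ V := hKE.trans (Components.layer_le_iff.mpr fun M hM => by
    by_cases h : M = E
    · exact h ▸ le_sup_left.trans le_sup_left
    by_cases h' : M = E'
    · exact h' ▸ le_sup_right.trans le_sup_left
    exact (le_iSup (fun M : {M : Subgroup X // IsComponent M ∧ M ≠ E ∧ M ≠ E'} =>
      (M : Subgroup X)) ⟨M, hM, h, h'⟩).trans le_sup_right)
  have hUs : (E ⊔ E').IsSubnormal := by
    rw [← sSup_pair]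
    exact Components.subnormal_sSup _ (by
      rintro _ (rfl | rfl)
      exacts [hE.1, hE'c.1])
  have hVs : V.IsSubnormal := by
    show (⨆ M : {M : Subgroup X // IsComponent M ∧ M ≠ E ∧ M ≠ E'}, (M : Subgroup X)).IsSubnormal
    rw [← sSup_range]
    exact Components.subnormal_sSup _ (by rintro _ ⟨M, rfl⟩; exact M.2.1.1)
  have hKU : K ≤ E ⊔ E' := by
    rcases KBalance.pcomp_le_or_le hRp hKN hUs hVs (le_centralizer_iff.mp hVU) hUR hVR hKUV with h | h
    · exact h
    · exact absurd ((h.trans hVU).trans (centralizer_le (le_sup_left (b := E')))) hKEne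
  refine ⟨E, hE, ?_⟩
  by_cases heq : E' = E
  · exact Or.inl (hKU.trans (by rw [heq, sup_idem]))
  refine Or.inr ⟨heq, ?_⟩
  have hcom : E' ≤ centralizer (E : Set X) :=
    Components.isComponent_le_centralizer hE'c hE heq
  have hc : ∀ x ∈ E, ∀ y ∈ E, Commute x (a * y * a⁻¹) := fun x hx y hy =>
    mem_centralizer_iff.1 (hcom ⟨y, hy, rfl⟩) x hx
  -- elements fixed by `a` are `d d^a` up to a central factor
  have key : ∀ k ∈ K, ∃ d ∈ E, ∃ c, c ∈ E' ∧ c ∈ centralizer (E' : Set X) ∧
      d * (a * d * a⁻¹) * c = k := by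
    intro k hk
    have h1 : k ∈ ((E ⊔ E' : Subgroup X) : Set X) := hKU hk
    rw [coe_mul_of_right_le_normalizer_left E E'
      (hcom.trans (centralizer_le_normalizer _))] at h1
    obtain ⟨u, hu, v', hv', rfl⟩ := h1
    obtain ⟨v, hv, rfl⟩ := hv'
    have hai : a⁻¹ = a := inv_eq_of_mul_eq_one_right ha2
    simp only [MulEquiv.coe_toMonoidHom, MulAut.conj_apply] at *
    have hk' := mem_centralizer_singleton_iff.1 (hKa hk)
    have h2 : a * (u * (a * v * a⁻¹)) * a⁻¹ = u * (a * v * a⁻¹) := by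
      rw [← hk', mul_inv_cancel_right]
    have h3 : (a * u * a⁻¹) * v = u * (a * v * a⁻¹) := by
      calc (a * u * a⁻¹) * v = a * u * a⁻¹ * ((a * a) * v * (a * a)⁻¹) := by rw [ha2]; group
        _ = a * (u * (a * v * a⁻¹)) * a⁻¹ := by group
        _ = _ := h2
    have h4 : u⁻¹ * v = (a * u * a⁻¹)⁻¹ * (a * v * a⁻¹) := by
      have h5 : v * (a * u * a⁻¹) = u * (a * v * a⁻¹) := (hc v hv u hu).eq.trans h3
      calc u⁻¹ * v = u⁻¹ * (v * (a * u * a⁻¹)) * (a * u * a⁻¹)⁻¹ := by group
        _ = (a * v * a⁻¹) * (a * u * a⁻¹)⁻¹ := by rw [h5]; group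
        _ = _ := by
          have h6 : v⁻¹ * u = (a * u * a⁻¹) * (a * v * a⁻¹)⁻¹ := by
            calc v⁻¹ * u = v⁻¹ * (u * (a * v * a⁻¹)) * (a * v * a⁻¹)⁻¹ := by group
              _ = (a * u * a⁻¹) * (a * v * a⁻¹)⁻¹ := by rw [← h5]; group
          have h7 : Commute (a * u * a⁻¹) (u⁻¹ * v) := (hc _ (mul_mem (inv_mem hu) hv) u hu).symm
          have h8 : u⁻¹ * v = (a * v * a⁻¹) * (a * u * a⁻¹)⁻¹ := by
            calc u⁻¹ * v = (v⁻¹ * u)⁻¹ := by group
              _ = _ := by rw [h6]; group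
          rw [← h8]
          calc u⁻¹ * v = (a * u * a⁻¹)⁻¹ * ((a * u * a⁻¹) * (u⁻¹ * v)) := by group
            _ = (a * u * a⁻¹)⁻¹ * ((u⁻¹ * v) * (a * u * a⁻¹)) := by rw [h7.eq]
            _ = (a * u * a⁻¹)⁻¹ * (a * v * a⁻¹) := by rw [h8]; group
    refine ⟨u, hu, u⁻¹ * v, ?_, ?_, ?_⟩
    · rw [h4]; exact mul_mem (inv_mem ⟨u, hu, rfl⟩) ⟨v, hv, rfl⟩
    · rw [le_centralizer_iff] at hcom
      exact hcom (mul_mem (inv_mem hu) hv)
    · rw [h4]; group
  intro k hk
  rw [← hKperf] at hk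
  have hcl : ⁅K, K⁆ ≤
      ({ carrier := {x | ∃ d ∈ E, d * (a * d * a⁻¹) = x}
         mul_mem' := fun {x y} ⟨d, hd, hx⟩ ⟨e, he, hy⟩ => ⟨d * e, mul_mem hd he, by
            rw [← hx, ← hy]
            calc d * e * (a * (d * e) * a⁻¹) = d * (e * (a * d * a⁻¹)) * (a * e * a⁻¹) := by group
              _ = d * ((a * d * a⁻¹) * e) * (a * e * a⁻¹) := by rw [(hc e he d hd).eq]
              _ = _ := by group⟩
         one_mem' := ⟨1, one_mem _, by simp⟩
         inv_mem' := fun {x} ⟨d, hd, hx⟩ => ⟨d⁻¹, inv_mem hd, by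
            rw [← hx, (hc d hd d hd).eq]; group⟩ } : Subgroup X) := by
    rw [commutator_le]
    intro x hx y hy
    obtain ⟨d, hd, c, hcE, hcc, rfl⟩ := key x hx
    obtain ⟨e, he, c', hcE', hcc', rfl⟩ := key y hy
    -- the central factors drop out of the commutator
    have hcent : ∀ c, c ∈ E' → c ∈ centralizer (E' : Set X) → ∀ z ∈ E ⊔ E', Commute c z := by
      intro c h1 h2 z hz
      have hle : E ⊔ E' ≤ centralizer {c} := sup_le
        (fun s hs => mem_centralizer_singleton_iff.2 (mem_centralizer_iff.1 (hcom h1) s hs))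
        (fun s hs => mem_centralizer_singleton_iff.2 (mem_centralizer_iff.1 h2 s hs))
      exact (mem_centralizer_singleton_iff.1 (hle hz)).symm
    set A := d * (a * d * a⁻¹) with hA
    set B := e * (a * e * a⁻¹) with hB
    have hAm : A ∈ E ⊔ E' := mul_mem (mem_sup_left hd) (mem_sup_right ⟨d, hd, rfl⟩)
    have hBm : B ∈ E ⊔ E' := mul_mem (mem_sup_left he) (mem_sup_right ⟨e, he, rfl⟩)
    refine ⟨⁅d, e⁆, mul_mem (mul_mem (mul_mem hd he) (inv_mem hd)) (inv_mem he), ?_⟩
    have h9 : ⁅A * c, B * c'⁆ = ⁅A, B⁆ := by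
      have q1 := hcent c hcE hcc _ (mul_mem hBm (mem_sup_right hcE') : B * c' ∈ E ⊔ E')
      have q2 := hcent c' hcE' hcc' _ (inv_mem hAm)
      rw [commutatorElement_def, commutatorElement_def]
      calc A * c * (B * c') * (A * c)⁻¹ * (B * c')⁻¹
          = A * ((c * (B * c')) * c⁻¹) * A⁻¹ * (B * c')⁻¹ := by group
        _ = A * B * (c' * A⁻¹) * c'⁻¹ * B⁻¹ := by rw [q1.eq]; group
        _ = A * B * A⁻¹ * B⁻¹ := by rw [q2.eq]; group
    rw [h9, hA, hB]
    have p1 := (hc e he d hd).eq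
    have p2 : Commute (a * e * a⁻¹) d⁻¹ := (hc d⁻¹ (inv_mem hd) e he).symm
    have p3 : Commute (a * d * a⁻¹)⁻¹ e⁻¹ := ((hc e he d hd).inv_inv).symm
    have p4 : Commute (a * d * a⁻¹ * (a * e * a⁻¹) * (a * d * a⁻¹)⁻¹) e⁻¹ := by
      rw [show a * d * a⁻¹ * (a * e * a⁻¹) * (a * d * a⁻¹)⁻¹ = a * (d * e * d⁻¹) * a⁻¹ by group]
      exact (hc e⁻¹ (inv_mem he) _ (mul_mem (mul_mem hd he) (inv_mem hd))).symm
    have p5 : Commute (a * d * a⁻¹ * (a * e * a⁻¹) * (a * d * a⁻¹)⁻¹) d⁻¹ := by
      rw [show a * d * a⁻¹ * (a * e * a⁻¹) * (a * d * a⁻¹)⁻¹ = a * (d * e * d⁻¹) * a⁻¹ by group]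
      exact (hc d⁻¹ (inv_mem hd) _ (mul_mem (mul_mem hd he) (inv_mem hd))).symm
    set w := a * d * a⁻¹ * (a * e * a⁻¹) * (a * d * a⁻¹)⁻¹ with hw
    symm
    rw [commutatorElement_def, commutatorElement_def]
    calc d * (a * d * a⁻¹) * (e * (a * e * a⁻¹)) * (d * (a * d * a⁻¹))⁻¹ * (e * (a * e * a⁻¹))⁻¹
        = d * ((a * d * a⁻¹) * e) * (a * e * a⁻¹) * (a * d * a⁻¹)⁻¹ * d⁻¹ * (a * e * a⁻¹)⁻¹ * e⁻¹ := by group
      _ = d * e * (w * d⁻¹) * (a * e * a⁻¹)⁻¹ * e⁻¹ := by rw [← p1, hw]; group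
      _ = d * e * d⁻¹ * ((w * (a * e * a⁻¹)⁻¹) * e⁻¹) := by rw [p5.eq]; group
      _ = d * e * d⁻¹ * (e⁻¹ * (w * (a * e * a⁻¹)⁻¹)) := by
          rw [(p4.mul_left ((hc e⁻¹ (inv_mem he) e he).symm.inv_left)).eq]
      _ = d * e * d⁻¹ * e⁻¹ * (a * (d * e * d⁻¹ * e⁻¹) * a⁻¹) := by rw [hw]; group
  exact hcl hk

/-- Let G be a finite group of component type with the B-property and no nontrivial normal subgroup of odd order. Let a be an involution and K a component of C_G(a) such that (a) |K| is maximal among the orders of components of centralizers of involutions of G, (b) subject to (a) the 2-rank of the centralizer of K in C_G(a) is as large as possible, and (c) K has 2-rank at least 2. If B is an elementary abelian 2-subgroup of that centralizer of the largest possible order, then K is a component of C_G(b) for every non-identity b ∈ B. -/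
theorem result {G : Type*} [Group G] [Finite G] (hO : Cfsg.oddCore G = ⊥) (hB : Cfsg.HasBProperty G) (hct : Cfsg.IsComponentType G) (a : G) (ha : orderOf a = 2) (K : Subgroup G) (hKa : K ≤ Subgroup.centralizer ({a} : Set G)) (hK : Cfsg.IsComponent (K.subgroupOf (Subgroup.centralizer ({a} : Set G)))) (hmax : ∀ y : G, orderOf y = 2 → ∀ K' : Subgroup G, K' ≤ Subgroup.centralizer ({y} : Set G) → Cfsg.IsComponent (K'.subgroupOf (Subgroup.centralizer ({y} : Set G))) → Nat.card ↥K' ≤ Nat.card ↥K ∧ (Nat.card ↥K' = Nat.card ↥K → ∀ k : ℕ, Cfsg.PRankLE 2 k ↥(Subgroup.centralizer ({a} : Set G) ⊓ Subgroup.centralizer (K : Set G)) → Cfsg.PRankLE 2 k ↥(Subgroup.centralizer ({y} : Set G) ⊓ Subgroup.centralizer (K' : Set G)))) (hrk : ¬ Cfsg.PRankLE 2 1 ↥K) (B : Subgroup G) (hBle : B ≤ Subgroup.centralizer ({a} : Set G) ⊓ Subgroup.centralizer (K : Set G)) (hBel : Cfsg.IsElementaryAbelian 2 B) (hBmax : ∀ B' : Subgroup G, B' ≤ Subgroup.centralizer ({a} : Set G) ⊓ Subgroup.centralizer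 (K : Set G) → Cfsg.IsElementaryAbelian 2 B' → Nat.card ↥B' ≤ Nat.card ↥B) (b : G) (hb : b ∈ B) (hb1 : b ≠ 1) : K ≤ Subgroup.centralizer ({b} : Set G) ∧ Cfsg.IsComponent (K.subgroupOf (Subgroup.centralizer ({b} : Set G))) := by
  haveI : Fact (Nat.Prime 2) := ⟨Nat.prime_two⟩
  set Ca := centralizer ({a} : Set G) with hCa
  set Cb := centralizer ({b} : Set G) with hCb
  have hb2 : orderOf b = 2 := orderOf_eq_prime (hBel.2 b hb) hb1
  have hcomB : ∀ x ∈ B, ∀ y ∈ B, x * y = y * x := fun x hx y hy =>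
    congrArg Subtype.val (hBel.1.is_comm.comm (⟨x, hx⟩ : B) ⟨y, hy⟩)
  have haa : a * a = 1 := by rw [← pow_two, ← ha]; exact pow_orderOf_eq_one a
  -- `a` lies in `B`
  have haB : a ∈ B := by
    set B' := B ⊔ zpowers a
    have hgen : ∀ x ∈ B, Commute x a := fun x hx => mem_centralizer_singleton_iff.1 (hBle hx).1
    have hB'el : IsElementaryAbelian 2 B' := by
      have hle : zpowers a ≤ centralizer (B : Set G) := by
        rw [zpowers_le, mem_centralizer_iff]; exact fun x hx => (hgen x hx).eq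
      have hmul : ∀ x ∈ B', ∃ u ∈ B, ∃ i : ℤ, u * a ^ i = x := fun x hx => by
        have h1 : x ∈ ((B ⊔ zpowers a : Subgroup G) : Set G) := hx
        rw [coe_mul_of_right_le_normalizer_left B _ (hle.trans (centralizer_le_normalizer _))] at h1
        obtain ⟨u, hu, v, ⟨i, rfl⟩, rfl⟩ := h1
        exact ⟨u, hu, i, rfl⟩
      refine ⟨⟨⟨fun x y => Subtype.ext ?_⟩⟩, fun x hx => ?_⟩
      · obtain ⟨u, hu, i, hxe⟩ := hmul x x.2
        obtain ⟨w, hw, l, hye⟩ := hmul y y.2
        show (x : G) * y = y * x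
        rw [← hxe, ← hye]
        exact (Commute.mul_left
          (Commute.mul_right (hcomB u hu w hw : Commute u w) ((hgen u hu).zpow_right l))
          (Commute.mul_right ((hgen w hw).zpow_right i).symm (Commute.zpow_zpow_self a i l))).eq
      · obtain ⟨u, hu, i, rfl⟩ := hmul x hx
        rw [((hgen u hu).zpow_right i).mul_pow, hBel.2 u hu, one_mul, ← zpow_natCast, ← zpow_mul,
          mul_comm, zpow_mul, zpow_natCast, pow_two, haa, one_zpow]
    have hB'le : B' ≤ Ca ⊓ centralizer (K : Set G) := sup_le hBle (zpowers_le.2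
      ⟨mem_centralizer_singleton_iff.2 rfl, mem_centralizer_iff.2 fun k hk =>
        mem_centralizer_singleton_iff.1 (hKa hk)⟩)
    have hBeq : B = B' := eq_of_le_of_card_ge le_sup_left (hBmax B' hB'le hB'el)
    rw [hBeq]; exact mem_sup_right (mem_zpowers a)
  have hKb : K ≤ Cb := fun k hk => mem_centralizer_singleton_iff.2
    (mem_centralizer_iff.1 (hBle hb).2 k hk)
  refine ⟨hKb, ?_⟩
  have habC : a ∈ Cb := mem_centralizer_singleton_iff.2 (hcomB a haB b hb)
  obtain ⟨A, hAc, hA2, hAcard⟩ : ∃ A : Subgroup K, IsMulCommutative A ∧ (∀ x ∈ A, x ^ 2 = 1) ∧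
      2 < Nat.card A := by
    simp only [PRankLE] at hrk
    push Not at hrk
    obtain ⟨A, h1, h2, h3⟩ := hrk
    exact ⟨A, h1, h2, by simpa using h3⟩
  have hK2 : 2 ∣ Nat.card K := by
    haveI : Nontrivial A := Finite.one_lt_card_iff_nontrivial.1 (by omega)
    obtain ⟨x, hx1⟩ := exists_ne (1 : A)
    have hx : orderOf ((x : K)) = 2 :=
      orderOf_eq_prime (hA2 x x.2) (fun h => hx1 (Subtype.ext h))
    exact hx ▸ orderOf_dvd_natCard (x : K)
  -- `K` is a component of `C_X(a)` in `X = C(b)`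
  set aX : Cb := ⟨a, habC⟩ with haX
  set KX := K.subgroupOf Cb with hKX
  have hKXa : KX ≤ centralizer ({aX} : Set Cb) := fun k hk =>
    mem_centralizer_singleton_iff.2 (Subtype.ext (mem_centralizer_singleton_iff.1 (hKa hk)))
  have hKcomp : IsComponent (KX.subgroupOf (centralizer ({aX} : Set Cb))) := by
    set Hs := Cb.subgroupOf Ca
    have hKH : K.subgroupOf Ca ≤ Hs := fun x hx => hKb hx
    let e : Hs ≃* centralizer ({aX} : Set Cb) :=
      { toFun := fun x => ⟨⟨((x : Ca) : G), x.2⟩, mem_centralizer_singleton_iff.2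
          (Subtype.ext (mem_centralizer_singleton_iff.1 (x : Ca).2))⟩
        invFun := fun y => ⟨⟨((y : Cb) : G), mem_centralizer_singleton_iff.2
          (congrArg Subtype.val (mem_centralizer_singleton_iff.1 y.2))⟩, (y : Cb).2⟩
        left_inv := fun _ => rfl
        right_inv := fun _ => rfl
        map_mul' := fun _ _ => rfl }
    have h1 := Components.isComponent_map_equiv (Components.isComponent_subgroupOf hK hKH) e
    convert h1 using 1
    ext y
    constructor
    · intro hy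
      exact ⟨e.symm y, hy, e.apply_symm_apply y⟩
    · rintro ⟨x, hx, rfl⟩; exact hx
  have hK2X : 2 ∣ Nat.card KX := by
    rwa [hKX, Nat.card_congr (subgroupOfEquivOfLe hKb).toEquiv]
  have hLX : pLayer 2 Cb ≤ layer Cb := pLayer_le_layer (by
    have h1 := hB b hb2
    rw [hO, le_bot_iff] at h1
    exact (map_eq_bot_iff_of_injective _ Cb.subtype_injective).1 h1)
  have haX2 : orderOf aX = 2 := by rw [haX, Subgroup.orderOf_mk, ha]
  obtain ⟨D, hD, hcase⟩ := exists_component_pump hLX aX haX2 KX hKXa hKcomp hK2X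
  have hsub : (D.map Cb.subtype).subgroupOf Cb = D :=
    comap_map_eq_self_of_injective Cb.subtype_injective D
  have hDmax := hmax b hb2 (D.map Cb.subtype) (map_subtype_le _) (hsub.symm ▸ hD)
  rcases hcase with hle | ⟨hne, hdiag⟩
  · have hcard : Nat.card D ≤ Nat.card KX := by
      rw [hKX, Nat.card_congr (subgroupOfEquivOfLe hKb).toEquiv]
      exact (card_map_of_injective Cb.subtype_injective).symm.le.trans hDmax.1
    rw [show KX = D from eq_of_le_of_card_ge hle hcard]
    exact hD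
  exfalso
  -- the swapped case contradicts the choice of `K`
  let f : D → Cb := fun d => d * (aX * d * aX⁻¹)
  have hKf : ∀ k ∈ KX, ∃ d : D, f d = k := fun k hk => by
    obtain ⟨d, hd, hde⟩ := hdiag k hk; exact ⟨⟨d, hd⟩, hde⟩
  choose g hg using hKf
  have hginj : Function.Injective (fun k : KX => g k k.2) := fun x y h => Subtype.ext (by
    rw [← hg x x.2, ← hg y y.2]; exact congrArg f h)
  have hle1 : Nat.card KX ≤ Nat.card D := Nat.card_le_card_of_injective _ hginj
  have hKX' : Nat.card KX = Nat.card K := Nat.card_congr (subgroupOfEquivOfLe hKb).toEquiv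
  have hDc : Nat.card (D.map Cb.subtype) = Nat.card D := card_map_of_injective Cb.subtype_injective
  have heqc : Nat.card (D.map Cb.subtype) = Nat.card K := by
    have := hDmax.1
    omega
  have hcd : Nat.card KX = Nat.card D := by omega
  have hgbij : Function.Bijective (fun k : KX => g k k.2) :=
    (Nat.bijective_iff_injective_and_card _).2 ⟨hginj, hcd⟩
  have hfK : ∀ d : D, f d ∈ KX := fun d => by
    obtain ⟨k, rfl⟩ := hgbij.2 d; rw [hg k k.2]; exact k.2
  have hfinj : Function.Injective f := fun d e h => by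
    obtain ⟨k, rfl⟩ := hgbij.2 d
    obtain ⟨l, rfl⟩ := hgbij.2 e
    rw [hg k k.2, hg l l.2] at h
    rw [Subtype.ext h]
  set D' := D.map (MulAut.conj aX).toMonoidHom with hD'
  have hD'c : IsComponent D' := Components.isComponent_conj hD aX
  have hDD' : D' ≤ centralizer (D : Set Cb) := Components.isComponent_le_centralizer hD'c hD hne
  have hBX : ∀ x ∈ B, x ∈ Cb := fun x hx => mem_centralizer_singleton_iff.2 (hcomB x hx b hb)
  set BX := B.subgroupOf Cb with hBXdef
  have haXinv : aX * aX = 1 := Subtype.ext haa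
  have hxk : ∀ x ∈ BX, ∀ k ∈ KX, x * k * x⁻¹ = k := fun x hx k hk => Subtype.ext (by
    show (x : G) * k * (x : G)⁻¹ = k
    have h9 : (k : G) * (x : G) = (x : G) * (k : G) := mem_centralizer_iff.1 (hBle hx).2 k hk
    rw [← h9, mul_inv_cancel_right])
  have hxa : ∀ x ∈ BX, x * aX = aX * x := fun x hx => Subtype.ext (hcomB _ hx a haB)
  -- the elements of `B` fixing `D`
  have hmove : ∀ x ∈ BX, D.map (MulAut.conj x).toMonoidHom = D ∨
      D.map (MulAut.conj x).toMonoidHom = D' := by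
    intro x hx
    by_contra hcon
    push Not at hcon
    set Dx := D.map (MulAut.conj x).toMonoidHom
    have hDxc : IsComponent Dx := Components.isComponent_conj hD x
    have hDx' : D'.map (MulAut.conj x).toMonoidHom = Dx.map (MulAut.conj aX).toMonoidHom := by
      rw [hD', Components.map_conj_map_conj, Components.map_conj_map_conj, hxa x hx]
    have c1 : D ≤ centralizer (Dx : Set Cb) :=
      Components.isComponent_le_centralizer hD hDxc (Ne.symm hcon.1)
    have c2 : D' ≤ centralizer (Dx : Set Cb) :=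
      Components.isComponent_le_centralizer hD'c hDxc (Ne.symm hcon.2)
    have hne2 : ∀ S : Subgroup Cb, Dx.map (MulAut.conj aX).toMonoidHom = S →
        Dx = S.map (MulAut.conj aX).toMonoidHom := fun S hS => by
      rw [← hS, Components.map_conj_map_conj, haXinv, Components.map_conj_one]
    have c3 : D ≤ centralizer ((D'.map (MulAut.conj x).toMonoidHom : Subgroup Cb) : Set Cb) := by
      rw [hDx']
      refine Components.isComponent_le_centralizer hD (Components.isComponent_conj hDxc _) fun e => ?_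
      exact hcon.2 (hne2 D e.symm)
    have c4 : D' ≤ centralizer ((D'.map (MulAut.conj x).toMonoidHom : Subgroup Cb) : Set Cb) := by
      rw [hDx']
      refine Components.isComponent_le_centralizer hD'c (Components.isComponent_conj hDxc _) fun e => ?_
      have h5 := hne2 D' e.symm
      rw [hD', Components.map_conj_map_conj, haXinv, Components.map_conj_one] at h5
      exact hcon.1 h5
    have hKK : KX ≤ centralizer (KX : Set Cb) := by
      intro k hk
      rw [mem_centralizer_iff]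
      intro l hl
      obtain ⟨d, hd, hde⟩ := hdiag k hk
      obtain ⟨e, he, hee⟩ := hdiag l hl
      have hk1 : k ∈ Dx ⊔ D'.map (MulAut.conj x).toMonoidHom := by
        rw [← hxk x hx k hk, ← hde, show x * (d * (aX * d * aX⁻¹)) * x⁻¹
          = (x * d * x⁻¹) * (x * (aX * d * aX⁻¹) * x⁻¹) by group]
        exact mul_mem (mem_sup_left ⟨d, hd, rfl⟩) (mem_sup_right ⟨_, ⟨d, hd, rfl⟩, rfl⟩)
      have hl1 : l ∈ D ⊔ D' := by
        rw [← hee]; exact mul_mem (mem_sup_left he) (mem_sup_right ⟨e, he, rfl⟩)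
      have hle : D ⊔ D' ≤ centralizer ((Dx ⊔ D'.map (MulAut.conj x).toMonoidHom : Subgroup Cb) : Set Cb) := by
        rw [sup_le_iff, le_centralizer_iff, sup_le_iff, le_centralizer_iff,
          le_centralizer_iff (H := D'.map (MulAut.conj x).toMonoidHom) (K := D)]
        refine ⟨⟨c1, c3⟩, ?_⟩
        rw [le_centralizer_iff, sup_le_iff, le_centralizer_iff,
          le_centralizer_iff (H := D'.map (MulAut.conj x).toMonoidHom) (K := D')]
        exact ⟨c2, c4⟩
      exact (mem_centralizer_iff.1 (hle hl1) k hk1).symm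
    have h0 := commutator_eq_bot_iff_le_centralizer.2 hKK
    have hperf := KBalance.pcompOf_perfect (T := Cb) (p := 2) (K := KX)
      (Y := centralizer ({aX} : Set Cb))
      ⟨hKXa, Components.isComponent_isPComponent hKcomp (by
        rwa [Nat.card_congr (subgroupOfEquivOfLe hKXa).toEquiv])⟩
    rw [hperf] at h0
    rw [h0, card_bot] at hK2X
    omega
  set B₀ := BX ⊓ normalizer (D : Set Cb) with hB₀
  have hB₀i : 2 * Nat.card B₀ ≥ Nat.card BX := by
    by_cases hall : BX ≤ normalizer (D : Set Cb)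
    · rw [hB₀, inf_eq_left.2 hall]; omega
    obtain ⟨y, hy, hyn⟩ := SetLike.not_le_iff_exists.1 hall
    have hy' : D.map (MulAut.conj y).toMonoidHom = D' :=
      (hmove y hy).resolve_left fun h => hyn (mem_normalizer_iff_map_conj_eq.2 h)
    have hcov : ∀ x ∈ BX, x ∈ B₀ ∨ y⁻¹ * x ∈ B₀ := fun x hx => by
      rcases hmove x hx with h | h
      · exact Or.inl ⟨hx, mem_normalizer_iff_map_conj_eq.2 h⟩
      · refine Or.inr (mem_inf.2 ⟨BX.mul_mem (BX.inv_mem hy) hx, mem_normalizer_iff_map_conj_eq.2 ?_⟩)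
        show D.map (MulAut.conj (y⁻¹ * x)).toMonoidHom = D
        rw [← Components.map_conj_map_conj, h, ← hy', Components.map_conj_map_conj, inv_mul_cancel,
          Components.map_conj_one]
    have hsurj : Function.Surjective (fun p : Bool × B₀ =>
        (⟨cond p.1 ((p.2 : Cb)) (y * p.2), by
          rcases p with ⟨_ | _, q⟩
          exacts [mul_mem hy q.2.1, q.2.1]⟩ : BX)) := by
      rintro ⟨x, hx⟩
      rcases hcov x hx with h | h
      · exact ⟨(true, ⟨x, h⟩), rfl⟩
      · exact ⟨(false, ⟨_, h⟩), Subtype.ext (mul_inv_cancel_left y x)⟩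
    have h9 := Nat.card_le_card_of_surjective _ hsurj
    rw [Nat.card_prod] at h9
    simpa using h9
  have hB₀D : ∀ x ∈ B₀, ∀ d ∈ D, x * d * x⁻¹ = d := fun x hx d hd => by
    have hxd : x * d * x⁻¹ ∈ D := (mem_normalizer_iff.1 hx.2 d).1 hd
    have h1 : f ⟨_, hxd⟩ = f ⟨d, hd⟩ := by
      show x * d * x⁻¹ * (aX * (x * d * x⁻¹) * aX⁻¹) = d * (aX * d * aX⁻¹)
      have hfk := hxk x hx.1 _ (hfK ⟨d, hd⟩)
      calc x * d * x⁻¹ * (aX * (x * d * x⁻¹) * aX⁻¹)
          = x * d * x⁻¹ * ((aX * x) * d * (aX * x)⁻¹) := by group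
        _ = x * (d * (aX * d * aX⁻¹)) * x⁻¹ := by rw [← hxa x hx.1]; group
        _ = _ := hfk
    exact congrArg Subtype.val (hfinj h1)
  -- a four-group in `D'`
  let ι : K →* Cb := Subgroup.inclusion hKb
  obtain ⟨E4, hE4D, hE4c, hE42, hE4n⟩ : ∃ E : Subgroup Cb, E ≤ D' ∧
      (∀ x ∈ E, ∀ y ∈ E, x * y = y * x) ∧ (∀ x ∈ E, x * x = 1) ∧ 4 ≤ Nat.card E := by
    let fh : D →* Cb :=
      { toFun := f
        map_one' := by simp [f]
        map_mul' := fun d e => by
          have hc : Commute (e : Cb) (aX * d * aX⁻¹) :=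
            mem_centralizer_iff.1 (hDD' ⟨d, d.2, rfl⟩) e e.2
          show (d : Cb) * e * (aX * ((d : Cb) * e) * aX⁻¹)
            = (d : Cb) * (aX * d * aX⁻¹) * ((e : Cb) * (aX * e * aX⁻¹))
          calc (d : Cb) * e * (aX * ((d : Cb) * e) * aX⁻¹)
              = (d : Cb) * ((e : Cb) * (aX * d * aX⁻¹)) * (aX * e * aX⁻¹) := by group
            _ = (d : Cb) * ((aX * d * aX⁻¹) * e) * (aX * e * aX⁻¹) := by rw [hc.eq]
            _ = _ := by group }
    let P := (A.map ι).comap fh
    refine ⟨(P.map D.subtype).map (MulAut.conj aX).toMonoidHom,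
      map_mono (map_subtype_le _), ?_, ?_, ?_⟩
    · rintro _ ⟨_, ⟨x, hx, rfl⟩, rfl⟩ _ ⟨_, ⟨y, hy, rfl⟩, rfl⟩
      simp only [← map_mul]
      congr 1
      show ((x * y : D) : Cb) = ((y * x : D) : Cb)
      congr 1
      apply hfinj
      show fh (x * y) = fh (y * x)
      obtain ⟨u, hu, hue⟩ := hx
      obtain ⟨v, hv, hve⟩ := hy
      rw [map_mul, map_mul, ← hue, ← hve, ← map_mul, ← map_mul]
      exact congrArg ι (congrArg Subtype.val (hAc.is_comm.comm (⟨u, hu⟩ : A) ⟨v, hv⟩))
    · rintro _ ⟨_, ⟨x, hx, rfl⟩, rfl⟩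
      rw [← map_mul, ← map_mul]
      obtain ⟨u, hu, hue⟩ := hx
      have : x * x = 1 := hfinj (show fh (x * x) = fh 1 by
        rw [map_mul, map_one, ← hue, ← map_mul, ← pow_two, hA2 u hu, map_one])
      rw [this, map_one, map_one]
    · rw [card_map_of_injective (MulAut.conj aX).injective, card_map_of_injective D.subtype_injective]
      have hr : A.map ι ≤ fh.range := by
        rintro _ ⟨u, hu, rfl⟩
        exact ⟨g (ι u) u.2, hg (ι u) u.2⟩
      have h4 : Nat.card P = Nat.card (A.map ι) := by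
        conv_rhs => rw [← map_comap_eq_self hr]
        exact (card_map_of_injective hfinj).symm
      rw [h4, card_map_of_injective (inclusion_injective hKb)]
      obtain ⟨k, hk⟩ := IsPGroup.iff_card.1 (show IsPGroup 2 A from fun x => ⟨1, Subtype.ext (by
        rw [pow_one, Subgroup.coe_pow, hA2 x x.2]; rfl)⟩)
      rw [hk] at hAcard ⊢
      rcases k with _ | _ | k
      · omega
      · omega
      · exact le_trans (by norm_num) (Nat.pow_le_pow_right (n := 2) (by norm_num) (show 2 ≤ k + 2 by omega))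
  have hBE : ∀ x ∈ B₀, ∀ e ∈ D', x * e = e * x := by
    rintro x hx _ ⟨d, hd, rfl⟩
    show x * (aX * d * aX⁻¹) = aX * d * aX⁻¹ * x
    apply mul_inv_eq_iff_eq_mul.1
    calc x * (aX * d * aX⁻¹) * x⁻¹ = (x * aX) * d * (x * aX)⁻¹ := by group
      _ = aX * (x * d * x⁻¹) * aX⁻¹ := by rw [hxa x hx.1]; group
      _ = aX * d * aX⁻¹ := by rw [hB₀D x hx d hd]
  have hdisj : ∀ z, z ∈ B₀ → z ∈ E4 → z = 1 := by
    intro z hz hzE
    obtain ⟨d, hd, hde⟩ := hE4D hzE
    have hfix : aX * z * aX⁻¹ = z := by rw [← hxa z hz.1, mul_inv_cancel_right]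
    have hzd : z = d := by
      calc z = aX * z * aX⁻¹ := hfix.symm
        _ = (aX * aX) * d * (aX * aX)⁻¹ := by rw [← hde]; simp [mul_assoc]
        _ = d := by rw [haXinv]; group
    have hzD : z ∈ D := hzd ▸ hd
    have h0 : f ⟨z, hzD⟩ = f 1 := by
      show z * (aX * z * aX⁻¹) = ((1 : D) : Cb) * (aX * ((1 : D) : Cb) * aX⁻¹)
      rw [hfix, hE42 z hzE]; simp
    exact congrArg Subtype.val (hfinj h0)
  set W := (B₀ ⊔ E4).map Cb.subtype with hW
  have hEn : E4 ≤ normalizer (B₀ : Set Cb) :=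
    le_trans (fun e he => mem_centralizer_iff.2 fun x hx => hBE x hx e (hE4D he))
      (centralizer_le_normalizer _)
  have hWmul : ∀ w ∈ B₀ ⊔ E4, ∃ x ∈ B₀, ∃ e ∈ E4, x * e = w := fun w hw => by
    have h1 : w ∈ ((B₀ ⊔ E4 : Subgroup Cb) : Set Cb) := hw
    rw [coe_mul_of_right_le_normalizer_left B₀ E4 hEn] at h1
    exact h1
  have hB0c : ∀ x ∈ BX, ∀ y ∈ BX, x * y = y * x := fun x hx y hy =>
    Subtype.ext (hcomB _ hx _ hy)
  have hWel : IsElementaryAbelian 2 W := by
    refine ⟨⟨⟨fun x y => Subtype.ext ?_⟩⟩, ?_⟩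
    · obtain ⟨x', hx', hxe⟩ := x.2
      obtain ⟨y', hy', hye⟩ := y.2
      show (x : G) * y = y * x
      rw [← hxe, ← hye, ← map_mul, ← map_mul]
      congr 1
      obtain ⟨u, hu, e, he, rfl⟩ := hWmul x' hx'
      obtain ⟨v, hv, e', he', rfl⟩ := hWmul y' hy'
      exact (Commute.mul_left
        (Commute.mul_right (hB0c u hu.1 v hv.1 : Commute u v) (hBE u hu e' (hE4D he')))
        (Commute.mul_right (show Commute v e from hBE v hv e (hE4D he)).symm (hE4c e he e' he'))).eq
    · rintro _ ⟨w, hw, rfl⟩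
      obtain ⟨u, hu, e, he, rfl⟩ := hWmul w hw
      rw [← map_pow, (show Commute u e from hBE u hu e (hE4D he)).mul_pow, pow_two e, hE42 e he, mul_one,
        show u ^ 2 = 1 from Subtype.ext (hBel.2 _ hu.1), map_one]
  have hWle : W ≤ Cb ⊓ centralizer ((D.map Cb.subtype : Subgroup G) : Set G) := by
    rintro _ ⟨w, hw, rfl⟩
    refine ⟨w.2, mem_centralizer_iff.2 ?_⟩
    rintro _ ⟨d, hd, rfl⟩
    rw [← map_mul, ← map_mul]
    congr 1
    obtain ⟨u, hu, e, he, rfl⟩ := hWmul w hw
    have e1 : d * u = u * d := (mul_inv_eq_iff_eq_mul.1 (hB₀D u hu d hd)).symm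
    exact (Commute.mul_right e1 (mem_centralizer_iff.1 (hDD' (hE4D he)) d hd)).eq
  have hWcard : Nat.card B₀ * Nat.card E4 ≤ Nat.card W := by
    rw [hW, card_map_of_injective Cb.subtype_injective, ← Nat.card_prod]
    refine Nat.card_le_card_of_injective (fun p : B₀ × E4 => (⟨(p.1 : Cb) * p.2,
      mul_mem_sup p.1.2 p.2.2⟩ : (B₀ ⊔ E4 : Subgroup Cb))) ?_
    rintro ⟨x, e⟩ ⟨y, e'⟩ h
    have h1 : (x : Cb) * e = y * e' := congrArg Subtype.val h
    have h2 : (y : Cb)⁻¹ * x = e' * (e : Cb)⁻¹ := by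
      calc (y : Cb)⁻¹ * x = (y : Cb)⁻¹ * (x * e) * (e : Cb)⁻¹ := by group
        _ = _ := by rw [h1]; group
    have h3 := hdisj _ (mul_mem (inv_mem y.2) x.2) (h2 ▸ mul_mem e'.2 (inv_mem e.2))
    rw [inv_mul_eq_one] at h3
    have h4 : (e : Cb) = e' := by rw [h3] at h1; exact mul_left_cancel h1
    exact Prod.ext (Subtype.ext h3.symm) (Subtype.ext h4)
  obtain ⟨m, hm⟩ := IsPGroup.iff_card.1 (show IsPGroup 2 B from fun x => ⟨1, Subtype.ext (by
    rw [pow_one, Subgroup.coe_pow, hBel.2 x x.2]; rfl)⟩)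
  have hrkB : PRankLE 2 m ↥(Ca ⊓ centralizer (K : Set G)) := by
    intro A' hA'c hA'2
    rw [← hm]
    refine (card_map_of_injective (Subgroup.subtype_injective _)).symm.le.trans ?_
    refine hBmax _ (map_subtype_le _) ⟨⟨⟨fun x y => Subtype.ext ?_⟩⟩, ?_⟩
    · obtain ⟨x', hx', hxe⟩ := x.2
      obtain ⟨y', hy', hye⟩ := y.2
      show (x : G) * y = y * x
      rw [← hxe, ← hye, ← map_mul, ← map_mul]
      exact congrArg _ (congrArg Subtype.val (hA'c.is_comm.comm (⟨x', hx'⟩ : A') ⟨y', hy'⟩))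
    · rintro _ ⟨x', hx', rfl⟩
      rw [← map_pow, hA'2 x' hx', map_one]
  have hfin := hDmax.2 heqc m hrkB (W.subgroupOf _)
    ⟨⟨fun x y => Subtype.ext (Subtype.ext (congrArg Subtype.val
      (hWel.1.is_comm.comm (⟨_, x.2⟩ : W) ⟨_, y.2⟩) :))⟩⟩
    (fun x hx => Subtype.ext (hWel.2 _ hx))
  rw [Nat.card_congr (subgroupOfEquivOfLe hWle).toEquiv, ← hm] at hfin
  have hBXc : Nat.card BX = Nat.card B := Nat.card_congr (subgroupOfEquivOfLe (fun x hx => hBX x hx)).toEquiv
  have hpos : 0 < Nat.card B₀ := Nat.card_pos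
  nlinarith

end Cfsg.Agent.S1305
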