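import Cfsg.Statements.S1306
import Mathlib
import Cfsg.Agent.Lib.Components.Basic

set_option autoImplicit false
open Cfsg

namespace Cfsg.Agent.S1306

open Cfsg Subgroup Lib.Components in
theorem conj_eq_of_involution {G : Type*} [Group G] [Finite G] (L : Subgroup G)
    (hne : ∀ y : G, orderOf y = 2 → y ∈ Subgroup.centralizer (L : Set G) →
      L ≤ Subgroup.centralizer ({y} : Set G) ∧
      Cfsg.IsComponent (L.subgroupOf (Subgroup.centralizer ({y} : Set G))))
    (hnc : ∀ g : G, L.map (MulAut.conj g).toMonoidHom ≠ L →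
      ⁅L, L.map (MulAut.conj g).toMonoidHom⁆ ≠ ⊥)
    (g v : G) (hv : v ∈ Subgroup.centralizer (L : Set G)) (hv2 : orderOf v = 2)
    (hw : g * v * g⁻¹ ∈ Subgroup.centralizer (L : Set G)) :
    L.map (MulAut.conj g).toMonoidHom = L := by
  by_contra hcon
  set w := g * v * g⁻¹ with hwdef
  have hw2 : orderOf w = 2 := by
    rw [← hv2]
    exact (MulAut.conj g).orderOf_eq v
  obtain ⟨hLw, hcw⟩ := hne w hw2 hw
  obtain ⟨hLv, hcv⟩ := hne v hv2 hv
  have hmap : (Subgroup.centralizer ({v} : Set G)).map (MulAut.conj g).toMonoidHom =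
      Subgroup.centralizer ({w} : Set G) := by
    ext z
    rw [Subgroup.mem_map_equiv, MulAut.conj_symm_apply, Subgroup.mem_centralizer_singleton_iff,
      Subgroup.mem_centralizer_singleton_iff, hwdef]
    constructor
    · intro h
      calc z * (g * v * g⁻¹) = g * (g⁻¹ * z * g * v) * g⁻¹ := by group
        _ = g * (v * (g⁻¹ * z * g)) * g⁻¹ := by rw [h]
        _ = _ := by group
    · intro h
      calc g⁻¹ * z * g * v = g⁻¹ * (z * (g * v * g⁻¹)) * g := by group
        _ = g⁻¹ * (g * v * g⁻¹ * z) * g := by rw [h]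
        _ = _ := by group
  have hM : L.map (MulAut.conj g).toMonoidHom ≤ Subgroup.centralizer ({w} : Set G) :=
    hmap ▸ Subgroup.map_mono hLv
  have hcM : Cfsg.IsComponent ((L.map (MulAut.conj g).toMonoidHom).subgroupOf
      (Subgroup.centralizer ({w} : Set G))) := by
    have h1 := isComponent_map_equiv hcv
      (((MulAut.conj g).subgroupMap (Subgroup.centralizer ({v} : Set G))).trans
        (MulEquiv.subgroupCongr hmap))
    convert h1 using 1
    ext ⟨z, hz⟩
    constructor
    · rintro ⟨l, hl, rfl⟩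
      exact ⟨⟨l, hLv hl⟩, hl, rfl⟩
    · rintro ⟨⟨l, hl'⟩, hl, h⟩
      exact ⟨l, hl, congrArg Subtype.val h⟩
  have hne' : L.subgroupOf (Subgroup.centralizer ({w} : Set G)) ≠
      (L.map (MulAut.conj g).toMonoidHom).subgroupOf (Subgroup.centralizer ({w} : Set G)) := by
    intro h
    have h' := congrArg (Subgroup.map (Subgroup.centralizer ({w} : Set G)).subtype) h
    rw [Subgroup.map_subgroupOf_eq_of_le hLw, Subgroup.map_subgroupOf_eq_of_le hM] at h'
    exact hcon h'.symm
  have h0 := isComponent_commutator_eq_bot hcw hcM hne'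
  apply hnc g hcon
  have h1 := congrArg (Subgroup.map (Subgroup.centralizer ({w} : Set G)).subtype) h0
  rwa [Subgroup.map_commutator, Subgroup.map_subgroupOf_eq_of_le hLw,
    Subgroup.map_subgroupOf_eq_of_le hM, Subgroup.map_bot] at h1

open Cfsg Subgroup Lib.Components in
/-- Let G be finite, x an involution and L ≤ C_G(x) a component of C_G(x). Suppose L is a component of C_G(y) for every involution y ∈ C_G(L), and ⁅L, g L g⁻¹⁆ ≠ 1 whenever g L g⁻¹ ≠ L. Then L is a standard subgroup of G. -/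
theorem result {G : Type*} [Group G] [Finite G] (x : G) (hx : orderOf x = 2) (L : Subgroup G) (hLx : L ≤ Subgroup.centralizer ({x} : Set G)) (hL : Cfsg.IsComponent (L.subgroupOf (Subgroup.centralizer ({x} : Set G)))) (hne : ∀ y : G, orderOf y = 2 → y ∈ Subgroup.centralizer (L : Set G) → L ≤ Subgroup.centralizer ({y} : Set G) ∧ Cfsg.IsComponent (L.subgroupOf (Subgroup.centralizer ({y} : Set G)))) (hnc : ∀ g : G, L.map (MulAut.conj g).toMonoidHom ≠ L → ⁅L, L.map (MulAut.conj g).toMonoidHom⁆ ≠ ⊥) : Cfsg.IsStandardSubgroup L := by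
  have hL' : Cfsg.IsQuasisimple ↥L := (quasisimple_subgroupOf_iff hLx).1 hL.2
  have hxL : x ∈ Subgroup.centralizer (L : Set G) := Subgroup.mem_centralizer_iff.2 fun l hl =>
    Subgroup.mem_centralizer_singleton_iff.1 (hLx hl)
  have hNC : ∀ g : G, L.map (MulAut.conj g).toMonoidHom = L →
      g ∈ Subgroup.normalizer (Subgroup.centralizer (L : Set G) : Set G) := by
    intro g hg
    have hg' : g ∈ Subgroup.normalizer (L : Set G) := Subgroup.mem_normalizer_iff_map_conj_eq.2 hg
    rw [Subgroup.mem_normalizer_iff] at hg' ⊢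
    intro c
    simp only [SetLike.mem_coe, Subgroup.mem_centralizer_iff]
    constructor
    · intro hc l hl
      have h := hc (g⁻¹ * l * g) ((hg' _).2 (by simpa [mul_assoc] using hl))
      calc l * (g * c * g⁻¹) = g * ((g⁻¹ * l * g) * c) * g⁻¹ := by group
        _ = g * (c * (g⁻¹ * l * g)) * g⁻¹ := by rw [h]
        _ = _ := by group
    · intro hc l hl
      have h := hc (g * l * g⁻¹) ((hg' _).1 hl)
      calc l * c = g⁻¹ * ((g * l * g⁻¹) * (g * c * g⁻¹)) * g := by group
        _ = g⁻¹ * ((g * c * g⁻¹) * (g * l * g⁻¹)) * g := by rw [h]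
        _ = _ := by group
  refine ⟨hL', ⟨even_iff_two_dvd.2 (hx ▸ (Subgroup.centralizer (L : Set G)).orderOf_dvd_natCard hxL),
    fun g hg => ?_⟩, hnc, le_antisymm (fun g hg => hNC g (Subgroup.mem_normalizer_iff_map_conj_eq.1 hg))
    fun g hg => ?_⟩
  · rw [← Nat.not_even_iff_odd, even_iff_two_dvd]
    intro hdvd
    haveI := Fact.mk Nat.prime_two
    obtain ⟨⟨y, hy⟩, hy2⟩ := exists_prime_orderOf_dvd_card' 2 hdvd
    rw [Subgroup.orderOf_mk] at hy2
    obtain ⟨hy1, v, hv, hvy⟩ := hy
    replace hvy : g * v * g⁻¹ = y := hvy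
    have hv2 : orderOf v = 2 := by
      rw [← hy2, ← hvy]
      exact ((MulAut.conj g).orderOf_eq v).symm
    exact hg (hNC g (conj_eq_of_involution L hne hnc g v hv hv2 (hvy ▸ hy1)))
  · rw [Subgroup.mem_normalizer_iff] at hg
    refine Subgroup.mem_normalizer_iff_map_conj_eq.2
      (conj_eq_of_involution L hne hnc g (g⁻¹ * x * g) ((hg _).2 ?_) ?_ ?_)
    · simpa [mul_assoc] using hxL
    · have h := (MulAut.conj g).orderOf_eq (g⁻¹ * x * g)
      simp only [MulAut.conj_apply] at h
      rw [← h, show g * (g⁻¹ * x * g) * g⁻¹ = x by group]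
      exact hx
    · simpa [mul_assoc] using hxL

end Cfsg.Agent.S1306
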