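import Cfsg.Statements.S1307
import Mathlib
import Cfsg.Agent.Lib.BrauerSuzukiQ.Main
import Cfsg.Agent.Lib.PUnique.Basic
import Cfsg.Agent.Lib.Components.Quasisimple

set_option autoImplicit false
open Cfsg

namespace Cfsg.Agent.S1307

open Cfsg Lib Lib.BrauerSuzukiQ

universe u

variable {K : Type u} [Group K] [Finite K]

theorem oneInvolution_of_rank (h : PRankLE 2 1 K) : OneInvolution K := by
  classical
  intro a b ha hb hab
  by_contra hne
  have ha2 : a ^ 2 = 1 := ha ▸ pow_orderOf_eq_one a
  have hb2 : b ^ 2 = 1 := hb ▸ pow_orderOf_eq_one b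
  set A := Subgroup.closure ({a, b} : Set K) with hA
  have hcomm : IsMulCommutative A := Subgroup.isMulCommutative_closure fun x hx y hy => by
    rcases hx with rfl | rfl <;> rcases hy with rfl | rfl
    exacts [rfl, hab.eq, hab.eq.symm, rfl]
  have hexp : ∀ x ∈ A, x ^ 2 = 1 := by
    intro x hx
    induction hx using Subgroup.closure_induction with
    | mem y hy => rcases hy with rfl | rfl <;> assumption
    | one => simp
    | mul y z hy hz ihy ihz =>
      rw [(show Commute y z from congrArg Subtype.val (mul_comm' (⟨y, hy⟩ : A) ⟨z, hz⟩)).mul_pow,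
        ihy, ihz, one_mul]
    | inv y _ ih => rw [inv_pow, ih, inv_one]
  have h2 := h A hcomm hexp
  have ha1 : a ≠ 1 := fun e => by simp [e] at ha
  have hb1 : b ≠ 1 := fun e => by simp [e] at hb
  have hle : ({1, a, b} : Set K) ⊆ (A : Set K) := by
    rintro x (rfl | rfl | rfl)
    exacts [one_mem _, Subgroup.subset_closure (Or.inl rfl), Subgroup.subset_closure (Or.inr rfl)]
  have h3 := Nat.card_mono (Set.toFinite _) hle
  rw [Nat.card_coe_set_eq, Set.ncard_eq_three.2 ⟨1, a, b, Ne.symm ha1, Ne.symm hb1, hne, rfl⟩] at h3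
  change 3 ≤ Nat.card A at h3
  omega

theorem not_isCyclic_sylow_of_perfect (hp : Group.IsPerfect K) (heven : Even (Nat.card K))
    (S : Sylow 2 K) : ¬ IsCyclic (S : Subgroup K) := by
  intro hcyc
  have : Fact (Nat.Prime 2) := ⟨Nat.prime_two⟩
  have hmin : (Nat.card K).minFac = 2 := (Nat.minFac_eq_two_iff _).mpr heven.two_dvd
  let f := MonoidHom.transferSylow S (IsCyclic.normalizer_le_centralizer hmin hcyc)
  have hc : f.ker.IsComplement' (S : Subgroup K) := IsCyclic.isComplement' hmin hcyc
  have hker : f.ker = ⊤ := by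
    rw [eq_top_iff, ← Group.isPerfect_def.1 hp, commutator_def, Subgroup.commutator_le]
    intro x _ y _
    rw [MonoidHom.mem_ker, map_commutatorElement, commutatorElement_eq_one_iff_mul_comm]
    exact mul_comm' _ _
  have h1 : Nat.card (S : Subgroup K) = 1 := by
    rw [← hc.symm.index_eq_card, hker, Subgroup.index_top]
  have h2 := S.dvd_card_of_dvd_card heven.two_dvd
  rw [h1] at h2
  omega

/-- A quasisimple group of 2-rank one has a central involution and quaternion Sylow 2-subgroups. -/
theorem central_involution (hq : IsQuasisimple K) (heven : Even (Nat.card K)) (hrk : PRankLE 2 1 K) :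
    ∃ t : K, orderOf t = 2 ∧ t ∈ Subgroup.center K ∧
      ∃ S : Sylow 2 K, ∃ n : ℕ, Nonempty (↥(S : Subgroup K) ≃* QuaternionGroup (2 ^ (n + 1))) := by
  have : Fact (Nat.Prime 2) := ⟨Nat.prime_two⟩
  have h2 := oneInvolution_of_rank hrk
  obtain ⟨t, ht⟩ := exists_prime_orderOf_dvd_card' (G := K) 2 heven.two_dvd
  haveI : (pPrimeCore 2 K).Characteristic := PSolvable.pPrimeCore_characteristic
  have hO : pPrimeCore 2 K ≤ Subgroup.center K := by
    refine (Components.quasisimple_normal_eq_top_or_le_center hq _).resolve_left fun h => ?_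
    have h' := PSolvable.pPrimeCore_not_dvd (p := 2) (G := K)
    rw [h, Subgroup.card_top] at h'
    exact h' heven.two_dvd
  have hcomm : ∀ g : K, t * g * t⁻¹ * g⁻¹ ∈ Subgroup.center K := fun g =>
    hO (commutator_mem_oddCore h2 ht g)
  -- `g ↦ [t, g]` is a homomorphism to an abelian group
  let φ : K →* ↥(Subgroup.center K) := MonoidHom.mk' (fun g => ⟨_, hcomm g⟩) fun a b => by
    apply Subtype.ext
    show t * (a * b) * t⁻¹ * (a * b)⁻¹ = (t * a * t⁻¹ * a⁻¹) * (t * b * t⁻¹ * b⁻¹)
    have hz := Subgroup.mem_center_iff.1 (hcomm b) (t * a * t⁻¹)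
    calc t * (a * b) * t⁻¹ * (a * b)⁻¹
        = (t * a * t⁻¹) * (t * b * t⁻¹ * b⁻¹) * a⁻¹ := by group
      _ = (t * b * t⁻¹ * b⁻¹) * (t * a * t⁻¹ * a⁻¹) := by rw [hz]; group
      _ = _ := (Subgroup.mem_center_iff.1 (hcomm b) _).symm
  have hker : φ.ker = ⊤ := by
    rw [eq_top_iff, ← Group.isPerfect_def.1 (Components.quasisimple_isPerfect hq), commutator_def,
      Subgroup.commutator_le]
    intro x _ y _
    rw [MonoidHom.mem_ker, map_commutatorElement, commutatorElement_eq_one_iff_mul_comm]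
    exact mul_comm' _ _
  have htc : t ∈ Subgroup.center K := by
    refine Subgroup.mem_center_iff.2 fun g => ?_
    have h : φ g = 1 := MonoidHom.mem_ker.1 (hker ▸ Subgroup.mem_top g)
    have h' : t * g * t⁻¹ * g⁻¹ = 1 := congrArg Subtype.val h
    calc g * t = (t * g * t⁻¹ * g⁻¹) * (g * t) := by rw [h', one_mul]
      _ = t * g := by group
  obtain ⟨S⟩ := (inferInstance : Nonempty (Sylow 2 K))
  have huniq : ∀ A B : Subgroup ↥(S : Subgroup K), Nat.card A = 2 → Nat.card B = 2 → A = B := by
    intro A B hA hB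
    obtain ⟨a, ha⟩ := exists_prime_orderOf_dvd_card' (G := A) 2 (dvd_of_eq hA.symm)
    obtain ⟨b, hb⟩ := exists_prime_orderOf_dvd_card' (G := B) 2 (dvd_of_eq hB.symm)
    rw [← Subgroup.orderOf_coe, ← Subgroup.orderOf_coe] at ha hb
    have e := eq_of_mem_two_group h2 S.isPGroup' ha hb a.1.2 b.1.2
    have gen : ∀ (C : Subgroup ↥(S : Subgroup K)) (c : ↥(S : Subgroup K)), Nat.card C = 2 → c ∈ C →
        orderOf (c : K) = 2 → C = Subgroup.zpowers c := fun C c hC hc hco =>
      (Subgroup.eq_of_le_of_card_ge (Subgroup.zpowers_le.2 hc)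
        (by rw [Nat.card_zpowers, hC]; exact le_of_eq (hco.symm.trans (Subgroup.orderOf_coe c)))).symm
    rw [gen A a hA a.2 ha, gen B b hB b.2 hb, show (a : ↥(S : Subgroup K)) = b from Subtype.ext e]
  refine ⟨t, ht, htc, S, ?_⟩
  rcases PUnique.isCyclic_or_quaternion S.isPGroup' huniq with h | ⟨-, n, ⟨e⟩⟩
  · exact absurd h (not_isCyclic_sylow_of_perfect (Components.quasisimple_isPerfect hq) heven S)
  rcases n with _ | n
  · rw [pow_zero] at e
    haveI := QuaternionGroup.quaternionGroup_one_isCyclic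
    exact absurd (isCyclic_of_surjective e.symm.toMonoidHom e.symm.surjective)
      (not_isCyclic_sylow_of_perfect (Components.quasisimple_isPerfect hq) heven S)
  · exact ⟨n, ⟨e⟩⟩

/-- Let G be finite, x an involution and L ≤ C_G(x) a component of C_G(x) of even order and 2-rank 1, such that L is a component of C_G(y) for every involution y ∈ C_G(L). Then some involution of L is a classical involution of G. -/
theorem result {G : Type*} [Group G] [Finite G] (x : G) (hx : orderOf x = 2) (L : Subgroup G) (hLx : L ≤ Subgroup.centralizer ({x} : Set G)) (hL : Cfsg.IsComponent (L.subgroupOf (Subgroup.centralizer ({x} : Set G)))) (heven : Even (Nat.card ↥L)) (hrk : Cfsg.PRankLE 2 1 ↥L) (hne : ∀ y : G, orderOf y = 2 → y ∈ Subgroup.centralizer (L : Set G) → L ≤ Subgroup.centralizer ({y} : Set G) ∧ Cfsg.IsComponent (L.subgroupOf (Subgroup.centralizer ({y} : Set G)))) : ∃ t ∈ L, Cfsg.IsClassicalInvolution t := by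
  have hq : Cfsg.IsQuasisimple ↥L := (Components.quasisimple_subgroupOf_iff hLx).1 hL.2
  obtain ⟨t, ht, htc, S, n, hSn⟩ := central_involution hq heven hrk
  have hto : orderOf (t : G) = 2 := by rw [Subgroup.orderOf_coe, ht]
  have htL : (t : G) ∈ Subgroup.centralizer (L : Set G) := Subgroup.mem_centralizer_iff.2 fun l hl =>
    congrArg Subtype.val (Subgroup.mem_center_iff.1 htc ⟨l, hl⟩)
  obtain ⟨hLt, hLc⟩ := hne t hto htL
  exact ⟨t, t.2, hto, L, hLt, t.2, hLc.1, S, n, hSn⟩

end Cfsg.Agent.S1307
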