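import Cfsg.Statements.S1312
import Mathlib
import Cfsg.Agent.Lib.Components.GenFitting
import Cfsg.Agent.Lib.Components.Local

set_option autoImplicit false
open Cfsg

namespace Cfsg.Agent.S1312

open Cfsg Lib Lib.Components

variable {G : Type*} [Group G] [Finite G]

/-- The image of `O_p(M)` in `G`. -/
def opIn (p : ℕ) (M : Subgroup G) : Subgroup G := (pCore p ↥M).map M.subtype

/-- The `p'`-part of the Fitting subgroup of `M`, in `G`. -/
def fpIn (p : ℕ) (M : Subgroup G) : Subgroup G :=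
  (fittingSubgroup ↥M ⊓ pPrimeCore p ↥M).map M.subtype

omit [Finite G] in
theorem le_normalizer_map (M : Subgroup G) (K : Subgroup ↥M) [K.Normal] :
    M ≤ Subgroup.normalizer ((K.map M.subtype : Subgroup G) : Set G) := by
  refine le_trans (le_of_eq ?_) (Subgroup.le_normalizer_map M.subtype)
  rw [Subgroup.normalizer_eq_top, ← MonoidHom.range_eq_map, Subgroup.range_subtype]

omit [Finite G] in
theorem le_normalizer_opIn (p : ℕ) (M : Subgroup G) :
    M ≤ Subgroup.normalizer (opIn p M : Set G) := le_normalizer_map M _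

theorem le_normalizer_fpIn (p : ℕ) (M : Subgroup G) :
    M ≤ Subgroup.normalizer (fpIn p M : Set G) := by
  have := fittingSubgroup_normal (G := ↥M)
  exact le_normalizer_map M _

theorem fitting_le (p : ℕ) [Fact p.Prime] (M : Subgroup G) :
    fittingSubgroup ↥M ≤ pCore p ↥M ⊔ (fittingSubgroup ↥M ⊓ pPrimeCore p ↥M) := by
  conv_lhs => rw [fittingSubgroup_eq_iSup_pCore]
  refine iSup_le fun q => ?_
  have : Fact (q : ℕ).Prime := ⟨Nat.prime_of_mem_primeFactors q.2⟩
  by_cases hq : (q : ℕ) = p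
  · rw [hq]; exact le_sup_left
  · refine le_sup_of_le_right (le_inf (pCore_le_fittingSubgroup _) (PSolvable.le_pPrimeCore ?_))
    obtain ⟨k, hk⟩ := (IsPGroup.iff_card).mp (PSolvable.pCore_isPGroup (p := (q : ℕ)) (G := ↥M))
    rw [hk]
    exact Nat.Coprime.pow_left k
      ((Nat.coprime_primes (Nat.prime_of_mem_primeFactors q.2) Fact.out).mpr hq)

theorem fpIn_coprime (p : ℕ) [Fact p.Prime] (M : Subgroup G) : (Nat.card ↥(fpIn p M)).Coprime p := by
  rw [fpIn, Subgroup.card_map_of_injective M.subtype_injective]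
  exact PSolvable.pPrimeCore_coprime.coprime_dvd_left (Subgroup.card_dvd_of_le inf_le_right)

theorem opIn_isPGroup (p : ℕ) [Fact p.Prime] (M : Subgroup G) : IsPGroup p ↥(opIn p M) :=
  PSolvable.pCore_isPGroup.map _

omit [Finite G] in
theorem opIn_le (p : ℕ) (M : Subgroup G) : opIn p M ≤ M := Subgroup.map_subtype_le _

omit [Finite G] in
theorem fpIn_le (p : ℕ) (M : Subgroup G) : fpIn p M ≤ M := Subgroup.map_subtype_le _

theorem opIn_le_gfs (p : ℕ) [Fact p.Prime] (M : Subgroup G) :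
    opIn p M ≤ (generalizedFittingSubgroup ↥M).map M.subtype :=
  Subgroup.map_mono ((pCore_le_fittingSubgroup p).trans le_sup_right)

omit [Finite G] in
theorem fpIn_le_gfs (p : ℕ) (M : Subgroup G) :
    fpIn p M ≤ (generalizedFittingSubgroup ↥M).map M.subtype :=
  Subgroup.map_mono (inf_le_left.trans le_sup_right)

/-- The `p'`-part of `F(M)` commutes with `O_p(N)`. -/
theorem fpIn_opIn_commute (p : ℕ) [Fact p.Prime] (M N : Subgroup G) (h1 : fpIn p M ≤ N)
    (h2 : opIn p N ≤ M) {a x : G} (ha : a ∈ fpIn p M) (hx : x ∈ opIn p N) : a * x = x * a := by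
  have hk : a * x * a⁻¹ * x⁻¹ ∈ fpIn p M ⊓ opIn p N := by
    refine Subgroup.mem_inf.2 ⟨?_, ?_⟩
    · have h := (Subgroup.mem_normalizer_iff.1 (le_normalizer_fpIn p M (h2 hx)) a⁻¹).1 (inv_mem ha)
      simpa [mul_assoc] using mul_mem ha h
    · exact mul_mem ((Subgroup.mem_normalizer_iff.1 (le_normalizer_opIn p N (h1 ha)) x).1 hx)
        (inv_mem hx)
  rw [Subgroup.inf_eq_bot_of_coprime (((opIn_isPGroup p N).exists_card_eq).elim fun k hk =>
    hk ▸ Nat.Coprime.pow_right k (fpIn_coprime p M)), Subgroup.mem_bot] at hk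
  calc a * x = (a * x * a⁻¹ * x⁻¹) * (x * a) := by group
    _ = x * a := by rw [hk, one_mul]

/-- With trivial layer, an element of `M` centralizing both parts of `F(M)` lies in `F(M)`. -/
theorem mem_fitting (p : ℕ) [Fact p.Prime] (M : Subgroup G) (hE : layer ↥M = ⊥) {k : ↥M}
    (h1 : ∀ z ∈ opIn p M, z * k = k * z) (h2 : ∀ z ∈ fpIn p M, z * k = k * z) :
    k ∈ fittingSubgroup ↥M := by
  have hF : generalizedFittingSubgroup ↥M = fittingSubgroup ↥M := by
    show layer ↥M ⊔ _ = _
    rw [hE, bot_sup_eq]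
  rw [← hF]
  refine centralizer_generalizedFittingSubgroup_le ?_
  have h : generalizedFittingSubgroup ↥M ≤ Subgroup.centralizer ({k} : Set ↥M) := by
    rw [hF]
    refine (fitting_le p M).trans (sup_le (fun z hz => ?_) (fun z hz => ?_))
    · exact Subgroup.mem_centralizer_singleton_iff.2 (Subtype.ext (h1 z ⟨z, hz, rfl⟩))
    · exact Subgroup.mem_centralizer_singleton_iff.2 (Subtype.ext (h2 z ⟨z, hz, rfl⟩))
  rw [Subgroup.mem_centralizer_iff]
  exact fun z hz => Subgroup.mem_centralizer_singleton_iff.1 (h hz)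

/-- A `p'`-element centralizing `O_p(M)` centralizes `O_p(N)`. -/
theorem centralizes_opIn (p : ℕ) [Fact p.Prime] (M N : Subgroup G) (hE : layer ↥M = ⊥)
    (h1 : fpIn p M ≤ N) (h2 : opIn p N ≤ M) {c : G} (hcM : c ∈ M)
    (hc : ∀ z ∈ opIn p M, z * c = c * z) (hp : ¬ p ∣ orderOf c) {x : G} (hx : x ∈ opIn p N) :
    x * c = c * x := by
  set k := c * x * c⁻¹ * x⁻¹ with hk
  have hkM : k ∈ M := mul_mem (mul_mem (mul_mem hcM (h2 hx)) (inv_mem hcM)) (inv_mem (h2 hx))
  have hkP : ∀ z ∈ opIn p M, z * k = k * z := by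
    intro z hz
    have hz' : x⁻¹ * z * x ∈ opIn p M :=
      (Subgroup.mem_normalizer_iff.1 (le_normalizer_opIn p M (h2 hx)) _).2 (by simpa [mul_assoc] using hz)
    have e1 : Commute c z := (hc z hz).symm
    have e2 : Commute c (x⁻¹ * z * x) := (hc _ hz').symm
    calc z * k = z * c * (x * c⁻¹ * x⁻¹) := by rw [hk]; group
      _ = c * z * (x * c⁻¹ * x⁻¹) := by rw [e1.eq]
      _ = c * x * ((x⁻¹ * z * x) * c⁻¹) * x⁻¹ := by group
      _ = c * x * (c⁻¹ * (x⁻¹ * z * x)) * x⁻¹ := by rw [e2.inv_left.eq]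
      _ = k * z := by rw [hk]; group
  have hkA : ∀ z ∈ fpIn p M, z * k = k * z := by
    intro z hz
    have hz' : c⁻¹ * z * c ∈ fpIn p M :=
      (Subgroup.mem_normalizer_iff.1 (le_normalizer_fpIn p M hcM) _).2 (by simpa [mul_assoc] using hz)
    have e1 : Commute z x := fpIn_opIn_commute p M N h1 h2 hz hx
    have e2 : Commute (c⁻¹ * z * c) x := fpIn_opIn_commute p M N h1 h2 hz' hx
    calc z * k = c * ((c⁻¹ * z * c) * x) * (c⁻¹ * x⁻¹) := by rw [hk]; group
      _ = c * (x * (c⁻¹ * z * c)) * (c⁻¹ * x⁻¹) := by rw [e2.eq]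
      _ = c * x * c⁻¹ * (z * x⁻¹) := by group
      _ = c * x * c⁻¹ * (x⁻¹ * z) := by rw [e1.inv_right.eq]
      _ = k * z := by rw [hk]; group
  have hkF : (⟨k, hkM⟩ : ↥M) ∈ fittingSubgroup ↥M := mem_fitting p M hE hkP hkA
  have hn := fittingSubgroup_normal (G := ↥M)
  obtain ⟨u, hu, v, hv, huv⟩ := Subgroup.mem_sup_of_normal_left.1 (fitting_le p M hkF)
  have huP : (u : G) ∈ opIn p M := ⟨u, hu, rfl⟩
  have hvA : (v : G) ∈ fpIn p M := ⟨v, hv, rfl⟩
  have hkuv : k = u * v := congrArg Subtype.val huv.symm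
  have huv' : Commute (v : G) u := by
    have : Disjoint (pCore p ↥M) (fittingSubgroup ↥M ⊓ pPrimeCore p ↥M) := by
      rw [disjoint_iff]
      exact le_bot_iff.1 ((inf_le_inf le_rfl inf_le_right).trans PSolvable.pCore_inf_pPrimeCore.le)
    exact congrArg Subtype.val (Subgroup.commute_of_normal_of_disjoint _ _ inferInstance
      inferInstance this u v hu hv).eq.symm
  have hvx : Commute (v : G) x := fpIn_opIn_commute p M N h1 h2 hvA hx
  -- `c x c⁻¹ = (u x) v` is a `p`-element, so `v = 1`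
  have hcx : c * x * c⁻¹ = u * x * v := by
    calc c * x * c⁻¹ = k * x := by rw [hk]; group
      _ = u * (v * x) := by rw [hkuv, mul_assoc]
      _ = _ := by rw [hvx.eq, ← mul_assoc]
  have hvx' : Commute (v : G) (u * x) := huv'.mul_right hvx
  have hv1 : (v : G) = 1 := by
    set T : Subgroup G := opIn p M ⊔ opIn p N
    have hT : IsPGroup p ↥T := (opIn_isPGroup p M).to_sup_of_normal_left' (opIn_isPGroup p N)
      (le_trans h2 (le_normalizer_opIn p M))
    obtain ⟨j, hj⟩ := hT.exists_orderOf_eq_pow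
      ⟨u * x, mul_mem (Subgroup.mem_sup_left huP) (Subgroup.mem_sup_right hx)⟩
    rw [Subgroup.orderOf_mk] at hj
    obtain ⟨i, hi⟩ := (opIn_isPGroup p N).exists_orderOf_eq_pow ⟨x, hx⟩
    rw [Subgroup.orderOf_mk] at hi
    have h3 : (c * x * c⁻¹) ^ (p ^ (i + j)) = 1 := by
      rw [conj_pow, pow_add, pow_mul, ← hi, pow_orderOf_eq_one, one_pow, mul_one, mul_inv_cancel]
    rw [hcx, hvx'.symm.mul_pow, pow_add, mul_comm (p ^ i) (p ^ j), pow_mul (↑u * x), ← hj,
      pow_orderOf_eq_one, one_pow, one_mul, ← orderOf_dvd_iff_pow_eq_one, hj, ← pow_add] at h3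
    rw [← orderOf_eq_one_iff]
    refine Nat.eq_one_of_dvd_coprimes (Nat.Coprime.pow_right (j + i) (fpIn_coprime p M))
      (Subgroup.orderOf_dvd_natCard _ hvA) h3
  rw [hv1, mul_one] at hcx hkuv
  -- `c` stabilizes `⟨x⟩ u`, so by coprimality it fixes `x`
  have hcu : Commute c u := (hc u huP).symm
  have hpow : ∀ m : ℕ, c ^ m * x * (c ^ m)⁻¹ = (u : G) ^ m * x := by
    intro m
    induction m with
    | zero => simp
    | succ m ih =>
      rw [pow_succ', mul_inv_rev]
      calc c * c ^ m * x * ((c ^ m)⁻¹ * c⁻¹) = c * (c ^ m * x * (c ^ m)⁻¹) * c⁻¹ := by group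
        _ = c * ((u : G) ^ m * x) * c⁻¹ := by rw [ih]
        _ = (u : G) ^ m * (c * x * c⁻¹) := by
          rw [← mul_assoc, (hcu.pow_right m).eq]; group
        _ = _ := by rw [hcx, ← mul_assoc, ← pow_succ, pow_succ']
  have hu1 : (u : G) = 1 := by
    have h3 := hpow (orderOf c)
    rw [pow_orderOf_eq_one, one_mul, inv_one, mul_one, right_eq_mul] at h3
    obtain ⟨j, hj⟩ := (opIn_isPGroup p M).exists_orderOf_eq_pow ⟨u, huP⟩
    rw [Subgroup.orderOf_mk] at hj
    rw [← orderOf_eq_one_iff]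
    refine Nat.eq_one_of_dvd_coprimes
      (Nat.Coprime.pow_left j ((Nat.Prime.coprime_iff_not_dvd Fact.out).2 hp)) (hj ▸ dvd_rfl)
      (orderOf_dvd_of_pow_eq_one h3)
  rw [hu1, one_mul] at hcx
  calc x * c = c * x * c⁻¹ * c := by rw [hcx]
    _ = c * x := by group

/-- Nontrivial normal subgroups of a maximal subgroup determine it. -/
theorem eq_normalizer [IsSimpleGroup G] {M K : Subgroup G} (hM : IsCoatom M) (hK : K ≠ ⊥)
    (hKM : K ≤ M) (hn : M ≤ Subgroup.normalizer (K : Set G)) :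
    Subgroup.normalizer (K : Set G) = M := by
  refine ((hM.le_iff).1 hn).resolve_left fun h => ?_
  rcases (Subgroup.normalizer_eq_top_iff.1 h).eq_bot_or_eq_top with h' | h'
  · exact hK h'
  · exact hM.1 (eq_top_iff.2 (h' ▸ hKM))

/-- Components of `M` inside `N` give components of `M ⊓ N`. -/
theorem isComponent_inf {M N : Subgroup G} {L : Subgroup ↥M} (hL : IsComponent L)
    (hLN : L.map M.subtype ≤ N) : IsComponent ((L.map M.subtype).subgroupOf (M ⊓ N)) := by
  have hle : L ≤ (M ⊓ N).subgroupOf M := fun l hl => ⟨l.2, hLN ⟨l, hl, rfl⟩⟩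
  have h := isComponent_map_equiv (isComponent_subgroupOf hL hle)
    (Subgroup.subgroupOfEquivOfLe (inf_le_left : M ⊓ N ≤ M))
  convert h using 1
  ext ⟨z, hz⟩
  constructor
  · rintro ⟨l, hl, hlz⟩
    exact ⟨⟨l, hle hl⟩, hl, Subtype.ext hlz⟩
  · rintro ⟨⟨l, hl'⟩, hl, h⟩
    exact ⟨l, hl, congrArg Subtype.val h⟩

theorem layer_le {M N : Subgroup G}
    (h1 : (generalizedFittingSubgroup ↥M).map M.subtype ≤ N)
    (h2 : (generalizedFittingSubgroup ↥N).map N.subtype ≤ M) :
    (layer ↥M).map M.subtype ≤ (layer ↥N).map N.subtype := by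
  rw [Subgroup.map_le_iff_le_comap, layer_le_iff]
  intro L hL
  rw [← Subgroup.map_le_iff_le_comap]
  by_contra hcon
  have hLM : L.map M.subtype ≤ M := Subgroup.map_subtype_le _
  have hLN : L.map M.subtype ≤ N :=
    (Subgroup.map_mono ((isComponent_le_layer hL).trans le_sup_left)).trans h1
  set LN : Subgroup ↥N := (L.map M.subtype).subgroupOf N with hLNdef
  have hq : IsQuasisimple ↥(L.map M.subtype) :=
    (quasisimple_map_iff L M.subtype_injective).2 hL.2
  apply quasisimple_not_le_centralizer ((quasisimple_subgroupOf_iff hLN).2 hq)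
  have hC : LN ≤ Subgroup.centralizer (generalizedFittingSubgroup ↥N : Set ↥N) := by
    rw [Subgroup.le_centralizer_iff]
    refine sup_le (layer_le_iff.2 fun K hK => ?_) ?_
    · have hKM : K.map N.subtype ≤ M :=
        (Subgroup.map_mono ((isComponent_le_layer hK).trans le_sup_left)).trans h2
      have hKJ : IsComponent ((K.map N.subtype).subgroupOf (M ⊓ N)) := by
        rw [inf_comm]; exact isComponent_inf hK hKM
      have hne : (L.map M.subtype).subgroupOf (M ⊓ N) ≠ (K.map N.subtype).subgroupOf (M ⊓ N) := by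
        intro h
        have h' := congrArg (Subgroup.map (M ⊓ N).subtype) h
        rw [Subgroup.map_subgroupOf_eq_of_le (le_inf hLM hLN),
          Subgroup.map_subgroupOf_eq_of_le (le_inf hKM (Subgroup.map_subtype_le _))] at h'
        exact hcon (h'.le.trans (Subgroup.map_mono (isComponent_le_layer hK)))
      have h := isComponent_le_centralizer (isComponent_inf hL hLN) hKJ hne
      intro k hk
      rw [Subgroup.mem_centralizer_iff]
      intro l hl
      have hk' : (k : G) ∈ M ⊓ N := ⟨hKM ⟨k, hk, rfl⟩, k.2⟩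
      have hl' : (l : G) ∈ M ⊓ N := ⟨hLM hl, l.2⟩
      have h3 := Subgroup.mem_centralizer_iff.1 (h (show (⟨l, hl'⟩ : ↥(M ⊓ N)) ∈ _ from hl))
        ⟨k, hk'⟩ ⟨k, hk, rfl⟩
      exact Subtype.ext (congrArg Subtype.val h3 :).symm
    · have hFM : (fittingSubgroup ↥N).map N.subtype ≤ M :=
        (Subgroup.map_mono le_sup_right).trans h2
      have hs : Group.IsSolvable ↥(((fittingSubgroup ↥N).map N.subtype).subgroupOf (M ⊓ N)) :=
        isSolvable_subgroupOf (isSolvable_subgroup_map fittingSubgroup_isSolvable N.subtype)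
      have hN : M ⊓ N ≤ Subgroup.normalizer (((fittingSubgroup ↥N).map N.subtype : Subgroup G) : Set G) :=
        have := fittingSubgroup_normal (G := ↥N)
        inf_le_right.trans (le_normalizer_map N _)
      have hn : (((fittingSubgroup ↥N).map N.subtype).subgroupOf (M ⊓ N)).Normal :=
        (Subgroup.normal_subgroupOf_iff_le_normalizer
          (le_inf hFM (Subgroup.map_subtype_le _))).2 hN
      have h := Subgroup.commutator_eq_bot_iff_le_centralizer.1
        (isComponent_commutator_solvable (isComponent_inf hL hLN) hs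
          (by rw [Subgroup.normalizer_eq_top]; exact le_top))
      intro f hf
      rw [Subgroup.mem_centralizer_iff]
      intro l hl
      have hf' : (f : G) ∈ M ⊓ N := ⟨hFM ⟨f, hf, rfl⟩, f.2⟩
      have hl' : (l : G) ∈ M ⊓ N := ⟨hLM hl, l.2⟩
      have h3 := Subgroup.mem_centralizer_iff.1 (h (show (⟨l, hl'⟩ : ↥(M ⊓ N)) ∈ _ from hl))
        ⟨f, hf'⟩ ⟨f, hf, rfl⟩
      exact Subtype.ext (congrArg Subtype.val h3 :).symm
  exact hC.trans (Subgroup.centralizer_le (hC.trans centralizer_generalizedFittingSubgroup_le))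

/-- The `p'`-elements centralizing `T`. -/
def primeCentralizer (p : ℕ) (T : Subgroup G) : Subgroup G :=
  Subgroup.closure {c : G | ¬ p ∣ orderOf c ∧ ∀ z ∈ T, z * c = c * z}

theorem le_normalizer_primeCentralizer (p : ℕ) {M T : Subgroup G}
    (h : M ≤ Subgroup.normalizer (T : Set G)) :
    M ≤ Subgroup.normalizer (primeCentralizer p T : Set G) := by
  intro g hg
  rw [Subgroup.mem_normalizer_iff_map_conj_eq, primeCentralizer, MonoidHom.map_closure]
  congr 1
  ext d
  have hgT := Subgroup.mem_normalizer_iff.1 (h hg)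
  constructor
  · rintro ⟨c, ⟨hc1, hc2⟩, rfl⟩
    show ¬ p ∣ orderOf (g * c * g⁻¹) ∧ ∀ z ∈ T, z * (g * c * g⁻¹) = g * c * g⁻¹ * z
    refine ⟨by rwa [← MulAut.conj_apply, MulEquiv.orderOf_eq], fun z hz => ?_⟩
    have e := hc2 (g⁻¹ * z * g) ((hgT _).2 (by simpa [mul_assoc] using hz))
    calc z * (g * c * g⁻¹) = g * (g⁻¹ * z * g * c) * g⁻¹ := by group
      _ = g * (c * (g⁻¹ * z * g)) * g⁻¹ := by rw [e]
      _ = _ := by group
  · rintro ⟨hd1, hd2⟩
    refine ⟨g⁻¹ * d * g, ⟨?_, fun z hz => ?_⟩, by show g * (g⁻¹ * d * g) * g⁻¹ = d; group⟩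
    · rw [← (MulAut.conj g).orderOf_eq, MulAut.conj_apply, show g * (g⁻¹ * d * g) * g⁻¹ = d by group]
      exact hd1
    · have e := hd2 (g * z * g⁻¹) ((hgT z).1 hz)
      calc z * (g⁻¹ * d * g) = g⁻¹ * (g * z * g⁻¹ * d) * g := by group
        _ = g⁻¹ * (d * (g * z * g⁻¹)) * g := by rw [e]
        _ = _ := by group

omit [Finite G] in
theorem map_eq_bot (M : Subgroup G) {K : Subgroup ↥M} : K.map M.subtype = ⊥ ↔ K = ⊥ :=
  Subgroup.map_eq_bot_iff_of_injective _ M.subtype_injective

/-- Let G be a non-abelian finite simple group and M ≠ N maximal subgroups of G with F*(M) ≤ N and F*(N) ≤ M. Then there is a prime p such that F*(M) and F*(N) are both p-groups. -/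
theorem result {G : Type*} [Group G] [Finite G] [IsSimpleGroup G] (hna : ¬ IsMulCommutative G) (M N : Subgroup G) (hM : IsCoatom M) (hN : IsCoatom N) (hMN : M ≠ N) (h1 : (Cfsg.generalizedFittingSubgroup ↥M).map M.subtype ≤ N) (h2 : (Cfsg.generalizedFittingSubgroup ↥N).map N.subtype ≤ M) : ∃ p : ℕ, p.Prime ∧ IsPGroup p ↥(Cfsg.generalizedFittingSubgroup ↥M) ∧ IsPGroup p ↥(Cfsg.generalizedFittingSubgroup ↥N) := by
  -- both layers are trivial
  have hEeq : (layer ↥M).map M.subtype = (layer ↥N).map N.subtype :=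
    le_antisymm (layer_le h1 h2) (layer_le h2 h1)
  have hlayer : layer ↥M = ⊥ := by
    by_contra h
    have hne : (layer ↥M).map M.subtype ≠ ⊥ := fun e => h ((map_eq_bot M).1 e)
    have := layer_normal (G := ↥M)
    have := layer_normal (G := ↥N)
    exact hMN ((eq_normalizer hM hne (Subgroup.map_subtype_le _) (le_normalizer_map M _)).symm.trans
      (hEeq ▸ eq_normalizer hN (hEeq ▸ hne) (Subgroup.map_subtype_le _) (le_normalizer_map N _)))
  have hlayerN : layer ↥N = ⊥ := by
    rw [← map_eq_bot N, ← hEeq, hlayer, Subgroup.map_bot]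
  have hFM : generalizedFittingSubgroup ↥M = fittingSubgroup ↥M := by
    show layer ↥M ⊔ _ = _
    rw [hlayer, bot_sup_eq]
  have hFN : generalizedFittingSubgroup ↥N = fittingSubgroup ↥N := by
    show layer ↥N ⊔ _ = _
    rw [hlayerN, bot_sup_eq]
  -- `F(M)` is nontrivial
  have hne : fittingSubgroup ↥M ≠ ⊥ := by
    intro h
    have hMbot : M = ⊥ := by
      have h' := centralizer_generalizedFittingSubgroup_le (G := ↥M)
      rw [hFM, h, Subgroup.coe_bot] at h'
      rw [eq_bot_iff]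
      intro m hm
      have hm' : (⟨m, hm⟩ : ↥M) ∈ Subgroup.centralizer ({1} : Set ↥M) :=
        Subgroup.mem_centralizer_singleton_iff.2 (by simp)
      exact congrArg Subtype.val (Subgroup.mem_bot.1 (h' hm') :)
    apply hna
    obtain ⟨g, hg⟩ := exists_ne (1 : G)
    have htop : Subgroup.zpowers g = ⊤ := by
      refine ((hMbot ▸ hM).2 _ ?_)
      rw [bot_lt_iff_ne_bot, Ne, Subgroup.zpowers_eq_bot]
      exact hg
    refine ⟨⟨fun a b => ?_⟩⟩
    obtain ⟨i, rfl⟩ := Subgroup.mem_zpowers_iff.1 (htop.ge (Subgroup.mem_top a))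
    obtain ⟨j, rfl⟩ := Subgroup.mem_zpowers_iff.1 (htop.ge (Subgroup.mem_top b))
    exact (Commute.zpow_zpow_self g i j).eq
  obtain ⟨q, hq⟩ : ∃ q : (Nat.card ↥M).primeFactors, pCore (q : ℕ) ↥M ≠ ⊥ := by
    by_contra hcon
    push Not at hcon
    apply hne
    rw [fittingSubgroup_eq_iSup_pCore]
    exact iSup_eq_bot.2 hcon
  set p : ℕ := (q : ℕ) with hpdef
  haveI : Fact p.Prime := ⟨Nat.prime_of_mem_primeFactors q.2⟩
  have hPne : opIn p M ≠ ⊥ := fun e => hq ((map_eq_bot M).1 e)
  have aM : fpIn p M ≤ N := (fpIn_le_gfs p M).trans h1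
  have aN : fpIn p N ≤ M := (fpIn_le_gfs p N).trans h2
  have bM : opIn p M ≤ N := (opIn_le_gfs p M).trans h1
  have bN : opIn p N ≤ M := (opIn_le_gfs p N).trans h2
  have hQne : opIn p N ≠ ⊥ := by
    intro e
    apply hPne
    rw [eq_bot_iff]
    intro z hz
    have hzF : (⟨z, bM hz⟩ : ↥N) ∈ fittingSubgroup ↥N := by
      refine mem_fitting p N hlayerN (fun w hw => ?_) (fun w hw => fpIn_opIn_commute p N M aN bM hw hz)
      rw [e, Subgroup.mem_bot] at hw
      simp [hw]
    have hp0 : pCore p ↥N = ⊥ := (map_eq_bot N).1 e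
    have hzA : z ∈ fpIn p N := by
      have h3 := fitting_le p N hzF
      rw [hp0, bot_sup_eq] at h3
      exact ⟨_, h3, rfl⟩
    have h4 : z ∈ fpIn p N ⊓ opIn p M := ⟨hzA, hz⟩
    rwa [Subgroup.inf_eq_bot_of_coprime (((opIn_isPGroup p M).exists_card_eq).elim fun k hk =>
      hk ▸ Nat.Coprime.pow_right k (fpIn_coprime p N))] at h4
  have cen : ∀ {M : Subgroup G} (hM : IsCoatom M), opIn p M ≠ ⊥ → ∀ c : G,
      (∀ z ∈ opIn p M, z * c = c * z) → c ∈ M := by
    intro M hM hne c hc
    rw [← eq_normalizer hM hne (opIn_le p M) (le_normalizer_opIn p M)]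
    exact centralizer_le_normalizer_self _ (Subgroup.mem_centralizer_iff.2 hc)
  have hSeq : primeCentralizer p (opIn p M) = primeCentralizer p (opIn p N) := by
    have hset : {c : G | ¬ p ∣ orderOf c ∧ ∀ z ∈ opIn p M, z * c = c * z} =
        {c : G | ¬ p ∣ orderOf c ∧ ∀ z ∈ opIn p N, z * c = c * z} := by
      ext c
      exact ⟨fun ⟨h, h'⟩ => ⟨h, fun x hx =>
          centralizes_opIn p M N hlayer aM bN (cen hM hPne c h') h' h hx⟩,
        fun ⟨h, h'⟩ => ⟨h, fun x hx =>
          centralizes_opIn p N M hlayerN aN bM (cen hN hQne c h') h' h hx⟩⟩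
    rw [primeCentralizer, primeCentralizer, hset]
  have hS : primeCentralizer p (opIn p M) = ⊥ := by
    by_contra hS
    have hSM : primeCentralizer p (opIn p M) ≤ M :=
      (Subgroup.closure_le _).2 fun c hc => cen hM hPne c hc.2
    have hSN : primeCentralizer p (opIn p N) ≤ N :=
      (Subgroup.closure_le _).2 fun c hc => cen hN hQne c hc.2
    exact hMN ((eq_normalizer hM hS hSM
      (le_normalizer_primeCentralizer p (le_normalizer_opIn p M))).symm.trans
      (hSeq ▸ eq_normalizer hN (hSeq ▸ hS) hSN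
        (le_normalizer_primeCentralizer p (le_normalizer_opIn p N))))
  have hpg : ∀ M' N' : Subgroup G, layer ↥M' = ⊥ →
      (∀ a ∈ fpIn p M', a ∈ primeCentralizer p (opIn p M')) → primeCentralizer p (opIn p M') = ⊥ →
      IsPGroup p ↥(generalizedFittingSubgroup ↥M') := by
    intro M' _ hl ha hS
    refine PSolvable.pCore_isPGroup.to_le ?_
    refine sup_le (hl.le.trans bot_le) ((fitting_le p M').trans (sup_le le_rfl ?_))
    intro a haF
    have h3 := ha a ⟨a, haF, rfl⟩
    rw [hS, Subgroup.mem_bot, OneMemClass.coe_eq_one] at h3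
    rw [h3]
    exact one_mem _
  have hmem : ∀ M' : Subgroup G, ∀ a ∈ fpIn p M', a ∈ primeCentralizer p (opIn p M') := by
    intro M' a ha
    refine Subgroup.subset_closure ⟨fun hd => ?_, fun z hz => ?_⟩
    · exact (Nat.Prime.coprime_iff_not_dvd Fact.out).1 (fpIn_coprime p M').symm
        (hd.trans (Subgroup.orderOf_dvd_natCard _ ha))
    · obtain ⟨a', ha', rfl⟩ := ha
      obtain ⟨z', hz', rfl⟩ := hz
      have hdis : Disjoint (pCore p ↥M') (fittingSubgroup ↥M' ⊓ pPrimeCore p ↥M') := by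
        rw [disjoint_iff]
        exact le_bot_iff.1 ((inf_le_inf le_rfl inf_le_right).trans PSolvable.pCore_inf_pPrimeCore.le)
      have := fittingSubgroup_normal (G := ↥M')
      exact congrArg Subtype.val (Subgroup.commute_of_normal_of_disjoint _ _ inferInstance
        inferInstance hdis z' a' hz' ha').eq
  exact ⟨p, Fact.out, hpg M N hlayer (hmem M) hS, hpg N M hlayerN (hmem N) (hSeq ▸ hS)⟩

end Cfsg.Agent.S1312
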