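import Cfsg.Statements.S1314
import Mathlib

set_option autoImplicit false
open Cfsg
open scoped commutatorElement

namespace Cfsg.Agent.S1314

/-- Let x be an involution of a group G and L a perfect subgroup with ⁅L, x L x⁻¹⁆ = 1. Then l ↦ l (x l x⁻¹) is a group homomorphism π from L to G whose kernel is central in L and whose image lies in C_G(x); and the commutator subgroup of C_{L ⊔ xLx⁻¹}(x) equals the image of π. -/
theorem result {G : Type*} [Group G] [Finite G] (x : G) (hx : orderOf x = 2) (L : Subgroup G) (hperf : ⁅L, L⁆ = L) (hcomm : ⁅L, L.map (MulAut.conj x).toMonoidHom⁆ = ⊥) : ∃ π : ↥L →* G, (∀ l : ↥L, π l = (l : G) * (x * (l : G) * x⁻¹)) ∧ π.ker ≤ Subgroup.center ↥L ∧ π.range ≤ Subgroup.centralizer ({x} : Set G) ∧ ⁅(L ⊔ L.map (MulAut.conj x).toMonoidHom) ⊓ Subgroup.centralizer ({x} : Set G), (L ⊔ L.map (MulAut.conj x).toMonoidHom) ⊓ Subgroup.centralizer ({x} : Set G)⁆ = π.range := by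
  set M := L.map (MulAut.conj x).toMonoidHom with hM
  have hx2 : x * x = 1 := by
    rw [← pow_two, ← hx]; exact pow_orderOf_eq_one x
  have hxi : x⁻¹ = x := inv_eq_of_mul_eq_one_left hx2
  have hmem : ∀ l : G, l ∈ L → x * l * x⁻¹ ∈ M := fun l hl => ⟨l, hl, rfl⟩
  have hc : ∀ a ∈ L, ∀ b ∈ M, a * b = b * a := fun a ha b hb =>
    (Subgroup.mem_centralizer_iff.1
      (Subgroup.commutator_eq_bot_iff_le_centralizer.1 hcomm ha) b hb).symm
  let π : ↥L →* G :=
    { toFun := fun l => (l : G) * (x * (l : G) * x⁻¹)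
      map_one' := by simp
      map_mul' := fun a b => by
        have h := hc b b.2 _ (hmem a a.2)
        push_cast
        calc (a : G) * b * (x * ((a : G) * b) * x⁻¹)
            = (a : G) * ((b : G) * (x * a * x⁻¹)) * (x * b * x⁻¹) := by group
          _ = (a : G) * ((x * a * x⁻¹) * b) * (x * b * x⁻¹) := by rw [h]
          _ = _ := by group }
  have hπ : ∀ l : ↥L, π l = (l : G) * (x * (l : G) * x⁻¹) := fun l => rfl
  have hπc : π.range ≤ Subgroup.centralizer ({x} : Set G) := by
    rintro _ ⟨l, rfl⟩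
    rw [Subgroup.mem_centralizer_singleton_iff, hπ]
    have h := hc l l.2 _ (hmem l l.2)
    rw [hxi] at h ⊢
    calc (l : G) * (x * l * x) * x = (l : G) * (x * l) * (x * x) := by group
      _ = (x * x) * ((l : G) * (x * l * x)) * x := by simp [hx2, mul_assoc]
      _ = (x * x) * ((x * l * x) * l) * x := by rw [h]
      _ = x * ((x * x) * ((l : G) * (x * l * x))) := by group
      _ = x * ((l : G) * (x * l * x)) := by rw [hx2, one_mul]
  refine ⟨π, hπ, ?_, hπc, ?_⟩
  · intro l hl
    rw [MonoidHom.mem_ker, hπ] at hl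
    rw [Subgroup.mem_center_iff]
    intro a
    have hl' : (l : G) = (x * (l : G) * x⁻¹)⁻¹ := eq_inv_of_mul_eq_one_left hl
    apply Subtype.ext
    push_cast
    rw [hl']
    exact hc a a.2 _ (inv_mem (hmem l l.2))
  · set C := (L ⊔ M) ⊓ Subgroup.centralizer ({x} : Set G) with hC
    have hrC : π.range ≤ C := by
      rintro g ⟨l, rfl⟩
      refine ⟨?_, hπc ⟨l, rfl⟩⟩
      rw [hπ]
      exact mul_mem (Subgroup.mem_sup_left l.2) (Subgroup.mem_sup_right (hmem l l.2))
    have hnorm : L ≤ Subgroup.normalizer (M : Set G) :=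
      (Subgroup.commutator_eq_bot_iff_le_centralizer.1 hcomm).trans
        (Subgroup.centralizer_le_normalizer _)
    have hdec : ∀ g ∈ C, ∃ (l : ↥L) (z : G), g = π l * z ∧ ∀ u ∈ C, u * z = z * u := by
      rintro g ⟨hg, hgx⟩
      replace hg : g ∈ ((L ⊔ M : Subgroup G) : Set G) := hg
      rw [Subgroup.coe_mul_of_left_le_normalizer_right L M hnorm] at hg
      obtain ⟨a, ha, _, ⟨b, hb, rfl⟩, rfl⟩ := Set.mem_mul.1 hg
      simp only [MulEquiv.coe_toMonoidHom, MulAut.conj_apply] at *
      have hgx' : a * (x * b * x⁻¹) * x = x * (a * (x * b * x⁻¹)) :=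
        Subgroup.mem_centralizer_singleton_iff.1 hgx
      have hxx : ∀ u : G, x * (x * u) = u := fun u => by rw [← mul_assoc, hx2, one_mul]
      set z := b⁻¹ * a with hz
      have hzM : z ∈ M := by
        have e : a * (x * b * x⁻¹) = b * (x * a * x⁻¹) := by
          have h := hc b hb _ (hmem a ha)
          calc a * (x * b * x⁻¹) = (x * (a * (x * b * x⁻¹))) * x⁻¹ := by
                rw [← hgx', mul_inv_cancel_right]
            _ = (x * a * x⁻¹) * (x * x * b * (x⁻¹ * x⁻¹)) := by group
            _ = (x * a * x⁻¹) * b := by simp [hxi, hx2]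
            _ = _ := h.symm
        have : z = (x * a * x⁻¹) * (x * b * x⁻¹)⁻¹ := by
          rw [hz, eq_mul_inv_iff_mul_eq, mul_assoc, e, inv_mul_cancel_left]
        rw [this]
        exact mul_mem (hmem a ha) (inv_mem (hmem b hb))
      have hzL : z ∈ L := mul_mem (inv_mem hb) ha
      refine ⟨⟨b, hb⟩, z, ?_, fun u hu => ?_⟩
      · rw [hπ]
        show a * (x * b * x⁻¹) = b * (x * b * x⁻¹) * z
        rw [mul_assoc b, ← hc z hzL _ (hmem b hb), hz]
        group
      · have hcen : L ⊔ M ≤ Subgroup.centralizer ({z} : Set G) := by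
          refine sup_le (fun v hv => ?_) (fun v hv => ?_)
          · exact Subgroup.mem_centralizer_singleton_iff.2 (hc v hv z hzM)
          · exact Subgroup.mem_centralizer_singleton_iff.2 (hc z hzL v hv).symm
        exact Subgroup.mem_centralizer_singleton_iff.1 (hcen hu.1)
    apply le_antisymm
    · rw [Subgroup.commutator_le]
      intro g1 hg1 g2 hg2
      obtain ⟨l1, z1, rfl, h1⟩ := hdec g1 hg1
      obtain ⟨l2, z2, rfl, h2⟩ := hdec g2 hg2
      refine ⟨⁅l1, l2⁆, ?_⟩
      rw [map_commutatorElement]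
      set p := π l1
      set q := π l2
      have hp : p ∈ C := hrC ⟨l1, rfl⟩
      have hq : q ∈ C := hrC ⟨l2, rfl⟩
      have a1 : Commute (q * z2) z1 := h1 _ hg2
      have a2 : Commute p z2 := h2 _ hp
      simp only [commutatorElement_def, mul_inv_rev]
      symm
      calc p * z1 * (q * z2) * (z1⁻¹ * p⁻¹) * (z2⁻¹ * q⁻¹)
          = p * (z1 * (q * z2)) * z1⁻¹ * p⁻¹ * z2⁻¹ * q⁻¹ := by group
        _ = p * (q * z2) * p⁻¹ * z2⁻¹ * q⁻¹ := by rw [← a1.eq]; group
        _ = p * q * (z2 * p⁻¹) * z2⁻¹ * q⁻¹ := by group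
        _ = p * q * p⁻¹ * q⁻¹ := by rw [← a2.inv_left.eq]; group
    · have e : π.range = ⁅π.range, π.range⁆ := by
        have hL : commutator ↥L = ⊤ := by
          haveI := Subgroup.isPerfect_iff.2 hperf
          exact Group.IsPerfect.commutator_eq_top
        conv_lhs => rw [MonoidHom.range_eq_map, ← hL, commutator_def, Subgroup.map_commutator]
        rw [← MonoidHom.range_eq_map]
      rw [e]
      exact Subgroup.commutator_mono hrC hrC

end Cfsg.Agent.S1314
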