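import Cfsg.Statements.S1315
import Cfsg.Agent.Lib.ClassicalComp.TheoremOne
import Cfsg.Agent.Lib.LinGroup.Order

set_option autoImplicit false
open Cfsg

namespace Cfsg.Agent.S1315

open Cfsg.Agent.Lib Subgroup

universe u

/-- The hypotheses of the statement as a `Classical` component. -/
private theorem classical_of_hyps {G : Type u} [Group G] [Finite G] (K : Subgroup G) (z : G)
    (hz : z ∈ K ∧ orderOf z = 2 ∧ ∀ t ∈ K, orderOf t = 2 → t = z)
    (hK : K ≤ centralizer ({z} : Set G) ∧ IsPComponent 2 (K.subgroupOf (centralizer ({z} : Set G))))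
    {n : ℕ} (hn : Nat.card (↥K ⧸ oddCore ↥K) = n)
    (hc : Nat.card (center (↥K ⧸ oddCore ↥K)) = 2) : ClassicalComp.Classical z K n :=
  have e : (↥(K.subgroupOf (centralizer ({z} : Set G))) ⧸
        pPrimeCore 2 ↥(K.subgroupOf (centralizer ({z} : Set G)))) ≃* (↥K ⧸ oddCore ↥K) :=
    QuotientGroup.congr _ _ (subgroupOfEquivOfLe hK.1) (PSolvable.map_pPrimeCore_equiv _)
  ⟨hK.1,
    { central := mem_center_iff.mpr fun a => Subtype.ext (ClassicalComp.mem_cz.mp a.2)
      inv := (Subgroup.orderOf_mk z _).trans hz.2.1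
      mem := hz.1
      uniq := fun t ht h2 => Subtype.ext (hz.2.2 t ht ((Subgroup.orderOf_coe t).trans h2))
      comp := hK.2
      card := (Nat.card_congr e.toEquiv).trans hn
      centre := (Nat.card_congr (centerCongr e).toEquiv).trans hc }⟩

/-- Both types have centre of order two and are determined up to their order. -/
private theorem type_data {A B : Type u} [Group A] [Group B]
    (h : (∃ (F : Type) (_ : Field F) (_ : Fintype F), Odd (Fintype.card F) ∧
        Nonempty (A ≃* Matrix.SpecialLinearGroup (Fin 2) F) ∧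
        Nonempty (B ≃* Matrix.SpecialLinearGroup (Fin 2) F)) ∨
      (IsNonsplitDoubleCover A ↥(alternatingGroup (Fin 7)) ∧
        IsNonsplitDoubleCover B ↥(alternatingGroup (Fin 7)))) :
    Nat.card A = Nat.card B ∧ Nat.card (center A) = 2 ∧ Nat.card (center B) = 2 := by
  rcases h with ⟨F, _, _, hodd, ⟨eA⟩, ⟨eB⟩⟩ | ⟨⟨hA, ⟨eA⟩, -⟩, hB, ⟨eB⟩, -⟩
  · have h2 : Nat.card (center (Matrix.SpecialLinearGroup (Fin 2) F)) = 2 := by
      rw [LinGroup.card_center_SL, Fintype.card_fin, LinGroup.card_units_eq_sub_one]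
      obtain ⟨m, hm⟩ := hodd
      exact Nat.gcd_eq_left ⟨m, by omega⟩
    exact ⟨(Nat.card_congr eA.toEquiv).trans (Nat.card_congr eB.toEquiv).symm,
      (Nat.card_congr (centerCongr eA).toEquiv).trans h2,
      (Nat.card_congr (centerCongr eB).toEquiv).trans h2⟩
  · refine ⟨?_, hA, hB⟩
    rw [← card_mul_index (center A), ← card_mul_index (center B), hA, hB, index_eq_card,
      index_eq_card, Nat.card_congr eA.toEquiv, Nat.card_congr eB.toEquiv]

/-- Let G be finite and J ≠ K subgroups, each containing exactly one involution, z(J) resp. z(K), each a 2-component of the centralizer of its involution, with J / O(J) and K / O(K) both isomorphic to SL(2, F) for one finite field F of odd order, or both non-split double covers of A7. Then (i) every 2-element of K of order at least 4 centralizing z(J) normalizes J; (ii) if z(J) normalizes K then z(K) normalizes J. -/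
theorem result {G : Type*} [Group G] [Finite G] (J K : Subgroup G) (hJK : J ≠ K) (zJ zK : G) (hzJ : zJ ∈ J ∧ orderOf zJ = 2 ∧ ∀ t ∈ J, orderOf t = 2 → t = zJ) (hzK : zK ∈ K ∧ orderOf zK = 2 ∧ ∀ t ∈ K, orderOf t = 2 → t = zK) (hJ : J ≤ Subgroup.centralizer ({zJ} : Set G) ∧ Cfsg.IsPComponent 2 (J.subgroupOf (Subgroup.centralizer ({zJ} : Set G)))) (hK : K ≤ Subgroup.centralizer ({zK} : Set G) ∧ Cfsg.IsPComponent 2 (K.subgroupOf (Subgroup.centralizer ({zK} : Set G)))) (htype : (∃ (F : Type) (_ : Field F) (_ : Fintype F), Odd (Fintype.card F) ∧ Nonempty (↥J ⧸ Cfsg.oddCore ↥J ≃* Matrix.SpecialLinearGroup (Fin 2) F) ∧ Nonempty (↥K ⧸ Cfsg.oddCore ↥K ≃* Matrix.SpecialLinearGroup (Fin 2) F)) ∨ (Cfsg.IsNonsplitDoubleCover (↥J ⧸ Cfsg.oddCore ↥J) ↥(alternatingGroup (Fin 7)) ∧ Cfsg.IsNonsplitDoubleCover (↥K ⧸ Cfsg.oddCore ↥K) ↥(alternatingGroup (Fin 7)))) : (∀ y ∈ K, IsPGroup 2 ↥(Subgroup.zpowers y) → 4 ≤ orderOf y → y * zJ = zJ * y → y ∈ Subgroup.normalizer (J : Set G)) ∧ (zJ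 ∈ Subgroup.normalizer (K : Set G) → zK ∈ Subgroup.normalizer (J : Set G)) := by
  obtain ⟨hcard, hcJ, hcK⟩ := type_data htype
  have CJ := classical_of_hyps J zJ hzJ hJ hcard hcJ
  have CK := classical_of_hyps K zK hzK hK rfl hcK
  exact ⟨fun y hy h2 h4 hc => ClassicalComp.mem_normalizer_of_order_four CJ CK hy h2 h4 hc,
    fun h => ClassicalComp.mem_normalizer_of_mem_normalizer CJ CK h⟩

end Cfsg.Agent.S1315
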