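import Cfsg.Statements.S1323
import Mathlib
import Cfsg.Agent.Lib.Components.Quasisimple

set_option autoImplicit false
open Cfsg

namespace Cfsg.Agent.S1323

open Equiv Subgroup

variable {n : ℕ}

/-- The elements fixing `0, 1, 2, 3`. -/
def fixT (n : ℕ) : Subgroup ↥(alternatingGroup (Fin n)) where
  carrier := {σ | ∀ i : Fin n, (i : ℕ) < 4 → (σ : Perm (Fin n)) i = i}
  one_mem' := fun i _ => rfl
  mul_mem' := fun {a b} ha hb i hi => by
    show (a : Perm (Fin n)) ((b : Perm (Fin n)) i) = i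
    rw [hb i hi, ha i hi]
  inv_mem' := fun {a} ha i hi => by
    show ((a : Perm (Fin n))⁻¹) i = i
    rw [Perm.inv_eq_iff_eq, ha i hi]

/-- The elements fixing every point from `4` on. -/
def fixS (n : ℕ) : Subgroup ↥(alternatingGroup (Fin n)) where
  carrier := {σ | ∀ i : Fin n, 4 ≤ (i : ℕ) → (σ : Perm (Fin n)) i = i}
  one_mem' := fun i _ => rfl
  mul_mem' := fun {a b} ha hb i hi => by
    show (a : Perm (Fin n)) ((b : Perm (Fin n)) i) = i
    rw [hb i hi, ha i hi]
  inv_mem' := fun {a} ha i hi => by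
    show ((a : Perm (Fin n))⁻¹) i = i
    rw [Perm.inv_eq_iff_eq, ha i hi]

/-- The 3-cycle `i ↦ j ↦ k ↦ i`. -/
def cyc (i j k : Fin n) : ↥(alternatingGroup (Fin n)) :=
  if h : i ≠ j ∧ j ≠ k then ⟨swap i j * swap j k, by
    rw [Perm.mem_alternatingGroup, map_mul, Perm.sign_swap h.1, Perm.sign_swap h.2]
    decide⟩ else 1

theorem cyc_apply {i j k : Fin n} (hij : i ≠ j) (hjk : j ≠ k) (x : Fin n) :
    (cyc i j k : Perm (Fin n)) x = swap i j (swap j k x) := by
  rw [cyc, dif_pos ⟨hij, hjk⟩]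
  rfl

theorem cyc_fix {i j k : Fin n} (hij : i ≠ j) (hjk : j ≠ k) {x : Fin n} (h1 : x ≠ i) (h2 : x ≠ j)
    (h3 : x ≠ k) : (cyc i j k : Perm (Fin n)) x = x := by
  rw [cyc_apply hij hjk, swap_apply_of_ne_of_ne h2 h3, swap_apply_of_ne_of_ne h1 h2]

theorem cyc_move {i j k : Fin n} (hij : i ≠ j) (hjk : j ≠ k) (hik : i ≠ k) :
    (cyc i j k : Perm (Fin n)) i = j := by
  rw [cyc_apply hij hjk, swap_apply_of_ne_of_ne hij hik, swap_apply_left]

theorem cyc_mem {i j k : Fin n} (hij : i ≠ j) (hjk : j ≠ k) (hi : 4 ≤ (i : ℕ)) (hj : 4 ≤ (j : ℕ))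
    (hk : 4 ≤ (k : ℕ)) : cyc i j k ∈ fixT n := fun x hx =>
  cyc_fix hij hjk (fun h => by subst h; omega) (fun h => by subst h; omega) (fun h => by subst h; omega)

theorem iInf_stabilizer_eq (h4 : 4 ≤ n) :
    (⨅ i : Fin 4, MulAction.stabilizer ↥(alternatingGroup (Fin n)) (Fin.castLE h4 i : Fin n)) =
      fixT n := by
  ext σ
  simp only [Subgroup.mem_iInf, MulAction.mem_stabilizer_iff]
  constructor
  · intro h i hi
    exact h ⟨i, hi⟩
  · intro h i
    exact h (Fin.castLE h4 i) (by simp [Fin.val_castLE])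

theorem pick (hn : 9 ≤ n) (i : Fin n) (hi : 4 ≤ (i : ℕ)) : ∃ a b c d : Fin n,
    4 ≤ (a : ℕ) ∧ 4 ≤ (b : ℕ) ∧ 4 ≤ (c : ℕ) ∧ 4 ≤ (d : ℕ) ∧ i ≠ a ∧ i ≠ b ∧ i ≠ c ∧ i ≠ d ∧
      a ≠ b ∧ a ≠ c ∧ a ≠ d ∧ b ≠ c ∧ b ≠ d ∧ c ≠ d := by
  classical
  set s : Finset (Fin n) := Finset.univ.filter (fun x => 4 ≤ (x : ℕ) ∧ x ≠ i)
  have hs : 4 ≤ s.card := by
    have hsub : (Finset.univ \ s).card ≤ 5 := by
      have : Finset.univ \ s ⊆ insert i (Finset.univ.filter fun x : Fin n => (x : ℕ) < 4) := by
        intro x hx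
        simp only [s, Finset.mem_sdiff, Finset.mem_filter, Finset.mem_univ, true_and, not_and,
          not_not] at hx
        by_cases h : 4 ≤ (x : ℕ)
        · simp [hx h]
        · simp [not_le.1 h]
      refine (Finset.card_le_card this).trans ((Finset.card_insert_le _ _).trans ?_)
      have : (Finset.univ.filter fun x : Fin n => (x : ℕ) < 4).card ≤ (Finset.range 4).card :=
        Finset.card_le_card_of_injOn (fun x => (x : ℕ)) (fun x hx => by simpa using hx)
          (fun x _ y _ h => Fin.ext h)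
      rw [Finset.card_range] at this
      omega
    have := Finset.card_sdiff_add_card_eq_card (Finset.subset_univ s)
    rw [Finset.card_univ, Fintype.card_fin] at this
    omega
  obtain ⟨t, hts, htc⟩ := Finset.exists_subset_card_eq hs
  obtain ⟨a, b, c, d, hab, hac, had, hbc, hbd, hcd, rfl⟩ := Finset.card_eq_four.1 htc
  have ha := hts (by simp : a ∈ ({a, b, c, d} : Finset (Fin n)))
  have hb := hts (by simp : b ∈ ({a, b, c, d} : Finset (Fin n)))
  have hc := hts (by simp : c ∈ ({a, b, c, d} : Finset (Fin n)))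
  have hd := hts (by simp : d ∈ ({a, b, c, d} : Finset (Fin n)))
  simp only [s, Finset.mem_filter, Finset.mem_univ, true_and] at ha hb hc hd
  exact ⟨a, b, c, d, ha.1, hb.1, hc.1, hd.1, Ne.symm ha.2, Ne.symm hb.2, Ne.symm hc.2, Ne.symm hd.2,
    hab, hac, had, hbc, hbd, hcd⟩

theorem centralizer_fixT (hn : 9 ≤ n) :
    Subgroup.centralizer (fixT n : Set ↥(alternatingGroup (Fin n))) = fixS n := by
  ext g
  rw [Subgroup.mem_centralizer_iff]
  constructor
  · intro h i hi
    obtain ⟨a, b, c, d, ha, hb, hc, hd, hia, hib, hic, hid, hab, hac, had, hbc, hbd, hcd⟩ :=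
      pick hn i hi
    -- `g i` is moved by every 3-cycle through `i` in the set
    have key : ∀ u v : Fin n, 4 ≤ (u : ℕ) → 4 ≤ (v : ℕ) → i ≠ u → i ≠ v → u ≠ v →
        (g : Perm (Fin n)) i = i ∨ (g : Perm (Fin n)) i = u ∨ (g : Perm (Fin n)) i = v := by
      intro u v hu hv hiu hiv huv
      by_contra hne
      push Not at hne
      have h2 := congrArg (fun σ : ↥(alternatingGroup (Fin n)) => (σ : Perm (Fin n)) i)
        (h _ (cyc_mem hiu huv hi hu hv))
      simp only [Subgroup.coe_mul, Perm.mul_apply] at h2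
      rw [cyc_move hiu huv hiv, cyc_fix hiu huv hne.1 hne.2.1 hne.2.2] at h2
      exact hiu ((g : Perm (Fin n)).injective h2)
    rcases key a b ha hb hia hib hab with h1 | h1 | h1
    · exact h1
    · rcases key c d hc hd hic hid hcd with h2 | h2 | h2
      · exact h2
      · exact absurd (h1.symm.trans h2) hac
      · exact absurd (h1.symm.trans h2) had
    · rcases key c d hc hd hic hid hcd with h2 | h2 | h2
      · exact h2
      · exact absurd (h1.symm.trans h2) hbc
      · exact absurd (h1.symm.trans h2) hbd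
  · intro hg l hl
    apply Subtype.ext
    apply Equiv.ext
    intro x
    simp only [Subgroup.coe_mul, Perm.mul_apply]
    by_cases hx : (x : ℕ) < 4
    · have hgx : ((g : Perm (Fin n)) x : ℕ) < 4 := by
        by_contra h4
        have h5 := hg _ (not_lt.1 h4)
        rw [(g : Perm (Fin n)).injective h5] at h4
        exact h4 hx
      rw [hl x hx, hl _ hgx]
    · have hlx : 4 ≤ ((l : Perm (Fin n)) x : ℕ) := by
        by_contra h4
        have h5 := hl _ (not_le.1 h4)
        rw [(l : Perm (Fin n)).injective h5] at h4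
        exact h4 (not_lt.1 hx)
      rw [hg x (not_lt.1 hx), hg _ hlx]

/-- Preserving `{0,1,2,3}`. -/
def Pres (g : ↥(alternatingGroup (Fin n))) : Prop :=
  ∀ i : Fin n, (i : ℕ) < 4 ↔ ((g : Perm (Fin n)) i : ℕ) < 4

theorem inv_app {α : Type*} (g : Perm α) (x : α) : g⁻¹ (g x) = x := by simp

theorem mem_normalizer_of_pres {g : ↥(alternatingGroup (Fin n))} (hg : Pres g) :
    g ∈ Subgroup.normalizer (fixT n : Set ↥(alternatingGroup (Fin n))) ∧
      g ∈ Subgroup.normalizer (fixS n : Set ↥(alternatingGroup (Fin n))) := by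
  constructor <;> rw [Subgroup.mem_normalizer_iff] <;> intro σ <;> constructor <;> intro h i hi
  · obtain ⟨j, rfl⟩ := (g : Perm (Fin n)).surjective i
    show (g : Perm (Fin n)) ((σ : Perm (Fin n)) ((g : Perm (Fin n))⁻¹ ((g : Perm (Fin n)) j))) = _
    rw [inv_app, h j ((hg j).2 hi)]
  · have h' : (g : Perm (Fin n)) ((σ : Perm (Fin n)) ((g : Perm (Fin n))⁻¹ ((g : Perm (Fin n)) i)))
        = (g : Perm (Fin n)) i := h ((g : Perm (Fin n)) i) ((hg i).1 hi)
    rw [inv_app] at h'
    exact (g : Perm (Fin n)).injective h'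
  · obtain ⟨j, rfl⟩ := (g : Perm (Fin n)).surjective i
    show (g : Perm (Fin n)) ((σ : Perm (Fin n)) ((g : Perm (Fin n))⁻¹ ((g : Perm (Fin n)) j))) = _
    rw [inv_app, h j (not_lt.1 fun h' => not_lt.2 hi ((hg j).1 h'))]
  · have h' : (g : Perm (Fin n)) ((σ : Perm (Fin n)) ((g : Perm (Fin n))⁻¹ ((g : Perm (Fin n)) i)))
        = (g : Perm (Fin n)) i :=
      h ((g : Perm (Fin n)) i) (not_lt.1 fun h' => not_lt.2 hi ((hg i).2 h'))
    rw [inv_app] at h'
    exact (g : Perm (Fin n)).injective h'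

/-- `(0 1)(2 3)`. -/
def dbl (hn : 9 ≤ n) : ↥(alternatingGroup (Fin n)) :=
  ⟨swap ⟨0, by omega⟩ ⟨1, by omega⟩ * swap ⟨2, by omega⟩ ⟨3, by omega⟩, by
    rw [Perm.mem_alternatingGroup, map_mul, Perm.sign_swap (by simp [Fin.ext_iff]), Perm.sign_swap (by simp [Fin.ext_iff])]
    decide⟩

theorem dbl_mem (hn : 9 ≤ n) : dbl hn ∈ fixS n := fun i hi => by
  show (swap _ _ * swap _ _ : Perm (Fin n)) i = i
  have : ∀ k, k < 4 → ∀ h : k < n, i ≠ (⟨k, h⟩ : Fin n) := fun k hk h e => by
    subst e; simp only at hi; omega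
  rw [Perm.mul_apply, swap_apply_of_ne_of_ne (this 2 (by omega) _) (this 3 (by omega) _),
    swap_apply_of_ne_of_ne (this 0 (by omega) _) (this 1 (by omega) _)]

theorem dbl_move (hn : 9 ≤ n) (i : Fin n) (hi : (i : ℕ) < 4) : (dbl hn : Perm (Fin n)) i ≠ i := by
  obtain ⟨k, hk⟩ := i
  simp only at hi
  show (swap _ _ * swap _ _ : Perm (Fin n)) ⟨k, hk⟩ ≠ _
  rw [Perm.mul_apply]
  interval_cases k <;> simp [swap_apply_def, Fin.ext_iff]

theorem pres_of_mem_normalizer (hn : 9 ≤ n) {g : ↥(alternatingGroup (Fin n))}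
    (h : g ∈ Subgroup.normalizer (fixS n : Set ↥(alternatingGroup (Fin n)))) : Pres g := by
  have h1 := (Subgroup.mem_normalizer_iff.1 h (dbl hn)).1 (dbl_mem hn)
  have hfwd : ∀ i : Fin n, (i : ℕ) < 4 → ((g : Perm (Fin n)) i : ℕ) < 4 := by
    intro i hi
    by_contra hgi
    have h2 := h1 ((g : Perm (Fin n)) i) (not_lt.1 hgi)
    simp only [Subgroup.coe_mul, InvMemClass.coe_inv, Perm.mul_apply, inv_app] at h2
    exact dbl_move hn i hi ((g : Perm (Fin n)).injective h2)
  intro i
  refine ⟨hfwd i, fun hi => ?_⟩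
  let f : {x : Fin n // (x : ℕ) < 4} → {x : Fin n // (x : ℕ) < 4} :=
    fun x => ⟨(g : Perm (Fin n)) x, hfwd x x.2⟩
  have hf : Function.Surjective f := Finite.injective_iff_surjective.1
    fun a b e => Subtype.ext ((g : Perm (Fin n)).injective (congrArg Subtype.val e))
  obtain ⟨⟨j, hj⟩, he⟩ := hf ⟨_, hi⟩
  have e : j = i := (g : Perm (Fin n)).injective (congrArg Subtype.val he)
  rwa [e] at hj

theorem quasisimple_fixT (hn : 9 ≤ n) : Cfsg.IsQuasisimple ↥(fixT n) := by
  classical
  have hcard : 5 ≤ Nat.card {i : Fin n // 4 ≤ (i : ℕ)} := by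
    refine le_trans ?_ (Nat.card_le_card_of_injective
      (fun k : Fin 5 => (⟨⟨k + 4, by omega⟩, by simp⟩ : {i : Fin n // 4 ≤ (i : ℕ)})) ?_)
    · simp
    · intro a b h
      simpa [Fin.ext_iff] using h
  haveI : IsSimpleGroup ↥(alternatingGroup {i : Fin n // 4 ≤ (i : ℕ)}) :=
    alternatingGroup.isSimpleGroup hcard
  let f : ↥(alternatingGroup {i : Fin n // 4 ≤ (i : ℕ)}) →* ↥(fixT n) :=
    { toFun := fun σ => ⟨⟨Perm.ofSubtype (σ : Perm _), by
          rw [Perm.mem_alternatingGroup, Perm.sign_ofSubtype]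
          exact Perm.mem_alternatingGroup.1 σ.2⟩,
        fun i hi => Perm.ofSubtype_apply_of_not_mem _ (not_le.2 hi)⟩
      map_one' := by ext; simp
      map_mul' := fun a b => by
        apply Subtype.ext
        apply Subtype.ext
        simp }
  have hbij : Function.Bijective f := by
    refine ⟨fun a b h => Subtype.ext (Perm.ofSubtype_injective
      (congrArg (fun x : ↥(fixT n) => ((x : ↥(alternatingGroup (Fin n))) : Perm (Fin n))) h :)), ?_⟩
    intro τ
    set π : Perm (Fin n) := ((τ : ↥(alternatingGroup (Fin n))) : Perm (Fin n)) with hπ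
    have hfix : ∀ x : Fin n, (x : ℕ) < 4 → π x = x := τ.2
    have hp : ∀ x : Fin n, 4 ≤ ((π x : Fin n) : ℕ) ↔ 4 ≤ (x : ℕ) := by
      intro x
      constructor
      · intro h
        by_contra h'
        rw [hfix x (not_le.1 h')] at h
        exact h' h
      · intro h
        by_contra h'
        have h2 := hfix _ (not_le.1 h')
        rw [π.injective h2] at h'
        exact h' h
    have hsub : Perm.ofSubtype (π.subtypePerm hp) = π :=
      Perm.ofSubtype_subtypePerm hp fun x hx => by
        by_contra h'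
        exact hx (hfix x (not_le.1 h'))
    refine ⟨⟨π.subtypePerm hp, ?_⟩, Subtype.ext (Subtype.ext hsub)⟩
    rw [Perm.mem_alternatingGroup]
    rw [← Perm.sign_ofSubtype, hsub]
    exact Perm.mem_alternatingGroup.1 (τ : ↥(alternatingGroup (Fin n))).2
  haveI : Nontrivial ↥(fixT n) := hbij.1.nontrivial
  haveI : IsSimpleGroup ↥(fixT n) := IsSimpleGroup.isSimpleGroup_of_surjective f hbij.2
  refine Lib.Components.quasisimple_of_forall_normal ?_ fun N hN hne =>
    (hN.eq_bot_or_eq_top.resolve_right hne).le.trans bot_le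
  rw [Group.isPerfect_def]
  refine (IsSimpleGroup.eq_bot_or_eq_top_of_normal (commutator ↥(fixT n)) inferInstance).resolve_left
    fun h => ?_
  let i : Fin n := ⟨4, by omega⟩
  obtain ⟨a, b, c, d, ha, hb, hc, hd, hia, hib, hic, hid, hab, hac, had, hbc, hbd, hcd⟩ :=
    pick hn i le_rfl
  let x : ↥(fixT n) := ⟨_, cyc_mem hia hab le_rfl ha hb⟩
  let y : ↥(fixT n) := ⟨_, cyc_mem hic hcd le_rfl hc hd⟩
  haveI := (commutator_eq_bot_iff _).1 h
  have hxy : x * y = y * x := mul_comm' x y
  have h2 := congrArg (fun σ : ↥(fixT n) => ((σ : ↥(alternatingGroup (Fin n))) : Perm (Fin n)) i) hxy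
  simp only [x, y, Subgroup.coe_mul, Perm.mul_apply] at h2
  rw [cyc_move hia hab hib, cyc_move hic hcd hid, cyc_fix hia hab (Ne.symm hic) (Ne.symm hac)
    (Ne.symm hbc), cyc_fix hic hcd (Ne.symm hia) hac had] at h2
  exact hac h2.symm


/-- For n ≥ 9, the subgroup of the alternating group on Fin n fixing each of the points 0, 1, 2, 3 is a standard subgroup. -/
theorem result (n : ℕ) (h4 : 4 ≤ n) (hn : 9 ≤ n) : Cfsg.IsStandardSubgroup (⨅ i : Fin 4, MulAction.stabilizer ↥(alternatingGroup (Fin n)) (Fin.castLE h4 i : Fin n)) := by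
  classical
  rw [iInf_stabilizer_eq h4]
  refine ⟨quasisimple_fixT hn, ?_, ?_, ?_⟩
  · rw [centralizer_fixT hn]
    refine ⟨even_iff_two_dvd.2 ?_, fun g hg => ?_⟩
    · have h2 : orderOf (dbl hn) = 2 := by
        refine orderOf_eq_prime ?_ fun h => dbl_move hn ⟨0, by omega⟩ (by simp) (by rw [h]; rfl)
        apply Subtype.ext
        rw [pow_two]
        show (Equiv.swap (⟨0, by omega⟩ : Fin n) ⟨1, by omega⟩ * Equiv.swap ⟨2, by omega⟩ ⟨3, by omega⟩) *
          (Equiv.swap (⟨0, by omega⟩ : Fin n) ⟨1, by omega⟩ * Equiv.swap ⟨2, by omega⟩ ⟨3, by omega⟩) = 1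
        have hd : Equiv.Perm.Disjoint (Equiv.swap (⟨0, by omega⟩ : Fin n) ⟨1, by omega⟩)
            (Equiv.swap ⟨2, by omega⟩ ⟨3, by omega⟩) := by
          intro x
          by_cases h : (x : ℕ) < 2
          · exact Or.inr (Equiv.swap_apply_of_ne_of_ne (fun e => by subst e; simp at h)
              (fun e => by subst e; simp at h))
          · exact Or.inl (Equiv.swap_apply_of_ne_of_ne (fun e => by subst e; simp at h)
              (fun e => by subst e; simp at h))
        rw [← mul_assoc, hd.commute.eq, mul_assoc (Equiv.swap _ _) (Equiv.swap _ _),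
          Equiv.swap_mul_self, mul_one, Equiv.swap_mul_self]
      rw [← h2]
      exact (fixS n).orderOf_dvd_natCard (dbl_mem hn)
    · rw [← Nat.not_even_iff_odd, even_iff_two_dvd]
      intro hdvd
      haveI := Fact.mk Nat.prime_two
      obtain ⟨w, hw⟩ := exists_prime_orderOf_dvd_card' 2 hdvd
      obtain ⟨hwS, v, hv, hve⟩ := w.2
      set π : Equiv.Perm (Fin n) := ((w : ↥(alternatingGroup (Fin n))) : Equiv.Perm (Fin n)) with hπ
      have ho : orderOf π = 2 := by
        rw [hπ, Subgroup.orderOf_coe, Subgroup.orderOf_coe]; exact hw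
      obtain ⟨j, hj, hgj⟩ : ∃ j : Fin n, 4 ≤ (j : ℕ) ∧
          (((g : Equiv.Perm (Fin n)) j : Fin n) : ℕ) < 4 := by
        by_contra hcon
        push Not at hcon
        apply hg
        refine (mem_normalizer_of_pres fun i => ⟨fun hi => ?_, fun hi => ?_⟩).2
        · let f : {x : Fin n // 4 ≤ (x : ℕ)} → {x : Fin n // 4 ≤ (x : ℕ)} :=
            fun x => ⟨(g : Equiv.Perm (Fin n)) x, hcon x x.2⟩
          have hf : Function.Surjective f := Finite.injective_iff_surjective.1
            fun a b e => Subtype.ext ((g : Equiv.Perm (Fin n)).injective (congrArg Subtype.val e))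
          by_contra h'
          obtain ⟨⟨k, hk⟩, he⟩ := hf ⟨_, not_lt.1 h'⟩
          have e : k = i := (g : Equiv.Perm (Fin n)).injective (congrArg Subtype.val he)
          rw [e] at hk
          omega
        · by_contra h'
          exact not_lt.2 (hcon i (not_lt.1 h')) hi
      set a := (g : Equiv.Perm (Fin n)) j with ha
      have hfix : π a = a := by
        rw [hπ, ← hve, ha]
        simp only [MulEquiv.coe_toMonoidHom, MulAut.conj_apply, Subgroup.coe_mul,
          InvMemClass.coe_inv, Equiv.Perm.mul_apply, inv_app]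
        rw [hv j hj]
      have hsupp : π.support.card ≤ 3 := by
        have hsub : π.support ⊆ (Finset.univ.filter fun x : Fin n => (x : ℕ) < 4).erase a := by
          intro x hx
          rw [Equiv.Perm.mem_support] at hx
          refine Finset.mem_erase.2 ⟨fun e => hx (e ▸ hfix), Finset.mem_filter.2
            ⟨Finset.mem_univ _, ?_⟩⟩
          by_contra h'
          exact hx (hwS x (not_lt.1 h'))
        refine (Finset.card_le_card hsub).trans ?_
        have hmem : a ∈ (Finset.univ.filter fun x : Fin n => (x : ℕ) < 4) :=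
          Finset.mem_filter.2 ⟨Finset.mem_univ _, hgj⟩
        rw [Finset.card_erase_of_mem hmem]
        have : (Finset.univ.filter fun x : Fin n => (x : ℕ) < 4).card ≤ (Finset.range 4).card :=
          Finset.card_le_card_of_injOn (fun x => (x : ℕ)) (fun x hx => by simpa using hx)
            (fun x _ y _ h => Fin.ext h)
        rw [Finset.card_range] at this
        omega
      obtain ⟨k, hk⟩ := Equiv.Perm.cycleType_prime_order (ho ▸ Nat.prime_two : (orderOf π).Prime)
      rw [ho] at hk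
      have hs := Equiv.Perm.sum_cycleType π
      rw [hk, Multiset.sum_replicate, smul_eq_mul] at hs
      have hsign : Equiv.Perm.sign π = 1 :=
        Equiv.Perm.mem_alternatingGroup.1 (w : ↥(alternatingGroup (Fin n))).2
      have hk0 : k = 0 := by omega
      rw [Equiv.Perm.sign_of_cycleType, hk, hk0] at hsign
      exact absurd hsign (by decide)
  · intro g _ hcom
    rw [Subgroup.commutator_eq_bot_iff_le_centralizer, Subgroup.le_centralizer_iff,
      centralizer_fixT hn] at hcom
    obtain ⟨j, hj, hgj⟩ : ∃ j : Fin n, 4 ≤ (j : ℕ) ∧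
        4 ≤ (((g : Equiv.Perm (Fin n)) j : Fin n) : ℕ) := by
      by_contra hcon
      push Not at hcon
      let f : Fin 5 → {x : Fin n // (x : ℕ) < 4} := fun k =>
        ⟨(g : Equiv.Perm (Fin n)) ⟨k + 4, by omega⟩, hcon _ (by simp)⟩
      have hf : Function.Injective f := fun a b e => by
        have := (g : Equiv.Perm (Fin n)).injective (congrArg Subtype.val e)
        simpa [Fin.ext_iff] using this
      let f' : Fin 5 → Fin 4 := fun k => ⟨_, (f k).2⟩
      have := Fintype.card_le_of_injective f'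
        (fun a b e => hf (Subtype.ext (Fin.ext (congrArg Fin.val e :))))
      simp at this
    obtain ⟨a, b, c, d, ha, hb, hc, hd, hia, hib, hic, hid, hab, hac, had, hbc, hbd, hcd⟩ :=
      pick hn j hj
    have h1 := hcom ⟨_, cyc_mem hia hab hj ha hb, rfl⟩ ((g : Equiv.Perm (Fin n)) j) hgj
    simp only [MulEquiv.coe_toMonoidHom, MulAut.conj_apply, Subgroup.coe_mul, InvMemClass.coe_inv,
      Equiv.Perm.mul_apply, inv_app] at h1
    rw [cyc_move hia hab hib] at h1
    exact hia ((g : Equiv.Perm (Fin n)).injective h1).symm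
  · ext g
    constructor
    · intro hg
      rw [Subgroup.mem_normalizer_iff] at hg ⊢
      intro c
      simp only [SetLike.mem_coe, Subgroup.mem_centralizer_iff]
      constructor
      · intro hc l hl
        have h := hc (g⁻¹ * l * g) ((hg _).2 (by simpa [mul_assoc] using hl))
        calc l * (g * c * g⁻¹) = g * ((g⁻¹ * l * g) * c) * g⁻¹ := by group
          _ = g * (c * (g⁻¹ * l * g)) * g⁻¹ := by rw [h]
          _ = _ := by group
      · intro hc l hl
        have h := hc (g * l * g⁻¹) ((hg _).1 hl)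
        calc l * c = g⁻¹ * ((g * l * g⁻¹) * (g * c * g⁻¹)) * g := by group
          _ = g⁻¹ * ((g * c * g⁻¹) * (g * l * g⁻¹)) * g := by rw [h]
          _ = _ := by group
    · intro hg
      rw [centralizer_fixT hn] at hg
      exact (mem_normalizer_of_pres (pres_of_mem_normalizer hn hg)).1

end Cfsg.Agent.S1323
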