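import Cfsg.Statements.S1324
import Mathlib
import Cfsg.Agent.Lib.Coprime.Cocyclic

set_option autoImplicit false
open Cfsg
open scoped Pointwise

namespace Cfsg.Agent.S1324

/-- Let A be a noncyclic elementary abelian p-subgroup of a finite group H normalizing a subgroup X of order prime to p. Then X is generated by the subgroups X ∩ C_H(B), B ranging over the subgroups of A of index at most p. -/
theorem result {H : Type*} [Group H] [Finite H] (p : ℕ) [Fact p.Prime] (A X : Subgroup H) (hA : Cfsg.IsElementaryAbelian p A) (hA2 : p ^ 2 ≤ Nat.card ↥A) (hX : ¬ p ∣ Nat.card ↥X) (hAX : A ≤ Subgroup.normalizer (X : Set H)) : X = ⨆ B : {B : Subgroup H // B ≤ A ∧ B.relIndex A ≤ p}, X ⊓ Subgroup.centralizer ((B : Subgroup H) : Set H) := by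
  haveI := hA.1
  have hcop : (Nat.card ↥A).Coprime (Nat.card ↥X) := by
    have hpg : IsPGroup p ↥A := fun a => ⟨1, Subtype.ext (by simpa using hA.2 (a : H) a.2)⟩
    obtain ⟨k, hk⟩ := IsPGroup.iff_card.1 hpg
    rw [hk]
    exact ((Fact.out : p.Prime).coprime_iff_not_dvd.2 hX).pow_left k
  refine le_antisymm (Lib.Coprime.le_of_cocyclic hAX hcop fun B hB g hg hBg => ?_)
    (iSup_le fun _ => inf_le_left)
  refine le_iSup_of_le (⟨B, hB, ?_⟩ : {B : Subgroup H // B ≤ A ∧ B.relIndex A ≤ p}) le_rfl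
  have hnorm : B ≤ Subgroup.normalizer (Subgroup.zpowers g : Set H) := by
    refine le_trans ?_ (Subgroup.centralizer_le_normalizer _)
    rw [Subgroup.le_centralizer_iff, Subgroup.zpowers_le, Subgroup.mem_centralizer_iff]
    intro b hb
    exact congrArg Subtype.val (hA.1.is_comm.comm (⟨b, hB hb⟩ : A) ⟨g, hg⟩)
  have h1 : Nat.card ↥A ≤ Nat.card ↥B * p := by
    have e : Nat.card ↥A = Nat.card ↥((B : Set H) * (Subgroup.zpowers g : Set H)) := by
      rw [← Subgroup.coe_mul_of_left_le_normalizer_right _ _ hnorm, hBg]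
      rfl
    rw [e]
    refine Set.natCard_mul_le.trans (Nat.mul_le_mul_left _ ?_)
    show Nat.card ↥(Subgroup.zpowers g) ≤ p
    rw [Nat.card_zpowers]
    exact Nat.le_of_dvd (Fact.out : p.Prime).pos (orderOf_dvd_of_pow_eq_one (hA.2 g hg))
  have h2 : Nat.card ↥B * B.relIndex A = Nat.card ↥A := by
    rw [← Nat.card_congr (Subgroup.subgroupOfEquivOfLe hB).toEquiv]
    exact Subgroup.card_mul_index _
  exact Nat.le_of_mul_le_mul_left (h2.le.trans h1) Nat.card_pos

end Cfsg.Agent.S1324
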