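import Cfsg.Statements.S1326
import Mathlib
import Cfsg.Agent.Lib.FStar.Basic

set_option autoImplicit false
open Cfsg

namespace Cfsg.Agent.S1326

/-- For a finite group X: the Fitting subgroup contains its centralizer if and only if the layer of X is trivial. -/
theorem result {X : Type*} [Group X] [Finite X] : Subgroup.centralizer (Cfsg.fittingSubgroup X : Set X) ≤ Cfsg.fittingSubgroup X ↔ Cfsg.layer X = ⊥ := by
  constructor
  · intro h
    by_contra hne
    have hle : Cfsg.layer X ≤ Cfsg.fittingSubgroup X :=
      Lib.Components.layer_le_centralizer_fittingSubgroup.trans h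
    haveI := Lib.Components.layer_isPerfect (G := X)
    haveI := (Subgroup.nontrivial_iff_ne_bot (Cfsg.layer X)).2 hne
    exact Group.IsPerfect.not_isSolvable ↥(Cfsg.layer X)
      (Lib.Components.isSolvable_subgroup_mono hle Lib.Components.fittingSubgroup_isSolvable)
  · intro h
    have hF : Cfsg.generalizedFittingSubgroup X = Cfsg.fittingSubgroup X := by
      show Cfsg.layer X ⊔ Cfsg.fittingSubgroup X = _
      rw [h, bot_sup_eq]
    rw [← hF]
    exact Lib.Components.centralizer_generalizedFittingSubgroup_le

end Cfsg.Agent.S1326
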