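import Cfsg.Statements.S1327
import Mathlib
import Cfsg.Agent.Lib.Components.Local
import Cfsg.Agent.Lib.Components.PComponent
import Cfsg.Agent.Lib.PSolvable.HallHigman

set_option autoImplicit false
open Cfsg

namespace Cfsg.Agent.S1327

open Lib Lib.Components in
theorem layer_quotient_eq_bot {X : Type*} [Group X] [Finite X] (p : ℕ) [Fact p.Prime] :
    Cfsg.pLayer p X = ⊥ ↔ Cfsg.layer (X ⧸ Cfsg.pPrimeCore p X) = ⊥ := by
  constructor
  · intro h
    rw [← map_pLayer, h, Subgroup.map_bot]
  · intro h
    refine sSup_eq_bot.2 fun K hK => absurd ?_ (isComponent_ne_bot hK.2.1)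
    exact eq_bot_iff.2 ((isComponent_le_layer hK.2.1).trans h.le)

open Lib Lib.Components in
/-- A finite group X is p-constrained if and only if its p-layer L_{p'}(X) is trivial (equivalently X / O_{p'}(X) has trivial layer). -/
theorem result {X : Type*} [Group X] [Finite X] (p : ℕ) [Fact p.Prime] : Cfsg.IsPConstrained p X ↔ Cfsg.pLayer p X = ⊥ := by
  rw [PSolvable.isPConstrained_iff, layer_quotient_eq_bot]
  constructor
  · intro h
    rw [eq_bot_iff]
    refine layer_le_iff.2 fun L hL => absurd ?_ (isComponent_not_le_centralizer hL)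
    have h1 : L ≤ Subgroup.centralizer (pCore p (X ⧸ pPrimeCore p X) : Set (X ⧸ pPrimeCore p X)) :=
      ((isComponent_le_layer hL).trans layer_le_centralizer_fittingSubgroup).trans
        (Subgroup.centralizer_le (pCore_le_fittingSubgroup p))
    exact h1.trans (Subgroup.centralizer_le (h1.trans h))
  · intro h
    rw [← generalizedFittingSubgroup_eq_pCore_iff.2 ⟨h, PSolvable.pPrimeCore_quotient_eq_bot⟩]
    exact centralizer_generalizedFittingSubgroup_le

end Cfsg.Agent.S1327
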