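import Cfsg.Statements.S1328
import Mathlib
import Cfsg.Agent.Lib.Components.Orbit
import Cfsg.Agent.Lib.Components.GenFitting

set_option autoImplicit false
open Cfsg

namespace Cfsg.Agent.S1328

open Lib Lib.Components in
/-- The nontrivial case: the ambient group is `H⟨t⟩`. -/
theorem key {G : Type*} [Group G] [Finite G] (H : Subgroup G) (t : G) (ht : t * t = 1)
    (htH : t ∈ Subgroup.normalizer (H : Set G)) (hO : Cfsg.oddCore ↥H = ⊥)
    (W : Subgroup G) (hW : W = H ⊓ Subgroup.centralizer ({t} : Set G))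
    (t0 : ↥(Subgroup.zpowers t ⊔ H)) (ht0 : (t0 : G) = t) :
    pPrimeCore 2 ↥(Subgroup.zpowers t ⊔ H) = ⊥ ∧
      ((pPrimeCore 2 ↥W).map W.subtype).subgroupOf (Subgroup.zpowers t ⊔ H) ≤
        centralizerPPrimeCore 2 t0 := by
  haveI := Fact.mk Nat.prime_two
  have hz : ∀ i : ℤ, (Even i → t ^ i = 1) ∧ (Odd i → t ^ i = t) := by
    intro i
    constructor <;> rintro ⟨j, rfl⟩
    · rw [← two_mul, zpow_mul, zpow_two, ht, one_zpow]
    · rw [zpow_add_one, zpow_mul, zpow_two, ht, one_zpow, one_mul]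
  have hG : ∀ g ∈ Subgroup.zpowers t ⊔ H, ∃ i : ℤ, ∃ h ∈ H, g = t ^ i * h := by
    intro g hg
    rw [← SetLike.mem_coe, Subgroup.coe_mul_of_left_le_normalizer_right _ _
      (Subgroup.zpowers_le.2 htH), Set.mem_mul] at hg
    obtain ⟨_, ⟨i, rfl⟩, h, hh, rfl⟩ := hg
    exact ⟨i, h, hh, rfl⟩
  constructor
  · rw [Subgroup.eq_bot_iff_forall]
    intro r hr
    have hmem : ∀ r : ↥(Subgroup.zpowers t ⊔ H), r ∈ pPrimeCore 2 ↥(Subgroup.zpowers t ⊔ H) →
        (r : G) ∈ H → r = 1 := by
      intro r hr hrH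
      have h1 : (⟨r, hrH⟩ : ↥H) ∈ pPrimeCore 2 ↥H := by
        let f : ↥H →* ↥(Subgroup.zpowers t ⊔ H) := Subgroup.inclusion le_sup_right
        refine PSolvable.le_pPrimeCore (N := (pPrimeCore 2 ↥(Subgroup.zpowers t ⊔ H)).comap f)
          ?_ (show f ⟨r, hrH⟩ ∈ _ from hr)
        refine Nat.Coprime.coprime_dvd_left (Subgroup.card_comap_dvd_of_injective _ f
          (Subgroup.inclusion_injective _)) PSolvable.pPrimeCore_coprime
      rw [show pPrimeCore 2 ↥H = ⊥ from hO, Subgroup.mem_bot] at h1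
      exact Subtype.ext (congrArg Subtype.val h1 :)
    obtain ⟨i, h, hh, hrh⟩ := hG r r.2
    rcases Int.even_or_odd i with hi | hi
    · exact hmem r hr (by rw [hrh, (hz i).1 hi, one_mul]; exact hh)
    · have h2 : r ^ 2 = 1 := by
        refine hmem _ (pow_mem hr 2) ?_
        show (r : G) ^ 2 ∈ H
        rw [hrh, (hz i).2 hi, pow_two, show t * h * (t * h) = t * h * t * h by group]
        refine mul_mem ?_ hh
        have h3 := (Subgroup.mem_normalizer_iff.1 htH h).1 hh
        rwa [inv_eq_of_mul_eq_one_left ht] at h3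
      by_contra hne
      have h3 : (⟨r, hr⟩ : ↥(pPrimeCore 2 ↥(Subgroup.zpowers t ⊔ H))) ^ 2 = 1 := Subtype.ext h2
      have h4 := orderOf_eq_prime (p := 2) h3 fun e => hne (congrArg Subtype.val e)
      have h5 : 2 ∣ Nat.card ↥(pPrimeCore 2 ↥(Subgroup.zpowers t ⊔ H)) :=
        h4.symm.dvd.trans (orderOf_dvd_natCard _)
      exact PSolvable.pPrimeCore_not_dvd h5
  · intro y hy
    rw [Subgroup.mem_subgroupOf] at hy
    set C := Subgroup.centralizer ({t0} : Set ↥(Subgroup.zpowers t ⊔ H))
    set Q : Subgroup G := (pPrimeCore 2 ↥W).map W.subtype with hQ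
    have hQW : Q ≤ W := Subgroup.map_subtype_le _
    have hcomm : ∀ w ∈ W, w * t = t * w := fun w hw =>
      Subgroup.mem_centralizer_singleton_iff.1 (hW.le hw).2
    have hQC : ∀ x : ↥(Subgroup.zpowers t ⊔ H), (x : G) ∈ Q → x ∈ C := fun x hx =>
      Subgroup.mem_centralizer_singleton_iff.2 (Subtype.ext (by
        simp only [Subgroup.coe_mul, ht0]; exact hcomm _ (hQW hx)))
    refine ⟨⟨y, hQC y hy⟩, ?_, rfl⟩
    let f : ↥C →* G := (Subgroup.zpowers t ⊔ H).subtype.comp C.subtype
    have hf : Function.Injective f := Subtype.val_injective.comp Subtype.val_injective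
    have hn : (Q.comap f).Normal := by
      refine ⟨fun x hx c => ?_⟩
      obtain ⟨i, h, hh, hch⟩ := hG ((c : ↥(Subgroup.zpowers t ⊔ H)) : G) c.1.2
      have hct : ((c : ↥(Subgroup.zpowers t ⊔ H)) : G) * t = t * ((c : ↥(Subgroup.zpowers t ⊔ H)) : G) := by
        have := congrArg Subtype.val (Subgroup.mem_centralizer_singleton_iff.1 c.2)
        simpa [ht0] using this
      have hhW : h ∈ W := by
        refine hW.ge ⟨hh, Subgroup.mem_centralizer_singleton_iff.2 ?_⟩
        have : h = t ^ (-i) * ((c : ↥(Subgroup.zpowers t ⊔ H)) : G) := by rw [hch]; group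
        rw [this, mul_assoc, hct, ← mul_assoc, ← mul_assoc,
          ((Commute.refl t).zpow_left (-i)).eq]
      show f (c * x * c⁻¹) ∈ Q
      rw [map_mul, map_mul, map_inv]
      have hin : h * f x * h⁻¹ ∈ Q := by
        have hle : W ≤ Subgroup.normalizer (Q : Set G) := by
          refine le_trans (le_of_eq ?_) (Subgroup.le_normalizer_map W.subtype)
          rw [Subgroup.normalizer_eq_top, ← MonoidHom.range_eq_map, Subgroup.range_subtype]
        exact (Subgroup.mem_normalizer_iff.1 (hle hhW) _).1 hx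
      have hti : Commute (t ^ i) (h * f x * h⁻¹) :=
        (show Commute t (h * f x * h⁻¹) from (hcomm _ (hQW hin)).symm).zpow_left i
      show ((c : ↥(Subgroup.zpowers t ⊔ H)) : G) * f x * (((c : ↥(Subgroup.zpowers t ⊔ H)) : G))⁻¹ ∈ Q
      rw [hch, show t ^ i * h * f x * (t ^ i * h)⁻¹ = t ^ i * (h * f x * h⁻¹) * (t ^ i)⁻¹ by group,
        hti.eq, mul_inv_cancel_right]
      exact hin
    refine PSolvable.le_pPrimeCore (N := Q.comap f) ?_ (show f _ ∈ Q from hy)
    refine Nat.Coprime.coprime_dvd_left (Subgroup.card_comap_dvd_of_injective _ f hf) ?_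
    rw [hQ, Subgroup.card_map_of_injective W.subtype_injective]
    exact PSolvable.pPrimeCore_coprime

open Lib Lib.Components in
/-- Let G be finite, H ≤ G with O(H) = 1, t an involution of G normalizing H, and Y a nontrivial subgroup of O(C_H(t)). Then some component E of H is normalized by t and by Y and centralized by neither t nor Y. -/
theorem result {G : Type*} [Group G] [Finite G] (H : Subgroup G) (hO : Cfsg.oddCore ↥H = ⊥) (t : G) (ht : orderOf t = 2) (htH : t ∈ Subgroup.normalizer (H : Set G)) (Y : Subgroup G) (hY1 : Y ≠ ⊥) (hY : Y ≤ (Cfsg.oddCore ↥(H ⊓ Subgroup.centralizer ({t} : Set G))).map (H ⊓ Subgroup.centralizer ({t} : Set G)).subtype) : ∃ E : Subgroup ↥H, Cfsg.IsComponent E ∧ (E.map H.subtype).map (MulAut.conj t).toMonoidHom = E.map H.subtype ∧ Y ≤ Subgroup.normalizer ((E.map H.subtype : Subgroup G) : Set G) ∧ ¬ (t ∈ Subgroup.centralizer ((E.map H.subtype : Subgroup G) : Set G)) ∧ ¬ (Y ≤ Subgroup.centralizer ((E.map H.subtype : Subgroup G) : Set G)) := by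
  haveI := Fact.mk Nat.prime_two
  have htt : t * t = 1 := by rw [← pow_two, ← ht]; exact pow_orderOf_eq_one t
  set W := H ⊓ Subgroup.centralizer ({t} : Set G) with hW
  set G0 := Subgroup.zpowers t ⊔ H with hG0
  let t0 : ↥G0 := ⟨t, Subgroup.mem_sup_left (Subgroup.mem_zpowers t)⟩
  have ht0 : orderOf t0 = 2 := by rw [← ht]; exact Subgroup.orderOf_mk _ _
  obtain ⟨hO0, hcore⟩ := key H t htt htH hO W hW t0 rfl
  have hYH : Y ≤ H := hY.trans ((Subgroup.map_subtype_le _).trans inf_le_left)
  have hYC : ∀ y ∈ Y, ∀ hy : y ∈ G0, (⟨y, hy⟩ : ↥G0) ∈ centralizerPPrimeCore 2 t0 :=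
    fun y hy _ => hcore (hY hy)
  have hH0 : (H.subgroupOf G0).Normal := (Subgroup.normal_subgroupOf_iff_le_normalizer le_sup_right).2
    (sup_le (Subgroup.zpowers_le.2 htH) Subgroup.le_normalizer)
  -- components of `H` are components of `G0`
  have hcomp : ∀ E : Subgroup ↥H, IsComponent E → IsComponent ((E.map H.subtype).subgroupOf G0) := by
    intro E hE
    have h1 := isComponent_map_equiv hE (Subgroup.subgroupOfEquivOfLe (le_sup_right : H ≤ G0)).symm
    have h2 := (isComponent_map_subtype_iff hH0.isSubnormal _).2 h1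
    convert h2 using 1
    ext ⟨z, hz⟩
    constructor
    · rintro ⟨e, he, hez⟩
      exact ⟨_, ⟨e, he, rfl⟩, Subtype.ext hez⟩
    · rintro ⟨_, ⟨e, he, rfl⟩, h⟩
      exact ⟨e, he, congrArg Subtype.val h⟩
  have hP : IsPGroup 2 (Subgroup.zpowers t0) := isPGroup_zpowers_of_orderOf_eq ht0
  have hnorm : ∀ E : Subgroup ↥H, IsComponent E →
      Y ≤ Subgroup.normalizer ((E.map H.subtype : Subgroup G) : Set G) := by
    intro E hE y hy
    have hy0 : y ∈ G0 := Subgroup.mem_sup_right (hYH hy)
    have h1 := mem_allComponentsNormalizer.1 (localLayer_le_allComponentsNormalizer hO0 hP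
      (centralizerPPrimeCore_le_localLayer t0 (hYC y hy hy0))) _ (hcomp E hE)
    rw [← Subgroup.subgroupOf_normalizer_eq ((Subgroup.map_subtype_le _).trans le_sup_right)] at h1
    exact h1
  -- some component is not centralized by `Y`
  obtain ⟨E, hE, hEY⟩ : ∃ E : Subgroup ↥H, IsComponent E ∧
      ¬ (Y ≤ Subgroup.centralizer ((E.map H.subtype : Subgroup G) : Set G)) := by
    by_contra hcon
    push Not at hcon
    apply hY1
    rw [Subgroup.eq_bot_iff_forall]
    intro y hy
    have hy0 : y ∈ G0 := Subgroup.mem_sup_right (hYH hy)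
    set yH : ↥H := ⟨y, hYH hy⟩
    have h2core : ∀ z : ↥H, z ∈ pCore 2 ↥H → (z : G) * y = y * z := by
      intro z hz
      have hle : (pCore 2 ↥H).map (Subgroup.inclusion (le_sup_right : H ≤ G0)) ≤ pCore 2 ↥G0 := by
        have h1 : ((pCore 2 ↥H).map
            (Subgroup.subgroupOfEquivOfLe (le_sup_right : H ≤ G0)).symm.toMonoidHom).map
            (H.subgroupOf G0).subtype ≤ pCore 2 ↥G0 := by
          have hchar : ((pCore 2 ↥H).map
              (Subgroup.subgroupOfEquivOfLe (le_sup_right : H ≤ G0)).symm.toMonoidHom) =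
              pCore 2 ↥(H.subgroupOf G0) :=
            PSolvable.map_pCore_equiv _
          rw [hchar]
          exact (PSolvable.map_subtype_pCore_of_normal _).le.trans inf_le_left
        refine le_trans (le_of_eq ?_) h1
        rw [Subgroup.map_map]
        congr 1
      have h3 := Subgroup.mem_centralizer_iff.1
        (centralizerPPrimeCore_le_centralizer_pCore hP (hYC y hy hy0)) _ (hle ⟨z, hz, rfl⟩)
      exact congrArg Subtype.val h3
    have hF : fittingSubgroup ↥H = pCore 2 ↥H :=
      fittingSubgroup_le_pCore_of_pPrimeCore_eq_bot hO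
    have hyC : yH ∈ Subgroup.centralizer (generalizedFittingSubgroup ↥H : Set ↥H) := by
      have h : generalizedFittingSubgroup ↥H ≤ Subgroup.centralizer ({yH} : Set ↥H) := by
        refine sup_le (layer_le_iff.2 fun L hL l hl => ?_) (fun z hz => ?_)
        · refine Subgroup.mem_centralizer_singleton_iff.2 (Subtype.ext ?_)
          exact Subgroup.mem_centralizer_iff.1 (hcon L hL hy) _ ⟨l, hl, rfl⟩
        · exact Subgroup.mem_centralizer_singleton_iff.2 (Subtype.ext (h2core z (hF.le hz)))
      rw [Subgroup.mem_centralizer_iff]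
      exact fun z hz => Subgroup.mem_centralizer_singleton_iff.1 (h hz)
    have hyF := centralizer_generalizedFittingSubgroup_le hyC
    -- `y` is in the centre of `F*(H)`, so in `O_2(H)`
    have := generalizedFittingSubgroup_normal (G := ↥H)
    have hnil : (generalizedFittingSubgroup ↥H ⊓
        Subgroup.centralizer (generalizedFittingSubgroup ↥H : Set ↥H)) ≤ fittingSubgroup ↥H := by
      have hab : IsMulCommutative (generalizedFittingSubgroup ↥H ⊓
          Subgroup.centralizer (generalizedFittingSubgroup ↥H : Set ↥H) : Subgroup ↥H) := by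
        rw [← Subgroup.commutator_self_eq_bot_iff, Subgroup.commutator_eq_bot_iff_le_centralizer]
        exact inf_le_right.trans (Subgroup.centralizer_le inf_le_left)
      exact le_fittingSubgroup inferInstance
        (Subgroup.isNilpotent_of_lowerCentralSeries_eq_bot (n := 1) (by
          simp only [Subgroup.lowerCentralSeries_succ, Subgroup.lowerCentralSeries_zero]
          exact Subgroup.commutator_self_eq_bot_iff.mpr hab))
    have hy2 : yH ∈ pCore 2 ↥H := hF.le (hnil ⟨hyF, hyC⟩)
    obtain ⟨k, hk⟩ := PSolvable.pCore_isPGroup.exists_orderOf_eq_pow ⟨yH, hy2⟩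
    rw [Subgroup.orderOf_mk, Subgroup.orderOf_mk] at hk
    obtain ⟨w, hw, hwy⟩ := hY hy
    have hodd : orderOf y ∣ Nat.card ↥(pPrimeCore 2 ↥W) := by
      rw [← hwy, Subgroup.coe_subtype, Subgroup.orderOf_coe]
      exact Subgroup.orderOf_dvd_natCard _ hw
    rcases Nat.eq_zero_or_pos k with hk0 | hk0
    · rw [hk0, pow_zero, orderOf_eq_one_iff] at hk
      exact hk
    · exact absurd ((dvd_pow_self 2 hk0.ne').trans (hk ▸ hodd)) PSolvable.pPrimeCore_not_dvd
  set E0 := (E.map H.subtype).subgroupOf G0 with hE0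
  have hEG : E.map H.subtype ≤ G0 := (Subgroup.map_subtype_le _).trans le_sup_right
  have hmain : ⁅E0, Subgroup.zpowers t0⁆ = E0 := by
    by_contra hne
    apply hEY
    have h := component_commutator_centralizerPPrimeCore hO0 ht0 (hcomp E hE) hne
    rw [Subgroup.commutator_eq_bot_iff_le_centralizer] at h
    intro y hy
    rw [Subgroup.mem_centralizer_iff]
    intro e he
    have h1 := Subgroup.mem_centralizer_iff.1 (h (show (⟨e, hEG he⟩ : ↥G0) ∈ E0 from he)) _
      (hYC y hy (Subgroup.mem_sup_right (hYH hy)))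
    exact (congrArg Subtype.val h1).symm
  have htN : t0 ∈ Subgroup.normalizer (E0 : Set ↥G0) :=
    Subgroup.le_normalizer_iff_commutator_le_left.2 hmain.le (Subgroup.mem_zpowers t0)
  refine ⟨E, hE, ?_, hnorm E hE, fun hc => ?_, hEY⟩
  · rw [← Subgroup.subgroupOf_normalizer_eq hEG] at htN
    exact Subgroup.mem_normalizer_iff_map_conj_eq.1 htN
  · apply isComponent_ne_bot (hcomp E hE)
    show E0 = ⊥
    rw [← hmain, Subgroup.commutator_eq_bot_iff_le_centralizer]
    intro e he
    rw [Subgroup.mem_centralizer_iff]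
    rintro _ ⟨i, rfl⟩
    apply Subtype.ext
    exact ((show Commute t (e : G) from (Subgroup.mem_centralizer_iff.1 hc _ he).symm).zpow_left i).eq

end Cfsg.Agent.S1328
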