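import Cfsg.Statements.S1329
import Mathlib
import Cfsg.Agent.Lib.KleinFix.Main

set_option autoImplicit false
open Cfsg

namespace Cfsg.Agent.S1329

open Subgroup in
/-- The induction over the subgroups `D` of `B`. -/
theorem fixed_le_aux {G : Type*} [Group G] [Finite G] (A B Y : Subgroup G) (hA2 : IsPGroup 2 A)
    (hAc : IsMulCommutative A) (hB : B ≤ A) (hYodd : Odd (Nat.card Y))
    (hAY : A ≤ normalizer (Y : Set G)) (S : Subgroup G)
    (hS : ∀ B₀ : Subgroup G, B₀ ≤ B → (∀ [(B₀.subgroupOf B).Normal],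
      IsCyclic (↥B ⧸ B₀.subgroupOf B)) →
      Y ⊓ centralizer (B : Set G) ⊓ ⁅Y ⊓ centralizer (B₀ : Set G), A⁆ ≤ S) :
    ∀ n, ∀ D : Subgroup G, Nat.card G - Nat.card D = n → D ≤ B →
      ⁅Y ⊓ centralizer (D : Set G), A⁆ ⊓ centralizer (A : Set G) ≤ S := by
  intro n
  induction n using Nat.strong_induction_on with
  | _ n ih =>
  intro D hn hDB
  haveI := hAc
  haveI hBc : IsMulCommutative B := ⟨⟨fun x y => Subtype.ext
    (congrArg (Subtype.val : A → G) (mul_comm' (⟨x, hB x.2⟩ : A) ⟨y, hB y.2⟩))⟩⟩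
  haveI hDn : (D.subgroupOf B).Normal := inferInstance
  have hcomm : ∀ x ∈ A, ∀ y ∈ A, Commute x y := fun x hx y hy =>
    congrArg Subtype.val (mul_comm' (⟨x, hx⟩ : A) ⟨y, hy⟩)
  have hnorm : ∀ D' : Subgroup G, D' ≤ A →
      A ≤ normalizer ((Y ⊓ centralizer (D' : Set G) : Subgroup G) : Set G) := fun D' hD' =>
    Cfsg.Agent.Lib.Coprime.le_normalizer_inf_centralizer hAY fun x hx =>
      mem_normalizer_iff.2 fun y => by
        constructor
        · intro hy; rwa [(hcomm x hx y (hD' hy)).eq, mul_inv_cancel_right]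
        · intro hy
          have hxy : y = x * y * x⁻¹ := by
            have h1 := hcomm x⁻¹ (A.inv_mem hx) _ (hD' hy)
            calc y = x⁻¹ * (x * y * x⁻¹) * x := by group
              _ = x * y * x⁻¹ * x⁻¹ * x := by rw [h1.eq]
              _ = x * y * x⁻¹ := by group
          rw [hxy]; exact hy
  have hcopA : (Nat.card A).Coprime (Nat.card Y) := by
    obtain ⟨k, hk⟩ := hA2.exists_card_eq
    rw [hk]; exact (hYodd.coprime_two_left).pow_left k
  have hle : ⁅Y ⊓ centralizer (D : Set G), A⁆ ≤ Y ⊓ centralizer (D : Set G) :=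
    Cfsg.Agent.Lib.Coprime.commutator_le_of_le_normalizer (hnorm D (hDB.trans hB))
  by_cases hcyc : IsCyclic (↥B ⧸ D.subgroupOf B)
  · refine le_trans ?_ (hS D hDB fun {_} => hcyc)
    intro x hx
    exact ⟨⟨(hle hx.1).1, centralizer_le (show (B : Set G) ⊆ A from hB) hx.2⟩, hx.1⟩
  -- a four-group in `B / D`
  haveI : IsMulCommutative (⊤ : Subgroup (↥B ⧸ D.subgroupOf B)) := ⟨⟨fun x y => Subtype.ext (by
    obtain ⟨x', hx'⟩ := QuotientGroup.mk_surjective (x : ↥B ⧸ D.subgroupOf B)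
    obtain ⟨y', hy'⟩ := QuotientGroup.mk_surjective (y : ↥B ⧸ D.subgroupOf B)
    show (x : ↥B ⧸ D.subgroupOf B) * y = y * x
    rw [← hx', ← hy', ← QuotientGroup.mk_mul, ← QuotientGroup.mk_mul, mul_comm' x' y'])⟩⟩
  obtain ⟨p, hp, a, -, b, -, hap, hbp, hb1, hab⟩ :=
    Cfsg.Agent.Lib.Coprime.exists_pair_of_not_isCyclic (A := (⊤ : Subgroup (↥B ⧸ D.subgroupOf B)))
      fun hc => hcyc ((Subgroup.topEquiv.isCyclic).1 hc)
  haveI := Fact.mk hp
  have hp2 : p = 2 := by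
    have hq : IsPGroup 2 (↥B ⧸ D.subgroupOf B) := (hA2.to_le hB).to_quotient _
    obtain ⟨k, hk⟩ := IsPGroup.iff_orderOf.1 hq b
    rw [orderOf_eq_prime hbp hb1] at hk
    exact (Nat.prime_dvd_prime_iff_eq hp Nat.prime_two).1
      (hp.dvd_of_dvd_pow (show p ∣ 2 ^ k by rw [← hk]))
  subst hp2
  obtain ⟨a', rfl⟩ := QuotientGroup.mk_surjective a
  obtain ⟨b', rfl⟩ := QuotientGroup.mk_surjective b
  have hmem : ∀ u : B, (QuotientGroup.mk u : ↥B ⧸ D.subgroupOf B) = 1 ↔ (u : G) ∈ D := fun u => by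
    rw [QuotientGroup.eq_one_iff, mem_subgroupOf]
  have ha2 : (a' : G) * a' ∈ D := by
    rw [← Subgroup.coe_mul, ← hmem, QuotientGroup.mk_mul, ← pow_two, hap]
  have hb2 : (b' : G) * b' ∈ D := by
    rw [← Subgroup.coe_mul, ← hmem, QuotientGroup.mk_mul, ← pow_two, hbp]
  have hbD : (b' : G) ∉ D := fun hh => hb1 ((hmem _).2 hh)
  have haD : (a' : G) ∉ D := fun hh => hab (by rw [(hmem _).2 hh]; exact one_mem _)
  have habD : (a' : G) * b' ∉ D := fun hh => hab (by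
    rw [← Subgroup.coe_mul, ← hmem, QuotientGroup.mk_mul] at hh
    rw [eq_inv_of_mul_eq_one_left hh]
    exact inv_mem (mem_zpowers _))
  set Z := ⁅Y ⊓ centralizer (D : Set G), A⁆ with hZ
  have hcopZ : (Nat.card A).Coprime (Nat.card Z) :=
    Cfsg.Agent.Lib.Coprime.coprime_of_le_right (hle.trans inf_le_left) hcopA
  have hsqZ : ∀ u : G, u * u ∈ D → u * u ∈ centralizer (Z : Set G) := fun u hu =>
    mem_centralizer_iff.2 fun z hz => (mem_centralizer_iff.1 (hle hz).2 _ hu).symm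
  have hAZ : A ≤ normalizer (Z : Set G) :=
    Cfsg.Agent.Lib.Coprime.le_normalizer_commutator (hnorm D (hDB.trans hB)) le_normalizer
  have hmain := Cfsg.Agent.Lib.KleinFix.inf_centralizer_le_iSup hA2 hAc
    (hYodd.of_dvd_nat (card_dvd_of_le (hle.trans inf_le_left))) hAZ
    (Cfsg.Agent.Lib.Coprime.commutator_commutator_eq (hnorm D (hDB.trans hB)) hcopZ)
    (hB a'.2) (hB b'.2) (hsqZ _ ha2) (hsqZ _ hb2)
  refine hmain.trans (iSup_le fun i => ?_)
  have hu : Cfsg.Agent.Lib.KleinFix.triple (a' : G) b' i ∈ B ∧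
      Cfsg.Agent.Lib.KleinFix.triple (a' : G) b' i ∉ D := by
    match i with
    | 0 => exact ⟨a'.2, haD⟩
    | 1 => exact ⟨b'.2, hbD⟩
    | 2 => exact ⟨B.mul_mem a'.2 b'.2, habD⟩
  set u := Cfsg.Agent.Lib.KleinFix.triple (a' : G) b' i
  set D' := D ⊔ zpowers u with hD'
  have hD'B : D' ≤ B := sup_le hDB (zpowers_le.2 hu.1)
  have hlt : Nat.card D < Nat.card D' := by
    refine lt_of_le_of_ne (card_le_of_le le_sup_left) fun he => hu.2 ?_
    rw [eq_of_le_of_card_ge le_sup_left he.ge]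
    exact le_sup_right (a := D) (mem_zpowers u)
  have hle' : Nat.card D' ≤ Nat.card G := card_le_card_group _
  refine le_trans ?_ (ih _ (by omega) D' rfl hD'B)
  refine le_inf (inf_le_right.trans (commutator_mono ?_ le_rfl))
    (inf_le_left.trans inf_le_right)
  refine le_inf (inf_le_left.trans (hle.trans inf_le_left)) ?_
  rintro x ⟨hxZ, hxu⟩
  have h1 : D' ≤ centralizer ({x} : Set G) := sup_le
    (fun d hd => mem_centralizer_singleton_iff.2 (mem_centralizer_iff.1 (hle hxZ).2 d hd))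
    (zpowers_le.2 (mem_centralizer_singleton_iff.2 (mem_centralizer_singleton_iff.1 hxu).symm))
  exact mem_centralizer_iff.2 fun d hd => mem_centralizer_singleton_iff.1 (h1 hd)


/-- Let A be an abelian 2-subgroup of the finite group G, B ≤ A, and Y a subgroup of odd order normalized by A with ⁅Y, A⁆ = Y. Then Y ∩ C_G(B) is generated by the subgroups Y ∩ C_G(B) ∩ ⁅Y ∩ C_G(B₀), A⁆, B₀ ranging over the subgroups of B with B / B₀ cyclic. -/
theorem result {G : Type*} [Group G] [Finite G] (A B Y : Subgroup G) (hA2 : IsPGroup 2 ↥A) (hAc : IsMulCommutative ↥A) (hB : B ≤ A) (hYodd : Odd (Nat.card ↥Y)) (hAY : A ≤ Subgroup.normalizer (Y : Set G)) (hYA : ⁅Y, A⁆ = Y) : Y ⊓ Subgroup.centralizer (B : Set G) = ⨆ B₀ : {B₀ : Subgroup G // B₀ ≤ B ∧ ∀ [(B₀.subgroupOf B).Normal], IsCyclic (↥B ⧸ B₀.subgroupOf B)}, Y ⊓ Subgroup.centralizer (B : Set G) ⊓ ⁅Y ⊓ Subgroup.centralizer ((B₀ : Subgroup G) : Set G), A⁆ := by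
  haveI := hAc
  haveI : Group.IsSolvable A := Group.isSolvable_of_comm fun x y => mul_comm' x y
  have hcomm : ∀ x ∈ A, ∀ y ∈ A, Commute x y := fun x hx y hy =>
    congrArg Subtype.val (mul_comm' (⟨x, hx⟩ : A) ⟨y, hy⟩)
  refine le_antisymm ?_ (iSup_le fun _ => inf_le_left)
  set S : Subgroup G := ⨆ B₀ : {B₀ : Subgroup G // B₀ ≤ B ∧ ∀ [(B₀.subgroupOf B).Normal],
    IsCyclic (↥B ⧸ B₀.subgroupOf B)}, Y ⊓ Subgroup.centralizer (B : Set G) ⊓
      ⁅Y ⊓ Subgroup.centralizer ((B₀ : Subgroup G) : Set G), A⁆ with hSdef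
  have hS : ∀ B₀ : Subgroup G, B₀ ≤ B → (∀ [(B₀.subgroupOf B).Normal],
      IsCyclic (↥B ⧸ B₀.subgroupOf B)) →
      Y ⊓ Subgroup.centralizer (B : Set G) ⊓
        ⁅Y ⊓ Subgroup.centralizer (B₀ : Set G), A⁆ ≤ S := fun B₀ h1 h2 =>
    le_iSup (fun B₀ : {B₀ : Subgroup G // B₀ ≤ B ∧ ∀ [(B₀.subgroupOf B).Normal],
      IsCyclic (↥B ⧸ B₀.subgroupOf B)} => Y ⊓ Subgroup.centralizer (B : Set G) ⊓
      ⁅Y ⊓ Subgroup.centralizer ((B₀ : Subgroup G) : Set G), A⁆) ⟨B₀, h1, h2⟩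
  have h0 : ⁅Y, A⁆ ⊓ Subgroup.centralizer (A : Set G) ≤ S := by
    have h := fixed_le_aux A B Y hA2 hAc hB hYodd hAY S hS _ ⊥ rfl bot_le
    have hbot : Y ⊓ Subgroup.centralizer ((⊥ : Subgroup G) : Set G) = Y := by
      rw [inf_eq_left]
      exact fun y _ => Subgroup.mem_centralizer_iff.2 fun z hz => by
        rw [Subgroup.mem_bot.1 hz, one_mul, mul_one]
    rwa [hbot] at h
  have hAK : A ≤ Subgroup.normalizer ((Y ⊓ Subgroup.centralizer (B : Set G) : Subgroup G) : Set G) :=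
    Cfsg.Agent.Lib.Coprime.le_normalizer_inf_centralizer hAY
      (fun x hx => Subgroup.mem_normalizer_iff.2 fun y => by
        constructor
        · intro hy; rwa [(hcomm x hx y (hB hy)).eq, mul_inv_cancel_right]
        · intro hy
          have hxy : y = x * y * x⁻¹ := by
            have h1 := hcomm x⁻¹ (A.inv_mem hx) _ (hB hy)
            calc y = x⁻¹ * (x * y * x⁻¹) * x := by group
              _ = x * y * x⁻¹ * x⁻¹ * x := by rw [h1.eq]
              _ = x * y * x⁻¹ := by group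
          rw [hxy]; exact hy)
  have hKle := Cfsg.Agent.Lib.Coprime.commutator_le_of_le_normalizer hAK
  have hcop : (Nat.card A).Coprime (Nat.card
      (⁅Y ⊓ Subgroup.centralizer (B : Set G), A⁆ : Subgroup G)) := by
    obtain ⟨k, hk⟩ := hA2.exists_card_eq
    rw [hk]
    exact ((hYodd.of_dvd_nat (Subgroup.card_dvd_of_le
      (hKle.trans inf_le_left))).coprime_two_left).pow_left k
  intro x hx
  obtain ⟨d, hd, c, hc, rfl⟩ :=
    Cfsg.Agent.Lib.Coprime.mem_commutator_mul_centralizer hAK hcop (Or.inl inferInstance) hx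
  refine S.mul_mem (hS B le_rfl (fun {_} => ?_) ⟨hKle hd, hd⟩) (h0 ⟨?_, hc.2⟩)
  · haveI : Subsingleton (↥B ⧸ B.subgroupOf B) := by
      rw [Subgroup.subgroupOf_self]
      exact QuotientGroup.subsingleton_quotient_top
    exact isCyclic_of_subsingleton
  · rw [hYA]; exact hc.1.1

end Cfsg.Agent.S1329
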