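import Cfsg.Statements.S1330
import Mathlib
import Cfsg.Agent.Lib.CoreSeparated.Functor

set_option autoImplicit false
open Cfsg

namespace Cfsg.Agent.S1330

open Subgroup in
/-- Either half of a core-separated pair. -/
theorem side_of {G : Type*} [Group G] [Finite G] {P R : Subgroup G}
    (hP : Cfsg.IsElementaryAbelian 2 P) (hR : Cfsg.IsElementaryAbelian 2 R) (hc : Nat.card P = 4)
    (hcomm : ∀ x ∈ P, ∀ y ∈ R, x * y = y * x)
    (hsep : ∀ c ∈ P ⊔ R, c ≠ 1 → ∀ E : Subgroup ↥(centralizer ({c} : Set G)),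
      Cfsg.IsPComponent 2 E →
        ⁅E.map (centralizer ({c} : Set G)).subtype, P⁆ ≤ Cfsg.centralizerPPrimeCore 2 c ∨
        ⁅E.map (centralizer ({c} : Set G)).subtype, R⁆ ≤ Cfsg.centralizerPPrimeCore 2 c) :
    Cfsg.Agent.Lib.CoreSeparated.Side (P ⊔ R) P R := by
  have hn : P ≤ normalizer (R : Set G) := fun x hx => centralizer_le_normalizer (R : Set G)
    (mem_centralizer_iff.2 fun y hy => (hcomm x hx y hy).symm)
  have hdec : ∀ x ∈ P ⊔ R, ∃ p ∈ P, ∃ r ∈ R, x = p * r := by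
    intro x hx
    rw [← SetLike.mem_coe, coe_mul_of_left_le_normalizer_right _ _ hn] at hx
    obtain ⟨p, hp, r, hr, rfl⟩ := hx
    exact ⟨p, hp, r, hr, rfl⟩
  have hPc : ∀ x ∈ P, ∀ y ∈ P, Commute x y := fun x hx y hy =>
    have := hP.1
    congrArg Subtype.val (mul_comm' (⟨x, hx⟩ : P) ⟨y, hy⟩)
  have hRc : ∀ x ∈ R, ∀ y ∈ R, Commute x y := fun x hx y hy =>
    have := hR.1
    congrArg Subtype.val (mul_comm' (⟨x, hx⟩ : R) ⟨y, hy⟩)
  have hPR : ∀ x ∈ P, ∀ y ∈ R, Commute x y := hcomm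
  refine ⟨?_, ?_, le_sup_left, hc, hdec, fun c hcA hc1 E hE => ?_⟩
  · intro x hx y hy
    obtain ⟨p, hp, r, hr, rfl⟩ := hdec x hx
    obtain ⟨p', hp', r', hr', rfl⟩ := hdec y hy
    exact ((hPc p hp p' hp').mul_right (hPR p hp r' hr')).mul_left
      (((hPR p' hp' r hr).symm).mul_right (hRc r hr r' hr'))
  · intro x hx
    obtain ⟨p, hp, r, hr, rfl⟩ := hdec x hx
    rw [(hPR p hp r hr).symm.mul_mul_mul_comm, ← pow_two, ← pow_two, hP.2 p hp, hR.2 r hr, one_mul]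
  · refine (hsep c hcA hc1 E hE).imp (fun hh k hk u hu => ?_) fun hh k hk u hu => ?_ <;>
    · rw [← commutatorElement_def]
      exact hh (commutator_mem_commutator ⟨k, hk, rfl⟩ hu)


/-- Let A₁, A₂ be core-separated four-subgroups of the finite group G and A = A₁A₂. For a ∈ G put O_a = O(C_G(a)) and θ a = ⋂_{i=1,2} ( ⁅O_a, A_i⁆ · (O_a ∩ O(C_G(A_i))) ). Then θ is an A-signalizer functor for the prime 2. -/
theorem result {G : Type*} [Group G] [Finite G] (A₁ A₂ : Subgroup G) (hcs : Cfsg.IsCoreSeparated A₁ A₂) : Cfsg.IsSignalizerFunctor 2 (A₁ ⊔ A₂) (fun a => (⁅Cfsg.centralizerPPrimeCore 2 a, A₁⁆ ⊔ (Cfsg.centralizerPPrimeCore 2 a ⊓ ((Cfsg.oddCore ↥(Subgroup.centralizer ((A₁ : Subgroup G) : Set G))).map (Subgroup.centralizer ((A₁ : Subgroup G) : Set G)).subtype))) ⊓ (⁅Cfsg.centralizerPPrimeCore 2 a, A₂⁆ ⊔ (Cfsg.centralizerPPrimeCore 2 a ⊓ ((Cfsg.oddCore ↥(Subgroup.centralizer ((A₂ : Subgroup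 G) : Set G))).map (Subgroup.centralizer ((A₂ : Subgroup G) : Set G)).subtype)))) := by
  obtain ⟨hA₁, hA₂, hc₁, hc₂, -, -, hcomm, hsep⟩ := hcs
  have h1 := side_of hA₁ hA₂ hc₁ hcomm hsep
  have h2 := side_of (P := A₂) (R := A₁) hA₂ hA₁ hc₂ (fun x hx y hy => (hcomm y hy x hx).symm)
    (fun c hc hc1 E hE => (hsep c (sup_comm A₂ A₁ ▸ hc) hc1 E hE).symm)
  rw [sup_comm A₂ A₁] at h2
  refine ⟨fun a ha _ x hx => ?_, fun a ha _ hdvd => ?_, fun a ha _ b hb x hx => ?_,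
    fun a ha ha1 b hb hb1 x hx => ?_⟩
  · exact Cfsg.Agent.Lib.Components.centralizerPPrimeCore_le_centralizer a
      (h1.partTheta_le ha hx.1)
  · have hodd := (Cfsg.Agent.Lib.CoreSeparated.odd_core a).of_dvd_nat (Subgroup.card_dvd_of_le
      ((inf_le_left (b := Cfsg.Agent.Lib.CoreSeparated.partTheta A₂ a)).trans (h1.partTheta_le ha)))
    exact (Nat.not_even_iff_odd.2 hodd) (even_iff_two_dvd.2 hdvd)
  · exact ⟨(Subgroup.mem_normalizer_iff.1 (h1.le_normalizer_partTheta ha hb) x).1 hx.1,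
      (Subgroup.mem_normalizer_iff.1 (h2.le_normalizer_partTheta ha hb) x).1 hx.2⟩
  · exact ⟨h1.balance h2 ha ha1 hb hb1 hx.1.1 hx.1.2 hx.2,
      h2.balance h1 ha ha1 hb hb1 hx.1.2 hx.1.1 hx.2⟩

end Cfsg.Agent.S1330
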