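import Cfsg.Statements.S1331
import Mathlib
import Cfsg.Agent.Lib.Coprime.Cocyclic

set_option autoImplicit false
open Cfsg
open scoped Pointwise

namespace Cfsg.Agent.S1331

/-- Let θ be a solvable A-signalizer functor on the finite group G for the prime p, A elementary abelian of rank at least 3, X a member of the family of θ, and B ≤ A with |B| ≥ p². Then X is generated by the subgroups X ∩ ⋂_{d ∈ D, d ≠ 1} θ d, D ranging over the subgroups of index p in B. -/
theorem result {G : Type*} [Group G] [Finite G] (p : ℕ) [Fact p.Prime] (A : Subgroup G) (hA : Cfsg.IsElementaryAbelian p A) (hA3 : p ^ 3 ≤ Nat.card ↥A) (θ : G → Subgroup G) (hθ : Cfsg.IsSolvableSignalizerFunctor p A θ) (X : Subgroup G) (hX : X ∈ Cfsg.signalizerFamily p A θ) (B : Subgroup G) (hB : B ≤ A) (hB2 : p ^ 2 ≤ Nat.card ↥B) : X = ⨆ D : {D : Subgroup G // D ≤ B ∧ D.relIndex B = p}, X ⊓ Cfsg.signalizerInf (D : Subgroup G) θ := by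
  classical
  haveI := hA.1
  have hp : p.Prime := Fact.out
  obtain ⟨-, hXp, hXA, hXθ⟩ := hX
  have hBc : IsMulCommutative ↥B :=
    ⟨⟨fun a b => Subtype.ext
      (congrArg Subtype.val (hA.1.is_comm.comm (⟨a, hB a.2⟩ : A) ⟨b, hB b.2⟩) :)⟩⟩
  have hpg : IsPGroup p ↥B := fun a => ⟨1, Subtype.ext (by simpa using hA.2 (a : G) (hB a.2))⟩
  obtain ⟨k, hk⟩ := IsPGroup.iff_card.1 hpg
  have hk2 : 2 ≤ k := by
    rw [hk] at hB2
    exact (Nat.pow_le_pow_iff_right hp.one_lt).1 hB2
  have hBX : B ≤ Subgroup.normalizer (X : Set G) :=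
    Lib.Coprime.le_normalizer_of_conj_mem fun b hb x hx => hXA b (hB hb) x hx
  have hcop : (Nat.card ↥B).Coprime (Nat.card ↥X) := by
    rw [hk]
    exact (hp.coprime_iff_not_dvd.2 hXp).pow_left k
  refine le_antisymm (Lib.Coprime.le_of_cocyclic hBX hcop fun D hD g hg hDg => ?_)
    (iSup_le fun _ => inf_le_left)
  -- a hyperplane of `B` inside `D`
  have hnorm : D ≤ Subgroup.normalizer (Subgroup.zpowers g : Set G) := by
    refine le_trans ?_ (Subgroup.centralizer_le_normalizer _)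
    rw [Subgroup.le_centralizer_iff, Subgroup.zpowers_le, Subgroup.mem_centralizer_iff]
    intro b hb
    exact congrArg Subtype.val (hA.1.is_comm.comm (⟨b, hB (hD hb)⟩ : A) ⟨g, hB hg⟩)
  have h1 : Nat.card ↥B ≤ Nat.card ↥D * p := by
    have e : Nat.card ↥B = Nat.card ↥((D : Set G) * (Subgroup.zpowers g : Set G)) := by
      rw [← Subgroup.coe_mul_of_left_le_normalizer_right _ _ hnorm, hDg]
      rfl
    rw [e]
    refine Set.natCard_mul_le.trans (Nat.mul_le_mul_left _ ?_)
    show Nat.card ↥(Subgroup.zpowers g) ≤ p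
    rw [Nat.card_zpowers]
    exact Nat.le_of_dvd hp.pos (orderOf_dvd_of_pow_eq_one (hA.2 g (hB hg)))
  obtain ⟨D', hD'D, hD'card⟩ : ∃ D' : Subgroup G, D' ≤ D ∧ Nat.card ↥D' = p ^ (k - 1) := by
    obtain ⟨j, hj⟩ := IsPGroup.iff_card.1 (hpg.to_le hD)
    have hle : k - 1 ≤ j := by
      rw [hk, hj, ← pow_succ] at h1
      have := (Nat.pow_le_pow_iff_right hp.one_lt).1 h1
      omega
    obtain ⟨K, hK⟩ := Sylow.exists_subgroup_card_pow_prime p (G := ↥D) (n := k - 1)
      (hj ▸ pow_dvd_pow p hle)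
    exact ⟨K.map D.subtype, Subgroup.map_subtype_le K,
      (Subgroup.card_map_of_injective D.subtype_injective).trans hK⟩
  have hrel : D'.relIndex B = p := by
    have h2 : Nat.card ↥D' * D'.relIndex B = Nat.card ↥B := by
      rw [← Nat.card_congr (Subgroup.subgroupOfEquivOfLe (hD'D.trans hD)).toEquiv]
      exact Subgroup.card_mul_index _
    rw [hD'card, hk] at h2
    refine Nat.eq_of_mul_eq_mul_left (pow_pos hp.pos (k - 1)) (h2.trans ?_)
    rw [← pow_succ]
    congr 1
    omega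
  refine le_iSup_of_le
    (⟨D', hD'D.trans hD, hrel⟩ : {D : Subgroup G // D ≤ B ∧ D.relIndex B = p})
    (le_inf inf_le_left (le_iInf fun a => ?_))
  refine le_trans ?_ (hXθ a.1 (hB (hD (hD'D a.2.1))) a.2.2)
  exact inf_le_inf_left X
    (Subgroup.centralizer_le (Set.singleton_subset_iff.2 (hD'D a.2.1)))

end Cfsg.Agent.S1331
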