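import Cfsg.Statements.S1335
import Mathlib

set_option autoImplicit false
open Cfsg

namespace Cfsg.Agent.S1335

/-- Let H be a subgroup of the finite group G, p a prime, k ≥ 1, P a Sylow p-subgroup of H of p-rank at least k, and suppose N_G(X) ≤ H for every subgroup X ≤ P of p-rank at least k. Then P is a Sylow p-subgroup of G. -/
theorem result {G : Type*} [Group G] [Finite G] {p : ℕ} [Fact p.Prime] (k : ℕ) (hk : 1 ≤ k) (H : Subgroup G) (P : Sylow p ↥H) (hP : ¬ Cfsg.PRankLE p (k - 1) ↥(P : Subgroup ↥H)) (hΓ : (∀ X : Subgroup G, X ≤ (P : Subgroup ↥H).map H.subtype → ¬ Cfsg.PRankLE p (k - 1) ↥X → Subgroup.normalizer (X : Set G) ≤ H)) : ∃ Q : Sylow p G, (Q : Subgroup G) = (P : Subgroup ↥H).map H.subtype := by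
  set PG : Subgroup G := (P : Subgroup ↥H).map H.subtype with hPG
  have hcard : Nat.card ↥PG = Nat.card ↥(P : Subgroup ↥H) :=
    Nat.card_congr ((Subgroup.equivMapOfInjective _ H.subtype H.subtype_injective).toEquiv).symm
  have hrk : ¬ Cfsg.PRankLE p (k - 1) ↥PG := by
    intro h
    apply hP
    intro A hA hAp
    let e := Subgroup.equivMapOfInjective (P : Subgroup ↥H) H.subtype H.subtype_injective
    have := h (A.map e.toMonoidHom) inferInstance (by
      rintro _ ⟨a, ha, rfl⟩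
      rw [← map_pow, hAp a ha, map_one])
    rwa [← Nat.card_congr (A.equivMapOfInjective e.toMonoidHom e.injective).toEquiv] at this
  have hN : Subgroup.normalizer (PG : Set G) ≤ H := hΓ PG le_rfl hrk
  have hpg : IsPGroup p ↥PG := P.isPGroup'.map H.subtype
  obtain ⟨Q, hQ⟩ := hpg.exists_le_sylow
  refine ⟨Q, ?_⟩
  by_contra hne
  have hlt : PG < Q := lt_of_le_of_ne hQ (Ne.symm hne)
  haveI : Group.IsNilpotent ↥(Q : Subgroup G) := Q.isPGroup'.isNilpotent
  have hnc := Group.normalizerCondition_of_isNilpotent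
    (G := ↥(Q : Subgroup G)) (PG.subgroupOf Q)
    (lt_top_iff_ne_top.2 (fun h => not_le_of_gt hlt (Subgroup.subgroupOf_eq_top.1 h)))
  obtain ⟨g, hgN, hg⟩ := SetLike.exists_of_lt hnc
  have hgn : (g : G) ∈ Subgroup.normalizer (PG : Set G) := by
    rw [Subgroup.mem_normalizer_iff] at hgN ⊢
    intro x
    constructor
    · intro hx
      exact (hgN ⟨x, hQ hx⟩).1 hx
    · intro hx
      have hxQ : x ∈ (Q : Subgroup G) := by
        have : (g : G)⁻¹ * ((g : G) * x * (g : G)⁻¹) * g ∈ (Q : Subgroup G) :=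
          mul_mem (mul_mem (inv_mem g.2) (hQ hx)) g.2
        simpa [mul_assoc] using this
      exact (hgN ⟨x, hxQ⟩).2 hx
  have hle : PG.subgroupOf H = (P : Subgroup ↥H) :=
    Subgroup.comap_map_eq_self_of_injective H.subtype_injective _
  have hsub : ((Q : Subgroup G) ⊓ H).subgroupOf H = (P : Subgroup ↥H) := by
    refine P.is_maximal' ?_ (fun x hx => ⟨hQ ⟨x, hx, rfl⟩, x.2⟩)
    exact (Q.isPGroup'.to_le inf_le_left).comap_of_injective _ H.subtype_injective
  apply hg
  have h1 : (⟨(g : G), hN hgn⟩ : ↥H) ∈ ((Q : Subgroup G) ⊓ H).subgroupOf H := ⟨g.2, hN hgn⟩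
  rw [hsub] at h1
  exact ⟨⟨(g : G), hN hgn⟩, h1, rfl⟩

end Cfsg.Agent.S1335
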