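import Cfsg.Statements.S1336
import Mathlib
import Cfsg.Agent.Lib.PGroup.NormalElem

set_option autoImplicit false
open Cfsg

namespace Cfsg.Agent.S1336

open Subgroup

variable {G : Type*} [Group G]

/-- The commuting relation on nontrivial elementary abelian `p`-subgroups. -/
def Rel (p : ℕ) (A B : Subgroup G) : Prop :=
  Cfsg.IsElementaryAbelian p A ∧ p ^ 1 ≤ Nat.card ↥A ∧ Cfsg.IsElementaryAbelian p B ∧
    p ^ 1 ≤ Nat.card ↥B ∧ ∀ a ∈ A, ∀ b ∈ B, a * b = b * a

theorem rel_symm {p : ℕ} {A B : Subgroup G} (h : Rel p A B) : Rel p B A :=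
  ⟨h.2.2.1, h.2.2.2.1, h.1, h.2.1, fun b hb a ha => (h.2.2.2.2 a ha b hb).symm⟩

theorem chain_symm {p : ℕ} {A B : Subgroup G} (h : Relation.ReflTransGen (Rel p) A B) :
    Relation.ReflTransGen (Rel p) B A := by
  induction h with
  | refl => exact Relation.ReflTransGen.refl
  | tail _ hbc ih => exact Relation.ReflTransGen.head (rel_symm hbc) ih

theorem chain_conj {p : ℕ} (g : G) {A B : Subgroup G} (h : Relation.ReflTransGen (Rel p) A B) :
    Relation.ReflTransGen (Rel p) (A.map (MulAut.conj g).toMonoidHom)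
      (B.map (MulAut.conj g).toMonoidHom) := by
  induction h with
  | refl => exact Relation.ReflTransGen.refl
  | tail _ hbc ih =>
    refine ih.tail ⟨Lib.ElemAbelian.map hbc.1 _, ?_, Lib.ElemAbelian.map hbc.2.2.1 _, ?_, ?_⟩
    · rw [card_map_of_injective (MulAut.conj g).injective]; exact hbc.2.1
    · rw [card_map_of_injective (MulAut.conj g).injective]; exact hbc.2.2.2.1
    · rintro _ ⟨a, ha, rfl⟩ _ ⟨b, hb, rfl⟩
      rw [← map_mul, ← map_mul, hbc.2.2.2.2 a ha b hb]

theorem map_conj_map_conj (a b : G) (A : Subgroup G) :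
    (A.map (MulAut.conj b).toMonoidHom).map (MulAut.conj a).toMonoidHom =
      A.map (MulAut.conj (a * b)).toMonoidHom := by
  rw [Subgroup.map_map]
  congr 1
  ext x
  simp [mul_assoc]


/-- Let G be finite and p prime. Then G has a proper subgroup H with p ∣ |H| and p ∤ |H ∩ gHg⁻¹| for every g ∉ H (a strongly p-embedded subgroup) if and only if G is not 1-connected for p. -/
theorem result {G : Type*} [Group G] [Finite G] (p : ℕ) [Fact p.Prime] : (∃ H : Subgroup G, H ≠ ⊤ ∧ p ∣ Nat.card ↥H ∧ ∀ g : G, g ∉ H → ¬ p ∣ Nat.card ↥(H ⊓ H.map (MulAut.conj g).toMonoidHom)) ↔ ¬ Cfsg.IsKConnected p 1 G := by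
  classical
  have hp : p.Prime := Fact.out
  have hvert : ∀ x : G, orderOf x = p → Cfsg.IsElementaryAbelian p (Subgroup.zpowers x) ∧
      p ^ 1 ≤ Nat.card ↥(Subgroup.zpowers x) := fun x hx =>
    ⟨Lib.ElemAbelian.zpowers (hx ▸ pow_orderOf_eq_one x), by rw [Nat.card_zpowers, hx, pow_one]⟩
  have hne : ∀ E : Subgroup G, Cfsg.IsElementaryAbelian p E → p ^ 1 ≤ Nat.card ↥E →
      ∃ x ∈ E, orderOf x = p := by
    intro E hE hc
    obtain ⟨x, hx, hx1⟩ := E.bot_or_exists_ne_one.resolve_left fun h => by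
      rw [h, Subgroup.card_bot, pow_one] at hc
      exact absurd hc (not_le.2 hp.one_lt)
    exact ⟨x, hx, Lib.ElemAbelian.orderOf_eq hE hx hx1⟩
  constructor
  · rintro ⟨H, hHtop, hpH, hH⟩ hcon
    have hclosed : ∀ A B : Subgroup G, Rel p A B → A ≤ H → B ≤ H := by
      intro A B hAB hA b hb
      by_contra hbH
      obtain ⟨x, hx, hxo⟩ := hne A hAB.1 hAB.2.1
      refine hH b hbH (hxo ▸ ?_)
      refine Subgroup.orderOf_dvd_natCard _ ⟨hA hx, x, hA hx, ?_⟩
      simp only [MulEquiv.coe_toMonoidHom, MulAut.conj_apply]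
      rw [← hAB.2.2.2.2 x hx b hb, mul_inv_cancel_right]
    obtain ⟨x, hx⟩ := exists_prime_orderOf_dvd_card' p hpH
    have hxo : orderOf (x : G) = p := by rw [Subgroup.orderOf_coe]; exact hx
    obtain ⟨g, hg⟩ : ∃ g : G, g ∉ H := by
      by_contra hall
      push Not at hall
      exact hHtop (Subgroup.eq_top_iff' H |>.2 hall)
    have hyo : orderOf (g * (x : G) * g⁻¹) = p := by
      rw [← MulAut.conj_apply, MulEquiv.orderOf_eq, hxo]
    have hchain : ∀ B, Relation.ReflTransGen (Rel p) (Subgroup.zpowers (x : G)) B → B ≤ H := by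
      intro B hB
      induction hB with
      | refl => exact Subgroup.zpowers_le.2 x.2
      | tail _ hbc ih => exact hclosed _ _ hbc ih
    have := hchain _ (hcon _ _ (hvert _ hxo).1 (hvert _ hxo).2 (hvert _ hyo).1 (hvert _ hyo).2)
      (Subgroup.mem_zpowers _)
    refine hg ?_
    by_contra hgH
    refine hH g hgH (hyo ▸ Subgroup.orderOf_dvd_natCard _ ⟨this, x, x.2, rfl⟩)
  · intro hcon
    simp only [Cfsg.IsKConnected] at hcon
    push Not at hcon
    obtain ⟨E, E', hE, hEc, hE', hEc', hnot⟩ := hcon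
    let c : G → Subgroup G → Subgroup G := fun g A => A.map (MulAut.conj g).toMonoidHom
    have hc1 : ∀ A : Subgroup G, c 1 A = A := by
      intro A
      simp only [c]
      convert Subgroup.map_id A
      ext x
      simp
    let H : Subgroup G :=
      { carrier := {g | Relation.ReflTransGen (Rel p) E (c g E)}
        one_mem' := by
          show Relation.ReflTransGen (Rel p) E (c 1 E)
          rw [hc1]
        mul_mem' := fun {a b} ha hb => by
          show Relation.ReflTransGen (Rel p) E (c (a * b) E)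
          have := chain_conj a hb
          simp only [c, map_conj_map_conj] at this ⊢
          exact Relation.ReflTransGen.trans ha this
        inv_mem' := fun {a} ha => by
          show Relation.ReflTransGen (Rel p) E (c a⁻¹ E)
          have := chain_symm (chain_conj a⁻¹ ha)
          simp only [c, map_conj_map_conj, inv_mul_cancel] at this ⊢
          simp only [c] at hc1
          rwa [hc1] at this }
    obtain ⟨x, hxE, hxo⟩ := hne E hE hEc
    obtain ⟨P, hP⟩ := (Lib.ElemAbelian.isPGroup hE).exists_le_sylow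
    -- a central element of order `p` of `P`
    obtain ⟨z, hzP, hzo, hzc⟩ : ∃ z ∈ (P : Subgroup G), orderOf z = p ∧
        ∀ y ∈ (P : Subgroup G), y * z = z * y := by
      have hP1 : Nontrivial ↥(P : Subgroup G) := ⟨⟨⟨x, hP hxE⟩, 1, fun h => by
        rw [show x = 1 from congrArg Subtype.val h, orderOf_one] at hxo
        exact hp.one_lt.ne hxo⟩⟩
      haveI := P.isPGroup'.center_nontrivial
      obtain ⟨n, hn0, hn⟩ := (P.isPGroup'.to_subgroup (Subgroup.center ↥(P : Subgroup G))).nontrivial_iff_card.1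
        inferInstance
      obtain ⟨w, hw⟩ := exists_prime_orderOf_dvd_card' p (G := Subgroup.center ↥(P : Subgroup G))
        (hn ▸ dvd_pow_self p hn0.ne')
      exact ⟨((w : ↥(P : Subgroup G)) : G), (w : ↥(P : Subgroup G)).2,
        by rw [Subgroup.orderOf_coe, Subgroup.orderOf_coe]; exact hw,
        fun y hy => congrArg Subtype.val (Subgroup.mem_center_iff.1 w.2 ⟨y, hy⟩)⟩
    have hEz : ∀ A : Subgroup G, Cfsg.IsElementaryAbelian p A → p ^ 1 ≤ Nat.card ↥A →
        A ≤ (P : Subgroup G) → Rel p A (Subgroup.zpowers z) := by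
      intro A hA hAc hAP
      refine ⟨hA, hAc, (hvert z hzo).1, (hvert z hzo).2, ?_⟩
      rintro a ha _ ⟨k, rfl⟩
      exact (Commute.zpow_right (hzc a (hAP ha)) k).eq
    have hPH : (P : Subgroup G) ≤ H := by
      intro y hy
      show Relation.ReflTransGen (Rel p) E (c y E)
      refine (Relation.ReflTransGen.single (hEz E hE hEc hP)).tail (rel_symm (hEz _
        (Lib.ElemAbelian.map hE _) ?_ ?_))
      · show p ^ 1 ≤ Nat.card ↥(c y E)
        simp only [c]
        rw [Subgroup.card_map_of_injective (MulAut.conj y).injective]; exact hEc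
      · rintro _ ⟨e, he, rfl⟩
        exact mul_mem (mul_mem hy (hP he)) (inv_mem hy)
    have hto : ∀ F : Subgroup G, Cfsg.IsElementaryAbelian p F → p ^ 1 ≤ Nat.card ↥F →
        ∀ g : G, c g F ≤ (P : Subgroup G) → Relation.ReflTransGen (Rel p) (c g⁻¹ E) F := by
      intro F hF hFc g hg
      have h := (Relation.ReflTransGen.single (hEz E hE hEc hP)).tail (rel_symm (hEz (c g F)
        (Lib.ElemAbelian.map hF _) (by
          simp only [c]; rw [Subgroup.card_map_of_injective (MulAut.conj g).injective]; exact hFc) hg))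
      have := chain_conj g⁻¹ h
      simp only [c, map_conj_map_conj, inv_mul_cancel] at this hc1 ⊢
      rwa [hc1] at this
    have hordH : ∀ y ∈ H, orderOf y = p → Relation.ReflTransGen (Rel p) E (Subgroup.zpowers y) := by
      intro y hy hyo
      have hyp : IsPGroup p ↥(Subgroup.zpowers (⟨y, hy⟩ : ↥H)) := by
        refine IsPGroup.of_card (n := 1) ?_
        rw [Nat.card_zpowers, Subgroup.orderOf_mk, hyo, pow_one]
      obtain ⟨R, hR⟩ := hyp.exists_le_sylow
      obtain ⟨h, hh⟩ := MulAction.exists_smul_eq ↥H R (P.subtype hPH)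
      have hmem : h * ⟨y, hy⟩ * h⁻¹ ∈ ((P.subtype hPH : Sylow p ↥H) : Subgroup ↥H) := by
        rw [← hh, Sylow.coe_subgroup_smul]
        exact Subgroup.mem_smul_pointwise_iff_exists _ _ _ |>.2
          ⟨⟨y, hy⟩, hR (Subgroup.mem_zpowers _), rfl⟩
      refine Relation.ReflTransGen.trans (b := c (h : G)⁻¹ E) (inv_mem h.2 : (h : G)⁻¹ ∈ H)
        (hto _ (hvert y hyo).1 (hvert y hyo).2 (h : G) ?_)
      simp only [c, MonoidHom.map_zpowers, Subgroup.zpowers_le]
      exact hmem
    refine ⟨H, fun htop => hnot ?_, ?_, fun g hg hdvd => hg ?_⟩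
    · obtain ⟨Q, hQ⟩ := (Lib.ElemAbelian.isPGroup hE').exists_le_sylow
      obtain ⟨g, hg⟩ := MulAction.exists_smul_eq G Q P
      refine Relation.ReflTransGen.trans (b := c g⁻¹ E) (htop.ge (Subgroup.mem_top g⁻¹))
        (hto E' hE' hEc' g ?_)
      rintro _ ⟨e, he, rfl⟩
      rw [← hg]
      exact Subgroup.smul_mem_pointwise_smul _ _ _ (hQ he)
    · rw [← hxo]
      exact Subgroup.orderOf_dvd_natCard _ (hPH (hP hxE))
    · obtain ⟨w, hw⟩ := exists_prime_orderOf_dvd_card' p hdvd
      have hwo : orderOf (w : G) = p := by rw [Subgroup.orderOf_coe]; exact hw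
      obtain ⟨hwH, u, huH, hu⟩ := w.2
      have huo : orderOf u = p := by
        rw [← hwo, ← hu, MulEquiv.coe_toMonoidHom, MulEquiv.orderOf_eq]
      show Relation.ReflTransGen (Rel p) E (c g E)
      refine (hordH w hwH hwo).trans (chain_symm ?_)
      have h3 := chain_conj g (hordH u huH huo)
      rw [MonoidHom.map_zpowers] at h3
      rw [← hu]
      exact h3

end Cfsg.Agent.S1336
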