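import Cfsg.Statements.S1337
import Mathlib
import Cfsg.Agent.Lib.PGroup.NormalRankFour

set_option autoImplicit false
open Cfsg

namespace Cfsg.Agent.S1337

open Subgroup

/-- Transporting an elementary abelian subgroup of a subgroup to the ambient group, and rank. -/
theorem rank_iff {P : Type*} [Group P] [Finite P] (p k : ℕ) (H : Subgroup P) :
    ¬ Cfsg.PRankLE p k ↥H ↔ ∃ A : Subgroup P, A ≤ H ∧ Cfsg.IsElementaryAbelian p A ∧ p ^ k < Nat.card A := by
  constructor
  · intro h
    obtain ⟨A, hA, hc⟩ := Lib.NormalElem.exists_elem_of_not_pRankLE h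
    exact ⟨A.map H.subtype, map_subtype_le A, Lib.ElemAbelian.map hA _,
      by rwa [card_map_of_injective H.subtype_injective]⟩
  · rintro ⟨A, hAH, hA, hc⟩ h
    have h2 := Lib.ElemAbelian.subgroupOf hA H
    have := h (A.subgroupOf H) h2.1 h2.2
    rw [Nat.card_congr (subgroupOfEquivOfLe hAH).toEquiv] at this
    omega


/-- Let P be a finite p-group of p-rank greater than 2. Then P has a normal elementary abelian subgroup U of order p², and for every elementary abelian X ≤ P with |X| ≥ p²: X is joined to U by a chain of pairwise commuting elementary abelian subgroups of order ≥ p² if and only if C_P(X) has p-rank greater than 2. -/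
theorem result {P : Type*} [Group P] [Finite P] (p : ℕ) [Fact p.Prime] (hP : IsPGroup p P) (hrk : ¬ Cfsg.PRankLE p 2 P) : ∃ U : Subgroup P, U.Normal ∧ Cfsg.IsElementaryAbelian p U ∧ Nat.card ↥U = p ^ 2 ∧ ∀ X : Subgroup P, Cfsg.IsElementaryAbelian p X → p ^ 2 ≤ Nat.card ↥X → (Relation.ReflTransGen (fun A B : Subgroup P => Cfsg.IsElementaryAbelian p A ∧ p ^ 2 ≤ Nat.card ↥A ∧ Cfsg.IsElementaryAbelian p B ∧ p ^ 2 ≤ Nat.card ↥B ∧ ∀ a ∈ A, ∀ b ∈ B, a * b = b * a) X U ↔ ¬ Cfsg.PRankLE p 2 ↥(Subgroup.centralizer (X : Set P))) := by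
  classical
  have hp : p.Prime := Fact.out
  obtain ⟨E, hE, hEc⟩ := Lib.NormalElem.exists_elem_of_not_pRankLE hrk
  obtain ⟨U, hUn, hU, hUc⟩ := Lib.NormalElem.exists_normal_card_sq hP hE hEc
  refine ⟨U, hUn, hU, hUc, fun X hX hXc => ?_⟩
  -- centralizer of `U` in a large elementary abelian subgroup
  have hCE : ∀ F : Subgroup P, Cfsg.IsElementaryAbelian p F → p ^ 2 < Nat.card F →
      p ^ 2 ≤ Nat.card ↥(F ⊓ Subgroup.centralizer (U : Set P)) := by
    intro F hF hFc
    have hidx : (Subgroup.centralizer (U : Set P)).index ≤ p := by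
      refine (Lib.PLemmas.index_centralizer_le hP U hUc).trans ?_
      simp [Nat.choose]
    obtain ⟨w, hw⟩ := IsPGroup.iff_card.1 (hP.to_subgroup (F ⊓ Subgroup.centralizer (U : Set P)))
    have h1 : Nat.card F ≤ p ^ w * p := by
      rw [← hw, ← Lib.PSolvable.card_mul_relIndex
        (inf_le_left : F ⊓ Subgroup.centralizer (U : Set P) ≤ F), Subgroup.inf_relIndex_left]
      exact Nat.mul_le_mul_left _ ((Nat.le_of_dvd (Nat.pos_of_ne_zero Subgroup.index_ne_zero_of_finite)
        (Subgroup.relIndex_dvd_index_of_normal _ _)).trans hidx)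
    rw [hw]
    rw [← pow_succ] at h1
    have := (Nat.pow_lt_pow_iff_right hp.one_lt).1 (hFc.trans_le h1)
    exact Nat.pow_le_pow_right hp.pos (by omega)
  constructor
  · intro h
    suffices key : ∀ Y : Subgroup P,
        Relation.ReflTransGen (fun A B : Subgroup P => Cfsg.IsElementaryAbelian p A ∧
          p ^ 2 ≤ Nat.card ↥A ∧ Cfsg.IsElementaryAbelian p B ∧ p ^ 2 ≤ Nat.card ↥B ∧
          ∀ a ∈ A, ∀ b ∈ B, a * b = b * a) Y U →
        ¬ Cfsg.PRankLE p 2 ↥(Subgroup.centralizer (Y : Set P)) from key X h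
    intro Y hY
    clear h hX hXc X
    induction hY using Relation.ReflTransGen.head_induction_on with
    | refl =>
      rw [rank_iff]
      have h2 := hCE E hE hEc
      by_cases hle : E ⊓ Subgroup.centralizer (U : Set P) ≤ U
      · have heq : E ⊓ Subgroup.centralizer (U : Set P) = U :=
          Subgroup.eq_of_le_of_card_ge hle (hUc ▸ h2)
        refine ⟨E, fun x hx => ?_, hE, hEc⟩
        rw [Subgroup.mem_centralizer_iff]
        intro u hu
        exact Lib.ElemAbelian.comm hE (heq.ge hu).1 hx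
      · refine ⟨U ⊔ (E ⊓ Subgroup.centralizer (U : Set P)), sup_le ?_ inf_le_right,
          Lib.ElemAbelian.sup hU (Lib.ElemAbelian.mono hE inf_le_left)
            (Subgroup.le_centralizer_iff.1 inf_le_right), ?_⟩
        · exact Lib.ElemAbelian.le_centralizer hU
        · rw [← hUc]
          refine lt_of_le_of_ne (Subgroup.card_le_of_le le_sup_left) fun h => hle ?_
          exact le_sup_right.trans (Subgroup.eq_of_le_of_card_ge
            (le_sup_left : U ≤ U ⊔ (E ⊓ Subgroup.centralizer (U : Set P))) h.ge).ge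
    | @head A B hAB _ ih =>
      obtain ⟨hA, hAc, hB, hBc, hcomm⟩ := hAB
      by_cases heq : A = B
      · rw [heq]
        exact ih
      rw [rank_iff]
      have hcen : A ≤ Subgroup.centralizer (B : Set P) := fun a ha =>
        Subgroup.mem_centralizer_iff.2 fun b hb => (hcomm a ha b hb).symm
      refine ⟨A ⊔ B, sup_le (Lib.ElemAbelian.le_centralizer hA) (Subgroup.le_centralizer_iff.1 hcen),
        Lib.ElemAbelian.sup hA hB hcen, ?_⟩
      by_contra hle
      push Not at hle
      exact heq ((Subgroup.eq_of_le_of_card_ge (le_sup_left : A ≤ A ⊔ B) (hle.trans hAc)).trans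
        (Subgroup.eq_of_le_of_card_ge (le_sup_right : B ≤ A ⊔ B) (hle.trans hBc)).symm)
  · intro h
    obtain ⟨F, hFle, hF, hFc⟩ := (rank_iff p 2 _).1 h
    have hDc := hCE F hF hFc
    have hD : Cfsg.IsElementaryAbelian p (F ⊓ Subgroup.centralizer (U : Set P)) :=
      Lib.ElemAbelian.mono hF inf_le_left
    refine (((Relation.ReflTransGen.single ?_).tail (b := F) (c := F ⊓ Subgroup.centralizer (U : Set P))
      ⟨hF, hFc.le, hD, hDc, fun a ha b hb => Lib.ElemAbelian.comm hF ha hb.1⟩).tail
      ⟨hD, hDc, hU, hUc.ge, fun a ha b hb => (Subgroup.mem_centralizer_iff.1 ha.2 b hb).symm⟩)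
    exact ⟨hX, hXc, hF, hFc.le, fun a ha b hb => Subgroup.mem_centralizer_iff.1 (hFle hb) a ha⟩

end Cfsg.Agent.S1337
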