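import Cfsg.Statements.S1338
import Mathlib
import Cfsg.Agent.Lib.PGroup.NormalRankFour
import Cfsg.Agent.Lib.Coprime.Basic

set_option autoImplicit false
open Cfsg

namespace Cfsg.Agent.S1338

open Subgroup

variable {P : Type*} [Group P] [Finite P]

/-- For `x` of order 3 acting on a normal elementary abelian 3-group `A` of order at least 81,
`C_A(x)` has order at least 9. -/
theorem nine_le_centralizer (hP : IsPGroup 3 P) {A : Subgroup P} [A.Normal]
    (hA : Cfsg.IsElementaryAbelian 3 A) (hA81 : 3 ^ 4 ≤ Nat.card A) {x : P} (hx : x ^ 3 = 1) :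
    3 ^ 2 ≤ Nat.card ↥(A ⊓ centralizer ({x} : Set P)) := by
  haveI := Fact.mk Nat.prime_three
  haveI := hA.1
  open scoped IsMulCommutative in
  let σ : ↥A →* ↥A :=
    { toFun := fun a => MulAut.conjNormal x a * a⁻¹
      map_one' := by simp
      map_mul' := fun a b => by
        simp only [map_mul, mul_inv_rev]
        rw [mul_comm (b⁻¹), mul_mul_mul_comm] }
  have hσ : ∀ a : ↥A, (σ a : P) = x * a * x⁻¹ * (a : P)⁻¹ := fun a => by
    simp [σ, MulAut.conjNormal_apply]
  have hker : σ.ker.map A.subtype = A ⊓ centralizer ({x} : Set P) := by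
    ext a
    constructor
    · rintro ⟨a, ha, rfl⟩
      refine ⟨a.2, mem_centralizer_singleton_iff.2 ?_⟩
      have h1 := congrArg Subtype.val (MonoidHom.mem_ker.1 ha)
      rw [hσ] at h1
      calc (a : P) * x = 1 * a * x := by rw [one_mul]
        _ = x * a * x⁻¹ * (a : P)⁻¹ * a * x := by rw [← Subgroup.coe_one A, ← h1]
        _ = x * a := by group
    · rintro ⟨ha, hc⟩
      refine ⟨⟨a, ha⟩, MonoidHom.mem_ker.2 (Subtype.ext ?_), rfl⟩
      rw [hσ]
      show x * a * x⁻¹ * a⁻¹ = 1
      rw [← mem_centralizer_singleton_iff.1 hc]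
      group
  rw [← hker, card_map_of_injective A.subtype_injective]
  have hx3 : ∀ a : P, x * (x * (x * a * x⁻¹) * x⁻¹) * x⁻¹ = a := fun a => by
    calc x * (x * (x * a * x⁻¹) * x⁻¹) * x⁻¹ = x ^ 3 * a * (x ^ 3)⁻¹ := by simp [pow_succ, mul_assoc]
      _ = a := by rw [hx]; group
  have hσ3 : ∀ a, σ (σ (σ a)) = 1 := by
    intro a
    open scoped IsMulCommutative in
    have key : σ (σ (σ a)) = 1 := by
      have hc3 : MulAut.conjNormal (H := A) x (MulAut.conjNormal x (MulAut.conjNormal x a)) = a :=
        Subtype.ext (by simp only [MulAut.conjNormal_apply]; exact hx3 a)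
      have h3 : ∀ u : ↥A, u * u * u = 1 := fun u => Subtype.ext (by
        have := hA.2 u u.2
        simpa [pow_succ, mul_assoc] using this)
      simp only [σ, MonoidHom.coe_mk, OneHom.coe_mk, map_mul, map_inv, mul_inv_rev, inv_inv, hc3]
      generalize MulAut.conjNormal (H := A) x (MulAut.conjNormal x a) = c
      generalize MulAut.conjNormal (H := A) x a = b
      calc _ = (a * a⁻¹) * ((c * c * c)⁻¹ * (b * b * b)) := by
            simp only [mul_inv_rev]
            simp only [mul_comm, mul_left_comm, mul_assoc]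
        _ = 1 := by rw [h3, h3]; simp
    exact key
  have hstep : ∀ H : Subgroup ↥A, Nat.card H ≤ Nat.card σ.ker * Nat.card (H.map σ) := by
    intro H
    have h := (σ.comp H.subtype).ker.card_mul_index
    rw [index_ker, MonoidHom.range_comp, range_subtype] at h
    rw [← h]
    refine Nat.mul_le_mul_right _ ?_
    exact Nat.card_le_card_of_injective
      (fun e : (σ.comp H.subtype).ker => (⟨(e : H), e.2⟩ : σ.ker))
      (fun e₁ e₂ h => Subtype.ext (Subtype.ext (congrArg Subtype.val h :)))
  have h1 := hstep ⊤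
  rw [card_top] at h1
  have h2 := hstep ((⊤ : Subgroup ↥A).map σ)
  have h3 : Nat.card (((⊤ : Subgroup ↥A).map σ).map σ) ≤ Nat.card σ.ker := by
    refine card_le_of_le ?_
    rintro _ ⟨_, ⟨a, -, rfl⟩, rfl⟩
    exact MonoidHom.mem_ker.2 (hσ3 a)
  obtain ⟨k, hk⟩ : ∃ k, Nat.card σ.ker = 3 ^ k := IsPGroup.iff_card.1 ((hP.to_subgroup A).to_subgroup _)
  have h4 : 3 ^ 4 ≤ 3 ^ (k + (k + k)) := by
    rw [pow_add, pow_add, ← hk]
    exact hA81.trans (h1.trans (Nat.mul_le_mul_left _ (h2.trans (Nat.mul_le_mul_left _ h3))))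
  have := (Nat.pow_le_pow_iff_right (by omega)).1 h4
  rw [hk]
  exact Nat.pow_le_pow_right (by omega) (by omega)


/-- A finite 3-group of 3-rank at least 4 is 2-connected for the prime 3: its commuting graph on elementary abelian subgroups of order ≥ 9 is connected. -/
theorem result {P : Type*} [Group P] [Finite P] (hP : IsPGroup 3 P) (hrk : ¬ Cfsg.PRankLE 3 3 P) : Cfsg.IsKConnected 3 2 P := by
  classical
  haveI := Fact.mk Nat.prime_three
  obtain ⟨E₀, hE₀, hE₀c⟩ := Lib.NormalElem.exists_elem_of_not_pRankLE hrk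
  obtain ⟨A, hAn, hA, hA81⟩ := Lib.NormalRankFour.exists_normal_elem_ge hP hE₀ hE₀c
  have hA9 : 3 ^ 2 ≤ Nat.card A := le_trans (by norm_num) hA81
  set R := fun A B : Subgroup P => Cfsg.IsElementaryAbelian 3 A ∧ 3 ^ 2 ≤ Nat.card ↥A ∧
    Cfsg.IsElementaryAbelian 3 B ∧ 3 ^ 2 ≤ Nat.card ↥B ∧ ∀ a ∈ A, ∀ b ∈ B, a * b = b * a with hR
  have hsymm : ∀ {U V : Subgroup P}, Relation.ReflTransGen R U V → Relation.ReflTransGen R V U := by
    intro U V h
    induction h with
    | refl => exact Relation.ReflTransGen.refl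
    | tail _ hbc ih =>
      obtain ⟨h1, h2, h3, h4, h5⟩ := hbc
      exact Relation.ReflTransGen.head ⟨h3, h4, h1, h2, fun a ha b hb => (h5 b hb a ha).symm⟩ ih
  have hsub : ∀ {U V : Subgroup P}, Cfsg.IsElementaryAbelian 3 V → 3 ^ 2 ≤ Nat.card U → U ≤ V →
      Relation.ReflTransGen R V U := fun {U V} hV hU hle =>
    Relation.ReflTransGen.single ⟨hV, hU.trans (Subgroup.card_le_of_le hle),
      Lib.ElemAbelian.mono hV hle, hU, fun a ha b hb => Lib.ElemAbelian.comm hV ha (hle hb)⟩
  -- a subgroup containing an element of `A` and commuting structure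
  have hmeet : ∀ x w : P, x ^ 3 = 1 → w ∈ A → x * w = w * x →
      ∀ T : Subgroup P, Cfsg.IsElementaryAbelian 3 T → 3 ^ 2 ≤ Nat.card T →
      T = Subgroup.closure {x, w} → Relation.ReflTransGen R T A := by
    intro x w hx hw hxw T hT hTc hTeq
    have h9 := nine_le_centralizer hP hA hA81 hx
    refine Relation.ReflTransGen.trans (Relation.ReflTransGen.single
      (b := A ⊓ Subgroup.centralizer ({x} : Set P))
      ⟨hT, hTc, Lib.ElemAbelian.mono hA inf_le_left, h9, fun a ha b hb => ?_⟩)
      (hsymm (hsub hA h9 inf_le_left))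
    have : T ≤ Subgroup.centralizer ({b} : Set P) := by
      rw [hTeq, Subgroup.closure_le]
      rintro z (rfl | rfl)
      · exact Subgroup.mem_centralizer_singleton_iff.2
          (Subgroup.mem_centralizer_singleton_iff.1 hb.2).symm
      · exact Subgroup.mem_centralizer_singleton_iff.2 (Lib.ElemAbelian.comm hA hw hb.1)
    exact Subgroup.mem_centralizer_singleton_iff.1 (this ha)
  have hpair : ∀ a b : P, a ^ 3 = 1 → b ^ 3 = 1 → a * b = b * a → a ≠ 1 → b ∉ Subgroup.zpowers a →
      Cfsg.IsElementaryAbelian 3 (Subgroup.closure {a, b}) ∧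
        3 ^ 2 ≤ Nat.card (Subgroup.closure ({a, b} : Set P)) := by
    intro a b ha hb hab ha1 hba
    have hel : Cfsg.IsElementaryAbelian 3 (Subgroup.closure {a, b}) := by
      refine Lib.ElemAbelian.closure ?_ ?_
      · rintro u (rfl | rfl) v (rfl | rfl)
        exacts [rfl, hab, hab.symm, rfl]
      · rintro u (rfl | rfl)
        exacts [ha, hb]
    refine ⟨hel, ?_⟩
    obtain ⟨k, hk⟩ := IsPGroup.iff_card.1 (hP.to_subgroup (Subgroup.closure ({a, b} : Set P)))
    have hlt : Nat.card (Subgroup.zpowers a) < Nat.card (Subgroup.closure ({a, b} : Set P)) := by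
      refine lt_of_le_of_ne (Subgroup.card_le_of_le
        (Subgroup.zpowers_le.2 (Subgroup.subset_closure (Set.mem_insert _ _)))) fun h => hba ?_
      rw [Subgroup.eq_of_le_of_card_ge
        (Subgroup.zpowers_le.2 (Subgroup.subset_closure (Set.mem_insert _ _))) h.ge]
      exact Subgroup.subset_closure (Set.mem_insert_of_mem _ rfl)
    rw [Nat.card_zpowers, orderOf_eq_prime ha ha1, hk] at hlt
    rw [hk]
    exact Nat.pow_le_pow_right (by omega)
      ((Nat.pow_lt_pow_iff_right (by omega)).1 ((pow_one 3).trans_lt hlt))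
  suffices key : ∀ X : Subgroup P, Cfsg.IsElementaryAbelian 3 X → 3 ^ 2 ≤ Nat.card X →
      Relation.ReflTransGen R X A by
    intro E E' hE hEc hE' hEc'
    exact (key E hE hEc).trans (hsymm (key E' hE' hEc'))
  intro X hX hXc
  obtain ⟨x, hxX, hx1⟩ := X.bot_or_exists_ne_one.resolve_left (fun h => by
    rw [h, Subgroup.card_bot] at hXc; norm_num at hXc)
  obtain ⟨y, hyX, hyx⟩ : ∃ y ∈ X, y ∉ Subgroup.zpowers x := by
    by_contra hcon
    push Not at hcon
    have := hXc.trans (Subgroup.card_le_of_le (show X ≤ Subgroup.zpowers x from hcon))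
    rw [Nat.card_zpowers, orderOf_eq_prime (hX.2 x hxX) hx1] at this
    norm_num at this
  have hxy := Lib.ElemAbelian.comm hX hxX hyX
  obtain ⟨hT₀, hT₀c⟩ := hpair x y (hX.2 x hxX) (hX.2 y hyX) hxy hx1 hyx
  have hT₀le : Subgroup.closure {x, y} ≤ X := (Subgroup.closure_le X).2 (by
    rintro u (rfl | rfl) <;> assumption)
  refine (hsub hX hT₀c hT₀le).trans ?_
  set T₀ := Subgroup.closure ({x, y} : Set P)
  -- an element `w` of `A` centralizing both `x` and `y`
  set W := A ⊓ Subgroup.centralizer ({x} : Set P) with hW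
  have hW9 := nine_le_centralizer hP hA hA81 (hX.2 x hxX)
  obtain ⟨w, hwW, hwy, hw1⟩ : ∃ w ∈ W, w * y = y * w ∧ w ≠ 1 := by
    -- the 3-group `⟨y⟩` acting on `W` has a nontrivial fixed point
    have hynorm : y ∈ Subgroup.normalizer (W : Set P) := by
      rw [Subgroup.mem_normalizer_iff]
      intro z
      have hyc : ∀ z, z * x = x * z ↔ (y * z * y⁻¹) * x = x * (y * z * y⁻¹) := by
        intro z
        constructor
        · intro h
          calc (y * z * y⁻¹) * x = y * z * (y⁻¹ * x) := by group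
            _ = y * (z * x) * y⁻¹ := by rw [← (Commute.inv_right (hxy : Commute x y)).eq]; group
            _ = y * (x * z) * y⁻¹ := by rw [h]
            _ = (y * x) * z * y⁻¹ := by group
            _ = _ := by rw [← hxy]; group
        · intro h
          apply mul_left_cancel (a := y)
          apply mul_right_cancel (b := y⁻¹)
          calc y * (z * x) * y⁻¹ = (y * z * y⁻¹) * (y * x * y⁻¹) := by group
            _ = (y * z * y⁻¹) * x := by rw [← hxy, mul_inv_cancel_right]
            _ = x * (y * z * y⁻¹) := h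
            _ = (x * y) * z * y⁻¹ := by group
            _ = y * (x * z) * y⁻¹ := by rw [hxy]; group
      refine and_congr ⟨fun h => hAn.conj_mem z h y, fun h => ?_⟩ ?_
      · have := hAn.conj_mem _ h y⁻¹
        simpa [mul_assoc] using this
      · exact Iff.trans Subgroup.mem_centralizer_singleton_iff
          ((hyc z).trans Subgroup.mem_centralizer_singleton_iff.symm)
    let H : Subgroup P := Subgroup.zpowers y
    have hH : H ≤ Subgroup.normalizer (W : Set P) := Subgroup.zpowers_le.2 hynorm
    have hne : W ≠ ⊥ := fun h => by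
      have h9 : 3 ^ 2 ≤ Nat.card ↥W := hW9
      rw [h, Subgroup.card_bot] at h9
      norm_num at h9
    obtain ⟨w, hw, hw1, hwc⟩ : ∃ w ∈ W, w ≠ 1 ∧ ∀ h ∈ H, h * w = w * h := by
      by_contra hcon
      push Not at hcon
      have hlt := Lib.Coprime.commutator_lt_of_isPGroup (p := 3) (U := W)
        (hP.to_subgroup W) (hP.to_subgroup H) hH hne
      -- iterate down to a nontrivial subgroup centralized by `H`
      have hmain : ∀ V : Subgroup P, V ≤ W → H ≤ Subgroup.normalizer (V : Set P) → V = ⊥ := by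
        intro V
        induction V using WellFoundedLT.induction with
        | _ V ih =>
          intro hVW hHV
          by_contra hV
          have hlt := Lib.Coprime.commutator_lt_of_isPGroup (p := 3) (U := V)
            (hP.to_subgroup V) (hP.to_subgroup H) hHV hV
          have hb : ⁅V, H⁆ = ⊥ := ih _ hlt (hlt.le.trans hVW)
            (Subgroup.normalizer_commutator_ge_right _ _)
          obtain ⟨v, hv, hv1⟩ := V.bot_or_exists_ne_one.resolve_left hV
          obtain ⟨h, hh, hne⟩ := hcon v (hVW hv) hv1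
          exact hne (Subgroup.mem_centralizer_iff.1
            (Subgroup.commutator_eq_bot_iff_le_centralizer.1 hb hv) h hh)
      exact hne (hmain W le_rfl hH)
    exact ⟨w, hw, (hwc y (Subgroup.mem_zpowers y)).symm, hw1⟩
  have hxw : x * w = w * x := (Subgroup.mem_centralizer_singleton_iff.1 hwW.2).symm
  have hw3 : w ^ 3 = 1 := hA.2 w hwW.1
  by_cases hwT : w ∈ Subgroup.zpowers x
  · -- then `x ∈ A`
    have hxA : x ∈ A := by
      have h1 : Subgroup.zpowers w = Subgroup.zpowers x := Subgroup.eq_of_le_of_card_ge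
        (Subgroup.zpowers_le.2 hwT)
        (by rw [Nat.card_zpowers, Nat.card_zpowers, orderOf_eq_prime (hX.2 x hxX) hx1,
          orderOf_eq_prime hw3 hw1])
      exact Subgroup.zpowers_le.2 hwW.1 (h1.ge (Subgroup.mem_zpowers x))
    exact hmeet y x (hX.2 y hyX) hxA hxy.symm T₀ hT₀ hT₀c (congrArg Subgroup.closure (Set.pair_comm x y))
  · obtain ⟨hT₁, hT₁c⟩ := hpair x w (hX.2 x hxX) hw3 hxw hx1 hwT
    refine (Relation.ReflTransGen.single (b := Subgroup.closure {x, w})
      ⟨hT₀, hT₀c, hT₁, hT₁c, fun a ha b hb => ?_⟩).trans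
      (hmeet x w (hX.2 x hxX) hwW.1 hxw _ hT₁ hT₁c rfl)
    have h1 : Subgroup.closure {x, y} ≤ Subgroup.centralizer
        ((Subgroup.closure {x, w} : Subgroup P) : Set P) := by
      rw [Subgroup.le_centralizer_iff, Subgroup.closure_le]
      rintro u (rfl | rfl) <;> refine Subgroup.mem_centralizer_iff.2 fun v hv => ?_
      · exact (Lib.ElemAbelian.comm hT₀ (Subgroup.subset_closure (Set.mem_insert _ _)) hv).symm
      · have : T₀ ≤ Subgroup.centralizer ({u} : Set P) := by
          rw [Subgroup.closure_le]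
          rintro z (rfl | rfl)
          · exact Subgroup.mem_centralizer_singleton_iff.2 hxw
          · exact Subgroup.mem_centralizer_singleton_iff.2 hwy.symm
        exact Subgroup.mem_centralizer_singleton_iff.1 (this hv)
    exact (Subgroup.mem_centralizer_iff.1 (h1 ha) b hb).symm

end Cfsg.Agent.S1338
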