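import Cfsg.Statements.S1339
import Mathlib
import Cfsg.Agent.Lib.Components.Local

set_option autoImplicit false
open Cfsg

namespace Cfsg.Agent.S1339

open Matrix Cfsg Lib Lib.Components

variable {F : Type*} [Field F] {n : ℕ}

theorem commute_single {M : Matrix (Fin n) (Fin n) F} {i k : Fin n}
    (h : M * Matrix.single i k (1 : F) = Matrix.single i k (1 : F) * M) :
    (∀ m, m ≠ i → M m i = 0) ∧ (∀ l, l ≠ k → M k l = 0) ∧ M i i = M k k := by
  refine ⟨fun m hm => ?_, fun l hl => ?_, ?_⟩
  · have h1 := congrFun (congrFun h m) k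
    rw [Matrix.mul_single_apply_same, Matrix.single_mul_apply_of_ne _ _ _ _ _ hm] at h1
    simpa using h1
  · have h1 := congrFun (congrFun h i) l
    rw [Matrix.mul_single_apply_of_ne _ _ _ _ _ hl, Matrix.single_mul_apply_same] at h1
    simpa using h1.symm
  · have h1 := congrFun (congrFun h i) k
    rw [Matrix.mul_single_apply_same, Matrix.single_mul_apply_same] at h1
    simpa using h1

theorem commute_of_transvection {M : Matrix (Fin n) (Fin n) F} {i k : Fin n}
    (h : M * Matrix.transvection i k (1 : F) = Matrix.transvection i k (1 : F) * M) :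
    M * Matrix.single i k (1 : F) = Matrix.single i k (1 : F) * M := by
  simpa [Matrix.transvection, mul_add, add_mul] using h

/-- A normal 2-subgroup containing its centralizer forces `F* = O₂`. -/
theorem gfs_eq_of_centralizer_le {C : Type*} [Group C] [Finite C] (U : Subgroup C) [U.Normal]
    (hU : IsPGroup 2 U) (hc : Subgroup.centralizer (U : Set C) ≤ U) :
    generalizedFittingSubgroup C = pCore 2 C := by
  haveI := Fact.mk Nat.prime_two
  have hUle : U ≤ pCore 2 C := PSolvable.le_pCore hU
  have hcc : Subgroup.centralizer (pCore 2 C : Set C) ≤ pCore 2 C :=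
    ((Subgroup.centralizer_le hUle).trans hc).trans hUle
  refine generalizedFittingSubgroup_eq_pCore_iff.2 ⟨?_, ?_⟩
  · rw [eq_bot_iff]
    refine layer_le_iff.2 fun L hL => absurd ?_ (isComponent_not_le_centralizer hL)
    have h1 : L ≤ Subgroup.centralizer (pCore 2 C : Set C) :=
      ((isComponent_le_layer hL).trans layer_le_centralizer_fittingSubgroup).trans
        (Subgroup.centralizer_le (pCore_le_fittingSubgroup 2))
    exact h1.trans (Subgroup.centralizer_le (h1.trans hcc))
  · have h1 : pPrimeCore 2 C ≤ pCore 2 C :=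
      (Subgroup.commutator_eq_bot_iff_le_centralizer.mp
        ((Subgroup.commutator_comm _ _).trans PSolvable.commutator_pCore_pPrimeCore)).trans hcc
    rw [← PSolvable.pCore_inf_pPrimeCore (p := 2) (G := C), inf_eq_right.mpr h1]

/-- Let F be a field with 2 elements, n ≥ 3, and t ∈ SL(n, F) a transvection (t = 1 + E_{ij}, i ≠ j). Then the generalized Fitting subgroup of C(t) is O_2(C(t)). -/
theorem result {F : Type*} [Field F] [Fintype F] [DecidableEq F] (hF : Fintype.card F = 2) (n : ℕ) (hn : 3 ≤ n) (i j : Fin n) (hij : i ≠ j) (t : Matrix.SpecialLinearGroup (Fin n) F) (ht : (t : Matrix (Fin n) (Fin n) F) = Matrix.transvection i j 1) : Cfsg.generalizedFittingSubgroup ↥(Subgroup.centralizer ({t} : Set (Matrix.SpecialLinearGroup (Fin n) F))) = Cfsg.pCore 2 ↥(Subgroup.centralizer ({t} : Set (Matrix.SpecialLinearGroup (Fin n) F))) := by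
  classical
  set C := Subgroup.centralizer ({t} : Set (Matrix.SpecialLinearGroup (Fin n) F))
  have h01 : ∀ x : F, x = 0 ∨ x = 1 := by
    intro x
    by_contra h
    push Not at h
    have h' : ({0, 1, x} : Finset F).card = 3 :=
      Finset.card_eq_three.2 ⟨0, 1, x, zero_ne_one, h.1.symm, h.2.symm, rfl⟩
    have := Finset.card_le_univ ({0, 1, x} : Finset F)
    omega
  haveI : CharP F 2 := by
    have h2 : (2 : F) = 0 := by
      rcases h01 (1 + 1) with h | h
      · rw [← one_add_one_eq_two]; exact h
      · exact absurd (add_eq_left.1 h) one_ne_zero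
    exact CharTwo.of_one_ne_zero_of_two_eq_zero one_ne_zero h2
  have hC : ∀ c : ↥C, (∀ m, m ≠ i → (c.1 : Matrix (Fin n) (Fin n) F) m i = 0) ∧
      (∀ l, l ≠ j → (c.1 : Matrix (Fin n) (Fin n) F) j l = 0) := by
    intro c
    have h := congrArg (fun g : Matrix.SpecialLinearGroup (Fin n) F => (g : Matrix (Fin n) (Fin n) F))
      (Subgroup.mem_centralizer_singleton_iff.1 c.2)
    simp only [Matrix.SpecialLinearGroup.coe_mul, ht] at h
    have h' := commute_single (commute_of_transvection h)
    exact ⟨h'.1, h'.2.1⟩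
  let π : ↥C →* Matrix {k : Fin n // k ≠ i ∧ k ≠ j} {k : Fin n // k ≠ i ∧ k ≠ j} F :=
    { toFun := fun c => Matrix.of fun a b => (c.1 : Matrix (Fin n) (Fin n) F) a.1 b.1
      map_one' := by ext a b; simp [Matrix.one_apply, Subtype.ext_iff]
      map_mul' := fun a b => by
        ext k l
        show ((a * b : ↥C).1 : Matrix (Fin n) (Fin n) F) k.1 l.1 = _
        rw [Subgroup.coe_mul, Matrix.SpecialLinearGroup.coe_mul, Matrix.mul_apply, Matrix.mul_apply]
        simp only [Matrix.of_apply]
        symm
        rw [← Finset.sum_subtype (Finset.univ.filter fun k : Fin n => k ≠ i ∧ k ≠ j) (by simp)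
          (fun m => (a.1 : Matrix (Fin n) (Fin n) F) k m * (b.1 : Matrix (Fin n) (Fin n) F) m l)]
        refine Finset.sum_subset (Finset.subset_univ _) fun m _ hm => ?_
        simp only [Finset.mem_filter, Finset.mem_univ, true_and, not_and, not_not] at hm
        by_cases hmi : m = i
        · subst hmi
          rw [(hC a).1 _ k.2.1, zero_mul]
        · rw [hm hmi, (hC b).2 _ l.2.2, mul_zero] }
  have hdiag : ∀ c : ↥C, (c.1 : Matrix (Fin n) (Fin n) F) i i = 1 ∧
      (c.1 : Matrix (Fin n) (Fin n) F) j j = 1 := by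
    intro c
    constructor
    · refine (h01 _).resolve_left fun h => ?_
      have := c.1.2
      rw [Matrix.det_eq_zero_of_column_eq_zero i fun m => by
        by_cases hm : m = i
        · subst hm; exact h
        · exact (hC c).1 m hm] at this
      exact zero_ne_one this
    · refine (h01 _).resolve_left fun h => ?_
      have := c.1.2
      rw [Matrix.det_eq_zero_of_row_eq_zero j fun m => by
        by_cases hm : m = j
        · subst hm; exact h
        · exact (hC c).2 m hm] at this
      exact zero_ne_one this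
  have hker : ∀ c : ↥C, c ∈ π.ker → ∀ k l, k ≠ i → l ≠ j →
      (c.1 : Matrix (Fin n) (Fin n) F) k l = (1 : Matrix (Fin n) (Fin n) F) k l := by
    intro c hc k l hk hl
    by_cases hkj : k = j
    · subst hkj
      rw [(hC c).2 l hl, Matrix.one_apply_ne (Ne.symm hl)]
    by_cases hli : l = i
    · subst hli
      rw [(hC c).1 k hk, Matrix.one_apply_ne hk]
    have h : π c ⟨k, hk, hkj⟩ ⟨l, hli, hl⟩ =
        (1 : Matrix {k : Fin n // k ≠ i ∧ k ≠ j} {k : Fin n // k ≠ i ∧ k ≠ j} F) ⟨k, hk, hkj⟩ ⟨l, hli, hl⟩ := by
      rw [show π c = 1 from hc]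
    rw [Matrix.one_apply] at h ⊢
    simpa [π] using h
  refine gfs_eq_of_centralizer_le π.ker ?_ ?_
  · intro c
    refine ⟨2, ?_⟩
    set M := ((c : ↥C).1 : Matrix (Fin n) (Fin n) F) with hM
    set N := M - 1 with hN
    have hN0 : ∀ k l, k ≠ i → l ≠ j → N k l = 0 := fun k l hk hl => by
      rw [hN, Matrix.sub_apply, hM, hker c.1 c.2 k l hk hl, sub_self]
    have hNi : ∀ k, N k i = 0 := fun k => by
      by_cases hk : k = i
      · subst hk; rw [hN, Matrix.sub_apply, hM, (hdiag _).1, Matrix.one_apply_eq, sub_self]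
      · exact hN0 k i hk hij
    have hNj : ∀ l, N j l = 0 := fun l => by
      by_cases hl : l = j
      · subst hl; rw [hN, Matrix.sub_apply, hM, (hdiag _).2, Matrix.one_apply_eq, sub_self]
      · exact hN0 j l (Ne.symm hij) hl
    have hN2 : ∀ k l, k ≠ i → (N * N) k l = 0 := by
      intro k l hk
      rw [Matrix.mul_apply]
      refine Finset.sum_eq_zero fun m _ => ?_
      by_cases hm : m = j
      · subst hm; rw [hNj, mul_zero]
      · rw [hN0 k m hk hm, zero_mul]
    have hN3 : N ^ 3 = 0 := by
      ext k l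
      rw [pow_succ', pow_two, Matrix.mul_apply, Matrix.zero_apply]
      refine Finset.sum_eq_zero fun m _ => ?_
      by_cases hm : m = i
      · subst hm; rw [hNi, zero_mul]
      · rw [hN2 m l hm, mul_zero]
    haveI : Nonempty (Fin n) := ⟨i⟩
    haveI : CharP (Matrix (Fin n) (Fin n) F) 2 := inferInstance
    have h4 : M ^ 4 = 1 := by
      have h := sub_pow_char_pow_of_commute (p := 2) (n := 2) (h := Commute.one_right M)
      rw [← hN] at h
      rw [show (2 : ℕ) ^ 2 = 4 from rfl] at h
      rw [show N ^ 4 = N ^ 3 * N from pow_succ N 3, hN3, zero_mul, one_pow, eq_comm, sub_eq_zero] at h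
      exact h
    apply Subtype.ext
    apply Subtype.ext
    apply Subtype.ext
    simpa using h4
  · intro c hc
    rw [Subgroup.mem_centralizer_iff] at hc
    rw [MonoidHom.mem_ker]
    refine Matrix.ext fun k' l => ?_
    obtain ⟨k, hki, hkj⟩ := k' 
    let T : Matrix.SpecialLinearGroup (Fin n) F :=
      ⟨Matrix.transvection i k 1, Matrix.det_transvection_of_ne _ _ (Ne.symm hki) _⟩
    have hT : T ∈ C := by
      refine Subgroup.mem_centralizer_singleton_iff.2 (Subtype.ext ?_)
      show Matrix.transvection i k 1 * (t : Matrix (Fin n) (Fin n) F) =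
        (t : Matrix (Fin n) (Fin n) F) * Matrix.transvection i k 1
      rw [ht]
      simp [Matrix.transvection, mul_add, add_mul, Matrix.single_mul_single_of_ne _ _ _ _ hki,
        Matrix.single_mul_single_of_ne _ _ _ _ (Ne.symm hki), Matrix.single_mul_single_of_ne _ _ _ _ (Ne.symm hij), Matrix.single_mul_single_of_ne _ _ _ _ hki, add_comm, add_left_comm]
    have hTU : (⟨T, hT⟩ : ↥C) ∈ π.ker := by
      rw [MonoidHom.mem_ker]
      refine Matrix.ext fun a b => ?_
      show Matrix.transvection i k (1 : F) a.1 b.1 = _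
      simp [Matrix.transvection, Matrix.single_apply, Matrix.one_apply, Ne.symm a.2.1, Subtype.ext_iff]
    have h := congrArg (fun g : ↥C => (g.1 : Matrix (Fin n) (Fin n) F)) (hc _ hTU)
    simp only [Subgroup.coe_mul, Matrix.SpecialLinearGroup.coe_mul, T] at h
    have h' := commute_single (commute_of_transvection h.symm)
    show (c.1 : Matrix (Fin n) (Fin n) F) k l.1 = _
    rw [Matrix.one_apply]
    split
    · next h1 => subst h1; rw [← h'.2.2, (hdiag c).1]
    · next h1 => exact h'.2.1 _ fun e => h1 (Subtype.ext e.symm)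

end Cfsg.Agent.S1339
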