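import Cfsg.Statements.S1340
import Mathlib
import Cfsg.Agent.Lib.LinGroup.BlockDiag
import Cfsg.Agent.Lib.PSolvable.Core

set_option autoImplicit false
open Cfsg

namespace Cfsg.Agent.S1340

open Lib Lib.BlockDiag in
/-- Let F be a finite field of odd order and n ≥ 3 with (n, |F|) ≠ (3, 3). Then GL(n, F) has a non-central involution t such that C(t) / O(C(t)) has a component. -/
theorem result {F : Type*} [Field F] [Fintype F] [DecidableEq F] (hF : Odd (Fintype.card F)) (n : ℕ) (hn : 3 ≤ n) (h33 : ¬ (n = 3 ∧ Fintype.card F = 3)) : ∃ t : Matrix.GeneralLinearGroup (Fin n) F, orderOf t = 2 ∧ t ∉ Subgroup.center (Matrix.GeneralLinearGroup (Fin n) F) ∧ Cfsg.HasComponent (↥(Subgroup.centralizer ({t} : Set (Matrix.GeneralLinearGroup (Fin n) F))) ⧸ Cfsg.oddCore ↥(Subgroup.centralizer ({t} : Set (Matrix.GeneralLinearGroup (Fin n) F)))) := by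
  obtain ⟨m, rfl⟩ : ∃ m, n = m + 1 := ⟨n - 1, by omega⟩
  haveI : Fact (Nat.Prime 2) := ⟨Nat.prime_two⟩
  have h2 : (2 : F) ≠ 0 := by
    refine Ring.two_ne_zero fun h => ?_
    have := FiniteField.even_card_of_char_two h
    rw [← Nat.not_even_iff_odd, Nat.even_iff] at hF
    exact hF this
  have htt : blockMat (-1 : Matrix (Fin m) (Fin m) F) 1 * blockMat (-1) 1 = 1 := by
    rw [blockMat_mul, neg_one_mul, neg_neg, one_mul, blockMat_one]
  set t : Matrix.GeneralLinearGroup (Fin (m + 1)) F :=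
    ⟨blockMat (-1) 1, blockMat (-1) 1, htt, htt⟩ with ht
  have htc : t ∉ Subgroup.center (Matrix.GeneralLinearGroup (Fin (m + 1)) F) := by
    intro h
    obtain ⟨a, ha⟩ := Matrix.GeneralLinearGroup.mem_center_iff_val_mem_range_scalar.1 h
    rw [Matrix.scalar_apply, blockMat_diagonal] at ha
    obtain ⟨h1, h3⟩ := blockMat_inj.1 (ha : _ = blockMat (-1 : Matrix (Fin m) (Fin m) F) 1)
    have h4 := congrFun (congrFun h1 ⟨0, by omega⟩) ⟨0, by omega⟩
    simp at h4
    exact h2 (by rw [← one_add_one_eq_two]; linear_combination h4 - h3)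
  refine ⟨t, orderOf_eq_prime ?_ fun h => htc (h ▸ one_mem _), htc, ?_⟩
  · rw [pow_two]; exact Units.ext htt
  set C := Subgroup.centralizer ({t} : Set (Matrix.GeneralLinearGroup (Fin (m + 1)) F))
  let ι : Matrix.SpecialLinearGroup (Fin m) F →* Matrix.GeneralLinearGroup (Fin (m + 1)) F :=
    Matrix.SpecialLinearGroup.toGL.comp embedSL
  have hι : ∀ s, ((ι s : Matrix.GeneralLinearGroup (Fin (m + 1)) F) :
      Matrix (Fin (m + 1)) (Fin (m + 1)) F) = blockMat s.1 1 := fun s => rfl
  have hinj : Function.Injective ι := fun a b h =>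
    embedSL_injective (Subtype.ext (congrArg Units.val h :))
  have hle : ι.range ≤ C := by
    rintro _ ⟨s, rfl⟩
    exact Subgroup.mem_centralizer_singleton_iff.2 (Units.ext (blockMat_commute_neg s.1 1))
  have hn : (ι.range.subgroupOf C).Normal := by
    refine ⟨fun x hx g => ?_⟩
    obtain ⟨s, hs⟩ := hx
    have hcom : ∀ g : ↥C, ∃ A d, ((g : Matrix.GeneralLinearGroup (Fin (m + 1)) F) :
        Matrix (Fin (m + 1)) (Fin (m + 1)) F) = blockMat A d := fun g =>
      exists_blockMat_of_commute h2 (congrArg Units.val (Subgroup.mem_centralizer_singleton_iff.1 g.2))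
    obtain ⟨A, d, hg⟩ := hcom g
    obtain ⟨A', d', hg'⟩ := hcom g⁻¹
    have h1 : blockMat (A * A') (d * d') = blockMat 1 1 := by
      rw [← blockMat_mul, ← hg, ← hg', blockMat_one, ← Units.val_mul]
      simp
    obtain ⟨hAA, hdd⟩ := blockMat_inj.1 h1
    have hdet : (A * s.1 * A').det = 1 := by
      rw [Matrix.det_mul, Matrix.det_mul, s.2, mul_one, ← Matrix.det_mul, hAA, Matrix.det_one]
    refine ⟨⟨A * s.1 * A', hdet⟩, Units.ext ?_⟩
    show blockMat (A * s.1 * A') 1 = ((((g * x * g⁻¹ : ↥C)) : Matrix.GeneralLinearGroup (Fin (m + 1)) F) :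
      Matrix (Fin (m + 1)) (Fin (m + 1)) F)
    rw [Subgroup.coe_mul, Subgroup.coe_mul, Units.val_mul, Units.val_mul]
    rw [show ((x : Matrix.GeneralLinearGroup (Fin (m + 1)) F) : Matrix (Fin (m + 1)) (Fin (m + 1)) F) =
      blockMat s.1 1 from (congrArg Units.val hs).symm, hg, hg', blockMat_mul, blockMat_mul, mul_one,
      hdd]
  have hm : 2 ≤ m := by omega
  have hq : Cfsg.IsQuasisimple ↥(ι.range.subgroupOf C) := by
    refine (Components.quasisimple_subgroupOf_iff hle).2
      (Components.quasisimple_of_mulEquiv (MonoidHom.ofInjective hinj) (quasisimple_SL hm fun he => ?_))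
    rw [Nat.card_eq_fintype_card]
    obtain ⟨k, hk⟩ := hF
    have := Fintype.one_lt_card (α := F)
    omega
  set π := QuotientGroup.mk' (Cfsg.oddCore ↥C)
  refine ⟨(ι.range.subgroupOf C).map π,
    (hn.map π (QuotientGroup.mk'_surjective _)).isSubnormal, ?_⟩
  haveI : Nontrivial ↥((ι.range.subgroupOf C).map π) := by
    rw [Subgroup.nontrivial_iff_ne_bot, Ne, Subgroup.map_eq_bot_iff, QuotientGroup.ker_mk']
    intro h
    obtain ⟨s, hs⟩ := exists_involution hm h2
    let s' : ↥C := ⟨ι s, hle ⟨s, rfl⟩⟩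
    have hso : orderOf s' = 2 := by rw [Subgroup.orderOf_mk, orderOf_injective ι hinj, hs]
    exact PSolvable.pPrimeCore_not_dvd (p := 2) (G := ↥C)
      (hso.symm.dvd.trans (Subgroup.orderOf_dvd_natCard _ (h (show s' ∈ _ from ⟨s, rfl⟩))))
  exact Components.quasisimple_of_surjective hq (f := π.subgroupMap _)
    (π.subgroupMap_surjective _)

end Cfsg.Agent.S1340
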