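import Cfsg.Statements.S1343
import Cfsg.Agent.Lib.Signalizer.LayerBasic

set_option autoImplicit false
open Cfsg

namespace Cfsg.Agent.S1343

/-- Let X be finite. Then L*_{2'}(X) = L_{2'}(X) ⊔ F for some subgroup F of odd order normalized by a Sylow 2-subgroup of X. -/
theorem result {X : Type*} [Group X] [Finite X] : ∃ F : Subgroup X, Odd (Nat.card ↥F) ∧ (∃ S : Sylow 2 X, (S : Subgroup X) ≤ Subgroup.normalizer (F : Set X)) ∧ Cfsg.extendedTwoLayer X = Cfsg.pLayer 2 X ⊔ F := by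
  classical
  have hL := Lib.PLayerBasic.pLayer_normal (G := X) 2
  have hP : (Cfsg.pPrimePCore 2 X).Normal := Lib.PSolvable.pPrimePCore_normal
  set M := Cfsg.pLayer 2 X ⊔ Cfsg.pPrimePCore 2 X with hM
  have hMn : M.Normal := hM ▸ Subgroup.sup_normal _ _
  obtain ⟨S⟩ : Nonempty (Sylow 2 X) := inferInstance
  -- a Sylow 2-subgroup of `M` is `S ⊓ M`
  have hpg : IsPGroup 2 ↥((S : Subgroup X).subgroupOf M) :=
    S.isPGroup'.comap_of_injective _ M.subtype_injective
  obtain ⟨T, hT⟩ := hpg.exists_le_sylow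
  obtain ⟨S', hS'⟩ : ∃ S' : Sylow 2 X, (T : Subgroup ↥M).map M.subtype ≤ S' :=
    (T.isPGroup'.map M.subtype).exists_le_sylow
  set TG := (T : Subgroup ↥M).map M.subtype with hTG
  have hTeq : (S' : Subgroup X).subgroupOf M = T :=
    T.is_maximal' (S'.isPGroup'.comap_of_injective _ M.subtype_injective)
      (fun x hx => hS' ⟨x, hx, rfl⟩)
  have hTG' : TG = (S' : Subgroup X) ⊓ M := by
    rw [hTG, ← hTeq, Subgroup.subgroupOf_map_subtype]
  set R := Lib.PLayerBasic.centralizerCore TG with hR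
  have hnorm : ∀ s ∈ (S' : Subgroup X), R.map (MulAut.conj s).toMonoidHom ≤ R := by
    intro s hs
    rw [hR, Lib.PLayerBasic.centralizerCore_map_aut]
    refine le_of_eq (congrArg _ ?_)
    rw [hTG', Subgroup.map_inf _ _ _ (MulAut.conj s).injective]
    have e : ∀ N : Subgroup X, (∀ x ∈ N, s * x * s⁻¹ ∈ N) → (∀ x ∈ N, s⁻¹ * x * s ∈ N) →
        N.map (MulAut.conj s).toMonoidHom = N := by
      intro N h1 h2
      ext x
      constructor
      · rintro ⟨y, hy, rfl⟩
        exact h1 y hy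
      · intro hx
        exact ⟨s⁻¹ * x * s, h2 x hx, by simp [mul_assoc]⟩
    rw [e _ (fun x hx => mul_mem (mul_mem hs hx) (inv_mem hs))
        (fun x hx => mul_mem (mul_mem (inv_mem hs) hx) hs),
      e M (fun x hx => hMn.conj_mem x hx s) (fun x hx => by simpa using hMn.conj_mem x hx s⁻¹)]
  set F := Cfsg.oddCore X ⊔ R with hF
  refine ⟨F, ?_, ⟨S', ?_⟩, ?_⟩
  · have h1 : (Nat.card ↥(Cfsg.oddCore X)).Coprime 2 := Lib.PSolvable.pPrimeCore_coprime
    have h2 : (Nat.card ↥R).Coprime 2 :=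
      Nat.coprime_two_right.2 (Lib.PLayerBasic.centralizerCore_odd TG)
    exact Nat.coprime_two_right.1 (Lib.PSolvable.coprime_card_sup h1 h2)
  · intro s hs
    rw [Subgroup.mem_normalizer_iff]
    have key : ∀ s ∈ (S' : Subgroup X), ∀ x ∈ F, s * x * s⁻¹ ∈ F := by
      intro s hs x hx
      have h3 : F.map (MulAut.conj s).toMonoidHom ≤ F := by
        rw [hF, Subgroup.map_sup]
        refine sup_le_sup ?_ (hnorm s hs)
        rintro _ ⟨y, hy, rfl⟩
        exact (inferInstance : (Cfsg.oddCore X).Normal).conj_mem y hy s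
      exact h3 ⟨x, hx, rfl⟩
    intro x
    refine ⟨key s hs x, fun hx => ?_⟩
    have := key s⁻¹ (inv_mem hs) _ hx
    simpa [mul_assoc] using this
  · rw [hF, ← sup_assoc]
    exact Lib.PLayerBasic.extendedTwoLayer_eq T

end Cfsg.Agent.S1343
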