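import Cfsg.Statements.S1344
import Mathlib
import Cfsg.Agent.Lib.Components.Basic
import Cfsg.Agent.Lib.Components.GenFitting
import Cfsg.Agent.Lib.Components.PComponent
import Cfsg.Agent.Lib.Signalizer.LayerBasic

set_option autoImplicit false
open Cfsg

namespace Cfsg.Agent.S1344

open Lib Lib.Components in
theorem pPrimePCore_le_normalizer {X : Type*} [Group X] [Finite X] {K : Subgroup X}
    (hK : Cfsg.IsPComponent 2 K) : pPrimePCore 2 X ≤ Subgroup.normalizer (K : Set X) := by
  intro x hx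
  refine mem_normalizer_isPComponent hK (centralizer_le_normalizer_self _ ?_)
  have hx' : QuotientGroup.mk' (pPrimeCore 2 X) x ∈ fittingSubgroup (X ⧸ pPrimeCore 2 X) :=
    pCore_le_fittingSubgroup 2 (Subgroup.mem_comap.1 hx)
  rw [Subgroup.mem_centralizer_iff]
  intro k hk
  exact (Subgroup.mem_centralizer_iff.1
    (layer_le_centralizer_fittingSubgroup (isComponent_le_layer hK.2.1 hk)) _ hx').symm

open Lib Lib.Components in
theorem centralizerCore_le_normalizer {X : Type*} [Group X] [Finite X] {K : Subgroup X}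
    (hK : Cfsg.IsPComponent 2 K) (T : Sylow 2 ↥(pLayer 2 X ⊔ pPrimePCore 2 X)) :
    PLayerBasic.centralizerCore ((T : Subgroup ↥(pLayer 2 X ⊔ pPrimePCore 2 X)).map
      (pLayer 2 X ⊔ pPrimePCore 2 X).subtype) ≤ Subgroup.normalizer (K : Set X) := by
  intro y hy
  set π := QuotientGroup.mk' (pPrimeCore 2 X) with hπ
  have hMK : pLayer 2 X ⊔ pPrimePCore 2 X ≤ Subgroup.normalizer (K : Set X) :=
    sup_le (pLayer_le_normalizer hK) (pPrimePCore_le_normalizer hK)
  have hKM : K ≤ pLayer 2 X ⊔ pPrimePCore 2 X := (isPComponent_le_pLayer hK).trans le_sup_left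
  -- a Sylow element of `K` that is not central modulo the odd core
  obtain ⟨t, htT, htK, htc⟩ : ∃ t : X,
      t ∈ (T : Subgroup ↥(pLayer 2 X ⊔ pPrimePCore 2 X)).map (pLayer 2 X ⊔ pPrimePCore 2 X).subtype ∧
      t ∈ K ∧ π t ∉ Subgroup.centralizer ((K.map π : Subgroup (X ⧸ pPrimeCore 2 X)) :
        Set (X ⧸ pPrimeCore 2 X)) := by
    by_contra hcon
    push Not at hcon
    apply isComponent_not_le_centralizer hK.2.1
    rw [Subgroup.map_le_iff_le_comap]
    conv_lhs => rw [← isPComponent_pElementClosure_self hK]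
    refine (Subgroup.closure_le _).2 fun k hk => ?_
    obtain ⟨hkK, e, he⟩ := hk
    have hp : IsPGroup 2 (Subgroup.zpowers (⟨k, hKM hkK⟩ : ↥(pLayer 2 X ⊔ pPrimePCore 2 X))) := by
      refine IsPGroup.of_card (n := e) ?_
      rw [Nat.card_zpowers, Subgroup.orderOf_mk, he]
    obtain ⟨S, hS⟩ := hp.exists_le_sylow
    obtain ⟨g, rfl⟩ := MulAction.exists_smul_eq ↥(pLayer 2 X ⊔ pPrimePCore 2 X) T S
    have h1 : k ∈ ((T : Subgroup ↥(pLayer 2 X ⊔ pPrimePCore 2 X)).map
        (pLayer 2 X ⊔ pPrimePCore 2 X).subtype).map (MulAut.conj (g : X)).toMonoidHom := by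
      rw [← PLayerBasic.sylow_smul_map]
      exact ⟨_, hS (Subgroup.mem_zpowers _), rfl⟩
    obtain ⟨t, ht, htk⟩ := h1
    replace htk : (g : X) * t * (g : X)⁻¹ = k := htk
    have hgN := hMK g.2
    have htK : t ∈ K := (Subgroup.mem_normalizer_iff.1 hgN t).2 (htk ▸ hkK)
    have htc := Subgroup.mem_centralizer_iff.1 (hcon t ht htK)
    show π k ∈ Subgroup.centralizer _
    rw [Subgroup.mem_centralizer_iff]
    rintro _ ⟨m, hm, rfl⟩
    have hm' : (g : X)⁻¹ * m * g ∈ K :=
      (Subgroup.mem_normalizer_iff.1 hgN _).2 (by simpa [mul_assoc] using hm)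
    have h2 := htc _ ⟨_, hm', rfl⟩
    rw [← htk, ← map_mul, ← map_mul]
    rw [← map_mul, ← map_mul] at h2
    calc π (m * (g * t * (g : X)⁻¹)) = π (g * (((g : X)⁻¹ * m * g) * t) * (g : X)⁻¹) := by group
      _ = π (g * (t * ((g : X)⁻¹ * m * g)) * (g : X)⁻¹) := by
        rw [map_mul, map_mul, h2, ← map_mul, ← map_mul]
      _ = _ := by group
  -- `y` fixes `t`, so it fixes `K`
  have hyt : y * t * y⁻¹ = t := by
    rw [← Subgroup.mem_centralizer_iff.1 (PLayerBasic.centralizerCore_le_centralizer _ hy) t htT,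
      mul_inv_cancel_right]
  refine mem_normalizer_isPComponent hK (Subgroup.mem_normalizer_iff_map_conj_eq.2 ?_)
  by_contra hne
  refine htc (isComponent_le_centralizer (isComponent_conj hK.2.1 (π y)) hK.2.1 hne ?_)
  refine ⟨π t, ⟨t, htK, rfl⟩, ?_⟩
  show π y * π t * (π y)⁻¹ = π t
  rw [← map_mul, ← map_inv, ← map_mul, hyt]

open Lib Lib.Components in
/-- Let K be a 2-component of the finite group X. Then K ≤ L*_{2'}(X) and K is normal in L*_{2'}(X). -/
theorem result {X : Type*} [Group X] [Finite X] (K : Subgroup X) (hK : Cfsg.IsPComponent 2 K) : K ≤ Cfsg.extendedTwoLayer X ∧ (K.subgroupOf (Cfsg.extendedTwoLayer X)).Normal := by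
  have hle : K ≤ Cfsg.extendedTwoLayer X :=
    (isPComponent_le_pLayer hK).trans (le_sup_left.trans le_sup_left)
  refine ⟨hle, (Subgroup.normal_subgroupOf_iff_le_normalizer hle).2 ?_⟩
  exact sup_le (sup_le (pLayer_le_normalizer hK) (pPrimeCore_le_normalizer hK))
    (iSup_le fun T => centralizerCore_le_normalizer hK T)

end Cfsg.Agent.S1344
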