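import Cfsg.Statements.S1346
import Cfsg.Agent.Lib.CoreBalance.Main

set_option autoImplicit false
open Cfsg

namespace Cfsg.Agent.S1346

/-- Let G be a finite group all of whose 2-local subgroups have known non-abelian composition factors, and x, y commuting involutions. Then the extended 2-layer of L*_{2'}(C_G(x)) ∩ C_G(y) (as a group) is contained in L*_{2'}(C_G(y)). -/
theorem result {G : Type*} [Group G] [Finite G] (hK : ∀ T : Subgroup G, IsPGroup 2 ↥T → T ≠ ⊥ → Cfsg.IsCompositionKGroup ↥(Subgroup.normalizer (T : Set G))) (x y : G) (hx : orderOf x = 2) (hy : orderOf y = 2) (hxy : x * y = y * x) : (Cfsg.extendedTwoLayer ↥((Cfsg.extendedTwoLayer ↥(Subgroup.centralizer ({x} : Set G))).map (Subgroup.centralizer ({x} : Set G)).subtype ⊓ Subgroup.centralizer ({y} : Set G))).map ((Cfsg.extendedTwoLayer ↥(Subgroup.centralizer ({x} : Set G))).map (Subgroup.centralizer ({x} : Set G)).subtype ⊓ Subgroup.centralizer ({y} : Set G)).subtype ≤ (Cfsg.extendedTwoLayer ↥(Subgroup.centralizer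 ({y} : Set G))).map (Subgroup.centralizer ({y} : Set G)).subtype := by
  set Cx := Subgroup.centralizer ({x} : Set G) with hCx
  set My := Subgroup.centralizer ({y} : Set G) with hMy
  set LA := (Cfsg.extendedTwoLayer ↥Cx).map Cx.subtype with hLA
  have hxM : x ∈ My := Subgroup.mem_centralizer_singleton_iff.mpr hxy
  have hle : LA ⊓ My ≤ My := inf_le_right
  rw [← Subgroup.subtype_comp_inclusion hle, ← Subgroup.map_map]
  refine Subgroup.map_mono (Cfsg.Agent.Lib.CoreBalance.map_extendedTwoLayer_le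
    (Subgroup.inclusion_injective hle) (R := Subgroup.zpowers (⟨x, hxM⟩ : My))
    (IsPGroup.of_card (n := 1) (by rw [Nat.card_zpowers, Subgroup.orderOf_mk, hx, pow_one]))
    ?_ ?_)
  · rintro _ ⟨a, rfl⟩
    refine Subgroup.mem_centralizer_iff.mpr ?_
    rintro _ ⟨i, rfl⟩
    have h1 : (a : G) ∈ Cx := Subgroup.map_subtype_le _ a.2.1
    have h0 : Commute x (a : G) := (Subgroup.mem_centralizer_singleton_iff.mp h1).symm
    have h2 : Commute (x ^ i) (a : G) := Commute.zpow_left h0 i
    exact Subtype.ext (by simpa using h2.eq)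
  · intro n hn
    have hnC : (n : G) ∈ Cx := Subgroup.mem_centralizer_singleton_iff.mpr
      (congrArg Subtype.val
        (Subgroup.mem_centralizer_iff.mp hn _ (Subgroup.mem_zpowers _))).symm
    have hLn : (Cfsg.extendedTwoLayer ↥Cx).Normal :=
      Cfsg.Agent.Lib.PLayerBasic.extendedTwoLayer_normal
    refine Cfsg.Agent.Lib.PSolvable.mem_normalizer_of_conj_mem ?_
    rintro _ ⟨a, rfl⟩
    obtain ⟨b, hb, hba⟩ := a.2.1
    refine ⟨⟨_, ⟨⟨_, hLn.conj_mem b hb ⟨n, hnC⟩, rfl⟩,
      My.mul_mem (My.mul_mem n.2 (show Cx.subtype b ∈ My by rw [hba]; exact a.2.2)) (My.inv_mem n.2)⟩⟩, ?_⟩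
    exact Subtype.ext (by simp [← hba])

end Cfsg.Agent.S1346
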