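import Cfsg.Statements.S1348
import Mathlib
import Cfsg.Agent.Lib.LinGroup.BlockDiag
import Cfsg.Agent.Lib.Components.Basic

set_option autoImplicit false
open Cfsg

namespace Cfsg.Agent.S1348

open Cfsg Lib Lib.Components in
/-- The generic part: `R ⊴ C = C_G(t)` quasisimple with abelian centralizer whose only involution is `t`. -/
theorem standard_of {G : Type*} [Group G] [Finite G] (t : G) (ht : orderOf t = 2) (R : Subgroup G)
    (hRC : R ≤ Subgroup.centralizer ({t} : Set G))
    (hN : Subgroup.centralizer ({t} : Set G) ≤ Subgroup.normalizer (R : Set G))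
    (hq : IsQuasisimple ↥R)
    (hab : ∀ a ∈ Subgroup.centralizer (R : Set G), ∀ b ∈ Subgroup.centralizer (R : Set G), a * b = b * a)
    (huniq : ∀ y ∈ Subgroup.centralizer (R : Set G), orderOf y = 2 → y = t) :
    IsStandardSubgroup ((layer ↥(Subgroup.centralizer ({t} : Set G))).map
      (Subgroup.centralizer ({t} : Set G)).subtype) := by
  set C := Subgroup.centralizer ({t} : Set G) with hC
  have hRn : (R.subgroupOf C).Normal := (Subgroup.normal_subgroupOf_iff_le_normalizer hRC).2 hN
  have hRc : IsComponent (R.subgroupOf C) := ⟨hRn.isSubnormal, (quasisimple_subgroupOf_iff hRC).2 hq⟩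
  have hlayer : layer ↥C = R.subgroupOf C := by
    refine le_antisymm (layer_le_iff.2 fun K hK => ?_) (isComponent_le_layer hRc)
    by_contra hne
    have hne' : K ≠ R.subgroupOf C := fun h => hne h.le
    apply isComponent_not_le_centralizer hK
    intro k hk
    have hc : ∀ k ∈ K, (k : G) ∈ Subgroup.centralizer (R : Set G) := by
      intro k hk
      rw [Subgroup.mem_centralizer_iff]
      intro r hr
      exact congrArg Subtype.val (Subgroup.mem_centralizer_iff.1
        (isComponent_le_centralizer hK hRc hne' hk) ⟨r, hRC hr⟩ hr)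
    rw [Subgroup.mem_centralizer_iff]
    intro l hl
    exact Subtype.ext (hab _ (hc l hl) _ (hc k hk))
  rw [hlayer, Subgroup.map_subgroupOf_eq_of_le hRC]
  have htR : t ∈ Subgroup.centralizer (R : Set G) := Subgroup.mem_centralizer_iff.2 fun r hr =>
    Subgroup.mem_centralizer_singleton_iff.1 (hRC hr)
  have hNC : Subgroup.normalizer (R : Set G) ≤
      Subgroup.normalizer (Subgroup.centralizer (R : Set G) : Set G) := by
    intro g hg
    rw [Subgroup.mem_normalizer_iff] at hg ⊢
    intro c
    simp only [SetLike.mem_coe, Subgroup.mem_centralizer_iff]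
    constructor
    · intro hc l hl
      have h := hc (g⁻¹ * l * g) ((hg _).2 (by simpa [mul_assoc] using hl))
      calc l * (g * c * g⁻¹) = g * ((g⁻¹ * l * g) * c) * g⁻¹ := by group
        _ = g * (c * (g⁻¹ * l * g)) * g⁻¹ := by rw [h]
        _ = _ := by group
    · intro hc l hl
      have h := hc (g * l * g⁻¹) ((hg _).1 hl)
      calc l * c = g⁻¹ * ((g * l * g⁻¹) * (g * c * g⁻¹)) * g := by group
        _ = g⁻¹ * ((g * c * g⁻¹) * (g * l * g⁻¹)) * g := by rw [h]
        _ = _ := by group
  have hfix : ∀ g : G, ∀ v ∈ Subgroup.centralizer (R : Set G), orderOf v = 2 →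
      g * v * g⁻¹ ∈ Subgroup.centralizer (R : Set G) → g ∈ Subgroup.normalizer (R : Set G) := by
    intro g v hv hv2 hw
    have hv' := huniq v hv hv2
    have hw' := huniq _ hw (((MulAut.conj g).orderOf_eq v).trans hv2)
    rw [hv'] at hw'
    refine hN (Subgroup.mem_centralizer_singleton_iff.2 ?_)
    calc g * t = g * t * g⁻¹ * g := by group
      _ = t * g := by rw [hw']
  refine ⟨hq, ⟨even_iff_two_dvd.2 (ht.symm.dvd.trans (Subgroup.orderOf_dvd_natCard _ htR)),
    fun g hg => ?_⟩, fun g hne hcom => ?_, le_antisymm hNC fun g hg => ?_⟩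
  · rw [← Nat.not_even_iff_odd, even_iff_two_dvd]
    intro hdvd
    haveI := Fact.mk Nat.prime_two
    obtain ⟨⟨y, hy⟩, hy2⟩ := exists_prime_orderOf_dvd_card' 2 hdvd
    rw [Subgroup.orderOf_mk] at hy2
    obtain ⟨hy1, v, hv, hvy⟩ := hy
    replace hvy : g * v * g⁻¹ = y := hvy
    exact hg (hNC (hfix g v hv (((MulAut.conj g).orderOf_eq v).symm.trans (by rw [MulAut.conj_apply, hvy, hy2]))
      (hvy ▸ hy1)))
  · apply quasisimple_not_le_centralizer hq
    have h := Subgroup.commutator_eq_bot_iff_le_centralizer.1 ((Subgroup.commutator_comm _ _).trans hcom)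
    intro r hr
    rw [Subgroup.mem_centralizer_iff]
    intro s hs
    have e := hab _ (h ⟨s, hs, rfl⟩) _ (h ⟨r, hr, rfl⟩)
    simp only [MulEquiv.coe_toMonoidHom] at e
    rw [← map_mul, ← map_mul] at e
    exact (MulAut.conj g).injective e
  · exact hfix g t htR ht ((Subgroup.mem_normalizer_iff.1 hg t).1 htR)

open Lib Lib.BlockDiag in
/-- Let F be a finite field of odd order, n ≥ 7 odd, and t ∈ SL(n, F) the diagonal matrix with entries −1, …, −1, 1. Then E(C(t)) is a standard subgroup of SL(n, F). -/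
theorem result {F : Type*} [Field F] [Fintype F] [DecidableEq F] (hF : Odd (Fintype.card F)) (n : ℕ) (hn : 7 ≤ n) (hodd : Odd n) (t : Matrix.SpecialLinearGroup (Fin n) F) (ht : (t : Matrix (Fin n) (Fin n) F) = Matrix.diagonal (fun i : Fin n => if (i : ℕ) + 1 = n then (1 : F) else -1)) : Cfsg.IsStandardSubgroup ((Cfsg.layer ↥(Subgroup.centralizer ({t} : Set (Matrix.SpecialLinearGroup (Fin n) F)))).map (Subgroup.centralizer ({t} : Set (Matrix.SpecialLinearGroup (Fin n) F))).subtype) := by
  obtain ⟨m, rfl⟩ : ∃ m, n = m + 1 := ⟨n - 1, by omega⟩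
  have hm : 2 ≤ m := by omega
  have hmE : Even m := by rcases hodd with ⟨k, hk⟩; exact ⟨k, by omega⟩
  have h2 : (2 : F) ≠ 0 := by
    refine Ring.two_ne_zero fun h => ?_
    have := FiniteField.even_card_of_char_two h
    rw [← Nat.not_even_iff_odd, Nat.even_iff] at hF
    exact hF this
  have ht' : (t : Matrix (Fin (m + 1)) (Fin (m + 1)) F) = blockMat (-1) 1 := by
    rw [ht, blockMat_diagonal]
    congr 1
    · rw [← Matrix.diagonal_one, Matrix.diagonal_neg]
      congr 1
      funext i
      have := i.2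
      rw [if_neg]
      rw [Fin.val_castAdd]
      omega
    · rw [if_pos]
      simp
  have htt : orderOf t = 2 := by
    refine orderOf_eq_prime ?_ fun h => ?_
    · rw [pow_two]
      apply Subtype.ext
      rw [Matrix.SpecialLinearGroup.coe_mul, ht', blockMat_mul, neg_one_mul, neg_neg, one_mul,
        blockMat_one]
      rfl
    · rw [h, Matrix.SpecialLinearGroup.coe_one, ← blockMat_one] at ht'
      have h4 := congrFun (congrFun (blockMat_inj.1 ht').1 ⟨0, by omega⟩) ⟨0, by omega⟩
      simp at h4
      exact h2 (by rw [← one_add_one_eq_two]; linear_combination h4)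
  have hC : ∀ g ∈ Subgroup.centralizer ({t} : Set (Matrix.SpecialLinearGroup (Fin (m + 1)) F)),
      ∃ A d, (g : Matrix (Fin (m + 1)) (Fin (m + 1)) F) = blockMat A d := by
    intro g hg
    refine exists_blockMat_of_commute h2 ?_
    rw [← ht']
    exact congrArg (fun g : Matrix.SpecialLinearGroup (Fin (m + 1)) F =>
      (g : Matrix (Fin (m + 1)) (Fin (m + 1)) F)) (Subgroup.mem_centralizer_singleton_iff.1 hg)
  have hCR : ∀ y ∈ Subgroup.centralizer
      (((MonoidHom.range (embedSL (F := F) (m := m))) :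
        Subgroup (Matrix.SpecialLinearGroup (Fin (m + 1)) F)) :
        Set (Matrix.SpecialLinearGroup (Fin (m + 1)) F)),
      ∃ (a : F) (d : F), (y : Matrix (Fin (m + 1)) (Fin (m + 1)) F) =
        blockMat (a • (1 : Matrix (Fin m) (Fin m) F)) d := by
    intro y hy
    refine exists_scalar_of_commute hm fun i j hij c => ?_
    let T : Matrix.SpecialLinearGroup (Fin m) F :=
      ⟨Matrix.transvection i j c, Matrix.det_transvection_of_ne i j hij c⟩
    exact (congrArg (fun g : Matrix.SpecialLinearGroup (Fin (m + 1)) F =>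
      (g : Matrix (Fin (m + 1)) (Fin (m + 1)) F))
      (Subgroup.mem_centralizer_iff.1 hy (embedSL T) ⟨T, rfl⟩)).symm
  refine standard_of t htt (MonoidHom.range (embedSL (F := F) (m := m))) ?_ ?_ ?_ ?_ ?_
  · rintro _ ⟨s, rfl⟩
    refine Subgroup.mem_centralizer_singleton_iff.2 (Subtype.ext ?_)
    rw [Matrix.SpecialLinearGroup.coe_mul, Matrix.SpecialLinearGroup.coe_mul, ht', embedSL_coe]
    exact blockMat_commute_neg s.1 1
  · intro g hg
    have key : ∀ g ∈ Subgroup.centralizer ({t} : Set (Matrix.SpecialLinearGroup (Fin (m + 1)) F)),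
        ∀ x ∈ (embedSL (F := F) (m := m)).range, g * x * g⁻¹ ∈ (embedSL (F := F) (m := m)).range := by
      rintro g hg _ ⟨s, rfl⟩
      obtain ⟨A, d, hA⟩ := hC g hg
      obtain ⟨A', d', hA'⟩ := hC g⁻¹ (inv_mem hg)
      have h1 : blockMat (A * A') (d * d') = blockMat 1 1 := by
        rw [← blockMat_mul, ← hA, ← hA', blockMat_one, ← Matrix.SpecialLinearGroup.coe_mul,
          mul_inv_cancel, Matrix.SpecialLinearGroup.coe_one]
      obtain ⟨hAA, hdd⟩ := blockMat_inj.1 h1
      have hdet : (A * s.1 * A').det = 1 := by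
        rw [Matrix.det_mul, Matrix.det_mul, s.2, mul_one, ← Matrix.det_mul, hAA, Matrix.det_one]
      refine ⟨⟨A * s.1 * A', hdet⟩, Subtype.ext ?_⟩
      show blockMat (A * s.1 * A') 1 = _
      rw [Matrix.SpecialLinearGroup.coe_mul, Matrix.SpecialLinearGroup.coe_mul, hA, hA', embedSL_coe,
        blockMat_mul, blockMat_mul, mul_one, hdd]
    refine Subgroup.mem_normalizer_iff.2 fun x => ⟨key g hg x, fun hx => ?_⟩
    simpa [mul_assoc] using key g⁻¹ (inv_mem hg) _ hx
  · exact Components.quasisimple_of_mulEquiv (MonoidHom.ofInjective embedSL_injective)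
      (quasisimple_SL hm fun he => absurd he (by omega))
  · intro a ha b hb
    obtain ⟨a₁, a₂, hA⟩ := hCR a ha
    obtain ⟨b₁, b₂, hB⟩ := hCR b hb
    apply Subtype.ext
    rw [Matrix.SpecialLinearGroup.coe_mul, Matrix.SpecialLinearGroup.coe_mul, hA, hB, blockMat_mul,
      blockMat_mul, smul_mul_smul_comm, smul_mul_smul_comm, mul_comm a₁, mul_comm a₂]
  · intro y hy hy2
    obtain ⟨a, d, hA⟩ := hCR y hy
    have hyy : y * y = 1 := by rw [← pow_two, ← hy2]; exact pow_orderOf_eq_one y
    have h1 : blockMat ((a * a) • (1 : Matrix (Fin m) (Fin m) F)) (d * d) = blockMat 1 1 := by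
      have h0 := congrArg (fun g : Matrix.SpecialLinearGroup (Fin (m + 1)) F =>
        (g : Matrix (Fin (m + 1)) (Fin (m + 1)) F)) hyy
      simp only [Matrix.SpecialLinearGroup.coe_mul, Matrix.SpecialLinearGroup.coe_one, hA, blockMat_mul,
        smul_mul_smul_comm, one_mul] at h0
      rw [blockMat_one]
      exact h0
    have haa := congrFun (congrFun (blockMat_inj.1 h1).1 ⟨0, by omega⟩) ⟨0, by omega⟩
    simp at haa
    have hdet : a ^ m * d = 1 := by
      have := y.2
      rw [hA, det_blockMat, Matrix.det_smul, Matrix.det_one, mul_one, Fintype.card_fin] at this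
      exact this
    obtain ⟨k, rfl⟩ := hmE
    rw [← two_mul, pow_mul, pow_two, haa, one_pow, one_mul] at hdet
    apply Subtype.ext
    rw [hA, ht', hdet]
    rcases mul_self_eq_one_iff.1 haa with rfl | rfl
    · exfalso
      rw [hdet, one_smul, blockMat_one] at hA
      rw [show y = 1 from Subtype.ext hA, orderOf_one] at hy2
      exact absurd hy2 (by norm_num)
    · rw [neg_smul, one_smul]

end Cfsg.Agent.S1348
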