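import Cfsg.Statements.S1376
import Cfsg.Agent.Lib.OddMax.Sec16.ThmD2
-- import your own Cfsg.Agent.* helpers here

set_option autoImplicit false
open Cfsg

namespace Cfsg.Agent.S1376

/-- Let G be a minimal simple group of odd order, M a maximal subgroup, x ≠ 1 in M_σ with C_G(x) not contained in M, and N a maximal subgroup containing C_G(x) with κ(N) nonempty. Then κ(M) is empty, M has a cyclic Frobenius complement (M is a Frobenius group), and M_F is not a TI-subset of G. -/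
theorem result {G : Type*} [Group G] [Finite G] (hG : Cfsg.IsMinSimpleOddOrder G)
    (M : Subgroup G) (hM : IsCoatom M) (x : G) (hx : x ∈ Cfsg.sigmaCore M) (hx1 : x ≠ 1) (hxM : ¬ Subgroup.centralizer ({x} : Set G) ≤ M)
    (N : Subgroup G) (hN : IsCoatom N) (hxN : Subgroup.centralizer ({x} : Set G) ≤ N) (hkN : (Cfsg.kappa N).Nonempty) :
    Cfsg.kappa M = ∅ ∧ (∃ E : Subgroup ↥M, Cfsg.IsFrobeniusComplement E ∧ IsCyclic E) ∧ ¬ Cfsg.IsTISubset (Cfsg.fittingHallOf M : Set G) := by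
  open Cfsg.Agent.Lib.OddMax.Sec14 Cfsg.Agent.Lib.OddMax.Sec16 in
  obtain ⟨N', h⟩ := exists_signalizer hG (sigmaDisjoint hG) hM hx hx1 hxM
  obtain rfl := h.unique N hN hxN
  open Cfsg.Agent.Lib.OddMax.Sec16 in
  obtain ⟨hκ, hMF, E, hE, hE1, hEc, hfree⟩ := signalizer_frobenius hG hM hx hxM hx1 h hkN
  open Cfsg.Agent.Lib.OddMax.Sec16 in
  refine ⟨hκ, ⟨E.subgroupOf M, isFrobeniusComplement_of_free hE hE1
    (Cfsg.Agent.Lib.OddMax.Sec13.sigmaCore_ne_bot hG hM) hfree,
    isCyclic_of_surjective _ (Subgroup.subgroupOfEquivOfLe hE.1).symm.surjective⟩,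
    hMF.symm ▸ not_isTISubset_sigmaCore hG hM hx hx1 hxM⟩

end Cfsg.Agent.S1376
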