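import Cfsg.Statements.S1386
import Mathlib
import Cfsg.Agent.Lib.OddLocal.ComplIn

set_option autoImplicit false
open Cfsg

namespace Cfsg.Agent.S1386

/-- Let G be a finite group, W₁, W₂ subgroups forming a self-normalizing cyclic pair, S a subgroup with W₂ ≤ S and W₁ a complement to S' in S, and (W₁, U, W₂') type-P data for S. Then W₂' = W₂ (that is, C_{S'}(W₁) = W₂). -/
theorem result {G : Type*} [Group G] [Finite G] (W₁ W₂ S U W₂' : Subgroup G) (hW : Cfsg.IsSelfNormalizingCyclic W₁ W₂)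
    (hSW : Cfsg.IsComplIn ⁅S, S⁆ W₁ S) (hW₂S : W₂ ≤ S) (hP : Cfsg.IsTypePWith S W₁ U W₂') :
    W₂' = W₂ := by
  obtain ⟨hW1, hW2, hi, hcomm, hcyc, hN⟩ := hW
  obtain ⟨hW1', hW2', hi', hcomm', hcyc', hN'⟩ := hP.selfNormalizing
  have hnt : ∀ W : Subgroup G, W ≠ ⊥ → ∃ x, x ∈ W ∧ x ≠ 1 := fun W hW => by
    obtain ⟨x, hx⟩ := Subgroup.ne_bot_iff_exists_ne_one.mp hW
    exact ⟨x, x.2, fun e => hx (Subtype.ext e)⟩
  have hle : W₂ ≤ W₁ ⊔ W₂' := by
    intro b hb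
    obtain ⟨a, ha, w, hw, rfl⟩ := hSW.2.2.2 b (hW₂S hb)
    obtain ⟨x, hx, hx1⟩ := hnt W₁ hW1
    have hbx : Commute x (a * w) := hcomm x hx _ hb
    haveI := hcyc
    have hwx : Commute x w := by
      have h2 : IsMulCommutative ↥(W₁ ⊔ W₂) := inferInstance
      exact congrArg Subtype.val (h2.is_comm.comm (⟨x, Subgroup.mem_sup_left hx⟩ : ↥(W₁ ⊔ W₂)) ⟨w, Subgroup.mem_sup_left hw⟩)
    have hax : Commute x a := by simpa using hbx.mul_right hwx.inv_right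
    refine mul_mem (Subgroup.mem_sup_right ?_) (Subgroup.mem_sup_left hw)
    rw [← hP.W₂_centralizer x hx hx1]
    exact ⟨ha, Subgroup.mem_centralizer_iff.mpr fun y hy => by rw [Set.mem_singleton_iff.mp hy]; exact hax⟩
  have heq : W₁ ⊔ W₂ = W₁ ⊔ W₂' := by
    refine le_antisymm (sup_le le_sup_left hle) ?_
    obtain ⟨u, hu, hu1⟩ := hnt W₁ hW1
    obtain ⟨v, hv, hv1⟩ := hnt W₂ hW2
    have huv : u * v ∈ ((↑(W₁ ⊔ W₂) : Set G) \ (↑W₁ ∪ ↑W₂)) := by
      refine ⟨mul_mem (Subgroup.mem_sup_left hu) (Subgroup.mem_sup_right hv), ?_⟩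
      rintro (h | h)
      · exact hv1 ((Subgroup.mem_bot).mp (hi ▸ ⟨(W₁.mul_mem_cancel_left hu).mp h, hv⟩))
      · exact hu1 ((Subgroup.mem_bot).mp (hi ▸ ⟨hu, (W₂.mul_mem_cancel_right hv).mp h⟩))
    rw [← hN {u * v} (Set.singleton_subset_iff.mpr huv) ⟨_, rfl⟩]
    haveI := hcyc'
    have h2 : IsMulCommutative ↥(W₁ ⊔ W₂') := inferInstance
    intro z hz
    refine Subgroup.centralizer_le_normalizer _ (Subgroup.mem_centralizer_iff.mpr fun y hy => ?_)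
    rw [Set.mem_singleton_iff.mp hy]
    have huv' : u * v ∈ W₁ ⊔ W₂' := mul_mem (Subgroup.mem_sup_left hu) (hle hv)
    exact congrArg Subtype.val (h2.is_comm.comm (⟨_, huv'⟩ : ↥(W₁ ⊔ W₂')) ⟨z, hz⟩)
  have hc : Nat.card W₂' = Nat.card W₂ := by
    have e1 : Cfsg.IsComplIn W₁ W₂ (W₁ ⊔ W₂) := by
      refine ⟨le_sup_left, le_sup_right, hi, fun m hm => ?_⟩
      have hWN : W₂ ≤ Subgroup.normalizer (W₁ : Set G) :=
        le_trans (fun b hb => Subgroup.mem_centralizer_iff.mpr fun a ha => hcomm a ha b hb)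
          (Subgroup.centralizer_le_normalizer _)
      rw [← SetLike.mem_coe, Subgroup.coe_mul_of_right_le_normalizer_left W₁ W₂ hWN, Set.mem_mul] at hm
      obtain ⟨a, ha, b, hb, rfl⟩ := hm
      exact ⟨a, ha, b, hb, rfl⟩
    have e2 : Cfsg.IsComplIn W₁ W₂' (W₁ ⊔ W₂) := by
      rw [heq]
      refine ⟨le_sup_left, le_sup_right, hi', fun m hm => ?_⟩
      have hWN : W₂' ≤ Subgroup.normalizer (W₁ : Set G) :=
        le_trans (fun b hb => Subgroup.mem_centralizer_iff.mpr fun a ha => hcomm' a ha b hb)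
          (Subgroup.centralizer_le_normalizer _)
      rw [← SetLike.mem_coe, Subgroup.coe_mul_of_right_le_normalizer_left W₁ W₂' hWN, Set.mem_mul] at hm
      obtain ⟨a, ha, b, hb, rfl⟩ := hm
      exact ⟨a, ha, b, hb, rfl⟩
    exact Nat.eq_of_mul_eq_mul_left Nat.card_pos
      ((Cfsg.Agent.Lib.OddLocal.IsComplIn.card_eq e2).trans (Cfsg.Agent.Lib.OddLocal.IsComplIn.card_eq e1).symm)
  haveI := hcyc
  have hle1 : W₂' ≤ W₁ ⊔ W₂ := heq ▸ le_sup_right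
  have h5 : W₂'.subgroupOf (W₁ ⊔ W₂) = W₂.subgroupOf (W₁ ⊔ W₂) := by
    refine Cfsg.Agent.Lib.OddLocal.subgroup_eq_of_card_eq_of_isCyclic ?_
    rw [Nat.card_congr (Subgroup.subgroupOfEquivOfLe hle1).toEquiv,
      Nat.card_congr (Subgroup.subgroupOfEquivOfLe le_sup_right).toEquiv, hc]
  rwa [Subgroup.subgroupOf_inj, inf_of_le_left hle1, inf_of_le_left le_sup_right] at h5

end Cfsg.Agent.S1386
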