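import Cfsg.Statements.S1390
import Cfsg.Agent.Lib.OddMax.Sec16.ThmII.Fusion

set_option autoImplicit false
open Cfsg
open Cfsg.Agent.Lib Cfsg.Agent.Lib.OddMax.Sec16 Cfsg.Agent.Lib.OddMax.Sec16.ThmII

namespace Cfsg.Agent.S1390

/-- Let G be a minimal simple group of odd order, M a maximal subgroup and H = M_F; suppose M is of Type I and U is a complement to H in M, or M is of Type II and U is a complement to H in M'. Then every Sylow subgroup of U is abelian with no elementary abelian subgroup of order p ^ 3; for every nonempty set X of non-identity elements of U centralizing a non-identity element of H, C_G(X) ≤ M and M is the unique maximal subgroup containing C_G(X); and A(M) with A₁(M) removed is a TI-subset of G. -/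
theorem result {G : Type*} [Group G] [Finite G] (hG : Cfsg.IsMinSimpleOddOrder G)
    (M : Subgroup G) (hM : IsCoatom M) (U : Subgroup G)
    (hU : (Cfsg.IsOfTypeI M ∧ Cfsg.IsComplIn (Cfsg.fittingHallOf M) U M) ∨ (Cfsg.IsOfTypeII M ∧ Cfsg.IsComplIn (Cfsg.fittingHallOf M) U ⁅M, M⁆)) :
    (∀ (p : ℕ), p.Prime → ∀ P : Sylow p U, IsMulCommutative (P : Subgroup U) ∧ Cfsg.PRankLE p 2 (P : Subgroup U)) ∧
      (∀ X : Set G, X ⊆ (U : Set G) \ {1} → X.Nonempty → Cfsg.fittingHallOf M ⊓ Subgroup.centralizer X ≠ ⊥ →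
        Subgroup.centralizer X ≤ M ∧ ∀ L : Subgroup G, IsCoatom L → Subgroup.centralizer X ≤ L → L = M) ∧
      Cfsg.IsTISubset (Cfsg.typeA M \ Cfsg.typeA1 M) := by
  have hQ := forcesBot_typeI hG
  obtain ⟨K, hKU⟩ := exists_decomposition_of_hyp hG hQ hM hU
  refine ⟨fun p hp P => sylow_compl hG hM hKU hp P,
    fun X hX hXne hc => compl_unique_of_forcesBot hG hQ hM hU X hX hXne hc, ?_⟩
  have hor : K ≠ ⊥ ∨ IsOfTypeI M := hU.symm.imp
    (fun h => (compl_ne_bot_of_typeII hG hM hKU h.1).1) (fun h => h.1)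
  have he : typeA M \ typeA1 M = sigmaA M U \ (sigmaCore M : Set G) := by
    rw [typeA1_eq hG hM, ← PF.Sec8.setA_typeI]
    ext a
    constructor
    · rintro ⟨ha, hna⟩
      exact ⟨(setA_le hG hQ hM hKU ha).1, fun hs => hna ⟨hs, (setA_le hG hQ hM hKU ha).2⟩⟩
    · rintro ⟨ha, hna⟩
      exact ⟨mem_setA hG hQ hM hKU hor ha (fun e => hna (e ▸ one_mem _)), fun h => hna h.1⟩
  rw [he]
  exact isTISubset_sigmaA hG hM hKU

end Cfsg.Agent.S1390
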