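import Cfsg.Statements.S1407
import Cfsg.Agent.Lib.OddMax.Sec10.Basic

set_option autoImplicit false
open Cfsg

namespace Cfsg.Agent.S1407

/-- Let G be a minimal simple group of odd order, M a maximal subgroup with M_α ≠ 1, p a prime dividing the order of M but not in σ(M), and P a Sylow p-subgroup of M. Then there is an element x of order p in the centre of P such that M_α ∩ C_G(x) has all Sylow subgroups cyclic and M is not the unique maximal subgroup of G containing C_G(x). -/
theorem result {G : Type*} [Group G] [Finite G] (hG : Cfsg.IsMinSimpleOddOrder G)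
    (M : Subgroup G) (hM : IsCoatom M) (hMα : Cfsg.alphaCore M ≠ ⊥) (p : ℕ) [Fact p.Prime] (hpM : p ∣ Nat.card M) (hp : p ∉ Cfsg.sigma M) (P : Sylow p M) :
    ∃ x : G, x ∈ ((Subgroup.center ↥(P : Subgroup M)).map (P : Subgroup M).subtype).map M.subtype ∧ orderOf x = p ∧
        IsZGroup ↥(Cfsg.alphaCore M ⊓ Subgroup.centralizer ({x} : Set G)) ∧
        ¬ (Subgroup.centralizer ({x} : Set G) ≤ M ∧ ∀ L : Subgroup G, IsCoatom L → Subgroup.centralizer ({x} : Set G) ≤ L → L = M) := by
  open Cfsg.Agent.Lib.OddMax in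
  have hP := Cfsg.Agent.Lib.OddUniq.isSylIn_map P
  obtain ⟨z, hzP, hzo, hzc, hz⟩ := Cfsg.Agent.Lib.OddMax.Sec10.exists_central_not_unique hG hM hpM hp hP
  obtain ⟨z', hz', rfl⟩ := hzP
  refine ⟨z', ⟨z', ⟨⟨z', hz'⟩, ?_, rfl⟩, rfl⟩, hzo, ?_, hz⟩
  · rw [SetLike.mem_coe, Subgroup.mem_center_iff]
    intro y
    exact Subtype.ext (Subtype.ext (hzc _ ⟨(y : ↥M), y.2, rfl⟩))
  · refine Cfsg.Agent.Lib.OddMax.Sec10.isZGroup_of_rankLE_one
      (Cfsg.Agent.Lib.OddLocal.minSimple_odd_card hG _) ?_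
    by_contra hr
    refine hz ?_
    have hzM : ((z' : ↥M) : G) ∈ M := z'.2
    have hz1 : ((z' : ↥M) : G) ≠ 1 := fun h => by
      change orderOf ((z' : ↥M) : G) = p at hzo
      rw [h, orderOf_one] at hzo
      exact (Fact.out : p.Prime).ne_one hzo.symm
    have hcz : Subgroup.centralizer ((Subgroup.zpowers ((z' : ↥M) : G) : Subgroup G) : Set G) =
        Subgroup.centralizer ({((z' : ↥M) : G)} : Set G) := by
      rw [Subgroup.zpowers_eq_closure, Subgroup.centralizer_closure]
    have hu := Cfsg.Agent.Lib.OddMax.Sec10.inUniqueMaximal_centralizer_of_alphaCore hG hM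
      (X := Subgroup.zpowers ((z' : ↥M) : G)) (Subgroup.zpowers_le.mpr hzM) (fun q hq hd hqα => by
        change orderOf ((z' : ↥M) : G) = p at hzo
        rw [Nat.card_zpowers, hzo, Nat.prime_dvd_prime_iff_eq hq Fact.out] at hd
        exact hp (hd ▸ Cfsg.Agent.Lib.OddMax.Sec10.alpha_subset_sigma hG hM hqα))
      (by rw [hcz]; exact hr)
    rw [hcz] at hu
    have hCtop := Cfsg.Agent.Lib.OddLocal.minSimple_centralizer_singleton_ne_top hG hz1
    have hle : Subgroup.centralizer ({((z' : ↥M) : G)} : Set G) ≤ M :=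
      Cfsg.Agent.Lib.OddUniq.le_of_inUniqueMaximal hu hM inf_le_left inf_le_right hCtop
    exact ⟨hle, fun L hL hCL =>
      (Cfsg.Agent.Lib.OddUniq.eq_of_inUniqueMaximal hu hM hL inf_le_left (inf_le_right.trans hCL)).symm⟩

end Cfsg.Agent.S1407
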