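import Cfsg.Statements.S1427
import Cfsg.Agent.Lib.OddMax.Sec13.Prime

set_option linter.style.haveILetI false

set_option autoImplicit false
open Cfsg

namespace Cfsg.Agent.S1427

open Cfsg.Agent.Lib Cfsg.Agent.Lib.OddMax.Sec13


/-- Let G be a minimal simple group of odd order, M a maximal subgroup, E a complement to M_σ in M, and S a nontrivial cyclic Sylow subgroup of E (for some prime). Then M_σ ∩ C_G(x) = M_σ ∩ C_G(S) for every non-identity x ∈ S. -/
theorem result {G : Type*} [Group G] [Finite G] (hG : Cfsg.IsMinSimpleOddOrder G)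
    (M : Subgroup G) (hM : IsCoatom M) (E : Subgroup G) (hE : Cfsg.IsComplIn E (Cfsg.sigmaCore M) M) (p : ℕ) [Fact p.Prime] (S : Sylow p E) (hS1 : (S : Subgroup E) ≠ ⊥) (hSc : IsCyclic (S : Subgroup E)) :
    ∀ x ∈ (S : Subgroup E).map E.subtype, x ≠ 1 →
        Cfsg.sigmaCore M ⊓ Subgroup.centralizer ({x} : Set G) = Cfsg.sigmaCore M ⊓ Subgroup.centralizer (((S : Subgroup E).map E.subtype : Subgroup G) : Set G) := by
  intro x hx hx1
  refine le_antisymm ?_ (inf_le_inf_left _ (Subgroup.centralizer_le (Set.singleton_subset_iff.mpr hx)))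
  have hS := OddUniq.isSylIn_map S
  set S' := (S : Subgroup E).map E.subtype with hS'def
  haveI hS'c : IsCyclic S' := isCyclic_of_surjective (Subgroup.equivMapOfInjective (S : Subgroup E)
    E.subtype E.subtype_injective).toMonoidHom (MulEquiv.surjective _)
  have hS'1 : S' ≠ ⊥ := fun h => hx1 (Subgroup.mem_bot.mp (h ▸ hx))
  have hpσ : p ∉ sigma M := not_mem_sigma_of_dvd_compl hG hM hE Fact.out
    ((dvd_card_of_isPGroup hS.2.1 hS'1).trans (Subgroup.card_dvd_of_le hS.1))
  obtain ⟨k, hk⟩ := IsPGroup.iff_orderOf.mp hS.2.1 (⟨x, hx⟩ : S')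
  rw [← Subgroup.orderOf_coe] at hk
  have hk0 : k ≠ 0 := fun h => hx1 (orderOf_eq_one_iff.mp (by rw [hk, h, pow_zero]))
  set y := x ^ p ^ (k - 1) with hy
  have hyo : Nat.card (Subgroup.zpowers y) = p := by
    rw [Nat.card_zpowers, hy, orderOf_pow, hk, Nat.gcd_eq_right (pow_dvd_pow p (Nat.sub_le k 1)),
      Nat.pow_div (Nat.sub_le k 1) (Fact.out : p.Prime).pos, show k - (k - 1) = 1 by omega, pow_one]
  have h := inf_centralizer_le hG hM hpσ (isSylIn_of_compl hG hM hE hpσ hS)
    (Subgroup.zpowers_le.mpr (pow_mem hx _)) hyo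
  refine le_inf inf_le_left (le_trans (inf_le_inf_left _ ?_) h)
  refine le_centralizer_zpowers_iff.mpr fun c hc => Subgroup.mem_centralizer_singleton_iff.mpr ?_
  exact (Commute.pow_left (show Commute x c from
    (Subgroup.mem_centralizer_singleton_iff.mp hc).symm) _).symm.eq

end Cfsg.Agent.S1427
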