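import Cfsg.Statements.S1428
import Cfsg.Agent.Lib.OddMax.Sec13.Prime2

set_option linter.style.haveILetI false

set_option autoImplicit false
open Cfsg

namespace Cfsg.Agent.S1428

open Cfsg.Agent.Lib Cfsg.Agent.Lib.OddMax.Sec13


/-- Let G be a minimal simple group of odd order, M a maximal subgroup, E a complement to M_σ in M, p ∈ τ₁(M), P ≤ E a subgroup of order p, and R a subgroup of prime order of E ∩ C_G(P). Then M_σ ∩ C_G(P) ≤ M_σ ∩ C_G(R). -/
theorem result {G : Type*} [Group G] [Finite G] (hG : Cfsg.IsMinSimpleOddOrder G)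
    (M : Subgroup G) (hM : IsCoatom M) (E : Subgroup G) (hE : Cfsg.IsComplIn E (Cfsg.sigmaCore M) M) (p : ℕ) (hp : p ∈ Cfsg.tau1 M) (P : Subgroup G) (hPE : P ≤ E) (hP : Nat.card P = p)
    (R : Subgroup G) (hRE : R ≤ E ⊓ Subgroup.centralizer (P : Set G)) (hR : (Nat.card R).Prime) :
    Cfsg.sigmaCore M ⊓ Subgroup.centralizer (P : Set G) ≤ Cfsg.sigmaCore M ⊓ Subgroup.centralizer (R : Set G) := by
  refine le_inf inf_le_left ?_
  haveI := Fact.mk hp.1
  have hPM := hPE.trans hE.1
  have hRM : R ≤ M := (hRE.trans inf_le_left).trans hE.1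
  haveI := Fact.mk hR
  have hrσ := not_mem_sigma_of_dvd_compl hG hM hE hR
    (Subgroup.card_dvd_of_le (hRE.trans inf_le_left))
  by_cases hrp : Nat.card R = p
  · have hRP : R ≤ Subgroup.normalizer (P : Set G) :=
      (hRE.trans inf_le_right).trans (Subgroup.centralizer_le_normalizer _)
    have hPg : IsPGroup p P := IsPGroup.of_card (n := 1) (by rw [hP, pow_one])
    have hRg : IsPGroup p R := IsPGroup.of_card (n := 1) (by rw [hrp, pow_one])
    haveI := isCyclic_of_pRankLE_one (OddLocal.minSimple_ne_two hG hp.2.2.1)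
      (hPg.to_sup_of_normal_left' hRg hRP) (sup_le hPM hRM) hp.2.2.2.2
    rw [eq_of_card_prime_of_isCyclic (S := P ⊔ R) le_sup_right le_sup_left (hrp.trans hP.symm)]
    exact inf_le_right
  · exact inf_centralizer_le_of_tau1 hG hM hp hP hPM rfl hRM (hRE.trans inf_le_right) hrσ hrp

end Cfsg.Agent.S1428
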