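import Cfsg.Statements.S1454
import Cfsg.Agent.Lib.Narrow.Faithful
import Cfsg.Agent.S1448

set_option autoImplicit false
open Cfsg

namespace Cfsg.Agent.S1454

/-- Let G be a finite group, p an odd prime, R a narrow p-subgroup and A a solvable subgroup of odd order normalizing R with A ∩ C_G(R) = 1. Then [A, A] ≤ O_p(A) and the index of O_p(A) in A is coprime to p; if R has an elementary abelian subgroup of order p ^ 3 then the order of every element of A of order coprime to p divides p − 1; and if the order of A is a prime not dividing p(p − 1), then 2·#A divides p + 1, and if in addition [R, A] = R and R is non-abelian then #R = p ^ 3. -/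
theorem result {G : Type*} [Group G] [Finite G] (p : ℕ) [Fact p.Prime] (hp : p ≠ 2) (R A : Subgroup G) (hR : IsPGroup p R) (hRn : Cfsg.IsNarrow p R)
    (hA : (A ≤ Subgroup.normalizer (R : Set G))) (hAs : Group.IsSolvable A) (hAodd : Odd (Nat.card A)) (hfaith : A ⊓ Subgroup.centralizer (R : Set G) = ⊥) :
    (commutator ↥A ≤ Cfsg.pCore p ↥A ∧ ((Cfsg.pCore p ↥A).index).Coprime p) ∧
      (¬ Cfsg.PRankLE p 2 R → ∀ a ∈ A, (orderOf a).Coprime p → orderOf a ∣ p - 1) ∧
      ((Nat.card A).Prime → ¬ Nat.card A ∣ p * (p - 1) →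
        2 * Nat.card A ∣ p + 1 ∧ (⁅R, A⁆ = R → ¬ IsMulCommutative R → Nat.card R = p ^ 3)) := by
  have hp' : p.Prime := Fact.out
  have hone : ∀ y ∈ A, y ∈ Subgroup.centralizer (R : Set G) → y = 1 := fun y hyA hyC => by
    have : y ∈ A ⊓ Subgroup.centralizer (R : Set G) := ⟨hyA, hyC⟩
    rwa [hfaith, Subgroup.mem_bot] at this
  have hpred : ¬ Cfsg.PRankLE p 2 R → ∀ a ∈ A, (orderOf a).Coprime p → orderOf a ∣ p - 1 :=
    fun hr a ha hao => orderOf_dvd_of_pow_eq_one <| hone _ (A.pow_mem ha _)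
      (Lib.Narrow.pow_pred_mem_centralizer hp hR hRn hr (hA ha) hao)
  have hle : commutator ↥A ≤ Cfsg.pCore p ↥A := by
    refine Lib.PSolvable.le_pCore (Lib.RankTwo.isPGroup_of_coprime fun y hy hyo => Subtype.ext ?_)
    have hmem : (y : G) ∈ ⁅A, A⁆ := by
      have := Subgroup.mem_map_of_mem A.subtype hy
      rwa [commutator_def, Subgroup.map_commutator, ← MonoidHom.range_eq_map,
        Subgroup.range_subtype] at this
    exact hone _ y.2 (Lib.Narrow.mem_centralizer_of_narrow hp hR hRn hA hAodd hAs hmem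
      (by rwa [Subgroup.orderOf_coe]))
  refine ⟨⟨hle, Lib.Narrow.pCore_index_coprime hle⟩, hpred, fun hq hnd => ?_⟩
  set q := Nat.card A with hqdef
  haveI : Fact q.Prime := ⟨hq⟩
  have hqp : q ≠ p := fun h => hnd (h ▸ dvd_mul_right _ _)
  have hq2 : q ≠ 2 := fun h => absurd (h ▸ hAodd : Odd 2) (by decide)
  obtain ⟨y, hy⟩ := exists_prime_orderOf_dvd_card' (G := A) q dvd_rfl
  have hord : orderOf (y : G) = q := by rw [Subgroup.orderOf_coe]; exact hy
  have hA' : A = Subgroup.zpowers (y : G) :=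
    (Subgroup.eq_of_le_of_card_ge (Subgroup.zpowers_le.mpr y.2) (by rw [Nat.card_zpowers, hord])).symm
  have hcop : (orderOf (y : G)).Coprime p := by
    rw [hord]; exact (Nat.coprime_primes hq hp').mpr hqp
  have hr : Cfsg.PRankLE p 2 R := by
    by_contra h
    exact hnd ((hord ▸ hpred h _ y.2 hcop).mul_left p)
  have hyC : (y : G) ∉ Subgroup.centralizer (R : Set G) := fun h => by
    rw [hone _ y.2 h, orderOf_one] at hord
    exact hq.one_lt.ne hord
  obtain ⟨V, _, _, φ, hexp, hcard, hkey⟩ := Lib.RankTwo.exists_quotient_action hR hr hp hA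
  have hdiv : q ∣ p + 1 := by
    refine (Lib.Narrow.dvd_sub_or_add hexp hcard hq hqp (f := φ y) ?_
      fun h => hyC (hkey y hcop h)).resolve_left fun h => hnd (h.mul_left p)
    rw [← map_pow, ← hy, pow_orderOf_eq_one, map_one]
  have h2 : 2 ∣ p + 1 := even_iff_two_dvd.mp ((hp'.odd_of_ne_two hp).add_odd odd_one)
  refine ⟨Nat.Coprime.mul_dvd_of_dvd_of_dvd ((Nat.coprime_primes Nat.prime_two hq).mpr hq2.symm)
    h2 hdiv, fun hRA hnab => ?_⟩
  have hR1 : R ≠ ⊥ := by
    rintro rfl
    exact hnab inferInstance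
  obtain ⟨-, hcases⟩ := Cfsg.Agent.S1448.result p hp R A hR hR1 hr hA
    ((Nat.coprime_primes hq hp').mpr hqp) hAodd hRA
  obtain ⟨R₁, R₂, hsup, hcomm, -, hcard1, hexp1, hcyc, hom⟩ := hcases.resolve_left hnab
  exact Lib.Narrow.card_eq_cube hR hsup hcomm hcard1 hexp1 hcyc hom hq (hA y.2)
    (hord ▸ pow_orderOf_eq_one _) hnd (hA' ▸ hRA)

end Cfsg.Agent.S1454
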