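import Cfsg.Statements.S1460
import Cfsg.Agent.Lib.Coprime.Quotient

set_option autoImplicit false
open Cfsg

namespace Cfsg.Agent.S1460

/-- Let G be a finite solvable group, K a normal subgroup and U a subgroup with G = KU, and H ≤ U a subgroup whose order is coprime to that of K. Then H ∩ G' = H ∩ U'; N_G(H) is generated by K ∩ C_G(H) and U ∩ N_G(H); and if gHg⁻¹ ≤ U for some g ∈ G then g = u c with u ∈ U and c ∈ K ∩ C_G(H). -/
theorem result {G : Type*} [Group G] [Finite G] [Group.IsSolvable G] (K U H : Subgroup G) [K.Normal] (hKU : K ⊔ U = ⊤) (hH : H ≤ U) (hcop : (Nat.card H).Coprime (Nat.card K)) :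
    H ⊓ commutator G = H ⊓ ⁅U, U⁆ ∧
      Subgroup.normalizer (H : Set G) = (K ⊓ Subgroup.centralizer (H : Set G)) ⊔ (U ⊓ Subgroup.normalizer (H : Set G)) ∧
      ∀ g : G, H.map (MulAut.conj g).toMonoidHom ≤ U → ∃ u ∈ U, ∃ c ∈ K ⊓ Subgroup.centralizer (H : Set G), g = u * c := by
  have hfac : ∀ g : G, H.map (MulAut.conj g).toMonoidHom ≤ U →
      ∃ u ∈ U, ∃ c ∈ K ⊓ Subgroup.centralizer (H : Set G), g = u * c := by
    intro g hg
    have hg' : g ∈ ((U ⊔ K : Subgroup G) : Set G) := by
      rw [sup_comm, hKU]; exact Subgroup.mem_top g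
    rw [Subgroup.mul_normal U K] at hg'
    obtain ⟨u, hu, k, hk, rfl⟩ := hg'
    have hkH : ∀ h ∈ H, k * h * k⁻¹ ∈ U := by
      intro h hh
      have h1 : u * k * h * (u * k)⁻¹ ∈ U := hg ⟨h, hh, rfl⟩
      rw [show k * h * k⁻¹ = u⁻¹ * (u * k * h * (u * k)⁻¹) * u by group]
      exact U.mul_mem (U.mul_mem (U.inv_mem hu) h1) hu
    have hN : H ≤ Subgroup.normalizer ((U ⊓ K : Subgroup G) : Set G) := fun h hh => by
      rw [Subgroup.mem_normalizer_iff]
      intro x
      simp only [Subgroup.mem_inf,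
        Subgroup.mem_normalizer_iff.mp (Subgroup.le_normalizer (hH hh)) x,
        Subgroup.mem_normalizer_iff.mp
          (show h ∈ Subgroup.normalizer (K : Set G) by rw [Subgroup.normalizer_eq_top]; trivial) x]
    obtain ⟨c, hc, hcN⟩ := Cfsg.Agent.Lib.Coprime.exists_centralizer_mem_rightCoset hN
      (hcop.coprime_dvd_right (Subgroup.card_dvd_of_le inf_le_right))
      (Or.inr inferInstance) (k := k) fun h hh => by
        rw [← inv_mem_iff, show (h * k * h⁻¹ * k⁻¹)⁻¹ = k * h * k⁻¹ * h⁻¹ by group]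
        refine ⟨U.mul_mem (hkH h hh) (U.inv_mem (hH hh)), ?_⟩
        rw [show k * h * k⁻¹ * h⁻¹ = k * (h * k⁻¹ * h⁻¹) by group]
        exact K.mul_mem hk (‹K.Normal›.conj_mem _ (K.inv_mem hk) h)
    refine ⟨u * (c * k⁻¹)⁻¹, U.mul_mem hu (U.inv_mem hcN.1), c, ⟨?_, hc⟩, by group⟩
    rw [show c = c * k⁻¹ * k by group]
    exact K.mul_mem hcN.2 hk
  refine ⟨?_, ?_, hfac⟩
  · refine le_antisymm ?_ (inf_le_inf_left H
      (le_of_le_of_eq (Subgroup.commutator_mono le_top le_top) (commutator_def G).symm))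
    intro h hh
    refine ⟨hh.1, ?_⟩
    -- the image of `G'` modulo `K` is that of `U'`
    have hle : commutator G ≤ ⁅U, U⁆ ⊔ K := by
      have hs : Function.Surjective (QuotientGroup.mk' K) := QuotientGroup.mk'_surjective K
      have hU : U.map (QuotientGroup.mk' K) = ⊤ := by
        rw [← Subgroup.map_top_of_surjective _ hs, ← hKU, Subgroup.map_sup,
          QuotientGroup.map_mk'_self, bot_sup_eq]
      have h1 : (commutator G).map (QuotientGroup.mk' K) ≤ (⁅U, U⁆).map (QuotientGroup.mk' K) := by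
        rw [commutator_def, Subgroup.map_commutator, Subgroup.map_commutator, hU,
          Subgroup.map_top_of_surjective _ hs]
      rwa [Subgroup.map_le_iff_le_comap, Subgroup.comap_map_eq, QuotientGroup.ker_mk'] at h1
    have hh' : h ∈ ((⁅U, U⁆ ⊔ K : Subgroup G) : Set G) := hle hh.2
    rw [Subgroup.mul_normal] at hh'
    obtain ⟨d, hd, k, hk, hdk⟩ := hh'
    change d * k = h at hdk
    have hUU : ⁅U, U⁆ ≤ U := Subgroup.commutator_le_self U
    have hkU : k ∈ U := by
      rw [show k = d⁻¹ * (d * k) by group, hdk]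
      exact U.mul_mem (U.inv_mem (hUU hd)) (hH hh.1)
    -- in `U / U'` the image of `h` has order dividing both `|H|` and `|K|`
    let f : U →* Abelianization U := Abelianization.of
    have hmem : ∀ x : U, f x = 1 → (x : G) ∈ ⁅U, U⁆ := fun x hx => by
      have hx' : x ∈ commutator U := by
        rw [← Abelianization.ker_of]; exact MonoidHom.mem_ker.mpr hx
      rw [← Subgroup.map_subtype_commutator]
      exact ⟨x, hx', rfl⟩
    have hfd : f ⟨d, hUU hd⟩ = 1 := by
      rw [← MonoidHom.mem_ker, Abelianization.ker_of]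
      rw [← Subgroup.map_subtype_commutator] at hd
      obtain ⟨y, hy, hye⟩ := hd
      have : y = ⟨d, hUU (by rw [← Subgroup.map_subtype_commutator]; exact ⟨y, hy, hye⟩)⟩ :=
        Subtype.ext hye
      exact this ▸ hy
    refine hmem ⟨h, hH hh.1⟩ ?_
    have he : f ⟨h, hH hh.1⟩ = f ⟨k, hkU⟩ := by
      have : (⟨h, hH hh.1⟩ : U) = ⟨d, hUU hd⟩ * ⟨k, hkU⟩ := Subtype.ext hdk.symm
      rw [this, map_mul, hfd, one_mul]
    refine orderOf_eq_one_iff.mp (Nat.eq_one_of_dvd_coprimes hcop ?_ ?_)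
    · refine (orderOf_map_dvd f _).trans ?_
      rw [Subgroup.orderOf_mk]
      exact H.orderOf_dvd_natCard hh.1
    · rw [he]
      refine (orderOf_map_dvd f _).trans ?_
      rw [Subgroup.orderOf_mk]
      exact K.orderOf_dvd_natCard hk
  · refine le_antisymm (fun g hg => ?_) (sup_le ?_ inf_le_right)
    · have hgU : H.map (MulAut.conj g).toMonoidHom ≤ U := by
        rintro _ ⟨h, hh, rfl⟩
        exact hH ((Subgroup.mem_normalizer_iff.mp hg h).mp hh)
      obtain ⟨u, hu, c, hc, rfl⟩ := hfac g hgU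
      have hcN : c ∈ Subgroup.normalizer (H : Set G) :=
        Subgroup.centralizer_le_normalizer _ hc.2
      have huN : u ∈ Subgroup.normalizer (H : Set G) := (Subgroup.mul_mem_cancel_right _ hcN).mp hg
      exact Subgroup.mul_mem _ (Subgroup.mem_sup_right ⟨hu, huN⟩) (Subgroup.mem_sup_left hc)
    · exact inf_le_right.trans (Subgroup.centralizer_le_normalizer _)

end Cfsg.Agent.S1460
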