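import Cfsg.Statements.S1462
import Mathlib
import Cfsg.Agent.Lib.OddLocal.InvariantPrimeSubgroup
import Cfsg.Agent.Lib.PSolvable.PSolv
import Cfsg.Agent.Lib.PGroup.ElemAbelian

set_option autoImplicit false
open Cfsg

namespace Cfsg.Agent.S1462

/-- Let G be a finite solvable group, p an odd prime with G = O_{p',p,p'}(G), E an elementary abelian p-subgroup contained in no larger elementary abelian p-subgroup of G, and L a subgroup of order coprime to p normalized by E. Then L ≤ O_{p'}(G). -/
theorem result {G : Type*} [Group G] [Finite G] [Group.IsSolvable G] (p : ℕ) [Fact p.Prime] (hp : p ≠ 2) (hpl : Cfsg.PLengthLE p 1 G) (E L : Subgroup G) (hE : Cfsg.IsElementaryAbelian p E)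
    (hEmax : ∀ B : Subgroup G, Cfsg.IsElementaryAbelian p B → E ≤ B → B = E) (hL : (Nat.card L).Coprime p) (hEL : E ≤ Subgroup.normalizer (L : Set G)) :
    L ≤ Cfsg.pPrimeCore p G := by
  refine Lib.OddLocal.le_pPrimeCore_of_omega_centralizer (Lib.PSolvable.isPSolvable_of_isSolvable) hp
    (Lib.ElemAbelian.isPGroup hE) hEL hL
    (Lib.OddLocal.le_pPrimePCore_of_pLengthLE_one hpl (Lib.ElemAbelian.isPGroup hE)) fun x hx hxp => ?_
  have h : Cfsg.IsElementaryAbelian p (E ⊔ Subgroup.zpowers x) :=
    Lib.ElemAbelian.sup hE (Lib.ElemAbelian.zpowers hxp) (fun a ha => by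
      rw [Subgroup.mem_centralizer_iff]
      rintro y ⟨k, rfl⟩
      exact ((Commute.symm (show Commute a x from Subgroup.mem_centralizer_iff.mp hx a ha)).zpow_left k).eq)
  exact hEmax _ h le_sup_left ▸ Subgroup.mem_sup_right (Subgroup.mem_zpowers x)

end Cfsg.Agent.S1462
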