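import Cfsg.Statements.S1463
import Mathlib
import Cfsg.Agent.Lib.OddStability.GLTwo

set_option autoImplicit false
open scoped MatrixGroups
open Cfsg

namespace Cfsg.Agent.S1463

open Matrix

theorem result {F : Type*} [Field F] (p : ℕ) [Fact p.Prime] [CharP F p] (hp : p ≠ 2)
    (H : Subgroup (GL (Fin 2) F)) [Finite H] (hodd : Odd (Nat.card H))
    (hirr : ∀ v : Fin 2 → F, v ≠ 0 → ∃ g ∈ H, (g : Matrix (Fin 2) (Fin 2) F).mulVec v ∉ Submodule.span F {v}) :
    ¬ p ∣ Nat.card H := by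
  intro hdvd
  let ρ : H →* Matrix (Fin 2) (Fin 2) F := (Units.coeHom _).comp H.subtype
  let δ : H →* F := (Matrix.detMonoidHom).comp ρ
  let K : Subgroup H := δ.ker
  let ρ' : K →* Matrix (Fin 2) (Fin 2) F := ρ.comp K.subtype
  have hinj : Function.Injective ρ' := fun a b h => Subtype.ext (Subtype.ext (Units.ext h))
  have hdet : ∀ g : K, (ρ' g).det = 1 := fun g => g.2
  have hp0 := (Fact.out : p.Prime)
  obtain ⟨u, hu⟩ := exists_prime_orderOf_dvd_card' p hdvd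
  have huK : u ∈ K := by
    show δ u = 1
    have h1 : (δ u - 1) ^ p = 0 := by
      rw [sub_pow_char, ← map_pow, ← hu, pow_orderOf_eq_one, map_one, one_pow, sub_self]
    exact sub_eq_zero.mp ((pow_eq_zero_iff hp0.ne_zero).mp h1)
  have hKdvd : p ∣ Nat.card K := hu ▸ K.orderOf_dvd_natCard huK
  have hKodd : Odd (Nat.card K) := hodd.of_dvd_nat (Subgroup.card_subgroup_dvd_card K)
  obtain ⟨v, hv, hline⟩ := Lib.OddStability.exists_line_of_dvd hp hinj hdet hKodd hKdvd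
  -- every `p`-element of `K` fixes `v`
  have hfix : ∀ k : K, k ^ p = 1 → ρ' k *ᵥ v = v := by
    intro k hk
    obtain ⟨c, -, hc⟩ := hline k
    have h1 := Lib.OddStability.pow_mulVec ρ' hc p
    rw [hk, map_one, Matrix.one_mulVec] at h1
    have hcp : c ^ p = 1 := by
      by_contra hne
      exact hv ((smul_eq_zero.mp (show (c ^ p - 1) • v = 0 by
        rw [sub_smul, one_smul, ← h1, sub_self])).resolve_left (sub_ne_zero.mpr hne))
    have hc1 : c = 1 := by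
      have : (c - 1) ^ p = 0 := by rw [sub_pow_char, hcp, one_pow, sub_self]
      exact sub_eq_zero.mp ((pow_eq_zero_iff hp0.ne_zero).mp this)
    rw [hc, hc1, one_smul]
  obtain ⟨g, hg, hgv⟩ := hirr v hv
  apply hgv
  have hu1 : u ≠ 1 := fun h => hp0.one_lt.ne (by rw [← hu, h, orderOf_one])
  have hup : u ^ p = 1 := hu ▸ pow_orderOf_eq_one u
  set h : H := ⟨g, hg⟩ with hh
  have hu' : h⁻¹ * u * h ∈ K := by
    show δ (h⁻¹ * u * h) = 1
    rw [map_mul, map_mul, show δ u = 1 from huK, mul_one, ← map_mul, inv_mul_cancel, map_one]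
  have h0 : ρ' ⟨u, huK⟩ *ᵥ v = v := hfix ⟨u, huK⟩ (Subtype.ext hup)
  have h1 : ρ' ⟨h⁻¹ * u * h, hu'⟩ *ᵥ v = v := hfix _ (Subtype.ext (by
    show (h⁻¹ * u * h) ^ p = 1
    rw [show h⁻¹ * u * h = h⁻¹ * u * h⁻¹⁻¹ by group, conj_pow, hup]; group))
  obtain ⟨c, hc⟩ := Lib.OddStability.mem_span_of_fixed (X := ρ' ⟨u, huK⟩)
    (fun h2 => hu1 (congrArg Subtype.val (hinj (h2.trans (map_one ρ').symm)))) hv h0
    (w := ρ h *ᵥ v) (by
      show ρ u *ᵥ (ρ h *ᵥ v) = ρ h *ᵥ v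
      rw [Matrix.mulVec_mulVec, ← map_mul, show u * h = h * (h⁻¹ * u * h) by group, map_mul,
        ← Matrix.mulVec_mulVec]
      exact congrArg (ρ h *ᵥ ·) h1)
  exact Submodule.mem_span_singleton.mpr ⟨c, hc.symm⟩

end Cfsg.Agent.S1463
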