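import Cfsg.Statements.S1464
import Mathlib
import Cfsg.Agent.Lib.OddStability.Stable

set_option autoImplicit false
open Cfsg

namespace Cfsg.Agent.S1464

theorem result {G : Type*} [Group G] [Finite G] [Group.IsSolvable G] (hodd : Odd (Nat.card G)) (p : ℕ) [Fact p.Prime] (hp : p ≠ 2) (P A : Subgroup G) (hP : IsPGroup p P) (hPn : (Cfsg.pPrimeCore p G ⊔ P).Normal)
    (hA : IsPGroup p A) (hAN : A ≤ Subgroup.normalizer (P : Set G)) (hquad : ⁅⁅P, A⁆, A⁆ = ⊥) :
    (A.subgroupOf (Subgroup.normalizer (P : Set G))).map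
        (QuotientGroup.mk' ((Subgroup.centralizer (P : Set G)).subgroupOf (Subgroup.normalizer (P : Set G))))
      ≤ Cfsg.pCore p _ := by
  rintro _ ⟨a, ha, rfl⟩
  have hq : ∀ x ∈ P, Commute (a : G) (x⁻¹ * (a * x * (a : G)⁻¹)) := by
    intro x hx
    have hmem : x⁻¹ * (a * x * (a : G)⁻¹) ∈ ⁅P, A⁆ := by
      have := Subgroup.commutator_mem_commutator (P.inv_mem hx) ha
      simpa [commutatorElement_def, mul_assoc] using this
    exact Subgroup.mem_centralizer_iff.mp
      (Subgroup.commutator_eq_bot_iff_le_centralizer.mp hquad hmem) a ha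
  obtain ⟨D, hD, haD, hDp⟩ := Lib.OddStability.exists_normal_pGroup_of_quadratic hp hP le_rfl
    (hodd.of_dvd_nat (Subgroup.card_subgroup_dvd_card _)) inferInstance hq
  haveI := hD
  haveI : (D.map (QuotientGroup.mk' ((Subgroup.centralizer (P : Set G)).subgroupOf
      (Subgroup.normalizer (P : Set G))))).Normal :=
    Subgroup.Normal.map hD _ (QuotientGroup.mk'_surjective _)
  refine Lib.PSolvable.le_pCore ?_ (Subgroup.mem_map_of_mem _ haD)
  rintro ⟨_, d, hd, rfl⟩
  obtain ⟨k, hk⟩ := hDp d hd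
  refine ⟨k, Subtype.ext ?_⟩
  show (QuotientGroup.mk' _ d) ^ p ^ k = 1
  rw [← map_pow, QuotientGroup.mk'_apply, QuotientGroup.eq_one_iff]
  exact hk

end Cfsg.Agent.S1464
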