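import Cfsg.Statements.S1466
import Mathlib
import Cfsg.Agent.Lib.Puig.Basic

set_option autoImplicit false
open Cfsg

namespace Cfsg.Agent.S1466

/-- Let p be a prime and R a nontrivial finite p-group. Then for every i > 0, Z(R) ≤ C_R(L_i(R)) ≤ L_i(R); likewise Z(R) ≤ C_R(L_*(R)) ≤ L_*(R) and Z(R) ≤ C_R(L(R)) ≤ L(R); and L(R) ≠ 1, L_*(R) ≠ 1. -/
theorem result {R : Type*} [Group R] [Finite R] (p : ℕ) [Fact p.Prime] (hR : IsPGroup p R) [Nontrivial R] :
    (∀ i : ℕ, 0 < i → Subgroup.center R ≤ Subgroup.centralizer ((Cfsg.puigSeq R i : Subgroup R) : Set R) ∧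
        Subgroup.centralizer ((Cfsg.puigSeq R i : Subgroup R) : Set R) ≤ Cfsg.puigSeq R i) ∧
      (Subgroup.center R ≤ Subgroup.centralizer ((Cfsg.puigLower R : Subgroup R) : Set R) ∧ Subgroup.centralizer ((Cfsg.puigLower R : Subgroup R) : Set R) ≤ Cfsg.puigLower R) ∧
      (Subgroup.center R ≤ Subgroup.centralizer ((Cfsg.puigSubgroup R : Subgroup R) : Set R) ∧ Subgroup.centralizer ((Cfsg.puigSubgroup R : Subgroup R) : Set R) ≤ Cfsg.puigSubgroup R) ∧
      Cfsg.puigSubgroup R ≠ ⊥ ∧ Cfsg.puigLower R ≠ ⊥ := by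
  have hc := Lib.Puig.center_le_centralizer (G := R)
  have h1 : ∀ X : Subgroup R, Subgroup.centralizer ((Cfsg.puigStep X : Subgroup R) : Set R) ≤ Cfsg.puigStep X :=
    fun X => Lib.Puig.centralizer_puigStep_le hR X
  have hsub : Subgroup.centralizer ((Cfsg.puigSubgroup R : Subgroup R) : Set R) ≤ Cfsg.puigSubgroup R := by
    rw [← Lib.Puig.puigStep_puigLower]; exact h1 _
  have hlow : Subgroup.centralizer ((Cfsg.puigLower R : Subgroup R) : Set R) ≤ Cfsg.puigLower R := by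
    rw [← Lib.Puig.puigStep_puigSubgroup]; exact h1 _
  have hne : Subgroup.center R ≠ ⊥ := ((bot_lt_iff_ne_bot).mp hR.bot_lt_center)
  refine ⟨fun i hi => ⟨hc _, ?_⟩, ⟨hc _, hlow⟩, ⟨hc _, hsub⟩, ?_, ?_⟩
  · obtain ⟨j, rfl⟩ := Nat.exists_eq_succ_of_ne_zero hi.ne'
    exact h1 _
  · exact fun h => hne (le_bot_iff.mp (((hc _).trans hsub).trans h.le))
  · exact fun h => hne (le_bot_iff.mp (((hc _).trans hlow).trans h.le))

end Cfsg.Agent.S1466

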