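import Cfsg.Statements.S1468
import Mathlib
import Cfsg.Agent.S1465
import Cfsg.Agent.Lib.Puig.Relative

set_option autoImplicit false
open Cfsg

namespace Cfsg.Agent.S1468

open Subgroup Lib.Puig

/-- The inductive comparison of the two series. -/
theorem puigIn_compare {G : Type*} [Group G] [Finite G] [Group.IsSolvable G] (hodd : Odd (Nat.card G)) (p : ℕ) [Fact p.Prime] (hp : p ≠ 2)
    (hO : Cfsg.pPrimeCore p G = ⊥) (S : Sylow p G) (n : ℕ) :
    puigIn (S : Subgroup G) (2 * n) ≤ puigIn (pCore p G) (2 * n) ∧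
      puigIn (pCore p G) (2 * n + 1) ≤ puigIn (S : Subgroup G) (2 * n + 1) := by
  set T := pCore p G with hT
  have hTp : IsPGroup p T := Lib.PSolvable.pCore_isPGroup
  have hTS : T ≤ (S : Subgroup G) := Lib.PSolvable.pCore_le_sylow S
  induction n with
  | zero => exact ⟨(puigIn_zero _).le.trans bot_le, by rw [puigIn_one, puigIn_one]; exact hTS⟩
  | succ n ih =>
    haveI : (puigIn T (2 * n + 1)).Normal := normalizer_eq_top_iff.mp (top_le_iff.mp
      ((normalizer_eq_top_iff.mpr (inferInstance : T.Normal)).ge.trans (normalizer_le_normalizer_puigIn T _)))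
    have hscT : T ⊓ centralizer (puigIn T (2 * n + 1) : Set G) ≤ puigIn T (2 * n + 1) := by
      intro x hx
      refine ⟨⟨x, hx.1⟩, centralizer_puigStep_le hTp (puigSeq T (2 * n)) ?_, rfl⟩
      rw [mem_centralizer_iff]
      intro y hy
      exact Subtype.ext (mem_centralizer_iff.mp hx.2 _ ⟨y, hy, rfl⟩)
    have hev : puigIn (S : Subgroup G) (2 * (n + 1)) ≤ puigIn T (2 * (n + 1)) := by
      refine puigIn_succ_le (n := 2 * n + 1) fun A hAS hA hn => ?_
      refine le_puigIn_succ ?_ hA (ih.2.trans hn)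
      have h := (S1465.result hodd p hp (puigIn T (2 * n + 1)) (hTp.to_le (puigIn_le _ _)) {A} (by
        rintro B rfl
        exact ⟨hA, S.2.to_le hAS, ih.2.trans hn⟩)).2 hO hscT
      exact (le_sSup (Set.mem_singleton A)).trans h
    refine ⟨hev, puigIn_succ_le (n := 2 * (n + 1)) fun A hAT hA hn => ?_⟩
    exact le_puigIn_succ (hAT.trans hTS) hA (hev.trans hn)

theorem result {G : Type*} [Group G] [Finite G] [Group.IsSolvable G] (hodd : Odd (Nat.card G)) (p : ℕ) [Fact p.Prime] (hp : p ≠ 2) (hO : Cfsg.pPrimeCore p G = ⊥) (S : Sylow p G) :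
    (Cfsg.puigLower ↥(S : Subgroup G)).map (S : Subgroup G).subtype ≤ (Cfsg.puigLower ↥(Cfsg.pCore p G)).map (Cfsg.pCore p G).subtype ∧
      (Cfsg.puigLower ↥(Cfsg.pCore p G)).map (Cfsg.pCore p G).subtype ≤ (Cfsg.puigSubgroup ↥(Cfsg.pCore p G)).map (Cfsg.pCore p G).subtype ∧
      (Cfsg.puigSubgroup ↥(Cfsg.pCore p G)).map (Cfsg.pCore p G).subtype ≤ (Cfsg.puigSubgroup ↥(S : Subgroup G)).map (S : Subgroup G).subtype := by
  obtain ⟨k, hk⟩ := exists_stableIn (S : Subgroup G)
  obtain ⟨l, hl⟩ := exists_stableIn (pCore p G)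
  obtain ⟨h1, h2⟩ := hk (max k l) (le_max_left _ _)
  obtain ⟨h3, h4⟩ := hl (max k l) (le_max_right _ _)
  obtain ⟨c1, c2⟩ := puigIn_compare hodd p hp hO S (max k l)
  exact ⟨h1.ge.trans (c1.trans h3.le), puigBot_le_puigTop _, h4.ge.trans (c2.trans h2.le)⟩

end Cfsg.Agent.S1468
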