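import Cfsg.Statements.S1469
import Mathlib
import Cfsg.Agent.S1468
import Cfsg.Agent.Lib.PSolvable.CoprimeQuot
import Cfsg.Agent.Lib.SZ.Card

set_option autoImplicit false
open Cfsg

namespace Cfsg.Agent.S1469

open Subgroup Lib.Puig

theorem centre_map_eq {G : Type*} [Group G] (S : Subgroup G) :
    ((center (puigSubgroup S)).map (puigSubgroup S).subtype).map S.subtype =
      puigTop S ⊓ centralizer (puigTop S : Set G) := by
  refine le_antisymm ?_ ?_
  · rintro _ ⟨_, ⟨z, hz, rfl⟩, rfl⟩
    refine ⟨⟨z.1, z.2, rfl⟩, mem_centralizer_iff.mpr ?_⟩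
    rintro _ ⟨y, hy, rfl⟩
    exact congrArg (fun w : puigSubgroup S => (w.1 : G)) (mem_center_iff.mp hz ⟨y, hy⟩)
  · rintro x ⟨⟨z, hz, rfl⟩, hc⟩
    refine ⟨z, ⟨⟨z, hz⟩, mem_center_iff.mpr fun y => ?_, rfl⟩, rfl⟩
    exact Subtype.ext (Subtype.ext (mem_centralizer_iff.mp hc _ ⟨y.1, y.2, rfl⟩))

theorem normalizer_le {G : Type*} [Group G] (L : Subgroup G) :
    normalizer (L : Set G) ≤ normalizer ((L ⊓ centralizer (L : Set G) : Subgroup G) : Set G) :=
  Lib.Coprime.le_normalizer_inf_centralizer le_rfl le_rfl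

theorem result {G : Type*} [Group G] [Finite G] [Group.IsSolvable G] (hodd : Odd (Nat.card G)) (p : ℕ) [Fact p.Prime] (hp : p ≠ 2) (S : Sylow p G) :
    Cfsg.pPrimeCore p G ⊔ Subgroup.normalizer ((((Subgroup.center ↥(Cfsg.puigSubgroup ↥(S : Subgroup G))).map (Cfsg.puigSubgroup ↥(S : Subgroup G)).subtype).map (S : Subgroup G).subtype : Subgroup G) : Set G) = ⊤ ∧
      (Cfsg.pPrimeCore p G = ⊥ → (((Subgroup.center ↥(Cfsg.puigSubgroup ↥(S : Subgroup G))).map (Cfsg.puigSubgroup ↥(S : Subgroup G)).subtype).map (S : Subgroup G).subtype).Normal) := by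
  -- the case of trivial `p'`-core
  have core : ∀ {G : Type _} [Group G] [Finite G] [Group.IsSolvable G] (_ : Odd (Nat.card G)) (S : Sylow p G),
      pPrimeCore p G = ⊥ →
      (puigTop (S : Subgroup G) ⊓ centralizer (puigTop (S : Subgroup G) : Set G)).Normal := by
    intro G _ _ _ hodd S hO
    obtain ⟨c1, c2, c3⟩ := S1468.result hodd p hp hO S
    set L := puigTop (S : Subgroup G) with hL
    set Z := L ⊓ centralizer (L : Set G) with hZ
    set T := pCore p G with hT
    haveI hLT : (puigTop T).Normal := by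
      rw [← normalizer_eq_top_iff, eq_top_iff, ← normalizer_eq_top_iff.mpr (inferInstance : T.Normal)]
      exact Lib.Coprime.normalizer_le_normalizer_map_of_characteristic (hC := by
        obtain ⟨k, hk⟩ := Lib.Puig.exists_stable (G := T)
        rw [← (hk k le_rfl).2]; infer_instance) (puigSubgroup T)
    have hZc : IsMulCommutative Z :=
      ⟨⟨fun x y => Subtype.ext (mem_centralizer_iff.mp y.2.2 x x.2.1)⟩⟩
    have hZbot : Z ≤ puigBot (S : Subgroup G) :=
      le_puigBot_of_normalized (inf_le_left.trans (puigTop_le _)) hZc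
        (le_normalizer.trans (normalizer_le L))
    set ZT := puigTop T ⊓ centralizer (puigTop T : Set G) with hZT
    have hZle : Z ≤ ZT :=
      le_inf ((hZbot.trans c1).trans c2) (inf_le_right.trans (centralizer_le c3))
    have : ZT.Normal := by
      rw [← normalizer_eq_top_iff, eq_top_iff, ← normalizer_eq_top_iff.mpr hLT]
      exact normalizer_le _
    set W := normalClosure (Z : Set G) with hW
    have hWle : W ≤ ZT := normalClosure_le_normal hZle
    have hWS : W ≤ (S : Subgroup G) :=
      hWle.trans (inf_le_left.trans ((puigTop_le T).trans (Lib.PSolvable.pCore_le_sylow S)))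
    have hWbot : W ≤ puigBot (S : Subgroup G) := by
      intro w hw
      have hcen : ∀ y ∈ puigLower (S : Subgroup G), y * (⟨w, hWS hw⟩ : (S : Subgroup G)) = ⟨w, hWS hw⟩ * y :=
        fun y hy => Subtype.ext (mem_centralizer_iff.mp (hWle hw).2 _ (c2 (c1 ⟨y, hy, rfl⟩)))
      refine ⟨⟨w, hWS hw⟩, ?_, rfl⟩
      rw [← Lib.Puig.puigStep_puigSubgroup (G := (S : Subgroup G))]
      refine Lib.Puig.centralizer_puigStep_le S.2 _ ?_
      rw [Lib.Puig.puigStep_puigSubgroup, mem_centralizer_iff]
      exact hcen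
    set C := centralizer (W : Set G) with hC
    set D := (pCore p (G ⧸ C)).comap (QuotientGroup.mk' C) with hD
    have hLD : L ≤ D := by
      refine puigTop_le_of_normalized fun A hAS hA hn => ?_
      have h := (S1465.result hodd p hp W (S.2.to_le hWS) {A} (by
        rintro B rfl
        exact ⟨hA, S.2.to_le hAS, hWbot.trans hn⟩)).1
      exact (le_sSup (Set.mem_singleton A)).trans (map_le_iff_le_comap.mp h)
    set U := (S : Subgroup G) ⊓ D with hU
    have hUidx : ¬ p ∣ U.relIndex D := by
      intro hd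
      have h1 := Lib.SZ.card_sup_mul_card_inf (S : Subgroup G) D
      have h2 := Lib.PSolvable.card_mul_relIndex (inf_le_right : U ≤ D)
      have h3 := Lib.PSolvable.card_mul_relIndex (le_sup_left : (S : Subgroup G) ≤ (S : Subgroup G) ⊔ D)
      rw [← h2, ← h3, ← hU] at h1
      have h4 : (S : Subgroup G).relIndex ((S : Subgroup G) ⊔ D) = U.relIndex D :=
        mul_left_cancel₀ (mul_ne_zero (Nat.card_pos (α := (S : Subgroup G))).ne' (Nat.card_pos (α := U)).ne') (by linarith)
      rw [← h4] at hd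
      exact S.not_dvd_index (hd.trans (relIndex_dvd_index_of_le le_sup_left))
    let P : Sylow p D := ((S.2.to_le inf_le_left : IsPGroup p U).comap_subtype : IsPGroup p (U.subgroupOf D)).toSylow hUidx
    have hfr := Sylow.normalizer_sup_eq_top P
    have hPmap : (P : Subgroup D).map D.subtype = U := by
      show (U.subgroupOf D).map D.subtype = U
      rw [subgroupOf_map_subtype, inf_eq_left.mpr inf_le_right]
    rw [hPmap] at hfr
    have hNU : normalizer (U : Set G) ≤ normalizer (Z : Set G) := by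
      have hUL : puigTop U = L := puigTop_eq_of_le (le_inf (puigTop_le _) hLD) inf_le_left
      refine le_trans ?_ (normalizer_le L)
      rw [← hUL]
      exact Lib.Coprime.normalizer_le_normalizer_map_of_characteristic (hC := by
        obtain ⟨k, hk⟩ := Lib.Puig.exists_stable (G := U)
        rw [← (hk k le_rfl).2]; infer_instance) (puigSubgroup U)
    have hCN : C ≤ normalizer (Z : Set G) :=
      (centralizer_le (le_normalClosure (H := Z))).trans (centralizer_le_normalizer _)
    have hDle : D ≤ C ⊔ U := by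
      rw [← relIndex_eq_one]
      have hd1 : (C ⊔ U).relIndex D ∣ U.relIndex D := relIndex_dvd_of_le_left D le_sup_right
      have hd2 : (C ⊔ U).relIndex D ∣ C.relIndex D := relIndex_dvd_of_le_left D le_sup_left
      obtain ⟨n, hn⟩ := IsPGroup.iff_card.mp (Lib.PSolvable.pCore_isPGroup (p := p) (G := G ⧸ C))
      have hCD : C.relIndex D = p ^ n := by
        have h1 := relIndex_comap (⊥ : Subgroup (G ⧸ C)) (QuotientGroup.mk' C) D
        rw [MonoidHom.comap_bot, QuotientGroup.ker_mk'] at h1
        rw [h1, relIndex_bot_left, hD, map_comap_eq_self_of_surjective (QuotientGroup.mk'_surjective C), hn]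
      refine Nat.eq_one_of_dvd_coprimes ?_ hd1 (hCD ▸ hd2)
      exact (((Fact.out : p.Prime).coprime_iff_not_dvd.mpr hUidx).pow_left n).symm
    rw [← normalizer_eq_top_iff, eq_top_iff, ← hfr, sup_le_iff]
    exact ⟨hNU, hDle.trans (sup_le hCN ((le_normalizer (H := U)).trans hNU))⟩
  rw [centre_map_eq]
  refine ⟨?_, fun hO => core hodd S hO⟩
  set N := pPrimeCore p G with hN
  set f := QuotientGroup.mk' N with hf
  have : Group.IsSolvable (G ⧸ N) := Group.isSolvable_of_surjective (QuotientGroup.mk'_surjective N)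
  set L := puigTop (S : Subgroup G) with hL
  set Z := L ⊓ centralizer (L : Set G) with hZ
  have hinj : Set.InjOn f (S : Subgroup G) := by
    intro x hx y hy hxy
    have h1 : x⁻¹ * y ∈ (S : Subgroup G) ⊓ N := ⟨(S : Subgroup G).mul_mem ((S : Subgroup G).inv_mem hx) hy, QuotientGroup.eq.mp hxy⟩
    rw [Lib.PSolvable.inf_eq_bot_of_isPGroup_of_coprime S.2 Lib.PSolvable.pPrimeCore_coprime, mem_bot,
      inv_mul_eq_one] at h1
    exact h1
  have hLmap : L.map f = puigTop (((S.mapSurjective (QuotientGroup.mk'_surjective N)) : Sylow p (G ⧸ N)) : Subgroup (G ⧸ N)) := by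
    rw [hL, puigTop_map f _ hinj, Sylow.coe_mapSurjective]
  have hZmap : Z.map f = L.map f ⊓ centralizer ((L.map f : Subgroup (G ⧸ N)) : Set (G ⧸ N)) := by
    refine le_antisymm ?_ ?_
    · rintro _ ⟨z, hz, rfl⟩
      refine ⟨⟨z, hz.1, rfl⟩, mem_centralizer_iff.mpr ?_⟩
      rintro _ ⟨y, hy, rfl⟩
      rw [← map_mul, ← map_mul, mem_centralizer_iff.mp hz.2 y hy]
    · rintro x ⟨⟨z, hz, rfl⟩, hc⟩
      refine ⟨z, ⟨hz, mem_centralizer_iff.mpr fun y hy => ?_⟩, rfl⟩
      have hzS := puigTop_le _ hz
      have hyS := puigTop_le _ hy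
      refine hinj (mul_mem hyS hzS) (mul_mem hzS hyS) ?_
      rw [map_mul, map_mul]
      exact mem_centralizer_iff.mp hc _ ⟨y, hy, rfl⟩
  have hnorm : (Z.map f).Normal := by
    rw [hZmap, hLmap]
    exact core (hodd.of_dvd_nat (card_quotient_dvd_card N)) _ Lib.PSolvable.pPrimeCore_quotient_eq_bot
  have h := Lib.PSolvable.normalizer_map_mk' N Lib.PSolvable.pPrimeCore_coprime
    (S.2.to_le (inf_le_left.trans (puigTop_le _)) : IsPGroup p Z)
  rw [normalizer_eq_top_iff.mpr hnorm] at h
  have h2 := congrArg (comap (QuotientGroup.mk' N)) h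
  rw [comap_top, comap_map_eq, QuotientGroup.ker_mk', sup_comm] at h2
  exact h2.symm

end Cfsg.Agent.S1469
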