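import Cfsg.Statements.S1476
import Mathlib
import Cfsg.Agent.Lib.CNSolvable.ThreeStep
import Cfsg.Agent.Lib.CNSolvable.Complement

set_option autoImplicit false
open Cfsg

namespace Cfsg.Agent.S1476

/-- Let G be a finite solvable group in which every non-identity element has nilpotent centralizer. Then either G is nilpotent; or G has a normal subgroup K with a Frobenius complement E (K E = G, K ∩ E = 1, E meets its conjugates by outside elements trivially) such that E is cyclic or E is generated by two elementwise-commuting subgroups, one cyclic of odd order and one isomorphic to a generalized quaternion group; or G is a three-step group with respect to some prime p. -/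
theorem result {G : Type*} [Group G] [Finite G] [Group.IsSolvable G] (hCN : Cfsg.IsCNGroup G) :
    Group.IsNilpotent G ∨
      (∃ K E : Subgroup G, K.Normal ∧ Subgroup.IsComplement' K E ∧ Cfsg.IsFrobeniusComplement E ∧
        (IsCyclic E ∨ ∃ C Q : Subgroup G, C ⊔ Q = E ∧ (∀ a ∈ C, ∀ b ∈ Q, a * b = b * a) ∧ IsCyclic C ∧ Odd (Nat.card C) ∧
          ∃ n : ℕ, Nonempty (↥Q ≃* QuaternionGroup (2 ^ n)))) ∨
      ∃ p : ℕ, p.Prime ∧ Cfsg.IsThreeStepGroup p G := by
  classical
  by_cases hnn : Group.IsNilpotent G
  · exact Or.inl hnn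
  refine Or.inr ?_
  by_cases hex : ∃ (p : ℕ) (_ : Fact p.Prime) (P : Sylow p G),
      (P : Subgroup G).Normal ∧ (P : Subgroup G) ≠ ⊥
  · obtain ⟨p, hp, P, hPn, hP1⟩ := hex
    haveI := hp
    obtain ⟨E, hE, hF, hEn, hfpf⟩ :=
      Cfsg.Agent.Lib.CNSolvable.exists_frobenius hCN hnn p P hP1 hPn
    exact Or.inl ⟨Cfsg.fittingHall G, E, inferInstance, hE, hF,
      Cfsg.Agent.Lib.CNSolvable.nilpotent_complement_structure hE
        (Cfsg.Agent.Lib.CNSolvable.fittingHall_ne hnn p P hP1 hPn).1
        Cfsg.Agent.Lib.CNSolvable.isNilpotent_fittingHall hEn hfpf⟩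
  · push Not at hex
    haveI : Nontrivial G := by
      by_contra h
      rw [not_nontrivial_iff_subsingleton] at h
      exact hnn inferInstance
    obtain ⟨p, hp, hC, hR⟩ := Cfsg.Agent.Lib.CNSolvable.exists_centralizer_pCore_le hCN
      (fun p hp P hPn => hex p hp P hPn)
    haveI := hp
    obtain ⟨S⟩ := (inferInstance : Nonempty (Sylow p G))
    refine Or.inr ⟨p, hp.out, Cfsg.Agent.Lib.CNSolvable.isThreeStepGroup hCN hC hR S fun e => hR ?_⟩
    rw [← e]
    exact hex p hp S (by rw [e]; infer_instance)

end Cfsg.Agent.S1476
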