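import Cfsg.Statements.S1480
import Mathlib
import Cfsg.Agent.Lib.OddLocal.PiCore
import Cfsg.Agent.Lib.Coprime.Sylow
import Cfsg.Agent.Lib.Transitivity.Constrained
import Cfsg.Agent.Lib.Transitivity.Noncyclic

set_option autoImplicit false
open Cfsg

namespace Cfsg.Agent.S1480

open Subgroup

variable {G : Type*} [Group G]

theorem class_two_subgroups [Finite G] {p : ℕ} [Fact p.Prime]
    (h : ∀ S : Sylow p G, Group.IsNilpotent (S : Subgroup G) ∧ Group.nilpotencyClass (S : Subgroup G) ≤ 2)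
    (U : Subgroup G) (hU : IsPGroup p U) : ⁅⁅U, U⁆, U⁆ = ⊥ := by
  obtain ⟨S, hS⟩ := hU.exists_le_sylow
  obtain ⟨hnil, hc⟩ := h S
  haveI := hnil
  have h0 : (⊤ : Subgroup (S : Subgroup G)).lowerCentralSeries 2 = ⊥ :=
    Subgroup.lowerCentralSeries_eq_bot_iff_nilpotencyClass_le.mpr hc
  refine le_bot_iff.mp ((commutator_mono (commutator_mono hS hS) hS).trans ?_)
  have h1 := congrArg (Subgroup.map (S : Subgroup G).subtype) h0
  rw [Subgroup.map_bot, Subgroup.lowerCentralSeries_succ, Subgroup.lowerCentralSeries_succ,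
    Subgroup.map_commutator, Subgroup.map_commutator, Subgroup.lowerCentralSeries_zero,
    ← MonoidHom.range_eq_map, Subgroup.range_subtype] at h1
  exact h1.le

/-- A `p'`-element of `C(E)` lies in the `p'`-core of `C(E)`. -/
theorem mem_core_centralizer [Finite G] {p : ℕ} [Fact p.Prime] {E : Subgroup G} (hEp : IsPGroup p E)
    (hEc : IsMulCommutative E)
    (hEfull : ∀ x ∈ centralizer (E : Set G), IsPGroup p (zpowers x) → x ∈ E)
    {x : G} (hx : x ∈ centralizer (E : Set G)) (hxp : (orderOf x).Coprime p) :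
    x ∈ piCoreOf (primesNotDvd p) (centralizer (E : Set G)) := by
  set C := centralizer (E : Set G) with hC
  have hEC : E ≤ C := fun a ha => mem_centralizer_iff.mpr fun b hb =>
    congrArg Subtype.val (mul_comm' (⟨b, hb⟩ : E) ⟨a, ha⟩)
  obtain ⟨S, hS⟩ := (show IsPGroup p (E.subgroupOf C) from hEp.comap_subtype).exists_le_sylow
  have hSE : (S : Subgroup C) ≤ E.subgroupOf C := by
    intro y hy
    refine hEfull y y.2 ?_
    have h1 : IsPGroup p ((S : Subgroup C).map C.subtype) := S.2.map _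
    exact h1.to_le (zpowers_le.mpr ⟨y, hy, rfl⟩)
  have hcen : normalizer ((S : Subgroup C) : Set C) ≤ centralizer ((S : Subgroup C) : Set C) := by
    intro n _
    rw [mem_centralizer_iff]
    intro s hs
    exact Subtype.ext (mem_centralizer_iff.mp n.2 _ (hSE hs))
  set N := (MonoidHom.transferSylow S hcen).ker with hN
  have hxN : (⟨x, hx⟩ : C) ∈ N := by
    rw [hN, MonoidHom.mem_ker]
    set y := MonoidHom.transferSylow S hcen ⟨x, hx⟩ with hy
    obtain ⟨k, hk⟩ := S.2 y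
    rw [← orderOf_eq_one_iff]
    refine Nat.eq_one_of_dvd_coprimes (hxp.pow_right k) ?_ (orderOf_dvd_of_pow_eq_one hk)
    have := orderOf_map_dvd (MonoidHom.transferSylow S hcen) (⟨x, hx⟩ : C)
    rwa [← Subgroup.orderOf_coe (⟨x, hx⟩ : C)] at this
  refine ⟨⟨x, hx⟩, ?_, rfl⟩
  refine (show N ≤ piCore (primesNotDvd p) C from le_sSup ⟨MonoidHom.normal_ker _, ?_⟩) hxN
  intro r hr hrd
  refine ⟨hr, fun hrp => ?_⟩
  obtain rfl := (Nat.prime_dvd_prime_iff_eq hr Fact.out).mp hrp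
  exact MonoidHom.not_dvd_card_ker_transferSylow S hcen hrd

theorem mem_invSubgroups_iff [Finite G] {q : ℕ} [Fact q.Prime] {E Y : Subgroup G} :
    Y ∈ invSubgroups ⊤ E {q} ↔ IsPGroup q Y ∧ E ≤ normalizer (Y : Set G) := by
  constructor
  · rintro ⟨-, h1, h2⟩
    refine ⟨IsPGroup.iff_card.mpr ⟨_, Nat.eq_prime_pow_of_unique_prime_dvd Nat.card_pos.ne' ?_⟩, h2⟩
    intro r hr hrd
    exact Set.mem_singleton_iff.mp (h1 r hr hrd)
  · rintro ⟨h1, h2⟩
    refine ⟨le_top, fun r hr hrd => ?_, h2⟩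
    obtain ⟨n, hn⟩ := IsPGroup.iff_card.mp h1
    exact (Nat.prime_dvd_prime_iff_eq hr Fact.out).mp (hr.dvd_of_dvd_pow (hn ▸ hrd))

theorem conj_normalizes [Finite G] {E Y : Subgroup G} {k : G} (hk : k ∈ centralizer (E : Set G))
    (hY : E ≤ normalizer (Y : Set G)) :
    E ≤ normalizer ((Y.map (MulAut.conj k).toMonoidHom : Subgroup G) : Set G) := by
  intro e he
  refine Lib.PSolvable.mem_normalizer_of_conj_mem ?_
  rintro _ ⟨y, hy, rfl⟩
  refine ⟨e * y * e⁻¹, (mem_normalizer_iff.mp (hY he) y).mp hy, ?_⟩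
  have h : Commute e k := mem_centralizer_iff.mp hk e he
  show k * (e * y * e⁻¹) * k⁻¹ = e * (k * y * k⁻¹) * e⁻¹
  calc k * (e * y * e⁻¹) * k⁻¹ = (k * e) * y * (e⁻¹ * k⁻¹) := by group
    _ = (e * k) * y * (k⁻¹ * e⁻¹) := by rw [h.eq, h.inv_inv.eq]
    _ = e * (k * y * k⁻¹) * e⁻¹ := by group

theorem map_conj_map (Y : Subgroup G) (a b : G) :
    (Y.map (MulAut.conj a).toMonoidHom).map (MulAut.conj b).toMonoidHom =
      Y.map (MulAut.conj (b * a)).toMonoidHom := by
  rw [Subgroup.map_map]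
  congr 1
  ext y
  simp [mul_assoc]

theorem conj_mem_max [Finite G] {q : ℕ} [Fact q.Prime] {E Y : Subgroup G} {k : G}
    (hk : k ∈ centralizer (E : Set G)) (hY : Y ∈ maxInvSubgroups ⊤ E {q}) :
    Y.map (MulAut.conj k).toMonoidHom ∈ maxInvSubgroups ⊤ E {q} := by
  obtain ⟨hY1, hY2⟩ := mem_invSubgroups_iff.mp hY.1
  refine ⟨mem_invSubgroups_iff.mpr ⟨hY1.map _, conj_normalizes hk hY2⟩, fun R hR hle => ?_⟩
  obtain ⟨hR1, hR2⟩ := mem_invSubgroups_iff.mp hR
  have h := hY.2 (R.map (MulAut.conj k⁻¹).toMonoidHom)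
    (mem_invSubgroups_iff.mpr ⟨hR1.map _, conj_normalizes (inv_mem hk) hR2⟩) ?_
  · rw [← h, map_conj_map, mul_inv_cancel]
    ext y; simp
  · intro y hy
    exact ⟨k * y * k⁻¹, hle ⟨y, hy, rfl⟩, by simp [mul_assoc]⟩

theorem exists_max_ge [Finite G] {q : ℕ} [Fact q.Prime] {E Y : Subgroup G}
    (hY : Y ∈ invSubgroups ⊤ E {q}) : ∃ T ∈ maxInvSubgroups ⊤ E {q}, Y ≤ T := by
  obtain ⟨T, hYT, hT, hmax⟩ := Finite.exists_le_maximal
    (p := fun T : Subgroup G => T ∈ invSubgroups ⊤ E {q}) hY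
  exact ⟨T, ⟨hT, fun R hR h => le_antisymm (hmax hR h) h⟩, hYT⟩

/-- Two commuting elements of order `p` generate at most `p²` elements. -/
theorem card_pair {p : ℕ} [Fact p.Prime] [Finite G] {a b : G} (ha : a ^ p = 1) (hb : b ^ p = 1)
    (hab : Commute a b) :
    Nat.card ↥(zpowers a ⊔ zpowers b) ≤ p ^ 2 ∧
      (a ≠ 1 → b ∉ zpowers a → Nat.card ↥(zpowers a ⊔ zpowers b) = p ^ 2) := by
  have hp := (Fact.out : p.Prime)
  have hcomm : ∀ (u : zpowers a) (v : zpowers b),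
      Commute ((zpowers a).subtype u) ((zpowers b).subtype v) := by
    rintro ⟨_, i, rfl⟩ ⟨_, j, rfl⟩
    exact hab.zpow_zpow i j
  set f := MonoidHom.noncommCoprod (zpowers a).subtype (zpowers b).subtype hcomm with hf
  have hrange : f.range = zpowers a ⊔ zpowers b := by
    rw [hf, MonoidHom.noncommCoprod_range, range_subtype, range_subtype]
  have hle : ∀ {c : G}, c ^ p = 1 → orderOf c ≤ p := fun h =>
    Nat.le_of_dvd hp.pos (orderOf_dvd_of_pow_eq_one h)
  refine ⟨?_, fun ha1 hba => ?_⟩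
  · rw [← hrange]
    refine (Nat.card_le_card_of_surjective _ f.rangeRestrict_surjective).trans ?_
    rw [Nat.card_prod, Nat.card_zpowers, Nat.card_zpowers, pow_two]
    exact Nat.mul_le_mul (hle ha) (hle hb)
  · have hb1 : b ≠ 1 := fun h => hba (h ▸ one_mem _)
    have hinj : Function.Injective f := by
      rw [injective_iff_map_eq_one]
      rintro ⟨⟨u, hu⟩, ⟨v, hv⟩⟩ h
      have h' : u * v = 1 := h
      have hv1 : v = 1 := by
        by_contra hv1
        obtain ⟨j, rfl⟩ := hv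
        apply hba
        have hva : b ^ j ∈ zpowers a := by
          rw [show b ^ j = u⁻¹ from (eq_inv_of_mul_eq_one_right h')]
          exact inv_mem hu
        have hcop : IsCoprime j (p : ℤ) := by
          refine ((Int.prime_iff_natAbs_prime.mpr (by simpa using hp)).coprime_iff_not_dvd.mpr
            fun hd => hv1 ?_).symm
          obtain ⟨l, rfl⟩ := hd
          show b ^ ((p : ℤ) * l) = 1
          rw [zpow_mul, zpow_natCast, hb, one_zpow]
        obtain ⟨s, t, hst⟩ := hcop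
        have : b = (b ^ j) ^ s := calc
          b = b ^ (s * j + t * (p : ℤ)) := by rw [hst, zpow_one]
          _ = (b ^ j) ^ s := by
            rw [zpow_add, mul_comm s, zpow_mul, mul_comm t, zpow_mul b (p : ℤ), zpow_natCast, hb,
              one_zpow, mul_one]
        rw [this]
        exact zpow_mem hva s
      subst hv1
      rw [mul_one] at h'
      subst h'
      rfl
    rw [← hrange, ← Nat.card_congr (MonoidHom.ofInjective hinj).toEquiv, Nat.card_prod,
      Nat.card_zpowers, Nat.card_zpowers, orderOf_eq_prime ha ha1, orderOf_eq_prime hb hb1, pow_two]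

/-- Inside an elementary abelian group `A` of order `p³` acting on a solvable `p'`-group `W`,
`W ⊄ D`, some subgroup of order `p²` of `A` has its fixed points outside `D`. -/
theorem exists_hyperplane [Finite G] {p : ℕ} [Fact p.Prime] {A W D : Subgroup G}
    (hAc : ∀ a ∈ A, ∀ b ∈ A, Commute a b) (hAp : ∀ a ∈ A, a ^ p = 1) (hA : p ^ 2 < Nat.card A)
    (hW : Group.IsSolvable W) (hWp : (Nat.card W).Coprime p) (hAW : A ≤ normalizer (W : Set G))
    (hWD : ¬ W ≤ D) :
    ∃ B ≤ A, Nat.card B = p ^ 2 ∧ ¬ W ⊓ centralizer (B : Set G) ≤ D := by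
  have hp := (Fact.out : p.Prime)
  have hbig : ∀ a b : G, a ∈ A → b ∈ A → ∃ c ∈ A, c ∉ zpowers a ⊔ zpowers b := by
    intro a b ha hb
    by_contra h
    push Not at h
    have h2 := (card_le_of_le (show A ≤ zpowers a ⊔ zpowers b from h)).trans
      (card_pair (hAp a ha) (hAp b hb) (hAc a ha b hb)).1
    omega
  have step : ∀ (c0 : G) (W' : Subgroup G), c0 ∈ A → A ≤ normalizer (W' : Set G) → W' ≤ W →
      ¬ W' ≤ D → ∃ c ∈ A, c ≠ 1 ∧ (c0 ≠ 1 → c ∉ zpowers c0) ∧ ¬ W' ⊓ centralizer ({c} : Set G) ≤ D := by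
    intro c0 W' hc0 hAW' hle hW'D
    obtain ⟨b, hb, hb'⟩ := hbig c0 c0 hc0 hc0
    rw [sup_idem] at hb'
    obtain ⟨a, ha, ha'⟩ := hbig c0 b hc0 hb
    have hb1 : b ≠ 1 := fun h => hb' (h ▸ one_mem _)
    have hind : a ∉ zpowers b := fun h => ha' (mem_sup_right h)
    by_contra hcon
    push Not at hcon
    refine hW'D (Lib.Transitivity.le_of_centralizers_le (hAp a ha) (hAp b hb) (hAc a ha b hb) hb1
      hind (Lib.Coprime.isSolvable_of_le hle hW) (hWp.coprime_dvd_left (card_dvd_of_le hle))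
      (hAW' ha) (hAW' hb) fun i j hij => ?_)
    refine hcon _ (mul_mem (pow_mem ha i) (pow_mem hb j)) hij ?_
    intro hc01 hmem
    -- then `a ∈ ⟨c0, b⟩` or `b ∈ ⟨c0⟩`
    have hai : a ^ i ∈ zpowers c0 ⊔ zpowers b := by
      have h1 := mul_mem (mem_sup_left hmem : _ ∈ zpowers c0 ⊔ zpowers b)
        (mem_sup_right (inv_mem (npow_mem_zpowers b j)))
      simpa using h1
    by_cases hi : p ∣ i
    · obtain ⟨l, rfl⟩ := hi
      rw [pow_mul, hAp a ha, one_pow, one_mul] at hmem hij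
      apply hb'
      have hcop : Nat.Coprime j p := (hp.coprime_iff_not_dvd.mpr fun hd => hij (by
        obtain ⟨l, rfl⟩ := hd
        rw [pow_mul, hAp b hb, one_pow])).symm
      obtain ⟨t, ht⟩ := exists_pow_eq_self_of_coprime (x := b) (n := j)
        (hcop.coprime_dvd_right (orderOf_dvd_of_pow_eq_one (hAp b hb)))
      exact ht ▸ pow_mem hmem t
    · apply ha'
      obtain ⟨t, ht⟩ := exists_pow_eq_self_of_coprime (x := a) (n := i)
        (((hp.coprime_iff_not_dvd.mpr hi).symm).coprime_dvd_right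
          (orderOf_dvd_of_pow_eq_one (hAp a ha)))
      exact ht ▸ pow_mem hai t
  obtain ⟨c1, hc1, hc11, -, hW1⟩ := step 1 W (one_mem A) hAW le_rfl hWD
  have hAW1 : A ≤ normalizer ((W ⊓ centralizer ({c1} : Set G) : Subgroup G) : Set G) := by
    intro a ha
    refine Lib.PSolvable.mem_normalizer_of_conj_mem fun y hy => ?_
    refine ⟨(mem_normalizer_iff.mp (hAW ha) y).mp hy.1, ?_⟩
    refine mem_centralizer_singleton_iff.mpr ?_
    have h1 : y * c1 = c1 * y := mem_centralizer_singleton_iff.mp hy.2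
    have h2 : Commute a c1 := hAc a ha c1 hc1
    exact ((h2.mul_left (show Commute y c1 from h1)).mul_left h2.inv_left).eq
  obtain ⟨c2, hc2, -, hc2', hW2⟩ := step c1 _ hc1 hAW1 inf_le_left hW1
  refine ⟨zpowers c1 ⊔ zpowers c2, sup_le (zpowers_le.mpr hc1) (zpowers_le.mpr hc2),
    (card_pair (hAp c1 hc1) (hAp c2 hc2) (hAc c1 hc1 c2 hc2)).2 hc11 (hc2' hc11), fun h => hW2 ?_⟩
  refine le_trans ?_ h
  rintro y ⟨⟨hyW, hy1⟩, hy2⟩
  refine ⟨hyW, ?_⟩
  have : zpowers c1 ⊔ zpowers c2 ≤ centralizer ({y} : Set G) :=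
    sup_le (zpowers_le.mpr (mem_centralizer_singleton_iff.mpr (mem_centralizer_singleton_iff.mp hy1).symm))
      (zpowers_le.mpr (mem_centralizer_singleton_iff.mpr (mem_centralizer_singleton_iff.mp hy2).symm))
  refine mem_centralizer_iff.mpr fun z hz => ?_
  exact mem_centralizer_singleton_iff.mp (this hz)

/-- The local step: two `E`-invariant `q`-subgroups of `N(D) ∩ C(a)`, `a ∈ E` of order `p`, can be
moved into one maximal `E`-invariant `q`-subgroup containing `D`. -/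
theorem local_step [Finite G] {p : ℕ} [Fact p.Prime]
    (hloc : ∀ T : Subgroup G, IsPGroup p T → T ≠ ⊥ → IsPConstrained p ↥(normalizer (T : Set G)))
    (h2 : p = 2 → ∀ S : Subgroup G, IsPGroup p S → ⁅⁅S, S⁆, S⁆ = ⊥)
    {E : Subgroup G} (hEp : IsPGroup p E) (hEc : IsMulCommutative E)
    (hEfull : ∀ x ∈ centralizer (E : Set G), IsPGroup p (zpowers x) → x ∈ E)
    {q : ℕ} [Fact q.Prime] (hqp : q ≠ p) {a : G} (ha : a ∈ E) (hap : a ^ p = 1) (ha1 : a ≠ 1)
    {D X₁ X₂ : Subgroup G} (hD : IsPGroup q D) (hED : E ≤ normalizer (D : Set G))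
    (hX₁ : IsPGroup q X₁) (hX₂ : IsPGroup q X₂)
    (hEX₁ : E ≤ normalizer (X₁ : Set G)) (hEX₂ : E ≤ normalizer (X₂ : Set G))
    (hX₁a : X₁ ≤ centralizer ({a} : Set G)) (hX₂a : X₂ ≤ centralizer ({a} : Set G))
    (hX₁D : X₁ ≤ normalizer (D : Set G)) (hX₂D : X₂ ≤ normalizer (D : Set G)) :
    ∃ T ∈ maxInvSubgroups ⊤ E {q}, ∃ c ∈ piCoreOf (primesNotDvd p) (centralizer (E : Set G)),
      X₁ ⊔ D ≤ T ∧ X₂ ⊔ D ≤ T.map (MulAut.conj c).toMonoidHom := by
  have hZp : IsPGroup p (zpowers a) := hEp.to_le (zpowers_le.mpr ha)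
  have hZ1 : zpowers a ≠ ⊥ := zpowers_ne_bot.mpr ha1
  set H := normalizer ((zpowers a : Subgroup G) : Set G) with hH
  have hCH : ∀ g : G, g * a = a * g → g ∈ H := fun g hg =>
    centralizer_le_normalizer _ (mem_centralizer_iff.mpr (by
      rintro _ ⟨k, rfl⟩
      exact ((show Commute a g from hg.symm).zpow_left k).eq))
  have hEH : E ≤ H := fun e he => hCH e (congrArg Subtype.val (mul_comm' (⟨e, he⟩ : E) ⟨a, ha⟩))
  set O := (pPrimeCore p H).map H.subtype with hO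
  have hEO : E ≤ normalizer (O : Set G) := fun e he =>
    Lib.PSolvable.mem_normalizer_of_conj_mem (by
      rintro _ ⟨y, hy, rfl⟩
      exact ⟨⟨e, hEH he⟩ * y * ⟨e, hEH he⟩⁻¹,
        (inferInstance : (pPrimeCore p H).Normal).conj_mem y hy _, rfl⟩)
  have hOp : (Nat.card O).Coprime p :=
    Nat.Coprime.coprime_dvd_left (card_map_dvd _ _) Lib.PSolvable.pPrimeCore_coprime
  have hqcop : ∀ {Y : Subgroup G}, IsPGroup q Y → (Nat.card Y).Coprime p := by
    intro Y hY
    obtain ⟨n, hn⟩ := IsPGroup.iff_card.mp hY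
    exact hn ▸ (Nat.Coprime.pow_left n ((Nat.coprime_primes Fact.out Fact.out).mpr hqp))
  have hin : ∀ {X : Subgroup G}, IsPGroup q X → E ≤ normalizer (X : Set G) →
      X ≤ centralizer ({a} : Set G) → X ≤ O := by
    intro X hX hEX hXa
    have hXH : X ≤ H := fun x hx => hCH x (mem_centralizer_singleton_iff.mp (hXa hx))
    haveI : IsMulCommutative (E.subgroupOf H) :=
      ⟨⟨fun u v => Subtype.ext (Subtype.ext (show (u.1.1 : G) * v.1.1 = v.1.1 * u.1.1 from
        congrArg Subtype.val (mul_comm' (⟨u.1.1, u.2⟩ : E) ⟨v.1.1, v.2⟩)))⟩⟩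
    have h := Lib.Transitivity.le_pPrimeCore_of_isPConstrained (hloc _ hZp hZ1)
      (E := E.subgroupOf H) (Q := X.subgroupOf H) (hEp.comap_subtype) inferInstance ?_ ?_ ?_ ?_
    · intro x hx
      exact ⟨⟨x, hXH hx⟩, h hx, rfl⟩
    · intro x hx hxp
      refine hEfull x (mem_centralizer_iff.mpr fun e he => ?_) ?_
      · exact congrArg Subtype.val (mem_centralizer_iff.mp hx ⟨e, hEH he⟩ he)
      · have := hxp.map H.subtype
        rwa [MonoidHom.map_zpowers] at this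
    · intro hp S hS
      refine map_injective H.subtype_injective ?_
      rw [map_commutator, map_commutator, Subgroup.map_bot]
      exact h2 hp _ (hS.map _)
    · exact (hqcop hX).coprime_dvd_left (dvd_of_eq (Nat.card_congr (subgroupOfEquivOfLe hXH).toEquiv))
    · intro e he
      refine Lib.PSolvable.mem_normalizer_of_conj_mem fun y hy => ?_
      exact (mem_normalizer_iff.mp (hEX he) _).mp hy
  set R := O ⊓ normalizer (D : Set G) with hR
  set Y := R ⊔ D with hY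
  have hEN : E ≤ normalizer ((normalizer (D : Set G) : Subgroup G) : Set G) :=
    hED.trans le_normalizer
  have hER : E ≤ normalizer (R : Set G) := fun e he =>
    Lib.PSolvable.mem_normalizer_of_conj_mem fun y hy =>
      ⟨(mem_normalizer_iff.mp (hEO he) y).mp hy.1, (mem_normalizer_iff.mp (hEN he) y).mp hy.2⟩
  have hEY : E ≤ normalizer (Y : Set G) := fun e he =>
    Lib.PSolvable.mem_normalizer_of_conj_mem fun y hy => by
      have : (Y.map (MulAut.conj e).toMonoidHom) ≤ Y := by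
        rw [hY, Subgroup.map_sup]
        refine sup_le_sup ?_ ?_
        · rintro _ ⟨z, hz, rfl⟩; exact (mem_normalizer_iff.mp (hER he) z).mp hz
        · rintro _ ⟨z, hz, rfl⟩; exact (mem_normalizer_iff.mp (hED he) z).mp hz
      exact this ⟨y, hy, rfl⟩
  have hYp : (Nat.card Y).Coprime p := by
    refine Nat.Coprime.coprime_dvd_left ?_ ((hOp.coprime_dvd_left (card_dvd_of_le (inf_le_left : R ≤ O))).mul_left (hqcop hD))
    have h1 := Lib.PSolvable.card_mul_relIndex (le_sup_right : D ≤ R ⊔ D)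
    have hsr : D.relIndex (R ⊔ D) = D.relIndex R := by
      have hDN : D ≤ normalizer (D : Set G) := le_normalizer
      have hRN : R ≤ normalizer (D : Set G) := inf_le_right
      have := relIndex_sup_right (K := D.subgroupOf (normalizer (D : Set G))) (H := R.subgroupOf (normalizer (D : Set G)))
      rwa [← subgroupOf_sup hRN hDN, relIndex_subgroupOf (sup_le hRN hDN), relIndex_subgroupOf hRN] at this
    rw [hsr] at h1
    rw [hY, ← h1, mul_comm (Nat.card R)]
    exact mul_dvd_mul_left _ (by rw [← inf_relIndex_right]; exact relIndex_dvd_card _ _)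
  have hcop : (Nat.card E).Coprime (Nat.card Y) := by
    obtain ⟨n, hn⟩ := IsPGroup.iff_card.mp hEp
    exact hn ▸ hYp.symm.pow_left n
  have hsolv : Group.IsSolvable E := by
    haveI := hEp.isNilpotent
    infer_instance
  have hsup : ∀ {X : Subgroup G}, IsPGroup q X → E ≤ normalizer (X : Set G) →
      X ≤ centralizer ({a} : Set G) → X ≤ normalizer (D : Set G) →
      X ⊔ D ≤ Y ∧ IsPGroup q ↥(X ⊔ D) ∧ E ≤ normalizer ((X ⊔ D : Subgroup G) : Set G) := by
    intro X hX hEX hXa hXD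
    refine ⟨sup_le_sup (le_inf (hin hX hEX hXa) hXD) le_rfl, hX.to_sup_of_normal_right' hD hXD, ?_⟩
    intro e he
    refine Lib.PSolvable.mem_normalizer_of_conj_mem fun y hy => ?_
    have : ((X ⊔ D).map (MulAut.conj e).toMonoidHom) ≤ X ⊔ D := by
      rw [Subgroup.map_sup]
      refine sup_le_sup ?_ ?_
      · rintro _ ⟨z, hz, rfl⟩; exact (mem_normalizer_iff.mp (hEX he) z).mp hz
      · rintro _ ⟨z, hz, rfl⟩; exact (mem_normalizer_iff.mp (hED he) z).mp hz
    exact this ⟨y, hy, rfl⟩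
  obtain ⟨h1a, h1b, h1c⟩ := hsup hX₁ hEX₁ hX₁a hX₁D
  obtain ⟨h2a, h2b, h2c⟩ := hsup hX₂ hEX₂ hX₂a hX₂D
  obtain ⟨S, hS1, hS2⟩ := Lib.Coprime.exists_invariant_sylow_ge hEY hcop (Or.inl hsolv) h1a h1b h1c
  obtain ⟨T, hT, hST⟩ := exists_max_ge (mem_invSubgroups_iff.mpr ⟨S.2.map Y.subtype, hS2⟩)
  obtain ⟨c, hc, hcU⟩ := Lib.Coprime.exists_centralizer_conj_le hEY hcop (Or.inl hsolv) hS2 h2a h2b h2c
  refine ⟨T, hT, c⁻¹, inv_mem (mem_core_centralizer hEp hEc hEfull hc.2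
    (hYp.coprime_dvd_left (Y.orderOf_dvd_natCard hc.1))), hS1.trans hST, fun u hu => ?_⟩
  exact ⟨c * u * c⁻¹, hST (hcU u hu), by simp [mul_assoc]⟩

theorem result {G : Type*} [Group G] [Finite G] (p : ℕ) [Fact p.Prime]
    (hloc : ∀ T : Subgroup G, IsPGroup p T → T ≠ ⊥ → Cfsg.IsPConstrained p ↥(Subgroup.normalizer (T : Set G)))
    (h2 : p = 2 → ∀ S : Sylow p G, Group.IsNilpotent (S : Subgroup G) ∧ Group.nilpotencyClass (S : Subgroup G) ≤ 2)
    (E : Subgroup G) (hEp : IsPGroup p E) (hEc : IsMulCommutative E) (hE3 : ¬ Cfsg.PRankLE p 2 E)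
    (hEfull : ∀ x ∈ Subgroup.centralizer (E : Set G), IsPGroup p (Subgroup.zpowers x) → x ∈ E)
    (q : ℕ) [Fact q.Prime] (hqp : q ≠ p) :
    ∀ Q₁ ∈ Cfsg.maxInvSubgroups ⊤ E {q}, ∀ Q₂ ∈ Cfsg.maxInvSubgroups ⊤ E {q},
        ∃ k ∈ Cfsg.piCoreOf (Cfsg.primesNotDvd p) (Subgroup.centralizer (E : Set G)), Q₂ = Q₁.map (MulAut.conj k).toMonoidHom := by
  set K := piCoreOf (primesNotDvd p) (centralizer (E : Set G)) with hK
  have hKC : ∀ {k : G}, k ∈ K → k ∈ centralizer (E : Set G) := fun hk =>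
    Lib.OddLocal.piCoreOf_le _ _ hk
  have h2' : p = 2 → ∀ S : Subgroup G, IsPGroup p S → ⁅⁅S, S⁆, S⁆ = ⊥ := fun hp =>
    class_two_subgroups (h2 hp)
  -- an elementary abelian subgroup of order `p³`
  obtain ⟨A, hAE, hAc, hAp, hA3⟩ : ∃ A ≤ E, (∀ a ∈ A, ∀ b ∈ A, Commute a b) ∧
      (∀ a ∈ A, a ^ p = 1) ∧ Nat.card A = p ^ 3 := by
    simp only [PRankLE, not_forall, not_le] at hE3
    obtain ⟨A, hAc, hAp, hA⟩ := hE3
    obtain ⟨n, hn⟩ := IsPGroup.iff_card.mp (hEp.to_subgroup A)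
    have hn3 : 3 ≤ n := by
      rw [hn] at hA
      exact (Nat.pow_lt_pow_iff_right (Fact.out : p.Prime).one_lt).mp hA
    obtain ⟨B, hB⟩ := Sylow.exists_subgroup_card_pow_prime p (hn ▸ pow_dvd_pow p hn3 : p ^ 3 ∣ Nat.card A)
    refine ⟨(B.map A.subtype).map E.subtype, map_subtype_le _, ?_, ?_, ?_⟩
    · rintro _ ⟨a, -, rfl⟩ _ ⟨b, -, rfl⟩
      exact congrArg Subtype.val (mul_comm' a b)
    · rintro _ ⟨_, ⟨a, -, rfl⟩, rfl⟩
      simpa using congrArg Subtype.val (hAp a a.2)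
    · rw [card_map_of_injective E.subtype_injective, card_map_of_injective A.subtype_injective, hB]
  suffices main : ∀ n : ℕ, ∀ Q₁ ∈ maxInvSubgroups ⊤ E {q}, ∀ Q₂ ∈ maxInvSubgroups ⊤ E {q},
      Nat.card G - Nat.card ↥(Q₁ ⊓ Q₂) = n →
      ∃ k ∈ K, Q₂ = Q₁.map (MulAut.conj k).toMonoidHom from
    fun Q₁ h₁ Q₂ h₂ => main _ Q₁ h₁ Q₂ h₂ rfl
  intro n
  induction n using Nat.strong_induction_on with
  | _ n ih =>
  intro Q₁ hQ₁ Q₂ hQ₂ hn
  rcases eq_or_ne Q₁ Q₂ with rfl | hne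
  · exact ⟨1, one_mem _, by ext y; simp⟩
  obtain ⟨hq1, he1⟩ := mem_invSubgroups_iff.mp hQ₁.1
  obtain ⟨hq2, he2⟩ := mem_invSubgroups_iff.mp hQ₂.1
  set D := Q₁ ⊓ Q₂ with hD
  have hlt1 : D < Q₁ := lt_of_le_of_ne inf_le_left fun h =>
    hne (hQ₁.2 Q₂ hQ₂.1 (h ▸ inf_le_right)).symm
  have hlt2 : D < Q₂ := lt_of_le_of_ne inf_le_right fun h =>
    hne (hQ₂.2 Q₁ hQ₁.1 (h ▸ inf_le_left))
  have hED : E ≤ normalizer (D : Set G) := fun e he =>
    Lib.PSolvable.mem_normalizer_of_conj_mem fun y hy =>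
      ⟨(mem_normalizer_iff.mp (he1 he) y).mp hy.1, (mem_normalizer_iff.mp (he2 he) y).mp hy.2⟩
  have hW : ∀ {Q : Subgroup G}, IsPGroup q Q → E ≤ normalizer (Q : Set G) → D < Q →
      ∃ B ≤ A, Nat.card B = p ^ 2 ∧ ¬ Q ⊓ normalizer (D : Set G) ⊓ centralizer (B : Set G) ≤ D := by
    intro Q hQ hEQ hlt
    haveI := hQ.isNilpotent
    refine exists_hyperplane hAc hAp ?_ ?_ ?_ ?_ ?_
    · rw [hA3]; exact Nat.pow_lt_pow_right (Fact.out : p.Prime).one_lt (by norm_num)
    · exact Lib.Coprime.isSolvable_of_le inf_le_left (inferInstance : Group.IsSolvable Q)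
    · obtain ⟨m, hm⟩ := IsPGroup.iff_card.mp hQ
      exact Nat.Coprime.coprime_dvd_left (card_dvd_of_le inf_le_left)
        (hm ▸ Nat.Coprime.pow_left m ((Nat.coprime_primes Fact.out Fact.out).mpr hqp))
    · intro a ha
      refine Lib.PSolvable.mem_normalizer_of_conj_mem fun y hy => ?_
      exact ⟨(mem_normalizer_iff.mp (hEQ (hAE ha)) y).mp hy.1,
        (normalizer (D : Set G)).mul_mem ((normalizer (D : Set G)).mul_mem (hED (hAE ha)) hy.2) ((normalizer (D : Set G)).inv_mem (hED (hAE ha)))⟩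
    · intro hle
      have hself : normalizer ((D.subgroupOf Q : Subgroup Q) : Set Q) = D.subgroupOf Q := by
        refine le_antisymm (fun x hx => ?_) le_normalizer
        refine hle ⟨x.2, Lib.PSolvable.mem_normalizer_of_conj_mem fun y hy => ?_⟩
        exact (mem_normalizer_iff.mp hx ⟨y, hlt.le hy⟩).mp hy
      have := normalizerCondition_iff_only_full_group_self_normalizing.mp
        (Group.normalizerCondition_of_isNilpotent (G := Q)) _ hself
      exact hlt.not_ge (subgroupOf_eq_top.mp this)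
  obtain ⟨B₁, hB₁A, hB₁, hX₁⟩ := hW hq1 he1 hlt1
  obtain ⟨B₂, hB₂A, hB₂, hX₂⟩ := hW hq2 he2 hlt2
  obtain ⟨a, haB, ha1⟩ : ∃ a ∈ B₁ ⊓ B₂, a ≠ 1 := by
    by_contra h
    push Not at h
    have hdis : Disjoint B₁ B₂ := disjoint_iff.mpr (eq_bot_iff.mpr fun x hx => mem_bot.mpr (h x hx))
    let g : B₁ × B₂ → A := fun x => ⟨x.1 * x.2, mul_mem (hB₁A x.1.2) (hB₂A x.2.2)⟩
    have hg : Function.Injective g := fun x y hxy =>
      mul_injective_of_disjoint hdis (congrArg Subtype.val hxy)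
    have := Nat.card_le_card_of_injective g hg
    rw [Nat.card_prod, hB₁, hB₂, hA3, ← pow_add] at this
    exact absurd ((Nat.pow_le_pow_iff_right (Fact.out : p.Prime).one_lt).mp this) (by norm_num)
  have haA : a ∈ A := hB₁A haB.1
  set X₁ := Q₁ ⊓ normalizer (D : Set G) ⊓ centralizer ({a} : Set G) with hX₁def
  set X₂ := Q₂ ⊓ normalizer (D : Set G) ⊓ centralizer ({a} : Set G) with hX₂def
  have hEX : ∀ {Q : Subgroup G}, E ≤ normalizer (Q : Set G) →
      E ≤ normalizer ((Q ⊓ normalizer (D : Set G) ⊓ centralizer ({a} : Set G) : Subgroup G) : Set G) := by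
    intro Q hEQ e he
    refine Lib.PSolvable.mem_normalizer_of_conj_mem fun y hy => ?_
    refine ⟨⟨(mem_normalizer_iff.mp (hEQ he) y).mp hy.1.1,
      (normalizer (D : Set G)).mul_mem ((normalizer (D : Set G)).mul_mem (hED he) hy.1.2) ((normalizer (D : Set G)).inv_mem (hED he))⟩, ?_⟩
    refine mem_centralizer_singleton_iff.mpr ?_
    have h1 : Commute y a := mem_centralizer_singleton_iff.mp hy.2
    have h2 : Commute e a := congrArg Subtype.val (mul_comm' (⟨e, he⟩ : E) ⟨a, hAE haA⟩)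
    exact ((h2.mul_left h1).mul_left h2.inv_left).eq
  obtain ⟨T, hT, c, hc, hT1, hT2⟩ := local_step hloc h2' hEp hEc hEfull hqp (hAE haA) (hAp a haA) ha1
    (D := D) (X₁ := X₁) (X₂ := X₂) (hq1.to_le inf_le_left) hED (hq1.to_le (inf_le_left.trans inf_le_left))
    (hq2.to_le (inf_le_left.trans inf_le_left)) (hEX he1) (hEX he2) inf_le_right inf_le_right
    (inf_le_left.trans inf_le_right) (inf_le_left.trans inf_le_right)
  have hlarge : ∀ {Q : Subgroup G} {B : Subgroup G}, a ∈ B → D ≤ Q →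
      ¬ Q ⊓ normalizer (D : Set G) ⊓ centralizer (B : Set G) ≤ D → ∀ {U : Subgroup G},
      (Q ⊓ normalizer (D : Set G) ⊓ centralizer ({a} : Set G)) ⊔ D ≤ U →
      Nat.card G - Nat.card ↥(Q ⊓ U) < n := by
    intro Q B haB' hDQ hB U hU
    have hlt : D < Q ⊓ U := by
      refine lt_of_le_not_ge (le_inf hDQ (le_sup_right.trans hU)) fun h => hB fun y hy => h ⟨hy.1.1, hU ?_⟩
      exact mem_sup_left ⟨hy.1, centralizer_le (by simpa using haB') hy.2⟩
    have h1 : Nat.card D < Nat.card ↥(Q ⊓ U) := Set.ncard_lt_ncard hlt (Set.toFinite _)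
    have h2 : Nat.card ↥(Q ⊓ U) ≤ Nat.card G := card_le_card_group _
    omega
  obtain ⟨k1, hk1, hk1'⟩ := ih _ (hlarge haB.1 inf_le_left hX₁ hT1) Q₁ hQ₁ T hT rfl
  have h2lt := hlarge haB.2 inf_le_right hX₂ hT2
  rw [inf_comm] at h2lt
  obtain ⟨k2, hk2, hk2'⟩ := ih _ h2lt _ (conj_mem_max (hKC hc) hT) Q₂ hQ₂ rfl
  refine ⟨k2 * c * k1, mul_mem (mul_mem hk2 hc) hk1, ?_⟩
  rw [hk2', hk1', map_conj_map, map_conj_map, mul_assoc]

end Cfsg.Agent.S1480
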