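import Cfsg.Statements.S1487
import Mathlib
import Cfsg.Agent.Lib.OddChar.Clifford

set_option autoImplicit false
open Cfsg

namespace Cfsg.Agent.S1487

/-- Let A ≤ H be normal subgroups of the finite group G and θ an irreducible character of H. Then θ takes the value θ 1 on all of A if and only if the function induced from θ to G takes its value at 1 on all of A. -/
theorem result {G : Type*} [Group G] [Fintype G] (A H : Subgroup G) [A.Normal] [H.Normal] (hAH : A ≤ H) (θ : H → ℂ) (hθ : Cfsg.IsIrrCharacter H θ) : (∀ a : H, (a : G) ∈ A → θ a = θ 1) ↔ (∀ a : G, a ∈ A → Cfsg.indFun H θ a = Cfsg.indFun H θ 1) := by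
  classical
  have key : ∀ a : G, ∀ ha : a ∈ A, Cfsg.indFun H θ a =
      (Nat.card H : ℂ)⁻¹ * ∑ x : G, θ ⟨x⁻¹ * a * x, hAH (by
        simpa using Subgroup.Normal.conj_mem ‹A.Normal› a ha x⁻¹)⟩ := fun a ha => by
    rw [Cfsg.indFun]
    congr 1
    exact Finset.sum_congr rfl fun x _ => Lib.Chars.extendByZero_of_mem _ _
  have h1 : Cfsg.indFun H θ 1 = (Nat.card H : ℂ)⁻¹ * ∑ _x : G, θ 1 := by
    rw [key 1 (one_mem A)]
    congr 1
    exact Finset.sum_congr rfl fun x _ => congrArg θ (Subtype.ext (by simp))
  constructor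
  · intro h a ha
    rw [key a ha, h1]
    congr 1
    exact Finset.sum_congr rfl fun x _ => h _ (by
      simpa using Subgroup.Normal.conj_mem ‹A.Normal› a ha x⁻¹)
  · intro h a ha
    obtain ⟨k, ρ, -, rfl⟩ := hθ
    have hk := h (a : G) ha
    rw [key _ ha, h1] at hk
    have hk' := mul_left_cancel₀ (inv_ne_zero (by exact_mod_cast Nat.card_pos.ne')) hk
    have hre : ∑ x : G, ((k : ℝ) - (ρ.character ⟨x⁻¹ * (a : G) * x, hAH (by
        simpa using Subgroup.Normal.conj_mem ‹A.Normal› (a : G) ha x⁻¹)⟩).re) = 0 := by
      have := congrArg Complex.re hk'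
      simp only [Complex.re_sum] at this
      rw [Finset.sum_sub_distrib, this]
      simp [Representation.char_one]
    have hb : ∀ h : H, (ρ.character h).re ≤ k := fun h =>
      (Complex.re_le_norm _).trans (by simpa using Lib.Chars.norm_char_le ρ h)
    have h0 := (Finset.sum_eq_zero_iff_of_nonneg (fun x _ => sub_nonneg.mpr (hb _))).mp hre 1
      (Finset.mem_univ _)
    have hre1 : (ρ.character a).re = k := by
      have := sub_eq_zero.mp h0
      rw [this]
      congr 2
      exact Subtype.ext (by simp)
    have hn : ‖ρ.character a‖ ≤ k := by simpa using Lib.Chars.norm_char_le ρ a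
    have hsq : (ρ.character a).re ^ 2 + (ρ.character a).im ^ 2 = ‖ρ.character a‖ ^ 2 := by
      rw [Complex.sq_norm, Complex.normSq_apply]; ring
    have him : (ρ.character a).im = 0 := by
      have := pow_le_pow_left₀ (norm_nonneg _) hn 2
      nlinarith
    rw [Representation.char_one, Module.finrank_fintype_fun_eq_card, Fintype.card_fin]
    exact Complex.ext (by simpa using hre1) (by simpa using him)

end Cfsg.Agent.S1487
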