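import Cfsg.Statements.S1488
import Mathlib
import Cfsg.Agent.Lib.Chars.Induced
import Cfsg.Agent.Lib.Chars.Ops

set_option autoImplicit false
open Cfsg

namespace Cfsg.Agent.S1488

/-- Let A be a normal subgroup of the finite group G contained in the subgroup H, let θ be a function on H and θ₁ a function on the image of H in G ⧸ A whose composite with the projection is θ. Then the function induced from θ₁ to G ⧸ A, composed with the projection G → G ⧸ A, equals the function induced from θ to G. -/
theorem result {G : Type*} [Group G] [Fintype G] (A H : Subgroup G) [A.Normal] (hAH : A ≤ H) [Fintype (G ⧸ A)] [Fintype ↥(H.map (QuotientGroup.mk' A))] (θ : H → ℂ) (θ₁ : ↥(H.map (QuotientGroup.mk' A)) → ℂ) (hθ : ∀ x : H, θ₁ ⟨QuotientGroup.mk' A x, Subgroup.mem_map_of_mem _ x.2⟩ = θ x) (g : G) : Cfsg.indFun (H.map (QuotientGroup.mk' A)) θ₁ (QuotientGroup.mk' A g) = Cfsg.indFun H θ g := by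
  classical
  have hterm : ∀ x : G, Cfsg.extendByZero (H.map (QuotientGroup.mk' A)) θ₁
      ((QuotientGroup.mk' A x)⁻¹ * QuotientGroup.mk' A g * QuotientGroup.mk' A x) =
      Cfsg.extendByZero H θ (x⁻¹ * g * x) := by
    intro x
    rw [← map_inv, ← map_mul, ← map_mul]
    by_cases h : x⁻¹ * g * x ∈ H
    · rw [Lib.Chars.extendByZero_of_mem _ h,
        Lib.Chars.extendByZero_of_mem _ (Subgroup.mem_map_of_mem _ h), ← hθ ⟨_, h⟩]
    · rw [Lib.Chars.extendByZero_of_not_mem _ h, Lib.Chars.extendByZero_of_not_mem]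
      intro hm
      obtain ⟨y, hy, hye⟩ := Subgroup.mem_map.mp hm
      have : y⁻¹ * (x⁻¹ * g * x) ∈ A := QuotientGroup.eq.mp hye
      exact h (by simpa using H.mul_mem hy (hAH this))
  have hsum := Lib.Chars.sum_comp_of_surjective (QuotientGroup.mk' A)
    (QuotientGroup.mk'_surjective A)
    (fun q => Cfsg.extendByZero (H.map (QuotientGroup.mk' A)) θ₁
      (q⁻¹ * QuotientGroup.mk' A g * q))
  simp only [hterm, QuotientGroup.ker_mk'] at hsum
  simp only [Cfsg.indFun]
  rw [hsum]
  have hc : Nat.card H = Nat.card A * Nat.card (H.map (QuotientGroup.mk' A)) := by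
    have h := Subgroup.card_mul_index (A.subgroupOf H)
    rw [Nat.card_congr (Subgroup.subgroupOfEquivOfLe hAH).toEquiv] at h
    rw [← h]
    congr 1
    have h2 := Subgroup.card_mul_index (((QuotientGroup.mk' A).comp H.subtype).ker)
    rw [Subgroup.index_ker, MonoidHom.range_comp, Subgroup.range_subtype] at h2
    have hk : ((QuotientGroup.mk' A).comp H.subtype).ker = A.subgroupOf H := by
      ext y; simp [Subgroup.mem_subgroupOf]
    rw [hk] at h2
    rw [Nat.card_congr (Subgroup.subgroupOfEquivOfLe hAH).toEquiv] at h2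
    exact Nat.eq_of_mul_eq_mul_left Nat.card_pos (h.trans (by rw [← h2]))
  rw [hc, Nat.cast_mul]
  have : (Nat.card A : ℂ) ≠ 0 := by exact_mod_cast Nat.card_pos.ne'
  field_simp

end Cfsg.Agent.S1488
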