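import Cfsg.Statements.S1489
import Mathlib
import Cfsg.Agent.Lib.OddChar.Clifford

set_option autoImplicit false
open Cfsg

namespace Cfsg.Agent.S1489

/-- Let H be a normal subgroup of the finite group G, θ an irreducible character of H, and T the inertia group of θ (the elements g with θ(g h g⁻¹) = θ(h) for all h ∈ H). If ψ and ψ' are irreducible characters of T having nonzero inner product with the function induced from θ to T, then the function induced from ψ to G is an irreducible character of G, and it equals the one induced from ψ' only if ψ = ψ'. -/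
theorem result {G : Type*} [Group G] [Fintype G] (H T : Subgroup G) [hN : H.Normal] [Fintype T] (θ : H → ℂ) (hθ : Cfsg.IsIrrCharacter H θ) (hT : ∀ g : G, g ∈ T ↔ ∀ h : H, θ ⟨g * h * g⁻¹, hN.conj_mem h h.2 g⟩ = θ h) (hHT : H ≤ T) (ψ ψ' : T → ℂ) (hψ : Cfsg.IsIrrCharacter T ψ) (hψ' : Cfsg.IsIrrCharacter T ψ') (hc : Cfsg.classInner (Cfsg.indFun (H.subgroupOf T) (fun x => θ ⟨(x : T), Subgroup.mem_subgroupOf.mp x.2⟩)) ψ ≠ 0) (hc' : Cfsg.classInner (Cfsg.indFun (H.subgroupOf T) (fun x => θ ⟨(x : T), Subgroup.mem_subgroupOf.mp x.2⟩)) ψ' ≠ 0) : Cfsg.IsIrrCharacter G (Cfsg.indFun T ψ) ∧ (Cfsg.indFun T ψ = Cfsg.indFun T ψ' → ψ = ψ') := by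
  classical
  let H' := H.subgroupOf T
  let e : H' ≃* H := Subgroup.subgroupOfEquivOfLe hHT
  have hfun : (fun x : H' => θ ⟨(x : T), Subgroup.mem_subgroupOf.mp x.2⟩) = fun x => θ (e x) := rfl
  have hT' : ∀ g, g ∈ T ↔ Lib.Clifford.conjFun g θ = θ := fun g => (hT g).trans funext_iff.symm
  have key : ∀ φ : T → ℂ, Cfsg.IsIrrCharacter T φ →
      Cfsg.classInner (Cfsg.indFun H' (fun x => θ ⟨(x : T), Subgroup.mem_subgroupOf.mp x.2⟩)) φ ≠ 0 →
      Cfsg.classInner (Lib.Clifford.resTo hHT φ) θ ≠ 0 := by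
    intro φ hφ h h0
    apply h
    rw [Lib.Chars.classInner_indFun_left H' _ φ (Lib.Chars.irr_isClassFunction ⟨φ, hφ⟩)]
    have := Lib.Clifford.classInner_comp_equiv e θ (Lib.Clifford.resTo hHT φ)
    rw [hfun, show (fun x : H' => φ x) = (fun x => Lib.Clifford.resTo hHT φ (e x)) from rfl, this,
      ← Lib.Chars.conj_classInner, h0, map_zero]
  have hi := Lib.Clifford.isIrrCharacter_indFun_inertia hθ hT' hHT hψ (key ψ hψ hc)
  refine ⟨hi, fun he => ?_⟩
  have h1 : ∀ φ : T → ℂ, Cfsg.IsIrrCharacter T φ → Cfsg.indFun T φ = Cfsg.indFun T ψ →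
      Cfsg.classInner (Lib.Clifford.resFun T (Cfsg.indFun T ψ)) φ ≠ 0 := by
    intro φ _ heq
    have h := Lib.Chars.classInner_indFun_left T φ (Cfsg.indFun T ψ)
      (Lib.Chars.isClassFunction_indFun T ψ)
    rw [heq, Lib.Chars.classInner_irr_self ⟨_, hi⟩] at h
    intro h0
    rw [← Lib.Chars.conj_classInner] at h0
    have h0' : Cfsg.classInner φ (Lib.Clifford.resFun T (Cfsg.indFun T ψ)) = 0 :=
      by simpa using congrArg (starRingEnd ℂ) h0
    exact one_ne_zero (h.trans h0')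
  obtain ⟨-, -, -, huniq⟩ := Lib.Clifford.clifford_induced hθ hT' hHT hi hψ (h1 ψ hψ rfl)
    (key ψ hψ hc)
  exact (huniq ψ' hψ' (h1 ψ' hψ' he.symm) (key ψ' hψ' hc')).symm

end Cfsg.Agent.S1489
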