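import Cfsg.Statements.S1492
import Mathlib
import Cfsg.Agent.Lib.Chars.Induced
import Cfsg.Agent.Lib.Chars.Integral
import Cfsg.Agent.Lib.Clifford.Basic

set_option autoImplicit false
open Cfsg

namespace Cfsg.Agent.S1492

/-- Let ψ be an irreducible character of the finite group G and B ≤ D ≤ C subgroups with B normal in C, every commutator of an element of D with an element of C lying in B (so D/B is central in C/B), and ψ constant equal to ψ 1 on B. Then ψ(1) ^ 2 * |C| * |D| ≤ |G| ^ 2. -/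
theorem result {G : Type*} [Group G] [Finite G] (ψ : G → ℂ) (hψ : Cfsg.IsIrrCharacter G ψ) (B C D : Subgroup G) (hBD : B ≤ D) (hDC : D ≤ C) (hBn : ∀ c ∈ C, ∀ b ∈ B, c * b * c⁻¹ ∈ B) (hcent : ∀ d ∈ D, ∀ c ∈ C, d * c * d⁻¹ * c⁻¹ ∈ B) (hker : ∀ b ∈ B, ψ b = ψ 1) : ‖ψ 1‖ ^ 2 * (Nat.card C : ℝ) * (Nat.card D : ℝ) ≤ (Nat.card G : ℝ) ^ 2 := by
  classical
  cases nonempty_fintype G
  cases nonempty_fintype C
  obtain ⟨n, ρ, -, hρ⟩ := id hψ
  obtain ⟨m, hm⟩ := Lib.Chars.isCharacter_exists_nat_decomp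
    (Lib.Chars.isCharacter_restrict C (Lib.Chars.isCharacter_of_isIrrCharacter hψ))
  have hψ1 : ψ 1 ≠ 0 := Lib.Chars.irr_apply_one_ne_zero ⟨ψ, hψ⟩
  obtain ⟨φ, hφ⟩ : ∃ φ, m φ ≠ 0 := by
    by_contra h
    push Not at h
    have h0 := congrFun hm 1
    simp [h, hψ1] at h0
  obtain ⟨k, σ, hσi, hσ⟩ := φ.2
  have hkerB : ∀ b (hb : b ∈ B), σ ⟨b, hDC (hBD hb)⟩ = LinearMap.id := by
    intro b hb
    rw [← Lib.Chars.char_eq_finrank_iff]
    have hsum : ∑ χ : Cfsg.IrrCharacter C, (m χ : ℝ) *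
        (((χ : C → ℂ) 1).re - ((χ : C → ℂ) ⟨b, hDC (hBD hb)⟩).re) = 0 := by
      have h1 := congrArg Complex.re (congrFun hm 1)
      have h2 := congrArg Complex.re (congrFun hm ⟨b, hDC (hBD hb)⟩)
      simp only [Finset.sum_apply, Pi.smul_apply, smul_eq_mul, Complex.re_sum, Complex.mul_re,
        Complex.natCast_re, Complex.natCast_im, zero_mul, sub_zero, OneMemClass.coe_one] at h1 h2
      rw [hker b hb] at h2
      simp only [mul_sub, Finset.sum_sub_distrib, ← h1, ← h2, sub_self]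
    have hnn : ∀ χ ∈ (Finset.univ : Finset (Cfsg.IrrCharacter C)), 0 ≤ (m χ : ℝ) *
        (((χ : C → ℂ) 1).re - ((χ : C → ℂ) ⟨b, hDC (hBD hb)⟩).re) := by
      intro χ _
      obtain ⟨l, π, -, hπ⟩ := χ.2
      refine mul_nonneg (Nat.cast_nonneg _) (sub_nonneg.mpr ?_)
      rw [← hπ, Representation.char_one, Complex.natCast_re]
      exact (Complex.re_le_norm _).trans (Lib.Chars.norm_char_le π _)
    have h0 := (Finset.sum_eq_zero_iff_of_nonneg hnn).mp hsum φ (Finset.mem_univ _)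
    have h0' := sub_eq_zero.mp ((mul_eq_zero.mp h0).resolve_left (by exact_mod_cast hφ))
    rw [← hσ, Representation.char_one, Complex.natCast_re] at h0'
    have hn := Lib.Chars.norm_char_le σ ⟨b, hDC (hBD hb)⟩
    refine Complex.ext (by rw [Complex.natCast_re]; exact h0'.symm) ?_
    have hsq : (σ.character ⟨b, hDC (hBD hb)⟩).re ^ 2 +
        (σ.character ⟨b, hDC (hBD hb)⟩).im ^ 2 = ‖σ.character ⟨b, hDC (hBD hb)⟩‖ ^ 2 := by
      rw [Complex.sq_norm, Complex.normSq_apply]; ring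
    have := pow_le_pow_left₀ (norm_nonneg _) hn 2
    rw [Complex.natCast_im]
    nlinarith
  have hscal : ∀ d (hd : d ∈ D), ‖σ.character ⟨d, hDC hd⟩‖ = k := by
    intro d hd
    have hcomm : ∀ c : C, σ ⟨d, hDC hd⟩ * σ c = σ c * σ ⟨d, hDC hd⟩ := by
      intro c
      have hb := hcent d hd c c.2
      have e : (⟨d, hDC hd⟩ : C) * c = ⟨_, hDC (hBD hb)⟩ * (c * ⟨d, hDC hd⟩) :=
        Subtype.ext (by simp [mul_assoc])
      rw [← map_mul, e, map_mul, hkerB _ hb, ← Module.End.one_eq_id, one_mul, map_mul]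
    obtain ⟨c, hc⟩ := Lib.Clifford.schur_scalar σ _ hcomm
    have := (Lib.Chars.norm_char_eq_iff σ ⟨d, hDC hd⟩).mpr ⟨c, by rw [hc, Module.End.one_eq_id]⟩
    simpa using this
  have hkC : (k : ℝ) ^ 2 * Nat.card D ≤ Nat.card C := by
    have h1 := Lib.Chars.classInner_irr_self φ
    rw [← hσ] at h1
    have h2 : (Nat.card C : ℝ)⁻¹ * ∑ c : C, ‖σ.character c‖ ^ 2 = 1 := by
      apply Complex.ofReal_injective
      rw [Complex.ofReal_one, ← h1, Cfsg.classInner]
      push_cast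
      exact congrArg _ (Finset.sum_congr rfl fun g _ => (Complex.mul_conj' _).symm)
    rw [inv_mul_eq_one₀ (by exact_mod_cast Nat.card_pos.ne')] at h2
    rw [h2]
    refine le_trans ?_ (Finset.sum_le_sum_of_subset_of_nonneg
      (Finset.subset_univ (Finset.univ.filter fun c : C => (c : G) ∈ D)) fun _ _ _ => by positivity)
    rw [Finset.sum_congr rfl (g := fun _ => (k : ℝ) ^ 2) fun (c : C) hc => by
      rw [show c = ⟨(c : G), hDC (Finset.mem_filter.mp hc).2⟩ from rfl,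
        hscal _ (Finset.mem_filter.mp hc).2], Finset.sum_const, nsmul_eq_mul, mul_comm]
    refine mul_le_mul_of_nonneg_right ?_ (by positivity)
    rw [Nat.card_congr (Subgroup.subgroupOfEquivOfLe hDC).toEquiv.symm, Nat.card_eq_fintype_card,
      Fintype.card_subtype]
    exact le_of_eq (by congr 2)
  have hdeg : ‖ψ 1‖ ≤ (C.index : ℝ) * k := by
    obtain ⟨a, ha⟩ := Lib.Chars.isCharacter_exists_nat_decomp
      (Lib.Chars.isCharacter_indFun C (Lib.Chars.irr_isCharacter φ))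
    have hcoef : a ⟨ψ, hψ⟩ ≠ 0 := by
      intro h0
      have h := Lib.Chars.classInner_indFun_left C (φ : C → ℂ) ψ
        (Lib.Chars.irr_isClassFunction ⟨ψ, hψ⟩)
      rw [ha, hm, show ψ = ((⟨ψ, hψ⟩ : Cfsg.IrrCharacter G) : G → ℂ) from rfl,
        Lib.Chars.classInner_sum_smul_irr, h0, ← Lib.Chars.conj_classInner,
        Lib.Chars.classInner_sum_smul_irr, Complex.conj_natCast] at h
      exact hφ (by exact_mod_cast h.symm)
    choose deg hdeg0 hdeg using fun χ : Cfsg.IrrCharacter G =>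
      Lib.Chars.isIrrCharacter_exists_degree_pos χ.2
    have h1 := congrFun ha 1
    rw [Lib.Chars.indFun_one_eq, ← hσ, Representation.char_one] at h1
    simp only [Finset.sum_apply, Pi.smul_apply, smul_eq_mul, hdeg, Module.finrank_fintype_fun_eq_card,
      Fintype.card_fin] at h1
    have h2 : C.index * k = ∑ χ, a χ * deg χ := by exact_mod_cast h1
    have h3 : deg ⟨ψ, hψ⟩ ≤ C.index * k := by
      rw [h2]
      exact le_trans (Nat.le_mul_of_pos_left _ (Nat.pos_of_ne_zero hcoef))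
        (Finset.single_le_sum (f := fun χ => a χ * deg χ) (fun _ _ => Nat.zero_le _)
          (Finset.mem_univ _))
    rw [show ψ 1 = (deg ⟨ψ, hψ⟩ : ℂ) from hdeg ⟨ψ, hψ⟩, Complex.norm_natCast]
    exact_mod_cast h3
  calc ‖ψ 1‖ ^ 2 * (Nat.card C : ℝ) * (Nat.card D : ℝ)
      ≤ ((C.index : ℝ) * k) ^ 2 * (Nat.card C : ℝ) * (Nat.card D : ℝ) := by
        gcongr
    _ = (C.index : ℝ) ^ 2 * (Nat.card C : ℝ) * ((k : ℝ) ^ 2 * (Nat.card D : ℝ)) := by ring
    _ ≤ (C.index : ℝ) ^ 2 * (Nat.card C : ℝ) * (Nat.card C : ℝ) := by gcongr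
    _ = ((Nat.card C * C.index : ℕ) : ℝ) ^ 2 := by push_cast; ring
    _ = (Nat.card G : ℝ) ^ 2 := by rw [C.card_mul_index]

end Cfsg.Agent.S1492
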