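import Cfsg.Statements.S1493
import Mathlib
import Cfsg.Agent.Lib.GaloisChar.Basic
import Cfsg.Agent.Lib.PowMap.Basic

set_option autoImplicit false
open Cfsg

namespace Cfsg.Agent.S1493

/-- Let G be a finite group of order a * b with a and b coprime, let k be coprime to a, and let χ be a character of G. Then there is a character χ' of G such that χ'(g) = χ(g ^ k) whenever the order of g divides a and χ'(g) = χ(g) whenever the order of g is coprime to a; moreover χ' is irreducible if χ is. -/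
theorem result {G : Type*} [Group G] [Finite G] (a b k : ℕ) (hab : Nat.card G = a * b) (hcop : Nat.Coprime a b) (hk : Nat.Coprime k a) (χ : G → ℂ) (hχ : Cfsg.IsCharacter G χ) : ∃ χ' : G → ℂ, Cfsg.IsCharacter G χ' ∧ (Cfsg.IsIrrCharacter G χ → Cfsg.IsIrrCharacter G χ') ∧ (∀ g : G, orderOf g ∣ a → χ' g = χ (g ^ k)) ∧ (∀ g : G, Nat.Coprime (orderOf g) a → χ' g = χ g) := by
  obtain ⟨K, hK1, hK2⟩ := Nat.chineseRemainder hcop k 1
  have hcopK : K.Coprime (Nat.card G) := by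
    rw [hab]
    exact Nat.Coprime.mul_right (hK1.gcd_eq.trans hk) (hK2.gcd_eq.trans (Nat.gcd_one_left _))
  obtain ⟨σ, hσ⟩ := Cfsg.Agent.Lib.GaloisChar.exists_ringEquiv_pow Nat.card_pos hcopK
  refine ⟨fun g => (σ : ℂ →+* ℂ) (χ g), Cfsg.Agent.Lib.GaloisChar.isCharacter_gal _ hχ,
    fun h => Cfsg.Agent.Lib.GaloisChar.isIrrCharacter_gal _ h, fun g hg => ?_, fun g hg => ?_⟩
  · show (σ : ℂ →+* ℂ) (χ g) = χ (g ^ k)
    rw [← Cfsg.Agent.Lib.PowMap.char_pow_eq_gal (σ : ℂ →+* ℂ) (fun ζ hζ => hσ ζ hζ) hχ g,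
      pow_eq_pow_iff_modEq.2 (hK1.of_dvd hg)]
  · show (σ : ℂ →+* ℂ) (χ g) = χ g
    have hgb : orderOf g ∣ b :=
      hg.dvd_of_dvd_mul_left (hab ▸ orderOf_dvd_natCard g)
    rw [← Cfsg.Agent.Lib.PowMap.char_pow_eq_gal (σ : ℂ →+* ℂ) (fun ζ hζ => hσ ζ hζ) hχ g,
      pow_eq_pow_iff_modEq.2 (hK2.of_dvd hgb), pow_one]

end Cfsg.Agent.S1493
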