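import Cfsg.Statements.S1497
import Mathlib

set_option autoImplicit false
open Cfsg

namespace Cfsg.Agent.S1497

/-- Let A be a nonempty subset of the finite group G not containing 1 and L a subgroup. Then A is a TI-subset whose normaliser is L if and only if the Dade hypothesis holds for A, L and the constant choice H(a) = ⊥. -/
theorem result {G : Type*} [Group G] [Finite G] (A : Set G) (hA : A.Nonempty) (h1 : (1 : G) ∉ A) (L : Subgroup G) : (Cfsg.IsTISubset A ∧ Subgroup.normalizer A = L) ↔ Cfsg.DadeHypothesis A L (fun _ => ⊥) := by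
  have hcent : ∀ {L' : Subgroup G} {a : G}, Subgroup.centralizer ({a} : Set G) ≤ L' →
      (⊥ : Subgroup G) ⊔ (L' ⊓ Subgroup.centralizer ({a} : Set G)) =
        Subgroup.centralizer ({a} : Set G) := fun h => by rw [bot_sup_eq, inf_eq_right.mpr h]
  constructor
  · rintro ⟨hTI, rfl⟩
    have hin : ∀ g : G, ∀ a ∈ A, g * a * g⁻¹ ∈ A → g ∈ Subgroup.normalizer A := by
      intro g a ha hga
      by_contra hg
      exact h1 (hTI g hg a ha hga ▸ ha)
    have hC : ∀ a ∈ A, Subgroup.centralizer ({a} : Set G) ≤ Subgroup.normalizer A := by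
      intro a ha c hc
      refine hin c a ha ?_
      rwa [Subgroup.mem_centralizer_singleton_iff.mp hc, mul_inv_cancel_right]
    refine ⟨h1, fun a ha => hC a ha (Subgroup.mem_centralizer_singleton_iff.mpr rfl),
      fun x hx a ha => (Subgroup.mem_set_normalizer_iff.mp hx a).mp ha,
      fun a ha g hg => ⟨g, hin g a ha hg, rfl⟩, fun a _ => bot_le, ?_,
      fun a _ => bot_inf_eq _, fun a ha => hcent (hC a ha), fun a _ b _ => by simp⟩
    intro a _ c _ u hu
    simp only [Subgroup.mem_bot] at hu
    simp [hu]
  · intro hD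
    have hC : ∀ a ∈ A, Subgroup.centralizer ({a} : Set G) ≤ L := by
      intro a ha
      have := hD.sup_eq a ha
      rw [bot_sup_eq] at this
      exact this ▸ inf_le_left
    have hin : ∀ g : G, ∀ a ∈ A, g * a * g⁻¹ ∈ A → g ∈ L := by
      intro g a ha hga
      obtain ⟨x, hx, he⟩ := hD.fusion a ha g hga
      have hc : x⁻¹ * g ∈ Subgroup.centralizer ({a} : Set G) := by
        rw [Subgroup.mem_centralizer_singleton_iff]
        calc x⁻¹ * g * a = x⁻¹ * (g * a * g⁻¹) * g := by group
          _ = x⁻¹ * (x * a * x⁻¹) * g := by rw [he]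
          _ = a * (x⁻¹ * g) := by group
      have := mul_mem hx (hC a ha hc)
      rwa [mul_inv_cancel_left] at this
    have hN : Subgroup.normalizer A = L := by
      apply le_antisymm
      · intro g hg
        obtain ⟨a, ha⟩ := hA
        exact hin g a ha ((Subgroup.mem_set_normalizer_iff.mp hg a).mp ha)
      · intro x hx
        refine Subgroup.mem_set_normalizer_iff.mpr fun a => ⟨hD.conj_mem x hx a, fun ha => ?_⟩
        have := hD.conj_mem x⁻¹ (inv_mem hx) _ ha
        convert this using 1
        group
    refine ⟨fun g hg a ha hga => absurd (hin g a ha hga) ?_, hN⟩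
    rwa [← hN]

end Cfsg.Agent.S1497
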