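import Cfsg.Statements.S1504
import Mathlib
import Cfsg.Agent.Lib.OddChar.CyclicW

set_option autoImplicit false
open Cfsg

namespace Cfsg.Agent.S1504

/-- Let W₁, W₂ be subgroups of a finite group with W₁ ⊓ W₂ = ⊥ whose elements commute, and W = W₁ ⊔ W₂. For linear characters φ, ψ of W with φ trivial on W₂ and ψ trivial on W₁, the function (1 − φ)(1 − ψ) vanishes on W₁ ∪ W₂; and the family of these functions, indexed by pairs (φ, ψ) with φ ≠ 1 ≠ ψ, is linearly independent over ℂ. -/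
theorem result {G : Type*} [Group G] [Finite G] (W₁ W₂ : Subgroup G) (hdisj : W₁ ⊓ W₂ = ⊥) (hcomm : ∀ a ∈ W₁, ∀ b ∈ W₂, a * b = b * a) : (∀ φ ψ : ↥(W₁ ⊔ W₂) →* ℂˣ, (∀ w : ↥(W₁ ⊔ W₂), (w : G) ∈ W₂ → φ w = 1) → (∀ w : ↥(W₁ ⊔ W₂), (w : G) ∈ W₁ → ψ w = 1) → ∀ w : ↥(W₁ ⊔ W₂), ((w : G) ∈ W₁ ∨ (w : G) ∈ W₂) → (1 - (φ w : ℂ) - (ψ w : ℂ) + (φ w : ℂ) * (ψ w : ℂ)) = 0) ∧ LinearIndependent ℂ (fun p : {p : (↥(W₁ ⊔ W₂) →* ℂˣ) × (↥(W₁ ⊔ W₂) →* ℂˣ) // p.1 ≠ 1 ∧ p.2 ≠ 1 ∧ (∀ w : ↥(W₁ ⊔ W₂), (w : G) ∈ W₂ → p.1 w = 1) ∧ (∀ w : ↥(W₁ ⊔ W₂), (w : G) ∈ W₁ → p.2 w = 1)} => fun w : ↥(W₁ ⊔ W₂) => 1 - (p.1.1 w : ℂ) - (p.1.2 w : ℂ) + (p.1.1 w : ℂ) * (p.1.2 w : ℂ)) := by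
  classical
  refine ⟨fun φ ψ hφ hψ w hw => Cfsg.Agent.Lib.OddChar.quad_eq_zero hφ hψ w hw, ?_⟩
  let _ : Fintype ↥(W₁ ⊔ W₂) := Fintype.ofFinite _
  rw [linearIndependent_iff']
  intro s c hs p hp
  obtain ⟨⟨φ, ψ⟩, hφ1, hψ1, hφ, hψ⟩ := p
  have h := congrArg (fun f : ↥(W₁ ⊔ W₂) → ℂ =>
    Cfsg.classInner f (fun w => ((φ * ψ) w : ℂ))) hs
  rw [Cfsg.Agent.Lib.Chars.classInner_sum_left, Finset.sum_eq_single_of_mem _ hp] at h
  · rw [Cfsg.Agent.Lib.Chars.classInner_smul_left] at h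
    have hq : Cfsg.classInner (Cfsg.Agent.Lib.OddChar.quad φ ψ) (fun w => ((φ * ψ) w : ℂ)) = 1 := by
      rw [Cfsg.Agent.Lib.OddChar.classInner_quad_hom, if_pos rfl, if_neg, if_neg, if_neg]
      · ring
      · intro e
        exact hφ1 (Cfsg.Agent.Lib.OddChar.parts_unique hcomm (fun _ _ => rfl) hφ hψ hψ
          ((MonoidHom.ext fun x => one_mul (ψ x)).trans e)).1.symm
      · intro e
        exact hψ1 (Cfsg.Agent.Lib.OddChar.parts_unique hcomm hφ hφ (fun _ _ => rfl) hψ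
          ((MonoidHom.ext fun x => mul_one (φ x)).trans e)).2.symm
      · intro e
        exact hφ1 (Cfsg.Agent.Lib.OddChar.parts_unique hcomm (fun _ _ => rfl) hφ (fun _ _ => rfl) hψ
          ((MonoidHom.ext fun _ => one_mul _).trans e)).1.symm
    have h' : c ⟨(φ, ψ), hφ1, hψ1, hφ, hψ⟩ *
        Cfsg.classInner (Cfsg.Agent.Lib.OddChar.quad φ ψ) (fun w => ((φ * ψ) w : ℂ)) = 0 := by
      refine Eq.trans h ?_
      simp [Cfsg.classInner]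
    rwa [hq, mul_one] at h'
  · rintro ⟨⟨φ', ψ'⟩, hφ'1, hψ'1, hφ', hψ'⟩ - hne
    rw [Cfsg.Agent.Lib.Chars.classInner_smul_left]
    refine mul_eq_zero_of_right _ ?_
    show Cfsg.classInner (Cfsg.Agent.Lib.OddChar.quad φ' ψ') (fun w => ((φ * ψ) w : ℂ)) = 0
    rw [Cfsg.Agent.Lib.OddChar.classInner_quad_hom, if_neg, if_neg, if_neg, if_neg]
    · ring
    · intro e
      obtain ⟨rfl, rfl⟩ := Cfsg.Agent.Lib.OddChar.parts_unique hcomm hφ' hφ hψ' hψ e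
      exact hne rfl
    · intro e
      exact hφ1 (Cfsg.Agent.Lib.OddChar.parts_unique hcomm (fun _ _ => rfl) hφ hψ' hψ
        ((MonoidHom.ext fun x => one_mul (ψ' x)).trans e)).1.symm
    · intro e
      exact hψ1 (Cfsg.Agent.Lib.OddChar.parts_unique hcomm hφ' hφ (fun _ _ => rfl) hψ
        ((MonoidHom.ext fun x => mul_one (φ' x)).trans e)).2.symm
    · intro e
      exact hφ1 (Cfsg.Agent.Lib.OddChar.parts_unique hcomm (fun _ _ => rfl) hφ (fun _ _ => rfl) hψ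
        ((MonoidHom.ext fun _ => one_mul _).trans e)).1.symm

end Cfsg.Agent.S1504
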