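import Cfsg.Statements.S1505
import Mathlib
import Cfsg.Agent.Lib.OddChar.CyclicW

set_option autoImplicit false
open Cfsg

namespace Cfsg.Agent.S1505

open Classical in
/-- Let W₁, W₂ ≤ G form a self-normalising cyclic subgroup W = W₁ ⊔ W₂. For nontrivial linear characters φ, φ' of W trivial on W₂ and ψ, ψ' trivial on W₁, put α = (1 − φ)(1 − ψ) and α' = (1 − φ')(1 − ψ'). Then the function induced from α to G has inner product 1 with the principal character, and the inner product of the functions induced from α and α' is 1 + a + b + ab where a = 1 if φ = φ' (else 0) and b = 1 if ψ = ψ' (else 0). -/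
theorem result {G : Type*} [Group G] [Fintype G] (W₁ W₂ : Subgroup G) (hW : Cfsg.IsSelfNormalizingCyclic W₁ W₂) (φ φ' ψ ψ' : ↥(W₁ ⊔ W₂) →* ℂˣ) (hφ : φ ≠ 1) (hφ' : φ' ≠ 1) (hψ : ψ ≠ 1) (hψ' : ψ' ≠ 1) (hφ₂ : ∀ w : ↥(W₁ ⊔ W₂), (w : G) ∈ W₂ → φ w = 1 ∧ φ' w = 1) (hψ₁ : ∀ w : ↥(W₁ ⊔ W₂), (w : G) ∈ W₁ → ψ w = 1 ∧ ψ' w = 1) : Cfsg.classInner (Cfsg.indFun (W₁ ⊔ W₂) (fun w => 1 - (φ w : ℂ) - (ψ w : ℂ) + (φ w : ℂ) * (ψ w : ℂ))) (fun _ => 1) = 1 ∧ Cfsg.classInner (Cfsg.indFun (W₁ ⊔ W₂) (fun w => 1 - (φ w : ℂ) - (ψ w : ℂ) + (φ w : ℂ) * (ψ w : ℂ))) (Cfsg.indFun (W₁ ⊔ W₂) (fun w => 1 - (φ' w : ℂ) - (ψ' w : ℂ) + (φ' w : ℂ) * (ψ' w : ℂ))) = 1 + (if φ = φ' then 1 else 0) + (if ψ = ψ' then 1 else 0) + (if φ = φ' then 1 else 0) * (if ψ = ψ' then 1 else 0) := by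
  classical
  obtain ⟨-, -, hd, hc, -, -⟩ := id hW
  have hφ1 : ∀ w : ↥(W₁ ⊔ W₂), (w : G) ∈ W₂ → φ w = 1 := fun w hw => (hφ₂ w hw).1
  have hφ'1 : ∀ w : ↥(W₁ ⊔ W₂), (w : G) ∈ W₂ → φ' w = 1 := fun w hw => (hφ₂ w hw).2
  have hψ1 : ∀ w : ↥(W₁ ⊔ W₂), (w : G) ∈ W₁ → ψ w = 1 := fun w hw => (hψ₁ w hw).1
  have hψ'1 : ∀ w : ↥(W₁ ⊔ W₂), (w : G) ∈ W₁ → ψ' w = 1 := fun w hw => (hψ₁ w hw).2
  -- no product of nontrivial parts meets a single part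
  have sep : ∀ a b : ↥(W₁ ⊔ W₂) →* ℂˣ, a ≠ 1 →
      (∀ w : ↥(W₁ ⊔ W₂), (w : G) ∈ W₂ → a w = 1) →
      (∀ w : ↥(W₁ ⊔ W₂), (w : G) ∈ W₁ → b w = 1) → a ≠ b := by
    intro a b ha h2 h1 e
    refine ha (Cfsg.Agent.Lib.OddChar.hom_ext_sup hc (fun w hw => ?_) h2)
    rw [e]; exact h1 w hw
  have nprod : ∀ a b : ↥(W₁ ⊔ W₂) →* ℂˣ, a ≠ 1 →
      (∀ w : ↥(W₁ ⊔ W₂), (w : G) ∈ W₂ → a w = 1) →
      (∀ w : ↥(W₁ ⊔ W₂), (w : G) ∈ W₁ → b w = 1) → a * b ≠ 1 := by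
    intro a b ha h2 h1 e
    exact ha (Cfsg.Agent.Lib.OddChar.parts_unique hc h2 (fun _ _ => rfl) h1 (fun _ _ => rfl)
      (e.trans (MonoidHom.ext fun _ => (one_mul _).symm))).1
  refine ⟨?_, ?_⟩
  · have h1 : Cfsg.IsClassFunction G (fun _ => (1 : ℂ)) := fun _ _ => rfl
    rw [Cfsg.Agent.Lib.Chars.classInner_indFun_left _ _ _ h1]
    have e : (fun _ : ↥(W₁ ⊔ W₂) => (1 : ℂ)) = fun w => ((1 : ↥(W₁ ⊔ W₂) →* ℂˣ) w : ℂ) := by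
      funext w; simp
    show Cfsg.classInner (Cfsg.Agent.Lib.OddChar.quad φ ψ) (fun _ : ↥(W₁ ⊔ W₂) => (1 : ℂ)) = 1
    rw [e, Cfsg.Agent.Lib.OddChar.classInner_quad_hom, if_pos rfl, if_neg hφ, if_neg hψ,
      if_neg (nprod φ ψ hφ hφ1 hψ1)]
    ring
  show Cfsg.classInner (Cfsg.indFun _ (Cfsg.Agent.Lib.OddChar.quad φ ψ))
    (Cfsg.indFun _ (Cfsg.Agent.Lib.OddChar.quad φ' ψ')) = _
  rw [Cfsg.Agent.Lib.OddChar.classInner_indFun_W hW _ _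
    (Cfsg.Agent.Lib.OddChar.quad_eq_zero hφ1 hψ1) (Cfsg.Agent.Lib.OddChar.quad_eq_zero hφ'1 hψ'1),
    Cfsg.Agent.Lib.OddChar.quad_eq φ' ψ', Cfsg.Agent.Lib.Chars.classInner_add_right,
    Cfsg.Agent.Lib.Chars.classInner_sub_right, Cfsg.Agent.Lib.Chars.classInner_sub_right]
  simp only [Cfsg.Agent.Lib.OddChar.classInner_quad_hom]
  have a1 := nprod φ ψ hφ hφ1 hψ1
  have a1' := nprod φ' ψ' hφ' hφ'1 hψ'1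
  have a2 : φ ≠ ψ' := sep φ ψ' hφ hφ1 hψ'1
  have a3 : ψ ≠ φ' := (sep φ' ψ hφ' hφ'1 hψ1).symm
  have one₁ : ∀ w : ↥(W₁ ⊔ W₂), (w : G) ∈ W₁ → (1 : ↥(W₁ ⊔ W₂) →* ℂˣ) w = 1 := fun _ _ => rfl
  have one₂ : ∀ w : ↥(W₁ ⊔ W₂), (w : G) ∈ W₂ → (1 : ↥(W₁ ⊔ W₂) →* ℂˣ) w = 1 := fun _ _ => rfl
  have om : ∀ a : ↥(W₁ ⊔ W₂) →* ℂˣ, (1 : ↥(W₁ ⊔ W₂) →* ℂˣ) * a = a :=
    fun a => MonoidHom.ext fun _ => one_mul _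
  have mo : ∀ a : ↥(W₁ ⊔ W₂) →* ℂˣ, a * (1 : ↥(W₁ ⊔ W₂) →* ℂˣ) = a :=
    fun a => MonoidHom.ext fun _ => mul_one _
  have a4 : φ * ψ ≠ φ' := fun e => hψ
    (Cfsg.Agent.Lib.OddChar.parts_unique hc hφ1 hφ'1 hψ1 one₁ (e.trans (mo φ').symm)).2
  have a5 : φ * ψ ≠ ψ' := fun e => hφ
    (Cfsg.Agent.Lib.OddChar.parts_unique hc hφ1 one₂ hψ1 hψ'1 (e.trans (om ψ').symm)).1
  have a6 : φ ≠ φ' * ψ' := fun e => hψ'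
    (Cfsg.Agent.Lib.OddChar.parts_unique hc hφ1 hφ'1 one₁ hψ'1 ((mo φ).trans e)).2.symm
  have a7 : ψ ≠ φ' * ψ' := fun e => hφ'
    (Cfsg.Agent.Lib.OddChar.parts_unique hc one₂ hφ'1 hψ1 hψ'1 ((om ψ).trans e)).1.symm
  have a8 : φ * ψ = φ' * ψ' ↔ φ = φ' ∧ ψ = ψ' :=
    ⟨Cfsg.Agent.Lib.OddChar.parts_unique hc hφ1 hφ'1 hψ1 hψ'1, fun h => by rw [h.1, h.2]⟩
  simp only [if_neg a1, if_neg a1'.symm, if_neg a2, if_neg a3, if_neg a4, if_neg a5, if_neg a6,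
    if_neg a7, if_neg hφ, if_neg hψ, if_neg hφ'.symm, if_neg hψ'.symm, a8]
  by_cases e1 : φ = φ' <;> by_cases e2 : ψ = ψ' <;> simp [e1, e2] <;> ring

end Cfsg.Agent.S1505
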