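import Cfsg.Statements.S1507
import Mathlib
import Cfsg.Agent.Lib.OddChar.CyclicTI
import Cfsg.Agent.Lib.OddChar.SumMatrix
import Cfsg.Agent.Lib.OddChar.PartsCard

set_option autoImplicit false
open Cfsg

namespace Cfsg.Agent.S1507

open Classical in
/-- Let W₁, W₂ ≤ G form a self-normalising cyclic subgroup W = W₁ ⊔ W₂ of odd order with Nat.card W₁ < Nat.card W₂, and χ an orthonormal family of irreducible characters of G up to sign, indexed by the linear characters ω of W, with χ_1 = 1, χ_ω = ω on W outside W₁ ∪ W₂, and the induction identity for (1 − φ)(1 − ψ). Let θ be a class function of G vanishing on W outside W₁ ∪ W₂, and suppose fewer than 2 · Nat.card W₁ linear characters ω of W have ⟨θ, χ ω⟩ ≠ 0. Then one of: all ⟨θ, χ ω⟩ vanish; or there are ψ₀ and a with ⟨θ, χ ω⟩ = a when ω ψ₀⁻¹ is trivial on W₂ and 0 otherwise; or there are φ₀ and a with ⟨θ, χ ω⟩ = a when ω φ₀⁻¹ is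 trivial on W₁ and 0 otherwise. -/
theorem result {G : Type*} [Group G] [Fintype G] (W₁ W₂ : Subgroup G) (hW : Cfsg.IsSelfNormalizingCyclic W₁ W₂) (hodd : Odd (Nat.card ↥(W₁ ⊔ W₂))) (χ : (↥(W₁ ⊔ W₂) →* ℂˣ) → (G → ℂ)) (hχ : Cfsg.IsCyclicTIFamily W₁ W₂ χ) (hlt : Nat.card W₁ < Nat.card W₂) (θ : G → ℂ) (hθ : Cfsg.IsClassFunction G θ) (hθV : ∀ w : ↥(W₁ ⊔ W₂), (w : G) ∉ W₁ → (w : G) ∉ W₂ → θ w = 0) (hfew : Nat.card {ω : ↥(W₁ ⊔ W₂) →* ℂˣ // Cfsg.classInner θ (χ ω) ≠ 0} < 2 * Nat.card W₁) : (∀ ω, Cfsg.classInner θ (χ ω) = 0) ∨ (∃ (ψ₀ : ↥(W₁ ⊔ W₂) →* ℂˣ) (a : ℂ), ∀ ω, Cfsg.classInner θ (χ ω) = if (∀ w : ↥(W₁ ⊔ W₂), (w : G) ∈ W₂ → (ω * ψ₀⁻¹) w = 1) then a else 0) ∨ (∃ (φ₀ : ↥(W₁ ⊔ W₂) →* ℂˣ) (a : ℂ), ∀ ω, Cfsg.classInner θ (χ ω) = if (∀ w : ↥(W₁ ⊔ W₂), (w : G) ∈ W₁ → (ω * φ₀⁻¹) w = 1) then a else 0) := by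
  classical
  obtain ⟨-, -, hd, hc, -, -⟩ := id hW
  have : Finite (↥(W₁ ⊔ W₂) →* ℂˣ) :=
    Finite.of_injective _ (Cfsg.Agent.Lib.Chars.linIrr_injective (G := ↥(W₁ ⊔ W₂)))
  let I := {φ : ↥(W₁ ⊔ W₂) →* ℂˣ // ∀ w : ↥(W₁ ⊔ W₂), (w : G) ∈ W₂ → φ w = 1}
  let J := {ψ : ↥(W₁ ⊔ W₂) →* ℂˣ // ∀ w : ↥(W₁ ⊔ W₂), (w : G) ∈ W₁ → ψ w = 1}
  let _ : Fintype I := Fintype.ofFinite I
  let _ : Fintype J := Fintype.ofFinite J
  let e : I × J ≃ (↥(W₁ ⊔ W₂) →* ℂˣ) :=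
    { toFun := fun p => p.1.1 * p.2.1
      invFun := fun ω => (⟨_, Cfsg.Agent.Lib.OddChar.leftPart_of_mem_right hd hc ω⟩,
        ⟨_, Cfsg.Agent.Lib.OddChar.rightPart_of_mem_left hd hc ω⟩)
      left_inv := fun p => by
        obtain ⟨h1, h2⟩ := Cfsg.Agent.Lib.OddChar.parts_unique hc
          (Cfsg.Agent.Lib.OddChar.leftPart_of_mem_right hd hc (p.1.1 * p.2.1)) p.1.2
          (Cfsg.Agent.Lib.OddChar.rightPart_of_mem_left hd hc (p.1.1 * p.2.1)) p.2.2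
          (Cfsg.Agent.Lib.OddChar.leftPart_mul_rightPart hd hc _)
        exact Prod.ext (Subtype.ext h1) (Subtype.ext h2)
      right_inv := fun ω => Cfsg.Agent.Lib.OddChar.leftPart_mul_rightPart hd hc ω }
  let r : I → ℂ := fun i => Cfsg.classInner θ (χ i.1)
  let s : J → ℂ := fun j => Cfsg.classInner θ (χ j.1) - Cfsg.classInner θ (χ 1)
  have hrs : ∀ p : I × J, Cfsg.classInner θ (χ (e p)) = r p.1 + s p.2 := fun p => by
    have := Cfsg.Agent.Lib.OddChar.coeff_additive hχ hθ hθV p.1.1 p.2.1 p.1.2 p.2.2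
    show Cfsg.classInner θ (χ (p.1.1 * p.2.1)) = _
    linear_combination this
  have hle : ∀ A : Subgroup G, A ≤ W₁ ⊔ W₂ → IsMulCommutative A := fun A hA => by
    have : IsCyclic ↥(W₁ ⊔ W₂) := hW.2.2.2.2.1
    refine ⟨⟨fun a b => Subtype.ext ?_⟩⟩
    have h : (⟨a, hA a.2⟩ : ↥(W₁ ⊔ W₂)) * ⟨b, hA b.2⟩ = ⟨b, hA b.2⟩ * ⟨a, hA a.2⟩ :=
      IsMulCommutative.is_comm.comm _ _
    have h' : (a : G) * b = b * a := congrArg Subtype.val h
    exact h'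
  have : IsMulCommutative W₁ := hle W₁ le_sup_left
  have : IsMulCommutative W₂ := hle W₂ le_sup_right
  have hcardI : Fintype.card I = Nat.card W₁ := Cfsg.Agent.Lib.OddChar.card_left hd hc
  have hcardJ : Fintype.card J = Nat.card W₂ := Cfsg.Agent.Lib.OddChar.card_right hd hc
  have hoddW : ∀ A : Subgroup G, A ≤ W₁ ⊔ W₂ → Odd (Nat.card A) := fun A hA =>
    Odd.of_dvd_nat hodd (Subgroup.card_dvd_of_le hA)
  have h1 := Nat.odd_iff.1 (hoddW W₁ le_sup_left)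
  have h2 := Nat.odd_iff.1 (hoddW W₂ le_sup_right)
  have hcase := Cfsg.Agent.Lib.OddChar.sum_matrix_support r s
    (by rw [hcardI]; exact Nat.card_pos) (by rw [hcardI, hcardJ]; omega) (by
      rw [hcardI]
      refine lt_of_le_of_lt (le_of_eq ?_) hfew
      rw [← Fintype.card_subtype, ← Nat.card_eq_fintype_card]
      exact Nat.card_congr (e.subtypeEquiv fun p => by rw [hrs p]))
  have hstep : ∀ ω, Cfsg.classInner θ (χ ω) = r (e.symm ω).1 + s (e.symm ω).2 := fun ω => by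
    rw [← hrs, e.apply_symm_apply]
  rcases hcase with h | ⟨j₀, a, h⟩ | ⟨i₀, a, h⟩
  · exact Or.inl fun ω => by rw [hstep ω, h]
  · refine Or.inr (Or.inl ⟨j₀.1, a, fun ω => ?_⟩)
    rw [hstep ω, h]
    refine if_congr ⟨fun he w hw => ?_, fun he => ?_⟩ rfl rfl
    · have hω : Cfsg.Agent.Lib.OddChar.rightPart hd hc ω = j₀.1 := congrArg Subtype.val he
      rw [MonoidHom.mul_apply, MonoidHom.inv_apply, ← hω,
        Cfsg.Agent.Lib.OddChar.rightPart_of_mem_right hd hc ω w hw, mul_inv_cancel]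
    · refine Subtype.ext (Cfsg.Agent.Lib.OddChar.hom_ext_sup hc (fun w hw => ?_) (fun w hw => ?_))
      · rw [j₀.2 w hw]; exact Cfsg.Agent.Lib.OddChar.rightPart_of_mem_left hd hc ω w hw
      · have := he w hw
        rw [MonoidHom.mul_apply, MonoidHom.inv_apply, mul_inv_eq_one] at this
        rw [← this]; exact Cfsg.Agent.Lib.OddChar.rightPart_of_mem_right hd hc ω w hw
  · refine Or.inr (Or.inr ⟨i₀.1, a, fun ω => ?_⟩)
    rw [hstep ω, h]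
    refine if_congr ⟨fun he w hw => ?_, fun he => ?_⟩ rfl rfl
    · have hω : Cfsg.Agent.Lib.OddChar.leftPart hd hc ω = i₀.1 := congrArg Subtype.val he
      rw [MonoidHom.mul_apply, MonoidHom.inv_apply, ← hω,
        Cfsg.Agent.Lib.OddChar.leftPart_of_mem_left hd hc ω w hw, mul_inv_cancel]
    · refine Subtype.ext (Cfsg.Agent.Lib.OddChar.hom_ext_sup hc (fun w hw => ?_) (fun w hw => ?_))
      · have := he w hw
        rw [MonoidHom.mul_apply, MonoidHom.inv_apply, mul_inv_eq_one] at this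
        rw [← this]; exact Cfsg.Agent.Lib.OddChar.leftPart_of_mem_left hd hc ω w hw
      · rw [i₀.2 w hw]; exact Cfsg.Agent.Lib.OddChar.leftPart_of_mem_right hd hc ω w hw

end Cfsg.Agent.S1507
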