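import Cfsg.Statements.S1510
import Mathlib
import Cfsg.Agent.Lib.OddChar.CyclicW
import Cfsg.Agent.Lib.Dade.Coset

set_option autoImplicit false
open scoped Pointwise
open Cfsg

namespace Cfsg.Agent.S1510

/-- Let L be a finite group with a normal subgroup K and a nontrivial cyclic subgroup W₁ of order coprime to its index, K ⊓ W₁ = ⊥ and K ⊔ W₁ = ⊤; let W₂ ≠ ⊥ be a cyclic subgroup of K with K ⊓ C_L(x) = W₂ for every non-identity x ∈ W₁, and suppose W₁ ⊔ W₂ has odd order. Then (W₁, W₂) is a self-normalising cyclic pair in L. -/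
theorem result {L : Type*} [Group L] [Fintype L] (K W₁ W₂ : Subgroup L) [hK : K.Normal] (hKW₁ : K ⊓ W₁ = ⊥) (hKW₁' : K ⊔ W₁ = ⊤) (hW₁ : W₁ ≠ ⊥) (hW₁c : IsCyclic W₁) (hHall : Nat.Coprime (Nat.card W₁) W₁.index) (hW₂ : W₂ ≠ ⊥) (hW₂c : IsCyclic W₂) (hW₂K : W₂ ≤ K) (hC : ∀ x ∈ W₁, x ≠ 1 → K ⊓ Subgroup.centralizer ({x} : Set L) = W₂) (hodd : Odd (Nat.card ↥(W₁ ⊔ W₂))) : Cfsg.IsSelfNormalizingCyclic W₁ W₂ := by
  classical
  have hd : W₁ ⊓ W₂ = ⊥ := le_bot_iff.1 fun w hw => hKW₁ ▸ ⟨hW₂K hw.2, hw.1⟩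
  obtain ⟨x₀, hx₀, hx₀1⟩ : ∃ x ∈ W₁, x ≠ 1 := by
    contrapose! hW₁; exact (Subgroup.eq_bot_iff_forall _).2 hW₁
  have : IsMulCommutative W₁ := inferInstance
  have hc : ∀ a ∈ W₁, ∀ b ∈ W₂, a * b = b * a := by
    intro a ha b hb
    by_cases ha1 : a = 1
    · simp [ha1]
    rw [← hC a ha ha1] at hb
    exact (Subgroup.mem_centralizer_iff.1 hb.2 a rfl)
  have hcompl : Subgroup.IsComplement' K W₁ := by
    refine Subgroup.isComplement'_of_disjoint_and_mul_eq_univ (disjoint_iff.2 hKW₁) ?_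
    rw [← Subgroup.normal_mul, hKW₁', Subgroup.coe_top]
  have hcop : Nat.Coprime (Nat.card W₁) (Nat.card W₂) := by
    rw [hcompl.index_eq_card] at hHall
    exact hHall.coprime_dvd_right (Subgroup.card_dvd_of_le hW₂K)
  have hcyc : IsCyclic ↥(W₁ ⊔ W₂) := by
    rw [← (Cfsg.Agent.Lib.OddChar.prodEquivSup hd hc).isCyclic]
    exact Group.isCyclic_prod_iff.2 ⟨hW₁c, hW₂c, hcop⟩
  refine ⟨hW₁, hW₂, hd, hc, hcyc, fun X hX hne => le_antisymm (fun g hg => ?_) (fun w hw => ?_)⟩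
  · obtain ⟨x, hx⟩ := hne
    have hgx : g * x * g⁻¹ ∈ X := (Subgroup.mem_set_normalizer_iff.1 hg x).1 hx
    obtain ⟨k, hk2, hk1⟩ := Cfsg.Agent.Lib.Dade.exists_exp hcop.symm
    have hpow : ∀ y ∈ X, ∃ a ∈ W₁, a ≠ 1 ∧ y ^ k = a := by
      intro y hy
      obtain ⟨hyW, hy'⟩ := hX hy
      obtain ⟨a, ha, b, hb, e⟩ := Cfsg.Agent.Lib.OddChar.exists_prod hc hyW
      refine ⟨a, ha, fun h1 => hy' (Or.inr ?_), ?_⟩
      · rw [← e, h1, one_mul]; exact hb
      · have hb' : b ^ k = 1 :=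
          orderOf_dvd_iff_pow_eq_one.1 ((Subgroup.orderOf_dvd_natCard W₂ hb).trans hk2)
        have ha' : a ^ k = a := by
          conv_rhs => rw [← pow_one a]
          exact pow_eq_pow_iff_modEq.2 (hk1.of_dvd (Subgroup.orderOf_dvd_natCard W₁ ha))
        rw [← e, (show Commute a b from hc a ha b hb).mul_pow, ha', hb', mul_one]
    obtain ⟨a, ha, ha1, hax⟩ := hpow x hx
    obtain ⟨a', ha', -, ha'x⟩ := hpow _ hgx
    rw [conj_pow, hax] at ha'x
    have : g ∈ (K : Set L) * (W₁ : Set L) := by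
      rw [← Subgroup.normal_mul, hKW₁']; trivial
    obtain ⟨c, hcK, w, hw, rfl⟩ := this
    have hwa : w * a * w⁻¹ = a := by
      have : (⟨w, hw⟩ : W₁) * ⟨a, ha⟩ = ⟨a, ha⟩ * ⟨w, hw⟩ := IsMulCommutative.is_comm.comm _ _
      have : w * a = a * w := congrArg Subtype.val this
      rw [this, mul_inv_cancel_right]
    have hca : c * a * c⁻¹ = a' := by
      rw [← ha'x]
      conv_lhs => rw [← hwa]
      group
    have hmem : a' * a⁻¹ ∈ K ⊓ W₁ := by
      refine ⟨?_, W₁.mul_mem ha' (W₁.inv_mem ha)⟩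
      rw [← hca, show c * a * c⁻¹ * a⁻¹ = c * (a * c⁻¹ * a⁻¹) by group]
      exact K.mul_mem hcK (hK.conj_mem _ (K.inv_mem hcK) a)
    rw [hKW₁, Subgroup.mem_bot, mul_inv_eq_one] at hmem
    have hcC : c ∈ K ⊓ Subgroup.centralizer ({a} : Set L) := by
      refine ⟨hcK, Subgroup.mem_centralizer_iff.2 fun y hy => ?_⟩
      rw [Set.mem_singleton_iff.1 hy]
      rw [hmem] at hca
      exact (mul_inv_eq_iff_eq_mul.1 hca).symm
    rw [hC a ha ha1] at hcC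
    exact mul_mem (Subgroup.mem_sup_right hcC) (Subgroup.mem_sup_left hw)
  · refine Subgroup.mem_set_normalizer_iff.2 fun y => ?_
    have hcomm : ∀ z ∈ W₁ ⊔ W₂, w * z * w⁻¹ = z := by
      intro z hz
      have : (⟨w, hw⟩ : ↥(W₁ ⊔ W₂)) * ⟨z, hz⟩ = ⟨z, hz⟩ * ⟨w, hw⟩ :=
        IsMulCommutative.is_comm.comm _ _
      have : w * z = z * w := congrArg Subtype.val this
      rw [this, mul_inv_cancel_right]
    constructor
    · intro hy; rwa [hcomm y (hX hy).1]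
    · intro hy
      have h2 : y ∈ W₁ ⊔ W₂ := by
        have := mul_mem (mul_mem (inv_mem hw) (hX hy).1) hw
        simpa [mul_assoc] using this
      rwa [hcomm y h2] at hy

end Cfsg.Agent.S1510
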