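import Cfsg.Statements.S1515
import Mathlib
import Cfsg.Agent.Lib.Coherence.Pair

set_option autoImplicit false
open Cfsg

namespace Cfsg.Agent.S1515

/-- Let (S, τ, R) be a coherence system from L to G, χ ∈ S, and ψ an integer combination of S with ⟨χ, ψ⟩ = ⟨conj χ, ψ⟩ = 0. Let τ₁ be a linear isometry on the integer combinations of χ − ψ and χ − conj χ, with virtual-character values, agreeing with τ on integer multiples of χ − conj χ. Then the sum over α ∈ R χ of the squared absolute values of ⟨τ₁(χ − ψ), α⟩ is at least ⟨χ, χ⟩; and if ⟨τ₁(χ − ψ), τ₁(χ − ψ)⟩ minus that sum is at least ⟨ψ, ψ⟩, then the sum equals ⟨χ, χ⟩ and every ⟨τ₁(χ − ψ), α⟩ with α ∈ R χ is 0 or 1. -/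
theorem result {L : Type*} [Group L] [Fintype L] {G : Type*} [Group G] [Fintype G] (S : Set (L → ℂ)) (τ : (L → ℂ) → (G → ℂ)) (R : (L → ℂ) → Finset (G → ℂ)) (hS : Cfsg.IsCoherenceSystem S τ R) (χ : L → ℂ) (hχ : χ ∈ S) (ψ : L → ℂ) (hψ : ψ ∈ Cfsg.zspan S) (h1 : Cfsg.classInner χ ψ = 0) (h2 : Cfsg.classInner (Cfsg.conjFun χ) ψ = 0) (τ₁ : (L → ℂ) → (G → ℂ)) (hτ₁ : Cfsg.IsLinearIsometryOn (Cfsg.zspan {χ - ψ, χ - Cfsg.conjFun χ}) τ₁) (hagree : ∀ n : ℤ, τ₁ (n • (χ - Cfsg.conjFun χ)) = τ (n • (χ - Cfsg.conjFun χ))) : (Cfsg.classInner χ χ).re ≤ ∑ α ∈ R χ, ‖Cfsg.classInner (τ₁ (χ - ψ)) α‖ ^ 2 ∧ ((Cfsg.classInner ψ ψ).re ≤ (Cfsg.classInner (τ₁ (χ - ψ)) (τ₁ (χ - ψ))).re - ∑ α ∈ R χ, ‖Cfsg.classInner (τ₁ (χ - ψ)) α‖ ^ 2 → (∑ α ∈ R χ, ‖Cfsg.classInner (τ₁ (χ - ψ)) α‖ ^ 2 = (Cfsg.classInner χ χ).re ∧ ∀ α ∈ R χ, Cfsg.classInner (τ₁ (χ - ψ)) α = 0 ∨ Cfsg.classInner (τ₁ (χ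 - ψ)) α = 1)) := by
  classical
  open Cfsg.Agent.Lib.Coherence in
  open Cfsg.Agent.Lib.Chars in
  obtain ⟨a, ha, hsum⟩ := pair_coeff hS hχ h2 h1 (τ₁ (χ - ψ))
    (hτ₁.2.2.2 _ (zspan_subset (by simp))) (by
      have h := hagree 1
      rw [one_smul] at h
      rw [← h]
      exact hτ₁.2.2.1 _ (zspan_subset (by simp)) _ (zspan_subset (by simp)))
  open Cfsg.Agent.Lib.Coherence in
  open Cfsg.Agent.Lib.Chars in
  have hsq : ∀ α ∈ R χ, ‖Cfsg.classInner (τ₁ (χ - ψ)) α‖ ^ 2 = ((a α * a α : ℤ) : ℝ) := by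
    intro α hα
    rw [ha α hα, Complex.norm_intCast, sq_abs]
    push_cast; ring
  rw [Finset.sum_congr rfl hsq]
  have hre : (Cfsg.classInner χ χ).re = ((∑ α ∈ R χ, a α : ℤ) : ℝ) := by
    rw [← hsum, Complex.intCast_re]
  have hge := Cfsg.Agent.Lib.Coherence.int_sum_le_sq (R χ) a
  rw [hre, ← Int.cast_sum]
  refine ⟨by exact_mod_cast hge, fun h => ?_⟩
  open Cfsg.Agent.Lib.Coherence in
  open Cfsg.Agent.Lib.Chars in
  have htot : (Cfsg.classInner (τ₁ (χ - ψ)) (τ₁ (χ - ψ))).re =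
      ((∑ α ∈ R χ, a α : ℤ) : ℝ) + (Cfsg.classInner ψ ψ).re := by
    rw [hτ₁.2.2.1 _ (zspan_subset (by simp)) _ (zspan_subset (by simp))]
    have hψχ : Cfsg.classInner ψ χ = 0 := by rw [← conj_classInner χ ψ, h1, map_zero]
    simp only [classInner_sub_left, classInner_sub_right, h1, hψχ, sub_zero, zero_sub,
      sub_neg_eq_add, Complex.add_re, hre]
  rw [htot] at h
  have hle : ∑ α ∈ R χ, a α * a α ≤ ∑ α ∈ R χ, a α := by
    have : ((∑ α ∈ R χ, a α * a α : ℤ) : ℝ) ≤ ((∑ α ∈ R χ, a α : ℤ) : ℝ) := by linarith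
    exact_mod_cast this
  refine ⟨by exact_mod_cast le_antisymm hle hge, fun α hα => ?_⟩
  rw [ha α hα]
  exact (Cfsg.Agent.Lib.Coherence.int_zero_one hle α hα).imp (fun h => by simp [h])
    (fun h => by simp [h])

end Cfsg.Agent.S1515
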