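import Cfsg.Statements.S1519
import Mathlib
import Cfsg.Agent.Lib.Coherence.Transfer

set_option autoImplicit false
open Cfsg

namespace Cfsg.Agent.S1519

/-- Let K be a solvable normal subgroup of the finite group L and (S, τ, R) a coherence system from L to G where S is the set of functions induced from non-principal irreducible characters of K; write S(A) for those induced from characters whose kernel contains A. Let A, B, C, D be normal subgroups of L with A < K, B < K, B ≤ D ≤ C ≤ K and every commutator of D with C in B. If S(A) is coherent and 4 * [L:C]^2 * [C:D] < ([K:A] − 1)^2, then S(B) is coherent. -/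
theorem result {L : Type*} [Group L] [Fintype L] {G : Type*} [Group G] [Fintype G] (K : Subgroup L) [hK : K.Normal] (hsolv : Group.IsSolvable K) (τ : (L → ℂ) → (G → ℂ)) (R : (L → ℂ) → Finset (G → ℂ)) (hS : Cfsg.IsCoherenceSystem (Cfsg.inducedIrrAbove K ⊥) τ R) (A B C D : Subgroup L) [A.Normal] [B.Normal] [C.Normal] [D.Normal] (hAK : A < K) (hBK : B < K) (hBD : B ≤ D) (hDC : D ≤ C) (hCK : C ≤ K) (hcent : ∀ x ∈ D, ∀ y ∈ C, x * y * x⁻¹ * y⁻¹ ∈ B) (hA : Cfsg.IsCoherent (Cfsg.inducedIrrAbove K A) {1}ᶜ τ) (hlt : 4 * C.index ^ 2 * D.relIndex C < (A.relIndex K - 1) ^ 2) : Cfsg.IsCoherent (Cfsg.inducedIrrAbove K B) {1}ᶜ τ := by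
  classical
  have hsub : Cfsg.inducedIrrAbove K B ⊆ Cfsg.inducedIrrAbove K A ∪ Cfsg.inducedIrrAbove K B :=
    Set.subset_union_right
  refine Cfsg.Agent.Lib.Coherence.coherent_sub hS hsub
    (Cfsg.Agent.Lib.Coherence.inducedIrrAbove_subset_bot B)
    (Cfsg.Agent.Lib.Coherence.inducedIrrAbove_nonempty hsolv B hBK)
    (fun χ hχ => Cfsg.Agent.Lib.Coherence.inducedIrrAbove_conj B hχ)
    (Cfsg.Agent.Lib.Coherence.coherent_union_above hsolv hS A hAK _
      (Cfsg.Agent.Lib.Coherence.inducedIrrAbove_subset_bot B)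
      (fun χ hχ => Cfsg.Agent.Lib.Coherence.inducedIrrAbove_conj B hχ) hA fun φ hφ a ha => ?_)
  obtain ⟨θ, a', hk, ha', -, h1⟩ := Cfsg.Agent.Lib.Coherence.inducedIrrAbove_degree hφ
  have hK0 : K.index ≠ 0 := Subgroup.index_ne_zero_of_finite
  have haa : a = a' := by
    rw [h1, Nat.cast_inj] at ha
    exact (Nat.eq_of_mul_eq_mul_left (Nat.pos_of_ne_zero hK0) ha).symm
  have hb := Cfsg.Agent.Lib.Coherence.degree_sq_bound hCK hcent θ hk a' ha'
  have hC : C.index = C.relIndex K * K.index := (Subgroup.relIndex_mul_index hCK).symm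
  rw [haa]
  refine lt_of_pow_lt_pow_left₀ 2 (Nat.zero_le _) (lt_of_le_of_lt ?_ hlt)
  rw [hC]
  calc (2 * (K.index * a')) ^ 2 = 4 * K.index ^ 2 * a' ^ 2 := by ring
    _ ≤ 4 * K.index ^ 2 * (C.relIndex K ^ 2 * D.relIndex C) := Nat.mul_le_mul_left _ hb
    _ = _ := by ring

end Cfsg.Agent.S1519
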