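import Cfsg.Statements.S1527
import Mathlib

set_option autoImplicit false
open Cfsg

namespace Cfsg.Agent.S1527

/-- Let G be a finite group and H i (i in a finite index type) subgroups of pairwise coprime orders, each of whose underlying sets is a TI-subset of G, such that every non-identity element of G is conjugate to an element of some H i. Then Nat.card G − 1 = Σ_i [G : N_G(H i)] · (Nat.card (H i) − 1). -/
theorem result {G : Type*} [Group G] [Finite G] {ι : Type*} [Fintype ι] (H : ι → Subgroup G) (hcop : ∀ i j, i ≠ j → Nat.Coprime (Nat.card (H i)) (Nat.card (H j))) (hTI : ∀ i, Cfsg.IsTISubset (H i : Set G)) (hcover : ∀ g : G, g ≠ 1 → ∃ i, ∃ x : G, x * g * x⁻¹ ∈ H i) : Nat.card G - 1 = ∑ i, (Subgroup.normalizer (H i : Set G)).index * (Nat.card (H i) - 1) := by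
  classical
  let C := {g : G // g ≠ 1}
  have hC : Nat.card C = Nat.card G - 1 := by
    have : Fintype G := Fintype.ofFinite G
    rw [Nat.card_eq_fintype_card, Nat.card_eq_fintype_card, Fintype.card_subtype_compl,
      Fintype.card_subtype_eq]
  have hH : ∀ i, Nat.card {h : H i // h ≠ 1} = Nat.card (H i) - 1 := by
    intro i
    have : Fintype (H i) := Fintype.ofFinite _
    rw [Nat.card_eq_fintype_card, Nat.card_eq_fintype_card, Fintype.card_subtype_compl,
      Fintype.card_subtype_eq]
  let F : (Σ i, (G ⧸ Subgroup.normalizer (H i : Set G)) × {h : H i // h ≠ 1}) → C := fun s =>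
    ⟨s.2.1.out * (s.2.2.1 : G) * s.2.1.out⁻¹, fun h => s.2.2.2 (Subtype.ext (conj_eq_one_iff.1 h))⟩
  have hinj : Function.Injective F := by
    rintro ⟨i, q, h, hh⟩ ⟨j, r, k, hk⟩ e
    have e : q.out * (h : G) * q.out⁻¹ = r.out * (k : G) * r.out⁻¹ := congrArg Subtype.val e
    have hk' : (k : G) = (r.out⁻¹ * q.out) * (h : G) * (r.out⁻¹ * q.out)⁻¹ := by
      calc (k : G) = r.out⁻¹ * (r.out * (k : G) * r.out⁻¹) * r.out := by group
        _ = _ := by rw [← e]; group
    have hij : i = j := by
      by_contra hij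
      have ho : orderOf (k : G) = orderOf (h : G) := by rw [hk']; exact (MulAut.conj _).orderOf_eq _
      have d1 : orderOf (h : G) ∣ Nat.card (H i) := Subgroup.orderOf_dvd_natCard _ h.2
      have d2 : orderOf (h : G) ∣ Nat.card (H j) := ho ▸ Subgroup.orderOf_dvd_natCard _ k.2
      exact hh (Subtype.ext (orderOf_eq_one_iff.1
        (Nat.eq_one_of_dvd_coprimes (hcop i j hij) d1 d2)))
    subst hij
    have hqr : q = r := by
      by_contra hqr
      refine hh (Subtype.ext (hTI i (r.out⁻¹ * q.out) (fun hn => hqr ?_) _ h.2 (hk' ▸ k.2)))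
      rw [← QuotientGroup.out_eq' q, ← QuotientGroup.out_eq' r]
      exact (QuotientGroup.eq.2 hn).symm
    subst hqr
    rw [inv_mul_cancel, one_mul, inv_one, mul_one] at hk'
    obtain rfl : k = h := Subtype.ext hk'
    rfl
  have hsurj : Function.Surjective F := by
    rintro ⟨g, hg⟩
    obtain ⟨i, x, hx⟩ := hcover g hg
    set q : G ⧸ Subgroup.normalizer (H i : Set G) := QuotientGroup.mk x⁻¹ with hq
    obtain ⟨n, hn⟩ := QuotientGroup.mk_out_eq_mul (Subgroup.normalizer (H i : Set G)) x⁻¹
    have hmem : (n : G)⁻¹ * (x * g * x⁻¹) * n ∈ H i := by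
      have := (Subgroup.mem_normalizer_iff.1 ((Subgroup.normalizer (H i : Set G)).inv_mem n.2)
        (x * g * x⁻¹)).1 hx
      simpa using this
    refine ⟨⟨i, q, ⟨⟨_, hmem⟩, fun h => hg ?_⟩⟩, Subtype.ext ?_⟩
    · have h := congrArg Subtype.val h
      have h' : x * g * x⁻¹ = 1 := by
        have : (n : G) * ((n : G)⁻¹ * (x * g * x⁻¹) * n) * (n : G)⁻¹ = x * g * x⁻¹ := by group
        rw [← this]; simp only [OneMemClass.coe_one] at h; rw [h]; group
      exact conj_eq_one_iff.1 h'
    · show q.out * ((n : G)⁻¹ * (x * g * x⁻¹) * n) * q.out⁻¹ = g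
      rw [hq, hn]; group
  rw [← hC, ← Nat.card_congr (Equiv.ofBijective F ⟨hinj, hsurj⟩), Nat.card_sigma]
  refine Finset.sum_congr rfl fun i _ => ?_
  rw [Nat.card_prod, hH i]; rfl

end Cfsg.Agent.S1527
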