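import Cfsg.Statements.S1528
import Mathlib
import Cfsg.Agent.Lib.OddChar.Fixed

set_option autoImplicit false
open Cfsg

namespace Cfsg.Agent.S1528

/-- Let N be a normal subgroup of the finite group G such that every element of G commuting with a non-identity element of N lies in N. If χ is an irreducible character of G with χ n ≠ χ 1 for some n ∈ N, then χ is the function induced from some irreducible character of N. -/
theorem result {G : Type*} [Group G] [Fintype G] (N : Subgroup G) [N.Normal] (hC : ∀ n ∈ N, n ≠ 1 → Subgroup.centralizer ({n} : Set G) ≤ N) (χ : G → ℂ) (hχ : Cfsg.IsIrrCharacter G χ) (hker : ∃ n ∈ N, χ n ≠ χ 1) : ∃ φ : N → ℂ, Cfsg.IsIrrCharacter N φ ∧ χ = Cfsg.indFun N φ := by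
  classical
  obtain ⟨n, hn, hne⟩ := hker
  obtain ⟨m, hm⟩ := Lib.Chars.isCharacter_exists_nat_decomp
    (Lib.Chars.isCharacter_restrict N (Lib.Chars.isCharacter_of_isIrrCharacter hχ))
  obtain ⟨φ, hφ0, hφ1⟩ : ∃ φ : Cfsg.IrrCharacter N, m φ ≠ 0 ∧ (φ : N → ℂ) ≠ fun _ => 1 := by
    by_contra h
    push Not at h
    refine hne ?_
    have e : ∀ y : N, χ y = ∑ φ : Cfsg.IrrCharacter N, (m φ : ℂ) := fun y => by
      rw [show χ y = (fun x : N => χ x) y from rfl, hm, Finset.sum_apply]
      refine Finset.sum_congr rfl fun φ _ => ?_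
      by_cases h0 : m φ = 0
      · simp [h0]
      · simp [h φ h0]
    have e1 := e ⟨n, hn⟩
    have e2 := e 1
    simp only [OneMemClass.coe_one] at e2
    rw [e1, e2]
  have hT : ∀ g, g ∈ N ↔ Lib.Clifford.conjFun g (φ : N → ℂ) = (φ : N → ℂ) := fun g => by
    refine ⟨fun hg => funext fun y => ?_, fun hfix => by_contra fun hg =>
      Lib.OddChar.not_fixed_of_centralizer_le hC hg φ.2 hφ1 hfix⟩
    exact Lib.Chars.irr_isClassFunction φ y ⟨g, hg⟩
  have hcon : Cfsg.classInner (Lib.Clifford.resFun N χ) (φ : N → ℂ) ≠ 0 := by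
    rw [show Lib.Clifford.resFun N χ = fun x : N => χ x from rfl, hm,
      Lib.Chars.classInner_sum_smul_irr]
    exact_mod_cast hφ0
  obtain ⟨ψ, hψ, he, -⟩ := Lib.Clifford.exists_clifford_correspondent φ.2 hT le_rfl hχ hcon
  exact ⟨ψ, hψ, he.symm⟩

end Cfsg.Agent.S1528
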