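import Cfsg.Statements.S1532
import Mathlib
import Cfsg.Agent.Lib.Coherence.TIKernel
import Cfsg.Agent.Lib.Coherence.Central

set_option autoImplicit false
open Cfsg

namespace Cfsg.Agent.S1532

/-- Let G be a finite group, p an odd prime and P a Sylow p-subgroup that is non-abelian, whose underlying set is a TI-subset of G, with P properly contained in its set normaliser N and C_G(x) ≤ P for every non-identity x ∈ P. Let Z be a nontrivial subgroup of the centre of P normalised by N. Then the set of irreducible characters χ of N with χ z ≠ χ 1 for some z ∈ Z is coherent for the map induced by induction from N to G. -/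
theorem result {G : Type*} [Group G] [Fintype G] (p : ℕ) [Fact p.Prime] (hp : p ≠ 2) (P : Sylow p G) (hna : ¬ IsMulCommutative (P : Subgroup G)) (hTI : Cfsg.IsTISubset ((P : Subgroup G) : Set G)) (hlt : (P : Subgroup G) < Subgroup.normalizer ((P : Subgroup G) : Set G)) (hC : ∀ k ∈ (P : Subgroup G), k ≠ 1 → Subgroup.centralizer ({k} : Set G) ≤ (P : Subgroup G)) [Fintype ↥(Subgroup.normalizer ((P : Subgroup G) : Set G))] (Z : Subgroup G) (hZ1 : Z ≠ ⊥) (hZP : ∀ z ∈ Z, z ∈ (P : Subgroup G) ∧ ∀ y ∈ (P : Subgroup G), z * y = y * z) (hZn : ∀ x ∈ Subgroup.normalizer ((P : Subgroup G) : Set G), ∀ z ∈ Z, x * z * x⁻¹ ∈ Z) : Cfsg.IsCoherent {χ : ↥(Subgroup.normalizer ((P : Subgroup G) : Set G)) → ℂ | Cfsg.IsIrrCharacter ↥(Subgroup.normalizer ((P : Subgroup G) : Set G)) χ ∧ ∃ z : ↥(Subgroup.normalizer ((P : Subgroup G) : Set G)), (z : G) ∈ Z ∧ χ z ≠ χ 1} {1}ᶜ (fun α => Cfsg.indFun (Subgroup.normalizer ((P : Subgroup G) : Set G)) α) := by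
  classical
  have hp' : p.Prime := Fact.out
  have hC' : ∀ k ∈ (P : Subgroup G), k ≠ 1 →
      Subgroup.normalizer ((P : Subgroup G) : Set G) ⊓ Subgroup.centralizer ({k} : Set G) ≤ (P : Subgroup G) :=
    fun k hk hk1 => inf_le_right.trans (hC k hk hk1)
  set H := Lib.Coherence.kerIn (P : Subgroup G)
  have : H.Normal := Subgroup.normal_in_normalizer
  set Z' := Z.subgroupOf (Subgroup.normalizer ((P : Subgroup G) : Set G))
  have hZle : Z ≤ Subgroup.normalizer ((P : Subgroup G) : Set G) :=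
    fun z hz => Subgroup.le_normalizer (hZP z hz).1
  have : Z'.Normal := ⟨fun z hz g => hZn g g.2 z hz⟩
  have hna' : ¬ IsMulCommutative H := fun h => hna
    ⟨⟨fun a b => Subtype.ext (congrArg (fun c : H => ((c : ↥(Subgroup.normalizer ((P : Subgroup G) : Set G))) : G))
      (h.is_comm.comm (⟨⟨a, Subgroup.le_normalizer a.2⟩, a.2⟩ : H) ⟨⟨b, Subgroup.le_normalizer b.2⟩, b.2⟩))⟩⟩
  obtain ⟨m, hm⟩ := IsPGroup.iff_card.1 P.2
  have hZ' : Z' ≤ H := fun z hz => (hZP _ hz).1
  have hset : {χ : ↥(Subgroup.normalizer ((P : Subgroup G) : Set G)) → ℂ |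
      Cfsg.IsIrrCharacter _ χ ∧ ∃ z : ↥(Subgroup.normalizer ((P : Subgroup G) : Set G)), (z : G) ∈ Z ∧ χ z ≠ χ 1} =
      Cfsg.inducedIrrAbove H ⊥ \ Cfsg.inducedIrrAbove H Z' :=
    Lib.Coherence.frob_set (Lib.Coherence.kerIn_centralizer hC') Z' hZ'
  rw [hset]
  obtain ⟨hτ, hτ1⟩ := Lib.Coherence.ti_isometry hTI
  exact Lib.Coherence.frob_coherent_outside hp' hp (Lib.Coherence.kerIn_card.trans hm) hna'
    (Lib.Coherence.kerIn_centralizer hC') Z'
    (fun e => hZ1 (by rwa [Subgroup.subgroupOf_eq_bot, disjoint_iff, inf_eq_left.2 hZle] at e)) hZ'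
    (fun z hz k hk => Subtype.ext ((hZP _ hz).2 _ hk)) hτ hτ1

end Cfsg.Agent.S1532
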