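import Cfsg.Statements.S1533
import Mathlib
import Cfsg.Agent.Lib.Coherence.TIMain

set_option autoImplicit false
open Cfsg

namespace Cfsg.Agent.S1533

/-- Let G be a finite group, p an odd prime, and P a nontrivial Sylow p-subgroup whose underlying set is a TI-subset of G, with P properly contained in its set normaliser N and C_G(x) ≤ P for every non-identity x ∈ P. Let S be the set of irreducible characters χ of N with χ x ≠ χ 1 for some x ∈ P. Then either S has exactly one member, P is elementary abelian and Nat.card P = [N:P] + 1; or (S, N minus 1, induction to G) is coherent. -/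
theorem result {G : Type*} [Group G] [Fintype G] (p : ℕ) [Fact p.Prime] (hp : p ≠ 2) (P : Sylow p G) (hP1 : (P : Subgroup G) ≠ ⊥) (hTI : Cfsg.IsTISubset ((P : Subgroup G) : Set G)) (hlt : (P : Subgroup G) < Subgroup.normalizer ((P : Subgroup G) : Set G)) (hC : ∀ k ∈ (P : Subgroup G), k ≠ 1 → Subgroup.centralizer ({k} : Set G) ≤ (P : Subgroup G)) [Fintype ↥(Subgroup.normalizer ((P : Subgroup G) : Set G))] : (Nat.card {χ : ↥(Subgroup.normalizer ((P : Subgroup G) : Set G)) → ℂ // Cfsg.IsIrrCharacter ↥(Subgroup.normalizer ((P : Subgroup G) : Set G)) χ ∧ ∃ x : ↥(Subgroup.normalizer ((P : Subgroup G) : Set G)), (x : G) ∈ (P : Subgroup G) ∧ χ x ≠ χ 1} = 1 ∧ Cfsg.IsElementaryAbelian p (P : Subgroup G) ∧ Nat.card (P : Subgroup G) = ((P : Subgroup G).subgroupOf (Subgroup.normalizer ((P : Subgroup G) : Set G))).index + 1) ∨ Cfsg.IsCoherent {χ : ↥(Subgroup.normalizer ((P : Subgroup G) : Set G)) → ℂ | Cfsg.IsIrrCharacter ↥(Subgroup.normalizer ((P : Subgroup G) : Set G)) χ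 ∧ ∃ x : ↥(Subgroup.normalizer ((P : Subgroup G) : Set G)), (x : G) ∈ (P : Subgroup G) ∧ χ x ≠ χ 1} {1}ᶜ (fun α => Cfsg.indFun (Subgroup.normalizer ((P : Subgroup G) : Set G)) α) := by
  classical
  have hp' : p.Prime := Fact.out
  have hC' : ∀ k ∈ (P : Subgroup G), k ≠ 1 →
      Subgroup.normalizer ((P : Subgroup G) : Set G) ⊓ Subgroup.centralizer ({k} : Set G) ≤ (P : Subgroup G) :=
    fun k hk hk1 => inf_le_right.trans (hC k hk hk1)
  have hnil : Group.IsNilpotent (P : Subgroup G) := P.2.isNilpotent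
  obtain ⟨m, hm⟩ := IsPGroup.iff_card.1 P.2
  have hset := Lib.Coherence.ti_set hC'
  rcases Lib.Coherence.ti_trichotomy hP1 hnil hTI hlt hC' with
    ⟨q, hq, hqd, hel, he, hc⟩ | ⟨m', hm', -, -, -⟩ | h
  · have hqp : q = p := (Nat.prime_dvd_prime_iff_eq hq hp').1 (hq.dvd_of_dvd_pow (hm ▸ hqd))
    subst hqp
    refine Or.inl ⟨?_, hel, he⟩
    rw [← hc]
    exact Nat.card_congr (Equiv.subtypeEquivRight fun χ => Set.ext_iff.1 hset χ)
  · exfalso
    rcases Nat.eq_zero_or_pos m with h0 | h0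
    · exact hP1 (Subgroup.card_eq_one.1 (by rw [hm, h0, pow_zero]))
    · exact hp ((Nat.prime_dvd_prime_iff_eq hp' Nat.prime_two).1
        (hp'.dvd_of_dvd_pow ((hm.symm.trans hm') ▸ dvd_pow_self p h0.ne')))
  · exact Or.inr (by rw [hset]; exact h)

end Cfsg.Agent.S1533
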