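import Cfsg.Statements.S1536
import Mathlib
import Cfsg.Agent.Lib.OddChar.Fixed

set_option autoImplicit false
open Cfsg

namespace Cfsg.Agent.S1536

/-- Let H be a normal subgroup of the finite group M whose order is coprime to its index. For x ∈ M: some non-principal irreducible character of H is unchanged under h ↦ θ(x h x⁻¹) if and only if some non-identity element of H commutes with x. -/
theorem result {M : Type*} [Group M] [Finite M] (H : Subgroup M) [hN : H.Normal] (hHall : Nat.Coprime (Nat.card H) H.index) (x : M) : (∃ θ : H → ℂ, Cfsg.IsIrrCharacter H θ ∧ θ ≠ (fun _ => 1) ∧ (fun h : H => θ ⟨x * h * x⁻¹, hN.conj_mem h h.2 x⟩) = θ) ↔ ∃ h ∈ H, h ≠ 1 ∧ x * h = h * x := by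
  exact Lib.OddChar.exists_fixedIrr_iff (N := H) x |>.trans ⟨fun ⟨n, hn, hfix⟩ => by
      obtain ⟨k, hk, hke⟩ := (Lib.OddChar.map_mk_eq_iff x n).mp hfix
      have hxo : Nat.card H * H.index = Nat.card M := H.card_mul_index
      obtain ⟨j, hj0, hj1⟩ := Lib.Dade.exists_exp hHall
      by_cases hx1 : x ^ H.index = 1
      · have hcop : Nat.Coprime (orderOf x) (Nat.card H) :=
          (hHall.coprime_dvd_right (orderOf_dvd_of_pow_eq_one hx1)).symm
        obtain ⟨m, hm, hmx⟩ := Lib.OddChar.exists_fixed_rep hcop ⟨_, hfix⟩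
        refine ⟨m, m.2, fun h => hn ?_, hmx⟩
        have hm1 : m = 1 := Subtype.ext h
        rw [hm1] at hm
        exact isConj_one_right.mp (ConjClasses.mk_eq_mk_iff_isConj.mp hm)
      · refine ⟨x ^ H.index, Subgroup.pow_index_mem H x, hx1, ?_⟩
        exact ((Commute.refl x).pow_right _).eq,
    fun ⟨h, hh, hne, hc⟩ => ⟨⟨h, hh⟩, fun e => hne (congrArg Subtype.val e),
      Lib.OddChar.fixed_of_commute x ⟨h, hh⟩ hc⟩⟩

end Cfsg.Agent.S1536
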