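import Cfsg.Statements.S1546
import Mathlib

set_option autoImplicit false
open Cfsg

namespace Cfsg.Agent.S1546

/-- Let p and q be odd primes and N = (p ^ q − 1) / (p − 1) = 1 + p + ⋯ + p^(q−1). Then N is odd; if p ≡ 1 (mod q) then q ∣ N; and if p is not ≡ 1 (mod q) then N is coprime to p − 1 and every divisor of N is ≡ 1 (mod q). -/
theorem result (p q : ℕ) (hp : p.Prime) (hq : q.Prime) (hp2 : p ≠ 2) (hq2 : q ≠ 2) : Odd ((p ^ q - 1) / (p - 1)) ∧ (p % q = 1 → q ∣ (p ^ q - 1) / (p - 1)) ∧ (p % q ≠ 1 → Nat.Coprime ((p ^ q - 1) / (p - 1)) (p - 1) ∧ ∀ x : ℕ, x ∣ (p ^ q - 1) / (p - 1) → x % q = 1) := by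
  rw [← Nat.geomSum_eq hp.two_le]
  set N := ∑ i ∈ Finset.range q, p ^ i with hN
  have hpo : Odd p := hp.odd_of_ne_two hp2
  have hqo : Odd q := hq.odd_of_ne_two hq2
  have hcong : ∀ r : ℕ, p % r = 1 % r → (N : ZMod r) = (q : ZMod r) := by
    intro r hr
    have h1 : (p : ZMod r) = 1 := by
      rw [← ZMod.natCast_mod p r, hr, ZMod.natCast_mod, Nat.cast_one]
    rw [hN]; push_cast
    simp [h1]
  have hpow : ∀ r : ℕ, r ∣ N → (p : ZMod r) ^ q = 1 := by
    intro r hr
    have := geom_sum_mul (p : ZMod r) q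
    have h0 : (∑ i ∈ Finset.range q, (p : ZMod r) ^ i) = 0 := by
      have := (ZMod.natCast_eq_zero_iff N r).2 hr
      rwa [hN, Nat.cast_sum, Finset.sum_congr rfl fun i _ => Nat.cast_pow p i] at this
    rw [h0, zero_mul] at this
    exact sub_eq_zero.1 this.symm
  refine ⟨?_, ?_, fun hne => ?_⟩
  · rw [Nat.odd_iff]
    have h := hcong 2 (by rw [Nat.odd_iff.1 hpo])
    have := (ZMod.natCast_eq_natCast_iff' N q 2).1 h
    rw [this, Nat.odd_iff.1 hqo]
  · intro h1
    have h := hcong q (by rw [h1, Nat.mod_eq_of_lt hq.one_lt])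
    rw [ZMod.natCast_self] at h
    exact (ZMod.natCast_eq_zero_iff N q).1 h
  have hcop : Nat.Coprime N (p - 1) := by
    refine Nat.coprime_of_dvd fun r hr hrN hrp => ?_
    have h1 : p % r = 1 % r := ((Nat.modEq_iff_dvd' hp.one_lt.le).2 hrp).symm
    have h := hcong r h1
    rw [(ZMod.natCast_eq_zero_iff N r).2 hrN] at h
    have hrq : r = q := (Nat.prime_dvd_prime_iff_eq hr hq).1 ((ZMod.natCast_eq_zero_iff q r).1 h.symm)
    exact hne (by rw [hrq] at h1; rw [h1, Nat.mod_eq_of_lt hq.one_lt])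
  refine ⟨hcop, fun x hx => ?_⟩
  have hN0 : N ≠ 0 := by
    have : 1 ≤ N := le_trans (by simp) (Finset.single_le_sum (f := fun i => p ^ i)
      (fun i _ => Nat.zero_le _) (Finset.mem_range.2 hq.pos))
    omega
  have key : ∀ r : ℕ, r.Prime → r ∣ N → r % q = 1 := by
    intro r hr hrN
    have : Fact r.Prime := ⟨hr⟩
    have h1 := hpow r hrN
    have hne1 : (p : ZMod r) ≠ 1 := by
      intro h
      have h' : ((p - 1 : ℕ) : ZMod r) = 0 := by rw [Nat.cast_sub hp.one_lt.le, h, Nat.cast_one, sub_self]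
      exact hr.not_dvd_one (hcop ▸ Nat.dvd_gcd hrN ((ZMod.natCast_eq_zero_iff _ r).1 h'))
    have : Fact q.Prime := ⟨hq⟩
    have hord : orderOf (p : ZMod r) = q := orderOf_eq_prime h1 hne1
    have hne0 : (p : ZMod r) ≠ 0 := fun h => by simp [h, zero_pow hq.ne_zero] at h1
    have hdvd : q ∣ r - 1 := hord ▸ ZMod.orderOf_dvd_card_sub_one hne0
    obtain ⟨c, hc⟩ := hdvd
    rw [show r = 1 + q * c by have := hr.one_lt; omega, Nat.add_mul_mod_self_left,
      Nat.mod_eq_of_lt hq.one_lt]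
  clear_value N
  induction x using Nat.recOnMul with
  | zero => exact absurd (zero_dvd_iff.1 hx) hN0
  | one => exact Nat.mod_eq_of_lt hq.one_lt
  | prime r hr => exact key r hr hx
  | mul a b ha hb =>
    rw [Nat.mul_mod, ha (dvd_trans (dvd_mul_right a b) hx), hb (dvd_trans (dvd_mul_left b a) hx),
      one_mul, Nat.mod_eq_of_lt hq.one_lt]

end Cfsg.Agent.S1546
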