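import Cfsg.Statements.S1562
import Cfsg.Agent.Lib.Golay.Suborbit.TriadCount

set_option autoImplicit false
open scoped Pointwise
open Cfsg

namespace Cfsg.Agent.S1562

/-- Orbits of a triad stabiliser on the triads disjoint from it: the 210 triads inside a common octad with it form one orbit and the remaining 1120 another. -/
theorem result (T : Finset Cfsg.GolayPt) (hT : T.card = 3) : {U : Finset Cfsg.GolayPt | U.card = 3 ∧ Disjoint T U ∧ (∃ o ∈ Cfsg.octads, T ∪ U ⊆ o)}.ncard = 210 ∧ {U : Finset Cfsg.GolayPt | U.card = 3 ∧ Disjoint T U ∧ ¬ (∃ o ∈ Cfsg.octads, T ∪ U ⊆ o)}.ncard = 1120 ∧ ∀ U U' : Finset Cfsg.GolayPt, U.card = 3 → U'.card = 3 → Disjoint T U → Disjoint T U' → ((∃ o ∈ Cfsg.octads, T ∪ U ⊆ o) ↔ (∃ o ∈ Cfsg.octads, T ∪ U' ⊆ o)) → ∃ g : Equiv.Perm Cfsg.GolayPt, g ∈ Cfsg.M24 ∧ g • T = T ∧ g • U = U' := by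
  refine ⟨(Lib.Golay.Suborbit.Triad.counts hT).1, (Lib.Golay.Suborbit.Triad.counts hT).2,
    fun U U' hU hU' hdU hdU' hiff => ?_⟩
  obtain ⟨g, h1, h2⟩ := Lib.Golay.Suborbit.Triad.exists_conj (x := T) hT (y := U) hU (z := U') hU' (fun g hg => by
    have e : ∀ (y : Finset Cfsg.GolayPt) (b : Bool), Disjoint T y →
        (b = true ↔ ∃ o ∈ Cfsg.octads, T ∪ y ⊆ o) →
        Lib.Golay.Suborbit.Triad.sig (g⁻¹ • y) = (0, b) := fun y b hd hb => by
      have hT' : g⁻¹ • T = Lib.Golay.ptsOf Lib.Golay.Orbits.Triad.base := by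
        rw [← hg, inv_smul_smul]
      rw [Lib.Golay.Suborbit.Triad.sig_eq_iff, ← hT', ← Finset.smul_finset_union]
      refine ⟨?_, hb.trans ⟨?_, ?_⟩⟩
      · rw [Finset.disjoint_iff_inter_eq_empty, ← Finset.smul_finset_inter,
          Finset.disjoint_iff_inter_eq_empty.mp hd, Finset.smul_finset_empty]
      · rintro ⟨o, ho, h⟩
        exact ⟨g⁻¹ • o, Lib.Golay.StabCert.smul_octad _ ho, Finset.smul_finset_subset_smul_finset h⟩
      · rintro ⟨o, ho, h⟩
        refine ⟨g • o, Lib.Golay.StabCert.smul_octad _ ho, ?_⟩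
        have := Finset.smul_finset_subset_smul_finset (a := g) h
        rwa [smul_inv_smul] at this
    classical
    rw [e U (decide (∃ o ∈ Cfsg.octads, T ∪ U ⊆ o)) hdU (by simp),
      e U' (decide (∃ o ∈ Cfsg.octads, T ∪ U ⊆ o)) hdU' (by simp [hiff])])
  exact ⟨g, g.2, h1, h2⟩

end Cfsg.Agent.S1562
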