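import Cfsg.Statements.S1568
import Cfsg.Agent.Lib.Leech.Census48

set_option autoImplicit false
open Cfsg Cfsg.Agent.Lib.Leech

namespace Cfsg.Agent.S1568

/-- Shape census of the lattice vectors of sum of squares 48 (customary norm 6): the four families (2^12, 0^12), (±3^3, ±1^21), (±4, ±2^8, 0^15) and (±5, ±1^23) have 5275648, 8290304, 3108864 and 98304 members. -/
theorem result : {x : Cfsg.GolayPt → ℤ | x ∈ Cfsg.leechLattice ∧ Cfsg.sqNorm x = 48 ∧ ∀ i, x i = 0 ∨ x i = 2 ∨ x i = -2}.ncard = 5275648 ∧ {x : Cfsg.GolayPt → ℤ | x ∈ Cfsg.leechLattice ∧ Cfsg.sqNorm x = 48 ∧ ∃ i j k, i ≠ j ∧ j ≠ k ∧ i ≠ k ∧ |x i| = 3 ∧ |x j| = 3 ∧ |x k| = 3}.ncard = 8290304 ∧ {x : Cfsg.GolayPt → ℤ | x ∈ Cfsg.leechLattice ∧ Cfsg.sqNorm x = 48 ∧ ∃ i, |x i| = 4}.ncard = 3108864 ∧ {x : Cfsg.GolayPt → ℤ | x ∈ Cfsg.leechLattice ∧ Cfsg.sqNorm x = 48 ∧ ∃ i, |x i|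 = 5}.ncard = 98304 := by
  obtain ⟨h2, h3, h4, h5⟩ := census48
  have e : ∀ P : (GolayPt → ℤ) → Prop, {x : GolayPt → ℤ | x ∈ shell48 ∧ P x} =
      {x | x ∈ leechLattice ∧ sqNorm x = 48 ∧ P x} := fun P => by
    ext x; exact and_assoc
  rw [fam2, e] at h2
  rw [fam3, e] at h3
  rw [fam4, e] at h4
  rw [fam5, e] at h5
  exact ⟨h2, h3, h4, h5⟩

end Cfsg.Agent.S1568
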