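import Cfsg.Statements.S1571
import Cfsg.Agent.Lib.Leech.Order

set_option autoImplicit false
open scoped Pointwise
open Cfsg Cfsg.Agent.Lib.Leech

namespace Cfsg.Agent.S1571

/-- The stabiliser of the standard cross in the automorphism group of the lattice is the monomial group of the code: each of its elements acts as a signed permutation with permutation part in the code's group and sign set a codeword, and it has order 4096 · 244823040. -/
theorem result : (∀ g : ↥Cfsg.Co0, (∀ v : ↥Cfsg.leechLattice, (v : Cfsg.GolayPt → ℤ) ∈ Cfsg.stdCross → ((g • v : ↥Cfsg.leechLattice) : Cfsg.GolayPt → ℤ) ∈ Cfsg.stdCross) → ∃ f ∈ Cfsg.golayMonomialMaps, ∀ v : ↥Cfsg.leechLattice, ((g • v : ↥Cfsg.leechLattice) : Cfsg.GolayPt → ℤ) = f (v : Cfsg.GolayPt → ℤ)) ∧ Nat.card {g : ↥Cfsg.Co0 // (∀ v : ↥Cfsg.leechLattice, (v : Cfsg.GolayPt → ℤ) ∈ Cfsg.stdCross → ((g • v : ↥Cfsg.leechLattice) : Cfsg.GolayPt → ℤ) ∈ Cfsg.stdCross)} = 4096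 * 244823040 := by
  have hmono : ∀ σ hσ w hw' (v : leechLattice), (v : GolayPt → ℤ) ∈ stdCross →
      ((monoCo σ hσ w hw' • v : leechLattice) : GolayPt → ℤ) ∈ stdCross := by
    intro σ hσ w hw' v hv
    obtain ⟨i, e | e⟩ := mem_stdCross_iff.1 hv
    · rw [monoCo_smul, e, signedPerm_vec8]
      refine mem_stdCross_iff.2 ⟨σ i, ?_⟩
      split
      · exact Or.inr rfl
      · exact Or.inl rfl
    · have hneg : signedPerm σ (support₂ w) (-vec8 i) = -signedPerm σ (support₂ w) (vec8 i) := by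
        funext k; simp only [signedPerm, Pi.neg_apply]; split <;> rfl
      rw [monoCo_smul, e, hneg, signedPerm_vec8]
      refine mem_stdCross_iff.2 ⟨σ i, ?_⟩
      split
      · exact Or.inl (neg_neg _)
      · exact Or.inr rfl
  have hex : ∀ g : Co0, (∀ v : leechLattice, (v : GolayPt → ℤ) ∈ stdCross →
      ((g • v : leechLattice) : GolayPt → ℤ) ∈ stdCross) → ∃ σ hσ w hw', g = monoCo σ hσ w hw' :=
    fun g hg => exists_mono fun i => hg _ (mem_stdCross_iff.2 ⟨i, Or.inl rfl⟩)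
  refine ⟨fun g hg => ?_, ?_⟩
  · obtain ⟨σ, hσ, w, hw', rfl⟩ := hex g hg
    exact ⟨signedPerm σ (support₂ w), ⟨σ, hσ, support₂ w, ⟨w, hw', rfl⟩, rfl⟩,
      fun v => monoCo_smul σ hσ w hw' v⟩
  · let Φ : ↥M24 × ↥golayCode → {g : ↥Co0 // ∀ v : leechLattice, (v : GolayPt → ℤ) ∈ stdCross →
        ((g • v : leechLattice) : GolayPt → ℤ) ∈ stdCross} :=
      fun p => ⟨monoCo p.1.1 p.1.2 p.2.1 p.2.2, hmono _ _ _ _⟩
    have hΦ : Function.Bijective Φ := by
      constructor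
      · rintro ⟨⟨σ, hσ⟩, ⟨w, hw'⟩⟩ ⟨⟨σ', hσ'⟩, ⟨w', hw''⟩⟩ e
        obtain ⟨rfl, rfl⟩ := monoCo_injective (hσ := hσ) (hσ' := hσ') (hw₁ := hw') (hw₂ := hw'')
          (congrArg Subtype.val e)
        rfl
      · rintro ⟨g, hg⟩
        obtain ⟨σ, hσ, w, hw', rfl⟩ := hex g hg
        exact ⟨(⟨σ, hσ⟩, ⟨w, hw'⟩), rfl⟩
    rw [← Nat.card_eq_of_bijective Φ hΦ, Nat.card_prod, Cfsg.Agent.Lib.Golay.card_M24,
      Cfsg.Agent.Lib.Golay.card_golayCode]

end Cfsg.Agent.S1571
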