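import Cfsg.Statements.S1578
import Cfsg.Agent.Lib.Leech.Pairs

set_option autoImplicit false
open Cfsg Cfsg.Agent.Lib.Leech

namespace Cfsg.Agent.S1578

/-- A lattice vector of customary norm 6 is the sum of an unordered pair of minimal vectors in exactly 276 ways (552 ordered summands). -/
theorem result (u : ↥Cfsg.leechLattice) (hu : Cfsg.sqNorm (u : Cfsg.GolayPt → ℤ) = 48) : {v : ↥Cfsg.leechLattice | Cfsg.sqNorm (v : Cfsg.GolayPt → ℤ) = 32 ∧ Cfsg.sqNorm ((u - v) : Cfsg.GolayPt → ℤ) = 32}.ncard = 552 := by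
  -- a decomposition of one vector of squared length 48, moved to `u`
  obtain ⟨a, ha, b, hb, hab⟩ : ∃ a : leechLattice, sqNorm (a : GolayPt → ℤ) = 32 ∧
      ∃ b : leechLattice, sqNorm (b : GolayPt → ℤ) = 32 ∧
        dotInt (a : GolayPt → ℤ) (b : GolayPt → ℤ) = -8 := by
    have hc := ncard_pairSet (n := 8) (by norm_num) (by norm_num) (-2)
    rw [lineCount_eval.2.1] at hc
    obtain ⟨⟨a, b⟩, ha, hb, hab⟩ := Set.nonempty_of_ncard_ne_zero (hc.trans_ne (by norm_num))
    exact ⟨a, ha, b, hb, hab.trans (by norm_num)⟩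
  have h48 : sqNorm ((a + b : leechLattice) : GolayPt → ℤ) = 48 := by
    rw [AddSubgroup.coe_add, dotInt_add_self, ha, hb, hab]; norm_num
  obtain ⟨g, hg⟩ := exists_smul48 (a + b) u h48 hu
  set v₀ := g • a with hv₀
  have hrest : u - v₀ = g • b := by rw [← hg, smul_add', hv₀, add_sub_cancel_left]
  have key : {v : leechLattice | sqNorm (v : GolayPt → ℤ) = 32 ∧
      sqNorm ((u - v) : GolayPt → ℤ) = 32} =
        MulAction.orbit (MulAction.stabilizer Co0 u) v₀ := by
    ext v
    constructor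
    · intro hv
      have hdot : ∀ {x : leechLattice}, sqNorm (x : GolayPt → ℤ) = 32 →
          sqNorm ((u - x) : GolayPt → ℤ) = 32 → (x, u - x) ∈ pairSet 32 (-2) := by
        intro x h1 h2
        refine ⟨h1, by simpa using h2, ?_⟩
        have h := dotInt_sub_self' (u : GolayPt → ℤ) (x : GolayPt → ℤ)
        show dotInt (x : GolayPt → ℤ) ((u - x : leechLattice) : GolayPt → ℤ) = _
        rw [dotInt_comm, AddSubgroup.coe_sub, dotInt_sub_left', dotInt_self]
        omega
      have h0 : (v₀, u - v₀) ∈ pairSet 32 (-2) := by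
        rw [hrest]; exact smul_mem_pairSet g (p := (a, b)) ⟨ha, hb, hab.trans (by norm_num)⟩
      obtain ⟨h, hh1, hh2⟩ := exists_smul_two (fun hx hy => connU_neg8 hx hy) h0 (hdot hv.1 hv.2)
      refine ⟨⟨h, ?_⟩, hh1⟩
      rw [smul_sub', hh1] at hh2
      exact sub_left_inj.mp hh2
    · rintro ⟨h, rfl⟩
      refine ⟨(sqNorm_smul _ _).trans ((sqNorm_smul g a).trans ha), ?_⟩
      have e : u - (h • v₀ : leechLattice) = h.1 • (g • b) := by
        rw [← hrest, smul_sub', h.2]; rfl
      rw [← AddSubgroup.coe_sub, e, sqNorm_smul, sqNorm_smul, hb]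
  have hcard := ncard_stab_orbit u v₀
  have hM : Nat.card ↥(MulAction.stabilizer Co0 u ⊓ MulAction.stabilizer Co0 v₀) = 898128000 := by
    have e : MulAction.stabilizer Co0 u ⊓ MulAction.stabilizer Co0 v₀
        = MulAction.stabilizer Co0 v₀ ⊓ MulAction.stabilizer Co0 (g • b) := by
      ext k
      rw [← hrest]
      simp only [Subgroup.mem_inf, MulAction.mem_stabilizer_iff, smul_sub']
      constructor
      · rintro ⟨h1, h2⟩; exact ⟨h2, by rw [h1, h2]⟩
      · rintro ⟨h1, h2⟩; exact ⟨by rw [h1] at h2; exact sub_left_inj.mp h2, h1⟩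
    rw [e]
    exact card_stab_McL ((sqNorm_smul g a).trans ha) ((sqNorm_smul g b).trans hb)
      ((dotInt_smul g a b).trans hab)
  rw [hM, card_stab48 hu] at hcard
  rw [key]
  omega

end Cfsg.Agent.S1578
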