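import Cfsg.Statements.S1579
import Cfsg.Agent.Lib.Leech.Pairs

set_option autoImplicit false
open Cfsg Cfsg.Agent.Lib.Leech

namespace Cfsg.Agent.S1579

/-- The stabiliser of a vector of customary norm 6 is transitive on the 552 minimal vectors that complete it to a sum of two minimal vectors. -/
theorem result (u v v' : ↥Cfsg.leechLattice) (hu : Cfsg.sqNorm (u : Cfsg.GolayPt → ℤ) = 48) (hv : Cfsg.sqNorm (v : Cfsg.GolayPt → ℤ) = 32 ∧ Cfsg.sqNorm ((u - v) : Cfsg.GolayPt → ℤ) = 32) (hv' : Cfsg.sqNorm (v' : Cfsg.GolayPt → ℤ) = 32 ∧ Cfsg.sqNorm ((u - v') : Cfsg.GolayPt → ℤ) = 32) : ∃ g : ↥Cfsg.Co0, g • u = u ∧ g • v = v' := by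
  have hdot : ∀ {x : leechLattice}, sqNorm (x : GolayPt → ℤ) = 32 →
      sqNorm ((u - x) : GolayPt → ℤ) = 32 → (x, u - x) ∈ pairSet 32 (-2) := by
    intro x h1 h2
    refine ⟨h1, by simpa using h2, ?_⟩
    have h := dotInt_sub_self' (u : GolayPt → ℤ) (x : GolayPt → ℤ)
    show dotInt (x : GolayPt → ℤ) ((u - x : leechLattice) : GolayPt → ℤ) = _
    rw [dotInt_comm, AddSubgroup.coe_sub, dotInt_sub_left', dotInt_self]
    omega
  obtain ⟨g, hgv, hgu⟩ := exists_smul_two (fun hx hy => connU_neg8 hx hy)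
    (hdot hv.1 hv.2) (hdot hv'.1 hv'.2)
  refine ⟨g, ?_, hgv⟩
  rw [smul_sub', hgv] at hgu
  exact sub_left_inj.mp hgu

end Cfsg.Agent.S1579
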