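import Cfsg.Statements.S1585
import Cfsg.Agent.Lib.Leech.Pairs

set_option autoImplicit false
open Cfsg Cfsg.Agent.Lib.Leech

namespace Cfsg.Agent.S1585

/-- Two vectors of customary norm 6 with inner product −4 are exchanged by some automorphism of the lattice. -/
theorem result (v w : ↥Cfsg.leechLattice) (hv : Cfsg.sqNorm (v : Cfsg.GolayPt → ℤ) = 48) (hw : Cfsg.sqNorm (w : Cfsg.GolayPt → ℤ) = 48) (hvw : Cfsg.dotInt (v : Cfsg.GolayPt → ℤ) (w : Cfsg.GolayPt → ℤ) = -32) : ∃ g : ↥Cfsg.Co0, g • v = w ∧ g • w = v := by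
  obtain ⟨hs, hnv, hnw⟩ : sqNorm ((-(v + w) : leechLattice) : GolayPt → ℤ) = 32 ∧
      dotInt ((-(v + w) : leechLattice) : GolayPt → ℤ) v = 4 * (-4) ∧
      dotInt ((-(v + w) : leechLattice) : GolayPt → ℤ) w = 4 * (-4) := by
    simp only [AddSubgroup.coe_neg, AddSubgroup.coe_add, sqNorm_neg, dotInt_neg_left',
      dotInt_add_left', dotInt_add_self, dotInt_self, dotInt_comm (w : GolayPt → ℤ), hv, hw, hvw]
    norm_num
  obtain ⟨g, hg, hgv⟩ := exists_smul_two (fun hx hy => connU_line48 hx hy)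
    (v := -(v + w)) (w := v) (v' := -(v + w)) (w' := w) ⟨hs, hv, hnv⟩ ⟨hs, hw, hnw⟩
  refine ⟨g, hgv, ?_⟩
  rw [smul_neg', neg_inj, smul_add', hgv] at hg
  exact add_left_cancel (hg.trans (add_comm v w))

end Cfsg.Agent.S1585
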