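import Cfsg.Statements.S1595
import Mathlib

set_option autoImplicit false
open Cfsg

namespace Cfsg.Agent.S1595

/-- Leech triangle of S(5, 6, 12): blocks meet in 0, 2, 3 or 4 points, and a block is met exactly in a given 2-, 3- or 4-subset by 3, 2, 3 blocks respectively. -/
theorem result {α : Type*} [Fintype α] [DecidableEq α] (hα : Fintype.card α = 12) {B : Set (Finset α)} (hB : Cfsg.IsSteinerSystem 5 6 B) (b : Finset α) (hb : b ∈ B) : (∀ c ∈ B, c ≠ b → (b ∩ c).card = 0 ∨ (b ∩ c).card = 2 ∨ (b ∩ c).card = 3 ∨ (b ∩ c).card = 4) ∧ ∀ s ⊆ b, (s.card = 2 → {c : Finset α | c ∈ B ∧ b ∩ c = s}.ncard = 3) ∧ (s.card = 3 → {c : Finset α | c ∈ B ∧ b ∩ c = s}.ncard = 2) ∧ (s.card = 4 → {c : Finset α | c ∈ B ∧ b ∩ c = s}.ncard = 3) := by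
  classical
  obtain ⟨hB6, hB5⟩ := hB
  obtain ⟨Bf, hBf⟩ : ∃ Bf : Finset (Finset α), ∀ c, c ∈ Bf ↔ c ∈ B :=
    ⟨(Set.toFinite B).toFinset, fun c => Set.Finite.mem_toFinset _⟩
  let lam : Finset α → ℕ := fun T => (Bf.filter fun c => T ⊆ c).card
  have lam5 : ∀ T : Finset α, T.card = 5 → lam T = 1 := by
    intro T hT
    obtain ⟨c, ⟨hc, hTc⟩, hu⟩ := hB5 T hT
    refine Finset.card_eq_one.2 ⟨c, ?_⟩
    ext e
    simp only [Finset.mem_filter, hBf, Finset.mem_singleton]
    exact ⟨fun h => hu e h, by rintro rfl; exact ⟨hc, hTc⟩⟩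
  have step : ∀ i v : ℕ, (∀ T : Finset α, T.card = i + 1 → lam T = v) →
      ∀ T : Finset α, T.card = i → lam T * (6 - i) = (12 - i) * v := by
    intro i v hv T hT
    have key : ∑ a ∈ Tᶜ, (Bf.filter fun c => insert a T ⊆ c).card =
        ∑ c ∈ Bf.filter (fun c => T ⊆ c), (c \ T).card := by
      simp only [Finset.card_eq_sum_ones, Finset.sum_filter]
      rw [Finset.sum_comm]
      refine Finset.sum_congr rfl fun c _ => ?_
      by_cases hc : T ⊆ c
      · rw [if_pos hc, ← Finset.sum_filter, ← Finset.card_eq_sum_ones, ← Finset.card_eq_sum_ones]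
        congr 1
        ext a
        simp [Finset.insert_subset_iff, hc, and_comm]
      · rw [if_neg hc]
        refine Finset.sum_eq_zero fun a _ => if_neg fun h => hc ?_
        exact (Finset.subset_insert _ _).trans h
    have hl : ∑ a ∈ Tᶜ, (Bf.filter fun c => insert a T ⊆ c).card = (12 - i) * v := by
      rw [Finset.sum_congr rfl (g := fun _ => v) fun a ha => hv _ (by
        rw [Finset.card_insert_of_notMem (Finset.mem_compl.1 ha), hT])]
      rw [Finset.sum_const, Finset.card_compl, hα, hT, smul_eq_mul]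
    have hr : ∑ c ∈ Bf.filter (fun c => T ⊆ c), (c \ T).card = lam T * (6 - i) := by
      rw [Finset.sum_congr rfl (g := fun _ => 6 - i) fun c hc => by
        rw [Finset.mem_filter] at hc
        rw [Finset.card_sdiff_of_subset hc.2, hB6 c ((hBf c).1 hc.1), hT]]
      rw [Finset.sum_const, smul_eq_mul]
    rw [← hr, ← key, hl]
  have lam4 : ∀ T : Finset α, T.card = 4 → lam T = 4 := fun T hT => by
    have := step 4 1 lam5 T hT; omega
  have lam3 : ∀ T : Finset α, T.card = 3 → lam T = 12 := fun T hT => by
    have := step 3 4 lam4 T hT; omega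
  have lam2 : ∀ T : Finset α, T.card = 2 → lam T = 30 := fun T hT => by
    have := step 2 12 lam3 T hT; omega
  have lam1 : ∀ T : Finset α, T.card = 1 → lam T = 66 := fun T hT => by
    have := step 1 30 lam2 T hT; omega
  let N : Finset α → ℕ := fun T => ((Bf.erase b).filter fun c => b ∩ c = T).card
  have hle : ∀ c ∈ Bf.erase b, (b ∩ c).card ≤ 4 := by
    intro c hc
    obtain ⟨hne, hc⟩ := Finset.mem_erase.1 hc
    by_contra hlt
    obtain ⟨T, hTs, hT⟩ := Finset.exists_subset_card_eq (n := 5) (s := b ∩ c) (by omega)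
    obtain ⟨e, -, hu⟩ := hB5 T hT
    exact hne ((hu c ⟨(hBf c).1 hc, hTs.trans Finset.inter_subset_right⟩).trans
      (hu b ⟨hb, hTs.trans Finset.inter_subset_left⟩).symm)
  -- the counting equation
  have main : ∀ (i : ℕ) (f : ℕ → ℕ), (∀ S : Finset α, S ⊆ b → i < S.card → N S = f S.card) →
      ∀ T : Finset α, T ⊆ b → T.card = i →
        N T + ∑ m ∈ Finset.range (6 - i + 1),
          (6 - i).choose m * (if m = 0 then 0 else f (i + m)) + 1 = lam T := by
    intro i f hf T hTb hT
    have hbmem : b ∈ Bf.filter fun c => T ⊆ c := Finset.mem_filter.2 ⟨(hBf b).2 hb, hTb⟩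
    show _ = (Bf.filter fun c => T ⊆ c).card
    rw [← Finset.card_erase_add_one hbmem, ← Finset.filter_erase]
    congr 1
    have hmaps : ∀ c ∈ (Bf.erase b).filter (fun c => T ⊆ c),
        (b ∩ c) \ T ∈ (b \ T).powerset := fun c _ =>
      Finset.mem_powerset.2 (Finset.sdiff_subset_sdiff Finset.inter_subset_left le_rfl)
    rw [Finset.card_eq_sum_card_fiberwise hmaps]
    have hfib : ∀ U ∈ (b \ T).powerset,
        (((Bf.erase b).filter fun c => T ⊆ c).filter fun c => (b ∩ c) \ T = U).card = N (T ∪ U) := by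
      intro U hU
      rw [Finset.mem_powerset] at hU
      have hdisj : Disjoint T U := (Finset.disjoint_sdiff).mono_right hU
      show _ = ((Bf.erase b).filter fun c => b ∩ c = T ∪ U).card
      rw [Finset.filter_filter]
      congr 1
      refine Finset.filter_congr fun c _ => ⟨fun h => ?_, fun h => ⟨?_, ?_⟩⟩
      · rw [← h.2, Finset.union_sdiff_of_subset (Finset.subset_inter hTb h.1)]
      · exact (Finset.subset_union_left.trans h.ge).trans Finset.inter_subset_right
      · rw [h, Finset.union_sdiff_left, Finset.sdiff_eq_self_of_disjoint hdisj.symm]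
    rw [Finset.sum_congr rfl hfib,
      ← Finset.add_sum_erase _ (fun U => N (T ∪ U)) (Finset.empty_mem_powerset (b \ T)),
      Finset.union_empty]
    congr 1
    have hcard : (b \ T).card = 6 - i := by
      rw [Finset.card_sdiff_of_subset hTb, hB6 b hb, hT]
    rw [Finset.sum_congr (s₁ := (b \ T).powerset.erase ∅) rfl
      (f := fun U => N (T ∪ U))
      (g := fun U : Finset α => if U.card = 0 then 0 else f (i + U.card)) fun U hU => by
      obtain ⟨hne, hU⟩ := Finset.mem_erase.1 hU
      rw [Finset.mem_powerset] at hU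
      have hdisj : Disjoint T U := (Finset.disjoint_sdiff).mono_right hU
      have hc : (T ∪ U).card = i + U.card := by rw [Finset.card_union_of_disjoint hdisj, hT]
      have hp : 0 < U.card := Finset.card_pos.2 (Finset.nonempty_iff_ne_empty.2 hne)
      rw [if_neg (by omega), hf _ (Finset.union_subset hTb (hU.trans Finset.sdiff_subset))
        (by omega), hc]]
    rw [Finset.sum_erase _ (by simp),
      Finset.sum_powerset_apply_card (fun m => if m = 0 then 0 else f (i + m)), hcard]
    simp [smul_eq_mul]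
  have hbig : ∀ S : Finset α, 4 < S.card → N S = 0 := fun S hS => by
    refine Finset.card_eq_zero.2 (Finset.filter_eq_empty_iff.2 fun c hc h => ?_)
    have := hle c hc
    rw [h] at this
    omega
  have N4 : ∀ S : Finset α, S ⊆ b → S.card = 4 → N S = 3 := fun S hS hc => by
    have := main 4 (fun _ => 0) (fun S _ h => hbig S h) S hS hc
    rw [lam4 S hc] at this
    simp [Finset.sum_range_succ] at this
    omega
  have N3 : ∀ S : Finset α, S ⊆ b → S.card = 3 → N S = 2 := fun S hS hc => by
    have := main 3 (fun m => if m = 4 then 3 else 0) (fun S hS h => by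
      by_cases h4 : S.card = 4
      · simp [h4, N4 S hS h4]
      · simp [h4, hbig S (by omega)]) S hS hc
    rw [lam3 S hc] at this
    simp [Finset.sum_range_succ] at this
    omega
  have N2 : ∀ S : Finset α, S ⊆ b → S.card = 2 → N S = 3 := fun S hS hc => by
    have := main 2 (fun m => if m = 4 then 3 else if m = 3 then 2 else 0) (fun S hS h => by
      by_cases h4 : S.card = 4
      · simp [h4, N4 S hS h4]
      · by_cases h3 : S.card = 3
        · simp [h3, N3 S hS h3]
        · simp [h4, h3, hbig S (by omega)]) S hS hc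
    rw [lam2 S hc] at this
    simp [Finset.sum_range_succ] at this
    norm_num [Nat.choose] at this
    omega
  have N1 : ∀ S : Finset α, S ⊆ b → S.card = 1 → N S = 0 := fun S hS hc => by
    have := main 1 (fun m => if m = 4 then 3 else if m = 3 then 2 else if m = 2 then 3 else 0)
      (fun S hS h => by
      by_cases h4 : S.card = 4
      · simp [h4, N4 S hS h4]
      · by_cases h3 : S.card = 3
        · simp [h3, N3 S hS h3]
        · by_cases h2 : S.card = 2
          · simp [h2, N2 S hS h2]
          · simp [h4, h3, h2, hbig S (by omega)]) S hS hc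
    rw [lam1 S hc] at this
    simp [Finset.sum_range_succ] at this
    norm_num [Nat.choose] at this
    omega
  refine ⟨fun c hc hne => ?_, fun s hs => ?_⟩
  · have hmem : c ∈ Bf.erase b := Finset.mem_erase.2 ⟨hne, (hBf c).2 hc⟩
    have h4 := hle c hmem
    have hpos : 0 < N (b ∩ c) := Finset.card_pos.2 ⟨c, Finset.mem_filter.2 ⟨hmem, rfl⟩⟩
    have h1 : (b ∩ c).card ≠ 1 := fun h => by
      have := N1 _ Finset.inter_subset_left h
      omega
    omega
  · have hset : s.card < 5 → {c : Finset α | c ∈ B ∧ b ∩ c = s}.ncard = N s := fun h5 => by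
      show _ = ((Bf.erase b).filter fun c => b ∩ c = s).card
      rw [← Set.ncard_coe_finset]
      congr 1
      ext c
      simp only [Set.mem_setOf_eq, Finset.coe_filter, Finset.mem_erase, hBf]
      constructor
      · rintro ⟨hc, rfl⟩
        refine ⟨⟨?_, hc⟩, rfl⟩
        rintro rfl
        rw [Finset.inter_self, hB6 c hb] at h5
        omega
      · rintro ⟨⟨-, hc⟩, h⟩
        exact ⟨hc, h⟩
    exact ⟨fun h => (hset (by omega)).trans (N2 s hs h), fun h => (hset (by omega)).trans (N3 s hs h),
      fun h => (hset (by omega)).trans (N4 s hs h)⟩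

end Cfsg.Agent.S1595
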