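import Cfsg.Statements.S1604
import Mathlib
import Cfsg.Agent.Lib.Golay.Normal
import Cfsg.Agent.Lib.Golay.Steps.OctadBoth
import Cfsg.Agent.Lib.Golay.Steps.HexadSuborbit

set_option autoImplicit false
open scoped Pointwise
open Cfsg

namespace Cfsg.Agent.S1604

open Cfsg.Agent.Lib.Golay Cfsg.Agent.Lib.Golay.StepCert

/-- A hexad stabiliser in the two-point stabiliser has orbits of sizes 1, 16, 60 on the 77 hexads: the 16 hexads disjoint from it and the 60 meeting it in two points. -/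
theorem result (p q : Cfsg.GolayPt) (hpq : p ≠ q) (o o' o'' : Finset Cfsg.GolayPt) (ho : o ∈ Cfsg.octads) (ho' : o' ∈ Cfsg.octads) (ho'' : o'' ∈ Cfsg.octads) (hp : p ∈ o ∧ p ∈ o' ∧ p ∈ o'') (hq : q ∈ o ∧ q ∈ o' ∧ q ∈ o'') (h : (o ∩ o').card = (o ∩ o'').card) : {x : Finset Cfsg.GolayPt | x ∈ Cfsg.octads ∧ p ∈ x ∧ q ∈ x ∧ (o ∩ x).card = 2}.ncard = 16 ∧ {x : Finset Cfsg.GolayPt | x ∈ Cfsg.octads ∧ p ∈ x ∧ q ∈ x ∧ (o ∩ x).card = 4}.ncard = 60 ∧ ∃ g : Equiv.Perm Cfsg.GolayPt, g ∈ Cfsg.M24 ∧ g p = p ∧ g q = q ∧ g • o = o ∧ g • o' = o'' := by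
  classical
  obtain ⟨g₀, hgp₀, hgq₀⟩ := Normal.to_pair hpq
  have hcand : ∀ x : Finset GolayPt, x ∈ octads → pt 0 ∈ x → pt 1 ∈ x →
      ∃ m ∈ codeCands 8 (fun m => m.testBit 0 && m.testBit 1), ptsOf m = x := by
    intro x hx h0 h1
    rw [mem_octads_iff] at hx
    refine exists_codeCands hx.1 hx.2 fun m e => ?_
    subst e
    rw [ptsOf_mem_iff] at h0 h1
    rw [Bool.and_eq_true]
    exact ⟨h0, h1⟩
  obtain ⟨m₀, hm₀, em₀⟩ := hcand (g₀ • o) (M24_octad g₀.2 ho)
    ((Normal.smul_mem_smul hgp₀).mpr hp.1) ((Normal.smul_mem_smul hgq₀).mpr hq.1)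
  obtain ⟨g₁, hg₁, eg₁⟩ := Steps.OctadBoth.step.to_root Steps.OctadBoth.step_ok 5279
    Steps.OctadBoth.step_roots (m := m₀) (by simp only [Steps.OctadBoth.step]; exact hm₀)
  set g := g₁ * g₀ with hgdef
  have hgp : g • p = pt 0 := by
    rw [hgdef, mul_smul, hgp₀]; exact Normal.fix_first hg₁ (by decide)
  have hgq : g • q = pt 1 := by
    rw [hgdef, mul_smul, hgq₀]; exact Normal.fix_second hg₁ (by decide)
  have hgo : g • o = ptsOf 5279 := by rw [hgdef, mul_smul, ← em₀, eg₁]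
  have hcount : ∀ k, {x : Finset GolayPt | x ∈ octads ∧ p ∈ x ∧ q ∈ x ∧ (o ∩ x).card = k}.ncard =
      ((List.range 4096).filter fun x => popCount (encode x) == 8 &&
        ((encode x).testBit 0 && (encode x).testBit 1 && popCount (5279 &&& encode x) == k)).length := by
    intro k
    rw [← Normal.ncard_moved g (fun x => p ∈ x ∧ q ∈ x ∧ (o ∩ x).card = k)
      (fun x => pt 0 ∈ x ∧ pt 1 ∈ x ∧ (ptsOf 5279 ∩ x).card = k)
      (fun m => m.testBit 0 && m.testBit 1 && popCount (5279 &&& m) == k)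
      (fun x _ => by
        simp only [Normal.smul_mem_smul hgp, Normal.smul_mem_smul hgq, ← hgo, Normal.card_inter_smul])
      (fun m _ => by simp [ptsOf_mem_iff, ← ptsOf_land, card_ptsOf, and_assoc])]
    simp only [mem_octads_iff]
  refine ⟨by rw [hcount]; decide +kernel, by rw [hcount]; decide +kernel, ?_⟩
  obtain ⟨a, ha, ea⟩ := hcand (g • o') (M24_octad g.2 ho')
    ((Normal.smul_mem_smul hgp).mpr hp.2.1) ((Normal.smul_mem_smul hgq).mpr hq.2.1)
  obtain ⟨b, hb, eb⟩ := hcand (g • o'') (M24_octad g.2 ho'')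
    ((Normal.smul_mem_smul hgp).mpr hp.2.2) ((Normal.smul_mem_smul hgq).mpr hq.2.2)
  obtain ⟨k, hk, ek⟩ := Steps.HexadSuborbit.step.same Steps.HexadSuborbit.step_ok
    (fun x => (ptsOf 5279 ∩ x).card) (Normal.inter_invariant (by decide))
    (by rw [Steps.HexadSuborbit.step_roots]; simp only [← ptsOf_land, card_ptsOf, List.map]; decide +kernel)
    (a := a) (b := b) (by simp only [Steps.HexadSuborbit.step]; exact ha) (by simp only [Steps.HexadSuborbit.step]; exact hb) (by rw [ea, eb, ← hgo, Normal.card_inter_smul, Normal.card_inter_smul, h])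
  refine ⟨((g⁻¹ * k * g : ↥M24) : Equiv.Perm GolayPt), (g⁻¹ * k * g).2, ?_, ?_, ?_, ?_⟩
  · exact Normal.conj_smul (X := GolayPt) (by rw [hgp]; exact Normal.fix_first hk (by decide))
  · exact Normal.conj_smul (X := GolayPt) (by rw [hgq]; exact Normal.fix_second hk (by decide))
  · exact Normal.conj_smul (X := Finset GolayPt) (by rw [hgo]; exact hk 5279 (by decide))
  · exact Normal.conj_smul (X := Finset GolayPt) (by rw [← ea, ek, eb])

end Cfsg.Agent.S1604
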