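import Cfsg.Statements.S1605
import Mathlib
import Cfsg.Agent.Lib.Golay.Normal
import Cfsg.Agent.Lib.Golay.Steps.OctadFirst
import Cfsg.Agent.Lib.Golay.Steps.FirstSuborbit

set_option autoImplicit false
open scoped Pointwise
open Cfsg

namespace Cfsg.Agent.S1605

open Cfsg.Agent.Lib.Golay Cfsg.Agent.Lib.Golay.StepCert

/-- The two-point stabiliser acts on the 176 octads through the first point avoiding the second with rank 3 and subdegrees 1, 70, 105 (intersections 8, 2, 4). -/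
theorem result (p q : Cfsg.GolayPt) (hpq : p ≠ q) : {x : Finset Cfsg.GolayPt | (x ∈ Cfsg.octads ∧ p ∈ x ∧ q ∉ x)}.ncard = 176 ∧ (∀ o o' : Finset Cfsg.GolayPt, (o ∈ Cfsg.octads ∧ p ∈ o ∧ q ∉ o) → (o' ∈ Cfsg.octads ∧ p ∈ o' ∧ q ∉ o') → ∃ g : Equiv.Perm Cfsg.GolayPt, g ∈ Cfsg.M24 ∧ g p = p ∧ g q = q ∧ g • o = o') ∧ ∀ o : Finset Cfsg.GolayPt, (o ∈ Cfsg.octads ∧ p ∈ o ∧ q ∉ o) → {x : Finset Cfsg.GolayPt | (x ∈ Cfsg.octads ∧ p ∈ x ∧ q ∉ x) ∧ (o ∩ x).card = 2}.ncard = 70 ∧ {x : Finset Cfsg.GolayPt | (x ∈ Cfsg.octads ∧ p ∈ x ∧ q ∉ x) ∧ (o ∩ x).card = 4}.ncard = 105 ∧ ∀ o' o'' : Finset Cfsg.GolayPt, (o' ∈ Cfsg.octads ∧ p ∈ o' ∧ q ∉ o') → (o'' ∈ Cfsg.octads ∧ p ∈ o'' ∧ q ∉ o'') → (o ∩ o').card = (o ∩ o'').card → ∃ g : Equiv.Perm Cfsg.GolayPt, g ∈ Cfsg.M24 ∧ g p = p ∧ g q = q ∧ g • o = o ∧ g • o' = o'' := by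
  classical
  obtain ⟨g₀, hgp₀, hgq₀⟩ := Normal.to_pair hpq
  have hcand : ∀ g : ↥M24, g • p = pt 0 → g • q = pt 1 → ∀ o : Finset GolayPt,
      (o ∈ octads ∧ p ∈ o ∧ q ∉ o) →
      ∃ m ∈ codeCands 8 (fun m => m.testBit 0 && !m.testBit 1), ptsOf m = g • o := by
    rintro g hgp hgq o ⟨ho, hp, hq⟩
    have ho' := mem_octads_iff.mp (M24_octad g.2 ho)
    refine exists_codeCands ho'.1 ho'.2 fun m e => ?_
    have h0 : pt 0 ∈ ptsOf m := by rw [e]; exact (Normal.smul_mem_smul hgp).mpr hp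
    have h1 : pt 1 ∉ ptsOf m := by rw [e]; exact fun hm => hq ((Normal.smul_mem_smul hgq).mp hm)
    rw [ptsOf_mem_iff] at h0 h1
    simp only [Bool.and_eq_true, Bool.not_eq_true'] at *
    exact ⟨h0, by simpa using h1⟩
  have hnorm : ∀ o : Finset GolayPt, (o ∈ octads ∧ p ∈ o ∧ q ∉ o) →
      ∃ g : ↥M24, g • p = pt 0 ∧ g • q = pt 1 ∧ g • o = ptsOf 15777 := by
    intro o ho
    obtain ⟨m, hm, em⟩ := hcand g₀ hgp₀ hgq₀ o ho
    obtain ⟨g₁, hg₁, eg₁⟩ := Steps.OctadFirst.step.to_root Steps.OctadFirst.step_ok 15777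
      Steps.OctadFirst.step_roots (m := m) (by simp only [Steps.OctadFirst.step]; exact hm)
    exact ⟨g₁ * g₀, by rw [mul_smul, hgp₀]; exact Normal.fix_first hg₁ (by decide),
      by rw [mul_smul, hgq₀]; exact Normal.fix_second hg₁ (by decide),
      by rw [mul_smul, ← em, eg₁]⟩
  refine ⟨?_, ?_, ?_⟩
  · have e := Normal.ncard_moved g₀ (k := 8) (fun x => p ∈ x ∧ q ∉ x)
      (fun x => pt 0 ∈ x ∧ pt 1 ∉ x) (fun m => m.testBit 0 && !m.testBit 1)
      (fun x _ => by simp only [Normal.smul_mem_smul hgp₀, Normal.smul_mem_smul hgq₀])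
      (fun m _ => by simp [ptsOf_mem_iff])
    simp only [← mem_octads_iff] at e
    rw [e]; decide +kernel
  · intro o o' ho ho'
    obtain ⟨g, hgp, hgq, hgo⟩ := hnorm o ho
    obtain ⟨g', hgp', hgq', hgo'⟩ := hnorm o' ho'
    refine ⟨((g'⁻¹ * g : ↥M24) : Equiv.Perm GolayPt), (g'⁻¹ * g).2, ?_, ?_, ?_⟩
    · show (g'⁻¹ * g) • p = p
      rw [mul_smul, hgp, inv_smul_eq_iff, hgp']
    · show (g'⁻¹ * g) • q = q
      rw [mul_smul, hgq, inv_smul_eq_iff, hgq']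
    · show (g'⁻¹ * g) • o = o'
      rw [mul_smul, hgo, inv_smul_eq_iff, hgo']
  intro o ho
  obtain ⟨g, hgp, hgq, hgo⟩ := hnorm o ho
  have hcount : ∀ k, {x : Finset GolayPt | (x ∈ octads ∧ p ∈ x ∧ q ∉ x) ∧ (o ∩ x).card = k}.ncard =
      ((List.range 4096).filter fun x => popCount (encode x) == 8 &&
        ((encode x).testBit 0 && !(encode x).testBit 1 && popCount (15777 &&& encode x) == k)).length := by
    intro k
    rw [← Normal.ncard_moved g (fun x => p ∈ x ∧ q ∉ x ∧ (o ∩ x).card = k)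
      (fun x => pt 0 ∈ x ∧ pt 1 ∉ x ∧ (ptsOf 15777 ∩ x).card = k)
      (fun m => m.testBit 0 && !m.testBit 1 && popCount (15777 &&& m) == k)
      (fun x _ => by
        simp only [Normal.smul_mem_smul hgp, Normal.smul_mem_smul hgq, ← hgo, Normal.card_inter_smul])
      (fun m _ => by simp [ptsOf_mem_iff, ← ptsOf_land, card_ptsOf, and_assoc])]
    simp only [mem_octads_iff, and_assoc]
  refine ⟨by rw [hcount]; decide +kernel, by rw [hcount]; decide +kernel, ?_⟩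
  intro o' o'' ho' ho'' h
  obtain ⟨a, ha, ea⟩ := hcand g hgp hgq o' ho'
  obtain ⟨b, hb, eb⟩ := hcand g hgp hgq o'' ho''
  obtain ⟨k, hk, ek⟩ := Steps.FirstSuborbit.step.same Steps.FirstSuborbit.step_ok
    (fun x => (ptsOf 15777 ∩ x).card) (Normal.inter_invariant (by decide))
    (by rw [Steps.FirstSuborbit.step_roots]; simp only [← ptsOf_land, card_ptsOf, List.map]; decide +kernel)
    (a := a) (b := b) (by simp only [Steps.FirstSuborbit.step]; exact ha) (by simp only [Steps.FirstSuborbit.step]; exact hb) (by rw [ea, eb, ← hgo, Normal.card_inter_smul, Normal.card_inter_smul, h])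
  refine ⟨((g⁻¹ * k * g : ↥M24) : Equiv.Perm GolayPt), (g⁻¹ * k * g).2, ?_, ?_, ?_, ?_⟩
  · exact Normal.conj_smul (X := GolayPt) (by rw [hgp]; exact Normal.fix_first hk (by decide))
  · exact Normal.conj_smul (X := GolayPt) (by rw [hgq]; exact Normal.fix_second hk (by decide))
  · exact Normal.conj_smul (X := Finset GolayPt) (by rw [hgo]; exact hk 15777 (by decide))
  · exact Normal.conj_smul (X := Finset GolayPt) (by rw [← ea, ek, eb])

end Cfsg.Agent.S1605
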