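import Cfsg.Statements.S1607
import Mathlib
import Cfsg.Agent.Lib.Golay.Normal
import Cfsg.Agent.Lib.Golay.Steps.OctadThrough
import Cfsg.Agent.Lib.Golay.Steps.HeptadSuborbit

set_option autoImplicit false
open scoped Pointwise
open Cfsg

namespace Cfsg.Agent.S1607

open Cfsg.Agent.Lib.Golay Cfsg.Agent.Lib.Golay.StepCert

/-- The point stabiliser acts on the 253 heptads of its S(4, 7, 23) with rank 3 and subdegrees 1, 112, 140 (intersections 8, 2, 4). -/
theorem result (x : Cfsg.GolayPt) (o : Finset Cfsg.GolayPt) (ho : o ∈ Cfsg.octads) (hx : x ∈ o) : {o' : Finset Cfsg.GolayPt | o' ∈ Cfsg.octads ∧ x ∈ o' ∧ (o ∩ o').card = 2}.ncard = 112 ∧ {o' : Finset Cfsg.GolayPt | o' ∈ Cfsg.octads ∧ x ∈ o' ∧ (o ∩ o').card = 4}.ncard = 140 ∧ ∀ o' o'' : Finset Cfsg.GolayPt, o' ∈ Cfsg.octads → o'' ∈ Cfsg.octads → x ∈ o' → x ∈ o'' → (o ∩ o').card = (o ∩ o'').card → ∃ g : Equiv.Perm Cfsg.GolayPt, g ∈ Cfsg.M24 ∧ g x = x ∧ g • o = o ∧ g • o' = o'' := by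
  classical
  obtain ⟨g₀, hgx₀⟩ := Normal.to_first x
  have hcand : ∀ g : ↥M24, g • x = pt 0 → ∀ o : Finset GolayPt, o ∈ octads → x ∈ o →
      ∃ m ∈ codeCands 8 (fun m => m.testBit 0), ptsOf m = g • o := by
    intro g hgx o ho hxo
    have ho' := mem_octads_iff.mp (M24_octad g.2 ho)
    refine exists_codeCands ho'.1 ho'.2 fun m e => ?_
    have h0 : pt 0 ∈ ptsOf m := by
      rw [e]; exact (Normal.smul_mem_smul hgx).mpr hxo
    rw [ptsOf_mem_iff] at h0
    exact h0
  obtain ⟨m₀, hm₀, em₀⟩ := hcand g₀ hgx₀ o ho hx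
  obtain ⟨g₁, hg₁, eg₁⟩ := Steps.OctadThrough.step.to_root Steps.OctadThrough.step_ok 5279
    Steps.OctadThrough.step_roots (m := m₀) (by simp only [Steps.OctadThrough.step]; exact hm₀)
  set g := g₁ * g₀ with hgdef
  have hgx : g • x = pt 0 := by
    rw [hgdef, mul_smul, hgx₀]; exact Normal.fix_first hg₁ (by decide)
  have hgo : g • o = ptsOf 5279 := by rw [hgdef, mul_smul, ← em₀, eg₁]
  have hcount : ∀ k, {y : Finset GolayPt | y ∈ octads ∧ x ∈ y ∧ (o ∩ y).card = k}.ncard =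
      ((List.range 4096).filter fun y => popCount (encode y) == 8 &&
        ((encode y).testBit 0 && popCount (5279 &&& encode y) == k)).length := by
    intro k
    rw [← Normal.ncard_moved g (fun y => x ∈ y ∧ (o ∩ y).card = k)
      (fun y => pt 0 ∈ y ∧ (ptsOf 5279 ∩ y).card = k)
      (fun m => m.testBit 0 && popCount (5279 &&& m) == k)
      (fun y _ => by simp only [Normal.smul_mem_smul hgx, ← hgo, Normal.card_inter_smul])
      (fun m _ => by simp [ptsOf_mem_iff, ← ptsOf_land, card_ptsOf])]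
    simp only [mem_octads_iff]
  refine ⟨by rw [hcount]; decide +kernel, by rw [hcount]; decide +kernel, ?_⟩
  intro o' o'' ho' ho'' hx' hx'' h
  obtain ⟨a, ha, ea⟩ := hcand g hgx o' ho' hx'
  obtain ⟨b, hb, eb⟩ := hcand g hgx o'' ho'' hx''
  obtain ⟨k, hk, ek⟩ := Steps.HeptadSuborbit.step.same Steps.HeptadSuborbit.step_ok
    (fun y => (ptsOf 5279 ∩ y).card) (Normal.inter_invariant (by decide))
    (by rw [Steps.HeptadSuborbit.step_roots]; simp only [← ptsOf_land, card_ptsOf, List.map]; decide +kernel)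
    (a := a) (b := b) (by simp only [Steps.HeptadSuborbit.step]; exact ha) (by simp only [Steps.HeptadSuborbit.step]; exact hb) (by rw [ea, eb, ← hgo, Normal.card_inter_smul, Normal.card_inter_smul, h])
  refine ⟨((g⁻¹ * k * g : ↥M24) : Equiv.Perm GolayPt), (g⁻¹ * k * g).2, ?_, ?_, ?_⟩
  · exact Normal.conj_smul (X := GolayPt) (by rw [hgx]; exact Normal.fix_first hk (by decide))
  · exact Normal.conj_smul (X := Finset GolayPt) (by rw [hgo]; exact hk 5279 (by decide))
  · exact Normal.conj_smul (X := Finset GolayPt) (by rw [← ea, ek, eb])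

end Cfsg.Agent.S1607
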