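import Cfsg.Statements.S1610
import Mathlib
import Cfsg.Agent.Lib.SmallCodes.Hexacode

set_option autoImplicit false
open Cfsg

namespace Cfsg.Agent.S1610

/-- The hexacode has 64 words, minimum weight 4, and weight distribution 0^1 4^45 6^18. -/
theorem result (F : Type*) [Field F] [Fintype F] [DecidableEq F] (hF : Fintype.card F = 4) (ω : F) (hω : ω ^ 2 + ω + 1 = 0) : Nat.card ↥(Cfsg.hexacode F ω) = 64 ∧ (∀ x ∈ Cfsg.hexacode F ω, x ≠ 0 → (Finset.univ.filter fun i => x i ≠ 0).card = 4 ∨ (Finset.univ.filter fun i => x i ≠ 0).card = 6) ∧ {x : Fin 6 → F | x ∈ Cfsg.hexacode F ω ∧ (Finset.univ.filter fun i => x i ≠ 0).card = 4}.ncard = 45 ∧ {x : Fin 6 → F | x ∈ Cfsg.hexacode F ω ∧ (Finset.univ.filter fun i => x i ≠ 0).card = 6}.ncard = 18 := by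
  classical
  let f : Fin 4 × Fin 4 × Fin 4 → Fin 6 → F := fun a => Lib.SmallCodes.E ω ∘ Lib.SmallCodes.word a
  have hmem : ∀ x, x ∈ Cfsg.hexacode F ω ↔ ∃ a, f a = x := fun x => by
    rw [Lib.SmallCodes.mem_hexacode_iff hF hω x]; exact ⟨fun ⟨a, h⟩ => ⟨a, h.symm⟩, fun ⟨a, h⟩ => ⟨a, h.symm⟩⟩
  have hinj : Function.Injective f := fun a b h => by
    have : Lib.SmallCodes.word a = Lib.SmallCodes.word b :=
      funext fun i => Lib.SmallCodes.E_injective hF hω (congrFun h i)
    exact Prod.ext (congrFun this 0) (Prod.ext (congrFun this 1) (congrFun this 2))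
  have hwt : ∀ a, (Finset.univ.filter fun i => f a i ≠ 0) =
      Finset.univ.filter fun i => Lib.SmallCodes.word a i ≠ 0 := fun a => by
    ext i
    have h0 : Lib.SmallCodes.E ω 0 = (0 : F) := rfl
    simp only [Finset.mem_filter, Finset.mem_univ, true_and, f, Function.comp]
    conv_lhs => rw [← h0]
    exact (Lib.SmallCodes.E_injective hF hω).ne_iff
  have hset : (Cfsg.hexacode F ω : Set (Fin 6 → F)) = f '' Set.univ := by
    ext x; simpa using hmem x
  have hnc : ∀ n : ℕ, {x : Fin 6 → F | x ∈ Cfsg.hexacode F ω ∧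
      (Finset.univ.filter fun i => x i ≠ 0).card = n}.ncard =
      (Finset.univ.filter fun a : Fin 4 × Fin 4 × Fin 4 =>
        (Finset.univ.filter fun i => Lib.SmallCodes.word a i ≠ 0).card = n).card := by
    intro n
    rw [← Set.ncard_coe_finset, ← Set.ncard_image_of_injective _ hinj]
    congr 1
    ext x
    simp only [Set.mem_setOf_eq, Set.mem_image, Finset.coe_filter, Finset.mem_univ, true_and]
    constructor
    · rintro ⟨hx, hn⟩
      obtain ⟨a, rfl⟩ := (hmem x).1 hx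
      exact ⟨a, by rw [← hwt a]; exact hn, rfl⟩
    · rintro ⟨a, hn, rfl⟩
      exact ⟨(hmem _).2 ⟨a, rfl⟩, by rw [hwt a]; exact hn⟩
  refine ⟨?_, ?_, ?_, ?_⟩
  · calc Nat.card ↥(Cfsg.hexacode F ω) = (Cfsg.hexacode F ω : Set (Fin 6 → F)).ncard := rfl
      _ = 64 := by
        rw [hset, Set.ncard_image_of_injective _ hinj, Set.ncard_univ, Nat.card_eq_fintype_card]
        decide
  · intro x hx hx0
    obtain ⟨a, rfl⟩ := (hmem x).1 hx
    rw [hwt a]
    refine (by decide +kernel : ∀ a, a = (0, 0, 0) ∨ (Finset.univ.filter fun i => Lib.SmallCodes.word a i ≠ 0).card = 4 ∨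
      (Finset.univ.filter fun i => Lib.SmallCodes.word a i ≠ 0).card = 6) a |>.resolve_left ?_
    rintro rfl
    exact hx0 (funext fun i => by fin_cases i <;> rfl)
  · rw [hnc]; decide +kernel
  · rw [hnc]; decide +kernel

end Cfsg.Agent.S1610
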