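import Cfsg.Statements.S1611
import Mathlib
import Cfsg.Agent.Lib.SmallCodes.Hexacode

set_option autoImplicit false
open Cfsg

namespace Cfsg.Agent.S1611

open Cfsg.Agent.Lib.SmallCodes

/-- The six values of the scalars of a monomial map in the model: `c i = C i + 1`. -/
def scal (c : Fin 6 → Fin 3) : Fin 6 → Fin 4 := fun i => (c i).succ

/-- Does the monomial map `(σ, c)` preserve the model hexacode (test on the generators)? -/
def okM (τ : Fin 6 → Fin 6) (c : Fin 6 → Fin 3) : Bool :=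
  memM (fun i => mulM (scal c i) (word (1, 0, 0) (τ i))) &&
  memM (fun i => mulM (scal c i) (word (0, 1, 0) (τ i))) &&
  memM (fun i => mulM (scal c i) (word (0, 0, 1) (τ i)))


/-- The monomial automorphism group of the hexacode has order 1080: its diagonal part is the scalars and its permutation parts form the alternating group of degree 6. -/
theorem result (F : Type*) [Field F] [Fintype F] [DecidableEq F] (hF : Fintype.card F = 4) (ω : F) (hω : ω ^ 2 + ω + 1 = 0) : Nat.card {f : Equiv.Perm (Fin 6) × (Fin 6 → Fˣ) // (∀ x ∈ Cfsg.hexacode F ω, Cfsg.monomialMap f.1 f.2 x ∈ Cfsg.hexacode F ω)} = 1080 ∧ (∀ c : Fin 6 → Fˣ, (∀ x ∈ Cfsg.hexacode F ω, Cfsg.monomialMap 1 c x ∈ Cfsg.hexacode F ω) → ∀ i j, c i = c j) ∧ {σ : Equiv.Perm (Fin 6) | ∃ c : Fin 6 → Fˣ, (∀ x ∈ Cfsg.hexacode F ω, Cfsg.monomialMap σ c x ∈ Cfsg.hexacode F ω)} = (alternatingGroup (Fin 6) : Set (Equiv.Perm (Fin 6))) := by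
  classical
  have hEb := E_bijective hF hω
  have h0 : E ω 0 = (0 : F) := rfl
  have hne : ∀ k : Fin 3, E ω k.succ ≠ 0 := fun k h =>
    Fin.succ_ne_zero k (E_injective hF hω (h.trans h0.symm))
  let u : Fin 3 → Fˣ := fun k => Units.mk0 _ (hne k)
  have hu : Function.Bijective u := by
    refine ⟨fun a b h => ?_, fun v => ?_⟩
    · have : E ω a.succ = E ω b.succ := congrArg Units.val h
      exact Fin.succ_injective _ (E_injective hF hω this)
    · obtain ⟨k, hk⟩ := hEb.2 (v : F)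
      have hk0 : k ≠ 0 := by rintro rfl; exact v.ne_zero (hk.symm.trans h0)
      obtain ⟨j, rfl⟩ := Fin.exists_succ_eq.2 hk0
      exact ⟨j, Units.ext hk⟩
  let V : Equiv.Perm (Fin 6) → (Fin 6 → Fˣ) → Prop := fun σ c =>
    ∀ x ∈ Cfsg.hexacode F ω, Cfsg.monomialMap σ c x ∈ Cfsg.hexacode F ω
  -- transfer of validity to the model
  have hV : ∀ σ (c : Fin 6 → Fin 3), V σ (u ∘ c) ↔ okM σ.symm c = true := by
    intro σ c
    have himg : ∀ y : Fin 6 → Fin 4, Cfsg.monomialMap σ (u ∘ c) (E ω ∘ y) =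
        E ω ∘ fun i => mulM (scal c i) (y (σ.symm i)) := by
      intro y; funext i
      show E ω (scal c i) * E ω (y (σ.symm i)) = E ω (mulM (scal c i) (y (σ.symm i)))
      exact E_mul hω _ _
    simp only [okM, Bool.and_eq_true]
    constructor
    · intro h
      refine ⟨⟨?_, ?_⟩, ?_⟩ <;>
      · rw [← mem_hexacode_comp_iff hF hω, ← himg]
        exact h _ ((mem_hexacode_iff hF hω _).2 ⟨_, rfl⟩)
    · rintro ⟨⟨h1, h2⟩, h3⟩ x hx
      obtain ⟨⟨a, b, d⟩, rfl⟩ := (mem_hexacode_iff hF hω x).1 hx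
      rw [← mem_hexacode_comp_iff hF hω, ← himg] at h1 h2 h3
      have hlin : (E ω ∘ word (a, b, d)) = E ω a • (E ω ∘ word (1, 0, 0)) +
          E ω b • (E ω ∘ word (0, 1, 0)) + E ω d • (E ω ∘ word (0, 0, 1)) := by
        funext i
        simp only [Pi.add_apply, Pi.smul_apply, Function.comp, smul_eq_mul, E_mul hω, E_add hF hω]
        exact congrArg _ ((by decide +kernel : ∀ a b c : Fin 4, ∀ i, word (a, b, c) i =
          addM (addM (mulM a (word (1, 0, 0) i)) (mulM b (word (0, 1, 0) i)))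
            (mulM c (word (0, 0, 1) i))) a b d i)
      have hm : Cfsg.monomialMap σ (u ∘ c) (E ω ∘ word (a, b, d)) =
          E ω a • Cfsg.monomialMap σ (u ∘ c) (E ω ∘ word (1, 0, 0)) +
          E ω b • Cfsg.monomialMap σ (u ∘ c) (E ω ∘ word (0, 1, 0)) +
          E ω d • Cfsg.monomialMap σ (u ∘ c) (E ω ∘ word (0, 0, 1)) := by
        rw [hlin]; funext i
        simp only [Cfsg.monomialMap, Pi.add_apply, Pi.smul_apply, smul_eq_mul]; ring
      rw [hm]
      exact Submodule.add_mem _ (Submodule.add_mem _ (Submodule.smul_mem _ _ h1)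
        (Submodule.smul_mem _ _ h2)) (Submodule.smul_mem _ _ h3)
  have hlift : ∀ c : Fin 6 → Fˣ, ∃ c' : Fin 6 → Fin 3, c = u ∘ c' := fun c => by
    choose c' hc' using fun i => hu.2 (c i)
    exact ⟨c', funext fun i => (hc' i).symm⟩
  -- diagonal part
  have hdiag : ∀ c : Fin 6 → Fˣ, V 1 c → ∀ i j, c i = c j := by
    intro c hc i j
    obtain ⟨c', rfl⟩ := hlift c
    have he : c' = ![c' 0, c' 1, c' 2, c' 3, c' 4, c' 5] := by funext k; fin_cases k <;> rfl
    have := (hV 1 c').1 hc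
    rw [he] at this
    obtain ⟨h1, h2, h3, h4, h5⟩ := (by decide +kernel : ∀ a b c d e f : Fin 3,
      okM id ![a, b, c, d, e, f] = true → a = b ∧ a = c ∧ a = d ∧ a = e ∧ a = f) _ _ _ _ _ _ this
    have hconst : ∀ k, c' k = c' 0 := by
      intro k
      fin_cases k
      exacts [rfl, h1.symm, h2.symm, h3.symm, h4.symm, h5.symm]
    exact congrArg u ((hconst i).trans (hconst j).symm)
  -- group law
  have hmul : ∀ σ τ c d, V σ c → V τ d → V (σ * τ) (fun i => c i * d (σ.symm i)) := by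
    intro σ τ c d hc hd x hx
    have : Cfsg.monomialMap (σ * τ) (fun i => c i * d (σ.symm i)) x =
        Cfsg.monomialMap σ c (Cfsg.monomialMap τ d x) := by
      funext i
      simp [Cfsg.monomialMap, Equiv.Perm.mul_def, mul_assoc]
    rw [this]
    exact hc _ (hd x hx)
  let K : Set (Equiv.Perm (Fin 6)) := {σ | ∃ c, V σ c}
  have Kmul : ∀ σ ∈ K, ∀ τ ∈ K, σ * τ ∈ K := fun σ ⟨c, hc⟩ τ ⟨d, hd⟩ => ⟨_, hmul σ τ c d hc hd⟩
  let τ₀ : Equiv.Perm (Fin 6) := Equiv.swap 0 1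
  have hsw : ∀ a b : Fin 6, a ≠ b → τ₀ * Equiv.swap a b ∈ K ∧ Equiv.swap a b * τ₀ ∈ K := by
    intro a b hab
    obtain ⟨⟨c1, c2, c3, c4, c5, h⟩, ⟨d1, d2, d3, d4, d5, h'⟩⟩ := (by decide +kernel :
      ∀ a b : Fin 6, a ≠ b →
        (∃ c1 c2 c3 c4 c5 : Fin 3, okM ((Equiv.swap (0 : Fin 6) 1 * Equiv.swap a b).symm)
          ![0, c1, c2, c3, c4, c5] = true) ∧
        (∃ c1 c2 c3 c4 c5 : Fin 3, okM ((Equiv.swap a b * Equiv.swap (0 : Fin 6) 1).symm)
          ![0, c1, c2, c3, c4, c5] = true)) a b hab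
    exact ⟨⟨_, (hV _ _).2 h⟩, ⟨_, (hV _ _).2 h'⟩⟩
  have hodd : τ₀ ∉ K := by
    rintro ⟨c, hc⟩
    obtain ⟨c', rfl⟩ := hlift c
    have he : c' = ![c' 0, c' 1, c' 2, c' 3, c' 4, c' 5] := by funext k; fin_cases k <;> rfl
    have := (hV _ c').1 hc
    rw [he] at this
    exact Bool.false_ne_true (((by decide +kernel : ∀ a b c d e f : Fin 3,
      okM (Equiv.swap (0 : Fin 6) 1).symm ![a, b, c, d, e, f] = false) _ _ _ _ _ _).symm.trans this)
  have h1K : (1 : Equiv.Perm (Fin 6)) ∈ K := ⟨1, fun x hx => by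
    have : Cfsg.monomialMap 1 (1 : Fin 6 → Fˣ) x = x := by funext i; simp [Cfsg.monomialMap, Equiv.Perm.one_def]
    rw [this]; exact hx⟩
  have hpar : ∀ σ : Equiv.Perm (Fin 6),
      (Equiv.Perm.sign σ = 1 → σ ∈ K) ∧ (Equiv.Perm.sign σ = -1 → τ₀ * σ ∈ K) := by
    intro σ
    refine Equiv.Perm.swap_induction_on σ ⟨fun _ => h1K, fun h => by simp at h⟩ ?_
    intro f a b hab ih
    rw [map_mul, Equiv.Perm.sign_swap hab]
    refine ⟨fun h => ?_, fun h => ?_⟩
    · have hf : Equiv.Perm.sign f = -1 := by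
        rcases Int.units_eq_one_or (Equiv.Perm.sign f) with e | e <;> simp_all
      have := Kmul _ (hsw a b hab).2 _ (ih.2 hf)
      rwa [mul_assoc, ← mul_assoc τ₀ τ₀, Equiv.swap_mul_self, one_mul] at this
    · have hf : Equiv.Perm.sign f = 1 := by
        rcases Int.units_eq_one_or (Equiv.Perm.sign f) with e | e <;> simp_all
      have := Kmul _ (hsw a b hab).1 _ (ih.1 hf)
      rwa [mul_assoc] at this
  have hK : K = (alternatingGroup (Fin 6) : Set (Equiv.Perm (Fin 6))) := by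
    ext σ
    rw [SetLike.mem_coe, Equiv.Perm.mem_alternatingGroup]
    refine ⟨fun h => ?_, (hpar σ).1⟩
    rcases Int.units_eq_one_or (Equiv.Perm.sign σ) with e | e
    · exact e
    · refine absurd ?_ hodd
      have hinv : Equiv.Perm.sign σ⁻¹ = -1 := by rw [map_inv, e]; rfl
      have := Kmul _ ((hpar σ⁻¹).2 hinv) _ h
      rwa [mul_assoc, inv_mul_cancel, mul_one] at this
  refine ⟨?_, fun c hc => hdiag c hc, hK⟩
  -- counting
  choose c₀ hc₀ using fun σ : ↥(alternatingGroup (Fin 6)) =>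
    (show (σ : Equiv.Perm (Fin 6)) ∈ K by rw [hK]; exact σ.2)
  have hscal : ∀ σ c (v : Fˣ), V σ c → V σ (fun i => v * c i) := by
    intro σ c v hc x hx
    have : Cfsg.monomialMap σ (fun i => v * c i) x = (v : F) • Cfsg.monomialMap σ c x := by
      funext i; simp [Cfsg.monomialMap, mul_assoc]
    rw [this]
    exact Submodule.smul_mem _ _ (hc x hx)
  let Φ : ↥(alternatingGroup (Fin 6)) × Fˣ →
      {f : Equiv.Perm (Fin 6) × (Fin 6 → Fˣ) //
        (∀ x ∈ Cfsg.hexacode F ω, Cfsg.monomialMap f.1 f.2 x ∈ Cfsg.hexacode F ω)} :=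
    fun p => ⟨((p.1 : Equiv.Perm (Fin 6)), fun i => p.2 * c₀ p.1 i), hscal _ _ _ (hc₀ p.1)⟩
  have hΦ : Function.Bijective Φ := by
    refine ⟨fun p q h => ?_, fun f => ?_⟩
    · have h' := congrArg Subtype.val h
      have e1 : p.1 = q.1 := Subtype.ext (congrArg Prod.fst h')
      have e2 : p.2 * c₀ p.1 0 = q.2 * c₀ q.1 0 := congrFun (congrArg Prod.snd h') 0
      rw [e1] at e2
      exact Prod.ext e1 (mul_right_cancel e2)
    · obtain ⟨⟨σ, c⟩, hc⟩ := f
      have hσ : σ ∈ alternatingGroup (Fin 6) := by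
        rw [← SetLike.mem_coe, ← hK]; exact ⟨c, hc⟩
      -- an inverse of the chosen map, to compare with the diagonal part
      have hinvK : σ⁻¹ ∈ K := by rw [hK]; exact inv_mem hσ
      obtain ⟨e, he⟩ := hinvK
      have ha := hdiag _ (by simpa using hmul _ _ _ _ hc he)
      have hb := hdiag _ (by simpa using hmul _ _ _ _ (hc₀ ⟨σ, hσ⟩) he)
      refine ⟨(⟨σ, hσ⟩, c 0 * (c₀ ⟨σ, hσ⟩ 0)⁻¹), Subtype.ext (Prod.ext rfl (funext fun i => ?_))⟩
      have h1 : c i * e (σ.symm i) = c 0 * e (σ.symm 0) := ha i 0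
      have h2 : c₀ ⟨σ, hσ⟩ i * e (σ.symm i) = c₀ ⟨σ, hσ⟩ 0 * e (σ.symm 0) := hb i 0
      show c 0 * (c₀ ⟨σ, hσ⟩ 0)⁻¹ * c₀ ⟨σ, hσ⟩ i = c i
      have e1 : c₀ ⟨σ, hσ⟩ i = c₀ ⟨σ, hσ⟩ 0 * (e (σ.symm 0) * (e (σ.symm i))⁻¹) := by
        rw [← mul_assoc, ← h2, mul_inv_cancel_right]
      have e3 : c i = c 0 * (e (σ.symm 0) * (e (σ.symm i))⁻¹) := by
        rw [← mul_assoc, ← h1, mul_inv_cancel_right]
      rw [e1, e3, mul_assoc (c 0), inv_mul_cancel_left]
  rw [← Nat.card_congr (Equiv.ofBijective Φ hΦ), Nat.card_prod,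
    ← Nat.card_congr (Equiv.ofBijective u hu)]
  have h2 : 2 * Nat.card ↥(alternatingGroup (Fin 6)) = Nat.card (Equiv.Perm (Fin 6)) :=
    two_mul_nat_card_alternatingGroup
  rw [Nat.card_perm, Nat.card_fin] at h2
  rw [Nat.card_fin]
  have h720 : Nat.factorial 6 = 720 := rfl
  omega

end Cfsg.Agent.S1611
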