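import Cfsg.Statements.S1612
import Mathlib
import Cfsg.Agent.Lib.ThreeTransp.FischerLemmas

set_option autoImplicit false
open Cfsg

namespace Cfsg.Agent.S1612

/-- In a 3-transposition group (no solvable normal subgroup, perfect derived group), the normaliser of a commuting set of transpositions of maximum size contains a Sylow 2-subgroup and is doubly transitive on the set. -/
theorem result {G : Type*} [Group G] [Finite G] (hsol : ∀ N : Subgroup G, N.Normal → Group.IsSolvable ↥N → N = ⊥) (hperf : ⁅commutator G, commutator G⁆ = commutator G) {D : Set G} (hD : Cfsg.IsThreeTranspositionClass D) {E : Set G} (hE : E ⊆ D) (hc : ∀ a ∈ E, ∀ b ∈ E, Commute a b) (hmax : ∀ E' : Set G, E' ⊆ D → (∀ a ∈ E', ∀ b ∈ E', Commute a b) → E'.ncard ≤ E.ncard) : (∃ P : Sylow 2 G, (P : Subgroup G) ≤ Subgroup.normalizer E) ∧ ∀ a ∈ E, ∀ b ∈ E, ∀ c ∈ E, ∀ d ∈ E, a ≠ b → c ≠ d → ∃ g ∈ Subgroup.normalizer E, g * a * g⁻¹ = c ∧ g * b * g⁻¹ = d := by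
  classical
  have : Fact (Nat.Prime 2) := ⟨Nat.prime_two⟩
  obtain ⟨hS, hconj, hgen⟩ := Lib.ThreeTransp.group_of_class hD
  have hSy : ∀ (T : Sylow 2 G), ∀ a ∈ D, ∀ b ∈ D, a ∈ T → b ∈ T → Commute a b := by
    intro T a ha b hb haT hbT
    by_contra hab
    have h3 := Lib.ThreeTransp.orderOf_eq_three hS ha hb hab
    obtain ⟨k, hk⟩ := T.isPGroup' ⟨a * b, mul_mem haT hbT⟩
    have hk' : (a * b) ^ 2 ^ k = 1 := by simpa [Subtype.ext_iff] using hk
    have hd := orderOf_dvd_of_pow_eq_one hk'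
    rw [h3] at hd
    have := (Nat.prime_dvd_prime_iff_eq Nat.prime_three Nat.prime_two).mp
      (Nat.prime_three.dvd_of_dvd_pow hd)
    omega
  have hgroup : IsPGroup 2 (Subgroup.closure E) := by
    have hM : IsMulCommutative (Subgroup.closure E) :=
      Subgroup.isMulCommutative_closure fun a ha b hb => hc a ha b hb
    rintro ⟨x, hx⟩
    refine ⟨1, Subtype.ext ?_⟩
    show x ^ (2 ^ 1) = 1
    rw [pow_one]
    induction hx using Subgroup.closure_induction with
    | mem y hy => rw [pow_two, Lib.ThreeTransp.mul_self hS (hE hy)]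
    | one => exact one_pow 2
    | mul a b ha hb iha ihb =>
      have hab : Commute a b :=
        congrArg Subtype.val (mul_comm' (⟨a, ha⟩ : Subgroup.closure E) ⟨b, hb⟩)
      rw [hab.mul_pow, iha, ihb, one_mul]
    | inv a ha iha => rw [inv_pow, iha, inv_one]
  obtain ⟨P, hP⟩ := hgroup.exists_le_sylow
  -- any Sylow subgroup containing `E` meets `D` exactly in `E`
  have hmeet : ∀ P : Sylow 2 G, Subgroup.closure E ≤ P → {d | d ∈ D ∧ d ∈ P} = E := by
    intro P hP
    have hsub : E ⊆ {d | d ∈ D ∧ d ∈ P} := fun e he => ⟨hE he, hP (Subgroup.subset_closure he)⟩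
    exact (Set.eq_of_subset_of_ncard_le hsub
      (hmax _ (fun d hd => hd.1) fun a ha b hb => hSy P a ha.1 b hb.1 ha.2 hb.2)
      (Set.toFinite _)).symm
  have hPE := hmeet P hP
  refine ⟨⟨P, fun g hg => ?_⟩, ?_⟩
  · refine Subgroup.mem_normalizer_fintype ?_
    intro e he
    try rw [SetLike.mem_coe] at *
    have heP : e ∈ {d | d ∈ D ∧ d ∈ P} := hPE ▸ he
    have : g * e * g⁻¹ ∈ {d | d ∈ D ∧ d ∈ P} :=
      ⟨hconj g e heP.1, mul_mem (mul_mem hg heP.2) (inv_mem hg)⟩
    rw [hPE] at this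
    exact this
  intro a ha b hb c hc' d hd hab hcd
  obtain ⟨g₁, hg₁⟩ := Lib.ThreeTransp.class_conj hD (hE ha) (hE hc')
  have hb₁ : g₁ * b * g₁⁻¹ ∈ Lib.ThreeTransp.Neighbour.nbr D c := by
    refine ⟨hconj g₁ b (hE hb), fun e => hab ?_, ?_⟩
    · rw [← hg₁] at e; simpa using e.symm
    · rw [← hg₁, Lib.ThreeTransp.commute_conj_iff]; exact hc a ha b hb
  have hd₁ : d ∈ Lib.ThreeTransp.Neighbour.nbr D c := ⟨hE hd, hcd.symm, hc c hc' d hd⟩
  obtain ⟨g₂, hg₂, hg₂'⟩ :=
    Lib.ThreeTransp.Neighbour.fischer_centralizer_transitive hsol hperf hD (hE hc') hb₁ hd₁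
  let g := g₂ * g₁
  have hga : g * a * g⁻¹ = c := by
    have : g * a * g⁻¹ = g₂ * (g₁ * a * g₁⁻¹) * g₂⁻¹ := by simp [g, mul_assoc]
    rw [this, hg₁, hg₂.eq, mul_inv_cancel_right]
  have hgb : g * b * g⁻¹ = d := by
    rw [← hg₂']; simp [g, mul_assoc]
  -- adjust inside the centraliser of `c` and `d`
  let C : Subgroup G := Subgroup.centralizer ({c, d} : Set G)
  let E' : Set G := (fun x => g * x * g⁻¹) '' E
  have hEC : Subgroup.closure E ≤ C := by
    rw [Subgroup.closure_le]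
    intro e he
    refine Subgroup.mem_centralizer_iff.2 ?_
    rintro z (rfl | rfl)
    · exact hc z hc' e he
    · exact hc z hd e he
  have hE'C : Subgroup.closure E' ≤ C := by
    rw [Subgroup.closure_le]
    rintro _ ⟨e, he, rfl⟩
    refine Subgroup.mem_centralizer_iff.2 ?_
    rintro z (rfl | rfl)
    · rw [← hga]; exact ((Lib.ThreeTransp.commute_conj_iff g).2 (hc a ha e he)).eq
    · rw [← hgb]; exact ((Lib.ThreeTransp.commute_conj_iff g).2 (hc b hb e he)).eq
  have hgroup' : IsPGroup 2 (Subgroup.closure E') := by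
    have e : Subgroup.closure E' = (Subgroup.closure E).map (MulAut.conj g).toMonoidHom := by
      rw [MonoidHom.map_closure]; rfl
    rw [e]; exact hgroup.map _
  have hp1 : IsPGroup 2 ((Subgroup.closure E).subgroupOf C) :=
    hgroup.comap_of_injective C.subtype C.subtype_injective
  have hp2 : IsPGroup 2 ((Subgroup.closure E').subgroupOf C) :=
    hgroup'.comap_of_injective C.subtype C.subtype_injective
  obtain ⟨T, hT⟩ := hp1.exists_le_sylow
  obtain ⟨T', hT'⟩ := hp2.exists_le_sylow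
  obtain ⟨h, hh⟩ := MulAction.exists_smul_eq C T' T
  have hTG : IsPGroup 2 ((T : Subgroup C).map C.subtype) := T.isPGroup'.map _
  obtain ⟨Q, hQ⟩ := hTG.exists_le_sylow
  have hQE : Subgroup.closure E ≤ Q := fun x hx => hQ ⟨⟨x, hEC hx⟩, hT hx, rfl⟩
  have hQeq := hmeet Q hQE
  refine ⟨(h : G) * g, ?_, ?_, ?_⟩
  · refine Subgroup.mem_normalizer_fintype ?_
    intro e he
    try rw [SetLike.mem_coe] at *
    have he' : g * e * g⁻¹ ∈ Subgroup.closure E' := Subgroup.subset_closure ⟨e, he, rfl⟩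
    have hm : h * (⟨_, hE'C he'⟩ : C) * h⁻¹ ∈ (T : Subgroup C) := by
      rw [← hh, Sylow.coe_subgroup_smul]
      exact Subgroup.smul_mem_pointwise_smul _ (MulAut.conj h) _ (hT' he')
    have hQm : (h : G) * (g * e * g⁻¹) * (h : G)⁻¹ ∈ Q := hQ ⟨_, hm, rfl⟩
    have hmem : (h : G) * (g * e * g⁻¹) * (h : G)⁻¹ ∈ {x | x ∈ D ∧ x ∈ Q} :=
      ⟨hconj _ _ (hconj _ _ (hE he)), hQm⟩
    rw [hQeq] at hmem
    simpa [mul_assoc] using hmem
  · have hhc := (Subgroup.mem_centralizer_iff.1 h.2) c (Set.mem_insert _ _)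
    calc (h : G) * g * a * ((h : G) * g)⁻¹ = h * (g * a * g⁻¹) * (h : G)⁻¹ := by group
      _ = c := by rw [hga, ← hhc, mul_inv_cancel_right]
  · have hhd := (Subgroup.mem_centralizer_iff.1 h.2) d (Set.mem_insert_of_mem _ rfl)
    calc (h : G) * g * b * ((h : G) * g)⁻¹ = h * (g * b * g⁻¹) * (h : G)⁻¹ := by group
      _ = d := by rw [hgb, ← hhd, mul_inv_cancel_right]

end Cfsg.Agent.S1612
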