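import Cfsg.Statements.S1618
import Mathlib
import Cfsg.Agent.Lib.ZStar.Final

set_option autoImplicit false
open Cfsg
open Cfsg.Agent.Lib.Involution

namespace Cfsg.Agent.S1618

/-- A group generated by a class of involutions whose pairwise products (of distinct members) have p-power order for a fixed odd prime p has nilpotent derived subgroup. -/
theorem result {G : Type*} [Group G] [Finite G] (p : ℕ) (hp : p.Prime) (hodd : p ≠ 2) {D : Set G} (hinv : ∀ d ∈ D, orderOf d = 2) (hconj : ∃ d ∈ D, D = conjugatesOf d) (hgen : Subgroup.closure D = ⊤) (hprod : ∀ x ∈ D, ∀ y ∈ D, x ≠ y → ∃ k : ℕ, orderOf (x * y) = p ^ k) : Group.IsNilpotent ↥(commutator G) := by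
  haveI : Fact p.Prime := ⟨hp⟩
  obtain ⟨d, hd, rfl⟩ := hconj
  have hprod' : ∀ a ∈ conjugatesOf d, ∀ b ∈ conjugatesOf d, ∃ k : ℕ, orderOf (a * b) = p ^ k := by
    intro a ha b hb
    by_cases hab : a = b
    · subst hab
      exact ⟨0, by rw [Lib.ZStar.mul_self_of_orderOf_two (hinv a ha), orderOf_one, pow_zero]⟩
    · exact hprod a ha b hb hab
  have hmem := Lib.ZStar.mul_mem_pCore_of_pPower Lib.ZStar.zStar hp hodd (hinv d hd) hprod'
  set N := Cfsg.pCore p G with hN
  have hle : commutator G ≤ N := by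
    have htop : (⊤ : Subgroup (G ⧸ N)) ≤ Subgroup.zpowers (d : G ⧸ N) := by
      rw [← Subgroup.map_top_of_surjective _ (QuotientGroup.mk'_surjective N), ← hgen,
        MonoidHom.map_closure, Subgroup.closure_le]
      rintro _ ⟨a, ha, rfl⟩
      refine ⟨1, ?_⟩
      simp only [zpow_one, QuotientGroup.mk'_apply]
      rw [QuotientGroup.eq, inv_eq_of_mul_eq_one_right
        (Lib.ZStar.mul_self_of_orderOf_two (hinv d hd))]
      exact hmem d hd a ha
    rw [commutator_def, Subgroup.commutator_le]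
    intro a _ b _
    obtain ⟨i, hi⟩ := htop (Subgroup.mem_top (a : G ⧸ N))
    obtain ⟨j, hj⟩ := htop (Subgroup.mem_top (b : G ⧸ N))
    rw [← QuotientGroup.eq_one_iff, commutatorElement_def]
    simp only [QuotientGroup.mk_mul, QuotientGroup.mk_inv, ← hi, ← hj]
    group
  exact ((Lib.PSolvable.pCore_isPGroup (p := p) (G := G)).to_le hle).isNilpotent

end Cfsg.Agent.S1618
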