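import Cfsg.Statements.S1621
import Cfsg.Agent.Lib.Icosian.Action

set_option linter.style.haveILetI false

set_option autoImplicit false
open Quaternion
open Cfsg

namespace Cfsg.Agent.S1621

open Lib.Icosian Lib.Icosian.Q8 in
private theorem unit_injective : ∀ k l : Fin 120, unit k = unit l → k = l := by decide +kernel


/-- The icosian Leech lattice has 37800 minimal vectors giving 315 distinct reflections. -/
theorem result : {r : Fin 3 → ℍ[ℝ] | r ∈ Cfsg.Spor.icoLeech ∧ Cfsg.Spor.qip r r = 4}.ncard = 37800 ∧ {f : Equiv.Perm ↥Cfsg.Spor.icoLeech | Cfsg.Spor.IsIcoReflection f}.ncard = 315 := by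
  open Lib.Icosian in
  open Lib.Icosian.Q8 in
  constructor
  · let F : Fin 315 × Fin 120 → (Fin 3 → ℍ[ℝ]) := fun p => toV (scale (unit p.2) (line p.1))
    have hu : ∀ k : Fin 120, inL (unit (k : ℕ)) = true := fun k => (units_spec k k.2).1
    have hset : {r : Fin 3 → ℍ[ℝ] | r ∈ Cfsg.Spor.icoLeech ∧ Cfsg.Spor.qip r r = 4} = Set.range F := by
      ext r
      constructor
      · rintro ⟨hr, h4⟩
        obtain ⟨c, hc, rfl⟩ := exists_coords hr
        obtain ⟨i, hi, k, hk, rfl⟩ := minimal_line hc h4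
        exact ⟨(⟨i, hi⟩, ⟨k, hk⟩), rfl⟩
      · rintro ⟨⟨i, k⟩, rfl⟩
        refine ⟨toV_mem (inLam_scale (hu k) (lines_inLam i i.2).1), ?_⟩
        show Cfsg.Spor.qip (toV (scale (unit k) (line i))) (toV (scale (unit k) (line i))) = 4
        have h4 : Cfsg.Spor.qip (toV (line i)) (toV (line i)) = 4 :=
          qip_self_eq_four.mpr ⟨(lines_inLam i i.2).2.1, (lines_inLam i i.2).2.2⟩
        rw [toV_scale (hu k) (lines_inLam i i.2).1, qip_smul_left, qip_smul_right, h4, ← mul_assoc,
          show (4 : ℍ[ℝ]) = ((4 : ℝ) : ℍ[ℝ]) by norm_cast, ← Quaternion.coe_commutes, mul_assoc,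
          (star_mul_self_unit k.2).2, mul_one]
    have hF : Function.Injective F := by
      rintro ⟨i, k⟩ ⟨j, l⟩ h
      have hq : Cfsg.Spor.qrefl (F (i, k)) = Cfsg.Spor.qrefl (F (j, l)) := by rw [h]
      simp only [F] at hq
      rw [qrefl_scale_line k.2 i.2, qrefl_scale_line l.2 j.2] at hq
      obtain rfl := qrefl_line_injective fun v _ => congrFun hq v
      simp only [F, toV_scale (hu k) (lines_inLam i i.2).1, toV_scale (hu l) (lines_inLam i i.2).1] at h
      obtain ⟨t, ht⟩ : ∃ t, toV (line i) t ≠ 0 := by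
        by_contra hall
        push Not at hall
        have h0 : Cfsg.Spor.qip (toV (line i)) (toV (line i)) = 0 := by simp [Cfsg.Spor.qip, hall]
        rw [qip_self_eq_four.mpr ⟨(lines_inLam i i.2).2.1, (lines_inLam i i.2).2.2⟩,
          show (4 : ℍ[ℝ]) = ((4 : ℝ) : ℍ[ℝ]) by norm_cast, ← Quaternion.coe_zero, Quaternion.coe_inj] at h0
        norm_num at h0
      rw [unit_injective k l (toH_injective (mul_right_cancel₀ ht (congrFun h t)))]
    rw [hset, Set.ncard_range_of_injective hF, Nat.card_prod, Nat.card_fin, Nat.card_fin]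
  · rw [show {f : Equiv.Perm ↥Cfsg.Spor.icoLeech | Cfsg.Spor.IsIcoReflection f} = Set.range lineRefl from
      Set.ext fun f => ⟨fun h => exists_lineRefl h, fun ⟨i, hi⟩ => hi ▸ isIcoReflection_lineRefl i⟩,
      Set.ncard_range_of_injective lineRefl_injective, Nat.card_fin]

end Cfsg.Agent.S1621
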