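import Cfsg.Statements.S1635
import Mathlib
import Cfsg.Agent.Lib.Golay.Cosets

set_option autoImplicit false
open Cfsg

namespace Cfsg.Agent.S1635

/-- Coset leaders of the length-24 code: a coset contains a unique word of weight ≤ 3, or else exactly six words of weight 4 and none lighter. -/
theorem result (w : Cfsg.GolayPt → ZMod 2) : ({v : Cfsg.GolayPt → ZMod 2 | hammingNorm v ≤ 4 ∧ w - v ∈ Cfsg.golayCode}.ncard = 1 ∧ ∃ v : Cfsg.GolayPt → ZMod 2, hammingNorm v ≤ 3 ∧ w - v ∈ Cfsg.golayCode) ∨ ({v : Cfsg.GolayPt → ZMod 2 | hammingNorm v ≤ 4 ∧ w - v ∈ Cfsg.golayCode}.ncard = 6 ∧ ∀ v : Cfsg.GolayPt → ZMod 2, w - v ∈ Cfsg.golayCode → hammingNorm v ≤ 4 → hammingNorm v = 4) := by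
  classical
  have hset : {v : Cfsg.GolayPt → ZMod 2 | hammingNorm v ≤ 4 ∧ w - v ∈ Cfsg.golayCode}.ncard =
      {V : Finset Cfsg.GolayPt | Lib.Golay.IsCodeSet (symmDiff (support₂ w) V) ∧ V.card ≤ 4}.ncard := by
    rw [← Set.ncard_image_of_injective _ Lib.Golay.word_injective]
    congr 1
    ext v
    simp only [Set.mem_setOf_eq, Set.mem_image]
    constructor
    · rintro ⟨h1, h2⟩
      exact ⟨support₂ v, ⟨(Lib.Golay.sub_mem_iff w v).mp h2, h1⟩, Lib.Golay.word_support₂ v⟩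
    · rintro ⟨V, ⟨h1, h2⟩, rfl⟩
      rw [Lib.Golay.sub_mem_iff, Lib.Golay.hammingNorm_eq_card, Lib.Golay.support₂_word]
      exact ⟨h2, h1⟩
  by_cases hex : ∃ V, Lib.Golay.IsCodeSet (symmDiff (support₂ w) V) ∧ V.card ≤ 3
  · left
    obtain ⟨V, hV, hc⟩ := hex
    refine ⟨?_, Lib.Golay.word V, ?_, ?_⟩
    · rw [hset, Set.ncard_eq_one]
      refine ⟨V, Set.Subset.antisymm ?_ (by rintro _ rfl; exact ⟨hV, by omega⟩)⟩
      rintro V' ⟨hV', hc'⟩
      by_contra hne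
      have := (Lib.Golay.coset_short_disjoint hV hV' (by omega) hc' (Ne.symm hne)).1
      omega
    · rw [Lib.Golay.hammingNorm_eq_card, Lib.Golay.support₂_word]; exact hc
    · rw [Lib.Golay.sub_mem_iff, Lib.Golay.support₂_word]; exact hV
  · right
    refine ⟨by rw [hset]; exact Lib.Golay.ncard_coset_short_eq_six _ hex, fun v hv h4 => ?_⟩
    rw [Lib.Golay.hammingNorm_eq_card] at h4 ⊢
    by_contra h
    exact hex ⟨_, (Lib.Golay.sub_mem_iff w v).mp hv, by omega⟩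

end Cfsg.Agent.S1635
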