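import Cfsg.Statements.S1636
import Mathlib
import Cfsg.Agent.Lib.Golay.Cosets

set_option autoImplicit false
open Cfsg

namespace Cfsg.Agent.S1636

/-- The punctured length-23 code has weight distribution 0^1 7^253 8^506 11^1288 12^1288 15^506 16^253 23^1. -/
theorem result : {u : ZMod 23 → ZMod 2 | ∃ w ∈ Cfsg.golayCode, ∀ x : ZMod 23, u x = w (some x)}.ncard = 4096 ∧ {u : ZMod 23 → ZMod 2 | u ∈ {u : ZMod 23 → ZMod 2 | ∃ w ∈ Cfsg.golayCode, ∀ x : ZMod 23, u x = w (some x)} ∧ hammingNorm u = 7}.ncard = 253 ∧ {u : ZMod 23 → ZMod 2 | u ∈ {u : ZMod 23 → ZMod 2 | ∃ w ∈ Cfsg.golayCode, ∀ x : ZMod 23, u x = w (some x)} ∧ hammingNorm u = 8}.ncard = 506 ∧ {u : ZMod 23 → ZMod 2 | u ∈ {u : ZMod 23 → ZMod 2 | ∃ w ∈ Cfsg.golayCode, ∀ x : ZMod 23, u x = w (some x)} ∧ hammingNorm u = 11}.ncard = 1288 ∧ {u : ZMod 23 → ZMod 2 | u ∈ {u : ZMod 23 → ZMod 2 | ∃ w ∈ Cfsg.golayCode, ∀ x : ZMod 23, u x = w (some x)} ∧ hammingNorm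 u = 12}.ncard = 1288 ∧ {u : ZMod 23 → ZMod 2 | u ∈ {u : ZMod 23 → ZMod 2 | ∃ w ∈ Cfsg.golayCode, ∀ x : ZMod 23, u x = w (some x)} ∧ hammingNorm u = 15}.ncard = 506 ∧ {u : ZMod 23 → ZMod 2 | u ∈ {u : ZMod 23 → ZMod 2 | ∃ w ∈ Cfsg.golayCode, ∀ x : ZMod 23, u x = w (some x)} ∧ hammingNorm u = 16}.ncard = 253 ∧ ∀ u ∈ {u : ZMod 23 → ZMod 2 | ∃ w ∈ Cfsg.golayCode, ∀ x : ZMod 23, u x = w (some x)}, u ≠ 0 → 7 ≤ hammingNorm u := by
  classical
  set P : Set (ZMod 23 → ZMod 2) := {u | ∃ w ∈ Cfsg.golayCode, ∀ x : ZMod 23, u x = w (some x)}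
  have hP : P = Lib.Golay.puncture '' (Cfsg.golayCode : Set (Cfsg.GolayPt → ZMod 2)) := by
    ext u
    exact ⟨fun ⟨w, hw, h⟩ => ⟨w, hw, funext fun x => (h x).symm⟩,
      fun ⟨w, hw, h⟩ => ⟨w, hw, fun x => by rw [← h]; rfl⟩⟩
  have hinj : Set.InjOn Lib.Golay.puncture (Cfsg.golayCode : Set (Cfsg.GolayPt → ZMod 2)) := by
    intro v hv w hw h
    refine Lib.Golay.puncture_injOn hv hw ?_
    have : Lib.Golay.puncture (v - w) = 0 := by
      show Lib.Golay.puncture v - Lib.Golay.puncture w = 0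
      rw [h, sub_self]
    rw [this, hammingNorm_zero]; omega
  have hn : ∀ k : ℕ, {u : ZMod 23 → ZMod 2 | u ∈ P ∧ hammingNorm u = k}.ncard =
      ((List.range 4096).filter fun x =>
        Lib.Golay.popCount (Lib.Golay.encode x % 2 ^ 23) == k).length := by
    intro k
    rw [← Lib.Golay.ncard_isCodeSet_of_test (fun s => (s.erase none).card = k)
      (fun m => Lib.Golay.popCount (m % 2 ^ 23) == k) (fun m _ => ?_)]
    · rw [← Set.ncard_image_of_injective _ Lib.Golay.word_injective,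
        ← Set.ncard_image_of_injOn (f := Lib.Golay.puncture) (hinj.mono ?_)]
      · congr 1
        ext u
        simp only [Set.mem_setOf_eq, Set.mem_image]
        constructor
        · rintro ⟨hu, hk⟩
          rw [hP] at hu
          obtain ⟨w, hw, rfl⟩ := hu
          refine ⟨w, ⟨support₂ w, ⟨Lib.Golay.mem_golayCode_iff.mp hw, ?_⟩,
            Lib.Golay.word_support₂ w⟩, rfl⟩
          rw [← Lib.Golay.hammingNorm_puncture]; exact hk
        · rintro ⟨_, ⟨s, ⟨hs, hk⟩, rfl⟩, rfl⟩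
          refine ⟨hP ▸ ⟨_, hs, rfl⟩, ?_⟩
          rw [Lib.Golay.hammingNorm_puncture, Lib.Golay.support₂_word]; exact hk
      · rintro _ ⟨s, ⟨hs, -⟩, rfl⟩
        exact hs
    · have e : (Lib.Golay.ptsOf m).erase none = Lib.Golay.ptsOf (m % 2 ^ 23) := by
        ext p
        rw [Finset.mem_erase, Lib.Golay.mem_ptsOf, Lib.Golay.mem_ptsOf, Nat.testBit_mod_two_pow]
        rcases p with _ | x
        · simp [Lib.Golay.idx]
        · simp [Lib.Golay.idx, ZMod.val_lt x]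
      rw [e, Lib.Golay.card_ptsOf]
      simp
  refine ⟨?_, ?_, ?_, ?_, ?_, ?_, ?_, ?_⟩
  · rw [hP, Set.ncard_image_of_injOn hinj]
    exact Lib.Golay.card_golayCode
  · rw [hn]; decide +kernel
  · rw [hn]; decide +kernel
  · rw [hn]; decide +kernel
  · rw [hn]; decide +kernel
  · rw [hn]; decide +kernel
  · rw [hn]; decide +kernel
  · intro u hu hu0
    rw [hP] at hu
    obtain ⟨w, hw, rfl⟩ := hu
    by_contra hlt
    refine hu0 ?_
    have : w = 0 := Lib.Golay.puncture_injOn hw (zero_mem _) (by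
      rw [sub_zero]; omega)
    rw [this]; rfl

end Cfsg.Agent.S1636
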