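import Cfsg.Statements.S1637
import Mathlib
import Cfsg.Agent.Lib.Golay.Cosets

set_option autoImplicit false
open Cfsg

namespace Cfsg.Agent.S1637

/-- The punctured length-23 code is a perfect 3-error-correcting code: each word of length 23 is within distance 3 of exactly one codeword. -/
theorem result (u : ZMod 23 → ZMod 2) : ∃! c : ZMod 23 → ZMod 2, c ∈ {u : ZMod 23 → ZMod 2 | ∃ w ∈ Cfsg.golayCode, ∀ x : ZMod 23, u x = w (some x)} ∧ hammingDist u c ≤ 3 := by
  classical
  let W : Cfsg.GolayPt → ZMod 2 := fun p => p.elim 0 u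
  have hW : Lib.Golay.puncture W = u := rfl
  have hdn : ∀ a b : ZMod 23 → ZMod 2, hammingDist a b = hammingNorm (a - b) := fun a b => by
    simp only [hammingDist, hammingNorm, Pi.sub_apply, ne_eq, sub_eq_zero]
  have hdist : ∀ v : Cfsg.GolayPt → ZMod 2,
      hammingDist u (Lib.Golay.puncture v) = hammingNorm (Lib.Golay.puncture (W - v)) := fun v => by
    rw [hdn]
    rfl
  obtain ⟨V, hV, hc⟩ := Lib.Golay.exists_coset_three_off_none (support₂ W)
  have hmem : W - Lib.Golay.word V ∈ Cfsg.golayCode := by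
    rw [Lib.Golay.sub_mem_iff, Lib.Golay.support₂_word]; exact hV
  refine ⟨Lib.Golay.puncture (W - Lib.Golay.word V), ⟨⟨_, hmem, fun _ => rfl⟩, ?_⟩, ?_⟩
  · rw [hdist, sub_sub_cancel, Lib.Golay.hammingNorm_puncture, Lib.Golay.support₂_word]
    exact hc
  · rintro c ⟨⟨v, hv, hcv⟩, hd⟩
    obtain rfl : c = Lib.Golay.puncture v := funext hcv
    refine congrArg Lib.Golay.puncture (Lib.Golay.puncture_injOn hv hmem ?_)
    have e : Lib.Golay.puncture (v - (W - Lib.Golay.word V)) =
        Lib.Golay.puncture (Lib.Golay.word V) - Lib.Golay.puncture (W - v) := by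
      funext x
      simp only [Lib.Golay.puncture, Pi.sub_apply]
      ring
    rw [e, ← hdn]
    refine (hammingDist_triangle _ 0 _).trans ?_
    rw [hammingDist_zero_right, hammingDist_zero_left, ← hdist,
      Lib.Golay.hammingNorm_puncture, Lib.Golay.support₂_word]
    omega

end Cfsg.Agent.S1637
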