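import Cfsg.Statements.S1638
import Mathlib
import Cfsg.Agent.Lib.Golay.Normal
import Cfsg.Agent.Lib.Golay.Steps.Pair
import Cfsg.Agent.Lib.Golay.Steps.PairSuborbit

set_option autoImplicit false
open scoped Pointwise
open Cfsg

namespace Cfsg.Agent.S1638

open Cfsg.Agent.Lib.Golay Cfsg.Agent.Lib.Golay.StepCert

/-- Fix two points p ≠ q and a pair s of two further points. Among the pairs avoiding p, q and disjoint from s, exactly 30 lie in an octad together with p, q and s and exactly 160 do not; and any two pairs other than s that meet s in equally many points and agree on that octad property are carried to one another by an element of the group of the length-24 code fixing p, q and s. -/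
theorem result (p q : Cfsg.GolayPt) (hpq : p ≠ q) (s : Finset Cfsg.GolayPt) (hs : (s.card = 2 ∧ p ∉ s ∧ q ∉ s)) : {t : Finset Cfsg.GolayPt | (t.card = 2 ∧ p ∉ t ∧ q ∉ t) ∧ Disjoint s t ∧ (∃ o ∈ Cfsg.octads, p ∈ o ∧ q ∈ o ∧ s ∪ t ⊆ o)}.ncard = 30 ∧ {t : Finset Cfsg.GolayPt | (t.card = 2 ∧ p ∉ t ∧ q ∉ t) ∧ Disjoint s t ∧ ¬ (∃ o ∈ Cfsg.octads, p ∈ o ∧ q ∈ o ∧ s ∪ t ⊆ o)}.ncard = 160 ∧ ∀ t t' : Finset Cfsg.GolayPt, (t.card = 2 ∧ p ∉ t ∧ q ∉ t) → (t'.card = 2 ∧ p ∉ t' ∧ q ∉ t') → t ≠ s → t' ≠ s → (s ∩ t).card = (s ∩ t').card → ((∃ o ∈ Cfsg.octads, p ∈ o ∧ q ∈ o ∧ s ∪ t ⊆ o) ↔ (∃ o ∈ Cfsg.octads, p ∈ o ∧ q ∈ o ∧ s ∪ t' ⊆ o)) → ∃ g : Equiv.Perm Cfsg.GolayPt, g ∈ Cfsg.M24 ∧ g p = p ∧ g q = q ∧ g • s = s ∧ g • t = t' := by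
  classical
  obtain ⟨g₀, hgp₀, hgq₀⟩ := Normal.to_pair hpq
  have hcand : ∀ g : ↥M24, g • p = pt 0 → g • q = pt 1 → ∀ t : Finset GolayPt,
      (t.card = 2 ∧ p ∉ t ∧ q ∉ t) → ∀ b : ℕ → Bool, (∀ m, ptsOf m = g • t → b m = true) →
      ∃ m ∈ pairMasks (fun m => m &&& 3 == 0 && b m), ptsOf m = g • t := by
    rintro g hgp hgq t ⟨ht, hpt, hqt⟩ b hb
    refine exists_pairMasks (by rw [Finset.card_smul_finset, ht]) fun m e => ?_
    have h0 : pt 0 ∉ ptsOf m := by rw [e]; exact fun hm => hpt ((Normal.smul_mem_smul hgp).mp hm)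
    have h1 : pt 1 ∉ ptsOf m := by rw [e]; exact fun hm => hqt ((Normal.smul_mem_smul hgq).mp hm)
    rw [ptsOf_mem_iff] at h0 h1
    rw [Bool.and_eq_true, beq_iff_eq]
    refine ⟨Nat.eq_of_testBit_eq fun i => ?_, hb m e⟩
    rw [Nat.testBit_land, Nat.zero_testBit]
    match i with
    | 0 => rw [show m.testBit 0 = false by simpa using h0, Bool.false_and]
    | 1 => rw [show m.testBit 1 = false by simpa using h1, Bool.false_and]
    | i + 2 =>
      have h3 : Nat.testBit 3 (i + 2) = false := Nat.testBit_eq_false_of_lt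
        (lt_of_lt_of_le (by norm_num : 3 < 2 ^ 2) (Nat.pow_le_pow_right (by norm_num) (by omega)))
      rw [h3, Bool.and_false]
  obtain ⟨m₀, hm₀, em₀⟩ := hcand g₀ hgp₀ hgq₀ s hs (fun _ => true) (fun _ _ => rfl)
  obtain ⟨g₁, hg₁, eg₁⟩ := Steps.Pair.step.to_root Steps.Pair.step_ok 12 Steps.Pair.step_roots
    (m := m₀) (by simpa [Steps.Pair.step, pairMasks] using hm₀)
  set g := g₁ * g₀ with hgdef
  have hgp : g • p = pt 0 := by
    rw [hgdef, mul_smul, hgp₀]; exact Normal.fix_first hg₁ (by decide)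
  have hgq : g • q = pt 1 := by
    rw [hgdef, mul_smul, hgq₀]; exact Normal.fix_second hg₁ (by decide)
  have hgs : g • s = ptsOf 12 := by rw [hgdef, mul_smul, ← em₀, eg₁]
  -- the octad property
  let O : Finset GolayPt → Prop := fun t =>
    ∃ o ∈ octads, p ∈ o ∧ q ∈ o ∧ s ∪ t ⊆ o
  let O₀ : Finset GolayPt → Prop := fun t =>
    ∃ o ∈ octads, pt 0 ∈ o ∧ pt 1 ∈ o ∧ ptsOf 12 ∪ t ⊆ o
  have hO : ∀ t, O t ↔ O₀ (g • t) := by
    intro t
    constructor
    · rintro ⟨o, ho, h0, h1, h2⟩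
      refine ⟨g • o, M24_octad g.2 ho, (Normal.smul_mem_smul hgp).mpr h0,
        (Normal.smul_mem_smul hgq).mpr h1, ?_⟩
      rw [← hgs, ← Finset.smul_finset_union, Finset.smul_finset_subset_smul_finset_iff]
      exact h2
    · rintro ⟨o, ho, h0, h1, h2⟩
      refine ⟨g⁻¹ • o, M24_octad (g⁻¹).2 ho, ?_, ?_, ?_⟩
      · rw [Finset.mem_inv_smul_finset_iff, hgp]; exact h0
      · rw [Finset.mem_inv_smul_finset_iff, hgq]; exact h1
      · rw [← hgs, ← Finset.smul_finset_union] at h2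
        rwa [Finset.subset_smul_finset_iff, inv_inv]
  let oB : ℕ → Bool := fun m => [15, 47, 271, 1183, 2639].any fun x =>
    popCount ((15 ||| m) &&& encode x) == popCount (15 ||| m)
  have hfive : ((List.range 4096).filter fun x => popCount (encode x) == 8 && encode x &&& 15 == 15) =
      [15, 47, 271, 1183, 2639] := by decide +kernel
  have h15 : ptsOf 15 = {pt 0} ∪ ({pt 1} ∪ ptsOf 12) := by
    rw [← Normal.ptsOf_one, ← Normal.ptsOf_two, ← ptsOf_lor, ← ptsOf_lor]; rfl
  have hsub : ∀ m e, popCount ((15 ||| m) &&& e) = popCount (15 ||| m) ↔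
      (pt 0 ∈ ptsOf e ∧ pt 1 ∈ ptsOf e ∧ ptsOf 12 ∪ ptsOf m ⊆ ptsOf e) := by
    intro m e
    have h : popCount ((15 ||| m) &&& e) = popCount (15 ||| m) ↔
        ptsOf (15 ||| m) ⊆ ptsOf e := by
      rw [← card_ptsOf, ← card_ptsOf, ptsOf_land, ← Finset.inter_eq_left]
      exact ⟨fun h => Finset.eq_of_subset_of_card_le Finset.inter_subset_left h.ge,
        fun h => by rw [h]⟩
    rw [h, ptsOf_lor, h15]
    simp only [Finset.union_subset_iff, Finset.singleton_subset_iff, and_assoc]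
  have hO₀ : ∀ m, O₀ (ptsOf m) ↔ oB m = true := by
    intro m
    simp only [oB, ← hfive, List.any_eq_true, List.mem_filter, List.mem_range, Bool.and_eq_true,
      beq_iff_eq, hsub]
    constructor
    · rintro ⟨o, ho, h⟩
      rw [mem_octads_iff] at ho
      obtain ⟨x, hx, rfl⟩ := ho.1.exists_eq
      refine ⟨x, ⟨hx, by rw [← card_ptsOf, ho.2], ?_⟩, h⟩
      refine ptsOf_injective (lt_of_le_of_lt Nat.and_le_right (by norm_num)) (by norm_num) ?_
      rw [ptsOf_land, Finset.inter_eq_right, h15]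
      simp only [Finset.union_subset_iff, Finset.singleton_subset_iff]
      exact ⟨h.1, h.2.1, Finset.union_subset_iff.mp h.2.2 |>.1⟩
    · rintro ⟨x, ⟨-, hc, -⟩, h⟩
      exact ⟨_, mem_octads_iff.mpr ⟨encode_isCodeSet x, by rw [card_ptsOf, hc]⟩, h⟩
  have hcount : ∀ (P : Finset GolayPt → Prop) (b : ℕ → Bool),
      (∀ m, P (g⁻¹ • ptsOf m) ↔ b m = true) →
      {t : Finset GolayPt | (t.card = 2 ∧ p ∉ t ∧ q ∉ t) ∧ P t}.ncard =
        ((pairMasks fun m => m &&& 3 == 0).filter b).toFinset.card := by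
    intro P b hb
    have hlt : ∀ m ∈ (pairMasks fun m => m &&& 3 == 0).filter b,
        m < 2 ^ 24 ∧ popCount m = 2 ∧ m.testBit 0 = false ∧ m.testBit 1 = false := by
      intro m hm
      have h := List.mem_of_mem_filter hm
      exact of_decide_eq_true (List.all_eq_true.mp (by decide +kernel :
        (pairMasks fun m => m &&& 3 == 0).all (fun m => decide (m < 2 ^ 24 ∧ popCount m = 2 ∧
          m.testBit 0 = false ∧ m.testBit 1 = false)) = true) m h)
    rw [← Finset.card_image_of_injOn (f := fun m => g⁻¹ • ptsOf m) (fun x hx y hy e => by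
      simp only [Finset.mem_coe, List.mem_toFinset] at hx hy
      exact ptsOf_injective (hlt x hx).1 (hlt y hy).1 (MulAction.injective g⁻¹ e)),
      ← Set.ncard_coe_finset]
    refine congrArg Set.ncard ?_
    ext t
    simp only [Set.mem_ofPred_eq, Finset.coe_image, Set.mem_image, Finset.mem_coe, List.mem_toFinset]
    constructor
    · rintro ⟨ht, hP⟩
      obtain ⟨m, hm, em⟩ := hcand g hgp hgq t ht b
        (fun m e => (hb m).mp (by rw [e, inv_smul_smul]; exact hP))
      obtain ⟨hm1, hm2⟩ := List.mem_filter.mp hm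
      rw [Bool.and_eq_true] at hm2
      exact ⟨m, List.mem_filter.mpr ⟨List.mem_filter.mpr ⟨hm1, hm2.1⟩, hm2.2⟩,
        by rw [em, inv_smul_smul]⟩
    · rintro ⟨m, hm, rfl⟩
      obtain ⟨-, hc, h0, h1⟩ := hlt m hm
      refine ⟨⟨by rw [Finset.card_smul_finset, card_ptsOf, hc], ?_, ?_⟩,
        (hb m).mpr (List.mem_filter.mp hm).2⟩
      · rw [Finset.mem_inv_smul_finset_iff, hgp, ptsOf_mem_iff]; simpa using h0
      · rw [Finset.mem_inv_smul_finset_iff, hgq, ptsOf_mem_iff]; simpa using h1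
  have hdisj : ∀ m, Disjoint s (g⁻¹ • ptsOf m) ↔ popCount (12 &&& m) = 0 := by
    intro m
    rw [Finset.disjoint_iff_inter_eq_empty, ← Finset.card_eq_zero, ← Normal.card_inter_smul g,
      smul_inv_smul, hgs, ← ptsOf_land, card_ptsOf]
  refine ⟨?_, ?_, ?_⟩
  · refine (hcount (fun t => Disjoint s t ∧ O t) (fun m => popCount (12 &&& m) == 0 && oB m)
      (fun m => ?_)).trans (by decide +kernel)
    rw [Bool.and_eq_true, beq_iff_eq, hdisj, hO, smul_inv_smul, hO₀]
  · refine (hcount (fun t => Disjoint s t ∧ ¬ O t) (fun m => popCount (12 &&& m) == 0 && !oB m)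
      (fun m => ?_)).trans (by decide +kernel)
    rw [Bool.and_eq_true, beq_iff_eq, hdisj, hO, smul_inv_smul, hO₀, Bool.not_eq_true',
      Bool.not_eq_true]
  intro t t' ht ht' hts ht's hcard hoct
  have hne : ∀ u : Finset GolayPt, u ≠ s → ∀ m, ptsOf m = g • u → (m != 12) = true := by
    intro u hu m e
    rw [bne_iff_ne]
    rintro rfl
    exact hu (MulAction.injective g (e.symm.trans hgs.symm))
  obtain ⟨a, ha, ea⟩ := hcand g hgp hgq t ht (fun m => m != 12) (hne t hts)
  obtain ⟨b, hb, eb⟩ := hcand g hgp hgq t' ht' (fun m => m != 12) (hne t' ht's)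
  have hinv : ∀ h : ↥M24, Fixes h [1, 2, 12] → ∀ x : Finset GolayPt,
      ((ptsOf 12 ∩ h • x).card, decide (O₀ (h • x))) = ((ptsOf 12 ∩ x).card, decide (O₀ x)) := by
    intro h hh x
    refine Prod.ext (Normal.inter_invariant (by decide) h hh x) (decide_eq_decide.mpr ?_)
    constructor
    · rintro ⟨o, ho, h0, h1, h2⟩
      refine ⟨h⁻¹ • o, M24_octad (h⁻¹).2 ho, ?_, ?_, ?_⟩
      · rw [Finset.mem_inv_smul_finset_iff, Normal.fix_first hh (by decide)]; exact h0
      · rw [Finset.mem_inv_smul_finset_iff, Normal.fix_second hh (by decide)]; exact h1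
      · rw [← hh 12 (by decide), ← Finset.smul_finset_union] at h2
        rwa [Finset.subset_smul_finset_iff, inv_inv]
    · rintro ⟨o, ho, h0, h1, h2⟩
      refine ⟨h • o, M24_octad h.2 ho, ?_, ?_, ?_⟩
      · rw [← Normal.fix_first hh (by decide)]; exact Finset.smul_mem_smul_finset h0
      · rw [← Normal.fix_second hh (by decide)]; exact Finset.smul_mem_smul_finset h1
      · rw [← hh 12 (by decide), ← Finset.smul_finset_union,
          Finset.smul_finset_subset_smul_finset_iff]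
        exact h2
  have hval : ∀ m, decide (O₀ (ptsOf m)) = oB m := fun m => by
    rw [Bool.eq_iff_iff, decide_eq_true_eq, hO₀]
  obtain ⟨k, hk, ek⟩ := Steps.PairSuborbit.step.same Steps.PairSuborbit.step_ok
    (fun x => ((ptsOf 12 ∩ x).card, decide (O₀ x))) hinv
    (by rw [Steps.PairSuborbit.step_roots]
        simp only [hval, ← ptsOf_land, card_ptsOf, List.map]
        decide +kernel)
    (a := a) (b := b) (by simp only [Steps.PairSuborbit.step]; exact ha) (by simp only [Steps.PairSuborbit.step]; exact hb)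
    (by
      refine Prod.ext ?_ (decide_eq_decide.mpr ?_)
      · show (ptsOf 12 ∩ ptsOf a).card = (ptsOf 12 ∩ ptsOf b).card
        rw [ea, eb, ← hgs, Normal.card_inter_smul, Normal.card_inter_smul, hcard]
      · rw [ea, eb, ← hO, ← hO]; exact hoct)
  refine ⟨((g⁻¹ * k * g : ↥M24) : Equiv.Perm GolayPt), (g⁻¹ * k * g).2, ?_, ?_, ?_, ?_⟩
  · exact Normal.conj_smul (X := GolayPt) (by rw [hgp]; exact Normal.fix_first hk (by decide))
  · exact Normal.conj_smul (X := GolayPt) (by rw [hgq]; exact Normal.fix_second hk (by decide))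
  · exact Normal.conj_smul (X := Finset GolayPt) (by rw [hgs]; exact hk 12 (by decide))
  · exact Normal.conj_smul (X := Finset GolayPt) (by rw [← ea, ek, eb])

end Cfsg.Agent.S1638
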