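import Cfsg.Statements.S1639
import Mathlib
import Cfsg.Agent.Lib.Golay.Normal
import Cfsg.Agent.Lib.Golay.Steps.DodecadThrough
import Cfsg.Agent.Lib.Golay.Steps.DodecadSuborbit

set_option autoImplicit false
open scoped Pointwise
open Cfsg

namespace Cfsg.Agent.S1639

open Cfsg.Agent.Lib.Golay Cfsg.Agent.Lib.Golay.StepCert

/-- The point stabiliser acts on the 1288 dodecads through the point with rank 4 and subdegrees 1, 165, 330, 792, distinguished by intersection 4, 8, 6 with the fixed dodecad. -/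
theorem result (x : Cfsg.GolayPt) (d : Finset Cfsg.GolayPt) (hd : d ∈ Cfsg.dodecads) (hx : x ∈ d) : {d' : Finset Cfsg.GolayPt | d' ∈ Cfsg.dodecads ∧ x ∈ d' ∧ (d ∩ d').card = 4}.ncard = 165 ∧ {d' : Finset Cfsg.GolayPt | d' ∈ Cfsg.dodecads ∧ x ∈ d' ∧ (d ∩ d').card = 8}.ncard = 330 ∧ {d' : Finset Cfsg.GolayPt | d' ∈ Cfsg.dodecads ∧ x ∈ d' ∧ (d ∩ d').card = 6}.ncard = 792 ∧ ∀ d' d'' : Finset Cfsg.GolayPt, d' ∈ Cfsg.dodecads → d'' ∈ Cfsg.dodecads → x ∈ d' → x ∈ d'' → (d ∩ d').card = (d ∩ d'').card → ∃ g : Equiv.Perm Cfsg.GolayPt, g ∈ Cfsg.M24 ∧ g x = x ∧ g • d = d ∧ g • d' = d'' := by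
  classical
  obtain ⟨g₀, hgx₀⟩ := Normal.to_first x
  have hcand : ∀ g : ↥M24, g • x = pt 0 → ∀ o : Finset GolayPt, o ∈ dodecads → x ∈ o →
      ∃ m ∈ codeCands 12 (fun m => m.testBit 0), ptsOf m = g • o := by
    intro g hgx o ho hxo
    have ho' := mem_dodecads_iff.mp (M24_dodecad g.2 ho)
    refine exists_codeCands ho'.1 ho'.2 fun m e => ?_
    have h0 : pt 0 ∈ ptsOf m := by
      rw [e]; exact (Normal.smul_mem_smul hgx).mpr hxo
    rw [ptsOf_mem_iff] at h0
    exact h0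
  obtain ⟨m₀, hm₀, em₀⟩ := hcand g₀ hgx₀ d hd hx
  obtain ⟨g₁, hg₁, eg₁⟩ := Steps.DodecadThrough.step.to_root Steps.DodecadThrough.step_ok 28637
    Steps.DodecadThrough.step_roots (m := m₀) (by simp only [Steps.DodecadThrough.step]; exact hm₀)
  set g := g₁ * g₀ with hgdef
  have hgx : g • x = pt 0 := by
    rw [hgdef, mul_smul, hgx₀]; exact Normal.fix_first hg₁ (by decide)
  have hgo : g • d = ptsOf 28637 := by rw [hgdef, mul_smul, ← em₀, eg₁]
  have hcount : ∀ k, {y : Finset GolayPt | y ∈ dodecads ∧ x ∈ y ∧ (d ∩ y).card = k}.ncard =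
      ((List.range 4096).filter fun y => popCount (encode y) == 12 &&
        ((encode y).testBit 0 && popCount (28637 &&& encode y) == k)).length := by
    intro k
    rw [← Normal.ncard_moved g (fun y => x ∈ y ∧ (d ∩ y).card = k)
      (fun y => pt 0 ∈ y ∧ (ptsOf 28637 ∩ y).card = k)
      (fun m => m.testBit 0 && popCount (28637 &&& m) == k)
      (fun y _ => by simp only [Normal.smul_mem_smul hgx, ← hgo, Normal.card_inter_smul])
      (fun m _ => by simp [ptsOf_mem_iff, ← ptsOf_land, card_ptsOf])]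
    simp only [mem_dodecads_iff]
  refine ⟨by rw [hcount]; decide +kernel, by rw [hcount]; decide +kernel, by rw [hcount]; decide +kernel, ?_⟩
  intro o' o'' ho' ho'' hx' hx'' h
  obtain ⟨a, ha, ea⟩ := hcand g hgx o' ho' hx'
  obtain ⟨b, hb, eb⟩ := hcand g hgx o'' ho'' hx''
  obtain ⟨k, hk, ek⟩ := Steps.DodecadSuborbit.step.same Steps.DodecadSuborbit.step_ok
    (fun y => (ptsOf 28637 ∩ y).card) (Normal.inter_invariant (by decide))
    (by rw [Steps.DodecadSuborbit.step_roots]; simp only [← ptsOf_land, card_ptsOf, List.map]; decide +kernel)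
    (a := a) (b := b) (by simp only [Steps.DodecadSuborbit.step]; exact ha) (by simp only [Steps.DodecadSuborbit.step]; exact hb) (by rw [ea, eb, ← hgo, Normal.card_inter_smul, Normal.card_inter_smul, h])
  refine ⟨((g⁻¹ * k * g : ↥M24) : Equiv.Perm GolayPt), (g⁻¹ * k * g).2, ?_, ?_, ?_⟩
  · exact Normal.conj_smul (X := GolayPt) (by rw [hgx]; exact Normal.fix_first hk (by decide))
  · exact Normal.conj_smul (X := Finset GolayPt) (by rw [hgo]; exact hk 28637 (by decide))
  · exact Normal.conj_smul (X := Finset GolayPt) (by rw [← ea, ek, eb])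

end Cfsg.Agent.S1639
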