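import Cfsg.Statements.S1645
import Cfsg.Agent.Lib.DoubleAlt12.Main
import Cfsg.Agent.Lib.DoubleAlt12.Move
import Cfsg.Agent.Lib.DoubleAlt12.Large
import Cfsg.Agent.Lib.DoubleAlt12.Twelve
import Cfsg.Agent.Lib.DoubleAlt12.ThreeCentral
import Cfsg.Agent.Lib.DoubleAlt12.InvBound
import Cfsg.Agent.Lib.DoubleAlt12.BigCore
import Cfsg.Agent.Lib.DoubleAlt12.Local
import Cfsg.Agent.Lib.DoubleAlt12.Nine
import Cfsg.Agent.Lib.DoubleAlt12.Ten
import Cfsg.Agent.Lib.DoubleAlt12.TenModel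

set_option autoImplicit false
open Cfsg

namespace Cfsg.Agent.S1645

/-- If some involution of a finite simple group has centraliser a non-split double cover of the alternating group of degree n ≥ 5, then n is 8 or 11 (the McLaughlin and Lyons cases). -/
theorem result {G : Type*} [Group G] [Finite G] [IsSimpleGroup G] (n : ℕ) (hn : 5 ≤ n) (z : G) (hz : orderOf z = 2) (hcov : Cfsg.IsNonsplitDoubleCover (Subgroup.centralizer ({z} : Set G)) (alternatingGroup (Fin n))) : n = 8 ∨ n = 11 := by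
  exact Cfsg.Agent.Lib.DoubleAlt12.degree_of (fun _ _ _ _ _ K h => K.exists_move h)
    Cfsg.Agent.Lib.DoubleAlt12.large Cfsg.Agent.Lib.DoubleAlt12.twelve
    (Cfsg.Agent.Lib.DoubleAlt12.threeCentral Cfsg.Agent.Lib.DoubleAlt12.invBound)
    Cfsg.Agent.Lib.DoubleAlt12.bigCore
    (Cfsg.Agent.Lib.DoubleAlt12.nine Cfsg.Agent.Lib.DoubleAlt12.localFacts)
    (Cfsg.Agent.Lib.DoubleAlt12.ten Cfsg.Agent.Lib.DoubleAlt12.localFacts Cfsg.Agent.Lib.DoubleAlt12.tenModel)
    n hn z hz hcov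

end Cfsg.Agent.S1645
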