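import Cfsg.Statements.S1663
import Cfsg.Agent.Lib.M22Order33.Main
import Cfsg.Agent.Lib.M22Nse57.Model
import Cfsg.Agent.Lib.M22Nse57.LocalA
import Cfsg.Agent.Lib.M22Nse57.Identify
import Cfsg.Agent.Lib.M22Nse57.GraphQuot
import Cfsg.Agent.Lib.M22Nse57.GraphIso
import Cfsg.Agent.Lib.M22Nse57.GraphCoords
import Cfsg.Agent.Lib.M22Nse57.GraphIndex

set_option autoImplicit false
open Cfsg

namespace Cfsg.Agent.S1663

/-- The Mathieu group of degree 22 is determined by its order: a finite simple group of order 443520 is isomorphic to the concrete M₂₂ (a two-point stabiliser in the group of the length-24 Golay code). -/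
theorem result {G : Type*} [Group G] [Finite G] (hG : Cfsg.IsM22 G) : Cfsg.Spor.IsoM22 G := by
  obtain ⟨hs, hcard⟩ := hG
  haveI := hs
  letI := Fintype.ofFinite G
  letI := Fintype.ofFinite (ConjClasses G)
  haveI : Fact (Nat.Prime 11) := ⟨by norm_num⟩
  haveI : Fact (Nat.Prime 7) := ⟨by norm_num⟩
  haveI : Fact (Nat.Prime 5) := ⟨by norm_num⟩
  have F : Lib.M22Nse57.Facts G := Lib.M22Order33.facts_of_card (by rw [hcard])
  obtain ⟨A, L⟩ := Lib.M22Nse57.exists_local F
  obtain ⟨S⟩ := Lib.M22Nse57.Graph.exists_seed F L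
  obtain ⟨π, hπ, hker⟩ := Lib.M22Nse57.Graph.exists_pi F L S
  let Q : Lib.M22Nse57.Graph.Quot A :=
    ⟨π, hπ, hker, Lib.M22Nse57.Graph.six_index, Lib.M22Nse57.Graph.six_order_eight⟩
  obtain ⟨sel, ⟨C⟩⟩ := Lib.M22Nse57.Graph.exists_coded F L S Q
  obtain ⟨hsel, φ, h0, hadj, hgroup⟩ := Lib.M22Nse57.Graph.exists_phi F L S Q C
  obtain ⟨H, hH⟩ := Lib.M22Nse57.Graph.exists_index_of_phi F L S Q C hsel φ h0 hadj hgroup
    (fun T hT => Lib.M22Nse57.Graph.norm_index F L S T hT)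
  exact Lib.M22Nse57.nonempty_mulEquiv_of_index F H hH

end Cfsg.Agent.S1663
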