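import Cfsg.Statements.S1669
import Cfsg.Agent.Lib.RuRankThree68.Main
import Cfsg.Agent.Lib.RuRankThree90.Iso
import Cfsg.Agent.Lib.RuRankThree90.IndexA
import Cfsg.Agent.Lib.RuRankThree90.IndexB

set_option autoImplicit false
open Cfsg

namespace Cfsg.Agent.S1669

/-- Recognition of the Rudvalis group as a rank 3 permutation group: a transitive permutation group on 4060 points in which the stabiliser of a point is isomorphic to the Ree group ²F₄(2) and has two further orbits, of sizes 1755 and 2304, is isomorphic to the Rudvalis group. -/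
theorem result {Ω : Type*} [Fintype Ω] [DecidableEq Ω] (hΩ : Fintype.card Ω = 4060) (G : Subgroup (Equiv.Perm Ω)) [MulAction.IsPretransitive G Ω] (a : Ω)  (e : MulAction.stabilizer G a ≃* Cfsg.Lie.twistedF4 (ZMod 2) 1) (b c : Ω) (hb : (MulAction.orbit (MulAction.stabilizer G a) b).ncard = 1755) (hc : (MulAction.orbit (MulAction.stabilizer G a) c).ncard = 2304) : Cfsg.Spor.IsoRu G := by
  refine Lib.RuRankThree68.isoRu_of hΩ G a (e.trans Lib.RuRankThree90.titsEquiv) b c hb hc ?_ ?_
  · intro X hX
    obtain ⟨k, hk⟩ := Lib.RuRankThree90.stab_1755 hX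
    exact ⟨_, fun f => by rw [hk]; exact Lib.RuRankThree90.mem_lineStabOf⟩
  · intro X hX
    obtain ⟨l, -, -, hl⟩ := Lib.RuRankThree90.stab_2304 hX
    exact ⟨l, fun f => by rw [hl]; exact Lib.RuRankThree90.mem_lineStabOf⟩

end Cfsg.Agent.S1669
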