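import Cfsg.Statements.S1681
import Mathlib
import Cfsg.Agent.Lib.CosetTable.Presentation
import Cfsg.Agent.Lib.CosetTable.Suz22880.Checked

set_option autoImplicit false
open Cfsg

open scoped Pointwise

namespace Cfsg.Agent.S1681

open Cfsg.Agent.Lib.CosetTable
open Cfsg.Spor

/-- the presentation with numbered generators -/
def pres : Pres Suz.Gen where
  k := 7
  gen n := [Suz.Gen.a, .b, .c, .d, .e, .f, .g].getD n .a
  idx
    | .a => 0 | .b => 1 | .c => 2 | .d => 3 | .e => 4 | .f => 5 | .g => 6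
  edges := Suz.edges
  extraE := [
    .mul (.of 0) (.inv (.pow (.mul (.of 2) (.of 3)) 4)),
    .mul (.of 0) (.inv (.pow (.mul (.of 5) (.of 6)) 2)),
    .pow (.mul (.mul (.mul (.of 0) (.of 1)) (.of 2)) (.of 5)) 5,
    .pow (.mul (.mul (.of 1) (.of 5)) (.of 6)) 5,
    .pow (.mul (.pow (.mul (.mul (.mul (.mul (.of 1) (.of 2)) (.of 3)) (.of 2)) (.of 3)) 5) (.of 4)) 3]
  subsE := [.of 0, .of 1, .of 2, .of 3, .of 5, .of 6]

theorem pres_good : pres.Good where
  gen_idx x := by cases x <;> rfl
  idx_lt x := by cases x <;> decide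
  idx_gen := by decide
  mem_nodes x := by cases x <;> decide

theorem certified :
    pres.Certified Suz.extra Suz22880.cert Suz22880.tab 111664 where
  good := pres_good
  extra_eq := rfl
  k_eq := rfl
  rels_eq := by decide +kernel
  subs_eq := by decide +kernel
  words := Suz22880.words_ok
  checked := Suz22880.checked

theorem gens_eq : {x | x ∈ pres.subsE.map (WExp.free pres.gen)} =
    ({Suz.a, Suz.b, Suz.c, Suz.d, Suz.f, Suz.g} : Set (FreeGroup Suz.Gen)) := by
  ext x
  simp only [pres, List.map_cons, List.map_nil, Set.mem_setOf_eq, List.mem_cons,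
    List.not_mem_nil, or_false, Set.mem_insert_iff, Set.mem_singleton_iff]
  rfl


/-- In the presented sporadic Suzuki group (generators a, …, g), the subgroup generated by the images of a, b, c, d, f, g has index 22880. -/
theorem result : (((Subgroup.closure ({Cfsg.Spor.Suz.a, Cfsg.Spor.Suz.b, Cfsg.Spor.Suz.c, Cfsg.Spor.Suz.d, Cfsg.Spor.Suz.f, Cfsg.Spor.Suz.g} : Set (FreeGroup Cfsg.Spor.Suz.Gen))).map (PresentedGroup.mk (Cfsg.Spor.coxRelators Cfsg.Spor.Suz.edges ∪ {r | r ∈ Cfsg.Spor.Suz.extra})))).index = 22880 := by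
  rw [← gens_eq]
  exact certified.index

end Cfsg.Agent.S1681
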