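import Cfsg.Statements.S1682
import Mathlib
import Cfsg.Agent.S0462

set_option autoImplicit false
open Cfsg

open scoped Pointwise

namespace Cfsg.Agent.S1682


open Cfsg.Agent.Lib.CosetTable
open Cfsg.Agent.Lib.Compute
open HeSp44
open Cfsg.Agent.S0462

/-- In the presented Held group, the subgroup H generated by the images of a, c, d, e, f, (ab)^2 and (bcde)^7 has a normal subgroup of index 2 isomorphic to the 4-dimensional symplectic group over a field with four elements. -/
theorem result : ∃ (N : Subgroup (((Subgroup.closure ({Cfsg.Spor.He.a, Cfsg.Spor.He.c, Cfsg.Spor.He.d, Cfsg.Spor.He.e, Cfsg.Spor.He.f, (Cfsg.Spor.He.a * Cfsg.Spor.He.b) ^ 2, (Cfsg.Spor.He.b * Cfsg.Spor.He.c * Cfsg.Spor.He.d * Cfsg.Spor.He.e) ^ 7} : Set (FreeGroup Cfsg.Spor.He.Gen))).map (PresentedGroup.mk (Cfsg.Spor.coxRelators Cfsg.Spor.He.edges ∪ {r | r ∈ Cfsg.Spor.He.extra}))))) (K : Type) (_ : Field K) (_ : Fintype K), N.Normal ∧ N.index = 2 ∧ Fintype.card K = 4 ∧ Nonempty (N ≃* Matrix.symplecticGroup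 (Fin 2) K) := by
  have D := S1683.certified
  obtain ⟨φ, hφ⟩ : ∃ φ : Cfsg.Spor.He →* Equiv.Perm (Fin He2058.tab.n),
      ∀ g, g < He2058.cert.k → φ (S1695.gn g) = He2058.checked.perm g :=
    Pres.exists_action D.good D.extra_eq D.k_eq D.rels_eq D.words D.checked
  have M := S1695.model_act
  have K := He2058.checked
  haveI : IsSimpleGroup Cfsg.Spor.He := S1695.result.1
  haveI : Finite Cfsg.Spor.He := Nat.finite_of_card_ne_zero (by rw [S1695.result.2]; norm_num)
  have hinj : Function.Injective φ := by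
    rcases φ.normal_ker.eq_bot_or_eq_top with h | h
    · exact (MonoidHom.ker_eq_bot_iff φ).mp h
    · exfalso
      obtain ⟨x, hx⟩ := Checked.exists_map_zero (f := S1695.gn) K φ hφ ⟨1, by decide +kernel⟩
      rw [show φ x = 1 from MonoidHom.mem_ker.mp (by rw [h]; trivial), Equiv.Perm.one_apply] at hx
      exact absurd (congrArg Fin.val hx) Nat.zero_ne_one
  rw [← S1683.gens_eq]
  show ∃ (N : Subgroup (S1683.pres.subgrp Cfsg.Spor.He.extra)) (K : Type) (_ : Field K)
    (_ : Fintype K), N.Normal ∧ N.index = 2 ∧ Fintype.card K = 4 ∧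
      Nonempty (N ≃* Matrix.symplecticGroup (Fin 2) K)
  suffices h : ∃ N : Subgroup (wordSubgroup S1695.gn He2058.cert.subs),
      N.Normal ∧ N.index = 2 ∧ Nonempty (N ≃* Matrix.symplecticGroup (Fin 2) K4) by
    rw [show S1683.pres.subgrp Cfsg.Spor.He.extra = wordSubgroup S1695.gn He2058.cert.subs from
      Pres.subgrp_eq D.good D.k_eq D.subs_eq D.words]
    obtain ⟨N, hn, hN, hN'⟩ := h
    exact ⟨N, K4, inferInstance, inferInstance, hn, hN, K4.card_eq, hN'⟩
  let subH : Subgroup Cfsg.Spor.He := wordSubgroup S1695.gn He2058.cert.subs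
  have hsub : Nat.card subH = 1958400 := by
    have h := subH.card_mul_index
    rw [show subH.index = He2058.tab.n from Checked.index_eq K M φ hφ, S1695.result.2] at h
    change Nat.card subH * 2058 = 4030387200 at h
    omega
  let T : Subgroup (Equiv.Perm (Fin He2058.tab.n)) := subH.map φ
  let eT : subH ≃* T := Subgroup.equivMapOfInjective _ _ hinj
  let gs : List (Equiv.Perm (Fin He2058.tab.n)) :=
    He2058.cert.subs.map fun w => φ (eval S1695.gn w)
  have hgs : ∀ g ∈ gs, g ∈ T := by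
    intro g hg
    obtain ⟨w, hw, rfl⟩ := List.mem_map.1 hg
    exact ⟨_, Subgroup.subset_closure ⟨w, hw, rfl⟩, rfl⟩
  have hacts : ActsBy 8 (fun j : Fin 136 => (⟨orbPt j, orbPt_lt j⟩ : Fin He2058.tab.n)) gs
      stabGens := by
    refine ⟨by rw [List.length_map, subs_length.1, subs_length.2.1], fun k g p hg hp j => ?_⟩
    obtain ⟨hk, rfl⟩ := List.getElem?_eq_some_iff.1 hg
    obtain ⟨hk', rfl⟩ := List.getElem?_eq_some_iff.1 hp
    obtain ⟨hlt, he⟩ := stab_acts ⟨k, lt_of_lt_of_eq hk' subs_length.2.1⟩ j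
    have hks : k < He2058.cert.subs.length :=
      lt_of_lt_of_eq (lt_of_lt_of_eq hk' subs_length.2.1) subs_length.1.symm
    simp only [List.getD_eq_getElem _ _ hk', List.getD_eq_getElem _ _ hks] at hlt he
    have hl := M.subs_lt _ (List.getElem_mem hks)
    refine ⟨hlt, Fin.ext ?_⟩
    show ((gs[k] : Equiv.Perm _) _).val = _
    have e : gs[k] = φ (eval S1695.gn He2058.cert.subs[k]) := List.getElem_map _
    refine (congrArg Fin.val (DFunLike.congr_fun e _)).trans ?_
    rw [Checked.map_eval K M φ hφ hl, K.eval_perm hl]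
    exact he
  haveI : Finite T := Finite.of_equiv _ eT.toEquiv
  obtain ⟨e⟩ := nonempty_mulEquiv_genGroup h8 T
    (fun j : Fin 136 => (⟨orbPt j, orbPt_lt j⟩ : Fin He2058.tab.n))
    (fun i j h => orbPt_inj i j (congrArg Fin.val h)) gs hgs stab_ok hacts
    (by rw [← Nat.card_congr eT.toEquiv, hsub, card_stab])
  obtain ⟨N, hN, hN'⟩ := exists_subgroup _ (eT.trans e)
  exact ⟨N, Subgroup.normal_of_index_eq_two hN, hN, hN'⟩

end Cfsg.Agent.S1682
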