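import Cfsg.Statements.S1684
import Mathlib
import Cfsg.Agent.S0471

set_option autoImplicit false
open Cfsg

open scoped Pointwise

namespace Cfsg.Agent.S1684


open Cfsg.Agent.Lib.CosetTable
open Cfsg.Agent.Lib.Compute
open Cfsg.Agent.S0471

theorem double_cover {φ : Cfsg.Spor.Fi22 →* Equiv.Perm (Fin Fi22a.tab.n)}
    (hφ : ∀ g, g < Fi22a.cert.k → φ (gn g) = Fi22a.checked.perm g) :
    Cfsg.IsNonsplitDoubleCover subH (Cfsg.PSU 6 HeSp44.K4 2) := by
  have M := S1696.model_act
  have K := Fi22a.checked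
  haveI : IsSimpleGroup Cfsg.Spor.Fi22 := S1696.result.1
  haveI : Finite Cfsg.Spor.Fi22 := Nat.finite_of_card_ne_zero (by rw [S1696.result.2]; norm_num)
  have hinj : Function.Injective φ := by
    rcases φ.normal_ker.eq_bot_or_eq_top with h | h
    · exact (MonoidHom.ker_eq_bot_iff φ).mp h
    · exfalso
      obtain ⟨x, hx⟩ := Checked.exists_map_zero (f := gn) K φ hφ ⟨1, by decide +kernel⟩
      rw [show φ x = 1 from MonoidHom.mem_ker.mp (by rw [h]; trivial), Equiv.Perm.one_apply] at hx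
      exact absurd (congrArg Fin.val hx) Nat.zero_ne_one
  have h9 : Fi22a.cert.k = 9 := by decide +kernel
  have hidx : subH.index = 3510 := by
    rw [Checked.index_eq K M φ hφ]; rfl
  have hcard : Nat.card subH = 18393661440 := by
    have h := subH.card_mul_index
    rw [hidx, S1696.result.2] at h
    exact Nat.eq_of_mul_eq_mul_right (show 0 < 3510 by norm_num) (h.trans (by norm_num))
  have hcomm : ∀ x ∈ subH, x * aG = aG * x := by
    intro x hx
    refine (Subgroup.mem_centralizer_singleton_iff.mp ?_)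
    refine (Subgroup.closure_le _).2 ?_ hx
    rintro _ ⟨w, hw, rfl⟩
    refine Subgroup.mem_centralizer_singleton_iff.mpr ?_
    have hl : ∀ a ∈ w, a < 9 := M.subs_lt w hw
    have h := eq_one_of_fix hφ hinj subs_comm (List.mem_map.mpr ⟨w, hw, rfl⟩) (by
      intro a ha
      simp only [List.mem_append, List.mem_reverse, List.mem_singleton] at ha
      rcases ha with ((h | h) | h) | h
      · exact hl a h
      · omega
      · exact hl a h
      · omega)
    simp only [eval_append, eval_rev gn_sq w hl, eval, one_mul] at h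
    have hai : aG⁻¹ = aG := inv_eq_of_mul_eq_one_right (gn_sq 0 (by norm_num))
    have h3 := congrArg (fun z => eval gn w * (aG⁻¹ * z)) h
    simp only [mul_one, inv_mul_cancel_left, mul_inv_cancel_left] at h3
    rw [hai] at h3
    exact h3.symm
  have ha : aG ∈ subH := mem_subH hφ (by
    rw [hφ 0 (by omega), Checked.perm_apply _ (by omega)]
    decide +kernel)
  have hnc : gn 1 * aG ≠ aG * gn 1 := by
    intro h
    have h2 := congrArg (fun z => (φ z ⟨0, K.pos⟩).val) h
    simp only [map_mul, Equiv.Perm.mul_apply, hφ 0 (by omega), hφ 1 (by omega),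
      Checked.perm_apply _ (show 0 < Fi22a.cert.k by omega),
      Checked.perm_apply _ (show 1 < Fi22a.cert.k by omega)] at h2
    exact absurd h2 (by decide +kernel)
  have ha1 : aG ≠ 1 := fun h => hnc (by rw [h, mul_one, one_mul])
  exact exists_equiv hφ hinj hcard ha ha1 hcomm

/-- In the presented Fischer group Fi₂₂, the subgroup generated by the images of a, c, d, e, f, g, h, i and (abcdeh)^5 is a non-split double cover of PSU(6, 2) (realised over a field with four elements). -/
theorem result : ∃ (K : Type) (_ : Field K) (_ : Fintype K), Fintype.card K = 4 ∧ Cfsg.IsNonsplitDoubleCover (((Subgroup.closure ({Cfsg.Spor.Fi22.a, Cfsg.Spor.Fi22.c, Cfsg.Spor.Fi22.d, Cfsg.Spor.Fi22.e, Cfsg.Spor.Fi22.f, Cfsg.Spor.Fi22.g, Cfsg.Spor.Fi22.h, Cfsg.Spor.Fi22.i, (Cfsg.Spor.Fi22.a * Cfsg.Spor.Fi22.b * Cfsg.Spor.Fi22.c * Cfsg.Spor.Fi22.d * Cfsg.Spor.Fi22.e * Cfsg.Spor.Fi22.h) ^ 5} : Set (FreeGroup Cfsg.Spor.Fi22.Gen))).map (PresentedGroup.mk (Cfsg.Spor.coxRelators Cfsg.Spor.Fi22.edges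 ∪ {r | r ∈ Cfsg.Spor.Fi22.extra})))) (Cfsg.PSU 6 K 2) := by
  have D := S1687.certified
  obtain ⟨φ, hφ⟩ : ∃ φ : Cfsg.Spor.Fi22 →* Equiv.Perm (Fin Fi22a.tab.n),
      ∀ g, g < Fi22a.cert.k → φ (S0471.gn g) = Fi22a.checked.perm g :=
    Pres.exists_action D.good D.extra_eq D.k_eq D.rels_eq D.words D.checked
  refine ⟨HeSp44.K4, inferInstance, inferInstance, HeSp44.K4.card_eq, ?_⟩
  rw [← S1687.gens_eq]
  show Cfsg.IsNonsplitDoubleCover (S1687.pres.subgrp Cfsg.Spor.Fi22.extra) _
  rw [show S1687.pres.subgrp Cfsg.Spor.Fi22.extra = S0471.subH from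
    Pres.subgrp_eq D.good D.k_eq D.subs_eq D.words]
  exact double_cover hφ

end Cfsg.Agent.S1684
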