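import Cfsg.Statements.S1690
import Mathlib
import Cfsg.Agent.Lib.CosetTable.Lanes.Fi24.Cosets

set_option autoImplicit false
open Cfsg

open scoped Pointwise

namespace Cfsg.Agent.S1690

open Cfsg.Agent.Lib.CosetTable.Lanes

theorem subgroup_eq : ((Subgroup.closure ({Cfsg.Spor.Fi24.a, Cfsg.Spor.Fi24.b, Cfsg.Spor.Fi24.c, Cfsg.Spor.Fi24.d, Cfsg.Spor.Fi24.e, Cfsg.Spor.Fi24.f, Cfsg.Spor.Fi24.g, Cfsg.Spor.Fi24.h, Cfsg.Spor.Fi24.i, Cfsg.Spor.Fi24.j, Cfsg.Spor.Fi24.l} : Set (FreeGroup Cfsg.Spor.Fi24.Gen))).map (PresentedGroup.mk (Cfsg.Spor.coxRelators Cfsg.Spor.Fi24.edges ∪ {r | r ∈ Cfsg.Spor.Fi24.extra}))) = Fi24.sub := by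
  rw [MonoidHom.map_closure, Fi24.sub]
  congr 1
  ext x
  constructor
  · rintro ⟨w, hw, rfl⟩
    simp only [Set.mem_insert_iff, Set.mem_singleton_iff] at hw
    rcases hw with rfl | rfl | rfl | rfl | rfl | rfl | rfl | rfl | rfl | rfl | rfl
    exacts [⟨2, by decide, rfl⟩, ⟨3, by decide, rfl⟩, ⟨4, by decide, rfl⟩, ⟨5, by decide, rfl⟩,
      ⟨6, by decide, rfl⟩, ⟨7, by decide, rfl⟩, ⟨8, by decide, rfl⟩, ⟨10, by decide, rfl⟩,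
      ⟨11, by decide, rfl⟩, ⟨9, by decide, rfl⟩, ⟨0, by decide, rfl⟩]
  · rintro ⟨g, ⟨hg, h1⟩, rfl⟩
    refine ⟨FreeGroup.of (Fi24.genOf g), ?_, rfl⟩
    rcases g with _ | _ | _ | _ | _ | _ | _ | _ | _ | _ | _ | _ | g <;> first | omega | simp [Fi24.genOf]

/-- In the presented group Fi₂₄ = Fi₂₄′:2, the subgroup generated by the images of a, b, c, d, e, f, g, h, i, j and l (every generator but k) has index 306936. -/
theorem result : (((Subgroup.closure ({Cfsg.Spor.Fi24.a, Cfsg.Spor.Fi24.b, Cfsg.Spor.Fi24.c, Cfsg.Spor.Fi24.d, Cfsg.Spor.Fi24.e, Cfsg.Spor.Fi24.f, Cfsg.Spor.Fi24.g, Cfsg.Spor.Fi24.h, Cfsg.Spor.Fi24.i, Cfsg.Spor.Fi24.j, Cfsg.Spor.Fi24.l} : Set (FreeGroup Cfsg.Spor.Fi24.Gen))).map (PresentedGroup.mk (Cfsg.Spor.coxRelators Cfsg.Spor.Fi24.edges ∪ {r | r ∈ Cfsg.Spor.Fi24.extra})))).index = 306936 := by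
  rw [subgroup_eq]
  exact Fi24.index_sub

end Cfsg.Agent.S1690
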