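import Cfsg.Statements.S1691
import Mathlib

set_option autoImplicit false
open Cfsg

open scoped Pointwise

namespace Cfsg.Agent.S1691

/-- The commutator subgroup of the presented group Fi₂₄ has index 2 (the presented group is Fi₂₄′:2 with Fi₂₄′ its derived subgroup). -/
theorem result : (commutator Cfsg.Spor.Fi24).index = 2 := by
  classical
  have hspec : ∀ r ∈ Cfsg.Spor.coxRelators Cfsg.Spor.Fi24.edges ∪ {r | r ∈ Cfsg.Spor.Fi24.extra},
      FreeGroup.lift (fun _ : Cfsg.Spor.Fi24.Gen => Multiplicative.ofAdd (1 : ZMod 2)) r = 1 := by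
    have hsq : Multiplicative.ofAdd (1 : ZMod 2) * Multiplicative.ofAdd (1 : ZMod 2) = 1 := by decide
    rintro r (⟨x, -, y, -, rfl⟩ | hr)
    · simp only [map_pow, map_mul, FreeGroup.lift_apply_of, hsq, one_pow]
    · simp only [Cfsg.Spor.Fi24.extra, List.mem_cons, List.not_mem_nil, or_false, Set.mem_setOf_eq] at hr
      rcases hr with rfl | rfl <;> simp only [map_pow, map_mul, map_inv, FreeGroup.lift_apply_of] <;> decide
  let φ : Cfsg.Spor.Fi24 →* Multiplicative (ZMod 2) := PresentedGroup.toGroup hspec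
  let q : Cfsg.Spor.Fi24.Gen → Abelianization Cfsg.Spor.Fi24 := fun x => Abelianization.of (PresentedGroup.of x)
  have hnode : ∀ x : Cfsg.Spor.Fi24.Gen, x ∈ Cfsg.Spor.coxNodes Cfsg.Spor.Fi24.edges := by
    intro x; cases x <;> decide
  have hrel : ∀ x y, (q x * q y) ^ Cfsg.Spor.coxLabel Cfsg.Spor.Fi24.edges x y = 1 := by
    intro x y
    have : PresentedGroup.mk (Cfsg.Spor.coxRelators Cfsg.Spor.Fi24.edges ∪ {r | r ∈ Cfsg.Spor.Fi24.extra})
        ((FreeGroup.of x * FreeGroup.of y) ^ Cfsg.Spor.coxLabel Cfsg.Spor.Fi24.edges x y) = 1 :=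
      PresentedGroup.one_of_mem (Or.inl ⟨x, hnode x, y, hnode y, rfl⟩)
    have h' := congrArg Abelianization.of this
    simpa [q, map_pow, map_mul, PresentedGroup.of] using h'
  have h2 : ∀ x, q x * q x = 1 := by
    intro x
    have := hrel x x
    have hl : Cfsg.Spor.coxLabel Cfsg.Spor.Fi24.edges x x = 1 := by cases x <;> decide
    rw [hl, pow_one] at this; exact this
  have h3 : ∀ x y, Cfsg.Spor.coxLabel Cfsg.Spor.Fi24.edges x y = 3 → q x = q y := by
    intro x y hl
    have h := hrel x y
    rw [hl] at h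
    have h' : (q x * q y) ^ 2 = 1 := by rw [mul_pow, sq, sq, h2, h2, one_mul]
    rw [pow_succ, h', one_mul] at h
    calc q x = q x * (q y * q y) := by rw [h2, mul_one]
      _ = q y := by rw [← mul_assoc, h, one_mul]
  have hall : ∀ x, q x = q .a := by
    have e1 := h3 .l .k (by decide)
    have e2 := h3 .k .a (by decide)
    have e3 := h3 .a .b (by decide)
    have e4 := h3 .b .c (by decide)
    have e5 := h3 .c .d (by decide)
    have e6 := h3 .d .e (by decide)
    have e7 := h3 .d .h (by decide)
    have e8 := h3 .e .f (by decide)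
    have e9 := h3 .f .g (by decide)
    have e10 := h3 .g .j (by decide)
    have e11 := h3 .h .i (by decide)
    intro x; cases x <;> simp only [e1, e2, ← e11, ← e10, ← e9, ← e8, ← e7, ← e6, ← e5, ← e4, ← e3]
  have htop : Subgroup.zpowers (q .a) = ⊤ := by
    rw [eq_top_iff]; intro y _
    obtain ⟨g, rfl⟩ := QuotientGroup.mk_surjective y
    have hg : g ∈ Subgroup.comap Abelianization.of (Subgroup.zpowers (q .a)) := by
      refine (show Subgroup.closure (Set.range PresentedGroup.of) ≤ _ from ?_) (by rw [PresentedGroup.closure_range_of]; trivial)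
      rw [Subgroup.closure_le]
      rintro _ ⟨x, rfl⟩
      show q x ∈ Subgroup.zpowers (q .a)
      rw [hall x]; exact Subgroup.mem_zpowers _
    exact hg
  have hord : orderOf (q .a) = 2 := by
    refine orderOf_eq_prime (by rw [sq]; exact h2 _) ?_
    intro h
    have h' := congrArg (Abelianization.lift φ) h
    simp [q, φ, Abelianization.lift_apply_of] at h'
  show Nat.card (Abelianization Cfsg.Spor.Fi24) = 2
  rw [← Subgroup.card_top (G := Abelianization Cfsg.Spor.Fi24), ← htop, Nat.card_zpowers, hord]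

end Cfsg.Agent.S1691
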