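import Cfsg.Statements.S1693
import Mathlib
import Cfsg.Agent.Lib.CosetTable.ONPres.Order
import Cfsg.Agent.Lib.CosetTable.ONPres.Sub
import Cfsg.Agent.Lib.CosetTable.ONSimple.OK

set_option autoImplicit false
open Cfsg

open scoped Pointwise

namespace Cfsg.Agent.S1693

open Cfsg.Agent.Lib.CosetTable

/-- In the presented O'Nan group, the subgroup H generated by the images of a, …, f has a normal subgroup of index 2 isomorphic to PSL(3, 7). -/
theorem result : ∃ N : Subgroup (((Subgroup.closure ({Cfsg.Spor.ON.a, Cfsg.Spor.ON.b, Cfsg.Spor.ON.c, Cfsg.Spor.ON.d, Cfsg.Spor.ON.e, Cfsg.Spor.ON.f} : Set (FreeGroup Cfsg.Spor.ON.Gen))).map (PresentedGroup.mk (Cfsg.Spor.coxRelators Cfsg.Spor.ON.edges ∪ {r | r ∈ Cfsg.Spor.ON.extra})))), N.Normal ∧ N.index = 2 ∧ Nonempty (N ≃* Matrix.ProjectiveSpecialLinearGroup (Fin 3) (ZMod 7)) := by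
  have hxe := ONPres.subgroup_eq
  set H := ((Subgroup.closure ({Cfsg.Spor.ON.a, Cfsg.Spor.ON.b, Cfsg.Spor.ON.c, Cfsg.Spor.ON.d,
      Cfsg.Spor.ON.e, Cfsg.Spor.ON.f} : Set (FreeGroup Cfsg.Spor.ON.Gen))).map
        (PresentedGroup.mk (Cfsg.Spor.coxRelators Cfsg.Spor.ON.edges ∪
          {r | r ∈ Cfsg.Spor.ON.extra}))) with hH
  obtain ⟨θ, hθ⟩ := ONPres.lift6 (fun i : Fin 6 => ONPres.gn i.val)
    (fun i j => by
      have key : ∀ i j : Fin 6, Cfsg.Spor.coxLabel ONPres.pres6.edges i j = ONPres.lab i.val j.val := by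
        decide +kernel
      rw [key]; exact ONPres.gn_invol.cox i j i.isLt j.isLt)
    (mul_inv_eq_one.mpr ONPres.gn_invol.z)
  have hrange : θ.range = H := by
    rw [hxe, MonoidHom.range_eq_map, ← PresentedGroup.closure_range_of, MonoidHom.map_closure,
      wordSubgroup]
    congr 1
    ext y
    simp only [Set.mem_image, Set.mem_range, Set.mem_setOf_eq, List.mem_cons, List.not_mem_nil,
      or_false, exists_exists_eq_and, hθ]
    constructor
    · rintro ⟨i, rfl⟩
      refine ⟨[i.val], ?_, one_mul _⟩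
      fin_cases i <;> simp
    · rintro ⟨w, rfl | rfl | rfl | rfl | rfl | rfl, rfl⟩
      exacts [⟨0, (one_mul _).symm⟩, ⟨1, (one_mul _).symm⟩, ⟨2, (one_mul _).symm⟩,
        ⟨3, (one_mul _).symm⟩, ⟨4, (one_mul _).symm⟩, ⟨5, (one_mul _).symm⟩]
  obtain ⟨hfin, hle⟩ := ONPres.card_P6_le
  haveI := hfin
  obtain ⟨φ, hφ⟩ := ONPres.exists_action
  have hon := (ON122760.checked.natCard_eq ONPres.model_top φ hφ ONPres.order_le ONSimple.levels
    ONSimple.levels_ok ONSimple.levels_card).1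
  have hidx : H.index = 122760 := by
    rw [hxe, ← ONPres.subs_eq, ON122760.checked.index_eq ONPres.model_top φ hφ]
    rfl
  have hcard : Nat.card H = 3753792 := by
    have h := Subgroup.index_mul_card H
    rw [hidx, hon] at h
    omega
  let θ' : ONPres.P6 →* H := θ.codRestrict H fun x => hrange ▸ ⟨x, rfl⟩
  have hsurj : Function.Surjective θ' := by
    rintro ⟨y, hy⟩
    rw [← hrange] at hy
    obtain ⟨x, rfl⟩ := hy
    exact ⟨x, rfl⟩
  have hbij : Function.Bijective θ' := by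
    rw [Nat.bijective_iff_surjective_and_card]
    refine ⟨hsurj, le_antisymm ?_ (Nat.card_le_card_of_surjective _ hsurj)⟩
    rw [hcard]; exact hle
  obtain ⟨K, hK, hKi, ⟨e⟩⟩ := ONPres.exists_psl
  refine ⟨K.map θ', hK.map θ' hsurj, ?_, ⟨?_⟩⟩
  · rw [Subgroup.index_map_equiv K (MulEquiv.ofBijective θ' hbij) |>.symm.trans rfl] at *
    exact hKi
  · exact (K.equivMapOfInjective θ' hbij.1).symm.trans e

end Cfsg.Agent.S1693
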