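import Cfsg.Statements.S1708
import Cfsg.Agent.Lib.HN3.HOrder
import Cfsg.Agent.Lib.HN3.HS64Transfer
import Cfsg.Agent.Lib.HN3.Main

set_option autoImplicit false
open Cfsg

namespace Cfsg.Agent.S1708

/-- In the presented Harada–Norton group, the subgroup N generated by the images of x, y, z has a normal subgroup of index 2 which is a non-split double cover of the Higman–Sims group. -/
theorem result : ∃ K : Subgroup (((Subgroup.closure ({Cfsg.Spor.HN.x, Cfsg.Spor.HN.y, Cfsg.Spor.HN.z} : Set (FreeGroup Cfsg.Spor.HN.Gen))).map (PresentedGroup.mk (Cfsg.Spor.coxRelators Cfsg.Spor.HN.edges ∪ {r | r ∈ Cfsg.Spor.HN.extra})))), K.Normal ∧ K.index = 2 ∧ Cfsg.IsNonsplitDoubleCover K Cfsg.Spor.HS := by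
  have e : Subgroup.map
      (PresentedGroup.mk (Cfsg.Spor.coxRelators Cfsg.Spor.HN.edges ∪
        {r | r ∈ Cfsg.Spor.HN.extra}))
      (Subgroup.closure ({Cfsg.Spor.HN.x, Cfsg.Spor.HN.y, Cfsg.Spor.HN.z} :
        Set (FreeGroup Cfsg.Spor.HN.Gen))) =
      Subgroup.closure ({Agent.Lib.HN3.hnGen .x, Agent.Lib.HN3.hnGen .y,
        Agent.Lib.HN3.hnGen .z} : Set Cfsg.Spor.HN) := by
    rw [MonoidHom.map_closure, Set.image_insert_eq, Set.image_insert_eq, Set.image_singleton]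
    rfl
  rw [e]
  exact Agent.Lib.HN3.HS64.double_cover_of_card Agent.Lib.HN3.hBound Agent.Lib.HN3.hn_hRel
    (Agent.Lib.HN3.hn_facts Agent.Lib.HN3.hBound).2.1.ge

end Cfsg.Agent.S1708
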