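import Cfsg.Statements.S1711
import Mathlib
import Cfsg.Agent.Lib.M24Pres72.Pres
import Cfsg.Agent.Lib.J4Rep72.Rep

set_option autoImplicit false
open Cfsg

namespace Cfsg.Agent.S1711

open Cfsg.Agent.Lib

/-- generators of `J₄` -/
def gen (g : Cfsg.Spor.J4.Gen) : Cfsg.Spor.J4 := PresentedGroup.of g

theorem gen_rel (e : J4Rep72.Exp) (he : e ∈ J4Rep72.exps) (hx : gen .x * gen .x = 1)
    (ht : gen .t * gen .t = 1) : (e.word.map (J4Rep72.letVal gen)).prod = 1 := by
  rw [← J4Rep72.lift_free hx ht e]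
  have hm : e.free ∈ Cfsg.Spor.coxRelators Cfsg.Spor.J4.edges ∪ {r | r ∈ Cfsg.Spor.J4.extra} :=
    Or.inr (show e.free ∈ Cfsg.Spor.J4.extra by
      rw [J4Rep72.extra_eq]; exact List.mem_map.2 ⟨e, he, rfl⟩)
  have h := PresentedGroup.one_of_mem hm
  have hl : FreeGroup.lift gen = PresentedGroup.mk _ := by
    refine FreeGroup.ext_hom _ _ fun a => ?_
    rw [FreeGroup.lift_apply_of]
    rfl
  rw [hl]
  exact h

theorem sq (g : Cfsg.Spor.J4.Gen) (hg : g ≠ .y) : gen g * gen g = 1 := by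
  have hm : (FreeGroup.of g) ^ 2 ∈ Cfsg.Spor.coxRelators Cfsg.Spor.J4.edges ∪
      {r | r ∈ Cfsg.Spor.J4.extra} := Or.inr (by cases g <;> simp_all [Cfsg.Spor.J4.extra])
  have h := PresentedGroup.one_of_mem hm
  rw [map_pow, pow_two] at h
  exact h

theorem relW_words : ∀ w ∈ M24Pres72.relW, w ∈ J4Rep72.exps.map J4Rep72.Exp.word := by
  decide +kernel

/-- generators of the subgroup -/
def gen2 : Fin 2 → Cfsg.Spor.J4 := ![gen .x, gen .y]

theorem gen2_rel : ∀ r ∈ M24Pres72.relSet, FreeGroup.lift gen2 r = 1 := by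
  intro r hr
  obtain ⟨w, hw, rfl⟩ := List.mem_map.1 hr
  rw [M24Pres72.freeW, M24Pres72.map_plain]
  simp only [FreeGroup.lift_apply_of, gen2, Matrix.cons_val_zero, Matrix.cons_val_one]
  obtain ⟨e, he, hew⟩ := List.mem_map.1 (relW_words w hw)
  have h := gen_rel e he (sq _ (by simp)) (sq _ (by simp))
  rw [hew] at h
  refine Eq.trans ?_ h
  unfold M24Pres72.plainVal M24Pres72.wordVal
  congr 1
  refine List.map_congr_left fun l hl => ?_
  have := M24Pres72.plain_lt w (List.mem_append_left _ hw) l hl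
  interval_cases l <;> rfl

/-- the map from the presented group of `M₂₄` -/
noncomputable def toJ4 : M24Pres72.Pres →* Cfsg.Spor.J4 :=
  PresentedGroup.toGroup (f := gen2) gen2_rel

theorem toJ4_injective : Function.Injective toJ4 := by
  haveI : IsSimpleGroup ↥Cfsg.M24 := Golay.isSimpleGroup_M24
  haveI : Nontrivial M24Pres72.Pres :=
    M24Pres72.presEquiv.toEquiv.nontrivial
  haveI : IsSimpleGroup M24Pres72.Pres :=
    IsSimpleGroup.isSimpleGroup_of_surjective M24Pres72.presEquiv.symm.toMonoidHom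
      M24Pres72.presEquiv.symm.surjective
  rw [← MonoidHom.ker_eq_bot_iff]
  refine (Subgroup.Normal.eq_bot_or_eq_top (MonoidHom.normal_ker toJ4)).resolve_right fun h => ?_
  refine J4Rep72.x_ne_one ?_
  have hA : M24Pres72.genA ∈ toJ4.ker := h ▸ Subgroup.mem_top _
  rw [MonoidHom.mem_ker, toJ4, M24Pres72.genA, PresentedGroup.toGroup.of] at hA
  exact hA

theorem toJ4_range : toJ4.range = (Subgroup.closure ({Cfsg.Spor.J4.x, Cfsg.Spor.J4.y} : Set (FreeGroup Cfsg.Spor.J4.Gen))).map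
    (PresentedGroup.mk (Cfsg.Spor.coxRelators Cfsg.Spor.J4.edges ∪ {r | r ∈ Cfsg.Spor.J4.extra})) := by
  rw [MonoidHom.range_eq_map, ← M24Pres72.model.gen, MonoidHom.map_closure, MonoidHom.map_closure,
    Set.image_pair, Set.image_pair]
  congr 1

/-- In the presented fourth Janko group (generators x, y, t), the subgroup generated by the images of x and y is isomorphic to the Mathieu group M₂₄. -/
theorem result : Nonempty ((((Subgroup.closure ({Cfsg.Spor.J4.x, Cfsg.Spor.J4.y} : Set (FreeGroup Cfsg.Spor.J4.Gen))).map (PresentedGroup.mk (Cfsg.Spor.coxRelators Cfsg.Spor.J4.edges ∪ {r | r ∈ Cfsg.Spor.J4.extra})))) ≃* Cfsg.M24) := by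
  exact ⟨(((MonoidHom.ofInjective toJ4_injective).trans (MulEquiv.subgroupCongr toJ4_range)).symm).trans
    M24Pres72.presEquiv⟩

end Cfsg.Agent.S1711
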