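import Cfsg.Statements.S5377
import Cfsg.Agent.Lib.Fischer3T60.Recog.Iso
-- import your own Cfsg.Agent.* helpers here

set_option autoImplicit false
open Cfsg

namespace Cfsg.Agent.S5377

/-- Let G be a finite group with an involution d whose centralizer C is quasisimple with C modulo the subgroup generated by d isomorphic to the projective special unitary group of dimension 6 over the field with four elements, and suppose some conjugate of d other than d commutes with d. Then the conjugacy class of d is a class of 3-transpositions generating G, and G with this class is of type M(22). -/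
theorem result {G : Type*} [Group G] [Finite G] (d : G) (hd : orderOf d = 2) (hq : Cfsg.IsQuasisimple (Subgroup.centralizer ({d} : Set G))) [((Subgroup.zpowers d).subgroupOf (Subgroup.centralizer ({d} : Set G))).Normal] (K : Type) [Field K] [Fintype K] (hK : Fintype.card K = 4) (e : (Subgroup.centralizer ({d} : Set G)) ⧸ (Subgroup.zpowers d).subgroupOf (Subgroup.centralizer ({d} : Set G)) ≃* Cfsg.PSU 6 K 2) (hnwc : ∃ g : G, g * d * g⁻¹ ∈ Subgroup.centralizer ({d} : Set G) ∧ g * d * g⁻¹ ≠ d) : Cfsg.IsThreeTranspositionClass (conjugatesOf d) ∧ Cfsg.IsOfTypeM22 G (conjugatesOf d) := by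
  classical
  let π : ↥(Subgroup.centralizer ({d} : Set G)) →* Cfsg.PSU 6 K 2 := e.toMonoidHom.comp (QuotientGroup.mk' _)
  have hdd : d * d = 1 := by rw [← pow_two, ← hd]; exact pow_orderOf_eq_one d
  have hd1 : d ≠ 1 := fun h => by rw [h, orderOf_one] at hd; omega
  have hS : Lib.Fischer3T52.Radical.Setup π :=
    { sq := hdd
      ne := hd1
      cover :=
        { surj := e.surjective.comp (QuotientGroup.mk'_surjective _)
          ker := fun c hc => by
            have h1 : QuotientGroup.mk' ((Subgroup.zpowers d).subgroupOf (Subgroup.centralizer ({d} : Set G))) c = 1 :=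
              e.injective (hc.trans (map_one e).symm)
            have hc' : (c : G) ∈ Subgroup.zpowers d := (QuotientGroup.eq_one_iff c).1 h1
            obtain ⟨n, hn⟩ := Subgroup.mem_zpowers_iff.1 hc'
            rcases Int.even_or_odd n with ⟨m, rfl⟩ | ⟨m, rfl⟩
            · left; apply Subtype.ext
              rw [← hn, ← two_mul, zpow_mul, zpow_two, hdd, one_zpow]; rfl
            · right; apply Subtype.ext
              rw [← hn, zpow_add, zpow_mul, zpow_two, hdd, one_zpow, one_mul, zpow_one]
              rfl
          central := fun c => Subtype.ext (Subgroup.mem_centralizer_singleton_iff.1 c.2)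
          sq := Subtype.ext hdd
          map_z := by
            show e (QuotientGroup.mk' ((Subgroup.zpowers d).subgroupOf (Subgroup.centralizer ({d} : Set G))) _) = 1
            rw [show QuotientGroup.mk' ((Subgroup.zpowers d).subgroupOf (Subgroup.centralizer ({d} : Set G))) (Lib.Fischer3T52.Radical.zel d) = 1 from
              (QuotientGroup.eq_one_iff _).2 (Subgroup.mem_zpowers d), map_one] } }
  exact Lib.Fischer3T60.Recog.typeM22_of_cov (π := π) hK ⟨rfl, hS, hq.1.commutator_eq_top, hnwc⟩


end Cfsg.Agent.S5377
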