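import Cfsg.Statements.S5402
import Cfsg.Agent.Lib.Fischer3T52.TwentyThree.TypeM23

set_option autoImplicit false
open Cfsg

namespace Cfsg.Agent.S5402

/-- Let G be a finite group with an involution d whose centralizer C is quasisimple, such that C modulo the subgroup generated by d is of type M(22) with respect to some conjugacy class of 3-transpositions generating it, and also has an involution whose own centralizer is quasisimple with quotient by it isomorphic to the projective special unitary group of dimension 6 over the field with four elements and which is not weakly closed in its centralizer; and suppose some conjugate of d other than d commutes with d. Then the conjugacy class of d is a class of 3-transpositions generating G, and G with this class is of type M(23). -/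
theorem result {G : Type*} [Group G] [Finite G] (d : G) (hd : orderOf d = 2) (hq : Cfsg.IsQuasisimple (Subgroup.centralizer ({d} : Set G))) [((Subgroup.zpowers d).subgroupOf (Subgroup.centralizer ({d} : Set G))).Normal] (htype : ∃ E : Set ((Subgroup.centralizer ({d} : Set G)) ⧸ (Subgroup.zpowers d).subgroupOf (Subgroup.centralizer ({d} : Set G))), Cfsg.IsThreeTranspositionClass E ∧ Cfsg.IsOfTypeM22 _ E) (hinvol : ∃ d' : (Subgroup.centralizer ({d} : Set G)) ⧸ (Subgroup.zpowers d).subgroupOf (Subgroup.centralizer ({d} : Set G)), orderOf d' = 2 ∧ Cfsg.IsQuasisimple (Subgroup.centralizer ({d'} : Set _)) ∧ (∃ (K : Type) (_ : Field K) (_ : Fintype K), Fintype.card K = 4 ∧ ∃ _ : ((Subgroup.zpowers d').subgroupOf (Subgroup.centralizer ({d'} : Set _))).Normal, Nonempty ((Subgroup.centralizer ({d'} : Set _)) ⧸ (Subgroup.zpowers d').subgroupOf (Subgroup.centralizer ({d'} : Set _)) ≃* Cfsg.PSU 6 K 2)) ∧ ∃ g, g * d' * g⁻¹ ∈ Subgroup.centralizer ({d'} : Set _) ∧ g * d' * g⁻¹ ≠ d') (hnwc : ∃ g : G, g * d * g⁻¹ ∈ Subgroup.centralizer ({d} : Set G) ∧ g * d * g⁻¹ ≠ d) : Cfsg.IsThreeTranspositionClass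 (conjugatesOf d) ∧ Cfsg.IsOfTypeM23 G (conjugatesOf d) := by
  classical
  obtain ⟨E, hE, h22⟩ := htype
  obtain ⟨F, _, _, hB⟩ := Lib.M22Cover2.exists_base hE h22
  have hdd : d * d = 1 := by rw [← pow_two, ← hd]; exact pow_orderOf_eq_one d
  have hd1 : d ≠ 1 := fun h => by rw [h, orderOf_one] at hd; omega
  set π := QuotientGroup.mk' ((Subgroup.zpowers d).subgroupOf (Subgroup.centralizer ({d} : Set G)))
  have hS : Lib.M22Cover2.Setup22 π hB :=
    { sq := hdd
      ne := hd1
      cover :=
        { surj := QuotientGroup.mk'_surjective _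
          ker := fun c hc => by
            have hc' : (c : G) ∈ Subgroup.zpowers d := (QuotientGroup.eq_one_iff c).1 hc
            obtain ⟨n, hn⟩ := Subgroup.mem_zpowers_iff.1 hc'
            rcases Int.even_or_odd n with ⟨m, rfl⟩ | ⟨m, rfl⟩
            · left; apply Subtype.ext
              rw [← hn, ← two_mul, zpow_mul, zpow_two, hdd, one_zpow]; rfl
            · right; apply Subtype.ext
              rw [← hn, zpow_add, zpow_mul, zpow_two, hdd, one_zpow, one_mul, zpow_one]
              rfl
          central := fun c => Subtype.ext (Subgroup.mem_centralizer_singleton_iff.1 c.2)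
          sq := Subtype.ext hdd
          map_z := (QuotientGroup.eq_one_iff _).2 (Subgroup.mem_zpowers d) } }
  have hL : Lib.Fischer3T52.TwentyThree.Local π hB := ⟨hS, hq.1.commutator_eq_top, hnwc⟩
  have h23 := Lib.Fischer3T52.TwentyThree.local23 hL
  exact ⟨h23.isClass, h23.isOfTypeM23⟩

end Cfsg.Agent.S5402
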