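import Cfsg.Statements.S1717
import Mathlib

set_option autoImplicit false
open Cfsg

namespace Cfsg.Agent.S1717

abbrev M5 : Type := Matrix (Fin 5) (Fin 5) (ZMod 2)

/-- A linear order on the indices in which `0` is first and `1` is last. -/
def rk : Fin 5 → ℕ := ![0, 4, 2, 3, 1]

theorem rk_injective : Function.Injective rk := by decide

/-- Upper triangularity for the order `rk`. -/
def Tri (A : M5) : Prop := ∀ i j, rk j < rk i → A i j = 0

theorem tri_mul {A B : M5} (hA : Tri A) (hB : Tri B) : Tri (A * B) := by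
  intro i j hij
  rw [Matrix.mul_apply]
  refine Finset.sum_eq_zero fun k _ => ?_
  by_cases h : rk k < rk i
  · rw [hA i k h, zero_mul]
  · rw [hB k j (by omega), mul_zero]

theorem tri_one : Tri 1 := fun i j h => Matrix.one_apply_ne (fun e => by subst e; omega)

theorem tri_pow_eight {A : M5} (hA : Tri A) (hd : ∀ i, A i i = 1) : A ^ 8 = 1 := by
  set N : M5 := A - 1 with hN
  have hstrict : ∀ (k : ℕ) (i j : Fin 5), rk j < rk i + k → (N ^ k) i j = 0 := by
    intro k
    induction k with
    | zero => intro i j h; exact tri_one i j (by omega)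
    | succ k ih =>
      intro i j h
      rw [pow_succ, Matrix.mul_apply]
      refine Finset.sum_eq_zero fun m _ => ?_
      by_cases hm : rk m < rk i + k
      · rw [ih i m hm, zero_mul]
      · have : N m j = 0 := by
          by_cases hmj : m = j
          · subst hmj; simp [hN, hd]
          · have hne : rk m ≠ rk j := fun e => hmj (rk_injective e)
            simp [hN, hA m j (by omega), Matrix.one_apply_ne hmj]
        rw [this, mul_zero]
  have h8 : N ^ 8 = 0 := by
    ext i j
    refine hstrict 8 i j ?_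
    have : ∀ i : Fin 5, rk i ≤ 4 := by decide
    have := this j
    omega
  have hchar : (A - 1) ^ (2 ^ 3) = A ^ (2 ^ 3) - 1 ^ (2 ^ 3) := sub_pow_char_pow_of_commute 2 3 (Commute.one_right A)
  rw [← hN, show (2:ℕ) ^ 3 = 8 from rfl, one_pow, h8, eq_comm, sub_eq_zero] at hchar
  exact hchar

/-- The unitriangular subgroup of `SL₅(2)` for the order `rk`. -/
def triUni : Subgroup (Matrix.SpecialLinearGroup (Fin 5) (ZMod 2)) where
  carrier := {g | Tri g.1 ∧ ∀ i, g.1 i i = 1}
  one_mem' := ⟨tri_one, fun i => Matrix.one_apply_eq i⟩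
  mul_mem' {a b} ha hb := by
    refine ⟨tri_mul ha.1 hb.1, fun i => ?_⟩
    show (a.1 * b.1) i i = 1
    rw [Matrix.mul_apply, Finset.sum_eq_single i]
    · rw [ha.2, hb.2, one_mul]
    · intro k _ hk
      rcases Nat.lt_trichotomy (rk k) (rk i) with h | h | h
      · rw [ha.1 i k h, zero_mul]
      · exact absurd (rk_injective h) hk
      · rw [hb.1 k i h, mul_zero]
    · simp
  inv_mem' {a} ha := by
    have h8 : a ^ 8 = 1 := Subtype.ext (by rw [Matrix.SpecialLinearGroup.coe_pow, Matrix.SpecialLinearGroup.coe_one]; exact tri_pow_eight ha.1 ha.2)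
    have hinv : a⁻¹ = a ^ 7 := inv_eq_of_mul_eq_one_right (by rw [← pow_succ']; exact h8)
    rw [hinv]
    have hclosed : ∀ n : ℕ, Tri (a ^ n).1 ∧ ∀ i, (a ^ n).1 i i = 1 := by
      intro n
      induction n with
      | zero => rw [pow_zero]; exact ⟨tri_one, fun i => Matrix.one_apply_eq i⟩
      | succ n ih =>
        rw [pow_succ]
        refine ⟨tri_mul ih.1 ha.1, fun i => ?_⟩
        show ((a ^ n).1 * a.1) i i = 1
        rw [Matrix.mul_apply, Finset.sum_eq_single i]
        · rw [ih.2, ha.2, one_mul]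
        · intro k _ hk
          rcases Nat.lt_trichotomy (rk k) (rk i) with h | h | h
          · rw [ih.1 i k h, zero_mul]
          · exact absurd (rk_injective h) hk
          · rw [ha.1 k i h, mul_zero]
        · simp
    exact hclosed 7

theorem triUni_isPGroup : IsPGroup 2 triUni := fun g => ⟨3, Subtype.ext (Subtype.ext (by
  show ((g.1 ^ 8 : Matrix.SpecialLinearGroup (Fin 5) (ZMod 2)) : M5) = 1
  rw [Matrix.SpecialLinearGroup.coe_pow]; exact tri_pow_eight g.2.1 g.2.2))⟩

/-- The matrices commuting with the whole of `triUni`. -/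
theorem eq_one_or_of_commute {u : Matrix.SpecialLinearGroup (Fin 5) (ZMod 2)}
    (h : ∀ g ∈ triUni, g * u = u * g) : u = 1 ∨ u.1 = Matrix.transvection 0 1 1 := by
  set U : M5 := u.1 with hU
  have hrel : ∀ i j a b : Fin 5, rk i < rk j →
      (if a = i then U j b else 0) = (if b = j then U a i else 0) := by
    intro i j a b hij
    have hne : i ≠ j := fun e => by subst e; omega
    have hdet : (Matrix.transvection i j (1 : ZMod 2)).det = 1 := Matrix.det_transvection_of_ne i j hne 1
    have hmem : (⟨Matrix.transvection i j 1, hdet⟩ : Matrix.SpecialLinearGroup (Fin 5) (ZMod 2)) ∈ triUni := by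
      refine ⟨fun a b hab => ?_, fun a => ?_⟩
      · have h1 : a ≠ b := fun e => by subst e; omega
        simp only [Matrix.transvection, Matrix.add_apply, Matrix.one_apply_ne h1, Matrix.single_apply, zero_add]
        exact if_neg fun e => by rw [← e.1, ← e.2] at hab; omega
      · simp only [Matrix.transvection, Matrix.add_apply, Matrix.one_apply_eq, Matrix.single_apply]
        rw [if_neg fun e => hne (e.1.trans e.2.symm), add_zero]
    have hm : (Matrix.transvection i j 1 : M5) * U = U * Matrix.transvection i j 1 :=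
      congrArg Subtype.val (h _ hmem)
    simp only [Matrix.transvection, add_mul, mul_add, one_mul, mul_one, add_right_inj] at hm
    have hab := congrFun (congrFun hm a) b
    by_cases ha : a = i
    · subst ha
      by_cases hb : b = j
      · subst hb; simpa using hab
      · simp [hb] at hab ⊢; exact hab
    · by_cases hb : b = j
      · subst hb; simp [ha] at hab ⊢; exact hab
      · simp [ha, hb]
  have hr : ∀ i : Fin 5, i ≠ 1 → rk i < rk 1 := by decide
  have hl : ∀ i : Fin 5, i ≠ 0 → rk 0 < rk i := by decide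
  have hcol : ∀ a i : Fin 5, a ≠ i → i ≠ 1 → U a i = 0 := fun a i ha hi => by
    simpa [ha] using (hrel i 1 a 1 (hr i hi)).symm
  have hrow : ∀ j b : Fin 5, b ≠ j → j ≠ 0 → U j b = 0 := fun j b hb hj => by
    simpa [hb] using hrel 0 j 0 b (hl j hj)
  have hdiag : ∀ j : Fin 5, U j j = U 0 0 := fun j => by
    by_cases hj : j = 0
    · rw [hj]
    · simpa using hrel 0 j 0 j (hl j hj)
  have hc : U 0 0 = 1 := by
    have hz2 : ∀ x : ZMod 2, x = 0 ∨ x = 1 := by decide
    refine (hz2 _).resolve_left fun h0 => ?_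
    have hdet := u.2
    rw [← hU, Matrix.det_eq_zero_of_row_eq_zero (1 : Fin 5) (fun b => by
      by_cases hb : b = 1
      · rw [hb, hdiag, h0]
      · exact hrow 1 b hb (by decide))] at hdet
    exact zero_ne_one hdet
  have hform : U = 1 + Matrix.single 0 1 (U 0 1) := by
    ext a b
    by_cases hab : a = b
    · subst hab
      simp only [Matrix.add_apply, Matrix.one_apply_eq, Matrix.single_apply]
      rw [hdiag, hc, if_neg (fun e : 0 = a ∧ 1 = a => by have := e.1.trans e.2.symm; exact absurd this (by decide)), add_zero]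
    · simp only [Matrix.add_apply, Matrix.one_apply_ne hab, Matrix.single_apply, zero_add]
      by_cases he : 0 = a ∧ 1 = b
      · rw [if_pos he, ← he.1, ← he.2]
      · rw [if_neg he]
        by_cases ha : a = 0
        · exact hcol a b hab (fun e => he ⟨ha.symm, e.symm⟩)
        · exact hrow a b (Ne.symm hab) ha
  have hz2 : ∀ x : ZMod 2, x = 0 ∨ x = 1 := by decide
  rcases hz2 (U 0 1) with h0 | h0
  · left
    refine Subtype.ext ?_
    rw [← hU, hform, h0, Matrix.single_zero, add_zero]; rfl
  · right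
    rw [hform, h0]; rfl


/-- Let G be a finite group with an involution z whose centraliser C is isomorphic to the centraliser of a transvection of SL(5, 2). Then a Sylow 2-subgroup of C, viewed in G, is a Sylow 2-subgroup of G (its index in G is odd). -/
theorem result {G : Type*} [Group G] [Finite G] (s : Matrix.SpecialLinearGroup (Fin 5) (ZMod 2)) (hs : (s : Matrix (Fin 5) (Fin 5) (ZMod 2)) = Matrix.transvection 0 1 1) (z : G) (hz : orderOf z = 2) (e : (Subgroup.centralizer ({z} : Set G)) ≃* Subgroup.centralizer ({s} : Set (Matrix.SpecialLinearGroup (Fin 5) (ZMod 2)))) (T : Sylow 2 (Subgroup.centralizer ({z} : Set G))) : ¬ 2 ∣ ((T : Subgroup (Subgroup.centralizer ({z} : Set G))).map (Subgroup.subtype (Subgroup.centralizer ({z} : Set G)))).index := by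
  classical
  haveI : Fact (Nat.Prime 2) := ⟨Nat.prime_two⟩
  revert T
  set C : Subgroup G := Subgroup.centralizer ({z} : Set G) with hC
  intro T
  have hzC : z ∈ C := Subgroup.mem_centralizer_singleton_iff.mpr rfl
  set zC : ↥C := ⟨z, hzC⟩ with hzCdef
  have hzcen : ∀ c : ↥C, c * zC = zC * c := fun c =>
    Subtype.ext (Subgroup.mem_centralizer_singleton_iff.mp c.2)
  have hz1 : z ≠ 1 := by intro h; rw [h, orderOf_one] at hz; omega
  have hzC1 : zC ≠ 1 := fun h => hz1 (congrArg Subtype.val h)
  -- `triUni` centralises `s`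
  have hUs : ∀ g ∈ triUni, g ∈ Subgroup.centralizer ({s} : Set (Matrix.SpecialLinearGroup (Fin 5) (ZMod 2))) := by
    intro g hg
    rw [Subgroup.mem_centralizer_singleton_iff]
    apply Subtype.ext
    show g.1 * s.1 = s.1 * g.1
    rw [hs, Matrix.transvection, mul_add, add_mul, one_mul, mul_one, add_right_inj]
    ext a b
    by_cases ha : a = 0
    · subst ha
      by_cases hb : b = 1
      · subst hb; simp [hg.2]
      · simp [hb]
        rw [hg.1 1 b]
        revert hb; revert b; decide
    · by_cases hb : b = 1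
      · subst hb; simp [ha]
        rw [hg.1 a 0]
        revert ha; revert a; decide
      · simp [ha, hb]
  let f : ↥triUni →* ↥C :=
    e.symm.toMonoidHom.comp ((triUni.subtype).codRestrict _ (fun g => hUs g.1 g.2))
  have hf : IsPGroup 2 ↥f.range := by
    rw [MonoidHom.range_eq_map]
    exact (triUni_isPGroup.to_subgroup ⊤).map f
  obtain ⟨T₀, hT₀⟩ := hf.exists_le_sylow
  -- the centre of every Sylow subgroup of `C` is `⟨z⟩`
  have hcent0 : ∀ w : ↥C, (∀ u ∈ (T₀ : Subgroup ↥C), u * w = w * u) → w = 1 ∨ ((e w).1 : Matrix.SpecialLinearGroup (Fin 5) (ZMod 2)).1 = Matrix.transvection 0 1 1 := by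
    intro w hw
    rcases eq_one_or_of_commute (u := (e w).1) (fun g hg => by
      have := congrArg (fun x => (e x).1) (hw (f ⟨g, hg⟩) (hT₀ ⟨_, rfl⟩))
      simpa [f, MonoidHom.codRestrict] using this) with h | h
    · left
      exact e.injective (by rw [map_one]; exact Subtype.ext h)
    · exact Or.inr h
  have hzs : ((e zC).1 : Matrix.SpecialLinearGroup (Fin 5) (ZMod 2)).1 = Matrix.transvection 0 1 1 :=
    (hcent0 zC (fun u _ => hzcen u)).resolve_left hzC1
  have hcent : ∀ w : ↥C, (∀ u ∈ (T : Subgroup ↥C), u * w = w * u) → w = 1 ∨ w = zC := by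
    intro w hw
    obtain ⟨c, hc⟩ := MulAction.exists_smul_eq ↥C T T₀
    have hw' : ∀ u ∈ (T₀ : Subgroup ↥C), u * (c * w * c⁻¹) = (c * w * c⁻¹) * u := by
      intro u hu
      rw [← hc, Sylow.coe_subgroup_smul] at hu
      obtain ⟨v, hv, rfl⟩ := hu
      show c * v * c⁻¹ * (c * w * c⁻¹) = c * w * c⁻¹ * (c * v * c⁻¹)
      calc c * v * c⁻¹ * (c * w * c⁻¹) = c * (v * w) * c⁻¹ := by group
        _ = c * (w * v) * c⁻¹ := by rw [hw v hv]
        _ = c * w * c⁻¹ * (c * v * c⁻¹) := by group
    rcases hcent0 _ hw' with h | h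
    · left; rwa [conj_eq_one_iff] at h
    · right
      have h' : c * w * c⁻¹ = zC := e.injective (Subtype.ext (Subtype.ext (h.trans hzs.symm)))
      calc w = c⁻¹ * (c * w * c⁻¹) * c := by group
        _ = c⁻¹ * (zC * c) := by rw [h', mul_assoc]
        _ = c⁻¹ * (c * zC) := by rw [hzcen]
        _ = zC := inv_mul_cancel_left c zC
  have hzT : zC ∈ (T : Subgroup ↥C) := by
    have hp : IsPGroup 2 ↥(Subgroup.zpowers zC) := IsPGroup.of_card (n := 1)
      (by rw [Nat.card_zpowers, pow_one, ← Subgroup.orderOf_coe]; exact hz)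
    haveI : (Subgroup.zpowers zC).Normal := ⟨fun a ha g => by
      obtain ⟨n, rfl⟩ := Subgroup.mem_zpowers_iff.mp ha
      have h1 : Commute g (zC ^ n) := (show Commute g zC from hzcen g).zpow_right n
      rw [h1.eq, mul_inv_cancel_right]
      exact ⟨n, rfl⟩⟩
    exact hp.le_sylow_of_normal T (Subgroup.mem_zpowers _)
  set TG : Subgroup G := (T : Subgroup ↥C).map C.subtype with hTG
  have hTGp : IsPGroup 2 ↥TG := T.2.map _
  obtain ⟨S, hS⟩ := hTGp.exists_le_sylow
  suffices hEq : TG = (S : Subgroup G) by rw [hEq]; exact S.not_dvd_index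
  by_contra hne
  haveI : Group.IsNilpotent ↥(S : Subgroup G) := S.2.isNilpotent
  obtain ⟨g, hgn, hgT⟩ := SetLike.exists_of_lt (Group.normalizerCondition_of_isNilpotent (TG.subgroupOf (S : Subgroup G))
    (lt_top_iff_ne_top.mpr fun h => hne (le_antisymm hS (Subgroup.subgroupOf_eq_top.mp h))))
  have hgconj : ∀ u ∈ TG, (g : G) * u * (g : G)⁻¹ ∈ TG := fun u hu =>
    (Subgroup.mem_normalizer_iff.mp hgn ⟨u, hS hu⟩).mp hu
  have hgz : (g : G) * z * (g : G)⁻¹ = z := by
    obtain ⟨w, hwT, hw⟩ := hgconj z ⟨zC, hzT, rfl⟩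
    rcases hcent w (fun u hu => by
      apply Subtype.ext
      show (u : G) * w = w * u
      have hw' : (w : G) = g * z * (g : G)⁻¹ := hw
      have hmap : TG.map (MulAut.conj (g : G)).toMonoidHom = TG :=
        Subgroup.eq_of_le_of_card_ge (by rintro _ ⟨v, hv, rfl⟩; exact hgconj v hv)
          (le_of_eq (Subgroup.card_map_of_injective (MulEquiv.injective _)).symm)
      have huT : (u : G) ∈ TG.map (MulAut.conj (g : G)).toMonoidHom := by rw [hmap]; exact ⟨u, hu, rfl⟩
      obtain ⟨_, ⟨v, hv, rfl⟩, hvu⟩ := huT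
      have hvu' : (g : G) * (v : G) * (g : G)⁻¹ = u := hvu
      have hvz : (v : G) * z = z * v := Subgroup.mem_centralizer_singleton_iff.mp v.2
      rw [← hvu', hw']
      calc (g : G) * v * (g : G)⁻¹ * (g * z * (g : G)⁻¹) = g * (v * z) * (g : G)⁻¹ := by group
        _ = g * (z * v) * (g : G)⁻¹ := by rw [hvz]
        _ = g * z * (g : G)⁻¹ * (g * v * (g : G)⁻¹) := by group) with h | h
    · have h' : (w : G) = 1 := congrArg Subtype.val h
      have hw' : (g : G) * z * (g : G)⁻¹ = 1 := hw.symm.trans h'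
      rw [conj_eq_one_iff] at hw'
      exact absurd hw' hz1
    · exact hw.symm.trans (congrArg Subtype.val h)
  have hgC : (g : G) ∈ C := Subgroup.mem_centralizer_singleton_iff.mpr (mul_inv_eq_iff_eq_mul.mp hgz)
  -- `g` and `T` generate a larger 2-subgroup of `C`
  let K : Subgroup ↥C := (T : Subgroup ↥C) ⊔ Subgroup.zpowers (⟨g, hgC⟩ : ↥C)
  have hKS : K.map C.subtype ≤ (S : Subgroup G) := by
    rw [Subgroup.map_sup, MonoidHom.map_zpowers]
    exact sup_le hS (Subgroup.zpowers_le.mpr g.2)
  have hKp : IsPGroup 2 ↥K :=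
    (S.2.to_le hKS).of_equiv (K.equivMapOfInjective C.subtype (Subgroup.subtype_injective C)).symm
  have hKT : K = (T : Subgroup ↥C) := T.3 hKp le_sup_left
  refine hgT ⟨⟨g, hgC⟩, ?_, rfl⟩
  rw [SetLike.mem_coe, ← hKT]
  exact Subgroup.mem_sup_right (Subgroup.mem_zpowers _)

end Cfsg.Agent.S1717
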