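import Cfsg.Statements.S1754
import Mathlib
import Cfsg.Agent.Lib.Components.Quasisimple

set_option autoImplicit false
open Cfsg

open scoped Pointwise

namespace Cfsg.Agent.S1754

/-- Let A be a standard subgroup of the finite group G (A quasisimple, C_G(A) tightly embedded of even order, A commuting elementwise with no other conjugate of itself, and N_G(A) = N_G(C_G(A))), and let t be an involution of G centralizing A. Then the centralizer of t lies in the normalizer of A; in particular A, viewed inside C_G(t), is a component of C_G(t). -/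
theorem result {G : Type*} [Group G] [Finite G]
    (A : Subgroup G) (hA : Cfsg.IsStandardSubgroup A) (t : G) (ht : orderOf t = 2) (htA : t ∈ Subgroup.centralizer (A : Set G)) :
    Subgroup.centralizer ({t} : Set G) ≤ Subgroup.normalizer (A : Set G) ∧
      Cfsg.IsComponent (A.subgroupOf (Subgroup.centralizer ({t} : Set G))) := by
  obtain ⟨hqs, ⟨-, htight⟩, -, hnorm⟩ := hA
  set C : Subgroup G := Subgroup.centralizer (A : Set G) with hC
  have hle : Subgroup.centralizer ({t} : Set G) ≤ Subgroup.normalizer (A : Set G) := by
    intro g hg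
    rw [hnorm]
    by_contra hgn
    have hodd := htight g hgn
    have hmem : t ∈ C ⊓ C.map (MulAut.conj g).toMonoidHom :=
      ⟨htA, t, htA, by
        show g * t * g⁻¹ = t
        rw [(Subgroup.mem_centralizer_singleton_iff.mp hg), mul_inv_cancel_right]⟩
    have hdvd : orderOf t ∣ Nat.card ↥(C ⊓ C.map (MulAut.conj g).toMonoidHom) := by
      rw [← Subgroup.orderOf_mk t hmem]; exact orderOf_dvd_natCard _
    rw [ht] at hdvd
    exact (Nat.not_even_iff_odd.mpr hodd) (even_iff_two_dvd.mpr hdvd)
  have hAC : A ≤ Subgroup.centralizer ({t} : Set G) := by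
    intro a ha
    exact Subgroup.mem_centralizer_singleton_iff.mpr (Subgroup.mem_centralizer_iff.mp htA a ha)
  refine ⟨hle, ?_, ?_⟩
  · exact (Subgroup.normal_subgroupOf_of_le_normalizer hle).isSubnormal
  · exact (Cfsg.Agent.Lib.Components.quasisimple_subgroupOf_iff hAC).mpr hqs

end Cfsg.Agent.S1754
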