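import Cfsg.Statements.S1755
import Mathlib
import Cfsg.Agent.Lib.Components.Basic

set_option autoImplicit false
open Cfsg

open scoped Pointwise

namespace Cfsg.Agent.S1755

/-- Let G be a finite group and let z be an involution of G such that Q, the generalized Fitting subgroup of the centralizer C of z, is a 2-group of symplectic type (every characteristic abelian subgroup of Q is cyclic). Let B be a characteristic abelian subgroup of Q, viewed as a subgroup of G. Then for every g in G, the conjugate of B by g either equals B or meets B trivially. -/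
theorem result {G : Type*} [Group G] [Finite G] (z : G) (hz : orderOf z = 2) (hQ : Cfsg.IsOfSymplecticType ↥(Cfsg.generalizedFittingSubgroup ↥(Subgroup.centralizer ({z} : Set G))))
    (B : Subgroup ↥(Cfsg.generalizedFittingSubgroup ↥(Subgroup.centralizer ({z} : Set G)))) (hBc : B.Characteristic) (hBa : IsMulCommutative ↥B) (g : G) :
    ((B.map (Cfsg.generalizedFittingSubgroup ↥(Subgroup.centralizer ({z} : Set G))).subtype).map (Subgroup.centralizer ({z} : Set G)).subtype).map (MulAut.conj g).toMonoidHom =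
        (B.map (Cfsg.generalizedFittingSubgroup ↥(Subgroup.centralizer ({z} : Set G))).subtype).map (Subgroup.centralizer ({z} : Set G)).subtype ∨
      ((B.map (Cfsg.generalizedFittingSubgroup ↥(Subgroup.centralizer ({z} : Set G))).subtype).map (Subgroup.centralizer ({z} : Set G)).subtype).map (MulAut.conj g).toMonoidHom ⊓
        (B.map (Cfsg.generalizedFittingSubgroup ↥(Subgroup.centralizer ({z} : Set G))).subtype).map (Subgroup.centralizer ({z} : Set G)).subtype = ⊥ := by
  classical
  revert B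
  set C : Subgroup G := Subgroup.centralizer ({z} : Set G) with hCdef
  set Q : Subgroup ↥C := Cfsg.generalizedFittingSubgroup ↥C with hQdef
  intro B hBc hBa
  set BG : Subgroup G := (B.map Q.subtype).map C.subtype with hBG
  have hzC : z ∈ C := Subgroup.mem_centralizer_singleton_iff.mpr rfl
  have hzcen : (⟨z, hzC⟩ : ↥C) ∈ Subgroup.center ↥C := by
    rw [Subgroup.mem_center_iff]
    rintro ⟨g, hg⟩
    exact Subtype.ext (Subgroup.mem_centralizer_singleton_iff.mp hg)
  have hzQ : (⟨z, hzC⟩ : ↥C) ∈ Q := by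
    have : Subgroup.center ↥C ≤ Cfsg.fittingSubgroup ↥C := le_sSup ⟨inferInstance, @isNilpotent_of_ker_le_center _ _ _ _ (1 : ↥(Subgroup.center ↥C) →* Unit) (fun a _ => Subgroup.mem_center_iff.mpr fun b => mul_comm' b a) (@CommGroup.isNilpotent Unit _)⟩
    exact Subgroup.mem_sup_right (this hzcen)
  set zQ : ↥Q := ⟨⟨z, hzC⟩, hzQ⟩ with hzQdef
  have hzQ2 : zQ ^ 2 = 1 := by
    apply Subtype.ext; apply Subtype.ext
    show z ^ 2 = 1
    rw [← hz]; exact pow_orderOf_eq_one z
  have hzQ1 : zQ ≠ 1 := by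
    intro h
    have : z = 1 := congrArg (fun q : ↥Q => ((q : ↥C) : G)) h
    rw [this, orderOf_one] at hz; omega
  have hzQcen : zQ ∈ Subgroup.center ↥Q := by
    rw [Subgroup.mem_center_iff]
    intro q
    exact Subtype.ext (Subgroup.mem_center_iff.mp hzcen q)
  haveI : Subgroup.Characteristic (Subgroup.center ↥Q) := inferInstance
  have hcyc : IsCyclic ↥(Subgroup.center ↥Q) := hQ.2 _ inferInstance inferInstance
  -- in a cyclic group there is a unique element of order two
  have huniq : ∀ {H : Subgroup ↥Q}, IsCyclic ↥H → ∀ x y : ↥Q, x ∈ H → y ∈ H → x ≠ 1 → y ≠ 1 → x ^ 2 = 1 → y ^ 2 = 1 → x = y := by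
    intro H hH x y hx hy hx1 hy1 hx2 hy2
    haveI : Fintype ↥H := Fintype.ofFinite _
    by_contra hxy
    have hle := hH.card_pow_eq_one_le (α := ↥H) (n := 2) (by norm_num)
    have h3 : ({1, ⟨x, hx⟩, ⟨y, hy⟩} : Finset ↥H) ⊆ Finset.univ.filter (fun a : ↥H => a ^ 2 = 1) := by
      intro a ha
      simp only [Finset.mem_insert, Finset.mem_singleton] at ha
      simp only [Finset.mem_filter, Finset.mem_univ, true_and]
      rcases ha with rfl | rfl | rfl
      · exact one_pow 2
      · exact Subtype.ext hx2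
      · exact Subtype.ext hy2
    have := Finset.card_le_card h3
    rw [Finset.card_insert_of_notMem, Finset.card_insert_of_notMem, Finset.card_singleton] at this
    · omega
    · simp only [Finset.mem_singleton]; exact fun h => hxy (congrArg Subtype.val h)
    · simp only [Finset.mem_insert, Finset.mem_singleton, not_or]
      exact ⟨fun h => hx1 (congrArg Subtype.val h).symm, fun h => hy1 (congrArg Subtype.val h).symm⟩
  by_cases hbot : B = ⊥
  · left
    simp [hBG, hbot]
  -- `z` lies in `B`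
  have hzB : zQ ∈ B := by
    have hBp : IsPGroup 2 ↥B := hQ.1.to_subgroup B
    haveI : Nontrivial ↥B := (Subgroup.nontrivial_iff_ne_bot B).mpr hbot
    obtain ⟨n, hn⟩ := hBp.exists_card_eq
    have hdvd : 2 ∣ Nat.card ↥B := by
      rcases n with _ | n
      · exact absurd (by simpa using hn) (Finite.one_lt_card (α := ↥B)).ne'
      · exact ⟨2 ^ n, by rw [hn, pow_succ']⟩
    obtain ⟨b, hb⟩ := exists_prime_orderOf_dvd_card' 2 hdvd
    have hb' : orderOf (b : ↥Q) = 2 := by rw [Subgroup.orderOf_coe, hb]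
    have hb1 : (b : ↥Q) ≠ 1 := by intro h; rw [h, orderOf_one] at hb'; omega
    have hb2 : (b : ↥Q) ^ 2 = 1 := by rw [← hb']; exact pow_orderOf_eq_one _
    have hBcyc : IsCyclic ↥B := hQ.2 B hBc hBa
    have hbcen : (b : ↥Q) ∈ Subgroup.center ↥Q := by
      rw [Subgroup.mem_center_iff]
      intro q
      haveI := hBc
      have hmem : q * (b : ↥Q) * q⁻¹ ∈ B := (inferInstance : B.Normal).conj_mem _ b.2 q
      have := huniq hBcyc _ _ hmem b.2 (by simpa [conj_eq_one_iff] using hb1) hb1
        (by rw [conj_pow, hb2]; simp) hb2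
      exact mul_inv_eq_iff_eq_mul.mp this
    rw [← huniq hcyc _ _ hbcen hzQcen hb1 hzQ1 hb2 hzQ2]
    exact b.2
  have hzBG : z ∈ BG := ⟨_, ⟨zQ, hzB, rfl⟩, rfl⟩
  have honly : ∀ w ∈ BG, w ^ 2 = 1 → w ≠ 1 → w = z := by
    rintro _ ⟨_, ⟨w, hw, rfl⟩, rfl⟩ hw2 hw1
    have := huniq (hQ.2 B hBc hBa) w zQ hw hzB (fun h => hw1 (by rw [h]; rfl)) hzQ1
      (Subtype.ext (Subtype.ext hw2)) hzQ2
    rw [this]; rfl
  by_cases hint : BG.map (MulAut.conj g).toMonoidHom ⊓ BG = ⊥
  · exact Or.inr hint
  left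
  set I : Subgroup G := BG.map (MulAut.conj g).toMonoidHom ⊓ BG with hI
  have hBGp : IsPGroup 2 ↥BG := ((hQ.1.to_subgroup B).map _).map _
  have hIp : IsPGroup 2 ↥I := hBGp.to_le inf_le_right
  haveI : Nontrivial ↥I := (Subgroup.nontrivial_iff_ne_bot I).mpr hint
  obtain ⟨n, hn⟩ := hIp.exists_card_eq
  have hdvd : 2 ∣ Nat.card ↥I := by
    rcases n with _ | n
    · exact absurd (by simpa using hn) (Finite.one_lt_card (α := ↥I)).ne'
    · exact ⟨2 ^ n, by rw [hn, pow_succ']⟩
  obtain ⟨v, hv⟩ := exists_prime_orderOf_dvd_card' 2 hdvd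
  have hv' : orderOf (v : G) = 2 := by rw [Subgroup.orderOf_coe, hv]
  have hv2 : (v : G) ^ 2 = 1 := by rw [← hv']; exact pow_orderOf_eq_one _
  have hv1 : (v : G) ≠ 1 := by intro h; rw [h, orderOf_one] at hv'; omega
  have hvz : (v : G) = z := honly _ v.2.2 hv2 hv1
  obtain ⟨w, hw, hwv⟩ := v.2.1
  have hwv' : g * w * g⁻¹ = v := hwv
  have hwz : w = z := honly w hw (by
      have : g * w ^ 2 * g⁻¹ = 1 := by rw [← conj_pow, hwv', hv2]
      rwa [conj_eq_one_iff] at this) (fun h => hv1 (by rw [← hwv', h]; simp))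
  have hgC : g ∈ C := by
    apply Subgroup.mem_centralizer_singleton_iff.mpr
    rw [hwz, hvz] at hwv'
    exact mul_inv_eq_iff_eq_mul.mp hwv'
  haveI := hBc
  haveI hQn : Q.Normal := by
    haveI : (Cfsg.layer ↥C).Normal := Cfsg.Agent.Lib.Components.layer_normal
    haveI : (Cfsg.fittingSubgroup ↥C).Normal := Subgroup.sSup_normal _ (fun _ h => h.1)
    exact Subgroup.sup_normal _ _
  haveI : (B.map Q.subtype).Normal := inferInstance
  apply Subgroup.eq_of_le_of_card_ge
  · rintro _ ⟨_, ⟨b, hb, rfl⟩, rfl⟩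
    exact ⟨_, (inferInstance : (B.map Q.subtype).Normal).conj_mem b hb ⟨g, hgC⟩, rfl⟩
  · exact le_of_eq (Subgroup.card_map_of_injective (K := BG) (MulEquiv.injective (MulAut.conj g))).symm

end Cfsg.Agent.S1755
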