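import Cfsg.Statements.S1756
import Mathlib
import Cfsg.Agent.Lib.ExtraTwoQ.Basic

set_option autoImplicit false
open Cfsg

open scoped Pointwise

namespace Cfsg.Agent.S1756

/-- Let Q be an extraspecial 2-subgroup of the finite group G (special with centre of order 2) and t an involution of G normalizing Q such that the centralizer of t in Q has index at most 2 in Q. Then t lies in the product of Q with the centralizer of Q. -/
theorem result {G : Type*} [Group G] [Finite G] (Q : Subgroup G)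
    (hQ : Cfsg.IsExtraspecial 2 ↥Q) (t : G) (ht : orderOf t = 2) (htN : t ∈ Subgroup.normalizer (Q : Set G))
    (hi : (Subgroup.centralizer ({t} : Set G) ⊓ Q).relIndex Q ≤ 2) :
    t ∈ Q ⊔ Subgroup.centralizer (Q : Set G) := by
  classical
  by_cases hall : Q ≤ Subgroup.centralizer ({t} : Set G)
  · refine Subgroup.mem_sup_right (Subgroup.mem_centralizer_iff.mpr fun q hq => ?_)
    exact Subgroup.mem_centralizer_singleton_iff.mp (hall hq)
  set H : Subgroup ↥Q := (Subgroup.centralizer ({t} : Set G) ⊓ Q).subgroupOf Q with hH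
  have hmemH : ∀ x : ↥Q, x ∈ H ↔ t * (x : G) * t⁻¹ = x := by
    intro x
    rw [hH, Subgroup.mem_subgroupOf, Subgroup.mem_inf, Subgroup.mem_centralizer_singleton_iff]
    constructor
    · intro h; rw [← h.1, mul_inv_cancel_right]
    · intro h; exact ⟨(mul_inv_eq_iff_eq_mul.mp h).symm, x.2⟩
  have hidx : H.index ≤ 2 := hi
  have hidx1 : H.index ≠ 1 := by
    rw [Ne, Subgroup.index_eq_one, hH, Subgroup.subgroupOf_eq_top]
    exact fun h => hall (h.trans inf_le_left)
  have hidx2 : H.index = 2 := by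
    have := Subgroup.index_ne_zero_of_finite (H := H)
    omega
  -- the automorphism induced by `t`
  have htmem : ∀ x : ↥Q, t * (x : G) * t⁻¹ ∈ Q := fun x => (Subgroup.mem_normalizer_iff.mp htN x).mp x.2
  let τ : ↥Q → ↥Q := fun x => ⟨t * x * t⁻¹, htmem x⟩
  have hτmul : ∀ x y, τ (x * y) = τ x * τ y := fun x y => Subtype.ext (by simp [τ, mul_assoc])
  have ht2 : t * t = 1 := by rw [← sq, ← ht]; exact pow_orderOf_eq_one t
  have hττ : ∀ x, τ (τ x) = x := fun x => Subtype.ext (by
    show t * (t * x * t⁻¹) * t⁻¹ = x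
    have ht' : t⁻¹ = t := inv_eq_of_mul_eq_one_right ht2
    calc t * (t * (x : G) * t⁻¹) * t⁻¹ = (t * t) * x * (t⁻¹ * t⁻¹) := by group
      _ = x := by rw [ht', ht2, one_mul, mul_one])
  have hτinv : ∀ x, τ x⁻¹ = (τ x)⁻¹ := fun x => Subtype.ext (by simp [τ, mul_assoc])
  have hτcen : ∀ x ∈ Subgroup.center ↥Q, τ x ∈ Subgroup.center ↥Q := by
    intro x hx
    rw [Subgroup.mem_center_iff]
    intro y
    have := congrArg τ (Subgroup.mem_center_iff.mp hx (τ y))
    rwa [hτmul, hτmul, hττ] at this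
  obtain ⟨z, hz, hz1⟩ := Cfsg.Agent.Lib.ExtraTwoQ.exists_center_ne_one hQ
  have hZH : Subgroup.center ↥Q ≤ H := by
    intro x hx
    rw [hmemH]
    have hfix : τ x = x := by
      by_cases hx1 : x = 1
      · subst hx1; exact Subtype.ext (by simp [τ])
      rcases Cfsg.Agent.Lib.ExtraTwoQ.center_eq_pair hQ hx hx1 (hτcen x hx) with h | h
      · exact absurd (by rw [← hττ x, h]; exact Subtype.ext (by simp [τ])) hx1
      · exact h
    exact congrArg Subtype.val hfix
  obtain ⟨q, hq⟩ : ∃ q : ↥Q, q ∉ H := by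
    by_contra! h
    exact hidx1 (Subgroup.index_eq_one.mpr ((Subgroup.eq_top_iff' H).mpr h))
  have hHn : H.Normal := Cfsg.Agent.Lib.ExtraTwoQ.normal_of_center_le hQ hZH
  have hcc : Subgroup.centralizer ((Subgroup.centralizer (H : Set ↥Q) : Subgroup ↥Q) : Set ↥Q) = H :=
    Cfsg.Agent.Lib.ExtraTwoQ.centralizer_centralizer hQ hZH
  have hcentH : Subgroup.centralizer (H : Set ↥Q) ≤ H := by
    intro x hx
    by_contra hxH
    have htop : (H ⊔ Subgroup.zpowers x) = ⊤ := by
      apply Subgroup.eq_top_of_le_card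
      have h1 : Nat.card ↥H * 2 = Nat.card ↥Q := by rw [← hidx2]; exact H.card_mul_index
      have hlt : H < H ⊔ Subgroup.zpowers x :=
        lt_of_le_of_ne le_sup_left (fun h => hxH (h ▸ Subgroup.mem_sup_right (Subgroup.mem_zpowers x)))
      obtain ⟨c, hc⟩ := Subgroup.card_dvd_of_le hlt.le
      have hc2 : 2 ≤ c := by
        by_contra hlt2
        interval_cases c
        · have := Nat.card_pos (α := ↥(H ⊔ Subgroup.zpowers x)); omega
        · exact hlt.ne (Subgroup.eq_of_le_of_card_ge hlt.le (by omega))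
      calc Nat.card ↥Q = Nat.card ↥H * 2 := h1.symm
        _ ≤ Nat.card ↥H * c := Nat.mul_le_mul_left _ hc2
        _ = _ := hc.symm
    apply hxH
    apply hZH
    rw [Subgroup.mem_center_iff]
    intro y
    have : (⊤ : Subgroup ↥Q) ≤ Subgroup.centralizer ({x} : Set ↥Q) := by
      rw [← htop]
      exact sup_le (fun a ha => Subgroup.mem_centralizer_singleton_iff.mpr (Subgroup.mem_centralizer_iff.mp hx a ha))
        (Subgroup.zpowers_le.mpr (Subgroup.mem_centralizer_singleton_iff.mpr rfl))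
    exact Subgroup.mem_centralizer_singleton_iff.mp (this (Subgroup.mem_top y))
  -- `c` describes the action on `q`
  set c : ↥Q := q⁻¹ * τ q with hc
  have hτH : ∀ m ∈ H, τ m = m := fun m hm => Subtype.ext ((hmemH m).mp hm)
  have hcC : c ∈ Subgroup.centralizer (H : Set ↥Q) := by
    rw [Subgroup.mem_centralizer_iff]
    intro m hm
    have h2 := hτH _ (hHn.conj_mem m hm q)
    rw [hτmul, hτmul, hτinv, hτH m hm] at h2
    rw [hc]
    calc m * (q⁻¹ * τ q) = q⁻¹ * (q * m * q⁻¹) * τ q := by group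
      _ = q⁻¹ * (τ q * m * (τ q)⁻¹) * τ q := by rw [h2]
      _ = q⁻¹ * τ q * m := by group
  have hqc : τ q = q * c := by simp [hc]
  have hc2 : c * c = 1 := by
    have h := congrArg τ hqc
    rw [hττ, hτmul, hqc, hτH c (hcentH hcC), mul_assoc] at h
    exact mul_left_cancel (a := q) (h.symm.trans (mul_one q).symm)
  have hcZ : c ∈ Subgroup.center ↥Q := by
    have hsq : τ (q ^ 2) = q ^ 2 := hτH _ (hZH (Cfsg.Agent.Lib.ExtraTwoQ.sq_mem_center hQ q))
    rw [sq, hτmul, hqc] at hsq
    have hcomm : c * q = q * c := by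
      have h1 : c * q * c = q := mul_left_cancel (by rw [← hsq]; group)
      calc c * q = c * q * (c * c) := by rw [hc2, mul_one]
        _ = q * c := by rw [← mul_assoc, h1]
    rw [Subgroup.mem_center_iff]
    intro y
    by_cases hy : y ∈ H
    · exact Subgroup.mem_centralizer_iff.mp hcC y hy
    · have hyq : q⁻¹ * y ∈ H := by
        rw [Subgroup.mul_mem_iff_of_index_two hidx2, inv_mem_iff]
        exact iff_of_false hq hy
      have h1 : q⁻¹ * y * c = c * (q⁻¹ * y) := Subgroup.mem_centralizer_iff.mp hcC _ hyq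
      calc y * c = q * (q⁻¹ * y * c) := by group
        _ = (q * c) * (q⁻¹ * y) := by rw [h1]; exact (mul_assoc _ _ _).symm
        _ = c * q * (q⁻¹ * y) := by rw [hcomm]
        _ = c * y := by group
  by_cases hc1 : c = 1
  · exfalso
    apply hq
    rw [hmemH]
    have : τ q = q := by rw [hqc, hc1, mul_one]
    exact congrArg Subtype.val this
  obtain ⟨u, hu, huq⟩ : ∃ u ∈ Subgroup.centralizer (H : Set ↥Q), u * q ≠ q * u := by
    by_contra! h
    apply hq
    rw [← hcc, Subgroup.mem_centralizer_iff]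
    exact h
  have huq' : u * q * u⁻¹ = q * c := by
    rcases Cfsg.Agent.Lib.ExtraTwoQ.center_eq_pair hQ hcZ hc1 (Cfsg.Agent.Lib.ExtraTwoQ.comm_mem_center hQ u q) with h | h
    · exact absurd (mul_inv_eq_iff_eq_mul.mp (mul_inv_eq_one.mp h)) huq
    · rw [mul_inv_eq_iff_eq_mul.mp h]
      exact (Subgroup.mem_center_iff.mp hcZ q).symm
  have hagree : ∀ y : ↥Q, τ y = u * y * u⁻¹ := by
    have hcH : ∀ m ∈ H, u * m * u⁻¹ = m := fun m hm => by
      rw [← Subgroup.mem_centralizer_iff.mp hu m hm, mul_inv_cancel_right]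
    intro y
    by_cases hy : y ∈ H
    · rw [hτH y hy, hcH y hy]
    · have hyq : q⁻¹ * y ∈ H := by
        rw [Subgroup.mul_mem_iff_of_index_two hidx2, inv_mem_iff]
        exact iff_of_false hq hy
      calc τ y = τ (q * (q⁻¹ * y)) := by rw [mul_inv_cancel_left]
        _ = q * c * (q⁻¹ * y) := by rw [hτmul, hτH _ hyq, hqc]
        _ = (u * q * u⁻¹) * (u * (q⁻¹ * y) * u⁻¹) := by rw [huq', hcH _ hyq]
        _ = u * y * u⁻¹ := by group
  have ht : t = (u : G) * ((u : G)⁻¹ * t) := by group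
  rw [ht]
  refine Subgroup.mul_mem_sup u.2 (Subgroup.mem_centralizer_iff.mpr fun y hy => ?_)
  have h : t * y * t⁻¹ = (u : G) * y * (u : G)⁻¹ := congrArg Subtype.val (hagree ⟨y, hy⟩)
  calc y * ((u : G)⁻¹ * t) = (u : G)⁻¹ * ((u : G) * y * (u : G)⁻¹) * t := by group
    _ = (u : G)⁻¹ * (t * y * t⁻¹) * t := by rw [h]
    _ = (u : G)⁻¹ * t * y := by group

end Cfsg.Agent.S1756
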