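import Cfsg.Statements.S1757
import Mathlib

set_option autoImplicit false
open Cfsg

open scoped Pointwise

namespace Cfsg.Agent.S1757

/-- Let p be a prime and A, B p-subgroups of the finite group G, each of which meets every conjugate of itself other than itself trivially. Suppose the order of A is at most that of B, A and B intersect trivially, and B normalizes A. Then A and B commute elementwise. -/
theorem result {G : Type*} [Group G] [Finite G] (p : ℕ) [Fact p.Prime] (A B : Subgroup G)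
    (hA : IsPGroup p ↥A) (hB : IsPGroup p ↥B)
    (hAti : ∀ g : G, A.map (MulAut.conj g).toMonoidHom = A ∨ A.map (MulAut.conj g).toMonoidHom ⊓ A = ⊥)
    (hBti : ∀ g : G, B.map (MulAut.conj g).toMonoidHom = B ∨ B.map (MulAut.conj g).toMonoidHom ⊓ B = ⊥)
    (hle : Nat.card ↥A ≤ Nat.card ↥B) (hAB : A ⊓ B = ⊥) (hN : B ≤ Subgroup.normalizer (A : Set G)) : ⁅A, B⁆ = ⊥ := by
  have hdisj : Disjoint A B := disjoint_iff.mpr hAB
  by_cases hall : A ≤ Subgroup.normalizer (B : Set G)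
  · rw [Subgroup.commutator_eq_bot_iff_le_centralizer]
    intro a ha
    rw [Subgroup.mem_centralizer_iff]
    intro b hb
    have h1 : a * b * a⁻¹ * b⁻¹ ∈ A := by
      have := A.mul_mem ha ((Subgroup.mem_normalizer_iff.mp (hN hb) a⁻¹).mp (A.inv_mem ha))
      simpa [mul_assoc] using this
    have h2 : a * b * a⁻¹ * b⁻¹ ∈ B :=
      B.mul_mem ((Subgroup.mem_normalizer_iff.mp (hall ha) b).mp hb) (B.inv_mem hb)
    have h3 : a * b * a⁻¹ * b⁻¹ ∈ A ⊓ B := ⟨h1, h2⟩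
    rw [hAB, Subgroup.mem_bot, mul_inv_eq_one, mul_inv_eq_iff_eq_mul] at h3
    exact h3.symm
  exfalso
  let A0 : Subgroup G := A ⊓ Subgroup.normalizer (B : Set G)
  have hlt : A0 < A := lt_of_le_of_ne inf_le_left (fun h => hall (h ▸ inf_le_right))
  have hHset : ((A0 ⊔ B : Subgroup G) : Set G) = (A0 : Set G) * (B : Set G) :=
    Subgroup.coe_mul_of_left_le_normalizer_right A0 B inf_le_right
  have hPset : ((A ⊔ B : Subgroup G) : Set G) = (A : Set G) * (B : Set G) :=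
    Subgroup.coe_mul_of_right_le_normalizer_left A B hN
  have hP : IsPGroup p ↥(A ⊔ B) := IsPGroup.to_sup_of_normal_left' hA hB hN
  haveI : Group.IsNilpotent ↥(A ⊔ B) := hP.isNilpotent
  have hHP : (A0 ⊔ B).subgroupOf (A ⊔ B) ≠ ⊤ := by
    intro h
    rw [Subgroup.subgroupOf_eq_top] at h
    refine hlt.not_ge (fun a ha => ?_)
    have : a ∈ ((A0 ⊔ B : Subgroup G) : Set G) := h (Subgroup.mem_sup_left ha)
    rw [hHset] at this
    obtain ⟨a0, ha0, b, hb, rfl⟩ := this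
    have hbA : b ∈ A := by
      simpa using A.mul_mem (A.inv_mem ha0.1) ha
    have : b ∈ A ⊓ B := ⟨hbA, hb⟩
    rw [hAB, Subgroup.mem_bot] at this
    subst this
    simpa using ha0
  obtain ⟨x, hxn, hxH⟩ := SetLike.exists_of_lt
    (normalizerCondition_of_isNilpotent _ (lt_top_iff_ne_top.mpr hHP))
  obtain ⟨a, haA, b, hb, hxab⟩ : (x : G) ∈ (A : Set G) * (B : Set G) := hPset ▸ x.2
  have hconj : ∀ h ∈ A0 ⊔ B, a * h * a⁻¹ ∈ A0 ⊔ B := by
    intro h hh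
    have hbm : b⁻¹ * h * b ∈ A0 ⊔ B :=
      (A0 ⊔ B).mul_mem ((A0 ⊔ B).mul_mem ((A0 ⊔ B).inv_mem (Subgroup.mem_sup_right hb)) hh) (Subgroup.mem_sup_right hb)
    have hle : A0 ⊔ B ≤ A ⊔ B := sup_le_sup_right inf_le_left B
    have h4 := (Subgroup.mem_normalizer_iff.mp hxn ⟨_, hle hbm⟩).mp hbm
    rw [Subgroup.mem_subgroupOf] at h4
    have heq : ((x * ⟨b⁻¹ * h * b, hle hbm⟩ * x⁻¹ : ↥(A ⊔ B)) : G) = a * h * a⁻¹ := by
      push_cast
      rw [← hxab]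
      group
    rwa [heq] at h4
  have haB : a ∉ Subgroup.normalizer (B : Set G) := by
    intro h
    apply hxH
    rw [Subgroup.mem_subgroupOf, ← hxab]
    exact (A0 ⊔ B).mul_mem (Subgroup.mem_sup_left ⟨haA, h⟩) (Subgroup.mem_sup_right hb)
  have hB1 : B.map (MulAut.conj a).toMonoidHom ⊓ B = ⊥ := by
    rcases hBti a with h | h
    · exact absurd ((Subgroup.mem_normalizer_iff_map_conj_eq (g := a) (H := B)).mpr h) haB
    · exact h
  let f : ↥B × ↥B → ↥(A0 ⊔ B) := fun q =>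
    ⟨a * q.1 * a⁻¹ * q.2, (A0 ⊔ B).mul_mem (hconj _ (Subgroup.mem_sup_right q.1.2)) (Subgroup.mem_sup_right q.2.2)⟩
  have hf : Function.Injective f := by
    rintro ⟨b₁, c₁⟩ ⟨b₂, c₂⟩ he
    have he' : a * (b₁ : G) * a⁻¹ * c₁ = a * b₂ * a⁻¹ * c₂ := congrArg Subtype.val he
    have h5 : a * ((b₂ : G)⁻¹ * b₁) * a⁻¹ = (c₂ : G) * (c₁ : G)⁻¹ := by
      calc a * ((b₂ : G)⁻¹ * b₁) * a⁻¹
          = (a * (b₂ : G) * a⁻¹)⁻¹ * (a * (b₁ : G) * a⁻¹ * c₁) * (c₁ : G)⁻¹ := by group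
        _ = (a * (b₂ : G) * a⁻¹)⁻¹ * (a * (b₂ : G) * a⁻¹ * c₂) * (c₁ : G)⁻¹ := by rw [he']
        _ = (c₂ : G) * (c₁ : G)⁻¹ := by group
    have h6 : (c₂ : G) * (c₁ : G)⁻¹ ∈ B.map (MulAut.conj a).toMonoidHom ⊓ B :=
      ⟨⟨_, B.mul_mem (B.inv_mem b₂.2) b₁.2, h5⟩, B.mul_mem c₂.2 (B.inv_mem c₁.2)⟩
    rw [hB1, Subgroup.mem_bot] at h6
    have hc : c₂ = c₁ := Subtype.ext (mul_inv_eq_one.mp h6)
    subst hc
    have hb' : (b₁ : G) = b₂ := by simpa using he'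
    exact Prod.ext (Subtype.ext hb') rfl
  have hHcard : Nat.card ↥(A0 ⊔ B) ≤ Nat.card A0 * Nat.card B := by
    rw [← Nat.card_prod]
    refine Nat.card_le_card_of_surjective
      (fun q : ↥A0 × ↥B => (⟨q.1 * q.2, (A0 ⊔ B).mul_mem (Subgroup.mem_sup_left q.1.2) (Subgroup.mem_sup_right q.2.2)⟩ : ↥(A0 ⊔ B))) ?_
    rintro ⟨h, hh⟩
    obtain ⟨a0, ha0, b0, hb0, rfl⟩ : h ∈ (A0 : Set G) * (B : Set G) := hHset ▸ hh
    exact ⟨(⟨a0, ha0⟩, ⟨b0, hb0⟩), rfl⟩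
  have h7 := Nat.card_le_card_of_injective f hf
  rw [Nat.card_prod] at h7
  have hA0 : Nat.card A0 < Nat.card A := by
    refine lt_of_not_ge fun h => hlt.ne (Subgroup.eq_of_le_of_card_ge hlt.le h)
  have hBpos : 0 < Nat.card B := Nat.card_pos
  nlinarith [Nat.mul_le_mul_right (Nat.card B) (show Nat.card A0 + 1 ≤ Nat.card A from hA0)]

end Cfsg.Agent.S1757
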