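import Cfsg.Statements.S1784
import Mathlib
import Cfsg.Agent.Lib.LargeExtra.Setting
import Cfsg.Agent.Lib.Components.GenFitting

set_option autoImplicit false
open Cfsg

open scoped Pointwise

namespace Cfsg.Agent.S1784

open Subgroup
open Cfsg.Agent.Lib

variable {G : Type*} [Group G] [Finite G]

theorem gf_eq_pCore {H : Type*} [Group H] [Finite H]
    (hp : IsPGroup 2 ↥(Cfsg.generalizedFittingSubgroup H)) :
    Cfsg.generalizedFittingSubgroup H = Cfsg.pCore 2 H := by
  haveI : Fact (Nat.Prime 2) := ⟨Nat.prime_two⟩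
  haveI : (Cfsg.generalizedFittingSubgroup H).Normal := Components.generalizedFittingSubgroup_normal
  exact le_antisymm (PSolvable.le_pCore hp)
    ((Components.pCore_le_fittingSubgroup 2).trans le_sup_right)

theorem isExtraspecial_congr {A B : Type*} [Group A] [Group B] (e : A ≃* B) (h : Cfsg.IsExtraspecial 2 A) :
    Cfsg.IsExtraspecial 2 B := by
  have hZ : (center A).map e.toMonoidHom = center B := by
    ext b
    constructor
    · rintro ⟨a, ha, rfl⟩
      exact mem_center_iff.mpr fun c => e.symm.injective (by simpa using mem_center_iff.mp ha (e.symm c))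
    · intro hb
      exact ⟨e.symm b, mem_center_iff.mpr fun c => e.injective (by simpa using mem_center_iff.mp hb (e c)), by simp⟩
  refine ⟨⟨h.1.1.of_equiv e, ?_, ?_⟩, ?_⟩
  · rw [← hZ, ← h.1.2.1]
    exact (OrderIso.map_radical e.mapSubgroup).symm
  · rw [← hZ, ← h.1.2.2, commutator_def, commutator_def, map_commutator, map_top_of_surjective e.toMonoidHom e.surjective]
  · rw [← hZ, card_map_of_injective (f := e.toMonoidHom) e.injective]
    exact h.2

/-- The map `x ↦ O₂(C(x))`. -/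
def coreMap (x : G) : Subgroup G :=
  (Cfsg.pCore 2 ↥(centralizer ({x} : Set G))).map (centralizer ({x} : Set G)).subtype

theorem good_of (z : G) (hz : orderOf z = 2)
    (hE : Cfsg.IsExtraspecial 2 ↥(Cfsg.generalizedFittingSubgroup ↥(centralizer ({z} : Set G)))) :
    LargeExtra.Good ((Cfsg.generalizedFittingSubgroup ↥(centralizer ({z} : Set G))).map (centralizer ({z} : Set G)).subtype) z := by
  haveI : Fact (Nat.Prime 2) := ⟨Nat.prime_two⟩
  set C := centralizer ({z} : Set G) with hC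
  have heq := gf_eq_pCore (H := ↥C) hE.1.1
  have hQm : LargeExtra.IsCoreMap (coreMap (G := G)) := fun x => rfl
  have h1 : coreMap z = (Cfsg.generalizedFittingSubgroup ↥C).map C.subtype := by rw [heq]; rfl
  have e : ↥(Cfsg.generalizedFittingSubgroup ↥C) ≃* ↥(coreMap z) :=
    ((Cfsg.generalizedFittingSubgroup ↥C).equivMapOfInjective _ C.subtype_injective).trans (MulEquiv.subgroupCongr h1.symm)
  have hcz : centralizer ((coreMap z : Subgroup G) : Set G) ≤ coreMap z := by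
    intro g hg
    rw [h1] at hg ⊢
    have hzQ : (⟨z, mem_centralizer_singleton_iff.mpr rfl⟩ : ↥C) ∈ Cfsg.generalizedFittingSubgroup ↥C :=
      Components.centralizer_generalizedFittingSubgroup_le (mem_centralizer_iff.mpr fun y _ =>
        Subtype.ext (mem_centralizer_singleton_iff.mp y.2))
    have hgC : g ∈ C := mem_centralizer_singleton_iff.mpr (mem_centralizer_iff.mp hg z ⟨_, hzQ, rfl⟩).symm
    refine ⟨⟨g, hgC⟩, Components.centralizer_generalizedFittingSubgroup_le (mem_centralizer_iff.mpr fun y hy => ?_), rfl⟩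
    exact Subtype.ext (mem_centralizer_iff.mp hg y ⟨y, hy, rfl⟩)
  have h := hQm.good_conj hz (isExtraspecial_congr e hE) hcz 1
  rw [show (1 : G) * z * 1⁻¹ = z by simp] at h
  exact h1 ▸ h

/-- Part (a) in element form. -/
theorem closure_eq {Q : Subgroup G} {z : G} (h : LargeExtra.Good Q z) {α : G} (hα : α * α = 1)
    (hαz : α * z = z * α) (hαQ : α ∉ Q) (Q₀ : Subgroup G)
    (hQ₀ : ∀ q : G, q ∈ Q₀ ↔ (q ∈ Q ∧ α * q * α⁻¹ * q⁻¹ ∈ zpowers z)) :
    closure ((fun q : G => α * q * α⁻¹ * q⁻¹) '' (Q : Set G)) = (center ↥Q₀).map Q₀.subtype := by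
  have hαi : α⁻¹ = α := inv_eq_of_mul_eq_one_right hα
  set K := closure ((fun q : G => α * q * α⁻¹ * q⁻¹) '' (Q : Set G)) with hK
  have hKQ : K ≤ Q := (closure_le _).mpr (by
    rintro _ ⟨q, hq, rfl⟩; exact Q.mul_mem (h.norm α hαz q hq) (Q.inv_mem hq))
  have hDQ₀ : ∀ q ∈ Q, α * q * α⁻¹ * q⁻¹ ∈ Q₀ := by
    intro q hq
    refine (hQ₀ _).mpr ⟨hKQ (subset_closure ⟨q, hq, rfl⟩), ?_⟩
    have hd : α * (α * q * α⁻¹ * q⁻¹) * α⁻¹ = (α * q * α⁻¹ * q⁻¹)⁻¹ := by
      calc α * (α * q * α⁻¹ * q⁻¹) * α⁻¹ = (α * α) * q * α⁻¹ * q⁻¹ * α⁻¹ := by group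
        _ = q * α⁻¹ * q⁻¹ * α⁻¹ := by rw [hα, one_mul]
        _ = (α * q * α * q⁻¹)⁻¹ := by group
        _ = _ := by rw [hαi]
    rw [hd, ← mul_inv_rev]
    rcases h.sq_cases (hKQ (subset_closure ⟨q, hq, rfl⟩)) with e | e <;> rw [e]
    · rw [inv_one]; exact one_mem _
    · exact inv_mem (mem_zpowers z)
  have hKQ₀ : K ≤ Q₀ := (closure_le _).mpr (by rintro _ ⟨q, hq, rfl⟩; exact hDQ₀ q hq)
  have hzK : z ∈ K := by
    obtain ⟨r, hr, hr1⟩ : ∃ r ∈ Q, α * r * α⁻¹ * r⁻¹ ≠ 1 := by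
      by_contra! hc
      exact hαQ (h.cent α fun q hq => mul_inv_eq_iff_eq_mul.mp (mul_inv_eq_one.mp (hc q hq)))
    set d := α * r * α⁻¹ * r⁻¹ with hd
    have hdK : d ∈ K := subset_closure ⟨r, hr, rfl⟩
    by_cases hdz : d = z
    · exact hdz ▸ hdK
    obtain ⟨q, hq, hqd⟩ : ∃ q ∈ Q, q * d * q⁻¹ ≠ d := by
      by_contra! hc
      rcases h.centre d (hKQ hdK) (fun b hb => (mul_inv_eq_iff_eq_mul.mp (hc b hb)).symm) with e | e
      · exact hr1 e
      · exact hdz e
    have hqK : q * d * q⁻¹ ∈ K := by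
      have e : q * d * q⁻¹ = (α * q * α⁻¹ * q⁻¹)⁻¹ * (α * (q * r) * α⁻¹ * (q * r)⁻¹) := by rw [hd]; group
      rw [e]
      exact K.mul_mem (K.inv_mem (subset_closure ⟨q, hq, rfl⟩)) (subset_closure ⟨q * r, Q.mul_mem hq hr, rfl⟩)
    rw [(h.comm q hq d (hKQ hdK)).resolve_left hqd] at hqK
    simpa using K.mul_mem (K.inv_mem hdK) hqK
  -- centraliser of `K` in `Q`
  have hcK : ∀ q ∈ Q, (∀ a ∈ K, q * a = a * q) → q ∈ Q₀ := by
    intro q hq hc
    have hσ := h.norm α hαz q hq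
    refine (hQ₀ q).mpr ⟨hq, ?_⟩
    have hcen : ∀ b ∈ Q, (α * q * α⁻¹ * q⁻¹) * b = b * (α * q * α⁻¹ * q⁻¹) := by
      intro b hb
      have hσb := h.norm α hαz b hb
      have h1 := hc _ (subset_closure ⟨b, hb, rfl⟩ : α * b * α⁻¹ * b⁻¹ ∈ K)
      have e1 : q * (α * b * α⁻¹) * q⁻¹ * (q * b⁻¹ * q⁻¹) = (α * b * α⁻¹) * b⁻¹ := by
        calc q * (α * b * α⁻¹) * q⁻¹ * (q * b⁻¹ * q⁻¹) = q * (α * b * α⁻¹ * b⁻¹) * q⁻¹ := by group
          _ = _ := by rw [h1, mul_inv_cancel_right]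
      have e2 : α * (α * q * α⁻¹ * b * (α * q * α⁻¹)⁻¹) * α⁻¹ = q * (α * b * α⁻¹) * q⁻¹ := by
        simp only [hαi, mul_inv_rev]
        calc α * (α * q * α * b * (α * (q⁻¹ * α))) * α = (α * α) * q * α * b * α * q⁻¹ * (α * α) := by group
          _ = _ := by rw [hα]; group
      have key : (α * q * α⁻¹) * b * (α * q * α⁻¹)⁻¹ = q * b * q⁻¹ := by
        rcases h.comm _ hσ b hb with s1 | s1 <;> rcases h.comm q hq b hb with s2 | s2
        · rw [s1, s2]
        · exfalso
          rw [s1] at e2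
          rw [← e2] at e1
          have s2' : q * b⁻¹ * q⁻¹ = (q * b * q⁻¹)⁻¹ := by group
          rw [s2', s2, mul_inv_rev] at e1
          have h3 := mul_left_cancel e1
          exact h.x_ne (by simpa using h3)
        · exfalso
          rw [s1] at e2
          rw [← e2] at e1
          have s2' : q * b⁻¹ * q⁻¹ = (q * b * q⁻¹)⁻¹ := by group
          rw [s2', s2] at e1
          have e3 : α * (b * z) * α⁻¹ = α * b * α⁻¹ * z := by
            rw [mul_assoc α b z |>.symm, mul_assoc (α * b), show z * α⁻¹ = α⁻¹ * z by rw [hαi, hαz], ← mul_assoc]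
          rw [e3] at e1
          have h3 : (α * b * α⁻¹) * (z * b⁻¹) = (α * b * α⁻¹) * b⁻¹ := by rw [← e1, mul_assoc (α * b * α⁻¹)]
          have h4 := mul_left_cancel h3
          exact h.x_ne (mul_right_cancel (h4.trans (one_mul b⁻¹).symm))
        · rw [s1, s2]
      rw [← mul_inv_eq_iff_eq_mul]
      calc (α * q * α⁻¹ * q⁻¹) * b * (α * q * α⁻¹ * q⁻¹)⁻¹
          = (α * q * α⁻¹) * (q⁻¹ * b * q) * (α * q * α⁻¹)⁻¹ := by group
        _ = q * (q⁻¹ * b * q) * q⁻¹ := by
            rcases h.comm q⁻¹ (Q.inv_mem hq) b hb with s | s <;> rw [inv_inv] at s <;> rw [s]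
            · exact key
            · rw [show (α * q * α⁻¹) * (b * z) * (α * q * α⁻¹)⁻¹ = ((α * q * α⁻¹) * b * (α * q * α⁻¹)⁻¹) * ((α * q * α⁻¹) * z * (α * q * α⁻¹)⁻¹) by group,
                show q * (b * z) * q⁻¹ = (q * b * q⁻¹) * (q * z * q⁻¹) by group, key,
                h.le_cent _ hσ, h.le_cent q hq, mul_inv_cancel_right, mul_inv_cancel_right]
        _ = b := by group
    rcases h.centre _ (Q.mul_mem hσ (Q.inv_mem hq)) hcen with e | e <;> rw [e]
    · exact one_mem _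
    · exact mem_zpowers z
  -- every element of `K` centralises `Q₀`
  have hK0 : ∀ a ∈ K, ∀ q ∈ Q₀, a * q = q * a := by
    intro a ha q hq
    obtain ⟨hqQ, hqz⟩ := (hQ₀ q).mp hq
    have hle : K ≤ centralizer ({q} : Set G) := by
      rw [hK, closure_le]
      rintro _ ⟨b, hb, rfl⟩
      refine mem_centralizer_singleton_iff.mpr ?_
      show α * b * α⁻¹ * b⁻¹ * q = q * (α * b * α⁻¹ * b⁻¹)
      have hcomm2 : q * b * q⁻¹ = b ∨ q * b * q⁻¹ = b * z := h.comm q hqQ b hb
      have hσq : α * q * α⁻¹ = q ∨ α * q * α⁻¹ = z * q := by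
        rcases LargeExtra.eq_or_of_mem_zpowers h.x_sq hqz with e | e
        · exact Or.inl (mul_inv_eq_one.mp e)
        · exact Or.inr (mul_inv_eq_iff_eq_mul.mp e)
      have hqσb : q * (α * b * α⁻¹) * q⁻¹ = α * (q * b * q⁻¹) * α⁻¹ := by
        have hz' : ∀ w ∈ Q, z * w * z⁻¹ = w := fun w hw => by rw [← h.le_cent w hw, mul_inv_cancel_right]
        rcases hσq with e | e
        · calc q * (α * b * α⁻¹) * q⁻¹ = (α * q * α⁻¹) * (α * b * α⁻¹) * (α * q * α⁻¹)⁻¹ := by rw [e]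
            _ = _ := by group
        · calc q * (α * b * α⁻¹) * q⁻¹ = z * (q * (α * b * α⁻¹) * q⁻¹) * z⁻¹ :=
                (hz' _ (Q.mul_mem (Q.mul_mem hqQ (h.norm α hαz b hb)) (Q.inv_mem hqQ))).symm
            _ = (α * q * α⁻¹) * (α * b * α⁻¹) * (α * q * α⁻¹)⁻¹ := by rw [e]; group
            _ = _ := by group
      symm
      rw [← mul_inv_eq_iff_eq_mul]
      calc q * (α * b * α⁻¹ * b⁻¹) * q⁻¹ = (q * (α * b * α⁻¹) * q⁻¹) * (q * b * q⁻¹)⁻¹ := by group
        _ = α * (q * b * q⁻¹) * α⁻¹ * (q * b * q⁻¹)⁻¹ := by rw [hqσb]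
        _ = α * b * α⁻¹ * b⁻¹ := by
          rcases hcomm2 with e | e <;> rw [e]
          calc α * (b * z) * α⁻¹ * (b * z)⁻¹ = α * b * (z * α⁻¹) * z⁻¹ * b⁻¹ := by group
            _ = α * b * (α⁻¹ * z) * z⁻¹ * b⁻¹ := by rw [hαi, hαz]
            _ = _ := by group
    exact mem_centralizer_singleton_iff.mp (hle ha)
  refine le_antisymm (fun a ha => ⟨⟨a, hKQ₀ ha⟩, mem_center_iff.mpr fun q => Subtype.ext (hK0 a ha q q.2).symm, rfl⟩) ?_
  rintro _ ⟨a, ha, rfl⟩
  have haQ : (a : G) ∈ Q := ((hQ₀ a).mp a.2).1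
  by_contra hnK
  obtain ⟨p, hp, hpK, hpa⟩ := LargeExtra.exists_separating h K hKQ hzK haQ hnK
  have hp0 : p ∈ Q₀ := hcK p hp hpK
  have hcom : p * a = a * p := congrArg Subtype.val (mem_center_iff.mp ha ⟨p, hp0⟩)
  rw [hcom, mul_inv_cancel_right] at hpa
  exact h.x_ne (by simpa using hpa.symm)


/-- Let G be a finite group and let z be an involution of G such that Q, the generalized Fitting subgroup of the centralizer C of z, is a 2-group of symplectic type (every characteristic abelian subgroup of Q is cyclic); suppose Q is extraspecial, and view Q inside G. Let α be an involution of C that is not in Q, and let Q₀ be the subgroup of those q ∈ Q whose commutator with α lies in the subgroup generated by z. Then (a) the subgroup generated by the commutators α q α⁻¹ q⁻¹, q ∈ Q, equals the centre of Q₀; and (b) if Q₀ is not contained in the product of the centralizer of α in Q with the subgroup generated by z, then some element of Q conjugates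 α to α z. -/
theorem result {G : Type*} [Group G] [Finite G] (z : G) (hz : orderOf z = 2) (hQ : Cfsg.IsOfSymplecticType ↥(Cfsg.generalizedFittingSubgroup ↥(Subgroup.centralizer ({z} : Set G)))) (hE : Cfsg.IsExtraspecial 2 ↥(Cfsg.generalizedFittingSubgroup ↥(Subgroup.centralizer ({z} : Set G))))
    (α : G) (hα : orderOf α = 2) (hαC : α ∈ Subgroup.centralizer ({z} : Set G)) (hαQ : α ∉ (Cfsg.generalizedFittingSubgroup ↥(Subgroup.centralizer ({z} : Set G))).map (Subgroup.centralizer ({z} : Set G)).subtype)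
    (Q₀ : Subgroup G) (hQ₀ : ∀ q : G, q ∈ Q₀ ↔ (q ∈ (Cfsg.generalizedFittingSubgroup ↥(Subgroup.centralizer ({z} : Set G))).map (Subgroup.centralizer ({z} : Set G)).subtype ∧ α * q * α⁻¹ * q⁻¹ ∈ Subgroup.zpowers z)) :
    Subgroup.closure ((fun q : G => α * q * α⁻¹ * q⁻¹) '' ((Cfsg.generalizedFittingSubgroup ↥(Subgroup.centralizer ({z} : Set G))).map (Subgroup.centralizer ({z} : Set G)).subtype : Set G)) = (Subgroup.center ↥Q₀).map Q₀.subtype ∧
      (¬ Q₀ ≤ ((Cfsg.generalizedFittingSubgroup ↥(Subgroup.centralizer ({z} : Set G))).map (Subgroup.centralizer ({z} : Set G)).subtype ⊓ Subgroup.centralizer ({α} : Set G)) ⊔ Subgroup.zpowers z →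
        ∃ q ∈ (Cfsg.generalizedFittingSubgroup ↥(Subgroup.centralizer ({z} : Set G))).map (Subgroup.centralizer ({z} : Set G)).subtype, q * α * q⁻¹ = α * z) := by
  have h := good_of z hz hE
  have hαα : α * α = 1 := by rw [← pow_two, ← hα]; exact pow_orderOf_eq_one α
  have hαz : α * z = z * α := Subgroup.mem_centralizer_singleton_iff.mp hαC
  refine ⟨closure_eq h hαα hαz hαQ Q₀ hQ₀, fun hn => ?_⟩
  obtain ⟨q, hq0, hqn⟩ := SetLike.not_le_iff_exists.mp hn
  obtain ⟨hqQ, hqz⟩ := (hQ₀ q).mp hq0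
  refine ⟨q, hqQ, ?_⟩
  rcases Cfsg.Agent.Lib.LargeExtra.eq_or_of_mem_zpowers h.x_sq hqz with e | e
  · exact absurd (Subgroup.mem_sup_left (Subgroup.mem_inf.mpr ⟨hqQ, Subgroup.mem_centralizer_singleton_iff.mpr
      (mul_inv_eq_iff_eq_mul.mp (mul_inv_eq_one.mp e)).symm⟩)) hqn
  · have hαi : α⁻¹ = α := inv_eq_of_mul_eq_one_right hαα
    rw [hαi] at e
    calc q * α * q⁻¹ = α * (α * q * α * q⁻¹) := by rw [← mul_assoc, ← mul_assoc, ← mul_assoc, hαα, one_mul]
      _ = α * z := by rw [e]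

end Cfsg.Agent.S1784
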