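import Cfsg.Statements.S1774
import Mathlib
import Cfsg.Agent.S1784
import Cfsg.Agent.Lib.PGroup.Critical

set_option autoImplicit false
open Cfsg

open scoped Pointwise

namespace Cfsg.Agent.S1774

open Subgroup
open Cfsg.Agent.Lib
open scoped IsMulCommutative commutatorElement

universe u

/-- Symplectic type, in the form in which it is inherited by characteristic subgroups. -/
def SymplecticExpFour (T : Type u) [Group T] : Prop :=
  Cfsg.IsOfSymplecticType T ∧ ∀ t : T, t ^ 4 = 1

theorem char_map {T : Type u} [Group T] {C : Subgroup T} [hC : C.Characteristic] {A : Subgroup ↥C}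
    (hA : A.Characteristic) : (A.map C.subtype).Characteristic := by
  refine characteristic_iff_map_le.mpr fun ϕ => ?_
  let e : ↥C ≃* ↥C := (ϕ.subgroupMap C).trans (MulEquiv.subgroupCongr (characteristic_iff_map_eq.mp hC ϕ))
  rintro _ ⟨_, ⟨a, ha, rfl⟩, rfl⟩
  exact ⟨e a, characteristic_iff_map_le.mp hA e ⟨a, ha, rfl⟩, rfl⟩

theorem symplectic_of_char {T : Type u} [Group T] (h : SymplecticExpFour T) (C : Subgroup T)
    [C.Characteristic] : SymplecticExpFour ↥C := by
  refine ⟨⟨h.1.1.to_subgroup C, fun A hA hAc => ?_⟩, fun t => Subtype.ext (by simpa using h.2 t)⟩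
  haveI := hAc
  have hc : IsCyclic ↥(A.map C.subtype) := h.1.2 _ (char_map hA) ⟨⟨by
    rintro ⟨_, a, ha, rfl⟩ ⟨_, b, hb, rfl⟩
    exact Subtype.ext (show ((a : T) * b) = (b : T) * a from congrArg (fun q : ↥A => ((q : ↥C) : T)) (mul_comm' (⟨a, ha⟩ : ↥A) ⟨b, hb⟩))⟩⟩
  exact ((A.equivMapOfInjective C.subtype C.subtype_injective).isCyclic).mpr hc

theorem unique_inv {T : Type u} [Group T] [Finite T] {B : Subgroup T} (hB : IsCyclic ↥B) {x y : T}
    (hx : x ∈ B) (hy : y ∈ B) (hx2 : x * x = 1) (hy2 : y * y = 1) (hy1 : y ≠ 1) : x = 1 ∨ x = y := by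
  classical
  haveI : Fintype ↥B := Fintype.ofFinite _
  by_contra! h
  have hle := hB.card_pow_eq_one_le (α := ↥B) (n := 2) (by norm_num)
  have h3 : ({1, ⟨x, hx⟩, ⟨y, hy⟩} : Finset ↥B) ⊆ Finset.univ.filter (fun a : ↥B => a ^ 2 = 1) := by
    intro a ha
    simp only [Finset.mem_insert, Finset.mem_singleton] at ha
    simp only [Finset.mem_filter, Finset.mem_univ, true_and]
    rcases ha with rfl | rfl | rfl
    · exact one_pow 2
    · exact Subtype.ext (by simpa [sq] using hx2)
    · exact Subtype.ext (by simpa [sq] using hy2)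
  have := Finset.card_le_card h3
  rw [Finset.card_insert_of_notMem, Finset.card_insert_of_notMem, Finset.card_singleton] at this
  · omega
  · simp only [Finset.mem_singleton]; exact fun e => h.2 (congrArg Subtype.val e)
  · simp only [Finset.mem_insert, Finset.mem_singleton, not_or]
    exact ⟨fun e => h.1 (congrArg Subtype.val e).symm, fun e => hy1 (congrArg Subtype.val e).symm⟩

theorem commutator_le_center (n : ℕ) : ∀ (T : Type u) [Group T] [Finite T], Nat.card T = n →
    SymplecticExpFour T → commutator T ≤ center T := by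
  induction n using Nat.strong_induction_on with
  | _ n ih =>
    intro T _ _ hn hT
    classical
    haveI : Fact (Nat.Prime 2) := ⟨Nat.prime_two⟩
    by_contra hnc
    set B : Subgroup T := Subgroup.upperCentralSeries T 2 ⊓ commutator T with hB
    haveI hBchar : B.Characteristic := by
      refine characteristic_iff_map_le.mpr fun ϕ => (map_inf_le _ _ _).trans ?_
      exact inf_le_inf (characteristic_iff_map_le.mp inferInstance ϕ) (characteristic_iff_map_le.mp inferInstance ϕ)
    have hcomm2 : ∀ b ∈ Subgroup.upperCentralSeries T 2, ∀ y : T, b * y * b⁻¹ * y⁻¹ ∈ center T := by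
      intro b hb y
      have := Subgroup.mem_upperCentralSeries_succ_iff.mp hb y
      rwa [Subgroup.upperCentralSeries_one] at this
    have hkill : ∀ b ∈ Subgroup.upperCentralSeries T 2, ∀ c ∈ commutator T, b * c = c * b := by
      intro b hb c hc
      let f : T →* ↥(center T) :=
        { toFun := fun y => ⟨_, hcomm2 b hb y⟩
          map_one' := Subtype.ext (by simp)
          map_mul' := fun u v => Subtype.ext (by
            show b * (u * v) * b⁻¹ * (u * v)⁻¹ = (b * u * b⁻¹ * u⁻¹) * (b * v * b⁻¹ * v⁻¹)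
            have h := mem_center_iff.mp (hcomm2 b hb v) u
            calc b * (u * v) * b⁻¹ * (u * v)⁻¹ = (b * u * b⁻¹) * (b * v * b⁻¹ * v⁻¹) * u⁻¹ := by group
              _ = (b * u * b⁻¹ * u⁻¹) * (u * (b * v * b⁻¹ * v⁻¹)) * u⁻¹ := by group
              _ = (b * u * b⁻¹ * u⁻¹) * ((b * v * b⁻¹ * v⁻¹) * u) * u⁻¹ := by rw [h]
              _ = _ := by group) }
      have h1 : f c = 1 := Abelianization.commutator_subset_ker f hc
      exact mul_inv_eq_iff_eq_mul.mp (mul_inv_eq_one.mp (congrArg Subtype.val h1))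
    have hBc : IsCyclic ↥B := hT.1.2 B hBchar
      ⟨⟨fun u v => Subtype.ext (hkill u u.2.1 v v.2.2)⟩⟩
    haveI : Nontrivial ↥((commutator T).map (QuotientGroup.mk' (center T))) := by
      rw [Subgroup.nontrivial_iff_ne_bot, Ne, Subgroup.map_eq_bot_iff, QuotientGroup.ker_mk']
      exact hnc
    haveI : ((commutator T).map (QuotientGroup.mk' (center T))).Normal :=
      Normal.map inferInstance _ (QuotientGroup.mk'_surjective _)
    obtain ⟨wbar, ⟨w, hwc, rfl⟩, hwz, hw1⟩ := Critical.exists_center_mem (hT.1.1.to_quotient (center T))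
      ((Subgroup.nontrivial_iff_ne_bot _).mp (inferInstance : Nontrivial ↥((commutator T).map (QuotientGroup.mk' (center T)))))
    have hwnc : w ∉ center T := fun h => hw1 ((QuotientGroup.eq_one_iff w).mpr h)
    have hwB : w ∈ B := by
      refine ⟨Subgroup.mem_upperCentralSeries_succ_iff.mpr fun y => ?_, hwc⟩
      rw [Subgroup.upperCentralSeries_one]
      refine (QuotientGroup.eq_one_iff (N := center T) _).mp ?_
      show QuotientGroup.mk' (center T) (w * y * w⁻¹ * y⁻¹) = 1
      rw [map_mul, map_mul, map_mul, map_inv, map_inv, ← mem_center_iff.mp hwz, mul_inv_cancel_right, mul_inv_cancel]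
    haveI : B.Normal := inferInstance
    have hconjB : ∀ y b : T, b ∈ B → y * b * y⁻¹ ∈ B := fun y b hb => Normal.conj_mem inferInstance b hb y
    have hw2 : w * w ≠ 1 := by
      intro h
      refine hwnc (mem_center_iff.mpr fun y => mul_inv_eq_iff_eq_mul.mp ?_)
      rcases unique_inv hBc (hconjB y w hwB) hwB (by simpa [mul_assoc] using congrArg (fun t => y * t * y⁻¹) h) h
        (fun e => hwnc (e ▸ one_mem _)) with e | e
      · exact absurd (by simpa using e : w = 1) (fun e' => hwnc (e' ▸ one_mem _))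
      · exact e
    set z := w * w with hz
    have hz2 : z * z = 1 := by
      have := hT.2 w
      simpa [z, pow_succ, mul_assoc] using this
    have hzB : z ∈ B := B.mul_mem hwB hwB
    have hzcen : z ∈ center T := by
      refine mem_center_iff.mpr fun y => mul_inv_eq_iff_eq_mul.mp ?_
      rcases unique_inv hBc (hconjB y z hzB) hzB (by simpa [mul_assoc] using congrArg (fun t => y * t * y⁻¹) hz2) hz2 hw2 with e | e
      · exact absurd (by simpa using e : z = 1) hw2
      · exact e
    have hinvB : ∀ t ∈ B, t * t = 1 → t = 1 ∨ t = z := fun t ht h => unique_inv hBc ht hzB h hz2 hw2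
    have hcenz : ∀ t ∈ center T, t * t = 1 → t = 1 ∨ t = z := fun t ht h =>
      unique_inv (hT.1.2 (center T) inferInstance inferInstance) ht hzcen h hz2 hw2
    -- the inverting elements
    have hflip : ∀ y : T, y * w ≠ w * y → y * w * y⁻¹ = z * w := by
      intro y hy
      have htB : y * w * y⁻¹ * w⁻¹ ∈ B := B.mul_mem (hconjB y w hwB) (B.inv_mem hwB)
      have htC : y * w * y⁻¹ * w⁻¹ ∈ center T := by
        have := inv_mem (hcomm2 w hwB.1 y)
        simpa [mul_assoc] using this
      set t := y * w * y⁻¹ * w⁻¹ with ht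
      have ht2 : t * t = 1 := by
        have e1 : (t * w) * (t * w) = z := by
          rw [ht, inv_mul_cancel_right]
          calc y * w * y⁻¹ * (y * w * y⁻¹) = y * z * y⁻¹ := by simp [z, mul_assoc]
            _ = z := by rw [mem_center_iff.mp hzcen y, mul_inv_cancel_right]
        have e2 : (t * w) * (t * w) = (t * t) * z := by
          calc (t * w) * (t * w) = t * (w * t) * w := by group
            _ = t * (t * w) * w := by rw [mem_center_iff.mp htC w]
            _ = _ := by simp [z, mul_assoc]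
        exact mul_eq_right.mp (e2.symm.trans e1)
      rcases hcenz t htC ht2 with e | e
      · exact absurd (mul_inv_eq_iff_eq_mul.mp (mul_inv_eq_one.mp e)) hy
      · exact mul_inv_eq_iff_eq_mul.mp e
    have hBw : ∀ b ∈ B, ∀ c : T, c * w = w * c → c * b = b * c := by
      intro b hb c hc
      have hbc : b * w = w * b := congrArg Subtype.val ((IsCyclic.isMulCommutative (α := ↥B)).is_comm.comm ⟨b, hb⟩ ⟨w, hwB⟩)
      have hcz : Commute c z := Commute.mul_right hc hc
      by_cases h2 : b * b = 1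
      · rcases hinvB b hb h2 with rfl | rfl
        · simp
        · exact hcz
      · have hb4 : (b * b) * (b * b) = 1 := by
          have := hT.2 b; simpa [pow_succ, mul_assoc] using this
        have hbb : b * b = z := (hinvB _ (B.mul_mem hb hb) hb4).resolve_left h2
        have hbw2 : (b * w) * (b * w) = 1 := by
          calc (b * w) * (b * w) = b * (w * b) * w := by group
            _ = b * (b * w) * w := by rw [hbc]
            _ = (b * b) * (w * w) := by group
            _ = 1 := by rw [hbb]; exact hz2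
        rcases hinvB _ (B.mul_mem hb hwB) hbw2 with e | e
        · rw [eq_inv_of_mul_eq_one_left e]; exact Commute.inv_right hc
        · rw [eq_mul_inv_of_mul_eq e]; exact hcz.mul_right (Commute.inv_right hc)
    set C : Subgroup T := centralizer (B : Set T) with hC
    have hmemC : ∀ c : T, c ∈ C ↔ c * w = w * c := fun c =>
      ⟨fun h => (mem_centralizer_iff.mp h w hwB).symm, fun h => mem_centralizer_iff.mpr fun b hb => (hBw b hb c h).symm⟩
    obtain ⟨y, hy⟩ : ∃ y, y * w ≠ w * y := by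
      by_contra! h
      exact hwnc (mem_center_iff.mpr h)
    have hCne : C ≠ ⊤ := fun h => hy ((hmemC y).mp (h ▸ mem_top y))
    have hwC : w ∈ C := (hmemC w).mpr rfl
    have hlt : Nat.card ↥C < n := hn ▸ lt_of_le_of_ne (card_le_card_group C)
      (fun h => hCne (eq_top_of_card_eq C h))
    have hCab := ih _ hlt ↥C rfl (symplectic_of_char hT C)
    -- in `C` commutators and squares lie in `⟨z⟩`
    have hcenC : ∀ t : ↥C, t ∈ center ↥C → t * t = 1 → (t : T) = 1 ∨ (t : T) = z := by
      intro t ht h2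
      have hzC : (⟨z, C.mul_mem hwC hwC⟩ : ↥C) ∈ center ↥C :=
        mem_center_iff.mpr fun c => Subtype.ext (mem_center_iff.mp hzcen c)
      rcases unique_inv ((symplectic_of_char hT C).1.2 (center ↥C) inferInstance inferInstance) ht hzC h2
        (Subtype.ext hz2) (fun e => hw2 (congrArg Subtype.val e)) with e | e
      · exact Or.inl (congrArg Subtype.val e)
      · exact Or.inr (congrArg Subtype.val e)
    have hCsq : ∀ a : ↥C, a * a ∈ center ↥C ∧ ((a : T) * a = 1 ∨ (a : T) * a = z) ∧ ∀ b : ↥C, ((a * b * a⁻¹ * b⁻¹ : ↥C) : T) = 1 ∨ ((a * b * a⁻¹ * b⁻¹ : ↥C) : T) = z := by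
      have hcc : ∀ a b : ↥C, (a * b * a⁻¹ * b⁻¹) * (a * b * a⁻¹ * b⁻¹) = 1 ∧ a * b * a⁻¹ * b⁻¹ ∈ center ↥C := by
        intro a b
        have h1 : ∀ a b : ↥C, a * b * a⁻¹ * b⁻¹ ∈ center ↥C := fun a b => hCab (by
          rw [_root_.commutator_def]; exact commutator_mem_commutator (mem_top a) (mem_top b))
        refine ⟨?_, h1 a b⟩
        set t := b * a * b⁻¹ * a⁻¹ with htdef
        have htc : ∀ x, Commute t x := fun x => (mem_center_iff.mp (h1 b a) x).symm
        have hba : b * a = t * (a * b) := by rw [htdef]; group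
        have hsqc : (b * b) * (a * a) = t ^ 4 * ((a * a) * (b * b)) := by
          calc (b * b) * (a * a) = b * (b * a) * a := by group
            _ = b * (t * (a * b)) * a := by rw [hba]
            _ = (b * t) * a * (b * a) := by group
            _ = (t * b) * a * (t * (a * b)) := by rw [(htc b).eq, hba]
            _ = t * (b * a) * t * (a * b) := by group
            _ = t * (t * (a * b)) * t * (a * b) := by rw [hba]
            _ = t * t * ((a * b) * t) * (a * b) := by group
            _ = t * t * (t * (a * b)) * (a * b) := by rw [← (htc (a * b)).eq]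
            _ = t * t * t * (a * (b * a) * b) := by group
            _ = t * t * t * (a * (t * (a * b)) * b) := by rw [hba]
            _ = t * t * t * ((a * t) * (a * b) * b) := by group
            _ = t * t * t * ((t * a) * (a * b) * b) := by rw [← (htc a).eq]
            _ = _ := by simp [pow_succ, mul_assoc]
        have ht4 : t ^ 4 = 1 := (symplectic_of_char hT C).2 t
        rw [ht4, one_mul] at hsqc
        have e1 : (a * b) * (a * b) = t * ((a * a) * (b * b)) := by
          calc (a * b) * (a * b) = a * (b * a) * b := by group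
            _ = a * (t * (a * b)) * b := by rw [hba]
            _ = (a * t) * (a * b) * b := by group
            _ = (t * a) * (a * b) * b := by rw [← (htc a).eq]
            _ = _ := by simp [mul_assoc]
        have e2 : t * t = 1 := by
          have h4 := (symplectic_of_char hT C).2 (a * b)
          rw [show (4 : ℕ) = 2 * 2 from rfl, pow_mul, sq, sq, e1] at h4
          have hab : ((a * a) * (b * b)) * ((a * a) * (b * b)) = 1 := by
            calc ((a * a) * (b * b)) * ((a * a) * (b * b)) = (a * a) * ((b * b) * (a * a)) * (b * b) := by group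
              _ = (a * a * a * a) * (b * b * b * b) := by rw [hsqc]; group
              _ = 1 := by
                have ha4 := (symplectic_of_char hT C).2 a
                have hb4 := (symplectic_of_char hT C).2 b
                simp only [pow_succ, pow_zero, one_mul] at ha4 hb4
                rw [ha4, hb4, one_mul]
          calc t * t = t * t * (((a * a) * (b * b)) * ((a * a) * (b * b))) := by rw [hab, mul_one]
            _ = t * (t * ((a * a) * (b * b))) * ((a * a) * (b * b)) := by group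
            _ = t * (((a * a) * (b * b)) * t) * ((a * a) * (b * b)) := by rw [(htc ((a * a) * (b * b))).eq]
            _ = (t * ((a * a) * (b * b))) * (t * ((a * a) * (b * b))) := by simp only [mul_assoc]
            _ = 1 := h4
        have : a * b * a⁻¹ * b⁻¹ = t⁻¹ := by rw [htdef]; group
        rw [this, ← mul_inv_rev, e2, inv_one]
      intro a
      have ha2 : a * a ∈ center ↥C := by
        refine mem_center_iff.mpr fun b => ?_
        have h1 := (hcc a b).1
        have hc := mem_center_iff.mp (hcc a b).2 a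
        symm
        rw [← mul_inv_eq_iff_eq_mul]
        calc a * a * b * (a * a)⁻¹ = (a * (a * b * a⁻¹ * b⁻¹) * a⁻¹) * (a * b * a⁻¹ * b⁻¹) * b := by group
          _ = b := by rw [hc, mul_inv_cancel_right, h1, one_mul]
      refine ⟨ha2, ?_, fun b => hcenC _ (hcc a b).2 (hcc a b).1⟩
      exact hcenC _ ha2 (by have := (symplectic_of_char hT C).2 a; simpa [pow_succ, mul_assoc] using this)
    -- modulo `⟨z⟩`
    haveI : (zpowers z).Normal := ⟨fun t ht g => by
      obtain ⟨k, rfl⟩ := mem_zpowers_iff.mp ht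
      have hcg : Commute g (z ^ k) := Commute.zpow_right (mem_center_iff.mp hzcen g) k
      rw [hcg.eq, mul_inv_cancel_right]; exact zpow_mem (mem_zpowers z) k⟩
    set π := QuotientGroup.mk' (zpowers z) with hπ
    have hπ1 : ∀ t, (t = 1 ∨ t = z) → π t = 1 := fun t ht => (QuotientGroup.eq_one_iff t).mpr (by
      rcases ht with rfl | rfl
      exacts [one_mem _, mem_zpowers _])
    have hπC : ∀ a ∈ C, ∀ b ∈ C, Commute (π a) (π b) := by
      intro a ha b hb
      have h := hπ1 _ ((hCsq ⟨a, ha⟩).2.2 ⟨b, hb⟩)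
      change π (a * b * a⁻¹ * b⁻¹) = 1 at h
      simp only [map_mul, map_inv] at h
      exact mul_inv_eq_iff_eq_mul.mp (mul_inv_eq_one.mp h)
    haveI : C.Normal := inferInstance
    have hyC : ∀ c ∈ C, y * c * y⁻¹ * c⁻¹ ∈ C := fun c hc => C.mul_mem (Normal.conj_mem inferInstance c hc y) (C.inv_mem hc)
    have hy2 : y * y ∈ C := by
      refine (hmemC _).mpr (mul_inv_eq_iff_eq_mul.mp ?_)
      calc y * y * w * (y * y)⁻¹ = y * (y * w * y⁻¹) * y⁻¹ := by group
        _ = (y * z * y⁻¹) * (y * w * y⁻¹) := by conv_lhs => rw [hflip y hy]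
                                                group
        _ = z * (z * w) := by rw [mem_center_iff.mp hzcen y, mul_inv_cancel_right, hflip y hy]
        _ = w := by rw [← mul_assoc, hz2, one_mul]
    let f : ↥C →* T ⧸ zpowers z :=
      { toFun := fun c => π (y * c * y⁻¹ * (c : T)⁻¹)
        map_one' := by simp
        map_mul' := fun c d => by
          have h := hπC c c.2 _ (hyC d d.2)
          calc π (y * ((c : T) * d) * y⁻¹ * ((c : T) * d)⁻¹)
              = π ((y * c * y⁻¹ * (c : T)⁻¹) * ((c : T) * (y * d * y⁻¹ * (d : T)⁻¹) * (c : T)⁻¹)) := by congr 1; group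
            _ = _ := by rw [map_mul, map_mul _ ((c : T) * _), map_mul _ (c : T), h.eq, map_inv, mul_inv_cancel_right] }
    have hdec : ∀ a : T, a ∈ C ∨ ∃ c ∈ C, a = y * c := by
      intro a
      by_cases h : a * w = w * a
      · exact Or.inl ((hmemC a).mpr h)
      · refine Or.inr ⟨y⁻¹ * a, (hmemC _).mpr (mul_inv_eq_iff_eq_mul.mp ?_), (mul_inv_cancel_left y a).symm⟩
        calc y⁻¹ * a * w * (y⁻¹ * a)⁻¹ = y⁻¹ * (a * w * a⁻¹) * y := by group
          _ = y⁻¹ * (y * w * y⁻¹) * y := by rw [hflip a h, hflip y hy]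
          _ = w := by group
    have hcov : commutator T ≤ f.range.comap π := by
      rw [_root_.commutator_def, commutator_le]
      have key : ∀ a b : T, b ∈ C → π (a * b * a⁻¹ * b⁻¹) ∈ f.range := by
        intro a b hb
        rcases hdec a with ha | ⟨c, hc, rfl⟩
        · rw [hπ1 (a * b * a⁻¹ * b⁻¹) ((hCsq ⟨a, ha⟩).2.2 ⟨b, hb⟩)]; exact one_mem _
        · have e : y * c * b * (y * c)⁻¹ * b⁻¹ = (y * (c * b * c⁻¹ * b⁻¹) * y⁻¹) * (y * b * y⁻¹ * b⁻¹) := by group
          have h1 : π (c * b * c⁻¹ * b⁻¹) = 1 := hπ1 _ ((hCsq ⟨c, hc⟩).2.2 ⟨b, hb⟩)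
          rw [e, map_mul, map_mul _ (y * _), map_mul _ y, h1, mul_one, map_inv, mul_inv_cancel, one_mul]
          exact ⟨⟨b, hb⟩, rfl⟩
      intro a _ b _
      rw [mem_comap, commutatorElement_def]
      rcases hdec b with hb | ⟨d, hd, rfl⟩
      · exact key a b hb
      rcases hdec a with ha | ⟨c, hc, rfl⟩
      · have := inv_mem (key (y * d) a ha)
        rw [← map_inv] at this
        simpa [mul_assoc] using this
      · set e := d * c⁻¹ with he
        have heC : e ∈ C := C.mul_mem hd (C.inv_mem hc)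
        have h1 : π (c * (y * e * y⁻¹) * d⁻¹) = π (y * e * y⁻¹ * e⁻¹) := by
          have hye : y * e * y⁻¹ ∈ C := Normal.conj_mem inferInstance e heC y
          have h2 := (hπC c hc _ hye).eq
          calc π (c * (y * e * y⁻¹) * d⁻¹) = (π c * π (y * e * y⁻¹)) * π d⁻¹ := by rw [map_mul, map_mul _ c]
            _ = π (y * e * y⁻¹) * π (c * d⁻¹) := by rw [h2, map_mul _ c, mul_assoc]
            _ = _ := by rw [← map_mul, he, mul_inv_rev, inv_inv]
        have h2 : π (y * (y * e * y⁻¹ * e⁻¹) * y⁻¹) = (π (y * e * y⁻¹ * e⁻¹))⁻¹ := by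
          have hcm := (hπC _ hy2 e heC).eq
          have e1 : π (y * (y * e * y⁻¹) * y⁻¹) = π e := by
            rw [show y * (y * e * y⁻¹) * y⁻¹ = y * y * e * (y * y)⁻¹ by group]
            rw [map_mul, map_mul _ (y * y), hcm, map_inv, mul_inv_cancel_right]
          calc π (y * (y * e * y⁻¹ * e⁻¹) * y⁻¹) = π (y * (y * e * y⁻¹) * y⁻¹) * π ((y * e * y⁻¹)⁻¹) := by
                rw [← map_mul]; congr 1; group
            _ = π e * π ((y * e * y⁻¹)⁻¹) := by rw [e1]
            _ = _ := by rw [← map_mul, ← map_inv]; congr 1; group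
        have h3 : π (y * c * (y * d) * (y * c)⁻¹ * (y * d)⁻¹) = (π (y * e * y⁻¹ * e⁻¹))⁻¹ := by
          rw [← h2, show y * c * (y * d) * (y * c)⁻¹ * (y * d)⁻¹ = y * (c * (y * e * y⁻¹) * d⁻¹) * y⁻¹ by rw [he]; group]
          simp only [map_mul _ (y * _), map_mul _ y, h1]
        rw [h3]
        exact inv_mem ⟨⟨e, heC⟩, rfl⟩
    obtain ⟨⟨x, hx⟩, hxw⟩ := hcov hwc
    change π (y * x * y⁻¹ * x⁻¹) = π w at hxw
    set cc := y * x * y⁻¹ * x⁻¹ with hcc
    have hcw : cc = w ∨ cc = w * z := by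
      have h1 : w⁻¹ * cc ∈ zpowers z := QuotientGroup.eq.mp hxw.symm
      rcases LargeExtra.eq_or_of_mem_zpowers hz2 h1 with e | e
      · exact Or.inl (inv_mul_eq_one.mp e).symm
      · exact Or.inr (inv_mul_eq_iff_eq_mul.mp e)
    have hccC : ∀ c ∈ C, Commute cc c := by
      intro c hc
      have h1 : Commute w c := ((hmemC c).mp hc).symm
      rcases hcw with e | e <;> rw [e]
      exacts [h1, h1.mul_left (mem_center_iff.mp hzcen c).symm]
    have hcc2 : cc * cc = z := by
      rcases hcw with e | e <;> rw [e]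
      calc w * z * (w * z) = w * (z * w) * z := by group
        _ = w * (w * z) * z := by rw [mem_center_iff.mp hzcen w]
        _ = (w * w) * (z * z) := by group
        _ = z := by rw [hz2, mul_one]
    have hx2 : x * x ∈ center T := by
      rcases (hCsq ⟨x, hx⟩).2.1 with e | e <;> change x * x = _ at e <;> rw [e]
      exacts [one_mem _, hzcen]
    have hxyxy : (x * y) * (x * y) = cc * ((x * x) * (y * y)) := by
      calc (x * y) * (x * y) = x * (y * x) * y := by group
        _ = x * (cc * x * y) * y := by rw [hcc]; group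
        _ = (x * cc) * x * (y * y) := by group
        _ = (cc * x) * x * (y * y) := by rw [(hccC x hx).eq]
        _ = _ := by group
    apply hw2
    have h4 := hT.2 (x * y)
    rw [show (4 : ℕ) = 2 * 2 from rfl, pow_mul, sq, sq, hxyxy] at h4
    have hs : Commute cc ((x * x) * (y * y)) := Commute.mul_right (mem_center_iff.mp hx2 cc) (hccC _ hy2)
    have hx4 : (x * x) * (x * x) = 1 := by have := hT.2 x; simpa [pow_succ, mul_assoc] using this
    have hy4 : (y * y) * (y * y) = 1 := by have := hT.2 y; simpa [pow_succ, mul_assoc] using this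
    calc z = z * 1 := (mul_one z).symm
      _ = (cc * cc) * (((x * x) * (y * y)) * ((x * x) * (y * y))) := by
        rw [hcc2, Commute.mul_mul_mul_comm (mem_center_iff.mp hx2 (y * y) : Commute (y * y) (x * x)), hx4, hy4, one_mul]
      _ = 1 := by rw [hs.mul_mul_mul_comm, h4]

theorem structure_facts {T : Type u} [Group T] [Finite T] (hT : SymplecticExpFour T) {z : T}
    (hz : z ∈ center T) (hz2 : z * z = 1) (hz1 : z ≠ 1) :
    (∀ t ∈ center T, t * t = 1 → t = 1 ∨ t = z) ∧
      (∀ a b : T, a * b * a⁻¹ * b⁻¹ = 1 ∨ a * b * a⁻¹ * b⁻¹ = z) ∧ ∀ a : T, a * a = 1 ∨ a * a = z := by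
  have hcenz : ∀ t ∈ center T, t * t = 1 → t = 1 ∨ t = z := fun t ht h =>
    unique_inv (hT.1.2 (center T) inferInstance inferInstance) ht hz h hz2 hz1
  have hc : ∀ a b : T, ⁅a, b⁆ ∈ center T := fun a b => commutator_le_center _ T rfl hT (by
    rw [_root_.commutator_def]; exact commutator_mem_commutator (mem_top a) (mem_top b))
  have hsq : ∀ a b : T, ⁅a * a, b⁆ = ⁅a, b⁆ * ⁅a, b⁆ := by
    intro a b
    calc ⁅a * a, b⁆ = a * ⁅a, b⁆ * a⁻¹ * ⁅a, b⁆ := by simp only [commutatorElement_def]; group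
      _ = _ := by rw [mem_center_iff.mp (hc a b) a, mul_inv_cancel_right]
  have hsq2 : ∀ a b : T, ⁅a * a, b * b⁆ = 1 := by
    intro a b
    have h1 : ∀ a b : T, ⁅a, b * b⁆ = ⁅a, b⁆ * ⁅a, b⁆ := by
      intro a b
      have h := hsq b a
      rw [← commutatorElement_inv (b * b) a, h, mul_inv_rev, commutatorElement_inv]
    rw [hsq, h1]
    have := hT.2 ⁅a, b⁆
    simpa [pow_succ, mul_assoc] using this
  have hc2 : ∀ a b : T, ⁅a, b⁆ * ⁅a, b⁆ = 1 := by
    intro a b
    set t := ⁅b, a⁆ with ht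
    have hba : b * a = t * (a * b) := by rw [ht, commutatorElement_def]; group
    have e1 : (a * b) * (a * b) = t * ((a * a) * (b * b)) := by
      calc (a * b) * (a * b) = a * (b * a) * b := by group
        _ = (a * t) * (a * b) * b := by rw [hba]; group
        _ = (t * a) * (a * b) * b := by rw [mem_center_iff.mp (hc b a) a]
        _ = _ := by group
    have hcomm : Commute (b * b) (a * a) := commutatorElement_eq_one_iff_commute.mp (hsq2 b a)
    have h4 := hT.2 (a * b)
    rw [show (4 : ℕ) = 2 * 2 from rfl, pow_mul, sq, sq, e1] at h4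
    have hst : Commute ((a * a) * (b * b)) t := mem_center_iff.mp (hc b a) _
    rw [hst.mul_mul_mul_comm, hcomm.mul_mul_mul_comm] at h4
    have ha4 : (a * a) * (a * a) = 1 := by have := hT.2 a; simpa [pow_succ, mul_assoc] using this
    have hb4 : (b * b) * (b * b) = 1 := by have := hT.2 b; simpa [pow_succ, mul_assoc] using this
    rw [ha4, hb4, one_mul, mul_one] at h4
    rw [show ⁅a, b⁆ = t⁻¹ from (commutatorElement_inv b a).symm, ← mul_inv_rev, h4, inv_one]
  refine ⟨hcenz, fun a b => hcenz _ (hc a b) (hc2 a b), fun a => hcenz _ (mem_center_iff.mpr fun b => ?_) ?_⟩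
  · exact (commutatorElement_eq_one_iff_commute.mp (by rw [hsq, hc2] : ⁅a * a, b⁆ = 1)).symm
  · have := hT.2 a; simpa [pow_succ, mul_assoc] using this

section Ambient

variable {G : Type u} [Group G] [Finite G]

/-- Element form of "`Q = F*(C(z))` has squares and commutators in `⟨z⟩`". -/
structure Setting (Q : Subgroup G) (z : G) : Prop where
  pgroup : IsPGroup 2 ↥Q
  mem : z ∈ Q
  sq_one : z * z = 1
  ne_one : z ≠ 1
  le_cent : ∀ q ∈ Q, q * z = z * q
  comm : ∀ a ∈ Q, ∀ b ∈ Q, a * b * a⁻¹ = b ∨ a * b * a⁻¹ = b * z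
  sq : ∀ a ∈ Q, a * a = 1 ∨ a * a = z
  cen : ∀ a ∈ Q, a * a = 1 → (∀ b ∈ Q, a * b = b * a) → a = 1 ∨ a = z
  norm : ∀ c, c * z = z * c → ∀ q ∈ Q, c * q * c⁻¹ ∈ Q
  cent : ∀ c, (∀ q ∈ Q, c * q = q * c) → c ∈ Q

theorem setting_of (z : G) (hz : orderOf z = 2)
    (hQ : Cfsg.IsOfSymplecticType ↥(Cfsg.generalizedFittingSubgroup ↥(centralizer ({z} : Set G))))
    (h4 : ∀ q ∈ (Cfsg.generalizedFittingSubgroup ↥(centralizer ({z} : Set G))).map (centralizer ({z} : Set G)).subtype, q ^ 4 = 1) :
    Setting ((Cfsg.generalizedFittingSubgroup ↥(centralizer ({z} : Set G))).map (centralizer ({z} : Set G)).subtype) z := by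
  set C := centralizer ({z} : Set G) with hC
  set F := Cfsg.generalizedFittingSubgroup ↥C with hF
  have hFn : F.Normal := Components.generalizedFittingSubgroup_normal
  have hzC : z ∈ C := mem_centralizer_singleton_iff.mpr rfl
  have hzcen : ∀ c : ↥C, c * ⟨z, hzC⟩ = ⟨z, hzC⟩ * c := fun c => Subtype.ext (mem_centralizer_singleton_iff.mp c.2)
  have hzF : (⟨z, hzC⟩ : ↥C) ∈ F :=
    Components.centralizer_generalizedFittingSubgroup_le (mem_centralizer_iff.mpr fun y _ => hzcen y)
  have hzz : z * z = 1 := by rw [← pow_two, ← hz]; exact pow_orderOf_eq_one z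
  have hz1 : z ≠ 1 := by rintro rfl; simp at hz
  have hT : SymplecticExpFour ↥F := ⟨hQ, fun t => Subtype.ext (Subtype.ext (by simpa using h4 _ ⟨t, t.2, rfl⟩))⟩
  have hzc : (⟨⟨z, hzC⟩, hzF⟩ : ↥F) ∈ center ↥F := mem_center_iff.mpr fun b => Subtype.ext (hzcen b)
  obtain ⟨h1, h2, h3⟩ := structure_facts hT hzc (Subtype.ext (Subtype.ext hzz))
    (fun e => hz1 (congrArg (fun t : ↥F => ((t : ↥C) : G)) e))
  refine ⟨(hQ.1).map _, ⟨_, hzF, rfl⟩, hzz, hz1, ?_, ?_, ?_, ?_, ?_, ?_⟩
  · rintro _ ⟨q, -, rfl⟩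
    exact mem_centralizer_singleton_iff.mp q.2
  · rintro _ ⟨a, ha, rfl⟩ _ ⟨b, hb, rfl⟩
    rcases h2 ⟨a, ha⟩ ⟨b, hb⟩ with e | e
    · left
      exact mul_inv_eq_one.mp (congrArg (fun t : ↥F => ((t : ↥C) : G)) e)
    · right
      have e' : (a : G) * b * (a : G)⁻¹ * (b : G)⁻¹ = z := congrArg (fun t : ↥F => ((t : ↥C) : G)) e
      show (a : G) * b * (a : G)⁻¹ = (b : G) * z
      rw [mem_centralizer_singleton_iff.mp b.2]
      exact mul_inv_eq_iff_eq_mul.mp e'
  · rintro _ ⟨a, ha, rfl⟩
    exact (h3 ⟨a, ha⟩).imp (congrArg (fun t : ↥F => ((t : ↥C) : G))) (congrArg (fun t : ↥F => ((t : ↥C) : G)))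
  · rintro _ ⟨a, ha, rfl⟩ ha2 hall
    exact (h1 ⟨a, ha⟩ (mem_center_iff.mpr fun b => Subtype.ext (Subtype.ext (hall _ ⟨b, b.2, rfl⟩).symm))
      (Subtype.ext (Subtype.ext ha2))).imp (congrArg (fun t : ↥F => ((t : ↥C) : G))) (congrArg (fun t : ↥F => ((t : ↥C) : G)))
  · rintro c hc _ ⟨q, hq, rfl⟩
    exact ⟨_, hFn.conj_mem q hq ⟨c, mem_centralizer_singleton_iff.mpr hc⟩, rfl⟩
  · intro c hc
    have hcC : c ∈ C := mem_centralizer_singleton_iff.mpr (hc z ⟨_, hzF, rfl⟩)
    exact ⟨⟨c, hcC⟩, Components.centralizer_generalizedFittingSubgroup_le (mem_centralizer_iff.mpr fun y hy =>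
      Subtype.ext (hc _ ⟨y, hy, rfl⟩).symm), rfl⟩

/-- Transport by conjugation. -/
theorem Setting.conj {Q : Subgroup G} {z : G} (h : Setting Q z) (g : G) :
    Setting (Q.map (MulAut.conj g).toMonoidHom) (g * z * g⁻¹) := by
  set φ := MulAut.conj g
  show Setting (Q.map φ.toMonoidHom) (φ z)
  have fwd : ∀ {q}, q ∈ Q → φ q ∈ Q.map φ.toMonoidHom := fun hq => mem_map_of_mem _ hq
  refine ⟨h.pgroup.map _, fwd h.mem, by rw [← map_mul, h.sq_one, map_one], ?_, ?_, ?_, ?_, ?_, ?_, ?_⟩
  · exact fun e => h.ne_one (φ.injective (by rw [e, map_one]))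
  · rintro _ ⟨q, hq, rfl⟩
    show φ q * φ z = φ z * φ q
    rw [← map_mul, ← map_mul, h.le_cent q hq]
  · rintro _ ⟨a, ha, rfl⟩ _ ⟨b, hb, rfl⟩
    show φ a * φ b * (φ a)⁻¹ = φ b ∨ φ a * φ b * (φ a)⁻¹ = φ b * φ z
    rw [← map_inv, ← map_mul, ← map_mul, ← map_mul]
    exact (h.comm a ha b hb).imp (congrArg φ) (congrArg φ)
  · rintro _ ⟨a, ha, rfl⟩
    show φ a * φ a = 1 ∨ φ a * φ a = φ z
    rw [← map_mul]
    exact (h.sq a ha).imp (fun e => by rw [e, map_one]) (congrArg φ)
  · rintro _ ⟨a, ha, rfl⟩ ha2 hall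
    show φ a = 1 ∨ φ a = φ z
    refine (h.cen a ha (φ.injective (by rw [map_mul, map_one]; exact ha2)) fun b hb => φ.injective ?_).imp
      (fun e => by rw [e, map_one]) (congrArg φ)
    rw [map_mul, map_mul]; exact hall _ (fwd hb)
  · rintro c hc _ ⟨q, hq, rfl⟩
    refine ⟨φ.symm c * q * (φ.symm c)⁻¹, h.norm _ (φ.injective ?_) q hq, ?_⟩
    · rw [map_mul, map_mul, φ.apply_symm_apply]; exact hc
    · show φ (φ.symm c * q * (φ.symm c)⁻¹) = c * φ q * c⁻¹
      rw [map_mul, map_mul, map_inv, φ.apply_symm_apply]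
  · intro c hc
    refine ⟨φ.symm c, h.cent _ fun q hq => φ.injective ?_, φ.apply_symm_apply c⟩
    rw [map_mul, map_mul, φ.apply_symm_apply]; exact hc _ (fwd hq)

theorem Setting.exists_move {Q : Subgroup G} {z x : G} (h : Setting Q z) (hxQ : x ∈ Q) (hx2 : x * x = 1)
    (hx1 : x ≠ 1) (hxz : x ≠ z) : ∃ q ∈ Q, q * x * q⁻¹ = x * z := by
  by_contra! hno
  rcases h.cen x hxQ hx2 (fun b hb => (mul_inv_eq_iff_eq_mul.mp ((h.comm b hb x hxQ).resolve_right (hno b hb))).symm) with e | e
  exacts [hx1 e, hxz e]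

theorem Setting.good {Q : Subgroup G} {z : G} (h : Setting Q z)
    (hc : ∀ a ∈ Q, (∀ b ∈ Q, a * b = b * a) → a = 1 ∨ a = z)
    (hn : ∃ a ∈ Q, ∃ b ∈ Q, a * b ≠ b * a) : LargeExtra.Good Q z :=
  ⟨h.mem, h.sq_one, h.ne_one, h.le_cent, h.comm, hc, hn, h.norm, h.cent⟩

/-- Symmetry: `x = g z g⁻¹ ∈ Q` implies `z ∈ g Q g⁻¹`. -/
theorem symm_mem {Q : Subgroup G} {z : G} (h : Setting Q z) (g : G) (hne : g * z * g⁻¹ ≠ z)
    (hin : g * z * g⁻¹ ∈ Q) : z ∈ Q.map (MulAut.conj g).toMonoidHom := by
  set x := g * z * g⁻¹ with hxdef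
  set X := Q.map (MulAut.conj g).toMonoidHom with hXdef
  have hX : Setting X x := h.conj g
  obtain ⟨q₀, hq₀, hq₀x⟩ := h.exists_move hin hX.sq_one hX.ne_one hne
  have hxz : x * z = z * x := h.le_cent x hin
  have hconj : ∀ τ : G, τ * z * τ⁻¹ = x → ∀ q, q ∈ X ↔ τ⁻¹ * q * τ ∈ Q := by
    intro τ hτ q
    have hc : (g⁻¹ * τ) * z = z * (g⁻¹ * τ) := by
      rw [← mul_inv_eq_iff_eq_mul]
      calc g⁻¹ * τ * z * (g⁻¹ * τ)⁻¹ = g⁻¹ * (τ * z * τ⁻¹) * g := by group
        _ = z := by rw [hτ, hxdef]; group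
    constructor
    · rintro ⟨p, hp, rfl⟩
      have := h.norm (g⁻¹ * τ)⁻¹ (Commute.inv_left hc) p hp
      show τ⁻¹ * (g * p * g⁻¹) * τ ∈ Q
      simpa [mul_assoc] using this
    · intro hq
      refine ⟨g⁻¹ * τ * (τ⁻¹ * q * τ) * (g⁻¹ * τ)⁻¹, h.norm _ hc _ hq, ?_⟩
      show g * _ * g⁻¹ = q
      group
  -- the easy case: some element of `X` moves `z` to `z * x`
  by_cases hmove : ∃ u ∈ X, u * z * u⁻¹ = z * x
  · obtain ⟨u, hu, huz⟩ := hmove
    have hτz : (q₀ * u) * z * (q₀ * u)⁻¹ = x := by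
      calc (q₀ * u) * z * (q₀ * u)⁻¹ = q₀ * (u * z * u⁻¹) * q₀⁻¹ := by group
        _ = (q₀ * z * q₀⁻¹) * (q₀ * x * q₀⁻¹) := by rw [huz]; group
        _ = z * (x * z) := by rw [h.le_cent q₀ hq₀, mul_inv_cancel_right, hq₀x]
        _ = (z * z) * x := by rw [hxz]; group
        _ = x := by rw [h.sq_one, one_mul]
    have hτx : (q₀ * u) * x * (q₀ * u)⁻¹ = x * z := by
      calc (q₀ * u) * x * (q₀ * u)⁻¹ = q₀ * (u * x * u⁻¹) * q₀⁻¹ := by group
        _ = x * z := by rw [hX.le_cent u hu, mul_inv_cancel_right, hq₀x]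
    refine (hconj _ hτz z).mpr ?_
    have hτxz : (q₀ * u) * (x * z) * (q₀ * u)⁻¹ = z := by
      calc (q₀ * u) * (x * z) * (q₀ * u)⁻¹
          = ((q₀ * u) * x * (q₀ * u)⁻¹) * ((q₀ * u) * z * (q₀ * u)⁻¹) := by group
        _ = z * x * x := by rw [hτx, hτz, hxz]
        _ = z := by rw [mul_assoc, hX.sq_one, mul_one]
    rw [show (q₀ * u)⁻¹ * z * (q₀ * u) = x * z by
      calc (q₀ * u)⁻¹ * z * (q₀ * u) = (q₀ * u)⁻¹ * ((q₀ * u) * (x * z) * (q₀ * u)⁻¹) * (q₀ * u) := by rw [hτxz]
        _ = x * z := by group]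
    exact Q.mul_mem hin h.mem
  push Not at hmove
  by_cases hext : ∀ a ∈ Q, (∀ b ∈ Q, a * b = b * a) → a = 1 ∨ a = z
  · -- extraspecial case
    have hn : ∃ a ∈ Q, ∃ b ∈ Q, a * b ≠ b * a := by
      refine ⟨q₀, hq₀, x, hin, fun e => h.ne_one ?_⟩
      rw [e, mul_inv_cancel_right] at hq₀x
      simpa using hq₀x.symm
    have hgood := h.good hext hn
    have hextX : ∀ a ∈ X, (∀ b ∈ X, a * b = b * a) → a = 1 ∨ a = x := by
      rintro _ ⟨a, ha, rfl⟩ hall
      refine (hext a ha fun b hb => (MulAut.conj g).injective ?_).imp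
        (fun e => by rw [e, map_one]) (fun e => by rw [e]; rfl)
      rw [map_mul, map_mul]; exact hall _ (mem_map_of_mem _ hb)
    have hnX : ∃ a ∈ X, ∃ b ∈ X, a * b ≠ b * a := by
      obtain ⟨a, ha, b, hb, hab⟩ := hn
      exact ⟨_, mem_map_of_mem _ ha, _, mem_map_of_mem _ hb, fun e => hab ((MulAut.conj g).injective (by rw [map_mul, map_mul]; exact e))⟩
    exact LargeExtra.symm (hX.good hextX hnX) hgood hconj hin
  -- the centre of `Q` has order four
  push Not at hext
  obtain ⟨w, hwQ, hwc, hw1, hwz⟩ := hext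
  have hww : w * w = z := (h.sq w hwQ).resolve_left fun e => (h.cen w hwQ e hwc).elim hw1 hwz
  by_contra hzX
  have hwx : w * x = x * w := hwc x hin
  -- elements of `X` centralising `z` centralise `w`
  have hR : ∀ u ∈ X, u * z = z * u → u * w = w * u := by
    intro u hu huz
    have htQ : u * w * u⁻¹ ∈ Q := h.norm u huz w hwQ
    have htc : ∀ b ∈ Q, (u * w * u⁻¹) * b = b * (u * w * u⁻¹) := by
      intro b hb
      have hb' : u⁻¹ * b * u ∈ Q := by simpa using h.norm u⁻¹ (Commute.inv_left huz) b hb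
      have e := hwc _ hb'
      calc (u * w * u⁻¹) * b = u * (w * (u⁻¹ * b * u)) * u⁻¹ := by group
        _ = u * ((u⁻¹ * b * u) * w) * u⁻¹ := by rw [e]
        _ = _ := by group
    set t := u * w * u⁻¹ with ht
    have htt : t * t = z := by
      calc t * t = u * (w * w) * u⁻¹ := by rw [ht]; group
        _ = z := by rw [hww, huz, mul_inv_cancel_right]
    have hs : t * w⁻¹ = 1 ∨ t * w⁻¹ = z := by
      refine h.cen _ (Q.mul_mem htQ (Q.inv_mem hwQ)) ?_ fun b hb =>
        (Commute.mul_left (htc b hb) (Commute.inv_left (hwc b hb))).eq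
      have hcm : Commute t w⁻¹ := Commute.inv_right (htc w hwQ)
      rw [← sq, hcm.mul_pow, sq, sq, htt, ← mul_inv_rev, hww, mul_inv_cancel]
    rcases hs with e | e
    · exact mul_inv_eq_iff_eq_mul.mp (mul_inv_eq_one.mp e)
    · exfalso
      apply hzX
      rw [← e, ht, show u * w * u⁻¹ * w⁻¹ = u * (w * u⁻¹ * w⁻¹) by group]
      exact X.mul_mem hu (hX.norm w hwx _ (X.inv_mem hu))
  -- a 2-group normaliser argument
  apply hzX
  refine hX.cent z fun u hu => ?_
  by_contra hne2
  haveI : Fact (Nat.Prime 2) := ⟨Nat.prime_two⟩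
  set P := X ⊔ zpowers w with hP
  have hwN : zpowers w ≤ normalizer (X : Set G) := by
    rw [zpowers_le, mem_normalizer_iff_map_conj_eq]
    refine eq_of_le_of_card_ge ?_ (le_of_eq (card_map_of_injective (MulEquiv.injective _)).symm)
    rintro _ ⟨p, hp, rfl⟩
    exact hX.norm w hwx p hp
  have hwp : IsPGroup 2 ↥(zpowers w) := h.pgroup.to_le (zpowers_le.mpr hwQ)
  have hPp : IsPGroup 2 ↥P := hX.pgroup.to_sup_of_normal_left' hwp hwN
  haveI : Group.IsNilpotent ↥P := hPp.isNilpotent
  set N := centralizer ({w} : Set G) with hN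
  have hNP : N.subgroupOf P ≠ ⊤ := fun e => hne2 (by
    have h1 : u * w = w * u := mem_centralizer_singleton_iff.mp (subgroupOf_eq_top.mp e (mem_sup_left hu))
    rw [← hww]
    exact ((Commute.mul_right h1 h1 : Commute u (w * w))).symm.eq)
  obtain ⟨⟨p, hpP⟩, hpn, hpN⟩ := SetLike.exists_of_lt (Group.normalizerCondition_of_isNilpotent (N.subgroupOf P) (lt_top_iff_ne_top.mpr hNP))
  obtain ⟨u', hu', s, hs, rfl⟩ : p ∈ (X : Set G) * (zpowers w : Set G) := by
    rw [← coe_mul_of_right_le_normalizer_left X (zpowers w) hwN]; exact hpP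
  have hsN : s ∈ N := (zpowers_le.mpr (mem_centralizer_singleton_iff.mpr rfl) : zpowers w ≤ N) hs
  have hu'P : u' ∈ P := mem_sup_left hu'
  have hu'n : (⟨u', hu'P⟩ : ↥P) ∈ normalizer ((N.subgroupOf P : Subgroup ↥P) : Set ↥P) := by
    have : (⟨s, mem_sup_right hs⟩ : ↥P) ∈ normalizer ((N.subgroupOf P : Subgroup ↥P) : Set ↥P) :=
      le_normalizer (show _ ∈ N.subgroupOf P from hsN)
    have h1 := mul_mem hpn (inv_mem this)
    rwa [show (⟨u' * s, hpP⟩ : ↥P) * (⟨s, mem_sup_right hs⟩ : ↥P)⁻¹ = ⟨u', hu'P⟩ from Subtype.ext (mul_inv_cancel_right u' s)] at h1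
  have hu'N : u' ∉ N := fun e => hpN (show u' * s ∈ N from N.mul_mem e hsN)
  have hwP : w ∈ P := mem_sup_right (mem_zpowers w)
  have h1 := (mem_normalizer_iff.mp hu'n ⟨w⁻¹, P.inv_mem hwP⟩).mp (show w⁻¹ ∈ N from mem_centralizer_singleton_iff.mpr ((Commute.refl w).inv_left))
  change u' * w⁻¹ * u'⁻¹ ∈ N at h1
  set c := w * u' * w⁻¹ * u'⁻¹ with hc
  have hcX : c ∈ X := X.mul_mem (hX.norm w hwx u' hu') (X.inv_mem hu')
  have hcN : c ∈ N := by
    have : c = w * (u' * w⁻¹ * u'⁻¹) := by rw [hc]; group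
    rw [this]; exact N.mul_mem (mem_centralizer_singleton_iff.mpr rfl) h1
  have hcw : c * w = w * c := mem_centralizer_singleton_iff.mp hcN
  have hzu : z * u' * z⁻¹ = c * c * u' := by
    rw [← hww]
    calc w * w * u' * (w * w)⁻¹ = w * c * u' * w⁻¹ := by rw [hc]; group
      _ = c * w * u' * w⁻¹ := by rw [hcw]
      _ = _ := by rw [hc]; group
  apply hu'N
  refine mem_centralizer_singleton_iff.mpr (hR u' hu' ?_)
  rcases hX.sq c hcX with e | e <;> rw [e] at hzu
  · rw [one_mul] at hzu
    exact (mul_inv_eq_iff_eq_mul.mp hzu).symm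
  · exfalso
    refine hmove u' hu' ?_
    have h2 : z * u' = x * u' * z := mul_inv_eq_iff_eq_mul.mp hzu
    calc u' * z * u'⁻¹ = x⁻¹ * (x * u' * z) * u'⁻¹ := by group
      _ = x⁻¹ * z := by rw [← h2]; group
      _ = z * x := by rw [inv_eq_of_mul_eq_one_right hX.sq_one, hxz]

end Ambient


/-- Let G be a finite group and let z be an involution of G such that Q, the generalized Fitting subgroup of the centralizer C of z, is a 2-group of symplectic type (every characteristic abelian subgroup of Q is cyclic); suppose every element of Q has order dividing 4. Let g ∈ G with z' = g z g⁻¹ ≠ z and z' ∈ Q. Then z lies in the conjugate g Q g⁻¹, and the subgroup X generated by Q and g Q g⁻¹ induces every automorphism of the four-group generated by z and z': for any two distinct non-identity elements u, v of that four-group there is x ∈ X with x z x⁻¹ = u and x z' x⁻¹ = v. -/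
theorem result {G : Type*} [Group G] [Finite G] (z : G) (hz : orderOf z = 2) (hQ : Cfsg.IsOfSymplecticType ↥(Cfsg.generalizedFittingSubgroup ↥(Subgroup.centralizer ({z} : Set G))))
    (h4 : ∀ q ∈ (Cfsg.generalizedFittingSubgroup ↥(Subgroup.centralizer ({z} : Set G))).map (Subgroup.centralizer ({z} : Set G)).subtype, q ^ 4 = 1) (g : G) (hne : g * z * g⁻¹ ≠ z) (hin : g * z * g⁻¹ ∈ (Cfsg.generalizedFittingSubgroup ↥(Subgroup.centralizer ({z} : Set G))).map (Subgroup.centralizer ({z} : Set G)).subtype) :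
    z ∈ ((Cfsg.generalizedFittingSubgroup ↥(Subgroup.centralizer ({z} : Set G))).map (Subgroup.centralizer ({z} : Set G)).subtype).map (MulAut.conj g).toMonoidHom ∧
      ∀ u ∈ Subgroup.closure ({z, g * z * g⁻¹} : Set G), ∀ v ∈ Subgroup.closure ({z, g * z * g⁻¹} : Set G),
        u ≠ 1 → v ≠ 1 → u ≠ v →
          ∃ x ∈ (Cfsg.generalizedFittingSubgroup ↥(Subgroup.centralizer ({z} : Set G))).map (Subgroup.centralizer ({z} : Set G)).subtype ⊔ ((Cfsg.generalizedFittingSubgroup ↥(Subgroup.centralizer ({z} : Set G))).map (Subgroup.centralizer ({z} : Set G)).subtype).map (MulAut.conj g).toMonoidHom, x * z * x⁻¹ = u ∧ x * (g * z * g⁻¹) * x⁻¹ = v := by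
  have h := setting_of z hz hQ h4
  set Q := (Cfsg.generalizedFittingSubgroup ↥(Subgroup.centralizer ({z} : Set G))).map (Subgroup.centralizer ({z} : Set G)).subtype with hQdef
  have hzX := symm_mem h g hne hin
  refine ⟨hzX, fun u hu v hv hu1 hv1 huv => ?_⟩
  set x := g * z * g⁻¹ with hx
  have hX := h.conj g
  set X := Q.map (MulAut.conj g).toMonoidHom with hXdef
  obtain ⟨q, hq, hqx⟩ := h.exists_move hin hX.sq_one hX.ne_one hne
  obtain ⟨p, hp, hpz⟩ := hX.exists_move hzX h.sq_one h.ne_one (Ne.symm hne)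
  change p * z * p⁻¹ = z * x at hpz
  have hxz : x * z = z * x := h.le_cent x hin
  have hqz : q * z * q⁻¹ = z := by rw [h.le_cent q hq, mul_inv_cancel_right]
  have hpx : p * x * p⁻¹ = x := by rw [hX.le_cent p hp, mul_inv_cancel_right]
  have hzz := h.sq_one
  have hxx : x * x = 1 := hX.sq_one
  have hfour : ∀ t ∈ Subgroup.closure ({z, x} : Set G), t = 1 ∨ t = z ∨ t = x ∨ t = z * x := by
    intro t ht
    let W : Subgroup G :=
      { carrier := {t | t = 1 ∨ t = z ∨ t = x ∨ t = z * x}
        one_mem' := Or.inl rfl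
        mul_mem' := by
          have hxz' : ∀ w, x * (z * w) = z * (x * w) := fun w => by rw [← mul_assoc, hxz, mul_assoc]
          have hzz' : ∀ w, z * (z * w) = w := fun w => by rw [← mul_assoc, hzz, one_mul]
          have hxx' : ∀ w, x * (x * w) = w := fun w => by rw [← mul_assoc, hxx, one_mul]
          intro a b ha hb
          rcases ha with e | e | e | e <;> rcases hb with e' | e' | e' | e' <;> rw [e, e'] <;>
            simp [mul_assoc, hzz, hxx, hxz, hxz', hzz', hxx']
        inv_mem' := by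
          intro a ha
          rcases ha with e | e | e | e <;> rw [e]
          · simp
          · exact Or.inr (Or.inl (inv_eq_of_mul_eq_one_right hzz))
          · exact Or.inr (Or.inr (Or.inl (inv_eq_of_mul_eq_one_right hxx)))
          · refine Or.inr (Or.inr (Or.inr ?_))
            rw [mul_inv_rev, inv_eq_of_mul_eq_one_right hzz, inv_eq_of_mul_eq_one_right hxx, hxz] }
    exact ((Subgroup.closure_le W).mpr (Set.insert_subset_iff.mpr ⟨Or.inr (Or.inl rfl), Set.singleton_subset_iff.mpr (Or.inr (Or.inr (Or.inl rfl)))⟩)) ht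
  have mq : q ∈ Q ⊔ X := Subgroup.mem_sup_left hq
  have mp : p ∈ Q ⊔ X := Subgroup.mem_sup_right hp
  have hqzx : q * (z * x) * q⁻¹ = x := by
    calc q * (z * x) * q⁻¹ = (q * z * q⁻¹) * (q * x * q⁻¹) := by group
      _ = z * (x * z) := by rw [hqz, hqx]
      _ = x := by rw [hxz, ← mul_assoc, hzz, one_mul]
  have hpzx : p * (z * x) * p⁻¹ = z := by
    calc p * (z * x) * p⁻¹ = (p * z * p⁻¹) * (p * x * p⁻¹) := by group
      _ = z := by rw [hpz, hpx, mul_assoc, hxx, mul_one]
  have comp : ∀ a b t t' t'' : G, b * t * b⁻¹ = t' → a * t' * a⁻¹ = t'' → (a * b) * t * (a * b)⁻¹ = t'' := by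
    intro a b t t' t'' h1 h2
    rw [← h2, ← h1]; group
  rcases hfour u hu with e | e | e | e <;> rw [e] at hu1 huv ⊢ <;>
    rcases hfour v hv with e' | e' | e' | e' <;> rw [e'] at hv1 huv ⊢ <;>
    first
      | exact absurd rfl hu1
      | exact absurd rfl hv1
      | exact absurd rfl huv
      | skip
  · exact ⟨1, one_mem _, by simp, by simp⟩
  · exact ⟨q, mq, hqz, hqx.trans hxz⟩
  · exact ⟨p * (q * p), mul_mem mp (mul_mem mq mp), comp p (q * p) _ _ _ (comp q p _ _ _ hpz hqzx) hpx,
      comp p (q * p) _ _ _ (comp q p _ _ _ hpx (hqx.trans hxz)) hpzx⟩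
  · exact ⟨q * p, mul_mem mq mp, comp q p _ _ _ hpz hqzx, comp q p _ _ _ hpx (hqx.trans hxz)⟩
  · exact ⟨p * q, mul_mem mp mq, comp p q _ _ _ hqz hpz, comp p q _ _ _ (hqx.trans hxz) hpzx⟩
  · exact ⟨p, mp, hpz, hpx⟩

end Cfsg.Agent.S1774
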