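import Cfsg.Statements.S1775
import Mathlib
import Cfsg.Agent.Lib.Components.PComponent
import Cfsg.Agent.Lib.Components.GenFitting
import Cfsg.Agent.Lib.Coprime.Quotient

set_option autoImplicit false
open Cfsg

open scoped Pointwise

namespace Cfsg.Agent.S1775

open Subgroup
open Cfsg.Agent.Lib

variable {G : Type*} [Group G]

/-- A component of even order centralises every subgroup of odd order that it normalises. -/
theorem component_commutator_odd [Finite G] {L E : Subgroup G} (hL : Cfsg.IsComponent L) (heven : 2 ∣ Nat.card L)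
    (hodd : Odd (Nat.card E)) (hinv : L ≤ normalizer (E : Set G)) : ⁅L, E⁆ = ⊥ := by
  set X := ⁅E, L⁆ with hX
  haveI : (Cfsg.layer G).Normal := Components.layer_normal
  have hXE : X ≤ E := Coprime.commutator_le_of_le_normalizer hinv
  have hXlayer : X ≤ Cfsg.layer G :=
    (commutator_mono le_rfl (Components.isComponent_le_layer hL)).trans (commutator_le_right _ _)
  have hXN : X ≤ normalizer (L : Set G) := hXlayer.trans (Components.layer_le_normalizer_component hL)
  have hLX : L ≤ normalizer (X : Set G) := normalizer_commutator_ge_right E L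
  have h1 : ⁅X, L⁆ ≤ X ⊓ L := le_inf (Coprime.commutator_le_of_le_normalizer hLX)
    (by rw [commutator_comm]; exact Coprime.commutator_le_of_le_normalizer hXN)
  haveI : ((X ⊓ L).subgroupOf L).Normal := (normal_subgroupOf_iff_le_normalizer inf_le_right).mpr
    (fun g hg => inf_normalizer_le_normalizer_inf ⟨hLX hg, le_normalizer hg⟩)
  rcases Components.quasisimple_normal_eq_top_or_le_center hL.2 ((X ⊓ L).subgroupOf L) with h | h
  · exfalso
    have h2 : L ≤ E := (subgroupOf_eq_top.mp h).trans (inf_le_left.trans hXE)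
    exact Nat.not_even_iff_odd.mpr hodd (even_iff_two_dvd.mpr (heven.trans (card_dvd_of_le h2)))
  · have hXLL : ⁅⁅X, L⁆, L⁆ = ⊥ := by
      rw [commutator_eq_bot_iff_le_centralizer]
      intro a ha
      exact mem_centralizer_iff.mpr fun b hb =>
        congrArg Subtype.val (mem_center_iff.mp (h (show (⟨a, (h1 ha).2⟩ : ↥L) ∈ _ from h1 ha)) ⟨b, hb⟩)
    have hperf : ⁅L, L⁆ = L := Components.isComponent_commutator_self hL
    have hLX0 : ⁅L, X⁆ = ⊥ := by
      have h3 := commutator_commutator_eq_bot_of_rotate (H₁ := L) (H₂ := L) (H₃ := X)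
        (by rw [commutator_comm L X]; exact hXLL) hXLL
      rwa [hperf] at h3
    have hd : ⁅⁅E, L⁆, L⁆ = ⊥ := by rw [← hX, commutator_comm]; exact hLX0
    have h4 := commutator_commutator_eq_bot_of_rotate (H₁ := L) (H₂ := L) (H₃ := E)
      (by rw [commutator_comm L E]; exact hd) hd
    rwa [hperf] at h4

/-- The image of a 2-component under a homomorphism with odd kernel and normal range is a 2-component. -/
theorem isPComponent_map {D C : Type*} [Group D] [Group C] [Finite D] [Finite C] (f : D →* C)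
    (hker : Odd (Nat.card f.ker)) (hrange : f.range.Normal) {J : Subgroup D}
    (hJ : Cfsg.IsPComponent 2 J) : Cfsg.IsPComponent 2 (J.map f) := by
  haveI : Fact (Nat.Prime 2) := ⟨Nat.prime_two⟩
  haveI := hrange
  set O := Cfsg.pPrimeCore 2 C with hO
  set g := (QuotientGroup.mk' O).comp f with hg
  have hsn : (J.map f).IsSubnormal := by
    have h1 : (J.map f.rangeRestrict).IsSubnormal := hJ.1.map f.rangeRestrict_surjective
    refine IsSubnormal.trans (K := f.range) (map_le_range f J) ?_ (Normal.isSubnormal hrange)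
    convert h1 using 1
    ext ⟨c, hc⟩
    constructor
    · rintro ⟨d, hd, h⟩; exact ⟨d, hd, Subtype.ext h⟩
    · rintro ⟨d, hd, h⟩; exact ⟨d, hd, congrArg Subtype.val h⟩
  have hOD : (Cfsg.pPrimeCore 2 D).map f ≤ O := by
    refine Components.subnormal_coprime_le_pPrimeCore ?_ ?_
    · have h1 : ((Cfsg.pPrimeCore 2 D).map f.rangeRestrict).Normal :=
        Normal.map inferInstance _ f.rangeRestrict_surjective
      refine IsSubnormal.trans (K := f.range) (map_le_range f _) ?_ (Normal.isSubnormal hrange)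
      convert h1.isSubnormal using 1
      ext ⟨c, hc⟩
      constructor
      · rintro ⟨d, hd, h⟩; exact ⟨d, hd, Subtype.ext h⟩
      · rintro ⟨d, hd, h⟩; exact ⟨d, hd, congrArg Subtype.val h⟩
    · exact Nat.Coprime.coprime_dvd_left (card_map_dvd _ f) PSolvable.pPrimeCore_coprime
  have hne : (J.map f).map (QuotientGroup.mk' O) ≠ ⊥ := by
    rw [Ne, Components.map_mk_eq_bot_iff]
    intro hle
    have h2 : Odd (Nat.card ↥(J.map f)) := by
      rw [← Nat.not_even_iff_odd, even_iff_two_dvd]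
      exact fun h => PSolvable.pPrimeCore_not_dvd (p := 2) (G := C) (h.trans (card_dvd_of_le hle))
    have h3 : Nat.card ↥J = Nat.card ↥((f.comp J.subtype).ker) * Nat.card ↥(J.map f) := by
      rw [card_eq_card_quotient_mul_card_subgroup (f.comp J.subtype).ker, mul_comm,
        Nat.card_congr (QuotientGroup.quotientKerEquivRange (f.comp J.subtype)).toEquiv, MonoidHom.range_comp, Subgroup.range_subtype]
    have h4 : Odd (Nat.card ↥((f.comp J.subtype).ker)) := by
      refine Odd.of_dvd_nat hker ?_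
      refine Dvd.dvd.trans ?_ (card_dvd_of_le (show (f.comp J.subtype).ker.map J.subtype ≤ f.ker from by
        rintro _ ⟨a, ha, rfl⟩; exact ha))
      rw [card_map_of_injective J.subtype_injective]
    exact Nat.not_even_iff_odd.mpr (h4.mul h2) (h3 ▸ even_iff_two_dvd.mpr (Components.isPComponent_dvd_card hJ))
  have hbar : Cfsg.IsComponent ((J.map f).map (QuotientGroup.mk' O)) := by
    refine ⟨hsn.quotient, ?_⟩
    haveI := (nontrivial_iff_ne_bot _).mpr hne
    have hmap : J.map g = (J.map f).map (QuotientGroup.mk' O) := (Subgroup.map_map _ _ _).symm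
    have hk : Cfsg.pPrimeCore 2 ↥J ≤ (g.subgroupMap J).ker := by
      intro a ha
      have h1 : (a : D) ∈ Cfsg.pPrimeCore 2 D :=
        Components.map_pPrimeCore_le_of_subnormal hJ.1 ⟨a, ha, rfl⟩
      exact Subtype.ext ((QuotientGroup.eq_one_iff _).mpr (hOD ⟨a, h1, rfl⟩))
    haveI : Nontrivial ↥(J.map g) := (nontrivial_iff_ne_bot _).mpr (hmap ▸ hne)
    have hs : Function.Surjective (QuotientGroup.lift _ (g.subgroupMap J) hk) := fun b =>
      ⟨QuotientGroup.mk (g.subgroupMap_surjective J b).choose, (g.subgroupMap_surjective J b).choose_spec⟩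
    exact Components.quasisimple_of_mulEquiv (MulEquiv.subgroupCongr hmap)
      (Components.quasisimple_of_surjective (Components.quasisimple_quotient_pPrimeCore hJ) hs)
  have hP := Components.isPComponent_pElementClosure (p := 2) hbar
  have h1 := Components.pElementClosure_comap_le (p := 2) hsn (rfl : (J.map f).map (QuotientGroup.mk' O) = _)
  have h2 : J.map f ≤ Cfsg.pElementClosure 2 (((J.map f).map (QuotientGroup.mk' O)).comap (QuotientGroup.mk' O)) := by
    refine le_trans (le_of_eq ?_) (Components.pElementClosure_mono (le_comap_map _ _))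
    rw [← Components.map_pElementClosure, Components.isPComponent_pElementClosure_self hJ]
  rwa [le_antisymm h1 h2] at hP

/-- The hom from `D` to `C_Q(x̄)`. -/
def toCent {Cy : Subgroup G} (O : Subgroup ↥Cy) [O.Normal] {x : G} (hxC : x ∈ Cy)
    (D : Subgroup G) (hDC : D ≤ Cy) (hDx : D ≤ centralizer ({x} : Set G)) :
    ↥D →* ↥(centralizer ({QuotientGroup.mk' O ⟨x, hxC⟩} : Set (↥Cy ⧸ O))) :=
  MonoidHom.codRestrict ((QuotientGroup.mk' O).comp (inclusion hDC)) _ fun d =>
    mem_centralizer_singleton_iff.mpr (by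
      show QuotientGroup.mk' O ⟨(d : G), hDC d.2⟩ * _ = _ * QuotientGroup.mk' O ⟨(d : G), hDC d.2⟩
      rw [← map_mul, ← map_mul]
      exact congrArg _ (Subtype.ext (mem_centralizer_singleton_iff.mp (hDx d.2))))

theorem exists_lift [Finite G] {Cy : Subgroup G} (O : Subgroup ↥Cy) [O.Normal] {x : G} (hxC : x ∈ Cy)
    (hx : orderOf x = 2) (hO : Odd (Nat.card O)) (q : ↥Cy ⧸ O)
    (hq : q ∈ centralizer ({QuotientGroup.mk' O ⟨x, hxC⟩} : Set (↥Cy ⧸ O))) :
    ∃ c : ↥Cy, (c : G) * x = x * c ∧ QuotientGroup.mk' O c = q := by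
  obtain ⟨k, rfl⟩ := QuotientGroup.mk'_surjective O q
  set a : ↥Cy := ⟨x, hxC⟩ with ha
  have hao : orderOf a = 2 := by rw [ha, Subgroup.orderOf_mk, hx]
  have hcop : (Nat.card (zpowers a)).Coprime (Nat.card O) := by
    rw [Nat.card_zpowers, hao]
    exact Nat.coprime_two_left.mpr hO
  have hgen : ∀ b ∈ zpowers a, k⁻¹ * (b * k * b⁻¹) ∈ O := by
    intro b hb
    obtain ⟨i, rfl⟩ := mem_zpowers_iff.mp hb
    rw [← QuotientGroup.eq_one_iff (N := O)]
    show QuotientGroup.mk' O _ = 1
    have hc : Commute (QuotientGroup.mk' O k) (QuotientGroup.mk' O a) := mem_centralizer_singleton_iff.mp hq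
    rw [map_mul, map_mul, map_mul, map_inv, map_inv, map_zpow, ← (hc.zpow_right i).eq, mul_inv_cancel_right,
      inv_mul_cancel]
  obtain ⟨c, hc, hcO⟩ := Coprime.exists_centralizer_mem_leftCoset (A := zpowers a) (N := O)
    (le_normalizer_of_normal) hcop (Or.inl inferInstance) hgen
  refine ⟨c, congrArg Subtype.val (mem_centralizer_iff.mp hc a (mem_zpowers a)).symm, ?_⟩
  exact (QuotientGroup.eq.mpr hcO).symm


/-- Let G be a finite group whose generalized Fitting subgroup is a non-abelian simple group and in which every proper section (every quotient H/N of a proper subgroup H, or of G by a nontrivial normal subgroup) has the B-property. Let x, y be commuting involutions, let D be the intersection of the 2-layer of C_G(x) with C_G(y), and let J be a 2-component of D. Write Q for the quotient of C_G(y) by its largest normal odd-order subgroup. Then (i) the image of J in Q is a component of the centralizer in Q of the image of x; and (ii) for every J-invariant subgroup E of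 odd order of C_G(x) ∩ C_G(y), the commutator subgroup [J, E] lies in the largest normal odd-order subgroup of C_G(y). -/
theorem result {G : Type*} [Group G] [Finite G]
    (hF : IsSimpleGroup ↥(Cfsg.generalizedFittingSubgroup G)) (hF' : ¬ IsMulCommutative ↥(Cfsg.generalizedFittingSubgroup G))
    (hsec : ∀ (H : Subgroup G) (N : Subgroup ↥H) [N.Normal], (H ≠ ⊤ ∨ N ≠ ⊥) → Cfsg.HasBProperty (↥H ⧸ N))
    (x y : G) (hx : orderOf x = 2) (hy : orderOf y = 2) (hxy : x * y = y * x)
    (J : Subgroup ↥((Cfsg.pLayer 2 ↥(Subgroup.centralizer ({x} : Set G))).map (Subgroup.centralizer ({x} : Set G)).subtype ⊓ Subgroup.centralizer ({y} : Set G)))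
    (hJ : Cfsg.IsPComponent 2 J) :
    Cfsg.IsComponent
        ((((J.map (Subgroup.subtype _)).subgroupOf (Subgroup.centralizer ({y} : Set G))).map (QuotientGroup.mk' (Cfsg.oddCore ↥(Subgroup.centralizer ({y} : Set G))))).subgroupOf
          (Subgroup.centralizer ({(QuotientGroup.mk' (Cfsg.oddCore ↥(Subgroup.centralizer ({y} : Set G))) ⟨x, Subgroup.mem_centralizer_singleton_iff.mpr hxy⟩ : ↥(Subgroup.centralizer ({y} : Set G)) ⧸ Cfsg.oddCore ↥(Subgroup.centralizer ({y} : Set G)))} : Set _))) ∧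
      ∀ E : Subgroup G, E ≤ Subgroup.centralizer ({x} : Set G) ⊓ Subgroup.centralizer ({y} : Set G) → Odd (Nat.card ↥E) →
        (∀ j ∈ J.map (Subgroup.subtype _), ∀ e ∈ E, j * e * j⁻¹ ∈ E) →
          ⁅J.map (Subgroup.subtype _), E⁆ ≤ (Cfsg.oddCore ↥(Subgroup.centralizer ({y} : Set G))).map (Subgroup.centralizer ({y} : Set G)).subtype := by
  classical
  haveI : Fact (Nat.Prime 2) := ⟨Nat.prime_two⟩
  revert hJ
  revert J
  set Cx := Subgroup.centralizer ({x} : Set G) with hCx
  set Cy := Subgroup.centralizer ({y} : Set G) with hCy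
  set O := Cfsg.oddCore ↥Cy with hOdef
  set L := (Cfsg.pLayer 2 ↥Cx).map Cx.subtype with hLdef
  set D := L ⊓ Cy with hD
  intro J hJ
  have hxC : x ∈ Cy := Subgroup.mem_centralizer_singleton_iff.mpr hxy
  have hO : Odd (Nat.card O) := by
    rw [← Nat.not_even_iff_odd, even_iff_two_dvd]
    exact Cfsg.Agent.Lib.PSolvable.pPrimeCore_not_dvd
  have hDC : D ≤ Cy := inf_le_right
  have hLx : L ≤ Cx := Subgroup.map_subtype_le _
  have hDx : D ≤ Cx := inf_le_left.trans hLx
  set CQ := Subgroup.centralizer ({QuotientGroup.mk' O ⟨x, hxC⟩} : Set (↥Cy ⧸ O)) with hCQ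
  set f := toCent O hxC D hDC hDx with hf
  -- the range is normal
  have hrange : f.range.Normal := by
    refine ⟨fun a ha q => ?_⟩
    obtain ⟨d, rfl⟩ := ha
    obtain ⟨c, hcx, hcq⟩ := exists_lift O hxC hx hO q q.2
    have hcX : (c : G) ∈ Cx := Subgroup.mem_centralizer_singleton_iff.mpr hcx
    have hmem : (c : G) * d * (c : G)⁻¹ ∈ D := by
      refine ⟨?_, Cy.mul_mem (Cy.mul_mem c.2 (hDC d.2)) (Cy.inv_mem c.2)⟩
      obtain ⟨l, hl, hld⟩ := d.2.1
      haveI := Cfsg.Agent.Lib.Components.pLayer_characteristic (p := 2) (G := ↥Cx)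
      refine ⟨⟨c, hcX⟩ * l * ⟨c, hcX⟩⁻¹, Subgroup.Normal.conj_mem inferInstance l hl _, ?_⟩
      rw [← hld]; rfl
    refine ⟨⟨_, hmem⟩, Subtype.ext ?_⟩
    show QuotientGroup.mk' O ⟨(c : G) * d * (c : G)⁻¹, hDC hmem⟩ = (q : ↥Cy ⧸ O) * (f d : ↥Cy ⧸ O) * (q : ↥Cy ⧸ O)⁻¹
    rw [← hcq]
    show _ = QuotientGroup.mk' O c * QuotientGroup.mk' O ⟨(d : G), hDC d.2⟩ * (QuotientGroup.mk' O c)⁻¹
    rw [← map_inv, ← map_mul, ← map_mul]
    exact congrArg _ (Subtype.ext rfl)
  have hker : Odd (Nat.card f.ker) := by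
    refine Odd.of_dvd_nat hO ?_
    refine Dvd.dvd.trans ?_ (Subgroup.card_dvd_of_le (show f.ker.map (Subgroup.inclusion hDC) ≤ O from by
      rintro _ ⟨d, hd, rfl⟩
      exact (QuotientGroup.eq_one_iff _).mp (congrArg Subtype.val (MonoidHom.mem_ker.mp hd))))
    rw [Subgroup.card_map_of_injective (Subgroup.inclusion_injective hDC)]
  have hP := isPComponent_map f hker hrange hJ
  -- the B-property of the section
  have hyne : Cy ≠ ⊤ := by
    intro htop
    have hyc : ∀ g : G, g * y = y * g := fun g =>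
      Subgroup.mem_centralizer_singleton_iff.mp (show g ∈ Cy by rw [htop]; exact Subgroup.mem_top g)
    have hyF : y ∈ Cfsg.generalizedFittingSubgroup G :=
      Cfsg.Agent.Lib.Components.centralizer_generalizedFittingSubgroup_le (Subgroup.mem_centralizer_iff.mpr fun g _ => hyc g)
    have hcen : (⟨y, hyF⟩ : ↥(Cfsg.generalizedFittingSubgroup G)) ∈ Subgroup.center ↥(Cfsg.generalizedFittingSubgroup G) :=
      Subgroup.mem_center_iff.mpr fun g => Subtype.ext (hyc g)
    rcases hF.eq_bot_or_eq_top_of_normal (Subgroup.center ↥(Cfsg.generalizedFittingSubgroup G)) inferInstance with h | h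
    · rw [h, Subgroup.mem_bot] at hcen
      have : y = 1 := congrArg Subtype.val hcen
      rw [this, orderOf_one] at hy
      omega
    · exact hF' ⟨⟨fun a b => ((Subgroup.mem_center_iff.mp (h ▸ Subgroup.mem_top a)) b).symm⟩⟩
  have hB := hsec Cy O (Or.inl hyne) (QuotientGroup.mk' O ⟨x, hxC⟩) (by
    refine orderOf_eq_prime ?_ ?_
    · rw [← map_pow, show (⟨x, hxC⟩ : ↥Cy) ^ 2 = 1 from Subtype.ext (by simpa [hx] using pow_orderOf_eq_one x), map_one]
    · intro h
      have h1 : orderOf (⟨x, hxC⟩ : ↥Cy) ∣ Nat.card O := Subgroup.orderOf_dvd_natCard _ ((QuotientGroup.eq_one_iff _).mp h)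
      rw [Subgroup.orderOf_mk, hx] at h1
      exact Nat.not_even_iff_odd.mpr hO (even_iff_two_dvd.mpr h1))
  have hJO : ⁅J.map f, Cfsg.pPrimeCore 2 ↥CQ⁆ = ⊥ := by
    refine le_bot_iff.mp (le_trans (Subgroup.commutator_mono (Cfsg.Agent.Lib.Components.isPComponent_le_pLayer hP) le_rfl) ?_)
    rw [le_bot_iff, ← Subgroup.map_eq_bot_iff_of_injective _ CQ.subtype_injective]
    exact le_bot_iff.mp (hB.trans (le_of_eq Cfsg.Agent.Lib.PSolvable.pPrimeCore_quotient_eq_bot))
  have hcomp : Cfsg.IsComponent (J.map f) := by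
    refine ⟨hP.1, ?_⟩
    have hperf := Cfsg.Agent.Lib.Components.isPComponent_commutator_self hP
    refine Cfsg.Agent.Lib.Components.quasisimple_of_central_extension ⟨?_⟩
      ((QuotientGroup.mk' (Cfsg.pPrimeCore 2 ↥CQ)).subgroupMap_surjective (J.map f)) ?_ hP.2.1.2
    · apply Subgroup.map_injective (J.map f).subtype_injective
      rw [map_subtype_commutator, hperf, ← MonoidHom.range_eq_map, Subgroup.range_subtype]
    · intro a ha
      have ha' : (a : ↥CQ) ∈ Cfsg.pPrimeCore 2 ↥CQ :=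
        (QuotientGroup.eq_one_iff _).mp (congrArg Subtype.val (MonoidHom.mem_ker.mp ha))
      exact Subgroup.mem_center_iff.mpr fun b => Subtype.ext
        ((Subgroup.mem_centralizer_iff.mp (Subgroup.commutator_eq_bot_iff_le_centralizer.mp hJO b.2) _ ha').symm)
  refine ⟨?_, fun E hE hEodd hJE => ?_⟩
  · convert hcomp using 1
    ext ⟨q, hq⟩
    constructor
    · rintro ⟨c, hc, hcq⟩
      obtain ⟨d, hd, hdc⟩ := hc
      exact ⟨d, hd, Subtype.ext ((congrArg (QuotientGroup.mk' O) (Subtype.ext hdc : (⟨(d : G), hDC d.2⟩ : ↥Cy) = c)).trans hcq)⟩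
    · rintro ⟨d, hd, hdq⟩
      exact ⟨⟨(d : G), hDC d.2⟩, ⟨d, hd, rfl⟩, congrArg Subtype.val hdq⟩
  · set h := toCent O hxC (Cx ⊓ Cy) inf_le_right inf_le_left with hh
    set E' := (E.subgroupOf (Cx ⊓ Cy)).map h with hE'
    have hE'odd : Odd (Nat.card E') := by
      refine Odd.of_dvd_nat hEodd ((Subgroup.card_map_dvd _ h).trans (dvd_of_eq ?_))
      rw [← Subgroup.card_map_of_injective (Cx ⊓ Cy).subtype_injective, Subgroup.map_subgroupOf_eq_of_le hE]
    have hinv : J.map f ≤ Subgroup.normalizer (E' : Set ↥CQ) := by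
      rintro _ ⟨d, hd, rfl⟩
      rw [Subgroup.mem_normalizer_iff_map_conj_eq]
      refine Subgroup.eq_of_le_of_card_ge ?_ (le_of_eq (Subgroup.card_map_of_injective (MulEquiv.injective _)).symm)
      rintro _ ⟨_, ⟨e, he, rfl⟩, rfl⟩
      have hde : (d : G) * e * (d : G)⁻¹ ∈ E := hJE d ⟨d, hd, rfl⟩ e he
      refine ⟨⟨_, hE hde⟩, hde, Subtype.ext ?_⟩
      show QuotientGroup.mk' O ⟨(d : G) * e * (d : G)⁻¹, _⟩ =
        QuotientGroup.mk' O ⟨(d : G), hDC d.2⟩ * QuotientGroup.mk' O ⟨(e : G), _⟩ * (QuotientGroup.mk' O ⟨(d : G), hDC d.2⟩)⁻¹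
      rw [← map_inv, ← map_mul, ← map_mul]
      rfl
    have h0 := component_commutator_odd hcomp (Cfsg.Agent.Lib.Components.isPComponent_dvd_card hP) hE'odd hinv
    rw [Subgroup.commutator_le]
    rintro _ ⟨d, hd, rfl⟩ e he
    have h1 := (Subgroup.commutator_eq_bot_iff_le_centralizer.mp h0) (Subgroup.mem_map_of_mem f hd)
    have h2 := congrArg Subtype.val (Subgroup.mem_centralizer_iff.mp h1 _ (Subgroup.mem_map_of_mem h (show (⟨e, hE he⟩ : ↥(Cx ⊓ Cy)) ∈ E.subgroupOf (Cx ⊓ Cy) from he)))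
    change QuotientGroup.mk' O ⟨e, (hE he).2⟩ * QuotientGroup.mk' O ⟨(d : G), hDC d.2⟩ =
      QuotientGroup.mk' O ⟨(d : G), hDC d.2⟩ * QuotientGroup.mk' O ⟨e, (hE he).2⟩ at h2
    refine ⟨⟨(d : G), hDC d.2⟩ * ⟨e, (hE he).2⟩ * ⟨(d : G), hDC d.2⟩⁻¹ * ⟨e, (hE he).2⟩⁻¹,
      (QuotientGroup.eq_one_iff (N := O) _).mp ?_, rfl⟩
    show QuotientGroup.mk' O _ = 1
    rw [map_mul, map_mul, map_mul, map_inv, map_inv, ← h2, mul_inv_cancel_right, mul_inv_cancel]

end Cfsg.Agent.S1775
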