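import Cfsg.Statements.S1780
import Mathlib

set_option autoImplicit false
open Cfsg

open scoped Pointwise

namespace Cfsg.Agent.S1780

/-- Let A be a finite abelian 2-group and t an automorphism of A whose order is a power of 2. If every element of A fixed by t² is fixed by t, then t fixes every element of A. -/
theorem result {A : Type*} [CommGroup A] [Finite A]
    (hA : IsPGroup 2 A) (t : MulAut A) (ht : ∃ k : ℕ, orderOf t = 2 ^ k) (hC : ∀ a : A, t (t a) = a → t a = a) :
    ∀ a : A, t a = a := by
  -- the step from `t²` to `t⁴`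
  have step : ∀ s : MulAut A, (∀ a, s (s a) = a → s a = a) → ∀ a, s (s (s (s a))) = a → s (s a) = a := by
    intro s hs
    have hD : ∀ (k : ℕ) (c : A), c ^ 2 ^ k = 1 → s (s c) = c⁻¹ → c ^ 2 = 1 := by
      intro k
      induction k with
      | zero => intro c hc _; simp only [pow_zero, pow_one] at hc; rw [hc, one_pow]
      | succ k ih =>
        intro c hc hcs
        have h4 : (c ^ 2) ^ 2 = 1 := ih (c ^ 2) (by rw [← pow_mul, ← pow_succ']; exact hc) (by rw [map_pow, map_pow, hcs, inv_pow])
        have hinv : (c ^ 2)⁻¹ = c ^ 2 := inv_eq_of_mul_eq_one_right (by rw [← sq]; exact h4)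
        have hfix : s (c ^ 2) = c ^ 2 := hs _ (by rw [map_pow, map_pow, hcs, inv_pow, hinv])
        -- `e = s c / c` has order at most two and is fixed by `s`
        have he2 : (s c * c⁻¹) ^ 2 = 1 := by rw [mul_pow, ← map_pow, hfix, inv_pow, mul_inv_cancel]
        have he2' : (s c * c⁻¹)⁻¹ = s c * c⁻¹ := inv_eq_of_mul_eq_one_right (by rw [← sq]; exact he2)
        have hes : s (s (s c * c⁻¹)) = s c * c⁻¹ := by
          rw [map_mul, map_mul, map_inv, map_inv, hcs, map_inv]
          exact (mul_inv (s c) c⁻¹).symm.trans he2'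
        have h := hs _ hes
        rw [map_mul, map_inv, hcs] at h
        calc c ^ 2 = c * c := sq c
          _ = (c⁻¹ * (s c)⁻¹)⁻¹ * (s c)⁻¹ * c := by simp [mul_comm, mul_left_comm]
          _ = (s c * c⁻¹)⁻¹ * (s c)⁻¹ * c := by rw [h]
          _ = (s c * c⁻¹)⁻¹ * (s c * c⁻¹)⁻¹ := by simp [mul_inv, mul_comm, mul_left_comm]
          _ = 1 := by rw [← sq, inv_pow, he2, inv_one]
    intro a ha
    have hb : s (a * s (s a)) = a * s (s a) := hs _ (by rw [map_mul, map_mul, ha, mul_comm])
    -- `c = s a / a` lies in the subgroup inverted by `s²`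
    have hc : s (s (s a * a⁻¹)) = (s a * a⁻¹)⁻¹ := by
      rw [map_mul, map_mul, map_inv, map_inv, mul_inv, inv_inv]
      rw [map_mul] at hb
      calc s (s (s a)) * (s (s a))⁻¹ = (s a)⁻¹ * (s a * s (s (s a))) * (s (s a))⁻¹ := by simp
        _ = (s a)⁻¹ * (a * s (s a)) * (s (s a))⁻¹ := by rw [hb]
        _ = (s a)⁻¹ * a := by simp [mul_assoc]
    obtain ⟨k, hk⟩ := hA (s a * a⁻¹)
    have hc2 := hD k _ hk hc
    have hci : (s a * a⁻¹)⁻¹ = s a * a⁻¹ := inv_eq_of_mul_eq_one_right (by rw [← sq]; exact hc2)
    have hcf : s (s a * a⁻¹) = s a * a⁻¹ := hs _ (hc.trans hci)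
    have hssa : s (s a) = (s a * a⁻¹) * s a := by
      have := congrArg (· * s a) hcf
      simpa [map_mul, map_inv] using this
    rw [hssa]
    calc s a * a⁻¹ * s a = (s a * a⁻¹) ^ 2 * a := by simp [sq, mul_comm, mul_left_comm]
      _ = a := by rw [hc2, one_mul]
  obtain ⟨k, hk⟩ := ht
  have key : ∀ (i : ℕ) (a : A), (t ^ 2 ^ i) a = a → t a = a := by
    intro i
    induction i with
    | zero => intro a ha; simpa using ha
    | succ i ih =>
      intro a ha
      cases i with
      | zero => exact hC a (by simpa [sq, MulAut.mul_apply] using ha)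
      | succ j =>
        apply ih
        have hu : ∀ a, (t ^ 2 ^ j) ((t ^ 2 ^ j) a) = a → (t ^ 2 ^ j) a = a := by
          intro a ha
          have h1 : t a = a := ih a (by rw [pow_succ, pow_mul, sq, MulAut.mul_apply]; exact ha)
          have hfix : ∀ n : ℕ, (t ^ n) a = a := by
            intro n
            induction n with
            | zero => simp
            | succ n ihn => rw [pow_succ, MulAut.mul_apply, h1, ihn]
          exact hfix _
        have := step (t ^ 2 ^ j) hu a (by
          have e : t ^ 2 ^ (j + 1 + 1) = t ^ 2 ^ j * t ^ 2 ^ j * (t ^ 2 ^ j * t ^ 2 ^ j) := by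
            rw [← pow_add, ← pow_add]; congr 1; ring
          rw [e] at ha; simpa only [MulAut.mul_apply] using ha)
        rw [pow_succ, pow_mul, sq, MulAut.mul_apply]; exact this
  intro a
  exact key k a (by rw [← hk, pow_orderOf_eq_one]; rfl)

end Cfsg.Agent.S1780
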