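import Cfsg.Statements.S1781
import Mathlib
import Cfsg.Agent.S1780
import Cfsg.Agent.S1757

set_option autoImplicit false
open Cfsg

open scoped Pointwise

namespace Cfsg.Agent.S1781

/-- Let A be an abelian 2-subgroup of the finite group G such that every conjugate of A equals A or meets A trivially, and let g ∈ G with g A g⁻¹ ≠ A. Then either the subgroup of those elements of A that normalize g A g⁻¹ is an elementary abelian 2-group, or A and g A g⁻¹ commute elementwise. -/
theorem result {G : Type*} [Group G] [Finite G] (A : Subgroup G)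
    (hA2 : IsPGroup 2 ↥A) (hAa : IsMulCommutative ↥A)
    (hti : ∀ h : G, A.map (MulAut.conj h).toMonoidHom = A ∨ A.map (MulAut.conj h).toMonoidHom ⊓ A = ⊥)
    (g : G) (hg : A.map (MulAut.conj g).toMonoidHom ≠ A) :
    Cfsg.IsElementaryAbelian 2 (A ⊓ Subgroup.normalizer ((A.map (MulAut.conj g).toMonoidHom : Subgroup G) : Set G)) ∨
      ⁅A, A.map (MulAut.conj g).toMonoidHom⁆ = ⊥ := by
  set B : Subgroup G := A.map (MulAut.conj g).toMonoidHom with hBdef
  set A₀ : Subgroup G := A ⊓ Subgroup.normalizer (B : Set G) with hA₀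
  have hAB : A ⊓ B = ⊥ := by
    rcases hti g with h | h
    · exact absurd h hg
    · rw [inf_comm]; exact h
  haveI hBa : IsMulCommutative ↥B := haveI := hAa; Subgroup.map_isMulCommutative A _
  have hB2 : IsPGroup 2 ↥B := hA2.map _
  have hcardB : Nat.card ↥B = Nat.card ↥A := Subgroup.card_map_of_injective (MulEquiv.injective _)
  by_cases hex : ∀ a ∈ A₀, a ^ 2 = 1
  · exact Or.inl ⟨IsMulCommutative.of_setLike_mul_comm fun x hx y hy =>
      setLike_mul_comm (s := A) hx.1 hy.1, hex⟩
  right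
  push Not at hex
  obtain ⟨a, ha, ha2⟩ := hex
  -- a point of `B` fixed by a nontrivial element of `A` normalises `A`, hence is fixed by `a`
  have hfix : ∀ b ∈ B, ∀ x ∈ A, x ≠ 1 → x * b = b * x → b ∈ Subgroup.normalizer (A : Set G) := by
    intro b _ x hx hx1 hxb
    rcases hti b with h | h
    · exact (Subgroup.mem_normalizer_iff_map_conj_eq (g := b) (H := A)).mpr h
    · exfalso
      have hm : x ∈ A.map (MulAut.conj b).toMonoidHom ⊓ A :=
        ⟨⟨x, hx, by show b * x * b⁻¹ = x; rw [← hxb, mul_inv_cancel_right]⟩, hx⟩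
      rw [h, Subgroup.mem_bot] at hm
      exact hx1 hm
  have hcent : ∀ b ∈ B, b ∈ Subgroup.normalizer (A : Set G) → a * b = b * a := by
    intro b hb hbn
    have h1 : a * b * a⁻¹ * b⁻¹ ∈ A := by
      have := A.mul_mem ha.1 ((Subgroup.mem_normalizer_iff.mp hbn a⁻¹).mp (A.inv_mem ha.1))
      simpa [mul_assoc] using this
    have h2 : a * b * a⁻¹ * b⁻¹ ∈ B :=
      B.mul_mem ((Subgroup.mem_normalizer_iff.mp ha.2 b).mp hb) (B.inv_mem hb)
    have h3 : a * b * a⁻¹ * b⁻¹ ∈ A ⊓ B := ⟨h1, h2⟩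
    rw [hAB, Subgroup.mem_bot, mul_inv_eq_one, mul_inv_eq_iff_eq_mul] at h3
    exact h3
  letI : CommGroup ↥B := { (inferInstance : Group ↥B) with mul_comm := fun x y => mul_comm' x y }
  let t : MulAut ↥B :=
    MonoidHom.toMulEquiv
      { toFun := fun b => ⟨a * b * a⁻¹, (Subgroup.mem_normalizer_iff.mp ha.2 b).mp b.2⟩
        map_one' := Subtype.ext (by simp)
        map_mul' := fun x y => Subtype.ext (by simp [mul_assoc]) }
      { toFun := fun b => ⟨a⁻¹ * b * a, (Subgroup.mem_normalizer_iff.mp ha.2 _).mpr (by simp [mul_assoc])⟩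
        map_one' := Subtype.ext (by simp)
        map_mul' := fun x y => Subtype.ext (by simp [mul_assoc]) }
      (MonoidHom.ext fun b => Subtype.ext (by simp [mul_assoc]))
      (MonoidHom.ext fun b => Subtype.ext (by simp [mul_assoc]))
  have htapp : ∀ b : ↥B, ((t b : ↥B) : G) = a * b * a⁻¹ := fun b => rfl
  have htord : ∃ k : ℕ, orderOf t = 2 ^ k := by
    have hpow : ∀ n : ℕ, ∀ b : ↥B, (((t ^ n) b : ↥B) : G) = a ^ n * b * (a ^ n)⁻¹ := by
      intro n
      induction n with
      | zero => simp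
      | succ n ih =>
        intro b
        rw [pow_succ, MulAut.mul_apply, ih, htapp, pow_succ]
        group
    obtain ⟨k, hk⟩ := hA2 ⟨a, ha.1⟩
    have hak : a ^ 2 ^ k = 1 := congrArg Subtype.val hk
    have : t ^ 2 ^ k = 1 := by
      ext b
      rw [hpow, hak]
      simp
    obtain ⟨j, -, hj⟩ := (Nat.dvd_prime_pow Nat.prime_two).mp (orderOf_dvd_of_pow_eq_one this)
    exact ⟨j, hj⟩
  have hC : ∀ b : ↥B, t (t b) = b → t b = b := by
    intro b hb
    apply Subtype.ext
    have h2 : a * (a * b * a⁻¹) * a⁻¹ = b := by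
      rw [← htapp, ← htapp, hb]
    have hc : a ^ 2 * b = b * a ^ 2 := by
      calc a ^ 2 * (b : G) = a * (a * b * a⁻¹) * a⁻¹ * a ^ 2 := by simp [sq, mul_assoc]
        _ = b * a ^ 2 := by rw [h2]
    have hn := hfix b b.2 (a ^ 2) (A.pow_mem ha.1 2) ha2 hc
    rw [htapp, hcent b b.2 hn, mul_inv_cancel_right]
  have hall := Cfsg.Agent.S1780.result (A := ↥B) hB2 t htord hC
  have hBN : B ≤ Subgroup.normalizer (A : Set G) := by
    intro b hb
    have h := congrArg Subtype.val (hall ⟨b, hb⟩)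
    rw [htapp] at h
    refine hfix b hb a ha.1 ?_ (mul_inv_eq_iff_eq_mul.mp h)
    rintro rfl
    exact ha2 (one_pow 2)
  have hAti : ∀ h : G, A.map (MulAut.conj h).toMonoidHom = A ∨ A.map (MulAut.conj h).toMonoidHom ⊓ A = ⊥ := hti
  have hBti : ∀ h : G, B.map (MulAut.conj h).toMonoidHom = B ∨ B.map (MulAut.conj h).toMonoidHom ⊓ B = ⊥ := by
    intro h
    have hcomp : B.map (MulAut.conj h).toMonoidHom =
        (A.map (MulAut.conj (g⁻¹ * h * g)).toMonoidHom).map (MulAut.conj g).toMonoidHom := by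
      rw [hBdef, Subgroup.map_map, Subgroup.map_map]
      congr 1
      ext x
      simp [MulAut.conj_apply, mul_assoc]
    rw [hcomp, hBdef]
    rcases hti (g⁻¹ * h * g) with h1 | h1
    · exact Or.inl (by rw [h1])
    · refine Or.inr ?_
      rw [← Subgroup.map_inf _ _ _ (MulEquiv.injective (MulAut.conj g)), h1, Subgroup.map_bot]
  exact Cfsg.Agent.S1757.result 2 A B hA2 hB2 hAti hBti hcardB.ge hAB hBN

end Cfsg.Agent.S1781
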