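import Cfsg.Statements.S1782
import Mathlib
import Cfsg.Agent.Lib.PGroup.Frattini

set_option autoImplicit false
open Cfsg

open scoped Pointwise

namespace Cfsg.Agent.S1782

open Subgroup

variable {S : Type*} [Group S]

theorem eq_one_of_mem_two {Δ : Set (Subgroup S)} (hti : ∀ R ∈ Δ, ∀ T ∈ Δ, R = T ∨ R ⊓ T = ⊥)
    {R T : Subgroup S} (hR : R ∈ Δ) (hT : T ∈ Δ) (h : R ≠ T) {x : S} (hx : x ∈ R) (hx' : x ∈ T) : x = 1 := by
  have := (hti R hR T hT).resolve_left h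
  exact (eq_bot_iff_forall _).mp this x ⟨hx, hx'⟩

/-- One-sided normalisation is impossible. -/
theorem not_one_sided [Finite S] {Δ : Set (Subgroup S)}
    (hinv : ∀ s : S, ∀ R ∈ Δ, R.map (MulAut.conj s).toMonoidHom ∈ Δ)
    (hti : ∀ R ∈ Δ, ∀ T ∈ Δ, R = T ∨ R ⊓ T = ⊥) {R T : Subgroup S} (hR : R ∈ Δ) (hT : T ∈ Δ)
    (hne : R ≠ T) (hcard : Nat.card ↥R = Nat.card ↥T) (hRT : R ≤ normalizer (T : Set S))
    {t : S} (ht : t ∈ T) (htR : R.map (MulAut.conj t).toMonoidHom ≠ R)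
    (hcomm : ∀ x ∈ R, ∀ y ∈ R.map (MulAut.conj t).toMonoidHom, x * y = y * x) : False := by
  set R' := R.map (MulAut.conj t).toMonoidHom with hR'
  have hR'mem : R' ∈ Δ := hinv t R hR
  have hφ : ∀ r ∈ R, t * r * t⁻¹ ∈ R' := fun r hr => ⟨r, hr, rfl⟩
  have hc : ∀ r ∈ R, t * r * t⁻¹ * r⁻¹ ∈ T := by
    intro r hr
    have h := (mem_normalizer_iff.mp (hRT hr) t⁻¹).mp (T.inv_mem ht)
    simpa [mul_assoc] using T.mul_mem ht h
  have hab : ∀ r ∈ R, ∀ s ∈ R, r * s = s * r := by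
    intro r hr s hs
    have h1 : (t * (r * s) * t⁻¹ * (r * s)⁻¹)⁻¹ * ((t * r * t⁻¹ * r⁻¹) * (t * s * t⁻¹ * s⁻¹)) = (r * s) * (s * r)⁻¹ := by
      have hc1 : r⁻¹ * (t * s * t⁻¹) = (t * s * t⁻¹) * r⁻¹ := hcomm _ (R.inv_mem hr) _ (hφ s hs)
      calc (t * (r * s) * t⁻¹ * (r * s)⁻¹)⁻¹ * ((t * r * t⁻¹ * r⁻¹) * (t * s * t⁻¹ * s⁻¹))
          = (r * s) * ((t * (r * s) * t⁻¹)⁻¹ * ((t * r * t⁻¹) * (r⁻¹ * (t * s * t⁻¹)) * s⁻¹)) := by group
        _ = (r * s) * ((t * (r * s) * t⁻¹)⁻¹ * ((t * r * t⁻¹) * ((t * s * t⁻¹) * r⁻¹) * s⁻¹)) := by rw [hc1]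
        _ = (r * s) * (s * r)⁻¹ := by group
    have h2 := eq_one_of_mem_two hti hR hT hne
      (R.mul_mem (R.mul_mem hr hs) (R.inv_mem (R.mul_mem hs hr)))
      (h1 ▸ T.mul_mem (T.inv_mem (hc _ (R.mul_mem hr hs))) (T.mul_mem (hc r hr) (hc s hs)))
    exact mul_inv_eq_one.mp h2
  let f : ↥R → ↥T := fun r => ⟨t * r * t⁻¹ * (r : S)⁻¹, hc r r.2⟩
  have hf : Function.Injective f := by
    intro a b hab'
    have h1 : t * a * t⁻¹ * (a : S)⁻¹ = t * b * t⁻¹ * (b : S)⁻¹ := congrArg Subtype.val hab'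
    have h2 : (b : S)⁻¹ * (a : S) = (t * b * t⁻¹)⁻¹ * (t * a * t⁻¹) := by
      rw [eq_inv_mul_iff_mul_eq, ← mul_assoc]
      calc t * b * t⁻¹ * (b : S)⁻¹ * a = t * a * t⁻¹ * (a : S)⁻¹ * a := by rw [h1]
        _ = t * a * t⁻¹ := by group
    have h3 : (b : S)⁻¹ * (a : S) = 1 := by
      refine eq_one_of_mem_two hti hR'mem hR htR ?_ (R.mul_mem (R.inv_mem b.2) a.2)
      rw [h2]; exact R'.mul_mem (R'.inv_mem (hφ b b.2)) (hφ a a.2)
    exact Subtype.ext (inv_mul_eq_one.mp h3).symm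
  obtain ⟨r, hr⟩ := (Nat.bijective_iff_injective_and_card f).mpr ⟨hf, hcard⟩ |>.2 ⟨t, ht⟩
  have hrt : t * r * t⁻¹ * (r : S)⁻¹ = t := congrArg Subtype.val hr
  apply htR
  refine eq_of_le_of_card_ge ?_ (le_of_eq (card_map_of_injective (MulEquiv.injective _)).symm)
  rintro _ ⟨x, hx, rfl⟩
  show t * x * t⁻¹ ∈ R
  have hx' : t * x * t⁻¹ = x := by
    calc t * x * t⁻¹ = (t * r * t⁻¹ * (r : S)⁻¹) * x * (t * r * t⁻¹ * (r : S)⁻¹)⁻¹ := by rw [hrt]
      _ = (t * r * t⁻¹) * ((r : S)⁻¹ * x * r) * (t * r * t⁻¹)⁻¹ := by group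
      _ = (t * r * t⁻¹) * x * (t * r * t⁻¹)⁻¹ := by rw [show (r : S)⁻¹ * x * r = x by rw [mul_assoc, hab x hx r r.2, inv_mul_cancel_left]]
      _ = x := by rw [← hcomm x hx _ (hφ r r.2), mul_inv_cancel_right]
  rw [hx']; exact hx

/-- Elements moving the other member are involutions. -/
theorem sq_eq_one_of_moves {Δ : Set (Subgroup S)}
    (hinv : ∀ s : S, ∀ R ∈ Δ, R.map (MulAut.conj s).toMonoidHom ∈ Δ)
    (hti : ∀ R ∈ Δ, ∀ T ∈ Δ, R = T ∨ R ⊓ T = ⊥) {R T : Subgroup S} (hR : R ∈ Δ)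
    {t : S} (ht : t ∈ T) (htR : R.map (MulAut.conj t).toMonoidHom ≠ R) (ht2 : t ^ 2 ∈ normalizer (R : Set S))
    (hcommR : ∀ x ∈ R, ∀ y ∈ R.map (MulAut.conj t).toMonoidHom, x * y = y * x)
    {r : S} (hr : r ∈ R) (hcommT : ∀ x ∈ T, ∀ y ∈ T.map (MulAut.conj r).toMonoidHom, x * y = y * x) :
    r ^ 2 = 1 := by
  set R' := R.map (MulAut.conj t).toMonoidHom with hR'
  have hr' : t * r * t⁻¹ ∈ R' := ⟨r, hr, rfl⟩
  have hcr : r⁻¹ * (t * r * t⁻¹) = t * r * t⁻¹ * r⁻¹ := hcommR _ (R.inv_mem hr) _ hr'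
  have h1 : t * (r * t⁻¹ * r⁻¹) = (r * t⁻¹ * r⁻¹) * t :=
    hcommT t ht _ ⟨t⁻¹, T.inv_mem ht, rfl⟩
  have h2 : t ^ 2 * r * (t ^ 2)⁻¹ * r = (t * r * t⁻¹) * (t * r * t⁻¹) := by
    calc t ^ 2 * r * (t ^ 2)⁻¹ * r
        = t * (t * (r * t⁻¹ * r⁻¹)) * t⁻¹ * (t * r * t⁻¹) * r := by rw [sq]; group
      _ = t * ((r * t⁻¹ * r⁻¹) * t) * t⁻¹ * (t * r * t⁻¹) * r := by rw [h1]
      _ = (t * r * t⁻¹) * (r⁻¹ * (t * r * t⁻¹)) * r := by group
      _ = (t * r * t⁻¹) * ((t * r * t⁻¹) * r⁻¹) * r := by rw [hcr]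
      _ = (t * r * t⁻¹) * (t * r * t⁻¹) := by group
  have h3 : t * r ^ 2 * t⁻¹ = 1 := by
    refine eq_one_of_mem_two hti (hinv t R hR) hR htR ⟨r ^ 2, R.pow_mem hr 2, rfl⟩ ?_
    rw [sq, show t * (r * r) * t⁻¹ = (t * r * t⁻¹) * (t * r * t⁻¹) by group, ← h2]
    exact R.mul_mem ((mem_normalizer_iff.mp ht2 r).mp hr) hr
  simpa using h3

theorem exists_moves {R T : Subgroup S} [Finite S] (hS : IsPGroup 2 S) (h : ¬ T ≤ normalizer (R : Set S)) :
    ∃ t ∈ T, t ∉ normalizer (R : Set S) ∧ t ^ 2 ∈ normalizer (R : Set S) := by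
  obtain ⟨t, ht, htn⟩ := SetLike.not_le_iff_exists.mp h
  obtain ⟨k, hk⟩ := hS t
  by_contra! hno
  have : ∀ i : ℕ, t ^ 2 ^ i ∉ normalizer (R : Set S) := by
    intro i
    induction i with
    | zero => simpa using htn
    | succ i ih => rw [pow_succ, pow_mul]; exact hno _ (T.pow_mem ht _) ih
  exact this k (hk ▸ one_mem _)

theorem map_conj_ne {R : Subgroup S} {t : S} (h : t ∉ normalizer (R : Set S)) :
    R.map (MulAut.conj t).toMonoidHom ≠ R := fun he => h (mem_normalizer_iff_map_conj_eq.mpr he)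

theorem commute_pair [Finite S] (hS : IsPGroup 2 S) {Δ : Set (Subgroup S)}
    (hinv : ∀ s : S, ∀ R ∈ Δ, R.map (MulAut.conj s).toMonoidHom ∈ Δ)
    (hΦ : ∀ R ∈ Δ, frattini ↥R ≠ ⊥) (hord : ∀ R ∈ Δ, ∀ T ∈ Δ, Nat.card ↥R = Nat.card ↥T)
    (hti : ∀ R ∈ Δ, ∀ T ∈ Δ, R = T ∨ R ⊓ T = ⊥) {R T : Subgroup S} (hR : R ∈ Δ) (hT : T ∈ Δ) (hne : R ≠ T)
    (hRR : ∀ t ∈ T, R.map (MulAut.conj t).toMonoidHom ≠ R → ∀ x ∈ R, ∀ y ∈ R.map (MulAut.conj t).toMonoidHom, x * y = y * x)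
    (hTT : ∀ r ∈ R, T.map (MulAut.conj r).toMonoidHom ≠ T → ∀ x ∈ T, ∀ y ∈ T.map (MulAut.conj r).toMonoidHom, x * y = y * x) :
    ⁅R, T⁆ = ⊥ := by
  haveI : Fact (Nat.Prime 2) := ⟨Nat.prime_two⟩
  have hcard := hord R hR T hT
  by_cases hTR : T ≤ normalizer (R : Set S)
  · by_cases hRT : R ≤ normalizer (T : Set S)
    · exact le_bot_iff.mp ((le_inf (le_normalizer_iff_commutator_le_left.mp hTR)
        (by rw [commutator_comm]; exact le_normalizer_iff_commutator_le_left.mp hRT)).trans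
        ((hti R hR T hT).resolve_left hne).le)
    · obtain ⟨r, hr, hrn⟩ := SetLike.not_le_iff_exists.mp hRT
      exact (not_one_sided hinv hti hT hR hne.symm hcard.symm hTR hr (map_conj_ne hrn) (hTT r hr (map_conj_ne hrn))).elim
  · by_cases hRT : R ≤ normalizer (T : Set S)
    · obtain ⟨t, ht, htn⟩ := SetLike.not_le_iff_exists.mp hTR
      exact (not_one_sided hinv hti hR hT hne hcard hRT ht (map_conj_ne htn) (hRR t ht (map_conj_ne htn))).elim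
    exfalso
    obtain ⟨t, ht, htn, ht2⟩ := exists_moves hS hTR
    obtain ⟨r, hr, hrn, hr2⟩ := exists_moves hS hRT
    have hinvol : ∀ s ∈ R, s ∉ normalizer (T : Set S) → s ^ 2 = 1 := fun s hs hsn =>
      sq_eq_one_of_moves hinv hti hR ht (map_conj_ne htn) ht2 (hRR t ht (map_conj_ne htn)) hs (hTT s hs (map_conj_ne hsn))
    obtain ⟨x, hx, hx2⟩ : ∃ x ∈ R, x ^ 2 ≠ 1 := by
      by_contra! h
      apply hΦ R hR
      refine le_bot_iff.mp (Cfsg.Agent.Lib.PFrattini.frattini_le (p := 2) ?_ fun y => ?_)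
      · rw [commutator_def, commutator_le]
        intro a _ b _
        have key : ∀ a b : ↥R, a * b = b * a := fun a b => by
          have hs : ∀ c : ↥R, c⁻¹ = c := fun c =>
            inv_eq_of_mul_eq_one_right (Subtype.ext (by simpa [sq] using h c c.2))
          calc a * b = (a * b)⁻¹ := (hs _).symm
            _ = b⁻¹ * a⁻¹ := mul_inv_rev _ _
            _ = b * a := by rw [hs, hs]
        rw [mem_bot, commutatorElement_eq_one_iff_commute]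
        exact key a b
      · exact mem_bot.mpr (Subtype.ext (by simpa using h y y.2))
    obtain ⟨r0, hr0, hr04, hr02⟩ : ∃ r0 ∈ R, r0 ^ 4 = 1 ∧ r0 ^ 2 ≠ 1 := by
      obtain ⟨k, hk⟩ := hS x
      induction k generalizing x with
      | zero => exact absurd (by simpa using hk) (fun h : x = 1 => hx2 (by simp [h]))
      | succ k ih =>
        by_cases h4 : x ^ 4 = 1
        · exact ⟨x, hx, h4, hx2⟩
        · refine ih (x ^ 2) (R.pow_mem hx 2) (by rw [← pow_mul]; simpa using h4) ?_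
          rw [← pow_mul, ← pow_succ']; exact hk
    have hr0n : r0 ∈ normalizer (T : Set S) := by
      by_contra h
      exact hr02 (hinvol r0 hr0 h)
    have hrr0 : r * r0 * r⁻¹ = r0⁻¹ := by
      have h1 : (r * r0) ^ 2 = 1 := hinvol _ (R.mul_mem hr hr0) fun h => hrn (by simpa using (normalizer (T : Set S)).mul_mem h (inv_mem hr0n))
      have h2 : r * r = 1 := by rw [← sq]; exact hinvol r hr hrn
      have h3 : r⁻¹ = r := inv_eq_of_mul_eq_one_right h2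
      rw [h3, eq_inv_iff_mul_eq_one]
      simpa [sq, mul_assoc] using h1
    set r' := t * r0 * t⁻¹ with hr'
    have hr'R : r' ∈ R.map (MulAut.conj t).toMonoidHom := ⟨r0, hr0, rfl⟩
    have hcom := hRR t ht (map_conj_ne htn)
    set c := r' * r0⁻¹ with hc
    have hcT : c ∈ T := by
      have h := T.mul_mem ht ((mem_normalizer_iff.mp hr0n t⁻¹).mp (T.inv_mem ht))
      simpa [c, r', mul_assoc] using h
    have hd : r * c * r⁻¹ = r' * r0 := by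
      calc r * c * r⁻¹ = (r * r') * (r0⁻¹ * r⁻¹) := by simp [c, mul_assoc]
        _ = (r' * r) * (r0⁻¹ * r⁻¹) := by rw [hcom r hr r' hr'R]
        _ = r' * (r * r0 * r⁻¹)⁻¹ := by group
        _ = r' * r0 := by rw [hrr0, inv_inv]
    have hsq : ∀ y ∈ R, (r' * y) ^ 2 = r' ^ 2 * y ^ 2 := fun y hy =>
      (show Commute r' y from (hcom y hy r' hr'R).symm).mul_pow 2
    have hinv2 : (r0⁻¹) ^ 2 = r0 ^ 2 := by
      rw [inv_pow, inv_eq_iff_mul_eq_one, ← pow_add]; exact hr04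
    have hceq : (r * c * r⁻¹) ^ 2 = c ^ 2 := by
      rw [hd, hsq r0 hr0, hc, hsq _ (R.inv_mem hr0), hinv2]
    have hc1 : c ^ 2 = 1 := by
      refine eq_one_of_mem_two hti (hinv r T hT) hT (map_conj_ne hrn) ?_ (T.pow_mem hcT 2)
      rw [← hceq]
      exact pow_mem (show r * c * r⁻¹ ∈ T.map (MulAut.conj r).toMonoidHom from ⟨c, hcT, rfl⟩) 2
    rw [hc, hsq _ (R.inv_mem hr0), hinv2, mul_eq_one_iff_eq_inv] at hc1
    refine hr02 ?_
    have h5 : r' ^ 2 = 1 := eq_one_of_mem_two hti (hinv t R hR) hR (map_conj_ne htn) (pow_mem hr'R 2)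
      (hc1 ▸ R.inv_mem (R.pow_mem hr0 2))
    simpa [r', ← map_pow] using (show (MulAut.conj t) (r0 ^ 2) = 1 by rw [map_pow]; exact h5)

theorem commute_all [Finite S] (hS : IsPGroup 2 S) {Δ : Set (Subgroup S)}
    (hinv : ∀ s : S, ∀ R ∈ Δ, R.map (MulAut.conj s).toMonoidHom ∈ Δ)
    (hΦ : ∀ R ∈ Δ, frattini ↥R ≠ ⊥) (hord : ∀ R ∈ Δ, ∀ T ∈ Δ, Nat.card ↥R = Nat.card ↥T)
    (hti : ∀ R ∈ Δ, ∀ T ∈ Δ, R = T ∨ R ⊓ T = ⊥) (M : Subgroup S) :
    ∀ R ∈ Δ, ∀ T ∈ Δ, R ≤ M → T ≤ M → R ≠ T → ⁅R, T⁆ = ⊥ := by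
  induction M using WellFoundedLT.induction with
  | _ M ih =>
    intro R hR T hT hRM hTM hne
    have key : ∀ A ∈ Δ, A ≤ M → A ≠ M → ∀ g ∈ M, A.map (MulAut.conj g).toMonoidHom ≠ A →
        ∀ x ∈ A, ∀ y ∈ A.map (MulAut.conj g).toMonoidHom, x * y = y * x := by
      intro A hA hAM hAne g hg hgA x hx y hy
      haveI : Fact (Nat.Prime 2) := ⟨Nat.prime_two⟩
      haveI : Group.IsNilpotent ↥M := (hS.to_subgroup M).isNilpotent
      obtain ⟨N, hN, hAN⟩ := (eq_top_or_exists_le_coatom (A.subgroupOf M)).resolve_left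
        (fun h => hAne (le_antisymm hAM (subgroupOf_eq_top.mp h)))
      haveI : N.Normal := NormalizerCondition.normal_of_coatom N Group.normalizerCondition_of_isNilpotent hN
      have hlt : N.map M.subtype < M := by
        refine lt_of_le_of_ne (map_subtype_le N) fun h => hN.1 ?_
        apply map_injective M.subtype_injective
        rw [h, ← MonoidHom.range_eq_map, range_subtype]
      have h1 : A ≤ N.map M.subtype := fun a ha => ⟨⟨a, hAM ha⟩, hAN (mem_subgroupOf.mpr ha), rfl⟩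
      have h2 : A.map (MulAut.conj g).toMonoidHom ≤ N.map M.subtype := by
        rintro _ ⟨a, ha, rfl⟩
        exact ⟨⟨g, hg⟩ * ⟨a, hAM ha⟩ * ⟨g, hg⟩⁻¹, Subgroup.Normal.conj_mem inferInstance _ (hAN (mem_subgroupOf.mpr ha)) _, rfl⟩
      have h3 := ih _ hlt A hA _ (hinv g A hA) h1 h2 hgA.symm
      exact (mem_centralizer_iff.mp (commutator_eq_bot_iff_le_centralizer.mp h3 hx) y hy).symm
    have hne' : ∀ A ∈ Δ, ∀ B ∈ Δ, A ≠ B → B ≤ M → A ≠ M := by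
      intro A hA B hB hAB hBM hAM
      exact hAB ((eq_of_le_of_card_ge (hAM ▸ hBM) (hord A hA B hB).le).symm)
    exact commute_pair hS hinv hΦ hord hti hR hT hne
      (fun t ht h => key R hR hRM (hne' R hR T hT hne hTM) t (hTM ht) h)
      (fun r hr h => key T hT hTM (hne' T hT R hR hne.symm hRM) r (hRM hr) h)


/-- Let S be a finite 2-group and Δ a set of subgroups of S closed under conjugation by S, all of the same order, each with nontrivial Frattini subgroup, and such that two distinct members of Δ meet trivially. Then any two distinct members of Δ commute elementwise. -/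
theorem result {S : Type*} [Group S] [Finite S] (hS : IsPGroup 2 S)
    (Δ : Set (Subgroup S)) (hinv : ∀ s : S, ∀ R ∈ Δ, R.map (MulAut.conj s).toMonoidHom ∈ Δ)
    (hΦ : ∀ R ∈ Δ, frattini ↥R ≠ ⊥) (hord : ∀ R ∈ Δ, ∀ T ∈ Δ, Nat.card ↥R = Nat.card ↥T)
    (hti : ∀ R ∈ Δ, ∀ T ∈ Δ, R = T ∨ R ⊓ T = ⊥) :
    ∀ R ∈ Δ, ∀ T ∈ Δ, R ≠ T → ⁅R, T⁆ = ⊥ := by
  exact fun R hR T hT hne => commute_all hS hinv hΦ hord hti ⊤ R hR T hT le_top le_top hne

end Cfsg.Agent.S1782
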