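import Cfsg.Statements.S1783
import Mathlib
import Cfsg.Agent.S1782
import Cfsg.Agent.Lib.PGroup.Frattini
import Cfsg.Agent.Lib.CharTwo.Local

set_option autoImplicit false
open Cfsg

open scoped Pointwise

namespace Cfsg.Agent.S1783

open Subgroup
open Cfsg.Agent.Lib

variable {X : Type*} [Group X]

theorem frattini_ne_bot_of_sq {P : Type*} [Group P] [Finite P] (hP : IsPGroup 2 P) {x : P} (hx : x ^ 2 ≠ 1) :
    frattini P ≠ ⊥ := by
  haveI : Fact (Nat.Prime 2) := ⟨Nat.prime_two⟩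
  intro h
  exact hx ((eq_bot_iff_forall _).mp h _ (PFrattini.pow_mem_frattini hP x))

theorem comm_conj [Finite X] {S A : Subgroup X} (hS : IsPGroup 2 ↥S) (hAS : A ≤ S)
    (hti : ∀ h : X, A.map (MulAut.conj h).toMonoidHom = A ∨ A.map (MulAut.conj h).toMonoidHom ⊓ A = ⊥)
    {x : X} (hx : x ∈ A) (hx2 : x ^ 2 ≠ 1) (g : X) (hgS : A.map (MulAut.conj g).toMonoidHom ≤ S)
    (hab : IsMulCommutative ↥A) : ∀ a ∈ A, ∀ b ∈ A, a * (g * b * g⁻¹) = g * b * g⁻¹ * a := by
  intro a ha b hb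
  rcases eq_or_ne (A.map (MulAut.conj g).toMonoidHom) A with heq | hne
  · have hb' : g * b * g⁻¹ ∈ A := heq ▸ (⟨b, hb, rfl⟩ : g * b * g⁻¹ ∈ A.map (MulAut.conj g).toMonoidHom)
    exact congrArg Subtype.val (hab.is_comm.comm (⟨a, ha⟩ : ↥A) ⟨_, hb'⟩)
  set Δ : Set (Subgroup ↥S) := {R | ∃ h : X, R.map S.subtype = A.map (MulAut.conj h).toMonoidHom} with hΔ
  have hA1 : A.subgroupOf S ∈ Δ := ⟨1, by rw [map_subgroupOf_eq_of_le hAS]; ext; simp⟩
  have hA2 : (A.map (MulAut.conj g).toMonoidHom).subgroupOf S ∈ Δ := ⟨g, map_subgroupOf_eq_of_le hgS⟩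
  have hcard : ∀ R ∈ Δ, Nat.card ↥R = Nat.card ↥A := by
    rintro R ⟨h, hR⟩
    rw [← card_map_of_injective (f := S.subtype) S.subtype_injective, hR, card_map_of_injective (MulEquiv.injective _)]
  have h := Cfsg.Agent.S1782.commute_all hS (Δ := Δ) ?_ ?_ (fun R hR T hT => (hcard R hR).trans (hcard T hT).symm) ?_ ⊤
    _ hA1 _ hA2 le_top le_top ?_
  · exact (congrArg Subtype.val (mem_centralizer_iff.mp (commutator_eq_bot_iff_le_centralizer.mp h (show (⟨a, hAS ha⟩ : ↥S) ∈ _ from ha))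
      (⟨g * b * g⁻¹, hgS ⟨b, hb, rfl⟩⟩ : ↥S) ⟨b, hb, rfl⟩)).symm
  · rintro s R ⟨h, hR⟩
    refine ⟨(s : X) * h, ?_⟩
    rw [Subgroup.map_map, show S.subtype.comp (MulAut.conj s).toMonoidHom = (MulAut.conj (s : X)).toMonoidHom.comp S.subtype from rfl,
      ← Subgroup.map_map, hR, Subgroup.map_map]
    congr 1
    ext y
    simp [mul_assoc]
  · rintro R ⟨h, hR⟩
    obtain ⟨y, hy, hy'⟩ : h * x * h⁻¹ ∈ R.map S.subtype := by rw [hR]; exact ⟨x, hx, rfl⟩
    refine frattini_ne_bot_of_sq (hS.to_subgroup R) (x := ⟨y, hy⟩) fun e => hx2 ?_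
    have h1 : ((y : X)) ^ 2 = 1 := by simpa using congrArg Subtype.val (congrArg Subtype.val e)
    have h2 : (MulAut.conj h) (x ^ 2) = 1 := by
      rw [map_pow, MulAut.conj_apply, ← hy']; exact h1
    simpa using h2
  · rintro R ⟨h, hR⟩ T ⟨k, hT⟩
    rcases hti (k⁻¹ * h) with he | he
    · left
      apply map_injective S.subtype_injective
      rw [hR, hT]
      conv_rhs => rw [← he]
      rw [Subgroup.map_map]
      congr 1
      ext y
      simp [mul_assoc]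
    · right
      rw [eq_bot_iff_forall]
      intro y hy
      have hyR : (y : X) ∈ A.map (MulAut.conj h).toMonoidHom := hR ▸ mem_map_of_mem _ hy.1
      have hyT : (y : X) ∈ A.map (MulAut.conj k).toMonoidHom := hT ▸ mem_map_of_mem _ hy.2
      obtain ⟨u, hu, huy⟩ := hyR
      obtain ⟨v, hv, hvy⟩ := hyT
      change h * u * h⁻¹ = (y : X) at huy
      change k * v * k⁻¹ = (y : X) at hvy
      have hv1 : v = 1 := by
        refine (eq_bot_iff_forall _).mp he v ⟨⟨u, hu, ?_⟩, hv⟩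
        show k⁻¹ * h * u * (k⁻¹ * h)⁻¹ = v
        calc k⁻¹ * h * u * (k⁻¹ * h)⁻¹ = k⁻¹ * (h * u * h⁻¹) * k := by group
          _ = k⁻¹ * (k * v * k⁻¹) * k := by rw [huy, hvy]
          _ = v := by group
      exact Subtype.ext (by rw [← hvy, hv1]; simp)
  · intro h
    apply hne
    have := congrArg (Subgroup.map S.subtype) h
    rwa [map_subgroupOf_eq_of_le hAS, map_subgroupOf_eq_of_le hgS, eq_comm] at this

/-- An element acting quadratically on `O₂` has its square in `O₂`. -/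
theorem sq_mem_pCore [Finite X] (hX : Cfsg.IsOfCharacteristicTwo X) {a : X} {k : ℕ} (_hk : a ^ 2 ^ k = 1)
    (hquad : ∀ q ∈ Cfsg.pCore 2 X, Commute a (a * q * a⁻¹ * q⁻¹)) : a ^ 2 ∈ Cfsg.pCore 2 X := by
  haveI : Fact (Nat.Prime 2) := ⟨Nat.prime_two⟩
  let K : Subgroup X :=
    { carrier := {g | ∀ M : Subgroup X, M.Normal → M ≤ Cfsg.pCore 2 X → ∀ m ∈ M, g * m * g⁻¹ * m⁻¹ ∈ (frattini ↥M).map M.subtype}
      one_mem' := fun M _ _ m _ => by simp
      mul_mem' := by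
        intro g h hg hh M hM hMQ m hm
        have e : g * h * m * (g * h)⁻¹ * m⁻¹ = (g * (h * m * h⁻¹) * g⁻¹ * (h * m * h⁻¹)⁻¹) * (h * m * h⁻¹ * m⁻¹) := by group
        rw [e]
        exact mul_mem (hg M hM hMQ _ (hM.conj_mem m hm h)) (hh M hM hMQ m hm)
      inv_mem' := by
        intro g hg M hM hMQ m hm
        have h := inv_mem (hg M hM hMQ (g⁻¹ * m * g) (by simpa using hM.conj_mem m hm g⁻¹))
        have e : g⁻¹ * m * (g⁻¹)⁻¹ * m⁻¹ = (g * (g⁻¹ * m * g) * g⁻¹ * (g⁻¹ * m * g)⁻¹)⁻¹ := by group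
        rw [e]; exact h }
  haveI : K.Normal := by
    refine ⟨fun g hg y M hM hMQ m hm => ?_⟩
    haveI := hM
    haveI : ((frattini ↥M).map M.subtype).Normal := inferInstance
    have h := Normal.conj_mem inferInstance _ (hg M hM hMQ (y⁻¹ * m * y) (by simpa using hM.conj_mem m hm y⁻¹)) y
    have e : y * g * y⁻¹ * m * (y * g * y⁻¹)⁻¹ * m⁻¹ = y * (g * (y⁻¹ * m * y) * g⁻¹ * (y⁻¹ * m * y)⁻¹) * y⁻¹ := by group
    rw [e]; exact h
  have hK : K ≤ Cfsg.pCore 2 X := by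
    refine PSolvable.le_pCore (CharP.isPGroup_of_forall fun y hy hcop => ?_)
    refine CharP.eq_one_of_centralizes_pCore hX hcop ?_
    suffices h : ∀ M : Subgroup X, M.Normal → M ≤ Cfsg.pCore 2 X → ∀ m ∈ M, Commute m y from
      fun r hr => h _ (inferInstance : (Cfsg.pCore 2 X).Normal) le_rfl r hr
    intro M
    induction M using WellFoundedLT.induction with
    | _ M ih =>
      intro hM hMQ m hm
      haveI := hM
      rcases eq_or_ne M ⊥ with rfl | hMne
      · rw [mem_bot.mp hm]; exact Commute.one_left y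
      haveI : Nontrivial ↥M := (nontrivial_iff_ne_bot M).mpr hMne
      have hFM : (frattini ↥M).map M.subtype ≤ M := map_subtype_le _
      have hlt : (frattini ↥M).map M.subtype < M := by
        refine lt_of_le_of_ne hFM fun e => ?_
        obtain ⟨N, hN, -⟩ := (eq_top_or_exists_le_coatom (⊥ : Subgroup ↥M)).resolve_left bot_ne_top
        refine hN.1 (top_le_iff.mp (le_trans (le_of_eq ?_) (frattini_le_coatom hN)))
        exact map_injective M.subtype_injective (by rw [e, ← MonoidHom.range_eq_map, range_subtype])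
      have hyF : y ∈ centralizer (((frattini ↥M).map M.subtype : Subgroup X) : Set X) :=
        mem_centralizer_iff.mpr fun f hf => ih _ hlt inferInstance (hFM.trans hMQ) f hf
      have h1 := inv_mem (hy M hM hMQ m hm)
      refine CharP.commute_of_commutator_mem (p := 2) ((PSolvable.pCore_isPGroup.to_le hMQ).to_le hFM) hcop hyF ?_
      have e : m * y * m⁻¹ * y⁻¹ = (y * m * y⁻¹ * m⁻¹)⁻¹ := by group
      rw [e]; exact h1
  refine hK fun M hM hMQ m hm => ?_
  have hu : a * m * a⁻¹ * m⁻¹ ∈ M := M.mul_mem (hM.conj_mem m hm a) (M.inv_mem hm)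
  have hq := hquad m (hMQ hm)
  have e : a ^ 2 * m * (a ^ 2)⁻¹ * m⁻¹ = (a * m * a⁻¹ * m⁻¹) ^ 2 := by
    calc a ^ 2 * m * (a ^ 2)⁻¹ * m⁻¹ = a * (a * m * a⁻¹ * m⁻¹) * a⁻¹ * (a * m * a⁻¹ * m⁻¹) := by rw [sq]; group
      _ = (a * m * a⁻¹ * m⁻¹) * (a * m * a⁻¹ * m⁻¹) := by rw [hq.eq, mul_inv_cancel_right]
      _ = _ := (sq _).symm
  rw [e]
  exact ⟨(⟨_, hu⟩ : ↥M) ^ 2, PFrattini.pow_mem_frattini (PSolvable.pCore_isPGroup.to_le hMQ) _, rfl⟩


/-- Let X be a finite group whose generalized Fitting subgroup equals its largest normal 2-subgroup Q, and let A be an abelian 2-subgroup of X such that every conjugate of A equals A or meets A trivially. Let B be the subgroup generated by the squares of the elements of A. Then B lies in Q, and if B is not an elementary abelian 2-group then the normal closure of B in X is commutative. -/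
theorem result {X : Type*} [Group X] [Finite X]
    (hX : Cfsg.generalizedFittingSubgroup X = Cfsg.pCore 2 X) (A : Subgroup X) (hA2 : IsPGroup 2 ↥A) (hAa : IsMulCommutative ↥A)
    (hti : ∀ h : X, A.map (MulAut.conj h).toMonoidHom = A ∨ A.map (MulAut.conj h).toMonoidHom ⊓ A = ⊥) :
    Subgroup.closure ((fun a : X => a ^ 2) '' (A : Set X)) ≤ Cfsg.pCore 2 X ∧
      (¬ Cfsg.IsElementaryAbelian 2 (Subgroup.closure ((fun a : X => a ^ 2) '' (A : Set X))) →
        IsMulCommutative ↥(Subgroup.normalClosure ((fun a : X => a ^ 2) '' (A : Set X)))) := by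
  classical
  haveI : Fact (Nat.Prime 2) := ⟨Nat.prime_two⟩
  have hc2 := Lib.CharTwo.centralizer_le_of_generalizedFitting_eq hX
  set Q := Cfsg.pCore 2 X with hQ
  haveI : Q.Normal := by rw [hQ]; infer_instance
  have hQp : IsPGroup 2 ↥Q := PSolvable.pCore_isPGroup
  have hB : Subgroup.closure ((fun a : X => a ^ 2) '' (A : Set X)) ≤ Q := by
    rw [Subgroup.closure_le]
    rintro _ ⟨a, ha, rfl⟩
    by_cases h2 : a ^ 2 = 1
    · show a ^ 2 ∈ Q; rw [h2]; exact Q.one_mem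
    obtain ⟨k, hk⟩ := hA2 ⟨a, ha⟩
    refine sq_mem_pCore hc2 (k := k) (by simpa using congrArg Subtype.val hk) fun q hq => ?_
    have hgS : A.map (MulAut.conj q).toMonoidHom ≤ A ⊔ Q := by
      rintro _ ⟨b, hb, rfl⟩
      exact mul_mem (mul_mem (Subgroup.mem_sup_right hq) (Subgroup.mem_sup_left hb)) (inv_mem (Subgroup.mem_sup_right hq))
    have h := comm_conj (hA2.to_sup_of_normal_right hQp) le_sup_left hti ha h2 q hgS hAa a ha a⁻¹ (A.inv_mem ha)
    show a * (a * q * a⁻¹ * q⁻¹) = a * q * a⁻¹ * q⁻¹ * a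
    calc a * (a * q * a⁻¹ * q⁻¹) = a * (a * (q * a⁻¹ * q⁻¹)) := by group
      _ = a * ((q * a⁻¹ * q⁻¹) * a) := by rw [h]
      _ = a * q * a⁻¹ * q⁻¹ * a := by group
  refine ⟨hB, fun hne => ?_⟩
  set B := Subgroup.closure ((fun a : X => a ^ 2) '' (A : Set X)) with hBdef
  have hBA : B ≤ A := (Subgroup.closure_le _).mpr (by rintro _ ⟨a, ha, rfl⟩; exact A.pow_mem ha 2)
  have hBc : IsMulCommutative ↥B := ⟨⟨fun u v => Subtype.ext
    (show (u : X) * v = v * u from congrArg Subtype.val (hAa.is_comm.comm (⟨_, hBA u.2⟩ : ↥A) ⟨_, hBA v.2⟩))⟩⟩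
  obtain ⟨b, hb, hb2⟩ : ∃ b ∈ B, b ^ 2 ≠ 1 := by
    by_contra! h
    exact hne ⟨hBc, h⟩
  have htiB : ∀ h : X, B.map (MulAut.conj h).toMonoidHom = B ∨ B.map (MulAut.conj h).toMonoidHom ⊓ B = ⊥ := by
    intro h
    rcases hti h with he | he
    · left
      rw [hBdef, MonoidHom.map_closure, Set.image_image]
      congr 1
      ext y
      constructor
      · rintro ⟨a, ha, rfl⟩
        exact ⟨h * a * h⁻¹, he ▸ Subgroup.mem_map_of_mem _ ha, map_pow (MulAut.conj h).toMonoidHom a 2 |>.symm⟩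
      · rintro ⟨a, ha, rfl⟩
        obtain ⟨u, hu, rfl⟩ := he.symm ▸ (show a ∈ (A : Set X) from ha)
        exact ⟨u, hu, map_pow (MulAut.conj h).toMonoidHom u 2⟩
    · right
      exact le_bot_iff.mp (le_trans (inf_le_inf (Subgroup.map_mono hBA) hBA) (le_of_eq he))
  have hcomm : ∀ g : X, ∀ u ∈ B, ∀ v ∈ B, u * (g * v * g⁻¹) = g * v * g⁻¹ * u := fun g =>
    comm_conj hQp hB htiB hb hb2 g (by rintro _ ⟨u, hu, rfl⟩; exact Subgroup.Normal.conj_mem inferInstance _ (hB hu) g) hBc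
  have hsub : ∀ y ∈ Group.conjugatesOfSet ((fun a : X => a ^ 2) '' (A : Set X)), ∃ g : X, ∃ u ∈ B, y = g * u * g⁻¹ := by
    intro y hy
    obtain ⟨u, hu, hconj⟩ := Group.mem_conjugatesOfSet_iff.mp hy
    obtain ⟨g, hg⟩ := isConj_iff.mp hconj
    exact ⟨g, u, Subgroup.subset_closure hu, hg.symm⟩
  refine Subgroup.isMulCommutative_closure fun y hy w hw => ?_
  obtain ⟨g, u, hu, rfl⟩ := hsub y hy
  obtain ⟨k, v, hv, rfl⟩ := hsub w hw
  have h := hcomm (g⁻¹ * k) u hu v hv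
  calc g * u * g⁻¹ * (k * v * k⁻¹) = g * (u * (g⁻¹ * k * v * (g⁻¹ * k)⁻¹)) * g⁻¹ := by group
    _ = g * (g⁻¹ * k * v * (g⁻¹ * k)⁻¹ * u) * g⁻¹ := by rw [h]
    _ = k * v * k⁻¹ * (g * u * g⁻¹) := by group

end Cfsg.Agent.S1783
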