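import Cfsg.Statements.S1785
import Mathlib
import Cfsg.Agent.Lib.PGroup.ElemAbelian

set_option autoImplicit false
open Cfsg

open scoped Pointwise

namespace Cfsg.Agent.S1785

open Subgroup
open Cfsg.Agent.Lib

variable {X : Type*} [Group X]

theorem sup_zpowers_elem {B : Subgroup X} (hB : Cfsg.IsElementaryAbelian 2 B) {a : X} (ha : a ^ 2 = 1)
    (hc : ∀ b ∈ B, b * a = a * b) : Cfsg.IsElementaryAbelian 2 (B ⊔ zpowers a) := by
  have hcomm : ∀ x ∈ (B : Set X) ∪ {a}, ∀ y ∈ (B : Set X) ∪ {a}, x * y = y * x := by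
    rintro x (hx | rfl) y (hy | rfl)
    · exact ElemAbelian.comm hB hx hy
    · exact hc x hx
    · exact (hc y hy).symm
    · rfl
  have h : B ⊔ zpowers a = closure ((B : Set X) ∪ {a}) := by
    rw [Subgroup.closure_union, closure_eq, zpowers_eq_closure]
  rw [h]
  haveI := Subgroup.isMulCommutative_closure hcomm
  refine ⟨inferInstance, fun x hx => ?_⟩
  have key : ∀ x, x ∈ closure ((B : Set X) ∪ {a}) → x ^ 2 = 1 := by
    intro x hx
    induction hx using closure_induction with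
    | mem y hy => rcases hy with hy | rfl; exacts [hB.2 y hy, ha]
    | one => exact one_pow 2
    | mul u v hu hv hu1 hv1 =>
      have huv : Commute u v := congrArg Subtype.val (mul_comm' (⟨u, hu⟩ : closure ((B : Set X) ∪ {a})) ⟨v, hv⟩)
      rw [huv.mul_pow, hu1, hv1, one_mul]
    | inv u _ hu1 => rw [inv_pow, hu1, inv_one]
  exact key x hx

theorem card_sup_zpowers [Finite X] {B : Subgroup X} {a : X} (ha : a ^ 2 = 1) (haB : a ∉ B)
    (hc : ∀ b ∈ B, b * a = a * b) : Nat.card ↥(B ⊔ zpowers a) = 2 * Nat.card ↥B := by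
  classical
  let f : Bool × ↥B → ↥(B ⊔ zpowers a) := fun q =>
    ⟨(q.2 : X) * (if q.1 then a else 1), mul_mem (mem_sup_left q.2.2)
      (by split; exacts [mem_sup_right (mem_zpowers a), one_mem _])⟩
  have hf : Function.Bijective f := by
    constructor
    · rintro ⟨i, u⟩ ⟨j, v⟩ h
      have h' : (u : X) * (if i then a else 1) = (v : X) * (if j then a else 1) := congrArg Subtype.val h
      cases i <;> cases j <;> simp at h'
      · rw [h']
      · exact absurd (show a ∈ B from (eq_inv_mul_iff_mul_eq.mpr h'.symm) ▸ B.mul_mem (B.inv_mem v.2) u.2) haB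
      · exact absurd (show a ∈ B from (eq_inv_mul_iff_mul_eq.mpr h') ▸ B.mul_mem (B.inv_mem u.2) v.2) haB
      · rw [h']
    · let W : Subgroup X :=
        { carrier := {y | ∃ b ∈ B, y = b ∨ y = b * a}
          one_mem' := ⟨1, B.one_mem, Or.inl rfl⟩
          mul_mem' := by
            rintro u v ⟨b, hb, h1 | h1⟩ ⟨c, hc', h2 | h2⟩ <;> rw [h1, h2]
            · exact ⟨b * c, B.mul_mem hb hc', Or.inl rfl⟩
            · exact ⟨b * c, B.mul_mem hb hc', Or.inr (mul_assoc b c a).symm⟩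
            · exact ⟨b * c, B.mul_mem hb hc', Or.inr (by rw [mul_assoc, ← hc c hc', mul_assoc])⟩
            · refine ⟨b * c, B.mul_mem hb hc', Or.inl ?_⟩
              rw [mul_assoc b a, ← mul_assoc a c a, ← hc c hc', mul_assoc c a a, ← sq, ha, mul_one]
          inv_mem' := by
            rintro u ⟨b, hb, h1 | h1⟩ <;> rw [h1]
            · exact ⟨b⁻¹, B.inv_mem hb, Or.inl rfl⟩
            · refine ⟨b⁻¹, B.inv_mem hb, Or.inr ?_⟩
              rw [mul_inv_rev, inv_eq_of_mul_eq_one_right (by rw [← sq]; exact ha : a * a = 1), hc _ (B.inv_mem hb)] }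
      rintro ⟨y, hy⟩
      have hle : B ⊔ zpowers a ≤ W := sup_le (fun b hb => ⟨b, hb, Or.inl rfl⟩)
        (zpowers_le.mpr ⟨1, B.one_mem, Or.inr (one_mul a).symm⟩)
      obtain ⟨b, hb, h1 | h1⟩ := hle hy
      · exact ⟨(false, ⟨b, hb⟩), Subtype.ext ((mul_one b).trans h1.symm)⟩
      · exact ⟨(true, ⟨b, hb⟩), Subtype.ext h1.symm⟩
  rw [← Nat.card_eq_of_bijective f hf, Nat.card_prod, Nat.card_eq_fintype_card (α := Bool), Fintype.card_bool]

theorem extend [Finite X] {W : Subgroup X} (hW : Cfsg.IsElementaryAbelian 2 W) (j : ℕ) :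
    ∀ i, i ≤ j → 2 ^ j ≤ Nat.card ↥W → ∀ K ≤ W, Nat.card ↥K = 2 ^ i → ∃ A, K ≤ A ∧ A ≤ W ∧ Nat.card ↥A = 2 ^ j := by
  intro i hij hj
  induction hij using Nat.decreasingInduction with
  | self => exact fun K hK hc => ⟨K, le_rfl, hK, hc⟩
  | of_succ i hi ih =>
    intro K hK hc
    obtain ⟨a, haW, haK⟩ := SetLike.exists_of_lt (lt_of_le_of_ne hK fun h => by
      rw [← h, hc] at hj; exact absurd hj (not_le.mpr (Nat.pow_lt_pow_right one_lt_two hi)))
    have hcm : ∀ b ∈ K, b * a = a * b := fun b hb => ElemAbelian.comm hW (hK hb) haW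
    obtain ⟨A, hA1, hA2, hA3⟩ := ih (K ⊔ zpowers a) (sup_le hK (zpowers_le.mpr haW))
      (by rw [card_sup_zpowers (hW.2 a haW) haK hcm, hc, pow_succ']
          )
    exact ⟨A, le_sup_left.trans hA1, hA2, hA3⟩

theorem card_le_sq [Finite X] {F : Subgroup X} (hF : Cfsg.IsElementaryAbelian 2 F) {a : X} (ha : a ^ 2 = 1)
    (haF : ∀ f ∈ F, a * f * a⁻¹ ∈ F) :
    Nat.card ↥F ≤ Nat.card ↥(F ⊓ centralizer ({a} : Set X)) ^ 2 := by
  let φ : ↥F →* ↥F :=
    { toFun := fun f => ⟨(f : X) * (a * f * a⁻¹), F.mul_mem f.2 (haF f f.2)⟩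
      map_one' := Subtype.ext (by simp)
      map_mul' := fun f g => Subtype.ext (by
        show (f : X) * g * (a * (f * g) * a⁻¹) = f * (a * f * a⁻¹) * (g * (a * g * a⁻¹))
        have h := ElemAbelian.comm hF g.2 (haF f f.2)
        calc (f : X) * g * (a * (f * g) * a⁻¹) = f * ((g : X) * (a * f * a⁻¹)) * (a * g * a⁻¹) := by group
          _ = f * ((a * f * a⁻¹) * g) * (a * g * a⁻¹) := by rw [h]
          _ = _ := by group) }
  have hinv : ∀ f ∈ F, f⁻¹ = f := fun f hf => inv_eq_of_mul_eq_one_right (by rw [← sq]; exact hF.2 f hf)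
  have hker : φ.ker.map F.subtype ≤ F ⊓ centralizer ({a} : Set X) := by
    rintro _ ⟨f, hf, rfl⟩
    refine ⟨f.2, mem_centralizer_singleton_iff.mpr ?_⟩
    have h : (f : X) * (a * f * a⁻¹) = 1 := congrArg Subtype.val (MonoidHom.mem_ker.mp hf)
    have h2 : a * (f : X) * a⁻¹ = f := by rw [eq_inv_of_mul_eq_one_right h, hinv f f.2]
    show (f : X) * a = a * f
    conv_lhs => rw [← h2]
    rw [inv_mul_cancel_right]
  have hrange : φ.range.map F.subtype ≤ F ⊓ centralizer ({a} : Set X) := by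
    rintro _ ⟨_, ⟨f, rfl⟩, rfl⟩
    refine ⟨(φ f).2, mem_centralizer_singleton_iff.mpr ?_⟩
    show (f : X) * (a * f * a⁻¹) * a = a * (f * (a * f * a⁻¹))
    have h := ElemAbelian.comm hF f.2 (haF f f.2)
    have haa : a⁻¹ = a := inv_eq_of_mul_eq_one_right (by rw [← sq]; exact ha)
    calc (f : X) * (a * f * a⁻¹) * a = (a * f * a⁻¹) * f * a := by rw [h]
      _ = a * f * a⁻¹ * f * a := rfl
      _ = a * (f * (a * f * a⁻¹)) := by rw [haa]; group
  have h1 := φ.ker.card_eq_card_quotient_mul_card_subgroup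
  rw [Nat.card_congr (QuotientGroup.quotientKerEquivRange φ).toEquiv] at h1
  rw [sq, h1]
  exact Nat.mul_le_mul
    (by rw [← card_map_of_injective (K := φ.range) F.subtype_injective]; exact card_le_of_le hrange)
    (by rw [← card_map_of_injective (K := φ.ker) F.subtype_injective]; exact card_le_of_le hker)

theorem card_centralizer_chain [Finite X] {E : Subgroup X} [E.Normal] (hE : Cfsg.IsElementaryAbelian 2 E)
    (Y : Subgroup X) {a : X} (ha : a ^ 2 = 1) (hY : ∀ y ∈ Y, y * a = a * y) :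
    Nat.card ↥(E ⊓ centralizer (Y : Set X)) ≤ Nat.card ↥(E ⊓ centralizer ((Y ⊔ zpowers a : Subgroup X) : Set X)) ^ 2 := by
  refine le_trans (card_le_sq (ElemAbelian.mono hE inf_le_left) ha ?_) (Nat.pow_le_pow_left ?_ 2)
  · rintro f ⟨hf, hfc⟩
    refine ⟨Normal.conj_mem inferInstance f hf a, mem_centralizer_iff.mpr fun y hy => ?_⟩
    have h1 := mem_centralizer_iff.mp hfc y hy
    calc y * (a * f * a⁻¹) = a * (y * f) * a⁻¹ := by rw [← mul_assoc, ← mul_assoc, hY y hy]; simp [mul_assoc]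
      _ = a * (f * y) * a⁻¹ := by rw [h1]
      _ = a * f * a⁻¹ * y := by
        have : y * a⁻¹ = a⁻¹ * y := Commute.inv_right (hY y hy)
        simp [mul_assoc, this]
  · refine card_le_of_le ?_
    rintro f ⟨⟨hf, hfY⟩, hfa⟩
    refine ⟨hf, ?_⟩
    have hle : Y ⊔ zpowers a ≤ centralizer ({f} : Set X) := sup_le
      (fun y hy => mem_centralizer_singleton_iff.mpr (mem_centralizer_iff.mp hfY y hy))
      (zpowers_le.mpr (mem_centralizer_singleton_iff.mpr (mem_centralizer_singleton_iff.mp hfa).symm))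
    exact mem_centralizer_iff.mpr fun y hy => mem_centralizer_singleton_iff.mp (hle hy)

/-- Lower bound for the fixed points in `E` of an elementary abelian subgroup. -/
theorem bound [Finite X] {E : Subgroup X} [E.Normal] (hE : Cfsg.IsElementaryAbelian 2 E)
    {A : Subgroup X} (hA : Cfsg.IsElementaryAbelian 2 A) (j k : ℕ) (hcard : Nat.card ↥A ≤ 2 ^ (j + k))
    (K : Subgroup X) (hKA : K ≤ A) (hK : Nat.card ↥K = 2 ^ j) (hKE : K ≤ E) :
    Nat.card ↥E ≤ Nat.card ↥(E ⊓ centralizer (A : Set X)) ^ (2 ^ k) := by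
  have key : ∀ m, ∀ Y : Subgroup X, K ≤ Y → Y ≤ A → Nat.card ↥A ≤ Nat.card ↥Y * 2 ^ m →
      Nat.card ↥(E ⊓ centralizer (Y : Set X)) ≤ Nat.card ↥(E ⊓ centralizer (A : Set X)) ^ (2 ^ m) := by
    intro m
    induction m with
    | zero =>
      intro Y _ hYA h
      rw [eq_of_le_of_card_ge hYA (by simpa using h)]; simp
    | succ m ih =>
      intro Y hKY hYA h
      by_cases hYA' : Y = A
      · subst hYA'
        exact Nat.le_self_pow (pow_ne_zero _ two_ne_zero) _
      obtain ⟨a, haA, haY⟩ := SetLike.exists_of_lt (lt_of_le_of_ne hYA hYA')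
      have hc : ∀ y ∈ Y, y * a = a * y := fun y hy => ElemAbelian.comm hA (hYA hy) haA
      refine le_trans (card_centralizer_chain hE Y (hA.2 a haA) hc) ?_
      rw [pow_succ (2 : ℕ) m, pow_mul]
      refine Nat.pow_le_pow_left (ih _ (hKY.trans le_sup_left) (sup_le hYA (zpowers_le.mpr haA)) ?_) 2
      rw [card_sup_zpowers (hA.2 a haA) haY hc]
      calc Nat.card ↥A ≤ Nat.card ↥Y * 2 ^ (m + 1) := h
        _ = _ := by ring
  refine le_trans (le_of_eq ?_) (key k K le_rfl hKA (by rw [hK, ← pow_add]; exact hcard))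
  rw [inf_eq_left.mpr fun e he => mem_centralizer_iff.mpr fun y hy => ElemAbelian.comm hE (hKE hy) he]

/-- Adjacent relation. -/
def Adj (C D : Subgroup X) : Prop :=
  Cfsg.IsElementaryAbelian 2 C ∧ Nat.card ↥C = 8 ∧ Cfsg.IsElementaryAbelian 2 D ∧ Nat.card ↥D = 8 ∧ ⁅C, D⁆ = ⊥

theorem adj_of_le {W C D : Subgroup X} (hW : Cfsg.IsElementaryAbelian 2 W) (hC : C ≤ W) (hD : D ≤ W)
    (h8 : Nat.card ↥C = 8) (h8' : Nat.card ↥D = 8) : Adj C D :=
  ⟨ElemAbelian.mono hW hC, h8, ElemAbelian.mono hW hD, h8', commutator_eq_bot_iff_le_centralizer.mpr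
    fun _ hc => mem_centralizer_iff.mpr fun _ hd => ElemAbelian.comm hW (hD hd) (hC hc)⟩

theorem sup_elem [Finite X] {A C : Subgroup X} (hA : Cfsg.IsElementaryAbelian 2 A) (hC : Cfsg.IsElementaryAbelian 2 C)
    (h : C ≤ centralizer (A : Set X)) : Cfsg.IsElementaryAbelian 2 (A ⊔ C) := by
  have key : ∀ B : Subgroup X, B ≤ C → Cfsg.IsElementaryAbelian 2 (A ⊔ B) := by
    intro B
    induction B using WellFoundedLT.induction with
    | _ B ih =>
      intro hB
      by_cases hb : B = ⊥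
      · rw [hb, sup_bot_eq]; exact hA
      haveI : Nontrivial ↥B := (nontrivial_iff_ne_bot B).mpr hb
      obtain ⟨N, hN, -⟩ := (eq_top_or_exists_le_coatom (⊥ : Subgroup ↥B)).resolve_left bot_ne_top
      obtain ⟨b, -, hbN⟩ := SetLike.exists_of_lt hN.lt_top
      have hlt : N.map B.subtype < B := by
        refine lt_of_le_of_ne (map_subtype_le N) fun e => hN.1 ?_
        apply map_injective B.subtype_injective
        rw [e, ← MonoidHom.range_eq_map, range_subtype]
      have hB' : B = N.map B.subtype ⊔ zpowers (b : X) := by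
        have := congrArg (map B.subtype) (hN.2 (N ⊔ zpowers b) (lt_of_le_of_ne le_sup_left fun e => hbN (e ▸ mem_sup_right (mem_zpowers b))))
        rwa [Subgroup.map_sup, MonoidHom.map_zpowers, ← MonoidHom.range_eq_map, range_subtype, eq_comm] at this
      rw [hB', ← sup_assoc]
      refine sup_zpowers_elem (ih _ hlt (hlt.le.trans hB)) (hC.2 _ (hB b.2)) fun x hx => ?_
      have hle : A ⊔ N.map B.subtype ≤ centralizer ({(b : X)} : Set X) := sup_le
        (fun y hy => mem_centralizer_singleton_iff.mpr (mem_centralizer_iff.mp (h (hB b.2)) y hy))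
        (fun y hy => mem_centralizer_singleton_iff.mpr (ElemAbelian.comm hC (hB (hlt.le hy)) (hB b.2)))
      exact mem_centralizer_singleton_iff.mp (hle hx)
  exact key C le_rfl

/-- One step towards `E`. -/
theorem step [Finite X] {E : Subgroup X} [E.Normal] (hE : Cfsg.IsElementaryAbelian 2 E) (hE32 : 32 ≤ Nat.card ↥E)
    {A : Subgroup X} (hA : Cfsg.IsElementaryAbelian 2 A) (hA8 : Nat.card ↥A = 8) (j : ℕ) (hj : j ≤ 2)
    (K : Subgroup X) (hKA : K ≤ A) (hK : Nat.card ↥K = 2 ^ j) (hKE : K ≤ E) :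
    ∃ A' K', Adj A A' ∧ K' ≤ A' ∧ Nat.card ↥K' = 2 ^ (j + 1) ∧ K' ≤ E := by
  set C := E ⊓ centralizer (A : Set X) with hC
  have hb := bound hE hA j (3 - j) (by rw [hA8, show j + (3 - j) = 3 by omega]; norm_num) K hKA hK hKE
  have hcardC : 2 ^ (j + 1) ≤ Nat.card ↥C := by
    haveI : Fact (Nat.Prime 2) := ⟨Nat.prime_two⟩
    have hp : IsPGroup 2 ↥C := fun x => ⟨1, Subtype.ext (by simpa using hE.2 x x.2.1)⟩
    obtain ⟨n, hn⟩ := IsPGroup.iff_card.mp hp
    by_contra hlt
    rw [not_le, hn] at hlt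
    have hnj : n ≤ j := Nat.lt_succ_iff.mp ((Nat.pow_lt_pow_iff_right one_lt_two).mp hlt)
    rw [hn] at hb
    have h1 := le_trans hE32 (le_trans hb (Nat.pow_le_pow_left (Nat.pow_le_pow_right two_pos hnj) _))
    interval_cases j <;> norm_num at h1
  have hCe : Cfsg.IsElementaryAbelian 2 C := ElemAbelian.mono hE inf_le_left
  obtain ⟨K', -, hK'C, hK'⟩ := extend hCe (j + 1) 0 (Nat.zero_le _) hcardC ⊥ bot_le (by simp)
  have hW : Cfsg.IsElementaryAbelian 2 (A ⊔ C) := sup_elem hA hCe inf_le_right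
  obtain ⟨A', hK'A, hA'W, hA'8⟩ := extend hW 3 (j + 1) (by omega) (by
    calc 2 ^ 3 = Nat.card ↥A := by rw [hA8]; norm_num
      _ ≤ _ := card_le_of_le le_sup_left) K' (hK'C.trans le_sup_right) hK'
  exact ⟨A', K', adj_of_le hW le_sup_left hA'W hA8 (by rw [hA'8]; norm_num), hK'A, hK', hK'C.trans inf_le_left⟩

theorem to_E [Finite X] {E : Subgroup X} [E.Normal] (hE : Cfsg.IsElementaryAbelian 2 E) (hE32 : 32 ≤ Nat.card ↥E)
    {A : Subgroup X} (hA : Cfsg.IsElementaryAbelian 2 A) (hA8 : Nat.card ↥A = 8) :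
    ∃ A', Relation.ReflTransGen Adj A A' ∧ A' ≤ E ∧ Nat.card ↥A' = 8 := by
  obtain ⟨A1, K1, h1, hK1, hc1, hE1⟩ := step hE hE32 hA hA8 0 (by omega) ⊥ bot_le (by simp) bot_le
  obtain ⟨A2, K2, h2, hK2, hc2, hE2⟩ := step hE hE32 h1.2.2.1 h1.2.2.2.1 1 (by omega) K1 hK1 hc1 hE1
  obtain ⟨A3, K3, h3, hK3, hc3, hE3⟩ := step hE hE32 h2.2.2.1 h2.2.2.2.1 2 (by omega) K2 hK2 hc2 hE2
  have he : K3 = A3 := eq_of_le_of_card_ge hK3 (by rw [h3.2.2.2.1, hc3]; norm_num)
  exact ⟨A3, ((Relation.ReflTransGen.single h1).tail h2).tail h3, he ▸ hE3, h3.2.2.2.1⟩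

theorem adj_symm {C D : Subgroup X} (h : Adj C D) : Adj D C :=
  ⟨h.2.2.1, h.2.2.2.1, h.1, h.2.1, by rw [commutator_comm]; exact h.2.2.2.2⟩

theorem rev {C D : Subgroup X} (h : Relation.ReflTransGen Adj C D) : Relation.ReflTransGen Adj D C := by
  induction h with
  | refl => exact Relation.ReflTransGen.refl
  | tail _ h2 ih => exact Relation.ReflTransGen.head (adj_symm h2) ih


/-- Let X be a finite 2-group having a normal elementary abelian subgroup of order at least 32. Then (a) for any two elementary abelian subgroups A, B of X of order 8 there is a chain A = A₁, A₂, …, Aₙ = B of elementary abelian subgroups of order 8 in which consecutive members commute elementwise; and (b) every elementary abelian subgroup of X of order 4 is contained in an elementary abelian subgroup of order 8. -/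
theorem result {X : Type*} [Group X] [Finite X]
    (hX : IsPGroup 2 X) (E : Subgroup X) [E.Normal] (hE : Cfsg.IsElementaryAbelian 2 E) (hE32 : 32 ≤ Nat.card ↥E) :
    (∀ A B : Subgroup X, Cfsg.IsElementaryAbelian 2 A → Nat.card ↥A = 8 → Cfsg.IsElementaryAbelian 2 B → Nat.card ↥B = 8 →
        Relation.ReflTransGen
          (fun C D : Subgroup X => Cfsg.IsElementaryAbelian 2 C ∧ Nat.card ↥C = 8 ∧ Cfsg.IsElementaryAbelian 2 D ∧ Nat.card ↥D = 8 ∧ ⁅C, D⁆ = ⊥)
          A B) ∧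
      (∀ V : Subgroup X, Cfsg.IsElementaryAbelian 2 V → Nat.card ↥V = 4 →
        ∃ A : Subgroup X, V ≤ A ∧ Cfsg.IsElementaryAbelian 2 A ∧ Nat.card ↥A = 8) := by
  refine ⟨fun A B hA hA8 hB hB8 => ?_, fun V hV hV4 => ?_⟩
  · obtain ⟨A', hAA', hA'E, hA'8⟩ := to_E hE hE32 hA hA8
    obtain ⟨B', hBB', hB'E, hB'8⟩ := to_E hE hE32 hB hB8
    exact (hAA'.tail (adj_of_le hE hA'E hB'E hA'8 hB'8)).trans
      (rev hBB')
  · set C := E ⊓ Subgroup.centralizer (V : Set X) with hC
    obtain ⟨c, hcC, hcV⟩ : ∃ c ∈ C, c ∉ V := by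
      by_contra! hle
      have hb := bound hE hV 0 2 (by rw [hV4]; norm_num) ⊥ bot_le (by simp) bot_le
      have hc4 : Nat.card ↥C ≤ 4 := hV4 ▸ Subgroup.card_le_of_le hle
      have h3 : ¬ Nat.card ↥C ≤ 2 := fun h => by
        have := le_trans hE32 (le_trans hb (Nat.pow_le_pow_left h _)); norm_num at this
      have hdvd : Nat.card ↥C ∣ 4 := hV4 ▸ Subgroup.card_dvd_of_le hle
      have hVC : V ≤ C := le_of_eq (Subgroup.eq_of_le_of_card_ge hle (by
        rw [hV4]
        by_contra h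
        have : Nat.card ↥C = 3 := by omega
        rw [this] at hdvd; norm_num at hdvd)).symm
      have hEC : E ≤ C := fun e he => ⟨he, Subgroup.mem_centralizer_iff.mpr fun v hv =>
        Cfsg.Agent.Lib.ElemAbelian.comm hE (hVC hv).1 he⟩
      have := Subgroup.card_le_of_le hEC
      omega
    have hcomm : ∀ b ∈ V, b * c = c * b := fun b hb => Subgroup.mem_centralizer_iff.mp hcC.2 b hb
    exact ⟨V ⊔ Subgroup.zpowers c, le_sup_left, sup_zpowers_elem hV (hE.2 c hcC.1) hcomm,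
      by rw [card_sup_zpowers (hE.2 c hcC.1) hcV hcomm, hV4]⟩

end Cfsg.Agent.S1785
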