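import Cfsg.Statements.S1786
import Mathlib
import Cfsg.Agent.Lib.Components.GenFitting
import Cfsg.Agent.Lib.PSolvable.Core
import Cfsg.Agent.Lib.TISL2.Main

set_option autoImplicit false
open Cfsg

namespace Cfsg.Agent.S1786

/-- Let G be a finite group, V an elementary abelian 2-subgroup of G and M the normalizer of V; write Q for the largest normal 2-subgroup of M. Suppose (1) the generalized Fitting subgroup of M equals Q; (2) V is a maximal abelian normal subgroup of M; (3) every conjugate of V equals V or meets V trivially, and for some g ∈ G the conjugate V' = g V g⁻¹ is different from V and contained in Q. Let P be the centralizer of V in Q, W the subgroup generated by V and V', and H the subgroup generated by P and g P g⁻¹. Then: (a) V is contained in g Q g⁻¹; (b) every non-identity element of W lies in exactly one conjugate of V contained in W, H normalizes W, and H modulo the centralizer of W in H is isomorphic to the special linear group of dimension 2 over the field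 with |V| elements; (c) P = Q, and V equals the Frattini subgroup, the centre and the commutator subgroup of Q. -/
theorem result {G : Type*} [Group G] [Finite G] (V : Subgroup G)
    (hV : Cfsg.IsElementaryAbelian 2 V)
    (h1 : (Cfsg.generalizedFittingSubgroup ↥(Subgroup.normalizer (V : Set G))).map (Subgroup.normalizer (V : Set G)).subtype =
      (Cfsg.pCore 2 ↥(Subgroup.normalizer (V : Set G))).map (Subgroup.normalizer (V : Set G)).subtype)
    (h2 : ∀ A : Subgroup G, V ≤ A → A ≤ Subgroup.normalizer (V : Set G) → IsMulCommutative ↥A →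
      (∀ m ∈ Subgroup.normalizer (V : Set G), ∀ a ∈ A, m * a * m⁻¹ ∈ A) → A = V)
    (hti : ∀ x : G, V.map (MulAut.conj x).toMonoidHom = V ∨ V.map (MulAut.conj x).toMonoidHom ⊓ V = ⊥)
    (g : G) (hg : V.map (MulAut.conj g).toMonoidHom ≠ V)
    (hgQ : V.map (MulAut.conj g).toMonoidHom ≤ (Cfsg.pCore 2 ↥(Subgroup.normalizer (V : Set G))).map (Subgroup.normalizer (V : Set G)).subtype) :
    let Q : Subgroup G := (Cfsg.pCore 2 ↥(Subgroup.normalizer (V : Set G))).map (Subgroup.normalizer (V : Set G)).subtype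
    let P : Subgroup G := Q ⊓ Subgroup.centralizer (V : Set G)
    let W : Subgroup G := V ⊔ V.map (MulAut.conj g).toMonoidHom
    let H : Subgroup G := P ⊔ P.map (MulAut.conj g).toMonoidHom
    V ≤ Q.map (MulAut.conj g).toMonoidHom ∧
      (∀ w ∈ W, w ≠ 1 → ∃! U : Subgroup G, (∃ x : G, U = V.map (MulAut.conj x).toMonoidHom) ∧ U ≤ W ∧ w ∈ U) ∧
      H ≤ Subgroup.normalizer (W : Set G) ∧
      (∀ hN : ((Subgroup.centralizer (W : Set G)).subgroupOf H).Normal, ∃ (F : Type) (_ : Field F) (_ : Fintype F), Fintype.card F = Nat.card ↥V ∧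
        Nonempty (↥H ⧸ (Subgroup.centralizer (W : Set G)).subgroupOf H ≃* Matrix.SpecialLinearGroup (Fin 2) F)) ∧
      P = Q ∧ (frattini ↥Q).map Q.subtype = V ∧ (Subgroup.center ↥Q).map Q.subtype = V ∧ (commutator ↥Q).map Q.subtype = V := by
  classical
  have hQfix : ∀ m ∈ Subgroup.normalizer (V : Set G), ∀ x ∈ (Cfsg.pCore 2 ↥(Subgroup.normalizer (V : Set G))).map
      (Subgroup.normalizer (V : Set G)).subtype, m * x * m⁻¹ ∈ (Cfsg.pCore 2 ↥(Subgroup.normalizer (V : Set G))).map
      (Subgroup.normalizer (V : Set G)).subtype := by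
    rintro m hm _ ⟨⟨x, hxM⟩, hx, rfl⟩
    exact ⟨⟨m, hm⟩ * ⟨x, hxM⟩ * ⟨m, hm⟩⁻¹,
      (Cfsg.pCore_normal 2 ↥(Subgroup.normalizer (V : Set G))).conj_mem _ hx ⟨m, hm⟩, rfl⟩
  have hmax : ∀ R : Subgroup G, R ≤ Subgroup.normalizer (V : Set G) →
      (∀ m ∈ Subgroup.normalizer (V : Set G), ∀ x ∈ R, m * x * m⁻¹ ∈ R) → IsPGroup 2 R →
      R ≤ (Cfsg.pCore 2 ↥(Subgroup.normalizer (V : Set G))).map (Subgroup.normalizer (V : Set G)).subtype := by
    intro R hR hn hp x hx
    haveI : (R.subgroupOf (Subgroup.normalizer (V : Set G))).Normal := ⟨fun a ha m => hn m m.2 a ha⟩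
    exact ⟨⟨x, hR hx⟩, Cfsg.Agent.Lib.PSolvable.le_pCore
      (N := R.subgroupOf (Subgroup.normalizer (V : Set G)))
      (hp.of_equiv (Subgroup.subgroupOfEquivOfLe hR).symm) hx, rfl⟩
  haveI : Fact (Nat.Prime 2) := ⟨Nat.prime_two⟩
  let D : Cfsg.Agent.TISL2.Hyp G :=
    { V := V
      Q := (Cfsg.pCore 2 ↥(Subgroup.normalizer (V : Set G))).map (Subgroup.normalizer (V : Set G)).subtype
      comm := fun a ha b hb => congrArg Subtype.val (hV.1.is_comm.comm ⟨a, ha⟩ ⟨b, hb⟩)
      sq := fun a ha => (pow_two a).symm.trans (hV.2 a ha)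
      V_le := hmax V Subgroup.le_normalizer (fun m hm x hx => (Subgroup.mem_normalizer_iff.1 hm x).1 hx)
        (fun a => ⟨1, Subtype.ext (by simpa using hV.2 a a.2)⟩)
      Q_le := Subgroup.map_subtype_le _
      Q_normal := hQfix
      Q_pgroup := Cfsg.Agent.Lib.PSolvable.pCore_isPGroup.map _
      Q_max := hmax
      Q_self := fun m hm hc => by
        have hmem : (⟨m, hm⟩ : ↥(Subgroup.normalizer (V : Set G))) ∈
            Cfsg.generalizedFittingSubgroup ↥(Subgroup.normalizer (V : Set G)) := by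
          refine Cfsg.Agent.Lib.Components.centralizer_generalizedFittingSubgroup_le ?_
          refine Subgroup.mem_centralizer_iff.2 fun x hx => Subtype.ext ?_
          exact (hc x (h1 ▸ Subgroup.mem_map_of_mem _ hx)).symm
        exact h1 ▸ Subgroup.mem_map_of_mem _ hmem
      maxAb := h2
      ti := fun x v hv hv1 hx => by
        rcases hti x with h | h
        · exact Cfsg.Agent.TISL2.mem_normalizer_iff_cj.2 h
        · exfalso
          have h' : x * v * x⁻¹ ∈ V.map (MulAut.conj x).toMonoidHom ⊓ V := ⟨⟨v, hv, rfl⟩, hx⟩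
          rw [h, Subgroup.mem_bot] at h'
          exact hv1 (by simpa [mul_assoc] using congrArg (fun y => x⁻¹ * y * x) h') }
  have hgood : D.GoodNode (V.map (MulAut.conj g).toMonoidHom) :=
    Cfsg.Agent.TISL2.Hyp.IsNode.good_of_le_Q ⟨g, rfl⟩ hg hgQ
  obtain ⟨hsp, hnorm, hiso, hPQ, hcomm, hfr, hcen⟩ := hgood.main (g := g) rfl
  refine ⟨(hgood.symm_Q (g := g) rfl).1, fun w hw hw1 => ?_, hnorm, hiso, hPQ, hfr, hcen, ?_⟩
  · obtain ⟨U, ⟨⟨x, hx⟩, hU2, hU3⟩, huniq⟩ := hsp w hw hw1
    exact ⟨U, ⟨⟨x, hx.symm⟩, hU2, hU3⟩, fun U' ⟨⟨x', hx'⟩, a, b⟩ => huniq U' ⟨⟨x', hx'.symm⟩, a, b⟩⟩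
  · rw [Subgroup.map_subtype_commutator]; exact hcomm

end Cfsg.Agent.S1786
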