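import Cfsg.Statements.S1851
import Mathlib
import Cfsg.Agent.Lib.CharTwo.Local
import Cfsg.Agent.Lib.LocalChar.Core
import Cfsg.Agent.Lib.PGroup.Critical

set_option autoImplicit false
open Cfsg

open scoped Pointwise

namespace Cfsg.Agent.S1851

open Subgroup
open Cfsg.Agent.Lib

variable {G : Type*} [Group G]

theorem oddGenerated_of_perfect [Finite G] {K : Subgroup G} (hK : ⁅K, K⁆ = K) :
    Cfsg.oddGenerated K = K := by
  classical
  haveI : Fact (Nat.Prime 2) := ⟨Nat.prime_two⟩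
  refine le_antisymm ((closure_le _).mpr fun x hx => hx.1) ?_
  set O : Subgroup G := Cfsg.oddGenerated K with hO
  have hOK : O ≤ K := (closure_le _).mpr fun x hx => hx.1
  have hKN : K ≤ normalizer (O : Set G) := by
    intro k hk
    rw [mem_normalizer_iff_map_conj_eq]
    refine eq_of_le_of_card_ge ?_ (le_of_eq (card_map_of_injective (MulEquiv.injective _)).symm)
    rw [hO, Cfsg.oddGenerated, MonoidHom.map_closure, closure_le]
    rintro _ ⟨x, ⟨hxK, hxo⟩, rfl⟩
    refine subset_closure ⟨K.mul_mem (K.mul_mem hk hxK) (K.inv_mem hk), ?_⟩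
    show Odd (orderOf ((MulAut.conj k) x))
    rwa [MulEquiv.orderOf_eq]
  haveI : (O.subgroupOf K).Normal := (normal_subgroupOf_iff_le_normalizer hOK).mpr hKN
  have hp : IsPGroup 2 (↥K ⧸ O.subgroupOf K) := by
    intro g
    induction g using QuotientGroup.induction_on with
    | H x =>
      obtain ⟨j, m, hm, hxm⟩ := Nat.exists_eq_two_pow_mul_odd (orderOf_pos x).ne'
      refine ⟨j, (QuotientGroup.eq_one_iff _).mpr (mem_subgroupOf.mpr (subset_closure ⟨(x ^ 2 ^ j).2, ?_⟩))⟩
      rw [Subgroup.orderOf_coe, orderOf_pow, hxm, Nat.gcd_mul_right_left,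
        Nat.mul_div_cancel_left m (pow_pos two_pos j)]
      exact hm
  haveI := hp.isNilpotent
  have hcomm : commutator (↥K ⧸ O.subgroupOf K) = ⊤ := by
    have h1 : commutator ↥K = ⊤ := by
      apply map_injective K.subtype_injective
      rw [map_subtype_commutator, hK, ← MonoidHom.range_eq_map, range_subtype]
    rw [_root_.commutator_def, ← map_top_of_surjective (QuotientGroup.mk' (O.subgroupOf K)) (QuotientGroup.mk'_surjective _),
      ← map_commutator, ← _root_.commutator_def, h1]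
  by_contra hne
  haveI : Nontrivial (↥K ⧸ O.subgroupOf K) := by
    rw [QuotientGroup.nontrivial_iff, Ne, subgroupOf_eq_top]
    exact hne
  exact (IsSolvable.commutator_lt_top_of_nontrivial (↥K ⧸ O.subgroupOf K)).ne hcomm

theorem odd_mem_of_sup_eq_top [Finite G] {R K : Subgroup G} [R.Normal] (hR : IsPGroup 2 R)
    (hK : K.IsSubnormal) (hsup : K ⊔ R = ⊤) {x : G} (hx : Odd (orderOf x)) : x ∈ K := by
  induction hK with
  | top => exact mem_top x
  | step H M hle _ hN ih =>
    have hMR : M ⊔ R = ⊤ := top_le_iff.mp (hsup ▸ sup_le_sup_right hle R)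
    have hxM := ih hMR
    haveI := hN
    obtain ⟨k, hk, r, hr, hkr⟩ := mem_sup_of_normal_right.mp (show x ∈ H ⊔ R by rw [hsup]; trivial)
    have hrM : r ∈ M := by
      have h := M.mul_mem (M.inv_mem (hle hk)) hxM
      rwa [← hkr, inv_mul_cancel_left] at h
    obtain ⟨n, hn⟩ := hR ⟨r, hr⟩
    set f := QuotientGroup.mk' (H.subgroupOf M) with hf
    have hfk : f ⟨k, hle hk⟩ = 1 := (QuotientGroup.eq_one_iff _).mpr hk
    have hfx : f ⟨x, hxM⟩ = f ⟨r, hrM⟩ := by
      rw [show (⟨x, hxM⟩ : ↥M) = ⟨k, hle hk⟩ * ⟨r, hrM⟩ from Subtype.ext hkr.symm, map_mul, hfk, one_mul]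
    have h1 : f ⟨x, hxM⟩ ^ 2 ^ n = 1 := by
      have hr1 : (⟨r, hrM⟩ : ↥M) ^ 2 ^ n = 1 := Subtype.ext (by simpa using congrArg Subtype.val hn)
      rw [hfx, ← map_pow, hr1, map_one]
    have h2 : f ⟨x, hxM⟩ ^ orderOf x = 1 := by
      have hx1 : (⟨x, hxM⟩ : ↥M) ^ orderOf x = 1 := Subtype.ext (by simpa using pow_orderOf_eq_one x)
      rw [← map_pow, hx1, map_one]
    have h3 : f ⟨x, hxM⟩ = 1 := by
      rw [← orderOf_eq_one_iff]
      exact Nat.eq_one_of_dvd_coprimes ((Nat.coprime_two_left.mpr hx).pow_left n)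
        (orderOf_dvd_of_pow_eq_one h1) (orderOf_dvd_of_pow_eq_one h2)
    exact mem_subgroupOf.mp ((QuotientGroup.eq_one_iff (N := H.subgroupOf M) _).mp h3)

/-- A 2-core normalises every subnormal subgroup generated by elements of odd order. -/
theorem pCoreOf_le_normalizer [Finite G] {H K : Subgroup G} (hKH : K ≤ H)
    (hK : (K.subgroupOf H).IsSubnormal) (hodd : Cfsg.oddGenerated K = K) :
    Cfsg.pCoreOf 2 H ≤ normalizer (K : Set G) := by
  haveI : Fact (Nat.Prime 2) := ⟨Nat.prime_two⟩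
  set R := Cfsg.pCoreOf 2 H with hR
  set J := K ⊔ R with hJ
  have hJH : J ≤ H := sup_le hKH (CharP.pCoreOf_le H)
  haveI : (R.subgroupOf J).Normal :=
    (normal_subgroupOf_iff_le_normalizer le_sup_right).mpr (hJH.trans (CharP.le_normalizer_pCoreOf H))
  have hKJ : (K.subgroupOf J).IsSubnormal := hK.comap (inclusion hJH)
  have hsup : K.subgroupOf J ⊔ R.subgroupOf J = ⊤ := by
    rw [← subgroupOf_sup le_sup_left le_sup_right]
    exact subgroupOf_self J
  intro r hr
  rw [mem_normalizer_iff_map_conj_eq]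
  refine eq_of_le_of_card_ge ?_ (le_of_eq (card_map_of_injective (MulEquiv.injective _)).symm)
  conv_lhs => rw [← hodd]
  rw [Cfsg.oddGenerated, MonoidHom.map_closure, closure_le]
  rintro _ ⟨x, ⟨hxK, hxo⟩, rfl⟩
  have hmem : r * x * r⁻¹ ∈ J :=
    J.mul_mem (J.mul_mem (le_sup_right (a := K) hr) (le_sup_left (b := R) hxK)) (J.inv_mem (le_sup_right (a := K) hr))
  have ho : Odd (orderOf (⟨r * x * r⁻¹, hmem⟩ : ↥J)) := by
    rw [Subgroup.orderOf_mk]
    show Odd (orderOf ((MulAut.conj r) x))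
    rwa [MulEquiv.orderOf_eq]
  exact mem_subgroupOf.mp
    (odd_mem_of_sup_eq_top (R := R.subgroupOf J) ((CharP.pCoreOf_isPGroup H).comap_subtype) hKJ hsup ho)

theorem pxq_of_commutator [Finite G] {p : ℕ} [Fact p.Prime] {U P Q : Subgroup G} (hP : IsPGroup p P)
    (hQ : (Nat.card Q).Coprime p) (hU : IsPGroup p U) (hQP : Q ≤ normalizer (P : Set G))
    (hPU : P ≤ normalizer (U : Set G)) (hQU : Q ≤ normalizer (U : Set G))
    (hPQ : ⁅P, Q⁆ ≤ centralizer (U : Set G))
    (hC : U ⊓ centralizer (P : Set G) ≤ centralizer (Q : Set G)) :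
    Q ≤ centralizer (U : Set G) := by
  induction hn : Nat.card U using Nat.strong_induction_on generalizing U with
  | _ n ih =>
    rcases eq_or_ne U ⊥ with rfl | hne
    · exact le_centralizer_iff.mpr bot_le
    have hlt := Coprime.commutator_lt_of_isPGroup hU hP hPU hne
    have h1 : Q ≤ centralizer ((⁅U, P⁆ : Subgroup G) : Set G) := by
      refine ih _ (hn ▸ ?_) (hU.to_le hlt.le) (normalizer_commutator_ge_right U P)
        (Coprime.le_normalizer_commutator hQU hQP) (hPQ.trans (centralizer_le hlt.le))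
        ((inf_le_inf_right _ hlt.le).trans hC) rfl
      exact Set.Finite.card_lt_card (Set.toFinite _) hlt
    have h2 : ⁅⁅Q, U⁆, P⁆ = ⊥ := by
      refine commutator_commutator_eq_bot_of_rotate ?_ ?_
      · rw [commutator_comm, commutator_eq_bot_iff_le_centralizer]; exact h1
      · rw [commutator_eq_bot_iff_le_centralizer]; exact hPQ
    rw [commutator_comm Q U, commutator_eq_bot_iff_le_centralizer] at h2
    have h3 : ⁅U, Q⁆ ≤ centralizer (Q : Set G) :=
      (le_inf (Coprime.commutator_le_of_le_normalizer hQU) h2).trans hC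
    refine Coprime.le_centralizer_of_commutator_le_centralizer h3 ?_
    obtain ⟨k, hk⟩ := IsPGroup.iff_card.mp (hU.to_le (Coprime.commutator_le_of_le_normalizer hQU))
    rw [hk]
    exact Nat.Coprime.pow_right k hQ

theorem omegaOne_le (H : Subgroup G) : Cfsg.omegaOne 2 H ≤ H := (closure_le _).mpr fun x hx => hx.1

theorem omegaOne_center_le {A B : Subgroup G} (h : Cfsg.omegaOne 2 A ≤ B) :
    Cfsg.omegaOne 2 A ≤ Cfsg.omegaOne 2 B :=
  (closure_le _).mpr fun x hx => subset_closure ⟨h (subset_closure hx), hx.2⟩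

theorem sq_eq_one_of_mem {A : Subgroup G} (hA : A ≤ centralizer (A : Set G)) {x : G}
    (hx : x ∈ Cfsg.omegaOne 2 A) : x ^ 2 = 1 := by
  have key : x ∈ A ∧ x ^ 2 = 1 := by
    induction hx using closure_induction with
    | mem y hy => exact hy
    | one => exact ⟨A.one_mem, one_pow 2⟩
    | mul a b _ _ ha hb =>
      refine ⟨A.mul_mem ha.1 hb.1, ?_⟩
      rw [(show Commute a b from (mem_centralizer_iff.mp (hA ha.1) b hb.1).symm).mul_pow, ha.2, hb.2, one_mul]
    | inv a _ ha => exact ⟨A.inv_mem ha.1, by rw [inv_pow, ha.2, inv_one]⟩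
  exact key.2

theorem inf_centralizer_comm (A : Subgroup G) :
    (A ⊓ centralizer (A : Set G)) ≤ centralizer ((A ⊓ centralizer (A : Set G) : Subgroup G) : Set G) :=
  le_trans inf_le_right (centralizer_le inf_le_left)

theorem conj_mem_pCoreOf_center {A : Subgroup G} :
    normalizer (A : Set G) ≤ normalizer ((Cfsg.omegaOne 2 (A ⊓ centralizer (A : Set G))) : Set G) := by
  intro g hg
  have h : g ∈ normalizer ((A ⊓ centralizer (A : Set G) : Subgroup G) : Set G) :=
    inf_normalizer_le_normalizer_inf ⟨hg, CharP.le_normalizer_centralizer le_rfl hg⟩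
  rw [mem_normalizer_iff_map_conj_eq] at h ⊢
  rw [Cfsg.omegaOne, MonoidHom.map_closure]
  congr 1
  ext y
  constructor
  · rintro ⟨x, ⟨hx, hx2⟩, rfl⟩
    refine ⟨h ▸ mem_map_of_mem _ hx, ?_⟩
    rw [← map_pow, hx2, map_one]
  · rintro ⟨hy, hy2⟩
    obtain ⟨x, hx, rfl⟩ := h.symm ▸ hy
    exact ⟨x, ⟨hx, (MulAut.conj g).injective (by simpa using hy2)⟩, rfl⟩

/-- The 2-core of an overgroup of a member of `calX`, faithful form. -/
theorem omegaOne_center_not_centralized [Finite G] {L H : Subgroup G} (hLH : L ≤ H)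
    (hsn : (L.subgroupOf H).IsSubnormal) (hodd : Cfsg.oddGenerated L = L)
    (hne : Cfsg.moduleV L ≠ ⊥) :
    ⁅Cfsg.omegaOne 2 (Cfsg.pCoreOf 2 H ⊓ centralizer (Cfsg.pCoreOf 2 H : Set G)), L⁆ ≠ ⊥ := by
  haveI : Fact (Nat.Prime 2) := ⟨Nat.prime_two⟩
  intro hbot
  apply hne
  set R := Cfsg.pCoreOf 2 H with hR
  set O := Cfsg.pCoreOf 2 L with hO
  set V := Cfsg.omegaOne 2 (O ⊓ centralizer (O : Set G)) with hV
  show ⁅V, L⁆ = ⊥
  have hVO : V ≤ O := (omegaOne_le _).trans inf_le_left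
  have hRL : R ≤ normalizer (L : Set G) := pCoreOf_le_normalizer hLH hsn hodd
  have hRO : R ≤ normalizer (O : Set G) := hRL.trans (LocalChar.normalizer_le_normalizer_pCoreOf L)
  have hLR : L ≤ normalizer (R : Set G) := hLH.trans (CharP.le_normalizer_pCoreOf H)
  have hOR : O ≤ R := by
    intro y hy
    obtain ⟨y', hy', rfl⟩ := hy
    refine CharP.mem_pCoreOf_iff.mpr ⟨hLH y'.2, ?_⟩
    refine Lib.CharTwo.subnormal_le_pCore ?_ ?_ (show (⟨y', hLH y'.2⟩ : ↥H) ∈ O.subgroupOf H from ⟨y', hy', rfl⟩)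
    · refine IsSubnormal.trans (K := L.subgroupOf H) ?_ ?_ hsn
      · exact fun a ha => mem_subgroupOf.mpr (CharP.pCoreOf_le L (mem_subgroupOf.mp ha))
      · refine Normal.isSubnormal ?_
        refine (normal_subgroupOf_iff_le_normalizer (fun a ha => mem_subgroupOf.mpr (CharP.pCoreOf_le L (mem_subgroupOf.mp ha)))).mpr ?_
        intro a ha
        rw [mem_normalizer_iff]
        intro b
        exact mem_normalizer_iff.mp (CharP.le_normalizer_pCoreOf L (mem_subgroupOf.mp ha)) b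
    · exact (CharP.pCoreOf_isPGroup L).comap_subtype
  have hcomm : ⁅R, L⁆ ≤ centralizer (V : Set G) := by
    have h1 : ⁅R, L⁆ ≤ R ⊓ L := le_inf (Coprime.commutator_le_of_le_normalizer hLR)
      (by rw [commutator_comm]; exact Coprime.commutator_le_of_le_normalizer hRL)
    refine h1.trans (le_trans (CharP.le_pCoreOf inf_le_right ((CharP.pCoreOf_isPGroup H).to_le inf_le_left) ?_) ?_)
    · intro g hg
      exact inf_normalizer_le_normalizer_inf ⟨hLR hg, le_normalizer hg⟩
    · exact le_centralizer_iff.mp ((omegaOne_le _).trans inf_le_right)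
  rw [commutator_comm, commutator_eq_bot_iff_le_centralizer]
  conv_lhs => rw [← hodd]
  rw [Cfsg.oddGenerated, closure_le]
  rintro x ⟨hxL, hxo⟩
  refine pxq_of_commutator (P := R) (Q := zpowers x) (CharP.pCoreOf_isPGroup H) ?_
    ((CharP.pCoreOf_isPGroup L).to_le hVO) (zpowers_le.mpr (hLR hxL))
    (hRO.trans conj_mem_pCoreOf_center)
    (zpowers_le.mpr (conj_mem_pCoreOf_center (CharP.le_normalizer_pCoreOf L hxL)))
    ((commutator_mono le_rfl (zpowers_le.mpr hxL)).trans hcomm) ?_ (mem_zpowers x)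
  · rw [Nat.card_zpowers]; exact (Nat.coprime_two_right.mpr hxo)
  · intro v hv
    have h2 : v ∈ Cfsg.omegaOne 2 (R ⊓ centralizer (R : Set G)) :=
      subset_closure ⟨⟨hOR (hVO hv.1), hv.2⟩, sq_eq_one_of_mem (inf_centralizer_comm O) hv.1⟩
    exact centralizer_le (zpowers_le.mpr hxL) (commutator_eq_bot_iff_le_centralizer.mp hbot h2)


theorem isOfCharacteristicTwo_congr {A B : Type*} [Group A] [Group B] (e : A ≃* B)
    (h : Cfsg.IsOfCharacteristicTwo A) : Cfsg.IsOfCharacteristicTwo B := by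
  intro b hb
  have hc : e.symm b ∈ pCore 2 A := by
    refine h (mem_centralizer_iff.mpr fun a ha => e.injective ?_)
    have hm : e a ∈ Cfsg.pCore 2 B := by rw [← PSolvable.map_pCore_equiv e]; exact ⟨a, ha, rfl⟩
    simpa using mem_centralizer_iff.mp hb (e a) hm
  rw [← PSolvable.map_pCore_equiv e]
  exact ⟨e.symm b, hc, by simp⟩


/-- Let G be a non-abelian finite simple QTKE-group and T a Sylow 2-subgroup of G, and let L be a member of ℒ_f(G, T) (a member of ℒ(G, T) that lies in 𝒳 — L ≠ 1, L = O²(L), F*(L) = O₂(L) — and acts nontrivially on Ω₁(Z(O₂(L)))). Then (1) every member K of ℒ(G, T) containing L is again in ℒ_f(G, T) (a sharper form of (1) also compares the modules [Ω₁(Z(R)), L] and [Ω₁(Z(R')), K] for suitable 2-subgroups R, R'; that comparison is not included); and (2) if L is maximal under inclusion among the members of ℒ_f(G, T), then L is a maximal member of ℒ(G, T), hence a member of ℒ_f*(G, T). -/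
theorem result {G : Type*} [Group G] [Finite G] [IsSimpleGroup G]
    (hG : ¬ IsMulCommutative G) (hQ : Cfsg.IsQTKE G) (T : Sylow 2 G) (L : Subgroup G)
    (hL : L ∈ Cfsg.calLf (T : Subgroup G)) :
    (∀ K ∈ Cfsg.calL (T : Subgroup G), L ≤ K → K ∈ Cfsg.calLf (T : Subgroup G)) ∧
    ((∀ K ∈ Cfsg.calLf (T : Subgroup G), L ≤ K → K = L) → L ∈ Cfsg.calLfMax (T : Subgroup G)) := by
  classical
  haveI : Fact (Nat.Prime 2) := ⟨Nat.prime_two⟩
  obtain ⟨hLc, ⟨-, hLodd, -⟩, hLV⟩ := hL
  have h1 : ∀ K ∈ Cfsg.calL (T : Subgroup G), L ≤ K → K ∈ Cfsg.calLf (T : Subgroup G) := by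
    intro K hK hLK
    obtain ⟨⟨hKne, hKperf, hKsn, -⟩, -, hO2⟩ := id hK
    set H : Subgroup G := K ⊔ (T : Subgroup G) with hH
    have hKH : K ≤ H := le_sup_left
    have hTH : (T : Subgroup G) ≤ H := le_sup_right
    have hperf : ⁅K, K⁆ = K := by
      have h := congrArg (Subgroup.map H.subtype) hKperf
      rwa [Subgroup.map_commutator, Subgroup.map_subgroupOf_eq_of_le hKH] at h
    have hodd := oddGenerated_of_perfect hperf
    have hKne' : K ≠ ⊥ := by
      rintro rfl
      exact hKne (Subgroup.bot_subgroupOf H)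
    set U : Subgroup G := Cfsg.pCoreOf 2 H with hU
    have hUp : IsPGroup 2 ↥U := CharP.pCoreOf_isPGroup H
    have hTN : (T : Subgroup G) ≤ Subgroup.normalizer (U : Set G) := hTH.trans (CharP.le_normalizer_pCoreOf H)
    have hUT : U ≤ (T : Subgroup G) := by
      have := T.is_maximal' (hUp.to_sup_of_normal_left' T.isPGroup' hTN) le_sup_right
      rw [← this]; exact le_sup_left
    have hUne : U ≠ ⊥ := by
      rw [hU, Cfsg.pCoreOf, Ne, Subgroup.map_eq_bot_iff_of_injective _ H.subtype_injective]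
      exact hO2
    have hZ : U ⊓ ((T : Subgroup G) ⊓ Subgroup.centralizer ((T : Subgroup G) : Set G)) ≠ ⊥ := by
      haveI : (U.subgroupOf T).Normal := (Subgroup.normal_subgroupOf_iff_le_normalizer hUT).mpr hTN
      obtain ⟨z, hzU, hzc, hz1⟩ := Cfsg.Agent.Lib.Critical.exists_center_mem T.isPGroup' (N := U.subgroupOf T)
        (fun h => hUne (by have := Subgroup.subgroupOf_eq_bot.mp h; rwa [disjoint_iff, inf_eq_left.mpr hUT] at this))
      intro h
      refine hz1 (Subtype.ext ((Subgroup.eq_bot_iff_forall _).mp h (z : G) ⟨hzU, z.2, Subgroup.mem_centralizer_iff.mpr fun t ht => ?_⟩))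
      exact congrArg Subtype.val (Subgroup.mem_center_iff.mp hzc ⟨t, ht⟩)
    have hHN : H ≤ Subgroup.normalizer (U : Set G) := CharP.le_normalizer_pCoreOf H
    have hH2 : Cfsg.IsOfCharacteristicTwo ↥H := by
      refine Lib.CharTwo.charTwo_of_pCoreOf_le hHN ?_ (Lib.CharTwo.charTwo_normalizer hQ.2.2 T U hUp hZ)
      have := T.is_maximal' ((CharP.pCoreOf_isPGroup (Subgroup.normalizer (U : Set G))).to_sup_of_normal_left' T.isPGroup'
        (hTN.trans (CharP.le_normalizer_pCoreOf _))) le_sup_right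
      exact le_trans (le_sup_left.trans (le_of_eq this)) hTH
    have hUK : U ≤ Subgroup.normalizer (K : Set G) := pCoreOf_le_normalizer hKH hKsn hodd
    have hK2 : Cfsg.IsOfCharacteristicTwo ↥K :=
      isOfCharacteristicTwo_congr (Subgroup.subgroupOfEquivOfLe hKH)
        (CharP.centralizer_pCore_le_of_isSubnormal hH2 hKsn)
    refine ⟨hK, ⟨hKne', hodd, Lib.CharTwo.mem_calHe_iff.mpr hK2⟩, ?_⟩
    -- the modules
    set HL : Subgroup G := L ⊔ (T : Subgroup G) with hHL
    have hLH : HL ≤ H := sup_le (hLK.trans hKH) hTH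
    have hnot := omegaOne_center_not_centralized (H := HL) le_sup_left hLc.1.2.2.1 hLodd hLV
    have hUR : U ≤ Cfsg.pCoreOf 2 HL :=
      CharP.le_pCoreOf (hUT.trans le_sup_right) hUp (hLH.trans hHN)
    set W := Cfsg.omegaOne 2 (U ⊓ Subgroup.centralizer (U : Set G)) with hW
    have hWU : W ≤ U := (omegaOne_le _).trans inf_le_left
    have hWK : ⁅W, K⁆ ≠ ⊥ := by
      intro hb
      apply hnot
      refine le_bot_iff.mp ((Subgroup.commutator_mono ?_ hLK).trans (le_of_eq hb))
      intro x hx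
      have hx' : x ∈ Cfsg.pCoreOf 2 HL ⊓ Subgroup.centralizer (Cfsg.pCoreOf 2 HL : Set G) := omegaOne_le _ hx
      have hxc : x ∈ Subgroup.centralizer (U : Set G) := Subgroup.centralizer_le hUR hx'.2
      have hxH : x ∈ H := hLH (CharP.pCoreOf_le HL hx'.1)
      have hxU : x ∈ U := by
        refine CharP.mem_pCoreOf_iff.mpr ⟨hxH, hH2 (Subgroup.mem_centralizer_iff.mpr fun y hy => Subtype.ext ?_)⟩
        exact Subgroup.mem_centralizer_iff.mp hxc y ⟨y, hy, rfl⟩
      exact Subgroup.subset_closure ⟨⟨hxU, hxc⟩, sq_eq_one_of_mem (inf_centralizer_comm _) hx⟩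
    have hKW : K ≤ Subgroup.normalizer (W : Set G) := (hKH.trans hHN).trans conj_mem_pCoreOf_center
    set OK := Cfsg.pCoreOf 2 K with hOK
    have hOU : OK ≤ U := by
      intro y hy
      obtain ⟨y', hy', rfl⟩ := hy
      refine CharP.mem_pCoreOf_iff.mpr ⟨hKH y'.2, ?_⟩
      refine Lib.CharTwo.map_pCore_of_subnormal hKsn ⟨⟨⟨y', hKH y'.2⟩, y'.2⟩, ?_, rfl⟩
      have he := Cfsg.Agent.Lib.PSolvable.map_pCore_equiv (p := 2) (Subgroup.subgroupOfEquivOfLe hKH).symm
      rw [← he]
      exact ⟨y', hy', rfl⟩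
    have hWV : ⁅W, K⁆ ≤ Cfsg.omegaOne 2 (OK ⊓ Subgroup.centralizer (OK : Set G)) := by
      have hcW : ⁅W, K⁆ ≤ W := Coprime.commutator_le_of_le_normalizer hKW
      have hcK : ⁅W, K⁆ ≤ K := by
        rw [Subgroup.commutator_comm]; exact Coprime.commutator_le_of_le_normalizer (hWU.trans hUK)
      have hcO : W ⊓ K ≤ OK := CharP.le_pCoreOf inf_le_right (hUp.to_le (inf_le_left.trans hWU))
        (fun k hk => Subgroup.inf_normalizer_le_normalizer_inf ⟨hKW hk, Subgroup.le_normalizer hk⟩)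
      intro x hx
      refine Subgroup.subset_closure ⟨⟨hcO ⟨hcW hx, hcK hx⟩, ?_⟩, sq_eq_one_of_mem (inf_centralizer_comm U) (hcW hx)⟩
      exact Subgroup.centralizer_le hOU ((omegaOne_le _) (hcW hx)).2
    intro hV
    apply hWK
    have hV' : ⁅Cfsg.omegaOne 2 (OK ⊓ Subgroup.centralizer (OK : Set G)), K⁆ = ⊥ := hV
    have hd : ⁅⁅W, K⁆, K⁆ = ⊥ := le_bot_iff.mp ((Subgroup.commutator_mono hWV le_rfl).trans (le_of_eq hV'))
    rw [Subgroup.commutator_comm]
    conv_lhs => rw [← hperf]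
    refine Subgroup.commutator_commutator_eq_bot_of_rotate ?_ ?_
    · rw [Subgroup.commutator_comm K W]; exact hd
    · exact hd
  refine ⟨h1, fun hmax => ⟨⟨hLc, fun K hK hLK => hmax K (h1 K hK hLK) hLK⟩, ⟨?_, hLodd, ?_⟩, hLV⟩⟩
  · exact (h1 L hLc le_rfl).2.1.1
  · exact (h1 L hLc le_rfl).2.1.2.2

end Cfsg.Agent.S1851
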