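import Cfsg.Statements.S1892
import Mathlib
import Cfsg.Agent.Lib.PSolvable.HallHigman
import Cfsg.Agent.Lib.Coprime.Basic

set_option autoImplicit false
open Cfsg
open scoped commutatorElement

namespace Cfsg.Agent.S1892

open Cfsg.Agent.Lib in
theorem centralizer_le_normalizer {G : Type*} [Group G] (H : Subgroup G) :
    Subgroup.centralizer (H : Set G) ≤ Subgroup.normalizer (H : Set G) :=
  Subgroup.centralizer_le_normalizer _

open Cfsg.Agent.Lib

/-- Let S be a finite p-solvable group with no nontrivial normal subgroup of order prime to p, A a p-subgroup of S, and Q a nontrivial A-invariant subgroup of order prime to p with [A, Q] = Q. Then the commutator [O_p(S), A, Q] is nontrivial. -/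
theorem result {S : Type*} [Group S] [Finite S] {p : ℕ} [Fact p.Prime]
    (hS : Cfsg.IsPSolvable p S) (hred : Cfsg.pPrimeCore p S = ⊥)
    (A Q : Subgroup S) (hA : IsPGroup p A) (hQ : ¬ p ∣ Nat.card Q) (hQ1 : Q ≠ ⊥)
    (hinv : ∀ a ∈ A, ∀ x ∈ Q, a * x * a⁻¹ ∈ Q) (hAQ : ⁅A, Q⁆ = Q) :
    ⁅⁅Cfsg.pCore p S, A⁆, Q⁆ ≠ ⊥ := by
  intro h
  set P := Cfsg.pCore p S with hPdef
  have hPn : P.Normal := inferInstance
  set C0 := ⁅P, A⁆ with hC0
  have hAP : A ≤ Subgroup.normalizer (P : Set S) := by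
    rw [Subgroup.normalizer_eq_top]; exact le_top
  have hC0P : C0 ≤ P := Coprime.commutator_le_of_le_normalizer hAP
  have hQC : Q ≤ Subgroup.centralizer (C0 : Set S) :=
    Subgroup.le_centralizer_iff.mp (Subgroup.commutator_eq_bot_iff_le_centralizer.mp h)
  have hAN : A ≤ Subgroup.normalizer (C0 : Set S) := Subgroup.normalizer_commutator_ge_right P A
  -- elements normalising C0 that act trivially on P/C0
  let H : Subgroup S :=
    { carrier := {x | x ∈ Subgroup.normalizer (C0 : Set S) ∧ ∀ v ∈ P, ⁅x, v⁆ ∈ C0}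
      one_mem' := ⟨Subgroup.one_mem _, fun v _ => by simp⟩
      mul_mem' := fun {a b} ha hb => ⟨Subgroup.mul_mem _ ha.1 hb.1, fun v hv => by
        rw [commutatorElement_mul_left_eq_conj_mul]
        exact C0.mul_mem ((Subgroup.mem_normalizer_iff.mp ha.1 _).mp (hb.2 v hv)) (ha.2 v hv)⟩
      inv_mem' := fun {a} ha => ⟨Subgroup.inv_mem _ ha.1, fun v hv => by
        have h1 := C0.inv_mem ((Subgroup.mem_normalizer_iff.mp (Subgroup.inv_mem _ ha.1) _).mp (ha.2 v hv))
        have e : ⁅a⁻¹, v⁆ = (a⁻¹ * ⁅a, v⁆ * a⁻¹⁻¹)⁻¹ := by simp [commutatorElement_def, mul_assoc]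
        rw [e]; exact h1⟩ }
  have hAH : ∀ a ∈ A, a ∈ H := fun a ha => ⟨hAN ha, fun v hv => by
    rw [hC0, Subgroup.commutator_comm]; exact Subgroup.commutator_mem_commutator ha hv⟩
  have hQN : Q ≤ Subgroup.normalizer (C0 : Set S) := hQC.trans (centralizer_le_normalizer _)
  have hQH : Q ≤ H := by
    conv_lhs => rw [← hAQ]
    rw [Subgroup.commutator_le]
    intro a ha x hx
    have hx' : x * a⁻¹ * x⁻¹ ∈ H := by
      obtain ⟨hn, hc⟩ := hAH a⁻¹ (A.inv_mem ha)
      refine ⟨Subgroup.mul_mem _ (Subgroup.mul_mem _ (hQN hx) hn) (Subgroup.inv_mem _ (hQN hx)), fun v hv => ?_⟩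
      have hv' : x⁻¹ * v * x ∈ P := by simpa using hPn.conj_mem v hv x⁻¹
      have h2 := (Subgroup.mem_normalizer_iff.mp (hQN hx) _).mp (hc _ hv')
      simpa [commutatorElement_def, mul_assoc] using h2
    have := H.mul_mem (hAH a ha) hx'
    simpa [commutatorElement_def, mul_assoc] using this
  have hstab : ⁅P, Q⁆ ≤ C0 := by
    rw [Subgroup.commutator_comm, Subgroup.commutator_le]
    exact fun x hx v hv => (hQH hx).2 v hv
  have hcop : (Nat.card Q).Coprime (Nat.card C0) := by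
    obtain ⟨k, hk⟩ := IsPGroup.iff_card.mp ((PSolvable.pCore_isPGroup (p := p) (G := S)).to_le hC0P)
    rw [hk]
    exact Nat.Coprime.pow_right k ((Nat.Prime.coprime_iff_not_dvd Fact.out).mpr hQ).symm
  have hQP : Q ≤ P := (Coprime.le_centralizer_of_stabilizes hstab hQC hcop).trans
    (PSolvable.centralizer_pCore_le_of_isPSolvable hS hred)
  exact hQ1 (PSolvable.eq_bot_of_isPGroup_of_coprime ((PSolvable.pCore_isPGroup (p := p) (G := S)).to_le hQP)
    ((Nat.Prime.coprime_iff_not_dvd Fact.out).mpr hQ).symm)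

end Cfsg.Agent.S1892
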