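import Cfsg.Statements.S1893
import Cfsg.Agent.S0625
import Cfsg.Agent.Lib.OddStability.Stable
import Cfsg.Agent.Lib.Coprime.Quotient
import Cfsg.Agent.Lib.Core.PiCore
import Cfsg.Agent.Lib.Core.Fitting
import Cfsg.Agent.Lib.PSolvable.PSolv
-- import your own Cfsg.Agent.* helpers here

set_option autoImplicit false
open Cfsg

namespace Cfsg.Agent.S1893

open Subgroup Cfsg.Agent.Lib
open scoped commutatorElement

universe u

variable {S : Type u} [Group S] [Finite S]

/-- An element quadratic on every `O_r(S)` lies in a normal subgroup inducing an `r`-group on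
`O_r(S)`, for `r ≥ 5` or `O_r(S) = 1`. -/
theorem exists_stable_normal [Group.IsSolvable S] {r : ℕ} [Fact r.Prime]
    (hr : 5 ≤ r ∨ Cfsg.pCore r S = ⊥) {x : S}
    (hq : ⁅⁅Cfsg.pCore r S, zpowers x⁆, zpowers x⁆ = ⊥) :
    ∃ D : Subgroup S, D.Normal ∧ x ∈ D ∧
      ∀ d ∈ D, ∃ k : ℕ, d ^ r ^ k ∈ centralizer (Cfsg.pCore r S : Set S) := by
  rcases hr with hr | hr
  swap
  · refine ⟨⊤, inferInstance, mem_top x, fun d _ => ⟨0, ?_⟩⟩
    rw [hr, mem_centralizer_iff]
    intro y hy
    rw [SetLike.mem_coe, mem_bot] at hy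
    rw [hy, one_mul, mul_one]
  obtain ⟨D, hD, hKD, ⟨k, hk⟩, hxD⟩ :=
    (Cfsg.Agent.S0625.result hr PSolvable.isPSolvable_of_isSolvable).2.1 x (hq ▸ bot_le)
  refine ⟨D, hD, hxD, fun d hd => ?_⟩
  set P := Cfsg.pCore r S
  set Φ := (frattini ↥P).map P.subtype
  haveI : (P.map (QuotientGroup.mk' Φ)).Normal :=
    Subgroup.Normal.map inferInstance _ (QuotientGroup.mk'_surjective Φ)
  haveI : (Cfsg.sectionKernel P Φ).Normal := by
    unfold Cfsg.sectionKernel; infer_instance
  have hpg : IsPGroup r (D ⧸ (Cfsg.sectionKernel P Φ).subgroupOf D) := IsPGroup.of_card (n := k) hk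
  obtain ⟨j, hj⟩ := hpg (QuotientGroup.mk ⟨d, hd⟩)
  rw [← QuotientGroup.mk_pow, QuotientGroup.eq_one_iff, mem_subgroupOf, coe_pow] at hj
  obtain ⟨i, hi⟩ := OddStability.exists_pow_mem_centralizer_of_frattini (p := r)
    PSolvable.pCore_isPGroup (d := d ^ r ^ j) (by rw [normalizer_eq_top]; exact mem_top _)
    (fun y hy => by
      have h1 := mem_centralizer_iff.mp (mem_comap.mp hj) _ (mem_map_of_mem _ hy)
      refine (QuotientGroup.eq_one_iff _).mp ?_
      show QuotientGroup.mk' Φ (d ^ r ^ j * y * (d ^ r ^ j)⁻¹ * y⁻¹) = 1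
      rw [map_mul, map_mul, map_mul, map_inv, map_inv, ← h1]
      group)
  exact ⟨j + i, by rw [pow_add, pow_mul]; exact hi⟩

/-- If every element of the subgroup `C` acts quadratically on every `O_r(S)`, then `C ≤ F(S)`. -/
theorem le_fitting_of_quadratic [Group.IsSolvable S] (C : Subgroup S)
    (h5 : ∀ r : Nat.Primes, 5 ≤ (r : ℕ) ∨ Cfsg.pCore (r : ℕ) S = ⊥)
    (hq : ∀ (r : Nat.Primes), ∀ x ∈ C,
      ⁅⁅Cfsg.pCore (r : ℕ) S, zpowers x⁆, zpowers x⁆ = ⊥) :
    C ≤ Cfsg.fittingSubgroup S := by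
  have hFn := Fitting.fittingSubgroup_normal (G := S)
  intro x hx
  set F := Cfsg.fittingSubgroup S
  -- each primary part lies in `F(S)`
  have key : ∀ r : ℕ, r.Prime → ∀ y ∈ C, (∃ a : ℕ, orderOf y = r ^ a) → y ∈ F := by
    rintro r hr y hy ⟨a, ha⟩
    haveI := Fact.mk hr
    obtain ⟨D, hD, hyD, hDp⟩ := exists_stable_normal (h5 ⟨r, hr⟩) (hq ⟨r, hr⟩ y hy)
    set Q := ⨆ q : {q : Nat.Primes // (q : ℕ) ≠ r}, Cfsg.pCore (q.1 : ℕ) S
    haveI hQn : Q.Normal := by
      show Subgroup.Normal (iSup _ : Subgroup S)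
      rw [iSup]
      exact Subgroup.sSup_normal _ (by rintro _ ⟨q, rfl⟩; infer_instance)
    haveI := hD
    set K := D ⊓ centralizer (Q : Set S)
    have hyQ : y ∈ centralizer (Q : Set S) := by
      suffices h : Q ≤ centralizer (zpowers y : Set S) from
        (le_centralizer_iff.mp h) (mem_zpowers y)
      refine iSup_le fun q => ?_
      haveI := Fact.mk q.1.2
      rw [← commutator_eq_bot_iff_le_centralizer]
      obtain ⟨j, hj⟩ := (PSolvable.pCore_isPGroup (p := (q.1 : ℕ)) (G := S)).exists_card_eq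
      refine Coprime.commutator_eq_bot_of_commutator_commutator_eq_bot
        (le_top.trans (normalizer_eq_top (Cfsg.pCore (q.1 : ℕ) S)).ge) ?_ (hq q.1 y hy)
      rw [Nat.card_zpowers, ha, hj]
      exact Nat.Coprime.pow _ _ ((Nat.coprime_primes hr q.1.2).mpr (Ne.symm q.2))
    -- `K` is nilpotent
    have hFQ : F ≤ Q ⊔ Cfsg.pCore r S := by
      show Cfsg.fittingSubgroup S ≤ _
      rw [Fitting.fittingSubgroup_eq_iSup_pCore]
      refine iSup_le fun q => ?_
      by_cases hqr : (q : ℕ) = r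
      · exact (le_of_eq (by rw [hqr])).trans le_sup_right
      · exact (le_iSup (fun q : {q : Nat.Primes // (q : ℕ) ≠ r} => Cfsg.pCore (q.1 : ℕ) S)
          ⟨q, hqr⟩).trans le_sup_left
    have hKp : IsPGroup r (K.map (QuotientGroup.mk' Q)) := by
      rintro ⟨_, k, hk, rfl⟩
      obtain ⟨i, hi⟩ := hDp k hk.1
      have hF : k ^ r ^ i ∈ F := by
        refine Fitting.centralizer_fittingSubgroup_le ?_
        have hle : F ≤ centralizer (zpowers (k ^ r ^ i) : Set S) :=
          hFQ.trans (sup_le (le_centralizer_iff.mp (zpowers_le.mpr (pow_mem hk.2 _)))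
            (le_centralizer_iff.mp (zpowers_le.mpr hi)))
        exact (le_centralizer_iff.mp hle) (mem_zpowers _)
      have hF' := hFQ hF
      rw [← SetLike.mem_coe, normal_mul] at hF'
      obtain ⟨q, hqQ, t, htP, he⟩ := hF'
      obtain ⟨j, hj⟩ := PSolvable.pCore_isPGroup (p := r) (G := S) ⟨t, htP⟩
      refine ⟨i + j, Subtype.ext ?_⟩
      have e1 : QuotientGroup.mk' Q (k ^ r ^ i) = QuotientGroup.mk' Q t := by
        rw [← he, map_mul, show QuotientGroup.mk' Q q = 1 from (QuotientGroup.eq_one_iff q).mpr hqQ,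
          one_mul]
      show (QuotientGroup.mk' Q k) ^ r ^ (i + j) = 1
      rw [pow_add, pow_mul, ← map_pow, e1, ← map_pow,
        show t ^ r ^ j = 1 from congrArg Subtype.val hj, map_one]
    haveI : Group.IsNilpotent (K.map (QuotientGroup.mk' Q)) := hKp.isNilpotent
    have hKn : Group.IsNilpotent K := by
      refine Subgroup.isNilpotent_of_ker_le_center ((QuotientGroup.mk' Q).subgroupMap K) ?_
      intro k hk
      refine mem_center_iff.mpr fun l => Subtype.ext ?_
      exact (mem_centralizer_iff.mp l.2.2 _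
        ((QuotientGroup.eq_one_iff _).mp (congrArg Subtype.val hk))).symm
    exact Fitting.le_fittingSubgroup hKn ⟨hyD, hyQ⟩
  -- glue the primary parts
  have hidx : (zpowers x).relIndex (zpowers x ⊓ F) = 1 := relIndex_eq_one.mpr inf_le_left
  suffices h : F.relIndex (zpowers x) = 1 from relIndex_eq_one.mp h (mem_zpowers x)
  refine Nat.eq_one_iff_not_exists_prime_dvd.mpr fun r hr hdvd => ?_
  haveI := Fact.mk hr
  obtain ⟨a, m, hm, ham⟩ := Nat.exists_eq_pow_mul_and_not_dvd (orderOf_pos x).ne' r hr.ne_one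
  have hym : x ^ m ∈ F := key r hr _ (pow_mem hx m) ⟨a, by
    rw [orderOf_pow_of_dvd (by rintro rfl; exact hm (dvd_zero r)) (ham ▸ dvd_mul_left m (r ^ a)),
      ham, Nat.mul_div_cancel _ (Nat.pos_of_ne_zero (by rintro rfl; exact hm (dvd_zero r)))]⟩
  have h1 : zpowers (x ^ m) ≤ F ⊓ zpowers x :=
    le_inf (zpowers_le.mpr hym) (zpowers_le.mpr (pow_mem (mem_zpowers x) m))
  have h2 : F.relIndex (zpowers x) ∣ (zpowers (x ^ m)).relIndex (zpowers x) := by
    rw [← inf_relIndex_right F (zpowers x)]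
    exact relIndex_dvd_of_le_left _ h1
  have h3 : Nat.card (zpowers (x ^ m)) * (zpowers (x ^ m)).relIndex (zpowers x) =
      Nat.card (zpowers x) := PSolvable.card_mul_relIndex (h1.trans inf_le_right)
  rw [Nat.card_zpowers, Nat.card_zpowers,
    orderOf_pow_of_dvd (by rintro rfl; exact hm (dvd_zero r)) (ham ▸ dvd_mul_left m (r ^ a)),
    ham, Nat.mul_div_cancel _ (Nat.pos_of_ne_zero (by rintro rfl; exact hm (dvd_zero r)))] at h3
  have h4 := Nat.eq_of_mul_eq_mul_left (Nat.pow_pos hr.pos) h3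
  exact hm (h4 ▸ hdvd.trans h2)

/-- The case `O_{π'}(S) = 1`. -/
theorem centralizer_le_of_core_bot [Group.IsSolvable S] (π : Set ℕ) (h2 : 2 ∉ π) (h3 : 3 ∉ π)
    (H : Subgroup S) (hH : Cfsg.IsPiHall π H) (hO : Cfsg.piCore πᶜ S = ⊥)
    (A : Subgroup S) (hA : Cfsg.IsSCN ((Cfsg.fittingSubgroup H).map H.subtype) A) :
    centralizer (A : Set S) ≤ A := by
  set FH := (Cfsg.fittingSubgroup H).map H.subtype
  have hFn := Fitting.fittingSubgroup_normal (G := S)
  have hcore : ∀ r : Nat.Primes, (r : ℕ) ∉ π → Cfsg.pCore (r : ℕ) S = ⊥ := by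
    intro r hr
    haveI := Fact.mk r.2
    rw [eq_bot_iff, ← hO]
    refine PiCore.le_piCore ?_
    obtain ⟨j, hj⟩ := (PSolvable.pCore_isPGroup (p := (r : ℕ)) (G := S)).exists_card_eq
    rw [hj]
    exact Hall.isPiNumber_pow_prime r.2 hr j
  have hFH : Cfsg.fittingSubgroup S ≤ FH := by
    have hle : Cfsg.fittingSubgroup S ≤ H := by
      rw [Fitting.fittingSubgroup_eq_iSup_pCore]
      refine iSup_le fun r => ?_
      haveI := Fact.mk r.2
      by_cases hr : (r : ℕ) ∈ π
      · refine Hall.le_isPiHall_of_normal hH ?_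
        obtain ⟨j, hj⟩ := (PSolvable.pCore_isPGroup (p := (r : ℕ)) (G := S)).exists_card_eq
        rw [hj]
        exact Hall.isPiNumber_pow_prime r.2 hr j
      · rw [hcore r hr]; exact bot_le
    rw [← map_subgroupOf_eq_of_le hle]
    refine map_mono (Fitting.le_fittingSubgroup ?_)
    haveI := Fitting.isNilpotent_fittingSubgroup (G := S)
    exact Group.nilpotent_of_surjective (subgroupOfEquivOfLe hle).symm.toMonoidHom
      (MulEquiv.surjective _)
  have hC : centralizer (A : Set S) ≤ Cfsg.fittingSubgroup S := by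
    refine le_fitting_of_quadratic _ (fun r => ?_) fun r x hx => ?_
    · by_cases hr : (r : ℕ) ∈ π
      · left
        by_contra h
        have h2' := r.2.two_le
        have hp := r.2
        interval_cases hh : (r : ℕ) <;> first | exact absurd hr h2 | exact absurd hr h3 | norm_num at hp
      · exact Or.inr (hcore r hr)
    · haveI := Fact.mk r.2
      set P := Cfsg.pCore (r : ℕ) S
      have hPFH : P ≤ FH := (Fitting.pCore_le_fittingSubgroup (r : ℕ)).trans hFH
      have hAx : ⁅A, zpowers x⁆ = ⊥ :=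
        commutator_eq_bot_iff_le_centralizer.mpr (le_centralizer_iff.mp (zpowers_le.mpr hx))
      have h1 : ⁅⁅A, P⁆, zpowers x⁆ = ⊥ :=
        le_bot_iff.mp ((commutator_mono (le_normalizer_iff_commutator_le_left.mp
          (hPFH.trans hA.2.1)) le_rfl).trans hAx.le)
      have h2 : ⁅⁅zpowers x, A⁆, P⁆ = ⊥ := by
        rw [commutator_comm (zpowers x) A, hAx, commutator_bot_left]
      have h3 : ⁅⁅P, zpowers x⁆, A⁆ = ⊥ := commutator_commutator_eq_bot_of_rotate h2 h1
      have h4 : ⁅P, zpowers x⁆ ≤ A := (le_inf ((commutator_le_left ..).trans hPFH)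
        (commutator_eq_bot_iff_le_centralizer.mp h3)).trans hA.2.2.le
      exact le_bot_iff.mp ((commutator_mono h4 le_rfl).trans hAx.le)
  exact (le_inf (hC.trans hFH) le_rfl).trans hA.2.2.le


/-- Let S be a finite solvable group, π a set of primes containing neither 2 nor 3, H a Hall π-subgroup of S, and A a self-centralizing normal subgroup of the Fitting subgroup F(H). Then C_S(A) = A × D for a normal subgroup D of C_S(A) whose order has no prime divisor in π. -/
theorem result {S : Type*} [Group S] [Finite S] [Group.IsSolvable S]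
    (π : Set ℕ) (h2 : 2 ∉ π) (h3 : 3 ∉ π) (H : Subgroup S) (hH : Cfsg.IsPiHall π H)
    (A : Subgroup S) (hA : Cfsg.IsSCN ((Cfsg.fittingSubgroup H).map H.subtype) A) :
    ∃ D : Subgroup S, D ≤ Subgroup.centralizer (A : Set S) ∧
      (∀ c ∈ Subgroup.centralizer (A : Set S), ∀ d ∈ D, c * d * c⁻¹ ∈ D) ∧
      A ⊓ D = ⊥ ∧ A ⊔ D = Subgroup.centralizer (A : Set S) ∧
      ∀ q : ℕ, q.Prime → q ∣ Nat.card D → q ∉ π := by
  set O := Cfsg.piCore πᶜ S
  haveI := PiCore.piCore_characteristic (G := S) (π := πᶜ)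
  haveI : O.Normal := inferInstance
  set q := QuotientGroup.mk' O
  have hHO : ∀ x ∈ H, x ∈ O → x = 1 := by
    intro x hx hxO
    have h : Hall.IsPiNumber π (Nat.card ↥(H ⊓ O : Subgroup S)) :=
      Hall.isPiNumber_card_of_le inf_le_left hH.1
    have h' : Hall.IsPiNumber πᶜ (Nat.card ↥(H ⊓ O : Subgroup S)) :=
      Hall.isPiNumber_card_of_le inf_le_right PiCore.isPiNumber_piCore
    have h1 := Hall.IsPiNumber.eq_one h h'
    have : x ∈ H ⊓ O := ⟨hx, hxO⟩
    rwa [card_eq_one.mp h1, mem_bot] at this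
  let e : H ≃* H.map q := MulEquiv.ofBijective (q.subgroupMap H)
    ⟨(injective_iff_map_eq_one _).mpr fun x hx => Subtype.ext
      (hHO x x.2 ((QuotientGroup.eq_one_iff _).mp (congrArg Subtype.val hx))),
      q.subgroupMap_surjective H⟩
  have hFimg : (Cfsg.fittingSubgroup (H.map q)).map (H.map q).subtype =
      ((Cfsg.fittingSubgroup H).map H.subtype).map q := by
    rw [← Fitting.map_fittingSubgroup_equiv e, map_map, map_map]
    rfl
  set FH := (Cfsg.fittingSubgroup H).map H.subtype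
  have hFHH : FH ≤ H := map_subtype_le _
  have hAH : A ≤ H := hA.1.trans hFHH
  have hSCN : Cfsg.IsSCN ((Cfsg.fittingSubgroup (H.map q)).map (H.map q).subtype) (A.map q) := by
    rw [hFimg]
    refine ⟨map_mono hA.1, (map_mono hA.2.1).trans (le_normalizer_map _), ?_⟩
    refine le_antisymm ?_ ?_
    · rintro _ ⟨⟨f, hf, rfl⟩, hfc⟩
      refine ⟨f, hA.2.2.le ⟨hf, mem_centralizer_iff.mpr fun a ha => ?_⟩, rfl⟩
      have h1 := mem_centralizer_iff.mp hfc (q a) (mem_map_of_mem q ha)
      rw [← map_mul, ← map_mul] at h1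
      exact mul_inv_eq_one.mp (hHO _ (mul_mem (mul_mem (hAH ha) (hFHH hf))
        (H.inv_mem (mul_mem (hFHH hf) (hAH ha)))) ((QuotientGroup.eq_one_iff _).mp
          (by show q _ = 1; rw [map_mul, map_inv, h1, mul_inv_cancel])))
    · rintro _ ⟨a, ha, rfl⟩
      refine ⟨mem_map_of_mem q (hA.1 ha), mem_centralizer_iff.mpr ?_⟩
      rintro _ ⟨b, hb, rfl⟩
      rw [← map_mul, ← map_mul, mem_centralizer_iff.mp (hA.2.2.ge ha).2 b hb]
  have hle := centralizer_le_of_core_bot π h2 h3 (H.map q)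
    (Hall.isPiHall_map hH (QuotientGroup.mk'_surjective O)) PiCore.piCore_quotient_eq_bot
    (A.map q) hSCN
  refine ⟨centralizer (A : Set S) ⊓ O, inf_le_left, fun c hc d hd =>
    ⟨(centralizer (A : Set S)).mul_mem ((centralizer (A : Set S)).mul_mem hc hd.1) ((centralizer (A : Set S)).inv_mem hc), Normal.conj_mem inferInstance d hd.2 c⟩, ?_, ?_,
    fun r hr hd => ?_⟩
  · rw [eq_bot_iff]
    rintro a ⟨ha, -, haO⟩
    exact mem_bot.mpr (hHO a (hAH ha) haO)
  · refine le_antisymm (sup_le (fun a ha => (hA.2.2.ge ha).2) inf_le_left) fun c hc => ?_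
    have h1 : q c ∈ centralizer ((A.map q : Subgroup _) : Set (S ⧸ O)) := by
      refine mem_centralizer_iff.mpr ?_
      rintro _ ⟨b, hb, rfl⟩
      rw [← map_mul, ← map_mul, mem_centralizer_iff.mp hc b hb]
    obtain ⟨a, ha, hac⟩ := hle h1
    rw [show c = a * (a⁻¹ * c) by group]
    refine mul_mem (mem_sup_left ha) (mem_sup_right ⟨(centralizer (A : Set S)).mul_mem ((centralizer (A : Set S)).inv_mem (mem_inf.mp (hA.2.2.ge ha)).2) hc, ?_⟩)
    exact QuotientGroup.eq.mp hac
  · exact Hall.isPiNumber_card_of_le inf_le_right PiCore.isPiNumber_piCore r hr hd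

end Cfsg.Agent.S1893
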