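import Cfsg.Statements.S1894
import Mathlib
-- import your own Cfsg.Agent.* helpers here

set_option autoImplicit false
open Cfsg

namespace Cfsg.Agent.S1894

/-- Let P be a finite p-group, A a normal subgroup of P and B an abelian subgroup of A that is normal in P. Then some subgroup C of A containing B is normal in P and is self-centralizing and normal in A (C ∈ SCN(A)). -/
theorem result {P : Type*} [Group P] [Finite P] {p : ℕ} [Fact p.Prime] (hP : IsPGroup p P)
    (A : Subgroup P) [A.Normal] (B : Subgroup P) [B.Normal] (hBA : B ≤ A) (hB : IsMulCommutative B) :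
    ∃ C : Subgroup P, C.Normal ∧ B ≤ C ∧ Cfsg.IsSCN A C := by
  classical
  let S : Set (Subgroup P) := {C | C.Normal ∧ B ≤ C ∧ C ≤ A ∧ IsMulCommutative C}
  have hne : S.Nonempty := ⟨B, inferInstance, le_rfl, hBA, hB⟩
  obtain ⟨C, ⟨hCn, hBC, hCA, hCc⟩, hmax⟩ := S.toFinite.exists_maximal hne
  refine ⟨C, hCn, hBC, hCA, ?_, ?_⟩
  · rw [Subgroup.normalizer_eq_top]; exact le_top
  haveI := hCn
  set D := A ⊓ Subgroup.centralizer (C : Set P) with hDdef
  have hcn : (Subgroup.centralizer (C : Set P)).Normal := Subgroup.normal_centralizer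
  haveI : D.Normal := Subgroup.normal_inf_normal A _
  have hCD : C ≤ D := le_inf hCA (fun x hx => Subgroup.mem_centralizer_iff.mpr
    fun y hy => congrArg Subtype.val (hCc.is_comm.comm ⟨y, hy⟩ ⟨x, hx⟩))
  refine le_antisymm ?_ hCD
  by_contra hlt
  -- a nontrivial fixed point of the P-group P/C in the image of D
  let π := QuotientGroup.mk' C
  haveI : (D.map π).Normal := Subgroup.Normal.map inferInstance π (QuotientGroup.mk'_surjective C)
  have hne' : D.map π ≠ ⊥ := by
    rw [Ne, Subgroup.map_eq_bot_iff, QuotientGroup.ker_mk']; exact hlt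
  have hQ : IsPGroup p (P ⧸ C) := hP.to_quotient C
  obtain ⟨q, ⟨hqD, hqZ⟩, hq1⟩ : ∃ q ∈ D.map π ⊓ Subgroup.center (P ⧸ C), q ≠ 1 := by
    set N := D.map π with hN
    have hdvd : p ∣ Nat.card N := by
      obtain ⟨k, hk⟩ := IsPGroup.iff_card.mp (hQ.to_subgroup N)
      rcases k with _ | k
      · exact absurd (Subgroup.card_eq_one.mp (by rw [hk, pow_zero])) hne'
      · rw [hk]; exact dvd_pow_self p (by omega)
    have h1 : (1 : N) ∈ MulAction.fixedPoints (ConjAct (P ⧸ C)) N := fun g => smul_one g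
    obtain ⟨b, hb, hb1⟩ := (hQ.of_equiv ConjAct.toConjAct).exists_fixed_point_of_prime_dvd_card_of_fixed_point
      (N : Subgroup (P ⧸ C)) hdvd h1
    refine ⟨(b : P ⧸ C), ⟨b.2, Subgroup.mem_center_iff.mpr fun g => ?_⟩, fun h => hb1 (Subtype.ext h.symm)⟩
    have := congrArg Subtype.val (hb (ConjAct.toConjAct g))
    rw [ConjAct.Subgroup.val_conj_smul, ConjAct.toConjAct_smul, mul_inv_eq_iff_eq_mul] at this
    exact this
  obtain ⟨d, hd, rfl⟩ := hqD
  set C' := C ⊔ Subgroup.zpowers d with hC'
  have hC'n : C'.Normal := by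
    have : C' = (Subgroup.zpowers (π d)).comap π := by
      rw [hC', ← MonoidHom.map_zpowers, Subgroup.comap_map_eq, QuotientGroup.ker_mk', sup_comm]
    rw [this]
    haveI : (Subgroup.zpowers (π d)).Normal := by
      refine ⟨fun x hx g => ?_⟩
      obtain ⟨n, rfl⟩ := hx
      have hc : π d ^ n ∈ Subgroup.center (P ⧸ C) := Subgroup.zpow_mem _ hqZ n
      rw [Subgroup.mem_center_iff.mp hc g]
      simp [Subgroup.mem_zpowers_iff]
    infer_instance
  have hC'A : C' ≤ A := sup_le hCA ((Subgroup.zpowers_le).mpr hd.1)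
  have hcomm : IsMulCommutative C' := by
    have h1 : ∀ x ∈ C, ∀ y ∈ C, x * y = y * x := fun x hx y hy =>
      congrArg Subtype.val (hCc.is_comm.comm ⟨x, hx⟩ ⟨y, hy⟩)
    have h2 : C' ≤ Subgroup.centralizer (C' : Set P) := by
      rw [hC']
      rw [Subgroup.le_centralizer_iff]
      refine sup_le ?_ ?_
      · rw [Subgroup.le_centralizer_iff]
        refine sup_le (fun x hx => Subgroup.mem_centralizer_iff.mpr fun y hy => h1 y hy x hx) ?_
        exact (Subgroup.zpowers_le).mpr hd.2
      · rw [Subgroup.zpowers_le, Subgroup.mem_centralizer_iff]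
        intro x hx
        have : Subgroup.zpowers d ⊔ C ≤ Subgroup.centralizer ({d} : Set P) := by
          refine sup_le ((Subgroup.zpowers_le).mpr (Subgroup.mem_centralizer_iff.mpr
            (by simp))) fun y hy => Subgroup.mem_centralizer_iff.mpr ?_
          rintro _ rfl
          exact (Subgroup.mem_centralizer_iff.mp hd.2 y hy).symm
        rw [sup_comm] at hx
        exact (Subgroup.mem_centralizer_iff.mp (this hx) d rfl).symm
    exact ⟨⟨fun x y => Subtype.ext (Subgroup.mem_centralizer_iff.mp (h2 y.2) x x.2)⟩⟩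
  have hle : C' ≤ C := hmax ⟨hC'n, hBC.trans le_sup_left, hC'A, hcomm⟩ le_sup_left
  apply hq1
  exact (QuotientGroup.eq_one_iff d).mpr (hle ((le_sup_right : Subgroup.zpowers d ≤ C') (Subgroup.mem_zpowers d)))

end Cfsg.Agent.S1894
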