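import Cfsg.Agent.Lib.UThreeThree.Embed
import Cfsg.Statements.S1897

set_option autoImplicit false
open Cfsg

namespace Cfsg.Agent.S1897

/-- The projective special unitary group PSU₃(3) (realised over the field with 9 elements) has a subgroup isomorphic to PSL₂(7). -/
theorem result {F : Type*} [Field F] [Fintype F] (hF : Fintype.card F = 9)
    {K : Type*} [Field K] [Fintype K] (hK : Fintype.card K = 7) :
    ∃ H : Subgroup (Cfsg.PSU 3 F 3), Nonempty (H ≃* Matrix.ProjectiveSpecialLinearGroup (Fin 2) K) := by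
  obtain ⟨H, ⟨e⟩⟩ := Cfsg.Agent.Lib.UThreeThree.exists_subgroup
  set ψ : Cfsg.PSU 3 Cfsg.Agent.Lib.UThreeThree.Nine 3 ≃* Cfsg.PSU 3 F 3 := Cfsg.Agent.Lib.PSUThreeTwo.psuMap
    (FiniteField.ringEquivOfCardEq (Cfsg.Agent.Lib.UThreeThree.card_nine.trans hF.symm))
  let φ : ZMod 7 ≃+* K := ZMod.ringEquivOfPrime K (by norm_num) hK
  let σ : Matrix.SpecialLinearGroup (Fin 2) (ZMod 7) ≃* Matrix.SpecialLinearGroup (Fin 2) K :=
    { toFun := Matrix.SpecialLinearGroup.map φ.toRingHom
      invFun := Matrix.SpecialLinearGroup.map φ.symm.toRingHom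
      left_inv := fun g => Subtype.ext (Matrix.ext fun i j => φ.symm_apply_apply _)
      right_inv := fun g => Subtype.ext (Matrix.ext fun i j => φ.apply_symm_apply _)
      map_mul' := map_mul _ }
  have χ : Matrix.ProjectiveSpecialLinearGroup (Fin 2) (ZMod 7) ≃* Matrix.ProjectiveSpecialLinearGroup (Fin 2) K :=
    QuotientGroup.congr _ _ σ (Cfsg.Agent.Lib.PSUThreeTwo.map_center_eq σ)
  exact ⟨H.map ψ.toMonoidHom, ⟨((ψ.subgroupMap H).symm.trans e).trans χ⟩⟩

end Cfsg.Agent.S1897
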