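import Cfsg.Statements.S1898
import Mathlib
-- import your own Cfsg.Agent.* helpers here

set_option autoImplicit false
open Cfsg
open scoped commutatorElement

namespace Cfsg.Agent.S1898

/-- Let X be a finite 2-group whose derived subgroup is elementary abelian and central. Then the subgroup generated by the elements of order dividing 4 has exponent dividing 4, and every automorphism of X fixing each element of order dividing 4 has 2-power order. -/
theorem result {X : Type*} [Group X] [Finite X] (hX : IsPGroup 2 X)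
    (hel : Cfsg.IsElementaryAbelian 2 (commutator X)) (hcen : commutator X ≤ Subgroup.center X) :
    (∀ x ∈ Subgroup.closure {g : X | g ^ 4 = 1}, x ^ 4 = 1) ∧
      ∀ φ : MulAut X, (∀ g : X, g ^ 4 = 1 → φ g = g) → ∃ k : ℕ, φ ^ (2 ^ k) = 1 := by
  classical
  have hc2 : ∀ a b : X, ⁅a, b⁆ ^ 2 = 1 := fun a b =>
    hel.2 _ (Subgroup.commutator_mem_commutator (Subgroup.mem_top a) (Subgroup.mem_top b))
  have hcc : ∀ a b x : X, Commute ⁅a, b⁆ x := fun a b x =>
    (Subgroup.mem_center_iff.mp
      (hcen (Subgroup.commutator_mem_commutator (Subgroup.mem_top a) (Subgroup.mem_top b))) x).symm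
  have hsq : ∀ a b : X, (a * b) ^ 2 = ⁅b, a⁆ * (a ^ 2 * b ^ 2) := by
    intro a b
    have h : ⁅b, a⁆ * a = a * ⁅b, a⁆ := (hcc b a a).eq
    calc (a * b) ^ 2 = a * (⁅b, a⁆ * a) * b * b := by
          rw [pow_two, commutatorElement_def]; group
      _ = (a * a) * ⁅b, a⁆ * b * b := by rw [h]; group
      _ = ⁅b, a⁆ * (a * a) * b * b := by rw [((hcc b a (a * a))).eq]
      _ = _ := by rw [pow_two, pow_two]; group
  have hsqc : ∀ a x : X, Commute (a ^ 2) x := by
    intro a x
    have h1 : x * a = ⁅x, a⁆ * (a * x) := by rw [commutatorElement_def]; group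
    have h2 : x * a ^ 2 = ⁅x, a⁆ * ⁅x, a⁆ * (a ^ 2 * x) := by
      calc x * a ^ 2 = (x * a) * a := by rw [pow_two]; group
        _ = ⁅x, a⁆ * a * (x * a) := by rw [h1]; group
        _ = ⁅x, a⁆ * (a * ⁅x, a⁆) * (a * x) := by rw [h1]; group
        _ = ⁅x, a⁆ * (⁅x, a⁆ * a) * (a * x) := by rw [(hcc x a a).eq]
        _ = _ := by rw [pow_two]; group
    rw [← pow_two ⁅x, a⁆, hc2, one_mul] at h2
    exact h2.symm
  have h4 : ∀ a b : X, (a * b) ^ 4 = a ^ 4 * b ^ 4 := by
    intro a b
    rw [show (4 : ℕ) = 2 * 2 from rfl, pow_mul, pow_mul, pow_mul, hsq, (hcc b a _).mul_pow, hc2, one_mul,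
      (hsqc a _).mul_pow]
  refine ⟨fun x hx => ?_, fun φ hφ => ?_⟩
  · induction hx using Subgroup.closure_induction with
    | mem y hy => exact hy
    | one => simp
    | mul a b _ _ ha hb => rw [h4, ha, hb, one_mul]
    | inv a _ ha => rw [inv_pow, ha, inv_one]
  · obtain ⟨a, b, hb, hab⟩ : ∃ a b, ¬ 2 ∣ b ∧ orderOf φ = 2 ^ a * b :=
      ⟨(orderOf φ).factorization 2, orderOf φ / 2 ^ (orderOf φ).factorization 2,
        Nat.not_dvd_ordCompl Nat.prime_two (orderOf_pos φ).ne', (Nat.ordProj_mul_ordCompl_eq_self _ 2).symm⟩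
    refine ⟨a, ?_⟩
    set ψ := φ ^ (2 ^ a) with hψ
    have hψb : ψ ^ b = 1 := by rw [hψ, ← pow_mul, ← hab, pow_orderOf_eq_one]
    have happ : ∀ (u v : MulAut X) (x : X), (u * v) x = u (v x) := fun _ _ _ => rfl
    have hψ4 : ∀ g : X, g ^ 4 = 1 → ψ g = g := by
      intro g hg
      rw [hψ]
      induction (2 ^ a) with
      | zero => rfl
      | succ j ih => rw [pow_succ', happ, ih, hφ g hg]
    ext x
    show ψ x = x
    induction hn : orderOf x using Nat.strong_induction_on generalizing x with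
    | _ n ih =>
      by_cases hx4 : x ^ 4 = 1
      · exact hψ4 x hx4
      have hx2 : ψ (x ^ 2) = x ^ 2 := by
        refine ih _ ?_ _ rfl
        rw [← hn, orderOf_pow]
        have hev : 2 ∣ orderOf x := by
          obtain ⟨k, hk⟩ := IsPGroup.iff_orderOf.mp hX x
          rcases k with _ | k
          · rw [pow_zero, orderOf_eq_one_iff] at hk; exact absurd (by simp [hk]) hx4
          · rw [hk, pow_succ]; exact Dvd.intro_left _ rfl
        rw [Nat.gcd_eq_right hev]
        exact Nat.div_lt_self (orderOf_pos x) one_lt_two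
      set c := x⁻¹ * ψ x with hc
      have hxc : ψ x = x * c := by rw [hc]; group
      have h1 : ⁅c, x⁆ * c ^ 2 = 1 := by
        have h : (x * c) ^ 2 = x ^ 2 := by rw [← hxc, ← map_pow, hx2]
        rw [hsq, ← mul_assoc, (hcc c x (x ^ 2)).eq, mul_assoc] at h
        exact mul_eq_left.mp h
      have hc4 : c ^ 4 = 1 := by
        have h2 : c ^ 2 = ⁅c, x⁆⁻¹ := eq_inv_of_mul_eq_one_right h1
        rw [show (4 : ℕ) = 2 * 2 from rfl, pow_mul, h2, inv_pow, hc2, inv_one]
      have hiter : ∀ j : ℕ, (ψ ^ j) x = x * c ^ j := by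
        intro j
        induction j with
        | zero => simp
        | succ j ihj => rw [pow_succ', happ, ihj, map_mul, map_pow, hψ4 c hc4, hxc, mul_assoc, pow_succ']
      have h3 := hiter b
      rw [hψb] at h3
      have hcb : c ^ b = 1 := mul_eq_left.mp h3.symm
      have hc1 : c = 1 := orderOf_eq_one_iff.mp <| Nat.eq_one_of_dvd_coprimes
        (show Nat.Coprime b (2 ^ 2) from Nat.Coprime.pow_right 2
          ((Nat.Prime.coprime_iff_not_dvd Nat.prime_two).mpr hb).symm)
        (orderOf_dvd_of_pow_eq_one hcb) (orderOf_dvd_of_pow_eq_one hc4)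
      rw [hxc, hc1, mul_one]

end Cfsg.Agent.S1898
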