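import Cfsg.Statements.S1899
import Mathlib
-- import your own Cfsg.Agent.* helpers here

set_option autoImplicit false
open Cfsg

namespace Cfsg.Agent.S1899

/-- Let a dihedral group of order 2n, n odd and n > 1, act on a finite abelian 2-group A through automorphisms d and t with d^n = 1, t² = 1 and t d t⁻¹ = d⁻¹, and suppose that d fixes only the identity. Then A is the internal direct product of C_A(t) and its image under d. -/
theorem result {A : Type*} [CommGroup A] [Finite A] (hA : IsPGroup 2 A)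
    {n : ℕ} (hn : Odd n) (hn1 : 1 < n) (d t : MulAut A) (hd : d ^ n = 1) (ht : t ^ 2 = 1) (hdt : t * d * t⁻¹ = d⁻¹)
    (hfix : ∀ a : A, d a = a → a = 1) :
    (MulEquiv.toMonoidHom t).eqLocus (MonoidHom.id A) ⊓ ((MulEquiv.toMonoidHom t).eqLocus (MonoidHom.id A)).map d.toMonoidHom = ⊥ ∧
      (MulEquiv.toMonoidHom t).eqLocus (MonoidHom.id A) ⊔ ((MulEquiv.toMonoidHom t).eqLocus (MonoidHom.id A)).map d.toMonoidHom = ⊤ := by
  have happ : ∀ (u v : MulAut A) (x : A), (u * v) x = u (v x) := fun _ _ _ => rfl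
  have htd : ∀ x, t (d x) = d⁻¹ (t x) := fun x => by
    have h : t * d = d⁻¹ * t := by rw [← hdt]; group
    rw [← happ, h, happ]
  have hdd : ∀ x, d (d⁻¹ x) = x := fun x => by rw [← happ, mul_inv_cancel]; rfl
  have hdd' : ∀ x, d⁻¹ (d x) = x := fun x => by rw [← happ, inv_mul_cancel]; rfl
  have htt : ∀ x, t (t x) = x := fun x => by rw [← happ, ← pow_two, ht]; rfl
  have htd' : ∀ x, t (d⁻¹ x) = d (t x) := fun x => by
    have h := htd (d⁻¹ x); rw [hdd] at h; rw [h, hdd]
  set C := (MulEquiv.toMonoidHom t).eqLocus (MonoidHom.id A) with hC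
  have hmemC : ∀ x, x ∈ C ↔ t x = x := fun x => Iff.rfl
  refine ⟨?_, ?_⟩
  · rw [eq_bot_iff]
    rintro y ⟨hy, a, ha, rfl⟩
    have h1 : t (d a) = d a := hy
    rw [htd, (hmemC a).mp ha] at h1
    have h2 : (d ^ 2) a = a := by rw [pow_two, happ, ← h1, hdd]
    have h3 : ∀ j : ℕ, (d ^ (2 * j)) a = a := by
      intro j
      induction j with
      | zero => rfl
      | succ j ih => rw [Nat.mul_succ, pow_add, happ, h2, ih]
    obtain ⟨j, hj⟩ := hn
    have h4 : d a = a := by
      calc d a = d ((d ^ (2 * j)) a) := by rw [h3]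
        _ = (d ^ n) a := by rw [hj, pow_succ', happ]
        _ = a := by rw [hd]; rfl
    rw [hfix a h4]; simp
  · set V := C ⊔ C.map d.toMonoidHom with hV
    have hdV : V.map d.toMonoidHom ≤ V := by
      rw [hV, Subgroup.map_sup]
      refine sup_le le_sup_right ?_
      rintro _ ⟨_, ⟨a, ha, rfl⟩, rfl⟩
      have hm : d a * d⁻¹ a ∈ C := by
        rw [hmemC, map_mul, htd, htd', (hmemC a).mp ha, mul_comm]
      have h5 : d (d a) = d (d a * d⁻¹ a) * a⁻¹ := by
        rw [map_mul, hdd, mul_inv_cancel_right]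
      show d (d a) ∈ V
      rw [h5]
      exact V.mul_mem (le_sup_right (a := C) ⟨_, hm, rfl⟩)
        (le_sup_left (b := C.map d.toMonoidHom) (C.inv_mem ha))
    have hdpow : ∀ (j : ℕ) (x : A), x ∈ V → (d ^ j) x ∈ V := by
      intro j
      induction j with
      | zero => intro x hx; exact hx
      | succ j ih => intro x hx; rw [pow_succ', happ]; exact hdV ⟨_, ih x hx, rfl⟩
    have hdet : ∀ j : ℕ, ∀ x, t ((d ^ j) x) = (d⁻¹ ^ j) (t x) := by
      intro j
      induction j with
      | zero => intro x; rfl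
      | succ j ih => intro x; rw [pow_succ', happ, htd, ih, pow_succ', happ]
    -- every `d^(2i) t`-symmetrisation of `x` lies in `V`
    have hsym : ∀ (i : ℕ) (x : A), x * (d ^ (2 * i)) (t x) ∈ V := by
      intro i x
      set y := (d⁻¹ ^ i) x with hy
      have hx : (d ^ i) y = x := by
        rw [hy, ← happ, inv_pow, mul_inv_cancel]; rfl
      have hm : y * t y ∈ C := by rw [hmemC, map_mul, htt, mul_comm]
      have h6 : (d ^ i) (y * t y) = x * (d ^ (2 * i)) (t x) := by
        have : t y = (d ^ i) (t x) := by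
          rw [hy, inv_pow]
          have h := hdet i ((d ^ i)⁻¹ x)
          rw [← happ (d ^ i) ((d ^ i)⁻¹) x, mul_inv_cancel, show (1 : MulAut A) x = x from rfl, inv_pow] at h
          rw [h, ← happ (d ^ i) ((d ^ i)⁻¹), mul_inv_cancel]; rfl
        rw [map_mul, hx, this, two_mul, pow_add, happ]
      rw [← h6]
      exact hdpow i _ (le_sup_left (b := C.map d.toMonoidHom) hm)
    rw [eq_top_iff]
    intro x _
    have hd2 : ∏ i ∈ Finset.range n, (d ^ (2 * i)) (t x) = 1 := by
      apply hfix
      obtain ⟨j, hj⟩ := hn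
      have hs : ∀ i : ℕ, (d ^ 2) ((d ^ (2 * i)) (t x)) = (d ^ (2 * (i + 1))) (t x) := fun i => by
        rw [← happ, ← pow_add, show 2 + 2 * i = 2 * (i + 1) by ring]
      have h2 : (d ^ 2) (∏ i ∈ Finset.range n, (d ^ (2 * i)) (t x))
          = ∏ i ∈ Finset.range n, (d ^ (2 * i)) (t x) := by
        rw [map_prod, Finset.prod_congr rfl fun i _ => hs i]
        have h := Finset.prod_range_succ' (fun i => (d ^ (2 * i)) (t x)) n
        have h' := Finset.prod_range_succ (fun i => (d ^ (2 * i)) (t x)) n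
        rw [h] at h'
        have hn2 : (d ^ (2 * n)) (t x) = (d ^ (2 * 0)) (t x) := by
          rw [mul_comm 2 n, pow_mul, hd, one_pow, Nat.mul_zero, pow_zero]
        simp only [hn2] at h'
        exact mul_right_cancel h'
      set z := ∏ i ∈ Finset.range n, (d ^ (2 * i)) (t x) with hz
      have h3 : ∀ k : ℕ, (d ^ (2 * k)) z = z := by
        intro k
        induction k with
        | zero => rfl
        | succ k ih => rw [Nat.mul_succ, pow_add, happ, h2, ih]
      calc d z = d ((d ^ (2 * j)) z) := by rw [h3]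
        _ = (d ^ n) z := by rw [hj, pow_succ', happ]
        _ = z := by rw [hd]; rfl
    have hxn : x ^ n ∈ V := by
      have := V.prod_mem (t := Finset.range n) (f := fun i => x * (d ^ (2 * i)) (t x))
        fun i _ => hsym i x
      rwa [Finset.prod_mul_distrib, hd2, Finset.prod_const, Finset.card_range, mul_one] at this
    have hcop : (Nat.card A).Coprime n := by
      obtain ⟨k, hk⟩ := IsPGroup.iff_card.mp hA
      rw [hk]; exact Nat.Coprime.pow_left k (Nat.coprime_two_left.mpr hn)
    obtain ⟨m, hm⟩ := exists_pow_eq_self_of_coprime (G := A) (x := x) (n := n)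
      (hcop.coprime_dvd_left (orderOf_dvd_natCard x)).symm
    rw [← hm]; exact V.pow_mem hxn m

end Cfsg.Agent.S1899
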