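import Cfsg.Statements.S1900
import Mathlib
import Cfsg.Agent.Lib.KBalance.Basic
import Cfsg.Agent.Lib.Coprime.Quotient

set_option autoImplicit false
open Cfsg
open scoped commutatorElement
open Cfsg.Agent.Lib

namespace Cfsg.Agent.S1900

/-- Let S = PQ be a finite group with P a normal Sylow p-subgroup and Q elementary abelian of order q², q a prime different from p. If exactly two subgroups X₁, X₂ of order q in Q have a nontrivial centralizer in P, then P is the internal direct product of C_P(X₁) and C_P(X₂): they commute elementwise, meet trivially and generate P. -/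
theorem result {S : Type*} [Group S] [Finite S] {p q : ℕ} [Fact p.Prime] [Fact q.Prime] (hpq : p ≠ q)
    (P : Sylow p S) [(P : Subgroup S).Normal] (Q : Subgroup S) (hQ : Cfsg.IsElementaryAbelian q Q) (hQc : Nat.card Q = q ^ 2)
    (hS : (P : Subgroup S) ⊔ Q = ⊤)
    (X₁ X₂ : Subgroup S) (h₁ : X₁ ≤ Q) (h₂ : X₂ ≤ Q) (h₁₂ : X₁ ≠ X₂) (hc₁ : Nat.card X₁ = q) (hc₂ : Nat.card X₂ = q)
    (hf₁ : (P : Subgroup S) ⊓ Subgroup.centralizer (X₁ : Set S) ≠ ⊥)
    (hf₂ : (P : Subgroup S) ⊓ Subgroup.centralizer (X₂ : Set S) ≠ ⊥)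
    (honly : ∀ X : Subgroup S, X ≤ Q → Nat.card X = q →
      (P : Subgroup S) ⊓ Subgroup.centralizer (X : Set S) ≠ ⊥ → X = X₁ ∨ X = X₂) :
    ⁅(P : Subgroup S) ⊓ Subgroup.centralizer (X₁ : Set S), (P : Subgroup S) ⊓ Subgroup.centralizer (X₂ : Set S)⁆ = ⊥ ∧
      ((P : Subgroup S) ⊓ Subgroup.centralizer (X₁ : Set S)) ⊓ ((P : Subgroup S) ⊓ Subgroup.centralizer (X₂ : Set S)) = ⊥ ∧
      ((P : Subgroup S) ⊓ Subgroup.centralizer (X₁ : Set S)) ⊔ ((P : Subgroup S) ⊓ Subgroup.centralizer (X₂ : Set S)) = P := by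
  classical
  set C₁ := (P : Subgroup S) ⊓ Subgroup.centralizer (X₁ : Set S) with hC₁
  set C₂ := (P : Subgroup S) ⊓ Subgroup.centralizer (X₂ : Set S) with hC₂
  have hq : q.Prime := Fact.out
  have hp : p.Prime := Fact.out
  haveI := hQ.1
  have hcomm : ∀ a ∈ Q, ∀ b ∈ Q, a * b = b * a := fun a ha b hb =>
    congrArg Subtype.val (hQ.1.is_comm.comm ⟨a, ha⟩ ⟨b, hb⟩)
  have horder : ∀ x ∈ Q, x ≠ 1 → Nat.card (Subgroup.zpowers x) = q := fun x hx hx1 => by
    rw [Nat.card_zpowers]; exact orderOf_eq_prime (hQ.2 x hx) hx1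
  have hgen : ∀ X : Subgroup S, X ≤ Q → Nat.card X = q → ∀ x ∈ X, x ≠ 1 → Subgroup.zpowers x = X :=
    fun X hX hc x hx hx1 => Subgroup.eq_of_le_of_card_ge (Subgroup.zpowers_le.mpr hx)
      (by rw [horder x (hX hx) hx1, hc])
  have hcop : ∀ T : Subgroup S, T ≤ Q → (Nat.card T).Coprime (Nat.card (P : Subgroup S)) := by
    intro T hT
    obtain ⟨m, hm⟩ := IsPGroup.iff_card.mp P.isPGroup'
    rw [hm]
    refine Nat.Coprime.coprime_dvd_left (Subgroup.card_dvd_of_le hT) ?_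
    rw [hQc]
    exact Nat.Coprime.pow _ _ ((Nat.coprime_primes hq hp).mpr hpq.symm)
  have hPn : ∀ T : Subgroup S, T ≤ Subgroup.normalizer ((P : Subgroup S) : Set S) := fun T => by
    rw [Subgroup.normalizer_eq_top]; exact le_top
  -- fixed points of Q are trivial
  obtain ⟨x₁, hx₁, hx₁1⟩ : ∃ x ∈ X₁, x ≠ 1 := by
    by_contra h
    push Not at h
    have : X₁ = ⊥ := eq_bot_iff.mpr fun x hx => Subgroup.mem_bot.mpr (h x hx)
    rw [this, Subgroup.card_bot] at hc₁
    exact hq.ne_one hc₁.symm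
  obtain ⟨x₂, hx₂, hx₂1⟩ : ∃ x ∈ X₂, x ≠ 1 := by
    by_contra h
    push Not at h
    have : X₂ = ⊥ := eq_bot_iff.mpr fun x hx => Subgroup.mem_bot.mpr (h x hx)
    rw [this, Subgroup.card_bot] at hc₂
    exact hq.ne_one hc₂.symm
  have hX12 : ∀ x ∈ X₁, x ∈ X₂ → x = 1 := by
    intro x hx hx'
    by_contra hx1
    exact h₁₂ ((hgen X₁ h₁ hc₁ x hx hx1).symm.trans (hgen X₂ h₂ hc₂ x hx' hx1))
  have hCQ : (P : Subgroup S) ⊓ Subgroup.centralizer (Q : Set S) = ⊥ := by
    by_contra hne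
    have hxQ : x₁ * x₂ ∈ Q := Q.mul_mem (h₁ hx₁) (h₂ hx₂)
    have hx3 : x₁ * x₂ ≠ 1 := fun h => hx₁1 (hX12 x₁ hx₁ (by
      rw [eq_inv_of_mul_eq_one_left h]; exact X₂.inv_mem hx₂))
    have hle := Subgroup.zpowers_le.mpr hxQ
    rcases honly _ hle (horder _ hxQ hx3) (fun hb => hne (by
        rw [eq_bot_iff, ← hb]
        exact inf_le_inf_left _ (Subgroup.centralizer_le hle))) with h | h
    · have h' : x₁ * x₂ ∈ X₁ := h ▸ Subgroup.mem_zpowers _
      have := X₁.mul_mem (X₁.inv_mem hx₁) h'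
      rw [inv_mul_cancel_left] at this
      exact hx₂1 (hX12 x₂ this hx₂)
    · have h' : x₁ * x₂ ∈ X₂ := h ▸ Subgroup.mem_zpowers _
      have := X₂.mul_mem h' (X₂.inv_mem hx₂)
      rw [mul_inv_cancel_right] at this
      exact hx₁1 (hX12 x₁ hx₁ this)
  have hQgen : X₁ ⊔ X₂ = Q := by
    refine Subgroup.eq_of_le_of_card_ge (sup_le h₁ h₂) ?_
    have hlt : q < Nat.card (X₁ ⊔ X₂ : Subgroup S) := by
      rw [← hc₁]
      refine Set.Finite.card_lt_card (Set.toFinite _) (lt_of_le_of_ne (le_sup_left : X₁ ≤ _) fun h => ?_)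
      exact hx₂1 (hX12 x₂ ((SetLike.coe_injective h).symm.le
        ((le_sup_right : X₂ ≤ X₁ ⊔ X₂) hx₂)) hx₂)
    have hdvd := Subgroup.card_dvd_of_le (sup_le h₁ h₂ : X₁ ⊔ X₂ ≤ Q)
    rw [hQc] at hdvd ⊢
    obtain ⟨j, hj, hjc⟩ := (Nat.dvd_prime_pow hq).mp hdvd
    rw [hjc] at hlt ⊢
    interval_cases j
    · simp only [pow_zero] at hlt
      have := hq.two_le
      omega
    · simp at hlt
    · exact le_rfl
  have hinf : C₁ ⊓ C₂ = ⊥ := by
    rw [eq_bot_iff, ← hCQ]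
    intro c hc
    refine ⟨hc.1.1, ?_⟩
    rw [← hQgen]
    have h : X₁ ⊔ X₂ ≤ Subgroup.centralizer {c} := sup_le
      (fun x hx => Subgroup.mem_centralizer_singleton_iff.mpr (Subgroup.mem_centralizer_iff.mp hc.1.2 x hx))
      (fun x hx => Subgroup.mem_centralizer_singleton_iff.mpr (Subgroup.mem_centralizer_iff.mp hc.2.2 x hx))
    exact Subgroup.mem_centralizer_iff.mpr fun x hx => Subgroup.mem_centralizer_singleton_iff.mp (h hx)
  have hsup : C₁ ⊔ C₂ = P := by
    refine le_antisymm (sup_le inf_le_left inf_le_left) ?_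
    refine Coprime.le_of_noncyclic (KBalance.not_isCyclic_of_sq_le hQ hQc.ge) (hPn Q) (hcop Q le_rfl)
      fun x hx hx1 => ?_
    by_cases hne : (P : Subgroup S) ⊓ Subgroup.centralizer {x} = ⊥
    · rw [hne]; exact bot_le
    have hcz : Subgroup.centralizer (Subgroup.zpowers x : Set S) = Subgroup.centralizer {x} := by
      rw [Subgroup.zpowers_eq_closure, Subgroup.centralizer_closure]
    rw [← hcz] at hne ⊢
    rcases honly _ (Subgroup.zpowers_le.mpr hx) (horder x hx hx1) hne with h | h <;> rw [h]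
    exacts [le_sup_left, le_sup_right]
  refine ⟨?_, hinf, hsup⟩
  -- [C₁, C₂] = 1: X₁ acts without fixed points on C₂ and centralises C₁
  -- fixed-point-free actions: each Cᵢ is its own commutator with the other Xⱼ
  have hsolv : ∀ X : Subgroup S, X ≤ Q → Group.IsSolvable X := fun X hX => by
    haveI := (KBalance.isElementaryAbelian_of_le hQ hX).1
    exact Group.isSolvable_of_comm fun a b => IsMulCommutative.is_comm.comm a b
  have hfpf : ∀ (X V : Subgroup S), X ≤ Q → V ≤ P → X ≤ Subgroup.normalizer (V : Set S) →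
      V ⊓ Subgroup.centralizer (X : Set S) = ⊥ → ⁅V, X⁆ = V := by
    intro X V hX hV hn hz
    have h := Coprime.commutator_sup_centralizer (K := V) (A := X) hn
      ((hcop X hX).coprime_dvd_right (Subgroup.card_dvd_of_le
        ((Coprime.commutator_le_of_le_normalizer hn).trans hV))) (Or.inl (hsolv X hX))
    rwa [hz, sup_bot_eq] at h
  have hQC : ∀ X : Subgroup S, X ≤ Q →
      Q ≤ Subgroup.normalizer (((P : Subgroup S) ⊓ Subgroup.centralizer (X : Set S) : Subgroup S) : Set S) := by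
    intro X hX
    refine Coprime.le_normalizer_inf_centralizer (hPn Q) (le_trans ?_ (Subgroup.centralizer_le_normalizer _))
    intro a ha
    exact Subgroup.mem_centralizer_iff.mpr fun b hb => hcomm b (hX hb) a ha
  have hQC1 : Q ≤ Subgroup.normalizer (C₁ : Set S) := hQC X₁ h₁
  have hQC2 : Q ≤ Subgroup.normalizer (C₂ : Set S) := hQC X₂ h₂
  have hC1X2 : ⁅C₁, X₂⁆ = C₁ := hfpf X₂ C₁ h₂ inf_le_left (h₂.trans hQC1)
    (by rw [eq_bot_iff, ← hinf]; exact le_inf inf_le_left (le_inf (inf_le_left.trans inf_le_left) inf_le_right))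
  set W := C₂ ⊓ Subgroup.centralizer (C₁ : Set S) with hW
  have hWcomm : ∀ a ∈ C₁, ∀ b ∈ W, a * b = b * a := fun a ha b hb =>
    Subgroup.mem_centralizer_iff.mp hb.2 a ha
  let H : Subgroup S :=
    { carrier := {g | ∃ a ∈ C₁, ∃ b ∈ W, g = a * b}
      one_mem' := ⟨1, C₁.one_mem, 1, W.one_mem, (one_mul 1).symm⟩
      mul_mem' := by
        rintro _ _ ⟨a, ha, b, hb, rfl⟩ ⟨a', ha', b', hb', rfl⟩
        refine ⟨a * a', C₁.mul_mem ha ha', b * b', W.mul_mem hb hb', ?_⟩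
        calc a * b * (a' * b') = a * (b * a') * b' := by group
          _ = a * (a' * b) * b' := by rw [hWcomm a' ha' b hb]
          _ = _ := by group
      inv_mem' := by
        rintro _ ⟨a, ha, b, hb, rfl⟩
        exact ⟨a⁻¹, C₁.inv_mem ha, b⁻¹, W.inv_mem hb,
          by rw [mul_inv_rev, hWcomm _ (C₁.inv_mem ha) _ (W.inv_mem hb)]⟩ }
  have hC1H : C₁ ≤ H := fun a ha => ⟨a, ha, 1, W.one_mem, (mul_one a).symm⟩
  have hWH : W ≤ H := fun b hb => ⟨1, C₁.one_mem, b, hb, (one_mul b).symm⟩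
  have hHP : H ≤ P := by
    rintro _ ⟨a, ha, b, hb, rfl⟩
    exact (P : Subgroup S).mul_mem ha.1 hb.1.1
  have hHC2 : ∀ g ∈ H, g ∈ C₂ → g ∈ W := by
    rintro _ ⟨a, ha, b, hb, rfl⟩ hg
    have : a ∈ C₁ ⊓ C₂ := ⟨ha, by simpa using C₂.mul_mem hg (C₂.inv_mem hb.1)⟩
    rw [hinf, Subgroup.mem_bot] at this
    rw [this, one_mul]; exact hb
  set W' := C₂ ⊓ Subgroup.normalizer (H : Set S) with hW'
  have hW'W : ∀ w ∈ W', w ∈ Subgroup.normalizer (W : Set S) := by
    intro w hw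
    rw [Subgroup.mem_normalizer_iff]
    intro z
    constructor
    · intro hz
      exact hHC2 _ ((Subgroup.mem_normalizer_iff.mp hw.2 z).mp (hWH hz))
        (C₂.mul_mem (C₂.mul_mem hw.1 hz.1) (C₂.inv_mem hw.1))
    · intro hz
      refine hHC2 _ ((Subgroup.mem_normalizer_iff.mp hw.2 z).mpr (hWH hz)) ?_
      have := C₂.mul_mem (C₂.mul_mem (C₂.inv_mem hw.1) hz.1) hw.1
      simpa [mul_assoc] using this
  have hQW : Q ≤ Subgroup.normalizer (W : Set S) :=
    Coprime.le_normalizer_inf_centralizer hQC2 hQC1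
  have hQH : Q ≤ Subgroup.normalizer (H : Set S) := by
    intro g hg
    have key : ∀ g ∈ Q, ∀ z ∈ H, g * z * g⁻¹ ∈ H := by
      rintro g hg _ ⟨a, ha, b, hb, rfl⟩
      exact ⟨g * a * g⁻¹, Coprime.conj_mem_of_le_normalizer hQC1 hg ha, g * b * g⁻¹,
        Coprime.conj_mem_of_le_normalizer hQW hg hb, by group⟩
    rw [Subgroup.mem_normalizer_iff]
    refine fun z => ⟨key g hg z, fun h => ?_⟩
    simpa [mul_assoc] using key g⁻¹ (Q.inv_mem hg) _ h
  have hQW' : Q ≤ Subgroup.normalizer (W' : Set S) := by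
    intro g hg
    have hN : g ∈ Subgroup.normalizer (Subgroup.normalizer (H : Set S) : Set S) :=
      Subgroup.le_normalizer (hQH hg)
    rw [Subgroup.mem_normalizer_iff]
    intro z
    simp only [hW', Subgroup.mem_inf, Subgroup.mem_normalizer_iff.mp (hQC2 hg) z,
      Subgroup.mem_normalizer_iff.mp hN z]
  have hW'X : ⁅W', X₁⁆ = W' := hfpf X₁ W' h₁ (inf_le_left.trans inf_le_left) (h₁.trans hQW')
    (by rw [eq_bot_iff, ← hinf]
        exact le_inf (le_inf (inf_le_left.trans (inf_le_left.trans inf_le_left)) inf_le_right)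
          (inf_le_left.trans inf_le_left))
  -- elements acting trivially on H/W
  let U : Subgroup S :=
    { carrier := {u | u ∈ Subgroup.normalizer (W : Set S) ∧ ∀ c ∈ C₁, c⁻¹ * (u * c * u⁻¹) ∈ W}
      one_mem' := ⟨Subgroup.one_mem _, fun c _ => by simp⟩
      mul_mem' := fun {u v} hu hv => ⟨Subgroup.mul_mem _ hu.1 hv.1, fun c hc => by
        have e : c⁻¹ * (u * v * c * (u * v)⁻¹) =
            c⁻¹ * (u * c * u⁻¹) * (u * (c⁻¹ * (v * c * v⁻¹)) * u⁻¹) := by group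
        rw [e]
        exact W.mul_mem (hu.2 c hc) ((Subgroup.mem_normalizer_iff.mp hu.1 _).mp (hv.2 c hc))⟩
      inv_mem' := fun {u} hu => ⟨Subgroup.inv_mem _ hu.1, fun c hc => by
        have e : c⁻¹ * (u⁻¹ * c * u⁻¹⁻¹) = (u⁻¹ * (c⁻¹ * (u * c * u⁻¹)) * u⁻¹⁻¹)⁻¹ := by group
        rw [e]
        exact W.inv_mem ((Subgroup.mem_normalizer_iff.mp (Subgroup.inv_mem _ hu.1) _).mp (hu.2 c hc))⟩ }
  have hW'U : W' ≤ U := by
    conv_lhs => rw [← hW'X]
    rw [Subgroup.commutator_le]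
    intro w hw x hx
    have hxc : ∀ a ∈ C₁, x * a = a * x := fun a ha => (Subgroup.mem_centralizer_iff.mp ha.2 x hx)
    have hxW : x ∈ Subgroup.normalizer (W : Set S) := hQW (h₁ hx)
    have hwx : x * w⁻¹ * x⁻¹ ∈ W' := (Subgroup.mem_normalizer_iff.mp (hQW' (h₁ hx)) _).mp (W'.inv_mem hw)
    refine ⟨?_, fun c hc => ?_⟩
    · rw [commutatorElement_def, mul_assoc w, mul_assoc w]
      exact Subgroup.mul_mem _ (hW'W w hw) (hW'W _ hwx)
    · obtain ⟨a, ha, b, hb, hab⟩ := (Subgroup.mem_normalizer_iff.mp (W'.inv_mem hw).2 c).mp (hC1H hc)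
      have hxca : (x * w⁻¹ * x⁻¹) * c * (x * w⁻¹ * x⁻¹)⁻¹ = a * (x * b * x⁻¹) := by
        have e1 : x⁻¹ * c * x = c := by rw [mul_assoc, ← hxc c hc]; group
        calc (x * w⁻¹ * x⁻¹) * c * (x * w⁻¹ * x⁻¹)⁻¹
            = x * (w⁻¹ * (x⁻¹ * c * x) * w⁻¹⁻¹) * x⁻¹ := by group
          _ = x * (a * b) * x⁻¹ := by rw [e1, hab]
          _ = (x * a * x⁻¹) * (x * b * x⁻¹) := by group
          _ = _ := by rw [hxc a ha]; group
      have hca : w * a * w⁻¹ = c * (w * b⁻¹ * w⁻¹) := by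
        have : w⁻¹ * c * w = a * b := by rw [← hab]; group
        calc w * a * w⁻¹ = w * (a * b) * b⁻¹ * w⁻¹ := by group
          _ = w * (w⁻¹ * c * w) * b⁻¹ * w⁻¹ := by rw [this]
          _ = _ := by group
      have e : ⁅w, x⁆ * c * ⁅w, x⁆⁻¹ =
          c * (w * b⁻¹ * w⁻¹) * (w * (x * b * x⁻¹) * w⁻¹) := by
        rw [commutatorElement_def]
        calc w * x * w⁻¹ * x⁻¹ * c * (w * x * w⁻¹ * x⁻¹)⁻¹
            = w * ((x * w⁻¹ * x⁻¹) * c * (x * w⁻¹ * x⁻¹)⁻¹) * w⁻¹ := by group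
          _ = (w * a * w⁻¹) * (w * (x * b * x⁻¹) * w⁻¹) := by rw [hxca]; group
          _ = _ := by rw [hca]
      rw [e, show c⁻¹ * (c * (w * b⁻¹ * w⁻¹) * (w * (x * b * x⁻¹) * w⁻¹)) =
        (w * b⁻¹ * w⁻¹) * (w * (x * b * x⁻¹) * w⁻¹) by group]
      exact W.mul_mem ((Subgroup.mem_normalizer_iff.mp (hW'W w hw) _).mp (W.inv_mem hb))
        ((Subgroup.mem_normalizer_iff.mp (hW'W w hw) _).mp ((Subgroup.mem_normalizer_iff.mp hxW b).mp hb))
  have hCW : ⁅W', C₁⁆ ≤ W := by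
    rw [Subgroup.commutator_le]
    intro u hu c hc
    obtain ⟨hn, hact⟩ := hW'U hu
    have hm := hact c hc
    have e : ⁅u, c⁆ = c * (c⁻¹ * (u * c * u⁻¹)) * c⁻¹ := by rw [commutatorElement_def]; group
    rw [e, hWcomm c hc _ hm, mul_inv_cancel_right]
    exact hm
  have hW'eq : W' ≤ W := by
    refine le_inf inf_le_left ?_
    have h0 : ⁅X₂, W'⁆ = ⊥ := by
      rw [Subgroup.commutator_eq_bot_iff_le_centralizer, Subgroup.le_centralizer_iff]
      exact inf_le_left.trans inf_le_right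
    have h1 : ⁅⁅W', C₁⁆, X₂⁆ = ⊥ := by
      rw [eq_bot_iff]
      refine (Subgroup.commutator_mono hCW le_rfl).trans (le_of_eq ?_)
      rw [Subgroup.commutator_eq_bot_iff_le_centralizer]
      exact inf_le_left.trans inf_le_right
    have h2 : ⁅⁅C₁, X₂⁆, W'⁆ = ⊥ :=
      Subgroup.commutator_commutator_eq_bot_of_rotate (by rw [h0, Subgroup.commutator_bot_left]) h1
    rw [hC1X2, Subgroup.commutator_eq_bot_iff_le_centralizer, Subgroup.le_centralizer_iff] at h2
    exact h2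
  -- the normaliser of H in P is H
  have hN : (P : Subgroup S) ⊓ Subgroup.normalizer (H : Set S) ≤ H := by
    have hQN : Q ≤ Subgroup.normalizer
        (((P : Subgroup S) ⊓ Subgroup.normalizer (H : Set S) : Subgroup S) : Set S) := by
      intro g hg
      have hN : g ∈ Subgroup.normalizer (Subgroup.normalizer (H : Set S) : Set S) :=
        Subgroup.le_normalizer (hQH hg)
      rw [Subgroup.mem_normalizer_iff]
      intro z
      simp only [Subgroup.mem_inf, Subgroup.mem_normalizer_iff.mp (hPn Q hg) z,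
        Subgroup.mem_normalizer_iff.mp hN z]
    refine Coprime.le_of_noncyclic (KBalance.not_isCyclic_of_sq_le hQ hQc.ge) hQN
      ((hcop Q le_rfl).coprime_dvd_right (Subgroup.card_dvd_of_le inf_le_left)) fun x hx hx1 => ?_
    have hcz : Subgroup.centralizer (Subgroup.zpowers x : Set S) = Subgroup.centralizer {x} := by
      rw [Subgroup.zpowers_eq_closure, Subgroup.centralizer_closure]
    rw [← hcz]
    by_cases hne : (P : Subgroup S) ⊓ Subgroup.centralizer (Subgroup.zpowers x : Set S) = ⊥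
    · exact (inf_le_inf_right _ inf_le_left).trans (hne.le.trans bot_le)
    rcases honly _ (Subgroup.zpowers_le.mpr hx) (horder x hx hx1) hne with h | h <;> rw [h]
    · intro g hg; exact hC1H ⟨hg.1.1, hg.2⟩
    · intro g hg; exact hWH (hW'eq ⟨⟨hg.1.1, hg.2⟩, hg.1.2⟩)
  have hPH : (P : Subgroup S) ≤ H := by
    haveI := (P.isPGroup' : IsPGroup p (P : Subgroup S)).isNilpotent
    by_contra hle
    have hlt := (Group.normalizerCondition_of_isNilpotent (G := (P : Subgroup S))) (H.subgroupOf P)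
      (lt_top_iff_ne_top.mpr fun h => hle (Subgroup.subgroupOf_eq_top.mp h))
    obtain ⟨g, hg, hg'⟩ := SetLike.exists_of_lt hlt
    apply hg'
    refine hN ⟨g.2, Subgroup.mem_normalizer_iff.mpr fun z => ?_⟩
    by_cases hzP : z ∈ (P : Subgroup S)
    · exact Subgroup.mem_normalizer_iff.mp hg ⟨z, hzP⟩
    · refine iff_of_false (fun h => hzP (hHP h)) (fun h => hzP ?_)
      simpa [mul_assoc] using (P : Subgroup S).mul_mem
        ((P : Subgroup S).mul_mem ((P : Subgroup S).inv_mem g.2) (hHP h)) g.2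
  rw [Subgroup.commutator_eq_bot_iff_le_centralizer, Subgroup.le_centralizer_iff]
  exact fun g hg => (hHC2 g (hPH hg.1) hg).2

end Cfsg.Agent.S1900
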