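import Cfsg.Statements.S1901
import Mathlib
import Cfsg.Agent.Lib.PSolvable.PSolv
import Cfsg.Agent.Lib.Coprime.Basic

set_option autoImplicit false
open Cfsg
open scoped commutatorElement

namespace Cfsg.Agent.S1901

universe u

open Cfsg.Agent.Lib

/-- A `p`-element normalising a `p'`-subgroup that normalises a Sylow `p`-subgroup centralises it. -/
theorem key {p : ℕ} [hp : Fact p.Prime] : ∀ (n : ℕ) {G : Type u} [Group G] [Finite G],
    Nat.card G = n → Cfsg.IsPSolvable p G → ∀ (Q : Subgroup G), ¬ p ∣ Nat.card Q →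
    ∀ (P : Sylow p G), Q ≤ Subgroup.normalizer ((P : Subgroup G) : Set G) →
    ∀ x ∈ Subgroup.normalizer (Q : Set G), (∃ k : ℕ, x ^ p ^ k = 1) →
      x ∈ Subgroup.centralizer (Q : Set G) := by
  intro n
  induction n using Nat.strong_induction_on with
  | _ n ih =>
    intro G _ _ hn hG Q hQ P hPQ x hx hxp
    rcases subsingleton_or_nontrivial G with hs | hnt
    · exact Subgroup.mem_centralizer_iff.mpr fun y _ => Subsingleton.elim _ _
    obtain ⟨M, hMn, hM1, hMc⟩ : ∃ M : Subgroup G, M.Normal ∧ M ≠ ⊥ ∧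
        (IsPGroup p M ∨ (Nat.card M).Coprime p) := by
      rcases PSolvable.pCore_ne_bot_or_pPrimeCore_ne_bot hG with h | h
      · exact ⟨_, inferInstance, h, Or.inl PSolvable.pCore_isPGroup⟩
      · exact ⟨_, Subgroup.sSup_normal _ (fun _ hN => hN.1), h, Or.inr PSolvable.pPrimeCore_coprime⟩
    haveI := hMn
    let f := QuotientGroup.mk' M
    have hfs : Function.Surjective f := QuotientGroup.mk'_surjective M
    have hlt : Nat.card (G ⧸ M) < n := by
      rw [← hn, Subgroup.card_eq_card_quotient_mul_card_subgroup M]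
      exact lt_mul_of_one_lt_right Nat.card_pos (Subgroup.one_lt_card_iff_ne_bot M |>.mpr hM1)
    have hxq := ih _ hlt rfl (PSolvable.isPSolvable_quotient hG M) (Q.map f)
      (fun h => hQ (h.trans (Subgroup.card_map_dvd _ _))) (P.mapSurjective hfs)
      ((Subgroup.map_mono hPQ).trans (Subgroup.le_normalizer_map f))
      (f x) (Subgroup.le_normalizer_map f ⟨x, hx, rfl⟩)
      (hxp.imp fun k hk => by rw [← map_pow, hk, map_one])
    have hcM : ∀ q ∈ Q, ⁅q, x⁆ ∈ M := by
      intro q hq
      have h := Subgroup.mem_centralizer_iff.mp hxq (f q) ⟨q, hq, rfl⟩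
      rw [← QuotientGroup.eq_one_iff]
      show f ⁅q, x⁆ = 1
      rw [map_commutatorElement, commutatorElement_eq_one_iff_mul_comm, h]
    have hcQ : ∀ q ∈ Q, ⁅q, x⁆ ∈ Q := by
      intro q hq
      rw [commutatorElement_def, mul_assoc q x, mul_assoc q]
      exact Q.mul_mem hq ((Subgroup.mem_normalizer_iff.mp hx _).mp (Q.inv_mem hq))
    have hqcop : ∀ q ∈ Q, (orderOf x).Coprime (orderOf q) := by
      intro q hq
      obtain ⟨k, hk⟩ := hxp
      refine ((Nat.Coprime.pow_left k ((Nat.Prime.coprime_iff_not_dvd hp.out).mpr hQ)).coprime_dvd_left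
        (orderOf_dvd_of_pow_eq_one hk)).coprime_dvd_right (Subgroup.orderOf_dvd_natCard _ hq)
    rw [Subgroup.mem_centralizer_iff]
    intro q hq
    rcases hMc with hMp | hMp
    · have h1 : ⁅q, x⁆ = 1 := by
        have hb : M ⊓ Q = ⊥ := PSolvable.inf_eq_bot_of_isPGroup_of_coprime hMp
          ((Nat.Prime.coprime_iff_not_dvd hp.out).mpr hQ).symm
        exact (Subgroup.mem_bot.mp (hb ▸ ⟨hcM q hq, hcQ q hq⟩))
      exact commutatorElement_eq_one_iff_mul_comm.mp h1
    · set Q0 := Q ⊓ M
      set N0 := Subgroup.normalizer (Q0 : Set G)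
      have hxN0 : x ∈ N0 := by
        rw [Subgroup.mem_normalizer_iff]
        intro y
        simp only [Q0, Subgroup.mem_inf, Subgroup.mem_normalizer_iff.mp hx y]
        exact and_congr_right fun _ => ⟨fun h => hMn.conj_mem y h x, fun h => by
          simpa [mul_assoc] using hMn.conj_mem _ h x⁻¹⟩
      have hPC : (P : Subgroup G) ≤ Subgroup.centralizer (Q0 : Set G) := by
        intro v hv
        rw [Subgroup.mem_centralizer_iff]
        intro y hy
        rw [← commutatorElement_eq_one_iff_mul_comm]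
        have h1 : ⁅y, v⁆ ∈ (P : Subgroup G) := by
          rw [commutatorElement_def]
          exact (P : Subgroup G).mul_mem ((Subgroup.mem_normalizer_iff.mp (hPQ hy.1) v).mp hv) ((P : Subgroup G).inv_mem hv)
        have h2 : ⁅y, v⁆ ∈ M := by
          rw [commutatorElement_def, mul_assoc y v, mul_assoc y]
          exact M.mul_mem hy.2 (hMn.conj_mem _ (M.inv_mem hy.2) v)
        exact Subgroup.mem_bot.mp (PSolvable.inf_eq_bot_of_isPGroup_of_coprime P.isPGroup' hMp ▸ ⟨h1, h2⟩)
      -- the centraliser has index prime to p in the normaliser of Q0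
      set C0 := (Subgroup.centralizer (Q0 : Set G)).subgroupOf N0
      haveI : C0.Normal := inferInstance
      have hidx : ¬ p ∣ C0.index := by
        intro h
        apply P.not_dvd_index
        refine h.trans (Dvd.dvd.trans ?_ (Subgroup.index_dvd_of_le hPC))
        exact ⟨N0.index, (Subgroup.relIndex_mul_index (Subgroup.centralizer_le_normalizer _)).symm⟩
      have hxC : (⟨x, hxN0⟩ : N0) ∈ C0 := by
        rw [← QuotientGroup.eq_one_iff, ← orderOf_eq_one_iff]
        obtain ⟨k, hk⟩ := hxp
        refine Nat.eq_one_of_dvd_coprimes (Nat.Coprime.pow_left k ((Nat.Prime.coprime_iff_not_dvd hp.out).mpr hidx))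
          (orderOf_dvd_of_pow_eq_one ?_) ?_
        · rw [← QuotientGroup.mk_pow, QuotientGroup.eq_one_iff]
          rw [show (⟨x, hxN0⟩ : N0) ^ p ^ k = 1 from Subtype.ext (by simpa using hk)]
          exact C0.one_mem
        · rw [Subgroup.index_eq_card]; exact orderOf_dvd_natCard _
      have hc : Commute ⁅q, x⁆ x :=
        (Subgroup.mem_centralizer_iff.mp hxC _ ⟨hcQ q hq, hcM q hq⟩)
      exact (Coprime.commute_of_commute_commutator (a := x) (k := q) (by rw [← commutatorElement_def]; exact hc)
        (by rw [← commutatorElement_def]; exact hqcop _ (hcQ q hq))).eq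

/-- Let G be a finite p-solvable group and Q a subgroup of order prime to p such that p divides the index of C_G(Q) in N_G(Q). Then Q normalizes no Sylow p-subgroup of G. -/
theorem result {G : Type*} [Group G] [Finite G] {p : ℕ} [Fact p.Prime]
    (hG : Cfsg.IsPSolvable p G) (Q : Subgroup G) (hQ : ¬ p ∣ Nat.card Q)
    (hA : p ∣ (Subgroup.centralizer (Q : Set G)).relIndex (Subgroup.normalizer (Q : Set G)))
    (P : Sylow p G) : ¬ Q ≤ Subgroup.normalizer ((P : Subgroup G) : Set G) := by
  intro hPQ
  set N := Subgroup.normalizer (Q : Set G) with hN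
  set C := (Subgroup.centralizer (Q : Set G)).subgroupOf N
  obtain ⟨R⟩ := (inferInstance : Nonempty (Sylow p N))
  have hRC : (R : Subgroup N) ≤ C := by
    intro x hx
    obtain ⟨k, hk⟩ := R.isPGroup' ⟨x, hx⟩
    refine key (Nat.card G) rfl hG Q hQ P hPQ (x : G) x.2 ⟨k, ?_⟩
    simpa using congrArg (fun y : R => ((y : N) : G)) hk
  exact R.not_dvd_index (hA.trans (Subgroup.index_dvd_of_le hRC))

end Cfsg.Agent.S1901
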