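import Cfsg.Statements.S1902
import Cfsg.Agent.Lib.Coprime.Basic
import Cfsg.Agent.Lib.Coprime.Sylow
import Cfsg.Agent.Lib.CoprimeOmega.Basic
import Cfsg.Agent.Lib.PGroup.Critical
import Cfsg.Agent.Lib.PSolvable.HallHigman
-- import your own Cfsg.Agent.* helpers here

set_option autoImplicit false
open Cfsg

namespace Cfsg.Agent.S1902


open Subgroup Cfsg.Agent.Lib
open scoped commutatorElement IsMulCommutative Pointwise

set_option linter.unusedSectionVars false

variable {G : Type*} [Group G] [Finite G] {p : ℕ} [Fact p.Prime]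

/-- A `p`-element normalizing a nontrivial `p`-subgroup fixes an element of order `p` of it. -/
theorem exists_fixed {b : G} (hb : b ^ p = 1) {D : Subgroup G} (hD : IsPGroup p D) (hne : D ≠ ⊥)
    (hbD : b ∈ normalizer (D : Set G)) : ∃ z ∈ D, z ≠ 1 ∧ z ^ p = 1 ∧ z * b = b * z := by
  have hbg : IsPGroup p (zpowers b) := by
    rintro ⟨_, k, rfl⟩
    refine ⟨1, Subtype.ext ?_⟩
    show (b ^ k) ^ p ^ 1 = 1
    rw [pow_one, ← zpow_natCast, ← zpow_mul, mul_comm, zpow_mul, zpow_natCast, hb, one_zpow]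
  set S := D ⊔ zpowers b
  have hS : IsPGroup p S := by
    rw [show S = zpowers b ⊔ D from sup_comm _ _]
    exact hbg.to_sup_of_normal_right' hD (zpowers_le.mpr hbD)
  haveI : (D.subgroupOf S).Normal :=
    normal_subgroupOf_iff_le_normalizer le_sup_left |>.mpr (sup_le le_normalizer (zpowers_le.mpr hbD))
  have hne' : D.subgroupOf S ≠ ⊥ := fun h => hne (by
    have := congrArg (Subgroup.map S.subtype) h
    rwa [map_subgroupOf_eq_of_le le_sup_left, Subgroup.map_bot] at this)
  obtain ⟨z, hzD, hzc, hz1⟩ := Critical.exists_center_mem hS hne'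
  obtain ⟨k, hk⟩ := IsPGroup.iff_orderOf.mp hS z
  rcases k with _ | k
  · exact absurd (orderOf_eq_one_iff.mp (by simpa using hk)) hz1
  have hzb : Commute (z : G) b := congrArg Subtype.val
    (mem_center_iff.mp hzc ⟨b, mem_sup_right (mem_zpowers b)⟩).symm
  rw [← Subgroup.orderOf_coe] at hk
  refine ⟨(z : G) ^ p ^ k, pow_mem (mem_subgroupOf.mp hzD) _, fun h => ?_, ?_, (hzb.pow_left _).eq⟩
  · have := (Nat.pow_dvd_pow_iff_le_right (Fact.out : p.Prime).one_lt).mp
      (hk ▸ orderOf_dvd_of_pow_eq_one h)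
    omega
  · rw [← pow_mul, ← pow_succ, ← hk, pow_orderOf_eq_one]

theorem conj_mem {D : Subgroup G} {g : G} (hg : g ∈ normalizer (D : Set G)) {x : G} (hx : x ∈ D) :
    g * x * g⁻¹ ∈ D :=
  (mem_normalizer_iff.mp hg x).mp hx

/-- The symplectic obstruction: no element of order `p` acting with fixed points of order at most
`p` on a class two group of exponent `p` normalizes fixed-point-freely a `p'`-group `Q` acting
without fixed points. -/
theorem derived_eq_bot (hp : p ≠ 2) {D Q : Subgroup G} {b : G} (hb : b ^ p = 1) (hb1 : b ≠ 1)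
    (hQp : (Nat.card Q).Coprime p) (hD : IsPGroup p D) (hbD : b ∈ normalizer (D : Set G))
    (hQD : Q ≤ normalizer (D : Set G)) (hbQ : b ∈ normalizer (Q : Set G))
    (hfpf : ∀ u ∈ Q, u * b = b * u → u = 1) (hexp : ∀ x ∈ D, x ^ p = 1)
    (hcen : ⁅D, D⁆ ≤ centralizer (D : Set G)) (hQc : Q ≤ centralizer ((⁅D, D⁆ : Subgroup G) : Set G))
    (hDQ : ⁅D, Q⁆ = D) (hC : Nat.card (D ⊓ centralizer (zpowers b : Set G) : Subgroup G) ≤ p) :
    ⁅D, D⁆ = ⊥ := by
  classical
  by_contra hne
  set Z1 := ⁅D, D⁆ with hZ1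
  have hZD : Z1 ≤ D := Subgroup.commutator_le_self D
  haveI : IsMulCommutative Z1 := le_centralizer_iff_isMulCommutative.mp
    (hcen.trans (centralizer_le hZD))
  have hbZ : b ∈ normalizer (Z1 : Set G) :=
    Coprime.le_normalizer_commutator (zpowers_le.mpr hbD) (zpowers_le.mpr hbD) (mem_zpowers b)
  let ψ : Z1 →* Z1 :=
    { toFun := fun z => ⟨b * z * b⁻¹ * (z : G)⁻¹, mul_mem (conj_mem hbZ z.2) (inv_mem z.2)⟩
      map_one' := by ext; simp
      map_mul' := fun z w => by
        ext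
        show b * (z * w) * b⁻¹ * (z * w : G)⁻¹ = _
        have hc : Commute (b * w * b⁻¹ * (w : G)⁻¹) (z : G)⁻¹ :=
          congrArg Subtype.val (mul_comm (⟨_, mul_mem (conj_mem hbZ w.2) (inv_mem w.2)⟩ : Z1)
            (⟨_, inv_mem z.2⟩ : Z1))
        calc b * (z * w) * b⁻¹ * (z * w : G)⁻¹
            = b * z * b⁻¹ * ((b * w * b⁻¹ * (w : G)⁻¹) * (z : G)⁻¹) := by group
          _ = b * z * b⁻¹ * ((z : G)⁻¹ * (b * w * b⁻¹ * (w : G)⁻¹)) := by rw [hc.eq]
          _ = _ := by simp [mul_assoc] }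
  set K := ψ.range
  have hKne : K ≠ ⊤ := by
    intro hK
    obtain ⟨z, hz, hz1, -, hzb⟩ := exists_fixed hb (hD.to_le hZD) hne hbZ
    have hinj := Finite.injective_iff_surjective.mpr (MonoidHom.range_eq_top.mp hK)
    refine hz1 (congrArg Subtype.val (hinj (a₁ := ⟨z, hz⟩) (a₂ := 1) ?_))
    rw [map_one]
    ext
    show b * z * b⁻¹ * z⁻¹ = 1
    rw [← hzb]; group
  -- the commutator pairing
  have hcm : ∀ x y : D, ⁅(x : G), (y : G)⁆ ∈ Z1 := fun x y => commutator_mem_commutator x.2 y.2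
  have hcz : ∀ x y : D, ∀ w : D, Commute ⁅(x : G), (y : G)⁆ (w : G) := fun x y w =>
    (mem_centralizer_iff.mp (hcen (hcm x y)) w w.2).symm
  let c : D →* (D → Z1 ⧸ K) :=
    { toFun := fun x y => QuotientGroup.mk ⟨⁅(x : G), (y : G)⁆, hcm x y⟩
      map_one' := by
        funext y
        refine (congrArg QuotientGroup.mk (Subtype.ext ?_ : _ = (1 : Z1))).trans (QuotientGroup.mk_one K)
        simp
      map_mul' := fun x x' => by
        funext y
        rw [Pi.mul_apply, ← QuotientGroup.mk_mul]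
        refine congrArg QuotientGroup.mk (Subtype.ext ?_)
        show ⁅(x : G) * x', (y : G)⁆ = ⁅(x : G), (y : G)⁆ * ⁅(x' : G), (y : G)⁆
        rw [(hcz x y ⟨_, hZD (hcm x' y)⟩).eq]
        calc ⁅(x : G) * x', (y : G)⁆ = (x : G) * ⁅(x' : G), (y : G)⁆ * (x : G)⁻¹ * ⁅(x : G), (y : G)⁆ := by
              simp only [commutatorElement_def]; group
          _ = _ := by rw [← (hcz x' y x).eq, mul_inv_cancel_right] }
  have hskew : ∀ x y, c x y = (c y x)⁻¹ := fun x y => by
    show QuotientGroup.mk _ = (QuotientGroup.mk _)⁻¹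
    rw [← QuotientGroup.mk_inv]
    refine congrArg QuotientGroup.mk (Subtype.ext ?_)
    exact (commutatorElement_inv (y : G) (x : G)).symm
  have hMp : ∀ m : Z1 ⧸ K, m ^ p = 1 := by
    intro m
    induction m using QuotientGroup.induction_on with
    | _ z =>
      rw [← QuotientGroup.mk_pow, show z ^ p = 1 from Subtype.ext (hexp _ (hZD z.2)),
        QuotientGroup.mk_one]
  -- elements acting trivially on the values
  set N := normalizer (D : Set G)
  let conjD : N → D → D := fun g x => ⟨(g : G) * x * (g : G)⁻¹, conj_mem g.2 x.2⟩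
  have conjD_mul : ∀ g h : N, ∀ x, conjD (g * h) x = conjD g (conjD h x) := fun g h x => by
    ext; simp [conjD, mul_assoc]
  have conjD_one : ∀ x, conjD 1 x = x := fun x => by ext; simp [conjD]
  have hinvQ : ∀ g : N, (g : G) ∈ Q → ∀ x y, c (conjD g x) (conjD g y) = c x y := by
    intro g hg x y
    refine congrArg QuotientGroup.mk (Subtype.ext ?_)
    show ⁅(g : G) * x * (g : G)⁻¹, (g : G) * y * (g : G)⁻¹⁆ = _
    rw [← conjugate_commutatorElement, ← mem_centralizer_iff.mp (hQc hg) _ (hcm x y),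
      mul_inv_cancel_right]
  set b' : N := ⟨b, hbD⟩
  have hinvb0 : ∀ x y, c (conjD b' x) (conjD b' y) = c x y := by
    intro x y
    show QuotientGroup.mk _ = QuotientGroup.mk _
    rw [QuotientGroup.eq]
    refine ⟨(⟨⁅(x : G), (y : G)⁆, hcm x y⟩ : Z1)⁻¹, Subtype.ext ?_⟩
    show b * ⁅(x : G), (y : G)⁆⁻¹ * b⁻¹ * ⁅(x : G), (y : G)⁆⁻¹⁻¹ =
      ⁅b * x * b⁻¹, b * y * b⁻¹⁆⁻¹ * ⁅(x : G), (y : G)⁆
    rw [← conjugate_commutatorElement]; group
  letI : Fintype (zpowers b') := Fintype.ofFinite _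
  have hinvb : ∀ g : zpowers b', ∀ x y, c (conjD g x) (conjD g y) = c x y := by
    rintro ⟨g, hg⟩
    show ∀ x y, c (conjD g x) (conjD g y) = c x y
    obtain ⟨k, rfl⟩ := (mem_zpowers_iff_mem_range_orderOf (x := b')).mp hg |> Finset.mem_image.mp |>
      fun ⟨k, _, hk⟩ => (⟨k, hk⟩ : ∃ k : ℕ, b' ^ k = g)
    induction k with
    | zero => intro x y; rw [pow_zero, conjD_one, conjD_one]
    | succ k ih =>
      intro x y
      rw [pow_succ', conjD_mul, conjD_mul, hinvb0]
      exact ih (by exact pow_mem (mem_zpowers b') k) x y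
  let T : D → D → Z1 ⧸ K := fun x => ∏ g : zpowers b', c (conjD g x)
  have hT : ∀ x y, T x y = ∏ g : zpowers b', c (conjD g x) y := fun x y => Finset.prod_apply _ _ _
  have hTskew : ∀ x y, T x y = (T y x)⁻¹ := by
    intro x y
    rw [hT, hT, ← Finset.prod_inv_distrib]
    refine Fintype.prod_equiv (Equiv.inv _) _ _ fun g => ?_
    rw [Equiv.inv_apply, ← hskew, ← hinvb g⁻¹ (conjD g x) y, ← conjD_mul, InvMemClass.coe_inv,
      inv_mul_cancel, conjD_one]
  have hTdiag : ∀ x, T x x = 1 := by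
    intro x
    have h2 : (T x x) ^ 2 = 1 := by rw [pow_two]; nth_rw 1 [hTskew]; rw [inv_mul_cancel]
    exact orderOf_eq_one_iff.mp (Nat.eq_one_of_dvd_coprimes
      ((Nat.coprime_primes Fact.out Nat.prime_two).mpr hp)
      (orderOf_dvd_of_pow_eq_one (hMp _)) (orderOf_dvd_of_pow_eq_one h2))
  -- `T` is not identically trivial
  obtain ⟨x0, y0, h0⟩ : ∃ x0 y0, T x0 y0 ≠ 1 := by
    by_contra hh
    push Not at hh
    let Q' := Q.subgroupOf N
    letI : Fintype Q' := Fintype.ofFinite _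
    have hQ'c : (Fintype.card Q').Coprime p := by
      rwa [← Nat.card_eq_fintype_card, Nat.card_congr (subgroupOfEquivOfLe hQD).toEquiv]
    have hav : ∀ x y, c x y ^ Fintype.card Q' = ∏ q : Q', c (conjD q x) y := by
      intro x y
      have hA : ∀ r : Q', ∏ g : zpowers b', c (conjD ((r : N) * g * (r : N)⁻¹) x) y = 1 := by
        intro r
        refine Eq.trans ?_ (hh (conjD ((r : N)⁻¹) x) (conjD ((r : N)⁻¹) y))
        rw [hT]
        refine Finset.prod_congr rfl fun g _ => ?_
        rw [conjD_mul, conjD_mul]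
        conv_lhs => rw [← conjD_one y, ← mul_inv_cancel (r : N), conjD_mul]
        exact hinvQ r r.2 _ _
      have hB : ∏ g : zpowers b', ∏ q : Q', c (conjD ((q : N) * g) x) y = 1 := by
        rw [Finset.prod_comm]
        refine Finset.prod_eq_one fun q _ => ?_
        refine Eq.trans ?_ (hh x (conjD ((q : N)⁻¹) y))
        rw [hT]
        refine Finset.prod_congr rfl fun g _ => ?_
        rw [conjD_mul]
        conv_lhs => rw [← conjD_one y, ← mul_inv_cancel (q : N), conjD_mul]
        exact hinvQ q q.2 _ _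
      have hC' : ∀ g : zpowers b', g ≠ 1 →
          ∏ r : Q', c (conjD ((r : N) * g * (r : N)⁻¹) x) y =
            ∏ q : Q', c (conjD ((q : N) * g) x) y := by
        intro g hg
        have hgG : (g : N) ≠ 1 := fun e => hg (Subtype.ext e)
        have hgen : b' ∈ zpowers (g : N) := by
          have hb'p : orderOf b' = p := orderOf_eq_prime (Subtype.ext hb) fun e =>
            hb1 (congrArg Subtype.val e)
          have hz : zpowers (g : N) = zpowers b' :=
            eq_of_le_of_card_ge (zpowers_le.mpr g.2) (by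
              rw [Nat.card_zpowers, Nat.card_zpowers, hb'p]
              rcases (Nat.dvd_prime Fact.out).mp (hb'p ▸ (Nat.card_zpowers b' ▸ Nat.card_zpowers (g : N) ▸
                card_dvd_of_le (zpowers_le.mpr g.2) : orderOf (g : N) ∣ orderOf b')) with e | e
              · exact absurd (orderOf_eq_one_iff.mp e) hgG
              · exact e.ge)
          rw [hz]; exact mem_zpowers b'
        have hnorm : ∀ r : Q', ((r : N) * g * (r : N)⁻¹ * (g : N)⁻¹ : N) ∈ Q' := by
          intro r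
          show (r : G) * (g : N) * (r : G)⁻¹ * ((g : N) : G)⁻¹ ∈ Q
          have hgQ : ((g : N) : G) ∈ normalizer (Q : Set G) := by
            obtain ⟨k, hk⟩ := g.2
            have hk' : b ^ k = ((g : N) : G) := congrArg Subtype.val hk
            rw [← hk']; exact zpow_mem hbQ k
          have := Q.mul_mem r.2 (conj_mem hgQ (Q.inv_mem r.2))
          simpa [mul_assoc] using this
        let e : Q' → Q' := fun r => ⟨_, hnorm r⟩
        have hinj : Function.Injective e := by
          intro r s hrs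
          have h1 : (r : N) * g * (r : N)⁻¹ = (s : N) * g * (s : N)⁻¹ :=
            mul_right_cancel (congrArg Subtype.val hrs)
          have h2 : Commute ((s : N)⁻¹ * r) (g : N) := by
            have h3 := congrArg (fun t => (s : N)⁻¹ * t * (r : N)) h1
            simp only [mul_assoc, inv_mul_cancel, mul_one, inv_mul_cancel_left] at h3
            simpa [Commute, SemiconjBy, mul_assoc] using h3
          obtain ⟨k, hk⟩ := hgen
          have h4 : Commute ((s : N)⁻¹ * r) b' := hk ▸ h2.zpow_right k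
          have h5 : (((s : N)⁻¹ * r : N) : G) = 1 :=
            hfpf _ (mul_mem (inv_mem s.2) r.2) (congrArg Subtype.val h4.eq)
          exact (Subtype.ext (inv_mul_eq_one.mp (Subtype.ext h5 : (s : N)⁻¹ * r = 1))).symm
        refine Fintype.prod_bijective e (Finite.injective_iff_bijective.mp hinj) _ _ fun r => ?_
        show _ = c (conjD ((r : N) * g * (r : N)⁻¹ * (g : N)⁻¹ * g) x) y
        rw [inv_mul_cancel_right]
      have hA' : ∏ g : zpowers b', ∏ r : Q', c (conjD ((r : N) * g * (r : N)⁻¹) x) y = 1 := by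
        rw [Finset.prod_comm]; exact Finset.prod_eq_one fun r _ => hA r
      rw [← Finset.mul_prod_erase _ _ (Finset.mem_univ (1 : zpowers b'))] at hA' hB
      rw [Finset.prod_congr rfl fun g hg => hC' g (Finset.ne_of_mem_erase hg)] at hA'
      have := mul_right_cancel (hA'.trans hB.symm)
      simpa [conjD_one] using this
    have hfix : ∀ (u : Q') x y, c (conjD u x) y = c x y := by
      intro u x y
      refine (powCoprime (G := Z1 ⧸ K) (n := Fintype.card Q') ?_).injective ?_
      · obtain ⟨j, hj⟩ := IsPGroup.iff_card.mp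
          (fun m : Z1 ⧸ K => (⟨1, by rw [pow_one]; exact hMp m⟩ : ∃ k, m ^ p ^ k = 1))
        rw [hj]; exact Nat.Coprime.pow_left j hQ'c.symm
      · simp only [powCoprime_apply]
        rw [hav, hav]
        refine Fintype.prod_equiv (Equiv.mulRight u) _ _ fun q => ?_
        rw [Equiv.coe_mulRight, Subgroup.coe_mul, conjD_mul]
    have hker : D ≤ c.ker.map D.subtype := by
      conv_lhs => rw [← hDQ]
      rw [commutator_le]
      intro x hx u hu
      refine ⟨⟨x, hx⟩ * conjD ⟨u, hQD hu⟩ ⟨x, hx⟩⁻¹, ?_, by simp [conjD, commutatorElement_def, mul_assoc]⟩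
      rw [SetLike.mem_coe, MonoidHom.mem_ker, map_mul]
      funext y
      rw [Pi.mul_apply, hfix ⟨⟨u, hQD hu⟩, hu⟩, ← Pi.mul_apply, ← map_mul, mul_inv_cancel, map_one]
    refine hKne (eq_top_iff.mpr ?_)
    have : Z1 ≤ K.map Z1.subtype := by
      conv_lhs => rw [hZ1]
      rw [commutator_le]
      intro x hx y hy
      obtain ⟨x', hx', rfl⟩ := hker hx
      refine ⟨⟨_, hcm x' ⟨y, hy⟩⟩, (QuotientGroup.eq_one_iff _).mp ?_, rfl⟩
      exact congrFun (MonoidHom.mem_ker.mp hx') ⟨y, hy⟩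
    intro z _
    obtain ⟨z', hz', e⟩ := this z.2
    rwa [← show z' = z from Subtype.ext e]
  -- the `b`-fixed part of the image of `c`
  let F : Subgroup D :=
    { carrier := {x | c (conjD b' x) = c x}
      one_mem' := congrArg c (by ext; simp [conjD])
      mul_mem' := fun {x y} hx hy => by
        show c _ = c _
        rw [map_mul, ← (hx : c _ = c x), ← (hy : c _ = c y), ← map_mul]
        exact congrArg c (by ext; simp [conjD, mul_assoc])
      inv_mem' := fun {x} hx => by
        show c _ = c _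
        rw [map_inv, ← (hx : c _ = c x), ← map_inv]
        exact congrArg c (by ext; simp [conjD, mul_assoc]) }
  have hFcard : Nat.card (F.map c) ≤ p := by
    have hmem : ∀ x : F, conjD b' x * (x : D)⁻¹ ∈ c.ker := fun x => by
      rw [MonoidHom.mem_ker, map_mul, map_inv, (x.2 : c _ = c x), mul_inv_cancel]
    have hFR : Nat.card F ≤ Nat.card c.ker * p := by
      refine le_trans ?_ (Nat.mul_le_mul_left _ hC)
      rw [← Nat.card_prod]
      let θ : F → c.ker := fun x => ⟨conjD b' x * (x : D)⁻¹, hmem x⟩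
      haveI : Nonempty F := ⟨1⟩
      let r : F → F := fun x => Function.invFun θ (θ x)
      have hr : ∀ x, θ (r x) = θ x := fun x => Function.invFun_eq ⟨x, rfl⟩
      have hcent : ∀ x : F, (((r x : D) : G))⁻¹ * ((x : D) : G) ∈ D ⊓ centralizer (zpowers b : Set G) := by
        intro x
        refine mem_inf.mpr ⟨D.mul_mem (D.inv_mem (r x : D).2) (x : D).2, ?_⟩
        have h1 : b * ((r x : D) : G) * b⁻¹ * ((r x : D) : G)⁻¹ =
            b * ((x : D) : G) * b⁻¹ * ((x : D) : G)⁻¹ :=
          congrArg (fun z : c.ker => ((z : D) : G)) (hr x)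
        set u := ((r x : D) : G)
        set v := ((x : D) : G)
        have h2 : b * (u⁻¹ * v) * b⁻¹ = u⁻¹ * v := by
          calc b * (u⁻¹ * v) * b⁻¹ = u⁻¹ * (b * u * b⁻¹ * u⁻¹)⁻¹ * (b * v * b⁻¹ * v⁻¹) * v := by group
            _ = u⁻¹ * v := by rw [h1]; group
        refine mem_centralizer_iff.mpr fun z hz => ?_
        obtain ⟨k, rfl⟩ := hz
        exact ((show Commute b (u⁻¹ * v) from mul_inv_eq_iff_eq_mul.mp h2).zpow_left k).eq
      refine Nat.card_le_card_of_injective (fun x => (θ x,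
        (⟨_, hcent x⟩ : (D ⊓ centralizer (zpowers b : Set G) : Subgroup G)))) fun x y e => ?_
      have e1 : θ x = θ y := congrArg Prod.fst e
      have e2 : (((r x : D) : G))⁻¹ * ((x : D) : G) = (((r y : D) : G))⁻¹ * ((y : D) : G) :=
        congrArg Subtype.val (congrArg Prod.snd e)
      rw [show r x = r y from congrArg (Function.invFun θ) e1] at e2
      exact Subtype.ext (Subtype.ext (mul_left_cancel e2))
    let f : F →* (D → Z1 ⧸ K) := c.comp F.subtype
    have h1 := f.ker.card_mul_index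
    rw [Subgroup.index_ker] at h1
    have h2 : Nat.card c.ker ≤ Nat.card f.ker := by
      have hle : c.ker ≤ F := fun x hx => by
        show c (conjD b' x) = c x
        funext y
        have hy : y = conjD b' (conjD b'⁻¹ y) := by rw [← conjD_mul, mul_inv_cancel, conjD_one]
        rw [hy, hinvb0, MonoidHom.mem_ker.mp hx]; rfl
      exact Nat.card_le_card_of_injective (fun x : c.ker => (⟨⟨x, hle x.2⟩, x.2⟩ : f.ker))
        fun x y e => Subtype.ext (congrArg (fun z : f.ker => ((z : F) : D)) e)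
    have h3 : Nat.card f.range = Nat.card (F.map c) := by rw [MonoidHom.range_comp, Subgroup.range_subtype]
    refine Nat.le_of_mul_le_mul_left ?_ (Nat.card_pos (α := f.ker))
    rw [← h3, h1]
    exact hFR.trans (Nat.mul_le_mul_right _ h2)
  have hTF : ∀ x, T x ∈ F.map c := by
    intro x
    obtain ⟨n, hn⟩ : ∃ n, c n = T x := ⟨(Finset.univ.toList.map fun g : zpowers b' => conjD g x).prod, by
      rw [map_list_prod, List.map_map, Finset.prod_map_toList]; rfl⟩
    refine ⟨n, ?_, hn⟩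
    show c _ = c n
    funext y
    have hy : y = conjD b' (conjD b'⁻¹ y) := by rw [← conjD_mul, mul_inv_cancel, conjD_one]
    rw [hn]
    conv_lhs => rw [hy, hinvb0, hn, hT]
    rw [hT]
    refine Fintype.prod_equiv (Equiv.mulLeft ⟨b', mem_zpowers b'⟩) _ _ fun g => ?_
    rw [Equiv.coe_mulLeft, Subgroup.coe_mul, conjD_mul b' (g : N) x]
    conv_rhs => rw [hy, hinvb0]
  have hne0 : T x0 ≠ 1 := fun e => h0 (congrFun e y0)
  have hord : orderOf (T x0) = p := orderOf_eq_prime (funext fun y => hMp _) hne0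
  have hgenF : zpowers (T x0) = F.map c :=
    eq_of_le_of_card_ge (zpowers_le.mpr (hTF x0)) (by rw [Nat.card_zpowers, hord]; exact hFcard)
  obtain ⟨k, hk⟩ : ∃ k : ℤ, T x0 ^ k = T y0 := mem_zpowers_iff.mp (hgenF ▸ hTF y0)
  have : T y0 x0 = 1 := by rw [← hk, Pi.pow_apply, hTdiag, one_zpow]
  exact h0 (by rw [hTskew, this, inv_one])

/-- The case `O_p'(G) = 1`. -/
theorem core (hp : p ≠ 2) (hG : Cfsg.IsPSolvable p G) (hcore : Cfsg.pPrimeCore p G = ⊥)
    {B : Subgroup G} (hB : Cfsg.IsElementaryAbelian p B) (hBc : Nat.card B = p ^ 2)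
    {b₀ : G} (hb₀ : b₀ ∈ B) (hb₁ : b₀ ≠ 1)
    (hstar : ∀ S : Subgroup G, IsPGroup p S → B ≤ S → ∀ x ∈ S, x * b₀ = b₀ * x → x ^ p = 1 → x ∈ B)
    {Q : Subgroup G} (hQ : (Nat.card Q).Coprime p) (hinv : B ≤ normalizer (Q : Set G)) : Q = ⊥ := by
  set R := Cfsg.pCore p G
  have hR : IsPGroup p R := PSolvable.pCore_isPGroup
  have hCR : centralizer (R : Set G) ≤ R := PSolvable.centralizer_pCore_le_of_isPSolvable hG hcore
  have hRn : ∀ g : G, g ∈ normalizer (R : Set G) := fun g => by rw [normalizer_eq_top]; trivial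
  have hBp : IsPGroup p B := IsPGroup.of_card hBc
  have hQR : Q ⊓ R = ⊥ := PSolvable.eq_bot_of_isPGroup_of_coprime (hR.to_le inf_le_right)
    (hQ.coprime_dvd_left (card_dvd_of_le inf_le_left))
  have hb₀p : b₀ ^ p = 1 := hB.2 _ hb₀
  have hRB : ∀ x ∈ R, x * b₀ = b₀ * x → x ^ p = 1 → x ∈ B := fun x hx => hstar (R ⊔ B)
    (hR.to_sup_of_normal_left' hBp fun g _ => hRn g) le_sup_right x (mem_sup_left hx)
  have hQ_BR : ∀ x ∈ R, x ∈ B → ∀ u ∈ Q, u * x = x * u := by
    intro x hxR hxB u hu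
    have h1 : u * x * u⁻¹ * x⁻¹ ∈ Q ⊓ R := by
      refine mem_inf.mpr ⟨?_, R.mul_mem (conj_mem (hRn u) hxR) (R.inv_mem hxR)⟩
      have := mul_mem hu (conj_mem (hinv hxB) (inv_mem hu))
      simpa [mul_assoc] using this
    rw [hQR, mem_bot, mul_inv_eq_one, mul_inv_eq_iff_eq_mul] at h1
    exact h1
  have hQC : ∀ x ∈ R, x * b₀ = b₀ * x → x ^ p = 1 → ∀ u ∈ Q, u * x = x * u :=
    fun x hx hc he => hQ_BR x hx (hRB x hx hc he)
  have hCQ : ∀ u ∈ Q, (∀ x ∈ R, u * x = x * u) → u = 1 := fun u hu h => by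
    have : u ∈ Q ⊓ R := ⟨hu, hCR (mem_centralizer_iff.mpr fun x hx => (h x hx).symm)⟩
    rwa [hQR, mem_bot] at this
  -- `b₀` acts fixed-point-freely on `Q`
  have hfpf : ∀ u ∈ Q, u * b₀ = b₀ * u → u = 1 := by
    intro u hu hub
    refine hCQ u hu ?_
    have hPU : zpowers b₀ ≤ centralizer (zpowers u : Set G) := by
      refine zpowers_le.mpr (mem_centralizer_iff.mpr fun z hz => ?_)
      obtain ⟨k, rfl⟩ := hz
      exact ((show Commute u b₀ from hub).zpow_left k).eq
    have huQ : (Nat.card (zpowers u)).Coprime p :=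
      hQ.coprime_dvd_left (card_dvd_of_le (zpowers_le.mpr hu))
    have := Coprime.thompson_PxQ (hBp.to_le (zpowers_le.mpr hb₀)) huQ hR hPU (fun g _ => hRn g)
      (fun g _ => hRn g) ?_
    · exact fun x hx => (mem_centralizer_iff.mp (this (mem_zpowers u)) x hx).symm
    intro x hx
    have hux : u * x = x * u := by
      refine CoprimeOmega.commute_of_commute_order_p hp
        (a := u) (D := R ⊓ centralizer (zpowers b₀ : Set G)) ?_ (hR.to_le inf_le_left) ?_ ?_ x hx
      · rwa [← Nat.card_zpowers]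
      · intro y hy
        refine ⟨conj_mem (hRn u) hy.1, mem_centralizer_iff.mpr fun z hz => ?_⟩
        have h1 : Commute z u := mem_centralizer_iff.mp (le_centralizer_iff.mp hPU (mem_zpowers u)) z hz
        have h2 : Commute z y := mem_centralizer_iff.mp hy.2 z hz
        exact ((h1.mul_right h2).mul_right h1.inv_right).eq
      · exact fun y hy hyp => hQC y hy.1 (mem_centralizer_iff.mp hy.2 _ (mem_zpowers b₀)).symm hyp u hu
    refine mem_centralizer_iff.mpr fun z hz => ?_
    obtain ⟨k, rfl⟩ := hz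
    exact ((show Commute u x from hux).zpow_left k).eq
  by_contra hQne
  have hb₀R : b₀ ∉ R := fun h => hQne (by
    rw [eq_bot_iff]
    exact fun u hu => mem_bot.mpr (hfpf u hu (hQ_BR b₀ h hb₀ u hu)))
  have hFcard : ∀ D ≤ R, (∀ x ∈ D, x ^ p = 1) →
      Nat.card (D ⊓ centralizer (zpowers b₀ : Set G) : Subgroup G) ≤ p := by
    intro D hDR he
    refine le_trans (card_le_of_le (K := B ⊓ R) fun x hx => ⟨hRB x (hDR hx.1)
      (mem_centralizer_iff.mp hx.2 _ (mem_zpowers b₀)).symm (he x hx.1), hDR hx.1⟩) ?_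
    obtain ⟨j, hj, hjc⟩ := (Nat.dvd_prime_pow (Fact.out : p.Prime)).mp (hBc ▸ card_dvd_of_le
      (inf_le_left : B ⊓ R ≤ B))
    rw [hjc]
    refine le_trans (Nat.pow_le_pow_right (Fact.out : p.Prime).pos (?_ : j ≤ 1)) (pow_one p).le
    by_contra hj1
    have : B ⊓ R = B := eq_of_le_of_card_ge inf_le_left (by rw [hjc, hBc, show j = 2 by omega])
    exact hb₀R (this.ge hb₀).2
  -- a minimal invariant subgroup of `R` not centralised by `Q`
  let S : Set (Subgroup G) := {D | D ≤ R ∧ b₀ ∈ normalizer (D : Set G) ∧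
    Q ≤ normalizer (D : Set G) ∧ ¬ Q ≤ centralizer (D : Set G)}
  obtain ⟨D, hD⟩ := (Set.toFinite S).exists_minimal ⟨R, le_rfl, hRn b₀, fun g _ => hRn g, fun h =>
    hQne (by rw [eq_bot_iff, ← hQR]; exact le_inf le_rfl (h.trans hCR))⟩
  obtain ⟨hDR, hbD, hQD, hQnc⟩ := hD.1
  have hDp : IsPGroup p D := hR.to_le hDR
  have hDne : D ≠ ⊥ := fun h => hQnc (by
    rw [h]; exact le_centralizer_iff.mpr bot_le)
  have hmin : ∀ E ≤ D, E ≠ D → b₀ ∈ normalizer (E : Set G) → Q ≤ normalizer (E : Set G) →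
      Q ≤ centralizer (E : Set G) := by
    intro E hED hne h1 h2
    by_contra h3
    exact hne (le_antisymm hED (hD.2 (y := E) ⟨hED.trans hDR, h1, h2, h3⟩ hED))
  have hcop : (Nat.card Q).Coprime (Nat.card D) := by
    obtain ⟨j, hj⟩ := hDp.exists_card_eq
    rw [hj]; exact hQ.pow_right j
  have hQn : zpowers b₀ ≤ normalizer (Q : Set G) := zpowers_le.mpr (hinv hb₀)
  have hDQ : ⁅D, Q⁆ = D := by
    by_contra h
    have h1 := hmin _ (Coprime.commutator_le_of_le_normalizer hQD) h
      (Coprime.le_normalizer_commutator (zpowers_le.mpr hbD) hQn (mem_zpowers b₀))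
      (Coprime.le_normalizer_commutator hQD le_normalizer)
    have h2 := Coprime.commutator_eq_bot_of_commutator_commutator_eq_bot hQD hcop
      (commutator_eq_bot_iff_le_centralizer.mpr (le_centralizer_iff.mp h1))
    exact hQnc (le_centralizer_iff.mp (commutator_eq_bot_iff_le_centralizer.mp h2))
  have hder : ⁅D, D⁆ ≠ D :=
    (Coprime.commutator_lt_of_isPGroup hDp hDp le_normalizer hDne).ne
  have hQc : Q ≤ centralizer ((⁅D, D⁆ : Subgroup G) : Set G) := hmin _ (commutator_le_self D) hder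
    (Coprime.le_normalizer_commutator (zpowers_le.mpr hbD) (zpowers_le.mpr hbD) (mem_zpowers b₀))
    (Coprime.le_normalizer_commutator hQD hQD)
  have hcen : ⁅D, D⁆ ≤ centralizer (D : Set G) := by
    rw [le_centralizer_iff, ← commutator_eq_bot_iff_le_centralizer]
    conv_lhs => rw [← hDQ]
    rw [hDQ]
    have h1 : ⁅⁅Q, ⁅D, D⁆⁆, D⁆ = ⊥ := by
      rw [commutator_eq_bot_iff_le_centralizer.mpr hQc, commutator_bot_left]
    have h2 : ⁅⁅⁅D, D⁆, D⁆, Q⁆ = ⊥ := by
      rw [commutator_eq_bot_iff_le_centralizer]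
      exact ((commutator_mono (commutator_le_self D) le_rfl).trans (le_centralizer_iff.mp hQc))
    have h3 := commutator_commutator_eq_bot_of_rotate h1 h2
    rw [hDQ] at h3
    exact h3
  have hexp : ∀ x ∈ D, x ^ p = 1 := by
    have hmul : ∀ x ∈ D, ∀ y ∈ D, x ^ p = 1 → y ^ p = 1 → (x * y) ^ p = 1 := by
      intro x hx y hy hxp hyp
      set c := ⁅y⁻¹, x⁻¹⁆ with hc
      have hcD : c ∈ ⁅D, D⁆ := commutator_mem_commutator (inv_mem hy) (inv_mem hx)
      have hcc : ∀ w ∈ D, w * c = c * w := fun w hw => mem_centralizer_iff.mp (hcen hcD) w hw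
      have hyx : y * x = x * y * c := by rw [hc, commutatorElement_def]; group
      have hcp : c ^ p = 1 := by
        have key : ∀ m : ℕ, y * x ^ m = x ^ m * y * c ^ m := by
          intro m
          induction m with
          | zero => simp
          | succ m ih =>
            have hcx : Commute (c ^ m) x := (show Commute c x from (hcc x hx).symm).pow_left m
            calc y * x ^ (m + 1) = (y * x ^ m) * x := by rw [pow_succ, mul_assoc]
              _ = x ^ m * y * (c ^ m * x) := by rw [ih]; simp only [mul_assoc]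
              _ = x ^ m * (y * x) * c ^ m := by rw [hcx.eq]; simp only [mul_assoc]
              _ = x ^ (m + 1) * y * c ^ (m + 1) := by
                rw [hyx, pow_succ x m, pow_succ' c m]; simp only [mul_assoc]
        simpa [hxp] using key p
      rw [CoprimeOmega.mul_pow_of_commute hyx (hcc x hx).symm (hcc y hy).symm, hxp, hyp, one_mul,
        one_mul]
      obtain ⟨k, hk⟩ : p ∣ p.choose 2 := (Fact.out : p.Prime).dvd_choose_self (by norm_num)
        (lt_of_le_of_ne (Fact.out : p.Prime).two_le hp.symm)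
      rw [hk, pow_mul, hcp, one_pow]
    let W : Subgroup G :=
      { carrier := {x | x ∈ D ∧ x ^ p = 1}
        one_mem' := ⟨one_mem _, one_pow p⟩
        mul_mem' := fun {x y} hx hy => ⟨mul_mem hx.1 hy.1, hmul x hx.1 y hy.1 hx.2 hy.2⟩
        inv_mem' := fun {x} hx => ⟨inv_mem hx.1, by rw [inv_pow, hx.2, inv_one]⟩ }
    by_contra hne
    have hWn : ∀ g ∈ normalizer (D : Set G), g ∈ normalizer (W : Set G) := fun g hg =>
      Coprime.le_normalizer_of_conj_mem (L := W) (A := normalizer (D : Set G))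
        (fun a ha x hx => ⟨conj_mem ha hx.1, by rw [conj_pow, hx.2, mul_one, mul_inv_cancel]⟩) hg
    have hWD : W ≠ D := fun e => hne fun x hx => (e.ge hx).2
    have h1 := hmin W (fun x hx => hx.1) hWD (hWn _ hbD) (fun g hg => hWn g (hQD hg))
    refine hQnc fun u hu => mem_centralizer_iff.mpr fun x hx => ?_
    exact (CoprimeOmega.commute_of_commute_order_p hp (a := u)
      (hQ.coprime_dvd_left (Subgroup.orderOf_dvd_natCard Q hu)) hDp (fun y hy => conj_mem (hQD hu) hy)
      (fun y hy hyp => (mem_centralizer_iff.mp (h1 hu) y ⟨hy, hyp⟩).symm) x hx).symm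
  have hab := derived_eq_bot hp hb₀p hb₁ hQ hDp hbD hQD (hinv hb₀) hfpf hexp hcen hQc hDQ
    (hFcard D hDR hexp)
  haveI : IsMulCommutative D :=
    le_centralizer_iff_isMulCommutative.mp (commutator_eq_bot_iff_le_centralizer.mp hab)
  obtain ⟨z, hzD, hz1, hzp, hzb⟩ := exists_fixed hb₀p hDp hDne hbD
  have h := Coprime.inf_centralizer_inf_commutator_eq_bot hQD hcop
  rw [hDQ] at h
  exact hz1 (mem_bot.mp (h ▸ ⟨⟨hzD, mem_centralizer_iff.mpr fun u hu =>
    hQC z (hDR hzD) hzb hzp u hu⟩, hzD⟩))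


/-- Let p be an odd prime, G a finite p-solvable group, and B an elementary abelian subgroup of order p² such that B is the subgroup generated by the elements of order p of some Sylow p-subgroup of C_G(b₀), for some nontrivial b₀ ∈ B. Then every B-invariant subgroup of G of order prime to p lies in O_{p'}(G). -/
theorem result {G : Type*} [Group G] [Finite G] {p : ℕ} [Fact p.Prime] (hp : p ≠ 2)
    (hG : Cfsg.IsPSolvable p G) (B : Subgroup G) (hB : Cfsg.IsElementaryAbelian p B) (hBc : Nat.card B = p ^ 2)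
    (b₀ : G) (hb₀ : b₀ ∈ B) (hb₁ : b₀ ≠ 1) (P : Sylow p ↥(Subgroup.centralizer ({b₀} : Set G)))
    (hBP : B = Subgroup.closure {x : G | x ∈ ((P : Subgroup ↥(Subgroup.centralizer ({b₀} : Set G))).map
      (Subgroup.centralizer ({b₀} : Set G)).subtype : Subgroup G) ∧ orderOf x = p})
    (Q : Subgroup G) (hQ : ¬ p ∣ Nat.card Q) (hinv : ∀ b ∈ B, ∀ x ∈ Q, b * x * b⁻¹ ∈ Q) :
    Q ≤ Cfsg.pPrimeCore p G := by
  have hQp : (Nat.card Q).Coprime p := ((Fact.out : p.Prime).coprime_iff_not_dvd.mpr hQ).symm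
  have hb₀p : b₀ ^ p = 1 := hB.2 _ hb₀
  have hBC : B ≤ (Subgroup.centralizer ({b₀} : Set G)) := fun x hx => mem_centralizer_singleton_iff.mpr
    (congrArg Subtype.val (hB.1.is_comm.comm (⟨x, hx⟩ : B) ⟨b₀, hb₀⟩))
  have hstar : ∀ S : Subgroup G, IsPGroup p S → B ≤ S → S ≤ (Subgroup.centralizer ({b₀} : Set G)) → ∀ x ∈ S, x ^ p = 1 → x ∈ B := by
    intro S hS hBS hSC x hx hxp
    obtain ⟨P', hP'⟩ := (hS.comap_of_injective (Subgroup.centralizer ({b₀} : Set G)).subtype (Subgroup.subtype_injective _)).exists_le_sylow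
    obtain ⟨c, hc⟩ := MulAction.exists_smul_eq (Subgroup.centralizer ({b₀} : Set G)) P' P
    have key : ∀ y ∈ S, y ^ p = 1 → (c : G) * y * (c : G)⁻¹ ∈ B := by
      intro y hy hyp
      rcases eq_or_ne y 1 with rfl | hy1
      · simp
      rw [hBP]
      refine subset_closure ⟨⟨c * ⟨y, hSC hy⟩ * c⁻¹, ?_, by simp⟩, ?_⟩
      · rw [← hc, SetLike.mem_coe, Sylow.coe_subgroup_smul]
        exact smul_mem_pointwise_smul _ (MulAut.conj c) _ (hP' (show y ∈ S from hy))
      · rw [← MulAut.conj_apply, MulEquiv.orderOf_eq]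
        exact orderOf_eq_prime hyp hy1
    have e : B.map (MulAut.conj (c : G)).toMonoidHom = B := eq_of_le_of_card_ge
      (by rintro _ ⟨y, hy, rfl⟩; exact key y (hBS hy) (hB.2 y hy))
      (by rw [card_map_of_injective (MulEquiv.injective _)])
    obtain ⟨y, hy, e'⟩ := e.ge (key x hx hxp)
    rwa [← (MulEquiv.injective _ e' : y = x)]
  set N := Cfsg.pPrimeCore p G
  haveI : N.Normal := inferInstance
  have hNp : (Nat.card N).Coprime p := PSolvable.pPrimeCore_coprime
  let π := QuotientGroup.mk' N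
  have hkeep : ∀ x : G, x ^ p = 1 → π x = 1 → x = 1 := by
    intro x hx hπ
    rw [QuotientGroup.mk'_apply, QuotientGroup.eq_one_iff] at hπ
    exact orderOf_eq_one_iff.mp (Nat.eq_one_of_dvd_coprimes hNp
      (Subgroup.orderOf_dvd_natCard N hπ) (orderOf_dvd_of_pow_eq_one hx))
  have hinj : Set.InjOn π B := fun x hx y hy e => mul_inv_eq_one.mp
    (hkeep _ (hB.2 _ (mul_mem hx (inv_mem hy))) (by rw [map_mul, map_inv, e, mul_inv_cancel]))
  have hb1 : π b₀ ≠ 1 := fun h => hb₁ (hkeep _ hb₀p h)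
  have hB' : Cfsg.IsElementaryAbelian p (B.map π) := by
    refine ⟨⟨⟨?_⟩⟩, ?_⟩
    · rintro ⟨_, x, hx, rfl⟩ ⟨_, y, hy, rfl⟩
      refine Subtype.ext ?_
      show π x * π y = π y * π x
      rw [← map_mul, ← map_mul]
      exact congrArg π (congrArg Subtype.val (hB.1.is_comm.comm (⟨x, hx⟩ : B) ⟨y, hy⟩))
    · rintro _ ⟨x, hx, rfl⟩
      rw [← map_pow, hB.2 x hx, map_one]
  have hBc' : Nat.card (B.map π) = p ^ 2 := by
    rw [← hBc]
    exact (Nat.card_congr (Equiv.Set.imageOfInjOn π B hinj)).symm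
  have := core hp (PSolvable.isPSolvable_quotient hG N) PSolvable.pPrimeCore_quotient_eq_bot
    hB' hBc' (mem_map_of_mem π hb₀) hb1 ?_ (Q := Q.map π)
    (hQp.coprime_dvd_left (card_map_dvd _ _)) ?_
  · rwa [Subgroup.map_eq_bot_iff, QuotientGroup.ker_mk'] at this
  · intro S hS hBS x hx hxb hxp
    set S1 := S.comap π
    have hBS1 : B ≤ S1 := map_le_iff_le_comap.mp hBS
    obtain ⟨P0, hP0⟩ := ((IsPGroup.of_card hBc).comap_of_injective S1.subtype
      S1.subtype_injective).exists_le_sylow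
    set S0 := (P0 : Subgroup S1).map S1.subtype
    have hS0 : IsPGroup p S0 := P0.2.map _
    have hBS0 : B ≤ S0 := fun y hy => ⟨⟨y, hBS1 hy⟩, hP0 hy, rfl⟩
    have htriv : ∀ y ∈ S0, π y = 1 → y = 1 := by
      intro y hy hπ
      rw [QuotientGroup.mk'_apply, QuotientGroup.eq_one_iff] at hπ
      exact mem_bot.mp (PSolvable.eq_bot_of_isPGroup_of_coprime (hS0.to_le inf_le_left)
        (hNp.coprime_dvd_left (card_dvd_of_le inf_le_right)) ▸ (⟨hy, hπ⟩ : y ∈ S0 ⊓ N))
    obtain ⟨y, hy, hyx⟩ : ∃ y ∈ S0, π y = x := by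
      let f : S1 →* S := π.subgroupComap S
      have hf : Function.Surjective f :=
        MonoidHom.subgroupComap_surjective_of_surjective π S (QuotientGroup.mk'_surjective N)
      have htop : ((P0.mapSurjective hf : Sylow p S) : Subgroup S) = ⊤ := by
        obtain ⟨j, hj⟩ := hS.exists_card_eq
        refine eq_top_of_card_eq _ ?_
        rw [Sylow.card_eq_multiplicity, hj, Nat.factorization_pow, Finsupp.smul_apply,
          (Fact.out : p.Prime).factorization_self, smul_eq_mul, mul_one]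
      obtain ⟨u, hu, hux⟩ := (htop.ge (mem_top (⟨x, hx⟩ : S)) :
        (⟨x, hx⟩ : S) ∈ (P0 : Subgroup S1).map f)
      exact ⟨u, ⟨u, hu, rfl⟩, congrArg Subtype.val hux⟩
    have hyp : y ^ p = 1 := htriv _ (pow_mem hy p) (by rw [map_pow, hyx, hxp])
    have hyb : y * b₀ * y⁻¹ * b₀⁻¹ = 1 :=
      htriv _ (mul_mem (mul_mem (mul_mem hy (hBS0 hb₀)) (inv_mem hy)) (inv_mem (hBS0 hb₀)))
        (by rw [map_mul, map_mul, map_mul, map_inv, map_inv, hyx, hxb]; group)
    have hyC : y ∈ (Subgroup.centralizer ({b₀} : Set G)) := mem_centralizer_singleton_iff.mpr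
      (mul_inv_eq_iff_eq_mul.mp (mul_inv_eq_one.mp hyb))
    have hyB : y ∈ B := hstar (S0 ⊓ (Subgroup.centralizer ({b₀} : Set G))) (hS0.to_le inf_le_left) (le_inf hBS0 hBC) inf_le_right y
      ⟨hy, hyC⟩ hyp
    exact ⟨y, hyB, hyx⟩
  · rintro _ ⟨b, hb, rfl⟩
    refine Subgroup.le_normalizer_map π ⟨b, ?_, rfl⟩
    exact Coprime.le_normalizer_of_conj_mem (A := B) hinv hb

end Cfsg.Agent.S1902
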