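import Cfsg.Statements.S1903
import Cfsg.Agent.Lib.Unitary3.SuzukiTwo
import Cfsg.Agent.Lib.Coprime.Glauberman
import Cfsg.Agent.Lib.Coprime.Sylow
import Cfsg.Agent.Lib.CoprimeOmega.Basic
import Cfsg.Agent.Lib.Components.Basic
import Cfsg.Agent.Lib.Components.Subnormal
-- import your own Cfsg.Agent.* helpers here

set_option autoImplicit false
open Cfsg

namespace Cfsg.Agent.S1903


open Subgroup Cfsg.Agent.Lib
open scoped commutatorElement Pointwise Matrix

set_option linter.style.haveILetI false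
set_option linter.unusedSectionVars false

section Uniqueness

/-- Generators and relations determining the group. -/
structure Gen (G : Type*) [Group G] where
  x : G
  s : G
  c1 : G
  c2 : G
  card : Nat.card G = 320
  s5 : s ^ 5 = 1
  h1 : ⁅x, s * x * s⁻¹⁆ = c1
  h2 : ⁅x, s ^ 2 * x * (s ^ 2)⁻¹⁆ = c2
  h3 : ⁅x, s ^ 3 * x * (s ^ 3)⁻¹⁆ = c2
  hu : x ^ 2 = c1 * c2
  hprod : x * (s * x * s⁻¹) * (s ^ 2 * x * (s ^ 2)⁻¹) * (s ^ 3 * x * (s ^ 3)⁻¹) *
    (s ^ 4 * x * (s ^ 4)⁻¹) = 1
  c1sq : c1 ^ 2 = 1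
  c2sq : c2 ^ 2 = 1
  c1cen : c1 ∈ center G
  c2cen : c2 ∈ center G
  gen : closure {x, s} = ⊤

variable {G : Type*} [Group G]

theorem card_sup_zpowers_le [Finite G] {A : Subgroup G} {y : G} (hy : y ∈ normalizer (A : Set G))
    {n : ℕ} (hn : 0 < n) (hpow : y ^ n ∈ A) :
    Nat.card (A ⊔ zpowers y : Subgroup G) ≤ Nat.card A * n := by
  have hn' : zpowers y ≤ normalizer (A : Set G) := zpowers_le.mpr hy
  have hmem : ∀ z : (A ⊔ zpowers y : Subgroup G), ∃ q : A × Fin n, (q.1 : G) * y ^ (q.2 : ℕ) = z := by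
    intro z
    obtain ⟨a, ha, _, ⟨k, rfl⟩, hz⟩ : (z : G) ∈ (A : Set G) * (zpowers y : Set G) := by
      rw [← coe_mul_of_right_le_normalizer_left _ _ hn']; exact z.2
    have hk0 : 0 ≤ k % (n : ℤ) := Int.emod_nonneg _ (by exact_mod_cast hn.ne')
    have hk1 : k % (n : ℤ) < n := Int.emod_lt_of_pos _ (by exact_mod_cast hn)
    refine ⟨(⟨a * (y ^ n) ^ (k / (n : ℤ)), mul_mem ha (zpow_mem hpow _)⟩,
      ⟨(k % (n : ℤ)).toNat, by omega⟩), ?_⟩
    show a * (y ^ n) ^ (k / (n : ℤ)) * y ^ (k % (n : ℤ)).toNat = z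
    rw [← hz, ← zpow_natCast y (k % (n : ℤ)).toNat, Int.toNat_of_nonneg hk0, mul_assoc, ← zpow_natCast,
      ← zpow_mul, ← zpow_add, Int.mul_ediv_add_emod]
  choose f hf using hmem
  refine (Nat.card_le_card_of_injective f fun a b e => Subtype.ext ?_).trans (le_of_eq ?_)
  · rw [← hf a, ← hf b, e]
  · rw [Nat.card_prod, Nat.card_fin]

/-- The bound on the group generated by such generators. -/
theorem card_closure_le [Finite G] {x s c1 c2 : G} (s5 : s ^ 5 = 1) (h1 : ⁅x, s * x * s⁻¹⁆ = c1)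
    (h2 : ⁅x, s ^ 2 * x * (s ^ 2)⁻¹⁆ = c2) (h3 : ⁅x, s ^ 3 * x * (s ^ 3)⁻¹⁆ = c2)
    (hu : x ^ 2 = c1 * c2)
    (hprod : x * (s * x * s⁻¹) * (s ^ 2 * x * (s ^ 2)⁻¹) * (s ^ 3 * x * (s ^ 3)⁻¹) *
      (s ^ 4 * x * (s ^ 4)⁻¹) = 1)
    (c1sq : c1 ^ 2 = 1) (c2sq : c2 ^ 2 = 1) (k1 : ∀ g ∈ ({x, s} : Set G), g * c1 = c1 * g)
    (k2 : ∀ g ∈ ({x, s} : Set G), g * c2 = c2 * g) :
    Nat.card (closure ({x, s} : Set G)) ≤ 320 := by
  set X : ℕ → G := fun i => s ^ i * x * (s ^ i)⁻¹ with hX
  have hX0 : X 0 = x := by simp [X]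
  have hcs : ∀ c : G, (∀ g ∈ ({x, s} : Set G), g * c = c * g) →
      (∀ i, Commute c (X i)) ∧ Commute c x ∧ Commute c s := fun c h => by
    have h' : Commute c x := (h x (by simp)).symm
    have h'' : Commute c s := (h s (by simp)).symm
    exact ⟨fun i => ((h''.pow_right i).mul_right h').mul_right (h''.pow_right i).inv_right, h', h''⟩
  obtain ⟨hc1X, hc1x, hc1s⟩ := hcs c1 k1
  obtain ⟨hc2X, hc2x, hc2s⟩ := hcs c2 k2
  have hc12 : Commute c1 c2 := by
    rw [← h2, commutatorElement_def]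
    have := hc1X 2
    exact ((hc1x.mul_right this).mul_right hc1x.inv_right).mul_right this.inv_right
  set Γ := (⊥ ⊔ zpowers c1) ⊔ zpowers c2
  have hΓn : ∀ g, Commute c1 g → Commute c2 g → g ∈ normalizer (Γ : Set G) := by
    intro g e1 e2
    refine Components.centralizer_le_normalizer_self Γ ?_
    have : Γ ≤ centralizer ({g} : Set G) := by
      simp only [Γ, bot_sup_eq]
      exact sup_le (zpowers_le.mpr (mem_centralizer_singleton_iff.mpr e1.eq))
        (zpowers_le.mpr (mem_centralizer_singleton_iff.mpr e2.eq))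
    exact mem_centralizer_iff.mpr fun z hz => mem_centralizer_singleton_iff.mp (this hz)
  have hΓ : Nat.card Γ ≤ 4 := by
    refine (card_sup_zpowers_le (n := 2) ?_ two_pos (by rw [c2sq]; exact one_mem _)).trans
      (Nat.mul_le_mul_right 2 ((card_sup_zpowers_le (A := ⊥) (y := c1) (n := 2) ?_ two_pos
        (by rw [c1sq]; exact one_mem _)).trans (le_of_eq (by simp : _ = 2))))
    · refine Components.centralizer_le_normalizer_self _ (mem_centralizer_iff.mpr fun z hz => ?_)
      have hle : ⊥ ⊔ zpowers c1 ≤ centralizer ({c2} : Set G) :=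
        sup_le bot_le (zpowers_le.mpr (mem_centralizer_singleton_iff.mpr hc12.eq))
      exact mem_centralizer_singleton_iff.mp (hle hz)
    · refine Components.centralizer_le_normalizer_self _ (mem_centralizer_iff.mpr fun z hz => ?_)
      rw [SetLike.mem_coe, mem_bot] at hz
      simp [hz]
  have hc1Γ : c1 ∈ Γ := mem_sup_left (mem_sup_right (mem_zpowers _))
  have hc2Γ : c2 ∈ Γ := mem_sup_right (mem_zpowers _)
  have hcomm : ∀ i d, ⁅X i, X (i + d)⁆ = s ^ i * ⁅x, X d⁆ * (s ^ i)⁻¹ := by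
    intro i d
    rw [conjugate_commutatorElement]
    congr 1
    simp only [X, pow_add]; group
  have hcΓ : ∀ i d, 1 ≤ d → d ≤ 3 → ⁅X i, X (i + d)⁆ ∈ Γ := by
    intro i d hd1 hd3
    rw [hcomm]
    have hfix : ∀ c, Commute c s → c ∈ Γ → s ^ i * c * (s ^ i)⁻¹ ∈ Γ := fun c hc hm => by
      rwa [← (hc.pow_right i).eq, mul_inv_cancel_right]
    interval_cases d
    · rw [show X 1 = s * x * s⁻¹ by simp [X], h1]; exact hfix c1 hc1s hc1Γ
    · rw [show X 2 = s ^ 2 * x * (s ^ 2)⁻¹ from rfl, h2]; exact hfix c2 hc2s hc2Γ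
    · rw [show X 3 = s ^ 3 * x * (s ^ 3)⁻¹ from rfl, h3]; exact hfix c2 hc2s hc2Γ
  have hsq : ∀ i, X i ^ 2 ∈ Γ := by
    intro i
    rw [conj_pow, hu, ← ((hc1s.mul_left hc2s).pow_right i).eq, mul_inv_cancel_right]
    exact mul_mem hc1Γ hc2Γ
  let A : ℕ → Subgroup G := fun i =>
    Nat.rec (motive := fun _ => Subgroup G) Γ (fun j a => a ⊔ zpowers (X j)) i
  have hA : ∀ i, A (i + 1) = A i ⊔ zpowers (X i) := fun i => rfl
  have hmono : ∀ i, Γ ≤ A i := fun i => by
    induction i with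
    | zero => exact le_rfl
    | succ i ih => exact ih.trans le_sup_left
  have hXA : ∀ i j, j < i → X j ∈ A i := fun i => by
    induction i with
    | zero => intro j hj; omega
    | succ i ih =>
      intro j hj
      rcases Nat.lt_succ_iff_lt_or_eq.mp hj with h | h
      · exact mem_sup_left (ih j h)
      · exact h ▸ mem_sup_right (mem_zpowers _)
  have hgen : ∀ i ≤ 4, ∀ H : Subgroup G, Γ ≤ H → (∀ j < i, X j ∈ H) → A i ≤ H := fun i => by
    induction i with
    | zero => intro _ H hH _; exact hH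
    | succ i ih =>
      intro hi H hH hXH
      exact sup_le (ih (by omega) H hH fun j hj => hXH j (by omega)) (zpowers_le.mpr (hXH i (by omega)))
  have hAn : ∀ i ≤ 3, X i ∈ normalizer (((A i : Subgroup G)) : Set G) := by
    intro i hi
    have hfin : ∀ z ∈ A i, X i * z * (X i)⁻¹ ∈ A i := by
      let W : Subgroup G := (A i).comap (MulAut.conj (X i)).toMonoidHom
      have : A i ≤ W := by
        refine hgen i (by omega) W (fun z hz => ?_) fun j hj => ?_
        · exact hmono i ((mem_normalizer_iff.mp (hΓn _ (hc1X i) (hc2X i)) z).mp hz)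
        · obtain ⟨d, rfl⟩ : ∃ d, i = j + d := ⟨i - j, by omega⟩
          show X (j + d) * X j * (X (j + d))⁻¹ ∈ A (j + d)
          have e : X (j + d) * X j * (X (j + d))⁻¹ = ⁅X j, X (j + d)⁆⁻¹ * X j := by
            rw [commutatorElement_def]; group
          rw [e]
          exact mul_mem (inv_mem (hmono _ (hcΓ j d (by omega) (by omega)))) (hXA _ j hj)
      exact this
    exact (Coprime.le_normalizer_of_conj_mem (A := zpowers (X i)) fun a ha z hz => by
      obtain ⟨k, rfl⟩ := (isOfFinOrder_of_finite (X i)).mem_powers_iff_mem_zpowers.mpr ha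
      show X i ^ k * z * (X i ^ k)⁻¹ ∈ A i
      induction k with
      | zero => simpa using hz
      | succ k ih =>
        have := hfin _ (ih (pow_mem (mem_zpowers _) k))
        simpa [pow_succ', mul_assoc] using this) (mem_zpowers _)
  have hcard : ∀ i ≤ 4, Nat.card (A i) ≤ 4 * 2 ^ i := fun i => by
    induction i with
    | zero => intro _; simpa [A] using hΓ
    | succ i ih =>
      intro hi
      rw [hA]
      refine (card_sup_zpowers_le (hAn i (by omega)) two_pos (hmono i (hsq i))).trans ?_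
      rw [pow_succ, ← mul_assoc]
      exact Nat.mul_le_mul_right 2 (ih (by omega))
  have hX4 : X 4 ∈ A 4 := by
    have e : X 4 = (X 0 * X 1 * X 2 * X 3)⁻¹ := eq_inv_of_mul_eq_one_right (by simpa [X] using hprod)
    rw [e]
    exact inv_mem (mul_mem (mul_mem (mul_mem (hXA 4 0 (by omega)) (hXA 4 1 (by omega)))
      (hXA 4 2 (by omega))) (hXA 4 3 (by omega)))
  have hsn : s ∈ normalizer (((A 4 : Subgroup G)) : Set G) := by
    have hstep : ∀ z ∈ A 4, s * z * s⁻¹ ∈ A 4 := by
      have : A 4 ≤ (A 4).comap (MulAut.conj s).toMonoidHom := by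
        refine hgen 4 le_rfl _ (fun z hz => hmono 4 ((mem_normalizer_iff.mp (hΓn s hc1s hc2s) z).mp hz))
          fun j hj => ?_
        show s * X j * s⁻¹ ∈ A 4
        rw [show s * X j * s⁻¹ = X (j + 1) by simp only [X, pow_succ']; group]
        rcases (show j + 1 < 4 ∨ j + 1 = 4 by omega) with h | h
        · exact hXA 4 _ h
        · rw [h]; exact hX4
      exact this
    exact (Coprime.le_normalizer_of_conj_mem (A := zpowers s) fun a ha z hz => by
      obtain ⟨k, rfl⟩ := (isOfFinOrder_of_finite s).mem_powers_iff_mem_zpowers.mpr ha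
      show s ^ k * z * (s ^ k)⁻¹ ∈ A 4
      induction k with
      | zero => simpa using hz
      | succ k ih =>
        have := hstep _ (ih (pow_mem (mem_zpowers _) k))
        simpa [pow_succ', mul_assoc] using this) (mem_zpowers _)
  refine (card_le_of_le (K := A 4 ⊔ zpowers s) ?_).trans
    ((card_sup_zpowers_le hsn (n := 5) (by norm_num) (by rw [s5]; exact one_mem _)).trans
      (Nat.mul_le_mul_right 5 (hcard 4 le_rfl)))
  rw [closure_le]
  rintro g (rfl | rfl)
  · exact mem_sup_left (hX0 ▸ hXA 4 0 (by omega))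
  · exact mem_sup_right (mem_zpowers _)

theorem nonempty_equiv {H : Type*} [Group H] [Finite G] [Finite H] (a : Gen G) (b : Gen H) :
    Nonempty (G ≃* H) := by
  set D : Subgroup (G × H) := closure {(a.x, b.x), (a.s, b.s)}
  have hD : Nat.card D ≤ 320 := by
    refine card_closure_le (c1 := (a.c1, b.c1)) (c2 := (a.c2, b.c2)) ?_ ?_ ?_ ?_ ?_ ?_ ?_ ?_ ?_ ?_
    · exact Prod.ext (by simpa using a.s5) (by simpa using b.s5)
    · exact Prod.ext (by simpa [commutatorElement_def] using a.h1) (by simpa [commutatorElement_def] using b.h1)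
    · exact Prod.ext (by simpa [commutatorElement_def] using a.h2) (by simpa [commutatorElement_def] using b.h2)
    · exact Prod.ext (by simpa [commutatorElement_def] using a.h3) (by simpa [commutatorElement_def] using b.h3)
    · exact Prod.ext (by simpa using a.hu) (by simpa using b.hu)
    · exact Prod.ext (by simpa using a.hprod) (by simpa using b.hprod)
    · exact Prod.ext (by simpa using a.c1sq) (by simpa using b.c1sq)
    · exact Prod.ext (by simpa using a.c2sq) (by simpa using b.c2sq)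
    · exact fun g _ => Prod.ext (mem_center_iff.mp a.c1cen g.1) (mem_center_iff.mp b.c1cen g.2)
    · exact fun g _ => Prod.ext (mem_center_iff.mp a.c2cen g.1) (mem_center_iff.mp b.c2cen g.2)
  let fG : D →* G := (MonoidHom.fst G H).comp D.subtype
  let fH : D →* H := (MonoidHom.snd G H).comp D.subtype
  have sG : Function.Surjective fG := MonoidHom.range_eq_top.mp (by
    rw [eq_top_iff, ← a.gen, closure_le]
    rintro g (rfl | rfl)
    · exact ⟨⟨(a.x, b.x), subset_closure (by simp)⟩, rfl⟩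
    · exact ⟨⟨(a.s, b.s), subset_closure (by simp)⟩, rfl⟩)
  have sH : Function.Surjective fH := MonoidHom.range_eq_top.mp (by
    rw [eq_top_iff, ← b.gen, closure_le]
    rintro g (rfl | rfl)
    · exact ⟨⟨(a.x, b.x), subset_closure (by simp)⟩, rfl⟩
    · exact ⟨⟨(a.s, b.s), subset_closure (by simp)⟩, rfl⟩)
  have bG : Function.Bijective fG := (Nat.bijective_iff_surjective_and_card fG).mpr
    ⟨sG, le_antisymm (hD.trans a.card.ge) (Nat.card_le_card_of_surjective fG sG)⟩
  have bH : Function.Bijective fH := (Nat.bijective_iff_surjective_and_card fH).mpr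
    ⟨sH, le_antisymm (hD.trans b.card.ge) (Nat.card_le_card_of_surjective fH sH)⟩
  exact ⟨(MulEquiv.ofBijective fG bG).symm.trans (MulEquiv.ofBijective fH bH)⟩

theorem fixed_mod [Finite G] {W : Subgroup G} {s : G} (hs : orderOf s = 5)
    (hW : s ∈ normalizer (W : Set G)) :
    Nat.card W ≡ Nat.card (W ⊓ centralizer (zpowers s : Set G) : Subgroup G) [MOD 5] := by
  haveI : Fact (Nat.Prime 5) := ⟨Nat.prime_five⟩
  letI : MulAction (zpowers s) W := MulAction.compHom W (Coprime.conjAut (zpowers_le.mpr hW))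
  have h5 : IsPGroup 5 (zpowers s) := IsPGroup.of_card (n := 1) (by rw [Nat.card_zpowers, hs, pow_one])
  refine (h5.card_modEq_card_fixedPoints W).trans ?_
  rw [Nat.card_congr (α := MulAction.fixedPoints (zpowers s) W)
    (β := (W ⊓ centralizer (zpowers s : Set G) : Subgroup G))
    { toFun := fun w => ⟨((w : W) : G), (w : W).2, mem_centralizer_iff.mpr fun z hz =>
        mul_inv_eq_iff_eq_mul.mp (congrArg Subtype.val (w.2 ⟨z, hz⟩))⟩
      invFun := fun w => ⟨⟨(w : G), w.2.1⟩, fun z => Subtype.ext (by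
        show (z : G) * w * (z : G)⁻¹ = w
        rw [mem_centralizer_iff.mp w.2.2 z z.2, mul_inv_cancel_right])⟩
      left_inv := fun w => rfl
      right_inv := fun w => rfl }]

theorem commutator_mul_right {x a b : G} (h : Commute a ⁅x, b⁆) : ⁅x, a * b⁆ = ⁅x, a⁆ * ⁅x, b⁆ := by
  have e : ⁅x, a * b⁆ = ⁅x, a⁆ * (a * ⁅x, b⁆ * a⁻¹) := by simp only [commutatorElement_def]; group
  rw [e, h.eq, mul_inv_cancel_right]

theorem mul_sq {a b : G} (ha : Commute a ⁅b, a⁆) (hb : Commute b ⁅b, a⁆) :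
    (a * b) ^ 2 = a ^ 2 * b ^ 2 * ⁅b, a⁆ := by
  calc (a * b) ^ 2 = a * (⁅b, a⁆ * (a * b)) * b := by
        rw [pow_two]; simp only [commutatorElement_def]; group
    _ = a * ((a * b) * ⁅b, a⁆) * b := by rw [(ha.mul_left hb).eq]
    _ = a * a * b * (⁅b, a⁆ * b) := by simp only [mul_assoc]
    _ = a * a * b * (b * ⁅b, a⁆) := by rw [hb.eq]
    _ = a ^ 2 * b ^ 2 * ⁅b, a⁆ := by simp only [pow_two, mul_assoc]

end Uniqueness

section Structure

/-- The derivation of the generators. -/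
theorem exists_gen {G : Type*} [Group G] [Finite G] {P : Subgroup G} (hG : Nat.card G = 320)
    (hP : Nat.card P = 64) (hder : ⁅(⊤ : Subgroup G), ⊤⁆ = P)
    (hZc : Nat.card (center P) = 4) (hZe : ∀ z ∈ center P, z ^ 2 = 1) : Nonempty (Gen G) := by
  haveI : Fact (Nat.Prime 2) := ⟨Nat.prime_two⟩
  haveI : Fact (Nat.Prime 5) := ⟨Nat.prime_five⟩
  haveI hPn : P.Normal := hder ▸ inferInstance
  obtain ⟨s, hs⟩ := exists_prime_orderOf_dvd_card' (G := G) 5 (hG ▸ by norm_num)
  have hs5 : s ^ 5 = 1 := hs ▸ pow_orderOf_eq_one s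
  set Z := (center P).map P.subtype with hZdef
  have hZP : Z ≤ P := map_subtype_le _
  have hZ4 : Nat.card Z = 4 := by
    rw [← hZc]; exact card_map_of_injective P.subtype_injective
  have hZ2 : ∀ z ∈ Z, z ^ 2 = 1 := by
    rintro _ ⟨z, hz, rfl⟩
    rw [← map_pow, hZe z hz, map_one]
  have hZcenP : ∀ z ∈ Z, ∀ g ∈ P, g * z = z * g := by
    rintro _ ⟨z, hz, rfl⟩ g hg
    exact congrArg Subtype.val (mem_center_iff.mp hz ⟨g, hg⟩)
  haveI hZn : Z.Normal := by
    refine normalizer_eq_top_iff.mp (top_le_iff.mp ?_)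
    exact (normalizer_eq_top (H := P)).ge.trans
      (Coprime.normalizer_le_normalizer_map_of_characteristic _)
  have hnorm : ∀ K : Subgroup G, [K.Normal] → s ∈ normalizer (K : Set G) := fun K _ => by
    rw [normalizer_eq_top]; trivial
  -- `s` centralises `Z`
  have hZs : ∀ z ∈ Z, Commute z s := by
    have h1 := fixed_mod hs (hnorm Z)
    have h2 : Nat.card (Z ⊓ centralizer (zpowers s : Set G) : Subgroup G) = 4 := by
      have h3 : Nat.card (Z ⊓ centralizer (zpowers s : Set G) : Subgroup G) ≤ 4 :=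
        hZ4 ▸ card_le_of_le inf_le_left
      rw [hZ4] at h1
      unfold Nat.ModEq at h1
      omega
    have h4 : Z ⊓ centralizer (zpowers s : Set G) = Z :=
      eq_of_le_of_card_ge inf_le_left (by rw [h2, hZ4])
    exact fun z hz => (mem_centralizer_iff.mp (h4.ge hz).2 s (mem_zpowers s)).symm
  -- `G = P⟨s⟩`
  have hPs : ∀ K : Subgroup G, P ≤ K → s ∈ K → K = ⊤ := by
    intro K hPK hsK
    refine eq_top_of_card_eq _ (le_antisymm (card_le_card_group _) ?_)
    have h64 : 64 ∣ Nat.card K := hP ▸ card_dvd_of_le hPK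
    have h5 : 5 ∣ Nat.card K := hs ▸ K.orderOf_dvd_natCard hsK
    rw [hG]
    exact Nat.le_of_dvd Nat.card_pos (Nat.Coprime.mul_dvd_of_dvd_of_dvd (m := 64) (n := 5) (by norm_num) h64 h5)
  have hcenG : ∀ z ∈ Z, z ∈ center G := by
    intro z hz
    have h := hPs (centralizer ({z} : Set G))
      (fun g hg => mem_centralizer_singleton_iff.mpr (hZcenP z hz g hg))
      (mem_centralizer_singleton_iff.mpr (hZs z hz).eq.symm)
    exact mem_center_iff.mpr fun g => mem_centralizer_singleton_iff.mp (h.ge (mem_top g))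
  -- an invariant subgroup supplementing `Z` is `P`
  have hsupp : ∀ W : Subgroup G, W ≤ P → s ∈ normalizer (W : Set G) → P ≤ W ⊔ Z → W = P := by
    intro W hWP hWs hsup
    set K := W ⊔ zpowers s with hK
    have htop : K ⊔ Z = ⊤ := hPs _ (hsup.trans (sup_le_sup_right le_sup_left _))
      (mem_sup_left (mem_sup_right (mem_zpowers s)))
    have hPK : P ≤ K := by
      rw [← hder, commutator_le]
      intro g _ h _
      have hmem : ∀ g : G, ∃ k ∈ K, ∃ z ∈ Z, k * z = g := fun g => by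
        have : g ∈ ((K ⊔ Z : Subgroup G) : Set G) := htop.ge (mem_top g)
        rw [mul_normal] at this
        obtain ⟨k, hk, z, hz, e⟩ := this
        exact ⟨k, hk, z, hz, e⟩
      obtain ⟨k, hk, z, hz, rfl⟩ := hmem g
      obtain ⟨l, hl, w, hw, rfl⟩ := hmem h
      have e : ⁅k * z, l * w⁆ = ⁅k, l⁆ := by
        have cz := fun a => mem_center_iff.mp (hcenG z hz) a
        have cw := fun a => mem_center_iff.mp (hcenG w hw) a
        simp only [commutatorElement_def, mul_inv_rev]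
        calc k * z * (l * w) * (z⁻¹ * k⁻¹) * (w⁻¹ * l⁻¹)
            = k * (z * (l * w) * z⁻¹) * k⁻¹ * (w⁻¹ * l⁻¹) := by group
          _ = k * l * (w * k⁻¹ * w⁻¹) * l⁻¹ := by rw [← cz (l * w), mul_inv_cancel_right]; group
          _ = k * l * k⁻¹ * l⁻¹ := by rw [← cw k⁻¹, mul_inv_cancel_right]
      rw [e, commutatorElement_def]
      exact mul_mem (mul_mem (mul_mem hk hl) (inv_mem hk)) (inv_mem hl)
    refine eq_of_le_of_card_ge hWP ?_
    have hK1 : K = ⊤ := hPs K hPK (mem_sup_right (mem_zpowers s))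
    have h1 := card_sup_zpowers_le hWs (n := 5) (by norm_num) (by rw [hs5]; exact one_mem _)
    rw [← hK, hK1, Subgroup.card_top, hG] at h1
    omega
  have hPp : IsPGroup 2 P := IsPGroup.of_card (n := 6) (by rw [hP]; norm_num)
  have hcases : ∀ j : ℕ, j ≤ 6 → 2 ^ j % 5 = 4 → j = 2 ∨ j = 6 := by decide
  have hsub : ∀ W : Subgroup G, W ≤ P → (Nat.card W % 5 = 4) → Nat.card W = 4 ∨ Nat.card W = 64 := by
    intro W hW h
    obtain ⟨j, hj, hjc⟩ := (Nat.dvd_prime_pow Nat.prime_two).mp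
      (show Nat.card W ∣ 2 ^ 6 by norm_num; exact hP ▸ card_dvd_of_le hW)
    rw [hjc] at h ⊢
    rcases hcases j hj h with rfl | rfl <;> norm_num
  have hZfix : Z ≤ centralizer (zpowers s : Set G) := fun z hz => mem_centralizer_iff.mpr fun w hw => by
    obtain ⟨k, rfl⟩ := hw
    exact ((hZs z hz).symm.zpow_left k).eq
  have hCP : P ⊓ centralizer (zpowers s : Set G) = Z := by
    have h1 := fixed_mod hs (hnorm P)
    rw [hP] at h1
    rcases hsub (P ⊓ centralizer (zpowers s : Set G)) inf_le_left (by unfold Nat.ModEq at h1; omega) with h | h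
    · exact (eq_of_le_of_card_ge (le_inf hZP hZfix) (by rw [h, hZ4])).symm
    · exfalso
      have hPc : P ≤ centralizer (zpowers s : Set G) :=
        (eq_of_le_of_card_ge inf_le_left (by rw [h, hP]) : P ⊓ centralizer (zpowers s : Set G) = P).ge.trans
          inf_le_right
      have h2 : ⁅P, P⁆ = P := by
        refine le_antisymm (commutator_le_self P) ?_
        conv_lhs => rw [← hder]
        rw [commutator_le]
        intro a _ b _
        have hKtop : centralizer ({s} : Set G) = ⊤ := hPs _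
          (fun g hg => mem_centralizer_singleton_iff.mpr
            (mem_centralizer_iff.mp (hPc hg) s (mem_zpowers s)).symm)
          (mem_centralizer_singleton_iff.mpr rfl)
        have hsc : ∀ g, Commute g s := fun g => mem_centralizer_singleton_iff.mp (hKtop.ge (mem_top g))
        haveI : (zpowers s).Normal := ⟨fun y hy g => by
          obtain ⟨k, rfl⟩ := hy
          rw [((hsc g).zpow_right k).eq, mul_inv_cancel_right]
          exact zpow_mem (mem_zpowers s) k⟩
        have hmem : ∀ g : G, ∃ x ∈ P, ∃ k : ℤ, x * s ^ k = g := fun g => by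
          have : g ∈ ((P ⊔ zpowers s : Subgroup G) : Set G) :=
            (hPs _ le_sup_left (mem_sup_right (mem_zpowers s))).ge (mem_top g)
          rw [mul_normal] at this
          obtain ⟨x, hx, _, ⟨k, rfl⟩, e⟩ := this
          exact ⟨x, hx, k, e⟩
        obtain ⟨x, hx, i, rfl⟩ := hmem a
        obtain ⟨y, hy, j, rfl⟩ := hmem b
        have e : ⁅x * s ^ i, y * s ^ j⁆ = ⁅x, y⁆ := by
          simp only [commutatorElement_def, mul_inv_rev]
          calc x * s ^ i * (y * s ^ j) * ((s ^ i)⁻¹ * x⁻¹) * ((s ^ j)⁻¹ * y⁻¹)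
              = x * (s ^ i * (y * s ^ j)) * (s ^ i)⁻¹ * x⁻¹ * ((s ^ j)⁻¹ * y⁻¹) := by group
            _ = x * y * ((s ^ j) * x⁻¹) * (s ^ j)⁻¹ * y⁻¹ := by
              rw [← ((hsc (y * s ^ j)).zpow_right i).eq]; group
            _ = x * y * x⁻¹ * y⁻¹ := by rw [← ((hsc x⁻¹).zpow_right j).eq]; group
        rw [e]
        exact commutator_mem_commutator hx hy
      exact (Coprime.commutator_lt_of_isPGroup hPp hPp le_normalizer
        (fun e => by rw [e, Subgroup.card_bot] at hP; omega)).ne h2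
  have hinv : ∀ W : Subgroup G, Z ≤ W → W ≤ P → s ∈ normalizer (W : Set G) → W = Z ∨ W = P := by
    intro W h1 h2 h3
    have h4 := fixed_mod hs h3
    have h5 : W ⊓ centralizer (zpowers s : Set G) = Z :=
      le_antisymm ((inf_le_inf_right _ h2).trans hCP.le) (le_inf h1 hZfix)
    rw [h5, hZ4] at h4
    rcases hsub W h2 h4 with h | h
    · exact Or.inl (eq_of_le_of_card_ge h1 (by rw [h, hZ4])).symm
    · exact Or.inr (eq_of_le_of_card_ge h2 (by rw [h, hP]))
  -- squares and commutators of `P` lie in `Z`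
  set S : Set G := {z | (∃ x ∈ P, z = x ^ 2) ∨ (∃ x ∈ P, ∃ y ∈ P, z = ⁅x, y⁆)}
  have hSP : closure S ≤ P := (closure_le _).mpr (by
    rintro z (⟨x, hx, rfl⟩ | ⟨x, hx, y, hy, rfl⟩)
    · exact pow_mem hx 2
    · exact commutator_le_self P (commutator_mem_commutator hx hy))
  haveI : (closure S).Normal := by
    refine ⟨fun z hz g => ?_⟩
    induction hz using closure_induction with
    | mem z hz =>
      apply Subgroup.subset_closure
      rcases hz with ⟨x, hx, rfl⟩ | ⟨x, hx, y, hy, rfl⟩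
      · exact Or.inl ⟨_, hPn.conj_mem x hx g, conj_pow.symm⟩
      · exact Or.inr ⟨_, hPn.conj_mem x hx g, _, hPn.conj_mem y hy g, conjugate_commutatorElement x y g⟩
    | one => simp
    | mul u v _ _ hu hv => simpa [mul_assoc] using mul_mem hu hv
    | inv u _ hu => simpa [mul_assoc] using inv_mem hu
  have hSZ : closure S ≤ Z := by
    rcases hinv (closure S ⊔ Z) le_sup_right (sup_le hSP hZP) (hnorm _) with h | h
    · exact le_sup_left.trans h.le
    · exfalso
      have hSeq := hsupp _ hSP (hnorm _) h.ge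
      obtain ⟨g, hg, hg'⟩ := CoprimeOmega.exists_proper_subgroup_pow_commutator hPp
        (fun e => by rw [e, Subgroup.card_bot] at hP; omega)
      exact hg' (hSeq.ge hg)
  have hsqZ : ∀ x ∈ P, x ^ 2 ∈ Z := fun x hx => hSZ (subset_closure (Or.inl ⟨x, hx, rfl⟩))
  have hcomZ : ∀ x ∈ P, ∀ y ∈ P, ⁅x, y⁆ ∈ Z := fun x hx y hy =>
    hSZ (subset_closure (Or.inr ⟨x, hx, y, hy, rfl⟩))
  -- the generator
  obtain ⟨w, hwP, hwZ⟩ : ∃ w ∈ P, w ∉ Z := by
    by_contra h
    push Not at h
    have := card_le_of_le (show P ≤ Z from h)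
    rw [hP, hZ4] at this
    omega
  let cj : ℕ → G → G := fun i x => s ^ i * x * (s ^ i)⁻¹
  have hcjP : ∀ i, ∀ x ∈ P, cj i x ∈ P := fun i x hx => hPn.conj_mem x hx _
  let π : G → G := fun x => x * cj 1 x * cj 2 x * cj 3 x * cj 4 x
  have hπP : ∀ x ∈ P, π x ∈ P := fun x hx =>
    mul_mem (mul_mem (mul_mem (mul_mem hx (hcjP 1 x hx)) (hcjP 2 x hx)) (hcjP 3 x hx)) (hcjP 4 x hx)
  have hcjz : ∀ (i : ℕ) (z : G), z ∈ Z → ∀ x, cj i (x * z) = cj i x * z := by
    intro i z hz x
    have hc : Commute z (s ^ i)⁻¹ := ((hZs z hz).pow_right i).inv_right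
    show s ^ i * (x * z) * (s ^ i)⁻¹ = s ^ i * x * (s ^ i)⁻¹ * z
    rw [← mul_assoc, mul_assoc _ z, hc.eq, ← mul_assoc]
  have hπw : π w ∈ Z := by
    -- `π w` is fixed by `s` modulo `Z`
    let F : Subgroup G :=
      { carrier := {x | x ∈ P ∧ s * x * s⁻¹ * x⁻¹ ∈ Z}
        one_mem' := ⟨one_mem _, by simp⟩
        mul_mem' := fun {x y} hx hy => ⟨mul_mem hx.1 hy.1, by
          have := mul_mem (hZn.conj_mem _ hy.2 (s * x * s⁻¹)) hx.2
          simpa [mul_assoc] using this⟩
        inv_mem' := fun {x} hx => ⟨inv_mem hx.1, by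
          have := hZn.conj_mem _ (inv_mem hx.2) (s * x⁻¹ * s⁻¹)
          simpa [mul_assoc] using this⟩ }
    have hFs : s ∈ normalizer (F : Set G) := by
      refine (Coprime.le_normalizer_of_conj_mem (A := zpowers s) fun a ha x hx => ?_) (mem_zpowers s)
      obtain ⟨k, rfl⟩ := ha
      refine ⟨hPn.conj_mem x hx.1 _, ?_⟩
      have hc : Commute s (s ^ k) := Commute.self_zpow s k
      have := hZn.conj_mem _ hx.2 (s ^ k)
      convert this using 1
      calc s * (s ^ k * x * (s ^ k)⁻¹) * s⁻¹ * (s ^ k * x * (s ^ k)⁻¹)⁻¹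
          = (s * s ^ k) * x * ((s * s ^ k)⁻¹) * (s ^ k * x⁻¹ * (s ^ k)⁻¹) := by group
        _ = s ^ k * (s * x * s⁻¹ * x⁻¹) * (s ^ k)⁻¹ := by rw [hc.eq]; group
    have hFZ : F = Z := by
      refine (hinv F (fun z hz => ⟨hZP hz, ?_⟩) (fun x hx => hx.1) hFs).resolve_right fun e => ?_
      · rw [show s * z = z * s from (hZs z hz).eq.symm]; simp
      · have hle : P ≤ Z := by
          conv_lhs => rw [← hder]
          have hquot : ∀ g : G, (QuotientGroup.mk' Z) g ∈ center (G ⧸ Z) := by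
            have hK : (center (G ⧸ Z)).comap (QuotientGroup.mk' Z) = ⊤ := by
              have hkey : ∀ g, (∀ x ∈ P, ⁅g, x⁆ ∈ Z) → ⁅g, s⁆ ∈ Z →
                  g ∈ (center (G ⧸ Z)).comap (QuotientGroup.mk' Z) := by
                intro g hgP hgs
                have hall : (centralizer ({QuotientGroup.mk' Z g} : Set (G ⧸ Z))).comap (QuotientGroup.mk' Z) = ⊤ := by
                  have hc : ∀ h, ⁅g, h⁆ ∈ Z → h ∈ (centralizer ({QuotientGroup.mk' Z g} : Set (G ⧸ Z))).comap (QuotientGroup.mk' Z) := by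
                    intro h hh
                    refine mem_comap.mpr (mem_centralizer_singleton_iff.mpr ?_)
                    have h1 : QuotientGroup.mk' Z ⁅g, h⁆ = 1 := (QuotientGroup.eq_one_iff _).mpr hh
                    rw [map_commutatorElement, commutatorElement_eq_one_iff_mul_comm] at h1
                    exact h1.symm
                  exact hPs _ (fun x hx => hc x (hgP x hx)) (hc s hgs)
                refine mem_comap.mpr (mem_center_iff.mpr fun q => ?_)
                obtain ⟨h, rfl⟩ := QuotientGroup.mk'_surjective Z q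
                exact mem_centralizer_singleton_iff.mp (mem_comap.mp (hall.ge (mem_top h)))
              refine hPs _ (fun x hx => hkey x (fun y hy => hcomZ x hx y hy) ?_)
                (hkey s (fun x hx => ?_) (by simp))
              · rw [← commutatorElement_inv s x]
                exact inv_mem (e.ge hx).2
              · exact (e.ge hx).2
            exact fun g => mem_comap.mp (hK.ge (mem_top g))
          rw [commutator_le]
          intro a _ b _
          rw [← QuotientGroup.eq_one_iff, ← QuotientGroup.mk'_apply, map_commutatorElement,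
            commutatorElement_eq_one_iff_mul_comm]
          exact (mem_center_iff.mp (hquot a) _).symm
        have := card_le_of_le hle
        rw [hP, hZ4] at this
        omega
    refine hFZ.le ⟨hπP w hwP, ?_⟩
    have e : s * π w * s⁻¹ = w⁻¹ * π w * (s ^ 5 * w * (s ^ 5)⁻¹) := by
      simp only [π, cj]; group
    have e2 : s * π w * s⁻¹ * (π w)⁻¹ = ⁅w⁻¹, π w⁆ := by
      rw [e, hs5, commutatorElement_def]; group
    rw [e2]
    exact hcomZ _ (inv_mem hwP) _ (hπP w hwP)
  set x := w * (π w)⁻¹ with hx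
  have hxP : x ∈ P := mul_mem hwP (inv_mem (hπP w hwP))
  have hxZ : x ∉ Z := fun h => hwZ (by simpa [x] using mul_mem h hπw)
  have hprod : π x = 1 := by
    have hz := inv_mem hπw
    have hz5 : ((π w)⁻¹) ^ 5 = (π w)⁻¹ := by
      rw [show 5 = 2 + 2 + 1 from rfl, pow_add, pow_add, hZ2 _ hz, one_mul, one_mul, pow_one]
    have cz := fun g => mem_center_iff.mp (hcenG _ hz) g
    show x * cj 1 x * cj 2 x * cj 3 x * cj 4 x = 1
    rw [hx, hcjz 1 _ hz, hcjz 2 _ hz, hcjz 3 _ hz, hcjz 4 _ hz]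
    set z := (π w)⁻¹ with hzdef
    calc w * z * (cj 1 w * z) * (cj 2 w * z) * (cj 3 w * z) * (cj 4 w * z)
        = w * cj 1 w * cj 2 w * cj 3 w * cj 4 w * z ^ 5 := by
          have hc : ∀ g, z * g = g * z := fun g => (cz g).symm
          simp only [pow_succ, pow_zero, one_mul, mul_assoc]
          rw [hc (cj 1 w * _)]
          simp only [mul_assoc]
          rw [hc (cj 2 w * _)]
          simp only [mul_assoc]
          rw [hc (cj 3 w * _)]
          simp only [mul_assoc]
          rw [hc (cj 4 w * _)]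
          simp only [mul_assoc]
      _ = π w * z := by rw [hz5]
      _ = 1 := mul_inv_cancel _
  clear_value x
  have hxi : ∀ i, cj i x ∈ P := fun i => hcjP i x hxP
  have hcomm : ∀ a ∈ P, ∀ b ∈ P, ∀ g, Commute g ⁅a, b⁆ := fun a ha b hb g =>
    mem_center_iff.mp (hcenG _ (hcomZ a ha b hb)) g
  have hcz : ∀ g, ∀ a ∈ P, ∀ b ∈ P, g * ⁅a, b⁆ * g⁻¹ = ⁅a, b⁆ := fun g a ha b hb => by
    rw [(hcomm a ha b hb g).eq, mul_inv_cancel_right]
  have hshift : ∀ i d, ⁅cj i x, cj (i + d) x⁆ = ⁅x, cj d x⁆ := fun i d => by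
    rw [← hcz (s ^ i) x hxP _ (hxi d), conjugate_commutatorElement]
    congr 1
    simp only [cj, pow_add]; group
  set c1 := ⁅x, cj 1 x⁆ with hc1
  set c2 := ⁅x, cj 2 x⁆ with hc2
  have hc1Z : c1 ∈ Z := hcomZ x hxP _ (hxi 1)
  have hc2Z : c2 ∈ Z := hcomZ x hxP _ (hxi 2)
  have hinvZ : ∀ z ∈ Z, z⁻¹ = z := fun z hz => inv_eq_of_mul_eq_one_right (by rw [← pow_two, hZ2 z hz])
  have hc3 : ⁅x, cj 3 x⁆ = c2 := by
    have h5 : cj 5 x = x := by simp [cj, hs5]
    have := hshift 3 2
    rw [h5, ← hc2, ← commutatorElement_inv x (cj 3 x), hinvZ _ (hcomZ x hxP _ (hxi 3))] at this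
    exact this
  have hcomm' : ∀ i d, ⁅cj (i + d) x, cj i x⁆ = ⁅x, cj d x⁆ := fun i d => by
    rw [← commutatorElement_inv (cj i x) (cj (i + d) x), hshift, hinvZ _ (hcomZ x hxP _ (hxi d))]
  have h0 : cj 0 x = x := by simp [cj]
  set u := x ^ 2 with hu
  have huZ : u ∈ Z := hsqZ x hxP
  have hsqi : ∀ i, cj i x ^ 2 = u := fun i => by
    show (s ^ i * x * (s ^ i)⁻¹) ^ 2 = u
    rw [conj_pow, mem_center_iff.mp (hcenG u huZ) (s ^ i), mul_inv_cancel_right]
  have hc11 : c1 * c1 = 1 := by rw [← pow_two]; exact hZ2 _ hc1Z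
  have hc22 : c2 * c2 = 1 := by rw [← pow_two]; exact hZ2 _ hc2Z
  have huu : u * u = 1 := by rw [← pow_two]; exact hZ2 _ huZ
  have cu := fun g => mem_center_iff.mp (hcenG u huZ) g
  have cc1 := fun g => mem_center_iff.mp (hcenG c1 hc1Z) g
  have cc2 := fun g => mem_center_iff.mp (hcenG c2 hc2Z) g
  have hu' : u = c1 * c2 := by
    set a := x
    set b := cj 1 x
    set c := cj 2 x
    set d := cj 3 x
    have hab : (a * b) ^ 2 = c1 := by
      rw [mul_sq (hcomm _ (hxi 1) _ hxP _) (hcomm _ (hxi 1) _ hxP _), hsqi, ← hu, huu, one_mul]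
      have h := hcomm' 0 1
      rw [Nat.zero_add, h0] at h
      exact h
    have habP : a * b ∈ P := mul_mem hxP (hxi 1)
    have hcab : ⁅c, a * b⁆ = c2 * c1 := by
      rw [commutator_mul_right (hcomm _ (hxi 2) _ (hxi 1) _)]
      congr 1
      · have h := hcomm' 0 2
        rw [Nat.zero_add, h0] at h
        exact h
      · exact hcomm' 1 1
    have habc : (a * b * c) ^ 2 = u * c2 := by
      rw [mul_sq (hcomm _ (hxi 2) _ habP _) (hcomm _ (hxi 2) _ habP _), hab, hsqi, hcab, cc1 c2]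
      calc c1 * u * (c1 * c2) = c1 * (u * c1) * c2 := by group
        _ = c1 * c1 * u * c2 := by rw [cc1 u]; group
        _ = u * c2 := by rw [hc11, one_mul]
    have habcP : a * b * c ∈ P := mul_mem habP (hxi 2)
    have hdabc : ⁅d, a * b * c⁆ = c2 * c2 * c1 := by
      rw [commutator_mul_right (hcomm _ (hxi 3) _ (hxi 2) _),
        commutator_mul_right (hcomm _ (hxi 3) _ (hxi 1) _)]
      congr 1
      · congr 1
        · have h := hcomm' 0 3
          rw [Nat.zero_add, h0] at h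
          exact h.trans hc3
        · exact hcomm' 1 2
      · exact hcomm' 2 1
    have habcd : (a * b * c * d) ^ 2 = c1 * c2 := by
      rw [mul_sq (hcomm _ (hxi 3) _ habcP _) (hcomm _ (hxi 3) _ habcP _), habc, hsqi, hdabc, hc22, one_mul]
      calc u * c2 * u * c1 = u * (c2 * u) * c1 := by group
        _ = u * u * c2 * c1 := by rw [cu c2]; group
        _ = c1 * c2 := by rw [huu, one_mul, cc1 c2]
    have e : cj 4 x = (a * b * c * d)⁻¹ := eq_inv_of_mul_eq_one_right hprod
    have := hsqi 4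
    rw [e, inv_pow, habcd, hinvZ _ (mul_mem hc1Z hc2Z)] at this
    exact this.symm
  refine ⟨{
    x := x, s := s, c1 := c1, c2 := c2, card := hG, s5 := hs5,
    h1 := by simp [hc1, cj], h2 := rfl, h3 := hc3, hu := hu',
    hprod := by simpa [π, cj] using hprod,
    c1sq := hZ2 _ hc1Z, c2sq := hZ2 _ hc2Z, c1cen := hcenG _ hc1Z, c2cen := hcenG _ hc2Z, gen := ?_ }⟩
  set K := closure ({x, s} : Set G)
  have hsK : s ∈ K := subset_closure (by simp)
  refine hPs K ?_ hsK
  have hKn : s ∈ normalizer ((K ⊓ P : Subgroup G) : Set G) :=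
    inf_normalizer_le_normalizer_inf ⟨le_normalizer hsK, hnorm P⟩
  refine (hsupp (K ⊓ P) inf_le_right hKn ?_).ge.trans inf_le_left
  refine ((hinv (K ⊓ P ⊔ Z) le_sup_right (sup_le inf_le_right hZP) ?_).resolve_left ?_).ge
  · exact Components.normalizer_inf_le_normalizer_sup _ _ ⟨hKn, hnorm Z⟩
  · exact fun e => hxZ (e.le (mem_sup_left ⟨subset_closure (by simp), hxP⟩))

end Structure

section Model

variable {F : Type*} [Field F] [Fintype F]

open Cfsg.Agent.Lib.Unitary3

theorem gen_centralizer (hF : Fintype.card F = 16) :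
    ∃ t : ↥(Cfsg.SU 3 F 4), orderOf t = 2 ∧
      Nonempty (Gen ↥(centralizer ({t} : Set ↥(Cfsg.SU 3 F 4)))) := by
  classical
  haveI : CharP F 2 := charP_two_of_card (n := 2) (by rw [hF]; norm_num)
  have hq : Fintype.card F = 4 ^ 2 := by rw [hF]; norm_num
  have hf16 : ∀ a : F, a ^ 16 = a := fun a => hF ▸ FiniteField.pow_card a
  have hb0 : uCond 4 ((0 : F), (1 : F)) := by simp [uCond, c2]
  set t : ↥(Cfsg.SU 3 F 4) := uElt hq ⟨(0, 1), hb0⟩ with ht
  set U := unip (F := F) hq with hU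
  have htU : t ∈ U := ⟨_, rfl⟩
  have htc : (⟨t, htU⟩ : U) ∈ center U := (mem_center_unip hq (by norm_num) ⟨(0, 1), hb0⟩).mpr rfl
  have ht1 : t ≠ 1 := fun h => by
    have := (uPt_eq_one_iff hq ⟨(0, 1), hb0⟩).mp (Subtype.ext h)
    simp at this
  have ht2 : t ^ 2 = 1 :=
    congrArg Subtype.val ((sq_eq_one_iff_unip hq (by norm_num) (⟨t, htU⟩ : U)).mpr htc)
  refine ⟨t, orderOf_eq_prime ht2 ht1, ?_⟩
  set C := centralizer ({t} : Set ↥(Cfsg.SU 3 F 4))
  have hUC : U ≤ C := fun g hg => mem_centralizer_singleton_iff.mpr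
    (congrArg Subtype.val (mem_center_iff.mp htc ⟨g, hg⟩))
  -- the torus element
  have hdet : ∀ l : F, l ^ 5 = 1 → (Matrix.diagonal ![l, l, l ^ 3] : Matrix (Fin 3) (Fin 3) F).det = 1 := by
    intro l hl
    rw [Matrix.det_diagonal, Fin.prod_univ_three]
    simp only [Matrix.cons_val_zero, Matrix.cons_val_one, Matrix.cons_val_two, Matrix.head_cons,
      Matrix.tail_cons]
    linear_combination hl
  have hform : ∀ l : F, l ^ 5 = 1 → ∀ x y : Fin 3 → F,
      Cfsg.hermForm 3 F 4 ((Matrix.diagonal ![l, l, l ^ 3] : Matrix (Fin 3) (Fin 3) F) *ᵥ x)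
        ((Matrix.diagonal ![l, l, l ^ 3] : Matrix (Fin 3) (Fin 3) F) *ᵥ y) = Cfsg.hermForm 3 F 4 x y := by
    intro l hl x y
    simp [Cfsg.hermForm, Fin.sum_univ_three, Matrix.mulVec_diagonal, mul_pow]
    linear_combination (x 0 * y 0 ^ 4 + x 1 * y 1 ^ 4 + x 2 * y 2 ^ 4 * (l ^ 10 + l ^ 5 + 1)) * hl
  let d : {l : F // l ^ 5 = 1} → ↥(Cfsg.SU 3 F 4) := fun l =>
    ⟨⟨Matrix.diagonal ![l.1, l.1, l.1 ^ 3], hdet _ l.2⟩, fun x y => hform _ l.2 x y⟩
  let Ψ : {l : F // l ^ 5 = 1} × {p : F × F // uCond 4 p} → ↥(Cfsg.SU 3 F 4) :=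
    fun w => d w.1 * uElt hq w.2
  have hmat : ∀ w, (Ψ w).1.1 = Matrix.diagonal ![w.1.1, w.1.1, w.1.1 ^ 3] * uMat 4 w.2.1.1 w.2.1.2 :=
    fun w => rfl
  have hdC : ∀ l, d l ∈ C := by
    intro l
    refine mem_centralizer_singleton_iff.mpr (Subtype.ext (Subtype.ext ?_))
    show Matrix.diagonal ![l.1, l.1, l.1 ^ 3] * uMat 4 (0 : F) 1 = uMat 4 (0 : F) 1 * Matrix.diagonal ![l.1, l.1, l.1 ^ 3]
    ext i j
    fin_cases i <;> fin_cases j <;> simp [uMat, Matrix.diagonal_mul, Matrix.mul_diagonal, mul_comm]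
  have hΨC : ∀ w, Ψ w ∈ C := fun w => mul_mem (hdC w.1) (hUC ⟨_, rfl⟩)
  have hΨinj : Function.Injective Ψ := by
    intro w w' e
    have e' : (Ψ w).1.1 = (Ψ w').1.1 := congrArg (fun g => g.1.1) e
    rw [hmat, hmat] at e'
    have h00 := congrFun (congrFun e' 0) 0
    have h01 := congrFun (congrFun e' 0) 1
    simp [uMat, Matrix.diagonal_mul] at h00 h01
    have hl : w.1 = w'.1 := Subtype.ext (by linear_combination h00 - h01)
    refine Prod.ext hl ((uElt_eq_iff hq _ _).mp ?_)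
    have e2 : d w.1 * uElt hq w.2 = d w'.1 * uElt hq w'.2 := e
    rw [hl] at e2
    exact mul_left_cancel e2
  have hΨsurj : ∀ g ∈ C, ∃ w, Ψ w = g := by
    intro g hg
    obtain ⟨⟨m, hdet⟩, hgform⟩ := g
    have hcomm : m * uMat 4 (0 : F) 1 = uMat 4 (0 : F) 1 * m :=
      congrArg (fun h => h.1.1) (mem_centralizer_singleton_iff.mp hg)
    have e00 := congrFun (congrFun hcomm 0) 0
    have e01 := congrFun (congrFun hcomm 0) 1
    have e02 := congrFun (congrFun hcomm 0) 2
    have e20 := congrFun (congrFun hcomm 2) 0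
    simp [uMat, Matrix.mul_apply, Fin.sum_univ_three, CharTwo.add_self_eq_zero] at e00 e01 e02 e20
    have hf : Cfsg.hermForm 3 F 4 (m *ᵥ Pi.single 0 1) (m *ᵥ Pi.single 0 1) =
        Cfsg.hermForm 3 F 4 (Pi.single 0 1) (Pi.single 0 1) := hgform _ _
    have hf1 : Cfsg.hermForm 3 F 4 (m *ᵥ Pi.single 0 1) (m *ᵥ Pi.single 1 1) =
        Cfsg.hermForm 3 F 4 (Pi.single 0 1) (Pi.single 1 1) := hgform _ _
    have hf2 : Cfsg.hermForm 3 F 4 (m *ᵥ Pi.single 0 1) (m *ᵥ Pi.single 2 1) =
        Cfsg.hermForm 3 F 4 (Pi.single 0 1) (Pi.single 2 1) := hgform _ _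
    simp [Cfsg.hermForm, Fin.sum_univ_three] at hf hf1 hf2
    have r10 : m 1 0 = m 0 1 := e00.symm
    have r11 : m 1 1 = m 0 0 := e01.symm
    have r12 : m 1 2 = m 0 2 := e02.symm
    have r21 : m 2 1 = m 2 0 := e20
    rw [Matrix.det_fin_three, r10, r11, r12, r21] at hdet
    rw [r10] at hf hf1 hf2
    rw [r11, r21] at hf1
    rw [r12] at hf2
    obtain ⟨l, hl⟩ : ∃ l, l = m 0 0 + m 0 1 := ⟨_, rfl⟩
    have h4 : ∀ u v : F, (u + v) ^ 4 = u ^ 4 + v ^ 4 := Classical.qpow_add hq
    have hl4 : l ^ 4 = m 0 0 ^ 4 + m 0 1 ^ 4 := hl ▸ h4 _ _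
    have hl5 : l ^ 5 = 1 := by
      linear_combination (l : F) * hl4 + (m 0 0 ^ 4 + m 0 1 ^ 4) * hl + hf + hf1 -
        (m 2 0 * m 2 0 ^ 4) * c2 (1 : F)
    have he : m 2 2 = l ^ 3 := by
      have h1 : m 2 2 * l ^ 2 = 1 := by
        rw [hl]
        linear_combination hdet + (m 2 2 * m 0 0 * m 0 1 + m 2 2 * m 0 1 ^ 2 +
          m 0 0 * m 0 2 * m 2 0 - m 0 1 * m 0 2 * m 2 0) * c2 (1 : F)
      linear_combination (l ^ 3) * h1 - (m 2 2) * hl5
    rw [he] at hf2
    have hc : m 0 2 ^ 4 = m 2 0 * l := by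
      have h0 : l * m 0 2 ^ 4 + m 2 0 * l ^ 12 = 0 := by
        linear_combination hf2 + (m 0 2 ^ 4) * hl
      linear_combination (l ^ 4) * h0 - (m 0 2 ^ 4 + m 2 0 * (l ^ 11 + l ^ 6 + l)) * hl5 -
        (m 2 0 * l) * c2 (1 : F)
    have hc' : m 0 2 = m 2 0 ^ 4 * l ^ 4 := by
      have h1 := congrArg (fun u : F => u ^ 4) hc
      simp only [← pow_mul, mul_pow] at h1
      rwa [show 4 * 4 = 16 from rfl, hf16] at h1
    have hcond : uCond 4 (m 2 0 * l ^ 2, m 0 1 * l ^ 4) := by
      show m 0 1 * l ^ 4 + (m 0 1 * l ^ 4) ^ 4 + m 2 0 * l ^ 2 * (m 2 0 * l ^ 2) ^ 4 = 0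
      have ea : m 0 0 = l + m 0 1 := by linear_combination (-1 : F) * hl - (m 0 1) * c2 (1 : F)
      rw [ea, h4] at hf1
      linear_combination hf1 + (m 0 1 ^ 4 * (l ^ 11 + l ^ 6 + l) + m 2 0 ^ 5 * (l ^ 5 + 1)) * hl5 -
        (m 0 1 ^ 5) * c2 (1 : F)
    refine ⟨(⟨l, hl5⟩, ⟨_, hcond⟩), Subtype.ext (Subtype.ext ?_)⟩
    rw [hmat]
    show Matrix.diagonal ![l, l, l ^ 3] * uMat 4 (m 2 0 * l ^ 2) (m 0 1 * l ^ 4) = m
    ext i j
    fin_cases i <;> fin_cases j <;> simp [uMat, Matrix.diagonal_mul]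
    · linear_combination hl + (m 0 1) * hl5 + (m 0 1) * c2 (1 : F)
    · linear_combination (m 0 1) * hl5
    · linear_combination (m 2 0 ^ 4 * l ^ 4) * hl5 - hc'
    · linear_combination (m 0 1) * hl5 - r10
    · linear_combination hl + (m 0 1) * hl5 + (m 0 1) * c2 (1 : F) - r11
    · linear_combination (m 2 0 ^ 4 * l ^ 4) * hl5 - hc' - r12
    · linear_combination (m 2 0) * hl5
    · linear_combination (m 2 0) * hl5 - r21
    · linear_combination (-1 : F) * he
  have hroots : Nat.card {l : F // l ^ 5 = 1} = 5 := by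
    rw [Nat.card_congr (β := (powMonoidHom 5 : Fˣ →* Fˣ).ker)
      { toFun := fun l => ⟨Units.mk0 l.1 (fun e => by simpa [e] using l.2), Units.ext (by simpa using l.2)⟩
        invFun := fun u => ⟨(u.1 : F), by simpa using congrArg Units.val u.2⟩
        left_inv := fun l => rfl
        right_inv := fun u => Subtype.ext (Units.ext rfl) },
      IsCyclic.card_powMonoidHom_ker, Nat.card_units, Nat.card_eq_fintype_card, hF]
    norm_num
  have hcardC : Nat.card C = 320 := by
    rw [← Nat.card_congr (Equiv.ofBijective (fun w => (⟨Ψ w, hΨC w⟩ : C))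
      ⟨fun w w' e => hΨinj (congrArg Subtype.val e), fun g =>
        (hΨsurj g g.2).imp fun w hw => Subtype.ext hw⟩), Nat.card_prod, hroots,
      Nat.card_congr (unipEquiv hq), natCard_unip hq]
    norm_num
  set P := U.subgroupOf C with hP
  have hPcard : Nat.card P = 64 := by
    rw [Nat.card_congr (subgroupOfEquivOfLe hUC).toEquiv, natCard_unip hq]; norm_num
  have hswap : ∀ (l : {l : F // l ^ 5 = 1}) (p : {p : F × F // uCond 4 p}),
      ∃ h, d l * uElt hq p = uElt hq ⟨(l.1 ^ 2 * p.1.1, p.1.2), h⟩ * d l := by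
    intro l p
    refine ⟨?_, Subtype.ext (Subtype.ext ?_)⟩
    · have := p.2
      simp only [uCond, mul_pow] at this ⊢
      linear_combination this + (p.1.1 * p.1.1 ^ 4 * (l.1 ^ 5 + 1)) * l.2
    show Matrix.diagonal ![l.1, l.1, l.1 ^ 3] * uMat 4 p.1.1 p.1.2 =
      uMat 4 (l.1 ^ 2 * p.1.1) p.1.2 * Matrix.diagonal ![l.1, l.1, l.1 ^ 3]
    ext i j
    fin_cases i <;> fin_cases j <;> simp [uMat, Matrix.diagonal_mul, Matrix.mul_diagonal, mul_pow]
    all_goals first
      | linear_combination (-(l.1 * p.1.1 ^ 4 * (l.1 ^ 5 + 1))) * l.2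
      | ring
  haveI hPn : P.Normal := by
    refine (normal_subgroupOf_iff_le_normalizer hUC).mpr (Coprime.le_normalizer_of_conj_mem ?_)
    intro g hg v hv
    obtain ⟨⟨l, p⟩, rfl⟩ := hΨsurj g hg
    obtain ⟨r, hr⟩ : ∃ r, uElt hq r = uElt hq p * v * (uElt hq p)⁻¹ :=
      (U.mul_mem (U.mul_mem ⟨p, rfl⟩ hv) (U.inv_mem ⟨p, rfl⟩) :)
    obtain ⟨h, e⟩ := hswap l r
    refine ⟨⟨_, h⟩, ?_⟩
    show _ = d l * uElt hq p * v * (d l * uElt hq p)⁻¹
    rw [eq_mul_inv_iff_mul_eq, ← mul_assoc, ← e, hr]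
    group
  have hder : ⁅(⊤ : Subgroup C), ⊤⁆ = P := by
    refine le_antisymm ?_ ?_
    · have hc : IsCyclic (C ⧸ P) := by
        haveI : Fact (Nat.Prime 5) := ⟨Nat.prime_five⟩
        refine isCyclic_of_prime_card (p := 5) ?_
        have h1 := P.card_eq_card_quotient_mul_card_subgroup
        rw [hcardC, hPcard] at h1
        omega
      rw [commutator_le]
      intro a _ b _
      rw [← QuotientGroup.eq_one_iff, ← QuotientGroup.mk'_apply, map_commutatorElement,
        commutatorElement_eq_one_iff_mul_comm]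
      open scoped IsMulCommutative in exact mul_comm _ _
    · set W := ⁅(⊤ : Subgroup C), (⊤ : Subgroup C)⁆
      obtain ⟨l0, hl0⟩ : ∃ l : {l : F // l ^ 5 = 1}, l.1 ≠ 1 := by
        by_contra h
        push Not at h
        haveI : Subsingleton {l : F // l ^ 5 = 1} := ⟨fun a b => Subtype.ext ((h a).trans (h b).symm)⟩
        have := Finite.card_le_one_iff_subsingleton.mpr (inferInstance : Subsingleton {l : F // l ^ 5 = 1})
        rw [hroots] at this
        omega
      have hl2 : l0.1 ^ 2 + 1 ≠ 0 := fun e => hl0 (by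
        linear_combination l0.2 - (l0.1 ^ 3 + l0.1) * e + (l0.1 ^ 3 + l0.1) * c2 (1 : F))
      have hfirst : ∀ a : F, ∃ b, ∃ h : uCond 4 (a, b), ∀ hc, (⟨uElt hq ⟨(a, b), h⟩, hc⟩ : C) ∈ W := by
        intro a
        obtain ⟨⟨b, hb⟩⟩ := (Nat.card_pos_iff.mp (show 0 < Nat.card {b : F // uCond 4 (a / (l0.1 ^ 2 + 1), b)} by
          rw [natCard_fibre hq]; omega)).1
        set p : {p : F × F // uCond 4 p} := ⟨_, hb⟩
        obtain ⟨h, e⟩ := hswap l0 p
        obtain ⟨r, hr⟩ : ∃ r, uElt hq r = uElt hq ⟨_, h⟩ * (uElt hq p)⁻¹ :=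
          (U.mul_mem ⟨_, rfl⟩ (U.inv_mem ⟨p, rfl⟩) :)
        have hfst : r.1.1 = a := by
          have h1 := congrArg (fun q : {q : F × F // uCond 4 q} => q.1.1) ((uElt_eq_iff hq _ _).mp
            (((uElt_mul hq r p).symm.trans (by rw [hr, inv_mul_cancel_right]) :
              uElt hq (uMul hq r p) = uElt hq ⟨_, h⟩)))
          simp only [uMul, p] at h1
          have h2 : (a / (l0.1 ^ 2 + 1)) * (l0.1 ^ 2 + 1) = a := div_mul_cancel₀ _ hl2
          linear_combination h1 + h2 - (a / (l0.1 ^ 2 + 1)) * c2 (1 : F)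
        obtain ⟨⟨a', b'⟩, hcond⟩ := r
        obtain rfl : a' = a := hfst
        refine ⟨b', hcond, fun hc => ?_⟩
        have hw : ⁅(⟨d l0, hdC l0⟩ : C), (⟨uElt hq p, hUC ⟨p, rfl⟩⟩ : C)⁆ ∈ W :=
          commutator_mem_commutator (mem_top _) (mem_top _)
        convert hw
        show uElt hq _ = d l0 * uElt hq p * (d l0)⁻¹ * (uElt hq p)⁻¹
        rw [hr, e, mul_inv_cancel_right]
      have hcenter : ∀ b : F, ∀ h : uCond 4 ((0 : F), b), ∀ hc, (⟨uElt hq ⟨(0, b), h⟩, hc⟩ : C) ∈ W := by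
        intro b h hc
        rcases eq_or_ne b 0 with rfl | hb
        · convert one_mem W
          rw [uElt_one hq]; rfl
        have hb3 : b ^ 3 = 1 := by
          have h' := h
          simp only [uCond, zero_mul, add_zero] at h'
          exact mul_left_cancel₀ hb (by linear_combination h' - b * c2 (1 : F))
        obtain ⟨g, hg⟩ := IsCyclic.exists_generator (α := Fˣ)
        have hgo : orderOf g = 15 := by
          rw [orderOf_eq_card_of_forall_mem_zpowers hg, Nat.card_units, Nat.card_eq_fintype_card, hF]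
        obtain ⟨k, hk'⟩ := (isOfFinOrder_of_finite g).mem_powers_iff_mem_zpowers.mpr (hg (Units.mk0 b hb))
        have hk : g ^ k = Units.mk0 b hb := hk'
        obtain ⟨j, rfl⟩ : 5 ∣ k := by
          have : orderOf g ∣ k * 3 := orderOf_dvd_of_pow_eq_one (by
            rw [pow_mul, hk]; exact Units.ext (by simpa using hb3))
          rw [hgo] at this
          omega
        obtain ⟨b', h', hmem⟩ := hfirst ((g ^ j : Fˣ) : F)
        have hsq := pow_mem (hmem (hUC ⟨_, rfl⟩)) 2
        convert hsq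
        show uElt hq _ = uElt hq _ ^ 2
        refine Eq.trans ?_ (congrArg Subtype.val (uPt_sq hq ⟨_, h'⟩)).symm
        refine congrArg (uElt hq) (Subtype.ext (Prod.ext rfl ?_))
        show b = ((g ^ j : Fˣ) : F) ^ 4 * ((g ^ j : Fˣ) : F)
        rw [← pow_succ, ← Units.val_pow_eq_pow_val, ← pow_mul, mul_comm, hk, Units.val_mk0]
      rintro ⟨v, hvC⟩ hv
      obtain ⟨⟨⟨a, b⟩, hp⟩, rfl⟩ := mem_subgroupOf.mp hv
      obtain ⟨b', h', hmem⟩ := hfirst a
      obtain ⟨r, hr⟩ : ∃ r, uElt hq r = (uElt hq ⟨(a, b'), h'⟩)⁻¹ * uElt hq ⟨(a, b), hp⟩ :=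
        (U.mul_mem (U.inv_mem ⟨_, rfl⟩) ⟨_, rfl⟩ :)
      obtain ⟨⟨a2, b2⟩, h2⟩ := r
      obtain rfl : a2 = 0 := by
        have h1 := congrArg (fun q : {q : F × F // uCond 4 q} => q.1.1) ((uElt_eq_iff hq _ _).mp
          (((uElt_mul hq ⟨(a, b'), h'⟩ ⟨(a2, b2), h2⟩).symm.trans (by rw [hr, mul_inv_cancel_left])) :
            uElt hq (uMul hq ⟨(a, b'), h'⟩ ⟨(a2, b2), h2⟩) = uElt hq ⟨(a, b), hp⟩))
        simp only [uMul] at h1
        linear_combination h1
      have h3 := mul_mem (hmem (hUC ⟨_, rfl⟩)) (hcenter b2 h2 (hUC ⟨_, rfl⟩))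
      convert h3
      show uElt hq _ = uElt hq _ * uElt hq _
      rw [hr, mul_inv_cancel_left]
  refine exists_gen (P := P) hcardC hPcard hder ?_ ?_
  · rw [Nat.card_congr ((Subgroup.centerCongr (subgroupOfEquivOfLe hUC))).toEquiv]
    exact natCard_center_unip hq (by norm_num)
  · intro z hz
    have h1 : subgroupOfEquivOfLe hUC z ∈ center U := by
      rw [mem_center_iff]
      intro g
      obtain ⟨g', rfl⟩ := (subgroupOfEquivOfLe hUC).surjective g
      rw [← map_mul, ← map_mul, mem_center_iff.mp hz g']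
    have h2 := (sq_eq_one_iff_unip hq (by norm_num) _).mpr h1
    exact (subgroupOfEquivOfLe hUC).injective (by rw [map_pow, h2, map_one])

end Model

/-- A finite group of order 320 whose derived subgroup has order 64 and has centre a Klein four-group is isomorphic to the centralizer of an involution in PSU₃(4). -/
theorem result {G : Type*} [Group G] [Finite G] (hG : Nat.card G = 320) (hD : Nat.card (commutator G) = 64)
    (hZ : IsKleinFour (Subgroup.center (commutator G)))
    {F : Type*} [Field F] [Fintype F] (hF : Fintype.card F = 16) :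
    ∃ t : Cfsg.PSU 3 F 4, orderOf t = 2 ∧ Nonempty (G ≃* Subgroup.centralizer ({t} : Set (Cfsg.PSU 3 F 4))) := by
  classical
  obtain ⟨a⟩ : Nonempty (Gen G) := by
    haveI := hZ
    refine exists_gen (P := commutator G) hG hD (commutator_def G).symm hZ.card_four fun z hz => ?_
    have h := Monoid.pow_exponent_eq_one (⟨z, hz⟩ : Subgroup.center (commutator G))
    rw [hZ.exponent_two] at h
    exact congrArg Subtype.val h
  haveI : CharP F 2 := Cfsg.Agent.Lib.Unitary3.charP_two_of_card (n := 2) (by rw [hF]; norm_num)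
  obtain ⟨t, ht, ⟨b⟩⟩ := gen_centralizer (F := F) hF
  obtain ⟨e⟩ := nonempty_equiv a b
  have hc : Subgroup.center (Cfsg.SU 3 F 4) = ⊥ := by
    apply Subgroup.eq_bot_of_card_eq
    rw [Cfsg.Agent.Lib.Classical.natCard_center_SU (q := 4) (by rw [hF]; norm_num) 3 (by norm_num)]
    norm_num
  set π := QuotientGroup.mk' (Subgroup.center (Cfsg.SU 3 F 4))
  have hπ : Function.Bijective π := ⟨by rw [← MonoidHom.ker_eq_bot_iff, QuotientGroup.ker_mk', hc],
    QuotientGroup.mk'_surjective _⟩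
  refine ⟨π t, by rw [orderOf_injective π hπ.1, ht], ⟨e.trans ?_⟩⟩
  refine ((Subgroup.centralizer ({t} : Set ↥(Cfsg.SU 3 F 4))).equivMapOfInjective π hπ.1).trans
    (MulEquiv.subgroupCongr ?_)
  ext y
  obtain ⟨x, rfl⟩ := hπ.2 y
  rw [Subgroup.mem_map_iff_mem hπ.1, Subgroup.mem_centralizer_singleton_iff,
    Subgroup.mem_centralizer_singleton_iff, ← map_mul, ← map_mul, hπ.1.eq_iff]

end Cfsg.Agent.S1903
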