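import Cfsg.Statements.S1904
import Cfsg.Agent.Lib.NoSCNThree.Classify
import Cfsg.Agent.Lib.NoSCNThree.Reduce

set_option autoImplicit false
open Cfsg

namespace Cfsg.Agent.S1904

/-- Let X be a finite nonabelian 2-group with no normal abelian subgroup that is self-centralizing and contains an elementary abelian subgroup of order 8. Suppose a group A of automorphisms of X of odd order satisfies [X, A] = X. Then X is the quaternion group of order 8, or X is special of order 64 with exactly three involutions, all central, or X is extraspecial of order 32 with exactly eleven involutions (the central product of a quaternion group and a dihedral group of order 8). -/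
theorem result {X : Type*} [Group X] [Finite X] (hX : IsPGroup 2 X) (hna : ¬ IsMulCommutative X)
    (hscn : ¬ ∃ A : Subgroup X, A.Normal ∧ Subgroup.centralizer (A : Set X) = A ∧
      ∃ E : Subgroup X, E ≤ A ∧ Cfsg.IsElementaryAbelian 2 E ∧ Nat.card E = 8)
    (A : Subgroup (MulAut X)) (hA : Odd (Nat.card A))
    (hXA : Subgroup.closure {g : X | ∃ φ ∈ A, ∃ x : X, g = x⁻¹ * φ x} = ⊤) :
    Nonempty (X ≃* QuaternionGroup 2) ∨
      (Cfsg.IsSpecial 2 X ∧ Nat.card X = 64 ∧ Nat.card {x : X // orderOf x = 2} = 3 ∧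
        ∀ x : X, orderOf x = 2 → x ∈ Subgroup.center X) ∨
      (Cfsg.IsExtraspecial 2 X ∧ Nat.card X = 32 ∧ Nat.card {x : X // orderOf x = 2} = 11) := by
  haveI : Fact (Nat.Prime 2) := ⟨Nat.prime_two⟩
  have hS : Cfsg.Agent.Lib.NoSCNThree.Setting X A := by
    refine ⟨hX, ?_, hA, hXA, ?_⟩
    · by_contra h
      push Not at h
      exact hna ⟨⟨h⟩⟩
    · intro B hBn hBc E hEB hE
      by_contra hlt
      have hBc' : B ≤ Subgroup.centralizer (B : Set X) := fun b hb =>
        Subgroup.mem_centralizer_iff.mpr fun c hc => hBc c hc b hb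
      obtain ⟨M, hBM, hM⟩ := (Set.toFinite {M : Subgroup X | M.Normal ∧
        M ≤ Subgroup.centralizer (M : Set X)}).exists_le_maximal (show B ∈ _ from ⟨hBn, hBc'⟩)
      haveI := hM.1.1
      have hMc : Subgroup.centralizer (M : Set X) = M :=
        Cfsg.Agent.Lib.Critical.centralizer_eq_of_maximal_normal_abelian hX hM.1.2
          fun N hN hNc hMN => le_antisymm (hM.2 ⟨hN, hNc⟩ hMN) hMN
      obtain ⟨k, hk⟩ := IsPGroup.iff_card.mp (hX.to_subgroup E)
      have hk3 : 3 ≤ k := by
        by_contra hk'
        exact hlt (hk ▸ (Nat.pow_le_pow_right (by norm_num) (by omega : k ≤ 2)).trans (by norm_num))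
      obtain ⟨F, hF⟩ := Sylow.exists_subgroup_card_pow_prime (G := E) 2 (n := 3)
        (hk ▸ pow_dvd_pow 2 hk3)
      refine hscn ⟨M, hM.1.1, hMc, F.map E.subtype, ?_, ?_, ?_⟩
      · exact (Subgroup.map_subtype_le F).trans (hEB.trans hBM)
      · refine ⟨?_, fun x hx => ?_⟩
        · refine ⟨⟨fun u v => Subtype.ext ?_⟩⟩
          exact Cfsg.Agent.Lib.NoSCNThree.comm_of_sq hE _ (Subgroup.map_subtype_le F u.2) _
            (Subgroup.map_subtype_le F v.2)
        · rw [pow_two]; exact hE x (Subgroup.map_subtype_le F hx)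
      · rw [Subgroup.card_subtype, hF]; norm_num
  obtain ⟨Z, hZc, hZe, hsq⟩ := hS.exists_central_squares
  exact Cfsg.Agent.Lib.NoSCNThree.classify_flat hS Z hZc hZe hsq

end Cfsg.Agent.S1904
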