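import Cfsg.Statements.S1905
import Mathlib
import Cfsg.Agent.Lib.SECount.Basic
import Cfsg.Agent.Lib.Involution.StronglyEmbedded

set_option autoImplicit false
open Cfsg
open Cfsg.Agent.Lib

namespace Cfsg.Agent.S1905

/-- Let M be a subgroup of even order of a finite group S such that M contains the centralizer in S of each of its involutions and the normal core of M in S has odd order. Then all involutions of S are conjugate. If moreover N_S(X) ≤ M for a Sylow 2-subgroup X of M and I is an involution in the centre of X, then all involutions of M are conjugate in M and M = M₀ C_M(I) for some subgroup M₀ of M of odd order. -/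
theorem result {S : Type*} [Group S] [Finite S] (M : Subgroup S) (hM : Even (Nat.card M))
    (hC : ∀ i ∈ M, orderOf i = 2 → Subgroup.centralizer ({i} : Set S) ≤ M) (hcore : Odd (Nat.card M.normalCore)) :
    (∀ x y : S, orderOf x = 2 → orderOf y = 2 → IsConj x y) ∧
      ∀ (X : Sylow 2 M) (I : M), I ∈ (Subgroup.center ↥(X : Subgroup ↥M)).map (X : Subgroup ↥M).subtype → orderOf I = 2 →
        Subgroup.normalizer (((X : Subgroup M).map M.subtype : Subgroup S) : Set S) ≤ M →
        (∀ x y : M, orderOf x = 2 → orderOf y = 2 → IsConj x y) ∧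
          ∃ M₀ : Subgroup M, Odd (Nat.card M₀) ∧
            ∀ m : M, ∃ a ∈ M₀, ∃ c ∈ Subgroup.centralizer ({I} : Set M), m = a * c := by
  classical
  obtain ⟨u, huM, hu⟩ := Involution.exists_orderOf_eq_two M hM
  have hMne : M ≠ ⊤ := by
    rintro rfl
    rw [Subgroup.normalCore_eq_self] at hcore
    exact (Nat.not_even_iff_odd.mpr hcore) hM
  -- non-conjugate involutions: if one lies in M, so does the other
  have hA : ∀ a b : S, a ∈ M → orderOf a = 2 → orderOf b = 2 → ¬ IsConj a b → b ∈ M := by
    intro a b haM ha hb hab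
    have haa := Involution.mul_self_eq_one ha
    have hbb := Involution.mul_self_eq_one hb
    have hev : Even (orderOf (a * b)) := by
      by_contra h
      exact hab (Involution.isConj_of_odd haa hbb (Nat.not_even_iff_odd.mp h))
    set w := (a * b) ^ (orderOf (a * b) / 2)
    have hw : orderOf w = 2 := Involution.orderOf_half_pow hev
    have hwa : Commute w a := Involution.commute_half_pow_left haa hbb hev
    have hwb : Commute w b := Involution.commute_half_pow_right haa hbb hev
    have hwM : w ∈ M := hC a haM ha (Subgroup.mem_centralizer_singleton_iff.mpr hwa)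
    exact hC w hwM hw (Subgroup.mem_centralizer_singleton_iff.mpr hwb.symm)
  have h1 : ∀ x y : S, orderOf x = 2 → orderOf y = 2 → IsConj x y := by
    intro x y hx hy
    by_contra hxy
    obtain ⟨w, hw, huw⟩ : ∃ w, orderOf w = 2 ∧ ¬ IsConj u w := by
      by_cases h : IsConj u x
      · exact ⟨y, hy, fun h' => hxy (h.symm.trans h')⟩
      · exact ⟨x, hx, h⟩
    have hwM := hA u w huM hu hw huw
    have hall : ∀ v : S, orderOf v = 2 → v ∈ M := by
      intro v hv
      by_cases h : IsConj u v
      · exact hA w v hwM hw hv fun h' => huw (h.trans h'.symm)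
      · exact hA u v huM hu hv h
    have huc : u ∈ M.normalCore := fun g => hall _ (by rw [Involution.orderOf_conj_eq, hu])
    exact Nat.not_even_iff_odd.mpr hcore (Involution.even_card_of_mem hu huc)
  refine ⟨h1, ?_⟩
  intro X I hIX hI hN
  obtain ⟨⟨I', hI'X⟩, hI'c, hI'e⟩ := hIX
  have hI'e' : I' = I := hI'e
  subst hI'e'
  have hIS : orderOf (I' : S) = 2 := (Subgroup.orderOf_coe I').trans hI
  have hstep : ∀ x g : S, x ∈ M → orderOf x = 2 → g * x * g⁻¹ = (I' : S) → g ∈ M := by
    intro x g hxM hx hgx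
    have hsub : ((X : Subgroup M).map M.subtype).map (MulAut.conj g⁻¹).toMonoidHom ≤ M := by
      rintro _ ⟨_, ⟨k, hk, rfl⟩, rfl⟩
      refine hC x hxM hx (Subgroup.mem_centralizer_singleton_iff.mpr ?_)
      have hcomm : (k : S) * (I' : S) = (I' : S) * (k : S) := congrArg (fun z : (X : Subgroup M) => ((z : M) : S))
        (Subgroup.mem_center_iff.mp hI'c ⟨k, hk⟩)
      rw [← hgx] at hcomm
      simp only [MulEquiv.coe_toMonoidHom, MulAut.conj_apply, Subgroup.coe_subtype, inv_inv]
      calc g⁻¹ * (k : S) * g * x = g⁻¹ * ((k : S) * (g * x * g⁻¹)) * g := by group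
        _ = g⁻¹ * (g * x * g⁻¹ * (k : S)) * g := by rw [hcomm]
        _ = x * (g⁻¹ * (k : S) * g) := by group
    set Y := ((X : Subgroup M).map M.subtype).map (MulAut.conj g⁻¹).toMonoidHom with hY
    have hYp : IsPGroup 2 (Y.subgroupOf M) := IsPGroup.comap_subtype ((X.isPGroup'.map _).map _)
    obtain ⟨R, hR⟩ := hYp.exists_le_sylow
    obtain ⟨m, hm⟩ := MulAction.exists_smul_eq M X R
    have hYcard : Nat.card (Y.subgroupOf M) = Nat.card (R : Subgroup M) := by
      rw [Nat.card_congr (Subgroup.subgroupOfEquivOfLe hsub).toEquiv, hY,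
        Subgroup.card_map_of_injective (MulEquiv.injective _),
        Subgroup.card_map_of_injective M.subtype_injective, Sylow.card_eq_multiplicity X,
        Sylow.card_eq_multiplicity R]
    have hYR : Y.subgroupOf M = (R : Subgroup M) := Subgroup.eq_of_le_of_card_ge hR hYcard.ge
    have hgm : g * (m : S) ∈ Subgroup.normalizer (((X : Subgroup M).map M.subtype : Subgroup S) : Set S) := by
      have hfwd : ∀ k ∈ (X : Subgroup M).map M.subtype,
          g * (m : S) * k * (g * (m : S))⁻¹ ∈ (X : Subgroup M).map M.subtype := by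
        rintro _ ⟨k, hk, rfl⟩
        have hR' : m * k * m⁻¹ ∈ (R : Subgroup M) := by
          rw [← hm, Sylow.coe_subgroup_smul]
          exact ⟨k, hk, rfl⟩
        rw [← hYR] at hR'
        obtain ⟨_, ⟨k', hk', rfl⟩, he⟩ := hR'
        refine ⟨k', hk', ?_⟩
        simp only [MulEquiv.coe_toMonoidHom, MulAut.conj_apply, inv_inv, Subgroup.coe_mul, Subgroup.coe_inv,
          Subgroup.coe_subtype] at he ⊢
        calc (k' : S) = g * (g⁻¹ * (k' : S) * g) * g⁻¹ := by group
          _ = g * ((m : S) * (k : S) * (m : S)⁻¹) * g⁻¹ := by rw [he]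
          _ = _ := by group
      rw [Subgroup.mem_normalizer_iff]
      intro z
      refine ⟨hfwd z, fun hz => ?_⟩
      let φ : (X : Subgroup M).map M.subtype → (X : Subgroup M).map M.subtype :=
        fun k => ⟨_, hfwd k.1 k.2⟩
      have hinj : Function.Injective φ := fun a b hab => Subtype.ext (by
        have := congrArg Subtype.val hab
        simpa [φ] using this)
      obtain ⟨k, hk⟩ := (Finite.injective_iff_surjective.mp hinj) ⟨_, hz⟩
      have := congrArg Subtype.val hk
      have hkz : (k : S) = z := by simpa [φ] using this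
      exact hkz ▸ k.2
    have h2 := M.mul_mem (hN hgm) (M.inv_mem m.2)
    simpa [mul_assoc] using h2
  have hto : ∀ x : S, x ∈ M → orderOf x = 2 → ∃ g ∈ M, g * x * g⁻¹ = (I' : S) := by
    intro x hxM hx
    obtain ⟨g, hg⟩ := isConj_iff.mp (h1 x I' hx hIS)
    exact ⟨g, hstep x g hxM hx hg, hg⟩
  have hSE : Cfsg.IsStronglyEmbedded M := by
    rw [Involution.isStronglyEmbedded_iff]
    refine ⟨hMne, hM, fun t htM ht g hg => ?_⟩
    obtain ⟨a, ha, hat⟩ := hto _ hg (by rw [Involution.orderOf_conj_eq, ht])
    have hag : a * g ∈ M := hstep t (a * g) htM ht (by rw [← hat]; group)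
    have := M.mul_mem (M.inv_mem ha) hag
    simpa [← mul_assoc] using this
  obtain ⟨v, hv, hvM⟩ := SECount.exists_invo_not_mem hSE
  set D := M ⊓ M.map (MulAut.conj v).toMonoidHom with hD
  have hDodd : Odd (Nat.card D) := hSE.2.2 v hvM
  refine ⟨?_, D.subgroupOf M, ?_, ?_⟩
  · intro x y hx hy
    obtain ⟨d, hd, hdx⟩ := SECount.exists_conj_mem_inf hSE hv hvM ((Subgroup.orderOf_coe x).trans hx)
      x.2 ((Subgroup.orderOf_coe y).trans hy) y.2
    exact isConj_iff.mpr ⟨⟨d, hd.1⟩, Subtype.ext hdx⟩
  · rw [Nat.card_congr (Subgroup.subgroupOfEquivOfLe inf_le_left).toEquiv]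
    exact hDodd
  · intro m
    obtain ⟨d, hd, hdm⟩ := SECount.exists_conj_mem_inf hSE hv hvM hIS I'.2
      (t := (m : S) * I' * (m : S)⁻¹) (by rw [Involution.orderOf_conj_eq, hIS])
      (M.mul_mem (M.mul_mem m.2 I'.2) (M.inv_mem m.2))
    refine ⟨⟨d, hd.1⟩, hd, ⟨d, hd.1⟩⁻¹ * m, Subgroup.mem_centralizer_singleton_iff.mpr (Subtype.ext ?_), by group⟩
    simp only [Subgroup.coe_mul, Subgroup.coe_inv]
    calc d⁻¹ * (m : S) * (I' : S) = d⁻¹ * ((m : S) * I' * (m : S)⁻¹) * (m : S) := by group
      _ = d⁻¹ * (d * I' * d⁻¹) * (m : S) := by rw [hdm]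
      _ = (I' : S) * (d⁻¹ * (m : S)) := by group

end Cfsg.Agent.S1905
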