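import Cfsg.Statements.S1906
import Cfsg.Agent.Lib.RankThreeLinear.Basic

set_option autoImplicit false
open Cfsg
open Cfsg.Agent.Lib

namespace Cfsg.Agent.S1906

/-- Let G be a finite group with no subgroup of index 2 whose Sylow 2-subgroup X embeds in GL₃(F) for a finite field F of odd order. If X contains an elementary abelian subgroup of order 8, then X is abelian. -/
theorem result {G : Type*} [Group G] [Finite G] (hG : ∀ H : Subgroup G, H.index ≠ 2) (X : Sylow 2 G)
    {F : Type*} [Field F] [Fintype F] (hF : Odd (Fintype.card F))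
    (f : ↥(X : Subgroup G) →* GL (Fin 3) F) (hf : Function.Injective f)
    (E : Subgroup G) (hE : E ≤ (X : Subgroup G)) (hEa : Cfsg.IsElementaryAbelian 2 E) (hE8 : Nat.card E = 8) :
    IsMulCommutative (X : Subgroup G) := by
  by_contra hnab
  have h2 : (2 : F) ≠ 0 := by
    intro h
    haveI : CharP F 2 := CharTwo.of_one_ne_zero_of_two_eq_zero one_ne_zero h
    have h3 := FiniteField.even_card_iff_char_two.mp (ringChar.eq F 2)
    rw [Nat.odd_iff] at hF
    omega
  have hnc : ¬ ∀ a b : (X : Subgroup G), a * b = b * a := fun h => hnab ⟨⟨h⟩⟩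
  have hcommE : ∀ a b : E, a * b = b * a := hEa.1.is_comm.comm
  have hsqE : ∀ a : E, a ^ 2 = 1 := fun a => Subtype.ext (hEa.2 a a.2)
  obtain ⟨a, ha⟩ := RankThreeLinear.exists_neg_one h2 (f.comp (Subgroup.inclusion hE))
    (hf.comp (Subgroup.inclusion_injective hE)) hcommE hsqE hE8
  obtain ⟨z, hz⟩ : ∃ z, z = Subgroup.inclusion hE a := ⟨_, rfl⟩
  have hfz : f z = -1 := hz ▸ ha
  have hzz : z * z = 1 := hf (by rw [map_mul, map_one, hfz, neg_mul_neg, one_mul])
  have hzc : ∀ b, b * z = z * b := fun b => hf (by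
    rw [map_mul, map_mul, hfz, mul_neg_one, neg_one_mul])
  let ψ : (X : Subgroup G) →* Fˣ := Matrix.GeneralLinearGroup.det.comp f
  have hdz : ψ z = -1 := Units.ext (by
    simp [ψ, hfz, Matrix.det_neg]; norm_num)
  have hval : ∀ (g : G) (hg : g⁻¹ * (z : G) * g ∈ (X : Subgroup G)),
      g ∈ Subgroup.normalizer ((X : Subgroup G) : Set G) → ψ ⟨_, hg⟩ = -1 := by
    intro g hg hgN
    let φ := (X : Subgroup G).normalizerMonoidHom ⟨g⁻¹, inv_mem hgN⟩
    have hy : ∀ b : (X : Subgroup G), ((φ b : (X : Subgroup G)) : G) = g⁻¹ * b * g := fun b => by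
      show g⁻¹ * (b : G) * g⁻¹⁻¹ = g⁻¹ * b * g
      rw [inv_inv]
    have hyz : (⟨_, hg⟩ : (X : Subgroup G)) = φ z := Subtype.ext (hy z).symm
    rw [hyz]
    have hsq : ψ (φ z) * ψ (φ z) = 1 := by rw [← map_mul, ← map_mul, hzz, map_one, map_one]
    classical
    refine (mul_self_eq_one_iff.mp (show ((ψ (φ z) : Fˣ) : F) * (ψ (φ z) : F) = 1 by
      rw [← Units.val_mul, hsq, Units.val_one])).elim (fun h1 => absurd ?_ h2) (fun h1 =>
        Units.ext (by rw [h1, Units.val_neg, Units.val_one]))
    have hmem := RankThreeLinear.mem_commutator h2 X.2 f hf hnc (y := φ z)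
      (by rw [← map_mul, hzz, map_one]) (fun he => ?_) (fun b => ?_) h1
    · have hzmem : z ∈ commutator (X : Subgroup G) := by
        have h5 := Subgroup.mem_map_of_mem φ.symm.toMonoidHom hmem
        rw [commutator_def, Subgroup.map_commutator] at h5
        simp only [MulEquiv.coe_toMonoidHom, MulEquiv.symm_apply_apply] at h5
        exact Subgroup.commutator_mono le_top le_top h5
      have h6 : ψ z = 1 := Abelianization.commutator_subset_ker ψ hzmem
      rw [hdz] at h6
      have h7 := congrArg Units.val h6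
      rw [Units.val_neg, Units.val_one] at h7
      linear_combination -h7
    · have := congrArg ψ (φ.map_eq_one_iff.mp he)
      rw [hdz, map_one] at this
      have h7 := congrArg Units.val this
      rw [Units.val_neg, Units.val_one] at h7
      exact h2 (by linear_combination -h7)
    · obtain ⟨c, rfl⟩ := φ.surjective b
      rw [← map_mul, ← map_mul, hzc]
  have hV := RankThreeLinear.transfer_ne_one X ψ z hzz hzc (e := (-1 : Fˣ)) (by simp) hval
  obtain ⟨H, hH⟩ := RankThreeLinear.exists_index_two (MonoidHom.transfer ψ) (g := (z : G))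
    (by
      rw [hV]
      intro h
      have h7 := congrArg Units.val h
      rw [Units.val_neg, Units.val_one] at h7
      exact h2 (by linear_combination -h7))
    (by rw [hV]; simp)
  exact hG H hH

end Cfsg.Agent.S1906
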