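import Cfsg.Statements.S1921
import Mathlib
import Cfsg.Agent.Lib.Components.Basic

set_option autoImplicit false
open Cfsg

namespace Cfsg.Agent.S1921

/-- Let a be an involution of a finite group H and L a component of H with a L a⁻¹ ≠ L; put M = ⟨L, aLa⁻¹⟩ and let J be the subgroup generated by the elements x · a x a⁻¹ with x ∈ L (the diagonal). Then every element of M outside J·Z(M) generates M together with J. -/
theorem result {H : Type*} [Group H] [Finite H] (a : H) (ha : orderOf a = 2) (L : Subgroup H) (hL : Cfsg.IsComponent L)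
    (hLa : L.map (MulAut.conj a).toMonoidHom ≠ L) (x : H) (hxM : x ∈ L ⊔ L.map (MulAut.conj a).toMonoidHom)
    (hxJ : x ∉ Subgroup.closure {y : H | ∃ l ∈ L, y = l * (a * l * a⁻¹)} ⊔
      ((L ⊔ L.map (MulAut.conj a).toMonoidHom) ⊓ Subgroup.centralizer ((L ⊔ L.map (MulAut.conj a).toMonoidHom : Subgroup H) : Set H))) :
    Subgroup.closure {y : H | ∃ l ∈ L, y = l * (a * l * a⁻¹)} ⊔ Subgroup.zpowers x = L ⊔ L.map (MulAut.conj a).toMonoidHom := by
  set a' := MulAut.conj a with ha'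
  set L' := L.map (MulAut.conj a).toMonoidHom with hL'
  have hcomm : L ≤ Subgroup.centralizer (L' : Set H) :=
    Lib.Components.isComponent_le_centralizer hL (Lib.Components.isComponent_conj hL a) (Ne.symm hLa)
  have hc : ∀ l ∈ L, ∀ m ∈ L, (a * m * a⁻¹) * l = l * (a * m * a⁻¹) := fun l hl m hm =>
    Subgroup.mem_centralizer_iff.mp (hcomm hl) _ ⟨m, hm, rfl⟩
  set J := Subgroup.closure {y : H | ∃ l ∈ L, y = l * (a * l * a⁻¹)} with hJ
  set M := L ⊔ L' with hM
  have hJM : J ≤ M := by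
    rw [hJ, Subgroup.closure_le]
    rintro _ ⟨l, hl, rfl⟩
    exact mul_mem (Subgroup.mem_sup_left hl) (Subgroup.mem_sup_right ⟨l, hl, rfl⟩)
  refine le_antisymm (sup_le hJM (Subgroup.zpowers_le.mpr hxM)) ?_
  set X := J ⊔ Subgroup.zpowers x with hX
  rw [hM, ← SetLike.mem_coe, Subgroup.coe_mul_of_left_le_normalizer_right _ _
    (hcomm.trans (Subgroup.centralizer_le_normalizer _))] at hxM
  obtain ⟨u, hu, _, ⟨m, hm, rfl⟩, rfl⟩ := hxM
  have hφ : ∀ l ∈ L, l * (a * l * a⁻¹) ∈ J := fun l hl => Subgroup.subset_closure ⟨l, hl, rfl⟩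
  have hw : u * m⁻¹ ∈ X ⊓ L := by
    refine ⟨?_, Subgroup.mul_mem _ hu (Subgroup.inv_mem _ hm)⟩
    have h := mul_mem (Subgroup.mem_sup_right (S := J)
      (Subgroup.mem_zpowers (u * (MulAut.conj a).toMonoidHom m)))
      (Subgroup.mem_sup_left (T := Subgroup.zpowers (u * (MulAut.conj a).toMonoidHom m))
        (inv_mem (hφ m hm)))
    have he : u * (MulAut.conj a).toMonoidHom m * (m * (a * m * a⁻¹))⁻¹ = u * m⁻¹ := by
      simp [mul_assoc]
    rwa [he] at h
  have hnorm : ((X ⊓ L).subgroupOf L).Normal := by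
    constructor
    intro z hz l
    rw [Subgroup.mem_subgroupOf] at hz ⊢
    refine ⟨?_, Subgroup.mul_mem _ (Subgroup.mul_mem _ l.2 z.2) (Subgroup.inv_mem _ l.2)⟩
    have h := mul_mem (mul_mem (Subgroup.mem_sup_left (T := Subgroup.zpowers _) (hφ l l.2)) hz.1)
      (inv_mem (Subgroup.mem_sup_left (T := Subgroup.zpowers _) (hφ l l.2)))
    have he : (l : H) * (a * l * a⁻¹) * z * ((l : H) * (a * l * a⁻¹))⁻¹ =
        (l : H) * z * (l : H)⁻¹ := by
      calc (l : H) * (a * l * a⁻¹) * z * ((l : H) * (a * l * a⁻¹))⁻¹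
          = (l : H) * ((a * l * a⁻¹) * z) * ((l : H) * (a * l * a⁻¹))⁻¹ := by group
        _ = (l : H) * (z * (a * l * a⁻¹)) * ((l : H) * (a * l * a⁻¹))⁻¹ := by rw [hc z z.2 l l.2]
        _ = _ := by group
    rw [he] at h
    exact h
  rcases Lib.Components.quasisimple_normal_eq_top_or_le_center hL.2 ((X ⊓ L).subgroupOf L)
    with htop | hcen
  · have hLX : L ≤ X := fun l hl =>
      ((htop.symm ▸ Subgroup.mem_top (⟨l, hl⟩ : L) :
        (⟨l, hl⟩ : L) ∈ (X ⊓ L).subgroupOf L) : l ∈ X ⊓ L).1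
    refine sup_le hLX ?_
    rintro _ ⟨l, hl, rfl⟩
    have h := mul_mem (inv_mem (hLX hl))
      (Subgroup.mem_sup_left (T := Subgroup.zpowers _) (hφ l hl) : l * (a * l * a⁻¹) ∈ X)
    simpa [mul_assoc] using h
  · exfalso
    apply hxJ
    have hwc : ∀ l ∈ L, l * (u * m⁻¹) = u * m⁻¹ * l := fun l hl => by
      have := hcen (show (⟨u * m⁻¹, hw.2⟩ : L) ∈ (X ⊓ L).subgroupOf L from hw)
      exact congrArg Subtype.val (Subgroup.mem_center_iff.mp this ⟨l, hl⟩)
    have hwM : u * m⁻¹ ∈ M ⊓ Subgroup.centralizer (M : Set H) := by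
      refine ⟨Subgroup.mem_sup_left hw.2, ?_⟩
      have hle : M ≤ Subgroup.centralizer ({u * m⁻¹} : Set H) := by
        refine sup_le (fun l hl => Subgroup.mem_centralizer_singleton_iff.mpr (hwc l hl)) ?_
        rintro _ ⟨l, hl, rfl⟩
        exact Subgroup.mem_centralizer_singleton_iff.mpr (hc _ hw.2 l hl)
      refine Subgroup.mem_centralizer_iff.mpr fun y hy => ?_
      exact Subgroup.mem_centralizer_singleton_iff.mp (hle hy)
    have he : u * (MulAut.conj a).toMonoidHom m = u * m⁻¹ * (m * (a * m * a⁻¹)) := by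
      simp [mul_assoc]
    show u * (MulAut.conj a).toMonoidHom m ∈ _
    rw [he]
    exact mul_mem (Subgroup.mem_sup_right hwM) (Subgroup.mem_sup_left (hφ m hm))

end Cfsg.Agent.S1921
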