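import Cfsg.Statements.S1922
import Cfsg.Agent.Lib.IsolatedPoint.Induction

set_option autoImplicit false
open Cfsg
open Cfsg.Agent.Lib

namespace Cfsg.Agent.S1922

/-- Let z be an involution of a finite group G and H a proper subgroup such that z lies in gHg⁻¹ exactly when g ∈ H. Then the following are equivalent: (1) for every conjugate t ≠ z of z commuting with z, the product zt lies in gHg⁻¹ exactly when g ∈ H; (2) z lies in the centre of some Sylow 2-subgroup of G, and for every conjugate t ≠ z of z commuting with z, the centralizer of zt is contained in H. -/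
theorem result {G : Type*} [Group G] [Finite G] (z : G) (hz : orderOf z = 2) (H : Subgroup G) (hH : H ≠ ⊤)
    (h0 : ∀ g : G, z ∈ H.map (MulAut.conj g).toMonoidHom ↔ g ∈ H) :
    (∀ t : G, IsConj z t → t ≠ z → t * z = z * t → ∀ g : G, z * t ∈ H.map (MulAut.conj g).toMonoidHom ↔ g ∈ H) ↔
      ((∃ P : Sylow 2 G, z ∈ (Subgroup.center ↥(P : Subgroup G)).map (P : Subgroup G).subtype) ∧
        ∀ t : G, IsConj z t → t ≠ z → t * z = z * t → Subgroup.centralizer ({z * t} : Set G) ≤ H) := by
  obtain ⟨hsq, hne⟩ := IsolatedPoint.orderOf_two_iff hz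
  constructor
  · intro h1
    have h : IsolatedPoint.Setup z H := ⟨hsq, hne, hH, h0, h1⟩
    exact ⟨IsolatedPoint.exists_central_sylow h, fun t ht htne htc c hc =>
      h.centralizer_prod_le ht htne htc (Subgroup.mem_centralizer_singleton_iff.mp hc)⟩
  · rintro ⟨⟨P, ⟨z', hz', rfl⟩⟩, h2⟩ t ht htne htc g
    exact IsolatedPoint.prod_of_conditions hsq h0 P
      (fun y hy => congrArg Subtype.val (Subgroup.mem_center_iff.mp hz' ⟨y, hy⟩)) ht htne htc
      (h2 t ht htne htc) g

end Cfsg.Agent.S1922
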