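import Cfsg.Statements.S1935
import Cfsg.Agent.Lib.Offender69.Main

set_option autoImplicit false
open Cfsg
open scoped IsMulCommutative

namespace Cfsg.Agent.S1935

/-- Let p ≥ 5 be a prime and, inside an ambient finite group, let G be a p-subgroup acting faithfully by conjugation on an elementary abelian p-subgroup V that it normalizes (only the identity of G centralizes V). Suppose V is an F-module for G: some nontrivial elementary abelian subgroup E of G satisfies #E · #C_V(E) ≥ #V. Then G contains such an offender A that moreover acts quadratically on V ([V, A, A] = 1) and is normal in its normal closure in G. -/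
theorem result {Ω : Type*} [Group Ω] [Finite Ω] (p : ℕ) [Fact p.Prime] (hp : 5 ≤ p) (V G : Subgroup Ω) (hV : Cfsg.IsElementaryAbelian p V) (hG : IsPGroup p ↥G) (hGV : G ≤ Subgroup.normalizer (V : Set Ω)) (hfaith : G ⊓ Subgroup.centralizer (V : Set Ω) = ⊥) (hF : ∃ E : Subgroup Ω, E ≤ G ∧ E ≠ ⊥ ∧ Cfsg.IsElementaryAbelian p E ∧ Nat.card ↥V ≤ Nat.card ↥E * Nat.card ↥(V ⊓ Subgroup.centralizer (E : Set Ω))) : ∃ A : Subgroup Ω, A ≤ G ∧ A ≠ ⊥ ∧ Cfsg.IsElementaryAbelian p A ∧ Nat.card ↥V ≤ Nat.card ↥A * Nat.card ↥(V ⊓ Subgroup.centralizer (A : Set Ω)) ∧ ⁅⁅V, A⁆, A⁆ = ⊥ ∧ ∀ g ∈ Subgroup.closure {x : Ω | ∃ h ∈ G, ∃ a ∈ A, x = h * a * h⁻¹}, ∀ a ∈ A, g * a * g⁻¹ ∈ A := by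
  classical
  haveI := hV.1
  obtain ⟨E, hEG, hEne, hEA, hE⟩ := hF
  have hodd : Odd p := (Fact.out : p.Prime).odd_of_ne_two (by omega)
  have hVp : IsPGroup p V := fun v => ⟨1, Subtype.ext (by simpa using hV.2 _ v.2)⟩
  obtain ⟨X, hXG, hXne, hXq, hXc⟩ :=
    Lib.Offender69.exists_quadratic_offender hV.1 hVp hG hGV hfaith hEG hEne hEA.1 hE
  have hmapX : (X.subgroupOf G).map G.subtype = X := by
    rw [Subgroup.map_subgroupOf_eq_of_le hXG]
  obtain ⟨A, hAne, hAq, hAc, hAn⟩ := Lib.Offender69.exists_normalised (p := p) hodd hV.2 hG hGV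
    hfaith (X.subgroupOf G) (fun h => hXne (by rw [← hmapX, h, Subgroup.map_bot]))
    ((Lib.Offender69.quad_iff hV.2 hGV _).2 (by rw [hmapX]; exact hXq))
    (by rwa [Lib.Offender69.card_fixOf, hmapX,
      ← Subgroup.card_map_of_injective (f := G.subtype) Subtype.val_injective, hmapX])
  haveI : NeZero p := ⟨(Fact.out : p.Prime).ne_zero⟩
  have hinj := Lib.Offender69.rep_injective (p := p) hGV hfaith
  refine ⟨A.map G.subtype, Subgroup.map_subtype_le A, ?_, ⟨?_, ?_⟩, ?_,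
    (Lib.Offender69.quad_iff hV.2 hGV A).1 hAq, ?_⟩
  · intro h
    exact hAne ((Subgroup.map_eq_bot_iff_of_injective A Subtype.val_injective).1 h)
  · refine ⟨⟨?_⟩⟩
    rintro ⟨_, a, ha, rfl⟩ ⟨_, b, hb, rfl⟩
    apply Subtype.ext
    change ((a * b : G) : Ω) = ((b * a : G) : Ω)
    congr 1
    apply hinj
    rw [← sub_left_inj (a := (1 : AddMonoid.End _)), map_mul, map_mul,
      Lib.Offender69.mul_sub_one_eq, Lib.Offender69.mul_sub_one_eq, hAq a ha b hb, hAq b hb a ha]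
    abel
  · rintro _ ⟨a, ha, rfl⟩
    change ((a : Ω)) ^ p = 1
    rw [← SubmonoidClass.coe_pow, OneMemClass.coe_eq_one]
    apply hinj
    have hpow : ∀ n : ℕ, Lib.Offender69.rep p hGV (a ^ n) - 1 =
        n • (Lib.Offender69.rep p hGV a - 1) := by
      intro n
      induction n with
      | zero => simp
      | succ n ih =>
        rw [pow_succ, map_mul, Lib.Offender69.mul_sub_one_eq, hAq _ (A.pow_mem ha n) a ha, ih,
          succ_nsmul, add_zero]
    have h := hpow p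
    rw [nsmul_eq_mul, Lib.Offender69.char_space hV.2, zero_mul, sub_eq_zero] at h
    rw [h, map_one]
  · rwa [Subgroup.card_map_of_injective Subtype.val_injective, ← Lib.Offender69.card_fixOf]
  · intro g hg
    have hle : Subgroup.closure {x : Ω | ∃ h ∈ G, ∃ a ∈ A.map G.subtype, x = h * a * h⁻¹} ≤
        (Subgroup.normalizer (A : Set G)).map G.subtype := by
      rw [Subgroup.closure_le]
      rintro _ ⟨h, hh, _, ⟨a, ha, rfl⟩, rfl⟩
      exact ⟨(⟨h, hh⟩ : G) * a * (⟨h, hh⟩ : G)⁻¹, hAn ⟨h, hh⟩ a ha, rfl⟩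
    obtain ⟨g', hg', rfl⟩ := hle hg
    rintro _ ⟨a, ha, rfl⟩
    exact ⟨g' * a * g'⁻¹, (Subgroup.mem_normalizer_iff.1 hg' a).1 ha, rfl⟩

end Cfsg.Agent.S1935
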