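import Cfsg.Statements.S1939
import Cfsg.Agent.Lib.Transfer.Fusion

set_option autoImplicit false
open Cfsg

namespace Cfsg.Agent.S1939

/-- Let S be a Sylow p-subgroup of the finite group G and a an element of S that is the only G-conjugate of a lying in S. Then every power of a has the same property: for every n, the only G-conjugate of a^n lying in S is a^n. -/
theorem result {G : Type*} [Group G] [Finite G] {p : ℕ} [Fact p.Prime] (S : Sylow p G) (a : G)
    (haS : a ∈ (S : Subgroup G)) (hwc : ∀ g : G, g * a * g⁻¹ ∈ (S : Subgroup G) → g * a * g⁻¹ = a) (n : ℕ) :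
    ∀ g : G, g * a ^ n * g⁻¹ ∈ (S : Subgroup G) → g * a ^ n * g⁻¹ = a ^ n := by
  intro g hb
  set b := g * a ^ n * g⁻¹ with hbdef
  have hcomm : a * b = b * a := by
    have h := hwc b (mul_mem (mul_mem hb haS) (inv_mem hb))
    calc a * b = b * a * b⁻¹ * b := by rw [h]
      _ = b * a := by group
  set C := Subgroup.centralizer ({b} : Set G)
  have haC : a ∈ C := Subgroup.mem_centralizer_singleton_iff.mpr hcomm
  have hyC : g * a * g⁻¹ ∈ C := Subgroup.mem_centralizer_singleton_iff.mpr (by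
    have : a * a ^ n = a ^ n * a := (pow_mul_comm' a n).symm
    calc g * a * g⁻¹ * b = g * (a * a ^ n) * g⁻¹ := by rw [hbdef]; group
      _ = g * (a ^ n * a) * g⁻¹ := by rw [this]
      _ = b * (g * a * g⁻¹) := by rw [hbdef]; group)
  obtain ⟨c, hc, R, hR1, hR2⟩ := Lib.Transfer.exists_conj_le_common_sylow C
    (U := Subgroup.zpowers a) (V := Subgroup.zpowers (g * a * g⁻¹))
    (S.2.to_le (Subgroup.zpowers_le.mpr haS))
    (by
      have : Subgroup.zpowers (g * a * g⁻¹) ≤
          (S : Subgroup G).map (MulAut.conj g).toMonoidHom :=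
        Subgroup.zpowers_le.mpr ⟨a, haS, rfl⟩
      exact (S.2.map _).to_le this)
    (Subgroup.zpowers_le.mpr haC) (Subgroup.zpowers_le.mpr hyC)
  obtain ⟨t, ht⟩ := Lib.Transfer.exists_sylow_map_conj_eq S R
  have mem : ∀ x ∈ (R : Subgroup G), t * x * t⁻¹ ∈ (S : Subgroup G) := fun x hx => by
    rw [← ht]; exact Subgroup.mem_map_of_mem _ hx
  have e1 : t * a * t⁻¹ = a := hwc t (mem a (hR1 (Subgroup.mem_zpowers a)))
  have e2 : (t * c * g) * a * (t * c * g)⁻¹ = a := by
    refine hwc _ ?_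
    have h := mem _ (hR2 ⟨_, Subgroup.mem_zpowers _, rfl⟩)
    simpa [mul_assoc] using h
  have e3 : g * a * g⁻¹ = c⁻¹ * a * c⁻¹⁻¹ := by
    have h4 : t⁻¹ * a * t = a := by
      conv_lhs => rw [← e1]
      group
    calc g * a * g⁻¹ = c⁻¹ * (t⁻¹ * ((t * c * g) * a * (t * c * g)⁻¹) * t) * c := by group
      _ = c⁻¹ * a * c⁻¹⁻¹ := by rw [e2, h4, inv_inv]
  have e4 : b = c⁻¹ * a ^ n * c⁻¹⁻¹ := by rw [hbdef, ← conj_pow, e3, conj_pow]
  have e5 : a ^ n = c * b * c⁻¹ := by rw [e4]; group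
  show b = a ^ n
  rw [e5, Subgroup.mem_centralizer_singleton_iff.mp hc]
  group

end Cfsg.Agent.S1939
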