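import Cfsg.Statements.S1940
import Cfsg.Agent.Lib.Trace.Basic

set_option autoImplicit false
open Cfsg

namespace Cfsg.Agent.S1940

/-- Let the finite group L act by automorphisms on the finite abelian group M, and let N be an L-invariant subgroup of M such that M/N is a p-group on which L acts trivially (every l • m lies in the coset mN). If every element of M is a product of an element of N and an element fixed by a Sylow p-subgroup T of L, then every element of M is a product of an element of N and an element fixed by all of L. -/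
theorem result {L : Type*} [Group L] [Finite L] {M : Type*} [CommGroup M] [Finite M] [MulDistribMulAction L M]
    {p : ℕ} [Fact p.Prime] (N : Subgroup M) (hN : ∀ (l : L) (m : M), m ∈ N → l • m ∈ N)
    (hquot : IsPGroup p (M ⧸ N)) (htriv : ∀ (l : L) (m : M), (l • m) * m⁻¹ ∈ N) (T : Sylow p L)
    (hT : ∀ m : M, ∃ n ∈ N, ∃ c : M, (∀ t ∈ (T : Subgroup L), t • c = c) ∧ m = n * c) :
    ∀ m : M, ∃ n ∈ N, ∃ c : M, (∀ l : L, l • c = c) ∧ m = n * c := by
  intro m
  obtain ⟨n₀, hn₀, c₀, hc₀, rfl⟩ := hT m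
  have hfix : ∀ l : L, QuotientGroup.mk' N (l • c₀) = QuotientGroup.mk' N c₀ := fun l => by
    rw [QuotientGroup.mk'_eq_mk']
    refine ⟨(l • c₀ * c₀⁻¹)⁻¹, N.inv_mem (htriv l c₀), ?_⟩
    simp [mul_comm, mul_left_comm]
  have htr : QuotientGroup.mk' N (Lib.Trace.trace hc₀) =
      QuotientGroup.mk' N c₀ ^ (T : Subgroup L).index :=
    Lib.Trace.map_trace_of_trivial _ hc₀ hfix
  obtain ⟨x, hx⟩ := (hquot.powEquiv' T.not_dvd_index).surjective (QuotientGroup.mk' N c₀)
  have hord := hquot.orderOf_coprime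
    ((Nat.Prime.coprime_iff_not_dvd (Fact.out : p.Prime)).mpr T.not_dvd_index) (QuotientGroup.mk' N c₀)
  obtain ⟨k, hk⟩ := exists_pow_eq_self_of_coprime hord.symm
  refine ⟨n₀ * (c₀ * (Lib.Trace.trace hc₀ ^ k)⁻¹), N.mul_mem hn₀ ?_, Lib.Trace.trace hc₀ ^ k,
    fun l => by rw [smul_pow', Lib.Trace.smul_trace], by simp [mul_assoc]⟩
  rw [← QuotientGroup.eq_one_iff]
  show QuotientGroup.mk' N (c₀ * (Lib.Trace.trace hc₀ ^ k)⁻¹) = 1
  rw [map_mul, map_inv, map_pow, htr, hk, mul_inv_cancel]

end Cfsg.Agent.S1940
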