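import Cfsg.Statements.S1941
import Cfsg.Agent.Lib.Components.GenFitting
import Cfsg.Agent.Lib.PSolvable.Core

set_option autoImplicit false
open Cfsg

namespace Cfsg.Agent.S1941

/-- Let G be a finite group with no nontrivial normal subgroup of order prime to p, T a Sylow p-subgroup of G and E(G) the layer of G (the subgroup generated by its components). An automorphism of G of p-power order that fixes T and E(G) elementwise is inner. -/
theorem result {G : Type*} [Group G] [Finite G] {p : ℕ} [Fact p.Prime] (hcore : Cfsg.pPrimeCore p G = ⊥)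
    (T : Sylow p G) (α : MulAut G) (hα : ∃ j : ℕ, orderOf α = p ^ j) (hfixT : ∀ x ∈ (T : Subgroup G), α x = x)
    (hfixE : ∀ x ∈ Cfsg.layer G, α x = x) : ∃ g : G, ∀ x : G, α x = g * x * g⁻¹ := by
  clear hα
  set F := Cfsg.generalizedFittingSubgroup G with hF
  have hFn : F.Normal := Lib.Components.generalizedFittingSubgroup_normal
  set Fix : Subgroup G := α.toMonoidHom.eqLocus (MonoidHom.id G) with hFix
  have hP : Cfsg.pCore p G ≤ Fix := fun x hx => hfixT x (Lib.PSolvable.pCore_le_sylow T hx)
  have hfit : Cfsg.fittingSubgroup G ≤ Cfsg.pCore p G := by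
    rw [Lib.Components.fittingSubgroup_eq_iSup_pCore]
    refine iSup_le fun q => ?_
    rcases eq_or_ne (q : ℕ) p with hq | hq
    · rw [hq]
    · have hqp : (q : ℕ).Prime := Nat.prime_of_mem_primeFactors q.2
      haveI : Fact (q : ℕ).Prime := ⟨hqp⟩
      refine le_trans ?_ (hcore.trans_le bot_le)
      obtain ⟨n, hn⟩ := IsPGroup.iff_card.mp (Lib.PSolvable.pCore_isPGroup (p := (q : ℕ)) (G := G))
      refine Lib.PSolvable.le_pPrimeCore ?_
      rw [hn]
      exact Nat.Coprime.pow_left n ((Nat.coprime_primes hqp Fact.out).mpr hq)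
  have hfixF : F ≤ Fix := sup_le (fun x hx => hfixE x hx) (hfit.trans hP)
  set Z : Subgroup G := F ⊓ Subgroup.centralizer (F : Set G) with hZ
  have hZn : Z.Normal := by
    haveI := hFn
    infer_instance
  haveI hZc : IsMulCommutative Z := ⟨⟨fun a b => Subtype.ext
    (Subgroup.mem_centralizer_iff.mp b.2.2 a a.2.1)⟩⟩
  have hZp : IsPGroup p Z := by
    open scoped IsMulCommutative in
    have hnil : Group.IsNilpotent Z := CommGroup.isNilpotent
    exact Lib.PSolvable.pCore_isPGroup.to_le
      ((Lib.Components.le_fittingSubgroup hZn hnil).trans hfit)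
  have hd : ∀ g : G, α g * g⁻¹ ∈ Z := by
    intro g
    have h1 : g⁻¹ * α g ∈ Subgroup.centralizer (F : Set G) := by
      rw [Subgroup.mem_centralizer_iff]
      intro f hf
      have h2 : α (g * f * g⁻¹) = g * f * g⁻¹ := hfixF (hFn.conj_mem f hf g)
      rw [map_mul, map_mul, map_inv, (show α f = f from hfixF hf)] at h2
      calc f * (g⁻¹ * α g) = g⁻¹ * (g * f * g⁻¹) * α g := by group
        _ = g⁻¹ * (α g * f * (α g)⁻¹) * α g := by rw [h2]
        _ = g⁻¹ * α g * f := by group
    have h3 : g⁻¹ * α g ∈ Z :=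
      ⟨Lib.Components.centralizer_generalizedFittingSubgroup_le h1, h1⟩
    have h4 := hZn.conj_mem _ h3 g
    simpa [mul_assoc] using h4
  let d : G → Z := fun g => ⟨α g * g⁻¹, hd g⟩
  let cj : G → Z → Z := fun g z => ⟨g * z * g⁻¹, hZn.conj_mem z z.2 g⟩
  have hdmul : ∀ g h, d (g * h) = d g * cj g (d h) := fun g h => Subtype.ext (by
    simp [d, cj, mul_assoc])
  let f : G ⧸ (T : Subgroup G) → Z := fun q => Quotient.liftOn' q d fun a b hab => by
    rw [QuotientGroup.leftRel_apply] at hab
    have hb : b = a * (a⁻¹ * b) := by group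
    apply Subtype.ext
    show α a * a⁻¹ = α b * b⁻¹
    conv_rhs => rw [hb, map_mul, hfixT _ hab]
    group
  haveI := Fintype.ofFinite (G ⧸ (T : Subgroup G))
  open scoped IsMulCommutative in
  let u : Z := ∏ q, f q
  open scoped IsMulCommutative in
  have hu : ∀ x, u = d x ^ (T : Subgroup G).index * cj x u := by
    intro x
    let φ : Z →* Z := MonoidHom.mk' (cj x) (fun a b => Subtype.ext (by simp [cj, mul_assoc]))
    calc u = ∏ q, f (x • q) := (Fintype.prod_equiv (MulAction.toPerm x) _ _ fun q => rfl).symm
      _ = ∏ q, d x * φ (f q) := Finset.prod_congr rfl fun q _ => by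
          induction q using Quotient.inductionOn' with
          | h g => exact hdmul x g
      _ = _ := by
          rw [Finset.prod_mul_distrib, Finset.prod_const, ← map_prod, Finset.card_univ,
            Subgroup.index, Nat.card_eq_fintype_card]
          rfl
  obtain ⟨v, hv⟩ := (hZp.powEquiv' T.not_dvd_index).surjective u
  replace hv : v ^ (T : Subgroup G).index = u := hv
  refine ⟨(v : G), fun x => ?_⟩
  open scoped IsMulCommutative in
  have h : d x * cj x v = v := by
    let φ : Z →* Z := MonoidHom.mk' (cj x) (fun a b => Subtype.ext (by simp [cj, mul_assoc]))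
    refine (hZp.powEquiv' T.not_dvd_index).injective ?_
    show (d x * φ v) ^ (T : Subgroup G).index = v ^ (T : Subgroup G).index
    rw [mul_pow, ← map_pow, hv]
    exact (hu x).symm
  have h' := congrArg Subtype.val h
  simp only [Subgroup.coe_mul, cj, d] at h'
  calc α x = (α x * x⁻¹ * (x * v * x⁻¹)) * x * (v : G)⁻¹ := by group
    _ = _ := by rw [h']

end Cfsg.Agent.S1941
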