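import Cfsg.Statements.S1944
import Cfsg.Agent.Lib.FusionMod.Basic
import Cfsg.Agent.Lib.Trace.Basic
import Cfsg.Agent.Lib.Coprime.Glauberman

set_option autoImplicit false
open Cfsg

namespace Cfsg.Agent.S1944

/-- Let S be a Sylow p-subgroup of the finite group G and suppose that the centre Z(S) lies in O_{p',p}(G). The elements of S each of which is its only G-conjugate in S form a subgroup W of Z(S); W is then a direct factor of Z(S): there is a subgroup K of Z(S) with W ∩ K = 1 and WK = Z(S). -/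
theorem result {G : Type*} [Group G] [Finite G] {p : ℕ} [Fact p.Prime] (S : Sylow p G)
    (hZ : ((S : Subgroup G) ⊓ Subgroup.centralizer ((S : Subgroup G) : Set G)) ≤ Cfsg.pPrimePCore p G) :
    ∃ W K : Subgroup G, (∀ x : G, x ∈ W ↔ (x ∈ (S : Subgroup G) ∧ ∀ g : G, g * x * g⁻¹ ∈ (S : Subgroup G) → g * x * g⁻¹ = x)) ∧
      K ≤ ((S : Subgroup G) ⊓ Subgroup.centralizer ((S : Subgroup G) : Set G)) ∧ W ⊓ K = ⊥ ∧ W ⊔ K = ((S : Subgroup G) ⊓ Subgroup.centralizer ((S : Subgroup G) : Set G)) := by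
  classical
  set s : Subgroup G := (S : Subgroup G) with hs
  set Z : Subgroup G := s ⊓ Subgroup.centralizer (s : Set G) with hZdef
  set H : Subgroup G := s ⊓ Cfsg.pPrimePCore p G with hH
  set N : Subgroup G := Subgroup.normalizer (H : Set G) with hN
  set M : Subgroup G := H ⊓ Subgroup.centralizer (H : Set G) with hM
  have hHs : H ≤ s := inf_le_left
  have hKn := Lib.PSolvable.pPrimePCore_normal (p := p) (G := G)
  have hsN : s ≤ N := Lib.FusionMod.le_normalizer_inf S _
  have hZH : Z ≤ H := le_inf inf_le_left hZ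
  have hZM : Z ≤ M := le_inf hZH (inf_le_right.trans (Subgroup.centralizer_le hHs))
  have hNM : N ≤ Subgroup.normalizer (M : Set G) := by
    intro n hn
    rw [Lib.ConjFunctor.mem_normalizer_iff_cj, hM, Lib.ConjFunctor.cj_inf,
      Lib.ConjFunctor.mem_normalizer_iff_cj.mp hn]
    congr 1
    ext w
    simp only [Lib.ConjFunctor.mem_cj, Subgroup.mem_centralizer_iff, SetLike.mem_coe]
    constructor
    · intro hw h hh
      have := hw _ ((Subgroup.mem_normalizer_iff.mp (inv_mem hn) h).mp hh)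
      have h3 := congrArg (fun t => n * t * n⁻¹) this
      simpa [mul_assoc] using h3
    · intro hw h hh
      have := hw _ ((Subgroup.mem_normalizer_iff.mp hn h).mp hh)
      have h3 := congrArg (fun t => n⁻¹ * t * n) this
      simpa [mul_assoc] using h3
  haveI hMc : IsMulCommutative M := ⟨⟨fun u v => Subtype.ext
    (Subgroup.mem_centralizer_iff.mp v.2.2 u u.2.1)⟩⟩
  open scoped IsMulCommutative in
  letI act : MulDistribMulAction N M :=
    MulDistribMulAction.compHom _ (Lib.Coprime.conjAut hNM)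
  have hact : ∀ (n : N) (v : M), ((n • v : M) : G) = (n : G) * v * (n : G)⁻¹ := fun n v =>
    Lib.Coprime.conjAut_coe hNM n v
  set W : Subgroup G := Z ⊓ Subgroup.centralizer (N : Set G) with hW
  set T : Subgroup N := s.subgroupOf N with hT
  have hidx : ¬ p ∣ T.index := fun h => S.not_dvd_index (h.trans (by
    rw [← hs]
    exact Subgroup.relIndex_dvd_index_of_le hsN))
  have hfixM : ∀ v : M, (v : G) ∈ Z → ∀ t ∈ T, t • v = v := by
    intro v hv t ht
    apply Subtype.ext
    rw [hact, Subgroup.mem_centralizer_iff.mp hv.2 (t : G) ht, mul_inv_cancel_right]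
  have hMZ : ∀ v : M, (∀ t ∈ T, t • v = v) → (v : G) ∈ Z := by
    intro v hv
    refine ⟨hHs v.2.1, Subgroup.mem_centralizer_iff.mpr fun t ht => ?_⟩
    have h := congrArg Subtype.val (hv ⟨t, hsN ht⟩ ht)
    rw [hact] at h
    exact mul_inv_eq_iff_eq_mul.mp h
  open scoped IsMulCommutative in
  let incl : Z →* Lib.Trace.fixedBy' (M := M) T :=
    { toFun := fun z => ⟨⟨z, hZM z.2⟩, hfixM _ z.2⟩
      map_one' := rfl
      map_mul' := fun _ _ => rfl }
  open scoped IsMulCommutative in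
  let τ : Z →* M := (Lib.Trace.traceHom T).comp incl
  have hτW : ∀ z, (τ z : G) ∈ W := by
    intro z
    have hfix : ∀ n : N, n • τ z = τ z := fun n => Lib.Trace.smul_trace _ n
    refine ⟨hMZ _ fun t _ => hfix t, Subgroup.mem_centralizer_iff.mpr fun n hn => ?_⟩
    have h := congrArg Subtype.val (hfix ⟨n, hn⟩)
    rw [hact] at h
    exact mul_inv_eq_iff_eq_mul.mp h
  have hτpow : ∀ (z : Z), (z : G) ∈ W → (τ z : G) = (z : G) ^ T.index := by
    intro z hz
    have hfix : ∀ n : N, n • (⟨z, hZM z.2⟩ : M) = ⟨z, hZM z.2⟩ := fun n => by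
      apply Subtype.ext
      rw [hact, Subgroup.mem_centralizer_iff.mp hz.2 (n : G) n.2, mul_inv_cancel_right]
    have h := congrArg Subtype.val (Lib.Trace.trace_of_fixed (incl z).2 hfix)
    exact h
  refine ⟨W, τ.ker.map Z.subtype, fun x => ?_, Subgroup.map_subtype_le _, ?_, ?_⟩
  · constructor
    · intro hx
      refine ⟨hx.1.1, fun g hg => ?_⟩
      obtain ⟨n, hn, hn'⟩ := Lib.FusionMod.exists_normalizer_conj S x (g * x * g⁻¹) hx.1.1 hg g rfl
      rw [← hn', Subgroup.mem_centralizer_iff.mp hx.2 n hn, mul_inv_cancel_right]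
    · rintro ⟨hxs, hwc⟩
      have hxZ : x ∈ Z := ⟨hxs, Subgroup.mem_centralizer_iff.mpr fun t ht =>
        mul_inv_eq_iff_eq_mul.mp (hwc t (mul_mem (mul_mem ht hxs) (inv_mem ht)))⟩
      refine ⟨hxZ, Subgroup.mem_centralizer_iff.mpr fun n hn => ?_⟩
      exact mul_inv_eq_iff_eq_mul.mp
        (hwc n (hHs ((Subgroup.mem_normalizer_iff.mp hn x).mp (hZH hxZ))))
  · rw [eq_bot_iff]
    rintro x ⟨hxW, z, hz, rfl⟩
    have h1 : (τ z : G) = 1 := by rw [MonoidHom.mem_ker.mp hz]; rfl
    rw [hτpow z hxW] at h1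
    rw [Subgroup.mem_bot]
    have h2 : orderOf (z : G) ∣ T.index := orderOf_dvd_of_pow_eq_one h1
    obtain ⟨k, hk⟩ := (IsPGroup.iff_orderOf.mp S.2) ⟨(z : G), z.2.1⟩
    rw [Subgroup.orderOf_mk] at hk
    rcases Nat.eq_zero_or_pos k with hk0 | hk0
    · show (z : G) = 1
      exact orderOf_eq_one_iff.mp (by rw [hk, hk0, pow_zero])
    · exact absurd ((dvd_pow_self p hk0.ne').trans (hk ▸ h2)) hidx
  · refine le_antisymm (sup_le inf_le_left (Subgroup.map_subtype_le _)) fun x hx => ?_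
    obtain ⟨m, hm⟩ := exists_pow_eq_self_of_coprime (x := (⟨x, hx⟩ : Z)) (n := T.index) (by
      obtain ⟨k, hk⟩ := (IsPGroup.iff_orderOf.mp S.2) ⟨x, hx.1⟩
      rw [Subgroup.orderOf_mk] at hk
      rw [Subgroup.orderOf_mk, hk]
      exact (((Fact.out : p.Prime).coprime_iff_not_dvd.mpr hidx).pow_left k).symm)
    set w : Z := ⟨τ ⟨x, hx⟩ ^ m, (pow_mem (hτW ⟨x, hx⟩) m).1⟩ with hw
    have hwW : (w : G) ∈ W := pow_mem (hτW ⟨x, hx⟩) m
    have hker : w⁻¹ * ⟨x, hx⟩ ∈ τ.ker := by
      rw [MonoidHom.mem_ker, map_mul, map_inv]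
      have h1 : τ w = τ ⟨x, hx⟩ := by
        apply Subtype.ext
        rw [hτpow w hwW]
        show ((τ ⟨x, hx⟩ : G) ^ m) ^ T.index = _
        rw [← pow_mul, mul_comm, pow_mul, ← Subgroup.coe_pow, ← Subgroup.coe_pow, ← map_pow,
          ← map_pow, hm]
      rw [h1, inv_mul_cancel]
    have : x = (w : G) * ((w⁻¹ * ⟨x, hx⟩ : Z) : G) := by simp
    rw [this]
    exact Subgroup.mul_mem_sup hwW (Subgroup.mem_map_of_mem Z.subtype hker)

end Cfsg.Agent.S1944
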