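import Mathlib
import Cfsg.Statements.S1945
import Cfsg.Agent.Lib.CentralElement.Weak
import Cfsg.Agent.Lib.SolvableCore.Basic
import Cfsg.Agent.Lib.Fusion87.NormalSubgroup

set_option autoImplicit false
set_option maxHeartbeats 400000
open Cfsg

namespace Cfsg.Agent.S1945

variable {G : Type*} [Group G] [Finite G] {p : ℕ} [Fact p.Prime]

/-- For an abelian `p`-group `V` normalized by `M`, where `M` contains a Sylow subgroup `S`, the fixed
points of `M` on `V` have a complement in the fixed points of `S`. -/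
theorem exists_complement (S : Sylow p G) (M V : Subgroup G) (hSM : (S : Subgroup G) ≤ M)
    (hVS : V ≤ S) (hVab : ∀ a ∈ V, ∀ b ∈ V, a * b = b * a)
    (hMV : ∀ m ∈ M, ∀ v ∈ V, m * v * m⁻¹ ∈ V) :
    ∃ K : Subgroup G, K ≤ V ⊓ Subgroup.centralizer ((S : Subgroup G) : Set G) ∧
      (V ⊓ Subgroup.centralizer (M : Set G)) ⊓ K = ⊥ ∧
      (V ⊓ Subgroup.centralizer (M : Set G)) ⊔ K =
        V ⊓ Subgroup.centralizer ((S : Subgroup G) : Set G) := by
  classical
  set Z := V ⊓ Subgroup.centralizer ((S : Subgroup G) : Set G) with hZdef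
  set W := V ⊓ Subgroup.centralizer (M : Set G) with hWdef
  have hWZ : W ≤ Z := inf_le_inf_left V (Subgroup.centralizer_le hSM)
  letI : CommGroup V :=
    { (inferInstance : Group V) with mul_comm := fun a b => Subtype.ext (hVab _ a.2 _ b.2) }
  set T : Subgroup M := (S : Subgroup G).subgroupOf M with hT
  haveI : Fintype (M ⧸ T) := Fintype.ofFinite _
  let c : M → Z → V := fun m z => ⟨(m : G) * (z : G) * (m : G)⁻¹, hMV _ m.2 _ z.2.1⟩
  have hcT : ∀ (m s : M) (z : Z), s ∈ T → c (m * s) z = c m z := by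
    intro m s z hs
    refine Subtype.ext ?_
    show ((m : G) * s) * (z : G) * ((m : G) * s)⁻¹ = _
    have h1 : (s : G) * z = (z : G) * s := Subgroup.mem_centralizer_iff.1 z.2.2 _ hs
    calc ((m : G) * s) * (z : G) * ((m : G) * s)⁻¹ = (m : G) * ((s : G) * z) * (s : G)⁻¹ * (m : G)⁻¹ := by group
      _ = (m : G) * ((z : G) * s) * (s : G)⁻¹ * (m : G)⁻¹ := by rw [h1]
      _ = (m : G) * (z : G) * (m : G)⁻¹ := by group
  let t : Z →* V := MonoidHom.mk' (fun z => ∏ q : M ⧸ T, c q.out z) (by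
    intro z z'
    rw [← Finset.prod_mul_distrib]
    refine Finset.prod_congr rfl fun q _ => Subtype.ext ?_
    show _ * ((z : G) * (z' : G)) * _ = _ * (z : G) * _ * (_ * (z' : G) * _)
    group)
  have hinv : ∀ (z : Z) (m : M), (m : G) * (t z : G) = (t z : G) * m := by
    intro z m
    let f : V →* V := MonoidHom.mk' (fun v => ⟨(m : G) * (v : G) * (m : G)⁻¹, hMV _ m.2 _ v.2⟩)
      (fun a b => Subtype.ext (by
        show (m : G) * ((a : G) * b) * (m : G)⁻¹ = (m : G) * a * (m : G)⁻¹ * ((m : G) * b * (m : G)⁻¹)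
        group))
    have h1 : f (t z) = t z := by
      show f (∏ q : M ⧸ T, c q.out z) = ∏ q : M ⧸ T, c q.out z
      rw [map_prod]
      refine Fintype.prod_equiv (MulAction.toPerm m) _ _ fun q => ?_
      obtain ⟨s, hs⟩ := QuotientGroup.mk_out_eq_mul T (m * q.out)
      have hmq : MulAction.toPerm m q = QuotientGroup.mk (m * q.out) := by
        show m • q = _
        conv_lhs => rw [← q.out_eq]
        rfl
      rw [hmq, hs, hcT _ _ _ s.2]
      refine Subtype.ext ?_
      show (m : G) * ((q.out : M) * (z : G) * ((q.out : M) : G)⁻¹) * (m : G)⁻¹ =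
        ((m : G) * (q.out : M)) * (z : G) * ((m : G) * (q.out : M))⁻¹
      group
    have h2 : (m : G) * (t z : G) * (m : G)⁻¹ = (t z : G) := congrArg Subtype.val h1
    exact mul_inv_eq_iff_eq_mul.1 h2
  have htW : ∀ z : Z, (t z : G) ∈ W := fun z =>
    ⟨(t z).2, Subgroup.mem_centralizer_iff.2 fun m hm => hinv z ⟨m, hm⟩⟩
  set m := Nat.card (M ⧸ T)
  have htpow : ∀ z : Z, (z : G) ∈ W → (t z : G) = (z : G) ^ m := by
    intro z hz
    have : ∀ q : M ⧸ T, c q.out z = ⟨z, z.2.1⟩ := fun q => Subtype.ext (by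
      show (q.out : M) * (z : G) * ((q.out : M) : G)⁻¹ = z
      rw [Subgroup.mem_centralizer_iff.1 hz.2 _ (q.out : M).2, mul_inv_cancel_right])
    show ((∏ q : M ⧸ T, c q.out z : V) : G) = _
    rw [Finset.prod_congr rfl fun q _ => this q, Finset.prod_const, Finset.card_univ,
      ← Nat.card_eq_fintype_card, Subgroup.coe_pow]
  have hmcop : ∀ v ∈ V, (orderOf v).Coprime m := by
    intro v hv
    obtain ⟨k, hk⟩ := IsPGroup.iff_orderOf.1 (S.2.to_le hVS) ⟨v, hv⟩
    rw [Subgroup.orderOf_mk] at hk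
    rw [hk]
    refine Nat.Coprime.pow_left k ((Fact.out : p.Prime).coprime_iff_not_dvd.2 fun hd => ?_)
    exact S.not_dvd_index (hd.trans (Subgroup.relIndex_dvd_index_of_le hSM))
  set K : Subgroup G := t.ker.map Z.subtype with hK
  have hKZ : K ≤ Z := Subgroup.map_subtype_le _
  refine ⟨K, hKZ, ?_, ?_⟩
  · rw [eq_bot_iff]
    rintro w ⟨hw, hwK⟩
    obtain ⟨z, hz, rfl⟩ := Subgroup.mem_map.1 hwK
    have h1 := htpow z hw
    rw [MonoidHom.mem_ker.1 hz, OneMemClass.coe_one] at h1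
    rw [Subgroup.mem_bot, ← orderOf_eq_one_iff]
    exact Nat.eq_one_of_dvd_coprimes (hmcop _ hw.1) dvd_rfl (orderOf_dvd_of_pow_eq_one h1.symm)
  · refine le_antisymm (sup_le hWZ hKZ) fun z hz => ?_
    obtain ⟨j, hj⟩ := exists_pow_eq_self_of_coprime (hmcop _ (t ⟨z, hz⟩).2).symm
    have hu := htW ⟨z, hz⟩
    set u : G := (t ⟨z, hz⟩ : G)
    have hwW : u ^ j ∈ W := W.pow_mem hu j
    have hwm : (t ⟨u ^ j, hWZ hwW⟩ : G) = u := by
      rw [htpow _ hwW, ← pow_mul, mul_comm, pow_mul, hj]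
    have hker : (⟨u ^ j, hWZ hwW⟩ : Z)⁻¹ * ⟨z, hz⟩ ∈ t.ker := by
      rw [MonoidHom.mem_ker, map_mul, map_inv, inv_mul_eq_one]
      exact Subtype.ext hwm
    have : z = u ^ j * ((u ^ j)⁻¹ * z) := by group
    rw [this]
    exact Subgroup.mul_mem_sup hwW ⟨_, hker, rfl⟩

/-- Let S be a Sylow p-subgroup of the finite group G, and assume that p is odd or that G is solvable. The elements of S each of which is its only G-conjugate in S form a subgroup W of Z(S); W is then a direct factor of Z(S): there is a subgroup K of Z(S) with W ∩ K = 1 and WK = Z(S). (For p = 2 and G not solvable this can fail.) -/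
theorem result {G : Type*} [Group G] [Finite G] {p : ℕ} [Fact p.Prime] (S : Sylow p G) (h : p ≠ 2 ∨ Group.IsSolvable G) :
    ∃ W K : Subgroup G, (∀ x : G, x ∈ W ↔ (x ∈ (S : Subgroup G) ∧ ∀ g : G, g * x * g⁻¹ ∈ (S : Subgroup G) → g * x * g⁻¹ = x)) ∧
      K ≤ ((S : Subgroup G) ⊓ Subgroup.centralizer ((S : Subgroup G) : Set G)) ∧ W ⊓ K = ⊥ ∧ W ⊔ K = ((S : Subgroup G) ⊓ Subgroup.centralizer ((S : Subgroup G) : Set G)) := by
  -- it is enough to find `M` and `V`
  suffices hMV : ∃ M V : Subgroup G, (S : Subgroup G) ≤ M ∧ V ≤ S ∧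
      (∀ a ∈ V, ∀ b ∈ V, a * b = b * a) ∧ (∀ m ∈ M, ∀ v ∈ V, m * v * m⁻¹ ∈ V) ∧
      (S : Subgroup G) ⊓ Subgroup.centralizer ((S : Subgroup G) : Set G) ≤ V ∧
      ∀ x ∈ V, (∀ m ∈ M, m * x = x * m) → ∀ g : G, g * x * g⁻¹ ∈ (S : Subgroup G) → g * x * g⁻¹ = x by
    obtain ⟨M, V, hSM, hVS, hVab, hMVn, hZV, hiso⟩ := hMV
    have hZ : V ⊓ Subgroup.centralizer ((S : Subgroup G) : Set G) =
        (S : Subgroup G) ⊓ Subgroup.centralizer ((S : Subgroup G) : Set G) :=
      le_antisymm (inf_le_inf_right _ hVS) (le_inf hZV inf_le_right)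
    obtain ⟨K, hK, hWK, hWK'⟩ := exists_complement S M V hSM hVS hVab hMVn
    refine ⟨V ⊓ Subgroup.centralizer (M : Set G), K, fun x => ⟨fun hx => ⟨hVS hx.1, hiso x hx.1
      (Subgroup.mem_centralizer_iff.1 hx.2)⟩, fun hx => ?_⟩, hZ ▸ hK, hWK, hWK'.trans hZ⟩
    have hxZ : x ∈ (S : Subgroup G) ⊓ Subgroup.centralizer ((S : Subgroup G) : Set G) :=
      ⟨hx.1, Subgroup.mem_centralizer_iff.2 fun s hs => mul_inv_eq_iff_eq_mul.1 (hx.2 s
        (Subgroup.mul_mem _ (Subgroup.mul_mem _ hs hx.1) (Subgroup.inv_mem _ hs)))⟩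
    exact ⟨hZV hxZ, Subgroup.mem_centralizer_iff.2 fun m hm =>
      mul_inv_eq_iff_eq_mul.1 (hx.2 m (hVS (hMVn m hm x (hZV hxZ))))⟩
  by_cases hp : p ≠ 2
  · -- `M = N(J(S))`, `V = Z(J(S))`
    set J := thompsonSubgroupAOf (S : Subgroup G) with hJ
    have hW := Lib.CentralElement.isConjugacyFunctor_thompsonSubgroupAOf (G := G) (p := p)
    have hJS : J ≤ S := Lib.CentralElement.thompsonSubgroupAOf_le_self _
    refine ⟨Subgroup.normalizer (J : Set G), J ⊓ Subgroup.centralizer (J : Set G),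
      Subgroup.le_normalizer.trans (Lib.Functor.normalizer_le_normalizer_functor hW S.isPGroup'),
      inf_le_left.trans hJS, fun a ha b hb => Subgroup.mem_centralizer_iff.1 hb.2 a ha.1, ?_, ?_, ?_⟩
    · intro m hm v hv
      refine ⟨(Subgroup.mem_normalizer_iff.1 hm v).1 hv.1, Subgroup.mem_centralizer_iff.2 fun a ha => ?_⟩
      have h1 := Subgroup.mem_centralizer_iff.1 hv.2 _ ((Subgroup.mem_normalizer_iff''.1 hm a).1 ha)
      calc a * (m * v * m⁻¹) = m * ((m⁻¹ * a * m) * v) * m⁻¹ := by group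
        _ = m * (v * (m⁻¹ * a * m)) * m⁻¹ := by rw [h1]
        _ = m * v * m⁻¹ * a := by group
    · exact le_inf (Lib.CentralElement.centre_le_thompsonSubgroupAOf _)
        (inf_le_right.trans (Subgroup.centralizer_le hJS))
    · exact fun x hx hxM => Lib.CentralElement.weaklyClosed_of_central S (hJS hx.1) hxM (Or.inl hp)
  · -- solvable: `M = N(R)`, `V = Z(R)` with `R = S ∩ O_{p',p}(G)`
    haveI hs : Group.IsSolvable G := h.resolve_left hp
    haveI := Lib.PSolvable.pPrimeCore_characteristic (p := p) (G := G)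
    haveI := Lib.PSolvable.pCore_characteristic (p := p) (G := G ⧸ pPrimeCore p G)
    set N := pPrimeCore p G
    set O' := (pCore p (G ⧸ N)).comap (QuotientGroup.mk' N) with hO'
    set R := (S : Subgroup G) ⊓ O' with hR
    have hle : Subgroup.centralizer (pCore p (G ⧸ N) : Set (G ⧸ N)) ≤ pCore p (G ⧸ N) :=
      Lib.SolvableCore.centralizer_pCore_le inferInstance Lib.PSolvable.pPrimeCore_quotient_eq_bot
    have hlift : ∀ y ∈ pCore p (G ⧸ N), ∃ r ∈ R, QuotientGroup.mk' N r = y := by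
      intro y hy
      have h1 := Lib.PSolvable.pCore_le_sylow (S.mapSurjective (QuotientGroup.mk'_surjective N)) hy
      rw [Sylow.coe_mapSurjective] at h1
      obtain ⟨s, hs', rfl⟩ := Subgroup.mem_map.1 h1
      exact ⟨s, ⟨hs', hy⟩, rfl⟩
    have hdec : ∀ x ∈ O', ∃ r ∈ R, r⁻¹ * x ∈ N := by
      intro x hx
      obtain ⟨r, hr, hrx⟩ := hlift _ hx
      exact ⟨r, hr, QuotientGroup.eq.1 hrx⟩
    have hCR : (S : Subgroup G) ⊓ Subgroup.centralizer (R : Set G) ≤ R := by
      rintro x ⟨hxS, hxC⟩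
      refine ⟨hxS, hle (Subgroup.mem_centralizer_iff.2 fun y hy => ?_)⟩
      obtain ⟨r, hr, rfl⟩ := hlift y hy
      rw [← map_mul, ← map_mul, Subgroup.mem_centralizer_iff.1 hxC r hr]
    have hSN : (S : Subgroup G) ≤ Subgroup.normalizer (R : Set G) := by
      intro s hs'
      have h1 : ∀ s ∈ (S : Subgroup G), ∀ x ∈ R, s * x * s⁻¹ ∈ R := fun s hs' x hx =>
        ⟨Subgroup.mul_mem _ (Subgroup.mul_mem _ hs' hx.1) (Subgroup.inv_mem _ hs'),
          Subgroup.Normal.conj_mem inferInstance x hx.2 s⟩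
      refine Subgroup.mem_normalizer_iff.2 fun x => ⟨h1 s hs' x, fun hx => ?_⟩
      have h2 := h1 s⁻¹ (Subgroup.inv_mem _ hs') _ hx
      rwa [show s⁻¹ * (s * x * s⁻¹) * s⁻¹⁻¹ = x by group] at h2
    refine ⟨Subgroup.normalizer (R : Set G), R ⊓ Subgroup.centralizer (R : Set G), hSN,
      inf_le_left.trans inf_le_left, fun a ha b hb => Subgroup.mem_centralizer_iff.1 hb.2 a ha.1,
      ?_, ?_, ?_⟩
    · intro m hm v hv
      refine ⟨(Subgroup.mem_normalizer_iff.1 hm v).1 hv.1, Subgroup.mem_centralizer_iff.2 fun a ha => ?_⟩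
      have h1 := Subgroup.mem_centralizer_iff.1 hv.2 _ ((Subgroup.mem_normalizer_iff''.1 hm a).1 ha)
      calc a * (m * v * m⁻¹) = m * ((m⁻¹ * a * m) * v) * m⁻¹ := by group
        _ = m * (v * (m⁻¹ * a * m)) * m⁻¹ := by rw [h1]
        _ = m * v * m⁻¹ * a := by group
    · have h1 : (S : Subgroup G) ⊓ Subgroup.centralizer ((S : Subgroup G) : Set G) ≤
          Subgroup.centralizer (R : Set G) :=
        inf_le_right.trans (Subgroup.centralizer_le (show R ≤ (S : Subgroup G) from inf_le_left))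
      exact le_inf ((le_inf inf_le_left h1).trans hCR) h1
    · intro x hx hxM g hg
      have hRO : R ≤ O' := inf_le_right
      have hgR : R.map (MulAut.conj g).toMonoidHom ≤ O' := by
        rintro _ ⟨r, hr, rfl⟩
        exact Subgroup.Normal.conj_mem inferInstance r (hRO hr) g
      obtain ⟨k, hkO, hk⟩ := (Lib.Fusion87.isSylowIn_inf_normal S O').exists_conj_le
        ((S.2.to_le inf_le_left).map _) hgR
      obtain ⟨r, hr, hrk⟩ := hdec k hkO
      set n := r⁻¹ * k with hn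
      have hmR : ∀ a ∈ R, (n * g) * a * (n * g)⁻¹ ∈ R := by
        intro a ha
        have h1 : k * (g * a * g⁻¹) * k⁻¹ ∈ R := hk ⟨_, ⟨a, ha, rfl⟩, rfl⟩
        have e : (n * g) * a * (n * g)⁻¹ = r⁻¹ * (k * (g * a * g⁻¹) * k⁻¹) * r := by rw [hn]; group
        rw [e]
        exact R.mul_mem (R.mul_mem (R.inv_mem hr) h1) hr
      haveI : Finite R := inferInstance
      have hmN : n * g ∈ Subgroup.normalizer (R : Set G) := by
        refine Subgroup.mem_normalizer_iff.2 fun a => ⟨hmR a, fun ha => ?_⟩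
        have hmap : R.map (MulAut.conj (n * g)).toMonoidHom = R :=
          Subgroup.eq_of_le_of_card_ge (by rintro _ ⟨b, hb, rfl⟩; exact hmR b hb)
            (Subgroup.card_map_of_injective (MulAut.conj (n * g)).injective).ge
        rw [← hmap] at ha
        obtain ⟨b, hb, hb'⟩ := ha
        have : b = a := (MulAut.conj (n * g)).injective hb'
        exact this ▸ hb
      have e : g * x * g⁻¹ = n⁻¹ * x * n := by
        have h1 : (n * g) * x * (n * g)⁻¹ = x := mul_inv_eq_iff_eq_mul.2 (hxM _ hmN)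
        calc g * x * g⁻¹ = n⁻¹ * ((n * g) * x * (n * g)⁻¹) * n := by group
          _ = n⁻¹ * x * n := by rw [h1]
      rw [e] at hg ⊢
      have h1 : n⁻¹ * x * n * x⁻¹ ∈ (S : Subgroup G) ⊓ N := by
        refine ⟨Subgroup.mul_mem _ hg (Subgroup.inv_mem _ hx.1.1), ?_⟩
        rw [show n⁻¹ * x * n * x⁻¹ = n⁻¹ * (x * n * x⁻¹) by group]
        exact N.mul_mem (N.inv_mem hrk) (Subgroup.Normal.conj_mem inferInstance n hrk x)
      have hbot : (S : Subgroup G) ⊓ N = ⊥ := by
        obtain ⟨k', hk'⟩ := IsPGroup.iff_card.1 (S.2.to_le (inf_le_left : (S : Subgroup G) ⊓ N ≤ S))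
        refine Subgroup.card_eq_one.1 (Nat.eq_one_of_dvd_coprimes
          (a := Nat.card ↥((S : Subgroup G) ⊓ N)) (b := Nat.card N) ?_ dvd_rfl
          (Subgroup.card_dvd_of_le inf_le_right))
        rw [hk']
        exact Nat.Coprime.pow_left k' (Lib.PSolvable.pPrimeCore_coprime).symm
      rw [hbot, Subgroup.mem_bot] at h1
      exact mul_inv_eq_one.1 h1

end Cfsg.Agent.S1945
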