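import Cfsg.Statements.S1948
import Cfsg.Agent.Lib.FusionMod.Basic

set_option autoImplicit false
open Cfsg

namespace Cfsg.Agent.S1948

/-- Let S be a Sylow p-subgroup of the finite group G. Then G = N_G(S)·O_{p'}(G) if and only if G is p-constrained and N_G(S) controls fusion in S, in the sense that whenever a subgroup Q of S has a conjugate g Q g⁻¹ inside S, the element g is a product n c with n normalizing S and c centralizing Q. -/
theorem result {G : Type*} [Group G] [Finite G] {p : ℕ} [Fact p.Prime] (S : Sylow p G) :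
    Subgroup.normalizer ((S : Subgroup G) : Set G) ⊔ Cfsg.pPrimeCore p G = ⊤ ↔
      (Cfsg.IsPConstrained p G ∧
        ∀ Q : Subgroup G, Q ≤ (S : Subgroup G) → ∀ g : G, Q.map (MulAut.conj g).toMonoidHom ≤ (S : Subgroup G) →
          ∃ n ∈ Subgroup.normalizer ((S : Subgroup G) : Set G), ∃ c ∈ Subgroup.centralizer (Q : Set G), g = n * c) := by
  have hKn := Lib.PSolvable.pPrimePCore_normal (p := p) (G := G)
  have hDn : (Cfsg.pPrimeCore p G).Normal := inferInstance
  constructor
  · intro htop
    have htop' : Cfsg.pPrimeCore p G ⊔ Subgroup.normalizer ((S : Subgroup G) : Set G) = ⊤ := by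
      rw [sup_comm]; exact htop
    refine ⟨?_, fun Q hQ g hg => ?_⟩
    · apply Lib.PSolvable.isPConstrained_of_isPSolvable
      set f := QuotientGroup.mk' (Cfsg.pPrimeCore p G) with hf
      have hSn : ((S : Subgroup G).map f).Normal := by
        rw [← Subgroup.normalizer_eq_top_iff, eq_top_iff]
        intro q _
        obtain ⟨g, rfl⟩ := QuotientGroup.mk'_surjective (Cfsg.pPrimeCore p G) q
        obtain ⟨d, hd, n, hn, rfl⟩ := Lib.FusionMod.exists_mul_of_top htop' g
        rw [map_mul, (QuotientGroup.eq_one_iff d).mpr hd |> fun h => (show f d = 1 from h), one_mul]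
        exact Subgroup.le_normalizer_map f (Subgroup.mem_map_of_mem f hn)
      refine Lib.PSolvable.isPSolvable_of_quotient (Cfsg.pPrimeCore p G)
        (Or.inr Lib.PSolvable.pPrimeCore_coprime) ?_
      refine Lib.PSolvable.isPSolvable_of_quotient ((S : Subgroup G).map f)
        (Or.inl (IsPGroup.iff_card.mp (S.2.map f))) (Lib.PSolvable.isPSolvable_of_coprime ?_)
      rw [← Subgroup.index_eq_card]
      have h2 := (S.mapSurjective (QuotientGroup.mk'_surjective (Cfsg.pPrimeCore p G))).not_dvd_index
      rw [Sylow.coe_mapSurjective] at h2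
      exact Nat.Coprime.symm ((Fact.out : p.Prime).coprime_iff_not_dvd.mpr h2)
    · obtain ⟨d, hd, n, hn, hg'⟩ := Lib.FusionMod.exists_mul_of_top htop' g
      refine ⟨n, hn, n⁻¹ * d * n, ?_, by rw [hg']; group⟩
      rw [Subgroup.mem_centralizer_iff]
      intro q hq
      have hd' : n⁻¹ * d * n ∈ Cfsg.pPrimeCore p G := by simpa using hDn.conj_mem d hd n⁻¹
      set e := n⁻¹ * d * n with he
      have h1 : e * q * e⁻¹ ∈ (S : Subgroup G) := by
        have h := hg ⟨q, hq, rfl⟩
        have h' := (Subgroup.mem_normalizer_iff.mp (inv_mem hn) _).mp h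
        simpa [he, hg', mul_assoc] using h'
      have h2 : e * q * e⁻¹ * q⁻¹ = 1 := by
        refine Lib.FusionMod.eq_one_of_mem_pPrimeCore S.2
          ((S : Subgroup G).mul_mem h1 ((S : Subgroup G).inv_mem (hQ hq))) ?_
        have := mul_mem hd' (hDn.conj_mem _ (inv_mem hd') q)
        simpa [mul_assoc] using this
      calc q * e = (e * q * e⁻¹ * q⁻¹) * q * e := by rw [h2, one_mul]
        _ = e * q := by group
  · rintro ⟨hcon, hctrl⟩
    set K := Cfsg.pPrimePCore p G with hK
    set H := (S : Subgroup G) ⊓ K with hH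
    have hC : Subgroup.centralizer (H : Set G) ≤ K := by
      have := hcon (Lib.FusionMod.sylowInf S K)
      rwa [Lib.FusionMod.map_sylowInf] at this
    have hKle : K ≤ Subgroup.normalizer ((S : Subgroup G) : Set G) ⊔ Cfsg.pPrimeCore p G :=
      (Lib.FusionMod.pPrimePCore_le_sup S).trans
        (sup_le le_sup_right ((inf_le_left.trans Subgroup.le_normalizer).trans le_sup_left))
    rw [eq_top_iff, ← Lib.FusionMod.frattini_pPrimePCore S]
    refine sup_le le_sup_right fun n hn => ?_
    obtain ⟨m, hm, c, hc, rfl⟩ := hctrl H inf_le_left n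
      (le_of_eq_of_le (Subgroup.mem_normalizer_iff_map_conj_eq.mp hn) inf_le_left)
    exact mul_mem (Subgroup.mem_sup_left hm) (hKle (hC hc))

end Cfsg.Agent.S1948
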