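import Cfsg.Statements.S1953
import Mathlib
import Cfsg.Agent.Lib.ThompsonNPC.CentricControl
import Cfsg.Agent.Lib.ThompsonNPC.SL2AutFree

set_option autoImplicit false
open Cfsg

namespace Cfsg.Agent.S1953

/-- Let p be an odd prime and P a Sylow p-subgroup of the finite group G, and suppose that for no p-subgroup Q of G does N_G(Q)/C_G(Q) have a section isomorphic to SL₂(p). Call a subgroup Q of P centric-radical when Z(Q) is a Sylow p-subgroup of C_G(Q) and the only normal subgroup X of N_G(Q) containing Q·C_G(Q) such that the index of Q·C_G(Q) in X is a power of p is Q·C_G(Q) itself (that is, N_G(Q)/Q·C_G(Q) has no nontrivial normal p-subgroup). Then there is a centric-radical subgroup Q of P contained in every centric-radical subgroup of P; it is normal in P, and N_G(Q) controls strong fusion in P: whenever a subgroup A of P has g A g⁻¹ ≤ P, the element g is a product h c with h in N_G(Q) and c centralizing A. -/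
theorem result {G : Type*} [Group G] [Finite G] {p : ℕ} [Fact p.Prime] (hp : p ≠ 2) (P : Sylow p G)
    (hfree : ∀ Q : Subgroup G, IsPGroup p ↥Q → ¬ ∃ (H K : Subgroup G) (_ : (K.subgroupOf H).Normal),
      Subgroup.centralizer (Q : Set G) ≤ K ∧ K ≤ H ∧ H ≤ Subgroup.normalizer (Q : Set G) ∧
      Nonempty ((↥H ⧸ K.subgroupOf H) ≃* Matrix.SpecialLinearGroup (Fin 2) (ZMod p)))
    (cr : Subgroup G → Prop)
    (hcr : ∀ Q : Subgroup G, cr Q ↔ (Q ≤ (P : Subgroup G) ∧
      (∃ R : Sylow p ↥(Subgroup.centralizer (Q : Set G)),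
        (R : Subgroup ↥(Subgroup.centralizer (Q : Set G))).map (Subgroup.centralizer (Q : Set G)).subtype = Q ⊓ Subgroup.centralizer (Q : Set G)) ∧
      ∀ X : Subgroup G, X ≤ Subgroup.normalizer (Q : Set G) →
        (∀ n ∈ Subgroup.normalizer (Q : Set G), X.map (MulAut.conj n).toMonoidHom = X) →
        Q ⊔ Subgroup.centralizer (Q : Set G) ≤ X → (∃ k : ℕ, (Q ⊔ Subgroup.centralizer (Q : Set G)).relIndex X = p ^ k) →
        X = Q ⊔ Subgroup.centralizer (Q : Set G))) :
    ∃ Q : Subgroup G, cr Q ∧ (∀ R : Subgroup G, cr R → Q ≤ R) ∧ (∀ x ∈ (P : Subgroup G), Q.map (MulAut.conj x).toMonoidHom = Q) ∧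
      ∀ A : Subgroup G, A ≤ (P : Subgroup G) → ∀ g : G, A.map (MulAut.conj g).toMonoidHom ≤ (P : Subgroup G) →
        ∃ h ∈ Subgroup.normalizer (Q : Set G), ∃ c ∈ Subgroup.centralizer (A : Set G), g = h * c := by
  obtain ⟨Q, hQ, hrad⟩ := Lib.ThompsonNPC.exists_centric_control (p := p) hp
    (Lib.ThompsonNPC.sl2AutFreeClass hp) (Lib.ThompsonNPC.sl2AutFree_of_no_section hfree) P
  have hconj : ∀ (X : Subgroup G) (n : G), n ∈ Subgroup.normalizer (X : Set G) →
      X.map (MulAut.conj n).toMonoidHom = X := fun X n hn => by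
    have := Lib.Fusion4.rc_of_mem_normalizer (inv_mem hn)
    rwa [Lib.Fusion4.rc, inv_inv] at this
  refine ⟨Q, (hcr Q).2 ⟨hQ.le, ?_, fun X hX1 hX2 hX3 hX4 => hrad X hX1 (fun n hn =>
    Lib.Fusion4.mem_normalizer_of_rc_eq (hX2 n⁻¹ (inv_mem hn))) hX3 hX4⟩, fun R hR => ?_,
    fun x hx => hconj Q x (hQ.norm hx), fun A hA g hg => ?_⟩
  · -- `Z(Q)` is Sylow in `C(Q)`
    set N := Subgroup.normalizer (Q : Set G)
    set C := Subgroup.centralizer (Q : Set G) with hC
    have hidxN : ¬ p ∣ (P : Subgroup G).relIndex N := fun h =>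
      P.not_dvd_index (h.trans ⟨_, (Subgroup.relIndex_mul_index hQ.norm).symm⟩)
    have h1 := Lib.ThompsonNPC.not_dvd_relIndex_inf (K := C) P.2 hQ.norm hidxN
      (Lib.ThompsonNPC.normalizer_le_normalizer_centralizer _)
    rw [inf_eq_left.2 (Subgroup.centralizer_le_normalizer _)] at h1
    have he : (P : Subgroup G) ⊓ C = Q ⊓ C :=
      le_antisymm (le_inf hQ.centric inf_le_right) (inf_le_inf_right _ hQ.le)
    rw [he] at h1
    refine ⟨(IsPGroup.of_equiv (P.2.to_le (inf_le_left.trans hQ.le))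
      (Subgroup.subgroupOfEquivOfLe (inf_le_right : Q ⊓ C ≤ C)).symm).toSylow h1, ?_⟩
    exact Subgroup.map_subgroupOf_eq_of_le inf_le_right
  · obtain ⟨hRP, hSy, hRrad⟩ := (hcr R).1 hR
    refine Lib.ThompsonNPC.le_of_control P.2 hQ.le hQ.norm hQ.control hRP ?_
      (fun X hX1 hX2 hX3 hX4 => hRrad X hX1 (fun n hn => hconj X n (hX2 hn)) hX3 hX4)
    intro z hz
    set C := Subgroup.centralizer (R : Set G)
    obtain ⟨S, hS⟩ := hSy
    have hle : (S : Subgroup C) ≤ ((P : Subgroup G) ⊓ C).subgroupOf C := by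
      intro w hw
      have h2 : (w : G) ∈ R ⊓ C := hS ▸ Subgroup.mem_map_of_mem C.subtype hw
      exact Subgroup.mem_subgroupOf.2 ⟨hRP h2.1, w.2⟩
    have heq := S.is_maximal' (P.2.to_le inf_le_left).comap_subtype hle
    have h3 : (⟨z, hz.2⟩ : C) ∈ (S : Subgroup C) := heq ▸ Subgroup.mem_subgroupOf.2 hz
    have h4 : z ∈ R ⊓ C := hS ▸ Subgroup.mem_map_of_mem C.subtype h3
    exact h4.1
  · obtain ⟨n, hn, hn'⟩ := hQ.control (A : Set G) g⁻¹ hA (by
      rintro _ ⟨a, ha, rfl⟩
      have := hg (Subgroup.mem_map_of_mem _ ha)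
      show g⁻¹⁻¹ * a * g⁻¹ ∈ (P : Subgroup G)
      simpa [mul_assoc] using this)
    refine ⟨n⁻¹, inv_mem hn, n * g, Subgroup.mem_centralizer_iff.2 fun a ha => ?_, by group⟩
    have h := hn' a ha
    rw [inv_inv] at h
    calc a * (n * g) = n * (n⁻¹ * a * n) * g := by group
      _ = n * (g * a * g⁻¹) * g := by rw [h]
      _ = n * g * a := by group

end Cfsg.Agent.S1953
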