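import Cfsg.Statements.S1958
import Cfsg.Agent.Lib.PSolvable.Constrained
import Cfsg.Agent.Lib.Coprime.Quotient

set_option autoImplicit false
open Cfsg

namespace Cfsg.Agent.S1958

/-- Let `G` be a finite group, `p` a prime, and `x, y` commuting elements of order `p` whose centralizers `C_G(x)` and `C_G(y)` are both solvable. Then `O_{p'}(C_G(x)) ∩ C_G(y) = O_{p'}(C_G(y)) ∩ C_G(x)` (balance). -/
theorem result {G : Type*} [Group G] [Finite G]
    (p : ℕ) [Fact p.Prime] (x y : G) (hx : orderOf x = p) (hy : orderOf y = p) (hxy : x * y = y * x)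
    (hCx : Group.IsSolvable ↥(Subgroup.centralizer ({x} : Set G))) (hCy : Group.IsSolvable ↥(Subgroup.centralizer ({y} : Set G))) :
    Cfsg.centralizerPPrimeCore p x ⊓ Subgroup.centralizer {y} = Cfsg.centralizerPPrimeCore p y ⊓ Subgroup.centralizer {x} := by
  have key : ∀ x y : G, orderOf x = p → x * y = y * x →
      Group.IsSolvable ↥(Subgroup.centralizer ({y} : Set G)) →
      Cfsg.centralizerPPrimeCore p x ⊓ Subgroup.centralizer {y} ≤ Cfsg.centralizerPPrimeCore p y := by
    intro x y hx hxy hCy d hd
    set Cy := Subgroup.centralizer ({y} : Set G) with hCydef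
    set Cx := Subgroup.centralizer ({x} : Set G) with hCxdef
    have hxC : x ∈ Cy := Subgroup.mem_centralizer_singleton_iff.mpr hxy
    set x' : Cy := ⟨x, hxC⟩
    set Z : Subgroup Cy := Subgroup.zpowers x'
    have hZ : IsPGroup p Z := IsPGroup.of_card (n := 1) (by
      rw [Nat.card_zpowers, pow_one]
      exact (Subgroup.orderOf_mk x hxC).trans hx)
    have hcon : Cfsg.IsPConstrained p Cy :=
      haveI := hCy
      Lib.PSolvable.isPConstrained_of_isPSolvable Lib.PSolvable.isPSolvable_of_isSolvable
    set N := Subgroup.normalizer (Z : Set Cy) with hN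
    set D : Subgroup G := Cfsg.centralizerPPrimeCore p x with hD
    have hdD : (⟨d, hd.2⟩ : Cy) ∈ D.subgroupOf Cy := hd.1
    have hDZ : D.subgroupOf Cy ≤ N := by
      intro e he
      refine Subgroup.centralizer_le_normalizer _ ?_
      show e ∈ Subgroup.centralizer ((Subgroup.zpowers x' : Subgroup Cy) : Set Cy)
      rw [Subgroup.zpowers_eq_closure, Subgroup.centralizer_closure,
        Subgroup.mem_centralizer_singleton_iff]
      exact Subtype.ext (Subgroup.mem_centralizer_singleton_iff.mp
        (Subgroup.map_subtype_le _ he : (e : G) ∈ Cx))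
    have hDN : ∀ n ∈ N, ∀ e ∈ D.subgroupOf Cy, n * e * n⁻¹ ∈ D.subgroupOf Cy := by
      intro n hn e he
      rw [Subgroup.mem_subgroupOf, Subgroup.coe_mul, Subgroup.coe_mul, Subgroup.coe_inv]
      have hchar : (Cfsg.pPrimeCore p Cx).Characteristic :=
        Lib.PSolvable.pPrimeCore_characteristic
      have hnx : (n : G) ∈ Subgroup.normalizer (Cx : Set G) := by
        have h1 : (n : G) * x * (n : G)⁻¹ ∈ Subgroup.zpowers x := by
          obtain ⟨k, hk⟩ := (Subgroup.mem_normalizer_iff.mp hn x').mp (Subgroup.mem_zpowers x')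
          exact ⟨k, by simpa [x'] using congrArg Subtype.val hk⟩
        have h2 : (n : G)⁻¹ * x * (n : G) ∈ Subgroup.zpowers x := by
          obtain ⟨k, hk⟩ := (Subgroup.mem_normalizer_iff.mp (inv_mem hn) x').mp
            (Subgroup.mem_zpowers x')
          exact ⟨k, by simpa [x'] using congrArg Subtype.val hk⟩
        have hcx : Cx = Subgroup.centralizer ((Subgroup.zpowers x : Subgroup G) : Set G) := by
          rw [Subgroup.zpowers_eq_closure, Subgroup.centralizer_closure]
        have hmem : (n : G) ∈ Subgroup.normalizer ((Subgroup.zpowers x : Subgroup G) : Set G) := by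
          rw [Subgroup.mem_normalizer_iff]
          intro w
          constructor
          · rintro ⟨k, rfl⟩
            show (n : G) * x ^ k * (n : G)⁻¹ ∈ _
            rw [← conj_zpow]; exact Subgroup.zpow_mem _ h1 k
          · rintro ⟨k, hk⟩
            have : w = (n : G)⁻¹ * x ^ k * (n : G)⁻¹⁻¹ := by
              rw [show x ^ k = (n : G) * w * (n : G)⁻¹ from hk]; group
            rw [this, ← conj_zpow]
            exact Subgroup.zpow_mem _ (by simpa using h2) k
        rw [hcx]
        rw [Subgroup.mem_normalizer_iff]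
        intro w
        simp only [Subgroup.mem_centralizer_iff, SetLike.mem_coe]
        constructor
        · intro hw z hz
          have := hw _ ((Subgroup.mem_normalizer_iff.mp (inv_mem hmem) z).mp hz)
          have h3 := congrArg (fun t => (n : G) * t * (n : G)⁻¹) this
          simpa [mul_assoc] using h3
        · intro hw z hz
          have := hw _ ((Subgroup.mem_normalizer_iff.mp hmem z).mp hz)
          have h3 := congrArg (fun t => (n : G)⁻¹ * t * (n : G)) this
          simpa [mul_assoc] using h3
      exact (Subgroup.mem_normalizer_iff.mp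
        (Lib.Coprime.normalizer_le_normalizer_map_of_characteristic _ hnx) _).mp he
    have hnormal : ((D.subgroupOf Cy).subgroupOf N).Normal := ⟨fun e he n => hDN n n.2 e he⟩
    have hcard : (Nat.card ((D.subgroupOf Cy).subgroupOf N)).Coprime p := by
      refine Nat.Coprime.coprime_dvd_left ?_
        (Lib.PSolvable.pPrimeCore_coprime (G := Cx) (p := p))
      refine (Subgroup.card_comap_dvd_of_injective _ _ (Subgroup.subtype_injective _)).trans
        ((Subgroup.card_comap_dvd_of_injective _ _ (Subgroup.subtype_injective _)).trans ?_)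
      exact Subgroup.card_map_dvd _ _
    have hle := Lib.PSolvable.le_pPrimeCore hcard
    have h1 : (⟨d, hd.2⟩ : Cy) ∈ (Cfsg.pPrimeCore p N).map N.subtype :=
      ⟨⟨_, hDZ hdD⟩, hle hdD, rfl⟩
    rw [Lib.PSolvable.map_pPrimeCore_normalizer hcon hZ] at h1
    exact ⟨⟨d, hd.2⟩, h1.1, rfl⟩
  refine le_antisymm (le_inf (key x y hx hxy hCy) (inf_le_left.trans (Subgroup.map_subtype_le _)))
    (le_inf (key y x hy hxy.symm hCx) (inf_le_left.trans (Subgroup.map_subtype_le _)))

end Cfsg.Agent.S1958
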