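import Cfsg.Statements.S1966
import Cfsg.Agent.Lib.ConjFunctor.Basic
import Cfsg.Agent.Lib.PSolvable.Core

set_option autoImplicit false
open Cfsg

namespace Cfsg.Agent.S1966

/-- Let p be a prime, G a finite group with Sylow p-subgroup S and 𝓕 a conjugation family for S in G. Then the members of 𝓕 containing O_p(G) still form a conjugation family for S in G. -/
theorem result {G : Type*} [Group G] [Finite G] {p : ℕ} [Fact p.Prime] (S : Sylow p G) (𝓕 : Set (Subgroup G)) (h : Cfsg.IsConjugationFamily 𝓕 (S : Subgroup G)) : Cfsg.IsConjugationFamily {T : Subgroup G | T ∈ 𝓕 ∧ Cfsg.pCore p G ≤ T} (S : Subgroup G) := by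
  have hK : Cfsg.pCore p G ≤ (S : Subgroup G) := Lib.PSolvable.pCore_le_sylow S
  refine ⟨fun T hT => h.1 T hT.1, fun A g hne hA hg => ?_⟩
  have hconj : ∀ y : G, ∀ k ∈ Cfsg.pCore p G, y⁻¹ * k * y ∈ Cfsg.pCore p G := by
    intro y k hk
    have hn : (Cfsg.pCore p G).Normal := inferInstance
    simpa using hn.conj_mem k hk y⁻¹
  obtain ⟨n, T, x, hp, hT, hx, h0, hs⟩ := h.2 (A ∪ (Cfsg.pCore p G : Set G)) g hne.inl
    (Set.union_subset hA hK) (by
      rintro _ ⟨a, (ha | ha), rfl⟩
      · exact hg ⟨a, ha, rfl⟩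
      · exact hK (hconj g a ha))
  refine ⟨n, T, x, hp, fun i => ⟨hT i, ?_⟩, hx,
    fun hn => subset_trans Set.subset_union_left (h0 hn),
    fun i hi => subset_trans (Set.image_mono Set.subset_union_left) (hs i hi)⟩
  intro k hk
  obtain ⟨i, hi⟩ := i
  cases i with
  | zero => exact h0 hi (Or.inr hk)
  | succ i =>
    have := hs ⟨i, by omega⟩ hi
    set y := ((List.ofFn x).take (i + 1)).prod
    exact this ⟨y * k * y⁻¹, Or.inr (by simpa using hconj y⁻¹ k hk), by group⟩

end Cfsg.Agent.S1966
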