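import Cfsg.Statements.S1968
import Cfsg.Agent.Lib.ConjFunctor.Alperin

set_option autoImplicit false
open Cfsg

namespace Cfsg.Agent.S1968

/-- Let p be a prime, G a finite group with Sylow p-subgroup S and W a conjugacy functor for p on G with Z(P) ≤ W(P) for every p-subgroup P. Let A be a subgroup of Z(S) normalized by N_G(W(S)) that is not weakly closed in S with respect to G. Then there is a subgroup T of S, well placed in S with respect to W, such that: A ≤ T; N_G(W(N_S(T))) normalizes A; N_S(T) is a Sylow p-subgroup of N_G(T); A ≤ Z(N_S(T)); and A is not weakly closed in N_S(T) with respect to N_G(T), that is, some N_G(T)-conjugate of A other than A lies in N_S(T). -/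
theorem result {G : Type*} [Group G] [Finite G] {p : ℕ} [Fact p.Prime] (S : Sylow p G) (W : Subgroup G → Subgroup G) (hW : Cfsg.IsConjugacyFunctor p W) (hWZ : ∀ P : Subgroup G, IsPGroup p ↥P → P ⊓ Subgroup.centralizer (P : Set G) ≤ W P) (A : Subgroup G) (hAZ : A ≤ (S : Subgroup G) ⊓ Subgroup.centralizer ((S : Subgroup G) : Set G)) (hAN : Subgroup.normalizer ((W (S : Subgroup G) : Subgroup G) : Set G) ≤ Subgroup.normalizer ((A : Subgroup G) : Set G)) (hnwc : ¬ Cfsg.IsWeaklyClosed A (S : Subgroup G)) : ∃ T : Subgroup G, Cfsg.IsWellPlaced p W (S : Subgroup G) T ∧ A ≤ T ∧ Subgroup.normalizer ((W ((S : Subgroup G) ⊓ Subgroup.normalizer ((T : Subgroup G) : Set G)) : Subgroup G) : Set G) ≤ Subgroup.normalizer ((A : Subgroup G) : Set G) ∧ ¬ p ∣ ((S : Subgroup G) ⊓ Subgroup.normalizer ((T : Subgroup G) : Set G)).relIndex (Subgroup.normalizer ((T : Subgroup G) : Set G)) ∧ A ≤ Subgroup.centralizer (((S : Subgroup G) ⊓ Subgroup.normalizer ((T : Subgroup G) : Set G) : Subgroup G) : Set G) ∧ ∃ g ∈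 Subgroup.normalizer ((T : Subgroup G) : Set G), A.map (MulAut.conj g).toMonoidHom ≤ (S : Subgroup G) ⊓ Subgroup.normalizer ((T : Subgroup G) : Set G) ∧ A.map (MulAut.conj g).toMonoidHom ≠ A := by
  classical
  set s : Subgroup G := (S : Subgroup G) with hs
  have hS : IsPGroup p s := S.2
  have hAS : A ≤ s := hAZ.trans inf_le_left
  have hAc : A ≤ Subgroup.centralizer (s : Set G) := hAZ.trans inf_le_right
  set C : Set (Subgroup G) := {T | Cfsg.IsWellPlaced p W s T ∧ A ≤ T ∧
    ∃ g ∈ Subgroup.normalizer (T : Set G), Lib.ConjFunctor.cj g A ≤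
      s ⊓ Subgroup.normalizer (T : Set G) ∧ Lib.ConjFunctor.cj g A ≠ A} with hC
  have hne : C.Nonempty := by
    have key : ∀ (B : Set G) (g : G),
        Lib.ConjFunctor.Steps {U : Subgroup G | Cfsg.IsWellPlaced p W s U} B g →
        B = (A : Set G) → Lib.ConjFunctor.cj g A ≠ A → C.Nonempty := by
      intro B g h
      induction h with
      | nil B => intro _ hne; exact absurd (Lib.ConjFunctor.cj_one A) hne
      | @cons B g T x hT hB hx _ ih =>
        intro hBA hne
        subst hBA
        by_cases hxA : Lib.ConjFunctor.cj x A = A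
        · apply ih
          · rw [Lib.ConjFunctor.conj_image_coe, hxA]
          · intro hgA
            apply hne
            rw [← Lib.ConjFunctor.cj_cj, hxA, hgA]
        · refine ⟨T, hT, hB, x, hx, le_inf ?_ ?_, hxA⟩ <;>
          · have hxT : Lib.ConjFunctor.cj x A ≤ T := by
              rw [← Lib.ConjFunctor.mem_normalizer_iff_cj.mp hx]
              exact Lib.ConjFunctor.cj_mono x hB
            first | exact hxT.trans hT.1 | exact hxT.trans Subgroup.le_normalizer
    simp only [Cfsg.IsWeaklyClosed, not_and, not_forall] at hnwc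
    obtain ⟨g, hg, hgA⟩ := hnwc hAS
    refine key _ g (Lib.ConjFunctor.steps_of_conj hS _ (fun U hU => hU.1)
      (Lib.ConjFunctor.exists_conj_wellPlaced_mem hW hS S.not_dvd_index) A hAS g hg) rfl hgA
  obtain ⟨T, hTC, hTmax⟩ := C.toFinite.exists_maximalFor
    (fun T : Subgroup G => Nat.card ↥(s ⊓ Subgroup.normalizer (T : Set G))) C hne
  obtain ⟨hwp, hAT, g, hgN, hgle, hgne⟩ := hTC
  set R := s ⊓ Subgroup.normalizer (T : Set G) with hR
  have hTR : T ≤ R := le_inf hwp.1 Subgroup.le_normalizer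
  have hAR : A ≤ Subgroup.centralizer (R : Set G) :=
    hAc.trans (Subgroup.centralizer_le (SetLike.coe_subset_coe.mpr inf_le_left))
  refine ⟨T, hwp, hAT, ?_, hwp.2 0, hAR, g, hgN, hgle, hgne⟩
  intro x hx
  rw [Lib.ConjFunctor.mem_normalizer_iff_cj]
  by_contra hxA
  have hRp : IsPGroup p R := hS.to_le inf_le_left
  have hAU : A ≤ W R := le_trans (le_inf (hAT.trans hTR) hAR) (hWZ R hRp)
  have hUle : W R ≤ R := Lib.ConjFunctor.functor_le hW hRp
  have hwp1 : Cfsg.IsWellPlaced p W s (W R) := by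
    refine ⟨hUle.trans inf_le_left, fun i => ?_⟩
    have h1 := Lib.ConjFunctor.functorTower_shift W s T i
    have h2 : Cfsg.functorTower W s T 1 = W R := rfl
    rw [h2] at h1
    rw [h1]
    exact hwp.2 (i + 1)
  have hxU : Lib.ConjFunctor.cj x A ≤ W R := by
    rw [← Lib.ConjFunctor.mem_normalizer_iff_cj.mp hx]
    exact Lib.ConjFunctor.cj_mono x hAU
  have hmem : W R ∈ C := ⟨hwp1, hAU, x, hx,
    le_inf (hxU.trans (hUle.trans inf_le_left)) (hxU.trans Subgroup.le_normalizer), hxA⟩
  rcases eq_or_lt_of_le (inf_le_left : R ≤ s) with hRs | hRs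
  · rw [hRs] at hx
    exact hxA (Lib.ConjFunctor.mem_normalizer_iff_cj.mp (hAN hx))
  · have h1 := Lib.ConjFunctor.card_lt_card_of_lt (Lib.ConjFunctor.lt_inf_normalizer hS hRs)
    have h2 : Nat.card ↥(s ⊓ Subgroup.normalizer (R : Set G)) ≤
        Nat.card ↥(s ⊓ Subgroup.normalizer ((W R : Subgroup G) : Set G)) :=
      Subgroup.card_le_of_le (inf_le_inf_left s
        (Lib.ConjFunctor.normalizer_le_normalizer_functor hW hRp))
    have h3 : Nat.card ↥R < Nat.card ↥(s ⊓ Subgroup.normalizer ((W R : Subgroup G) : Set G)) :=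
      lt_of_lt_of_le h1 h2
    exact absurd (hTmax hmem h3.le) h3.not_ge

end Cfsg.Agent.S1968
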