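import Cfsg.Statements.S1969
import Cfsg.Agent.Lib.Functor.Sections
import Cfsg.Agent.Lib.ConjFunctor.Engine

set_option autoImplicit false
universe u
open Cfsg

namespace Cfsg.Agent.S1969

/-- Let p be a prime, G a finite group and W an isomorphism-invariant p-group functor (W assigns to every group Q a subgroup W(Q), nontrivial whenever Q is a nontrivial finite p-group, and every isomorphism from a finite p-group Q onto a group R carries W(Q) onto W(R)). Suppose that W(S*) is normal in G* whenever G* = K/R is a section of G with C_{G*}(O_p(G*)) ≤ O_p(G*) and S* is a Sylow p-subgroup of G*. Then W controls strong fusion in every section of G: for every section K/R and every Sylow p-subgroup T of K/R, the subgroup W(T) controls strong fusion in K/R. -/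
theorem result {G : Type u} [Group G] [Finite G] {p : ℕ} [Fact p.Prime] (W : ∀ (Q : Type u) [Group Q], Subgroup Q) (hW : Cfsg.IsCharPFunctor.{u} p W) (hloc : ∀ (K R : Subgroup G) [hR : (R.subgroupOf K).Normal], Subgroup.centralizer ((Cfsg.pCore p (↥K ⧸ R.subgroupOf K) : Subgroup (↥K ⧸ R.subgroupOf K)) : Set (↥K ⧸ R.subgroupOf K)) ≤ Cfsg.pCore p (↥K ⧸ R.subgroupOf K) → ∀ T : Sylow p (↥K ⧸ R.subgroupOf K), (Cfsg.inducedFunctor (G := (↥K ⧸ R.subgroupOf K)) W ((T : Subgroup (↥K ⧸ R.subgroupOf K)))).Normal) : ∀ (K R : Subgroup G) [hR : (R.subgroupOf K).Normal], ∀ T : Sylow p (↥K ⧸ R.subgroupOf K), Cfsg.ControlsStrongFusion p (Cfsg.inducedFunctor (G := (↥K ⧸ R.subgroupOf K)) W ((T : Subgroup (↥K ⧸ R.subgroupOf K)))) := by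
  intro K R hR T
  have h𝓦 : ∀ W' ∈ ({@W} : Set (∀ (Q : Type u) [Group Q], Subgroup Q)), Cfsg.IsCharPFunctor.{u} p W' := by
    intro W' h; rw [Set.mem_singleton_iff.mp h]; exact hW
  have key := Lib.Functor.familyControls_of_constrained_sections h𝓦 (↥K ⧸ R.subgroupOf K)
    fun Y _ _ hY hc => Lib.Functor.of_section (Lib.Functor.involves_trans hY (Lib.Functor.involves_mk K R))
      (P := fun X _ => Subgroup.centralizer ((Cfsg.pCore p X : Subgroup X) : Set X) ≤ Cfsg.pCore p X →
        Cfsg.FamilyControlsStrongFusionIn p (Lib.Functor.indFam {@W} X) ⊤)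
      (fun e h hc => Lib.Functor.familyControls_of_mulEquiv h𝓦 e
        (h (Lib.Functor.constrained_of_mulEquiv e.symm hc)))
      (fun K' R' hR' hcons => ?_) hc
  · rw [Lib.Functor.indFam, Set.image_singleton] at key
    have hW' : Cfsg.IsConjugacyFunctor p (Cfsg.inducedFunctor (G := ↥K ⧸ R.subgroupOf K) W) :=
      Lib.Functor.inducedFunctor_isConjugacyFunctor hW
    refine ⟨T, Lib.ConjFunctor.functor_le hW' T.2, fun A hA => ⟨hA, fun g hg => ?_⟩⟩
    obtain ⟨x, hx, hxa⟩ := Lib.ConjFunctor.controlsStrongFusionIn_at hW'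
      (Lib.ConjFunctor.controls_of_familyControls_singleton key) le_top T.2
      (by rw [Subgroup.relIndex_top_right]; exact T.not_dvd_index) A g (Subgroup.mem_top g) hA hg
    exact ⟨x, hx.2, fun a ha => (hxa a ha).symm⟩
  · rw [Lib.Functor.indFam, Set.image_singleton]
    obtain ⟨T'⟩ : Nonempty (Sylow p (↥K' ⧸ R'.subgroupOf K')) := inferInstance
    have hn := hloc K' R' hcons T'
    refine Lib.ConjFunctor.familyControls_singleton_of_controls
      ⟨(T' : Subgroup _), le_top, T'.2, by rw [Subgroup.relIndex_top_right]; exact T'.not_dvd_index,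
        fun A h _ _ _ => ⟨h, ⟨Subgroup.mem_top h, ?_⟩, fun a _ => rfl⟩⟩
    rw [Subgroup.normalizer_eq_top_iff.mpr hn]
    exact Subgroup.mem_top h

end Cfsg.Agent.S1969
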