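import Cfsg.Statements.S1978
import Cfsg.Agent.Lib.KInfinity.Change
-- import your own Cfsg.Agent.* helpers here

set_option autoImplicit false
open Cfsg

namespace Cfsg.Agent.S1978

/-- Let P be a finite p-group. Each of the two K-infinity subgroups of P contains its own centralizer in P, which in turn contains Z(P); in particular both are nontrivial when P is. -/
theorem result {P : Type*} [Group P] [Finite P] {p : ℕ} [Fact p.Prime] (hP : IsPGroup p P) : Subgroup.centralizer (Cfsg.kInfLower P : Set P) ≤ Cfsg.kInfLower P ∧ Subgroup.center P ≤ Subgroup.centralizer (Cfsg.kInfLower P : Set P) ∧ Subgroup.centralizer (Cfsg.kInfUpper P : Set P) ≤ Cfsg.kInfUpper P ∧ Subgroup.center P ≤ Subgroup.centralizer (Cfsg.kInfUpper P : Set P) := by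
  obtain ⟨n, hn⟩ := Lib.KInfinity.exists_stable (P := P)
  have hE := (hn n le_rfl).1
  have hO := (hn (n + 1) (Nat.le_succ n)).2
  refine ⟨?_, Subgroup.center_le_centralizer _, ?_, Subgroup.center_le_centralizer _⟩
  · rw [← hE]
    exact Lib.KInfinity.centralizer_sSup_le hP ⟨⊥, Lib.KInfinity.bot_mem_lower _⟩
      fun B hB hmax => Lib.KInfinity.centralizer_le_of_maximal_lower hP hB hmax
  · rw [← hO]
    exact Lib.KInfinity.centralizer_sSup_le hP ⟨⊥, Lib.KInfinity.bot_mem_upper _⟩
      fun B hB hmax => Lib.KInfinity.centralizer_le_of_maximal_upper hP hB hmax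

end Cfsg.Agent.S1978
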