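import Cfsg.Statements.S1988
import Cfsg.Agent.Lib.Transfer.PStableCriteria
import Cfsg.Agent.S1978
import Cfsg.Agent.S2007

set_option autoImplicit false
universe u
open Cfsg

namespace Cfsg.Agent.S1988

/-- Let p be an odd prime, G a finite group with Sylow p-subgroup S and K the lower K-infinity subgroup of S. If N_G(K) has a normal p-complement, or if N_G(K)/C_G(K) is a p-group (every element of N_G(K) of order prime to p centralizes K), then G has a normal p-complement. -/
theorem result {G : Type u} [Group G] [Finite G] {p : ℕ} [Fact p.Prime] (hp : p ≠ 2) (S : Sylow p G) (h : Cfsg.HasNormalPComplement p ↥(Subgroup.normalizer ((Cfsg.inducedFunctor Cfsg.kInfLower (S : Subgroup G) : Subgroup G) : Set G)) ∨ ∀ g ∈ Subgroup.normalizer ((Cfsg.inducedFunctor Cfsg.kInfLower (S : Subgroup G) : Subgroup G) : Set G), (orderOf g).Coprime p → g ∈ Subgroup.centralizer ((Cfsg.inducedFunctor Cfsg.kInfLower (S : Subgroup G) : Subgroup G) : Set G)) : Cfsg.HasNormalPComplement p G := by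
  have hW := Lib.KInfinity.kInfLower_isCharPFunctor.{u} p
  have hN : Cfsg.HasNormalPComplement p ↥(Subgroup.normalizer
      ((Cfsg.inducedFunctor Cfsg.kInfLower (S : Subgroup G) : Subgroup G) : Set G)) := by
    rcases h with h | h
    · exact h
    refine S2007.result S _ (Lib.Functor.inducedFunctor_le _)
      (Lib.Functor.le_normalizer_inducedFunctor hW S.2) ?_ h
    rintro x ⟨hxS, hxc⟩
    refine ⟨⟨x, hxS⟩, (S1978.result S.2).1 ?_, rfl⟩
    intro y hy
    exact Subtype.ext (hxc _ ⟨y, hy, rfl⟩)
  refine Lib.Transfer.hasNormalPComplement_of_thompson_reduction hW G S hN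
    fun Y _ _ _ hc _ hder T _ hT => ?_
  by_cases hn : (Cfsg.inducedFunctor Cfsg.kInfLower (T : Subgroup Y)).Normal
  · rw [Subgroup.normalizer_eq_top_iff.mpr hn] at hT
    exact (Lib.Transfer.hasNormalPComplement_congr Subgroup.topEquiv).mp hT
  exfalso
  obtain ⟨g, -, -, -, -, h5⟩ := Lib.KInfinity.exists_quartic T (Or.inl hn)
  obtain ⟨U, V, hUV, hU, hq, hnot⟩ := h5 hc
  haveI := hUV.2.1
  refine hnot (Lib.Transfer.commutator_le_of_smallDegree hder hUV
    (Lib.PSolvable.pCore_isPGroup.to_le hU) ?_)
  have h2 : 2 ≤ p - 1 := by have := (Fact.out : p.Prime).two_le; omega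
  exact (Lib.KInfinity.iterCommutator_antitone U _ h2).trans hq

end Cfsg.Agent.S1988
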