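import Cfsg.Statements.S1989
import Cfsg.Agent.Lib.KInfinity.StrongFusion
import Cfsg.Agent.Lib.Qd.NoControl
import Cfsg.Agent.S2795

set_option autoImplicit false
universe u
open Cfsg

namespace Cfsg.Agent.S1989

/-- Let p be an odd prime and G a finite group. Then Qd(p) (the natural semidirect product of an elementary abelian group of order p² by SL₂(p)) is not involved in G if and only if, in every section K/R of G and for every Sylow p-subgroup T of K/R, the lower K-infinity subgroup of T controls strong fusion in K/R. -/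
theorem result {G : Type u} [Group G] [Finite G] {p : ℕ} [Fact p.Prime] (hp : p ≠ 2) : ¬ Cfsg.Involves ↥(Cfsg.qd p) G ↔ ∀ (K R : Subgroup G) [hR : (R.subgroupOf K).Normal], ∀ T : Sylow p (↥K ⧸ R.subgroupOf K), Cfsg.ControlsStrongFusion p (Cfsg.inducedFunctor (G := (↥K ⧸ R.subgroupOf K)) Cfsg.kInfLower (T : Subgroup (↥K ⧸ R.subgroupOf K))) := by
  refine ⟨fun hfree K R hR T => ?_, fun h hinv => ?_⟩
  · have hfree' : ¬ Cfsg.Involves ↥(Cfsg.qd p) (↥K ⧸ R.subgroupOf K) := fun hh =>
      hfree (Lib.Qd.involves_trans' hh (Lib.Functor.involves_mk K R))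
    exact (Lib.KInfinity.controlsStrongFusion_kInf
      ((Cfsg.Agent.S2795.result hp).1 hfree') T).1
  · obtain ⟨K, R, hR, ⟨e⟩⟩ := hinv
    obtain ⟨T⟩ : Nonempty (Sylow p (↥K ⧸ R.subgroupOf K)) := inferInstance
    refine Lib.Qd.not_controlsStrongFusion_of_mulEquiv p e T
      (Cfsg.kInfLower ↥(T : Subgroup (↥K ⧸ R.subgroupOf K))) ?_ ?_ (h K R T)
    · refine (Lib.KInfinity.kInfLower_isCharPFunctor p).1 _ T.2 ?_
      exact Lib.Qd.sylow_nontrivial p e T
    · exact Lib.Functor.functor_characteristic (Lib.KInfinity.kInfLower_isCharPFunctor p) T.2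

end Cfsg.Agent.S1989
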