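import Cfsg.Statements.S1996
import Cfsg.Agent.S1994
import Cfsg.Agent.Lib.Functor.Sections

set_option autoImplicit false
universe u
open Cfsg

namespace Cfsg.Agent.S1996

/-- Let p be a prime, G a finite group and W₁, W₂ two isomorphism-invariant p-group functors (W assigns to every group Q a subgroup W(Q), nontrivial whenever Q is a nontrivial finite p-group, and every isomorphism from a finite p-group Q onto a group R carries W(Q) onto W(R)). Suppose that G* = N_{G*}(W₁(S*)) N_{G*}(W₂(S*)) whenever G* = K/R is a section of G with C_{G*}(O_p(G*)) ≤ O_p(G*) and S* is a Sylow p-subgroup of G*. Then the pair {W₁, W₂} controls strong fusion in G. -/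
theorem result {G : Type u} [Group G] [Finite G] {p : ℕ} [Fact p.Prime] (W₁ W₂ : ∀ (Q : Type u) [Group Q], Subgroup Q) (hW₁ : Cfsg.IsCharPFunctor.{u} p W₁) (hW₂ : Cfsg.IsCharPFunctor.{u} p W₂) (hfac : ∀ (K R : Subgroup G) [hR : (R.subgroupOf K).Normal], Subgroup.centralizer ((Cfsg.pCore p (↥K ⧸ R.subgroupOf K) : Subgroup (↥K ⧸ R.subgroupOf K)) : Set (↥K ⧸ R.subgroupOf K)) ≤ Cfsg.pCore p (↥K ⧸ R.subgroupOf K) → ∀ T : Sylow p (↥K ⧸ R.subgroupOf K), ∀ x : (↥K ⧸ R.subgroupOf K), ∃ a ∈ Subgroup.normalizer ((Cfsg.inducedFunctor (G := (↥K ⧸ R.subgroupOf K)) W₁ (T : Subgroup (↥K ⧸ R.subgroupOf K)) : Subgroup (↥K ⧸ R.subgroupOf K)) : Set (↥K ⧸ R.subgroupOf K)), ∃ b ∈ Subgroup.normalizer ((Cfsg.inducedFunctor (G := (↥K ⧸ R.subgroupOf K)) W₂ (T : Subgroup (↥K ⧸ R.subgroupOf K)) : Subgroup (↥K ⧸ R.subgroupOf K)) : Set (↥K ⧸ R.subgroupOf K)), x = a * b) : Cfsg.FamilyControlsStrongFusionIn p {Cfsg.inducedFunctor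 (G := G) W₁, Cfsg.inducedFunctor (G := G) W₂} ⊤ := by
  have key := S1994.result (G := G) (p := p) {W₁, W₂}
    (by rintro W (rfl | rfl); exacts [hW₁, hW₂]) (fun K R _ hcons => ?_)
  · simpa [Set.image_pair] using key
  open Cfsg.Agent.Lib.Functor in
  obtain ⟨T⟩ : Nonempty (Sylow p (↥K ⧸ R.subgroupOf K)) := inferInstance
  open Cfsg.Agent.Lib.Functor in
  refine familyControls_top_of_famRel T fun B g hB hgB => ?_
  set N₁ := Subgroup.normalizer ((Cfsg.inducedFunctor (G := (↥K ⧸ R.subgroupOf K)) W₁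
    (T : Subgroup (↥K ⧸ R.subgroupOf K)) : Subgroup _) : Set (↥K ⧸ R.subgroupOf K)) with hN₁
  set N₂ := Subgroup.normalizer ((Cfsg.inducedFunctor (G := (↥K ⧸ R.subgroupOf K)) W₂
    (T : Subgroup (↥K ⧸ R.subgroupOf K)) : Subgroup _) : Set (↥K ⧸ R.subgroupOf K)) with hN₂
  obtain ⟨a, ha, b, hb, rfl⟩ := hfac K R hcons T g
  have hT1 : (T : Subgroup _) ≤ N₁ := Lib.Functor.le_normalizer_inducedFunctor hW₁ T.2
  have hT2 : (T : Subgroup _) ≤ N₂ := Lib.Functor.le_normalizer_inducedFunctor hW₂ T.2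
  have hsy : Lib.Functor.IsSylowIn p (N₁ ⊓ N₂) (T : Subgroup _) :=
    (Lib.Functor.isSylowIn_top_of_sylow T).inter (le_inf hT1 hT2) le_top
  have hle : Lib.Functor.cj b B ≤ N₁ ⊓ N₂ := by
    rw [Lib.Functor.cj_le_iff]
    intro z hz
    refine ⟨?_, N₂.mul_mem (N₂.mul_mem hb (hT2 (hB hz))) (N₂.inv_mem hb)⟩
    have h1 : a⁻¹ * (a * b * z * (a * b)⁻¹) * a ∈ N₁ :=
      N₁.mul_mem (N₁.mul_mem (N₁.inv_mem ha) (hT1 (hgB (Lib.Functor.conj_mem_cj hz)))) ha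
    simpa [mul_assoc] using h1
  obtain ⟨s, hs, hsle⟩ := hsy.exists_cj_le hle (Lib.Functor.isPGroup_cj (T.2.to_le hB))
  rw [Lib.Functor.cj_cj] at hsle
  have e : a * b = a * s⁻¹ * (s * b) := by group
  rw [e] at hgB ⊢
  refine (Lib.Functor.famRel_isFusionProp _).comp hB hsle hgB
    (Lib.Functor.famRel_single hB hsle (W := Cfsg.inducedFunctor W₂) ⟨W₂, Or.inr rfl, rfl⟩
      (mul_mem hs.2 hb)) ?_
  refine Lib.Functor.famRel_single hsle ?_ (W := Cfsg.inducedFunctor W₁) ⟨W₁, Or.inl rfl, rfl⟩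
    (mul_mem ha (inv_mem hs.1))
  rw [Lib.Functor.cj_cj]
  exact hgB

end Cfsg.Agent.S1996
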