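import Cfsg.Statements.S1997
import Cfsg.Agent.S1996
import Cfsg.Agent.Lib.Transfer.FactorClosure
import Cfsg.Agent.Lib.ConjFunctor.Engine
import Cfsg.Agent.Lib.Functor.Invariant

set_option autoImplicit false
universe u
open Cfsg

namespace Cfsg.Agent.S1997

/-- Let p be a prime, G a finite group with Sylow p-subgroup S, and W₁, W₂ two isomorphism-invariant p-group functors (W assigns to every group Q a subgroup W(Q), nontrivial whenever Q is a nontrivial finite p-group, and every isomorphism from a finite p-group Q onto a group R carries W(Q) onto W(R)). Suppose that G* = C_{G*}(Ω₁Z(S*)) N_{G*}(W₁(S*)) = C_{G*}(Ω₁Z(S*)) N_{G*}(W₂(S*)) = N_{G*}(W₁(S*)) N_{G*}(W₂(S*)) whenever G* = K/R is a section of G with C_{G*}(O_p(G*)) ≤ O_p(G*) and S* is a Sylow p-subgroup of G*, where Ω₁Z denotes the subgroup generated by the elements of order dividing p in the centre. Suppose also Ω₁Z(S) ≤ W₁(S) ∩ W₂(S), and let A be the normal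 closure of Ω₁Z(S) in N_G(W₁(S)). Then A is an elementary abelian subgroup of S, strongly closed in S with respect to G, and A controls strong fusion in G. -/
theorem result {G : Type u} [Group G] [Finite G] {p : ℕ} [Fact p.Prime] (S : Sylow p G) (W₁ W₂ : ∀ (Q : Type u) [Group Q], Subgroup Q) (hW₁ : Cfsg.IsCharPFunctor.{u} p W₁) (hW₂ : Cfsg.IsCharPFunctor.{u} p W₂) (hfac : ∀ (K R : Subgroup G) [hR : (R.subgroupOf K).Normal], Subgroup.centralizer ((Cfsg.pCore p (↥K ⧸ R.subgroupOf K) : Subgroup (↥K ⧸ R.subgroupOf K)) : Set (↥K ⧸ R.subgroupOf K)) ≤ Cfsg.pCore p (↥K ⧸ R.subgroupOf K) → ∀ T : Sylow p (↥K ⧸ R.subgroupOf K), (∀ x : (↥K ⧸ R.subgroupOf K), ∃ a ∈ Subgroup.centralizer ((Cfsg.omegaOne p ((T : Subgroup (↥K ⧸ R.subgroupOf K)) ⊓ Subgroup.centralizer (((T : Subgroup (↥K ⧸ R.subgroupOf K)) : Subgroup (↥K ⧸ R.subgroupOf K)) : Set (↥K ⧸ R.subgroupOf K))) : Subgroup (↥K ⧸ R.subgroupOf K)) : Set (↥K ⧸ R.subgroupOf K)), ∃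 b ∈ Subgroup.normalizer ((Cfsg.inducedFunctor (G := (↥K ⧸ R.subgroupOf K)) W₁ (T : Subgroup (↥K ⧸ R.subgroupOf K)) : Subgroup (↥K ⧸ R.subgroupOf K)) : Set (↥K ⧸ R.subgroupOf K)), x = a * b) ∧ (∀ x : (↥K ⧸ R.subgroupOf K), ∃ a ∈ Subgroup.centralizer ((Cfsg.omegaOne p ((T : Subgroup (↥K ⧸ R.subgroupOf K)) ⊓ Subgroup.centralizer (((T : Subgroup (↥K ⧸ R.subgroupOf K)) : Subgroup (↥K ⧸ R.subgroupOf K)) : Set (↥K ⧸ R.subgroupOf K))) : Subgroup (↥K ⧸ R.subgroupOf K)) : Set (↥K ⧸ R.subgroupOf K)), ∃ b ∈ Subgroup.normalizer ((Cfsg.inducedFunctor (G := (↥K ⧸ R.subgroupOf K)) W₂ (T : Subgroup (↥K ⧸ R.subgroupOf K)) : Subgroup (↥K ⧸ R.subgroupOf K)) : Set (↥K ⧸ R.subgroupOf K)), x = a * b) ∧ (∀ x : (↥K ⧸ R.subgroupOf K), ∃ a ∈ Subgroup.normalizer ((Cfsg.inducedFunctor (G := (↥K ⧸ R.subgroupOf K)) W₁ (T : Subgroup (↥K ⧸ R.subgroupOf K)) : Subgroup (↥K ⧸ R.subgroupOf K)) : Set (↥K ⧸ R.subgroupOf K)), ∃ b ∈ Subgroup.normalizer ((Cfsg.inducedFunctor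 (G := (↥K ⧸ R.subgroupOf K)) W₂ (T : Subgroup (↥K ⧸ R.subgroupOf K)) : Subgroup (↥K ⧸ R.subgroupOf K)) : Set (↥K ⧸ R.subgroupOf K)), x = a * b)) (hZ : Cfsg.omegaOne p ((S : Subgroup G) ⊓ Subgroup.centralizer (((S : Subgroup G) : Subgroup G) : Set G)) ≤ Cfsg.inducedFunctor (G := G) W₁ (S : Subgroup G) ⊓ Cfsg.inducedFunctor (G := G) W₂ (S : Subgroup G)) (N₁ : Subgroup G) (hN₁ : N₁ = Subgroup.normalizer ((Cfsg.inducedFunctor (G := G) W₁ (S : Subgroup G) : Subgroup G) : Set G)) (A : Subgroup G) (hA : A = (Subgroup.normalClosure (((Cfsg.omegaOne p ((S : Subgroup G) ⊓ Subgroup.centralizer (((S : Subgroup G) : Subgroup G) : Set G))).subgroupOf N₁ : Subgroup ↥N₁) : Set ↥N₁)).map N₁.subtype) : A ≤ (S : Subgroup G) ∧ Cfsg.IsElementaryAbelian p A ∧ Cfsg.IsStronglyClosed A (S : Subgroup G) ∧ Cfsg.ControlsStrongFusion p A := by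
  set Ω := Cfsg.omegaOne p ((S : Subgroup G) ⊓
    Subgroup.centralizer (((S : Subgroup G) : Subgroup G) : Set G)) with hΩ
  set U₁ := Cfsg.inducedFunctor (G := G) W₁ (S : Subgroup G) with hU₁
  set U₂ := Cfsg.inducedFunctor (G := G) W₂ (S : Subgroup G) with hU₂
  let L : Subgroup G → Subgroup G := fun N =>
    Subgroup.closure {y | ∃ n ∈ N, ∃ z ∈ Ω, y = n * z * n⁻¹}
  have hLn : ∀ N : Subgroup G, N ≤ Subgroup.normalizer (L N : Set G) := by
    intro N a ha
    refine Lib.Functor.mem_normalizer_of_cj_le ?_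
    show (L N).map (MulAut.conj a).toMonoidHom ≤ L N
    rw [MonoidHom.map_closure, Subgroup.closure_le]
    rintro _ ⟨_, ⟨n, hn, z, hz, rfl⟩, rfl⟩
    exact Subgroup.subset_closure ⟨a * n, N.mul_mem ha hn, z, hz, by simp [mul_assoc]⟩
  have hmono : ∀ N M : Subgroup G, (∀ n ∈ N, ∀ z ∈ Ω, ∃ m ∈ M, n * z * n⁻¹ = m * z * m⁻¹) →
      L N ≤ L M := by
    intro N M h
    refine (Subgroup.closure_le _).mpr ?_
    rintro _ ⟨n, hn, z, hz, rfl⟩
    obtain ⟨m, hm, e⟩ := h n hn z hz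
    exact Subgroup.subset_closure ⟨m, hm, z, hz, e⟩
  have heq : L N₁ = L (Subgroup.normalizer (U₂ : Set G)) := by
    rw [hN₁]
    refine le_antisymm (hmono _ _ fun n hn z hz => ?_) (hmono _ _ fun n hn z hz => ?_)
    · exact Lib.Transfer.exists_normalizer_conj_of_mem_normalizer hW₁ hW₂
        (fun K R _ hc T => (hfac K R hc T).2.1) S (hZ.trans inf_le_left) hn hz
    · exact Lib.Transfer.exists_normalizer_conj_of_mem_normalizer hW₂ hW₁
        (fun K R _ hc T => (hfac K R hc T).1) S (hZ.trans inf_le_right) hn hz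
  have hΩN : Ω ≤ N₁ := by
    rw [hN₁]
    exact (hZ.trans inf_le_left).trans Subgroup.le_normalizer
  have hAL : A = L N₁ := by
    subst hA
    refine le_antisymm ?_ ((Subgroup.closure_le _).mpr ?_)
    · rw [Subgroup.map_le_iff_le_comap]
      have hnorm : ((L N₁).comap N₁.subtype).Normal := by
        refine ⟨fun a ha b => ?_⟩
        exact (Subgroup.mem_normalizer_iff.mp (hLn N₁ b.2) (a : G)).mp ha
      refine Subgroup.normalClosure_le_normal fun z hz => ?_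
      exact Subgroup.subset_closure ⟨1, N₁.one_mem, (z : G), hz, by simp⟩
    · rintro _ ⟨n, hn, z, hz, rfl⟩
      exact ⟨⟨n, hn⟩ * ⟨z, hΩN hz⟩ * ⟨n, hn⟩⁻¹, Subgroup.normalClosure_normal.conj_mem _
        (Subgroup.subset_normalClosure (show (⟨z, hΩN hz⟩ : N₁) ∈ Ω.subgroupOf N₁ from hz))
        ⟨n, hn⟩, rfl⟩
  have hAN : ∀ W ∈ ({Cfsg.inducedFunctor (G := G) W₁, Cfsg.inducedFunctor (G := G) W₂} :
      Set (Subgroup G → Subgroup G)),
      Subgroup.normalizer ((W (S : Subgroup G) : Subgroup G) : Set G) ≤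
        Subgroup.normalizer (A : Set G) := by
    rintro W (rfl | rfl)
    · rw [hAL]
      refine le_trans (le_of_eq ?_) (hLn N₁)
      exact hN₁.symm
    · rw [hAL, heq]
      exact hLn _
  -- elements of `Ω` are central of order dividing `p`
  have hΩc : Ω ≤ Subgroup.centralizer ((S : Subgroup G) : Set G) :=
    (Lib.Transfer.omegaOne_le _).trans inf_le_right
  have hΩp : ∀ z ∈ Ω, z ^ p = 1 := by
    intro z hz
    induction hz using Subgroup.closure_induction with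
    | mem x hx => exact hx.2
    | one => exact one_pow p
    | mul x y hx hy ihx ihy =>
      have hc : Commute x y := ((hΩc hx) y ((Lib.Transfer.omegaOne_le _ hy).1)).symm
      rw [hc.mul_pow, ihx, ihy, one_mul]
    | inv x hx ih => rw [inv_pow, ih, inv_one]
  let M : Subgroup G :=
    { carrier := {y | y ∈ U₁ ∧ (∀ u ∈ U₁, u * y = y * u) ∧ y ^ p = 1}
      one_mem' := ⟨U₁.one_mem, fun u _ => by simp, one_pow p⟩
      mul_mem' := fun {y y'} hy hy' => ⟨U₁.mul_mem hy.1 hy'.1, fun u hu => by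
          rw [← mul_assoc, hy.2.1 u hu, mul_assoc, hy'.2.1 u hu, mul_assoc], by
          rw [(show Commute y y' from hy'.2.1 y hy.1).mul_pow, hy.2.2, hy'.2.2, one_mul]⟩
      inv_mem' := fun {y} hy => ⟨U₁.inv_mem hy.1, fun u hu =>
          ((show Commute u y from hy.2.1 u hu).inv_right), by rw [inv_pow, hy.2.2, inv_one]⟩ }
  have hAM : A ≤ M := by
    rw [hAL, hN₁]
    refine (Subgroup.closure_le _).mpr ?_
    rintro _ ⟨n, hn, z, hz, rfl⟩
    refine ⟨(Subgroup.mem_normalizer_iff.mp hn z).mp ((hZ.trans inf_le_left) hz), fun u hu => ?_,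
      by rw [conj_pow, hΩp z hz, mul_one, mul_inv_cancel]⟩
    have hu' : n⁻¹ * u * n ∈ U₁ := (Subgroup.mem_normalizer_iff''.mp hn u).mp hu
    have := hΩc hz _ (Lib.Functor.inducedFunctor_le _ hu')
    calc u * (n * z * n⁻¹) = n * (n⁻¹ * u * n * z) * n⁻¹ := by group
      _ = n * (z * (n⁻¹ * u * n)) * n⁻¹ := by rw [this]
      _ = n * z * n⁻¹ * u := by group
  have hAS : A ≤ (S : Subgroup G) :=
    hAM.trans fun y hy => Lib.Functor.inducedFunctor_le _ hy.1
  have hfam := S1996.result W₁ W₂ hW₁ hW₂ (fun K R _ hc T => (hfac K R hc T).2.2)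
  have hfus : ∀ (B : Set G) (g : G), B ⊆ (S : Subgroup G) →
      (fun a => g * a * g⁻¹) '' B ⊆ (S : Subgroup G) →
      ∃ x ∈ Subgroup.normalizer (A : Set G), ∀ a ∈ B, g * a * g⁻¹ = x * a * x⁻¹ := by
    intro B g hB hgB
    obtain ⟨n, c, c0, cstep, -, clast⟩ := Lib.ConjFunctor.family_fusion_at
      (by rintro W (rfl | rfl) <;>
        exact Lib.Functor.inducedFunctor_isConjugacyFunctor ‹_›)
      hfam le_top S.2 (by rw [Subgroup.relIndex_top_right]; exact S.not_dvd_index) B g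
      (Subgroup.mem_top g) hB hgB
    have hmem : ∀ i : Fin (n + 1), c i ∈ Subgroup.normalizer (A : Set G) := by
      intro i
      induction i using Fin.induction with
      | zero => rw [c0]; exact one_mem _
      | succ i ih =>
        obtain ⟨W, hW, hstep⟩ := cstep i
        have := mul_mem (hAN W hW hstep.2) ih
        rwa [inv_mul_cancel_right] at this
    exact ⟨c (Fin.last n), hmem _, fun a ha => (clast a ha).symm⟩
  refine ⟨hAS, ⟨⟨⟨fun a b => Subtype.ext ((hAM b.2).2.1 a (hAM a.2).1)⟩⟩,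
    fun a ha => (hAM ha).2.2⟩, ⟨hAS, fun x hx g hg => ?_⟩,
    ⟨S, hAS, fun B hB => ⟨hB, fun g hg => hfus B g hB hg⟩⟩⟩
  obtain ⟨k, hk, hkx⟩ := hfus {x} g (Set.singleton_subset_iff.mpr (hAS hx)) (by
    rintro _ ⟨a, rfl, rfl⟩; exact hg)
  rw [hkx x rfl]
  exact (Subgroup.mem_normalizer_iff.mp hk x).mp hx

end Cfsg.Agent.S1997
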