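import Cfsg.Statements.S1998
import Cfsg.Agent.Lib.Functor.TransferCriteria
-- import your own Cfsg.Agent.* helpers here

set_option autoImplicit false
universe u
open Cfsg

namespace Cfsg.Agent.S1998

/-- Let p be a prime, G a finite group with Sylow p-subgroup S, and 𝓦 a nonempty set of isomorphism-invariant p-group functors (W assigns to every group Q a subgroup W(Q), nontrivial whenever Q is a nontrivial finite p-group, and every isomorphism from a finite p-group Q onto a group R carries W(Q) onto W(R)). Suppose the induced conjugacy functors control transfer in every section of G other than G itself, but not in G. Let T be the subgroup generated by the S ∩ (N_G(W(S)))', W ∈ 𝓦, and M = N_G(T ∩ O_p(G)). Then: C_G(O_p(G)) ≤ O_p(G); M is a proper subgroup of G containing every proper subgroup of G that contains S (the unique maximal subgroup over S); [O_p(G), M] ≤ O_p(G) ∩ M' ≤ O_p(G) ∩ T; and every element u of S outside O_p(G) satisfies [X, u,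 …, u] ≰ Y with p − 1 entries u, for some chief factor X/Y of G with X ≤ O_p(G). -/
theorem result {G : Type u} [Group G] [Finite G] {p : ℕ} [Fact p.Prime] (S : Sylow p G) (𝓦 : Set (∀ (Q : Type u) [Group Q], Subgroup Q)) (h𝓦 : ∀ W ∈ 𝓦, Cfsg.IsCharPFunctor.{u} p W) (hne : 𝓦.Nonempty) (hsec : ∀ (K R : Subgroup G) [hR : (R.subgroupOf K).Normal], (K = ⊤ → R ≠ ⊥) → Cfsg.FamilyControlsTransferIn p ((fun W => Cfsg.inducedFunctor (G := (↥K ⧸ R.subgroupOf K)) W) '' 𝓦) ⊤) (hG : ¬ Cfsg.FamilyControlsTransferIn p ((fun W => Cfsg.inducedFunctor (G := G) W) '' 𝓦) ⊤) (T M : Subgroup G) (hT : T = (⨆ W ∈ 𝓦, (S : Subgroup G) ⊓ ⁅Subgroup.normalizer ((Cfsg.inducedFunctor (G := G) W (S : Subgroup G) : Subgroup G) : Set G), Subgroup.normalizer ((Cfsg.inducedFunctor (G := G) W (S : Subgroup G) : Subgroup G) : Set G)⁆)) (hM : M = Subgroup.normalizer ((T ⊓ Cfsg.pCore p G : Subgroup G) : Set G)) : Subgroup.centralizer ((Cfsg.pCore p G : Subgroup G) : Set G) ≤ Cfsg.pCore p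 G ∧ (M ≠ ⊤ ∧ ∀ H : Subgroup G, (S : Subgroup G) ≤ H → H ≠ ⊤ → H ≤ M) ∧ (⁅Cfsg.pCore p G, M⁆ ≤ Cfsg.pCore p G ⊓ ⁅M, M⁆ ∧ Cfsg.pCore p G ⊓ ⁅M, M⁆ ≤ Cfsg.pCore p G ⊓ T) ∧ ∀ u : G, u ∈ (S : Subgroup G) → u ∉ Cfsg.pCore p G → ∃ U V : Subgroup G, Cfsg.IsChiefFactor U V ∧ U ≤ Cfsg.pCore p G ∧ ¬ Cfsg.iterCommutator U (Subgroup.zpowers u) (p - 1) ≤ V := by
  have hS := Lib.Functor.isSylowIn_top_of_sylow S
  have hm : Lib.Functor.IsMinimalFailure p 𝓦 G := by
    refine ⟨h𝓦, hne, hG, fun Y _ _ hY hlt => ?_⟩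
    obtain ⟨K, R, hR, ⟨e⟩⟩ := hY
    refine Lib.Functor.familyControlsTransfer_of_mulEquiv h𝓦 e (hsec K R ?_)
    rintro rfl rfl
    have : Nat.card Y = Nat.card G := by
      rw [← Nat.card_congr e.toEquiv,
        ← Nat.card_congr (Subgroup.topEquiv (G := G)).toEquiv]
      have hb : (⊥ : Subgroup G).subgroupOf (⊤ : Subgroup G) = ⊥ := Subgroup.bot_subgroupOf ⊤
      rw [Nat.card_congr (QuotientGroup.quotientMulEquivOfEq hb).toEquiv,
        Nat.card_congr QuotientGroup.quotientBot.toEquiv]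
    omega
  obtain rfl : T = Lib.Functor.transferSub 𝓦 (S : Subgroup G) := by
    rw [hT, Lib.Functor.transferSub, Lib.Functor.indFam, iSup_image]
  have hMeq : M = Subgroup.normalizer
      ((Lib.Functor.transferCore p 𝓦 (S : Subgroup G) : Subgroup G) : Set G) := hM
  subst hMeq
  obtain ⟨h1, h2, h3⟩ := hm.structure_thm hS
  refine ⟨hm.constrained, ⟨h1, h3⟩, ⟨?_, ?_⟩, fun u hu hu' => hm.no_small_degree hS hu hu'⟩
  · have hn : (Cfsg.pCore p G).Normal :=
      @Subgroup.normal_of_characteristic _ _ _ Cfsg.Agent.Lib.PSolvable.pCore_characteristic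
    exact le_inf (Subgroup.commutator_le_left _ _)
      (Subgroup.commutator_mono
        ((hS.le_of_normal Cfsg.Agent.Lib.PSolvable.pCore_isPGroup).trans h2) le_rfl)
  · have hn : (Cfsg.pCore p G).Normal :=
      @Subgroup.normal_of_characteristic _ _ _ Cfsg.Agent.Lib.PSolvable.pCore_characteristic
    exact le_inf inf_le_left fun x hx => hm.controls_of_le hS h1 h2
      ⟨hS.le_of_normal Cfsg.Agent.Lib.PSolvable.pCore_isPGroup hx.1, hx.2⟩

end Cfsg.Agent.S1998
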