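import Cfsg.Statements.S2000
import Mathlib
import Cfsg.Agent.Lib.SFourFree.FamilyControl
import Cfsg.Agent.Lib.LocalChar.FamilyForward
import Cfsg.Agent.Lib.LocalChar.FamilyQd
import Cfsg.Agent.S2761

set_option autoImplicit false
universe u
open Cfsg

namespace Cfsg.Agent.S2000

/-- Let p be a prime and G a finite group. Then Qd(p) (the natural semidirect product of an elementary abelian group of order p² by SL₂(p)) is not involved in G if and only if there is a set 𝓦 of isomorphism-invariant p-group functors (each nontrivial on nontrivial finite p-groups and carried onto W(R) by every isomorphism from a finite p-group Q onto R, hence with characteristic values on finite p-groups) whose induced conjugacy functors control strong fusion in every section of G. -/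
theorem result {G : Type u} [Group G] [Finite G] {p : ℕ} [Fact p.Prime] : ¬ Cfsg.Involves ↥(Cfsg.qd p) G ↔ ∃ 𝓦 : Set (∀ (Q : Type u) [Group Q], Subgroup Q), (∀ W ∈ 𝓦, Cfsg.IsCharPFunctor.{u} p W) ∧ ∀ (K R : Subgroup G) [hR : (R.subgroupOf K).Normal], Cfsg.FamilyControlsStrongFusionIn p ((fun W => Cfsg.inducedFunctor (G := (↥K ⧸ R.subgroupOf K)) W) '' 𝓦) ⊤ := by
  open Cfsg.Agent.Lib Cfsg.Agent.Lib.SFourFree in
  constructor
  · intro hfree
    by_cases hp : p = 2
    · subst hp
      refine ⟨FamilyControl.ceFam, FamilyControl.ceFam_charPFunctor, fun K R hR =>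
        FamilyControl.familyControls_ce fun h => hfree ?_⟩
      have h4 := Involves.trans (H := Equiv.Perm (Fin 4)) (G' := ↥K ⧸ R.subgroupOf K)
        ⟨K, R, hR, ⟨MulEquiv.refl _⟩⟩ h
      obtain ⟨A, B, hB, ⟨e⟩⟩ := h4
      obtain ⟨φ⟩ := Cfsg.Agent.S2761.result
      exact ⟨A, B, hB, ⟨e.trans φ.symm⟩⟩
    · refine ⟨{V | V = Qd.zjFun}, fun W hW => ?_, fun K R hR =>
        LocalChar.FamilyForward.familyControls_zj hp fun h =>
          hfree (Involves.trans ⟨K, R, hR, ⟨MulEquiv.refl _⟩⟩ h)⟩
      cases hW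
      exact Qd.zjFun_isCharPFunctor p
  · rintro ⟨𝓦, h𝓦, hfam⟩ ⟨K, R, hR, ⟨e⟩⟩
    exact LocalChar.FamilyQd.not_familyControls p (F := ZMod p)
      (e.trans (MulEquiv.subgroupCongr (Qd.qd_eq p))) 𝓦 h𝓦 (hfam K R)

end Cfsg.Agent.S2000
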