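import Cfsg.Statements.S2001
import Cfsg.Agent.Lib.Transfer.CentralFunctor
import Cfsg.Agent.Lib.Functor.Lift

set_option autoImplicit false
open Cfsg

namespace Cfsg.Agent.S2001

/-- Let p be a prime dividing the order of the finite group G, P a Sylow p-subgroup, W a conjugacy functor for p on G with Z(H) ≤ W(H) for every nontrivial p-subgroup H, and V a central functor: a conjugacy functor with V(H) ≤ Z(H), and V(H) ≤ V(K) whenever Z(H) ≤ Z(K), for nontrivial p-subgroups H, K. Say that W with V controls transfer in a subgroup L when some Sylow p-subgroup Q of L satisfies Q ∩ L' = (Q ∩ (N_L(W(Q)))')·(Q ∩ (C_L(V(Q)))') as a product of two subgroups. If W with V controls transfer in N_G(H) for every subgroup H with Z(P) ≤ H ≤ P, then W with V controls transfer in G. -/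
theorem result {G : Type*} [Group G] [Finite G] {p : ℕ} [Fact p.Prime] (hdiv : p ∣ Nat.card G) (P : Sylow p G) (W V : Subgroup G → Subgroup G) (hW : Cfsg.IsConjugacyFunctor p W) (hV : Cfsg.IsConjugacyFunctor p V) (hWZ : ∀ H : Subgroup G, IsPGroup p ↥H → H ⊓ Subgroup.centralizer ((H : Subgroup G) : Set G) ≤ W H) (hVZ : ∀ H : Subgroup G, IsPGroup p ↥H → V H ≤ H ⊓ Subgroup.centralizer ((H : Subgroup G) : Set G)) (hVmono : ∀ H K : Subgroup G, IsPGroup p ↥H → IsPGroup p ↥K → H ≠ ⊥ → K ≠ ⊥ → H ⊓ Subgroup.centralizer ((H : Subgroup G) : Set G) ≤ K ⊓ Subgroup.centralizer ((K : Subgroup G) : Set G) → V H ≤ V K) (hloc : ∀ H : Subgroup G, (P : Subgroup G) ⊓ Subgroup.centralizer (((P : Subgroup G) : Subgroup G) : Set G) ≤ H → H ≤ (P : Subgroup G) → ∃ Q : Subgroup G, Q ≤ Subgroup.normalizer ((H : Subgroup G) : Set G) ∧ IsPGroup p ↥Q ∧ ¬ p ∣ (Q).relIndex (Subgroup.normalizer ((H : Subgroup G) : Set G)) ∧ ∀ x : G, x ∈ Q ⊓ ⁅Subgroup.normalizer ((H : Subgroup G)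 : Set G), Subgroup.normalizer ((H : Subgroup G) : Set G)⁆ ↔ ∃ a ∈ Q ⊓ ⁅Subgroup.normalizer ((H : Subgroup G) : Set G) ⊓ Subgroup.normalizer ((W Q : Subgroup G) : Set G), Subgroup.normalizer ((H : Subgroup G) : Set G) ⊓ Subgroup.normalizer ((W Q : Subgroup G) : Set G)⁆, ∃ b ∈ Q ⊓ ⁅Subgroup.normalizer ((H : Subgroup G) : Set G) ⊓ Subgroup.centralizer ((V Q : Subgroup G) : Set G), Subgroup.normalizer ((H : Subgroup G) : Set G) ⊓ Subgroup.centralizer ((V Q : Subgroup G) : Set G)⁆, x = a * b) : ∃ Q : Subgroup G, IsPGroup p ↥Q ∧ ¬ p ∣ Q.index ∧ ∀ x : G, x ∈ Q ⊓ commutator G ↔ ∃ a ∈ Q ⊓ ⁅Subgroup.normalizer ((W Q : Subgroup G) : Set G), Subgroup.normalizer ((W Q : Subgroup G) : Set G)⁆, ∃ b ∈ Q ⊓ ⁅Subgroup.centralizer ((V Q : Subgroup G) : Set G), Subgroup.centralizer ((V Q : Subgroup G) : Set G)⁆, x = a * b := by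
  open Cfsg.Agent.Lib in
  set S := (P : Subgroup G) with hSdef
  have hS : Functor.IsSylowIn p ⊤ S := Functor.isSylowIn_top_of_sylow P
  have h : Transfer.CentralPair p W V S :=
    ⟨hS, Sylow.ne_bot_of_dvd_card P hdiv, hW, hV, hWZ, hVmono⟩
  set A := S ⊓ ⁅Subgroup.normalizer (W S : Set G), Subgroup.normalizer (W S : Set G)⁆ with hA
  set B := S ⊓ ⁅Subgroup.centralizer (V S : Set G), Subgroup.centralizer (V S : Set G)⁆ with hB
  have hkey : S ⊓ ⁅(⊤ : Subgroup G), ⊤⁆ ≤ A ⊔ B := by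
    refine h.inf_commutator_le le_sup_left le_sup_right fun T hwp hZ => ?_
    set N := Subgroup.normalizer (T : Set G) with hN
    obtain ⟨Q', hQ', hQp, hQi, hiff⟩ := hloc T hZ hwp.1
    have hQ : Functor.IsSylowIn p N (S ⊓ N) :=
      ⟨inf_le_right, hS.isPGroup.to_le inf_le_left, hwp.2 0⟩
    obtain ⟨a, ha, hle⟩ := hQ.exists_cj_le hQ' hQp
    have heq : Functor.cj a Q' = S ⊓ N :=
      (Functor.IsSylowIn.cj ⟨hQ', hQp, hQi⟩ ha).eq_of_le hle inf_le_right hQ.isPGroup
    have hNa : Functor.cj a N = N := Functor.cj_eq_self_of_mem (Subgroup.le_normalizer ha)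
    have eW : Functor.cj a (N ⊓ Subgroup.normalizer (W Q' : Set G)) =
        N ⊓ Subgroup.normalizer (W (S ⊓ N) : Set G) := by
      rw [Functor.cj, Subgroup.map_inf _ _ _ (MulAut.conj a).injective, ← Functor.cj, hNa,
        ← Functor.cj, Functor.cj_normalizer, ← Functor.functor_cj hW hQp, heq]
    have eV : Functor.cj a (N ⊓ Subgroup.centralizer (V Q' : Set G)) =
        N ⊓ Subgroup.centralizer (V (S ⊓ N) : Set G) := by
      rw [Functor.cj, Subgroup.map_inf _ _ _ (MulAut.conj a).injective, ← Functor.cj, hNa,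
        ← Functor.cj, ← heq, Functor.functor_cj hV hQp]
      congr 1
      ext x
      simp only [Functor.mem_cj, Subgroup.mem_centralizer_iff]
      constructor
      · intro hx y hy
        have := hx _ (Functor.mem_cj.mp hy)
        simpa [mul_assoc] using congrArg (fun t => a * t * a⁻¹) this
      · intro hx y hy
        have := hx _ (Functor.conj_mem_cj hy)
        simpa [mul_assoc] using congrArg (fun t => a⁻¹ * t * a) this
    intro x hx
    have hNN : Functor.cj a ⁅N, N⁆ = ⁅N, N⁆ := by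
      rw [Functor.cj, Subgroup.map_commutator, ← Functor.cj, hNa]
    obtain ⟨u, hu, v, hv, huv⟩ := (hiff (a⁻¹ * x * a)).mp
      (Subgroup.mem_inf.mpr ⟨Functor.mem_cj.mp (heq.symm ▸ hx.1),
        Functor.mem_cj.mp (hNN.symm ▸ hx.2)⟩)
    have hu' := Functor.conj_mem_cj (g := a) hu
    have hv' := Functor.conj_mem_cj (g := a) hv
    rw [Functor.cj, Subgroup.map_inf _ _ _ (MulAut.conj a).injective, Subgroup.map_commutator,
      ← Functor.cj, ← Functor.cj, heq, eW] at hu'
    rw [Functor.cj, Subgroup.map_inf _ _ _ (MulAut.conj a).injective, Subgroup.map_commutator,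
      ← Functor.cj, ← Functor.cj, heq, eV] at hv'
    have e : x = (a * u * a⁻¹) * (a * v * a⁻¹) := by
      calc x = a * (a⁻¹ * x * a) * a⁻¹ := by group
        _ = _ := by rw [huv]; group
    rw [e]
    exact Subgroup.mul_mem_sup hu' hv'
  have hnorm : B ≤ Subgroup.normalizer (A : Set G) := by
    intro b hb
    refine Functor.mem_normalizer_of_cj_le (Functor.cj_le_iff.mpr fun z hz => ?_)
    refine ⟨S.mul_mem (S.mul_mem hb.1 hz.1) (S.inv_mem hb.1), ?_⟩
    exact (Subgroup.mem_normalizer_iff.mp (Functor.commutator_self_le_normalizer _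
      (Subgroup.le_normalizer.trans (Functor.normalizer_le_normalizer_functor hW hS.isPGroup)
        hb.1)) z).mp hz.2
  refine ⟨S, P.2, P.not_dvd_index, fun x => ⟨fun hx => ?_, ?_⟩⟩
  · have hmem : x ∈ ((A ⊔ B : Subgroup G) : Set G) := hkey ⟨hx.1, by rw [← commutator_def]; exact hx.2⟩
    rw [Subgroup.coe_mul_of_right_le_normalizer_left _ _ hnorm] at hmem
    obtain ⟨u, hu, v, hv, rfl⟩ := hmem
    exact ⟨u, hu, v, hv, rfl⟩
  · rintro ⟨u, hu, v, hv, rfl⟩
    rw [commutator_def]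
    exact mul_mem (Subgroup.mem_inf.mpr ⟨hu.1, Subgroup.commutator_mono le_top le_top hu.2⟩)
      (Subgroup.mem_inf.mpr ⟨hv.1, Subgroup.commutator_mono le_top le_top hv.2⟩)

end Cfsg.Agent.S2001
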