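import Cfsg.Statements.S2002
import Cfsg.Agent.Lib.Transfer.CentralFunctor

set_option autoImplicit false
open Cfsg

namespace Cfsg.Agent.S2002

/-- Let p be a prime dividing the order of the finite group G, P a Sylow p-subgroup, W a conjugacy functor for p on G with Z(H) ≤ W(H) for every nontrivial p-subgroup H, and V a central functor (a conjugacy functor with V(H) ≤ Z(H), and V(H) ≤ V(K) whenever Z(H) ≤ Z(K)). Say that W with V controls strong fusion in a subgroup L when some Sylow p-subgroup Q of L has the property: whenever X ⊆ Q and a ∈ L with a⁻¹Xa ⊆ Q, then a = c b with c ∈ C_L(X) and b = b₁ ⋯ bₙ a product of elements each in N_L(W(Q)) or in C_L(V(Q)) such that every partial conjugate (b₁ ⋯ bₖ)⁻¹ X (b₁ ⋯ bₖ) lies in Q. If W with V controls strong fusion in N_G(H) for every subgroup H with Z(P) ≤ H ≤ P, then W with V controls strong fusion in G. -/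
theorem result {G : Type*} [Group G] [Finite G] {p : ℕ} [Fact p.Prime] (hdiv : p ∣ Nat.card G) (P : Sylow p G) (W V : Subgroup G → Subgroup G) (hW : Cfsg.IsConjugacyFunctor p W) (hV : Cfsg.IsConjugacyFunctor p V) (hWZ : ∀ H : Subgroup G, IsPGroup p ↥H → H ⊓ Subgroup.centralizer ((H : Subgroup G) : Set G) ≤ W H) (hVZ : ∀ H : Subgroup G, IsPGroup p ↥H → V H ≤ H ⊓ Subgroup.centralizer ((H : Subgroup G) : Set G)) (hVmono : ∀ H K : Subgroup G, IsPGroup p ↥H → IsPGroup p ↥K → H ≠ ⊥ → K ≠ ⊥ → H ⊓ Subgroup.centralizer ((H : Subgroup G) : Set G) ≤ K ⊓ Subgroup.centralizer ((K : Subgroup G) : Set G) → V H ≤ V K) (hloc : ∀ H : Subgroup G, (P : Subgroup G) ⊓ Subgroup.centralizer (((P : Subgroup G) : Subgroup G) : Set G) ≤ H → H ≤ (P : Subgroup G) → ∃ Q : Subgroup G, Q ≤ Subgroup.normalizer ((H : Subgroup G) : Set G) ∧ IsPGroup p ↥Q ∧ ¬ p ∣ (Q).relIndex (Subgroup.normalizer ((H : Subgroup G) : Set G)) ∧ ∀ (X : Set G) (a : G),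 X ⊆ Q → a ∈ Subgroup.normalizer ((H : Subgroup G) : Set G) → (fun x => a⁻¹ * x * a) '' X ⊆ Q → ∃ c ∈ Subgroup.normalizer ((H : Subgroup G) : Set G) ⊓ Subgroup.centralizer X, ∃ (n : ℕ) (b : Fin n → G), (∀ i, b i ∈ Subgroup.normalizer ((H : Subgroup G) : Set G) ⊓ Subgroup.normalizer ((W Q : Subgroup G) : Set G) ∨ b i ∈ Subgroup.normalizer ((H : Subgroup G) : Set G) ⊓ Subgroup.centralizer ((V Q : Subgroup G) : Set G)) ∧ a = c * (List.ofFn b).prod ∧ ∀ k : ℕ, k ≤ n → (fun x => (((List.ofFn b).take k).prod)⁻¹ * x * ((List.ofFn b).take k).prod) '' ((fun x => c⁻¹ * x * c) '' X) ⊆ Q) : ∃ Q : Subgroup G, IsPGroup p ↥Q ∧ ¬ p ∣ Q.index ∧ ∀ (X : Set G) (a : G), X ⊆ Q → (fun x => a⁻¹ * x * a) '' X ⊆ Q → ∃ c ∈ Subgroup.centralizer X, ∃ (n : ℕ) (b : Fin n → G), (∀ i, b i ∈ ⊤ ⊓ Subgroup.normalizer ((W Q : Subgroup G) : Set G) ∨ b i ∈ ⊤ ⊓ Subgroup.centralizer ((V Q : Subgroup G) : Set G)) ∧ a = c * (List.ofFn b).prod ∧ ∀ k : ℕ,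 k ≤ n → (fun x => (((List.ofFn b).take k).prod)⁻¹ * x * ((List.ofFn b).take k).prod) '' ((fun x => c⁻¹ * x * c) '' X) ⊆ Q := by
  open Cfsg.Agent.Lib in
  set S := (P : Subgroup G) with hSdef
  have hS : Functor.IsSylowIn p ⊤ S := Functor.isSylowIn_top_of_sylow P
  have h : Transfer.CentralPair p W V S :=
    ⟨hS, Sylow.ne_bot_of_dvd_card P hdiv, hW, hV, hWZ, hVmono⟩
  refine ⟨S, P.2, P.not_dvd_index, fun X a hX haX => ?_⟩
  have hvia := h.via_of_local (fun T hwp hZ A b hA hb hbA => ?_) X a hX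
    (fun z hz => haX ⟨z, hz, rfl⟩)
  · obtain ⟨l, hl1, hl2, hl3⟩ := hvia
    have hfix : ∀ x ∈ X, (a * l.prod⁻¹)⁻¹ * x * (a * l.prod⁻¹) = x := by
      intro x hx
      calc (a * l.prod⁻¹)⁻¹ * x * (a * l.prod⁻¹) = l.prod * (a⁻¹ * x * a) * l.prod⁻¹ := by group
        _ = l.prod * (l.prod⁻¹ * x * l.prod) * l.prod⁻¹ := by rw [hl3 x hx]
        _ = x := by group
    refine ⟨a * l.prod⁻¹, ?_, l.length, fun i => l.get i, ?_, ?_, ?_⟩
    · intro x hx
      calc x * (a * l.prod⁻¹)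
          = (a * l.prod⁻¹) * ((a * l.prod⁻¹)⁻¹ * x * (a * l.prod⁻¹)) := by group
        _ = a * l.prod⁻¹ * x := by rw [hfix x hx]
    · intro i
      rcases hl1 (l.get i) (List.get_mem l i) with h | h
      · exact Or.inl ⟨trivial, h⟩
      · exact Or.inr ⟨trivial, h⟩
    · rw [List.ofFn_get]; group
    · rintro k - _ ⟨_, ⟨x, hx, rfl⟩, rfl⟩
      simp only [List.ofFn_get]
      rw [hfix x hx]
      exact hl2 k x hx
  · set N := Subgroup.normalizer (T : Set G) with hN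
    obtain ⟨Q', hQ', hQp, hQi, hfus⟩ := hloc T hZ hwp.1
    have hQ : Functor.IsSylowIn p N (S ⊓ N) :=
      ⟨inf_le_right, hS.isPGroup.to_le inf_le_left, hwp.2 0⟩
    obtain ⟨c₀, hc₀, hle⟩ := hQ.exists_cj_le hQ' hQp
    have heq : Functor.cj c₀ Q' = S ⊓ N :=
      (Functor.IsSylowIn.cj ⟨hQ', hQp, hQi⟩ hc₀).eq_of_le hle inf_le_right hQ.isPGroup
    obtain ⟨c, hc, n, bs, hbs, hprod, hpre⟩ := hfus ((fun z => c₀⁻¹ * z * c₀) '' A)
      (c₀⁻¹ * b * c₀)
      (by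
        rintro _ ⟨z, hz, rfl⟩
        exact Functor.mem_cj.mp (heq ▸ hA hz))
      (mul_mem (mul_mem (inv_mem hc₀) hb) hc₀)
      (by
        rintro _ ⟨_, ⟨z, hz, rfl⟩, rfl⟩
        have := Functor.mem_cj.mp (heq ▸ hbA z hz : b⁻¹ * z * b ∈ Functor.cj c₀ Q')
        simpa [mul_assoc] using this)
    have hfix : ∀ z ∈ A, c⁻¹ * (c₀⁻¹ * z * c₀) * c = c₀⁻¹ * z * c₀ := by
      intro z hz
      have := hc.2 _ ⟨z, hz, rfl⟩
      beta_reduce at this
      calc c⁻¹ * (c₀⁻¹ * z * c₀) * c = c⁻¹ * ((c₀⁻¹ * z * c₀) * c) := by group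
        _ = _ := by rw [this]; group
    refine ⟨(List.ofFn bs).map (MulAut.conj c₀), ?_, ?_, ?_⟩
    · intro x hx
      obtain ⟨y, hy, rfl⟩ := List.mem_map.mp hx
      obtain ⟨i, rfl⟩ := List.mem_ofFn.mp hy
      refine ⟨?_, ?_⟩
      · rcases hbs i with ⟨h1, -⟩ | ⟨h1, -⟩ <;>
          exact mul_mem (mul_mem hc₀ h1) (inv_mem hc₀)
      · rcases hbs i with ⟨-, h2⟩ | ⟨-, h2⟩
        · left
          rw [← heq, Functor.functor_cj hW hQp, ← Functor.cj_normalizer]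
          exact Functor.conj_mem_cj h2
        · right
          rw [← heq, Functor.functor_cj hV hQp]
          intro y hy
          have := h2 _ (Functor.mem_cj.mp hy)
          simpa [mul_assoc] using congrArg (fun t => c₀ * t * c₀⁻¹) this
    · intro k z hz
      have hmin : ((List.ofFn bs).take k) = (List.ofFn bs).take (min k n) := by
        rcases le_total k n with h | h
        · rw [min_eq_left h]
        · rw [min_eq_right h, List.take_of_length_le (by simpa using h),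
            List.take_of_length_le (by simp)]
      have hQz := hpre (min k n) (min_le_right k n) ⟨_, ⟨_, ⟨z, hz, rfl⟩, rfl⟩, rfl⟩
      beta_reduce at hQz
      rw [hfix z hz, ← hmin] at hQz
      rw [← List.map_take, List.prod_hom, ← heq, Functor.mem_cj]
      convert hQz using 1
      simp [mul_assoc]
    · intro z hz
      rw [List.prod_hom]
      have e : c⁻¹ * (c₀⁻¹ * b * c₀) = (List.ofFn bs).prod := by rw [hprod]; group
      rw [← e]
      calc ((MulAut.conj c₀) (c⁻¹ * (c₀⁻¹ * b * c₀)))⁻¹ * z *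
            (MulAut.conj c₀) (c⁻¹ * (c₀⁻¹ * b * c₀))
          = b⁻¹ * (c₀ * (c * (c₀⁻¹ * z * c₀) * c⁻¹) * c₀⁻¹) * b := by
            simp [mul_assoc]
        _ = b⁻¹ * (c₀ * (c * (c⁻¹ * (c₀⁻¹ * z * c₀) * c) * c⁻¹) * c₀⁻¹) * b := by rw [hfix z hz]
        _ = b⁻¹ * z * b := by group

end Cfsg.Agent.S2002
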