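import Cfsg.Statements.S2008
import Mathlib

set_option autoImplicit false
open Cfsg

namespace Cfsg.Agent.S2008

theorem inverts_of_fixed_point_free {H : Type*} [Group H] [Finite H] {z : H} (hz : z * z = 1)
    (N : Subgroup H) [hn : N.Normal] (hN : N ⊓ Subgroup.centralizer ({z} : Set H) = ⊥) :
    ∀ n ∈ N, z * n * z⁻¹ = n⁻¹ := by
  let f : N → N := fun m => ⟨(m : H)⁻¹ * (z * m * z⁻¹),
    N.mul_mem (N.inv_mem m.2) (hn.conj_mem _ m.2 z)⟩
  have hz' : z⁻¹ = z := inv_eq_of_mul_eq_one_right hz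
  have hf : Function.Injective f := by
    intro a b hab
    have h : (a : H)⁻¹ * (z * a * z⁻¹) = (b : H)⁻¹ * (z * b * z⁻¹) := congrArg Subtype.val hab
    have hc : (b : H) * (a : H)⁻¹ ∈ N ⊓ Subgroup.centralizer ({z} : Set H) := by
      refine ⟨N.mul_mem b.2 (N.inv_mem a.2), Subgroup.mem_centralizer_iff.mpr ?_⟩
      intro w hw
      rw [Set.mem_singleton_iff.mp hw]
      have h2 : (z * (b : H) * z⁻¹) = (b : H) * (a : H)⁻¹ * (z * a * z⁻¹) := by
        rw [mul_assoc (b : H), h, ← mul_assoc (b : H), mul_inv_cancel, one_mul]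
      calc z * ((b : H) * (a : H)⁻¹) = (z * b * z⁻¹) * (z * a * z⁻¹)⁻¹ * z := by group
        _ = (b : H) * (a : H)⁻¹ * z := by rw [h2]; group
    rw [hN, Subgroup.mem_bot, mul_inv_eq_one] at hc
    exact Subtype.ext hc.symm
  intro n hn'
  obtain ⟨m, hm⟩ := Finite.surjective_of_injective hf ⟨n, hn'⟩
  have hm' : (m : H)⁻¹ * (z * m * z⁻¹) = n := congrArg Subtype.val hm
  rw [← hm', hz']
  calc z * ((m : H)⁻¹ * (z * m * z)) * z = z * (m : H)⁻¹ * z * m * (z * z) := by group
    _ = _ := by rw [hz, mul_one]; simp [mul_inv_rev, hz', mul_assoc]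


/-- Let H be a finite group and z an involution such that every proper normal subgroup of H meets the centralizer of z trivially, and suppose z lies in a Klein four-subgroup E of H all three of whose involutions are conjugate to z in H. Then H has no non-trivial abelian normal subgroup. -/
theorem result {H : Type*} [Group H] [Finite H] (z : H) (hz : orderOf z = 2) (hN : ∀ N : Subgroup H, N.Normal → N ≠ ⊤ → N ⊓ Subgroup.centralizer ({z} : Set H) = ⊥) (E : Subgroup H) (hE : IsKleinFour ↥E) (hzE : z ∈ E) (hc : ∀ e ∈ E, e ≠ 1 → IsConj z e) (N : Subgroup H) [N.Normal] (hab : IsMulCommutative ↥N) : N = ⊥ := by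
  have hz2 : z * z = 1 := by rw [← pow_two, ← hz, pow_orderOf_eq_one]
  have hz1 : z ≠ 1 := by
    intro h; rw [h, orderOf_one] at hz; omega
  have h4 : Nat.card E = 4 := hE.card_four
  let : Fintype E := Fintype.ofFinite E
  -- two further involutions of `E`
  obtain ⟨e, heE, he1, hez⟩ : ∃ e ∈ E, e ≠ 1 ∧ e ≠ z := by
    by_contra h
    push Not at h
    have hsub : (E : Set H) ⊆ {1, z} := fun x hx => by
      by_cases hx1 : x = 1
      · exact Or.inl hx1
      · exact Or.inr (h x hx hx1)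
    have h2 := Set.ncard_le_ncard hsub (Set.toFinite _)
    have h3 : ({1, z} : Set H).ncard = 2 := Set.ncard_pair (Ne.symm hz1)
    have : (E : Set H).ncard = 4 := by rw [← Nat.card_coe_set_eq]; exact h4
    omega
  by_contra hbot
  by_cases htop : N = ⊤
  · subst htop
    obtain ⟨c, hc'⟩ := isConj_iff.mp (hc e heE he1)
    have hcz : c * z = z * c :=
      congrArg Subtype.val (hab.is_comm.comm ⟨c, Subgroup.mem_top c⟩ ⟨z, Subgroup.mem_top z⟩)
    exact hez (by rw [← hc', hcz, mul_assoc, mul_inv_cancel, mul_one])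
  have hinv : ∀ x ∈ E, x ≠ 1 → ∀ n ∈ N, x * n * x⁻¹ = n⁻¹ := by
    intro x hx hx1 n hn
    obtain ⟨c, rfl⟩ := isConj_iff.mp (hc x hx hx1)
    have hn' : c⁻¹ * n * c ∈ N := by simpa using Subgroup.Normal.conj_mem ‹N.Normal› n hn c⁻¹
    have := inverts_of_fixed_point_free hz2 N (hN N ‹_› htop) _ hn'
    calc c * z * c⁻¹ * n * (c * z * c⁻¹)⁻¹ = c * (z * (c⁻¹ * n * c) * z⁻¹) * c⁻¹ := by group
      _ = n⁻¹ := by rw [this]; group
  have hze : z * e ≠ 1 := by
    intro h
    exact hez ((eq_inv_of_mul_eq_one_right h).trans (inv_eq_of_mul_eq_one_right hz2))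
  apply hbot
  rw [eq_bot_iff]
  intro n hn
  have h1 := hinv z hzE hz1 n hn
  have h2 := hinv e heE he1 n hn
  have h3 := hinv (z * e) (E.mul_mem hzE heE) hze n hn
  have h4' : n⁻¹ = n := by
    calc n⁻¹ = z * e * n * (z * e)⁻¹ := h3.symm
      _ = z * (e * n * e⁻¹) * z⁻¹ := by group
      _ = (z * n * z⁻¹)⁻¹ := by rw [h2]; group
      _ = n := by rw [h1, inv_inv]
  have hmem : n ∈ N ⊓ Subgroup.centralizer ({z} : Set H) := by
    refine ⟨hn, Subgroup.mem_centralizer_iff.mpr ?_⟩
    intro w hw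
    rw [Set.mem_singleton_iff.mp hw]
    rw [h4'] at h1
    calc z * n = z * n * z⁻¹ * z := by group
      _ = n * z := by rw [h1]
  rwa [hN N ‹_› htop] at hmem

end Cfsg.Agent.S2008
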