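import Cfsg.Statements.S2009
import Cfsg.Agent.S2008

set_option autoImplicit false
open Cfsg

namespace Cfsg.Agent.S2009

/-- Let H be a finite group and z an involution such that every proper normal subgroup of H meets the centralizer of z trivially, and suppose z lies in a Klein four-subgroup E of H all three of whose involutions are conjugate to z in H. Then H is simple. -/
theorem result {H : Type*} [Group H] [Finite H] (z : H) (hz : orderOf z = 2) (hN : ∀ N : Subgroup H, N.Normal → N ≠ ⊤ → N ⊓ Subgroup.centralizer ({z} : Set H) = ⊥) (E : Subgroup H) (hE : IsKleinFour ↥E) (hzE : z ∈ E) (hc : ∀ e ∈ E, e ≠ 1 → IsConj z e) : IsSimpleGroup H := by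
  have hz2 : z * z = 1 := by rw [← pow_two, ← hz, pow_orderOf_eq_one]
  have hnt : Nontrivial H := ⟨⟨z, 1, fun h => by rw [h, orderOf_one] at hz; omega⟩⟩
  refine ⟨fun N hNn => ?_⟩
  by_cases htop : N = ⊤
  · exact Or.inr htop
  left
  have hinv := Cfsg.Agent.S2008.inverts_of_fixed_point_free hz2 N (hN N hNn htop)
  have hab : IsMulCommutative ↥N := ⟨⟨fun a b => Subtype.ext ?_⟩⟩
  · exact Cfsg.Agent.S2008.result z hz hN E hE hzE hc N hab
  · have e1 := hinv _ a.2
    have e2 := hinv _ b.2
    have e3 := hinv _ (N.mul_mem a.2 b.2)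
    have e4 : ((a : H) * b)⁻¹ = ((b : H) * a)⁻¹ := by
      rw [← e3, mul_inv_rev (b : H), ← e1, ← e2]; group
    exact inv_injective e4

end Cfsg.Agent.S2009
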