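import Cfsg.Statements.S2048
import Cfsg.Agent.Lib.SuzMult.Cover
import Cfsg.Agent.Lib.SuzMult.Bound
import Cfsg.Agent.Lib.Schur.Cover

set_option autoImplicit false
open Cfsg

namespace Cfsg.Agent.S2048

/-- The Schur multiplier of the Suzuki sporadic group (the finitely presented group of the definitions) is cyclic of order 6; here the Schur multiplier is described through stem extensions, as in the definitions: surjective homomorphisms onto the group from a finite group, whose kernel is central in that finite group and contained in that finite group's commutator subgroup. -/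
theorem result : Cfsg.HasCyclicSchurMultiplier Cfsg.Spor.Suz 6 := by
  haveI : Finite Cfsg.Spor.Suz := S1694.order_le.1
  obtain ⟨X, _, _, σ, hσ, hcard, hcyc⟩ := Lib.SuzMult.exists_six_cover
  haveI := hcyc
  have hker : σ.ker ⊓ commutator X = σ.ker := inf_eq_left.2 hσ.2.2
  let e : σ.ker ≃* Multiplicative (ZMod 6) :=
    mulEquivOfCyclicCardEq (by rw [hcard]; simp)
  refine Lib.Schur.hasSchurMultiplier_of_bound σ hσ.1 hσ.2.1
    ((MulEquiv.subgroupCongr hker).trans e).toMonoidHom (MulEquiv.surjective _) fun Y _ τ h1 h2 => ?_
  refine (Lib.SuzMult.card_le_six h1 h2).trans ?_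
  simp

end Cfsg.Agent.S2048
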