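import Cfsg.Statements.S2049
import Cfsg.Agent.Lib.Compute.Sporadic.He.P2
import Cfsg.Agent.Lib.Compute.Sporadic.He.P3
import Cfsg.Agent.Lib.Compute.Sporadic.He.P5
import Cfsg.Agent.Lib.Compute.Sporadic.He.P7
-- import your own Cfsg.Agent.* helpers here

set_option autoImplicit false
open Cfsg

namespace Cfsg.Agent.S2049

open Cfsg.Agent.Lib.Compute Cfsg.Agent.Lib.Compute.Sporadic

/-- The Schur multiplier of the Held group (the finitely presented group of the definitions) is trivial; here the Schur multiplier is described through stem extensions, as in the definitions: surjective homomorphisms onto the group from a finite group, whose kernel is central in that finite group and contained in that finite group's commutator subgroup. -/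
theorem result : Cfsg.HasCyclicSchurMultiplier Cfsg.Spor.He 1 := by
  haveI := S1695.order_le.1
  refine WordSchur.hasCyclicSchurMultiplier_one He.key_sound He.key_eq He.natCard_He
    [He.P2.cert, He.P3.cert, He.P5.cert, He.P7.cert] ?_ ?_ ?_
  · intro W hW
    simp only [List.mem_cons, List.not_mem_nil, or_false] at hW
    rcases hW with rfl | rfl | rfl | rfl
    · exact ⟨Nat.prime_two, He.P2.check_ok⟩
    · exact ⟨Nat.prime_three, He.P3.check_ok⟩
    · exact ⟨show Nat.Prime 5 by norm_num, He.P5.check_ok⟩
    · exact ⟨show Nat.Prime 7 by norm_num, He.P7.check_ok⟩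
  · intro W hW
    simp only [List.mem_cons, List.not_mem_nil, or_false] at hW
    rcases hW with rfl | rfl | rfl | rfl <;> rfl
  · refine Schur.rest_of_factors [2, 3, 5, 7, 17] (by norm_num) ?_ (by decide +kernel)
    intro q hq
    fin_cases hq <;> norm_num

end Cfsg.Agent.S2049
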