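import Cfsg.Statements.S2050
import Cfsg.Agent.Lib.LyMult97.FromHom
import Cfsg.Agent.Lib.LyG2_97.Iso
import Cfsg.Agent.Lib.LyMain.Ly

set_option autoImplicit false
open Cfsg

namespace Cfsg.Agent.S2050

/-- The Schur multiplier of the Lyons group (the finitely presented group of the definitions) is trivial; here the Schur multiplier is described through stem extensions, as in the definitions: surjective homomorphisms onto the group from a finite group, whose kernel is central in that finite group and contained in that finite group's commutator subgroup. -/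
theorem result : Cfsg.HasCyclicSchurMultiplier Cfsg.Spor.Ly 1 := by
  obtain ⟨e⟩ := Cfsg.Agent.Lib.LyG2_97.hSub_iso
  have hc := Cfsg.Agent.Lib.LyMain.ly_card Cfsg.Agent.Lib.LyG2_97.simple_Hbar
  haveI : Finite Cfsg.Spor.Ly := Nat.finite_of_card_ne_zero (by rw [hc]; norm_num)
  refine Cfsg.Agent.Lib.LyMult97.multiplier_Ly_of (ZMod.card 5) e hc.ge
    Cfsg.Agent.Lib.LyDC.baseInj ?_ Cfsg.Agent.Lib.LyDC.dcBound
  intro G _ a b c d h
  obtain ⟨φ, ha, hb, hcc, hd, -⟩ := Cfsg.Agent.Lib.LyDC.exists_hom h
  exact ⟨φ, ha, hb, hcc, hd⟩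

end Cfsg.Agent.S2050
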