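import Cfsg.Statements.S2052
import Cfsg.Agent.Lib.Compute.Sporadic.ON.P2
import Cfsg.Agent.Lib.Compute.Sporadic.ON.P3
import Cfsg.Agent.Lib.Compute.Sporadic.ON.P7
import Cfsg.Agent.Lib.Compute.Sporadic.ON.Cover
import Cfsg.Agent.Lib.Compute.WordSchurCover
-- import your own Cfsg.Agent.* helpers here

set_option autoImplicit false
open Cfsg

namespace Cfsg.Agent.S2052

open Cfsg.Agent.Lib.Compute Cfsg.Agent.Lib.Compute.Sporadic

/-- The Schur multiplier of the O'Nan group (the finitely presented group of the definitions) is cyclic of order 3; here the Schur multiplier is described through stem extensions, as in the definitions: surjective homomorphisms onto the group from a finite group, whose kernel is central in that finite group and contained in that finite group's commutator subgroup. -/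
theorem result : Cfsg.HasCyclicSchurMultiplier Cfsg.Spor.ON 3 := by
  haveI := Cfsg.Agent.Lib.CosetTable.ONPres.order_le.1
  obtain ⟨X, _, _, τ, hτ, hcard⟩ := Cfsg.Agent.Lib.Compute.Sporadic.ON.exists_cover
  haveI : Fact (Nat.Prime 3) := ⟨Nat.prime_three⟩
  haveI : IsCyclic τ.ker := isCyclic_of_prime_card (p := 3) hcard
  refine WordSchur.hasCyclicSchurMultiplier_of_cover ON.key_sound ON.key_eq ON.natCard_ON
    [ON.P2.cert, ON.P3.cert, ON.P7.cert] ?_ ?_ ?_ τ hτ hcard
  · intro W hW
    simp only [List.mem_cons, List.not_mem_nil, or_false] at hW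
    rcases hW with rfl | rfl | rfl
    · exact ⟨Nat.prime_two, ON.P2.check_ok⟩
    · exact ⟨Nat.prime_three, ON.P3.check_ok⟩
    · exact ⟨show Nat.Prime 7 by norm_num, ON.P7.check_ok⟩
  · intro W hW
    simp only [List.mem_cons, List.not_mem_nil, or_false] at hW
    rcases hW with rfl | rfl | rfl
    · exact one_dvd _
    · exact dvd_refl _
    · exact one_dvd _
  · refine Schur.rest_of_factors [2, 3, 5, 7, 11, 19, 31] (by norm_num) ?_ (by decide +kernel)
    intro q hq
    fin_cases hq <;> norm_num

end Cfsg.Agent.S2052
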