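import Cfsg.Statements.S2053
import Cfsg.Agent.Lib.Fi22Mult.Bound
import Cfsg.Agent.Lib.Fi22Mult.Triple
import Cfsg.Agent.S1688
import Cfsg.Agent.Lib.Compute.Schur.FibreCover
import Cfsg.Agent.Lib.Schur.Cover

set_option autoImplicit false
open Cfsg

namespace Cfsg.Agent.S2053

open Cfsg.Agent.Lib.CosetTable

theorem isStem_double : ∃ ρ : S1688.PH →* Cfsg.Spor.Fi22, IsStemExtension ρ ∧ Nat.card ρ.ker = 2 := by
  obtain ⟨ρ, hs⟩ := S1688.exists_to_Fi22
  obtain ⟨π, hr, hinj⟩ := S1688.exists_to_subH
  haveI := S1688.card_PH.1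
  have hcard : Nat.card S1688.PH = 129123503308800 := by
    rw [Nat.card_congr (MonoidHom.ofInjective hinj).toEquiv, hr, S1688.card_subH]
  have hker : Nat.card ρ.ker = 2 := by
    have h := Subgroup.card_mul_index ρ.ker
    rw [Subgroup.index_ker, MonoidHom.range_eq_top.2 hs, Subgroup.card_top, hcard,
      S1696.result.2] at h
    omega
  have hperf : commutator S1688.PH = ⊤ := by
    have hsq : ∀ x : Abelianization S1688.PH, x ^ 2 = 1 := by
      intro x
      induction x using QuotientGroup.induction_on with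
      | _ g =>
        change Abelianization.of g ^ 2 = 1
        have hg : g ∈ Subgroup.closure
            {x | ∃ n, n < S1688.presH.k ∧ S1688.presH.gens S1688.extraH n = x} := by
          rw [Pres.closure_gens S1688.presH_good]; trivial
        induction hg using Subgroup.closure_induction with
        | mem g hg =>
          obtain ⟨n, -, rfl⟩ := hg
          rw [pow_two, ← map_mul, Pres.gens_invol S1688.presH_good, map_one]
        | one => rw [map_one, one_pow]
        | mul a b _ _ ha hb => rw [map_mul, mul_pow, ha, hb, one_mul]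
        | inv a _ ha => rw [map_inv, inv_pow, ha, inv_one]
    rw [← Abelianization.ker_of S1688.PH, eq_top_iff]
    exact fun g _ => MonoidHom.mem_ker.2 (S1688.no_hom_two hsq Abelianization.of g)
  refine ⟨ρ, ⟨hs, fun z hz => Subgroup.mem_center_iff.2 fun g => ?_, by rw [hperf]; exact le_top⟩, hker⟩
  by_cases hz1 : z = 1
  · rw [hz1, one_mul, mul_one]
  have hc : g * z * g⁻¹ ∈ ρ.ker := ρ.normal_ker.conj_mem z hz g
  rw [Nat.card_eq_two_iff' (⟨1, one_mem _⟩ : ρ.ker)] at hker
  obtain ⟨w, -, huniq⟩ := hker
  have h1 : (⟨z, hz⟩ : ρ.ker) = w := huniq _ fun e => hz1 (congrArg Subtype.val e)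
  have h2 : (⟨g * z * g⁻¹, hc⟩ : ρ.ker) = w := huniq _ fun e => hz1 (by
    have e : g * z * g⁻¹ = 1 := congrArg Subtype.val e
    simpa using e)
  have e : g * z * g⁻¹ = z := congrArg Subtype.val (h2.trans h1.symm)
  exact mul_inv_eq_iff_eq_mul.1 e

/-- The Schur multiplier of the Fischer group Fi₂₂ (the finitely presented group of the definitions) is cyclic of order 6; here the Schur multiplier is described through stem extensions, as in the definitions: surjective homomorphisms onto the group from a finite group, whose kernel is central in that finite group and contained in that finite group's commutator subgroup. -/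
theorem result : Cfsg.HasCyclicSchurMultiplier Cfsg.Spor.Fi22 6 := by
  haveI : Finite Cfsg.Spor.Fi22 := S1696.order_le.1
  obtain ⟨X, _, _, σ, hσ, hσc⟩ := Lib.Fi22Mult.exists_triple_cover
  obtain ⟨ρ, hρ, hρc⟩ := isStem_double
  haveI := S1688.card_PH.1
  haveI : IsCyclic ρ.ker :=
    haveI := Fact.mk Nat.prime_two
    isCyclic_of_prime_card hρc
  haveI : IsCyclic σ.ker :=
    haveI := Fact.mk Nat.prime_three
    isCyclic_of_prime_card hσc
  obtain ⟨τ, hτ, hτc, hcyc⟩ :=
    Lib.Compute.Schur.exists_fibre_cover hρ hσ (by rw [hρc, hσc]; norm_num)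
  haveI := hcyc
  rw [hρc, hσc] at hτc
  have hker : τ.ker ⊓ commutator (Lib.Compute.Schur.fibreSub ρ σ) = τ.ker := inf_eq_left.2 hτ.2.2
  let e : τ.ker ≃* Multiplicative (ZMod 6) :=
    mulEquivOfCyclicCardEq (by rw [hτc]; simp)
  refine Lib.Schur.hasSchurMultiplier_of_bound τ hτ.1 hτ.2.1
    ((MulEquiv.subgroupCongr hker).trans e).toMonoidHom (MulEquiv.surjective _) fun Y _ τ' h1 h2 => ?_
  refine (Lib.Fi22Mult.card_le_six h1 h2).trans ?_
  simp

end Cfsg.Agent.S2053
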