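import Cfsg.Statements.S2068
import Cfsg.Agent.Lib.J4Out38.Aut
import Cfsg.Agent.Lib.J4Dce59.Main

set_option autoImplicit false
open Cfsg

namespace Cfsg.Agent.S2068

open Cfsg.Agent.Lib Cfsg.Agent.Lib.J4Dce59 in
theorem jfacts : J4Out38.JFacts J4Dce59.env where
  pf := ⟨J4Dce59.model_facts.1, by rw [J4Dce59.model_facts.2]; norm_num⟩
  fin := J4Dce59.finite_J
  card := J4Dce59.card_J
  inj := J4Dce59.phi_injective
  gen := J4Dce59.env_gen


/-- The outer automorphism group of the Janko group J₄ (the finitely presented group of the definitions) is trivial: every automorphism is inner. -/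
theorem result : Nat.card (Cfsg.Out Cfsg.Spor.J4) = 1 := by
  have hgen : Subgroup.closure {Cfsg.Agent.Lib.J4Dce59.env.φ Cfsg.Agent.Lib.J4Dce59.px,
      Cfsg.Agent.Lib.J4Dce59.env.φ Cfsg.Agent.Lib.J4Dce59.py,
      Cfsg.Agent.Lib.J4Dce59.env.t} = ⊤ := by
    rw [eq_top_iff, ← PresentedGroup.closure_range_of
      (Cfsg.Spor.coxRelators Cfsg.Spor.J4.edges ∪ {r | r ∈ Cfsg.Spor.J4.extra}), Subgroup.closure_le]
    rintro g ⟨a, rfl⟩
    refine Subgroup.subset_closure ?_
    cases a
    · exact Or.inl Cfsg.Agent.Lib.J4Dce59.phi_x.symm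
    · exact Or.inr (Or.inl Cfsg.Agent.Lib.J4Dce59.phi_y.symm)
    · exact Or.inr (Or.inr rfl)
  rw [Nat.card_eq_one_iff_unique]
  refine ⟨⟨fun a b => ?_⟩, inferInstance⟩
  induction a using QuotientGroup.induction_on with
  | _ f => induction b using QuotientGroup.induction_on with
    | _ f' =>
      refine QuotientGroup.eq.2 ?_
      obtain ⟨g, hg⟩ := jfacts.inner (f⁻¹ * f') hgen
      exact ⟨g, MulEquiv.ext fun z => (hg z).symm⟩

end Cfsg.Agent.S2068
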