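import Cfsg.Statements.S2094
import Mathlib
import Cfsg.Agent.Lib.Schur.OrthMult

set_option autoImplicit false
open Cfsg

namespace Cfsg.Agent.S2094

/-- Schur multipliers of the odd-dimensional orthogonal groups: for m ≥ 3 and a field F of odd order q with (m, q) ≠ (3, 3), the Schur multiplier of PΩ_(2m+1)(F) (for the form x₀² + Σ xᵢyᵢ) is cyclic of order 2 = gcd(2, q − 1); here the Schur multiplier is described through stem extensions, as in the definitions. -/
theorem result {F : Type*} [Field F] [Fintype F] {q : ℕ} (hF : Fintype.card F = q) (hq : Odd q) (m : ℕ) (hm : 3 ≤ m) (hexc : ¬ (m = 3 ∧ q = 3)) : Cfsg.HasCyclicSchurMultiplier (Cfsg.POmega F (Cfsg.quadFormOdd m F)) 2 := by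
  subst hF
  have h2 : (2 : F) ≠ 0 := fun h =>
    Nat.not_even_iff_odd.mpr hq (Lib.Classical.two_eq_zero_iff_even_card.1 h)
  obtain ⟨p, k, hp, hk, hpk⟩ := (isPrimePow_nat_iff _).mp (FiniteField.isPrimePow_card F)
  haveI : Fact p.Prime := ⟨hp⟩
  haveI : CharP F p := charP_of_card_eq_prime_pow hpk.symm
  rw [← Lib.StdForms.coe_oddQ]
  have hQ := Lib.StdForms.oddQ_nondegenerate h2 m
  have hι : Fintype.card (Unit ⊕ (Fin m ⊕ Fin m)) = 2 * m + 1 := by simp; omega
  have hn : 5 ≤ Fintype.card (Unit ⊕ (Fin m ⊕ Fin m)) := by omega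
  have hcard : p ^ (Nat.card (Lib.Orth.siegelGroup (Lib.StdForms.oddQ F m))).factorization p =
      Nat.card F ^ (m ^ 2) := by
    have h4 := Subgroup.card_mul_index (Lib.Orth.siegelGroup (Lib.StdForms.oddQ F m))
    rw [← Lib.Orth.omega_eq_siegelGroup h2 hQ hn, Lib.Orth.index_omega h2 hQ (by omega),
      Lib.StdForms.coe_oddQ, Lib.Classical.natCard_isometryGroup_odd h2, Nat.card_eq_fintype_card (α := F)] at h4
    rw [← Lib.Orth.omega_eq_siegelGroup h2 hQ hn, Lib.StdForms.coe_oddQ, Nat.card_eq_fintype_card (α := F)]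
    set q := Fintype.card F with hqd
    set s := Nat.card (Cfsg.Omega F (Cfsg.quadFormOdd m F)) with hs
    have hprod : ¬ p ∣ ∏ i ∈ Finset.range m, (q ^ (2 * (i + 1)) - 1) := by
      rw [Prime.dvd_finsetProd_iff hp.prime]
      push Not
      intro i _ hd
      have hdq : p ∣ q ^ (2 * (i + 1)) := by
        rw [← hpk, ← pow_mul]
        exact dvd_pow_self p (Nat.mul_ne_zero (Nat.pos_iff_ne_zero.mp hk) (by omega))
      have hpos : 1 ≤ q ^ (2 * (i + 1)) := Nat.one_le_pow _ _ Fintype.card_pos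
      have := Nat.dvd_sub hdq hd
      rw [show q ^ (2 * (i + 1)) - (q ^ (2 * (i + 1)) - 1) = 1 by omega] at this
      exact hp.ne_one (Nat.dvd_one.mp this)
    set P := ∏ i ∈ Finset.range m, (q ^ (2 * (i + 1)) - 1) with hP
    have hP0 : P ≠ 0 := fun h => hprod (by rw [h]; exact dvd_zero p)
    have h5 : s * 2 = q ^ (m ^ 2) * P := by linarith
    have hq0 : q ^ (m ^ 2) ≠ 0 := pow_ne_zero _ Fintype.card_ne_zero
    have hs0 : s ≠ 0 := fun h => by rw [h, zero_mul] at h5; exact mul_ne_zero hq0 hP0 h5.symm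
    have h6 := congrArg (fun n => n.factorization p) h5
    have hp2 : ¬ p ∣ 2 := fun h => h2 (by
      have := (CharP.cast_eq_zero_iff F p 2).mpr h
      exact_mod_cast this)
    simp only [Nat.factorization_mul hs0 (two_ne_zero), Nat.factorization_mul hq0 hP0, Finsupp.add_apply,
      Nat.factorization_eq_zero_of_not_dvd hp2, Nat.factorization_eq_zero_of_not_dvd hprod, add_zero] at h6
    rw [h6, ← hpk, ← pow_mul, hp.factorization_pow, Finsupp.single_eq_same]
  have hbot : Subgroup.center ↥(Cfsg.Omega F ⇑(Lib.StdForms.oddQ F m)) = ⊥ :=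
    Lib.Orth.center_omega_eq_bot h2 hQ hn ⟨m, hι⟩
  let e : ↥(Cfsg.Omega F ⇑(Lib.StdForms.oddQ F m)) ≃* Cfsg.POmega F ⇑(Lib.StdForms.oddQ F m) :=
    MulEquiv.ofBijective (QuotientGroup.mk' (Subgroup.center ↥(Cfsg.Omega F ⇑(Lib.StdForms.oddQ F m))))
      ⟨(MonoidHom.ker_eq_bot_iff _).mp (by rw [QuotientGroup.ker_mk', hbot]), QuotientGroup.mk'_surjective _⟩
  exact Lib.Schur.hasSchurMultiplier_congr
    (Lib.Schur.OrthMult.hasCyclicSchurMultiplier_omega h2 hQ hm hι hexc p hcard) e (MulEquiv.refl _)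

end Cfsg.Agent.S2094
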