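import Cfsg.Statements.S2096
import Cfsg.Agent.Lib.Schur.PlusRoot.Main

set_option autoImplicit false
open Cfsg

namespace Cfsg.Agent.S2096

/-- Schur multipliers of the even-dimensional orthogonal groups of plus type and odd rank: for odd l ≥ 5 and a field F with q elements, the Schur multiplier of PΩ⁺_2l(F) (for the form Σ xᵢyᵢ) is cyclic of order gcd(4, q^l − 1); here the Schur multiplier is described through stem extensions, as in the definitions. -/
theorem result {F : Type*} [Field F] [Fintype F] {q : ℕ} (hF : Fintype.card F = q) (l : ℕ) (hl : 5 ≤ l) (hodd : Odd l) : Cfsg.HasCyclicSchurMultiplier (Cfsg.POmega F (Cfsg.quadFormPlus l F)) (Nat.gcd 4 (q ^ l - 1)) := by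
  classical
  open Cfsg.Agent.Lib.Schur.PlusRoot in
  exact (show Cfsg.HasCyclicSchurMultiplier (Cfsg.POmega F (Cfsg.quadFormPlus l F)) (Nat.gcd 4 (q ^ l - 1)) from by
    rw [← Cfsg.Agent.Lib.Classical.coe_plusForm]
    obtain ⟨Γ, _, _, E, hperf, htriv⟩ := exists_univ (F := F) (l := l) (by omega) (by omega)
    have hq1 : 1 ≤ q := hF ▸ Fintype.card_pos
    by_cases h2 : (2 : F) = 0
    · have he : Even q := hF ▸ Cfsg.Agent.Lib.Classical.two_eq_zero_iff_even_card.1 h2
      have h : Nat.gcd 4 (q ^ l - 1) = 1 := by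
        have hev : Even (q ^ l) := he.pow_of_ne_zero (by omega)
        have hco : Nat.Coprime 2 (q ^ l - 1) := Nat.coprime_two_left.2 (by
          have := Nat.one_le_pow l q hq1
          obtain ⟨k, hk⟩ := hev
          exact ⟨k - 1, by omega⟩)
        exact Nat.Coprime.pow_left 2 hco
      rw [h]
      exact E.hasMult_char_two hperf htriv h2
    · have ho : Odd q := Nat.not_even_iff_odd.1 fun he =>
        h2 (Cfsg.Agent.Lib.Classical.two_eq_zero_iff_even_card.2 (hF ▸ he))
      have hq4 : q % 4 = 1 ∨ q % 4 = 3 := by obtain ⟨k, rfl⟩ := ho; omega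
      obtain ⟨k, rfl⟩ := hodd
      have hp : q ^ (2 * k + 1) % 4 = q % 4 := by
        rw [pow_succ, pow_mul, Nat.mul_mod, Nat.pow_mod, Nat.pow_mod q 2]
        rcases hq4 with e | e <;> rw [e] <;> simp
      rcases hq4 with e | e
      · have h : Nat.gcd 4 (q ^ (2 * k + 1) - 1) = 4 := Nat.gcd_eq_left (by omega)
        rw [h]
        exact E.hasMult_one hperf htriv h2 ⟨k, rfl⟩ (hF ▸ e)
      · have h : Nat.gcd 4 (q ^ (2 * k + 1) - 1) = 2 := by
          obtain ⟨m, hm⟩ : ∃ m, q ^ (2 * k + 1) - 1 = 4 * m + 2 := ⟨(q ^ (2 * k + 1) - 1) / 4, by omega⟩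
          rw [hm, Nat.gcd_rec, show (4 * m + 2) % 4 = 2 by omega]
          rfl
        rw [h]
        exact E.hasMult_three hperf htriv h2 ⟨hF ▸ e, k, rfl⟩)

end Cfsg.Agent.S2096
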