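import Cfsg.Statements.S2097
import Cfsg.Agent.Lib.Schur.PlusRoot.Main

set_option autoImplicit false
open Cfsg

namespace Cfsg.Agent.S2097

/-- Schur multipliers of the even-dimensional orthogonal groups of plus type and even rank: for even l ≥ 4 and a field F with q elements, (l, q) ≠ (4, 2), the Schur multiplier of PΩ⁺_2l(F) (for the form Σ xᵢyᵢ) is the product of two cyclic groups of order gcd(2, q^l − 1) (so trivial for q even and a four-group for q odd; here the Schur multiplier is described through stem extensions, as in the definitions). -/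
theorem result {F : Type*} [Field F] [Fintype F] {q : ℕ} (hF : Fintype.card F = q) (l : ℕ) (hl : 4 ≤ l) (heven : Even l) (hexc : ¬ (l = 4 ∧ q = 2)) : Cfsg.HasSchurMultiplier (Cfsg.POmega F (Cfsg.quadFormPlus l F)) (Multiplicative (ZMod (Nat.gcd 2 (q ^ l - 1)) × ZMod (Nat.gcd 2 (q ^ l - 1)))) := by
  classical
  open Cfsg.Agent.Lib.Schur.PlusRoot in
  exact (show Cfsg.HasSchurMultiplier (Cfsg.POmega F (Cfsg.quadFormPlus l F))
      (Multiplicative (ZMod (Nat.gcd 2 (q ^ l - 1)) × ZMod (Nat.gcd 2 (q ^ l - 1)))) from by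
    rw [← Cfsg.Agent.Lib.Classical.coe_plusForm]
    obtain ⟨Γ, _, _, E, hperf, htriv⟩ := exists_univ (F := F) (l := l) hl (fun h => hexc ⟨h.1, hF ▸ h.2⟩)
    have hq1 : 1 ≤ q := hF ▸ Fintype.card_pos
    have := Nat.one_le_pow l q hq1
    by_cases h2 : (2 : F) = 0
    · have he : Even q := hF ▸ Cfsg.Agent.Lib.Classical.two_eq_zero_iff_even_card.1 h2
      have h : Nat.gcd 2 (q ^ l - 1) = 1 := Nat.coprime_two_left.2 (by
        obtain ⟨k, hk⟩ := he.pow_of_ne_zero (show l ≠ 0 by omega)
        exact ⟨k - 1, by omega⟩)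
      rw [h]
      exact E.hasMult_char_two hperf htriv h2
    · have ho : Odd q := Nat.not_even_iff_odd.1 fun he =>
        h2 (Cfsg.Agent.Lib.Classical.two_eq_zero_iff_even_card.2 (hF ▸ he))
      have h : Nat.gcd 2 (q ^ l - 1) = 2 := Nat.gcd_eq_left (by
        obtain ⟨k, hk⟩ := ho.pow (n := l)
        omega)
      rw [h]
      exact E.hasMult_even hperf htriv h2 heven)

end Cfsg.Agent.S2097
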