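import Mathlib
import Cfsg.Statements.S2103
import Cfsg.Agent.Lib.Schur.ChevTorusCert
import Cfsg.Agent.Lib.Schur.ChevTorusSmall
-- import your own Cfsg.Agent.* helpers here

set_option autoImplicit false
open Cfsg

namespace Cfsg.Agent.S2103

/-- Schur multipliers of the Chevalley groups of type F₄: over a finite field with more than 2 elements the Schur multiplier of F₄(q) is trivial (here the Schur multiplier is described through stem extensions, as in the definitions); q = 2 is exceptional. -/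
theorem result {F : Type*} [Field F] [Fintype F] (hF : 3 ≤ Fintype.card F) : Cfsg.HasCyclicSchurMultiplier ↥(Cfsg.Lie.chevF4.group F) 1 := by
  haveI : Finite ↥(Cfsg.Lie.chevF4.group F) := inferInstance
  refine Cfsg.Agent.Lib.Schur.hasCyclicSchurMultiplier_one_of fun Y _ τ hτ hc => ?_
  have key : Finite (τ.ker ⊓ commutator Y : Subgroup Y) ∧
      Nat.card (τ.ker ⊓ commutator Y : Subgroup Y) ≤
        Nat.card (Cfsg.Agent.Lib.Schur.ChevLift.CartanKer Cfsg.Lie.chevF4 F) := by
    obtain ⟨g, hg⟩ : IsCyclic Fˣ := inferInstance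
    have ho := orderOf_eq_card_of_forall_mem_zpowers hg
    rw [Nat.card_units, Nat.card_eq_fintype_card] at ho
    rcases (show Fintype.card F = 3 ∨ Fintype.card F = 4 ∨ 4 < Fintype.card F by omega) with h | h | h
    · have h2 : ringChar F ≠ 2 := fun e => by
        have := FiniteField.even_card_of_char_two e
        omega
      refine Cfsg.Agent.Lib.Schur.ChevLift.card_ker_inf_commutator_le_of_lift
        Cfsg.Agent.Lib.Chev.checked_F4 (fun _ hk hs => ⟨_,
          Cfsg.Agent.Lib.Schur.ChevLift.torusMod2_F4.rootLift hk hs g (by omega) fun m m0 m1 => ?_⟩)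
        (fun L hgen => L.hX_mul_all_two hgen Cfsg.Agent.Lib.Schur.ChevLift.adjTwo_F4) τ hτ hc
      have hne : (2 : F) ≠ 0 := Ring.two_ne_zero h2
      rcases (show m = 1 ∨ m = -1 ∨ m = 2 ∨ m = -2 by omega) with rfl | rfl | rfl | rfl <;> simp [hne]
    · refine Cfsg.Agent.Lib.Schur.ChevLift.card_ker_inf_commutator_le_of_lift
        Cfsg.Agent.Lib.Chev.checked_F4 (fun _ hk hs => ⟨_,
          Cfsg.Agent.Lib.Schur.ChevLift.torusMod3_F4.rootLift hk hs g (by omega) fun m m0 m1 => ?_⟩)
        (fun L hgen => L.hX_mul_all_two hgen Cfsg.Agent.Lib.Schur.ChevLift.adjTwo_F4) τ hτ hc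
      rcases (show m = 1 ∨ m = -1 by omega) with rfl | rfl <;> simp
    · exact Cfsg.Agent.Lib.Schur.ChevLift.torusOK_F4.card_ker_inf_commutator_le
        Cfsg.Agent.Lib.Schur.ChevLift.adjTwo_F4 (Cfsg.Agent.Lib.Schur.ChevLift.exists_unit_sq_cube_ne_one
          (by rw [Nat.card_eq_fintype_card]; omega)) τ hτ hc
  obtain ⟨hfin, hle⟩ := key
  have h1 := hle.trans (Cfsg.Agent.Lib.Schur.ChevLift.card_cartanKer_le (F := F)
    Cfsg.Agent.Lib.Schur.ChevLift.solve_F4)
  rw [Nat.gcd_one_right] at h1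
  exact Subgroup.eq_bot_of_card_le _ h1

end Cfsg.Agent.S2103
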