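import Mathlib
import Cfsg.Statements.S2106
import Cfsg.Agent.Lib.Schur.ChevExceptional
-- import your own Cfsg.Agent.* helpers here

set_option autoImplicit false
open Cfsg

namespace Cfsg.Agent.S2106

/-- Schur multipliers of the (adjoint, simple) Chevalley groups of type E₇: over a field with q elements the Schur multiplier is cyclic of order gcd(2, q − 1) (here the Schur multiplier is described through stem extensions, as in the definitions). -/
theorem result {F : Type*} [Field F] [Fintype F] {q : ℕ} (hF : Fintype.card F = q) : Cfsg.HasCyclicSchurMultiplier ↥(Cfsg.Lie.chevE7.group F) (Nat.gcd 2 (q - 1)) := by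
  subst hF
  exact Cfsg.Agent.Lib.Schur.ChevLift.hasCyclicSchurMultiplier_of_center
    (by simp [Cfsg.Agent.Lib.Schur.ChevLift.sevenTypes])
    (fun h => absurd (List.mem_map_of_mem (f := fun D => D.rank) h) (by decide +kernel))
    Cfsg.Agent.Lib.Schur.ChevLift.laced_E7 Cfsg.Agent.Lib.Schur.ChevLift.adj_E7 (by norm_num)
    Cfsg.Agent.Lib.Schur.ChevLift.solve_E7
    (Cfsg.Agent.S1079.result rfl (Cfsg.Lie.chevE7, 2) (by simp))

end Cfsg.Agent.S2106
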