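import Mathlib
import Cfsg.Statements.S2107
import Cfsg.Agent.Lib.Schur.ChevMult
import Cfsg.Agent.Lib.Schur.ChevLacedE8
-- import your own Cfsg.Agent.* helpers here

set_option autoImplicit false
open Cfsg

namespace Cfsg.Agent.S2107

/-- Schur multipliers of the Chevalley groups of type E₈: over every finite field the Schur multiplier of E₈(q) is trivial (here the Schur multiplier is described through stem extensions, as in the definitions). -/
theorem result {F : Type*} [Field F] [Fintype F] : Cfsg.HasCyclicSchurMultiplier ↥(Cfsg.Lie.chevE8.group F) 1 := by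
  haveI : Finite ↥(Cfsg.Lie.chevE8.group F) := inferInstance
  refine Cfsg.Agent.Lib.Schur.hasCyclicSchurMultiplier_one_of fun Y _ τ hτ hc => ?_
  obtain ⟨hfin, hle⟩ := Cfsg.Agent.Lib.Schur.ChevLift.laced_E8.card_ker_inf_commutator_le
    Cfsg.Agent.Lib.Schur.ChevLift.adj_E8 τ hτ hc
  have h1 := hle.trans (Cfsg.Agent.Lib.Schur.ChevLift.card_cartanKer_le (F := F)
    Cfsg.Agent.Lib.Schur.ChevLift.solve_E8)
  rw [Nat.gcd_one_right] at h1
  exact Subgroup.eq_bot_of_card_le _ h1

end Cfsg.Agent.S2107
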