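import Mathlib
import Cfsg.Statements.S2108
import Cfsg.Agent.Lib.Schur.Cover
import Cfsg.Agent.Lib.Schur.TwistE6Cover
import Cfsg.Agent.Lib.Schur.TwistE6Layers
import Cfsg.Agent.Lib.Schur.TwistOrbRank
import Cfsg.Agent.Lib.Twisted.Aut.E6
import Cfsg.Agent.Lib.Twisted.Monomial
-- import your own Cfsg.Agent.* helpers here

set_option autoImplicit false
open Cfsg

namespace Cfsg.Agent.S2108

/-- Schur multipliers of the twisted groups of type ²E₆: for a prime power q ≠ 2, with the group realised over the field with q² elements, the Schur multiplier of ²E₆(q) is cyclic of order gcd(3, q + 1) (here the Schur multiplier is described through stem extensions, as in the definitions); q = 2 is exceptional. -/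
theorem result {K : Type*} [Field K] [Fintype K] {q : ℕ} (hq : IsPrimePow q) (hK : Fintype.card K = q ^ 2) (h2 : q ≠ 2) : Cfsg.HasCyclicSchurMultiplier ↥(Cfsg.Lie.twistedE6 K q) (Nat.gcd 3 (q + 1)) := by
  obtain ⟨φ, hφ, hφ2⟩ := Cfsg.Agent.Lib.Twisted.Core.e6_powAut hq hK
  obtain ⟨p, hp⟩ := CharP.exists K
  haveI : Fact p.Prime := ⟨CharP.char_is_prime K p⟩
  have hq3 : 3 ≤ q := by have := hq.two_le; omega
  let O := Cfsg.Agent.Lib.Twisted.Core.e6Orbits hq hK φ hφ hφ2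
  set g := Nat.gcd 3 (q + 1)
  haveI : NeZero g := ⟨(Nat.gcd_pos_of_pos_left _ (by norm_num)).ne'⟩
  rw [Cfsg.HasCyclicSchurMultiplier, Cfsg.Agent.Lib.Schur.hasSchurMultiplier_canon_iff]
  obtain ⟨Γ, _, _, σ, hσ, ⟨e⟩⟩ := Cfsg.Agent.Lib.Schur.TwistE6Cover.exists_stem_E6 hq hK h2
  have hπ := Cfsg.Agent.Lib.Schur.canon_surjective ↥(Cfsg.Lie.twistedE6 K q)
  obtain ⟨C, _, -, _, τ, -, hτ, ⟨eτ⟩⟩ := Cfsg.Agent.Lib.Schur.exists_cover_of_presentation hπ
  obtain ⟨s, hs⟩ := Cfsg.Agent.Lib.Schur.exists_mult_surjection_of_stem hπ hσ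
  haveI := Cfsg.Agent.Lib.Schur.finite_mult (Cfsg.Agent.Lib.Schur.canon ↥(Cfsg.Lie.twistedE6 K q))
  have hbound : Nat.card τ.ker ≤ g :=
    (Cfsg.Agent.Lib.Schur.TwistLift.orbits_card_ker_le O
      (Cfsg.Agent.Lib.Twisted.Aut.e6_data hq hK φ hφ hφ2) p hτ
      (Cfsg.Agent.Lib.Schur.TwistE6.not_dvd_card_ker hK hq3 hq p hτ)
      Cfsg.Agent.Lib.Twisted.etaSigns_E6).trans
      (Cfsg.Agent.Lib.Twisted.Core.e6_card_ker hq hK φ hφ hφ2).le
  rw [Nat.card_congr eτ.toEquiv] at hbound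
  refine ⟨(MulEquiv.ofBijective (e.toMonoidHom.comp s)
    ((e.surjective.comp hs).bijective_of_nat_card_le ?_)).symm⟩
  exact hbound.trans (le_of_eq (by simp [g]))

end Cfsg.Agent.S2108
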