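import Cfsg.Statements.S2109
import Cfsg.Agent.Lib.Compute.E6Two.ConsCheck
import Cfsg.Agent.Lib.Compute.E6Two.Group
import Cfsg.Agent.Lib.Schur.TwistE6Odd
import Cfsg.Agent.Lib.Schur.ThreeFour

set_option autoImplicit false
open Cfsg

namespace Cfsg.Agent.S2109

/-- Exceptional Schur multiplier: ²E₆(2), realised over the field with 4 elements, has Schur multiplier isomorphic to the product of cyclic groups of orders 3, 2 and 2 (order 12, not cyclic; here the Schur multiplier is described through stem extensions, as in the definitions). -/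
theorem result {K : Type*} [Field K] [Fintype K] (hK : Fintype.card K = 4) : Cfsg.HasSchurMultiplier ↥(Cfsg.Lie.twistedE6 K 2) (Multiplicative (ZMod 3 × ZMod 2 × ZMod 2)) := by
  obtain ⟨x, hrel, -, hcard, hodd, hstay, hconj, hind⟩ := Cfsg.Agent.Lib.Compute.E6Two.exists_gens hK
  refine Cfsg.Agent.Lib.Schur.hasSchurMultiplier_three_four
    (fun Γ _ _ σ hσ hn => Cfsg.Agent.Lib.Schur.TwistE6Odd.e6two_card_ker_le hK σ hσ hn)
    (fun Γ _ _ σ hσ hp => ?_) (Cfsg.Agent.Lib.Schur.TwistE6Odd.e6two_exists_stem hK) ?_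
  · haveI : Fact (Nat.Prime 2) := ⟨Nat.prime_two⟩
    obtain ⟨m, hm⟩ := IsPGroup.iff_card.1 hp
    have h := Cfsg.Agent.Lib.Compute.E6Two.two_part_le hrel hcard hodd σ hσ (m := m) (dvd_of_eq hm.symm)
    rw [hm]
    calc 2 ^ m ≤ 2 ^ 2 := Nat.pow_le_pow_right (by norm_num) h
      _ = 4 := by norm_num
  · obtain ⟨E, _, _, π, j, hπ, hj, hjr, hjc, hjcomm⟩ := Cfsg.Agent.Lib.Compute.E6Two.exists_four_cover
      hrel hcard hodd (fun k hk => (hstay k hk).le) hconj hind Cfsg.Agent.Lib.Compute.E6Two.cons_ok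
    refine ⟨E, inferInstance, inferInstance, π, ⟨hπ, hjc, ?_⟩,
      ⟨((MonoidHom.ofInjective hj).trans (MulEquiv.subgroupCongr hjr)).symm⟩⟩
    rw [← hjr]
    rintro _ ⟨a, rfl⟩
    exact hjcomm a

end Cfsg.Agent.S2109
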