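import Cfsg.Statements.S2114
import Cfsg.Agent.Lib.Schur.ReeF4Block
import Cfsg.Agent.Lib.Schur.ReeF4Unip

set_option autoImplicit false
open Cfsg

namespace Cfsg.Agent.S2114

/-- Schur multipliers of the large Ree groups: for q = 2^(2m+1) with m ≥ 1 the Schur multiplier of ²F₄(q) is trivial (here the Schur multiplier is described through stem extensions, as in the definitions). -/
theorem result {K : Type*} [Field K] [Fintype K] {m : ℕ} (hm : 1 ≤ m) (hK : Fintype.card K = 2 ^ (2 * m + 1)) : Cfsg.HasCyclicSchurMultiplier ↥(Cfsg.Lie.twistedF4 K (2 ^ m)) 1 := by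
  have := Cfsg.Agent.Lib.Twisted.ReeF.charP_of_card hK
  obtain ⟨σ, hσ⟩ := Cfsg.Agent.Lib.Twisted.ReeF.exists_sigma hK
  have he := Cfsg.Agent.Lib.Twisted.ReeF.pow_theta hK
  refine Cfsg.Agent.Lib.Schur.hasCyclicSchurMultiplier_one_of_forall_prime _
    fun Γ _ _ π hπ p hp hdvd => ?_
  have h2 := Cfsg.Agent.Lib.Schur.ReeF4.not_two_dvd_card_ker hσ he hm hK hπ
  rw [Cfsg.Agent.Lib.Schur.ReeF4.ker_eq_bot_of_odd hσ he hm hK hπ h2, Subgroup.card_bot] at hdvd
  exact hp.one_lt.ne' (Nat.dvd_one.1 hdvd)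

end Cfsg.Agent.S2114
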