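import Cfsg.Statements.S2121
import Cfsg.Agent.Lib.ChevOut.Count
import Cfsg.Agent.Lib.Chev.PoincareG2
import Cfsg.Agent.Lib.Twisted.IsoG2

set_option autoImplicit false
open Cfsg

namespace Cfsg.Agent.S2121

open Cfsg.Lie Cfsg.Agent.Lib.Chev Cfsg.Agent.Lib.ChevOut

/-- The exchange of the two nodes. -/
def flipG2 : Equiv.Perm (Fin chevG2.rank) := (Equiv.swap 0 1 : Equiv.Perm (Fin 2))

theorem flipG2_ne : flipG2 ≠ 1 := fun e => by
  have h := congrFun (congrArg DFunLike.coe e) (⟨0, by decide⟩ : Fin chevG2.rank)
  revert h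
  decide +kernel

theorem posPerm_G2 : posPerm chevG2 Lib.Twisted.g2Iso.root flipG2 = true := by decide +kernel

theorem expo_G2 : ((List.range chevG2.nroots).all fun r =>
    (Lib.Twisted.g2Iso.expo r == 1) || (Lib.Twisted.g2Iso.expo r == 3)) = true := by decide +kernel

theorem core_G2 : ∀ k : Fin chevG2.nroots, k.1 ∈ Lib.Twisted.g2Iso.core := by decide +kernel

theorem two_cases : ∀ i : Fin chevG2.rank, [0, 1].getD i.val 0 = i.val := by decide +kernel

/-- Outer automorphisms of the Chevalley groups of type G₂: over a field with q = p^f (p prime) ≥ 3 elements, the outer automorphism group of G₂(q) has order f when p ≠ 3 and 2f when p = 3 (field automorphisms, and in characteristic 3 also the exceptional graph automorphism). -/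
theorem result {F : Type*} [Field F] [Fintype F] (p f : ℕ) [Fact p.Prime] [CharP F p] (hF : Fintype.card F = p ^ f) (hq : 3 ≤ p ^ f) : Nat.card (Cfsg.Out ↥(Cfsg.Lie.chevG2.group F)) = (if p = 3 then 2 * f else f) := by
  obtain ⟨C, hh, e⟩ := exists_count p f hF (D := chevG2) (by simp) (by decide) rooted_G2 G2.smith_ok
  have hprod : (∏ i : Fin 2, (p ^ f - 1).gcd ([1, 1].getD i.val 0)) = 1 := by simp [Fin.prod_univ_succ]
  rw [e, show (∏ i : Fin chevG2.rank, (p ^ f - 1).gcd ([1, 1].getD i.val 0)) = 1 from hprod, one_mul]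
  split_ifs with h3
  · subst h3
    haveI : Fact (Lib.Twisted.g2Iso.p).Prime := ⟨Nat.prime_three⟩
    haveI : CharP F Lib.Twisted.g2Iso.p := ‹CharP F 3›
    obtain ⟨α, hα⟩ := Lib.Twisted.IsoData.exists_exc_aut (F := F) Lib.Twisted.g2Iso_facts
      (Subgroup.closure_mono fun x hx => by
        obtain ⟨r, s, hx⟩ := hx
        exact ⟨r, core_G2 r, s, by rw [Cfsg.Lie.ChevalleyDatum.x, dif_pos r.2]; exact hx⟩)
      (fun y => surjective_frobenius F 3 y)
    rw [card_range_eq_two hh (show (Aut.syms chevG2 2).length = 2 by rw [Aut.syms_G2.1]; rfl)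
      (mem_range_of_excAut hh 3 α posPerm_G2 expo_G2 hα) flipG2_ne]
  · rw [card_range_eq_one_of hh fun π hπ => ?_, one_mul]
    have hl : Aut.permList π ∈ [[0, 1], [1, 0]] := Aut.syms_G2.1 ▸ range_permList hh hπ
    simp only [List.mem_cons, List.not_mem_nil, or_false] at hl
    rcases hl with hl | hl
    · refine Equiv.ext fun i => Fin.ext ?_
      rw [← Aut.permList_getD π i, hl]
      exact two_cases i
    · obtain ⟨η, σ, ha⟩ := exists_acts hh hπ
      have e0 : (π ⟨0, by decide⟩).val = 1 := by rw [← Aut.permList_getD, hl]; rfl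
      have e1 : (π ⟨1, by decide⟩).val = 0 := by rw [← Aut.permList_getD, hl]; rfl
      have h := Aut.sigma_eq_pow hh ha ⟨1, by decide⟩ ⟨0, by decide⟩ 3 (by decide +kernel)
        (by simp only [Aut.sp, e0, e1]; decide +kernel)
      rcases Aut.ringChar_of_cube (fun t => h t (by norm_num)) with hc | ⟨_, hi⟩
      · exact absurd ((ringChar.eq F p).symm.trans hc) h3
      · have hle : Fintype.card F ≤ 2 := by
          classical
          rw [← Finset.card_univ]
          refine (Finset.card_le_card (t := {0, 1}) fun t _ => ?_).trans Finset.card_le_two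
          have := hi t
          rw [sq] at this
          rcases eq_or_ne t 0 with rfl | ht
          · simp
          · simp [mul_left_cancel₀ ht (this.trans (mul_one t).symm)]
        omega

end Cfsg.Agent.S2121
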