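import Cfsg.Statements.S2122
import Cfsg.Agent.Lib.ChevOut.Count
import Cfsg.Agent.Lib.Chev.PoincareF4
import Cfsg.Agent.Lib.Twisted.IsoF4Verify
import Cfsg.Agent.Lib.Twisted.Generation

set_option autoImplicit false
open Cfsg

namespace Cfsg.Agent.S2122

open Cfsg.Lie Cfsg.Agent.Lib.Chev Cfsg.Agent.Lib.ChevOut

/-- The symmetry of the diagram. -/
def flipF4 : Equiv.Perm (Fin chevF4.rank) := (Equiv.swap 0 3 * Equiv.swap 1 2 : Equiv.Perm (Fin 4))

theorem flipF4_ne : flipF4 ≠ 1 := fun e => by
  have h := congrFun (congrArg DFunLike.coe e) (⟨0, by decide⟩ : Fin chevF4.rank)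
  revert h
  decide +kernel

theorem posPerm_F4 : posPerm chevF4 Lib.Twisted.f4Iso.root flipF4 = true := by decide +kernel

theorem expo_F4 : ((List.range chevF4.nroots).all fun r =>
    (Lib.Twisted.f4Iso.expo r == 1) || (Lib.Twisted.f4Iso.expo r == 2)) = true := by decide +kernel

theorem core_F4 : ∀ k : Fin chevF4.rank,
    chevF4.simple k.1 ∈ Lib.Twisted.f4Iso.core ∧
      chevF4.neg (chevF4.simple k.1) ∈ Lib.Twisted.f4Iso.core := by decide +kernel

theorem four_cases : ∀ i : Fin chevF4.rank, [0, 1, 2, 3].getD i.val 0 = i.val := by decide +kernel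

/-- Outer automorphisms of the Chevalley groups of type F₄: over a field with q = p^f (p prime) elements, the outer automorphism group of F₄(q) has order gcd(2, p) · f (field automorphisms, and in characteristic 2 also the exceptional graph automorphism). -/
theorem result {F : Type*} [Field F] [Fintype F] (p f : ℕ) [Fact p.Prime] [CharP F p] (hF : Fintype.card F = p ^ f) : Nat.card (Cfsg.Out ↥(Cfsg.Lie.chevF4.group F)) = Nat.gcd 2 p * f := by
  obtain ⟨C, hh, e⟩ := exists_count p f hF (D := chevF4) (by simp) (by decide)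
    (Rooted.mk checked_F4 descent_F4) F4.smith_ok
  have hprod : (∏ i : Fin 4, (p ^ f - 1).gcd ([1, 1, 1, 1].getD i.val 0)) = 1 := by simp [Fin.prod_univ_succ]
  rw [e, show (∏ i : Fin chevF4.rank, (p ^ f - 1).gcd ([1, 1, 1, 1].getD i.val 0)) = 1 from hprod, one_mul]
  by_cases h2 : p = 2
  · subst h2
    haveI : Fact (Lib.Twisted.f4Iso.p).Prime := ⟨Nat.prime_two⟩
    haveI : CharP F Lib.Twisted.f4Iso.p := ‹CharP F 2›
    obtain ⟨α, hα⟩ := Lib.Twisted.IsoData.exists_exc_aut (F := F) Lib.Twisted.f4Iso_facts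
      ((Lib.Twisted.group_le_closure_simple ⟨checked_F4, descent_F4⟩).trans (Subgroup.closure_mono (by
        rintro x ⟨r, ⟨i, hi, hr⟩, t, hx⟩
        refine ⟨r, ?_, t, hx⟩
        have := core_F4 ⟨i, hi⟩
        rcases hr with rfl | rfl
        exacts [this.1, this.2])))
      (fun y => surjective_frobenius F 2 y)
    rw [card_range_eq_two hh (show (Aut.syms chevF4 4).length = 2 by rw [Aut.syms_F4.1]; rfl)
      (mem_range_of_excAut hh 2 α posPerm_F4 expo_F4 hα) flipF4_ne, Nat.gcd_self]
  · rw [(Nat.coprime_primes Nat.prime_two (Fact.out : p.Prime)).2 (Ne.symm h2),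
      card_range_eq_one_of hh fun π hπ => ?_, one_mul]
    have hl : Aut.permList π ∈ [[0, 1, 2, 3], [3, 2, 1, 0]] := Aut.syms_F4.1 ▸ range_permList hh hπ
    simp only [List.mem_cons, List.not_mem_nil, or_false] at hl
    rcases hl with hl | hl
    · refine Equiv.ext fun i => Fin.ext ?_
      rw [← Aut.permList_getD π i, hl]
      exact four_cases i
    · obtain ⟨η, σ, ha⟩ := exists_acts hh hπ
      have e1 : (π ⟨1, by decide⟩).val = 2 := by rw [← Aut.permList_getD, hl]; rfl
      have e2 : (π ⟨2, by decide⟩).val = 1 := by rw [← Aut.permList_getD, hl]; rfl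
      have h := Aut.sigma_eq_pow hh ha ⟨2, by decide⟩ ⟨1, by decide⟩ 2 (by decide +kernel)
        (by simp only [Aut.sp, e1, e2]; decide +kernel)
      exact absurd ((ringChar.eq F p).symm.trans (Aut.ringChar_of_sq fun t => h t (by norm_num))) h2

end Cfsg.Agent.S2122
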