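import Cfsg.Statements.S2123
import Cfsg.Agent.Lib.ChevOut.Count
import Cfsg.Agent.Lib.Chev.PoincareE6
import Cfsg.Agent.Lib.Twisted.GraphData

set_option autoImplicit false
open Cfsg

namespace Cfsg.Agent.S2123

open Cfsg.Lie Cfsg.Agent.Lib.Chev Cfsg.Agent.Lib.ChevOut

/-- The symmetry of the diagram. -/
def flipE6 : Equiv.Perm (Fin chevE6.rank) := (Equiv.swap 0 5 * Equiv.swap 2 4 : Equiv.Perm (Fin 6))

theorem flipE6_ne : flipE6 ≠ 1 := fun e => by
  have h := congrFun (congrArg DFunLike.coe e) (⟨0, by decide⟩ : Fin chevE6.rank)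
  revert h
  decide +kernel

theorem posPerm_E6 : posPerm chevE6 Lib.Twisted.e6Graph.root flipE6 = true := by decide +kernel

/-- Outer automorphisms of the (adjoint, simple) Chevalley groups of type E₆: over a field with q = p^f (p prime) elements, the outer automorphism group of E₆(q) has order 2 · gcd(3, q − 1) · f (diagonal, field and graph automorphisms). -/
theorem result {F : Type*} [Field F] [Fintype F] (p f : ℕ) [Fact p.Prime] [CharP F p] (hF : Fintype.card F = p ^ f) : Nat.card (Cfsg.Out ↥(Cfsg.Lie.chevE6.group F)) = 2 * Nat.gcd 3 (p ^ f - 1) * f := by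
  obtain ⟨C, hh, e⟩ := exists_count p f hF (D := chevE6) (by simp) (by decide)
    (Rooted.mk checked_E6 descent_E6) E6.smith_ok
  have hπ : flipE6 ∈ (outPerm (F := F) hh).range :=
    mem_range_of_graphData hh Lib.Twisted.e6Graph_facts posPerm_E6
  rw [e, card_range_eq_two hh (show (Aut.syms chevE6 6).length = 2 by rw [Aut.syms_E6.1]; rfl) hπ flipE6_ne,
    mul_assoc 2 _ f]
  change 2 * ((∏ i : Fin 6, (p ^ f - 1).gcd ([1, 1, 1, 1, 1, 3].getD i.val 0)) * f) = _
  simp [Fin.prod_univ_succ, Nat.gcd_comm]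

end Cfsg.Agent.S2123
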