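import Cfsg.Statements.S2124
import Cfsg.Agent.Lib.ChevOut.Count
import Cfsg.Agent.Lib.Chev.PoincareE7

set_option autoImplicit false
open Cfsg

namespace Cfsg.Agent.S2124

open Cfsg.Lie Cfsg.Agent.Lib.Chev Cfsg.Agent.Lib.ChevOut

/-- Outer automorphisms of the (adjoint, simple) Chevalley groups of type E₇: over a field with q = p^f (p prime) elements, the outer automorphism group of E₇(q) has order gcd(2, q − 1) · f (diagonal and field automorphisms). -/
theorem result {F : Type*} [Field F] [Fintype F] (p f : ℕ) [Fact p.Prime] [CharP F p] (hF : Fintype.card F = p ^ f) : Nat.card (Cfsg.Out ↥(Cfsg.Lie.chevE7.group F)) = Nat.gcd 2 (p ^ f - 1) * f := by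
  obtain ⟨C, hh, e⟩ := exists_count p f hF (D := chevE7) (by simp) (by decide)
    (Rooted.mk checked_E7 descent_E7) E7.smith_ok
  rw [e, card_range_eq_one hh (show (Aut.syms chevE7 7).length = 1 by rw [Aut.syms_E7.1]; rfl), one_mul]
  change (∏ i : Fin 7, (p ^ f - 1).gcd ([1, 1, 1, 1, 1, 1, 2].getD i.val 0)) * f = _
  simp [Fin.prod_univ_succ, Nat.gcd_comm]

end Cfsg.Agent.S2124
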