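import Cfsg.Statements.S2125
import Cfsg.Agent.Lib.ChevOut.Count
import Cfsg.Agent.Lib.Chev.PoincareE8

set_option autoImplicit false
open Cfsg

namespace Cfsg.Agent.S2125

open Cfsg.Lie Cfsg.Agent.Lib.Chev Cfsg.Agent.Lib.ChevOut

/-- Outer automorphisms of the Chevalley groups of type E₈: over a field with p^f elements, p prime, the outer automorphism group of E₈(p^f) has order f (field automorphisms only). -/
theorem result {F : Type*} [Field F] [Fintype F] (p f : ℕ) [Fact p.Prime] [CharP F p] (hF : Fintype.card F = p ^ f) : Nat.card (Cfsg.Out ↥(Cfsg.Lie.chevE8.group F)) = f := by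
  obtain ⟨C, hh, e⟩ := exists_count p f hF (D := chevE8) (by simp) (by decide)
    (Rooted.mk checked_E8 descent_E8) E8.smith_ok
  rw [e, card_range_eq_one hh (show (Aut.syms chevE8 8).length = 1 by rw [Aut.syms_E8.1]; rfl), one_mul]
  change (∏ i : Fin 8, (p ^ f - 1).gcd ([1, 1, 1, 1, 1, 1, 1, 1].getD i.val 0)) * f = f
  simp [Fin.prod_univ_succ]

end Cfsg.Agent.S2125
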