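import Cfsg.Statements.S2134
import Mathlib
import Cfsg.Agent.S0445
import Cfsg.Agent.S0462
import Cfsg.Agent.Lib.CosetTable.HeInvCent.Data

set_option autoImplicit false
open Cfsg

open scoped Pointwise

namespace Cfsg.Agent.S2134


open Cfsg.Agent.Lib.CosetTable
open Cfsg.Agent.Lib.Compute
open HeInvCent

section Lower

variable {G β : Type*} [Group G] [MulAction G β] {n w : ℕ}

/-- The certified group is covered by the restriction of the group generated by elements acting as
certified. -/
theorem genGroup_le_range (hw : n ≤ 2 ^ w) (pts : Fin n → β) (hinj : Function.Injective pts)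
    (P : Subgroup G) (hP : P ≤ presGroup pts) (gs : List G) (hgs : ∀ g ∈ gs, g ∈ P)
    {S : List (ℕ × ℕ)} (hacts : ActsBy w pts gs S) :
    genGroup (permCoding w (Equiv.refl (Fin n)) hw) S ≤
      ((presHom pts hinj).comp (Subgroup.inclusion hP)).range := by
  obtain ⟨hlen, hacts⟩ := hacts
  refine (Subgroup.closure_le _).2 ?_
  rintro σ ⟨p, hp, hσ⟩
  obtain ⟨i, hi, rfl⟩ := List.getElem_of_mem hp
  have hi' : i < gs.length := hlen ▸ hi
  refine ⟨⟨gs[i], hgs _ (List.getElem_mem hi')⟩, Equiv.ext fun j => ?_⟩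
  obtain ⟨h, he⟩ := hacts i _ _ (List.getElem?_eq_getElem hi') (List.getElem?_eq_getElem hi) j
  refine hinj (((presHom_spec pts hinj _ j).symm).trans (he.trans (congrArg pts ?_)))
  refine Fin.ext ?_
  show getP w S[i].1 j = _
  rw [← hσ, permCoding_enc, getP_encP hw _ _ j.isLt]
  simp [imgP]

/-- a lower bound for a group containing elements acting as certified -/
theorem le_card (hw : n ≤ 2 ^ w) (pts : Fin n → β) (hinj : Function.Injective pts) (P : Subgroup G)
    [Finite P] (gs : List G) (hgs : ∀ g ∈ gs, g ∈ P) {S : List (ℕ × ℕ)}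
    (hacts : ActsBy w pts gs S) :
    Nat.card (genGroup (permCoding w (Equiv.refl (Fin n)) hw) S) ≤ Nat.card P := by
  let P0 : Subgroup G := Subgroup.closure {g | g ∈ gs}
  have hle : P0 ≤ P := (Subgroup.closure_le _).2 hgs
  have hpres : P0 ≤ presGroup pts := by
    refine (Subgroup.closure_le _).2 fun g hg j => ?_
    obtain ⟨i, hi, rfl⟩ := List.getElem_of_mem hg
    obtain ⟨h, he⟩ := hacts.2 i _ _ (List.getElem?_eq_getElem hi)
      (List.getElem?_eq_getElem (hacts.1 ▸ hi)) j
    exact ⟨_, he⟩
  haveI : Finite P0 := Finite.of_injective _ (Subgroup.inclusion_injective hle)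
  have h := genGroup_le_range hw pts hinj P0 hpres gs (fun g hg => Subgroup.subset_closure hg) hacts
  exact ((Subgroup.card_le_of_le h).trans (Nat.card_le_card_of_surjective _
    (MonoidHom.rangeRestrict_surjective _))).trans (Subgroup.card_le_of_le hle)

end Lower

/-- the packed orbit points -/
noncomputable def czPt (j : Fin 336) : ℕ := getP 12 orbCode j.val

theorem czPt_lt : ∀ j : Fin 336, czPt j < He2058.tab.n := by decide +kernel

/-- position in the orbit -/
noncomputable def czIdx (x : ℕ) : ℕ := orbList.idxOf x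

theorem czPt_idx : ∀ j : Fin 336, czIdx (czPt j) = j.val := by decide +kernel

theorem cz_acts : ∀ k : Fin 2, ∀ j : Fin 336,
    getP 9 (czGens.getD k.val (0, 0)).1 j.val < 336 ∧
      He2058.tab.walk (genWords.getD k.val []) (czPt j) =
        getP 12 orbCode (getP 9 (czGens.getD k.val (0, 0)).1 j.val) := by
  decide +kernel

theorem gens_comm : ∀ k : Fin 2, ∀ i : Fin 2058,
    He2058.tab.walk (genWords.getD k.val [] ++ [3]) i.val =
      He2058.tab.walk ([3] ++ genWords.getD k.val []) i.val := by
  decide +kernel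

theorem fixed_ok : ∀ i : Fin 2058, He2058.tab.act 3 i.val = i.val → fixList.contains i.val = true := by
  decide +kernel

theorem inv_orbit : ∀ j : Fin 136, getP 8 invCode j.val < 136 ∧
    He2058.tab.act 3 (S0462.orbPt j) = He2058.orb1.get (getP 8 invCode j.val) := by
  decide +kernel

theorem inv_packed : Nat.beq (packP 8 (getP 8 invCode) 136) invCode = true := by decide +kernel

theorem lengths : genWords.length = 2 ∧ czGens.length = 2 ∧ slGens.length = 2 ∧
    jointGens.length = 2 ∧ fixList.length = 42 ∧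
    (genWords.all fun w => w.all fun a => decide (a < 7)) = true := by decide +kernel

theorem joint_left : ∀ k : Fin 2, ∀ j : Fin 336,
    getP 9 (czGens.getD k.val (0, 0)).1 j.val < 336 ∧
      getP 9 (jointGens.getD k.val (0, 0)).1 j.val = getP 9 (czGens.getD k.val (0, 0)).1 j.val := by
  decide +kernel

theorem joint_right : ∀ k : Fin 2, ∀ j : Fin 31,
    getP 5 (slGens.getD k.val (0, 0)).1 j.val < 31 ∧
      getP 9 (jointGens.getD k.val (0, 0)).1 (336 + j.val) =
        336 + getP 5 (slGens.getD k.val (0, 0)).1 j.val := by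
  decide +kernel

/-- the vector number `j` -/
def slVec (j : ℕ) (a : Fin 5) : ZMod 2 := if (j + 1) / 2 ^ a.val % 2 = 1 then 1 else 0

/-- the two matrices -/
def slMat (k : Fin 2) : Matrix (Fin 5) (Fin 5) (ZMod 2) :=
  Matrix.of fun a b => ((((slMats.getD k.val []).getD a.val []).getD b.val 0 : ℕ) : ZMod 2)

theorem slMat_det : ∀ k : Fin 2, (slMat k).det = 1 := by decide +kernel

theorem slMat_comm : ∀ k : Fin 2,
    slMat k * Matrix.transvection 0 1 1 = Matrix.transvection 0 1 1 * slMat k := by decide +kernel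

theorem slVec_inj : ∀ i j : Fin 31, (∀ a : Fin 5, slVec i.val a = slVec j.val a) → i = j := by
  decide +kernel

theorem sl_acts : ∀ k : Fin 2, ∀ j : Fin 31,
    getP 5 (slGens.getD k.val (0, 0)).1 j.val < 31 ∧ ∀ a : Fin 5,
      (slMat k).mulVec (slVec j.val) a = slVec (getP 5 (slGens.getD k.val (0, 0)).1 j.val) a := by
  decide +kernel

theorem h9 : (336 : ℕ) ≤ 2 ^ 9 := by norm_num
theorem h5 : (31 : ℕ) ≤ 2 ^ 5 := by norm_num
theorem h9' : (367 : ℕ) ≤ 2 ^ 9 := by norm_num

/-- the group on the orbit of 336 points -/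
noncomputable abbrev czGroup : Subgroup (Equiv.Perm (Fin 336)) :=
  genGroup (permCoding 9 (Equiv.refl (Fin 336)) h9) czGens

/-- the group on 31 vectors -/
noncomputable abbrev slGroup : Subgroup (Equiv.Perm (Fin 31)) :=
  genGroup (permCoding 5 (Equiv.refl (Fin 31)) h5) slGens

/-- the joint group -/
noncomputable abbrev jointGroup : Subgroup (Equiv.Perm (Fin 367)) :=
  genGroup (permCoding 9 (Equiv.refl (Fin 367)) h9') jointGens

theorem cz_ok : GensOK (permCoding 9 (Equiv.refl (Fin 336)) h9) czGens := gensOK_literal _ _ czGens_ok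
theorem sl_ok : GensOK (permCoding 5 (Equiv.refl (Fin 31)) h5) slGens := gensOK_literal _ _ slGens_ok
theorem joint_ok : GensOK (permCoding 9 (Equiv.refl (Fin 367)) h9') jointGens :=
  gensOK_literal _ _ jointGens_ok

theorem card_cz : Nat.card czGroup = 21504 := by
  rw [card_genGroup _ cz_ok czChain_ok, czChain_size]
theorem card_sl : Nat.card slGroup = 21504 := by
  rw [card_genGroup _ sl_ok slChain_ok, slChain_size]
theorem card_joint : Nat.card jointGroup = 21504 := by
  rw [card_genGroup _ joint_ok jointChain_ok, jointChain_size]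

theorem joint_equiv : Nonempty (czGroup ≃* slGroup) := by
  have key : ∀ k : Fin jointGens.length, ∃ g, g ∈ jointGroup ∧
      ∀ j : Fin 367, (g j).val = getP 9 (jointGens[k.val]).1 j.val := by
    intro k
    obtain ⟨g, -, h1, -⟩ := joint_ok _ (List.getElem_mem k.isLt)
    refine ⟨g, Subgroup.subset_closure ⟨_, List.getElem_mem k.isLt, h1⟩, fun j => ?_⟩
    rw [← h1, permCoding_enc, getP_encP h9' _ _ j.isLt]
    simp [imgP]
  choose g hg hj using key
  have hmem : ∀ x ∈ List.ofFn g, x ∈ jointGroup := by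
    intro x hx
    obtain ⟨k, rfl⟩ := List.mem_ofFn.1 hx
    exact hg k
  have hlen : (List.ofFn g).length = 2 := by rw [List.length_ofFn]; exact lengths.2.2.2.1
  obtain ⟨e1⟩ := nonempty_mulEquiv_genGroup h9 jointGroup
    (fun j : Fin 336 => (⟨j.val, by omega⟩ : Fin 367))
    (fun i j h => Fin.ext (congrArg Fin.val h :)) _ hmem cz_ok
    ⟨by rw [hlen, lengths.2.1], fun i x p hx hp j => by
      obtain ⟨hi, rfl⟩ := List.getElem?_eq_some_iff.1 hx
      obtain ⟨hi', rfl⟩ := List.getElem?_eq_some_iff.1 hp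
      obtain ⟨hlt, he⟩ := joint_left ⟨i, lt_of_lt_of_eq hi hlen⟩ j
      simp only [List.getD_eq_getElem _ _ hi',
        List.getD_eq_getElem _ _ (show i < jointGens.length by simpa using hi)] at hlt he
      refine ⟨hlt, Fin.ext ?_⟩
      show (((List.ofFn g)[i]'hi) ⟨j.val, _⟩).val = _
      rw [List.getElem_ofFn hi, hj]
      exact he⟩
    (card_joint.trans card_cz.symm)
  obtain ⟨e2⟩ := nonempty_mulEquiv_genGroup h5 jointGroup
    (fun j : Fin 31 => (⟨336 + j.val, by omega⟩ : Fin 367))
    (fun i j h => Fin.ext (Nat.add_left_cancel (congrArg Fin.val h :))) _ hmem sl_ok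
    ⟨by rw [hlen, lengths.2.2.1], fun i x p hx hp j => by
      obtain ⟨hi, rfl⟩ := List.getElem?_eq_some_iff.1 hx
      obtain ⟨hi', rfl⟩ := List.getElem?_eq_some_iff.1 hp
      obtain ⟨hlt, he⟩ := joint_right ⟨i, lt_of_lt_of_eq hi hlen⟩ j
      simp only [List.getD_eq_getElem _ _ hi',
        List.getD_eq_getElem _ _ (show i < jointGens.length by simpa using hi)] at hlt he
      refine ⟨hlt, Fin.ext ?_⟩
      show (((List.ofFn g)[i]'hi) ⟨336 + j.val, _⟩).val = _
      rw [List.getElem_ofFn hi, hj]
      exact he⟩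
    (card_joint.trans card_sl.symm)
  exact ⟨e1.symm.trans e2⟩

theorem sl_equiv (s : Matrix.SpecialLinearGroup (Fin 5) (ZMod 2))
    (hs : (s : Matrix (Fin 5) (Fin 5) (ZMod 2)) = Matrix.transvection 0 1 1) :
    Nonempty (Subgroup.centralizer ({s} : Set (Matrix.SpecialLinearGroup (Fin 5) (ZMod 2))) ≃*
      slGroup) := by
  letI : MulAction (Matrix.SpecialLinearGroup (Fin 5) (ZMod 2)) (Fin 5 → ZMod 2) :=
    { smul := fun g v => (g : Matrix (Fin 5) (Fin 5) (ZMod 2)).mulVec v
      one_smul := fun v => Matrix.one_mulVec v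
      mul_smul := fun a b v => (Matrix.mulVec_mulVec v _ _).symm }
  let gs : List (Matrix.SpecialLinearGroup (Fin 5) (ZMod 2)) :=
    List.ofFn fun k : Fin 2 => ⟨slMat k, slMat_det k⟩
  have hmem : ∀ x ∈ gs, x ∈ Subgroup.centralizer ({s} : Set (Matrix.SpecialLinearGroup (Fin 5) (ZMod 2))) := by
    intro x hx
    obtain ⟨k, rfl⟩ := List.mem_ofFn.1 hx
    refine Subgroup.mem_centralizer_singleton_iff.mpr (Subtype.ext ?_)
    show slMat k * (s : Matrix (Fin 5) (Fin 5) (ZMod 2)) = (s : Matrix (Fin 5) (Fin 5) (ZMod 2)) * slMat k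
    rw [hs, slMat_comm]
  refine nonempty_mulEquiv_genGroup h5 _ (fun j : Fin 31 => slVec j.val)
    (fun i j h => slVec_inj i j fun a => congrFun h a) gs hmem sl_ok
    ⟨by rw [lengths.2.2.1]; exact List.length_ofFn, fun k g p hg hp j => ?_⟩
    (by rw [S0445.result s hs, card_sl])
  obtain ⟨hk, rfl⟩ := List.getElem?_eq_some_iff.1 hg
  obtain ⟨hk', rfl⟩ := List.getElem?_eq_some_iff.1 hp
  have hk2 : k < 2 := lt_of_lt_of_eq hk List.length_ofFn
  obtain ⟨hlt, he⟩ := sl_acts ⟨k, hk2⟩ j
  simp only [List.getD_eq_getElem _ _ hk'] at hlt he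
  refine ⟨hlt, ?_⟩
  show (gs[k]'hk : Matrix (Fin 5) (Fin 5) (ZMod 2)).mulVec (slVec j.val) = _
  rw [show (gs[k]'hk : Matrix (Fin 5) (Fin 5) (ZMod 2)) = slMat ⟨k, hk2⟩ from
    congrArg Subtype.val (List.getElem_ofFn hk)]
  exact funext he

theorem twin_bound {P : Type*} [Group P] [Finite P] (ψ : P →* Equiv.Perm (Fin 136))
    (hψ : Function.Injective ψ)
    (hmem : ∀ x, ψ x ∈ genGroup (permCoding 8 (Equiv.refl (Fin 136)) S0462.h8) HeSp44.stabGens)
    (c : Equiv.Perm (Fin 136)) (hc : encP 8 (Equiv.refl (Fin 136)) c = invCode)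
    (hcomm : ∀ x, ψ x * c = c * ψ x) : Nat.card P ≤ 512 := by
  have h512 := Nat.ble_eq.mp twins_bound
  generalize hL : twins (permOps 8 136) invCode invCode HeSp44.stabChain = L at h512
  have key : ∀ x, encP 8 (Equiv.refl (Fin 136)) (ψ x) ∈ L := by
    intro x
    have h := enc_mem_twins (permCoding 8 (Equiv.refl (Fin 136)) S0462.h8) (a := c) (b := c)
      S0462.stab_ok HeSp44.stabChain_ok (g := ψ x) (hmem x) (hcomm x)
    rw [permCoding_enc, permCoding_enc, hc, hL] at h
    exact h
  let f : P → {n // n ∈ L.toFinset} := fun x => ⟨_, List.mem_toFinset.mpr (key x)⟩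
  have finj : Function.Injective f := fun x y h =>
    hψ ((permCoding 8 (Equiv.refl (Fin 136)) S0462.h8).inj (congrArg Subtype.val h :))
  have h1 := Nat.card_le_card_of_injective f finj
  rw [Nat.card_eq_fintype_card (α := {n // n ∈ L.toFinset}), Fintype.card_coe] at h1
  exact h1.trans ((List.toFinset_card_le L).trans h512)

theorem czPt_inj : Function.Injective
    (fun j : Fin 336 => (⟨czPt j, czPt_lt j⟩ : Fin He2058.tab.n)) := fun i j h =>
  Fin.ext ((czPt_idx i).symm.trans ((congrArg czIdx (congrArg Fin.val h :)).trans (czPt_idx j)))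

/-- The Held group (presented on seven involutions, as in the definitions) has an involution whose centraliser is isomorphic to the centraliser of a transvection in SL(5, 2) (a group of shape 2^{1+6}:GL(3, 2)). -/
theorem result (s : Matrix.SpecialLinearGroup (Fin 5) (ZMod 2)) (hs : (s : Matrix (Fin 5) (Fin 5) (ZMod 2)) = Matrix.transvection 0 1 1) : ∃ z : Cfsg.Spor.He, orderOf z = 2 ∧ Nonempty (↥(Subgroup.centralizer ({z} : Set Cfsg.Spor.He)) ≃* ↥(Subgroup.centralizer ({s} : Set (Matrix.SpecialLinearGroup (Fin 5) (ZMod 2))))) := by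
  have D := S1683.certified
  obtain ⟨φ, hφ⟩ : ∃ φ : Cfsg.Spor.He →* Equiv.Perm (Fin He2058.tab.n),
      ∀ g, g < He2058.cert.k → φ (S1695.gn g) = He2058.checked.perm g :=
    Pres.exists_action D.good D.extra_eq D.k_eq D.rels_eq D.words D.checked
  have M := S1695.model_act
  have K := He2058.checked
  haveI : IsSimpleGroup Cfsg.Spor.He := S1695.result.1
  haveI : Finite Cfsg.Spor.He := Nat.finite_of_card_ne_zero (by rw [S1695.result.2]; norm_num)
  have hinj : Function.Injective φ := by
    rcases φ.normal_ker.eq_bot_or_eq_top with h | h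
    · exact (MonoidHom.ker_eq_bot_iff φ).mp h
    · exfalso
      obtain ⟨x, hx⟩ := Checked.exists_map_zero (f := S1695.gn) K φ hφ ⟨1, by decide +kernel⟩
      rw [show φ x = 1 from MonoidHom.mem_ker.mp (by rw [h]; trivial), Equiv.Perm.one_apply] at hx
      exact absurd (congrArg Fin.val hx) Nat.zero_ne_one
  have hwalk : ∀ {w : List ℕ}, (∀ a ∈ w, a < 7) → ∀ i : Fin He2058.tab.n,
      (φ (eval S1695.gn w) i).val = He2058.tab.walk w i.val := by
    intro w hl i
    rw [Checked.map_eval K M φ hφ (w := w) hl, K.eval_perm (w := w) hl]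
  have h3k : 3 < He2058.cert.k := by decide +kernel
  let z : Cfsg.Spor.He := S1695.gn 3
  have hz : ∀ i : Fin He2058.tab.n, (φ z i).val = He2058.tab.act 3 i.val := by
    intro i
    rw [hφ 3 h3k, K.perm_apply h3k]
  have hz1 : z ≠ 1 := by
    intro h
    have h2 : (2 : ℕ) = He2058.tab.act 3 2 := by
      have h3 := hz ⟨2, by decide +kernel⟩
      rw [h, map_one] at h3
      exact h3
    exact absurd h2 (by decide +kernel)
  refine ⟨z, orderOf_eq_prime (hp := ⟨Nat.prime_two⟩)
    (by rw [pow_two]; exact M.invol 3 h3k) hz1, ?_⟩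
  let gs : List (Equiv.Perm (Fin He2058.tab.n)) := genWords.map fun w => φ (eval S1695.gn w)
  let pts : Fin 336 → Fin He2058.tab.n := fun j => ⟨czPt j, czPt_lt j⟩
  let CP : Subgroup (Equiv.Perm (Fin He2058.tab.n)) :=
    (Subgroup.centralizer ({z} : Set Cfsg.Spor.He)).map φ
  let eC : Subgroup.centralizer ({z} : Set Cfsg.Spor.He) ≃* CP :=
    Subgroup.equivMapOfInjective _ _ hinj
  have hlt : ∀ (k : ℕ), ∀ a ∈ genWords.getD k [], a < 7 := by
    intro k a ha
    by_cases hk : k < genWords.length
    · rw [List.getD_eq_getElem _ _ hk] at ha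
      exact of_decide_eq_true
        (List.all_eq_true.1 (List.all_eq_true.1 lengths.2.2.2.2.2 _ (List.getElem_mem hk)) a ha)
    · rw [List.getD_eq_default _ _ (by omega)] at ha
      exact absurd ha List.not_mem_nil
  have hgs : ∀ g ∈ gs, g ∈ CP := by
    intro g hg
    obtain ⟨w, hw, rfl⟩ := List.mem_map.1 hg
    obtain ⟨k, hk, rfl⟩ := List.getElem_of_mem hw
    refine ⟨_, ?_, rfl⟩
    show eval S1695.gn genWords[k] ∈ Subgroup.centralizer ({z} : Set Cfsg.Spor.He)
    rw [Subgroup.mem_centralizer_singleton_iff]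
    apply hinj
    refine Equiv.ext fun i => Fin.ext ?_
    have hl : ∀ a ∈ genWords[k], a < 7 := by
      have := hlt k
      rwa [List.getD_eq_getElem _ _ hk] at this
    have h := gens_comm ⟨k, lt_of_lt_of_eq hk lengths.1⟩ i
    simp only [List.getD_eq_getElem _ _ hk] at h
    rw [← hwalk (w := genWords[k] ++ [3]) (by
        intro a ha
        rcases List.mem_append.1 ha with ha | ha
        · exact hl a ha
        · obtain rfl := List.mem_singleton.1 ha; norm_num) i,
      ← hwalk (w := [3] ++ genWords[k]) (by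
        intro a ha
        rcases List.mem_append.1 ha with ha | ha
        · obtain rfl := List.mem_singleton.1 ha; norm_num
        · exact hl a ha) i] at h
    simp only [eval_append, eval, one_mul] at h
    exact h.symm
  have hacts : ActsBy 9 pts gs czGens := by
    refine ⟨by rw [List.length_map, lengths.1, lengths.2.1], fun k g p hg hp j => ?_⟩
    obtain ⟨hk, rfl⟩ := List.getElem?_eq_some_iff.1 hg
    obtain ⟨hk', rfl⟩ := List.getElem?_eq_some_iff.1 hp
    obtain ⟨hlt', he⟩ := cz_acts ⟨k, lt_of_lt_of_eq hk' lengths.2.1⟩ j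
    have hkw : k < genWords.length :=
      lt_of_lt_of_eq (lt_of_lt_of_eq hk' lengths.2.1) lengths.1.symm
    simp only [List.getD_eq_getElem _ _ hk', List.getD_eq_getElem _ _ hkw] at hlt' he
    refine ⟨hlt', Fin.ext ?_⟩
    show ((gs[k] : Equiv.Perm _) _).val = _
    have e : gs[k] = φ (eval S1695.gn genWords[k]) := List.getElem_map _
    refine (congrArg Fin.val (DFunLike.congr_fun e _)).trans ?_
    rw [hwalk (by have := hlt k; rwa [List.getD_eq_getElem _ _ hkw] at this)]
    exact he
  haveI : Finite CP := Finite.of_equiv _ eC.toEquiv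
  have hlow : 21504 ≤ Nat.card CP := card_cz ▸ le_card h9 pts czPt_inj CP gs hgs hacts
  -- the point stabiliser acts faithfully on its orbit of size 136
  let subH : Subgroup Cfsg.Spor.He := wordSubgroup S1695.gn He2058.cert.subs
  have hsub : Nat.card subH = 1958400 := by
    have h := subH.card_mul_index
    rw [show subH.index = He2058.tab.n from Checked.index_eq K M φ hφ, S1695.result.2] at h
    change Nat.card subH * 2058 = 4030387200 at h
    omega
  let T : Subgroup (Equiv.Perm (Fin He2058.tab.n)) := subH.map φ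
  have hT : Nat.card T = 1958400 := by
    rw [← Nat.card_congr (Subgroup.equivMapOfInjective _ _ hinj).toEquiv, hsub]
  haveI : Finite T := Nat.finite_of_card_ne_zero (by rw [hT]; norm_num)
  let ts : List (Equiv.Perm (Fin He2058.tab.n)) :=
    He2058.cert.subs.map fun w => φ (eval S1695.gn w)
  let q : Fin 136 → Fin He2058.tab.n := fun j => ⟨S0462.orbPt j, S0462.orbPt_lt j⟩
  have qinj : Function.Injective q := fun i j h => S0462.orbPt_inj i j (congrArg Fin.val h)
  have htmem : ∀ g ∈ ts, g ∈ T := by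
    intro g hg
    obtain ⟨w, hw, rfl⟩ := List.mem_map.1 hg
    exact ⟨_, Subgroup.subset_closure ⟨w, hw, rfl⟩, rfl⟩
  have htacts : ActsBy 8 q ts HeSp44.stabGens := by
    refine ⟨by rw [List.length_map, S0462.subs_length.1, S0462.subs_length.2.1],
      fun k g p hg hp j => ?_⟩
    obtain ⟨hk, rfl⟩ := List.getElem?_eq_some_iff.1 hg
    obtain ⟨hk', rfl⟩ := List.getElem?_eq_some_iff.1 hp
    obtain ⟨hlt', he⟩ := S0462.stab_acts ⟨k, lt_of_lt_of_eq hk' S0462.subs_length.2.1⟩ j
    have hks : k < He2058.cert.subs.length :=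
      lt_of_lt_of_eq (lt_of_lt_of_eq hk' S0462.subs_length.2.1) S0462.subs_length.1.symm
    simp only [List.getD_eq_getElem _ _ hk', List.getD_eq_getElem _ _ hks] at hlt' he
    have hl := M.subs_lt _ (List.getElem_mem hks)
    refine ⟨hlt', Fin.ext ?_⟩
    show ((ts[k] : Equiv.Perm _) _).val = _
    have e : ts[k] = φ (eval S1695.gn He2058.cert.subs[k]) := List.getElem_map _
    refine (congrArg Fin.val (DFunLike.congr_fun e _)).trans ?_
    rw [Checked.map_eval K M φ hφ hl, K.eval_perm hl]
    exact he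
  have hTpres : T ≤ presGroup q := by
    rw [Subgroup.map_le_iff_le_comap]
    refine (Subgroup.closure_le _).mpr ?_
    rintro _ ⟨w, hw, rfl⟩ j
    obtain ⟨i, hi, e⟩ := List.getElem_of_mem hw
    have hi' : i < ts.length := by rw [List.length_map]; exact hi
    have hi'' : i < HeSp44.stabGens.length := by rw [← htacts.1]; exact hi'
    obtain ⟨h, he⟩ := htacts.2 i (ts[i]'hi') (HeSp44.stabGens[i]'hi'')
      (List.getElem?_eq_getElem hi') (List.getElem?_eq_getElem hi'') j
    refine ⟨⟨_, h⟩, ?_⟩
    have e2 : ts[i]'hi' = φ (eval S1695.gn w) := by rw [← e]; exact List.getElem_map _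
    rw [← he, e2]
  let r : T →* Equiv.Perm (Fin 136) := (presHom q qinj).comp (Subgroup.inclusion hTpres)
  have hrge := genGroup_le_range (S := HeSp44.stabGens) S0462.h8 q qinj T hTpres ts htmem htacts
  have hrinj : Function.Injective r := by
    have h2 : Nat.card r.range ≤ Nat.card T :=
      Nat.card_le_card_of_surjective _ r.rangeRestrict_surjective
    have h3 := Subgroup.card_le_of_le hrge
    rw [S0462.card_stab] at h3
    have hb : Function.Bijective r.rangeRestrict :=
      r.rangeRestrict_surjective.bijective_of_nat_card_le (by rw [hT]; exact h3)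
    exact fun a b h => hb.1 (Subtype.ext h)
  have hrrange : r.range = genGroup (permCoding 8 (Equiv.refl (Fin 136)) S0462.h8) HeSp44.stabGens := by
    refine (Subgroup.eq_of_le_of_card_ge hrge ?_).symm
    rw [S0462.card_stab]
    exact hT ▸ Nat.card_le_card_of_surjective _ r.rangeRestrict_surjective
  have hzT : φ z ∈ T := ⟨z, Subgroup.subset_closure
    ⟨[3], (show [3] ∈ He2058.cert.subs by decide +kernel), by simp [eval, z]⟩, rfl⟩
  have hzc : encP 8 (Equiv.refl (Fin 136)) (r ⟨φ z, hzT⟩) = invCode := by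
    rw [← Nat.eq_of_beq_eq_true inv_packed]
    refine packP_congr fun i hi => ?_
    simp only [imgP, dif_pos hi, Equiv.refl_apply, Equiv.refl_symm]
    obtain ⟨hl, he⟩ := inv_orbit ⟨i, hi⟩
    have h := presHom_spec q qinj (Subgroup.inclusion hTpres ⟨φ z, hzT⟩) ⟨i, hi⟩
    have h2 := congrArg Fin.val h
    change (φ z (q ⟨i, hi⟩)).val = _ at h2
    rw [hz] at h2
    have h3 : q ⟨getP 8 invCode i, hl⟩ = q (r ⟨φ z, hzT⟩ ⟨i, hi⟩) :=
      Fin.ext (he.symm.trans h2)
    exact (congrArg Fin.val (qinj h3)).symm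
  -- bound for the elements fixing the base point
  let pt : Fin He2058.tab.n := ⟨0, K.pos⟩
  let F : Subgroup Cfsg.Spor.He := Subgroup.centralizer ({z} : Set Cfsg.Spor.He) ⊓ subH
  have hF : Nat.card F ≤ 512 := by
    let ψ : F →* T :=
      { toFun := fun x => ⟨φ x.val, x.val, x.2.2, rfl⟩
        map_one' := Subtype.ext (map_one φ)
        map_mul' := fun a b => Subtype.ext (map_mul φ a.val b.val) }
    refine twin_bound (r.comp ψ) ?_ (fun x => hrrange.le ⟨ψ x, rfl⟩) (r ⟨φ z, hzT⟩) hzc ?_
    · intro x y h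
      exact Subtype.ext (hinj (congrArg Subtype.val (hrinj h)))
    · intro x
      show r (ψ x) * r ⟨φ z, hzT⟩ = r ⟨φ z, hzT⟩ * r (ψ x)
      rw [← map_mul, ← map_mul]
      refine congrArg r (Subtype.ext ?_)
      show φ x.val * φ z = φ z * φ x.val
      rw [← map_mul, ← map_mul, Subgroup.mem_centralizer_singleton_iff.1 x.2.1]
  -- the orbit of the base point lies among the fixed points
  have hC : Nat.card (Subgroup.centralizer ({z} : Set Cfsg.Spor.He)) ≤ 21504 := by
    let Cz := Subgroup.centralizer ({z} : Set Cfsg.Spor.He)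
    have hidx : (subH.subgroupOf Cz).index ≤ 42 := by
      let g : Cz ⧸ subH.subgroupOf Cz → {i // i ∈ fixList} := fun c =>
        ⟨(φ c.out.val pt).val, by
          refine List.contains_iff_mem.mp (fixed_ok (φ c.out.val pt) ?_)
          rw [← hz, ← Equiv.Perm.mul_apply, ← map_mul,
            ← Subgroup.mem_centralizer_singleton_iff.1 c.out.2, map_mul, Equiv.Perm.mul_apply]
          have : φ z pt = pt := Fin.ext (by rw [hz]; show He2058.tab.act 3 0 = 0; decide +kernel)
          rw [this]⟩
      have ginj : Function.Injective g := by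
        intro a b h
        have h1 : φ a.out.val pt = φ b.out.val pt :=
          Fin.ext (congrArg (fun x : {i // i ∈ fixList} => x.val) h)
        rw [← QuotientGroup.out_eq' a, ← QuotientGroup.out_eq' b, QuotientGroup.eq,
          Subgroup.mem_subgroupOf]
        show (a.out.val⁻¹ * b.out.val) ∈ subH
        have hfix : φ (a.out.val⁻¹ * b.out.val) pt = pt := by
          rw [map_mul, map_inv, Equiv.Perm.mul_apply, ← h1, Equiv.Perm.inv_def,
            Equiv.symm_apply_apply]
        have e := Checked.coset_map K M φ hφ (a.out.val⁻¹ * b.out.val) pt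
        rw [hfix, Checked.coset_zero, MulAction.Quotient.smul_mk, QuotientGroup.eq] at e
        simpa using e
      have h1 := Nat.card_le_card_of_injective g ginj
      have h2 : Nat.card {i // i ∈ fixList} ≤ 42 := by
        have e : {i // i ∈ fixList} ≃ {i // i ∈ fixList.toFinset} :=
          Equiv.subtypeEquivRight fun c => by simp
        rw [Nat.card_congr e, Nat.card_eq_fintype_card, Fintype.card_coe]
        exact (List.toFinset_card_le _).trans lengths.2.2.2.2.1.le
      exact h1.trans h2
    have hsmall : Nat.card (subH.subgroupOf Cz) ≤ 512 := by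
      refine le_trans (le_of_eq ?_) hF
      exact Nat.card_congr
        { toFun := fun x => ⟨x.val.val, x.val.2, x.2⟩
          invFun := fun x => ⟨⟨x.val, x.2.1⟩, x.2.2⟩
          left_inv := fun _ => rfl
          right_inv := fun _ => rfl }
    rw [← (subH.subgroupOf Cz).card_mul_index]
    calc _ ≤ 512 * 42 := Nat.mul_le_mul hsmall hidx
      _ = 21504 := by norm_num
  have hcard : Nat.card CP = 21504 := by
    refine le_antisymm ?_ hlow
    rw [← Nat.card_congr eC.toEquiv]
    exact hC
  obtain ⟨e⟩ := nonempty_mulEquiv_genGroup h9 CP pts czPt_inj gs hgs cz_ok hacts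
    (hcard.trans card_cz.symm)
  obtain ⟨e2⟩ := joint_equiv
  obtain ⟨e3⟩ := sl_equiv s hs
  exact ⟨((eC.trans e).trans e2).trans e3.symm⟩

end Cfsg.Agent.S2134
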