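import Cfsg.Statements.S2140
import Mathlib
import Cfsg.Agent.Lib.Elusive.SLMinIndex
import Cfsg.Agent.Lib.LinGroup.Simple

set_option autoImplicit false
open Cfsg

namespace Cfsg.Agent.S2140

/-- Minimal index of a proper subgroup of the linear groups: for n ≥ 3 and a field F with q elements, (n, q) ≠ (4, 2), every proper subgroup of PSL_n(F) has index at least (q^n − 1)/(q − 1), and some subgroup has exactly that index (the stabiliser of a point of the projective space). -/
theorem result {F : Type*} [Field F] [Fintype F] {q : ℕ} (hF : Fintype.card F = q) (n : ℕ) (hn : 3 ≤ n) (hexc : ¬ (n = 4 ∧ q = 2)) : (∀ H : Subgroup (Matrix.ProjectiveSpecialLinearGroup (Fin n) F), H ≠ ⊤ → (q ^ n - 1) / (q - 1) ≤ H.index) ∧ (∃ H : Subgroup (Matrix.ProjectiveSpecialLinearGroup (Fin n) F), H.index = (q ^ n - 1) / (q - 1)) := by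
  classical
  subst hF
  set q := Fintype.card F with hq
  have hq2 : 2 ≤ q := Fintype.one_lt_card
  constructor
  · intro H hH
    let G := Matrix.ProjectiveSpecialLinearGroup (Fin n) F
    haveI : IsSimpleGroup G := Cfsg.Agent.Lib.LinGroup.isSimpleGroup_PSL (by simpa using hn)
    let π : Matrix.SpecialLinearGroup (Fin n) F →* G :=
      QuotientGroup.mk' (Subgroup.center (Matrix.SpecialLinearGroup (Fin n) F))
    let ρ : Matrix.SpecialLinearGroup (Fin n) F →* Equiv.Perm (G ⧸ H) :=
      (MulAction.toPermHom G (G ⧸ H)).comp π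
    haveI : Finite G := Finite.of_surjective π (QuotientGroup.mk'_surjective _)
    haveI : Finite (G ⧸ H) := Finite.of_surjective _ Quotient.mk''_surjective
    have htrans : ∀ a b : G ⧸ H, ∃ g, ρ g a = b := by
      intro a b
      obtain ⟨g, hg⟩ := MulAction.exists_smul_eq G a b
      obtain ⟨g₀, rfl⟩ := QuotientGroup.mk'_surjective _ g
      exact ⟨g₀, hg⟩
    have hmove : ∃ v φ ω, φ ⬝ᵥ v = 0 ∧ ¬ Cfsg.Agent.Lib.Elusive.SLDichotomy.Fx ρ v φ ω := by
      by_contra hall
      push Not at hall
      let i₀ : Fin n := ⟨0, by omega⟩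
      let i₁ : Fin n := ⟨1, by omega⟩
      have h01 : i₀ ≠ i₁ := fun h => by simpa [i₀, i₁] using congrArg Fin.val h
      have hd : (Pi.single i₁ 1 : Fin n → F) ⬝ᵥ Pi.single i₀ 1 = 0 := by
        simp [h01.symm]
      have hmem : π (Cfsg.Agent.Lib.Elusive.SLTrans.T (Pi.single i₀ 1) (Pi.single i₁ 1)) ∈
          H.normalCore := by
        rw [Subgroup.normalCore_eq_ker, MonoidHom.mem_ker]
        exact Equiv.ext fun ω => hall _ _ ω hd
      have hbot : H.normalCore = ⊥ := by
        rcases (inferInstance : H.normalCore.Normal).eq_bot_or_eq_top with h | h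
        · exact h
        · exact absurd (eq_top_iff.2 (h ▸ H.normalCore_le)) hH
      rw [hbot, Subgroup.mem_bot] at hmem
      have hc := (QuotientGroup.eq_one_iff _).1 hmem
      obtain ⟨r, -, hr⟩ := Matrix.SpecialLinearGroup.mem_center_iff.1 hc
      have h1 := congrFun (congrFun hr i₀) i₁
      rw [Cfsg.Agent.Lib.Elusive.SLTrans.coe_T hd] at h1
      simp [Cfsg.Agent.Lib.Elusive.SLTrans.tmat, Matrix.vecMulVec_apply, h01, h01.symm] at h1
    have hb := Cfsg.Agent.Lib.Elusive.SLMinIndex.bound ρ hn hexc htrans hmove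
    rw [← Subgroup.index_eq_card] at hb
    exact Nat.div_le_of_le_mul (by rwa [mul_comm] at hb)
  · haveI : Nonempty (Fin n) := ⟨⟨0, by omega⟩⟩
    let π : Matrix.SpecialLinearGroup (Fin n) F →* Matrix.ProjectiveSpecialLinearGroup (Fin n) F :=
      QuotientGroup.mk' (Subgroup.center (Matrix.SpecialLinearGroup (Fin n) F))
    obtain ⟨p⟩ : Nonempty (Projectivization F (Fin n → F)) := inferInstance
    haveI : MulAction.IsPretransitive (Matrix.SpecialLinearGroup (Fin n) F)
        (Projectivization F (Fin n → F)) :=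
      MulAction.isPretransitive_of_is_two_pretransitive
    refine ⟨(MulAction.stabilizer (Matrix.SpecialLinearGroup (Fin n) F) p).map π, ?_⟩
    have hker : π.ker ≤ MulAction.stabilizer (Matrix.SpecialLinearGroup (Fin n) F) p := by
      rw [QuotientGroup.ker_mk']
      intro g hg
      rw [← Projectivization.SL_mulAction_ker (K := F) (ι := Fin n)] at hg
      exact Equiv.ext_iff.1 (MonoidHom.mem_ker.1 hg) p
    rw [Subgroup.index_map_eq _ (QuotientGroup.mk'_surjective _) hker,
      MulAction.index_stabilizer_of_transitive, Projectivization.card'', Nat.card_fun,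
      Nat.card_eq_fintype_card, Nat.card_eq_fintype_card, Fintype.card_fin]

end Cfsg.Agent.S2140
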