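import Cfsg.Statements.S2153
import Mathlib
import Cfsg.Agent.Lib.MinIndexUnitary.EvenTwo
import Cfsg.Agent.S2150

set_option autoImplicit false
open Cfsg

namespace Cfsg.Agent.S2153

/-- Minimal index of a proper subgroup of the unitary groups PSU_n(2) with n divisible by 6, realised over the field with 4 elements: every proper subgroup has index at least 2^(n−1)(2^n − 1)/3, and that index is attained. -/
theorem result {F : Type*} [Field F] [Fintype F] (hF : Fintype.card F = 4) (n : ℕ) (hn : 6 ∣ n) (hpos : 6 ≤ n) : (∀ H : Subgroup (Cfsg.PSU n F 2), H ≠ ⊤ → 2 ^ (n - 1) * (2 ^ n - 1) / 3 ≤ H.index) ∧ (∃ H : Subgroup (Cfsg.PSU n F 2), H.index = 2 ^ (n - 1) * (2 ^ n - 1) / 3) := by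
  obtain ⟨i, rfl⟩ : ∃ i, n = 2 * i + 2 := ⟨n / 2 - 1, by omega⟩
  have hF' : Fintype.card F = 2 ^ 2 := hF
  have e : 2 ^ (2 * i + 2 - 1) * (2 ^ (2 * i + 2) - 1) / 3 = Cfsg.Agent.Lib.MinIndexUnitary.anisoNum i := by
    rw [show 2 * i + 2 - 1 = 2 * i + 1 by omega, pow_add, pow_add, pow_mul]
    rw [Cfsg.Agent.Lib.MinIndexUnitary.anisoNum, mul_comm ((2 ^ 2) ^ i) (2 ^ 1), mul_comm ((2 ^ 2) ^ i) (2 ^ 2)]
    rfl
  rw [e]
  have h4 : ∀ H : Subgroup (Cfsg.PSU 4 F 2), H ≠ ⊤ → 27 ≤ H.index := fun H hH =>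
    (Cfsg.Agent.S2150.result 2 hF' le_rfl).1 H hH
  exact ⟨fun H hH => Cfsg.Agent.Lib.MinIndexUnitary.psu_two_bound hF' h4 (by omega) hH,
    Cfsg.Agent.Lib.MinIndexUnitary.psu_two_exists hF' h4 (by omega)⟩

end Cfsg.Agent.S2153
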