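import Cfsg.Statements.S2155
import Mathlib
import Cfsg.Agent.Lib.Chev.ParabolicFStar
import Cfsg.Agent.Lib.CharP.Fitting

set_option autoImplicit false
open Cfsg

namespace Cfsg.Agent.S2155

/-- In a Chevalley group of type G₂, B₂, D₄, F₄, E₆, E₇ or E₈ over a finite field of characteristic p (for types G₂ and B₂ the field is assumed to have at least 3 elements, so that the group is simple), the generalized Fitting subgroup of every proper standard parabolic subgroup P_J is a p-group (P_J is p-constrained with trivial largest normal subgroup of order prime to p). -/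
theorem result {F : Type*} [Field F] [Fintype F] (p : ℕ) [Fact p.Prime] [CharP F p] (D : Cfsg.Lie.ChevalleyDatum) (hD : D ∈ [Cfsg.Lie.chevG2, Cfsg.Lie.chevB2, Cfsg.Lie.chevD4, Cfsg.Lie.chevF4, Cfsg.Lie.chevE6, Cfsg.Lie.chevE7, Cfsg.Lie.chevE8]) (hq : (D = Cfsg.Lie.chevG2 ∨ D = Cfsg.Lie.chevB2) → 3 ≤ Fintype.card F) (J : Set ℕ) (hJ : ∃ i, i < D.rank ∧ i ∉ J) : IsPGroup p ↥(Cfsg.generalizedFittingSubgroup ↥(D.parabolicSubgroup F J)) := by
  classical
  haveI : Fact p.Prime := inferInstance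
  obtain ⟨C, hh, hconn⟩ : ∃ C : Cfsg.Agent.Lib.Chev.Cert, Cfsg.Agent.Lib.Chev.Rooted D C ∧
      Cfsg.Agent.Lib.Chev.chkConn D C = true := by
    simp only [List.mem_cons, List.not_mem_nil, or_false] at hD
    rcases hD with rfl | rfl | rfl | rfl | rfl | rfl | rfl
    exacts [⟨_, ⟨Lib.Chev.checked_G2, Lib.Chev.descent_G2⟩, Lib.Chev.conn_G2⟩,
      ⟨_, ⟨Lib.Chev.checked_B2, Lib.Chev.descent_B2⟩, Lib.Chev.conn_B2⟩,
      ⟨_, ⟨Lib.Chev.checked_D4, Lib.Chev.descent_D4⟩, Lib.Chev.conn_D4⟩,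
      ⟨_, ⟨Lib.Chev.checked_F4, Lib.Chev.descent_F4⟩, Lib.Chev.conn_F4⟩,
      ⟨_, ⟨Lib.Chev.checked_E6, Lib.Chev.descent_E6⟩, Lib.Chev.conn_E6⟩,
      ⟨_, ⟨Lib.Chev.checked_E7, Lib.Chev.descent_E7⟩, Lib.Chev.conn_E7⟩,
      ⟨_, ⟨Lib.Chev.checked_E8, Lib.Chev.descent_E8⟩, Lib.Chev.conn_E8⟩]
  set Jf : Finset ℕ := (Finset.range D.rank).filter (fun j => j ∈ J) with hJf
  have hPeq : D.parabolicSubgroup F J = D.parabolicSubgroup F (Jf : Set ℕ) := by
    unfold Cfsg.Lie.ChevalleyDatum.parabolicSubgroup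
    congr 2
    ext g
    constructor
    · rintro ⟨j, hj, hjr, e⟩; exact ⟨j, by simp [hJf, hj, hjr], hjr, e⟩
    · rintro ⟨j, hj, hjr, e⟩; exact ⟨j, by simp [hJf] at hj; exact hj.2, hjr, e⟩
  rw [hPeq]
  have hJs : Jf ⊆ Finset.range D.rank := Finset.filter_subset _ _
  have hne : ∃ i < D.rank, i ∉ Jf := hJ.imp fun i hi => ⟨hi.1, by simp [hJf, hi.2]⟩
  set P := D.parabolicSubgroup F (Jf : Set ℕ) with hP
  set U0 := Cfsg.Agent.Lib.Chev.rootGen D F (Cfsg.Agent.Lib.Chev.outSet D C Jf) with hU0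
  have hUp : IsPGroup p ↥(D.posUnipotent F) := by
    obtain ⟨k, -, hk⟩ := FiniteField.card F p
    exact IsPGroup.of_card (n := (k : ℕ) * (D.nroots / 2)) (by rw [hh.card_posUnipotent, hk, ← pow_mul])
  have hU0le : U0 ≤ D.posUnipotent F := by
    rw [hh.toChecked.posUnipotent_eq]
    exact Cfsg.Agent.Lib.Chev.rootGen_mono fun r hr => hr.1
  have hU0P : U0 ≤ P := hU0le.trans (le_sup_left.trans le_sup_left)
  haveI hQn : (U0.subgroupOf P).Normal := (Subgroup.normal_subgroupOf_iff_le_normalizer hU0P).mpr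
    (hh.parabolic_le_normalizer hJs)
  have hQp : IsPGroup p ↥(U0.subgroupOf P) :=
    (hUp.to_le hU0le).of_equiv (Subgroup.subgroupOfEquivOfLe hU0P).symm
  have hCle : Subgroup.centralizer ((U0.subgroupOf P : Subgroup P) : Set P) ≤
      (D.posUnipotent F).subgroupOf P := by
    intro g hg
    apply hh.centralizer_radical_le_posUnipotent hconn hJs hne
    refine ⟨g.2, Subgroup.mem_centralizer_iff.mpr fun y hy => ?_⟩
    exact congrArg Subtype.val (Subgroup.mem_centralizer_iff.mp hg ⟨y, hU0P hy⟩ hy)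
  have hle1 : U0.subgroupOf P ≤ Cfsg.pCore p ↥P := le_sSup ⟨hQn, hQp⟩
  have hcore : Subgroup.centralizer (Cfsg.pCore p ↥P : Set ↥P) ≤ Cfsg.pCore p ↥P := by
    refine (Subgroup.centralizer_le hle1).trans (le_sSup ⟨inferInstance, ?_⟩)
    exact (hUp.comap_of_injective P.subtype P.subtype_injective).to_le hCle
  rw [Cfsg.Agent.Lib.CharP.generalizedFittingSubgroup_eq_pCore hcore]
  exact Cfsg.Agent.Lib.PSolvable.pCore_isPGroup

end Cfsg.Agent.S2155
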