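import Cfsg.Statements.S2156
import Mathlib
import Cfsg.Agent.Lib.Chev.Aut.Diagram

set_option autoImplicit false
open Cfsg

namespace Cfsg.Agent.S2156

open Cfsg.Agent.Lib.Chev


/-- Over a finite field, every automorphism of the Chevalley group of type G₂, B₂, D₄, F₄, E₆, E₇ or E₈ is the composite of a field automorphism, a graph automorphism, a diagonal automorphism and an inner automorphism: `θ y = x · d(g(f y)) · x⁻¹` for some group element `x`, diagonal `d`, graph `g` and field `f` (each possibly the identity; diagonal here includes conjugation by elements of the diagonal subgroup H). -/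
theorem result {F : Type*} [Field F] [Finite F] (D : Cfsg.Lie.ChevalleyDatum) (hD : D ∈ [Cfsg.Lie.chevG2, Cfsg.Lie.chevB2, Cfsg.Lie.chevD4, Cfsg.Lie.chevF4, Cfsg.Lie.chevE6, Cfsg.Lie.chevE7, Cfsg.Lie.chevE8]) (θ : ↥(D.group F) ≃* ↥(D.group F)) :
    ∃ (x : ↥(D.group F)) (d g f : ↥(D.group F) ≃* ↥(D.group F)),
      D.IsDiagonalAut d ∧ D.IsGraphAut g ∧ D.IsFieldAut f ∧ ∀ y : ↥(D.group F), θ y = x * d (g (f y)) * x⁻¹ := by
  obtain ⟨C, hh, hcl⟩ := Aut.classify (F := F) hD
  obtain ⟨x, c, η, π, σ, e, ha⟩ := Aut.exists_normal_form hh θ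
  obtain ⟨hs, σ₀, he⟩ := hcl ha
  refine ⟨x, Aut.diagAut hh c, η * (Lib.Twisted.fieldAut D σ₀ : MulAut ↥(D.group F))⁻¹,
    Lib.Twisted.fieldAut D σ₀, Aut.isDiagonalAut_diagAut hh c, Aut.isGraphAut_of_acts hh ha hs he,
    Aut.isFieldAut_fieldAut hh σ₀, fun y => ?_⟩
  have e1 : η (y) = (η * (Lib.Twisted.fieldAut D σ₀ : MulAut ↥(D.group F))⁻¹) (Lib.Twisted.fieldAut D σ₀ y) := by
    rw [MulAut.mul_apply, MulAut.inv_def, MulEquiv.symm_apply_apply]
  rw [show θ y = (MulAut.conj x * Aut.diagAut hh c * η) y from DFunLike.congr_fun e y, MulAut.mul_apply,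
    MulAut.mul_apply, MulAut.conj_apply, e1]

end Cfsg.Agent.S2156
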