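import Cfsg.Statements.S2158
import Mathlib
import Cfsg.Agent.Lib.ChevChars.Pred
import Cfsg.Agent.Lib.Chev.Simple

set_option autoImplicit false
open Cfsg

namespace Cfsg.Agent.S2158

/-- In a Chevalley group of type G₂, B₂, D₄, F₄, E₆, E₇ or E₈ over any field, an element of the group whose matrix is the diagonal matrix `ĥ(χ)` of a character `χ` of the root lattice already lies in the diagonal subgroup H (the non-trivial inclusion of the statement that the group meets the group of all such diagonal matrices in H). -/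
theorem result {F : Type*} [Field F] (D : Cfsg.Lie.ChevalleyDatum) (hD : D ∈ [Cfsg.Lie.chevG2, Cfsg.Lie.chevB2, Cfsg.Lie.chevD4, Cfsg.Lie.chevF4, Cfsg.Lie.chevE6, Cfsg.Lie.chevE7, Cfsg.Lie.chevE8]) (χ : ℕ → Fˣ) (hχ : D.IsRootCharacter χ) (g : GL D.Idx F) (hg : g ∈ D.group F)
    (hgχ : (g : Matrix D.Idx D.Idx F) = D.charDiag F χ) : g ∈ D.diagonalSubgroup F := by
  obtain ⟨C, hh, hp⟩ := Lib.ChevChars.exists_pred hD
  have h := hh.toChecked
  have hagree := Lib.ChevChars.character_eq h hp hχ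
  -- `g` acts on every root element by a scalar
  have hconj : ∀ {r : ℕ} (hr : r < D.nroots) (t : F),
      g * Lib.Chev.xGL h F hr t * g⁻¹ = Lib.Chev.xGL h F hr ((χ r : F) * t) := by
    intro r hr t
    rw [mul_inv_eq_iff_eq_mul]
    apply Units.ext
    rw [Units.val_mul, Units.val_mul, Lib.Chev.coe_xGL, Lib.Chev.coe_xGL, hgχ]
    exact h.charDiag_mul_x_of_eq _ hr t hagree
  have hU : ∀ y ∈ D.posUnipotent F, g * y * g⁻¹ ∈ D.posUnipotent F := by
    intro y hy
    rw [h.posUnipotent_eq] at hy ⊢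
    unfold Lib.Chev.rootGen at hy
    induction hy using Subgroup.closure_induction with
    | mem y hy =>
      obtain ⟨r, t, hr, e⟩ := hy
      have : y = Lib.Chev.xGL h F hr.2 t := Units.ext e
      rw [this, hconj hr.2 t]
      exact Lib.Chev.mem_rootGen hr rfl
    | one => simp
    | mul a b _ _ ha hb => simpa [mul_assoc] using mul_mem ha hb
    | inv a _ ha => simpa [mul_assoc] using inv_mem ha
  obtain ⟨L, hL, b, hb, u, hu, hgbu⟩ := hh.exists_canonical hg
  have huP : u ∈ D.posUnipotent F := by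
    rw [h.posUnipotent_eq]; exact Lib.Chev.rootGen_mono (h.invSet_subset L) hu
  -- no positive root is sent to a negative one
  have hnone : ∀ r, D.nroots / 2 ≤ r → r < D.nroots → D.nroots / 2 ≤ Lib.Chev.perm C L r := by
    intro r hle hr
    by_contra hneg
    have hr' := h.perm_lt hL hr
    have hn : Lib.Chev.xGL h F hr' ((Lib.Chev.weta C L r : F) * 1) ∈
        D.borelSubgroup F := by
      have e : Lib.Chev.nProd h F L * Lib.Chev.xGL h F hr 1 =
          Lib.Chev.xGL h F hr' ((Lib.Chev.weta C L r : F) * 1) * Lib.Chev.nProd h F L := by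
        apply Units.ext
        rw [Units.val_mul, Units.val_mul, Lib.Chev.coe_xGL, Lib.Chev.coe_xGL]
        exact h.nProd_mul_x hL hr 1
      have e' : Lib.Chev.xGL h F hr' ((Lib.Chev.weta C L r : F) * 1) =
          b⁻¹ * (g * (u⁻¹ * Lib.Chev.xGL h F hr 1 * u) * g⁻¹) * b := by
        rw [eq_mul_inv_of_mul_eq e.symm, hgbu]
        group
      rw [e']
      have hx : Lib.Chev.xGL h F hr 1 ∈ D.posUnipotent F := h.xGL_mem_pos hr hle 1
      exact mul_mem (mul_mem (inv_mem hb) (Subgroup.mem_sup_left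
        (hU _ (mul_mem (mul_mem (inv_mem huP) hx) huP)))) hb
    have h1 : Lib.Chev.xGL h F hr' ((Lib.Chev.weta C L r : F) * 1) = 1 :=
      Subgroup.mem_bot.1 (hh.borel_inf_negUnipotent.le
        (Subgroup.mem_inf.2 ⟨hn, h.xGL_mem_neg hr' (by omega) _⟩))
    have h2 := congrArg Units.val h1
    rw [Lib.Chev.coe_xGL, Units.val_one, h.x_eq_one_iff hr'] at h2
    rcases Lib.Chev.weta_cases (C := C) L r with w | w <;> simp [w] at h2
  have hn : Lib.Chev.nProd h F L ∈ D.borelSubgroup F :=
    Subgroup.mem_sup_right (hh.nProd_mem_diag_of_pos hL hnone)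
  have hgB : g ∈ D.borelSubgroup F := by
    rw [hgbu]; exact mul_mem (mul_mem hb hn) (Subgroup.mem_sup_left huP)
  obtain ⟨v, hv, t, ht, hvt⟩ := hh.mem_borel_iff.1 hgB
  have hv1 : v = 1 := by
    refine hh.eq_one_of_posUnipotent hv ?_
    rw [hh.diagonalSubgroup_eq] at ht
    obtain ⟨c, hc⟩ := ht
    have : v = g * Lib.Chev.torusHom D F c⁻¹ := by rw [map_inv, hc, hvt, mul_inv_cancel_right]
    rw [this, Units.val_mul, hgχ, Lib.Chev.coe_torusHom, Lib.Chev.charDiag_mul]
    exact Lib.Chev.raises_zero_charDiag _ _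
  rw [hvt, hv1, one_mul]
  exact ht

end Cfsg.Agent.S2158
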