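import Cfsg.Statements.S2159
import Cfsg.Agent.Lib.ChevOut.Structure

set_option autoImplicit false
open Cfsg

namespace Cfsg.Agent.S2159

open Cfsg.Lie Cfsg.Agent.Lib.Chev Cfsg.Agent.Lib.ChevOut

/-- Structure of the outer automorphism group of the Chevalley group `G` of type G₂, B₂, D₄, F₄, E₆, E₇ or E₈ over a finite field. Let `D̄` be the image in `Out(G)` of the subgroup generated by the diagonal automorphisms and `F̄` the image of the subgroup generated by the field automorphisms. Then `D̄` is a normal abelian subgroup of `Out(G)`, `F̄` is cyclic, `D̄F̄` is a normal subgroup, and the quotient of `Out(G)` by `D̄F̄` is trivial, of order 2, or non-abelian of order 6 (so isomorphic to the symmetric group on three letters): its index is 1 or 2, or it is 6 with the commutator subgroup of `Out(G)` not inside `D̄F̄`. -/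
theorem result {F : Type*} [Field F] [Finite F] (D : Cfsg.Lie.ChevalleyDatum) (hD : D ∈ [Cfsg.Lie.chevG2, Cfsg.Lie.chevB2, Cfsg.Lie.chevD4, Cfsg.Lie.chevF4, Cfsg.Lie.chevE6, Cfsg.Lie.chevE7, Cfsg.Lie.chevE8])
    (Dbar Fbar : Subgroup (Cfsg.Out ↥(D.group F)))
    (hDbar : Dbar = (Subgroup.closure {φ : MulAut ↥(D.group F) | D.IsDiagonalAut φ}).map (QuotientGroup.mk' (Cfsg.Inn ↥(D.group F))))
    (hFbar : Fbar = (Subgroup.closure {φ : MulAut ↥(D.group F) | D.IsFieldAut φ}).map (QuotientGroup.mk' (Cfsg.Inn ↥(D.group F)))) :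
    Dbar.Normal ∧ IsMulCommutative ↥Dbar ∧ IsCyclic ↥Fbar ∧ (Dbar ⊔ Fbar).Normal ∧
      ((Dbar ⊔ Fbar).index = 1 ∨ (Dbar ⊔ Fbar).index = 2 ∨
        ((Dbar ⊔ Fbar).index = 6 ∧ ¬ commutator (Cfsg.Out ↥(D.group F)) ≤ Dbar ⊔ Fbar)) := by
  obtain ⟨C, hh, hcl⟩ := Aut.classify (F := F) hD
  have eD : Dbar = (diagOut (F := F) hh).range := by
    rw [hDbar, closure_diag hh hD, MonoidHom.map_range]; rfl
  have eF : Fbar = (fieldOut (F := F) hh).range := by
    rw [hFbar, closure_field hh, MonoidHom.map_range]; rfl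
  subst eD eF
  have hker := outPerm_ker hh hcl
  haveI := ringAut_isCyclic (F := F)
  refine ⟨diagOut_normal hh, ⟨⟨fun a b => ?_⟩⟩,
    isCyclic_of_surjective (fieldOut hh).rangeRestrict (MonoidHom.rangeRestrict_surjective _), ?_, ?_⟩
  · obtain ⟨_, x, rfl⟩ := a
    obtain ⟨_, y, rfl⟩ := b
    exact Subtype.ext (by simp only [Subgroup.coe_mul, ← map_mul, mul_comm x y])
  · rw [← hker]; infer_instance
  · rw [← hker, Subgroup.index_ker]
    by_cases hD4 : D = chevD4
    · subst hD4
      obtain ⟨h1, h2⟩ := index_D4 (F := F) hh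
      rw [Subgroup.index_ker] at h1
      exact Or.inr (Or.inr ⟨h1, h2⟩)
    · have hle : Nat.card ↥(outPerm (F := F) hh).range ≤ 2 := by
        refine (card_range_le hh).trans ?_
        simp only [List.mem_cons, List.not_mem_nil, or_false] at hD
        rcases hD with rfl | rfl | rfl | rfl | rfl | rfl | rfl
        · exact (show (Aut.syms chevG2 2).length ≤ 2 by rw [Aut.syms_G2.1]; simp)
        · exact (show (Aut.syms chevB2 2).length ≤ 2 by rw [Aut.syms_B2.1]; simp)
        · exact absurd rfl hD4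
        · exact (show (Aut.syms chevF4 4).length ≤ 2 by rw [Aut.syms_F4.1]; simp)
        · exact (show (Aut.syms chevE6 6).length ≤ 2 by rw [Aut.syms_E6.1]; simp)
        · exact (show (Aut.syms chevE7 7).length ≤ 2 by rw [Aut.syms_E7.1]; simp)
        · exact (show (Aut.syms chevE8 8).length ≤ 2 by rw [Aut.syms_E8.1]; simp)
      have hpos : 0 < Nat.card ↥(outPerm (F := F) hh).range := Nat.card_pos
      omega

end Cfsg.Agent.S2159
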