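import Cfsg.Statements.S2160
import Mathlib
import Cfsg.Agent.Lib.Chev.Simple

set_option autoImplicit false
open Cfsg

namespace Cfsg.Agent.S2160

/-- In a Chevalley group of type G₂, B₂, D₄, F₄, E₆, E₇ or E₈ over a finite field, every field automorphism commutes with every graph automorphism. -/
theorem result {F : Type*} [Field F] [Finite F] (D : Cfsg.Lie.ChevalleyDatum) (hD : D ∈ [Cfsg.Lie.chevG2, Cfsg.Lie.chevB2, Cfsg.Lie.chevD4, Cfsg.Lie.chevF4, Cfsg.Lie.chevE6, Cfsg.Lie.chevE7, Cfsg.Lie.chevE8]) (f g : ↥(D.group F) ≃* ↥(D.group F))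
    (hf : D.IsFieldAut f) (hg : D.IsGraphAut g) (y : ↥(D.group F)) : f (g y) = g (f y) := by
  obtain ⟨C, hh⟩ := Lib.Chev.exists_rooted hD
  have h := hh.toChecked
  obtain ⟨σ, hσ⟩ := hf
  obtain ⟨π, -, hπ⟩ := hg
  have gmem : ∀ {r : ℕ} (hr : r < D.nroots) (t : F), Lib.Chev.xGL h F hr t ∈ D.group F :=
    fun hr t => Lib.Chev.Checked.xGL_mem_group h hr t
  let S : Subgroup ↥(D.group F) :=
    MonoidHom.eqLocus (f.toMonoidHom.comp g.toMonoidHom) (g.toMonoidHom.comp f.toMonoidHom)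
  let M : Subgroup (GL D.Idx F) := S.map (D.group F).subtype
  have hx : ∀ {r : ℕ} (hr : r < D.nroots) (t : F) (z : ↥(D.group F)),
      ((z : GL D.Idx F) : Matrix D.Idx D.Idx F) = D.x F r t → f z = ⟨_, gmem hr (σ t)⟩ :=
    fun hr t z hz => Subtype.ext (Units.ext (hσ z _ t hr hz))
  have memM : ∀ {r : ℕ} (hr : r < D.nroots) (t : F),
      f (g ⟨_, gmem hr t⟩) = g (f ⟨_, gmem hr t⟩) → Lib.Chev.xGL h F hr t ∈ M :=
    fun hr t e => ⟨⟨_, gmem hr t⟩, e, rfl⟩
  have hneg : ∀ {r : ℕ}, r < D.nroots → D.neg r = Lib.Chev.ng D r := fun hr => h.neg_eq hr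
  -- the fundamental roots and their negatives
  have hbase : ∀ (i : Fin D.rank) (t : F),
      Lib.Chev.xGL h F (h.simple_lt i.2) t ∈ M ∧
      Lib.Chev.xGL h F (Lib.Chev.Checked.ng_lt (h.simple_lt i.2)) t ∈ M := by
    intro i t
    have hj := h.simple_lt (π i).2
    constructor
    · refine memM _ t ?_
      have e1 := (hπ ⟨_, gmem (h.simple_lt i.2) t⟩ i t).1 rfl
      rw [hx hj _ _ e1, hx (h.simple_lt i.2) t ⟨_, gmem (h.simple_lt i.2) t⟩ rfl]
      apply Subtype.ext; apply Units.ext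
      rw [(hπ _ i (σ t)).1 rfl, map_pow]
      rfl
    · refine memM _ t ?_
      have e1 := (hπ ⟨_, gmem (Lib.Chev.Checked.ng_lt (h.simple_lt i.2)) t⟩ i t).2
        (by rw [hneg (h.simple_lt i.2)]; rfl)
      rw [hneg hj] at e1
      rw [hx (Lib.Chev.Checked.ng_lt hj) _ _ e1,
        hx (Lib.Chev.Checked.ng_lt (h.simple_lt i.2)) t ⟨_, gmem _ t⟩ rfl]
      apply Subtype.ext; apply Units.ext
      rw [(hπ _ i (σ t)).2 (by rw [hneg (h.simple_lt i.2)]; rfl), map_pow, hneg hj]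
      rfl
  have hn : ∀ i < D.rank, Lib.Chev.nS h F i ∈ M := by
    intro i hi
    have e : Lib.Chev.nS h F i = Lib.Chev.xGL h F (h.simple_lt hi) 1 *
        Lib.Chev.xGL h F (Lib.Chev.Checked.ng_lt (h.simple_lt hi)) (-(1 : F)⁻¹) *
        Lib.Chev.xGL h F (h.simple_lt hi) 1 := by
      apply Units.ext
      rw [Lib.Chev.coe_nS h hi]
      simp [Cfsg.Lie.ChevalleyDatum.nMat, Cfsg.Lie.ChevalleyDatum.nWord,
        Cfsg.Lie.ChevalleyDatum.wordMat, hneg (h.simple_lt hi), Lib.Chev.coe_xGL, mul_assoc]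
    rw [e]
    exact mul_mem (mul_mem (hbase ⟨i, hi⟩ 1).1 (hbase ⟨i, hi⟩ _).2) (hbase ⟨i, hi⟩ 1).1
  have hall : ∀ r, r < D.nroots → ∀ (hr : r < D.nroots) (t : F), Lib.Chev.xGL h F hr t ∈ M := by
    apply hh.root_induction (P := fun r => ∀ (hr : r < D.nroots) (t : F), Lib.Chev.xGL h F hr t ∈ M)
    · exact fun i hi hr t => (hbase ⟨i, hi⟩ t).1
    · intro i hi r hr ih hr' t
      have e := h.nS_conj_x (F := F) hi hr ((Lib.Chev.eta C i r : F) * t)
      have ee : (Lib.Chev.eta C i r : F) * ((Lib.Chev.eta C i r : F) * t) = t := by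
        rcases Lib.Chev.eta_cases (C := C) i r with w | w <;> simp [w]
      rw [ee] at e
      rw [show Lib.Chev.xGL h F hr' t = Lib.Chev.nS h F i *
        Lib.Chev.xGL h F hr ((Lib.Chev.eta C i r : F) * t) * (Lib.Chev.nS h F i)⁻¹ by
        rw [e, mul_inv_cancel_right]]
      exact mul_mem (mul_mem (hn i hi) (ih hr _)) (inv_mem (hn i hi))
  have hle : D.group F ≤ M := by
    refine (Subgroup.closure_le M).2 ?_
    rintro z ⟨r, t, hz⟩
    have : z = Lib.Chev.xGL h F r.2 t := Units.ext (by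
      rw [hz]; simp [Lib.Chev.coe_xGL, Cfsg.Lie.ChevalleyDatum.x])
    rw [this]
    exact hall r.1 r.2 r.2 t
  obtain ⟨z, hz, e⟩ := hle y.2
  have : z = y := Subtype.ext e
  rw [← this]
  exact hz

end Cfsg.Agent.S2160
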