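import Cfsg.Statements.S2162
import Mathlib
import Cfsg.Agent.Lib.Classical.SquareZero
-- import your own Cfsg.Agent.* helpers here

set_option autoImplicit false
open Cfsg

namespace Cfsg.Agent.S2162

/-- Conjugacy of involutions in the special linear group over a finite field of characteristic two, in dimension at least 3: two elements of order 2 of SL_n(F) are conjugate in SL_n(F) exactly when the matrices a − 1 and b − 1 have the same rank (the rank of a − 1 is the dimension of the commutator space [V, a]). -/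
theorem result {F : Type*} [Field F] [Fintype F] [CharP F 2] {n : ℕ} (hn : 3 ≤ n) (a b : Matrix.SpecialLinearGroup (Fin n) F) (ha : orderOf a = 2) (hb : orderOf b = 2) :
    IsConj a b ↔ ((a : Matrix (Fin n) (Fin n) F) - 1).rank = ((b : Matrix (Fin n) (Fin n) F) - 1).rank := by
  classical
  constructor
  · intro h
    obtain ⟨g, hg⟩ := isConj_iff.mp h
    have hgv : (b : Matrix (Fin n) (Fin n) F) = g * a * (g⁻¹ : Matrix.SpecialLinearGroup (Fin n) F) := by
      rw [← hg]; simp
    have h1 : ((g : Matrix (Fin n) (Fin n) F) * (g⁻¹ : Matrix.SpecialLinearGroup (Fin n) F)) = 1 := by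
      rw [← Matrix.SpecialLinearGroup.coe_mul, mul_inv_cancel, Matrix.SpecialLinearGroup.coe_one]
    rw [hgv, show (g : Matrix (Fin n) (Fin n) F) * a * (g⁻¹ : Matrix.SpecialLinearGroup (Fin n) F) - 1
      = g * ((a : Matrix (Fin n) (Fin n) F) - 1) * (g⁻¹ : Matrix.SpecialLinearGroup (Fin n) F) by
        rw [Matrix.mul_sub, Matrix.sub_mul, Matrix.mul_one, h1],
      Matrix.rank_mul_eq_left_of_det_ne_zero _ _ (by rw [Matrix.SpecialLinearGroup.det_coe]; exact one_ne_zero),
      Matrix.rank_mul_eq_right_of_det_ne_zero _ _ (by rw [Matrix.SpecialLinearGroup.det_coe]; exact one_ne_zero)]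
  · intro hrank
    have hsq : ∀ x : Matrix.SpecialLinearGroup (Fin n) F, orderOf x = 2 →
        ((x : Matrix (Fin n) (Fin n) F) - 1) * ((x : Matrix (Fin n) (Fin n) F) - 1) = 0 := by
      intro x hx
      have h : x * x = 1 := by rw [← pow_two, ← hx, pow_orderOf_eq_one]
      have h' : (x : Matrix (Fin n) (Fin n) F) * x = 1 := congrArg Subtype.val h
      rw [show ((x : Matrix (Fin n) (Fin n) F) - 1) * ((x : Matrix (Fin n) (Fin n) F) - 1)
        = (x * x : Matrix (Fin n) (Fin n) F) - (x + x : Matrix (Fin n) (Fin n) F) + 1 by noncomm_ring, h']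
      ext i j
      simp only [Matrix.add_apply, Matrix.sub_apply, Matrix.zero_apply]
      rw [CharTwo.add_self_eq_zero, sub_zero, CharTwo.add_self_eq_zero]
    set r := ((a : Matrix (Fin n) (Fin n) F) - 1).rank with hr
    have hrpos : r ≠ 0 := by
      intro h0
      have hz : (a : Matrix (Fin n) (Fin n) F) - 1 = 0 := by
        have hbot : LinearMap.range ((a : Matrix (Fin n) (Fin n) F) - 1).mulVecLin = ⊥ :=
          Submodule.finrank_eq_zero.mp h0
        rw [LinearMap.range_eq_bot] at hbot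
        ext i j
        have h := congrFun (LinearMap.congr_fun hbot (Pi.single j 1)) i
        simpa [Matrix.one_apply, Pi.single_apply] using h
      have : a = 1 := Subtype.ext (sub_eq_zero.mp hz)
      rw [this, orderOf_one] at ha
      omega
    obtain ⟨k, hk, -⟩ := Cfsg.Agent.Lib.SquareZero.exists_adapted_family _ (hsq a ha) hr.symm
    let e : Cfsg.Agent.Lib.SquareZero.SqIdx r (n - 2 * r) ≃ Fin n :=
      Fintype.equivFinOfCardEq (by simp; omega)
    obtain ⟨P, hP, hPa⟩ := Cfsg.Agent.Lib.SquareZero.exists_normalForm _ (hsq a ha) hr.symm e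
    obtain ⟨Q, hQ, hQb⟩ := Cfsg.Agent.Lib.SquareZero.exists_normalForm _ (hsq b hb) hrank.symm e
    rw [Matrix.isUnit_iff_isUnit_det] at hP hQ
    obtain ⟨c, hc⟩ := (PerfectRing.bijective_frobenius (R := F) (p := 2)).surjective (P.det / Q.det)
    have hc' : c ^ 2 = P.det / Q.det := hc
    obtain ⟨D, hDc, hDd⟩ := Cfsg.Agent.Lib.SquareZero.exists_centralizer_det r hrpos e c
    have hdet : (Q * D * P⁻¹).det = 1 := by
      rw [Matrix.det_mul, Matrix.det_mul, Matrix.det_nonsing_inv, Ring.inverse_eq_inv', hDd, hc']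
      field_simp [hP.ne_zero, hQ.ne_zero]
    obtain ⟨g, hg⟩ : ∃ g : Matrix.SpecialLinearGroup (Fin n) F, (g : Matrix (Fin n) (Fin n) F) = Q * D * P⁻¹ :=
      ⟨⟨_, hdet⟩, rfl⟩
    refine isConj_iff.mpr ⟨g, ?_⟩
    rw [mul_inv_eq_iff_eq_mul]
    apply Subtype.ext
    rw [Matrix.SpecialLinearGroup.coe_mul, Matrix.SpecialLinearGroup.coe_mul, hg]
    set E := (Cfsg.Agent.Lib.SquareZero.model F r (n - 2 * r)).submatrix e.symm e.symm with hE
    have h1 : P⁻¹ * ((a : Matrix (Fin n) (Fin n) F) - 1) = E * P⁻¹ := by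
      calc P⁻¹ * ((a : Matrix (Fin n) (Fin n) F) - 1)
          = P⁻¹ * (((a : Matrix (Fin n) (Fin n) F) - 1) * P) * P⁻¹ := by
            rw [Matrix.mul_assoc, Matrix.mul_assoc, Matrix.mul_nonsing_inv _ hP, Matrix.mul_one]
        _ = E * P⁻¹ := by rw [hPa, ← Matrix.mul_assoc P⁻¹, Matrix.nonsing_inv_mul _ hP, Matrix.one_mul]
    have h2 : Q * D * (P⁻¹ * ((a : Matrix (Fin n) (Fin n) F) - 1))
        = ((b : Matrix (Fin n) (Fin n) F) - 1) * (Q * D * P⁻¹) := by
      rw [h1, ← Matrix.mul_assoc, Matrix.mul_assoc Q D E, hDc, ← Matrix.mul_assoc Q E D, ← hQb]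
      simp only [Matrix.mul_assoc]
    simp only [Matrix.mul_sub, Matrix.sub_mul, Matrix.mul_one, Matrix.one_mul, ← Matrix.mul_assoc] at h2 ⊢
    exact sub_left_injective h2

end Cfsg.Agent.S2162
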