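import Cfsg.Statements.S2163
import Mathlib
-- import your own Cfsg.Agent.* helpers here

set_option autoImplicit false
open Cfsg

namespace Cfsg.Agent.S2163

/-- Over a finite field of characteristic two and for n ≥ 3: for every ℓ with 1 ≤ ℓ and 2ℓ ≤ n, the matrix j_ℓ that is the identity plus the entries 1 in positions (n − ℓ + i, i) for i < ℓ (an identity block of size ℓ in the lower left corner) lies in SL_n(F), has order 2, and j_ℓ − 1 has rank ℓ. Together with the conjugacy criterion by rank, these matrices represent the conjugacy classes of involutions of SL_n(F). -/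
theorem result {F : Type*} [Field F] [Fintype F] [CharP F 2] {n : ℕ} (hn : 3 ≤ n) (ℓ : ℕ) (h1 : 1 ≤ ℓ) (h2 : 2 * ℓ ≤ n) :
    ∃ a : Matrix.SpecialLinearGroup (Fin n) F, (a : Matrix (Fin n) (Fin n) F) = 1 + Matrix.of (fun i j : Fin n => if j.val < ℓ ∧ i.val = j.val + (n - ℓ) then (1 : F) else 0) ∧ orderOf a = 2 ∧ ((a : Matrix (Fin n) (Fin n) F) - 1).rank = ℓ := by
  classical
  set N : Matrix (Fin n) (Fin n) F :=
    Matrix.of (fun i j : Fin n => if j.val < ℓ ∧ i.val = j.val + (n - ℓ) then (1 : F) else 0) with hN
  have hNN : N * N = 0 := by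
    ext i j
    simp only [Matrix.mul_apply, hN, Matrix.of_apply, Matrix.zero_apply]
    refine Finset.sum_eq_zero fun k _ => ?_
    by_cases h1' : k.val < ℓ ∧ i.val = k.val + (n - ℓ)
    · rw [if_neg (show ¬ (j.val < ℓ ∧ k.val = j.val + (n - ℓ)) by omega), mul_zero]
    · rw [if_neg h1', zero_mul]
  have hdet : (1 + N).det = 1 := by
    rw [Matrix.det_of_isLowerTriangular]
    · refine Finset.prod_eq_one fun i _ => ?_
      simp only [Matrix.add_apply, Matrix.one_apply_eq, hN, Matrix.of_apply]
      rw [if_neg (by omega), add_zero]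
    · intro i j hij
      simp only [OrderDual.toDual_lt_toDual] at hij
      have hij' : i.val < j.val := hij
      simp only [Matrix.add_apply, hN, Matrix.of_apply]
      rw [Matrix.one_apply_ne (ne_of_lt hij), if_neg (by omega), add_zero]
  let rr : Fin ℓ → Fin n := fun k => ⟨k.val + (n - ℓ), by omega⟩
  let cc : Fin ℓ → Fin n := fun k => ⟨k.val, by omega⟩
  have hfac : N = (1 : Matrix (Fin n) (Fin n) F).submatrix id rr * (1 : Matrix (Fin n) (Fin n) F).submatrix cc id := by
    ext i j
    simp only [Matrix.mul_apply, Matrix.submatrix_apply, id_eq, Matrix.one_apply, hN, Matrix.of_apply, rr, cc, Fin.ext_iff]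
    by_cases h : j.val < ℓ ∧ i.val = j.val + (n - ℓ)
    · rw [if_pos h, Finset.sum_eq_single (⟨j.val, h.1⟩ : Fin ℓ)]
      · simp [h.2]
      · intro b _ hb
        rw [if_neg (show ¬ b.val = j.val from fun e => hb (Fin.ext e)), mul_zero]
      · simp
    · rw [if_neg h, Finset.sum_eq_zero]
      intro b _
      by_cases hb : b.val = j.val
      · rw [if_neg (show ¬ i.val = b.val + (n - ℓ) by omega), zero_mul]
      · rw [if_neg hb, mul_zero]
  have hsub : N.submatrix rr cc = 1 := by
    ext a b
    simp only [Matrix.submatrix_apply, hN, Matrix.of_apply, rr, cc, Matrix.one_apply, Fin.ext_iff]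
    by_cases hab : a.val = b.val
    · rw [if_pos (by omega), if_pos hab]
    · rw [if_neg (by omega), if_neg hab]
  have hrank : N.rank = ℓ := by
    apply le_antisymm
    · rw [hfac]
      exact (Matrix.rank_mul_le_left _ _).trans ((Matrix.rank_le_card_width _).trans_eq (Fintype.card_fin ℓ))
    · have := Matrix.rank_submatrix_le N rr cc
      rwa [hsub, Matrix.rank_one, Fintype.card_fin] at this
  refine ⟨⟨1 + N, hdet⟩, rfl, ?_, ?_⟩
  · refine orderOf_eq_prime ?_ ?_
    · apply Subtype.ext
      show (1 + N) ^ 2 = 1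
      have h2 : N + N = 0 := by ext i j; exact CharTwo.add_self_eq_zero _
      rw [show (1 + N) ^ 2 = 1 + (N + N) + N * N by noncomm_ring, hNN, h2, add_zero, add_zero]
    · intro h
      have h' : (1 + N) = 1 := congrArg Subtype.val h
      have : N = 0 := by simpa using h'
      rw [this, Matrix.rank_zero] at hrank
      omega
  · show ((1 + N) - 1).rank = ℓ
    rw [add_sub_cancel_left, hrank]

end Cfsg.Agent.S2163
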