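import Cfsg.Statements.S2164
import Cfsg.Agent.Lib.UnitaryInvTwo.Conj

set_option autoImplicit false
open Cfsg

namespace Cfsg.Agent.S2164

/-- Conjugacy of involutions in the special unitary group SU_n(q), q even, n ≥ 3, realised over the field F with q² elements as the matrices of determinant 1 preserving the form Σ u_i v_i^q: for two elements of order 2 of SU_n(q) the following are equivalent — they are conjugate in SU_n(q); they are conjugate in SL_n(F); the matrices a − 1 and b − 1 have the same rank. -/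
theorem result {F : Type*} [Field F] [Fintype F] [CharP F 2] {n q : ℕ} (hF : Fintype.card F = q ^ 2) (hn : 3 ≤ n) (a b : ↥(Cfsg.SU n F q)) (ha : orderOf a = 2) (hb : orderOf b = 2) :
    (IsConj a b ↔ IsConj (a : Matrix.SpecialLinearGroup (Fin n) F) (b : Matrix.SpecialLinearGroup (Fin n) F)) ∧
    (IsConj a b ↔ (((a : Matrix.SpecialLinearGroup (Fin n) F) : Matrix (Fin n) (Fin n) F) - 1).rank = (((b : Matrix.SpecialLinearGroup (Fin n) F) : Matrix (Fin n) (Fin n) F) - 1).rank) := by
  classical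
  have hrank : IsConj (a : Matrix.SpecialLinearGroup (Fin n) F) (b : Matrix.SpecialLinearGroup (Fin n) F) →
      (((a : Matrix.SpecialLinearGroup (Fin n) F) : Matrix (Fin n) (Fin n) F) - 1).rank =
        (((b : Matrix.SpecialLinearGroup (Fin n) F) : Matrix (Fin n) (Fin n) F) - 1).rank := by
    intro h
    obtain ⟨c, hc⟩ := isConj_iff.1 h
    have hcc : ((c : Matrix.SpecialLinearGroup (Fin n) F) : Matrix (Fin n) (Fin n) F) *
        ((c⁻¹ : Matrix.SpecialLinearGroup (Fin n) F) : Matrix (Fin n) (Fin n) F) = 1 := by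
      rw [← Matrix.SpecialLinearGroup.coe_mul, mul_inv_cancel, Matrix.SpecialLinearGroup.coe_one]
    have e : ((b : Matrix.SpecialLinearGroup (Fin n) F) : Matrix (Fin n) (Fin n) F) - 1 =
        (c : Matrix (Fin n) (Fin n) F) *
          (((a : Matrix.SpecialLinearGroup (Fin n) F) : Matrix (Fin n) (Fin n) F) - 1) *
          ((c⁻¹ : Matrix.SpecialLinearGroup (Fin n) F) : Matrix (Fin n) (Fin n) F) := by
      rw [Matrix.mul_sub, Matrix.mul_one, Matrix.sub_mul, hcc, ← hc,
        Matrix.SpecialLinearGroup.coe_mul, Matrix.SpecialLinearGroup.coe_mul]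
    have hu : IsUnit (c : Matrix (Fin n) (Fin n) F).det := by rw [c.2]; exact isUnit_one
    have hu' : IsUnit ((c⁻¹ : Matrix.SpecialLinearGroup (Fin n) F) : Matrix (Fin n) (Fin n) F).det := by
      rw [(c⁻¹).2]; exact isUnit_one
    rw [e, Matrix.rank_mul_eq_left_of_isUnit_det _ _ hu', Matrix.rank_mul_eq_right_of_isUnit_det _ _ hu]
  have hback : (((a : Matrix.SpecialLinearGroup (Fin n) F) : Matrix (Fin n) (Fin n) F) - 1).rank =
      (((b : Matrix.SpecialLinearGroup (Fin n) F) : Matrix (Fin n) (Fin n) F) - 1).rank → IsConj a b := by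
    intro hr
    have sq : ∀ g : ↥(Cfsg.SU n F q), orderOf g = 2 →
        ((g : Matrix.SpecialLinearGroup (Fin n) F) : Matrix (Fin n) (Fin n) F) *
          ((g : Matrix.SpecialLinearGroup (Fin n) F) : Matrix (Fin n) (Fin n) F) = 1 := by
      intro g hg
      have h : g * g = 1 := by rw [← pow_two, ← hg]; exact pow_orderOf_eq_one g
      exact congrArg (fun x : ↥(Cfsg.SU n F q) =>
        ((x : Matrix.SpecialLinearGroup (Fin n) F) : Matrix (Fin n) (Fin n) F)) h
    have pres : ∀ g : ↥(Cfsg.SU n F q), Cfsg.Agent.Lib.UnitaryInvTwo.ct (Cfsg.Agent.Lib.Forms.qPowHom hF)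
        ((g : Matrix.SpecialLinearGroup (Fin n) F) : Matrix (Fin n) (Fin n) F) *
        ((g : Matrix.SpecialLinearGroup (Fin n) F) : Matrix (Fin n) (Fin n) F) = 1 := fun g =>
      (Cfsg.Agent.Lib.UnitaryInvTwo.preserves_iff hF _).1 g.2
    have hne : ((a : Matrix.SpecialLinearGroup (Fin n) F) : Matrix (Fin n) (Fin n) F) ≠ 1 := fun h => by
      have h1 : a = 1 := Subtype.ext (Subtype.ext h)
      rw [h1, orderOf_one] at ha
      omega
    obtain ⟨C, hC, hCd, hCab⟩ := Cfsg.Agent.Lib.UnitaryInvTwo.exists_conj hF (pres a) (pres b)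
      (sq a ha) (sq b hb) hne hr
    let c : ↥(Cfsg.SU n F q) := ⟨⟨C, hCd⟩, (Cfsg.Agent.Lib.UnitaryInvTwo.preserves_iff hF C).2 hC⟩
    exact isConj_iff.2 ⟨c, mul_inv_eq_iff_eq_mul.2 (Subtype.ext (Subtype.ext hCab))⟩
  exact ⟨⟨fun h => (Cfsg.SU n F q).subtype.map_isConj h, fun h => hback (hrank h)⟩,
    ⟨fun h => hrank ((Cfsg.SU n F q).subtype.map_isConj h), hback⟩⟩

end Cfsg.Agent.S2164
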