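import Cfsg.Statements.S2165
import Mathlib
-- import your own Cfsg.Agent.* helpers here

set_option autoImplicit false
open Cfsg

namespace Cfsg.Agent.S2165

/-- In SU_n(q), q even, n ≥ 3 (matrices of determinant 1 over the field with q² elements preserving Σ u_i v_i^q): for every ℓ with 1 ≤ ℓ and 2ℓ ≤ n, the permutation matrix of the involution of {0, …, n−1} exchanging i and n − ℓ + i for each i < ℓ lies in SU_n(q), has order 2, and differs from the identity by a matrix of rank ℓ. So every rank between 1 and n/2 occurs for involutions of SU_n(q). -/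
theorem result {F : Type*} [Field F] [Fintype F] [CharP F 2] {n q : ℕ} (hF : Fintype.card F = q ^ 2) (hn : 3 ≤ n) (ℓ : ℕ) (h1 : 1 ≤ ℓ) (h2 : 2 * ℓ ≤ n) :
    ∃ a : ↥(Cfsg.SU n F q), (((a : Matrix.SpecialLinearGroup (Fin n) F) : Matrix (Fin n) (Fin n) F) = Matrix.of (fun i j : Fin n => if (j.val < ℓ ∧ i.val = j.val + (n - ℓ)) ∨ (i.val < ℓ ∧ j.val = i.val + (n - ℓ)) ∨ (i = j ∧ ℓ ≤ i.val ∧ i.val < n - ℓ) then (1 : F) else 0)) ∧ orderOf a = 2 ∧ ((((a : Matrix.SpecialLinearGroup (Fin n) F) : Matrix (Fin n) (Fin n) F)) - 1).rank = ℓ := by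
  classical
  let σf : Fin n → Fin n := fun i =>
    if h : i.val < ℓ then ⟨i.val + (n - ℓ), by omega⟩
    else if h' : n - ℓ ≤ i.val then ⟨i.val - (n - ℓ), by omega⟩ else i
  have hσv : ∀ i, (σf i).val = if i.val < ℓ then i.val + (n - ℓ)
      else if n - ℓ ≤ i.val then i.val - (n - ℓ) else i.val := by
    intro i; simp only [σf]; split_ifs <;> rfl
  have hinv : Function.Involutive σf := by
    intro i
    apply Fin.ext
    rw [hσv, hσv]
    have := i.isLt
    split_ifs <;> omega
  let σ : Equiv.Perm (Fin n) := hinv.toPerm σf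
  have hP : Matrix.of (fun i j : Fin n => if (j.val < ℓ ∧ i.val = j.val + (n - ℓ)) ∨ (i.val < ℓ ∧ j.val = i.val + (n - ℓ)) ∨ (i = j ∧ ℓ ≤ i.val ∧ i.val < n - ℓ) then (1 : F) else 0) = σ.permMatrix F := by
    ext i j
    simp only [Matrix.of_apply, Equiv.Perm.permMatrix, PEquiv.toMatrix_apply, Equiv.toPEquiv_apply,
      Option.mem_some_iff]
    show _ = if σf i = j then (1 : F) else 0
    refine if_congr ?_ rfl rfl
    simp only [Fin.ext_iff, hσv]
    have := i.isLt
    have := j.isLt
    split_ifs <;> omega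
  have hdet : (σ.permMatrix F).det = 1 := by
    rw [Matrix.det_permutation]
    rcases Int.units_eq_one_or (Equiv.Perm.sign σ) with h | h <;> simp [h, CharTwo.neg_eq]
  have hmv : ∀ v : Fin n → F, (σ.permMatrix F).mulVec v = v ∘ σ := fun v => Matrix.permMatrix_mulVec σ
  have hmem : (⟨σ.permMatrix F, hdet⟩ : Matrix.SpecialLinearGroup (Fin n) F) ∈ Cfsg.SU n F q := by
    intro u v
    show Cfsg.hermForm n F q ((σ.permMatrix F).mulVec u) ((σ.permMatrix F).mulVec v) = _
    rw [hmv, hmv]
    exact Equiv.sum_comp σ (fun i => u i * v i ^ q)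
  set M := σ.permMatrix F - 1 with hM
  have hMe : ∀ i j, M i j = (if σf i = j then (1 : F) else 0) + (if i = j then 1 else 0) := by
    intro i j
    simp only [hM, Matrix.sub_apply, Matrix.one_apply, CharTwo.sub_eq_add, Equiv.Perm.permMatrix,
      PEquiv.toMatrix_apply, Equiv.toPEquiv_apply, Option.mem_some_iff]
    rfl
  let rr : Fin ℓ → Fin n := fun k => ⟨k.val, by omega⟩
  let cc : Fin ℓ → Fin n := fun k => ⟨k.val + (n - ℓ), by omega⟩
  let C : Matrix (Fin n) (Fin ℓ) F := Matrix.of fun i k => if i = rr k ∨ i = cc k then 1 else 0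
  have hfac : M = C * C.transpose := by
    ext i j
    rw [hMe, Matrix.mul_apply]
    simp only [C, Matrix.transpose_apply, Matrix.of_apply, rr, cc, Fin.ext_iff, hσv]
    have := i.isLt
    have := j.isLt
    by_cases hm : ℓ ≤ i.val ∧ i.val < n - ℓ
    · rw [if_neg (show ¬ i.val < ℓ by omega), if_neg (show ¬ n - ℓ ≤ i.val by omega),
        CharTwo.add_self_eq_zero, Finset.sum_eq_zero]
      intro k _
      rw [if_neg (by omega), zero_mul]
    · let k₀ : Fin ℓ := if h : i.val < ℓ then ⟨i.val, h⟩ else ⟨i.val - (n - ℓ), by omega⟩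
      have hk : i.val = k₀.val ∨ i.val = k₀.val + (n - ℓ) := by
        simp only [k₀]; split_ifs <;> simp <;> omega
      rw [Finset.sum_eq_single k₀]
      · rw [if_pos hk, one_mul]
        have hb := k₀.isLt
        split_ifs <;> first | (exfalso; omega) | simp
      · intro b _ hb
        have hb' : b.val ≠ k₀.val := fun e => hb (Fin.ext e)
        have := b.isLt
        have := k₀.isLt
        rw [if_neg (by omega), zero_mul]
      · simp
  have hsub : M.submatrix rr cc = 1 := by
    ext a b
    rw [Matrix.submatrix_apply, hMe]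
    simp only [Matrix.one_apply, rr, cc, Fin.ext_iff, hσv]
    have := a.isLt
    have := b.isLt
    split_ifs <;> first | (exfalso; omega) | simp
  have hrank : M.rank = ℓ := by
    apply le_antisymm
    · rw [hfac]
      exact (Matrix.rank_mul_le_left _ _).trans ((Matrix.rank_le_card_width _).trans_eq (Fintype.card_fin ℓ))
    · have := Matrix.rank_submatrix_le M rr cc
      rwa [hsub, Matrix.rank_one, Fintype.card_fin] at this
  refine ⟨⟨⟨σ.permMatrix F, hdet⟩, hmem⟩, hP.symm, ?_, hrank⟩
  refine orderOf_eq_prime ?_ ?_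
  · apply Subtype.ext; apply Subtype.ext
    show σ.permMatrix F ^ 2 = 1
    rw [pow_two, ← Matrix.permMatrix_mul, show σ * σ = 1 from Equiv.ext fun x => hinv x, Matrix.permMatrix_one]
  · intro h
    have h' : σ.permMatrix F = 1 := congrArg (fun x => (x.1).1) h
    rw [hM, h', sub_self, Matrix.rank_zero] at hrank
    omega

end Cfsg.Agent.S2165
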