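import Cfsg.Statements.S2166
import Cfsg.Agent.Lib.InvolutionTwo.SympSetting

set_option autoImplicit false
open Cfsg

namespace Cfsg.Agent.S2166

/-- Conjugacy of involutions in the symplectic group Sp_{2m}(F), F a finite field of characteristic two, m ≥ 2 (Sp taken as the matrices A with A J Aᵀ = J, acting on column vectors, with the alternating form f(u, v) = u ⬝ (J v)). For an involution t write V(t) for the set of vectors v with f(v, t v) = 0 (a subspace). Two involutions a, b are conjugate in Sp_{2m}(F) exactly when a − 1 and b − 1 have the same rank and, in case that rank is even, V(a) and V(b) have the same number of elements. -/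
theorem result {F : Type*} [Field F] [Fintype F] [CharP F 2] {m : ℕ} (hm : 2 ≤ m) (a b : ↥(Matrix.symplecticGroup (Fin m) F)) (ha : orderOf a = 2) (hb : orderOf b = 2) :
    IsConj a b ↔ ((((a : ↥(Matrix.symplecticGroup (Fin m) F)) : Matrix (Fin m ⊕ Fin m) (Fin m ⊕ Fin m) F) - 1).rank = (((b : ↥(Matrix.symplecticGroup (Fin m) F)) : Matrix (Fin m ⊕ Fin m) (Fin m ⊕ Fin m) F) - 1).rank ∧
      (Even (((a : ↥(Matrix.symplecticGroup (Fin m) F)) : Matrix (Fin m ⊕ Fin m) (Fin m ⊕ Fin m) F) - 1).rank → Nat.card {v : Fin m ⊕ Fin m → F // Cfsg.sympForm m F v (Matrix.mulVec ((a : ↥(Matrix.symplecticGroup (Fin m) F)) : Matrix (Fin m ⊕ Fin m) (Fin m ⊕ Fin m) F) v) = 0} = Nat.card {v : Fin m ⊕ Fin m → F // Cfsg.sympForm m F v (Matrix.mulVec ((b : ↥(Matrix.symplecticGroup (Fin m) F)) : Matrix (Fin m ⊕ Fin m) (Fin m ⊕ Fin m) F) v) = 0})) := by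
  classical
  haveI : PerfectRing F 2 := PerfectRing.ofFiniteOfIsReduced 2 F
  open Cfsg.Agent.Lib.InvolutionTwo Cfsg.Agent.Lib.Forms in
  exact by
    have hA : (sympBilin m F).IsAlt := sympBilin_isAlt
    have hB := sympBilin_nondegenerate (F := F) m
    constructor
    · intro h
      obtain ⟨c, hc⟩ := isConj_iff.1 h
      have hinv := (sympSetting m).invariant_conj c a
      rw [hc] at hinv
      refine ⟨by rw [← invariant_fst, ← invariant_fst, hinv], fun _ => ?_⟩
      refine Nat.card_congr (Equiv.subtypeEquiv (spAct m c).toEquiv fun v => ?_)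
      show _ ↔ Cfsg.sympForm m F (spAct m c v) (spAct m b (spAct m c v)) = 0
      have e : spAct m b (spAct m c v) = spAct m c (spAct m a v) := by
        rw [← LinearEquiv.mul_apply, ← LinearEquiv.mul_apply, ← map_mul, ← map_mul, ← hc,
          inv_mul_cancel_right]
      rw [e, ← sympBilin_apply, ← sympBilin_apply]
      exact iff_of_eq (congrArg (· = 0) ((sympSetting m).preserves c v (spAct m a v)).symm)
    · rintro ⟨hr, hV⟩
      refine (sympSetting m).isConj_of_invariant hA hB ha hb ?_
      obtain ⟨s, ε, _, -, he, -, -, -, hi⟩ := (sympSetting m).exists_standard hA hB a ha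
      obtain ⟨s', ε', _, -, he', -, -, -, hi'⟩ := (sympSetting m).exists_standard hA hB b hb
      have h1 : ((sympSetting m).invariant a).1 = ((sympSetting m).invariant b).1 := by
        rw [invariant_fst, invariant_fst, hr]
      refine Prod.ext h1 ?_
      rcases Nat.even_or_odd ((a : Matrix (Fin m ⊕ Fin m) (Fin m ⊕ Fin m) F) - 1).rank with hev | hodd
      · show @decide _ (Classical.dec _) = @decide _ (Classical.dec _)
        rw [decide_eq_decide]
        exact ⟨invariant_snd_iff m a b (hV hev), invariant_snd_iff m b a (hV hev).symm⟩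
      · rw [hi, hi']
        rw [hi, hi'] at h1
        have hs : Odd s := by
          rw [← invariant_fst, hi] at hodd
          exact hodd
        have hs' : Odd s' := by
          have h1' : s = s' := h1
          rwa [← h1']
        have hε : ε = false := by
          cases ε with
          | false => rfl
          | true => exact absurd (he rfl) (Nat.not_even_iff_odd.2 hs)
        have hε' : ε' = false := by
          cases ε' with
          | false => rfl
          | true => exact absurd (he' rfl) (Nat.not_even_iff_odd.2 hs')
        show ε = ε'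
        rw [hε, hε']

end Cfsg.Agent.S2166
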