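import Cfsg.Statements.S2167
import Mathlib
import Cfsg.Agent.Lib.Classical.AlternatingRank
-- import your own Cfsg.Agent.* helpers here

set_option autoImplicit false
open Cfsg

namespace Cfsg.Agent.S2167

/-- For an involution t of the symplectic group Sp_{2m}(F), m ≥ 2, F a finite field of characteristic two (matrices A with A J Aᵀ = J acting on column vectors, alternating form f(u, v) = u ⬝ (J v)): the set V(t) of vectors v with f(v, t v) = 0 has either q^{2m} or q^{2m−1} elements, q the order of F (it is a subspace of codimension at most 1), and if it is the whole space then t − 1 has even rank. -/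
theorem result {F : Type*} [Field F] [Fintype F] [CharP F 2] {m : ℕ} (hm : 2 ≤ m) (a : ↥(Matrix.symplecticGroup (Fin m) F)) (ha : orderOf a = 2) :
    (Nat.card {v : Fin m ⊕ Fin m → F // Cfsg.sympForm m F v (Matrix.mulVec ((a : ↥(Matrix.symplecticGroup (Fin m) F)) : Matrix (Fin m ⊕ Fin m) (Fin m ⊕ Fin m) F) v) = 0} = Fintype.card F ^ (2 * m) ∨ Nat.card {v : Fin m ⊕ Fin m → F // Cfsg.sympForm m F v (Matrix.mulVec ((a : ↥(Matrix.symplecticGroup (Fin m) F)) : Matrix (Fin m ⊕ Fin m) (Fin m ⊕ Fin m) F) v) = 0} * Fintype.card F = Fintype.card F ^ (2 * m)) ∧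
    ((∀ v : Fin m ⊕ Fin m → F, Cfsg.sympForm m F v (Matrix.mulVec ((a : ↥(Matrix.symplecticGroup (Fin m) F)) : Matrix (Fin m ⊕ Fin m) (Fin m ⊕ Fin m) F) v) = 0) → Even (((a : ↥(Matrix.symplecticGroup (Fin m) F)) : Matrix (Fin m ⊕ Fin m) (Fin m ⊕ Fin m) F) - 1).rank) := by
  classical
  set A : Matrix (Fin m ⊕ Fin m) (Fin m ⊕ Fin m) F := (a : Matrix (Fin m ⊕ Fin m) (Fin m ⊕ Fin m) F) with hAdef
  have hA2 : A * A = 1 := by
    have h : a ^ 2 = 1 := by rw [← ha]; exact pow_orderOf_eq_one a
    have := congrArg Subtype.val h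
    rwa [pow_two] at this
  have hAJ : A.transpose * Matrix.J (Fin m) F * A = Matrix.J (Fin m) F :=
    SymplecticGroup.mem_iff'.mp a.2
  have hf : ∀ u v, Cfsg.sympForm m F (A.mulVec u) (A.mulVec v) = Cfsg.sympForm m F u v := by
    intro u v
    conv_rhs => rw [Cfsg.sympForm, ← hAJ]
    rw [Cfsg.sympForm, Matrix.mul_assoc, ← Matrix.mulVec_mulVec v A.transpose,
      Matrix.dotProduct_mulVec u A.transpose, Matrix.vecMul_transpose, ← Matrix.mulVec_mulVec]
  have hsymm : ∀ u v, Cfsg.sympForm m F u v = Cfsg.sympForm m F v u := by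
    intro u v
    rw [Cfsg.sympForm, Cfsg.sympForm, Matrix.dotProduct_mulVec, ← Matrix.mulVec_transpose,
      Matrix.J_transpose, Matrix.neg_mulVec, neg_dotProduct, dotProduct_comm, CharTwo.neg_eq]
  have hswap : ∀ u v, Cfsg.sympForm m F u (A.mulVec v) = Cfsg.sympForm m F v (A.mulVec u) := by
    intro u v
    rw [← hf u (A.mulVec v), Matrix.mulVec_mulVec, hA2, Matrix.one_mulVec, hsymm]
  let g : (Fin m ⊕ Fin m → F) →+ F :=
    { toFun := fun v => Cfsg.sympForm m F v (A.mulVec v)
      map_zero' := by simp [Cfsg.sympForm]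
      map_add' := by
        intro u v
        have := hswap u v
        simp only [Cfsg.sympForm] at this
        simp only [Cfsg.sympForm, Matrix.mulVec_add, add_dotProduct, dotProduct_add, this]
        linear_combination (CharTwo.add_self_eq_zero (v ⬝ᵥ (Matrix.J (Fin m) F).mulVec (A.mulVec u))) }
  have hg : ∀ v, g v = Cfsg.sympForm m F v (A.mulVec v) := fun _ => rfl
  have hcardV : Nat.card (Fin m ⊕ Fin m → F) = Fintype.card F ^ (2 * m) := by
    simp [Nat.card_eq_fintype_card, two_mul]
  constructor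
  · by_cases hg0 : ∀ v, g v = 0
    · left
      rw [← hcardV]
      exact Nat.card_congr (Equiv.subtypeUnivEquiv (fun v => (hg v).symm.trans (hg0 v)))
    · right
      obtain ⟨v₀, hv₀⟩ := not_forall.mp hg0
      have hsurj : Function.Surjective g := by
        intro c
        obtain ⟨s, hs⟩ := (PerfectRing.bijective_frobenius (R := F) (p := 2)).surjective (c / g v₀)
        refine ⟨s • v₀, ?_⟩
        have hs' : s ^ 2 = c / g v₀ := hs
        have : g (s • v₀) = s ^ 2 * g v₀ := by
          rw [hg, hg]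
          simp only [Cfsg.sympForm, Matrix.mulVec_smul, smul_dotProduct, dotProduct_smul, smul_eq_mul]
          ring
        rw [this, hs', div_mul_cancel₀ _ hv₀]
      rw [← hcardV, AddSubgroup.card_eq_card_quotient_mul_card_addSubgroup g.ker,
        Nat.card_congr (QuotientAddGroup.quotientKerEquivOfSurjective g hsurj).toEquiv,
        Nat.card_eq_fintype_card (α := F), mul_comm]
      exact congrArg (Fintype.card F * ·) (Nat.card_congr (Equiv.refl _))
  · intro h
    have halt : ∀ v, v ⬝ᵥ (Matrix.J (Fin m) F * (A - 1)).mulVec v = 0 := by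
      intro v
      have hvv : Cfsg.sympForm m F v v = 0 := by
        simp only [Cfsg.sympForm, Matrix.J, Matrix.fromBlocks_mulVec, dotProduct, Fintype.sum_sum_type,
          Sum.elim_inl, Sum.elim_inr, Matrix.zero_mulVec, Matrix.neg_mulVec, Matrix.one_mulVec,
          Pi.add_apply, Pi.zero_apply, Pi.neg_apply, Function.comp_apply, add_zero, zero_add]
        rw [← Finset.sum_add_distrib]
        exact Finset.sum_eq_zero fun i _ => by ring
      have hv := h v
      simp only [Cfsg.sympForm] at hv hvv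
      rw [← Matrix.mulVec_mulVec, Matrix.sub_mulVec, Matrix.one_mulVec, Matrix.mulVec_sub, dotProduct_sub, hv, hvv, sub_zero]
    have := Cfsg.Agent.Lib.AlternatingRank.even_rank_of_alt _ halt
    rwa [Matrix.rank_mul_eq_right_of_isUnit_det _ _ (Matrix.isUnit_det_J _ _)] at this

end Cfsg.Agent.S2167
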