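import Cfsg.Statements.S2168
import Cfsg.Agent.Lib.InvolutionTwo.Omega

set_option autoImplicit false
open Cfsg

namespace Cfsg.Agent.S2168

/-- Involutions in the full isometry group O of the hyperbolic quadratic form Σ x_i y_i in dimension 2m over a finite field F of characteristic two, m ≥ 4 (plus type): two elements of order 2 of O are conjugate in O exactly when they are conjugate under the group of all invertible matrices preserving the polar bilinear form (u, v) ↦ Q(u + v) − Q(u) − Q(v) (the symplectic group of that form). -/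
theorem result {F : Type*} [Field F] [Fintype F] [CharP F 2] {m : ℕ} (hm : 4 ≤ m) (t s : ↥(Cfsg.isometryGroup F (Cfsg.quadFormPlus m F))) (ht : orderOf t = 2) (hs : orderOf s = 2) :
    IsConj t s ↔ ∃ g ∈ Cfsg.preserving (Units.coeHom (Matrix (Fin m ⊕ Fin m) (Fin m ⊕ Fin m) F)) (fun u v => Cfsg.quadFormPlus m F (u + v) - Cfsg.quadFormPlus m F u - Cfsg.quadFormPlus m F v), g * ((t : ↥(Cfsg.isometryGroup F (Cfsg.quadFormPlus m F))) : GL (Fin m ⊕ Fin m) F) * g⁻¹ = ((s : ↥(Cfsg.isometryGroup F (Cfsg.quadFormPlus m F))) : GL (Fin m ⊕ Fin m) F) := by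
  haveI : PerfectRing F 2 := PerfectRing.ofFiniteOfIsReduced 2 F
  revert t s
  rw [← Cfsg.Agent.Lib.StdForms.coe_plusQ]
  intro t s ht hs
  let Q := Cfsg.Agent.Lib.StdForms.plusQ F m
  have hQ : (QuadraticMap.polarBilin Q).Nondegenerate :=
    Cfsg.Agent.Lib.StdForms.plusQ_nondegenerate m
  let S := Cfsg.Agent.Lib.InvolutionTwo.orthSetting Q hQ
  constructor
  · intro h
    obtain ⟨a, ha⟩ := isConj_iff.1 h
    refine ⟨(a : GL (Fin m ⊕ Fin m) F), fun u v => ?_, ?_⟩
    · exact S.preserves a u v
    · rw [← ha]
      rfl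
  · rintro ⟨g, hg, hgts⟩
    refine S.isConj_of_invariant (Cfsg.Agent.Lib.InvolutionTwo.isAlt_polar Q) hQ ht hs ?_
    let e := Cfsg.Agent.Lib.Classical.glEquiv (F := F) _ g
    have hB : ∀ u v, QuadraticMap.polarBilin Q (e u) (e v) = QuadraticMap.polarBilin Q u v :=
      fun u v => hg u v
    have hact : ∀ x, S.act s (e x) = e (S.act t x) := fun x => by
      show (((s : GL (Fin m ⊕ Fin m) F)) :
            Matrix (Fin m ⊕ Fin m) (Fin m ⊕ Fin m) F).mulVec
          ((g : Matrix (Fin m ⊕ Fin m) (Fin m ⊕ Fin m) F).mulVec x)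
        = (g : Matrix (Fin m ⊕ Fin m) (Fin m ⊕ Fin m) F).mulVec
          (((t : GL (Fin m ⊕ Fin m) F) :
            Matrix (Fin m ⊕ Fin m) (Fin m ⊕ Fin m) F).mulVec x)
      rw [Matrix.mulVec_mulVec, Matrix.mulVec_mulVec, ← hgts, Units.val_mul, Units.val_mul,
        Units.inv_mul_cancel_right]
    refine Prod.ext ?_ ?_
    · show Module.finrank F (LinearMap.range _) = Module.finrank F (LinearMap.range _)
      have he : ((S.act s).toLinearMap + LinearMap.id).comp e.toLinearMap
          = e.toLinearMap.comp ((S.act t).toLinearMap + LinearMap.id) :=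
        LinearMap.ext fun x => by simp [hact]
      have h2 := congrArg LinearMap.range he
      rw [LinearMap.range_comp_of_range_eq_top _ e.range, LinearMap.range_comp] at h2
      rw [h2]
      exact (Submodule.equivMapOfInjective _ e.injective _).finrank_eq
    · show @decide _ (Classical.dec _) = @decide _ (Classical.dec _)
      rw [decide_eq_decide]
      constructor
      · intro h x
        obtain ⟨y, rfl⟩ := e.surjective x
        rw [hact, hB]
        exact h y
      · intro h x
        have := h (e x)
        rwa [hact, hB] at this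

end Cfsg.Agent.S2168
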