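import Cfsg.Statements.S2170
import Cfsg.Agent.Lib.InvolutionTwo.Omega
-- import your own Cfsg.Agent.* helpers here

set_option autoImplicit false
open Cfsg

namespace Cfsg.Agent.S2170

/-- Involutions in the full isometry group O of the quadratic form Σ x_i y_i + (z₁² + c z₁ z₂ + d z₂²) in dimension 2m with anisotropic binary part over a finite field F of characteristic two, m ≥ 4 (minus type): two elements of order 2 of O are conjugate in O exactly when they are conjugate under the group of all invertible matrices preserving the polar bilinear form (u, v) ↦ Q(u + v) − Q(u) − Q(v) (the symplectic group of that form). -/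
theorem result {F : Type*} [Field F] [Fintype F] [CharP F 2] {m : ℕ} (hm : 4 ≤ m) (c d : F) (hcd : ∀ z₁ z₂ : F, z₁ ^ 2 + c * z₁ * z₂ + d * z₂ ^ 2 = 0 → z₁ = 0 ∧ z₂ = 0) (t s : ↥(Cfsg.isometryGroup F (Cfsg.quadFormMinus (m - 1) F c d))) (ht : orderOf t = 2) (hs : orderOf s = 2) :
    IsConj t s ↔ ∃ g ∈ Cfsg.preserving (Units.coeHom (Matrix ((Fin (m - 1) ⊕ Fin (m - 1)) ⊕ Fin 2) ((Fin (m - 1) ⊕ Fin (m - 1)) ⊕ Fin 2) F)) (fun u v => Cfsg.quadFormMinus (m - 1) F c d (u + v) - Cfsg.quadFormMinus (m - 1) F c d u - Cfsg.quadFormMinus (m - 1) F c d v), g * ((t : ↥(Cfsg.isometryGroup F (Cfsg.quadFormMinus (m - 1) F c d))) : GL ((Fin (m - 1) ⊕ Fin (m - 1)) ⊕ Fin 2) F) * g⁻¹ = ((s : ↥(Cfsg.isometryGroup F (Cfsg.quadFormMinus (m - 1) F c d))) : GL ((Fin (m - 1) ⊕ Fin (m - 1)) ⊕ Fin 2) F) := by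
  haveI : PerfectRing F 2 := PerfectRing.ofFiniteOfIsReduced 2 F
  revert t s
  rw [← Cfsg.Agent.Lib.StdForms.coe_minusQ]
  intro t s ht hs
  let Q := Cfsg.Agent.Lib.StdForms.minusQ F (m - 1) c d
  have hQ : (QuadraticMap.polarBilin Q).Nondegenerate :=
    Cfsg.Agent.Lib.StdForms.minusQ_nondegenerate hcd (m - 1)
  let S := Cfsg.Agent.Lib.InvolutionTwo.orthSetting Q hQ
  constructor
  · intro h
    obtain ⟨a, ha⟩ := isConj_iff.1 h
    refine ⟨(a : GL ((Fin (m - 1) ⊕ Fin (m - 1)) ⊕ Fin 2) F), fun u v => ?_, ?_⟩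
    · exact S.preserves a u v
    · rw [← ha]
      rfl
  · rintro ⟨g, hg, hgts⟩
    refine S.isConj_of_invariant (Cfsg.Agent.Lib.InvolutionTwo.isAlt_polar Q) hQ ht hs ?_
    let e := Cfsg.Agent.Lib.Classical.glEquiv (F := F) _ g
    have hB : ∀ u v, QuadraticMap.polarBilin Q (e u) (e v) = QuadraticMap.polarBilin Q u v :=
      fun u v => hg u v
    have hact : ∀ x, S.act s (e x) = e (S.act t x) := fun x => by
      show (((s : GL ((Fin (m - 1) ⊕ Fin (m - 1)) ⊕ Fin 2) F)) :
            Matrix ((Fin (m - 1) ⊕ Fin (m - 1)) ⊕ Fin 2) ((Fin (m - 1) ⊕ Fin (m - 1)) ⊕ Fin 2) F).mulVec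
          ((g : Matrix ((Fin (m - 1) ⊕ Fin (m - 1)) ⊕ Fin 2) ((Fin (m - 1) ⊕ Fin (m - 1)) ⊕ Fin 2) F).mulVec x)
        = (g : Matrix ((Fin (m - 1) ⊕ Fin (m - 1)) ⊕ Fin 2) ((Fin (m - 1) ⊕ Fin (m - 1)) ⊕ Fin 2) F).mulVec
          (((t : GL ((Fin (m - 1) ⊕ Fin (m - 1)) ⊕ Fin 2) F) :
            Matrix ((Fin (m - 1) ⊕ Fin (m - 1)) ⊕ Fin 2) ((Fin (m - 1) ⊕ Fin (m - 1)) ⊕ Fin 2) F).mulVec x)
      rw [Matrix.mulVec_mulVec, Matrix.mulVec_mulVec, ← hgts, Units.val_mul, Units.val_mul,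
        Units.inv_mul_cancel_right]
    refine Prod.ext ?_ ?_
    · show Module.finrank F (LinearMap.range _) = Module.finrank F (LinearMap.range _)
      have he : ((S.act s).toLinearMap + LinearMap.id).comp e.toLinearMap
          = e.toLinearMap.comp ((S.act t).toLinearMap + LinearMap.id) :=
        LinearMap.ext fun x => by simp [hact]
      have h2 := congrArg LinearMap.range he
      rw [LinearMap.range_comp_of_range_eq_top _ e.range, LinearMap.range_comp] at h2
      rw [h2]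
      exact (Submodule.equivMapOfInjective _ e.injective _).finrank_eq
    · show @decide _ (Classical.dec _) = @decide _ (Classical.dec _)
      rw [decide_eq_decide]
      constructor
      · intro h x
        obtain ⟨y, rfl⟩ := e.surjective x
        rw [hact, hB]
        exact h y
      · intro h x
        have := h (e x)
        rwa [hact, hB] at this

end Cfsg.Agent.S2170
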