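import Cfsg.Agent.Lib.InvolutionSplit.Basic
import Cfsg.Statements.S2173

set_option autoImplicit false
open Cfsg

namespace Cfsg.Agent.S2173

/-- For the quadratic form Σ x_i y_i + (z₁² + c z₁ z₂ + d z₂²) in dimension 2m with anisotropic binary part over a finite field F of characteristic two, m ≥ 4 (minus type): two involutions of the commutator subgroup Ω that are conjugate in the full isometry group O are conjugate by an element of Ω (no class of involutions of O inside Ω splits). -/
theorem result {F : Type*} [Field F] [Fintype F] [CharP F 2] {m : ℕ} (hm : 4 ≤ m) (c d : F) (hcd : ∀ z₁ z₂ : F, z₁ ^ 2 + c * z₁ * z₂ + d * z₂ ^ 2 = 0 → z₁ = 0 ∧ z₂ = 0) (t s : ↥(Cfsg.isometryGroup F (Cfsg.quadFormMinus (m - 1) F c d))) (ht : orderOf t = 2) (hs : orderOf s = 2) (htO : t ∈ Cfsg.Omega F (Cfsg.quadFormMinus (m - 1) F c d)) (hsO : s ∈ Cfsg.Omega F (Cfsg.quadFormMinus (m - 1) F c d)) (hconj : IsConj t s) :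
    ∃ g ∈ Cfsg.Omega F (Cfsg.quadFormMinus (m - 1) F c d), g * t * g⁻¹ = s := by
  refine Cfsg.Agent.Lib.InvolutionSplit.no_split_fun (Cfsg.Agent.Lib.StdForms.coe_minusQ F (m - 1) c d)
    (Cfsg.Agent.Lib.StdForms.minusQ_nondegenerate hcd (m - 1)) (Or.inr (by simp; omega)) ?_ t s ht hconj
  intro W hW
  have := Cfsg.Agent.Lib.StdForms.minus_singular_dim_le c d hcd
    (W.subtype.comp (Module.finBasis F W).equivFun.symm.toLinearMap)
    (W.injective_subtype.comp (Module.finBasis F W).equivFun.symm.injective) (fun x => hW _ (Subtype.coe_prop _))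
  simp
  omega

end Cfsg.Agent.S2173
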