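import Cfsg.Statements.S2174
import Cfsg.Agent.Lib.InvF4.Data

set_option autoImplicit false
open Cfsg

namespace Cfsg.Agent.S2174


set_option maxRecDepth 100000

/-- Conjugacy classes of involutions in the Chevalley group of type F₄ over a finite field F of characteristic two (the matrix group generated by the root elements x_r(t)). In this problem's root numbering for type F₄ (the Chevalley data module; fundamental roots p₁, p₂ short and p₃, p₄ long; roots indexed by their coefficient vectors in increasing order) let r = 47 be the highest root (2,4,3,2), s = 44 the highest short root (2,3,2,1), and α = 39 = (1,2,2,1), β = 45 = (2,4,2,1), an orthogonal short/long pair; consider the four elements x_r(1), x_s(1), x_r(1)x_s(1), x_α(1)x_β(1). Then: each invertible matrix equal to one of these four products lies in the group and has order 2; every element of order 2 of the group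 is conjugate in the group to one of them; and no two of them are conjugate in the group (so, the four matrices being distinct, the group has exactly four conjugacy classes of involutions). -/
theorem result {F : Type*} [Field F] [Fintype F] [CharP F 2] :
    (∀ y : GL Cfsg.Lie.chevF4.Idx F, ((y : GL Cfsg.Lie.chevF4.Idx F) : Matrix Cfsg.Lie.chevF4.Idx Cfsg.Lie.chevF4.Idx F) ∈ [Cfsg.Lie.chevF4.x F 47 1, Cfsg.Lie.chevF4.x F 44 1, Cfsg.Lie.chevF4.x F 47 1 * Cfsg.Lie.chevF4.x F 44 1, Cfsg.Lie.chevF4.x F 39 1 * Cfsg.Lie.chevF4.x F 45 1] → y ∈ Cfsg.Lie.chevF4.group F ∧ orderOf y = 2) ∧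
    (∀ g ∈ Cfsg.Lie.chevF4.group F, orderOf g = 2 → ∃ y ∈ Cfsg.Lie.chevF4.group F, ((y : GL Cfsg.Lie.chevF4.Idx F) : Matrix Cfsg.Lie.chevF4.Idx Cfsg.Lie.chevF4.Idx F) ∈ [Cfsg.Lie.chevF4.x F 47 1, Cfsg.Lie.chevF4.x F 44 1, Cfsg.Lie.chevF4.x F 47 1 * Cfsg.Lie.chevF4.x F 44 1, Cfsg.Lie.chevF4.x F 39 1 * Cfsg.Lie.chevF4.x F 45 1] ∧ ∃ h ∈ Cfsg.Lie.chevF4.group F, h * g * h⁻¹ = y) ∧
    (∀ y₁ ∈ Cfsg.Lie.chevF4.group F, ∀ y₂ ∈ Cfsg.Lie.chevF4.group F, ((y₁ : GL Cfsg.Lie.chevF4.Idx F) : Matrix Cfsg.Lie.chevF4.Idx Cfsg.Lie.chevF4.Idx F) ∈ [Cfsg.Lie.chevF4.x F 47 1, Cfsg.Lie.chevF4.x F 44 1, Cfsg.Lie.chevF4.x F 47 1 * Cfsg.Lie.chevF4.x F 44 1, Cfsg.Lie.chevF4.x F 39 1 * Cfsg.Lie.chevF4.x F 45 1] → ((y₂ : GL Cfsg.Lie.chevF4.Idx F) : Matrix Cfsg.Lie.chevF4.Idx Cfsg.Lie.chevF4.Idx F) ∈ [Cfsg.Lie.chevF4.x F 47 1, Cfsg.Lie.chevF4.x F 44 1, Cfsg.Lie.chevF4.x F 47 1 * Cfsg.Lie.chevF4.x F 44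 1, Cfsg.Lie.chevF4.x F 39 1 * Cfsg.Lie.chevF4.x F 45 1] →
      (∃ h ∈ Cfsg.Lie.chevF4.group F, h * y₁ * h⁻¹ = y₂) → ((y₁ : GL Cfsg.Lie.chevF4.Idx F) : Matrix Cfsg.Lie.chevF4.Idx Cfsg.Lie.chevF4.Idx F) = ((y₂ : GL Cfsg.Lie.chevF4.Idx F) : Matrix Cfsg.Lie.chevF4.Idx Cfsg.Lie.chevF4.Idx F)) := by
  classical
  open Cfsg.Lie Cfsg.Agent.Lib.Chev Cfsg.Agent.Lib.ChevCent Cfsg.Agent.Lib.InvF4 Cfsg.Agent.Lib.InvF4.F4 Cfsg.Agent.Lib.InvE66 in
  have hl := doubly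
  open Cfsg.Lie Cfsg.Agent.Lib.Chev Cfsg.Agent.Lib.ChevCent Cfsg.Agent.Lib.InvF4 Cfsg.Agent.Lib.InvF4.F4 Cfsg.Agent.Lib.InvE66 in
  let P : ℕ → GL chevF4.Idx F := fun k => prodX hl.toRooted.toChecked F (tab.reps.getD k [])
  open Cfsg.Lie Cfsg.Agent.Lib.Chev Cfsg.Agent.Lib.ChevCent Cfsg.Agent.Lib.InvF4 Cfsg.Agent.Lib.InvF4.F4 Cfsg.Agent.Lib.InvE66 in
  let rI : GL chevF4.Idx F → ℕ × ℕ := fun y => (((y : Matrix chevF4.Idx chevF4.Idx F) - 1).rank,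
    (((y : Matrix chevF4.Idx chevF4.Idx F) - 1) * maskMat chevF4 F shortMask).rank)
  open Cfsg.Lie Cfsg.Agent.Lib.Chev Cfsg.Agent.Lib.ChevCent Cfsg.Agent.Lib.InvF4 Cfsg.Agent.Lib.InvF4.F4 Cfsg.Agent.Lib.InvE66 in
  have a1 : P 1 ∈ chevF4.group F ∧ orderOf (P 1) = 2 ∧ rI (P 1) = (16, 6) := by
    have hflat := hl.rep_flat reps_ok 1
    refine ⟨hl.prodX_mem fun r hr => ((Doubly.chkFlat_spec hflat).1 r hr).2,
      orderOf_prodX hl.toRooted.toChecked rk1_ok (by rw [rk1_len]; norm_num) (hl.prodX_sq hflat), ?_⟩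
    exact Prod.ext ((rank_eq hl.toRooted.toChecked rk1_ok).trans rk1_len)
      ((rank_mask_eq hl.toRooted.toChecked mk1_ok).trans mk1_len)
  open Cfsg.Lie Cfsg.Agent.Lib.Chev Cfsg.Agent.Lib.ChevCent Cfsg.Agent.Lib.InvF4 Cfsg.Agent.Lib.InvF4.F4 Cfsg.Agent.Lib.InvE66 in
  have a2 : P 2 ∈ chevF4.group F ∧ orderOf (P 2) = 2 ∧ rI (P 2) = (16, 10) := by
    have hflat := hl.rep_flat reps_ok 2
    refine ⟨hl.prodX_mem fun r hr => ((Doubly.chkFlat_spec hflat).1 r hr).2,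
      orderOf_prodX hl.toRooted.toChecked rk2_ok (by rw [rk2_len]; norm_num) (hl.prodX_sq hflat), ?_⟩
    exact Prod.ext ((rank_eq hl.toRooted.toChecked rk2_ok).trans rk2_len)
      ((rank_mask_eq hl.toRooted.toChecked mk2_ok).trans mk2_len)
  open Cfsg.Lie Cfsg.Agent.Lib.Chev Cfsg.Agent.Lib.ChevCent Cfsg.Agent.Lib.InvF4 Cfsg.Agent.Lib.InvF4.F4 Cfsg.Agent.Lib.InvE66 in
  have a3 : P 3 ∈ chevF4.group F ∧ orderOf (P 3) = 2 ∧ rI (P 3) = (21, 10) := by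
    have hflat := hl.rep_flat reps_ok 3
    refine ⟨hl.prodX_mem fun r hr => ((Doubly.chkFlat_spec hflat).1 r hr).2,
      orderOf_prodX hl.toRooted.toChecked rk3_ok (by rw [rk3_len]; norm_num) (hl.prodX_sq hflat), ?_⟩
    exact Prod.ext ((rank_eq hl.toRooted.toChecked rk3_ok).trans rk3_len)
      ((rank_mask_eq hl.toRooted.toChecked mk3_ok).trans mk3_len)
  open Cfsg.Lie Cfsg.Agent.Lib.Chev Cfsg.Agent.Lib.ChevCent Cfsg.Agent.Lib.InvF4 Cfsg.Agent.Lib.InvF4.F4 Cfsg.Agent.Lib.InvE66 in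
  have a4 : P 4 ∈ chevF4.group F ∧ orderOf (P 4) = 2 ∧ rI (P 4) = (24, 12) := by
    have hflat := hl.rep_flat reps_ok 4
    refine ⟨hl.prodX_mem fun r hr => ((Doubly.chkFlat_spec hflat).1 r hr).2,
      orderOf_prodX hl.toRooted.toChecked rk4_ok (by rw [rk4_len]; norm_num) (hl.prodX_sq hflat), ?_⟩
    exact Prod.ext ((rank_eq hl.toRooted.toChecked rk4_ok).trans rk4_len)
      ((rank_mask_eq hl.toRooted.toChecked mk4_ok).trans mk4_len)
  open Cfsg.Lie Cfsg.Agent.Lib.Chev Cfsg.Agent.Lib.ChevCent Cfsg.Agent.Lib.InvF4 Cfsg.Agent.Lib.InvF4.F4 Cfsg.Agent.Lib.InvE66 in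
  have c1 : (P 1 : Matrix chevF4.Idx chevF4.Idx F) = chevF4.x F 47 1 := by
    show ((prodX hl.toRooted.toChecked F [47] : GL chevF4.Idx F) : Matrix chevF4.Idx chevF4.Idx F) = _
    simp [prodX, word, coe_xg]
  open Cfsg.Lie Cfsg.Agent.Lib.Chev Cfsg.Agent.Lib.ChevCent Cfsg.Agent.Lib.InvF4 Cfsg.Agent.Lib.InvF4.F4 Cfsg.Agent.Lib.InvE66 in
  have c2 : (P 2 : Matrix chevF4.Idx chevF4.Idx F) = chevF4.x F 44 1 := by
    show ((prodX hl.toRooted.toChecked F [44] : GL chevF4.Idx F) : Matrix chevF4.Idx chevF4.Idx F) = _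
    simp [prodX, word, coe_xg]
  open Cfsg.Lie Cfsg.Agent.Lib.Chev Cfsg.Agent.Lib.ChevCent Cfsg.Agent.Lib.InvF4 Cfsg.Agent.Lib.InvF4.F4 Cfsg.Agent.Lib.InvE66 in
  have c3 : (P 3 : Matrix chevF4.Idx chevF4.Idx F) = chevF4.x F 47 1 * chevF4.x F 44 1 := by
    show ((prodX hl.toRooted.toChecked F [47, 44] : GL chevF4.Idx F) : Matrix chevF4.Idx chevF4.Idx F) = _
    simp [prodX, word, coe_xg]
  open Cfsg.Lie Cfsg.Agent.Lib.Chev Cfsg.Agent.Lib.ChevCent Cfsg.Agent.Lib.InvF4 Cfsg.Agent.Lib.InvF4.F4 Cfsg.Agent.Lib.InvE66 in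
  have c4 : (P 4 : Matrix chevF4.Idx chevF4.Idx F) = chevF4.x F 39 1 * chevF4.x F 45 1 := by
    show ((prodX hl.toRooted.toChecked F [39, 45] : GL chevF4.Idx F) : Matrix chevF4.Idx chevF4.Idx F) = _
    simp [prodX, word, coe_xg]
  open Cfsg.Lie Cfsg.Agent.Lib.Chev Cfsg.Agent.Lib.ChevCent Cfsg.Agent.Lib.InvF4 Cfsg.Agent.Lib.InvF4.F4 Cfsg.Agent.Lib.InvE66 in
  have key : ∀ y : GL chevF4.Idx F, (y : Matrix chevF4.Idx chevF4.Idx F) ∈
      [chevF4.x F 47 1,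
        chevF4.x F 44 1,
        chevF4.x F 47 1 * chevF4.x F 44 1,
        chevF4.x F 39 1 * chevF4.x F 45 1] →
      ∃ k, 1 ≤ k ∧ k < 5 ∧ y = P k := by
    intro y hy
    simp only [List.mem_cons, List.not_mem_nil, or_false] at hy
    rcases hy with e | e | e | e
    · exact ⟨1, by norm_num, by norm_num, Units.ext (e.trans c1.symm)⟩
    · exact ⟨2, by norm_num, by norm_num, Units.ext (e.trans c2.symm)⟩
    · exact ⟨3, by norm_num, by norm_num, Units.ext (e.trans c3.symm)⟩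
    · exact ⟨4, by norm_num, by norm_num, Units.ext (e.trans c4.symm)⟩
  refine ⟨fun y hy => ?_, fun g hg hord => ?_, fun y₁ _ y₂ _ h₁ h₂ ⟨x, hx, e⟩ => ?_⟩
  · obtain ⟨k, hk1, hk4, rfl⟩ := key y hy
    interval_cases k
    exacts [⟨a1.1, a1.2.1⟩, ⟨a2.1, a2.2.1⟩, ⟨a3.1, a3.2.1⟩, ⟨a4.1, a4.2.1⟩]
  · open Cfsg.Agent.Lib.InvF4.F4 in
    obtain ⟨k, hk1, hk, z, hz, e⟩ := hl.exists_nontrivial_rep reps_ok rows_ok reds_ok rfl hg hord
    change k < 5 at hk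
    interval_cases k
    · exact ⟨_, a1.1, by
        refine List.mem_cons.2 (Or.inl ?_)
        exact c1, z, hz, e⟩
    · exact ⟨_, a2.1, by
        refine List.mem_cons.2 (Or.inr (List.mem_cons.2 (Or.inl ?_)))
        exact c2, z, hz, e⟩
    · exact ⟨_, a3.1, by
        refine List.mem_cons.2 (Or.inr (List.mem_cons.2 (Or.inr (List.mem_cons.2 (Or.inl ?_)))))
        exact c3, z, hz, e⟩
    · exact ⟨_, a4.1, by
        refine List.mem_cons.2 (Or.inr (List.mem_cons.2 (Or.inr (List.mem_cons.2 (Or.inr (List.mem_cons.2 (Or.inl ?_)))))))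
        exact c4, z, hz, e⟩
  · obtain ⟨k, hk1, hk4, ey1⟩ := key y₁ h₁
    obtain ⟨l, hl1, hl4, ey2⟩ := key y₂ h₂
    have r1 := Cfsg.Agent.Lib.InvE66.rank_sub_one_conj x y₁
    have r2 := hl.rank_mask_conj Cfsg.Agent.Lib.InvF4.F4.stable_ok hx y₁
    rw [e] at r1 r2
    have hr : rI y₂ = rI y₁ := Prod.ext r1 r2
    rw [ey1, ey2] at hr
    have : k = l := by
      interval_cases k <;> interval_cases l <;>
        simp only [a1.2.2, a2.2.2, a3.2.2, a4.2.2, Prod.mk.injEq] at hr ⊢ <;> omega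
    subst this
    rw [ey1, ey2]

end Cfsg.Agent.S2174
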