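import Cfsg.Statements.S2176
import Cfsg.Agent.Lib.InvE66.Final
import Cfsg.Agent.Lib.InvE66.E8Ranks

set_option autoImplicit false
open Cfsg

namespace Cfsg.Agent.S2176


set_option maxRecDepth 100000

open Cfsg.Lie Cfsg.Agent.Lib.Chev Cfsg.Agent.Lib.InvE66 in
theorem laced : Laced chevE8 Cfsg.Agent.Lib.Chev.E8.cert :=
  { toRooted := ⟨checked_E8, descent_E8⟩, laced_ok := by decide +kernel }


/-- Conjugacy classes of involutions in the Chevalley group of type E₈ over a finite field F of characteristic two (the matrix group generated by the root elements x_r(t)). In this problem's root numbering for type E₈ (the Chevalley data module; fundamental roots numbered so that p₁–p₃–p₄–p₅–p₆–p₇–p₈ is the long chain of the diagram and p₂ is joined to p₄; roots indexed by their coefficient vectors in increasing order) let r = 239 be the highest root (2,3,4,6,5,4,3,2), α = 232 = (2,2,4,5,4,3,2,1),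 β = 233 = (2,3,3,5,4,3,2,1), γ = 228 = (2,2,3,4,3,2,2,1), δ = 222 = (1,2,3,4,3,3,2,1), ε = 218 = (1,2,2,4,4,3,2,1), φ = 226 = (2,2,3,4,3,2,1,0), ψ = 220 = (1,2,3,4,3,2,1,1), θ = 213 = (1,2,2,3,3,3,2,1), ω = 216 = (1,2,2,4,3,2,2,1) (the roots within each of {α, β}, {γ, δ, ε}, {φ, ψ, θ, ω} pairwise orthogonal); consider x_r(1), x_α(1)x_β(1), x_γ(1)x_δ(1)x_ε(1) and x_φ(1)x_ψ(1)x_θ(1)x_ω(1). Then: each invertible matrix equal to one of these four products lies in the group and has order 2; every element of order 2 of the group is conjugate in the group to one of them; and no two of them are conjugate in the group (so, the four matrices being distinct, the group has exactly four conjugacy classes of involutions). -/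
theorem result {F : Type*} [Field F] [Fintype F] [CharP F 2] :
    (∀ y : GL Cfsg.Lie.chevE8.Idx F, ((y : GL Cfsg.Lie.chevE8.Idx F) : Matrix Cfsg.Lie.chevE8.Idx Cfsg.Lie.chevE8.Idx F) ∈ [Cfsg.Lie.chevE8.x F 239 1, Cfsg.Lie.chevE8.x F 232 1 * Cfsg.Lie.chevE8.x F 233 1, Cfsg.Lie.chevE8.x F 228 1 * Cfsg.Lie.chevE8.x F 222 1 * Cfsg.Lie.chevE8.x F 218 1, Cfsg.Lie.chevE8.x F 226 1 * Cfsg.Lie.chevE8.x F 220 1 * Cfsg.Lie.chevE8.x F 213 1 * Cfsg.Lie.chevE8.x F 216 1] → y ∈ Cfsg.Lie.chevE8.group F ∧ orderOf y = 2) ∧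
    (∀ g ∈ Cfsg.Lie.chevE8.group F, orderOf g = 2 → ∃ y ∈ Cfsg.Lie.chevE8.group F, ((y : GL Cfsg.Lie.chevE8.Idx F) : Matrix Cfsg.Lie.chevE8.Idx Cfsg.Lie.chevE8.Idx F) ∈ [Cfsg.Lie.chevE8.x F 239 1, Cfsg.Lie.chevE8.x F 232 1 * Cfsg.Lie.chevE8.x F 233 1, Cfsg.Lie.chevE8.x F 228 1 * Cfsg.Lie.chevE8.x F 222 1 * Cfsg.Lie.chevE8.x F 218 1, Cfsg.Lie.chevE8.x F 226 1 * Cfsg.Lie.chevE8.x F 220 1 * Cfsg.Lie.chevE8.x F 213 1 * Cfsg.Lie.chevE8.x F 216 1] ∧ ∃ h ∈ Cfsg.Lie.chevE8.group F, h * g * h⁻¹ = y) ∧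
    (∀ y₁ ∈ Cfsg.Lie.chevE8.group F, ∀ y₂ ∈ Cfsg.Lie.chevE8.group F, ((y₁ : GL Cfsg.Lie.chevE8.Idx F) : Matrix Cfsg.Lie.chevE8.Idx Cfsg.Lie.chevE8.Idx F) ∈ [Cfsg.Lie.chevE8.x F 239 1, Cfsg.Lie.chevE8.x F 232 1 * Cfsg.Lie.chevE8.x F 233 1, Cfsg.Lie.chevE8.x F 228 1 * Cfsg.Lie.chevE8.x F 222 1 * Cfsg.Lie.chevE8.x F 218 1, Cfsg.Lie.chevE8.x F 226 1 * Cfsg.Lie.chevE8.x F 220 1 * Cfsg.Lie.chevE8.x F 213 1 * Cfsg.Lie.chevE8.x F 216 1] → ((y₂ : GL Cfsg.Lie.chevE8.Idx F) : Matrix Cfsg.Lie.chevE8.Idx Cfsg.Lie.chevE8.Idx F) ∈ [Cfsg.Lie.chevE8.x F 239 1, Cfsg.Lie.chevE8.x F 232 1 * Cfsg.Lie.chevE8.x F 233 1, Cfsg.Lie.chevE8.x F 228 1 * Cfsg.Lie.chevE8.x F 222 1 * Cfsg.Lie.chevE8.x F 218 1, Cfsg.Lie.chevE8.x F 226 1 * Cfsg.Lie.chevE8.x F 220 1 * Cfsg.Lie.chevE8.x F 213 1 * Cfsg.Lie.chevE8.x F 216 1] →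
      (∃ h ∈ Cfsg.Lie.chevE8.group F, h * y₁ * h⁻¹ = y₂) → ((y₁ : GL Cfsg.Lie.chevE8.Idx F) : Matrix Cfsg.Lie.chevE8.Idx Cfsg.Lie.chevE8.Idx F) = ((y₂ : GL Cfsg.Lie.chevE8.Idx F) : Matrix Cfsg.Lie.chevE8.Idx Cfsg.Lie.chevE8.Idx F)) := by
  classical
  open Cfsg.Lie Cfsg.Agent.Lib.Chev Cfsg.Agent.Lib.InvE66 Cfsg.Agent.Lib.InvE66.E8 in
  have hl := laced
  open Cfsg.Lie Cfsg.Agent.Lib.Chev Cfsg.Agent.Lib.InvE66 Cfsg.Agent.Lib.InvE66.E8 in
  have a1 := hl.rep_spec (F := F) reps_ok rk1_ok rk1_len (by norm_num)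
  open Cfsg.Lie Cfsg.Agent.Lib.Chev Cfsg.Agent.Lib.InvE66 Cfsg.Agent.Lib.InvE66.E8 in
  have a2 := hl.rep_spec (F := F) reps_ok rk2_ok rk2_len (by norm_num)
  open Cfsg.Lie Cfsg.Agent.Lib.Chev Cfsg.Agent.Lib.InvE66 Cfsg.Agent.Lib.InvE66.E8 in
  have a3 := hl.rep_spec (F := F) reps_ok rk3_ok rk3_len (by norm_num)
  open Cfsg.Lie Cfsg.Agent.Lib.Chev Cfsg.Agent.Lib.InvE66 Cfsg.Agent.Lib.InvE66.E8 in
  have a4 := hl.rep_spec (F := F) reps_ok rk4_ok rk4_len (by norm_num)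
  open Cfsg.Lie Cfsg.Agent.Lib.Chev Cfsg.Agent.Lib.InvE66 Cfsg.Agent.Lib.InvE66.E8 in
  have key : ∀ y : GL chevE8.Idx F, (y : Matrix chevE8.Idx chevE8.Idx F) ∈
      [chevE8.x F 239 1,
        chevE8.x F 232 1 * chevE8.x F 233 1,
        chevE8.x F 228 1 * chevE8.x F 222 1 * chevE8.x F 218 1,
        chevE8.x F 226 1 * chevE8.x F 220 1 * chevE8.x F 213 1 * chevE8.x F 216 1] →
      ∃ k, 1 ≤ k ∧ k < 5 ∧ y = prodX hl.toRooted.toChecked F (tab.reps.getD k []) ∧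
        ((y : Matrix chevE8.Idx chevE8.Idx F) - 1).rank = [0, 58, 92, 110, 120].getD k 0 := by
    intro y hy
    simp only [List.mem_cons, List.not_mem_nil, or_false] at hy
    rcases hy with e | e | e | e
    · have ey : y = prodX hl.toRooted.toChecked F (tab.reps.getD 1 []) :=
        Units.ext (e.trans (hl.coe_prodX_one 239).symm)
      exact ⟨1, by norm_num, by norm_num, ey, ey ▸ a1.2.2⟩
    · have ey : y = prodX hl.toRooted.toChecked F (tab.reps.getD 2 []) :=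
        Units.ext (e.trans (hl.coe_prodX_two 232 233).symm)
      exact ⟨2, by norm_num, by norm_num, ey, ey ▸ a2.2.2⟩
    · have ey : y = prodX hl.toRooted.toChecked F (tab.reps.getD 3 []) :=
        Units.ext (e.trans (hl.coe_prodX_three 228 222 218).symm)
      exact ⟨3, by norm_num, by norm_num, ey, ey ▸ a3.2.2⟩
    · have ey : y = prodX hl.toRooted.toChecked F (tab.reps.getD 4 []) :=
        Units.ext (e.trans (hl.coe_prodX_four 226 220 213 216).symm)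
      exact ⟨4, by norm_num, by norm_num, ey, ey ▸ a4.2.2⟩
  refine ⟨fun y hy => ?_, fun g hg hord => ?_, fun y₁ _ y₂ _ h₁ h₂ ⟨x, _, e⟩ => ?_⟩
  · obtain ⟨k, hk1, hk4, ey, -⟩ := key y hy
    subst ey
    interval_cases k
    exacts [⟨a1.1, a1.2.1⟩, ⟨a2.1, a2.2.1⟩, ⟨a3.1, a3.2.1⟩, ⟨a4.1, a4.2.1⟩]
  · open Cfsg.Agent.Lib.InvE66.E8 in
    obtain ⟨k, hk1, hk, z, hz, e⟩ := hl.exists_nontrivial_rep reps_ok rows_ok reds_ok rfl hg hord
    change k < 5 at hk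
    interval_cases k
    · exact ⟨_, a1.1, by
        refine List.mem_cons.2 (Or.inl ?_)
        exact hl.coe_prodX_one 239, z, hz, e⟩
    · exact ⟨_, a2.1, by
        refine List.mem_cons.2 (Or.inr (List.mem_cons.2 (Or.inl ?_)))
        exact hl.coe_prodX_two 232 233, z, hz, e⟩
    · exact ⟨_, a3.1, by
        refine List.mem_cons.2 (Or.inr (List.mem_cons.2 (Or.inr (List.mem_cons.2 (Or.inl ?_)))))
        exact hl.coe_prodX_three 228 222 218, z, hz, e⟩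
    · exact ⟨_, a4.1, by
        refine List.mem_cons.2 (Or.inr (List.mem_cons.2 (Or.inr (List.mem_cons.2 (Or.inr (List.mem_cons.2 (Or.inl ?_)))))))
        exact hl.coe_prodX_four 226 220 213 216, z, hz, e⟩
  · obtain ⟨k, hk1, hk4, ey1, r1⟩ := key y₁ h₁
    obtain ⟨l, hl1, hl4, ey2, r2⟩ := key y₂ h₂
    have hr := Cfsg.Agent.Lib.InvE66.rank_sub_one_conj x y₁
    rw [e, r1, r2] at hr
    have : k = l := by interval_cases k <;> interval_cases l <;> simp_all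
    subst this
    rw [ey1, ey2]

end Cfsg.Agent.S2176
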