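import Cfsg.Statements.S2177
import Cfsg.Agent.Lib.H59.G2InvTwo.Classes

set_option autoImplicit false
open Cfsg

namespace Cfsg.Agent.S2177

/-- Conjugacy classes of involutions in the Chevalley group of type G₂ over a finite field F of characteristic two with at least four elements (the matrix group generated by the root elements x_r(t)). In this problem's root numbering for type G₂ (the Chevalley data module; p₁ = a short, p₂ = b long; roots indexed by coefficient vectors in increasing order) let 11 be the highest root 3a + 2b (long) and 9 the short root 2a + b; consider x_{3a+2b}(1) and x_{2a+b}(1). Then: each invertible matrix equal to one of these two products lies in the group and has order 2; every element of order 2 of the group is conjugate in the group to one of them; and no two of them are conjugate in the group (so, the two matrices being distinct, the group has exactly two conjugacy classes of involutions). -/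
theorem result {F : Type*} [Field F] [Fintype F] [CharP F 2] (hF : 4 ≤ Fintype.card F) :
    (∀ y : GL Cfsg.Lie.chevG2.Idx F, ((y : GL Cfsg.Lie.chevG2.Idx F) : Matrix Cfsg.Lie.chevG2.Idx Cfsg.Lie.chevG2.Idx F) ∈ [Cfsg.Lie.chevG2.x F 11 1, Cfsg.Lie.chevG2.x F 9 1] → y ∈ Cfsg.Lie.chevG2.group F ∧ orderOf y = 2) ∧
    (∀ g ∈ Cfsg.Lie.chevG2.group F, orderOf g = 2 → ∃ y ∈ Cfsg.Lie.chevG2.group F, ((y : GL Cfsg.Lie.chevG2.Idx F) : Matrix Cfsg.Lie.chevG2.Idx Cfsg.Lie.chevG2.Idx F) ∈ [Cfsg.Lie.chevG2.x F 11 1, Cfsg.Lie.chevG2.x F 9 1] ∧ ∃ h ∈ Cfsg.Lie.chevG2.group F, h * g * h⁻¹ = y) ∧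
    (∀ y₁ ∈ Cfsg.Lie.chevG2.group F, ∀ y₂ ∈ Cfsg.Lie.chevG2.group F, ((y₁ : GL Cfsg.Lie.chevG2.Idx F) : Matrix Cfsg.Lie.chevG2.Idx Cfsg.Lie.chevG2.Idx F) ∈ [Cfsg.Lie.chevG2.x F 11 1, Cfsg.Lie.chevG2.x F 9 1] → ((y₂ : GL Cfsg.Lie.chevG2.Idx F) : Matrix Cfsg.Lie.chevG2.Idx Cfsg.Lie.chevG2.Idx F) ∈ [Cfsg.Lie.chevG2.x F 11 1, Cfsg.Lie.chevG2.x F 9 1] →
      (∃ h ∈ Cfsg.Lie.chevG2.group F, h * y₁ * h⁻¹ = y₂) → ((y₁ : GL Cfsg.Lie.chevG2.Idx F) : Matrix Cfsg.Lie.chevG2.Idx Cfsg.Lie.chevG2.Idx F) = ((y₂ : GL Cfsg.Lie.chevG2.Idx F) : Matrix Cfsg.Lie.chevG2.Idx Cfsg.Lie.chevG2.Idx F)) := by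
  classical
  haveI : PerfectRing F 2 := PerfectRing.ofFiniteOfIsReduced 2 F
  open Cfsg.Agent.Lib.H59.G2InvTwo in
  refine ⟨?_, ?_, ?_⟩
  · intro y hy
    have main : ∀ r : ℕ, r ∈ [9, 11] → y = X r 1 → y ∈ Cfsg.Lie.chevG2.group F ∧ orderOf y = 2 := by
      intro r hr e
      subst e
      refine ⟨X_mem_group r (by fin_cases hr <;> norm_num) 1, orderOf_eq_prime ?_ ?_⟩
      · rw [pow_two, X_merge, CharTwo.add_self_eq_zero, X_zero]
      · intro e
        fin_cases hr
        · rw [← P_single9, ← P_one] at e; exact one_ne_zero (P_inj e).2.2.2.1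
        · rw [← P_single11, ← P_one] at e; exact one_ne_zero (P_inj e).2.2.2.2.2
    rcases List.mem_cons.1 hy with h | h
    · exact main 11 (by simp) (Units.ext (by rw [coe_X]; exact h))
    · exact main 9 (by simp) (Units.ext (by rw [coe_X]; simpa using h))
  · intro g hg hord
    let g' : ↥(Cfsg.Lie.chevG2.group F) := ⟨g, hg⟩
    obtain ⟨P₀, hP₀⟩ := rooted.exists_sylow_posUnipotent (F := F) 2
    have hsub : orderOf g' = 2 := by rw [← Subgroup.orderOf_coe]; exact hord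
    have hgp : IsPGroup 2 ↥(Subgroup.zpowers g') := IsPGroup.of_card (n := 1) (by rw [Nat.card_zpowers, hsub, pow_one])
    obtain ⟨Q, hQ⟩ := hgp.exists_le_sylow
    obtain ⟨k, hk⟩ := MulAction.exists_smul_eq ↥(Cfsg.Lie.chevG2.group F) Q P₀
    have hmem : k * g' * k⁻¹ ∈ (P₀ : Subgroup ↥(Cfsg.Lie.chevG2.group F)) := by
      rw [← hk]
      exact ⟨g', hQ (Subgroup.mem_zpowers g'), rfl⟩
    rw [hP₀] at hmem
    have hu : (k : GL Cfsg.Lie.chevG2.Idx F) * g * (k : GL Cfsg.Lie.chevG2.Idx F)⁻¹ ∈ Cfsg.Lie.chevG2.posUnipotent F :=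
      hmem
    have hr0 : Rel g ((k : GL Cfsg.Lie.chevG2.Idx F) * g * (k : GL Cfsg.Lie.chevG2.Idx F)⁻¹) := ⟨k, k.2, rfl⟩
    obtain ⟨b, a, c, d, e, f, hP⟩ := exists_P hu
    rw [hP] at hr0
    have hne : g ≠ 1 := by rintro rfl; rw [orderOf_one] at hord; omega
    have hsq : g * g = 1 := by rw [← pow_two, ← hord, pow_orderOf_eq_one]
    have h1 : P b a c d e f ≠ 1 := by
      intro h; rw [← hP] at h
      exact hne (by simpa using (mul_inv_eq_one.1 h : (k : GL Cfsg.Lie.chevG2.Idx F) * g = k))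
    have h2 : P b a c d e f * P b a c d e f = 1 := by
      rw [← hP]
      calc _ = (k : GL Cfsg.Lie.chevG2.Idx F) * (g * g) * (k : GL Cfsg.Lie.chevG2.Idx F)⁻¹ := by group
        _ = 1 := by rw [hsq]; group
    rcases classify_pos h1 h2 with h | h
    · obtain ⟨z, hz, e⟩ := hr0.trans h
      exact ⟨X 9 1, X_mem_group 9 (by norm_num) 1, by simp [coe_X], z, hz, e⟩
    · obtain ⟨z, hz, e⟩ := hr0.trans h
      exact ⟨X 11 1, X_mem_group 11 (by norm_num) 1, by simp [coe_X], z, hz, e⟩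
  · intro y₁ _ y₂ _ h₁ h₂ ⟨h, hh', e⟩
    rcases List.mem_cons.1 h₁ with a₁ | a₁ <;> rcases List.mem_cons.1 h₂ with a₂ | a₂
    · rw [a₁, a₂]
    · exfalso
      rw [show y₁ = X 11 1 from Units.ext (by rw [coe_X]; exact a₁),
        show y₂ = X 9 1 from Units.ext (by rw [coe_X]; simpa using a₂)] at e
      exact not_rel ⟨h, hh', e⟩
    · exfalso
      rw [show y₁ = X 9 1 from Units.ext (by rw [coe_X]; simpa using a₁),
        show y₂ = X 11 1 from Units.ext (by rw [coe_X]; exact a₂)] at e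
      exact not_rel ⟨h⁻¹, inv_mem hh', by rw [← e]; group⟩
    · simp only [List.mem_singleton] at a₁ a₂
      rw [a₁, a₂]

end Cfsg.Agent.S2177
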