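import Cfsg.Statements.S2178
import Cfsg.Agent.Lib.ChevCent.Lemmas

set_option autoImplicit false
open Cfsg

namespace Cfsg.Agent.S2178

def dT : Lib.ChevCent.CData where
  Zr := [47]
  Sig := [47]
  J := [0, 1, 2]
  short := [3, 7, 8, 9, 10, 11, 12, 13, 14, 18, 19, 20, 27, 28, 29, 33, 34, 35, 36, 37, 38, 39, 40, 44]
  R := List.range' 24 24 ++ [14, 20, 22]
  M := [[], [], [], [1]]

def dU : Lib.ChevCent.CData where
  Zr := [44]
  Sig := [44]
  J := [1, 2, 3]
  short := [3, 7, 8, 9, 10, 11, 12, 13, 14, 18, 19, 20, 27, 28, 29, 33, 34, 35, 36, 37, 38, 39, 40, 44]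
  R := List.range' 24 24 ++ [20, 22, 23]
  M := [[1], [], [], []]

theorem dT_valid : Lib.ChevCent.Valid Cfsg.Lie.chevF4 Lib.Chev.F4.cert dT :=
  ⟨by decide +kernel, by decide +kernel, by decide +kernel⟩

theorem dU_valid : Lib.ChevCent.Valid Cfsg.Lie.chevF4 Lib.Chev.F4.cert dU :=
  ⟨by decide +kernel, by decide +kernel, by decide +kernel⟩

theorem posRoots_eq : Cfsg.Lie.chevF4.posRoots = List.range' 24 24 := by decide +kernel

theorem rootGen_list {F : Type*} [Field F] (a b c : ℕ) :
    Lib.Chev.rootGen Cfsg.Lie.chevF4 F {r | r ∈ List.range' 24 24 ++ [a, b, c]} =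
      Cfsg.Lie.chevF4.posUnipotent F ⊔ Cfsg.Lie.chevF4.rootSubgroup F a ⊔ Cfsg.Lie.chevF4.rootSubgroup F b ⊔
        Cfsg.Lie.chevF4.rootSubgroup F c := by
  have hh : Lib.Chev.Rooted Cfsg.Lie.chevF4 Lib.Chev.F4.cert := ⟨Lib.Chev.checked_F4, Lib.Chev.descent_F4⟩
  rw [Lib.ChevCent.posUnipotent_eq_list hh, posRoots_eq, ← Lib.ChevCent.rootGen_singleton,
    ← Lib.ChevCent.rootGen_singleton, ← Lib.ChevCent.rootGen_singleton, ← Lib.ChevCent.rootGen_union,
    ← Lib.ChevCent.rootGen_union, ← Lib.ChevCent.rootGen_union]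
  congr 1
  ext r
  simp only [List.mem_append, List.mem_cons, List.not_mem_nil, or_false, Set.mem_setOf_eq, Set.mem_union,
    Set.mem_singleton_iff, or_assoc]

/-- Centralizers of the long and the short root involutions in the Chevalley group G of type F₄ over a finite field F of characteristic two (this problem's root numbering for type F₄, from the Chevalley data module: fundamental roots p₁, p₂ short, p₃, p₄ long, with indices 33, 27, 25, 24, their negatives 14, 20, 22, 23; highest root 47, highest short root 44; U the subgroup generated by the positive root subgroups). For an element t of G with matrix x_47(1): the centralizer of t in G is the subgroup generated by U and the root subgroups X_{−p₁}, X_{−p₂}, X_{−p₃} (the unipotent radical of the maximal parabolic subgroup whose Levi factor has fundamental roots p₁, p₂, p₃, together with that Levi factor's root subgroups; the Levi factor is of type C₃). For an element u of G with matrix x_44(1): the centralizer of u in G is generated by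 U and X_{−p₂}, X_{−p₃}, X_{−p₄} (the same construction for the Levi factor with fundamental roots p₂, p₃, p₄, of type B₃). -/
theorem result {F : Type*} [Field F] [Fintype F] [CharP F 2] (t u : GL Cfsg.Lie.chevF4.Idx F) (ht : (t : Matrix Cfsg.Lie.chevF4.Idx Cfsg.Lie.chevF4.Idx F) = Cfsg.Lie.chevF4.x F 47 1) (hu : (u : Matrix Cfsg.Lie.chevF4.Idx Cfsg.Lie.chevF4.Idx F) = Cfsg.Lie.chevF4.x F 44 1) :
    Cfsg.Lie.chevF4.group F ⊓ Subgroup.centralizer {t} = Cfsg.Lie.chevF4.posUnipotent F ⊔ Cfsg.Lie.chevF4.rootSubgroup F 14 ⊔ Cfsg.Lie.chevF4.rootSubgroup F 20 ⊔ Cfsg.Lie.chevF4.rootSubgroup F 22 ∧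
    Cfsg.Lie.chevF4.group F ⊓ Subgroup.centralizer {u} = Cfsg.Lie.chevF4.posUnipotent F ⊔ Cfsg.Lie.chevF4.rootSubgroup F 20 ⊔ Cfsg.Lie.chevF4.rootSubgroup F 22 ⊔ Cfsg.Lie.chevF4.rootSubgroup F 23 := by

  have hh : Lib.Chev.Rooted Cfsg.Lie.chevF4 Lib.Chev.F4.cert := ⟨Lib.Chev.checked_F4, Lib.Chev.descent_F4⟩
  constructor
  · rw [Lib.ChevCent.centralizer_eq_of_central hh dT_valid
      (by simpa [Cfsg.Lie.ChevalleyDatum.wordMat, dT] using ht)
      (fun r hr => by rw [posRoots_eq] at hr; exact List.mem_append_left _ hr)]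
    exact rootGen_list 14 20 22
  · rw [Lib.ChevCent.centralizer_eq_of_central hh dU_valid
      (by simpa [Cfsg.Lie.ChevalleyDatum.wordMat, dU] using hu)
      (fun r hr => by rw [posRoots_eq] at hr; exact List.mem_append_left _ hr)]
    exact rootGen_list 20 22 23

end Cfsg.Agent.S2178
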