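import Cfsg.Statements.S2179
import Cfsg.Agent.Lib.ChevCent.Lemmas

set_option autoImplicit false
open Cfsg

namespace Cfsg.Agent.S2179

def dW : Lib.ChevCent.CData where
  Zr := [44, 47]
  Sig := [44, 47]
  J := [1, 2]
  short := [3, 7, 8, 9, 10, 11, 12, 13, 14, 18, 19, 20, 27, 28, 29, 33, 34, 35, 36, 37, 38, 39, 40, 44]
  R := List.range' 24 24 ++ [20, 22]
  M := [[1, 0], [], [], [0, 1]]

def dV : Lib.ChevCent.CData where
  Zr := [39, 45]
  Sig := [39, 40, 44, 45, 46, 47]
  J := [0, 3]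
  short := [3, 7, 8, 9, 10, 11, 12, 13, 14, 18, 19, 20, 27, 28, 29, 33, 34, 35, 36, 37, 38, 39, 40, 44]
  R := [33, 14, 24, 23] ++ (List.range' 24 24).filter (fun r => !([27, 25, 34, 26] : List ℕ).contains r)
  M := [[], [1, 1], [2, 1], []]

theorem dW_valid : Lib.ChevCent.Valid Cfsg.Lie.chevF4 Lib.Chev.F4.cert dW :=
  ⟨by decide +kernel, by decide +kernel, by decide +kernel⟩

theorem dV_valid : Lib.ChevCent.Valid Cfsg.Lie.chevF4 Lib.Chev.F4.cert dV :=
  ⟨by decide +kernel, by decide +kernel, by decide +kernel⟩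

theorem posRoots_eq : Cfsg.Lie.chevF4.posRoots = List.range' 24 24 := by decide +kernel

open Lib.ChevCent in
theorem mem_of_commute {F : Type*} [Field F] [CharP F 2] {u : GL Cfsg.Lie.chevF4.Idx F}
    (hu : u ∈ Cfsg.Lie.chevF4.posUnipotent F)
    (hc : Commute (word Lib.Chev.checked_F4 dV.Zr (fun _ => (1 : F))) u) :
    u ∈ Lib.Chev.rootGen Cfsg.Lie.chevF4 F {r | r ∈ dV.R} := by
  have hh : Lib.Chev.Rooted Cfsg.Lie.chevF4 Lib.Chev.F4.cert := ⟨Lib.Chev.checked_F4, Lib.Chev.descent_F4⟩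
  have h := Lib.Chev.checked_F4
  obtain ⟨f, rfl⟩ := exists_word_of_mem_pos hh hu
  rw [posRoots_eq, show List.range' 24 24 = [24, 25, 26, 27] ++ (List.range' 28 6 ++ ([34] ++ List.range' 35 13))
    from rfl, word_append, word_append, word_append, word_cons, word_cons, word_cons, word_cons, word_cons,
    word_nil, mul_one, mul_one] at hc ⊢
  set z := word Lib.Chev.checked_F4 dV.Zr (fun _ => (1 : F)) with hz
  set P := word Lib.Chev.checked_F4 (List.range' 28 6) f with hP
  set Q := word Lib.Chev.checked_F4 (List.range' 35 13) f with hQ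
  have hzw : z = xg h 39 (1 : F) * xg h 45 (1 : F) := by simp [hz, dV, word]
  have hQz : Commute z Q := by
    rw [hzw]
    exact Commute.mul_left (commute_word h (by decide +kernel) f _) (commute_word h (by decide +kernel) f _)
  have hPz : Commute z P := by
    rw [hzw]
    exact Commute.mul_left (commute_word h (by decide +kernel) f _) (commute_word h (by decide +kernel) f _)
  have hPmem : P ∈ Lib.Chev.rootGen Cfsg.Lie.chevF4 F {r | r ∈ dV.R} := word_mem _ (by decide +kernel) f
  have hQmem : Q ∈ Lib.Chev.rootGen Cfsg.Lie.chevF4 F {r | r ∈ dV.R} := word_mem _ (by decide +kernel) f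
  -- the action of the four root elements
  have a34 : xg h 34 (f 34) * z * (xg h 34 (f 34))⁻¹ = xg h 44 (f 34) * z := by
    have e1 := conj_single h (r := 39) (s := 34) (τ := 44) (c := (Lib.Chev.cTerms Lib.Chev.F4.cert 39 34).head!.2.1)
      (by decide +kernel) (f 34) (1 : F)
    have e2 := conj_even h (r := 45) (s := 34) (by decide +kernel) (f 34) (1 : F)
    rw [mul_one] at e1
    rw [hzw]
    calc _ = (xg h 34 (f 34) * xg h 39 1 * (xg h 34 (f 34))⁻¹) * (xg h 34 (f 34) * xg h 45 1 * (xg h 34 (f 34))⁻¹) := by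
          group
      _ = _ := by rw [e1, e2]; group
  have a27 : xg h 27 (f 27) * (xg h 44 (f 34) * z) * (xg h 27 (f 27))⁻¹ = xg h 44 (f 34) * xg h 40 (f 27) * z := by
    have e1 := conj_single h (r := 39) (s := 27) (τ := 40) (c := (Lib.Chev.cTerms Lib.Chev.F4.cert 39 27).head!.2.1)
      (by decide +kernel) (f 27) (1 : F)
    have e2 := conj_even h (r := 45) (s := 27) (by decide +kernel) (f 27) (1 : F)
    have e3 := conj_even h (r := 44) (s := 27) (by decide +kernel) (f 27) (f 34)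
    rw [mul_one] at e1
    rw [hzw]
    calc _ = (xg h 27 (f 27) * xg h 44 (f 34) * (xg h 27 (f 27))⁻¹) * (xg h 27 (f 27) * xg h 39 1 * (xg h 27 (f 27))⁻¹)
          * (xg h 27 (f 27) * xg h 45 1 * (xg h 27 (f 27))⁻¹) := by group
      _ = _ := by rw [e1, e2, e3]; group
  have a26 : xg h 26 (f 26) * (xg h 44 (f 34) * xg h 40 (f 27) * z) * (xg h 26 (f 26))⁻¹ =
      xg h 44 (f 34) * xg h 40 (f 27) * xg h 47 (f 26) * z := by
    have e1 := conj_single h (r := 45) (s := 26) (τ := 47) (c := (Lib.Chev.cTerms Lib.Chev.F4.cert 45 26).head!.2.1)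
      (by decide +kernel) (f 26) (1 : F)
    have e2 := conj_even h (r := 39) (s := 26) (by decide +kernel) (f 26) (1 : F)
    have e3 := conj_even h (r := 44) (s := 26) (by decide +kernel) (f 26) (f 34)
    have e4 := conj_even h (r := 40) (s := 26) (by decide +kernel) (f 26) (f 27)
    have e5 : Commute (xg h 39 (1 : F)) (xg h 47 (f 26)) := xg_commute h (by decide) (by decide) (by decide)
      (by decide +kernel) _ _
    rw [mul_one] at e1
    rw [hzw]
    calc _ = (xg h 26 (f 26) * xg h 44 (f 34) * (xg h 26 (f 26))⁻¹) *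
          (xg h 26 (f 26) * xg h 40 (f 27) * (xg h 26 (f 26))⁻¹) *
          (xg h 26 (f 26) * xg h 39 1 * (xg h 26 (f 26))⁻¹) * (xg h 26 (f 26) * xg h 45 1 * (xg h 26 (f 26))⁻¹) := by
          group
      _ = xg h 44 (f 34) * xg h 40 (f 27) * (xg h 39 1 * xg h 47 (f 26)) * xg h 45 1 := by
          rw [e1, e2, e3, e4]; group
      _ = _ := by rw [e5.eq]; group
  have a25 : xg h 25 (f 25) * (xg h 44 (f 34) * xg h 40 (f 27) * xg h 47 (f 26) * z) * (xg h 25 (f 25))⁻¹ =
      xg h 44 (f 34) * xg h 40 (f 27) * xg h 47 (f 26) * xg h 46 (f 25) * z := by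
    have e1 := conj_single h (r := 45) (s := 25) (τ := 46) (c := (Lib.Chev.cTerms Lib.Chev.F4.cert 45 25).head!.2.1)
      (by decide +kernel) (f 25) (1 : F)
    have e2 := conj_even h (r := 39) (s := 25) (by decide +kernel) (f 25) (1 : F)
    have e3 := conj_even h (r := 44) (s := 25) (by decide +kernel) (f 25) (f 34)
    have e4 := conj_even h (r := 40) (s := 25) (by decide +kernel) (f 25) (f 27)
    have e6 := conj_even h (r := 47) (s := 25) (by decide +kernel) (f 25) (f 26)
    have e5 : Commute (xg h 39 (1 : F)) (xg h 46 (f 25)) := xg_commute h (by decide) (by decide) (by decide)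
      (by decide +kernel) _ _
    rw [mul_one] at e1
    rw [hzw]
    calc _ = (xg h 25 (f 25) * xg h 44 (f 34) * (xg h 25 (f 25))⁻¹) *
          (xg h 25 (f 25) * xg h 40 (f 27) * (xg h 25 (f 25))⁻¹) *
          (xg h 25 (f 25) * xg h 47 (f 26) * (xg h 25 (f 25))⁻¹) *
          (xg h 25 (f 25) * xg h 39 1 * (xg h 25 (f 25))⁻¹) * (xg h 25 (f 25) * xg h 45 1 * (xg h 25 (f 25))⁻¹) := by
          group
      _ = xg h 44 (f 34) * xg h 40 (f 27) * xg h 47 (f 26) * (xg h 39 1 * xg h 46 (f 25)) * xg h 45 1 := by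
          rw [e1, e2, e3, e4, e6]; group
      _ = _ := by rw [e5.eq]; group
  have a24 : xg h 24 (f 24) * z * (xg h 24 (f 24))⁻¹ = z := by
    have e1 := conj_even h (r := 39) (s := 24) (by decide +kernel) (f 24) (1 : F)
    have e2 := conj_even h (r := 45) (s := 24) (by decide +kernel) (f 24) (1 : F)
    rw [hzw]
    calc _ = (xg h 24 (f 24) * xg h 39 1 * (xg h 24 (f 24))⁻¹) * (xg h 24 (f 24) * xg h 45 1 * (xg h 24 (f 24))⁻¹) := by
          group
      _ = _ := by rw [e1, e2]
  have hP44 : Commute (xg h 44 (f 34)) P := commute_word h (by decide +kernel) f _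
  set E := xg h 44 (f 34) * xg h 40 (f 27) * xg h 47 (f 26) * xg h 46 (f 25) with hE
  have hE1 : E = 1 := by
    have e1 : xg h 24 (f 24) * (E * z) * (xg h 24 (f 24))⁻¹ = z := by
      have hc' : (xg h 24 (f 24) * xg h 25 (f 25) * xg h 26 (f 26) * xg h 27 (f 27) * P * xg h 34 (f 34) * Q) * z =
          z * (xg h 24 (f 24) * xg h 25 (f 25) * xg h 26 (f 26) * xg h 27 (f 27) * P * xg h 34 (f 34) * Q) := by
        simpa [mul_assoc] using hc.eq.symm
      rw [← a25, ← a26, ← a27]
      have eP : P * (xg h 44 (f 34) * z) * P⁻¹ = xg h 44 (f 34) * z := by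
        rw [← ((hP44.mul_left hPz)).eq, mul_inv_cancel_right]
      rw [← eP, ← a34]
      have eQ : Q * z * Q⁻¹ = z := by rw [← hQz.eq, mul_inv_cancel_right]
      calc _ = (xg h 24 (f 24) * xg h 25 (f 25) * xg h 26 (f 26) * xg h 27 (f 27) * P * xg h 34 (f 34)) * (Q * z * Q⁻¹) *
            (xg h 24 (f 24) * xg h 25 (f 25) * xg h 26 (f 26) * xg h 27 (f 27) * P * xg h 34 (f 34))⁻¹ := by
            rw [eQ]; group
        _ = (xg h 24 (f 24) * xg h 25 (f 25) * xg h 26 (f 26) * xg h 27 (f 27) * P * xg h 34 (f 34) * Q) * z *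
            (xg h 24 (f 24) * xg h 25 (f 25) * xg h 26 (f 26) * xg h 27 (f 27) * P * xg h 34 (f 34) * Q)⁻¹ := by group
        _ = z := by rw [hc', mul_inv_cancel_right]
    have e2 : xg h 24 (f 24) * E * (xg h 24 (f 24))⁻¹ = 1 := by
      have : xg h 24 (f 24) * E * (xg h 24 (f 24))⁻¹ * z = z := by
        calc _ = xg h 24 (f 24) * E * (xg h 24 (f 24))⁻¹ * (xg h 24 (f 24) * z * (xg h 24 (f 24))⁻¹) := by rw [a24]
          _ = xg h 24 (f 24) * (E * z) * (xg h 24 (f 24))⁻¹ := by group
          _ = z := e1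
      exact mul_eq_right.1 this
    exact conj_eq_one_iff.1 e2
  have hzero : ∀ r ∈ [40, 44, 46, 47], (if r = 40 then f 27 else if r = 44 then f 34 else if r = 46 then f 25 else f 26) = (0 : F) := by
    refine word_injective hh (L := [40, 44, 46, 47]) (by decide) (fun r hr => ?_) ?_
    · simp only [List.mem_cons, List.not_mem_nil, or_false] at hr
      rcases hr with rfl | rfl | rfl | rfl <;> exact ⟨by decide, by decide⟩
    · have c1 : Commute (xg h 40 (f 27)) (xg h 44 (f 34)) :=
        xg_commute h (by decide) (by decide) (by decide) (by decide +kernel) _ _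
      have c2 : Commute (xg h 46 (f 25)) (xg h 47 (f 26)) :=
        xg_commute h (by decide) (by decide) (by decide) (by decide +kernel) _ _
      have : word h [40, 44, 46, 47] (fun _ => (0 : F)) = 1 := by simp [word, xg_zero]
      rw [this, ← hE1, hE]
      simp only [word, List.map_cons, List.map_nil, List.prod_cons, List.prod_nil, mul_one, reduceIte,
        show ¬ (44 : ℕ) = 40 by decide, show ¬ (46 : ℕ) = 40 by decide, show ¬ (46 : ℕ) = 44 by decide,
        show ¬ (47 : ℕ) = 40 by decide, show ¬ (47 : ℕ) = 44 by decide, show ¬ (47 : ℕ) = 46 by decide]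
      rw [← mul_assoc, c1.eq, c2.eq]
      group
  have h27 : f 27 = 0 := hzero 40 (by decide)
  have h34 : f 34 = 0 := hzero 44 (by decide)
  have h25 : f 25 = 0 := hzero 46 (by decide)
  have h26 : f 26 = 0 := hzero 47 (by decide)
  simp only [h27, h34, h25, h26, xg_zero, mul_one, one_mul]
  exact mul_mem (xg_mem_rootGen _ (by decide +kernel) _) (mul_mem hPmem hQmem)

/-- Centralizers of the two remaining classes of involutions in the Chevalley group G of type F₄ over a finite field F of characteristic two (this problem's root numbering for type F₄, from the Chevalley data module: p₁, p₂ short, p₃, p₄ long with indices 33, 27, 25, 24 and negatives 14, 20, 22, 23; U generated by the positive root subgroups). For an element of G with matrix x_47(1)x_44(1) (highest root times highest short root): its centralizer in G is generated by U, X_{−p₂} and X_{−p₃}. For an element of G with matrix x_39(1)x_45(1) (roots (1,2,2,1) and (2,4,2,1), an orthogonal short/long pair): its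 centralizer in G is generated by X_{p₁}, X_{−p₁}, X_{p₄}, X_{−p₄} and the root subgroups of all positive roots other than p₂ (27), p₃ (25), p₁ + p₂ (34) and p₃ + p₄ (26). -/
theorem result {F : Type*} [Field F] [Fintype F] [CharP F 2] (w v : GL Cfsg.Lie.chevF4.Idx F) (hw : (w : Matrix Cfsg.Lie.chevF4.Idx Cfsg.Lie.chevF4.Idx F) = Cfsg.Lie.chevF4.x F 47 1 * Cfsg.Lie.chevF4.x F 44 1) (hv : (v : Matrix Cfsg.Lie.chevF4.Idx Cfsg.Lie.chevF4.Idx F) = Cfsg.Lie.chevF4.x F 39 1 * Cfsg.Lie.chevF4.x F 45 1) :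
    Cfsg.Lie.chevF4.group F ⊓ Subgroup.centralizer {w} = Cfsg.Lie.chevF4.posUnipotent F ⊔ Cfsg.Lie.chevF4.rootSubgroup F 20 ⊔ Cfsg.Lie.chevF4.rootSubgroup F 22 ∧
    Cfsg.Lie.chevF4.group F ⊓ Subgroup.centralizer {v} = Cfsg.Lie.chevF4.rootSubgroup F 33 ⊔ Cfsg.Lie.chevF4.rootSubgroup F 14 ⊔ Cfsg.Lie.chevF4.rootSubgroup F 24 ⊔ Cfsg.Lie.chevF4.rootSubgroup F 23 ⊔
      Subgroup.closure {g : GL Cfsg.Lie.chevF4.Idx F | ∃ (r : ℕ) (c : F), Cfsg.Lie.chevF4.IsPosRoot r ∧ r ∉ [27, 25, 34, 26] ∧ (g : Matrix Cfsg.Lie.chevF4.Idx Cfsg.Lie.chevF4.Idx F) = Cfsg.Lie.chevF4.x F r c} := by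

  have hh : Lib.Chev.Rooted Cfsg.Lie.chevF4 Lib.Chev.F4.cert := ⟨Lib.Chev.checked_F4, Lib.Chev.descent_F4⟩
  have hcomm : ∀ r s : ℕ, r < 48 → s < 48 → s ≠ Lib.Chev.ng Cfsg.Lie.chevF4 r →
      Lib.ChevCent.evenTerms Lib.Chev.F4.cert r s = true →
      Cfsg.Lie.chevF4.x F r 1 * Cfsg.Lie.chevF4.x F s 1 = Cfsg.Lie.chevF4.x F s 1 * Cfsg.Lie.chevF4.x F r 1 := by
    intro r s hr hs h2 he
    have := congrArg (fun g : GL Cfsg.Lie.chevF4.Idx F => (g : Matrix Cfsg.Lie.chevF4.Idx Cfsg.Lie.chevF4.Idx F))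
      (Lib.ChevCent.xg_commute (F := F) hh.toChecked hr hs h2 (Or.inr he) (1 : F) (1 : F)).eq
    simpa [Lib.ChevCent.coe_xg] using this
  constructor
  · rw [Lib.ChevCent.centralizer_eq_of_central hh dW_valid
      (by simp [Cfsg.Lie.ChevalleyDatum.wordMat, dW, hw, hcomm 47 44 (by decide) (by decide) (by decide) (by decide +kernel)])
      (fun r hr => by rw [posRoots_eq] at hr; exact List.mem_append_left _ hr)]
    rw [Lib.ChevCent.posUnipotent_eq_list hh, posRoots_eq, ← Lib.ChevCent.rootGen_singleton,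
      ← Lib.ChevCent.rootGen_singleton, ← Lib.ChevCent.rootGen_union, ← Lib.ChevCent.rootGen_union]
    congr 1
    ext r
    simp only [dW, List.mem_append, List.mem_cons, List.not_mem_nil, or_false, Set.mem_setOf_eq, Set.mem_union,
      Set.mem_singleton_iff, or_assoc]
  · rw [Lib.ChevCent.centralizer_eq hh dV_valid
      (by simp [Cfsg.Lie.ChevalleyDatum.wordMat, dV, hv])
      (fun u hu hc => mem_of_commute hu hc)]
    have hset : {g : GL Cfsg.Lie.chevF4.Idx F | ∃ (r : ℕ) (c : F), Cfsg.Lie.chevF4.IsPosRoot r ∧ r ∉ [27, 25, 34, 26] ∧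
        (g : Matrix Cfsg.Lie.chevF4.Idx Cfsg.Lie.chevF4.Idx F) = Cfsg.Lie.chevF4.x F r c} =
        {g : GL Cfsg.Lie.chevF4.Idx F | ∃ (r : ℕ) (c : F), r ∈ {r | r ∈ (List.range' 24 24).filter (fun r => !([27, 25, 34, 26] : List ℕ).contains r)} ∧
        (g : Matrix Cfsg.Lie.chevF4.Idx Cfsg.Lie.chevF4.Idx F) = Cfsg.Lie.chevF4.x F r c} := by
      ext g
      simp only [Set.mem_setOf_eq]
      refine exists_congr fun r => exists_congr fun c => ?_
      have e : r ∈ (List.range' 24 24).filter (fun r => !([27, 25, 34, 26] : List ℕ).contains r) ↔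
          Cfsg.Lie.chevF4.IsPosRoot r ∧ r ∉ [27, 25, 34, 26] := by
        rw [List.mem_filter, ← posRoots_eq, hh.toChecked.mem_posRoots, hh.toChecked.isPosRoot_iff]
        refine and_congr ?_ (by simp)
        exact Iff.rfl
      rw [e, and_assoc]
    rw [hset, ← Lib.Chev.rootGen, ← Lib.ChevCent.rootGen_singleton, ← Lib.ChevCent.rootGen_singleton,
      ← Lib.ChevCent.rootGen_singleton, ← Lib.ChevCent.rootGen_singleton,
      ← Lib.ChevCent.rootGen_union, ← Lib.ChevCent.rootGen_union, ← Lib.ChevCent.rootGen_union,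
      ← Lib.ChevCent.rootGen_union]
    congr 1
    ext r
    simp only [dV, List.mem_append, List.mem_cons, List.not_mem_nil, or_false, Set.mem_setOf_eq, Set.mem_union,
      Set.mem_singleton_iff, or_assoc]

end Cfsg.Agent.S2179
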