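import Cfsg.Statements.S2180
import Cfsg.Agent.Lib.ChevCent.Lemmas

set_option autoImplicit false
open Cfsg

namespace Cfsg.Agent.S2180

def dZ : Lib.ChevCent.CData where
  Zr := [11]
  Sig := [11]
  J := [0]
  short := [2, 3, 4, 7, 8, 9]
  R := List.range' 6 6 ++ [4]
  M := [[], [1]]

def dT : Lib.ChevCent.CData where
  Zr := [9]
  Sig := [9, 10, 11]
  J := [1]
  short := [2, 3, 4, 7, 8, 9]
  R := [9, 10, 11, 6, 5]
  M := [[1], []]

theorem dZ_valid : Lib.ChevCent.Valid Cfsg.Lie.chevG2 Lib.Chev.G2.cert dZ :=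
  ⟨by decide +kernel, by decide +kernel, by decide +kernel⟩

theorem dT_valid : Lib.ChevCent.Valid Cfsg.Lie.chevG2 Lib.Chev.G2.cert dT :=
  ⟨by decide +kernel, by decide +kernel, by decide +kernel⟩

theorem posRoots_eq : Cfsg.Lie.chevG2.posRoots = List.range' 6 6 := by decide +kernel

open Lib.ChevCent in
theorem mem_of_commute {F : Type*} [Field F] [CharP F 2] {u : GL Cfsg.Lie.chevG2.Idx F}
    (hu : u ∈ Cfsg.Lie.chevG2.posUnipotent F)
    (hc : Commute (word Lib.Chev.checked_G2 dT.Zr (fun _ => (1 : F))) u) :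
    u ∈ Lib.Chev.rootGen Cfsg.Lie.chevG2 F {r | r ∈ dT.R} := by
  have hh : Lib.Chev.Rooted Cfsg.Lie.chevG2 Lib.Chev.G2.cert := ⟨Lib.Chev.checked_G2, Lib.Chev.descent_G2⟩
  have h := Lib.Chev.checked_G2
  obtain ⟨f, rfl⟩ := exists_word_of_mem_pos hh hu
  rw [posRoots_eq, show List.range' 6 6 = [6, 7, 8] ++ List.range' 9 3 from rfl, word_append, word_cons, word_cons,
    word_cons, word_nil, mul_one] at hc ⊢
  set z := word Lib.Chev.checked_G2 dT.Zr (fun _ => (1 : F)) with hz
  set Q := word Lib.Chev.checked_G2 (List.range' 9 3) f with hQ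
  have hzw : z = xg h 9 (1 : F) := by simp [hz, dT, word]
  have hQz : Commute z Q := by
    rw [hzw]; exact commute_word h (by decide +kernel) f _
  have hQmem : Q ∈ Lib.Chev.rootGen Cfsg.Lie.chevG2 F {r | r ∈ dT.R} := word_mem _ (by decide +kernel) f
  have a8 : xg h 8 (f 8) * z * (xg h 8 (f 8))⁻¹ = xg h 11 (f 8) * z := by
    have e1 := conj_single h (r := 9) (s := 8) (τ := 11) (c := (Lib.Chev.cTerms Lib.Chev.G2.cert 9 8).head!.2.1)
      (by decide +kernel) (f 8) (1 : F)
    rw [mul_one] at e1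
    rw [hzw]; exact e1
  have a7 : xg h 7 (f 7) * (xg h 11 (f 8) * z) * (xg h 7 (f 7))⁻¹ = xg h 11 (f 8) * xg h 10 (f 7) * z := by
    have e1 := conj_single h (r := 9) (s := 7) (τ := 10) (c := (Lib.Chev.cTerms Lib.Chev.G2.cert 9 7).head!.2.1)
      (by decide +kernel) (f 7) (1 : F)
    have e2 := conj_even h (r := 11) (s := 7) (by decide +kernel) (f 7) (f 8)
    rw [mul_one] at e1
    rw [hzw]
    calc _ = (xg h 7 (f 7) * xg h 11 (f 8) * (xg h 7 (f 7))⁻¹) * (xg h 7 (f 7) * xg h 9 1 * (xg h 7 (f 7))⁻¹) := by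
          group
      _ = _ := by rw [e1, e2]; group
  have a6 : xg h 6 (f 6) * z * (xg h 6 (f 6))⁻¹ = z := by
    rw [hzw]; exact conj_even h (by decide +kernel) _ _
  set E := xg h 11 (f 8) * xg h 10 (f 7) with hE
  have e1 : xg h 6 (f 6) * (E * z) * (xg h 6 (f 6))⁻¹ = z := by
    have hc' : (xg h 6 (f 6) * xg h 7 (f 7) * xg h 8 (f 8) * Q) * z =
        z * (xg h 6 (f 6) * xg h 7 (f 7) * xg h 8 (f 8) * Q) := by
      simpa [mul_assoc] using hc.eq.symm
    rw [← a7, ← a8]
    have eQ : Q * z * Q⁻¹ = z := by rw [← hQz.eq, mul_inv_cancel_right]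
    calc _ = (xg h 6 (f 6) * xg h 7 (f 7) * xg h 8 (f 8)) * (Q * z * Q⁻¹) *
          (xg h 6 (f 6) * xg h 7 (f 7) * xg h 8 (f 8))⁻¹ := by rw [eQ]; group
      _ = (xg h 6 (f 6) * xg h 7 (f 7) * xg h 8 (f 8) * Q) * z *
          (xg h 6 (f 6) * xg h 7 (f 7) * xg h 8 (f 8) * Q)⁻¹ := by group
      _ = z := by rw [hc', mul_inv_cancel_right]
  have hE1 : E = 1 := by
    have : xg h 6 (f 6) * E * (xg h 6 (f 6))⁻¹ * z = z := by
      calc _ = xg h 6 (f 6) * E * (xg h 6 (f 6))⁻¹ * (xg h 6 (f 6) * z * (xg h 6 (f 6))⁻¹) := by rw [a6]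
        _ = xg h 6 (f 6) * (E * z) * (xg h 6 (f 6))⁻¹ := by group
        _ = z := e1
    exact conj_eq_one_iff.1 (mul_eq_right.1 this)
  have hzero : ∀ r ∈ [10, 11], (if r = 10 then f 7 else f 8) = (0 : F) := by
    refine word_injective hh (L := [10, 11]) (by decide) (fun r hr => ?_) ?_
    · simp only [List.mem_cons, List.not_mem_nil, or_false] at hr
      rcases hr with rfl | rfl <;> exact ⟨by decide, by decide⟩
    · have c1 : Commute (xg h 10 (f 7)) (xg h 11 (f 8)) :=
        xg_commute h (by decide) (by decide) (by decide) (by decide +kernel) _ _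
      have : word h [10, 11] (fun _ => (0 : F)) = 1 := by simp [word, xg_zero]
      rw [this, ← hE1, hE]
      simp only [word, List.map_cons, List.map_nil, List.prod_cons, List.prod_nil, mul_one, reduceIte,
        show ¬ (11 : ℕ) = 10 by decide]
      exact c1.eq
  have h7 : f 7 = 0 := hzero 10 (by decide)
  have h8 : f 8 = 0 := hzero 11 (by decide)
  simp only [h7, h8, xg_zero, mul_one, one_mul]
  exact mul_mem (xg_mem_rootGen _ (by decide +kernel) _) hQmem

/-- Centralizers of involutions in the Chevalley group G of type G₂ over a finite field F of characteristic two with at least four elements (this problem's root numbering for type G₂, from the Chevalley data module: a = p₁ short with index 7, b = p₂ long with index 6, −a = 4, −b = 5, 2a + b = 9, 3a + b = 10, 3a + 2b = 11; U generated by the positive root subgroups). For an element z of G with matrix x_{3a+2b}(1): the centralizer of z in G is generated by U and X_{−a}. For an element t of G with matrix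 x_{2a+b}(1): the centralizer of t in G is generated by X_{2a+b}, X_{3a+b}, X_{3a+2b}, X_b and X_{−b}. -/
theorem result {F : Type*} [Field F] [Fintype F] [CharP F 2] (hF : 4 ≤ Fintype.card F) (z t : GL Cfsg.Lie.chevG2.Idx F) (hz : (z : Matrix Cfsg.Lie.chevG2.Idx Cfsg.Lie.chevG2.Idx F) = Cfsg.Lie.chevG2.x F 11 1) (ht : (t : Matrix Cfsg.Lie.chevG2.Idx Cfsg.Lie.chevG2.Idx F) = Cfsg.Lie.chevG2.x F 9 1) :
    Cfsg.Lie.chevG2.group F ⊓ Subgroup.centralizer {z} = Cfsg.Lie.chevG2.posUnipotent F ⊔ Cfsg.Lie.chevG2.rootSubgroup F 4 ∧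
    Cfsg.Lie.chevG2.group F ⊓ Subgroup.centralizer {t} = Cfsg.Lie.chevG2.rootSubgroup F 9 ⊔ Cfsg.Lie.chevG2.rootSubgroup F 10 ⊔ Cfsg.Lie.chevG2.rootSubgroup F 11 ⊔ Cfsg.Lie.chevG2.rootSubgroup F 6 ⊔ Cfsg.Lie.chevG2.rootSubgroup F 5 := by

  have hh : Lib.Chev.Rooted Cfsg.Lie.chevG2 Lib.Chev.G2.cert := ⟨Lib.Chev.checked_G2, Lib.Chev.descent_G2⟩
  constructor
  · rw [Lib.ChevCent.centralizer_eq_of_central hh dZ_valid
      (by simpa [Cfsg.Lie.ChevalleyDatum.wordMat, dZ] using hz)
      (fun r hr => by rw [posRoots_eq] at hr; exact List.mem_append_left _ hr)]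
    rw [Lib.ChevCent.posUnipotent_eq_list hh, posRoots_eq, ← Lib.ChevCent.rootGen_singleton,
      ← Lib.ChevCent.rootGen_union]
    congr 1
    ext r
    simp only [dZ, List.mem_append, List.mem_cons, List.not_mem_nil, or_false, Set.mem_setOf_eq, Set.mem_union,
      Set.mem_singleton_iff]
  · rw [Lib.ChevCent.centralizer_eq hh dT_valid
      (by simp [Cfsg.Lie.ChevalleyDatum.wordMat, dT, ht])
      (fun u hu hc => mem_of_commute hu hc)]
    rw [← Lib.ChevCent.rootGen_singleton, ← Lib.ChevCent.rootGen_singleton, ← Lib.ChevCent.rootGen_singleton,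
      ← Lib.ChevCent.rootGen_singleton, ← Lib.ChevCent.rootGen_singleton, ← Lib.ChevCent.rootGen_union,
      ← Lib.ChevCent.rootGen_union, ← Lib.ChevCent.rootGen_union, ← Lib.ChevCent.rootGen_union]
    congr 1
    ext r
    simp only [dT, List.mem_cons, List.not_mem_nil, or_false, Set.mem_setOf_eq, Set.mem_union,
      Set.mem_singleton_iff, or_assoc]

end Cfsg.Agent.S2180
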