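import Cfsg.Statements.S2181
import Cfsg.Agent.Lib.InvE66.Final
import Cfsg.Agent.Lib.InvE66.E7Ranks

set_option autoImplicit false
open Cfsg

namespace Cfsg.Agent.S2181


set_option maxRecDepth 100000

open Cfsg.Lie Cfsg.Agent.Lib.Chev Cfsg.Agent.Lib.InvE66 in
theorem laced : Laced chevE7 Cfsg.Agent.Lib.Chev.E7.cert :=
  { toRooted := ⟨checked_E7, descent_E7⟩, laced_ok := by decide +kernel }


/-- The Chevalley group of type E₇ over a finite field of characteristic two (the matrix group generated by the root elements) has exactly five conjugacy classes of elements of order 2. -/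
theorem result {F : Type*} [Field F] [Fintype F] [CharP F 2] :
    (ConjClasses.mk '' {g : ↥(Cfsg.Lie.chevE7.group F) | orderOf g = 2}).ncard = 5 := by
  classical
  open Cfsg.Lie Cfsg.Agent.Lib.Chev Cfsg.Agent.Lib.InvE66 Cfsg.Agent.Lib.InvE66.E7 in
  have hl := laced
  open Cfsg.Lie Cfsg.Agent.Lib.Chev Cfsg.Agent.Lib.InvE66 Cfsg.Agent.Lib.InvE66.E7 in
  have a1 := hl.rep_spec (F := F) reps_ok rk1_ok rk1_len (by norm_num)
  open Cfsg.Lie Cfsg.Agent.Lib.Chev Cfsg.Agent.Lib.InvE66 Cfsg.Agent.Lib.InvE66.E7 in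
  have a2 := hl.rep_spec (F := F) reps_ok rk2_ok rk2_len (by norm_num)
  open Cfsg.Lie Cfsg.Agent.Lib.Chev Cfsg.Agent.Lib.InvE66 Cfsg.Agent.Lib.InvE66.E7 in
  have a3 := hl.rep_spec (F := F) reps_ok rk3_ok rk3_len (by norm_num)
  open Cfsg.Lie Cfsg.Agent.Lib.Chev Cfsg.Agent.Lib.InvE66 Cfsg.Agent.Lib.InvE66.E7 in
  have a4 := hl.rep_spec (F := F) reps_ok rk4_ok rk4_len (by norm_num)
  open Cfsg.Lie Cfsg.Agent.Lib.Chev Cfsg.Agent.Lib.InvE66 Cfsg.Agent.Lib.InvE66.E7 in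
  have a5 := hl.rep_spec (F := F) reps_ok rk5_ok rk5_len (by norm_num)
  open Cfsg.Lie Cfsg.Agent.Lib.Chev Cfsg.Agent.Lib.InvE66 Cfsg.Agent.Lib.InvE66.E7 in
  let P : ℕ → GL chevE7.Idx F := fun k => prodX hl.toRooted.toChecked F (tab.reps.getD k [])
  open Cfsg.Lie Cfsg.Agent.Lib.Chev Cfsg.Agent.Lib.InvE66 Cfsg.Agent.Lib.InvE66.E7 in
  have spec : ∀ k, 1 ≤ k → k < 6 → P k ∈ chevE7.group F ∧ orderOf (P k) = 2 ∧
      ((P k : Matrix chevE7.Idx chevE7.Idx F) - 1).rank = [0, 34, 52, 62, 53, 63].getD k 0 := by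
    intro k h1 h6
    interval_cases k
    exacts [a1, a2, a3, a4, a5]
  open Cfsg.Lie Cfsg.Agent.Lib.Chev Cfsg.Agent.Lib.InvE66 Cfsg.Agent.Lib.InvE66.E7 in
  let c : Fin 5 → ConjClasses ↥(chevE7.group F) := fun i =>
    ConjClasses.mk ⟨P (i.1 + 1), (spec (i.1 + 1) (by omega) (by omega)).1⟩
  open Cfsg.Lie Cfsg.Agent.Lib.Chev Cfsg.Agent.Lib.InvE66 Cfsg.Agent.Lib.InvE66.E7 in
  have himg : ConjClasses.mk '' {g : ↥(chevE7.group F) | orderOf g = 2} = Set.range c := by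
    apply Set.Subset.antisymm
    · rintro _ ⟨g, hg, rfl⟩
      obtain ⟨k, hk1, hk, z, hz, e⟩ :=
        hl.exists_nontrivial_rep reps_ok rows_ok reds_ok rfl g.2 ((Subgroup.orderOf_coe g).trans hg)
      change k < 6 at hk
      refine ⟨⟨k - 1, by omega⟩, ConjClasses.mk_eq_mk_iff_isConj.2 (isConj_iff.2 ⟨⟨z, hz⟩⁻¹, ?_⟩)⟩
      refine Subtype.ext ?_
      show z⁻¹ * P (k - 1 + 1) * z⁻¹⁻¹ = g.1
      rw [show k - 1 + 1 = k by omega]
      show z⁻¹ * prodX hl.toRooted.toChecked F (tab.reps.getD k []) * z⁻¹⁻¹ = g.1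
      rw [← e]
      group
    · rintro _ ⟨i, rfl⟩
      exact ⟨_, (Subgroup.orderOf_coe _).symm.trans (spec (i.1 + 1) (by omega) (by omega)).2.1, rfl⟩
  open Cfsg.Lie Cfsg.Agent.Lib.Chev Cfsg.Agent.Lib.InvE66 Cfsg.Agent.Lib.InvE66.E7 in
  have hinj : Function.Injective c := by
    intro i j e
    obtain ⟨x, hx⟩ := isConj_iff.1 (ConjClasses.mk_eq_mk_iff_isConj.1 e)
    have h1 := congrArg Subtype.val hx
    simp only [Subgroup.coe_mul, InvMemClass.coe_inv] at h1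
    have hr := rank_sub_one_conj x.1 (P (i.1 + 1))
    rw [h1, (spec (i.1 + 1) (by omega) (by omega)).2.2, (spec (j.1 + 1) (by omega) (by omega)).2.2] at hr
    fin_cases i <;> fin_cases j <;> simp_all
  rw [himg, Set.ncard_range_of_injective hinj, Nat.card_fin]

end Cfsg.Agent.S2181
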