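import Cfsg.Statements.S2182
import Cfsg.Agent.Lib.InvE66T.E6

set_option autoImplicit false
open Cfsg

namespace Cfsg.Agent.S2182


open Cfsg.Lie Cfsg.Agent.Lib.InvE66 Cfsg.Agent.Lib.InvE66T in
theorem main {K : Type*} [Field K] [Fintype K] [CharP K 2] (q : ℕ) (hK : Fintype.card K = q ^ 2) :
    (ConjClasses.mk '' {g : ↥(Cfsg.Lie.twistedE6 K q) | orderOf g = 2}).ncard = 3 := by
  classical
  obtain ⟨n, -, hn⟩ := FiniteField.card K 2
  have heven : 2 ∣ q := by
    refine Nat.prime_two.dvd_of_dvd_pow (n := 2) ?_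
    rw [← hK, hn]
    exact dvd_pow_self 2 n.pos.ne'
  have hq : IsPrimePow q := by
    have h2 : IsPrimePow (q ^ 2) := by
      rw [← hK, hn]
      exact (Nat.prime_two.isPrimePow).pow n.pos.ne'
    exact (isPrimePow_pow_iff two_ne_zero).1 h2
  obtain ⟨φ, hφ, h2⟩ := Cfsg.Agent.Lib.Twisted.Core.e6_powAut hq hK
  have hG : twistedE6 K q = (E6.tw φ h2).fx := E6.twisted_eq_fx φ h2 hq hK hφ
  let P : ℕ → GL chevE6.Idx K := fun k => prodX E6.laced.toRooted.toChecked K (Cfsg.Agent.Lib.InvE66T.E6.tab.reps.getD k [])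
  have hP : ∀ k, 1 ≤ k → k < 4 → P k ∈ twistedE6 K q ∧ orderOf (P k) = 2 ∧
      ((P k : Matrix chevE6.Idx chevE6.Idx K) - 1).rank = [0, 32, 22, 38].getD k 0 := by
    intro k h1 h4
    have hr := E6.reps_spec (F := K) h1 h4
    refine ⟨?_, ?_, hr⟩
    · rw [hG]
      have e : ∀ gs, orbsL E6.rho gs = Cfsg.Agent.Lib.InvE66T.E6.tab.reps.getD k [] → (∀ r ∈ gs, r < chevE6.nroots) →
          P k ∈ (E6.tw φ h2).fx := fun gs e hgs => by
        show prodX _ K _ ∈ _
        rw [← e]
        exact (E6.tw φ h2).prodX_orbs_fixed gs hgs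
      interval_cases k
      · exact e [36] (by decide +kernel) (by decide)
      · exact e [39] (by decide +kernel) (by decide)
      · have hp : prodX E6.laced.toRooted.toChecked K [36, 56, 39] = P 3 :=
          E6.laced.prodX_perm (Tw.tab_flat E6.treps_ok 3) (List.isPerm_iff.1 (by decide +kernel))
        rw [← hp, show [36, 56, 39] = orbsL E6.rho [36, 39] by decide +kernel]
        exact (E6.tw φ h2).prodX_orbs_fixed [36, 39] (by decide)
    · haveI : Fact (Nat.Prime 2) := ⟨Nat.prime_two⟩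
      refine orderOf_eq_prime (by rw [pow_two]; exact E6.laced.prodX_sq (Tw.tab_flat E6.treps_ok k)) fun e => ?_
      change ((P k : Matrix chevE6.Idx chevE6.Idx K) - 1).rank = _ at hr
      rw [e, Units.val_one, sub_self, Matrix.rank_zero] at hr
      interval_cases k <;> simp at hr
  let c : Fin 3 → ConjClasses ↥(twistedE6 K q) := fun i =>
    ConjClasses.mk ⟨P (i.1 + 1), (hP (i.1 + 1) (by omega) (by omega)).1⟩
  have himg : ConjClasses.mk '' {g : ↥(twistedE6 K q) | orderOf g = 2} = Set.range c := by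
    apply Set.Subset.antisymm
    · rintro _ ⟨g, hg, rfl⟩
      obtain ⟨k, hk1, hk, z, hz, e⟩ :=
        E6.exists_rep φ h2 hq hK hφ heven g.2 ((Subgroup.orderOf_coe g).trans hg)
      rw [← hG] at hz
      refine ⟨⟨k - 1, by omega⟩, ConjClasses.mk_eq_mk_iff_isConj.2 (isConj_iff.2 ⟨⟨z, hz⟩⁻¹, ?_⟩)⟩
      refine Subtype.ext ?_
      show z⁻¹ * P (k - 1 + 1) * z⁻¹⁻¹ = g.1
      rw [show k - 1 + 1 = k by omega]
      show z⁻¹ * prodX E6.laced.toRooted.toChecked K (Cfsg.Agent.Lib.InvE66T.E6.tab.reps.getD k []) * z⁻¹⁻¹ = g.1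
      rw [← e]
      group
    · rintro _ ⟨i, rfl⟩
      exact ⟨_, (Subgroup.orderOf_coe _).symm.trans (hP (i.1 + 1) (by omega) (by omega)).2.1, rfl⟩
  have hinj : Function.Injective c := by
    intro i j e
    obtain ⟨x, hx⟩ := isConj_iff.1 (ConjClasses.mk_eq_mk_iff_isConj.1 e)
    have h1 := congrArg Subtype.val hx
    simp only [Subgroup.coe_mul, InvMemClass.coe_inv] at h1
    have hr := rank_sub_one_conj x.1 (P (i.1 + 1))
    rw [h1, (hP (i.1 + 1) (by omega) (by omega)).2.2, (hP (j.1 + 1) (by omega) (by omega)).2.2] at hr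
    fin_cases i <;> fin_cases j <;> simp_all
  rw [himg, Set.ncard_range_of_injective hinj, Nat.card_fin]


/-- The twisted group ²E₆(q), q even, realised inside the Chevalley group of type E₆ over the field K with q² elements, has exactly three conjugacy classes of elements of order 2. -/
theorem result {K : Type*} [Field K] [Fintype K] [CharP K 2] (q : ℕ) (hK : Fintype.card K = q ^ 2) :
    (ConjClasses.mk '' {g : ↥(Cfsg.Lie.twistedE6 K q) | orderOf g = 2}).ncard = 3 := by
  exact main q hK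

end Cfsg.Agent.S2182
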