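import Cfsg.Statements.S2184
import Cfsg.Agent.Lib.ReeInv.Tits

set_option autoImplicit false
open Cfsg

namespace Cfsg.Agent.S2184

open Cfsg.Lie Cfsg.Agent.Lib.Chev Cfsg.Agent.Lib.ChevCent Cfsg.Agent.Lib.ReeInv

theorem ncard_two {H : Type*} [Group H] {S : Set H} {a b : H} (ha : a ∈ S) (hb : b ∈ S) (hne : ¬ IsConj a b)
    (hS : ∀ x ∈ S, IsConj x a ∨ IsConj x b) : (ConjClasses.mk '' S).ncard = 2 := by
  have e : ConjClasses.mk '' S = {ConjClasses.mk a, ConjClasses.mk b} := by
    refine Set.Subset.antisymm ?_ ?_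
    · rintro _ ⟨x, hx, rfl⟩
      rcases hS x hx with h | h
      · exact Or.inl (ConjClasses.mk_eq_mk_iff_isConj.2 h)
      · exact Or.inr (ConjClasses.mk_eq_mk_iff_isConj.2 h)
    · rintro _ (rfl | rfl)
      exacts [⟨a, ha, rfl⟩, ⟨b, hb, rfl⟩]
  rw [e, Set.ncard_pair fun h => hne (ConjClasses.mk_eq_mk_iff_isConj.1 h)]

theorem tits_classes : (ConjClasses.mk '' {g : TitsGroup | orderOf g = 2}).ncard = 2 := by
  obtain ⟨a, b, ha, hb, hne, hall⟩ := tits_two
  exact ncard_two ha hb hne hall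

theorem order_two {K : Type*} [Field K] [CharP K 2] (φ : K →+* K) :
    orderOf (Y φ 24 (1 : K)) = 2 ∧ orderOf (Y φ 44 (1 : K)) = 2 := by
  have hsq : ∀ k, same (pYs [(k, 0)] ++ pYs [(k, 0)]) [] = true → Y φ k (1 : K) * Y φ k 1 = 1 := fun k h => by
    have e := val_same h (vars φ (fun _ => (1 : K)) 1)
    rwa [val_append, val_pYs _ (by simp), List.map_cons, List.map_nil, Ys_cons, Ys_nil, mul_one, val_nil] at e
  have hne : Y φ 24 (1 : K) ≠ 1 ∧ Y φ 44 (1 : K) ≠ 1 := by
    constructor <;> intro h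
    · have e : val rooted.toChecked (vars φ (fun _ => (1 : K)) 1) (pY 24 0) =
          val rooted.toChecked (vars φ (fun _ => (1 : K)) 1) [] := by rw [val_pY zero_lt_one, h, val_nil]
      have q := eqn (r := 33) (P := [[1, 0]]) (by decide +kernel) e
      simp [polVal, monVal, vars] at q
    · have e : val rooted.toChecked (vars φ (fun _ => (1 : K)) 1) (pY 44 0) =
          val rooted.toChecked (vars φ (fun _ => (1 : K)) 1) [] := by rw [val_pY zero_lt_one, h, val_nil]
      have q := eqn (r := 44) (P := [[1, 0]]) (by decide +kernel) e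
      simp [polVal, monVal, vars] at q
  constructor
  · exact orderOf_eq_prime (by rw [pow_two]; exact hsq 24 (by decide +kernel)) hne.1
  · exact orderOf_eq_prime (by rw [pow_two]; exact hsq 44 (by decide +kernel)) hne.2

theorem classes {K : Type*} [Field K] [Fintype K] [CharP K 2] (m : ℕ) (hK : Fintype.card K = 2 ^ (2 * m + 1)) :
    (ConjClasses.mk '' {g : ↥(twistedF4 K (2 ^ m)) | orderOf g = 2}).ncard = 2 := by
  have he := Lib.Twisted.ReeF.pow_theta hK
  obtain ⟨σ, hσ⟩ := Lib.Twisted.ReeF.exists_sigma hK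
  refine ncard_two (a := ⟨_, mem_Y he (k := 24) (by decide) 1⟩) (b := ⟨_, mem_Y he (k := 44) (by decide) 1⟩)
    (by simpa only [Set.mem_setOf_eq, Subgroup.orderOf_mk] using (order_two (frob K m)).1)
    (by simpa only [Set.mem_setOf_eq, Subgroup.orderOf_mk] using (order_two (frob K m)).2) ?_ ?_
  · intro h
    obtain ⟨c, hc⟩ := isConj_iff.1 h.symm
    exact not_conj (frob K m) (c : GL chevF4.Idx K) (congrArg Subtype.val hc)
  · intro x hx
    rcases exists_rep hσ he (x : GL chevF4.Idx K) x.2 (by rw [Subgroup.orderOf_coe]; exact hx) with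
      ⟨g, hg, e⟩ | ⟨g, hg, e⟩
    · exact Or.inl (isConj_iff.2 ⟨⟨g, hg⟩, Subtype.ext e⟩)
    · exact Or.inr (isConj_iff.2 ⟨⟨g, hg⟩, Subtype.ext e⟩)

/-- The twisted group ²F₄(q), q = 2^(2m+1) with m ≥ 0 (realised inside the Chevalley group of type F₄ over the field K with q elements, θ the 2^m-th power map), has exactly two conjugacy classes of elements of order 2; and so does the Tits group, the commutator subgroup of ²F₄(2). -/
theorem result {K : Type*} [Field K] [Fintype K] (m : ℕ) (hK : Fintype.card K = 2 ^ (2 * m + 1)) :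
    (ConjClasses.mk '' {g : ↥(Cfsg.Lie.twistedF4 K (2 ^ m)) | orderOf g = 2}).ncard = 2 ∧ (ConjClasses.mk '' {g : Cfsg.Lie.TitsGroup | orderOf g = 2}).ncard = 2 := by

  haveI : CharP K 2 := Lib.Twisted.ReeF.charP_of_card hK
  exact ⟨classes m hK, tits_classes⟩

end Cfsg.Agent.S2184
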