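import Cfsg.Statements.S2189
import Cfsg.Agent.Lib.ChevOver.Main

set_option autoImplicit false
open Cfsg

namespace Cfsg.Agent.S2189

/-- Finite subgroups of an adjoint Chevalley group over an algebraically closed field that contain the group over a finite subfield. Let k be an algebraically closed field of prime characteristic p, G the Chevalley group of type G₂, B₂, D₄, F₄, E₆, E₇ or E₈ over k (the matrix group generated by the root elements x_s(t), t ∈ k), and q = p^a with a ≥ 1. Let L be the subgroup generated by the root elements x_s(t) with t^q = t (the Chevalley group over the field of q elements inside G), and let M be a finite subgroup of G containing L. Then for some r ≥ 1, M contains every root element x_s(t) with t^(q^r) = t and every element of M is a matrix all of whose entries c satisfy c^(q^r) = c (so M lies between the Chevalley group over the field with q^r elements and the group of points of G fixed by the q^r-th power map). -/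
theorem result {k : Type*} [Field k] [IsAlgClosed k] (p : ℕ) [Fact p.Prime] [CharP k p] (D : Cfsg.Lie.ChevalleyDatum) (hD : D ∈ [Cfsg.Lie.chevG2, Cfsg.Lie.chevB2, Cfsg.Lie.chevD4, Cfsg.Lie.chevF4, Cfsg.Lie.chevE6, Cfsg.Lie.chevE7, Cfsg.Lie.chevE8]) (a : ℕ) (ha : 1 ≤ a) (M : Subgroup (GL D.Idx k)) (hMfin : Finite ↥M) (hMG : M ≤ D.group k)
    (hLM : Subgroup.closure {g : GL D.Idx k | ∃ (s : ℕ) (t : k), t ^ (p ^ a) = t ∧ (g : Matrix D.Idx D.Idx k) = D.x k s t} ≤ M) :
    ∃ r : ℕ, 1 ≤ r ∧ Subgroup.closure {g : GL D.Idx k | ∃ (s : ℕ) (t : k), t ^ ((p ^ a) ^ r) = t ∧ (g : Matrix D.Idx D.Idx k) = D.x k s t} ≤ M ∧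
      ∀ g ∈ M, ∀ i j : D.Idx, ((g : Matrix D.Idx D.Idx k) i j) ^ ((p ^ a) ^ r) = (g : Matrix D.Idx D.Idx k) i j := by
  classical
  have hp : p.Prime := Fact.out
  set q := p ^ a
  have hq1 : 1 < q := Nat.one_lt_pow (by omega) hp.one_lt
  have hmemM : ∀ (g : GL D.Idx k) (s : ℕ) (t : k), t ^ q = t →
      (g : Matrix D.Idx D.Idx k) = D.x k s t → g ∈ M := fun g s t ht e =>
    hLM (Subgroup.subset_closure ⟨s, t, ht, e⟩)
  obtain ⟨n, hn, hroot, hent⟩ := Lib.ChevOver.exists_field_bound p hD M hMfin hMG
    fun g r e => hmemM g r 1 (one_pow _) e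
  obtain ⟨C, ⟨hh⟩⟩ : ∃ C, Nonempty (Lib.Chev.Rooted D C) := by
    simp only [List.mem_cons, List.not_mem_nil, or_false] at hD
    rcases hD with rfl | rfl | rfl | rfl | rfl | rfl | rfl
    · exact ⟨_, ⟨Lib.Chev.rooted_G2⟩⟩
    · exact ⟨_, ⟨Lib.Chev.rooted_B2⟩⟩
    · exact ⟨_, ⟨Lib.Chev.Rooted.mk Lib.Chev.checked_D4 Lib.Chev.descent_D4⟩⟩
    · exact ⟨_, ⟨Lib.Chev.Rooted.mk Lib.Chev.checked_F4 Lib.Chev.descent_F4⟩⟩
    · exact ⟨_, ⟨Lib.Chev.Rooted.mk Lib.Chev.checked_E6 Lib.Chev.descent_E6⟩⟩
    · exact ⟨_, ⟨Lib.Chev.Rooted.mk Lib.Chev.checked_E7 Lib.Chev.descent_E7⟩⟩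
    · exact ⟨_, ⟨Lib.Chev.Rooted.mk Lib.Chev.checked_E8 Lib.Chev.descent_E8⟩⟩
  have h0 : 0 < D.nroots := by
    have := hh.toChecked.rank_pos
    have := hh.toChecked.simple_lt this
    omega
  -- the field with `q` elements is fixed by the `p ^ n`th power
  have hfix : ∀ t : k, t ^ q = t → t ^ p ^ n = t := by
    intro t ht
    let x : GL D.Idx k := Lib.ChevOver.xg hh 0 t
    have hx : x ∈ M := hmemM x 0 t ht (Lib.ChevOver.coe_xg hh 0 t)
    have e : Lib.ChevField.glMap D (iterateFrobenius k p n) x = x := Units.ext <| Matrix.ext fun i j => by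
      rw [Lib.ChevField.coe_glMap, Matrix.map_apply, iterateFrobenius_def]
      exact hent x hx i j
    rw [Lib.ChevOver.glMap_xg, iterateFrobenius_def] at e
    exact Lib.ChevOver.xg_injective hh h0 e
  -- hence `n` is a multiple of `a`
  obtain ⟨r, hr⟩ : a ∣ n := by
    rw [Nat.dvd_iff_mod_eq_zero]
    by_contra hb
    set b := n % a
    have hb' : b < a := Nat.mod_lt _ (by omega)
    have hsub : ∀ t : k, t ^ q = t → t ^ p ^ b = t := by
      intro t ht
      have h1 : ∀ m, t ^ p ^ (a * m) = t := by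
        intro m
        induction m with
        | zero => simp
        | succ m ih => rw [Nat.mul_succ, pow_add, pow_mul, ih, ht]
      have h2 := hfix t ht
      rwa [← Nat.div_add_mod n a, pow_add, pow_mul, h1] at h2
    have hne : (Polynomial.X ^ p ^ b - Polynomial.X : Polynomial k) ≠ 0 :=
      FiniteField.X_pow_card_pow_sub_X_ne_zero k hb hp.one_lt
    have hne' : (Polynomial.X ^ q - Polynomial.X : Polynomial k) ≠ 0 :=
      FiniteField.X_pow_card_pow_sub_X_ne_zero k (by omega) hp.one_lt
    have hcard : (Polynomial.X ^ q - Polynomial.X : Polynomial k).roots.toFinset.card = q := by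
      rw [Multiset.toFinset_card_of_nodup (Polynomial.nodup_roots (galois_poly_separable p q
        (dvd_pow_self p (by omega)))), IsAlgClosed.card_roots_eq_natDegree,
        FiniteField.X_pow_card_sub_X_natDegree_eq k hq1]
    have hle : (Polynomial.X ^ q - Polynomial.X : Polynomial k).roots.toFinset.card ≤
        (Polynomial.X ^ p ^ b - Polynomial.X : Polynomial k).roots.toFinset.card := by
      refine Finset.card_le_card fun t ht => ?_
      simp only [Multiset.mem_toFinset, Polynomial.mem_roots hne', Polynomial.mem_roots hne, Polynomial.IsRoot.def,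
        Polynomial.eval_sub, Polynomial.eval_pow, Polynomial.eval_X, sub_eq_zero] at ht ⊢
      exact hsub t ht
    have hlt : p ^ b < q := Nat.pow_lt_pow_right hp.one_lt hb'
    have := (hle.trans (Multiset.toFinset_card_le _)).trans (Polynomial.card_roots' _)
    rw [hcard, FiniteField.X_pow_card_pow_sub_X_natDegree_eq k hb hp.one_lt] at this
    omega
  have hpow : (p ^ a) ^ r = p ^ n := by rw [← pow_mul, hr]
  refine ⟨r, Nat.one_le_iff_ne_zero.2 fun e => by simp [e] at hr; omega, ?_, fun g hg i j => by rw [hpow]; exact hent g hg i j⟩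
  rw [Subgroup.closure_le]
  rintro g ⟨s, t, ht, e⟩
  exact hroot g s t (hpow ▸ ht) e

end Cfsg.Agent.S2189
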