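import Cfsg.Statements.S2197
import Cfsg.Agent.Lib.Compute.Tits.NoTwoTransitive

set_option autoImplicit false
open Cfsg

namespace Cfsg.Agent.S2197

/-- The Tits group (the commutator subgroup of ²F₄(2)) has no faithful 2-transitive action on a finite set with more than two points. -/
theorem result {Ω : Type*} [Fintype Ω] [MulAction Cfsg.Lie.TitsGroup Ω] [FaithfulSMul Cfsg.Lie.TitsGroup Ω] (hΩ : 3 ≤ Fintype.card Ω) :
    ¬ MulAction.IsMultiplyPretransitive Cfsg.Lie.TitsGroup Ω 2 := by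
  intro h2
  letI : MulAction ↥Cfsg.Agent.Lib.Compute.Tits.titsT Ω :=
    MulAction.compHom Ω Cfsg.Agent.Lib.Compute.Tits.titsEquiv.symm.toMonoidHom
  haveI : FaithfulSMul ↥Cfsg.Agent.Lib.Compute.Tits.titsT Ω :=
    ⟨fun {a b} h => Cfsg.Agent.Lib.Compute.Tits.titsEquiv.symm.injective (eq_of_smul_eq_smul h)⟩
  refine Cfsg.Agent.Lib.Compute.Tits.not_two_transitive (Ω := Ω) (by rwa [Nat.card_eq_fintype_card]) ?_
  rw [MulAction.is_two_pretransitive_iff] at h2 ⊢
  intro a b c d hab hcd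
  obtain ⟨g, h1, h3⟩ := h2 hab hcd
  refine ⟨Cfsg.Agent.Lib.Compute.Tits.titsEquiv g, ?_, ?_⟩
  · show Cfsg.Agent.Lib.Compute.Tits.titsEquiv.symm (Cfsg.Agent.Lib.Compute.Tits.titsEquiv g) • a = c
    rw [MulEquiv.symm_apply_apply, h1]
  · show Cfsg.Agent.Lib.Compute.Tits.titsEquiv.symm (Cfsg.Agent.Lib.Compute.Tits.titsEquiv g) • b = d
    rw [MulEquiv.symm_apply_apply, h3]

end Cfsg.Agent.S2197
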