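import Cfsg.Statements.S2205
import Mathlib
import Cfsg.Agent.Lib.DoublyPrimitive55.Final

set_option autoImplicit false
open Cfsg

namespace Cfsg.Agent.S2205
open MulAction Pointwise in
/-- A nontrivial block of the stabilizer gives a system of blocks. -/
theorem aux {G Ω : Type*} [Group G] [Finite G] [Finite Ω] [MulAction G Ω] [FaithfulSMul G Ω] {p : ℕ}
    (hp : p.Prime) (hΩ : Nat.card Ω = p ^ 2 + 1)
    (h2 : ∀ {a b c d : Ω}, a ≠ b → c ≠ d → ∃ g : G, g • a = c ∧ g • b = d) (a : Ω)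
    [IsPretransitive ↥(stabilizer G a) ↥(SubMulAction.ofStabilizer G a)]
    (B : Set ↥(SubMulAction.ofStabilizer G a)) (hB : IsBlock ↥(stabilizer G a) B)
    (hBcard : B.ncard = p) : p = 2 ∧ Nat.card G = 20 := by
  let P : Ω → Ω → Prop := fun x y => ∃ x' y' : ↥(SubMulAction.ofStabilizer G a), (x' : Ω) = x ∧ (y' : Ω) = y ∧
    ∃ k : stabilizer G a, x' ∈ k • B ∧ y' ∈ k • B
  have Psmul : ∀ {k : G} {x y}, k • a = a → P x y → P (k • x) (k • y) := by
    rintro k _ _ hk ⟨x', y', rfl, rfl, l, h1, h2'⟩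
    refine ⟨(⟨k, hk⟩ : stabilizer G a) • x', (⟨k, hk⟩ : stabilizer G a) • y', rfl, rfl,
      (⟨k, hk⟩ : stabilizer G a) * l, ?_, ?_⟩ <;> rw [mul_smul] <;>
      exact Set.smul_mem_smul_set (by assumption)
  have hne : B.Nonempty := Set.nonempty_of_ncard_ne_zero (by rw [hBcard]; exact hp.ne_zero)
  have hcover : ∀ x' : ↥(SubMulAction.ofStabilizer G a), ∃ k : stabilizer G a, x' ∈ k • B := by
    intro x'
    obtain ⟨b₀, hb₀⟩ := hne
    obtain ⟨k, hk⟩ := exists_smul_eq (stabilizer G a) b₀ x'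
    exact ⟨k, hk ▸ Set.smul_mem_smul_set hb₀⟩
  have hanyg : ∀ {u v w : Ω} {g : G}, g • a = u →
      ((∃ g' : G, g' • a = u ∧ P (g'⁻¹ • v) (g'⁻¹ • w)) ↔ P (g⁻¹ • v) (g⁻¹ • w)) := by
    intro u v w g hg
    refine ⟨?_, fun h => ⟨g, hg, h⟩⟩
    rintro ⟨g', hg', h⟩
    have hk : (g⁻¹ * g') • a = a := by rw [mul_smul, hg', inv_smul_eq_iff, hg]
    have := Psmul hk h
    rwa [mul_smul, mul_smul, smul_inv_smul, smul_inv_smul] at this
  have hex : ∀ u : Ω, ∃ g : G, g • a = u := by
    intro u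
    rcases eq_or_ne u a with rfl | hu
    · exact ⟨1, one_smul _ _⟩
    · obtain ⟨g, hg, -⟩ := h2 hu.symm hu
      exact ⟨g, hg⟩
  let S : Lib.DoublyPrimitive55.Sys G Ω p :=
    { R := fun u v w => ∃ g : G, g • a = u ∧ P (g⁻¹ • v) (g⁻¹ • w)
      ne_left := by
        rintro u v w ⟨g, hg, x', y', hx, -⟩ rfl
        exact x'.2 (show (x' : Ω) = a by rw [hx, inv_smul_eq_iff, hg])
      refl := by
        intro u v hv
        obtain ⟨g, rfl⟩ := hex u
        have hm : g⁻¹ • v ∈ SubMulAction.ofStabilizer G a := fun h => hv ((inv_smul_eq_iff).1 h)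
        obtain ⟨k, hk⟩ := hcover ⟨_, hm⟩
        exact ⟨g, rfl, ⟨_, hm⟩, ⟨_, hm⟩, rfl, rfl, k, hk, hk⟩
      symm := by
        rintro u v w ⟨g, hg, x', y', hx, hy, k, h1, h2'⟩
        exact ⟨g, hg, y', x', hy, hx, k, h2', h1⟩
      trans := by
        rintro u v w x h ⟨g, hg, h'⟩
        obtain ⟨x', y', hx, hy, k, h1, h2'⟩ := (hanyg hg).1 h
        obtain ⟨y'', z', hy', hz, l, h3, h4⟩ := h'
        obtain rfl : y' = y'' := Subtype.ext (hy.trans hy'.symm)
        refine ⟨g, hg, x', z', hx, hz, k, h1, ?_⟩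
        rwa [hB.smul_eq_smul_of_nonempty ⟨y', h2', h3⟩]
      smul := by
        rintro u v w k ⟨g, hg, h⟩
        refine ⟨k * g, by rw [mul_smul, hg], ?_⟩
        simpa [mul_smul] using h
      card_block := by
        intro u v hv
        obtain ⟨g, rfl⟩ := hex u
        have hm : g⁻¹ • v ∈ SubMulAction.ofStabilizer G a := fun h => hv ((inv_smul_eq_iff).1 h)
        obtain ⟨k, hk⟩ := hcover ⟨_, hm⟩
        have : {w | ∃ g' : G, g' • a = g • a ∧ P (g'⁻¹ • v) (g'⁻¹ • w)} =
            (fun x : ↥(SubMulAction.ofStabilizer G a) => g • (x : Ω)) '' (k • B) := by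
          ext w
          rw [Set.mem_setOf_eq, hanyg rfl]
          constructor
          · rintro ⟨x', y', hx, hy, l, h1, h2'⟩
            obtain rfl : x' = ⟨_, hm⟩ := Subtype.ext hx
            refine ⟨y', ?_, by show g • (y' : Ω) = w; rw [hy, smul_inv_smul]⟩
            rwa [hB.smul_eq_smul_of_nonempty ⟨_, hk, h1⟩]
          · rintro ⟨y', hy', rfl⟩
            exact ⟨⟨_, hm⟩, y', rfl, (inv_smul_smul g (y' : Ω)).symm, k, hk, hy'⟩
        have hinj : Function.Injective fun x : ↥(SubMulAction.ofStabilizer G a) => g • (x : Ω) :=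
          (MulAction.injective g).comp Subtype.val_injective
        rw [this, Set.ncard_image_of_injective _ hinj,
          ← Set.image_smul, Set.ncard_image_of_injective _ (MulAction.injective k), hBcard]
      card_univ := hΩ
      two_trans := h2 }
  exact S.eq_two_and_card hp a

/-- A finite group acting faithfully and 2-transitively on a set with p² + 1 points, p a prime, is doubly primitive — a point stabilizer acts primitively on the remaining p² points — unless p = 2 and the group is the Frobenius group of order 20. -/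
theorem result {G Ω : Type*} [Group G] [Finite G] [Fintype Ω] [MulAction G Ω] [FaithfulSMul G Ω] (p : ℕ) (hp : p.Prime) (hΩ : Fintype.card Ω = p ^ 2 + 1) (h2 : MulAction.IsMultiplyPretransitive G Ω 2) (a : Ω) :
    MulAction.IsPreprimitive ↥(MulAction.stabilizer G a) ↥(SubMulAction.ofStabilizer G a) ∨ (p = 2 ∧ Nat.card G = 20) := by
  haveI := Fact.mk hp
  rw [← Nat.card_eq_fintype_card] at hΩ
  have h2' : ∀ {a b c d : Ω}, a ≠ b → c ≠ d → ∃ g : G, g • a = c ∧ g • b = d :=
    MulAction.is_two_pretransitive_iff.1 h2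
  haveI : MulAction.IsPretransitive ↥(MulAction.stabilizer G a) ↥(SubMulAction.ofStabilizer G a) := ⟨fun x y => by
    obtain ⟨g, hg1, hg2⟩ := h2' (a := a) (b := (x : Ω)) (c := a) (d := (y : Ω)) (Ne.symm x.2) (Ne.symm y.2)
    exact ⟨⟨g, hg1⟩, Subtype.ext hg2⟩⟩
  by_cases h : MulAction.IsPreprimitive ↥(MulAction.stabilizer G a) ↥(SubMulAction.ofStabilizer G a)
  · exact Or.inl h
  right
  obtain ⟨B, hB, hBt⟩ : ∃ B : Set ↥(SubMulAction.ofStabilizer G a),
      MulAction.IsBlock ↥(MulAction.stabilizer G a) B ∧ ¬ MulAction.IsTrivialBlock B := by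
    by_contra hc
    push_neg at hc
    exact h ⟨fun {B} hB => hc B hB⟩
  rw [MulAction.IsTrivialBlock, not_or] at hBt
  have hne : B.Nonempty := (Set.not_subsingleton_iff.1 hBt.1).nonempty
  have hA : Nat.card ↥(SubMulAction.ofStabilizer G a) = p ^ 2 := by
    rw [SubMulAction.nat_card_ofStabilizer_eq, hΩ, Nat.add_sub_cancel]
  have hd := hB.ncard_dvd_card hne
  rw [hA] at hd
  obtain ⟨i, hi, hi'⟩ := (Nat.dvd_prime_pow hp).1 hd
  refine aux hp hΩ h2' a B hB ?_
  interval_cases i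
  · exact absurd (Set.ncard_le_one_iff_subsingleton.1 (by rw [hi']; simp)) hBt.1
  · simpa using hi'
  · exact absurd (Set.eq_of_subset_of_ncard_le (Set.subset_univ B) (by rw [Set.ncard_univ, hA, hi'])) hBt.2

end Cfsg.Agent.S2205
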