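import Cfsg.Statements.S2209
import Cfsg.Agent.Lib.ChevCent.Lemmas
-- import your own Cfsg.Agent.* helpers here

set_option autoImplicit false
open Cfsg

namespace Cfsg.Agent.S2209

def dE6 : Lib.ChevCent.CData where
  Zr := [71]
  Sig := [71]
  J := [0, 2, 3, 4, 5]
  short := []
  R := List.range' 36 36 ++ [15, 29, 32, 34, 35]
  M := [[], [1], [], [], [], []]

def dE7 : Lib.ChevCent.CData where
  Zr := [125]
  Sig := [125]
  J := [1, 2, 3, 4, 5, 6]
  short := []
  R := List.range' 63 63 ++ [47, 52, 56, 59, 61, 62]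
  M := [[1], [], [], [], [], [], []]

def dE8 : Lib.ChevCent.CData where
  Zr := [239]
  Sig := [239]
  J := [0, 1, 2, 3, 4, 5, 6]
  short := []
  R := List.range' 120 120 ++ [77, 98, 104, 109, 113, 116, 118]
  M := [[], [], [], [], [], [], [], [1]]

theorem dE6_valid : Lib.ChevCent.Valid Cfsg.Lie.chevE6 Lib.Chev.E6.cert dE6 :=
  ⟨by decide +kernel, by decide +kernel, by decide +kernel⟩

theorem dE7_valid : Lib.ChevCent.Valid Cfsg.Lie.chevE7 Lib.Chev.E7.cert dE7 :=
  ⟨by decide +kernel, by decide +kernel, by decide +kernel⟩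

theorem dE8_valid : Lib.ChevCent.Valid Cfsg.Lie.chevE8 Lib.Chev.E8.cert dE8 :=
  ⟨by decide +kernel, by decide +kernel, by decide +kernel⟩

theorem pos_E6 : dE6.R = Cfsg.Lie.chevE6.posRoots ++ [15, 29, 32, 34, 35] := by decide +kernel

theorem pos_E7 : dE7.R = Cfsg.Lie.chevE7.posRoots ++ [47, 52, 56, 59, 61, 62] := by decide +kernel

theorem pos_E8 : dE8.R = Cfsg.Lie.chevE8.posRoots ++ [77, 98, 104, 109, 113, 116, 118] := by decide +kernel

theorem of_data {F : Type*} [Field F] [CharP F 2] {D : Cfsg.Lie.ChevalleyDatum} {C : Lib.Chev.Cert}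
    (hh : Lib.Chev.Rooted D C) {d : Lib.ChevCent.CData} (hv : Lib.ChevCent.Valid D C d) (hZ : d.Zr = [D.nroots - 1])
    {L : List ℕ} (hR : d.R = D.posRoots ++ L) {t : GL D.Idx F}
    (ht : (t : Matrix D.Idx D.Idx F) = D.x F (D.nroots - 1) 1) :
    D.group F ⊓ Subgroup.centralizer {t} = D.posUnipotent F ⊔
      Subgroup.closure {g : GL D.Idx F | ∃ s ∈ L, ∃ c : F, (g : Matrix D.Idx D.Idx F) = D.x F s c} := by
  rw [Lib.ChevCent.centralizer_eq_of_central hh hv (by simpa [Cfsg.Lie.ChevalleyDatum.wordMat, hZ] using ht)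
      (fun r hr => by rw [hR]; exact List.mem_append_left _ hr),
    Lib.ChevCent.posUnipotent_eq_list hh, hR]
  have e : {r | r ∈ D.posRoots ++ L} = {r | r ∈ D.posRoots} ∪ {r | r ∈ L} := by ext; simp
  rw [e, Lib.ChevCent.rootGen_union]
  exact congrArg (fun S => Lib.Chev.rootGen D F {r | r ∈ D.posRoots} ⊔ Subgroup.closure S)
    (Set.ext fun g => ⟨fun ⟨r, c, hr, hg⟩ => ⟨r, hr, c, hg⟩, fun ⟨r, hr, c, hg⟩ => ⟨r, c, hr, hg⟩⟩)

/-- Centralizer of a long root involution in the Chevalley groups of type E₆, E₇, E₈ over a finite field F of characteristic two. Let G be the group generated by the root elements, U the subgroup generated by the positive root subgroups, r the highest root (the last root index: 71, 125, 239 respectively), and t the element of G with matrix x_r(1). Then the centralizer of t in G is the subgroup generated by U together with the root subgroups X_{−p} for the fundamental roots p orthogonal to r — all fundamental roots except p₂ for E₆, except p₁ for E₇, except p₈ for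 E₈ (numbering with p₁–p₃–p₄–…–p_l the long chain and p₂ joined to p₄); the indices of these negative fundamental roots are 15, 29, 32, 34, 35 (E₆), 47, 52, 56, 59, 61, 62 (E₇), 77, 98, 104, 109, 113, 116, 118 (E₈). (This is the unipotent radical of the corresponding maximal parabolic subgroup extended by the root subgroups of its Levi factor, of type A₅, D₆, E₇ respectively.) -/
theorem result {F : Type*} [Field F] [Fintype F] [CharP F 2] (d : Cfsg.Lie.ChevalleyDatum × List ℕ)
    (hd : d ∈ [(Cfsg.Lie.chevE6, [15, 29, 32, 34, 35]), (Cfsg.Lie.chevE7, [47, 52, 56, 59, 61, 62]), (Cfsg.Lie.chevE8, [77, 98, 104, 109, 113, 116, 118])])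
    (t : GL d.1.Idx F) (ht : (t : Matrix d.1.Idx d.1.Idx F) = d.1.x F (d.1.nroots - 1) 1) :
    d.1.group F ⊓ Subgroup.centralizer {t} = d.1.posUnipotent F ⊔ Subgroup.closure {g : GL d.1.Idx F | ∃ s ∈ d.2, ∃ c : F, (g : Matrix d.1.Idx d.1.Idx F) = d.1.x F s c} := by
  simp only [List.mem_cons, List.not_mem_nil, or_false] at hd
  rcases hd with rfl | rfl | rfl
  · exact of_data (C := Lib.Chev.E6.cert) ⟨Lib.Chev.checked_E6, Lib.Chev.descent_E6⟩ dE6_valid rfl pos_E6 ht
  · exact of_data (C := Lib.Chev.E7.cert) ⟨Lib.Chev.checked_E7, Lib.Chev.descent_E7⟩ dE7_valid rfl pos_E7 ht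
  · exact of_data (C := Lib.Chev.E8.cert) ⟨Lib.Chev.checked_E8, Lib.Chev.descent_E8⟩ dE8_valid rfl pos_E8 ht

end Cfsg.Agent.S2209
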