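import Cfsg.Statements.S2219
import Cfsg.Agent.S1011
import Cfsg.Agent.S1020
import Cfsg.Agent.Lib.Order9TwoQ.InvMain
import Cfsg.Agent.Lib.Order9TwoQ.KleinMain
import Mathlib

set_option autoImplicit false
open Cfsg

namespace Cfsg.Agent.S2219

/-- Let G be a non-abelian finite simple group of order 9·2ᵃ·qᵇ for a prime q other than 2 and 3, having at least three conjugacy classes of nonidentity 3-elements (elements of order 3 or 9). Then G is isomorphic to PSL(2,8) or to PSL(2,17). -/
theorem result {G : Type*} [Group G] [Finite G] [IsSimpleGroup G] (hG : ¬ IsMulCommutative G)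
    (q a b : ℕ) (hq : q.Prime) (hq2 : q ≠ 2) (hq3 : q ≠ 3) (hcard : Nat.card G = 9 * 2 ^ a * q ^ b)
    (h3 : 3 ≤ Nat.card {C : ConjClasses G // ∃ g ∈ C.carrier, g ≠ 1 ∧ orderOf g ∣ 9}) :
    (∃ (F : Type) (_ : Field F) (_ : Fintype F), Fintype.card F = 8 ∧
        Nonempty (G ≃* Matrix.ProjectiveSpecialLinearGroup (Fin 2) F)) ∨
      Nonempty (G ≃* Matrix.ProjectiveSpecialLinearGroup (Fin 2) (ZMod 17)) := by
  classical
  cases nonempty_fintype G
  haveI : Fact q.Prime := ⟨hq⟩
  haveI : Fact (Nat.Prime 3) := Lib.Order9TwoQ.fact_three'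
  let R : Sylow 3 G := default
  have hR : Nat.card (R : Subgroup G) = 9 := by
    rw [R.card_eq_multiplicity, hcard]
    have h2 : ¬ 3 ∣ 2 ^ a * q ^ b := fun h => by
      rcases Nat.prime_three.dvd_mul.mp h with h | h
      · exact absurd (Nat.prime_three.dvd_of_dvd_pow h) (by norm_num)
      · exact hq3 ((Nat.prime_dvd_prime_iff_eq Nat.prime_three hq).mp
          (Nat.prime_three.dvd_of_dvd_pow h)).symm
    rw [mul_assoc, Nat.factorization_mul (by norm_num) (mul_ne_zero (by positivity) (pow_ne_zero _ hq.ne_zero)),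
      Finsupp.add_apply, Nat.factorization_eq_zero_of_not_dvd h2, add_zero,
      show (9 : ℕ) = 3 ^ 2 from rfl, Nat.prime_three.factorization_pow, Finsupp.single_eq_same]
  rcases Lib.Order9TwoQ.local_types R hR hG h3 with hI | ⟨x, y, hK⟩
  · obtain ⟨M, hM⟩ := Lib.CharCount.exists_isPModular 3 Nat.prime_three
    haveI := Lib.Blocks.isPModular_isPrime hM
    obtain ⟨X, Ys, δ, hD⟩ := hI.exists_charData hG hM
    obtain ⟨hδ, rfl, hdeg⟩ := hD.degrees hG hI hM hq2 hq3 hcard
    rw [pow_one] at hcard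
    rcases hD.card_eq hI hG hM hq2 hq3 hcard hδ hdeg with h | h
    · left
      haveI : Fact (Nat.Prime 2) := ⟨Nat.prime_two⟩
      letI : Fintype (GaloisField 2 3) := Fintype.ofFinite _
      have h8 : Fintype.card (GaloisField 2 3) = 8 := by
        rw [← Nat.card_eq_fintype_card, GaloisField.card 2 3 (by norm_num)]; norm_num
      exact ⟨GaloisField 2 3, inferInstance, inferInstance, h8, S1011.result h h8⟩
    · right
      haveI : Fact (Nat.Prime 17) := ⟨by norm_num⟩
      exact S1020.result h (ZMod.card 17)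
  · exact (Lib.Order9TwoQ.not_kleinType hG hq2 hq3 hcard hK).elim

end Cfsg.Agent.S2219
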