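import Cfsg.Statements.S2222
import Cfsg.Agent.Lib.SylowTwoPerm.Basic
-- import your own Cfsg.Agent.* helpers here

set_option autoImplicit false
open Cfsg

namespace Cfsg.Agent.S2222


lemma pronormal_of_normalizer_le {G : Type*} [Group G] [Finite G] {p : ℕ} [Fact p.Prime]
    (H : Subgroup G) (P : Sylow p G) (hPH : (P : Subgroup G) ≤ H)
    (hN : Subgroup.normalizer (P : Set G) ≤ Subgroup.normalizer (H : Set G)) :
    IsPronormal H := by
  intro g
  set X := H ⊔ H.map (MulAut.conj g).toMonoidHom with hX
  have hP : (P : Subgroup G) ≤ X := hPH.trans le_sup_left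
  have hgP : ((g • P : Sylow p G) : Subgroup G) ≤ X := by
    rw [Sylow.smul_def, Sylow.pointwise_smul_def]
    refine le_trans ?_ (le_sup_right (a := H))
    rw [Subgroup.pointwise_smul_def]
    exact Subgroup.map_mono hPH
  obtain ⟨x, hx⟩ := MulAction.exists_smul_eq X (P.subtype hP) ((g • P).subtype hgP)
  rw [Sylow.smul_subtype hP] at hx
  have hx' : (x : G) • P = g • P := Sylow.subtype_injective hx
  have hn : (x : G)⁻¹ * g ∈ Subgroup.normalizer (P : Set G) := by
    rw [← Sylow.smul_eq_iff_mem_normalizer, mul_smul, ← hx', inv_smul_smul]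
  have hh := Subgroup.mem_normalizer_iff.mp (hN hn)
  refine ⟨x, x.2, ?_⟩
  ext y
  simp only [Subgroup.mem_map_equiv, MulAut.conj_symm_apply]
  rw [hh (g⁻¹ * y * g)]
  group

lemma index_normalCore_dvd {G : Type*} [Group G] [Finite G] (K : Subgroup G) :
    K.normalCore.index ∣ K.index.factorial := by
  rw [Subgroup.normalCore_eq_ker, Subgroup.index_ker, Subgroup.index, ← Nat.card_perm]
  exact Subgroup.card_subgroup_dvd_card _

lemma card_A5 : Nat.card (alternatingGroup (Fin 5)) = 60 := by
  rw [nat_card_alternatingGroup, Nat.card_fin]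
  rfl

lemma index_ne_three (K : Subgroup (alternatingGroup (Fin 5))) : K.index ≠ 3 := by
  intro h
  have hd := index_normalCore_dvd K
  rcases (Subgroup.normalCore_normal K).eq_bot_or_eq_top with hb | hb
  · rw [hb, Subgroup.index_bot, card_A5, h] at hd
    norm_num [Nat.factorial] at hd
  · have := Subgroup.normalCore_le K
    rw [hb, top_le_iff] at this
    rw [this, Subgroup.index_top] at h
    omega

lemma orderOf_ne_six (w : alternatingGroup (Fin 5)) : orderOf w ≠ 6 := by
  intro h
  rw [← Subgroup.orderOf_coe, ← Equiv.Perm.lcm_cycleType] at h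
  have h2 := fun a ha => Equiv.Perm.two_le_of_mem_cycleType (σ := (w : Equiv.Perm (Fin 5))) (n := a) ha
  have hs := Equiv.Perm.sum_cycleType_le (w : Equiv.Perm (Fin 5))
  have hsign := (Equiv.Perm.sign_of_cycleType (w : Equiv.Perm (Fin 5))).symm.trans w.2
  rw [Fintype.card_fin] at hs
  generalize (w : Equiv.Perm (Fin 5)).cycleType = s at h h2 hs hsign
  have key : ∀ q : ℕ, q.Prime → q ∣ 6 → ∃ a ∈ s, q ∣ a := by
    intro q hq h6
    refine hq.prime.exists_mem_multiset_dvd (h6.trans ?_)
    rw [← h]
    exact Multiset.lcm_dvd.mpr fun a ha => Multiset.dvd_prod ha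
  obtain ⟨a, ha, ha2⟩ := key 2 Nat.prime_two (by norm_num)
  obtain ⟨b, hb, hb3⟩ := key 3 Nat.prime_three (by norm_num)
  obtain ⟨t, rfl⟩ := Multiset.exists_cons_of_mem ha
  rw [Multiset.sum_cons] at hs
  have hane : a ≠ b := by
    rintro rfl
    obtain ⟨k, rfl⟩ := Nat.Coprime.mul_dvd_of_dvd_of_dvd (by norm_num : Nat.Coprime 2 3) ha2 hb3
    have := h2 _ ha
    omega
  obtain ⟨u, rfl⟩ := Multiset.exists_cons_of_mem ((Multiset.mem_cons.mp hb).resolve_left hane.symm)
  rw [Multiset.sum_cons] at hs
  have hu : u = 0 := by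
    rcases u.empty_or_exists_mem with hu | ⟨c, hc⟩
    · exact hu
    · exfalso
      have hc2 := h2 c (by simp [hc])
      have := Multiset.le_sum_of_mem hc
      obtain ⟨k, rfl⟩ := ha2
      obtain ⟨l, rfl⟩ := hb3
      have := h2 (2 * k) (by simp)
      have := h2 (3 * l) (by simp)
      omega
  subst hu
  obtain ⟨k, rfl⟩ := ha2
  obtain ⟨l, rfl⟩ := hb3
  have := h2 (2 * k) (by simp)
  have := h2 (3 * l) (by simp)
  simp only [Multiset.sum_zero, add_zero] at hs
  obtain rfl : k = 1 := by omega
  obtain rfl : l = 1 := by omega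
  simp at hsign
  exact absurd hsign (by decide)

lemma normal_four_of_twelve (H : Subgroup (alternatingGroup (Fin 5))) (hH : Nat.card H = 12)
    (P : Subgroup H) (hP : Nat.card P = 4) : P.Normal := by
  have hidx : P.index = 3 := by
    have := P.card_mul_index
    rw [hP, hH] at this
    omega
  have hd := index_normalCore_dvd P
  rw [hidx] at hd
  have hle : P.normalCore ≤ P := Subgroup.normalCore_le P
  have hKP : Nat.card P.normalCore ∣ 4 := hP ▸ Subgroup.card_dvd_of_le hle
  have hm := P.normalCore.card_mul_index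
  rw [hH] at hm
  have hcases : Nat.card P.normalCore ∈ Nat.divisors 4 := Nat.mem_divisors.mpr ⟨hKP, by norm_num⟩
  rw [show Nat.divisors 4 = {1, 2, 4} by rfl] at hcases
  simp only [Finset.mem_insert, Finset.mem_singleton] at hcases
  rcases hcases with h | h | h
  · exfalso
    rw [h, one_mul] at hm
    rw [hm] at hd
    norm_num [Nat.factorial] at hd
  · exfalso
    obtain ⟨⟨z, hz⟩, hzo⟩ := exists_prime_orderOf_dvd_card' (G := P.normalCore) 2 (hp := ⟨Nat.prime_two⟩) (by rw [h])
    rw [← Subgroup.orderOf_coe] at hzo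
    change orderOf z = 2 at hzo
    obtain ⟨u, huo⟩ := exists_prime_orderOf_dvd_card' (G := H) 3 (hp := ⟨Nat.prime_three⟩) (by rw [hH]; norm_num)
    have hcomm : Commute z u := by
      have hm2 : u * z * u⁻¹ ∈ P.normalCore := (Subgroup.normalCore_normal P).conj_mem z hz u
      have h2 : ∀ y ∈ P.normalCore, y = 1 ∨ y = z := by
        intro y hy
        obtain ⟨e⟩ : Nonempty (P.normalCore ≃ Fin 2) := ⟨Nat.equivFinOfCardPos (by rw [h]; norm_num) |>.trans (finCongr h)⟩
        have hne : (⟨z, hz⟩ : P.normalCore) ≠ 1 := by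
          intro h1
          rw [show z = 1 from congrArg Subtype.val h1] at hzo
          simp at hzo
        by_contra hcon
        push Not at hcon
        have h1 : e ⟨y, hy⟩ ≠ e 1 := fun hh => hcon.1 (congrArg Subtype.val (e.injective hh))
        have h2 : e ⟨y, hy⟩ ≠ e ⟨z, hz⟩ := fun hh => hcon.2 (congrArg Subtype.val (e.injective hh))
        have h3 : e ⟨z, hz⟩ ≠ e 1 := fun hh => hne (e.injective hh)
        revert h1 h2 h3
        generalize e ⟨y, hy⟩ = a
        generalize e ⟨z, hz⟩ = b
        generalize e 1 = c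
        revert a b c
        decide
      rcases h2 _ hm2 with h1 | h1
      · rw [conj_eq_one_iff] at h1
        rw [h1]
        exact Commute.one_left _
      · exact (mul_inv_eq_iff_eq_mul.mp h1).symm
    refine orderOf_ne_six ((z * u : H) : alternatingGroup (Fin 5)) ?_
    rw [Subgroup.orderOf_coe]
    rw [hcomm.orderOf_mul_eq_mul_orderOf_of_coprime (by rw [hzo, huo]; norm_num), hzo, huo]
  · have : P.normalCore = P := Subgroup.eq_of_le_of_card_ge hle (by rw [h, hP])
    rw [← this]
    exact Subgroup.normalCore_normal P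

lemma five_case (H : Subgroup (alternatingGroup (Fin 5))) (P : Sylow 2 (alternatingGroup (Fin 5)))
    (hPH : (P : Subgroup _) ≤ H) (hH : Odd H.index) :
    Subgroup.normalizer (P : Set (alternatingGroup (Fin 5))) ≤
      Subgroup.normalizer (H : Set (alternatingGroup (Fin 5))) := by
  have hP4 : Nat.card P = 4 := by
    have : Fact (Nat.Prime 2) := ⟨Nat.prime_two⟩
    rw [P.card_eq_multiplicity, card_A5]
    rw [Nat.factorization_def _ Nat.prime_two,
      show (60 : ℕ) = 2 ^ 2 * 15 by norm_num,
      padicValNat.mul (by norm_num) (by norm_num), padicValNat.prime_pow,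
      padicValNat.eq_zero_of_not_dvd (by norm_num)]
    norm_num
  have hcases : ∀ K : Subgroup (alternatingGroup (Fin 5)), (P : Subgroup _) ≤ K → K ≠ ⊤ →
      Nat.card K = 4 ∨ Nat.card K = 12 := by
    intro K hK hne
    have h4 : 4 ∣ Nat.card K := hP4 ▸ Subgroup.card_dvd_of_le hK
    have hm := K.card_mul_index
    rw [card_A5] at hm
    obtain ⟨a, ha⟩ := h4
    rw [ha] at hm
    have hdiv : a ∈ Nat.divisors 15 := Nat.mem_divisors.mpr ⟨⟨K.index, by linarith⟩, by norm_num⟩
    rw [show Nat.divisors 15 = {1, 3, 5, 15} by rfl] at hdiv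
    simp only [Finset.mem_insert, Finset.mem_singleton] at hdiv
    rcases hdiv with rfl | rfl | rfl | rfl
    · exact Or.inl (by omega)
    · exact Or.inr (by omega)
    · exact absurd (show K.index = 3 by omega) (index_ne_three K)
    · exact absurd (Subgroup.index_eq_one.mp (by omega)) hne
  by_cases htop : H = ⊤
  · subst htop
    intro x _
    exact Subgroup.mem_normalizer_iff.mpr fun y => by simp
  rcases hcases H hPH htop with h4 | h12
  · have : (P : Subgroup _) = H := Subgroup.eq_of_le_of_card_ge hPH (by rw [h4]; exact hP4.ge)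
    subst this
    exact le_rfl
  · have hn := normal_four_of_twelve H h12 ((P : Subgroup _).subgroupOf H)
      (by rw [Nat.card_congr (Subgroup.subgroupOfEquivOfLe hPH).toEquiv]; exact hP4)
    have hHN : H ≤ Subgroup.normalizer (P : Set (alternatingGroup (Fin 5))) :=
      (Subgroup.normal_subgroupOf_iff_le_normalizer hPH).mp hn
    have hNne : Subgroup.normalizer (P : Set (alternatingGroup (Fin 5))) ≠ ⊤ := by
      intro hT
      rcases (Subgroup.normalizer_eq_top_iff.mp hT).eq_bot_or_eq_top with h | h
      · have := hP4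
        rw [show Nat.card P = Nat.card ((P : Subgroup (alternatingGroup (Fin 5)))) from rfl, h] at this
        simp at this
      · have := hP4
        rw [show Nat.card P = Nat.card ((P : Subgroup (alternatingGroup (Fin 5)))) from rfl, h] at this
        rw [Subgroup.card_top, card_A5] at this
        omega
    have hle : Nat.card (Subgroup.normalizer (P : Set (alternatingGroup (Fin 5)))) ≤ Nat.card H := by
      rw [h12]; rcases hcases _ Subgroup.le_normalizer hNne with h | h <;> exact h.trans_le (by norm_num)
    rw [← Subgroup.eq_of_le_of_card_ge hHN hle]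
    exact Subgroup.le_normalizer


/-- In the alternating group of degree n ≥ 5 every subgroup H of odd index is pronormal: for every element g, the subgroups H and gHg⁻¹ are conjugate by an element of the subgroup they generate. -/
theorem result (n : ℕ) (hn : 5 ≤ n)
    (H : Subgroup (alternatingGroup (Fin n))) (hH : Odd H.index) : Cfsg.IsPronormal H := by
  have : Fact (Nat.Prime 2) := ⟨Nat.prime_two⟩
  obtain ⟨Q⟩ := (inferInstance : Nonempty (Sylow 2 H))
  have hPc : Nat.card ((Q : Subgroup H).map H.subtype) =
      2 ^ (Nat.card (alternatingGroup (Fin n))).factorization 2 := by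
    rw [Subgroup.card_map_of_injective H.subtype_injective, Q.card_eq_multiplicity]
    congr 1
    rw [← H.card_mul_index, Nat.factorization_mul Nat.card_pos.ne' Subgroup.index_ne_zero_of_finite]
    have : H.index.factorization 2 = 0 :=
      Nat.factorization_eq_zero_of_not_dvd fun h => Nat.not_even_iff_odd.mpr hH (even_iff_two_dvd.mpr h)
    simp [this]
  let P := Sylow.ofCard ((Q : Subgroup H).map H.subtype) hPc
  have hPH : (P : Subgroup (alternatingGroup (Fin n))) ≤ H := Subgroup.map_subtype_le _
  refine pronormal_of_normalizer_le H P hPH ?_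
  rcases Nat.lt_or_ge n 6 with h6 | h6
  · obtain rfl : n = 5 := by omega
    exact five_case H P hPH hH
  · rw [Cfsg.Agent.Lib.SylowTwoPerm.normalizer_sylow_alternating h6 P]
    exact hPH.trans Subgroup.le_normalizer

end Cfsg.Agent.S2222
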