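import Cfsg.Statements.S2225
import Cfsg.Agent.Lib.PronormalOddIndex.Two
import Cfsg.Agent.Lib.PronormalOddIndex.Even
import Cfsg.Agent.Lib.PronormalOddIndex.Base

open Cfsg.Agent.Lib.PronormalOddIndex Cfsg.Agent.Lib.SL2


set_option autoImplicit false
open Cfsg

namespace Cfsg.Agent.S2225

/-- Functoriality of `PSLₙ` in a ring isomorphism. -/
noncomputable def pslCongrN {n : ℕ} {K L : Type*} [Field K] [Field L] (e : K ≃+* L) :
    Matrix.ProjectiveSpecialLinearGroup (Fin n) K ≃* Matrix.ProjectiveSpecialLinearGroup (Fin n) L :=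
  let f : Matrix.SpecialLinearGroup (Fin n) K ≃* Matrix.SpecialLinearGroup (Fin n) L :=
    { Matrix.SpecialLinearGroup.map e.toRingHom with
      invFun := Matrix.SpecialLinearGroup.map e.symm.toRingHom
      left_inv := fun A => by ext i j; exact e.symm_apply_apply _
      right_inv := fun A => by ext i j; exact e.apply_symm_apply _ }
  QuotientGroup.congr _ _ f (map_center_eq f)

theorem pronormal_psl_two_power {F : Type} [Field F] [Fintype F] (w : ℕ) (hw : 1 ≤ w)
    (H : Subgroup (Matrix.ProjectiveSpecialLinearGroup (Fin (2 ^ w)) F)) (hH : Odd H.index) :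
    IsPronormal H := by
  classical
  haveI : Fact (Nat.Prime 2) := ⟨Nat.prime_two⟩
  have hi : ¬ 2 ∣ H.index := fun h => by rw [Nat.odd_iff] at hH; omega
  haveI : NeZero (2 ^ w) := ⟨by positivity⟩
  rcases Nat.even_or_odd (Fintype.card F) with heven | hodd
  · obtain ⟨p, _⟩ := CharP.exists F
    haveI : Fact p.Prime := ⟨CharP.char_is_prime F p⟩
    obtain ⟨n, hp, hn⟩ := FiniteField.card F p
    haveI : CharP F 2 := by
      have : 2 ∣ p := Nat.prime_two.dvd_of_dvd_pow (n := n) (hn ▸ heven.two_dvd)
      rw [(Nat.prime_dvd_prime_iff_eq Nat.prime_two hp).1 this]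
      assumption
    obtain ⟨P, hP⟩ := exists_sylow_even (F := F) (n := 2 ^ w)
    exact pronormal_of_cover (QuotientGroup.mk'_surjective _) P (fun K hK _ => hP K hK) H hi
  · rcases Nat.lt_or_ge w 2 with h2 | h2
    · obtain rfl : w = 1 := by omega
      exact pronormal_psl_two hodd H hH
    · obtain ⟨k, rfl⟩ : ∃ k, w = k + 2 := ⟨w - 2, by omega⟩
      obtain ⟨S, hS⟩ := exists_sylow_odd hodd k
      refine pronormal_of_cover (QuotientGroup.mk'_surjective _) S (fun K hK hker => ?_) H hi
      rw [QuotientGroup.ker_mk'] at hker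
      exact pronormal_of_normalizer_le K S hK
        ((hS.trans (sup_le hK hker)).trans Subgroup.le_normalizer)

/-- Let F be a finite field and d = 2^w ≥ 2 a power of 2 such that PSL_d(F) is simple. Then every subgroup H of PSL_d(F) of odd index is pronormal: for every g, H and gHg⁻¹ are conjugate by an element of the subgroup they generate. -/
theorem result {F : Type*} [Field F] [Fintype F]
    (w : ℕ) (hw : 1 ≤ w) (hs : IsSimpleGroup (Matrix.ProjectiveSpecialLinearGroup (Fin (2 ^ w)) F))
    (H : Subgroup (Matrix.ProjectiveSpecialLinearGroup (Fin (2 ^ w)) F)) (hH : Odd H.index) : Cfsg.IsPronormal H := by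
  obtain ⟨L, iL, iLF, hcard, ⟨e⟩⟩ := exists_field_type_zero F
  exact pronormal_of_equiv (pslCongrN (n := 2 ^ w) e).symm
    (fun K hK => pronormal_psl_two_power (F := L) w hw K hK) H hH

end Cfsg.Agent.S2225
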