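import Cfsg.Statements.S2226
import Cfsg.Agent.Lib.SL2.Dickson
import Cfsg.Agent.Lib.PronormalOddIndex.UnitaryBase
import Cfsg.Agent.Lib.PronormalOddIndex.UnitaryEven
import Cfsg.Agent.Lib.PronormalOddIndex.UnitarySplit

open Cfsg.Agent.Lib.PronormalOddIndex Cfsg.Agent.Lib.SL2


set_option autoImplicit false
open Cfsg

namespace Cfsg.Agent.S2226

/-- Functoriality of `SUₙ` in a ring isomorphism. -/
theorem nonempty_SU_congr {n q : ℕ} {K L : Type*} [Field K] [Field L] (e : K ≃+* L) :
    Nonempty (Cfsg.SU n K q ≃* Cfsg.SU n L q) := by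
  let f : Matrix.SpecialLinearGroup (Fin n) K ≃* Matrix.SpecialLinearGroup (Fin n) L :=
    { Matrix.SpecialLinearGroup.map e.toRingHom with
      invFun := Matrix.SpecialLinearGroup.map e.symm.toRingHom
      left_inv := fun A => by ext i j; exact e.symm_apply_apply _
      right_inv := fun A => by ext i j; exact e.apply_symm_apply _ }
  have key : ∀ g, g ∈ Cfsg.SU n K q ↔ f g ∈ Cfsg.SU n L q := by
    intro g
    have hv : ∀ u : Fin n → K, (f g).1.mulVec (e ∘ u) = e ∘ g.1.mulVec u := fun u => by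
      funext i; exact (RingHom.map_mulVec e.toRingHom g.1 u i).symm
    have hh : ∀ u v : Fin n → K,
        Cfsg.hermForm n L q (e ∘ u) (e ∘ v) = e (Cfsg.hermForm n K q u v) := fun u v => by
      simp [Cfsg.hermForm]
    constructor
    · intro hg u v
      have hu : u = e ∘ (e.symm ∘ u) := by funext i; simp
      have hw : v = e ∘ (e.symm ∘ v) := by funext i; simp
      show Cfsg.hermForm n L q ((f g).1.mulVec u) ((f g).1.mulVec v) = _
      rw [hu, hw, hv, hv, hh, hh]
      exact congrArg e (hg _ _)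
    · intro hg u v
      have h : Cfsg.hermForm n L q ((f g).1.mulVec (e ∘ u)) ((f g).1.mulVec (e ∘ v)) = _ := hg _ _
      rw [hv, hv, hh, hh] at h
      exact e.injective h
  exact ⟨(MulEquiv.subgroupMap f (Cfsg.SU n K q)).trans (MulEquiv.subgroupCongr (by
    ext x
    rw [Subgroup.mem_map]
    exact ⟨fun ⟨g, hg, h⟩ => h ▸ (key g).1 hg, fun hx =>
      ⟨f.symm x, (key _).2 (by rwa [f.apply_symm_apply]), f.apply_symm_apply x⟩⟩))⟩

theorem pronormal_psu_two_power {F : Type} [Field F] [Fintype F] {q : ℕ}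
    (hF : Fintype.card F = q ^ 2) (w : ℕ) (hw : 2 ≤ w)
    (H : Subgroup (Cfsg.PSU (2 ^ w) F q)) (hH : Odd H.index) : IsPronormal H := by
  classical
  haveI : Fact (Nat.Prime 2) := ⟨Nat.prime_two⟩
  have hi : ¬ 2 ∣ H.index := fun h => by rw [Nat.odd_iff] at hH; omega
  rcases Nat.even_or_odd (Fintype.card F) with heven | hodd
  · obtain ⟨p, _⟩ := CharP.exists F
    haveI : Fact p.Prime := ⟨CharP.char_is_prime F p⟩
    obtain ⟨n, hp, hn⟩ := FiniteField.card F p
    haveI : CharP F 2 := by
      have : 2 ∣ p := Nat.prime_two.dvd_of_dvd_pow (n := n) (hn ▸ heven.two_dvd)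
      rw [(Nat.prime_dvd_prime_iff_eq Nat.prime_two hp).1 this]
      assumption
    have hev : Even (2 ^ w) := (Nat.even_pow' (by omega)).2 even_two
    obtain ⟨e⟩ := nonempty_SU_equiv_fixG hF hev
    obtain ⟨P, hP⟩ := pronormal_fixed (Cfsg.Agent.Lib.Forms.qPowHom_qPowHom hF) hev
    exact pronormal_of_cover
      (f := (QuotientGroup.mk' (Subgroup.center (Cfsg.SU (2 ^ w) F q))).comp e.symm.toMonoidHom)
      ((QuotientGroup.mk'_surjective _).comp e.symm.surjective) P (fun K hK _ => hP K hK) H hi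
  · obtain ⟨k, rfl⟩ : ∃ k, w = k + 2 := ⟨w - 2, by omega⟩
    obtain ⟨S, hS⟩ := exists_sylow_unitary_odd hF hodd k
    refine pronormal_of_cover (QuotientGroup.mk'_surjective _) S (fun K hK hker => ?_) H hi
    rw [QuotientGroup.ker_mk'] at hker
    exact pronormal_of_normalizer_le K S hK
      ((hS.trans (sup_le hK hker)).trans Subgroup.le_normalizer)

/-- Let F be a finite field with q² elements and d = 2^w ≥ 4 a power of 2 such that the unitary group PSU_d(q) (realised over F) is simple. Then every subgroup H of PSU_d(q) of odd index is pronormal: for every g, H and gHg⁻¹ are conjugate by an element of the subgroup they generate. -/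
theorem result {F : Type*} [Field F] [Fintype F] (q : ℕ)
    (hF : Fintype.card F = q ^ 2) (w : ℕ) (hw : 2 ≤ w) (hs : IsSimpleGroup (Cfsg.PSU (2 ^ w) F q))
    (H : Subgroup (Cfsg.PSU (2 ^ w) F q)) (hH : Odd H.index) : Cfsg.IsPronormal H := by
  obtain ⟨L, iL, iLF, hcard, ⟨e⟩⟩ := exists_field_type_zero F
  obtain ⟨f⟩ := nonempty_SU_congr (n := 2 ^ w) (q := q) e
  exact pronormal_of_equiv (QuotientGroup.congr _ _ f (map_center_eq f)).symm
    (fun K hK => pronormal_psu_two_power (F := L) (hcard.trans hF) w hw K hK) H hH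

end Cfsg.Agent.S2226
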