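import Cfsg.Statements.S2239
import Mathlib
import Cfsg.Agent.Lib.SuzukiSubgroups.Classify

set_option autoImplicit false
open Cfsg

namespace Cfsg.Agent.S2239

open Cfsg.Agent.Lib Cfsg.Agent.Lib.Suzuki Cfsg.Agent.Lib.SuzukiSubgroups MulAction

theorem card_lt {s t : ℕ} (hs : 2 ≤ s) (hst : s < t) :
    s ^ 2 * (s ^ 2 + 1) * (s - 1) < t ^ 2 * (t ^ 2 + 1) * (t - 1) := by
  have h1 : s ^ 2 < t ^ 2 := Nat.pow_lt_pow_left hst two_ne_zero
  exact Nat.mul_lt_mul'' (Nat.mul_lt_mul'' h1 (by omega)) (by omega)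

theorem noAb_of_equiv {G H : Type*} [Group G] [Group H] [IsSimpleGroup H] {S : Subgroup G} (e : S ≃* H)
    (hH : ∃ a b : H, a * b ≠ b * a) : NoAb S ∧ S ≠ ⊥ := by
  obtain ⟨a, b, hab⟩ := hH
  refine ⟨fun A hA hinv hcomm => ?_, fun e0 => ?_⟩
  · have hn : (A.subgroupOf S).Normal := ⟨fun n hn x => Subgroup.mem_subgroupOf.2 (hinv x x.2 (mem_cmap.2 (by
      simpa [mul_assoc] using Subgroup.mem_subgroupOf.1 hn)))⟩
    have := (hn.map e.toMonoidHom e.surjective).eq_bot_or_eq_top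
    rcases this with e1 | e1
    · rw [Subgroup.map_eq_bot_iff_of_injective _ e.injective, Subgroup.subgroupOf_eq_bot, disjoint_iff,
        inf_eq_left.2 hA] at e1
      exact e1
    · exfalso
      obtain ⟨x, hx, rfl⟩ : a ∈ (A.subgroupOf S).map e.toMonoidHom := e1 ▸ Subgroup.mem_top _
      obtain ⟨y, hy, rfl⟩ : b ∈ (A.subgroupOf S).map e.toMonoidHom := e1 ▸ Subgroup.mem_top _
      refine hab ?_
      rw [← map_mul, ← map_mul]
      exact congrArg _ (Subtype.ext (hcomm _ hx _ hy))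
  · refine hab ?_
    have : ∀ x : S, x = 1 := fun x => Subtype.ext (Subgroup.mem_bot.1 (e0 ▸ x.2))
    rw [← e.apply_symm_apply a, ← e.apply_symm_apply b, this (e.symm a), this (e.symm b)]

theorem exists_noncomm {K : Type*} [Field K] [Fintype K] {k : ℕ} (hK : Hyp K k) :
    ∃ a b : Cfsg.Sz K k, a * b ≠ b * a := by
  refine ⟨szW hK, szT hK 1 0, fun e => ovAff_ne_inf (m := k) (0 : K) 0 ?_⟩
  rw [← szW_inf hK]
  exact transl_le_stab hK (centralizer_szT hK (SuzukiSylow.szT_one_zero_ne_one hK)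
    (Subgroup.mem_centralizer_singleton_iff.2 e))


/-- Subfield subgroups of the Suzuki group: let q = 2^(2m+1) and s = 2^(2k+1) with m, k ≥ 1 and 2k+1 dividing 2m+1 (so q is a power of s), both groups realised as stabilisers in SL₄ of the Suzuki–Tits ovoid. Then Sz(q) has a subgroup isomorphic to Sz(s), and any two subgroups of Sz(q) isomorphic to Sz(s) are conjugate. -/
theorem result {F : Type*} [Field F] [Fintype F] {m : ℕ} (hm : 1 ≤ m) (hF : Fintype.card F = 2 ^ (2 * m + 1)) {K : Type*} [Field K] [Fintype K] {k : ℕ} (hk : 1 ≤ k) (hK : Fintype.card K = 2 ^ (2 * k + 1)) (hdiv : 2 * k + 1 ∣ 2 * m + 1) :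
    (∃ S : Subgroup ↥(Cfsg.Sz F m), Nonempty (↥S ≃* ↥(Cfsg.Sz K k))) ∧
    ∀ S₁ S₂ : Subgroup ↥(Cfsg.Sz F m), Nonempty (↥S₁ ≃* ↥(Cfsg.Sz K k)) → Nonempty (↥S₂ ≃* ↥(Cfsg.Sz K k)) →
      ∃ g : ↥(Cfsg.Sz F m), S₂ = S₁.map (MulAut.conj g).toMonoidHom := by
  have h : Hyp F m := ⟨hm, hF⟩
  have hKh : Hyp K k := ⟨hk, hK⟩
  have := SuzukiSylow.finite_Sz h
  refine ⟨exists_subgroup h hKh hdiv, fun S₁ S₂ hS₁ hS₂ => ?_⟩
  have hkm : k ≤ m := by have := Nat.le_of_dvd (by omega) hdiv; omega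
  have hcard : ∀ S : Subgroup (Cfsg.Sz F m), Nonempty (S ≃* Cfsg.Sz K k) →
      Nat.card S = (2 ^ (2 * k + 1)) ^ 2 * ((2 ^ (2 * k + 1)) ^ 2 + 1) * (2 ^ (2 * k + 1) - 1) := by
    rintro S ⟨e⟩
    rw [Nat.card_congr e.toEquiv, card_Sz hKh, hK]
  rcases hkm.eq_or_lt with rfl | hlt
  · have htop : ∀ S : Subgroup (Cfsg.Sz F k), Nonempty (S ≃* Cfsg.Sz K k) → S = ⊤ := fun S hS =>
      Subgroup.eq_top_of_card_eq _ (by rw [hcard S hS, card_Sz h, hF])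
    refine ⟨1, ?_⟩
    rw [htop S₁ hS₁, htop S₂ hS₂]
    exact (cmap_one _).symm
  have hconj : ∀ S : Subgroup (Cfsg.Sz F m), Nonempty (S ≃* Cfsg.Sz K k) →
      ∃ c, cmap c S = subSz h (2 ^ (2 * k + 1)) := by
    intro S hS
    obtain ⟨e⟩ := hS
    have := isSimpleGroup_Sz hKh
    obtain ⟨hnoab, hne⟩ := noAb_of_equiv e (exists_noncomm hKh)
    have h8 : ∀ j, 2 ≤ 2 ^ (2 * j + 1) := fun j =>
      le_trans (by norm_num) (Nat.pow_le_pow_right two_pos (show 1 ≤ 2 * j + 1 by omega))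
    have htop : S ≠ ⊤ := by
      intro e'
      have h1 := hcard S ⟨e⟩
      rw [e', Subgroup.card_top, card_Sz h, hF] at h1
      exact (card_lt (h8 k) (Nat.pow_lt_pow_right one_lt_two (show 2 * k + 1 < 2 * m + 1 by omega))).ne' h1
    obtain ⟨k', hk', -, hdiv', c, hc⟩ := classify h hnoab hne htop
    have h1 : (2 ^ (2 * k' + 1)) ^ 2 * ((2 ^ (2 * k' + 1)) ^ 2 + 1) * (2 ^ (2 * k' + 1) - 1) =
        (2 ^ (2 * k + 1)) ^ 2 * ((2 ^ (2 * k + 1)) ^ 2 + 1) * (2 ^ (2 * k + 1) - 1) := by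
      rw [← card_subSz h hk' hdiv', ← hc, card_cmap, hcard S ⟨e⟩]
    have hkk : 2 ^ (2 * k' + 1) = 2 ^ (2 * k + 1) := by
      rcases lt_trichotomy (2 ^ (2 * k' + 1)) (2 ^ (2 * k + 1)) with hlt' | he | hgt
      · exact absurd h1 (card_lt (h8 k') hlt').ne
      · exact he
      · exact absurd h1 (card_lt (h8 k) hgt).ne'
    exact ⟨c, hkk ▸ hc⟩
  obtain ⟨c₁, h₁⟩ := hconj S₁ hS₁
  obtain ⟨c₂, h₂⟩ := hconj S₂ hS₂
  refine ⟨c₂⁻¹ * c₁, ?_⟩
  show S₂ = cmap (c₂⁻¹ * c₁) S₁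
  rw [← cmap_cmap, h₁, ← h₂, cmap_cmap, inv_mul_cancel, cmap_one]

end Cfsg.Agent.S2239
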