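import Mathlib
import Cfsg.Statements.S2240
import Cfsg.Agent.Lib.SuzukiSylow.Borel
-- import your own Cfsg.Agent.* helpers here

set_option autoImplicit false
open Cfsg

namespace Cfsg.Agent.S2240

open Cfsg.Agent.Lib.Suzuki Cfsg.Agent.Lib.SuzukiSylow MulAction

theorem mult_surjective {F : Type*} [Field F] [Fintype F] {m : ℕ} (h : Hyp F m) :
    Function.Surjective (fun u : Fˣ => u ^ 2 * u ^ 2 ^ (m + 1)) := by
  have hker : ∀ u : Fˣ, u ^ 2 * u ^ 2 ^ (m + 1) = 1 → u = 1 := fun u hu => by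
    apply Units.ext
    refine h.eq_one_of_theta_mul_sq u.ne_zero ?_
    have := congrArg Units.val hu
    push_cast at this
    rw [theta]; linear_combination this
  let f : Fˣ →* Fˣ := powMonoidHom 2 * powMonoidHom (2 ^ (m + 1))
  have hinj : Function.Injective f := (injective_iff_map_eq_one f).2 hker
  exact Finite.injective_iff_surjective.1 hinj

theorem exists_subfield_card {F : Type*} [Field F] [Fintype F] [CharP F 2] {f n : ℕ}
    (hF : Fintype.card F = 2 ^ f) (hn : n ≠ 0) (hd : n ∣ f) :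
    ∃ K : Subfield F, Nat.card K = 2 ^ n := by
  letI : Algebra (ZMod 2) F := ZMod.algebra F 2
  have hfr : Module.finrank (ZMod 2) F = f := by
    have := FiniteField.pow_finrank_eq_card 2 F
    rw [hF] at this
    exact Nat.pow_right_injective le_rfl this
  obtain ⟨φ⟩ := FiniteField.nonempty_algHom_of_finrank_dvd (F := ZMod 2) (K := GaloisField 2 n) (L := F)
    (by rw [GaloisField.finrank 2 hn, hfr]; exact hd)
  refine ⟨φ.toRingHom.fieldRange, ?_⟩
  rw [← GaloisField.card 2 n hn]
  exact (Nat.card_congr (Equiv.ofInjective φ φ.toRingHom.injective)).symm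

/-- Elementary abelian TI-subgroups of the Suzuki group: let q = 2^(2m+1) with m ≥ 1, the group realised as the stabiliser in SL₄ of the Suzuki–Tits ovoid, and n ≥ 2. There is an elementary abelian 2-subgroup E of order 2^n that is a TI-subgroup (every conjugate of E meeting E nontrivially is E itself) if and only if n divides 2m + 1. -/
theorem result {F : Type*} [Field F] [Fintype F] {m : ℕ} (hm : 1 ≤ m) (hF : Fintype.card F = 2 ^ (2 * m + 1)) (n : ℕ) (hn : 2 ≤ n) :
    (∃ E : Subgroup ↥(Cfsg.Sz F m), Cfsg.IsElementaryAbelian 2 E ∧ Nat.card ↥E = 2 ^ n ∧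
      ∀ x : ↥(Cfsg.Sz F m), E ⊓ E.map (MulAut.conj x).toMonoidHom ≠ ⊥ → x ∈ Subgroup.normalizer (E : Set ↥(Cfsg.Sz F m))) ↔ n ∣ 2 * m + 1 := by
  have h : Hyp F m := ⟨hm, hF⟩
  haveI := finite_Sz h
  haveI := h.charP
  haveI := Fact.mk Nat.prime_two
  constructor
  · rintro ⟨E, ⟨hEc, hEe⟩, hEcard, hTI⟩
    have hE2 : IsPGroup 2 E := IsPGroup.of_card hEcard
    obtain ⟨P, hP⟩ := hE2.exists_le_sylow
    obtain ⟨x, hx⟩ := exists_conj_transl h P
    have hmem : ∀ e ∈ E, ∃ b, e = MulAut.conj x (szT h 0 b) := by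
      intro e he
      have := hP he
      rw [hx] at this
      obtain ⟨t, ⟨a, b, rfl⟩, rfl⟩ := this
      have h2 := hEe _ he
      rw [← map_pow, MulEquiv.coe_toMonoidHom, MulEquiv.map_eq_one_iff, transl_sq, ← szT_one h] at h2
      have ha : a = 0 := by
        rcases mul_eq_zero.1 (szT_inj h h2).2 with e | e
        · exact theta_eq_zero.1 e
        · exact e
      exact ⟨b, by rw [ha]; rfl⟩
    let V : AddSubgroup F :=
      { carrier := {b | MulAut.conj x (szT h 0 b) ∈ E}
        zero_mem' := by simp [szT_one h, one_mem]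
        add_mem' := fun {a b} ha hb => by
          have := E.mul_mem (show MulAut.conj x (szT h 0 a) ∈ E from ha) (show MulAut.conj x (szT h 0 b) ∈ E from hb)
          rw [← map_mul, szT_mul, theta_zero, zero_mul, add_zero, add_zero] at this
          exact this
        neg_mem' := fun {a} ha => by rwa [CharTwo.neg_eq] }
    have hVcard : Nat.card V = 2 ^ n := by
      rw [← hEcard]
      refine Nat.card_eq_of_bijective (fun b : V => (⟨MulAut.conj x (szT h 0 b), b.2⟩ : E)) ⟨?_, ?_⟩
      · intro a b e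
        exact Subtype.ext (szT_inj h ((MulAut.conj x).injective (congrArg Subtype.val e))).2
      · rintro ⟨e, he⟩
        obtain ⟨b, rfl⟩ := hmem e he
        exact ⟨⟨b, he⟩, rfl⟩
    have hscale : ∀ l : F, l ≠ 0 → (∃ v ∈ V, v ≠ 0 ∧ l * v ∈ V) → ∀ v ∈ V, l * v ∈ V := by
      intro l hl ⟨v, hv, hv0, hlv⟩ w hw
      obtain ⟨u, hu⟩ := mult_surjective h (Units.mk0 l hl)
      have hu' : (u : F) ^ 2 * theta m (u : F) = l := by
        have := congrArg Units.val hu
        push_cast at this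
        exact this
      set y := MulAut.conj x (szH h u) with hy
      have hyc : ∀ b, MulAut.conj y (MulAut.conj x (szT h 0 b)) = MulAut.conj x (szT h 0 (l * b)) := fun b => by
        rw [MulAut.conj_apply, hy, ← map_mul, ← map_inv, ← map_mul, szH_mul_szT, mul_inv_cancel_right,
          mul_zero, hu']
      have hN : y ∈ Subgroup.normalizer (E : Set ↥(Cfsg.Sz F m)) := by
        refine hTI y fun hbot => ?_
        have : MulAut.conj x (szT h 0 (l * v)) ∈ E ⊓ E.map (MulAut.conj y).toMonoidHom :=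
          ⟨hlv, ⟨_, hv, hyc v⟩⟩
        rw [hbot, Subgroup.mem_bot, MulEquiv.map_eq_one_iff, ← szT_one h] at this
        exact mul_ne_zero hl hv0 (szT_inj h this).2
      have := (Subgroup.mem_normalizer_iff.1 hN _).1 hw
      rw [← MulAut.conj_apply, hyc] at this
      exact this
    obtain ⟨v₀, hv₀, hv₀0⟩ : ∃ v ∈ V, v ≠ 0 := by
      by_contra hc
      push Not at hc
      have : Subsingleton V := ⟨fun a b => Subtype.ext ((hc a a.2).trans (hc b b.2).symm)⟩
      rw [Nat.card_unique] at hVcard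
      have := Nat.one_lt_two_pow (show n ≠ 0 by omega)
      omega
    let K : Subfield F :=
      { carrier := {l | ∀ v ∈ V, l * v ∈ V}
        zero_mem' := fun v _ => by rw [zero_mul]; exact V.zero_mem
        one_mem' := fun v hv => by rwa [one_mul]
        add_mem' := fun {a b} ha hb v hv => by rw [add_mul]; exact V.add_mem (ha v hv) (hb v hv)
        mul_mem' := fun {a b} ha hb v hv => by rw [mul_assoc]; exact ha _ (hb v hv)
        neg_mem' := fun {a} ha v hv => by rw [neg_mul]; exact V.neg_mem (ha v hv)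
        inv_mem' := fun l hl => by
          rcases eq_or_ne l 0 with rfl | hne
          · rw [inv_zero]; exact hl
          · exact hscale _ (inv_ne_zero hne) ⟨l * v₀, hl v₀ hv₀, mul_ne_zero hne hv₀0, by
              rw [inv_mul_cancel_left₀ hne]; exact hv₀⟩ }
    have hKcard : Nat.card K = 2 ^ n := by
      rw [← hVcard]
      refine Nat.card_eq_of_bijective (fun l : K => (⟨l * v₀, l.2 v₀ hv₀⟩ : V)) ⟨?_, ?_⟩
      · intro a b e
        exact Subtype.ext (mul_right_cancel₀ hv₀0 (congrArg Subtype.val e))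
      · rintro ⟨w, hw⟩
        rcases eq_or_ne w 0 with rfl | hw0
        · exact ⟨0, by apply Subtype.ext; simp⟩
        · refine ⟨⟨w / v₀, hscale _ (div_ne_zero hw0 hv₀0) ⟨v₀, hv₀, hv₀0, ?_⟩⟩, ?_⟩
          · rwa [div_mul_cancel₀ _ hv₀0]
          · exact Subtype.ext (div_mul_cancel₀ _ hv₀0)
    have hfin := Module.natCard_eq_pow_finrank (K := K) (V := F)
    rw [hKcard, Nat.card_eq_fintype_card, hF, ← pow_mul] at hfin
    exact Dvd.intro _ (Nat.pow_right_injective le_rfl hfin).symm
  · intro hd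
    obtain ⟨K, hK⟩ := exists_subfield_card hF (show n ≠ 0 by omega) hd
    let E : Subgroup ↥(Cfsg.Sz F m) :=
      { carrier := {g | ∃ b ∈ K, g = szT h 0 b}
        one_mem' := ⟨0, K.zero_mem, (szT_one h).symm⟩
        mul_mem' := by
          rintro _ _ ⟨a, ha, rfl⟩ ⟨b, hb, rfl⟩
          exact ⟨a + b, K.add_mem ha hb, by rw [szT_mul, theta_zero, zero_mul, add_zero, add_zero]⟩
        inv_mem' := by
          rintro _ ⟨a, ha, rfl⟩
          exact ⟨a, ha, by rw [szT_inv, theta_zero, zero_mul, add_zero]⟩ }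
    refine ⟨E, ⟨⟨⟨?_⟩⟩, ?_⟩, ?_, ?_⟩
    · rintro ⟨_, a, ha, rfl⟩ ⟨_, b, hb, rfl⟩
      apply Subtype.ext
      show szT h 0 a * szT h 0 b = szT h 0 b * szT h 0 a
      rw [szT_mul, szT_mul, add_comm a b]
    · rintro _ ⟨a, ha, rfl⟩
      rw [transl_sq, theta_zero, zero_mul, szT_one]
    · rw [← hK]
      refine (Nat.card_eq_of_bijective (fun b : K => (⟨szT h 0 b, b, b.2, rfl⟩ : E)) ⟨?_, ?_⟩).symm
      · intro a b e
        exact Subtype.ext (szT_inj h (congrArg Subtype.val e)).2
      · rintro ⟨_, b, hb, rfl⟩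
        exact ⟨⟨b, hb⟩, rfl⟩
    · intro x hx
      obtain ⟨⟨g, hg⟩, hg1'⟩ := Subgroup.ne_bot_iff_exists_ne_one.1 hx
      have hg1 : g ≠ 1 := fun e => hg1' (Subtype.ext e)
      obtain ⟨⟨b₁, hb₁, rfl⟩, ⟨t, ⟨b₂, hb₂, rfl⟩, e⟩⟩ := hg
      rw [MulEquiv.coe_toMonoidHom, MulAut.conj_apply] at e
      have hne : szT h 0 b₂ ≠ 1 := fun e' => hg1 (by rw [← e, e', mul_one, mul_inv_cancel])
      have hfix := smul_inf_of_conj h hne (e ▸ szT_mem_transl h 0 b₁)
      obtain ⟨c, d, u, rfl⟩ := eq_szT_szH_of_fix h hfix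
      rw [conj_szT] at e
      simp only [mul_zero, zero_mul, theta_zero, add_zero] at e
      have e2 := (szT_inj h e).2
      have hb20 : b₂ ≠ 0 := fun e0 => hne (by rw [e0, szT_one])
      have hl : (u : F) ^ 2 * theta m (u : F) ∈ K := by
        rw [← mul_div_cancel_right₀ ((u : F) ^ 2 * theta m (u : F)) hb20, e2]
        exact K.div_mem hb₁ hb₂
      refine (normalizer_transl.mem_normalizer_iff_map_le h).2 ?_
      rintro _ ⟨_, ⟨b, hb, rfl⟩, rfl⟩
      refine ⟨(u : F) ^ 2 * theta m (u : F) * b, K.mul_mem hl hb, ?_⟩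
      rw [MulEquiv.coe_toMonoidHom, MulAut.conj_apply, conj_szT]
      simp [theta_zero]

end Cfsg.Agent.S2240
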