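import Mathlib
import Cfsg.Statements.S2241
import Cfsg.Agent.Lib.SuzukiSylow.Borel
-- import your own Cfsg.Agent.* helpers here

set_option autoImplicit false
open Cfsg

namespace Cfsg.Agent.S2241

open Cfsg.Agent.Lib.Suzuki Cfsg.Agent.Lib.SuzukiSylow MulAction

/-- Real 2-elements of the Suzuki group: with q = 2^(2m+1), m ≥ 1, and the group realised as the stabiliser in SL₄ of the Suzuki–Tits ovoid, a non-identity element of a Sylow 2-subgroup is conjugate to its inverse if and only if it is an involution; in particular no element of order 4 is conjugate to its inverse. -/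
theorem result {F : Type*} [Field F] [Fintype F] {m : ℕ} (hm : 1 ≤ m) (hF : Fintype.card F = 2 ^ (2 * m + 1)) (P : Sylow 2 ↥(Cfsg.Sz F m)) (g : ↥(Cfsg.Sz F m)) (hg : g ∈ (P : Subgroup ↥(Cfsg.Sz F m))) (h1 : g ≠ 1) :
    IsConj g g⁻¹ ↔ orderOf g = 2 := by
  have h : Hyp F m := ⟨hm, hF⟩
  haveI := finite_Sz h
  constructor
  · intro hc
    obtain ⟨x, hx⟩ := exists_conj_transl h P
    rw [hx] at hg
    obtain ⟨t, ⟨a, b, rfl⟩, rfl⟩ := hg
    have hc' : IsConj (szT h a b) (szT h a b)⁻¹ := by
      have := (MulAut.conj x).symm.toMonoidHom.map_isConj hc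
      rw [map_inv, MulEquiv.coe_toMonoidHom, MulEquiv.coe_toMonoidHom, MulEquiv.symm_apply_apply] at this
      exact this
    have hne : szT h a b ≠ 1 := fun e => h1 (by rw [e, map_one])
    rw [MulEquiv.coe_toMonoidHom, (MulAut.conj x).orderOf_eq]
    obtain ⟨y, hy⟩ := isConj_iff.1 hc'
    have hfix : y • ovInf F m = ovInf F m := smul_inf_of_conj h hne (by
      rw [hy]; exact inv_mem (szT_mem_transl h a b))
    obtain ⟨c, d, u, rfl⟩ := eq_szT_szH_of_fix h hfix
    rw [conj_szT, szT_inv] at hy
    obtain ⟨e1, e2⟩ := szT_inj h hy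
    have ha : a = 0 := by
      by_contra ha
      have hu : theta m (u : F) = 1 := mul_right_cancel₀ ha (by linear_combination e1)
      have hu1 : (u : F) = 1 := h.theta_injective (hu.trans theta_one.symm)
      rw [hu1, theta_one] at e2
      simp only [one_pow, one_mul] at e2
      have key : theta m (c / a) * theta m a * a + theta m a * (c / a) * a = theta m a * a := by
        rw [← theta_mul, div_mul_cancel₀ c ha, mul_assoc (theta m a), div_mul_cancel₀ c ha]
        linear_combination e2
      set k := c / a
      have hk : theta m k + k = 1 := mul_right_cancel₀ (mul_ne_zero (theta_ne_zero (m := m) ha) ha)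
        (by linear_combination key)
      have h2 := congrArg (theta m) hk
      rw [h.theta_add, h.theta_theta, theta_one] at h2
      have hkk : k * (k - 1) = 0 := by linear_combination h2 - hk
      rcases mul_eq_zero.1 hkk with h0 | h0
      · rw [h0, theta_zero, add_zero] at hk
        exact zero_ne_one hk
      · rw [sub_eq_zero.1 h0, theta_one] at hk
        exact one_ne_zero (α := F) (by linear_combination hk)
    subst ha
    exact orderOf_eq_prime (p := 2) (by rw [transl_sq, theta_zero, zero_mul, szT_one]) hne
  · intro h2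
    rw [inv_eq_of_mul_eq_one_right (show g * g = 1 by rw [← pow_two, ← h2, pow_orderOf_eq_one])]

end Cfsg.Agent.S2241
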