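import Cfsg.Statements.S2245
import Mathlib
-- import your own Cfsg.Agent.* helpers here

set_option autoImplicit false
open Cfsg

namespace Cfsg.Agent.S2245
open MulAction Equiv
open scoped Pointwise

section
variable {α : Type*} [Fintype α] [DecidableEq α] {Γ : Type*} [Group Γ] [Finite Γ]
  [MulAction Γ α]

/-- the preimage of an even permutation -/
def Lifts (Γ : Type*) (α : Type*) [Fintype α] [DecidableEq α] [Group Γ] [MulAction Γ α] : Prop :=
  ∀ g : Perm α, Perm.sign g = 1 → ∃ γ : Γ, MulAction.toPermHom Γ α γ = g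

omit [Finite Γ] in
lemma lifts_apply {γ : Γ} {g : Perm α} (h : MulAction.toPermHom Γ α γ = g) (x : α) :
    γ • x = g x := by rw [← h]; rfl

omit [Finite Γ] in
lemma exists_threeCycle (hA : Lifts Γ α) {x y z : α} (hxy : x ≠ y) (hxz : x ≠ z) (hyz : y ≠ z) :
    ∃ γ : Γ, γ • x = y ∧ γ • y = z ∧ γ • z = x ∧ ∀ w, w ≠ x → w ≠ y → w ≠ z → γ • w = w := by
  obtain ⟨γ, hγ⟩ := hA (swap x y * swap y z) (by
    rw [map_mul, Perm.sign_swap hxy, Perm.sign_swap hyz]; decide)
  refine ⟨γ, ?_, ?_, ?_, ?_⟩ <;> simp only [lifts_apply hγ, Perm.mul_apply]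
  · rw [swap_apply_of_ne_of_ne hxy hxz, swap_apply_left]
  · rw [swap_apply_left, swap_apply_of_ne_of_ne hxz.symm hyz.symm]
  · rw [swap_apply_right, swap_apply_right]
  · intro w h1 h2 h3
    rw [swap_apply_of_ne_of_ne h2 h3, swap_apply_of_ne_of_ne h1 h2]

omit [Finite Γ] in
lemma exists_mover (hA : Lifts Γ α) (hn : 3 ≤ Fintype.card α) (x y : α) : ∃ γ : Γ, γ • x = y := by
  by_cases hxy : x = y
  · exact ⟨1, by rw [one_smul, hxy]⟩
  · obtain ⟨z, -, hz⟩ := Finset.exists_mem_notMem_of_card_lt_card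
      (s := ({x, y} : Finset α)) (t := Finset.univ)
      (lt_of_le_of_lt Finset.card_le_two (by rw [Finset.card_univ]; omega))
    simp only [Finset.mem_insert, Finset.mem_singleton, not_or] at hz
    obtain ⟨γ, h, -⟩ := exists_threeCycle hA hxy (Ne.symm hz.1) (Ne.symm hz.2)
    exact ⟨γ, h⟩

lemma top_of_alternating_le [FaithfulSMul Γ α] (R : Sylow 2 Γ) (K : Subgroup Γ)
    (hRK : (R : Subgroup Γ) ≤ K)
    (hK : alternatingGroup α ≤ K.map (MulAction.toPermHom Γ α)) : K = ⊤ := by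
  set ι := MulAction.toPermHom Γ α
  have hker : (Perm.sign.comp ι).ker ≤ K := by
    intro γ hγ
    obtain ⟨k, hk, hkγ⟩ := hK (show ι γ ∈ alternatingGroup α from hγ)
    exact (MulAction.toPerm_injective hkγ : k = γ) ▸ hk
  have h2 : K.index ∣ 2 := by
    refine (Subgroup.index_dvd_of_le hker).trans ?_
    rw [Subgroup.index_ker]
    refine (Subgroup.card_subgroup_dvd_card _).trans ?_
    rw [Nat.card_eq_fintype_card, Fintype.card_units_int]
  have h1 : ¬ 2 ∣ K.index := fun h => Sylow.not_dvd_index R (h.trans (Subgroup.index_dvd_of_le hRK))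
  rcases (Nat.dvd_prime Nat.prime_two).mp h2 with h | h
  · exact Subgroup.index_eq_one.mp h
  · exact absurd (h ▸ dvd_refl _) h1

lemma top_of_threeCycle [FaithfulSMul Γ α] (R : Sylow 2 Γ) (K : Subgroup Γ)
    (hRK : (R : Subgroup Γ) ≤ K) (a : α) (h1 : ∀ x, ∃ k ∈ K, k • a = x)
    (h2 : ∀ x y, x ≠ a → y ≠ a → ∃ k ∈ K, k • a = a ∧ k • x = y)
    {c : Γ} (hc : c ∈ K) (h3 : (MulAction.toPermHom Γ α c).IsThreeCycle) : K = ⊤ := by
  refine top_of_alternating_le R K hRK
    (Perm.alternatingGroup_le_of_isPreprimitive_of_isThreeCycle_mem ?_ h3 ⟨c, hc, rfl⟩)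
  refine MulAction.isPreprimitive_of_is_two_pretransitive
    (MulAction.is_two_pretransitive_iff.mpr ?_)
  intro p q r s hpq hrs
  obtain ⟨g, hg, hga⟩ := h1 p
  obtain ⟨g', hg', hga'⟩ := h1 r
  obtain ⟨k, hk, hka, hkq⟩ := h2 (g⁻¹ • q) (g'⁻¹ • s)
    (fun h => hpq (by rw [← hga, ← h, smul_inv_smul]))
    (fun h => hrs (by rw [← hga', ← h, smul_inv_smul]))
  refine ⟨⟨_, Subgroup.mem_map_of_mem _ (mul_mem (mul_mem hg' hk) (inv_mem hg))⟩, ?_, ?_⟩
  · show (g' * k * g⁻¹) • p = r
    rw [mul_smul, mul_smul, ← hga, inv_smul_smul, hka, hga']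
  · show (g' * k * g⁻¹) • q = s
    rw [mul_smul, mul_smul, hkq, smul_inv_smul]

/-- the coatoms given by sets -/
def SetCoatoms (Γ : Type*) (α : Type*) [Fintype α] [Group Γ] [MulAction Γ α] : Prop :=
  ∀ s : Set α, s.Nonempty → sᶜ.Nonempty → Nat.card α ≠ 2 * s.ncard →
    IsCoatom (stabilizer Γ s)

lemma mem_stab_set {s : Set α} {γ : Γ} (h : ∀ x ∈ s, γ • x ∈ s) : γ ∈ stabilizer Γ s := by
  rw [mem_stabilizer_iff]
  refine Set.eq_of_subset_of_ncard_le ?_ ?_ (Set.toFinite _)
  · rintro _ ⟨x, hx, rfl⟩; exact h x hx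
  · rw [Set.ncard_smul_set]

omit [Fintype α] [DecidableEq α] [Finite Γ] in
lemma smul_mem_of_stab {s : Set α} {γ : Γ} (h : γ ∈ stabilizer Γ s) {x : α} (hx : x ∈ s) :
    γ • x ∈ s := by
  have := Set.smul_mem_smul_set (a := γ) hx
  rwa [mem_stabilizer_iff.mp h] at this

/-- at least two maximal overgroups -/
def TwoOver (R : Subgroup Γ) : Prop :=
  ∃ M M' : Subgroup Γ, IsCoatom M ∧ IsCoatom M' ∧ R ≤ M ∧ R ≤ M' ∧ M ≠ M'

lemma two_of_coatom {R M K : Subgroup Γ} (hM : IsCoatom M) (hRM : R ≤ M) (hK : K ≠ ⊤)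
    (hRK : R ≤ K) (hKM : ¬ K ≤ M) : TwoOver R := by
  obtain h | ⟨M', hM', hKM'⟩ := eq_top_or_exists_le_coatom K
  · exact absurd h hK
  · exact ⟨M, M', hM, hM', hRM, hRK.trans hKM', fun h => hKM (h ▸ hKM')⟩

lemma two_of_join {R M K : Subgroup Γ} (hM : M ≠ ⊤) (hRM : R ≤ M) (hK : K ≠ ⊤)
    (hRK : R ≤ K) (hJ : M ⊔ K = ⊤) : TwoOver R := by
  obtain h | ⟨M', hM', hMM'⟩ := eq_top_or_exists_le_coatom M
  · exact absurd h hM
  · exact two_of_coatom hM' (hRM.trans hMM') hK hRK
      (fun h => hM'.1 (top_le_iff.mp (hJ ▸ sup_le hMM' h)))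

lemma two_of_sets_aux (hA : Lifts Γ α) (hC : SetCoatoms Γ α) (R : Subgroup Γ) {s t : Set α}
    (hs : s.Nonempty) (ht : t.Nonempty) (hst : Disjoint s t) (hu : (s ∪ t)ᶜ.Nonempty)
    (hRs : R ≤ stabilizer Γ s) (hRt : R ≤ stabilizer Γ t)
    (hcs : Nat.card α ≠ 2 * s.ncard) (hct : Nat.card α ≠ 2 * t.ncard) (h3 : 3 ≤ sᶜ.ncard) :
    TwoOver R := by
  obtain ⟨x, hx⟩ := ht
  obtain ⟨y, hy⟩ := hu
  simp only [Set.mem_compl_iff, Set.mem_union, not_or] at hy
  obtain ⟨z, hz, hzxy⟩ : ∃ z ∈ sᶜ, z ∉ ({x, y} : Set α) := by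
    refine Set.exists_mem_notMem_of_ncard_lt_ncard ?_ (Set.toFinite _)
    exact lt_of_le_of_lt (Set.ncard_insert_le _ _) (by rw [Set.ncard_singleton]; omega)
  simp only [Set.mem_insert_iff, Set.mem_singleton_iff, not_or] at hzxy
  have hxs : x ∉ s := fun h => hst.le_bot ⟨h, hx⟩
  have hxy : x ≠ y := fun h => hy.2 (h ▸ hx)
  obtain ⟨γ, hγx, hγy, hγz, hγw⟩ := exists_threeCycle hA hxy (Ne.symm hzxy.1) (Ne.symm hzxy.2)
  refine ⟨_, _, hC s hs ⟨x, hxs⟩ hcs, hC t ⟨x, hx⟩ ⟨y, hy.2⟩ hct, hRs, hRt, fun h => ?_⟩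
  have hγs : γ ∈ stabilizer Γ s := mem_stab_set fun w hw => by
    rw [hγw w (fun e => hxs (e ▸ hw)) (fun e => hy.1 (e ▸ hw)) (fun e => hz (e ▸ hw))]
    exact hw
  rw [h] at hγs
  exact hy.2 (hγx ▸ smul_mem_of_stab hγs hx)

lemma two_of_sets (hA : Lifts Γ α) (hC : SetCoatoms Γ α) (hn : 5 ≤ Fintype.card α)
    (R : Subgroup Γ) {s t : Set α}
    (hs : s.Nonempty) (ht : t.Nonempty) (hst : Disjoint s t) (hu : (s ∪ t)ᶜ.Nonempty)
    (hRs : R ≤ stabilizer Γ s) (hRt : R ≤ stabilizer Γ t) : TwoOver R := by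
  set u := (s ∪ t)ᶜ with hudef
  have hsu : Disjoint s u := Set.disjoint_left.mpr fun x hx hx' => hx' (Or.inl hx)
  have htu : Disjoint t u := Set.disjoint_left.mpr fun x hx hx' => hx' (Or.inr hx)
  have hRu : R ≤ stabilizer Γ u := by
    intro γ hγ
    refine mem_stab_set fun x hx hxx => hx ?_
    rcases hxx with h | h
    · left; simpa using smul_mem_of_stab (inv_mem (hRs hγ)) h
    · right; simpa using smul_mem_of_stab (inv_mem (hRt hγ)) h
  have hcard : s.ncard + t.ncard + u.ncard = Nat.card α := by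
    rw [← Set.ncard_union_eq hst, hudef, Set.ncard_add_ncard_compl]
  have key : ∀ p q r : Set α, p.Nonempty → q.Nonempty → r.Nonempty → Disjoint p q →
      Disjoint p r → Disjoint q r → p.ncard + q.ncard + r.ncard = Nat.card α →
      R ≤ stabilizer Γ p → R ≤ stabilizer Γ q → Nat.card α ≠ 2 * p.ncard →
      Nat.card α ≠ 2 * q.ncard → TwoOver R := by
    intro p q r hp hq hr hpq hpr hqr hsum hRp hRq hcp hcq
    have hne : (p ∪ q)ᶜ.Nonempty := hr.mono fun x hx h =>
      h.elim (fun h' => hpr.le_bot ⟨h', hx⟩) (fun h' => hqr.le_bot ⟨h', hx⟩)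
    have hcn : Nat.card α = Fintype.card α := Nat.card_eq_fintype_card
    have e1 := Set.ncard_add_ncard_compl p
    have e2 := Set.ncard_add_ncard_compl q
    have := hp.ncard_pos; have := hq.ncard_pos; have := hr.ncard_pos
    by_cases h3 : 3 ≤ pᶜ.ncard
    · exact two_of_sets_aux hA hC R hp hq hpq hne hRp hRq hcp hcq h3
    · exact two_of_sets_aux hA hC R hq hp hpq.symm (Set.union_comm p q ▸ hne) hRq hRp hcq hcp
        (by omega)
  have := hs.ncard_pos; have := ht.ncard_pos; have := hu.ncard_pos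
  by_cases hcs : Nat.card α = 2 * s.ncard
  · exact key t u s ht hu hs htu hst.symm hsu.symm (by omega) hRt hRu (by omega) (by omega)
  by_cases hct : Nat.card α = 2 * t.ncard
  · exact key s u t hs hu ht hsu hst htu.symm (by omega) hRs hRu (by omega) (by omega)
  exact key s t u hs ht hu hst hsu htu hcard hRs hRt hcs hct

lemma stab_orbit (R : Subgroup Γ) (x : α) : R ≤ stabilizer Γ (orbit R x) := by
  intro γ hγ
  refine mem_stab_set fun y hy => ?_
  obtain ⟨r, rfl⟩ := hy
  exact ⟨⟨γ, hγ⟩ * r, mul_smul _ _ _⟩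

/-- a pairing commuting with a fixed-point-free 2-group -/
lemma exists_pairing (R : Subgroup Γ) (hR : IsPGroup 2 R) (hfix : ∀ x : α, ∃ g ∈ R, g • x ≠ x) :
    ∃ π : α → α, (∀ x, π (π x) = x) ∧ (∀ x, π x ≠ x) ∧
      ∀ g ∈ R, ∀ x, π (g • x) = g • π x := by
  have step : ∀ x : α, ∃ k : R, k • x ≠ x ∧ (k * k) • x = x ∧
      ∀ r : R, r • x = x → r • k • x = k • x := by
    intro x
    set S := stabilizer R x with hS
    obtain ⟨g, hg, hgx⟩ := hfix x
    have hne : S ≠ ⊤ := fun h => hgx (h ▸ Subgroup.mem_top (⟨g, hg⟩ : R) : (⟨g, hg⟩ : R) ∈ S)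
    obtain ⟨e, he⟩ := IsPGroup.iff_card.mp (hR.to_subgroup S)
    obtain ⟨j, hj⟩ := (hR.index S)
    have hj0 : j ≠ 0 := fun h => hne (Subgroup.index_eq_one.mp (by rw [hj, h, pow_zero]))
    have hdvd : 2 ^ (e + 1) ∣ Nat.card R := by
      rw [← Subgroup.card_mul_index S, he, hj, ← pow_add]
      exact pow_dvd_pow 2 (by omega)
    obtain ⟨K, hK, hSK⟩ := Sylow.exists_subgroup_card_pow_succ hdvd he
    have hidx : (S.subgroupOf K).index = 2 := by
      have h1 := Subgroup.card_mul_index (S.subgroupOf K)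
      rw [Nat.card_congr (Subgroup.subgroupOfEquivOfLe hSK).toEquiv, he, hK, pow_succ] at h1
      exact Nat.eq_of_mul_eq_mul_left (by positivity) h1
    obtain ⟨k, hkK, hkS⟩ : ∃ k ∈ K, k ∉ S := by
      by_contra h
      push Not at h
      have : K = S := le_antisymm h hSK
      have h2 := congrArg (fun L : Subgroup R => Nat.card L) this
      simp only [hK, he] at h2
      exact absurd (Nat.pow_right_injective le_rfl h2) (by omega)
    haveI := Subgroup.normal_of_index_eq_two hidx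
    refine ⟨k, hkS, Subgroup.mul_self_mem_of_index_two hidx ⟨k, hkK⟩, fun r hr => ?_⟩
    have := Subgroup.Normal.conj_mem inferInstance (⟨r, hSK hr⟩ : K) (show _ ∈ S.subgroupOf K from hr)
      (⟨k, hkK⟩ : K)⁻¹
    have h3 : k⁻¹ * r * k ∈ S := by
      simpa [Subgroup.mem_subgroupOf] using this
    have h2 : (k⁻¹ * r * k) • x = x := h3
    rw [mul_smul, mul_smul, inv_smul_eq_iff] at h2
    exact h2
  choose k hk1 hk2 hk3 using step
  have hrep : ∀ y : α, ∃ g : R, g • (Quotient.mk (orbitRel R α) y).out = y := fun y => by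
    have h : (orbitRel R α) (Quotient.mk (orbitRel R α) y).out y :=
      Quotient.exact (Quotient.out_eq _)
    obtain ⟨g, hg⟩ := (orbitRel R α).symm' h
    exact ⟨g, hg⟩
  choose g hg using hrep
  let o : α → α := fun y => (Quotient.mk (orbitRel R α) y).out
  have hgo : ∀ y, g y • o y = y := hg
  have hoinv : ∀ (h : R) (y : α), o (h • y) = o y := fun h y =>
    congrArg Quotient.out (Quotient.sound (show (orbitRel R α) (h • y) y from ⟨h, rfl⟩))
  let π : α → α := fun y => g y • k (o y) • o y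
  have hmove : ∀ (h : R) (y : α), π (h • y) = h • π y := fun h y => by
    have hfix' : ((g (h • y))⁻¹ * (h * g y)) • o y = o y := by
      rw [mul_smul, mul_smul, hgo y, inv_smul_eq_iff]
      conv_lhs => rw [← hgo (h • y), hoinv]
    have := hk3 _ _ hfix'
    rw [mul_smul, mul_smul, inv_smul_eq_iff] at this
    show g (h • y) • k (o (h • y)) • o (h • y) = h • g y • k (o y) • o y
    rw [hoinv, ← this]
  have ho' : ∀ y, o (o y) = o y := fun y =>
    congrArg Quotient.out (Quotient.out_eq (Quotient.mk (orbitRel R α) y))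
  have h1 : ∀ y, π (o y) = k (o y) • o y := fun y => by
    have hfix' : (g (o y)) • o y = o y := by
      have := hgo (o y); rwa [ho'] at this
    show g (o y) • k (o (o y)) • o (o y) = _
    rw [ho', hk3 _ _ hfix']
  refine ⟨π, fun y => ?_, fun y h => ?_, fun γ hγ y => hmove ⟨γ, hγ⟩ y⟩
  · show π (g y • k (o y) • o y) = y
    rw [hmove, hmove, h1, ← mul_smul (k (o y)), hk2, hgo y]
  · apply hk1 (o y)
    have h' : g y • k (o y) • o y = g y • o y := by rw [hgo y]; exact h
    exact MulAction.injective _ h'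

/-- stabilizer of a pairing -/
def pairStab (π : α → α) : Subgroup Γ where
  carrier := {γ | ∀ x, π (γ • x) = γ • π x}
  one_mem' := fun x => by simp
  mul_mem' := fun {a b} ha hb x => by rw [mul_smul, mul_smul, ha, hb]
  inv_mem' := fun {a} ha x => by
    have := ha (a⁻¹ • x)
    rw [smul_inv_smul] at this
    rw [eq_inv_smul_iff]; exact this.symm

lemma pairSwap (hA : Lifts Γ α) {π : α → α} (h2 : ∀ x, π (π x) = x) (h1 : ∀ x, π x ≠ x)
    {y z : α} (hyz : y ≠ z) (hyz' : y ≠ π z) :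
    ∃ γ ∈ (pairStab π : Subgroup Γ), γ • y = z ∧
      ∀ w, w ≠ y → w ≠ z → w ≠ π y → w ≠ π z → γ • w = w := by
  have hzy' : z ≠ π y := fun h => hyz' (by rw [h, h2])
  have hππ : π y ≠ π z := fun h => hyz (by rw [← h2 y, h, h2])
  obtain ⟨γ, hγ⟩ := hA (swap y z * swap (π y) (π z)) (by
    rw [map_mul, Perm.sign_swap hyz, Perm.sign_swap hππ]; decide)
  have e : ∀ w, γ • w = swap y z (swap (π y) (π z) w) := fun w => by
    rw [lifts_apply hγ]; rfl
  have hy : γ • y = z := by
    rw [e, swap_apply_of_ne_of_ne (h1 y).symm hyz', swap_apply_left]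
  have hz : γ • z = y := by
    rw [e, swap_apply_of_ne_of_ne hzy' (h1 z).symm, swap_apply_right]
  have hy' : γ • π y = π z := by
    rw [e, swap_apply_left, swap_apply_of_ne_of_ne (Ne.symm hyz') (h1 z)]
  have hz' : γ • π z = π y := by
    rw [e, swap_apply_right, swap_apply_of_ne_of_ne (h1 y) (Ne.symm hzy')]
  have hw : ∀ w, w ≠ y → w ≠ z → w ≠ π y → w ≠ π z → γ • w = w := fun w a b c d => by
    rw [e, swap_apply_of_ne_of_ne c d, swap_apply_of_ne_of_ne a b]
  refine ⟨γ, fun w => ?_, hy, hw⟩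
  by_cases a : w = y
  · rw [a, hy, hy']
  by_cases b : w = z
  · rw [b, hz, hz']
  by_cases c : w = π y
  · rw [c, hy', h2, h2, hy]
  by_cases d : w = π z
  · rw [d, hz', h2, h2, hz]
  rw [hw w a b c d, hw (π w) (fun h => c (by rw [← h, h2])) (fun h => d (by rw [← h, h2]))
    (fun h => a (by rw [← h2 w, h, h2])) (fun h => b (by rw [← h2 w, h, h2]))]

lemma pairStab_ne_top (hA : Lifts Γ α) (hn : 3 ≤ Fintype.card α) {π : α → α}
    (h2 : ∀ x, π (π x) = x) (h1 : ∀ x, π x ≠ x) : (pairStab π : Subgroup Γ) ≠ ⊤ := by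
  intro h
  obtain ⟨x⟩ : Nonempty α := Fintype.card_pos_iff.mp (by omega)
  obtain ⟨z, -, hz⟩ := Finset.exists_mem_notMem_of_card_lt_card
      (s := ({x, π x} : Finset α)) (t := Finset.univ)
      (lt_of_le_of_lt Finset.card_le_two (by rw [Finset.card_univ]; omega))
  simp only [Finset.mem_insert, Finset.mem_singleton, not_or] at hz
  obtain ⟨γ, hx, hy, -, -⟩ := exists_threeCycle hA (h1 x).symm (Ne.symm hz.1) (Ne.symm hz.2)
  have := (h ▸ Subgroup.mem_top γ : γ ∈ (pairStab π : Subgroup Γ)) x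
  rw [hy, hx, h2] at this
  exact hz.1 this.symm

/-- stabilizer of a half -/
def halfStab (s : Set α) : Subgroup Γ where
  carrier := {γ | ∀ x y, ((x ∈ s) ↔ (y ∈ s)) → ((γ • x ∈ s) ↔ (γ • y ∈ s))}
  one_mem' := fun x y h => by simpa using h
  mul_mem' := fun {a b} ha hb x y h => by rw [mul_smul, mul_smul]; exact ha _ _ (hb _ _ h)
  inv_mem' := fun {a} ha x y h => by
    have ha' : a⁻¹ ∈ Subgroup.zpowers a := inv_mem (Subgroup.mem_zpowers a)
    obtain ⟨j, hj⟩ := (mem_powers_iff_mem_zpowers (G := Γ)).mpr ha'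
    simp only at hj
    rw [← hj]
    clear hj ha'
    induction j with
    | zero => simpa using h
    | succ j ih => rw [pow_succ', mul_smul, mul_smul]; exact ha _ _ ih

lemma exists_half (R : Subgroup Γ) (hR : IsPGroup 2 R) (hn : 2 ≤ Fintype.card α) (x : α)
    (htr : orbit R x = Set.univ) :
    ∃ h : Set α, h.Nonempty ∧ 2 * h.ncard = Nat.card α ∧ R ≤ halfStab h := by
  set S := stabilizer R x with hS
  have hidx : S.index = Nat.card α := by
    rw [hS, MulAction.index_stabilizer, htr, Set.ncard_univ]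
  have hne : S ≠ ⊤ := fun h => by
    rw [h, Subgroup.index_top, Nat.card_eq_fintype_card] at hidx; omega
  obtain h | ⟨M, hM, hSM⟩ := eq_top_or_exists_le_coatom S
  · exact absurd h hne
  haveI := hR.isNilpotent
  haveI : M.Normal := Subgroup.NormalizerCondition.normal_of_coatom M
    Group.normalizerCondition_of_isNilpotent hM
  have hM2 : M.index = 2 := by
    obtain ⟨j, hj⟩ := hR.index M
    have hj1 : j ≠ 0 := fun h => hM.1 (Subgroup.index_eq_one.mp (by rw [hj, h, pow_zero]))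
    obtain ⟨e, he⟩ := IsPGroup.iff_card.mp (hR.to_subgroup M)
    have hdvd : 2 ^ (e + 1) ∣ Nat.card R := by
      rw [← Subgroup.card_mul_index M, he, hj, ← pow_add]
      exact pow_dvd_pow 2 (by omega)
    obtain ⟨K, hK, hMK⟩ := Sylow.exists_subgroup_card_pow_succ hdvd he
    have hKtop : K = ⊤ := hM.2 K (lt_of_le_of_ne hMK fun h => by
      rw [h] at he
      exact absurd (Nat.pow_right_injective le_rfl (hK.symm.trans he)) (by omega))
    have := Subgroup.card_mul_index M
    rw [he, ← Subgroup.card_top (G := R), ← hKtop, hK, pow_succ] at this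
    exact Nat.eq_of_mul_eq_mul_left (by positivity) this
  set h : Set α := (fun m : R => m • x) '' (M : Set R) with hh
  have hmem : ∀ r : R, r • x ∈ h ↔ r ∈ M := by
    intro r
    refine ⟨?_, fun hr => ⟨r, hr, rfl⟩⟩
    rintro ⟨m, hm, hmx⟩
    have hmr : m⁻¹ * r ∈ S := by
      show (m⁻¹ * r) • x = x
      rw [mul_smul, inv_smul_eq_iff]; exact hmx.symm
    simpa using mul_mem hm (hSM hmr)
  have hall : ∀ y : α, ∃ r : R, r • x = y := fun y => by
    have : y ∈ orbit R x := htr ▸ Set.mem_univ y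
    exact this
  have hRh : R ≤ halfStab h := by
    intro γ hγ y z hyz
    obtain ⟨r, rfl⟩ := hall y
    obtain ⟨r', rfl⟩ := hall z
    rw [hmem, hmem] at hyz
    show (⟨γ, hγ⟩ : R) • r • x ∈ h ↔ (⟨γ, hγ⟩ : R) • r' • x ∈ h
    rw [← mul_smul, ← mul_smul, hmem, hmem, Subgroup.mul_mem_iff_of_index_two hM2,
      Subgroup.mul_mem_iff_of_index_two hM2, hyz]
  refine ⟨h, ⟨x, 1, M.one_mem, one_smul _ _⟩, ?_, hRh⟩
  obtain ⟨c, hc⟩ : ∃ c : R, c ∉ M := by
    by_contra hc; push Not at hc
    exact hM.1 ((Subgroup.eq_top_iff' M).mpr hc)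
  have hcompl : (c • h : Set α) = hᶜ := by
    ext y
    obtain ⟨r, rfl⟩ := hall y
    rw [Set.mem_smul_set_iff_inv_smul_mem, ← mul_smul, Set.mem_compl_iff, hmem, hmem,
      Subgroup.mul_mem_iff_of_index_two hM2]
    simp [hc]
  have h1 := Set.ncard_add_ncard_compl h
  rw [← hcompl, Set.ncard_smul_set] at h1
  omega

lemma join_top [FaithfulSMul Γ α] (hA : Lifts Γ α) (R : Sylow 2 Γ) {h : Set α} {π : α → α}
    (hh : 3 ≤ h.ncard) (hh' : 3 ≤ hᶜ.ncard)
    (h2 : ∀ x, π (π x) = x) (h1 : ∀ x, π x ≠ x) (hRh : (R : Subgroup Γ) ≤ halfStab h) :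
    halfStab h ⊔ pairStab π = (⊤ : Subgroup Γ) := by
  set J : Subgroup Γ := halfStab h ⊔ pairStab π
  have hcyc : ∀ p q r : α, p ≠ q → p ≠ r → q ≠ r → ((p ∈ h) ↔ (q ∈ h)) → ((p ∈ h) ↔ (r ∈ h)) →
      ∃ γ ∈ (halfStab h : Subgroup Γ), γ • p = q ∧ (MulAction.toPermHom Γ α γ).IsThreeCycle ∧
        ∀ w, w ≠ p → w ≠ q → w ≠ r → γ • w = w := by
    intro p q r hpq hpr hqr e1 e2
    obtain ⟨γ, a, b, c, d⟩ := exists_threeCycle hA hpq hpr hqr
    have hside : ∀ w, (γ • w ∈ h ↔ w ∈ h) := fun w => by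
      by_cases w1 : w = p
      · rw [w1, a]; exact e1.symm
      by_cases w2 : w = q
      · rw [w2, b]; exact (e2.symm.trans e1)
      by_cases w3 : w = r
      · rw [w3, c]; exact e2
      rw [d w w1 w2 w3]
    refine ⟨γ, fun u v huv => by rw [hside, hside]; exact huv, a, ?_, d⟩
    have : MulAction.toPermHom Γ α γ = swap p q * swap q r := Equiv.ext fun w => by
      show γ • w = swap p q (swap q r w)
      by_cases w1 : w = p
      · rw [w1, a, swap_apply_of_ne_of_ne hpq hpr, swap_apply_left]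
      by_cases w2 : w = q
      · rw [w2, b, swap_apply_left, swap_apply_of_ne_of_ne hpr.symm hqr.symm]
      by_cases w3 : w = r
      · rw [w3, c, swap_apply_right, swap_apply_right]
      rw [d w w1 w2 w3, swap_apply_of_ne_of_ne w2 w3, swap_apply_of_ne_of_ne w1 w2]
    rw [this, swap_comm p q]
    exact Perm.isThreeCycle_swap_mul_swap_same hpq.symm hqr hpr
  -- pick the base point
  obtain ⟨a, ha⟩ : h.Nonempty := Set.nonempty_of_ncard_ne_zero (by omega)
  obtain ⟨y, hy, hy'⟩ : ∃ y ∈ h, y ∉ ({a, π a} : Set α) :=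
    Set.exists_mem_notMem_of_ncard_lt_ncard
      (lt_of_le_of_lt (Set.ncard_insert_le _ _) (by rw [Set.ncard_singleton]; omega)) (Set.toFinite _)
  obtain ⟨z, hz, hz'⟩ : ∃ z ∈ hᶜ, z ∉ ({π a, π y} : Set α) :=
    Set.exists_mem_notMem_of_ncard_lt_ncard
      (lt_of_le_of_lt (Set.ncard_insert_le _ _) (by rw [Set.ncard_singleton]; omega)) (Set.toFinite _)
  simp only [Set.mem_insert_iff, Set.mem_singleton_iff, not_or] at hy' hz'
  have haz : a ≠ z := fun e => hz (e ▸ ha)
  have hyz : y ≠ z := fun e => hz (e ▸ hy)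
  obtain ⟨g, hg, hgy, hgw⟩ := pairSwap hA h2 h1 hyz (fun e => hz'.2 (by rw [e, h2]))
  have hga : g • a = a := hgw a (Ne.symm hy'.1) haz
    (fun e => hy'.2 (by rw [e, h2])) (fun e => hz'.1 (by rw [e, h2]))
  -- moving inside a half, fixing `a`
  have hin : ∀ p q, p ≠ a → q ≠ a → ((p ∈ h) ↔ (q ∈ h)) → ∃ k ∈ J, k • a = a ∧ k • p = q := by
    intro p q hp hq e
    by_cases hpq : p = q
    · exact ⟨1, one_mem _, one_smul _ _, by rw [one_smul, hpq]⟩
    by_cases hph : p ∈ h
    · by_cases h4 : ∃ r ∈ h, r ≠ a ∧ r ≠ p ∧ r ≠ q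
      · obtain ⟨r, hr, r1, r2, r3⟩ := h4
        obtain ⟨k, hk, k1, -, kw⟩ := hcyc p q r hpq r2.symm r3.symm e (by simp [hph, hr])
        exact ⟨k, Subgroup.mem_sup_left hk, kw a hp.symm hq.symm r1.symm, k1⟩
      · -- `h = {a, p, q}`: use two transpositions, one in the other half
        have hq' : q ∈ h := e.mp hph
        obtain ⟨u, hu, v, hv, huv⟩ := (Set.one_lt_ncard_iff (Set.toFinite _)).mp
          (show 1 < hᶜ.ncard by omega) |> fun ⟨u, v, hu, hv, huv⟩ => (⟨u, hu, v, hv, huv⟩ :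
            ∃ u ∈ hᶜ, ∃ v ∈ hᶜ, u ≠ v)
        obtain ⟨k, hk⟩ := hA (swap p q * swap u v) (by
          rw [map_mul, Perm.sign_swap hpq, Perm.sign_swap huv]; decide)
        have ek : ∀ w, k • w = swap p q (swap u v w) := fun w => by rw [lifts_apply hk]; rfl
        have hside : ∀ w, (k • w ∈ h ↔ w ∈ h) := fun w => by
          rw [ek]
          simp only [swap_apply_def]
          split_ifs <;> simp_all
        refine ⟨k, Subgroup.mem_sup_left (fun x y hxy => by rw [hside, hside]; exact hxy), ?_, ?_⟩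
        · rw [ek, swap_apply_of_ne_of_ne (fun e' : a = u => hu (e' ▸ ha))
            (fun e' : a = v => hv (e' ▸ ha)), swap_apply_of_ne_of_ne hp.symm hq.symm]
        · rw [ek, swap_apply_of_ne_of_ne (fun e' : p = u => hu (e' ▸ hph))
            (fun e' : p = v => hv (e' ▸ hph)), swap_apply_left]
    · have hqh : q ∉ h := fun h' => hph (e.mpr h')
      obtain ⟨r, hr, hr'⟩ : ∃ r ∈ hᶜ, r ∉ ({p, q} : Set α) :=
        Set.exists_mem_notMem_of_ncard_lt_ncard
          (lt_of_le_of_lt (Set.ncard_insert_le _ _) (by rw [Set.ncard_singleton]; omega))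
          (Set.toFinite _)
      simp only [Set.mem_insert_iff, Set.mem_singleton_iff, not_or] at hr'
      obtain ⟨k, hk, k1, -, kw⟩ := hcyc p q r hpq (Ne.symm hr'.1) (Ne.symm hr'.2) e
        (by simp only [Set.mem_compl_iff] at hr; simp [hph, hr])
      exact ⟨k, Subgroup.mem_sup_left hk, kw a hp.symm hq.symm (fun e' => hr (e' ▸ ha)), k1⟩
  have htwo : ∀ p q, p ≠ a → q ≠ a → ∃ k ∈ J, k • a = a ∧ k • p = q := by
    have hub : ∀ p, p ≠ a → ∃ k ∈ J, k • a = a ∧ k • p = z := by
      intro p hp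
      by_cases hph : p ∈ h
      · obtain ⟨k, hk, ka, kp⟩ := hin p y hp hy'.1 (by simp [hph, hy])
        exact ⟨g * k, mul_mem (Subgroup.mem_sup_right hg) hk, by rw [mul_smul, ka, hga],
          by rw [mul_smul, kp, hgy]⟩
      · exact hin p z hp haz.symm (by simp only [Set.mem_compl_iff] at hz; simp [hph, hz])
    intro p q hp hq
    obtain ⟨k, hk, ka, kp⟩ := hub p hp
    obtain ⟨k', hk', ka', kq⟩ := hub q hq
    exact ⟨k'⁻¹ * k, mul_mem (inv_mem hk') hk,
      by rw [mul_smul, ka, inv_smul_eq_iff, ka'], by rw [mul_smul, kp, inv_smul_eq_iff, kq]⟩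
  have hone : ∀ x, ∃ k ∈ J, k • a = x := by
    obtain ⟨g', hg', hg'a, -⟩ := pairSwap hA h2 h1 (y := a) (z := z) haz
      (fun e => hz'.1 (by rw [e, h2]))
    intro x
    by_cases hx : x = a
    · exact ⟨1, one_mem _, by rw [one_smul, hx]⟩
    · obtain ⟨k, hk, ka, kz⟩ := htwo z x haz.symm hx
      exact ⟨k * g', mul_mem hk (Subgroup.mem_sup_right hg'), by rw [mul_smul, hg'a, kz]⟩
  obtain ⟨p, hp, q, hq, r, hr, hpq, hpr, hqr⟩ : ∃ p ∈ h, ∃ q ∈ h, ∃ r ∈ h,
      p ≠ q ∧ p ≠ r ∧ q ≠ r := by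
    obtain ⟨p, q, r, hp, hq, hr, hne⟩ := (Set.two_lt_ncard_iff (Set.toFinite _)).mp
      (show 2 < h.ncard by omega)
    exact ⟨p, hp, q, hq, r, hr, hne⟩
  obtain ⟨c, hc, -, hc3, -⟩ := hcyc p q r hpq hpr hqr (by simp [hp, hq]) (by simp [hp, hr])
  exact top_of_threeCycle R J (hRh.trans le_sup_left) a hone htwo (Subgroup.mem_sup_left hc) hc3

lemma halfStab_ne_top (hA : Lifts Γ α) {h : Set α} (hh : 2 ≤ h.ncard) (hh' : hᶜ.Nonempty) :
    (halfStab h : Subgroup Γ) ≠ ⊤ := by
  intro ht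
  obtain ⟨x, y, hx, hy, hxy⟩ := (Set.one_lt_ncard_iff (Set.toFinite _)).mp (show 1 < h.ncard by omega)
  obtain ⟨z, hz⟩ := hh'
  obtain ⟨γ, a, b, -, -⟩ := exists_threeCycle hA hxy
    (fun e : x = z => hz (e ▸ hx)) (fun e : y = z => hz (e ▸ hy))
  have := ((ht ▸ Subgroup.mem_top γ : γ ∈ (halfStab h : Subgroup Γ)) x y (by simp [hx, hy]))
  rw [a, b] at this
  exact hz (this.mp hy)

theorem twoOver_or (hA : Lifts Γ α) [FaithfulSMul Γ α] (hC : SetCoatoms Γ α)
    (hn : 5 ≤ Fintype.card α) (R : Sylow 2 Γ) :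
    TwoOver (R : Subgroup Γ) ∨ ∃ k, 2 ≤ k ∧ Fintype.card α = 2 ^ k + 1 := by
  haveI := Fact.mk Nat.prime_two
  set P : Subgroup Γ := (R : Subgroup Γ)
  have hP : IsPGroup 2 P := R.isPGroup'
  have hcn : Nat.card α = Fintype.card α := Nat.card_eq_fintype_card
  have hmod := hP.card_modEq_card_fixedPoints α
  by_cases hfix : ∀ x : α, ∃ g ∈ P, g • x ≠ x
  · -- no fixed point
    left
    obtain ⟨π, h2, h1, hπ⟩ := exists_pairing P hP hfix
    have hRπ : P ≤ pairStab π := fun g hg => hπ g hg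
    have hne := pairStab_ne_top (Γ := Γ) hA (by omega) h2 h1
    obtain ⟨x⟩ : Nonempty α := Fintype.card_pos_iff.mp (by omega)
    have hhalf : ∀ h : Set α, 2 * h.ncard = Nat.card α → P ≤ halfStab h → TwoOver P := by
      intro h hh hPh
      have := Set.ncard_add_ncard_compl h
      exact two_of_join (halfStab_ne_top hA (by omega)
        (Set.nonempty_of_ncard_ne_zero (by omega))) hPh hne hRπ
        (join_top hA R (by omega) (by omega) h2 h1 hPh)
    by_cases htr : orbit P x = Set.univ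
    · obtain ⟨h, -, hh, hPh⟩ := exists_half P hP (by omega) x htr
      exact hhalf h hh hPh
    · by_cases hc : Nat.card α = 2 * (orbit P x).ncard
      · refine hhalf _ hc.symm (fun g hg u v huv => ?_)
        have e : ∀ w, (g • w ∈ orbit P x ↔ w ∈ orbit P x) := fun w =>
          ⟨fun hw => by simpa using smul_mem_of_stab (inv_mem (stab_orbit P x hg)) hw,
            smul_mem_of_stab (stab_orbit P x hg)⟩
        rw [e, e]; exact huv
      · refine two_of_coatom (hC _ ⟨x, mem_orbit_self x⟩ (Set.nonempty_compl.mpr htr) hc)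
          (stab_orbit P x) hne hRπ (fun hle => ?_)
        obtain ⟨z, hz⟩ := Set.nonempty_compl.mpr htr
        have hmem : ∀ w ∈ orbit P x, w ≠ z := fun w hw e => hz (e ▸ hw)
        obtain ⟨w, hw, hwz⟩ : ∃ w ∈ orbit P x, w ≠ π z := by
          obtain ⟨g, hg, hgx⟩ := hfix x
          by_cases e : x = π z
          · exact ⟨g • x, ⟨⟨g, hg⟩, rfl⟩, fun e' => hgx (e'.trans e.symm)⟩
          · exact ⟨x, mem_orbit_self x, e⟩
        obtain ⟨γ, hγ, hγw, -⟩ := pairSwap hA h2 h1 (hmem w hw) hwz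
        exact hz (hγw ▸ smul_mem_of_stab (hle hγ) hw)
  · push Not at hfix
    obtain ⟨a, ha⟩ := hfix
    have hsa : P ≤ stabilizer Γ ({a} : Set α) := fun g hg => mem_stab_set fun w hw => by
      rw [Set.mem_singleton_iff] at hw ⊢; rw [hw, ha g hg]
    obtain ⟨y, hya⟩ : ∃ y : α, y ≠ a := Fintype.exists_ne_of_one_lt_card (by omega) a
    by_cases ht : ({a} ∪ orbit P y : Set α) = Set.univ
    · right
      have hay : a ∉ orbit P y := fun ⟨g, hg⟩ => hya (by
        have := congrArg (fun w => g⁻¹ • w) hg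
        simp only [inv_smul_smul] at this
        rw [this]; exact ha _ (inv_mem g.2))
      obtain ⟨k, hk⟩ := hP.card_orbit y
      have hcard : Fintype.card α = 2 ^ k + 1 := by
        have h := Set.ncard_union_eq (Set.disjoint_singleton_left.mpr hay) (Set.toFinite _)
          (Set.toFinite _)
        rw [ht, Set.ncard_univ, Set.ncard_singleton, ← Nat.card_coe_set_eq, hk, hcn] at h
        omega
      refine ⟨k, ?_, hcard⟩
      by_contra h
      have : 2 ^ k ≤ 2 ^ 1 := Nat.pow_le_pow_right (by norm_num) (by omega)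
      omega
    · left
      exact two_of_sets hA hC hn P (Set.singleton_nonempty a) ⟨y, mem_orbit_self y⟩
        (Set.disjoint_singleton_left.mpr fun ⟨g, hg⟩ => hya (by
          have := congrArg (fun w => g⁻¹ • w) hg
          simp only [inv_smul_smul] at this
          rw [this]; exact ha _ (inv_mem g.2)))
        (Set.nonempty_compl.mpr ht) hsa (stab_orbit P y)

omit [Finite Γ] in
lemma orbit_subsets (hA : Lifts Γ α) (a : α) (hn : 5 ≤ Fintype.card α) {s : Finset α} (has : a ∉ s)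
    (t : Finset α) (hat : a ∉ t) (hst : s.card = t.card) :
    ∃ γ : Γ, γ • a = a ∧ γ • (s : Set α) = (t : Set α) := by
  have hs' : (s : Finset α).card + 1 ≤ Fintype.card α := by
    rw [← Finset.card_insert_of_notMem has]; exact Finset.card_le_univ _
  obtain ⟨g, hga, hgs⟩ : ∃ g : Perm α, g a = a ∧ (g '' (s : Set α)) = t := by
    have e1 : {x // x ∈ s} ≃ {x // x ∈ t} := Finset.equivOfCardEq hst
    let e2 : {x // x ∈ insert a s} ≃ {x // x ∈ insert a t} :=
      (Finset.subtypeInsertEquivOption has).trans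
        ((Equiv.optionCongr e1).trans (Finset.subtypeInsertEquivOption hat).symm)
    refine ⟨e2.extendSubtype, ?_, ?_⟩
    · rw [e2.extendSubtype_apply_of_mem a (Finset.mem_insert_self a s)]
      simp [e2, Finset.subtypeInsertEquivOption]
    · apply Set.eq_of_subset_of_ncard_le ?_ ?_ (Set.toFinite _)
      · rintro _ ⟨x, hx, rfl⟩
        have hxa : x ≠ a := fun e => has (e ▸ hx)
        rw [e2.extendSubtype_apply_of_mem x (Finset.mem_insert_of_mem hx)]
        simp [e2, Finset.subtypeInsertEquivOption, hxa]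
      · rw [Set.ncard_image_of_injective _ (Equiv.injective _), Set.ncard_coe_finset,
          Set.ncard_coe_finset, hst]
  have fin : ∀ g' : Perm α, Perm.sign g' = 1 → g' a = a → g' '' (s : Set α) = t →
      ∃ γ : Γ, γ • a = a ∧ γ • (s : Set α) = (t : Set α) := by
    intro g' h1 h2 h3
    obtain ⟨γ, hγ⟩ := hA g' h1
    refine ⟨γ, by rw [lifts_apply hγ]; exact h2, ?_⟩
    rw [← h3]
    exact Set.image_congr fun x _ => lifts_apply hγ x
  rcases Int.units_eq_one_or (Perm.sign g) with h | h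
  · exact fin g h hga hgs
  · obtain ⟨u, v, huv, hua, hva, hside⟩ : ∃ u v : α, u ≠ v ∧ u ≠ a ∧ v ≠ a ∧ (u ∈ s ↔ v ∈ s) := by
      by_cases h2 : 2 ≤ s.card
      · obtain ⟨u, hu, v, hv, huv⟩ := Finset.one_lt_card.mp h2
        exact ⟨u, v, huv, fun e => has (e ▸ hu), fun e => has (e ▸ hv), by simp [hu, hv]⟩
      · obtain ⟨u, hu, v, hv, huv⟩ := (Finset.one_lt_card (s := (insert a s)ᶜ)).mp
          (by rw [Finset.card_compl, Finset.card_insert_of_notMem has]; omega)
        simp only [Finset.mem_compl, Finset.mem_insert, not_or] at hu hv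
        exact ⟨u, v, huv, hu.1, hv.1, by simp [hu.2, hv.2]⟩
    refine fin (g * swap u v) (by rw [map_mul, h, Perm.sign_swap huv]; decide) ?_ ?_
    · rw [Perm.mul_apply, swap_apply_of_ne_of_ne hua.symm hva.symm, hga]
    · rw [Perm.coe_mul, Set.image_comp]
      suffices hsw : swap u v '' (s : Set α) = s by rw [hsw, hgs]
      ext w
      rw [Set.mem_image_equiv]
      simp only [symm_swap, Finset.mem_coe, swap_apply_def]
      split_ifs <;> simp_all

lemma transitive_compl (hA : Lifts Γ α) (k : ℕ) (hk : 2 ≤ k) (hn : Fintype.card α = 2 ^ k + 1)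
    (R : Sylow 2 Γ) {a : α} (ha : ∀ g ∈ (R : Subgroup Γ), g • a = a) {x y : α} (hx : x ≠ a)
    (hy : y ≠ a) : ∃ g ∈ (R : Subgroup Γ), g • x = y := by
  classical
  haveI := Fact.mk Nat.prime_two
  set P : Subgroup Γ := (R : Subgroup Γ)
  have h4 : 4 ≤ 2 ^ k := le_trans (by norm_num) (Nat.pow_le_pow_right (by norm_num) hk)
  set s : Finset α := (orbit P x).toFinite.toFinset with hs
  have hmem : ∀ w, w ∈ s ↔ w ∈ orbit P x := fun w => Set.Finite.mem_toFinset _
  have has : a ∉ s := fun h => by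
    obtain ⟨g, hg⟩ := (hmem a).mp h
    refine hx ?_
    have := congrArg (fun w => g⁻¹ • w) hg
    simp only [inv_smul_smul] at this
    rw [this]; exact ha _ (inv_mem g.2)
  by_contra hcon
  have hys : y ∉ s := fun h => by
    obtain ⟨g, hg⟩ := (hmem y).mp h
    exact hcon ⟨g, g.2, hg⟩
  have hcomp : ({a}ᶜ : Finset α).card = 2 ^ k := by
    rw [Finset.card_compl, Finset.card_singleton, hn]; omega
  have hsub : s ⊂ ({a}ᶜ : Finset α) := by
    refine Finset.ssubset_iff_subset_ne.mpr ⟨fun w hw => ?_, fun e => hys (e ▸ ?_)⟩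
    · simp only [Finset.mem_compl, Finset.mem_singleton]; exact fun e => has (e ▸ hw)
    · simpa using hy
  have hlt : s.card < 2 ^ k := hcomp ▸ Finset.card_lt_card hsub
  have hpos : s.card ≠ 0 := Finset.card_ne_zero.mpr ⟨x, (hmem x).mpr (mem_orbit_self x)⟩
  set H : Subgroup Γ := stabilizer Γ a with hH
  have horb : orbit H (s : Set α) = (fun t : Finset α => (t : Set α)) ''
      (({a}ᶜ : Finset α).powersetCard s.card : Set (Finset α)) := by
    ext T
    constructor
    · rintro ⟨γ, rfl⟩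
      refine ⟨(Set.toFinite ((γ : Γ) • (s : Set α))).toFinset, ?_, by simp; rfl⟩
      rw [Finset.mem_coe, Finset.mem_powersetCard]
      refine ⟨fun w hw => ?_, ?_⟩
      · rw [Set.Finite.mem_toFinset] at hw
        simp only [Finset.mem_compl, Finset.mem_singleton]
        intro hwa
        obtain ⟨v, hv, hvw⟩ := hw
        have : v = a := MulAction.injective (γ : Γ) ((hvw.trans hwa).trans γ.2.symm)
        exact has (this ▸ hv)
      · rw [← Set.ncard_eq_toFinset_card _, Set.ncard_smul_set, Set.ncard_coe_finset]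
    · rintro ⟨t, ht, rfl⟩
      rw [Finset.mem_coe, Finset.mem_powersetCard] at ht
      obtain ⟨γ, h1, h2⟩ := orbit_subsets hA a (by omega) has t
        (fun h => by simpa using ht.1 h) ht.2.symm
      exact ⟨⟨γ, h1⟩, h2⟩
  have hcnt : (stabilizer H (s : Set α)).index = (2 ^ k).choose s.card := by
    rw [MulAction.index_stabilizer, horb, Set.ncard_image_of_injective _ Finset.coe_injective,
      Set.ncard_coe_finset, Finset.card_powersetCard, hcomp]
  have hle : P.subgroupOf H ≤ stabilizer H (s : Set α) := by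
    intro γ hγ
    show (γ : Γ) • (s : Set α) = s
    have : (s : Set α) = orbit P x := Set.ext hmem
    rw [this]
    exact stab_orbit P x hγ
  have h2 : (2 ^ k).choose s.card ∣ P.index := by
    rw [← hcnt]
    refine (Subgroup.index_dvd_of_le hle).trans ?_
    exact Subgroup.relIndex_dvd_index_of_le (fun g hg => ha g hg)
  exact Sylow.not_dvd_index R ((Nat.Prime.dvd_choose_pow Nat.prime_two hpos hlt.ne).trans h2)

lemma unique_over (hA : Lifts Γ α) [FaithfulSMul Γ α] (hC : SetCoatoms Γ α)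
    (k : ℕ) (hk : 2 ≤ k) (hn : Fintype.card α = 2 ^ k + 1)
    (R : Sylow 2 Γ) : ∃! M : Subgroup Γ, IsCoatom M ∧ (R : Subgroup Γ) ≤ M := by
  classical
  haveI := Fact.mk Nat.prime_two
  set P : Subgroup Γ := (R : Subgroup Γ)
  have h4 : 4 ≤ 2 ^ k := le_trans (by norm_num) (Nat.pow_le_pow_right (by norm_num) hk)
  have hcn : Nat.card α = Fintype.card α := Nat.card_eq_fintype_card
  obtain ⟨a, ha'⟩ : (MulAction.fixedPoints P α).Nonempty := by
    refine R.isPGroup'.nonempty_fixed_point_of_prime_not_dvd_card α ?_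
    rw [hcn, hn, Nat.two_dvd_ne_zero]
    have : 2 ^ k % 2 = 0 := Nat.two_pow_mod_two_eq_zero.mpr (by omega)
    omega
  have ha : ∀ g ∈ P, g • a = a := fun g hg => ha' ⟨g, hg⟩
  have htr := fun (x y : α) (hx : x ≠ a) (hy : y ≠ a) => transitive_compl hA k hk hn R ha hx hy
  obtain ⟨b, hb⟩ : ∃ b : α, b ≠ a := Fintype.exists_ne_of_one_lt_card (by omega) a
  have hM0 := hC {a} ⟨a, rfl⟩ ⟨b, hb⟩ (by rw [Set.ncard_singleton]; omega)
  have hPM0 : P ≤ stabilizer Γ ({a} : Set α) := fun g hg => mem_stab_set fun w hw => by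
    rw [Set.mem_singleton_iff] at hw ⊢; rw [hw, ha g hg]
  refine ⟨_, ⟨hM0, hPM0⟩, ?_⟩
  rintro M ⟨hM, hPM⟩
  by_cases hfix : M ≤ stabilizer Γ ({a} : Set α)
  · rcases hM0.le_iff.mp (le_refl (stabilizer Γ ({a} : Set α))) with h | h
    · exact absurd h hM0.1
    · rcases hM.le_iff.mp hfix with h' | h'
      · exact absurd h' hM0.1
      · exact h'.symm
  exfalso
  obtain ⟨g, hg, hga⟩ : ∃ g ∈ M, g • a ≠ a := by
    by_contra hcon
    push Not at hcon
    exact hfix fun g hg => mem_stab_set fun w hw => by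
      rw [Set.mem_singleton_iff] at hw ⊢; rw [hw, hcon g hg]
  have h1 : ∀ x, ∃ m ∈ M, m • a = x := fun x => by
    by_cases hx : x = a
    · exact ⟨1, one_mem _, by rw [one_smul, hx]⟩
    · obtain ⟨r, hr, hrx⟩ := htr _ _ hga hx
      exact ⟨r * g, mul_mem (hPM hr) hg, by rw [mul_smul, hrx]⟩
  have h2 : ∀ x y, x ≠ a → y ≠ a → ∃ m ∈ M, m • a = a ∧ m • x = y := fun x y hx hy => by
    obtain ⟨r, hr, hrx⟩ := htr x y hx hy
    exact ⟨r, hPM hr, ha r hr, hrx⟩
  apply hM.1
  by_cases hk2 : k = 2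
  · -- degree five
    subst hk2
    obtain ⟨hidx⟩ : Nonempty (PLift (M.index ≤ 3)) := by
      refine ⟨⟨?_⟩⟩
      have horb : Set.univ = orbit M a := (Set.eq_univ_of_forall fun x => by
        obtain ⟨m, hm, e⟩ := h1 x; exact ⟨⟨m, hm⟩, e⟩).symm
      have h5 : 5 ∣ Nat.card M := by
        have := Subgroup.index_dvd_card (stabilizer M a)
        rwa [MulAction.index_stabilizer, ← horb, Set.ncard_univ, hcn, hn] at this
      have hdiv : Nat.card Γ ∣ Nat.card (Perm α) :=
        Subgroup.card_dvd_of_injective (MulAction.toPermHom Γ α) MulAction.toPerm_injective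
      rw [Nat.card_perm, hcn, hn] at hdiv
      have hodd : ¬ 2 ∣ M.index := fun h =>
        Sylow.not_dvd_index R (h.trans (Subgroup.index_dvd_of_le hPM))
      have h120 : M.index * 5 ∣ 120 :=
        ((Nat.mul_dvd_mul_left M.index h5).trans (Subgroup.index_mul_card M).dvd).trans hdiv
      have h24 : M.index ∣ 24 := Nat.dvd_of_mul_dvd_mul_right (by norm_num : 0 < 5) h120
      have : M.index ∈ Nat.divisors 24 := Nat.mem_divisors.mpr ⟨h24, by norm_num⟩
      have e : Nat.divisors 24 = {1, 2, 3, 4, 6, 8, 12, 24} := by decide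
      rw [e] at this
      simp only [Finset.mem_insert, Finset.mem_singleton] at this
      omega
    have hM5 : ∀ γ : Γ, γ ^ 5 = 1 → γ ∈ M := by
      intro γ hγ
      have hle : (orbit (Subgroup.zpowers γ) ((1 : Γ) : Γ ⧸ M)).ncard ≤ 3 :=
        (Set.ncard_le_ncard (Set.subset_univ _)).trans (by rw [Set.ncard_univ]; exact hidx.down)
      have hdvd : (orbit (Subgroup.zpowers γ) ((1 : Γ) : Γ ⧸ M)).ncard ∣ 5 := by
        rw [← MulAction.index_stabilizer]
        exact (Subgroup.index_dvd_card _).trans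
          (by rw [Nat.card_zpowers]; exact orderOf_dvd_of_pow_eq_one hγ)
      have hone : (orbit (Subgroup.zpowers γ) ((1 : Γ) : Γ ⧸ M)).ncard = 1 := by
        rcases (Nat.dvd_prime (by norm_num)).mp hdvd with h | h <;> omega
      obtain ⟨c, hc⟩ := Set.ncard_eq_one.mp hone
      have e1 : ((1 : Γ) : Γ ⧸ M) = c := by
        have : ((1 : Γ) : Γ ⧸ M) ∈ orbit (Subgroup.zpowers γ) ((1 : Γ) : Γ ⧸ M) :=
          mem_orbit_self _
        rw [hc] at this; exact this
      have e2 : ((γ * 1 : Γ) : Γ ⧸ M) = c := by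
        have : (⟨γ, Subgroup.mem_zpowers γ⟩ : Subgroup.zpowers γ) • ((1 : Γ) : Γ ⧸ M) ∈
          ({c} : Set _) := hc ▸ ⟨_, rfl⟩
        exact this
      rw [mul_one] at e2
      have := QuotientGroup.eq.mp (e1.trans e2.symm)
      simpa using this
    let e : Fin 5 ≃ α := (Fintype.equivFinOfCardEq (by rw [hn]; norm_num)).symm
    have hinj : Function.Injective (MulAction.toPermHom Γ α) := MulAction.toPerm_injective
    have hfive : ∀ c : Perm (Fin 5), c ^ 5 = 1 → Perm.sign c = 1 →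
        ∃ m ∈ M, MulAction.toPermHom Γ α m = e.permCongrHom c := fun c h5 hs => by
      obtain ⟨γ, hγ⟩ := hA (e.permCongrHom c) (by
        show Perm.sign (e.permCongr c) = 1
        rw [Perm.sign_permCongr, hs])
      exact ⟨γ, hM5 γ (hinj (by rw [map_pow, hγ, ← map_pow, h5, map_one, map_one])), hγ⟩
    let c1 : Perm (Fin 5) := swap 0 1 * swap 1 2 * swap 2 3 * swap 3 4
    let c2 : Perm (Fin 5) := swap 0 1 * swap 1 2 * swap 2 4 * swap 4 3
    obtain ⟨m1, hm1, e1⟩ := hfive c1 (by decide) (by decide)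
    obtain ⟨m2, hm2, e2⟩ := hfive c2 (by decide) (by decide)
    refine top_of_threeCycle R M hPM a h1 h2 (mul_mem (inv_mem hm1) hm2) ?_
    rw [map_mul, map_inv, e1, e2, ← map_inv, ← map_mul,
      show c1⁻¹ * c2 = swap 3 2 * swap 3 4 by decide, map_mul]
    have key : ∀ p q : Fin 5, e.permCongrHom (swap p q) = swap (e p) (e q) := fun p q =>
      Equiv.ext fun w => by
        show e (swap p q (e.symm w)) = _
        rw [← Equiv.symm_trans_swap_trans p q e]; rfl
    rw [key, key]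
    exact Perm.isThreeCycle_swap_mul_swap_same (e.injective.ne (by decide))
      (e.injective.ne (by decide)) (e.injective.ne (by decide))
  · -- degree at least nine
    have h8 : 8 ≤ 2 ^ k := le_trans (by norm_num)
      (Nat.pow_le_pow_right (by norm_num) (show 3 ≤ k by omega))
    obtain ⟨σ, hσ2, hσ1, hσa, hσR⟩ : ∃ σ : α → α, (∀ x, σ (σ x) = x) ∧
        (∀ x, x ≠ a → σ x ≠ x) ∧ σ a = a ∧
        ∀ x y, x ≠ a → y ≠ a → x ≠ y → x ≠ σ y →
          ∃ r ∈ P, MulAction.toPermHom Γ α r = swap x (σ x) * swap y (σ y) := by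
      obtain ⟨π, hπ2, hπ1⟩ : ∃ π : {x : α // x ≠ a} → {x : α // x ≠ a},
          (∀ x, π (π x) = x) ∧ ∀ x, π x ≠ x := by
        have hc : Fintype.card {x : α // x ≠ a} = Fintype.card (Fin (2 ^ (k - 1)) × Bool) := by
          rw [Fintype.card_subtype_compl, Fintype.card_subtype_eq, hn, Fintype.card_prod,
            Fintype.card_fin, Fintype.card_bool, ← pow_succ, show k - 1 + 1 = k by omega]
          omega
        let e := Fintype.equivOfCardEq hc
        refine ⟨fun x => e.symm ((e x).1, !(e x).2), fun x => ?_, fun x h => ?_⟩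
        · simp
        · have := congrArg (fun w => (e w).2) h
          simp at this
      set σ : α → α := fun x => if h : x = a then a else (π ⟨x, h⟩).1 with hσdef
      have hσa : σ a = a := by simp [hσdef]
      have hσne : ∀ x (h : x ≠ a), σ x = (π ⟨x, h⟩).1 := fun x h => by simp [hσdef, h]
      have hσna : ∀ x, x ≠ a → σ x ≠ a := fun x h => by rw [hσne x h]; exact (π _).2
      have hσ2 : ∀ x, σ (σ x) = x := fun x => by
        by_cases h : x = a
        · rw [h, hσa, hσa]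
        · rw [hσne x h, hσne _ (π ⟨x, h⟩).2, Subtype.coe_eta, hπ2]
      have hσ1 : ∀ x, x ≠ a → σ x ≠ x := fun x h e => hπ1 ⟨x, h⟩ (Subtype.ext (by
        rwa [hσne x h] at e))
      set X : Set Γ := {γ | ∃ x y, x ≠ a ∧ y ≠ a ∧ x ≠ y ∧ x ≠ σ y ∧
        MulAction.toPermHom Γ α γ = swap x (σ x) * swap y (σ y)} with hX
      have hinj : Function.Injective (MulAction.toPermHom Γ α) := MulAction.toPerm_injective
      have hcomm : ∀ x y : α, Commute (swap x (σ x)) (swap y (σ y)) := by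
        intro x y
        by_cases e1 : x = y
        · rw [e1]
        by_cases e2 : x = σ y
        · rw [e2, hσ2, swap_comm]
        refine (Perm.Disjoint.commute ?_)
        intro w
        by_contra hw
        push Not at hw
        have f1 : w = x ∨ w = σ x := by
          by_contra hc; push Not at hc; exact hw.1 (swap_apply_of_ne_of_ne hc.1 hc.2)
        have f2 : w = y ∨ w = σ y := by
          by_contra hc; push Not at hc; exact hw.2 (swap_apply_of_ne_of_ne hc.1 hc.2)
        rcases f1 with f1 | f1 <;> rcases f2 with f2 | f2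
        · exact e1 (f1.symm.trans f2)
        · exact e2 (f1.symm.trans f2)
        · exact e2 (by rw [← hσ2 x, ← f1, f2])
        · exact e1 (by rw [← hσ2 x, ← f1, f2, hσ2])
      have hXc : ∀ u ∈ X, ∀ v ∈ X, u * v = v * u := by
        rintro u ⟨x, y, -, -, -, -, hu⟩ v ⟨x', y', -, -, -, -, hv⟩
        apply hinj
        rw [map_mul, map_mul, hu, hv]
        exact ((hcomm x x').mul_right (hcomm x y')).mul_left
          ((hcomm y x').mul_right (hcomm y y'))
      have hX2 : ∀ u ∈ X, u ^ 2 = 1 := by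
        rintro u ⟨x, y, -, -, -, -, hu⟩
        apply hinj
        rw [map_pow, hu, map_one, (hcomm x y).mul_pow, pow_two, pow_two, swap_mul_self,
          swap_mul_self, one_mul]
      haveI := Subgroup.isMulCommutative_closure hXc
      have hE : IsPGroup 2 (Subgroup.closure X) := fun g => by
        refine ⟨1, Subtype.ext ?_⟩
        obtain ⟨g, hg⟩ := g
        simp only [pow_one, SubmonoidClass.mk_pow, OneMemClass.coe_one]
        induction hg using Subgroup.closure_induction with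
        | mem u hu => exact hX2 u hu
        | one => simp
        | mul u v hu hv h1 h2 =>
          have hcuv : Commute u v := congrArg Subtype.val
            (mul_comm' (⟨u, hu⟩ : Subgroup.closure X) ⟨v, hv⟩)
          rw [hcuv.mul_pow, h1, h2, one_mul]
        | inv u hu h => rw [inv_pow, h, inv_one]
      obtain ⟨R', hR'⟩ := hE.exists_le_sylow
      obtain ⟨c, hc⟩ := MulAction.exists_smul_eq Γ R' R
      have hcR : ∀ u ∈ X, c * u * c⁻¹ ∈ P := fun u hu => by
        have : c * u * c⁻¹ ∈ (c • R' : Sylow 2 Γ) := by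
          rw [← SetLike.mem_coe, Sylow.coe_smul]
          exact ⟨u, hR' (Subgroup.subset_closure hu), rfl⟩
        rw [hc] at this; exact this
      have hca : c • a = a := by
        by_contra hne
        set w := c⁻¹ • a with hw
        have hwa : w ≠ a := fun e => hne (by
          conv_lhs => rw [← e, hw, smul_inv_smul])
        obtain ⟨y, hy⟩ := Finset.card_pos.mp (show 0 < ({a, w, σ w} : Finset α)ᶜ.card by
          rw [Finset.card_compl]
          have := Finset.card_le_three (a := a) (b := w) (c := σ w)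
          omega)
        simp only [Finset.mem_compl, Finset.mem_insert, Finset.mem_singleton, not_or] at hy
        have hwy : w ≠ σ y := fun e => hy.2.2 (by rw [e, hσ2])
        obtain ⟨u, hu⟩ := hA (swap w (σ w) * swap y (σ y)) (by
          rw [map_mul, Perm.sign_swap (hσ1 w hwa).symm, Perm.sign_swap (hσ1 y hy.1).symm]; decide)
        have := ha _ (hcR u ⟨w, y, hwa, hy.1, Ne.symm hy.2.1, hwy, hu⟩)
        rw [mul_smul, mul_smul, ← hw, lifts_apply hu, Perm.mul_apply,
          swap_apply_of_ne_of_ne (Ne.symm hy.2.1) hwy, swap_apply_left] at this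
        rw [← eq_inv_smul_iff, ← hw] at this
        exact hσ1 w hwa this
      refine ⟨fun x => c • σ (c⁻¹ • x), fun x => by simp [hσ2], fun x hx e => ?_, ?_, ?_⟩
      · refine hσ1 (c⁻¹ • x) (fun e' => hx ?_) (eq_inv_smul_iff.mpr e)
        rw [inv_smul_eq_iff] at e'; rw [e', hca]
      · show c • σ (c⁻¹ • a) = a
        rw [show c⁻¹ • a = a by rw [inv_smul_eq_iff, hca], hσa, hca]
      · intro x y hx hy hxy hxy'
        have hne : ∀ z, z ≠ a → c⁻¹ • z ≠ a := fun z hz e => hz (by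
          rw [inv_smul_eq_iff] at e; rw [e, hca])
        obtain ⟨u, hu⟩ := hA (swap (c⁻¹ • x) (σ (c⁻¹ • x)) * swap (c⁻¹ • y) (σ (c⁻¹ • y))) (by
          rw [map_mul, Perm.sign_swap (hσ1 _ (hne x hx)).symm,
            Perm.sign_swap (hσ1 _ (hne y hy)).symm]; decide)
        refine ⟨_, hcR u ⟨_, _, hne x hx, hne y hy, fun e => hxy (MulAction.injective _ e),
          fun e => hxy' ?_, hu⟩, ?_⟩
        · show x = c • σ (c⁻¹ • y)
          rw [← e, smul_inv_smul]
        · set ι := MulAction.toPermHom Γ α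
          have key : ∀ p q : α, ι c * swap p q * (ι c)⁻¹ = swap (c • p) (c • q) := fun p q => by
            rw [mul_swap_eq_swap_mul, mul_inv_cancel_right]; rfl
          show ι (c * u * c⁻¹) = _
          rw [map_mul, map_mul, map_inv, hu]
          show _ = swap x (c • σ (c⁻¹ • x)) * swap y (c • σ (c⁻¹ • y))
          have ex := key (c⁻¹ • x) (σ (c⁻¹ • x))
          have ey := key (c⁻¹ • y) (σ (c⁻¹ • y))
          rw [smul_inv_smul] at ex ey
          rw [← ex, ← ey]
          group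
    -- two double transpositions meeting in one point
    have hga' : g⁻¹ • a ≠ a := fun e => hga (by
      conv_lhs => rw [← e, smul_inv_smul])
    set c0 := g⁻¹ • a with hc0
    set x := g • σ c0 with hx
    have hσna : ∀ x, x ≠ a → σ x ≠ a := fun x h e => h (by rw [← hσ2 x, e, hσa])
    have hxa : x ≠ a := fun e => hσ1 c0 hga' (MulAction.injective g (e.trans
      (smul_inv_smul g a).symm))
    obtain ⟨d, hd⟩ := Finset.card_pos.mp (show 0 < (({a, c0, σ c0} : Finset α) ∪
        {g⁻¹ • σ x, σ (g⁻¹ • σ x)})ᶜ.card by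
      rw [Finset.card_compl]
      have := Finset.card_union_le ({a, c0, σ c0} : Finset α) {g⁻¹ • σ x, σ (g⁻¹ • σ x)}
      have := Finset.card_le_three (a := a) (b := c0) (c := σ c0)
      have := Finset.card_le_two (a := g⁻¹ • σ x) (b := σ (g⁻¹ • σ x))
      omega)
    simp only [Finset.mem_compl, Finset.mem_union, Finset.mem_insert, Finset.mem_singleton,
      not_or] at hd
    obtain ⟨⟨hda, hdc, hdc'⟩, hde, hde'⟩ := hd
    set y := g • d with hy
    set w := g • σ d with hw
    obtain ⟨z, hz⟩ := Finset.card_pos.mp (show 0 < (({a, x, σ x} : Finset α) ∪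
        ({y, σ y} ∪ {w, σ w}))ᶜ.card by
      rw [Finset.card_compl]
      have := Finset.card_union_le ({a, x, σ x} : Finset α) ({y, σ y} ∪ {w, σ w})
      have := Finset.card_union_le ({y, σ y} : Finset α) {w, σ w}
      have := Finset.card_le_three (a := a) (b := x) (c := σ x)
      have := Finset.card_le_two (a := y) (b := σ y)
      have := Finset.card_le_two (a := w) (b := σ w)
      omega)
    simp only [Finset.mem_compl, Finset.mem_union, Finset.mem_insert, Finset.mem_singleton,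
      not_or] at hz
    obtain ⟨⟨hza, hzx, hzx'⟩, ⟨hzy, hzy'⟩, hzw, hzw'⟩ := hz
    obtain ⟨r1, hr1, e1⟩ := hσR x z hxa hza (Ne.symm hzx) (fun e => hzx' (by rw [e, hσ2]))
    obtain ⟨r2, hr2, e2⟩ := hσR c0 d hga' hda (Ne.symm hdc) (fun e => hdc' (by rw [e, hσ2]))
    set ι := MulAction.toPermHom Γ α
    have key : ∀ p q : α, ι g * swap p q * (ι g)⁻¹ = swap (g • p) (g • q) := fun p q => by
      rw [mul_swap_eq_swap_mul, mul_inv_cancel_right]; rfl
    have et : ι (g * r2 * g⁻¹) = swap a x * swap y w := by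
      rw [show swap a x = swap (g • c0) (g • σ c0) by rw [hc0, smul_inv_smul], hy, hw,
        ← key, ← key, map_mul, map_mul, map_inv, e2]
      group
    set A1 := swap x (σ x)
    set B1 := swap a x
    set C1 := swap z (σ z)
    set D1 := swap y w
    have hinjg := MulAction.injective (β := α) g
    have hyw : y ≠ w := fun e => hσ1 d hda (hinjg e).symm
    have hya : y ≠ a := fun e => hdc (hinjg (e.trans (smul_inv_smul g a).symm))
    have hwa : w ≠ a := fun e => hdc' (by
      rw [← hσ2 d, (hinjg (e.trans (smul_inv_smul g a).symm) : σ d = c0)])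
    have hyx : y ≠ x := fun e => hdc' (hinjg e)
    have hwx : w ≠ x := fun e => hdc (by rw [← hσ2 d, (hinjg e : σ d = σ c0), hσ2])
    have hyx' : y ≠ σ x := fun e => hde (by rw [← e, hy, inv_smul_smul])
    have hwx' : w ≠ σ x := fun e => hde' (by rw [← e, hw, inv_smul_smul, hσ2])
    have hzσa : σ z ≠ a := hσna z hza
    have dis : ∀ p q r s : α, p ≠ r → p ≠ s → q ≠ r → q ≠ s →
        Commute (swap p q) (swap r s) := by
      intro p q r s a1 a2 a3 a4
      refine Perm.Disjoint.commute fun v => ?_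
      by_cases hv : v = p ∨ v = q
      · right
        rcases hv with rfl | rfl
        · exact swap_apply_of_ne_of_ne a1 a2
        · exact swap_apply_of_ne_of_ne a3 a4
      · left
        push Not at hv
        exact swap_apply_of_ne_of_ne hv.1 hv.2
    have hCB : Commute C1 B1 := dis _ _ _ _ hza hzx hzσa (fun e => hzx' (by rw [← e, hσ2]))
    have hAC : Commute A1 C1 := dis _ _ _ _ (Ne.symm hzx) (fun e => hzx' (by rw [e, hσ2]))
      (Ne.symm hzx') (fun e => hzx (by rw [← hσ2 z, ← e, hσ2]))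
    have hAD : Commute A1 D1 := dis _ _ _ _ hyx.symm hwx.symm hyx'.symm hwx'.symm
    have hBD : Commute B1 D1 := dis _ _ _ _ hya.symm hwa.symm hyx.symm hwx.symm
    have hCD : Commute C1 D1 := dis _ _ _ _ hzy hzw
      (fun e => hzy' (by rw [← e, hσ2])) (fun e => hzw' (by rw [← e, hσ2]))
    have hmem : (r1 * (g * r2 * g⁻¹)) ^ 4 ∈ M :=
      pow_mem (mul_mem (hPM hr1) (mul_mem (mul_mem hg (hPM hr2)) (inv_mem hg))) 4
    have h3 : (A1 * B1).IsThreeCycle := by
      show (swap x (σ x) * swap a x).IsThreeCycle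
      rw [swap_comm a x]
      exact Perm.isThreeCycle_swap_mul_swap_same (hσ1 x hxa).symm hxa (hσna x hxa)
    have ord : (A1 * B1) ^ 3 = 1 := by rw [← h3.orderOf]; exact pow_orderOf_eq_one _
    have comm : Commute (A1 * B1) (C1 * D1) :=
      (hAC.mul_right hAD).mul_left (hCB.symm.mul_right hBD)
    have hval : ι ((r1 * (g * r2 * g⁻¹)) ^ 4) = A1 * B1 := by
      rw [map_pow, map_mul, e1, et,
        show A1 * C1 * (B1 * D1) = (A1 * B1) * (C1 * D1) by
          rw [mul_assoc, ← mul_assoc C1, hCB.eq, mul_assoc, ← mul_assoc A1],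
        comm.mul_pow, hCD.mul_pow, show (4 : ℕ) = 3 + 1 from rfl, pow_succ, ord, one_mul,
        show (3 + 1 : ℕ) = 2 * 2 from rfl, pow_mul, pow_two C1, swap_mul_self, one_pow,
        pow_mul, pow_two D1, swap_mul_self, one_pow, mul_one, mul_one]
    exact top_of_threeCycle R M hPM a h1 h2 hmem (hval ▸ h3)

end


/-- For n ≥ 5 with n ≠ 6, a Sylow 2-subgroup of the alternating group A_n lies in exactly one maximal subgroup of A_n if and only if n = 2^k + 1 for some k ≥ 2; the same holds for the symmetric group S_n. -/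
theorem result (n : ℕ) (hn : 5 ≤ n) (h6 : n ≠ 6) :
    ((∀ R : Sylow 2 ↥(alternatingGroup (Fin n)), (∃! M : Subgroup ↥(alternatingGroup (Fin n)), IsCoatom M ∧ (R : Subgroup ↥(alternatingGroup (Fin n))) ≤ M) ↔ ∃ k : ℕ, 2 ≤ k ∧ n = 2 ^ k + 1) ∧
    (∀ R : Sylow 2 (Equiv.Perm (Fin n)), (∃! M : Subgroup (Equiv.Perm (Fin n)), IsCoatom M ∧ (R : Subgroup (Equiv.Perm (Fin n))) ≤ M) ↔ ∃ k : ℕ, 2 ≤ k ∧ n = 2 ^ k + 1)) := by
  classical
  have hperm : Lifts (Perm (Fin n)) (Fin n) := fun g _ => ⟨g, by ext x; rfl⟩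
  have halt : Lifts ↥(alternatingGroup (Fin n)) (Fin n) := fun g hg => ⟨⟨g, hg⟩, by ext x; rfl⟩
  have hcard : Fintype.card (Fin n) = n := Fintype.card_fin n
  constructor
  · have hC : SetCoatoms ↥(alternatingGroup (Fin n)) (Fin n) := fun s h1 h2 h3 =>
      alternatingGroup.isCoatom_stabilizer h1 h2 h3
    intro R
    constructor
    · rintro ⟨M, -, hu⟩
      rcases twoOver_or halt hC (by omega) R with ⟨M1, M2, a, b, c, d, hne⟩ | ⟨k, hk, e⟩
      · exact absurd ((hu M1 ⟨a, c⟩).trans (hu M2 ⟨b, d⟩).symm) hne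
      · exact ⟨k, hk, hcard ▸ e⟩
    · rintro ⟨k, hk, e⟩
      exact unique_over halt hC k hk (hcard.trans e) R
  · have hC : SetCoatoms (Perm (Fin n)) (Fin n) := fun s h1 h2 h3 =>
      Equiv.Perm.isCoatom_stabilizer h1 h2 h3
    intro R
    constructor
    · rintro ⟨M, -, hu⟩
      rcases twoOver_or hperm hC (by omega) R with ⟨M1, M2, a, b, c, d, hne⟩ | ⟨k, hk, e⟩
      · exact absurd ((hu M1 ⟨a, c⟩).trans (hu M2 ⟨b, d⟩).symm) hne
      · exact ⟨k, hk, hcard ▸ e⟩
    · rintro ⟨k, hk, e⟩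
      exact unique_over hperm hC k hk (hcard.trans e) R

end Cfsg.Agent.S2245
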