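import Mathlib
import Cfsg.Statements.S2247
import Cfsg.Agent.Lib.SuzukiSylow.Borel
-- import your own Cfsg.Agent.* helpers here

set_option autoImplicit false
open Cfsg

namespace Cfsg.Agent.S2247

open Cfsg.Agent.Lib.Suzuki Cfsg.Agent.Lib.SuzukiSylow MulAction

/-- In the Suzuki group with q = 2^(2m+1), m ≥ 1 (realised as the stabiliser in SL₄ of the Suzuki–Tits ovoid), the normalizer of a Sylow 2-subgroup P is a maximal subgroup and is the only maximal subgroup containing P. -/
theorem result {F : Type*} [Field F] [Fintype F] {m : ℕ} (hm : 1 ≤ m) (hF : Fintype.card F = 2 ^ (2 * m + 1)) (P : Sylow 2 ↥(Cfsg.Sz F m)) :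
    IsCoatom (Subgroup.normalizer ((P : Subgroup ↥(Cfsg.Sz F m)) : Set ↥(Cfsg.Sz F m))) ∧
    ∀ M : Subgroup ↥(Cfsg.Sz F m), IsCoatom M → (P : Subgroup ↥(Cfsg.Sz F m)) ≤ M → M = Subgroup.normalizer ((P : Subgroup ↥(Cfsg.Sz F m)) : Set ↥(Cfsg.Sz F m)) := by
  have h : Hyp F m := ⟨hm, hF⟩
  haveI := finite_Sz h
  obtain ⟨x, hx⟩ := exists_conj_transl h P
  have hn : Subgroup.normalizer ((P : Subgroup ↥(Cfsg.Sz F m)) : Set ↥(Cfsg.Sz F m)) =
      stabilizer (Cfsg.Sz F m) (x • ovInf F m) := by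
    rw [hx, stabilizer_smul_eq_stabilizer_map_conj, ← normalizer_transl h]
    exact (Subgroup.map_equiv_normalizer_eq (transl h) (MulAut.conj x)).symm
  refine ⟨by rw [hn]; exact isCoatom_stab h _, fun M hM hPM => ?_⟩
  rw [hn, stabilizer_smul_eq_stabilizer_map_conj]
  have hM' : IsCoatom (M.comap (MulAut.conj x).toMonoidHom) := by
    rw [← (MulAut.conj x).mapSubgroup.isCoatom_iff]
    have e : (MulAut.conj x).mapSubgroup (M.comap (MulAut.conj x).toMonoidHom) = M :=
      Subgroup.map_comap_eq_self_of_surjective (f := (MulAut.conj x).toMonoidHom) (MulAut.conj x).surjective M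
    rw [e]; exact hM
  have hT : transl h ≤ M.comap (MulAut.conj x).toMonoidHom := by
    rw [← Subgroup.map_le_iff_le_comap, ← hx]; exact hPM
  rw [← eq_stab_of_isCoatom h hM' hT]
  exact (Subgroup.map_comap_eq_self_of_surjective (f := (MulAut.conj x).toMonoidHom) (MulAut.conj x).surjective M).symm

end Cfsg.Agent.S2247
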