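import Cfsg.Statements.S2251
import Mathlib
import Cfsg.Agent.Lib.SuzukiSubgroups.Classify
import Cfsg.Agent.S2238

set_option autoImplicit false
open Cfsg

namespace Cfsg.Agent.S2251

open Cfsg.Agent.Lib Cfsg.Agent.Lib.Suzuki Cfsg.Agent.Lib.SuzukiSubgroups MulAction


/-- The subgroups of the Suzuki group: with q = 2^(2m+1), m ≥ 1, r = 2^m and the group realised as the stabiliser in SL₄ of the Suzuki–Tits ovoid, every proper subgroup is contained in the normalizer of a Sylow 2-subgroup, or in the normalizer of a cyclic subgroup of order q − 1, q + 2r + 1 or q − 2r + 1, or in a subgroup isomorphic to a smaller Suzuki group Sz(s) with s = 2^(2k+1) ≥ 8 and 2k+1 a proper divisor of 2m+1. -/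
theorem result {F : Type*} [Field F] [Fintype F] {m : ℕ} (hm : 1 ≤ m) (hF : Fintype.card F = 2 ^ (2 * m + 1)) (M : Subgroup ↥(Cfsg.Sz F m)) (hM : M ≠ ⊤) :
    (∃ P : Sylow 2 ↥(Cfsg.Sz F m), M ≤ Subgroup.normalizer ((P : Subgroup ↥(Cfsg.Sz F m)) : Set ↥(Cfsg.Sz F m))) ∨
    (∃ U : Subgroup ↥(Cfsg.Sz F m), IsCyclic ↥U ∧ Nat.card ↥U ∈ ({2 ^ (2 * m + 1) - 1, 2 ^ (2 * m + 1) + 2 ^ (m + 1) + 1, 2 ^ (2 * m + 1) - 2 ^ (m + 1) + 1} : Set ℕ) ∧
      M ≤ Subgroup.normalizer (U : Set ↥(Cfsg.Sz F m))) ∨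
    (∃ (K : Type) (_ : Field K) (_ : Fintype K) (k : ℕ), 1 ≤ k ∧ k < m ∧ Fintype.card K = 2 ^ (2 * k + 1) ∧ 2 * k + 1 ∣ 2 * m + 1 ∧
      ∃ S : Subgroup ↥(Cfsg.Sz F m), Nonempty (↥S ≃* ↥(Cfsg.Sz K k)) ∧ M ≤ S) := by
  have h : Hyp F m := ⟨hm, hF⟩
  have := SuzukiSylow.finite_Sz h
  have := Fact.mk Nat.prime_two
  by_cases hab : NoAb M
  · rcases eq_or_ne M ⊥ with rfl | hne
    · exact Or.inl ⟨default, bot_le⟩
    · obtain ⟨k, hk, hkm, hdiv, c, hc⟩ := classify h hab hne hM
      classical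
      let _ : Fintype (GaloisField 2 (2 * k + 1)) := Fintype.ofFinite _
      have hKc : Fintype.card (GaloisField 2 (2 * k + 1)) = 2 ^ (2 * k + 1) := by
        rw [← Nat.card_eq_fintype_card, GaloisField.card 2 _ (by omega)]
      have hK : Hyp (GaloisField 2 (2 * k + 1)) k := ⟨hk, hKc⟩
      obtain ⟨i⟩ := exists_ringHom h hKc hdiv
      refine Or.inr (Or.inr ⟨GaloisField 2 (2 * k + 1), inferInstance, inferInstance, k, hk, hkm, hKc, hdiv,
        M, ⟨?_⟩, le_rfl⟩)
      have hi := theta_compat (m := m) i hKc hdiv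
      exact ((M.equivMapOfInjective (MulAut.conj c).toMonoidHom (MulAut.conj c).injective).trans
        (MulEquiv.subgroupCongr (show cmap c M = (embed h hK i hi).range by
          rw [hc, range_embed h hK i hi, hKc]))).trans
        (MonoidHom.ofInjective (embed_injective h hK i hi)).symm
  · simp only [NoAb, not_forall] at hab
    obtain ⟨A, hAM, hinv, hcomm, hA⟩ := hab
    obtain ⟨a, ha, ha1⟩ := A.bot_or_exists_ne_one.resolve_left hA
    have hconjA : ∀ x ∈ M, x * a * x⁻¹ ∈ A := fun x hx => hinv x hx ⟨a, ha, rfl⟩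
    rcases exists_member h ha1 with ⟨p, hp⟩ | ⟨U, hU, haU⟩
    · left
      obtain ⟨k, hk⟩ := exists_move h p
      obtain ⟨P, hP⟩ := S2238.map_transl_sylow h k
      refine ⟨P, fun x hx => ?_⟩
      have hPp : (P : Subgroup (Cfsg.Sz F m)) = transAt h p := by rw [transAt_eq h hk]; exact hP.symm
      have hfixA : ∀ b ∈ A, b • p = p := by
        intro b hb
        refine eq_of_mem_transAt h hp ha1 ?_
        rw [← mul_smul, hcomm a ha b hb, mul_smul, fix_of_mem_transAt h hp]
      have hxp : x • p = p := by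
        have := hfixA _ (hconjA x⁻¹ (inv_mem hx))
        refine eq_of_mem_transAt h hp ha1 ?_
        rw [inv_inv, mul_smul, mul_smul, inv_smul_eq_iff] at this
        exact this
      rw [mem_normalizer_iff_cmap, hPp, cmap_transAt h, hxp]
    · right; left
      have hAU : A ≤ U := fun b hb => by
        rw [← cyc_centralizer h hU haU ha1, Subgroup.mem_centralizer_singleton_iff]
        exact hcomm b hb a ha
      refine ⟨U, ?_, ?_, fun x hx => ?_⟩
      · rcases hU with ⟨k, rfl⟩ | hU
        · have : IsCyclic (szHHom h).range := isCyclic_of_surjective (szHHom h).rangeRestrict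
            (szHHom h).rangeRestrict_surjective
          exact isCyclic_of_surjective ((MulAut.conj k).toMonoidHom.subgroupMap (szHHom h).range)
            (MonoidHom.subgroupMap_surjective _ _)
        · exact torus_isCyclic h hU
      · rcases hU with ⟨k, rfl⟩ | hU
        · left; rw [card_cmap, card_szH_range h, hF]
        · right
          exact S2238.card_torus h hU
      · rw [mem_normalizer_iff_cmap]
        exact cyc_eq_of_mem h (cycU_cmap h hU x) hU ⟨a, haU, rfl⟩ (hAU (hconjA x hx))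
          (fun e => ha1 (conj_eq_one_iff.1 e))

end Cfsg.Agent.S2251
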