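import Mathlib
import Cfsg.Statements.S2254
import Cfsg.Agent.Lib.NilpotentPerm.Embed
-- import your own Cfsg.Agent.* helpers here

set_option autoImplicit false
open Cfsg

namespace Cfsg.Agent.S2254

open Cfsg.Agent.Lib.NilpotentPerm

/-- Let n ≡ 3 (mod 4). Then every nilpotent subgroup of the symmetric group on n letters has order at most 3 times the order of a Sylow 2-subgroup of the symmetric group on n − 3 letters; the bound is attained by a nilpotent subgroup isomorphic to the direct product of such a Sylow 2-subgroup with a cyclic group of order 3; and any two nilpotent subgroups attaining the bound are conjugate. -/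
theorem result  (n : ℕ) (hn : n % 4 = 3)
    (P : Sylow 2 (Equiv.Perm (Fin (n - 3)))) :
    (∀ N : Subgroup (Equiv.Perm (Fin n)), Group.IsNilpotent N → Nat.card N ≤ 3 * Nat.card P) ∧
    (∃ M : Subgroup (Equiv.Perm (Fin n)), Group.IsNilpotent M ∧ Nat.card M = 3 * Nat.card P ∧
      Nonempty (M ≃* (↥(P : Subgroup (Equiv.Perm (Fin (n - 3)))) × Multiplicative (ZMod 3)))) ∧
    (∀ N₁ N₂ : Subgroup (Equiv.Perm (Fin n)), Group.IsNilpotent N₁ → Group.IsNilpotent N₂ →
      Nat.card N₁ = 3 * Nat.card P → Nat.card N₂ = 3 * Nat.card P →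
      ∃ g : Equiv.Perm (Fin n), N₂ = N₁.map (MulAut.conj g).toMonoidHom) := by
  haveI := Fact.mk Nat.prime_two
  have hP : Nat.card P = sylTwo (n - 3) := by rw [sylow_perm_card P, Nat.card_fin]
  have hb : ∀ N : Subgroup (Equiv.Perm (Fin n)), Group.IsNilpotent N → Nat.card N ≤ 3 * Nat.card P := by
    intro N hN
    haveI : FaithfulSMul N (Fin n) := ⟨fun h => Subtype.ext (Equiv.ext h)⟩
    refine (card_le_nilMax (Ω := Fin n) hN).trans (le_of_eq ?_)
    rw [hP, Nat.card_fin, nilMax, if_pos hn]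
  refine ⟨hb, ?_, ?_⟩
  · let ψ := (prodC3Hom (n := n) (by omega)).comp
      ((P : Subgroup (Equiv.Perm (Fin (n - 3)))).subtype.prodMap (MonoidHom.id _))
    have hψ : Function.Injective ψ := (prodC3Hom_injective _).comp
      (Prod.map_injective.2 ⟨Subtype.val_injective, fun a b h => h⟩)
    refine ⟨ψ.range, ?_, ?_, ⟨(MonoidHom.ofInjective hψ).symm⟩⟩
    · haveI := isNilpotent_prod_c3 P.2
      exact Group.nilpotent_of_surjective ψ.rangeRestrict ψ.rangeRestrict_surjective
    · rw [← Nat.card_congr (MonoidHom.ofInjective hψ).toEquiv, Nat.card_prod, card_c3, mul_comm]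
  · intro N₁ N₂ h₁ h₂ c₁ c₂
    rw [hP] at c₁ c₂
    refine conj_of_extremal (expFact 2 (n - 3)) Equiv.Perm.IsThreeCycle
      (fun u v hu hv => Equiv.Perm.isConj_iff_cycleType_eq.2 (hu.trans hv.symm))
      (fun N hN => (hb N hN).trans (le_of_eq (by rw [hP, sylTwo]))) ?_ N₁ N₂ h₁ h₂ c₁ c₂
    intro N hN hc
    haveI : FaithfulSMul N (Fin n) := ⟨fun h => Subtype.ext (Equiv.ext h)⟩
    obtain ⟨z, hz, ho, h3⟩ := exists_central_threeCycle (Ω := Fin n) hN (by rwa [Nat.card_fin]) hc (by
      rw [Nat.card_fin, hc, sylTwo]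
      have : 0 < 2 ^ expFact 2 (n - 3) := pow_pos two_pos _
      omega)
    refine ⟨z, z.2, fun g hg => congrArg Subtype.val (Subgroup.mem_center_iff.1 hz ⟨g, hg⟩), ?_, ?_⟩
    · rw [← ho, Subgroup.orderOf_coe]
    · exact h3

end Cfsg.Agent.S2254
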