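import Mathlib
import Cfsg.Statements.S2255
import Cfsg.Agent.Lib.NilpotentPerm.Embed
-- import your own Cfsg.Agent.* helpers here

set_option autoImplicit false
open Cfsg

namespace Cfsg.Agent.S2255

open Cfsg.Agent.Lib.NilpotentPerm

/-- Let n be a natural number not congruent to 3 modulo 4, with n ∉ {5, 6, 9}. Then every nilpotent subgroup of the alternating group on n letters has order at most the order of a Sylow 2-subgroup of the alternating group (so the nilpotent subgroups of largest order are exactly the Sylow 2-subgroups). -/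
theorem result  (n : ℕ) (hn : n % 4 ≠ 3)
    (h5 : n ≠ 5) (h6 : n ≠ 6) (h9 : n ≠ 9)
    (N : Subgroup (alternatingGroup (Fin n))) (hN : Group.IsNilpotent N)
    (P : Sylow 2 (alternatingGroup (Fin n))) :
    Nat.card N ≤ Nat.card P := by
  haveI := Fact.mk Nat.prime_two
  rcases Nat.lt_or_ge n 2 with hlt | hge
  · haveI : Subsingleton (Fin n) := Fin.subsingleton_iff_le_one.2 (by omega)
    haveI : Subsingleton (alternatingGroup (Fin n)) := ⟨fun a b => Subtype.ext (Subsingleton.elim _ _)⟩
    rw [Nat.card_unique (α := N)]
    exact Nat.card_pos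
  by_cases h2 : IsPGroup 2 N
  · obtain ⟨S, hS⟩ := h2.exists_le_sylow
    calc Nat.card N ≤ Nat.card S := Subgroup.card_le_of_le hS
      _ = Nat.card P := by rw [S.card_eq_multiplicity, P.card_eq_multiplicity]
  haveI : FaithfulSMul N (Fin n) := ⟨fun h => Subtype.ext (Subtype.ext (Equiv.ext h))⟩
  have h := (two_mul_card_le_of_even (Ω := Fin n) hN h2 (fun g => g.1.2)).1
    (by rwa [Nat.card_fin]) (by rwa [Nat.card_fin]) (by rwa [Nat.card_fin]) (by rwa [Nat.card_fin])
  have hP := two_mul_sylow_alternating_card (Δ := Fin n) (by simpa using hge) P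
  omega

end Cfsg.Agent.S2255
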