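import Cfsg.Statements.S2257
import Cfsg.Agent.Lib.SL2Solubilizer.Types

set_option autoImplicit false
open Cfsg

namespace Cfsg.Agent.S2257

open Cfsg.Agent.Lib.SL2 Cfsg.Agent.Lib.SL2.OddProductGraph Cfsg.Agent.Lib.SL2Solubilizer

variable {F : Type*} [Field F] [Fintype F] [CharP F 2]

theorem mem_solub_upper (y : SLtwo F) :
    proj y ∈ solub (proj (upper 1)) ↔ y 1 0 = 0 ∨ (y 1 0 ≠ 0 ∧ (tr y = 0 ∨ tr y = -y 1 0)) := by
  haveI := Fact.mk Nat.prime_two
  have h0 : (2 : F) = 0 := by simpa using CharP.cast_eq_zero F 2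
  set x := proj (upper (1 : F)) with hx
  have hx1 : x ≠ 1 := proj_upper_one_ne
  have hxx : x * x = 1 := sq_one_of_tr_zero (by simp [tr]; norm_num; exact h0)
  have hxu : IsUnip x := isUnip_upper 1
  have htr : tr (upper 1 * y) = tr y + y 1 0 := by
    simp only [tr, mul_00, mul_11, upper_00, upper_01, upper_10, upper_11]; ring
  constructor
  · intro hs
    by_cases hc : y 1 0 = 0
    · exact Or.inl hc
    refine Or.inr ⟨hc, ?_⟩
    have hxm : x ∈ Subgroup.closure ({x, proj y} : Set (PSLtwo F)) := Subgroup.subset_closure (Set.mem_insert _ _)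
    have hym : proj y ∈ Subgroup.closure ({x, proj y} : Set (PSLtwo F)) :=
      Subgroup.subset_closure (Set.mem_insert_of_mem _ rfl)
    rcases solvable_cases hs (closure_ne_bot hx1) with ⟨a, ha, hN⟩ | ⟨a, ha, ha1, hN⟩ | ⟨h2, -⟩
    · have hxinv := ((normalizer_torus_semi ha (hN x hxm)).resolve_left (unip_not_mem_semi hxu hx1 ha)).2.2
      rcases normalizer_torus_semi ha (hN (proj y) hym) with e | e
      · have h1 : proj (upper 1 * y) * proj (upper 1 * y) = 1 := by
          have := hxinv _ e
          rw [inv_eq_of_mul_eq_one_right hxx] at this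
          rw [map_mul, ← hx, show x * proj y * (x * proj y) = (x * proj y * x) * proj y by group, this,
            inv_mul_cancel]
        rcases tr_zero_or_center h1 with e' | e'
        · right; linear_combination e' - htr
        · have := ((mem_center_iff_entries _).1 e').2.1
          simp only [mul_10, upper_10, upper_11, zero_mul, zero_add, one_mul] at this
          exact absurd this hc
      · rcases tr_zero_or_center e.2.1 with e' | e'
        · exact Or.inl e'
        · exact absurd ((mem_center_iff_entries _).1 e').2.1 hc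
    · exfalso
      have hm := mem_normalizer_of hx1 ha1 (unip_mem_torus hxu ha ha1 (hN x hxm)) (hN (proj y) hym)
      rw [hx, ← map_inv, ← map_mul, ← map_mul, proj_mem_torus_iff, normalizer_upper_iff one_ne_zero] at hm
      exact hc hm
    · exact absurd h0 h2
  · rintro (h | ⟨-, h | h⟩)
    · refine borel_solub hxu hx1 (by rw [mul_inv_cancel_right]; exact mem_torus_self x) ?_
      rw [hx, ← map_inv, ← map_mul, ← map_mul, proj_mem_torus_iff, normalizer_upper_iff one_ne_zero]
      exact h
    · exact solvable_two_invol hxx (sq_one_of_tr_zero h)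
    · refine solvable_inverts hxx ?_
      rw [hx, ← map_mul]
      exact sq_one_of_tr_zero (by rw [htr, h, neg_add_cancel])

theorem card_solub_upper : Nat.card (solub (proj (upper (1 : F)))) = 3 * Fintype.card F * (Fintype.card F - 1) := by
  have h0 : (2 : F) = 0 := by simpa using CharP.cast_eq_zero F 2
  have hg : Nat.gcd 2 (Fintype.card F - 1) = 1 := by
    rw [← card_center (F := F), center_eq_bot_even h0]; simp
  have hc := card_preimage (solub (proj (upper (1 : F))))
  rw [hg, one_mul] at hc
  rw [← hc, Nat.card_congr (Equiv.subtypeEquivRight mem_solub_upper), card_or fun y h1 h2 => h2.1 h1]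
  let f : Fˣ × F × Bool → {y : SLtwo F // y 1 0 ≠ 0 ∧ (tr y = 0 ∨ tr y = -y 1 0)} := fun p =>
    ⟨ofEntries p.2.1 ((p.2.1 * ((if p.2.2 then 0 else -(p.1 : F)) - p.2.1) - 1) * (p.1⁻¹ : Fˣ)) p.1
      ((if p.2.2 then 0 else -(p.1 : F)) - p.2.1) (by
        rw [mul_assoc, ← Units.val_mul, inv_mul_cancel, Units.val_one, mul_one, sub_sub_cancel]),
      by refine ⟨p.1.ne_zero, ?_⟩; cases p.2.2 <;> simp [tr, ofEntries]⟩
  have hf : Function.Bijective f := by
    constructor
    · rintro ⟨c, a, s⟩ ⟨d, b, t⟩ e
      have e10 := congrArg (fun z => (z : SLtwo F) 1 0) (congrArg Subtype.val e)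
      have e00 := congrArg (fun z => (z : SLtwo F) 0 0) (congrArg Subtype.val e)
      have e11 := congrArg (fun z => (z : SLtwo F) 1 1) (congrArg Subtype.val e)
      simp [f, ofEntries] at e10 e00 e11
      obtain rfl := Units.ext e10
      subst e00
      cases s <;> cases t <;> simp at e11 ⊢ <;>
        exact c.ne_zero (by first | linear_combination e11 | linear_combination -e11)
    · rintro ⟨y, hc, hy⟩
      have hd := det_entries y
      obtain ⟨s, hs⟩ : ∃ s : Bool, y 1 1 = (if s then 0 else -y 1 0) - y 0 0 := by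
        rcases hy with e | e <;> simp only [tr] at e
        · exact ⟨true, by simp; linear_combination e⟩
        · exact ⟨false, by simp; linear_combination e⟩
      refine ⟨(Units.mk0 _ hc, y 0 0, s), Subtype.ext (ext_entries ?_ ?_ ?_ ?_)⟩ <;>
        simp [f, ofEntries]
      · rw [← hs]
        field_simp
        linear_combination hd
      · exact hs.symm
  rw [show Nat.card {y : SLtwo F // y 1 0 = 0} = Nat.card (borelSL (F := F)) from rfl, card_borelSL,
    ← Nat.card_congr (Equiv.ofBijective f hf), Nat.card_prod, Nat.card_prod, Nat.card_units,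
    Nat.card_eq_fintype_card (α := F), Nat.card_eq_fintype_card (α := Bool), Fintype.card_bool]
  ring

/-- Let G = PSL_2(F) with F a field of order q = 2^p, p prime, and for x ∈ G call the solubilizer of x the set of y ∈ G such that x and y generate a solvable subgroup. Then the solubilizer of an involution has 3q(q − 1) elements; that of a non-identity element of order dividing q − 1 has 2q(q − 1) elements; and that of a non-identity element of order dividing q + 1 has 2(q + 1) elements. -/
theorem result (p : ℕ) (hp : p.Prime) {F : Type*} [Field F] [Fintype F]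
    (hF : Fintype.card F = 2 ^ p) (x : Matrix.ProjectiveSpecialLinearGroup (Fin 2) F) :
    (orderOf x = 2 → Nat.card {y : Matrix.ProjectiveSpecialLinearGroup (Fin 2) F // Group.IsSolvable ↥(Subgroup.closure ({x, y} : Set (Matrix.ProjectiveSpecialLinearGroup (Fin 2) F)))} = 3 * 2 ^ p * (2 ^ p - 1)) ∧
    (x ≠ 1 → orderOf x ∣ 2 ^ p - 1 → Nat.card {y : Matrix.ProjectiveSpecialLinearGroup (Fin 2) F // Group.IsSolvable ↥(Subgroup.closure ({x, y} : Set (Matrix.ProjectiveSpecialLinearGroup (Fin 2) F)))} = 2 * 2 ^ p * (2 ^ p - 1)) ∧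
    (x ≠ 1 → orderOf x ∣ 2 ^ p + 1 → Nat.card {y : Matrix.ProjectiveSpecialLinearGroup (Fin 2) F // Group.IsSolvable ↥(Subgroup.closure ({x, y} : Set (Matrix.ProjectiveSpecialLinearGroup (Fin 2) F)))} = 2 * (2 ^ p + 1)) := by
  have : CharP F 2 := by
    haveI := Fact.mk Nat.prime_two
    obtain ⟨r, hr⟩ := CharP.exists F
    haveI := hr
    obtain ⟨k, hrp, hk⟩ := FiniteField.card F r
    have h2 : (2 : ℕ) ∣ r ^ (k : ℕ) := by rw [← hk, hF]; exact dvd_pow_self 2 hp.ne_zero
    rwa [← (Nat.prime_dvd_prime_iff_eq Nat.prime_two hrp).1 (Nat.prime_two.dvd_of_dvd_pow h2)] at hr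
  haveI := Fact.mk Nat.prime_two
  have h0 : (2 : F) = 0 := by simpa using CharP.cast_eq_zero F 2
  have hg : Nat.gcd 2 (Fintype.card F - 1) = 1 := by
    rw [← card_center (F := F), center_eq_bot_even h0]; simp
  have h2q : 2 ∣ 2 ^ p := dvd_pow_self 2 hp.ne_zero
  have hq1 : 1 ≤ 2 ^ p := Nat.one_le_two_pow
  refine ⟨fun hx => ?_, fun hx1 hd => ?_, fun hx1 hd => ?_⟩
  · obtain ⟨k, hk⟩ := involution_conj_upper hx
    show Nat.card (solub x) = _
    rw [← card_solub_conj k x, hk, card_solub_upper, hF]
  · have hs : IsSemi x := (semi_or_unip x).resolve_right (not_unip_of_coprime 2 hx1 hd (by omega))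
    have hx2 : x * x ≠ 1 := fun e => by
      have h1 := Nat.dvd_gcd (orderOf_dvd_of_pow_eq_one (show x ^ 2 = 1 by rw [sq]; exact e)) hd
      rw [← hF, hg, Nat.dvd_one] at h1
      exact hx1 (orderOf_eq_one_iff.1 h1)
    obtain ⟨g, rfl, hsp⟩ := split_of_order hs (hF ▸ hd) hx2
    have := card_solub_split hsp hx2 (fun h2 => absurd h0 h2)
    rw [hg, one_mul, hF] at this
    exact this.trans (mul_assoc _ _ _).symm
  · have hs : IsSemi x := (semi_or_unip x).resolve_right (not_unip_of_coprime 2 hx1 hd (by omega))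
    have hx2 : x * x ≠ 1 := fun e => by
      have hco : Nat.Coprime 2 (2 ^ p + 1) := Nat.prime_two.coprime_iff_not_dvd.2 (by omega)
      exact hx1 (orderOf_eq_one_iff.1 (Nat.eq_one_of_dvd_coprimes hco
        (orderOf_dvd_of_pow_eq_one (show x ^ 2 = 1 by rw [sq]; exact e)) hd))
    obtain ⟨g, rfl, hel⟩ := elliptic_of_order hs (hF ▸ hd) hx2
    show Nat.card (solub (proj g)) = _
    rw [card_solub_elliptic hel hx2 (fun h2 => absurd h0 h2), card_torus_elliptic hel, hg, Nat.div_one, hF]

end Cfsg.Agent.S2257
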