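import Cfsg.Statements.S2258
import Cfsg.Agent.Lib.SL2Solubilizer.CharThree

set_option autoImplicit false
open Cfsg

namespace Cfsg.Agent.S2258

open Cfsg.Agent.Lib.SL2 Cfsg.Agent.Lib.SL2.OddProductGraph Cfsg.Agent.Lib.SL2Solubilizer

variable {F : Type*} [Field F] [Fintype F]

theorem gcd_two (h : Hyp3 F) : Nat.gcd 2 (Fintype.card F - 1) = 2 := by
  rw [← card_center (F := F), card_center_odd h.two_ne]

theorem card_solub_three (h : Hyp3 F) {c : F} (hc : c ≠ 0) :
    2 * Nat.card (solub (proj (upper c))) = Fintype.card F * (Fintype.card F + 5) := by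
  classical
  have hc2 := card_preimage (solub (proj (upper c)))
  rw [gcd_two h] at hc2
  rw [← hc2, Nat.card_congr (Equiv.subtypeEquivRight (mem_solub_order_three h hc)),
    card_or fun y h1 h2 => h2.1 h1]
  let f : {e : F // e ^ 2 = 1} × {k : F // k ^ 3 = k} × F →
      {y : SLtwo F // y 1 0 ≠ 0 ∧ (c * y 1 0) ^ 2 = 1 ∧ tr y ^ 3 = tr y} := fun p =>
    ⟨ofEntries p.2.2 ((p.2.2 * ((p.2.1 : F) - p.2.2) - 1) * (c * p.1)) ((p.1 : F) * c⁻¹) ((p.2.1 : F) - p.2.2) (by
      have e := p.1.2
      field_simp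
      linear_combination -(p.2.2 * ((p.2.1 : F) - p.2.2) - 1) * e),
    by
      have he0 : (p.1 : F) ≠ 0 := fun z => by simpa [z] using p.1.2
      refine ⟨mul_ne_zero he0 (inv_ne_zero hc), ?_, ?_⟩
      · show (c * ((p.1 : F) * c⁻¹)) ^ 2 = 1
        have e := p.1.2
        field_simp
        linear_combination e
      · show (p.2.2 + ((p.2.1 : F) - p.2.2)) ^ 3 = p.2.2 + ((p.2.1 : F) - p.2.2)
        rw [add_sub_cancel]; exact p.2.1.2⟩
  have hf : Function.Bijective f := by
    constructor
    · rintro ⟨⟨e, he⟩, ⟨k, hk⟩, a⟩ ⟨⟨e', he'⟩, ⟨k', hk'⟩, a'⟩ q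
      have e10 := congrArg (fun z => (z : SLtwo F) 1 0) (congrArg Subtype.val q)
      have e00 := congrArg (fun z => (z : SLtwo F) 0 0) (congrArg Subtype.val q)
      have e11 := congrArg (fun z => (z : SLtwo F) 1 1) (congrArg Subtype.val q)
      simp [f, ofEntries, hc] at e10 e00 e11
      subst e10; subst e00
      obtain rfl : k = k' := by linear_combination e11
      rfl
    · rintro ⟨y, hy, h1, h2⟩
      refine ⟨(⟨c * y 1 0, h1⟩, ⟨tr y, h2⟩, y 0 0), Subtype.ext (ext_entries ?_ ?_ ?_ ?_)⟩
      · rfl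
      · show (y 0 0 * (tr y - y 0 0) - 1) * (c * (c * y 1 0)) = y 0 1
        have hd := det_entries y
        simp only [tr]
        apply mul_right_cancel₀ hy
        linear_combination (c * y 1 0) ^ 2 * hd + y 0 1 * y 1 0 * h1
      · show c * y 1 0 * c⁻¹ = y 1 0
        field_simp
      · show tr y - y 0 0 = y 1 1
        simp [tr]
  have h2 : Nat.card {e : F // e ^ 2 = 1} = 2 := by
    rw [Nat.card_eq_fintype_card, Fintype.card_subtype,
      show (Finset.univ.filter fun e : F => e ^ 2 = 1) = {1, -1} by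
        ext e; simp [sq_eq_one_iff]]
    exact Finset.card_pair fun e => h.two_ne (by linear_combination e)
  have h3 : Nat.card {k : F // k ^ 3 = k} = 3 := by
    rw [Nat.card_eq_fintype_card, Fintype.card_subtype,
      show (Finset.univ.filter fun k : F => k ^ 3 = k) = {0, 1, -1} by
        ext k
        simp only [Finset.mem_filter, Finset.mem_univ, true_and, Finset.mem_insert, Finset.mem_singleton]
        refine ⟨fun e => ?_, ?_⟩
        · have : k * (k - 1) * (k + 1) = 0 := by linear_combination e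
          simp only [mul_eq_zero, sub_eq_zero, add_eq_zero_iff_eq_neg] at this
          tauto
        · rintro (rfl | rfl | rfl) <;> ring]
    rw [Finset.card_insert_of_notMem (by simp), Finset.card_pair fun e => h.two_ne (by linear_combination e)]
  rw [show Nat.card {y : SLtwo F // y 1 0 = 0} = Nat.card (borelSL (F := F)) from rfl, card_borelSL,
    ← Nat.card_congr (Equiv.ofBijective f hf), Nat.card_prod, Nat.card_prod, h2, h3, Nat.card_eq_fintype_card]
  obtain ⟨k, hk⟩ := Nat.exists_eq_add_of_le (Fintype.card_pos (α := F))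
  rw [hk, show Nat.succ 0 + k - 1 = k by omega, Nat.succ_eq_add_one]
  ring

/-- Trace coordinates on `SL₂`. -/
noncomputable def coordEquiv (h : Hyp3 F) :
    SLtwo F ≃ {z : (F × F) × (F × F) // z.2.1 ^ 2 + z.2.2 ^ 2 = z.1.1 ^ 2 + z.1.2 ^ 2 - 1} where
  toFun y := ⟨((tr y, tr (weyl * y)), (y 0 0 - y 1 1, y 0 1 + y 1 0)), by
    have hd := det_entries y
    have e : tr (weyl * y) = y 1 0 - y 0 1 := by
      simp only [tr, mul_00, mul_11, weyl_00, weyl_01, weyl_10, weyl_11]; ring
    show (y 0 0 - y 1 1) ^ 2 + (y 0 1 + y 1 0) ^ 2 = tr y ^ 2 + tr (weyl * y) ^ 2 - 1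
    rw [e]
    simp only [tr]
    linear_combination (-4) * hd - h.three⟩
  invFun z := ofEntries (-(z.1.1.1 + z.1.2.1)) (-(z.1.2.2 - z.1.1.2)) (-(z.1.2.2 + z.1.1.2))
    (-(z.1.1.1 - z.1.2.1)) (by linear_combination -z.2)
  left_inv y := by
    have e : tr (weyl * y) = y 1 0 - y 0 1 := by
      simp only [tr, mul_00, mul_11, weyl_00, weyl_01, weyl_10, weyl_11]; ring
    apply ext_entries <;> simp only [e] <;> simp only [tr] <;> simp [ofEntries]
    · linear_combination -(y 0 0) * h.three
    · linear_combination -(y 0 1) * h.three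
    · linear_combination -(y 1 0) * h.three
    · linear_combination -(y 1 1) * h.three
  right_inv z := by
    obtain ⟨⟨⟨u, t⟩, v, s⟩, hz⟩ := z
    refine Subtype.ext (Prod.ext (Prod.ext ?_ ?_) (Prod.ext ?_ ?_))
    · simp [tr, ofEntries]; linear_combination -u * h.three
    · simp only [tr, mul_00, mul_11, weyl_00, weyl_01, weyl_10, weyl_11]
      simp [ofEntries]; linear_combination -t * h.three
    · simp [ofEntries]; linear_combination -v * h.three
    · simp [ofEntries]; linear_combination -s * h.three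

theorem card_circle (h : Hyp3 F) {k : F} (hk : k ≠ 0) :
    Nat.card {z : F × F // z.1 ^ 2 + z.2 ^ 2 = k} = Fintype.card F + 1 := by
  have hn : NoRoot (0 : F) 1 := fun r hr => h.nsq ⟨r, by linear_combination -hr⟩
  rw [← card_fiber_of_noRoot hn hk]
  exact Nat.card_congr (Equiv.subtypeEquivRight fun z => by simp [normForm])

theorem card_circle_zero (h : Hyp3 F) :
    Nat.card {z : F × F // z.1 ^ 2 + z.2 ^ 2 = 0} = 1 := by
  have hn : NoRoot (0 : F) 1 := fun r hr => h.nsq ⟨r, by linear_combination -hr⟩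
  have key : ∀ z : F × F, z.1 ^ 2 + z.2 ^ 2 = 0 ↔ z = 0 := fun z => by
    rw [← normForm_eq_zero_iff_of_noRoot hn z]; simp [normForm]
  have : Unique {z : F × F // z.1 ^ 2 + z.2 ^ 2 = 0} :=
    ⟨⟨⟨0, (key 0).2 rfl⟩⟩, fun z => Subtype.ext ((key z.1).1 z.2)⟩
  exact Nat.card_unique

theorem card_solub_invol (h : Hyp3 F) :
    Nat.card (solub (proj (weyl : SLtwo F))) = Fintype.card F * (Fintype.card F + 1) := by
  classical
  set A : F × F → Prop := fun p => p.1 = 0 ∨ p.2 = 0 ∨ (p.1 ^ 2 = 1 ∧ p.2 ^ 2 = 1) with hA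
  set K : F × F → Prop := fun p => p.1 ^ 2 + p.2 ^ 2 = 1 with hK
  let fib : F × F → Type _ := fun p =>
    {w : F × F // w.1 ^ 2 + w.2 ^ 2 = p.1 ^ 2 + p.2 ^ 2 - 1 ∧ (A p ∨ w = 0)}
  let e : {y : SLtwo F // proj y ∈ solub (proj (weyl : SLtwo F))} ≃ Σ p : F × F, fib p :=
    ((coordEquiv h).subtypeEquiv (q := fun z => A z.1.1 ∨ z.1.2 = 0) fun y => by
      rw [mem_solub_weyl h y]
      simp only [hA, coordEquiv, Equiv.coe_fn_mk, Prod.mk_eq_zero, sub_eq_zero, add_eq_zero_iff_eq_neg, sq]
      tauto).trans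
    { toFun := fun z => ⟨z.1.1.1, z.1.1.2, z.1.2, z.2⟩
      invFun := fun z => ⟨⟨(z.1, z.2.1), z.2.2.1⟩, z.2.2.2⟩
      left_inv := fun z => rfl
      right_inv := fun z => rfl }
  have hc := card_preimage (solub (proj (weyl : SLtwo F)))
  rw [gcd_two h, Nat.card_congr e, Nat.card_sigma] at hc
  have hterm : ∀ p : F × F, Nat.card (fib p) + (if A p ∧ K p then Fintype.card F + 1 else 0) =
      (if A p then Fintype.card F + 1 else 0) + (if K p then 1 else 0) := by
    intro p
    by_cases hAp : A p
    · have e1 : Nat.card (fib p) = Nat.card {w : F × F // w.1 ^ 2 + w.2 ^ 2 = p.1 ^ 2 + p.2 ^ 2 - 1} :=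
        Nat.card_congr (Equiv.subtypeEquivRight fun w => by simp [hAp])
      by_cases hKp : K p
      · rw [e1, show p.1 ^ 2 + p.2 ^ 2 - 1 = 0 from sub_eq_zero.2 hKp, card_circle_zero h]
        simp [hAp, hKp, add_comm]
      · rw [e1, card_circle h (sub_ne_zero.2 hKp)]
        simp [hAp, hKp]
    · by_cases hKp : K p
      · have : Unique (fib p) := ⟨⟨⟨0, by
          refine ⟨?_, Or.inr rfl⟩
          rw [show p.1 ^ 2 + p.2 ^ 2 - 1 = 0 from sub_eq_zero.2 hKp]; simp⟩⟩,
          fun w => Subtype.ext (w.2.2.resolve_left hAp)⟩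
        rw [Nat.card_unique]
        simp [hAp, hKp]
      · have : IsEmpty (fib p) := ⟨fun w => hKp (by
          have e1 := w.2.1
          rw [w.2.2.resolve_left hAp] at e1
          exact sub_eq_zero.1 (e1.symm.trans (by simp)))⟩
        simp [hAp, hKp]
  have hsum := Finset.sum_congr rfl fun p (_ : p ∈ (Finset.univ : Finset (F × F))) => hterm p
  rw [Finset.sum_add_distrib, Finset.sum_add_distrib, ← Finset.sum_filter, ← Finset.sum_filter, ← Finset.sum_filter,
    Finset.sum_const, Finset.sum_const, Finset.sum_const, hc] at hsum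
  simp only [smul_eq_mul, mul_one] at hsum
  have hKc : (Finset.univ.filter K).card = Fintype.card F + 1 := by
    rw [← Fintype.card_subtype, ← Nat.card_eq_fintype_card]
    exact card_circle h one_ne_zero
  have hsq : ∀ {x : F}, x ^ 2 = 1 → x ≠ 0 := fun {x} e z => by simp [z] at e
  have hne : (1 : F) ≠ -1 := fun e => h.two_ne (by linear_combination e)
  have hAK : (Finset.univ.filter fun p => A p ∧ K p).card = 4 := by
    rw [show (Finset.univ.filter fun p => A p ∧ K p) =
      (({0} : Finset F) ×ˢ ({1, -1} : Finset F)) ∪ (({1, -1} : Finset F) ×ˢ ({0} : Finset F)) by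
        ext ⟨u, t⟩
        simp only [hA, hK, Finset.mem_filter, Finset.mem_univ, true_and, Finset.mem_union, Finset.mem_product,
          Finset.mem_insert, Finset.mem_singleton]
        constructor
        · rintro ⟨rfl | rfl | ⟨e1, e2⟩, e⟩
          · exact Or.inl ⟨rfl, sq_eq_one_iff.1 (by linear_combination e)⟩
          · exact Or.inr ⟨sq_eq_one_iff.1 (by linear_combination e), rfl⟩
          · exact absurd (show (1 : F) = 0 by linear_combination e - e1 - e2) one_ne_zero
        · rintro (⟨rfl, rfl | rfl⟩ | ⟨rfl | rfl, rfl⟩) <;> simp,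
      Finset.card_union_of_disjoint (by
        rw [Finset.disjoint_left]
        rintro ⟨u, t⟩ h1 h2
        simp only [Finset.mem_product, Finset.mem_insert, Finset.mem_singleton] at h1 h2
        rcases h2.1 with r | r <;> simp [h1.1] at r),
      Finset.card_product, Finset.card_product, Finset.card_singleton, Finset.card_pair hne]
  have hAc : (Finset.univ.filter A).card = 2 * Fintype.card F + 3 := by
    rw [show (Finset.univ.filter A) =
      ((({0} : Finset F) ×ˢ (Finset.univ : Finset F)) ∪ ((Finset.univ.erase (0 : F)) ×ˢ ({0} : Finset F))) ∪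
        (({1, -1} : Finset F) ×ˢ ({1, -1} : Finset F)) by
        ext ⟨u, t⟩
        simp only [hA, Finset.mem_filter, Finset.mem_univ, true_and, Finset.mem_union, Finset.mem_product,
          Finset.mem_insert, Finset.mem_singleton, Finset.mem_erase, and_true, sq_eq_one_iff]
        tauto,
      Finset.card_union_of_disjoint (by
        rw [Finset.disjoint_left]
        rintro ⟨u, t⟩ h1 h2
        simp only [Finset.mem_product, Finset.mem_insert, Finset.mem_singleton, Finset.mem_union,
          Finset.mem_erase] at h1 h2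
        have hu := hsq (sq_eq_one_iff.2 h2.1)
        have ht := hsq (sq_eq_one_iff.2 h2.2)
        rcases h1 with h1 | h1
        · exact hu h1.1
        · exact ht h1.2),
      Finset.card_union_of_disjoint (by
        rw [Finset.disjoint_left]
        rintro ⟨u, t⟩ h1 h2
        simp only [Finset.mem_product, Finset.mem_singleton, Finset.mem_erase] at h1 h2
        exact h2.1.1 h1.1),
      Finset.card_product, Finset.card_product, Finset.card_product, Finset.card_singleton, Finset.card_pair hne,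
      Finset.card_erase_of_mem (Finset.mem_univ _), Finset.card_univ]
    have := Fintype.card_pos (α := F)
    omega
  rw [hKc, hAK, hAc] at hsum
  nlinarith

/-- Let G = PSL_2(F) with F a field of order q = 3^p, p an odd prime, and for x ∈ G call the solubilizer of x the set of y ∈ G such that x and y generate a solvable subgroup. Then the solubilizer of an involution has q(q + 1) elements; that of an element of order 3 has q(q + 5)/2 elements; that of an element of order neither 1 nor 2 dividing q − 1 has q(q − 1) elements; and that of an element of order neither 1 nor 2 dividing q + 1 has q + 1 elements. -/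
theorem result (p : ℕ) (hp : p.Prime) (hodd : Odd p) {F : Type*} [Field F] [Fintype F]
    (hF : Fintype.card F = 3 ^ p) (x : Matrix.ProjectiveSpecialLinearGroup (Fin 2) F) :
    (orderOf x = 2 → Nat.card {y : Matrix.ProjectiveSpecialLinearGroup (Fin 2) F // Group.IsSolvable ↥(Subgroup.closure ({x, y} : Set (Matrix.ProjectiveSpecialLinearGroup (Fin 2) F)))} = 3 ^ p * (3 ^ p + 1)) ∧
    (orderOf x = 3 → 2 * Nat.card {y : Matrix.ProjectiveSpecialLinearGroup (Fin 2) F // Group.IsSolvable ↥(Subgroup.closure ({x, y} : Set (Matrix.ProjectiveSpecialLinearGroup (Fin 2) F)))} = 3 ^ p * (3 ^ p + 5)) ∧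
    (x ≠ 1 → orderOf x ≠ 2 → orderOf x ∣ 3 ^ p - 1 → Nat.card {y : Matrix.ProjectiveSpecialLinearGroup (Fin 2) F // Group.IsSolvable ↥(Subgroup.closure ({x, y} : Set (Matrix.ProjectiveSpecialLinearGroup (Fin 2) F)))} = 3 ^ p * (3 ^ p - 1)) ∧
    (x ≠ 1 → orderOf x ≠ 2 → orderOf x ∣ 3 ^ p + 1 → Nat.card {y : Matrix.ProjectiveSpecialLinearGroup (Fin 2) F // Group.IsSolvable ↥(Subgroup.closure ({x, y} : Set (Matrix.ProjectiveSpecialLinearGroup (Fin 2) F)))} = 3 ^ p + 1) := by
  have : CharP F 3 := by
    obtain ⟨r, hr⟩ := CharP.exists F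
    haveI := hr
    obtain ⟨k, hrp, hk⟩ := FiniteField.card F r
    have h2 : (3 : ℕ) ∣ r ^ (k : ℕ) := by rw [← hk, hF]; exact dvd_pow_self 3 hp.ne_zero
    rwa [← (Nat.prime_dvd_prime_iff_eq Nat.prime_three hrp).1 (Nat.prime_three.dvd_of_dvd_pow h2)] at hr
  haveI := Fact.mk Nat.prime_three
  have h : Hyp3 F := by
    refine ⟨by simpa using CharP.cast_eq_zero F 3, fun hsq => ?_⟩
    have h4 := FiniteField.isSquare_neg_one_iff.1 hsq
    rw [hF] at h4
    obtain ⟨j, rfl⟩ := hodd
    apply h4
    rw [pow_succ, pow_mul, Nat.mul_mod, Nat.pow_mod]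
    norm_num
  have hg := gcd_two h
  have hq3 : 3 ∣ 3 ^ p := dvd_pow_self 3 hp.ne_zero
  have hq1 : 1 ≤ 3 ^ p := Nat.one_le_pow _ _ (by norm_num)
  have hx2 : ∀ {z : Matrix.ProjectiveSpecialLinearGroup (Fin 2) F}, z ≠ 1 → orderOf z ≠ 2 → z * z ≠ 1 :=
    fun {z} h1 h2 e => h2 (orderOf_eq_prime (by rw [sq]; exact e) h1)
  refine ⟨fun hx => ?_, fun hx => ?_, fun hx1 hx2' hd => ?_, fun hx1 hx2' hd => ?_⟩
  · obtain ⟨k, hk⟩ := isConj_iff.1 (isConj_of_involutions h.two_ne hx (orderOf_proj_two h.two_ne tr_weyl))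
    show Nat.card (solub x) = _
    rw [← card_solub_conj k x, hk, card_solub_invol h, hF]
  · have hu : IsUnip x := (semi_or_unip x).resolve_left fun hs => by
      have := coprime_orderOf_of_semi 3 hs
      rw [hx] at this; norm_num at this
    obtain ⟨g, rfl, ht⟩ := hu
    obtain ⟨k, c, hk⟩ := exists_conj_upper ht
    have hc : c ≠ 0 := by
      rintro rfl
      rw [upper_zero] at hk
      rw [conj_eq_one_iff.1 hk, map_one, orderOf_one] at hx
      omega
    show 2 * Nat.card (solub (proj g)) = _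
    rw [← card_solub_conj (proj k) (proj g), ← map_inv, ← map_mul, ← map_mul, hk, card_solub_three h hc, hF]
  · have hs : IsSemi x := (semi_or_unip x).resolve_right (not_unip_of_coprime 3 hx1 hd (by omega))
    obtain ⟨g, rfl, hsp⟩ := split_of_order hs (hF ▸ hd) (hx2 hx1 hx2')
    have := card_solub_split hsp (hx2 hx1 hx2') (fun _ => pow_twelve_ne h hs (hx2 hx1 hx2'))
    rw [hg, hF] at this
    show Nat.card (solub (proj g)) = _
    omega
  · have hs : IsSemi x := (semi_or_unip x).resolve_right (not_unip_of_coprime 3 hx1 hd (by omega))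
    obtain ⟨g, rfl, hel⟩ := elliptic_of_order hs (hF ▸ hd) (hx2 hx1 hx2')
    show Nat.card (solub (proj g)) = _
    rw [card_solub_elliptic hel (hx2 hx1 hx2') (fun _ => pow_twelve_ne h hs (hx2 hx1 hx2')),
      card_torus_elliptic hel, hg, hF]
    have : Odd (3 ^ p) := Odd.pow (by decide)
    obtain ⟨j, hj⟩ := this
    omega

end Cfsg.Agent.S2258
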