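import Cfsg.Statements.S2259
import Mathlib
import Cfsg.Agent.Lib.SuzukiSolv.Totals
import Cfsg.Agent.Lib.SuzukiSp4.Iso

set_option autoImplicit false
open Cfsg

namespace Cfsg.Agent.S2259

open Cfsg.Agent.Lib Cfsg.Agent.Lib.Suzuki Cfsg.Agent.Lib.SuzukiSubgroups Cfsg.Agent.Lib.SuzukiSolv MulAction

theorem sol_equiv {G H : Type*} [Group G] [Group H] (e : G ≃* H) (x : G) :
    Nat.card {y : H // Group.IsSolvable (Subgroup.closure ({e x, y} : Set H))} =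
      Nat.card {y : G // Group.IsSolvable (Subgroup.closure ({x, y} : Set G))} := by
  refine (Nat.card_congr (e.toEquiv.subtypeEquiv fun y => ?_)).symm
  have hmap : (Subgroup.closure ({x, y} : Set G)).map e.toMonoidHom =
      Subgroup.closure ({e x, e y} : Set H) := by
    rw [MonoidHom.map_closure, Set.image_pair]; rfl
  let E := (Subgroup.equivMapOfInjective (Subgroup.closure ({x, y} : Set G)) e.toMonoidHom e.injective).trans
    (MulEquiv.subgroupCongr hmap)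
  constructor
  · intro hs
    exact Group.isSolvable_of_surjective (f := E.toMonoidHom) E.surjective
  · intro hs
    have hs' : Group.IsSolvable (Subgroup.closure ({e x, e y} : Set H)) := hs
    exact Group.isSolvable_of_surjective (f := E.symm.toMonoidHom) E.symm.surjective

theorem coprime_types {F : Type*} [Field F] [Fintype F] {m : ℕ} (h : Hyp F m) :
    Nat.Coprime (2 ^ (2 * m + 1) - 1) (2 ^ (2 * m + 1) + 2 ^ (m + 1) + 1) ∧
      Nat.Coprime (2 ^ (2 * m + 1) - 1) (2 ^ (2 * m + 1) - 2 ^ (m + 1) + 1) ∧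
      Nat.Coprime (2 ^ (2 * m + 1) + 2 ^ (m + 1) + 1) (2 ^ (2 * m + 1) - 2 ^ (m + 1) + 1) := by
  obtain ⟨h8, h4, hr, hr2⟩ := numbers h
  have hco := coprime_stab h
  rw [card_stab_inf h, h.hF] at hco
  have hco' := (Nat.Coprime.coprime_dvd_right (dvd_mul_left _ _) hco).symm
  have hprod : (2 ^ (2 * m + 1) + 2 ^ (m + 1) + 1) * (2 ^ (2 * m + 1) - 2 ^ (m + 1) + 1) =
      (2 ^ (2 * m + 1)) ^ 2 + 1 := by
    generalize 2 ^ (2 * m + 1) = q, 2 ^ (m + 1) = r at h8 h4 hr hr2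
    zify [show r ≤ q by omega] at hr2 ⊢
    linear_combination -hr2
  refine ⟨Nat.Coprime.coprime_dvd_right ⟨_, hprod.symm⟩ hco',
    Nat.Coprime.coprime_dvd_right (Dvd.intro_left _ hprod) hco', ?_⟩
  refine Nat.coprime_of_dvd fun p hp h1 h2 => ?_
  have h3 := Nat.dvd_sub h1 h2
  rw [show 2 ^ (2 * m + 1) + 2 ^ (m + 1) + 1 - (2 ^ (2 * m + 1) - 2 ^ (m + 1) + 1) = 2 * 2 ^ (m + 1) by omega,
    ← pow_succ'] at h3
  obtain rfl := (Nat.prime_dvd_prime_iff_eq hp Nat.prime_two).1 (hp.dvd_of_dvd_pow h3)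
  have e1 : 2 ∣ 2 ^ (2 * m + 1) := dvd_pow_self 2 (by omega)
  have e2 : 2 ∣ 2 ^ (m + 1) := dvd_pow_self 2 (by omega)
  omega

theorem member_of_dvd {F : Type*} [Field F] [Fintype F] {m : ℕ} (h : Hyp F m) {x : Cfsg.Sz F m} (hx1 : x ≠ 1)
    {n : ℕ} (hn : n = 2 ^ (2 * m + 1) - 1 ∨ n = 2 ^ (2 * m + 1) + 2 ^ (m + 1) + 1 ∨
      n = 2 ^ (2 * m + 1) - 2 ^ (m + 1) + 1) (hd : orderOf x ∣ n) :
    ∃ U, CycU h U ∧ x ∈ U ∧ Nat.card U = n := by
  obtain ⟨h8, h4, hr, -⟩ := numbers h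
  obtain ⟨c1, c2, c3⟩ := coprime_types h
  have hodd : ¬ 2 ∣ n := by
    have e1 : 2 ∣ 2 ^ (2 * m + 1) := dvd_pow_self 2 (by omega)
    have e2 : 2 ∣ 2 ^ (m + 1) := dvd_pow_self 2 (by omega)
    omega
  rcases exists_member h hx1 with ⟨p, hp⟩ | ⟨U, hU, hxU⟩
  · exfalso
    have h1 := Subgroup.orderOf_dvd_natCard _ hp
    rw [card_transAt h p] at h1
    exact hx1 (orderOf_eq_one_iff.1 (Nat.eq_one_of_dvd_coprimes
      ((Nat.prime_two.coprime_iff_not_dvd.2 hodd).pow_left _) h1 hd))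
  · refine ⟨U, hU, hxU, ?_⟩
    have h1 := Subgroup.orderOf_dvd_natCard _ hxU
    by_contra hne
    refine hx1 (orderOf_eq_one_iff.1 (Nat.eq_one_of_dvd_coprimes ?_ h1 hd))
    rcases cyc_types h hU with ⟨-, e, -⟩ | ⟨-, e | e, -⟩ <;> rw [e] at hne ⊢ <;>
      rcases hn with rfl | rfl | rfl
    all_goals first
      | exact absurd rfl hne
      | exact c1
      | exact c2
      | exact c3
      | exact c1.symm
      | exact c2.symm
      | exact c3.symm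

theorem core {F : Type*} [Field F] [Fintype F] {m : ℕ} (h : Hyp F m) (hp : (2 * m + 1).Prime)
    (x : Cfsg.Sz F m) :
    (orderOf x = 2 → (solSet x).ncard = (2 ^ (2 * m + 1)) ^ 2 * (4 * 2 ^ (2 * m + 1) - 3)) ∧
    (orderOf x = 4 → (solSet x).ncard = (2 ^ (2 * m + 1)) ^ 2 * (2 ^ (2 * m + 1) + 3)) ∧
    (x ≠ 1 → orderOf x ∣ 2 ^ (2 * m + 1) - 1 →
      (solSet x).ncard = 2 * (2 ^ (2 * m + 1)) ^ 2 * (2 ^ (2 * m + 1) - 1)) ∧
    (x ≠ 1 → orderOf x ∣ 2 ^ (2 * m + 1) + 2 ^ (m + 1) + 1 →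
      (solSet x).ncard = 4 * (2 ^ (2 * m + 1) + 2 ^ (m + 1) + 1)) ∧
    (x ≠ 1 → orderOf x ∣ 2 ^ (2 * m + 1) - 2 ^ (m + 1) + 1 →
      (solSet x).ncard = 4 * (2 ^ (2 * m + 1) - 2 ^ (m + 1) + 1)) := by
  obtain ⟨h8, h4, hr, hr2⟩ := numbers h
  obtain ⟨c1, c2, -⟩ := coprime_types h
  have hN : ∀ n, ∀ U ∈ typeSet h n,
      (n = 2 ^ (2 * m + 1) - 1 → Nat.card (Subgroup.normalizer (U : Set (Cfsg.Sz F m))) = 2 * n) ∧
      (n ≠ 2 ^ (2 * m + 1) - 1 → Nat.card (Subgroup.normalizer (U : Set (Cfsg.Sz F m))) = 4 * n) := by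
    intro n U hU
    rcases cyc_types h hU.1 with ⟨-, e, eN⟩ | ⟨-, e, eN⟩ <;> rw [hU.2] at e eN
    · exact ⟨fun _ => eN, fun hne => absurd e hne⟩
    · refine ⟨fun e' => ?_, fun _ => eN⟩
      exfalso; omega
  have hT : ∀ n, n = 2 ^ (2 * m + 1) + 2 ^ (m + 1) + 1 ∨ n = 2 ^ (2 * m + 1) - 2 ^ (m + 1) + 1 →
      x ≠ 1 → orderOf x ∣ n → (solSet x).ncard = 4 * n := by
    intro n hn hx1 hd
    obtain ⟨U, hU, hxU, hUc⟩ := member_of_dvd h hx1 (by omega) hd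
    have hTor : IsTorus U := by
      rcases cyc_types h hU with ⟨-, e, -⟩ | ⟨hT, -, -⟩
      · exfalso; omega
      · exact hT
    rw [sol_odd_torus h hp hU hTor hxU hx1, ← Nat.card_coe_set_eq]
    exact (hN n U ⟨hU, hUc⟩).2 (by omega)
  refine ⟨fun hx => ?_, fun hx => ?_, fun hx1 hd => ?_, hT _ (Or.inl rfl), hT _ (Or.inr rfl)⟩
  · have hx1 : x ≠ 1 := fun e => by rw [e, orderOf_one] at hx; omega
    obtain ⟨p, hp'⟩ := exists_point h (g := x) (by rw [hx]; norm_num)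
    rw [sol_two h (hp := hp) hp' hx1]
    have f1 := overSet_two h hx two_pos (exists_member_card h _ (Or.inl rfl)) (fun U hU => (hN _ U hU).1 rfl)
    have f2 := overSet_two h hx (e := 4) (by norm_num) (exists_member_card h _ (Or.inr (Or.inl rfl)))
      (fun U hU => (hN _ U hU).2 (by omega))
    have f3 := overSet_two h hx (e := 4) (by norm_num) (exists_member_card h _ (Or.inr (Or.inr rfl)))
      (fun U hU => (hN _ U hU).2 (by omega))
    generalize (overSet h (2 ^ (2 * m + 1) - 1) x).ncard = a,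
      (overSet h (2 ^ (2 * m + 1) + 2 ^ (m + 1) + 1) x).ncard = b,
      (overSet h (2 ^ (2 * m + 1) - 2 ^ (m + 1) + 1) x).ncard = c at f1 f2 f3 ⊢
    generalize 2 ^ (2 * m + 1) = q, 2 ^ (m + 1) = r at h8 h4 hr hr2 f1 f2 f3 ⊢
    zify [show 1 ≤ q by omega, show r ≤ q by omega, show 3 ≤ 4 * q by omega,
      show 1 ≤ q - 1 by omega] at f1 f2 f3 ⊢
    linear_combination ((q : ℤ) - 2) * f1 + ((q : ℤ) + r) * f2 + ((q : ℤ) - r) * f3
  · have hx1 : x ≠ 1 := fun e => by rw [e, orderOf_one] at hx; omega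
    obtain ⟨p, hp'⟩ := exists_point h (g := x) (by rw [hx])
    rw [sol_two h (hp := hp) hp' hx1]
    have f1 := overSet_four h hx two_pos (exists_member_card h _ (Or.inl rfl)) (by omega)
      (fun U hU => (hN _ U hU).1 rfl)
    have f2 := overSet_four h hx (e := 4) (by norm_num) (exists_member_card h _ (Or.inr (Or.inl rfl))) (by omega)
      (fun U hU => (hN _ U hU).2 (by omega))
    have f3 := overSet_four h hx (e := 4) (by norm_num) (exists_member_card h _ (Or.inr (Or.inr rfl))) (by omega)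
      (fun U hU => (hN _ U hU).2 (by omega))
    generalize (overSet h (2 ^ (2 * m + 1) - 1) x).ncard = a,
      (overSet h (2 ^ (2 * m + 1) + 2 ^ (m + 1) + 1) x).ncard = b,
      (overSet h (2 ^ (2 * m + 1) - 2 ^ (m + 1) + 1) x).ncard = c at f1 f2 f3 ⊢
    generalize 2 ^ (2 * m + 1) = q, 2 ^ (m + 1) = r at h8 h4 hr hr2 f1 f2 f3 ⊢
    norm_num at f1 f2 f3
    subst f1
    zify [show 1 ≤ q by omega, show r ≤ q by omega] at f2 f3 ⊢
    linear_combination ((q : ℤ) + r) * f2 + ((q : ℤ) - r) * f3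
  · obtain ⟨U, hU, hxU, hUc⟩ := member_of_dvd h hx1 (Or.inl rfl) hd
    rcases cyc_types h hU with ⟨⟨k, rfl⟩, -, -⟩ | ⟨-, e, -⟩
    · exact card_sol_split h hp hxU hx1
    · exfalso; omega


/-- Let G be the Suzuki group Sz(q), q = 2^(2m+1) with 2m + 1 prime and m ≥ 1, realised inside Sp_4(F) for F the field of order q, write r = 2^(m+1) (so r² = 2q), and for x ∈ G call the solubilizer of x the set of y ∈ G such that x and y generate a solvable subgroup. Then the solubilizer of an involution has q²(4q − 3) elements; that of an element of order 4 has q²(q + 3) elements; that of a non-identity element of order dividing q − 1 has 2q²(q − 1) elements; that of a non-identity element of order dividing q + r + 1 has 4(q + r + 1) elements; and that of a non-identity element of order dividing q − r + 1 has 4(q − r + 1) elements. -/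
theorem result {F : Type*} [Field F] [Fintype F] {m : ℕ} (hm : 1 ≤ m)
    (hp : (2 * m + 1).Prime) (hF : Fintype.card F = 2 ^ (2 * m + 1)) (x : ↥(Cfsg.Lie.Sz F (2 ^ (m + 1)))) :
    (orderOf x = 2 → Nat.card {y : ↥(Cfsg.Lie.Sz F (2 ^ (m + 1))) // Group.IsSolvable ↥(Subgroup.closure ({x, y} : Set (↥(Cfsg.Lie.Sz F (2 ^ (m + 1))))))} = (2 ^ (2 * m + 1)) ^ 2 * (4 * 2 ^ (2 * m + 1) - 3)) ∧
    (orderOf x = 4 → Nat.card {y : ↥(Cfsg.Lie.Sz F (2 ^ (m + 1))) // Group.IsSolvable ↥(Subgroup.closure ({x, y} : Set (↥(Cfsg.Lie.Sz F (2 ^ (m + 1))))))} = (2 ^ (2 * m + 1)) ^ 2 * (2 ^ (2 * m + 1) + 3)) ∧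
    (x ≠ 1 → orderOf x ∣ 2 ^ (2 * m + 1) - 1 →
      Nat.card {y : ↥(Cfsg.Lie.Sz F (2 ^ (m + 1))) // Group.IsSolvable ↥(Subgroup.closure ({x, y} : Set (↥(Cfsg.Lie.Sz F (2 ^ (m + 1))))))} = 2 * (2 ^ (2 * m + 1)) ^ 2 * (2 ^ (2 * m + 1) - 1)) ∧
    (x ≠ 1 → orderOf x ∣ 2 ^ (2 * m + 1) + 2 ^ (m + 1) + 1 → Nat.card {y : ↥(Cfsg.Lie.Sz F (2 ^ (m + 1))) // Group.IsSolvable ↥(Subgroup.closure ({x, y} : Set (↥(Cfsg.Lie.Sz F (2 ^ (m + 1))))))} = 4 * (2 ^ (2 * m + 1) + 2 ^ (m + 1) + 1)) ∧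
    (x ≠ 1 → orderOf x ∣ 2 ^ (2 * m + 1) - 2 ^ (m + 1) + 1 → Nat.card {y : ↥(Cfsg.Lie.Sz F (2 ^ (m + 1))) // Group.IsSolvable ↥(Subgroup.closure ({x, y} : Set (↥(Cfsg.Lie.Sz F (2 ^ (m + 1))))))} = 4 * (2 ^ (2 * m + 1) - 2 ^ (m + 1) + 1)) := by
  have h : Hyp F m := ⟨hm, hF⟩
  let e := SuzukiSp4.szEquiv h
  obtain ⟨x, rfl⟩ := e.surjective x
  rw [sol_equiv e x, MulEquiv.orderOf_eq, ne_eq, map_eq_one_iff _ e.injective]
  exact core h hp x

end Cfsg.Agent.S2259
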