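import Mathlib
import Cfsg.Statements.S2268
-- import your own Cfsg.Agent.* helpers here

set_option autoImplicit false
open Cfsg

namespace Cfsg.Agent.S2268

/-- Let G be a finite group with an abelian Sylow p-subgroup P and let Q ≤ P. Then N_G(Q) = (N_G(Q) ∩ N_G(P))·C_G(Q), so that N_G(Q)/C_G(Q) is a homomorphic image of the subgroup (N_G(Q) ∩ N_G(P))/C_G(P) of N_G(P)/C_G(P); in particular the order of N_G(Q)/C_G(Q) divides the order of N_G(P)/C_G(P). -/
theorem result {G : Type*} [Group G] [Finite G] {p : ℕ} [Fact p.Prime]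
    (P : Sylow p G) (hP : IsMulCommutative (P : Subgroup G)) (Q : Subgroup G) (hQ : Q ≤ (P : Subgroup G)) :
    Subgroup.normalizer (Q : Set G) =
      (Subgroup.normalizer (Q : Set G) ⊓ Subgroup.normalizer ((P : Subgroup G) : Set G)) ⊔ Subgroup.centralizer (Q : Set G) ∧
    ((Subgroup.centralizer (Q : Set G)).subgroupOf (Subgroup.normalizer (Q : Set G))).index ∣ ((Subgroup.centralizer ((P : Subgroup G) : Set G)).subgroupOf (Subgroup.normalizer ((P : Subgroup G) : Set G))).index := by
  classical
  set CQ := Subgroup.centralizer (Q : Set G) with hCQ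
  set A := Subgroup.normalizer (Q : Set G) ⊓ Subgroup.normalizer ((P : Subgroup G) : Set G) with hA
  have hPle : (P : Subgroup G) ≤ CQ := fun x hx => by
    rw [hCQ, Subgroup.mem_centralizer_iff]
    intro y hy
    exact Subgroup.mul_comm_of_mem_isMulCommutative (P : Subgroup G) (hQ hy) hx
  have hCN : CQ ≤ Subgroup.normalizer (Q : Set G) := Subgroup.centralizer_le_normalizer _
  have heq : Subgroup.normalizer (Q : Set G) = A ⊔ CQ := by
    apply le_antisymm _ (sup_le inf_le_left hCN)
    intro n hn
    have h2 : ((n • P : Sylow p G) : Subgroup G) ≤ CQ := by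
      rintro _ ⟨z, hz, rfl⟩
      rw [hCQ, Subgroup.mem_centralizer_iff]
      intro y hy
      simp only [MulDistribMulAction.toMonoidEnd_apply, MulDistribMulAction.toMonoidHom_apply]
      have hy' : n⁻¹ * y * n ∈ Q := by
        have := (Subgroup.mem_normalizer_iff.1 (Subgroup.inv_mem _ hn) y).1 hy
        simpa using this
      have hc := Subgroup.mul_comm_of_mem_isMulCommutative (P : Subgroup G) (hQ hy') hz
      show y * (n * z * n⁻¹) = (n * z * n⁻¹) * y
      calc y * (n * z * n⁻¹) = n * ((n⁻¹ * y * n) * z) * n⁻¹ := by group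
        _ = n * (z * (n⁻¹ * y * n)) * n⁻¹ := by rw [hc]
        _ = (n * z * n⁻¹) * y := by group
    obtain ⟨c, hc⟩ := MulAction.exists_smul_eq CQ ((n • P).subtype h2) (P.subtype hPle)
    simp_rw [Sylow.smul_subtype, Subgroup.smul_def, smul_smul] at hc
    have hcn : (c : G) * n ∈ A := by
      refine Subgroup.mem_inf.2 ⟨Subgroup.mul_mem _ (hCN c.2) hn, ?_⟩
      exact Sylow.smul_eq_iff_mem_normalizer.mp (Sylow.subtype_injective hc)
    have : n = (c : G)⁻¹ * ((c : G) * n) := by group
    rw [this]
    exact Subgroup.mul_mem _ (Subgroup.mem_sup_right (CQ.inv_mem c.2)) (Subgroup.mem_sup_left hcn)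
  refine ⟨heq, ?_⟩
  show CQ.relIndex _ ∣ (Subgroup.centralizer ((P : Subgroup G) : Set G)).relIndex _
  have hCPQ : Subgroup.centralizer ((P : Subgroup G) : Set G) ≤ CQ :=
    Subgroup.centralizer_le hQ
  have hCPA : Subgroup.centralizer ((P : Subgroup G) : Set G) ≤ A := by
    exact le_inf (hCPQ.trans hCN) (Subgroup.centralizer_le_normalizer _)
  rw [heq, ← Subgroup.relIndex_mul_relIndex _ A _ hCPA inf_le_right]
  refine dvd_mul_of_dvd_left ?_ _
  have h3 : CQ.relIndex (A ⊔ CQ) = CQ.relIndex A := by
    have hn : (CQ.subgroupOf (Subgroup.normalizer (Q : Set G))).Normal :=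
      Subgroup.normal_subgroupOf_centralizer_normalizer _
    have hle : A ≤ Subgroup.normalizer (Q : Set G) := inf_le_left
    rw [← Subgroup.relIndex_subgroupOf (L := Subgroup.normalizer (Q : Set G)) (sup_le hle hCN),
      ← Subgroup.relIndex_subgroupOf (L := Subgroup.normalizer (Q : Set G)) hle, Subgroup.subgroupOf_sup hle hCN]
    exact Subgroup.relIndex_sup_right _ _
  rw [h3]
  exact Subgroup.relIndex_dvd_of_le_left A hCPQ

end Cfsg.Agent.S2268
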