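import Cfsg.Statements.S2269
import Cfsg.Agent.Lib.KnownSimple.AutomizerEven

set_option autoImplicit false
open Cfsg

namespace Cfsg.Agent.S2269

theorem cyclic_sylow {n p : ℕ} [Fact p.Prime] (hn : n < 2 * p)
    (P : Sylow p (alternatingGroup (Fin n))) :
    IsCyclic (P : Subgroup (alternatingGroup (Fin n))) := by
  obtain ⟨k, hk⟩ := P.2.exists_card_eq
  have h1 : p ^ k ∣ n.factorial := by
    rw [← hk]
    refine (Subgroup.card_subgroup_dvd_card _).trans ?_
    refine ((alternatingGroup (Fin n)).card_subgroup_dvd_card).trans ?_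
    simp [Nat.card_perm, Fintype.card_perm]
  have hp : p.Prime := Fact.out
  rw [hp.pow_dvd_factorial_iff (b := n + 1) (by
    have := Nat.log_le_self p n
    omega)] at h1
  have hk1 : k ≤ 1 := by
    refine h1.trans ((Finset.sum_le_sum (g := fun i => if i = 1 then 1 else 0) fun i hi => ?_).trans ?_)
    · split
      next h => subst h; rw [pow_one]; exact Nat.lt_succ_iff.1 (Nat.div_lt_of_lt_mul (by linarith))
      next h =>
        refine le_of_eq (Nat.div_eq_of_lt ?_)
        have h2 : 2 ≤ i := by have := (Finset.mem_Ico.1 hi).1; omega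
        calc n < 2 * p := hn
          _ ≤ p * p := Nat.mul_le_mul_right _ hp.two_le
          _ ≤ p ^ i := by rw [← pow_two]; exact Nat.pow_le_pow_right hp.pos h2
    · rw [Finset.sum_ite_eq']; split <;> simp
  interval_cases k
  · have : Subsingleton (P : Subgroup (alternatingGroup (Fin n))) :=
      (Nat.card_eq_one_iff_unique.1 (by simpa using hk)).1
    exact isCyclic_of_subsingleton
  · exact isCyclic_of_prime_card (p := p) (by rw [hk, pow_one])

open Equiv in
theorem six_noncomm : ∃ s t : Perm (Fin 6), Perm.sign s = 1 ∧ Perm.sign t = 1 ∧ s ^ 4 = 1 ∧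
    t ^ 2 = 1 ∧ t * s * t⁻¹ = s⁻¹ ∧ s * t ≠ t * s :=
  ⟨swap 0 1 * swap 1 2 * swap 2 3 * swap 4 5, swap 0 2 * swap 4 5, by decide +kernel⟩

open Equiv in
theorem not_comm_two {n : ℕ} (hn : 6 ≤ n) (P : Sylow 2 (alternatingGroup (Fin n))) :
    ¬ IsMulCommutative (P : Subgroup (alternatingGroup (Fin n))) := by
  intro hP
  obtain ⟨s, t, hs, ht, hs4, ht2, hst, hne⟩ := six_noncomm
  obtain ⟨ι⟩ : Nonempty (Fin 6 ↪ Fin n) :=
    Function.Embedding.nonempty_of_card_le (by simpa using hn)
  let φ : alternatingGroup (Fin 6) →* alternatingGroup (Fin n) :=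
    ((Perm.viaEmbeddingHom ι).comp (alternatingGroup (Fin 6)).subtype).codRestrict _ (fun e => by
      rw [Perm.mem_alternatingGroup]
      refine Eq.trans ?_ e.2
      change Perm.sign (Perm.viaEmbeddingHom ι (e : Perm (Fin 6))) = Perm.sign (e : Perm (Fin 6))
      refine Eq.trans ?_ (Perm.sign_extendDomain (e : Perm (Fin 6)) (Equiv.ofInjective ι ι.injective))
      simp [Perm.viaEmbeddingHom, Perm.extendDomainHom])
  have hφ : Function.Injective φ := fun a b h =>
    Subtype.ext (Perm.viaEmbeddingHom_injective ι (congrArg Subtype.val h))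
  let s' : alternatingGroup (Fin 6) := ⟨s, hs⟩
  let t' : alternatingGroup (Fin 6) := ⟨t, ht⟩
  have hfix : (Subgroup.closure ({φ t'} : Set (alternatingGroup (Fin n)))) ≤
      Subgroup.normalizer ((Subgroup.zpowers (φ s')) : Set (alternatingGroup (Fin n))) := by
    rw [Subgroup.closure_le, Set.singleton_subset_iff]
    have e : φ t' * φ s' * (φ t')⁻¹ = (φ s')⁻¹ := by
      rw [← map_inv, ← map_inv, ← map_mul, ← map_mul]; congr 1; exact Subtype.ext hst
    rw [SetLike.mem_coe, Subgroup.mem_normalizer_iff]
    intro h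
    rw [← MulAut.conj_apply]
    have : (Subgroup.zpowers (φ s')).map (MulAut.conj (φ t')).toMonoidHom =
        Subgroup.zpowers (φ s') := by
      rw [MonoidHom.map_zpowers]
      change Subgroup.zpowers (φ t' * φ s' * (φ t')⁻¹) = _
      rw [e, Subgroup.zpowers_inv]
    constructor
    · intro hh; rw [← this]; exact Subgroup.mem_map_of_mem _ hh
    · intro hh; rw [← this] at hh
      obtain ⟨a, ha, hae⟩ := Subgroup.mem_map.1 hh
      rwa [← (MulAut.conj (φ t')).injective hae]
  have h4 : IsPGroup 2 (Subgroup.zpowers (φ s')) := by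
    have : (φ s') ^ (2 ^ 2) = 1 := by
      rw [← map_pow, show s' ^ (2 ^ 2) = 1 from Subtype.ext hs4, map_one]
    obtain ⟨j, -, hj⟩ := (Nat.dvd_prime_pow Nat.prime_two).1 (orderOf_dvd_of_pow_eq_one this)
    exact IsPGroup.of_card (n := j) (by rw [Nat.card_zpowers, hj])
  have h2 : IsPGroup 2 (Subgroup.closure ({φ t'} : Set (alternatingGroup (Fin n)))) := by
    rw [← Subgroup.zpowers_eq_closure]
    have : (φ t') ^ (2 ^ 1) = 1 := by
      rw [← map_pow, show t' ^ (2 ^ 1) = 1 from Subtype.ext ht2, map_one]
    obtain ⟨j, -, hj⟩ := (Nat.dvd_prime_pow Nat.prime_two).1 (orderOf_dvd_of_pow_eq_one this)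
    exact IsPGroup.of_card (n := j) (by rw [Nat.card_zpowers, hj])
  obtain ⟨Q, hQ⟩ := (h4.to_sup_of_normal_left' h2 hfix).exists_le_sylow
  obtain ⟨g, hg⟩ := MulAction.exists_smul_eq (alternatingGroup (Fin n)) Q P
  have hmem : ∀ x ∈ Q, MulAut.conj g x ∈ P := fun x hx => by
    rw [← hg]; exact Subgroup.smul_mem_pointwise_smul x (MulAut.conj g) _ hx
  have hc := hP.is_comm.comm
    ⟨_, hmem _ (hQ (Subgroup.mem_sup_left (Subgroup.mem_zpowers (φ s'))))⟩
    ⟨_, hmem _ (hQ (Subgroup.mem_sup_right (Subgroup.subset_closure rfl)))⟩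
  have hc' : MulAut.conj g (φ s' * φ t') = MulAut.conj g (φ t' * φ s') := by
    rw [map_mul, map_mul]; exact congrArg Subtype.val hc
  have he : φ (s' * t') = φ (t' * s') := by
    rw [map_mul, map_mul]; exact (MulAut.conj g).injective hc'
  exact hne (congrArg Subtype.val (hφ he))

theorem five_table : (∀ g : alternatingGroup (Fin 5), g ^ 4 = 1 → g * g = 1) ∧
    ∀ a b : alternatingGroup (Fin 5), a ≠ 1 → b ≠ 1 → a ≠ b → a * a = 1 → b * b = 1 → a * b = b * a →
      (Finset.univ.filter fun g => g * a * g⁻¹ ∈ ({1, a, b, a * b} : Finset (alternatingGroup (Fin 5))) ∧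
        g * b * g⁻¹ ∈ ({1, a, b, a * b} : Finset (alternatingGroup (Fin 5)))).card = 12 ∧
      (Finset.univ.filter fun g => g * a = a * g ∧ g * b = b * g).card = 4 := by
  decide +kernel

theorem case_five (P : Sylow 2 (alternatingGroup (Fin 5)))
    (hP : IsMulCommutative (P : Subgroup (alternatingGroup (Fin 5)))) :
    ((Subgroup.centralizer ((P : Subgroup (alternatingGroup (Fin 5))) : Set (alternatingGroup (Fin 5)))).subgroupOf
      (Subgroup.normalizer ((P : Subgroup (alternatingGroup (Fin 5))) : Set (alternatingGroup (Fin 5))))).index = 3 ∧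
    IsKleinFour (P : Subgroup (alternatingGroup (Fin 5))) := by
  classical
  set H : Subgroup (alternatingGroup (Fin 5)) := (P : Subgroup (alternatingGroup (Fin 5))) with hH
  have hc : Nat.card H = 4 := by
    rw [hH, Sylow.card_eq_multiplicity]
    have : Nat.card (alternatingGroup (Fin 5)) = 60 := by
      rw [Nat.card_eq_fintype_card]; decide +kernel
    rw [this]
    have : (60 : ℕ).factorization 2 = 2 := by
      rw [show (60 : ℕ) = 2 ^ 2 * 15 from rfl, Nat.factorization_mul (by norm_num) (by norm_num),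
        Nat.Prime.factorization_pow Nat.prime_two]
      simp [Nat.factorization_eq_zero_of_not_dvd]
    rw [this]; rfl
  have hsq : ∀ x ∈ H, x * x = 1 := fun x hx => five_table.1 x (by
    have := pow_card_eq_one' (x := (⟨x, hx⟩ : H))
    rw [hc] at this
    exact congrArg Subtype.val this)
  let S : Finset (alternatingGroup (Fin 5)) := Finset.univ.filter (· ∈ H)
  have hS : S.card = 4 := by
    rw [← hc, Nat.card_eq_fintype_card, Fintype.card_subtype]
  obtain ⟨a, haS, ha⟩ := Finset.exists_mem_ne (by rw [hS]; norm_num : 1 < S.card) 1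
  obtain ⟨b, hbS, hb⟩ := Finset.exists_mem_notMem_of_card_lt_card
    (s := {1, a}) (t := S) (by rw [hS]; exact Finset.card_le_two.trans_lt (by norm_num))
  simp only [Finset.mem_insert, Finset.mem_singleton, not_or] at hb
  have haH : a ∈ H := (Finset.mem_filter.1 haS).2
  have hbH : b ∈ H := (Finset.mem_filter.1 hbS).2
  have hab : a * b = b * a := congrArg Subtype.val (hP.is_comm.comm ⟨a, haH⟩ ⟨b, hbH⟩)
  obtain ⟨h12, h4⟩ := five_table.2 a b ha hb.1 (Ne.symm hb.2) (hsq a haH) (hsq b hbH) hab
  have hset : ({1, a, b, a * b} : Finset (alternatingGroup (Fin 5))) = S := by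
    refine Finset.eq_of_subset_of_card_le ?_ ?_
    · intro x hx
      simp only [Finset.mem_insert, Finset.mem_singleton] at hx
      rcases hx with rfl | rfl | rfl | rfl <;>
        simp [S, one_mem, haH, hbH, mul_mem haH hbH]
    · rw [hS, Finset.card_insert_of_notMem, Finset.card_insert_of_notMem, Finset.card_pair]
      · intro h; exact ha (by simpa using h)
      · simp only [Finset.mem_insert, Finset.mem_singleton, not_or]
        exact ⟨Ne.symm hb.2, fun h => hb.1 (by simpa using h)⟩
      · simp only [Finset.mem_insert, Finset.mem_singleton, not_or]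
        refine ⟨Ne.symm ha, Ne.symm hb.1, fun h => hb.2 ?_⟩
        have := congrArg (a * ·) h
        simp only [← mul_assoc, hsq a haH, mul_one, one_mul] at this
        exact this.symm
  have hN : ∀ g, g ∈ Subgroup.normalizer (H : Set (alternatingGroup (Fin 5))) ↔
      g * a * g⁻¹ ∈ S ∧ g * b * g⁻¹ ∈ S := by
    intro g
    constructor
    · intro hg
      rw [Subgroup.mem_normalizer_iff] at hg
      simp [S, (hg a).1 haH, (hg b).1 hbH]
    · intro hg
      refine Subgroup.mem_normalizer_fintype fun x hx => ?_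
      have hxS : x ∈ S := by simpa [S] using hx
      rw [← hset] at hxS
      simp only [S, Finset.mem_filter, Finset.mem_univ, true_and] at hg
      simp only [Finset.mem_insert, Finset.mem_singleton] at hxS
      rcases hxS with rfl | rfl | rfl | rfl
      · simp
      · exact hg.1
      · exact hg.2
      · rw [conj_mul.symm]; exact mul_mem hg.1 hg.2
  have hC : ∀ g, g ∈ Subgroup.centralizer (H : Set (alternatingGroup (Fin 5))) ↔
      g * a = a * g ∧ g * b = b * g := by
    intro g
    rw [Subgroup.mem_centralizer_iff]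
    constructor
    · intro h; exact ⟨(h a haH).symm, (h b hbH).symm⟩
    · intro h x hx
      have hxS : x ∈ S := by simpa [S] using hx
      rw [← hset] at hxS
      simp only [Finset.mem_insert, Finset.mem_singleton] at hxS
      rcases hxS with rfl | rfl | rfl | rfl
      · simp
      · exact h.1.symm
      · exact h.2.symm
      · rw [mul_assoc, ← h.2, ← mul_assoc, ← h.1, mul_assoc]
  refine ⟨?_, ⟨hc, ?_⟩⟩
  · have key := Subgroup.index_mul_card ((Subgroup.centralizer (H : Set (alternatingGroup (Fin 5)))).subgroupOf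
      (Subgroup.normalizer (H : Set (alternatingGroup (Fin 5)))))
    rw [Nat.card_congr (Subgroup.subgroupOfEquivOfLe (Subgroup.centralizer_le_normalizer _)).toEquiv] at key
    have eC : Nat.card (Subgroup.centralizer (H : Set (alternatingGroup (Fin 5)))) = 4 := by
      rw [Nat.card_congr (Equiv.subtypeEquivRight hC), Nat.card_eq_fintype_card, Fintype.card_subtype, h4]
    have eN : Nat.card (Subgroup.normalizer (H : Set (alternatingGroup (Fin 5)))) = 12 := by
      rw [hset] at h12
      rw [Nat.card_congr (Equiv.subtypeEquivRight hN), Nat.card_eq_fintype_card, Fintype.card_subtype, h12]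
    rw [eC, eN] at key
    omega
  · refine Nat.dvd_antisymm (Monoid.exponent_dvd_of_forall_pow_eq_one fun x => ?_) ?_
    · exact Subtype.ext (by simpa [pow_two] using hsq x x.2)
    · have : orderOf (⟨a, haH⟩ : H) = 2 := orderOf_eq_prime_iff.2
        ⟨Subtype.ext (by simpa [pow_two] using hsq a haH), fun h => ha (congrArg Subtype.val h)⟩
      rw [← this]; exact Monoid.order_dvd_exponent _

/-- Let n ≥ 5 and let P be an abelian Sylow p-subgroup of the alternating group A_n. Then N(P)/C(P) (taken in A_n) has even order, or P is cyclic, except when n = 5 and p = 2, where P is a four-group and N(P)/C(P) has order 3. -/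
theorem result (n : ℕ) (hn : 5 ≤ n) {p : ℕ} [Fact p.Prime]
    (P : Sylow p (alternatingGroup (Fin n))) (hP : IsMulCommutative (P : Subgroup (alternatingGroup (Fin n)))) :
    (¬ (n = 5 ∧ p = 2) → 2 ∣ ((Subgroup.centralizer ((P : Subgroup (alternatingGroup (Fin n))) : Set (alternatingGroup (Fin n)))).subgroupOf (Subgroup.normalizer ((P : Subgroup (alternatingGroup (Fin n))) : Set (alternatingGroup (Fin n))))).index ∨ IsCyclic (P : Subgroup (alternatingGroup (Fin n)))) ∧
    ((n = 5 ∧ p = 2) → ((Subgroup.centralizer ((P : Subgroup (alternatingGroup (Fin n))) : Set (alternatingGroup (Fin n)))).subgroupOf (Subgroup.normalizer ((P : Subgroup (alternatingGroup (Fin n))) : Set (alternatingGroup (Fin n))))).index = 3 ∧ IsKleinFour (P : Subgroup (alternatingGroup (Fin n)))) := by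
  refine ⟨fun hne => ?_, fun ⟨h5, h2⟩ => ?_⟩
  · rcases lt_or_ge n (2 * p) with hlt | hge
    · exact Or.inr (cyclic_sylow hlt P)
    · left
      have hp2 : p ≠ 2 := by
        rintro rfl
        exact not_comm_two (by omega) P hP
      obtain ⟨x, t, hx, ht, ⟨ε, hε⟩, ⟨δ, hδ⟩⟩ :=
        Cfsg.Agent.Lib.KnownSimple.exists_real_element_of_order_prime (p := p) (k := 2) (n := n)
          two_pos hge
      rw [Int.units_sq] at hε hδ
      refine Cfsg.Agent.Lib.KnownSimple.two_dvd_automizer_of_real_element hp2 P hP ⟨x, hε⟩ ⟨t, hδ⟩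
        ?_ (Subtype.ext ht)
      exact (orderOf_injective (alternatingGroup (Fin n)).subtype Subtype.val_injective _).symm.trans hx
  · subst h5; subst h2
    exact case_five P hP

end Cfsg.Agent.S2269
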