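import Cfsg.Statements.S2270
import Cfsg.Agent.Lib.KnownSimple.AutomizerEven

set_option autoImplicit false
open Cfsg

namespace Cfsg.Agent.S2270

/-- Let n ≥ 3, p an odd prime, and P an abelian Sylow p-subgroup of the symmetric group S_n (with p dividing n!, so that P ≠ 1). Then N(P)/C(P) has even order. -/
theorem result (n : ℕ) (hn : 3 ≤ n) {p : ℕ} [Fact p.Prime] (hp : p ≠ 2) (hpn : p ≤ n)
    (P : Sylow p (Equiv.Perm (Fin n))) (hP : IsMulCommutative (P : Subgroup (Equiv.Perm (Fin n)))) :
    2 ∣ ((Subgroup.centralizer ((P : Subgroup (Equiv.Perm (Fin n))) : Set (Equiv.Perm (Fin n)))).subgroupOf (Subgroup.normalizer ((P : Subgroup (Equiv.Perm (Fin n))) : Set (Equiv.Perm (Fin n))))).index := by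
  obtain ⟨x, t, hx, ht, -, -⟩ :=
    Cfsg.Agent.Lib.KnownSimple.exists_real_element_of_order_prime (p := p) (k := 1) (n := n) one_pos
      (by omega)
  exact Cfsg.Agent.Lib.KnownSimple.two_dvd_automizer_of_real_element hp P hP x t hx ht

end Cfsg.Agent.S2270
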