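import Cfsg.Statements.S2271
import Mathlib

set_option autoImplicit false
open Cfsg

namespace Cfsg.Agent.S2271

open Equiv Finset

variable {n : ℕ}

/-- The number of agreements. -/
noncomputable def agree (a b u : Perm (Fin n)) : ℕ := Nat.card (Function.fixedPoints ⇑(u * a * u⁻¹ * b))

theorem agree_eq (a b u : Perm (Fin n)) :
    agree a b u = (univ.filter fun x => a (u⁻¹ (b x)) = u⁻¹ x).card := by
  rw [agree, Nat.card_eq_fintype_card, ← Set.toFinset_card]
  congr 1
  ext x
  simp only [Set.mem_toFinset, mem_filter, mem_univ, true_and, Function.mem_fixedPoints,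
    Function.IsFixedPt, Perm.mul_apply]
  exact ⟨fun h => by simpa using congrArg u.symm h, fun h => by rw [h]; simp⟩

theorem exists_extending {ι : Type*} (f g : ι ↪ Fin n) :
    ∃ u : Perm (Fin n), ∀ i, u (f i) = g i := by
  classical
  let e := (Equiv.ofInjective f f.injective).symm.trans (Equiv.ofInjective g g.injective)
  refine ⟨e.extendSubtype, fun i => ?_⟩
  rw [Equiv.extendSubtype_apply_of_mem e (f i) ⟨i, rfl⟩]
  simp [e]

theorem exists_extending_even {ι : Type*} [Fintype ι] (f g : ι ↪ Fin n)
    (h : Fintype.card ι + 2 ≤ n) :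
    ∃ u : Perm (Fin n), Perm.sign u = 1 ∧ ∀ i, u (f i) = g i := by
  classical
  obtain ⟨u, hu⟩ := exists_extending f g
  rcases Int.units_eq_one_or (Perm.sign u) with hs | hs
  · exact ⟨u, hs, hu⟩
  have hc : 1 < (univ.map f)ᶜ.card := by
    rw [card_compl, card_map, card_univ, Fintype.card_fin]; omega
  obtain ⟨p, hp, q, hq, hpq⟩ := one_lt_card.1 hc
  refine ⟨u * swap p q, by rw [map_mul, hs, Perm.sign_swap hpq]; rfl, fun i => ?_⟩
  simp only [mem_compl, mem_map, mem_univ, true_and, not_exists] at hp hq
  rw [Perm.mul_apply, swap_apply_of_ne_of_ne (hp i) (hq i), hu]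

/-- The even permutations. -/
def evens (n : ℕ) : Finset (Perm (Fin n)) := univ.filter fun u => Perm.sign u = 1

theorem fiber_card {ι : Type*} [Fintype ι] [DecidableEq ι] (hι : Fintype.card ι + 2 ≤ n)
    (f g y : ι ↪ Fin n) :
    ((evens n).filter fun u => ∀ i, u (f i) = y i).card =
      ((evens n).filter fun u => ∀ i, u (g i) = y i).card := by
  obtain ⟨v, hv, hvf⟩ := exists_extending_even g f hι
  refine card_nbij' (· * v) (· * v⁻¹) (fun u hu => ?_) (fun u hu => ?_) (fun u _ => by simp)
    (fun u _ => by simp)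
  · simp only [coe_filter, evens, Set.mem_ofPred_eq, mem_filter, mem_univ, true_and] at hu ⊢
    exact ⟨by rw [map_mul, hu.1, hv, one_mul], fun i => by rw [Perm.mul_apply, hvf, hu.2]⟩
  · simp only [coe_filter, evens, Set.mem_ofPred_eq, mem_filter, mem_univ, true_and] at hu ⊢
    refine ⟨by rw [map_mul, hu.1, map_inv, hv, inv_one, one_mul], fun i => ?_⟩
    rw [Perm.mul_apply, ← hvf i, show v⁻¹ (v (g i)) = g i from v.symm_apply_apply _, hu.2]

/-- Even permutations moving `x` back into a given set. -/
theorem count_point (hn : 3 ≤ n) (x : Fin n) (S : Finset (Fin n)) :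
    ((evens n).filter fun u => u⁻¹ x ∈ S).card * n = S.card * (evens n).card := by
  have h1 : ∀ T : Finset (Fin n), ((evens n).filter fun u => u⁻¹ x ∈ T).card =
      T.card * ((evens n).filter fun u => u x = x).card := by
    intro T
    rw [card_eq_sum_card_fiberwise (s := (evens n).filter fun u : Perm (Fin n) => u⁻¹ x ∈ T)
      (t := T) (f := fun u : Perm (Fin n) => u⁻¹ x)
      (fun u hu => (mem_filter.1 hu).2)]
    rw [← smul_eq_mul, ← Finset.sum_const]
    refine Finset.sum_congr rfl fun p hp => ?_
    have := fiber_card (ι := Fin 1) (n := n) (by simp; omega)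
      ⟨fun _ => p, fun i j _ => Subsingleton.elim i j⟩ ⟨fun _ => x, fun i j _ => Subsingleton.elim i j⟩
      ⟨fun _ => x, fun i j _ => Subsingleton.elim i j⟩
    simp only [Fin.forall_fin_one] at this
    change ((evens n).filter fun u => u p = x).card = ((evens n).filter fun u => u x = x).card at this
    rw [← this, filter_filter]
    congr 1
    refine filter_congr fun u _ => ?_
    constructor
    · rintro ⟨-, h⟩; rw [← h]; exact u.apply_symm_apply x
    · intro h
      have : u⁻¹ x = p := by rw [← h]; exact u.symm_apply_apply p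
      exact ⟨this ▸ hp, this⟩
  have h2 := h1 univ
  simp only [mem_univ, filter_true, card_univ, Fintype.card_fin] at h2
  rw [h1 S, h2]; ring

/-- Even permutations moving a pair back into a given set of pairs. -/
theorem count_pair (hn : 4 ≤ n) (x y : Fin n) (hxy : x ≠ y) (S : Finset (Fin n × Fin n))
    (hS : ∀ p ∈ S, p.1 ≠ p.2) :
    ((evens n).filter fun u => (u⁻¹ x, u⁻¹ y) ∈ S).card * (n * n - n) = S.card * (evens n).card := by
  have inj : ∀ p q : Fin n, p ≠ q → Function.Injective ![p, q] := by
    intro p q h i j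
    fin_cases i <;> fin_cases j <;> simp [h, Ne.symm h]
  have h1 : ∀ T : Finset (Fin n × Fin n), (∀ p ∈ T, p.1 ≠ p.2) →
      ((evens n).filter fun u => (u⁻¹ x, u⁻¹ y) ∈ T).card =
      T.card * ((evens n).filter fun u => u x = x ∧ u y = y).card := by
    intro T hT
    rw [card_eq_sum_card_fiberwise (s := (evens n).filter fun u : Perm (Fin n) => (u⁻¹ x, u⁻¹ y) ∈ T)
      (t := T) (f := fun u : Perm (Fin n) => (u⁻¹ x, u⁻¹ y))
      (fun u hu => (mem_filter.1 hu).2)]
    rw [← smul_eq_mul, ← Finset.sum_const]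
    refine Finset.sum_congr rfl fun p hp => ?_
    have := fiber_card (ι := Fin 2) (n := n) (by simp; omega)
      ⟨_, inj p.1 p.2 (hT p hp)⟩ ⟨_, inj x y hxy⟩ ⟨_, inj x y hxy⟩
    simp only [Function.Embedding.coeFn_mk, Fin.forall_fin_two, Matrix.cons_val_zero,
      Matrix.cons_val_one] at this
    rw [← this, filter_filter]
    congr 1
    refine filter_congr fun u _ => ?_
    constructor
    · rintro ⟨-, h⟩
      rw [← h]; exact ⟨u.apply_symm_apply x, u.apply_symm_apply y⟩
    · rintro ⟨ha, hb⟩
      have : (u⁻¹ x, u⁻¹ y) = p := by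
        rw [← ha, ← hb]; exact Prod.ext (u.symm_apply_apply _) (u.symm_apply_apply _)
      exact ⟨this ▸ hp, this⟩
  have h2 := h1 univ.offDiag (fun p hp => (mem_offDiag.1 hp).2.2)
  rw [filter_true_of_mem (fun u _ => mem_offDiag.2 ⟨mem_univ _, mem_univ _, fun h => hxy (u⁻¹.injective h)⟩),
    offDiag_card, card_univ, Fintype.card_fin] at h2
  rw [h1 S hS, h2]; ring

/-- The number of moved points. -/
def moved (a : Perm (Fin n)) : Finset (Fin n) := univ.filter fun x => a x ≠ x
/-- The fixed points. -/
def fixd (a : Perm (Fin n)) : Finset (Fin n) := univ.filter fun x => a x = x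

theorem moved_add_fixd (a : Perm (Fin n)) : (fixd a).card + (moved a).card = n := by
  rw [fixd, moved, card_filter_add_card_filter_not, card_univ, Fintype.card_fin]

theorem sum_agree (hn : 4 ≤ n) (a b : Perm (Fin n)) (K : ℕ)
    (hK : ∀ u ∈ evens n, agree a b u = K) :
    K * (n * (n - 1)) = (fixd b).card * (fixd a).card * (n - 1) + (moved b).card * (moved a).card := by
  have hA : 0 < (evens n).card := card_pos.2 ⟨1, by simp [evens]⟩
  have htot : K * (evens n).card =
      ∑ x, ((evens n).filter fun u : Perm (Fin n) => a (u⁻¹ (b x)) = u⁻¹ x).card := by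
    calc K * (evens n).card = ∑ u ∈ evens n, agree a b u := by
          rw [Finset.sum_congr rfl hK, Finset.sum_const, smul_eq_mul, mul_comm]
      _ = ∑ u ∈ evens n, (univ.filter fun x => a (u⁻¹ (b x)) = u⁻¹ x).card := by simp [agree_eq]
      _ = _ := by simp only [card_filter]; rw [Finset.sum_comm]
  have hnn : n * n - n = n * (n - 1) := by rw [Nat.mul_sub_one]
  have hfix : ∀ x ∈ fixd b, ((evens n).filter fun u : Perm (Fin n) => a (u⁻¹ (b x)) = u⁻¹ x).card *
      (n * (n - 1)) = (fixd a).card * (evens n).card * (n - 1) := by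
    intro x hx
    rw [← count_point (by omega) x (fixd a), mul_assoc]
    congr 2
    refine filter_congr fun u _ => ?_
    rw [(mem_filter.1 hx).2]; simp [fixd]
  have hmov : ∀ x ∈ moved b, ((evens n).filter fun u : Perm (Fin n) => a (u⁻¹ (b x)) = u⁻¹ x).card *
      (n * (n - 1)) = (moved a).card * (evens n).card := by
    intro x hx
    have hS : ((moved a).map ⟨fun p => (p, a p), fun p q h => congrArg Prod.fst h⟩).card = (moved a).card :=
      card_map _
    rw [← hS, ← count_pair hn (b x) x (mem_filter.1 hx).2 _ (by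
      intro p hp
      obtain ⟨q, hq, rfl⟩ := mem_map.1 hp
      exact Ne.symm (mem_filter.1 hq).2), hnn]
    congr 2
    refine filter_congr fun u _ => ?_
    simp only [mem_map]
    constructor
    · intro h
      refine ⟨_, mem_filter.2 ⟨mem_univ _, fun e => ?_⟩, Prod.ext rfl h⟩
      exact (mem_filter.1 hx).2 (u⁻¹.injective (e.symm.trans h))
    · rintro ⟨q, -, e⟩
      obtain rfl : q = u⁻¹ (b x) := congrArg Prod.fst e
      exact congrArg Prod.snd e
  apply Nat.eq_of_mul_eq_mul_left hA
  calc (evens n).card * (K * (n * (n - 1))) = K * (evens n).card * (n * (n - 1)) := by ring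
    _ = ∑ x, ((evens n).filter fun u : Perm (Fin n) => a (u⁻¹ (b x)) = u⁻¹ x).card * (n * (n - 1)) := by
        rw [htot, Finset.sum_mul]
    _ = ∑ x ∈ fixd b, (fixd a).card * (evens n).card * (n - 1) +
        ∑ x ∈ moved b, (moved a).card * (evens n).card := by
        rw [← Finset.sum_congr rfl hfix, ← Finset.sum_congr rfl hmov, fixd, moved,
          Finset.sum_filter_add_sum_filter_not]
    _ = _ := by simp only [Finset.sum_const, smul_eq_mul]; ring

/-- Some odd permutation centralises `a`. -/
def HasOdd (a : Perm (Fin n)) : Prop := ∃ c : Perm (Fin n), Perm.sign c = -1 ∧ c * a = a * c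

theorem hasOdd_of_fixed {a : Perm (Fin n)} {p q : Fin n} (hpq : p ≠ q) (hp : a p = p) (hq : a q = q) :
    HasOdd a :=
  ⟨swap p q, Perm.sign_swap hpq, by rw [mul_swap_eq_swap_mul, hp, hq]⟩

theorem hasOdd_of_two_cycle {a : Perm (Fin n)} {p : Fin n} (hp : a p ≠ p) (hpp : a (a p) = p) :
    HasOdd a :=
  ⟨swap p (a p), Perm.sign_swap (Ne.symm hp), by rw [mul_swap_eq_swap_mul, hpp, swap_comm]⟩

/-- An even permutation with as many agreements as any permutation, if the parity can be corrected. -/
theorem exists_even_agree (a b u : Perm (Fin n)) (h : Perm.sign u = 1 ∨ HasOdd a ∨ HasOdd b) :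
    ∃ v ∈ evens n, agree a b v = agree a b u := by
  rcases Int.units_eq_one_or (Perm.sign u) with hs | hs
  · exact ⟨u, by simp [evens, hs], rfl⟩
  rcases h with h | ⟨c, hc, hca⟩ | ⟨c, hc, hcb⟩
  · exact ⟨u, by simp [evens, h], rfl⟩
  · refine ⟨u * c, by simp [evens, hs, hc], ?_⟩
    unfold agree
    rw [show u * c * a * (u * c)⁻¹ = u * a * u⁻¹ by
      rw [mul_assoc u c a, hca, _root_.mul_inv_rev]; group]
  · refine ⟨c * u, by simp [evens, hs, hc], ?_⟩
    unfold agree
    have : c * u * a * (c * u)⁻¹ * b = c * (u * a * u⁻¹ * b) * c⁻¹ := by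
      have hb : c⁻¹ * b = b * c⁻¹ := by rw [inv_mul_eq_iff_eq_mul, ← mul_assoc, hcb]; simp
      rw [_root_.mul_inv_rev]; simp only [mul_assoc]; rw [hb]
    rw [this]
    refine Nat.card_congr (c.symm.subtypeEquiv fun x => ?_)
    change c ((u * a * u⁻¹ * b) (c.symm x)) = x ↔ (u * a * u⁻¹ * b) (c.symm x) = c.symm x
    exact (Equiv.eq_symm_apply c).symm

/-- Let n ≥ 5 and let a, b be non-identity permutations in the symmetric group S_n. Then the number of fixed points is not constant on the set of products a′b′ with a′ conjugate to a and b′ conjugate to b under the alternating group: there are even permutations g₁, h₁, g₂, h₂ such that (g₁ a g₁⁻¹)(h₁ b h₁⁻¹) and (g₂ a g₂⁻¹)(h₂ b h₂⁻¹) have different numbers of fixed points. -/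
theorem result (n : ℕ) (hn : 5 ≤ n) (a b : Equiv.Perm (Fin n)) (ha : a ≠ 1) (hb : b ≠ 1) :
    ∃ g₁ h₁ g₂ h₂ : Equiv.Perm (Fin n), g₁ ∈ alternatingGroup (Fin n) ∧ h₁ ∈ alternatingGroup (Fin n) ∧ g₂ ∈ alternatingGroup (Fin n) ∧ h₂ ∈ alternatingGroup (Fin n) ∧
      Nat.card (Function.fixedPoints ⇑(g₁ * a * g₁⁻¹ * (h₁ * b * h₁⁻¹))) ≠
        Nat.card (Function.fixedPoints ⇑(g₂ * a * g₂⁻¹ * (h₂ * b * h₂⁻¹))) := by
  by_contra hcon
  push Not at hcon
  have hconst : ∀ u ∈ evens n, agree a b u = agree a b 1 := by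
    intro u hu
    have h1 : (1 : Equiv.Perm (Fin n)) ∈ alternatingGroup (Fin n) := one_mem _
    simpa [agree] using hcon u 1 1 1 (by simpa [evens] using hu) h1 h1 h1
  set K := agree a b 1
  have hsum := sum_agree (by omega) a b K hconst
  have key : ∀ u : Equiv.Perm (Fin n), Equiv.Perm.sign u = 1 ∨ HasOdd a ∨ HasOdd b →
      ∀ S : Finset (Fin n), (∀ x ∈ S, a (u⁻¹ (b x)) = u⁻¹ x) → S.card ≤ K := by
    intro u hu S hS
    obtain ⟨v, hv, hvu⟩ := exists_even_agree a b u hu
    rw [← hconst v hv, hvu, agree_eq]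
    exact Finset.card_le_card fun x hx => Finset.mem_filter.2 ⟨Finset.mem_univ x, hS x hx⟩
  have ma := moved_add_fixd a
  have mb := moved_add_fixd b
  obtain ⟨s, hs⟩ : ∃ s, a s ≠ s := by
    by_contra h; push Not at h; exact ha (Equiv.ext h)
  obtain ⟨x, hx⟩ : ∃ x, b x ≠ x := by
    by_contra h; push Not at h; exact hb (Equiv.ext h)
  have key' : ∀ {ι : Type} [Fintype ι] (f g : ι ↪ Fin n),
      Fintype.card ι + 2 ≤ n ∨ HasOdd a ∨ HasOdd b →
      ∀ S : Finset (Fin n), (∀ y ∈ S, ∃ i j, g i = b y ∧ g j = y ∧ a (f i) = f j) → S.card ≤ K := by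
    intro ι _ f g hc S hS
    obtain ⟨u, hu, hug⟩ : ∃ u : Equiv.Perm (Fin n),
        (Equiv.Perm.sign u = 1 ∨ HasOdd a ∨ HasOdd b) ∧ ∀ i, u (f i) = g i := by
      rcases hc with hc | hc
      · obtain ⟨u, h1, h2⟩ := exists_extending_even f g hc
        exact ⟨u, Or.inl h1, h2⟩
      · obtain ⟨u, h2⟩ := exists_extending f g
        exact ⟨u, Or.inr hc, h2⟩
    refine key u hu S fun y hy => ?_
    obtain ⟨i, j, hi, hj, hij⟩ := hS y hy
    have e1 : u⁻¹ (b y) = f i := by rw [← hi, ← hug i]; exact u.symm_apply_apply _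
    have e2 : u⁻¹ y = f j := by rw [← hj, ← hug j]; exact u.symm_apply_apply _
    rw [e1, e2, hij]
  by_cases hcase : 2 ≤ (fixd a).card + (fixd b).card
  · set k := min (fixd a).card (fixd b).card with hk
    obtain ⟨fa⟩ : Nonempty (Fin k ↪ fixd a) :=
      Function.Embedding.nonempty_of_card_le (by simp [hk])
    obtain ⟨fb⟩ : Nonempty (Fin k ↪ fixd b) :=
      Function.Embedding.nonempty_of_card_le (by simp [hk])
    have hfa : ∀ i, a (fa i) = fa i := fun i => (Finset.mem_filter.1 (fa i).2).2
    have hfb : ∀ i, b (fb i) = fb i := fun i => (Finset.mem_filter.1 (fb i).2).2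
    let f : Bool ⊕ Fin k ↪ Fin n := ⟨Sum.elim (fun t => if t then a s else s) (fun i => fa i), by
      refine Function.Injective.sumElim ?_ (fun i j h => fa.injective (Subtype.ext h)) ?_
      · intro t t'; cases t <;> cases t' <;> simp [hs, Ne.symm hs]
      · intro t i; cases t
        · simp only [Bool.false_eq_true, if_false]; intro h; exact hs (h ▸ hfa i)
        · simp only [if_true]; intro h
          exact hs (a.injective (by rw [h, hfa i]))⟩
    let g : Bool ⊕ Fin k ↪ Fin n := ⟨Sum.elim (fun t => if t then x else b x) (fun i => fb i), by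
      refine Function.Injective.sumElim ?_ (fun i j h => fb.injective (Subtype.ext h)) ?_
      · intro t t'; cases t <;> cases t' <;> simp [hx, Ne.symm hx]
      · intro t i; cases t
        · simp only [Bool.false_eq_true, if_false]; intro h
          exact hx (b.injective (by rw [h, hfb i]))
        · simp only [if_true]; intro h; exact hx (h ▸ hfb i)⟩
    have hx' : x ∉ Finset.univ.map (fb.trans (Function.Embedding.subtype _)) := by
      simp only [Finset.mem_map, Finset.mem_univ, true_and, not_exists]
      intro i h; exact hx (h ▸ hfb i)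
    have hlow : k + 1 ≤ K := by
      refine le_trans (le_of_eq ?_) (key' f g ?_ (insert x (Finset.univ.map (fb.trans (Function.Embedding.subtype _)))) ?_)
      · simp [Finset.card_insert_of_notMem hx']
      · by_cases h2 : HasOdd a ∨ HasOdd b
        · exact Or.inr h2
        · refine Or.inl ?_
          have hle : ∀ c : Equiv.Perm (Fin n), ¬ HasOdd c → (fixd c).card ≤ 1 := by
            intro c hc
            by_contra h; push Not at h
            obtain ⟨p, hp, q, hq, hpq⟩ := Finset.one_lt_card.1 h
            exact hc (hasOdd_of_fixed hpq (Finset.mem_filter.1 hp).2 (Finset.mem_filter.1 hq).2)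
          have := hle a (fun h => h2 (Or.inl h))
          simp; omega
      · intro y hy
        rcases Finset.mem_insert.1 hy with rfl | hy
        · exact ⟨Sum.inl false, Sum.inl true, rfl, rfl, rfl⟩
        · obtain ⟨i, -, rfl⟩ := Finset.mem_map.1 hy
          exact ⟨Sum.inr i, Sum.inr i, (hfb i).symm, rfl, hfa i⟩
    have hpr : (fixd b).card * (fixd a).card ≤ k * n := by
      rcases min_choice (fixd a).card (fixd b).card with h | h <;> rw [hk, h]
      · rw [mul_comm]; exact Nat.mul_le_mul_left _ (by omega)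
      · exact Nat.mul_le_mul_left _ (by omega)
    obtain ⟨m, rfl⟩ : ∃ m, n = m + 1 := ⟨n - 1, by omega⟩
    simp only [Nat.add_sub_cancel] at hsum
    have h3 : (moved b).card * (moved a).card < (m + 1) * m := by
      have : (moved b).card + (moved a).card ≤ 2 * m := by omega
      nlinarith [two_mul_le_add_sq (moved b).card (moved a).card, Nat.mul_le_mul this this]
    have h4 := Nat.mul_le_mul_right m hpr
    have h5 := Nat.mul_le_mul_right ((m + 1) * m) hlow
    nlinarith
  · have hlow : 2 ≤ K := by
      by_cases h2 : HasOdd a ∨ HasOdd b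
      · have two : ∀ c : Equiv.Perm (Fin n), (fixd c).card ≤ 1 → ∀ p, c p ≠ p →
            ∃ q, c q ≠ q ∧ q ≠ p ∧ q ≠ c p ∧ c q ≠ p := by
          intro c hc p hp
          have hcard : ({p, c p, c.symm p} : Finset (Fin n)).card < (moved c).card := by
            have := moved_add_fixd c
            refine lt_of_le_of_lt Finset.card_le_three ?_
            omega
          obtain ⟨q, hq, hqn⟩ := Finset.exists_mem_notMem_of_card_lt_card hcard
          simp only [Finset.mem_insert, Finset.mem_singleton, not_or] at hqn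
          exact ⟨q, (Finset.mem_filter.1 hq).2, hqn.1, hqn.2.1, fun h => hqn.2.2 (by rw [← h]; simp)⟩
        obtain ⟨s', hs', hs1, hs2, hs3⟩ := two a (by omega) s hs
        obtain ⟨y, hy, hy1, hy2, hy3⟩ := two b (by omega) x hx
        have hf : Function.Injective ![s, a s, s', a s'] := by
          intro i j
          fin_cases i <;> fin_cases j <;>
            simp [hs, Ne.symm hs, hs', Ne.symm hs', hs1, Ne.symm hs1, hs2, Ne.symm hs2, hs3, Ne.symm hs3]
        have hg : Function.Injective ![b x, x, b y, y] := by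
          intro i j
          fin_cases i <;> fin_cases j <;>
            simp [hx, Ne.symm hx, hy, Ne.symm hy, hy1, Ne.symm hy1, hy2, Ne.symm hy2, hy3, Ne.symm hy3]
        refine le_trans (le_of_eq (Finset.card_pair (Ne.symm hy1)).symm)
          (key' ⟨_, hf⟩ ⟨_, hg⟩ (Or.inr h2) {x, y} ?_)
        intro z hz
        simp only [Finset.mem_insert, Finset.mem_singleton] at hz
        rcases hz with rfl | rfl
        · exact ⟨0, 1, rfl, rfl, rfl⟩
        · exact ⟨2, 3, rfl, rfl, rfl⟩
      · rw [not_or] at h2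
        have hss : a (a s) ≠ s := fun h => h2.1 (hasOdd_of_two_cycle hs h)
        have hxx : b (b x) ≠ x := fun h => h2.2 (hasOdd_of_two_cycle hx h)
        have hf : Function.Injective ![s, a s, a (a s)] := by
          intro i j
          fin_cases i <;> fin_cases j <;> simp [hs, Ne.symm hs, hss, Ne.symm hss]
        have hg : Function.Injective ![b (b x), b x, x] := by
          intro i j
          fin_cases i <;> fin_cases j <;> simp [hx, Ne.symm hx, hxx, Ne.symm hxx]
        refine le_trans (le_of_eq (Finset.card_pair (Ne.symm hx)).symm)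
          (key' ⟨_, hf⟩ ⟨_, hg⟩ (Or.inl (by simp; omega)) {x, b x} ?_)
        intro z hz
        simp only [Finset.mem_insert, Finset.mem_singleton] at hz
        rcases hz with rfl | rfl
        · exact ⟨1, 2, rfl, rfl, rfl⟩
        · exact ⟨0, 1, rfl, rfl, rfl⟩
    have hz : (fixd b).card * (fixd a).card = 0 := by
      rw [Nat.mul_eq_zero]; omega
    obtain ⟨m, rfl⟩ : ∃ m, n = m + 1 := ⟨n - 1, by omega⟩
    simp only [Nat.add_sub_cancel, hz, zero_mul, zero_add] at hsum
    have h3 : (moved b).card * (moved a).card ≤ (m + 1) * (m + 1) :=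
      Nat.mul_le_mul (by omega) (by omega)
    have h5 := Nat.mul_le_mul_right ((m + 1) * m) hlow
    nlinarith

end Cfsg.Agent.S2271
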