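import Cfsg.Statements.S2272
import Mathlib

set_option autoImplicit false
open Cfsg

namespace Cfsg.Agent.S2272

open Matrix

variable {F : Type*} [Field F] {d : ℕ}

theorem exists_indep {A : Matrix (Fin d) (Fin d) F} (hA : ∀ c : F, A ≠ Matrix.scalar (Fin d) c) :
    ∃ v : Fin d → F, LinearIndependent F ![v, A *ᵥ v] := by
  by_contra hcon
  push Not at hcon
  have hdep : ∀ v : Fin d → F, v ≠ 0 → ∃ c : F, A *ᵥ v = c • v := by
    intro v hv
    have h := hcon v
    rw [LinearIndependent.pair_iff' hv] at h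
    push Not at h
    obtain ⟨c, hc⟩ := h
    exact ⟨c, hc.symm⟩
  rcases Nat.eq_zero_or_pos d with rfl | hd
  · exact hA 0 (Subsingleton.elim _ _)
  have he : ∀ j : Fin d, (Pi.single j 1 : Fin d → F) ≠ 0 := fun j => by simp
  choose c hc using fun j => hdep _ (he j)
  have hcol : ∀ i j, A i j = (Pi.single j (c j) : Fin d → F) i := by
    intro i j
    have h := congrFun (hc j) i
    rw [Matrix.mulVec_single_one] at h
    change A i j = _ at h
    rw [h, ← Pi.single_smul, smul_eq_mul, mul_one]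
  refine hA (c ⟨0, hd⟩) ?_
  ext i j
  rw [Matrix.scalar_apply, Matrix.diagonal_apply, hcol i j]
  by_cases hij : i = j
  · subst hij
    rw [if_pos rfl, Pi.single_eq_same]
    by_cases hi : i = ⟨0, hd⟩
    · rw [hi]
    obtain ⟨r, hr⟩ := hdep (Pi.single i 1 + Pi.single ⟨0, hd⟩ 1) (fun h => by
      have := congrFun h i; simp [hi] at this)
    rw [Matrix.mulVec_add, hc, hc] at hr
    have h1 := congrFun hr i
    have h2 := congrFun hr ⟨0, hd⟩
    simp [hi] at h1
    simp [Ne.symm hi] at h2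
    rw [h1, h2]
  · rw [if_neg hij, Pi.single_eq_of_ne hij]

/-- A row vector killing a subspace and equal to `1` at a vector outside it. -/
theorem exists_row (p : Submodule F (Fin d → F)) {z : Fin d → F} (hz : z ∉ p) :
    ∃ φ : Fin d → F, (∀ x ∈ p, φ ⬝ᵥ x = 0) ∧ φ ⬝ᵥ z = 1 := by
  obtain ⟨f, hf, hp⟩ := p.exists_le_ker_of_notMem hz
  have key : ∀ x, (fun i => f (Pi.single i 1)) ⬝ᵥ x = f x := by
    intro x
    conv_rhs => rw [pi_eq_sum_univ' x]
    simp [dotProduct, map_sum, mul_comm]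
  refine ⟨(f z)⁻¹ • fun i => f (Pi.single i 1), fun x hx => ?_, ?_⟩
  · rw [smul_dotProduct, key, LinearMap.mem_ker.1 (hp hx), smul_zero]
  · rw [smul_dotProduct, key, smul_eq_mul, inv_mul_cancel₀ hf]

/-- `SL_d` is transitive on linearly independent pairs, `d ≥ 3`. -/
theorem exists_map_pair (hd : 3 ≤ d) {u y v w : Fin d → F} (h1 : LinearIndependent F ![u, y])
    (h2 : LinearIndependent F ![v, w]) :
    ∃ h : Matrix.SpecialLinearGroup (Fin d) F,
      (h : Matrix (Fin d) (Fin d) F) *ᵥ u = v ∧ (h : Matrix (Fin d) (Fin d) F) *ᵥ y = w := by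
  classical
  set P := Submodule.span F (Set.range ![u, y]) with hP
  set Q := Submodule.span F (Set.range ![v, w]) with hQ
  obtain ⟨P', hP'⟩ := P.exists_isCompl
  obtain ⟨Q', hQ'⟩ := Q.exists_isCompl
  have hPr : Module.finrank F P = 2 := by rw [hP, finrank_span_eq_card h1]; rfl
  have hQr : Module.finrank F Q = 2 := by rw [hQ, finrank_span_eq_card h2]; rfl
  have h' : Module.finrank F P' = Module.finrank F Q' := by
    have a := Submodule.finrank_add_eq_of_isCompl hP'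
    have b := Submodule.finrank_add_eq_of_isCompl hQ'
    omega
  let e0 : P ≃ₗ[F] Q := (Module.Basis.span h1).equiv (Module.Basis.span h2) (Equiv.refl _)
  let e : (Fin d → F) ≃ₗ[F] (Fin d → F) :=
    ((Submodule.prodEquivOfIsCompl P P' hP').symm.trans
      (e0.prodCongr (LinearEquiv.ofFinrankEq _ _ h'))).trans (Submodule.prodEquivOfIsCompl Q Q' hQ')
  have he : ∀ i, e (![u, y] i) = ![v, w] i := by
    intro i
    have hmem : ![u, y] i ∈ P := Submodule.subset_span ⟨i, rfl⟩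
    have e1 : (Submodule.prodEquivOfIsCompl P P' hP').symm (![u, y] i) = (⟨_, hmem⟩, 0) :=
      Submodule.prodEquivOfIsCompl_symm_apply_left P P' hP' (⟨_, hmem⟩ : P)
    have e2 : (⟨_, hmem⟩ : P) = Module.Basis.span h1 i :=
      (Module.Basis.span_apply h1 i).symm
    simp only [e, LinearEquiv.trans_apply, e1, LinearEquiv.prodCongr_apply, map_zero]
    rw [Submodule.coe_prodEquivOfIsCompl']
    simp only [ZeroMemClass.coe_zero, add_zero, e2, e0, Module.Basis.equiv_apply, Equiv.refl_apply]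
    exact congrArg Subtype.val (Module.Basis.span_apply h2 i)
  set M := LinearMap.toMatrix' (e : (Fin d → F) →ₗ[F] (Fin d → F)) with hM
  have hMx : ∀ x, M *ᵥ x = e x := by
    intro x; rw [← Matrix.toLin'_apply, hM, Matrix.toLin'_toMatrix']; rfl
  have hdet : M.det ≠ 0 := by
    intro h0
    obtain ⟨x, hx, hx0⟩ := Matrix.exists_mulVec_eq_zero_iff.2 h0
    exact hx (e.map_eq_zero_iff.1 (hMx x ▸ hx0))
  have hQtop : Q ≠ ⊤ := by
    intro h; rw [h, finrank_top, Module.finrank_fin_fun] at hQr; omega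
  obtain ⟨z, -, hz⟩ := SetLike.exists_of_lt hQtop.lt_top
  obtain ⟨ψ, hψ, hψz⟩ := exists_row Q hz
  set D := 1 + Matrix.vecMulVec ((M.det⁻¹ - 1) • z) ψ with hD
  have hDdet : D.det = M.det⁻¹ := by
    rw [hD, Matrix.vecMulVec_eq Unit, Matrix.det_one_add_replicateCol_mul_replicateRow,
      dotProduct_smul, hψz]
    simp
  have hDfix : ∀ x ∈ Q, D *ᵥ x = x := fun x hx => by
    rw [hD, Matrix.add_mulVec, Matrix.one_mulVec, Matrix.vecMulVec_mulVec, hψ x hx]
    simp
  refine ⟨⟨D * M, by rw [Matrix.det_mul, hDdet, inv_mul_cancel₀ hdet]⟩, ?_, ?_⟩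
  · change (D * M) *ᵥ u = v
    rw [← Matrix.mulVec_mulVec, hMx, show e u = v from he 0]
    exact hDfix _ (Submodule.subset_span ⟨0, rfl⟩)
  · change (D * M) *ᵥ y = w
    rw [← Matrix.mulVec_mulVec, hMx, show e y = w from he 1]
    exact hDfix _ (Submodule.subset_span ⟨1, rfl⟩)

/-- Some conjugate `b'` of `b` has `(a b' - b' a) v` outside `span (v, a v)`. -/
theorem exists_conj_not_mem (hd : 3 ≤ d) {a b : Matrix.SpecialLinearGroup (Fin d) F}
    (ha : ∀ c : F, (a : Matrix (Fin d) (Fin d) F) ≠ Matrix.scalar (Fin d) c)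
    (hb : ∀ c : F, (b : Matrix (Fin d) (Fin d) F) ≠ Matrix.scalar (Fin d) c) :
    ∃ (h : Matrix.SpecialLinearGroup (Fin d) F) (v : Fin d → F),
      ((a * (h * b * h⁻¹) : Matrix.SpecialLinearGroup (Fin d) F) : Matrix (Fin d) (Fin d) F) *ᵥ v -
        ((h * b * h⁻¹ * a : Matrix.SpecialLinearGroup (Fin d) F) : Matrix (Fin d) (Fin d) F) *ᵥ v ∉
        Submodule.span F {v, (a : Matrix (Fin d) (Fin d) F) *ᵥ v} := by
  set A := (a : Matrix (Fin d) (Fin d) F)
  set B := (b : Matrix (Fin d) (Fin d) F)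
  obtain ⟨v, hv⟩ := exists_indep ha
  obtain ⟨u, hu⟩ := exists_indep hb
  set R := Submodule.span F (Set.range ![u, B *ᵥ u]) with hR
  have hRtop : R ≠ ⊤ := by
    intro h
    have := finrank_span_eq_card hu
    rw [← hR, h, finrank_top, Module.finrank_fin_fun, Fintype.card_fin] at this
    omega
  obtain ⟨y, -, hy⟩ := SetLike.exists_of_lt hRtop.lt_top
  have hu0 : u ≠ 0 := by simpa using hu.ne_zero 0
  have huy : LinearIndependent F ![u, y] := by
    rw [LinearIndependent.pair_iff' hu0]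
    intro c hc
    exact hy (hc ▸ R.smul_mem c (Submodule.subset_span ⟨0, rfl⟩))
  obtain ⟨χ, hχ, hχy⟩ := exists_row R hy
  obtain ⟨h, hhu, hhy⟩ := exists_map_pair hd huy hv
  set H := (h : Matrix (Fin d) (Fin d) F)
  have hχu : χ ⬝ᵥ u = 0 := hχ u (Submodule.subset_span ⟨0, rfl⟩)
  have hχbu : χ ⬝ᵥ (B *ᵥ u) = 0 := hχ _ (Submodule.subset_span ⟨1, rfl⟩)
  let T : Matrix.SpecialLinearGroup (Fin d) F := ⟨1 + Matrix.vecMulVec (-u) χ, by
    rw [Matrix.vecMulVec_eq Unit, Matrix.det_one_add_replicateCol_mul_replicateRow, dotProduct_neg,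
      hχu, neg_zero, add_zero]⟩
  have hT : ∀ x, (T : Matrix (Fin d) (Fin d) F) *ᵥ x = x - (χ ⬝ᵥ x) • u := by
    intro x
    show (1 + Matrix.vecMulVec (-u) χ) *ᵥ x = _
    rw [Matrix.add_mulVec, Matrix.one_mulVec, Matrix.vecMulVec_mulVec, op_smul_eq_smul, smul_neg,
      sub_eq_add_neg]
  set S := Submodule.span F ({v, A *ᵥ v} : Set (Fin d → F))
  by_contra hcon
  push Not at hcon
  have ev : ∀ (k : Matrix.SpecialLinearGroup (Fin d) F) (u' y' : Fin d → F),
      (k : Matrix (Fin d) (Fin d) F) *ᵥ u' = v → (k : Matrix (Fin d) (Fin d) F) *ᵥ y' = A *ᵥ v →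
      A *ᵥ ((k : Matrix (Fin d) (Fin d) F) *ᵥ (B *ᵥ u')) - (k : Matrix (Fin d) (Fin d) F) *ᵥ (B *ᵥ y') ∈ S := by
    intro k u' y' h1 h2
    have := hcon k v
    have i1 : ((k⁻¹ : Matrix.SpecialLinearGroup (Fin d) F) : Matrix (Fin d) (Fin d) F) *ᵥ v = u' := by
      rw [← h1, Matrix.mulVec_mulVec, ← Matrix.SpecialLinearGroup.coe_mul, inv_mul_cancel,
        Matrix.SpecialLinearGroup.coe_one, Matrix.one_mulVec]
    have i2 : ((k⁻¹ : Matrix.SpecialLinearGroup (Fin d) F) : Matrix (Fin d) (Fin d) F) *ᵥ (A *ᵥ v) = y' := by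
      rw [← h2, Matrix.mulVec_mulVec, ← Matrix.SpecialLinearGroup.coe_mul, inv_mul_cancel,
        Matrix.SpecialLinearGroup.coe_one, Matrix.one_mulVec]
    simp only [Matrix.SpecialLinearGroup.coe_mul, ← Matrix.mulVec_mulVec] at this
    rwa [i1, i2] at this
  have z1 := ev h u y hhu hhy
  have z2 := ev (h * T) u (y + u)
    (by rw [Matrix.SpecialLinearGroup.coe_mul, ← Matrix.mulVec_mulVec, hT, hχu, zero_smul, sub_zero, hhu])
    (by rw [Matrix.SpecialLinearGroup.coe_mul, ← Matrix.mulVec_mulVec, hT, dotProduct_add, hχu, hχy,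
      add_zero, one_smul, add_sub_cancel_right, hhy])
  simp only [Matrix.SpecialLinearGroup.coe_mul, ← Matrix.mulVec_mulVec, hT, hχbu, zero_smul, sub_zero,
    Matrix.mulVec_add, Matrix.mulVec_sub, Matrix.mulVec_smul] at z2
  have hvS : v ∈ S := Submodule.subset_span (by simp)
  have hw : H *ᵥ (B *ᵥ u) ∈ S := by
    have := S.add_mem (S.sub_mem z1 z2) (S.smul_mem ((χ ⬝ᵥ (B *ᵥ y))) hvS)
    convert this using 1
    simp only [H] at hhu ⊢
    rw [hhu]
    abel
  have hmem : B *ᵥ u ∈ Submodule.span F ({u, y} : Set (Fin d → F)) := by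
    obtain ⟨c₁, c₂, hc⟩ := Submodule.mem_span_pair.1 hw
    refine Submodule.mem_span_pair.2 ⟨c₁, c₂, ?_⟩
    rw [← hhy, ← hhu, ← Matrix.mulVec_smul, ← Matrix.mulVec_smul, ← Matrix.mulVec_add] at hc
    have := congrArg (((h⁻¹ : Matrix.SpecialLinearGroup (Fin d) F) : Matrix (Fin d) (Fin d) F) *ᵥ ·) hc
    simpa only [H, Matrix.mulVec_mulVec, ← mul_assoc, ← Matrix.SpecialLinearGroup.coe_mul, inv_mul_cancel,
      Matrix.SpecialLinearGroup.coe_one, one_mul, Matrix.one_mulVec] using this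
  obtain ⟨c₁, c₂, hc⟩ := Submodule.mem_span_pair.1 hmem
  have hc2 := congrArg (χ ⬝ᵥ ·) hc
  simp only [dotProduct_add, dotProduct_smul, hχu, hχy, hχbu, smul_eq_mul, mul_zero, mul_one,
    zero_add] at hc2
  rw [hc2, zero_smul, add_zero] at hc
  exact (LinearIndependent.pair_iff' hu0).1 hu c₁ hc

/-- Both zero and one are traces of products of conjugates. -/
theorem exists_traces (hd : 3 ≤ d) (a b : Matrix.SpecialLinearGroup (Fin d) F)
    (ha : ∀ c : F, (a : Matrix (Fin d) (Fin d) F) ≠ Matrix.scalar (Fin d) c)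
    (hb : ∀ c : F, (b : Matrix (Fin d) (Fin d) F) ≠ Matrix.scalar (Fin d) c) (r : F) :
    ∃ g h : Matrix.SpecialLinearGroup (Fin d) F,
      Matrix.trace ((g * a * g⁻¹ * (h * b * h⁻¹) : Matrix.SpecialLinearGroup (Fin d) F) :
        Matrix (Fin d) (Fin d) F) = r := by
  obtain ⟨h, v, hz⟩ := exists_conj_not_mem hd ha hb
  obtain ⟨φ, hφ, hφz⟩ := exists_row _ hz
  set b' := h * b * h⁻¹
  set A := (a : Matrix (Fin d) (Fin d) F)
  set B := (b' : Matrix (Fin d) (Fin d) F)
  set N := Matrix.vecMulVec v φ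
  have hφv : φ ⬝ᵥ v = 0 := hφ v (Submodule.subset_span (by simp))
  have hφav : φ ⬝ᵥ (A *ᵥ v) = 0 := hφ _ (Submodule.subset_span (by simp))
  have hNN : N * N = 0 := by
    rw [Matrix.vecMulVec_mul_vecMulVec, hφv, zero_smul, Matrix.vecMulVec_zero]
  have hNAN : N * A * N = 0 := by
    rw [mul_assoc, Matrix.mul_vecMulVec, Matrix.vecMulVec_mul_vecMulVec, hφav, zero_smul,
      Matrix.vecMulVec_zero]
  set s := r - Matrix.trace (A * B)
  let g : Matrix.SpecialLinearGroup (Fin d) F := ⟨1 + s • N, by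
    rw [← Matrix.smul_vecMulVec, Matrix.vecMulVec_eq Unit,
      Matrix.det_one_add_replicateCol_mul_replicateRow, dotProduct_smul, hφv, smul_zero, add_zero]⟩
  let g' : Matrix.SpecialLinearGroup (Fin d) F := ⟨1 - s • N, by
    rw [sub_eq_add_neg, ← neg_smul, ← Matrix.smul_vecMulVec, Matrix.vecMulVec_eq Unit,
      Matrix.det_one_add_replicateCol_mul_replicateRow, dotProduct_smul, hφv, smul_zero, add_zero]⟩
  have hgg : g⁻¹ = g' := by
    apply inv_eq_of_mul_eq_one_right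
    apply Subtype.ext
    change (1 + s • N) * (1 - s • N) = 1
    simp [mul_sub, add_mul, smul_smul, hNN]
  refine ⟨g, h, ?_⟩
  rw [hgg]
  change Matrix.trace ((1 + s • N) * A * (1 - s • N) * B) = r
  have e : (1 + s • N) * A * (1 - s • N) * B = A * B + s • (N * A * B - A * N * B) := by
    rw [show (1 + s • N) * A * (1 - s • N) = A + s • (N * A - A * N) - (s * s) • (N * A * N) by
      simp only [mul_sub, add_mul, one_mul, mul_one, smul_mul_assoc, mul_smul_comm, smul_sub, smul_smul,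
        ← mul_assoc, smul_add]
      abel]
    rw [hNAN, smul_zero, sub_zero, add_mul, smul_mul_assoc, sub_mul]
  rw [e, Matrix.trace_add, Matrix.trace_smul, Matrix.trace_sub]
  have t1 : Matrix.trace (N * A * B) = φ ⬝ᵥ ((A * B) *ᵥ v) := by
    rw [mul_assoc, Matrix.trace_mul_comm, Matrix.mul_vecMulVec, Matrix.trace_vecMulVec, dotProduct_comm]
  have t2 : Matrix.trace (A * N * B) = φ ⬝ᵥ ((B * A) *ᵥ v) := by
    rw [mul_assoc, Matrix.trace_mul_comm, mul_assoc, Matrix.trace_mul_comm,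
      Matrix.mul_vecMulVec, Matrix.trace_vecMulVec, dotProduct_comm]
  rw [t1, t2, ← dotProduct_sub]
  simp only [Matrix.SpecialLinearGroup.coe_mul] at hφz ⊢
  have : φ ⬝ᵥ ((A * B) *ᵥ v - (B * A) *ᵥ v) = 1 := hφz
  rw [this, smul_eq_mul, mul_one]
  exact add_sub_cancel _ _

/-- Let F be a finite field and d ≥ 3, and let a, b be non-identity elements of PSL_d(F). Then the product of the conjugacy classes of a and b is not a single conjugacy class: there are conjugates a′ of a and b′ of b such that a′b′ is not conjugate to ab. -/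
theorem result {F : Type*} [Field F] [Fintype F] (d : ℕ) (hd : 3 ≤ d)
    (a b : Matrix.ProjectiveSpecialLinearGroup (Fin d) F) (ha : a ≠ 1) (hb : b ≠ 1) :
    ∃ g h : Matrix.ProjectiveSpecialLinearGroup (Fin d) F, ¬ IsConj (a * b) (g * a * g⁻¹ * (h * b * h⁻¹)) := by
  classical
  obtain ⟨A, rfl⟩ := QuotientGroup.mk_surjective a
  obtain ⟨B, rfl⟩ := QuotientGroup.mk_surjective b
  haveI : Nonempty (Fin d) := ⟨⟨0, by omega⟩⟩
  have hns : ∀ X : Matrix.SpecialLinearGroup (Fin d) F,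
      (QuotientGroup.mk X : Matrix.ProjectiveSpecialLinearGroup (Fin d) F) ≠ 1 →
      ∀ c : F, (X : Matrix (Fin d) (Fin d) F) ≠ Matrix.scalar (Fin d) c := by
    intro X hX c hc
    apply hX
    refine (QuotientGroup.eq_one_iff X).2 (Matrix.SpecialLinearGroup.mem_center_iff.2 ⟨c, ?_, hc.symm⟩)
    have := X.det_coe
    rw [hc, Matrix.scalar_apply, Matrix.det_diagonal, Finset.prod_const] at this
    simpa using this
  by_contra hcon
  push Not at hcon
  obtain ⟨g₀, h₀, e₀⟩ := exists_traces hd A B (hns A ha) (hns B hb) 0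
  obtain ⟨g₁, h₁, e₁⟩ := exists_traces hd A B (hns A ha) (hns B hb) 1
  have hconj : IsConj (QuotientGroup.mk (g₀ * A * g₀⁻¹ * (h₀ * B * h₀⁻¹)) : Matrix.ProjectiveSpecialLinearGroup (Fin d) F)
      (QuotientGroup.mk (g₁ * A * g₁⁻¹ * (h₁ * B * h₁⁻¹))) := by
    have c0 := hcon (QuotientGroup.mk g₀) (QuotientGroup.mk h₀)
    have c1 := hcon (QuotientGroup.mk g₁) (QuotientGroup.mk h₁)
    exact c0.symm.trans c1
  obtain ⟨C, hC⟩ := isConj_iff.1 hconj
  obtain ⟨k, rfl⟩ := QuotientGroup.mk_surjective C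
  have hC' : (k * (g₀ * A * g₀⁻¹ * (h₀ * B * h₀⁻¹)) * k⁻¹)⁻¹ * (g₁ * A * g₁⁻¹ * (h₁ * B * h₁⁻¹)) ∈
      Subgroup.center (Matrix.SpecialLinearGroup (Fin d) F) := QuotientGroup.eq.1 hC
  obtain ⟨c, -, hc⟩ := Matrix.SpecialLinearGroup.mem_center_iff.1 hC'
  set X := g₀ * A * g₀⁻¹ * (h₀ * B * h₀⁻¹)
  set Y := g₁ * A * g₁⁻¹ * (h₁ * B * h₁⁻¹)
  have hY : (Y : Matrix (Fin d) (Fin d) F) =
      ((k * X * k⁻¹ : Matrix.SpecialLinearGroup (Fin d) F) : Matrix (Fin d) (Fin d) F) * Matrix.scalar (Fin d) c := by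
    rw [hc, ← Matrix.SpecialLinearGroup.coe_mul, mul_inv_cancel_left]
  have htr : Matrix.trace ((k * X * k⁻¹ : Matrix.SpecialLinearGroup (Fin d) F) : Matrix (Fin d) (Fin d) F) = 0 := by
    rw [Matrix.SpecialLinearGroup.coe_mul, Matrix.trace_mul_comm, ← Matrix.SpecialLinearGroup.coe_mul,
      inv_mul_cancel_left]
    exact e₀
  have := e₁
  rw [hY, Matrix.scalar_apply, ← Matrix.smul_one_eq_diagonal, mul_smul_comm, mul_one,
    Matrix.trace_smul, htr, smul_zero] at this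
  exact zero_ne_one this

end Cfsg.Agent.S2272
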