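import Cfsg.Statements.S2276
import Mathlib
import Cfsg.Agent.Lib.KnownSimple.FreePairReduce

set_option autoImplicit false
open Cfsg

namespace Cfsg.Agent.S2276

open Cfsg.Agent.FreePair Equiv Equiv.Perm

theorem two_geom {p : ℕ} (hp : 3 ≤ p) : ∀ k, 2 * (∑ i ∈ Finset.range k, p ^ i) + 1 ≤ p ^ k
  | 0 => by simp
  | k + 1 => by
    have h := two_geom hp k
    have : 3 * p ^ k ≤ p ^ (k + 1) := by rw [pow_succ']; exact Nat.mul_le_mul_right _ hp
    rw [Finset.sum_range_succ]
    omega

variable {n : ℕ}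

theorem finish {p M : ℕ} (u w : Equiv.Perm (Fin n)) (C T : Finset (Fin n)) (eC : C ≃ Fin M)
    (eT : T ≃ Fin M) (hu : u ∈ stab C) (hw : w ∈ stab T)
    (h : (∀ ε : ℤˣ, ∃ σ, Equiv.Perm.sign σ = ε ∧
        Good p (restr C eC ⟨u, hu⟩) (σ * restr T eT ⟨w, hw⟩ * σ⁻¹)) ∨
      ((M + 2 ≤ n ∨ ¬ Subgroup.centralizer {w} ≤ alternatingGroup (Fin n)) ∧
        ∃ σ, Good p (restr C eC ⟨u, hu⟩) (σ * restr T eT ⟨w, hw⟩ * σ⁻¹))) :
    ∃ g : Equiv.Perm (Fin n), Equiv.Perm.sign g = 1 ∧ Good p u (g * w * g⁻¹) := by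
  set s0 := Equiv.Perm.sign (eT.trans eC.symm).extendSubtype with hs0
  rcases h with h | ⟨hfree, σ, hσ⟩
  · obtain ⟨σ, e, hσ⟩ := h s0
    obtain ⟨g, hg, hgood⟩ := lift_good u w C T eC eT hu hw σ σ 1 (fun x _ => rfl) rfl hσ
    exact ⟨g, by rw [hg, map_one, one_mul, e, ← hs0]; exact Int.units_mul_self _, hgood⟩
  obtain ⟨g, hg, hgood⟩ := lift_good u w C T eC eT hu hw σ σ 1 (fun x _ => rfl) rfl hσ
  rcases Int.units_eq_one_or (Equiv.Perm.sign g) with e | e
  · exact ⟨g, e, hgood⟩
  rcases hfree with hn | hz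
  · have hC : C.card = M := by
      simpa using Fintype.card_congr eC
    obtain ⟨a, ha, b, hb, hab⟩ := Finset.one_lt_card.1 (show 1 < Cᶜ.card by
      rw [Finset.card_compl, Fintype.card_fin]; omega)
    rw [Finset.mem_compl] at ha hb
    obtain ⟨g', hg', hgood'⟩ := lift_good u w C T eC eT hu hw σ σ (swap a b)
      (fun x hx => swap_apply_of_ne_of_ne (fun h => ha (h ▸ hx)) (fun h => hb (h ▸ hx))) rfl hσ
    refine ⟨g', ?_, hgood'⟩
    rw [map_one, one_mul] at hg
    rw [hg', Equiv.Perm.sign_swap hab, mul_assoc, ← hg, e]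
    decide
  · obtain ⟨z, hz1, hz2⟩ := SetLike.not_le_iff_exists.1 hz
    have hzw : z * w = w * z := (Subgroup.mem_centralizer_singleton_iff.1 hz1)
    have hzs : Equiv.Perm.sign z = -1 := by
      rcases Int.units_eq_one_or (Equiv.Perm.sign z) with h | h
      · exact absurd (Equiv.Perm.mem_alternatingGroup.2 h) hz2
      · exact h
    refine ⟨g * z, by rw [map_mul, e, hzs]; decide, ?_⟩
    have : g * z * w * (g * z)⁻¹ = g * w * g⁻¹ := by
      rw [mul_assoc g z w, hzw]; group
    rwa [this]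

theorem core (hn : 5 ≤ n) {p m m' : ℕ} (hp : p.Prime) (hp3 : 3 ≤ p) (u w : Equiv.Perm (Fin n))
    (hu : u ≠ 1) (hw : w ≠ 1) (hu' : u ^ p ^ m = 1) (hw' : w ^ p ^ m' = 1) (x0 : Fin n)
    (hmaxu : ∀ y, (orb u y).card ≤ (orb u x0).card) (hmaxw : ∀ y, (orb w y).card ≤ (orb u x0).card) :
    ∃ g : Equiv.Perm (Fin n), Equiv.Perm.sign g = 1 ∧ Good p u (g * w * g⁻¹) := by
  obtain ⟨k, hk⟩ := orb_card_pow hp hu' x0
  have hdvd : ∀ (g : Equiv.Perm (Fin n)) (j : ℕ), g ^ p ^ j = 1 →
      (∀ y, (orb g y).card ≤ p ^ k) → ∀ y, (orb g y).card ∣ p ^ k := by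
    intro g j hg hle y
    obtain ⟨i, hi⟩ := orb_card_pow hp hg y
    have := hle y
    rw [hi] at this ⊢
    exact pow_dvd_pow p ((Nat.pow_le_pow_iff_right hp.one_lt).1 this)
  rw [hk] at hmaxu hmaxw
  obtain ⟨y0, hy0⟩ : ∃ y, u y ≠ y := by
    by_contra h
    push Not at h
    exact hu (Equiv.ext h)
  have hk2 : 2 ≤ p ^ k :=
    le_trans (two_le_of_mem_cycleType (orb_card_moved hy0)) (hmaxu y0)
  have hx0 : u x0 ≠ x0 := fun h => by
    have := orb_card_fixed h
    omega
  by_cases h5 : 5 ≤ p ^ k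
  · have hMn : p ^ k ≤ n := by
      simpa [hk] using Finset.card_le_univ (orb u x0)
    have hCinv : u ∈ stab (orb u x0) := fun y => orb_invariant y
    let eC : orb u x0 ≃ Fin (p ^ k) := Fintype.equivFinOfCardEq (by simpa using hk)
    obtain ⟨ha, has⟩ := isCycle_of_univ (restr_orb eC hCinv) (by rw [Fintype.card_fin]; omega)
    by_cases hfree : p ^ k + 2 ≤ n ∨ ¬ Subgroup.centralizer {w} ≤ alternatingGroup (Fin n)
    · obtain ⟨T, hT, hTinv, x, hxT, hx⟩ := exists_invariant w hw hp hw' (p ^ k) (by omega)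
        (hdvd w m' hw' hmaxw) (by simpa using hMn)
      let eT : T ≃ Fin (p ^ k) := Fintype.equivFinOfCardEq (by simpa using hT)
      exact finish u w _ T eC eT hCinv hTinv (Or.inr ⟨hfree, exists_good_pow hp hp3 rfl h5 _ _ ha has
        (restr_ne_one T eT ⟨w, hTinv⟩ hxT hx) (restr_pow T eT ⟨w, hTinv⟩ hw')⟩)
    · push Not at hfree
      obtain ⟨hn2, hcent⟩ := hfree
      obtain ⟨-, hsum, hcount⟩ := centralizer_le_alternating_iff.1 hcent
      rw [Fintype.card_fin] at hsum
      obtain ⟨y1, hy1⟩ : ∃ y, (orb w y).card = p ^ k := by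
        by_contra hno
        push Not at hno
        have hmem : ∀ c ∈ w.cycleType, c ∈ (Finset.range k).image (fun i => p ^ i) := by
          intro c hc
          rw [cycleType_def, Multiset.mem_map] at hc
          obtain ⟨f, (hf : f ∈ w.cycleFactorsFinset), rfl⟩ := hc
          obtain ⟨hfc, hfw⟩ := mem_cycleFactorsFinset_iff.1 hf
          obtain ⟨y, hy⟩ := hfc.nonempty_support
          have hwy : w y ≠ y := by rw [← hfw y hy]; exact mem_support.1 hy
          have e : f = w.cycleOf y := cycle_is_cycleOf hy hf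
          have ecard : (orb w y).card = f.support.card := by
            congr 1
            ext z
            rw [mem_orb, e, mem_support_cycleOf_iff' hwy]
          obtain ⟨i, hi⟩ := orb_card_pow hp hw' y
          refine Finset.mem_image.2 ⟨i, Finset.mem_range.2 ?_, ?_⟩
          · have h1 := lt_of_le_of_ne (hmaxw y) (hno y)
            rw [hi] at h1
            exact (Nat.pow_lt_pow_iff_right hp.one_lt).1 h1
          · show p ^ i = (Finset.card ∘ support) f
            rw [Function.comp_apply, ← hi, ecard]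
        have hnd : w.cycleType.Nodup := Multiset.nodup_iff_count_le_one.2 hcount
        have hle : w.cycleType.sum ≤ ∑ c ∈ (Finset.range k).image (fun i => p ^ i), c := by
          have e : w.cycleType.sum = ∑ c ∈ w.cycleType.toFinset, c := by
            rw [Finset.sum_eq_multiset_sum, Multiset.toFinset_val, hnd.dedup, Multiset.map_id']
          rw [e]
          exact Finset.sum_le_sum_of_subset fun c hc => hmem c (Multiset.mem_toFinset.1 hc)
        rw [Finset.sum_image (fun a _ b _ h => Nat.pow_right_injective hp.two_le h)] at hle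
        have := two_geom hp3 k
        omega
      have hTinv : w ∈ stab (orb w y1) := fun y => orb_invariant y
      let eT : orb w y1 ≃ Fin (p ^ k) := Fintype.equivFinOfCardEq (by simpa using hy1)
      obtain ⟨hb, hbs⟩ := isCycle_of_univ (restr_orb eT hTinv) (by rw [Fintype.card_fin]; omega)
      exact finish u w _ _ eC eT hCinv hTinv
        (Or.inl fun ε => exists_good_cycles hp hp3 rfl h5 _ _ ha has hb hbs ε)
  · -- all cycles are three-cycles
    obtain rfl : p = 3 := by
      rcases k with _ | k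
      · simp at hk2
      · have : p ≤ p ^ (k + 1) := Nat.le_self_pow (Nat.succ_ne_zero _) p
        rcases (show p = 3 ∨ p = 4 by omega) with h | h
        · exact h
        · subst h; norm_num at hp
    have hk1 : 3 ^ k = 3 := by
      rcases k with _ | _ | k
      · simp at hk2
      · rfl
      · have : 3 ^ 2 ≤ 3 ^ (k + 1 + 1) := Nat.pow_le_pow_right (by norm_num) (by omega)
        omega
    rw [hk1] at hmaxu hmaxw hdvd
    have hcen : ¬ Subgroup.centralizer {w} ≤ alternatingGroup (Fin n) := by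
      intro hcent
      obtain ⟨-, hsum, hcount⟩ := centralizer_le_alternating_iff.1 hcent
      rw [Fintype.card_fin] at hsum
      have hall : ∀ c ∈ w.cycleType, c = 3 := by
        intro c hc
        rw [cycleType_def, Multiset.mem_map] at hc
        obtain ⟨f, (hf : f ∈ w.cycleFactorsFinset), rfl⟩ := hc
        obtain ⟨hfc, hfw⟩ := mem_cycleFactorsFinset_iff.1 hf
        obtain ⟨y, hy⟩ := hfc.nonempty_support
        have hwy : w y ≠ y := by rw [← hfw y hy]; exact mem_support.1 hy
        have e : f = w.cycleOf y := cycle_is_cycleOf hy hf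
        have ecard : (orb w y).card = f.support.card := by
          congr 1
          ext z
          rw [mem_orb, e, mem_support_cycleOf_iff' hwy]
        have h1 := hdvd w m' hw' hmaxw y
        rw [ecard] at h1
        have h2 := hfc.two_le_card_support
        rcases (Nat.dvd_prime Nat.prime_three).1 h1 with h | h
        · omega
        · exact h
      rw [Multiset.eq_replicate_card.2 hall] at hsum hcount
      have := hcount 3
      rw [Multiset.count_replicate_self] at this
      rw [Multiset.sum_replicate, smul_eq_mul] at hsum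
      omega
    by_cases h6 : 6 ≤ n
    · obtain ⟨C, hC, hCinv, x, hxC, hx⟩ := exists_invariant u hu hp hu' 6 (by omega)
        (fun y => (hdvd u m hu' hmaxu y).trans (by norm_num)) (by simpa using h6)
      obtain ⟨T, hT, hTinv, y, hyT, hy⟩ := exists_invariant w hw hp hw' 6 (by omega)
        (fun y => (hdvd w m' hw' hmaxw y).trans (by norm_num)) (by simpa using h6)
      let eC : C ≃ Fin 6 := Fintype.equivFinOfCardEq (by simpa using hC)
      let eT : T ≃ Fin 6 := Fintype.equivFinOfCardEq (by simpa using hT)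
      exact finish u w C T eC eT hCinv hTinv (Or.inr ⟨Or.inr hcen, exists_good_six _ _
        (restr_ne_one C eC ⟨u, hCinv⟩ hxC hx) (restr_ne_one T eT ⟨w, hTinv⟩ hyT hy)
        (restr_pow C eC ⟨u, hCinv⟩ hu') (restr_pow T eT ⟨w, hTinv⟩ hw')⟩)
    · obtain rfl : n = 5 := by omega
      obtain ⟨σ, hσ⟩ := exists_good_five u w hu hw hu' hw'
      rcases Int.units_eq_one_or (Equiv.Perm.sign σ) with e | e
      · exact ⟨σ, e, hσ⟩
      obtain ⟨z, hz1, hz2⟩ := SetLike.not_le_iff_exists.1 hcen
      have hzw : z * w = w * z := (Subgroup.mem_centralizer_singleton_iff.1 hz1)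
      have hzs : Equiv.Perm.sign z = -1 := by
        rcases Int.units_eq_one_or (Equiv.Perm.sign z) with h | h
        · exact absurd (Equiv.Perm.mem_alternatingGroup.2 h) hz2
        · exact h
      refine ⟨σ * z, by rw [map_mul, e, hzs]; decide, ?_⟩
      have : σ * z * w * (σ * z)⁻¹ = σ * w * σ⁻¹ := by
        rw [mul_assoc σ z w, hzw]; group
      rwa [this]

/-- Let n ≥ 5, p ≥ 3 a prime, and u, w non-identity elements of p-power order in the alternating group A_n. Then there is g ∈ A_n such that u·(g w g⁻¹) does not have p-power order and ⟨u, g w g⁻¹⟩ is not solvable. -/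
theorem result (n : ℕ) (hn : 5 ≤ n) (p : ℕ) (hp : p.Prime) (hp3 : 3 ≤ p) (u w : alternatingGroup (Fin n)) (hu : u ≠ 1) (hw : w ≠ 1)
    (hu' : ∃ k : ℕ, orderOf u = p ^ k) (hw' : ∃ k : ℕ, orderOf w = p ^ k) :
    ∃ g : alternatingGroup (Fin n), (¬ ∃ k : ℕ, orderOf (u * (g * w * g⁻¹)) = p ^ k) ∧
      ¬ Group.IsSolvable ↥(Subgroup.closure ({u, g * w * g⁻¹} : Set (alternatingGroup (Fin n)))) := by
  obtain ⟨a, ha⟩ := hu'
  obtain ⟨b, hb⟩ := hw'
  set U : Equiv.Perm (Fin n) := (alternatingGroup (Fin n)).subtype u with hU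
  set W : Equiv.Perm (Fin n) := (alternatingGroup (Fin n)).subtype w with hW
  have hU1 : U ≠ 1 := fun h => hu (Subtype.ext h)
  have hW1 : W ≠ 1 := fun h => hw (Subtype.ext h)
  have hUp : U ^ p ^ a = 1 := by
    rw [hU, ← map_pow, ← ha, pow_orderOf_eq_one, map_one]
  have hWp : W ^ p ^ b = 1 := by
    rw [hW, ← map_pow, ← hb, pow_orderOf_eq_one, map_one]
  have : Nonempty (Fin n) := ⟨⟨0, by omega⟩⟩
  obtain ⟨x, -, hx⟩ := Finset.exists_max_image Finset.univ (fun y => (orb U y).card) Finset.univ_nonempty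
  obtain ⟨y, -, hy⟩ := Finset.exists_max_image Finset.univ (fun y => (orb W y).card) Finset.univ_nonempty
  obtain ⟨g, hg, hgood⟩ : ∃ g : Equiv.Perm (Fin n), Equiv.Perm.sign g = 1 ∧
      Good p U (g * W * g⁻¹) := by
    rcases le_total (orb W y).card (orb U x).card with h | h
    · exact core hn hp hp3 U W hU1 hW1 hUp hWp x (fun z => hx z (Finset.mem_univ _))
        fun z => (hy z (Finset.mem_univ _)).trans h
    · obtain ⟨g, hg, hgood⟩ := core hn hp hp3 W U hW1 hU1 hWp hUp y
        (fun z => hy z (Finset.mem_univ _)) fun z => (hx z (Finset.mem_univ _)).trans h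
      refine ⟨g⁻¹, by rw [map_inv, hg, inv_one], ?_⟩
      have := hgood.symm.conj g⁻¹
      simpa [mul_assoc] using this
  obtain ⟨h1, h2⟩ : Good p u (⟨g, Equiv.Perm.mem_alternatingGroup.2 hg⟩ * w *
      (⟨g, Equiv.Perm.mem_alternatingGroup.2 hg⟩ : alternatingGroup (Fin n))⁻¹) := by
    refine Good.of_map (alternatingGroup (Fin n)).subtype ?_
    rw [map_mul, map_mul, map_inv]
    exact hgood
  refine ⟨⟨g, Equiv.Perm.mem_alternatingGroup.2 hg⟩, fun ⟨k, hk⟩ => h1 k ?_, h2⟩
  rw [← hk, pow_orderOf_eq_one]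

end Cfsg.Agent.S2276
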