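import Cfsg.Statements.S2277
import Cfsg.Agent.Lib.Coprime.Sylow
import Cfsg.Agent.Lib.Coprime.Quotient
import Cfsg.Agent.Lib.PGroup.Frattini
import Mathlib

set_option autoImplicit false
open Cfsg

namespace Cfsg.Agent.S2277

open Subgroup
open scoped commutatorElement

section Core

variable {V : Type*} [CommGroup V] [Finite V]

/-- `v ↦ a v / v`. -/
def disp (a : MulAut V) : V →* V := a.toMonoidHom / MonoidHom.id V

theorem disp_apply (a : MulAut V) (v : V) : disp a v = a v / v := rfl

theorem disp_comm {a s : MulAut V} (h : s * a = a * s) (v : V) : s (disp a v) = disp a (s v) := by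
  rw [disp_apply, disp_apply, map_div, ← MulAut.mul_apply, h, MulAut.mul_apply]

theorem eq_one_of_pow_eq_one {r : ℕ} (hr : r.Coprime (Nat.card V)) {u : V} (hu : u ^ r = 1) : u = 1 := by
  have h := pow_gcd_eq_one.2 ⟨hu, pow_card_eq_one' (x := u)⟩
  rwa [hr, pow_one] at h

theorem fixed_range_disp {a : MulAut V} {r : ℕ} (hr : r.Coprime (Nat.card V)) (ha : a ^ r = 1)
    (v : V) (hfix : a (disp a v) = disp a v) : disp a v = 1 := by
  have key : ∀ k : ℕ, (a ^ k) v = disp a v ^ k * v := by
    intro k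
    induction k with
    | zero => simp
    | succ k ih =>
      rw [pow_succ', MulAut.mul_apply, ih, map_mul, map_pow, hfix,
        show a v = disp a v * v by rw [disp_apply, div_mul_cancel], pow_succ]
      group
  have h := key r
  rw [ha, MulAut.one_apply] at h
  exact eq_one_of_pow_eq_one hr (mul_eq_right.1 h.symm)

theorem shift_apply {c e z : MulAut V} (hce : c * e = z * e * c) (hze : z * e = e * z) (hcz : c * z = z * c)
    {w : V} (hw : c w = w) (k : ℕ) : c ((e ^ k) w) = (z ^ k * e ^ k) w := by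
  induction k with
  | zero => simpa using hw
  | succ k ih =>
    rw [pow_succ' e k, MulAut.mul_apply, ← MulAut.mul_apply, hce, MulAut.mul_apply, ih, ← MulAut.mul_apply]
    refine congrArg (fun f : MulAut V => f w) ?_
    have h1 : e * z ^ k = z ^ k * e := (Commute.pow_right (hze.symm : Commute e z) k).eq
    rw [pow_succ' z k]
    calc z * e * (z ^ k * e ^ k) = z * (e * z ^ k) * e ^ k := by group
      _ = z * (z ^ k * e) * e ^ k := by rw [h1]
      _ = z * z ^ k * (e * e ^ k) := by group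

/-- The fixed points of `c` on `W` are few, when `c` shifts the eigenspaces of `e`. -/
theorem card_fixed_pow_le {p : ℕ} [Fact p.Prime] (hV : p.Coprime (Nat.card V)) (W : Subgroup V)
    {c e z : MulAut V} (hWe : ∀ w ∈ W, e w ∈ W) (hWz : ∀ w ∈ W, z w ∈ W)
    (hfpf : ∀ w ∈ W, z w = w → w = 1)
    (hce : c * e = z * e * c) (hze : z * e = e * z) (hcz : c * z = z * c) (hzp : z ^ p = 1) :
    (Nat.card {w : V // w ∈ W ∧ c w = w}) ^ p ≤ Nat.card W := by
  classical
  have hp : p.Prime := Fact.out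
  have hek : ∀ (k : ℕ), ∀ w ∈ W, (e ^ k) w ∈ W := by
    intro k
    induction k with
    | zero => exact fun w hw => by simpa using hw
    | succ k ih => intro w hw; rw [pow_succ', MulAut.mul_apply]; exact hWe _ (ih w hw)
  have hzk : ∀ (k : ℕ), ∀ w ∈ W, (z ^ k) w ∈ W := by
    intro k
    induction k with
    | zero => exact fun w hw => by simpa using hw
    | succ k ih => intro w hw; rw [pow_succ', MulAut.mul_apply]; exact hWz _ (ih w hw)
  let S : Subgroup V := W ⊓ MonoidHom.eqLocus c.toMonoidHom (MonoidHom.id V)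
  have hS : ∀ w, w ∈ S ↔ w ∈ W ∧ c w = w := fun w => Iff.rfl
  let Φ : (Fin p → S) →* V :=
    { toFun := fun w => ∏ k : Fin p, (e ^ (k : ℕ)) (w k : V)
      map_one' := by simp
      map_mul' := fun f g => by simp [Finset.prod_mul_distrib] }
  have hΦW : ∀ w, Φ w ∈ W := fun w =>
    show (∏ k : Fin p, (e ^ (k : ℕ)) (w k : V)) ∈ W from
      W.prod_mem fun k _ => hek (k : ℕ) _ ((hS _).1 (w k).2).1
  have hshift : ∀ (w : Fin p → S) (m : ℕ),
      (c ^ m) (Φ w) = ∏ k : Fin p, (z ^ (m * (k : ℕ))) ((e ^ (k : ℕ)) (w k : V)) := by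
    intro w m
    induction m with
    | zero => simp [Φ]
    | succ m ih =>
      rw [pow_succ', MulAut.mul_apply, ih, map_prod]
      refine Finset.prod_congr rfl fun k _ => ?_
      rw [← MulAut.mul_apply, (Commute.pow_right (hcz : Commute c z) (m * (k : ℕ))).eq, MulAut.mul_apply,
        shift_apply hce hze hcz ((hS _).1 (w k).2).2, MulAut.mul_apply, ← MulAut.mul_apply, ← pow_add]
      congr 2
      ring
  have hinj : Function.Injective Φ := by
    rw [injective_iff_map_eq_one]
    intro w hw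
    funext l
    have h0 : ∀ m : ℕ, ∏ k : Fin p, (z ^ (m * (p - (l : ℕ) + (k : ℕ)))) ((e ^ (k : ℕ)) (w k : V)) = 1 := by
      intro m
      have h1 := hshift w m
      rw [hw, map_one] at h1
      have h2 := congrArg (z ^ (m * (p - (l : ℕ)))) h1
      rw [map_one, map_prod] at h2
      rw [h2]
      refine Finset.prod_congr rfl fun k _ => ?_
      conv_rhs => rw [← MulAut.mul_apply, ← pow_add, ← mul_add]
    have h3 : ∏ k : Fin p, ∏ m ∈ Finset.range p,
        (z ^ (m * (p - (l : ℕ) + (k : ℕ)))) ((e ^ (k : ℕ)) (w k : V)) = 1 := by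
      rw [Finset.prod_comm]
      exact Finset.prod_eq_one fun m _ => h0 m
    rw [Finset.prod_eq_single l (fun k _ hkl => ?_) (fun h => absurd (Finset.mem_univ l) h)] at h3
    · have hl : ∀ m, z ^ (m * (p - (l : ℕ) + (l : ℕ))) = 1 := fun m => by
        rw [Nat.sub_add_cancel l.2.le, mul_comm, pow_mul, hzp, one_pow]
      rw [Finset.prod_congr rfl (fun m _ => by rw [hl m, MulAut.one_apply]), Finset.prod_const,
        Finset.card_range] at h3
      have h4 : (e ^ (l : ℕ)) (w l : V) = 1 := eq_one_of_pow_eq_one hV h3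
      exact Subtype.ext ((e ^ (l : ℕ)).injective (h4.trans (map_one _).symm))
    · set u := (e ^ (k : ℕ)) (w k : V) with hu
      set a := p - (l : ℕ) + (k : ℕ) with ha
      have huW : u ∈ W := hek _ _ ((hS _).1 (w k).2).1
      set v := ∏ m ∈ Finset.range p, (z ^ (m * a)) u with hv
      have hvW : v ∈ W := W.prod_mem fun m _ => hzk _ _ huW
      have hfix : (z ^ a) v = v := by
        rw [hv, map_prod]
        have e1 := Finset.prod_range_succ' (fun m => (z ^ (m * a)) u) p
        have e2 := Finset.prod_range_succ (fun m => (z ^ (m * a)) u) p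
        rw [e1] at e2
        simp only [zero_mul, pow_zero, MulAut.one_apply,
          show z ^ (p * a) = 1 by rw [pow_mul, hzp, one_pow]] at e2
        refine Eq.trans (Finset.prod_congr rfl fun m _ => ?_) (mul_right_cancel e2)
        rw [← MulAut.mul_apply, ← pow_add]
        congr 2
        ring
      have hcop : a.Coprime p := by
        rw [Nat.coprime_comm, hp.coprime_iff_not_dvd]
        intro hd
        obtain ⟨j, hj⟩ := hd
        have := l.2
        have := k.2
        have hne : (k : ℕ) ≠ l := fun h => hkl (Fin.ext h)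
        rcases Nat.lt_trichotomy j 1 with hj1 | rfl | hj1
        · obtain rfl : j = 0 := by omega
          omega
        · omega
        · have := Nat.mul_le_mul_left p hj1
          omega
      have hiter : ∀ j : ℕ, ((z ^ a) ^ j) v = v := by
        intro j
        induction j with
        | zero => simp
        | succ j ih => rw [pow_succ', MulAut.mul_apply, ih, hfix]
      obtain ⟨j, hj⟩ := exists_pow_eq_self_of_coprime (x := z)
        (hcop.coprime_dvd_right (orderOf_dvd_of_pow_eq_one hzp))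
      have := hiter j
      rw [hj] at this
      exact hfpf v hvW this
  calc (Nat.card {w : V // w ∈ W ∧ c w = w}) ^ p = Nat.card (Fin p → S) := by
        rw [Nat.card_fun, Nat.card_fin]; rfl
    _ ≤ Nat.card W := Nat.card_le_card_of_injective (fun w => ⟨Φ w, hΦW w⟩)
        (fun _ _ h => hinj (congrArg Subtype.val h))

/-- An odd `p`-group generated by two sets each pair of which has jointly spanning fixed points
on a coprime abelian group acts trivially. -/
theorem trivial_action {p : ℕ} [Fact p.Prime] (hp3 : 3 ≤ p) (hV : p.Coprime (Nat.card V))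
    (S : Subgroup (MulAut V)) (hS : IsPGroup p S) (C D : Set (MulAut V))
    (hC : Subgroup.closure C = S) (hD : Subgroup.closure D = S)
    (h : ∀ c ∈ C, ∀ d ∈ D, ∀ v : V, ∃ y w : V, d y = y ∧ c w = w ∧ v = y * w) : S = ⊥ := by
  classical
  by_contra hne
  have hp : p.Prime := Fact.out
  haveI : Nontrivial S := (Subgroup.nontrivial_iff_ne_bot S).2 hne
  haveI := hS.center_nontrivial
  -- `z s` is central; `e = none` in the abelian case
  obtain ⟨z, e, hz⟩ : ∃ (z : S → S) (e : Option S), (∀ s, z s ∈ center S) ∧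
      (∀ s t, z (s * t) = z s * z t) ∧ (∃ s, z s ≠ 1) ∧
      (e = none → ∀ s, z s = s) ∧
      (∀ x, e = some x → ∀ s, s * x = z s * x * s ∧ z s ^ p = 1) := by
    by_cases hab : center S = ⊤
    · refine ⟨id, none, fun s => hab ▸ Subgroup.mem_top s, fun _ _ => rfl, exists_ne 1,
        fun _ _ => rfl, fun x hx => by simp at hx⟩
    · haveI : Nontrivial (S ⧸ center S) := by
        rw [← Finite.one_lt_card_iff_nontrivial, ← Subgroup.index_eq_card]
        exact lt_of_le_of_ne (Nat.one_le_iff_ne_zero.2 Subgroup.index_ne_zero_of_finite)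
          (fun h => hab (Subgroup.index_eq_one.1 h.symm))
      have hQ : IsPGroup p (S ⧸ center S) := hS.to_quotient _
      haveI := hQ.center_nontrivial
      obtain ⟨n, hn0, hn⟩ := (hQ.to_subgroup (center (S ⧸ center S))).nontrivial_iff_card.1 inferInstance
      obtain ⟨x, hx⟩ := exists_prime_orderOf_dvd_card' (G := center (S ⧸ center S)) p
        (hn ▸ dvd_pow_self p hn0.ne')
      obtain ⟨e, he⟩ := QuotientGroup.mk_surjective (x : S ⧸ center S)
      have hx1 : (x : S ⧸ center S) ≠ 1 := fun h => by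
        rw [Subtype.ext h (a2 := (1 : center (S ⧸ center S))), orderOf_one] at hx
        exact hp.one_lt.ne hx
      have he1 : e ∉ center S := fun h => hx1 (he ▸ (QuotientGroup.eq_one_iff e).2 h)
      have hzc : ∀ s : S, s * e * s⁻¹ * e⁻¹ ∈ center S := by
        intro s
        rw [← QuotientGroup.eq_one_iff]
        have := Subgroup.mem_center_iff.1 x.2 (s : S ⧸ center S)
        simp only [QuotientGroup.mk_mul, QuotientGroup.mk_inv, he]
        rw [this]; group
      have hmul : ∀ s t : S, s * t * e * (s * t)⁻¹ * e⁻¹ =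
          (s * e * s⁻¹ * e⁻¹) * (t * e * t⁻¹ * e⁻¹) := by
        intro s t
        have h2 := Subgroup.mem_center_iff.1 (hzc t)
        have e1 : s * t * e * (s * t)⁻¹ * e⁻¹ = s * ((t * e * t⁻¹ * e⁻¹) * e) * s⁻¹ * e⁻¹ := by group
        rw [e1, ← h2 e, show s * (e * (t * e * t⁻¹ * e⁻¹)) = (s * e) * (t * e * t⁻¹ * e⁻¹) by group,
          h2 (s * e), mul_assoc, mul_assoc, ← h2 ((s * e) * (s⁻¹ * e⁻¹))]
        group
      refine ⟨fun s => s * e * s⁻¹ * e⁻¹, some e, hzc, hmul, ?_, fun h => by simp at h, ?_⟩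
      · by_contra hall
        push Not at hall
        exact he1 (Subgroup.mem_center_iff.2 fun s => by
          rw [← mul_inv_eq_one, show s * e * (e * s)⁻¹ = s * e * s⁻¹ * e⁻¹ by group]; exact hall s)
      · intro x' hx' s
        obtain rfl : e = x' := Option.some_injective _ hx'
        refine ⟨by group, ?_⟩
        have hep : e ^ p ∈ center S := by
          rw [← QuotientGroup.eq_one_iff, QuotientGroup.mk_pow, he, ← Subgroup.coe_pow, ← hx,
            pow_orderOf_eq_one, Subgroup.coe_one]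
        set zz := s * e * s⁻¹ * e⁻¹ with hzz
        have h2 : Commute zz e := (Subgroup.mem_center_iff.1 (hzc s) e).symm
        have h3 : (zz * e) ^ p = e ^ p := by
          rw [show zz * e = s * e * s⁻¹ by rw [hzz]; group, conj_pow,
            Subgroup.mem_center_iff.1 hep s]
          group
        rw [h2.mul_pow] at h3
        exact mul_eq_right.1 h3
  obtain ⟨hzc, hzmul, ⟨s0, hs0⟩, hnone, hsome⟩ := hz
  let zh : S →* S := MonoidHom.mk' z hzmul
  have hcomm : ∀ s t : S, (t : MulAut V) * (z s : MulAut V) = (z s : MulAut V) * t := fun s t =>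
    congrArg Subtype.val (Subgroup.mem_center_iff.1 (hzc s) t)
  -- some generator in `C` has nontrivial image
  have hgenS : ∀ (X : Set (MulAut V)), Subgroup.closure X = S → ∀ (M : Subgroup S),
      (∀ x (hx : x ∈ S), x ∈ X → (⟨x, hx⟩ : S) ∈ M) → M = ⊤ := by
    intro X hX M hM
    have hle : S ≤ M.map S.subtype := by
      conv_lhs => rw [← hX]
      rw [Subgroup.closure_le]
      intro x hx
      have hxS : x ∈ S := hX ▸ Subgroup.subset_closure hx
      exact ⟨⟨x, hxS⟩, hM x hxS hx, rfl⟩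
    refine (Subgroup.eq_top_iff' M).2 fun s => ?_
    obtain ⟨t, ht, hts⟩ := hle s.2
    rwa [← Subtype.ext (hts : (t : MulAut V) = s)]
  obtain ⟨c, hcS, hcC, hzcne⟩ : ∃ c, ∃ hc : c ∈ S, c ∈ C ∧ z ⟨c, hc⟩ ≠ 1 := by
    by_contra hall
    push Not at hall
    have := hgenS C hC zh.ker (fun x hx hxC => MonoidHom.mem_ker.2 (hall x hx hxC))
    exact hs0 (MonoidHom.mem_ker.1 (this ▸ Subgroup.mem_top s0) : zh s0 = 1)
  set zC : MulAut V := ((z ⟨c, hcS⟩ : S) : MulAut V) with hzC
  have hord : ∀ s : S, ∃ r : ℕ, r.Coprime (Nat.card V) ∧ (s : MulAut V) ^ r = 1 := fun s => by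
    obtain ⟨k, hk⟩ := hS s
    exact ⟨p ^ k, hV.pow_left k, congrArg Subtype.val hk⟩
  -- some generator in `D` is nontrivial on the range of `disp zC`
  obtain ⟨d, hdS, hdD, v0, hv0⟩ : ∃ d, ∃ hd : d ∈ S, d ∈ D ∧ ∃ v,
      ((z ⟨d, hd⟩ : S) : MulAut V) (disp zC v) ≠ disp zC v := by
    by_contra hall
    push Not at hall
    let M : Subgroup S :=
      { carrier := {s | ∀ v, ((z s : S) : MulAut V) (disp zC v) = disp zC v}
        one_mem' := fun v => by rw [show z 1 = 1 from zh.map_one]; simp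
        mul_mem' := fun {s t} hs ht v => by rw [hzmul, Subgroup.coe_mul, MulAut.mul_apply, ht, hs]
        inv_mem' := fun {s} hs v => by
          rw [show z s⁻¹ = (z s)⁻¹ from zh.map_inv s, Subgroup.coe_inv]
          conv_lhs => rw [← hs v]
          exact (((z s : S) : MulAut V)).symm_apply_apply _ }
    have hM := hgenS D hD M (fun x hx hxD => hall x hx hxD)
    have h1 : (⟨c, hcS⟩ : S) ∈ M := hM ▸ Subgroup.mem_top _
    obtain ⟨r, hr, hr1⟩ := hord (z ⟨c, hcS⟩)
    refine hzcne (Subtype.ext (MulEquiv.ext fun v => ?_))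
    have := fixed_range_disp hr hr1 v (h1 v)
    rwa [disp_apply, div_eq_one] at this
  set zD : MulAut V := ((z ⟨d, hdS⟩ : S) : MulAut V) with hzD
  let g : V →* V := (disp zD).comp (disp zC)
  have hg : ∀ s : S, ∀ v, (s : MulAut V) (g v) = g ((s : MulAut V) v) := fun s v => by
    change (s : MulAut V) (disp zD (disp zC v)) = disp zD (disp zC ((s : MulAut V) v))
    rw [disp_comm (hcomm ⟨d, hdS⟩ s), disp_comm (hcomm ⟨c, hcS⟩ s)]
  have hg' : ∀ v, g v = disp zC (disp zD v) := fun v => by
    change disp zD (disp zC v) = _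
    rw [disp_apply zD (disp zC v), disp_comm (hcomm ⟨c, hcS⟩ (z ⟨d, hdS⟩)), ← map_div, ← disp_apply]
  set W := g.range with hW
  have hWs : ∀ s : S, ∀ w ∈ W, (s : MulAut V) w ∈ W := by
    rintro s w ⟨v, rfl⟩; exact ⟨_, (hg s v).symm⟩
  have hfC : ∀ w ∈ W, zC w = w → w = 1 := by
    rintro w ⟨v, rfl⟩ hw
    obtain ⟨r, hr, hr1⟩ := hord (z ⟨c, hcS⟩)
    rw [hg'] at hw ⊢
    exact fixed_range_disp hr hr1 _ hw
  have hfD : ∀ w ∈ W, zD w = w → w = 1 := by
    rintro w ⟨v, rfl⟩ hw
    obtain ⟨r, hr, hr1⟩ := hord (z ⟨d, hdS⟩)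
    exact fixed_range_disp hr hr1 _ hw
  have hWne : W ≠ ⊥ := by
    intro hbot
    have : g v0 = 1 := by
      have : g v0 ∈ W := ⟨v0, rfl⟩
      rwa [hbot, Subgroup.mem_bot] at this
    exact hv0 (div_eq_one.1 this)
  have hWfac : ∀ w ∈ W, ∃ y u : V, (y ∈ W ∧ d y = y) ∧ (u ∈ W ∧ c u = u) ∧ w = y * u := by
    rintro w ⟨v, rfl⟩
    obtain ⟨y, u, hy, hu, rfl⟩ := h c hcC d hdD v
    exact ⟨g y, g u, ⟨⟨y, rfl⟩, (hg ⟨d, hdS⟩ y).trans (congrArg g hy)⟩,
      ⟨⟨u, rfl⟩, (hg ⟨c, hcS⟩ u).trans (congrArg g hu)⟩, map_mul g y u⟩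
  obtain ⟨w1, hw1W, hw1⟩ := (Subgroup.ne_bot_iff_exists_ne_one).1 hWne |>.elim
    (fun w hw => (⟨(w : V), w.2, fun h => hw (Subtype.ext h)⟩ : ∃ w, w ∈ W ∧ w ≠ 1))
  cases e with
  | none =>
    obtain ⟨y, u, ⟨hyW, hy⟩, ⟨huW, hu⟩, hyu⟩ := hWfac w1 hw1W
    refine hw1 ?_
    rw [hyu, hfC u huW (by rw [hzC, hnone rfl]; exact hu), hfD y hyW (by rw [hzD, hnone rfl]; exact hy),
      mul_one]
  | some x =>
    have key : ∀ (a : MulAut V) (ha : a ∈ S),
        (∀ w ∈ W, ((z ⟨a, ha⟩ : S) : MulAut V) w = w → w = 1) →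
        (Nat.card {w : V // w ∈ W ∧ a w = w}) ^ p ≤ Nat.card W := by
      intro a ha hf
      have hs := hsome x rfl ⟨a, ha⟩
      exact card_fixed_pow_le (e := (x : MulAut V)) (z := ((z ⟨a, ha⟩ : S) : MulAut V)) hV W (hWs x)
        (hWs _) hf (congrArg Subtype.val hs.1) (hcomm ⟨a, ha⟩ x).symm
        (hcomm ⟨a, ha⟩ ⟨a, ha⟩) (congrArg Subtype.val hs.2)
    have hc' := key c hcS hfC
    have hd' := key d hdS hfD
    have hle : Nat.card W ≤ Nat.card {w : V // w ∈ W ∧ d w = w} * Nat.card {w : V // w ∈ W ∧ c w = w} := by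
      rw [← Nat.card_prod]
      refine Nat.card_le_card_of_surjective (fun yu => (⟨(yu.1 : V) * (yu.2 : V), W.mul_mem yu.1.2.1 yu.2.2.1⟩ : W))
        fun w => ?_
      obtain ⟨y, u, hy, hu, hyu⟩ := hWfac w w.2
      exact ⟨(⟨y, hy⟩, ⟨u, hu⟩), Subtype.ext hyu.symm⟩
    have h1 : 1 < Nat.card W := Subgroup.one_lt_card_iff_ne_bot W |>.2 hWne
    have h2 : Nat.card W ^ p ≤ Nat.card W ^ 2 := by
      refine (Nat.pow_le_pow_left hle p).trans ?_
      rw [mul_pow, pow_two]
      exact Nat.mul_le_mul hd' hc'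
    exact absurd ((Nat.pow_le_pow_iff_right h1).1 h2) (by omega)

end Core

variable {G : Type*} [Group G] [Finite G]

/-- The action of a normalising subgroup on the Frattini quotient. -/
noncomputable def fratAct (P K : Subgroup G) (hPK : P ≤ normalizer (K : Set G)) :
    P →* MulAut (K ⧸ frattini K) :=
  MonoidHom.mk' (fun a => QuotientGroup.congr (frattini K) (frattini K)
      (K.normalizerMonoidHom ⟨a, hPK a.2⟩)
      (Subgroup.characteristic_iff_map_eq.1 inferInstance _))
    (fun a b => MulEquiv.ext fun x => by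
      induction x using QuotientGroup.induction_on with | H k => ?_
      rw [MulAut.mul_apply]
      show QuotientGroup.mk (K.normalizerMonoidHom ⟨(a : G) * b, _⟩ k) =
        QuotientGroup.mk (K.normalizerMonoidHom ⟨(a : G), _⟩ (K.normalizerMonoidHom ⟨(b : G), _⟩ k))
      rw [← MulAut.mul_apply, ← map_mul]
      rfl)

/-- Every invariant coprime subgroup factorises by fixed points. -/
theorem factorise (p : ℕ) [Fact p.Prime] (P : Sylow p G) (N K : Subgroup G) [N.Normal]
    (hN : (Nat.card N).Coprime p) (hKN : K ≤ N) (hPK : (P : Subgroup G) ≤ normalizer (K : Set G))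
    {c d x : G} (hc : c ∈ P) (hd : d ∈ P) (hx : x ∈ K)
    (h : IsPGroup p (Subgroup.closure ({x * c * x⁻¹, d} : Set G))) :
    ∃ y w : G, y ∈ K ∧ w ∈ K ∧ d * y = y * d ∧ c * w = w * c ∧ x = y * w := by
  set H := Subgroup.closure ({x * c * x⁻¹, d} : Set G) with hH
  set L := K ⊔ (P : Subgroup G)
  have hxL : x ∈ L := mem_sup_left hx
  have hHL : H ≤ L := by
    rw [hH, Subgroup.closure_le, Set.insert_subset_iff, Set.singleton_subset_iff]
    exact ⟨mul_mem (mul_mem hxL (mem_sup_right hc)) (inv_mem hxL), mem_sup_right hd⟩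
  obtain ⟨Q, hQ⟩ := (h.comap_of_injective L.subtype L.subtype_injective).exists_le_sylow
  let P' : Sylow p L := P.subtype le_sup_right
  obtain ⟨g, hg⟩ := MulAction.exists_smul_eq L Q P'
  obtain ⟨π, hπ, k, hk, hgk⟩ : ∃ π ∈ (P : Subgroup G), ∃ k ∈ K, (g : G) = π * k := by
    have this : (g : G) ∈ ((P : Subgroup G) ⊔ K : Subgroup G) := by rw [sup_comm]; exact g.2
    rw [← SetLike.mem_coe, Subgroup.coe_mul_of_left_le_normalizer_right _ _ hPK] at this
    obtain ⟨π, hπ, k, hk, e⟩ := this
    exact ⟨π, hπ, k, hk, e.symm⟩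
  have hmem : ∀ a ∈ H, k * a * k⁻¹ ∈ P := by
    intro a ha
    have h1 : (⟨a, hHL ha⟩ : L) ∈ Q := hQ ha
    have h2 : (g • Q : Sylow p L) = P' := hg
    have h3 : MulAut.conj g (⟨a, hHL ha⟩ : L) ∈ P' := by
      rw [← h2]; exact Subgroup.smul_mem_pointwise_smul _ (MulAut.conj g) _ h1
    have h4 : (g : G) * a * (g : G)⁻¹ ∈ P := h3
    rw [hgk] at h4
    have h5 := (P : Subgroup G).mul_mem ((P : Subgroup G).mul_mem (inv_mem hπ) h4) hπ
    rwa [show π⁻¹ * (π * k * a * (π * k)⁻¹) * π = k * a * k⁻¹ by group] at h5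
  have key : ∀ a ∈ P, ∀ u ∈ N, u * a * u⁻¹ ∈ P → a * u = u * a := by
    intro a ha u hu hua
    have h1 : u * a * u⁻¹ * a⁻¹ ∈ N ⊓ (P : Subgroup G) := by
      refine ⟨?_, (P : Subgroup G).mul_mem hua ((P : Subgroup G).inv_mem ha)⟩
      rw [show u * a * u⁻¹ * a⁻¹ = u * (a * u⁻¹ * a⁻¹) by group]
      exact mul_mem hu (Subgroup.Normal.conj_mem inferInstance _ (inv_mem hu) a)
    obtain ⟨j, hj⟩ := P.2.exists_card_eq
    rw [Subgroup.inf_eq_bot_of_coprime (by rw [hj]; exact hN.pow_right j), Subgroup.mem_bot,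
      mul_inv_eq_one, mul_inv_eq_iff_eq_mul] at h1
    exact h1.symm
  have h1 := hmem d (Subgroup.subset_closure (Or.inr rfl))
  have h2 := hmem (x * c * x⁻¹) (Subgroup.subset_closure (Or.inl rfl))
  refine ⟨k⁻¹, k * x, inv_mem hk, mul_mem hk hx, ?_, ?_, by group⟩
  · exact (Commute.inv_right (key d hd k (hKN hk) h1 : Commute d k)).eq
  · refine key c hc (k * x) (hKN (mul_mem hk hx)) ?_
    rwa [show k * x * c * (k * x)⁻¹ = k * (x * c * x⁻¹) * k⁻¹ by group]

/-- Let p ≥ 3 be prime and G a finite group with a Sylow p-subgroup P and a normal p-complement N (N normal, of order prime to p, with NP = G). Suppose P is generated by a subset C and also by a subset D, and that ⟨x c x⁻¹, d⟩ is a p-group for all x ∈ N, c ∈ C, d ∈ D. Then P centralizes N, so that G = N × P. -/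
theorem result {G : Type*} [Group G] [Finite G] (p : ℕ) [Fact p.Prime] (hp3 : 3 ≤ p) (P : Sylow p G)
    (N : Subgroup G) [N.Normal] (hN : (Nat.card N).Coprime p) (hNP : N ⊔ (P : Subgroup G) = ⊤)
    (C D : Set G) (hC : Subgroup.closure C = (P : Subgroup G)) (hD : Subgroup.closure D = (P : Subgroup G))
    (h : ∀ x ∈ N, ∀ c ∈ C, ∀ d ∈ D, IsPGroup p ↥(Subgroup.closure ({x * c * x⁻¹, d} : Set G))) :
    ⁅(P : Subgroup G), N⁆ = ⊥ := by
  classical
  have hp : p.Prime := Fact.out
  rw [Subgroup.commutator_eq_bot_iff_le_centralizer]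
  have hPN : (P : Subgroup G) ≤ normalizer (N : Set G) := by
    rw [Subgroup.normalizer_eq_top]; exact le_top
  obtain ⟨j, hj⟩ := P.2.exists_card_eq
  have hcopPN : (Nat.card (P : Subgroup G)).Coprime (Nat.card N) := by
    rw [hj]; exact Nat.Coprime.pow_left j hN.symm
  have hCP : ∀ c ∈ C, c ∈ P := fun c hc => by
    change c ∈ (P : Subgroup G); rw [← hC]; exact Subgroup.subset_closure hc
  have hDP : ∀ d ∈ D, d ∈ P := fun d hd => by
    change d ∈ (P : Subgroup G); rw [← hD]; exact Subgroup.subset_closure hd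
  suffices hsuff : N ≤ centralizer ((P : Subgroup G) : Set G) by
    exact Subgroup.le_centralizer_iff.1 hsuff
  have hsylow : ∀ (r : ℕ) [Fact r.Prime] (R : Sylow r N),
      (P : Subgroup G) ≤ normalizer (((R : Subgroup N).map N.subtype : Subgroup G) : Set G) →
      (R : Subgroup N).map N.subtype ≤ centralizer ((P : Subgroup G) : Set G) := by
    intro r hr R hR
    set K := (R : Subgroup N).map N.subtype with hK
    have hKN : K ≤ N := Subgroup.map_subtype_le _
    have hKr : IsPGroup r K := R.2.map _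
    have hKcop : (Nat.card K).Coprime p := hN.coprime_dvd_left (Subgroup.card_dvd_of_le hKN)
    haveI : IsMulCommutative (K ⧸ frattini K) := ⟨⟨fun a b => by
      induction a using QuotientGroup.induction_on with | H a => ?_
      induction b using QuotientGroup.induction_on with | H b => ?_
      rw [← mul_inv_eq_one, ← QuotientGroup.mk_mul, ← QuotientGroup.mk_mul, ← QuotientGroup.mk_inv,
        ← QuotientGroup.mk_mul, QuotientGroup.eq_one_iff]
      refine Cfsg.Agent.Lib.PFrattini.commutator_le_frattini hKr ?_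
      rw [show a * b * (b * a)⁻¹ = ⁅a, b⁆ by rw [commutatorElement_def]; group]
      exact Subgroup.commutator_mem_commutator (Subgroup.mem_top a) (Subgroup.mem_top b)⟩⟩
    let iV : CommGroup (K ⧸ frattini K) :=
      { (inferInstance : Group (K ⧸ frattini K)) with mul_comm := mul_comm' }
    let ρ := fratAct (P : Subgroup G) K hR
    have hVcop : p.Coprime (Nat.card (K ⧸ frattini K)) :=
      (hKcop.coprime_dvd_left (Subgroup.card_quotient_dvd_card _)).symm
    have hrange : ∀ (X : Set G), Subgroup.closure X = (P : Subgroup G) →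
        Subgroup.closure (ρ '' {s | (s : G) ∈ X}) = ρ.range := by
      intro X hX
      rw [← MonoidHom.map_closure, MonoidHom.range_eq_map]
      congr 1
      apply Subgroup.map_injective (P : Subgroup G).subtype_injective
      rw [MonoidHom.map_closure, ← MonoidHom.range_eq_map, Subgroup.range_subtype, ← hX]
      congr 1
      ext x
      constructor
      · rintro ⟨y, hy, rfl⟩; exact hy
      · intro hx; exact ⟨⟨x, hX ▸ Subgroup.subset_closure hx⟩, hx, rfl⟩
    have hS := trivial_action (V := K ⧸ frattini K) hp3 hVcop ρ.range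
      ((P.2).of_surjective ρ.rangeRestrict ρ.rangeRestrict_surjective) _ _ (hrange C hC) (hrange D hD) ?_
    · refine Subgroup.le_centralizer_iff.1
        (Cfsg.Agent.Lib.Coprime.le_centralizer_of_frattini hR
          (hj ▸ Nat.Coprime.pow_left j
            ((hKcop.coprime_dvd_left (Subgroup.card_subgroup_dvd_card _)).symm)) ?_)
      intro a ha k hk
      have h1 : ρ ⟨a, ha⟩ = 1 := Subgroup.mem_bot.1 (hS ▸ (⟨⟨a, ha⟩, rfl⟩ : ρ ⟨a, ha⟩ ∈ ρ.range))
      have h2 : (QuotientGroup.mk (K.normalizerMonoidHom ⟨a, hR ha⟩ ⟨k, hk⟩) : K ⧸ frattini K) =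
          QuotientGroup.mk ⟨k, hk⟩ :=
        congrArg (fun f : MulAut (K ⧸ frattini K) => f (QuotientGroup.mk ⟨k, hk⟩)) h1
      rw [← div_eq_one, ← QuotientGroup.mk_div, QuotientGroup.eq_one_iff] at h2
      refine ⟨_, h2, ?_⟩
      change a * k * a⁻¹ / k = a * k * a⁻¹ * k⁻¹
      rw [div_eq_mul_inv]
    · rintro _ ⟨⟨c, hcP⟩, hc, rfl⟩ _ ⟨⟨d, hdP⟩, hd, rfl⟩ v
      induction v using QuotientGroup.induction_on with | H x => ?_
      obtain ⟨y, w, hy, hw, hdy, hcw, hxyw⟩ :=
        factorise p P N K hN hKN hR hcP hdP x.2 (h x (hKN x.2) c hc d hd)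
      refine ⟨QuotientGroup.mk ⟨y, hy⟩, QuotientGroup.mk ⟨w, hw⟩, ?_, ?_, ?_⟩
      · show QuotientGroup.mk (K.normalizerMonoidHom ⟨d, hR hdP⟩ ⟨y, hy⟩) = _
        refine congrArg QuotientGroup.mk (Subtype.ext ?_)
        change d * y * d⁻¹ = y
        rw [mul_inv_eq_iff_eq_mul, hdy]
      · show QuotientGroup.mk (K.normalizerMonoidHom ⟨c, hR hcP⟩ ⟨w, hw⟩) = _
        refine congrArg QuotientGroup.mk (Subtype.ext ?_)
        change c * w * c⁻¹ = w
        rw [mul_inv_eq_iff_eq_mul, hcw]
      · exact congrArg QuotientGroup.mk (Subtype.ext hxyw)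
  set M := (centralizer ((P : Subgroup G) : Set G)).subgroupOf N with hM
  suffices hMtop : M = ⊤ from Subgroup.subgroupOf_eq_top.1 hMtop
  refine Subgroup.eq_top_of_card_eq M (Nat.dvd_antisymm (Subgroup.card_subgroup_dvd_card M) ?_)
  refine (Nat.factorization_le_iff_dvd Nat.card_pos.ne' Nat.card_pos.ne').1 fun r => ?_
  by_cases hr : r.Prime
  · haveI : Fact r.Prime := ⟨hr⟩
    haveI : Group.IsNilpotent (P : Subgroup G) := P.2.isNilpotent
    obtain ⟨R, hR⟩ := Cfsg.Agent.Lib.Coprime.exists_invariant_sylow (p := r) hPN hcopPN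
      (Or.inl inferInstance)
    have hRM : (R : Subgroup N) ≤ M := fun x hx =>
      hsylow r R hR (Subgroup.mem_map_of_mem _ hx)
    have := Subgroup.card_dvd_of_le hRM
    rw [Sylow.card_eq_multiplicity] at this
    exact (hr.pow_dvd_iff_le_factorization Nat.card_pos.ne').1 this
  · simp [Nat.factorization_eq_zero_of_not_prime _ hr]

end Cfsg.Agent.S2277
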