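import Cfsg.Statements.S2280
import Cfsg.Agent.Lib.KnownSimple.RootGeneration
import Cfsg.Agent.Lib.LinGroup.Generation
import Mathlib

set_option autoImplicit false
open Cfsg

namespace Cfsg.Agent.S2280

open Matrix Cfsg.Agent.Lib.KnownSimple

variable {F : Type*} [Field F] {n : ℕ}

/-- The monomial conjugator. -/
def shiftElt (n : ℕ) (d : ℕ → F) (hd : (shiftMat n d).det = 1) : Matrix.SpecialLinearGroup (Fin n) F :=
  ⟨shiftMat n d, hd⟩

/-- The three standing generators and their first consequences. -/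
structure Setup (H : Subgroup (Matrix.SpecialLinearGroup (Fin n) F)) (a d : ℕ → F) (β : F) : Prop where
  three_le : 3 ≤ n
  det_eq : (shiftMat n d).det = 1
  a_zero : a 0 = 1
  a_ne : ∀ i, a i ≠ 0
  d_ne : ∀ i, d i ≠ 0
  beta_ne : β ≠ 0
  r_mid : ∀ k, 1 ≤ k → k + 2 < n → a k * d k = d (k + 1)
  r_last : a (n - 2) * d (n - 2) = β * d (n - 1)
  r_first : d 0 * β = d 1 ∨ d 0 * β = -d 1
  u_mem : pathElt n a ∈ H
  v_mem : shiftElt n d det_eq * pathElt n a * (shiftElt n d det_eq)⁻¹ ∈ H

namespace Setup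

variable {H : Subgroup (Matrix.SpecialLinearGroup (Fin n) F)} {a d : ℕ → F} {β : F}

/-- The monomial conjugate of the path element. -/
noncomputable def vMat (n : ℕ) (a d : ℕ → F) (hd : (shiftMat n d).det = 1) : Matrix (Fin n) (Fin n) F :=
  ((shiftElt n d hd * pathElt n a * (shiftElt n d hd)⁻¹ : Matrix.SpecialLinearGroup (Fin n) F) : Matrix (Fin n) (Fin n) F)

theorem vMat_mul (hd : (shiftMat n d).det = 1) :
    vMat n a d hd * shiftMat n d = shiftMat n d * pathMat n a := by
  change _ * ((shiftElt n d hd : Matrix.SpecialLinearGroup (Fin n) F) : Matrix (Fin n) (Fin n) F) = _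
  rw [vMat, ← Matrix.SpecialLinearGroup.coe_mul, inv_mul_cancel_right, Matrix.SpecialLinearGroup.coe_mul]
  rfl

theorem v_succ (S : Setup H a d β) {k : ℕ} (hk1 : 1 ≤ k) (hk : k + 1 < n) :
    vMat n a d S.det_eq *ᵥ eN n (k + 1) = eN n (k + 1) + (a (k - 1) * d (k - 1) / d k) • eN n k := by
  obtain ⟨j, rfl⟩ : ∃ j, k = j + 1 := ⟨k - 1, by omega⟩
  rw [Nat.add_sub_cancel]
  have h := congrArg (· *ᵥ eN n (j + 1)) (vMat_mul (n := n) (a := a) S.det_eq)
  simp only [← Matrix.mulVec_mulVec, shiftMat_mulVec d hk, pathMat_mulVec_succ a (show j + 1 < n by omega),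
    Matrix.mulVec_add, Matrix.mulVec_smul, shiftMat_mulVec d (show j + 1 < n by omega)] at h
  have h2 := congrArg ((d (j + 1))⁻¹ • ·) h
  simp only [smul_smul, smul_add, inv_mul_cancel₀ (S.d_ne (j + 1)), one_smul] at h2
  rw [h2]
  congr 2
  rw [div_eq_inv_mul]

theorem v_zero (S : Setup H a d β) :
    vMat n a d S.det_eq *ᵥ eN n 0 = eN n 0 + β • eN n (n - 1) := by
  have h3 := S.three_le
  obtain ⟨m, rfl⟩ : ∃ m, n = m + 2 := ⟨n - 2, by omega⟩
  have h := congrArg (· *ᵥ eN (m + 2) (m + 1)) (vMat_mul (n := m + 2) (a := a) S.det_eq)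
  have e1 := shiftMat_mulVec_last (n := m + 2) d (by omega)
  simp only [show m + 2 - 1 = m + 1 from rfl] at e1
  simp only [← Matrix.mulVec_mulVec, e1, pathMat_mulVec_succ a (show m + 1 < m + 2 by omega),
    Matrix.mulVec_add, Matrix.mulVec_smul, shiftMat_mulVec d (show m + 1 < m + 2 by omega)] at h
  have hl := S.r_last
  simp only [show m + 2 - 1 = m + 1 from rfl, Nat.add_sub_cancel] at hl
  have h2 := congrArg ((d (m + 1))⁻¹ • ·) h
  simp only [smul_smul, smul_add, inv_mul_cancel₀ (S.d_ne (m + 1)), one_smul] at h2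
  rw [h2, show m + 2 - 1 = m + 1 from rfl]
  congr 2
  rw [hl]; field_simp [S.d_ne (m + 1)]

theorem shift_cancel (S : Setup H a d β) {x y : Fin n → F} (h : x ᵥ* shiftMat n d = y ᵥ* shiftMat n d) :
    x = y :=
  Matrix.vecMul_injective_of_isUnit ((Matrix.isUnit_iff_isUnit_det _).2 (S.det_eq ▸ isUnit_one)) h

theorem zero_v (S : Setup H a d β) : eN n 0 ᵥ* vMat n a d S.det_eq = eN n 0 := by
  have h3 := S.three_le
  refine S.shift_cancel ?_
  rw [Matrix.vecMul_vecMul, vMat_mul, ← Matrix.vecMul_vecMul, vecMul_shiftMat_zero d (by omega),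
    Matrix.smul_vecMul, vecMul_pathMat a (show n - 1 < n by omega)]
  have : (eN n (n - 1 + 1) : Fin n → F) = 0 := by
    funext x
    simp only [eN, Pi.zero_apply]
    rw [if_neg (by omega)]
  rw [this, smul_zero, add_zero]

theorem last_v (S : Setup H a d β) :
    eN n (n - 1) ᵥ* vMat n a d S.det_eq = eN n (n - 1) + β • eN n 0 := by
  have h3 := S.three_le
  obtain ⟨m, rfl⟩ : ∃ m, n = m + 2 := ⟨n - 2, by omega⟩
  have hl := S.r_last
  simp only [show m + 2 - 1 = m + 1 from rfl, Nat.add_sub_cancel] at hl ⊢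
  refine S.shift_cancel ?_
  rw [Matrix.vecMul_vecMul, vMat_mul, ← Matrix.vecMul_vecMul, vecMul_shiftMat_succ d (by omega),
    Matrix.smul_vecMul, vecMul_pathMat a (show m < m + 2 by omega), Matrix.add_vecMul, Matrix.smul_vecMul,
    vecMul_shiftMat_succ d (by omega), vecMul_shiftMat_zero d (by omega), smul_add, smul_smul, smul_smul]
  rw [mul_comm (d m), hl]
  rfl

/-- From a corner root element with parameter `ξ` one obtains its conjugate under `v`. -/
theorem corner_conj (S : Setup H a d β) {ξ : F} (hX : HasRoot H 0 (n - 1) ξ) :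
    InH H (Tm (ξ • (eN n 0 + β • eN n (n - 1))) (eN n (n - 1) - β • eN n 0)) := by
  have h := InH.conj S.v_mem (a := ξ • eN n 0) (φ := eN n (n - 1) - β • eN n 0) (by
    change InH H (Tm (ξ • eN n 0) ((eN n (n - 1) - β • eN n 0) ᵥ* vMat n a d S.det_eq))
    rw [Matrix.sub_vecMul, Matrix.smul_vecMul, S.zero_v, S.last_v, add_sub_cancel_right]
    exact hX)
  change InH H (Tm (vMat n a d S.det_eq *ᵥ (ξ • eN n 0)) _) at h
  rwa [Matrix.mulVec_smul, S.v_zero] at h

theorem lower_of_corner (S : Setup H a d β) (hX : HasRoot H 0 (n - 1) β⁻¹) : HasRoot H (n - 1) 0 β := by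
  have h3 := S.three_le
  have hl : n - 1 < n := by omega
  have h0 : 0 < n := by omega
  have h := S.corner_conj hX
  rw [smul_add, smul_smul, inv_mul_cancel₀ S.beta_ne, one_smul] at h
  obtain ⟨g, hg, hge⟩ := hX
  have h' := InH.conj' hg (a := eN n (n - 1)) (φ := eN n (n - 1) - β • eN n 0) (by
    rw [hge, Tm_mulVec, eN_dot_self hl, one_smul, add_comm]
    exact h)
  rw [hge, vecMul_Tm, sub_dotProduct, smul_dotProduct, dotProduct_smul, dotProduct_smul, eN_dot_self h0,
    eN_dot_ne hl (by omega), smul_zero, zero_sub, smul_eq_mul, smul_eq_mul, mul_one,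
    mul_inv_cancel₀ S.beta_ne, neg_one_smul, sub_add_eq_add_sub, add_neg_cancel, zero_sub, ← neg_smul,
    ← Tm_smul] at h'
  have := HasRoot.neg h0 (by omega : n - 1 ≠ 0) h'
  rwa [neg_neg] at this

theorem root_down (S : Setup H a d β) {k : ℕ} (hk1 : 1 ≤ k) (hk : k + 1 < n) {c : F}
    (h : HasRoot H (k + 1) 0 c) : HasRoot H k 0 (c * (a (k - 1) * d (k - 1) / d k)) := by
  have h0 : 0 < n := by omega
  have h1 := InH.conj S.v_mem (a := c • eN n (k + 1)) (φ := eN n 0) (by
    change InH H (Tm (c • eN n (k + 1)) (eN n 0 ᵥ* vMat n a d S.det_eq))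
    rw [S.zero_v]; exact h)
  change InH H (Tm (vMat n a d S.det_eq *ᵥ (c • eN n (k + 1))) _) at h1
  rw [Matrix.mulVec_smul, S.v_succ hk1 hk] at h1
  have h2 := (HasRoot.neg h0 (by omega) h).mul h1
  rw [Tm_mul_left _ _ _ (by
    rw [dotProduct_smul, dotProduct_add, dotProduct_smul, eN_dot_ne h0 (by omega), eN_dot_ne h0 (by omega)]
    simp)] at h2
  rwa [smul_add, neg_smul, neg_add_cancel_left, smul_smul] at h2

theorem root_col (S : Setup H a d β) (hY : HasRoot H (n - 1) 0 β) :
    (∀ k, 2 ≤ k → k < n → HasRoot H k 0 β) ∧ HasRoot H 1 0 (1 : F) := by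
  have h3 := S.three_le
  have hk : ∀ j k, 2 ≤ k → k + j = n - 1 → HasRoot H k 0 β := by
    intro j
    induction j with
    | zero => intro k _ hk; rw [show k = n - 1 by omega]; exact hY
    | succ j ih =>
      intro k hk2 hk
      have h := S.root_down (by omega) (by omega) (ih (k + 1) (by omega) (by omega))
      have e := S.r_mid (k - 1) (by omega) (by omega)
      rw [e, show k - 1 + 1 = k by omega, div_self (S.d_ne k), mul_one] at h
      exact h
  have hall : ∀ k, 2 ≤ k → k < n → HasRoot H k 0 β := fun k h2 h => hk (n - 1 - k) k h2 (by omega)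
  refine ⟨hall, ?_⟩
  have h := S.root_down le_rfl (by omega) (hall 2 le_rfl (by omega))
  rw [Nat.sub_self, S.a_zero, one_mul, ← mul_div_assoc, mul_comm β] at h
  rcases S.r_first with e | e <;> rw [e] at h
  · rwa [div_self (S.d_ne 1)] at h
  · rw [neg_div, div_self (S.d_ne 1)] at h
    have := HasRoot.neg (by omega : 0 < n) (by omega : 1 ≠ 0) h
    rwa [neg_neg] at this

theorem root_zero_one (S : Setup H a d β) (h10 : HasRoot H 1 0 (1 : F)) : HasRoot H 0 1 (1 : F) := by
  have h3 := S.three_le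
  have h0 : 0 < n := by omega
  have h1 : 1 < n := by omega
  set U := pathMat n a
  set U' := ((((pathElt n a)⁻¹ : Matrix.SpecialLinearGroup (Fin n) F)) : Matrix (Fin n) (Fin n) F)
  have hUU : U' * U = 1 := by
    change _ * ((pathElt n a : Matrix.SpecialLinearGroup (Fin n) F) : Matrix (Fin n) (Fin n) F) = 1
    rw [← Matrix.SpecialLinearGroup.coe_mul, inv_mul_cancel, Matrix.SpecialLinearGroup.coe_one]
  set φ := eN n 0 ᵥ* U' with hφ
  have hφU : φ ᵥ* U = eN n 0 := by rw [hφ, Matrix.vecMul_vecMul, hUU, Matrix.vecMul_one]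
  have hA : InH H (Tm (eN n 1 + eN n 0) φ) := by
    have h := InH.conj S.u_mem (a := eN n 1) (φ := φ) (by
      change InH H (Tm (eN n 1) (φ ᵥ* U)); rw [hφU]
      simpa [HasRoot] using h10)
    change InH H (Tm (U *ᵥ eN n 1) φ) at h
    rwa [pathMat_mulVec_succ a h1, S.a_zero, one_smul] at h
  obtain ⟨g, hg, hge⟩ := h10
  have hB : InH H (Tm (eN n 0) (φ ᵥ* (g : Matrix (Fin n) (Fin n) F))) := InH.conj' hg (by
    rw [hge, one_smul, Tm_mulVec, eN_dot_self h0, one_smul, add_comm]; exact hA)
  set ψ := φ ᵥ* (g : Matrix (Fin n) (Fin n) F)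
  have hU0 : ((pathElt n a : Matrix.SpecialLinearGroup (Fin n) F) : Matrix (Fin n) (Fin n) F) *ᵥ eN n 0 = eN n 0 :=
    pathMat_mulVec_zero a
  have hC := InH.conj' S.u_mem (a := eN n 0) (φ := ψ) (by rw [hU0]; exact hB)
  have hψU : ψ ᵥ* U = -eN n 1 := by
    have e1 : φ ⬝ᵥ eN n 1 = -1 := by
      have e := congrArg (fun w => w ⬝ᵥ eN n 1) hφU
      simp only [← Matrix.dotProduct_mulVec, U, pathMat_mulVec_succ a h1, S.a_zero, one_smul, dotProduct_add,
        eN_dot_ne h0 (show (0 : ℕ) ≠ 1 by omega)] at e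
      have e0 : φ ⬝ᵥ eN n 0 = 1 := by
        have e' := congrArg (fun w => w ⬝ᵥ eN n 0) hφU
        simp only [← Matrix.dotProduct_mulVec, U, pathMat_mulVec_zero, eN_dot_self h0] at e'
        exact e'
      rw [e0] at e
      exact eq_neg_of_add_eq_zero_left e
    rw [show ψ = φ ᵥ* Tm ((1 : F) • eN n 1) (eN n 0) by rw [← hge], vecMul_Tm, one_smul, e1,
      neg_one_smul, ← sub_eq_add_neg, Matrix.sub_vecMul, hφU, vecMul_pathMat a h0, S.a_zero, one_smul]
    abel
  change InH H (Tm (eN n 0) (ψ ᵥ* U)) at hC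
  rw [hψU, ← neg_one_smul F (eN n 1), ← Tm_smul] at hC
  have := HasRoot.neg h1 (by omega : 0 ≠ 1) hC
  rwa [neg_neg] at this

theorem root_row_step (S : Setup H a d β) {k : ℕ} (hk1 : 1 ≤ k) (hk : k + 1 < n) {c : F}
    (h : HasRoot H 0 k c) : HasRoot H 0 (k + 1) (c * a k) := by
  have hU0 : ((pathElt n a : Matrix.SpecialLinearGroup (Fin n) F) : Matrix (Fin n) (Fin n) F) *ᵥ (c • eN n 0) = c • eN n 0 := by
    rw [Matrix.mulVec_smul]; exact congrArg (c • ·) (pathMat_mulVec_zero a)
  have h1 := InH.conj' S.u_mem (a := c • eN n 0) (φ := eN n k) (by rw [hU0]; exact h)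
  change InH H (Tm (c • eN n 0) (eN n k ᵥ* pathMat n a)) at h1
  rw [vecMul_pathMat a (show k < n by omega)] at h1
  have h2 := (HasRoot.neg (show k < n by omega) (by omega) h).mul h1
  rw [← neg_one_mul c, mul_smul, neg_one_smul, ← smul_neg, Tm_smul, Tm_smul c (eN n 0) (eN n k + a k • eN n (k + 1))] at h2
  have h0 : 0 < n := by omega
  rw [← neg_one_smul F (eN n 0), Tm_smul, Tm_mul_right _ _ _ (by
    rw [smul_dotProduct, smul_dotProduct, eN_dot_ne (show k < n by omega) (by omega)]; simp)] at h2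
  rw [HasRoot, Tm_smul]
  convert h2 using 2
  rw [neg_one_smul, smul_add, neg_add_cancel_left, smul_smul]

theorem root_row (S : Setup H a d β) (h01 : HasRoot H 0 1 (1 : F)) :
    ∀ k, 1 ≤ k → k < n → HasRoot H 0 k (∏ i ∈ Finset.Ico 1 k, a i) := by
  intro k
  induction k with
  | zero => intro h; omega
  | succ k ih =>
    intro _ hk
    rcases Nat.eq_zero_or_pos k with rfl | hk0
    · simpa using h01
    · have := S.root_row_step hk0 hk (ih hk0 (by omega))
      rwa [← Finset.prod_Ico_succ_top hk0] at this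

end Setup

theorem hasRoot_mul_full {H : Subgroup (Matrix.SpecialLinearGroup (Fin n) F)} {i j k : ℕ} (hi : i < n) (hj : j < n)
    (hk : k < n) (hij : i ≠ j) (hik : i ≠ k) (hkj : k ≠ j) {e : F} (he : e ≠ 0)
    (h : (∀ c, HasRoot H i k c) ∧ HasRoot H k j e ∨ HasRoot H i k e ∧ ∀ c, HasRoot H k j c) :
    ∀ c, HasRoot H i j c := by
  intro c
  rcases h with ⟨h1, h2⟩ | ⟨h1, h2⟩
  · have := HasRoot.comm hi hj hk hij hik hkj (h1 (c * e⁻¹)) h2
    rwa [mul_assoc, inv_mul_cancel₀ he, mul_one] at this
  · have := HasRoot.comm hi hj hk hij hik hkj h1 (h2 (e⁻¹ * c))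
    rwa [← mul_assoc, mul_inv_cancel₀ he, one_mul] at this

/-- The closing argument. -/
theorem finish {H : Subgroup (Matrix.SpecialLinearGroup (Fin n) F)} {a d : ℕ → F} {β : F}
    (S : Setup H a d β) (hY : HasRoot H (n - 1) 0 β) (α : F) (hα : Subring.closure {α} = ⊤)
    (hloop : HasRoot H 1 0 (1 : F) → HasRoot H 0 1 (1 : F) → ∃ k x y, 2 ≤ k ∧ k < n ∧ HasRoot H 1 k x ∧
      HasRoot H k 1 y ∧ x * y = α) : H = ⊤ := by
  have h3 := S.three_le
  have h0 : 0 < n := by omega
  have h1 : 1 < n := by omega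
  obtain ⟨hcol, h10⟩ := S.root_col hY
  have h01 := S.root_zero_one h10
  have hrow := S.root_row h01
  obtain ⟨k, x, y, hk2, hk, hx, hy, hxy⟩ := hloop h10 h01
  let R : Subring F :=
    { carrier := {s | ∀ c, HasRoot H 0 1 c → HasRoot H 0 1 (s * c)}
      one_mem' := fun c h => by rwa [one_mul]
      mul_mem' := fun {s t} hs ht c h => by rw [mul_assoc]; exact hs _ (ht c h)
      zero_mem' := fun c h => by rw [zero_mul]; exact HasRoot.zero
      add_mem' := fun {s t} hs ht c h => by rw [add_mul]; exact (hs c h).add h1 (by omega) (ht c h)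
      neg_mem' := fun {s} hs c h => by rw [neg_mul]; exact (hs c h).neg h1 (by omega) }
  have hαR : α ∈ R := by
    intro c hc
    have e1 := HasRoot.comm h0 hk h1 (by omega) (by omega) (by omega) hc hx
    have e2 := HasRoot.comm h0 h1 hk (by omega) (by omega) (by omega) e1 hy
    rwa [mul_assoc, hxy, mul_comm] at e2
  have hR : ∀ s, s ∈ R := fun s => by
    have : Subring.closure {α} ≤ R := Subring.closure_le.2 (Set.singleton_subset_iff.2 hαR)
    exact this (hα ▸ Subring.mem_top s)
  have f01 : ∀ c, HasRoot H 0 1 c := fun c => by simpa using hR c 1 h01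
  have hne : ∀ j, ∏ i ∈ Finset.Ico 1 j, a i ≠ 0 := fun j => Finset.prod_ne_zero_iff.2 fun i _ => S.a_ne i
  have f0 : ∀ j, 1 ≤ j → j < n → ∀ c, HasRoot H 0 j c := by
    intro j hj1 hj
    rcases eq_or_lt_of_le hj1 with rfl | hj2
    · exact f01
    refine hasRoot_mul_full h0 hj h1 (by omega) (by omega) (by omega) (hne j) (Or.inl ⟨f01, ?_⟩)
    have := HasRoot.comm h1 hj h0 (by omega) (by omega) (by omega) h10 (hrow j hj1 hj)
    rwa [one_mul] at this
  have f11 : ∀ i, 2 ≤ i → i < n → ∀ c, HasRoot H i 1 c := fun i hi2 hi =>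
    hasRoot_mul_full hi h1 h0 (by omega) (by omega) (by omega) S.beta_ne (Or.inr ⟨hcol i hi2 hi, f01⟩)
  have f20 : ∀ i, 2 ≤ i → i < n → ∀ c, HasRoot H i 0 c := fun i hi2 hi =>
    hasRoot_mul_full hi h0 h1 (by omega) (by omega) (by omega) one_ne_zero (Or.inl ⟨f11 i hi2 hi, h10⟩)
  have f12 : ∀ j, 2 ≤ j → j < n → ∀ c, HasRoot H 1 j c := fun j hj2 hj =>
    hasRoot_mul_full h1 hj h0 (by omega) (by omega) (by omega) one_ne_zero (Or.inr ⟨h10, f0 j (by omega) hj⟩)
  have f10 : ∀ c, HasRoot H 1 0 c :=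
    hasRoot_mul_full h1 h0 (show 2 < n by omega) (by omega) (by omega) (by omega) S.beta_ne
      (Or.inl ⟨f12 2 le_rfl (by omega), hcol 2 le_rfl (by omega)⟩)
  have fi0 : ∀ i, 1 ≤ i → i < n → ∀ c, HasRoot H i 0 c := by
    intro i hi1 hi
    rcases eq_or_lt_of_le hi1 with rfl | hi2
    · exact f10
    · exact f20 i hi2 hi
  refine Cfsg.Agent.Lib.LinGroup.eq_top_of_transvection_mem H fun i j hij c => ?_
  have hroot : HasRoot H (i : ℕ) (j : ℕ) c := by
    have hij' : (i : ℕ) ≠ j := fun h => hij (Fin.ext h)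
    rcases Nat.eq_zero_or_pos (i : ℕ) with hi0 | hi0
    · rw [hi0]; exact f0 j (by omega) j.2 c
    rcases Nat.eq_zero_or_pos (j : ℕ) with hj0 | hj0
    · rw [hj0]; exact fi0 i hi0 i.2 c
    have := HasRoot.comm i.2 j.2 h0 hij' (by omega) (by omega) (fi0 i hi0 i.2 c) (f0 j hj0 j.2 1)
    rwa [mul_one] at this
  obtain ⟨g, hg, hge⟩ := hroot
  suffices g = Matrix.SpecialLinearGroup.transvection hij c from this ▸ hg
  apply Subtype.ext
  rw [hge]
  change Tm (c • eN n (i : ℕ)) (eN n (j : ℕ)) = Matrix.transvection i j c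
  rw [eN_eq_single i.2, eN_eq_single j.2, Tm, Matrix.transvection]
  congr 1
  ext p q
  rw [Matrix.vecMulVec_apply, Matrix.single_apply, Pi.smul_apply, Pi.single_apply, Pi.single_apply, smul_eq_mul]
  by_cases e1 : p = i
  · subst e1
    by_cases e2 : q = j
    · subst e2; simp
    · simp [e2, Ne.symm e2]
  · simp [e1, Ne.symm e1]

theorem corner_of_conj {H : Subgroup (Matrix.SpecialLinearGroup (Fin n) F)} (hn : 3 ≤ n) (a : ℕ → F)
    (ha : a (n - 2) ≠ 0) (hu : pathElt n a ∈ H) (ξ : F) (z : Matrix.SpecialLinearGroup (Fin n) F)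
    (hz : (z : Matrix (Fin n) (Fin n) F) = Tm ((ξ / a (n - 2)) • eN n 0) (eN n (n - 2)))
    (hzu : z * pathElt n a * z⁻¹ ∈ H) : HasRoot H 0 (n - 1) ξ := by
  have h0 : 0 < n := by omega
  refine ⟨(pathElt n a)⁻¹ * (z * pathElt n a * z⁻¹), H.mul_mem (H.inv_mem hu) hzu, ?_⟩
  set u := pathElt n a with hu'
  set z' := Tm (ξ • (eN n 0 : Fin n → F)) (eN n (n - 1) : Fin n → F) with hz'
  have key : (z : Matrix (Fin n) (Fin n) F) * (u : Matrix (Fin n) (Fin n) F) =
      (u : Matrix (Fin n) (Fin n) F) * (z' * (z : Matrix (Fin n) (Fin n) F)) := by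
    change (z : Matrix (Fin n) (Fin n) F) * pathMat n a = pathMat n a * (z' * _)
    rw [hz, hz', Tm_smul, Tm_smul, Tm_mul_right _ _ _ (by
      rw [smul_dotProduct, eN_dot_ne (by omega) (by omega), smul_zero])]
    simp only [Tm, add_mul, one_mul, mul_add, mul_one, Matrix.vecMulVec_mul, Matrix.mul_vecMulVec]
    rw [pathMat_mulVec_zero, Matrix.smul_vecMul, vecMul_pathMat a (by omega), show n - 2 + 1 = n - 1 by omega,
      smul_add, smul_smul, div_mul_cancel₀ _ ha]
    congr 2
    abel
  calc ((u⁻¹ * (z * u * z⁻¹) : Matrix.SpecialLinearGroup (Fin n) F) : Matrix (Fin n) (Fin n) F)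
      = ((u⁻¹ : Matrix.SpecialLinearGroup (Fin n) F) : Matrix (Fin n) (Fin n) F) *
          (((z : Matrix (Fin n) (Fin n) F) * (u : Matrix (Fin n) (Fin n) F)) *
            ((z⁻¹ : Matrix.SpecialLinearGroup (Fin n) F) : Matrix (Fin n) (Fin n) F)) := by
        simp only [Matrix.SpecialLinearGroup.coe_mul]
    _ = z' := by
        rw [key]
        have i1 : ((u⁻¹ : Matrix.SpecialLinearGroup (Fin n) F) : Matrix (Fin n) (Fin n) F) *
            (u : Matrix (Fin n) (Fin n) F) = 1 := by
          rw [← Matrix.SpecialLinearGroup.coe_mul, inv_mul_cancel, Matrix.SpecialLinearGroup.coe_one]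
        have i2 : (z : Matrix (Fin n) (Fin n) F) *
            ((z⁻¹ : Matrix.SpecialLinearGroup (Fin n) F) : Matrix (Fin n) (Fin n) F) = 1 := by
          rw [← Matrix.SpecialLinearGroup.coe_mul, mul_inv_cancel, Matrix.SpecialLinearGroup.coe_one]
        rw [mul_assoc (u : Matrix (Fin n) (Fin n) F), ← mul_assoc, i1, one_mul, mul_assoc, i2, mul_one]

/-- The statement for given path data, once the group is shown to be everything. -/
theorem assemble (hn : 3 ≤ n) (a d : ℕ → F) (ha : ∀ i, a i ≠ 0) (hdet : (shiftMat n d).det = 1) (ξ : F)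
    (h : ∀ H : Subgroup (Matrix.SpecialLinearGroup (Fin n) F), pathElt n a ∈ H →
      shiftElt n d hdet * pathElt n a * (shiftElt n d hdet)⁻¹ ∈ H → HasRoot H 0 (n - 1) ξ → H = ⊤) :
    ∃ u g h : Matrix.SpecialLinearGroup (Fin n) F,
      (IsNilpotent ((u : Matrix (Fin n) (Fin n) F) - 1) ∧ ((u : Matrix (Fin n) (Fin n) F) - 1) ^ (n - 1) ≠ 0) ∧
      Subgroup.closure ({u, g * u * g⁻¹, h * u * h⁻¹} : Set (Matrix.SpecialLinearGroup (Fin n) F)) = ⊤ := by
  have hzdet : (Tm ((ξ / a (n - 2)) • eN n 0) (eN n (n - 2) : Fin n → F)).det = 1 := by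
    rw [Tm, Matrix.vecMulVec_eq Unit, Matrix.det_one_add_replicateCol_mul_replicateRow, dotProduct_smul,
      eN_dot_ne (by omega) (by omega), smul_zero, add_zero]
  let z : Matrix.SpecialLinearGroup (Fin n) F := ⟨_, hzdet⟩
  refine ⟨pathElt n a, z, shiftElt n d hdet, pathMat_regular (by omega) a (fun i _ => ha i), ?_⟩
  refine h _ (Subgroup.subset_closure (by simp)) (Subgroup.subset_closure (by simp)) ?_
  exact corner_of_conj hn a (ha _) (Subgroup.subset_closure (by simp)) ξ z rfl
    (Subgroup.subset_closure (by simp))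

theorem closure_generator [Fintype F] (g : Fˣ) (hg : ∀ x, x ∈ Subgroup.zpowers g) :
    Subring.closure {(g : F)} = ⊤ := by
  classical
  rw [Subring.eq_top_iff']
  intro x
  by_cases hx : x = 0
  · rw [hx]; exact Subring.zero_mem _
  obtain ⟨k, hk⟩ : ∃ k : ℕ, g ^ k = Units.mk0 x hx := by
    have h1 : Units.mk0 x hx ∈ Submonoid.powers g :=
      mem_powers_iff_mem_zpowers.2 (hg _)
    exact Submonoid.mem_powers_iff _ _ |>.1 h1
  have e : x = (g : F) ^ k := by
    rw [← Units.val_pow_eq_pow_val, hk, Units.val_mk0]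
  rw [e]
  apply Subring.pow_mem
  apply Subring.subset_closure
  exact Set.mem_singleton _

theorem closure_generator_cube [Fintype F] (hq : Fintype.card F ≠ 4) (g : Fˣ)
    (hg : ∀ x, x ∈ Subgroup.zpowers g) : Subring.closure {(g : F) ^ 3} = ⊤ := by
  classical
  set K := Subring.closure {(g : F) ^ 3} with hK
  letI : Field K := (Finite.isField_of_domain K).toField
  letI : Algebra K F := K.subtype.toAlgebra
  haveI : Module.Finite K F := Module.Finite.of_finite
  haveI := Fintype.ofFinite K
  have hcard := Module.card_eq_pow_finrank (K := K) (V := F)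
  by_contra hne
  have hd : 2 ≤ Module.finrank K F := by
    by_contra hlt
    push Not at hlt
    interval_cases hm : Module.finrank K F
    · have := Fintype.one_lt_card (α := F); simp at hcard; omega
    · apply hne
      refine Subring.toSubmonoid_injective (SetLike.coe_injective ?_)
      refine Set.eq_univ_of_forall fun x => ?_
      have hb : Function.Bijective (K.subtype) :=
        (Fintype.bijective_iff_injective_and_card _).2 ⟨Subtype.val_injective, by rw [hcard, pow_one]⟩
      obtain ⟨y, hy⟩ := hb.2 x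
      exact hy ▸ y.2
  have hord : orderOf g = Fintype.card F - 1 := by
    rw [orderOf_eq_card_of_forall_mem_zpowers hg, Nat.card_eq_fintype_card, Fintype.card_units]
  let y : K := ⟨(g : F) ^ 3, Subring.subset_closure rfl⟩
  have hy : y ≠ 0 := fun h => pow_ne_zero 3 g.ne_zero (congrArg Subtype.val h)
  have hy1 := congrArg Subtype.val (FiniteField.pow_card_sub_one_eq_one y hy)
  have hdvd : Fintype.card F - 1 ∣ 3 * (Fintype.card K - 1) := by
    rw [← hord]
    refine orderOf_dvd_of_pow_eq_one (Units.ext ?_)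
    rw [Units.val_pow_eq_pow_val, pow_mul, Units.val_one]
    simpa [y] using hy1
  have h1 := Fintype.one_lt_card (α := K)
  have h2 : Fintype.card K ^ 2 ≤ Fintype.card F := by
    rw [hcard]; exact Nat.pow_le_pow_right (by omega) hd
  have h4 := Nat.le_of_dvd (by omega) hdvd
  have hK2 : Fintype.card K ≤ 2 := by
    rw [pow_two] at h2
    by_contra h
    push Not at h
    have := Nat.mul_le_mul_right (Fintype.card K) h
    omega
  have hKc : Fintype.card K = 2 := by omega
  rw [hKc] at h4 hcard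
  have hd2 : Module.finrank K F = 2 := by
    have : 2 ^ Module.finrank K F < 2 ^ 3 := by
      have := Fintype.one_lt_card (α := F); omega
    have := (Nat.pow_lt_pow_iff_right (by norm_num)).1 this
    omega
  rw [hd2] at hcard
  exact hq hcard

theorem shiftMat_det_range (m : ℕ) (f : ℕ → F) (hf : ∏ i ∈ Finset.range (m + 1), f i = (-1) ^ m) :
    (shiftMat (m + 1) f).det = 1 := by
  rw [shiftMat_det, hf, ← mul_pow, neg_one_mul, neg_neg, one_pow]

theorem case_four {ω : F} [CharP F 2] (hω : ω * ω = ω + 1) {H : Subgroup (Matrix.SpecialLinearGroup (Fin 3) F)}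
    (hX : InH H (Tm (ω • eN 3 0) (eN 3 2)))
    (hT : InH H (Tm (ω • (eN 3 0 + (1 : F) • eN 3 2)) (eN 3 2 - (1 : F) • eN 3 0))) :
    HasRoot H 2 0 (1 : F) := by
  have h := ((((hX.mul hT).mul hX).mul hT)).mul hX
  have e : Tm (ω • (eN 3 0 : Fin 3 → F)) (eN 3 2 : Fin 3 → F) * Tm (ω • (eN 3 0 + (1 : F) • eN 3 2)) (eN 3 2 - (1 : F) • eN 3 0) *
      Tm (ω • eN 3 0) (eN 3 2) * Tm (ω • (eN 3 0 + (1 : F) • eN 3 2)) (eN 3 2 - (1 : F) • eN 3 0) *
      Tm (ω • eN 3 0) (eN 3 2) = Tm ((1 : F) • eN 3 2) (eN 3 0) := by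
    have hP : Tm (ω • (eN 3 0 : Fin 3 → F)) (eN 3 2 : Fin 3 → F) * Tm (ω • (eN 3 0 + (1 : F) • eN 3 2)) (eN 3 2 - (1 : F) • eN 3 0) =
        !![0, 0, ω + 1; 0, 1, 0; ω, 0, ω + 1] := by
      ext i j
      fin_cases i <;> fin_cases j <;>
        simp [Tm, eN, Matrix.mul_apply, Fin.sum_univ_three, Matrix.vecMulVec_apply, CharTwo.sub_eq_add,
          CharTwo.neg_eq, mul_add, add_mul, hω] <;> grind
    rw [mul_assoc (Tm (ω • eN 3 0) (eN 3 2) * Tm _ _) (Tm (ω • eN 3 0) (eN 3 2)), hP]
    ext i j
    fin_cases i <;> fin_cases j <;>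
      simp [Tm, eN, Matrix.mul_apply, Fin.sum_univ_three, Matrix.vecMulVec_apply] <;> grind
  rw [e] at h
  exact h

/-- Let F be a finite field and n ≥ 3. Then SL_n(F) is generated by three conjugate regular unipotent elements: there are u with u − 1 nilpotent and (u − 1)^(n−1) ≠ 0, and g, h, such that u, g u g⁻¹ and h u h⁻¹ generate SL_n(F). -/
theorem result {F : Type*} [Field F] [Fintype F] (n : ℕ) (hn : 3 ≤ n) :
    ∃ u g h : Matrix.SpecialLinearGroup (Fin n) F, (IsNilpotent ((u : Matrix (Fin n) (Fin n) F) - 1) ∧ ((u : Matrix (Fin n) (Fin n) F) - 1) ^ (n - 1) ≠ 0) ∧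
      Subgroup.closure ({u, g * u * g⁻¹, h * u * h⁻¹} : Set (Matrix.SpecialLinearGroup (Fin n) F)) = ⊤ := by
  classical
  obtain ⟨g, hg⟩ := IsCyclic.exists_generator (α := Fˣ)
  by_cases h4n : 4 ≤ n
  · obtain ⟨m, rfl⟩ : ∃ m, n = m + 4 := ⟨n - 4, by omega⟩
    set α := (g : F)
    have hα : α ≠ 0 := g.ne_zero
    let a : ℕ → F := fun i => if i = 2 then (α ^ 2)⁻¹ else 1
    let d : ℕ → F := fun i => if i = 0 then (-1) ^ (m + 3) * α⁻¹ else if i = 1 then α ^ 2 else
      if i = 2 then α ^ 2 else if i = m + 3 then (α ^ 3)⁻¹ else 1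
    have ha : ∀ i, a i ≠ 0 := fun i => by simp only [a]; split_ifs <;> simp [hα]
    have hd : ∀ i, d i ≠ 0 := fun i => by simp only [d]; split_ifs <;> simp [hα]
    have hdet : (Cfsg.Agent.Lib.KnownSimple.shiftMat (m + 4) d).det = 1 := by
      refine shiftMat_det_range (m + 3) d ?_
      rw [Finset.prod_range_succ, show m + 3 = 3 + m by ring, Finset.prod_range_add,
        Finset.prod_range_succ, Finset.prod_range_succ, Finset.prod_range_succ, Finset.prod_range_zero,
        Finset.prod_eq_one (s := Finset.range m) (f := fun x => d (3 + x)) (fun x hx => by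
          have := Finset.mem_range.1 hx
          simp only [d]
          rw [if_neg (by omega), if_neg (by omega), if_neg (by omega), if_neg (by omega)])]
      simp only [d, show 3 + m = m + 3 by ring, if_true, show (1 : ℕ) ≠ 0 from one_ne_zero,
        show (2 : ℕ) ≠ 0 from two_ne_zero, show (2 : ℕ) ≠ 1 by decide, if_false,
        show m + 3 ≠ 0 by omega, show m + 3 ≠ 1 by omega, show m + 3 ≠ 2 by omega]
      field_simp
    refine assemble (by omega) a d ha hdet (α ^ 3)⁻¹ fun H hu hv hX => ?_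
    have S : Setup H a d (α ^ 3) :=
      { three_le := by omega
        det_eq := hdet
        a_zero := by simp [a]
        a_ne := ha
        d_ne := hd
        beta_ne := pow_ne_zero 3 hα
        r_mid := fun k hk1 hk => by
          simp only [a, d]
          rcases eq_or_lt_of_le hk1 with rfl | hk2
          · simp
          rcases eq_or_lt_of_le (show 2 ≤ k from hk2) with rfl | hk3
          · simp [hα, show m + 3 ≠ 2 by omega, show (3 : ℕ) ≠ m + 3 by omega, show m ≠ 0 by omega]
          · simp [show k ≠ 0 by omega, show k ≠ 1 by omega, show k ≠ 2 by omega,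
              show k ≠ m + 3 by omega, show k + 1 ≠ 2 by omega, show k + 1 ≠ m + 3 by omega, show k ≠ m + 2 by omega]
        r_last := by
          simp only [a, d, show m + 4 - 2 = m + 2 from rfl, show m + 4 - 1 = m + 3 from rfl]
          rcases Nat.eq_zero_or_pos m with rfl | hm
          · simp
          · simp [show m + 2 ≠ 2 by omega, show m + 2 ≠ 0 by omega, show m + 2 ≠ 1 by omega, show m ≠ 0 by omega, hα]
        r_first := by
          simp only [d, if_true, one_ne_zero, if_false]
          rcases neg_one_pow_eq_or F (m + 3) with e | e <;> rw [e]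
          · left; field_simp
          · right; field_simp
        u_mem := hu
        v_mem := hv }
    have hY := S.lower_of_corner hX
    refine finish S hY α (closure_generator g hg) fun h10 h01 => ?_
    obtain ⟨hcol, -⟩ := S.root_col hY
    have h03 := S.root_row h01 3 (by omega) (by omega)
    have hprod : ∏ i ∈ Finset.Ico 1 3, a i = (α ^ 2)⁻¹ := by
      rw [show Finset.Ico 1 3 = {1, 2} by decide, Finset.prod_pair (by decide)]
      simp [a]
    rw [hprod] at h03
    refine ⟨3, (α ^ 2)⁻¹, α ^ 3, by omega, by omega, ?_, ?_, by field_simp⟩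
    · have := HasRoot.comm (show 1 < m + 4 by omega) (show 3 < m + 4 by omega) (show 0 < m + 4 by omega)
        (by omega) (by omega) (by omega) h10 h03
      rwa [one_mul] at this
    · have := HasRoot.comm (show 3 < m + 4 by omega) (show 1 < m + 4 by omega) (show 0 < m + 4 by omega)
        (by omega) (by omega) (by omega) (hcol 3 (by omega) (by omega)) h01
      rwa [mul_one] at this
  · obtain rfl : n = 3 := by omega
    by_cases hq : Fintype.card F = 4
    · haveI : CharP F 2 := charP_of_card_eq_prime_pow (p := 2) (f := 2) hq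
      obtain ⟨ω, hω⟩ : ∃ ω : F, ω ≠ 0 ∧ ω ≠ 1 := by
        have : 2 < (Finset.univ : Finset F).card := by rw [Finset.card_univ, hq]; norm_num
        obtain ⟨x, -, hx⟩ := Finset.exists_mem_notMem_of_card_lt_card
          (lt_of_le_of_lt (Finset.card_le_two (a := (0 : F)) (b := 1)) this)
        simp only [Finset.mem_insert, Finset.mem_singleton, not_or] at hx
        exact ⟨x, hx⟩
      have hω3 : ω ^ 3 = 1 := by
        have := FiniteField.pow_card_sub_one_eq_one ω hω.1
        rwa [hq] at this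
      have hω2 : ω * ω = ω + 1 := by
        have h' : (ω - 1) * (ω * ω + ω + 1) = 0 := by linear_combination hω3
        have := (mul_eq_zero.1 h').resolve_left (sub_ne_zero.2 hω.2)
        rw [← sub_eq_zero, CharTwo.sub_eq_add, ← add_assoc]
        exact this
      have hcl : Subring.closure {ω} = ⊤ := by
        refine (Subring.eq_top_iff' _).2 fun x => ?_
        have hmem : x ∈ ({0, 1, ω, ω + 1} : Finset F) := by
          rw [Finset.eq_univ_of_card _ (show ({0, 1, ω, ω + 1} : Finset F).card = Fintype.card F by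
            rw [hq, Finset.card_insert_of_notMem, Finset.card_insert_of_notMem, Finset.card_pair]
            · simp [eq_comm (a := ω)]
            · simp only [Finset.mem_insert, Finset.mem_singleton, not_or]
              refine ⟨Ne.symm hω.2, fun h => hω.1 ?_⟩
              exact (add_eq_right).1 h.symm
            · simp only [Finset.mem_insert, Finset.mem_singleton, not_or]
              refine ⟨zero_ne_one, Ne.symm hω.1, fun h => hω.2 ?_⟩
              rw [← CharTwo.neg_eq (1 : F)]
              exact eq_neg_of_add_eq_zero_left h.symm)]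
          exact Finset.mem_univ x
        simp only [Finset.mem_insert, Finset.mem_singleton] at hmem
        rcases hmem with rfl | rfl | rfl | rfl
        · exact Subring.zero_mem _
        · exact Subring.one_mem _
        · exact Subring.subset_closure rfl
        · exact Subring.add_mem _ (Subring.subset_closure rfl) (Subring.one_mem _)
      let one : ℕ → F := fun _ => 1
      have hdet : (Cfsg.Agent.Lib.KnownSimple.shiftMat 3 one).det = 1 :=
        shiftMat_det_range 2 one (by simp [one])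
      refine assemble le_rfl one one (fun _ => one_ne_zero) hdet ω fun H hu hv hX => ?_
      have S : Setup H one one (1 : F) :=
        { three_le := le_rfl
          det_eq := hdet
          a_zero := rfl
          a_ne := fun _ => one_ne_zero
          d_ne := fun _ => one_ne_zero
          beta_ne := one_ne_zero
          r_mid := fun k h1 h2 => by simp [one]
          r_last := by simp [one]
          r_first := Or.inl (by simp [one])
          u_mem := hu
          v_mem := hv }
      have hY : HasRoot H 2 0 (1 : F) := case_four hω2 hX (S.corner_conj hX)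
      refine finish S hY ω hcl fun h10 h01 => ⟨2, ω, 1, le_rfl, by omega, ?_, ?_, mul_one ω⟩
      · have := HasRoot.comm (show 1 < 3 by omega) (show 2 < 3 by omega) (show 0 < 3 by omega)
          (by omega) (by omega) (by omega) h10 hX
        rwa [one_mul] at this
      · have := HasRoot.comm (show 2 < 3 by omega) (show 1 < 3 by omega) (show 0 < 3 by omega)
          (by omega) (by omega) (by omega) hY h01
        rwa [one_mul] at this
    · set β := (g : F)
      have hβ : β ≠ 0 := g.ne_zero
      let a : ℕ → F := fun i => if i = 1 then β ^ 2 else 1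
      let d : ℕ → F := fun i => if i = 0 then β⁻¹ else if i = 2 then β else 1
      have ha : ∀ i, a i ≠ 0 := fun i => by simp only [a]; split_ifs <;> simp [hβ]
      have hd : ∀ i, d i ≠ 0 := fun i => by simp only [d]; split_ifs <;> simp [hβ]
      have hdet : (Cfsg.Agent.Lib.KnownSimple.shiftMat 3 d).det = 1 :=
        shiftMat_det_range 2 d (by simp [d, Finset.prod_range_succ, hβ])
      refine assemble le_rfl a d ha hdet β⁻¹ fun H hu hv hX => ?_
      have S : Setup H a d β :=
        { three_le := le_rfl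
          det_eq := hdet
          a_zero := by simp [a]
          a_ne := ha
          d_ne := hd
          beta_ne := hβ
          r_mid := fun k h1 h2 => by omega
          r_last := by simp [a, d, pow_two]
          r_first := Or.inl (by simp [d, hβ])
          u_mem := hu
          v_mem := hv }
      have hY := S.lower_of_corner hX
      refine finish S hY (β ^ 3) (closure_generator_cube hq g hg) fun h10 h01 =>
        ⟨2, β ^ 2, β, le_rfl, by omega, ?_, ?_, by ring⟩
      · have h02 := S.root_row h01 2 (by omega) (by omega)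
        have e : ∏ i ∈ Finset.Ico 1 2, a i = β ^ 2 := by simp [a]
        rw [e] at h02
        have := HasRoot.comm (show 1 < 3 by omega) (show 2 < 3 by omega) (show 0 < 3 by omega)
          (by omega) (by omega) (by omega) h10 h02
        rwa [one_mul] at this
      · have := HasRoot.comm (show 2 < 3 by omega) (show 1 < 3 by omega) (show 0 < 3 by omega)
          (by omega) (by omega) (by omega) hY h01
        rwa [mul_one] at this

end Cfsg.Agent.S2280
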