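import Cfsg.Statements.S2281
import Cfsg.Agent.Lib.SympRegGen.Params
import Cfsg.Agent.Lib.SympRegGen.Two

set_option autoImplicit false
open Cfsg

namespace Cfsg.Agent.S2281

open Cfsg.Agent.Lib.SympRegGen

/-- Let F be a finite field and n ≥ 2, excluding the case n = 2 with F of two elements (where the group is not quasisimple). Then the symplectic group Sp_2n(F) is generated by three conjugate regular unipotent elements: there are u ∈ Sp_2n(F) with u − 1 nilpotent and (u − 1)^(2n−1) ≠ 0, and g, h ∈ Sp_2n(F), such that u, g u g⁻¹ and h u h⁻¹ generate Sp_2n(F). -/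
theorem result {F : Type*} [Field F] [Fintype F] (n : ℕ) (hn : 2 ≤ n) (h22 : ¬ (n = 2 ∧ Fintype.card F = 2)) :
    ∃ u g h : Matrix.symplecticGroup (Fin n) F,
      IsNilpotent ((u : Matrix (Fin n ⊕ Fin n) (Fin n ⊕ Fin n) F) - 1) ∧
      ((u : Matrix (Fin n ⊕ Fin n) (Fin n ⊕ Fin n) F) - 1) ^ (2 * n - 1) ≠ 0 ∧
      Subgroup.closure ({u, g * u * g⁻¹, h * u * h⁻¹} : Set (Matrix.symplecticGroup (Fin n) F)) = ⊤ := by
  obtain ⟨k, rfl⟩ : ∃ k, n = k + 2 := ⟨n - 2, by omega⟩
  obtain ⟨a, b, ha, g, h, hgen⟩ : ∃ a b : F, a ≠ 0 ∧ ∃ g h : Matrix.symplecticGroup (Fin (k + 2)) F,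
      Subgroup.closure ({uni a b, g * uni a b * g⁻¹, h * uni a b * h⁻¹} :
        Set (Matrix.symplecticGroup (Fin (k + 2)) F)) = ⊤ := by
    rw [← Nat.card_eq_fintype_card] at h22
    by_cases hF : Nat.card F = 2
    · exact exists_gens_two hF (by
        by_contra hk
        exact h22 ⟨by omega, hF⟩)
    · exact exists_gens_big (by
        have := Finite.one_lt_card (α := F)
        omega)
  exact ⟨uni a b, g, h, isNilpotent_uni ha, pow_uni_ne ha, hgen⟩

end Cfsg.Agent.S2281
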