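import Cfsg.Statements.S2282
import Cfsg.Agent.S2283
import Cfsg.Agent.Lib.UnitaryReg9.BigMain
-- import your own Cfsg.Agent.* helpers here

set_option autoImplicit false
open Cfsg

namespace Cfsg.Agent.S2282

open Cfsg.Agent.Lib.UnitaryMax Cfsg.Agent.Lib.UnitaryReg9

/-- Let F be a field with q² elements, n ≥ 3 odd with (n, q) ≠ (3, 2), and SU_n(q) the special unitary group of the standard Hermitian form Σ u_i v_i^q. Then SU_n(q) is generated by three conjugate regular unipotent elements: there are u ∈ SU_n(q) with u − 1 nilpotent and (u − 1)^(n−1) ≠ 0, and g, h ∈ SU_n(q), such that u, g u g⁻¹ and h u h⁻¹ generate SU_n(q). -/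
theorem result {F : Type*} [Field F] [Fintype F] (q : ℕ) (hF : Fintype.card F = q ^ 2) (n : ℕ) (hn : 3 ≤ n) (hodd : Odd n) (h32 : ¬ (n = 3 ∧ q = 2)) :
    ∃ u g h : ↥(Cfsg.SU n F q), (IsNilpotent (((u : Matrix.SpecialLinearGroup (Fin n) F) : Matrix (Fin n) (Fin n) F) - 1) ∧ (((u : Matrix.SpecialLinearGroup (Fin n) F) : Matrix (Fin n) (Fin n) F) - 1) ^ (n - 1) ≠ 0) ∧
      Subgroup.closure ({u, g * u * g⁻¹, h * u * h⁻¹} : Set ↥(Cfsg.SU n F q)) = ⊤ := by
  rcases eq_or_ne n 3 with rfl | h3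
  · have hq : 3 ≤ q := by
      have := Cfsg.Agent.Lib.Forms.two_le_of_card_sq hF
      omega
    obtain ⟨u, g, hu, hgen⟩ := S2283.result (F := F) q hq hF
    refine ⟨u, g, g, hu, ?_⟩
    simpa only [Set.insert_eq_of_mem, Set.mem_singleton_iff] using hgen
  have hn5 : 5 ≤ n := by rcases hodd with ⟨k, hk⟩; omega
  obtain ⟨k, rfl⟩ := hodd
  obtain ⟨u, y₀, R⟩ := exists_reg (F := F) hF k
  obtain ⟨g, hg, g', hg', hgen⟩ := exists_three_gens hF R hn5
  let φ : Cfsg.SU (2 * k + 1) F q →* GL (Fin (2 * k + 1)) F :=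
    Matrix.SpecialLinearGroup.toGL.comp (Cfsg.SU (2 * k + 1) F q).subtype
  have hpre : ∀ x ∈ suGL (2 * k + 1) F q, ∃ A, φ A = x := fun x hx => by
    obtain ⟨h1, h2⟩ := mem_suGL_iff.mp hx
    exact ⟨⟨⟨_, h2⟩, h1⟩, Units.ext rfl⟩
  have hφ : Function.Injective φ := fun A B e => Subtype.ext (Subtype.ext (congrArg Units.val e))
  obtain ⟨u', hu'⟩ := hpre u R.mem
  obtain ⟨a, ha⟩ := hpre g hg
  obtain ⟨b, hb⟩ := hpre g' hg'
  refine ⟨u', a, b, ?_, ?_⟩
  · have hM : ((u' : Matrix.SpecialLinearGroup (Fin (2 * k + 1)) F) : Matrix (Fin (2 * k + 1)) (Fin (2 * k + 1)) F)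
        = (u : Matrix (Fin (2 * k + 1)) (Fin (2 * k + 1)) F) := congrArg Units.val hu'
    rw [hM]
    have hpow : ∀ j x, (((u : Matrix (Fin (2 * k + 1)) (Fin (2 * k + 1)) F) - 1) ^ j).mulVec x = (nu u ^ j) x := by
      intro j
      induction j with
      | zero => intro x; simp
      | succ j ih => intro x; rw [pow_succ', ← Matrix.mulVec_mulVec, ih, pow_succ', Module.End.mul_apply]; rfl
    refine ⟨⟨2 * k + 1, Matrix.ext_iff_mulVec.mpr fun x => ?_⟩, fun h0 => R.pow_ne ?_⟩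
    · rw [hpow, R.pow_zero, Matrix.zero_mulVec]
    · rw [← hpow, h0, Matrix.zero_mulVec]
  · refine Subgroup.map_injective hφ ?_
    rw [MonoidHom.map_closure, ← MonoidHom.range_eq_map, Set.image_insert_eq, Set.image_insert_eq,
      Set.image_singleton, map_mul, map_mul, map_mul, map_mul, map_inv, map_inv, hu', ha, hb, hgen]
    refine le_antisymm (fun x hx => hpre x hx) ?_
    rintro _ ⟨A, rfl⟩
    exact mem_suGL_iff.mpr ⟨A.2, (A : Matrix.SpecialLinearGroup (Fin (2 * k + 1)) F).2⟩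

end Cfsg.Agent.S2282
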