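import Cfsg.Statements.S2286
import Mathlib
import Cfsg.Agent.Lib.SL2.ShortPres
-- import your own Cfsg.Agent.* helpers here

set_option autoImplicit false
open Cfsg

namespace Cfsg.Agent.S2286

open Cfsg.Agent.Lib.SL2 Cfsg.Agent.Lib.SL2.ShortPres

/-- For every finite field F, SL_2(F) and PSL_2(F) have presentations with 3 generators and at most 9 relations; when F has characteristic 2, PSL_2(F) has a presentation with 3 generators and at most 5 relations. -/
theorem result {F : Type*} [Field F] [Fintype F] :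
    (∃ rels : Finset (FreeGroup (Fin 3)), rels.card ≤ 9 ∧ Nonempty (PresentedGroup (↑rels : Set (FreeGroup (Fin 3))) ≃* Matrix.SpecialLinearGroup (Fin 2) F)) ∧ (∃ rels : Finset (FreeGroup (Fin 3)), rels.card ≤ 9 ∧ Nonempty (PresentedGroup (↑rels : Set (FreeGroup (Fin 3))) ≃* Matrix.ProjectiveSpecialLinearGroup (Fin 2) F)) ∧
    (CharP F 2 → ∃ rels : Finset (FreeGroup (Fin 3)), rels.card ≤ 5 ∧ Nonempty (PresentedGroup (↑rels : Set (FreeGroup (Fin 3))) ≃* Matrix.ProjectiveSpecialLinearGroup (Fin 2) F)) := by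
  classical
  obtain ⟨ω, hω⟩ := IsCyclic.exists_generator (α := Fˣ)
  have hgen : ∀ t : F, t ≠ 0 → ∃ n : ℕ, (ω : F) ^ n = t := fun t ht => by
    obtain ⟨n, hn⟩ := (mem_powers_iff_mem_zpowers.2 (hω (Units.mk0 t ht)))
    exact ⟨n, by simpa using congrArg Units.val hn⟩
  have hord : orderOf ω = Fintype.card F - 1 := by
    rw [orderOf_eq_card_of_forall_mem_zpowers hω, Nat.card_eq_fintype_card, Fintype.card_units]
  have hν : Fintype.card F ≤ 2 * orderOf ((ω : F) ^ 2) + 1 := by
    have h1 : (ω ^ 2) ^ orderOf (ω ^ 2) = 1 := pow_orderOf_eq_one _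
    rw [← pow_mul] at h1
    have h2 := orderOf_dvd_of_pow_eq_one h1
    have h3 : 0 < orderOf (ω ^ 2) := orderOf_pos _
    have h4 := Nat.le_of_dvd (by omega) h2
    have h5 : orderOf ((ω : F) ^ 2) = orderOf (ω ^ 2) := by
      rw [← orderOf_units (y := ω ^ 2), Units.val_pow_eq_pow_val]
    omega
  have hsurj := surjective_aeval_of_orderOf (pow_ne_zero 2 ω.ne_zero) hν
  obtain ⟨p, hp⟩ := CharP.exists F
  obtain ⟨d, hprime, hq⟩ := FiniteField.card F p
  have : Fact p.Prime := ⟨hprime⟩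
  by_cases hp2 : p = 2
  · subst hp2
    obtain ⟨R, holds, hcard, hbij⟩ := exists_rels_even ω hgen hsurj
    have h2 : (2 : F) = 0 := by simpa using CharP.cast_eq_zero F 2
    let e := MulEquiv.ofBijective _ hbij
    let e' := e.trans ((QuotientGroup.quotientMulEquivOfEq
      (center_eq_bot_even (F := F) h2)).trans QuotientGroup.quotientBot).symm
    exact ⟨⟨R, by omega, ⟨e⟩⟩, ⟨R, by omega, ⟨e'⟩⟩, fun _ => ⟨R, hcard, ⟨e'⟩⟩⟩
  have hp3 : 3 ≤ p := by have := hprime.two_le; omega
  obtain ⟨D⟩ : Nonempty (UPres ω) := by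
    rcases Nat.lt_or_ge (d : ℕ) 3 with hd | hd
    · exact nonempty_uPres_small ω p d hq (by omega) hsurj
    · exact nonempty_uPres_large ω p d hq hp3 hd hgen
  obtain ⟨R, holds, hcard, hbij⟩ := exists_rels_of_uPres ω hgen hsurj D
  have hodd : Fintype.card F % 2 = 1 := by
    rw [hq]
    exact Nat.odd_iff.1 ((hprime.odd_of_ne_two hp2).pow)
  have hq3 : 3 ≤ Fintype.card F := by
    rw [hq]; exact hp3.trans (Nat.le_self_pow (PNat.ne_zero d) p)
  have hm : ω ^ ((Fintype.card F - 1) / 2) = -1 := by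
    have hne : ω ^ ((Fintype.card F - 1) / 2) ≠ 1 := by
      intro h
      have := Nat.le_of_dvd (by omega) (orderOf_dvd_of_pow_eq_one h)
      omega
    have hsq : (ω ^ ((Fintype.card F - 1) / 2) : F) * (ω ^ ((Fintype.card F - 1) / 2) : F) = 1 * 1 := by
      rw [← pow_add, one_mul, show (Fintype.card F - 1) / 2 + (Fintype.card F - 1) / 2 =
        Fintype.card F - 1 by omega]
      exact FiniteField.pow_card_sub_one_eq_one _ ω.ne_zero
    rcases mul_self_eq_mul_self_iff.1 hsq with h | h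
    · exact absurd (Units.ext (by simpa using h)) hne
    · exact Units.ext (by simpa using h)
  obtain ⟨e'⟩ := nonempty_psl ω R holds hbij (hg ^ ((Fintype.card F - 1) / 2)) (by
    rw [map_pow, lift_hg, slGen_one, diag_pow, hm]
    apply ext_entries <;> simp)
  refine ⟨⟨R, by omega, ⟨MulEquiv.ofBijective _ hbij⟩⟩,
    ⟨_, (Finset.card_insert_le _ _).trans (by omega), ⟨e'⟩⟩, fun h => ?_⟩
  exact absurd (CharP.eq F hp h) hp2

end Cfsg.Agent.S2286
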