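import Cfsg.Statements.S2288
import Cfsg.Agent.Lib.SLShort.Assemble
import Cfsg.Agent.Lib.SLShort.SmallAlt
import Cfsg.Agent.Lib.BoundedPresentation.SLPres
import Cfsg.Agent.Lib.BoundedPresentation.PresOps
import Cfsg.Agent.Lib.BoundedPresentation.TwoGen
import Cfsg.Agent.Lib.ThreeGenPres.Instances

set_option autoImplicit false
open Cfsg

namespace Cfsg.Agent.S2288

open Cfsg.Agent.Lib Cfsg.Agent.Lib.BoundedPresentation Cfsg.Agent.Lib.BoundedPresentation.Pt Cfsg.Agent.Lib.SLShort

universe uF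

theorem isCyclic_center {ι : Type*} [DecidableEq ι] [Fintype ι] [Nonempty ι] (F : Type*) [Field F] [Finite F] :
    IsCyclic (Subgroup.center (Matrix.SpecialLinearGroup ι F)) := by
  let e := Matrix.SpecialLinearGroup.center_equiv_rootsOfUnity' (R := F) (Classical.arbitrary ι)
  exact isCyclic_of_injective ((Subgroup.subtype _).comp e.toMonoidHom)
    ((Subgroup.subtype_injective _).comp e.injective)

variable {F : Type uF} [Field F] [Fintype F]

/-- Renumbered named elements. -/
theorem renumber {H : Type uF} [Group H] {κ : Type} [Fintype κ] {N : κ → H} {r k : ℕ} (hP : Pres N r)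
    (hN : Subgroup.closure (Set.range N) = ⊤) (hk : Fintype.card κ = k) :
    ∃ M : Fin k → H, Pres M r ∧ Subgroup.closure (Set.range M) = ⊤ := by
  let e : Fin k ≃ κ := (Fintype.equivFinOfCardEq hk).symm
  have hg : Subgroup.closure (Set.range fun i => N (e i)) = ⊤ := by
    rw [show (Set.range fun i => N (e i)) = Set.range N from e.surjective.range_comp N]; exact hN
  exact ⟨_, hP.restrict e.injective hg, hg⟩

/-- Named elements of `SL` from those of the alternating group. -/
theorem pres_of_alt (j : ℕ) {ι : Type} {N : ι → Alt2 (Fin (j + 2))} {rA : ℕ} (hP : Pres N rA)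
    (hN : Subgroup.closure (Set.range N) = ⊤) :
    ∃ M : ι ⊕ Fin 4 → Matrix.SpecialLinearGroup (Fin (j + 2 + 2)) F,
      Pres M (rA + 18) ∧ Subgroup.closure (Set.range M) = ⊤ := by
  classical
  obtain ⟨ω, hgen, hspan, -, -⟩ := exists_sl_two_pres F
  obtain ⟨M, hM, hcM⟩ : ∃ M : ι ⊕ Fin 4 → Matrix.SpecialLinearGroup (Pt j) F,
      Pres M (rA + 18) ∧ Subgroup.closure (Set.range M) = ⊤ := by
    rcases Nat.eq_zero_or_pos j with rfl | hj
    · exact pres_sl_four ⟨hgen, hspan⟩ hP hN
    · exact pres_sl_five j hj ⟨hgen, hspan⟩ hP hN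
  let e := SLStd.reindexSLGroup (F := F) (finSumFinEquiv : Pt j ≃ Fin (j + 2 + 2))
  refine ⟨fun i => e (M i), hM.map_equiv e, ?_⟩
  have := congrArg (Subgroup.map e.toMonoidHom) hcM
  rw [MonoidHom.map_closure, ← Set.range_comp, Subgroup.map_top_of_surjective _ e.surjective] at this
  exact this

/-- For every finite field F and n ≥ 4: SL_n(F) has a presentation with 7 generators and at most 25 relations, and PSL_n(F) one with 7 generators and at most 26 relations; moreover SL_4(F) has one with 6 generators and at most 21 relations and SL_5(F) one with 6 generators and at most 22 relations. -/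
theorem result {F : Type*} [Field F] [Fintype F] (n : ℕ) (hn : 4 ≤ n) :
    (∃ rels : Finset (FreeGroup (Fin 7)), rels.card ≤ 25 ∧ Nonempty (PresentedGroup (↑rels : Set (FreeGroup (Fin 7))) ≃* Matrix.SpecialLinearGroup (Fin n) F)) ∧ (∃ rels : Finset (FreeGroup (Fin 7)), rels.card ≤ 26 ∧ Nonempty (PresentedGroup (↑rels : Set (FreeGroup (Fin 7))) ≃* Matrix.ProjectiveSpecialLinearGroup (Fin n) F)) ∧
    (∃ rels : Finset (FreeGroup (Fin 6)), rels.card ≤ 21 ∧ Nonempty (PresentedGroup (↑rels : Set (FreeGroup (Fin 6))) ≃* Matrix.SpecialLinearGroup (Fin 4) F)) ∧ (∃ rels : Finset (FreeGroup (Fin 6)), rels.card ≤ 22 ∧ Nonempty (PresentedGroup (↑rels : Set (FreeGroup (Fin 6))) ≃* Matrix.SpecialLinearGroup (Fin 5) F)) := by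
  classical
  obtain ⟨M₄, hM₄, hc₄⟩ := pres_of_alt (F := F) 0 pres_alt_four closure_cyc
  obtain ⟨M₅, hM₅, hc₅⟩ := pres_of_alt (F := F) 1 pres_alt_five_four closure_alt_five
  obtain ⟨M, hM, hc⟩ : ∃ M : Fin 7 → Matrix.SpecialLinearGroup (Fin n) F,
      Pres M 25 ∧ Subgroup.closure (Set.range M) = ⊤ := by
    obtain ⟨j, rfl⟩ : ∃ j, n = j + 2 + 2 := ⟨n - 4, by omega⟩
    rcases Nat.eq_zero_or_pos j with rfl | hj
    · refine renumber ((hM₄.pad hc₄ 1).mono (by omega))
        (top_unique (hc₄ ▸ Subgroup.closure_mono ?_)) rfl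
      rintro _ ⟨i, rfl⟩
      exact ⟨some i, rfl⟩
    obtain ⟨R, hR, ⟨e⟩⟩ := ThreeGenPres.pres_three_alt (n := j + 2 + 2) (by omega)
    obtain ⟨hP, hN⟩ := Pres.of_presented hR
      (e.trans (finSumFinEquiv : Pt j ≃ Fin (j + 2 + 2)).symm.altCongrHom)
    obtain ⟨M, hM, hcM⟩ := pres_of_alt (F := F) j hP hN
    exact renumber hM hcM rfl
  refine ⟨hM.exists_rels hc, ?_, hM₄.exists_rels_fin hc₄ rfl, hM₅.exists_rels_fin hc₅ rfl⟩
  have : Nonempty (Fin n) := ⟨⟨0, by omega⟩⟩
  have := isCyclic_center (ι := Fin n) F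
  obtain ⟨⟨c, hc0⟩, hgen⟩ := IsCyclic.exists_zpow_surjective (G := Subgroup.center (Matrix.SpecialLinearGroup (Fin n) F))
  have hq := hM.quotient hc (Subgroup.center _) c hc0 fun x hx => by
    obtain ⟨k, hk⟩ := hgen ⟨x, hx⟩
    exact ⟨k, congrArg Subtype.val hk⟩
  have hcq := congrArg (Subgroup.map (QuotientGroup.mk' (Subgroup.center (Matrix.SpecialLinearGroup (Fin n) F)))) hc
  rw [MonoidHom.map_closure, ← Set.range_comp,
    Subgroup.map_top_of_surjective _ (QuotientGroup.mk'_surjective _)] at hcq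
  exact hq.exists_rels hcq

end Cfsg.Agent.S2288
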