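import Cfsg.Statements.S2290
import Cfsg.Agent.Lib.BoundedPresentation.SLPres
import Cfsg.Agent.Lib.BoundedPresentation.SLThree
import Cfsg.Agent.Lib.BoundedPresentation.TwoGen
import Cfsg.Agent.S2278
import Cfsg.Agent.S2279
import Cfsg.Agent.S2286

set_option autoImplicit false
open Cfsg

namespace Cfsg.Agent.S2290

open Cfsg.Agent.Lib.BoundedPresentation

theorem isCyclic_center {ι : Type*} [DecidableEq ι] [Fintype ι] [Nonempty ι] (F : Type*) [Field F] [Finite F] :
    IsCyclic (Subgroup.center (Matrix.SpecialLinearGroup ι F)) := by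
  let e := Matrix.SpecialLinearGroup.center_equiv_rootsOfUnity' (R := F) (Classical.arbitrary ι)
  exact isCyclic_of_injective ((Subgroup.subtype _).comp e.toMonoidHom)
    ((Subgroup.subtype_injective _).comp e.injective)


/-- For every finite field F with q elements and n ≥ 2, with q ≥ 4 when n = 2, the simple group PSL_n(F) has a presentation with 2 generators and at most 80 relations. -/
theorem result {F : Type*} [Field F] [Fintype F] (n : ℕ) (hn : 2 ≤ n) (h2 : n = 2 → 4 ≤ Fintype.card F) :
    ∃ rels : Finset (FreeGroup (Fin 2)), rels.card ≤ 80 ∧ Nonempty (PresentedGroup (↑rels : Set (FreeGroup (Fin 2))) ≃* Matrix.ProjectiveSpecialLinearGroup (Fin n) F) := by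
  classical
  rcases (show n = 2 ∨ n = 3 ∨ 4 ≤ n by omega) with rfl | rfl | h4
  · obtain ⟨-, ⟨R, hR, ⟨e⟩⟩, -⟩ := Cfsg.Agent.S2286.result (F := F)
    obtain ⟨hP, hN⟩ := Pres.of_presented hR e
    obtain ⟨a, b, hab⟩ := exists_sl_two_gens (h2 rfl)
    have hab' : Subgroup.closure ({QuotientGroup.mk' _ a, QuotientGroup.mk' _ b} :
        Set (Matrix.ProjectiveSpecialLinearGroup (Fin 2) F)) = ⊤ := by
      have := congrArg (Subgroup.map (QuotientGroup.mk' (Subgroup.center (Matrix.SpecialLinearGroup (Fin 2) F)))) hab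
      rw [MonoidHom.map_closure, Set.image_pair,
        Subgroup.map_top_of_surjective _ (QuotientGroup.mk'_surjective _)] at this
      exact this
    obtain ⟨R', hR', he⟩ := pres_two_gens hP hN hab'
    exact ⟨R', by omega, he⟩
  · obtain ⟨R, hR, ⟨e⟩⟩ := SLThree.presented_sl_three F
    obtain ⟨hP, hN⟩ := Pres.of_presented hR e
    obtain ⟨u, g, -, -, hug⟩ := Cfsg.Agent.S2278.result (F := F)
    haveI := isCyclic_center (ι := Fin 3) F
    obtain ⟨R', hR', he⟩ := pres_quotient_two_gens hP hN (Subgroup.center _) hug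
    exact ⟨R', by omega, he⟩
  · obtain ⟨j, rfl⟩ : ∃ j, n = j + 2 + 2 := ⟨n - 4, by omega⟩
    obtain ⟨N, hP, hN⟩ := pres_sl (F := F) j
    let e := SLStd.reindexSLGroup (F := F) (finSumFinEquiv : Pt j ≃ Fin (j + 2 + 2))
    obtain ⟨⟨u, v, -, -, huv⟩, -⟩ := Cfsg.Agent.S2279.result (F := F) (j + 2 + 2) h4
    have hN' : Subgroup.closure (Set.range fun i => e (N i)) = ⊤ := by
      have := congrArg (Subgroup.map e.toMonoidHom) hN
      rw [MonoidHom.map_closure, ← Set.range_comp, Subgroup.map_top_of_surjective _ e.surjective] at this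
      exact this
    haveI := isCyclic_center (ι := Fin (j + 2 + 2)) F
    obtain ⟨R', hR', he⟩ := pres_quotient_two_gens (hP.map_equiv e) hN' (Subgroup.center _) huv
    exact ⟨R', by omega, he⟩

end Cfsg.Agent.S2290
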