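import Cfsg.Statements.S2293
import Cfsg.Agent.Lib.SL2.ShortPres
import Cfsg.Agent.Lib.Classical.Symplectic
import Cfsg.Agent.Lib.SpFourPresentation.Matrices
-- import your own Cfsg.Agent.* helpers here

set_option autoImplicit false
open Cfsg

namespace Cfsg.Agent.S2293


open Cfsg.Agent.Lib.SpFourPresentation Cfsg.Agent.Lib.SL2 Matrix
open Polynomial (aeval)

/-- The gluing relators for two functions on `SL₂`. -/
def glue {F : Type*} [Field F] {G : Type*} [Group G] (ω : Fˣ) (A B : SLtwo F → G) : List G :=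
  let xa := fun t => A (upper t)
  let xb := fun t => B (upper t)
  let wa := A weyl
  let wb := B weyl
  let ha := A (diag ω)
  let hb := B (diag ω)
  let xab := fun t => wb * xa t * wb⁻¹
  let xaab := fun t => wa * xb t * wa⁻¹
  [ ha * hb * (hb * ha)⁻¹,
    wa * hb * wa⁻¹ * (hb * ha)⁻¹,
    wb * ha * wb⁻¹ * (ha * hb * hb)⁻¹,
    ha * xb 1 * ha⁻¹ * (xb ((ω : F)⁻¹ * (ω : F)⁻¹))⁻¹,
    hb * xa 1 * hb⁻¹ * (xa (ω : F)⁻¹)⁻¹,
    wa * wb * wa * wb * (wb * wa * wb * wa)⁻¹,
    wa * xab 1 * wa⁻¹ * (xab (-1))⁻¹,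
    wb * xaab 1 * wb⁻¹ * (xaab 1)⁻¹,
    xb 1 * xab 1 * (xab 1 * xb 1)⁻¹,
    xb 1 * xaab 1 * (xaab 1 * xb 1)⁻¹,
    xa 1 * xaab 1 * (xaab 1 * xa 1)⁻¹,
    xa 1 * xab 1 * (xa 1)⁻¹ * (xab 1)⁻¹ * (xaab (-2))⁻¹,
    xa 1 * xb 1 * (xa 1)⁻¹ * (xb 1)⁻¹ * (xab (-1) * xaab 1)⁻¹ ]

theorem map_glue {F : Type*} [Field F] {G H : Type*} [Group G] [Group H] (f : G →* H) (ω : Fˣ)
    (A B : SLtwo F → G) : (glue ω A B).map f = glue ω (fun g => f (A g)) (fun g => f (B g)) := by
  simp only [glue, List.map_cons, List.map_nil, map_mul, map_inv]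

theorem glue_iff {F : Type*} [Field F] {G : Type*} [Group G] (E : Emb F G) :
    (∀ r ∈ glue E.ω E.pa E.pb, r = 1) ↔ E.Rels := by
  simp only [glue, List.forall_mem_cons, mul_inv_eq_one]
  constructor
  · rintro ⟨r1, r2, r3, r4, r5, r6, r7, r8, r9, r10, r11, r12, r13, -⟩
    exact ⟨r1, r2, r3, r4, r5, r6, r7, r8, r9, r10, r11, r12, r13⟩
  · intro h
    exact ⟨h.comm, h.wa_hb, h.wb_ha, h.ha_xb, h.hb_xa, h.braid, h.wa_xab, h.wb_xaab, h.b_ab, h.b_aab,
      h.a_aab, h.a_ab, h.a_b, fun _ h => absurd h List.not_mem_nil⟩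

theorem presented_quotient {α : Type} [DecidableEq α] (R : Finset (FreeGroup α)) {H : Type*} [Group H]
    (e : PresentedGroup (↑R : Set (FreeGroup α)) ≃* H) (z : FreeGroup α) (N : Subgroup H) [N.Normal]
    (hz : e (PresentedGroup.mk _ z) ∈ N) (hN : ∀ n ∈ N, n = 1 ∨ n = e (PresentedGroup.mk _ z)) :
    Nonempty (PresentedGroup (↑(insert z R) : Set (FreeGroup α)) ≃* H ⧸ N) := by
  set S : Set (FreeGroup α) := ↑(insert z R) with hS
  let f : α → H ⧸ N := fun a => QuotientGroup.mk' N (e (PresentedGroup.of a))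
  have hlift : FreeGroup.lift f = (QuotientGroup.mk' N).comp (e.toMonoidHom.comp (PresentedGroup.mk _)) :=
    FreeGroup.ext_hom _ _ fun a => by rw [FreeGroup.lift_apply_of]; rfl
  have hf : ∀ r ∈ S, FreeGroup.lift f r = 1 := by
    intro r hr
    rw [hlift]
    show QuotientGroup.mk' N (e (PresentedGroup.mk _ r)) = 1
    rcases Finset.mem_insert.1 (Finset.mem_coe.1 hr) with rfl | hr
    · exact (QuotientGroup.eq_one_iff _).2 hz
    · rw [PresentedGroup.one_of_mem (Finset.mem_coe.2 hr), map_one, map_one]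
  have hι : ∀ r ∈ (↑R : Set (FreeGroup α)), FreeGroup.lift (PresentedGroup.of (rels := S)) r = 1 := by
    intro r hr
    rw [ShortPresLift S]
    exact PresentedGroup.one_of_mem (Finset.mem_coe.2 (Finset.mem_insert_of_mem hr))
  let ψ : H →* PresentedGroup S := (PresentedGroup.toGroup hι).comp e.symm.toMonoidHom
  have hψ : ∀ r, ψ (e (PresentedGroup.mk _ r)) = PresentedGroup.mk S r := by
    intro r
    show PresentedGroup.toGroup hι (e.symm (e (PresentedGroup.mk _ r))) = _
    rw [MulEquiv.symm_apply_apply]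
    show FreeGroup.lift (PresentedGroup.of (rels := S)) r = _
    rw [ShortPresLift S]
  have hker : N ≤ ψ.ker := by
    intro n hn
    rw [MonoidHom.mem_ker]
    rcases hN n hn with rfl | rfl
    · exact map_one ψ
    · rw [hψ]
      exact PresentedGroup.one_of_mem (Finset.mem_coe.2 (Finset.mem_insert_self z R))
  refine ⟨MonoidHom.toMulEquiv (PresentedGroup.toGroup hf) (QuotientGroup.lift N ψ hker) ?_ ?_⟩
  · refine PresentedGroup.ext fun a => ?_
    rw [MonoidHom.comp_apply, PresentedGroup.toGroup.of, MonoidHom.id_apply]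
    exact hψ (FreeGroup.of a)
  · refine QuotientGroup.monoidHom_ext _ (MonoidHom.ext fun x => ?_)
    obtain ⟨r, hr⟩ := PresentedGroup.mk_surjective _ (e.symm x)
    obtain rfl : e (PresentedGroup.mk _ r) = x := by rw [hr, MulEquiv.apply_symm_apply]
    simp only [MonoidHom.comp_apply, MonoidHom.id_apply, QuotientGroup.mk'_apply, QuotientGroup.lift_mk, hψ]
    show FreeGroup.lift f r = _
    rw [hlift]; rfl
where
  ShortPresLift (S : Set (FreeGroup α)) :
      FreeGroup.lift (PresentedGroup.of (rels := S)) = PresentedGroup.mk S :=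
    FreeGroup.ext_hom _ _ fun a => by rw [FreeGroup.lift_apply_of]; rfl

/-- The two index embeddings. -/
def ixA : Fin 3 → Fin 6 := ![0, 1, 2]
/-- The two index embeddings. -/
def ixB : Fin 3 → Fin 6 := ![3, 4, 5]

theorem lift_map {α β : Type*} {G : Type*} [Group G] (f : β → G) (c : α → β) :
    (FreeGroup.lift f).comp (FreeGroup.map c) = FreeGroup.lift (f ∘ c) :=
  FreeGroup.ext_hom _ _ fun a => by simp

/-- For every finite field F, Sp_4(F) has a presentation with 6 generators and at most 35 relations, and PSp_4(F) one with 6 generators and at most 36 relations. -/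
theorem result {F : Type*} [Field F] [Fintype F] : (∃ rels : Finset (FreeGroup (Fin 6)), rels.card ≤ 35 ∧ Nonempty (PresentedGroup (↑rels : Set (FreeGroup (Fin 6))) ≃* Matrix.symplecticGroup (Fin 2) F)) ∧ (∃ rels : Finset (FreeGroup (Fin 6)), rels.card ≤ 36 ∧ Nonempty (PresentedGroup (↑rels : Set (FreeGroup (Fin 6))) ≃* Cfsg.PSp 2 F)) := by
  classical
  obtain ⟨ω, hω⟩ := IsCyclic.exists_generator (α := Fˣ)
  have hgen : ∀ t : F, t ≠ 0 → ∃ n : ℕ, (ω : F) ^ n = t := fun t ht => by
    obtain ⟨n, hn⟩ := (mem_powers_iff_mem_zpowers.2 (hω (Units.mk0 t ht)))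
    exact ⟨n, by simpa using congrArg Units.val hn⟩
  have hord : orderOf ω = Fintype.card F - 1 := by
    rw [orderOf_eq_card_of_forall_mem_zpowers hω, Nat.card_eq_fintype_card, Fintype.card_units]
  have hν : Fintype.card F ≤ 2 * orderOf ((ω : F) ^ 2) + 1 := by
    have h1 : (ω ^ 2) ^ orderOf (ω ^ 2) = 1 := pow_orderOf_eq_one _
    rw [← pow_mul] at h1
    have h2 := orderOf_dvd_of_pow_eq_one h1
    have h3 : 0 < orderOf (ω ^ 2) := orderOf_pos _
    have h4 := Nat.le_of_dvd (by omega) h2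
    have h5 : orderOf ((ω : F) ^ 2) = orderOf (ω ^ 2) := by
      rw [← orderOf_units (y := ω ^ 2), Units.val_pow_eq_pow_val]
    omega
  have hsurj := ShortPres.surjective_aeval_of_orderOf (pow_ne_zero 2 ω.ne_zero) hν
  have hspan : ∀ S : AddSubgroup F, (1 : F) ∈ S → (∀ t ∈ S, (ω : F) ^ 2 * t ∈ S) → ∀ t, t ∈ S := by
    intro S h1 hs t
    obtain ⟨P, rfl⟩ := hsurj t
    induction P using Polynomial.induction_on' with
    | add P Q hP hQ => rw [map_add]; exact S.add_mem hP hQ
    | monomial j c =>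
      rw [Polynomial.aeval_monomial, algebraMap_int_eq, eq_intCast, ← zsmul_eq_mul]
      refine S.zsmul_mem ?_ c
      induction j with
      | zero => simpa using h1
      | succ j ih => rw [pow_succ' ((ω : F) ^ 2)]; exact hs _ ih
  obtain ⟨p, hp⟩ := CharP.exists F
  obtain ⟨d, hprime, hq⟩ := FiniteField.card F p
  have : Fact p.Prime := ⟨hprime⟩
  -- presentations of the two copies of `SL₂`
  obtain ⟨R, holds, hR8, hbij⟩ : ∃ (R : Finset ShortPres.Fr)
      (holds : ∀ r ∈ R, FreeGroup.lift (ShortPres.slGen ω) r = 1), R.card ≤ 8 ∧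
      Function.Bijective (PresentedGroup.toGroup (rels := (↑R : Set ShortPres.Fr))
        (f := ShortPres.slGen ω) holds) := by
    by_cases hp2 : p = 2
    · subst hp2
      obtain ⟨R, holds, hcard, hbij⟩ := ShortPres.exists_rels_even ω hgen hsurj
      exact ⟨R, holds, by omega, hbij⟩
    have hp3 : 3 ≤ p := by have := hprime.two_le; omega
    obtain ⟨D⟩ : Nonempty (ShortPres.UPres ω) := by
      rcases Nat.lt_or_ge (d : ℕ) 3 with hd | hd
      · exact ShortPres.nonempty_uPres_small ω p d hq (by omega) hsurj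
      · exact ShortPres.nonempty_uPres_large ω p d hq hp3 hd hgen
    exact ShortPres.exists_rels_of_uPres ω hgen hsurj D
  have hword : ∀ g : SLtwo F, ∃ r : ShortPres.Fr, FreeGroup.lift (ShortPres.slGen ω) r = g := by
    intro g
    obtain ⟨x, rfl⟩ := hbij.2 g
    obtain ⟨r, rfl⟩ := PresentedGroup.mk_surjective _ x
    exact ⟨r, rfl⟩
  choose W hW using hword
  let RA := R.image (FreeGroup.map ixA)
  let RB := R.image (FreeGroup.map ixB)
  let A : SLtwo F → FreeGroup (Fin 6) := fun g => FreeGroup.map ixA (W g)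
  let B : SLtwo F → FreeGroup (Fin 6) := fun g => FreeGroup.map ixB (W g)
  let rels : Finset (FreeGroup (Fin 6)) := RA ∪ RB ∪ (glue ω A B).toFinset
  have hrels : rels.card ≤ 29 := by
    refine le_trans (Finset.card_union_le _ _) (le_trans (Nat.add_le_add (le_trans (Finset.card_union_le _ _)
      (Nat.add_le_add (le_trans Finset.card_image_le hR8) (le_trans Finset.card_image_le hR8)))
      (List.toFinset_card_le _)) ?_)
    simp [glue]
  -- what the relations give in any group
  have build : ∀ {H : Type} [Group H] (f : Fin 6 → H),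
      (∀ r ∈ R, FreeGroup.lift f (FreeGroup.map ixA r) = 1) →
      (∀ r ∈ R, FreeGroup.lift f (FreeGroup.map ixB r) = 1) →
      ∃ E : Emb F H, E.ω = ω ∧ (∀ g, E.pa g = FreeGroup.lift f (A g)) ∧
        (∀ g, E.pb g = FreeGroup.lift f (B g)) := by
    intro H _ f hA hB
    have mkψ : ∀ c : Fin 3 → Fin 6, (∀ r ∈ R, FreeGroup.lift f (FreeGroup.map c r) = 1) →
        ∃ ψ : SLtwo F →* H, ∀ g, ψ g = FreeGroup.lift f (FreeGroup.map c (W g)) := by
      intro c hc
      have hc' : ∀ r ∈ (↑R : Set ShortPres.Fr), FreeGroup.lift (f ∘ c) r = 1 := fun r hr => by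
        rw [← lift_map f c]; exact hc r hr
      let e := MulEquiv.ofBijective _ hbij
      refine ⟨(PresentedGroup.toGroup hc').comp e.symm.toMonoidHom, fun g => ?_⟩
      have : e (PresentedGroup.mk _ (W g)) = g := hW g
      conv_lhs => rw [← this]
      show PresentedGroup.toGroup hc' (e.symm (e (PresentedGroup.mk _ (W g)))) = _
      rw [MulEquiv.symm_apply_apply]
      show FreeGroup.lift (f ∘ c) (W g) = _
      rw [← lift_map f c]; rfl
    obtain ⟨ψa, ha⟩ := mkψ ixA hA
    obtain ⟨ψb, hb⟩ := mkψ ixB hB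
    exact ⟨⟨ψa, ψb, ω⟩, rfl, ha, hb⟩
  -- the symplectic generators
  let fS : Fin 6 → SpF F :=
    ![spA (upper 1), spA (diag ω), spA weyl, spB (upper 1), spB (diag ω), spB weyl]
  have hfA : ∀ r, FreeGroup.lift fS (FreeGroup.map ixA r) = spA (FreeGroup.lift (ShortPres.slGen ω) r) := by
    intro r
    rw [show FreeGroup.lift fS (FreeGroup.map ixA r) = FreeGroup.lift (fS ∘ ixA) r by
      rw [← lift_map fS ixA]; rfl]
    have : FreeGroup.lift (fS ∘ ixA) = spA.comp (FreeGroup.lift (ShortPres.slGen ω)) :=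
      FreeGroup.ext_hom _ _ fun a => by
        rw [FreeGroup.lift_apply_of, MonoidHom.comp_apply, FreeGroup.lift_apply_of]
        fin_cases a <;> rfl
    rw [this]; rfl
  have hfB : ∀ r, FreeGroup.lift fS (FreeGroup.map ixB r) = spB (FreeGroup.lift (ShortPres.slGen ω) r) := by
    intro r
    rw [show FreeGroup.lift fS (FreeGroup.map ixB r) = FreeGroup.lift (fS ∘ ixB) r by
      rw [← lift_map fS ixB]; rfl]
    have : FreeGroup.lift (fS ∘ ixB) = spB.comp (FreeGroup.lift (ShortPres.slGen ω)) :=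
      FreeGroup.ext_hom _ _ fun a => by
        rw [FreeGroup.lift_apply_of, MonoidHom.comp_apply, FreeGroup.lift_apply_of]
        fin_cases a <;> rfl
    rw [this]; rfl
  have hfS : ∀ r ∈ (↑rels : Set (FreeGroup (Fin 6))), FreeGroup.lift fS r = 1 := by
    intro r hr
    simp only [rels, RA, RB, Finset.mem_coe, Finset.mem_union, Finset.mem_image, List.mem_toFinset] at hr
    rcases hr with (⟨r', hr', rfl⟩ | ⟨r', hr', rfl⟩) | hr
    · rw [hfA, holds r' hr', map_one]
    · rw [hfB, holds r' hr', map_one]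
    · have h := List.mem_map_of_mem (f := FreeGroup.lift fS) hr
      rw [map_glue] at h
      have ea : (fun g => FreeGroup.lift fS (A g)) = spA := funext fun g => by simp only [A, hfA, hW]
      have eb : (fun g => FreeGroup.lift fS (B g)) = spB := funext fun g => by simp only [B, hfB, hW]
      rw [ea, eb] at h
      exact (glue_iff (stdEmb ω)).2 (std_rels ω) _ h
  let π := PresentedGroup.toGroup hfS
  let G := PresentedGroup (↑rels : Set (FreeGroup (Fin 6)))
  let fG : Fin 6 → G := fun i => PresentedGroup.of i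
  have hmk : ∀ r, FreeGroup.lift fG r = PresentedGroup.mk _ r := by
    intro r
    have : FreeGroup.lift fG = PresentedGroup.mk (↑rels : Set (FreeGroup (Fin 6))) :=
      FreeGroup.ext_hom _ _ fun a => by rw [FreeGroup.lift_apply_of]; rfl
    rw [this]
  have hrel : ∀ r ∈ rels, FreeGroup.lift fG r = 1 := fun r hr => by
    rw [hmk]; exact PresentedGroup.one_of_mem (Finset.mem_coe.2 hr)
  obtain ⟨E, hEω, hEa, hEb⟩ := build fG
    (fun r hr => hrel _ (Finset.mem_union_left _ (Finset.mem_union_left _ (Finset.mem_image_of_mem _ hr))))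
    (fun r hr => hrel _ (Finset.mem_union_left _ (Finset.mem_union_right _ (Finset.mem_image_of_mem _ hr))))
  have hP : E.Prim := ⟨by rw [hEω]; exact hgen, by rw [hEω]; exact hspan⟩
  have hE : E.Rels := by
    refine (glue_iff E).1 fun r hr => ?_
    have ea : (E.pa : SLtwo F → G) = fun g => FreeGroup.lift fG (A g) := funext hEa
    have eb : (E.pb : SLtwo F → G) = fun g => FreeGroup.lift fG (B g) := funext hEb
    rw [hEω, ea, eb, ← map_glue] at hr
    obtain ⟨r', hr', rfl⟩ := List.mem_map.1 hr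
    exact hrel r' (Finset.mem_union_right _ (List.mem_toFinset.2 hr'))
  have hπa : ∀ g, π (E.pa g) = spA g := fun g => by
    rw [hEa, hmk]
    show FreeGroup.lift fS (A g) = _
    simp only [A, hfA, hW]
  have hπb : ∀ g, π (E.pb g) = spB g := fun g => by
    rw [hEb, hmk]
    show FreeGroup.lift fS (B g) = _
    simp only [B, hfB, hW]
  have hgenG : Subgroup.closure {E.xa 1, E.ha, E.wa, E.xb 1, E.hb, E.wb} = ⊤ := by
    set S : Subgroup G := Subgroup.closure {E.xa 1, E.ha, E.wa, E.xb 1, E.hb, E.wb} with hS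
    have memA : ∀ r, FreeGroup.lift (fG ∘ ixA) r = E.pa (FreeGroup.lift (ShortPres.slGen ω) r) := by
      intro r
      have hcA : ∀ r ∈ (↑R : Set ShortPres.Fr), FreeGroup.lift (fG ∘ ixA) r = 1 := fun r hr => by
        rw [← lift_map fG ixA]
        exact hrel _ (Finset.mem_union_left _ (Finset.mem_union_left _ (Finset.mem_image_of_mem _ hr)))
      rw [hEa]
      have e1 : FreeGroup.lift fG (A (FreeGroup.lift (ShortPres.slGen ω) r)) =
          FreeGroup.lift (fG ∘ ixA) (W (FreeGroup.lift (ShortPres.slGen ω) r)) := by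
        rw [← lift_map fG ixA]; rfl
      rw [e1]
      show PresentedGroup.toGroup hcA (PresentedGroup.mk _ r) = PresentedGroup.toGroup hcA (PresentedGroup.mk _ _)
      congr 1
      exact hbij.1 (hW _).symm
    have memB : ∀ r, FreeGroup.lift (fG ∘ ixB) r = E.pb (FreeGroup.lift (ShortPres.slGen ω) r) := by
      intro r
      have hcB : ∀ r ∈ (↑R : Set ShortPres.Fr), FreeGroup.lift (fG ∘ ixB) r = 1 := fun r hr => by
        rw [← lift_map fG ixB]
        exact hrel _ (Finset.mem_union_left _ (Finset.mem_union_right _ (Finset.mem_image_of_mem _ hr)))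
      rw [hEb]
      have e1 : FreeGroup.lift fG (B (FreeGroup.lift (ShortPres.slGen ω) r)) =
          FreeGroup.lift (fG ∘ ixB) (W (FreeGroup.lift (ShortPres.slGen ω) r)) := by
        rw [← lift_map fG ixB]; rfl
      rw [e1]
      show PresentedGroup.toGroup hcB (PresentedGroup.mk _ r) = PresentedGroup.toGroup hcB (PresentedGroup.mk _ _)
      congr 1
      exact hbij.1 (hW _).symm
    have a0 : fG 0 = E.xa 1 := by simpa [ixA, Emb.xa] using memA ShortPres.xg
    have a1 : fG 1 = E.ha := by simpa [ixA, Emb.ha, hEω] using memA ShortPres.hg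
    have a2 : fG 2 = E.wa := by simpa [ixA, Emb.wa] using memA ShortPres.wg
    have b0 : fG 3 = E.xb 1 := by simpa [ixB, Emb.xb] using memB ShortPres.xg
    have b1 : fG 4 = E.hb := by simpa [ixB, Emb.hb, hEω] using memB ShortPres.hg
    have b2 : fG 5 = E.wb := by simpa [ixB, Emb.wb] using memB ShortPres.wg
    rw [eq_top_iff, ← PresentedGroup.closure_range_of (↑rels : Set (FreeGroup (Fin 6))), Subgroup.closure_le]
    rintro _ ⟨i, rfl⟩
    refine Subgroup.subset_closure ?_
    show fG i ∈ ({E.xa 1, E.ha, E.wa, E.xb 1, E.hb, E.wb} : Set G)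
    fin_cases i <;> simp [a0, a1, a2, b0, b1, b2]
  obtain ⟨hfin, hcard⟩ := Emb.finite_and_card_le hP hE hgenG
  have hπsurj : Function.Surjective π := by
    rw [← MonoidHom.range_eq_top]
    exact Cfsg.Agent.Lib.SpFourPresentation.closure_eq_top _ (fun g => ⟨E.pa g, hπa g⟩) (fun g => ⟨E.pb g, hπb g⟩)
  have hSp : Nat.card G ≤ Nat.card (SpF F) := by
    refine le_trans hcard (le_of_eq ?_)
    rw [Cfsg.Agent.Lib.Classical.natCard_symplecticGroup, Nat.card_eq_fintype_card]
    have h1 : 1 ≤ Fintype.card F := Fintype.card_pos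
    simp only [Finset.prod_range_succ, Finset.prod_range_zero, one_mul, zero_add, Nat.reduceMul, Nat.reduceAdd, mul_one, Nat.reducePow]
    generalize Fintype.card F = q at h1 ⊢
    obtain ⟨k, rfl⟩ : ∃ k, q = k + 1 := ⟨q - 1, by omega⟩
    rw [Nat.add_sub_cancel]
    have h2 : (k + 1) ^ 2 - 1 = k * (k + 2) := by
      rw [show (k + 1) ^ 2 = k * (k + 2) + 1 by ring, Nat.add_sub_cancel]
    have h4 : (k + 1) ^ 4 - 1 = k * (k + 2) * ((k + 1) ^ 2 + 1) := by
      rw [show (k + 1) ^ 4 = k * (k + 2) * ((k + 1) ^ 2 + 1) + 1 by ring, Nat.add_sub_cancel]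
    rw [h2, h4]; ring
  let e := MulEquiv.ofBijective π (Function.Surjective.bijective_of_nat_card_le hπsurj hSp)
  refine ⟨⟨rels, by omega, ⟨e⟩⟩, ?_⟩
  have hz : e (PresentedGroup.mk _ (A (diag (-1)))) = spA (diag (-1)) := by
    show FreeGroup.lift fS (A (diag (-1))) = _
    simp only [A, hfA, hW]
  obtain ⟨e'⟩ := presented_quotient rels e (A (diag (-1))) (Subgroup.center (SpF F))
    (by rw [hz, Cfsg.Agent.Lib.Classical.center_symplecticGroup]; exact Or.inr std_neg_one)
    (fun n hn => by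
      rw [hz]
      rcases (Cfsg.Agent.Lib.Classical.center_symplecticGroup 2 n).1 hn with h | h
      · exact Or.inl (Subtype.ext h)
      · exact Or.inr (Subtype.ext (h.trans std_neg_one.symm)))
  exact ⟨insert (A (diag (-1))) rels, (Finset.card_insert_le _ _).trans (by omega), ⟨e'⟩⟩

end Cfsg.Agent.S2293
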