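import Cfsg.Statements.S2411
import Mathlib
import Cfsg.Agent.Lib.SympGen.TwoGen
-- import your own Cfsg.Agent.* helpers here

set_option autoImplicit false
open Cfsg

namespace Cfsg.Agent.S2411


/-- The projective symplectic group `PSp_{2m}(q)` with `m ≥ 2` (and `q > 2` if `m = 2`) is generated by two of its elements. -/
theorem result {F : Type*} [Field F] [Fintype F] (m : ℕ) (hm : 2 ≤ m) (hF : m = 2 → 2 < Fintype.card F) :
    ∃ a b : Cfsg.PSp m F, Subgroup.closure ({a, b} : Set (Cfsg.PSp m F)) = ⊤ := by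
  obtain ⟨n, rfl⟩ : ∃ n, m = n + 2 := ⟨m - 2, by omega⟩
  obtain ⟨a, b, hab⟩ : ∃ a b : Matrix.symplecticGroup (Fin (n + 2)) F,
      Subgroup.closure ({a, b} : Set (Matrix.symplecticGroup (Fin (n + 2)) F)) = ⊤ := by
    have hc : Nat.card F = Fintype.card F := Nat.card_eq_fintype_card
    have h2 : 2 ≤ Fintype.card F := Fintype.one_lt_card
    by_cases h4 : 4 ≤ Nat.card F
    · exact Lib.SympGen.exists_gen_big h4
    by_cases hn : 1 ≤ n
    · exact Lib.SympGen.exists_gen_small (p := Nat.card F) (by omega) rfl hn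
    · obtain rfl : n = 0 := by omega
      have := hF rfl
      exact Lib.SympGen.exists_gen_four (by omega)
  refine ⟨QuotientGroup.mk' _ a, QuotientGroup.mk' _ b, ?_⟩
  rw [← Set.image_pair, ← MonoidHom.map_closure, hab,
    Subgroup.map_top_of_surjective _ (QuotientGroup.mk'_surjective _)]

end Cfsg.Agent.S2411
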