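import Cfsg.Statements.S2292
import Cfsg.Agent.Lib.BoundedPresentation.SpPres
import Cfsg.Agent.S2293
import Cfsg.Agent.S2411
-- import your own Cfsg.Agent.* helpers here

set_option autoImplicit false
open Cfsg

namespace Cfsg.Agent.S2292

/-- Let F be a finite field with q elements and m ≥ 2 with (m, q) ≠ (2, 2). Then the simple group PSp_2m(F) has a presentation with 2 generators and at most 80 relations. -/
theorem result {F : Type*} [Field F] [Fintype F] (m : ℕ) (hm : 2 ≤ m) (h22 : ¬ (m = 2 ∧ Fintype.card F = 2)) :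
    ∃ rels : Finset (FreeGroup (Fin 2)), rels.card ≤ 80 ∧ Nonempty (PresentedGroup (↑rels : Set (FreeGroup (Fin 2))) ≃* Cfsg.PSp m F) := by
  obtain ⟨a, b, hab⟩ := Cfsg.Agent.S2411.result (F := F) m hm (fun h => by
    by_contra hq
    have := Fintype.one_lt_card (α := F)
    exact h22 ⟨h, by omega⟩)
  obtain ⟨ι, N, hP, hc⟩ : ∃ (ι : Type) (N : ι → Cfsg.PSp m F),
      Lib.BoundedPresentation.Pres N 78 ∧ Subgroup.closure (Set.range N) = ⊤ := by
    rcases (show m = 2 ∨ m = 3 ∨ 4 ≤ m by omega) with rfl | rfl | h4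
    · obtain ⟨-, R, hR, ⟨e⟩⟩ := Cfsg.Agent.S2293.result (F := F)
      obtain ⟨h1, h2⟩ := Lib.BoundedPresentation.Pres.of_presented hR e
      exact ⟨_, _, h1.mono (by omega), h2⟩
    · obtain ⟨N, h1, h2⟩ := Lib.BoundedPresentation.SpGlue.pres_sp_three F
      obtain ⟨N', h1', h2'⟩ := Lib.BoundedPresentation.SpGlue.pres_psp F (by omega) h1 h2
      exact ⟨_, N', h1'.mono (by omega), h2'⟩
    · obtain ⟨N, h1, h2⟩ := Lib.BoundedPresentation.SpGlue.pres_sp_ten F h4
      obtain ⟨N', h1', h2'⟩ := Lib.BoundedPresentation.SpGlue.pres_psp F (by omega) h1 h2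
      exact ⟨_, N', h1'.mono (by omega), h2'⟩
  exact Lib.BoundedPresentation.pres_two_gens hP hc hab

end Cfsg.Agent.S2292
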