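import Cfsg.Statements.S2295
import Cfsg.Agent.S2288
import Cfsg.Agent.Lib.OmegaPlusPres.Main
-- import your own Cfsg.Agent.* helpers here

set_option autoImplicit false
open Cfsg

namespace Cfsg.Agent.S2295

open Cfsg.Agent.Lib.OmegaPlusPres Cfsg.Agent.Lib.BoundedPresentation

/-- Let F be a finite field and n ≥ 4, and let Ω⁺_2n(F) be the commutator subgroup of the orthogonal group of the hyperbolic quadratic form Σ x_i y_i, with PΩ⁺_2n(F) its central quotient. Then Ω⁺_2n(F) has a presentation with 8 generators and at most 31 relations (at most 29 if n = 4 or 5), and PΩ⁺_2n(F) one with 8 generators and at most 32 relations (at most 30 if n = 4 or 5). -/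
theorem result {F : Type*} [Field F] [Fintype F] (n : ℕ) (hn : 4 ≤ n) :
    (∃ rels : Finset (FreeGroup (Fin 8)), rels.card ≤ 31 ∧ Nonempty (PresentedGroup (↑rels : Set (FreeGroup (Fin 8))) ≃* ↥(Cfsg.Omega F (Cfsg.quadFormPlus n F)))) ∧ (∃ rels : Finset (FreeGroup (Fin 8)), rels.card ≤ 32 ∧ Nonempty (PresentedGroup (↑rels : Set (FreeGroup (Fin 8))) ≃* Cfsg.POmega F (Cfsg.quadFormPlus n F))) ∧
    (n ≤ 5 → (∃ rels : Finset (FreeGroup (Fin 8)), rels.card ≤ 29 ∧ Nonempty (PresentedGroup (↑rels : Set (FreeGroup (Fin 8))) ≃* ↥(Cfsg.Omega F (Cfsg.quadFormPlus n F)))) ∧ (∃ rels : Finset (FreeGroup (Fin 8)), rels.card ≤ 30 ∧ Nonempty (PresentedGroup (↑rels : Set (FreeGroup (Fin 8))) ≃* Cfsg.POmega F (Cfsg.quadFormPlus n F)))) := by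
  obtain ⟨N, rfl⟩ : ∃ N, n = N + 4 := ⟨n - 4, by omega⟩
  obtain ⟨⟨R, hR, ⟨e⟩⟩, -, ⟨R4, hR4, ⟨e4⟩⟩, ⟨R5, hR5, ⟨e5⟩⟩⟩ :=
    Cfsg.Agent.S2288.result (F := F) (N + 4) (by omega)
  have small : N ≤ 1 →
      (∃ rels : Finset (FreeGroup (Fin 8)), rels.card ≤ 29 ∧ Nonempty (PresentedGroup (↑rels : Set (FreeGroup (Fin 8))) ≃* ↥(Cfsg.Omega F (Cfsg.quadFormPlus (N + 4) F)))) ∧
      (∃ rels : Finset (FreeGroup (Fin 8)), rels.card ≤ 30 ∧ Nonempty (PresentedGroup (↑rels : Set (FreeGroup (Fin 8))) ≃* Cfsg.POmega F (Cfsg.quadFormPlus (N + 4) F))) := by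
    intro hN
    rcases (show N = 0 ∨ N = 1 by omega) with rfl | rfl
    · obtain ⟨hP, hc⟩ := Pres.of_presented hR4 e4
      exact pres_omega (N := 0) hP hc 1 8 29 rfl (by simp)
    · obtain ⟨hP, hc⟩ := Pres.of_presented hR5 e5
      exact pres_omega (N := 1) hP hc 1 8 29 rfl (by simp)
  have big : (∃ rels : Finset (FreeGroup (Fin 8)), rels.card ≤ 31 ∧ Nonempty (PresentedGroup (↑rels : Set (FreeGroup (Fin 8))) ≃* ↥(Cfsg.Omega F (Cfsg.quadFormPlus (N + 4) F)))) ∧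
      (∃ rels : Finset (FreeGroup (Fin 8)), rels.card ≤ 32 ∧ Nonempty (PresentedGroup (↑rels : Set (FreeGroup (Fin 8))) ≃* Cfsg.POmega F (Cfsg.quadFormPlus (N + 4) F))) := by
    by_cases hN : N = 0
    · obtain ⟨⟨r1, h1, i1⟩, ⟨r2, h2, i2⟩⟩ := small (by omega)
      exact ⟨⟨r1, by omega, i1⟩, ⟨r2, by omega, i2⟩⟩
    · obtain ⟨hP, hc⟩ := Pres.of_presented hR e
      exact pres_omega hP hc 0 8 31 rfl (by simp [hN])
  exact ⟨big.1, big.2, fun h5 => small (by omega)⟩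

end Cfsg.Agent.S2295
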