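import Cfsg.Statements.S2296
import Cfsg.Agent.Lib.BoundedPresentation.SpPres
-- import your own Cfsg.Agent.* helpers here

set_option autoImplicit false
open Cfsg

namespace Cfsg.Agent.S2296

open Cfsg.Agent.Lib.BoundedPresentation

theorem both {F : Type*} [Field F] [Fintype F] {n k r : ℕ} (hn : 1 ≤ n)
    (h : ∃ N : Fin k → Matrix.symplecticGroup (Fin n) F, Pres N r ∧ Subgroup.closure (Set.range N) = ⊤) :
    (∃ rels : Finset (FreeGroup (Fin k)), rels.card ≤ r ∧ Nonempty (PresentedGroup (↑rels : Set (FreeGroup (Fin k))) ≃* Matrix.symplecticGroup (Fin n) F)) ∧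
    (∃ rels : Finset (FreeGroup (Fin k)), rels.card ≤ r + 1 ∧ Nonempty (PresentedGroup (↑rels : Set (FreeGroup (Fin k))) ≃* Cfsg.PSp n F)) := by
  obtain ⟨N, hP, hc⟩ := h
  obtain ⟨N', hP', hc'⟩ := SpGlue.pres_psp F hn hP hc
  exact ⟨hP.exists_rels hc, hP'.exists_rels hc'⟩

/-- Let F be a finite field. Sp_2n(F) has a presentation with 10 generators and at most 58 relations for n ≥ 4, with 9 generators and at most 57 relations for n = 4 or 5, and with 8 generators and at most 52 relations for n = 3; in each case PSp_2n(F) has a presentation with the same number of generators and at most one more relation. -/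
theorem result {F : Type*} [Field F] [Fintype F] (n : ℕ) :
    (4 ≤ n → (∃ rels : Finset (FreeGroup (Fin 10)), rels.card ≤ 58 ∧ Nonempty (PresentedGroup (↑rels : Set (FreeGroup (Fin 10))) ≃* Matrix.symplecticGroup (Fin n) F)) ∧ (∃ rels : Finset (FreeGroup (Fin 10)), rels.card ≤ 59 ∧ Nonempty (PresentedGroup (↑rels : Set (FreeGroup (Fin 10))) ≃* Cfsg.PSp n F))) ∧
    ((n = 4 ∨ n = 5) → (∃ rels : Finset (FreeGroup (Fin 9)), rels.card ≤ 57 ∧ Nonempty (PresentedGroup (↑rels : Set (FreeGroup (Fin 9))) ≃* Matrix.symplecticGroup (Fin n) F)) ∧ (∃ rels : Finset (FreeGroup (Fin 9)), rels.card ≤ 58 ∧ Nonempty (PresentedGroup (↑rels : Set (FreeGroup (Fin 9))) ≃* Cfsg.PSp n F))) ∧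
    (n = 3 → (∃ rels : Finset (FreeGroup (Fin 8)), rels.card ≤ 52 ∧ Nonempty (PresentedGroup (↑rels : Set (FreeGroup (Fin 8))) ≃* Matrix.symplecticGroup (Fin n) F)) ∧ (∃ rels : Finset (FreeGroup (Fin 8)), rels.card ≤ 53 ∧ Nonempty (PresentedGroup (↑rels : Set (FreeGroup (Fin 8))) ≃* Cfsg.PSp n F))) := by
  refine ⟨fun h => both (by omega) (SpGlue.pres_sp_ten F h), fun h => both (by omega) (SpGlue.pres_sp_nine F h),
    fun h => ?_⟩
  subst h
  exact both (by omega) (SpGlue.pres_sp_three F)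

end Cfsg.Agent.S2296
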