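import Cfsg.Statements.S2298
import Cfsg.Agent.Lib.RankSeries.GLTable

set_option autoImplicit false
open Cfsg

namespace Cfsg.Agent.S2298

open Cfsg.Agent.Lib Cfsg.Agent.Lib.RankSeries

attribute [-instance] MonoidHom.instPow MonoidHom.mul instOneMonoidHom MonoidHom.instCommMonoid
  MonoidHom.instInv MonoidHom.instDiv

/-- Over a finite field F with q elements, every irreducible complex character of GL₂ has degree 1, q − 1, q or q + 1; and when q ≥ 3 (so that these four numbers are distinct) there are exactly q − 1 irreducible characters of degree 1, exactly q − 1 of degree q, exactly (q − 1)(q − 2)/2 of degree q + 1 and exactly q(q − 1)/2 of degree q − 1. -/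
theorem result {F : Type*} [Field F] [Fintype F] :
    (∀ χ : Matrix.GeneralLinearGroup (Fin 2) F → ℂ, Cfsg.IsIrrCharacter (Matrix.GeneralLinearGroup (Fin 2) F) χ →
      χ 1 = 1 ∨ χ 1 = (Fintype.card F : ℂ) - 1 ∨ χ 1 = (Fintype.card F : ℂ) ∨ χ 1 = (Fintype.card F : ℂ) + 1) ∧
    (3 ≤ Fintype.card F →
      Nat.card {χ : Cfsg.IrrCharacter (Matrix.GeneralLinearGroup (Fin 2) F) // (χ : Matrix.GeneralLinearGroup (Fin 2) F → ℂ) 1 = 1} = Fintype.card F - 1 ∧
      Nat.card {χ : Cfsg.IrrCharacter (Matrix.GeneralLinearGroup (Fin 2) F) // (χ : Matrix.GeneralLinearGroup (Fin 2) F → ℂ) 1 = (Fintype.card F : ℂ)} = Fintype.card F - 1 ∧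
      Nat.card {χ : Cfsg.IrrCharacter (Matrix.GeneralLinearGroup (Fin 2) F) // (χ : Matrix.GeneralLinearGroup (Fin 2) F → ℂ) 1 = (Fintype.card F : ℂ) + 1} = (Fintype.card F - 1) * (Fintype.card F - 2) / 2 ∧
      Nat.card {χ : Cfsg.IrrCharacter (Matrix.GeneralLinearGroup (Fin 2) F) // (χ : Matrix.GeneralLinearGroup (Fin 2) F → ℂ) 1 = (Fintype.card F : ℂ) - 1} = Fintype.card F * (Fintype.card F - 1) / 2) := by
  classical
  obtain ⟨g₀, hg⟩ := exists_ell (F := F)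
  refine ⟨fun χ hχ => ?_, fun h3 => ?_⟩
  · rcases gl_classify hg hχ with ⟨-, h⟩ | ⟨-, h⟩ | ⟨-, h⟩ | ⟨-, h⟩ <;> simp [h]
  have hq : (3 : ℝ) ≤ Fintype.card F := by exact_mod_cast h3
  have ne : ∀ x : ℝ, x ≠ 0 → ∀ z w : ℂ, z - w = (x : ℂ) → z ≠ w := fun x hx z w h e => hx (by
    rw [e, sub_self] at h; exact_mod_cast h.symm)
  have n1 : (Fintype.card F : ℂ) ≠ 1 := ne (Fintype.card F - 1) (by linarith) _ _ (by push_cast; ring)
  have n2 : (Fintype.card F : ℂ) + 1 ≠ 1 := ne (Fintype.card F) (by linarith) _ _ (by push_cast; ring)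
  have n3 : (Fintype.card F : ℂ) - 1 ≠ 1 := ne (Fintype.card F - 2) (by linarith) _ _ (by push_cast; ring)
  have n4 : (Fintype.card F : ℂ) + 1 ≠ (Fintype.card F : ℂ) := ne 1 one_ne_zero _ _ (by push_cast; ring)
  have n5 : (Fintype.card F : ℂ) - 1 ≠ (Fintype.card F : ℂ) := ne (-1) (by norm_num) _ _ (by push_cast; ring)
  have n6 : (Fintype.card F : ℂ) + 1 ≠ (Fintype.card F : ℂ) - 1 := ne 2 (by norm_num) _ _ (by push_cast; ring)
  refine ⟨?_, ?_, ?_, ?_⟩
  · rw [natCard_irr_eq_card (linSet F) (fun φ hφ => by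
      obtain ⟨ν, rfl⟩ := mem_linSet.mp hφ
      exact linGL_irr ν) (fun φ => φ 1 = 1) fun φ hφ => ⟨fun h => ?_, fun h => by
        obtain ⟨ν, rfl⟩ := mem_linSet.mp h
        exact linGL_one ν⟩, card_linSet]
    rcases gl_classify hg hφ with ⟨m, h'⟩ | ⟨-, h'⟩ | ⟨-, h'⟩ | ⟨-, h'⟩
    exacts [m, absurd (h'.symm.trans h) n1, absurd (h'.symm.trans h) n2,
      absurd (h'.symm.trans h) n3]
  · rw [natCard_irr_eq_card (twistSet hg) (fun φ hφ => by
      obtain ⟨ν, rfl⟩ := (mem_twistSet hg).mp hφ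
      exact twistSt_irr hg ν) (fun φ => φ 1 = (Fintype.card F : ℂ)) fun φ hφ => ⟨fun h => ?_,
        fun h => by
          obtain ⟨ν, rfl⟩ := (mem_twistSet hg).mp h
          exact twistSt_one hg ν⟩, card_twistSet hg]
    rcases gl_classify hg hφ with ⟨-, h'⟩ | ⟨m, h'⟩ | ⟨-, h'⟩ | ⟨-, h'⟩
    exacts [absurd (h'.symm.trans h) n1.symm, m, absurd (h'.symm.trans h) n4,
      absurd (h'.symm.trans h) n5]
  · rw [natCard_irr_eq_card (glDatum hg).princSet (fun φ hφ => (glDatum hg).princSet_irr hφ)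
      (fun φ => φ 1 = (Fintype.card F : ℂ) + 1) fun φ hφ => ⟨fun h => ?_, gl_princ_one hg⟩]
    · have h1 := card_gl_princ hg
      obtain ⟨k, hk⟩ := Nat.exists_eq_add_of_le' h3
      rw [hk, show k + 3 - 1 = k + 2 from rfl] at h1
      rw [hk, show k + 3 - 1 = k + 2 from rfl, show k + 3 - 2 = k + 1 from rfl]
      have e : (k + 2) * (k + 2) = (k + 2) * (k + 1) + (k + 2) := by ring
      omega
    rcases gl_classify hg hφ with ⟨-, h'⟩ | ⟨-, h'⟩ | ⟨m, h'⟩ | ⟨-, h'⟩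
    exacts [absurd (h'.symm.trans h) n2.symm, absurd (h'.symm.trans h) n4.symm, m,
      absurd (h'.symm.trans h) n6.symm]
  · rw [natCard_irr_eq_card (glDatum hg).discSet (fun φ hφ => (glDatum hg).discSet_irr hφ)
      (fun φ => φ 1 = (Fintype.card F : ℂ) - 1) fun φ hφ => ⟨fun h => ?_, gl_disc_one hg⟩]
    · have h1 := card_gl_disc hg
      obtain ⟨k, hk⟩ := Nat.exists_eq_add_of_le' h3
      rw [hk, show k + 3 - 1 = k + 2 from rfl] at h1 ⊢
      have e : (k + 3) ^ 2 - 1 = (k + 3) * (k + 2) + (k + 2) := Nat.sub_eq_of_eq_add (by ring)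
      omega
    rcases gl_classify hg hφ with ⟨-, h'⟩ | ⟨-, h'⟩ | ⟨-, h'⟩ | ⟨m, h'⟩
    exacts [absurd (h'.symm.trans h) n3.symm, absurd (h'.symm.trans h) n5.symm,
      absurd (h'.symm.trans h) n6, m]

end Cfsg.Agent.S2298
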