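import Cfsg.Statements.S2299
import Cfsg.Agent.Lib.RankSeries.SLDegrees
import Cfsg.Agent.Lib.SL2.ToriExist
-- import your own Cfsg.Agent.* helpers here

set_option autoImplicit false
open Cfsg

namespace Cfsg.Agent.S2299

open Cfsg.Agent.Lib Cfsg.Agent.Lib.RankSeries Cfsg.Agent.Lib.SL2
open scoped ComplexConjugate

attribute [-instance] MonoidHom.instPow MonoidHom.mul instOneMonoidHom MonoidHom.instCommMonoid
  MonoidHom.instInv MonoidHom.instDiv


/-- Over a finite field F with q elements, q odd, every irreducible complex character of SL₂ has degree 1, q, q + 1, q − 1, (q + 1)/2 or (q − 1)/2; and when q ≥ 5 (so that these six numbers are distinct) there are exactly one irreducible character of degree 1, one of degree q, (q − 3)/2 of degree q + 1, (q − 1)/2 of degree q − 1, two of degree (q + 1)/2 and two of degree (q − 1)/2. -/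
theorem result {F : Type*} [Field F] [Fintype F] (hodd : Odd (Fintype.card F)) :
    (∀ χ : Matrix.SpecialLinearGroup (Fin 2) F → ℂ, Cfsg.IsIrrCharacter (Matrix.SpecialLinearGroup (Fin 2) F) χ →
      χ 1 = 1 ∨ χ 1 = (Fintype.card F : ℂ) ∨ χ 1 = (Fintype.card F : ℂ) + 1 ∨ χ 1 = (Fintype.card F : ℂ) - 1 ∨
        χ 1 = (((Fintype.card F + 1) / 2 : ℕ) : ℂ) ∨ χ 1 = (((Fintype.card F - 1) / 2 : ℕ) : ℂ)) ∧
    (5 ≤ Fintype.card F →
      Nat.card {χ : Cfsg.IrrCharacter (Matrix.SpecialLinearGroup (Fin 2) F) // (χ : Matrix.SpecialLinearGroup (Fin 2) F → ℂ) 1 = 1} = 1 ∧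
      Nat.card {χ : Cfsg.IrrCharacter (Matrix.SpecialLinearGroup (Fin 2) F) // (χ : Matrix.SpecialLinearGroup (Fin 2) F → ℂ) 1 = (Fintype.card F : ℂ)} = 1 ∧
      Nat.card {χ : Cfsg.IrrCharacter (Matrix.SpecialLinearGroup (Fin 2) F) // (χ : Matrix.SpecialLinearGroup (Fin 2) F → ℂ) 1 = (Fintype.card F : ℂ) + 1} = (Fintype.card F - 3) / 2 ∧
      Nat.card {χ : Cfsg.IrrCharacter (Matrix.SpecialLinearGroup (Fin 2) F) // (χ : Matrix.SpecialLinearGroup (Fin 2) F → ℂ) 1 = (Fintype.card F : ℂ) - 1} = (Fintype.card F - 1) / 2 ∧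
      Nat.card {χ : Cfsg.IrrCharacter (Matrix.SpecialLinearGroup (Fin 2) F) // (χ : Matrix.SpecialLinearGroup (Fin 2) F → ℂ) 1 = (((Fintype.card F + 1) / 2 : ℕ) : ℂ)} = 2 ∧
      Nat.card {χ : Cfsg.IrrCharacter (Matrix.SpecialLinearGroup (Fin 2) F) // (χ : Matrix.SpecialLinearGroup (Fin 2) F → ℂ) 1 = (((Fintype.card F - 1) / 2 : ℕ) : ℂ)} = 2) := by
  classical
  obtain ⟨g₀, hg₀⟩ := exists_elliptic (F := F)
  obtain ⟨μ₀, θ₀, a, a', b, b', T⟩ := exists_oddTable hg₀ hodd
  have h1 : 1 < Fintype.card F := Fintype.one_lt_card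
  refine ⟨fun χ hχ => ?_, fun h5 => ?_⟩
  · rcases T.complete χ hχ with rfl | rfl | h | h | rfl | rfl | rfl | rfl
    · exact Or.inl rfl
    · exact Or.inr (Or.inl St_degree)
    · refine Or.inr (Or.inr (Or.inl ?_))
      rw [princ_degree h]; push_cast; rfl
    · refine Or.inr (Or.inr (Or.inr (Or.inl ?_)))
      rw [disc_degree h, Nat.cast_sub Fintype.card_pos, Nat.cast_one]
    · exact Or.inr (Or.inr (Or.inr (Or.inr (Or.inl T.a_one))))
    · exact Or.inr (Or.inr (Or.inr (Or.inr (Or.inl T.a'_one))))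
    · exact Or.inr (Or.inr (Or.inr (Or.inr (Or.inr T.b_one))))
    · exact Or.inr (Or.inr (Or.inr (Or.inr (Or.inr T.b'_one))))
  · obtain ⟨k, hk⟩ := hodd
    have hp := card_princ hg₀
    have hd := card_disc hg₀
    rw [hk, show 2 * k + 1 - 1 = 2 * k by omega, Nat.gcd_eq_right (dvd_mul_right 2 k)] at hp
    rw [hk, show 2 * k + 1 + 1 = 2 * (k + 1) by omega, Nat.gcd_eq_right (dvd_mul_right 2 _)] at hd
    have key : ∀ (S : Finset (SLtwo F → ℂ)) (m : ℕ) (z : ℂ), (m : ℂ) = z →
        (∀ χ ∈ S, IsIrrCharacter (SLtwo F) χ ∧ χ 1 = (m : ℂ)) →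
        (∀ χ, IsIrrCharacter (SLtwo F) χ → χ 1 = (m : ℂ) → χ ∈ S) →
        Nat.card {χ : IrrCharacter (SLtwo F) // (χ : SLtwo F → ℂ) 1 = z} = S.card := by
      rintro S m z rfl hS hS'
      exact natCard_irr_eq_card S (fun χ hχ => (hS χ hχ).1) (fun χ => χ 1 = (m : ℂ))
        fun χ hχ => ⟨hS' χ hχ, fun h => (hS χ h).2⟩
    refine ⟨?_, ?_, ?_, ?_, ?_, ?_⟩
    · refine (key {fun _ => 1} 1 1 Nat.cast_one ?_ ?_).trans (Finset.card_singleton _)
      · intro χ h
        rw [Finset.mem_singleton] at h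
        subst h
        exact ⟨Chars.isIrrCharacter_one, Nat.cast_one.symm⟩
      · intro χ hχ h
        rw [Finset.mem_singleton]
        rcases T.of_degree hχ h with h | h | h | h | h | h <;> first | exact h.1 | omega
    · refine (key {(slDatum hg₀).St} _ _ rfl ?_ ?_).trans (Finset.card_singleton _)
      · intro χ h
        rw [Finset.mem_singleton] at h
        subst h
        exact ⟨(slDatum hg₀).St_irr, St_degree⟩
      · intro χ hχ h
        rw [Finset.mem_singleton]
        rcases T.of_degree hχ h with h | h | h | h | h | h <;> first | exact h.1 | omega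
    · refine (key (slDatum hg₀).princSet (Fintype.card F + 1) _ (by push_cast; rfl) ?_ ?_).trans
        (by omega)
      · exact fun χ h => ⟨(slDatum hg₀).princSet_irr h, princ_degree h⟩
      · intro χ hχ h
        rcases T.of_degree hχ h with h | h | h | h | h | h <;> first | exact h.1 | omega
    · refine (key (slDatum hg₀).discSet (Fintype.card F - 1) _
        (by rw [Nat.cast_sub Fintype.card_pos, Nat.cast_one]) ?_ ?_).trans (by omega)
      · exact fun χ h => ⟨(slDatum hg₀).discSet_irr h, disc_degree h⟩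
      · intro χ hχ h
        rcases T.of_degree hχ h with h | h | h | h | h | h <;> first | exact h.1 | omega
    · refine (key {a, a'} _ _ rfl ?_ ?_).trans (Finset.card_pair T.a_ne)
      · intro χ h
        simp only [Finset.mem_insert, Finset.mem_singleton] at h
        rcases h with rfl | rfl
        · exact ⟨T.a_irr, T.a_one⟩
        · exact ⟨T.a'_irr, T.a'_one⟩
      · intro χ hχ h
        simp only [Finset.mem_insert, Finset.mem_singleton]
        rcases T.of_degree hχ h with h | h | h | h | h | h <;> first | exact h.1 | omega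
    · refine (key {b, b'} _ _ rfl ?_ ?_).trans (Finset.card_pair T.b_ne)
      · intro χ h
        simp only [Finset.mem_insert, Finset.mem_singleton] at h
        rcases h with rfl | rfl
        · exact ⟨T.b_irr, T.b_one⟩
        · exact ⟨T.b'_irr, T.b'_one⟩
      · intro χ hχ h
        simp only [Finset.mem_insert, Finset.mem_singleton]
        rcases T.of_degree hχ h with h | h | h | h | h | h <;> first | exact h.1 | omega

end Cfsg.Agent.S2299
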