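import Cfsg.Statements.S2300
import Cfsg.Agent.Lib.RankSeries.SLDegrees
import Cfsg.Agent.Lib.SL2.ToriExist
-- import your own Cfsg.Agent.* helpers here

set_option autoImplicit false
open Cfsg

namespace Cfsg.Agent.S2300

open Cfsg.Agent.Lib Cfsg.Agent.Lib.RankSeries Cfsg.Agent.Lib.SL2
open scoped ComplexConjugate

attribute [-instance] MonoidHom.instPow MonoidHom.mul instOneMonoidHom MonoidHom.instCommMonoid
  MonoidHom.instInv MonoidHom.instDiv


/-- Over a finite field F with q elements, q even, every irreducible complex character of SL₂ has degree 1, q − 1, q or q + 1; and when q ≥ 4 (so that these four numbers are distinct) there are exactly one irreducible character of degree 1, one of degree q, (q − 2)/2 of degree q + 1 and q/2 of degree q − 1. -/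
theorem result {F : Type*} [Field F] [Fintype F] [CharP F 2] :
    (∀ χ : Matrix.SpecialLinearGroup (Fin 2) F → ℂ, Cfsg.IsIrrCharacter (Matrix.SpecialLinearGroup (Fin 2) F) χ →
      χ 1 = 1 ∨ χ 1 = (Fintype.card F : ℂ) - 1 ∨ χ 1 = (Fintype.card F : ℂ) ∨ χ 1 = (Fintype.card F : ℂ) + 1) ∧
    (4 ≤ Fintype.card F →
      Nat.card {χ : Cfsg.IrrCharacter (Matrix.SpecialLinearGroup (Fin 2) F) // (χ : Matrix.SpecialLinearGroup (Fin 2) F → ℂ) 1 = 1} = 1 ∧
      Nat.card {χ : Cfsg.IrrCharacter (Matrix.SpecialLinearGroup (Fin 2) F) // (χ : Matrix.SpecialLinearGroup (Fin 2) F → ℂ) 1 = (Fintype.card F : ℂ)} = 1 ∧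
      Nat.card {χ : Cfsg.IrrCharacter (Matrix.SpecialLinearGroup (Fin 2) F) // (χ : Matrix.SpecialLinearGroup (Fin 2) F → ℂ) 1 = (Fintype.card F : ℂ) + 1} = (Fintype.card F - 2) / 2 ∧
      Nat.card {χ : Cfsg.IrrCharacter (Matrix.SpecialLinearGroup (Fin 2) F) // (χ : Matrix.SpecialLinearGroup (Fin 2) F → ℂ) 1 = (Fintype.card F : ℂ) - 1} = Fintype.card F / 2) := by
  classical
  obtain ⟨g₀, hg₀⟩ := exists_elliptic (F := F)
  have h2 : (2 : F) = 0 := by simpa using CharP.cast_eq_zero F 2
  refine ⟨fun χ hχ => ?_, fun h4 => ?_⟩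
  · rcases even_complete hg₀ h2 χ hχ with rfl | rfl | h | h
    · exact Or.inl rfl
    · exact Or.inr (Or.inr (Or.inl St_degree))
    · refine Or.inr (Or.inr (Or.inr ?_))
      rw [princ_degree h]; push_cast; rfl
    · refine Or.inr (Or.inl ?_)
      rw [disc_degree h, Nat.cast_sub Fintype.card_pos, Nat.cast_one]
  · obtain ⟨hp, hd⟩ := card_series_even hg₀ h2
    have key : ∀ (S : Finset (SLtwo F → ℂ)) (m : ℕ) (z : ℂ), (m : ℂ) = z →
        (∀ χ ∈ S, IsIrrCharacter (SLtwo F) χ ∧ χ 1 = (m : ℂ)) →
        (∀ χ, IsIrrCharacter (SLtwo F) χ → χ 1 = (m : ℂ) → χ ∈ S) →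
        Nat.card {χ : IrrCharacter (SLtwo F) // (χ : SLtwo F → ℂ) 1 = z} = S.card := by
      rintro S m z rfl hS hS'
      exact natCard_irr_eq_card S (fun χ hχ => (hS χ hχ).1) (fun χ => χ 1 = (m : ℂ))
        fun χ hχ => ⟨hS' χ hχ, fun h => (hS χ h).2⟩
    refine ⟨?_, ?_, ?_, ?_⟩
    · refine (key {fun _ => 1} 1 1 Nat.cast_one ?_ ?_).trans (Finset.card_singleton _)
      · intro χ h
        rw [Finset.mem_singleton] at h
        subst h
        exact ⟨Chars.isIrrCharacter_one, Nat.cast_one.symm⟩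
      · intro χ hχ h
        rw [Finset.mem_singleton]
        rcases even_of_degree hg₀ h2 hχ h with h | h | h | h <;> first | exact h.1 | omega
    · refine (key {(slDatum hg₀).St} _ _ rfl ?_ ?_).trans (Finset.card_singleton _)
      · intro χ h
        rw [Finset.mem_singleton] at h
        subst h
        exact ⟨(slDatum hg₀).St_irr, St_degree⟩
      · intro χ hχ h
        rw [Finset.mem_singleton]
        rcases even_of_degree hg₀ h2 hχ h with h | h | h | h <;> first | exact h.1 | omega
    · refine (key (slDatum hg₀).princSet (Fintype.card F + 1) _ (by push_cast; rfl) ?_ ?_).trans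
        (by omega)
      · exact fun χ h => ⟨(slDatum hg₀).princSet_irr h, princ_degree h⟩
      · intro χ hχ h
        rcases even_of_degree hg₀ h2 hχ h with h | h | h | h <;> first | exact h.1 | omega
    · refine (key (slDatum hg₀).discSet (Fintype.card F - 1) _
        (by rw [Nat.cast_sub Fintype.card_pos, Nat.cast_one]) ?_ ?_).trans (by omega)
      · exact fun χ h => ⟨(slDatum hg₀).discSet_irr h, disc_degree h⟩
      · intro χ hχ h
        rcases even_of_degree hg₀ h2 hχ h with h | h | h | h <;> first | exact h.1 | omega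

end Cfsg.Agent.S2300
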