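import Cfsg.Statements.S2301
import Mathlib
import Cfsg.Agent.Lib.SL2.Classes

set_option autoImplicit false
open Cfsg

namespace Cfsg.Agent.S2301

open Cfsg.Agent.Lib.SL2

/-- Over a finite field with q elements of odd characteristic p, the elements of order p of SL₂ (the non-identity unipotent elements) fall into exactly two conjugacy classes, each of size (q² − 1)/2; two upper unitriangular matrices with non-zero off-diagonal entries b and b′ are conjugate exactly when bb′ is a square. -/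
theorem result {F : Type*} [Field F] [Fintype F] (p : ℕ) [Fact p.Prime] [CharP F p] (hp : p ≠ 2) :
    Nat.card {C : ConjClasses (Matrix.SpecialLinearGroup (Fin 2) F) // ∃ g : Matrix.SpecialLinearGroup (Fin 2) F, orderOf g = p ∧ ConjClasses.mk g = C} = 2 ∧
    (∀ g : Matrix.SpecialLinearGroup (Fin 2) F, orderOf g = p → Nat.card (ConjClasses.mk g).carrier = (Fintype.card F ^ 2 - 1) / 2) ∧
    ∀ g h : Matrix.SpecialLinearGroup (Fin 2) F, (g : Matrix (Fin 2) (Fin 2) F) 0 0 = 1 → (g : Matrix (Fin 2) (Fin 2) F) 1 1 = 1 → (g : Matrix (Fin 2) (Fin 2) F) 1 0 = 0 → (g : Matrix (Fin 2) (Fin 2) F) 0 1 ≠ 0 →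
      (h : Matrix (Fin 2) (Fin 2) F) 0 0 = 1 → (h : Matrix (Fin 2) (Fin 2) F) 1 1 = 1 → (h : Matrix (Fin 2) (Fin 2) F) 1 0 = 0 → (h : Matrix (Fin 2) (Fin 2) F) 0 1 ≠ 0 →
      (IsConj g h ↔ IsSquare ((g : Matrix (Fin 2) (Fin 2) F) 0 1 * (h : Matrix (Fin 2) (Fin 2) F) 0 1)) := by
  classical
  have hodd : Odd (Fintype.card F) := Nat.odd_iff.2
    (FiniteField.odd_card_of_char_ne_two (by rw [ringChar.eq F p]; exact hp))
  have h2 : (2 : F) ≠ 0 := two_ne_zero_iff_odd.2 hodd
  have key : ∀ g : SLtwo F, orderOf g = p ↔ g ∉ Subgroup.center (SLtwo F) ∧ tr g = 2 := by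
    intro g
    rw [orderOf_eq_char_iff p]
    refine ⟨fun ⟨hne, ht⟩ => ⟨fun hc => ?_, ht⟩, fun ⟨hc, ht⟩ => ⟨fun e => hc (e ▸ Subgroup.one_mem _), ht⟩⟩
    rcases (mem_center_iff_eq g).1 hc with e | e
    · exact hne e
    · subst e
      simp [tr] at ht
      exact two_ne_neg_two h2 (by linear_combination -ht)
  refine ⟨?_, ?_, ?_⟩
  · obtain ⟨ν, hν⟩ := FiniteField.exists_nonsquare (show ringChar F ≠ 2 by
      rw [ringChar.eq F p]; exact hp)
    have hν0 : ν ≠ 0 := fun h => hν (h ▸ IsSquare.zero)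
    have hord : ∀ c : Fˣ, orderOf (comp (2 : F) c) = p := fun c =>
      (key _).2 ⟨comp_notMem_center _ _, tr_comp _ _⟩
    rw [Nat.card_eq_two_iff]
    refine ⟨⟨ConjClasses.mk (comp 2 1), comp 2 1, hord 1, rfl⟩,
      ⟨ConjClasses.mk (comp 2 (Units.mk0 ν hν0)), _, hord _, rfl⟩, ?_, ?_⟩
    · intro h
      have h' := ConjClasses.mk_eq_mk_iff_isConj.1 (congrArg Subtype.val h)
      rw [isConj_comp_iff (Or.inl rfl)] at h'
      exact hν (h'.1 (by simp))
    · refine Set.eq_univ_of_forall ?_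
      rintro ⟨C, g, hg, rfl⟩
      obtain ⟨hgn, ht⟩ := (key g).1 hg
      obtain ⟨v, hv⟩ := exists_cycForm_ne_zero (not_isScalarMat hgn)
      have hc := isConj_comp (Units.mk0 _ hv) (v := v) rfl
      rw [ht] at hc
      by_cases hs : IsSquare (cycForm (g : Matrix (Fin 2) (Fin 2) F) v)
      · refine Or.inl (Subtype.ext (ConjClasses.mk_eq_mk_iff_isConj.2 (hc.trans ?_)))
        rw [isConj_comp_iff (Or.inl rfl)]
        simp [hs]
      · refine Or.inr (Subtype.ext (ConjClasses.mk_eq_mk_iff_isConj.2 (hc.trans ?_)))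
        rw [isConj_comp_iff (Or.inl rfl)]
        simp [hs, hν]
  · intro g hg
    obtain ⟨hgn, ht⟩ := (key g).1 hg
    have h1 := card_class_mul_centralizer g
    rw [card_centralizer_parabolic hgn (Or.inl ht), card_SLtwo,
      Nat.gcd_eq_left (show 2 ∣ Fintype.card F - 1 from by
        obtain ⟨k, hk⟩ := hodd
        exact ⟨k, by omega⟩)] at h1
    have h3 : Nat.card (ConjClasses.mk g).carrier * 2 = Fintype.card F ^ 2 - 1 :=
      Nat.eq_of_mul_eq_mul_right (Fintype.card_pos (α := F)) (by rw [mul_assoc]; linarith)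
    omega
  · intro g h g00 g11 g10 g01 h00 h11 h10 h01
    have hv : cycForm (g : Matrix (Fin 2) (Fin 2) F) (0, 1) = -g 0 1 := by simp [cycForm]
    have hw : cycForm (h : Matrix (Fin 2) (Fin 2) F) (0, 1) = -h 0 1 := by simp [cycForm]
    have htg : tr g = 2 := by simp [tr, g00, g11]; norm_num
    have hth : tr h = 2 := by simp [tr, h00, h11]; norm_num
    rw [isConj_parabolic_iff (Or.inl htg) (htg.trans hth.symm) (v := (0, 1)) (w := (0, 1))
      (by rw [hv]; simpa using g01) (by rw [hw]; simpa using h01), hv, hw, neg_mul_neg]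

end Cfsg.Agent.S2301
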