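import Cfsg.Statements.S2302
import Mathlib
import Cfsg.Agent.Lib.SL2.Classes

set_option autoImplicit false
open Cfsg

namespace Cfsg.Agent.S2302

open Cfsg.Agent.Lib.SL2

/-- Over a finite field with q elements of characteristic 2, the involutions of SL₂ (the non-identity unipotent elements) form a single conjugacy class, of size q² − 1. -/
theorem result {F : Type*} [Field F] [Fintype F] [CharP F 2] (g h : Matrix.SpecialLinearGroup (Fin 2) F) (hg : orderOf g = 2) (hh : orderOf h = 2) :
    IsConj g h ∧ Nat.card (ConjClasses.mk g).carrier = Fintype.card F ^ 2 - 1 := by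
  have h2 : (2 : F) = 0 := by exact_mod_cast CharP.cast_eq_zero F 2
  have hchar : ringChar F = 2 := ringChar.eq F 2
  have key : ∀ x : SLtwo F, orderOf x = 2 → x ∉ Subgroup.center (SLtwo F) ∧ tr x = 2 := by
    intro x hx
    obtain ⟨hne, ht⟩ := (orderOf_eq_char_iff 2).1 hx
    exact ⟨by rw [center_eq_bot_even h2, Subgroup.mem_bot]; exact hne, ht⟩
  obtain ⟨hgn, htg⟩ := key g hg
  obtain ⟨hhn, hth⟩ := key h hh
  refine ⟨?_, ?_⟩
  · obtain ⟨v, hv⟩ := exists_cycForm_ne_zero (not_isScalarMat hgn)
    obtain ⟨w, hw⟩ := exists_cycForm_ne_zero (not_isScalarMat hhn)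
    exact (isConj_parabolic_iff (Or.inl htg) (htg.trans hth.symm) hv hw).2
      (FiniteField.isSquare_of_char_two hchar _)
  · have h1 := card_class_mul_centralizer g
    rw [card_centralizer_parabolic hgn (Or.inl htg), card_SLtwo] at h1
    have heven : Fintype.card F % 2 = 0 := FiniteField.even_card_of_char_two hchar
    have hpos : 0 < Fintype.card F := Fintype.card_pos
    rw [Nat.gcd_rec, show (Fintype.card F - 1) % 2 = 1 by omega] at h1
    simp only [Nat.gcd_one_left, one_mul] at h1
    exact Nat.eq_of_mul_eq_mul_right hpos (h1.trans (mul_comm _ _))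

end Cfsg.Agent.S2302
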