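import Cfsg.Statements.S2303
import Mathlib
import Cfsg.Agent.Lib.SL2.Classes

set_option autoImplicit false
open Cfsg

namespace Cfsg.Agent.S2303

open Cfsg.Agent.Lib.SL2

/-- Over a finite field with q elements: a diagonal element of GL₂ with two distinct diagonal entries has centralizer of order (q − 1)² (so q(q + 1) conjugates), and an element of GL₂ with no eigenvector in F² has centralizer of order q² − 1 (so q(q − 1) conjugates). -/
theorem result {F : Type*} [Field F] [Fintype F] (g : Matrix.GeneralLinearGroup (Fin 2) F) :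
    ((g : Matrix (Fin 2) (Fin 2) F) 0 1 = 0 → (g : Matrix (Fin 2) (Fin 2) F) 1 0 = 0 → (g : Matrix (Fin 2) (Fin 2) F) 0 0 ≠ (g : Matrix (Fin 2) (Fin 2) F) 1 1 →
      Nat.card (Subgroup.centralizer ({g} : Set (Matrix.GeneralLinearGroup (Fin 2) F))) = (Fintype.card F - 1) ^ 2) ∧
    ((∀ (c : F) (v : Fin 2 → F), v ≠ 0 → (g : Matrix (Fin 2) (Fin 2) F).mulVec v ≠ c • v) →
      Nat.card (Subgroup.centralizer ({g} : Set (Matrix.GeneralLinearGroup (Fin 2) F))) = Fintype.card F ^ 2 - 1) := by
  classical
  set M := (g : Matrix (Fin 2) (Fin 2) F) with hM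
  have hcard : ¬ IsScalarMat M →
      Nat.card (Subgroup.centralizer ({g} : Set (GL (Fin 2) F))) +
        Nat.card {z : F × F // normForm (M 0 0 + M 1 1) M.det z = 0} = Fintype.card F ^ 2 := by
    intro hns
    have hf : ∀ z : {z : F × F // normForm (M 0 0 + M 1 1) M.det z ≠ 0},
        IsUnit (commElt M z.1).det := fun z => by
      rw [det_commElt]; exact Ne.isUnit z.2
    have e : {z : F × F // normForm (M 0 0 + M 1 1) M.det z ≠ 0} ≃
        Subgroup.centralizer ({g} : Set (GL (Fin 2) F)) := Equiv.ofBijective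
      (fun z => ⟨(commElt M z.1).nonsingInvUnit (hf z),
        Subgroup.mem_centralizer_singleton_iff.2 (Units.ext (commElt_commute M z.1))⟩)
      ⟨fun z w h => Subtype.ext (commElt_injective hns
          (congrArg (fun x : Subgroup.centralizer ({g} : Set (GL (Fin 2) F)) =>
            ((x : GL (Fin 2) F) : Matrix (Fin 2) (Fin 2) F)) h)),
        fun x => by
          obtain ⟨z, hz⟩ := exists_commElt hns
            (congrArg Units.val (Subgroup.mem_centralizer_singleton_iff.1 x.2))
          refine ⟨⟨z, ?_⟩, Subtype.ext (Units.ext hz.symm)⟩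
          rw [← det_commElt, ← hz]
          exact Matrix.GeneralLinearGroup.det_ne_zero _⟩
    rw [← Nat.card_congr e]
    simp only [Nat.card_eq_fintype_card]
    rw [Fintype.card_subtype_compl, Fintype.card_prod, sq]
    exact Nat.sub_add_cancel ((Fintype.card_subtype_le _).trans (Fintype.card_prod F F).le)
  have h1q : 1 ≤ Fintype.card F := Fintype.card_pos
  refine ⟨fun h01 h10 hne => ?_, fun hno => ?_⟩
  · have h := hcard fun hs => hne hs.2.2
    have hz : Nat.card {z : F × F // normForm (M 0 0 + M 1 1) M.det z = 0} =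
        2 * Fintype.card F - 1 := by
      have hd : M.det = M 0 0 * M 1 1 := by
        rw [Matrix.det_fin_two, show M 0 1 = 0 from h01]; ring
      rw [hd, Nat.card_congr ((splitEquiv (l := M 0 0) (m := M 1 1) hne).subtypeEquiv
        (q := fun w => w.1 * w.2 = 0) fun z => by rw [normForm_eq_of_roots rfl rfl]; rfl),
        Nat.card_eq_fintype_card, Fintype.card_subtype]
      rw [show (Finset.univ.filter fun w : F × F => w.1 * w.2 = 0) =
          ({0} ×ˢ Finset.univ) ∪ (Finset.univ ×ˢ {0}) by ext ⟨a, b⟩; simp [eq_comm]]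
      rw [Finset.card_union, show (({0} : Finset F) ×ˢ (Finset.univ : Finset F)) ∩
        ((Finset.univ : Finset F) ×ˢ {0}) = {((0 : F), (0 : F))} by
          ext ⟨a, b⟩; simp [eq_comm]]
      simp
      omega
    rw [hz] at h
    have : (Fintype.card F - 1) ^ 2 + (2 * Fintype.card F - 1) = Fintype.card F ^ 2 := by
      obtain ⟨k, hk⟩ := Nat.exists_eq_add_of_le h1q
      rw [hk, Nat.add_sub_cancel_left, show 2 * (1 + k) - 1 = 2 * k + 1 by omega]
      ring
    omega
  · have hno' : NoRoot (M 0 0 + M 1 1) M.det := by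
      intro x hx
      obtain ⟨v, hv, hv'⟩ := Matrix.exists_mulVec_eq_zero_iff.2
        (show (M - x • 1).det = 0 by
          simp [Matrix.det_fin_two] at hx ⊢
          linear_combination hx)
      refine hno x v hv ?_
      rwa [Matrix.sub_mulVec, sub_eq_zero, Matrix.smul_mulVec, Matrix.one_mulVec] at hv'
    have h := hcard fun hs => by
      obtain ⟨h01, h10, h11⟩ := hs
      refine hno' (M 0 0) ?_
      rw [Matrix.det_fin_two, h01, h11]
      ring
    have hz : Nat.card {z : F × F // normForm (M 0 0 + M 1 1) M.det z = 0} = 1 := by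
      have : Unique {z : F × F // normForm (M 0 0 + M 1 1) M.det z = 0} :=
        ⟨⟨⟨0, (normForm_eq_zero_iff_of_noRoot hno' 0).2 rfl⟩⟩, fun z =>
          Subtype.ext ((normForm_eq_zero_iff_of_noRoot hno' z.1).1 z.2)⟩
      exact Nat.card_unique
    omega

end Cfsg.Agent.S2303
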