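import Cfsg.Statements.S2304
import Cfsg.Agent.Lib.RankSeries.GLTable

set_option autoImplicit false
open Cfsg

namespace Cfsg.Agent.S2304

open Cfsg.Agent.Lib Cfsg.Agent.Lib.RankSeries

attribute [-instance] MonoidHom.instPow MonoidHom.mul instOneMonoidHom MonoidHom.instCommMonoid
  MonoidHom.instInv MonoidHom.instDiv

/-- Over a finite field F with q elements, for multiplicative characters α ≠ β of F, the function induced to GL₂ from the linear character b ↦ α(b₁₁) β(b₂₂) of the upper triangular subgroup B is an irreducible character (of degree q + 1). -/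
theorem result {F : Type*} [Field F] [Fintype F] [DecidableEq F] (α β : MulChar F ℂ) (hαβ : α ≠ β) :
    Cfsg.IsIrrCharacter (Matrix.GeneralLinearGroup (Fin 2) F) (Cfsg.indFun (Cfsg.upperTriangularGL 2 F) (fun b => α (((b : Matrix.GeneralLinearGroup (Fin 2) F) : Matrix (Fin 2) (Fin 2) F) 0 0) * β (((b : Matrix.GeneralLinearGroup (Fin 2) F) : Matrix (Fin 2) (Fin 2) F) 1 1))) := by
  obtain ⟨g₀, hg⟩ := exists_ell (F := F)
  let pr : MulChar F ℂ → MulChar F ℂ → (Fˣ × Fˣ →* ℂˣ) := fun α β =>
    mulMonoidHom.comp (α.toUnitHom.prodMap β.toUnitHom)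
  have hpr : ∀ α β : MulChar F ℂ, indFun (upperTriangularGL 2 F) (fun b =>
      α (((b : Matrix.GeneralLinearGroup (Fin 2) F) : Matrix (Fin 2) (Fin 2) F) 0 0) *
        β (((b : Matrix.GeneralLinearGroup (Fin 2) F) : Matrix (Fin 2) (Fin 2) F) 1 1)) =
      (glDatum hg).R (pr α β) := fun α β => by
    unfold Datum.R
    congr 1
  rw [hpr]
  refine (glDatum hg).R_irr fun h => hαβ (MulChar.ext fun u => ?_)
  have h' := congrArg Units.val (DFunLike.congr_fun h (u, 1))
  change ((α.toUnitHom 1 * β.toUnitHom u : ℂˣ) : ℂ) = ((α.toUnitHom u * β.toUnitHom 1 : ℂˣ) : ℂ) at h'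
  simp only [map_one, one_mul, mul_one, MulChar.coe_toUnitHom] at h'
  exact h'.symm

end Cfsg.Agent.S2304
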