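import Cfsg.Statements.S2305
import Cfsg.Agent.Lib.RankSeries.GLTable

set_option autoImplicit false
open Cfsg

namespace Cfsg.Agent.S2305

open Cfsg.Agent.Lib Cfsg.Agent.Lib.RankSeries

attribute [-instance] MonoidHom.instPow MonoidHom.mul instOneMonoidHom MonoidHom.instCommMonoid
  MonoidHom.instInv MonoidHom.instDiv

/-- Over a finite field F, for multiplicative characters α, β, α′, β′ of F, the characters of GL₂ induced from the linear characters b ↦ α(b₁₁) β(b₂₂) and b ↦ α′(b₁₁) β′(b₂₂) of the upper triangular subgroup coincide exactly when {α, β} = {α′, β′} as unordered pairs. -/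
theorem result {F : Type*} [Field F] [Fintype F] [DecidableEq F] (α β α' β' : MulChar F ℂ) :
    Cfsg.indFun (Cfsg.upperTriangularGL 2 F) (fun b => α (((b : Matrix.GeneralLinearGroup (Fin 2) F) : Matrix (Fin 2) (Fin 2) F) 0 0) * β (((b : Matrix.GeneralLinearGroup (Fin 2) F) : Matrix (Fin 2) (Fin 2) F) 1 1)) = Cfsg.indFun (Cfsg.upperTriangularGL 2 F) (fun b => α' (((b : Matrix.GeneralLinearGroup (Fin 2) F) : Matrix (Fin 2) (Fin 2) F) 0 0) * β' (((b : Matrix.GeneralLinearGroup (Fin 2) F) : Matrix (Fin 2) (Fin 2) F) 1 1)) ↔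
      (α = α' ∧ β = β') ∨ (α = β' ∧ β = α') := by
  obtain ⟨g₀, hg⟩ := exists_ell (F := F)
  let pr : MulChar F ℂ → MulChar F ℂ → (Fˣ × Fˣ →* ℂˣ) := fun α β =>
    mulMonoidHom.comp (α.toUnitHom.prodMap β.toUnitHom)
  have hpr : ∀ α β : MulChar F ℂ, indFun (upperTriangularGL 2 F) (fun b =>
      α (((b : Matrix.GeneralLinearGroup (Fin 2) F) : Matrix (Fin 2) (Fin 2) F) 0 0) *
        β (((b : Matrix.GeneralLinearGroup (Fin 2) F) : Matrix (Fin 2) (Fin 2) F) 1 1)) =
      (glDatum hg).R (pr α β) := fun α β => by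
    unfold Datum.R
    congr 1
  rw [hpr, hpr, Datum.R_eq_iff]
  have key : ∀ γ δ γ' δ' : MulChar F ℂ, pr γ δ = pr γ' δ' → γ = γ' ∧ δ = δ' := fun γ δ γ' δ' h =>
    ⟨MulChar.ext fun u => by
      have h' := congrArg Units.val (DFunLike.congr_fun h (u, 1))
      simpa [pr, MonoidHom.prodMap] using h',
    MulChar.ext fun u => by
      have h' := congrArg Units.val (DFunLike.congr_fun h (1, u))
      simpa [pr, MonoidHom.prodMap] using h'⟩
  have hswap : ∀ γ δ : MulChar F ℂ, (pr γ δ).comp (glDatum hg).τ = pr δ γ := fun γ δ =>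
    MonoidHom.ext fun x => mul_comm _ _
  rw [hswap]
  constructor
  · rintro (h | h) <;> obtain ⟨rfl, rfl⟩ := key _ _ _ _ h
    · exact Or.inl ⟨rfl, rfl⟩
    · exact Or.inr ⟨rfl, rfl⟩
  · rintro (⟨rfl, rfl⟩ | ⟨rfl, rfl⟩)
    · exact Or.inl rfl
    · exact Or.inr rfl

end Cfsg.Agent.S2305
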