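import Cfsg.Statements.S2306
import Cfsg.Agent.Lib.RankSeries.SLMulChar
-- import your own Cfsg.Agent.* helpers here

set_option autoImplicit false
open Cfsg

namespace Cfsg.Agent.S2306

open Cfsg.Agent.Lib Cfsg.Agent.Lib.RankSeries Cfsg.Agent.Lib.SL2

attribute [-instance] MonoidHom.instPow MonoidHom.mul instOneMonoidHom MonoidHom.instCommMonoid
  MonoidHom.instInv MonoidHom.instDiv


/-- Over a finite field F, for a multiplicative character α of F, the function induced to SL₂ from the linear character b ↦ α(b₁₁) of the upper triangular subgroup is an irreducible character if and only if α² ≠ 1. -/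
theorem result {F : Type*} [Field F] [Fintype F] [DecidableEq F] (α : MulChar F ℂ) :
    Cfsg.IsIrrCharacter (Matrix.SpecialLinearGroup (Fin 2) F) (Cfsg.indFun ((Cfsg.upperTriangularGL 2 F).comap Matrix.SpecialLinearGroup.toGL) (fun b => α (((b : Matrix.SpecialLinearGroup (Fin 2) F) : Matrix (Fin 2) (Fin 2) F) 0 0))) ↔ α ^ 2 ≠ 1 := by
  classical
  obtain ⟨g₀, hg₀⟩ := exists_elliptic (F := F)
  rw [indFun_mulChar hg₀, ← comp_tau_ne_iff hg₀]
  refine ⟨fun h hfix => ?_, (slDatum hg₀).R_irr⟩
  have h1 := (Chars.isIrrCharacter_iff_classInner_eq_one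
    ((slDatum hg₀).R_isCharacter _)).mp h
  rw [(slDatum hg₀).classInner_R_self_fixed hfix] at h1
  norm_num at h1

end Cfsg.Agent.S2306
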