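import Cfsg.Statements.S2307
import Cfsg.Agent.Lib.RankSeries.SLDegrees
import Cfsg.Agent.Lib.RankSeries.SLMulChar
-- import your own Cfsg.Agent.* helpers here

set_option autoImplicit false
open Cfsg

namespace Cfsg.Agent.S2307

open Cfsg.Agent.Lib Cfsg.Agent.Lib.RankSeries Cfsg.Agent.Lib.SL2
open scoped ComplexConjugate

attribute [-instance] MonoidHom.instPow MonoidHom.mul instOneMonoidHom MonoidHom.instCommMonoid
  MonoidHom.instInv MonoidHom.instDiv

/-- Conjugation by `diag(ν, 1)`. -/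
noncomputable def diagConj {F : Type*} [Field F] (ν : F) (hν0 : ν ≠ 0) : SLtwo F ≃* SLtwo F where
  toFun g := ofEntries (g 0 0) (ν * g 0 1) (g 1 0 / ν) (g 1 1) (by
    have := det_entries g
    field_simp
    linear_combination this)
  invFun g := ofEntries (g 0 0) (g 0 1 / ν) (ν * g 1 0) (g 1 1) (by
    have := det_entries g
    field_simp
    linear_combination this)
  left_inv g := by apply ext_entries <;> simp [ofEntries, hν0, mul_div_cancel₀]
  right_inv g := by apply ext_entries <;> simp [ofEntries, hν0, mul_div_cancel₀]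
  map_mul' g h := by
    apply ext_entries <;>
      simp only [mul_00, mul_01, mul_10, mul_11] <;>
      simp [ofEntries, Matrix.mul_apply, Fin.sum_univ_two] <;> field_simp

theorem diagConj_00 {F : Type*} [Field F] (ν : F) (h : ν ≠ 0) (g : SLtwo F) :
    diagConj ν h g 0 0 = g 0 0 := rfl
theorem diagConj_01 {F : Type*} [Field F] (ν : F) (h : ν ≠ 0) (g : SLtwo F) :
    diagConj ν h g 0 1 = ν * g 0 1 := rfl
theorem diagConj_10 {F : Type*} [Field F] (ν : F) (h : ν ≠ 0) (g : SLtwo F) :
    diagConj ν h g 1 0 = g 1 0 / ν := rfl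
theorem diagConj_11 {F : Type*} [Field F] (ν : F) (h : ν ≠ 0) (g : SLtwo F) :
    diagConj ν h g 1 1 = g 1 1 := rfl


/-- Over a finite field F with q elements, q odd, let α be the multiplicative character of F of order 2. The character of SL₂ induced from the linear character b ↦ α(b₁₁) of the upper triangular subgroup is the sum of two distinct irreducible characters, each of degree (q + 1)/2, which are conjugate under GL₂: some fixed element of GL₂ conjugates the one into the other. -/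
theorem result {F : Type*} [Field F] [Fintype F] [DecidableEq F] (hodd : Odd (Fintype.card F)) (α : MulChar F ℂ)
    (hα : α ^ 2 = 1) (hα1 : α ≠ 1) :
    ∃ χ₁ χ₂ : Matrix.SpecialLinearGroup (Fin 2) F → ℂ, Cfsg.IsIrrCharacter (Matrix.SpecialLinearGroup (Fin 2) F) χ₁ ∧ Cfsg.IsIrrCharacter (Matrix.SpecialLinearGroup (Fin 2) F) χ₂ ∧ χ₁ ≠ χ₂ ∧
      Cfsg.indFun ((Cfsg.upperTriangularGL 2 F).comap Matrix.SpecialLinearGroup.toGL) (fun b => α (((b : Matrix.SpecialLinearGroup (Fin 2) F) : Matrix (Fin 2) (Fin 2) F) 0 0)) = χ₁ + χ₂ ∧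
      χ₁ 1 = (((Fintype.card F + 1) / 2 : ℕ) : ℂ) ∧ χ₂ 1 = (((Fintype.card F + 1) / 2 : ℕ) : ℂ) ∧
      ∃ x : Matrix.GeneralLinearGroup (Fin 2) F, ∀ g h : Matrix.SpecialLinearGroup (Fin 2) F,
        Matrix.SpecialLinearGroup.toGL h = x * Matrix.SpecialLinearGroup.toGL g * x⁻¹ → χ₂ h = χ₁ g := by
  classical
  obtain ⟨g₀, hg₀⟩ := exists_elliptic (F := F)
  obtain ⟨μ₀, θ₀, a, a', b, b', T⟩ := exists_oddTable hg₀ hodd
  have hfix : α.toUnitHom.comp (slDatum hg₀).τ = α.toUnitHom := by
    rw [← toUnitHom_inv, (sq_eq_one_iff' α).mp hα]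
  have hne1 : α.toUnitHom ≠ 1 := fun h => hα1 (by
    refine MulChar.ext fun u => ?_
    rw [← MulChar.coe_toUnitHom, h, MonoidHom.one_apply, Units.val_one, MulChar.one_apply_coe])
  have hμ : α.toUnitHom = μ₀ := by
    refine MonoidHom.ext fun x => Units.ext ?_
    obtain ⟨p1, p2⟩ := fixed_mu_apply hg₀ hodd hfix hne1 x
    obtain ⟨r1, r2⟩ := fixed_mu_apply hg₀ hodd T.hμ T.hμ1 x
    by_cases h : x ^ ((Fintype.card F - 1) / 2) = 1
    · rw [p1 h, r1 h]
    · rw [p2 h, r2 h]
  rw [indFun_mulChar hg₀, hμ]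
  refine ⟨a, a', T.a_irr, T.a'_irr, T.a_ne, T.sumR, T.a_one, T.a'_one, ?_⟩
  have h2 : (2 : F) ≠ 0 := two_ne_zero_iff_odd.2 hodd
  have hchar : ringChar F ≠ 2 := fun h => h2 (by
    have := ringChar.Nat.cast_ringChar (R := F)
    rw [h] at this
    exact_mod_cast this)
  obtain ⟨ν, hν⟩ := FiniteField.exists_nonsquare hchar
  have hν0 : ν ≠ 0 := fun h => hν (h ▸ IsSquare.zero)
  let ψ : SLtwo F ≃* SLtwo F := diagConj ν hν0
  have hψB : ∀ g, ψ g ∈ (slDatum hg₀).B ↔ g ∈ (slDatum hg₀).B := fun g => by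
    show ψ g ∈ RankSeries.borelSL F ↔ g ∈ RankSeries.borelSL F
    rw [RankSeries.mem_borelSL, RankSeries.mem_borelSL, diagConj_10]
    simp [hν0]
  have hR : ∀ g, (slDatum hg₀).R μ₀ (ψ g) = (slDatum hg₀).R μ₀ g := fun g => by
    simp only [Datum.R, indFun]
    congr 1
    refine (Fintype.sum_equiv ψ.toEquiv _ _ fun y => ?_).symm
    show _ = extendByZero _ _ ((ψ y)⁻¹ * ψ g * ψ y)
    rw [← map_inv, ← map_mul, ← map_mul]
    by_cases h : y⁻¹ * g * y ∈ (slDatum hg₀).B
    · rw [Chars.extendByZero_of_mem _ h, Chars.extendByZero_of_mem _ ((hψB _).mpr h)]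
      show (μ₀ _ : ℂ) = μ₀ _
      congr 2
    · rw [Chars.extendByZero_of_not_mem _ h,
        Chars.extendByZero_of_not_mem _ fun h' => h ((hψB _).mp h')]
  have hf : IsIrrCharacter (SLtwo F) fun g => a (ψ g) :=
    Chars.isIrrCharacter_comp_mulEquiv ψ T.a_irr
  have hf' : IsIrrCharacter (SLtwo F) fun g => a' (ψ g) :=
    Chars.isIrrCharacter_comp_mulEquiv ψ T.a'_irr
  have hsum : (fun g => a (ψ g)) + (fun g => a' (ψ g)) = a + a' := by
    funext g
    simp only [Pi.add_apply]
    rw [T.sum_R hodd, T.sum_R hodd, hR]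
  have hcase : (fun g => a (ψ g)) = a ∨ (fun g => a (ψ g)) = a' := by
    by_contra hno
    rw [not_or] at hno
    have h1 := congrArg (fun f => classInner f (fun g => a (ψ g))) hsum
    simp only [Chars.classInner_add_left] at h1
    have e1 : classInner (fun g => a (ψ g)) (fun g => a (ψ g)) = 1 :=
      Chars.classInner_irr_self ⟨_, hf⟩
    have e2 : classInner (fun g => a' (ψ g)) (fun g => a (ψ g)) = 0 :=
      Chars.classInner_irr_of_ne (χ := ⟨_, hf'⟩) (ψ := ⟨_, hf⟩) fun h => T.a_ne (by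
        funext g
        have := congrFun (congrArg Subtype.val h) (ψ.symm g)
        simpa using this.symm)
    have e3 : classInner a (fun g => a (ψ g)) = 0 :=
      Chars.classInner_irr_of_ne (χ := ⟨_, T.a_irr⟩) (ψ := ⟨_, hf⟩)
        fun h => hno.1 (congrArg Subtype.val h).symm
    have e4 : classInner a' (fun g => a (ψ g)) = 0 :=
      Chars.classInner_irr_of_ne (χ := ⟨_, T.a'_irr⟩) (ψ := ⟨_, hf⟩)
        fun h => hno.2 (congrArg Subtype.val h).symm
    rw [e1, e2, e3, e4] at h1
    norm_num at h1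
  have hfa : (fun g => a (ψ g)) = a' := by
    refine hcase.resolve_left fun h => ?_
    have h1 := congrFun h (el 1 1)
    have hψ1 : ψ (el 1 1) = el 1 ν := by
      apply ext_entries
      · rw [diagConj_00, borelEquiv_00, borelEquiv_00]
      · rw [diagConj_01, borelEquiv_01, borelEquiv_01, mul_one]
      · rw [diagConj_10, borelEquiv_10, borelEquiv_10, zero_div]
      · rw [diagConj_11, borelEquiv_11, borelEquiv_11]
    rw [hψ1] at h1
    obtain ⟨e1, -, -, -⟩ := T.sum_unip hodd one_ne_zero hν0 (by rwa [one_mul])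
    refine (T.unip_ne hodd (one_ne_zero (α := F))).1 ?_
    linear_combination e1 - h1 - T.a_sum_unip hodd (one_ne_zero (α := F))
  have hfa' : ∀ g, a' (ψ g) = a g := fun g => by
    have h := congrFun hsum g
    simp only [Pi.add_apply, congrFun hfa g] at h
    linear_combination h
  refine ⟨(!![ν, 0; 0, 1] : Matrix (Fin 2) (Fin 2) F).nonsingInvUnit
    (by simp [Matrix.det_fin_two, hν0]), fun g h hgh => ?_⟩
  rw [← hfa' g]
  congr 1
  rw [eq_mul_inv_iff_mul_eq] at hgh
  have hm := congrArg (fun z : Matrix.GeneralLinearGroup (Fin 2) F =>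
    (z : Matrix (Fin 2) (Fin 2) F)) hgh
  simp only [Units.val_mul] at hm
  have m00 := congrFun (congrFun hm 0) 0
  have m01 := congrFun (congrFun hm 0) 1
  have m10 := congrFun (congrFun hm 1) 0
  have m11 := congrFun (congrFun hm 1) 1
  simp [Matrix.mul_apply, Fin.sum_univ_two, Matrix.nonsingInvUnit] at m00 m01 m10 m11
  apply ext_entries
  · rw [diagConj_00]
    exact mul_right_cancel₀ hν0 (by linear_combination m00)
  · rw [diagConj_01]
    linear_combination m01
  · rw [diagConj_10, eq_div_iff hν0]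
    linear_combination m10
  · rw [diagConj_11]
    linear_combination m11

end Cfsg.Agent.S2307
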