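import Cfsg.Statements.S2308
import Cfsg.Agent.Lib.RankSeries.GLTable

set_option autoImplicit false
open Cfsg

namespace Cfsg.Agent.S2308

open Cfsg.Agent.Lib Cfsg.Agent.Lib.RankSeries

attribute [-instance] MonoidHom.instPow MonoidHom.mul instOneMonoidHom MonoidHom.instCommMonoid
  MonoidHom.instInv MonoidHom.instDiv

/-- Values of the permutation character of GL₂ over a finite field F with q elements on the cosets of its upper triangular subgroup (equivalently, the number of lines of F² that an element maps to themselves): q + 1 at a scalar matrix, 2 at a diagonal matrix with two different diagonal entries, 0 at an element with no eigenvector in F², and 1 at an upper triangular matrix with equal diagonal entries and non-zero upper right entry. -/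
theorem result {F : Type*} [Field F] [Fintype F] (g : Matrix.GeneralLinearGroup (Fin 2) F) :
    ((∃ a : F, (g : Matrix (Fin 2) (Fin 2) F) = a • (1 : Matrix (Fin 2) (Fin 2) F)) → Cfsg.fixedPointCharacter (Cfsg.upperTriangularGL 2 F) g = Fintype.card F + 1) ∧
    ((g : Matrix (Fin 2) (Fin 2) F) 0 1 = 0 → (g : Matrix (Fin 2) (Fin 2) F) 1 0 = 0 → (g : Matrix (Fin 2) (Fin 2) F) 0 0 ≠ (g : Matrix (Fin 2) (Fin 2) F) 1 1 →
      Cfsg.fixedPointCharacter (Cfsg.upperTriangularGL 2 F) g = 2) ∧
    ((∀ (c : F) (v : Fin 2 → F), v ≠ 0 → (g : Matrix (Fin 2) (Fin 2) F).mulVec v ≠ c • v) → Cfsg.fixedPointCharacter (Cfsg.upperTriangularGL 2 F) g = 0) ∧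
    ((g : Matrix (Fin 2) (Fin 2) F) 1 0 = 0 → (g : Matrix (Fin 2) (Fin 2) F) 0 0 = (g : Matrix (Fin 2) (Fin 2) F) 1 1 → (g : Matrix (Fin 2) (Fin 2) F) 0 1 ≠ 0 →
      Cfsg.fixedPointCharacter (Cfsg.upperTriangularGL 2 F) g = 1) := by
  classical
  obtain ⟨g₀, hg⟩ := exists_ell (F := F)
  have key : fixedPointCharacter (upperTriangularGL 2 F) g = (glDatum hg).R 1 g :=
    fixedPointCharacter_eq_indFun _ g
  rw [key]
  refine ⟨fun ⟨c, hc⟩ => ?_, fun h01 h10 hne => ?_, fun h => R_ell hg 1 (ell_of_noEigen h),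
    fun h10 he h01 => ?_⟩
  · obtain ⟨a, b, ha, hb, hgab⟩ := eq_glEquiv (g := g) (by rw [hc]; simp)
    have hab : a = b := Units.ext (by rw [ha, hb, hc]; simp)
    subst hab
    rw [hgab, show g.val 0 1 = 0 by rw [hc]; simp]
    have h := (glDatum hg).R_center 1 (a := (a, a)) rfl
    simp [Nat.card_eq_fintype_card] at h
    exact h
  · obtain ⟨a, b, ha, hb, hgab⟩ := eq_glEquiv h10
    rw [hgab]
    refine ((glDatum hg).R_split 1 (a := (a, b)) _ fun e => hne ?_).trans ?_
    · rw [← ha, ← hb]
      exact congrArg Units.val (congrArg Prod.fst (show (b, a) = (a, b) from e)).symm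
    · simp
      norm_num
  · obtain ⟨a, b, ha, hb, hgab⟩ := eq_glEquiv h10
    have hab : a = b := Units.ext (by rw [ha, hb, he])
    subst hab
    rw [hgab]
    refine ((glDatum hg).R_parab 1 (a := (a, a)) rfl h01).trans ?_
    simp

end Cfsg.Agent.S2308
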