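import Cfsg.Statements.S2309
import Cfsg.Agent.Lib.RankSeries.GLTable

set_option autoImplicit false
open Cfsg

namespace Cfsg.Agent.S2309

open Cfsg.Agent.Lib Cfsg.Agent.Lib.RankSeries

attribute [-instance] MonoidHom.instPow MonoidHom.mul instOneMonoidHom MonoidHom.instCommMonoid
  MonoidHom.instInv MonoidHom.instDiv

/-- Over a finite field F with q elements: every irreducible complex character of GL₂ of degree q − 1 vanishes at every diagonal matrix with two distinct entries, and every irreducible complex character of degree q + 1 vanishes at every element with no eigenvector in F². -/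
theorem result {F : Type*} [Field F] [Fintype F] (χ : Matrix.GeneralLinearGroup (Fin 2) F → ℂ) (hχ : Cfsg.IsIrrCharacter (Matrix.GeneralLinearGroup (Fin 2) F) χ) (g : Matrix.GeneralLinearGroup (Fin 2) F) :
    (χ 1 = (Fintype.card F : ℂ) - 1 → (g : Matrix (Fin 2) (Fin 2) F) 0 1 = 0 → (g : Matrix (Fin 2) (Fin 2) F) 1 0 = 0 → (g : Matrix (Fin 2) (Fin 2) F) 0 0 ≠ (g : Matrix (Fin 2) (Fin 2) F) 1 1 → χ g = 0) ∧
    (χ 1 = (Fintype.card F : ℂ) + 1 → (∀ (c : F) (v : Fin 2 → F), v ≠ 0 → (g : Matrix (Fin 2) (Fin 2) F).mulVec v ≠ c • v) → χ g = 0) := by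
  classical
  obtain ⟨g₀, hg⟩ := exists_ell (F := F)
  have hq : (2 : ℝ) ≤ Fintype.card F := by exact_mod_cast (Fintype.one_lt_card : 1 < Fintype.card F)
  refine ⟨fun hd h01 h10 hne => ?_, fun hd hell => ?_⟩
  · obtain ⟨a, b, ha, hb, hgab⟩ := eq_glEquiv h10
    have hab : a ≠ b := fun e => hne (by rw [← ha, ← hb, e])
    rcases gl_classify hg hχ with ⟨h, h'⟩ | ⟨h, h'⟩ | ⟨h, h'⟩ | ⟨h, h'⟩
    · -- here `q = 2`, and then the torus is trivial
      rw [h'] at hd
      have h2 : Fintype.card F = 2 := by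
        have : ((2 : ℕ) : ℂ) = (Fintype.card F : ℂ) := by push_cast; linear_combination hd
        exact_mod_cast this.symm
      have hsub : Fintype.card Fˣ = 1 := by rw [Fintype.card_units, h2]
      exact absurd (Fintype.card_le_one_iff.mp hsub.le a b) hab
    · rw [h'] at hd
      exact absurd (show (0 : ℂ) = -1 by linear_combination hd) (by norm_num)
    · rw [h'] at hd
      exact absurd (show (2 : ℂ) = 0 by linear_combination hd) two_ne_zero
    · obtain ⟨θ, -, rfl⟩ := (glDatum hg).mem_discSet.mp h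
      rw [hgab]
      exact (glDatum hg).piC_split θ (a := (a, b)) _ fun e => hab (Prod.mk.inj e).1.symm
  · rcases gl_classify hg hχ with ⟨h, h'⟩ | ⟨h, h'⟩ | ⟨h, h'⟩ | ⟨h, h'⟩
    · rw [h'] at hd
      exact absurd (show (Fintype.card F : ℂ) = 0 by linear_combination -hd)
        (Nat.cast_ne_zero.mpr Fintype.card_ne_zero)
    · rw [h'] at hd
      exact absurd (show (0 : ℂ) = 1 by linear_combination hd) zero_ne_one
    · obtain ⟨μ, -, rfl⟩ := (glDatum hg).mem_princSet.mp h
      exact R_ell hg μ (ell_of_noEigen hell)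
    · rw [h'] at hd
      exact absurd (show (2 : ℂ) = 0 by linear_combination -hd) two_ne_zero

end Cfsg.Agent.S2309
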