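import Cfsg.Statements.S2310
import Cfsg.Agent.Lib.RankSeries.GLTable

set_option autoImplicit false
open Cfsg

namespace Cfsg.Agent.S2310

open Cfsg.Agent.Lib Cfsg.Agent.Lib.RankSeries

attribute [-instance] MonoidHom.instPow MonoidHom.mul instOneMonoidHom MonoidHom.instCommMonoid
  MonoidHom.instInv MonoidHom.instDiv

/-- Over a finite field F with q ≥ 3 elements, let u be the upper unitriangular matrix of GL₂ with off-diagonal entry 1. An irreducible complex character χ of GL₂ takes at u the value 1 if χ has degree 1 or q + 1, the value −1 if χ has degree q − 1, and the value 0 if χ has degree q. -/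
theorem result {F : Type*} [Field F] [Fintype F] (hq : 3 ≤ Fintype.card F) (χ : Matrix.GeneralLinearGroup (Fin 2) F → ℂ) (hχ : Cfsg.IsIrrCharacter (Matrix.GeneralLinearGroup (Fin 2) F) χ)
    (u : Matrix.GeneralLinearGroup (Fin 2) F) (hu : (u : Matrix (Fin 2) (Fin 2) F) = !![1, 1; 0, 1]) :
    (χ 1 = 1 → χ u = 1) ∧ (χ 1 = (Fintype.card F : ℂ) + 1 → χ u = 1) ∧
    (χ 1 = (Fintype.card F : ℂ) - 1 → χ u = -1) ∧ (χ 1 = (Fintype.card F : ℂ) → χ u = 0) := by
  classical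
  obtain ⟨g₀, hg⟩ := exists_ell (F := F)
  have hue : u = (glEquiv F ((1, 1), 1) : GLtwo F) := by
    apply gl_ext <;> simp [glEquiv_val, hu]
  have val : (χ 1 = 1 ∧ χ u = 1) ∨ (χ 1 = (Fintype.card F : ℂ) ∧ χ u = 0) ∨
      (χ 1 = (Fintype.card F : ℂ) + 1 ∧ χ u = 1) ∨
      (χ 1 = (Fintype.card F : ℂ) - 1 ∧ χ u = -1) := by
    subst hue
    rcases gl_classify hg hχ with ⟨h, h'⟩ | ⟨h, h'⟩ | ⟨h, h'⟩ | ⟨h, h'⟩
    · obtain ⟨ν, rfl⟩ := mem_linSet.mp h
      exact Or.inl ⟨h', by rw [linGL_e, mul_one, map_one, Units.val_one]⟩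
    · obtain ⟨ν, rfl⟩ := (mem_twistSet hg).mp h
      exact Or.inr (Or.inl ⟨h', twistSt_parab hg ν 1 one_ne_zero⟩)
    · exact Or.inr (Or.inr (Or.inl ⟨h', princ_unip hg h one_ne_zero⟩))
    · exact Or.inr (Or.inr (Or.inr ⟨h', disc_unip hg h one_ne_zero⟩))
  have hq3 : (3 : ℝ) ≤ Fintype.card F := by exact_mod_cast hq
  refine ⟨fun hd => ?_, fun hd => ?_, fun hd => ?_, fun hd => ?_⟩ <;>
    rcases val with ⟨h, hv⟩ | ⟨h, hv⟩ | ⟨h, hv⟩ | ⟨h, hv⟩ <;>
    first
    | exact hv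
    | (exfalso; rw [h] at hd; have := congrArg Complex.re hd; simp at this <;> linarith)

end Cfsg.Agent.S2310
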