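import Cfsg.Statements.S2315
import Cfsg.Agent.Lib.KnownSimple.NilpotentCount
import Mathlib

set_option autoImplicit false
open Cfsg

namespace Cfsg.Agent.S2315

/-- Elements of `p`-power order are the unipotent ones. -/
theorem ppow_order_iff {F : Type*} [Field F] (p : ℕ) [Fact p.Prime] [CharP F p] (n : ℕ)
    (g : Matrix.GeneralLinearGroup (Fin n) F) :
    (∃ k : ℕ, orderOf g = p ^ k) ↔ IsNilpotent ((g : Matrix (Fin n) (Fin n) F) - 1) := by
  rcases Nat.eq_zero_or_pos n with rfl | hn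
  · exact iff_of_true ⟨0, by rw [Subsingleton.elim g 1, orderOf_one, pow_zero]⟩
      ⟨1, Subsingleton.elim _ _⟩
  haveI : Nonempty (Fin n) := ⟨⟨0, hn⟩⟩
  have key : ∀ k : ℕ, g ^ p ^ k = 1 ↔ ((g : Matrix (Fin n) (Fin n) F) - 1) ^ p ^ k = 0 := by
    intro k
    rw [sub_pow_char_pow_of_commute (p := p) (h := Commute.one_right _), one_pow, sub_eq_zero,
      ← Units.val_pow_eq_pow_val, Units.val_eq_one]
  constructor
  · rintro ⟨k, hk⟩
    exact ⟨p ^ k, (key k).1 (hk ▸ pow_orderOf_eq_one g)⟩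
  · rintro ⟨m, hm⟩
    obtain ⟨k, hk⟩ : ∃ k, m ≤ p ^ k := ⟨m, (Nat.lt_pow_self (Fact.out : p.Prime).one_lt).le⟩
    obtain ⟨i, -, hi⟩ := (Nat.dvd_prime_pow Fact.out).1
      (orderOf_dvd_of_pow_eq_one ((key k).2 (pow_eq_zero_of_le hk hm)))
    exact ⟨i, hi⟩

/-- Steinberg's count of unipotent elements for the general linear group: over a finite field with q elements of characteristic p, the number of elements of GL_n of p-power order (the unipotent matrices) is q^(n(n−1)). -/
theorem result {F : Type*} [Field F] [Fintype F] (p : ℕ) [Fact p.Prime] [CharP F p] (n : ℕ) :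
    Nat.card {g : Matrix.GeneralLinearGroup (Fin n) F // ∃ k : ℕ, orderOf g = p ^ k} = Fintype.card F ^ (n * (n - 1)) := by
  rw [← Cfsg.Agent.Lib.KnownSimple.card_nilpotent_matrix (F := F) n]
  refine Nat.card_eq_of_bijective
    (fun g => ⟨((g : Matrix.GeneralLinearGroup (Fin n) F) : Matrix (Fin n) (Fin n) F) - 1,
      (ppow_order_iff p n g.1).1 g.2⟩) ⟨fun g h e => ?_, fun A => ?_⟩
  · exact Subtype.ext (Units.ext (sub_left_injective (congrArg Subtype.val e)))
  · obtain ⟨u, hu⟩ := A.2.isUnit_one_add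
    have hA : (u : Matrix (Fin n) (Fin n) F) - 1 = A.1 := by rw [hu, add_sub_cancel_left]
    exact ⟨⟨u, (ppow_order_iff p n u).2 (hA.symm ▸ A.2)⟩, Subtype.ext hA⟩

end Cfsg.Agent.S2315
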