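import Cfsg.Statements.S2316
import Cfsg.Agent.Lib.KnownSimple.SympUnipotentCount
import Mathlib

/-!
Steinberg's count of the unipotent elements of the symplectic group.
-/

set_option autoImplicit false
open Cfsg

namespace Cfsg.Agent.S2316

open Cfsg.Agent.Lib.KnownSimple.SpCount

variable {F : Type*} [Field F] [Fintype F]

/-- The number of bases of an `r`-dimensional space. -/
def basesNum (F : Type*) [Fintype F] (r : ℕ) : ℕ :=
  ∏ i : Fin r, (Fintype.card F ^ r - Fintype.card F ^ (i : ℕ))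

theorem q_gt_one : (1 : ℚ) < Fintype.card F := by exact_mod_cast Fintype.one_lt_card

theorem tuples_in {m r : ℕ} (W : Submodule F (V F m)) :
    Nat.card {w : Fin r → V F m // TI w ∧ ∀ i, w i ∈ W} =
      Nat.card {R : TISub W // Module.finrank F R.1 = r} * basesNum F r := by
  classical
  let _ := Fintype.ofFinite {R : TISub W // Module.finrank F R.1 = r}
  have hspan : ∀ w : {w : Fin r → V F m // TI w ∧ ∀ i, w i ∈ W},
      Submodule.span F (Set.range w.1) ≤ W ∧
        (∀ x ∈ Submodule.span F (Set.range w.1), ∀ y ∈ Submodule.span F (Set.range w.1), B x y = 0) := by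
    intro w
    refine ⟨Submodule.span_le.2 (Set.range_subset_iff.2 w.2.2), fun x hx y hy => ?_⟩
    induction hx using Submodule.span_induction with
    | mem x hx =>
      obtain ⟨i, rfl⟩ := hx
      induction hy using Submodule.span_induction with
      | mem y hy => obtain ⟨j, rfl⟩ := hy; exact w.2.1.2 i j
      | zero => exact B_zero_right _
      | add y y' _ _ h1 h2 => rw [B_add_right, h1, h2, add_zero]
      | smul c y _ h => rw [B_smul_right, h, mul_zero]
    | zero => exact B_zero_left _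
    | add x x' _ _ h1 h2 => rw [B_add_left, h1, h2, add_zero]
    | smul c x _ h => rw [B_smul_left, h, mul_zero]
  have hdim : ∀ w : {w : Fin r → V F m // TI w ∧ ∀ i, w i ∈ W},
      Module.finrank F (Submodule.span F (Set.range w.1)) = r := fun w => by
    rw [finrank_span_eq_card w.2.1.1, Fintype.card_fin]
  let Φ : {w : Fin r → V F m // TI w ∧ ∀ i, w i ∈ W} → {R : TISub W // Module.finrank F R.1 = r} :=
    fun w => ⟨⟨Submodule.span F (Set.range w.1), hspan w⟩, hdim w⟩
  rw [← Nat.card_congr (Equiv.sigmaFiberEquiv Φ), Nat.card_sigma,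
    Finset.sum_congr rfl (fun R _ => show Nat.card {w // Φ w = R} = basesNum F r from ?_), Finset.sum_const,
    Finset.card_univ, smul_eq_mul, Nat.card_eq_fintype_card]
  have e : {w // Φ w = R} ≃ {s : Fin r → R.1.1 // LinearIndependent F s} :=
    { toFun := fun w => ⟨fun i => ⟨w.1.1 i, by
          exact (show Submodule.span F (Set.range w.1.1) = R.1.1 from congrArg (fun R => R.1.1) w.2) ▸ Submodule.subset_span ⟨i, rfl⟩⟩,
        LinearIndependent.of_comp R.1.1.subtype w.1.2.1.1⟩
      invFun := fun s => ⟨⟨fun i => (s.1 i : V F m),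
          ⟨s.2.map' R.1.1.subtype (Submodule.ker_subtype _), fun i j => R.1.2.2 _ (s.1 i).2 _ (s.1 j).2⟩,
          fun i => R.1.2.1 (s.1 i).2⟩, by
        refine Subtype.ext (Subtype.ext ?_)
        change Submodule.span F (Set.range fun i => (s.1 i : V F m)) = R.1.1
        refine Submodule.eq_of_le_of_finrank_eq (Submodule.span_le.2 (Set.range_subset_iff.2 fun i => (s.1 i).2)) ?_
        rw [finrank_span_eq_card (b := fun i => (s.1 i : V F m)) (s.2.map' R.1.1.subtype (Submodule.ker_subtype _)),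
          Fintype.card_fin, R.2]⟩
      left_inv := fun w => rfl
      right_inv := fun s => rfl }
  rw [Nat.card_congr e, card_linearIndependent (le_of_eq R.2.symm), R.2]
  rfl

theorem wt_sum_tuples {m : ℕ} (W : Submodule F (V F m)) [Fintype (TISub W)] :
    ∑ r ∈ Finset.range (2 * m + 1), wt (Fintype.card F) r / (basesNum F r : ℚ) *
      (Nat.card {w : Fin r → V F m // TI w ∧ ∀ i, w i ∈ W} : ℚ) =
    ∑ R : TISub W, wt (Fintype.card F) (Module.finrank F R.1) := by
  classical
  rw [← Finset.sum_fiberwise_of_maps_to (g := fun R : TISub W => Module.finrank F R.1)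
    (t := Finset.range (2 * m + 1)) (fun R _ => Finset.mem_range.2 (by
      have := Submodule.finrank_le R.1
      simp only [Module.finrank_fintype_fun_eq_card, Fintype.card_sum, Fintype.card_fin] at this
      omega))]
  refine Finset.sum_congr rfl fun r _ => ?_
  rw [Finset.sum_congr rfl (fun R hR => by rw [(Finset.mem_filter.1 hR).2]), Finset.sum_const, tuples_in,
    Nat.card_eq_fintype_card, Fintype.card_subtype, nsmul_eq_mul]
  have hb : (basesNum F r : ℚ) ≠ 0 := by
    refine Nat.cast_ne_zero.2 (Finset.prod_ne_zero_iff.2 fun i _ => ?_)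
    have := Nat.pow_lt_pow_right (Fintype.one_lt_card (α := F)) i.2
    omega
  push_cast
  field_simp

theorem unip_radical {m : ℕ} {f : Iso F m} (hf : Unip f) (hne : f.1 ≠ 1) :
    ∃ z, f.1 z = z ∧ z ≠ 0 ∧ ∀ x, f.1 x = x → B z x = 0 := by
  classical
  set N := f.1 - 1 with hN
  have hN0 : N ≠ 0 := sub_ne_zero.2 hne
  have hex : ∃ k, N ^ k = 0 := hf
  obtain ⟨k, hk⟩ : ∃ k, Nat.find hex = k + 2 := by
    refine ⟨Nat.find hex - 2, ?_⟩
    have h2 : ∀ j, j < 2 → N ^ j ≠ 0 := by
      intro j hj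
      interval_cases j
      · rw [pow_zero]
        intro h
        refine hN0 (LinearMap.ext fun x => ?_)
        have := LinearMap.congr_fun h x
        rw [Module.End.one_apply, LinearMap.zero_apply] at this
        subst this
        simp
      · rwa [pow_one]
    have := Nat.find_spec hex
    by_contra h
    exact h2 (Nat.find hex) (by omega) this
  have hspec : N ^ (k + 2) = 0 := hk ▸ Nat.find_spec hex
  have hmin : N ^ (k + 1) ≠ 0 := Nat.find_min hex (by omega)
  obtain ⟨x, hx⟩ : ∃ x, (N ^ (k + 1)) x ≠ 0 := by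
    by_contra h
    push Not at h
    exact hmin (LinearMap.ext h)
  refine ⟨(N ^ (k + 1)) x, ?_, hx, fun y hy => ?_⟩
  · have := LinearMap.congr_fun hspec x
    rw [pow_succ', Module.End.mul_apply, hN, LinearMap.sub_apply, Module.End.one_apply, LinearMap.zero_apply,
      sub_eq_zero, ← hN] at this
    exact this
  · rw [pow_succ', Module.End.mul_apply, hN, LinearMap.sub_apply, Module.End.one_apply, B_sub_left]
    nth_rewrite 1 [← hy]
    rw [f.2, sub_self]

theorem nat_card_prod_sum {α β : Type*} [Fintype α] [Finite β] (P : α → Prop) [DecidablePred P] (Q : α → β → Prop) :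
    Nat.card {p : α × β // P p.1 ∧ Q p.1 p.2} = ∑ a ∈ Finset.univ.filter P, Nat.card {b : β // Q a b} := by
  classical
  let e : {p : α × β // P p.1 ∧ Q p.1 p.2} ≃ Σ a : {a // P a}, {b : β // Q a.1 b} :=
    { toFun := fun p => ⟨⟨p.1.1, p.2.1⟩, ⟨p.1.2, p.2.2⟩⟩
      invFun := fun x => ⟨(x.1.1, x.2.1), x.1.2, x.2.2⟩
      left_inv := fun p => rfl
      right_inv := fun x => rfl }
  rw [Nat.card_congr e, Nat.card_sigma]
  exact (Finset.sum_subtype (Finset.univ.filter P) (fun a => by simp) fun a => Nat.card {b : β // Q a b}).symm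

theorem main_eq (m : ℕ) :
    ∑ r ∈ Finset.range (2 * m + 1), wt (Fintype.card F) r / (basesNum F r : ℚ) * (Nat.card (Pairs F m r) : ℚ) =
    ∑ r ∈ Finset.range (2 * m + 1), wt (Fintype.card F) r / (basesNum F r : ℚ) * (Nat.card (Tuples F m r) : ℚ) := by
  classical
  let _ := Fintype.ofFinite (Iso F m)
  let one : Iso F m := ⟨1, fun _ _ => rfl⟩
  let W : Iso F m → Submodule F (V F m) := fun f => LinearMap.ker (f.1 - 1)
  have hWmem : ∀ (f : Iso F m) x, x ∈ W f ↔ f.1 x = x := fun f x => by
    simp [W, LinearMap.mem_ker, sub_eq_zero]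
  have hP : ∀ r, Nat.card (Pairs F m r) = ∑ f ∈ Finset.univ.filter (fun f : Iso F m => Unip f),
      Nat.card {w : Fin r → V F m // TI w ∧ ∀ i, w i ∈ W f} := by
    intro r
    rw [← nat_card_prod_sum (fun f : Iso F m => Unip f) (fun f w => TI w ∧ ∀ i, w i ∈ W f)]
    exact Nat.card_congr (Equiv.subtypeEquivRight fun p => by simp only [hWmem])
  simp only [hP, Nat.cast_sum, Finset.mul_sum]
  rw [Finset.sum_comm, Finset.sum_eq_single one]
  · refine Finset.sum_congr rfl fun r _ => ?_
    congr 2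
    exact Nat.card_congr (Equiv.subtypeEquivRight fun w => and_iff_left fun i => (hWmem _ _).2 rfl)
  · intro f hf hne
    let _ := Fintype.ofFinite (TISub (W f))
    obtain ⟨z, hz, hz0, hrad⟩ := unip_radical (Finset.mem_filter.1 hf).2 (fun h => hne (Subtype.ext h))
    rw [wt_sum_tuples]
    exact sum_wt_eq_zero (W f) ((hWmem f z).2 hz) hz0 fun x hx => hrad x ((hWmem f x).1 hx)
  · intro h
    exact absurd (Finset.mem_filter.2 ⟨Finset.mem_univ _, show Unip one from ⟨1, by simp [one]⟩⟩) h

/-- The closed form of the number of pairs. -/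
theorem pairs_formula (q : ℚ) (hq : q = Fintype.card F) : ∀ m r : ℕ, r ≤ m →
    (Nat.card (Pairs F m r) : ℚ) =
      (∏ i ∈ Finset.range r, (q ^ (m - i) - 1) * (q ^ (m - i) + 1)) * q ^ (r * (2 * m - r)) * num F (m - r) := by
  intro m r
  induction r generalizing m with
  | zero => intro _; simp [pairs_zero_right]
  | succ r ih =>
    intro hr
    obtain ⟨m, rfl⟩ : ∃ k, m = k + 1 := ⟨m - 1, by omega⟩
    rw [pairs_succ, Nat.cast_mul, Nat.cast_mul, ih m (by omega), Nat.cast_sub (Nat.one_le_pow _ _ Fintype.card_pos),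
      Nat.cast_pow, Nat.cast_pow, Nat.cast_one, ← hq, Finset.prod_range_succ',
      show m + 1 - (r + 1) = m - r by omega, show m + 1 - 0 = m + 1 from rfl,
      Finset.prod_congr rfl (fun i (_ : i ∈ Finset.range r) => show (q ^ (m + 1 - (i + 1)) - 1) * (q ^ (m + 1 - (i + 1)) + 1) = (q ^ (m - i) - 1) * (q ^ (m - i) + 1) by rw [show m + 1 - (i + 1) = m - i by omega])]
    obtain ⟨d, hd⟩ : ∃ d, m = r + d := ⟨m - r, by omega⟩
    rw [show (r + 1) * (2 * (m + 1) - (r + 1)) = (2 * m + 1) + r * (2 * m - r) by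
      subst hd
      rw [show 2 * (r + d + 1) - (r + 1) = r + 2 * d + 1 by omega, show 2 * (r + d) - r = r + 2 * d by omega]
      ring, pow_add q (2 * m + 1)]
    ring

theorem pairs_vanish : ∀ m r : ℕ, m < r → Nat.card (Pairs F m r) = 0 := by
  intro m
  induction m with
  | zero => intro r hr; obtain ⟨r, rfl⟩ : ∃ k, r = k + 1 := ⟨r - 1, by omega⟩; exact pairs_zero_left r
  | succ m ih =>
    intro r hr
    obtain ⟨r, rfl⟩ : ∃ k, r = k + 1 := ⟨r - 1, by omega⟩
    rw [pairs_succ, ih r (by omega), mul_zero, mul_zero]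

theorem tuples_formula (q : ℚ) (hq : q = Fintype.card F) : ∀ m r : ℕ, r ≤ m →
    (Nat.card (Tuples F m r) : ℚ) =
      (∏ i ∈ Finset.range r, (q ^ (m - i) - 1) * (q ^ (m - i) + 1)) * q ^ Nat.choose r 2 := by
  intro m r
  induction r generalizing m with
  | zero => intro _; simp [tuples_zero_right]
  | succ r ih =>
    intro hr
    obtain ⟨m, rfl⟩ : ∃ k, m = k + 1 := ⟨m - 1, by omega⟩
    rw [tuples_succ, Nat.cast_mul, Nat.cast_mul, ih m (by omega), Nat.cast_sub (Nat.one_le_pow _ _ Fintype.card_pos),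
      Nat.cast_pow, Nat.cast_pow, Nat.cast_one, ← hq, Finset.prod_range_succ', choose_two_succ,
      show m + 1 - 0 = m + 1 from rfl,
      Finset.prod_congr rfl (fun i (_ : i ∈ Finset.range r) => show (q ^ (m + 1 - (i + 1)) - 1) * (q ^ (m + 1 - (i + 1)) + 1) = (q ^ (m - i) - 1) * (q ^ (m - i) + 1) by rw [show m + 1 - (i + 1) = m - i by omega])]
    ring

theorem tuples_vanish : ∀ m r : ℕ, m < r → Nat.card (Tuples F m r) = 0 := by
  intro m
  induction m with
  | zero => intro r hr; obtain ⟨r, rfl⟩ : ∃ k, r = k + 1 := ⟨r - 1, by omega⟩; exact tuples_zero_left r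
  | succ m ih =>
    intro r hr
    obtain ⟨r, rfl⟩ : ∃ k, r = k + 1 := ⟨r - 1, by omega⟩
    rw [tuples_succ, ih r (by omega), mul_zero, mul_zero]

theorem basesNum_cast (q : ℚ) (hq : q = Fintype.card F) (r : ℕ) :
    (basesNum F r : ℚ) = q ^ Nat.choose r 2 * ∏ i ∈ Finset.range r, (q ^ (i + 1) - 1) := by
  rw [basesNum, Nat.cast_prod]
  have hstep : ∀ r, q ^ Nat.choose r 2 = ∏ i ∈ Finset.range r, q ^ i := by
    intro r
    induction r with
    | zero => simp
    | succ r ih => rw [Finset.prod_range_succ, ← ih, choose_two_succ, pow_add]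
  have hterm : ∀ i : Fin r, ((Fintype.card F ^ r - Fintype.card F ^ (i : ℕ) : ℕ) : ℚ) = q ^ r - q ^ (i : ℕ) := fun i => by
    rw [Nat.cast_sub (Nat.pow_le_pow_right Fintype.card_pos i.2.le), Nat.cast_pow, Nat.cast_pow, ← hq]
  rw [Finset.prod_congr rfl (fun i _ => hterm i), ← Finset.prod_range (fun i => q ^ r - q ^ i),
    hstep, ← Finset.prod_range_reflect (fun i => q ^ (i + 1) - 1) r, ← Finset.prod_mul_distrib]
  refine Finset.prod_congr rfl fun i hi => ?_
  have := Finset.mem_range.1 hi
  rw [show r - 1 - i + 1 = r - i by omega, mul_sub, mul_one, ← pow_add, show i + (r - i) = r by omega]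

theorem num_eq (m : ℕ) : num F m = Fintype.card F ^ (2 * m ^ 2) := by
  induction' m using Nat.strong_induction_on with m ih
  set q : ℚ := (Fintype.card F : ℚ) with hq
  have hq1 : 1 < q := q_gt_one
  have hq0 : q ≠ 0 := by positivity
  have hD : ∀ r, ∏ i ∈ Finset.range r, (q ^ (i + 1) - 1) ≠ 0 := fun r =>
    Finset.prod_ne_zero_iff.2 fun i _ => (sub_pos.2 (one_lt_pow₀ hq1 (by omega))).ne'
  have hsplit : ∀ r, r ≤ m → ∏ i ∈ Finset.range r, (q ^ (m - i) - 1) * (q ^ (m - i) + 1) =
      gauss q m r * (∏ i ∈ Finset.range r, (q ^ (i + 1) - 1)) * plusProd q m r := fun r _ => by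
    rw [Finset.prod_mul_distrib, gauss, Finset.prod_div_distrib, div_mul_cancel₀ _ (hD r), plusProd]
  have h := main_eq (F := F) m
  rw [← Finset.sum_subset (Finset.range_subset_range.2 (show m + 1 ≤ 2 * m + 1 by omega)) (fun r _ hr => by
      rw [pairs_vanish m r (by simpa using hr), Nat.cast_zero, mul_zero]),
    ← Finset.sum_subset (Finset.range_subset_range.2 (show m + 1 ≤ 2 * m + 1 by omega)) (fun r _ hr => by
      rw [tuples_vanish m r (by simpa using hr), Nat.cast_zero, mul_zero])] at h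
  have hT : ∀ r ∈ Finset.range (m + 1), wt q r / (basesNum F r : ℚ) * (Nat.card (Tuples F m r) : ℚ) =
      (-1) ^ r * q ^ Nat.choose r 2 * gauss q m r * plusProd q (m + 0) r := by
    intro r hr
    have hr' : r ≤ m := by have := Finset.mem_range.1 hr; omega
    have := hD r
    rw [tuples_formula q hq m r hr', basesNum_cast q hq, hsplit r hr', wt, add_zero]
    field_simp
  have hS : ∀ r ∈ Finset.range (m + 1), wt q r / (basesNum F r : ℚ) * (Nat.card (Pairs F m r) : ℚ) =
      q ^ (m ^ 2) * ((-1) ^ r * gauss q m r * plusProd q (m + 0) r * q ^ ((m - r) ^ 2 + 0 * (m - r))) +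
        (if r = 0 then (num F m : ℚ) - q ^ (2 * m ^ 2) else 0) := by
    intro r hr
    have hr' : r ≤ m := by have := Finset.mem_range.1 hr; omega
    have := hD r
    rw [pairs_formula q hq m r hr', basesNum_cast q hq, hsplit r hr', wt, add_zero, zero_mul, add_zero]
    rcases Nat.eq_zero_or_pos r with rfl | hr0
    · rw [if_pos rfl, Nat.sub_zero, ← mul_assoc (q ^ m ^ 2), two_mul (m ^ 2), pow_add]
      simp [gauss, plusProd]
    · rw [if_neg (by omega), add_zero, ih (m - r) (by omega), Nat.cast_pow, ← hq]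
      obtain ⟨d, hd⟩ : ∃ d, m = r + d := ⟨m - r, by omega⟩
      have e : q ^ (r * (2 * m - r)) * q ^ (2 * (m - r) ^ 2) = q ^ (m ^ 2) * q ^ ((m - r) ^ 2) := by
        rw [← pow_add, ← pow_add]
        congr 1
        subst hd
        rw [show 2 * (r + d) - r = r + 2 * d by omega, Nat.add_sub_cancel_left]
        ring
      field_simp
      linear_combination gauss q m r * plusProd q m r * e
  rw [Finset.sum_congr rfl hS, Finset.sum_congr rfl hT, Finset.sum_add_distrib, ← Finset.mul_sum,
    identity_one hq1 m 0, identity_two hq1 m 0, Finset.sum_ite_eq' (Finset.range (m + 1)) 0,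
    if_pos (Finset.mem_range.2 (by omega))] at h
  simp only [zero_mul, add_zero] at h
  have : (num F m : ℚ) = q ^ (2 * m ^ 2) := by linear_combination h
  rw [hq] at this
  exact_mod_cast this

/-- Steinberg's count of unipotent elements for the symplectic group: over a finite field with q elements of characteristic p, the number of elements of Sp_{2m} of p-power order is q^(2m²). -/
theorem result {F : Type*} [Field F] [Fintype F] (p : ℕ) [Fact p.Prime] [CharP F p] (m : ℕ) :
    Nat.card {g : ↥(Matrix.symplecticGroup (Fin m) F) // ∃ k : ℕ, orderOf g = p ^ k} = Fintype.card F ^ (2 * m ^ 2) := by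
  classical
  rw [← num_eq (F := F) m]
  have hB : ∀ x y : Cfsg.Agent.Lib.KnownSimple.SpCount.V F m, B x y = -(x ⬝ᵥ (Matrix.J (Fin m) F).mulVec y) := by
    intro x y
    simp only [B, dotProduct, Matrix.mulVec, Fintype.sum_sum_type, Matrix.J, Matrix.fromBlocks_apply₁₁,
      Matrix.fromBlocks_apply₁₂, Matrix.fromBlocks_apply₂₁, Matrix.fromBlocks_apply₂₂, Matrix.zero_apply,
      Matrix.neg_apply, Matrix.one_apply, zero_mul, Finset.sum_const_zero, neg_mul, ite_mul, one_mul,
      Finset.sum_neg_distrib, Finset.sum_ite_eq, Finset.mem_univ, if_true, add_zero, zero_add, mul_neg,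
      neg_add, neg_neg, Finset.sum_sub_distrib]
    rw [← sub_eq_add_neg]
  have hmem : ∀ A : Matrix (Fin m ⊕ Fin m) (Fin m ⊕ Fin m) F, A ∈ Matrix.symplecticGroup (Fin m) F ↔
      ∀ x y, B (Matrix.toLin' A x) (Matrix.toLin' A y) = B x y := by
    intro A
    rw [SymplecticGroup.mem_iff']
    simp only [Matrix.toLin'_apply, hB, neg_inj, Matrix.dotProduct_mulVec, Matrix.vecMul_mulVec,
      Matrix.vecMul_vecMul]
    constructor
    · intro h x y; rw [h]
    · intro h
      ext i j
      have := h (Pi.single i 1) (Pi.single j 1)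
      simpa [Matrix.single_one_vecMul, dotProduct_single] using this
  have key : ∀ A : ↥(Matrix.symplecticGroup (Fin m) F), (∃ k : ℕ, orderOf A = p ^ k) ↔
      IsNilpotent (Matrix.toLin' (A : Matrix (Fin m ⊕ Fin m) (Fin m ⊕ Fin m) F) - 1) := by
    intro A
    have e1 : Matrix.toLin' (A : Matrix (Fin m ⊕ Fin m) (Fin m ⊕ Fin m) F) - 1 =
        Matrix.toLinAlgEquiv' ((A : Matrix (Fin m ⊕ Fin m) (Fin m ⊕ Fin m) F) - 1) := by
      rw [map_sub, map_one]; rfl
    rw [e1, IsNilpotent.map_iff (EquivLike.injective _)]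
    rcases Nat.eq_zero_or_pos m with rfl | hm
    · refine iff_of_true ⟨0, ?_⟩ ⟨1, Subsingleton.elim _ _⟩
      rw [pow_zero, orderOf_eq_one_iff]
      exact Subtype.ext (Subsingleton.elim _ _)
    haveI : Nonempty (Fin m) := ⟨⟨0, hm⟩⟩
    have key : ∀ k : ℕ, A ^ p ^ k = 1 ↔ ((A : Matrix (Fin m ⊕ Fin m) (Fin m ⊕ Fin m) F) - 1) ^ p ^ k = 0 := by
      intro k
      rw [sub_pow_char_pow_of_commute (p := p) (h := Commute.one_right _), one_pow, sub_eq_zero,
        ← SubmonoidClass.coe_pow, OneMemClass.coe_eq_one]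
    constructor
    · rintro ⟨k, hk⟩
      exact ⟨p ^ k, (key k).1 (hk ▸ pow_orderOf_eq_one A)⟩
    · rintro ⟨n, hn⟩
      obtain ⟨k, hk⟩ : ∃ k, n ≤ p ^ k := ⟨n, (Nat.lt_pow_self (Fact.out : p.Prime).one_lt).le⟩
      obtain ⟨i, -, hi⟩ := (Nat.dvd_prime_pow Fact.out).1
        (orderOf_dvd_of_pow_eq_one ((key k).2 (pow_eq_zero_of_le hk hn)))
      exact ⟨i, hi⟩
  refine Nat.card_eq_of_bijective
    (fun A => ⟨⟨Matrix.toLin' (A.1 : Matrix (Fin m ⊕ Fin m) (Fin m ⊕ Fin m) F), (hmem _).1 A.1.2⟩, (key A.1).1 A.2⟩)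
    ⟨fun A A' h => Subtype.ext (Subtype.ext (Matrix.toLin'.injective (congrArg (fun f => f.1.1) h))), fun f => ?_⟩
  let A : Matrix (Fin m ⊕ Fin m) (Fin m ⊕ Fin m) F := LinearMap.toMatrix' f.1.1
  have hA : A ∈ Matrix.symplecticGroup (Fin m) F := (hmem A).2 (by
    intro x y; simp only [A, Matrix.toLin'_toMatrix']; exact f.1.2 x y)
  refine ⟨⟨⟨A, hA⟩, (key ⟨A, hA⟩).2 ?_⟩, Subtype.ext (Subtype.ext (Matrix.toLin'_toMatrix' f.1.1))⟩
  change IsNilpotent (Matrix.toLin' A - 1)
  rw [Matrix.toLin'_toMatrix']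
  exact f.2

end Cfsg.Agent.S2316
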