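import Cfsg.Statements.S2318
import Cfsg.Agent.Lib.SteinbergBlock.Unique
import Cfsg.Agent.Lib.Chars.PResidualDegree
import Cfsg.Agent.Lib.SteinbergBlock.ChevData

set_option autoImplicit false
open Cfsg

namespace Cfsg.Agent.S2318

/-- In a Chevalley group of type G₂, B₂, D₄, F₄, E₆, E₇ or E₈ over a finite field of characteristic p (for types G₂ and B₂ the field is assumed to have at least 3 elements, so that the group is perfect), the Steinberg character is the only irreducible complex character whose degree is divisible by the full power of p dividing the group order (the only irreducible character of p-defect zero). -/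
theorem result {F : Type*} [Field F] [Fintype F] (p : ℕ) [Fact p.Prime] [CharP F p] (D : Cfsg.Lie.ChevalleyDatum) (hD : D ∈ [Cfsg.Lie.chevG2, Cfsg.Lie.chevB2, Cfsg.Lie.chevD4, Cfsg.Lie.chevF4, Cfsg.Lie.chevE6, Cfsg.Lie.chevE7, Cfsg.Lie.chevE8]) (hq : (D = Cfsg.Lie.chevG2 ∨ D = Cfsg.Lie.chevB2) → 3 ≤ Fintype.card F)
    (χ : ↥(D.group F) → ℂ) (hχ : Cfsg.IsIrrCharacter ↥(D.group F) χ)
    (hdeg : ∃ d : ℕ, χ 1 = (d : ℂ) ∧ p ^ (Nat.card ↥(D.group F)).factorization p ∣ d) :
    χ = D.steinbergCharacter F := by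
  classical
  obtain ⟨C, hh⟩ := Lib.Chev.exists_rooted hD
  have hp := (Fact.out : p.Prime)
  obtain ⟨M, hM⟩ := Lib.CharCount.exists_isPModular p hp
  haveI := hM.2.1.isPrime
  haveI := Lib.Blocks.charP_residue hM
  obtain ⟨S⟩ := Lib.SteinbergBlock.exists_splitData (F := F) (k := Lib.Blocks.Residue M) hh p
  obtain ⟨d, hd1, hd2⟩ := hdeg
  let χ' : Cfsg.IrrCharacter ↥(D.group F) := ⟨χ, hχ⟩
  let ψ : Cfsg.IrrCharacter ↥(D.group F) := ⟨D.steinbergCharacter F, hh.steinberg_irr⟩
  obtain ⟨m, hm, e⟩ := hh.card_group_split (F := F) p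
  obtain ⟨k, -, hk⟩ := FiniteField.card F p
  have hm0 : m ≠ 0 := by rintro rfl; exact hm (dvd_zero p)
  have hfull : (Nat.card ↥(D.group F)).factorization p = (k : ℕ) * (D.nroots / 2) := by
    rw [e, hk, ← pow_mul, Nat.factorization_mul (pow_ne_zero _ hp.pos.ne') hm0, Finsupp.add_apply,
      Nat.factorization_eq_zero_of_not_dvd hm, hp.factorization_pow, Finsupp.single_eq_same, add_zero]
  have hψ : (Cfsg.charDegree (ψ : ↥(D.group F) → ℂ)).factorization p =
      (Nat.card ↥(D.group F)).factorization p := by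
    have h1 := (Lib.Chars.charDegree_spec ψ).2
    rw [show (ψ : ↥(D.group F) → ℂ) 1 = (Fintype.card F : ℂ) ^ (D.nroots / 2) from hh.steinberg_one] at h1
    have h2 : Cfsg.charDegree (ψ : ↥(D.group F) → ℂ) = Fintype.card F ^ (D.nroots / 2) := by
      exact_mod_cast h1.symm
    rw [h2, hfull, hk, ← pow_mul, hp.factorization_pow, Finsupp.single_eq_same]
  have hχ' : (Cfsg.charDegree (χ' : ↥(D.group F) → ℂ)).factorization p =
      (Nat.card ↥(D.group F)).factorization p := by
    obtain ⟨h1, h0, hdvd⟩ := Lib.Blocks.exists_degree_eq χ'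
    have h2 : Cfsg.charDegree (χ' : ↥(D.group F) → ℂ) = d := by
      exact_mod_cast h1.symm.trans hd1
    refine le_antisymm ((Nat.factorization_le_iff_dvd h0 Nat.card_pos.ne').2 hdvd p) ?_
    rw [h2] at h0 ⊢
    exact (hp.pow_dvd_iff_le_factorization h0).1 hd2
  exact congrArg Subtype.val (Lib.SteinbergBlock.eq_of_defect_zero hM S χ' ψ hχ' hψ)

end Cfsg.Agent.S2318
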