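import Cfsg.Statements.S2320
import Cfsg.Agent.Lib.RankSeries.GLTable

set_option autoImplicit false
open Cfsg

namespace Cfsg.Agent.S2320

open Cfsg.Agent.Lib Cfsg.Agent.Lib.RankSeries

attribute [-instance] MonoidHom.instPow MonoidHom.mul instOneMonoidHom MonoidHom.instCommMonoid
  MonoidHom.instInv MonoidHom.instDiv

/-- Over a finite field F with q elements, every irreducible complex character of GL₂ of degree q takes a value of absolute value 1 at every diagonal matrix with two different diagonal entries and at every element with no eigenvector in F². -/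
theorem result {F : Type*} [Field F] [Fintype F] (χ : Matrix.GeneralLinearGroup (Fin 2) F → ℂ) (hχ : Cfsg.IsIrrCharacter (Matrix.GeneralLinearGroup (Fin 2) F) χ) (hdeg : χ 1 = (Fintype.card F : ℂ)) (g : Matrix.GeneralLinearGroup (Fin 2) F) :
    ((g : Matrix (Fin 2) (Fin 2) F) 0 1 = 0 → (g : Matrix (Fin 2) (Fin 2) F) 1 0 = 0 → (g : Matrix (Fin 2) (Fin 2) F) 0 0 ≠ (g : Matrix (Fin 2) (Fin 2) F) 1 1 → ‖χ g‖ = 1) ∧
    ((∀ (c : F) (v : Fin 2 → F), v ≠ 0 → (g : Matrix (Fin 2) (Fin 2) F).mulVec v ≠ c • v) → ‖χ g‖ = 1) := by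
  classical
  obtain ⟨g₀, hg⟩ := exists_ell (F := F)
  have hq : (2 : ℝ) ≤ Fintype.card F := by exact_mod_cast (Fintype.one_lt_card : 1 < Fintype.card F)
  rcases gl_classify hg hχ with ⟨-, h'⟩ | ⟨h, -⟩ | ⟨-, h'⟩ | ⟨-, h'⟩
  · rw [hdeg] at h'
    have := congrArg Complex.re h'
    simp at this
    rw [this] at hq
    norm_num at hq
  · obtain ⟨ν, rfl⟩ := (mem_twistSet hg).mp h
    refine ⟨fun h01 h10 hne => ?_, fun hell => ?_⟩
    · obtain ⟨a, b, ha, hb, hgab⟩ := eq_glEquiv h10
      rw [hgab, twistSt_split hg ν (fun e => hne (by rw [← ha, ← hb, e]))]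
      exact Chars.norm_hom_apply ν _
    · rw [twistSt_ell hg ν (ell_of_noEigen hell), norm_neg]
      exact Chars.norm_hom_apply ν _
  · rw [hdeg] at h'
    exact absurd (show (0 : ℂ) = 1 by linear_combination h') zero_ne_one
  · rw [hdeg] at h'
    exact absurd (show (0 : ℂ) = 1 by linear_combination -h') zero_ne_one

end Cfsg.Agent.S2320
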