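import Cfsg.Statements.S2321
import Cfsg.Agent.Lib.RankSeries.SLDegrees
import Cfsg.Agent.Lib.SL2.ToriExist
-- import your own Cfsg.Agent.* helpers here

set_option autoImplicit false
open Cfsg

namespace Cfsg.Agent.S2321

open Cfsg.Agent.Lib Cfsg.Agent.Lib.RankSeries Cfsg.Agent.Lib.SL2
open scoped ComplexConjugate

attribute [-instance] MonoidHom.instPow MonoidHom.mul instOneMonoidHom MonoidHom.instCommMonoid
  MonoidHom.instInv MonoidHom.instDiv


/-- Over a finite field F with q elements, an irreducible complex character of SL₂ of degree q (the Steinberg character) takes the value 1 at every diagonal matrix whose diagonal entry a has a² ≠ 1, the value −1 at every element with no eigenvector in F², and the value 0 at every upper triangular matrix with equal diagonal entries and non-zero upper right entry. -/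
theorem result {F : Type*} [Field F] [Fintype F] (χ : Matrix.SpecialLinearGroup (Fin 2) F → ℂ) (hχ : Cfsg.IsIrrCharacter (Matrix.SpecialLinearGroup (Fin 2) F) χ) (hdeg : χ 1 = (Fintype.card F : ℂ)) (g : Matrix.SpecialLinearGroup (Fin 2) F) :
    ((g : Matrix (Fin 2) (Fin 2) F) 0 1 = 0 → (g : Matrix (Fin 2) (Fin 2) F) 1 0 = 0 → (g : Matrix (Fin 2) (Fin 2) F) 0 0 ^ 2 ≠ 1 → χ g = 1) ∧
    ((∀ (c : F) (v : Fin 2 → F), v ≠ 0 → (g : Matrix (Fin 2) (Fin 2) F).mulVec v ≠ c • v) → χ g = -1) ∧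
    ((g : Matrix (Fin 2) (Fin 2) F) 1 0 = 0 → (g : Matrix (Fin 2) (Fin 2) F) 0 0 = (g : Matrix (Fin 2) (Fin 2) F) 1 1 → (g : Matrix (Fin 2) (Fin 2) F) 0 1 ≠ 0 → χ g = 0) := by
  classical
  obtain ⟨g₀, hg₀⟩ := exists_elliptic (F := F)
  refine ⟨fun h01 h10 hsq => ?_, fun hno => ?_, fun h10 heq h01 => ?_⟩
  · obtain ⟨x, hx, hd, he⟩ := eq_el (g := g) h10
    rw [eq_St_of_degree hg₀ hχ hdeg, he]
    refine St_split hg₀ x _ fun hf => hsq ?_
    rw [← hx, sq_eq_one_iff]
    exact (inv_units_eq_iff x).mp hf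
  · have hell : IsElliptic g := (noEigen_iff_elliptic g).mp hno
    rw [eq_St_of_degree hell hχ hdeg]
    exact St_torus hell ⟨g, mem_centralizer_singleton_iff.2 rfl⟩ hell.notMem_center
  · obtain ⟨x, hx, hd, he⟩ := eq_el (g := g) h10
    rw [eq_St_of_degree hg₀ hχ hdeg, he]
    refine St_parab hg₀ x (Units.ext ?_) h01
    rw [hd, hx, heq]

end Cfsg.Agent.S2321
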