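import Cfsg.Statements.S2322
import Cfsg.Agent.Lib.RankSeries.SLDegrees
import Cfsg.Agent.Lib.SL2.ToriExist
-- import your own Cfsg.Agent.* helpers here

set_option autoImplicit false
open Cfsg

namespace Cfsg.Agent.S2322

open Cfsg.Agent.Lib Cfsg.Agent.Lib.RankSeries Cfsg.Agent.Lib.SL2
open scoped ComplexConjugate

attribute [-instance] MonoidHom.instPow MonoidHom.mul instOneMonoidHom MonoidHom.instCommMonoid
  MonoidHom.instInv MonoidHom.instDiv


/-- Over a finite field F with q elements, q odd: every irreducible complex character of SL₂ of degree q − 1 or (q − 1)/2 vanishes at every diagonal matrix whose diagonal entry a has a² ≠ 1, and every irreducible complex character of degree q + 1 or (q + 1)/2 vanishes at every element with no eigenvector in F². -/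
theorem result {F : Type*} [Field F] [Fintype F] (hodd : Odd (Fintype.card F)) (χ : Matrix.SpecialLinearGroup (Fin 2) F → ℂ) (hχ : Cfsg.IsIrrCharacter (Matrix.SpecialLinearGroup (Fin 2) F) χ) (g : Matrix.SpecialLinearGroup (Fin 2) F) :
    ((χ 1 = (Fintype.card F : ℂ) - 1 ∨ χ 1 = (((Fintype.card F - 1) / 2 : ℕ) : ℂ)) →
      (g : Matrix (Fin 2) (Fin 2) F) 0 1 = 0 → (g : Matrix (Fin 2) (Fin 2) F) 1 0 = 0 → (g : Matrix (Fin 2) (Fin 2) F) 0 0 ^ 2 ≠ 1 → χ g = 0) ∧
    ((χ 1 = (Fintype.card F : ℂ) + 1 ∨ χ 1 = (((Fintype.card F + 1) / 2 : ℕ) : ℂ)) →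
      (∀ (c : F) (v : Fin 2 → F), v ≠ 0 → (g : Matrix (Fin 2) (Fin 2) F).mulVec v ≠ c • v) → χ g = 0) := by
  classical
  have h1 : 1 < Fintype.card F := Fintype.one_lt_card
  obtain ⟨k, hk⟩ := hodd
  have hodd : Odd (Fintype.card F) := ⟨k, hk⟩
  refine ⟨fun hdeg h01 h10 hsq => ?_, fun hdeg hno => ?_⟩
  · obtain ⟨g₀, hg₀⟩ := exists_elliptic (F := F)
    obtain ⟨μ₀, θ₀, a, a', b, b', T⟩ := exists_oddTable hg₀ hodd
    obtain ⟨x, hx, hd, he⟩ := eq_el (g := g) h10
    have hne : x⁻¹ ≠ x := fun hf => hsq (by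
      rw [← hx, sq_eq_one_iff]
      exact (inv_units_eq_iff x).mp hf)
    have h5 : Fintype.card F ≠ 3 := fun h3 => hsq (by
      have := FiniteField.pow_card_sub_one_eq_one (x : F) x.ne_zero
      rw [h3] at this
      rw [← hx]
      exact this)
    obtain ⟨-, -, hb, hb'⟩ := T.split_values hodd x (g 0 1) hne
    obtain ⟨m, hm, hcase⟩ : ∃ m : ℕ, χ 1 = (m : ℂ) ∧
        (m = Fintype.card F - 1 ∨ m = (Fintype.card F - 1) / 2) := by
      rcases hdeg with h | h
      · exact ⟨_, by rw [h, Nat.cast_sub Fintype.card_pos, Nat.cast_one], Or.inl rfl⟩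
      · exact ⟨_, h, Or.inr rfl⟩
    rw [he]
    rcases T.of_degree hχ hm with h | h | h | h | h | h
    · omega
    · omega
    · omega
    · obtain ⟨θ, -, rfl⟩ := (slDatum hg₀).mem_discSet.mp h.1
      exact (slDatum hg₀).piC_split θ (a := x) (g 0 1) hne
    · omega
    · rcases h.1 with rfl | rfl
      exacts [hb, hb']
  · have hell : IsElliptic g := (noEigen_iff_elliptic g).mp hno
    obtain ⟨μ₀, θ₀, a, a', b, b', T⟩ := exists_oddTable hell hodd
    let c : (slDatum hell).C := ⟨g, mem_centralizer_singleton_iff.2 rfl⟩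
    obtain ⟨ha, ha', -, -⟩ := T.torus_values hodd c hell.notMem_center
    obtain ⟨m, hm, hcase⟩ : ∃ m : ℕ, χ 1 = (m : ℂ) ∧
        (m = Fintype.card F + 1 ∨ m = (Fintype.card F + 1) / 2) := by
      rcases hdeg with h | h
      · exact ⟨_, by rw [h]; push_cast; rfl, Or.inl rfl⟩
      · exact ⟨_, h, Or.inr rfl⟩
    rcases T.of_degree hχ hm with h | h | h | h | h | h
    · omega
    · omega
    · obtain ⟨μ, -, rfl⟩ := (slDatum hell).mem_princSet.mp h.1
      exact (slDatum hell).R_torus μ c hell.notMem_center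
    · exact OddTable.disc_torus_three T (by omega) h.1 c hell.notMem_center
    · rcases h.1 with rfl | rfl
      exacts [ha, ha']
    · omega

end Cfsg.Agent.S2322
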