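import Cfsg.Statements.S2323
import Cfsg.Agent.Lib.RankSeries.SLDegrees
import Cfsg.Agent.Lib.SL2.ToriExist
-- import your own Cfsg.Agent.* helpers here

set_option autoImplicit false
open Cfsg

namespace Cfsg.Agent.S2323

open Cfsg.Agent.Lib Cfsg.Agent.Lib.RankSeries Cfsg.Agent.Lib.SL2
open scoped ComplexConjugate

attribute [-instance] MonoidHom.instPow MonoidHom.mul instOneMonoidHom MonoidHom.instCommMonoid
  MonoidHom.instInv MonoidHom.instDiv


/-- Over a finite field F with q ≥ 4 elements, let u be the upper unitriangular matrix of SL₂ with off-diagonal entry 1. An irreducible complex character of SL₂ takes at u the value 1 if its degree is q + 1 and the value −1 if its degree is q − 1. -/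
theorem result {F : Type*} [Field F] [Fintype F] (hq : 4 ≤ Fintype.card F) (χ : Matrix.SpecialLinearGroup (Fin 2) F → ℂ) (hχ : Cfsg.IsIrrCharacter (Matrix.SpecialLinearGroup (Fin 2) F) χ)
    (u : Matrix.SpecialLinearGroup (Fin 2) F) (hu : (u : Matrix (Fin 2) (Fin 2) F) = !![1, 1; 0, 1]) :
    (χ 1 = (Fintype.card F : ℂ) + 1 → χ u = 1) ∧ (χ 1 = (Fintype.card F : ℂ) - 1 → χ u = -1) := by
  classical
  obtain ⟨g₀, hg₀⟩ := exists_elliptic (F := F)
  have hu' : u = el 1 1 := by
    apply Subtype.ext
    rw [hu]
    ext i j
    fin_cases i <;> fin_cases j <;> simp [el, borelEquiv, ofEntries]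
  subst hu'
  by_cases h2 : (2 : F) = 0
  · refine ⟨fun h => ?_, fun h => ?_⟩
    · rcases even_of_degree hg₀ h2 hχ (m := Fintype.card F + 1) (by rw [h]; push_cast; rfl) with
        e | e | e | e
      · omega
      · omega
      · exact OddTable.princ_unip e.1 one_ne_zero
      · omega
    · rcases even_of_degree hg₀ h2 hχ (m := Fintype.card F - 1)
          (by rw [h, Nat.cast_sub Fintype.card_pos, Nat.cast_one]) with e | e | e | e
      · omega
      · omega
      · omega
      · exact OddTable.disc_unip e.1 one_ne_zero
  · have hodd : Odd (Fintype.card F) := two_ne_zero_iff_odd.1 h2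
    obtain ⟨μ₀, θ₀, a, a', b, b', T⟩ := exists_oddTable hg₀ hodd
    refine ⟨fun h => ?_, fun h => ?_⟩
    · rcases T.of_degree hχ (m := Fintype.card F + 1) (by rw [h]; push_cast; rfl) with
        e | e | e | e | e | e
      all_goals first | exact OddTable.princ_unip e.1 one_ne_zero | omega
    · rcases T.of_degree hχ (m := Fintype.card F - 1)
          (by rw [h, Nat.cast_sub Fintype.card_pos, Nat.cast_one]) with e | e | e | e | e | e
      all_goals first | exact OddTable.disc_unip e.1 one_ne_zero | omega

end Cfsg.Agent.S2323
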