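import Cfsg.Statements.S2324
import Cfsg.Agent.Lib.RankSeries.SLDegrees
import Cfsg.Agent.Lib.SL2.ToriExist
-- import your own Cfsg.Agent.* helpers here

set_option autoImplicit false
open Cfsg

namespace Cfsg.Agent.S2324

open Cfsg.Agent.Lib Cfsg.Agent.Lib.RankSeries Cfsg.Agent.Lib.SL2
open scoped ComplexConjugate

attribute [-instance] MonoidHom.instPow MonoidHom.mul instOneMonoidHom MonoidHom.instCommMonoid
  MonoidHom.instInv MonoidHom.instDiv


/-- Over a finite field F with q elements, q odd and q ≥ 5, let u be the upper unitriangular matrix of SL₂ with off-diagonal entry 1 and let δ = (−1)^((q−1)/2). Every irreducible complex character χ of SL₂ of degree (q + 1)/2 satisfies (2χ(u) − 1)² = δq, and every irreducible complex character χ of degree (q − 1)/2 satisfies (2χ(u) + 1)² = δq; that is, χ(u) = (1 ± √(δq))/2 in the first case and χ(u) = (−1 ± √(δq))/2 in the second. Moreover two different irreducible characters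 of degree (q + 1)/2 take the two different values (their values at u add up to 1), and likewise for degree (q − 1)/2 (values adding up to −1). -/
theorem result {F : Type*} [Field F] [Fintype F] (hodd : Odd (Fintype.card F)) (hq : 5 ≤ Fintype.card F)
    (u : Matrix.SpecialLinearGroup (Fin 2) F) (hu : (u : Matrix (Fin 2) (Fin 2) F) = !![1, 1; 0, 1]) :
    (∀ χ : Matrix.SpecialLinearGroup (Fin 2) F → ℂ, Cfsg.IsIrrCharacter (Matrix.SpecialLinearGroup (Fin 2) F) χ → χ 1 = (((Fintype.card F + 1) / 2 : ℕ) : ℂ) → (2 * χ u - 1) ^ 2 = (-1 : ℂ) ^ ((Fintype.card F - 1) / 2) * (Fintype.card F : ℂ)) ∧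
    (∀ χ : Matrix.SpecialLinearGroup (Fin 2) F → ℂ, Cfsg.IsIrrCharacter (Matrix.SpecialLinearGroup (Fin 2) F) χ → χ 1 = (((Fintype.card F - 1) / 2 : ℕ) : ℂ) → (2 * χ u + 1) ^ 2 = (-1 : ℂ) ^ ((Fintype.card F - 1) / 2) * (Fintype.card F : ℂ)) ∧
    (∀ χ₁ χ₂ : Matrix.SpecialLinearGroup (Fin 2) F → ℂ, Cfsg.IsIrrCharacter (Matrix.SpecialLinearGroup (Fin 2) F) χ₁ → Cfsg.IsIrrCharacter (Matrix.SpecialLinearGroup (Fin 2) F) χ₂ → χ₁ ≠ χ₂ →
      χ₁ 1 = (((Fintype.card F + 1) / 2 : ℕ) : ℂ) → χ₂ 1 = (((Fintype.card F + 1) / 2 : ℕ) : ℂ) → χ₁ u + χ₂ u = 1) ∧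
    (∀ χ₁ χ₂ : Matrix.SpecialLinearGroup (Fin 2) F → ℂ, Cfsg.IsIrrCharacter (Matrix.SpecialLinearGroup (Fin 2) F) χ₁ → Cfsg.IsIrrCharacter (Matrix.SpecialLinearGroup (Fin 2) F) χ₂ → χ₁ ≠ χ₂ →
      χ₁ 1 = (((Fintype.card F - 1) / 2 : ℕ) : ℂ) → χ₂ 1 = (((Fintype.card F - 1) / 2 : ℕ) : ℂ) → χ₁ u + χ₂ u = -1) := by
  classical
  obtain ⟨g₀, hg₀⟩ := exists_elliptic (F := F)
  obtain ⟨μ₀, θ₀, a, a', b, b', T⟩ := exists_oddTable hg₀ hodd
  have hu' : u = el 1 1 := by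
    apply Subtype.ext
    rw [hu]
    ext i j
    fin_cases i <;> fin_cases j <;> simp [el, borelEquiv, ofEntries]
  subst hu'
  obtain ⟨k, hk⟩ := hodd
  have hodd : Odd (Fintype.card F) := ⟨k, hk⟩
  obtain ⟨s1, s2, s3, s4⟩ := T.unip_sq hodd (one_ne_zero (α := F))
  have hA : ∀ χ, IsIrrCharacter (SLtwo F) χ → χ 1 = (((Fintype.card F + 1) / 2 : ℕ) : ℂ) →
      χ = a ∨ χ = a' := fun χ hχ h => by
    rcases T.of_degree hχ h with e | e | e | e | e | e <;> first | exact e.1 | omega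
  have hB : ∀ χ, IsIrrCharacter (SLtwo F) χ → χ 1 = (((Fintype.card F - 1) / 2 : ℕ) : ℂ) →
      χ = b ∨ χ = b' := fun χ hχ h => by
    rcases T.of_degree hχ h with e | e | e | e | e | e <;> first | exact e.1 | omega
  refine ⟨fun χ hχ h => ?_, fun χ hχ h => ?_, fun χ₁ χ₂ h₁ h₂ hne d₁ d₂ => ?_,
    fun χ₁ χ₂ h₁ h₂ hne d₁ d₂ => ?_⟩
  · rcases hA χ hχ h with rfl | rfl
    exacts [s1, s2]
  · rcases hB χ hχ h with rfl | rfl
    exacts [s3, s4]
  · have e := T.a_sum_unip hodd (one_ne_zero (α := F))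
    rcases hA χ₁ h₁ d₁ with rfl | rfl <;> rcases hA χ₂ h₂ d₂ with rfl | rfl <;>
      first | exact absurd rfl hne | exact e | exact (add_comm _ _).trans e
  · have e := T.b_sum_unip hodd (one_ne_zero (α := F))
    rcases hB χ₁ h₁ d₁ with rfl | rfl <;> rcases hB χ₂ h₂ d₂ with rfl | rfl <;>
      first | exact absurd rfl hne | exact e | exact (add_comm _ _).trans e

end Cfsg.Agent.S2324
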