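import Cfsg.Statements.S2329
import Mathlib

set_option autoImplicit false
open Cfsg

namespace Cfsg.Agent.S2329

open Matrix

variable {F : Type*} [Field F]

/-- The standard unipotent element. -/
def unip (F : Type*) [Field F] : Matrix.GeneralLinearGroup (Fin 2) F :=
  ⟨!![1, 1; 0, 1], !![1, -1; 0, 1], by ext i j; fin_cases i <;> fin_cases j <;> simp,
    by ext i j; fin_cases i <;> fin_cases j <;> simp⟩

theorem conj_unip (p : ℕ) [Fact p.Prime] [CharP F p] (g : Matrix.GeneralLinearGroup (Fin 2) F)
    (hg : orderOf g = p) : IsConj (unip F) g := by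
  have hp : p.Prime := Fact.out
  obtain ⟨hgp, hg1⟩ := orderOf_eq_prime_iff.1 hg
  haveI : CharP (Matrix (Fin 2) (Fin 2) F) p := inferInstance
  set N : Matrix (Fin 2) (Fin 2) F := (g : Matrix (Fin 2) (Fin 2) F) - 1 with hN
  have hNp : N ^ p = 0 := by
    rw [hN, sub_pow_char_of_commute (p := p) (h := Commute.one_right _), one_pow, ← Units.val_pow_eq_pow_val,
      hgp, Units.val_one, sub_self]
  have hN2 : N * N = 0 := by
    have h := Matrix.isNilpotent_charpoly_sub_pow_of_isNilpotent ⟨p, hNp⟩
    have h2 : N.charpoly = Polynomial.X ^ 2 := by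
      have := IsNilpotent.eq_zero h
      rw [sub_eq_zero] at this
      simpa using this
    have := Matrix.aeval_self_charpoly N
    rw [h2] at this
    simpa [pow_two] using this
  have hN0 : N ≠ 0 := fun h => hg1 (Units.ext (sub_eq_zero.1 (by simpa [hN] using h)))
  obtain ⟨j, hj⟩ : ∃ j : Fin 2, N *ᵥ Pi.single j 1 ≠ 0 := by
    by_contra hcon
    push Not at hcon
    apply hN0
    ext i j
    simpa using congrFun (hcon j) i
  set v : Fin 2 → F := Pi.single j 1
  set u : Fin 2 → F := N *ᵥ v with hu
  have hu2 : N *ᵥ u = 0 := by rw [hu, Matrix.mulVec_mulVec, hN2, Matrix.zero_mulVec]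
  let P : Matrix (Fin 2) (Fin 2) F := (Matrix.of ![u, v])ᵀ
  have hP : IsUnit P := by
    rw [Matrix.isUnit_transpose, ← Matrix.linearIndependent_rows_iff_isUnit]
    change LinearIndependent F ![u, v]
    rw [LinearIndependent.pair_iff]
    intro a b hab
    have hb : b = 0 := by
      have h := congrArg (N *ᵥ ·) hab
      simp only [Matrix.mulVec_add, Matrix.mulVec_smul, hu2, smul_zero, zero_add, Matrix.mulVec_zero] at h
      exact (smul_eq_zero.1 h).resolve_right hj
    refine ⟨?_, hb⟩
    simp only [hb, zero_smul, add_zero] at hab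
    exact (smul_eq_zero.1 hab).resolve_right hj
  obtain ⟨Pu, hPu⟩ := hP
  refine isConj_iff.2 ⟨Pu, ?_⟩
  rw [mul_inv_eq_iff_eq_mul]
  apply Units.ext
  rw [Units.val_mul, Units.val_mul, hPu, show (g : Matrix (Fin 2) (Fin 2) F) = N + 1 by simp [hN],
    add_mul, one_mul]
  ext i k
  rw [Matrix.add_apply, show (N * P) i k = (N *ᵥ fun l => P l k) i from rfl]
  have c0 : (fun l => P l 0) = u := by funext l; simp [P]
  have c1 : (fun l => P l 1) = v := by funext l; simp [P]
  fin_cases k
  · simp only [Fin.zero_eta, c0, hu2]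
    simp [unip, Matrix.mul_apply, P]
  · simp only [Fin.mk_one, c1, ← hu]
    simp [unip, Matrix.mul_apply, P]

/-- Over a finite field of characteristic p, any two elements of order p of GL₂ are conjugate: there is a single conjugacy class of non-identity unipotent elements. -/
theorem result {F : Type*} [Field F] [Fintype F] (p : ℕ) [Fact p.Prime] [CharP F p] (g h : Matrix.GeneralLinearGroup (Fin 2) F)
    (hg : orderOf g = p) (hh : orderOf h = p) : IsConj g h := by
  exact (conj_unip p g hg).symm.trans (conj_unip p h hh)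

end Cfsg.Agent.S2329
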