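import Cfsg.Statements.S2332
import Cfsg.Agent.Lib.MinDegree.LinearPerm

set_option autoImplicit false
open Cfsg

namespace Cfsg.Agent.S2332

/-- Smallest degree of a non-linear irreducible complex representation of SL_n over a finite field with q elements, for n ≥ 3 and (n, q) not one of (3, 2), (3, 4), (4, 2), (4, 3): every irreducible complex representation of SL_n(F) of degree at least 2 has degree at least (q^n − q)/(q − 1), and there is an irreducible complex representation of exactly that degree. -/
theorem result {F : Type*} [Field F] [Fintype F] [DecidableEq F] (n : ℕ) (hn : 3 ≤ n)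
    (hex : (n, Fintype.card F) ≠ (3, 2) ∧ (n, Fintype.card F) ≠ (3, 4) ∧ (n, Fintype.card F) ≠ (4, 2) ∧ (n, Fintype.card F) ≠ (4, 3)) :
    (∀ (k : ℕ) (ρ : Representation ℂ (Matrix.SpecialLinearGroup (Fin n) F) (Fin k → ℂ)), ρ.IsIrreducible → 2 ≤ k → (Fintype.card F ^ n - Fintype.card F) / (Fintype.card F - 1) ≤ k) ∧
    (∃ ρ : Representation ℂ (Matrix.SpecialLinearGroup (Fin n) F) (Fin ((Fintype.card F ^ n - Fintype.card F) / (Fintype.card F - 1)) → ℂ), ρ.IsIrreducible) := by
  obtain ⟨r, rfl⟩ := Nat.exists_eq_add_of_le' (show 1 ≤ n by omega)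
  have hq : 2 ≤ Fintype.card F := Fintype.one_lt_card
  obtain ⟨e32, e34, e42, e43⟩ := hex
  have hc := Lib.MinDegree.slTarget_closed (Fintype.card F) (by omega) r
  have hval : (Fintype.card F ^ (r + 1) - Fintype.card F) / (Fintype.card F - 1) =
      Lib.MinDegree.slTarget (Fintype.card F) r := by
    rw [show Fintype.card F ^ (r + 1) - Fintype.card F = (Fintype.card F - 1) * Lib.MinDegree.slTarget (Fintype.card F) r by omega,
      Nat.mul_div_cancel_left _ (by omega)]
  rw [hval]
  refine ⟨fun k ρ hirr hk => Lib.MinDegree.sl_degree_bound (by omega) (fun h => ⟨fun hq2 => e32 (by rw [h, hq2]),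
    fun hq4 => e34 (by rw [h, hq4])⟩) (fun h => ?_) ρ hirr hk, Lib.MinDegree.sl_degree_attained (by omega)⟩
  by_contra hlt
  rcases (show Fintype.card F = 2 ∨ Fintype.card F = 3 by omega) with hq2 | hq3
  · exact e42 (by rw [h, hq2])
  · exact e43 (by rw [h, hq3])

end Cfsg.Agent.S2332
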