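import Cfsg.Statements.S2336
import Cfsg.Agent.Lib.Chars.Ops
import Cfsg.Agent.Lib.Chars.Completeness
import Cfsg.Agent.S2272
import Mathlib

set_option autoImplicit false
open Cfsg

namespace Cfsg.Agent.S2336

open Matrix Finset
open scoped ComplexConjugate
open Cfsg.Agent.Lib.Chars

/-- Non-zero vectors. -/
abbrev NZ (n : ℕ) (F : Type*) [Field F] := {v : Fin n → F // v ≠ 0}

variable {F : Type*} [Field F] {n : ℕ}

theorem mulVec_ne_zero (g : Matrix.SpecialLinearGroup (Fin n) F) (v : NZ n F) :
    (g : Matrix (Fin n) (Fin n) F) *ᵥ v.1 ≠ 0 := fun h => v.2 <| by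
  have := congrArg (((g⁻¹ : Matrix.SpecialLinearGroup (Fin n) F) : Matrix (Fin n) (Fin n) F) *ᵥ ·) h
  simpa only [Matrix.mulVec_mulVec, ← Matrix.SpecialLinearGroup.coe_mul, inv_mul_cancel,
    Matrix.SpecialLinearGroup.coe_one, Matrix.one_mulVec, Matrix.mulVec_zero] using this

instance instActSL : MulAction (Matrix.SpecialLinearGroup (Fin n) F) (NZ n F) where
  smul g v := ⟨(g : Matrix (Fin n) (Fin n) F) *ᵥ v.1, mulVec_ne_zero g v⟩
  one_smul v := Subtype.ext (by
    change ((1 : Matrix.SpecialLinearGroup (Fin n) F) : Matrix (Fin n) (Fin n) F) *ᵥ v.1 = v.1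
    simp)
  mul_smul g h v := Subtype.ext (by
    change ((g * h : Matrix.SpecialLinearGroup (Fin n) F) : Matrix (Fin n) (Fin n) F) *ᵥ v.1 =
      (g : Matrix (Fin n) (Fin n) F) *ᵥ ((h : Matrix (Fin n) (Fin n) F) *ᵥ v.1)
    simp [Matrix.mulVec_mulVec])

instance instActProd : MulAction (Matrix.SpecialLinearGroup (Fin n) F × Fˣ) (NZ n F) where
  smul g v := ⟨(g.2 : F) • (g.1 • v).1, smul_ne_zero g.2.ne_zero (g.1 • v).2⟩
  one_smul v := Subtype.ext (by
    change ((1 : Fˣ) : F) • ((1 : Matrix.SpecialLinearGroup (Fin n) F) • v).1 = v.1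
    simp)
  mul_smul g h v := Subtype.ext (by
    change ((g.2 * h.2 : Fˣ) : F) • ((g.1 * h.1 : Matrix.SpecialLinearGroup (Fin n) F) • v).1 =
      (g.2 : F) • ((g.1 : Matrix (Fin n) (Fin n) F) *ᵥ
        ((h.2 : F) • ((h.1 : Matrix (Fin n) (Fin n) F) *ᵥ v.1)))
    rw [Matrix.mulVec_smul, smul_smul, Matrix.mulVec_mulVec, ← Matrix.SpecialLinearGroup.coe_mul,
      Units.val_mul]
    rfl)

theorem smul_coe (g : Matrix.SpecialLinearGroup (Fin n) F) (v : NZ n F) :
    (g • v).1 = (g : Matrix (Fin n) (Fin n) F) *ᵥ v.1 := rfl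

theorem prod_smul_coe (g : Matrix.SpecialLinearGroup (Fin n) F) (a : Fˣ) (v : NZ n F) :
    ((g, a) • v).1 = (a : F) • ((g : Matrix (Fin n) (Fin n) F) *ᵥ v.1) := rfl

variable [Fintype F] [DecidableEq F]

/-- The permutation character of `SL_n(F) × Fˣ`. -/
noncomputable def theta (x : Matrix.SpecialLinearGroup (Fin n) F × Fˣ) : ℂ :=
  (Nat.card (MulAction.fixedBy (NZ n F) x) : ℂ)

/-- The eigencomponent of the permutation character. -/
noncomputable def pr (μ : Fˣ →* ℂˣ) (g : Matrix.SpecialLinearGroup (Fin n) F) : ℂ :=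
  (Nat.card Fˣ : ℂ)⁻¹ * ∑ a : Fˣ, theta (g, a) * conj (μ a : ℂ)

theorem isCharacter_theta : IsCharacter (Matrix.SpecialLinearGroup (Fin n) F × Fˣ) theta :=
  isCharacter_permChar (G := Matrix.SpecialLinearGroup (Fin n) F × Fˣ) (NZ n F)

theorem isClassFunction_pr (μ : Fˣ →* ℂˣ) :
    IsClassFunction (Matrix.SpecialLinearGroup (Fin n) F) (pr μ) := by
  intro g h
  simp only [pr]
  congr 1
  refine Finset.sum_congr rfl fun a _ => ?_
  congr 1
  refine isClassFunction_apply_eq (isClassFunction_of_isCharacter isCharacter_theta) ?_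
  exact isConj_iff.2 ⟨(h, 1), by simp⟩

theorem classInner_pr (μ : Fˣ →* ℂˣ) {χ : Matrix.SpecialLinearGroup (Fin n) F → ℂ}
    (hχ : IsCharacter _ χ) : ∃ k : ℕ, classInner (pr μ) χ = k := by
  have h2 : IsCharacter (Matrix.SpecialLinearGroup (Fin n) F × Fˣ)
      ((fun x => χ (MonoidHom.fst _ _ x)) * fun x => (μ (MonoidHom.snd _ _ x) : ℂ)) :=
    isCharacter_mul (isCharacter_comp (MonoidHom.fst (Matrix.SpecialLinearGroup (Fin n) F) Fˣ) hχ)
      (isCharacter_hom (μ.comp (MonoidHom.snd (Matrix.SpecialLinearGroup (Fin n) F) Fˣ)))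
  obtain ⟨k, hk⟩ := isCharacter_classInner_nat isCharacter_theta h2
  refine ⟨k, ?_⟩
  rw [← hk]
  simp only [classInner, Nat.card_prod, Nat.cast_mul, pr, Fintype.sum_prod_type, Finset.mul_sum,
    Finset.sum_mul, Pi.mul_apply, map_mul, MonoidHom.coe_fst, MonoidHom.coe_snd, _root_.mul_inv_rev]
  exact Finset.sum_congr rfl fun g _ => Finset.sum_congr rfl fun a _ => by ring

theorem isCharacter_pr (μ : Fˣ →* ℂˣ) : IsCharacter (Matrix.SpecialLinearGroup (Fin n) F) (pr μ) :=
  isCharacter_of_isClassFunction_of_nat (isClassFunction_pr μ) fun χ =>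
    classInner_pr μ (irr_isCharacter χ)

theorem fixed_one_smul (a : Fˣ) (ha : a ≠ 1) :
    theta ((1 : Matrix.SpecialLinearGroup (Fin n) F), a) = 0 := by
  have : IsEmpty (MulAction.fixedBy (NZ n F) ((1 : Matrix.SpecialLinearGroup (Fin n) F), a)) := by
    refine ⟨fun v => ?_⟩
    have h := congrArg Subtype.val v.2
    rw [prod_smul_coe] at h
    simp only [Matrix.SpecialLinearGroup.coe_one, Matrix.one_mulVec] at h
    refine ha (Units.ext ?_)
    obtain ⟨i, hi⟩ := Function.ne_iff.1 v.1.2
    have hi' := congrFun h i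
    simp only [Pi.smul_apply, smul_eq_mul] at hi'
    exact mul_right_cancel₀ hi (hi'.trans (one_mul _).symm)
  simp [theta, Nat.card_of_isEmpty]

theorem pr_apply_one (μ : Fˣ →* ℂˣ) :
    pr μ (1 : Matrix.SpecialLinearGroup (Fin n) F) = (Nat.card (NZ n F) : ℂ) / (Nat.card Fˣ : ℂ) := by
  rw [pr, Finset.sum_eq_single (1 : Fˣ) (fun a _ ha => by rw [fixed_one_smul a ha, zero_mul])
    (fun h => absurd (Finset.mem_univ _) h), map_one, Units.val_one, map_one, mul_one, div_eq_inv_mul]
  congr 1
  rw [theta, Prod.mk_one_one, MulAction.fixedBy_one_eq_univ, Nat.card_coe_set_eq, Set.ncard_univ]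

theorem sum_mu [Fintype (Fˣ →* ℂˣ)] (a : Fˣ) : ∑ μ : Fˣ →* ℂˣ, (μ a : ℂ) =
    if a = 1 then (Nat.card (Fˣ →* ℂˣ) : ℂ) else 0 := by
  classical
  split_ifs with h
  · simp [h, Nat.card_eq_fintype_card]
  · obtain ⟨ν, hν⟩ := CommGroup.exists_apply_ne_one_of_hasEnoughRootsOfUnity Fˣ ℂ h
    have h2 : (ν a : ℂ) * ∑ μ : Fˣ →* ℂˣ, (μ a : ℂ) = ∑ μ : Fˣ →* ℂˣ, (μ a : ℂ) := by
      rw [Finset.mul_sum]
      refine Fintype.sum_equiv (Equiv.mulLeft ν) _ _ fun μ => ?_
      simp
    have h3 : ((ν a : ℂ) - 1) * ∑ μ : Fˣ →* ℂˣ, (μ a : ℂ) = 0 := by rw [sub_mul, h2, one_mul, sub_self]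
    refine (mul_eq_zero.1 h3).resolve_left (sub_ne_zero.2 fun e => hν (Units.ext ?_))
    rw [e, Units.val_one]

theorem sum_pr [Fintype (Fˣ →* ℂˣ)] (g : Matrix.SpecialLinearGroup (Fin n) F) :
    ∑ μ : Fˣ →* ℂˣ, pr μ g = theta (g, 1) := by
  simp only [pr, ← Finset.mul_sum]
  rw [Finset.sum_comm]
  simp only [← Finset.mul_sum, ← map_sum]
  have : ∀ a : Fˣ, ∑ μ : Fˣ →* ℂˣ, (μ a : ℂ) = if a = 1 then (Nat.card Fˣ : ℂ) else 0 := by
    intro a
    rw [sum_mu, CommGroup.card_monoidHom_of_hasEnoughRootsOfUnity]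
  simp only [this, apply_ite conj, Complex.conj_natCast, map_zero, mul_ite, mul_zero,
    Finset.sum_ite_eq', Finset.mem_univ, if_true]
  field_simp [natCard_ne_zero (G := Fˣ)]

/-- The orbit of a pair, computed. -/
theorem card_orbits (hn : 3 ≤ n) :
    Nat.card (Quotient (MulAction.orbitRel (Matrix.SpecialLinearGroup (Fin n) F) (NZ n F × NZ n F))) =
      Fintype.card F := by
  classical
  let e : Fin n → F := Pi.single ⟨0, by omega⟩ 1
  let e' : Fin n → F := Pi.single ⟨1, by omega⟩ 1
  have he : e ≠ 0 := by simp [e]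
  have he' : e' ≠ 0 := by simp [e']
  have hee : LinearIndependent F ![e, e'] := by
    rw [LinearIndependent.pair_iff]
    intro s t h
    have h0 := congrFun h ⟨0, by omega⟩
    have h1 := congrFun h ⟨1, by omega⟩
    simp [e, e', Pi.single_apply] at h0 h1
    exact ⟨h0, h1⟩
  let Φ : Option Fˣ → Quotient (MulAction.orbitRel (Matrix.SpecialLinearGroup (Fin n) F) (NZ n F × NZ n F)) :=
    fun o => Quotient.mk'' (⟨e, he⟩, o.elim ⟨e', he'⟩ fun c => ⟨(c : F) • e, smul_ne_zero c.ne_zero he⟩)
  have hΦ : Function.Bijective Φ := by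
    constructor
    · intro o o' h
      obtain ⟨g, hg⟩ := Quotient.eq''.1 h
      have g1 : (g : Matrix (Fin n) (Fin n) F) *ᵥ e = e := congrArg (fun p => (p.1 : NZ n F).1) hg
      have g2 := congrArg (fun p => (p.2 : NZ n F).1) hg
      cases o with
      | none =>
        cases o' with
        | none => rfl
        | some c' =>
          change (g : Matrix (Fin n) (Fin n) F) *ᵥ ((c' : F) • e) = e' at g2
          rw [Matrix.mulVec_smul, g1] at g2
          exact absurd g2 ((LinearIndependent.pair_iff' he).1 hee _)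
      | some c =>
        cases o' with
        | some c' =>
          change (g : Matrix (Fin n) (Fin n) F) *ᵥ ((c' : F) • e) = (c : F) • e at g2
          rw [Matrix.mulVec_smul, g1] at g2
          exact congrArg some (Units.ext (smul_left_injective F he g2).symm)
        | none =>
          change (g : Matrix (Fin n) (Fin n) F) *ᵥ e' = (c : F) • e at g2
          rw [← g1, ← Matrix.mulVec_smul] at g2
          have h3 := congrArg (((g⁻¹ : Matrix.SpecialLinearGroup (Fin n) F) : Matrix (Fin n) (Fin n) F) *ᵥ ·) g2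
          simp only [Matrix.mulVec_mulVec, ← Matrix.SpecialLinearGroup.coe_mul, inv_mul_cancel,
            Matrix.SpecialLinearGroup.coe_one, Matrix.one_mulVec] at h3
          exact absurd h3.symm ((LinearIndependent.pair_iff' he).1 hee _)
    · intro q
      induction q using Quotient.inductionOn' with | h p => ?_
      obtain ⟨⟨v, hv⟩, ⟨w, hw⟩⟩ := p
      by_cases hi : LinearIndependent F ![v, w]
      · obtain ⟨g, g1, g2⟩ := Cfsg.Agent.S2272.exists_map_pair hn hi hee
        exact ⟨none, Quotient.eq''.2 ⟨g, Prod.ext (Subtype.ext g1) (Subtype.ext g2)⟩⟩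
      · rw [LinearIndependent.pair_iff' hv] at hi
        push Not at hi
        obtain ⟨c, hc⟩ := hi
        have hc0 : c ≠ 0 := fun h => hw (by rw [← hc, h, zero_smul])
        obtain ⟨z, -, hz⟩ := SetLike.exists_of_lt (lt_top_iff_ne_top.2 (fun h => by
          have := finrank_span_singleton (K := F) hv
          rw [h, finrank_top, Module.finrank_fin_fun] at this
          omega) : Submodule.span F {v} < ⊤)
        have hvz : LinearIndependent F ![v, z] := by
          rw [LinearIndependent.pair_iff' hv]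
          exact fun a ha => hz (Submodule.mem_span_singleton.2 ⟨a, ha⟩)
        obtain ⟨g, g1, -⟩ := Cfsg.Agent.S2272.exists_map_pair hn hvz hee
        refine ⟨some (Units.mk0 c hc0), Quotient.eq''.2 ⟨g, Prod.ext (Subtype.ext g1) (Subtype.ext ?_)⟩⟩
        change (g : Matrix (Fin n) (Fin n) F) *ᵥ w = c • e
        rw [← hc, Matrix.mulVec_smul, g1]
  rw [← Nat.card_eq_of_bijective Φ hΦ, Nat.card_eq_fintype_card, Fintype.card_option, Fintype.card_units]
  have := Fintype.card_pos (α := F)
  omega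

theorem classInner_theta_one (hn : 3 ≤ n) :
    classInner (fun g : Matrix.SpecialLinearGroup (Fin n) F => theta (g, 1))
      (fun g => theta (g, 1)) = (Fintype.card F : ℂ) := by
  classical
  have key := MulAction.sum_card_fixedBy_eq_card_orbits_mul_card_group
    (Matrix.SpecialLinearGroup (Fin n) F) (NZ n F × NZ n F)
  rw [← Nat.card_eq_fintype_card (α := Quotient _), card_orbits hn] at key
  have hterm : ∀ g : Matrix.SpecialLinearGroup (Fin n) F,
      (Fintype.card (MulAction.fixedBy (NZ n F × NZ n F) g) : ℂ) = theta (g, 1) * conj (theta (g, 1)) := by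
    intro g
    have e1 : Nat.card (MulAction.fixedBy (NZ n F) (g, (1 : Fˣ))) = Nat.card (MulAction.fixedBy (NZ n F) g) := by
      refine Nat.card_congr (Equiv.subtypeEquivRight fun v => ?_)
      simp only [MulAction.mem_fixedBy, Subtype.ext_iff, prod_smul_coe, smul_coe, Units.val_one, one_smul]
    rw [theta, e1, Complex.conj_natCast, ← Nat.cast_mul, ← Nat.card_prod, ← Nat.card_eq_fintype_card]
    congr 1
    refine Nat.card_congr ?_
    exact (Equiv.subtypeEquivRight fun p => by simp [MulAction.mem_fixedBy, Prod.ext_iff]).trans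
      (Equiv.subtypeProdEquivProd)
  rw [classInner, ← Finset.sum_congr rfl fun g _ => hterm g, ← Nat.cast_sum, key, Nat.cast_mul,
    Nat.card_eq_fintype_card]
  field_simp

theorem classInner_self_ne_zero {G : Type*} [Group G] [Fintype G] {f : G → ℂ} (h : f 1 ≠ 0) :
    classInner f f ≠ 0 := by
  have h2 : ∑ g : G, f g * conj (f g) = ((∑ g : G, Complex.normSq (f g) : ℝ) : ℂ) := by
    push_cast; exact Finset.sum_congr rfl fun g _ => Complex.mul_conj _
  rw [classInner, h2]
  refine mul_ne_zero (inv_ne_zero natCard_ne_zero) (Complex.ofReal_ne_zero.2 (ne_of_gt ?_))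
  exact Finset.sum_pos' (fun g _ => Complex.normSq_nonneg _)
    ⟨1, Finset.mem_univ _, Complex.normSq_pos.2 h⟩

/-- Let F be a finite field with q elements and n ≥ 3. The permutation character of SL_n(F) on the non-zero vectors of F^n (the function sending a matrix to the number of non-zero vectors it fixes) is the sum of the principal character and q − 1 pairwise distinct irreducible complex characters. -/
theorem result {F : Type*} [Field F] [Fintype F] [DecidableEq F] (n : ℕ) (hn : 3 ≤ n) :
    ∃ χ : Fin (Fintype.card F - 1) → (Matrix.SpecialLinearGroup (Fin n) F → ℂ),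
      (∀ i, Cfsg.IsIrrCharacter (Matrix.SpecialLinearGroup (Fin n) F) (χ i)) ∧ Function.Injective χ ∧
      ∀ g : Matrix.SpecialLinearGroup (Fin n) F,
        (Nat.card {v : Fin n → F // v ≠ 0 ∧ (g : Matrix (Fin n) (Fin n) F).mulVec v = v} : ℂ) = 1 + ∑ i, χ i g := by
  classical
  haveI : Finite (Fˣ →* ℂˣ) := Nat.finite_of_card_ne_zero (by
    rw [CommGroup.card_monoidHom_of_hasEnoughRootsOfUnity]; exact Nat.card_pos.ne')
  haveI := Fintype.ofFinite (Fˣ →* ℂˣ)
  set G := Matrix.SpecialLinearGroup (Fin n) F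
  set I := Fˣ →* ℂˣ
  let one : G → ℂ := fun _ => 1
  let φ : I → G → ℂ := fun μ => if μ = 1 then pr μ - one else pr μ
  have hone : IsCharacter G one := isCharacter_of_isIrrCharacter isIrrCharacter_one
  have htriv : classInner (pr (1 : I) : G → ℂ) one ≠ 0 := by
    have e : classInner (pr (1 : I) : G → ℂ) one = (Nat.card G : ℂ)⁻¹ * (Nat.card Fˣ : ℂ)⁻¹ *
        ((∑ g : G, ∑ a : Fˣ, Nat.card (MulAction.fixedBy (NZ n F) (g, a)) : ℕ) : ℂ) := by
      simp [classInner, pr, theta, one, Finset.mul_sum, mul_assoc, G]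
    rw [e]
    refine mul_ne_zero (mul_ne_zero (inv_ne_zero natCard_ne_zero) (inv_ne_zero natCard_ne_zero))
      (Nat.cast_ne_zero.2 (ne_of_gt ?_))
    refine Finset.sum_pos' (fun _ _ => Nat.zero_le _) ⟨1, Finset.mem_univ _,
      Finset.sum_pos' (fun _ _ => Nat.zero_le _) ⟨1, Finset.mem_univ _, ?_⟩⟩
    rw [Prod.mk_one_one, MulAction.fixedBy_one_eq_univ]
    exact Nat.card_pos_iff.2 ⟨⟨⟨⟨Pi.single ⟨0, by omega⟩ 1, by simp⟩, Set.mem_univ _⟩⟩, inferInstance⟩
  have hφ : ∀ μ, IsCharacter G (φ μ) := by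
    intro μ
    by_cases hμ : μ = 1
    · subst hμ
      simp only [φ, if_true]
      refine isCharacter_of_isClassFunction_of_nat
        (isClassFunction_sub (isClassFunction_pr 1) (isClassFunction_of_isCharacter hone)) fun χ => ?_
      obtain ⟨k, hk⟩ := classInner_pr (1 : I) (irr_isCharacter χ)
      rw [classInner_sub_left, hk]
      by_cases hχ : χ = trivialIrr G
      · subst hχ
        have h1 : classInner one (trivialIrr G : G → ℂ) = 1 := classInner_irr_self (trivialIrr G)
        have hk0 : k ≠ 0 := fun h => htriv (by rw [show one = (trivialIrr G : G → ℂ) from rfl, hk, h, Nat.cast_zero])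
        exact ⟨k - 1, by rw [h1, Nat.cast_sub (Nat.one_le_iff_ne_zero.2 hk0), Nat.cast_one]⟩
      · have h1 : classInner one (χ : G → ℂ) = 0 := classInner_irr_of_ne (Ne.symm hχ)
        exact ⟨k, by rw [h1, sub_zero]⟩
    · simp only [φ, if_neg hμ]; exact isCharacter_pr μ
  have hcardX : Nat.card Fˣ < Nat.card (NZ n F) := by
    let ι : Option Fˣ → NZ n F := fun o => o.elim ⟨Pi.single ⟨1, by omega⟩ 1, by simp⟩
      fun a => ⟨Pi.single ⟨0, by omega⟩ (a : F), by simp⟩
    have hι : Function.Injective ι := by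
      intro o o' h
      have h' := congrArg Subtype.val h
      match o, o' with
      | none, none => rfl
      | some a, some a' => exact congrArg some (Units.ext (Pi.single_injective _ h'))
      | none, some a' =>
        have := congrFun h' ⟨0, by omega⟩
        simp [ι, Pi.single_apply] at this
        all_goals exact absurd this (by simp [a'.ne_zero, eq_comm])
      | some a, none =>
        have := congrFun h' ⟨0, by omega⟩
        simp [ι, Pi.single_apply] at this
        all_goals exact absurd this (by simp [a.ne_zero, eq_comm])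
    have := Nat.card_le_card_of_injective ι hι
    rw [Finite.card_option] at this
    omega
  have hφ1 : ∀ μ, φ μ 1 ≠ 0 := by
    intro μ
    have hX : (Nat.card (NZ n F) : ℂ) ≠ Nat.card Fˣ := by exact_mod_cast (ne_of_gt hcardX)
    have hX0 : (Nat.card (NZ n F) : ℂ) ≠ 0 := by
      have : 0 < Nat.card (NZ n F) := by omega
      exact_mod_cast this.ne'
    by_cases hμ : μ = 1
    · simp only [φ, if_pos hμ, Pi.sub_apply, pr_apply_one, one]
      rw [sub_ne_zero, ne_eq, div_eq_one_iff_eq natCard_ne_zero]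
      exact hX
    · simp only [φ, if_neg hμ, pr_apply_one]
      exact div_ne_zero hX0 natCard_ne_zero
  have hsum : (fun g : G => theta (g, 1)) = one + ∑ μ, φ μ := by
    funext g
    rw [Pi.add_apply, Finset.sum_apply, ← sum_pr g]
    have : ∀ μ : I, φ μ g = pr μ g - if μ = 1 then 1 else 0 := by
      intro μ; by_cases hμ : μ = 1 <;> simp [φ, hμ, one]
    rw [Finset.sum_congr rfl (fun μ _ => this μ), Finset.sum_sub_distrib, Finset.sum_ite_eq',
      if_pos (Finset.mem_univ _)]
    simp [one]
    exact Finset.sum_congr (Finset.ext fun _ => by simp) (fun _ _ => rfl)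
  choose k hk using fun μ ν => isCharacter_classInner_nat (hφ μ) (hφ ν)
  choose s hs using fun μ => isCharacter_classInner_nat hone (hφ μ)
  choose s' hs' using fun μ => isCharacter_classInner_nat (hφ μ) hone
  have hnorm := classInner_theta_one (F := F) hn
  rw [hsum, classInner_add_left, classInner_add_right, classInner_add_right,
    show classInner one one = 1 from classInner_irr_self (trivialIrr G),
    classInner_sum_right, classInner_sum_left, classInner_sum_left] at hnorm
  simp only [classInner_sum_right, hk, hs, hs'] at hnorm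
  have hnat : 1 + ∑ μ, s μ + (∑ μ, s' μ + ∑ μ, ∑ ν, k μ ν) = Fintype.card F := by exact_mod_cast hnorm
  have hdiag : ∀ μ, 1 ≤ k μ μ := fun μ => Nat.one_le_iff_ne_zero.2 fun h =>
    classInner_self_ne_zero (hφ1 μ) (by rw [hk, h, Nat.cast_zero])
  have hI : Fintype.card I = Fintype.card F - 1 := by
    rw [← Nat.card_eq_fintype_card, CommGroup.card_monoidHom_of_hasEnoughRootsOfUnity,
      Nat.card_eq_fintype_card, Fintype.card_units]
  have hF := Fintype.one_lt_card (α := F)
  have hk1 : ∀ μ ν, k μ ν = if μ = ν then 1 else 0 := by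
    intro μ₀ ν₀
    have hle : ∀ μ, (∑ ν, if μ = ν then 1 else 0) ≤ ∑ ν, k μ ν := fun μ =>
      Finset.sum_le_sum fun ν _ => by
        by_cases h : μ = ν
        · subst h; simpa using hdiag μ
        · simp [h]
    have htot : ∑ μ : I, ∑ ν : I, (if μ = ν then 1 else 0) = ∑ μ, ∑ ν, k μ ν := by
      refine le_antisymm (Finset.sum_le_sum fun μ _ => hle μ) ?_
      have h1' : ∀ μ : I, (∑ ν : I, if μ = ν then 1 else 0 : ℕ) = 1 := fun μ =>
        (Finset.sum_eq_single μ (fun ν _ hν => if_neg (Ne.symm hν))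
          (fun h => absurd (Finset.mem_univ μ) h)).trans (if_pos rfl)
      rw [Finset.sum_congr rfl fun μ _ => h1' μ, Finset.sum_const, Finset.card_univ, smul_eq_mul, mul_one]
      omega
    have h1 := (Finset.sum_eq_sum_iff_of_le fun μ _ => hle μ).1 htot μ₀ (Finset.mem_univ _)
    exact ((Finset.sum_eq_sum_iff_of_le fun ν _ => by
      by_cases h : μ₀ = ν
      · subst h; simpa using hdiag μ₀
      · simp [h]).1 h1 ν₀ (Finset.mem_univ _)).symm
  let eI : Fin (Fintype.card F - 1) ≃ I := (Fintype.equivFinOfCardEq hI).symm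
  refine ⟨fun i => φ (eI i), fun i => ?_, fun i j hij => eI.injective ?_, fun g => ?_⟩
  · exact (isIrrCharacter_iff_classInner_eq_one (hφ _)).2 (by rw [hk, hk1, if_pos rfl, Nat.cast_one])
  · by_contra hne
    have h1 := hk (eI i) (eI j)
    rw [hk1, if_neg hne, Nat.cast_zero] at h1
    have hij' : φ (eI i) = φ (eI j) := hij
    rw [hij'] at h1
    exact classInner_self_ne_zero (hφ1 _) h1
  · rw [Equiv.sum_comp eI (fun μ => φ μ g)]
    have h := congrFun hsum g
    rw [Pi.add_apply, Finset.sum_apply] at h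
    refine Eq.trans ?_ h
    rw [theta]
    congr 1
    refine Nat.card_congr ((Equiv.subtypeSubtypeEquivSubtypeInter _ _).symm.trans
      (Equiv.subtypeEquivRight fun v => ?_))
    simp only [MulAction.mem_fixedBy, Subtype.ext_iff, prod_smul_coe, Units.val_one, one_smul]

end Cfsg.Agent.S2336
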