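import Cfsg.Statements.S2338
import Cfsg.Agent.Lib.G2Deg41.Main

set_option autoImplicit false
open Cfsg

namespace Cfsg.Agent.S2338

open Lib.G2Deg41 Module

theorem card_three {F : Type*} [Field F] [Fintype F] :
    Fintype.card F % 3 = 0 ↔ (3 : F) = 0 := by
  constructor
  · intro h
    obtain ⟨p, hp⟩ := CharP.exists F
    obtain ⟨n, hpp, hcard⟩ := FiniteField.card F p
    have h3 : 3 ∣ p := Nat.Prime.dvd_of_dvd_pow Nat.prime_three (hcard ▸ Nat.dvd_of_mod_eq_zero h)
    obtain rfl : 3 = p := (Nat.prime_dvd_prime_iff_eq Nat.prime_three hpp).1 h3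
    exact_mod_cast CharP.cast_eq_zero F 3
  · intro h
    obtain ⟨p, hp⟩ := CharP.exists F
    obtain ⟨n, hpp, hcard⟩ := FiniteField.card F p
    obtain rfl : p = 3 := (Nat.prime_dvd_prime_iff_eq hpp Nat.prime_three).1
      ((CharP.cast_eq_zero_iff F p 3).1 (by exact_mod_cast h))
    rw [hcard]
    exact Nat.mod_eq_zero_of_dvd (dvd_pow_self 3 n.pos.ne') 

theorem three_nine {F : Type*} [Field F] [Fintype F] (h0 : Fintype.card F % 3 = 0) (h3 : 3 < Fintype.card F) :
    9 ≤ Fintype.card F := by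
  obtain ⟨p, hp⟩ := CharP.exists F
  obtain ⟨n, hpp, hcard⟩ := FiniteField.card F p
  have h : 3 ∣ p := Nat.Prime.dvd_of_dvd_pow Nat.prime_three (hcard ▸ Nat.dvd_of_mod_eq_zero h0)
  obtain rfl : 3 = p := (Nat.prime_dvd_prime_iff_eq Nat.prime_three hpp).1 h
  rw [hcard] at h3 ⊢
  have : 2 ≤ (n : ℕ) := by
    by_contra hn
    have : (n : ℕ) = 1 := by have := n.pos; omega
    rw [this] at h3; norm_num at h3
  exact le_trans (by norm_num) (Nat.pow_le_pow_right (by norm_num) this)

/-- Lower bounds for the degrees of non-linear irreducible complex representations of the Chevalley group of type G₂ over a finite field with q elements: the degree is at least q³ + 1 when q ≡ 1 (mod 3) and q > 4, at least q³ − 1 when q ≡ 2 (mod 3) and q > 2, and at least q⁴ + q² + 1 when q ≡ 0 (mod 3) and q > 3. -/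
theorem result {F : Type*} [Field F] [Fintype F] (k : ℕ) (ρ : Representation ℂ (Cfsg.Lie.chevG2.group F) (Fin k → ℂ)) (hρ : ρ.IsIrreducible) (hk : 2 ≤ k) :
    (Fintype.card F % 3 = 1 → 4 < Fintype.card F → Fintype.card F ^ 3 + 1 ≤ k) ∧
    (Fintype.card F % 3 = 2 → 2 < Fintype.card F → Fintype.card F ^ 3 - 1 ≤ k) ∧
    (Fintype.card F % 3 = 0 → 3 < Fintype.card F → Fintype.card F ^ 4 + Fintype.card F ^ 2 + 1 ≤ k) := by

  classical
  by_cases hq : Fintype.card F ≤ 2
  · refine ⟨fun _ h => by omega, fun _ h => by omega, fun _ h => by omega⟩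
  push Not at hq
  haveI : Finite ↥(Cfsg.Lie.chevG2.group F) := Subtype.finite
  haveI := hρ
  obtain ⟨a, ha0, ha1⟩ : ∃ a : F, a ≠ 0 ∧ a ≠ 1 := by
    by_contra hcon
    push Not at hcon
    have : Fintype.card F ≤ 2 := by
      rw [← Finset.card_univ]
      refine le_trans (Finset.card_le_card (fun x _ => ?_)) (Finset.card_le_two (a := (0 : F)) (b := 1))
      by_cases hx : x = 0
      · simp [hx]
      · simp [hcon x hx]
    omega
  haveI : IsSimpleGroup ↥(Cfsg.Lie.chevG2.group F) := (Lib.Chev.simple_G2 ⟨a, ha0, ha1⟩).1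
  obtain ⟨ψ, hψ⟩ : ∃ ψ : AddChar F ℂ, ψ 1 ≠ 1 := AddChar.exists_apply_ne_zero.2 one_ne_zero
  let X : Lib.G2Deg41.Ctx F ↥(Cfsg.Lie.chevG2.group F) (Fin k → ℂ) :=
    ⟨Lib.G2Deg41.data F, ρ, ψ, fun e => hψ (by rw [e]; rfl)⟩
  haveI hirrX : Representation.IsIrreducible (X.π : Representation ℂ ↥(Cfsg.Lie.chevG2.group F) (Fin k → ℂ)) := hρ
  have hfix : ∀ v : Fin k → ℂ, (∀ g, ρ g v = v) → v = 0 := by
    intro v hv
    by_contra hne
    let W : Subrepresentation ρ :=
      { toSubmodule := Submodule.span ℂ {v}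
        apply_mem_toSubmodule := fun g w hw => by
          obtain ⟨c, rfl⟩ := Submodule.mem_span_singleton.1 hw
          rw [map_smul, hv]; exact Submodule.mem_span_singleton.2 ⟨c, rfl⟩ }
    rcases hρ.eq_bot_or_eq_top W with hW | hW
    · exact hne (Submodule.span_singleton_eq_bot.1 (congrArg Subrepresentation.toSubmodule hW))
    · have h1 := finrank_span_singleton (K := ℂ) hne
      rw [show Submodule.span ℂ {v} = ⊤ from congrArg Subrepresentation.toSubmodule hW, finrank_top,
        Module.finrank_fintype_fun_eq_card, Fintype.card_fin] at h1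
      omega
  have hinj : Function.Injective ρ := by
    rcases (MonoidHom.normal_ker ρ).eq_bot_or_eq_top with e | e
    · exact (MonoidHom.ker_eq_bot_iff ρ).1 e
    · exfalso
      have h0 := hfix (Pi.single ⟨0, by omega⟩ 1) (fun g => by
        rw [show ρ g = 1 from MonoidHom.mem_ker.1 (e ▸ Subgroup.mem_top g)]; rfl)
      simp at h0
  have hZ : X.π (X.D.Z 1) ≠ 1 := by
    intro h
    have h1 : Lib.G2Deg41.xr F 11 (1 : F) = Lib.G2Deg41.xr F 11 0 := hinj (h.trans (by
      rw [show Lib.G2Deg41.xr F 11 (0 : F) = 1 from (Lib.G2Deg41.xr_add F 11).map_zero, map_one]))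
    exact one_ne_zero (Lib.ChevOver.xg_injective Lib.Chev.rooted_G2
      (show 11 < Cfsg.Lie.chevG2.nroots by decide) (congrArg Subtype.val h1))
  have hfr : finrank ℂ (Fin k → ℂ) = k := Module.finrank_fin_fun ℂ
  refine ⟨fun hm hlt => ?_, fun hm hlt => ?_, fun hm hlt => ?_⟩
  · have h3 : (3 : F) ≠ 0 := fun e => by have := card_three.2 e; omega
    have h5 : 5 ≤ Fintype.card F := by omega
    rcases X.ne_three_bound h3 h5 hZ with h | ⟨hmh, hk', hf⟩
    · rwa [hfr] at h
    · exfalso
      rcases Nat.lt_or_ge (finrank ℂ ↥(X.K 0 0 0 0)) 1 with hf0 | hf1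
      · obtain ⟨ω, hω⟩ : ∃ ω : Fˣ, orderOf ω = 3 := by
          haveI : Fact (Nat.Prime 3) := ⟨Nat.prime_three⟩
          refine exists_prime_orderOf_dvd_card' 3 ?_
          rw [Nat.card_eq_fintype_card, Fintype.card_units]; omega
        have hω3 : ω ^ 3 = 1 := by rw [← hω]; exact pow_orderOf_eq_one ω
        refine X.no_minus_one h3 h5 hmh (by omega) hω3 (fun e => ?_) (Lib.G2Deg41.cent_index F hω3)
        rw [e, orderOf_one] at hω; omega
      · exact Lib.G2Deg41.no_cube F X rfl h3 h5 hmh (by omega)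
  · have h3 : (3 : F) ≠ 0 := fun e => by have := card_three.2 e; omega
    rcases X.ne_three_bound h3 (by omega) hZ with h | ⟨hmh, hk', hf⟩
    · rw [hfr] at h; omega
    · rw [hfr] at hk'; omega
  · have h := X.three_bound (card_three.1 hm) (three_nine hm hlt) hZ (by
      have h1 := Lib.Chars.finrank_dvd_card ρ
      rwa [← Lib.G2Deg41.card_G2 F])
    rwa [hfr] at h

end Cfsg.Agent.S2338
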