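-- Proof of S2340 (minimal degree of the nontrivial irreducible representations of E₆(q)).
import Cfsg.Statements.S2340
import Cfsg.Agent.Lib.E6Deg41.Main
import Cfsg.Agent.S1063
import Cfsg.Agent.Lib.Chev.Perfect

set_option autoImplicit false
open Cfsg

namespace Cfsg.Agent.S2340

/-- For the Chevalley group of type E₆ over a finite field with q elements (the group generated by the root elements), every irreducible complex representation of degree at least 2 has degree at least q(q⁶ + q³ + 1)(q⁴ + 1). -/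
theorem result {F : Type*} [Field F] [Fintype F] :
    (∀ (k : ℕ) (ρ : Representation ℂ (Cfsg.Lie.chevE6.group F) (Fin k → ℂ)), ρ.IsIrreducible → 2 ≤ k → Fintype.card F * (Fintype.card F ^ 6 + Fintype.card F ^ 3 + 1) * (Fintype.card F ^ 4 + 1) ≤ k) := by
  intro k ρ hirr hk
  classical
  haveI : IsSimpleGroup ↥(Cfsg.Lie.chevE6.group F) :=
    (Lib.Chev.simple_large Cfsg.Lie.chevE6 (by simp)).1
  haveI := hirr
  obtain ⟨ψ, hψ⟩ : ∃ ψ : AddChar F ℂ, ψ 1 ≠ 1 := AddChar.exists_apply_ne_zero.2 one_ne_zero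
  let X : Lib.E6Deg41.Setup Cfsg.Lie.chevE6 Lib.E6Deg41.E F :=
    ⟨Lib.Chev.Rooted.mk Lib.Chev.checked_E6 Lib.Chev.descent_E6, Lib.E6Deg41.lac_E6, ψ, hψ⟩
  have hfix : ∀ v : Fin k → ℂ, (∀ g, ρ g v = v) → v = 0 := by
    intro v hv
    by_contra hne
    let W : Subrepresentation ρ :=
      { toSubmodule := Submodule.span ℂ {v}
        apply_mem_toSubmodule := fun g w hw => by
          obtain ⟨c, rfl⟩ := Submodule.mem_span_singleton.1 hw
          rw [map_smul, hv]; exact Submodule.mem_span_singleton.2 ⟨c, rfl⟩ }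
    rcases hirr.eq_bot_or_eq_top W with hW | hW
    · exact hne (Submodule.span_singleton_eq_bot.1 (congrArg Subrepresentation.toSubmodule hW))
    · have h1 := finrank_span_singleton (K := ℂ) hne
      rw [show Submodule.span ℂ {v} = ⊤ from congrArg Subrepresentation.toSubmodule hW, finrank_top,
        Module.finrank_fintype_fun_eq_card, Fintype.card_fin] at h1
      omega
  have hinj : Function.Injective ρ := by
    rcases (MonoidHom.normal_ker ρ).eq_bot_or_eq_top with e | e
    · exact (MonoidHom.ker_eq_bot_iff ρ).1 e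
    · exfalso
      have h0 := hfix (Pi.single ⟨0, by omega⟩ 1) (fun g => by
        rw [show ρ g = 1 from MonoidHom.mem_ker.1 (e ▸ Subgroup.mem_top g)]; rfl)
      simp at h0
  obtain ⟨v₀, hv₀⟩ : ∃ v, ρ (X.x 71 1) v ≠ v := by
    by_contra hcon
    push Not at hcon
    have h1 : X.x 71 (1 : F) = X.x 71 0 :=
      hinj ((LinearMap.ext fun v => hcon v).trans (by rw [X.x_zero, map_one]) : ρ (X.x 71 1) = ρ (X.x 71 0))
    exact one_ne_zero (Lib.ChevOver.xg_injective X.hh (show 71 < Cfsg.Lie.chevE6.nroots by decide)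
      (congrArg Subtype.val h1))
  have hcard : Nat.card ↥(Cfsg.Lie.chevE6.group F) ∣
      Fintype.card F ^ 36 * Lib.E6Deg41.orderPoly (Fintype.card F) := by
    refine Dvd.intro_left _ ((Cfsg.Agent.S1063.result (F := F) rfl).trans ?_)
    rw [Lib.E6Deg41.orderPoly]; ring
  have h := Lib.E6Deg41.Setup.degree_bound X ρ hcard hv₀
  rwa [Module.finrank_fin_fun] at h

end Cfsg.Agent.S2340
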