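import Cfsg.Statements.S2341
import Cfsg.Agent.Lib.TE6Deg41.Main
import Cfsg.Agent.S1070
-- import your own Cfsg.Agent.* helpers here

set_option autoImplicit false
open Cfsg

namespace Cfsg.Agent.S2341

/-- For the twisted group ²E₆(q), realised over the field with q² elements (q a prime power), every irreducible complex representation of degree at least 2 has degree at least q(q⁶ − q³ + 1)(q⁴ + 1). -/
theorem result {K : Type*} [Field K] [Fintype K] (q : ℕ) (hq : IsPrimePow q) (hK : Fintype.card K = q ^ 2) :
    (∀ (k : ℕ) (ρ : Representation ℂ (Cfsg.Lie.twistedE6 K q) (Fin k → ℂ)), ρ.IsIrreducible → 2 ≤ k → q * (q ^ 6 - q ^ 3 + 1) * (q ^ 4 + 1) ≤ k) := by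
  intro k ρ hirr hk
  classical
  haveI : IsSimpleGroup ↥(Cfsg.Lie.twistedE6 K q) := (Cfsg.Agent.S1070.result hq hK).1
  haveI := hirr
  have hfix : ∀ v : Fin k → ℂ, (∀ g, ρ g v = v) → v = 0 := by
    intro v hv
    by_contra hne
    let W : Subrepresentation ρ :=
      { toSubmodule := Submodule.span ℂ {v}
        apply_mem_toSubmodule := fun g w hw => by
          obtain ⟨c, rfl⟩ := Submodule.mem_span_singleton.1 hw
          rw [map_smul, hv]; exact Submodule.mem_span_singleton.2 ⟨c, rfl⟩ }
    rcases hirr.eq_bot_or_eq_top W with hW | hW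
    · exact hne (Submodule.span_singleton_eq_bot.1 (congrArg Subrepresentation.toSubmodule hW))
    · have h1 := finrank_span_singleton (K := ℂ) hne
      rw [show Submodule.span ℂ {v} = ⊤ from congrArg Subrepresentation.toSubmodule hW, finrank_top,
        Module.finrank_fintype_fun_eq_card, Fintype.card_fin] at h1
      omega
  have hinj : Function.Injective ρ := by
    rcases (MonoidHom.normal_ker ρ).eq_bot_or_eq_top with e | e
    · exact (MonoidHom.ker_eq_bot_iff ρ).1 e
    · exfalso
      have h0 := hfix (Pi.single ⟨0, by omega⟩ 1) (fun g => by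
        rw [show ρ g = 1 from MonoidHom.mem_ker.1 (e ▸ Subgroup.mem_top g)]; rfl)
      simp at h0
  have h := Lib.TE6Deg41.degree_bound hq hK ρ hinj
  rwa [Module.finrank_fin_fun] at h

end Cfsg.Agent.S2341
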