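-- Proof of S2342 (minimal degree of the nontrivial irreducible representations of ³D₄(q)).
import Cfsg.Statements.S2342
import Cfsg.Agent.Lib.D4Deg41.Main
import Cfsg.Agent.S1071
import Cfsg.Agent.Lib.Chars.Integral

set_option autoImplicit false
open Cfsg

namespace Cfsg.Agent.S2342

/-- For the twisted group ³D₄(q), realised over the field with q³ elements (q a prime power), every irreducible complex representation of degree at least 2 has degree at least q(q⁴ − q² + 1). -/
theorem result {K : Type*} [Field K] [Fintype K] (q : ℕ) (hq : IsPrimePow q) (hK : Fintype.card K = q ^ 3) :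
    (∀ (k : ℕ) (ρ : Representation ℂ (Cfsg.Lie.twistedD4 K q) (Fin k → ℂ)), ρ.IsIrreducible → 2 ≤ k → q * (q ^ 4 - q ^ 2 + 1) ≤ k) := by
  intro k ρ hirr hk
  obtain ⟨φ, hφ, -⟩ := Lib.Twisted.Core.d4_powAut hq hK
  have H : Lib.D4Deg41.Hyp K q φ := ⟨hq, hK, hφ⟩
  haveI := (Cfsg.Agent.S1071.result hq hK).1
  haveI := hirr
  have hfix : ∀ v : Fin k → ℂ, (∀ g, ρ g v = v) → v = 0 := by
    intro v hv
    by_contra hne
    let W : Subrepresentation ρ :=
      { toSubmodule := Submodule.span ℂ {v}
        apply_mem_toSubmodule := fun g w hw => by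
          obtain ⟨c, rfl⟩ := Submodule.mem_span_singleton.1 hw
          rw [map_smul, hv]; exact Submodule.mem_span_singleton.2 ⟨c, rfl⟩ }
    rcases hirr.eq_bot_or_eq_top W with hW | hW
    · exact hne (Submodule.span_singleton_eq_bot.1 (congrArg Subrepresentation.toSubmodule hW))
    · have h1 := finrank_span_singleton (K := ℂ) hne
      rw [show Submodule.span ℂ {v} = ⊤ from congrArg Subrepresentation.toSubmodule hW, finrank_top,
        Module.finrank_fintype_fun_eq_card, Fintype.card_fin] at h1
      omega
  have hinj : Function.Injective ρ := by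
    rcases (MonoidHom.normal_ker ρ).eq_bot_or_eq_top with e | e
    · exact (MonoidHom.ker_eq_bot_iff ρ).1 e
    · exfalso
      have h0 := hfix (Pi.single ⟨0, by omega⟩ 1) (fun g => by
        rw [show ρ g = 1 from MonoidHom.mem_ker.1 (e ▸ Subgroup.mem_top g)]; rfl)
      simp at h0
  have h := Lib.D4Deg41.degree_bound H ρ hinj hfix (Lib.Chars.finrank_dvd_card ρ)
  rwa [Module.finrank_fin_fun] at h

end Cfsg.Agent.S2342
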