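-- Proof of S2343 (Cfsg.cmax4_small_ree_group_min_irreducible_degree).
import Cfsg.Statements.S2343
import Cfsg.Agent.Lib.ReeDeg41.Main

set_option autoImplicit false
open Cfsg

namespace Cfsg.Agent.S2343

/-- For the Ree group ²G₂(q), q = 3^(2m+1) with m ≥ 1 (realised over the field with q elements), every irreducible complex representation of degree at least 2 has degree at least q² − q + 1. -/
theorem result {K : Type*} [Field K] [Fintype K] (m : ℕ) (hm : 1 ≤ m) (hK : Fintype.card K = 3 ^ (2 * m + 1)) :
    (∀ (k : ℕ) (ρ : Representation ℂ (Cfsg.Lie.twistedG2 K (3 ^ m)) (Fin k → ℂ)), ρ.IsIrreducible → 2 ≤ k → (3 ^ (2 * m + 1)) ^ 2 - 3 ^ (2 * m + 1) + 1 ≤ k) := by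
  intro k ρ hirr hk
  have hne : ∃ g, ρ g ≠ 1 := by
    by_contra hcon
    push Not at hcon
    let e₀ : Fin k → ℂ := Pi.single ⟨0, by omega⟩ 1
    have hne : e₀ ≠ 0 := by simp [e₀]
    let W : Subrepresentation ρ :=
      { toSubmodule := Submodule.span ℂ {e₀}
        apply_mem_toSubmodule := fun g v hv => by rw [hcon g]; exact hv }
    rcases hirr.eq_bot_or_eq_top W with hW | hW
    · exact hne (Submodule.span_singleton_eq_bot.1 (congrArg Subrepresentation.toSubmodule hW))
    · have h1 := finrank_span_singleton (K := ℂ) hne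
      rw [show Submodule.span ℂ {e₀} = ⊤ from congrArg Subrepresentation.toSubmodule hW, finrank_top,
        Module.finrank_fintype_fun_eq_card, Fintype.card_fin] at h1
      omega
  have h := Lib.ReeDeg41.degree_bound (K := K) hm hK ρ hne
  rwa [Module.finrank_fin_fun] at h

end Cfsg.Agent.S2343
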