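import Cfsg.Statements.S2344
import Cfsg.Agent.Lib.MinDegree.Orth.OddFamily
import Cfsg.Agent.Lib.MinDegree.Orth.PlusFamily

set_option autoImplicit false
open Cfsg

namespace Cfsg.Agent.S2344

/-- For a finite field F of odd order q > 3 and n ≥ 3, every irreducible complex representation of degree at least 2 of Ω_{2n+1}(F) (the commutator subgroup of the isometry group of the quadratic form x₀² + x₁y₁ + ⋯ + x_ny_n) has degree at least (q^{2n} − 1)/(q² − 1). -/
theorem result {F : Type*} [Field F] [Fintype F] (n : ℕ) (hn : 3 ≤ n) (hodd : Odd (Fintype.card F)) (h3 : 3 < Fintype.card F) :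
    (∀ (k : ℕ) (ρ : Representation ℂ (Cfsg.Omega F (Cfsg.quadFormOdd n F)) (Fin k → ℂ)), ρ.IsIrreducible → 2 ≤ k → (Fintype.card F ^ (2 * n) - 1) / (Fintype.card F ^ 2 - 1) ≤ k) := by
  obtain ⟨m, rfl⟩ : ∃ m, n = m + 3 := ⟨n - 3, by omega⟩
  intro k ρ hirr hk
  obtain ⟨φ⟩ := Cfsg.Agent.Lib.MinDegree.Orth.omega_bound (B := Cfsg.Agent.Lib.MinDegree.Orth.sqBase F)
    (Cfsg.Agent.Lib.MinDegree.Orth.sq_nondeg hodd)
    (Cfsg.Agent.Lib.Classical.oddModel (F := F) m)
  have hb := Cfsg.Agent.Lib.MinDegree.Orth.DegBound.congr φ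
    (Cfsg.Agent.Lib.MinDegree.Orth.degBound_odd (F := F) hodd h3 m)
  rw [Cfsg.Agent.Lib.Classical.coe_oddQuadForm] at hb
  refine le_trans (le_of_eq ?_) (hb k ρ hirr (Cfsg.Agent.Lib.MinDegree.Orth.exists_moving hk ρ hirr))
  have hd := Cfsg.Agent.Lib.MinDegree.Orth.deg_odd (F := F) (m + 2)
  have h2 : 1 < Fintype.card F ^ 2 := Nat.one_lt_pow (by omega) (by omega)
  refine Nat.div_eq_of_eq_mul_left (by omega) ?_
  rw [show 2 * (m + 3) = 2 * (m + 2 + 1) by ring]
  omega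

end Cfsg.Agent.S2344
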