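import Cfsg.Statements.S2345
import Cfsg.Agent.Lib.MinDegree.Orth.PlusFamily

set_option autoImplicit false
open Cfsg

namespace Cfsg.Agent.S2345

/-- For a finite field F with q > 3 elements and n ≥ 4, every irreducible complex representation of degree at least 2 of Ω⁺_{2n}(F) (the commutator subgroup of the isometry group of the hyperbolic quadratic form x₁y₁ + ⋯ + x_ny_n) has degree at least (q^n − 1)(q^{n−1} + q)/(q² − 1). -/
theorem result {F : Type*} [Field F] [Fintype F] (n : ℕ) (hn : 4 ≤ n) (h3 : 3 < Fintype.card F) :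
    (∀ (k : ℕ) (ρ : Representation ℂ (Cfsg.Omega F (Cfsg.quadFormPlus n F)) (Fin k → ℂ)), ρ.IsIrreducible → 2 ≤ k → (Fintype.card F ^ n - 1) * (Fintype.card F ^ (n - 1) + Fintype.card F) / (Fintype.card F ^ 2 - 1) ≤ k) := by
  obtain ⟨m, rfl⟩ : ∃ m, n = m + 3 := ⟨n - 3, by omega⟩
  intro k ρ hirr hk
  obtain ⟨φ⟩ := Cfsg.Agent.Lib.MinDegree.Orth.omega_bound Cfsg.Agent.Lib.MinDegree.Orth.zero_nondeg
    (Cfsg.Agent.Lib.Classical.plusModel (F := F) m)
  have hb := Cfsg.Agent.Lib.MinDegree.Orth.DegBound.congr φ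
    (Cfsg.Agent.Lib.MinDegree.Orth.degBound_plus (F := F) (by omega) m)
  rw [Cfsg.Agent.Lib.Classical.coe_plusForm] at hb
  refine le_trans (le_of_eq ?_) (hb k ρ hirr (Cfsg.Agent.Lib.MinDegree.Orth.exists_moving hk ρ hirr))
  have hd := Cfsg.Agent.Lib.MinDegree.Orth.deg_plus (F := F) (m + 2)
  have h1 : 1 ≤ Fintype.card F ^ (m + 3) := Nat.one_le_pow _ _ Fintype.card_pos
  have h2 : 1 < Fintype.card F ^ 2 := Nat.one_lt_pow (by omega) (by omega)
  rw [show m + 3 - 1 = m + 2 by omega]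
  refine Nat.div_eq_of_eq_mul_left (by omega) ?_
  refine (Nat.cast_inj (R := ℤ)).1 ?_
  push_cast [Nat.cast_sub h1, Nat.cast_sub h2.le]
  linear_combination -hd

end Cfsg.Agent.S2345
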