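import Cfsg.Statements.S2346
import Cfsg.Agent.Lib.MinDegree.Orth.MinusBase
import Cfsg.Agent.Lib.MinDegree.Orth.PlusFamily

set_option autoImplicit false
open Cfsg

namespace Cfsg.Agent.S2346

/-- For a finite field F with q elements, n ≥ 4, and a, b ∈ F with z₁² + a z₁z₂ + b z₂² anisotropic, every irreducible complex representation of degree at least 2 of Ω⁻_{2n}(F) (the commutator subgroup of the isometry group of x₁y₁ + ⋯ + x_{n−1}y_{n−1} + z₁² + a z₁z₂ + b z₂²) has degree at least (q^n + 1)(q^{n−1} − q)/(q² − 1). -/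
theorem result {F : Type*} [Field F] [Fintype F] (n : ℕ) (hn : 4 ≤ n) (a b : F) (hab : ∀ z₁ z₂ : F, z₁ ^ 2 + a * z₁ * z₂ + b * z₂ ^ 2 = 0 → z₁ = 0 ∧ z₂ = 0) :
    (∀ (k : ℕ) (ρ : Representation ℂ (Cfsg.Omega F (Cfsg.quadFormMinus (n - 1) F a b)) (Fin k → ℂ)), ρ.IsIrreducible → 2 ≤ k → (Fintype.card F ^ n + 1) * (Fintype.card F ^ (n - 1) - Fintype.card F) / (Fintype.card F ^ 2 - 1) ≤ k) := by
  obtain ⟨m, rfl⟩ : ∃ m, n = m + 4 := ⟨n - 4, by omega⟩
  rw [show m + 4 - 1 = m + 3 by omega]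
  intro k ρ hirr hk
  obtain ⟨φ⟩ := Cfsg.Agent.Lib.MinDegree.Orth.omega_bound (B := Cfsg.Agent.Lib.MinDegree.Orth.binBase a b)
    (Cfsg.Agent.Lib.Classical.nondeg_binQ hab)
    (Cfsg.Agent.Lib.Classical.minusModel (F := F) m a b)
  have hb := Cfsg.Agent.Lib.MinDegree.Orth.DegBound.congr φ
    (Cfsg.Agent.Lib.MinDegree.Orth.degBound_minus (F := F) hab m)
  rw [Cfsg.Agent.Lib.Classical.coe_minusForm] at hb
  refine le_trans (le_of_eq ?_) (hb k ρ hirr (Cfsg.Agent.Lib.MinDegree.Orth.exists_moving hk ρ hirr))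
  have hd := Cfsg.Agent.Lib.MinDegree.Orth.deg_minus (F := F) hab (m + 2)
  have hq : 2 ≤ Fintype.card F := Fintype.one_lt_card
  have h1 : Fintype.card F ≤ Fintype.card F ^ (m + 3) := Nat.le_self_pow (by omega) _
  have h2 : 1 < Fintype.card F ^ 2 := Nat.one_lt_pow (by omega) (by omega)
  refine Nat.div_eq_of_eq_mul_left (by omega) ?_
  refine (Nat.cast_inj (R := ℤ)).1 ?_
  push_cast [Nat.cast_sub h1, Nat.cast_sub h2.le]
  linear_combination -hd

end Cfsg.Agent.S2346
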