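import Cfsg.Statements.S2347
import Cfsg.Agent.Lib.MinDegree.SiegelBound
import Cfsg.Agent.Lib.MinDegree.WeilRep

set_option autoImplicit false
open Cfsg

namespace Cfsg.Agent.S2347

/-- Smallest degree of a non-linear irreducible complex representation of the symplectic group Sp_{2n} over a finite field of odd order q, n ≥ 2: every irreducible complex representation of degree at least 2 has degree at least (q^n − 1)/2, and there is an irreducible complex representation of exactly that degree (a Weil representation). -/
theorem result {F : Type*} [Field F] [Fintype F] [DecidableEq F] (n : ℕ) (hn : 2 ≤ n) (hodd : Odd (Fintype.card F)) :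
    (∀ (k : ℕ) (ρ : Representation ℂ (Matrix.symplecticGroup (Fin n) F) (Fin k → ℂ)), ρ.IsIrreducible → 2 ≤ k → (Fintype.card F ^ n - 1) / 2 ≤ k) ∧
    (∃ ρ : Representation ℂ (Matrix.symplecticGroup (Fin n) F) (Fin ((Fintype.card F ^ n - 1) / 2) → ℂ), ρ.IsIrreducible) := by
  have h2 : (2 : F) ≠ 0 := by
    intro h
    have hdvd : ringChar F = 2 := by
      have := (ringChar.spec F 2).1 (by exact_mod_cast h)
      rcases (Nat.dvd_prime Nat.prime_two).1 this with e | e
      · exact absurd e CharP.ringChar_ne_one
      · exact e
    have := FiniteField.even_card_of_char_two hdvd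
    rcases hodd with ⟨j, hj⟩
    omega
  refine ⟨fun k ρ hirr hk => Lib.MinDegree.symplectic_degree_odd hodd hn hk ρ hirr, ?_⟩
  have hd : Module.finrank ℂ (Lib.MinDegree.oddSub F n) = (Fintype.card F ^ n - 1) / 2 := by
    have := Lib.MinDegree.finrank_oddSub (n := n) h2
    omega
  haveI := Lib.MinDegree.weilRep_irreducible (n := n) h2 (by omega)
  exact ⟨_, Lib.Chars.isIrreducible_of_equiv (Lib.Chars.conjRepEquiv (Lib.MinDegree.weilRep (n := n) h2)
    ((Module.finBasisOfFinrankEq ℂ (Lib.MinDegree.oddSub F n) hd).equivFun))⟩

end Cfsg.Agent.S2347
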