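import Cfsg.Statements.S2353
import Cfsg.Agent.Lib.Laws.PingPong
import Mathlib

set_option autoImplicit false
open Cfsg

namespace Cfsg.Agent.S2353

open Matrix Cfsg.Agent.Lib.Laws
open scoped Kronecker

variable {F : Type*} [Field F]

/-- Conjugation on two-by-two matrices, in the basis of matrix units. -/
noncomputable def conjRep (F : Type*) [Field F] :
    Matrix.SpecialLinearGroup (Fin 2) F →* GL (Fin 2 × Fin 2) F :=
  MonoidHom.toHomUnits
    { toFun := fun g => (g : Matrix (Fin 2) (Fin 2) F) ⊗ₖ
        ((g⁻¹ : Matrix.SpecialLinearGroup (Fin 2) F) : Matrix (Fin 2) (Fin 2) F)ᵀ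
      map_one' := by simp [Matrix.one_kronecker_one]
      map_mul' := fun g h => by
        simp only [_root_.mul_inv_rev, Matrix.SpecialLinearGroup.coe_mul, Matrix.transpose_mul]
        exact Matrix.mul_kronecker_mul _ _ _ _ }

theorem conjRep_apply (g : Matrix.SpecialLinearGroup (Fin 2) F) (i j : Fin 2 × Fin 2) :
    (conjRep F g : Matrix (Fin 2 × Fin 2) (Fin 2 × Fin 2) F) i j =
      (g : Matrix (Fin 2) (Fin 2) F) i.1 j.1 * ((g : Matrix (Fin 2) (Fin 2) F).adjugate j.2 i.2) := by
  simp [conjRep, MonoidHom.toHomUnits, Matrix.kroneckerMap_apply, Matrix.SpecialLinearGroup.coe_inv]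

theorem center_le_ker : Subgroup.center (Matrix.SpecialLinearGroup (Fin 2) F) ≤ (conjRep F).ker := by
  intro g hg
  obtain ⟨r, hr, hrg⟩ := Matrix.SpecialLinearGroup.mem_center_iff.1 hg
  have hr2 : r * r = 1 := by simpa [pow_two] using hr
  rw [MonoidHom.mem_ker]
  apply Units.ext
  ext ⟨i, j⟩ ⟨k, l⟩
  rw [conjRep_apply, ← hrg, Units.val_one, Matrix.adjugate_fin_two]
  fin_cases i <;> fin_cases j <;> fin_cases k <;> fin_cases l <;> simp [Matrix.scalar_apply, hr2]

noncomputable def pslRep (F : Type*) [Field F] :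
    Matrix.ProjectiveSpecialLinearGroup (Fin 2) F →* GL (Fin 2 × Fin 2) F :=
  QuotientGroup.lift _ (conjRep F) center_le_ker

theorem pslRep_mk (g : Matrix.SpecialLinearGroup (Fin 2) F) :
    pslRep F (QuotientGroup.mk g) = conjRep F g := rfl

def pingData : TorusData (Fin 2 × Fin 2) :=
  { a := fun x => ![![2, 4], ![0, 2]] x.1 x.2, A := 4, top := (0, 1), bot := (1, 0)
    a_top := rfl, a_bot := rfl
    lt_top := by decide
    pos := by decide }

/-- A non-trivial law holds in PSL_2 over only finitely many finite fields: for every non-trivial element w of the free group on countably many generators there is N such that over every finite field with at least N elements some substitution of elements of PSL_2 into w is not the identity. -/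
theorem result (w : FreeGroup ℕ) (hw : w ≠ 1) :
    ∃ N : ℕ, ∀ (F : Type*) [Field F] [Fintype F], N ≤ Fintype.card F →
      ∃ f : ℕ → Matrix.ProjectiveSpecialLinearGroup (Fin 2) F, FreeGroup.lift f w ≠ 1 := by
  refine ⟨4 * wordBound w + 5, fun F _ _ hN => ?_⟩
  classical
  obtain ⟨a, ha⟩ : ∃ a : F, a ∉ ({0, -1} : Finset F) := by
    by_contra hcon
    push Not at hcon
    have h1 : Fintype.card F ≤ ({0, -1} : Finset F).card :=
      Finset.card_le_card fun x _ => hcon x
    have := Finset.card_le_two (a := (0 : F)) (b := -1)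
    omega
  simp only [Finset.mem_insert, Finset.mem_singleton, not_or] at ha
  have ha1 : a + 1 ≠ 0 := fun h => ha.2 (eq_neg_of_add_eq_zero_left h)
  let c : Matrix.SpecialLinearGroup (Fin 2) F :=
    ⟨!![1, 1; a, a + 1], by rw [Matrix.det_fin_two_of]; ring⟩
  let g : Fˣ → Matrix.SpecialLinearGroup (Fin 2) F := fun k =>
    ⟨!![(k : F), 0; 0, (k : F)⁻¹], by rw [Matrix.det_fin_two_of]; simp⟩
  refine exists_not_law pingData (pslRep F) (QuotientGroup.mk c) ?_ ?_ (by decide)
    (fun k => QuotientGroup.mk (g k)) ?_ w hw (by simp [pingData]; omega)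
  · intro b b'
    rw [pslRep_mk, conjRep_apply]
    cases b <;> cases b' <;>
      simp [Matrix.adjugate_fin_two, pingData,
        TorusData.pole, c, ha.1, ha1]
  · intro b b'
    rw [pslRep_mk, ← map_inv, conjRep_apply, Matrix.SpecialLinearGroup.coe_inv]
    cases b <;> cases b' <;>
      simp [Matrix.adjugate_fin_two, pingData,
        TorusData.pole, c, ha.1, ha1]
  · intro k
    refine ⟨((k : F) ^ 2)⁻¹, inv_ne_zero (pow_ne_zero _ k.ne_zero), ?_⟩
    have hk : (k : F) ≠ 0 := k.ne_zero
    ext ⟨i, j⟩ ⟨i', j'⟩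
    rw [pslRep_mk, conjRep_apply]
    fin_cases i <;> fin_cases j <;> fin_cases i' <;> fin_cases j' <;>
      simp [Matrix.adjugate_fin_two, pingData, g,
        Matrix.diagonal_apply] <;> field_simp

end Cfsg.Agent.S2353
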