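import Cfsg.Statements.S2352
import Cfsg.Agent.S2353
import Mathlib

set_option autoImplicit false
open Cfsg

namespace Cfsg.Agent.S2352

open Equiv

/-- Any finite group embeds into all alternating groups of degree at least twice its order. -/
theorem exists_embedding (G : Type*) [Group G] [Finite G] (n : ℕ) (hn : 2 * Nat.card G ≤ n) :
    ∃ φ : G →* alternatingGroup (Fin n), Function.Injective φ := by
  classical
  haveI := Fintype.ofFinite G
  obtain ⟨ι⟩ : Nonempty (Fin 2 × G ↪ Fin n) :=
    Function.Embedding.nonempty_of_card_le (by simpa [Nat.card_eq_fintype_card] using hn)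
  let ψ : G →* Perm (Fin 2 × G) :=
    { toFun := fun g => prodCongrRight fun _ => Equiv.mulLeft g
      map_one' := by ext ⟨i, x⟩ <;> simp
      map_mul' := fun g h => by ext ⟨i, x⟩ <;> simp [mul_assoc] }
  refine ⟨((Perm.viaEmbeddingHom ι).comp ψ).codRestrict _ (fun g => ?_), fun g h e => ?_⟩
  · rw [Perm.mem_alternatingGroup]
    have : Perm.sign (Perm.viaEmbeddingHom ι (ψ g)) = Perm.sign (ψ g) := by
      refine Eq.trans ?_ (Perm.sign_extendDomain (ψ g) (Equiv.ofInjective ι ι.injective))
      simp [Perm.viaEmbeddingHom, Perm.extendDomainHom]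
    rw [MonoidHom.comp_apply, this]
    simp [ψ, Perm.sign_prodCongrRight, Fin.prod_univ_two]
  · have h1 := Perm.viaEmbeddingHom_injective ι (congrArg Subtype.val e)
    have h2 := congrArg (fun σ : Perm (Fin 2 × G) => (σ (0, 1)).2) h1
    simpa [ψ] using h2

/-- A non-trivial law holds in only finitely many alternating groups: for every non-trivial element w of the free group on countably many generators there is N such that for all n ≥ N some substitution of elements of the alternating group of degree n into w is not the identity. -/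
theorem result (w : FreeGroup ℕ) (hw : w ≠ 1) :
    ∃ N : ℕ, ∀ n : ℕ, N ≤ n → ∃ f : ℕ → alternatingGroup (Fin n), FreeGroup.lift f w ≠ 1 := by
  obtain ⟨M, hM⟩ := Cfsg.Agent.S2353.result w hw
  obtain ⟨p, hpM, hp⟩ := Nat.exists_infinite_primes M
  haveI : Fact p.Prime := ⟨hp⟩
  obtain ⟨f, hf⟩ := hM (ZMod p) (by simpa using hpM)
  refine ⟨2 * Nat.card (Matrix.ProjectiveSpecialLinearGroup (Fin 2) (ZMod p)), fun n hn => ?_⟩
  obtain ⟨φ, hφ⟩ := exists_embedding _ n hn
  refine ⟨fun i => φ (f i), fun h => hf (hφ ?_)⟩
  have e : φ.comp (FreeGroup.lift f) = FreeGroup.lift fun i => φ (f i) :=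
    FreeGroup.ext_hom _ _ fun i => by simp
  rw [map_one, ← h, ← e]; rfl

end Cfsg.Agent.S2352
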