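import Cfsg.Statements.S2354
import Cfsg.Agent.Lib.Laws.PingPong
import Mathlib

set_option autoImplicit false
open Cfsg

namespace Cfsg.Agent.S2354


open Matrix Cfsg.Agent.Lib.Laws

variable {F : Type*} [Field F]

/-- An involution of `Sz(2)` moving both fixed points of the split torus to points in general position. -/
def cMat (F : Type*) [Field F] : Matrix (Fin 4) (Fin 4) F :=
  !![1, 1, 1, 1; 1, 0, 0, 1; 0, 1, 0, 1; 1, 0, 1, 1]

theorem cMat_sq [CharP F 2] : cMat F * cMat F = 1 := by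
  ext i j
  fin_cases i <;> fin_cases j <;> simp [cMat, Matrix.mul_apply, Fin.sum_univ_four, CharTwo.add_self_eq_zero]

def cUnit (F : Type*) [Field F] [CharP F 2] : GL (Fin 4) F := ⟨cMat F, cMat F, cMat_sq, cMat_sq⟩

theorem cUnit_mem [CharP F 2] (e : ℕ) (he : e ≠ 0) : cUnit F ∈ Cfsg.Lie.Sz F e := by
  refine Subgroup.subset_closure ⟨fun u v => ?_, ?_⟩
  · simp [Cfsg.Lie.altForm4, cUnit, cMat, Matrix.mulVec, dotProduct, Fin.sum_univ_four]
    ring_nf
    simp [CharTwo.two_eq_zero, show (3 : F) = 1 by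
      rw [show (3 : F) = 2 + 1 by norm_num, CharTwo.two_eq_zero, zero_add],
      show (4 : F) = 0 by rw [show (4 : F) = 2 * 2 by norm_num, CharTwo.two_eq_zero, zero_mul]]
  · ext i j
    fin_cases i <;> fin_cases j <;>
      simp [cUnit, cMat, Cfsg.Lie.star4, Cfsg.Lie.pairOf, he, CharTwo.add_self_eq_zero, CharTwo.neg_eq]

/-- The split torus of `Sz(F)`. -/
def tVec (e : ℕ) (k : Fˣ) : Fin 4 → Fˣ := ![k ^ (e + 1), k, k⁻¹, (k ^ (e + 1))⁻¹]

def tUnit (e : ℕ) (k : Fˣ) : GL (Fin 4) F where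
  val := Matrix.diagonal fun i => (tVec e k i : F)
  inv := Matrix.diagonal fun i => ((tVec e k i)⁻¹ : Fˣ)
  val_inv := by
    rw [Matrix.diagonal_mul_diagonal, ← Matrix.diagonal_one]
    congr 1; funext i; exact Units.mul_inv _
  inv_val := by
    rw [Matrix.diagonal_mul_diagonal, ← Matrix.diagonal_one]
    congr 1; funext i; exact Units.inv_mul _

theorem tUnit_mem [CharP F 2] (e : ℕ) (he : e ≠ 0) (hsq : ∀ x : F, (x ^ e) ^ e = x ^ 2) (k : Fˣ) :
    tUnit e k ∈ Cfsg.Lie.Sz F e := by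
  have hk : (k : F) ≠ 0 := k.ne_zero
  have h1 : (k : F) ^ (e + 1) * k = ((k : F) ^ (e + 1)) ^ e := by
    have : ((k : F) ^ (e + 1)) ^ e = ((k : F) ^ e) ^ e * (k : F) ^ e := by ring
    rw [this, hsq]; ring
  refine Subgroup.subset_closure ⟨fun u v => ?_, ?_⟩
  · simp [Cfsg.Lie.altForm4, tUnit, tVec, Matrix.mulVec_diagonal]
    field_simp
  · ext i j
    fin_cases i <;> fin_cases j <;>
      simp [tUnit, tVec, Cfsg.Lie.star4, Cfsg.Lie.pairOf, he, Matrix.diagonal]
    · exact h1
    · rw [pow_succ]; field_simp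
    · rw [pow_succ]; field_simp
    · rw [← _root_.mul_inv_rev, h1]

/-- A non-trivial law holds in only finitely many Suzuki groups: for every non-trivial element w of the free group on countably many generators there is N such that for q = 2^(2m+1) with m ≥ N some substitution of elements of the Suzuki group over the field with q elements into w is not the identity. -/
theorem result (w : FreeGroup ℕ) (hw : w ≠ 1) :
    ∃ N : ℕ, ∀ (F : Type*) [Field F] [Fintype F] (m : ℕ), 1 ≤ m → N ≤ m →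
      Fintype.card F = 2 ^ (2 * m + 1) →
      ∃ f : ℕ → ↥(Cfsg.Lie.Sz F (2 ^ (m + 1))), FreeGroup.lift f w ≠ 1 := by
  refine ⟨3 * wordBound w + 2, fun F _ _ m hm hN hcard => ?_⟩
  haveI : CharP F 2 := charP_of_card_eq_prime_pow hcard
  set e := 2 ^ (m + 1) with he
  have he0 : e ≠ 0 := by positivity
  have hsq : ∀ x : F, (x ^ e) ^ e = x ^ 2 := by
    intro x
    have h2 : e * e = Fintype.card F * 2 := by rw [hcard, he]; ring
    rw [← pow_mul, h2, pow_mul, FiniteField.pow_card]
  have hepos : 0 < e := Nat.pos_of_ne_zero he0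
  let T : TorusData (Fin 4) :=
    { a := ![2 * e + 2, e + 2, e, 0], A := 2 * e + 2, top := 0, bot := 3
      a_top := rfl, a_bot := rfl
      lt_top := fun i hi => by fin_cases i <;> simp at hi ⊢ <;> omega
      pos := fun i hi => by fin_cases i <;> simp at hi ⊢ <;> exact hepos }
  refine exists_not_law T (Cfsg.Lie.Sz F e).subtype ⟨cUnit F, cUnit_mem e he0⟩ ?_ ?_ (by simp [T])
    (fun k => ⟨tUnit e k, tUnit_mem e he0 hsq k⟩) ?_ w hw ?_
  · intro b b'; cases b <;> cases b' <;> simp [T, TorusData.pole, cUnit, cMat]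
  · intro b b'; cases b <;> cases b' <;> simp [T, TorusData.pole, cUnit, cMat, Units.inv_mk]
  · intro k
    refine ⟨((k : F) ^ (e + 1))⁻¹, inv_ne_zero (pow_ne_zero _ k.ne_zero), ?_⟩
    ext i j
    have hk : (k : F) ≠ 0 := k.ne_zero
    by_cases hij : i = j
    · subst hij
      fin_cases i <;> simp [tUnit, tVec, T] <;> field_simp <;> ring
    · simp [tUnit, Matrix.diagonal_apply_ne _ hij]
  · have h1 : T.A = 4 * 2 ^ m + 2 := by simp [T, he, pow_succ]; ring
    have h2 : m < 2 ^ m := Nat.lt_two_pow_self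
    have h3 : 3 * wordBound w + 3 ≤ 2 ^ m := le_trans (show 3 * wordBound w + 3 ≤ m + 1 by omega) h2
    rw [hcard, h1, pow_succ, two_mul, pow_add]
    nlinarith [Nat.mul_le_mul_left (2 ^ m) h3]

end Cfsg.Agent.S2354
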