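import Cfsg.Statements.S2355
import Cfsg.Agent.Lib.Laws.SL2
import Cfsg.Agent.Lib.Laws.ClassicalEmb
import Mathlib

set_option autoImplicit false
open Cfsg

namespace Cfsg.Agent.S2355


open Cfsg.Agent.Lib.Laws Cfsg.Agent.Lib.ClassicalEmb

/-- `w` is not a law of `G`. -/
def NotLaw (w : FreeGroup ℕ) (G : Type*) [Group G] : Prop := ∃ f : ℕ → G, FreeGroup.lift f w ≠ 1

theorem NotLaw.of_equiv {w : FreeGroup ℕ} {G H : Type*} [Group G] [Group H] (e : G ≃* H)
    (h : NotLaw w H) : NotLaw w G := by
  obtain ⟨f, hf⟩ := h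
  refine ⟨fun i => e.symm (f i), fun hc => hf ?_⟩
  have : e.symm.toMonoidHom.comp (FreeGroup.lift f) = FreeGroup.lift fun i => e.symm (f i) :=
    FreeGroup.ext_hom _ _ fun i => by simp
  rw [← this] at hc
  exact e.symm.map_eq_one_iff.1 hc

/-- Dichotomy for a group receiving `SL_m(F)`: either `w` is not a law of its central quotient (resp. of the central
quotient of its commutator subgroup), or `m` and `|F|` are bounded. -/
theorem linear_case (w : FreeGroup ℕ) (hw : w ≠ 1) (F : Type*) [Field F] [Fintype F] (m : ℕ) (hm : 2 ≤ m)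
    {X : Type*} [Group X] (ψ : Matrix.SpecialLinearGroup (Fin m) F →* X) (hψ : Function.Injective ψ) :
    (NotLaw w (X ⧸ Subgroup.center X) ∧ NotLaw w (↥(commutator X) ⧸ Subgroup.center ↥(commutator X))) ∨
      (m < altBound w ∧ Fintype.card F ≤ sl2Bound w) := by
  by_cases h : altBound w ≤ m
  · obtain ⟨φ, hφ⟩ := altBound_embedding w m h
    have hinj := (hψ.comp (altSL_injective F m)).comp hφ
    exact Or.inl ⟨not_law_quot w hw (sl2Bound_lt_card w) ((ψ.comp (altSL F m)).comp φ) hinj,
      not_law_commutator w hw (sl2Bound_lt_card w) ((ψ.comp (altSL F m)).comp φ) hinj⟩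
  · by_cases hF : sl2Bound w < Fintype.card F
    · have hinj := hψ.comp (padSL_injective F hm)
      exact Or.inl ⟨not_law_quot w hw hF (ψ.comp (padSL F hm)) hinj,
        not_law_commutator w hw hF (ψ.comp (padSL F hm)) hinj⟩
    · exact Or.inr ⟨by omega, by omega⟩

theorem unitary_case (w : FreeGroup ℕ) (hw : w ≠ 1) (F : Type*) [Field F] [Fintype F] (n q : ℕ) (hn : 2 ≤ n)
    (hq : Fintype.card F = q ^ 2) :
    NotLaw w (PSU n F q) ∨ (n < altBound w ∧ q ≤ sl2Bound w + 1) := by
  by_cases h : altBound w ≤ n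
  · obtain ⟨φ, hφ⟩ := altBound_embedding w n h
    exact Or.inl (not_law_quot w hw (sl2Bound_lt_card w) ((altSU n q).comp φ)
      ((altSU_injective n q).comp hφ))
  · obtain ⟨K, hK, ψ, hψ⟩ := exists_sl2_SU hq hn
    by_cases hb : sl2Bound w < q - 1
    · classical
      haveI := Fintype.ofFinite K
      refine Or.inl (not_law_quot w hw ?_ ψ hψ)
      rw [← Nat.card_eq_fintype_card]
      omega
    · exact Or.inr ⟨by omega, by omega⟩

/-- The uniform bound on orders. -/
noncomputable def orderBound (w : FreeGroup ℕ) : ℕ :=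
  ((sl2Bound w + 2) ^ 2) ^ ((2 * altBound w + 2) ^ 2) + (altBound w).factorial

theorem bound_aux (w : FreeGroup ℕ) {c e : ℕ} (hc : c ≤ (sl2Bound w + 2) ^ 2) (he : e ≤ 2 * altBound w + 2) :
    c ^ (e ^ 2) ≤ orderBound w :=
  ((Nat.pow_le_pow_left hc _).trans (Nat.pow_le_pow_right (by positivity) (Nat.pow_le_pow_left he 2))).trans
    (Nat.le_add_right _ _)

theorem card_quot_le {X : Type*} [Group X] [Finite X] :
    Nat.card (X ⧸ Subgroup.center X) ≤ Nat.card X :=
  Nat.card_le_card_of_surjective _ (QuotientGroup.mk'_surjective _)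

theorem omega_bound {ι : Type} [Fintype ι] [DecidableEq ι] {F : Type*} [Field F] [Fintype F]
    (Q : (ι → F) → F) :
    Nat.card (POmega F Q) ≤ Fintype.card F ^ (Fintype.card ι ^ 2) := by
  haveI : Finite (GL ι F) := Finite.of_injective _ Units.val_injective
  refine card_quot_le.trans ((Subgroup.card_le_card_group _).trans ?_)
  exact card_le_matrix F _ (Units.val_injective.comp Subtype.val_injective)

theorem alt_case (w : FreeGroup ℕ) (hw : w ≠ 1) (n : ℕ) :
    NotLaw w (alternatingGroup (Fin n)) ∨ Nat.card (alternatingGroup (Fin n)) ≤ orderBound w := by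
  by_cases h : altBound w ≤ n
  · exact Or.inl (not_law_alternating w hw n h)
  · refine Or.inr ((Subgroup.card_le_card_group _).trans ?_)
    rw [Nat.card_perm, Nat.card_fin]
    exact (Nat.factorial_le (by omega)).trans (Nat.le_add_left _ _)

theorem psl_case (w : FreeGroup ℕ) (hw : w ≠ 1) (F : Type) [Field F] [Fintype F] (n : ℕ) (hn : 2 ≤ n) :
    NotLaw w (Matrix.ProjectiveSpecialLinearGroup (Fin n) F) ∨
      Nat.card (Matrix.ProjectiveSpecialLinearGroup (Fin n) F) ≤ orderBound w := by
  rcases linear_case w hw F n hn (MonoidHom.id _) Function.injective_id with h | ⟨h1, h2⟩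
  · exact Or.inl h.1
  · refine Or.inr (card_quot_le.trans ((card_le_matrix F _ Subtype.val_injective).trans ?_))
    exact bound_aux w (by nlinarith) (by simp; omega)

theorem psp_case (w : FreeGroup ℕ) (hw : w ≠ 1) (F : Type) [Field F] [Fintype F] (m : ℕ) (hm : 2 ≤ m) :
    NotLaw w (PSp m F) ∨ Nat.card (PSp m F) ≤ orderBound w := by
  rcases linear_case w hw F m hm (slSp F m) (slSp_injective F m) with h | ⟨h1, h2⟩
  · exact Or.inl h.1
  · refine Or.inr (card_quot_le.trans ((card_le_matrix F _ Subtype.val_injective).trans ?_))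
    exact bound_aux w (by nlinarith) (by simp; omega)

theorem psu_case (w : FreeGroup ℕ) (hw : w ≠ 1) (F : Type) [Field F] [Fintype F] (n q : ℕ) (hn : 2 ≤ n)
    (hq : Fintype.card F = q ^ 2) : NotLaw w (PSU n F q) ∨ Nat.card (PSU n F q) ≤ orderBound w := by
  rcases unitary_case w hw F n q hn hq with h | ⟨h1, h2⟩
  · exact Or.inl h
  · refine Or.inr (card_quot_le.trans ((card_le_matrix F _
      (Subtype.val_injective.comp Subtype.val_injective)).trans ?_))
    exact bound_aux w (hq ▸ Nat.pow_le_pow_left (by omega) 2) (by simp; omega)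

theorem odd_case (w : FreeGroup ℕ) (hw : w ≠ 1) (F : Type) [Field F] [Fintype F] (m : ℕ) (hm : 2 ≤ m) :
    NotLaw w (POmega F (quadFormOdd m F)) ∨ Nat.card (POmega F (quadFormOdd m F)) ≤ orderBound w := by
  rcases linear_case w hw F m hm (slOdd F m) (slOdd_injective F m) with h | ⟨h1, h2⟩
  · exact Or.inl h.2
  · exact Or.inr ((omega_bound _).trans (bound_aux w (by nlinarith) (by simp; omega)))

theorem plus_case (w : FreeGroup ℕ) (hw : w ≠ 1) (F : Type) [Field F] [Fintype F] (m : ℕ) (hm : 2 ≤ m) :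
    NotLaw w (POmega F (quadFormPlus m F)) ∨ Nat.card (POmega F (quadFormPlus m F)) ≤ orderBound w := by
  rcases linear_case w hw F m hm (slPlus F m) (slPlus_injective F m) with h | ⟨h1, h2⟩
  · exact Or.inl h.2
  · exact Or.inr ((omega_bound _).trans (bound_aux w (by nlinarith) (by simp; omega)))

theorem minus_case (w : FreeGroup ℕ) (hw : w ≠ 1) (F : Type) [Field F] [Fintype F] (m : ℕ) (hm : 2 ≤ m)
    (a b : F) :
    NotLaw w (POmega F (quadFormMinus m F a b)) ∨
      Nat.card (POmega F (quadFormMinus m F a b)) ≤ orderBound w := by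
  rcases linear_case w hw F m hm (slMinus F m a b) (slMinus_injective F m a b) with h | ⟨h1, h2⟩
  · exact Or.inl h.2
  · exact Or.inr ((omega_bound _).trans (bound_aux w (by nlinarith) (by simp; omega)))

/-- A non-trivial law is satisfied by only finitely many finite simple groups that are alternating or classical, up to isomorphism: for every non-trivial element w of the free group on countably many generators there is a bound N such that every alternating group of degree ≥ 5 and every simple classical group (linear, symplectic, unitary or orthogonal, in this problem's sense) in which w is a law has order at most N. -/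
theorem result (w : FreeGroup ℕ) (hw : w ≠ 1) :
    ∃ N : ℕ, ∀ (G : Type*) [Group G] [Finite G],
      (Cfsg.IsAlternating G ∨ Cfsg.IsPSL G ∨ Cfsg.IsPSp G ∨ Cfsg.IsPSU G ∨ Cfsg.IsPOmegaOdd G ∨
          Cfsg.IsPOmegaPlus G ∨ Cfsg.IsPOmegaMinus G) →
      (∀ f : ℕ → G, FreeGroup.lift f w = 1) → Nat.card G ≤ N := by
  refine ⟨orderBound w, fun G _ _ hG hlaw => ?_⟩
  have fin : ∀ {H : Type} [Group H], Nonempty (G ≃* H) →
      (NotLaw w H ∨ Nat.card H ≤ orderBound w) → Nat.card G ≤ orderBound w := by
    intro H _ ⟨e⟩ h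
    rcases h with h | h
    · obtain ⟨f, hf⟩ := NotLaw.of_equiv e h
      exact absurd (hlaw f) hf
    · rwa [Nat.card_congr e.toEquiv]
  rcases hG with ⟨n, -, he⟩ | ⟨F, _, _, n, hn, -, he⟩ | ⟨F, _, _, m, hm, -, he⟩ |
    ⟨F, _, _, n, q, hq, hn, -, he⟩ | ⟨F, _, _, m, hm, -, he⟩ | ⟨F, _, _, m, hm, he⟩ |
    ⟨F, _, _, m, a, b, hm, -, he⟩
  · exact fin he (alt_case w hw n)
  · exact fin he (psl_case w hw F n hn)
  · exact fin he (psp_case w hw F m hm)
  · exact fin he (psu_case w hw F n q (by omega) hq)
  · exact fin he (odd_case w hw F m (by omega))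
  · exact fin he (plus_case w hw F m (by omega))
  · exact fin he (minus_case w hw F (m - 1) (by omega) a b)

end Cfsg.Agent.S2355
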