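import Cfsg.Statements.S2356
import Cfsg.Agent.Lib.Unitary3.Counts
import Mathlib

set_option autoImplicit false
open Cfsg

namespace Cfsg.Agent.S2356

open Cfsg.Agent.Lib.Unitary3 Cfsg.Agent.Lib

/-- Let q be odd, F the field with q² elements, S = SU_3(F) (determinant-one isometries of the standard Hermitian form) and t an involution of S. Then: exactly q(q−1) involutions other than t commute with t; exactly q(q−2)(q²−1) involutions do not commute with t but commute with some involution commuting with t; exactly (q+1)(q²−1) involutions x do not commute with t and admit no involution commuting with both t and x; and every involution can be reached from t in at most three steps, each step going to an involution that commutes with the previous one (the commuting involution graph is connected of diameter 3). -/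
theorem result {F : Type*} [Field F] [Fintype F] {q : ℕ} (hq : Odd q)
    (hF : Fintype.card F = q ^ 2) (t : ↥(Cfsg.SU 3 F q)) (ht : t ≠ 1) (ht2 : t * t = 1) :
    Nat.card {x : ↥(Cfsg.SU 3 F q) // x ≠ 1 ∧ x * x = 1 ∧ x ≠ t ∧ Commute t x} = q * (q - 1) ∧
    Nat.card {x : ↥(Cfsg.SU 3 F q) // x ≠ 1 ∧ x * x = 1 ∧ ¬ Commute t x ∧
        ∃ y : ↥(Cfsg.SU 3 F q), y ≠ 1 ∧ y * y = 1 ∧ Commute t y ∧ Commute y x} = q * (q - 2) * (q ^ 2 - 1) ∧
    Nat.card {x : ↥(Cfsg.SU 3 F q) // x ≠ 1 ∧ x * x = 1 ∧ ¬ Commute t x ∧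
        ∀ y : ↥(Cfsg.SU 3 F q), y ≠ 1 → y * y = 1 → ¬ (Commute t y ∧ Commute y x)} = (q + 1) * (q ^ 2 - 1) ∧
    ∀ x : ↥(Cfsg.SU 3 F q), x ≠ 1 → x * x = 1 →
      ∃ y z : ↥(Cfsg.SU 3 F q), y ≠ 1 ∧ y * y = 1 ∧ z ≠ 1 ∧ z * z = 1 ∧
        Commute t y ∧ Commute y z ∧ Commute z x := by
  classical
  obtain ⟨g, hg⟩ := exists_conj_base hq hF t ht ht2
  let e : ↥(Cfsg.SU 3 F q) ≃* ↥(Cfsg.SU 3 F q) := MulAut.conj g
  have he : e (base hF) = t := hg
  have hcom : ∀ a b, Commute a b ↔ Commute (e a) (e b) := fun a b =>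
    ⟨fun h => h.map e, fun h => by simpa using h.map e.symm⟩
  have hcomt : ∀ b, Commute (base hF) b ↔ Commute t (e b) := fun b => by rw [← he]; exact hcom _ _
  have hinv : ∀ x, (x ≠ 1 ↔ e x ≠ 1) ∧ (x * x = 1 ↔ e x * e x = 1) := fun x =>
    ⟨not_congr e.map_eq_one_iff.symm, by rw [← map_mul, e.map_eq_one_iff]⟩
  have hA := card_fixed hq hF
  rw [card_transport e _ (fun x : ↥(Cfsg.SU 3 F q) => x ≠ 1 ∧ x * x = 1 ∧ x ≠ t ∧ Commute t x) (fun x => by
    rw [← (hinv x).1, ← (hinv x).2, ← hcomt, ← he, e.injective.ne_iff])] at hA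
  have hC := card_far hq hF
  rw [card_transport e _ (fun x : ↥(Cfsg.SU 3 F q) => x ≠ 1 ∧ x * x = 1 ∧ ¬ Commute t x ∧
      ∀ y : ↥(Cfsg.SU 3 F q), y ≠ 1 → y * y = 1 → ¬ (Commute t y ∧ Commute y x)) (fun x => by
    rw [← (hinv x).1, ← (hinv x).2, ← hcomt]
    refine and_congr_right fun _ => and_congr_right fun _ => and_congr_right fun _ => ?_
    constructor
    · intro h y hy hy2
      obtain ⟨y', rfl⟩ := e.surjective y
      rw [← hcomt, ← hcom]
      exact h y' ((hinv y').1.2 hy) ((hinv y').2.2 hy2)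
    · intro h y hy hy2
      have := h (e y) ((hinv y).1.1 hy) ((hinv y).2.1 hy2)
      rwa [← hcomt, ← hcom] at this)] at hC
  have hS := card_split hq hF
  rw [card_involutions hq hF, card_fixed hq hF, card_far hq hF,
    card_transport e (fun x : ↥(Cfsg.SU 3 F q) => x ≠ 1 ∧ x * x = 1 ∧ ¬ Commute (base hF) x ∧ Common (base hF) x)
      (fun x : ↥(Cfsg.SU 3 F q) => x ≠ 1 ∧ x * x = 1 ∧ ¬ Commute t x ∧ Common t x) (fun x => by
    rw [← (hinv x).1, ← (hinv x).2, ← hcomt]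
    refine and_congr_right fun _ => and_congr_right fun _ => and_congr_right fun _ => ?_
    constructor
    · rintro ⟨y, a, b, c, d⟩
      exact ⟨e y, (hinv y).1.1 a, (hinv y).2.1 b, (hcomt y).1 c, (hcom _ _).1 d⟩
    · rintro ⟨y, a, b, c, d⟩
      obtain ⟨y', rfl⟩ := e.surjective y
      exact ⟨y', (hinv y').1.2 a, (hinv y').2.2 b, (hcomt y').2 c, (hcom _ _).2 d⟩)] at hS
  refine ⟨hA, ?_, hC, fun x hx hx2 => ?_⟩
  · have hq1 : 1 ≤ q := Nat.one_le_iff_ne_zero.2 (q_ne_zero hF)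
    have hq2 : 2 ≤ q := Forms.two_le_of_card_sq hF
    have hqq : q ≤ q ^ 2 := Nat.le_self_pow two_ne_zero q
    have hq1' : 1 ≤ q ^ 2 := le_trans hq1 hqq
    have hz := congrArg (fun k : ℕ => (k : ℤ)) hS
    push_cast [hqq, hq1, hq1'] at hz
    zify [hq2, hq1']
    linear_combination -hz
  · obtain ⟨x', rfl⟩ := e.surjective x
    obtain ⟨y, z, a, b, c, d, h1, h2, h3⟩ := three_steps hq hF x' ((hinv x').1.2 hx) ((hinv x').2.2 hx2)
    exact ⟨e y, e z, (hinv y).1.1 a, (hinv y).2.1 b, (hinv z).1.1 c, (hinv z).2.1 d, (hcomt y).1 h1,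
      (hcom _ _).1 h2, (hcom _ _).1 h3⟩

end Cfsg.Agent.S2356
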