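import Cfsg.Statements.S2360
import Cfsg.Agent.Lib.Unitary3.Involution
import Mathlib

set_option autoImplicit false
open Cfsg

namespace Cfsg.Agent.S2360

open Cfsg.Agent.Lib.Unitary3 Cfsg.Agent.Lib

/-- Let q be odd, F the field with q² elements and S = SU_3(F) (determinant-one isometries of the standard Hermitian form). Then all involutions of S are conjugate; there are exactly q²(q²−q+1) of them; the centralizer of an involution has order q(q+1)(q²−1), the order of the full unitary group of degree 2; and for two distinct commuting involutions t and x there is exactly one further involution commuting with both. -/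
theorem result {F : Type*} [Field F] [Fintype F] {q : ℕ} (hq : Odd q)
    (hF : Fintype.card F = q ^ 2) (t : ↥(Cfsg.SU 3 F q)) (ht : t ≠ 1) (ht2 : t * t = 1) :
    (∀ x : ↥(Cfsg.SU 3 F q), x ≠ 1 → x * x = 1 → ∃ g : ↥(Cfsg.SU 3 F q), g * t * g⁻¹ = x) ∧
    Nat.card {x : ↥(Cfsg.SU 3 F q) // x ≠ 1 ∧ x * x = 1} = q ^ 2 * (q ^ 2 - q + 1) ∧
    Nat.card ↥(Subgroup.centralizer ({t} : Set ↥(Cfsg.SU 3 F q))) = q * (q + 1) * (q ^ 2 - 1) ∧
    ∀ x : ↥(Cfsg.SU 3 F q), x ≠ 1 → x * x = 1 → x ≠ t → Commute t x →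
      Nat.card {y : ↥(Cfsg.SU 3 F q) // y ≠ 1 ∧ y * y = 1 ∧ y ≠ t ∧ y ≠ x ∧ Commute t y ∧ Commute x y} = 1 := by
  classical
  have hconj : ∀ x : ↥(Cfsg.SU 3 F q), x ≠ 1 → x * x = 1 → ∃ g : ↥(Cfsg.SU 3 F q), g * t * g⁻¹ = x := by
    intro x hx hx2
    obtain ⟨g, hg⟩ := exists_conj_base hq hF t ht ht2
    obtain ⟨g', hg'⟩ := exists_conj_base hq hF x hx hx2
    exact ⟨g' * g⁻¹, by rw [← hg', ← hg]; group⟩
  refine ⟨hconj, card_involutions hq hF, ?_, ?_⟩
  · have hS := Classical.succ_mul_natCard_SU hF 3 (by norm_num)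
    haveI : Finite ↥(Cfsg.SU 3 F q) := Finite.of_fintype _
    have h1 := MulAction.index_stabilizer (ConjAct ↥(Cfsg.SU 3 F q)) t
    have hset : MulAction.orbit (ConjAct ↥(Cfsg.SU 3 F q)) t = {x | x ≠ 1 ∧ x * x = 1} := by
      ext x
      rw [ConjAct.mem_orbit_conjAct, isConj_comm]
      constructor
      · intro h
        obtain ⟨g, rfl⟩ := isConj_iff.1 h
        refine ⟨fun he => ht ?_, ?_⟩
        · have := congrArg (fun y => g⁻¹ * y * g) he
          simpa [mul_assoc] using this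
        · rw [show g * t * g⁻¹ * (g * t * g⁻¹) = g * (t * t) * g⁻¹ by group, ht2, mul_one, mul_inv_cancel]
      · rintro ⟨a, b⟩
        obtain ⟨g, hg⟩ := hconj x a b
        exact isConj_iff.2 ⟨g, hg⟩
    have h2 := (MulAction.stabilizer (ConjAct ↥(Cfsg.SU 3 F q)) t).card_mul_index
    have hc : Nat.card ↥(MulAction.stabilizer (ConjAct ↥(Cfsg.SU 3 F q)) t) =
        Nat.card ↥(Subgroup.centralizer ({t} : Set ↥(Cfsg.SU 3 F q))) := by
      refine Nat.card_congr (ConjAct.ofConjAct.toEquiv.subtypeEquiv fun x => ?_)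
      rw [MulAction.mem_stabilizer_iff, ConjAct.smul_def, Subgroup.mem_centralizer_singleton_iff]
      show _ ↔ ConjAct.ofConjAct x * t = t * ConjAct.ofConjAct x
      rw [mul_inv_eq_iff_eq_mul]
    rw [hc, h1, hset] at h2
    have h3 : Set.ncard {x : ↥(Cfsg.SU 3 F q) | x ≠ 1 ∧ x * x = 1} = q ^ 2 * (q ^ 2 - q + 1) := by
      rw [← Nat.card_coe_set_eq]; exact card_involutions hq hF
    rw [h3, Nat.card_congr ConjAct.ofConjAct.toEquiv] at h2
    have hGU : Nat.card (Cfsg.GU 3 F q) = q ^ 3 * ((q + 1) * (q ^ 2 - 1) * (q ^ 3 + 1)) := by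
      rw [Classical.natCard_GU hF 3]
      simp [Finset.prod_range_succ, Nat.even_iff]
    rw [hGU, ← h2] at hS
    have hq1 : 1 ≤ q := Nat.one_le_iff_ne_zero.2 (q_ne_zero hF)
    have hq2 : 1 ≤ q ^ 2 := Nat.one_le_pow _ _ hq1
    have hqq : q ≤ q ^ 2 := Nat.le_self_pow two_ne_zero q
    have hpos : 0 < (q + 1) * (q ^ 2 * (q ^ 2 - q + 1)) := by positivity
    refine Nat.eq_of_mul_eq_mul_left hpos ?_
    rw [show (q + 1) * (q ^ 2 * (q ^ 2 - q + 1)) * Nat.card ↥(Subgroup.centralizer ({t} : Set ↥(Cfsg.SU 3 F q)))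
      = (q + 1) * (Nat.card ↥(Subgroup.centralizer ({t} : Set ↥(Cfsg.SU 3 F q))) * (q ^ 2 * (q ^ 2 - q + 1))) by ring,
      hS]
    zify [hq2, hqq]
    ring
  · intro x hx hx2 hxt hc
    obtain ⟨v, hv, rfl⟩ := exists_rot hq hF t ht ht2
    obtain ⟨w, hw, rfl⟩ := exists_rot hq hF x hx hx2
    have hvw : Cfsg.hermForm 3 F q v w = 0 :=
      ((commute_iff hq hF hv hw).1 hc).resolve_right fun h => hxt h.symm
    set z := rot hF v hv * rot hF w hw with hz
    have hz2 : z * z = 1 := by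
      rw [hz, show rot hF v hv * rot hF w hw * (rot hF v hv * rot hF w hw) =
        rot hF v hv * (rot hF w hw * rot hF v hv) * rot hF w hw by group, ← hc.eq,
        show rot hF v hv * (rot hF v hv * rot hF w hw) * rot hF w hw =
          (rot hF v hv * rot hF v hv) * (rot hF w hw * rot hF w hw) by group, ht2, hx2, one_mul]
    have hz1 : z ≠ 1 := fun h => hxt (by
      have : rot hF v hv = (rot hF w hw)⁻¹ := eq_inv_of_mul_eq_one_left h
      rw [this, inv_eq_of_mul_eq_one_right hx2])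
    refine Nat.card_eq_one_iff_unique.2 ⟨⟨fun a b => Subtype.ext ?_⟩, ⟨⟨z, hz1, hz2, ?_, ?_, ?_, ?_⟩⟩⟩
    · suffices ∀ y : ↥(Cfsg.SU 3 F q), y ≠ 1 → y * y = 1 → y ≠ rot hF v hv → y ≠ rot hF w hw →
          Commute (rot hF v hv) y → Commute (rot hF w hw) y → y = z from
        (this a.1 a.2.1 a.2.2.1 a.2.2.2.1 a.2.2.2.2.1 a.2.2.2.2.2.1 a.2.2.2.2.2.2).trans
          (this b.1 b.2.1 b.2.2.1 b.2.2.2.1 b.2.2.2.2.1 b.2.2.2.2.2.1 b.2.2.2.2.2.2).symm
      intro y hy hy2 hyt hyx hty hxy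
      obtain ⟨u, hu, rfl⟩ := exists_rot hq hF y hy hy2
      have h1 := ((commute_iff hq hF hv hu).1 hty).resolve_right fun h => hyt h.symm
      have h2 := ((commute_iff hq hF hw hu).1 hxy).resolve_right fun h => hyx h.symm
      obtain ⟨s, hs, hzs⟩ := exists_rot hq hF z hz1 hz2
      have hfix : act z u = u := by
        rw [hz, act_mul, act_rot hF w hw u, show Cfsg.hermForm 3 F q u w = 0 by
          rw [← herm_swap hF, h2, zero_pow (q_ne_zero hF)], mul_zero, zero_smul, zero_sub,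
          ← neg_one_smul F u, act_smul, act_rot hF v hv u, show Cfsg.hermForm 3 F q u v = 0 by
          rw [← herm_swap hF, h1, zero_pow (q_ne_zero hF)], mul_zero, zero_smul, zero_sub,
          neg_one_smul, neg_neg]
      rw [hzs, act_rot, sub_eq_iff_eq_add, ← two_smul F, mul_smul] at hfix
      have h4 : Cfsg.hermForm 3 F q u s • s = u := smul_right_injective _ (two_ne_zero_of_odd hq hF) hfix
      rw [hzs]
      refine ((rot_eq_iff hq hF hs hu).2 ⟨_, ?_, h4.symm⟩).symm
      have := hu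
      rw [← h4, herm_smul_left, herm_smul_right, hs, mul_one] at this
      rw [pow_succ']; exact this
    · intro h
      refine hx (mul_left_cancel (a := rot hF v hv) ?_)
      rw [mul_one]; exact h
    · intro h
      exact ht (mul_right_cancel (b := rot hF w hw) (by rw [one_mul]; exact h))
    · exact (Commute.refl _).mul_right hc
    · exact hc.symm.mul_right (Commute.refl _)

end Cfsg.Agent.S2360
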