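import Cfsg.Statements.S2362
import Cfsg.Agent.Lib.SympPrimeGraph.Elements
import Cfsg.Agent.Lib.OddSpectrum.NoElement
import Cfsg.Agent.Lib.Orth.Centre
import Cfsg.Agent.Lib.Orth.StandardOdd
import Cfsg.Agent.Lib.PPD.Zsigmondy
import Cfsg.Agent.Lib.Classical.Symplectic
import Mathlib

set_option autoImplicit false
open Cfsg

namespace Cfsg.Agent.S2362

open Cfsg.Agent.Lib

theorem exists_orderOf_psp {F : Type*} [Field F] [Fintype F] (p : ℕ) [Fact p.Prime] [CharP F p] (hp2 : p ≠ 2)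
    {q m n : ℕ} (hF : Fintype.card F = q) (hm : 1 ≤ m) (hn : m + 1 ≤ n) :
    ∃ x : Cfsg.PSp n F, orderOf x = p * (q ^ m + 1) := by
  obtain ⟨x, hx⟩ := SympPrimeGraph.exists_orderOf_pow_add_one (F := F) hF hm
  obtain ⟨t, ht⟩ := SympPrimeGraph.exists_orderOf_char (F := F) p
  obtain ⟨Φ, hΦ, hneg⟩ := SympPrimeGraph.exists_pair_hom (F := F) (a := m) (b := 1) (n := n) hn
  have hcop : p.Coprime (q ^ m + 1) := by
    rw [(Fact.out : p.Prime).coprime_iff_not_dvd, ← CharP.cast_eq_zero_iff F p, Nat.cast_add, Nat.cast_pow, ← hF,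
      Nat.cast_card_eq_zero, zero_pow (by omega), zero_add, Nat.cast_one]
    exact one_ne_zero
  have hg : orderOf (Φ (x, t)) = p * (q ^ m + 1) := by
    rw [orderOf_injective Φ hΦ, Prod.orderOf, hx, ht, Nat.Coprime.lcm_eq_mul hcop.symm, mul_comm]
  refine ⟨QuotientGroup.mk (Φ (x, t)), ?_⟩
  set e := orderOf (QuotientGroup.mk (Φ (x, t)) : Cfsg.PSp n F)
  refine Nat.dvd_antisymm (hg ▸ orderOf_map_dvd (QuotientGroup.mk' _) _) ?_
  have hc : (Φ (x, t)) ^ e ∈ Subgroup.center _ := (QuotientGroup.eq_one_iff _).1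
    ((QuotientGroup.mk_pow _ _ e).trans (pow_orderOf_eq_one _))
  rcases (Classical.center_symplecticGroup n _).1 hc with h | h
  · rw [← hg]
    exact orderOf_dvd_of_pow_eq_one (Subtype.ext h)
  · exfalso
    rw [← map_pow] at h
    have h1 := hneg _ h
    rw [Prod.pow_snd] at h1
    -- `t ^ e` has odd order, so it is not `-1`
    have h2 : (-1 : Matrix (Fin 1 ⊕ Fin 1) (Fin 1 ⊕ Fin 1) F) ^ p = 1 := by
      have h' := congrArg (· ^ p) h1
      simp only at h'
      rw [← h', ← SubmonoidClass.coe_pow, ← pow_mul, mul_comm, pow_mul, ← ht, pow_orderOf_eq_one, one_pow]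
      rfl
    rw [((Fact.out : p.Prime).odd_of_ne_two hp2).neg_one_pow] at h2
    have h3 := congrFun (congrFun h2 (Sum.inl 0)) (Sum.inl 0)
    simp only [Matrix.neg_apply, Matrix.one_apply_eq] at h3
    exact hp2 ((Nat.prime_dvd_prime_iff_eq Fact.out Nat.prime_two).1 ((CharP.cast_eq_zero_iff F p 2).1
      (by push_cast; linear_combination -h3)))

/-- Let F be a finite field of odd order and n ≥ 3. The simple orthogonal group PΩ(2n+1, F) (type B_n) and the projective symplectic group PSp(2n, F) (type C_n), which have the same order, do not have the same set of element orders. -/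
theorem result {F : Type*} [Field F] [Fintype F] (hodd : Odd (Fintype.card F)) (n : ℕ) (hn : 3 ≤ n) :
    Set.range (orderOf : Cfsg.POmega F (Cfsg.quadFormOdd n F) → ℕ) ≠ Set.range (orderOf : Cfsg.PSp n F → ℕ) := by
  intro heq
  obtain ⟨p, hp⟩ := CharP.exists F
  haveI : Fact p.Prime := ⟨CharP.char_is_prime F p⟩
  obtain ⟨a, -, ha⟩ := FiniteField.card F p
  have hp2 : p ≠ 2 := by
    rintro rfl
    rw [ha] at hodd
    exact Nat.not_even_iff_odd.2 hodd (Nat.even_pow.2 ⟨even_two, a.ne_zero⟩)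
  have h2 : (2 : F) ≠ 0 := fun h => hp2
    ((Nat.prime_dvd_prime_iff_eq Fact.out Nat.prime_two).1 ((CharP.cast_eq_zero_iff F p 2).1 (by simpa using h)))
  obtain ⟨q, hF⟩ : ∃ q, Fintype.card F = q := ⟨_, rfl⟩
  have hq : 2 ≤ q := hF ▸ Fintype.one_lt_card
  obtain ⟨r, hr, hrd, hrp⟩ := PPD.exists_primitive_prime (a := q) (n := 2 * (n - 1)) hq (by omega)
    (fun h => by
      rw [← hF] at h
      rw [h.1] at hodd
      exact absurd hodd (by decide))
    (fun h => by omega)
  haveI : Fact r.Prime := ⟨hr⟩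
  have hord : orderOf (q : ZMod r) = 2 * (n - 1) := by
    have hd := (PPD.dvd_pow_sub_one_iff_orderOf_dvd (by omega) _).1 hrd
    rcases (Nat.le_of_dvd (by omega) hd).lt_or_eq with hlt | h
    · exfalso
      refine hrp _ ?_ hlt ((PPD.dvd_pow_sub_one_iff_orderOf_dvd (by omega) _).2 dvd_rfl)
      exact Nat.pos_of_ne_zero fun h0 => by rw [h0, zero_dvd_iff] at hd; omega
    · exact h
  obtain ⟨x, hx⟩ := exists_orderOf_psp (F := F) p hp2 hF (m := n - 1) (n := n) (by omega) (by omega)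
  have hmem : p * (q ^ (n - 1) + 1) ∈ Set.range (orderOf : Cfsg.POmega F (Cfsg.quadFormOdd n F) → ℕ) := by
    rw [heq]; exact ⟨x, hx⟩
  rw [← Orth.coe_oddForm] at hmem
  obtain ⟨y, hy⟩ := hmem
  have hcard : Fintype.card (Unit ⊕ (Fin n ⊕ Fin n)) = 2 * (n - 1) + 3 := by simp; omega
  obtain ⟨g, rfl⟩ := QuotientGroup.mk_surjective y
  have hbot : Subgroup.center ↥(Omega F ⇑(Orth.oddForm n F)) = ⊥ :=
    Orth.center_omega_eq_bot h2 (Orth.oddForm_nondegenerate h2 n) (by omega) ⟨n - 1 + 1, by omega⟩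
  have hinj : Function.Injective (QuotientGroup.mk' (Subgroup.center ↥(Omega F ⇑(Orth.oddForm n F)))) := by
    rw [← MonoidHom.ker_eq_bot_iff, QuotientGroup.ker_mk', hbot]
  refine OddSpectrum.not_orderOf_omega (p := p) hp2 hF (Orth.oddForm_nondegenerate h2 n) (m := n - 1) (by omega)
    hcard hord g.1 g.2 ?_
  rw [Subgroup.orderOf_coe, ← orderOf_injective _ hinj g]
  exact hy

end Cfsg.Agent.S2362
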