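import Cfsg.Statements.S2364
import Cfsg.Agent.Lib.LinGroup.Order
import Mathlib

set_option autoImplicit false
open Cfsg

namespace Cfsg.Agent.S2364

open Matrix

variable {F : Type*} [Field F] [Fintype F]

/-- `GL_j` embeds in `GL_k` for `j ≤ k`. -/
theorem card_GL_dvd {j k : ℕ} (h : j ≤ k) : Nat.card (GL (Fin j) F) ∣ Nat.card (GL (Fin k) F) := by
  classical
  obtain ⟨l, rfl⟩ := Nat.exists_eq_add_of_le h
  let e : Fin j ⊕ Fin l ≃ Fin (j + l) := finSumFinEquiv
  let f : GL (Fin j) F →* Matrix (Fin (j + l)) (Fin (j + l)) F :=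
    { toFun := fun A => Matrix.reindexAlgEquiv F F e (fromBlocks A.val 0 0 1)
      map_one' := by simp
      map_mul' := fun A B => by rw [← map_mul, fromBlocks_multiply]; simp }
  refine Subgroup.card_dvd_of_injective f.toHomUnits fun A B hAB => ?_
  exact Units.ext (fromBlocks_inj.1 ((Matrix.reindexAlgEquiv F F e).injective (congrArg Units.val hAB))).1

theorem end_eq_one {r : ℕ} (hr : r.Prime) {k : ℕ} (hk : ¬ r ∣ Nat.card (GL (Fin k) F))
    {V : Type*} [AddCommGroup V] [Module F V] [Module.Finite F V] (hd : Module.finrank F V ≤ k)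
    (X : Module.End F V) (hX : X ^ r = 1) : X = 1 := by
  classical
  let b := Module.finBasis F V
  let φ : Module.End F V ≃ₐ[F] Matrix (Fin (Module.finrank F V)) (Fin (Module.finrank F V)) F :=
    LinearMap.toMatrixAlgEquiv b
  have hM : φ X ^ r = 1 := by rw [← map_pow, hX, map_one]
  let u : GL (Fin (Module.finrank F V)) F := (Units.ofPowEqOne (φ X) r hM hr.ne_zero)
  have hu : u ^ r = 1 := Units.ext (by rw [Units.val_pow_eq_pow_val]; exact hM)
  rcases (Nat.dvd_prime hr).1 (orderOf_dvd_of_pow_eq_one hu) with h | h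
  · have h2 : u.val = 1 := by rw [orderOf_eq_one_iff.1 h]; rfl
    apply φ.injective
    rw [map_one]
    exact h2
  · exact absurd ((h ▸ orderOf_dvd_natCard u).trans (card_GL_dvd hd)) hk

theorem subquotient_trivial {r : ℕ} (hr : r.Prime) {k : ℕ} (hk : ¬ r ∣ Nat.card (GL (Fin k) F))
    {V : Type*} [AddCommGroup V] [Module F V] [Module.Finite F V] (X : Module.End F V) (hX : X ^ r = 1)
    (A B : Submodule F V) (hAB : A ≤ B) (hA : ∀ v ∈ A, X v ∈ A) (hB : ∀ v ∈ B, X v ∈ B)
    (hd : Module.finrank F B ≤ Module.finrank F A + k) : ∀ v ∈ B, X v - v ∈ A := by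
  let A' : Submodule F B := A.comap B.subtype
  let XB : Module.End F B := X.restrict hB
  let Y : Module.End F (B ⧸ A') := Submodule.mapQ A' A' XB (fun v hv => hA _ hv)
  have hY : ∀ (m : ℕ) (v : B), (Y ^ m) (Submodule.Quotient.mk v) = Submodule.Quotient.mk ((XB ^ m) v) := by
    intro m
    induction m with
    | zero => intro v; rfl
    | succ m ih => intro v; rw [pow_succ', pow_succ', Module.End.mul_apply, ih]; rfl
  have hXB : ∀ (m : ℕ) (v : B), ((XB ^ m) v : V) = (X ^ m) v := by
    intro m
    induction m with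
    | zero => intro v; rfl
    | succ m ih =>
      intro v
      rw [pow_succ', pow_succ', Module.End.mul_apply, Module.End.mul_apply, ← ih]
      rfl
  have hY1 : Y ^ r = 1 := by
    refine LinearMap.ext fun x => ?_
    induction x using Submodule.Quotient.induction_on with
    | _ v =>
      rw [hY, Module.End.one_apply]
      congr 1
      exact Subtype.ext (by rw [hXB, hX]; rfl)
  have hrank : Module.finrank F (B ⧸ A') ≤ k := by
    have h1 := Submodule.finrank_quotient_add_finrank A'
    have h2 : Module.finrank F A' = Module.finrank F A :=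
      LinearEquiv.finrank_eq (Submodule.comapSubtypeEquivOfLe hAB)
    omega
  intro v hv
  have h3 := LinearMap.congr_fun (end_eq_one hr hk hrank Y hY1) (Submodule.Quotient.mk (⟨v, hv⟩ : B))
  exact (Submodule.Quotient.eq A').1 h3

theorem glue {r : ℕ} (hr : (r : F) ≠ 0) {V : Type*} [AddCommGroup V] [Module F V] (X : Module.End F V)
    (hX : X ^ r = 1) (v : V) (hv : X (X v - v) = X v - v) : X v = v := by
  have h : ∀ m : ℕ, (X ^ m) v = v + (m : F) • (X v - v) := by
    intro m
    induction m with
    | zero => simp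
    | succ m ih =>
      rw [pow_succ', Module.End.mul_apply, ih, map_add, map_smul, hv, Nat.cast_succ, add_smul, one_smul]
      abel
  have h2 := h r
  rw [hX, Module.End.one_apply, left_eq_add, smul_eq_zero] at h2
  exact sub_eq_zero.1 (h2.resolve_left hr)

theorem linear_key {r : ℕ} (hr : r.Prime) (hrF : (r : F) ≠ 0) {n : ℕ} (hn : 4 ≤ n)
    (hk : ¬ r ∣ Nat.card (GL (Fin (n - 2)) F))
    (X N : Module.End F (Fin n → F)) (hX : X ^ r = 1) (hN : IsNilpotent N) (hN0 : N ≠ 0)
    (hc : Commute X N) : X = 1 := by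
  classical
  have hcv : ∀ v, X (N v) = N (X v) := fun v => LinearMap.congr_fun hc.eq v
  set W := LinearMap.ker N with hW
  set I := LinearMap.range N with hI
  have hWs : ∀ v ∈ W, X v ∈ W := fun v hv => by
    rw [hW, LinearMap.mem_ker] at hv ⊢
    rw [← hcv, hv, map_zero]
  have hIs : ∀ v ∈ I, X v ∈ I := by rintro _ ⟨v, rfl⟩; exact ⟨X v, (hcv v).symm⟩
  have hsum : Module.finrank F I + Module.finrank F W = n := by
    rw [hI, hW, LinearMap.finrank_range_add_finrank_ker, Module.finrank_fin_fun]
  have hI1 : 1 ≤ Module.finrank F I := by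
    rw [hI, Nat.one_le_iff_ne_zero, Ne, Submodule.finrank_eq_zero, LinearMap.range_eq_bot]
    exact hN0
  obtain ⟨s, hs⟩ := hN
  have key : ∀ (S : Submodule F (Fin n → F)), (∀ v ∈ S, N v ∈ S) → S ≠ ⊥ → ∃ w ∈ S, w ≠ 0 ∧ N w = 0 := by
    intro S hS hne
    obtain ⟨v, hv, hv0⟩ := Submodule.exists_mem_ne_zero_of_ne_bot hne
    have hex : ∃ t, (N ^ t) v = 0 := ⟨s, by rw [hs]; rfl⟩
    have ht : Nat.find hex ≠ 0 := fun h => hv0 (by have := Nat.find_spec hex; rwa [h, pow_zero] at this)
    obtain ⟨t, ht⟩ := Nat.exists_eq_succ_of_ne_zero ht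
    refine ⟨(N ^ t) v, ?_, Nat.find_min hex (by omega), ?_⟩
    · clear ht
      induction t with
      | zero => simpa using hv
      | succ t ih => rw [pow_succ', Module.End.mul_apply]; exact hS _ ih
    · have := Nat.find_spec hex
      rwa [ht, pow_succ', Module.End.mul_apply] at this
  have hIne : I ≠ ⊥ := fun h => by rw [h] at hI1; simp at hI1
  obtain ⟨w, hwI, hw0, hwN⟩ := key I (fun v _ => ⟨v, rfl⟩) hIne
  have hline : ∀ x : (Fin n → F), x ≠ 0 → Module.finrank F (Submodule.span F {x}) = 1 := fun x hx =>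
    finrank_span_singleton hx
  have hW1 : 1 ≤ Module.finrank F W := by
    rw [← hline w hw0]
    refine Submodule.finrank_mono ((Submodule.span_singleton_le_iff_mem _ _).2 ?_)
    rwa [hW, LinearMap.mem_ker]
  have triv : ∀ S : Submodule F (Fin n → F), (∀ v ∈ S, X v ∈ S) → Module.finrank F S ≤ n - 2 →
      ∀ v ∈ S, X v = v := fun S hS hd v hv => by
    have h := subquotient_trivial hr hk X hX ⊥ S bot_le (by simp) hS (by simpa using hd) v hv
    simpa [sub_eq_zero] using h
  have fixI : (∀ v ∈ I, X v = v) → ∀ v, X v - v ∈ W := fun h v => by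
    rw [hW, LinearMap.mem_ker, map_sub, ← hcv, h _ ⟨v, rfl⟩, sub_self]
  have final : (∀ v ∈ I, X v = v) → (∀ v ∈ W, X v = v) → X = 1 := fun h1 h2 =>
    LinearMap.ext fun v => glue hrF X hX v (h2 _ (fixI h1 v))
  by_cases hd1 : Module.finrank F I = 1
  · have hIeq : I ≤ W := by
      have : Submodule.span F {w} = I := Submodule.eq_of_le_of_finrank_le
        ((Submodule.span_singleton_le_iff_mem _ _).2 hwI) (by rw [hline w hw0]; omega)
      rw [← this, Submodule.span_singleton_le_iff_mem, hW, LinearMap.mem_ker]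
      exact hwN
    have h1 := triv I hIs (by omega)
    refine final h1 fun v hv => glue hrF X hX v (h1 _ ?_)
    exact subquotient_trivial hr hk X hX I W hIeq hIs hWs (by omega) v hv
  · by_cases hd2 : Module.finrank F W = 1
    · have hWI : W ≤ I := by
        have : Submodule.span F {w} = W := Submodule.eq_of_le_of_finrank_le
          ((Submodule.span_singleton_le_iff_mem _ _).2 (by rwa [hW, LinearMap.mem_ker]))
          (by rw [hline w hw0]; omega)
        rw [← this, Submodule.span_singleton_le_iff_mem]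
        exact hwI
      have h2 := triv W hWs (by omega)
      refine final (fun v hv => glue hrF X hX v (h2 _ ?_)) h2
      exact subquotient_trivial hr hk X hX W I hWI hWs hIs (by omega) v hv
    · exact final (triv I hIs (by omega)) (triv W hWs (by omega))

omit [Fintype F] in
/-- A scalar of `p`-power order is `1`. -/
theorem scalar_one (p : ℕ) [Fact p.Prime] [CharP F p] {n : ℕ} (hn : 0 < n)
    (z : Matrix.SpecialLinearGroup (Fin n) F) (hz : z ∈ Subgroup.center (Matrix.SpecialLinearGroup (Fin n) F))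
    {j : ℕ} (hzp : z ^ p ^ j = 1) : z = 1 := by
  obtain ⟨c, -, hc⟩ := Matrix.SpecialLinearGroup.mem_center_iff.1 hz
  have h := congrArg Subtype.val hzp
  simp only [Matrix.SpecialLinearGroup.coe_pow, Matrix.SpecialLinearGroup.coe_one] at h
  rw [← hc, ← map_pow] at h
  have h2 := congrFun (congrFun h ⟨0, hn⟩) ⟨0, hn⟩
  simp at h2
  have h3 : c = 1 := by
    haveI : ExpChar F p := ExpChar.prime Fact.out
    have h4 : (c - 1) ^ p ^ j = 0 := by rw [sub_pow_char_pow, h2, one_pow, sub_self]
    exact sub_eq_zero.1 (eq_zero_of_pow_eq_zero h4)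
  refine Subtype.ext ?_
  rw [← hc, h3, map_one]
  rfl

theorem r_dvd_SL {r : ℕ} (hr : r.Prime) {k : ℕ} (hk : 2 ≤ k) (h : r ∣ Nat.card (GL (Fin k) F)) :
    r ∣ Nat.card (Matrix.SpecialLinearGroup (Fin k) F) := by
  classical
  haveI : Nonempty (Fin k) := ⟨⟨0, by omega⟩⟩
  rw [← Cfsg.Agent.Lib.LinGroup.units_card_mul_card_SL] at h
  rcases (Nat.Prime.dvd_mul hr).1 h with h | h
  · haveI : Fact r.Prime := ⟨hr⟩
    obtain ⟨c, hc⟩ := exists_prime_orderOf_dvd_card' r h
    let D : Fˣ →* Matrix.SpecialLinearGroup (Fin k) F :=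
      { toFun := fun c => ⟨Matrix.diagonal fun i => if i = ⟨0, by omega⟩ then (c : F) else
            if i = ⟨1, by omega⟩ then ((c⁻¹ : Fˣ) : F) else 1, by
          rw [Matrix.det_diagonal]
          rw [Finset.prod_eq_mul (⟨0, by omega⟩ : Fin k) ⟨1, by omega⟩ (by simp)]
          · simp
          · intro x _ hx; simp [hx.1, hx.2]
          · simp
          · simp⟩
        map_one' := Subtype.ext (by simp)
        map_mul' := fun a b => Subtype.ext (by
          show Matrix.diagonal _ = Matrix.diagonal _ * Matrix.diagonal _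
          rw [Matrix.diagonal_mul_diagonal]
          congr 1
          funext i
          split_ifs <;> simp [mul_comm]) }
    have hD : Function.Injective D := fun a b hab => by
      have := congrFun (congrFun (congrArg Subtype.val hab) ⟨0, by omega⟩) ⟨0, by omega⟩
      change Matrix.diagonal _ _ _ = Matrix.diagonal _ _ _ at this
      simpa [Units.val_inj] using this
    rw [← hc, ← orderOf_injective D hD]
    exact orderOf_dvd_natCard _
  · exact h

/-- Let F be a finite field of characteristic p, n ≥ 4, and let a, b be commuting elements of PSL(n, F) with a of order p. Then every prime divisor of the order of b divides the order of SL(n − 2, F). -/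
theorem result {F : Type*} [Field F] [Fintype F] (p : ℕ) [Fact p.Prime] [CharP F p] (n : ℕ) (hn : 4 ≤ n)
    (a b : Matrix.ProjectiveSpecialLinearGroup (Fin n) F) (ha : orderOf a = p) (hab : Commute a b) :
    (orderOf b).primeFactors ⊆ (Nat.card (Matrix.SpecialLinearGroup (Fin (n - 2)) F)).primeFactors := by
  classical
  intro r hr
  rw [Nat.mem_primeFactors] at hr
  obtain ⟨hr, hrb, -⟩ := hr
  rw [Nat.mem_primeFactors]
  refine ⟨hr, ?_, Nat.card_pos.ne'⟩
  have hp := Fact.out (p := p.Prime)
  by_cases hrp : r = p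
  · subst hrp
    have hij : (⟨0, by omega⟩ : Fin (n - 2)) ≠ ⟨1, by omega⟩ := by simp
    have h1 : Matrix.SpecialLinearGroup.transvection hij (1 : F) ^ r = 1 := by
      refine Subtype.ext ?_
      rw [Matrix.SpecialLinearGroup.coe_pow]
      show (Matrix.transvection (⟨0, by omega⟩ : Fin (n - 2)) ⟨1, by omega⟩ (1 : F)) ^ r = 1
      haveI : Nonempty (Fin (n - 2)) := ⟨⟨0, by omega⟩⟩
      rw [Matrix.transvection, add_pow_char_of_commute (p := r) (h := Commute.one_left _), one_pow,
        pow_eq_zero_of_le hr.two_le (by rw [pow_two, Matrix.single_mul_single_of_ne]; simp), add_zero]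
    have h2 : Matrix.SpecialLinearGroup.transvection hij (1 : F) ≠ 1 := by
      intro h
      have := congrFun (congrFun (congrArg Subtype.val h) ⟨0, by omega⟩) ⟨1, by omega⟩
      simp [Matrix.SpecialLinearGroup.transvection, Matrix.transvection] at this
    rw [← orderOf_eq_prime h1 h2]
    exact orderOf_dvd_natCard _
  by_contra hndvd
  have hk : ¬ r ∣ Nat.card (GL (Fin (n - 2)) F) := fun h => hndvd (r_dvd_SL hr (by omega) h)
  -- lifts
  obtain ⟨A, rfl⟩ := QuotientGroup.mk'_surjective _ a
  obtain ⟨B, rfl⟩ := QuotientGroup.mk'_surjective _ b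
  set Z := Subgroup.center (Matrix.SpecialLinearGroup (Fin n) F)
  have hA0 : orderOf A ≠ 0 := (orderOf_pos A).ne'
  obtain ⟨j, m, hpm, hm⟩ := Nat.exists_eq_pow_mul_and_not_dvd hA0 p hp.ne_one
  set U := A ^ m with hU
  have hUp : U ^ p ^ j = 1 := by rw [hU, ← pow_mul, mul_comm, ← hm, pow_orderOf_eq_one]
  have hU1 : U ≠ 1 := by
    intro h
    have h2 : (QuotientGroup.mk' Z A) ^ m = 1 := by rw [← map_pow, ← hU, h, map_one]
    exact hpm (ha ▸ orderOf_dvd_of_pow_eq_one h2)
  obtain ⟨t, ht⟩ : ∃ t, orderOf B = orderOf (QuotientGroup.mk' Z B) * t := orderOf_map_dvd _ B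
  have hrB : r ∣ orderOf B := hrb.trans ⟨t, ht⟩
  set x := B ^ (orderOf B / r) with hx
  have hxo : orderOf x = r := orderOf_pow_orderOf_div (orderOf_pos B).ne' hrB
  have hBU : Commute B U := by
    have hz : U⁻¹ * (B * U * B⁻¹) ∈ Z := by
      rw [← QuotientGroup.eq_one_iff]
      show QuotientGroup.mk' Z _ = 1
      simp only [hU, map_mul, map_inv, map_pow]
      rw [((hab.symm).pow_right m).eq]
      simp [Z, mul_assoc]
    have hcomm : Commute U (U⁻¹ * (B * U * B⁻¹)) := Subgroup.mem_center_iff.1 hz U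
    have hzp : (U⁻¹ * (B * U * B⁻¹)) ^ p ^ j = 1 := by
      rw [((Commute.inv_left (show Commute U (B * U * B⁻¹) from by
        simpa using (Commute.refl U).mul_right hcomm))).mul_pow, inv_pow, hUp, inv_one, one_mul, conj_pow, hUp]
      group
    have := scalar_one p (by omega) _ hz hzp
    rw [inv_mul_eq_one] at this
    show B * U = U * B
    conv_rhs => rw [this]
    group
  have hxU : Commute x U := hBU.pow_left _
  let φ : Matrix.SpecialLinearGroup (Fin n) F →* Module.End F (Fin n → F) :=
    (Matrix.toLinAlgEquiv' : Matrix (Fin n) (Fin n) F ≃ₐ[F] _).toMonoidHom.comp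
      ((Units.coeHom _).comp Matrix.SpecialLinearGroup.toGL)
  have hφ : Function.Injective φ := fun a b hab =>
    Subtype.ext ((Matrix.toLinAlgEquiv').injective hab)
  have hXr : φ x ^ r = 1 := by rw [← map_pow, ← hxo, pow_orderOf_eq_one, map_one]
  haveI : Nontrivial (Fin n → F) := by
    haveI : Nonempty (Fin n) := ⟨⟨0, by omega⟩⟩
    infer_instance
  haveI : CharP (Module.End F (Fin n → F)) p :=
    charP_of_injective_algebraMap (algebraMap F (Module.End F (Fin n → F))).injective p
  have hN : IsNilpotent (φ U - 1) := ⟨p ^ j, by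
    rw [sub_pow_char_pow_of_commute (p := p) (h := Commute.one_right _), ← map_pow, hUp, map_one, one_pow,
      sub_self]⟩
  have hN0 : φ U - 1 ≠ 0 := fun h => hU1 (hφ (by rw [sub_eq_zero.1 h, map_one]))
  have hrF : (r : F) ≠ 0 := fun h => by
    rw [CharP.cast_eq_zero_iff F p] at h
    exact hrp ((Nat.prime_dvd_prime_iff_eq hp hr).1 h).symm
  have h1 := linear_key hr hrF hn hk (φ x) (φ U - 1) hXr hN hN0
    ((hxU.map φ).sub_right (Commute.one_right _))
  have : x = 1 := hφ (by rw [h1, map_one])
  rw [this, orderOf_one] at hxo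
  exact hr.ne_one hxo.symm

end Cfsg.Agent.S2364
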