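import Cfsg.Statements.S2365
import Cfsg.Agent.Lib.Classical.UnitaryOrder
import Cfsg.Agent.Lib.Classical.UnitaryCentre
import Cfsg.Agent.Lib.Forms.Unitary
import Cfsg.Agent.Lib.Semisimple.SUBasics
import Cfsg.Agent.Lib.Semisimple.Hermitian
import Mathlib

set_option autoImplicit false
open Cfsg

namespace Cfsg.Agent.S2365

open Cfsg.Agent.Lib.Semisimple Matrix

section Key

variable {F : Type*} [Field F] [Fintype F] {q : ℕ}

/-- An element of prime order `r` of `GU_d` is trivial when `r` does not divide `|GU_d|`. -/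
theorem matrix_one (hF : Fintype.card F = q ^ 2) {r : ℕ} (hr : r.Prime) {d : ℕ}
    (hrd : ¬ r ∣ Nat.card (Cfsg.GU d F q)) (M H : Matrix (Fin d) (Fin d) F)
    (hH : ct (qHom hF) H = H) (hu : IsUnit H) (hM : ct (qHom hF) M * H * M = H) (hMr : M ^ r = 1) : M = 1 := by
  classical
  obtain ⟨Q, hQ, -⟩ := exists_ct_mul_self (qHom hF) (qHom_invol hF) (qHom_nontrivial hF) H hH hu
  have hQd : IsUnit Q.det := by
    have h1 := (Matrix.isUnit_iff_isUnit_det H).1 hu
    rw [← hQ, det_mul] at h1
    exact (IsUnit.mul_iff.1 h1).2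
  obtain ⟨u, rfl⟩ := (Matrix.isUnit_iff_isUnit_det Q).2 hQd
  set W := u.val * M * u⁻¹.val with hW
  have hWW : ct (qHom hF) W * W = 1 := by
    calc ct (qHom hF) W * W
        = ct (qHom hF) u⁻¹.val * (ct (qHom hF) M * (ct (qHom hF) u.val * u.val) * M) * u⁻¹.val := by
          rw [hW, ct_mul, ct_mul]
          simp only [mul_assoc, Units.inv_mul_cancel_left]
      _ = ct (qHom hF) u⁻¹.val * ct (qHom hF) u.val * (u.val * u⁻¹.val) := by
          rw [hQ, hM, ← hQ]; simp only [mul_assoc]
      _ = 1 := by rw [← ct_mul, Units.mul_inv, mul_one, ct_one]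
  have hWr : W ^ r = 1 := by rw [hW, Units.conj_pow, hMr, mul_one, Units.mul_inv]
  let g : GL (Fin d) F := Units.ofPowEqOne W r hWr hr.ne_zero
  have hg : g ∈ Cfsg.GU d F q := by
    have htr : Wᵀ * W.map (qHom hF) = 1 := by
      have h1 := congrArg Matrix.transpose hWW
      rwa [ct, transpose_mul, transpose_transpose, transpose_one] at h1
    intro a b
    show Cfsg.hermForm d F q (W *ᵥ a) (W *ᵥ b) = _
    calc Cfsg.hermForm d F q (W *ᵥ a) (W *ᵥ b) = a ⬝ᵥ ((Wᵀ * W.map (qHom hF)) *ᵥ fun i => qHom hF (b i)) := by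
          conv_rhs => rw [← Matrix.mulVec_mulVec, Matrix.dotProduct_mulVec, Matrix.vecMul_transpose]
          rw [Cfsg.hermForm, dotProduct]
          exact Finset.sum_congr rfl fun i _ => congrArg _ (RingHom.map_mulVec (qHom hF) W b i)
      _ = _ := by rw [htr, Matrix.one_mulVec]; rfl
  have hgr : (⟨g, hg⟩ : Cfsg.GU d F q) ^ r = 1 :=
    Subtype.ext (Units.ext (by rw [SubgroupClass.coe_pow, Units.val_pow_eq_pow_val]; exact hWr))
  rcases (Nat.dvd_prime hr).1 (orderOf_dvd_of_pow_eq_one hgr) with h | h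
  · have h2 : u.val * M * u⁻¹.val = 1 := congrArg (fun x : Cfsg.GU d F q => x.1.val) (orderOf_eq_one_iff.1 h)
    calc M = u⁻¹.val * (u.val * M * u⁻¹.val) * u.val := by simp [mul_assoc]
      _ = 1 := by rw [h2, mul_one, Units.inv_mul]
  · exact absurd (h ▸ orderOf_dvd_natCard (⟨g, hg⟩ : Cfsg.GU d F q)) hrd

/-- `X` of order `r` is trivial on the nondegenerate part of an invariant Hermitian form. -/
theorem radical_trivial (hF : Fintype.card F = q ^ 2) {r : ℕ} (hr : r.Prime) {k : ℕ}
    (hk : ∀ d ≤ k, ¬ r ∣ Nat.card (Cfsg.GU d F q))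
    {V : Type*} [AddCommGroup V] [Module F V] [Module.Finite F V] (β : V → V → F)
    (hadd : ∀ x y z, β (x + y) z = β x z + β y z) (hsmul : ∀ (c : F) x z, β (c • x) z = c * β x z)
    (hherm : ∀ x y, qHom hF (β x y) = β y x)
    (X : Module.End F V) (hX : X ^ r = 1) (A B : Submodule F V) (hAB : A ≤ B)
    (hA : ∀ v ∈ A, X v ∈ A) (hB : ∀ v ∈ B, X v ∈ B) (hinv : ∀ u ∈ B, ∀ v ∈ B, β (X u) (X v) = β u v)
    (hrad : ∀ a ∈ A, ∀ b ∈ B, β a b = 0) (hmax : ∀ b ∈ B, (∀ b' ∈ B, β b b' = 0) → b ∈ A)
    (hd : Module.finrank F B ≤ Module.finrank F A + k) : ∀ v ∈ B, X v - v ∈ A := by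
  classical
  let A' : Submodule F B := A.comap B.subtype
  obtain ⟨C, hC⟩ := A'.exists_isCompl
  let π : B →ₗ[F] C := C.projectionOnto A' hC.symm
  have hπA : ∀ x : B, (x : V) - ((π x : B) : V) ∈ A := fun x => by
    have h : x - (π x : B) ∈ LinearMap.ker π := by
      rw [LinearMap.mem_ker, map_sub, Submodule.projectionOnto_apply_left, sub_self]
    rwa [Submodule.ker_projectionOnto] at h
  have hπ0 : ∀ x : B, (x : V) ∈ A → π x = 0 := fun x hx => by
    rw [← LinearMap.mem_ker, Submodule.ker_projectionOnto]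
    exact hx
  have hsub : ∀ x y z, β (x - y) z = β x z - β y z := fun x y z => by
    rw [eq_sub_iff_add_eq, ← hadd, sub_add_cancel]
  let XB : Module.End F B := X.restrict hB
  let Y : Module.End F C := π ∘ₗ XB ∘ₗ C.subtype
  have hβπ : ∀ x : B, ∀ z ∈ B, β ((π x : B) : V) z = β (x : V) z := fun x z hz => by
    have h := hrad _ (hπA x) z hz
    rw [hsub, sub_eq_zero] at h
    exact h.symm
  have hYinv : ∀ u v : C, β ((Y u : B) : V) ((Y v : B) : V) = β ((u : B) : V) ((v : B) : V) := fun u v => by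
    show β ((π (XB u) : B) : V) ((π (XB v) : B) : V) = _
    rw [hβπ _ _ (π (XB v) : B).2, ← hherm, hβπ _ _ (XB u).2, hherm]
    exact hinv _ (u : B).2 _ (v : B).2
  have hXB : ∀ (m : ℕ) (v : B), ((XB ^ m) v : V) = (X ^ m) v := by
    intro m
    induction m with
    | zero => intro v; rfl
    | succ m ih => intro v; rw [pow_succ', pow_succ', Module.End.mul_apply, Module.End.mul_apply, ← ih]; rfl
  have hXπ : ∀ x : B, π (XB (π x : B)) = π (XB x) := fun x => by
    have h : π (XB (x - (π x : B))) = 0 := hπ0 _ (hA _ (hπA x))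
    rw [map_sub, map_sub, sub_eq_zero] at h
    exact h.symm
  have hYpow : ∀ (m : ℕ) (u : C), (Y ^ m) u = π ((XB ^ m) u) := by
    intro m
    induction m with
    | zero => intro u; exact (Submodule.projectionOnto_apply_left hC.symm u).symm
    | succ m ih =>
      intro u
      rw [pow_succ', pow_succ', Module.End.mul_apply, Module.End.mul_apply, ih]
      exact hXπ _
  have hY1 : Y ^ r = 1 := LinearMap.ext fun u => by
    rw [hYpow, show (XB ^ r) (u : B) = u from Subtype.ext (by rw [hXB, hX]; rfl),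
      Submodule.projectionOnto_apply_left, Module.End.one_apply]
  let b := Module.finBasis F C
  let H : Matrix (Fin (Module.finrank F C)) (Fin (Module.finrank F C)) F :=
    Matrix.of fun i j => β ((b j : B) : V) ((b i : B) : V)
  have hβsum : ∀ {ι : Type} (s : Finset ι) (c : ι → F) (f : ι → V) (z : V),
      β (∑ i ∈ s, c i • f i) z = ∑ i ∈ s, c i * β (f i) z := by
    intro ι s c f z
    induction s using Finset.induction_on with
    | empty =>
      have h0 := hsmul 0 0 z
      rw [zero_smul, zero_mul] at h0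
      simp [h0]
    | insert a s ha ih => rw [Finset.sum_insert ha, Finset.sum_insert ha, hadd, hsmul, ih]
  have hsumr : ∀ {ι : Type} (s : Finset ι) (c : ι → F) (f : ι → V) (x : V),
      β x (∑ i ∈ s, c i • f i) = ∑ i ∈ s, qHom hF (c i) * β x (f i) := by
    intro ι s c f x
    rw [← hherm, hβsum, map_sum]
    exact Finset.sum_congr rfl fun i _ => by rw [map_mul, hherm]
  have hexp : ∀ x : C, ((x : B) : V) = ∑ i, b.repr x i • ((b i : B) : V) := fun x => by
    have h1 := congrArg (B.subtype ∘ₗ C.subtype) (b.sum_repr x)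
    rw [map_sum] at h1
    simp only [map_smul, LinearMap.comp_apply, Submodule.coe_subtype] at h1
    exact h1.symm
  set M := LinearMap.toMatrix b b Y with hM
  have hHh : ct (qHom hF) H = H := by
    ext i j
    exact hherm _ _
  have hHu : IsUnit H := by
    rw [Matrix.isUnit_iff_isUnit_det, isUnit_iff_ne_zero, ne_eq, ← Matrix.exists_mulVec_eq_zero_iff]
    rintro ⟨v, hv, hHv⟩
    set x : C := ∑ i, v i • b i with hx
    have hxi : ∀ i, β ((x : B) : V) ((b i : B) : V) = 0 := fun i => by
      have h1 := congrFun hHv i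
      simp only [Matrix.mulVec, dotProduct, Pi.zero_apply] at h1
      rw [hx]
      push_cast
      rw [hβsum, ← h1]
      exact Finset.sum_congr rfl fun l _ => mul_comm _ _
    have hxA : ((x : B) : V) ∈ A := hmax _ (x : B).2 fun b' hb' => by
      have h2 := hrad _ (hπA ⟨b', hb'⟩) _ (x : B).2
      rw [hsub, sub_eq_zero] at h2
      rw [← hherm, h2, hherm, hexp (π ⟨b', hb'⟩), hsumr]
      exact Finset.sum_eq_zero fun i _ => by rw [hxi, mul_zero]
    have hx0 : x = 0 := by
      have h3 := hπ0 (x : B) hxA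
      rwa [Submodule.projectionOnto_apply_left] at h3
    exact hv (funext fun i => by
      have h4 := congrArg (fun z => b.repr z i) hx0
      simpa [hx, Finsupp.single_apply] using h4)
  have hMH : ct (qHom hF) M * H * M = H := by
    ext i j
    have h1 := hYinv (b j) (b i)
    rw [hexp (Y (b j)), hexp (Y (b i)), hβsum] at h1
    rw [show H i j = β ((b j : B) : V) ((b i : B) : V) from rfl, ← h1, Matrix.mul_apply]
    refine Finset.sum_congr rfl fun l _ => ?_
    rw [Matrix.mul_apply, Finset.sum_mul, hsumr, Finset.mul_sum]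
    refine Finset.sum_congr rfl fun k _ => ?_
    rw [hM, LinearMap.toMatrix_apply, ct, Matrix.transpose_apply, Matrix.map_apply, LinearMap.toMatrix_apply]
    show qHom hF _ * H k l * _ = _
    rw [show H k l = β ((b l : B) : V) ((b k : B) : V) from rfl]
    ring
  have hCk : Module.finrank F C ≤ k := by
    have h1 := Submodule.finrank_add_eq_of_isCompl hC
    have h2 : Module.finrank F A' = Module.finrank F A :=
      LinearEquiv.finrank_eq (Submodule.comapSubtypeEquivOfLe hAB)
    omega
  have hMone : M = 1 := matrix_one hF hr (hk _ hCk) M H hHh hHu hMH (by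
    have h1 : LinearMap.toMatrixAlgEquiv b (Y ^ r) = LinearMap.toMatrixAlgEquiv b Y ^ r := map_pow _ _ _
    rw [hY1, map_one] at h1
    exact h1.symm)
  have hYone : Y = 1 := (LinearMap.toMatrixAlgEquiv b).injective (by rw [map_one]; exact hMone)
  intro v hv
  have e1 := hπA (XB (π ⟨v, hv⟩ : B))
  have e2 : π (XB (π ⟨v, hv⟩ : B)) = π ⟨v, hv⟩ := LinearMap.congr_fun hYone (π ⟨v, hv⟩)
  rw [e2] at e1
  have e3 := hA _ (hπA ⟨v, hv⟩)
  rw [map_sub] at e3
  have e4 := A.sub_mem (A.add_mem e3 e1) (hπA ⟨v, hv⟩)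
  convert e4 using 1
  simp only [XB, LinearMap.coe_restrict_apply]
  abel

theorem glue {r : ℕ} (hr : (r : F) ≠ 0) {V : Type*} [AddCommGroup V] [Module F V] (X : Module.End F V)
    (hX : X ^ r = 1) (v : V) (hv : X (X v - v) = X v - v) : X v = v := by
  have h : ∀ m : ℕ, (X ^ m) v = v + (m : F) • (X v - v) := by
    intro m
    induction m with
    | zero => simp
    | succ m ih =>
      rw [pow_succ', Module.End.mul_apply, ih, map_add, map_smul, hv, Nat.cast_succ, add_smul, one_smul]
      abel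
  have h2 := h r
  rw [hX, Module.End.one_apply, left_eq_add, smul_eq_zero] at h2
  exact sub_eq_zero.1 (h2.resolve_left hr)

/-- An element of order `r` of the unitary group commuting with a nontrivial unipotent one is trivial. -/
theorem unitary_key (hF : Fintype.card F = q ^ 2) {r : ℕ} (hr : r.Prime) (hrF : (r : F) ≠ 0) {n : ℕ} (hn : 4 ≤ n)
    (hk : ∀ d ≤ n - 2, ¬ r ∣ Nat.card (Cfsg.GU d F q))
    (X U U' : Module.End F (Fin n → F))
    (hXh : ∀ u v, Cfsg.hermForm n F q (X u) (X v) = Cfsg.hermForm n F q u v)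
    (hUh : ∀ u v, Cfsg.hermForm n F q (U u) (U v) = Cfsg.hermForm n F q u v)
    (hUU : U * U' = 1) (hU'U : U' * U = 1) (hX : X ^ r = 1) (hN : IsNilpotent (U - 1)) (hN0 : U ≠ 1)
    (hc : Commute X U) : X = 1 := by
  classical
  set h := Cfsg.hermForm n F q with hdef
  set N := U - 1 with hNdef
  obtain ⟨t, ht⟩ := hN
  have hex : ∃ t, N ^ t = 0 := ⟨t, ht⟩
  set s := Nat.find hex - 1 with hs
  have hfind : 2 ≤ Nat.find hex := by
    by_contra hlt
    apply hN0
    have h1 := pow_eq_zero_of_le (show Nat.find hex ≤ 1 by omega) (Nat.find_spec hex)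
    rwa [pow_one, hNdef, sub_eq_zero] at h1
  set M := N ^ s with hMdef
  have hM0 : M ≠ 0 := Nat.find_min hex (show s < Nat.find hex by omega)
  have hNM : N * M = 0 := by
    rw [hMdef, ← pow_succ', show s + 1 = Nat.find hex by omega]
    exact Nat.find_spec hex
  have hMM : M * M = 0 := by rw [hMdef, ← pow_add]; exact pow_eq_zero_of_le (by omega) (Nat.find_spec hex)
  have hUM : U * M = M := by rwa [hNdef, sub_mul, one_mul, sub_eq_zero] at hNM
  have hU'M : U' * M = M := by
    conv_lhs => rw [← hUM]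
    rw [← mul_assoc, hU'U, one_mul]
  have hN' : (U' - 1) ^ s = ((-1 : F) ^ s) • M := by
    have e1 : U' - 1 = ((-1 : F) • U') * N := by
      rw [hNdef, smul_mul_assoc, mul_sub, hU'U, mul_one]; module
    have hcom : Commute ((-1 : F) • U') N := by
      refine Commute.smul_left ?_ _
      show U' * N = N * U'
      rw [hNdef, mul_sub, sub_mul, hU'U, hUU, mul_one, one_mul]
    rw [e1, hcom.mul_pow, _root_.smul_pow, smul_mul_assoc]
    congr 1
    have : ∀ j : ℕ, U' ^ j * M = M := fun j => by
      induction j with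
      | zero => rw [pow_zero, one_mul]
      | succ j ih => rw [pow_succ, mul_assoc, hU'M, ih]
    exact this s
  have hadd : ∀ x y z, h (x + y) z = h x z + h y z := fun x y z => Cfsg.Agent.Lib.Forms.herm_add_left hF x y z
  have hsmul : ∀ (c : F) x z, h (c • x) z = c * h x z := fun c x z => Cfsg.Agent.Lib.Forms.herm_smul_left hF c x z
  have hherm : ∀ x y, qHom hF (h x y) = h y x := fun x y => by
    show (Cfsg.hermForm n F q x y) ^ q = Cfsg.hermForm n F q y x
    exact Cfsg.Agent.Lib.Forms.herm_conj hF x y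
  have hsmulr : ∀ (c : F) x z, h x (c • z) = qHom hF c * h x z := fun c x z => by
    rw [← hherm, hsmul, map_mul, hherm]
  have hsub : ∀ x y z, h (x - y) z = h x z - h y z := fun x y z => by
    rw [eq_sub_iff_add_eq, ← hadd, sub_add_cancel]
  have hsubr : ∀ x y z, h x (y - z) = h x y - h x z := fun x y z => by
    rw [← hherm, hsub, map_sub, hherm, hherm]
  have hadjN : ∀ u v, h (N u) v = h u ((U' - 1) v) := fun u v => by
    have e : h (U u) v = h u (U' v) := by
      conv_lhs => rw [show v = U (U' v) by rw [← Module.End.mul_apply, hUU, Module.End.one_apply]]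
      exact hUh _ _
    show h (U u - u) v = h u (U' v - v)
    rw [hsub, hsubr, e]
  have hadjpow : ∀ (j : ℕ) u v, h ((N ^ j) u) v = h u (((U' - 1) ^ j) v) := by
    intro j
    induction j with
    | zero => intro u v; rfl
    | succ j ih => intro u v; rw [pow_succ', Module.End.mul_apply, hadjN, ih, ← Module.End.mul_apply, ← pow_succ]
  set ε : F := (-1) ^ s with hε
  have hεε : ε * ε = 1 := by rw [hε, ← mul_pow, neg_mul_neg, one_mul, one_pow]
  have hεσ : qHom hF ε = ε := by rw [hε, map_pow, map_neg, map_one]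
  have hadj : ∀ u v, h (M u) v = ε * h u (M v) := fun u v => by
    rw [hadjpow, hN', LinearMap.smul_apply, hsmulr, hεσ]
  have hnd : ∀ u, (∀ v, h v u = 0) → u = 0 := fun u hu => by
    funext i
    have h1 := hu (Pi.single i 1)
    rw [hdef, Cfsg.hermForm, Finset.sum_eq_single i (fun j _ hj => by rw [Pi.single_eq_of_ne hj, zero_mul]) (by simp),
      Pi.single_eq_same, one_mul] at h1
    exact eq_zero_of_pow_eq_zero h1
  have hXM : Commute X M := by rw [hMdef]; exact (hc.sub_right (Commute.one_right X)).pow_right s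
  have hXMv : ∀ v, X (M v) = M (X v) := fun v => LinearMap.congr_fun hXM.eq v
  obtain ⟨x0, hx0⟩ := qHom_nontrivial hF
  set δ := x0 - qHom hF x0 with hδdef
  have hδ : qHom hF δ = -δ := by rw [hδdef, map_sub, qHom_invol hF, neg_sub]
  have hδ0 : δ ^ s ≠ 0 := pow_ne_zero _ (sub_ne_zero.2 (Ne.symm hx0))
  have hδs : qHom hF (δ ^ s) = ε * δ ^ s := by rw [map_pow, hδ, neg_pow, hε]
  set K := LinearMap.range M with hK
  set W := LinearMap.ker M with hW
  have hsum : Module.finrank F K + Module.finrank F W = n := by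
    rw [hK, hW, LinearMap.finrank_range_add_finrank_ker, Module.finrank_fin_fun]
  have hKW : K ≤ W := by
    rintro _ ⟨v, rfl⟩
    rw [hW, LinearMap.mem_ker, ← Module.End.mul_apply, hMM, LinearMap.zero_apply]
  have hKW' := Submodule.finrank_mono hKW
  have hK1 : 1 ≤ Module.finrank F K := by
    rw [Nat.one_le_iff_ne_zero, Ne, hK, Submodule.finrank_eq_zero, LinearMap.range_eq_bot]
    exact hM0
  have hWX : ∀ v ∈ W, X v ∈ W := fun v hv => by
    rw [hW, LinearMap.mem_ker] at hv ⊢
    rw [← hXMv, hv, map_zero]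
  have hKX : ∀ v ∈ K, X v ∈ K := by
    rintro _ ⟨v, rfl⟩
    exact ⟨X v, (hXMv v).symm⟩
  -- the top layer
  have top := radical_trivial hF hr hk (fun u v => δ ^ s * h (M u) v)
    (fun x y z => by simp only [map_add, hadd]; ring) (fun c x z => by simp only [map_smul, hsmul]; ring)
    (fun x y => by rw [map_mul, hδs, hherm, hadj y x]; ring) X hX W ⊤ le_top hWX
    (fun v _ => Submodule.mem_top)
    (fun u _ v _ => by simp only [← hXMv, hXh])
    (fun a ha b _ => by
      rw [hW, LinearMap.mem_ker] at ha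
      show δ ^ s * h (M a) b = 0
      have h0 := hsmul 0 0 b
      rw [zero_smul, zero_mul] at h0
      rw [ha, h0, mul_zero])
    (fun b _ hb => by
      rw [hW, LinearMap.mem_ker]
      refine hnd _ fun v => ?_
      rw [← hherm, (mul_eq_zero.1 (hb v Submodule.mem_top)).resolve_left hδ0, map_zero])
    (by rw [finrank_top, Module.finrank_fin_fun]; omega)
  -- the middle layer
  have mid := radical_trivial hF hr hk h hadd hsmul hherm X hX K W hKW hKX hWX
    (fun u _ v _ => hXh u v)
    (fun a ha b hb => by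
      obtain ⟨v, rfl⟩ := ha
      rw [hW, LinearMap.mem_ker] at hb
      have h0 := hsmul 0 0 v
      rw [zero_smul, zero_mul] at h0
      rw [hadj, hb, ← hherm, h0, map_zero, mul_zero])
    (fun b hb hperp => by
      let f : Module.Dual F (Fin n → F) :=
        { toFun := fun v => h v b, map_add' := fun x y => hadd x y b, map_smul' := fun c x => hsmul c x b }
      have hf : f ∈ (LinearMap.ker M).dualAnnihilator := by
        rw [Submodule.mem_dualAnnihilator]
        intro w hw
        show h w b = 0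
        rw [← hherm, hperp w hw, map_zero]
      rw [← LinearMap.range_dualMap_eq_dualAnnihilator_ker] at hf
      obtain ⟨φ, hφ⟩ := hf
      let z : Fin n → F := fun i => qHom hF (φ (Pi.single i 1))
      have hφz : ∀ y, φ y = h y z := fun y => by
        conv_lhs => rw [← Finset.univ_sum_single y]
        rw [map_sum, hdef, Cfsg.hermForm]
        refine Finset.sum_congr rfl fun i _ => ?_
        rw [show Pi.single i (y i) = y i • (Pi.single i 1 : Fin n → F) by rw [← Pi.single_smul', smul_eq_mul, mul_one],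
          map_smul, smul_eq_mul]
        exact congrArg _ (qHom_invol hF _).symm
      refine ⟨ε • z, sub_eq_zero.1 (hnd _ fun v => ?_)⟩
      have h1 : φ (M v) = h v b := LinearMap.congr_fun hφ v
      rw [hsubr, map_smul, hsmulr, hεσ, ← hadj, ← hφz, h1, sub_self])
    (by omega)
  have fixK : ∀ v ∈ K, X v = v := by
    rintro _ ⟨v, rfl⟩
    have h1 := top v Submodule.mem_top
    rw [hW, LinearMap.mem_ker, map_sub, sub_eq_zero] at h1
    rw [hXMv, h1]
  have fixW : ∀ v ∈ W, X v = v := fun v hv => glue hrF X hX v (fixK _ (mid v hv))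
  exact LinearMap.ext fun v => glue hrF X hX v (fixW _ (top v Submodule.mem_top))

end Key

theorem gu_dvd {F : Type*} [Field F] [Fintype F] {q : ℕ} (hF : Fintype.card F = q ^ 2) {j k : ℕ} (h : j ≤ k) :
    Nat.card (Cfsg.GU j F q) ∣ Nat.card (Cfsg.GU k F q) := by
  rw [Cfsg.Agent.Lib.Classical.natCard_GU hF, Cfsg.Agent.Lib.Classical.natCard_GU hF]
  exact Nat.mul_dvd_mul (pow_dvd_pow q (Nat.div_le_div_right (Nat.mul_le_mul h (by omega))))
    (Finset.prod_dvd_prod_of_subset _ _ _ (Finset.range_subset_range.2 h))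

/-- Let q be a power of the prime p, F the field with q² elements, m ≥ 4, and let a, b be commuting elements of PSU(m, q) with a of order p. Then every prime divisor of the order of b divides the order of SU(m − 2, q). -/
theorem result {F : Type*} [Field F] [Fintype F] (p : ℕ) [Fact p.Prime] [CharP F p] (m q : ℕ) (hm : 4 ≤ m) (hF : Fintype.card F = q ^ 2)
    (a b : Cfsg.PSU m F q) (ha : orderOf a = p) (hab : Commute a b) :
    (orderOf b).primeFactors ⊆ (Nat.card ↥(Cfsg.SU (m - 2) F q)).primeFactors := by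
  classical
  intro r hr
  rw [Nat.mem_primeFactors] at hr
  obtain ⟨hr, hrb, -⟩ := hr
  rw [Nat.mem_primeFactors]
  refine ⟨hr, ?_, Nat.card_pos.ne'⟩
  have hp := Fact.out (p := p.Prime)
  have hq0 : q ≠ 0 := by rintro rfl; simp [Fintype.card_ne_zero] at hF
  have hq2 := Cfsg.Agent.Lib.Forms.two_le_of_card_sq hF
  have hpF : p ∣ Fintype.card F := by
    obtain ⟨e, -, he⟩ := FiniteField.card F p
    rw [he]
    exact dvd_pow_self p e.ne_zero
  rw [hF] at hpF
  have hpq : p ∣ q := hp.dvd_of_dvd_pow hpF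
  have hGS := Cfsg.Agent.Lib.Classical.succ_mul_natCard_SU hF (m - 2) (by omega)
  have hGU := Cfsg.Agent.Lib.Classical.natCard_GU hF (m - 2)
  have he : 1 ≤ (m - 2) * (m - 2 - 1) / 2 :=
    (Nat.le_div_iff_mul_le (by omega)).2 (by have := Nat.mul_le_mul (show 2 ≤ m - 2 by omega) (show 1 ≤ m - 2 - 1 by omega); omega)
  by_cases hrp : r = p
  · subst hrp
    have h1 : r ∣ (q + 1) * Nat.card (Cfsg.SU (m - 2) F q) := by
      rw [hGS, hGU]
      exact dvd_mul_of_dvd_left (dvd_trans hpq (dvd_pow_self q (by omega))) _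
    exact (hr.dvd_mul.1 h1).resolve_left fun h => hr.ne_one (Nat.dvd_one.1 ((Nat.dvd_add_right hpq).1 h))
  by_contra hndvd
  have hrq1 : ¬ r ∣ q + 1 := fun h => by
    have h2 : (q + 1) * (q + 1) ∣ (q + 1) * Nat.card (Cfsg.SU (m - 2) F q) := by
      rw [hGS, hGU]
      refine dvd_mul_of_dvd_right (dvd_trans ?_ (Finset.prod_dvd_prod_of_subset (Finset.range 2) _ _
        (Finset.range_subset_range.2 (show 2 ≤ m - 2 by omega)))) _
      rw [Finset.prod_range_succ, Finset.prod_range_one, if_pos (by decide), if_neg (by decide), zero_add, pow_one]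
      refine mul_dvd_mul_left _ ⟨q - 1, ?_⟩
      have := Nat.sq_sub_sq q 1
      rwa [one_pow] at this
    exact hndvd (h.trans ((Nat.mul_dvd_mul_iff_left (by omega)).1 h2))
  have hk : ∀ d ≤ m - 2, ¬ r ∣ Nat.card (Cfsg.GU d F q) := fun d hd h => by
    have h2 := h.trans (gu_dvd hF hd)
    rw [← hGS] at h2
    rcases hr.dvd_mul.1 h2 with h3 | h3
    · exact hrq1 h3
    · exact hndvd h3
  -- lifts
  obtain ⟨A, rfl⟩ := QuotientGroup.mk'_surjective _ a
  obtain ⟨B, rfl⟩ := QuotientGroup.mk'_surjective _ b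
  set Z := Subgroup.center (Cfsg.SU m F q)
  have hA0 : orderOf A ≠ 0 := (orderOf_pos A).ne'
  obtain ⟨j, l, hpm, hm'⟩ := Nat.exists_eq_pow_mul_and_not_dvd hA0 p hp.ne_one
  set U := A ^ l with hU
  have hUp : U ^ p ^ j = 1 := by rw [hU, ← pow_mul, mul_comm, ← hm', pow_orderOf_eq_one]
  have hU1 : U ≠ 1 := by
    intro h
    have h2 : (QuotientGroup.mk' Z A) ^ l = 1 := by rw [← map_pow, ← hU, h, map_one]
    exact hpm (ha ▸ orderOf_dvd_of_pow_eq_one h2)
  obtain ⟨t, ht⟩ : ∃ t, orderOf B = orderOf (QuotientGroup.mk' Z B) * t := orderOf_map_dvd _ B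
  have hrB : r ∣ orderOf B := hrb.trans ⟨t, ht⟩
  set x := B ^ (orderOf B / r) with hx
  have hxo : orderOf x = r := orderOf_pow_orderOf_div (orderOf_pos B).ne' hrB
  let φ : ↥(Cfsg.SU m F q) →* Module.End F (Fin m → F) :=
    (Matrix.toLinAlgEquiv' : Matrix (Fin m) (Fin m) F ≃ₐ[F] _).toMonoidHom.comp
      ((Units.coeHom _).comp (Matrix.SpecialLinearGroup.toGL.comp (Cfsg.SU m F q).subtype))
  have hφ : Function.Injective φ := fun a b hab =>
    Subtype.ext (Subtype.ext ((Matrix.toLinAlgEquiv').injective hab))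
  have : Nontrivial (Fin m → F) := by
    have : Nonempty (Fin m) := ⟨⟨0, by omega⟩⟩
    infer_instance
  have : CharP (Module.End F (Fin m → F)) p :=
    charP_of_injective_algebraMap (algebraMap F (Module.End F (Fin m → F))).injective p
  have scalar_one : ∀ z ∈ Z, z ^ p ^ j = 1 → z = 1 := by
    intro z hz hzp
    have hc := Cfsg.Agent.Lib.Classical.center_SU_scalar hF z hz ⟨0, by omega⟩
    set c := z.1.1 (⟨0, by omega⟩ : Fin m) ⟨0, by omega⟩
    have h0 : φ z = c • 1 := by
      show Matrix.toLinAlgEquiv' (_ : Matrix (Fin m) (Fin m) F) = _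
      refine LinearMap.ext fun v => funext fun i => ?_
      rw [Matrix.toLinAlgEquiv'_apply]
      show ((z : Matrix.SpecialLinearGroup (Fin m) F).1 *ᵥ v) i = (c • (1 : Module.End F (Fin m → F))) v i
      rw [hc, Matrix.mulVec_diagonal]
      rfl
    apply hφ
    have h1 : (φ z) ^ p ^ j = 1 := by rw [← map_pow, hzp, map_one]
    rw [h0, _root_.smul_pow, one_pow, ← Algebra.algebraMap_eq_smul_one,
      ← map_one (algebraMap F (Module.End F (Fin m → F)))] at h1
    have h2 : c ^ p ^ j = 1 := (algebraMap F (Module.End F (Fin m → F))).injective h1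
    have h3 : c = 1 := by
      have h4 : (c - 1) ^ p ^ j = 0 := by rw [sub_pow_char_pow, h2, one_pow, sub_self]
      exact sub_eq_zero.1 (eq_zero_of_pow_eq_zero h4)
    rw [h0, h3, one_smul, map_one]
  have hBU : Commute B U := by
    have hz : U⁻¹ * (B * U * B⁻¹) ∈ Z := by
      rw [← QuotientGroup.eq_one_iff]
      show QuotientGroup.mk' Z _ = 1
      simp only [hU, map_mul, map_inv, map_pow]
      rw [((hab.symm).pow_right l).eq]
      simp [Z, mul_assoc]
    have hcomm : Commute U (U⁻¹ * (B * U * B⁻¹)) := Subgroup.mem_center_iff.1 hz U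
    have hzp : (U⁻¹ * (B * U * B⁻¹)) ^ p ^ j = 1 := by
      rw [((Commute.inv_left (show Commute U (B * U * B⁻¹) from by
        simpa using (Commute.refl U).mul_right hcomm))).mul_pow, inv_pow, hUp, inv_one, one_mul, conj_pow, hUp]
      group
    have := scalar_one _ hz hzp
    rw [inv_mul_eq_one] at this
    show B * U = U * B
    conv_rhs => rw [this]
    group
  have hxU : Commute x U := hBU.pow_left _
  have hXr : φ x ^ r = 1 := by rw [← map_pow, ← hxo, pow_orderOf_eq_one, map_one]
  have hN : IsNilpotent (φ U - 1) := ⟨p ^ j, by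
    rw [sub_pow_char_pow_of_commute (p := p) (h := Commute.one_right _), ← map_pow, hUp, map_one, one_pow,
      sub_self]⟩
  have hN0 : φ U ≠ 1 := fun h => hU1 (hφ (by rw [h, map_one]))
  have hrF : (r : F) ≠ 0 := fun h => by
    rw [CharP.cast_eq_zero_iff F p] at h
    exact hrp ((Nat.prime_dvd_prime_iff_eq hp hr).1 h).symm
  have h1 := unitary_key hF hr hrF hm hk (φ x) (φ U) (φ U⁻¹) (fun u v => x.2 u v) (fun u v => U.2 u v)
    (by rw [← map_mul, mul_inv_cancel, map_one]) (by rw [← map_mul, inv_mul_cancel, map_one])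
    hXr hN hN0 (hxU.map φ)
  have : x = 1 := hφ (by rw [h1, map_one])
  rw [this, orderOf_one] at hxo
  exact hr.ne_one hxo.symm

end Cfsg.Agent.S2365
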