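import Cfsg.Statements.S2367
import Mathlib

set_option autoImplicit false
open Cfsg

namespace Cfsg.Agent.S2367

/-- The 26 sporadic orders. -/
def sporadicOrders : List ℕ :=
  [7920, 95040, 443520, 10200960, 244823040, 175560, 604800, 50232960, 86775571046077562880,
   4157776806543360000, 42305421312000, 495766656000, 64561751654400, 4089470473293004800,
   1255205709190661721292800, 44352000, 898128000, 4030387200, 145926144000, 448345497600, 460815505920,
   273030912000000, 51765179004000000, 90745943887872000, 4154781481226426191177580544000000,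
   808017424794512875886459904961710757005754368000000000]

/-- All primes dividing a sporadic order. -/
def sporadicPrimes : List ℕ := [2, 3, 5, 7, 11, 13, 17, 19, 23, 29, 31, 37, 41, 43, 47, 59, 67, 71]

theorem sporadic_support : ∀ n ∈ sporadicOrders, n ≠ 0 ∧ n ∣ sporadicPrimes.prod ^ 50 := by decide +kernel

theorem sporadic_check : ∀ n ∈ sporadicOrders, ∀ p ∈ sporadicPrimes, p ≠ 2 → p ^ 3 ∣ n → ¬ p ^ 4 ∣ n →
    ∃ a ∈ List.range 50, p ^ 3 < 2 ^ a ∧ 2 ^ a ∣ n := by decide +kernel

theorem sporadic_primes_prime : ∀ p ∈ sporadicPrimes, p.Prime := by decide +kernel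

theorem sporadic_case (n : ℕ) (hn : n ∈ sporadicOrders) (p : ℕ) (hp : p.Prime) (hodd : p ≠ 2)
    (h3 : n.factorization p = 3) : p ^ 3 < 2 ^ n.factorization 2 := by
  obtain ⟨hn0, hsup⟩ := sporadic_support n hn
  have hd : p ^ 3 ∣ n := by rw [← h3]; exact Nat.ordProj_dvd n p
  have hd4 : ¬ p ^ 4 ∣ n := by
    rw [hp.pow_dvd_iff_le_factorization hn0, h3]; omega
  have hmem : p ∈ sporadicPrimes := by
    obtain ⟨q, hq, hpq⟩ := (Prime.dvd_prod_iff hp.prime).1
      (hp.dvd_of_dvd_pow ((dvd_trans (dvd_pow_self p three_ne_zero) hd).trans hsup))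
    rwa [(Nat.prime_dvd_prime_iff_eq hp (sporadic_primes_prime q hq)).1 hpq]
  obtain ⟨a, -, ha, hdvd⟩ := sporadic_check n hn p hmem hodd hd hd4
  exact ha.trans_le (Nat.pow_le_pow_right two_pos ((Nat.prime_two.pow_dvd_iff_le_factorization hn0).1 hdvd))

theorem fact_mono {p : ℕ} {k n : ℕ} (h : k ≤ n) :
    (k.factorial).factorization p ≤ (n.factorial).factorization p :=
  (Nat.factorization_le_iff_dvd k.factorial_ne_zero n.factorial_ne_zero).2 (Nat.factorial_dvd_factorial h) p

theorem half_add_quarter_le (n : ℕ) : n / 2 + n / 4 ≤ (n.factorial).factorization 2 := by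
  rw [Nat.factorization_def _ Nat.prime_two]
  haveI : Fact (Nat.Prime 2) := ⟨Nat.prime_two⟩
  rw [padicValNat_factorial (show Nat.log 2 n < Nat.log 2 n + 3 by omega)]
  refine le_trans (le_of_eq ?_) (Finset.sum_le_sum_of_subset (show ({1, 2} : Finset ℕ) ⊆ _ from ?_))
  · simp
  · intro x; simp; omega

theorem le_factorial_factorization (p n : ℕ) (hp : p.Prime) : n / p ≤ (n.factorial).factorization p := by
  rw [Nat.factorization_def _ hp]
  haveI : Fact p.Prime := ⟨hp⟩
  rw [padicValNat_factorial (show Nat.log p n < Nat.log p n + 3 by omega)]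
  refine le_trans (le_of_eq ?_) (Finset.single_le_sum (f := fun i => n / p ^ i) (fun _ _ => Nat.zero_le _)
    (show 1 ∈ _ by simp))
  simp

theorem cube_lt (p : ℕ) (hp : 7 ≤ p) : p ^ 3 < 2 ^ (2 * p) := by
  induction p, hp using Nat.le_induction with
  | base => norm_num
  | succ k hk ih =>
    rw [show 2 * (k + 1) = 2 * k + 2 by ring, pow_add]
    nlinarith [Nat.pow_le_pow_left hk 2]

theorem alt_case (n p : ℕ) (hp : p.Prime) (hodd : p ≠ 2) (hn : 2 ≤ n)
    (h3 : (n.factorial / 2).factorization p = 3) :
    p ^ 3 < 2 ^ (n.factorial / 2).factorization 2 := by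
  have hdvd : 2 ∣ n.factorial := Nat.dvd_factorial two_pos hn
  have hdiv := Nat.factorization_div hdvd
  rw [hdiv] at h3 ⊢
  simp [Finsupp.tsub_apply, Nat.prime_two.factorization, Finsupp.single_apply, Ne.symm hodd] at h3 ⊢
  have h1 := half_add_quarter_le n
  have h2 := le_factorial_factorization p n hp
  have hlow : 3 * p ≤ n := by
    by_contra hlt
    have h4 := fact_mono (p := p) (show n ≤ 3 * p - 1 by omega)
    haveI : Fact p.Prime := ⟨hp⟩
    have hp3 : 3 ≤ p := by have := hp.two_le; omega
    rw [Nat.factorization_def _ hp, Nat.factorization_def _ hp,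
      padicValNat_factorial (show Nat.log p (3 * p - 1) < 2 by
        apply Nat.log_lt_of_lt_pow (by omega); have : 3 * p ≤ p ^ 2 := (by nlinarith); omega)] at h4
    rw [Nat.factorization_def _ hp] at h3
    simp at h4
    have : (3 * p - 1) / p < 3 := Nat.div_lt_iff_lt_mul hp.pos |>.2 (by omega)
    omega
  rcases Nat.lt_or_ge p 7 with hlt | hge
  · have : p = 3 ∨ p = 5 := by
      have := hp.two_le
      interval_cases p <;> simp_all (config := {decide := true})
    rcases this with rfl | rfl
    · have h9 : n.factorial.factorization 3 ≥ 4 := le_trans (le_of_eq ?_) (fact_mono (show 9 ≤ n by omega))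
      · omega
      · rw [Nat.factorization_def _ Nat.prime_three]
        haveI : Fact (Nat.Prime 3) := ⟨Nat.prime_three⟩
        rw [padicValNat_factorial (show Nat.log 3 9 < 3 by exact Nat.log_lt_of_lt_pow (by norm_num) (by norm_num))]
        rfl
    · exact lt_of_lt_of_le (show 5 ^ 3 < 2 ^ 7 by norm_num) (Nat.pow_le_pow_right two_pos (by omega))
  · exact (cube_lt p hge).trans_le (Nat.pow_le_pow_right two_pos (by omega))

/-- Let G be an alternating group of degree at least 5 or a simple group with the order of one of the 26 sporadic groups, and let p be an odd prime such that p³ is the exact power of p dividing the order of G. Then p³ is less than the 2-part of the order of G. -/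
theorem result {G : Type*} [Group G] [Finite G] (hG : Cfsg.IsAlternating G ∨ Cfsg.IsSporadic G)
    (p : ℕ) (hp : p.Prime) (hodd : p ≠ 2) (h3 : (Nat.card G).factorization p = 3) :
    p ^ 3 < 2 ^ (Nat.card G).factorization 2 := by
  rcases hG with ⟨n, hn, ⟨e⟩⟩ | hG
  · haveI : Nontrivial (Fin n) := Fin.nontrivial_iff_two_le.2 (by omega)
    have hc : Nat.card G = n.factorial / 2 := by
      rw [Nat.card_congr e.toEquiv, nat_card_alternatingGroup, Nat.card_fin]
    rw [hc] at h3 ⊢
    exact alt_case n p hp hodd (by omega) h3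
  · refine sporadic_case _ ?_ p hp hodd h3
    unfold Cfsg.IsSporadic at hG
    rcases hG with h | h | h | h | h | h | h | h | h | h | h | h | h | h | h | h | h | h | h | h | h | h | h | h | h | h <;>
      (rw [h.2]; decide +kernel)

end Cfsg.Agent.S2367
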