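import Cfsg.Statements.S2368
import Mathlib

set_option autoImplicit false
open Cfsg

namespace Cfsg.Agent.S2368

open Matrix

/-- The nilpotent shift. -/
def shift (m : ℕ) (F : Type*) [Field F] : Matrix (Fin m) (Fin m) F :=
  Matrix.of fun i j => if j.val = i.val + 1 then 1 else 0

theorem shift_pow (m : ℕ) (F : Type*) [Field F] (k : ℕ) (i j : Fin m) :
    (shift m F ^ k) i j = if j.val = i.val + k then 1 else 0 := by
  induction k generalizing i with
  | zero => simp [Matrix.one_apply, Fin.ext_iff, eq_comm]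
  | succ k ih =>
    rw [pow_succ', Matrix.mul_apply]
    simp only [ih]
    simp only [shift, Matrix.of_apply, ite_mul, one_mul, zero_mul]
    by_cases h : i.val + 1 < m
    · rw [Finset.sum_eq_single (⟨i.val + 1, h⟩ : Fin m)]
      · simp [add_comm k 1, ← add_assoc]
      · intro b _ hb
        rw [if_neg fun e => hb (Fin.ext e)]
      · simp
    · rw [if_neg (by omega), Finset.sum_eq_zero]
      intro b _
      rw [if_neg (by omega)]

theorem shift_pow_self (m : ℕ) (F : Type*) [Field F] : shift m F ^ m = 0 := by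
  ext i j
  rw [shift_pow, if_neg (by omega)]
  rfl

theorem exists_power (p m : ℕ) (hp : p.Prime) (hm : 1 ≤ m) : ∃ a, m ≤ p ^ a ∧ p ^ a < p * m := by
  have h : ∃ a, m ≤ p ^ a := ⟨m, (Nat.lt_pow_self hp.one_lt).le⟩
  refine ⟨Nat.find h, Nat.find_spec h, ?_⟩
  rcases Nat.eq_zero_or_pos (Nat.find h) with e | e
  · rw [e, pow_zero]
    exact Nat.lt_of_lt_of_le hp.one_lt (Nat.le_mul_of_pos_right p hm)
  · have h1 := Nat.find_min h (show Nat.find h - 1 < Nat.find h by omega)
    calc p ^ Nat.find h = p * p ^ (Nat.find h - 1) := by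
          rw [← pow_succ', Nat.sub_add_cancel e]
      _ < p * m := Nat.mul_lt_mul_of_pos_left (by omega) hp.pos

/-- Let F be a finite field of characteristic p and m ≥ 1. Every element of GL(m, F) of p-power order has order less than p·m, and GL(m, F) has an element of p-power order at least m; so the largest order of a p-element of GL(m, F) is the least power of p that is at least m. -/
theorem result {F : Type*} [Field F] [Fintype F] (p : ℕ) [Fact p.Prime] [CharP F p] (m : ℕ) (hm : 1 ≤ m) :
    (∀ g : Matrix.GeneralLinearGroup (Fin m) F, (∃ j : ℕ, orderOf g = p ^ j) → orderOf g < p * m) ∧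
      ∃ g : Matrix.GeneralLinearGroup (Fin m) F, (∃ j : ℕ, orderOf g = p ^ j) ∧ m ≤ orderOf g := by
  have hp := Fact.out (p := p.Prime)
  obtain ⟨a, ha, hap⟩ := exists_power p m hp hm
  haveI : Nonempty (Fin m) := ⟨⟨0, hm⟩⟩
  refine ⟨fun g ⟨j, hj⟩ => lt_of_le_of_lt ?_ hap, ?_⟩
  · have hg : ((g : Matrix (Fin m) (Fin m) F) - 1) ^ p ^ j = 0 := by
      rw [sub_pow_char_pow_of_commute (p := p) (n := j) (h := Commute.one_right _)]
      rw [one_pow, ← Units.val_pow_eq_pow_val, ← hj, pow_orderOf_eq_one, Units.val_one, sub_self]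
    have hch := (Matrix.isNilpotent_charpoly_sub_pow_of_isNilpotent ⟨_, hg⟩).eq_zero
    rw [sub_eq_zero, Fintype.card_fin] at hch
    have h2 : ((g : Matrix (Fin m) (Fin m) F) - 1) ^ m = 0 := by
      have := Matrix.aeval_self_charpoly ((g : Matrix (Fin m) (Fin m) F) - 1)
      rwa [hch, map_pow, Polynomial.aeval_X] at this
    refine Nat.le_of_dvd (pow_pos hp.pos a) (orderOf_dvd_of_pow_eq_one (Units.ext ?_))
    have h3 : ((g : Matrix (Fin m) (Fin m) F) - 1) ^ p ^ a = 0 := pow_eq_zero_of_le ha h2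
    rw [sub_pow_char_pow_of_commute (p := p) (n := a) (h := Commute.one_right _), one_pow,
      sub_eq_zero] at h3
    rw [Units.val_pow_eq_pow_val, Units.val_one, h3]
  · have hN : IsNilpotent (shift m F) := ⟨m, shift_pow_self m F⟩
    have hu : IsUnit (1 + shift m F) := hN.isUnit_one_add
    have key : ∀ j, ((hu.unit : GL (Fin m) F) : Matrix (Fin m) (Fin m) F) ^ p ^ j = 1 + shift m F ^ p ^ j := by
      intro j
      rw [IsUnit.unit_spec, add_pow_char_pow_of_commute (p := p) (n := j) (h := Commute.one_left _), one_pow]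
    have hdvd : orderOf hu.unit ∣ p ^ a := by
      refine orderOf_dvd_of_pow_eq_one (Units.ext ?_)
      rw [Units.val_pow_eq_pow_val, key, pow_eq_zero_of_le ha (shift_pow_self m F), add_zero, Units.val_one]
    obtain ⟨j, -, hj⟩ := (Nat.dvd_prime_pow hp).1 hdvd
    refine ⟨hu.unit, ⟨j, hj⟩, ?_⟩
    by_contra hlt
    have h4 : (hu.unit : GL (Fin m) F) ^ p ^ j = 1 := hj ▸ pow_orderOf_eq_one _
    have h5 := congrArg Units.val h4
    rw [Units.val_pow_eq_pow_val, key, Units.val_one, add_eq_left] at h5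
    rw [hj, not_le] at hlt
    have h6 := congrFun (congrFun h5 ⟨0, hm⟩) ⟨p ^ j, hlt⟩
    rw [shift_pow] at h6
    simp at h6

end Cfsg.Agent.S2368
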