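import Cfsg.Statements.S2369
import Cfsg.Agent.Lib.ReeF4.StableParabolic

set_option autoImplicit false
open Cfsg

namespace Cfsg.Agent.S2369

/-- Let q = 2^(2m+1) with m ≥ 1 and let a, b be commuting elements of the large Ree group ²F₄(q) with a an involution. Then every prime divisor of the order of b divides q(q⁴ − 1). -/
theorem result {K : Type*} [Field K] [Fintype K] (m : ℕ) (hm : 1 ≤ m) (hK : Fintype.card K = 2 ^ (2 * m + 1))
    (a b : ↥(Cfsg.Lie.twistedF4 K (2 ^ m))) (ha : orderOf a = 2) (hab : Commute a b) :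
    (orderOf b).primeFactors ⊆ (2 ^ (2 * m + 1) * ((2 ^ (2 * m + 1)) ^ 4 - 1)).primeFactors := by
  classical
  haveI : CharP K 2 := Agent.Lib.Twisted.ReeF.charP_of_card hK
  obtain ⟨σ, hσ⟩ := Agent.Lib.Twisted.ReeF.exists_sigma hK
  have hfix := Agent.Lib.Twisted.ReeF.le_fixSub hσ (Agent.Lib.Twisted.ReeF.pow_theta hK)
  have haG : (a : GL Cfsg.Lie.chevF4.Idx K) ∈ Cfsg.Lie.chevF4.group K := Agent.Lib.Twisted.fixSub_le σ (hfix a.2)
  have hbG : (b : GL Cfsg.Lie.chevF4.Idx K) ∈ Cfsg.Lie.chevF4.group K := Agent.Lib.Twisted.fixSub_le σ (hfix b.2)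
  obtain ⟨J, hJ, hdvd⟩ := Agent.Lib.ReeF4.exists_stable_parabolic hσ (a := ⟨_, haG⟩) (b := ⟨_, hbG⟩)
    (by rw [Subgroup.orderOf_mk, Subgroup.orderOf_coe, ha]) (Subtype.ext (congrArg Subtype.val hab.eq :))
    (Agent.Lib.Twisted.mem_fixSub.1 (hfix a.2))
  intro r hr
  obtain ⟨hrp, hrd, -⟩ := Nat.mem_primeFactors.1 hr
  rw [← hK]
  refine Nat.mem_primeFactors.2 ⟨hrp, Agent.Lib.ReeF4.dvd_of_dvd_parG hJ hrp ?_, ?_⟩
  · rw [Subgroup.orderOf_mk, Subgroup.orderOf_coe] at hdvd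
    exact hrd.trans hdvd
  · have h2 : 2 ≤ Fintype.card K := Fintype.one_lt_card
    have : 1 < Fintype.card K ^ 4 := Nat.one_lt_pow (by norm_num) h2
    exact Nat.mul_ne_zero (by omega) (by omega)

end Cfsg.Agent.S2369
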