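import Cfsg.Statements.S2370
import Mathlib
import Cfsg.Agent.Lib.ReeF4.Exponent

set_option autoImplicit false
open Cfsg

namespace Cfsg.Agent.S2370


/-- Let q = 2^(2m+1) with m ≥ 1. Every element of 2-power order of the large Ree group ²F₄(q) has order at most 32. -/
theorem result {K : Type*} [Field K] [Fintype K] (m : ℕ) (hm : 1 ≤ m) (hK : Fintype.card K = 2 ^ (2 * m + 1))
    (x : ↥(Cfsg.Lie.twistedF4 K (2 ^ m))) (hx : ∃ j : ℕ, orderOf x = 2 ^ j) : orderOf x ≤ 32 := by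
  classical
  obtain ⟨p, hc⟩ := CharP.exists K
  haveI := hc
  obtain ⟨n, hp, hn⟩ := FiniteField.card K p
  have hp2 : p = 2 := by
    have h : p ∣ 2 ^ (2 * m + 1) := by rw [← hK, hn]; exact dvd_pow_self p n.ne_zero
    exact (Nat.prime_dvd_prime_iff_eq hp Nat.prime_two).mp (hp.dvd_of_dvd_pow h)
  subst hp2
  obtain ⟨j, hj⟩ := hx
  have hmem : (x : GL Cfsg.Lie.chevF4.Idx K) ∈ Cfsg.Lie.chevF4.group K :=
    Agent.Lib.ReeF4.genSubgroup_le_group _ x.2
  have h : (x : GL Cfsg.Lie.chevF4.Idx K) ^ 32 = 1 :=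
    Agent.Lib.ReeF4.two_element_pow_32 hK hmem ⟨j, (Subgroup.orderOf_coe x).trans hj⟩
  exact Nat.le_of_dvd (by norm_num) (orderOf_dvd_of_pow_eq_one (Subtype.ext h))

end Cfsg.Agent.S2370
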