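import Cfsg.Statements.S2372
import Cfsg.Agent.Lib.H59.Homocyclic.SelfCent
import Cfsg.Agent.Lib.Chev.PoincareF4

set_option autoImplicit false
open Cfsg

namespace Cfsg.Agent.S2372

/-- The group F₄(q) contains a cyclic subgroup of order q⁴ + 1 which is its own centralizer. -/
theorem result {F : Type*} [Field F] [Fintype F] (q : ℕ) (hF : Fintype.card F = q) :
    ∃ H : Subgroup ↥(Cfsg.Lie.chevF4.group F), IsCyclic ↥H ∧ Nat.card ↥H = q ^ 4 + 1 ∧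
      Subgroup.centralizer (H : Set ↥(Cfsg.Lie.chevF4.group F)) = H := by
  subst hF
  have h3key : ∀ x : ZMod 3, x ^ 4 + 1 ≠ 0 := by decide
  set q := Fintype.card F with hq
  have hq2 : 2 ≤ q := Fintype.one_lt_card
  have hev : ((Polynomial.cyclotomic 8 ℤ).eval (q : ℤ)).natAbs = q ^ 4 + 1 := by
    haveI : Fact (Nat.Prime 2) := ⟨Nat.prime_two⟩
    rw [show (8 : ℕ) = 2 ^ (2 + 1) from rfl, Polynomial.cyclotomic_prime_pow_eq_geom_sum Nat.prime_two]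
    rw [show ((Finset.range 2).sum fun i => ((Polynomial.X : Polynomial ℤ) ^ 2 ^ 2) ^ i) = Polynomial.X ^ 4 + 1 by
      simp [Finset.sum_range_succ]; ring]
    rw [Polynomial.eval_add, Polynomial.eval_pow, Polynomial.eval_X, Polynomial.eval_one,
      show (q : ℤ) ^ 4 + 1 = ((q ^ 4 + 1 : ℕ) : ℤ) by push_cast; rfl, Int.natAbs_natCast]
  have h4 : ¬ 4 ∣ q ^ 4 + 1 := by
    rw [← ZMod.natCast_eq_zero_iff]
    push_cast
    generalize (q : ZMod 4) = x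
    revert x; decide
  obtain ⟨r, hr, hrN, hr2⟩ : ∃ r, r.Prime ∧ r ∣ q ^ 4 + 1 ∧ r ≠ 2 := by
    by_cases h2 : 2 ∣ q ^ 4 + 1
    · obtain ⟨k, hk⟩ := h2
      have h16 : 2 ^ 4 ≤ q ^ 4 := Nat.pow_le_pow_left hq2 4
      obtain ⟨r, hr, hrk⟩ := Nat.exists_prime_and_dvd (show k ≠ 1 by omega)
      refine ⟨r, hr, hk ▸ hrk.mul_left 2, fun e => h4 ?_⟩
      obtain ⟨j, hj⟩ := e ▸ hrk
      exact ⟨j, by omega⟩
    · obtain ⟨r, hr, hrN⟩ := Nat.exists_prime_and_dvd (show q ^ 4 + 1 ≠ 1 by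
        have : 0 < q ^ 4 := by positivity
        omega)
      exact ⟨r, hr, hrN, fun e => h2 (e ▸ hrN)⟩
  haveI : Fact r.Prime := ⟨hr⟩
  have hr3 : r ≠ 3 := by
    rintro rfl
    rw [← ZMod.natCast_eq_zero_iff] at hrN
    push_cast at hrN
    exact h3key _ hrN
  obtain ⟨H, h1, h2, h3⟩ := Cfsg.Agent.Lib.H59.Homocyclic.selfCentralizing (F := F)
    ⟨Cfsg.Agent.Lib.Chev.checked_F4, Cfsg.Agent.Lib.Chev.descent_F4⟩
    Cfsg.Agent.Lib.Chev.F4.smith_ok Cfsg.Agent.Lib.Chev.F4.chain_ok Cfsg.Agent.Lib.Chev.F4.poly_ok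
    (by decide +kernel) (by decide +kernel) (by decide +kernel) 8 (by norm_num) (by decide +kernel)
    (by decide +kernel) r (by rw [← hq, hev]; exact hrN)
    (fun h => hr2 ((Nat.prime_dvd_prime_iff_eq hr Nat.prime_two).1 (hr.dvd_of_dvd_pow (n := 3) h)))
    (fun h => by
      have h' : r ∣ 2 ^ 7 * 3 ^ 2 := h
      rcases (Nat.Prime.dvd_mul hr).1 h' with h' | h'
      · exact hr2 ((Nat.prime_dvd_prime_iff_eq hr Nat.prime_two).1 (hr.dvd_of_dvd_pow h'))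
      · exact hr3 ((Nat.prime_dvd_prime_iff_eq hr Nat.prime_three).1 (hr.dvd_of_dvd_pow h')))
    (fun l hl hl8 hl2 => by
      obtain rfl := (Nat.prime_dvd_prime_iff_eq hl Nat.prime_two).1 (hl.dvd_of_dvd_pow (n := 3) hl8)
      rw [← hq, hev] at hl2
      exact h4 hl2)
  exact ⟨H, h1, by rw [h2, ← hq, hev], h3⟩

end Cfsg.Agent.S2372
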