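import Cfsg.Statements.S2375
import Cfsg.Agent.Lib.H59.Homocyclic.SelfCent
import Cfsg.Agent.Lib.Chev.PoincareE8

set_option autoImplicit false
open Cfsg

namespace Cfsg.Agent.S2375

/-- The group E₈(q) contains a cyclic subgroup of order q⁸ + q⁷ − q⁵ − q⁴ − q³ + q + 1 which is its own centralizer. -/
theorem result {F : Type*} [Field F] [Fintype F] (q : ℕ) (hF : Fintype.card F = q) :
    ∃ H : Subgroup ↥(Cfsg.Lie.chevE8.group F), IsCyclic ↥H ∧ Nat.card ↥H = q ^ 8 + q ^ 7 - q ^ 5 - q ^ 4 - q ^ 3 + q + 1 ∧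
      Subgroup.centralizer (H : Set ↥(Cfsg.Lie.chevE8.group F)) = H := by
  subst hF
  set q := Fintype.card F with hq
  have hq2 : 2 ≤ q := Fintype.one_lt_card
  set P : ℤ := (q : ℤ) ^ 8 + (q : ℤ) ^ 7 - (q : ℤ) ^ 5 - (q : ℤ) ^ 4 - (q : ℤ) ^ 3 + (q : ℤ) + 1 with hP
  have hq2' : (2 : ℤ) ≤ (q : ℤ) := by exact_mod_cast hq2
  have hev : (Polynomial.cyclotomic 30 ℤ).eval (q : ℤ) = P := by
    have h := congrArg (Polynomial.eval (q : ℤ))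
      (Polynomial.cyclotomic_expand_eq_cyclotomic_mul (p := 5) (n := 6) (by norm_num) (by norm_num) ℤ)
    rw [Polynomial.expand_eval, Polynomial.cyclotomic_six, Polynomial.eval_mul] at h
    simp only [Polynomial.eval_add, Polynomial.eval_sub, Polynomial.eval_pow, Polynomial.eval_X, Polynomial.eval_one] at h
    have hne : (q : ℤ) ^ 2 - (q : ℤ) + 1 ≠ 0 := by nlinarith
    refine mul_right_cancel₀ hne (h.symm.trans ?_)
    rw [hP]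
    ring
  have hle : q ^ 5 + q ^ 4 + q ^ 3 ≤ q ^ 8 + q ^ 7 := by
    have h1 : q ^ 5 + q ^ 4 ≤ q ^ 7 := by
      calc q ^ 5 + q ^ 4 ≤ q ^ 5 + q ^ 5 := by gcongr <;> omega
        _ = 2 * q ^ 5 := by ring
        _ ≤ q ^ 2 * q ^ 5 := by gcongr; nlinarith
        _ = q ^ 7 := by ring
    have : q ^ 3 ≤ q ^ 8 := Nat.pow_le_pow_right (by omega) (by norm_num)
    omega
  have hN : ((Polynomial.cyclotomic 30 ℤ).eval (q : ℤ)).natAbs = q ^ 8 + q ^ 7 - q ^ 5 - q ^ 4 - q ^ 3 + q + 1 := by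
    have hcast : ((q ^ 8 + q ^ 7 - q ^ 5 - q ^ 4 - q ^ 3 + q + 1 : ℕ) : ℤ) = P := by
      rw [hP, show q ^ 8 + q ^ 7 - q ^ 5 - q ^ 4 - q ^ 3 = q ^ 8 + q ^ 7 - (q ^ 5 + q ^ 4 + q ^ 3) by omega]
      push_cast [Nat.cast_sub hle]
      ring
    rw [hev, ← hcast, Int.natAbs_natCast]
  obtain ⟨r, hr, hrN⟩ := Nat.exists_prime_and_dvd (show ((Polynomial.cyclotomic 30 ℤ).eval (q : ℤ)).natAbs ≠ 1 by
    rw [hN]; omega)
  haveI : Fact r.Prime := ⟨hr⟩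
  have hsmall : ∀ l : ℕ, l = 2 ∨ l = 3 ∨ l = 5 ∨ l = 7 →
      ¬ l ∣ ((Polynomial.cyclotomic 30 ℤ).eval (q : ℤ)).natAbs := by
    intro l hl h
    rw [hev, ← Int.natCast_dvd, ← ZMod.intCast_zmod_eq_zero_iff_dvd, hP] at h
    push_cast at h
    rcases hl with rfl | rfl | rfl | rfl
    · exact (by decide : ∀ x : ZMod 2, x ^ 8 + x ^ 7 - x ^ 5 - x ^ 4 - x ^ 3 + x + 1 ≠ 0) _ h
    · exact (by decide : ∀ x : ZMod 3, x ^ 8 + x ^ 7 - x ^ 5 - x ^ 4 - x ^ 3 + x + 1 ≠ 0) _ h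
    · exact (by decide : ∀ x : ZMod 5, x ^ 8 + x ^ 7 - x ^ 5 - x ^ 4 - x ^ 3 + x + 1 ≠ 0) _ h
    · exact (by decide : ∀ x : ZMod 7, x ^ 8 + x ^ 7 - x ^ 5 - x ^ 4 - x ^ 3 + x + 1 ≠ 0) _ h
  have hdiv : ∀ l : ℕ, l.Prime → l ∣ 2 ^ 14 * (3 ^ 5 * (5 ^ 2 * 7)) →
      ¬ l ∣ ((Polynomial.cyclotomic 30 ℤ).eval (q : ℤ)).natAbs := by
    intro l hl h
    refine hsmall l ?_
    rcases (Nat.Prime.dvd_mul hl).1 h with h | h
    · exact Or.inl ((Nat.prime_dvd_prime_iff_eq hl Nat.prime_two).1 (hl.dvd_of_dvd_pow h))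
    rcases (Nat.Prime.dvd_mul hl).1 h with h | h
    · exact Or.inr (Or.inl ((Nat.prime_dvd_prime_iff_eq hl Nat.prime_three).1 (hl.dvd_of_dvd_pow h)))
    rcases (Nat.Prime.dvd_mul hl).1 h with h | h
    · exact Or.inr (Or.inr (Or.inl ((Nat.prime_dvd_prime_iff_eq hl Nat.prime_five).1 (hl.dvd_of_dvd_pow h))))
    · exact Or.inr (Or.inr (Or.inr ((Nat.prime_dvd_prime_iff_eq hl (by norm_num)).1 h)))
  have h30 : (30 : ℕ) ∣ 2 ^ 14 * (3 ^ 5 * (5 ^ 2 * 7)) := by norm_num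
  obtain ⟨H, h1, h2, h3⟩ := Cfsg.Agent.Lib.H59.Homocyclic.selfCentralizing (F := F)
    ⟨Cfsg.Agent.Lib.Chev.checked_E8, Cfsg.Agent.Lib.Chev.descent_E8⟩
    Cfsg.Agent.Lib.Chev.E8.smith_ok Cfsg.Agent.Lib.Chev.E8.chain_ok Cfsg.Agent.Lib.Chev.E8.poly_ok
    (by decide +kernel) (by decide +kernel) (by decide +kernel) 30 (by norm_num) (by decide +kernel)
    (by decide +kernel) r (by rw [← hq]; exact hrN)
    (fun h => hdiv r hr (h.trans h30) hrN)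
    (fun h => hdiv r hr (h.trans (by decide +kernel)) hrN)
    (fun l hl hl30 hl2 => hdiv l hl (hl30.trans h30) ((dvd_pow_self l two_ne_zero).trans (by rwa [← hq] at hl2)))
  exact ⟨H, h1, by rw [h2, ← hq, hN], h3⟩

end Cfsg.Agent.S2375
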