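import Cfsg.Statements.S2378
import Cfsg.Agent.Lib.H59.Homocyclic.Main
import Cfsg.Agent.Lib.Chev.PoincareG2
import Cfsg.Agent.Lib.Chev.PoincareB2
import Cfsg.Agent.Lib.Chev.PoincareD4
import Cfsg.Agent.Lib.Chev.PoincareF4
import Cfsg.Agent.Lib.Chev.PoincareE6
import Cfsg.Agent.Lib.Chev.PoincareE7
import Cfsg.Agent.Lib.Chev.PoincareE8

set_option autoImplicit false
open Cfsg

namespace Cfsg.Agent.S2378

open Cfsg.Agent.Lib.Chev in
theorem of_cert {F : Type*} [Field F] [Fintype F] {D : Cfsg.Lie.ChevalleyDatum} {C : Cert} (hh : Rooted D C)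
    {ds sd : List ℕ} {os : List OrbitCert} (hs : SmithOK D C sd) (hc : chkChain D C (List.range D.rank) os = true)
    (hp : chkPoly D C os ds = true) (hl : ds.length = D.rank) (hW : (os.map fun o => o.orbit.length).prod = ds.prod)
    (h2 : 2 ∣ ds.prod) (hd : ∀ i < D.rank, sd.getD i 0 ∣ ds.prod) {q : ℕ} (hq : Fintype.card F = q)
    (r : ℕ) [Fact r.Prime] (hrq : ¬ r ∣ q) (hrW : ¬ r ∣ ds.prod) (hrG : r ∣ Nat.card ↥(D.group F))
    (P : Sylow r ↥(D.group F)) :
    Nonempty (↥(P : Subgroup ↥(D.group F)) ≃*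
      (Fin (ds.filter (fun e => orderOf (q : ZMod r) ∣ e)).length →
        Multiplicative (ZMod (r ^ padicValNat r ((Polynomial.cyclotomic (orderOf (q : ZMod r)) ℤ).eval (q : ℤ)).natAbs)))) := by
  subst hq
  exact Cfsg.Agent.Lib.H59.Homocyclic.homocyclic hh hs hc hp hl hW r (fun e => hrW (e ▸ h2))
    (fun i hi h => hrW (h.trans (hd i hi))) hrW hrq hrG P

/-- Sylow subgroups for primes away from the characteristic and the Weyl group. Let `G` be the Chevalley group of type G₂, B₂, D₄, F₄, E₆, E₇ or E₈ over a field with `q` elements, with the degrees of its Weyl group listed beside the type (their product is the order of the Weyl group), and let `r` be a prime dividing the order of `G`, not dividing `q` and not dividing the order of the Weyl group. Let `d` be the multiplicative order of `q` modulo `r`, `a` the number of degrees divisible by `d`, and `m` the `r`-part of the value at `q` of the `d`-th cyclotomic polynomial. Then every Sylow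 `r`-subgroup of `G` is homocyclic: a direct product of `a` cyclic groups of order `m` (in particular abelian). -/
theorem result {F : Type*} [Field F] [Fintype F] {q : ℕ} (hq : Fintype.card F = q)
    (c : Cfsg.Lie.ChevalleyDatum × List ℕ)
    (hc : c ∈ [(Cfsg.Lie.chevG2, [2, 6]), (Cfsg.Lie.chevB2, [2, 4]), (Cfsg.Lie.chevD4, [2, 4, 4, 6]), (Cfsg.Lie.chevF4, [2, 6, 8, 12]),
      (Cfsg.Lie.chevE6, [2, 5, 6, 8, 9, 12]), (Cfsg.Lie.chevE7, [2, 6, 8, 10, 12, 14, 18]), (Cfsg.Lie.chevE8, [2, 8, 12, 14, 18, 20, 24, 30])])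
    (r : ℕ) [Fact r.Prime] (hrq : ¬ r ∣ q) (hrW : ¬ r ∣ c.2.prod) (hrG : r ∣ Nat.card ↥(c.1.group F)) (P : Sylow r ↥(c.1.group F)) :
    Nonempty (↥(P : Subgroup ↥(c.1.group F)) ≃*
      (Fin (c.2.filter (fun e => orderOf (q : ZMod r) ∣ e)).length →
        Multiplicative (ZMod (r ^ padicValNat r ((Polynomial.cyclotomic (orderOf (q : ZMod r)) ℤ).eval (q : ℤ)).natAbs)))) := by
  simp only [List.mem_cons, List.not_mem_nil, or_false] at hc
  rcases hc with rfl | rfl | rfl | rfl | rfl | rfl | rfl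
  · exact of_cert ⟨Cfsg.Agent.Lib.Chev.checked_G2, Cfsg.Agent.Lib.Chev.descent_G2⟩
      Cfsg.Agent.Lib.Chev.G2.smith_ok Cfsg.Agent.Lib.Chev.G2.chain_ok Cfsg.Agent.Lib.Chev.G2.poly_ok
      (by decide +kernel) (by decide +kernel) (by decide +kernel) (by decide +kernel) hq r hrq hrW hrG P
  · exact of_cert ⟨Cfsg.Agent.Lib.Chev.checked_B2, Cfsg.Agent.Lib.Chev.descent_B2⟩
      Cfsg.Agent.Lib.Chev.B2.smith_ok Cfsg.Agent.Lib.Chev.B2.chain_ok Cfsg.Agent.Lib.Chev.B2.poly_ok
      (by decide +kernel) (by decide +kernel) (by decide +kernel) (by decide +kernel) hq r hrq hrW hrG P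
  · exact of_cert ⟨Cfsg.Agent.Lib.Chev.checked_D4, Cfsg.Agent.Lib.Chev.descent_D4⟩
      Cfsg.Agent.Lib.Chev.D4.smith_ok Cfsg.Agent.Lib.Chev.D4.chain_ok Cfsg.Agent.Lib.Chev.D4.poly_ok
      (by decide +kernel) (by decide +kernel) (by decide +kernel) (by decide +kernel) hq r hrq hrW hrG P
  · exact of_cert ⟨Cfsg.Agent.Lib.Chev.checked_F4, Cfsg.Agent.Lib.Chev.descent_F4⟩
      Cfsg.Agent.Lib.Chev.F4.smith_ok Cfsg.Agent.Lib.Chev.F4.chain_ok Cfsg.Agent.Lib.Chev.F4.poly_ok
      (by decide +kernel) (by decide +kernel) (by decide +kernel) (by decide +kernel) hq r hrq hrW hrG P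
  · exact of_cert ⟨Cfsg.Agent.Lib.Chev.checked_E6, Cfsg.Agent.Lib.Chev.descent_E6⟩
      Cfsg.Agent.Lib.Chev.E6.smith_ok Cfsg.Agent.Lib.Chev.E6.chain_ok Cfsg.Agent.Lib.Chev.E6.poly_ok
      (by decide +kernel) (by decide +kernel) (by decide +kernel) (by decide +kernel) hq r hrq hrW hrG P
  · exact of_cert ⟨Cfsg.Agent.Lib.Chev.checked_E7, Cfsg.Agent.Lib.Chev.descent_E7⟩
      Cfsg.Agent.Lib.Chev.E7.smith_ok Cfsg.Agent.Lib.Chev.E7.chain_ok Cfsg.Agent.Lib.Chev.E7.poly_ok
      (by decide +kernel) (by decide +kernel) (by decide +kernel) (by decide +kernel) hq r hrq hrW hrG P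
  · exact of_cert ⟨Cfsg.Agent.Lib.Chev.checked_E8, Cfsg.Agent.Lib.Chev.descent_E8⟩
      Cfsg.Agent.Lib.Chev.E8.smith_ok Cfsg.Agent.Lib.Chev.E8.chain_ok Cfsg.Agent.Lib.Chev.E8.poly_ok
      (by decide +kernel) (by decide +kernel) (by decide +kernel) (by decide +kernel) hq r hrq hrW hrG P

end Cfsg.Agent.S2378
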