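import Cfsg.Statements.S2379
import Cfsg.Agent.Lib.CrossChar.TorusSylow
import Mathlib

set_option autoImplicit false
open Cfsg

namespace Cfsg.Agent.S2379

open Cfsg.Agent.Lib.CrossChar Matrix

theorem card_filter_Icc_two {d n : ℕ} (hd : d ≠ 1) :
    ((Finset.Icc 2 n).filter (fun i => d ∣ i)).card = n / d := by
  rw [← Nat.Ioc_filter_dvd_card_eq_div n d]
  congr 1
  ext i
  simp only [Finset.mem_filter, Finset.mem_Icc, Finset.mem_Ioc]
  constructor
  · rintro ⟨⟨h1, h2⟩, h3⟩
    exact ⟨⟨by omega, h2⟩, h3⟩
  · rintro ⟨⟨h1, h2⟩, h3⟩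
    refine ⟨⟨?_, h2⟩, h3⟩
    by_contra h
    obtain rfl : i = 1 := by omega
    exact hd (Nat.dvd_one.1 h3)

theorem diag_hom {F : Type*} [Field F] {A : Type*} [CommGroup A] {k : ℕ} (f : A →* Fˣ)
    (hf : Function.Injective f) :
    ∃ g : (Fin k → A) →* Matrix.SpecialLinearGroup (Fin (k + 1)) F, Function.Injective g := by
  let D : (Fin k → A) → Fin (k + 1) → F := fun x =>
    Fin.snoc (fun i => ((f (x i) : Fˣ) : F)) (((∏ i, f (x i))⁻¹ : Fˣ) : F)
  have hD1 : ∀ x i, D x (Fin.castSucc i) = ((f (x i) : Fˣ) : F) := fun x i => by simp [D]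
  have hD2 : ∀ x, D x (Fin.last k) = (((∏ i, f (x i))⁻¹ : Fˣ) : F) := fun x => by simp [D]
  refine ⟨{ toFun := fun x => ⟨diagonal (D x), ?_⟩, map_one' := ?_, map_mul' := fun x y => ?_ }, fun x y h => ?_⟩
  · rw [det_diagonal, Fin.prod_univ_castSucc]
    simp only [hD1, hD2]
    rw [← Units.coe_prod, ← Units.val_mul, mul_inv_cancel, Units.val_one]
  · refine Subtype.ext ?_
    show diagonal (D 1) = 1
    rw [← diagonal_one]
    refine congrArg _ (funext fun i => ?_)
    refine Fin.lastCases ?_ (fun j => ?_) i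
    · simp [hD2]
    · simp [hD1]
  · refine Subtype.ext ?_
    show diagonal (D (x * y)) = diagonal (D x) * diagonal (D y)
    rw [diagonal_mul_diagonal]
    refine congrArg _ (funext fun i => ?_)
    refine Fin.lastCases ?_ (fun j => ?_) i
    · simp [hD2, Finset.prod_mul_distrib, mul_comm]
    · simp [hD1]
  · funext i
    refine hf (Units.ext ?_)
    rw [← hD1, ← hD1]
    exact congrFun (diagonal_injective (congrArg Subtype.val h)) _

/-- Sylow subgroups of `SL_n(q)` for large primes. Let `F` be a field with `q` elements and `r` a prime with `r > n` and `r ∤ q` (so `r` does not divide the order `n!` of the Weyl group). Let `d` be the multiplicative order of `q` modulo `r`, `a` the number of integers `i` with `2 ≤ i ≤ n` divisible by `d` (the degrees of the Weyl group are `2, …, n`), and `m` the `r`-part of the value at `q` of the `d`-th cyclotomic polynomial. Then every Sylow `r`-subgroup of `SL_n(q)` is a direct product of `a` cyclic groups of order `m`. -/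
theorem result {F : Type*} [Field F] [Fintype F] {q : ℕ} (hq : Fintype.card F = q) (n : ℕ)
    (r : ℕ) [Fact r.Prime] (hrn : n < r) (hrq : ¬ r ∣ q) (P : Sylow r (Matrix.SpecialLinearGroup (Fin n) F)) :
    Nonempty (↥(P : Subgroup (Matrix.SpecialLinearGroup (Fin n) F)) ≃*
      (Fin ((Finset.Icc 2 n).filter (fun i => orderOf (q : ZMod r) ∣ i)).card →
        Multiplicative (ZMod (r ^ padicValNat r ((Polynomial.cyclotomic (orderOf (q : ZMod r)) ℤ).eval (q : ℤ)).natAbs)))) := by
  classical
  have hq2 : 2 ≤ q := hq ▸ Fintype.one_lt_card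
  obtain ⟨hd, -⟩ := orderOf_pos_dvd (r := r) hrq
  have hr := (Fact.out : r.Prime)
  rw [← rExp_eq_padicValNat Fact.out]
  have hcA : ∀ a : ℕ, Nat.card (Fin a → Multiplicative (ZMod (r ^ rExp r q))) = r ^ (a * rExp r q) := fun a => by
    rw [Nat.card_fun, Nat.card_eq_fintype_card (α := Fin _), Fintype.card_fin,
      Nat.card_congr Multiplicative.toAdd, Nat.card_zmod, ← pow_mul, mul_comm]
  rcases n with _ | k
  · refine sylow_equiv_of_injective 1 ?_ ?_ P
    · intro x y _
      exact funext fun i => absurd i.isLt (by simp)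
    · rw [hcA]
      rw [Nat.card_unique (α := Matrix.SpecialLinearGroup (Fin 0) F)]
      simp
  have hGL := factorization_card_GL (F := F) hq hrn hrq
  rw [← Lib.LinGroup.units_card_mul_card_SL, Nat.factorization_mul Nat.card_pos.ne' Nat.card_pos.ne',
    Finsupp.add_apply, Nat.card_units, Nat.card_eq_fintype_card, hq] at hGL
  by_cases hd1 : orderOf (q : ZMod r) = 1
  · have hv : (q - 1).factorization r = rExp r q := by
      have := factorization_pow_order_sub_one (r := r) hq2 hrq
      rwa [hd1, pow_one] at this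
    rw [hd1, Nat.div_one, hv] at hGL
    obtain ⟨f0, hf0⟩ := exists_hom_zmod (C := Fˣ) (m := r ^ rExp r q) (by
      rw [Nat.card_units, Nat.card_eq_fintype_card, hq, ← hv]
      exact Nat.ordProj_dvd _ _)
    obtain ⟨g, hg⟩ := diag_hom (k := k) f0 hf0
    rw [hd1, Finset.filter_true_of_mem (fun i _ => one_dvd i), Nat.card_Icc, show k + 1 + 1 - 2 = k by omega]
    refine sylow_equiv_of_injective g hg ?_ P
    rw [hcA]
    congr 1
    rw [add_mul, one_mul] at hGL
    omega
  · rw [card_filter_Icc_two hd1]
    have hr1 : ¬ r ∣ q - 1 := fun h => by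
      have := (Lib.PPD.dvd_pow_sub_one_iff_orderOf_dvd (r := r) (by omega : 1 ≤ q) 1).1 (by rwa [pow_one])
      exact hd1 (Nat.dvd_one.1 this)
    rw [Nat.factorization_eq_zero_of_not_dvd hr1, zero_add] at hGL
    obtain ⟨f, hf⟩ := exists_torus_hom (r := r) (n := k + 1) hq hrq
    have hdet : ∀ x, Matrix.GeneralLinearGroup.det (f x) = 1 := fun x => by
      have h1 : x ^ (r ^ rExp r q) = 1 := funext fun i => by
        have := pow_card_eq_one' (x := x i)
        rwa [Nat.card_congr Multiplicative.toAdd, Nat.card_zmod] at this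
      have h2 : orderOf (Matrix.GeneralLinearGroup.det (f x)) ∣ r ^ rExp r q := by
        rw [orderOf_dvd_iff_pow_eq_one, ← map_pow, ← map_pow, h1, map_one, map_one]
      have h3 : orderOf (Matrix.GeneralLinearGroup.det (f x)) ∣ q - 1 := by
        have := orderOf_dvd_natCard (Matrix.GeneralLinearGroup.det (f x))
        rwa [Nat.card_units, Nat.card_eq_fintype_card, hq] at this
      exact orderOf_eq_one_iff.1 (Nat.eq_one_of_dvd_coprimes
        ((Nat.Coprime.pow_left _ (hr.coprime_iff_not_dvd.2 hr1))) h2 h3)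
    let g : _ →* Matrix.SpecialLinearGroup (Fin (k + 1)) F :=
      { toFun := fun x => ⟨(f x : Matrix (Fin (k + 1)) (Fin (k + 1)) F), by
          have := congrArg Units.val (hdet x)
          rwa [Matrix.GeneralLinearGroup.val_det_apply] at this⟩
        map_one' := Subtype.ext (by simp)
        map_mul' := fun x y => Subtype.ext (by simp; rfl) }
    refine sylow_equiv_of_injective g (fun x y h => hf (Units.ext (congrArg Subtype.val h :))) ?_ P
    rw [hcA, hGL]

end Cfsg.Agent.S2379
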