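import Cfsg.Statements.S2383
import Cfsg.Agent.Lib.RegularCount.Types

set_option autoImplicit false
open Cfsg

namespace Cfsg.Agent.S2383

/-- Steinberg's count of semisimple classes in characteristic 2 for the types B₂, D₄, E₇, where the finite simply connected group has trivial centre and so coincides with the Chevalley group: for the Chevalley group of type B₂, D₄ or E₇ over a field with `q` elements of characteristic 2, the conjugacy classes of elements of odd order number exactly `q^l`, `l` the rank. -/
theorem result {F : Type*} [Field F] [Fintype F] {q : ℕ} (hq : Fintype.card F = q) [CharP F 2]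
    (D : Cfsg.Lie.ChevalleyDatum) (hD : D ∈ [Cfsg.Lie.chevB2, Cfsg.Lie.chevD4, Cfsg.Lie.chevE7]) :
    Nat.card {c : ConjClasses ↥(D.group F) // ∃ g : ↥(D.group F), ConjClasses.mk g = c ∧ Odd (orderOf g)} = q ^ D.rank := by
  subst hq
  haveI : Fact (Nat.Prime 2) := ⟨Nat.prime_two⟩
  simp only [← Nat.coprime_two_right]
  simp only [List.mem_cons, List.not_mem_nil, or_false] at hD
  rcases hD with rfl | rfl | rfl
  · exact Lib.RegularCount.card_coprime_classes ⟨Lib.Chev.checked_B2, Lib.Chev.descent_B2⟩ 2
      Lib.RegularCount.inv_B2 Lib.RegularCount.gcd_two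
  · exact Lib.RegularCount.card_coprime_classes ⟨Lib.Chev.checked_D4, Lib.Chev.descent_D4⟩ 2
      Lib.RegularCount.inv_D4 Lib.RegularCount.gcd_two
  · exact Lib.RegularCount.card_coprime_classes ⟨Lib.Chev.checked_E7, Lib.Chev.descent_E7⟩ 2
      Lib.RegularCount.inv_E7 Lib.RegularCount.gcd_two

end Cfsg.Agent.S2383
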