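import Cfsg.Statements.S2388
import Cfsg.Agent.Lib.Semisimple.Classes
import Mathlib

set_option autoImplicit false
open Cfsg

namespace Cfsg.Agent.S2388

open Matrix Cfsg.Agent.Lib.Semisimple

theorem isConj_SL {F : Type*} [Field F] [Fintype F] (p : ℕ) [Fact p.Prime] [CharP F p] (n : ℕ)
    (g h : Matrix.SpecialLinearGroup (Fin n) F) (hg : (orderOf g).Coprime p) (hh : (orderOf h).Coprime p)
    (hc : (g : Matrix (Fin n) (Fin n) F).charpoly = (h : Matrix (Fin n) (Fin n) F).charpoly) : IsConj g h := by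
  rcases Nat.eq_zero_or_pos n with rfl | hn
  · rw [Subsingleton.elim g h]
  have hg1 : g.1 ^ orderOf g = 1 := by
    rw [← Matrix.SpecialLinearGroup.coe_pow, pow_orderOf_eq_one, Matrix.SpecialLinearGroup.coe_one]
  have hh1 : h.1 ^ orderOf h = 1 := by
    rw [← Matrix.SpecialLinearGroup.coe_pow, pow_orderOf_eq_one, Matrix.SpecialLinearGroup.coe_one]
  obtain ⟨P, hP⟩ := isConj_of_charpoly_coprime g.1 h.1 hg hg1 hh hh1 hc
  obtain ⟨D, hD, hDd⟩ := exists_commute_det hn g.1 hg hg1 (Matrix.GeneralLinearGroup.det P)⁻¹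
  let Q : Matrix.SpecialLinearGroup (Fin n) F := ⟨P.val * D, by
    rw [Matrix.det_mul, hDd]
    exact Units.mul_inv (Matrix.GeneralLinearGroup.det P)⟩
  refine isConj_iff.2 ⟨Q, ?_⟩
  rw [mul_inv_eq_iff_eq_mul]
  refine Subtype.ext ?_
  show P.val * D * g.1 = h.1 * (P.val * D)
  rw [mul_assoc, hD.eq, ← mul_assoc, hP.eq, mul_assoc]

/-- In `SL_n(q)`, `q` a power of the prime `p`, two elements of order prime to `p` with the same characteristic polynomial are conjugate in `SL_n(q)` (not merely in `GL_n`). -/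
theorem result {F : Type*} [Field F] [Fintype F] (p : ℕ) [Fact p.Prime] [CharP F p] (n : ℕ)
    (g h : Matrix.SpecialLinearGroup (Fin n) F) (hg : (orderOf g).Coprime p) (hh : (orderOf h).Coprime p)
    (hc : (g : Matrix (Fin n) (Fin n) F).charpoly = (h : Matrix (Fin n) (Fin n) F).charpoly) : IsConj g h := by
  exact isConj_SL p n g h hg hh hc

end Cfsg.Agent.S2388
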