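import Cfsg.Statements.S2384
import Cfsg.Agent.Lib.Semisimple.Classes
import Cfsg.Agent.S2388
import Mathlib

set_option autoImplicit false
open Cfsg

namespace Cfsg.Agent.S2384

open Matrix Cfsg.Agent.Lib.Semisimple

/-- In `SL_n(q)`, `q` a power of the prime `p`, the number of conjugacy classes of elements of order prime to `p` (the semisimple classes) is `q^(n-1)`. -/
theorem result {F : Type*} [Field F] [Fintype F] {q : ℕ} (hq : Fintype.card F = q) (p : ℕ) [Fact p.Prime] [CharP F p] (n : ℕ) (hn : 1 ≤ n) :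
    Nat.card {c : ConjClasses (Matrix.SpecialLinearGroup (Fin n) F) //
      ∃ g : Matrix.SpecialLinearGroup (Fin n) F, ConjClasses.mk g = c ∧ (orderOf g).Coprime p} = q ^ (n - 1) := by
  classical
  have key := card_classes (p := p)
    ((Units.coeHom (Matrix (Fin n) (Fin n) F)).comp
      (Matrix.SpecialLinearGroup.toGL : Matrix.SpecialLinearGroup (Fin n) F →* GL (Fin n) F))
    (fun v => v ⟨0, hn⟩ = (-1) ^ n)
    (fun g h hg hh hc => Cfsg.Agent.S2388.isConj_SL p n g h hg hh hc)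
    (fun g _ => ?_) (fun v hv => ?_)
  · rw [key, card_first_constrained hn (fun c => c = (-1) ^ n), hq]
    haveI : Unique {c : F // c = (-1) ^ n} := ⟨⟨⟨_, rfl⟩⟩, fun x => Subtype.ext x.2⟩
    rw [Nat.card_unique, one_mul]
  · have h1 := Matrix.det_eq_sign_charpoly_coeff g.1
    rw [g.2, Fintype.card_fin] at h1
    show g.1.charpoly.coeff 0 = (-1 : F) ^ n
    calc g.1.charpoly.coeff 0 = ((-1 : F) ^ n * (-1) ^ n) * g.1.charpoly.coeff 0 := by
          rw [← mul_pow, neg_one_mul, neg_neg, one_pow, one_mul]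
      _ = (-1) ^ n := by rw [mul_assoc, ← h1, mul_one]
  · have hne : v ⟨0, hn⟩ ≠ 0 := by rw [hv]; exact pow_ne_zero _ (neg_ne_zero.2 one_ne_zero)
    obtain ⟨A, hA, hdet, o, ho, hAo⟩ := model_coeffVec (p := p) hn v hne
    rw [hv, ← mul_pow, neg_one_mul, neg_neg, one_pow] at hdet
    refine ⟨⟨A, hdet⟩, ho.coprime_dvd_left (orderOf_dvd_of_pow_eq_one (Subtype.ext ?_)), hA⟩
    exact (Matrix.SpecialLinearGroup.coe_pow (⟨A, hdet⟩ : Matrix.SpecialLinearGroup (Fin n) F) o).trans hAo

end Cfsg.Agent.S2384
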