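import Cfsg.Statements.S2386
import Cfsg.Agent.Lib.Semisimple.SUBasics
import Cfsg.Agent.Lib.Semisimple.UnitaryModel
import Cfsg.Agent.Lib.Semisimple.Classes
import Mathlib

set_option autoImplicit false
open Cfsg

namespace Cfsg.Agent.S2386

open Cfsg.Agent.Lib.Semisimple Polynomial

/-- The fixed points of a semilinear involution of `F ^ k` form half of it. -/
theorem sq_card_fixed {F : Type*} [Field F] (σ : F →+* F) (hσ : ∀ x, σ (σ x) = x) (hne : ∃ x, σ x ≠ x) {k : ℕ}
    [Fintype F] (ι : (Fin k → F) → Fin k → F) (hinv : ∀ w, ι (ι w) = w)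
    (hlin : ∀ c v w, ι (v + c • w) = ι v + σ c • ι w) :
    Nat.card {w // ι w = w} ^ 2 = Fintype.card F ^ k := by
  obtain ⟨θ, hθ⟩ := hne
  have h0 : θ - σ θ ≠ 0 := sub_ne_zero.2 (Ne.symm hθ)
  have hι0 : ι 0 = 0 := by
    have h := hlin 1 0 0
    rw [map_one, one_smul, one_smul, add_zero] at h
    exact left_eq_add.1 h
  have hadd : ∀ v w, ι (v + w) = ι v + ι w := fun v w => by simpa using hlin 1 v w
  have hsmul : ∀ c w, ι (c • w) = σ c • ι w := fun c w => by simpa [hι0] using hlin c 0 w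
  have hsub : ∀ v w, ι (v - w) = ι v - ι w := fun v w => eq_sub_of_add_eq (by rw [← hadd, sub_add_cancel])
  let e : {w // ι w = w} × {w // ι w = w} ≃ (Fin k → F) :=
    Equiv.ofBijective (fun ab => ab.1.1 + θ • ab.2.1) ⟨by
      rintro ⟨⟨a, ha⟩, ⟨b, hb⟩⟩ ⟨⟨a', ha'⟩, ⟨b', hb'⟩⟩ h
      change a + θ • b = a' + θ • b' at h
      have h2 := congrArg ι h
      rw [hlin, hlin, ha, hb, ha', hb'] at h2
      have h3 : (θ - σ θ) • (b - b') = 0 := by
        have e1 : (θ - σ θ) • (b - b') = ((a + θ • b) - (a + σ θ • b)) - ((a' + θ • b') - (a' + σ θ • b')) := by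
          module
        rw [e1, h, h2, sub_self]
      obtain rfl : b = b' := sub_eq_zero.1 ((smul_eq_zero.1 h3).resolve_left h0)
      obtain rfl : a = a' := add_right_cancel h
      rfl, fun w => by
      have hs : σ (θ - σ θ) = -(θ - σ θ) := by rw [map_sub, hσ, neg_sub]
      set b := (θ - σ θ)⁻¹ • (w - ι w) with hb
      have hbf : ι b = b := by
        rw [hb, hsmul, map_inv₀, hs, hsub, hinv, inv_neg, neg_smul, ← smul_neg, neg_sub]
      refine ⟨(⟨w - θ • b, ?_⟩, ⟨b, hbf⟩), sub_add_cancel w _⟩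
      rw [hsub, hsmul, hbf]
      have e2 : (θ - σ θ) • b = w - ι w := by rw [hb, smul_smul, mul_inv_cancel₀ h0, one_smul]
      have e3 : ι w - σ θ • b - (w - θ • b) = (θ - σ θ) • b - (w - ι w) := by module
      rw [← sub_eq_zero, e3, e2, sub_self]⟩
  rw [pow_two, ← Nat.card_prod, Nat.card_congr e, Nat.card_fun, Nat.card_eq_fintype_card,
    Nat.card_eq_fintype_card (α := Fin k), Fintype.card_fin]

/-- In the special unitary group `SU_n(q)` (matrices of determinant one over the field with `q²` elements preserving the standard Hermitian form), `q` a power of the prime `p`, the number of conjugacy classes of elements of order prime to `p` is `q^(n-1)`. -/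
theorem result {F : Type*} [Field F] [Fintype F] {q : ℕ} (hF : Fintype.card F = q ^ 2) (p : ℕ) [Fact p.Prime] [CharP F p] (n : ℕ) (hn : 1 ≤ n) :
    Nat.card {c : ConjClasses ↥(Cfsg.SU n F q) // ∃ g : ↥(Cfsg.SU n F q), ConjClasses.mk g = c ∧ (orderOf g).Coprime p} = q ^ (n - 1) := by
  classical
  obtain ⟨m, rfl⟩ := Nat.exists_eq_add_of_le' hn
  set σ := qHom hF with hσdef
  have hσ : ∀ x, σ (σ x) = x := qHom_invol hF
  have hne : ∃ x, σ x ≠ x := qHom_nontrivial hF
  set e : F := (-1) ^ (m + 1) with he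
  have hσe : σ e = e := by rw [he, map_pow, map_neg, map_one]
  have he2 : e * e = 1 := by rw [he, ← mul_pow, neg_mul_neg, one_mul, one_pow]
  have he0 : e ≠ 0 := left_ne_zero_of_mul_eq_one he2
  let ι : (Fin m → F) → Fin m → F := fun w i => e * σ (w (Fin.rev i))
  let S : (Fin (m + 1) → F) → Prop := fun v => v 0 = e ∧ ι (Fin.tail v) = Fin.tail v
  have hdual : ∀ f : F[X], f.Monic → f.natDegree = m + 1 →
      (f.coeff 0 = e ∧ dual σ f = f ↔ S fun i => f.coeff i) := by
    intro f hf hdeg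
    constructor
    · rintro ⟨h0, hd⟩
      refine ⟨by simpa using h0, funext fun i => ?_⟩
      show e * σ (f.coeff ((Fin.rev i).succ : Fin (m + 1))) = f.coeff (i.succ : Fin (m + 1))
      conv_rhs => rw [← hd, dual_coeff σ _ (by rw [hdeg]; exact i.succ.isLt.le), h0, hσe, hdeg]
      rw [inv_eq_of_mul_eq_one_right he2]
      congr 3
      simp [Fin.val_rev]
      omega
    · rintro ⟨h0, ht⟩
      have h0' : f.coeff 0 = e := by simpa using h0
      refine ⟨h0', ?_⟩
      have hne0 : f.coeff 0 ≠ 0 := h0' ▸ he0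
      ext i
      rcases Nat.lt_or_ge (m + 1) i with hi | hi
      · rw [coeff_eq_zero_of_natDegree_lt (p := f) (by omega),
          coeff_eq_zero_of_natDegree_lt (p := dual σ f) (by rw [dual_natDegree σ hne0]; omega)]
      rw [dual_coeff σ i (hdeg ▸ hi), h0', hσe, inv_eq_of_mul_eq_one_right he2, hdeg]
      rcases Nat.eq_zero_or_pos i with rfl | hpos
      · rw [Nat.sub_zero, ← hdeg, hf.coeff_natDegree, map_one, mul_one, h0']
      rcases Nat.lt_or_ge i (m + 1) with hlt | hge
      · have h1 := congrFun ht ⟨i - 1, by omega⟩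
        change e * σ (f.coeff ((Fin.rev (⟨i - 1, by omega⟩ : Fin m)).succ : Fin (m + 1))) = f.coeff (i - 1 + 1) at h1
        rw [Fin.val_succ, Fin.val_rev] at h1
        simp only at h1
        rw [show i - 1 + 1 = i by omega] at h1
        rwa [show m + 1 - i = m - i + 1 by omega]
      · obtain rfl : i = m + 1 := by omega
        rw [Nat.sub_self, h0', hσe, he2, ← hdeg, hf.coeff_natDegree]
  have hdegc : ∀ A : Matrix (Fin (m + 1)) (Fin (m + 1)) F, A.charpoly.natDegree = m + 1 := fun A => by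
    rw [Matrix.charpoly_natDegree_eq_dim, Fintype.card_fin]
  have key := card_classes (p := p)
    ((Units.coeHom (Matrix (Fin (m + 1)) (Fin (m + 1)) F)).comp
      (Matrix.SpecialLinearGroup.toGL.comp (Cfsg.SU (m + 1) F q).subtype)) S
    (fun g h hg hh hc => ?_) (fun g _ => ?_) (fun v hv => ?_)
  · rw [key]
    have hcongr : {v : Fin (m + 1) → F // S v} ≃ {w : Fin m → F // ι w = w} :=
      { toFun := fun v => ⟨Fin.tail v.1, v.2.2⟩
        invFun := fun w => ⟨(Fin.cons e w.1 : Fin (m + 1) → F), by simp [S, w.2]⟩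
        left_inv := fun v => Subtype.ext (by
          show Fin.cons e (Fin.tail v.1) = v.1
          rw [← v.2.1, Fin.cons_self_tail])
        right_inv := fun w => Subtype.ext (by show Fin.tail (Fin.cons e w.1 : Fin (m + 1) → F) = w.1; simp) }
    rw [Nat.card_congr hcongr, Nat.add_sub_cancel]
    have h := sq_card_fixed σ hσ hne ι (fun w => funext fun i => by
        simp only [ι, map_mul, hσe, hσ, Fin.rev_rev, ← mul_assoc, he2, one_mul])
      (fun c v w => funext fun i => by
        simp only [ι, Pi.add_apply, Pi.smul_apply, smul_eq_mul, map_add, map_mul]; ring)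
    rw [hF, ← pow_mul, mul_comm 2 m, pow_mul] at h
    exact Nat.pow_left_injective two_ne_zero h
  · obtain ⟨U, hU, hUd, hUg⟩ := exists_special_unitary_conj (p := p) σ hσ hne
      ((mem_SU_iff hF _).1 g.2) ((mem_SU_iff hF _).1 h.2) hg (pow_orderOf_SU g) hh (pow_orderOf_SU h) hc
    refine isConj_iff.2 ⟨⟨⟨U, hUd⟩, (mem_SU_iff hF _).2 hU⟩, ?_⟩
    rw [mul_inv_eq_iff_eq_mul]
    exact Subtype.ext (Subtype.ext hUg)
  · set A : Matrix (Fin (m + 1)) (Fin (m + 1)) F := ((g : Matrix.SpecialLinearGroup (Fin (m + 1)) F) : Matrix (Fin (m + 1)) (Fin (m + 1)) F) with hA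
    obtain ⟨-, -, hd⟩ := dual_charpoly σ A ((mem_SU_iff hF _).1 g.2)
    refine (hdual A.charpoly A.charpoly_monic (hdegc A)).1 ⟨?_, hd⟩
    have h1 := Matrix.det_eq_sign_charpoly_coeff A
    rw [show A.det = 1 from (g : Matrix.SpecialLinearGroup (Fin (m + 1)) F).2, Fintype.card_fin, ← he] at h1
    linear_combination (-e) * h1 + (-(A.charpoly.coeff 0)) * he2
  · obtain ⟨hm1, hm2, hm3⟩ := monicOf_spec v
    have hv' : S fun i => (monicOf v).coeff i := by
      rw [show (fun i : Fin (m + 1) => (monicOf v).coeff i) = v from funext hm3]; exact hv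
    obtain ⟨h0, hd⟩ := (hdual _ hm1 hm2).2 hv'
    obtain ⟨A, hA, hAc, ⟨o, ho, hAo⟩, -⟩ := exists_unitary_model (p := p) σ hσ hne (monicOf v) hm2 hm1
      (h0 ▸ he0) hd
    have hdet : A.det = 1 := by
      rw [Matrix.det_eq_sign_charpoly_coeff, hAc, h0, Fintype.card_fin, ← he, he2]
    refine ⟨⟨⟨A, hdet⟩, (mem_SU_iff hF _).2 hA⟩, ho.coprime_dvd_left (orderOf_dvd_of_pow_eq_one
      (Subtype.ext (Subtype.ext ?_))), funext fun i => ?_⟩
    · rw [SubgroupClass.coe_pow, Matrix.SpecialLinearGroup.coe_pow]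
      exact hAo
    · show A.charpoly.coeff i = v i
      rw [hAc, hm3]

end Cfsg.Agent.S2386
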