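import Cfsg.Statements.S2387
import Cfsg.Agent.Lib.Semisimple.Classes
import Mathlib

set_option autoImplicit false
open Cfsg

namespace Cfsg.Agent.S2387

open Matrix Cfsg.Agent.Lib.Semisimple

/-- In `GL_n(q)` with `n ≥ 1`, `q` a power of the prime `p`, the number of conjugacy classes of elements of order prime to `p` (diagonalisable over the algebraic closure; determined by the characteristic polynomial) is `(q - 1) q^(n-1)`. -/
theorem result {F : Type*} [Field F] [Fintype F] {q : ℕ} (hq : Fintype.card F = q) (p : ℕ) [Fact p.Prime] [CharP F p] (n : ℕ) (hn : 1 ≤ n) :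
    Nat.card {c : ConjClasses (GL (Fin n) F) // ∃ g : GL (Fin n) F, ConjClasses.mk g = c ∧ (orderOf g).Coprime p} = (q - 1) * q ^ (n - 1) := by
  classical
  have hpow : ∀ g : GL (Fin n) F, g.val ^ orderOf g = 1 := fun g => by
    rw [← Units.val_pow_eq_pow_val, pow_orderOf_eq_one, Units.val_one]
  have key := card_classes (p := p) (Units.coeHom (Matrix (Fin n) (Fin n) F)) (fun v => v ⟨0, hn⟩ ≠ 0)
    (fun g h hg hh hc => ?_) (fun g _ => ?_) (fun v hv => ?_)
  · rw [key, card_first_constrained hn (fun c : F => c ≠ 0), hq]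
    congr 1
    rw [Nat.card_eq_fintype_card, Fintype.card_subtype_compl, Fintype.card_subtype_eq, hq]
  · obtain ⟨P, hP⟩ := isConj_of_charpoly_coprime g.val h.val hg (hpow g) hh (hpow h) hc
    refine isConj_iff.2 ⟨P, ?_⟩
    rw [mul_inv_eq_iff_eq_mul]
    exact Units.ext hP.eq
  · intro h0
    change g.val.charpoly.coeff 0 = 0 at h0
    have h1 := Matrix.det_eq_sign_charpoly_coeff g.val
    rw [h0, mul_zero] at h1
    exact ((Matrix.isUnit_iff_isUnit_det _).1 g.isUnit).ne_zero h1
  · obtain ⟨A, hA, -, o, ho, hAo⟩ := model_coeffVec (p := p) hn v hv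
    have ho0 : o ≠ 0 := fun h => by
      rw [h, Nat.coprime_zero_left] at ho
      exact (Fact.out (p := p.Prime)).ne_one ho
    refine ⟨Units.ofPowEqOne A o hAo ho0,
      ho.coprime_dvd_left (orderOf_dvd_of_pow_eq_one (Units.ext ?_)), hA⟩
    rw [Units.val_pow_eq_pow_val]
    exact hAo

end Cfsg.Agent.S2387
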