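import Cfsg.Statements.S2389
import Cfsg.Agent.Lib.Semisimple.SympConj
import Mathlib

set_option autoImplicit false
open Cfsg

namespace Cfsg.Agent.S2389

open Cfsg.Agent.Lib.Semisimple

theorem pow_orderOf_sp {F : Type*} [Field F] {n : ℕ} (g : ↥(Matrix.symplecticGroup (Fin n) F)) :
    (g : Matrix (Fin n ⊕ Fin n) (Fin n ⊕ Fin n) F) ^ orderOf g = 1 := by
  rw [← SubmonoidClass.coe_pow, pow_orderOf_eq_one]
  rfl

/-- In the symplectic group `Sp_{2n}(q)`, `q` a power of the prime `p`, two elements of order prime to `p` with the same characteristic polynomial are conjugate in `Sp_{2n}(q)`. -/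
theorem result {F : Type*} [Field F] [Fintype F] (p : ℕ) [Fact p.Prime] [CharP F p] (n : ℕ)
    (g h : ↥(Matrix.symplecticGroup (Fin n) F)) (hg : (orderOf g).Coprime p) (hh : (orderOf h).Coprime p)
    (hc : (g : Matrix (Fin n ⊕ Fin n) (Fin n ⊕ Fin n) F).charpoly = (h : Matrix (Fin n ⊕ Fin n) (Fin n ⊕ Fin n) F).charpoly) :
    IsConj g h := by
  obtain ⟨H, hH, hHg⟩ := exists_symplectic_conj (p := p) g.2 h.2 hg (pow_orderOf_sp g) hh (pow_orderOf_sp h) hc
  refine isConj_iff.2 ⟨⟨H, hH⟩, ?_⟩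
  rw [mul_inv_eq_iff_eq_mul]
  exact Subtype.ext hHg

end Cfsg.Agent.S2389
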