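import Cfsg.Statements.S2391
import Mathlib

set_option autoImplicit false
open Cfsg

namespace Cfsg.Agent.S2391

open Matrix

variable {F : Type*} [Field F] [Fintype F] {n : ℕ}

/-- Iterated fixed spaces of `U`. -/
def fixChain (U : Subgroup (Matrix.SpecialLinearGroup (Fin n) F)) : ℕ → Submodule F (Fin n → F)
  | 0 => ⊥
  | i + 1 => ⨅ u : U, (fixChain U i).comap (Matrix.mulVecLin ((u.1 : Matrix (Fin n) (Fin n) F) - 1))

variable (U : Subgroup (Matrix.SpecialLinearGroup (Fin n) F))

theorem mem_fixChain_succ (i : ℕ) (v : Fin n → F) :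
    v ∈ fixChain U (i + 1) ↔ ∀ u ∈ U, (u : Matrix (Fin n) (Fin n) F) *ᵥ v - v ∈ fixChain U i := by
  simp [fixChain, Matrix.sub_mulVec]

theorem fixChain_stable_of_mem (i : ℕ) : ∀ u ∈ U, ∀ v ∈ fixChain U i,
    (u : Matrix (Fin n) (Fin n) F) *ᵥ v ∈ fixChain U i := by
  induction i with
  | zero => intro u _ v hv; simp [fixChain] at hv ⊢; simp [hv]
  | succ i ih =>
    intro u hu v hv
    rw [mem_fixChain_succ] at hv ⊢
    intro u' hu'
    have h1 := hv _ (U.mul_mem hu' hu)
    have h2 := hv u hu
    rw [Matrix.mulVec_mulVec, ← Matrix.SpecialLinearGroup.coe_mul]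
    have : ((u' * u : Matrix.SpecialLinearGroup (Fin n) F) : Matrix (Fin n) (Fin n) F) *ᵥ v -
        (u : Matrix (Fin n) (Fin n) F) *ᵥ v =
      (((u' * u : Matrix.SpecialLinearGroup (Fin n) F) : Matrix (Fin n) (Fin n) F) *ᵥ v - v) -
        ((u : Matrix (Fin n) (Fin n) F) *ᵥ v - v) := by abel
    rw [this]
    exact Submodule.sub_mem _ h1 h2

theorem fixChain_le_succ (i : ℕ) : fixChain U i ≤ fixChain U (i + 1) := fun v hv =>
  (mem_fixChain_succ U i v).2 fun u hu => Submodule.sub_mem _ (fixChain_stable_of_mem U i u hu v hv) hv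

theorem fixChain_stable (i : ℕ) (g : Matrix.SpecialLinearGroup (Fin n) F)
    (hg : g ∈ Subgroup.normalizer (U : Set (Matrix.SpecialLinearGroup (Fin n) F))) :
    ∀ v ∈ fixChain U i, (g : Matrix (Fin n) (Fin n) F) *ᵥ v ∈ fixChain U i := by
  induction i generalizing g with
  | zero => intro v hv; simp [fixChain] at hv ⊢; simp [hv]
  | succ i ih =>
    intro v hv
    rw [mem_fixChain_succ] at hv ⊢
    intro u hu
    have hu' : g⁻¹ * u * g ∈ U := by
      have := (Subgroup.mem_normalizer_iff.1 (Subgroup.inv_mem _ hg) u).1 hu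
      simpa using this
    have h1 := ih g hg _ (hv _ hu')
    rw [Matrix.mulVec_sub, Matrix.mulVec_mulVec, ← Matrix.SpecialLinearGroup.coe_mul,
      show g * (g⁻¹ * u * g) = u * g by group, Matrix.SpecialLinearGroup.coe_mul, ← Matrix.mulVec_mulVec] at h1
    exact h1

theorem fixChain_map_eq (i : ℕ) (g : Matrix.SpecialLinearGroup (Fin n) F)
    (hg : g ∈ Subgroup.normalizer (U : Set (Matrix.SpecialLinearGroup (Fin n) F))) :
    (fixChain U i).map (Matrix.mulVecLin (g : Matrix (Fin n) (Fin n) F)) = fixChain U i := by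
  refine le_antisymm ?_ fun v hv => ?_
  · rintro _ ⟨v, hv, rfl⟩
    exact fixChain_stable U i g hg v hv
  · refine ⟨((g⁻¹ : Matrix.SpecialLinearGroup (Fin n) F) : Matrix (Fin n) (Fin n) F) *ᵥ v,
      fixChain_stable U i g⁻¹ (Subgroup.inv_mem _ hg) v hv, ?_⟩
    rw [Matrix.mulVecLin_apply, Matrix.mulVec_mulVec, ← Matrix.SpecialLinearGroup.coe_mul, mul_inv_cancel,
      Matrix.SpecialLinearGroup.coe_one, Matrix.one_mulVec]

theorem fixChain_lt (p : ℕ) [Fact p.Prime] [CharP F p] (hU : IsPGroup p ↥U) (i : ℕ)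
    (h : fixChain U i ≠ ⊤) : fixChain U i < fixChain U (i + 1) := by
  classical
  let W := fixChain U i
  refine lt_of_le_of_ne (fixChain_le_succ U i) fun heq => ?_
  letI act : MulAction ↥U ((Fin n → F) ⧸ W) :=
    { smul := fun u x => Submodule.mapQ W W (Matrix.mulVecLin (u.1 : Matrix (Fin n) (Fin n) F))
        (fun v hv => fixChain_stable_of_mem U i u.1 u.2 v hv) x
      one_smul := fun x => by
        induction x using Submodule.Quotient.induction_on with
        | _ v => show Submodule.Quotient.mk _ = _; simp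
      mul_smul := fun a b x => by
        induction x using Submodule.Quotient.induction_on with
        | _ v =>
          show Submodule.Quotient.mk (((a * b : ↥U) : Matrix.SpecialLinearGroup (Fin n) F).1 *ᵥ v) =
            Submodule.Quotient.mk (a.1.1 *ᵥ (b.1.1 *ᵥ v))
          rw [Matrix.mulVec_mulVec]
          rfl }
  haveI : Nontrivial ((Fin n → F) ⧸ W) := Submodule.Quotient.nontrivial_iff.2 h
  have hcard : p ∣ Nat.card ((Fin n → F) ⧸ W) := by
    obtain ⟨k, hp', hk⟩ := FiniteField.card F p
    rw [Module.natCard_eq_pow_finrank (K := F), Nat.card_eq_fintype_card, hk, ← pow_mul]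
    refine dvd_pow_self p (Nat.mul_ne_zero k.pos.ne' ?_)
    exact Module.finrank_pos.ne'
  have hfix := hU.exists_fixed_point_of_prime_dvd_card_of_fixed_point ((Fin n → F) ⧸ W) hcard
    (a := (0 : (Fin n → F) ⧸ W))
    (fun u => by
      show Submodule.mapQ W W (Matrix.mulVecLin (u.1 : Matrix (Fin n) (Fin n) F)) _ 0 = 0
      exact map_zero _)
  obtain ⟨x, hx, hne⟩ := hfix
  induction x using Submodule.Quotient.induction_on with
  | _ v =>
    refine hne ?_
    symm
    rw [Submodule.Quotient.mk_eq_zero]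
    show v ∈ fixChain U i
    rw [heq, mem_fixChain_succ]
    intro u hu
    have := hx ⟨u, hu⟩
    exact (Submodule.Quotient.eq W).1 this

/-- The Borel–Tits property of `SL_n(q)` in flag form: for a field `F` of characteristic `p` with finitely many elements and a non-trivial `p`-subgroup `U` of `SL_n(F)`, there is a flag `0 = V₀ < V₁ < ⋯ < V_{k+1} = F^n` with at least one proper non-zero member such that every element of the normaliser of `U` maps each `V_i` onto itself and every element of `U` acts trivially on each quotient `V_{i+1}/V_i` (so the normaliser lies in the parabolic subgroup of the flag and `U` in its unipotent radical). -/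
theorem result {F : Type*} [Field F] [Fintype F] (p : ℕ) [Fact p.Prime] [CharP F p] (n : ℕ)
    (U : Subgroup (Matrix.SpecialLinearGroup (Fin n) F)) (hU : IsPGroup p ↥U) (hne : U ≠ ⊥) :
    ∃ (k : ℕ) (V : Fin (k + 2) → Submodule F (Fin n → F)), 1 ≤ k ∧ StrictMono V ∧ V 0 = ⊥ ∧ V (Fin.last (k + 1)) = ⊤ ∧
      (∀ g ∈ Subgroup.normalizer (U : Set (Matrix.SpecialLinearGroup (Fin n) F)), ∀ i, (V i).map (Matrix.mulVecLin (g : Matrix (Fin n) (Fin n) F)) = V i) ∧
      (∀ u ∈ U, ∀ i : Fin (k + 1), ∀ v ∈ V i.succ, (u : Matrix (Fin n) (Fin n) F).mulVec v - v ∈ V (Fin.castSucc i)) := by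
  classical
  have hne1 : fixChain U 1 ≠ ⊤ := by
    intro h
    refine hne ((Subgroup.eq_bot_iff_forall U).2 fun u hu => Subtype.ext ?_)
    refine Matrix.ext_iff_mulVec.2 fun v => ?_
    have := (mem_fixChain_succ U 0 v).1 (h ▸ Submodule.mem_top) u hu
    simpa [fixChain, sub_eq_zero] using this
  have hex : ∃ j, fixChain U j = ⊤ := by
    by_contra hcon
    push Not at hcon
    have : ∀ j, j ≤ Module.finrank F (fixChain U j) := by
      intro j
      induction j with
      | zero => exact Nat.zero_le _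
      | succ j ih => exact Nat.succ_le_of_lt (lt_of_le_of_lt ih (Submodule.finrank_lt_finrank_of_lt (fixChain_lt U p hU j (hcon j))))
    have h1 := this (n + 1)
    have h2 := Submodule.finrank_le (fixChain U (n + 1))
    simp at h2
    omega
  have h2 : 2 ≤ Nat.find hex := by
    refine (Nat.le_find_iff _ _).2 fun j hj hh => ?_
    interval_cases j
    · refine hne1 (top_le_iff.1 (hh ▸ fixChain_le_succ U 0))
    · exact hne1 hh
  obtain ⟨k, hk⟩ : ∃ k, Nat.find hex = k + 1 := ⟨Nat.find hex - 1, by omega⟩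
  refine ⟨k, fun i => fixChain U i.val, by omega, ?_, rfl, ?_, ?_, ?_⟩
  · rw [Fin.strictMono_iff_lt_succ]
    intro i
    exact fixChain_lt U p hU i.val (Nat.find_min hex (by omega))
  · simpa [hk] using Nat.find_spec hex
  · exact fun g hg i => fixChain_map_eq U i.val g hg
  · intro u hu i v hv
    exact (mem_fixChain_succ U i.val v).1 hv u hu

end Cfsg.Agent.S2391
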