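import Cfsg.Statements.S2392
import Cfsg.Agent.Lib.CrossChar.Eigen
import Mathlib

set_option autoImplicit false
open Cfsg

namespace Cfsg.Agent.S2392

open Matrix Cfsg.Agent.Lib.CrossChar

variable {F : Type*} [Field F] {l : ℕ}

/-- The row vector `v` as a `1 × l` matrix. -/
def rowMat (v : Fin l → F) : Matrix (Fin 1) (Fin l) F := Matrix.of fun _ j => v j

/-- Index bookkeeping. -/
def idx (l : ℕ) : Fin 1 ⊕ Fin l ≃ Fin (1 + l) := finSumFinEquiv

/-- Block matrix `[[1, v], [0, L]]` as an element of `SL`. -/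
noncomputable def blockSL (v : Fin l → F) (L : Matrix.SpecialLinearGroup (Fin l) F) :
    Matrix.SpecialLinearGroup (Fin (1 + l)) F :=
  ⟨Matrix.reindexAlgEquiv F F (idx l) (fromBlocks 1 (rowMat v) 0 L.1), by
    rw [Matrix.det_reindexAlgEquiv, det_fromBlocks_zero₂₁, det_one, one_mul]; exact L.2⟩

theorem blockSL_mul (v v' : Fin l → F) (L L' : Matrix.SpecialLinearGroup (Fin l) F) :
    blockSL v L * blockSL v' L' = blockSL (v' + v ᵥ* L'.1) (L * L') := by
  refine Subtype.ext ?_
  show Matrix.reindexAlgEquiv F F (idx l) _ * Matrix.reindexAlgEquiv F F (idx l) _ =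
    Matrix.reindexAlgEquiv F F (idx l) _
  rw [← map_mul, fromBlocks_multiply]
  congr 1
  rw [Matrix.mul_zero, Matrix.zero_mul, Matrix.mul_zero, Matrix.zero_mul, add_zero, add_zero, zero_add,
    Matrix.one_mul, Matrix.one_mul]
  congr 1

theorem blockSL_one : blockSL (0 : Fin l → F) 1 = 1 := by
  refine Subtype.ext ?_
  show Matrix.reindexAlgEquiv F F (idx l) _ = 1
  rw [show rowMat (0 : Fin l → F) = 0 from rfl, Matrix.SpecialLinearGroup.coe_one, fromBlocks_one, map_one]

theorem blockSL_injective (v v' : Fin l → F) (L L' : Matrix.SpecialLinearGroup (Fin l) F)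
    (h : blockSL v L = blockSL v' L') : v = v' ∧ L = L' := by
  have h1 := (Matrix.reindexAlgEquiv F F (idx l)).injective (congrArg Subtype.val h)
  obtain ⟨-, h2, -, h3⟩ := fromBlocks_inj.1 h1
  exact ⟨funext fun j => congrFun (congrFun h2 0) j, Subtype.ext h3⟩

/-- The translation subgroup. -/
noncomputable def qHom : Multiplicative (Fin l → F) →* Matrix.SpecialLinearGroup (Fin (1 + l)) F where
  toFun v := blockSL v.toAdd 1
  map_one' := blockSL_one
  map_mul' a b := by
    rw [blockSL_mul]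
    simp [Matrix.SpecialLinearGroup.coe_one, add_comm]

theorem conj_qHom (L : Matrix.SpecialLinearGroup (Fin l) F) (v : Fin l → F) :
    qHom (Multiplicative.ofAdd v) * blockSL 0 L = blockSL 0 L * qHom (Multiplicative.ofAdd (v ᵥ* L.1)) := by
  show blockSL v 1 * blockSL 0 L = blockSL 0 L * blockSL (v ᵥ* L.1) 1
  rw [blockSL_mul, blockSL_mul]
  simp

theorem exists_SL_mulVec (hl : 2 ≤ l) (c : Fin l → F) (hc : c ≠ 0) :
    ∃ L : Matrix.SpecialLinearGroup (Fin l) F, L.1 *ᵥ Pi.single ⟨0, by omega⟩ 1 = c := by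
  classical
  let i0 : Fin l := ⟨0, by omega⟩
  let i1 : Fin l := ⟨1, by omega⟩
  have main : ∀ d : Fin l → F, d i0 ≠ 0 → ∃ L : Matrix.SpecialLinearGroup (Fin l) F, L.1 *ᵥ Pi.single i0 1 = d := by
    intro d hd
    let M : Matrix (Fin l) (Fin l) F :=
      Matrix.of fun i j => if j = i0 then d i else if i = j then (if j = i1 then (d i0)⁻¹ else 1) else 0
    have hM : M.BlockTriangular OrderDual.toDual := by
      intro i j hij
      have hlt : i < j := hij
      have hj : j ≠ i0 := fun h => by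
        subst h
        exact absurd (Fin.lt_def.1 hlt) (Nat.not_lt_zero _)
      simp [M, hj, hlt.ne]
    refine ⟨⟨M, ?_⟩, ?_⟩
    · rw [Matrix.det_of_lowerTriangular M hM, Finset.prod_eq_mul i0 i1 (by simp [i0, i1])]
      · simp [M, i0, i1, hd]
      · intro x _ hx; simp [M, hx.1, hx.2]
      · simp
      · simp
    · funext i
      simp [M]
  by_cases h0 : c i0 ≠ 0
  · exact main c h0
  obtain ⟨i, hi⟩ := Function.ne_iff.1 hc
  push Not at h0
  have hne : i0 ≠ i := fun h => hi (by rw [← h]; simpa using h0)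
  let T : Matrix.SpecialLinearGroup (Fin l) F := Matrix.SpecialLinearGroup.transvection hne 1
  obtain ⟨L, hL⟩ := main (T.1 *ᵥ c) (by
    show (Matrix.transvection i0 i (1 : F) *ᵥ c) i0 ≠ 0
    simpa [Matrix.transvection, Matrix.add_mulVec, Matrix.single_mulVec, h0] using hi)
  refine ⟨T⁻¹ * L, ?_⟩
  rw [Matrix.SpecialLinearGroup.coe_mul, ← Matrix.mulVec_mulVec, hL, Matrix.mulVec_mulVec,
    ← Matrix.SpecialLinearGroup.coe_mul, inv_mul_cancel, Matrix.SpecialLinearGroup.coe_one, Matrix.one_mulVec]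

theorem key [Fintype F] {p : ℕ} [Fact p.Prime] [CharP F p] (hl : 2 ≤ l) {K : Type*} [Field K]
    (hK : (p : K) ≠ 0) {d : ℕ} (ρ : Matrix.SpecialLinearGroup (Fin (1 + l)) F →* GL (Fin d) K)
    (hker : ρ.ker ≤ Subgroup.center (Matrix.SpecialLinearGroup (Fin (1 + l)) F)) :
    Fintype.card F ^ l - 1 ≤ d := by
  classical
  let L' := AlgebraicClosure K
  let σ : Multiplicative (Fin l → F) →* Module.End L' (Fin d → L') :=
    ((extendEnd K d).comp ρ).comp qHom
  have hpL : (p : L') ≠ 0 := fun h => hK ((algebraMap K L').injective (by rw [map_natCast, h, map_zero]))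
  let i0 : Fin l := ⟨0, by omega⟩
  let e : Fin l → F := Pi.single i0 1
  have hσ : σ (Multiplicative.ofAdd e) ≠ 1 := by
    intro h
    have h1 : ρ (qHom (Multiplicative.ofAdd e)) = 1 :=
      extendEnd_injective K d (h.trans (map_one _).symm)
    have h2 := Subgroup.mem_center_iff.1 (hker (MonoidHom.mem_ker.2 h1))
    have h10 : (⟨1, by omega⟩ : Fin l) ≠ i0 := by simp [i0]
    let T : Matrix.SpecialLinearGroup (Fin l) F := Matrix.SpecialLinearGroup.transvection h10.symm 1
    have h3 := h2 (blockSL 0 T)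
    rw [conj_qHom] at h3
    have h4 := mul_left_cancel h3
    have h5 : e = e ᵥ* T.1 := (blockSL_injective _ _ _ _ h4).1
    have h6 := congrFun h5 ⟨1, by omega⟩
    rw [show (e ᵥ* T.1) ⟨1, by omega⟩ = T.1 i0 ⟨1, by omega⟩ by simp [e]] at h6
    simp [e, T, Matrix.SpecialLinearGroup.transvection, Matrix.transvection, i0] at h6
  obtain ⟨w, ψ, hw, hψ, hwψ⟩ := exists_nontrivial_character σ hpL
    (fun a => Multiplicative.toAdd.injective (by
      funext i
      simp [CharP.cast_eq_zero F p]))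
    (Multiplicative.ofAdd e) hσ
  -- every character is `v ↦ χ (v ⬝ᵥ c)`
  let Φ : (Fin l → F) → (Multiplicative (Fin l → F) →* L') := fun c =>
    { toFun := fun v => ψ (Multiplicative.ofAdd ((v.toAdd ⬝ᵥ c) • e))
      map_one' := by simp
      map_mul' := fun a b => by
        rw [toAdd_mul, add_dotProduct, add_smul, ofAdd_add, map_mul] }
  have hΦ : Function.Injective Φ := by
    intro c c' h
    by_contra hne
    obtain ⟨i, hi⟩ := Function.ne_iff.1 hne
    have h1 := DFunLike.congr_fun h (Multiplicative.ofAdd (Pi.single i (c i - c' i)⁻¹))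
    simp [Φ] at h1
    have h2 : (c i - c' i)⁻¹ * c i = 1 + (c i - c' i)⁻¹ * c' i := by
      field_simp [sub_ne_zero.2 hi]
      ring
    rw [h2, add_smul, one_smul, ofAdd_add, map_mul] at h1
    have hu : IsUnit (ψ (Multiplicative.ofAdd (((c i - c' i)⁻¹ * c' i) • e))) := (Group.isUnit _).map ψ
    exact hψ ((mul_eq_right₀ hu.ne_zero).1 h1)
  have hsurj : Function.Surjective Φ := by
    have hli := linearIndependent_monoidHom (Multiplicative (Fin l → F)) L'
    haveI : Finite (Multiplicative (Fin l → F) →* L') := hli.finite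
    haveI := Fintype.ofFinite (Multiplicative (Fin l → F) →* L')
    have hle := hli.fintype_card_le_finrank
    rw [Module.finrank_fintype_fun_eq_card] at hle
    refine (hΦ.bijective_of_nat_card_le ?_).2
    simpa [Nat.card_eq_fintype_card] using hle
  obtain ⟨c, hc⟩ := hsurj ψ
  have hc0 : c ≠ 0 := by
    rintro rfl
    exact hψ (by rw [← hc]; simp [Φ])
  obtain ⟨L0, hL0⟩ := exists_SL_mulVec hl c hc0
  -- one eigenvector for every non-zero `c'`
  have htr : ∀ c' : {x : Fin l → F // x ≠ 0}, ∃ L : Matrix.SpecialLinearGroup (Fin l) F, L.1 *ᵥ c = c'.1 := by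
    intro c'
    obtain ⟨L1, hL1⟩ := exists_SL_mulVec hl c'.1 c'.2
    refine ⟨L1 * L0⁻¹, ?_⟩
    rw [← hL0, Matrix.mulVec_mulVec, ← Matrix.SpecialLinearGroup.coe_mul, inv_mul_cancel_right, hL1]
  choose Lc hLc using htr
  let vec : {x : Fin l → F // x ≠ 0} → (Fin d → L') := fun c' => extendEnd K d (ρ (blockSL 0 (Lc c'))) w
  have hli := linearIndependent_of_eigen (K := L') (fun v => σ v) (fun c' v => Φ c'.1 v) vec
    (fun c' => extendEnd_apply_ne_zero K d _ hw) (fun c' v => ?_) ?_
  · have := hli.fintype_card_le_finrank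
    rw [Module.finrank_fin_fun, Fintype.card_subtype_compl, Fintype.card_subtype_eq, Fintype.card_fun,
      Fintype.card_fin] at this
    exact this
  · have h1 : qHom v * blockSL 0 (Lc c') =
        blockSL 0 (Lc c') * qHom (Multiplicative.ofAdd (v.toAdd ᵥ* (Lc c').1)) := conj_qHom _ v.toAdd
    have h1' : σ v * extendEnd K d (ρ (blockSL 0 (Lc c'))) = extendEnd K d (ρ (blockSL 0 (Lc c'))) *
        σ (Multiplicative.ofAdd (v.toAdd ᵥ* (Lc c').1)) := by
      simp only [σ, MonoidHom.comp_apply]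
      rw [← map_mul, ← map_mul, ← map_mul, ← map_mul, h1]
    show σ v (vec c') = _
    rw [← Module.End.mul_apply, h1', Module.End.mul_apply, hwψ, map_smul]
    congr 1
    rw [← hc]
    show ψ _ = ψ _
    rw [toAdd_ofAdd, ← Matrix.dotProduct_mulVec, hLc]
  · intro a b hab
    exact Subtype.ext (hΦ (DFunLike.coe_injective hab))

/-- A lower bound for representations in cross characteristic: for `n ≥ 3` and a field `F` with `q` elements, every homomorphism from `SL_n(F)` to `GL_d(K)`, `K` a field of characteristic different from that of `F`, whose kernel is central has `d ≥ q^(n-1) - 1`. -/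
theorem result {F : Type*} [Field F] [Fintype F] {q : ℕ} (hq : Fintype.card F = q) (n : ℕ) (hn : 3 ≤ n)
    {K : Type*} [Field K] (hK : ringChar K ≠ ringChar F) {d : ℕ}
    (ρ : Matrix.SpecialLinearGroup (Fin n) F →* GL (Fin d) K) (hker : ρ.ker ≤ Subgroup.center (Matrix.SpecialLinearGroup (Fin n) F)) :
    q ^ (n - 1) - 1 ≤ d := by
  obtain ⟨l, rfl⟩ : ∃ l, n = 1 + l := ⟨n - 1, by omega⟩
  obtain ⟨p, hchar⟩ := CharP.exists F
  obtain ⟨e, hp, -⟩ := FiniteField.card F p
  haveI : Fact p.Prime := ⟨hp⟩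
  have hK' : (p : K) ≠ 0 := by
    intro h
    apply hK
    rw [ringChar.eq F p]
    rcases (Nat.dvd_prime hp).1 (ringChar.dvd h) with h1 | h1
    · exact absurd h1 CharP.ringChar_ne_one
    · exact h1
  rw [← hq, Nat.add_sub_cancel_left]
  exact key (by omega) hK' ρ hker

end Cfsg.Agent.S2392
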