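import Cfsg.Statements.S2393
import Cfsg.Agent.Lib.CrossChar.Eigen
import Mathlib

set_option autoImplicit false
open Cfsg

namespace Cfsg.Agent.S2393

open Matrix Cfsg.Agent.Lib.CrossChar

variable {F : Type*} [Field F] {l : ℕ}

/-- Block-diagonal `diag (A, B)` with `A * Bᵀ = 1` is symplectic. -/
theorem diag_mem {m : ℕ} (A B : Matrix (Fin m) (Fin m) F) (h : A * Bᵀ = 1) :
    fromBlocks A 0 0 B ∈ Matrix.symplecticGroup (Fin m) F := by
  rw [SymplecticGroup.mem_iff, Matrix.J, fromBlocks_transpose, fromBlocks_multiply, fromBlocks_multiply]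
  have h2 := congrArg Matrix.transpose h
  rw [Matrix.transpose_mul, Matrix.transpose_one, Matrix.transpose_transpose] at h2
  simp [h, h2]

theorem upper_mem {m : ℕ} (S : Matrix (Fin m) (Fin m) F) (h : Sᵀ = S) :
    fromBlocks 1 S 0 1 ∈ Matrix.symplecticGroup (Fin m) F := by
  rw [SymplecticGroup.mem_iff, Matrix.J, fromBlocks_transpose, fromBlocks_multiply, fromBlocks_multiply]
  simp [h]

/-- `c E₀₀`. -/
def cornerMat (c : F) : Matrix (Fin (l + 1)) (Fin (l + 1)) F := Matrix.single 0 0 c

/-- `Σ bᵢ (E₀ᵢ + Eᵢ₀)`. -/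
def edgeMat (b : Fin l → F) : Matrix (Fin (l + 1)) (Fin (l + 1)) F :=
  Matrix.of fun i j => if i = 0 then Fin.cases 0 b j else if j = 0 then Fin.cases 0 b i else 0

/-- `1 + Σ aᵢ E₀ᵢ`. -/
def rowShear (a : Fin l → F) : Matrix (Fin (l + 1)) (Fin (l + 1)) F :=
  1 + Matrix.of fun i j => if i = 0 then Fin.cases 0 a j else 0

theorem rowShear_mulVec (a : Fin l → F) (v : Fin (l + 1) → F) (i : Fin (l + 1)) :
    (rowShear a *ᵥ v) i = v i + if i = 0 then ∑ j : Fin l, a j * v j.succ else 0 := by
  rw [rowShear, Matrix.add_mulVec, Matrix.one_mulVec, Pi.add_apply]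
  congr 1
  by_cases h : i = 0 <;> simp [h, Matrix.mulVec, dotProduct, Fin.sum_univ_succ]

theorem rowShear_mul (a a' : Fin l → F) : rowShear a * rowShear a' = rowShear (a + a') := by
  refine Matrix.ext_iff_mulVec.2 fun v => funext fun i => ?_
  rw [← Matrix.mulVec_mulVec]
  simp only [rowShear_mulVec, Fin.succ_ne_zero, if_false, add_zero]
  split_ifs <;> simp [add_mul, Finset.sum_add_distrib] <;> ring

theorem rowShear_zero : rowShear (0 : Fin l → F) = 1 := by
  refine Matrix.ext_iff_mulVec.2 fun v => funext fun i => ?_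
  simp [rowShear_mulVec]

theorem rowShear_mul_neg (a : Fin l → F) : rowShear a * rowShear (-a) = 1 := by
  rw [rowShear_mul, add_neg_cancel, rowShear_zero]

/-- `s ⊕ 1`. -/
def torusVec (s : Fˣ) : Fin (l + 1) → F := Fin.cases (s : F) fun _ => 1

theorem torusVec_inv (s : Fˣ) (i : Fin (l + 1)) : torusVec s i * torusVec s⁻¹ i = 1 := by
  refine Fin.cases ?_ (fun j => ?_) i <;> simp [torusVec]

variable (l) in
/-- The centre of the Heisenberg group. -/
def zElt (c : F) : ↥(Matrix.symplecticGroup (Fin (l + 1)) F) :=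
  ⟨fromBlocks 1 (cornerMat c) 0 1, upper_mem _ (by simp [cornerMat, Matrix.transpose_single])⟩

/-- One abelian half. -/
def xElt (a : Fin l → F) : ↥(Matrix.symplecticGroup (Fin (l + 1)) F) :=
  ⟨fromBlocks (rowShear a) 0 0 (rowShear (-a))ᵀ, diag_mem _ _ (by rw [Matrix.transpose_transpose, rowShear_mul_neg])⟩

/-- The other half. -/
def yElt (b : Fin l → F) : ↥(Matrix.symplecticGroup (Fin (l + 1)) F) :=
  ⟨fromBlocks 1 (edgeMat b) 0 1, upper_mem _ (by
    ext i j
    by_cases hi : i = 0 <;> by_cases hj : j = 0 <;> simp [edgeMat, hi, hj])⟩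

/-- The torus. -/
def hElt (s : Fˣ) : ↥(Matrix.symplecticGroup (Fin (l + 1)) F) :=
  ⟨fromBlocks (Matrix.diagonal (torusVec s)) 0 0 (Matrix.diagonal (torusVec s⁻¹)), diag_mem _ _ (by
    rw [Matrix.diagonal_transpose, Matrix.diagonal_mul_diagonal, ← Matrix.diagonal_one]
    congr 1
    funext i
    exact torusVec_inv s i)⟩

theorem zx_comm (c : F) (a : Fin l → F) : zElt l c * xElt a = xElt a * zElt l c := by
  refine Subtype.ext ?_
  show fromBlocks _ _ _ _ * fromBlocks _ _ _ _ = fromBlocks _ _ _ _ * fromBlocks _ _ _ _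
  rw [fromBlocks_multiply, fromBlocks_multiply]
  simp only [Matrix.zero_mul, Matrix.mul_zero, add_zero, zero_add, Matrix.one_mul, Matrix.mul_one]
  congr 1
  have h : ∀ a : Fin l → F, rowShear a * cornerMat c = cornerMat c := by
    intro a
    ext i j
    simp only [Matrix.mul_apply, rowShear, cornerMat, Matrix.add_apply, Matrix.of_apply, Matrix.one_apply,
      Fin.sum_univ_succ]
    simp [Matrix.single, Fin.succ_ne_zero, (Fin.succ_ne_zero _).symm]
    by_cases hi : i = 0 <;> simp [hi, Ne.symm]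
  have h' := congrArg Matrix.transpose (h (-a))
  rw [Matrix.transpose_mul, cornerMat, Matrix.transpose_single, ← cornerMat] at h'
  rw [h', h]

theorem zy_comm (c : F) (b : Fin l → F) : zElt l c * yElt b = yElt b * zElt l c := by
  refine Subtype.ext ?_
  show fromBlocks _ _ _ _ * fromBlocks _ _ _ _ = fromBlocks _ _ _ _ * fromBlocks _ _ _ _
  rw [fromBlocks_multiply, fromBlocks_multiply]
  simp [add_comm]

theorem shear_edge (a b : Fin l → F) :
    rowShear a * edgeMat b * (rowShear a)ᵀ = edgeMat b + cornerMat (2 * ∑ j, a j * b j) := by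
  ext i j
  rw [Matrix.mul_apply]
  simp only [Matrix.mul_apply, Fin.sum_univ_succ, rowShear, edgeMat, cornerMat, Matrix.transpose_apply,
    Matrix.add_apply, Matrix.of_apply, Matrix.one_apply]
  refine Fin.cases ?_ (fun i' => ?_) i <;> refine Fin.cases ?_ (fun j' => ?_) j
  · simp [Fin.succ_ne_zero, (Fin.succ_ne_zero _).symm, two_mul, add_comm, mul_comm]
  · simp [Fin.succ_ne_zero, Fin.succ_inj, Finset.sum_ite_eq', (Fin.succ_ne_zero j').symm]
  · simp [Fin.succ_ne_zero, Fin.succ_inj, Finset.sum_ite_eq', (Fin.succ_ne_zero i').symm]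
  · simp [Fin.succ_ne_zero, (Fin.succ_ne_zero i').symm, (Fin.succ_ne_zero j').symm]

theorem xy_rel (a b : Fin l → F) :
    xElt a * yElt b = yElt b * zElt l (2 * ∑ j, a j * b j) * xElt a := by
  refine Subtype.ext ?_
  show fromBlocks _ _ _ _ * fromBlocks _ _ _ _ =
    fromBlocks _ _ _ _ * fromBlocks _ _ _ _ * fromBlocks _ _ _ _
  rw [fromBlocks_multiply, fromBlocks_multiply, fromBlocks_multiply]
  simp only [Matrix.zero_mul, Matrix.mul_zero, add_zero, zero_add, Matrix.one_mul, Matrix.mul_one]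
  congr 1
  rw [add_comm (cornerMat _) (edgeMat b), ← shear_edge a b, Matrix.mul_assoc _ (rowShear a)ᵀ,
    ← Matrix.transpose_mul, rowShear_mul, neg_add_cancel, rowShear_zero, Matrix.transpose_one, Matrix.mul_one]

theorem zh_rel (c : F) (s : Fˣ) :
    zElt l c * hElt s = hElt s * zElt l (c * ((s : F)⁻¹) ^ 2) := by
  refine Subtype.ext ?_
  show fromBlocks _ _ _ _ * fromBlocks _ _ _ _ = fromBlocks _ _ _ _ * fromBlocks _ _ _ _
  rw [fromBlocks_multiply, fromBlocks_multiply]
  simp only [Matrix.zero_mul, Matrix.mul_zero, add_zero, zero_add, Matrix.one_mul, Matrix.mul_one]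
  congr 1
  ext i j
  have hs := s.ne_zero
  rw [Matrix.mul_diagonal, Matrix.diagonal_mul]
  refine Fin.cases ?_ (fun i' => ?_) i <;> refine Fin.cases ?_ (fun j' => ?_) j <;>
    simp [cornerMat, torusVec, Matrix.single, Fin.succ_ne_zero, (Fin.succ_ne_zero _).symm]
  field_simp

theorem xh_rel (a : Fin l → F) (s : Fˣ) :
    xElt a * hElt s = hElt s * xElt ((s : F)⁻¹ • a) := by
  refine Subtype.ext ?_
  show fromBlocks _ _ _ _ * fromBlocks _ _ _ _ = fromBlocks _ _ _ _ * fromBlocks _ _ _ _
  rw [fromBlocks_multiply, fromBlocks_multiply]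
  simp only [Matrix.zero_mul, Matrix.mul_zero, add_zero, zero_add, Matrix.one_mul, Matrix.mul_one]
  congr 1 <;>
  · ext i j
    have hs := s.ne_zero
    rw [Matrix.mul_diagonal, Matrix.diagonal_mul]
    refine Fin.cases ?_ (fun i' => ?_) i <;> refine Fin.cases ?_ (fun j' => ?_) j <;>
      simp [rowShear, torusVec, Matrix.one_apply, Fin.succ_ne_zero, (Fin.succ_ne_zero _).symm] <;>
      (first | (field_simp; done) | (split_ifs <;> simp_all) | ring)

theorem z_noncentral (hl : 0 < l + 1) : zElt l (1 : F) ∉ Subgroup.center _ := by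
  intro h
  have hJ : Matrix.J (Fin (l + 1)) F ∈ Matrix.symplecticGroup (Fin (l + 1)) F := SymplecticGroup.J_mem _ _
  have h1 := congrArg Subtype.val (Subgroup.mem_center_iff.1 h ⟨_, hJ⟩)
  have h2 : Matrix.J (Fin (l + 1)) F * fromBlocks 1 (cornerMat 1) 0 1 =
      fromBlocks 1 (cornerMat 1) 0 1 * Matrix.J (Fin (l + 1)) F := h1
  rw [Matrix.J, fromBlocks_multiply, fromBlocks_multiply] at h2
  have h3 := congrFun (congrFun (fromBlocks_inj.1 h2).1 0) 0
  simp [cornerMat] at h3

/-- The maximal abelian normal subgroup `Z × X`, as a homomorphism. -/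
def axHom : Multiplicative (F × (Fin l → F)) →* ↥(Matrix.symplecticGroup (Fin (l + 1)) F) where
  toFun v := zElt l v.toAdd.1 * xElt v.toAdd.2
  map_one' := by
    refine Subtype.ext ?_
    show fromBlocks _ _ _ _ * fromBlocks _ _ _ _ = 1
    rw [fromBlocks_multiply]
    simp [cornerMat, rowShear_zero]
  map_mul' u v := by
    have hz : ∀ c c' : F, zElt l (c + c') = zElt l c * zElt l c' := fun c c' => Subtype.ext (by
      show fromBlocks _ _ _ _ = fromBlocks _ _ _ _ * fromBlocks _ _ _ _
      rw [fromBlocks_multiply]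
      simp [cornerMat, Matrix.single_add, add_comm])
    have hx : ∀ a a' : Fin l → F, xElt (a + a') = xElt a * xElt a' := fun a a' => Subtype.ext (by
      show fromBlocks _ _ _ _ = fromBlocks _ _ _ _ * fromBlocks _ _ _ _
      rw [fromBlocks_multiply]
      simp only [Matrix.zero_mul, Matrix.mul_zero, add_zero, zero_add]
      rw [rowShear_mul, ← Matrix.transpose_mul, rowShear_mul, neg_add, add_comm (-a) (-a')])
    simp only [toAdd_mul, Prod.fst_add, Prod.snd_add, hz, hx]
    rw [mul_assoc (zElt l u.toAdd.1), ← mul_assoc (zElt l v.toAdd.1), zx_comm]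
    simp [mul_assoc]

theorem key [Fintype F] {p : ℕ} [Fact p.Prime] [CharP F p] (h2 : (2 : F) ≠ 0) {K : Type*} [Field K]
    (hK : (p : K) ≠ 0) {d : ℕ} (ρ : ↥(Matrix.symplecticGroup (Fin (l + 1)) F) →* GL (Fin d) K)
    (hker : ρ.ker ≤ Subgroup.center ↥(Matrix.symplecticGroup (Fin (l + 1)) F)) :
    Fintype.card F ^ l * Nat.card ((powMonoidHom 2 : Fˣ →* Fˣ).range) ≤ d := by
  classical
  let L' := AlgebraicClosure K
  let τ : ↥(Matrix.symplecticGroup (Fin (l + 1)) F) →* Module.End L' (Fin d → L') := (extendEnd K d).comp ρ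
  let σ : Multiplicative (F × (Fin l → F)) →* Module.End L' (Fin d → L') := τ.comp axHom
  have hpL : (p : L') ≠ 0 := fun h => hK ((algebraMap K L').injective (by rw [map_natCast, h, map_zero]))
  have hax : ∀ (c : F), axHom (Multiplicative.ofAdd (c, (0 : Fin l → F))) = zElt l c := fun c => by
    show zElt l c * xElt 0 = zElt l c
    refine Subtype.ext ?_
    show fromBlocks _ _ _ _ * fromBlocks _ _ _ _ = fromBlocks _ _ _ _
    rw [fromBlocks_multiply]
    simp [rowShear_zero]
  have hσ : σ (Multiplicative.ofAdd (1, 0)) ≠ 1 := by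
    intro h
    have h1 : ρ (axHom (Multiplicative.ofAdd (1, 0))) = 1 :=
      extendEnd_injective K d (h.trans (map_one _).symm)
    rw [hax] at h1
    exact z_noncentral (Nat.succ_pos l) (hker (MonoidHom.mem_ker.2 h1))
  obtain ⟨w, ψ, hw, hψ, hwψ⟩ := exists_nontrivial_character σ hpL
    (fun a => Multiplicative.toAdd.injective (Prod.ext
      (by simp [CharP.cast_eq_zero F p])
      (funext fun i => by simp [CharP.cast_eq_zero F p])))
    (Multiplicative.ofAdd (1, 0)) hσ
  choose root hroot using fun u : (powMonoidHom 2 : Fˣ →* Fˣ).range => u.2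
  let I := ((powMonoidHom 2 : Fˣ →* Fˣ).range) × (Fin l → F)
  let vec : I → (Fin d → L') := fun i => extendEnd K d (ρ (hElt (root i.1) * yElt i.2)) w
  let μ : I → Multiplicative (F × (Fin l → F)) → L' := fun i v =>
    ψ (Multiplicative.ofAdd
      (v.toAdd.1 * (((root i.1 : Fˣ) : F)⁻¹) ^ 2 + 2 * ∑ j, (((root i.1 : Fˣ) : F)⁻¹ • v.toAdd.2) j * i.2 j,
        ((root i.1 : Fˣ) : F)⁻¹ • v.toAdd.2))
  have hli := linearIndependent_of_eigen (K := L') (fun v => σ v) μ vec
    (fun i => extendEnd_apply_ne_zero K d _ hw) (fun i v => ?_) ?_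
  · have := hli.fintype_card_le_finrank
    rw [Module.finrank_fin_fun, Fintype.card_prod, Fintype.card_fun, Fintype.card_fin,
      ← Nat.card_eq_fintype_card (α := (powMonoidHom 2 : Fˣ →* Fˣ).range), mul_comm] at this
    exact this
  · show τ (axHom v) (τ (hElt (root i.1) * yElt i.2) w) = μ i v • τ (hElt (root i.1) * yElt i.2) w
    set s := root i.1
    set c' := v.toAdd.1 * ((s : F)⁻¹) ^ 2
    set a' := (s : F)⁻¹ • v.toAdd.2
    have hrel : axHom v * (hElt s * yElt i.2) = hElt s * yElt i.2 *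
        axHom (Multiplicative.ofAdd (c' + 2 * ∑ j, a' j * i.2 j, a')) := by
      show zElt l v.toAdd.1 * xElt v.toAdd.2 * (hElt s * yElt i.2) =
        hElt s * yElt i.2 * (zElt l (c' + 2 * ∑ j, a' j * i.2 j) * xElt a')
      have hz : zElt l (c' + 2 * ∑ j, a' j * i.2 j) = zElt l c' * zElt l (2 * ∑ j, a' j * i.2 j) := by
        refine Subtype.ext ?_
        show fromBlocks _ _ _ _ = fromBlocks _ _ _ _ * fromBlocks _ _ _ _
        rw [fromBlocks_multiply]
        simp [cornerMat, Matrix.single_add, add_comm]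
      calc zElt l v.toAdd.1 * xElt v.toAdd.2 * (hElt s * yElt i.2)
          = zElt l v.toAdd.1 * (xElt v.toAdd.2 * hElt s) * yElt i.2 := by simp [mul_assoc]
        _ = zElt l v.toAdd.1 * hElt s * (xElt a' * yElt i.2) := by rw [xh_rel]; simp [mul_assoc, a']
        _ = hElt s * zElt l c' * (yElt i.2 * zElt l (2 * ∑ j, a' j * i.2 j) * xElt a') := by
          rw [zh_rel, xy_rel]
        _ = hElt s * (zElt l c' * yElt i.2) * zElt l (2 * ∑ j, a' j * i.2 j) * xElt a' := by simp [mul_assoc]
        _ = _ := by rw [zy_comm, hz]; simp [mul_assoc]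
    rw [← Module.End.mul_apply, ← map_mul, hrel, map_mul, Module.End.mul_apply]
    show τ _ (σ _ w) = _
    rw [hwψ, map_smul]
  · -- the characters are distinct
    intro i i' h
    have key0 : ∀ x y : F, (∀ t : F, ψ (Multiplicative.ofAdd (t * x, (0 : Fin l → F))) =
        ψ (Multiplicative.ofAdd (t * y, (0 : Fin l → F)))) → x = y := by
      intro x y hxy
      by_contra hne
      have h1 := hxy (x - y)⁻¹
      have h2 : ((x - y)⁻¹ * x, (0 : Fin l → F)) = (1, 0) + ((x - y)⁻¹ * y, 0) := by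
        ext
        · simp; field_simp [sub_ne_zero.2 hne]; try ring
        · simp
      rw [h2, ofAdd_add, map_mul] at h1
      exact hψ ((mul_eq_right₀ ((Group.isUnit _).map ψ).ne_zero).1 h1)
    have hs := key0 _ _ fun t => by
      simpa [μ] using congrFun h (Multiplicative.ofAdd (t, (0 : Fin l → F)))
    have h1 : i.1 = i'.1 := by
      refine Subtype.ext ?_
      rw [← hroot i.1, ← hroot i'.1]
      simp only [powMonoidHom_apply]
      refine Units.ext ?_
      rw [_root_.inv_inj] at hs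
      simpa using hs
    refine Prod.ext h1 (funext fun j => ?_)
    have hu : ((root i.1 : Fˣ) : F) ≠ 0 := Units.ne_zero _
    have key1 := key0 (2 * i.2 j) (2 * i'.2 j) fun t => by
      have h3 := congrFun h (Multiplicative.ofAdd ((0 : F), Pi.single j (((root i.1 : Fˣ) : F) * t)))
      have e : ∀ b : Fin l → F,
          ∑ x, (((root i.1 : Fˣ) : F)⁻¹ • Pi.single j (((root i.1 : Fˣ) : F) * t)) x * b x = t * b j := by
        intro b
        rw [Finset.sum_eq_single j]
        · simp [hu]
        · intro x _ hx; simp [hx]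
        · simp
      simp only [μ, ← h1, toAdd_ofAdd, zero_mul, zero_add, e] at h3
      have split : ∀ (x : F) (a : Fin l → F), ψ (Multiplicative.ofAdd (x, a)) =
          ψ (Multiplicative.ofAdd (x, (0 : Fin l → F))) * ψ (Multiplicative.ofAdd ((0 : F), a)) := by
        intro x a
        rw [← map_mul, ← ofAdd_add]
        simp
      rw [split (2 * (t * i.2 j)), split (2 * (t * i'.2 j))] at h3
      have h4 := mul_right_cancel₀ ((Group.isUnit _).map ψ).ne_zero h3
      rw [show t * (2 * i.2 j) = 2 * (t * i.2 j) by ring, show t * (2 * i'.2 j) = 2 * (t * i'.2 j) by ring]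
      exact h4
    exact mul_left_cancel₀ h2 key1

/-- A lower bound for representations in cross characteristic: for `n ≥ 2` and a field `F` with `q` elements, `q` odd, every homomorphism from the symplectic group `Sp_{2n}(F)` to `GL_d(K)`, `K` a field of characteristic different from that of `F`, whose kernel is central has `d ≥ q^(n-1)(q-1)/2`. -/
theorem result {F : Type*} [Field F] [Fintype F] {q : ℕ} (hq : Fintype.card F = q) (hodd : Odd q) (n : ℕ) (hn : 2 ≤ n)
    {K : Type*} [Field K] (hK : ringChar K ≠ ringChar F) {d : ℕ}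
    (ρ : ↥(Matrix.symplecticGroup (Fin n) F) →* GL (Fin d) K) (hker : ρ.ker ≤ Subgroup.center ↥(Matrix.symplecticGroup (Fin n) F)) :
    q ^ (n - 1) * (q - 1) / 2 ≤ d := by
  obtain ⟨l, rfl⟩ : ∃ l, n = l + 1 := ⟨n - 1, by omega⟩
  obtain ⟨p, hchar⟩ := CharP.exists F
  obtain ⟨e, hp, hpe⟩ := FiniteField.card F p
  haveI : Fact p.Prime := ⟨hp⟩
  have hK' : (p : K) ≠ 0 := by
    intro h
    apply hK
    rw [ringChar.eq F p]
    rcases (Nat.dvd_prime hp).1 (ringChar.dvd h) with h1 | h1
    · exact absurd h1 CharP.ringChar_ne_one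
    · exact h1
  have h2 : (2 : F) ≠ 0 := by
    intro h
    have : p = 2 := (Nat.prime_dvd_prime_iff_eq hp Nat.prime_two).1 ((CharP.cast_eq_zero_iff F p 2).1 (by simpa using h))
    rw [← hq, hpe, this, Nat.odd_pow_iff e.pos.ne'] at hodd
    exact absurd hodd (by decide)
  refine le_trans (le_of_eq ?_) (key h2 hK' ρ hker)
  have hev : 2 ∣ q - 1 := by
    obtain ⟨k, hk⟩ := hodd
    exact ⟨k, by omega⟩
  have h3 : Nat.card ((powMonoidHom 2 : Fˣ →* Fˣ).range) = (q - 1) / 2 := by
    have hker2 : Nat.card (powMonoidHom 2 : Fˣ →* Fˣ).ker = 2 := by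
      rw [IsCyclic.card_powMonoidHom_ker, Nat.card_units, Nat.card_eq_fintype_card, hq]
      exact Nat.gcd_eq_right hev
    have h4 := Subgroup.card_eq_card_quotient_mul_card_subgroup (powMonoidHom 2 : Fˣ →* Fˣ).ker
    rw [Nat.card_congr (QuotientGroup.quotientKerEquivRange _).toEquiv, hker2, Nat.card_units,
      Nat.card_eq_fintype_card, hq] at h4
    omega
  rw [h3, hq, Nat.add_sub_cancel, Nat.mul_div_assoc _ hev]

end Cfsg.Agent.S2393
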