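import Cfsg.Statements.S2394
import Cfsg.Agent.Lib.Classical.Symplectic
import Cfsg.Agent.Lib.PPD.Zsigmondy
import Mathlib

set_option autoImplicit false
open Cfsg

namespace Cfsg.Agent.S2394

theorem no_dvd (q n d : ℕ) (hq : 2 ≤ q) (hn : 1 ≤ n) (hd : d < 2 * n) :
    ¬ q ^ (n ^ 2) * ∏ i ∈ Finset.range n, (q ^ (2 * (i + 1)) - 1) ∣ ∏ i : Fin d, (q ^ d - q ^ (i : ℕ)) := by
  intro hdvd
  rcases Nat.lt_or_ge n 2 with h1 | h1
  · obtain rfl : n = 1 := by omega
    have hq2 : 2 * 2 ≤ q ^ 2 := by rw [pow_two]; exact Nat.mul_le_mul hq hq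
    interval_cases d
    · simp at hdvd; omega
    · simp at hdvd
      have := Nat.le_of_dvd (by omega) hdvd
      have h3 : q * 3 ≤ q * (q ^ 2 - 1) := Nat.mul_le_mul_left q (by omega)
      omega
  by_cases hex : q = 2 ∧ n = 3
  · obtain ⟨rfl, rfl⟩ := hex
    interval_cases d <;> simp [Finset.prod_range_succ, Fin.prod_univ_succ] at hdvd <;> omega
  obtain ⟨r, hr, hr1, hr2⟩ := Cfsg.Agent.Lib.PPD.exists_primitive_prime (a := q) (n := 2 * n) hq (by omega)
    (fun h => hex ⟨h.1, by omega⟩) (fun h => by omega)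
  have hrS : r ∣ q ^ (n ^ 2) * ∏ i ∈ Finset.range n, (q ^ (2 * (i + 1)) - 1) := by
    refine dvd_mul_of_dvd_right (dvd_trans ?_ (Finset.dvd_prod_of_mem _ (Finset.mem_range.2 (show n - 1 < n by omega)))) _
    rwa [show 2 * (n - 1 + 1) = 2 * n by omega]
  obtain ⟨i, -, hi⟩ := (Prime.dvd_finsetProd_iff hr.prime _).1 (hrS.trans hdvd)
  have hrq : ¬ r ∣ q := fun h => by
    have h3 := Nat.dvd_sub (dvd_pow h (show 2 * n ≠ 0 by omega)) hr1
    rw [Nat.sub_sub_self (Nat.one_le_pow _ _ (by omega))] at h3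
    exact hr.ne_one (Nat.dvd_one.1 h3)
  rw [show q ^ d - q ^ (i : ℕ) = q ^ (i : ℕ) * (q ^ (d - i) - 1) by
    rw [Nat.mul_sub, mul_one, ← pow_add, Nat.add_sub_cancel' i.isLt.le]] at hi
  rcases (Nat.Prime.dvd_mul hr).1 hi with h | h
  · exact hrq (hr.dvd_of_dvd_pow h)
  · exact hr2 _ (by omega) (by omega) h

/-- The smallest degree of a faithful representation of the symplectic group `Sp_{2n}(q)` over its own field `F_q` is `2n`: every injective homomorphism from `Sp_{2n}(F)` to `GL_d(F)`, `F` the field with `q` elements, has `d ≥ 2n`. -/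
theorem result {F : Type*} [Field F] [Fintype F] (n : ℕ) {d : ℕ}
    (ρ : ↥(Matrix.symplecticGroup (Fin n) F) →* GL (Fin d) F) (hρ : Function.Injective ρ) : 2 * n ≤ d := by
  classical
  by_contra hlt
  refine no_dvd (Fintype.card F) n d Fintype.one_lt_card (by omega) (by omega) ?_
  have h := Subgroup.card_dvd_of_injective ρ hρ
  rwa [Cfsg.Agent.Lib.Classical.natCard_symplecticGroup, Nat.card_eq_fintype_card (α := F),
    Matrix.card_GL_field] at h

end Cfsg.Agent.S2394
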