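import Mathlib
import Cfsg.Statements.S2400
import Cfsg.Agent.S2395
import Cfsg.Agent.S2397
import Cfsg.Agent.Lib.Schur.ChevTrivial
import Cfsg.Agent.Lib.Schur.ChevTorusFour
import Cfsg.Agent.Lib.Schur.ChevB2Three
import Cfsg.Agent.Lib.Schur.ChevMult
-- import your own Cfsg.Agent.* helpers here

set_option autoImplicit false
open Cfsg

namespace Cfsg.Agent.S2400

/-- Over a finite field `K`, the group presented by Steinberg's relators (R1)–(R3) (the universal Chevalley group) of type E₆ or E₇, or of type B₂ or D₄ with `K` of more than two elements, has trivial Schur multiplier: every finite stem extension of it is an isomorphism (Schur multiplier described through stem extensions as in the definitions). Types G₂, F₄ and E₈ are not covered here. -/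
theorem result {K : Type*} [Field K] [Fintype K] (e : Cfsg.Lie.ChevalleyDatum × ℕ)
    (he : e ∈ [(Cfsg.Lie.chevE6, 0), (Cfsg.Lie.chevE7, 0), (Cfsg.Lie.chevB2, 2), (Cfsg.Lie.chevD4, 2)]) (hK : Fintype.card K ≠ e.2) :
    Cfsg.HasCyclicSchurMultiplier (e.1.SteinbergGroup K) 1 := by
  have key : ∀ {D : Cfsg.Lie.ChevalleyDatum}, D ∈ Cfsg.Agent.Lib.Schur.ChevLift.sevenTypes →
      (D ∈ [Cfsg.Lie.chevB2, Cfsg.Lie.chevG2] → ∃ x : K, x ≠ 0 ∧ x ≠ 1) →
      ∀ {C : Cfsg.Agent.Lib.Chev.Cert}, (∀ {Y : Type _} [Group Y] (π : Y →* GL D.Idx K), π.ker ≤ Subgroup.center Y →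
        (∀ r < D.nroots, ∀ t : K, ∃ g : Y, (π g : Matrix D.Idx D.Idx K) = D.x K r t) →
        ∃ X, Cfsg.Agent.Lib.Schur.ChevLift.RootLift D C π X) →
      Cfsg.HasCyclicSchurMultiplier (D.SteinbergGroup K) 1 := by
    intro D hD hx C hlift
    obtain ⟨f, -⟩ := Cfsg.Agent.S2397.result (K := K) D hD hx
    exact Cfsg.Agent.Lib.Schur.ChevLift.hasCyclicSchurMultiplier_one_of_iso hD
      (Cfsg.Agent.S2395.result D hD hx) hlift f
  have hcard : Fintype.card K = Nat.card K := Nat.card_eq_fintype_card.symm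
  simp only [List.mem_cons, List.not_mem_nil, or_false] at he
  rcases he with rfl | rfl | rfl | rfl
  · exact key (by simp [Cfsg.Agent.Lib.Schur.ChevLift.sevenTypes])
      (fun h => absurd (List.mem_map_of_mem (f := fun D => D.rank) h) (by decide +kernel)) fun π hk hs => ⟨_, Cfsg.Agent.Lib.Schur.ChevLift.laced_E6.rootLift hk hs⟩
  · exact key (by simp [Cfsg.Agent.Lib.Schur.ChevLift.sevenTypes])
      (fun h => absurd (List.mem_map_of_mem (f := fun D => D.rank) h) (by decide +kernel)) fun π hk hs => ⟨_, Cfsg.Agent.Lib.Schur.ChevLift.laced_E7.rootLift hk hs⟩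
  · have h3 : 3 ≤ Fintype.card K := by
      have := Fintype.one_lt_card (α := K)
      simp only at hK
      omega
    obtain ⟨c, hc⟩ := IsCyclic.exists_generator (α := Kˣ)
    have ho := orderOf_eq_card_of_forall_mem_zpowers hc
    rw [Nat.card_units, ← hcard] at ho
    have hx : ∃ x : K, x ≠ 0 ∧ x ≠ 1 := ⟨c, c.ne_zero, fun e => by
      rw [Units.val_eq_one.1 e, orderOf_one] at ho
      omega⟩
    refine (fun {C} h => key (D := Cfsg.Lie.chevB2) (by simp [Cfsg.Agent.Lib.Schur.ChevLift.sevenTypes])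
      (fun _ => hx) (C := C) h) (C := Cfsg.Agent.Lib.Chev.B2.cert) ?_
    intro Y _ π hk hs
    rcases Nat.lt_or_ge 4 (Fintype.card K) with h5 | h5
    · refine ⟨_, Cfsg.Agent.Lib.Schur.ChevLift.torusSqOK_B2.rootLift hk hs
        (Cfsg.Agent.Lib.Schur.ChevLift.exists_unit_sq_cube_ne_one (hcard ▸ h5))⟩
    rcases (show Fintype.card K = 3 ∨ Fintype.card K = 4 by omega) with h | h
    · obtain ⟨h3', hall⟩ := Cfsg.Agent.Lib.Schur.ChevLift.three_field h
      exact ⟨_, Cfsg.Agent.Lib.Schur.ChevLift.B2Three.rootLift hk hs h3' hall c (by omega)⟩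
    · exact ⟨_, Cfsg.Agent.Lib.Schur.ChevLift.rootLift_B2_four hk hs c (by omega)⟩
  · have h3 : 3 ≤ Fintype.card K := by
      have := Fintype.one_lt_card (α := K)
      simp only at hK
      omega
    obtain ⟨c, hc⟩ := IsCyclic.exists_generator (α := Kˣ)
    have ho := orderOf_eq_card_of_forall_mem_zpowers hc
    rw [Nat.card_units, ← hcard] at ho
    refine (fun {C} h => key (D := Cfsg.Lie.chevD4) (by simp [Cfsg.Agent.Lib.Schur.ChevLift.sevenTypes])
      (fun h' => absurd (List.mem_map_of_mem (f := fun D => D.rank) h') (by decide +kernel)) (C := C) h) (C := Cfsg.Agent.Lib.Chev.D4.cert) ?_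
    intro Y _ π hk hs
    rcases Nat.lt_or_ge 4 (Fintype.card K) with h5 | h5
    · refine ⟨_, Cfsg.Agent.Lib.Schur.ChevLift.torusOK_D4.rootLift hk hs
        (Cfsg.Agent.Lib.Schur.ChevLift.exists_unit_sq_cube_ne_one (hcard ▸ h5))⟩
    rcases (show Fintype.card K = 3 ∨ Fintype.card K = 4 by omega) with h | h
    · obtain ⟨h3', hall⟩ := Cfsg.Agent.Lib.Schur.ChevLift.three_field h
      exact ⟨_, Cfsg.Agent.Lib.Schur.ChevLift.rootLift_D4_three hk hs c (by omega) h3' hall⟩
    · refine ⟨_, Cfsg.Agent.Lib.Schur.ChevLift.torusMod3_D4.rootLift hk hs c (by omega) fun m m0 m1 => ?_⟩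
      rcases (show m = 1 ∨ m = -1 by omega) with rfl | rfl <;> simp

end Cfsg.Agent.S2400
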