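import Cfsg.Statements.S2401
import Cfsg.Agent.Lib.SteinbergSL.Main
-- import your own Cfsg.Agent.* helpers here

set_option autoImplicit false
open Cfsg

namespace Cfsg.Agent.S2401

/-- The Steinberg presentation of `SL_n` over a finite field for `n ≥ 3`: the group generated by symbols `x_ij(t)` (`i ≠ j`, `t` in the field) subject to `x_ij(t) x_ij(u) = x_ij(t + u)` and, for `i ≠ l`, `x_ij(t) x_kl(u) x_ij(t)⁻¹ x_kl(u)⁻¹ = x_il(tu)` if `j = k` and `= 1` if `j ≠ k`, is isomorphic to `SL_n` by an isomorphism sending `x_ij(t)` to the elementary matrix `1 + t E_ij`. -/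
theorem result {K : Type*} [Field K] [Finite K] (n : ℕ) (hn : 3 ≤ n) :
    ∃ e : PresentedGroup
        ({g : FreeGroup ({ij : Fin n × Fin n // ij.1 ≠ ij.2} × K) | ∃ (a : {ij : Fin n × Fin n // ij.1 ≠ ij.2}) (t u : K),
            g = FreeGroup.of (a, t) * FreeGroup.of (a, u) * (FreeGroup.of (a, t + u))⁻¹} ∪
          {g | ∃ (a b : {ij : Fin n × Fin n // ij.1 ≠ ij.2}) (t u : K), a.1.1 ≠ b.1.2 ∧ a.1.2 ≠ b.1.1 ∧
            g = FreeGroup.of (a, t) * FreeGroup.of (b, u) * (FreeGroup.of (a, t))⁻¹ * (FreeGroup.of (b, u))⁻¹} ∪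
          {g | ∃ (a b : {ij : Fin n × Fin n // ij.1 ≠ ij.2}) (h : a.1.1 ≠ b.1.2) (t u : K), a.1.2 = b.1.1 ∧
            g = FreeGroup.of (a, t) * FreeGroup.of (b, u) * (FreeGroup.of (a, t))⁻¹ * (FreeGroup.of (b, u))⁻¹ *
              (FreeGroup.of (⟨(a.1.1, b.1.2), h⟩, t * u))⁻¹}) ≃* Matrix.SpecialLinearGroup (Fin n) K,
      ∀ (a : {ij : Fin n × Fin n // ij.1 ≠ ij.2}) (t : K), ((e (PresentedGroup.of (a, t)) : Matrix (Fin n) (Fin n) K)) = Matrix.transvection a.1.1 a.1.2 t := by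
  have := Fintype.ofFinite K
  set R := ({g : FreeGroup ({ij : Fin n × Fin n // ij.1 ≠ ij.2} × K) | ∃ (a : {ij : Fin n × Fin n // ij.1 ≠ ij.2}) (t u : K),
            g = FreeGroup.of (a, t) * FreeGroup.of (a, u) * (FreeGroup.of (a, t + u))⁻¹} ∪
          {g | ∃ (a b : {ij : Fin n × Fin n // ij.1 ≠ ij.2}) (t u : K), a.1.1 ≠ b.1.2 ∧ a.1.2 ≠ b.1.1 ∧
            g = FreeGroup.of (a, t) * FreeGroup.of (b, u) * (FreeGroup.of (a, t))⁻¹ * (FreeGroup.of (b, u))⁻¹} ∪
          {g | ∃ (a b : {ij : Fin n × Fin n // ij.1 ≠ ij.2}) (h : a.1.1 ≠ b.1.2) (t u : K), a.1.2 = b.1.1 ∧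
            g = FreeGroup.of (a, t) * FreeGroup.of (b, u) * (FreeGroup.of (a, t))⁻¹ * (FreeGroup.of (b, u))⁻¹ *
              (FreeGroup.of (⟨(a.1.1, b.1.2), h⟩, t * u))⁻¹}) with hR
  let v : {ij : Fin n × Fin n // ij.1 ≠ ij.2} × K → Matrix.SpecialLinearGroup (Fin n) K := fun p =>
    ⟨Matrix.transvection p.1.1.1 p.1.1.2 p.2, Matrix.det_transvection_of_ne _ _ p.1.2 p.2⟩
  have hv : ∀ a t, (v (a, t) : Matrix (Fin n) (Fin n) K) = 1 + Matrix.single a.1.1 a.1.2 t := fun _ _ => rfl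
  have hrel : ∀ r ∈ R, FreeGroup.lift v r = 1 := by
    rintro r ((⟨a, t, u, rfl⟩ | ⟨a, b, t, u, h1, h2, rfl⟩) | ⟨a, b, h, t, u, h2, rfl⟩)
    · rw [map_mul, map_mul, map_inv, FreeGroup.lift_apply_of, FreeGroup.lift_apply_of, FreeGroup.lift_apply_of,
        mul_inv_eq_one]
      refine Subtype.ext ?_
      rw [Matrix.SpecialLinearGroup.coe_mul]
      exact Matrix.transvection_mul_transvection_same a.1.1 a.1.2 a.2 t u
    · simp only [map_mul, map_inv, FreeGroup.lift_apply_of]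
      rw [mul_inv_eq_one, mul_inv_eq_iff_eq_mul]
      refine Subtype.ext ?_
      rw [Matrix.SpecialLinearGroup.coe_mul, Matrix.SpecialLinearGroup.coe_mul, hv, hv]
      exact Cfsg.Agent.Lib.BoundedPresentation.SLStd.tv_comm h2 (Ne.symm h1) t u
    · simp only [map_mul, map_inv, FreeGroup.lift_apply_of]
      rw [mul_inv_eq_one, mul_inv_eq_iff_eq_mul, mul_inv_eq_iff_eq_mul]
      refine Subtype.ext ?_
      rw [Matrix.SpecialLinearGroup.coe_mul, Matrix.SpecialLinearGroup.coe_mul, Matrix.SpecialLinearGroup.coe_mul,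
        hv, hv, hv]
      obtain ⟨⟨a1, a2⟩, ha⟩ := a
      obtain ⟨⟨b1, b2⟩, hb⟩ := b
      subst h2
      simp only [Matrix.mul_add, Matrix.add_mul, Matrix.one_mul, Matrix.mul_one,
        Matrix.single_mul_single_same, Matrix.single_mul_single_of_ne _ _ _ _ hb.symm,
        Matrix.single_mul_single_of_ne _ _ _ _ h.symm, add_zero]
      abel
  have hone : ∀ {r}, r ∈ R → PresentedGroup.mk R r = 1 := fun hr => PresentedGroup.one_of_mem hr
  let D : Cfsg.Agent.Lib.SteinbergSL.StData n K (PresentedGroup R) :=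
    { X := fun a b t => if h : a ≠ b then PresentedGroup.of (⟨(a, b), h⟩, t) else 1
      φ := PresentedGroup.toGroup hrel
      three := hn
      add := fun {a b} h s t => by
        simp only [dif_pos h]
        have := hone (Or.inl (Or.inl ⟨⟨(a, b), h⟩, s, t, rfl⟩))
        rw [map_mul, map_mul, map_inv, mul_inv_eq_one] at this
        exact this
      comm := fun {a b c d} hab hcd had hbc s t => by
        simp only [dif_pos hab, dif_pos hcd]
        have := hone (Or.inl (Or.inr ⟨⟨(a, b), hab⟩, ⟨(c, d), hcd⟩, s, t, had, hbc, rfl⟩))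
        rw [map_mul, map_mul, map_mul, map_inv, map_inv, mul_inv_eq_one, mul_inv_eq_iff_eq_mul] at this
        exact this
      brak := fun {a b c} hab hbc hac s t => by
        simp only [dif_pos hab, dif_pos hbc, dif_pos hac]
        have := hone (Or.inr ⟨⟨(a, b), hab⟩, ⟨(b, c), hbc⟩, hac, s, t, rfl, rfl⟩)
        rw [map_mul, map_mul, map_mul, map_mul, map_inv, map_inv, map_inv, mul_inv_eq_one] at this
        exact this
      map_X := fun {a b} h t => by
        simp only [dif_pos h]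
        rw [PresentedGroup.toGroup.of]
        rfl
      gen := fun S hS => by
        rw [eq_top_iff, ← PresentedGroup.closure_range_of R, Subgroup.closure_le]
        rintro _ ⟨⟨⟨⟨a, b⟩, h⟩, t⟩, rfl⟩
        have := hS a b h t
        rwa [dif_pos h] at this }
  refine ⟨MulEquiv.ofBijective D.φ D.bijective, fun a t => ?_⟩
  show ((PresentedGroup.toGroup hrel (PresentedGroup.of (a, t)) : Matrix.SpecialLinearGroup (Fin n) K) :
    Matrix (Fin n) (Fin n) K) = _
  rw [PresentedGroup.toGroup.of]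

end Cfsg.Agent.S2401
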