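import Cfsg.Statements.S2402
import Cfsg.Agent.Lib.LinGroup.Generation
import Mathlib

set_option autoImplicit false
open Cfsg

namespace Cfsg.Agent.S2402

open Matrix Matrix.SpecialLinearGroup
open scoped commutatorElement Fin.NatCast Fin.CommRing

theorem diag_mul_transvection {ι : Type*} [DecidableEq ι] [Fintype ι] {K : Type*} [Field K] (D : ι → K)
    (hD : ∀ a, D a ≠ 0) {i j : ι} (hij : i ≠ j) (c : K) (g : Matrix.SpecialLinearGroup ι K)
    (hg : (g : Matrix ι ι K) = diagonal D) :
    g * transvection hij c * g⁻¹ = transvection hij (c * D i / D j) := by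
  rw [mul_inv_eq_iff_eq_mul]
  refine Subtype.ext ?_
  rw [Matrix.SpecialLinearGroup.coe_mul, Matrix.SpecialLinearGroup.coe_mul, hg,
    Lib.LinGroup.coe_transvection hij, Lib.LinGroup.coe_transvection hij, Matrix.transvection,
    Matrix.transvection, mul_add, add_mul, mul_one, one_mul]
  congr 1
  ext a b
  rw [diagonal_mul, mul_diagonal, Matrix.single_apply, Matrix.single_apply]
  split_ifs with h
  · obtain ⟨rfl, rfl⟩ := h
    field_simp [hD j]
  · simp

section Cycle

variable {K : Type*} [Field K] {n : ℕ} (s : Fin (n + 1) → K) (hs : ∀ a, s a ≠ 0)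
  (w : Matrix.SpecialLinearGroup (Fin (n + 1)) K)
  (hw : ∀ a b, (w : Matrix (Fin (n + 1)) (Fin (n + 1)) K) a b = if b = a + 1 then s a else 0)

include hw in
theorem cycle_mul_diag (D : Fin (n + 1) → K) :
    (w : Matrix (Fin (n + 1)) (Fin (n + 1)) K) * diagonal D =
      diagonal (fun a => D (a + 1)) * (w : Matrix (Fin (n + 1)) (Fin (n + 1)) K) := by
  ext a b
  rw [mul_diagonal, diagonal_mul, hw]
  split_ifs with h
  · subst h; ring
  · simp

include hs hw in
theorem cycle_conj_transvection {i j : Fin (n + 1)} (hij : i + 1 ≠ j + 1) (h' : i ≠ j) (c : K) :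
    w * transvection hij c * w⁻¹ = transvection h' (s i * c / s j) := by
  rw [mul_inv_eq_iff_eq_mul]
  refine Subtype.ext ?_
  rw [Matrix.SpecialLinearGroup.coe_mul, Matrix.SpecialLinearGroup.coe_mul,
    Lib.LinGroup.coe_transvection hij, Lib.LinGroup.coe_transvection h', Matrix.transvection,
    Matrix.transvection, mul_add, add_mul, mul_one, one_mul]
  congr 1
  ext a b
  rcases eq_or_ne b (j + 1) with rfl | hb
  · rw [Matrix.mul_single_apply_same, hw]
    rcases eq_or_ne a i with rfl | ha
    · rw [Matrix.single_mul_apply_same, hw, if_pos rfl, if_pos rfl]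
      field_simp [hs j]
    · rw [Matrix.single_mul_apply_of_ne _ _ _ _ _ ha, if_neg (fun h => ha (add_right_cancel h).symm), zero_mul]
  · rw [Matrix.mul_single_apply_of_ne _ _ _ _ _ hb]
    rcases eq_or_ne a i with rfl | ha
    · rw [Matrix.single_mul_apply_same, hw, if_neg hb, mul_zero]
    · rw [Matrix.single_mul_apply_of_ne _ _ _ _ _ ha]

end Cycle

/-- Explicit two-element generation of `PSL_{n+1}(K)` for a finite field `K` with more than three elements: let `k` generate the multiplicative group of `K`, `h = diag(k, k⁻¹, 1, …, 1)`, `x = 1 + E₁₂` (the elementary transvection) and `w` the monomial matrix with entries `1` in positions `(i, i+1)` and `(−1)^n` in position `(n+1, 1)`. Then `h` and `x·w` generate `SL_{n+1}(K)` modulo its centre: the subgroup they generate together with the centre is everything. -/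
theorem result {K : Type*} [Field K] [Fintype K] (hK : 3 < Fintype.card K) (n : ℕ) (hn : 1 ≤ n)
    (k : Kˣ) (hk : ∀ u : Kˣ, u ∈ Subgroup.zpowers k)
    (h x w : Matrix.SpecialLinearGroup (Fin (n + 1)) K)
    (hh : (h : Matrix (Fin (n + 1)) (Fin (n + 1)) K) =
      Matrix.diagonal (fun i => if i.val = 0 then (k : K) else if i.val = 1 then ((k⁻¹ : Kˣ) : K) else 1))
    (hx : (x : Matrix (Fin (n + 1)) (Fin (n + 1)) K) = Matrix.transvection (0 : Fin (n + 1)) (1 : Fin (n + 1)) 1)
    (hw : (w : Matrix (Fin (n + 1)) (Fin (n + 1)) K) =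
      Matrix.of (fun i j => if j.val = i.val + 1 then 1 else if i.val = n ∧ j.val = 0 then (-1) ^ n else 0)) :
    Subgroup.closure ({h, x * w} : Set (Matrix.SpecialLinearGroup (Fin (n + 1)) K)) ⊔
      Subgroup.center (Matrix.SpecialLinearGroup (Fin (n + 1)) K) = ⊤ := by
  classical
  obtain ⟨n, rfl⟩ := Nat.exists_eq_add_of_le' hn
  have hk3 : (k : K) ^ 2 ≠ 1 := fun hc => by
    have h2 : k ^ 2 = 1 := Units.ext (by simpa using hc)
    have := orderOf_eq_card_of_forall_mem_zpowers hk
    rw [Nat.card_units, Nat.card_eq_fintype_card] at this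
    have := Nat.le_of_dvd (by norm_num) (orderOf_dvd_of_pow_eq_one h2)
    omega
  have hk1 : (k : K) ≠ 1 := fun hc => hk3 (by rw [hc, one_pow])
  have hk0 : (k : K) ≠ 0 := k.ne_zero
  suffices hH : Subgroup.closure ({h, x * w} : Set (Matrix.SpecialLinearGroup (Fin (n + 1 + 1)) K)) = ⊤ by
    rw [hH, top_sup_eq]
  set H := Subgroup.closure ({h, x * w} : Set (Matrix.SpecialLinearGroup (Fin (n + 1 + 1)) K))
  have hhH : h ∈ H := Subgroup.subset_closure (by simp)
  have hyH : x * w ∈ H := Subgroup.subset_closure (by simp)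
  let D : Fin (n + 1 + 1) → K := fun i => if i.val = 0 then (k : K) else if i.val = 1 then ((k⁻¹ : Kˣ) : K) else 1
  have hD : ∀ a, D a ≠ 0 := fun a => by simp only [D]; split_ifs <;> simp
  let s : Fin (n + 1 + 1) → K := fun a => if a.val = n + 1 then (-1) ^ (n + 1) else 1
  have hs : ∀ a, s a ≠ 0 := fun a => by simp only [s]; split_ifs <;> simp
  have hw' : ∀ a b, (w : Matrix (Fin (n + 1 + 1)) (Fin (n + 1 + 1)) K) a b = if b = a + 1 then s a else 0 := by
    intro a b
    rw [hw, Matrix.of_apply]
    have e : b = a + 1 ↔ b.val = if a = Fin.last (n + 1) then 0 else a.val + 1 := by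
      rw [Fin.ext_iff, Fin.val_add_one]
    simp only [e]
    have hb := b.isLt
    have ha := a.isLt
    rcases eq_or_ne a (Fin.last (n + 1)) with rfl | hne
    · simp only [Fin.val_last, if_true, s]
      rcases eq_or_ne b.val 0 with h0 | h0
      · rw [if_neg (by omega), if_pos ⟨trivial, h0⟩, if_pos h0]
      · rw [if_neg (by omega), if_neg (fun h => h0 h.2), if_neg h0]
    · have : a.val ≠ n + 1 := fun hc => hne (Fin.ext hc)
      simp only [if_neg hne, s, if_neg this, this, false_and, if_false]
  have h01 : (0 : Fin (n + 1 + 1)) ≠ 1 := by simp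
  have hx' : x = transvection h01 1 := Subtype.ext (by rw [hx, Lib.LinGroup.coe_transvection])
  let X : K → Matrix.SpecialLinearGroup (Fin (n + 1 + 1)) K := fun c => transvection h01 c
  have hXadd : ∀ a b, X (a + b) = X a * X b := fun a b => by
    refine Subtype.ext ?_
    rw [Matrix.SpecialLinearGroup.coe_mul]
    simp only [X, Lib.LinGroup.coe_transvection]
    exact (Matrix.transvection_mul_transvection_same _ _ h01 a b).symm
  have hhX : ∀ c, h * X c * h⁻¹ = X (c * (k : K) ^ 2) := fun c => by
    rw [diag_mul_transvection D hD h01 c h hh]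
    simp only [X, D]
    congr 1
    simp [field]
  set h' := w * h * w⁻¹ with hh'
  have hh'e : (h' : Matrix (Fin (n + 1 + 1)) (Fin (n + 1 + 1)) K) = diagonal (fun a => D (a + 1)) := by
    have h1 : h' * w = w * h := by simp [hh']
    have h2 : (h' : Matrix (Fin (n + 1 + 1)) (Fin (n + 1 + 1)) K) * (w : Matrix (Fin (n + 1 + 1)) (Fin (n + 1 + 1)) K) =
        (w : Matrix (Fin (n + 1 + 1)) (Fin (n + 1 + 1)) K) * (h : Matrix (Fin (n + 1 + 1)) (Fin (n + 1 + 1)) K) :=
      congrArg Subtype.val h1
    rw [hh, cycle_mul_diag s w hw' D] at h2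
    have hu : IsUnit (w : Matrix (Fin (n + 1 + 1)) (Fin (n + 1 + 1)) K).det := by rw [w.det_coe]; exact isUnit_one
    have h3 := congrArg (· * (w : Matrix (Fin (n + 1 + 1)) (Fin (n + 1 + 1)) K)⁻¹) h2
    simp only [Matrix.mul_assoc, Matrix.mul_nonsing_inv _ hu, mul_one] at h3
    exact h3
  let l : K := D (0 + 1) / D (1 + 1)
  have hh'X : ∀ c, h' * X c * h'⁻¹ = X (c * l) := fun c => by
    rw [diag_mul_transvection (fun a => D (a + 1)) (fun a => hD _) h01 c h' hh'e]
    simp only [X, l]
    congr 1
    ring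
  have hl : l ≠ 1 := by
    simp only [l, D]
    rcases Nat.eq_zero_or_pos n with rfl | hn'
    · simp only [zero_add, Fin.val_one, one_ne_zero, if_false, if_true]
      rw [show ((1 : Fin 2) + 1).val = 0 from rfl]
      simp only [if_true]
      intro hc
      rw [div_eq_one_iff_eq hk0, Units.val_inv_eq_inv_val] at hc
      exact hk3 (by rw [pow_two]; nth_rw 1 [← hc]; exact inv_mul_cancel₀ hk0)
    · have h2 : ((1 : Fin (n + 1 + 1)) + 1).val = 2 := by
        rw [Fin.val_add_one, if_neg (fun hc => by simp [Fin.ext_iff] at hc; omega)]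
        simp
      simp only [zero_add, Fin.val_one, one_ne_zero, if_false, if_true, h2]
      simp [hk1]
  let c0 : K := ((k : K) ^ 2 - 1) * (1 - l)
  have hc0 : c0 ≠ 0 := mul_ne_zero (sub_ne_zero.2 hk3) (sub_ne_zero.2 (Ne.symm hl))
  have hcomm : h * h' = h' * h := by
    refine Subtype.ext ?_
    change (h : Matrix (Fin (n + 1 + 1)) (Fin (n + 1 + 1)) K) * (h' : Matrix (Fin (n + 1 + 1)) (Fin (n + 1 + 1)) K) =
      (h' : Matrix (Fin (n + 1 + 1)) (Fin (n + 1 + 1)) K) * (h : Matrix (Fin (n + 1 + 1)) (Fin (n + 1 + 1)) K)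
    rw [hh, hh'e,
      Matrix.diagonal_mul_diagonal, Matrix.diagonal_mul_diagonal]
    exact congrArg _ (funext fun a => mul_comm _ _)
  have hc0H : X c0 ∈ H := by
    have hX0 : X 0 = 1 := by
      have := hXadd 0 0
      rw [add_zero] at this
      exact mul_eq_left.1 this.symm
    have hXneg : ∀ a, (X a)⁻¹ = X (-a) := fun a => inv_eq_of_mul_eq_one_right (by rw [← hXadd, add_neg_cancel, hX0])
    have hb : (x * w) * h * (x * w)⁻¹ = X 1 * h' * (X 1)⁻¹ := by rw [hh', show X 1 = x from hx'.symm]; group
    have h1 : X c0 = h * ((x * w) * h * (x * w)⁻¹) * h⁻¹ * ((x * w) * h * (x * w)⁻¹)⁻¹ := by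
      rw [hb]
      have e1 : h * (X 1 * h' * (X 1)⁻¹) * h⁻¹ = (h * X 1 * h⁻¹) * h' * (h * X 1 * h⁻¹)⁻¹ := by
        have : h * h' * h⁻¹ = h' := by rw [hcomm, mul_inv_cancel_right]
        calc h * (X 1 * h' * (X 1)⁻¹) * h⁻¹
            = (h * X 1 * h⁻¹) * (h * h' * h⁻¹) * (h * X 1 * h⁻¹)⁻¹ := by group
          _ = _ := by rw [this]
      rw [e1, hhX, one_mul]
      calc X c0 = X ((k : K) ^ 2) * X ((-(k : K) ^ 2 + 1) * l) * X (-1) := by
            rw [← hXadd, ← hXadd]; congr 1; simp only [c0]; ring
        _ = X ((k : K) ^ 2) * (h' * (X (-(k : K) ^ 2) * X 1) * h'⁻¹) * X (-1) := by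
            rw [← hXadd (-(k : K) ^ 2) 1, hh'X]
        _ = _ := by rw [← hXneg, ← hXneg]; group
    rw [h1]
    exact mul_mem (mul_mem (mul_mem hhH (mul_mem (mul_mem hyH hhH) (inv_mem hyH))) (inv_mem hhH))
      (inv_mem (mul_mem (mul_mem hyH hhH) (inv_mem hyH)))
  have hXH : ∀ c, X c ∈ H := by
    have hsq : ∀ a : K, a ≠ 0 → X (c0 * a ^ 2) ∈ H := by
      intro a ha
      obtain ⟨z, hz⟩ := (mem_powers_iff_mem_zpowers.2 (hk (Units.mk0 a ha)))
      have : ∀ m : ℕ, X (c0 * ((k : K) ^ m) ^ 2) ∈ H := fun m => by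
        induction m with
        | zero => simpa using hc0H
        | succ m ih =>
          have := mul_mem (mul_mem hhH ih) (inv_mem hhH)
          rw [hhX] at this
          convert this using 2
          ring
      have e : (k : K) ^ z = a := by
        have := congrArg Units.val hz
        simpa using this
      rw [← e]
      exact this z
    have hsq' : ∀ a : K, X (c0 * a ^ 2) ∈ H := fun a => by
      rcases eq_or_ne a 0 with rfl | ha
      · have : X (c0 * (0 : K) ^ 2) = 1 := by
          have h0 := hXadd 0 0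
          rw [add_zero] at h0
          rw [zero_pow (by norm_num), mul_zero]
          exact mul_eq_left.1 h0.symm
        rw [this]; exact one_mem _
      · exact hsq a ha
    intro c
    by_cases h2 : (2 : K) = 0
    · haveI : CharP K 2 := CharTwo.of_one_ne_zero_of_two_eq_zero one_ne_zero h2
      obtain ⟨a, ha⟩ := (FiniteField.isSquare_of_char_two (CharP.eq (R := K) (p := ringChar K) (q := 2)
        (ringChar.charP K) inferInstance) (c / c0))
      have := hsq' a
      rwa [pow_two, ← ha, mul_div_cancel₀ _ hc0] at this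
    · have h1 := hsq' ((c / c0 + 1) / 2)
      have h3 := hsq' ((c / c0 - 1) / 2)
      have : X c = X (c0 * ((c / c0 + 1) / 2) ^ 2) * (X (c0 * ((c / c0 - 1) / 2) ^ 2))⁻¹ := by
        rw [eq_mul_inv_iff_mul_eq, ← hXadd]
        congr 1
        field_simp
        ring
      rw [this]
      exact mul_mem h1 (inv_mem h3)
  have hwH : w ∈ H := by
    have := mul_mem (inv_mem (hXH 1)) hyH
    rwa [hx', inv_mul_cancel_left] at this
  refine Lib.LinGroup.eq_top_of_transvection_mem _ ?_
  have hstep : ∀ (m : ℕ) (i : Fin (n + 1 + 1)) (hi : i ≠ i + 1) (c : K),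
      (m : Fin (n + 1 + 1)) + i = 0 → transvection hi c ∈ H := by
    intro m
    induction m with
    | zero =>
      intro i hi c hi0
      have : i = 0 := by simpa using hi0
      subst this
      have := hXH c
      convert this using 2
      exact zero_add 1
    | succ m ih =>
      intro i hi c hi0
      have hne : i + 1 ≠ i + 1 + 1 := fun hc => hi (add_right_cancel hc)
      have h1 := mul_mem (mul_mem hwH (ih (i + 1) hne (c * s (i + 1) / s i)
        (by rw [← hi0]; push_cast; ring))) (inv_mem hwH)
      rw [cycle_conj_transvection s hs w hw' hne hi] at h1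
      convert h1 using 2
      field_simp [hs i, hs (i + 1)]
  have hadj : ∀ (i : Fin (n + 1 + 1)) (hi : i ≠ i + 1) (c : K), transvection hi c ∈ H := fun i hi c =>
    hstep (-i).val i hi c (by rw [Fin.cast_val_eq_self, neg_add_cancel])
  have hall : ∀ (m : ℕ) (i j : Fin (n + 1 + 1)) (hij : i ≠ j) (c : K), m < n + 1 + 1 → i + (m : Fin (n + 1 + 1)) = j →
      transvection hij c ∈ H := by
    intro m
    induction m with
    | zero => intro i j hij c _ hj; exact absurd (by simpa using hj) hij
    | succ m ih =>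
      intro i j hij c hm hj
      have hi1 : i ≠ i + 1 := by simp
      rcases Nat.eq_zero_or_pos m with rfl | hm0
      · have : j = i + 1 := by simpa using hj.symm
        subst this
        exact hadj i hij c
      · have hkj : i + 1 ≠ j := fun hc => by
          have h5 : ((m : ℕ) : Fin (n + 1 + 1)) = 0 := by
            rw [← hj] at hc
            push_cast at hc
            linear_combination -hc
          have h6 := congrArg Fin.val h5
          rw [Fin.val_natCast, Nat.mod_eq_of_lt (by omega), Fin.val_zero] at h6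
          omega
        rw [← Lib.LinGroup.transvection_eq_commutator hij hi1 hkj c, commutatorElement_def]
        have e := ih (i + 1) j hkj 1 (by omega) (by rw [← hj]; push_cast; ring)
        exact mul_mem (mul_mem (mul_mem (hadj i hi1 c) e) (inv_mem (hadj i hi1 c))) (inv_mem e)
  intro i j hij c
  exact hall (j - i).val i j hij c (j - i).isLt (by rw [Fin.cast_val_eq_self, add_sub_cancel])

end Cfsg.Agent.S2402
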