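import Cfsg.Statements.S2403
import Cfsg.Agent.Lib.LinGroup.Generation
import Mathlib

set_option autoImplicit false
open Cfsg

namespace Cfsg.Agent.S2403

open Matrix Cfsg.Agent.Lib.LinGroup

variable {K : Type*} [Field K]

/-- Elementary transvection. -/
noncomputable def tr {ι : Type*} [DecidableEq ι] [Fintype ι] (i j : ι) (c : K) : Matrix ι ι K :=
  Matrix.transvection i j c

theorem comm_formula {ι : Type*} [DecidableEq ι] [Fintype ι] {i j l : ι} (hij : i ≠ j) (hjl : j ≠ l)
    (hil : i ≠ l) (a b : K) :
    Matrix.SpecialLinearGroup.transvection hil (a * b) =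
      Matrix.SpecialLinearGroup.transvection hij a * Matrix.SpecialLinearGroup.transvection hjl b *
        (Matrix.SpecialLinearGroup.transvection hij a)⁻¹ * (Matrix.SpecialLinearGroup.transvection hjl b)⁻¹ := by
  rw [eq_mul_inv_iff_mul_eq, eq_mul_inv_iff_mul_eq]
  refine SL_ext_mulVec fun v k => ?_
  simp only [Matrix.SpecialLinearGroup.coe_mul, coe_transvection, ← Matrix.mulVec_mulVec,
    transvection_mulVec_apply]
  by_cases hk : k = i
  · subst hk
    simp [hij, hij.symm, hjl, hjl.symm, hil, hil.symm]
    ring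
  · by_cases hk2 : k = j
    · subst hk2; simp [hk, hjl, hjl.symm, hil.symm, hij.symm]
    · simp [hk, hk2]

theorem trans_add {ι : Type*} [DecidableEq ι] [Fintype ι] {i j : ι} (hij : i ≠ j) (a b : K) :
    Matrix.SpecialLinearGroup.transvection hij (a + b) =
      Matrix.SpecialLinearGroup.transvection hij a * Matrix.SpecialLinearGroup.transvection hij b := by
  refine Subtype.ext ?_
  rw [Matrix.SpecialLinearGroup.coe_mul, coe_transvection, coe_transvection, coe_transvection,
    Matrix.transvection_mul_transvection_same _ _ hij]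

theorem surj_natCast [Fintype K] (hK : Fintype.card K ≤ 3) (c : K) : ∃ k : ℕ, c = k := by
  obtain ⟨p, hp⟩ := CharP.exists K
  obtain ⟨e, hpp, he⟩ := FiniteField.card K p
  haveI : Fact p.Prime := ⟨hpp⟩
  have he1 : (e : ℕ) = 1 := by
    have h1 := hpp.two_le
    have h3 := e.pos
    by_contra hne
    have h2 : p ^ 2 ≤ p ^ (e : ℕ) := Nat.pow_le_pow_right hpp.pos (by omega)
    nlinarith
  have hbij : Function.Bijective (ZMod.castHom dvd_rfl K : ZMod p → K) := by
    rw [Fintype.bijective_iff_injective_and_card]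
    exact ⟨RingHom.injective _, by rw [ZMod.card, he, he1, pow_one]⟩
  obtain ⟨z, hz⟩ := hbij.2 c
  refine ⟨z.val, ?_⟩
  rw [← hz, ← ZMod.natCast_zmod_val z, map_natCast, ZMod.natCast_zmod_val]

/-- The pairs `(i, j)` all whose transvections lie in `H`. -/
def Full {ι : Type*} [DecidableEq ι] [Fintype ι] (H : Subgroup (Matrix.SpecialLinearGroup ι K)) (i j : ι) : Prop :=
  i ≠ j ∧ ∀ (h : i ≠ j) (c : K), Matrix.SpecialLinearGroup.transvection h c ∈ H

theorem Full.trans {ι : Type*} [DecidableEq ι] [Fintype ι] {H : Subgroup (Matrix.SpecialLinearGroup ι K)}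
    {i j l : ι} (h1 : Full H i j) (h2 : Full H j l) (hil : i ≠ l) : Full H i l :=
  ⟨hil, fun h c => by
    rw [← mul_one c, comm_formula h1.1 h2.1 h]
    exact mul_mem (mul_mem (mul_mem (h1.2 _ _) (h2.2 _ _)) (inv_mem (h1.2 _ _))) (inv_mem (h2.2 _ _))⟩

/-- Explicit two-element generation of `PSL_{n+1}(K)` over the fields with two or three elements: with `x = 1 + E₁₂` and `w` the monomial matrix with entries `1` in positions `(i, i+1)` and `(−1)^n` in position `(n+1, 1)`, the elements `x` and `w` generate `SL_{n+1}(K)` modulo its centre. -/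
theorem result {K : Type*} [Field K] [Fintype K] (hK : Fintype.card K ≤ 3) (n : ℕ) (hn : 1 ≤ n)
    (x w : Matrix.SpecialLinearGroup (Fin (n + 1)) K)
    (hx : (x : Matrix (Fin (n + 1)) (Fin (n + 1)) K) = Matrix.transvection (0 : Fin (n + 1)) (1 : Fin (n + 1)) 1)
    (hw : (w : Matrix (Fin (n + 1)) (Fin (n + 1)) K) =
      Matrix.of (fun i j => if j.val = i.val + 1 then 1 else if i.val = n ∧ j.val = 0 then (-1) ^ n else 0)) :
    Subgroup.closure ({x, w} : Set (Matrix.SpecialLinearGroup (Fin (n + 1)) K)) ⊔
      Subgroup.center (Matrix.SpecialLinearGroup (Fin (n + 1)) K) = ⊤ := by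
  classical
  set H := Subgroup.closure ({x, w} : Set (Matrix.SpecialLinearGroup (Fin (n + 1)) K))
  suffices hH : H = ⊤ by rw [hH]; exact top_sup_eq _
  have hwH : w ∈ H := Subgroup.subset_closure (by simp)
  have hxH : x ∈ H := Subgroup.subset_closure (by simp)
  -- action of `w`
  have hwv : ∀ (v : Fin (n + 1) → K) (i : Fin (n + 1)), ((w : Matrix _ _ K) *ᵥ v) i =
      if h : i.val < n then v ⟨i.val + 1, by omega⟩ else (-1 : K) ^ n * v 0 := by
    intro v i
    rw [hw]
    simp only [Matrix.mulVec, dotProduct, Matrix.of_apply]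
    by_cases h : i.val < n
    · rw [dif_pos h, Finset.sum_eq_single (⟨i.val + 1, by omega⟩ : Fin (n + 1))]
      · simp
      · intro b _ hb
        rw [if_neg fun e => hb (Fin.ext e), if_neg (by omega), zero_mul]
      · simp
    · rw [dif_neg h, Finset.sum_eq_single (0 : Fin (n + 1))]
      · rw [if_neg (by simp), if_pos ⟨by omega, rfl⟩]
      · intro b _ hb
        rw [if_neg (by omega), if_neg fun e => hb (Fin.ext e.2), zero_mul]
      · simp
  have hstep : ∀ (i : ℕ) (hi : i + 1 < n + 1) (hi' : i + 1 + 1 < n + 1) (c : K),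
      Matrix.SpecialLinearGroup.transvection
        (show (⟨i, by omega⟩ : Fin (n + 1)) ≠ ⟨i + 1, hi⟩ by simp) c * w =
      w * Matrix.SpecialLinearGroup.transvection
        (show (⟨i + 1, hi⟩ : Fin (n + 1)) ≠ ⟨i + 1 + 1, hi'⟩ by simp) c := by
    intro i hi hi' c
    refine SL_ext_mulVec fun v k => ?_
    simp only [Matrix.SpecialLinearGroup.coe_mul, coe_transvection, ← Matrix.mulVec_mulVec,
      transvection_mulVec_apply, hwv]
    by_cases hk : k = ⟨i, by omega⟩
    · subst hk
      simp [show i < n by omega, show i + 1 < n by omega]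
    · rw [if_neg hk]
      by_cases h1 : k.val < n
      · rw [dif_pos h1, dif_pos h1, if_neg]
        intro e
        exact hk (Fin.ext (by simpa using congrArg Fin.val e))
      · rw [dif_neg h1, dif_neg h1, if_neg]
        simp [Fin.ext_iff]
  have hx' : ∀ h : (0 : Fin (n + 1)) ≠ 1, Matrix.SpecialLinearGroup.transvection h (1 : K) = x :=
    fun h => Subtype.ext hx.symm
  have h01 : (0 : Fin (n + 1)) ≠ 1 := by
    intro h
    have := congrArg Fin.val h
    simp [Nat.one_mod_eq_one.2 (show n + 1 ≠ 1 by omega)] at this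
  have hone : (1 : Fin (n + 1)) = ⟨1, by omega⟩ := Fin.ext (by simp [Nat.one_mod_eq_one.2 (show n + 1 ≠ 1 by omega)])
  -- natural multiples
  have hnat : ∀ (i j : Fin (n + 1)) (h : i ≠ j) (c₀ : K), c₀ ^ 2 = 1 →
      Matrix.SpecialLinearGroup.transvection h c₀ ∈ H → Full H i j := by
    intro i j h c₀ hc₀ hmem
    refine ⟨h, fun h' c => ?_⟩
    obtain ⟨k, hk⟩ := surj_natCast hK (c * c₀)
    have : c = (k : K) * c₀ := by rw [← hk, mul_assoc, ← pow_two, hc₀, mul_one]
    rw [this]
    clear hk this
    induction k with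
    | zero =>
      have : Matrix.SpecialLinearGroup.transvection h' ((0 : ℕ) * c₀) = 1 :=
        Subtype.ext (by rw [coe_transvection]; simp)
      rw [this]; exact one_mem _
    | succ k ih => rw [Nat.cast_succ, add_mul, one_mul, trans_add]; exact mul_mem ih hmem
  have hsucc : ∀ (i : ℕ) (hi : i + 1 < n + 1), Full H ⟨i, by omega⟩ ⟨i + 1, hi⟩ := by
    intro i
    induction i with
    | zero =>
      intro hi
      refine hnat _ _ (by simp) 1 (one_pow 2) ?_
      have h2 : Matrix.SpecialLinearGroup.transvection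
          (show (⟨0, by omega⟩ : Fin (n + 1)) ≠ ⟨0 + 1, hi⟩ by simp) (1 : K) = x := by
        refine Subtype.ext ?_
        rw [coe_transvection, hx, hone]
        rfl
      rw [h2]; exact hxH
    | succ i ih =>
      intro hi
      refine ⟨by simp, fun h c => ?_⟩
      have h2 := hstep i (by omega) hi c
      rw [eq_inv_mul_iff_mul_eq.2 h2.symm]
      exact mul_mem (inv_mem hwH) (mul_mem ((ih (by omega)).2 _ _) hwH)
  have hnlast : (Fin.last n) ≠ (0 : Fin (n + 1)) := by
    intro h
    have := congrArg Fin.val h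
    simp at this
    omega
  have hwrap : Full H (Fin.last n) 0 := by
    refine hnat _ _ hnlast ((-1) ^ n) (by rw [← pow_mul, pow_mul']; simp) ?_
    have heq : Matrix.SpecialLinearGroup.transvection hnlast ((-1 : K) ^ n) * w = w * x := by
      rw [← hx' h01]
      refine SL_ext_mulVec fun v k => ?_
      simp only [Matrix.SpecialLinearGroup.coe_mul, coe_transvection, ← Matrix.mulVec_mulVec,
        transvection_mulVec_apply, hwv]
      by_cases hk : k = Fin.last n
      · subst hk
        have h0 : (0 : Fin (n + 1)).val < n := by rw [Fin.val_zero]; omega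
        have h1 : ¬ (Fin.last n).val < n := by simp
        rw [if_pos rfl, dif_neg h1, dif_pos h0, dif_neg h1]
        have e1 : ∀ h, (⟨(0 : Fin (n + 1)).val + 1, h⟩ : Fin (n + 1)) = 1 := fun h => by
          rw [hone]; exact Fin.ext (by simp)
        rw [e1, if_pos trivial]
        ring
      · have hk' : k.val < n := by
          have := k.isLt
          have : k.val ≠ n := fun e => hk (Fin.ext (by simpa using e))
          omega
        rw [if_neg hk, dif_pos hk', dif_pos hk', if_neg]
        intro e
        have := congrArg Fin.val e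
        rw [Fin.val_zero] at this
        exact Nat.succ_ne_zero _ this
    rw [← eq_mul_inv_iff_mul_eq] at heq
    rw [heq]
    exact mul_mem (mul_mem hwH hxH) (inv_mem hwH)
  have hup : ∀ (d i : ℕ) (h : i + d + 1 < n + 1), Full H ⟨i, by omega⟩ ⟨i + d + 1, h⟩ := by
    intro d
    induction d with
    | zero => intro i h; exact hsucc i h
    | succ d ih =>
      intro i h
      exact (ih i (by omega)).trans (hsucc (i + d + 1) h) (by simp [Fin.ext_iff]; omega)
  have hup' : ∀ i j : Fin (n + 1), i < j → Full H i j := by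
    intro i j hij
    obtain ⟨d, hd⟩ := Nat.exists_eq_add_of_lt (show i.val < j.val from hij)
    have := hup d i.val (hd ▸ j.isLt)
    rwa [show (⟨i.val + d + 1, hd ▸ j.isLt⟩ : Fin (n + 1)) = j from Fin.ext hd.symm] at this
  refine eq_top_of_transvection_mem H fun i j hij c => ?_
  rcases lt_or_gt_of_ne hij with h | h
  · exact (hup' i j h).2 hij c
  · have hi0 : i ≠ 0 := fun e => by simp [e] at h
    have h1 : Full H i 0 := by
      by_cases hi : i = Fin.last n
      · rw [hi]; exact hwrap
      · exact (hup' i _ (Fin.lt_last_iff_ne_last.2 hi)).trans hwrap hi0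
    by_cases hj : j = 0
    · subst hj; exact h1.2 hij c
    · exact (h1.trans (hup' 0 j (Fin.pos_iff_ne_zero.2 hj)) hij).2 hij c

end Cfsg.Agent.S2403
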