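import Cfsg.Statements.S2405
import Mathlib
import Cfsg.Agent.Lib.ChevGeneration.TwoGenSchemes
-- import your own Cfsg.Agent.* helpers here

set_option autoImplicit false
open Cfsg

namespace Cfsg.Agent.S2405
open Cfsg.Lie Cfsg.Agent.Lib.Chev Cfsg.Agent.Lib.ChevGeneration.TwoGen

def certG2T : List (ℕ × ℕ × ℕ × ℕ) := [
    (0,6,0,1), (0,9,0,8), (0,1,0,0), (0,8,0,4), (0,0,0,5), (0,4,0,2), (0,2,0,3), (0,3,0,7)]

def certB2T : List (ℕ × ℕ × ℕ × ℕ) := [
    (0,5,0,6), (0,0,0,3), (0,6,0,2), (0,3,0,7), (0,7,0,4)]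

def certD4T : List (ℕ × ℕ × ℕ × ℕ) := [
    (0,18,0,14), (0,3,0,7), (0,14,0,22), (0,7,0,11), (0,22,0,5), (0,11,0,20), (0,5,0,9), (0,20,0,16),
    (0,16,0,12), (1,18,3,8), (0,8,0,10), (0,10,0,21), (0,21,0,15), (0,15,0,13)]

def certF4T : List (ℕ × ℕ × ℕ × ℕ) := [
    (0,33,0,27), (0,5,0,17), (0,27,0,35), (0,17,0,4), (0,35,0,38), (0,4,0,16), (0,38,0,28),
    (0,16,0,22), (0,28,0,36), (0,22,0,23), (0,36,0,14), (0,23,0,42), (0,14,0,20), (0,42,0,30),
    (0,30,0,43), (0,43,0,31), (0,31,0,25), (0,25,0,24)]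

def certE6T : List (ℕ × ℕ × ℕ × ℕ) := [
    (0,56,0,42), (0,42,0,47), (0,47,0,59), (0,59,0,52), (0,52,0,39), (0,39,0,37), (0,37,0,36),
    (1,56,8,19), (0,19,0,32), (0,32,0,34), (0,34,0,35), (0,35,0,63), (0,63,0,43), (0,43,0,48),
    (0,48,0,60), (0,60,0,15), (0,15,0,29), (1,56,43,58), (0,58,0,51), (0,51,0,65), (0,65,0,44),
    (0,44,0,49), (0,49,0,25), (0,25,0,13), (0,13,0,20), (0,20,0,6), (0,6,0,27), (0,27,0,22),
    (0,22,0,46)]

def certE7T : List (ℕ × ℕ × ℕ × ℕ) := [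
    (0,93,0,73), (0,23,0,51), (0,73,0,79), (0,51,0,45), (0,79,0,96), (0,45,0,28), (0,96,0,85),
    (0,28,0,39), (0,85,0,105), (0,39,0,56), (0,105,0,75), (0,56,0,59), (0,75,0,81), (0,59,0,61),
    (0,81,0,98), (0,61,0,62), (0,98,0,32), (0,62,0,102), (0,32,0,52), (0,102,0,74), (0,74,0,80),
    (0,80,0,97), (0,97,0,86), (0,86,0,69), (0,69,0,66), (0,66,0,64), (0,64,0,63), (1,93,28,49),
    (0,49,0,43), (0,43,0,78), (0,78,0,95), (0,95,0,84), (0,84,0,104), (0,104,0,113), (0,113,0,88),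
    (0,88,0,107), (0,107,0,76), (0,76,0,82), (0,82,0,47)]

def certE8T : List (ℕ × ℕ × ℕ × ℕ) := [
    (0,162,0,135), (0,73,0,89), (0,135,0,142), (0,89,0,62), (0,142,0,165), (0,62,0,102),
    (0,165,0,149), (0,102,0,95), (0,149,0,176), (0,95,0,72), (0,176,0,190), (0,72,0,88),
    (0,190,0,153), (0,88,0,109), (0,153,0,179), (0,109,0,113), (0,179,0,192), (0,113,0,116),
    (0,192,0,154), (0,116,0,118), (0,154,0,180), (0,118,0,119), (0,180,0,138), (0,119,0,173),
    (0,138,0,145), (0,173,0,136), (0,145,0,168), (0,136,0,143), (0,168,0,77), (0,143,0,166),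
    (0,77,0,104), (0,166,0,150), (0,150,0,177), (0,177,0,137), (0,137,0,144), (0,144,0,167),
    (0,167,0,151), (0,151,0,130), (0,130,0,126), (0,126,0,123), (0,123,0,121), (0,121,0,120),
    (1,162,72,100), (0,100,0,93), (0,93,0,141), (0,141,0,164), (0,164,0,148), (0,148,0,175),
    (0,175,0,189), (0,189,0,208), (0,208,0,195), (0,195,0,211), (0,211,0,197), (0,197,0,212),
    (0,212,0,198), (0,198,0,157), (0,157,0,182), (0,182,0,139), (0,139,0,146), (0,146,0,98)]

def certB2P : List (ℕ × ℕ × ℕ × ℕ) := [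
    (0,1,0,5), (0,5,0,6), (0,6,0,2), (1,1,5,3), (0,3,0,7), (0,7,0,4)]

def certD4Z : List (ℕ × ℕ × ℕ × ℕ) := [
    (0,10,0,21), (0,21,0,15), (0,15,0,13), (5,21,18,16), (0,16,0,12), (0,12,0,3), (0,3,0,7),
    (0,7,0,11), (1,10,21,19), (5,19,18,14), (0,14,0,22), (0,22,0,5), (0,5,0,9), (0,9,0,1),
    (0,1,0,18)]

def certE6Z : List (ℕ × ℕ × ℕ × ℕ) := [
    (0,0,0,1), (0,1,0,16), (0,16,0,30), (0,30,0,61), (0,61,0,67), (0,67,0,71), (0,71,0,70),
    (0,70,0,55), (5,16,56,5), (0,5,0,26), (0,26,0,57), (0,57,0,50), (0,50,0,64), (0,64,0,69),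
    (0,69,0,54), (4,55,56,66), (0,66,0,45), (5,26,56,11), (0,11,0,56), (0,56,0,42), (0,42,0,47),
    (0,47,0,59), (0,59,0,52), (0,52,0,39), (0,39,0,37), (0,37,0,36), (4,54,56,65), (0,65,0,44),
    (0,44,0,49), (0,49,0,25), (0,25,0,13), (0,13,0,20), (0,20,0,6), (0,6,0,27), (0,27,0,22),
    (0,22,0,46), (4,45,56,60), (0,60,0,15), (0,15,0,29), (0,29,0,24), (0,24,0,12), (0,12,0,19),
    (0,19,0,32), (0,32,0,34), (0,34,0,35)]

def certE7Z : List (ℕ × ℕ × ℕ × ℕ) := [
    (0,3,0,8), (0,8,0,34), (0,34,0,54), (0,54,0,57), (0,57,0,100), (5,34,93,18), (0,18,0,49),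
    (0,49,0,43), (0,43,0,78), (0,78,0,95), (0,95,0,84), (0,84,0,104), (0,104,0,113), (0,113,0,88),
    (0,88,0,107), (0,107,0,76), (0,76,0,82), (0,82,0,47), (5,49,93,28), (0,28,0,39), (0,39,0,56),
    (0,56,0,59), (0,59,0,61), (0,61,0,62), (0,62,0,102), (0,102,0,74), (0,74,0,80), (0,80,0,97),
    (0,97,0,86), (0,86,0,69), (0,69,0,66), (0,66,0,64), (0,64,0,63), (1,3,100,33), (5,33,93,17),
    (0,17,0,48), (5,48,93,27), (0,27,0,93), (0,93,0,73), (0,73,0,79), (0,79,0,96), (0,96,0,85),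
    (0,85,0,105), (0,105,0,75), (0,75,0,81), (0,81,0,98), (0,98,0,32), (0,32,0,52)]

def certE8Z : List (ℕ × ℕ × ℕ × ℕ) := [
    (0,0,0,15), (0,15,0,21), (0,21,0,36), (0,36,0,78), (5,15,162,8), (0,8,0,16), (0,16,0,22),
    (0,22,0,37), (0,37,0,79), (5,78,162,56), (0,56,0,99), (5,79,162,57), (0,57,0,100), (0,100,0,93),
    (0,93,0,141), (0,141,0,164), (0,164,0,148), (0,148,0,175), (0,175,0,189), (0,189,0,208),
    (0,208,0,195), (0,195,0,211), (0,211,0,197), (0,197,0,212), (0,212,0,198), (0,198,0,157),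
    (0,157,0,182), (0,182,0,139), (0,139,0,146), (0,146,0,98), (5,99,162,71), (0,71,0,162),
    (0,162,0,135), (0,135,0,142), (0,142,0,165), (0,165,0,149), (0,149,0,176), (0,176,0,190),
    (0,190,0,153), (0,153,0,179), (0,179,0,192), (0,192,0,154), (0,154,0,180), (0,180,0,138),
    (0,138,0,145), (0,145,0,168), (0,168,0,77), (0,77,0,104), (5,100,162,72), (0,72,0,88),
    (0,88,0,109), (0,109,0,113), (0,113,0,116), (0,116,0,118), (0,118,0,119), (0,119,0,173),
    (0,173,0,136), (0,136,0,143), (0,143,0,166), (0,166,0,150), (0,150,0,177), (0,177,0,137),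
    (0,137,0,144), (0,144,0,167), (0,167,0,151), (0,151,0,130), (0,130,0,126), (0,126,0,123),
    (0,123,0,121), (0,121,0,120)]

def certF42Z : List (ℕ × ℕ × ℕ × ℕ) := [
    (0,0,0,15), (0,15,0,21), (0,21,0,41), (0,41,0,45), (0,45,0,46), (1,0,46,23), (0,23,0,42),
    (0,42,0,30), (0,30,0,43), (0,43,0,31), (0,31,0,25), (0,25,0,24), (0,24,0,5), (0,5,0,17),
    (0,17,0,4), (0,4,0,16), (0,16,0,22), (5,42,33,38), (0,38,0,28), (0,28,0,36), (0,36,0,14),
    (0,14,0,20), (0,20,0,12), (0,12,0,9), (0,9,0,19), (0,19,0,11), (0,11,0,33), (0,33,0,27)]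

def certF43Z : List (ℕ × ℕ × ℕ × ℕ) := [
    (0,0,0,15), (0,15,0,21), (0,21,0,41), (0,41,0,45), (0,45,0,46), (1,0,46,23), (0,23,0,42),
    (0,42,0,30), (0,30,0,43), (0,43,0,31), (0,31,0,25), (0,25,0,24), (0,24,0,5), (0,5,0,17),
    (0,17,0,4), (0,4,0,16), (0,16,0,22), (5,42,33,38), (0,38,0,28), (0,28,0,36), (0,36,0,14),
    (0,14,0,20), (0,20,0,12), (0,12,0,9), (0,9,0,19), (0,19,0,11), (0,11,0,33), (0,33,0,27)]

/-- The short roots of `G₂` in the orbit of the Coxeter element. -/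
def shortG2 : List (ℕ × ℕ × ℕ × ℕ) := [(0,2,0,3), (0,3,0,7), (0,7,0,9), (0,9,0,8), (0,8,0,4)]

/-- The long roots of `G₂` in the orbit of the Coxeter element. -/
def longG2 : List (ℕ × ℕ × ℕ × ℕ) := [(0,0,0,5), (0,5,0,10), (0,10,0,11), (0,11,0,6), (0,6,0,1)]

theorem g2_short_orbit {C : Cert} {s : ℕ} {l : List (ℕ × ℕ × ℕ × ℕ)} {F : Type*} [Field F]
    {D : ChevalleyDatum} (h : Checked D C) {W : List ℕ} (hW : wordOK D W = true) {L : Subgroup (GL D.Idx F)}
    (hn : nW h F W ∈ L) (hs : s < D.nroots ∧ ∀ t : F, xU h F s t ∈ L)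
    (hl : (l.foldl (fun (o : Option ℕ) st => o.bind fun a =>
      if a = st.2.1 ∧ sig C W a = st.2.2.2 then some st.2.2.2 else none) (some s)).isSome = true) :
    ∀ r ∈ s :: l.map (fun st => st.2.2.2), r < D.nroots ∧ ∀ t : F, xU h F r t ∈ L := by
  induction l generalizing s with
  | nil => simpa using hs
  | cons st l ih =>
    simp only [List.foldl_cons, Option.bind_some] at hl
    split_ifs at hl with hc
    swap
    · have : ∀ l : List (ℕ × ℕ × ℕ × ℕ), (l.foldl (fun (o : Option ℕ) st => o.bind fun a =>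
          if a = st.2.1 ∧ sig C W a = st.2.2.2 then some st.2.2.2 else none) none) = none := by
        intro l; induction l with
        | nil => rfl
        | cons a l ihl => simpa using ihl
      rw [this] at hl
      simp at hl
    intro r hr
    rcases List.mem_cons.1 hr with rfl | hr
    · exact hs
    have hst : st.2.2.2 < D.nroots ∧ ∀ t : F, xU h F st.2.2.2 t ∈ L := by
      rw [← hc.2]
      exact ⟨(nW_conj h (F := F) hW hs.1).1, roots_sig h hW hn hs.1 hs.2⟩
    exact ih hst hl r (by simpa using hr)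

/-- `G₂(3)`. -/
theorem g2_three {F : Type*} [Field F] [Finite F] (hq : Nat.card F = 3) :
    ∃ a b : ↥(chevG2.group F), Subgroup.closure ({a, b} : Set ↥(chevG2.group F)) = ⊤ := by
  haveI ftF : Fintype F := Fintype.ofFinite F
  have h30 : ((3 : ℕ) : F) = 0 := by rw [← hq, Nat.card_eq_fintype_card, FiniteField.cast_card_eq_zero]
  have hR : Rooted chevG2 G2.cert := ⟨checked_G2, descent_G2⟩
  have h : Checked chevG2 G2.cert := checked_G2
  have hprime : (Nat.card F).Prime := hq ▸ Nat.prime_three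
  have hN : chevG2.nroots = 12 := by decide +kernel
  have hk : chevG2.simple 1 = 6 := by decide +kernel
  have h20 : (2 : F) ≠ 0 := fun e => by
    push_cast at h30
    exact one_ne_zero (α := F) (by linear_combination h30 - e)
  set z := xU h F 6 1 * xU h F 5 1 with hz
  set ga := z * xU h F 2 1 with hga
  refine exists_pair (a := ga) (b := nW h F [0, 1])
    (Subgroup.mul_mem _ (Subgroup.mul_mem _ (xU_mem_group h _ _) (xU_mem_group h _ _)) (xU_mem_group h _ _))
    (nW_mem_group h [0, 1]) ?_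
  set L := Subgroup.closure ({ga, nW h F [0, 1]} : Set (GL chevG2.Idx F))
  have haL : ga ∈ L := Subgroup.subset_closure (Or.inl rfl)
  have hn : nW h F [0, 1] ∈ L := Subgroup.subset_closure (Or.inr rfl)
  have hcomm : Commute z (xU h F 2 1) :=
    ((comm_of_all h h30 (r := 6) (s := 2) (by omega) (by omega) (by decide) (by decide +kernel)
        (by decide +kernel) 1 1).symm).mul_left
      ((comm_of_all h h30 (r := 5) (s := 2) (by omega) (by omega) (by decide) (by decide +kernel)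
        (by decide +kernel) 1 1).symm)
  obtain ⟨m, hm, hzm⟩ := exists_pow_z hR (i := 1) (by decide +kernel) (Or.inr rfl) h30
  rw [hk, show ng chevG2 6 = 5 by decide +kernel] at hzm
  have hsm : xU h F 2 (m : F) ∈ L := by
    have := L.pow_mem haL m
    rwa [hga, hcomm.mul_pow, hzm, one_mul, xU_pow, mul_one] at this
  have hall2 : ∀ t : F, xU h F 2 t ∈ L := all_of_prime_card h hprime hm hsm
  have hzL : z ∈ L := by
    have := L.mul_mem haL (L.inv_mem (hall2 1))
    rwa [hga, mul_inv_cancel_right] at this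
  have hW : wordOK chevG2 [0, 1] = true := by decide +kernel
  have hshort := g2_short_orbit (l := shortG2) h hW hn ⟨by omega, hall2⟩ (by decide +kernel)
  have S : ∀ r ∈ [2, 3, 7, 9, 8, 4], ∀ t : F, xU h F r t ∈ L := fun r hr => (hshort r (by simpa [shortG2] using hr)).2
  -- the long part of `x_6(1) x_3(1) x_6(-1)`
  have hA : ∃ a b : F, a ≠ 0 ∧ b ≠ 0 ∧ xU h F 0 a * xU h F 1 b ∈ L := by
    have hc35 : Commute (xU h F 3 1) (xU h F 5 1) :=
      comm_of_all h h30 (r := 5) (s := 3) (by omega) (by omega) (by decide) (by decide +kernel)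
        (by decide +kernel) 1 1
    have e1 := comm_eq h (r := 6) (s := 3) (by omega) (by omega) (by decide) (by decide +kernel) (-1 : F) 1
    rw [show cTerms G2.cert 6 3 = [(4, -1, 1, 1), (2, -1, 1, 2), (0, -1, 1, 3), (1, 2, 2, 3)] by decide +kernel] at e1
    have hconj : z * xU h F 3 1 * z⁻¹ = xU h F 6 1 * xU h F 3 1 * xU h F 6 (-1) := by
      rw [hz, mul_inv_rev, mul_assoc (xU h F 6 1) _ (xU h F 3 1), ← hc35.eq, ← xU_inv h]
      group
    have hw : wordU h ([(4, -1, 1, 1), (2, -1, 1, 2), (0, -1, 1, 3), (1, 2, 2, 3)].map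
        fun c : ℕ × ℤ × ℕ × ℕ => (c.1, (c.2.1 : F) * (- -1) ^ c.2.2.1 * (1 : F) ^ c.2.2.2)) ∈ L := by
      have := L.mul_mem (L.inv_mem (S 3 (by simp) 1))
        (L.mul_mem (L.mul_mem hzL (S 3 (by simp) 1)) (L.inv_mem hzL))
      rw [hconj] at this
      convert this using 1
      rw [mul_assoc (xU h F 6 1), e1, ← xU_inv h]
      group
    simp only [wordU, List.map_cons, List.map_nil, List.prod_cons, List.prod_nil, mul_one, neg_neg, one_pow] at hw
    refine ⟨((-1 : ℤ) : F), ((2 : ℤ) : F), by simp, by simpa using h20, ?_⟩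
    have := L.mul_mem (L.inv_mem (L.mul_mem (S 4 (by simp) ((-1 : ℤ) : F)) (S 2 (by simp) ((-1 : ℤ) : F)))) hw
    convert this using 1
    group
  obtain ⟨a, b, ha, hb, hA⟩ := hA
  obtain ⟨-, e0, he0, hE0⟩ := nW_conj h (F := F) hW (r := 0) (by omega)
  obtain ⟨-, e1, he1, hE1⟩ := nW_conj h (F := F) hW (r := 1) (by omega)
  rw [show sig G2.cert [0, 1] 0 = 5 by decide +kernel] at hE0
  rw [show sig G2.cert [0, 1] 1 = 0 by decide +kernel] at hE1
  have hB : xU h F 5 (e0 * a) * xU h F 0 (e1 * b) ∈ L := by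
    have := L.mul_mem (L.mul_mem hn hA) (L.inv_mem hn)
    rwa [← mul_assoc (nW h F [0, 1]), hE0, mul_assoc (xU h F 5 _), hE1, ← mul_assoc, mul_inv_cancel_right] at this
  have c01 : ∀ t u : F, Commute (xU h F 1 u) (xU h F 0 t) := fun t u =>
    comm_of_all h h30 (r := 0) (s := 1) (by omega) (by omega) (by decide) (by decide +kernel) (by decide +kernel) t u
  have c05 : ∀ t u : F, Commute (xU h F 5 u) (xU h F 0 t) := fun t u =>
    comm_of_all h h30 (r := 0) (s := 5) (by omega) (by omega) (by decide) (by decide +kernel) (by decide +kernel) t u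
  have h0 : ∃ u : F, u ≠ 0 ∧ xU h F 0 u ∈ L := by
    set c := e0 * a with hc
    set d := e1 * b
    have e := comm_eq h (r := 1) (s := 5) (by omega) (by omega) (by decide) (by decide +kernel) b c
    rw [show cTerms G2.cert 1 5 = [(0, 1, 1, 1)] by decide +kernel] at e
    simp only [wordU, List.map_cons, List.map_nil, List.prod_cons, List.prod_nil, mul_one, pow_one] at e
    refine ⟨((1 : ℤ) : F) * (-b) * c, mul_ne_zero (mul_ne_zero (by simp) (neg_ne_zero.2 hb))
      (mul_ne_zero (left_ne_zero_of_mul_eq_one he0) ha), ?_⟩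
    have := L.mul_mem (L.inv_mem (L.mul_mem hA hB)) (L.mul_mem hB hA)
    convert this using 1
    have k1 : xU h F 0 a * xU h F 1 b * (xU h F 5 c * xU h F 0 d) =
        xU h F 0 a * xU h F 0 d * (xU h F 1 b * xU h F 5 c) := by
      rw [(c05 d c).eq, mul_assoc, ← mul_assoc (xU h F 1 b), (c01 d b).eq]
      simp only [mul_assoc]
    have k2 : xU h F 5 c * xU h F 0 d * (xU h F 0 a * xU h F 1 b) =
        xU h F 0 a * xU h F 0 d * (xU h F 5 c * xU h F 1 b) := by
      rw [mul_assoc, ← mul_assoc (xU h F 0 d), ← mul_assoc (xU h F 5 c), xU_add, (c05 (d + a) c).eq, add_comm d a,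
        ← xU_add]
      simp only [mul_assoc]
    rw [k1, k2, e]
    push_cast
    group
  obtain ⟨u, hu, h0⟩ := h0
  have hlong := g2_short_orbit (l := longG2) h hW hn ⟨by omega, all_of_prime_card h hprime hu h0⟩ (by decide +kernel)
  refine group_le_of_runOK hR hW (k := chevG2.nroots) (p := 3) (m := 0) h30 (fun e => absurd rfl e) hn
    (fun hlt => absurd hlt (lt_irrefl _)) [] ([2, 3, 7, 9, 8, 4] ++ [0, 5, 10, 11, 6, 1]) (fun r hr => ?_)
    (by decide +kernel)
  rcases List.mem_append.1 hr with hr | hr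
  · exact hshort r (by simpa [shortG2] using hr)
  · exact hlong r (by simpa [longG2] using hr)


/-- Each Chevalley group of type G₂, B₂, D₄, F₄, E₆, E₇ or E₈ over a finite field is generated by two of its elements (types B₂ and G₂ over the field with two elements, where the group is not simple, excepted). -/
theorem result {F : Type*} [Field F] [Finite F] (D : Cfsg.Lie.ChevalleyDatum) (hD : D ∈ [Cfsg.Lie.chevG2, Cfsg.Lie.chevB2, Cfsg.Lie.chevD4, Cfsg.Lie.chevF4, Cfsg.Lie.chevE6, Cfsg.Lie.chevE7, Cfsg.Lie.chevE8])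
    (hF : D ∈ [Cfsg.Lie.chevB2, Cfsg.Lie.chevG2] → ∃ x : F, x ≠ 0 ∧ x ≠ 1) :
    ∃ a b : ↥(D.group F), Subgroup.closure ({a, b} : Set ↥(D.group F)) = ⊤ := by
  simp only [List.mem_cons, List.not_mem_nil, or_false] at hD
  haveI ftF : Fintype F := Fintype.ofFinite F
  have hcard2 : 2 ≤ Nat.card F := Finite.one_lt_card
  have hcast : ((Nat.card F : ℕ) : F) = 0 := by rw [Nat.card_eq_fintype_card, FiniteField.cast_card_eq_zero]
  rcases Nat.lt_or_ge (Nat.card F) 4 with hlt | hq4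
  swap
  · rcases hD with rfl | rfl | rfl | rfl | rfl | rfl | rfl
    · exact schemeT ⟨checked_G2, descent_G2⟩ hq4 (W := [0,1]) (v := 0) (s := 7) (l := 6) (j := 1) (steps := certG2T) (by decide +kernel)
    · exact schemeT ⟨checked_B2, descent_B2⟩ hq4 (W := [0,1]) (v := 0) (s := 4) (l := 5) (j := 1) (steps := certB2T) (by decide +kernel)
    · exact schemeT ⟨checked_D4, descent_D4⟩ hq4 (W := [0,1,2,3]) (v := 5) (s := 12) (l := 18) (j := 1) (steps := certD4T) (by decide +kernel)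
    · exact schemeT ⟨checked_F4, descent_F4⟩ hq4 (W := [0,1,2,3]) (v := 3) (s := 24) (l := 33) (j := 1) (steps := certF4T) (by decide +kernel)
    · exact schemeT ⟨checked_E6, descent_E6⟩ hq4 (W := [0,1,2,3,4,5]) (v := 5) (s := 36) (l := 56) (j := 1) (steps := certE6T) (by decide +kernel)
    · exact schemeT ⟨checked_E7, descent_E7⟩ hq4 (W := [0,1,2,3,4,5,6]) (v := 0) (s := 63) (l := 93) (j := 1) (steps := certE7T) (by decide +kernel)
    · exact schemeT ⟨checked_E8, descent_E8⟩ hq4 (W := [0,1,2,3,4,5,6,7]) (v := 8) (s := 120) (l := 162) (j := 4) (steps := certE8T) (by decide +kernel)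
  have hnot2 : D ∈ [Cfsg.Lie.chevB2, Cfsg.Lie.chevG2] → Nat.card F = 3 := by
    intro hmem
    obtain ⟨x, hx0, hx1⟩ := hF hmem
    by_contra hne
    have h2 : Nat.card F = 2 := by omega
    obtain ⟨y, z, hyz, huniv⟩ := Nat.card_eq_two_iff.1 h2
    have hmemu : ∀ a : F, a = y ∨ a = z := fun a => by
      have := Set.mem_univ a
      rw [← huniv] at this
      simpa using this
    rcases hmemu x with e1 | e1 <;> rcases hmemu 0 with e2 | e2 <;> rcases hmemu 1 with e3 | e3 <;>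
      first
        | exact hx0 (e1.trans e2.symm)
        | exact hx1 (e1.trans e3.symm)
        | exact zero_ne_one (e2.trans e3.symm)
  have h3 : Nat.card F = 3 → ((3 : ℕ) : F) = 0 := fun e => e ▸ hcast
  have h2 : Nat.card F = 2 → ((2 : ℕ) : F) = 0 := fun e => e ▸ hcast
  have h20' : Nat.card F = 3 → ((2 : ℕ) : F) ≠ 0 := fun e h20 => by
    have h30 := h3 e
    push_cast at h20 h30
    exact one_ne_zero (α := F) (by linear_combination h30 - h20)
  have hp23 : Nat.card F = 2 ∨ Nat.card F = 3 := by omega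
  rcases hD with rfl | rfl | rfl | rfl | rfl | rfl | rfl
  · exact g2_three (hnot2 (by simp))
  · have e := hnot2 (by simp)
    exact schemeP checked_B2 ⟨checked_B2, descent_B2⟩ (e ▸ Nat.prime_three) (W := [0,1]) (p := 3) (m := 2) (s := 1) (h3 e) (fun _ => h20' e) (steps := certB2P) (by decide +kernel)
  · exact schemeZ ⟨checked_D4, descent_D4⟩ hp23 rfl (p' := 0) (m' := 0) (by simp) (fun e0 => absurd rfl e0) (W := [0,1,2,3]) (i := 0) (s := 10) (steps := certD4Z) (by decide +kernel)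
  · rcases hp23 with e | e
    · exact schemeZ ⟨checked_F4, descent_F4⟩ (Or.inl rfl) e (p' := 2) (m' := 0) (h2 e) (fun e0 => absurd rfl e0) (W := [0,1,2,3]) (i := 0) (s := 0) (steps := certF42Z) (by decide +kernel)
    · exact schemeZ ⟨checked_F4, descent_F4⟩ (Or.inr rfl) e (p' := 3) (m' := 2) (h3 e) (fun _ => h20' e) (W := [0,1,2,3]) (i := 0) (s := 0) (steps := certF43Z) (by decide +kernel)
  · exact schemeZ ⟨checked_E6, descent_E6⟩ hp23 rfl (p' := 0) (m' := 0) (by simp) (fun e0 => absurd rfl e0) (W := [0,1,2,3,4,5]) (i := 0) (s := 0) (steps := certE6Z) (by decide +kernel)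
  · exact schemeZ ⟨checked_E7, descent_E7⟩ hp23 rfl (p' := 0) (m' := 0) (by simp) (fun e0 => absurd rfl e0) (W := [0,1,2,3,4,5,6]) (i := 0) (s := 3) (steps := certE7Z) (by decide +kernel)
  · exact schemeZ ⟨checked_E8, descent_E8⟩ hp23 rfl (p' := 0) (m' := 0) (by simp) (fun e0 => absurd rfl e0) (W := [0,1,2,3,4,5,6,7]) (i := 0) (s := 0) (steps := certE8Z) (by decide +kernel)

end Cfsg.Agent.S2405
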