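import Cfsg.Statements.S2410
import Cfsg.Agent.Lib.Suzuki.Simple

set_option autoImplicit false
open Cfsg

namespace Cfsg.Agent.S2410

/-- The Suzuki group over the field with `2^(2m+1)` elements, `m ≥ 1` (realised as the stabiliser in `SL₄` of the Suzuki–Tits ovoid), is generated by two of its elements. -/
theorem result {F : Type*} [Field F] [Fintype F] {m : ℕ} (hm : 1 ≤ m) (hF : Fintype.card F = 2 ^ (2 * m + 1)) :
    ∃ a b : ↥(Cfsg.Sz F m), Subgroup.closure ({a, b} : Set ↥(Cfsg.Sz F m)) = ⊤ := by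
  classical
  have h : Lib.Suzuki.Hyp F m := ⟨hm, hF⟩
  obtain ⟨u₀, hu₀⟩ := IsCyclic.exists_generator (α := Fˣ)
  refine ⟨Lib.Suzuki.szH h u₀, Lib.Suzuki.szW h * Lib.Suzuki.szT h 1 0, ?_⟩
  set X := Subgroup.closure
    ({Lib.Suzuki.szH h u₀, Lib.Suzuki.szW h * Lib.Suzuki.szT h 1 0} : Set (Cfsg.Sz F m)) with hX
  have hT : ∀ u, Lib.Suzuki.szH h u ∈ X := by
    intro u
    obtain ⟨i, hi⟩ := hu₀ u
    rw [← hi]
    show (Lib.Suzuki.szHHom h) (u₀ ^ i) ∈ X
    rw [map_zpow]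
    exact zpow_mem (Subgroup.subset_closure (Set.mem_insert _ _)) i
  set t := Lib.Suzuki.szT h 1 0 with ht
  have hb : Lib.Suzuki.szW h * t ∈ X :=
    Subgroup.subset_closure (Set.mem_insert_of_mem _ rfl)
  -- the conjugate torus
  obtain ⟨u, hu⟩ := Lib.Suzuki.exists_unit_ne_one h
  have hconj : t⁻¹ * Lib.Suzuki.szH h u * t * (Lib.Suzuki.szH h u)⁻¹ ∈ X := by
    refine mul_mem ?_ (inv_mem (hT u))
    have e : t⁻¹ * Lib.Suzuki.szH h u * t =
        (Lib.Suzuki.szW h * t)⁻¹ * Lib.Suzuki.szH h u⁻¹ * (Lib.Suzuki.szW h * t) := by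
      rw [mul_inv_rev, Lib.Suzuki.szW_inv]
      calc t⁻¹ * Lib.Suzuki.szH h u * t =
          t⁻¹ * (Lib.Suzuki.szH h u * (Lib.Suzuki.szW h * Lib.Suzuki.szW h)) * t := by
            rw [Lib.Suzuki.szW_mul_self, mul_one]
        _ = t⁻¹ * (Lib.Suzuki.szH h u * Lib.Suzuki.szW h) * (Lib.Suzuki.szW h * t) := by group
        _ = t⁻¹ * (Lib.Suzuki.szW h * Lib.Suzuki.szH h u⁻¹) * (Lib.Suzuki.szW h * t) := by
            rw [Lib.Suzuki.szW_mul_szH, inv_inv]
        _ = _ := by group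
    rw [e]
    exact mul_mem (mul_mem (inv_mem hb) (hT _)) hb
  obtain ⟨c₀, d₀, hc₀, hcd⟩ : ∃ c₀ d₀, c₀ ≠ 0 ∧ Lib.Suzuki.szT h c₀ d₀ ∈ X := by
    rw [show t⁻¹ * Lib.Suzuki.szH h u * t * (Lib.Suzuki.szH h u)⁻¹ =
      t⁻¹ * (Lib.Suzuki.szH h u * t * (Lib.Suzuki.szH h u)⁻¹) by group, ht,
      Lib.Suzuki.szH_mul_szT, mul_inv_cancel_right, Lib.Suzuki.szT_inv, Lib.Suzuki.szT_mul] at hconj
    refine ⟨_, _, ?_, hconj⟩
    intro e
    refine hu (h.theta_injective ?_)
    rw [Lib.Suzuki.theta_one]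
    linear_combination e - h.two
  have hfst : ∀ a, ∃ b, Lib.Suzuki.szT h a b ∈ X := by
    intro a
    rcases eq_or_ne a 0 with rfl | ha
    · exact ⟨0, by rw [Lib.Suzuki.szT_one]; exact one_mem X⟩
    · obtain ⟨y, hy⟩ := h.theta_surjective (a / c₀)
      have hy0 : y ≠ 0 := fun e => div_ne_zero ha hc₀ (by rw [← hy, e, Lib.Suzuki.theta_zero])
      refine ⟨(y : F) ^ 2 * (a / c₀) * d₀, ?_⟩
      have := mul_mem (mul_mem (hT (Units.mk0 y hy0)) hcd) (inv_mem (hT (Units.mk0 y hy0)))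
      rw [Lib.Suzuki.szH_mul_szT, mul_inv_cancel_right, Units.val_mk0, hy,
        div_mul_cancel₀ a hc₀] at this
      exact this
  have hcen : ∀ b, Lib.Suzuki.szT h 0 b ∈ X := by
    intro b
    have hinj : Function.Injective fun a : F => Lib.Suzuki.theta m a * a := by
      intro a a' e
      have e' : Lib.Suzuki.theta m a * a = Lib.Suzuki.theta m a' * a' := e
      rcases eq_or_ne a' 0 with rfl | ha'
      · rw [mul_zero, mul_eq_zero, Lib.Suzuki.theta_eq_zero] at e'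
        exact e'.elim id id
      · refine (div_eq_one_iff_eq ha').1 (h.eq_one_of_theta_mul ?_ ?_)
        · intro e0
          rw [div_eq_zero_iff] at e0
          obtain rfl : a = 0 := e0.resolve_right ha'
          rw [mul_zero] at e'
          exact mul_ne_zero (Lib.Suzuki.theta_ne_zero ha') ha' e'.symm
        · have := Lib.Suzuki.theta_ne_zero (m := m) ha'
          rw [div_eq_mul_inv, Lib.Suzuki.theta_mul, Lib.Suzuki.theta_inv]
          field_simp
          linear_combination e'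
    obtain ⟨a, ha⟩ := Finite.surjective_of_injective hinj b
    obtain ⟨c, hc⟩ := hfst a
    have := mul_mem hc hc
    rw [← pow_two, Lib.Suzuki.transl_sq] at this
    rw [← ha]
    exact this
  have hQ : ∀ a b, Lib.Suzuki.szT h a b ∈ X := by
    intro a b
    obtain ⟨c, hc⟩ := hfst a
    have := mul_mem hc (hcen (b - c))
    rw [Lib.Suzuki.szT_mul, add_zero, mul_zero, add_zero, add_sub_cancel] at this
    exact this
  have hW : Lib.Suzuki.szW h ∈ X := by
    have := mul_mem hb (inv_mem (hQ 1 0))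
    rwa [ht, mul_inv_cancel_right] at this
  refine eq_top_iff.2 fun g _ => ?_
  rcases Lib.Suzuki.sz_decomp h g with ⟨a, b, v, rfl⟩ | ⟨x, y, a, b, v, rfl⟩
  · exact mul_mem (hQ _ _) (hT _)
  · exact mul_mem (mul_mem (hQ _ _) hW) (mul_mem (hQ _ _) (hT _))

end Cfsg.Agent.S2410
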