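import Cfsg.Statements.S2413
import Mathlib
import Cfsg.Agent.Lib.OrthGen.Standard
import Cfsg.Agent.S2411
import Cfsg.Agent.Lib.Classical.LowRank.OddFive
-- import your own Cfsg.Agent.* helpers here

set_option autoImplicit false
open Cfsg

namespace Cfsg.Agent.S2413


/-- The simple orthogonal group `PΩ_{2m+1}(q)` (commutator subgroup of the orthogonal group of `x₀² + Σ x_i y_i` modulo its centre) with `m ≥ 2` and `q` odd is generated by two of its elements. -/
theorem result {F : Type*} [Field F] [Fintype F] (hodd : Odd (Fintype.card F)) (m : ℕ) (hm : 2 ≤ m) :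
    ∃ a b : Cfsg.POmega F (Cfsg.quadFormOdd m F), Subgroup.closure ({a, b} : Set (Cfsg.POmega F (Cfsg.quadFormOdd m F))) = ⊤ := by
  by_cases h3 : 3 ≤ m
  · obtain ⟨k, rfl⟩ : ∃ k, m = k + 3 := ⟨m - 3, by omega⟩
    exact Lib.OrthGen.exists_pair_odd (Lib.Classical.two_ne_zero_of_odd_card hodd) k
  · obtain rfl : m = 2 := by omega
    obtain ⟨φ⟩ := Lib.Classical.LowRank.nonempty_POmega_five hodd
    obtain ⟨a, b, hab⟩ := S2411.result (F := F) 2 le_rfl fun _ => by
      have h2 : 2 ≤ Fintype.card F := Fintype.one_lt_card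
      obtain ⟨j, hj⟩ := hodd
      omega
    refine ⟨φ.symm a, φ.symm b, ?_⟩
    rw [← Set.image_pair, ← MulEquiv.coe_toMonoidHom, ← MonoidHom.map_closure, hab]
    exact Subgroup.map_top_of_surjective _ φ.symm.surjective

end Cfsg.Agent.S2413
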