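import Cfsg.Statements.S2416
import Cfsg.Agent.Lib.ChevGeneration.Basic

set_option autoImplicit false
open scoped MatrixGroups
open Cfsg

namespace Cfsg.Agent.S2416


open Cfsg.Lie Cfsg.Agent.Lib.Chev Cfsg.Agent.Lib.ChevGeneration

/-- Every fundamental root that is not long covers the root system with multiplier `m`. -/
def shortCovers (D : ChevalleyDatum) (C : Cert) (m : ℕ) : Bool :=
  (List.range D.rank).all fun i => covers D C m [D.simple i] || D.isLong (D.simple i)

theorem le_of_shortCovers {K : Type*} [Field K] {D : ChevalleyDatum} {C : Cert} (h : Rooted D C) {m : ℕ}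
    (hm : m ≠ 0 → (m : K) ≠ 0) (hc : shortCovers D C m = true) {i : ℕ} (hi : i < D.rank)
    (hshort : D.isLong (D.simple i) = false) :
    D.group K ≤ D.monomialSubgroup K ⊔ D.rootSubgroup K (D.simple i) := by
  simp only [shortCovers, List.all_eq_true, List.mem_range, Bool.or_eq_true] at hc
  refine group_le_of_covers h le_sup_left hm (l := [D.simple i]) (fun r hr => ?_)
    ((hc i hi).resolve_right (by simp [hshort]))
  rw [List.mem_singleton.1 hr]
  exact ⟨h.toChecked.simple_lt hi, rootsIn_rootSubgroup h (h.toChecked.simple_lt hi) le_sup_right⟩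

theorem cast_ne_zero_of_ringChar {K : Type*} [Field K] {m : ℕ} (hm : m.Prime) (h : ringChar K ≠ m) : (m : K) ≠ 0 := by
  intro h0
  have : Fact m.Prime := ⟨hm⟩
  exact h (by
    rcases (Nat.dvd_prime hm).1 ((ringChar.spec K m).1 h0) with e | e
    · exact absurd e (CharP.ringChar_ne_one)
    · exact e)


/-- A Chevalley group of type G₂, B₂, D₄, F₄, E₆, E₇ or E₈ over a finite field lies in (indeed equals) the subgroup generated by its monomial subgroup `N` and a single fundamental root subgroup `X_p`, where `p` is a short fundamental root if there are two root lengths (any fundamental root otherwise), provided the characteristic is not 2 for types B₂, F₄ and not 3 for type G₂ (and the field has more than two elements for B₂, G₂). -/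
theorem result {K : Type*} [Field K] [Finite K] (D : Cfsg.Lie.ChevalleyDatum) (hD : D ∈ [Cfsg.Lie.chevG2, Cfsg.Lie.chevB2, Cfsg.Lie.chevD4, Cfsg.Lie.chevF4, Cfsg.Lie.chevE6, Cfsg.Lie.chevE7, Cfsg.Lie.chevE8])
    (hK : D ∈ [Cfsg.Lie.chevB2, Cfsg.Lie.chevG2] → ∃ x : K, x ≠ 0 ∧ x ≠ 1)
    (h2 : D ∈ [Cfsg.Lie.chevB2, Cfsg.Lie.chevF4] → ringChar K ≠ 2) (h3 : D = Cfsg.Lie.chevG2 → ringChar K ≠ 3)
    (i : ℕ) (hi : i < D.rank) (hshort : D.isLong (D.simple i) = false) :
    D.group K ≤ D.monomialSubgroup K ⊔ D.rootSubgroup K (D.simple i) := by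
  simp only [List.mem_cons, List.not_mem_nil, or_false] at hD
  have h0 : (0 : ℕ) ≠ 0 → ((0 : ℕ) : K) ≠ 0 := fun h => absurd rfl h
  rcases hD with rfl | rfl | rfl | rfl | rfl | rfl | rfl
  · exact le_of_shortCovers (m := 3) ⟨checked_G2, descent_G2⟩
      (fun _ => cast_ne_zero_of_ringChar Nat.prime_three (h3 rfl)) (by decide +kernel) hi hshort
  · exact le_of_shortCovers (m := 2) ⟨checked_B2, descent_B2⟩
      (fun _ => cast_ne_zero_of_ringChar Nat.prime_two (h2 (by simp))) (by decide +kernel) hi hshort
  · exact le_of_shortCovers ⟨checked_D4, descent_D4⟩ h0 (by decide +kernel) hi hshort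
  · exact le_of_shortCovers (m := 2) ⟨checked_F4, descent_F4⟩
      (fun _ => cast_ne_zero_of_ringChar Nat.prime_two (h2 (by simp))) (by decide +kernel) hi hshort
  · exact le_of_shortCovers ⟨checked_E6, descent_E6⟩ h0 (by decide +kernel) hi hshort
  · exact le_of_shortCovers ⟨checked_E7, descent_E7⟩ h0 (by decide +kernel) hi hshort
  · exact le_of_shortCovers ⟨checked_E8, descent_E8⟩ h0 (by decide +kernel) hi hshort

end Cfsg.Agent.S2416
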