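import Cfsg.Statements.S2417
import Cfsg.Agent.Lib.ChevGeneration.Basic

set_option autoImplicit false
open scoped MatrixGroups
open Cfsg

namespace Cfsg.Agent.S2417


open Cfsg.Lie Cfsg.Agent.Lib.Chev Cfsg.Agent.Lib.ChevGeneration

/-- A short and a long fundamental root together cover the root system. -/
def pairCovers (D : ChevalleyDatum) (C : Cert) : Bool :=
  (List.range D.rank).all fun i => (List.range D.rank).all fun j =>
    D.isLong (D.simple i) || !D.isLong (D.simple j) || covers D C 0 [D.simple i, D.simple j]

theorem le_of_pairCovers {K : Type*} [Field K] {D : ChevalleyDatum} {C : Cert} (h : Rooted D C)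
    (hc : pairCovers D C = true) {i j : ℕ} (hi : i < D.rank) (hj : j < D.rank)
    (hshort : D.isLong (D.simple i) = false) (hlong : D.isLong (D.simple j) = true) :
    D.group K ≤ D.monomialSubgroup K ⊔ D.rootSubgroup K (D.simple i) ⊔ D.rootSubgroup K (D.simple j) := by
  simp only [pairCovers, List.all_eq_true, List.mem_range, Bool.or_eq_true] at hc
  have hcov := (hc i hi j hj).resolve_left (by simp [hshort, hlong])
  refine group_le_of_covers h (le_sup_left.trans le_sup_left) (m := 0) (fun h0 => absurd rfl h0)
    (l := [D.simple i, D.simple j]) (fun r hr => ?_) hcov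
  simp only [List.mem_cons, List.not_mem_nil, or_false] at hr
  rcases hr with rfl | rfl
  · exact ⟨h.toChecked.simple_lt hi,
      rootsIn_rootSubgroup h (h.toChecked.simple_lt hi) (le_sup_right.trans le_sup_left)⟩
  · exact ⟨h.toChecked.simple_lt hj, rootsIn_rootSubgroup h (h.toChecked.simple_lt hj) le_sup_right⟩


/-- In the characteristics with an exceptional graph symmetry — type B₂ or F₄ in characteristic 2 (field of more than two elements for B₂) and type G₂ in characteristic 3 — the Chevalley group lies in the subgroup generated by its monomial subgroup `N` and the two fundamental root subgroups `X_a`, `X_b` of a short root `a` and a long root `b` joined in the Dynkin diagram. -/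
theorem result {K : Type*} [Field K] [Finite K] (e : Cfsg.Lie.ChevalleyDatum × ℕ)
    (he : e ∈ [(Cfsg.Lie.chevB2, 2), (Cfsg.Lie.chevF4, 2), (Cfsg.Lie.chevG2, 3)]) [CharP K e.2]
    (hK : e.1 = Cfsg.Lie.chevB2 → ∃ x : K, x ≠ 0 ∧ x ≠ 1)
    (i j : ℕ) (hi : i < e.1.rank) (hj : j < e.1.rank) (hshort : e.1.isLong (e.1.simple i) = false)
    (hlong : e.1.isLong (e.1.simple j) = true) (hbond : e.1.bonds i j ≠ 0) :
    e.1.group K ≤ e.1.monomialSubgroup K ⊔ e.1.rootSubgroup K (e.1.simple i) ⊔ e.1.rootSubgroup K (e.1.simple j) := by
  simp only [List.mem_cons, List.not_mem_nil, or_false] at he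
  rcases he with rfl | rfl | rfl
  · exact le_of_pairCovers ⟨checked_B2, descent_B2⟩ (by decide +kernel) hi hj hshort hlong
  · exact le_of_pairCovers ⟨checked_F4, descent_F4⟩ (by decide +kernel) hi hj hshort hlong
  · exact le_of_pairCovers ⟨checked_G2, descent_G2⟩ (by decide +kernel) hi hj hshort hlong

end Cfsg.Agent.S2417
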