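import Cfsg.Statements.S2418
import Cfsg.Agent.Lib.Coxeter.Generation
import Cfsg.Agent.Lib.Coxeter.Small
import Cfsg.Agent.Lib.Coxeter.E7
import Cfsg.Agent.Lib.Coxeter.E8

set_option autoImplicit false
open Cfsg

namespace Cfsg.Agent.S2418


open Cfsg.Agent.Lib.Coxeter

/-- The conclusion for one Coxeter matrix. -/
def CentreIs {n : ℕ} (M : CoxeterMatrix (Fin n)) (d : ℕ) : Prop :=
  Nat.card (Subgroup.center M.Group) = d ∧
    Subgroup.center M.Group ≤ Subgroup.zpowers ((List.finRange n).map M.simple).prod

theorem centre_of_table {n d : ℕ} (M : CoxeterMatrix (Fin n)) {T : Table} (hT : tableOK M T = true)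
    (es : List ℕ) (hd : es.length = d)
    (hnd : (es.map fun e => run T (zeros n) (List.replicate e (List.range n)).flatten).Nodup)
    (hcentral : (es.all fun e => (List.range n).all fun j =>
      run T (zeros n) ([j] ++ (List.replicate e (List.range n)).flatten) ==
        run T (zeros n) ((List.replicate e (List.range n)).flatten ++ [j])) = true)
    (hcover : ((twisters T n fun j => [j]).all fun x => es.any fun e =>
      x.length == n && run T (zeros n) (stateWord T x) ==
        run T (zeros n) (List.replicate e (List.range n)).flatten) = true)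
    (hvalid : ((twisters T n fun j => [j]).all fun x => (stateWord T x).all fun a => decide (a < n)) = true) :
    CentreIs M d := by
  classical
  suffices h : CentreIs (sub M n le_rfl) d by rwa [sub_self] at h
  have hc : ((List.finRange n).map (sub M n le_rfl).simple).prod = wp M n le_rfl (List.range n) := by
    rw [wp, ← List.map_coe_finRange_eq_range, List.map_map]
    congr 1
    apply List.map_congr_left
    intro i _
    simp [sg]
  have hpow : ∀ e : ℕ, wp M n le_rfl (List.replicate e (List.range n)).flatten = wp M n le_rfl (List.range n) ^ e := by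
    intro e
    induction e with
    | zero => simp
    | succ e ih => rw [List.replicate_succ, List.flatten_cons, wp_append, ih, pow_succ']
  have hlt : ∀ e : ℕ, ∀ a ∈ (List.replicate e (List.range n)).flatten, a < n := by
    intro e a ha
    simp only [List.mem_flatten, List.mem_replicate] at ha
    obtain ⟨l, ⟨-, rfl⟩, ha⟩ := ha
    exact List.mem_range.1 ha
  set c := wp M n le_rfl (List.range n) with hcdef
  have key : ∀ e ∈ es, c ^ e ∈ Subgroup.center (W M n le_rfl) := by
    intro e he
    simp only [List.all_eq_true, List.mem_range, beq_iff_eq] at hcentral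
    rw [Subgroup.mem_center_iff]
    have hs : ∀ i : Fin n, Commute ((sub M n le_rfl).simple i) (c ^ e) := by
      intro i
      have h1 := (wp_eq_iff M T hT (u := [i.1] ++ _) (v := _ ++ [i.1])
        (fun a ha => by
          rcases List.mem_append.1 ha with h | h
          · exact List.mem_singleton.1 h ▸ i.2
          · exact hlt e a h)
        (fun a ha => by
          rcases List.mem_append.1 ha with h | h
          · exact hlt e a h
          · exact List.mem_singleton.1 h ▸ i.2)).2 (hcentral e he i i.2)
      rw [wp_append, wp_append, wp_singleton, hpow, sg, dif_pos i.2] at h1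
      exact h1
    intro g
    refine CoxeterSystem.simple_induction (sub M n le_rfl).toCoxeterSystem (p := fun g => Commute g (c ^ e)) g ?_ ?_ ?_
    · exact hs
    · exact Commute.one_left _
    · intro a b ha hb; exact ha.mul_left hb
  have hall : ∀ z, z ∈ Subgroup.center (W M n le_rfl) ↔ z ∈ es.map (c ^ ·) := by
    intro z
    constructor
    · intro hz
      obtain ⟨x, hx, rfl⟩ := central_mem M hT hz
      simp only [List.all_eq_true, List.any_eq_true, decide_eq_true_eq, Bool.and_eq_true, beq_iff_eq] at hcover hvalid
      obtain ⟨e, he, -, he'⟩ := hcover x hx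
      exact List.mem_map.2 ⟨e, he, by
        rw [← hpow]; exact ((wp_eq_iff M T hT (hvalid x hx) (hlt e)).2 he').symm⟩
    · intro hz
      obtain ⟨e, he, rfl⟩ := List.mem_map.1 hz
      exact key e he
  refine ⟨?_, fun z hz => ?_⟩
  · show Nat.card (Subgroup.center (W M n le_rfl)) = d
    rw [Nat.card_congr (Equiv.subtypeEquivRight fun z => (hall z).trans List.mem_toFinset.symm),
      Nat.card_eq_fintype_card, Fintype.card_coe, List.toFinset_card_of_nodup, List.length_map, hd]
    refine List.Nodup.map_on ?_ (List.Nodup.of_map _ hnd)
    intro a ha b hb e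
    refine List.inj_on_of_nodup_map hnd ha hb ((wp_eq_iff M T hT (hlt a) (hlt b)).1 ?_)
    rw [hpow, hpow]; exact e
  · obtain ⟨e, -, rfl⟩ := List.mem_map.1 ((hall z).1 hz)
    rw [hc]
    exact Subgroup.npow_mem_zpowers _ e


/-- For the Coxeter groups of types B₂, G₂, D₄, F₄, E₇, E₈ the centre has order 2 (the element acting as −1 on the root system) and is generated by a power of the Coxeter element `s₁ s₂ ⋯ s_l`; the Coxeter group of type E₆ has trivial centre. -/
theorem result (c : (Σ n : ℕ, CoxeterMatrix (Fin n)) × ℕ)
    (hc : c ∈ [(⟨2, CoxeterMatrix.B 2⟩, 2), (⟨2, CoxeterMatrix.G₂⟩, 2), (⟨4, Cfsg.Lie.coxeterD4⟩, 2), (⟨4, CoxeterMatrix.F₄⟩, 2),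
      (⟨6, CoxeterMatrix.E₆⟩, 1), (⟨7, CoxeterMatrix.E₇⟩, 2), (⟨8, CoxeterMatrix.E₈⟩, 2)]) :
    Nat.card (Subgroup.center c.1.2.Group) = c.2 ∧
      Subgroup.center c.1.2.Group ≤ Subgroup.zpowers ((List.finRange c.1.1).map c.1.2.simple).prod := by
  simp only [List.mem_cons, List.not_mem_nil, or_false] at hc
  rcases hc with rfl | rfl | rfl | rfl | rfl | rfl | rfl
  · exact centre_of_table _ b2Table_ok [0, 2] rfl (by decide +kernel) (by decide +kernel) (by decide +kernel) (by decide +kernel)
  · exact centre_of_table _ g2Table_ok [0, 3] rfl (by decide +kernel) (by decide +kernel) (by decide +kernel) (by decide +kernel)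
  · exact centre_of_table _ d4Table_ok [0, 3] rfl (by decide +kernel) (by decide +kernel) (by decide +kernel) (by decide +kernel)
  · exact centre_of_table _ f4Table_ok [0, 6] rfl (by decide +kernel) (by decide +kernel) (by decide +kernel) (by decide +kernel)
  · exact centre_of_table _ e6Table_ok [0] rfl (by decide +kernel) (by decide +kernel) (by decide +kernel) (by decide +kernel)
  · exact centre_of_table _ e7Table_ok [0, 9] rfl (by decide +kernel) (by decide +kernel) (by decide +kernel) (by decide +kernel)
  · exact centre_of_table _ e8Table_ok [0, 15] rfl (by decide +kernel) (by decide +kernel) (by decide +kernel) (by decide +kernel)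

end Cfsg.Agent.S2418
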