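import Cfsg.Statements.S2419
import Cfsg.Agent.Lib.Coxeter.Generation
import Cfsg.Agent.Lib.Coxeter.Small
import Cfsg.Agent.Lib.Coxeter.E7
import Cfsg.Agent.Lib.Coxeter.E8

set_option autoImplicit false
open Cfsg

namespace Cfsg.Agent.S2419


open Cfsg.Agent.Lib.Coxeter

/-- The conclusion for one Coxeter matrix. -/
def Gen {n : ℕ} (M : CoxeterMatrix (Fin n)) (d : ℕ) : Prop :=
  ∃ S : Finset M.Group, S.card = d ∧ (∀ t ∈ S, ∃ (g : M.Group) (i : Fin n), t = g * M.simple i * g⁻¹) ∧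
    Subgroup.closure (({((List.finRange n).map M.simple).prod} : Set M.Group) ∪ ↑S) = ⊤

theorem gen_of_deriv {n d : ℕ} (M : CoxeterMatrix (Fin n)) {T : Table} (hT : tableOK M T = true)
    (ts : List ℕ) (steps : List (List ℕ × List ℕ)) (hd : ts.length = d)
    (hts : ts.all (fun i => decide (i < n)) = true)
    (hnd : (ts.map fun i => run T (zeros n) [i]).Nodup)
    (hsteps : derivOK T n (ts.map fun i => [i]) steps = true) : Gen M d := by
  classical
  suffices h : Gen (sub M n le_rfl) d by rwa [sub_self] at h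
  simp only [List.all_eq_true, decide_eq_true_eq] at hts
  refine ⟨(ts.map fun i => wp M n le_rfl [i]).toFinset, ?_, ?_, ?_⟩
  · rw [List.toFinset_card_of_nodup, List.length_map, hd]
    refine List.Nodup.map_on ?_ (List.Nodup.of_map _ hnd)
    intro a ha b hb e
    exact List.inj_on_of_nodup_map hnd ha hb ((wp_eq_iff M T hT
      (fun x hx => List.mem_singleton.1 hx ▸ hts a ha) (fun x hx => List.mem_singleton.1 hx ▸ hts b hb)).1 e)
  · intro t ht
    obtain ⟨i, hi, rfl⟩ := List.mem_map.1 (List.mem_toFinset.1 ht)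
    exact ⟨1, ⟨i, hts i hi⟩, by simp [sg, hts i hi]⟩
  · set H := Subgroup.closure (({((List.finRange n).map (sub M n le_rfl).simple).prod} : Set (W M n le_rfl)) ∪
      ↑(ts.map fun i => wp M n le_rfl [i]).toFinset) with hH
    have e : ((List.finRange n).map (sub M n le_rfl).simple).prod = wp M n le_rfl (List.range n) := by
      rw [wp, ← List.map_coe_finRange_eq_range, List.map_map]
      congr 1
      apply List.map_congr_left
      intro i _
      simp [sg]
    have hc : wp M n le_rfl (List.range n) ∈ H := e ▸ Subgroup.subset_closure (Or.inl rfl)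
    have hgen := mem_of_derivOK M T hT H hc steps _
      (fun w hw a ha => by
        obtain ⟨i, hi, rfl⟩ := List.mem_map.1 hw
        exact List.mem_singleton.1 ha ▸ hts i hi)
      (fun w hw => by
        obtain ⟨i, hi, rfl⟩ := List.mem_map.1 hw
        exact Subgroup.subset_closure (Or.inr (List.mem_toFinset.2 (List.mem_map.2 ⟨i, hi, rfl⟩))))
      hsteps
    rw [eq_top_iff, ← (sub M n le_rfl).toCoxeterSystem.subgroup_closure_range_simple, Subgroup.closure_le]
    rintro _ ⟨i, rfl⟩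
    have := hgen i i.2
    rwa [wp_singleton, sg, dif_pos i.2] at this


/-- Derivation for B2. -/
noncomputable def b2Steps : List (List ℕ × List ℕ) :=
  [([1], [2, 0])]
/-- Derivation for G2. -/
noncomputable def g2Steps : List (List ℕ × List ℕ) :=
  [([1], [2, 0])]
/-- Derivation for D4. -/
noncomputable def d4Steps : List (List ℕ × List ℕ) :=
  [([0], [1, 2, 0]),
    ([2, 1, 2], [2, 3, 2]),
    ([3], [0, 5, 1])]
/-- Derivation for F4. -/
noncomputable def f4Steps : List (List ℕ × List ℕ) :=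
  [([1], [0, 2, 1]),
    ([3], [0, 3, 1])]
/-- Derivation for E6. -/
noncomputable def e6Steps : List (List ℕ × List ℕ) :=
  [([3, 1, 3], [0, 2, 1]),
    ([0], [1, 2, 0]),
    ([4, 3, 2, 0, 2, 3, 4], [0, 3, 1]),
    ([5, 4, 2, 3, 1, 3, 2, 4, 5], [0, 5, 1]),
    ([3], [0, 6, 1]),
    ([4], [0, 7, 1]),
    ([5], [0, 8, 1]),
    ([5, 4, 3, 1, 3, 4, 5], [2, 6, 2]),
    ([1], [0, 10, 1])]
/-- Derivation for E7. -/
noncomputable def e7Steps : List (List ℕ × List ℕ) :=
  [([3, 2, 0, 2, 3], [0, 2, 1]),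
    ([4, 2, 3, 1, 3, 2, 4], [0, 3, 1]),
    ([4, 3, 2, 3, 4], [2, 4, 2]),
    ([5, 4, 3, 1, 3, 4, 5], [0, 5, 1]),
    ([6, 5, 4, 3, 2, 0, 2, 3, 4, 5, 6], [0, 6, 1]),
    ([0], [0, 7, 1]),
    ([2], [0, 8, 1]),
    ([6, 5, 4, 1, 3, 2, 0, 2, 3, 1, 4, 5, 6], [2, 7, 2]),
    ([6], [1, 10, 0]),
    ([5], [1, 11, 0]),
    ([4], [1, 12, 0]),
    ([3], [1, 13, 0])]
/-- Derivation for E8. -/
noncomputable def e8Steps : List (List ℕ × List ℕ) :=
  [([4], [0, 2, 1]),
    ([5], [0, 3, 1]),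
    ([6], [0, 4, 1]),
    ([7], [0, 5, 1]),
    ([7, 6, 5, 4, 1, 3, 2, 0, 2, 3, 1, 4, 5, 6, 7], [0, 6, 1]),
    ([3, 2, 3], [0, 7, 1]),
    ([4, 3, 4], [2, 3, 2]),
    ([5, 4, 5], [0, 9, 1]),
    ([6, 5, 6], [0, 10, 1]),
    ([7, 6, 7], [0, 11, 1]),
    ([6, 5, 4, 1, 3, 2, 0, 2, 3, 1, 4, 5, 6], [0, 12, 1]),
    ([7, 6, 5, 2, 3, 4, 1, 3, 2, 0, 2, 3, 1, 4, 3, 2, 5, 6, 7], [0, 13, 1]),
    ([3, 4, 2, 3, 1, 3, 2, 4, 3], [0, 14, 1]),
    ([2], [2, 8, 2]),
    ([0], [1, 16, 0]),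
    ([4, 2, 3, 1, 3, 2, 4], [2, 15, 2]),
    ([3, 2, 0, 2, 3], [1, 18, 0]),
    ([1], [1, 19, 0])]

/-- The Coxeter groups of types B₂, G₂, E₆, E₇, E₈ are generated by the Coxeter element `s₁ s₂ ⋯ s_l` together with one suitable reflection (a conjugate of a simple reflection); for types D₄ and F₄ the Coxeter element together with two suitable reflections suffices. -/
theorem result (c : (Σ n : ℕ, CoxeterMatrix (Fin n)) × ℕ)
    (hc : c ∈ [(⟨2, CoxeterMatrix.B 2⟩, 1), (⟨2, CoxeterMatrix.G₂⟩, 1), (⟨4, Cfsg.Lie.coxeterD4⟩, 2), (⟨4, CoxeterMatrix.F₄⟩, 2),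
      (⟨6, CoxeterMatrix.E₆⟩, 1), (⟨7, CoxeterMatrix.E₇⟩, 1), (⟨8, CoxeterMatrix.E₈⟩, 1)]) :
    ∃ T : Finset c.1.2.Group, T.card = c.2 ∧ (∀ t ∈ T, ∃ (g : c.1.2.Group) (i : Fin c.1.1), t = g * c.1.2.simple i * g⁻¹) ∧
      Subgroup.closure (({((List.finRange c.1.1).map c.1.2.simple).prod} : Set c.1.2.Group) ∪ ↑T) = ⊤ := by
  simp only [List.mem_cons, List.not_mem_nil, or_false] at hc
  rcases hc with rfl | rfl | rfl | rfl | rfl | rfl | rfl
  · exact gen_of_deriv _ b2Table_ok [0] b2Steps rfl (by decide +kernel) (by decide +kernel) (by decide +kernel)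
  · exact gen_of_deriv _ g2Table_ok [0] g2Steps rfl (by decide +kernel) (by decide +kernel) (by decide +kernel)
  · exact gen_of_deriv _ d4Table_ok [1, 2] d4Steps rfl (by decide +kernel) (by decide +kernel) (by decide +kernel)
  · exact gen_of_deriv _ f4Table_ok [0, 2] f4Steps rfl (by decide +kernel) (by decide +kernel) (by decide +kernel)
  · exact gen_of_deriv _ e6Table_ok [2] e6Steps rfl (by decide +kernel) (by decide +kernel) (by decide +kernel)
  · exact gen_of_deriv _ e7Table_ok [1] e7Steps rfl (by decide +kernel) (by decide +kernel) (by decide +kernel)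
  · exact gen_of_deriv _ e8Table_ok [3] e8Steps rfl (by decide +kernel) (by decide +kernel) (by decide +kernel)

end Cfsg.Agent.S2419
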