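import Cfsg.Statements.S2425
import Cfsg.Agent.Lib.SteinbergValue.Flags
import Cfsg.Agent.Lib.SteinbergValue.Mobius
import Cfsg.Agent.Lib.Semisimple.Basic
-- import your own Cfsg.Agent.* helpers here

set_option autoImplicit false
open scoped MatrixGroups
open Cfsg

namespace Cfsg.Agent.S2425

open Module Polynomial Cfsg.Agent.Lib.SteinbergValue
open Cfsg.Agent.Lib.GLCuspidal (mu)

theorem sum_sign_flags {F : Type*} [Field F] [Fintype F] {n : ℕ} [Fintype (Submodule F (Fin n → F))] (hn : 0 < n)
    (x : GL (Fin n) F) :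
    Cfsg.unipotentCharacterGL n F (fun _ => 1) x =
      (-1 : ℂ) ^ (n - 1) * ((∑ C ∈ chainsBelow (act x) (⊤ : Submodule F (Fin n → F)), (-1 : ℤ) ^ C.card : ℤ) : ℂ) := by
  classical
  have hstep : Cfsg.unipotentCharacterGL n F (fun _ => 1) x =
      ∑ T ∈ (Finset.range (n - 1)).powerset, (-1 : ℂ) ^ T.card * ((flags x (cuts n T)).card : ℂ) := by
    rw [Cfsg.unipotentCharacterGL, ← Finset.sum_filter]
    symm
    refine Finset.sum_bij (fun T _ => kap n T (n - 1)) (fun T hT => ?_) (fun T hT T' hT' e => ?_) (fun κ hκ => ?_) (fun T hT => ?_)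
    · refine Finset.mem_filter.2 ⟨Finset.mem_univ _, fun i => ?_⟩
      rw [Nat.add_comm 1]
      exact kap_le (Finset.mem_powerset.1 hT) i
    · ext m
      have hh : ∀ (T : Finset ℕ), T ⊆ Finset.range (n - 1) → (m ∈ T ↔ ∃ h : m < n, (kap n T (n - 1) ⟨m, h⟩).val = m + 1) := by
        intro T hT
        refine ⟨fun hm => ⟨by have := Finset.mem_range.1 (hT hm); omega, (kap_mem_iff hT _).2 hm⟩, fun ⟨h, he⟩ => (kap_mem_iff hT ⟨m, h⟩).1 he⟩
      rw [hh T (Finset.mem_powerset.1 hT), hh T' (Finset.mem_powerset.1 hT'), e]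
    · obtain ⟨T, hT, rfl⟩ := eq_kap hn κ fun i => by
        have := (Finset.mem_filter.1 hκ).2 i
        omega
      exact ⟨T, Finset.mem_powerset.2 hT, rfl⟩
    · rw [sign_kap_last (Finset.mem_powerset.1 hT) hn, show (fun i : Fin n => 1 + i.val - (kap n T (n - 1) i).val) = parts n T from rfl,
        fixedPointCharacter_parts (Finset.mem_powerset.1 hT)]
      push_cast
      rfl
  set f := act x
  have hfin : ∀ (W : Submodule F (Fin n → F)), (∀ v ∈ W, f v ∈ W) ↔ W.map f = W := fun W => by
    refine ⟨fun h => Submodule.eq_of_le_of_finrank_eq (by rintro _ ⟨v, hv, rfl⟩; exact h v hv) (finrank_map_act x W), fun h v hv => ?_⟩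
    rw [← h]; exact Submodule.mem_map_of_mem hv
  have hdimn : ∀ W : Submodule F (Fin n → F), finrank F W ≤ n := fun W => by
    have := Submodule.finrank_le W
    rwa [finrank_pi, Fintype.card_fin] at this
  set dims := fun C : Finset (Submodule F (Fin n → F)) => C.image fun W : Submodule F (Fin n → F) => finrank F W
  have hsub : ∀ C ∈ chainsBelow f ⊤, dims C ⊆ Finset.Ico 1 n := by
    intro C hC d hd
    obtain ⟨W, hW, rfl⟩ := Finset.mem_image.1 hd
    obtain ⟨h1, h2, -⟩ := (mem_chainsBelow.1 hC).2 W hW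
    have := Submodule.finrank_lt_finrank_of_lt h2
    rw [finrank_top, finrank_pi, Fintype.card_fin] at this
    have := Nat.pos_of_ne_zero fun h => h1 (Submodule.finrank_eq_zero.1 h)
    exact Finset.mem_Ico.2 ⟨this, by omega⟩
  have hcard : ∀ C ∈ chainsBelow f ⊤, (dims C).card = C.card := fun C hC =>
    Finset.card_image_of_injOn fun W hW W' hW' e => by
      rcases (mem_chainsBelow.1 hC).1.total hW hW' with h | h
      · exact Submodule.eq_of_le_of_finrank_eq h e
      · exact (Submodule.eq_of_le_of_finrank_eq h e.symm).symm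
  have hflags : ∀ D, D ⊆ Finset.Ico 1 n → flags x D = (chainsBelow f ⊤).filter fun C => dims C = D := by
    intro D hD
    ext C
    simp only [flags, Finset.mem_filter, Finset.mem_univ, true_and, mem_chainsBelow]
    constructor
    · rintro ⟨h1, h2, h3⟩
      refine ⟨⟨h1, fun W hW => ?_⟩, h3⟩
      have hd := Finset.mem_Ico.1 (hD (h3 ▸ Finset.mem_image_of_mem _ hW))
      refine ⟨fun h => ?_, lt_top_iff_ne_top.2 fun h => ?_, (hfin W).2 (h2 W hW)⟩
      · rw [h, finrank_bot] at hd; omega
      · rw [h, finrank_top, finrank_pi, Fintype.card_fin] at hd; omega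
    · rintro ⟨⟨h1, h2⟩, h3⟩
      exact ⟨h1, fun W hW => (hfin W).1 (h2 W hW).2.2, h3⟩
  rw [hstep, Int.cast_sum, Finset.mul_sum, ← Finset.sum_fiberwise_of_maps_to
    (t := (Finset.Ico 1 n).powerset) (g := dims) (fun C hC => Finset.mem_powerset.2 (hsub C hC))]
  refine Finset.sum_bij (fun T _ => cuts n T) (fun T _ => Finset.mem_powerset.2 (Finset.filter_subset _ _))
    (fun T hT T' hT' e => ?_) (fun D hD => ?_) (fun T hT => ?_)
  · ext m
    have hT1 := Finset.mem_powerset.1 hT
    have hT1' := Finset.mem_powerset.1 hT'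
    by_cases hm : m < n - 1
    · have : m + 1 ∈ cuts n T ↔ m + 1 ∈ cuts n T' := by rw [show cuts n T = cuts n T' from e]
      simp only [cuts, Finset.mem_filter, Finset.mem_Ico, Nat.add_sub_cancel] at this
      constructor <;> intro h <;> by_contra h' <;> simp [h, h'] at this <;> omega
    · exact ⟨fun h => absurd (Finset.mem_range.1 (hT1 h)) hm, fun h => absurd (Finset.mem_range.1 (hT1' h)) hm⟩
  · have hD' := Finset.mem_powerset.1 hD
    refine ⟨(Finset.range (n - 1)).filter fun i => i + 1 ∉ D, Finset.mem_powerset.2 (Finset.filter_subset _ _), ?_⟩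
    ext d
    simp only [cuts, Finset.mem_filter, Finset.mem_Ico, Finset.mem_range, not_and, not_not]
    refine ⟨fun ⟨h1, h2⟩ => ?_, fun h => ?_⟩
    · have := h2 (by omega)
      rwa [show d - 1 + 1 = d by omega] at this
    · have := Finset.mem_Ico.1 (hD' h)
      exact ⟨this, fun _ => by rwa [show d - 1 + 1 = d by omega]⟩
  · have hc : cuts n T ⊆ Finset.Ico 1 n := Finset.filter_subset _ _
    have hT1 := Finset.mem_powerset.1 hT
    have hsum : (cuts n T).card + T.card = n - 1 := by
      have h1 := Finset.card_filter_add_card_filter_not (s := Finset.Ico 1 n) (fun d => d - 1 ∉ T)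
      have h2 : ((Finset.Ico 1 n).filter fun d => ¬d - 1 ∉ T) = T.image (· + 1) := by
        ext d
        simp only [Finset.mem_filter, Finset.mem_Ico, not_not, Finset.mem_image]
        refine ⟨fun ⟨h1, h2⟩ => ⟨d - 1, h2, by omega⟩, ?_⟩
        rintro ⟨m, hm, rfl⟩
        have := Finset.mem_range.1 (hT1 hm)
        exact ⟨⟨by omega, by omega⟩, by simpa using hm⟩
      rw [h2, Finset.card_image_of_injective _ (fun a b h => Nat.add_right_cancel h), Nat.card_Ico] at h1
      exact h1
    rw [Finset.sum_congr rfl (g := fun _ => (-1 : ℂ) ^ T.card) fun C hC => ?_, Finset.sum_const, hflags _ hc, nsmul_eq_mul, mul_comm]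
    obtain ⟨hC1, hC2⟩ := Finset.mem_filter.1 hC
    have hC3 := hcard C hC1
    rw [hC2] at hC3
    push_cast
    rw [← hC3, show n - 1 = (cuts n T).card + T.card from hsum.symm, ← pow_add, add_right_comm, ← two_mul, pow_add, pow_mul,
      neg_one_sq, one_pow, one_mul]


/-- Values of the Steinberg character of `GL_n(q)` (the partition-indexed character for `ν = (1,…,1)`, of degree `q^(n(n−1)/2)`) at elements of order prime to the characteristic: if the characteristic polynomial of such an element is `∏ f^(m_f)` over distinct monic irreducible `f`, the value is `∏_f (−1)^((deg f − 1) m_f) q^(deg f · m_f (m_f − 1)/2)`. (At elements of order divisible by the characteristic the value is 0; that is not part of this statement.) -/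
theorem result {F : Type*} [Field F] [Fintype F] [DecidableEq F] {q : ℕ} (hq : Fintype.card F = q) (p : ℕ) [Fact p.Prime] [CharP F p]
    {n : ℕ} (x : GL (Fin n) F) (hx : (orderOf x).Coprime p) :
    Cfsg.unipotentCharacterGL n F (fun _ => 1) x =
      ∏ f ∈ (UniqueFactorizationMonoid.normalizedFactors (x : Matrix (Fin n) (Fin n) F).charpoly).toFinset,
        (-1 : ℂ) ^ ((f.natDegree - 1) * (UniqueFactorizationMonoid.normalizedFactors (x : Matrix (Fin n) (Fin n) F).charpoly).count f) *
          (q : ℂ) ^ (f.natDegree * (UniqueFactorizationMonoid.normalizedFactors (x : Matrix (Fin n) (Fin n) F).charpoly).count f *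
            ((UniqueFactorizationMonoid.normalizedFactors (x : Matrix (Fin n) (Fin n) F).charpoly).count f - 1) / 2) := by
  classical
  subst hq
  rcases Nat.eq_zero_or_pos n with rfl | hn
  · have hx1 : x = 1 := Subsingleton.elim _ _
    subst hx1
    simp [Cfsg.unipotentCharacterGL, fixedPointCharacter]
    rw [← Nat.card_eq_fintype_card]
    exact Nat.card_unique
  have := Fintype.ofFinite (Submodule F (Fin n → F))
  have : Nonempty (Fin n) := ⟨⟨0, hn⟩⟩
  set f := act x
  set M := (x : Matrix (Fin n) (Fin n) F)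
  have hfM : f = Matrix.toLinAlgEquiv' M := rfl
  have hfe : f ^ orderOf x = 1 := by
    rw [hfM, ← map_pow, ← Units.val_pow_eq_pow_val, pow_orderOf_eq_one, Units.val_one, map_one]
  set P0 : F[X] := X ^ orderOf x - 1
  have hsq : Squarefree P0 := Lib.Semisimple.squarefree_pow_sub_one (Lib.Semisimple.natCast_ne_zero_of_coprime hx)
  have hP0 : aeval f P0 = 0 := by simp [P0, hfe]
  set Φ := UniqueFactorizationMonoid.normalizedFactors M.charpoly
  set S := Φ.toFinset
  have hS : ∀ π ∈ S, Irreducible π ∧ π.Monic := fun π hπ => by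
    have hi := UniqueFactorizationMonoid.irreducible_of_normalized_factor π (Multiset.mem_toFinset.1 hπ)
    refine ⟨hi, ?_⟩
    rw [← UniqueFactorizationMonoid.normalize_normalized_factor π (Multiset.mem_toFinset.1 hπ)]
    exact monic_normalize hi.ne_zero
  have hchar : f.charpoly = M.charpoly := by
    rw [← LinearMap.charpoly_toMatrix f (Pi.basisFun F (Fin n)), LinearMap.toMatrix_eq_toMatrix', hfM]
    congr 1
    exact LinearMap.toMatrix'_toLin' M
  have hM0 : M.charpoly ≠ 0 := (Matrix.charpoly_monic M).ne_zero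
  have hker : ∀ π ∈ S, finrank F (kerP f π) = Φ.count π * π.natDegree := by
    intro π hπ
    obtain ⟨hi, hmon⟩ := hS π hπ
    obtain ⟨k, g, h1, h2, h3⟩ := Lib.Semisimple.finrank_ker_pow f P0 hsq hP0 π hi hmon
    have h4 := h3 1 le_rfl
    rw [pow_one] at h4
    rw [show finrank F (kerP f π) = k * π.natDegree from h4]
    congr 1
    rw [hchar] at h1
    symm
    refine UniqueFactorizationMonoid.count_normalizedFactors_eq hi hmon.normalize_eq_self ⟨g, h1⟩ fun hd => ?_
    rw [h1, pow_succ] at hd
    exact h2 ((mul_dvd_mul_iff_left (pow_ne_zero _ hi.ne_zero)).1 hd)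
  have htop : (⊤ : Submodule F (Fin n → F)) ≤ kerP f (∏ π ∈ S, π) := by
    intro v _
    have hmin : minpoly F f ∣ ∏ π ∈ S, π := by
      have hmne : minpoly F f ≠ 0 := minpoly.ne_zero (Algebra.IsIntegral.isIntegral f)
      have hpne : (∏ π ∈ S, π) ≠ 0 := Finset.prod_ne_zero_iff.2 fun π hπ => (hS π hπ).1.ne_zero
      rw [UniqueFactorizationMonoid.dvd_iff_normalizedFactors_le_normalizedFactors hmne hpne]
      have hnd : (UniqueFactorizationMonoid.normalizedFactors (minpoly F f)).Nodup :=
        (UniqueFactorizationMonoid.squarefree_iff_nodup_normalizedFactors hmne).1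
          (hsq.squarefree_of_dvd (minpoly.dvd F f hP0))
      refine (Multiset.le_iff_subset hnd).2 fun π hπ => ?_
      have hπ' : π ∈ S := Multiset.mem_toFinset.2 (Multiset.subset_of_le
        ((UniqueFactorizationMonoid.dvd_iff_normalizedFactors_le_normalizedFactors hmne hM0).1
          (hchar ▸ LinearMap.minpoly_dvd_charpoly f)) hπ)
      obtain ⟨π', hπ1, hπ2⟩ := UniqueFactorizationMonoid.exists_mem_normalizedFactors_of_dvd hpne (hS π hπ').1
        (Finset.dvd_prod_of_mem (fun σ => σ) hπ')
      rwa [eq_of_monic_of_associated (hS π hπ').2 ((UniqueFactorizationMonoid.normalize_normalized_factor π' hπ1) ▸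
        monic_normalize (UniqueFactorizationMonoid.irreducible_of_normalized_factor π' hπ1).ne_zero) hπ2]
    obtain ⟨c, hc⟩ := hmin
    rw [kerP, LinearMap.mem_ker, hc, map_mul, minpoly.aeval, zero_mul, LinearMap.zero_apply]
  have hG := sum_chains_eq f S hS n ⊤ (by rw [finrank_top, finrank_pi, Fintype.card_fin]) htop
    (fun v _ => Submodule.mem_top) top_ne_bot
  rw [sum_sign_flags hn, hG, weight]
  have hdeg : ∑ π ∈ S, π.natDegree * Φ.count π = n := by
    have h1 := Matrix.charpoly_natDegree_eq_dim M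
    rw [← (eq_of_monic_of_associated (monic_multiset_prod_of_monic Φ id fun π hπ => (hS π (Multiset.mem_toFinset.2 hπ)).2)
      (Matrix.charpoly_monic M) (by simpa using UniqueFactorizationMonoid.prod_normalizedFactors hM0)),
      Multiset.map_id, natDegree_multiset_prod_of_monic _ fun π hπ => (hS π (Multiset.mem_toFinset.2 hπ)).2,
      Fintype.card_fin, Finset.sum_multiset_map_count] at h1
    rw [← h1]
    exact Finset.sum_congr rfl fun π _ => by rw [smul_eq_mul, mul_comm]
  calc ((-1 : ℂ) ^ (n - 1)) * ((-∏ π ∈ S, mu (Fintype.card F ^ π.natDegree) (finrank F ↥(⊤ ⊓ kerP f π) / π.natDegree) : ℤ) : ℂ)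
      = (-1 : ℂ) ^ n * ∏ π ∈ S, (mu (Fintype.card F ^ π.natDegree) (Φ.count π) : ℂ) := by
        obtain ⟨k, rfl⟩ : ∃ k, n = k + 1 := ⟨n - 1, by omega⟩
        rw [Nat.add_sub_cancel, Int.cast_neg, Int.cast_prod, pow_succ, mul_neg, ← neg_mul, ← mul_neg_one]
        congr 1
        refine Finset.prod_congr rfl fun π hπ => ?_
        rw [top_inf_eq, hker π hπ, Nat.mul_div_cancel _ (hS π hπ).1.natDegree_pos]
    _ = _ := by
        rw [← hdeg, ← Finset.prod_pow_eq_pow_sum, ← Finset.prod_mul_distrib]
        refine Finset.prod_congr rfl fun π hπ => ?_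
        obtain ⟨d, hd⟩ : ∃ d, π.natDegree = d + 1 := ⟨π.natDegree - 1, by have := (hS π hπ).1.natDegree_pos; omega⟩
        rw [mu, hd, Nat.add_sub_cancel, Nat.choose_two_right, mul_assoc (d + 1), Nat.mul_div_assoc _ (Nat.even_mul_pred_self _).two_dvd]
        push_cast
        rw [← pow_mul, ← mul_assoc, ← pow_add, show (d + 1) * Φ.count π + Φ.count π = d * Φ.count π + 2 * Φ.count π by ring,
          pow_add, pow_mul _ 2, neg_one_sq, one_pow, mul_one]

end Cfsg.Agent.S2425
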