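import Cfsg.Statements.S2426
import Mathlib
import Cfsg.Agent.Lib.SL2.Presentation
import Cfsg.Agent.Lib.LinGroup.SLTwoSylow
-- import your own Cfsg.Agent.* helpers here

set_option autoImplicit false
open Cfsg

namespace Cfsg.Agent.S2426

open Cfsg.Agent.Lib.SL2

/-- The rank-one Steinberg presentation of `SL₂` over a finite field `K`: generators `x(t)`, `y(t)` (`t ∈ K`; the two opposite root subgroups) subject to additivity `x(t)x(u) = x(t+u)`, `y(t)y(u) = y(t+u)` and, with `w(t) = x(t) y(−t⁻¹) x(t)` and `w'(t) = y(t) x(−t⁻¹) y(t)` for `t ≠ 0`, the relations `w(t) x(u) w(t)⁻¹ = y(−t⁻² u)` and `w'(t) y(u) w'(t)⁻¹ = x(−t⁻² u)`, present `SL₂(K)`, with `x(t) ↦ (1 t; 0 1)` and `y(t) ↦ (1 0; t 1)`. -/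
theorem result {K : Type*} [Field K] [Finite K] :
    ∃ e : PresentedGroup
        ({g : FreeGroup (Bool × K) | ∃ (b : Bool) (t u : K), g = FreeGroup.of (b, t) * FreeGroup.of (b, u) * (FreeGroup.of (b, t + u))⁻¹} ∪
          {g | ∃ (b : Bool) (t u : K), t ≠ 0 ∧
            g = (FreeGroup.of (b, t) * FreeGroup.of (!b, -t⁻¹) * FreeGroup.of (b, t)) * FreeGroup.of (b, u) *
                  (FreeGroup.of (b, t) * FreeGroup.of (!b, -t⁻¹) * FreeGroup.of (b, t))⁻¹ * (FreeGroup.of (!b, -(t⁻¹ ^ 2 * u)))⁻¹})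
        ≃* Matrix.SpecialLinearGroup (Fin 2) K,
      (∀ t : K, ((e (PresentedGroup.of (true, t)) : Matrix (Fin 2) (Fin 2) K)) = !![1, t; 0, 1]) ∧
      (∀ t : K, ((e (PresentedGroup.of (false, t)) : Matrix (Fin 2) (Fin 2) K)) = !![1, 0; t, 1]) := by
  let f : Bool × K → SLtwo K := fun p => if p.1 then upper p.2 else lower p.2
  let R := {g : FreeGroup (Bool × K) | ∃ (b : Bool) (t u : K), g = FreeGroup.of (b, t) * FreeGroup.of (b, u) * (FreeGroup.of (b, t + u))⁻¹} ∪
      {g | ∃ (b : Bool) (t u : K), t ≠ 0 ∧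
        g = (FreeGroup.of (b, t) * FreeGroup.of (!b, -t⁻¹) * FreeGroup.of (b, t)) * FreeGroup.of (b, u) *
              (FreeGroup.of (b, t) * FreeGroup.of (!b, -t⁻¹) * FreeGroup.of (b, t))⁻¹ * (FreeGroup.of (!b, -(t⁻¹ ^ 2 * u)))⁻¹}
  have hf : ∀ r ∈ R, FreeGroup.lift f r = 1 := by
    rintro r (⟨b, t, u, rfl⟩ | ⟨b, t, u, ht, rfl⟩)
    · cases b <;> simp only [map_mul, map_inv, FreeGroup.lift_apply_of, f, Bool.false_eq_true,
        if_false, if_true] <;> rw [mul_inv_eq_one]
      · exact lower_mul t u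
      · exact upper_mul t u
    · cases b <;> simp only [map_mul, map_inv, FreeGroup.lift_apply_of, f, Bool.not_false,
        Bool.not_true, Bool.false_eq_true, if_false, if_true] <;>
        rw [mul_inv_eq_one, mul_inv_eq_iff_eq_mul] <;>
        apply ext_entries <;>
        simp [mul_00, mul_01, mul_10, mul_11] <;> field_simp <;> ring_nf <;> simp [ht]
  let π : PresentedGroup R →* SLtwo K := PresentedGroup.toGroup hf
  have hπ : ∀ p, π (PresentedGroup.of p) = f p := fun p => PresentedGroup.toGroup.of hf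
  have key : ∀ {g}, g ∈ R → PresentedGroup.mk R g = 1 := fun h =>
    PresentedGroup.one_of_mem h
  let D : SteinbergData K (PresentedGroup R) :=
    { x := fun t => PresentedGroup.of (true, t)
      y := fun t => PresentedGroup.of (false, t)
      π := π
      x_add := fun s t => mul_inv_eq_one.1 (key (Or.inl ⟨true, s, t, rfl⟩))
      y_add := fun s t => mul_inv_eq_one.1 (key (Or.inl ⟨false, s, t, rfl⟩))
      rel := fun t u ht => mul_inv_eq_one.1 (key (Or.inr ⟨true, t, u, ht, rfl⟩))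
      π_x := fun t => (hπ _).trans (by simp [f])
      π_y := fun t => (hπ _).trans (by simp [f])
      gen := by
        rw [eq_top_iff, ← PresentedGroup.closure_range_of R]
        refine Subgroup.closure_mono ?_
        rintro _ ⟨⟨b, t⟩, rfl⟩
        cases b
        exacts [Or.inr ⟨t, rfl⟩, Or.inl ⟨t, rfl⟩] }
  have hsurj : Function.Surjective π := MonoidHom.range_eq_top.1
    (Cfsg.Agent.Lib.LinGroup.closure_upper_lower (fun t => ⟨_, D.π_x t⟩) (fun t => ⟨_, D.π_y t⟩))
  refine ⟨MulEquiv.ofBijective π ⟨D.π_injective, hsurj⟩, fun t => ?_, fun t => ?_⟩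
  · show ((π (D.x t) : SLtwo K) : Matrix (Fin 2) (Fin 2) K) = _
    rw [D.π_x]; rfl
  · show ((π (D.y t) : SLtwo K) : Matrix (Fin 2) (Fin 2) K) = _
    rw [D.π_y]; rfl

end Cfsg.Agent.S2426
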