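import Cfsg.Statements.S2428
import Mathlib
import Cfsg.Agent.Lib.SL2.NormalizerSL
-- import your own Cfsg.Agent.* helpers here

set_option autoImplicit false
open Cfsg

namespace Cfsg.Agent.S2428

open Cfsg.Agent.Lib.SL2

/-- Let F be a finite field with q elements, q odd, and let d be a diagonal element of SL₂ over F whose diagonal entry a has a² ≠ 1 (such d exist exactly when q > 3). Then the centraliser of d is precisely the diagonal subgroup T; the normaliser of T has order 2(q − 1) and exactly (q + 5)/2 conjugacy classes; and every element of that normaliser outside T has square equal to −1. -/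
theorem result {F : Type*} [Field F] [Fintype F] (hodd : Odd (Fintype.card F))
    (d : Matrix.SpecialLinearGroup (Fin 2) F) (hd01 : (d : Matrix (Fin 2) (Fin 2) F) 0 1 = 0) (hd10 : (d : Matrix (Fin 2) (Fin 2) F) 1 0 = 0) (hda : (d : Matrix (Fin 2) (Fin 2) F) 0 0 ^ 2 ≠ 1) :
    (∀ g : Matrix.SpecialLinearGroup (Fin 2) F, g ∈ Subgroup.centralizer ({d} : Set (Matrix.SpecialLinearGroup (Fin 2) F)) ↔ ((g : Matrix (Fin 2) (Fin 2) F) 0 1 = 0 ∧ (g : Matrix (Fin 2) (Fin 2) F) 1 0 = 0)) ∧
    Nat.card (Subgroup.normalizer ((Subgroup.centralizer ({d} : Set (Matrix.SpecialLinearGroup (Fin 2) F))) : Set (Matrix.SpecialLinearGroup (Fin 2) F))) = 2 * (Fintype.card F - 1) ∧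
    Nat.card (ConjClasses (Subgroup.normalizer ((Subgroup.centralizer ({d} : Set (Matrix.SpecialLinearGroup (Fin 2) F))) : Set (Matrix.SpecialLinearGroup (Fin 2) F)))) = (Fintype.card F + 5) / 2 ∧
    ∀ g : Matrix.SpecialLinearGroup (Fin 2) F, g ∈ Subgroup.normalizer ((Subgroup.centralizer ({d} : Set (Matrix.SpecialLinearGroup (Fin 2) F))) : Set (Matrix.SpecialLinearGroup (Fin 2) F)) →
      g ∉ Subgroup.centralizer ({d} : Set (Matrix.SpecialLinearGroup (Fin 2) F)) → ((g * g) : Matrix (Fin 2) (Fin 2) F) = -1 := by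
  classical
  have h2 : (2 : F) ≠ 0 := two_ne_zero_iff_odd.2 hodd
  have hdet := det_entries d
  rw [hd01, zero_mul, sub_zero] at hdet
  set a := (d : Matrix (Fin 2) (Fin 2) F) 0 0 with ha
  set b := (d : Matrix (Fin 2) (Fin 2) F) 1 1 with hb
  have hab : a ≠ b := fun e => hda (by rw [sq]; exact (e ▸ hdet : a * a = 1))
  have hsplit : IsSplit d := by
    refine ⟨a, ?_, hda⟩
    simp only [tr, ← ha, ← hb]
    linear_combination -hdet
  have hmem : ∀ g : SLtwo F, g ∈ Subgroup.centralizer ({d} : Set (SLtwo F)) ↔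
      ((g : Matrix (Fin 2) (Fin 2) F) 0 1 = 0 ∧ (g : Matrix (Fin 2) (Fin 2) F) 1 0 = 0) := by
    intro g
    rw [mem_centralizer_singleton_iff]
    constructor
    · intro h
      have e01 := congrFun (congrFun h 0) 1
      have e10 := congrFun (congrFun h 1) 0
      simp [Matrix.mul_apply, Fin.sum_univ_two, hd01, hd10, ← ha, ← hb] at e01 e10
      exact ⟨(mul_eq_zero.1 (show (g : Matrix (Fin 2) (Fin 2) F) 0 1 * (b - a) = 0 by
        linear_combination e01)).resolve_right (sub_ne_zero.2 hab.symm),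
        (mul_eq_zero.1 (show (g : Matrix (Fin 2) (Fin 2) F) 1 0 * (a - b) = 0 by
        linear_combination e10)).resolve_right (sub_ne_zero.2 hab)⟩
    · rintro ⟨h01, h10⟩
      ext i j
      fin_cases i <;> fin_cases j <;>
        simp [Matrix.mul_apply, Fin.sum_univ_two, hd01, hd10, h01, h10, mul_comm]
  obtain ⟨hc, hout, hcl⟩ := normalizer_centralizer_facts h2 (Or.inr hsplit : IsElliptic d ∨ IsSplit d)
  have hC := card_centralizer_split hsplit
  refine ⟨hmem, by rw [hc, hC], ?_, fun g hg hgC => ?_⟩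
  · rw [hC] at hcl
    have := Fintype.one_lt_card (α := F)
    refine (Nat.div_eq_of_eq_mul_left two_pos ?_).symm
    rw [mul_comm]
    exact (hcl.trans (by omega)).symm
  · rw [← Matrix.SpecialLinearGroup.coe_mul, hout g hg hgC]
    simp

end Cfsg.Agent.S2428
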