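import Cfsg.Statements.S2429
import Mathlib
import Cfsg.Agent.Lib.SL2.NormalizerSL
-- import your own Cfsg.Agent.* helpers here

set_option autoImplicit false
open Cfsg

namespace Cfsg.Agent.S2429

open Cfsg.Agent.Lib.SL2

/-- Let F be a finite field with q elements, q odd. Then SL₂ over F contains a cyclic subgroup T′ of order q + 1 (a non-split torus) with the following properties: T′ is its own centraliser, and indeed the centraliser of each element of T′ other than 1 and −1 is exactly T′; every element of SL₂ having no eigenvector in F² is conjugate to an element of T′; the normaliser of T′ has order 2(q + 1) and exactly (q + 7)/2 conjugacy classes; and every element of that normaliser outside T′ has square −1. -/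
theorem result {F : Type*} [Field F] [Fintype F] (hodd : Odd (Fintype.card F)) :
    ∃ T' : Subgroup (Matrix.SpecialLinearGroup (Fin 2) F), IsCyclic T' ∧ Nat.card T' = Fintype.card F + 1 ∧
      Subgroup.centralizer ((T' : Set (Matrix.SpecialLinearGroup (Fin 2) F))) = T' ∧
      (∀ g : Matrix.SpecialLinearGroup (Fin 2) F, g ∈ T' → (g : Matrix (Fin 2) (Fin 2) F) ≠ 1 → (g : Matrix (Fin 2) (Fin 2) F) ≠ -1 → Subgroup.centralizer ({g} : Set (Matrix.SpecialLinearGroup (Fin 2) F)) = T') ∧
      (∀ g : Matrix.SpecialLinearGroup (Fin 2) F, (∀ (c : F) (v : Fin 2 → F), v ≠ 0 → (g : Matrix (Fin 2) (Fin 2) F).mulVec v ≠ c • v) → ∃ h : Matrix.SpecialLinearGroup (Fin 2) F, h * g * h⁻¹ ∈ T') ∧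
      Nat.card (Subgroup.normalizer (T' : Set (Matrix.SpecialLinearGroup (Fin 2) F))) = 2 * (Fintype.card F + 1) ∧
      Nat.card (ConjClasses (Subgroup.normalizer (T' : Set (Matrix.SpecialLinearGroup (Fin 2) F)))) = (Fintype.card F + 7) / 2 ∧
      ∀ g : Matrix.SpecialLinearGroup (Fin 2) F, g ∈ Subgroup.normalizer (T' : Set (Matrix.SpecialLinearGroup (Fin 2) F)) → g ∉ T' → ((g * g) : Matrix (Fin 2) (Fin 2) F) = -1 := by
  classical
  have h2 : (2 : F) ≠ 0 := two_ne_zero_iff_odd.2 hodd
  obtain ⟨g, hg⟩ := exists_elliptic (F := F)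
  have hgc := hg.notMem_center
  obtain ⟨hc, hout, hcl⟩ := normalizer_centralizer_facts h2 (Or.inl hg : IsElliptic g ∨ IsSplit g)
  have hC := card_centralizer_elliptic hg
  refine ⟨_, isCyclic_centralizer_elliptic hg, hC, centralizer_centralizer hgc, ?_, ?_,
    by rw [hc, hC], ?_, fun n hn hnC => ?_⟩
  · intro x hx h1 h2'
    refine centralizer_eq_of_mem hgc hx fun hcen => ?_
    rcases (mem_center_iff_eq x).1 hcen with e | e
    · exact h1 (by rw [e]; simp)
    · exact h2' (by rw [e]; simp)
  · intro h hh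
    have hell := (noEigen_iff_elliptic h).1 hh
    obtain ⟨y, hy, hty⟩ := exists_mem_centralizer_of_tr h2 hg hell
    obtain ⟨c, hc'⟩ := isConj_iff.1 (isConj_of_tr_eq (Or.inl hell) hty.symm)
    exact ⟨c, hc' ▸ hy⟩
  · rw [hC] at hcl
    refine (Nat.div_eq_of_eq_mul_left two_pos ?_).symm
    rw [mul_comm]
    exact (hcl.trans (by omega)).symm
  · rw [← Matrix.SpecialLinearGroup.coe_mul, hout n hn hnC]
    simp

end Cfsg.Agent.S2429
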