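import Cfsg.Statements.S2431
import Mathlib
import Cfsg.Agent.Lib.SL2.SylowTwo
-- import your own Cfsg.Agent.* helpers here

set_option autoImplicit false
open Cfsg

namespace Cfsg.Agent.S2431

open Cfsg.Agent.Lib.SL2

/-- Let F be a finite field with q elements, q odd, and S a Sylow 2-subgroup of SL₂ over F. The centraliser of S is the centre of SL₂ (of order 2); S is its own normaliser when q ≡ ±1 mod 8, and has index 3 in its normaliser when q ≡ ±3 mod 8. -/
theorem result {F : Type*} [Field F] [Fintype F] (hodd : Odd (Fintype.card F)) (S : Sylow 2 (Matrix.SpecialLinearGroup (Fin 2) F)) :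
    Subgroup.centralizer ((S : Subgroup (Matrix.SpecialLinearGroup (Fin 2) F)) : Set (Matrix.SpecialLinearGroup (Fin 2) F)) = Subgroup.center (Matrix.SpecialLinearGroup (Fin 2) F) ∧
    ((Fintype.card F % 8 = 1 ∨ Fintype.card F % 8 = 7) →
      Subgroup.normalizer ((S : Subgroup (Matrix.SpecialLinearGroup (Fin 2) F)) : Set (Matrix.SpecialLinearGroup (Fin 2) F)) = (S : Subgroup (Matrix.SpecialLinearGroup (Fin 2) F))) ∧
    ((Fintype.card F % 8 = 3 ∨ Fintype.card F % 8 = 5) →
      Nat.card (Subgroup.normalizer ((S : Subgroup (Matrix.SpecialLinearGroup (Fin 2) F)) : Set (Matrix.SpecialLinearGroup (Fin 2) F))) = 3 * Nat.card S) := by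
  classical
  obtain ⟨S0, hc, h1, h3⟩ := exists_sylowTwo_facts hodd
  obtain ⟨γ, hγ⟩ := MulAction.exists_smul_eq (SLtwo F) S0 S
  have hS : (S : Subgroup (SLtwo F)) = (S0 : Subgroup (SLtwo F)).map (MulAut.conj γ).toMonoidHom := by
    rw [← hγ, Sylow.coe_subgroup_smul]; rfl
  refine ⟨?_, fun h => ?_, fun h => ?_⟩
  · refine le_antisymm (fun z hz => ?_) (Subgroup.center_le_centralizer _)
    rw [Subgroup.mem_centralizer_iff] at hz
    have hz' : γ⁻¹ * z * γ ∈ Subgroup.center (SLtwo F) := by
      rw [← hc, Subgroup.mem_centralizer_iff]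
      intro a ha
      have h := hz (γ * a * γ⁻¹) (by rw [hS]; exact ⟨a, ha, rfl⟩)
      calc a * (γ⁻¹ * z * γ) = γ⁻¹ * ((γ * a * γ⁻¹) * z) * γ := by group
        _ = γ⁻¹ * (z * (γ * a * γ⁻¹)) * γ := by rw [h]
        _ = γ⁻¹ * z * γ * a := by group
    have := (inferInstance : (Subgroup.center (SLtwo F)).Normal).conj_mem _ hz' γ
    simpa [mul_assoc] using this
  · rw [hS, ← Subgroup.map_equiv_normalizer_eq, h1 h]
  · rw [hS, ← Subgroup.map_equiv_normalizer_eq,
      Subgroup.card_map_of_injective (MulEquiv.injective _), h3 h]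
    congr 1
    exact (Subgroup.card_map_of_injective (MulEquiv.injective _)).symm

end Cfsg.Agent.S2431
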