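import Cfsg.Statements.S2433
import Cfsg.Agent.Lib.RankSeries.SLMulChar
-- import your own Cfsg.Agent.* helpers here

set_option autoImplicit false
open Cfsg

namespace Cfsg.Agent.S2433

open Cfsg.Agent.Lib Cfsg.Agent.Lib.RankSeries Cfsg.Agent.Lib.SL2

attribute [-instance] MonoidHom.instPow MonoidHom.mul instOneMonoidHom MonoidHom.instCommMonoid
  MonoidHom.instInv MonoidHom.instDiv


/-- Let F be a finite field with q elements, q odd, α a multiplicative character of F, and R(α) the function on SL₂ induced from the linear character b ↦ α(b₁₁) of the upper triangular subgroup. Then R(α) takes the value α(a) + α(a⁻¹) at a diagonal element with entries a, a⁻¹, a² ≠ 1; the value 0 at every element with no eigenvector in F²; the value α(ε) at an upper triangular element with both diagonal entries ε and non-zero upper right entry; and the value (q + 1)α(ε) at the scalar element ε (ε = ±1). -/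
theorem result {F : Type*} [Field F] [Fintype F] [DecidableEq F] (hodd : Odd (Fintype.card F)) (α : MulChar F ℂ) (g : Matrix.SpecialLinearGroup (Fin 2) F) :
    ((g : Matrix (Fin 2) (Fin 2) F) 0 1 = 0 → (g : Matrix (Fin 2) (Fin 2) F) 1 0 = 0 → (g : Matrix (Fin 2) (Fin 2) F) 0 0 ^ 2 ≠ 1 →
      (Cfsg.indFun ((Cfsg.upperTriangularGL 2 F).comap Matrix.SpecialLinearGroup.toGL) (fun b => α (((b : Matrix.SpecialLinearGroup (Fin 2) F) : Matrix (Fin 2) (Fin 2) F) 0 0))) g = α ((g : Matrix (Fin 2) (Fin 2) F) 0 0) + α ((g : Matrix (Fin 2) (Fin 2) F) 1 1)) ∧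
    ((∀ (c : F) (v : Fin 2 → F), v ≠ 0 → (g : Matrix (Fin 2) (Fin 2) F).mulVec v ≠ c • v) → (Cfsg.indFun ((Cfsg.upperTriangularGL 2 F).comap Matrix.SpecialLinearGroup.toGL) (fun b => α (((b : Matrix.SpecialLinearGroup (Fin 2) F) : Matrix (Fin 2) (Fin 2) F) 0 0))) g = 0) ∧
    ((g : Matrix (Fin 2) (Fin 2) F) 1 0 = 0 → (g : Matrix (Fin 2) (Fin 2) F) 0 0 = (g : Matrix (Fin 2) (Fin 2) F) 1 1 → (g : Matrix (Fin 2) (Fin 2) F) 0 1 ≠ 0 →
      (Cfsg.indFun ((Cfsg.upperTriangularGL 2 F).comap Matrix.SpecialLinearGroup.toGL) (fun b => α (((b : Matrix.SpecialLinearGroup (Fin 2) F) : Matrix (Fin 2) (Fin 2) F) 0 0))) g = α ((g : Matrix (Fin 2) (Fin 2) F) 0 0)) ∧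
    ((g : Matrix (Fin 2) (Fin 2) F) 0 1 = 0 → (g : Matrix (Fin 2) (Fin 2) F) 1 0 = 0 → (g : Matrix (Fin 2) (Fin 2) F) 0 0 = (g : Matrix (Fin 2) (Fin 2) F) 1 1 →
      (Cfsg.indFun ((Cfsg.upperTriangularGL 2 F).comap Matrix.SpecialLinearGroup.toGL) (fun b => α (((b : Matrix.SpecialLinearGroup (Fin 2) F) : Matrix (Fin 2) (Fin 2) F) 0 0))) g = ((Fintype.card F : ℂ) + 1) * α ((g : Matrix (Fin 2) (Fin 2) F) 0 0)) := by
  obtain ⟨g₀, hg₀⟩ := exists_elliptic (F := F)
  have hα : ∀ h : SLtwo F, (h : Matrix (Fin 2) (Fin 2) F) 1 0 = 0 →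
      ∃ a : Fˣ, α.toUnitHom a = α.toUnitHom a ∧ (a : F) = h 0 0 ∧ ((a⁻¹ : Fˣ) : F) = h 1 1 ∧
        h = el a (h 0 1) := fun h h10 => by
    obtain ⟨a, ha, hd, he⟩ := eq_el (g := h) h10
    exact ⟨a, rfl, ha, hd, he⟩
  rw [indFun_mulChar hg₀]
  refine ⟨fun h01 h10 hsq => ?_, fun hno => ?_, fun h10 heq h01 => ?_, fun h01 h10 heq => ?_⟩
  · obtain ⟨a, -, ha, hd, he⟩ := hα g h10
    have hne : a⁻¹ ≠ a := (inv_fixed_of_diag ha hd).1 hsq
    have h := (slDatum hg₀).R_split α.toUnitHom (a := a) (g 0 1) hne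
    rw [he]
    show (slDatum hg₀).R α.toUnitHom _ = _
    rw [show (el a (g 0 1) : SLtwo F) = (((slDatum hg₀).e (a, g 0 1) : (slDatum hg₀).B) : SLtwo F)
      from rfl, h]
    show (α.toUnitHom a : ℂ) + (α.toUnitHom a⁻¹ : ℂ) = _
    rw [MulChar.coe_toUnitHom, MulChar.coe_toUnitHom]
    exact congrArg₂ (· + ·) (congrArg α (borelEquiv_00 a _).symm) (congrArg α (borelEquiv_11 a _).symm)
  · have hell : IsElliptic g := (noEigen_iff_elliptic g).mp hno
    rw [← indFun_mulChar hg₀, indFun_mulChar hell]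
    exact (slDatum hell).R_torus α.toUnitHom ⟨g, mem_centralizer_singleton_iff.2 rfl⟩
      hell.notMem_center
  · obtain ⟨a, -, ha, hd, he⟩ := hα g h10
    have h := (slDatum hg₀).R_parab α.toUnitHom (a := a) (x := g 0 1)
      ((inv_fixed_of_diag ha hd).2 heq) h01
    rw [MulChar.coe_toUnitHom, ha] at h
    rw [← h]
    exact congrArg _ he
  · obtain ⟨a, -, ha, hd, he⟩ := hα g h10
    have h := (slDatum hg₀).R_center α.toUnitHom (a := a) ((inv_fixed_of_diag ha hd).2 heq)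
    rw [MulChar.coe_toUnitHom, ha, Nat.card_eq_fintype_card] at h
    rw [← h]
    rw [h01] at he
    exact congrArg _ he

end Cfsg.Agent.S2433
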