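import Cfsg.Statements.S2434
import Cfsg.Agent.Lib.RankSeries.SLDegrees
import Cfsg.Agent.Lib.SL2.ToriExist
-- import your own Cfsg.Agent.* helpers here

set_option autoImplicit false
open Cfsg

namespace Cfsg.Agent.S2434

open Cfsg.Agent.Lib Cfsg.Agent.Lib.RankSeries Cfsg.Agent.Lib.SL2
open scoped ComplexConjugate

attribute [-instance] MonoidHom.instPow MonoidHom.mul instOneMonoidHom MonoidHom.instCommMonoid
  MonoidHom.instInv MonoidHom.instDiv

theorem aux {F : Type*} [Field F] [Fintype F] [DecidableEq F] (hodd : Odd (Fintype.card F))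
    {g : SLtwo F} (hell : IsElliptic g) :
    (∀ θ : (slDatum hell).C →* ℂˣ, (∃ c, θ c ^ 2 ≠ 1) →
      ∃ χ : SLtwo F → ℂ, IsIrrCharacter (SLtwo F) χ ∧ χ 1 = (Fintype.card F : ℂ) - 1 ∧
        (∀ c : (slDatum hell).C, (c : SLtwo F) ∉ Subgroup.center (SLtwo F) →
          χ c = -((θ c).val + (θ c)⁻¹.val)) ∧
        (∀ c : (slDatum hell).C, (c : SLtwo F) ∈ Subgroup.center (SLtwo F) → ∀ x : SLtwo F,
          χ ((c : SLtwo F) * x) = (θ c).val * χ x) ∧
        (∀ x : SLtwo F, x 0 1 = 0 → x 1 0 = 0 → x 0 0 ^ 2 ≠ 1 → χ x = 0) ∧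
        (∀ x : SLtwo F, x 1 0 = 0 → x 0 0 = 1 → x 1 1 = 1 → x 0 1 ≠ 0 → χ x = -1)) ∧
    (∀ χ : SLtwo F → ℂ, IsIrrCharacter (SLtwo F) χ → χ 1 = (Fintype.card F : ℂ) - 1 →
      ∃ θ : (slDatum hell).C →* ℂˣ, (∃ c, θ c ^ 2 ≠ 1) ∧
        ∀ c : (slDatum hell).C, (c : SLtwo F) ∉ Subgroup.center (SLtwo F) →
          χ c = -((θ c).val + (θ c)⁻¹.val)) := by
  classical
  have h1 : 1 < Fintype.card F := Fintype.one_lt_card
  obtain ⟨k, hk⟩ := hodd
  have hodd : Odd (Fintype.card F) := ⟨k, hk⟩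
  have hiff : ∀ θ : (slDatum hell).C →* ℂˣ,
      (∃ c, θ c ^ 2 ≠ 1) ↔ θ.comp (slDatum hell).σ ≠ θ := fun θ => by
    rw [ne_eq (θ.comp (slDatum hell).σ), MonoidHom.ext_iff, not_forall]
    refine exists_congr fun c => not_iff_not.mpr ?_
    show θ c ^ 2 = 1 ↔ θ c⁻¹ = θ c
    rw [map_inv, pow_two, inv_eq_iff_mul_eq_one]
  refine ⟨fun θ hθ => ?_, fun χ hχ hdeg => ?_⟩
  · have hθ' := (hiff θ).mp hθ
    refine ⟨(slDatum hell).piC θ, (slDatum hell).piC_irr hθ', ?_, fun c hc => ?_, fun c hc x => ?_, fun x h01 h10 hsq => ?_,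
      fun x h10 h00 h11 h01 => ?_⟩
    · rw [(slDatum hell).piC_one, Nat.card_eq_fintype_card]
    · rw [(slDatum hell).piC_torus θ c hc]
      show -((θ c : ℂ) + (θ c⁻¹ : ℂ)) = _
      rw [map_inv]
    · obtain ⟨e, he, hec⟩ := (slDatum hell).center_C c hc
      have hcz : c = (slDatum hell).zC ⟨e, he⟩ := Subtype.ext hec.symm
      rw [hcz]
      exact (slDatum hell).piC_mul_center θ ⟨e, he⟩ x
    · obtain ⟨y, hy, hd, he⟩ := eq_el (g := x) h10
      rw [he]
      exact (slDatum hell).piC_split θ (a := y) _ fun hf => hsq (by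
        rw [← hy, sq_eq_one_iff]
        exact (inv_units_eq_iff y).mp hf)
    · obtain ⟨y, hy, hd, he⟩ := eq_el (g := x) h10
      have hy1 : y = 1 := Units.ext (hy.trans h00)
      subst hy1
      rw [he]
      exact OddTable.disc_unip ((slDatum hell).mem_discSet.mpr ⟨θ, hθ', rfl⟩) h01
  · obtain ⟨μ₀, θ₀, a, a', b, b', T⟩ := exists_oddTable hell hodd
    rcases T.of_degree hχ (m := Fintype.card F - 1)
        (by rw [hdeg, Nat.cast_sub Fintype.card_pos, Nat.cast_one]) with e | e | e | e | e | e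
    · omega
    · omega
    · omega
    · obtain ⟨θ, hθ, rfl⟩ := (slDatum hell).mem_discSet.mp e.1
      refine ⟨θ, (hiff θ).mpr hθ, fun c hc => ?_⟩
      rw [(slDatum hell).piC_torus θ c hc]
      show -((θ c : ℂ) + (θ c⁻¹ : ℂ)) = _
      rw [map_inv]
    · have hd := card_disc hell
      rw [hk, show 2 * k + 1 + 1 = 2 * (k + 1) by omega, Nat.gcd_eq_right (dvd_mul_right 2 _)] at hd
      obtain ⟨φ, hφ⟩ := Finset.card_pos.mp (show 0 < (slDatum hell).discSet.card by omega)
      obtain ⟨θ, hθ, rfl⟩ := (slDatum hell).mem_discSet.mp hφ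
      refine ⟨θ, (hiff θ).mpr hθ, fun c hc => ?_⟩
      obtain ⟨ha, ha', -, -⟩ := T.torus_values hodd c hc
      have h0 := OddTable.disc_torus_three T (by omega) hφ c hc
      rw [(slDatum hell).piC_torus θ c hc] at h0
      rw [← map_inv]
      rcases e.1 with rfl | rfl
      · rw [ha]; exact h0.symm
      · rw [ha']; exact h0.symm
    · omega


/-- Let F be a finite field with q elements, q odd, and C a cyclic subgroup of order q + 1 of SL₂ over F (a non-split torus; it contains the centre). For every homomorphism θ from C to the non-zero complex numbers with θ² ≠ 1 there is an irreducible complex character χ of degree q − 1 such that χ(c) = −θ(c) − θ(c)⁻¹ for every non-central c in C, χ(zg) = θ(z)χ(g) for central z in C, χ vanishes at diagonal elements with entry a, a² ≠ 1, and χ takes the value −1 at every upper unitriangular element other than 1. Conversely every irreducible character of degree q − 1 has, for some such θ, the values −θ(c) − θ(c)⁻¹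 at the non-central elements c of C (for q ≥ 5 these are exactly the cuspidal characters of degree q − 1). -/
theorem result {F : Type*} [Field F] [Fintype F] (hodd : Odd (Fintype.card F))
    (C : Subgroup (Matrix.SpecialLinearGroup (Fin 2) F)) (hC : IsCyclic C) (hcard : Nat.card C = Fintype.card F + 1) :
    (∀ θ : C →* ℂˣ, (∃ c : C, θ c ^ 2 ≠ 1) →
      ∃ χ : Matrix.SpecialLinearGroup (Fin 2) F → ℂ, Cfsg.IsIrrCharacter (Matrix.SpecialLinearGroup (Fin 2) F) χ ∧ χ 1 = (Fintype.card F : ℂ) - 1 ∧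
        (∀ c : C, (c : Matrix.SpecialLinearGroup (Fin 2) F) ∉ Subgroup.center (Matrix.SpecialLinearGroup (Fin 2) F) → χ c = -((θ c).val + (θ c)⁻¹.val)) ∧
        (∀ c : C, (c : Matrix.SpecialLinearGroup (Fin 2) F) ∈ Subgroup.center (Matrix.SpecialLinearGroup (Fin 2) F) → ∀ g : Matrix.SpecialLinearGroup (Fin 2) F, χ ((c : Matrix.SpecialLinearGroup (Fin 2) F) * g) = (θ c).val * χ g) ∧
        (∀ g : Matrix.SpecialLinearGroup (Fin 2) F, (g : Matrix (Fin 2) (Fin 2) F) 0 1 = 0 → (g : Matrix (Fin 2) (Fin 2) F) 1 0 = 0 → (g : Matrix (Fin 2) (Fin 2) F) 0 0 ^ 2 ≠ 1 → χ g = 0) ∧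
        (∀ g : Matrix.SpecialLinearGroup (Fin 2) F, (g : Matrix (Fin 2) (Fin 2) F) 1 0 = 0 → (g : Matrix (Fin 2) (Fin 2) F) 0 0 = 1 → (g : Matrix (Fin 2) (Fin 2) F) 1 1 = 1 → (g : Matrix (Fin 2) (Fin 2) F) 0 1 ≠ 0 → χ g = -1)) ∧
    (∀ χ : Matrix.SpecialLinearGroup (Fin 2) F → ℂ, Cfsg.IsIrrCharacter (Matrix.SpecialLinearGroup (Fin 2) F) χ → χ 1 = (Fintype.card F : ℂ) - 1 →
      ∃ θ : C →* ℂˣ, (∃ c : C, θ c ^ 2 ≠ 1) ∧
        ∀ c : C, (c : Matrix.SpecialLinearGroup (Fin 2) F) ∉ Subgroup.center (Matrix.SpecialLinearGroup (Fin 2) F) → χ c = -((θ c).val + (θ c)⁻¹.val)) := by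
  classical
  have h1 : 1 < Fintype.card F := Fintype.one_lt_card
  obtain ⟨k, hk⟩ := hodd
  have hodd : Odd (Fintype.card F) := ⟨k, hk⟩
  obtain ⟨t, ht⟩ := hC.exists_generator
  have hto : orderOf t = Fintype.card F + 1 := by
    rw [orderOf_eq_card_of_forall_mem_zpowers ht, hcard]
  set g : SLtwo F := (t : SLtwo F) with hg_def
  have hgo : orderOf g = Fintype.card F + 1 := by rw [hg_def, Subgroup.orderOf_coe, hto]
  have hnc : g ∉ Subgroup.center (SLtwo F) := fun h => by
    have hle : orderOf g ≤ 2 := by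
      rcases (mem_center_iff_eq g).mp h with e | e
      · rw [e, orderOf_one]; norm_num
      · exact orderOf_le_of_pow_eq_one (by norm_num) (by
          rw [e, pow_two]; apply ext_entries <;> simp)
    omega
  have hsub : C ≤ Subgroup.centralizer ({g} : Set (SLtwo F)) := fun x hx => by
    refine Subgroup.mem_centralizer_singleton_iff.mpr ?_
    obtain ⟨j, hj⟩ := Subgroup.mem_zpowers_iff.mp (ht ⟨x, hx⟩)
    have hx' : x = g ^ j := by
      rw [hg_def, ← Subgroup.coe_zpow, hj]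
    rw [hx']
    exact ((Commute.refl g).zpow_left j).eq
  have hdvd := Subgroup.card_dvd_of_le hsub
  rw [hcard] at hdvd
  have hell : IsElliptic g := by
    rcases elliptic_or_split_or_parabolic g with e | e | e
    · exact e
    · rw [card_centralizer_split e] at hdvd
      have := Nat.le_of_dvd (by omega) hdvd
      omega
    · rw [card_centralizer_parabolic hnc e, Nat.gcd_eq_left (⟨k, by omega⟩ : 2 ∣ Fintype.card F - 1)]
        at hdvd
      have hd : Fintype.card F + 1 ∣ 2 :=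
        (Nat.dvd_add_right hdvd).mp ⟨2, by ring⟩
      have := Nat.le_of_dvd (by norm_num) hd
      omega
  have hCeq : C = Subgroup.centralizer ({g} : Set (SLtwo F)) :=
    Subgroup.eq_of_le_of_card_ge hsub (by rw [card_centralizer_elliptic hell, hcard])
  clear_value g
  subst hCeq
  exact aux hodd hell

end Cfsg.Agent.S2434
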