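import Cfsg.Statements.S2435
import Cfsg.Agent.Lib.RankSeries.SLDegrees
import Cfsg.Agent.Lib.SL2.ToriExist
-- import your own Cfsg.Agent.* helpers here

set_option autoImplicit false
open Cfsg

namespace Cfsg.Agent.S2435

open Cfsg.Agent.Lib Cfsg.Agent.Lib.RankSeries Cfsg.Agent.Lib.SL2
open scoped ComplexConjugate

attribute [-instance] MonoidHom.instPow MonoidHom.mul instOneMonoidHom MonoidHom.instCommMonoid
  MonoidHom.instInv MonoidHom.instDiv


/-- Let F be a finite field with q elements, q odd and q ≥ 5, and χ an irreducible complex character of SL₂ over F. If χ has degree (q + 1)/2, then at a diagonal element with entry a, a² ≠ 1, χ takes the value 1 when a is a square in F and −1 otherwise. If χ has degree (q − 1)/2, then at an element g with no eigenvector in F² (so g has order dividing q + 1), χ takes the value −1 when g raised to the power (q + 1)/2 is the identity and the value 1 otherwise. -/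
theorem result {F : Type*} [Field F] [Fintype F] (hodd : Odd (Fintype.card F)) (hq : 5 ≤ Fintype.card F)
    (χ : Matrix.SpecialLinearGroup (Fin 2) F → ℂ) (hχ : Cfsg.IsIrrCharacter (Matrix.SpecialLinearGroup (Fin 2) F) χ) (g : Matrix.SpecialLinearGroup (Fin 2) F) :
    (χ 1 = (((Fintype.card F + 1) / 2 : ℕ) : ℂ) → (g : Matrix (Fin 2) (Fin 2) F) 0 1 = 0 → (g : Matrix (Fin 2) (Fin 2) F) 1 0 = 0 → (g : Matrix (Fin 2) (Fin 2) F) 0 0 ^ 2 ≠ 1 →
      (IsSquare ((g : Matrix (Fin 2) (Fin 2) F) 0 0) → χ g = 1) ∧ (¬ IsSquare ((g : Matrix (Fin 2) (Fin 2) F) 0 0) → χ g = -1)) ∧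
    (χ 1 = (((Fintype.card F - 1) / 2 : ℕ) : ℂ) → (∀ (c : F) (v : Fin 2 → F), v ≠ 0 → (g : Matrix (Fin 2) (Fin 2) F).mulVec v ≠ c • v) →
      (((g ^ ((Fintype.card F + 1) / 2)) : Matrix (Fin 2) (Fin 2) F) = 1 → χ g = -1) ∧ (((g ^ ((Fintype.card F + 1) / 2)) : Matrix (Fin 2) (Fin 2) F) ≠ 1 → χ g = 1)) := by
  classical
  obtain ⟨k, hk⟩ := hodd
  have hodd : Odd (Fintype.card F) := ⟨k, hk⟩
  have h2 : (2 : F) ≠ 0 := two_ne_zero_iff_odd.2 hodd
  refine ⟨fun hdeg h01 h10 hsq => ?_, fun hdeg hno => ?_⟩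
  · obtain ⟨g₀, hg₀⟩ := exists_elliptic (F := F)
    obtain ⟨μ₀, θ₀, a, a', b, b', T⟩ := exists_oddTable hg₀ hodd
    obtain ⟨x, hx, hd, he⟩ := eq_el (g := g) h10
    have hne : x⁻¹ ≠ x := fun hf => hsq (by
      rw [← hx, sq_eq_one_iff]
      exact (inv_units_eq_iff x).mp hf)
    obtain ⟨ha, ha', -, -⟩ := T.split_values hodd x (g 0 1) hne
    have hval : χ g = (μ₀ x : ℂ) := by
      rw [he]
      rcases T.of_degree hχ hdeg with e | e | e | e | e | e
      · omega
      · omega
      · omega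
      · omega
      · rcases e.1 with rfl | rfl
        exacts [ha, ha']
      · omega
    obtain ⟨p1, p2⟩ := fixed_mu_apply hg₀ hodd T.hμ T.hμ1 x
    have hchar : ringChar F ≠ 2 := fun h => h2 (by
      have := ringChar.Nat.cast_ringChar (R := F)
      rw [h] at this
      exact_mod_cast this)
    have hiff : IsSquare (g 0 0) ↔ x ^ ((Fintype.card F - 1) / 2) = 1 := by
      rw [← hx, FiniteField.isSquare_iff hchar x.ne_zero, ← Units.val_pow_eq_pow_val,
        Units.val_eq_one, show Fintype.card F / 2 = (Fintype.card F - 1) / 2 by omega]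
    exact ⟨fun h => hval.trans (p1 (hiff.mp h)), fun h => hval.trans (p2 fun h' => h (hiff.mpr h'))⟩
  · have hell : IsElliptic g := (noEigen_iff_elliptic g).mp hno
    obtain ⟨μ₀, θ₀, a, a', b, b', T⟩ := exists_oddTable hell hodd
    let c : (slDatum hell).C := ⟨g, mem_centralizer_singleton_iff.2 rfl⟩
    obtain ⟨-, -, hb, hb'⟩ := T.torus_values hodd c hell.notMem_center
    have hval : χ g = -(θ₀ c : ℂ) := by
      rcases T.of_degree hχ hdeg with e | e | e | e | e | e
      · omega
      · omega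
      · omega
      · omega
      · omega
      · rcases e.1 with rfl | rfl
        exacts [hb, hb']
    obtain ⟨p1, p2⟩ := fixed_theta_apply hell hodd T.hθ T.hθ1 c
    have hiff : (((g ^ ((Fintype.card F + 1) / 2)) : Matrix (Fin 2) (Fin 2) F) = 1) ↔
        c ^ ((Fintype.card F + 1) / 2) = 1 := by
      rw [← Matrix.SpecialLinearGroup.coe_pow, ← Matrix.SpecialLinearGroup.coe_one]
      refine Subtype.val_injective.eq_iff.trans ?_
      rw [Subtype.ext_iff (a1 := c ^ _), SubmonoidClass.coe_pow, OneMemClass.coe_one]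
      exact Iff.rfl
    refine ⟨fun h => ?_, fun h => ?_⟩
    · rw [hval, p1 (hiff.mp h)]
    · rw [hval, p2 fun h' => h (hiff.mpr h'), neg_neg]

end Cfsg.Agent.S2435
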