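import Mathlib
import Cfsg.Statements.S2436
import Cfsg.Agent.Lib.SL2.McKay
-- import your own Cfsg.Agent.* helpers here

set_option autoImplicit false
open Cfsg

namespace Cfsg.Agent.S2436

open Cfsg.Agent.Lib Cfsg.Agent.Lib.SL2 Cfsg.Agent.Lib.SL2.McKay

/-- Let F be a finite field with q elements, q odd, ℓ any prime and S a Sylow ℓ-subgroup of SL₂ over F with normaliser N. Then SL₂ and N have the same number of irreducible complex characters of degree not divisible by ℓ (the McKay equality holds for SL₂ over F at every prime). -/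
theorem result {F : Type*} [Field F] [Fintype F] (hodd : Odd (Fintype.card F)) (ℓ : ℕ) [Fact ℓ.Prime] (S : Sylow ℓ (Matrix.SpecialLinearGroup (Fin 2) F)) :
    Nat.card {χ : Cfsg.IrrCharacter (Matrix.SpecialLinearGroup (Fin 2) F) // ¬ ℓ ∣ Cfsg.charDegree (χ : Matrix.SpecialLinearGroup (Fin 2) F → ℂ)} =
      Nat.card {ψ : Cfsg.IrrCharacter (Subgroup.normalizer ((S : Subgroup (Matrix.SpecialLinearGroup (Fin 2) F)) : Set (Matrix.SpecialLinearGroup (Fin 2) F))) //
        ¬ ℓ ∣ Cfsg.charDegree (ψ : Subgroup.normalizer ((S : Subgroup (Matrix.SpecialLinearGroup (Fin 2) F)) : Set (Matrix.SpecialLinearGroup (Fin 2) F)) → ℂ)} := by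
  classical
  change countPrime ℓ (SLtwo F) = countPrime ℓ _
  have hl : ℓ.Prime := Fact.out
  have hcount := countPrime_SL hodd ℓ hl
  dsimp only at hcount
  have hodd' := Nat.odd_iff.1 hodd
  have hq1 : 1 < Fintype.card F := Fintype.one_lt_card
  set q := Fintype.card F with hq
  have hsq : q ^ 2 - 1 = (q - 1) * (q + 1) := by rw [mul_comm, ← Nat.sq_sub_sq, one_pow]
  by_cases hdvd : ℓ ∣ q * ((q - 1) * (q + 1))
  · rcases hl.dvd_mul.1 hdvd with h | h
    · -- the defining prime
      obtain ⟨p, hp⟩ := CharP.exists F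
      haveI := hp
      obtain ⟨n, hpp, hn⟩ := FiniteField.card F p
      haveI := Fact.mk hpp
      have hpl : ℓ = p := by
        rw [hq, hn] at h
        exact (Nat.prime_dvd_prime_iff_eq hl hpp).1 (hl.dvd_of_dvd_pow h)
      subst hpl
      rw [countPrime_normalizer_p hodd ℓ S, hcount]
      have h1 : ¬ ℓ ∣ q + 1 := fun hd => hl.not_dvd_one ((Nat.dvd_add_right h).1 hd)
      have h2 : ¬ ℓ ∣ q - 1 := fun hd => by
        have := Nat.dvd_sub h hd
        rw [show q - (q - 1) = 1 by omega] at this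
        exact hl.not_dvd_one this
      have h3 : ¬ ℓ ∣ (q + 1) / 2 := fun hd => h1 (hd.trans (Nat.div_dvd_of_dvd (by omega)))
      have h4 : ¬ ℓ ∣ (q - 1) / 2 := fun hd => h2 (hd.trans (Nat.div_dvd_of_dvd (by omega)))
      rw [if_neg (not_not_intro h), if_pos h1, if_pos h2, if_pos h3, if_pos h4]
      omega
    · rcases eq_or_ne ℓ 2 with rfl | hl2
      · rw [countPrime_normalizer_two hodd S, hcount]
        have h0 : ¬ 2 ∣ q := by omega
        rw [if_pos h0, if_neg (show ¬ ¬ 2 ∣ q + 1 by omega), if_neg (show ¬ ¬ 2 ∣ q - 1 by omega)]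
        rcases (show (q + 1) / 2 % 2 = 1 ∧ (q - 1) / 2 % 2 = 0 ∨
            (q + 1) / 2 % 2 = 0 ∧ (q - 1) / 2 % 2 = 1 by omega) with ⟨ha, hb⟩ | ⟨ha, hb⟩
        · rw [if_pos (show ¬ 2 ∣ (q + 1) / 2 by omega), if_neg (show ¬ ¬ 2 ∣ (q - 1) / 2 by omega)]
          simp
        · rw [if_neg (show ¬ ¬ 2 ∣ (q + 1) / 2 by omega), if_pos (show ¬ 2 ∣ (q - 1) / 2 by omega)]
          simp
      · have hl3 : 3 ≤ ℓ := by have := hl.two_le; omega
        have hcop : Nat.Coprime ℓ 2 := (Nat.coprime_primes hl Nat.prime_two).2 hl2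
        have hnq : ¬ ℓ ∣ q := by
          intro hd
          rcases hl.dvd_mul.1 h with hm | hm
          · have := Nat.dvd_sub hd hm
            rw [show q - (q - 1) = 1 by omega] at this
            exact hl.not_dvd_one this
          · exact hl.not_dvd_one ((Nat.dvd_add_right hd).1 hm)
        have hnot : ¬ (ℓ ∣ q - 1 ∧ ℓ ∣ q + 1) := by
          rintro ⟨ha, hb⟩
          have := Nat.dvd_sub hb ha
          rw [show q + 1 - (q - 1) = 2 by omega] at this
          have := Nat.le_of_dvd two_pos this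
          omega
        have hhalf : ∀ m, m % 2 = 0 → (ℓ ∣ m / 2 ↔ ℓ ∣ m) := fun m hm =>
          ⟨fun hd => hd.trans (Nat.div_dvd_of_dvd (by omega)), fun hd => hcop.dvd_of_dvd_mul_left
            (by rwa [Nat.mul_div_cancel' (by omega : 2 ∣ m)])⟩
        rcases hl.dvd_mul.1 h with hm | hm
        · have hN := countPrime_normalizer_odd hodd ℓ hl2 S (c := q - 1) ⟨Or.inl rfl, hm⟩
          have hp1 : ¬ ℓ ∣ q + 1 := fun hd => hnot ⟨hm, hd⟩
          rw [if_pos hnq, if_pos hp1, if_neg (not_not_intro hm),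
            if_pos (fun hd => hp1 ((hhalf _ (by omega)).1 hd)),
            if_neg (not_not_intro ((hhalf _ (by omega)).2 hm))] at hcount
          refine hcount.trans (Nat.eq_of_mul_eq_mul_left two_pos (Eq.trans ?_ hN.symm))
          omega
        · have hN := countPrime_normalizer_odd hodd ℓ hl2 S (c := q + 1) ⟨Or.inr rfl, hm⟩
          have hp1 : ¬ ℓ ∣ q - 1 := fun hd => hnot ⟨hd, hm⟩
          rw [if_pos hnq, if_neg (not_not_intro hm), if_pos hp1,
            if_neg (not_not_intro ((hhalf _ (by omega)).2 hm)),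
            if_pos (fun hd => hp1 ((hhalf _ (by omega)).1 hd))] at hcount
          refine hcount.trans (Nat.eq_of_mul_eq_mul_left two_pos (Eq.trans ?_ hN.symm))
          omega
  · -- the Sylow subgroup is trivial
    have hG : ¬ ℓ ∣ Nat.card (SLtwo F) := by rwa [card_SLtwo, ← hq, hsq]
    have hbot : (S : Subgroup (SLtwo F)) = ⊥ := Subgroup.eq_bot_of_card_eq _ (by
      rw [S.card_eq_multiplicity, Nat.factorization_eq_zero_of_not_dvd hG, pow_zero])
    have htop : Subgroup.normalizer ((S : Subgroup (SLtwo F)) : Set (SLtwo F)) = ⊤ := by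
      rw [hbot]
      exact Subgroup.normalizer_eq_top (⊥ : Subgroup (SLtwo F))
    exact (countPrime_congr ((MulEquiv.subgroupCongr htop).trans Subgroup.topEquiv).symm).symm

end Cfsg.Agent.S2436
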