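import Cfsg.Statements.S2438
import Cfsg.Agent.Lib.RankSeries.SLDegrees
import Cfsg.Agent.Lib.SL2.ToriExist
-- import your own Cfsg.Agent.* helpers here

set_option autoImplicit false
open Cfsg

namespace Cfsg.Agent.S2438

open Cfsg.Agent.Lib Cfsg.Agent.Lib.RankSeries Cfsg.Agent.Lib.SL2
open scoped ComplexConjugate

attribute [-instance] MonoidHom.instPow MonoidHom.mul instOneMonoidHom MonoidHom.instCommMonoid
  MonoidHom.instInv MonoidHom.instDiv


/-- Let F be a finite field with q elements, q odd, q ≥ 5, U the upper unitriangular subgroup of SL₂ over F, and χ an irreducible complex character. The sum of the values of χ over U equals 2q, q, 0, q, 0 according as the degree of χ is q + 1, q, q − 1, (q + 1)/2, (q − 1)/2; so among these five degrees the sum vanishes exactly for the degrees q − 1 and (q − 1)/2, i.e. the irreducible characters of those two degrees are the ones whose restriction to U does not contain the trivial character (the cuspidal characters),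 while those of degree q + 1, q and (q + 1)/2 are not cuspidal. -/
theorem result {F : Type*} [Field F] [Fintype F] [DecidableEq F] (hodd : Odd (Fintype.card F)) (hq : 5 ≤ Fintype.card F)
    (χ : Matrix.SpecialLinearGroup (Fin 2) F → ℂ) (hχ : Cfsg.IsIrrCharacter (Matrix.SpecialLinearGroup (Fin 2) F) χ) :
    (χ 1 = (Fintype.card F : ℂ) + 1 →
      (∑ g : Matrix.SpecialLinearGroup (Fin 2) F, if (g : Matrix (Fin 2) (Fin 2) F) 1 0 = 0 ∧ (g : Matrix (Fin 2) (Fin 2) F) 0 0 = 1 ∧ (g : Matrix (Fin 2) (Fin 2) F) 1 1 = 1 then χ g else 0) = 2 * (Fintype.card F : ℂ)) ∧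
    (χ 1 = (Fintype.card F : ℂ) →
      (∑ g : Matrix.SpecialLinearGroup (Fin 2) F, if (g : Matrix (Fin 2) (Fin 2) F) 1 0 = 0 ∧ (g : Matrix (Fin 2) (Fin 2) F) 0 0 = 1 ∧ (g : Matrix (Fin 2) (Fin 2) F) 1 1 = 1 then χ g else 0) = (Fintype.card F : ℂ)) ∧
    (χ 1 = (Fintype.card F : ℂ) - 1 →
      (∑ g : Matrix.SpecialLinearGroup (Fin 2) F, if (g : Matrix (Fin 2) (Fin 2) F) 1 0 = 0 ∧ (g : Matrix (Fin 2) (Fin 2) F) 0 0 = 1 ∧ (g : Matrix (Fin 2) (Fin 2) F) 1 1 = 1 then χ g else 0) = 0) ∧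
    (χ 1 = (((Fintype.card F + 1) / 2 : ℕ) : ℂ) →
      (∑ g : Matrix.SpecialLinearGroup (Fin 2) F, if (g : Matrix (Fin 2) (Fin 2) F) 1 0 = 0 ∧ (g : Matrix (Fin 2) (Fin 2) F) 0 0 = 1 ∧ (g : Matrix (Fin 2) (Fin 2) F) 1 1 = 1 then χ g else 0) = (Fintype.card F : ℂ)) ∧
    (χ 1 = (((Fintype.card F - 1) / 2 : ℕ) : ℂ) →
      (∑ g : Matrix.SpecialLinearGroup (Fin 2) F, if (g : Matrix (Fin 2) (Fin 2) F) 1 0 = 0 ∧ (g : Matrix (Fin 2) (Fin 2) F) 0 0 = 1 ∧ (g : Matrix (Fin 2) (Fin 2) F) 1 1 = 1 then χ g else 0) = 0) := by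
  classical
  obtain ⟨g₀, hg₀⟩ := exists_elliptic (F := F)
  obtain ⟨μ₀, θ₀, a, a', b, b', T⟩ := exists_oddTable hg₀ hodd
  have h2 : (2 : F) ≠ 0 := two_ne_zero_iff_odd.2 hodd
  obtain ⟨k, hk⟩ := hodd
  have hodd : Odd (Fintype.card F) := ⟨k, hk⟩
  have hchar : ringChar F ≠ 2 := fun h => h2 (by
    have := ringChar.Nat.cast_ringChar (R := F)
    rw [h] at this
    exact_mod_cast this)
  obtain ⟨ν, hν⟩ := FiniteField.exists_nonsquare hchar
  have hν0 : ν ≠ 0 := fun h => hν (h ▸ IsSquare.zero)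
  have hsum : (∑ g : SLtwo F, if (g : Matrix (Fin 2) (Fin 2) F) 1 0 = 0 ∧
      (g : Matrix (Fin 2) (Fin 2) F) 0 0 = 1 ∧ (g : Matrix (Fin 2) (Fin 2) F) 1 1 = 1
      then χ g else 0) = χ 1 + ∑ y ∈ Finset.univ.erase (0 : F), χ (el 1 y) := by
    rw [← Finset.sum_filter, ← el_one_zero, Finset.add_sum_erase _ (fun y => χ (el 1 y))
      (Finset.mem_univ (0 : F))]
    refine Finset.sum_bij' (fun g _ => g 0 1) (fun y _ => el 1 y) (fun _ _ => Finset.mem_univ _)
      ?_ ?_ ?_ ?_
    · intro y _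
      rw [Finset.mem_filter]
      exact ⟨Finset.mem_univ _, borelEquiv_10 1 y, by rw [borelEquiv_00, Units.val_one],
        by rw [borelEquiv_11, inv_one, Units.val_one]⟩
    · intro g hg
      obtain ⟨h10, h00, h11⟩ := (Finset.mem_filter.mp hg).2
      obtain ⟨x, hx, -, he⟩ := eq_el (g := g) h10
      have : x = 1 := Units.ext (hx.trans h00)
      rw [← this]
      exact he.symm
    · intro y _
      exact borelEquiv_01 1 y
    · intro g hg
      obtain ⟨h10, h00, h11⟩ := (Finset.mem_filter.mp hg).2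
      obtain ⟨x, hx, -, he⟩ := eq_el (g := g) h10
      have : x = 1 := Units.ext (hx.trans h00)
      rw [← this, ← he]
  have hcardE : ((Finset.univ.erase (0 : F)).card : ℂ) = (Fintype.card F : ℂ) - 1 := by
    rw [Finset.card_erase_of_mem (Finset.mem_univ _), Finset.card_univ,
      Nat.cast_sub Fintype.card_pos, Nat.cast_one]
  have hconst : ∀ v : ℂ, (∀ y : F, y ≠ 0 → χ (el 1 y) = v) →
      ∑ y ∈ Finset.univ.erase (0 : F), χ (el 1 y) = ((Fintype.card F : ℂ) - 1) * v := fun v hv => by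
    rw [Finset.sum_congr rfl fun y hy => hv y (Finset.mem_erase.mp hy).1, Finset.sum_const,
      nsmul_eq_mul, hcardE]
  have hpair : ∀ v : ℂ, (∀ y : F, y ≠ 0 → χ (el 1 y) + χ (el 1 (ν * y)) = v) →
      2 * ∑ y ∈ Finset.univ.erase (0 : F), χ (el 1 y) = ((Fintype.card F : ℂ) - 1) * v :=
    fun v hv => by
    have hb : ∑ y ∈ Finset.univ.erase (0 : F), χ (el 1 (ν * y)) =
        ∑ y ∈ Finset.univ.erase (0 : F), χ (el 1 y) :=
      Finset.sum_bij' (fun y _ => ν * y) (fun y _ => ν⁻¹ * y)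
        (fun y hy => by simp [hν0, (Finset.mem_erase.mp hy).1])
        (fun y hy => by simp [hν0, (Finset.mem_erase.mp hy).1])
        (fun y _ => by field_simp) (fun y _ => by field_simp) fun _ _ => rfl
    rw [two_mul]
    nth_rewrite 2 [← hb]
    rw [← Finset.sum_add_distrib, Finset.sum_congr rfl fun y hy => hv y (Finset.mem_erase.mp hy).1,
      Finset.sum_const, nsmul_eq_mul, hcardE]
  have hns : ∀ y : F, y ≠ 0 → ¬IsSquare (y * (ν * y)) := fun y hy h => hν (by
    obtain ⟨r, hr⟩ := h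
    exact ⟨r / y, by field_simp; linear_combination hr⟩)
  have h1 : ((2 : ℕ) : ℂ) ≠ 0 := Nat.cast_ne_zero.mpr two_ne_zero
  refine ⟨fun hd => ?_, fun hd => ?_, fun hd => ?_, fun hd => ?_, fun hd => ?_⟩
  · rw [hsum, hd, hconst 1 fun y hy => ?_]
    · ring
    rcases T.of_degree hχ (m := Fintype.card F + 1) (by rw [hd]; push_cast; rfl) with
      e | e | e | e | e | e
    all_goals first | exact OddTable.princ_unip e.1 hy | omega
  · rw [hsum, hd, hconst 0 fun y hy => ?_]
    · ring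
    rw [eq_St_of_degree hg₀ hχ hd]
    exact St_parab hg₀ 1 inv_one hy
  · rw [hsum, hd, hconst (-1) fun y hy => ?_]
    · ring
    rcases T.of_degree hχ (m := Fintype.card F - 1)
        (by rw [hd, Nat.cast_sub Fintype.card_pos, Nat.cast_one]) with e | e | e | e | e | e
    all_goals first | exact OddTable.disc_unip e.1 hy | omega
  · have hχa : χ = a ∨ χ = a' := by
      rcases T.of_degree hχ hd with e | e | e | e | e | e <;> first | exact e.1 | omega
    have h := hpair 1 fun y hy => by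
      obtain ⟨e1, e2, -, -⟩ := T.sum_unip hodd hy (mul_ne_zero hν0 hy) (hns y hy)
      rcases hχa with rfl | rfl
      exacts [e1, e2]
    rw [hsum, hd]
    have hd' : 2 * (((Fintype.card F + 1) / 2 : ℕ) : ℂ) = (Fintype.card F : ℂ) + 1 := by
      exact_mod_cast (show 2 * ((Fintype.card F + 1) / 2) = Fintype.card F + 1 by omega)
    linear_combination (h + hd') / 2
  · have hχb : χ = b ∨ χ = b' := by
      rcases T.of_degree hχ hd with e | e | e | e | e | e <;> first | exact e.1 | omega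
    have h := hpair (-1) fun y hy => by
      obtain ⟨-, -, e1, e2⟩ := T.sum_unip hodd hy (mul_ne_zero hν0 hy) (hns y hy)
      rcases hχb with rfl | rfl
      exacts [e1, e2]
    rw [hsum, hd]
    have hd' : 2 * (((Fintype.card F - 1) / 2 : ℕ) : ℂ) + 1 = (Fintype.card F : ℂ) := by
      exact_mod_cast (show 2 * ((Fintype.card F - 1) / 2) + 1 = Fintype.card F by omega)
    linear_combination (h + hd') / 2

end Cfsg.Agent.S2438
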