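import Mathlib
import Cfsg.Statements.S2439
import Cfsg.Agent.Lib.SL2.BlocksP
import Cfsg.Agent.Lib.SL2.ToriExist
import Cfsg.Agent.Lib.RankSeries.SLOdd
-- import your own Cfsg.Agent.* helpers here

set_option autoImplicit false
open Cfsg

namespace Cfsg.Agent.S2439

open Cfsg.Agent.Lib Cfsg.Agent.Lib.RankSeries Cfsg.Agent.Lib.SL2

attribute [-instance] MonoidHom.instPow MonoidHom.mul instOneMonoidHom MonoidHom.instCommMonoid
  MonoidHom.instInv MonoidHom.instDiv

variable {F : Type*} [Field F] [Fintype F]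

theorem degree_facts (p : ℕ) [Fact p.Prime] [CharP F p] (hp : p ≠ 2) :
    ∃ St : IrrCharacter (SLtwo F), (St : SLtwo F → ℂ) 1 = (Fintype.card F : ℂ) ∧
      (St : SLtwo F → ℂ) (-1) = (Fintype.card F : ℂ) ∧
      (∀ χ : IrrCharacter (SLtwo F), (χ : SLtwo F → ℂ) 1 = (Fintype.card F : ℂ) → χ = St) ∧
      (∀ χ : IrrCharacter (SLtwo F), (χ : SLtwo F → ℂ) 1 ≠ (Fintype.card F : ℂ) →
        ¬ p ∣ charDegree (χ : SLtwo F → ℂ)) := by
  classical
  have hodd : Odd (Fintype.card F) := two_ne_zero_iff_odd.1 (two_ne_zero_of_char hp)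
  obtain ⟨g₀, hg₀⟩ := exists_elliptic (F := F)
  obtain ⟨μ₀, θ₀, a, a', b, b', T⟩ := exists_oddTable hg₀ hodd
  set q := Fintype.card F with hq
  have hq3 : 3 ≤ q := by
    obtain ⟨k, hk⟩ := hodd
    have : 1 < q := Fintype.one_lt_card
    omega
  have hK : Nat.card F = q := Nat.card_eq_fintype_card
  have hneg : (slDatum hg₀).St (-1) = (q : ℂ) := by
    rw [← el_neg_one, Datum.St_apply]
    have h := (slDatum hg₀).R_center 1 (a := (-1 : Fˣ)) (neg_one_fixed hg₀)
    rw [show (el (-1 : Fˣ) (0 : F)) = ((slDatum hg₀).e (-1, (slDatum hg₀).o) : SLtwo F) from rfl, h]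
    simp [q]
  have hdeg : ∀ χ, IsIrrCharacter (SLtwo F) χ → χ = (slDatum hg₀).St ∨
      ∃ n : ℕ, χ 1 = (n : ℂ) ∧ n ≠ q ∧
        (n = 1 ∨ n = q + 1 ∨ n = q - 1 ∨ 2 * n = q + 1 ∨ 2 * n = q - 1) := by
    intro χ hχ
    have hd := Nat.odd_iff.1 hodd
    rcases T.complete χ hχ with rfl | rfl | h | h | rfl | rfl | rfl | rfl
    · exact Or.inr ⟨1, by simp, by omega, by omega⟩
    · exact Or.inl rfl
    · refine Or.inr ⟨q + 1, ?_, by omega, by omega⟩
      rw [(slDatum hg₀).princSet_one h, hK]; push_cast; rfl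
    · refine Or.inr ⟨q - 1, ?_, by omega, by omega⟩
      rw [(slDatum hg₀).discSet_one h, hK, Nat.cast_sub (by omega)]; simp
    · exact Or.inr ⟨_, T.a_one, by omega, by omega⟩
    · exact Or.inr ⟨_, T.a'_one, by omega, by omega⟩
    · exact Or.inr ⟨_, T.b_one, by omega, by omega⟩
    · exact Or.inr ⟨_, T.b'_one, by omega, by omega⟩
  have hSt1 : (slDatum hg₀).St 1 = (q : ℂ) := by rw [(slDatum hg₀).St_one, hK]
  refine ⟨⟨_, (slDatum hg₀).St_irr⟩, hSt1, hneg, fun χ hχ => ?_, fun χ hχ => ?_⟩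
  · rcases hdeg _ χ.2 with h | ⟨n, hn, hne, -⟩
    · exact Subtype.ext h
    · exact absurd (Nat.cast_inj.1 (hn.symm.trans hχ)) hne
  · rcases hdeg _ χ.2 with h | ⟨n, hn, -, hcase⟩
    · exact absurd (by rw [h]; exact hSt1) hχ
    · rw [show charDegree (χ : SLtwo F → ℂ) = n by simp [charDegree, hn]]
      have hpq : p ∣ q := dvd_card_of_char
      have h1 : ¬ p ∣ 1 := (Fact.out : p.Prime).not_dvd_one
      intro hd
      rcases hcase with rfl | rfl | rfl | e | e
      · exact h1 hd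
      · exact h1 ((Nat.dvd_add_right hpq).1 hd)
      · have := Nat.dvd_sub hpq hd
        rw [show q - (q - 1) = 1 by omega] at this
        exact h1 this
      · exact h1 ((Nat.dvd_add_right hpq).1 (e ▸ dvd_mul_of_dvd_right hd 2))
      · have := Nat.dvd_sub hpq (e ▸ dvd_mul_of_dvd_right hd 2 : p ∣ q - 1)
        rw [show q - (q - 1) = 1 by omega] at this
        exact h1 this

/-- Let F be a finite field with q elements of odd characteristic p, and M a maximal ideal of the algebraic integers containing p. Then SL₂ over F has exactly three p-blocks relative to M: the irreducible character of degree q (the Steinberg character) alone; the other irreducible characters taking the same value at −1 as at 1 (the principal block); and the irreducible characters χ with χ(−1) = −χ(1). Every Sylow p-subgroup is a defect group of each of the last two blocks. -/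
theorem result {F : Type*} [Field F] [Fintype F] (p : ℕ) [Fact p.Prime] [CharP F p] (hp : p ≠ 2)
    (M : Ideal Cfsg.AlgInt) (hM : Cfsg.IsPModular p M) :
    (∀ B : Set (Cfsg.IrrCharacter (Matrix.SpecialLinearGroup (Fin 2) F)), Cfsg.IsPBlock M B ↔
      (B = {χ : Cfsg.IrrCharacter (Matrix.SpecialLinearGroup (Fin 2) F) | (χ : Matrix.SpecialLinearGroup (Fin 2) F → ℂ) 1 = (Fintype.card F : ℂ)} ∨
       B = {χ : Cfsg.IrrCharacter (Matrix.SpecialLinearGroup (Fin 2) F) | (χ : Matrix.SpecialLinearGroup (Fin 2) F → ℂ) (-1) = (χ : Matrix.SpecialLinearGroup (Fin 2) F → ℂ) 1 ∧ (χ : Matrix.SpecialLinearGroup (Fin 2) F → ℂ) 1 ≠ (Fintype.card F : ℂ)} ∨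
       B = {χ : Cfsg.IrrCharacter (Matrix.SpecialLinearGroup (Fin 2) F) | (χ : Matrix.SpecialLinearGroup (Fin 2) F → ℂ) (-1) = -(χ : Matrix.SpecialLinearGroup (Fin 2) F → ℂ) 1})) ∧
    Nat.card {B : Set (Cfsg.IrrCharacter (Matrix.SpecialLinearGroup (Fin 2) F)) // Cfsg.IsPBlock M B} = 3 ∧
    ∀ P : Sylow p (Matrix.SpecialLinearGroup (Fin 2) F),
      Cfsg.IsDefectGroup p M {χ : Cfsg.IrrCharacter (Matrix.SpecialLinearGroup (Fin 2) F) | (χ : Matrix.SpecialLinearGroup (Fin 2) F → ℂ) (-1) = (χ : Matrix.SpecialLinearGroup (Fin 2) F → ℂ) 1 ∧ (χ : Matrix.SpecialLinearGroup (Fin 2) F → ℂ) 1 ≠ (Fintype.card F : ℂ)} (P : Subgroup (Matrix.SpecialLinearGroup (Fin 2) F)) ∧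
      Cfsg.IsDefectGroup p M {χ : Cfsg.IrrCharacter (Matrix.SpecialLinearGroup (Fin 2) F) | (χ : Matrix.SpecialLinearGroup (Fin 2) F → ℂ) (-1) = -(χ : Matrix.SpecialLinearGroup (Fin 2) F → ℂ) 1} (P : Subgroup (Matrix.SpecialLinearGroup (Fin 2) F)) := by
  obtain ⟨St, hSt, hSt', huniq, hdeg⟩ := degree_facts (F := F) p hp
  exact pBlocks_of_degrees St hSt hSt' huniq hdeg hp hM

end Cfsg.Agent.S2439
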