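import Cfsg.Statements.S2440
import Cfsg.Agent.Lib.SLBlocks.Positive
import Cfsg.Agent.Lib.SLBlocks.Count
import Cfsg.Agent.Lib.SteinbergBlock.Main

set_option autoImplicit false
open Cfsg

namespace Cfsg.Agent.S2440

open Cfsg.Agent.Lib Cfsg.Agent.Lib.Blocks MonoidAlgebra

/-- The centre is trivial on a block of defect zero. -/
theorem omegaBar_center_defect_zero {F : Type} [Field F] [Fintype F] {n : ℕ} {p : ℕ} [Fact p.Prime] [CharP F p]
    {M : Ideal AlgInt} [M.IsPrime] (hM : IsPModular p M) {B : Set (IrrCharacter (SteinbergBlock.SLn n F))}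
    (hB : IsPBlock M B) (hd : blockDefect p B = 0) {χ : IrrCharacter (SteinbergBlock.SLn n F)} (hχ : χ ∈ B)
    {z : SteinbergBlock.SLn n F} (hz : z ∈ Subgroup.center (SteinbergBlock.SLn n F)) :
    omegaBar M χ (classSumR M z) = 1 := by
  classical
  have := charP_residue hM
  set E := toF M _ (blockIdem M hB : MonoidAlgebra (localRing M) (SteinbergBlock.SLn n F)) with hEdef
  have hE := SteinbergBlock.isDZ_toF hM hB hd
  rw [← hEdef] at hE
  have hcs : toF M _ (classSumR M z : MonoidAlgebra (localRing M) (SteinbergBlock.SLn n F)) = SteinbergBlock.el z := by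
    rw [show toF M _ (classSumR M z : MonoidAlgebra (localRing M) (SteinbergBlock.SLn n F)) =
      classSum (Residue M) z from map_classSum (residue M) z]
    ext x
    simp only [coeff_classSum, SteinbergBlock.el, coeff_single, Finsupp.single_apply]
    have hiff : IsConj z x ↔ z = x := ⟨fun h => by
      obtain ⟨c, rfl⟩ := isConj_iff.1 h
      rw [Subgroup.mem_center_iff.1 hz c, mul_inv_cancel_right], fun h => h ▸ IsConj.refl z⟩
    simp only [hiff]
  have hzT : z ∈ SteinbergBlock.torus n F := by
    obtain ⟨r, _, hr⟩ := Matrix.SpecialLinearGroup.mem_center_iff.1 hz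
    intro a b hab
    rw [← hr]
    exact Matrix.diagonal_apply_ne _ (by simpa using hab)
  have hzc : ∀ y, SteinbergBlock.el z * y = y * (SteinbergBlock.el z : MonoidAlgebra (Residue M) (SteinbergBlock.SLn n F)) := fun y => by
    have h := Subalgebra.mem_center_iff.1 (map_mem_center (residue M) (classSumR M z).2) y
    rw [show mapRingHom _ (residue M) (classSumR M z : MonoidAlgebra (localRing M) (SteinbergBlock.SLn n F)) =
      SteinbergBlock.el z from hcs] at h
    exact h.symm
  obtain ⟨c, hc⟩ := hE.scalar (SteinbergBlock.el z) fun x => (hzc x).symm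
  set P := SteinbergBlock.pEl n F (Residue M) with hPdef
  have hPz : SteinbergBlock.el z * P = P := by
    rw [hPdef, SteinbergBlock.pEl, ← mul_assoc, (SteinbergBlock.tHat_comm hzT).1]
  have hc1 : c = 1 := by
    have h1 : P * E = c • (P * E) := by
      conv_lhs => rw [← hPz, hzc P, mul_assoc, hzc E, hc, mul_smul_comm]
    have h2 : (c - 1) • (P * E) = 0 := by rw [sub_smul, one_smul, ← h1, sub_self]
    exact sub_eq_zero.1 ((smul_eq_zero.1 h2).resolve_right (SteinbergBlock.pE_ne_zero (p := p) hE))
  rw [hc1, one_smul, ← hcs, hEdef, ← map_mul, ← MulMemClass.coe_mul] at hc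
  have h := omegaBar_congr χ hc
  rwa [map_mul, omegaBar_blockIdem, if_pos hχ, one_mul] at h

/-- For a prime p and n ≥ 2, the group SL_n over the field with p elements has exactly gcd(n, p − 1) + 1 p-blocks relative to any maximal ideal of the algebraic integers containing p, that is, one more than the order of its centre (only this total is asserted; it arises as the defect-zero block of the Steinberg character plus as many blocks of maximal defect as the order of the centre). -/
theorem result (p : ℕ) [Fact p.Prime] (n : ℕ) (hn : 2 ≤ n) (M : Ideal Cfsg.AlgInt) (hM : Cfsg.IsPModular p M) :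
    Nat.card {B : Set (Cfsg.IrrCharacter (Matrix.SpecialLinearGroup (Fin n) (ZMod p))) // Cfsg.IsPBlock M B} =
      Nat.gcd n (p - 1) + 1 := by
  have := hM.2.1.isPrime
  have : NeZero n := ⟨by omega⟩
  classical
  have hcard : Nat.card (Subgroup.center (Matrix.SpecialLinearGroup (Fin n) (ZMod p))) = Nat.gcd n (p - 1) := by
    rw [Nat.card_congr Matrix.SpecialLinearGroup.center_equiv_rootsOfUnity.toEquiv, Fintype.card_fin,
      max_eq_left (by omega : 1 ≤ n)]
    have : rootsOfUnity n (ZMod p) = (powMonoidHom n : (ZMod p)ˣ →* (ZMod p)ˣ).ker := by ext; simp [mem_rootsOfUnity]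
    rw [this, IsCyclic.card_powMonoidHom_ker, Nat.card_units, Nat.card_zmod, Nat.gcd_comm]
  have hp2 := (Fact.out : p.Prime).two_le
  rw [← hcard]
  refine SLBlocks.card_blocks hM ?_ ?_ ?_ ?_ fun B hB hd χ hχ z hz => omegaBar_center_defect_zero hM hB hd hχ hz
  · let i : Fin n := ⟨0, by omega⟩
    let j : Fin n := ⟨1, by omega⟩
    have hij : i ≠ j := fun h => by simp [i, j, Fin.ext_iff] at h
    have hx : Matrix.SpecialLinearGroup.transvection hij (1 : ZMod p) ^ p = 1 := by
      have hk : ∀ k : ℕ, Matrix.SpecialLinearGroup.transvection hij (1 : ZMod p) ^ k =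
          Matrix.SpecialLinearGroup.transvection hij (k : ZMod p) := by
        intro k
        induction k with
        | zero => simp
        | succ k ih => rw [pow_succ, ih, ← Matrix.SpecialLinearGroup.transvection_add, Nat.cast_succ]
      rw [hk, ZMod.natCast_self, Matrix.SpecialLinearGroup.transvection_coeff_zero]
    have hne : Matrix.SpecialLinearGroup.transvection hij (1 : ZMod p) ≠ 1 := fun h => by
      have := congrArg (fun g : Matrix.SpecialLinearGroup (Fin n) (ZMod p) => (g : Matrix (Fin n) (Fin n) (ZMod p)) i j) h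
      simp [Matrix.SpecialLinearGroup.transvection_coe, Matrix.one_apply_ne hij] at this
    refine (orderOf_eq_prime hx hne).symm.dvd.trans ?_
    exact orderOf_dvd_natCard (Matrix.SpecialLinearGroup.transvection hij (1 : ZMod p))
  · rw [hcard]
    intro h
    have := Nat.le_of_dvd (by omega) (h.trans (Nat.gcd_dvd_right n (p - 1)))
    omega
  · exact fun B B' hB hB' hd hd' χ hχ χ' hχ' h => SLBlocks.block_eq_of_center hM hB hB' hd hd' hχ hχ' h
  · exact SteinbergBlock.card_defect_zero_blocks hM

end Cfsg.Agent.S2440
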