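import Cfsg.Statements.S2442
import Cfsg.Agent.Lib.GLCuspidal.Norm
-- import your own Cfsg.Agent.* helpers here

set_option autoImplicit false
open scoped MatrixGroups
open Cfsg

namespace Cfsg.Agent.S2442

open Module Cfsg.Agent.Lib.GLCuspidal

/-- The sum over the upper right block. -/
theorem cuspidal_sum {F : Type*} [Field F] [Fintype F] [DecidableEq F] {K : Type*} [Field K] [Algebra F K] [Fintype K]
    (θ : Kˣ →* ℂˣ) (n m : ℕ) (hm : 0 < m) (hmn : m < n)
    [DecidablePred fun g : GL (Fin n) F => ∀ i j : Fin n, ¬ (i.val < m ∧ m ≤ j.val) →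
      (g : Matrix (Fin n) (Fin n) F) i j = (1 : Matrix (Fin n) (Fin n) F) i j] :
    ∑ g ∈ Finset.univ.filter (fun g : GL (Fin n) F => ∀ i j : Fin n, ¬ (i.val < m ∧ m ≤ j.val) →
        (g : Matrix (Fin n) (Fin n) F) i j = (1 : Matrix (Fin n) (Fin n) F) i j),
      chiVal θ (Matrix.toLinAlgEquiv' (g : Matrix (Fin n) (Fin n) F)) = 0 := by
  classical
  obtain ⟨r, rfl⟩ : ∃ r, n = m + r := ⟨n - m, by omega⟩
  have hr : 0 < r := by omega
  have : Nonempty (Fin (m + r)) := ⟨⟨0, by omega⟩⟩
  let ι : (Fin m → F) →ₗ[F] (Fin (m + r) → F) :=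
    { toFun := fun v => Fin.append v 0
      map_add' := fun v w => funext fun i => Fin.addCases (by simp) (by simp) i
      map_smul' := fun c v => funext fun i => Fin.addCases (by simp) (by simp) i }
  have hι : Function.Injective ι := fun v w h => funext fun i => by
    simpa [ι] using congrFun h (Fin.castAdd r i)
  let N : (Fin r → Fin m → F) → Matrix (Fin (m + r)) (Fin (m + r)) F := fun b =>
    Matrix.of fun i j => Fin.addCases (fun _ => (0 : F)) (fun j' => ι (b j') i) j
  have hNl : ∀ b i (j : Fin m), N b i (Fin.castAdd r j) = 0 := fun b i j => by simp [N]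
  have hNr : ∀ b i (j : Fin r), N b i (Fin.natAdd m j) = ι (b j) i := fun b i j => by simp [N]
  have hN0 : ∀ b (i : Fin r) j, N b (Fin.natAdd m i) j = 0 := fun b i j => by
    refine Fin.addCases (fun j => hNl b _ j) (fun j => ?_) j
    rw [hNr]; simp [ι]
  have hNN : ∀ b, N b * N b = 0 := fun b => by
    ext i j
    rw [Matrix.mul_apply, Fin.sum_univ_add]
    simp [hNl, hN0]
  let mk : (Fin r → Fin m → F) → GL (Fin (m + r)) F := fun b =>
    ⟨1 + N b, 1 - N b, by rw [mul_sub, mul_one, add_mul, one_mul, hNN]; abel,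
      by rw [sub_mul, one_mul, mul_add, mul_one, hNN]; abel⟩
  let Φ : GL (Fin (m + r)) F → ℂ := fun g => chiVal θ (Matrix.toLinAlgEquiv' (g : Matrix (Fin (m + r)) (Fin (m + r)) F))
  show ∑ g ∈ _, Φ g = 0
  refine (Finset.sum_bij (s := (Finset.univ : Finset (Fin r → Fin m → F))) (f := fun b => Φ (mk b)) (g := Φ) (fun b _ => mk b)
    ?_ ?_ ?_ (fun b _ => rfl)).symm.trans ?_
  rotate_left 3
  · have hval : ∀ b, chiVal θ (Matrix.toLinAlgEquiv' (mk b : Matrix (Fin (m + r)) (Fin (m + r)) F)) =
        (phi (Fintype.card F) (finrank F (Fin m → F) + r - finrank F (Submodule.span F (Set.range b))) : ℂ) := by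
      intro b
      have e : ((mk b : GL (Fin (m + r)) F) : Matrix (Fin (m + r)) (Fin (m + r)) F) = 1 + N b := rfl
      rw [e]
      have hnil : IsNilpotent (Matrix.toLinAlgEquiv' (N b) : Module.End F (Fin (m + r) → F)) :=
        ⟨2, by rw [pow_two, ← map_mul, hNN, map_zero]⟩
      rw [map_add, map_one, chiVal_one_add θ hnil]
      congr 2
      have h := LinearMap.finrank_range_add_finrank_ker (Matrix.mulVecLin (N b))
      have hrange : LinearMap.range (Matrix.mulVecLin (N b)) = (Submodule.span F (Set.range b)).map ι := by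
        rw [Matrix.range_mulVecLin, Submodule.map_span, ← Set.range_comp]
        apply le_antisymm <;> rw [Submodule.span_le] <;> rintro _ ⟨j, rfl⟩
        · refine Fin.addCases (fun j => ?_) (fun j => ?_) j
          · rw [show (N b).col (Fin.castAdd r j) = 0 from funext fun i => hNl b i j]
            exact Submodule.zero_mem _
          · exact Submodule.subset_span ⟨j, funext fun i => (hNr b i j).symm⟩
        · exact Submodule.subset_span ⟨Fin.natAdd m j, funext fun i => hNr b i j⟩
      rw [hrange, (Submodule.equivMapOfInjective ι hι _).symm.finrank_eq, finrank_pi, Fintype.card_fin] at h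
      rw [finrank_pi, Fintype.card_fin]
      show finrank F (LinearMap.ker (Matrix.mulVecLin (N b))) = _
      omega
    simp only [Φ]
    rw [Finset.sum_congr rfl fun b _ => hval b, ← Int.cast_sum,
      sum_phi_span (K := F) (V := Fin m → F) (by rw [finrank_pi, Fintype.card_fin]; exact hm) r hr, Int.cast_zero]
  · intro b _
    refine Finset.mem_filter.2 ⟨Finset.mem_univ _, fun i j hij => ?_⟩
    show (1 + N b) i j = _
    rw [Matrix.add_apply, add_eq_left]
    revert hij
    refine Fin.addCases (fun j _ => hNl b i j) (fun j => ?_) j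
    refine Fin.addCases (fun i hij => absurd ⟨by simp, by simp⟩ hij) (fun i _ => hN0 b i _) i
  · intro b _ b' _ h
    have h1 : N b = N b' := add_left_cancel (congrArg Units.val h)
    exact funext fun j => hι (funext fun i => by rw [← hNr, ← hNr, h1])
  · intro g hg
    have hg' := (Finset.mem_filter.1 hg).2
    refine ⟨fun j i => (g : Matrix (Fin (m + r)) (Fin (m + r)) F) (Fin.castAdd r i) (Fin.natAdd m j),
      Finset.mem_univ _, Units.ext (Matrix.ext fun i j => ?_)⟩
    show (1 + N _) i j = _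
    rw [Matrix.add_apply]
    refine Fin.addCases (fun j => ?_) (fun j => ?_) j
    · rw [hNl, add_zero, hg' i (Fin.castAdd r j) (fun h => by simp at h; omega)]
    · refine Fin.addCases (fun i => ?_) (fun i => ?_) i
      · rw [hNr, Matrix.one_apply_ne (fun h => by simp [Fin.ext_iff] at h; omega), zero_add]
        simp [ι]
      · rw [hN0, add_zero, hg' (Fin.natAdd m i) (Fin.natAdd m j) (fun h => by simp at h)]


open Classical in
/-- Let F be a finite field with q elements and n ≥ 2. Call a complex character χ of GL_n over F cuspidal when, for every 0 < m < n, the sum of χ over the subgroup of matrices that agree with the identity outside the upper right m × (n − m) block vanishes (the restriction of χ to the unipotent radical of each maximal standard parabolic subgroup contains no principal constituent). Then GL_n has at least φ(qⁿ − 1)/n distinct cuspidal irreducible characters of degree (q − 1)(q² − 1)⋯(q^(n−1) − 1), φ being Euler's function (in particular at least one). -/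
theorem result {F : Type*} [Field F] [Fintype F] [DecidableEq F] (n : ℕ) (hn : 2 ≤ n) :
    Nat.totient (Fintype.card F ^ n - 1) / n ≤
      Nat.card {χ : Cfsg.IrrCharacter (GL (Fin n) F) //
        (χ : GL (Fin n) F → ℂ) 1 = ∏ i ∈ Finset.Ico 1 n, ((Fintype.card F : ℂ) ^ i - 1) ∧
        ∀ m : ℕ, 0 < m → m < n →
          (∑ g : GL (Fin n) F,
            if (∀ i j : Fin n, ¬ (i.val < m ∧ m ≤ j.val) → (g : Matrix (Fin n) (Fin n) F) i j = (1 : Matrix (Fin n) (Fin n) F) i j)
            then (χ : GL (Fin n) F → ℂ) g else 0) = 0} := by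
  classical
  obtain ⟨p, hp⟩ := CharP.exists F
  have := Fact.mk (CharP.char_is_prime F p)
  have : NeZero n := ⟨by omega⟩
  let K := FiniteField.Extension F p n
  let _ : Fintype K := Fintype.ofFinite K
  have hK : Module.finrank F K = n := FiniteField.finrank_extension F p n
  have hV : Module.finrank F (Fin n → F) = Module.finrank F K := by rw [hK, Module.finrank_pi, Fintype.card_fin]
  have hKcard : Nat.card Kˣ = Fintype.card F ^ n - 1 := by
    rw [Nat.card_units, Module.natCard_eq_pow_finrank (K := F), hK, Nat.card_eq_fintype_card]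
  have : Fintype (K ≃ₐ[F] K) := @Fintype.ofFinite _ (Finite.of_injective _ DFunLike.coe_injective)
  have : Nonempty (Fin n) := ⟨⟨0, by omega⟩⟩
  let _ : Fintype (Module.End F (Fin n → F))ˣ :=
    Fintype.ofEquiv (GL (Fin n) F) (Units.mapEquiv (Matrix.toLinAlgEquiv' (R := F) (n := Fin n)).toMulEquiv).toEquiv
  obtain ⟨g, hg⟩ := IsCyclic.exists_generator (α := Kˣ)
  have hgo : orderOf g = Fintype.card F ^ n - 1 := by rw [orderOf_eq_card_of_forall_mem_zpowers hg, hKcard]
  set N0 := Fintype.card F ^ n - 1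
  have hN0 : N0 ≠ 0 := hKcard ▸ Nat.card_pos.ne'
  let th : ℂ → (Kˣ →* ℂˣ) := fun ζ =>
    if h : IsPrimitiveRoot ζ N0 then monoidHomOfForallMemZpowers hg (g' := (h.isUnit hN0).unit)
      (by rw [hgo, ← (h.isUnit_unit hN0).eq_orderOf])
    else 1
  have hth : ∀ ζ, IsPrimitiveRoot ζ N0 → (th ζ g : ℂ) = ζ ∧ Function.Injective (th ζ) := by
    intro ζ h
    have e : th ζ g = (h.isUnit hN0).unit := by
      simp only [th, dif_pos h]
      exact monoidHomOfForallMemZpowers_apply_gen hg _
    refine ⟨by rw [e]; rfl, (injective_iff_map_eq_one _).2 fun a ha => ?_⟩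
    obtain ⟨k, rfl⟩ := hg a
    rw [map_zpow, e] at ha
    apply orderOf_dvd_iff_zpow_eq_one.1
    rw [hgo, (h.isUnit_unit hN0).eq_orderOf]
    exact orderOf_dvd_iff_zpow_eq_one.2 ha
  let chi : ℂ → (GL (Fin n) F → ℂ) := fun ζ x =>
    (-1 : ℂ) ^ (n - 1) * chiVal (th ζ) (Matrix.toLinAlgEquiv' (x : Matrix (Fin n) (Fin n) F))
  have hmem : ∀ ζ ∈ primitiveRoots N0 ℂ, Cfsg.IsIrrCharacter (GL (Fin n) F) (chi ζ) ∧
      chi ζ 1 = ∏ i ∈ Finset.Ico 1 n, ((Fintype.card F : ℂ) ^ i - 1) ∧
      ∀ m : ℕ, 0 < m → m < n →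
        (∑ g : GL (Fin n) F,
          if (∀ i j : Fin n, ¬ (i.val < m ∧ m ≤ j.val) → (g : Matrix (Fin n) (Fin n) F) i j = (1 : Matrix (Fin n) (Fin n) F) i j)
          then chi ζ g else 0) = 0 := by
    intro ζ hζ
    obtain ⟨-, hinj⟩ := hth ζ ((mem_primitiveRoots (Nat.pos_of_ne_zero hN0)).1 hζ)
    refine ⟨?_, ?_, fun m hm hmn => ?_⟩
    · have h := exists_irrCharacter (V := Fin n → F) (th ζ) hV fun σ hσ => AlgEquiv.ext fun x => ?_
      · have h2 := Lib.Chars.isIrrCharacter_comp_mulEquiv
          (Units.mapEquiv (Matrix.toLinAlgEquiv' (R := F) (n := Fin n)).toMulEquiv) h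
        rw [hV, hK] at h2
        exact h2
      · rcases eq_or_ne x 0 with rfl | hx
        · simp
        · exact congrArg Units.val (hinj (DFunLike.congr_fun hσ (Units.mk0 x hx)))
    · show (-1 : ℂ) ^ (n - 1) * chiVal (th ζ) (Matrix.toLinAlgEquiv' ((1 : GL (Fin n) F) : Matrix (Fin n) (Fin n) F)) = _
      rw [Units.val_one, map_one, show (1 : Module.End F (Fin n → F)) = 1 + 0 from (add_zero 1).symm,
        chiVal_one_add (th ζ) IsNilpotent.zero, LinearMap.ker_zero, finrank_top, Module.finrank_pi, Fintype.card_fin, phi_sign]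
    · rw [← Finset.sum_filter]
      simp only [chi]
      rw [← Finset.mul_sum, cuspidal_sum (th ζ) n m hm hmn, mul_zero]
  set S := {χ : Cfsg.IrrCharacter (GL (Fin n) F) //
        (χ : GL (Fin n) F → ℂ) 1 = ∏ i ∈ Finset.Ico 1 n, ((Fintype.card F : ℂ) ^ i - 1) ∧
        ∀ m : ℕ, 0 < m → m < n →
          (∑ g : GL (Fin n) F,
            if (∀ i j : Fin n, ¬ (i.val < m ∧ m ≤ j.val) → (g : Matrix (Fin n) (Fin n) F) i j = (1 : Matrix (Fin n) (Fin n) F) i j)
            then (χ : GL (Fin n) F → ℂ) g else 0) = 0}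
  let f : {ζ // ζ ∈ primitiveRoots N0 ℂ} → S := fun ζ => ⟨⟨chi ζ, (hmem ζ ζ.2).1⟩, (hmem ζ ζ.2).2⟩
  have hfib : ∀ s ∈ Finset.univ.image f, (Finset.univ.filter fun ζ => f ζ = s).card ≤ n := by
    intro s hs
    obtain ⟨ζ₀, -, rfl⟩ := Finset.mem_image.1 hs
    have h0 := hth ζ₀ ((mem_primitiveRoots (Nat.pos_of_ne_zero hN0)).1 ζ₀.2)
    refine le_trans (Finset.card_le_card_of_injOn (t := (Finset.univ : Finset (K ≃ₐ[F] K)).image
      fun σ => (galAct (th ζ₀) σ g : ℂ)) (fun ζ => (ζ : ℂ)) (fun ζ hζ => ?_) (fun a _ b _ h => Subtype.ext h)) ?_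
    · have he : chi ζ = chi ζ₀ := congrArg (fun x : S => (x.1 : GL (Fin n) F → ℂ)) (Finset.mem_filter.1 hζ).2
      obtain ⟨hζg, hinj⟩ := hth ζ ((mem_primitiveRoots (Nat.pos_of_ne_zero hN0)).1 ζ.2)
      have hval : (fun x : (Module.End F (Fin n → F))ˣ => chiVal (th ζ) (x : Module.End F (Fin n → F))) =
          fun x : (Module.End F (Fin n → F))ˣ => chiVal (th ζ₀) (x : Module.End F (Fin n → F)) := by
        funext x
        obtain ⟨y, rfl⟩ := (Units.mapEquiv (Matrix.toLinAlgEquiv' (R := F) (n := Fin n)).toMulEquiv).surjective x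
        exact mul_left_cancel₀ (pow_ne_zero _ (by norm_num)) (congrFun he y)
      have h1 := classInner_chiVal (V := Fin n → F) (th ζ) (th ζ) hV
      have h2 := classInner_chiVal (V := Fin n → F) (th ζ) (th ζ₀) hV
      rw [← hval, h1, Nat.cast_inj] at h2
      have hne : (Finset.univ.filter fun σ : K ≃ₐ[F] K => galAct (th ζ₀) σ = th ζ).Nonempty := by
        rw [← Finset.card_pos, ← h2, Finset.card_pos]
        exact ⟨1, Finset.mem_filter.2 ⟨Finset.mem_univ _, MonoidHom.ext fun a => congrArg (th ζ) (Units.ext rfl)⟩⟩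
      obtain ⟨σ, hσ⟩ := hne
      refine Finset.mem_coe.2 (Finset.mem_image.2 ⟨σ, Finset.mem_univ _, ?_⟩)
      rw [(Finset.mem_filter.1 hσ).2, hζg]
    · refine Finset.card_image_le.trans ?_
      have : IsGalois F K := GaloisField.instIsGaloisOfFinite
      rw [Finset.card_univ, ← Nat.card_eq_fintype_card, IsGalois.card_aut_eq_finrank, hK]
  have h := Finset.card_le_mul_card_image (f := f) Finset.univ n hfib
  rw [Finset.card_univ, Fintype.card_coe, Complex.card_primitiveRoots] at h
  refine Nat.div_le_of_le_mul (h.trans (Nat.mul_le_mul_left n ?_))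
  rw [Nat.card_eq_fintype_card]
  exact Finset.card_le_univ _

end Cfsg.Agent.S2442
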