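import Cfsg.Statements.S2444
import Cfsg.Agent.Lib.SLCommutator.LargeField
import Cfsg.Agent.Lib.SLCommutator.FieldTwo
import Cfsg.Agent.Lib.SLCommutator.FieldThree

set_option autoImplicit false
open Cfsg

namespace Cfsg.Agent.S2444

open Module Cfsg.Agent.Lib.SLCommutator

/-- In the special linear group SL(n,F) over a finite field F, with n ≥ 2 and (n, |F|) not (2,2) or (2,3), every element is a commutator a·b·a⁻¹·b⁻¹ of two elements of SL(n,F). -/
theorem result {F : Type*} [Field F] [Fintype F] (n : ℕ) (hn : 2 ≤ n) (hex : n = 2 → 4 ≤ Fintype.card F) :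
    ∀ g : Matrix.SpecialLinearGroup (Fin n) F, ∃ a b : Matrix.SpecialLinearGroup (Fin n) F, g = a * b * a⁻¹ * b⁻¹ := by
  intro g
  have hA : LinearMap.det (Matrix.toLin' (g : Matrix (Fin n) (Fin n) F)) = 1 := by
    rw [LinearMap.det_toLin']; exact g.2
  have hfr : finrank F (Fin n → F) = n := finrank_fin_fun F
  have hc : Comm (Matrix.toLin' (g : Matrix (Fin n) (Fin n) F)) := by
    rcases Nat.lt_or_ge (Fintype.card F) 4 with h | h
    · have h3 : 3 ≤ n := by
        rcases Nat.lt_or_ge n 3 with h' | h'
        · have := hex (by omega); omega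
        · exact h'
      have h2 : 1 < Fintype.card F := Fintype.one_lt_card
      rcases (show Fintype.card F = 2 ∨ Fintype.card F = 3 by omega) with h' | h'
      · exact comm_card_two h' (by omega) hA
      · exact comm_card_three h' (by omega) hA
    · exact comm_large h (by omega) hA
  obtain ⟨B, X, hB, hX, hAX⟩ := hc
  let b : Matrix.SpecialLinearGroup (Fin n) F := ⟨LinearMap.toMatrix' B, by rw [LinearMap.det_toMatrix', hB]⟩
  let x : Matrix.SpecialLinearGroup (Fin n) F := ⟨LinearMap.toMatrix' X, by rw [LinearMap.det_toMatrix', hX]⟩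
  have key : g * x * b = b * x := by
    apply Subtype.ext
    have := congrArg LinearMap.toMatrix' hAX
    simpa [Module.End.mul_eq_comp, LinearMap.toMatrix'_comp, LinearMap.toMatrix'_toLin'] using this
  refine ⟨b, x, ?_⟩
  rw [← key]
  group

end Cfsg.Agent.S2444
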