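import Cfsg.Statements.S2445
import Cfsg.Agent.Lib.SpCommutator.Main

set_option autoImplicit false
open Cfsg

namespace Cfsg.Agent.S2445

open Matrix

/-- In the symplectic group Sp(2m,F) over a finite field F (m ≥ 1), other than Sp(2,2), Sp(2,3) and Sp(4,2), every element is a commutator a·b·a⁻¹·b⁻¹ of two elements of Sp(2m,F). -/
theorem result {F : Type*} [Field F] [Fintype F] (m : ℕ) (hm : 1 ≤ m) (h1 : m = 1 → 4 ≤ Fintype.card F)
    (h2 : m = 2 → 3 ≤ Fintype.card F) : ∀ g : Matrix.symplecticGroup (Fin m) F, ∃ a b : Matrix.symplecticGroup (Fin m) F, g = a * b * a⁻¹ * b⁻¹ := by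
  classical
  intro g
  set J := Matrix.J (Fin m) F with hJ
  have hdot : ∀ x y : Fin m ⊕ Fin m → F, Matrix.toBilin' J x y = x ⬝ᵥ J *ᵥ y := fun x y => by
    rw [Matrix.toBilin'_apply']
  have halt : ∀ x : Fin m ⊕ Fin m → F, Matrix.toBilin' J x x = 0 := fun x => by
    rw [hdot, hJ, Matrix.J]
    simp only [Matrix.fromBlocks_mulVec, dotProduct, Fintype.sum_sum_type, Sum.elim_inl,
      Sum.elim_inr, Pi.add_apply, Matrix.zero_mulVec, Matrix.neg_mulVec, Matrix.one_mulVec,
      Pi.zero_apply, zero_add, add_zero, Pi.neg_apply, Function.comp_apply, mul_neg,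
      Finset.sum_neg_distrib]
    rw [neg_add_eq_sub, sub_eq_zero]
    exact Finset.sum_congr rfl fun i _ => mul_comm _ _
  have hnd : ∀ x : Fin m ⊕ Fin m → F, (∀ y, Matrix.toBilin' J x y = 0) → x = 0 := by
    intro x hx
    have h0 : x ᵥ* J = 0 := by
      funext i
      have h := hx (Pi.single i 1)
      rw [hdot, Matrix.dotProduct_mulVec] at h
      simpa using h
    have h1 := congrArg (· ᵥ* J) h0
    simp only [Matrix.vecMul_vecMul, hJ, Matrix.J_squared, Matrix.vecMul_neg, Matrix.vecMul_one,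
      Matrix.zero_vecMul, neg_eq_zero] at h1
    exact h1
  have hmem : ∀ M : Matrix (Fin m ⊕ Fin m) (Fin m ⊕ Fin m) F,
      M ∈ Matrix.symplecticGroup (Fin m) F ↔
        ∀ x y, Matrix.toBilin' J (M *ᵥ x) (M *ᵥ y) = Matrix.toBilin' J x y := by
    intro M
    rw [SymplecticGroup.mem_iff']
    have hc : ∀ x y, Matrix.toBilin' J (M *ᵥ x) (M *ᵥ y) =
        Matrix.toBilin' (Mᵀ * J * M) x y := fun x y => by
      rw [← Matrix.toBilin'_comp]
      simp [Matrix.toLin'_apply]
    simp only [hc]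
    constructor
    · intro h x y; rw [← hJ] at h; rw [h]
    · intro h
      exact Matrix.toBilin'.injective (LinearMap.ext fun x => LinearMap.ext fun y => h x y)
  let Φ : Matrix.symplecticGroup (Fin m) F →* ((Fin m ⊕ Fin m → F) ≃ₗ[F] (Fin m ⊕ Fin m → F)) :=
    (LinearMap.GeneralLinearGroup.generalLinearEquiv F (Fin m ⊕ Fin m → F)).toMonoidHom.comp
      ((Units.map (Matrix.toLinAlgEquiv' (R := F)).toRingEquiv.toMonoidHom).comp
        (Submonoid.subtype _).toHomUnits)
  have hΦ : ∀ M x, Φ M x = M.1 *ᵥ x := fun M x => rfl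
  have hΦinj : Function.Injective Φ := fun M N h => Subtype.ext (Matrix.toLin'.injective
    (LinearMap.ext fun x => by
      have := LinearEquiv.congr_fun h x
      rw [hΦ, hΦ] at this
      simpa [Matrix.toLin'_apply] using this))
  have hsurj : ∀ a : (Fin m ⊕ Fin m → F) ≃ₗ[F] (Fin m ⊕ Fin m → F),
      (∀ x y, Matrix.toBilin' J (a x) (a y) = Matrix.toBilin' J x y) → ∃ M, Φ M = a := by
    intro a ha
    have he : ∀ x, LinearMap.toMatrix' (a : (Fin m ⊕ Fin m → F) →ₗ[F] _) *ᵥ x = a x := fun x =>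
      LinearMap.toMatrix'_mulVec _ x
    refine ⟨⟨_, (hmem _).2 fun x y => by rw [he, he]; exact ha x y⟩, LinearEquiv.ext fun x => ?_⟩
    rw [hΦ]
    exact he x
  let C : Cfsg.Agent.Lib.SpCommutator.Ctx F (Fin m ⊕ Fin m → F) :=
    { B := Matrix.toBilin' J
      g := Φ g
      alt := halt
      nondeg := hnd
      isom := fun x y => (hmem g.1).1 g.2 x y }
  have hdim : Module.finrank F (⊤ : Submodule F (Fin m ⊕ Fin m → F)) = 2 * m := by
    rw [finrank_top, Module.finrank_pi, Fintype.card_sum, Fintype.card_fin, two_mul]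
  obtain ⟨a, b, ha, hb, hab⟩ := C.comm_of_commOn_top (Cfsg.Agent.Lib.SpCommutator.Ctx.commOn_of_dim
    C.nondeg_top C.stable_top
    (fun h => by rw [hdim]; by_contra h'; rcases (show m = 1 ∨ m = 2 by omega) with e | e
                 · have := h1 e; omega
                 · have := h2 e; omega)
    (fun h => by rw [hdim]; intro h'; have := h1 (by omega); omega))
  obtain ⟨A, hA⟩ := hsurj a ha
  obtain ⟨B, hB⟩ := hsurj b hb
  refine ⟨A, B, hΦinj ?_⟩
  rw [map_mul, map_mul, map_mul, map_inv, map_inv, hA, hB]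
  exact hab

end Cfsg.Agent.S2445
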