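import Mathlib
import Cfsg.Statements.S2450
import Cfsg.Agent.Lib.SL2Products.Basic

set_option autoImplicit false
open Cfsg

namespace Cfsg.Agent.S2450

open Cfsg.Agent.Lib.SL2

/-- The Arad–Herzog conjecture for PSL(2,q): let F be a finite field with q ≥ 4 elements. For any two non-identity elements a, b of PSL(2,F), the set of products of a conjugate of a with a conjugate of b is not a single conjugacy class. -/
theorem result {F : Type*} [Field F] [Fintype F] (h4 : 4 ≤ Fintype.card F)
    (a b : Matrix.ProjectiveSpecialLinearGroup (Fin 2) F) (ha : a ≠ 1) (hb : b ≠ 1) (c : Matrix.ProjectiveSpecialLinearGroup (Fin 2) F) :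
    {g : Matrix.ProjectiveSpecialLinearGroup (Fin 2) F | ∃ u v : Matrix.ProjectiveSpecialLinearGroup (Fin 2) F, g = (u * a * u⁻¹) * (v * b * v⁻¹)} ≠ {g | IsConj c g} := by
  intro h
  obtain ⟨A, rfl⟩ := proj_surjective a
  obtain ⟨B, rfl⟩ := proj_surjective b
  obtain ⟨C₀, rfl⟩ := proj_surjective c
  obtain ⟨u, v, h1, h2⟩ := Cfsg.Agent.Lib.SL2Products.exists_trace_avoid h4
    (notMem_center_of_proj_ne ha) (notMem_center_of_proj_ne hb) (tr C₀)
  have hmem : proj (u * A * u⁻¹ * (v * B * v⁻¹)) ∈ {g | IsConj (proj C₀) g} := by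
    rw [← h]
    exact ⟨proj u, proj v, by simp⟩
  obtain ⟨k, hk⟩ := isConj_iff.1 hmem
  obtain ⟨K, rfl⟩ := proj_surjective k
  rw [← map_inv, ← map_mul, ← map_mul, proj_eq_proj_iff] at hk
  rcases hk with hk | hk
  · exact h1 (by rw [hk, tr_conj])
  · exact h2 (by rw [hk, tr_neg, tr_conj])

end Cfsg.Agent.S2450
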