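import Mathlib
import Cfsg.Statements.S2455
import Cfsg.Agent.Lib.SL2.Classes
import Cfsg.Agent.Lib.SL2Products.Basic

set_option autoImplicit false
open Cfsg

namespace Cfsg.Agent.S2455

open Cfsg.Agent.Lib.SL2

/-- A strong covering result in the direction of Thompson's conjecture (non-identity elements) for PSL(2,q), q odd: let F be a finite field of odd characteristic p with at least 5 elements and let x ∈ PSL(2,F) have order greater than 2 and not divisible by p (so x is not unipotent). Then every non-identity element of PSL(2,F) is a product of two conjugates of x. -/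
theorem result {F : Type*} [Field F] [Fintype F] (p : ℕ) [Fact p.Prime] [CharP F p] (hp : p ≠ 2) (h5 : 5 ≤ Fintype.card F)
    (x : Matrix.ProjectiveSpecialLinearGroup (Fin 2) F) (hx2 : 2 < orderOf x) (hxp : ¬ p ∣ orderOf x) : ∀ g : Matrix.ProjectiveSpecialLinearGroup (Fin 2) F, g ≠ 1 → ∃ u v : Matrix.ProjectiveSpecialLinearGroup (Fin 2) F, g = (u * x * u⁻¹) * (v * x * v⁻¹) := by
  intro g hg
  have hpp := (Fact.out : p.Prime)
  obtain ⟨X, rfl⟩ := proj_surjective x
  obtain ⟨G₀, rfl⟩ := proj_surjective g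
  have hsemi : IsSemi (proj X) := by
    rcases semi_or_unip (proj X) with h | h
    · exact h
    · rcases (Nat.dvd_prime hpp).1 (orderOf_dvd_of_unip p h) with h' | h'
      · omega
      · exact absurd (h' ▸ dvd_refl p) hxp
  have hne := hsemi.tr_ne
  have hX : IsElliptic X ∨ IsSplit X := elliptic_or_split_of_tr hne
  have hchar : ringChar F ≠ 2 := by rw [ringChar.eq F p]; exact hp
  have ht : tr X ≠ 0 := by
    intro h0
    have hsq : (X * X : SLtwo F) = -1 := by
      apply Subtype.ext
      show (X : Matrix (Fin 2) (Fin 2) F) * X = _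
      rw [cayley_hamilton, h0]
      simp
    have : (proj X) ^ 2 = 1 := by
      rw [sq, ← map_mul, hsq]
      exact proj_eq_one_iff.2 neg_one_mem_center
    have := Nat.le_of_dvd (by norm_num) (orderOf_dvd_of_pow_eq_one this)
    omega
  obtain ⟨G₁, hG₁, hs⟩ : ∃ G₁, proj G₁ = proj G₀ ∧ tr G₁ ≠ 2 := by
    by_cases h : tr G₀ = 2
    · refine ⟨-G₀, proj_neg G₀, ?_⟩
      rw [tr_neg, h]
      intro h'
      exact two_ne_neg_two (Ring.two_ne_zero hchar) h'.symm
    · exact ⟨G₀, rfl, h⟩
  obtain ⟨a, b, hab⟩ := Cfsg.Agent.Lib.SL2Products.conic_of_odd hchar ht hs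
  have hnc : G₁ ∉ Subgroup.center (SLtwo F) := fun hc => hg (by rw [← hG₁]; exact proj_eq_one_iff.2 hc)
  obtain ⟨u, v, huv⟩ := Cfsg.Agent.Lib.SL2Products.exists_conj_product hX hnc hab
  refine ⟨proj u, proj v, ?_⟩
  rw [← hG₁, huv]
  simp

end Cfsg.Agent.S2455
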