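import Mathlib
import Cfsg.Statements.S2456
import Cfsg.Agent.Lib.SL2.Classes
import Cfsg.Agent.Lib.SL2Products.Basic

set_option autoImplicit false
open Cfsg

namespace Cfsg.Agent.S2456

open Cfsg.Agent.Lib.SL2

/-- A strong covering result in the direction of Thompson's conjecture (non-identity elements) for PSL(2,q), q even: let F be a finite field of characteristic 2 with q ≥ 4 elements and let x ∈ PSL(2,F) have order greater than 2 and not dividing q + 1. Then every non-identity element of PSL(2,F) is a product of two conjugates of x. -/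
theorem result {F : Type*} [Field F] [Fintype F] [CharP F 2] (h4 : 4 ≤ Fintype.card F)
    (x : Matrix.ProjectiveSpecialLinearGroup (Fin 2) F) (hx2 : 2 < orderOf x) (hxq : ¬ orderOf x ∣ Fintype.card F + 1) : ∀ g : Matrix.ProjectiveSpecialLinearGroup (Fin 2) F, g ≠ 1 → ∃ u v : Matrix.ProjectiveSpecialLinearGroup (Fin 2) F, g = (u * x * u⁻¹) * (v * x * v⁻¹) := by
  intro g hg
  obtain ⟨X, rfl⟩ := proj_surjective x
  obtain ⟨G₀, rfl⟩ := proj_surjective g
  have hsemi : IsSemi (proj X) := by
    rcases semi_or_unip (proj X) with h | h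
    · exact h
    · have := Nat.le_of_dvd (by norm_num) (orderOf_dvd_of_unip 2 h)
      omega
  rcases elliptic_or_split_of_tr hsemi.tr_ne with he | hs
  · exfalso
    apply hxq
    refine dvd_trans (orderOf_map_dvd proj X) ?_
    rw [← card_centralizer_elliptic he]
    exact orderOf_dvd_card_centralizer X
  obtain ⟨a, b, hab⟩ := Cfsg.Agent.Lib.SL2Products.conic_of_split hs (tr G₀)
  have hnc : G₀ ∉ Subgroup.center (SLtwo F) := fun hc => hg (proj_eq_one_iff.2 hc)
  obtain ⟨u, v, huv⟩ := Cfsg.Agent.Lib.SL2Products.exists_conj_product (Or.inr hs) hnc hab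
  exact ⟨proj u, proj v, by rw [huv]; simp⟩

end Cfsg.Agent.S2456
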