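import Mathlib
import Cfsg.Statements.S2459
import Cfsg.Agent.Lib.SL3Products.Canonical
import Cfsg.Agent.Lib.SL3Products.Factor

set_option autoImplicit false
open Cfsg

namespace Cfsg.Agent.S2459

open Matrix Cfsg.Agent.Lib.SL3Products

variable {F : Type*} [Field F]

theorem exists_special_conj {X : Matrix.SpecialLinearGroup (Fin 3) F}
    (hZ : ∀ u : F, u ≠ 0 → ∃ Z : Matrix (Fin 3) (Fin 3) F, Z * X.1 = X.1 * Z ∧ Z.det = u)
    {A : Matrix (Fin 3) (Fin 3) F} (h : Sim A X.1) :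
    ∃ R : Matrix.SpecialLinearGroup (Fin 3) F, (R * X * R⁻¹).1 = A := by
  obtain ⟨P, hP, e⟩ := h
  obtain ⟨Z, hZc, hZd⟩ := hZ P.det⁻¹ (inv_ne_zero hP)
  let R : Matrix.SpecialLinearGroup (Fin 3) F :=
    ⟨P * Z, by rw [Matrix.det_mul, hZd]; exact mul_inv_cancel₀ hP⟩
  refine ⟨R, ?_⟩
  have hR : (R * X).1 = A * R.1 := by
    show P * Z * X.1 = A * (P * Z)
    rw [Matrix.mul_assoc, hZc, ← Matrix.mul_assoc, ← e, Matrix.mul_assoc]
  show (R * X).1 * (R⁻¹).1 = A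
  rw [hR, Matrix.mul_assoc]
  show A * (R * R⁻¹).1 = A
  rw [mul_inv_cancel]
  exact Matrix.mul_one A

theorem covers {X : Matrix.SpecialLinearGroup (Fin 3) F}
    (hZ : ∀ u : F, u ≠ 0 → ∃ Z : Matrix (Fin 3) (Fin 3) F, Z * X.1 = X.1 * Z ∧ Z.det = u)
    (hK : ∀ a b, IsProd X.1 (comp3 a b)) (hN : ∀ c, c ≠ 0 → IsProd X.1 (quad3 c))
    (g : Matrix.ProjectiveSpecialLinearGroup (Fin 3) F) (hg : g ≠ 1) :
    ∃ u v : Matrix.ProjectiveSpecialLinearGroup (Fin 3) F,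
      g = (u * QuotientGroup.mk X * u⁻¹) * (v * QuotientGroup.mk X * v⁻¹) := by
  induction g using QuotientGroup.induction_on with | _ G => ?_
  have hns : ∀ c : F, G.1 ≠ c • (1 : Matrix (Fin 3) (Fin 3) F) := by
    intro c hc
    apply hg
    rw [QuotientGroup.eq_one_iff, Subgroup.mem_center_iff]
    intro H
    apply Subtype.ext
    show H.1 * G.1 = G.1 * H.1
    rw [hc]
    simp
  have hp : IsProd X.1 G.1 := by
    rcases canonical G.2 hns with ⟨a, b, h⟩ | ⟨c, hc, h⟩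
    · exact (hK a b).of_sim h
    · exact (hN c hc).of_sim h
  obtain ⟨A, B, hA, hB, hAB⟩ := hp
  obtain ⟨R, hR⟩ := exists_special_conj hZ hA
  obtain ⟨S, hS⟩ := exists_special_conj hZ hB
  refine ⟨QuotientGroup.mk R, QuotientGroup.mk S, ?_⟩
  simp only [← QuotientGroup.mk_inv, ← QuotientGroup.mk_mul]
  congr 1
  apply Subtype.ext
  show G.1 = (R * X * R⁻¹).1 * (S * X * S⁻¹).1
  rw [hR, hS, hAB]

/-- witnesses over `ZMod 3` -/
def wits : List (Matrix (Fin 3) (Fin 3) (ZMod 3) × Matrix (Fin 3) (Fin 3) (ZMod 3) × Matrix (Fin 3) (Fin 3) (ZMod 3) ×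
    Matrix (Fin 3) (Fin 3) (ZMod 3) × Matrix (Fin 3) (Fin 3) (ZMod 3)) :=
  [(!![0, 0, 1; 1, 0, 0; 0, 1, 0], !![0, 0, 1; 0, 1, 0; 2, 0, 2], !![0, 0, 2; 2, 1, 0; 1, 0, 0],
     !![0, 1, 0; 0, 0, 2; 2, 2, 0], !![0, 2, 2; 0, 0, 1; 2, 0, 0]),
    (!![0, 0, 1; 1, 0, 1; 0, 1, 0], !![0, 0, 1; 0, 2, 0; 1, 0, 2], !![0, 0, 2; 1, 1, 2; 2, 1, 1],
     !![0, 2, 0; 1, 0, 2; 1, 1, 0], !![0, 1, 1; 0, 0, 2; 2, 1, 0]),
    (!![0, 0, 1; 1, 0, 2; 0, 1, 0], !![0, 0, 1; 0, 1, 0; 2, 2, 0], !![0, 0, 2; 1, 1, 0; 1, 0, 2],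
     !![0, 1, 0; 1, 2, 2; 1, 1, 1], !![2, 2, 1; 0, 0, 1; 1, 2, 1]),
    (!![0, 0, 1; 1, 0, 0; 0, 1, 1], !![0, 0, 1; 0, 1, 0; 2, 0, 1], !![0, 0, 2; 0, 1, 0; 1, 0, 1],
     !![0, 1, 0; 2, 0, 2; 2, 1, 0], !![0, 2, 0; 0, 0, 1; 2, 1, 0]),
    (!![0, 0, 1; 1, 0, 1; 0, 1, 1], !![0, 0, 1; 0, 1, 0; 2, 2, 2], !![0, 0, 2; 0, 1, 1; 1, 1, 1],
     !![0, 1, 0; 0, 2, 2; 2, 0, 1], !![2, 2, 0; 0, 0, 1; 2, 0, 1]),
    (!![0, 0, 1; 1, 0, 2; 0, 1, 1], !![0, 0, 1; 0, 1, 0; 2, 1, 2], !![0, 0, 2; 0, 1, 2; 1, 2, 1],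
     !![0, 1, 0; 0, 1, 2; 2, 0, 2], !![1, 2, 0; 0, 0, 1; 2, 0, 2]),
    (!![0, 0, 1; 1, 0, 0; 0, 1, 2], !![0, 0, 1; 0, 1, 0; 2, 1, 1], !![0, 0, 1; 2, 1, 1; 1, 1, 0],
     !![0, 1, 0; 2, 1, 2; 1, 2, 2], !![1, 2, 2; 0, 0, 1; 1, 1, 2]),
    (!![0, 0, 1; 1, 0, 1; 0, 1, 2], !![0, 0, 1; 0, 1, 0; 2, 0, 0], !![0, 0, 1; 1, 1, 2; 1, 2, 2],
     !![0, 1, 0; 1, 0, 2; 2, 0, 0], !![0, 2, 1; 0, 0, 1; 2, 2, 0]),
    (!![0, 0, 1; 1, 0, 2; 0, 1, 2], !![0, 0, 1; 0, 1, 1; 2, 1, 1], !![0, 0, 2; 0, 1, 2; 1, 0, 1],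
     !![2, 1, 0; 0, 2, 2; 2, 2, 2], !![1, 2, 0; 1, 2, 1; 1, 1, 0]),
    (!![0, 2, 0; 1, 2, 0; 0, 0, 1], !![0, 0, 1; 0, 1, 1; 2, 0, 2], !![0, 0, 1; 2, 1, 0; 2, 0, 0],
     !![2, 1, 0; 2, 1, 2; 0, 2, 0], !![0, 1, 2; 0, 0, 2; 2, 0, 0]),
    (!![0, 1, 0; 1, 0, 0; 0, 0, 2], !![0, 0, 1; 0, 2, 1; 1, 0, 0], !![0, 0, 1; 2, 1, 0; 0, 2, 0],
     !![1, 2, 0; 0, 2, 2; 1, 0, 0], !![0, 0, 2; 0, 2, 2; 2, 1, 1])]

/-- the element of order thirteen -/
def x13 : Matrix (Fin 3) (Fin 3) (ZMod 3) := !![0, 0, 1; 1, 0, 1; 0, 1, 0]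

/-- explicit determinant -/
def det3 (A : Matrix (Fin 3) (Fin 3) (ZMod 3)) : ZMod 3 :=
  A 0 0 * A 1 1 * A 2 2 - A 0 0 * A 1 2 * A 2 1 - A 0 1 * A 1 0 * A 2 2 +
    A 0 1 * A 1 2 * A 2 0 + A 0 2 * A 1 0 * A 2 1 - A 0 2 * A 1 1 * A 2 0

theorem wits_ok : ∀ w ∈ wits, det3 w.2.1 = 1 ∧ det3 w.2.2.1 = 1 ∧
    w.2.2.2.1 * w.2.1 = w.2.1 * x13 ∧ w.2.2.2.2 * w.2.2.1 = w.2.2.1 * x13 ∧
    w.1 = w.2.2.2.1 * w.2.2.2.2 := by decide +kernel

theorem wits_all : (∀ a b : ZMod 3, ∃ w ∈ wits, w.1 = !![0, 0, 1; 1, 0, b; 0, 1, a]) ∧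
    ∀ c : ZMod 3, c ≠ 0 → ∃ w ∈ wits, w.1 = !![0, -c, 0; 1, c + c ^ 2, 0; 0, 0, c] := by
  decide +kernel

theorem x13_steps : det3 x13 = 1 ∧ x13 * x13 = !![0, 1, 0; 0, 1, 1; 1, 0, 1] ∧ (!![0, 1, 0; 0, 1, 1; 1, 0, 1] * !![0, 1, 0; 0, 1, 1; 1, 0, 1] : Matrix (Fin 3) (Fin 3) (ZMod 3)) = !![0, 1, 1; 1, 1, 2; 1, 1, 1] ∧
    (!![0, 1, 1; 1, 1, 2; 1, 1, 1] * !![0, 1, 1; 1, 1, 2; 1, 1, 1] : Matrix (Fin 3) (Fin 3) (ZMod 3)) = !![2, 2, 0; 0, 1, 2; 2, 0, 1] ∧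
    (!![2, 2, 0; 0, 1, 2; 2, 0, 1] * !![0, 1, 1; 1, 1, 2; 1, 1, 1] : Matrix (Fin 3) (Fin 3) (ZMod 3)) = !![2, 1, 0; 0, 0, 1; 1, 0, 0] ∧
    (!![2, 1, 0; 0, 0, 1; 1, 0, 0] * x13 : Matrix (Fin 3) (Fin 3) (ZMod 3)) = 1 := by decide +kernel

theorem x13_pow : x13.det = 1 ∧ x13 ^ 13 = 1 := by
  obtain ⟨h0, h2, h4, h8, h12, h13⟩ := x13_steps
  refine ⟨(Matrix.det_fin_three _).trans h0, ?_⟩
  have e2 : x13 ^ 2 = !![0, 1, 0; 0, 1, 1; 1, 0, 1] := by rw [sq]; exact h2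
  have e4 : x13 ^ 4 = !![0, 1, 1; 1, 1, 2; 1, 1, 1] := by rw [show (4 : ℕ) = 2 + 2 from rfl, pow_add, e2]; exact h4
  have e8 : x13 ^ 8 = !![2, 2, 0; 0, 1, 2; 2, 0, 1] := by rw [show (8 : ℕ) = 4 + 4 from rfl, pow_add, e4]; exact h8
  rw [show (13 : ℕ) = 8 + 4 + 1 from rfl, pow_succ, pow_add, e8, e4, h12]
  exact h13


/-- A form of Thompson's conjecture for PSL(3,q), q > 2 (covering the non-identity elements), with a semisimple class: for F a finite field of characteristic p with more than 2 elements there is an element x of PSL(3,F) of order prime to p such that every non-identity element of PSL(3,F) is a product of two conjugates of x. -/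
theorem result {F : Type*} [Field F] [Fintype F] (p : ℕ) [Fact p.Prime] [CharP F p] (h3 : 3 ≤ Fintype.card F) :
    ∃ x : Matrix.ProjectiveSpecialLinearGroup (Fin 3) F, ¬ p ∣ orderOf x ∧ ∀ g : Matrix.ProjectiveSpecialLinearGroup (Fin 3) F, g ≠ 1 → ∃ u v : Matrix.ProjectiveSpecialLinearGroup (Fin 3) F, g = (u * x * u⁻¹) * (v * x * v⁻¹) := by
  obtain ⟨n, -, hn⟩ := FiniteField.card F p
  have hpp := (Fact.out : p.Prime)
  by_cases h4 : 4 ≤ Fintype.card F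
  · classical
    obtain ⟨a, ha0, ha⟩ : ∃ a : F, a ≠ 0 ∧ a ^ 2 ≠ 1 := by
      by_contra hc
      simp only [not_exists, not_and, not_not] at hc
      have hsub : (Finset.univ : Finset F) ⊆ {0, 1, -1} := by
        intro a _
        simp only [Finset.mem_insert, Finset.mem_singleton]
        by_cases h : a = 0
        · exact Or.inl h
        · exact Or.inr (sq_eq_one_iff.1 (hc a h))
      have := (Finset.card_le_card hsub).trans Finset.card_le_three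
      rw [Finset.card_univ] at this
      omega
    have hprod : (1 : F) * a * a⁻¹ = 1 := by rw [one_mul, mul_inv_cancel₀ ha0]
    have n1 : a ≠ 1 := fun h => ha (by rw [h, one_pow])
    have n2 : a ≠ a⁻¹ := fun h => ha (by rw [sq]; exact (congrArg (a * ·) h).trans (mul_inv_cancel₀ ha0))
    have n3 : a⁻¹ ≠ 1 := fun h => n1 (inv_eq_one.1 h)
    have hinj : Function.Injective ![(1 : F), a, a⁻¹] := by
      intro i j
      fin_cases i <;> fin_cases j <;> simp [n1, n2, n3, n1.symm, n2.symm, n3.symm, ha0]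
    let X : Matrix.SpecialLinearGroup (Fin 3) F :=
      ⟨Matrix.diagonal ![1, a, a⁻¹], by simp [Matrix.det_diagonal, Fin.prod_univ_three, ha0]⟩
    refine ⟨QuotientGroup.mk X, ?_, fun g hg => covers ?_ ?_ ?_ g hg⟩
    · have hX : X ^ (Fintype.card F - 1) = 1 := by
        apply Subtype.ext
        rw [Matrix.SpecialLinearGroup.coe_pow, Matrix.SpecialLinearGroup.coe_one, Matrix.diagonal_pow,
          ← Matrix.diagonal_one]
        refine congrArg _ (funext fun i => ?_)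
        rw [Pi.pow_apply]
        apply FiniteField.pow_card_sub_one_eq_one
        fin_cases i <;> simp [ha0]
      intro hd
      have h1 : p ∣ Fintype.card F - 1 := hd.trans ((orderOf_map_dvd (QuotientGroup.mk' _) X).trans
        (orderOf_dvd_of_pow_eq_one hX))
      have h2 : p ∣ Fintype.card F := hn ▸ dvd_pow_self p n.pos.ne'
      have := Nat.dvd_sub h2 h1
      rw [Nat.sub_sub_self Fintype.card_pos] at this
      exact hpp.not_dvd_one this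
    · intro u hu
      refine ⟨Matrix.diagonal ![u, 1, 1], ?_, by simp [Matrix.det_diagonal, Fin.prod_univ_three]⟩
      show Matrix.diagonal _ * Matrix.diagonal _ = Matrix.diagonal _ * Matrix.diagonal _
      rw [Matrix.diagonal_mul_diagonal, Matrix.diagonal_mul_diagonal]
      simp only [mul_comm]
    · exact isProd_comp3 _ _ _ hinj hprod
    · exact fun c hc => isProd_quad3 _ _ _ hinj hprod hc
  · have hq : Fintype.card F = 3 := by omega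
    have hp3 : p = 3 := ((Nat.prime_dvd_prime_iff_eq hpp Nat.prime_three).1
      (hq ▸ hn ▸ dvd_pow_self p n.pos.ne'))
    subst hp3
    let f : ZMod 3 →+* F := ZMod.castHom (dvd_refl 3) F
    have hbij : Function.Bijective f := by
      refine (Fintype.bijective_iff_injective_and_card _).2 ⟨RingHom.injective f, ?_⟩
      rw [hq, ZMod.card]
    have fdet : ∀ M : Matrix (Fin 3) (Fin 3) (ZMod 3), M.det = 1 → (M.map f).det = 1 := fun M h => by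
      rw [← RingHom.mapMatrix_apply, ← RingHom.map_det, h, map_one]
    let X : Matrix.SpecialLinearGroup (Fin 3) F := ⟨x13.map f, fdet _ x13_pow.1⟩
    have hw : ∀ w ∈ wits, IsProd X.1 (w.1.map f) := by
      intro w hw
      obtain ⟨h1, h2, h3, h4, h5⟩ := wits_ok w hw
      have hs : ∀ (T A : Matrix (Fin 3) (Fin 3) (ZMod 3)), det3 T = 1 → A * T = T * x13 →
          Sim (A.map f) X.1 := by
        intro T A hT hA
        refine ⟨T.map f, by rw [fdet _ ((Matrix.det_fin_three T).trans hT)]; exact one_ne_zero, ?_⟩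
        rw [← Matrix.map_mul, hA, Matrix.map_mul]
      exact ⟨_, _, hs _ _ h1 h3, hs _ _ h2 h4, by rw [h5, Matrix.map_mul]⟩
    refine ⟨QuotientGroup.mk X, ?_, fun g hg => covers ?_ ?_ ?_ g hg⟩
    · have hX : X ^ 13 = 1 := by
        apply Subtype.ext
        rw [Matrix.SpecialLinearGroup.coe_pow, Matrix.SpecialLinearGroup.coe_one]
        show (x13.map f) ^ 13 = 1
        rw [← RingHom.mapMatrix_apply, ← map_pow, x13_pow.2, map_one]
      intro hd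
      have : 3 ∣ 13 := hd.trans ((orderOf_map_dvd (QuotientGroup.mk' _) X).trans
        (orderOf_dvd_of_pow_eq_one hX))
      omega
    · intro u hu
      refine ⟨u • 1, by simp, ?_⟩
      have h2 := FiniteField.pow_card_sub_one_eq_one u hu
      rw [hq] at h2
      rw [Matrix.det_smul, Matrix.det_one, mul_one, Fintype.card_fin]
      linear_combination u * h2
    · intro a b
      obtain ⟨a', rfl⟩ := hbij.2 a
      obtain ⟨b', rfl⟩ := hbij.2 b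
      obtain ⟨w, hwm, he⟩ := wits_all.1 a' b'
      have : comp3 (f a') (f b') = w.1.map f := by
        rw [he]; ext i j; fin_cases i <;> fin_cases j <;> simp [comp3]
      exact this ▸ hw w hwm
    · intro c hc
      obtain ⟨c', rfl⟩ := hbij.2 c
      have hc' : c' ≠ 0 := fun h => hc (by rw [h, map_zero])
      obtain ⟨w, hwm, he⟩ := wits_all.2 c' hc'
      have hinv : (f c')⁻¹ = f c' := by
        refine inv_eq_of_mul_eq_one_right ?_
        have h2 := FiniteField.pow_card_sub_one_eq_one (f c') hc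
        rw [hq] at h2
        rw [← sq]; exact h2
      have : quad3 (f c') = w.1.map f := by
        rw [he]; ext i j; fin_cases i <;> fin_cases j <;> simp [quad3, hinv]
      exact this ▸ hw w hwm

end Cfsg.Agent.S2459
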