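import Cfsg.Statements.S2463
import Cfsg.Agent.Lib.ThompsonF4.Eight
import Cfsg.Agent.Lib.ThompsonF4.TitsCover

set_option autoImplicit false
open Cfsg

namespace Cfsg.Agent.S2463

open Cfsg.Agent.Lib.ThompsonF4 in
theorem transport {M G : Type*} [Group M] [Group G] (f : M ≃* G)
    (h : ∃ x : G, Odd (orderOf x) ∧ ∀ g : G, g ≠ 1 → Good x g) :
    ∃ x : M, Odd (orderOf x) ∧ ∀ g : M, g ≠ 1 → ∃ u v : M, g = (u * x * u⁻¹) * (v * x * v⁻¹) := by
  obtain ⟨x, hodd, hx⟩ := h
  refine ⟨f.symm x, by rwa [MulEquiv.orderOf_eq], fun g hg => ?_⟩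
  obtain ⟨u, v, e⟩ := hx (f g) (by simpa using hg)
  exact ⟨f.symm u, f.symm v, f.injective (by simpa using e)⟩

open Cfsg.Agent.Lib.ThompsonF4 Cfsg.Agent.Lib.Twisted in
theorem cover_F4 (K : Type) [Field K] [Fintype K] {m : ℕ} (hm : 1 ≤ m)
    (hK : Fintype.card K = 2 ^ (2 * m + 1)) :
    ∃ x : RG K m, Odd (orderOf x) ∧ ∀ g : RG K m, g ≠ 1 → Good x g := by
  have := ReeF.charP_of_card hK
  obtain ⟨σ, hσ⟩ := ReeF.exists_sigma hK
  have he := ReeF.pow_theta hK
  rcases Nat.lt_or_ge m 2 with h | h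
  · obtain rfl : m = 1 := by omega
    obtain ⟨gu, hg, hsur⟩ := Eight.exists_gu hK
    exact Eight.exists_covering hσ he hK hg hsur
  · exact exists_covering_large hσ he hm hK h

open Cfsg.Agent.Lib.Compute.Tits in
theorem tits_iso {M : Type*} [Group M] (h : Cfsg.Lie.IsoTits M) : Nonempty (M ≃* ↥titsT) := by
  have e : Nonempty (Cfsg.Lie.TitsGroup ≃* ↥titsT) := ⟨titsEquiv⟩
  exact h.elim fun f => e.elim fun e => ⟨f.trans e⟩

open Cfsg.Agent.Lib.Compute.Tits in
theorem tits_cover :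
    ∃ x : ↥titsT, Odd (orderOf x) ∧ ∀ g : ↥titsT, g ≠ 1 → Cfsg.Agent.Lib.ThompsonF4.Good x g :=
  Cfsg.Agent.Lib.ThompsonF4.Tits.exists_covering

/-- A form of Thompson's conjecture for the simple groups of type ²F₄ (covering the non-identity elements) with a semisimple class: if M is a large Ree group ²F₄(2^(2m+1)) with m ≥ 1, or the Tits group, then there is an element x of M of odd order such that every non-identity element of M is a product of two conjugates of x. -/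
theorem result {M : Type*} [Group M] [Finite M] (hM : Cfsg.Lie.Iso2F4 M ∨ Cfsg.Lie.IsoTits M) :
    ∃ x : M, Odd (orderOf x) ∧ ∀ g : M, g ≠ 1 → ∃ u v : M, g = (u * x * u⁻¹) * (v * x * v⁻¹) := by
  rcases hM with ⟨K, _, _, m, hm, hK, ⟨f⟩⟩ | h
  · exact transport f (cover_F4 K hm hK)
  · obtain ⟨e⟩ := tits_iso h
    exact transport (G := ↥Cfsg.Agent.Lib.Compute.Tits.titsT) e tits_cover

end Cfsg.Agent.S2463
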