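import Mathlib
import Cfsg.Statements.S2466
import Cfsg.Agent.Lib.AltOrders.Basic

set_option autoImplicit false
open Cfsg

namespace Cfsg.Agent.S2466

open Cfsg.Agent.Lib.AltOrders

/-- Adjacency of odd primes in the prime graph of the alternating groups: let r ≠ s be odd primes at most n. The alternating group of degree n has an element of order r·s if and only if r + s ≤ n. -/
theorem result (n r s : ℕ) (hr : r.Prime) (hs : s.Prime) (hr2 : r ≠ 2) (hs2 : s ≠ 2) (hrs : r ≠ s) (hrn : r ≤ n) (hsn : s ≤ n) :
    (r * s ∈ Set.range (orderOf : alternatingGroup (Fin n) → ℕ)) ↔ r + s ≤ n := by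
  constructor
  · rintro ⟨g, hg⟩
    obtain ⟨hsum, -, -, hord⟩ := cycleType_facts g
    have hr' : r ∣ orderOf g := hg ▸ dvd_mul_right r s
    have hs' : s ∣ orderOf g := hg ▸ dvd_mul_left s r
    rw [hord] at hr' hs'
    obtain ⟨a, ha, hra⟩ := exists_mem_dvd_of_prime_dvd_lcm hr _ hr'
    obtain ⟨b, hb, hsb⟩ := exists_mem_dvd_of_prime_dvd_lcm hs _ hs'
    have h2a := Equiv.Perm.two_le_of_mem_cycleType ha
    have h2b := Equiv.Perm.two_le_of_mem_cycleType hb
    by_cases hab : a = b
    · subst hab
      have hd : r * s ∣ a := ((Nat.coprime_primes hr hs).2 hrs).mul_dvd_of_dvd_of_dvd hra hsb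
      have h1 := Nat.le_of_dvd (by omega) hd
      have h2 := Multiset.single_le_sum (fun x _ => Nat.zero_le x) a ha
      have h3 : r + s ≤ r * s := Nat.add_le_mul hr.two_le hs.two_le
      omega
    · have h1 := add_le_sum_of_mem ha hb hab
      have h2 := Nat.le_of_dvd (by omega) hra
      have h3 := Nat.le_of_dvd (by omega) hsb
      omega
  · intro h
    obtain ⟨g, hg⟩ := exists_alt_order (n := n) {r, s} (by simpa using h)
      (by intro a ha; simp at ha; rcases ha with rfl | rfl; exacts [hr.two_le, hs.two_le])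
      (by
        have h1 := hr.odd_of_ne_two hr2
        have h2 := hs.odd_of_ne_two hs2
        rw [Nat.even_iff]; rw [Nat.odd_iff] at h1 h2
        simp; omega)
    refine ⟨g, hg.trans ?_⟩
    simp only [Multiset.insert_eq_cons, Multiset.lcm_cons, Multiset.lcm_singleton, normalize_eq]
    exact Nat.Coprime.lcm_eq_mul ((Nat.coprime_primes hr hs).2 hrs)

end Cfsg.Agent.S2466
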