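import Mathlib
import Cfsg.Statements.S2467
import Cfsg.Agent.Lib.AltOrders.Basic

set_option autoImplicit false
open Cfsg

namespace Cfsg.Agent.S2467

open Cfsg.Agent.Lib.AltOrders

/-- Adjacency of 2 and an odd prime in the prime graph of the alternating groups: let r be an odd prime at most n, with n ≥ 4. The alternating group of degree n has an element of order 2r if and only if r + 4 ≤ n. -/
theorem result (n r : ℕ) (hn : 4 ≤ n) (hr : r.Prime) (hr2 : r ≠ 2) (hrn : r ≤ n) :
    (2 * r ∈ Set.range (orderOf : alternatingGroup (Fin n) → ℕ)) ↔ r + 4 ≤ n := by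
  have hodd := Nat.odd_iff.1 (hr.odd_of_ne_two hr2)
  constructor
  · rintro ⟨g, hg⟩
    obtain ⟨hsum, -, hev, hord⟩ := cycleType_facts g
    have hr' : r ∣ orderOf g := hg ▸ dvd_mul_left r 2
    have h2' : 2 ∣ orderOf g := hg ▸ dvd_mul_right 2 r
    rw [hord] at hr' h2'
    obtain ⟨a, ha, hra⟩ := exists_mem_dvd_of_prime_dvd_lcm hr _ hr'
    obtain ⟨b, hb, h2b⟩ := exists_mem_dvd_of_prime_dvd_lcm Nat.prime_two _ h2'
    set m := (g : Equiv.Perm (Fin n)).cycleType with hm
    have hf := even_filter_even m hev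
    have h2 : ∀ x ∈ m, 2 ≤ x := fun x hx => Equiv.Perm.two_le_of_mem_cycleType hx
    have hsplit : m.sum = (m.filter Even).sum + (m.filter (fun a => ¬ Even a)).sum := by
      rw [← Multiset.sum_add, Multiset.filter_add_not]
    have hbmem : b ∈ m.filter Even := Multiset.mem_filter.2 ⟨hb, even_iff_two_dvd.2 h2b⟩
    have hcard : 2 ≤ Multiset.card (m.filter Even) := by
      have hpos : 0 < Multiset.card (m.filter Even) := Multiset.card_pos_iff_exists_mem.2 ⟨b, hbmem⟩
      rw [Nat.even_iff] at hf
      omega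
    have ha2 := h2 a ha
    have hler := Nat.le_of_dvd (by omega) hra
    by_cases hae : Even a
    · have h2r : 2 * r ∣ a := (Nat.Coprime.mul_dvd_of_dvd_of_dvd
        ((Nat.coprime_primes Nat.prime_two hr).2 (Ne.symm hr2)) (even_iff_two_dvd.1 hae) hra)
      have hle2 := Nat.le_of_dvd (by omega) h2r
      obtain ⟨t, ht⟩ := Multiset.exists_cons_of_mem (Multiset.mem_filter.2 ⟨ha, hae⟩ : a ∈ m.filter Even)
      rw [ht, Multiset.card_cons] at hcard
      obtain ⟨c, hc⟩ := Multiset.card_pos_iff_exists_mem.1 (by omega : 0 < Multiset.card t)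
      have hc2 : 2 ≤ c := h2 c (Multiset.mem_filter.1 (ht ▸ Multiset.mem_cons_of_mem hc : c ∈ m.filter Even)).1
      have hc3 := Multiset.single_le_sum (fun x _ => Nat.zero_le x) c hc
      rw [ht, Multiset.sum_cons] at hsplit
      have := hr.two_le
      omega
    · have h1 := Multiset.single_le_sum (fun x _ => Nat.zero_le x) a (Multiset.mem_filter.2 ⟨ha, hae⟩ : a ∈ m.filter (fun a => ¬ Even a))
      have h3 := Multiset.card_nsmul_le_sum (s := m.filter Even) (a := 2)
        (fun x hx => h2 x (Multiset.mem_filter.1 hx).1)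
      simp only [smul_eq_mul] at h3
      omega
  · intro h
    obtain ⟨g, hg⟩ := exists_alt_order (n := n) {r, 2, 2} (by simp; omega)
      (by intro a ha; simp at ha; rcases ha with rfl | rfl <;> [exact hr.two_le; rfl])
      (by rw [Nat.even_iff]; simp; omega)
    refine ⟨g, hg.trans ?_⟩
    simp only [Multiset.insert_eq_cons, Multiset.lcm_cons, Multiset.lcm_singleton, normalize_eq]
    rw [lcm_same, normalize_eq]
    exact (Nat.Coprime.lcm_eq_mul ((Nat.coprime_primes hr Nat.prime_two).2 hr2)).trans (Nat.mul_comm r 2)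

end Cfsg.Agent.S2467
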