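import Cfsg.Statements.S2468
import Cfsg.Agent.Lib.PrimeGraphLinear.Basic
import Cfsg.Agent.Lib.ElementOrders.Singer
import Cfsg.Agent.Lib.ElementOrders.Basic

set_option autoImplicit false
open Cfsg

namespace Cfsg.Agent.S2468


open Polynomial Cfsg.Agent.Lib.PrimeGraphLinear

variable {F : Type*} [Field F] [Fintype F] {n : ℕ}

omit [Fintype F] in
theorem natCast_ne_zero {p r : ℕ} [Fact p.Prime] [CharP F p] (hr : r.Prime) (hrp : r ≠ p) : (r : F) ≠ 0 := by
  rw [Ne, CharP.cast_eq_zero_iff F p, Nat.prime_dvd_prime_iff_eq (Fact.out : p.Prime) hr]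
  exact fun h => hrp h.symm

theorem coprime_sub_one {r k : ℕ} (hr : r.Prime) (hk : k = orderOf ((Fintype.card F : ℕ) : ZMod r)) (h : 2 ≤ k) :
    r.Coprime (Fintype.card F - 1) := by
  rw [hr.coprime_iff_not_dvd]
  intro hd
  have h1 : ((Fintype.card F : ℕ) : ZMod r) = 1 := by
    have := (ZMod.natCast_eq_natCast_iff 1 (Fintype.card F) r).2
      ((Nat.modEq_iff_dvd' Fintype.card_pos).2 hd)
    simpa using this.symm
  rw [h1, orderOf_one] at hk
  omega

theorem dvd_pow_sub_one {r k d : ℕ} (hk : k = orderOf ((Fintype.card F : ℕ) : ZMod r)) (hd : k ∣ d) :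
    r ∣ Fintype.card F ^ d - 1 := by
  have h1 : ((Fintype.card F : ℕ) : ZMod r) ^ d = 1 := orderOf_dvd_iff_pow_eq_one.1 (hk ▸ hd)
  rw [← Nat.cast_pow, ← Nat.cast_one] at h1
  exact (Nat.modEq_iff_dvd' (Nat.one_le_pow _ _ Fintype.card_pos)).1 ((ZMod.natCast_eq_natCast_iff _ _ _).1 h1).symm

theorem order_le {r k : ℕ} (hr : r.Prime) (hrF : (r : F) ≠ 0) (hk : k = orderOf ((Fintype.card F : ℕ) : ZMod r))
    (h2 : 2 ≤ k) (hrG : r ∣ Nat.card (Matrix.ProjectiveSpecialLinearGroup (Fin n) F)) : k ≤ n := by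
  have : Fact r.Prime := ⟨hr⟩
  obtain ⟨g, hg⟩ := (exists_orderOf_PSL_iff (coprime_sub_one hr hk h2)).1 (exists_prime_orderOf_dvd_card' r hrG)
  have h1 : (g : Matrix (Fin n) (Fin n) F) ^ (r * 1) = 1 := by
    rw [mul_one, ← Units.val_pow_eq_pow_val, ← hg, pow_orderOf_eq_one, Units.val_one]
  have h3 : (g : Matrix (Fin n) (Fin n) F) ^ 1 ≠ 1 := by
    rw [pow_one, Ne, Units.val_eq_one]
    intro h
    rw [h, orderOf_one] at hg
    exact hr.ne_one hg.symm
  obtain ⟨f, hf, hfP, hf1, hf2⟩ := exists_factor _ hrF h1 h3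
  have h4 := Nat.le_of_dvd hf.natDegree_pos (orderOf_dvd_natDegree hf hr hf1 hf2)
  have h5 := natDegree_le_card _ hfP
  rw [Fintype.card_fin] at h5
  omega


/-- Adjacency of two odd primes in the prime graph of PSL(n,q): let F be a finite field of characteristic p with q elements, n ≥ 2 with PSL(n,F) simple, and let r ≠ s be odd primes different from p dividing the order of PSL(n,F). Let k and l be the multiplicative orders of q modulo r and modulo s, and suppose 2 ≤ k ≤ l. Then PSL(n,F) has NO element of order r·s if and only if k + l > n and k does not divide l. -/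
theorem result {F : Type*} [Field F] [Fintype F] (p : ℕ) [Fact p.Prime] [CharP F p] (n : ℕ) (hn : 2 ≤ n) (hsmall : n = 2 → 4 ≤ Fintype.card F)
    (r s : ℕ) (hr : r.Prime) (hs : s.Prime) (hr2 : r ≠ 2) (hs2 : s ≠ 2) (hrp : r ≠ p) (hsp : s ≠ p) (hrs : r ≠ s)
    (hrG : r ∣ Nat.card (Matrix.ProjectiveSpecialLinearGroup (Fin n) F)) (hsG : s ∣ Nat.card (Matrix.ProjectiveSpecialLinearGroup (Fin n) F))
    (k l : ℕ) (hk : k = orderOf ((Fintype.card F : ℕ) : ZMod r)) (hl : l = orderOf ((Fintype.card F : ℕ) : ZMod s))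
    (h2k : 2 ≤ k) (hkl : k ≤ l) :
    (r * s ∉ Set.range (orderOf : Matrix.ProjectiveSpecialLinearGroup (Fin n) F → ℕ)) ↔ (n < k + l ∧ ¬ k ∣ l) := by
  have hrF : (r : F) ≠ 0 := natCast_ne_zero (p := p) hr hrp
  have hsF : (s : F) ≠ 0 := natCast_ne_zero (p := p) hs hsp
  have h2l : 2 ≤ l := h2k.trans hkl
  have hln : l ≤ n := order_le hs hsF hl h2l hsG
  have hcop : (r * s).Coprime (Fintype.card F - 1) :=
    Nat.Coprime.mul_left (coprime_sub_one hr hk h2k) (coprime_sub_one hs hl h2l)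
  have hrsc : r.Coprime s := (Nat.coprime_primes hr hs).2 hrs
  rw [Set.mem_range, exists_orderOf_PSL_iff hcop]
  constructor
  · intro hno
    have key : ∀ x : GL (Fin n) F, r ∣ orderOf x → s ∣ orderOf x → False := fun x h1 h2 =>
      hno (Cfsg.Agent.Lib.ElementOrders.exists_orderOf_eq_of_dvd (hrsc.mul_dvd_of_dvd_of_dvd h1 h2))
    refine ⟨?_, fun hdvd => ?_⟩
    · by_contra hle
      obtain ⟨g, hg⟩ := Cfsg.Agent.Lib.ElementOrders.exists_orderOf_eq_pow_card_sub_one (F := F) (n := k)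
        (show 1 ≤ k by omega) le_rfl
      obtain ⟨h, hh⟩ := Cfsg.Agent.Lib.ElementOrders.exists_orderOf_eq_pow_card_sub_one (F := F) (n := l)
        (show 1 ≤ l by omega) le_rfl
      obtain ⟨x, hx1, hx2⟩ := exists_orderOf_dvd_sum (show k + l ≤ n by omega) g h
      exact key x ((hg ▸ dvd_pow_sub_one hk dvd_rfl).trans hx1) ((hh ▸ dvd_pow_sub_one hl dvd_rfl).trans hx2)
    · obtain ⟨g, hg⟩ := Cfsg.Agent.Lib.ElementOrders.exists_orderOf_eq_pow_card_sub_one (F := F) (n := n)
        (show 1 ≤ l by omega) hln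
      exact key g (hg ▸ dvd_pow_sub_one hk hdvd) (hg ▸ dvd_pow_sub_one hl dvd_rfl)
  · rintro ⟨hsum, hndvd⟩ ⟨g, hg⟩
    have hgpow : ∀ e : ℕ, (g : Matrix (Fin n) (Fin n) F) ^ e = 1 ↔ r * s ∣ e := fun e => by
      rw [← Units.val_pow_eq_pow_val, Units.val_eq_one, ← orderOf_dvd_iff_pow_eq_one, hg]
    obtain ⟨f, hf, hfP, hf1, hf2⟩ := exists_factor (g : Matrix (Fin n) (Fin n) F) hrF ((hgpow (r * s)).2 dvd_rfl)
      (fun h => hr.ne_one (by
        have := Nat.le_of_dvd hs.pos ((hgpow s).1 h)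
        have := Nat.mul_le_mul_right s hr.two_le
        have := hs.pos
        omega))
    obtain ⟨f', hf', hfP', hf1', hf2'⟩ := exists_factor (g : Matrix (Fin n) (Fin n) F) hsF
      ((hgpow (s * r)).2 (dvd_of_eq (mul_comm r s)))
      (fun h => hs.ne_one (by
        have := Nat.le_of_dvd hr.pos ((hgpow r).1 h)
        have := Nat.mul_le_mul_left r hs.two_le
        have := hr.pos
        omega))
    have hkf := orderOf_dvd_natDegree hf hr hf1 hf2
    have hlf := orderOf_dvd_natDegree hf' hs hf1' hf2'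
    rw [← hk] at hkf
    rw [← hl] at hlf
    by_cases hco : IsCoprime f f'
    · have h1 := natDegree_add_le_card _ hfP hfP' hco
      rw [Fintype.card_fin] at h1
      have := Nat.le_of_dvd hf.natDegree_pos hkf
      have := Nat.le_of_dvd hf'.natDegree_pos hlf
      omega
    · rw [hf.coprime_iff_not_dvd, not_not] at hco
      rw [natDegree_eq_of_degree_eq (degree_eq_degree_of_associated (hf.associated_of_dvd hf' hco))] at hkf
      have h1 := natDegree_le_card _ hfP'
      rw [Fintype.card_fin] at h1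
      have hlcm : Nat.lcm k l ≤ f'.natDegree := Nat.le_of_dvd hf'.natDegree_pos (Nat.lcm_dvd hkf hlf)
      obtain ⟨c, hc⟩ := Nat.dvd_lcm_right k l
      have hc2 : 2 ≤ c := by
        rcases c with _ | _ | c
        · rw [mul_zero] at hc
          exact absurd hc (Nat.lcm_ne_zero (by omega) (by omega))
        · rw [zero_add, mul_one] at hc
          exact absurd (hc ▸ Nat.dvd_lcm_left k l) hndvd
        · omega
      have := Nat.mul_le_mul_left l hc2
      omega

end Cfsg.Agent.S2468
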