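import Cfsg.Statements.S2469
import Cfsg.Agent.Lib.PrimeGraphLinear.Symplectic
import Cfsg.Agent.Lib.ElementOrders.Basic

set_option autoImplicit false
open Cfsg

namespace Cfsg.Agent.S2469


open Polynomial Cfsg.Agent.Lib.PrimeGraphLinear

theorem lcm_eq_of_lt {k l : ℕ} (hk : 0 < k) (hl : 0 < l) (h : Nat.lcm k l < 2 * l) : Nat.lcm k l = l := by
  obtain ⟨c, hc⟩ := Nat.dvd_lcm_right k l
  have hpos : 0 < Nat.lcm k l := Nat.pos_of_ne_zero (Nat.lcm_ne_zero hk.ne' hl.ne')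
  rcases c with _ | _ | c
  · omega
  · omega
  · have := Nat.mul_le_mul_left l (show 2 ≤ c + 1 + 1 by omega)
    omega

theorem odd_quotient_self {k l j t : ℕ} (hl : l = k * t) (hk : k ∣ 2 * j) (hkj : ¬ k ∣ j) (h2 : l ∣ 2 * j) : Odd t := by
  obtain ⟨a, ha⟩ := hk
  obtain ⟨b, hb⟩ := h2
  rcases Nat.even_or_odd t with ⟨c, hc⟩ | ht
  · exact absurd (Dvd.intro (c * b) (by subst hl; subst hc; nlinarith [hb])) hkj
  · exact ht

variable {F : Type*} [Field F] [Fintype F] {n : ℕ}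

/-- The span of the factor carrying order `r` of a symplectic element. -/
theorem eta_le {r k ηk : ℕ} (hr : r.Prime) (hr2 : r ≠ 2) (hrF : (r : F) ≠ 0)
    (hk : k = orderOf ((Fintype.card F : ℕ) : ZMod r)) (hηk : (Odd k ∧ ηk = k) ∨ (Even k ∧ 2 * ηk = k))
    (g : Matrix.symplecticGroup (Fin n) F) (hg : orderOf g = r) : ηk ≤ n := by
  classical
  set M : Matrix (Fin n ⊕ Fin n) (Fin n ⊕ Fin n) F := g.1 with hM
  have hpow : ∀ e : ℕ, M ^ e = 1 ↔ r ∣ e := fun e => by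
    rw [← hg, orderOf_dvd_iff_pow_eq_one, Subtype.ext_iff, SubmonoidClass.coe_pow]; rfl
  obtain ⟨f, hf, hfP, hf1, hf2⟩ := exists_factor M hrF (m := 1) ((hpow _).2 (by simp))
    (fun h => hr.ne_one (Nat.dvd_one.1 ((hpow 1).1 h)))
  let f₀ := normalize f
  have hf₀ : Irreducible f₀ := (normalize_associated f).symm.irreducible hf
  have hiff : ∀ P : F[X], f₀ ∣ P ↔ f ∣ P := fun P => (normalize_associated f).dvd_iff_dvd_left
  obtain ⟨D, hDP, -, -, hD⟩ := exists_selfdual_span g.2 hf₀ (monic_normalize hf.ne_zero) ((hiff _).2 hfP)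
  have h1 := two_mul_le_natDegree_span hf₀ hr hr2 hk hηk ((hiff _).2 hf1) (fun h => hf2 ((hiff _).1 h)) hD
  have h2 := natDegree_le_card M hDP
  rw [Fintype.card_sum, Fintype.card_fin] at h2
  omega


/-- Adjacency of two odd primes in the prime graph of PSp(2n,q): let F be a finite field of characteristic p with q elements, n ≥ 2 with PSp(2n,F) simple, and let r ≠ s be odd primes different from p dividing the order of PSp(2n,F). Let k, l be the multiplicative orders of q modulo r and s, put η(m) = m for odd m and η(m) = m/2 for even m, and suppose η(k) ≤ η(l). Then PSp(2n,F) has NO element of order r·s if and only if η(k) + η(l) > n and l/k is not an odd integer. -/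
theorem result {F : Type*} [Field F] [Fintype F] (p : ℕ) [Fact p.Prime] [CharP F p] (n : ℕ) (hn : 2 ≤ n) (hsmall : n = 2 → 3 ≤ Fintype.card F)
    (r s : ℕ) (hr : r.Prime) (hs : s.Prime) (hr2 : r ≠ 2) (hs2 : s ≠ 2) (hrp : r ≠ p) (hsp : s ≠ p) (hrs : r ≠ s)
    (hrG : r ∣ Nat.card (Cfsg.PSp n F)) (hsG : s ∣ Nat.card (Cfsg.PSp n F))
    (k l ηk ηl : ℕ) (hk : k = orderOf ((Fintype.card F : ℕ) : ZMod r)) (hl : l = orderOf ((Fintype.card F : ℕ) : ZMod s))
    (hηk : (Odd k ∧ ηk = k) ∨ (Even k ∧ 2 * ηk = k)) (hηl : (Odd l ∧ ηl = l) ∨ (Even l ∧ 2 * ηl = l)) (hkl : ηk ≤ ηl) :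
    (r * s ∉ Set.range (orderOf : Cfsg.PSp n F → ℕ)) ↔ (n < ηk + ηl ∧ ¬ ∃ t : ℕ, Odd t ∧ l = k * t) := by
  classical
  have hp : p.Prime := Fact.out
  have hn1 : 1 ≤ n := by omega
  have hrF : (r : F) ≠ 0 := natCast_ne_zero_of_ne (p := p) hr hrp
  have hsF : (s : F) ≠ 0 := natCast_ne_zero_of_ne (p := p) hs hsp
  have hk0 : 0 < k := hk ▸ orderOf_cast_pos hr hrF
  have hl0 : 0 < l := hl ▸ orderOf_cast_pos hs hsF
  have hηk1 : 1 ≤ ηk := by rcases hηk with ⟨_, h⟩ | ⟨_, h⟩ <;> omega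
  have hηl1 : 1 ≤ ηl := by rcases hηl with ⟨_, h⟩ | ⟨_, h⟩ <;> omega
  have hrodd : Odd r := hr.odd_of_ne_two hr2
  have hsodd : Odd s := hs.odd_of_ne_two hs2
  have hcop2 : ∀ N : ℕ, Odd N → N.Coprime (Nat.card (Subgroup.center (Matrix.symplecticGroup (Fin n) F))) :=
    fun N hN => coprime_card_center_symp hn1 (Nat.Coprime.coprime_dvd_right (Nat.gcd_dvd_left _ _)
      (Nat.coprime_two_right.2 hN))
  have : Fact r.Prime := ⟨hr⟩
  have : Fact s.Prime := ⟨hs⟩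
  have hrsc : r.Coprime s := (Nat.coprime_primes hr hs).2 hrs
  have hηln : ηl ≤ n := by
    obtain ⟨g, hg⟩ := (exists_orderOf_quotient_iff _ (hcop2 s hsodd)).1 (exists_prime_orderOf_dvd_card' s hsG)
    exact eta_le hs hs2 hsF hl hηl g hg
  have hsign : ∀ (r k ηk : ℕ), r.Prime → k = orderOf ((Fintype.card F : ℕ) : ZMod r) → 0 < k →
      ((Odd k ∧ ηk = k) ∨ (Even k ∧ 2 * ηk = k)) →
      ((Fintype.card F : ℕ) : ZMod r) ^ ηk = -1 ∨ ((Fintype.card F : ℕ) : ZMod r) ^ ηk = 1 := by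
    intro r k ηk hr hk hk0 hη
    rcases hη with ⟨-, h⟩ | ⟨-, h⟩
    · exact Or.inr (by rw [h, hk, pow_orderOf_eq_one])
    · exact Or.inl (pow_half_eq_neg_one hr hk h hk0)
  have hdvd : ∀ (r d : ℕ), 1 ≤ d →
      (((Fintype.card F : ℕ) : ZMod r) ^ d = -1 ∨ ((Fintype.card F : ℕ) : ZMod r) ^ d = 1) →
      ∃ g : Matrix.symplecticGroup (Fin d) F, r ∣ orderOf g := by
    intro r d hd h
    rcases exists_symp_dvd (r := r) hd h with ⟨g, -, hg⟩ | ⟨g, -, hg⟩ <;> exact ⟨g, hg⟩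
  rw [Set.mem_range, exists_orderOf_quotient_iff _ (hcop2 _ (hrodd.mul hsodd))]
  constructor
  · intro hno
    have key : ∀ x : Matrix.symplecticGroup (Fin n) F, r ∣ orderOf x → s ∣ orderOf x → False := fun x h1 h2 =>
      hno (Cfsg.Agent.Lib.ElementOrders.exists_orderOf_eq_of_dvd (hrsc.mul_dvd_of_dvd_of_dvd h1 h2))
    refine ⟨?_, ?_⟩
    · by_contra hle
      obtain ⟨g, hg⟩ := hdvd r ηk hηk1 (hsign r k ηk hr hk hk0 hηk)
      obtain ⟨h, hh⟩ := hdvd s ηl hηl1 (hsign s l ηl hs hl hl0 hηl)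
      obtain ⟨x, hx1, hx2⟩ := exists_symp_pad (show ηk + ηl ≤ n by omega) g h
      exact key x (hg.trans hx1) (hh.trans hx2)
    · rintro ⟨t, ht, hlt⟩
      have hboth : (((Fintype.card F : ℕ) : ZMod r) ^ ηl = -1 ∧ ((Fintype.card F : ℕ) : ZMod s) ^ ηl = -1) ∨
          (((Fintype.card F : ℕ) : ZMod r) ^ ηl = 1 ∧ ((Fintype.card F : ℕ) : ZMod s) ^ ηl = 1) := by
        rcases hηk with ⟨hko, hke⟩ | ⟨hke, hk2⟩
        · rcases hηl with ⟨-, hle⟩ | ⟨hle, -⟩
          · refine Or.inr ⟨?_, ?_⟩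
            · rw [hle, hlt, pow_mul, hk, pow_orderOf_eq_one, one_pow]
            · rw [hle, hl, pow_orderOf_eq_one]
          · exact absurd hle (Nat.not_even_iff_odd.2 (hlt ▸ hko.mul ht))
        · rcases hηl with ⟨hlo, -⟩ | ⟨-, hl2⟩
          · exact absurd (hlt ▸ hke.mul_right t) (Nat.not_even_iff_odd.2 hlo)
          · refine Or.inl ⟨?_, pow_half_eq_neg_one hs hl hl2 hl0⟩
            have : ηl = ηk * t := by
              have : 2 * ηl = 2 * (ηk * t) := by rw [← mul_assoc, hk2, hl2, hlt]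
              omega
            rw [this, pow_mul, pow_half_eq_neg_one hr hk hk2 hk0, ht.neg_one_pow]
      obtain ⟨⟨a, ha⟩, ⟨b, hb⟩⟩ := Cfsg.Agent.Lib.ElementOrders.exists_symp_torus (F := F) hηl1
      have hz : ∀ (r : ℕ), ((Fintype.card F : ℕ) : ZMod r) ^ ηl = -1 → r ∣ Fintype.card F ^ ηl + 1 := fun r h => by
        rw [← ZMod.natCast_eq_zero_iff, Nat.cast_add, Nat.cast_pow, h, Nat.cast_one, neg_add_cancel]
      have ho : ∀ (r : ℕ), ((Fintype.card F : ℕ) : ZMod r) ^ ηl = 1 → r ∣ Fintype.card F ^ ηl - 1 := fun r h => by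
        rw [← ZMod.natCast_eq_zero_iff, Nat.cast_sub (Nat.one_le_pow _ _ Fintype.card_pos), Nat.cast_pow, h,
          Nat.cast_one, sub_self]
      rcases hboth with ⟨h1, h2⟩ | ⟨h1, h2⟩
      · obtain ⟨x, hx, -⟩ := exists_symp_pad (show ηl + 0 ≤ n by omega) b 1
        exact key x ((hb ▸ hz r h1).trans hx) ((hb ▸ hz s h2).trans hx)
      · obtain ⟨x, hx, -⟩ := exists_symp_pad (show ηl + 0 ≤ n by omega) a 1
        exact key x ((ha ▸ ho r h1).trans hx) ((ha ▸ ho s h2).trans hx)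
  · rintro ⟨hsum, hnt⟩ ⟨g, hg⟩
    set M : Matrix (Fin n ⊕ Fin n) (Fin n ⊕ Fin n) F := g.1 with hM
    have hgpow : ∀ e : ℕ, M ^ e = 1 ↔ r * s ∣ e := fun e => by
      rw [← hg, orderOf_dvd_iff_pow_eq_one, Subtype.ext_iff, SubmonoidClass.coe_pow]; rfl
    obtain ⟨f, hf, hfP, hf1, hf2⟩ := exists_factor M hrF ((hgpow (r * s)).2 dvd_rfl)
      (fun h => hr.ne_one (by
        have := Nat.le_of_dvd hs.pos ((hgpow s).1 h)
        have := Nat.mul_le_mul_right s hr.two_le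
        have := hs.pos
        omega))
    obtain ⟨h, hh, hhP, hh1, hh2⟩ := exists_factor M hsF ((hgpow (s * r)).2 (dvd_of_eq (mul_comm r s)))
      (fun h => hs.ne_one (by
        have := Nat.le_of_dvd hr.pos ((hgpow r).1 h)
        have := Nat.mul_le_mul_left r hs.two_le
        have := hr.pos
        omega))
    let f₀ := normalize f
    have hf₀ : Irreducible f₀ := (normalize_associated f).symm.irreducible hf
    have hfm : f₀.Monic := monic_normalize hf.ne_zero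
    have hif : ∀ P : F[X], f₀ ∣ P ↔ f ∣ P := fun P => (normalize_associated f).dvd_iff_dvd_left
    let h₀ := normalize h
    have hh₀ : Irreducible h₀ := (normalize_associated h).symm.irreducible hh
    have hhm : h₀.Monic := monic_normalize hh.ne_zero
    have hih : ∀ P : F[X], h₀ ∣ P ↔ h ∣ P := fun P => (normalize_associated h).dvd_iff_dvd_left
    rw [← hif] at hfP hf1 hf2
    rw [← hih] at hhP hh1 hh2
    obtain ⟨Df, hDfP, hfDf, hDfe, hDf⟩ := exists_selfdual_span g.2 hf₀ hfm hfP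
    obtain ⟨Dh, hDhP, hhDh, hDhe, hDh⟩ := exists_selfdual_span g.2 hh₀ hhm hhP
    have dDf := two_mul_le_natDegree_span hf₀ hr hr2 hk hηk hf1 hf2 hDf
    have dDh := two_mul_le_natDegree_span hh₀ hs hs2 hl hηl hh1 hh2 hDh
    by_cases hco : IsCoprime Df Dh
    · have h1 := natDegree_add_le_card M hDfP hDhP hco
      rw [Fintype.card_sum, Fintype.card_fin] at h1
      omega
    · obtain ⟨c, hc, hcf, hch⟩ : ∃ c, Irreducible c ∧ c ∣ Df ∧ c ∣ Dh := by
        by_contra hcon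
        push Not at hcon
        exact hco (isCoprime_of_irreducible_dvd
          (fun h0 => minpoly.ne_zero (IsIntegral.of_finite F M) (zero_dvd_iff.1 (h0.1 ▸ hDfP))) hcon)
      let c₀ := normalize c
      have hc₀ : Irreducible c₀ := (normalize_associated c).symm.irreducible hc
      have hcm : c₀.Monic := monic_normalize hc.ne_zero
      have hic : ∀ P : F[X], c₀ ∣ P ↔ c ∣ P := fun P => (normalize_associated c).dvd_iff_dvd_left
      have hr1 : f₀ ∣ X ^ (s * r) - 1 ∧ ¬ f₀ ∣ X ^ r - 1 := by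
        rw [← hDfe c₀ hc₀ hcm ((hic _).2 hcf), ← hDfe c₀ hc₀ hcm ((hic _).2 hcf),
          hDhe c₀ hc₀ hcm ((hic _).2 hch), hDhe c₀ hc₀ hcm ((hic _).2 hch)]
        exact ⟨hh1, hh2⟩
      have hkf : k ∣ f₀.natDegree := hk ▸ orderOf_dvd_natDegree hf₀ hr hf1 hf2
      have hlf : l ∣ f₀.natDegree := hl ▸ orderOf_dvd_natDegree hf₀ hs hr1.1 hr1.2
      have hLf : Nat.lcm k l ≤ f₀.natDegree := Nat.le_of_dvd hf₀.natDegree_pos (Nat.lcm_dvd hkf hlf)
      have hDn := natDegree_le_card M hDfP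
      rw [Fintype.card_sum, Fintype.card_fin] at hDn
      have hkle : 2 * ηk ≤ 2 * k ∧ 2 * ηl ≤ 2 * l := by
        constructor
        · rcases hηk with ⟨_, h⟩ | ⟨_, h⟩ <;> omega
        · rcases hηl with ⟨_, h⟩ | ⟨_, h⟩ <;> omega
      apply hnt
      rcases hDf with ⟨hd, j, hj⟩ | ⟨f', hf', -, -, heq, hDeq⟩
      · obtain ⟨hke, hk2j, hknj⟩ := order_of_pow_eq_neg_one hr hr2 hk (hj r s hr hf1 hf2)
        obtain ⟨hle, hl2j, -⟩ := order_of_pow_eq_neg_one hs hs2 hl (hj s r hs hr1.1 hr1.2)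
        have hk' : 2 * ηk = k := hηk.resolve_left (fun h => Nat.not_even_iff_odd.2 h.1 hke) |>.2
        have hl' : 2 * ηl = l := hηl.resolve_left (fun h => Nat.not_even_iff_odd.2 h.1 hle) |>.2
        have hL := lcm_eq_of_lt hk0 hl0 (by omega)
        obtain ⟨t, ht⟩ : k ∣ l := hL ▸ Nat.dvd_lcm_left k l
        exact ⟨t, odd_quotient_self ht hk2j hknj hl2j, ht⟩
      · have hkf' : k ∣ f'.natDegree :=
          hk ▸ orderOf_dvd_natDegree hf' hr ((heq _).2 hf1) (fun h => hf2 ((heq _).1 h))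
        have hlf' : l ∣ f'.natDegree :=
          hl ▸ orderOf_dvd_natDegree hf' hs ((heq _).2 hr1.1) (fun h => hr1.2 ((heq _).1 h))
        have hLf' : Nat.lcm k l ≤ f'.natDegree := Nat.le_of_dvd hf'.natDegree_pos (Nat.lcm_dvd hkf' hlf')
        rw [hDeq, natDegree_mul hf₀.ne_zero hf'.ne_zero] at hDn
        have hlpos : l ≤ Nat.lcm k l :=
          Nat.le_of_dvd (Nat.pos_of_ne_zero (Nat.lcm_ne_zero hk0.ne' hl0.ne')) (Nat.dvd_lcm_right k l)
        have hL := lcm_eq_of_lt hk0 hl0 (by omega)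
        obtain ⟨t, ht⟩ : k ∣ l := hL ▸ Nat.dvd_lcm_left k l
        rcases hηl with ⟨hlo, -⟩ | ⟨-, hl2⟩
        · exact ⟨t, (Nat.odd_mul.1 (ht ▸ hlo)).2, ht⟩
        · omega

end Cfsg.Agent.S2469
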