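import Cfsg.Statements.S2470
import Cfsg.Agent.Lib.PrimeGraphLinear.Basic
import Cfsg.Agent.Lib.ElementOrders.Singer
import Cfsg.Agent.Lib.ElementOrders.Basic
import Cfsg.Agent.Lib.SL2.Partition

set_option autoImplicit false
open Cfsg

namespace Cfsg.Agent.S2470


open Polynomial Cfsg.Agent.Lib.PrimeGraphLinear

variable {F : Type*} [Field F] [Fintype F] {n : ℕ}

omit [Fintype F] in
theorem mk_pow_eq_one_iff (g : Matrix.SpecialLinearGroup (Fin n) F) (e : ℕ) :
    (QuotientGroup.mk g : Matrix.ProjectiveSpecialLinearGroup (Fin n) F) ^ e = 1 ↔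
      ∃ c : F, (g : Matrix (Fin n) (Fin n) F) ^ e = c • 1 := by
  rw [show (QuotientGroup.mk g : Matrix.ProjectiveSpecialLinearGroup (Fin n) F) ^ e = QuotientGroup.mk (g ^ e) from
    (QuotientGroup.mk_pow _ g e).symm, QuotientGroup.eq_one_iff, Matrix.SpecialLinearGroup.mem_center_iff]
  constructor
  · rintro ⟨c, -, hc⟩
    refine ⟨c, ?_⟩
    rw [← Matrix.SpecialLinearGroup.coe_pow, ← hc, Matrix.scalar_apply, Matrix.smul_one_eq_diagonal]
  · rintro ⟨c, hc⟩
    refine ⟨c, ?_, ?_⟩
    · have h := congrArg Matrix.det hc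
      rw [Matrix.det_pow, show (g : Matrix (Fin n) (Fin n) F).det = 1 from g.2, one_pow, Matrix.det_smul,
        Matrix.det_one, mul_one] at h
      exact h.symm
    · rw [Matrix.SpecialLinearGroup.coe_pow, hc, Matrix.scalar_apply, Matrix.smul_one_eq_diagonal]

omit [Fintype F] in
/-- A transvection has order the characteristic. -/
theorem transvection_pow (p : ℕ) [Fact p.Prime] [CharP F p] {i j : Fin n} (hij : i ≠ j) :
    Matrix.transvection i j (1 : F) ^ p = 1 := by
  have : NeZero n := ⟨(Fin.pos i).ne'⟩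
  have hsq : Matrix.single i j (1 : F) * Matrix.single i j 1 = 0 :=
    Matrix.single_mul_single_of_ne _ _ _ _ hij.symm _
  rw [Matrix.transvection, add_pow_char_of_commute p (Commute.one_left _), one_pow]
  obtain ⟨e, he⟩ := Nat.exists_eq_add_of_le (Fact.out : p.Prime).two_le
  rw [he, pow_add, sq, hsq, zero_mul, add_zero]

omit [Fintype F] in
/-- A diagonal element of order `r` commuting with a transvection gives an element of order `rp`. -/
theorem exists_of_diagonal (p : ℕ) [Fact p.Prime] [CharP F p] {r : ℕ} (hr : r.Prime) (hrp : r ≠ p)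
    {i j : Fin n} (hij : i ≠ j) (d : Fin n → F) (hd : ∏ l, d l = 1) (hdij : d i = d j)
    (hns : ∃ l₁ l₂, d l₁ ≠ d l₂) (hpow : ∀ l₁ l₂, d l₁ ^ r = d l₂ ^ r) :
    r * p ∈ Set.range (orderOf : Matrix.ProjectiveSpecialLinearGroup (Fin n) F → ℕ) := by
  have : Fact r.Prime := ⟨hr⟩
  let D : Matrix.SpecialLinearGroup (Fin n) F := ⟨Matrix.diagonal d, by rw [Matrix.det_diagonal, hd]⟩
  let U : Matrix.SpecialLinearGroup (Fin n) F :=
    ⟨Matrix.transvection i j 1, Matrix.det_transvection_of_ne i j hij 1⟩
  have hD : orderOf (QuotientGroup.mk D : Matrix.ProjectiveSpecialLinearGroup (Fin n) F) = r := by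
    apply orderOf_eq_prime
    · rw [mk_pow_eq_one_iff]
      refine ⟨d i ^ r, ?_⟩
      show Matrix.diagonal d ^ r = _
      rw [Matrix.diagonal_pow, Matrix.smul_one_eq_diagonal]
      exact congrArg _ (funext fun l => hpow l i)
    · intro h
      obtain ⟨c, hc⟩ := (mk_pow_eq_one_iff D 1).1 (by rw [pow_one]; exact h)
      rw [pow_one] at hc
      replace hc : Matrix.diagonal d = c • (1 : Matrix (Fin n) (Fin n) F) := hc
      rw [Matrix.smul_one_eq_diagonal] at hc
      obtain ⟨l₁, l₂, hl⟩ := hns
      exact hl ((congrFun (Matrix.diagonal_injective hc) l₁).trans (congrFun (Matrix.diagonal_injective hc) l₂).symm)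
  have hU : orderOf (QuotientGroup.mk U : Matrix.ProjectiveSpecialLinearGroup (Fin n) F) = p := by
    apply orderOf_eq_prime
    · rw [mk_pow_eq_one_iff]
      exact ⟨1, by rw [one_smul]; exact transvection_pow p hij⟩
    · intro h
      obtain ⟨c, hc⟩ := (mk_pow_eq_one_iff U 1).1 (by rw [pow_one]; exact h)
      rw [pow_one] at hc
      replace hc : Matrix.transvection i j (1 : F) = c • (1 : Matrix (Fin n) (Fin n) F) := hc
      have := congrFun (congrFun hc i) j
      simp [Matrix.transvection, hij] at this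
  have hcomm : Commute D U := by
    apply Subtype.ext
    show Matrix.diagonal d * Matrix.transvection i j 1 = Matrix.transvection i j 1 * Matrix.diagonal d
    ext a b
    rw [Matrix.diagonal_mul, Matrix.mul_diagonal]
    by_cases h : i = a ∧ j = b
    · rw [← h.1, ← h.2, hdij, mul_comm]
    · rcases eq_or_ne a b with rfl | hab
      · rw [mul_comm]
      · simp [Matrix.transvection, h, hab]
  refine ⟨QuotientGroup.mk D * QuotientGroup.mk U, ?_⟩
  have hc' : Commute (QuotientGroup.mk D : Matrix.ProjectiveSpecialLinearGroup (Fin n) F) (QuotientGroup.mk U) :=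
    hcomm.map (QuotientGroup.mk' _)
  rw [hc'.orderOf_mul_eq_mul_orderOf_of_coprime
    (by rw [hD, hU]; exact (Nat.coprime_primes hr Fact.out).2 hrp), hD, hU]

/-- No element of order `rp` in `GL_n` when `n - 2 < k`, `2 ≤ k`. -/
theorem no_element (p : ℕ) [Fact p.Prime] [CharP F p] {r k : ℕ} (hr : r.Prime) (hrF : (r : F) ≠ 0)
    (hk : k = orderOf ((Fintype.card F : ℕ) : ZMod r)) (h2 : 2 ≤ k) (hnk : n < k + 2)
    (g : GL (Fin n) F) : orderOf g ≠ r * p := by
  intro hg
  have hp : p.Prime := Fact.out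
  have hgpow : ∀ e : ℕ, (g : Matrix (Fin n) (Fin n) F) ^ e = 1 ↔ r * p ∣ e := fun e => by
    rw [← Units.val_pow_eq_pow_val, Units.val_eq_one, ← orderOf_dvd_iff_pow_eq_one, hg]
  obtain ⟨f, hf, hfP, hf1, hf2⟩ := exists_factor (g : Matrix (Fin n) (Fin n) F) hrF ((hgpow (r * p)).2 dvd_rfl)
    (fun h => hr.ne_one (by
      have := Nat.le_of_dvd hp.pos ((hgpow p).1 h)
      have := Nat.mul_le_mul_right p hr.two_le
      have := hp.pos
      omega))
  have hkf := orderOf_dvd_natDegree hf hr hf1 hf2
  rw [← hk] at hkf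
  set P := minpoly F (g : Matrix (Fin n) (Fin n) F) with hP
  have hP0 : P ≠ 0 := minpoly.ne_zero (IsIntegral.of_finite F _)
  have hnsq : ¬ Squarefree P := by
    intro hsq
    have h1 : P ∣ (X ^ r - 1) ^ p := by
      rw [sub_pow_char, one_pow, ← pow_mul]
      exact minpoly.dvd F _ (by simp [(hgpow (r * p)).2 dvd_rfl])
    have h2 : (g : Matrix (Fin n) (Fin n) F) ^ r = 1 := by
      obtain ⟨c, hc⟩ := (hsq.dvd_pow_iff_dvd hp.ne_zero).1 h1
      have := congrArg (aeval (g : Matrix (Fin n) (Fin n) F)) hc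
      simpa [hP, minpoly.aeval, sub_eq_zero] using this
    have := Nat.le_of_dvd hr.pos ((hgpow r).1 h2)
    have := Nat.mul_le_mul_left r hp.two_le
    have := hr.pos
    omega
  rw [squarefree_iff_irreducible_sq_not_dvd_of_ne_zero hP0] at hnsq
  push Not at hnsq
  obtain ⟨h, hh, hhP⟩ := hnsq
  have hkle := Nat.le_of_dvd hf.natDegree_pos hkf
  have hh1 := hh.natDegree_pos
  by_cases hco : IsCoprime f h
  · have h1 := natDegree_add_le_card _ hfP hhP (hco.mul_right hco)
    rw [natDegree_mul hh.ne_zero hh.ne_zero, Fintype.card_fin] at h1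
    omega
  · rw [hf.coprime_iff_not_dvd, not_not] at hco
    have h1 := natDegree_le_card _ ((mul_dvd_mul hco hco).trans hhP)
    rw [natDegree_mul hf.ne_zero hf.ne_zero, Fintype.card_fin] at h1
    omega

/-- `PSL₃(q)` has no element of order `3p` when `3 ∥ q - 1`. -/
theorem no_element_three (p : ℕ) [Fact p.Prime] [CharP F p] (hp3 : p ≠ 3)
    (h9 : ¬ 9 ∣ Fintype.card F - 1) (x : Matrix.ProjectiveSpecialLinearGroup (Fin 3) F) : orderOf x ≠ 3 * p := by
  intro hx
  have hp : p.Prime := Fact.out
  have hp1 := hp.two_le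
  obtain ⟨g, rfl⟩ := QuotientGroup.mk_surjective x
  set M : Matrix (Fin 3) (Fin 3) F := (g : Matrix (Fin 3) (Fin 3) F) with hM
  have hsc : ∀ e : ℕ, (∃ c : F, M ^ e = c • 1) ↔ 3 * p ∣ e := fun e => by
    rw [← mk_pow_eq_one_iff, ← orderOf_dvd_iff_pow_eq_one, hx]
  obtain ⟨c, hc⟩ := (hsc (3 * p)).2 dvd_rfl
  have hdet : M.det = 1 := g.2
  have hc3 : c ^ 3 = 1 := by
    have h := congrArg Matrix.det hc
    rw [Matrix.det_pow, hdet, one_pow, Matrix.det_smul, Matrix.det_one, mul_one, Fintype.card_fin] at h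
    exact h.symm
  have hp2 : p * p % 3 = 1 := by
    have h0 : p % 3 ≠ 0 := fun h => hp3 ((Nat.prime_dvd_prime_iff_eq Nat.prime_three hp).1 (Nat.dvd_of_mod_eq_zero h)).symm
    rcases (show p % 3 = 1 ∨ p % 3 = 2 by omega) with h | h <;> simp [Nat.mul_mod, h]
  have hcp : (c ^ p) ^ p = c := by
    rw [← pow_mul, ← Nat.div_add_mod (p * p) 3, hp2, pow_succ, pow_mul, hc3, one_pow, one_mul]
  set P := minpoly F M with hP
  have hP0 : P ≠ 0 := minpoly.ne_zero (IsIntegral.of_finite F _)
  have hPd : P ∣ (X ^ 3 - C (c ^ p)) ^ p := by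
    rw [sub_pow_char, ← map_pow C, hcp, ← pow_mul]
    refine minpoly.dvd F _ ?_
    rw [map_sub, map_pow, aeval_X, aeval_C, hc, Algebra.algebraMap_eq_smul_one, sub_self]
  have hnsq : ¬ Squarefree P := by
    intro hsq
    have h2 : ∃ c : F, M ^ 3 = c • 1 := by
      refine ⟨c ^ p, ?_⟩
      obtain ⟨e, he⟩ := (hsq.dvd_pow_iff_dvd hp.ne_zero).1 hPd
      have h := congrArg (aeval M) he
      rw [map_mul, hP, minpoly.aeval, zero_mul, map_sub, map_pow, aeval_X, aeval_C, sub_eq_zero] at h
      rw [h, Algebra.algebraMap_eq_smul_one]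
    have := Nat.le_of_dvd (by norm_num) ((hsc 3).1 h2)
    omega
  rw [squarefree_iff_irreducible_sq_not_dvd_of_ne_zero hP0] at hnsq
  push Not at hnsq
  obtain ⟨h, hh, hhP⟩ := hnsq
  have hh1 : h.natDegree = 1 := by
    have h1 := natDegree_le_card _ hhP
    rw [natDegree_mul hh.ne_zero hh.ne_zero, Fintype.card_fin] at h1
    have := hh.natDegree_pos
    omega
  obtain ⟨a, ha⟩ := exists_root_of_degree_eq_one (degree_eq_iff_natDegree_eq hh.ne_zero |>.2 hh1)
  have ha3 : a ^ 3 = c ^ p := by
    have hroot : IsRoot (X ^ 3 - C (c ^ p)) a := by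
      have := (ha.dvd ((dvd_mul_right h h).trans (hhP.trans hPd)))
      rwa [IsRoot, eval_pow, pow_eq_zero_iff hp.ne_zero] at this
    simpa [sub_eq_zero] using hroot
  have ha0 : a ≠ 0 := by
    intro h0
    rw [h0, zero_pow (by norm_num)] at ha3
    rw [← ha3, zero_pow hp.ne_zero] at hcp
    rw [← hcp, zero_pow (by norm_num)] at hc3
    exact zero_ne_one hc3
  have ha31 : a ^ 3 = 1 := by
    have h1 : a ^ 9 = 1 := by
      rw [show (9 : ℕ) = 3 * 3 from rfl, pow_mul, ha3, ← pow_mul, mul_comm, pow_mul, hc3, one_pow]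
    have h2 := pow_gcd_eq_one.2 ⟨h1, FiniteField.pow_card_sub_one_eq_one a ha0⟩
    have h3 : Nat.gcd 9 (Fintype.card F - 1) ∣ 3 := by
      obtain ⟨i, hi, he⟩ := (Nat.dvd_prime_pow Nat.prime_three).1
        (Nat.gcd_dvd_left (3 ^ 2) (Fintype.card F - 1))
      rw [show (9 : ℕ) = 3 ^ 2 from rfl, he]
      interval_cases i
      · norm_num
      · norm_num
      · exact absurd (by
          have h' := Nat.gcd_dvd_right (3 ^ 2) (Fintype.card F - 1)
          rw [he] at h'
          exact h') h9
    obtain ⟨e, he⟩ := h3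
    rw [he, pow_mul, h2, one_pow]
  have hXa : (X - C a) ∣ h := dvd_iff_isRoot.2 ha
  have hχdvd : (X - C a) * (X - C a) ∣ M.charpoly :=
    ((mul_dvd_mul hXa hXa).trans hhP).trans (Matrix.minpoly_dvd_charpoly M)
  obtain ⟨t, ht⟩ := hχdvd
  have hχm : M.charpoly.Monic := M.charpoly_monic
  have htm : t.Monic := ((monic_X_sub_C a).mul (monic_X_sub_C a)).of_mul_monic_left (ht ▸ hχm)
  have htd : t.natDegree = 1 := by
    have := M.charpoly_natDegree_eq_dim
    rw [ht, ((monic_X_sub_C a).mul (monic_X_sub_C a)).natDegree_mul htm,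
      (monic_X_sub_C a).natDegree_mul (monic_X_sub_C a), natDegree_X_sub_C, Fintype.card_fin] at this
    omega
  have hte := htm.eq_X_add_C htd
  have hb : t.coeff 0 = -a := by
    have h1 := Matrix.det_eq_sign_charpoly_coeff M
    rw [hdet, ht, Fintype.card_fin] at h1
    rw [hte] at h1
    simp only [mul_coeff_zero, coeff_sub, coeff_X_zero, coeff_C_zero, coeff_add] at h1
    linear_combination a * h1 - t.coeff 0 * ha31
  have hCH : (M - a • 1) ^ 3 = 0 := by
    have h1 := Matrix.aeval_self_charpoly M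
    rw [ht, hte, hb, map_neg, ← sub_eq_add_neg, ← pow_two, ← pow_succ, map_pow, map_sub, aeval_X, aeval_C,
      Algebra.algebraMap_eq_smul_one] at h1
    exact h1
  have hp4 : 3 ≤ p ^ 2 := by nlinarith
  have hscal : ∃ c : F, M ^ (p ^ 2) = c • 1 := by
    refine ⟨a ^ (p ^ 2), ?_⟩
    have h1 : (M - a • 1) ^ (p ^ 2) = 0 := pow_eq_zero_of_le hp4 hCH
    rwa [sub_pow_char_pow_of_commute (p := p) (n := 2) ((Commute.one_right M).smul_right a), _root_.smul_pow, one_pow,
      sub_eq_zero] at h1
  have h3 : 3 ∣ p ^ 2 := (dvd_mul_right 3 p).trans ((hsc _).1 hscal)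
  exact hp3 ((Nat.prime_dvd_prime_iff_eq Nat.prime_three hp).1 (Nat.prime_three.dvd_of_dvd_pow h3)).symm


/-- Adjacency of an odd prime and the characteristic in the prime graph of PSL(n,q): let F be a finite field of characteristic p with q elements, n ≥ 2 with PSL(n,F) simple, and let r ≠ p be an odd prime dividing the order of PSL(n,F), with k the multiplicative order of q modulo r. Then PSL(n,F) has NO element of order r·p if and only if either k > n − 2, or n = 3, r = 3 and 3 divides q − 1 exactly once. -/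
theorem result {F : Type*} [Field F] [Fintype F] (p : ℕ) [Fact p.Prime] [CharP F p] (n : ℕ) (hn : 2 ≤ n) (hsmall : n = 2 → 4 ≤ Fintype.card F)
    (r : ℕ) (hr : r.Prime) (hr2 : r ≠ 2) (hrp : r ≠ p) (hrG : r ∣ Nat.card (Matrix.ProjectiveSpecialLinearGroup (Fin n) F))
    (k : ℕ) (hk : k = orderOf ((Fintype.card F : ℕ) : ZMod r)) :
    (r * p ∉ Set.range (orderOf : Matrix.ProjectiveSpecialLinearGroup (Fin n) F → ℕ)) ↔
      (n - 2 < k ∨ (n = 3 ∧ r = 3 ∧ 3 ∣ Fintype.card F - 1 ∧ ¬ 9 ∣ Fintype.card F - 1)) := by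
  classical
  have hp : p.Prime := Fact.out
  have hrF : (r : F) ≠ 0 := by
    rw [Ne, CharP.cast_eq_zero_iff F p, Nat.prime_dvd_prime_iff_eq hp hr]
    exact fun h => hrp h.symm
  have hkpos : 0 < k := hk ▸ orderOf_cast_pos hr hrF
  have hrk : r ∣ Fintype.card F ^ k - 1 := by
    have h1 : ((Fintype.card F : ℕ) : ZMod r) ^ k = 1 := hk ▸ pow_orderOf_eq_one _
    rw [← Nat.cast_pow, ← Nat.cast_one] at h1
    exact (Nat.modEq_iff_dvd' (Nat.one_le_pow _ _ Fintype.card_pos)).1 ((ZMod.natCast_eq_natCast_iff _ _ _).1 h1).symm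
  have hrpc : r.Coprime p := (Nat.coprime_primes hr hp).2 hrp
  rcases Nat.lt_or_ge k 2 with hk2 | hk2
  · have hk1 : k = 1 := by omega
    subst hk1
    rw [pow_one] at hrk
    rcases Nat.lt_or_ge n 3 with hn3 | hn3
    · obtain rfl : n = 2 := by omega
      refine iff_of_true ?_ (Or.inl (by omega))
      rintro ⟨x, hx⟩
      rcases Cfsg.Agent.Lib.SL2.semi_or_unip x with h | h
      · have hc := Cfsg.Agent.Lib.SL2.coprime_orderOf_of_semi p h
        rw [hx] at hc
        exact (hp.coprime_iff_not_dvd.1 hc.symm) (dvd_mul_left p r)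
      · have hd := Cfsg.Agent.Lib.SL2.orderOf_dvd_of_unip p h
        rw [hx] at hd
        have := Nat.le_of_dvd hp.pos hd
        have := Nat.mul_le_mul_right p hr.two_le
        have := hp.pos
        omega
    · constructor
      · intro hno
        right
        obtain ⟨u, hu⟩ := exists_prime_orderOf_dvd_card' (G := Fˣ) r (hp := ⟨hr⟩)
          (by rwa [Nat.card_units, Nat.card_eq_fintype_card])
        have hur : (u : F) ^ r = 1 := by rw [← Units.val_pow_eq_pow_val, ← hu, pow_orderOf_eq_one, Units.val_one]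
        have hu1 : (u : F) ≠ 1 := by
          rw [Ne, Units.val_eq_one]
          rintro rfl
          rw [orderOf_one] at hu
          exact hr.ne_one hu.symm
        have hn4 : n = 3 := by
          by_contra hne
          apply hno
          refine exists_of_diagonal p hr hrp (i := ⟨0, by omega⟩) (j := ⟨1, by omega⟩) (by simp [Fin.ext_iff])
            (fun l => if l.val = 2 then (u : F) else if l.val = 3 then (u : F)⁻¹ else 1) ?_ (by simp) ?_ ?_
          · rw [← Finset.prod_subset (s₁ := {(⟨2, by omega⟩ : Fin n), ⟨3, by omega⟩}) (Finset.subset_univ _)]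
            · rw [Finset.prod_pair (by simp [Fin.ext_iff])]
              simp
            · intro l _ hl
              simp only [Finset.mem_insert, Finset.mem_singleton, Fin.ext_iff, not_or] at hl
              simp [hl.1, hl.2]
          · exact ⟨⟨2, by omega⟩, ⟨0, by omega⟩, by simpa using hu1⟩
          · intro l₁ l₂
            have : ∀ l : Fin n, (if l.val = 2 then (u : F) else if l.val = 3 then (u : F)⁻¹ else 1) ^ r = 1 := by
              intro l
              split_ifs <;> simp [hur]
            rw [this, this]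
        subst hn4
        refine ⟨rfl, ?_⟩
        by_cases hr3 : r = 3
        · subst hr3
          refine ⟨rfl, hrk, fun h9 => hno ?_⟩
          obtain ⟨v, hv⟩ : ∃ v : Fˣ, orderOf v = 9 := by
            obtain ⟨w, hw⟩ := isCyclic_iff_exists_orderOf_eq_natCard.1 (inferInstance : IsCyclic Fˣ)
            exact Cfsg.Agent.Lib.ElementOrders.exists_orderOf_eq_of_dvd (x := w)
              (by rwa [hw, Nat.card_units, Nat.card_eq_fintype_card])
          have hv9 : (v : F) ^ 9 = 1 := by rw [← Units.val_pow_eq_pow_val, ← hv, pow_orderOf_eq_one, Units.val_one]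
          have hv3 : (v : F) ^ 3 ≠ 1 := by
            rw [← Units.val_pow_eq_pow_val, Ne, Units.val_eq_one]
            intro h
            have := Nat.le_of_dvd (by norm_num) (orderOf_dvd_of_pow_eq_one h)
            omega
          refine exists_of_diagonal p hr hrp (i := (0 : Fin 3)) (j := 1) (by simp) ![(v : F), v, ((v : F) ^ 2)⁻¹] ?_
            (by simp) ?_ ?_
          · simp [Fin.prod_univ_three]; field_simp
          · refine ⟨0, 2, fun h => hv3 ?_⟩
            have h' : (v : F) = ((v : F) ^ 2)⁻¹ := by simpa using h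
            calc (v : F) ^ 3 = (v : F) * (v : F) ^ 2 := by ring
              _ = 1 := by conv_lhs => arg 1; rw [h']
                          exact inv_mul_cancel₀ (pow_ne_zero _ (Units.ne_zero v))
          · have hinv : (((v : F) ^ 2)⁻¹) ^ 3 = (v : F) ^ 3 := by
              rw [inv_pow]
              refine inv_eq_of_mul_eq_one_left ?_
              rw [← pow_mul, ← pow_add]; exact hv9
            intro l₁ l₂
            fin_cases l₁ <;> fin_cases l₂ <;> simp [hinv]
        · exfalso
          apply hno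
          refine exists_of_diagonal p hr hrp (i := (0 : Fin 3)) (j := 1) (by simp) ![(u : F), u, ((u : F) ^ 2)⁻¹] ?_
            (by simp) ?_ ?_
          · simp [Fin.prod_univ_three]; field_simp
          · refine ⟨0, 2, fun h => ?_⟩
            have h' : (u : F) = ((u : F) ^ 2)⁻¹ := by simpa using h
            have h3 : u ^ 3 = 1 := by
              apply Units.ext
              rw [Units.val_pow_eq_pow_val, Units.val_one]
              calc (u : F) ^ 3 = (u : F) * (u : F) ^ 2 := by ring
                _ = 1 := by conv_lhs => arg 1; rw [h']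
                            exact inv_mul_cancel₀ (pow_ne_zero _ (Units.ne_zero u))
            have hd := orderOf_dvd_of_pow_eq_one h3
            rw [hu] at hd
            exact hr3 ((Nat.prime_dvd_prime_iff_eq hr Nat.prime_three).1 hd)
          · intro l₁ l₂
            have hinv : (((u : F) ^ 2)⁻¹) ^ r = 1 := by rw [inv_pow, ← pow_mul, mul_comm, pow_mul, hur, one_pow, inv_one]
            fin_cases l₁ <;> fin_cases l₂ <;> simp [hinv, hur]
      · rintro (h | ⟨rfl, rfl, -, h9⟩)
        · omega
        · rintro ⟨x, hx⟩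
          exact no_element_three p (fun h => hrp h.symm) h9 x hx
  · have hp1 : p.Coprime (Fintype.card F - 1) := by
      rw [hp.coprime_iff_not_dvd]
      intro hd
      have h1 : p ∣ Fintype.card F := by
        have := Nat.cast_card_eq_zero F
        exact (CharP.cast_eq_zero_iff F p _).1 this
      have := Nat.dvd_sub h1 hd
      rw [Nat.sub_sub_self Fintype.card_pos, Nat.dvd_one] at this
      exact hp.ne_one this
    have hr1 : r.Coprime (Fintype.card F - 1) := by
      rw [hr.coprime_iff_not_dvd]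
      intro hd
      have h1 : ((Fintype.card F : ℕ) : ZMod r) = 1 := by
        have := (ZMod.natCast_eq_natCast_iff 1 (Fintype.card F) r).2 ((Nat.modEq_iff_dvd' Fintype.card_pos).2 hd)
        simpa using this.symm
      rw [h1, orderOf_one] at hk
      omega
    rw [Set.mem_range, exists_orderOf_PSL_iff (Nat.Coprime.mul_left hr1 hp1)]
    constructor
    · intro hno
      left
      by_contra hle
      obtain ⟨g, hg⟩ := Cfsg.Agent.Lib.ElementOrders.exists_orderOf_eq_pow_card_sub_one (F := F) (n := k)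
        (show 1 ≤ k by omega) le_rfl
      let t : GL (Fin 2) F := Matrix.GeneralLinearGroup.mkOfDetNeZero (Matrix.transvection 0 1 1)
        (by rw [Matrix.det_transvection_of_ne _ _ (by simp)]; exact one_ne_zero)
      have htp : orderOf t = p := by
        apply orderOf_eq_prime
        · exact Units.ext (by rw [Units.val_pow_eq_pow_val]; exact transvection_pow p (by simp))
        · intro h
          have := congrArg (fun u : GL (Fin 2) F => (u : Matrix (Fin 2) (Fin 2) F) 0 1) h
          simp [t, Matrix.transvection] at this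
      obtain ⟨x, hx1, hx2⟩ := exists_orderOf_dvd_sum (show k + 2 ≤ n by omega) g t
      exact hno (Cfsg.Agent.Lib.ElementOrders.exists_orderOf_eq_of_dvd
        (hrpc.mul_dvd_of_dvd_of_dvd ((hg ▸ hrk).trans hx1) (htp ▸ hx2)))
    · rintro (h | ⟨-, rfl, h3, -⟩)
      · rintro ⟨g, hg⟩
        exact no_element p hr hrF hk hk2 (by omega) g hg
      · exact absurd h3 ((Nat.prime_three.coprime_iff_not_dvd).1 hr1)

end Cfsg.Agent.S2470
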