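import Mathlib
import Cfsg.Statements.S2471
import Cfsg.Agent.Lib.SL2.Partition

set_option autoImplicit false
open Cfsg

namespace Cfsg.Agent.S2471

open Cfsg.Agent.Lib.SL2

/-- In PSL(2,q) with q odd, the characteristic p is isolated from 2 in the prime graph: for F a finite field of odd characteristic p with at least 5 elements, PSL(2,F) has no element of order 2p. -/
theorem result {F : Type*} [Field F] [Fintype F] (p : ℕ) [Fact p.Prime] [CharP F p] (hp : p ≠ 2) (h5 : 5 ≤ Fintype.card F) (g : Matrix.ProjectiveSpecialLinearGroup (Fin 2) F) :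
    orderOf g ≠ 2 * p := by
  intro h
  have hpp := (Fact.out : p.Prime)
  rcases semi_or_unip g with hg | hg
  · have hc := coprime_orderOf_of_semi p hg
    rw [h] at hc
    exact (hpp.coprime_iff_not_dvd.1 hc.symm) (dvd_mul_left p 2)
  · have hd := orderOf_dvd_of_unip p hg
    rw [h] at hd
    have := Nat.le_of_dvd hpp.pos hd
    have := hpp.two_le
    omega

end Cfsg.Agent.S2471
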