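import Cfsg.Statements.S2474
import Mathlib
import Cfsg.Agent.Lib.PrimeGraphBC.OrthTwo

set_option autoImplicit false
open Cfsg

namespace Cfsg.Agent.S2474

open Cfsg.Agent.Lib

theorem range_pomega_iff {F : Type*} [Field F] [Finite F] (h2 : (2 : F) ≠ 0) {n : ℕ} (hn : 2 ≤ n) (N : ℕ) :
    (N ∈ Set.range (orderOf : Cfsg.POmega F (Cfsg.quadFormOdd n F) → ℕ)) ↔
      ∃ g : ↥(isometryGroup F ⇑(Orth.oddForm n F)), g ∈ Omega F ⇑(Orth.oddForm n F) ∧ orderOf g = N := by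
  rw [← Orth.coe_oddForm]
  have hbot : Subgroup.center ↥(Omega F ⇑(Orth.oddForm n F)) = ⊥ :=
    Orth.center_omega_eq_bot h2 (Orth.oddForm_nondegenerate h2 n) (by simp; omega) ⟨n, by simp; omega⟩
  have hinj : Function.Injective (QuotientGroup.mk' (Subgroup.center ↥(Omega F ⇑(Orth.oddForm n F)))) := by
    rw [← MonoidHom.ker_eq_bot_iff, QuotientGroup.ker_mk', hbot]
  constructor
  · rintro ⟨y, hy⟩
    obtain ⟨g, rfl⟩ := QuotientGroup.mk_surjective y
    refine ⟨g.1, g.2, ?_⟩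
    rw [Subgroup.orderOf_coe, ← orderOf_injective _ hinj g]
    exact hy
  · rintro ⟨g, hg, ho⟩
    refine ⟨QuotientGroup.mk' _ ⟨g, hg⟩, ?_⟩
    rw [orderOf_injective _ hinj, ← Subgroup.orderOf_coe]
    exact ho

theorem odd_case {F : Type*} [Field F] [Fintype F] (h2 : (2 : F) ≠ 0) {n N : ℕ} (hN : Odd N) (hNF : (N : F) ≠ 0) :
    (∃ g : ↥(isometryGroup F ⇑(Orth.oddForm n F)), g ∈ Omega F ⇑(Orth.oddForm n F) ∧ orderOf g = N) ↔
      (N ∈ Set.range (orderOf : Cfsg.PSp n F → ℕ)) := by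
  rw [SympPrimeGraph.exists_orderOf_PSp_iff fun _ _ _ => hN]
  have hQ := Orth.oddForm_nondegenerate h2 n
  constructor
  · rintro ⟨g, -, hg⟩
    obtain ⟨b, π, hdim, hπ, -⟩ := PrimeGraphBC.exists_symp_hom h2 hQ g hN hNF (by rw [← hg, pow_orderOf_eq_one])
    obtain ⟨x, hx⟩ := SympPrimeGraph.exists_orderOf_mono (F := F) (a := b) (n := n)
      (by simp at hdim; omega) (π ⟨g, Subgroup.mem_centralizer_singleton_iff.2 rfl⟩)
    exact ⟨x, by rw [hx, hπ, hg]⟩
  · rintro ⟨x, hx⟩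
    obtain ⟨h, hh, -⟩ := PrimeGraphBC.exists_orth_of_sp h2 hQ (m := n) (by simp) x (by rw [hx]; exact hN)
      (by rw [hx]; exact hNF)
    rcases Nat.eq_zero_or_pos n with rfl | hn
    · exact ⟨1, Subgroup.one_mem _, by rw [orderOf_one, ← hx, orderOf_eq_one_iff.2 (Subsingleton.elim x 1)]⟩
    exact ⟨h, PrimeGraphBC.mem_omega_of_odd h2 hQ (by simp; omega) (by rw [hh, hx]; exact hN), hh.trans hx⟩

/-- For q odd and n ≥ 3 the simple groups PΩ(2n+1,q) and PSp(2n,q) (which have the same order but different sets of element orders) have the same prime graph: for all distinct primes r, s, one of them has an element of order r·s if and only if the other does. -/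
theorem result {F : Type*} [Field F] [Fintype F] (hodd : Odd (Fintype.card F)) (n : ℕ) (hn : 3 ≤ n) (r s : ℕ) (hr : r.Prime) (hs : s.Prime) (hrs : r ≠ s) :
    (r * s ∈ Set.range (orderOf : Cfsg.POmega F (Cfsg.quadFormOdd n F) → ℕ)) ↔ (r * s ∈ Set.range (orderOf : Cfsg.PSp n F → ℕ)) := by
  wlog hle : r = 2 ∨ (s ≠ 2 ∧ (s : F) = 0) ∨ (r ≠ 2 ∧ s ≠ 2 ∧ (r : F) ≠ 0 ∧ (s : F) ≠ 0) generalizing r s
  · rw [mul_comm]
    refine this s r hs hr hrs.symm ?_
    by_cases hs2 : s = 2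
    · exact Or.inl hs2
    by_cases hrF : (r : F) = 0
    · exact Or.inr (Or.inl ⟨fun h => hle (Or.inl h), hrF⟩)
    by_cases hsF : (s : F) = 0
    · exact absurd (Or.inr (Or.inl ⟨hs2, hsF⟩)) hle
    exact absurd (Or.inr (Or.inr ⟨fun h => hle (Or.inl h), hs2, hrF, hsF⟩)) hle
  obtain ⟨p, hp⟩ := CharP.exists F
  haveI hpF : Fact p.Prime := ⟨CharP.char_is_prime F p⟩
  obtain ⟨a, -, ha⟩ := FiniteField.card F p
  have hp2 : p ≠ 2 := by
    rintro rfl
    rw [ha] at hodd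
    exact Nat.not_even_iff_odd.2 hodd (Nat.even_pow.2 ⟨even_two, a.ne_zero⟩)
  have h2 : (2 : F) ≠ 0 := fun h => hp2
    ((Nat.prime_dvd_prime_iff_eq Fact.out Nat.prime_two).1 ((CharP.cast_eq_zero_iff F p 2).1 (by simpa using h)))
  have hcard : Fintype.card (Unit ⊕ (Fin n ⊕ Fin n)) = 2 * n + 1 := by simp; omega
  have hQ := Orth.oddForm_nondegenerate h2 n
  have hps : ∀ {t : ℕ}, t.Prime → ((t : F) = 0 ↔ t = p) := fun ht => by
    rw [CharP.cast_eq_zero_iff F p, Nat.prime_dvd_prime_iff_eq Fact.out ht, eq_comm]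
  haveI : Fact r.Prime := ⟨hr⟩
  haveI : Fact s.Prime := ⟨hs⟩
  rw [range_pomega_iff h2 (by omega)]
  rcases hle with rfl | ⟨hs2, hsF⟩ | ⟨hr2, hs2, hrF, hsF⟩
  · by_cases hsF : (s : F) = 0
    · obtain rfl := (hps hs).1 hsF
      refine iff_of_true (PrimeGraphBC.omega_two_char h2 hQ hcard s hp2 hn) ?_
      obtain ⟨x, hx⟩ := PrimeGraphBC.exists_orderOf_two (F := F) h2
      obtain ⟨t, ht⟩ := SympPrimeGraph.exists_orderOf_char (F := F) s
      have h := PrimeGraphBC.mem_range_psp_pair (n := n) h2 (show 1 + 1 ≤ n by omega) le_rfl x t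
        (by rw [ht]; exact hs.odd_of_ne_two hp2)
      rwa [hx, ht, ((Nat.coprime_primes hr hs).2 hrs).lcm_eq_mul] at h
    · have hsp : s ≠ p := fun h => hsF ((hps hs).2 h)
      have hsq : ¬ s ∣ Fintype.card F := SympPrimeGraph.not_dvd_card (F := F) rfl hsp
      rw [PrimeGraphBC.omega_two_iff rfl hodd h2 hn (Ne.symm hrs) hsF hsq,
        PrimeGraphBC.psp_two_iff rfl h2 (Ne.symm hrs) hsF (hs.coprime_iff_not_dvd.2 hsq).symm]
  · obtain rfl := (hps hs).1 hsF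
    by_cases hr2 : r = 2
    · subst hr2
      refine iff_of_true (PrimeGraphBC.omega_two_char h2 hQ hcard s hp2 hn) ?_
      obtain ⟨x, hx⟩ := PrimeGraphBC.exists_orderOf_two (F := F) h2
      obtain ⟨t, ht⟩ := SympPrimeGraph.exists_orderOf_char (F := F) s
      have h := PrimeGraphBC.mem_range_psp_pair (n := n) h2 (show 1 + 1 ≤ n by omega) le_rfl x t
        (by rw [ht]; exact hs.odd_of_ne_two hp2)
      rwa [hx, ht, ((Nat.coprime_primes hr hs).2 hrs).lcm_eq_mul] at h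
    rw [PrimeGraphBC.omega_char_iff h2 hQ hcard s hp2 rfl (by omega) hr2 hrs,
      PrimeGraphBC.psp_char_iff s hp2 rfl (by omega) hr2 hrs]
  · exact odd_case h2 ((hr.odd_of_ne_two hr2).mul (hs.odd_of_ne_two hs2))
      (by rw [Nat.cast_mul]; exact mul_ne_zero hrF hsF)

end Cfsg.Agent.S2474
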