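import Mathlib
import Cfsg.Statements.S2475
import Cfsg.Agent.Lib.SL2Products.Basic

set_option autoImplicit false
open Cfsg

namespace Cfsg.Agent.S2475

open Cfsg.Agent.Lib.SL2

/-- The set of element orders of PSL(2,q): let F be a finite field of characteristic p with q ≥ 4 elements and d = gcd(2, q − 1). The orders of elements of PSL(2,F) are exactly the divisors of p, of (q − 1)/d and of (q + 1)/d. -/
theorem result {F : Type*} [Field F] [Fintype F] (p : ℕ) [Fact p.Prime] [CharP F p] (h4 : 4 ≤ Fintype.card F) :
    Set.range (orderOf : Matrix.ProjectiveSpecialLinearGroup (Fin 2) F → ℕ) =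
      {m : ℕ | m ∣ p ∨ m ∣ (Fintype.card F - 1) / Nat.gcd 2 (Fintype.card F - 1) ∨ m ∣ (Fintype.card F + 1) / Nat.gcd 2 (Fintype.card F - 1)} := by
  classical
  set d := Nat.gcd 2 (Fintype.card F - 1) with hd
  have hd0 : 0 < d := Nat.gcd_pos_of_pos_left _ (by norm_num)
  ext m
  constructor
  · rintro ⟨x, rfl⟩
    rcases semi_or_unip x with hx | hx
    · have h := orderOf_dvd_natCard (⟨x, mem_torus_self x⟩ : torus x)
      rw [Subgroup.orderOf_mk] at h
      rcases card_torus_semi hx with e | e
      · exact Or.inr (Or.inl (e ▸ h))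
      · exact Or.inr (Or.inr (e ▸ h))
    · exact Or.inl (orderOf_dvd_of_unip p hx)
  · have ofTorus : ∀ x : PSLtwo F, IsSemi x → m ∣ Nat.card (torus x) →
        m ∈ Set.range (orderOf : PSLtwo F → ℕ) := by
      intro x hx hm
      have := isCyclic_torus_semi hx
      obtain ⟨z, hz⟩ := IsCyclic.exists_ofOrder_eq_natCard (α := torus x)
      refine ⟨(z : PSLtwo F) ^ (orderOf z / m), ?_⟩
      rw [Subgroup.orderOf_coe z |>.symm]
      exact orderOf_pow_orderOf_div (by rw [Subgroup.orderOf_coe, hz]; exact Nat.card_pos.ne')
        (by rw [Subgroup.orderOf_coe, hz]; exact hm)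
    have hpp := (Fact.out : p.Prime)
    rintro (hm | hm | hm)
    · rcases (Nat.dvd_prime hpp).1 hm with rfl | rfl
      · exact ⟨1, orderOf_one⟩
      · refine ⟨proj (upper (1 : F)), ?_⟩
        have hne : proj (upper (1 : F)) ≠ 1 := by
          rw [Ne, proj_eq_one_iff, ← isScalarMat_iff_mem_center]
          intro h
          simpa [upper] using h.1
        have hu : IsUnip (proj (upper (1 : F))) := ⟨_, rfl, by simp [tr, upper]; norm_num⟩
        rcases (Nat.dvd_prime hpp).1 (orderOf_dvd_of_unip m hu) with h | h
        · exact absurd (orderOf_eq_one_iff.1 h) hne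
        · exact h
    · obtain ⟨a, ha⟩ : ∃ a : Fˣ, (a : F) ^ 2 ≠ 1 := by
        by_contra hc
        simp only [not_exists, not_not] at hc
        have hsub : (Finset.univ : Finset Fˣ) ⊆ {1, -1} := by
          intro a _
          have := sq_eq_one_iff.1 (hc a)
          simp only [Finset.mem_insert, Finset.mem_singleton]
          rcases this with e | e
          · exact Or.inl (Units.ext e)
          · exact Or.inr (Units.ext (by rw [e]; simp))
        have := (Finset.card_le_card hsub).trans Finset.card_le_two
        rw [Finset.card_univ, Fintype.card_units] at this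
        omega
      have hs : IsSplit (diag a) := ⟨(a : F), by
        simp [tr, diag]
        field_simp
        ring, ha⟩
      have hx : IsSemi (proj (diag a)) := ⟨_, rfl, Or.inr hs⟩
      refine ofTorus _ hx ?_
      have hc := card_torus_mul (g := diag a)
      rw [card_centralizer_split hs, ← hd] at hc
      rwa [← hc, Nat.mul_div_cancel _ hd0] at hm
    · obtain ⟨t, ht⟩ := Cfsg.Agent.Lib.SL2Products.exists_elliptic_trace (F := F)
      have he : IsElliptic (comp t 1) := by
        show NoRoot (tr (comp t 1)) 1
        rw [tr_comp]; exact ht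
      have hx : IsSemi (proj (comp t 1)) := ⟨_, rfl, Or.inl he⟩
      refine ofTorus _ hx ?_
      have hc := card_torus_mul (g := comp t (1 : Fˣ))
      rw [card_centralizer_elliptic he, ← hd] at hc
      rwa [← hc, Nat.mul_div_cancel _ hd0] at hm

end Cfsg.Agent.S2475
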