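import Cfsg.Statements.S2510
import Mathlib
import Cfsg.Agent.Lib.ElementOrders.Basic
import Cfsg.Agent.Lib.ElementOrders.Dichotomy
import Cfsg.Agent.Lib.ElementOrders.Singer

set_option autoImplicit false
open Cfsg

namespace Cfsg.Agent.S2510

open Cfsg.Agent.Lib.ElementOrders Polynomial Matrix

variable {F : Type*} [Field F] [Fintype F] {n : ℕ}

local notation "SL'" => Matrix.SpecialLinearGroup (Fin n) F
local notation "L'" => Matrix.ProjectiveSpecialLinearGroup (Fin n) F

/-- The order of a Singer cycle in `PSL_n(q)`. -/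
def singer (q n : ℕ) : ℕ := (∑ i ∈ Finset.range n, q ^ i) / Nat.gcd n (q - 1)

theorem geomSum_modEq (q n : ℕ) (hq : 1 ≤ q) : ∑ i ∈ Finset.range n, q ^ i ≡ n [MOD q - 1] := by
  have h : q ≡ 1 [MOD q - 1] := ((Nat.modEq_iff_dvd' hq).2 dvd_rfl).symm
  have h2 := Nat.ModEq.sum (s := Finset.range n) (n := q - 1) (f := fun i => q ^ i) (g := fun _ => 1)
    (fun i _ => by simpa using h.pow i)
  simpa using h2

theorem gcd_dvd_geomSum (q n : ℕ) (hq : 1 ≤ q) : Nat.gcd n (q - 1) ∣ ∑ i ∈ Finset.range n, q ^ i :=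
  ((geomSum_modEq q n hq).dvd_iff (Nat.gcd_dvd_right _ _)).2 (Nat.gcd_dvd_left _ _)

theorem gcd_mul_singer (q n : ℕ) (hq : 1 ≤ q) : Nat.gcd n (q - 1) * singer q n = ∑ i ∈ Finset.range n, q ^ i :=
  Nat.mul_div_cancel' (gcd_dvd_geomSum q n hq)

theorem mem_center_of_scalar (g : SL') (c : F) (h : (g : Matrix (Fin n) (Fin n) F) = c • 1) :
    g ∈ Subgroup.center SL' := by
  refine Matrix.SpecialLinearGroup.mem_center_iff.2 ⟨c, ?_, ?_⟩
  · have h2 := g.2
    rw [show g.1 = c • 1 from h, det_smul, det_one, mul_one] at h2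
    exact h2
  · rw [scalar_apply, ← smul_one_eq_diagonal]
    exact h.symm

theorem exists_scalar_of_mem_center (g : SL') (h : g ∈ Subgroup.center SL') :
    ∃ c : F, (g : Matrix (Fin n) (Fin n) F) = c • 1 := by
  obtain ⟨c, -, hc⟩ := Matrix.SpecialLinearGroup.mem_center_iff.1 h
  exact ⟨c, by rw [← hc, scalar_apply, smul_one_eq_diagonal]⟩

/-- The image in `PSL` of a non-scalar element of prime order has that order. -/
theorem orderOf_mk_eq (z : SL') {r : ℕ} (hr : r.Prime) (hzr : z ^ r = 1)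
    (hz : ∀ c : F, (z : Matrix (Fin n) (Fin n) F) ≠ c • 1) : orderOf (QuotientGroup.mk z : L') = r := by
  haveI : Fact r.Prime := ⟨hr⟩
  apply orderOf_eq_prime
  · exact (QuotientGroup.mk_pow _ z r).symm.trans (congrArg _ hzr)
  · intro h
    obtain ⟨c, hc⟩ := exists_scalar_of_mem_center z ((QuotientGroup.eq_one_iff z).1 h)
    exact hz c hc

theorem pow_char_pow_clog {p : ℕ} [Fact p.Prime] [CharP F p] (hn : 0 < n) (u : Matrix (Fin n) (Fin n) F) (a : ℕ)
    (h : u ^ (p ^ a) = 1) : u ^ (p ^ Nat.clog p n) = 1 := by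
  haveI : NeZero n := ⟨hn.ne'⟩
  have h1 : (u - 1) ^ (p ^ a) = 0 := by
    rw [sub_pow_char_pow_of_commute (p := p) (n := _) (Commute.one_right u), h, one_pow, sub_self]
  have h2 : minpoly F (u - 1) ∣ X ^ (p ^ a) := minpoly.dvd F _ (by simp [h1])
  obtain ⟨j, -, hj⟩ := (dvd_prime_pow Polynomial.prime_X _).1 h2
  have hj' : (u - 1) ^ j = 0 := by
    have := map_dvd (aeval (R := F) (u - 1)) hj.dvd
    rwa [minpoly.aeval, map_pow, aeval_X, zero_dvd_iff] at this
  have hjn : j ≤ n := by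
    have h3 : (X ^ j : F[X]) ∣ (u - 1).charpoly := hj.symm.dvd.trans (Matrix.minpoly_dvd_charpoly _)
    have h4 := natDegree_le_of_dvd h3 (Matrix.charpoly_monic _).ne_zero
    rwa [natDegree_X_pow, Matrix.charpoly_natDegree_eq_dim, Fintype.card_fin] at h4
  have h5 : (u - 1) ^ (p ^ Nat.clog p n) = 0 :=
    pow_eq_zero_of_le (hjn.trans (Nat.le_pow_clog (Fact.out : p.Prime).one_lt n)) hj'
  rwa [sub_pow_char_pow_of_commute (p := p) (n := _) (Commute.one_right u), one_pow, sub_eq_zero] at h5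

/-- Either an element can be multiplied by an element of order `r` in its centralizer, or its order
divides the product of the Singer order and the largest order of a unipotent element. -/
theorem dichotomy {p : ℕ} [Fact p.Prime] [CharP F p] (hn : 0 < n) {r : ℕ} (hr : r.Prime)
    (hrq : r ∣ Fintype.card F - 1) (hrn : ¬ r ∣ n) (x : L') :
    (∃ y : L', orderOf x ∣ orderOf y ∧ r ∣ orderOf y) ∨
      orderOf x ∣ singer (Fintype.card F) n * p ^ Nat.clog p n := by
  classical
  by_cases hrx : r ∣ orderOf x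
  · exact Or.inl ⟨x, dvd_rfl, hrx⟩
  obtain ⟨g, rfl⟩ := QuotientGroup.mk_surjective x
  set M : Matrix (Fin n) (Fin n) F := g.val with hM
  obtain ⟨a, m, hm, hN⟩ := Nat.exists_eq_pow_mul_and_not_dvd (orderOf_pos g).ne' p (Fact.out : p.Prime).ne_one
  have hMN : M ^ (p ^ a * m) = 1 := by
    rw [← hN]
    exact congrArg Subtype.val (pow_orderOf_eq_one g)
  set P := p ^ Nat.clog p n with hP
  set s := M ^ P with hs
  have hu : (M ^ m) ^ P = 1 := pow_char_pow_clog hn _ a (by rw [← pow_mul, mul_comm, hMN])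
  have hsm : s ^ m = 1 := by rw [hs, ← pow_mul, mul_comm, pow_mul, hu]
  have hm0 : (m : F) ≠ 0 := fun h0 => hm ((CharP.cast_eq_zero_iff F p m).1 h0)
  rcases irreducible_minpoly_or_idempotent hn s hm0 hsm with hirr | ⟨Q, he, he0, he1⟩
  · right
    have hsdet : s.det = 1 := by rw [hs, det_pow, show M.det = 1 from g.2, one_pow]
    obtain ⟨d, k, hdk, hd1, hs1, hs2, hs3⟩ := field_of_irreducible_minpoly s hirr hsdet
    set q := Fintype.card F with hq
    have hq2 : 2 ≤ q := Fintype.one_lt_card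
    set A := ∑ i ∈ Finset.range d, q ^ i with hA
    have hAq : A * (q - 1) = q ^ d - 1 := geom_sum_mul_of_one_le (by omega : 1 ≤ q) d
    have hA' : (q ^ d - 1) / (q - 1) = A := by rw [← hAq, Nat.mul_div_cancel _ (by omega)]
    set B := ∑ i ∈ Finset.range k, (q ^ d) ^ i with hB
    have hAB : A * B = ∑ i ∈ Finset.range n, q ^ i := by
      apply Nat.eq_of_mul_eq_mul_right (show 0 < q - 1 by omega)
      rw [geom_sum_mul_of_one_le (by omega : 1 ≤ q) n, mul_right_comm, hAq, mul_comm,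
        geom_sum_mul_of_one_le (Nat.one_le_pow _ _ (by omega)) k, ← pow_mul, ← hdk]
    have hBk : B ≡ k [MOD q - 1] := by
      have h : q ^ d ≡ 1 [MOD q - 1] := by
        simpa using (((Nat.modEq_iff_dvd' (by omega : 1 ≤ q)).2 dvd_rfl).symm : q ≡ 1 [MOD q - 1]).pow d
      have h2 := Nat.ModEq.sum (s := Finset.range k) (n := q - 1) (f := fun i => (q ^ d) ^ i) (g := fun _ => 1)
        (fun i _ => by simpa using h.pow i)
      simpa [hB] using h2
    have hkey : A * Nat.gcd (q - 1) k ∣ singer q n * (q - 1) := by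
      have hg : 0 < Nat.gcd n (q - 1) := Nat.gcd_pos_of_pos_left _ hn
      apply Nat.dvd_of_mul_dvd_mul_left hg
      rw [← mul_assoc (Nat.gcd n (q - 1)) (singer q n), gcd_mul_singer q n (by omega), ← hAB]
      have h1 : Nat.gcd (q - 1) k ∣ B := (hBk.dvd_iff (Nat.gcd_dvd_left _ _)).2 (Nat.gcd_dvd_right _ _)
      calc Nat.gcd n (q - 1) * (A * Nat.gcd (q - 1) k) ∣ (q - 1) * (A * B) :=
            mul_dvd_mul (Nat.gcd_dvd_right _ _) (mul_dvd_mul_left A h1)
        _ = A * B * (q - 1) := mul_comm _ _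
    have hord : orderOf s ∣ A * Nat.gcd (q - 1) k := by
      rw [← Nat.gcd_mul_left]
      exact Nat.dvd_gcd (orderOf_dvd_of_pow_eq_one (by rw [hAq]; exact hs1))
        (orderOf_dvd_of_pow_eq_one (by rw [← hA']; exact hs2))
    obtain ⟨c, hc⟩ := hs3 (singer q n) (orderOf_dvd_iff_pow_eq_one.1 (hord.trans hkey))
    apply orderOf_dvd_of_pow_eq_one
    refine (QuotientGroup.mk_pow _ g _).symm.trans ((QuotientGroup.eq_one_iff _).2 (mem_center_of_scalar _ c ?_))
    rw [mul_comm]
    show M ^ (P * singer q n) = c • 1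
    rw [pow_mul]
    exact hc
  · left
    obtain ⟨u, hu'⟩ := exists_prime_orderOf_dvd_card' (G := Fˣ) r (hp := ⟨hr⟩)
      (by rwa [Nat.card_units, Nat.card_eq_fintype_card])
    have hζ : IsPrimitiveRoot (u : F) r := by
      rw [IsPrimitiveRoot.iff_orderOf, orderOf_units, hu']
    obtain ⟨α, β, -, hdet, hzr, hzc⟩ := exists_idempotent_torus_element _ he he0 he1 hr hrn hζ
    let z : SL' := ⟨α • aeval s Q + β • (1 - aeval s Q), hdet⟩
    have hcomm : Commute M (aeval s Q) := by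
      rw [hs, ← Polynomial.aeval_X_pow (R := F) M, ← Polynomial.aeval_comp]
      simpa using (Commute.all (X : F[X]) (Q.comp (X ^ P))).map (aeval M)
    have hzg : Commute g z := by
      apply Subtype.ext
      exact ((hcomm.smul_right α).add_right (((Commute.one_right M).sub_right hcomm).smul_right β)).eq
    have hzord : orderOf (QuotientGroup.mk z : L') = r := orderOf_mk_eq z hr (Subtype.ext hzr) hzc
    refine ⟨QuotientGroup.mk g * QuotientGroup.mk z, ?_⟩
    have hzg' : Commute (QuotientGroup.mk g : L') (QuotientGroup.mk z) :=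
      hzg.map (QuotientGroup.mk' (Subgroup.center SL'))
    rw [hzg'.orderOf_mul_eq_mul_orderOf_of_coprime (by rw [hzord]; exact Nat.Coprime.symm (hr.coprime_iff_not_dvd.2 hrx)), hzord]
    exact ⟨dvd_mul_right _ _, dvd_mul_left _ _⟩

/-- `PSL_n(q)` has an element of the Singer order. -/
theorem exists_singer {p : ℕ} [Fact p.Prime] [CharP F p] (hn : 0 < n) :
    ∃ x : L', singer (Fintype.card F) n ∣ orderOf x := by
  classical
  haveI : NeZero n := ⟨hn.ne'⟩
  let K := FiniteField.Extension F p n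
  let b : Module.Basis (Fin n) F K := Module.finBasisOfFinrankEq F K (FiniteField.finrank_extension F p n)
  let φ : K →ₐ[F] Matrix (Fin n) (Fin n) F := Algebra.leftMulMatrix b
  have hφ : Function.Injective φ := Algebra.leftMulMatrix_injective b
  obtain ⟨w, hw⟩ := isCyclic_iff_exists_orderOf_eq_natCard.1 (inferInstance : IsCyclic Kˣ)
  set q := Fintype.card F with hq
  have hq2 : 2 ≤ q := Fintype.one_lt_card
  rw [Nat.card_units, FiniteField.natCard_extension, Nat.card_eq_fintype_card, ← hq] at hw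
  have hdet : (φ (((w ^ (q - 1) : Kˣ)) : K)).det = 1 := by
    have hu : IsUnit (φ (w : K)).det := ((Units.map φ.toMonoidHom w).isUnit.map Matrix.detMonoidHom)
    rw [Units.val_pow_eq_pow_val, map_pow, det_pow]
    exact FiniteField.pow_card_sub_one_eq_one _ hu.ne_zero
  refine ⟨QuotientGroup.mk (⟨φ (((w ^ (q - 1) : Kˣ)) : K), hdet⟩ : SL'), ?_⟩
  set g : SL' := ⟨φ (((w ^ (q - 1) : Kˣ)) : K), hdet⟩ with hg
  set e := orderOf (QuotientGroup.mk g : L') with he
  have h1 : g ^ e ∈ Subgroup.center SL' :=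
    (QuotientGroup.eq_one_iff _).1 ((QuotientGroup.mk_pow _ g e).trans (pow_orderOf_eq_one _))
  obtain ⟨c, hc⟩ := exists_scalar_of_mem_center _ h1
  replace hc : φ ((((w ^ (q - 1)) ^ e : Kˣ)) : K) = φ (algebraMap F K c) := by
    rw [AlgHom.commutes, Algebra.algebraMap_eq_smul_one, Units.val_pow_eq_pow_val, map_pow]
    exact hc
  have hc2 := hφ hc
  have hc0 : c ≠ 0 := by
    intro h0
    rw [h0, map_zero] at hc2
    exact Units.ne_zero _ hc2
  have hpow : w ^ ((q - 1) * e * (q - 1)) = 1 := by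
    apply Units.ext
    rw [pow_mul, pow_mul, Units.val_pow_eq_pow_val, hc2, ← map_pow, FiniteField.pow_card_sub_one_eq_one c hc0,
      map_one, Units.val_one]
  have hd := orderOf_dvd_of_pow_eq_one hpow
  rw [hw, ← geom_sum_mul_of_one_le (by omega : 1 ≤ q) n] at hd
  have hd2 : ∑ i ∈ Finset.range n, q ^ i ∣ (q - 1) * e := Nat.dvd_of_mul_dvd_mul_right (by omega) hd
  have hd3 : ∑ i ∈ Finset.range n, q ^ i ∣ Nat.gcd n (q - 1) * e := by
    have h3 := Nat.dvd_gcd hd2 (dvd_mul_right (∑ i ∈ Finset.range n, q ^ i) e)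
    rwa [Nat.gcd_mul_right, ((geomSum_modEq q n (by omega)).gcd_eq ▸ Nat.gcd_comm (q - 1) _ :
      Nat.gcd (q - 1) (∑ i ∈ Finset.range n, q ^ i) = Nat.gcd n (q - 1))] at h3
  rw [← gcd_mul_singer q n (by omega)] at hd3
  exact Nat.dvd_of_mul_dvd_mul_left (Nat.gcd_pos_of_pos_left _ hn) hd3

/-- A nilpotent Jordan block of size `t` in the top left corner. -/
def nilBlock (t : ℕ) : Matrix (Fin n) (Fin n) F :=
  fun i j => if j.val = i.val + 1 ∧ j.val < t then 1 else 0

theorem nilBlock_pow_apply (t k : ℕ) (i j : Fin n) :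
    ((nilBlock t : Matrix (Fin n) (Fin n) F) ^ (k + 1)) i j = if j.val = i.val + (k + 1) ∧ j.val < t then 1 else 0 := by
  induction k generalizing j with
  | zero => simp [nilBlock]
  | succ k ih =>
    rw [pow_succ, Matrix.mul_apply]
    simp only [ih, nilBlock, mul_ite, mul_one, mul_zero]
    by_cases hj : j.val = i.val + (k + 1 + 1) ∧ j.val < t
    · rw [if_pos hj, Finset.sum_eq_single (⟨j.val - 1, by omega⟩ : Fin n)]
      · dsimp only at *
        split_ifs <;> first | rfl | omega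
      · intro b _ hb
        have : b.val ≠ j.val - 1 := fun h => hb (Fin.ext h)
        split_ifs <;> first | rfl | omega
      · simp
    · rw [if_neg hj]
      exact Finset.sum_eq_zero fun b _ => by split_ifs <;> first | rfl | omega

theorem nilBlock_det (t : ℕ) : (1 + nilBlock t : Matrix (Fin n) (Fin n) F).det = 1 := by
  rw [det_of_upperTriangular]
  · exact Finset.prod_eq_one fun i _ => by simp [nilBlock]
  · intro i j hij
    simp only [id_eq] at hij
    have h1 : i ≠ j := ne_of_gt hij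
    have h2 : j.val < i.val := hij
    simp only [Matrix.add_apply, Matrix.one_apply_ne h1, zero_add, nilBlock]
    exact if_neg (by omega)

/-- The element of `PSL_n(q)` given by a unipotent Jordan block of size `t > p ^ b` has order
divisible by `p ^ (b + 1)`. -/
theorem dvd_orderOf_block {p : ℕ} [Fact p.Prime] [CharP F p] {t b : ℕ} (ht : t ≤ n) (hb : p ^ b < t) :
    p ^ (b + 1) ∣ orderOf (QuotientGroup.mk (⟨1 + nilBlock t, nilBlock_det t⟩ : SL') : L') := by
  have hp : p.Prime := Fact.out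
  haveI : NeZero n := ⟨by omega⟩
  set u : SL' := ⟨1 + nilBlock t, nilBlock_det t⟩ with hu
  have hnil : ∀ k, t ≤ k + 1 → (nilBlock t : Matrix (Fin n) (Fin n) F) ^ (k + 1) = 0 := by
    intro k hk
    ext i j
    rw [nilBlock_pow_apply, if_neg (by omega)]
    rfl
  have hupow : ∀ k, (u : Matrix (Fin n) (Fin n) F) ^ (p ^ k) = 1 + nilBlock t ^ (p ^ k) := fun k => by
    rw [show (u : Matrix (Fin n) (Fin n) F) = 1 + nilBlock t from rfl,
      add_pow_char_pow_of_commute (p := p) (n := k) (Commute.one_left _), one_pow]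
  have htp : t ≤ p ^ t := (Nat.lt_pow_self hp.one_lt).le
  have h1 : (QuotientGroup.mk u : L') ^ (p ^ t) = 1 := by
    rw [← QuotientGroup.mk_pow, QuotientGroup.eq_one_iff]
    apply mem_center_of_scalar _ 1
    show (u : Matrix (Fin n) (Fin n) F) ^ (p ^ t) = _
    obtain ⟨k, hk⟩ := Nat.exists_eq_add_of_le' (show 1 ≤ p ^ t from Nat.one_le_pow _ _ hp.pos)
    rw [hupow, hk, hnil k (by omega), add_zero, one_smul]
  obtain ⟨e, -, he⟩ := (Nat.dvd_prime_pow hp).1 (orderOf_dvd_of_pow_eq_one h1)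
  rw [he]
  refine pow_dvd_pow p ?_
  by_contra hlt
  have h2 : (QuotientGroup.mk u : L') ^ (p ^ b) = 1 :=
    orderOf_dvd_iff_pow_eq_one.1 (he ▸ pow_dvd_pow p (by omega))
  rw [← QuotientGroup.mk_pow, QuotientGroup.eq_one_iff] at h2
  obtain ⟨c, hc⟩ := exists_scalar_of_mem_center _ h2
  replace hc : (u : Matrix (Fin n) (Fin n) F) ^ (p ^ b) = c • 1 := hc
  obtain ⟨k, hk⟩ := Nat.exists_eq_add_of_le' (show 1 ≤ p ^ b from Nat.one_le_pow _ _ hp.pos)
  rw [hupow, hk] at hc
  have h3 := congrFun (congrFun hc ⟨0, by omega⟩) ⟨k + 1, by omega⟩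
  rw [Matrix.add_apply, nilBlock_pow_apply, if_pos ⟨by simp, by simp; omega⟩] at h3
  simp [Matrix.one_apply, Fin.ext_iff] at h3

/-- The idempotent onto the first coordinates. -/
def headIdem (t : ℕ) : Matrix (Fin n) (Fin n) F := diagonal fun i => if i.val < t then 1 else 0

/-- Elements of order divisible by the unipotent exponent and by `r`. -/
theorem exists_r_element {p : ℕ} [Fact p.Prime] [CharP F p] (hn : 2 ≤ n) {r : ℕ} (hr : r.Prime)
    (hrq : r ∣ Fintype.card F - 1) (hrn : ¬ r ∣ n) :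
    (∃ z : L', r ∣ orderOf z) ∧ (∃ u : L', p ^ Nat.clog p n ∣ orderOf u) ∧
      ((¬ ∃ j, n - 1 = p ^ j) → ∃ y : L', r ∣ orderOf y ∧ p ^ Nat.clog p n ∣ orderOf y) := by
  classical
  have hp : p.Prime := Fact.out
  obtain ⟨b, hb⟩ : ∃ b, Nat.clog p n = b + 1 :=
    ⟨Nat.clog p n - 1, by have := Nat.clog_pos hp.one_lt hn; omega⟩
  have hbn : p ^ b < n := by
    have := Nat.pow_pred_clog_lt_self hp.one_lt (x := n) hn
    rwa [show (Nat.clog p n).pred = b by rw [hb]; rfl] at this
  obtain ⟨v, hv⟩ := exists_prime_orderOf_dvd_card' (G := Fˣ) r (hp := ⟨hr⟩)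
    (by rwa [Nat.card_units, Nat.card_eq_fintype_card])
  have hζ : IsPrimitiveRoot (v : F) r := by rw [IsPrimitiveRoot.iff_orderOf, orderOf_units, hv]
  have he : headIdem (n - 1) * headIdem (n - 1) = (headIdem (n - 1) : Matrix (Fin n) (Fin n) F) := by
    rw [headIdem, diagonal_mul_diagonal]
    congr 1
    funext i
    split <;> simp
  have he0 : (headIdem (n - 1) : Matrix (Fin n) (Fin n) F) ≠ 0 := fun h => by
    have := congrFun (congrFun h ⟨0, by omega⟩) ⟨0, by omega⟩
    simp [headIdem, show 0 < n - 1 by omega] at this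
  have he1 : (headIdem (n - 1) : Matrix (Fin n) (Fin n) F) ≠ 1 := fun h => by
    have := congrFun (congrFun h ⟨n - 1, by omega⟩) ⟨n - 1, by omega⟩
    simp [headIdem] at this
  obtain ⟨α, β, -, hdet, hzr, hzc⟩ := exists_idempotent_torus_element _ he he0 he1 hr hrn hζ
  let z : SL' := ⟨_, hdet⟩
  have hz : orderOf (QuotientGroup.mk z : L') = r := orderOf_mk_eq z hr (Subtype.ext hzr) hzc
  refine ⟨⟨_, dvd_of_eq hz.symm⟩, ⟨_, hb ▸ dvd_orderOf_block le_rfl hbn⟩, fun hnp => ?_⟩
  have hbn' : p ^ b < n - 1 := lt_of_le_of_ne (by omega) fun h => hnp ⟨b, h.symm⟩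
  set u : SL' := ⟨1 + nilBlock (n - 1), nilBlock_det (n - 1)⟩ with hu
  have hcomm0 : Commute (nilBlock (n - 1) : Matrix (Fin n) (Fin n) F) (headIdem (n - 1)) := by
    ext i j
    simp only [headIdem, mul_diagonal, diagonal_mul, nilBlock]
    split_ifs <;> simp_all <;> omega
  have hcomm : Commute u z := by
    apply Subtype.ext
    have h1 : Commute (1 + nilBlock (n - 1) : Matrix (Fin n) (Fin n) F) (headIdem (n - 1)) :=
      (Commute.one_left _).add_left hcomm0
    exact ((h1.smul_right α).add_right (((Commute.one_right _).sub_right h1).smul_right β)).eq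
  have hrp : r ≠ p := by
    rintro rfl
    have h0 : ((Fintype.card F - 1 : ℕ) : F) = 0 := (CharP.cast_eq_zero_iff F r _).2 hrq
    rw [Nat.cast_sub Fintype.one_lt_card.le] at h0
    simp at h0
  have hup := dvd_orderOf_block (F := F) (n := n) (t := n - 1) (by omega) hbn'
  obtain ⟨w, hw⟩ := hup
  set U : L' := (QuotientGroup.mk u : L') ^ w with hU
  have hUo : orderOf U = p ^ (b + 1) := by
    rw [hU, orderOf_pow, hw, Nat.gcd_mul_left_left, Nat.mul_div_cancel _ (Nat.pos_of_ne_zero ?_)]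
    rintro rfl
    exact (orderOf_pos _).ne' (hw.trans (mul_zero _))
  have hc' : Commute U (QuotientGroup.mk z : L') := (hcomm.map (QuotientGroup.mk' (Subgroup.center SL'))).pow_left w
  refine ⟨U * QuotientGroup.mk z, ?_⟩
  rw [hc'.orderOf_mul_eq_mul_orderOf_of_coprime
    (by rw [hUo, hz]; exact Nat.Coprime.pow_left _ ((Nat.coprime_primes hp hr).2 hrp.symm)), hUo, hz, hb]
  exact ⟨dvd_mul_left _ _, dvd_mul_right _ _⟩

theorem orderOf_pair_dvd {A B : Type*} [Monoid A] [Monoid B] (x : A × B) (m : ℕ) :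
    orderOf x ∣ m ↔ orderOf x.1 ∣ m ∧ orderOf x.2 ∣ m := by
  simp only [orderOf_dvd_iff_pow_eq_one, Prod.ext_iff]
  rfl

theorem orderOf_vec_dvd (m r : ℕ) (v : Multiplicative (Fin m → ZMod r)) : orderOf v ∣ r := by
  apply orderOf_dvd_of_pow_eq_one
  apply Multiplicative.toAdd.injective
  funext i
  simp [toAdd_pow]

theorem main {p : ℕ} [Fact p.Prime] [CharP F p] (hn : 2 ≤ n) {r : ℕ} (hr : r.Prime) (m : ℕ)
    (hrq : r ∣ Fintype.card F - 1) (hrn : ¬ r ∣ n) :
    Set.range (orderOf : L' × L' × L' × Multiplicative (Fin m → ZMod r) → ℕ) =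
      Set.range (orderOf : L' × L' × L' → ℕ) ∧
    ((¬ ∃ j : ℕ, n - 1 = p ^ j) →
      Set.range (orderOf : L' × L' × Multiplicative (Fin m → ZMod r) → ℕ) =
        Set.range (orderOf : L' × L' → ℕ)) := by
  obtain ⟨⟨z, hz⟩, ⟨u, hu⟩, hy⟩ := exists_r_element (F := F) (p := p) hn hr hrq hrn
  obtain ⟨s, hs⟩ := exists_singer (F := F) (p := p) (n := n) (by omega)
  have dich := dichotomy (F := F) (p := p) (n := n) (by omega) hr hrq hrn
  set S := singer (Fintype.card F) n with hS
  have hSP : ∀ k o : ℕ, o ∣ S * p ^ Nat.clog p n → S ∣ k → p ^ Nat.clog p n ∣ k → o ∣ k := by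
    intro k o ho h1 h2
    refine ho.trans (Nat.Coprime.mul_dvd_of_dvd_of_dvd (Nat.Coprime.pow_right _ ?_) h1 h2)
    refine (((Fact.out : p.Prime).coprime_iff_not_dvd).2 fun hd => ?_).symm
    have h3 : p ∣ ∑ i ∈ Finset.range n, Fintype.card F ^ i :=
      hd.trans ⟨Nat.gcd n (Fintype.card F - 1), by rw [mul_comm, hS, gcd_mul_singer _ _ Fintype.card_pos]⟩
    have h4 : ((∑ i ∈ Finset.range n, Fintype.card F ^ i : ℕ) : F) = 0 := (CharP.cast_eq_zero_iff F p _).2 h3
    rw [Nat.cast_sum, Finset.sum_eq_single 0] at h4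
    · simp at h4
    · intro i _ hi
      simp [zero_pow hi]
    · simp; omega
  constructor
  · apply Set.Subset.antisymm
    · rintro _ ⟨⟨x1, x2, x3, v⟩, rfl⟩
      suffices h : ∃ w : L' × L' × L', orderOf (x1, x2, x3, v) ∣ orderOf w by
        obtain ⟨w, hw⟩ := h
        exact exists_orderOf_eq_of_dvd hw
      have hd : ∀ w : L' × L' × L', orderOf w.1 ∣ orderOf w ∧ orderOf w.2.1 ∣ orderOf w ∧ orderOf w.2.2 ∣ orderOf w :=
        fun w => ⟨((orderOf_pair_dvd w _).1 dvd_rfl).1,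
          ((orderOf_pair_dvd w.2 _).1 ((orderOf_pair_dvd w _).1 dvd_rfl).2).1,
          ((orderOf_pair_dvd w.2 _).1 ((orderOf_pair_dvd w _).1 dvd_rfl).2).2⟩
      have comb : ∀ w : L' × L' × L', orderOf x1 ∣ orderOf w → orderOf x2 ∣ orderOf w → orderOf x3 ∣ orderOf w →
          r ∣ orderOf w → ∃ w' : L' × L' × L', orderOf (x1, x2, x3, v) ∣ orderOf w' :=
        fun w h1 h2 h3 h4 => ⟨w, (orderOf_pair_dvd _ _).2 ⟨h1, (orderOf_pair_dvd _ _).2 ⟨h2,
          (orderOf_pair_dvd _ _).2 ⟨h3, (orderOf_vec_dvd m r v).trans h4⟩⟩⟩⟩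
      rcases dich x1 with ⟨y, hy1, hy2⟩ | h1
      · obtain ⟨a, b, c⟩ := hd (y, x2, x3)
        exact comb (y, x2, x3) (hy1.trans a) b c (hy2.trans a)
      rcases dich x2 with ⟨y, hy1, hy2⟩ | h2
      · obtain ⟨a, b, c⟩ := hd (x1, y, x3)
        exact comb (x1, y, x3) a (hy1.trans b) c (hy2.trans b)
      rcases dich x3 with ⟨y, hy1, hy2⟩ | h3
      · obtain ⟨a, b, c⟩ := hd (x1, x2, y)
        exact comb (x1, x2, y) a b (hy1.trans c) (hy2.trans c)
      obtain ⟨a, b, c⟩ := hd (s, u, z)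
      exact comb (s, u, z) (hSP _ _ h1 (hs.trans a) (hu.trans b)) (hSP _ _ h2 (hs.trans a) (hu.trans b))
        (hSP _ _ h3 (hs.trans a) (hu.trans b)) (hz.trans c)
    · rintro _ ⟨⟨x1, x2, x3⟩, rfl⟩
      exact ⟨(x1, x2, x3, 1), by simp [Prod.orderOf]⟩
  · intro hnp
    obtain ⟨y0, hy01, hy02⟩ := hy hnp
    apply Set.Subset.antisymm
    · rintro _ ⟨⟨x1, x2, v⟩, rfl⟩
      suffices h : ∃ w : L' × L', orderOf (x1, x2, v) ∣ orderOf w by
        obtain ⟨w, hw⟩ := h
        exact exists_orderOf_eq_of_dvd hw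
      have comb : ∀ w : L' × L', orderOf x1 ∣ orderOf w → orderOf x2 ∣ orderOf w →
          r ∣ orderOf w → ∃ w' : L' × L', orderOf (x1, x2, v) ∣ orderOf w' :=
        fun w h1 h2 h4 => ⟨w, (orderOf_pair_dvd _ _).2 ⟨h1, (orderOf_pair_dvd _ _).2 ⟨h2,
          (orderOf_vec_dvd m r v).trans h4⟩⟩⟩
      have hd : ∀ w : L' × L', orderOf w.1 ∣ orderOf w ∧ orderOf w.2 ∣ orderOf w :=
        fun w => (orderOf_pair_dvd w _).1 dvd_rfl
      rcases dich x1 with ⟨y, hy1, hy2⟩ | h1
      · obtain ⟨a, b⟩ := hd (y, x2)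
        exact comb (y, x2) (hy1.trans a) b (hy2.trans a)
      rcases dich x2 with ⟨y, hy1, hy2⟩ | h2
      · obtain ⟨a, b⟩ := hd (x1, y)
        exact comb (x1, y) a (hy1.trans b) (hy2.trans b)
      obtain ⟨a, b⟩ := hd (s, y0)
      exact comb (s, y0) (hSP _ _ h1 (hs.trans a) (hy02.trans b)) (hSP _ _ h2 (hs.trans a) (hy02.trans b))
        (hy01.trans b)
    · rintro _ ⟨⟨x1, x2⟩, rfl⟩
      exact ⟨(x1, x2, 1), by simp [Prod.orderOf]⟩


/-- Let F be a finite field with q = p^a elements, n ≥ 2 (with q ≥ 4 when n = 2), L = PSL(n, F), and let r be a prime dividing q − 1 and not dividing n. Then for every m the direct product L × L × L × (ℤ/r)^m has the same set of element orders as L × L × L; and if n − 1 ≠ p^j for every j ≥ 0 (so never when n = 2, since 1 = p^0), then already L × L × (ℤ/r)^m has the same set of element orders as L × L. -/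
theorem result {F : Type*} [Field F] [Fintype F] (p a n r m : ℕ) (hp : p.Prime) (ha : 1 ≤ a) (hF : Fintype.card F = p ^ a)
    (hn : 2 ≤ n) (hn2 : n = 2 → 4 ≤ Fintype.card F) (hr : r.Prime) (hrq : r ∣ Fintype.card F - 1) (hrn : ¬ r ∣ n) :
    Set.range (orderOf : Matrix.ProjectiveSpecialLinearGroup (Fin n) F × Matrix.ProjectiveSpecialLinearGroup (Fin n) F × Matrix.ProjectiveSpecialLinearGroup (Fin n) F × Multiplicative (Fin m → ZMod r) → ℕ) =
      Set.range (orderOf : Matrix.ProjectiveSpecialLinearGroup (Fin n) F × Matrix.ProjectiveSpecialLinearGroup (Fin n) F × Matrix.ProjectiveSpecialLinearGroup (Fin n) F → ℕ) ∧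
    ((¬ ∃ j : ℕ, n - 1 = p ^ j) →
      Set.range (orderOf : Matrix.ProjectiveSpecialLinearGroup (Fin n) F × Matrix.ProjectiveSpecialLinearGroup (Fin n) F × Multiplicative (Fin m → ZMod r) → ℕ) =
        Set.range (orderOf : Matrix.ProjectiveSpecialLinearGroup (Fin n) F × Matrix.ProjectiveSpecialLinearGroup (Fin n) F → ℕ)) := by
  haveI : Fact p.Prime := ⟨hp⟩
  haveI : CharP F p := by
    haveI : Fact p.Prime := ⟨hp⟩
    obtain ⟨p', hp'⟩ := CharP.exists F
    haveI : Fact p'.Prime := ⟨CharP.char_is_prime F p'⟩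
    obtain ⟨b, -, hb⟩ := FiniteField.card F p'
    have h : p' ∣ p ^ a := by rw [← hF, hb]; exact dvd_pow_self p' b.ne_zero
    obtain rfl := (Nat.prime_dvd_prime_iff_eq (CharP.char_is_prime F p') hp).1 ((CharP.char_is_prime F p').dvd_of_dvd_pow h)
    exact hp'
  exact main hn hr m hrq hrn

end Cfsg.Agent.S2510
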