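import Cfsg.Statements.S2476
import Cfsg.Agent.S2470
import Cfsg.Agent.S2510
import Cfsg.Agent.Lib.ElementOrders.UnitaryDichotomy

set_option autoImplicit false
open Cfsg

namespace Cfsg.Agent.S2476


open Polynomial

variable {F : Type*} [Field F] [Fintype F]

local notation "q'" => Fintype.card F
local notation "SL3" => Matrix.SpecialLinearGroup (Fin 3) F
local notation "L3" => Matrix.ProjectiveSpecialLinearGroup (Fin 3) F

omit [Field F] in
theorem gcd_dvd_sub_one : Nat.gcd 3 (q' - 1) ∣ q' - 1 := Nat.gcd_dvd_right _ _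

omit [Field F] in
theorem gcd_pos3 : 0 < Nat.gcd 3 (q' - 1) := Nat.gcd_pos_of_pos_left _ (by norm_num)

omit [Fintype F] in
theorem pow_eq_of_pow_three {β : F} {d : ℕ} (hd : d ∣ 3) (h : β ^ d = 1) : β ^ 3 = 1 := by
  obtain ⟨e, he⟩ := hd
  rw [he, pow_mul, h, one_pow]

omit [Fintype F] in
/-- A polynomial identity kills a power in `PSL₃`. -/
theorem pow_eq_one_of_dvd (g : SL3) {m : ℕ} {c : F}
    (h : minpoly F (g : Matrix (Fin 3) (Fin 3) F) ∣ X ^ m - C c) : (QuotientGroup.mk g : L3) ^ m = 1 := by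
  rw [Cfsg.Agent.S2470.mk_pow_eq_one_iff]
  refine ⟨c, ?_⟩
  obtain ⟨e, he⟩ := h
  have h1 := congrArg (aeval (g : Matrix (Fin 3) (Fin 3) F)) he
  rw [map_mul, minpoly.aeval, zero_mul, map_sub, map_pow, aeval_X, aeval_C, sub_eq_zero] at h1
  rw [h1, Algebra.algebraMap_eq_smul_one]

/-- Fixed points of the Frobenius map come from `F`. -/
theorem mem_range_of_pow_card {K : Type*} [Field K] [Algebra F K] {x : K} (h : x ^ q' = x) :
    ∃ c : F, algebraMap F K c = x := by
  classical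
  let T : Finset K := Finset.univ.image (algebraMap F K)
  have hT : T.card = q' := by
    rw [Finset.card_image_of_injective _ (algebraMap F K).injective, Finset.card_univ]
  have hne : (X ^ q' - X : K[X]) ≠ 0 := FiniteField.X_pow_card_sub_X_ne_zero K Fintype.one_lt_card
  have hsub : T.val ≤ (X ^ q' - X : K[X]).roots := by
    rw [Multiset.le_iff_subset T.nodup]
    intro y hy
    obtain ⟨c, -, rfl⟩ := Finset.mem_image.1 hy
    rw [mem_roots hne, IsRoot, eval_sub, eval_pow, eval_X, ← map_pow, FiniteField.pow_card, sub_self]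
  have heq : T.val = (X ^ q' - X : K[X]).roots := by
    refine Multiset.eq_of_le_of_card_le hsub ?_
    rw [Finset.card_val, hT]
    exact (card_roots' _).trans_eq (FiniteField.X_pow_card_sub_X_natDegree_eq K Fintype.one_lt_card)
  have hx : x ∈ T.val := by
    rw [heq, mem_roots hne, IsRoot, eval_sub, eval_pow, eval_X, h, sub_self]
  obtain ⟨c, -, hc⟩ := Finset.mem_image.1 hx
  exact ⟨c, hc⟩

/-- The root of a monic irreducible polynomial has norm `(-1)^d f(0)`. -/
theorem root_pow_eq {f : F[X]} (hf : Irreducible f) (hm : f.Monic) :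
    AdjoinRoot.root f ^ ((q' ^ f.natDegree - 1) / (q' - 1)) =
      algebraMap F (AdjoinRoot f) ((-1) ^ f.natDegree * f.coeff 0) := by
  classical
  have : Fact (Irreducible f) := ⟨hf⟩
  let pb := AdjoinRoot.powerBasis hf.ne_zero
  have : Module.Finite F (AdjoinRoot f) := pb.finite
  have : Finite (AdjoinRoot f) := Module.finite_of_finite F
  let _ : Fintype (AdjoinRoot f) := Fintype.ofFinite _
  have hfin : Module.finrank F (AdjoinRoot f) = f.natDegree := by rw [pb.finrank]; exact AdjoinRoot.powerBasis_dim _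
  have hmin : minpoly F (AdjoinRoot.root f) = f := by
    rw [AdjoinRoot.minpoly_root hf.ne_zero, hm.leadingCoeff, inv_one, map_one, mul_one]
  have h := Cfsg.Agent.Lib.ElementOrders.coeff_zero_eq_pow hfin (AdjoinRoot.root f) (by rw [hmin])
  rw [hmin] at h
  exact h.symm

/-- Case of an irreducible characteristic polynomial. -/
theorem case_cubic (g : SL3) (hirr : Irreducible (g : Matrix (Fin 3) (Fin 3) F).charpoly) :
    orderOf (QuotientGroup.mk g : L3) ∣ (q' ^ 2 + q' + 1) / Nat.gcd 3 (q' - 1) := by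
  classical
  set M : Matrix (Fin 3) (Fin 3) F := g.1 with hM
  set f := M.charpoly with hf
  have hm : f.Monic := M.charpoly_monic
  have hd : f.natDegree = 3 := by rw [hf, M.charpoly_natDegree_eq_dim, Fintype.card_fin]
  have : Fact (Irreducible f) := ⟨hirr⟩
  have h0 : f.coeff 0 = -1 := by
    have h := Matrix.det_eq_sign_charpoly_coeff M
    rw [show M.det = 1 from g.2, Fintype.card_fin, ← hf] at h
    linear_combination h
  have hq : 2 ≤ q' := Fintype.one_lt_card
  have hN : (q' ^ 3 - 1) / (q' - 1) = q' ^ 2 + q' + 1 := by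
    apply Nat.div_eq_of_eq_mul_left (by omega)
    obtain ⟨u, hu⟩ := Nat.exists_eq_add_of_le' (show 1 ≤ q' by omega)
    rw [hu, Nat.add_sub_cancel]
    have : (u + 1) ^ 3 = ((u + 1) ^ 2 + (u + 1) + 1) * u + 1 := by ring
    omega
  have hnorm := root_pow_eq hirr hm
  rw [hd, h0, hN, show ((-1 : F) ^ 3 * -1) = 1 by ring, map_one] at hnorm
  set d := Nat.gcd 3 (q' - 1) with hdd
  have hdN : d ∣ q' ^ 2 + q' + 1 := by
    have h := Cfsg.Agent.S2510.gcd_dvd_geomSum q' 3 (by omega)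
    simp only [Finset.sum_range_succ, Finset.sum_range_zero] at h
    rw [hdd]
    convert h using 1
    ring
  set m := (q' ^ 2 + q' + 1) / d with hm'
  have hmd : d * m = q' ^ 2 + q' + 1 := Nat.mul_div_cancel' hdN
  set α := AdjoinRoot.root f with hα
  have hβd : (α ^ m) ^ d = 1 := by rw [← pow_mul, mul_comm, hmd, hnorm]
  obtain ⟨c, hc⟩ : ∃ c : F, algebraMap F (AdjoinRoot f) c = α ^ m := by
    let pb := AdjoinRoot.powerBasis hirr.ne_zero
    have : Module.Finite F (AdjoinRoot f) := pb.finite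
    have : Finite (AdjoinRoot f) := Module.finite_of_finite F
    have hb : (α ^ m) ^ q' = α ^ m := by
      obtain ⟨e, he⟩ : d ∣ q' - 1 := gcd_dvd_sub_one
      calc (α ^ m) ^ q' = (α ^ m) ^ (d * e + 1) := by rw [← he, Nat.sub_add_cancel (by omega)]
        _ = α ^ m := by rw [pow_succ, pow_mul, hβd, one_pow, one_mul]
    exact mem_range_of_pow_card hb
  refine orderOf_dvd_of_pow_eq_one (pow_eq_one_of_dvd g (c := c) ((Matrix.minpoly_dvd_charpoly M).trans ?_))
  rw [← AdjoinRoot.mk_eq_zero, map_sub, map_pow, AdjoinRoot.mk_X, AdjoinRoot.mk_C, sub_eq_zero, ← hα, ← hc]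
  rfl

/-- Case of a root and an irreducible quadratic factor. -/
theorem case_quadratic (g : SL3) {c : F} {h : F[X]} (hirr : Irreducible h) (hm : h.Monic) (hd2 : h.natDegree = 2)
    (hχ : (g : Matrix (Fin 3) (Fin 3) F).charpoly = (X - C c) * h) :
    orderOf (QuotientGroup.mk g : L3) ∣ (q' ^ 2 - 1) / Nat.gcd 3 (q' - 1) := by
  classical
  set M : Matrix (Fin 3) (Fin 3) F := g.1 with hM
  have : Fact (Irreducible h) := ⟨hirr⟩
  have hch : c * h.coeff 0 = 1 := by
    have h' := Matrix.det_eq_sign_charpoly_coeff M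
    rw [show M.det = 1 from g.2, Fintype.card_fin, hχ, mul_coeff_zero, coeff_sub, coeff_X_zero, coeff_C_zero] at h'
    linear_combination -h'
  have hq : 2 ≤ q' := Fintype.one_lt_card
  have hsq : q' ^ 2 - 1 = (q' + 1) * (q' - 1) := by rw [← Nat.sq_sub_sq, one_pow]
  have hN : (q' ^ 2 - 1) / (q' - 1) = q' + 1 := by rw [hsq, Nat.mul_div_cancel _ (by omega)]
  have hnorm := root_pow_eq hirr hm
  rw [hd2, hN, neg_one_sq, one_mul] at hnorm
  set d := Nat.gcd 3 (q' - 1) with hdd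
  obtain ⟨e, he⟩ : d ∣ q' - 1 := gcd_dvd_sub_one
  set m := (q' ^ 2 - 1) / d with hm'
  have hdN : d ∣ q' ^ 2 - 1 := (Dvd.intro e he.symm).trans (hsq ▸ dvd_mul_left _ _)
  have hmd : d * m = q' ^ 2 - 1 := Nat.mul_div_cancel' hdN
  have hme : m = (q' + 1) * e := by
    apply Nat.eq_of_mul_eq_mul_left (gcd_pos3 (F := F))
    rw [← hdd, hmd, hsq, he]; ring
  set α := AdjoinRoot.root h with hα
  have hαm : α ^ m = algebraMap F (AdjoinRoot h) (h.coeff 0 ^ e) := by rw [hme, pow_mul, hnorm, map_pow]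
  have hh0 : h.coeff 0 ≠ 0 := fun h0 => by rw [h0, mul_zero] at hch; exact zero_ne_one hch
  have hc0 : c ≠ 0 := fun h0 => by rw [h0, zero_mul] at hch; exact zero_ne_one hch
  have hb : (h.coeff 0 ^ e) ^ 3 = 1 := pow_eq_of_pow_three (d := d) (Nat.gcd_dvd_left _ _) (by
    rw [← pow_mul, mul_comm, ← he, FiniteField.pow_card_sub_one_eq_one _ hh0])
  have hcm : c ^ m = h.coeff 0 ^ e := by
    have h1 : c ^ q' = c := FiniteField.pow_card c
    have h2 : c ^ (q' + 1) = c * c := by rw [pow_succ, h1]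
    rw [hme, pow_mul, h2]
    have h3 : (c * c) ^ e * (h.coeff 0 ^ e) ^ 2 = 1 := by
      rw [← pow_mul (h.coeff 0) e 2, mul_comm e 2, pow_mul, ← mul_pow]
      rw [show c * c * h.coeff 0 ^ 2 = (c * h.coeff 0) ^ 2 by ring, hch, one_pow, one_pow]
    calc (c * c) ^ e = (c * c) ^ e * (h.coeff 0 ^ e) ^ 3 := by rw [hb, mul_one]
      _ = h.coeff 0 ^ e := by rw [pow_succ, ← mul_assoc, h3, one_mul]
  refine orderOf_dvd_of_pow_eq_one (pow_eq_one_of_dvd g (c := h.coeff 0 ^ e) ((Matrix.minpoly_dvd_charpoly M).trans ?_))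
  rw [hχ]
  refine IsCoprime.mul_dvd ?_ ?_ ?_
  · refine (irreducible_X_sub_C c).coprime_iff_not_dvd.2 fun hd => ?_
    have := natDegree_eq_of_degree_eq (degree_eq_degree_of_associated ((irreducible_X_sub_C c).associated_of_dvd hirr hd))
    rw [natDegree_X_sub_C, hd2] at this
    omega
  · rw [dvd_iff_isRoot, IsRoot, eval_sub, eval_pow, eval_X, eval_C, hcm, sub_self]
  · rw [← AdjoinRoot.mk_eq_zero, map_sub, map_pow, AdjoinRoot.mk_X, AdjoinRoot.mk_C, sub_eq_zero, ← hα, hαm]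
    rfl

/-- Case of a repeated root in `F`. -/
theorem case_repeated (p : ℕ) [Fact p.Prime] [CharP F p] (g : SL3) {u v : F}
    (hχ : (g : Matrix (Fin 3) (Fin 3) F).charpoly = (X - C u) * (X - C u) * (X - C v)) :
    orderOf (QuotientGroup.mk g : L3) ∣ p * (q' - 1) / Nat.gcd 3 (q' - 1) ∨
      (p = 2 ∧ orderOf (QuotientGroup.mk g : L3) ∣ 4) := by
  classical
  have hp : p.Prime := Fact.out
  set M : Matrix (Fin 3) (Fin 3) F := g.1 with hM
  have huv : u * u * v = 1 := by
    have h := Matrix.det_eq_sign_charpoly_coeff M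
    rw [show M.det = 1 from g.2, Fintype.card_fin, hχ, mul_coeff_zero, mul_coeff_zero, coeff_sub, coeff_X_zero,
      coeff_C_zero, coeff_sub, coeff_X_zero, coeff_C_zero] at h
    linear_combination -h
  set d := Nat.gcd 3 (q' - 1) with hdd
  obtain ⟨e, he⟩ : d ∣ q' - 1 := gcd_dvd_sub_one
  have hgoal : p * (q' - 1) / d = p * e := by
    rw [he, ← mul_assoc, mul_comm p d, mul_assoc, Nat.mul_div_cancel_left _ (gcd_pos3 (F := F))]
  rw [hgoal]
  by_cases huv' : v = u
  · subst huv'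
    by_cases hp2 : p = 2
    · right
      refine ⟨hp2, orderOf_dvd_of_pow_eq_one (pow_eq_one_of_dvd g (c := v ^ 4) ((Matrix.minpoly_dvd_charpoly M).trans ?_))⟩
      subst hp2
      rw [hχ, show (X : F[X]) ^ 4 - C (v ^ 4) = (X - C v) ^ (2 ^ 2) by
        rw [sub_pow_char_pow, map_pow, show (2 : ℕ) ^ 2 = 4 from rfl]]
      exact ⟨X - C v, by ring⟩
    · left
      refine (orderOf_dvd_of_pow_eq_one (pow_eq_one_of_dvd g (c := v ^ p) ((Matrix.minpoly_dvd_charpoly M).trans ?_))).trans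
        (dvd_mul_right p e)
      rw [hχ, show (X : F[X]) ^ p - C (v ^ p) = (X - C v) ^ p by rw [sub_pow_char, map_pow]]
      obtain ⟨j, hj⟩ := Nat.exists_eq_add_of_le (show 3 ≤ p by have := hp.two_le; omega)
      exact ⟨(X - C v) ^ j, by rw [hj, pow_add]; ring⟩
  · left
    have hu0 : u ≠ 0 := fun h => by rw [h, zero_mul, zero_mul] at huv; exact zero_ne_one huv
    have hb : (u ^ e) ^ 3 = 1 := pow_eq_of_pow_three (d := d) (Nat.gcd_dvd_left _ _) (by
      rw [← pow_mul, mul_comm, ← he, FiniteField.pow_card_sub_one_eq_one _ hu0])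
    have hve : v ^ e = u ^ e := by
      calc v ^ e = v ^ e * (u ^ e) ^ 3 := by rw [hb, mul_one]
        _ = (u * u * v) ^ e * u ^ e := by rw [mul_pow, mul_pow]; ring
        _ = u ^ e := by rw [huv, one_pow, one_mul]
    refine orderOf_dvd_of_pow_eq_one (pow_eq_one_of_dvd g (c := (u ^ e) ^ p) ((Matrix.minpoly_dvd_charpoly M).trans ?_))
    rw [hχ, show (X : F[X]) ^ (p * e) - C ((u ^ e) ^ p) = (X ^ e - C (u ^ e)) ^ p by
      rw [sub_pow_char, ← map_pow C, ← pow_mul (X : F[X]), mul_comm p e]]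
    refine IsCoprime.mul_dvd ?_ ?_ ?_
    · have hne : IsCoprime (X - C u) (X - C v) := isCoprime_X_sub_C_of_isUnit_sub (sub_ne_zero.2 (Ne.symm huv')).isUnit
      exact hne.mul_left hne
    · rw [← pow_two]
      refine (pow_dvd_pow_of_dvd ?_ 2).trans (pow_dvd_pow _ hp.two_le)
      rw [dvd_iff_isRoot, IsRoot, eval_sub, eval_pow, eval_X, eval_C, sub_self]
    · refine (show (X - C v) ∣ X ^ e - C (u ^ e) from ?_).trans (dvd_pow_self _ hp.ne_zero)
      rw [dvd_iff_isRoot, IsRoot, eval_sub, eval_pow, eval_X, eval_C, hve, sub_self]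

/-- The upper bound. -/
theorem order_cases (p : ℕ) [Fact p.Prime] [CharP F p] (g : SL3) :
    orderOf (QuotientGroup.mk g : L3) ∣ (q' ^ 2 + q' + 1) / Nat.gcd 3 (q' - 1) ∨
      orderOf (QuotientGroup.mk g : L3) ∣ (q' ^ 2 - 1) / Nat.gcd 3 (q' - 1) ∨
      orderOf (QuotientGroup.mk g : L3) ∣ q' - 1 ∨
      orderOf (QuotientGroup.mk g : L3) ∣ p * (q' - 1) / Nat.gcd 3 (q' - 1) ∨
      (p = 2 ∧ orderOf (QuotientGroup.mk g : L3) ∣ 4) := by
  classical
  set M : Matrix (Fin 3) (Fin 3) F := g.1 with hM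
  have hm : M.charpoly.Monic := M.charpoly_monic
  have hd : M.charpoly.natDegree = 3 := by rw [M.charpoly_natDegree_eq_dim, Fintype.card_fin]
  by_cases hroot : ∃ c, IsRoot M.charpoly c
  swap
  · push Not at hroot
    refine Or.inl (case_cubic g ((hm.irreducible_iff_roots_eq_zero_of_degree_le_three (by omega) (by omega)).2 ?_))
    rw [Multiset.eq_zero_iff_forall_notMem]
    exact fun a ha => hroot a (isRoot_of_mem_roots ha)
  obtain ⟨c, hc⟩ := hroot
  obtain ⟨h, hh⟩ := dvd_iff_isRoot.2 hc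
  have hhm : h.Monic := (monic_X_sub_C c).of_mul_monic_left (hh ▸ hm)
  have hhd : h.natDegree = 2 := by
    rw [hh, (monic_X_sub_C c).natDegree_mul hhm, natDegree_X_sub_C] at hd
    omega
  by_cases hroot2 : ∃ a, IsRoot h a
  swap
  · push Not at hroot2
    refine Or.inr (Or.inl (case_quadratic g ((hhm.irreducible_iff_roots_eq_zero_of_degree_le_three (by omega) (by omega)).2
      ?_) hhm hhd hh))
    rw [Multiset.eq_zero_iff_forall_notMem]
    exact fun a ha => hroot2 a (isRoot_of_mem_roots ha)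
  obtain ⟨a, ha⟩ := hroot2
  obtain ⟨t, ht⟩ := dvd_iff_isRoot.2 ha
  have htm : t.Monic := (monic_X_sub_C a).of_mul_monic_left (ht ▸ hhm)
  have htd : t.natDegree = 1 := by
    rw [ht, (monic_X_sub_C a).natDegree_mul htm, natDegree_X_sub_C] at hhd
    omega
  obtain ⟨b, hb⟩ : ∃ b, t = X - C b := ⟨-t.coeff 0, by rw [map_neg, sub_neg_eq_add]; exact htm.eq_X_add_C htd⟩
  rw [ht, hb] at hh
  by_cases hca : c = a
  · exact Or.inr (Or.inr (Or.inr (case_repeated p g (u := c) (v := b) (by rw [hh, hca]; ring))))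
  by_cases hcb : c = b
  · exact Or.inr (Or.inr (Or.inr (case_repeated p g (u := c) (v := a) (by rw [hh, hcb]; ring))))
  by_cases hab : a = b
  · exact Or.inr (Or.inr (Or.inr (case_repeated p g (u := a) (v := c) (by rw [hh, hab]; ring))))
  refine Or.inr (Or.inr (Or.inl (orderOf_dvd_of_pow_eq_one
    (pow_eq_one_of_dvd g (c := 1) ((Matrix.minpoly_dvd_charpoly M).trans ?_)))))
  have hz : c * a * b = 1 := by
    have h' := Matrix.det_eq_sign_charpoly_coeff M
    rw [show M.det = 1 from g.2, Fintype.card_fin, hh] at h'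
    simp only [mul_coeff_zero, coeff_sub, coeff_X_zero, coeff_C_zero] at h'
    linear_combination -h'
  have hroot3 : ∀ x : F, x ≠ 0 → (X - C x) ∣ X ^ (q' - 1) - C 1 := fun x hx => by
    rw [dvd_iff_isRoot, IsRoot, eval_sub, eval_pow, eval_X, eval_C, FiniteField.pow_card_sub_one_eq_one x hx,
      sub_self]
  have hc0 : c ≠ 0 := fun h => by simp [h] at hz
  have ha0 : a ≠ 0 := fun h => by simp [h] at hz
  have hb0 : b ≠ 0 := fun h => by simp [h] at hz
  rw [hh]
  refine IsCoprime.mul_dvd ?_ (hroot3 c hc0) (IsCoprime.mul_dvd ?_ (hroot3 a ha0) (hroot3 b hb0))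
  · exact (isCoprime_X_sub_C_of_isUnit_sub (sub_ne_zero.2 hca).isUnit).mul_right
      (isCoprime_X_sub_C_of_isUnit_sub (sub_ne_zero.2 hcb).isUnit)
  · exact isCoprime_X_sub_C_of_isUnit_sub (sub_ne_zero.2 hab).isUnit

/-- A split torus element of order a multiple of `q - 1`. -/
theorem exists_split : ∃ x : L3, q' - 1 ∣ orderOf x := by
  classical
  obtain ⟨u, hu⟩ := isCyclic_iff_exists_orderOf_eq_natCard.1 (inferInstance : IsCyclic Fˣ)
  rw [Nat.card_units, Nat.card_eq_fintype_card] at hu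
  let g : SL3 := ⟨Matrix.diagonal ![(u : F), (↑u⁻¹ : F), 1], by simp [Matrix.det_diagonal, Fin.prod_univ_three]⟩
  refine ⟨QuotientGroup.mk g, ?_⟩
  set e := orderOf (QuotientGroup.mk g : L3) with he
  obtain ⟨c, hc⟩ := (Cfsg.Agent.S2470.mk_pow_eq_one_iff g e).1 (pow_orderOf_eq_one _)
  replace hc : (Matrix.diagonal ![(u : F), (↑u⁻¹ : F), 1]) ^ e = c • (1 : Matrix (Fin 3) (Fin 3) F) := hc
  rw [Matrix.diagonal_pow, Matrix.smul_one_eq_diagonal] at hc
  have h0 := congrFun (Matrix.diagonal_injective hc) 0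
  have h2 := congrFun (Matrix.diagonal_injective hc) 2
  simp at h0 h2
  rw [← hu]
  exact orderOf_dvd_of_pow_eq_one (Units.ext (by rw [Units.val_pow_eq_pow_val, h0, ← h2, Units.val_one]))

/-- A semisimple times unipotent element of order a multiple of `p (q - 1) / d`. -/
theorem exists_mixed (p : ℕ) [Fact p.Prime] [CharP F p] :
    ∃ x : L3, p * (q' - 1) / Nat.gcd 3 (q' - 1) ∣ orderOf x := by
  classical
  have hp : p.Prime := Fact.out
  obtain ⟨u, hu⟩ := isCyclic_iff_exists_orderOf_eq_natCard.1 (inferInstance : IsCyclic Fˣ)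
  rw [Nat.card_units, Nat.card_eq_fintype_card] at hu
  let D : SL3 := ⟨Matrix.diagonal ![(u : F), (u : F), ((u : F) ^ 2)⁻¹],
    by simp [Matrix.det_diagonal, Fin.prod_univ_three]; field_simp⟩
  let U : SL3 := ⟨Matrix.transvection 0 1 1, Matrix.det_transvection_of_ne 0 1 (by simp) 1⟩
  have hcomm : Commute D U := by
    apply Subtype.ext
    show Matrix.diagonal ![(u : F), (u : F), ((u : F) ^ 2)⁻¹] * Matrix.transvection 0 1 1 =
      Matrix.transvection 0 1 1 * Matrix.diagonal ![(u : F), (u : F), ((u : F) ^ 2)⁻¹]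
    ext a b
    rw [Matrix.diagonal_mul, Matrix.mul_diagonal]
    fin_cases a <;> fin_cases b <;> simp [Matrix.transvection]
  refine ⟨QuotientGroup.mk (D * U), ?_⟩
  set e := orderOf (QuotientGroup.mk (D * U) : L3) with he
  obtain ⟨c, hc⟩ := (Cfsg.Agent.S2470.mk_pow_eq_one_iff (D * U) e).1 (pow_orderOf_eq_one _)
  have hUe : ∀ m : ℕ, (Matrix.transvection (0 : Fin 3) 1 (1 : F)) ^ m = Matrix.transvection 0 1 (m : F) := by
    intro m
    induction m with
    | zero => simp
    | succ m ih => rw [pow_succ, ih, Matrix.transvection_mul_transvection_same _ _ (by simp), Nat.cast_succ]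
  have hDUe : ((D * U : SL3) : Matrix (Fin 3) (Fin 3) F) ^ e =
      Matrix.diagonal (![(u : F), (u : F), ((u : F) ^ 2)⁻¹] ^ e) * Matrix.transvection 0 1 (e : F) := by
    rw [← Matrix.SpecialLinearGroup.coe_pow, hcomm.mul_pow, Matrix.SpecialLinearGroup.coe_mul,
      Matrix.SpecialLinearGroup.coe_pow, Matrix.SpecialLinearGroup.coe_pow]
    show Matrix.diagonal _ ^ e * Matrix.transvection _ _ _ ^ e = _
    rw [Matrix.diagonal_pow, hUe]
  rw [hDUe] at hc
  have h00 := congrFun (congrFun hc 0) 0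
  have h01 := congrFun (congrFun hc 0) 1
  have h22 := congrFun (congrFun hc 2) 2
  simp [Matrix.transvection, Matrix.diagonal_mul] at h00 h01 h22
  have hpe : p ∣ e := (CharP.cast_eq_zero_iff F p e).1 h01
  have hc0 : c ≠ 0 := h00 ▸ pow_ne_zero _ u.ne_zero
  have hc3 : c ^ 3 = 1 := by
    have h4 : c ^ 2 * c = 1 := by
      nth_rw 2 [← h22]
      rw [← pow_mul, mul_comm 2 e, pow_mul, h00, mul_inv_cancel₀ (pow_ne_zero 2 hc0)]
    rw [← h4]; ring
  have hde : q' - 1 ∣ Nat.gcd 3 (q' - 1) * e := by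
    refine (dvd_of_eq hu.symm).trans ?_
    apply orderOf_dvd_of_pow_eq_one
    apply Units.ext
    rw [Units.val_pow_eq_pow_val, mul_comm, pow_mul, h00, Units.val_one]
    exact pow_gcd_eq_one.2 ⟨hc3, FiniteField.pow_card_sub_one_eq_one c hc0⟩
  obtain ⟨m, hm⟩ : Nat.gcd 3 (q' - 1) ∣ q' - 1 := gcd_dvd_sub_one
  have hme : m ∣ e := by
    nth_rw 1 [hm] at hde
    exact Nat.dvd_of_mul_dvd_mul_left (gcd_pos3 (F := F)) hde
  rw [show p * (q' - 1) / Nat.gcd 3 (q' - 1) = p * m by
    conv_lhs => arg 1; rw [hm, ← mul_assoc, mul_comm p, mul_assoc]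
    rw [Nat.mul_div_cancel_left _ (gcd_pos3 (F := F))]]
  refine Nat.Coprime.mul_dvd_of_dvd_of_dvd ?_ hpe hme
  rw [hp.coprime_iff_not_dvd]
  intro hd
  have h1 : p ∣ q' := (CharP.cast_eq_zero_iff F p _).1 (Nat.cast_card_eq_zero F)
  have h2 := Nat.dvd_sub h1 (hd.trans (Dvd.intro_left _ hm.symm))
  rw [Nat.sub_sub_self Fintype.card_pos, Nat.dvd_one] at h2
  exact hp.ne_one h2

/-- A torus element of order a multiple of `(q ^ 2 - 1) / d`. -/
theorem exists_quadratic (p : ℕ) [Fact p.Prime] [CharP F p] :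
    ∃ x : L3, (q' ^ 2 - 1) / Nat.gcd 3 (q' - 1) ∣ orderOf x := by
  classical
  let K := FiniteField.Extension F p 2
  let b : Module.Basis (Fin 2) F K := Module.finBasisOfFinrankEq F K (FiniteField.finrank_extension F p 2)
  let φ : K →ₐ[F] Matrix (Fin 2) (Fin 2) F := Algebra.leftMulMatrix b
  have hφ : Function.Injective φ := Algebra.leftMulMatrix_injective b
  obtain ⟨w, hw⟩ := isCyclic_iff_exists_orderOf_eq_natCard.1 (inferInstance : IsCyclic Kˣ)
  rw [Nat.card_units, FiniteField.natCard_extension, Nat.card_eq_fintype_card] at hw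
  have hdet0 : (φ (w : K)).det ≠ 0 :=
    ((Units.map φ.toMonoidHom w).isUnit.map Matrix.detMonoidHom).ne_zero
  let E : Fin 2 ⊕ Fin 1 ≃ Fin 3 := finSumFinEquiv
  let ψ : Kˣ →* Matrix (Fin 3) (Fin 3) F :=
    (Matrix.reindexAlgEquiv F F E).toMonoidHom.comp
      { toFun := fun x => Matrix.fromBlocks (φ (x : K)) 0 0 ((φ (x : K)).det⁻¹ • 1)
        map_one' := by simp [Matrix.fromBlocks_one]
        map_mul' := fun x y => by simp [Matrix.fromBlocks_multiply, Matrix.det_mul, smul_smul, mul_comm] }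
  have hψdet : (ψ w).det = 1 := by
    show (Matrix.reindexAlgEquiv F F E (Matrix.fromBlocks (φ (w : K)) 0 0 ((φ (w : K)).det⁻¹ • 1))).det = 1
    rw [Matrix.det_reindexAlgEquiv, Matrix.det_fromBlocks_zero₂₁, Matrix.det_smul, Matrix.det_one, Fintype.card_fin,
      pow_one, mul_one, mul_inv_cancel₀ hdet0]
  refine ⟨QuotientGroup.mk (⟨ψ w, hψdet⟩ : SL3), ?_⟩
  set e := orderOf (QuotientGroup.mk (⟨ψ w, hψdet⟩ : SL3) : L3) with he
  obtain ⟨c, hc⟩ := (Cfsg.Agent.S2470.mk_pow_eq_one_iff (⟨ψ w, hψdet⟩ : SL3) e).1 (pow_orderOf_eq_one _)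
  replace hc : ψ w ^ e = c • (1 : Matrix (Fin 3) (Fin 3) F) := hc
  rw [← map_pow] at hc
  replace hc : Matrix.fromBlocks (φ ((w ^ e : Kˣ) : K)) 0 0 ((φ ((w ^ e : Kˣ) : K)).det⁻¹ • 1) =
      c • (1 : Matrix (Fin 2 ⊕ Fin 1) (Fin 2 ⊕ Fin 1) F) := by
    apply (Matrix.reindexAlgEquiv F F E).injective
    rw [map_smul, map_one]
    exact hc
  rw [← Matrix.fromBlocks_one, Matrix.fromBlocks_smul, Matrix.fromBlocks_inj] at hc
  obtain ⟨h1, -, -, h4⟩ := hc
  have h4' : ((φ ((w ^ e : Kˣ) : K)).det)⁻¹ = c := by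
    have := congrFun (congrFun h4 0) 0
    simpa using this
  rw [h1, Matrix.det_smul, Matrix.det_one, mul_one, Fintype.card_fin] at h4'
  have hc0 : c ≠ 0 := by
    intro h0
    rw [h0, zero_smul, ← map_zero φ] at h1
    exact Units.ne_zero _ (hφ h1)
  have hc3 : c ^ 3 = 1 := by
    rw [pow_succ]; nth_rw 2 [← h4']
    exact mul_inv_cancel₀ (pow_ne_zero 2 hc0)
  have hd : q' ^ 2 - 1 ∣ Nat.gcd 3 (q' - 1) * e := by
    rw [← hw]
    apply orderOf_dvd_of_pow_eq_one
    apply Units.ext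
    apply hφ
    rw [Units.val_one, map_one, mul_comm, pow_mul, Units.val_pow_eq_pow_val, map_pow, h1, _root_.smul_pow, one_pow,
      pow_gcd_eq_one.2 ⟨hc3, FiniteField.pow_card_sub_one_eq_one c hc0⟩, one_smul]
  obtain ⟨m, hm⟩ : Nat.gcd 3 (q' - 1) ∣ q' ^ 2 - 1 :=
    (gcd_dvd_sub_one (F := F)).trans (by simpa using Nat.sub_dvd_pow_sub_pow q' 1 2)
  rw [hm, Nat.mul_div_cancel_left _ (gcd_pos3 (F := F))]
  rw [hm] at hd
  exact Nat.dvd_of_mul_dvd_mul_left (gcd_pos3 (F := F)) hd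


/-- The set of element orders of PSL(3,q): let F be a finite field of characteristic p with q elements and d = gcd(3, q − 1). The orders of elements of PSL(3,F) are exactly the divisors of (q² + q + 1)/d, of (q² − 1)/d, of q − 1, of p(q − 1)/d, and, when p = 2, of 4. -/
theorem result {F : Type*} [Field F] [Fintype F] (p : ℕ) [Fact p.Prime] [CharP F p] :
    Set.range (orderOf : Matrix.ProjectiveSpecialLinearGroup (Fin 3) F → ℕ) =
      {m : ℕ | m ∣ (Fintype.card F ^ 2 + Fintype.card F + 1) / Nat.gcd 3 (Fintype.card F - 1) ∨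
        m ∣ (Fintype.card F ^ 2 - 1) / Nat.gcd 3 (Fintype.card F - 1) ∨ m ∣ Fintype.card F - 1 ∨
        m ∣ p * (Fintype.card F - 1) / Nat.gcd 3 (Fintype.card F - 1) ∨ (p = 2 ∧ m ∣ 4)} := by
  classical
  ext m
  simp only [Set.mem_range, Set.mem_ofPred_eq]
  constructor
  · rintro ⟨x, rfl⟩
    obtain ⟨g, rfl⟩ := QuotientGroup.mk_surjective x
    exact order_cases p g
  · intro hm
    have key : ∀ N : ℕ, m ∣ N → (∃ x : Matrix.ProjectiveSpecialLinearGroup (Fin 3) F, N ∣ orderOf x) →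
        ∃ x : Matrix.ProjectiveSpecialLinearGroup (Fin 3) F, orderOf x = m := fun N hN ⟨x, hx⟩ =>
      Cfsg.Agent.Lib.ElementOrders.exists_orderOf_eq_of_dvd (hN.trans hx)
    rcases hm with h | h | h | h | ⟨rfl, h⟩
    · refine key _ h ?_
      obtain ⟨x, hx⟩ := Cfsg.Agent.S2510.exists_singer (F := F) (p := p) (n := 3) (by norm_num)
      refine ⟨x, ?_⟩
      convert hx using 2
      simp only [Cfsg.Agent.S2510.singer, Finset.sum_range_succ, Finset.sum_range_zero]
      ring_nf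
    · exact key _ h (exists_quadratic p)
    · exact key _ h exists_split
    · exact key _ h (exists_mixed p)
    · refine key _ h ⟨_, (by norm_num : (4 : ℕ) ∣ 2 ^ (1 + 1)).trans
        (Cfsg.Agent.S2510.dvd_orderOf_block (F := F) (p := 2) (n := 3) (t := 3) (b := 1) le_rfl (by norm_num))⟩

end Cfsg.Agent.S2476
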