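import Cfsg.Statements.S2478
import Cfsg.Agent.Lib.Similarity.KerDim

set_option autoImplicit false
open Cfsg

namespace Cfsg.Agent.S2478


open Polynomial Cfsg.Agent.Lib.Similarity

variable {F : Type*} [Field F] [Fintype F]

open Classical in
/-- The monic polynomials of degree `m` with non-zero constant term. -/
noncomputable def polys (F : Type*) [Field F] [Fintype F] : ℕ → Finset F[X]
  | 0 => {1}
  | m + 1 => (Finset.univ.filter fun c : Fin (m + 1) → F => c 0 ≠ 0).image
      fun c => X ^ (m + 1) + ∑ i : Fin (m + 1), C (c i) * X ^ (i : ℕ)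

/-- The number of monic polynomials of degree `m` with non-zero constant term. -/
def cnt (q : ℕ) : ℕ → ℕ
  | 0 => 1
  | m + 1 => (q - 1) * q ^ m

omit [Fintype F] in
theorem coeff_poly {m : ℕ} (c : Fin (m + 1) → F) (i : Fin (m + 1)) :
    (X ^ (m + 1) + ∑ j : Fin (m + 1), C (c j) * X ^ (j : ℕ) : F[X]).coeff i = c i := by
  rw [coeff_add, coeff_X_pow, if_neg (by omega), zero_add, finsetSum_coeff, Finset.sum_eq_single i]
  · simp
  · intro j _ hj
    rw [coeff_C_mul, coeff_X_pow, if_neg (fun h => hj (Fin.ext h.symm)), mul_zero]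
  · simp

theorem card_polys (m : ℕ) : (polys F m).card = cnt (Fintype.card F) m := by
  classical
  cases m with
  | zero => simp [polys, cnt]
  | succ m =>
    rw [polys, Finset.card_image_of_injective _ (fun c d h => _root_.funext fun i => by rw [← coeff_poly c i, ← coeff_poly d i]; exact congrArg (fun p : F[X] => p.coeff i) h)]
    rw [cnt, ← Fintype.card_subtype,
      Fintype.card_congr ((Fin.consEquiv fun _ : Fin (m + 1) => F).subtypeEquiv
        (p := fun x : F × (Fin m → F) => x.1 ≠ 0) (q := fun c => c 0 ≠ 0) (fun x => by simp [Fin.consEquiv])).symm,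
      Fintype.card_congr (Equiv.prodSubtypeFstEquivSubtypeProd (p := fun a : F => a ≠ 0)),
      Fintype.card_prod, Fintype.card_fun, Fintype.card_fin, Fintype.card_subtype_compl, Fintype.card_subtype_eq]

theorem mem_polys {m : ℕ} {p : F[X]} :
    p ∈ polys F m ↔ p.Monic ∧ p.natDegree = m ∧ p.coeff 0 ≠ 0 := by
  classical
  cases m with
  | zero =>
    simp only [polys, Finset.mem_singleton]
    constructor
    · rintro rfl; simp [monic_one]
    · rintro ⟨hp, hd, -⟩; exact hp.natDegree_eq_zero.1 hd
  | succ m =>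
    simp only [polys, Finset.mem_image, Finset.mem_filter, Finset.mem_univ, true_and]
    constructor
    · rintro ⟨c, hc, rfl⟩
      have hdeg : (∑ j : Fin (m + 1), C (c j) * X ^ (j : ℕ) : F[X]).degree < (m + 1 : ℕ) :=
        degree_sum_fin_lt c
      refine ⟨monic_X_pow_add hdeg, natDegree_eq_of_degree_eq_some ?_, ?_⟩
      · rw [degree_add_eq_left_of_degree_lt (by rwa [degree_X_pow]), degree_X_pow]
      · have := coeff_poly c 0
        rw [Fin.val_zero] at this
        rwa [this]
    · rintro ⟨hp, hd, h0⟩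
      refine ⟨fun i => p.coeff i, by simpa using h0, ?_⟩
      conv_rhs => rw [hp.as_sum, hd]
      rw [Fin.sum_univ_eq_sum_range (fun i => C (p.coeff i) * X ^ i)]

/-- The bound for the number of tuples. -/
def num (q : ℕ) : ℕ → ℕ → ℕ
  | 0, n => if n = 0 then 1 else 0
  | r + 1, n => ∑ m ∈ Finset.range (n / (r + 1) + 1), cnt q m * num q r (n - (r + 1) * m)

theorem cnt_step (q m : ℕ) : cnt q (m + 2) = q * cnt q (m + 1) := by
  simp only [cnt, pow_succ]; ring

theorem num_zero (q : ℕ) : ∀ r, num q r 0 = 1
  | 0 => by simp [num]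
  | r + 1 => by simp [num, cnt, num_zero q r]

theorem num_bound (q : ℕ) (hq : 1 ≤ q) : ∀ r n, 1 ≤ n → q ^ r * num q r n ≤ (q ^ r - 1) * q ^ n := by
  intro r
  induction r with
  | zero => intro n hn; simp [num, show n ≠ 0 by omega]
  | succ r ih =>
    let U : ℕ → ℕ := fun n => ∑ m ∈ Finset.range (n / (r + 1)), cnt q (m + 1) * num q r (n - (r + 1) * (m + 1))
    have hU : ∀ n, q ^ (r + 1) * U n ≤ (q - 1) * q ^ n := by
      intro n
      induction n using Nat.strong_induction_on with
      | _ n ihn =>
        rcases Nat.lt_or_ge n (r + 1) with hlt | hge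
        · simp [U, Nat.div_eq_of_lt hlt]
        obtain ⟨d, rfl⟩ := Nat.exists_eq_add_of_le' hge
        have hrec : U (d + (r + 1)) = (q - 1) * num q r d + q * U d := by
          simp only [U, Nat.add_div_right d (Nat.succ_pos r)]
          rw [Finset.sum_range_succ', add_comm, Finset.mul_sum]
          congr 1
          · simp [cnt]
          · refine Finset.sum_congr rfl fun m _ => ?_
            rw [cnt_step, mul_assoc]
            congr 3
            rw [Nat.mul_succ (r + 1) (m + 1), Nat.add_sub_add_right]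
        have h1 := ihn d (by omega)
        rw [hrec, mul_add]
        rcases Nat.eq_zero_or_pos d with rfl | hd
        · simp [num_zero, U, mul_comm]
        · have h2 := ih d hd
          have e1 : q ^ (r + 1) * ((q - 1) * num q r d) = q * (q - 1) * (q ^ r * num q r d) := by ring
          have e2 : q ^ (r + 1) * (q * U d) = q * (q ^ (r + 1) * U d) := by ring
          have e3 : (q - 1) * q ^ (d + (r + 1)) =
              q * (q - 1) * ((q ^ r - 1) * q ^ d) + q * ((q - 1) * q ^ d) := by
            obtain ⟨t, ht⟩ := Nat.exists_eq_add_of_le' (Nat.one_le_pow r q hq)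
            rw [pow_add, pow_succ, ht, Nat.add_sub_cancel]
            ring
          rw [e1, e2, e3]
          exact add_le_add (Nat.mul_le_mul_left _ h2) (Nat.mul_le_mul_left _ h1)
    intro n hn
    have hsplit : num q (r + 1) n = num q r n + U n := by
      rw [num, Finset.sum_range_succ', add_comm]
      simp [U, cnt]
    rw [hsplit, mul_add]
    have e : (q ^ (r + 1) - 1) * q ^ n = q * ((q ^ r - 1) * q ^ n) + (q - 1) * q ^ n := by
      obtain ⟨t, ht⟩ := Nat.exists_eq_add_of_le' (Nat.one_le_pow r q hq)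
      obtain ⟨u, hu⟩ := Nat.exists_eq_add_of_le' hq
      rw [pow_succ, ht, Nat.add_sub_cancel, show q - 1 = u by omega,
        show (t + 1) * q - 1 = t * q + u by rw [add_mul, one_mul]; omega]
      ring
    rw [e, show q ^ (r + 1) * num q r n = q * (q ^ r * num q r n) by ring]
    exact add_le_add (Nat.mul_le_mul_left _ (ih n hn)) (hU n)

open Classical in
/-- The codes of tuples `g₁, …, g_r` with `Σ j deg g_j = n`. -/
noncomputable def tup (F : Type*) [Field F] [Fintype F] : ℕ → ℕ → Finset (List F[X])
  | 0, n => if n = 0 then {[]} else ∅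
  | r + 1, n => (Finset.range (n / (r + 1) + 1)).biUnion fun m =>
      (polys F m ×ˢ tup F r (n - (r + 1) * m)).image fun p => p.1 :: p.2

theorem card_tup (r : ℕ) : ∀ n, (tup F r n).card ≤ num (Fintype.card F) r n := by
  classical
  induction r with
  | zero => intro n; by_cases h : n = 0 <;> simp [tup, num, h]
  | succ r ih =>
    intro n
    rw [tup, num]
    refine Finset.card_biUnion_le.trans (Finset.sum_le_sum fun m _ => Finset.card_image_le.trans ?_)
    rw [Finset.card_product, card_polys]
    exact Nat.mul_le_mul_left _ (ih _)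

/-- The code of a tuple. -/
noncomputable def code (g : ℕ → F[X]) : ℕ → List F[X]
  | 0 => []
  | r + 1 => g (r + 1) :: code g r

omit [Fintype F] in
theorem eq_of_code_eq {g h : ℕ → F[X]} : ∀ r, code g r = code h r → ∀ j ∈ Finset.Icc 1 r, g j = h j := by
  intro r
  induction r with
  | zero => intro _ j hj; simp at hj
  | succ r ih =>
    intro e j hj
    simp only [code, List.cons.injEq] at e
    rw [Finset.mem_Icc] at hj
    rcases Nat.lt_or_ge j (r + 1) with h1 | h1
    · exact ih e.2 j (Finset.mem_Icc.2 ⟨hj.1, by omega⟩)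
    · rw [show j = r + 1 by omega]; exact e.1

theorem code_mem (g : ℕ → F[X]) (hg : ∀ j, (g j).Monic ∧ (g j).coeff 0 ≠ 0) :
    ∀ r n, ∑ j ∈ Finset.Icc 1 r, j * (g j).natDegree = n → code g r ∈ tup F r n := by
  classical
  intro r
  induction r with
  | zero => intro n h; simp only [Finset.Icc_eq_empty_of_lt zero_lt_one, Finset.sum_empty] at h; simp [code, tup, ← h]
  | succ r ih =>
    intro n h
    rw [Finset.sum_Icc_succ_top (by omega)] at h
    simp only [code, tup, Finset.mem_biUnion, Finset.mem_image, Finset.mem_product, Finset.mem_range]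
    refine ⟨(g (r + 1)).natDegree, Nat.lt_succ_of_le ((Nat.le_div_iff_mul_le (by omega : 0 < r + 1)).2
      (by rw [mul_comm]; omega)), (g (r + 1), code g r), ⟨mem_polys.2 ⟨(hg _).1, rfl, (hg _).2⟩, ih _ ?_⟩, rfl⟩
    omega

omit [Fintype F] in
open Classical in
/-- Every invertible matrix has a tuple determining all its kernel dimensions. -/
theorem exists_tuple {n : ℕ} (A : GL (Fin n) F) : ∃ g : ℕ → F[X],
    (∀ j, (g j).Monic ∧ (g j).coeff 0 ≠ 0) ∧ ∑ j ∈ Finset.Icc 1 n, j * (g j).natDegree = n ∧
    ∀ r : F[X], Irreducible r → r.Monic → ∀ k : ℕ,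
      Module.finrank F (LinearMap.ker (aeval (Matrix.toLinAlgEquiv' (A : Matrix (Fin n) (Fin n) F)) (r ^ k))) =
        r.natDegree * ∑ j ∈ Finset.Icc 1 n, min k j * (UniqueFactorizationMonoid.normalizedFactors (g j)).count r := by
  classical
  set f : Module.End F (Fin n → F) := Matrix.toLinAlgEquiv' (A : Matrix (Fin n) (Fin n) F) with hf
  obtain ⟨ι, _, p, hp, e, ⟨E⟩⟩ := Module.equiv_directSum_of_isTorsion (isTorsion_aeval f)
  let q : ι → F[X] := fun i => normalize (p i)
  have hq : ∀ i, Irreducible (q i) ∧ (q i).Monic := fun i =>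
    ⟨(normalize_associated (p i)).symm.irreducible (hp i), Polynomial.monic_normalize (hp i).ne_zero⟩
  have hspan : ∀ (a : F[X]) (m : ℕ),
      (Submodule.span F[X] {a ^ m} : Submodule F[X] F[X]) = Ideal.span {normalize a ^ m} := fun a m =>
    (Ideal.span_singleton_eq_span_singleton.2 ((normalize_associated a).symm.pow_pow))
  let M := fun i : ι => F[X] ⧸ Ideal.span {q i ^ e i}
  let E1 : Module.AEval' f ≃ₗ[F[X]] (∀ i, M i) :=
    E ≪≫ₗ DirectSum.linearEquivFunOnFintype F[X] ι _ ≪≫ₗ
      LinearEquiv.piCongrRight (fun i => Submodule.quotEquivOfEq _ _ (hspan (p i) (e i)))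
  have : ∀ i, FiniteDimensional F (M i) := fun i => finite_quot ((hq i).2.pow _)
  have hker : ∀ r : F[X], Irreducible r → r.Monic → ∀ k : ℕ,
      Module.finrank F (LinearMap.ker (aeval f (r ^ k))) =
        ∑ i, if q i = r then (q i).natDegree * min k (e i) else 0 := by
    intro r hr hrm k
    rw [← kerDim_aeval, kerDim_congr E1, kerDim_pi]
    exact Finset.sum_congr rfl (fun i _ => kerDim_quot (hq i).1 (hq i).2 hr hrm (e i) k)
  have htot : ∑ i, (q i).natDegree * e i = n := by
    have h1 := LinearEquiv.finrank_eq (R := F) ((Module.AEval'.of f).trans (E1.restrictScalars F))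
    rw [Module.finrank_fin_fun, Module.finrank_pi_fintype] at h1
    conv_rhs => rw [h1]
    refine Finset.sum_congr rfl fun i _ => ?_
    rw [finrank_quot ((hq i).2.pow _), natDegree_pow, mul_comm]
  have hle : ∀ i, e i ≤ n := fun i => by
    have h1 := Finset.single_le_sum (f := fun i => (q i).natDegree * e i) (fun _ _ => Nat.zero_le _) (Finset.mem_univ i)
    rw [htot] at h1
    exact (Nat.le_mul_of_pos_left _ (hq i).1.natDegree_pos).trans h1
  have hX : ∀ i, e i ≠ 0 → (q i).coeff 0 ≠ 0 := by
    intro i hi h0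
    have hqX : q i = X := (eq_of_monic_of_associated monic_X (hq i).2
      (irreducible_X.associated_of_dvd (hq i).1 (X_dvd_iff.2 h0))).symm
    have h1 := hker X irreducible_X monic_X 1
    have hinj : LinearMap.ker (aeval f ((X : F[X]) ^ 1)) = ⊥ := by
      rw [pow_one, aeval_X, LinearMap.ker_eq_bot, hf]
      exact Matrix.mulVec_injective_iff_isUnit.2 A.isUnit
    rw [hinj, finrank_bot] at h1
    have h2 := Finset.sum_eq_zero_iff.1 h1.symm i (Finset.mem_univ i)
    rw [if_pos hqX, hqX, natDegree_X, one_mul] at h2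
    omega
  let S : ℕ → Multiset F[X] := fun j => (Finset.univ.filter fun i => e i = j ∧ j ≠ 0).val.map q
  let g : ℕ → F[X] := fun j => (S j).prod
  have hgm : ∀ j, (g j).Monic := fun j => monic_multiset_prod_of_monic _ _ fun i _ => (hq i).2
  have hfac : ∀ j, UniqueFactorizationMonoid.normalizedFactors (g j) = S j := fun j => by
    rw [UniqueFactorizationMonoid.normalizedFactors_prod_eq]
    · refine (Multiset.map_congr rfl fun x hx => ?_).trans (Multiset.map_id _)
      obtain ⟨i, -, rfl⟩ := Multiset.mem_map.1 hx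
      exact (hq i).2.normalize_eq_self
    · intro x hx
      obtain ⟨i, -, rfl⟩ := Multiset.mem_map.1 hx
      exact (hq i).1
  refine ⟨g, fun j => ⟨hgm j, ?_⟩, ?_, fun r hr hrm k => ?_⟩
  · rw [coeff_zero_multiset_prod]
    refine Multiset.prod_ne_zero fun h0 => ?_
    obtain ⟨x, hx, hx0⟩ := Multiset.mem_map.1 h0
    obtain ⟨i, hi, rfl⟩ := Multiset.mem_map.1 hx
    simp only [Finset.mem_val, Finset.mem_filter, Finset.mem_univ, true_and] at hi
    exact hX i (hi.1.trans_ne hi.2) hx0
  · have hdeg : ∀ j ∈ Finset.Icc 1 n, j * (g j).natDegree = ∑ i ∈ Finset.univ.filter (fun i => e i = j), (q i).natDegree * e i := by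
      intro j hj
      rw [Finset.mem_Icc] at hj
      rw [natDegree_multiset_prod _ (fun h0 => by
        obtain ⟨i, -, hi⟩ := Multiset.mem_map.1 h0
        exact (hq i).1.ne_zero hi), Multiset.map_map, ← Finset.sum, Finset.mul_sum]
      rw [Finset.filter_congr (fun i _ => and_iff_left (by omega : j ≠ 0))]
      refine Finset.sum_congr rfl fun i hi => ?_
      rw [(Finset.mem_filter.1 hi).2, mul_comm]
      rfl
    rw [Finset.sum_congr rfl hdeg]
    conv_rhs => rw [← htot, ← Finset.sum_filter_add_sum_filter_not Finset.univ (fun i => e i ∈ Finset.Icc 1 n)]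
    rw [Finset.sum_fiberwise_eq_sum_filter, eq_comm, add_eq_left]
    refine Finset.sum_eq_zero fun i hi => ?_
    simp only [Finset.mem_filter, Finset.mem_univ, true_and, Finset.mem_Icc] at hi
    rw [show e i = 0 by have := hle i; omega, mul_zero]
  · rw [hker r hr hrm k, ← Finset.sum_filter, Finset.mul_sum,
      Finset.sum_congr rfl (fun i hi => by rw [(Finset.mem_filter.1 hi).2] :
        ∀ i ∈ Finset.univ.filter (fun i => q i = r), (q i).natDegree * min k (e i) = r.natDegree * min k (e i))]
    conv_lhs => rw [← Finset.sum_filter_add_sum_filter_not (Finset.univ.filter fun i => q i = r) (fun i => e i ∈ Finset.Icc 1 n)]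
    rw [← Finset.sum_fiberwise_eq_sum_filter]
    have hz : ∑ i ∈ ((Finset.univ.filter fun i => q i = r).filter fun i => e i ∉ Finset.Icc 1 n),
        r.natDegree * min k (e i) = 0 := by
      refine Finset.sum_eq_zero fun i hi => ?_
      simp only [Finset.mem_filter, Finset.mem_univ, true_and, Finset.mem_Icc] at hi
      rw [show e i = 0 by have := hle i; omega, Nat.min_zero, mul_zero]
    rw [hz, add_zero]
    refine Finset.sum_congr rfl fun j hj => ?_
    rw [Finset.mem_Icc] at hj
    rw [hfac, Multiset.count_map, Finset.sum_congr rfl (fun i hi => by rw [(Finset.mem_filter.1 hi).2] :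
      ∀ i ∈ (Finset.univ.filter fun i => q i = r).filter (fun i => e i = j),
        r.natDegree * min k (e i) = r.natDegree * min k j), Finset.sum_const, smul_eq_mul,
      ← Finset.filter_val, Finset.card_val, Finset.filter_filter, Finset.filter_filter]
    rw [Finset.filter_congr (fun i _ => show (q i = r ∧ e i = j) ↔ ((e i = j ∧ j ≠ 0) ∧ r = q i) from
      ⟨fun h => ⟨⟨h.2, by omega⟩, h.1.symm⟩, fun h => ⟨h.2.symm, h.1.1⟩⟩)]
    ring

theorem isConj_of_tuple {n : ℕ} (A B : GL (Fin n) F) (h : ∀ r : F[X], Irreducible r → r.Monic → ∀ k : ℕ,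
    Module.finrank F (LinearMap.ker (aeval (Matrix.toLinAlgEquiv' (A : Matrix (Fin n) (Fin n) F)) (r ^ k))) =
      Module.finrank F (LinearMap.ker (aeval (Matrix.toLinAlgEquiv' (B : Matrix (Fin n) (Fin n) F)) (r ^ k)))) :
    IsConj A B := by
  obtain ⟨e, he⟩ := exists_conj_of_kerDim _ _ h
  let T : Matrix (Fin n) (Fin n) F ≃ₐ[F] Module.End F (Fin n → F) := Matrix.toLinAlgEquiv'
  have hPP : T.symm e.toLinearMap * T.symm e.symm.toLinearMap = 1 := by
    rw [← map_mul, ← map_one T.symm]
    exact congrArg _ (LinearMap.ext fun x => e.apply_symm_apply x)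
  let c : GL (Fin n) F := ⟨T.symm e.toLinearMap, T.symm e.symm.toLinearMap, hPP, mul_eq_one_comm.1 hPP⟩
  refine isConj_iff.2 ⟨c, ?_⟩
  rw [mul_inv_eq_iff_eq_mul]
  apply Units.ext
  apply T.injective
  rw [Units.val_mul, Units.val_mul, map_mul, map_mul, AlgEquiv.apply_symm_apply]
  exact LinearMap.ext he

/-- A companion element. -/
theorem exists_companion {n : ℕ} {f : F[X]} (hf : f ∈ polys F n) :
    ∃ A : GL (Fin n) F, (A : Matrix (Fin n) (Fin n) F).charpoly = f := by
  classical
  obtain ⟨hm, hd, h0⟩ := mem_polys.1 hf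
  let pb := AdjoinRoot.powerBasis hm.ne_zero
  let b := pb.basis.reindex (finCongr ((AdjoinRoot.powerBasis_dim hm.ne_zero).trans hd))
  set M := Algebra.leftMulMatrix b (AdjoinRoot.root f) with hM
  have hc : M.charpoly = f := by
    have e : M = Matrix.reindex (finCongr ((AdjoinRoot.powerBasis_dim hm.ne_zero).trans hd))
        (finCongr ((AdjoinRoot.powerBasis_dim hm.ne_zero).trans hd)) (Algebra.leftMulMatrix pb.basis pb.gen) := by
      ext i j
      simp [hM, b, Algebra.leftMulMatrix_eq_repr_mul, pb, AdjoinRoot.powerBasis_gen]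
    rw [e, Matrix.charpoly_reindex, charpoly_leftMulMatrix, AdjoinRoot.minpoly_powerBasis_gen_of_monic hm]
  have hdet : M.det ≠ 0 := by
    rw [Matrix.det_eq_sign_charpoly_coeff, hc]
    exact mul_ne_zero (pow_ne_zero _ (neg_ne_zero.2 one_ne_zero)) h0
  exact ⟨Matrix.GeneralLinearGroup.mkOfDetNeZero M hdet, hc⟩


/-- The number of conjugacy classes of GL(n,q): for F a finite field with q elements and n ≥ 1, the number k of conjugacy classes of GL(n,F) satisfies q^n − q^(n−1) ≤ k ≤ q^n. -/
theorem result {F : Type*} [Field F] [Fintype F] (n : ℕ) (hn : 1 ≤ n) :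
    Fintype.card F ^ n - Fintype.card F ^ (n - 1) ≤ Nat.card (ConjClasses (Matrix.GeneralLinearGroup (Fin n) F)) ∧ Nat.card (ConjClasses (Matrix.GeneralLinearGroup (Fin n) F)) ≤ Fintype.card F ^ n := by
  classical
  obtain ⟨d, rfl⟩ := Nat.exists_eq_add_of_le' hn
  constructor
  · choose comp hcomp using fun f : polys F (d + 1) => exists_companion f.2
    have hinj : Function.Injective fun f => ConjClasses.mk (comp f) := by
      intro f g h
      obtain ⟨c, hc⟩ := isConj_iff.1 (ConjClasses.mk_eq_mk_iff_isConj.1 h)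
      apply Subtype.ext
      rw [← hcomp f, ← hcomp g, ← hc, Units.val_mul, Units.val_mul, Matrix.coe_units_inv, Matrix.charpoly_units_conj]
    have h := Nat.card_le_card_of_injective _ hinj
    rw [Nat.card_eq_finsetCard, card_polys, cnt, Nat.sub_one_mul, ← pow_succ'] at h
    rwa [Nat.add_sub_cancel]
  · choose g hg hsum hker using fun A : GL (Fin (d + 1)) F => exists_tuple A
    let Φ : ConjClasses (GL (Fin (d + 1)) F) → {L // L ∈ tup F (d + 1) (d + 1)} := fun C =>
      ⟨code (g (Quotient.out C)) (d + 1), code_mem _ (hg _) _ _ (hsum _)⟩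
    have hinj : Function.Injective Φ := by
      intro C D h
      have h1 := eq_of_code_eq _ (congrArg Subtype.val h)
      rw [← Quotient.out_eq C, ← Quotient.out_eq D]
      refine Quotient.sound (isConj_of_tuple _ _ fun r hr hrm k => ?_)
      rw [hker _ r hr hrm k, hker _ r hr hrm k, Finset.sum_congr rfl fun j hj => by rw [h1 j hj]]
    have h := Nat.card_le_card_of_injective _ hinj
    rw [Nat.card_eq_finsetCard] at h
    have h2 := num_bound (Fintype.card F) Fintype.card_pos (d + 1) (d + 1) hn
    refine h.trans ((card_tup _ _).trans (Nat.le_of_mul_le_mul_left ?_ (pow_pos (Fintype.card_pos (α := F)) (d + 1))))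
    exact h2.trans (Nat.mul_le_mul_right _ (Nat.sub_le _ _))

end Cfsg.Agent.S2478
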