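import Cfsg.Statements.S2479
import Cfsg.Agent.Lib.GLClasses.SLBounds
-- import your own Cfsg.Agent.* helpers here

set_option autoImplicit false
open Cfsg Cfsg.Agent.Lib.GLClasses

namespace Cfsg.Agent.S2479

/-- The number of conjugacy classes of SL(n,q): for F a finite field with q elements, the number k of conjugacy classes of SL(n,F) satisfies q^(n−1) < k and k ≤ (5/2)·q^(n−1) for n ≥ 2, and k ≤ q^(n−1) + 3q^(n−2) for n ≥ 3. -/
theorem result {F : Type*} [Field F] [Fintype F] (n : ℕ) (hn : 2 ≤ n) :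
    Fintype.card F ^ (n - 1) < Nat.card (ConjClasses (Matrix.SpecialLinearGroup (Fin n) F)) ∧ 2 * Nat.card (ConjClasses (Matrix.SpecialLinearGroup (Fin n) F)) ≤ 5 * Fintype.card F ^ (n - 1) ∧
      (3 ≤ n → Nat.card (ConjClasses (Matrix.SpecialLinearGroup (Fin n) F)) ≤ Fintype.card F ^ (n - 1) + 3 * Fintype.card F ^ (n - 2)) := by
  have hq : 2 ≤ Fintype.card F := Fintype.one_lt_card
  refine ⟨lt_card_classes hn, ?_, card_classes_le_of_three_le⟩
  rcases (by omega : n = 2 ∨ 3 ≤ n) with rfl | h3
  · have h := (card_classes_le (F := F) (n := 2) (by omega)).trans (bd_two _)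
    rcases (by omega : Fintype.card F = 2 ∨ 3 ≤ Fintype.card F) with h2 | h2
    · have h4 := card_classes_le (F := F) (n := 2) (by omega)
      rw [h2, show bd 2 2 = 3 by decide] at h4
      rw [h2, show (2 : ℕ) ^ (2 - 1) = 2 by rfl]
      omega
    · simp; omega
  · have h := card_classes_le_of_three_le (F := F) h3
    obtain ⟨d, rfl⟩ := Nat.exists_eq_add_of_le' hn
    rw [show d + 2 - 1 = d + 1 by omega, Nat.add_sub_cancel, pow_succ] at *
    have := Nat.mul_le_mul_left (Fintype.card F ^ d) hq
    linarith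

end Cfsg.Agent.S2479
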