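import Cfsg.Statements.S2480
import Cfsg.Agent.Lib.GLClasses.SLBounds

set_option autoImplicit false
open Cfsg Cfsg.Agent.Lib.GLClasses

namespace Cfsg.Agent.S2480

variable {F : Type*} [Field F] [Fintype F] {n : ℕ}

local notation "SLn" => Matrix.SpecialLinearGroup (Fin n) F

theorem card_center (hn : 0 < n) : Nat.card (Subgroup.center SLn) = Nat.gcd n (Fintype.card F - 1) := by
  classical
  rw [Nat.card_congr Matrix.SpecialLinearGroup.center_equiv_rootsOfUnity.toEquiv, Fintype.card_fin,
    max_eq_left hn]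
  have : rootsOfUnity n F = (powMonoidHom n : Fˣ →* Fˣ).ker := by ext; simp [mem_rootsOfUnity]
  rw [this, IsCyclic.card_powMonoidHom_ker, Nat.card_units, Nat.card_eq_fintype_card, Nat.gcd_comm]

theorem lower_aux {G : Type*} [Group G] [Finite G] :
    Nat.card (ConjClasses G) ≤ Nat.card (Subgroup.center G) * Nat.card (ConjClasses (G ⧸ Subgroup.center G)) := by
  classical
  have hs : ∀ C : ConjClasses (G ⧸ Subgroup.center G), ∃ a : G, ConjClasses.mk (QuotientGroup.mk a) = C := fun C => by
    obtain ⟨b, rfl⟩ := ConjClasses.exists_rep C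
    obtain ⟨a, rfl⟩ := QuotientGroup.mk_surjective b
    exact ⟨a, rfl⟩
  choose r hr using hs
  rw [← Nat.card_prod]
  refine Nat.card_le_card_of_surjective (fun p => ConjClasses.mk ((p.1 : G) * r p.2)) fun D => ?_
  obtain ⟨a, rfl⟩ := ConjClasses.exists_rep D
  obtain ⟨c, hc⟩ := isConj_iff.1 (ConjClasses.mk_eq_mk_iff_isConj.1 (hr (ConjClasses.mk (QuotientGroup.mk a))))
  obtain ⟨c, rfl⟩ := QuotientGroup.mk_surjective c
  rw [← QuotientGroup.mk_mul, ← QuotientGroup.mk_inv, ← QuotientGroup.mk_mul, QuotientGroup.eq] at hc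
  refine ⟨(⟨_, hc⟩, ConjClasses.mk (QuotientGroup.mk a)), ?_⟩
  refine ConjClasses.mk_eq_mk_iff_isConj.2 (isConj_iff.2 ⟨c, ?_⟩)
  set R := r (ConjClasses.mk (QuotientGroup.mk a))
  set z := (c * R * c⁻¹)⁻¹ * a
  show c * (z * R) * c⁻¹ = a
  calc c * (z * R) * c⁻¹ = (c * z) * (R * c⁻¹) := by group
    _ = (z * c) * (R * c⁻¹) := by rw [Subgroup.mem_center_iff.1 hc c]
    _ = z * (c * R * c⁻¹) := by group
    _ = (c * R * c⁻¹) * z := (Subgroup.mem_center_iff.1 hc _).symm
    _ = a := mul_inv_cancel_left _ _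

theorem upper_aux {G : Type*} [Group G] [Finite G] (B : Subgroup.center G → ℕ)
    (hB : ∀ z : Subgroup.center G, Nat.card {C : ConjClasses G // ∃ a, ConjClasses.mk a = C ∧ IsConj a (z * a)} ≤ B z)
    [Fintype (Subgroup.center G)] :
    Nat.card (Subgroup.center G) * Nat.card (ConjClasses (G ⧸ Subgroup.center G)) ≤ ∑ z, B z := by
  classical
  have : Fintype G := Fintype.ofFinite G
  let _ : MulAction (Subgroup.center G) (ConjClasses G) :=
    { smul := fun z => Quotient.map (fun a => (z : G) * a) (fun a b h => by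
        obtain ⟨c, hc⟩ := isConj_iff.1 h
        refine isConj_iff.2 ⟨c, ?_⟩
        rw [← mul_assoc, Subgroup.mem_center_iff.1 z.2 c, mul_assoc (z : G), mul_assoc (z : G), hc])
      one_smul := fun C => by
        obtain ⟨a, rfl⟩ := ConjClasses.exists_rep C
        exact congrArg ConjClasses.mk (one_mul a)
      mul_smul := fun y z C => by
        obtain ⟨a, rfl⟩ := ConjClasses.exists_rep C
        exact congrArg ConjClasses.mk (mul_assoc (y : G) z a) }
  have hsmul : ∀ (z : Subgroup.center G) (a : G), z • ConjClasses.mk a = ConjClasses.mk ((z : G) * a) := fun _ _ => rfl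
  let Ω := Quotient (MulAction.orbitRel (Subgroup.center G) (ConjClasses G))
  have hle : Nat.card (ConjClasses (G ⧸ Subgroup.center G)) ≤ Nat.card Ω := by
    let π : ConjClasses G → ConjClasses (G ⧸ Subgroup.center G) := ConjClasses.map (QuotientGroup.mk' _)
    refine Nat.card_le_card_of_surjective (fun q : Ω => Quotient.lift π (fun C D h => ?_) q) fun D => ?_
    · obtain ⟨z, rfl⟩ := h
      obtain ⟨a, rfl⟩ := ConjClasses.exists_rep D
      show ConjClasses.mk (QuotientGroup.mk ((z : G) * a)) = ConjClasses.mk (QuotientGroup.mk a)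
      rw [QuotientGroup.mk_mul, (QuotientGroup.eq_one_iff _).2 z.2, one_mul]
    · obtain ⟨b, rfl⟩ := ConjClasses.exists_rep D
      obtain ⟨a, rfl⟩ := QuotientGroup.mk_surjective b
      exact ⟨Quotient.mk _ (ConjClasses.mk a), rfl⟩
  have h := MulAction.sum_card_fixedBy_eq_card_orbits_mul_card_group (Subgroup.center G) (ConjClasses G)
  rw [Nat.card_eq_fintype_card (α := Ω)] at hle
  calc Nat.card (Subgroup.center G) * Nat.card (ConjClasses (G ⧸ Subgroup.center G))
      ≤ Fintype.card Ω * Fintype.card (Subgroup.center G) := by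
        rw [Nat.card_eq_fintype_card (α := Subgroup.center G), mul_comm]
        exact Nat.mul_le_mul_right _ hle
    _ = ∑ z : Subgroup.center G, Fintype.card (MulAction.fixedBy (ConjClasses G) z) := h.symm
    _ ≤ ∑ z, B z := Finset.sum_le_sum fun z _ => by
        rw [← Nat.card_eq_fintype_card]
        refine le_trans (Nat.card_le_card_of_injective
          (fun C : MulAction.fixedBy (ConjClasses G) z =>
            (⟨C.1, ?_⟩ : {C : ConjClasses G // ∃ a, ConjClasses.mk a = C ∧ IsConj a (z * a)})) ?_) (hB z)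
        · obtain ⟨a, ha⟩ := ConjClasses.exists_rep C.1
          refine ⟨a, ha, ?_⟩
          have := C.2
          rw [MulAction.mem_fixedBy, ← ha, hsmul, ConjClasses.mk_eq_mk_iff_isConj] at this
          exact this.symm
        · exact fun C D h => Subtype.ext (congrArg (fun x : {C : ConjClasses G // ∃ a, ConjClasses.mk a = C ∧ IsConj a (z * a)} => x.1) h)

/-- A non-trivial central element fixes few classes. -/
theorem card_fixed_center (hn : 2 ≤ n) (z : Subgroup.center SLn) (hz : z ≠ 1) :
    ∃ o m, 2 ≤ o ∧ o * m = n ∧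
      Nat.card {C : ConjClasses SLn // ∃ a, ConjClasses.mk a = C ∧ IsConj a (z * a)} ≤ bd (Fintype.card F) m := by
  classical
  obtain ⟨z, hzc⟩ := z
  obtain ⟨r, hrn, hr⟩ := Matrix.SpecialLinearGroup.mem_center_iff.1 hzc
  rw [Fintype.card_fin] at hrn
  have hfin : IsOfFinOrder r := isOfFinOrder_iff_pow_eq_one.2 ⟨n, by omega, hrn⟩
  obtain ⟨m, hm⟩ := orderOf_dvd_of_pow_eq_one hrn
  have hne : orderOf r ≠ 1 := by
    intro h
    rw [orderOf_eq_one_iff] at h
    subst h
    refine hz (Subtype.ext (Subtype.ext ?_))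
    simp [← hr]
  refine ⟨orderOf r, m, ?_, hm.symm, ?_⟩
  · have := hfin.orderOf_pos
    omega
  refine le_trans ?_ (card_fixed_le_bd (F := F) (z := r) rfl hm.symm (by omega))
  refine Nat.card_le_card_of_injective (fun C => ⟨C.1, ?_⟩) fun C D h => Subtype.ext (congrArg (fun x => x.1) h)
  obtain ⟨a, ha, hc⟩ := C.2
  obtain ⟨c, hc⟩ := isConj_iff.1 hc
  refine ⟨a, ha, Matrix.SpecialLinearGroup.toGL c, ?_⟩
  have h1 := congrArg (fun x : SLn => (x : Matrix (Fin n) (Fin n) F)) hc
  simp only [Matrix.SpecialLinearGroup.coe_mul] at h1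
  have h2 : (z : Matrix (Fin n) (Fin n) F) * (a : Matrix (Fin n) (Fin n) F) = r • (a : Matrix (Fin n) (Fin n) F) := by
    rw [← hr]
    rw [Matrix.scalar_apply, ← Matrix.smul_one_eq_diagonal, smul_mul_assoc, one_mul]
  rw [← h2, ← h1, ← map_inv]
  rfl

/-- The number of conjugacy classes of PSL(n,q): for F a finite field with q elements, n ≥ 2 and d = gcd(n, q − 1), the number k of conjugacy classes of PSL(n,F) satisfies q^(n−1) ≤ d·k ≤ q^(n−1) + 5q^(n−2). -/
theorem result {F : Type*} [Field F] [Fintype F] (n : ℕ) (hn : 2 ≤ n) :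
    Fintype.card F ^ (n - 1) ≤ Nat.gcd n (Fintype.card F - 1) * Nat.card (ConjClasses (Matrix.ProjectiveSpecialLinearGroup (Fin n) F)) ∧
      Nat.gcd n (Fintype.card F - 1) * Nat.card (ConjClasses (Matrix.ProjectiveSpecialLinearGroup (Fin n) F)) ≤ Fintype.card F ^ (n - 1) + 5 * Fintype.card F ^ (n - 2) := by
  classical
  rw [← card_center (F := F) (by omega : 0 < n)]
  refine ⟨(lt_card_classes hn).le.trans lower_aux, ?_⟩
  have hq : 2 ≤ Fintype.card F := Fintype.one_lt_card
  set q := Fintype.card F with hqdef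
  have hdq : Nat.gcd n (q - 1) ≤ q - 1 := Nat.le_of_dvd (by omega) (Nat.gcd_dvd_right _ _)
  have hdn : Nat.gcd n (q - 1) ≤ n := Nat.le_of_dvd (by omega) (Nat.gcd_dvd_left _ _)
  have main : ∀ M, (∀ o m, 2 ≤ o → o * m = n → bd q m ≤ M) →
      Nat.card (Subgroup.center (Matrix.SpecialLinearGroup (Fin n) F)) * Nat.card (ConjClasses ((Matrix.SpecialLinearGroup (Fin n) F) ⧸ Subgroup.center (Matrix.SpecialLinearGroup (Fin n) F))) ≤
        Nat.card (ConjClasses (Matrix.SpecialLinearGroup (Fin n) F)) + (Nat.gcd n (q - 1) - 1) * M := by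
    intro M hM
    have : Fintype (Subgroup.center (Matrix.SpecialLinearGroup (Fin n) F)) := Fintype.ofFinite _
    refine (upper_aux (fun z => if z = 1 then Nat.card (ConjClasses (Matrix.SpecialLinearGroup (Fin n) F)) else M) fun z => ?_).trans (le_of_eq ?_)
    · split_ifs with hz
      · exact Nat.card_le_card_of_injective Subtype.val Subtype.val_injective
      · obtain ⟨o, m, ho, hom, h⟩ := card_fixed_center hn z hz
        exact h.trans (hM o m ho hom)
    · rw [← Finset.add_sum_erase _ _ (Finset.mem_univ (1 : Subgroup.center (Matrix.SpecialLinearGroup (Fin n) F))), if_pos rfl,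
        Finset.sum_congr rfl (fun z hz => if_neg (Finset.ne_of_mem_erase hz)), Finset.sum_const, smul_eq_mul,
        Finset.card_erase_of_mem (Finset.mem_univ _), Finset.card_univ, ← Nat.card_eq_fintype_card,
        card_center (by omega), ← hqdef]
  show Nat.card (Subgroup.center (Matrix.SpecialLinearGroup (Fin n) F)) * Nat.card (ConjClasses ((Matrix.SpecialLinearGroup (Fin n) F) ⧸ Subgroup.center (Matrix.SpecialLinearGroup (Fin n) F))) ≤ _
  have small : ∀ o m : ℕ, 2 ≤ o → o * m = n → 1 ≤ m ∧ 2 * m ≤ n := by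
    intro o m ho hom
    exact ⟨Nat.pos_of_ne_zero fun h => by rw [h, mul_zero] at hom; omega, hom ▸ Nat.mul_le_mul_right m ho⟩
  rcases (by omega : n = 2 ∨ n = 3 ∨ n = 4 ∨ n = 5 ∨ n = 6 ∨ 7 ≤ n) with rfl | rfl | rfl | rfl | rfl | h7
  · refine (main 1 fun o m ho hom => ?_).trans ?_
    · obtain rfl : m = 1 := by have := small o m ho hom; omega
      rw [bd_one]
    · have h := (card_classes_le (F := F) (n := 2) (by omega)).trans (bd_two _)
      rw [← hqdef] at h
      simp at h ⊢
      omega
  · refine (main 1 fun o m ho hom => ?_).trans ?_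
    · obtain rfl : m = 1 := by have := small o m ho hom; omega
      rw [bd_one]
    · have h := card_classes_le_of_three_le (F := F) (n := 3) (by omega)
      rw [← hqdef] at h
      simp at h ⊢
      omega
  · refine (main (q + 4) fun o m ho hom => ?_).trans ?_
    · obtain rfl | rfl : m = 1 ∨ m = 2 := by have := small o m ho hom; omega
      · rw [bd_one]; omega
      · exact bd_two q
    · have h := card_classes_le_of_three_le (F := F) (n := 4) (by omega)
      rw [← hqdef] at h
      simp at h ⊢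
      have h2 : (Nat.gcd 4 (q - 1) - 1) * (q + 4) ≤ (q - 2) * (q + 4) := Nat.mul_le_mul_right _ (by omega)
      obtain ⟨t, ht⟩ := Nat.exists_eq_add_of_le' hq
      have h3 : (q - 2) * (q + 4) ≤ 2 * q ^ 2 := by rw [ht, Nat.add_sub_cancel]; nlinarith
      omega
  · refine (main 1 fun o m ho hom => ?_).trans ?_
    · obtain rfl : m = 1 := by
        have := small o m ho hom
        obtain rfl | rfl : m = 1 ∨ m = 2 := by omega
        · rfl
        · omega
      rw [bd_one]
    · have h := card_classes_le_of_three_le (F := F) (n := 5) (by omega)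
      rw [← hqdef] at h
      simp at h ⊢
      have : 2 ^ 3 ≤ q ^ 3 := Nat.pow_le_pow_left hq 3
      omega
  · refine (main (q ^ 2 + q + 9) fun o m ho hom => ?_).trans ?_
    · obtain rfl | rfl | rfl : m = 1 ∨ m = 2 ∨ m = 3 := by have := small o m ho hom; omega
      · rw [bd_one]; omega
      · have := bd_two q; have := Nat.le_self_pow (two_ne_zero) q; omega
      · exact bd_three q
    · have h := card_classes_le_of_three_le (F := F) (n := 6) (by omega)
      rw [← hqdef] at h
      simp at h ⊢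
      have h2 : (Nat.gcd 6 (q - 1) - 1) * (q ^ 2 + q + 9) ≤ (q - 2) * (q ^ 2 + q + 9) := Nat.mul_le_mul_right _ (by omega)
      obtain ⟨t, ht⟩ := Nat.exists_eq_add_of_le' hq
      have h3 : (q - 2) * (q ^ 2 + q + 9) ≤ 2 * q ^ 4 := by
        rw [ht, Nat.add_sub_cancel]
        have h5 : t * ((t + 2) ^ 2 + (t + 2) + 9) ≤ t * (5 * (t + 2) ^ 2) := Nat.mul_le_mul_left _ (by nlinarith)
        nlinarith [Nat.mul_le_mul_right ((t + 2) ^ 2) (show 5 * t ≤ 2 * (t + 2) ^ 2 by nlinarith)]
      omega
  · refine (main (q ^ (n / 2) + q ^ (2 + n / 4)) fun o m ho hom => ?_).trans ?_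
    · obtain ⟨h1, h2⟩ := small o m ho hom
      exact add_le_add ((geo_le q m hq).trans (Nat.pow_le_pow_right (by omega) (by omega)))
        ((bd_rest_le q m hq).trans (Nat.pow_le_pow_right (by omega) (by omega)))
    · have h := card_classes_le_of_three_le (F := F) (n := n) (by omega)
      rw [← hqdef] at h
      have h2 : (Nat.gcd n (q - 1) - 1) * (q ^ (n / 2) + q ^ (2 + n / 4)) ≤ q * (q ^ (n / 2) + q ^ (2 + n / 4)) :=
        Nat.mul_le_mul_right _ (by omega)
      have h3 : q * q ^ (n / 2) ≤ q ^ (n - 2) := by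
        rw [← pow_succ']; exact Nat.pow_le_pow_right (by omega) (by omega)
      have h4 : q * q ^ (2 + n / 4) ≤ q ^ (n - 2) := by
        rw [← pow_succ']; exact Nat.pow_le_pow_right (by omega) (by omega)
      rw [mul_add q] at h2
      generalize hX : (Nat.gcd n (q - 1) - 1) * (q ^ (n / 2) + q ^ (2 + n / 4)) = X at h2 ⊢
      omega

end Cfsg.Agent.S2480
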