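import Mathlib
import Cfsg.Statements.S2485
import Cfsg.Agent.Lib.LinGroup.Order
import Cfsg.Agent.Lib.SL2.Commutant

set_option autoImplicit false
open scoped Pointwise
open Cfsg

namespace Cfsg.Agent.S2485

open Matrix Cfsg.Agent.Lib.SL2

section

variable {F : Type*} [Field F]

/-- the centre quotient -/
abbrev PG (F : Type*) [Field F] := GL (Fin 2) F ⧸ Subgroup.center (GL (Fin 2) F)

theorem mem_center_iff_scalar (g : GL (Fin 2) F) :
    g ∈ Subgroup.center (GL (Fin 2) F) ↔ ∃ c : F, g.val = c • (1 : Matrix (Fin 2) (Fin 2) F) := by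
  rw [GeneralLinearGroup.center_eq_range_scalar]
  constructor
  · rintro ⟨u, rfl⟩
    exact ⟨(u : F), by rw [GeneralLinearGroup.coe_scalar, Matrix.scalar_apply, Matrix.smul_one_eq_diagonal]⟩
  · rintro ⟨c, hc⟩
    have hc0 : c ≠ 0 := by
      rintro rfl
      have := g.isUnit
      rw [hc, zero_smul] at this
      exact not_isUnit_zero this
    refine ⟨Units.mk0 c hc0, Units.ext ?_⟩
    rw [GeneralLinearGroup.coe_scalar, Matrix.scalar_apply, hc, Matrix.smul_one_eq_diagonal]
    rfl

theorem exists_sign {A g : GL (Fin 2) F}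
    (h : (QuotientGroup.mk g : PG F) * QuotientGroup.mk A = QuotientGroup.mk A * QuotientGroup.mk g) :
    g.val * A.val = A.val * g.val ∨ g.val * A.val = -(A.val * g.val) := by
  rw [← QuotientGroup.mk_mul, ← QuotientGroup.mk_mul, QuotientGroup.eq] at h
  obtain ⟨c, hc⟩ := (mem_center_iff_scalar _).1 h
  rw [Units.val_mul] at hc
  have e : A.val * g.val = c • (g.val * A.val) := by
    have := congrArg ((g * A).val * ·) hc
    simp only [← Matrix.mul_assoc, Units.mul_inv, Matrix.one_mul, Matrix.mul_smul, Matrix.mul_one] at this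
    rwa [Units.val_mul, Units.val_mul] at this
  have hd := congrArg Matrix.det e
  rw [Matrix.det_smul, Matrix.det_mul, Matrix.det_mul, Fintype.card_fin, mul_comm A.val.det] at hd
  have hne : g.val.det * A.val.det ≠ 0 := mul_ne_zero
    ((Matrix.isUnit_iff_isUnit_det _).1 g.isUnit).ne_zero ((Matrix.isUnit_iff_isUnit_det _).1 A.isUnit).ne_zero
  have hc2 : c ^ 2 = 1 := mul_right_cancel₀ hne (by rw [one_mul]; exact hd.symm)
  rcases sq_eq_one_iff.1 hc2 with rfl | rfl
  · left; rw [e, one_smul]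
  · right; rw [e, neg_smul, one_smul, neg_neg]

/-- invertible matrices commuting up to sign -/
theorem card_pm_le [Fintype F] (A : GL (Fin 2) F) (s : Finset (F × F))
    (hs : ∀ g : GL (Fin 2) F, g.val * A.val = A.val * g.val → ∃ z ∈ s, g.val = commElt A.val z) :
    Nat.card {g : GL (Fin 2) F // g.val * A.val = A.val * g.val ∨ g.val * A.val = -(A.val * g.val)} ≤
      2 * s.card := by
  classical
  set P := (Finset.univ.filter fun g : GL (Fin 2) F => g.val * A.val = A.val * g.val) with hP
  set M := (Finset.univ.filter fun g : GL (Fin 2) F => g.val * A.val = -(A.val * g.val)) with hM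
  have h1 : P.card ≤ s.card := by
    choose! z hz1 hz2 using hs
    refine Finset.card_le_card_of_injOn z (fun g hg => hz1 g (by simpa [hP] using hg)) ?_
    intro a ha b hb e
    apply Units.ext
    rw [hz2 a (by simpa [hP] using ha), hz2 b (by simpa [hP] using hb), e]
  have h2 : M.card ≤ P.card := by
    rcases M.eq_empty_or_nonempty with h | ⟨g0, hg0⟩
    · simp [h]
    refine Finset.card_le_card_of_injOn (fun g => g0 * g) (fun g hg => ?_) (fun a _ b _ e => mul_left_cancel e)
    simp only [hM, hP, Finset.mem_coe, Finset.mem_filter, Finset.mem_univ, true_and, Units.val_mul] at hg hg0 ⊢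
    rw [Matrix.mul_assoc, hg, Matrix.mul_neg, ← Matrix.mul_assoc, hg0, Matrix.neg_mul, neg_neg, Matrix.mul_assoc]
  rw [Nat.card_eq_fintype_card, Fintype.card_subtype]
  refine le_trans (Finset.card_le_card (t := P ∪ M) ?_) (le_trans (Finset.card_union_le _ _) (by omega))
  intro g hg
  simpa [hP, hM] using hg

theorem card_centralizer_mul_le [Fintype F] (A : GL (Fin 2) F) :
    Nat.card (Subgroup.centralizer ({QuotientGroup.mk A} : Set (PG F))) * (Fintype.card F - 1) ≤
      Nat.card {g : GL (Fin 2) F // g.val * A.val = A.val * g.val ∨ g.val * A.val = -(A.val * g.val)} := by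
  classical
  set C := Subgroup.centralizer ({QuotientGroup.mk A} : Set (PG F)) with hC
  have h1 : Nat.card (C.comap (QuotientGroup.mk' (Subgroup.center (GL (Fin 2) F)))) =
      Nat.card C * Nat.card (Subgroup.center (GL (Fin 2) F)) := by
    have hf := QuotientGroup.mk'_surjective (Subgroup.center (GL (Fin 2) F))
    have e := Subgroup.card_mul_index (C.comap (QuotientGroup.mk' (Subgroup.center (GL (Fin 2) F))))
    rw [Subgroup.index_comap_of_surjective C hf, ← Subgroup.card_mul_index (Subgroup.center (GL (Fin 2) F))] at e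
    have e2 : Nat.card (PG F) = Nat.card C * C.index := (Subgroup.card_mul_index C).symm
    rw [← Subgroup.index_eq_card] at e2
    rw [e2, ← mul_assoc, mul_comm (Nat.card (Subgroup.center (GL (Fin 2) F)))] at e
    exact Nat.eq_of_mul_eq_mul_right (Nat.pos_of_ne_zero Subgroup.index_ne_zero_of_finite) e
  rw [← Cfsg.Agent.Lib.LinGroup.card_units_eq_sub_one, ← Cfsg.Agent.Lib.LinGroup.card_center_GL (ι := Fin 2), ← h1]
  refine Nat.card_le_card_of_injective (fun g => ⟨g.1, exists_sign ?_⟩) ?_
  · exact Subgroup.mem_centralizer_singleton_iff.1 g.2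
  · intro a b h
    exact Subtype.ext (congrArg (fun x : {g : GL (Fin 2) F // g.val * A.val = A.val * g.val ∨
      g.val * A.val = -(A.val * g.val)} => x.1) h)

theorem trace_zero_of_involution {A : GL (Fin 2) F} (h1 : (QuotientGroup.mk A : PG F) ≠ 1)
    (h2 : (QuotientGroup.mk A : PG F) * QuotientGroup.mk A = 1) :
    A.val.trace = 0 ∧ ¬ IsScalarMat A.val := by
  rw [← QuotientGroup.mk_mul, QuotientGroup.eq_one_iff, mem_center_iff_scalar] at h2
  obtain ⟨c, hc⟩ := h2
  have hns : ¬ IsScalarMat A.val := by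
    rintro ⟨a, b, d⟩
    apply h1
    rw [QuotientGroup.eq_one_iff, mem_center_iff_scalar]
    refine ⟨A.val 0 0, ?_⟩
    ext i j
    fin_cases i <;> fin_cases j <;> simp [a, b, d]
  refine ⟨?_, hns⟩
  by_contra ht
  apply hns
  rw [Units.val_mul] at hc
  have e00 := congrFun (congrFun hc 0) 0
  have e01 := congrFun (congrFun hc 0) 1
  have e10 := congrFun (congrFun hc 1) 0
  have e11 := congrFun (congrFun hc 1) 1
  simp [Matrix.mul_apply, Fin.sum_univ_two] at e00 e01 e10 e11
  rw [Matrix.trace_fin_two] at ht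
  refine ⟨?_, ?_, ?_⟩
  · exact (mul_eq_zero.1 (show A.val 0 1 * (A.val 0 0 + A.val 1 1) = 0 by linear_combination e01)).resolve_right ht
  · exact (mul_eq_zero.1 (show A.val 1 0 * (A.val 0 0 + A.val 1 1) = 0 by linear_combination e10)).resolve_right ht
  · exact sub_eq_zero.1 ((mul_eq_zero.1 (show (A.val 0 0 - A.val 1 1) * (A.val 0 0 + A.val 1 1) = 0 by
      linear_combination e00 - e11)).resolve_right ht)

theorem split_bound [Fintype F] {A : GL (Fin 2) F} (h2 : (2 : F) ≠ 0) (hA : A.val.trace = 0)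
    (hns : ¬ IsScalarMat A.val) {l : F} (hl : l * l = -A.val.det) :
    Nat.card {g : GL (Fin 2) F // g.val * A.val = A.val * g.val ∨ g.val * A.val = -(A.val * g.val)} ≤
      2 * ((Fintype.card F - 1) * (Fintype.card F - 1)) := by
  classical
  have hl0 : l ≠ 0 := fun h => ((Matrix.isUnit_iff_isUnit_det _).1 A.isUnit).ne_zero (by
    rw [h] at hl; linear_combination hl)
  have h11 : A.val 0 0 + A.val 1 1 = 0 := by rw [← Matrix.trace_fin_two]; exact hA
  let S : Finset (F × F) := Finset.univ.filter fun z => z.1 + z.2 * l ≠ 0 ∧ z.1 - z.2 * l ≠ 0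
  have hS : S.card ≤ (Fintype.card F - 1) * (Fintype.card F - 1) := by
    rw [show Fintype.card F - 1 = (Finset.univ.erase (0 : F)).card by simp, ← Finset.card_product]
    refine Finset.card_le_card_of_injOn (fun z => (z.1 + z.2 * l, z.1 - z.2 * l)) (fun z hz => ?_) ?_
    · simp only [S, Finset.mem_coe, Finset.mem_filter, Finset.mem_univ, true_and] at hz
      simpa using hz
    · intro a _ b _ e
      simp only [Prod.mk.injEq] at e
      obtain ⟨e1, e2⟩ := e
      have h1 : a.1 = b.1 := mul_left_cancel₀ h2 (by linear_combination e1 + e2)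
      exact Prod.ext h1 (mul_right_cancel₀ hl0 (by linear_combination e1 - h1))
  refine le_trans (card_pm_le A S fun g hg => ?_) (by omega)
  obtain ⟨z, hz⟩ := exists_commElt hns hg
  refine ⟨z, ?_, hz⟩
  have hd := ((Matrix.isUnit_iff_isUnit_det _).1 g.isUnit).ne_zero
  rw [hz, det_commElt, h11] at hd
  have : normForm 0 A.val.det z = (z.1 + z.2 * l) * (z.1 - z.2 * l) := by
    simp only [normForm]; linear_combination (z.2 ^ 2) * hl
  rw [this] at hd
  simp only [S, Finset.mem_filter, Finset.mem_univ, true_and]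
  exact mul_ne_zero_iff.1 hd

theorem any_bound [Fintype F] {A : GL (Fin 2) F} (hns : ¬ IsScalarMat A.val) :
    Nat.card {g : GL (Fin 2) F // g.val * A.val = A.val * g.val ∨ g.val * A.val = -(A.val * g.val)} ≤
      2 * (Fintype.card F * Fintype.card F - 1) := by
  classical
  refine le_trans (card_pm_le A (Finset.univ.erase 0) fun g hg => ?_) (by simp)
  obtain ⟨z, hz⟩ := exists_commElt hns hg
  refine ⟨z, Finset.mem_erase.2 ⟨fun h0 => ?_, Finset.mem_univ _⟩, hz⟩
  have hd := ((Matrix.isUnit_iff_isUnit_det _).1 g.isUnit).ne_zero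
  rw [hz, h0, det_commElt] at hd
  simp [normForm] at hd

theorem exists_common {A B : GL (Fin 2) F} (hA : A.val.trace = 0) (hB : B.val.trace = 0)
    (hsq : ∀ l : F, l * l ≠ -A.val.det) (h2 : (2 : F) ≠ 0) :
    ∃ C : GL (Fin 2) F, (QuotientGroup.mk C : PG F) ≠ 1 ∧
      C.val * A.val = -(A.val * C.val) ∧ C.val * B.val = -(B.val * C.val) := by
  let f : (Fin 3 → F) →ₗ[F] (Fin 2 → F) :=
    { toFun := fun v => ![2 * A.val 0 0 * v 0 + A.val 1 0 * v 1 + A.val 0 1 * v 2,
        2 * B.val 0 0 * v 0 + B.val 1 0 * v 1 + B.val 0 1 * v 2]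
      map_add' := fun u v => by ext i; fin_cases i <;> simp <;> ring
      map_smul' := fun c v => by ext i; fin_cases i <;> simp <;> ring }
  have hker : LinearMap.ker f ≠ ⊥ := LinearMap.ker_ne_bot_of_finrank_lt (by simp)
  obtain ⟨v, hv, hv0⟩ := Submodule.exists_mem_ne_zero_of_ne_bot hker
  rw [LinearMap.mem_ker] at hv
  have e1 : 2 * A.val 0 0 * v 0 + A.val 1 0 * v 1 + A.val 0 1 * v 2 = 0 := congrFun hv 0
  have e2 : 2 * B.val 0 0 * v 0 + B.val 1 0 * v 1 + B.val 0 1 * v 2 = 0 := congrFun hv 1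
  have a11 : A.val 1 1 = -A.val 0 0 := by rw [Matrix.trace_fin_two] at hA; linear_combination hA
  have b11 : B.val 1 1 = -B.val 0 0 := by rw [Matrix.trace_fin_two] at hB; linear_combination hB
  have anti : ∀ M : Matrix (Fin 2) (Fin 2) F, M 1 1 = -M 0 0 →
      2 * M 0 0 * v 0 + M 1 0 * v 1 + M 0 1 * v 2 = 0 →
      !![v 0, v 1; v 2, -v 0] * M = -(M * !![v 0, v 1; v 2, -v 0]) := by
    intro M hM e
    ext i j
    fin_cases i <;> fin_cases j <;> simp [Matrix.mul_apply, Fin.sum_univ_two, hM] <;>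
      first | linear_combination e | linear_combination -e | ring
  have hdet : (!![v 0, v 1; v 2, -v 0] : Matrix (Fin 2) (Fin 2) F).det ≠ 0 := by
    intro hd
    simp only [Matrix.det_fin_two_of] at hd
    have key : ∀ w : Fin 2 → F, w ≠ 0 → (!![v 0, v 1; v 2, -v 0] : Matrix (Fin 2) (Fin 2) F) *ᵥ w = 0 →
        ∀ u, (!![v 0, v 1; v 2, -v 0] : Matrix (Fin 2) (Fin 2) F) *ᵥ u = 0 → u 0 * w 1 = u 1 * w 0 := by
      intro w _ hw u hu
      have w0 := congrFun hw 0
      have w1 := congrFun hw 1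
      have u0 := congrFun hu 0
      have u1 := congrFun hu 1
      simp [Matrix.mulVec, dotProduct, Fin.sum_univ_two] at w0 w1 u0 u1
      by_contra hne
      have hne' := sub_ne_zero.2 hne
      apply hv0
      funext i
      fin_cases i
      · exact (mul_eq_zero.1 (show v 0 * (u 0 * w 1 - u 1 * w 0) = 0 by
          linear_combination (w 1) * u0 - (u 1) * w0)).resolve_right hne'
      · exact (mul_eq_zero.1 (show v 1 * (u 0 * w 1 - u 1 * w 0) = 0 by
          linear_combination (u 0) * w0 - (w 0) * u0)).resolve_right hne'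
      · exact (mul_eq_zero.1 (show v 2 * (u 0 * w 1 - u 1 * w 0) = 0 by
          linear_combination (w 1) * u1 - (u 1) * w1)).resolve_right hne'
    obtain ⟨w, hw0, hw⟩ := Matrix.exists_mulVec_eq_zero_iff.2
      (show (!![v 0, v 1; v 2, -v 0] : Matrix (Fin 2) (Fin 2) F).det = 0 by
        rw [Matrix.det_fin_two_of]; exact hd)
    have hAw : (!![v 0, v 1; v 2, -v 0] : Matrix (Fin 2) (Fin 2) F) *ᵥ (A.val *ᵥ w) = 0 := by
      rw [Matrix.mulVec_mulVec, anti _ a11 e1, Matrix.neg_mulVec, ← Matrix.mulVec_mulVec, hw,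
        Matrix.mulVec_zero, neg_zero]
    have hk := key w hw0 hw _ hAw
    simp [Matrix.mulVec, dotProduct, Fin.sum_univ_two, a11] at hk
    rw [Matrix.det_fin_two, a11] at hsq
    by_cases hwz : w 0 = 0
    · have hw1 : w 1 ≠ 0 := fun h => hw0 (by funext i; fin_cases i <;> assumption)
      rw [hwz] at hk
      have h01 : A.val 0 1 = 0 := (mul_eq_zero.1 (show A.val 0 1 * (w 1 * w 1) = 0 by
        linear_combination hk)).resolve_right (mul_ne_zero hw1 hw1)
      exact hsq (A.val 0 0) (by rw [h01]; ring)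
    · refine hsq ((A.val 0 0 * w 0 + A.val 0 1 * w 1) / w 0) ?_
      field_simp
      linear_combination (A.val 0 1) * hk
  refine ⟨GeneralLinearGroup.mkOfDetNeZero _ hdet, ?_, anti _ a11 e1, anti _ b11 e2⟩
  rw [Ne, QuotientGroup.eq_one_iff, mem_center_iff_scalar]
  rintro ⟨c, hc⟩
  have c00 := congrFun (congrFun hc 0) 0
  have c01 := congrFun (congrFun hc 0) 1
  have c10 := congrFun (congrFun hc 1) 0
  have c11 := congrFun (congrFun hc 1) 1
  simp [GeneralLinearGroup.mkOfDetNeZero] at c00 c01 c10 c11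
  apply hv0
  funext i
  fin_cases i
  · exact (mul_eq_zero.1 (show (2 : F) * v 0 = 0 by linear_combination c00 - c11)).resolve_left h2
  · exact c01
  · exact c10

theorem commute_of_anti {A C : GL (Fin 2) F} (h : C.val * A.val = -(A.val * C.val)) :
    (QuotientGroup.mk C : PG F) ∈ Subgroup.centralizer ({QuotientGroup.mk A} : Set (PG F)) := by
  rw [Subgroup.mem_centralizer_singleton_iff, ← QuotientGroup.mk_mul, ← QuotientGroup.mk_mul,
    QuotientGroup.eq, mem_center_iff_scalar]
  refine ⟨-1, ?_⟩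
  have e : (A * C).val = -(C * A).val := by rw [Units.val_mul, Units.val_mul, h, neg_neg]
  rw [Units.val_mul, e, Matrix.mul_neg, Units.inv_mul, neg_smul, one_smul]

end


/-- Let q = 2^k − 1 ≥ 7 be a prime and let G = PGL(2,q), the general linear group of degree 2 over the field with q elements modulo its centre. Then any two Sylow 2-subgroups of G have a non-trivial intersection: for a Sylow 2-subgroup H and every x ∈ G, H ∩ H^x ≠ 1. -/
theorem result {q k : ℕ} [Fact q.Prime] (hk : q + 1 = 2 ^ k) (hq : 7 ≤ q)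
    (H : Sylow 2 (GL (Fin 2) (ZMod q) ⧸ Subgroup.center (GL (Fin 2) (ZMod q))))
    (x : GL (Fin 2) (ZMod q) ⧸ Subgroup.center (GL (Fin 2) (ZMod q))) :
    (H : Subgroup (GL (Fin 2) (ZMod q) ⧸ Subgroup.center (GL (Fin 2) (ZMod q)))) ⊓ MulAut.conj x • (H : Subgroup _) ≠ ⊥ := by
  classical
  have hqp : q.Prime := Fact.out
  have h2F : (2 : ZMod q) ≠ 0 := by
    intro h
    have h' : ((2 : ℕ) : ZMod q) = 0 := by exact_mod_cast h
    rw [CharP.cast_eq_zero_iff (ZMod q) q] at h'
    have := Nat.le_of_dvd (by norm_num) h'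
    omega
  have hk3 : 3 ≤ k := by
    by_contra hc
    have : 2 ^ k ≤ 2 ^ 2 := Nat.pow_le_pow_right (by norm_num) (by omega)
    omega
  have hHcard : Nat.card (H : Subgroup (PG (ZMod q))) = 2 * (q + 1) := by
    rw [H.card_eq_multiplicity]
    have hG : Nat.card (PG (ZMod q)) = (q + 1) * (q * (q - 1)) := by
      have h := Cfsg.Agent.Lib.LinGroup.card_PGL_mul_units (ι := Fin 2) (R := ZMod q)
      rw [Cfsg.Agent.Lib.LinGroup.card_GL_fintype, ZMod.card, Nat.card_eq_fintype_card (α := (ZMod q)ˣ),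
        ZMod.card_units] at h
      simp [Fin.prod_univ_two] at h
      have : (q ^ 2 - 1) * (q ^ 2 - q) = (q + 1) * (q * (q - 1)) * (q - 1) := by
        obtain ⟨d, rfl⟩ : ∃ d, q = d + 1 := ⟨q - 1, by omega⟩
        have e1 : (d + 1) ^ 2 - 1 = d * (d + 2) := by
          rw [Nat.sub_eq_iff_eq_add (Nat.one_le_pow _ _ (by omega))]; ring
        have e2 : (d + 1) ^ 2 - (d + 1) = d * (d + 1) := by
          rw [Nat.sub_eq_iff_eq_add (Nat.le_self_pow (by norm_num) _)]; ring
        rw [e1, e2, Nat.add_sub_cancel]; ring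
      rw [this] at h
      exact Nat.eq_of_mul_eq_mul_right (by omega) h
    rw [hG, hk]
    obtain ⟨m, hm⟩ : ∃ m, q = 8 * m + 7 := by
      have : 8 ∣ 2 ^ k := by rw [show 8 = 2 ^ 3 from rfl]; exact Nat.pow_dvd_pow 2 hk3
      exact ⟨(q - 7) / 8, by omega⟩
    have hodd : ¬ 2 ∣ q * ((q - 1) / 2) := by
      rw [Nat.prime_two.dvd_mul]; omega
    have heq : q * (q - 1) = 2 * (q * ((q - 1) / 2)) := by
      rw [Nat.mul_left_comm 2]; congr 1; omega
    rw [heq, ← mul_assoc, ← pow_succ, Nat.factorization_mul (pow_ne_zero _ two_ne_zero) (fun h => hodd (by rw [h]; exact dvd_zero 2)),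
      Nat.Prime.factorization_pow Nat.prime_two, Finsupp.add_apply, Finsupp.single_eq_same,
      Nat.factorization_eq_zero_of_not_dvd hodd, add_zero, pow_succ, mul_comm]
  have central : ∀ (P : Sylow 2 (PG (ZMod q))), ∃ A : GL (Fin 2) (ZMod q), A.val.trace = 0 ∧
      (∀ l : ZMod q, l * l ≠ -A.val.det) ∧
      (P : Subgroup (PG (ZMod q))) = Subgroup.centralizer {(QuotientGroup.mk A : PG (ZMod q))} := by
    intro P
    have hPc : Nat.card (P : Subgroup (PG (ZMod q))) = 2 * (q + 1) := by
      rw [← hHcard, P.card_eq_multiplicity, H.card_eq_multiplicity]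
    have : Nontrivial (P : Subgroup (PG (ZMod q))) := Finite.one_lt_card_iff_nontrivial.1 (by omega)
    have : Nontrivial (Subgroup.center (P : Subgroup (PG (ZMod q)))) := P.2.center_nontrivial
    obtain ⟨z, hz⟩ := exists_prime_orderOf_dvd_card' (G := Subgroup.center (P : Subgroup (PG (ZMod q)))) 2 (by
      obtain ⟨j, hj⟩ := (P.2.to_subgroup (Subgroup.center (P : Subgroup (PG (ZMod q))))).exists_card_eq
      rw [hj]
      refine dvd_pow_self 2 ?_
      rintro rfl
      have := Finite.one_lt_card (α := Subgroup.center (P : Subgroup (PG (ZMod q))))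
      omega)
    obtain ⟨A, hA⟩ := QuotientGroup.mk_surjective (z.1.1 : PG (ZMod q))
    have ho : orderOf (z.1.1 : PG (ZMod q)) = 2 := by rw [Subgroup.orderOf_coe, Subgroup.orderOf_coe, hz]
    have hA1 : (QuotientGroup.mk A : PG (ZMod q)) ≠ 1 := by
      rw [hA]; intro h; rw [h, orderOf_one] at ho; omega
    have hA2 : (QuotientGroup.mk A : PG (ZMod q)) * QuotientGroup.mk A = 1 := by
      rw [hA, ← sq]; exact orderOf_dvd_iff_pow_eq_one.1 (by rw [ho])
    obtain ⟨htr, hns⟩ := trace_zero_of_involution hA1 hA2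
    have hle : (P : Subgroup (PG (ZMod q))) ≤ Subgroup.centralizer {(QuotientGroup.mk A : PG (ZMod q))} := by
      intro y hy
      rw [Subgroup.mem_centralizer_singleton_iff, hA]
      exact congrArg Subtype.val (Subgroup.mem_center_iff.1 z.2 ⟨y, hy⟩)
    have hb := card_centralizer_mul_le A
    have hcle := Subgroup.card_le_of_le hle
    rw [hPc] at hcle
    rw [ZMod.card] at hb
    refine ⟨A, htr, fun l hl => ?_, ?_⟩
    · have hs := split_bound h2F htr hns hl
      rw [ZMod.card] at hs
      have h1 : 2 * (q + 1) * (q - 1) ≤ 2 * ((q - 1) * (q - 1)) :=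
        le_trans (Nat.mul_le_mul_right _ hcle) (hb.trans hs)
      have h2 : 2 * ((q - 1) * (q - 1)) < 2 * (q + 1) * (q - 1) := by
        rw [← mul_assoc]
        exact Nat.mul_lt_mul_of_pos_right (by omega) (by omega)
      exact absurd (lt_of_lt_of_le h2 h1) (lt_irrefl _)
    · refine Subgroup.eq_of_le_of_card_ge hle ?_
      rw [hPc]
      refine Nat.le_of_mul_le_mul_right ?_ (show 0 < q - 1 by omega)
      refine hb.trans ((any_bound hns).trans ?_)
      rw [ZMod.card, mul_assoc]
      obtain ⟨d, rfl⟩ : ∃ d, q = d + 1 := ⟨q - 1, by omega⟩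
      rw [Nat.add_sub_cancel, show (d + 1) * (d + 1) = (d + 1 + 1) * d + 1 by ring, Nat.add_sub_cancel]
  obtain ⟨A, hA, hAns, hHA⟩ := central H
  obtain ⟨B, hB, -, hHB⟩ := central (x • H)
  obtain ⟨C, hC1, hCA, hCB⟩ := exists_common hA hB hAns h2F
  intro hbot
  apply hC1
  rw [← Subgroup.mem_bot, ← hbot]
  refine Subgroup.mem_inf.2 ⟨?_, ?_⟩
  · rw [hHA]; exact commute_of_anti hCA
  · rw [Sylow.coe_subgroup_smul] at hHB
    rw [hHB]; exact commute_of_anti hCB

end Cfsg.Agent.S2485
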