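import Mathlib
import Cfsg.Statements.S2486
import Cfsg.Agent.Lib.GLFlags.Opposite
import Cfsg.Agent.Lib.LinGroup.SylowCard

set_option autoImplicit false
open scoped Pointwise
open Cfsg

namespace Cfsg.Agent.S2486

/-- Sylow 2-subgroups of an extension of `N` by `2` meet nontrivially if the conjugates opposite to a
Sylow subgroup of `N` form one double coset. -/
theorem inf_conj_ne_bot {G : Type*} [Group G] [Finite G] (N : Subgroup G) [N.Normal] (hidx : N.index = 2)
    (H : Sylow 2 G)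
    (hone : ∀ a ∈ N, ∀ b ∈ N,
      (∀ y ∈ N, y ∈ (H : Subgroup G) → a⁻¹ * y * a ∈ (H : Subgroup G) → y = 1) →
      (∀ y ∈ N, y ∈ (H : Subgroup G) → b⁻¹ * y * b ∈ (H : Subgroup G) → y = 1) →
      ∃ p ∈ (H : Subgroup G) ⊓ N, ∃ q ∈ (H : Subgroup G) ⊓ N, b = p * a * q)
    (x : G) : (H : Subgroup G) ⊓ MulAut.conj x • (H : Subgroup G) ≠ ⊥ := by
  obtain ⟨d, hd, hdN⟩ : ∃ d ∈ (H : Subgroup G), d ∉ N := by
    by_contra hc
    simp only [not_exists, not_and, not_not] at hc
    have h1 : N.index ∣ (H : Subgroup G).index := Subgroup.index_dvd_of_le hc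
    rw [hidx] at h1
    exact H.not_dvd_index h1
  obtain ⟨h0, hh0, n, hn, hx⟩ : ∃ h ∈ (H : Subgroup G), ∃ n ∈ N, x = n * h := by
    by_cases hxN : x ∈ N
    · exact ⟨1, one_mem _, x, hxN, (mul_one x).symm⟩
    · refine ⟨d, hd, x * d⁻¹, ?_, by group⟩
      exact (Subgroup.mul_mem_iff_of_index_two hidx).2 (iff_of_false hxN (fun h => hdN ((N.inv_mem_iff).1 h)))
  have hmem : ∀ y : G, y ∈ MulAut.conj x • (H : Subgroup G) ↔ n⁻¹ * y * n ∈ (H : Subgroup G) := by
    intro y
    rw [Subgroup.mem_pointwise_smul_iff_inv_smul_mem, hx]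
    constructor
    · intro h
      have := mul_mem (mul_mem hh0 h) (inv_mem hh0)
      simpa [MulAut.smul_def, mul_assoc] using this
    · intro h
      have := mul_mem (mul_mem (inv_mem hh0) h) hh0
      simpa [MulAut.smul_def, mul_assoc] using this
  intro hbot
  have hinter : ∀ y ∈ (H : Subgroup G), n⁻¹ * y * n ∈ (H : Subgroup G) → y = 1 := fun y hy hy' => by
    rw [← Subgroup.mem_bot, ← hbot]
    exact Subgroup.mem_inf.2 ⟨hy, (hmem y).2 hy'⟩
  obtain ⟨p, hp, q, hq, e⟩ := hone n hn (d * n * d⁻¹) (‹N.Normal›.conj_mem n hn d)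
    (fun y _ hy hy' => hinter y hy hy') (fun y hyN hy hy' => by
      have h1 : d⁻¹ * y * d ∈ (H : Subgroup G) := mul_mem (mul_mem (inv_mem hd) hy) hd
      have h2 : n⁻¹ * (d⁻¹ * y * d) * n ∈ (H : Subgroup G) := by
        have := mul_mem (mul_mem (inv_mem hd) hy') hd
        simpa [mul_assoc] using this
      have h3 := hinter _ h1 h2
      have := congrArg (fun z => d * z * d⁻¹) h3
      simpa [mul_assoc] using this)
  have hy := hinter (p⁻¹ * d) (mul_mem (inv_mem hp.1) hd) (by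
    have : n⁻¹ * (p⁻¹ * d) * n = q * d := by
      calc n⁻¹ * (p⁻¹ * d) * n = n⁻¹ * p⁻¹ * (d * n * d⁻¹) * d := by group
        _ = n⁻¹ * p⁻¹ * (p * n * q) * d := by rw [e]
        _ = q * d := by group
    rw [this]
    exact mul_mem hq.1 hd)
  exact hdN (by rw [← inv_mul_eq_one.1 hy]; exact hp.2)


/-- Let n ≥ 4 and let G be a finite group with a normal subgroup N of index 2 isomorphic to SL(n,2) and with trivial centralizer in G (so G is the extension of the simple group L_n(2) by its inverse-transpose automorphism, its full automorphism group). Then any two Sylow 2-subgroups of G have a non-trivial intersection: for a Sylow 2-subgroup H and every x ∈ G, H ∩ H^x ≠ 1. -/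
theorem result {G : Type*} [Group G] [Finite G] {n : ℕ} (hn : 4 ≤ n) (N : Subgroup G) [N.Normal]
    (e : N ≃* Matrix.SpecialLinearGroup (Fin n) (ZMod 2)) (hidx : N.index = 2)
    (hC : Subgroup.centralizer (N : Set G) = ⊥)
    (H : Sylow 2 G) (x : G) :
    (H : Subgroup G) ⊓ MulAut.conj x • (H : Subgroup G) ≠ ⊥ := by
  classical
  refine inf_conj_ne_bot N hidx H ?_ x
  set U := Cfsg.upperTriangularGL n (ZMod 2)
  let f : N →* GL (Fin n) (ZMod 2) := Matrix.SpecialLinearGroup.toGL.comp e.toMonoidHom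
  have hfinj : Function.Injective f := Matrix.SpecialLinearGroup.toGL_injective.comp e.injective
  have hfsurj : Function.Surjective f := by
    intro u
    have hdet : u.val.det = 1 := by
      have h2 : ∀ a : ZMod 2, a ≠ 0 → a = 1 := by decide
      exact h2 _ ((Matrix.isUnit_iff_isUnit_det _).1 u.isUnit).ne_zero
    refine ⟨e.symm ⟨u.val, hdet⟩, Units.ext ?_⟩
    show (e (e.symm (⟨u.val, hdet⟩ : Matrix.SpecialLinearGroup (Fin n) (ZMod 2)))).1 = u.val
    exact congrArg Subtype.val (e.apply_symm_apply ⟨u.val, hdet⟩)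
  set P : Subgroup N := (H : Subgroup G).subgroupOf N with hP
  have hGL : (Nat.card (GL (Fin n) (ZMod 2))).factorization 2 = n * (n - 1) / 2 := by
    have h := Cfsg.Agent.Lib.LinGroup.factorization_card_GL (F := ZMod 2) 2 n
    rw [ZMod.card] at h
    exact Nat.pow_right_injective (le_refl 2) h
  have hcardN : Nat.card N = Nat.card (GL (Fin n) (ZMod 2)) :=
    Nat.card_congr (Equiv.ofBijective f ⟨hfinj, hfsurj⟩)
  have hPp : IsPGroup 2 P := H.2.comap_subtype
  have hPcard : Nat.card P = 2 ^ (n * (n - 1) / 2) := by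
    obtain ⟨j, hj⟩ := hPp.exists_card_eq
    have hle : j ≤ n * (n - 1) / 2 := by
      rw [← hGL, ← hcardN]
      exact (Nat.Prime.pow_dvd_iff_le_factorization Nat.prime_two Nat.card_pos.ne').1 (by rw [← hj]; exact Subgroup.card_subgroup_dvd_card P)
    have hHcard : Nat.card (H : Subgroup G) = 2 ^ (n * (n - 1) / 2 + 1) := by
      rw [H.card_eq_multiplicity, ← Subgroup.card_mul_index N, hidx,
        Nat.factorization_mul Nat.card_pos.ne' two_ne_zero, Finsupp.add_apply, hcardN, hGL,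
        Nat.Prime.factorization_self Nat.prime_two]
    have hrel : N.relIndex (H : Subgroup G) ∣ 2 := (Subgroup.relIndex_dvd_index_of_normal N (H : Subgroup G)).trans (dvd_of_eq hidx)
    have hPc : Nat.card P = Nat.card (N ⊓ (H : Subgroup G) : Subgroup G) := by
      rw [hP, ← Subgroup.card_map_of_injective N.subtype_injective, Subgroup.subgroupOf_map_subtype,
        inf_comm]
    have hmul : Nat.card P * N.relIndex (H : Subgroup G) = 2 ^ (n * (n - 1) / 2 + 1) := by
      rw [← hHcard, ← Subgroup.inf_relIndex_right, hPc, ← Subgroup.card_mul_index ((N ⊓ (H : Subgroup G)).subgroupOf (H : Subgroup G))]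
      congr 1
      exact (Nat.card_congr (Subgroup.subgroupOfEquivOfLe inf_le_right).toEquiv).symm
    have h2le := Nat.le_of_dvd (by norm_num) hrel
    rw [hj] at hmul ⊢
    have : 2 ^ (n * (n - 1) / 2 + 1) ≤ 2 ^ (j + 1) := by
      rw [← hmul, pow_succ]; exact Nat.mul_le_mul_left _ h2le
    rw [le_antisymm hle (by have := (Nat.pow_le_pow_iff_right (le_refl 2)).1 this; omega)]
  let S1 : Sylow 2 (GL (Fin n) (ZMod 2)) := Sylow.ofCard U
    (by rw [Cfsg.Agent.Lib.GLFlags.card_upperTriangular_two, hGL])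
  let S2 : Sylow 2 (GL (Fin n) (ZMod 2)) := Sylow.ofCard (P.map f)
    (by rw [Subgroup.card_map_of_injective hfinj, hPcard, hGL])
  obtain ⟨c, hc⟩ := MulAction.exists_smul_eq (GL (Fin n) (ZMod 2)) S2 S1
  have hcU : ∀ m : N, c * f m * c⁻¹ ∈ U ↔ (m : G) ∈ (H : Subgroup G) := by
    intro m
    have : U = MulAut.conj c • P.map f :=
      (congrArg (fun S : Sylow 2 _ => (S : Subgroup (GL (Fin n) (ZMod 2)))) hc).symm
    rw [this, show c * f m * c⁻¹ = MulAut.conj c • f m from rfl, Subgroup.smul_mem_pointwise_smul_iff,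
      Subgroup.mem_map_iff_mem hfinj]
    rfl
  have cell : ∀ a : N, (∀ y ∈ N, y ∈ (H : Subgroup G) → (a : G)⁻¹ * y * a ∈ (H : Subgroup G) → y = 1) →
      ∃ b ∈ U, ∃ b' ∈ U, c * f a * c⁻¹ = b * Cfsg.Agent.Lib.GLFlags.permGL Fin.revPerm * b' := by
    intro a ha
    refine Cfsg.Agent.Lib.GLFlags.exists_of_inf_conj_eq_bot _ fun y hy hy' => ?_
    obtain ⟨m, hm⟩ := hfsurj (c⁻¹ * y * c)
    have hym : y = c * f m * c⁻¹ := by rw [hm]; group
    rw [hym] at hy hy' ⊢
    have e1 : (c * f a * c⁻¹)⁻¹ * (c * f m * c⁻¹) * (c * f a * c⁻¹) = c * f (a⁻¹ * m * a) * c⁻¹ := by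
      rw [map_mul, map_mul, map_inv]; group
    rw [e1, hcU] at hy'
    rw [hcU] at hy
    have := ha m m.2 hy (by simpa using hy')
    rw [show m = 1 from Subtype.ext this, map_one]; group
  intro a ha b hb hopA hopB
  obtain ⟨b1, hb1, b1', hb1', ea⟩ := cell ⟨a, ha⟩ hopA
  obtain ⟨b2, hb2, b2', hb2', eb⟩ := cell ⟨b, hb⟩ hopB
  obtain ⟨p, hp⟩ := hfsurj (c⁻¹ * (b2 * b1⁻¹) * c)
  obtain ⟨q, hq⟩ := hfsurj (c⁻¹ * (b1'⁻¹ * b2') * c)
  have hpU : c * f p * c⁻¹ ∈ U := by
    rw [hp, show c * (c⁻¹ * (b2 * b1⁻¹) * c) * c⁻¹ = b2 * b1⁻¹ by group]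
    exact mul_mem hb2 (inv_mem hb1)
  have hqU : c * f q * c⁻¹ ∈ U := by
    rw [hq, show c * (c⁻¹ * (b1'⁻¹ * b2') * c) * c⁻¹ = b1'⁻¹ * b2' by group]
    exact mul_mem (inv_mem hb1') hb2'
  refine ⟨p, ⟨(hcU p).1 hpU, p.2⟩, q, ⟨(hcU q).1 hqU, q.2⟩, ?_⟩
  have : f ⟨b, hb⟩ = f (p * ⟨a, ha⟩ * q) := by
    have e1 : f ⟨a, ha⟩ = c⁻¹ * (b1 * Cfsg.Agent.Lib.GLFlags.permGL Fin.revPerm * b1') * c := by
      rw [← ea]; group
    have e2 : f ⟨b, hb⟩ = c⁻¹ * (b2 * Cfsg.Agent.Lib.GLFlags.permGL Fin.revPerm * b2') * c := by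
      rw [← eb]; group
    rw [map_mul, map_mul, hp, hq, e1, e2]; group
  exact congrArg Subtype.val (hfinj this)

end Cfsg.Agent.S2486
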