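import Mathlib
import Cfsg.Statements.S2487
-- import your own Cfsg.Agent.* helpers here

set_option autoImplicit false
open scoped Pointwise
open Cfsg

namespace Cfsg.Agent.S2487

open Matrix Finset

variable {F : Type*} [Field F] {m : ℕ}

/-- the space -/
abbrev E (F : Type*) (m : ℕ) := Fin m ⊕ Fin m → F

/-- the quadratic form -/
abbrev Q (x : E F m) : F := Cfsg.quadFormPlus m F x

/-- its polar form -/
def B (x y : E F m) : F := ∑ i, (x (.inl i) * y (.inr i) + x (.inr i) * y (.inl i))

theorem Q_add (x y : E F m) : Q (x + y) = Q x + Q y + B x y := by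
  simp only [Q, Cfsg.quadFormPlus, B, Pi.add_apply, ← Finset.sum_add_distrib]
  exact Finset.sum_congr rfl fun i _ => by ring

theorem B_comm (x y : E F m) : B x y = B y x := Finset.sum_congr rfl fun i _ => by ring

theorem B_add_right (x y z : E F m) : B x (y + z) = B x y + B x z := by
  simp only [B, Pi.add_apply, ← Finset.sum_add_distrib]
  exact Finset.sum_congr rfl fun i _ => by ring

theorem B_smul_right (c : F) (x y : E F m) : B x (c • y) = c * B x y := by
  simp only [B, Pi.smul_apply, smul_eq_mul, Finset.mul_sum]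
  exact Finset.sum_congr rfl fun i _ => by ring

theorem B_sub_right (x y z : E F m) : B x (y - z) = B x y - B x z := by
  rw [eq_sub_iff_add_eq, ← B_add_right, sub_add_cancel]

theorem Q_zero : Q (0 : E F m) = 0 := by simp [Q, Cfsg.quadFormPlus]

theorem B_zero_right (x : E F m) : B x 0 = 0 := by simp [B]

theorem B_zero_left (x : E F m) : B 0 x = 0 := by rw [B_comm, B_zero_right]

theorem exists_B_ne {u : E F m} (hu : u ≠ 0) : ∃ x, B u x = 1 := by
  classical
  obtain ⟨i, hi⟩ := Function.ne_iff.1 hu
  simp only [Pi.zero_apply] at hi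
  rcases i with i | i
  · refine ⟨Pi.single (Sum.inr i) (u (Sum.inl i))⁻¹, ?_⟩
    simp [B, Pi.single_apply, hi]
  · refine ⟨Pi.single (Sum.inl i) (u (Sum.inr i))⁻¹, ?_⟩
    simp [B, Pi.single_apply, hi]

open Classical in
/-- additive character of `F₂` -/
noncomputable def eps (a : F) : ℤ := if a = 0 then 1 else -1

theorem bit [Fintype F] (hF : Fintype.card F = 2) (a : F) : a = 0 ∨ a = 1 := by
  classical
  have h : (Finset.univ : Finset F) = {0, 1} := by
    symm
    apply Finset.eq_univ_of_card
    rw [hF, Finset.card_pair zero_ne_one]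
  simpa [h] using Finset.mem_univ a

theorem add_self_F [Fintype F] (hF : Fintype.card F = 2) (a : F) : a + a = 0 := by
  have h2 : (2 : F) = 0 := by
    have := Nat.cast_card_eq_zero F
    rwa [hF, Nat.cast_ofNat] at this
  rw [← two_mul, h2, zero_mul]

theorem add_self_E [Fintype F] (hF : Fintype.card F = 2) (x : E F m) : x + x = 0 :=
  funext fun i => add_self_F hF (x i)

theorem eps_add [Fintype F] (hF : Fintype.card F = 2) (a b : F) : eps (a + b) = eps a * eps b := by
  rcases bit hF a with rfl | rfl <;> rcases bit hF b with rfl | rfl <;> simp [eps, add_self_F hF]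

theorem eps_sum [Fintype F] (hF : Fintype.card F = 2) {ι : Type*} (s : Finset ι) (f : ι → F) :
    eps (∑ i ∈ s, f i) = ∏ i ∈ s, eps (f i) := by
  classical
  induction s using Finset.induction_on with
  | empty => simp [eps]
  | insert a s ha ih => rw [Finset.sum_insert ha, Finset.prod_insert ha, eps_add hF, ih]

theorem sum_eps_Q [Fintype F] (hF : Fintype.card F = 2) :
    ∑ x : E F m, eps (Q x) = 2 ^ m := by
  classical
  have h1 : ∀ x : E F m, eps (Q x) = ∏ i : Fin m, eps (x (.inl i) * x (.inr i)) := fun x => eps_sum hF _ _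
  have h2 : ∑ p : F × F, eps (p.1 * p.2) = 2 := by
    have hu : (Finset.univ : Finset F) = {0, 1} := by
      symm
      apply Finset.eq_univ_of_card
      rw [hF, Finset.card_pair zero_ne_one]
    rw [Fintype.sum_prod_type]
    simp [hu, eps]
  rw [Finset.sum_congr rfl fun x _ => h1 x,
    Fintype.sum_equiv ((Equiv.sumArrowEquivProdArrow _ _ _).trans (Equiv.arrowProdEquivProdArrow _ _ _).symm)
      (fun x : E F m => ∏ i : Fin m, eps (x (.inl i) * x (.inr i)))
      (fun f : Fin m → F × F => ∏ i, eps ((f i).1 * (f i).2)) (fun x => rfl),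
    ← Fintype.prod_sum (fun (_ : Fin m) (p : F × F) => eps (p.1 * p.2))]
  simp [h2]

open Classical in
/-- the perp of a set -/
noncomputable def perp [Fintype F] (V : AddSubgroup (E F m)) : Finset (E F m) :=
  Finset.univ.filter fun x => ∀ v ∈ V, B v x = 0

theorem mem_perp [Fintype F] {V : AddSubgroup (E F m)} {x : E F m} :
    x ∈ perp V ↔ ∀ v ∈ V, B v x = 0 := by simp [perp]

open Classical in
theorem sum_eps_B [Fintype F] (hF : Fintype.card F = 2) (V : AddSubgroup (E F m)) (x : E F m) :
    ∑ v : V, eps (B (v : E F m) x) = if x ∈ perp V then (Fintype.card V : ℤ) else 0 := by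
  split_ifs with h
  · rw [mem_perp] at h
    simp [fun v : V => h v.1 v.2, eps]
  · rw [mem_perp] at h
    push Not at h
    obtain ⟨w, hw, hne⟩ := h
    have hw1 : B w x = 1 := (bit hF _).resolve_left hne
    have key : ∑ v : V, eps (B (v : E F m) x) = - ∑ v : V, eps (B (v : E F m) x) := by
      conv_lhs => rw [← Equiv.sum_comp (Equiv.addRight (⟨w, hw⟩ : V))]
      rw [← Finset.sum_neg_distrib]
      refine Finset.sum_congr rfl fun v _ => ?_
      rw [Equiv.coe_addRight, AddSubgroup.coe_add, B_comm, B_add_right, eps_add hF, B_comm x v, B_comm x w, hw1]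
      simp [eps]
    omega

theorem card_perp_mul [Fintype F] (hF : Fintype.card F = 2) (V : AddSubgroup (E F m)) :
    (perp V).card * Nat.card V = 2 ^ (2 * m) := by
  classical
  have h : ∑ x : E F m, ∑ v : V, eps (B (v : E F m) x) = (Fintype.card (E F m) : ℤ) := by
    rw [Finset.sum_comm, Fintype.sum_eq_single (0 : V)]
    · simp [B_zero_left, eps]
    · intro v hv
      obtain ⟨z, hz⟩ := exists_B_ne (show (v : E F m) ≠ 0 from fun h => hv (Subtype.ext h))
      have key : ∑ x : E F m, eps (B (v : E F m) x) = - ∑ x : E F m, eps (B (v : E F m) x) := by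
        conv_lhs => rw [← Equiv.sum_comp (Equiv.addRight z)]
        rw [← Finset.sum_neg_distrib]
        refine Finset.sum_congr rfl fun x _ => ?_
        rw [Equiv.coe_addRight, B_add_right, eps_add hF, hz]
        simp [eps]
      omega
  simp only [sum_eps_B hF, Finset.sum_ite, Finset.sum_const_zero, add_zero, Finset.sum_const, nsmul_eq_mul] at h
  have hc : (Finset.univ.filter fun x => x ∈ perp V) = perp V := by ext; simp
  rw [hc] at h
  rw [Nat.card_eq_fintype_card]
  have hE : Fintype.card (E F m) = 2 ^ (2 * m) := by simp [hF, two_mul]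
  rw [← hE]
  exact_mod_cast h

/-- totally singular -/
def TS (V : AddSubgroup (E F m)) : Prop := ∀ v ∈ V, Q v = 0

theorem TS.B_eq_zero {V : AddSubgroup (E F m)} (h : TS V) {v w : E F m} (hv : v ∈ V) (hw : w ∈ V) :
    B v w = 0 := by
  have := Q_add v w
  rw [h _ (add_mem hv hw), h v hv, h w hw, zero_add, zero_add] at this
  exact this.symm

theorem TS.le_perp [Fintype F] {V : AddSubgroup (E F m)} (h : TS V) {v : E F m} (hv : v ∈ V) :
    v ∈ perp V := mem_perp.2 fun _ hw => h.B_eq_zero hw hv

open Classical in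
/-- singular vectors in the perp -/
noncomputable def sing [Fintype F] (V : AddSubgroup (E F m)) : Finset (E F m) :=
  (perp V).filter fun x => Q x = 0

open Classical in
/-- singular vectors in the perp outside `V` -/
noncomputable def ext' [Fintype F] (V : AddSubgroup (E F m)) : Finset (E F m) :=
  (sing V).filter fun x => x ∉ V

theorem mem_ext' [Fintype F] {V : AddSubgroup (E F m)} {x : E F m} :
    x ∈ ext' V ↔ (∀ v ∈ V, B v x = 0) ∧ Q x = 0 ∧ x ∉ V := by
  simp [ext', sing, mem_perp, and_assoc]

theorem card_sing [Fintype F] (hF : Fintype.card F = 2) {V : AddSubgroup (E F m)} (hV : TS V) :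
    2 * (sing V).card = (perp V).card + 2 ^ m := by
  classical
  have h1 : ∑ x : E F m, ∑ v : V, eps (Q (x + (v : E F m))) = (Fintype.card V : ℤ) * 2 ^ m := by
    rw [Finset.sum_comm]
    have : ∀ v : V, ∑ x : E F m, eps (Q (x + (v : E F m))) = 2 ^ m := fun v => by
      rw [← sum_eps_Q (m := m) hF]
      exact Equiv.sum_comp (Equiv.addRight (v : E F m)) (fun x => eps (Q x))
    simp [this]
  have h2 : ∀ x : E F m, ∑ v : V, eps (Q (x + (v : E F m))) =
      (Fintype.card V : ℤ) * (if x ∈ perp V then eps (Q x) else 0) := by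
    intro x
    have : ∀ v : V, eps (Q (x + (v : E F m))) = eps (Q x) * eps (B (v : E F m) x) := fun v => by
      rw [Q_add, hV _ v.2, add_zero, eps_add hF, B_comm]
    rw [Finset.sum_congr rfl fun v _ => this v, ← Finset.mul_sum, sum_eps_B hF]
    split_ifs <;> ring
  rw [Finset.sum_congr rfl fun x _ => h2 x, ← Finset.mul_sum] at h1
  have h3 := mul_left_cancel₀ (show (Fintype.card V : ℤ) ≠ 0 by exact_mod_cast Fintype.card_ne_zero) h1
  rw [← Finset.sum_filter, show (Finset.univ.filter fun x => x ∈ perp V) = perp V by ext; simp] at h3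
  have h4 : ∀ x ∈ perp V, eps (Q x) = 2 * (if Q x = 0 then (1 : ℤ) else 0) - 1 := fun x _ => by
    unfold eps
    split_ifs <;> norm_num
  rw [Finset.sum_congr rfl h4, Finset.sum_sub_distrib, ← Finset.mul_sum, Finset.sum_boole,
    Finset.sum_const, nsmul_one] at h3
  have h5 : ((2 * (sing V).card : ℕ) : ℤ) = (((perp V).card + 2 ^ m : ℕ) : ℤ) := by
    rw [sing]; push_cast; linarith
  exact_mod_cast h5

theorem card_ext' [Fintype F] (hF : Fintype.card F = 2) {V : AddSubgroup (E F m)} (hV : TS V) :
    (ext' V).card + Nat.card V = (sing V).card := by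
  classical
  rw [ext', Nat.card_eq_fintype_card, show Fintype.card V = (Finset.univ.filter fun x : E F m => x ∈ V).card from
    Fintype.card_subtype (fun x : E F m => x ∈ V)]
  have : (Finset.univ.filter fun x : E F m => x ∈ V) = (sing V).filter fun x => x ∈ V := by
    ext x
    simp only [Finset.mem_filter, Finset.mem_univ, true_and, sing]
    exact ⟨fun h => ⟨⟨hV.le_perp h, hV x h⟩, h⟩, fun h => h.2⟩
  rw [this, add_comm]
  exact Finset.card_filter_add_card_filter_not (fun x => x ∈ V)

theorem coset_mem_ext' [Fintype F] {V : AddSubgroup (E F m)} (hV : TS V) {x v : E F m}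
    (hx : x ∈ ext' V) (hv : v ∈ V) : x + v ∈ ext' V := by
  rw [mem_ext'] at hx ⊢
  refine ⟨fun w hw => ?_, ?_, fun h => hx.2.2 ?_⟩
  · rw [B_add_right, hx.1 w hw, hV.B_eq_zero hw hv, add_zero]
  · rw [Q_add, hx.2.1, hV v hv, B_comm, hx.1 v hv]; simp
  · simpa using sub_mem h hv

/-- `V ∪ (x + V)` -/
def adjoin [Fintype F] (hF : Fintype.card F = 2) (V : AddSubgroup (E F m)) (x : E F m) :
    AddSubgroup (E F m) where
  carrier := {y | y ∈ V ∨ y - x ∈ V}
  zero_mem' := Or.inl V.zero_mem
  add_mem' := by
    rintro a b (ha | ha) (hb | hb)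
    · exact Or.inl (add_mem ha hb)
    · exact Or.inr (by have := add_mem ha hb; rwa [← add_sub_assoc] at this)
    · exact Or.inr (by have := add_mem ha hb; rwa [sub_add_eq_add_sub] at this)
    · left
      have := add_mem ha hb
      rwa [sub_add_sub_comm, add_self_E hF, sub_zero] at this
  neg_mem' := by
    intro a ha
    rwa [neg_eq_of_add_eq_zero_left (add_self_E hF a)]

theorem mem_adjoin [Fintype F] {hF : Fintype.card F = 2} {V : AddSubgroup (E F m)} {x y : E F m} :
    y ∈ adjoin hF V x ↔ y ∈ V ∨ y - x ∈ V := Iff.rfl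

theorem card_adjoin [Fintype F] (hF : Fintype.card F = 2) {V : AddSubgroup (E F m)} {x : E F m}
    (hx : x ∉ V) : Nat.card (adjoin hF V x) = 2 * Nat.card V := by
  classical
  let f : V ⊕ V → adjoin hF V x := Sum.elim (fun v => ⟨v.1, Or.inl v.2⟩)
    (fun v => ⟨v.1 + x, Or.inr (by simp)⟩)
  have hf : Function.Bijective f := by
    constructor
    · rintro (a | a) (b | b) h <;> replace h := congrArg Subtype.val h <;>
        simp only [f, Sum.elim_inl, Sum.elim_inr] at h
      · exact congrArg _ (Subtype.ext h)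
      · exact absurd (by rw [← sub_eq_iff_eq_add'.2 h]; exact sub_mem a.2 b.2) hx
      · exact absurd (by rw [← sub_eq_iff_eq_add'.2 h.symm]; exact sub_mem b.2 a.2) hx
      · exact congrArg _ (Subtype.ext (add_right_cancel h))
    · rintro ⟨y, hy | hy⟩
      · exact ⟨Sum.inl ⟨y, hy⟩, rfl⟩
      · exact ⟨Sum.inr ⟨y - x, hy⟩, Subtype.ext (sub_add_cancel y x)⟩
  rw [← Nat.card_eq_of_bijective f hf, Nat.card_sum, two_mul]

section Group

variable [Fintype F]

/-- the orthogonal group -/
abbrev O (F : Type*) [Field F] (m : ℕ) := Cfsg.isometryGroup F (Cfsg.quadFormPlus m F)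

/-- the action of an isometry -/
def act (g : O F m) (x : E F m) : E F m := g.1.val *ᵥ x

omit [Fintype F] in
theorem act_mul (g h : O F m) (x : E F m) : act (g * h) x = act g (act h x) := by
  simp [act, Matrix.mulVec_mulVec]

omit [Fintype F] in
theorem act_one (x : E F m) : act (1 : O F m) x = x := by simp [act]

omit [Fintype F] in
theorem act_add (g : O F m) (x y : E F m) : act g (x + y) = act g x + act g y := Matrix.mulVec_add _ _ _

omit [Fintype F] in
theorem act_sub (g : O F m) (x y : E F m) : act g (x - y) = act g x - act g y := Matrix.mulVec_sub _ _ _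

omit [Fintype F] in
theorem act_Q (g : O F m) (x : E F m) : Q (act g x) = Q x := g.2 x x

omit [Fintype F] in
theorem act_B (g : O F m) (x y : E F m) : B (act g x) (act g y) = B x y := by
  have h1 := Q_add (act g x) (act g y)
  rw [← act_add, act_Q, act_Q, act_Q, Q_add x y] at h1
  exact (add_left_cancel h1).symm

omit [Fintype F] in
theorem act_inv (g : O F m) (x : E F m) : act g⁻¹ (act g x) = x := by
  rw [← act_mul, inv_mul_cancel, act_one]

omit [Fintype F] in
theorem act_inv' (g : O F m) (x : E F m) : act g (act g⁻¹ x) = x := by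
  rw [← act_mul, mul_inv_cancel, act_one]

/-- a 2-group fixes a totally singular subgroup of each order `2^j`, `j < m` -/
theorem exists_stable (hF : Fintype.card F = 2) (H : Subgroup (O F m)) (hH : IsPGroup 2 H) :
    ∀ j, j + 1 ≤ m → ∃ V : AddSubgroup (E F m), TS V ∧ Nat.card V = 2 ^ j ∧
      ∀ g ∈ H, ∀ v ∈ V, act g v ∈ V := by
  classical
  intro j
  induction j with
  | zero =>
    intro _
    exact ⟨⊥, fun v hv => by rw [AddSubgroup.mem_bot.1 hv]; exact Q_zero, by simp,
      fun g _ v hv => by rw [AddSubgroup.mem_bot.1 hv]; simp [act]⟩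
  | succ j ih =>
    intro hj
    obtain ⟨V, hV, hcard, hst⟩ := ih (by omega)
    have hext : ∀ g ∈ H, ∀ x ∈ ext' V, act g x ∈ ext' V := by
      intro g hg x hx
      rw [mem_ext'] at hx ⊢
      refine ⟨fun v hv => ?_, by rw [act_Q]; exact hx.2.1, fun h => hx.2.2 ?_⟩
      · rw [← act_inv' g v, act_B]
        exact hx.1 _ (hst _ (inv_mem hg) v hv)
      · have := hst _ (inv_mem hg) _ h
        rwa [act_inv] at this
    let W : Finset (AddSubgroup (E F m)) := (ext' V).image (adjoin hF V)
    have hWcard : (ext' V).card = W.card * 2 ^ j := by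
      rw [Finset.card_eq_sum_card_image (adjoin hF V) (ext' V)]
      refine Finset.sum_const_nat fun U hU => ?_
      obtain ⟨x, hx, rfl⟩ := Finset.mem_image.1 hU
      rw [← hcard, Nat.card_eq_fintype_card, ← Finset.card_univ]
      refine (Finset.card_bij' (fun (v : V) _ => x + (v : E F m)) (fun y _ => (if h : y - x ∈ V then ⟨y - x, h⟩ else 0 : V))
        ?_ ?_ ?_ ?_).symm
      · intro v _
        simp only [Finset.mem_filter]
        refine ⟨coset_mem_ext' hV hx v.2, ?_⟩
        refine AddSubgroup.ext fun y => ?_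
        rw [mem_adjoin, mem_adjoin, ← sub_sub]
        exact or_congr Iff.rfl ⟨fun h' => by simpa using add_mem h' v.2, fun h' => sub_mem h' v.2⟩
      · intro y _; exact Finset.mem_univ _
      · intro v _
        simp
      · intro y hy
        simp only [Finset.mem_filter] at hy
        have hyx : y - x ∈ V := by
          have : y ∈ adjoin hF V x := hy.2 ▸ (Or.inr (by simp) : y ∈ adjoin hF V y)
          exact this.resolve_left (mem_ext'.1 hy.1).2.2
        simp [hyx]
    have hodd : ¬ 2 ∣ W.card := by
      have h1 := card_perp_mul hF V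
      have h2 := card_sing hF hV
      have h3 := card_ext' hF hV
      rw [hcard] at h1 h3
      obtain ⟨k, rfl⟩ : ∃ k, m = j + 2 + k := ⟨m - (j + 2), by omega⟩
      have h4 : (perp V).card = 2 ^ (2 * (j + 2 + k) - j) := by
        refine Nat.eq_of_mul_eq_mul_right (Nat.two_pow_pos j) ?_
        rw [h1, ← pow_add]; congr 1; omega
      rw [h4] at h2; rw [hWcard] at h3
      have e1 : 2 * (j + 2 + k) - j = j + (4 + 2 * k) := by omega
      have e2 : j + 2 + k = j + (2 + k) := by omega
      rw [e1, pow_add, show (2 : ℕ) ^ (j + 2 + k) = 2 ^ j * 2 ^ (2 + k) by rw [← pow_add, ← e2]] at h2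
      have key : 2 * W.card + 2 = 2 ^ (4 + 2 * k) + 2 ^ (2 + k) := by
        refine Nat.eq_of_mul_eq_mul_left (Nat.two_pow_pos j) ?_
        rw [mul_add, mul_add, ← h2, ← h3]; ring
      have hk4 : 4 ∣ 2 ^ (4 + 2 * k) + 2 ^ (2 + k) := by
        refine dvd_add ?_ ?_ <;> rw [show (4 : ℕ) = 2 ^ 2 from rfl] <;> exact Nat.pow_dvd_pow 2 (by omega)
      rw [← key] at hk4
      omega
    letI : MulAction H W :=
      { smul := fun g U => ⟨U.1.map (AddMonoidHom.mk' (act g.1) (act_add g.1)), by
          obtain ⟨U, hU⟩ := U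
          obtain ⟨x, hx, rfl⟩ := Finset.mem_image.1 hU
          refine Finset.mem_image.2 ⟨act g.1 x, hext g g.2 x hx, ?_⟩
          refine AddSubgroup.ext fun y => ?_
          rw [AddSubgroup.mem_map, mem_adjoin]
          constructor
          · rintro (hy | hy)
            · exact ⟨act g.1⁻¹ y, Or.inl (hst _ (inv_mem g.2) y hy), by simp [act_inv']⟩
            · exact ⟨act g.1⁻¹ y, Or.inr (by
                have := hst _ (inv_mem g.2) _ hy
                rwa [act_sub, act_inv] at this), by simp [act_inv']⟩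
          · rintro ⟨z, hz | hz, rfl⟩
            · exact Or.inl (hst _ g.2 z hz)
            · exact Or.inr (by simpa [act_sub] using hst _ g.2 _ hz)⟩
        one_smul := fun U => Subtype.ext (by
          show U.1.map _ = U.1
          refine AddSubgroup.ext fun y => ?_
          simp [AddSubgroup.mem_map, act_one])
        mul_smul := fun a b U => Subtype.ext (by
          show U.1.map _ = (U.1.map _).map _
          rw [AddSubgroup.map_map]
          congr 1
          exact AddMonoidHom.ext fun y => act_mul a.1 b.1 y) }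
    obtain ⟨⟨U, hU⟩, hfix⟩ := hH.nonempty_fixed_point_of_prime_not_dvd_card W
      (by rw [Nat.card_eq_fintype_card, Fintype.card_coe]; exact hodd)
    obtain ⟨x, hx, rfl⟩ := Finset.mem_image.1 hU
    refine ⟨adjoin hF V x, ?_, ?_, fun g hg v hv => ?_⟩
    · rintro v (hv | hv)
      · exact hV v hv
      · have h := coset_mem_ext' hV hx hv
        rw [add_sub_cancel] at h
        exact (mem_ext'.1 h).2.1
    · rw [card_adjoin hF (mem_ext'.1 hx).2.2, hcard, pow_succ']
    · have e : (adjoin hF V x).map _ = adjoin hF V x := congrArg Subtype.val (hfix ⟨g, hg⟩)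
      rw [← e]
      exact AddSubgroup.mem_map.2 ⟨v, hv, rfl⟩

/-- the pointwise stabiliser of a totally singular subgroup of order `2^(m-1)` is a 2-group -/
theorem pow_eight_eq_one (hF : Fintype.card F = 2) (hm : 1 ≤ m) {V : AddSubgroup (E F m)} (hV : TS V)
    (hcard : Nat.card V = 2 ^ (m - 1)) {g : O F m} (hg : ∀ v ∈ V, act g v = v) : g ^ 8 = 1 := by
  classical
  obtain ⟨k, rfl⟩ : ∃ k, m = k + 1 := ⟨m - 1, by omega⟩
  rw [Nat.add_sub_cancel] at hcard
  have hperp : (perp V).card = 4 * 2 ^ k := by
    refine Nat.eq_of_mul_eq_mul_right (Nat.two_pow_pos k) ?_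
    have h1 := card_perp_mul hF V
    rw [hcard] at h1
    rw [h1, show 4 = 2 ^ 2 from rfl, ← pow_add, ← pow_add]; congr 1; omega
  have hX : (ext' V).card = 2 * 2 ^ k := by
    have h2 := card_sing hF hV
    have h3 := card_ext' hF hV
    rw [hcard] at h3
    rw [hperp, pow_succ] at h2
    omega
  have hext : ∀ x ∈ ext' V, act g x ∈ ext' V := by
    intro x hx
    rw [mem_ext'] at hx ⊢
    refine ⟨fun v hv => ?_, by rw [act_Q]; exact hx.2.1, fun h => hx.2.2 ?_⟩
    · rw [← hg v hv, act_B]; exact hx.1 v hv
    · have e := hg _ h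
      have h2 : act g x = x := by
        have := congrArg (act g⁻¹) e
        rwa [act_inv, act_inv] at this
      rwa [h2] at h
  set h := g * g with hh
  have hhV : ∀ v ∈ V, act h v = v := fun v hv => by rw [hh, act_mul, hg v hv, hg v hv]
  have hh1 : ∀ x ∈ ext' V, act h x - x ∈ V := by
    intro x hx
    by_cases hgx : act g x - x ∈ V
    · have : act h x - x = act g (act g x - x) + (act g x - x) := by
        rw [hh, act_mul, act_sub]; abel
      rw [this, hg _ hgx]
      exact add_mem hgx hgx
    · have hnot : act h x - act g x ∉ V := by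
        intro hc
        apply hgx
        rw [hh, act_mul, ← act_sub] at hc
        have := hg _ hc
        have h2 : act g (act g x - x) = act g x - x := by
          have := congrArg (act g⁻¹) this
          rwa [act_inv, act_inv] at this
        rwa [h2] at hc
      have hc1 : ((Finset.univ : Finset V).image fun v : V => x + (v : E F (k + 1))) ∪
          ((Finset.univ : Finset V).image fun v : V => act g x + (v : E F (k + 1))) = ext' V := by
        refine Finset.eq_of_subset_of_card_le ?_ ?_
        · intro y hy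
          simp only [Finset.mem_union, Finset.mem_image, Finset.mem_univ, true_and] at hy
          rcases hy with ⟨v, rfl⟩ | ⟨v, rfl⟩
          · exact coset_mem_ext' hV hx v.2
          · exact coset_mem_ext' hV (hext x hx) v.2
        · rw [Finset.card_union_of_disjoint, Finset.card_image_of_injective _ (fun a b e => Subtype.ext (add_left_cancel e)),
            Finset.card_image_of_injective _ (fun a b e => Subtype.ext (add_left_cancel e)), Finset.card_univ,
            ← Nat.card_eq_fintype_card, hcard, hX, two_mul]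
          rw [Finset.disjoint_left]
          intro y h1 h2
          simp only [Finset.mem_image, Finset.mem_univ, true_and] at h1 h2
          obtain ⟨a, rfl⟩ := h1
          obtain ⟨b, hb⟩ := h2
          refine hgx ?_
          rw [show act g x - x = (a : E F (k + 1)) - b from sub_eq_sub_iff_add_eq_add.2 (hb.trans (add_comm _ _))]
          exact sub_mem a.2 b.2
      have hmem : act h x ∈ ext' V := by rw [hh, act_mul]; exact hext _ (hext x hx)
      rw [← hc1] at hmem
      simp only [Finset.mem_union, Finset.mem_image, Finset.mem_univ, true_and] at hmem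
      rcases hmem with ⟨v, hv⟩ | ⟨v, hv⟩
      · rw [← hv, add_sub_cancel_left]; exact v.2
      · exact absurd (by rw [← hv, add_sub_cancel_left]; exact v.2) hnot
  let P : AddSubgroup (E F (k + 1)) :=
    { carrier := {x | ∀ v ∈ V, B v x = 0}
      zero_mem' := fun v _ => B_zero_right v
      add_mem' := fun {a b} ha hb v hv => by rw [B_add_right, ha v hv, hb v hv, add_zero]
      neg_mem' := fun {a} ha => by rwa [neg_eq_of_add_eq_zero_left (add_self_E hF a)] }
  let Y : AddSubgroup P :=
    { carrier := {x | act h x.1 - x.1 ∈ V}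
      zero_mem' := by simp [act]
      add_mem' := fun {a b} ha hb => by
        have := add_mem (show act h a.1 - a.1 ∈ V from ha) (show act h b.1 - b.1 ∈ V from hb)
        show act h (a.1 + b.1) - (a.1 + b.1) ∈ V
        rw [act_add]; convert this using 1; abel
      neg_mem' := fun {a} ha => by rwa [neg_eq_of_add_eq_zero_left (Subtype.ext (add_self_E hF a.1))] }
  have hY : Y = ⊤ := by
    apply AddSubgroup.eq_top_of_card_eq
    have hP : Nat.card P = 4 * 2 ^ k := by
      rw [← hperp, Nat.card_eq_fintype_card, ← Fintype.card_coe (perp V)]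
      exact Fintype.card_congr (Equiv.subtypeEquivRight fun x => mem_perp.symm)
    have hle : (sing V).card ≤ Nat.card Y := by
      rw [← Fintype.card_coe, ← Nat.card_eq_fintype_card]
      refine Nat.card_le_card_of_injective (fun x => ⟨⟨x.1, mem_perp.1 (Finset.mem_filter.1 x.2).1⟩, ?_⟩) ?_
      · show act h x.1 - x.1 ∈ V
        by_cases hxV : x.1 ∈ V
        · rw [hhV _ hxV, sub_self]; exact zero_mem V
        · exact hh1 _ (Finset.mem_filter.2 ⟨x.2, hxV⟩)
      · intro a b e
        exact Subtype.ext (congrArg (fun z : Y => z.1.1) e)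
    have h3 := card_ext' hF hV
    rw [hcard, hX] at h3
    obtain ⟨c, hc⟩ := AddSubgroup.card_addSubgroup_dvd_card Y
    rw [hP] at hc ⊢
    have hpos := Nat.two_pow_pos k
    rcases c with _ | _ | c
    · omega
    · omega
    · have : Nat.card Y * 2 ≤ Nat.card Y * (c + 1 + 1) := Nat.mul_le_mul_left _ (by omega)
      omega
  have hperpV : ∀ x : E F (k + 1), (∀ v ∈ V, B v x = 0) → act h x - x ∈ V := by
    intro x hx
    have : (⟨x, hx⟩ : P) ∈ Y := hY ▸ AddSubgroup.mem_top _
    exact this
  have hall : ∀ y : E F (k + 1), ∀ v ∈ V, B v (act h y - y) = 0 := by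
    intro y v hv
    rw [B_sub_right, sub_eq_zero]
    conv_lhs => rw [← hhV v hv]
    rw [act_B]
  have hchar : CharP F 2 := CharTwo.of_one_ne_zero_of_two_eq_zero one_ne_zero (by
    have := add_self_F hF (1 : F); rwa [one_add_one_eq_two] at this)
  have hM : (h.1.val - 1) ^ 3 = 0 := by
    apply Matrix.toLin'.injective
    refine LinearMap.ext fun y => ?_
    simp only [Matrix.toLin'_apply, map_zero, LinearMap.zero_apply]
    have hd : ∀ z, (h.1.val - 1) *ᵥ z = act h z - z := fun z => by
      rw [Matrix.sub_mulVec, Matrix.one_mulVec]; rfl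
    rw [pow_succ', pow_two, ← Matrix.mulVec_mulVec, ← Matrix.mulVec_mulVec, hd, hd, hd]
    rw [hhV _ (hperpV _ (hall y)), sub_self]
  have h4 : h ^ 4 = 1 := by
    apply Subtype.ext
    apply Units.ext
    rw [SubmonoidClass.coe_pow, Units.val_pow_eq_pow_val, OneMemClass.coe_one, Units.val_one, ← sub_eq_zero]
    have := sub_pow_char_pow_of_commute (p := 2) (n := 2) (Commute.one_right h.1.val)
    rw [show (2 : ℕ) ^ 2 = 4 from rfl, one_pow] at this
    rw [← this, pow_succ, hM, zero_mul]
  rw [show (8 : ℕ) = 2 * 4 from rfl, pow_mul, sq, ← hh, h4]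

/-- every Sylow 2-subgroup contains the pointwise stabiliser of such a subgroup -/
theorem exists_fixed_le (hF : Fintype.card F = 2) (hm : 1 ≤ m) (H : Sylow 2 (O F m)) :
    ∃ V : AddSubgroup (E F m), Nat.card V = 2 ^ (m - 1) ∧
      ∀ g : O F m, (∀ v ∈ V, act g v = v) → g ∈ (H : Subgroup (O F m)) := by
  obtain ⟨V, hV, hcard, hst⟩ := exists_stable hF (H : Subgroup (O F m)) H.2 (m - 1) (by omega)
  refine ⟨V, hcard, fun g hg => ?_⟩
  let K : Subgroup (O F m) :=
    { carrier := {g | ∀ v ∈ V, act g v = v}
      one_mem' := fun v _ => act_one v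
      mul_mem' := fun {a b} ha hb v hv => by rw [act_mul, hb v hv, ha v hv]
      inv_mem' := fun {a} ha v hv => by
        have := congrArg (act a⁻¹) (ha v hv)
        rwa [act_inv, eq_comm] at this }
  have hK : IsPGroup 2 K := fun k => ⟨3, Subtype.ext (by
    rw [SubmonoidClass.coe_pow]; exact pow_eight_eq_one hF hm hV hcard k.2)⟩
  have hn : (H : Subgroup (O F m)) ≤ Subgroup.normalizer (K : Set (O F m)) := by
    intro a ha
    rw [Subgroup.mem_normalizer_iff]
    intro k
    constructor
    · intro hk v hv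
      rw [act_mul, act_mul, hk _ (hst _ (inv_mem ha) v hv), act_inv']
    · intro hk v hv
      have := congrArg (act a⁻¹) (hk (act a v) (hst _ ha v hv))
      rwa [act_mul, act_mul, act_inv, act_inv] at this
  have hp : IsPGroup 2 ((H : Subgroup (O F m)) ⊔ K : Subgroup (O F m)) := H.2.to_sup_of_normal_right' hK hn
  rw [← H.3 hp le_sup_left]
  exact Subgroup.mem_sup_right hg

/-- a nontrivial isometry fixing two given subgroups pointwise -/
theorem exists_common (hF : Fintype.card F = 2) (hm : 2 ≤ m) (V W : AddSubgroup (E F m))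
    (hV : Nat.card V = 2 ^ (m - 1)) (hW : Nat.card W = 2 ^ (m - 1)) :
    ∃ g : O F m, g ≠ 1 ∧ (∀ v ∈ V, act g v = v) ∧ ∀ w ∈ W, act g w = w := by
  classical
  set P := perp (V ⊔ W) with hP
  have hP4 : 4 ≤ P.card := by
    have h := card_perp_mul hF (V ⊔ W)
    have hle : Nat.card (V ⊔ W : AddSubgroup (E F m)) ≤ Nat.card (V × W) := by
      refine Nat.card_le_card_of_surjective
        (fun p => ⟨p.1.1 + p.2.1, AddSubgroup.mem_sup.2 ⟨_, p.1.2, _, p.2.2, rfl⟩⟩) ?_
      rintro ⟨y, hy⟩
      obtain ⟨a, ha, b, hb, rfl⟩ := AddSubgroup.mem_sup.1 hy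
      exact ⟨(⟨a, ha⟩, ⟨b, hb⟩), rfl⟩
    rw [Nat.card_prod, hV, hW] at hle
    by_contra hlt
    rw [← hP] at h
    have h1 : P.card * Nat.card (V ⊔ W : AddSubgroup (E F m)) < 4 * (2 ^ (m - 1) * 2 ^ (m - 1)) :=
      Nat.mul_lt_mul_of_lt_of_le (by omega) hle (Nat.mul_pos (Nat.two_pow_pos _) (Nat.two_pow_pos _))
    rw [h, show 4 = 2 ^ 2 from rfl, ← pow_add, ← pow_add, show 2 + (m - 1 + (m - 1)) = 2 * m by omega] at h1
    exact lt_irrefl _ h1
  have htwo : ∀ a : F, a * a = a := fun a => by rcases bit hF a with rfl | rfl <;> simp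
  have mkIso : ∀ (r : E F m →ₗ[F] E F m), (∀ x, r (r x) = x) → (∀ x, Q (r x) = Q x) →
      ∃ g : O F m, ∀ x, act g x = r x := by
    intro r h1 h2
    have hrr : LinearMap.toMatrix' r * LinearMap.toMatrix' r = 1 := by
      rw [← LinearMap.toMatrix'_comp, show r ∘ₗ r = LinearMap.id from LinearMap.ext h1, LinearMap.toMatrix'_id]
    exact ⟨⟨⟨LinearMap.toMatrix' r, LinearMap.toMatrix' r, hrr, hrr⟩, fun u _ => by
      show Q (LinearMap.toMatrix' r *ᵥ u) = Q u
      rw [LinearMap.toMatrix'_mulVec, h2]⟩, fun x => LinearMap.toMatrix'_mulVec r x⟩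
  have Bl : ∀ u : E F m, ∃ l : E F m →ₗ[F] F, ∀ x, l x = B u x := fun u =>
    ⟨{ toFun := B u, map_add' := B_add_right u, map_smul' := fun c x => B_smul_right c u x }, fun _ => rfl⟩
  have hPV : ∀ p ∈ P, (∀ v ∈ V, B p v = 0) ∧ ∀ w ∈ W, B p w = 0 := fun p hp =>
    ⟨fun v hv => by rw [B_comm]; exact mem_perp.1 hp v (AddSubgroup.mem_sup_left hv),
      fun w hw => by rw [B_comm]; exact mem_perp.1 hp w (AddSubgroup.mem_sup_right hw)⟩
  have hQsmul : ∀ (c : F) (x : E F m), Q (c • x) = c * Q x := fun c x => by
    simp only [Q, Cfsg.quadFormPlus, Pi.smul_apply, smul_eq_mul, Finset.mul_sum]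
    exact Finset.sum_congr rfl fun i _ => by rw [mul_mul_mul_comm, htwo]
  have hBself : ∀ x : E F m, B x x = 0 := fun x => by
    have h := Q_add x x
    rwa [add_self_E hF, Q_zero, add_self_F hF, zero_add, eq_comm] at h
  by_cases hns : ∃ u ∈ P, Q u = 1
  · obtain ⟨u, hu, hQu⟩ := hns
    obtain ⟨l, hl⟩ := Bl u
    obtain ⟨g, hg⟩ := mkIso (LinearMap.id + l.smulRight u)
      (fun x => by
        simp only [LinearMap.add_apply, LinearMap.id_apply, LinearMap.smulRight_apply, map_add, map_smul, hl, hBself,
          zero_smul, add_zero]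
        rw [add_assoc, add_self_E hF, add_zero])
      (fun x => by
        simp only [LinearMap.add_apply, LinearMap.id_apply, LinearMap.smulRight_apply, hl]
        rw [Q_add, hQsmul, hQu, B_smul_right, B_comm x u, htwo, mul_one, add_assoc, add_self_F hF, add_zero])
    refine ⟨g, ?_, fun v hv => ?_, fun w hw => ?_⟩
    · rintro rfl
      obtain ⟨x, hx⟩ := exists_B_ne (show u ≠ 0 from fun h => by rw [h, Q_zero] at hQu; exact zero_ne_one hQu)
      have := hg x
      rw [act_one] at this
      simp only [LinearMap.add_apply, LinearMap.id_apply, LinearMap.smulRight_apply, hl, hx, one_smul,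
        left_eq_add] at this
      rw [this, Q_zero] at hQu
      exact zero_ne_one hQu
    · rw [hg]; simp [hl, (hPV u hu).1 v hv]
    · rw [hg]; simp [hl, (hPV u hu).2 w hw]
  · push Not at hns
    have hts : ∀ p ∈ P, Q p = 0 := fun p hp => (bit hF _).resolve_right (hns p hp)
    obtain ⟨u, hu, hu0⟩ : ∃ u ∈ P, u ≠ 0 := Finset.exists_mem_ne (by omega) 0
    obtain ⟨w, hwP, hw⟩ : ∃ w ∈ P, w ∉ ({0, u} : Finset (E F m)) := by
      by_contra hc
      simp only [not_exists, not_and, not_not] at hc
      have := (Finset.card_le_card (s := P) (t := {0, u}) hc).trans Finset.card_le_two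
      omega
    rw [Finset.mem_insert, Finset.mem_singleton, not_or] at hw
    obtain ⟨l, hl⟩ := Bl u
    obtain ⟨l', hl'⟩ := Bl w
    have hBuw : B u w = 0 := by
      have h1 := Q_add u w
      rw [hts u hu, hts w hwP, zero_add, zero_add] at h1
      rw [← h1]
      refine hts _ (mem_perp.2 fun v hv => ?_)
      rw [B_add_right, mem_perp.1 hu v hv, mem_perp.1 hwP v hv, add_zero]
    obtain ⟨g, hg⟩ := mkIso (LinearMap.id + l.smulRight w + l'.smulRight u)
      (fun x => by
        simp only [LinearMap.add_apply, LinearMap.id_apply, LinearMap.smulRight_apply, map_add, map_smul, hl, hl',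
          hBself, hBuw, B_comm w u, zero_smul, add_zero]
        have h0 := add_self_E hF (B u x • w + B w x • u)
        calc _ = x + ((B u x • w + B w x • u) + (B u x • w + B w x • u)) := by abel
          _ = x := by rw [h0, add_zero])
      (fun x => by
        simp only [LinearMap.add_apply, LinearMap.id_apply, LinearMap.smulRight_apply, hl, hl']
        rw [add_assoc, Q_add, Q_add, hQsmul, hQsmul, hts u hu, hts w hwP, B_add_right, B_smul_right,
          B_smul_right, B_smul_right, B_comm x w, B_comm x u, B_comm (B u x • w) u, B_smul_right, hBuw]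
        have := add_self_F hF (B u x * B w x)
        linear_combination this)
    refine ⟨g, ?_, fun v hv => ?_, fun v hv => ?_⟩
    · rintro rfl
      obtain ⟨x, hx⟩ := exists_B_ne hu0
      have := hg x
      rw [act_one] at this
      simp only [LinearMap.add_apply, LinearMap.id_apply, LinearMap.smulRight_apply, hl, hl', hx, one_smul,
        add_assoc, left_eq_add] at this
      rcases bit hF (B w x) with h | h
      · rw [h, zero_smul, add_zero] at this; exact hw.1 this
      · rw [h, one_smul] at this
        exact hw.2 (eq_of_sub_eq_zero (by rw [sub_eq_add_neg, neg_eq_of_add_eq_zero_left (add_self_E hF u)]; exact this))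
    · rw [hg]; simp [hl, hl', (hPV u hu).1 v hv, (hPV w hwP).1 v hv]
    · rw [hg]; simp [hl, hl', (hPV u hu).2 v hv, (hPV w hwP).2 v hv]

end Group


/-- Let m ≥ 4 and let G be the full isometry group of the hyperbolic quadratic form x₁y₁ + ⋯ + x_m y_m on the 2m-dimensional space over the field with 2 elements (the orthogonal group O⁺(2m,2), which contains Ω⁺(2m,2) with index 2). Then any two Sylow 2-subgroups of G have a non-trivial intersection: for a Sylow 2-subgroup H and every x ∈ G, H ∩ H^x ≠ 1. -/
theorem result {F : Type*} [Field F] [Fintype F] (hF : Fintype.card F = 2) {m : ℕ} (hm : 4 ≤ m)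
    (H : Sylow 2 (Cfsg.isometryGroup F (Cfsg.quadFormPlus m F)))
    (x : Cfsg.isometryGroup F (Cfsg.quadFormPlus m F)) :
    (H : Subgroup (Cfsg.isometryGroup F (Cfsg.quadFormPlus m F))) ⊓ MulAut.conj x • (H : Subgroup _) ≠ ⊥ := by
  obtain ⟨V, hV, hVH⟩ := exists_fixed_le hF (by omega) H
  obtain ⟨W, hW, hWH⟩ := exists_fixed_le hF (by omega) (x • H)
  obtain ⟨g, hg1, hgV, hgW⟩ := exists_common hF (by omega) V W hV hW
  intro hbot
  apply hg1
  rw [← Subgroup.mem_bot, ← hbot]
  exact Subgroup.mem_inf.2 ⟨hVH g hgV, hWH g hgW⟩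

end Cfsg.Agent.S2487
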