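import Mathlib
import Cfsg.Statements.S2488
-- import your own Cfsg.Agent.* helpers here

set_option autoImplicit false
open scoped Pointwise
open Cfsg

namespace Cfsg.Agent.S2488

/-- parity of a permutation given as a list -/
def par (g : List Nat) : Bool := match g with
  | [] => true
  | a :: t => xor ((t.countP (fun b => decide (b < a))) % 2 == 1) (par t)

/-- composition of permutation lists -/
def lcomp (a b : List Nat) : List Nat := b.map fun i => a.getD i 0

/-- inverse of a permutation list -/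
def linv (a : List Nat) : List Nat := (List.range 6).map fun i => a.idxOf i

/-- a Sylow 2-subgroup of `A₆` as lists -/
def sylList : List (List Nat) := [[0,1,2,3,4,5],[0,3,2,1,5,4],[1,0,3,2,4,5],[1,2,3,0,5,4],[2,1,0,3,5,4],[2,3,0,1,4,5],[3,0,1,2,5,4],[3,2,1,0,4,5]]

/-- the identity list -/
def idList : List Nat := [0,1,2,3,4,5]

/-- the conjugate of the Sylow subgroup meets it trivially -/
def disj (g : List Nat) : Bool :=
  sylList.all fun p => p == idList || !(sylList.contains (lcomp (lcomp g p) (linv g)))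

/-- the double coset contains an element of order four -/
def four (g : List Nat) : Bool :=
  sylList.any fun p => sylList.any fun q =>
    let m := lcomp (lcomp p g) q
    let m2 := lcomp m m
    !(m2 == idList) && (lcomp m2 m2 == idList)

theorem count_split : ((List.range 6).permutations'.countP fun g => par g && disj g && four g) = 128 ∧
    ((List.range 6).permutations'.countP fun g => par g && disj g && !four g) = 128 := by decide +kernel

/-- a permutation as a list -/
def lst (g : Equiv.Perm (Fin 6)) : List Nat := List.ofFn fun i => (g i).val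

theorem lst_injective : Function.Injective lst := by
  intro a b h
  refine Equiv.ext fun i => Fin.ext ?_
  exact congrFun (List.ofFn_injective h) i

theorem lst_mul (a b : Equiv.Perm (Fin 6)) : lst (a * b) = lcomp (lst a) (lst b) := by
  simp only [lst, lcomp, List.map_ofFn]
  congr 1
  funext i
  simp only [Function.comp_apply]
  rw [List.getD_eq_getElem _ _ (by simp), List.getElem_ofFn]
  rfl

theorem lst_one : lst 1 = idList := by decide

theorem lst_inv (a : Equiv.Perm (Fin 6)) : lst a⁻¹ = linv (lst a) := by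
  apply List.ext_getElem
  · simp [lst, linv]
  · intro i h1 h2
    simp only [lst, List.length_ofFn] at h1
    simp only [lst, linv, List.getElem_ofFn, List.getElem_map, List.getElem_range]
    have hnd : (List.ofFn fun j => (a j).val).Nodup :=
      List.nodup_ofFn.2 (Fin.val_injective.comp a.injective)
    have := hnd.idxOf_getElem (a⁻¹ ⟨i, h1⟩).val (by simp)
    simp only [List.getElem_ofFn] at this
    simpa using this.symm

theorem lst_mem_perms (a : Equiv.Perm (Fin 6)) : lst a ∈ (List.range 6).permutations' := by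
  rw [List.mem_permutations', List.perm_ext_iff_of_nodup]
  · intro x
    simp only [lst, List.mem_ofFn, List.mem_range]
    constructor
    · rintro ⟨i, rfl⟩; exact (a i).isLt
    · intro hx; exact ⟨a⁻¹ ⟨x, hx⟩, by simp⟩
  · exact List.nodup_ofFn.2 (Fin.val_injective.comp a.injective)
  · exact List.nodup_range

theorem par_of_even : ∀ g : Equiv.Perm (Fin 6), Equiv.Perm.sign g = 1 → par (lst g) = true := by
  decide +kernel

theorem syl_facts : (∀ a ∈ sylList, linv a ∈ sylList ∧ ∀ b ∈ sylList, lcomp a b ∈ sylList) := by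
  decide +kernel

theorem syl_card : (Finset.univ.filter fun g : Equiv.Perm (Fin 6) => lst g ∈ sylList).card = 8 := by
  decide +kernel

theorem syl_even : ∀ g : Equiv.Perm (Fin 6), lst g ∈ sylList → Equiv.Perm.sign g = 1 := by
  decide +kernel

/-- the subgroup -/
def syl : Subgroup (alternatingGroup (Fin 6)) where
  carrier := {g | lst g.1 ∈ sylList}
  one_mem' := by show lst 1 ∈ sylList; decide
  mul_mem' := fun {a b} ha hb => by
    show lst (a.1 * b.1) ∈ sylList
    rw [lst_mul]; exact (syl_facts _ ha).2 _ hb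
  inv_mem' := fun {a} ha => by
    show lst a.1⁻¹ ∈ sylList
    rw [lst_inv]; exact (syl_facts _ ha).1

theorem card_syl : Nat.card syl = 8 := by
  rw [← syl_card, ← Fintype.card_subtype, ← Nat.card_eq_fintype_card]
  exact Nat.card_congr
    { toFun := fun g => ⟨g.1.1, g.2⟩
      invFun := fun g => ⟨⟨g.1, syl_even g.1 g.2⟩, g.2⟩
      left_inv := fun _ => rfl
      right_inv := fun _ => rfl }

theorem exists_syl_of_not_disj (g : Equiv.Perm (Fin 6))
    (h : ∀ p : Equiv.Perm (Fin 6), lst p ∈ sylList → lst (g * p * g⁻¹) ∈ sylList → p = 1) :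
    disj (lst g) = true := by
  simp only [disj, List.all_eq_true]
  intro p hp
  by_contra hc
  simp only [Bool.or_eq_true, beq_iff_eq, Bool.not_eq_true', not_or, Bool.not_eq_false,
    List.contains_iff_mem] at hc
  have hperm : ∀ q ∈ sylList, ∃ π : Equiv.Perm (Fin 6), lst π = q := by decide +kernel
  obtain ⟨π, rfl⟩ := hperm p hp
  apply hc.1
  rw [h π hp (by rw [lst_mul, lst_mul, lst_inv]; exact hc.2), lst_one]

theorem four_iff (g : Equiv.Perm (Fin 6)) : four (lst g) = true ↔
    ∃ p q : Equiv.Perm (Fin 6), lst p ∈ sylList ∧ lst q ∈ sylList ∧ orderOf (p * g * q) = 4 := by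
  have key : ∀ m : Equiv.Perm (Fin 6), orderOf m = 4 ↔ lst (m * m) ≠ idList ∧ lst (m * m * (m * m)) = idList := by
    intro m
    rw [← lst_one, Ne, lst_injective.eq_iff, lst_injective.eq_iff]
    constructor
    · intro h
      refine ⟨fun h2 => ?_, ?_⟩
      · have := orderOf_dvd_of_pow_eq_one (show m ^ 2 = 1 by rw [sq, h2])
        rw [h] at this
        norm_num at this
      · rw [← sq, ← sq, ← pow_mul]
        have := pow_orderOf_eq_one m
        rw [h] at this; exact this
    · rintro ⟨h2, h4⟩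
      have := orderOf_eq_prime_pow (p := 2) (n := 1) (x := m) (by simpa [sq] using h2)
        (by rw [show (2 : ℕ) ^ (1 + 1) = 2 * 2 from rfl, pow_mul, sq, sq]; exact h4)
      simpa using this
  have hperm : ∀ q ∈ sylList, ∃ π : Equiv.Perm (Fin 6), lst π = q := by decide +kernel
  simp only [four, List.any_eq_true, Bool.and_eq_true, Bool.not_eq_true', beq_eq_false_iff_ne, beq_iff_eq]
  constructor
  · rintro ⟨p, hp, q, hq, h⟩
    obtain ⟨π, rfl⟩ := hperm p hp
    obtain ⟨ρ, rfl⟩ := hperm q hq
    refine ⟨π, ρ, hp, hq, (key _).2 ?_⟩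
    simp only [lst_mul]
    exact h
  · rintro ⟨p, q, hp, hq, h⟩
    have := (key _).1 h
    simp only [lst_mul] at this
    exact ⟨_, hp, _, hq, this⟩

theorem card_le_of_split (S : Finset (Equiv.Perm (Fin 6))) (b : Bool)
    (h : ∀ g ∈ S, Equiv.Perm.sign g = 1 ∧ disj (lst g) = true ∧ four (lst g) = b) : S.card ≤ 128 := by
  classical
  have hcount : ((List.range 6).permutations'.countP fun g => par g && disj g && (four g == b)) = 128 := by
    cases b
    · simpa using count_split.2
    · simpa using count_split.1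
  rw [← hcount, List.countP_eq_length_filter]
  refine le_trans ?_ (List.toFinset_card_le _)
  rw [← Finset.card_image_of_injective S lst_injective]
  refine Finset.card_le_card fun x hx => ?_
  obtain ⟨g, hg, rfl⟩ := Finset.mem_image.1 hx
  obtain ⟨h1, h2, h3⟩ := h g hg
  exact List.mem_toFinset.2 (List.mem_filter.2 ⟨lst_mem_perms g, by simp [par_of_even g h1, h2, h3]⟩)


/-- Let G be a finite group with a normal subgroup N of index 4 isomorphic to the alternating group of degree 6 and with trivial centralizer in G (so G is the full automorphism group of A₆). Then any two Sylow 2-subgroups of G have a non-trivial intersection: for a Sylow 2-subgroup H and every x ∈ G, H ∩ H^x ≠ 1. -/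
theorem result {G : Type*} [Group G] [Finite G] (N : Subgroup G) [N.Normal]
    (e : N ≃* alternatingGroup (Fin 6)) (hidx : N.index = 4)
    (hC : Subgroup.centralizer (N : Set G) = ⊥)
    (H : Sylow 2 G) (x : G) :
    (H : Subgroup G) ⊓ MulAut.conj x • (H : Subgroup G) ≠ ⊥ := by
  classical
  have hA : Nat.card (alternatingGroup (Fin 6)) = 360 := by
    rw [nat_card_alternatingGroup, Nat.card_fin]; rfl
  have hN : Nat.card N = 360 := by rw [Nat.card_congr e.toEquiv, hA]
  have hG : Nat.card G = 1440 := by rw [← Subgroup.card_mul_index N, hN, hidx]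
  have hH : Nat.card (H : Subgroup G) = 32 := by
    have h45 : (45 : ℕ).factorization 2 = 0 := Nat.factorization_eq_zero_of_not_dvd (by norm_num)
    rw [H.card_eq_multiplicity, hG, show (1440 : ℕ) = 2 ^ 5 * 45 by norm_num,
      Nat.factorization_mul (by norm_num) (by norm_num), Nat.Prime.factorization_pow Nat.prime_two,
      Finsupp.add_apply, Finsupp.single_eq_same, h45]
    norm_num
  have hsup : (H : Subgroup G) ⊔ N = ⊤ := by
    rw [← Subgroup.index_eq_one]
    have h1 := Subgroup.index_dvd_of_le (le_sup_left : (H : Subgroup G) ≤ (H : Subgroup G) ⊔ N)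
    have h2 := Subgroup.index_dvd_of_le (le_sup_right : N ≤ (H : Subgroup G) ⊔ N)
    have hHi : (H : Subgroup G).index = 45 := by
      have := Subgroup.card_mul_index (H : Subgroup G)
      rw [hH, hG] at this; omega
    rw [hHi] at h1; rw [hidx] at h2
    have := Nat.dvd_gcd h1 h2
    exact Nat.dvd_one.1 (by simpa using this)
  obtain ⟨h0, hh0, n, hn, hx⟩ : ∃ h ∈ (H : Subgroup G), ∃ n ∈ N, x = n * h := by
    have : x⁻¹ ∈ ((H : Subgroup G) : Set G) * (N : Set G) := by
      rw [← Subgroup.mul_normal, hsup]; trivial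
    obtain ⟨a, ha, b, hb, hab⟩ := this
    simp only at hab
    exact ⟨a⁻¹, inv_mem ha, b⁻¹, inv_mem hb, by rw [← mul_inv_rev, hab, inv_inv]⟩
  have hmem : ∀ y : G, y ∈ MulAut.conj x • (H : Subgroup G) ↔ n⁻¹ * y * n ∈ (H : Subgroup G) := by
    intro y
    rw [Subgroup.mem_pointwise_smul_iff_inv_smul_mem, hx]
    constructor
    · intro h
      have := mul_mem (mul_mem hh0 h) (inv_mem hh0)
      simpa [MulAut.smul_def, mul_assoc] using this
    · intro h
      have := mul_mem (mul_mem (inv_mem hh0) h) hh0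
      simpa [MulAut.smul_def, mul_assoc] using this
  intro hbot
  have hinter : ∀ y ∈ (H : Subgroup G), n⁻¹ * y * n ∈ (H : Subgroup G) → y = 1 := by
    intro y hy hy'
    rw [← Subgroup.mem_bot, ← hbot]
    exact Subgroup.mem_inf.2 ⟨hy, (hmem y).2 hy'⟩
  set P : Subgroup N := (H : Subgroup G).subgroupOf N with hP
  have hPp : IsPGroup 2 P := H.2.comap_subtype
  have hP8 : Nat.card P = 8 := by
    obtain ⟨j, hj⟩ := hPp.exists_card_eq
    have hd : Nat.card P ∣ 360 := hN ▸ Subgroup.card_subgroup_dvd_card P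
    have hrel : N.relIndex (H : Subgroup G) ∣ 4 := hidx ▸ Subgroup.relIndex_dvd_index_of_normal N (H : Subgroup G)
    have hPc : Nat.card P = Nat.card (N ⊓ (H : Subgroup G) : Subgroup G) := by
      rw [hP, ← Subgroup.card_map_of_injective N.subtype_injective, Subgroup.subgroupOf_map_subtype,
        inf_comm]
    have hmul : Nat.card P * N.relIndex (H : Subgroup G) = 32 := by
      rw [← hH, ← Subgroup.inf_relIndex_right, hPc, ← Subgroup.card_mul_index ((N ⊓ (H : Subgroup G)).subgroupOf (H : Subgroup G))]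
      congr 1
      exact (Nat.card_congr (Subgroup.subgroupOfEquivOfLe inf_le_right).toEquiv).symm
    have h4 := Nat.le_of_dvd (by norm_num) hrel
    have hj' : j ≤ 3 := by
      by_contra hc
      have : 2 ^ 4 ∣ 360 := dvd_trans (Nat.pow_dvd_pow 2 (by omega)) (hj ▸ hd)
      omega
    have h8 : Nat.card P ≤ 8 := hj ▸ Nat.pow_le_pow_right (by norm_num) hj'
    nlinarith
  have hfA : (Nat.card (alternatingGroup (Fin 6))).factorization 2 = 3 := by
    have h45 : (45 : ℕ).factorization 2 = 0 := Nat.factorization_eq_zero_of_not_dvd (by norm_num)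
    rw [hA, show (360 : ℕ) = 2 ^ 3 * 45 by norm_num,
      Nat.factorization_mul (by norm_num) (by norm_num), Nat.Prime.factorization_pow Nat.prime_two,
      Finsupp.add_apply, Finsupp.single_eq_same, h45]
  let S1 : Sylow 2 (alternatingGroup (Fin 6)) := Sylow.ofCard syl (by rw [card_syl, hfA]; rfl)
  let S2 : Sylow 2 (alternatingGroup (Fin 6)) := Sylow.ofCard (P.map e.toMonoidHom) (by
    rw [Subgroup.card_map_of_injective e.injective, hP8, hfA]; rfl)
  obtain ⟨c, hc⟩ := MulAction.exists_smul_eq (alternatingGroup (Fin 6)) S2 S1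
  let f : N →* Equiv.Perm (Fin 6) :=
    (alternatingGroup (Fin 6)).subtype.comp ((MulAut.conj c).toMonoidHom.comp e.toMonoidHom)
  have hfinj : Function.Injective f :=
    Subtype.val_injective.comp ((MulAut.conj c).injective.comp e.injective)
  have hfeven : ∀ m, Equiv.Perm.sign (f m) = 1 := fun m => (MulAut.conj c (e m)).2
  have hfP : ∀ m : N, lst (f m) ∈ sylList ↔ (m : G) ∈ (H : Subgroup G) := by
    intro m
    show MulAut.conj c (e m) ∈ syl ↔ _
    have : (syl : Subgroup _) = MulAut.conj c • P.map e.toMonoidHom := by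
      have := congrArg (fun S : Sylow 2 _ => (S : Subgroup (alternatingGroup (Fin 6)))) hc
      exact this.symm
    rw [this]
    rw [← MulAut.smul_def, Subgroup.smul_mem_pointwise_smul_iff, Subgroup.mem_map_equiv]
    simp [hP, Subgroup.mem_subgroupOf]
  have hfsurj : ∀ π : Equiv.Perm (Fin 6), lst π ∈ sylList → ∃ m : N, f m = π := by
    intro π hπ
    refine ⟨e.symm ((MulAut.conj c).symm ⟨π, syl_even π hπ⟩), ?_⟩
    show ((MulAut.conj c) (e (e.symm _))).1 = π
    rw [MulEquiv.apply_symm_apply, MulEquiv.apply_symm_apply]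
  have nH : ∀ h ∈ (H : Subgroup G), ∀ m : N, h * m * h⁻¹ ∈ N := fun h _ m =>
    ‹N.Normal›.conj_mem _ m.2 h
  let φ : ↥(H : Subgroup G) × ↥P → N := fun hp => ⟨hp.1.1 * n * hp.1.1⁻¹, nH _ hp.1.2 ⟨n, hn⟩⟩ * hp.2.1
  have hφinj : Function.Injective φ := by
    rintro ⟨⟨a, ha⟩, ⟨p, hp⟩⟩ ⟨⟨b, hb⟩, ⟨r, hr⟩⟩ h
    have h' : a * n * a⁻¹ * (p : G) = b * n * b⁻¹ * (r : G) := congrArg Subtype.val h
    have hp' : (p : G) ∈ (H : Subgroup G) := hp
    have hr' : (r : G) ∈ (H : Subgroup G) := hr
    have hk : n⁻¹ * (b⁻¹ * a) * n ∈ (H : Subgroup G) := by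
      have e1 : n⁻¹ * (b⁻¹ * a) * n = b⁻¹ * (r : G) * (p : G)⁻¹ * a := by
        calc n⁻¹ * (b⁻¹ * a) * n = n⁻¹ * b⁻¹ * (a * n * a⁻¹ * (p : G)) * (p : G)⁻¹ * a := by group
          _ = n⁻¹ * b⁻¹ * (b * n * b⁻¹ * (r : G)) * (p : G)⁻¹ * a := by rw [h']
          _ = _ := by group
      rw [e1]
      exact mul_mem (mul_mem (mul_mem (inv_mem hb) hr') (inv_mem hp')) ha
    have hab := inv_mul_eq_one.1 (hinter _ (mul_mem (inv_mem hb) ha) hk)
    subst hab
    have := mul_left_cancel h'
    simp [Subtype.ext_iff, this]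
  let fq : N → Bool := fun m => four (lst (f m))
  cases nonempty_fintype (↥(H : Subgroup G) × ↥P)
  have hcard : (Finset.univ.image fun hp => f (φ hp)).card = 256 := by
    rw [Finset.card_image_of_injective _ (show Function.Injective fun hp => f (φ hp) from hfinj.comp hφinj), Finset.card_univ, ← Nat.card_eq_fintype_card,
      Nat.card_prod, hH, hP8]
  have hle : (Finset.univ.image fun hp => f (φ hp)).card ≤ 128 := by
    refine card_le_of_split _ (fq ⟨n, hn⟩) fun g hg => ?_
    obtain ⟨⟨⟨a, ha⟩, ⟨p, hp⟩⟩, -, rfl⟩ := Finset.mem_image.1 hg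
    have hp' : (p : G) ∈ (H : Subgroup G) := hp
    refine ⟨hfeven _, exists_syl_of_not_disj _ fun π hπ hπ' => ?_, ?_⟩
    · obtain ⟨m, rfl⟩ := hfsurj π hπ
      rw [← map_inv, ← map_mul, ← map_mul, hfP] at hπ'
      rw [hfP] at hπ
      have hy : (p : G) * m * (p : G)⁻¹ ∈ (H : Subgroup G) := mul_mem (mul_mem hp' hπ) (inv_mem hp')
      have hy2 : a⁻¹ * ((p : G) * m * (p : G)⁻¹) * a ∈ (H : Subgroup G) := mul_mem (mul_mem (inv_mem ha) hy) ha
      have hy3 : n * (a⁻¹ * ((p : G) * m * (p : G)⁻¹) * a) * n⁻¹ ∈ (H : Subgroup G) := by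
        have := mul_mem (mul_mem (inv_mem ha) hπ') ha
        simp only [φ, Subgroup.coe_mul, Subgroup.coe_inv] at this
        simpa [mul_assoc] using this
      have h1 := hinter _ hy3 (by simpa [mul_assoc] using hy2)
      have : (m : G) = 1 := by
        have h2 : a⁻¹ * ((p : G) * m * (p : G)⁻¹) * a = 1 := conj_eq_one_iff.1 h1
        have h3 : (p : G) * m * (p : G)⁻¹ = 1 := by
          have := congrArg (fun z => a * z * a⁻¹) h2
          simpa [mul_assoc] using this
        exact conj_eq_one_iff.1 h3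
      rw [show m = 1 from Subtype.ext this, map_one]
    · apply Bool.eq_iff_iff.2
      show four (lst (f (φ _))) = true ↔ four (lst (f ⟨n, hn⟩)) = true
      rw [four_iff, four_iff]
      have tr : ∀ w : N, (∃ π ρ : Equiv.Perm (Fin 6), lst π ∈ sylList ∧ lst ρ ∈ sylList ∧ orderOf (π * f w * ρ) = 4) ↔
          ∃ u v : G, u ∈ (H : Subgroup G) ∧ v ∈ (H : Subgroup G) ∧ u ∈ N ∧ v ∈ N ∧ orderOf (u * w * v) = 4 := by
        intro w
        constructor
        · rintro ⟨π, ρ, h1, h2, h3⟩
          obtain ⟨u, rfl⟩ := hfsurj π h1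
          obtain ⟨v, rfl⟩ := hfsurj ρ h2
          rw [← map_mul, ← map_mul, orderOf_injective f hfinj] at h3
          exact ⟨u, v, (hfP u).1 h1, (hfP v).1 h2, u.2, v.2, by rw [← h3, ← Subgroup.coe_mul, ← Subgroup.coe_mul, Subgroup.orderOf_coe]⟩
        · rintro ⟨u, v, h1, h2, h3, h4, h5⟩
          refine ⟨f ⟨u, h3⟩, f ⟨v, h4⟩, (hfP _).2 h1, (hfP _).2 h2, ?_⟩
          rw [← map_mul, ← map_mul, orderOf_injective f hfinj, ← Subgroup.orderOf_coe]
          exact h5
      rw [tr, tr]
      show (∃ u v : G, _ ∧ _ ∧ _ ∧ _ ∧ orderOf (u * (a * n * a⁻¹ * (p : G)) * v) = 4) ↔ _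
      have horder : ∀ u v : G, orderOf (u * (a * n * a⁻¹ * (p : G)) * v) =
          orderOf ((a⁻¹ * u * a) * n * (a⁻¹ * ((p : G) * v) * a)) := by
        intro u v
        have : u * (a * n * a⁻¹ * (p : G)) * v = MulAut.conj a ((a⁻¹ * u * a) * n * (a⁻¹ * ((p : G) * v) * a)) := by
          simp [MulAut.conj_apply, mul_assoc]
        rw [this, MulEquiv.orderOf_eq]
      have hN' : ∀ y ∈ N, a⁻¹ * y * a ∈ N := fun y hy => by
        simpa using ‹N.Normal›.conj_mem y hy a⁻¹
      constructor
      · rintro ⟨u, v, h1, h2, h3, h4, h5⟩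
        rw [horder] at h5
        exact ⟨_, _, mul_mem (mul_mem (inv_mem ha) h1) ha, mul_mem (mul_mem (inv_mem ha) (mul_mem hp' h2)) ha,
          hN' _ h3, hN' _ (mul_mem p.2 h4), h5⟩
      · rintro ⟨u, v, h1, h2, h3, h4, h5⟩
        refine ⟨a * u * a⁻¹, (p : G)⁻¹ * (a * v * a⁻¹), mul_mem (mul_mem ha h1) (inv_mem ha),
          mul_mem (inv_mem hp') (mul_mem (mul_mem ha h2) (inv_mem ha)), ‹N.Normal›.conj_mem u h3 a,
          mul_mem (inv_mem p.2) (‹N.Normal›.conj_mem v h4 a), ?_⟩
        rw [horder, ← h5]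
        congr 1
        simp [mul_assoc]
  omega

end Cfsg.Agent.S2488
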