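import Cfsg.Statements.S2490
import Cfsg.Agent.Lib.SmallGroups.Basic
import Cfsg.Agent.Lib.SmallGroups.PrimeSylow
import Cfsg.Agent.Lib.Burnside.Paqb
import Cfsg.Agent.Lib.MinimalNormal
import Cfsg.Agent.Lib.Primitive62.Basic
import Cfsg.Agent.Lib.ZStar.Final
import Cfsg.Agent.Lib.PSolvable.Core

set_option autoImplicit false
open Cfsg

namespace Cfsg.Agent.S2490

open Subgroup Cfsg.Agent.Lib.SmallGroups
open scoped Pointwise

section

variable {G : Type*} [Group G] [Finite G]

/-- `r` and `s` are joined in the prime graph. -/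
def Edge (G : Type*) [Group G] (r s : ℕ) : Prop := ∃ g : G, orderOf g = r * s

theorem Edge.symm {r s : ℕ} (h : Edge G r s) : Edge G s r := by rwa [Edge, mul_comm]

theorem edge_of_commute {r s : ℕ} (hrs : r.Coprime s) {x y : G} (hx : orderOf x = r) (hy : orderOf y = s)
    (h : Commute x y) : Edge G r s :=
  ⟨x * y, by rw [h.orderOf_mul_eq_mul_orderOf_of_coprime (by rw [hx, hy]; exact hrs), hx, hy]⟩

theorem edge_of_centralizer {r s : ℕ} [Fact r.Prime] [Fact s.Prime] (hrs : r ≠ s) (M : Subgroup G)
    (hr : r ∣ Nat.card M) (hs : s ∣ Nat.card (centralizer (M : Set G))) : Edge G r s := by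
  obtain ⟨x, hx⟩ := exists_prime_orderOf_dvd_card' r hr
  obtain ⟨y, hy⟩ := exists_prime_orderOf_dvd_card' s hs
  refine edge_of_commute ((Nat.coprime_primes Fact.out Fact.out).2 hrs)
    (x := (x : G)) (y := (y : G)) (by rw [Subgroup.orderOf_coe, hx]) (by rw [Subgroup.orderOf_coe, hy]) ?_
  exact mem_centralizer_iff.1 y.2 x.1 x.2

/-- An element of order `s` normalizing a group whose order admits no proper fixed-point subgroup centralizes it. -/
theorem commute_of_normalizes {s : ℕ} [hs : Fact s.Prime] {R : Subgroup G} {y : G} (hy : orderOf y = s)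
    (hn : y ∈ normalizer (R : Set G))
    (hnum : ∀ f ∈ (Nat.card R).divisors, f < Nat.card R → (Nat.card R - f) % s ≠ 0) :
    ∀ x ∈ R, Commute x y := by
  classical
  have hle : zpowers y ≤ normalizer (R : Set G) := zpowers_le.2 hn
  letI : MulAction (zpowers y) R :=
    { smul := fun g x => ⟨g.1 * x.1 * g.1⁻¹, (mem_normalizer_iff.1 (hle g.2) x.1).1 x.2⟩
      one_smul := fun x => Subtype.ext (show (1 : G) * x.1 * 1⁻¹ = x.1 by group)
      mul_smul := fun g h x => Subtype.ext (show (g.1 * h.1) * x.1 * (g.1 * h.1)⁻¹ = g.1 * (h.1 * x.1 * h.1⁻¹) * g.1⁻¹ by group) }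
  have hP : IsPGroup s (zpowers y) := IsPGroup.of_card (n := 1) (by rw [Nat.card_zpowers, hy, pow_one])
  have hmod := hP.card_modEq_card_fixedPoints R
  let C := R ⊓ centralizer ({y} : Set G)
  have hfix : Nat.card (MulAction.fixedPoints (zpowers y) R) = Nat.card C := by
    refine Nat.card_congr
      { toFun := fun x => ⟨x.1.1, x.1.2, ?_⟩
        invFun := fun x => ⟨⟨x.1, x.2.1⟩, ?_⟩
        left_inv := fun x => rfl
        right_inv := fun x => rfl }
    · have h := congrArg Subtype.val (x.2 ⟨y, mem_zpowers y⟩)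
      exact mem_centralizer_singleton_iff.2 (mul_inv_eq_iff_eq_mul.1 h).symm
    · rintro ⟨g, hg⟩
      obtain ⟨i, rfl⟩ := mem_zpowers_iff.1 hg
      apply Subtype.ext
      show y ^ i * x.1 * (y ^ i)⁻¹ = x.1
      have hc : Commute y x.1 := (mem_centralizer_singleton_iff.1 x.2.2).symm
      rw [(hc.zpow_left i).eq, mul_inv_cancel_right]
  rw [hfix] at hmod
  have hCR : C = R := by
    refine Subgroup.eq_of_le_of_card_ge inf_le_left ?_
    by_contra hlt
    refine hnum (Nat.card C) (Nat.mem_divisors.2 ⟨card_dvd_of_le inf_le_left, Nat.card_pos.ne'⟩) (by omega) ?_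
    exact Nat.sub_mod_eq_zero_of_mod_eq hmod
  intro x hx
  rw [← hCR] at hx
  exact mem_centralizer_singleton_iff.1 hx.2

/-- The coprime-action edge rule. -/
theorem edge_of_normal {r s : ℕ} [hr : Fact r.Prime] [hs : Fact s.Prime] (hrs : r ≠ s) (K : Subgroup G) [K.Normal]
    (hrK : r ∣ Nat.card K) (hsK : ¬ s ∣ Nat.card K) (hsG : s ∣ Nat.card G)
    (hnum : ∀ k : ℕ, k ≠ 0 → r ^ k ∣ Nat.card K → ∀ f ∈ (r ^ k).divisors, f < r ^ k → (r ^ k - f) % s ≠ 0) :
    Edge G r s := by
  classical
  obtain ⟨y, hy⟩ := exists_prime_orderOf_dvd_card' s hsG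
  letI : MulAction (zpowers y) (Sylow r K) := MulAction.compHom _ ((MulAut.conjNormal (H := K)).comp (zpowers y).subtype)
  have hP : IsPGroup s (zpowers y) := IsPGroup.of_card (n := 1) (by rw [Nat.card_zpowers, hy, pow_one])
  have hnd : ¬ s ∣ Nat.card (Sylow r K) := fun h =>
    hsK (h.trans ((Sylow.card_dvd_index (default : Sylow r K)).trans (index_dvd_card _)))
  obtain ⟨P, hfix⟩ := hP.nonempty_fixed_point_of_prime_not_dvd_card (Sylow r K) hnd
  have hPy := hfix ⟨y, mem_zpowers y⟩
  let R : Subgroup G := (P : Subgroup K).map K.subtype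
  have hn : y ∈ normalizer (R : Set G) := by
    rw [mem_normalizer_iff_map_conj_eq]
    have h := congrArg (fun Q : Sylow r K => (Q : Subgroup K).map K.subtype) hPy
    refine Eq.trans ?_ h
    show R.map (MulAut.conj y).toMonoidHom =
      ((P : Subgroup K).map (MulAut.conjNormal (H := K) y).toMonoidHom).map K.subtype
    rw [map_map, map_map]
    congr 1
  obtain ⟨k, hk⟩ := IsPGroup.iff_card.1 P.isPGroup'
  have hk0 : k ≠ 0 := by
    rintro rfl
    have := P.dvd_card_of_dvd_card hrK
    rw [hk, pow_zero, Nat.dvd_one] at this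
    exact hr.out.ne_one this
  have hR : Nat.card R = r ^ k := by rw [card_map_of_injective K.subtype_injective, hk]
  have hcomm := commute_of_normalizes (R := R) hy hn (by
    rw [hR]; exact hnum k hk0 (hk ▸ card_subgroup_dvd_card _))
  obtain ⟨x, hx⟩ := exists_prime_orderOf_dvd_card' (G := R) r (by rw [hR]; exact dvd_pow_self r hk0)
  exact edge_of_commute ((Nat.coprime_primes hr.out hs.out).2 hrs) (by rw [Subgroup.orderOf_coe, hx]) hy
    (hcomm x.1 x.2)

theorem num_table : ∀ p ∈ ([(2, 4, 11), (3, 2, 5), (3, 2, 11), (11, 1, 3), (5, 1, 11), (5, 1, 3), (2, 3, 5)] : List (ℕ × ℕ × ℕ)),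
    ∀ k ∈ List.range (p.2.1 + 1), k ≠ 0 →
      ∀ f ∈ (p.1 ^ k).divisors, f < p.1 ^ k → (p.1 ^ k - f) % p.2.2 ≠ 0 := by decide +kernel

theorem prime_dvd_7920 {r : ℕ} (hr : r.Prime) (h : r ∣ 7920) : r = 2 ∨ r = 3 ∨ r = 5 ∨ r = 11 := by
  rw [show (7920 : ℕ) = 2 ^ 4 * 3 ^ 2 * 5 * 11 by norm_num, hr.dvd_mul, hr.dvd_mul, hr.dvd_mul] at h
  rcases h with ((h | h) | h) | h
  · exact Or.inl ((Nat.prime_dvd_prime_iff_eq hr Nat.prime_two).1 (hr.dvd_of_dvd_pow h))
  · exact Or.inr (Or.inl ((Nat.prime_dvd_prime_iff_eq hr Nat.prime_three).1 (hr.dvd_of_dvd_pow h)))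
  · exact Or.inr (Or.inr (Or.inl ((Nat.prime_dvd_prime_iff_eq hr Nat.prime_five).1 h)))
  · exact Or.inr (Or.inr (Or.inr ((Nat.prime_dvd_prime_iff_eq hr (by norm_num)).1 h)))

theorem factorization_eleven : Nat.factorization 7920 11 = 1 := by
  rw [show (7920 : ℕ) = 11 * 720 by norm_num, Nat.factorization_mul (by norm_num) (by norm_num)]
  simp [Nat.Prime.factorization_self (by norm_num : Nat.Prime 11),
    Nat.factorization_eq_zero_of_not_dvd (by norm_num : ¬ 11 ∣ 720)]

theorem le_of_pow_dvd (hord : Nat.card G = 7920) {r k m : ℕ} (K : Subgroup G) (hd : r ^ k ∣ Nat.card K)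
    (hm : ¬ r ^ (m + 1) ∣ 7920) : k ≤ m := by
  by_contra h
  exact hm ((pow_dvd_pow r (by omega)).trans (hd.trans (hord ▸ card_subgroup_dvd_card K)))

theorem card_aut_bound (P : Subgroup G) {p : ℕ} [Fact p.Prime] [P.Normal] (hP : Nat.card P = p) :
    (centralizer (P : Set G)).index ∣ p - 1 := by
  have h := relIndex_centralizer_dvd hP
  rwa [normalizer_eq_top, relIndex_top_right] at h

instance fact11 : Fact (Nat.Prime 11) := ⟨by norm_num⟩
instance fact5 : Fact (Nat.Prime 5) := ⟨by norm_num⟩
instance fact3 : Fact (Nat.Prime 3) := ⟨by norm_num⟩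

/-- connected prime graph -/
def Conn (G : Type*) [Group G] : Prop :=
  ∀ A : Set ℕ, (∀ r s : ℕ, r.Prime → s.Prime → r ≠ s → Edge G r s → r ∣ Nat.card G → s ∣ Nat.card G → (r ∈ A ↔ s ∈ A)) →
    (2 ∈ A ↔ 11 ∈ A) ∧ (3 ∈ A ↔ 11 ∈ A) ∧ (5 ∈ A ↔ 11 ∈ A)

variable (hord : Nat.card G = 7920)
include hord

theorem conn_of {r s r' s' r'' s'' : ℕ}
    (h : ((r, s), (r', s'), (r'', s'')) ∈
      [((11, 2), (11, 3), (11, 5)), ((11, 2), (11, 3), (3, 5)), ((11, 2), (11, 5), (2, 3)), ((11, 2), (11, 5), (3, 5)),
        ((11, 2), (11, 3), (2, 5)), ((11, 2), (2, 5), (3, 5)), ((11, 3), (11, 5), (2, 5)), ((11, 2), (2, 3), (3, 5)),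
        ((11, 5), (5, 3), (5, 2)), ((11, 3), (3, 5), (2, 3)), ((11, 2), (2, 3), (2, 5))])
    (e1 : Edge G r s) (e2 : Edge G r' s') (e3 : Edge G r'' s'') : Conn G := by
  intro A hA
  have p2 : Nat.Prime 2 := Nat.prime_two
  have p3 : Nat.Prime 3 := Nat.prime_three
  have p5 : Nat.Prime 5 := Nat.prime_five
  have p11 : Nat.Prime 11 := by norm_num
  simp only [List.mem_cons, Prod.mk.injEq, List.not_mem_nil, or_false] at h
  rcases h with h | h | h | h | h | h | h | h | h | h | h <;>
    obtain ⟨⟨rfl, rfl⟩, ⟨rfl, rfl⟩, rfl, rfl⟩ := h <;>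
    · have f1 := hA _ _ (by norm_num) (by norm_num) (by norm_num) e1 (by rw [hord]; norm_num) (by rw [hord]; norm_num)
      have f2 := hA _ _ (by norm_num) (by norm_num) (by norm_num) e2 (by rw [hord]; norm_num) (by rw [hord]; norm_num)
      have f3 := hA _ _ (by norm_num) (by norm_num) (by norm_num) e3 (by rw [hord]; norm_num) (by rw [hord]; norm_num)
      tauto

theorem rule_five_three (K : Subgroup G) [K.Normal] (h3 : 3 ∣ Nat.card K) (h5 : ¬ 5 ∣ Nat.card K) : Edge G 3 5 :=
  edge_of_normal (by norm_num) K h3 h5 (by rw [hord]; norm_num) fun k hk hd =>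
    num_table (3, 2, 5) (by simp) k (List.mem_range.2 (Nat.lt_succ_of_le (le_of_pow_dvd hord K hd (by norm_num)))) hk

theorem rule_three_five (K : Subgroup G) [K.Normal] (h5 : 5 ∣ Nat.card K) (h3 : ¬ 3 ∣ Nat.card K) : Edge G 3 5 :=
  Edge.symm <| edge_of_normal (by norm_num) K h5 h3 (by rw [hord]; norm_num) fun k hk hd =>
    num_table (5, 1, 3) (by simp) k (List.mem_range.2 (Nat.lt_succ_of_le (le_of_pow_dvd hord K hd (by norm_num)))) hk

theorem rule_eleven (K : Subgroup G) [K.Normal] (h11 : ¬ 11 ∣ Nat.card K) {r : ℕ} [Fact r.Prime]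
    (hr : r = 2 ∨ r = 3 ∨ r = 5) (hrK : r ∣ Nat.card K) : Edge G 11 r := by
  refine Edge.symm (edge_of_normal (by omega) K hrK h11 (by rw [hord]; norm_num) fun k hk hd => ?_)
  rcases hr with rfl | rfl | rfl
  · exact num_table (2, 4, 11) (by simp) k (List.mem_range.2 (Nat.lt_succ_of_le (le_of_pow_dvd hord K hd (by norm_num)))) hk
  · exact num_table (3, 2, 11) (by simp) k (List.mem_range.2 (Nat.lt_succ_of_le (le_of_pow_dvd hord K hd (by norm_num)))) hk
  · exact num_table (5, 1, 11) (by simp) k (List.mem_range.2 (Nat.lt_succ_of_le (le_of_pow_dvd hord K hd (by norm_num)))) hk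

/-- A normal subgroup of order eleven. -/
theorem conn_of_eleven (P : Subgroup G) [P.Normal] (hP : Nat.card P = 11) : Conn G := by
  have hd := card_aut_bound P hP
  have hc := (centralizer (P : Set G)).card_mul_index
  rw [hord] at hc
  have h11 : 11 ∣ Nat.card P := by rw [hP]
  have hi := Nat.le_of_dvd (by norm_num) hd
  have h2 : 2 ∣ Nat.card (centralizer (P : Set G)) := by
    generalize Nat.card (centralizer (P : Set G)) = c at hc
    generalize (centralizer (P : Set G)).index = i at hc hd hi
    interval_cases i <;> first | omega | norm_num at hd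
  have h3 : 3 ∣ Nat.card (centralizer (P : Set G)) := by
    generalize Nat.card (centralizer (P : Set G)) = c at hc
    generalize (centralizer (P : Set G)).index = i at hc hd hi
    interval_cases i <;> first | omega | norm_num at hd
  have e2 := edge_of_centralizer (r := 11) (s := 2) (by norm_num) P h11 h2
  have e3 := edge_of_centralizer (r := 11) (s := 3) (by norm_num) P h11 h3
  by_cases h5 : 5 ∣ Nat.card (centralizer (P : Set G))
  · exact conn_of hord (by simp) e2 e3 (edge_of_centralizer (r := 11) (s := 5) (by norm_num) P h11 h5)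
  · exact conn_of hord (by simp) e2 e3 (rule_five_three hord _ h3 h5)

/-- A normal subgroup of order five. -/
theorem conn_of_five (P : Subgroup G) [P.Normal] (hP : Nat.card P = 5) : Conn G := by
  have hd := card_aut_bound P hP
  have hc := (centralizer (P : Set G)).card_mul_index
  rw [hord] at hc
  have h5 : 5 ∣ Nat.card P := by rw [hP]
  have hi := Nat.le_of_dvd (by norm_num) hd
  have key : 2 ∣ Nat.card (centralizer (P : Set G)) ∧ 3 ∣ Nat.card (centralizer (P : Set G)) ∧
      11 ∣ Nat.card (centralizer (P : Set G)) := by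
    generalize Nat.card (centralizer (P : Set G)) = c at hc
    generalize (centralizer (P : Set G)).index = i at hc hd hi
    interval_cases i <;> first | omega | norm_num at hd
  exact conn_of hord (by simp) (edge_of_centralizer (r := 5) (s := 11) (by norm_num) P h5 key.2.2).symm
    (edge_of_centralizer (r := 5) (s := 3) (by norm_num) P h5 key.2.1)
    (edge_of_centralizer (r := 5) (s := 2) (by norm_num) P h5 key.1)

/-- A normal subgroup containing eleven with trivial normality of its Sylow subgroup. -/
theorem normal_sylow (K : Subgroup G) [K.Normal] (P : Sylow 11 K) (h1 : Nat.card (Sylow 11 K) = 1)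
    (hK : 11 ∣ Nat.card K) :
    ∃ Q : Subgroup G, Q.Normal ∧ Nat.card Q = 11 := by
  haveI : Subsingleton (Sylow 11 K) := (Nat.card_eq_one_iff_unique.1 h1).1
  haveI : (P : Subgroup K).Characteristic := Sylow.characteristic_of_subsingleton P
  refine ⟨(P : Subgroup K).map K.subtype, ConjAct.normal_of_characteristic_of_normal, ?_⟩
  obtain ⟨m, hm⟩ := hK
  have hnd : ¬ 11 ∣ m := fun ⟨c, hc⟩ => by
    have h : 121 ∣ 7920 := Dvd.dvd.trans (⟨c, by rw [hm, hc]; ring⟩ : 121 ∣ Nat.card K) (hord ▸ card_subgroup_dvd_card K)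
    norm_num at h
  rw [card_map_of_injective K.subtype_injective, card_sylow_eq P (k := 1) (by rw [hm, pow_one]) hnd, pow_one]

theorem sylow_eleven_mem (K : Subgroup G) (hK : 11 ∣ Nat.card K) :
    Nat.card (Sylow 11 K) ∈ ({1, 12, 45, 144} : Finset ℕ) := by
  obtain ⟨m, hm⟩ := hK
  have h720 : m ∣ 720 := by
    have h : 11 * m ∣ 11 * 720 := by rw [← hm]; exact (card_subgroup_dvd_card K).trans (dvd_of_eq hord)
    exact Nat.dvd_of_mul_dvd_mul_left (by norm_num) h
  have hnd : ¬ 11 ∣ m := fun h => by have := h.trans h720; norm_num at this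
  have hd := (card_sylow_dvd (p := 11) (k := 1) (by rw [hm, pow_one]) hnd).trans h720
  have hmod := card_sylow_modEq_one 11 K
  unfold Nat.ModEq at hmod
  have hmem : Nat.card (Sylow 11 K) ∈ (Nat.divisors 720).filter (fun d => d % 11 = 1) :=
    Finset.mem_filter.2 ⟨Nat.mem_divisors.2 ⟨hd, by norm_num⟩, hmod⟩
  rwa [show (Nat.divisors 720).filter (fun d => d % 11 = 1) = {1, 12, 45, 144} by decide +kernel] at hmem

/-- A solvable minimal normal subgroup. -/
theorem conn_of_elementary (M : Subgroup G) [M.Normal] (hM : M ≠ ⊥) {r : ℕ} (hr : r.Prime)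
    (hexp : ∀ x ∈ M, x ^ r = 1) : Conn G := by
  haveI := Fact.mk hr
  obtain ⟨k, hk⟩ := (IsPGroup.iff_card (p := r) (G := M)).1 fun a => ⟨1, Subtype.ext (by rw [pow_one]; exact hexp a.1 a.2)⟩
  have hk0 : k ≠ 0 := by
    rintro rfl
    rw [pow_zero, Subgroup.card_eq_one] at hk
    exact hM hk
  have hdM : r ∣ Nat.card M := hk ▸ dvd_pow_self r hk0
  have hkd : r ^ k ∣ 7920 := hk ▸ hord ▸ card_subgroup_dvd_card M
  have hr' : r ∣ 7920 := (dvd_pow_self r hk0).trans hkd
  have hr4 : r = 2 ∨ r = 3 ∨ r = 5 ∨ r = 11 := prime_dvd_7920 hr hr'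
  have hk1 : r = 5 ∨ r = 11 → k = 1 := fun h => by
    by_contra hne
    have := (pow_dvd_pow r (show 2 ≤ k by omega)).trans hkd
    rcases h with rfl | rfl <;> norm_num at this
  rcases hr4 with rfl | rfl | rfl | rfl
  · -- two
    have h11M : ¬ 11 ∣ Nat.card M := fun h => by
      have := (Nat.prime_dvd_prime_iff_eq (by norm_num) Nat.prime_two).1
        ((Fact.out : Nat.Prime 11).dvd_of_dvd_pow (hk ▸ h))
      omega
    have e112 := rule_eleven hord M h11M (Or.inl rfl) hdM
    set C := centralizer (M : Set G)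
    have h11C : 11 ∣ Nat.card C := by
      obtain ⟨y, hy⟩ := exists_prime_orderOf_dvd_card' 11 (by rw [hord]; norm_num : 11 ∣ Nat.card G)
      have hk4 : k ≤ 4 := by
        by_contra h
        have := (pow_dvd_pow 2 (show 5 ≤ k by omega)).trans hkd
        norm_num at this
      have hcomm := commute_of_normalizes (R := M) hy (by rw [normalizer_eq_top]; exact mem_top y)
        (by rw [hk]; exact num_table (2, 4, 11) (by simp) k (List.mem_range.2 (show k < 5 by omega)) hk0)
      have hyC : y ∈ C := mem_centralizer_iff.2 fun x hx => hcomm x hx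
      exact hy ▸ Subgroup.orderOf_dvd_natCard C hyC
    by_cases h3C : 3 ∣ Nat.card C
    · by_cases h5C : 5 ∣ Nat.card C
      · exact conn_of hord (by simp) e112 (edge_of_centralizer (r := 2) (s := 3) (by norm_num) M hdM h3C)
          (edge_of_centralizer (r := 2) (s := 5) (by norm_num) M hdM h5C)
      · exact conn_of hord (by simp) e112 (edge_of_centralizer (r := 2) (s := 3) (by norm_num) M hdM h3C)
          (rule_five_three hord C h3C h5C)
    · by_cases h5C : 5 ∣ Nat.card C
      · exact conn_of hord (by simp) e112 (edge_of_centralizer (r := 2) (s := 5) (by norm_num) M hdM h5C)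
          (rule_three_five hord C h5C h3C)
      · have hmem := sylow_eleven_mem hord C h11C
        have hd176 : Nat.card C ∣ 176 := by
          have h : Nat.card C ∣ 176 * (3 ^ 2 * 5) := (card_subgroup_dvd_card C).trans (dvd_of_eq (by rw [hord]; norm_num))
          exact ((Nat.Coprime.pow_right 2 ((Nat.prime_three.coprime_iff_not_dvd.2 h3C).symm)).mul_right
            ((Nat.prime_five.coprime_iff_not_dvd.2 h5C).symm)).dvd_of_dvd_mul_right h
        have h1 : Nat.card (Sylow 11 C) = 1 := by
          have hd := ((Sylow.card_dvd_index (default : Sylow 11 C)).trans (index_dvd_card _)).trans hd176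
          simp only [Finset.mem_insert, Finset.mem_singleton] at hmem
          rcases hmem with h | h | h | h <;> rw [h] at hd <;> first | exact h | norm_num at hd
        obtain ⟨Q, hQn, hQ⟩ := normal_sylow hord C default h1 h11C
        exact conn_of_eleven hord Q hQ
  · -- three
    have hne : ∀ s : ℕ, s.Prime → s ≠ 3 → ¬ s ∣ Nat.card M := fun s hs hs3 h =>
      hs3 ((Nat.prime_dvd_prime_iff_eq hs Nat.prime_three).1 (hs.dvd_of_dvd_pow (hk ▸ h)))
    have e113 := rule_eleven hord M (hne 11 (by norm_num) (by norm_num)) (Or.inr (Or.inl rfl)) hdM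
    have e35 := rule_five_three hord M hdM (hne 5 (by norm_num) (by norm_num))
    set C := centralizer (M : Set G)
    by_cases h2C : 2 ∣ Nat.card C
    · exact conn_of hord (by simp) e113 e35 (edge_of_centralizer (r := 3) (s := 2) (by norm_num) M hdM h2C).symm
    · have hk2 : k ≤ 2 := by
        by_contra h
        have := (pow_dvd_pow 3 (show 3 ≤ k by omega)).trans hkd
        norm_num at this
      obtain ⟨y, hy⟩ := exists_prime_orderOf_dvd_card' 11 (by rw [hord]; norm_num : 11 ∣ Nat.card G)
      have hcomm := commute_of_normalizes (R := M) hy (by rw [normalizer_eq_top]; exact mem_top y)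
        (by rw [hk]; exact num_table (3, 2, 11) (by simp) k (List.mem_range.2 (show k < 3 by omega)) hk0)
      have h11C : 11 ∣ Nat.card C := hy ▸ Subgroup.orderOf_dvd_natCard C (mem_centralizer_iff.2 fun x hx => hcomm x hx)
      have hmem := sylow_eleven_mem hord C h11C
      have hd495 : Nat.card C ∣ 495 := by
        have h : Nat.card C ∣ 495 * 2 ^ 4 := (card_subgroup_dvd_card C).trans (dvd_of_eq (by rw [hord]; norm_num))
        exact (Nat.Coprime.pow_right 4 ((Nat.prime_two.coprime_iff_not_dvd.2 h2C).symm)).dvd_of_dvd_mul_right h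
      have hMC : M ≤ C := fun a ha => mem_centralizer_iff.2 fun b hb => by
        have hcom : IsMulCommutative M := by
          have hp : IsPGroup 3 M := fun a => ⟨1, Subtype.ext (by rw [pow_one]; exact hexp a.1 a.2)⟩
          rcases Nat.lt_or_ge k 2 with h | h
          · haveI := isCyclic_of_prime_card (p := 3) (α := M) (by rw [hk, show k = 1 by omega, pow_one])
            infer_instance
          · exact IsPGroup.isMulCommutative_of_card_eq_prime_sq (p := 3) (by rw [hk, show k = 2 by omega])
        exact congrArg Subtype.val (hcom.is_comm.comm ⟨b, hb⟩ ⟨a, ha⟩)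
      have h1 : Nat.card (Sylow 11 C) = 1 := by
        have hd := ((Sylow.card_dvd_index (default : Sylow 11 C)).trans (index_dvd_card _)).trans hd495
        simp only [Finset.mem_insert, Finset.mem_singleton] at hmem
        rcases hmem with h | h | h | h <;> rw [h] at hd
        · exact h
        · norm_num at hd
        · exfalso
          let P : Sylow 11 C := default
          have hmul := card_normalizer_sylow_mul P
          rw [h] at hmul
          have hle : M.subgroupOf C ≤ normalizer ((P : Subgroup C) : Set C) := fun x hx =>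
            centralizer_le_normalizer' _ (mem_centralizer_iff.2 fun z _ =>
              Subtype.ext (mem_centralizer_iff.1 z.2 x.1 hx).symm)
          have h3N : 3 ∣ Nat.card (normalizer ((P : Subgroup C) : Set C)) :=
            hdM.trans (by rw [← Nat.card_congr (subgroupOfEquivOfLe hMC).toEquiv]; exact card_dvd_of_le hle)
          have h135 : 3 * 45 ∣ 495 := ((mul_dvd_mul_right h3N 45).trans (dvd_of_eq hmul)).trans hd495
          norm_num at h135
        · norm_num at hd
      obtain ⟨Q, hQn, hQ⟩ := normal_sylow hord C default h1 h11C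
      exact conn_of_eleven hord Q hQ
  · exact conn_of_five hord M (by rw [hk, hk1 (Or.inl rfl), pow_one])
  · exact conn_of_eleven hord M (by rw [hk, hk1 (Or.inr rfl), pow_one])

/-- A simple normal subgroup, twelve Sylow subgroups. -/
theorem conn_twelve (P : Sylow 11 G) (h : Nat.card (Sylow 11 G) = 12) : Conn G := by
  have hP : Nat.card (P : Subgroup G) = 11 :=
    (card_sylow_eq P (k := 1) (m := 720) (by rw [hord]; norm_num) (by norm_num)).trans (pow_one 11)
  have hN := card_normalizer_sylow_mul P
  rw [h, hord] at hN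
  obtain ⟨e, he, hcard⟩ := exists_card_normalizer_eq hP
  set C := centralizer ((P : Subgroup G) : Set G)
  set N := normalizer ((P : Subgroup G) : Set G)
  have hN660 : Nat.card N = 660 := by omega
  rw [hN660] at hcard
  have he' : e = 1 ∨ e = 2 ∨ e = 5 ∨ e = 10 := by
    have := Nat.le_of_dvd (by norm_num) he
    interval_cases e <;> simp_all
  have h11 : 11 ∣ Nat.card (P : Subgroup G) := by rw [hP]
  have h2 : 2 ∣ Nat.card C := by rcases he' with rfl | rfl | rfl | rfl <;> omega
  have h3 : 3 ∣ Nat.card C := by rcases he' with rfl | rfl | rfl | rfl <;> omega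
  have e2 := edge_of_centralizer (r := 11) (s := 2) (by norm_num) (P : Subgroup G) h11 h2
  have e3 := edge_of_centralizer (r := 11) (s := 3) (by norm_num) (P : Subgroup G) h11 h3
  by_cases h5 : 5 ∣ Nat.card C
  · exact conn_of hord (by simp) e2 e3 (edge_of_centralizer (r := 11) (s := 5) (by norm_num) (P : Subgroup G) h11 h5)
  · have hCN : C ≤ N := centralizer_le_normalizer' _
    have hCn : (C.subgroupOf N).Normal := ⟨fun x hx g => by
      rw [mem_subgroupOf] at hx ⊢
      rw [mem_centralizer_iff] at hx ⊢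
      intro z hz
      have hz' : g.1⁻¹ * z * g.1 ∈ (P : Subgroup G) := by
        have := (mem_normalizer_iff.1 (inv_mem g.2) z).1 hz
        rwa [inv_inv] at this
      have := hx _ hz'
      calc z * ((g * x * g⁻¹ : N) : G) = g.1 * ((g.1⁻¹ * z * g.1) * x.1) * g.1⁻¹ := by simp [mul_assoc]
        _ = g.1 * (x.1 * (g.1⁻¹ * z * g.1)) * g.1⁻¹ := by rw [this]
        _ = ((g * x * g⁻¹ : N) : G) * z := by simp [mul_assoc]⟩
    haveI := hCn
    have hcc : Nat.card (C.subgroupOf N) = Nat.card C := Nat.card_congr (subgroupOfEquivOfLe hCN).toEquiv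
    have hE : Edge N 3 5 := edge_of_normal (by norm_num) (C.subgroupOf N) (by rwa [hcc]) (by rwa [hcc])
      (by rw [hN660]; norm_num) fun k hk hd => num_table (3, 2, 5) (by simp) k (List.mem_range.2 (show k < 3 by
        by_contra hc
        have := ((pow_dvd_pow 3 (show 3 ≤ k by omega)).trans hd).trans ((card_subgroup_dvd_card _).trans (dvd_of_eq hN660))
        norm_num at this)) hk
    obtain ⟨g, hg⟩ := hE
    have e35 : Edge G 3 5 := ⟨g.1, by rw [Subgroup.orderOf_coe, hg]⟩
    exact conn_of hord (by simp) e2 e3 e35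

omit hord in
/-- The case of forty-five Sylow subgroups does not occur in a simple group. -/
theorem false_fortyfive {X : Type*} [Group X] [Finite X] [IsSimpleGroup X] (hX : ¬ IsMulCommutative X)
    {m : ℕ} (hm : Nat.card X = 11 * m) (hm720 : m ∣ 720) (h45 : Nat.card (Sylow 11 X) = 45)
    (hN : ∀ P : Sylow 11 X, Nat.card (normalizer ((P : Subgroup X) : Set X)) ∣ 176) : False := by
  classical
  haveI : Fact (Nat.Prime 2) := ⟨Nat.prime_two⟩
  let P : Sylow 11 X := default
  set N := normalizer ((P : Subgroup X) : Set X) with hNdef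
  set C := centralizer ((P : Subgroup X) : Set X) with hCdef
  have hnd : ¬ 11 ∣ m := fun h => by have := h.trans hm720; norm_num at this
  have hP : Nat.card (P : Subgroup X) = 11 :=
    (card_sylow_eq P (k := 1) (by rw [hm, pow_one]) hnd).trans (pow_one 11)
  obtain ⟨e, he, he1, hC11, hcard⟩ := exists_card_normalizer_eq_of_simple hX P hP
  have hNd := hN P
  obtain ⟨c, hc⟩ := hC11
  have he2 : e = 2 := by
    have h16 : e ∣ 16 := by
      have h : 11 * (e * c) ∣ 11 * 16 := by
        rw [show 11 * (e * c) = e * (11 * c) by ring, ← hc, ← hcard]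
        exact hNd
      exact (dvd_mul_right e c).trans (Nat.dvd_of_mul_dvd_mul_left (by norm_num) h)
    have hg := Nat.dvd_gcd he h16
    norm_num at hg
    exact ((Nat.dvd_prime Nat.prime_two).1 hg).resolve_left he1
  subst he2
  have hXcard : Nat.card X = 45 * Nat.card N := by rw [← card_normalizer_sylow_mul P, h45, mul_comm]
  have hNidx : N.index = 45 := P.card_eq_index_normalizer.symm.trans h45
  by_cases hc2 : 2 ∣ c
  · -- a central involution of `N`
    have hCN : C ≤ N := centralizer_le_normalizer' _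
    let T : Sylow 2 N := default
    have hT2 : 2 ∣ Nat.card C := hc ▸ hc2.mul_left 11
    haveI : (C.subgroupOf N).Normal := ⟨fun x hx g => by
      rw [mem_subgroupOf] at hx ⊢
      rw [mem_centralizer_iff] at hx ⊢
      intro z hz
      have hz' : g.1⁻¹ * z * g.1 ∈ (P : Subgroup X) := by
        have := (mem_normalizer_iff.1 (inv_mem g.2) z).1 hz
        rwa [inv_inv] at this
      have := hx _ hz'
      calc z * ((g * x * g⁻¹ : N) : X) = g.1 * ((g.1⁻¹ * z * g.1) * x.1) * g.1⁻¹ := by simp [mul_assoc]
        _ = g.1 * (x.1 * (g.1⁻¹ * z * g.1)) * g.1⁻¹ := by rw [this]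
        _ = ((g * x * g⁻¹ : N) : X) * z := by simp [mul_assoc]⟩
    -- an involution of `C` centralized by `T`
    have hccC : Nat.card (C.subgroupOf N) = Nat.card C := Nat.card_congr (subgroupOfEquivOfLe hCN).toEquiv
    let Kf : Subgroup N := C.subgroupOf N ⊓ centralizer ((T : Subgroup N) : Set N)
    letI : MulAction T (C.subgroupOf N) := MulAction.compHom _ ((MulAut.conjNormal (H := C.subgroupOf N)).comp (T : Subgroup N).subtype)
    have hmodT := T.isPGroup'.card_modEq_card_fixedPoints (C.subgroupOf N)
    have hKf : Nat.card (MulAction.fixedPoints T (C.subgroupOf N)) = Nat.card Kf := by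
      refine Nat.card_congr
        { toFun := fun x => ⟨x.1.1, x.1.2, mem_centralizer_iff.2 fun g hg =>
            mul_inv_eq_iff_eq_mul.1 (congrArg Subtype.val (x.2 ⟨g, hg⟩))⟩
          invFun := fun x => ⟨⟨x.1, x.2.1⟩, fun g => Subtype.ext
            (mul_inv_eq_iff_eq_mul.2 (mem_centralizer_iff.1 x.2.2 g.1 g.2))⟩
          left_inv := fun x => rfl
          right_inv := fun x => rfl }
    have h2K : 2 ∣ Nat.card Kf := by
      rw [hKf, hccC] at hmodT
      exact (Nat.ModEq.dvd_iff hmodT dvd_rfl).1 hT2
    obtain ⟨x, hx⟩ := exists_prime_orderOf_dvd_card' 2 h2K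
    let t : X := ((x.1 : N) : X)
    have ht2 : orderOf t = 2 := by
      show orderOf ((x.1 : N) : X) = 2
      rw [Subgroup.orderOf_coe, Subgroup.orderOf_coe, hx]
    have htC : t ∈ C := x.2.1
    -- `N` is generated by `P` and `T`
    have hcentral : ∀ n : N, n.1 * t * n.1⁻¹ = t := by
      let Z : Subgroup N := centralizer {(x.1 : N)}
      suffices hZ : Z = ⊤ by
        intro n
        have hn := mem_centralizer_singleton_iff.1 (hZ ▸ mem_top n : n ∈ Z)
        show n.1 * ((x.1 : N) : X) * n.1⁻¹ = ((x.1 : N) : X)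
        rw [mul_inv_eq_iff_eq_mul]
        exact congrArg Subtype.val hn
      have hTZ : (T : Subgroup N) ≤ Z := fun g hg => by
        rw [mem_centralizer_singleton_iff]
        exact mem_centralizer_iff.1 x.2.2 g hg
      have hPZ : (P : Subgroup X).subgroupOf N ≤ Z := fun g hg => by
        rw [mem_centralizer_singleton_iff]
        exact Subtype.ext (mem_centralizer_iff.1 htC g.1 hg)
      refine Subgroup.eq_top_of_card_eq Z (Nat.dvd_antisymm (card_subgroup_dvd_card Z) ?_)
      have h11Z : 11 ∣ Nat.card Z := by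
        have h11 : Nat.card ((P : Subgroup X).subgroupOf N) = 11 :=
          (Nat.card_congr (subgroupOfEquivOfLe Subgroup.le_normalizer).toEquiv).trans hP
        exact h11 ▸ card_dvd_of_le hPZ
      obtain ⟨j, hj⟩ := IsPGroup.iff_card.1 T.isPGroup'
      have h11N : 11 * 2 ^ j = Nat.card N := by
        obtain ⟨d, hd⟩ : Nat.card N ∣ 11 * 2 ^ 4 := hNd.trans (dvd_of_eq (by norm_num))
        have hTi := T.not_dvd_index
        have hTm := (T : Subgroup N).card_mul_index
        rw [hj] at hTm
        have hi : (T : Subgroup N).index ∣ 11 := by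
          have h : (T : Subgroup N).index ∣ 11 * 2 ^ 4 := ((dvd_mul_left _ _).trans (dvd_of_eq hTm)).trans ⟨d, hd⟩
          exact (Nat.Coprime.pow_right 4 ((Nat.prime_two.coprime_iff_not_dvd.2 hTi).symm)).dvd_of_dvd_mul_right h
        rcases (Nat.dvd_prime (by norm_num : Nat.Prime 11)).1 hi with h | h
        · exfalso
          rw [h, mul_one] at hTm
          have h11N : 11 ∣ Nat.card N := hcard ▸ (hc ▸ (dvd_mul_right 11 c).mul_left 2)
          rw [← hTm] at h11N
          exact absurd ((Fact.out : Nat.Prime 11).dvd_of_dvd_pow h11N) (by norm_num)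
        · rw [h, mul_comm] at hTm; exact hTm
      rw [← h11N]
      exact (Nat.Coprime.pow_right j (by norm_num)).mul_dvd_of_dvd_of_dvd h11Z (hj ▸ card_dvd_of_le hTZ)
    -- `t` fixes one point
    letI : MulAction X (Sylow 11 X) := inferInstance
    haveI : Fintype (Sylow 11 X) := Fintype.ofFinite _
    let π := MulAction.toPermHom X (Sylow 11 X) t
    have hπ2 : π ^ 2 = 1 := by rw [← map_pow, ← ht2, pow_orderOf_eq_one, map_one]
    have hsign : Equiv.Perm.sign π = 1 := sign_toPerm hX (Sylow 11 X) t
    have hfixiff : ∀ Q : Sylow 11 X, π Q = Q ↔ t ∈ normalizer ((Q : Subgroup X) : Set X) := fun Q =>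
      Sylow.smul_eq_iff_mem_normalizer (g := t) (P := Q)
    have hmod : (Function.fixedPoints π).toFinset.card % 11 = 1 := by
      obtain ⟨y, hy⟩ := exists_prime_orderOf_dvd_card' (G := (P : Subgroup X)) 11 (by rw [hP])
      let Fx := {Q : Sylow 11 X // π Q = Q}
      letI : MulAction (P : Subgroup X) Fx :=
        { smul := fun g Q => ⟨g.1 • Q.1, by
            show t • (g.1 • Q.1) = g.1 • Q.1
            rw [← mul_smul, ← mem_centralizer_iff.1 htC g.1 g.2, mul_smul]
            exact congrArg (g.1 • ·) Q.2⟩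
          one_smul := fun Q => Subtype.ext (one_smul X Q.1)
          mul_smul := fun g h Q => Subtype.ext (mul_smul g.1 h.1 Q.1) }
      have h1 := P.isPGroup'.card_modEq_card_fixedPoints Fx
      have h2 : Nat.card (MulAction.fixedPoints (P : Subgroup X) Fx) = 1 := by
        refine Nat.card_eq_one_iff_unique.2 ⟨⟨fun a b => ?_⟩, ⟨⟨P, ?_⟩, ?_⟩⟩
        · refine Subtype.ext (Subtype.ext ?_)
          have key : ∀ a : MulAction.fixedPoints (P : Subgroup X) Fx, a.1.1 = P := fun a => by
            have hfix : a.1.1 ∈ MulAction.fixedPoints (P : Subgroup X) (Sylow 11 X) := fun g =>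
              congrArg Subtype.val (a.2 g)
            exact Sylow.ext (P.3 (a.1.1).2 (P.isPGroup'.sylow_mem_fixedPoints_iff.1 hfix))
          rw [key a, key b]
        · rw [hfixiff]; exact centralizer_le_normalizer' _ htC
        · intro g
          exact Subtype.ext (Sylow.smul_eq_iff_mem_normalizer.2 (Subgroup.le_normalizer g.2))
      rw [h2] at h1
      have h3 : Nat.card Fx = (Function.fixedPoints π).toFinset.card := by
        rw [Nat.card_eq_fintype_card, Fintype.card_subtype]
        congr 1
        ext Q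
        simp [Function.IsFixedPt]
      rw [← h3]
      exact h1
    have hone : (Function.fixedPoints π).toFinset.card = 1 := by
      have hsupp : π.support.card + (Function.fixedPoints π).toFinset.card = 45 := by
        rw [← h45, Nat.card_eq_fintype_card, ← Finset.card_univ, ← Finset.card_union_of_disjoint]
        · congr 1
          ext Q
          simp [Function.IsFixedPt, em']
        · rw [Finset.disjoint_left]
          intro Q hQ hQ'
          simp [Function.IsFixedPt] at hQ hQ'
          exact hQ hQ'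
      have hct : ∀ n ∈ π.cycleType, n = 2 := fun n hn => by
        have h1 := Equiv.Perm.dvd_of_mem_cycleType hn
        have h2 := h1.trans (orderOf_dvd_of_pow_eq_one hπ2)
        exact Nat.le_antisymm (Nat.le_of_dvd two_pos h2) (Equiv.Perm.two_le_of_mem_cycleType hn)
      have hrep := Multiset.eq_replicate_card.2 hct
      rw [Equiv.Perm.sign_of_cycleType, hrep, Multiset.sum_replicate, Multiset.card_replicate, smul_eq_mul] at hsign
      have heven : Multiset.card π.cycleType % 2 = 0 := by
        by_contra h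
        rw [Odd.neg_one_pow (Nat.odd_iff.2 (by omega))] at hsign
        exact absurd hsign (by decide)
      have hs : π.support.card = 2 * Multiset.card π.cycleType := by
        rw [← Equiv.Perm.sum_cycleType]
        conv_lhs => rw [hrep]
        rw [Multiset.sum_replicate, smul_eq_mul, mul_comm]
      by_contra hne
      have h45' : (Function.fixedPoints π).toFinset.card = 45 := by omega
      -- then `t` fixes every point
      have hall : ∀ Q : Sylow 11 X, π Q = Q := fun Q => by
        by_contra hQ
        have : Q ∈ π.support := Equiv.Perm.mem_support.2 hQ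
        have := Finset.card_pos.2 ⟨Q, this⟩
        omega
      have hne : N ≠ ⊤ := fun h => by rw [h, index_top] at hNidx; omega
      have hcore : N.normalCore = ⊥ := eq_bot_of_normal_of_ne_top N.normalCore_normal
        fun h => hne (top_le_iff.1 (h ▸ N.normalCore_le))
      have htcore : t ∈ N.normalCore := fun b => by
        show b * t * b⁻¹ ∈ N
        refine (Sylow.smul_eq_iff_mem_normalizer (g := b * t * b⁻¹) (P := P)).1 ?_
        rw [mul_smul, mul_smul,
          show t • b⁻¹ • P = b⁻¹ • P from hall (b⁻¹ • P), smul_inv_smul]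
      rw [hcore, mem_bot] at htcore
      rw [htcore, orderOf_one] at ht2
      omega
    obtain ⟨Q0, hQ0⟩ := Finset.card_eq_one.1 hone
    have huniq : ∀ Q : Sylow 11 X, π Q = Q → Q = P := fun Q hQ => by
      have hPf : π P = P := (hfixiff P).2 (centralizer_le_normalizer' _ htC)
      have h1 : Q ∈ (Function.fixedPoints π).toFinset := by simp [Function.IsFixedPt, hQ]
      have h2 : P ∈ (Function.fixedPoints π).toFinset := by simp [Function.IsFixedPt, hPf]
      rw [hQ0, Finset.mem_singleton] at h1 h2
      rw [h1, h2]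
    have hiso : IsIsolatedInvolution t := ⟨ht2, fun g hg => by
      set u := g * t * g⁻¹
      -- `u` fixes `P`
      have huP : u • P = P := huniq _ (by
        show t • (u • P) = u • P
        rw [← mul_smul, hg.eq, mul_smul]
        exact congrArg (u • ·) ((hfixiff P).2 (centralizer_le_normalizer' _ htC)))
      have hgP : g • P = P := by
        have hfix : π (g⁻¹ • P) = g⁻¹ • P := by
          show t • (g⁻¹ • P) = g⁻¹ • P
          have : u • P = P := huP
          rw [mul_smul, mul_smul] at this
          exact (inv_smul_eq_iff.2 this.symm).symm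
        have := huniq _ hfix
        rw [inv_smul_eq_iff] at this
        exact this.symm
      exact hcentral ⟨g, Sylow.smul_eq_iff_mem_normalizer.1 hgP⟩⟩
    have hcore0 : oddCore X = ⊥ := by
      rcases (pPrimeCore_normal 2 X).eq_bot_or_eq_top with h | h
      · exact h
      · exfalso
        have hco := Lib.PSolvable.pPrimeCore_coprime (p := 2) (G := X)
        rw [show pPrimeCore 2 X = ⊤ from h, card_top] at hco
        have h2X : 2 ∣ Nat.card X := ht2 ▸ orderOf_dvd_natCard t
        exact absurd (Nat.eq_one_of_dvd_coprimes hco h2X dvd_rfl) (by norm_num)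
    have hz : t ∈ center X := mem_center_iff.2 fun a => by
      have := Lib.ZStar.zStar X t hiso a
      rw [hcore0, mem_bot, mul_inv_eq_one, mul_inv_eq_iff_eq_mul] at this
      exact this.symm
    rw [center_eq_bot hX, mem_bot] at hz
    rw [hz, orderOf_one] at ht2
    omega
  · -- Sylow two-subgroup of order two
    have h176 : 2 * (11 * c) ∣ 176 := by rw [← hc, ← hcard]; exact hNd
    have hc1 : c = 1 := by
      have h8 : c ∣ 2 ^ 3 := Nat.dvd_of_mul_dvd_mul_left (by norm_num : 0 < 22) (by rw [← mul_assoc] at h176; exact h176)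
      obtain ⟨i, -, rfl⟩ := (Nat.dvd_prime_pow Nat.prime_two).1 h8
      rcases Nat.eq_zero_or_pos i with rfl | hi
      · rfl
      · exact absurd (dvd_pow_self 2 hi.ne') hc2
    have hX990 : Nat.card X = 2 ^ 1 * 495 := by rw [hXcard, hcard, hc, hc1]; norm_num
    let T : Sylow 2 X := default
    have hT : Nat.card (T : Subgroup X) = 2 :=
      (card_sylow_eq T hX990 (by norm_num)).trans (pow_one 2)
    obtain ⟨e', he', hcard'⟩ := exists_card_normalizer_eq hT
    have he'1 : e' = 1 := Nat.dvd_one.1 he'
    rw [he'1, one_mul] at hcard'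
    exact not_normalizer_le_centralizer hX (by rw [hX990]; norm_num) T
      (Subgroup.eq_of_le_of_card_ge (centralizer_le_normalizer' _) hcard'.le).ge

/-- The main dichotomy. -/
theorem conn_of_normal (N : Subgroup G) [N.Normal] (hN : N ≠ ⊥) (hNt : N ≠ ⊤) : Conn G := by
  obtain ⟨M, hMn, hM, hMN, hmin⟩ := Lib.Primitive62.exists_minimal_normal N hN
  haveI := hMn
  rcases Lib.Primitive62.minimal_normal_cases M hM hmin with ⟨-, r, hr, hexp⟩ | ⟨S, iS, iSs, iSf, k, hk, hS, ⟨e⟩⟩
  · exact conn_of_elementary hord M hM hr hexp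
  have hMd : Nat.card M ∣ 7920 := hord ▸ card_subgroup_dvd_card M
  have hSk : Nat.card S ^ k ∣ 7920 := by
    rw [Nat.card_congr e.toEquiv, Nat.card_fun, Nat.card_fin] at hMd
    exact hMd
  have h511 : 5 ∣ Nat.card S ∨ 11 ∣ Nat.card S := by
    by_contra hcon
    rw [not_or] at hcon
    have h' : Nat.card S ∣ 2 ^ 4 * 3 ^ 2 := by
      have h := (dvd_pow_self (Nat.card S) (show k ≠ 0 by omega)).trans hSk
      rw [show (7920 : ℕ) = 2 ^ 4 * 3 ^ 2 * 5 * 11 by norm_num] at h
      exact ((Nat.prime_five).coprime_iff_not_dvd.2 hcon.1).symm.dvd_of_dvd_mul_right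
        (((by norm_num : Nat.Prime 11).coprime_iff_not_dvd.2 hcon.2).symm.dvd_of_dvd_mul_right h)
    obtain ⟨d1, d2, h1, h2, he⟩ := Nat.dvd_mul.mp h'
    obtain ⟨a, -, rfl⟩ := (Nat.dvd_prime_pow Nat.prime_two).mp h1
    obtain ⟨b, -, rfl⟩ := (Nat.dvd_prime_pow Nat.prime_three).mp h2
    exact not_isSolvable hS (Lib.Burnside.isSolvable_of_card_eq_prime_pow_mul Nat.prime_two Nat.prime_three he.symm)
  have hk1 : k = 1 := by
    by_contra hne
    have h2 := (pow_dvd_pow (Nat.card S) (show 2 ≤ k by omega)).trans hSk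
    rcases h511 with h | h <;>
    · have := (pow_dvd_pow_of_dvd h 2).trans h2
      norm_num at this
  subst hk1
  have e' : M ≃* S := e.trans (MulEquiv.piUnique fun _ : Fin 1 => S)
  haveI : IsSimpleGroup M := e'.isSimpleGroup
  have hMc : ¬ IsMulCommutative M := fun h => hS (IsMulCommutative.of_comm fun a b =>
    e'.symm.injective (by rw [map_mul, map_mul]; exact mul_comm' _ _))
  have hMt : Nat.card M ≠ 7920 := fun h => hNt (top_le_iff.1 ((Subgroup.eq_top_of_card_eq M (h.trans hord.symm)).ge.trans hMN))
  have hcS : Nat.card M = Nat.card S := Nat.card_congr e'.toEquiv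
  by_cases h11 : 11 ∣ Nat.card M
  · -- eleven divides the order
    have hmem := sylow_eleven_mem hord M h11
    have hne := card_sylow_ne_one hMc 11 h11
    obtain ⟨m, hm⟩ := h11
    have hm720 : m ∣ 720 := by
      have h := hMd
      rw [hm, show (7920 : ℕ) = 11 * 720 by norm_num] at h
      exact Nat.dvd_of_mul_dvd_mul_left (by norm_num) h
    let P : Sylow 11 M := default
    let Q : Subgroup G := (P : Subgroup M).map M.subtype
    have hnd : ¬ 11 ∣ m := fun h => by have := h.trans hm720; norm_num at this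
    have hP : Nat.card (P : Subgroup M) = 11 :=
      (card_sylow_eq P (k := 1) (by rw [hm, pow_one]) hnd).trans (pow_one 11)
    have hQ : Nat.card Q = 11 := by rw [card_map_of_injective M.subtype_injective, hP]
    let R : Sylow 11 G := Sylow.ofCard Q (by rw [hQ, hord, factorization_eleven, pow_one])
    have hRM : ∀ T : Sylow 11 G, (T : Subgroup G) ≤ M := fun T => by
      obtain ⟨g, hg⟩ := MulAction.exists_smul_eq G R T
      rw [← hg, Sylow.coe_subgroup_smul]
      rintro _ ⟨y, hy, rfl⟩
      exact hMn.conj_mem _ (Subgroup.map_subtype_le _ hy) g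
    have hcards : Nat.card (Sylow 11 M) = Nat.card (Sylow 11 G) := by
      symm
      refine Nat.card_congr (Equiv.ofBijective (fun T : Sylow 11 G => T.subtype (hRM T)) ⟨?_, ?_⟩)
      · intro T T' h
        have := congrArg (fun U : Sylow 11 M => (U : Subgroup M).map M.subtype) h
        simp only [Sylow.coe_subtype, map_subgroupOf_eq_of_le (hRM T), map_subgroupOf_eq_of_le (hRM T')] at this
        exact Sylow.ext this
      · intro U
        obtain ⟨T, hT⟩ := U.exists_comap_subtype_eq
        exact ⟨T, Sylow.ext hT⟩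
    simp only [Finset.mem_insert, Finset.mem_singleton] at hmem
    rcases hmem with h | h | h | h
    · exact absurd h hne
    · exact conn_twelve hord R (hcards ▸ h)
    · exfalso
      refine false_fortyfive hMc hm hm720 h fun P' => ?_
      have h1 := card_normalizer_sylow_mul R
      rw [← hcards, h, hord] at h1
      let Q' : Subgroup G := (P' : Subgroup M).map M.subtype
      have hQ' : Nat.card Q' = 11 := by
        rw [card_map_of_injective M.subtype_injective, card_sylow_eq P' (k := 1) (by rw [hm, pow_one]) hnd, pow_one]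
      let R' : Sylow 11 G := Sylow.ofCard Q' (by rw [hQ', hord, factorization_eleven, pow_one])
      have h2 := card_normalizer_sylow_mul R'
      rw [← hcards, h, hord] at h2
      have hle : (normalizer ((P' : Subgroup M) : Set M)).map M.subtype ≤ normalizer (Q' : Set G) :=
        Subgroup.le_normalizer_map M.subtype
      refine ((card_map_of_injective M.subtype_injective).symm ▸ card_dvd_of_le hle).trans (dvd_of_eq ?_)
      change Nat.card (normalizer (Q' : Set G)) * 45 = 7920 at h2
      omega
    · exfalso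
      have h1 := card_normalizer_sylow_mul P
      rw [h] at h1
      obtain ⟨e, he, he1, hC, hcard⟩ := exists_card_normalizer_eq_of_simple hMc P hP
      obtain ⟨c, hc⟩ := hC
      rw [hcard, hc, hm] at h1
      have h5 : e * c * 144 = m := by
        have : 11 * (e * c * 144) = 11 * m := by rw [← h1]; ring
        omega
      have h144 : e * c * 144 ∣ 5 * 144 := by rw [h5]; exact hm720.trans (dvd_of_eq (by norm_num))
      have hec := Nat.dvd_of_mul_dvd_mul_right (by norm_num) h144
      rcases (Nat.dvd_prime Nat.prime_five).1 hec with h' | h'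
      · exact he1 (Nat.eq_one_of_mul_eq_one_right h')
      · exact hMt (by rw [hm, ← h5, h'])
  · -- eleven does not divide the order
    have h5 : 5 ∣ Nat.card M := by rw [hcS]; exact h511.resolve_right fun h => h11 (hcS.symm ▸ h)
    have hd720 : Nat.card M ∣ 720 := by
      have h := hMd
      rw [show (7920 : ℕ) = 720 * 11 by norm_num] at h
      exact ((by norm_num : Nat.Prime 11).coprime_iff_not_dvd.2 h11).symm.dvd_of_dvd_mul_right h
    have h2 : 2 ∣ Nat.card M := by
      by_contra h
      have hd45 : Nat.card M ∣ 3 ^ 2 * 5 ^ 1 := by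
        rw [show (720 : ℕ) = 3 ^ 2 * 5 ^ 1 * 2 ^ 4 by norm_num] at hd720
        exact (Nat.Coprime.pow_right 4 (Nat.prime_two.coprime_iff_not_dvd.2 h).symm).dvd_of_dvd_mul_right hd720
      obtain ⟨d1, d2, h1, h2, he⟩ := Nat.dvd_mul.mp hd45
      obtain ⟨a, -, rfl⟩ := (Nat.dvd_prime_pow Nat.prime_three).mp h1
      obtain ⟨b, -, rfl⟩ := (Nat.dvd_prime_pow Nat.prime_five).mp h2
      exact not_isSolvable hMc (Lib.Burnside.isSolvable_of_card_eq_prime_pow_mul Nat.prime_three Nat.prime_five he.symm)
    have h3 : 3 ∣ Nat.card M := by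
      by_contra h
      have hd80 : Nat.card M ∣ 2 ^ 4 * 5 ^ 1 := by
        rw [show (720 : ℕ) = 2 ^ 4 * 5 ^ 1 * 3 ^ 2 by norm_num] at hd720
        exact (Nat.Coprime.pow_right 2 (Nat.prime_three.coprime_iff_not_dvd.2 h).symm).dvd_of_dvd_mul_right hd720
      obtain ⟨d1, d2, h1, h2, he⟩ := Nat.dvd_mul.mp hd80
      obtain ⟨a, -, rfl⟩ := (Nat.dvd_prime_pow Nat.prime_two).mp h1
      obtain ⟨b, -, rfl⟩ := (Nat.dvd_prime_pow Nat.prime_five).mp h2
      exact not_isSolvable hMc (Lib.Burnside.isSolvable_of_card_eq_prime_pow_mul Nat.prime_two Nat.prime_five he.symm)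
    exact conn_of hord (by simp) (rule_eleven hord M h11 (Or.inl rfl) h2)
      (rule_eleven hord M h11 (Or.inr (Or.inl rfl)) h3) (rule_eleven hord M h11 (Or.inr (Or.inr rfl)) h5)

end

/-- Let G be a finite group of order 7920 = 2⁴·3²·5·11 (the order of the smallest Mathieu group) and suppose its prime graph (vertices the prime divisors of the order, distinct p, q joined when there is an element of order pq) is disconnected: the prime divisors split into two non-empty parts with no element of order pq for p in one part and q in the other. Then G is simple. -/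
theorem result {G : Type*} [Group G] [Finite G] (hord : Nat.card G = 7920)
    (hdisc : (∃ A : Set ℕ, (∃ a ∈ A, a.Prime ∧ a ∣ Nat.card G) ∧ (∃ b ∉ A, b.Prime ∧ b ∣ Nat.card G) ∧
      ∀ a ∈ A, ∀ b ∉ A, a.Prime → b.Prime → a ∣ Nat.card G → b ∣ Nat.card G → ¬ ∃ g : G, orderOf g = a * b)) :
    IsSimpleGroup G := by
  obtain ⟨A, ⟨a, haA, hap, had⟩, ⟨b, hbA, hbp, hbd⟩, hno⟩ := hdisc
  haveI : Nontrivial G := Finite.one_lt_card_iff_nontrivial.1 (by rw [hord]; norm_num)
  refine ⟨fun N hN => ?_⟩
  by_contra hcon
  rw [not_or] at hcon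
  haveI := hN
  obtain ⟨h2, h3, h5⟩ := conn_of_normal hord N hcon.1 hcon.2 A (fun r s hr hs hrs he hrd hsd => by
    constructor
    · intro hrA
      by_contra hsA
      exact hno r hrA s hsA hr hs hrd hsd he
    · intro hsA
      by_contra hrA
      exact hno s hsA r hrA hs hr hsd hrd he.symm)
  have hmem : ∀ p : ℕ, p.Prime → p ∣ Nat.card G → (p ∈ A ↔ 11 ∈ A) := fun p hp hd => by
    rw [hord] at hd
    have := prime_dvd_7920 hp hd
    rcases this with rfl | rfl | rfl | rfl <;> tauto
  exact hbA ((hmem b hbp hbd).2 ((hmem a hap had).1 haA))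

end Cfsg.Agent.S2490
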