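import Cfsg.Statements.S2493
import Mathlib
import Cfsg.Agent.Lib.DoubleCoverComm.Cover

set_option autoImplicit false
open Cfsg

namespace Cfsg.Agent.S2493

open Subgroup Equiv Cfsg.Agent.Lib.DoubleCoverComm

/-- A lift of an even permutation interchanging two pairs is conjugated to a different lift. -/
theorem exists_flip {α : Type*} [Fintype α] [DecidableEq α] {G : Type*} [Group G] [Finite G]
    {σ : G →* alternatingGroup α} (hs : Function.Surjective σ) (hc : σ.ker ≤ center G)
    (hk : Nat.card σ.ker = 2) (hperf : commutator G = ⊤) (h5 : 5 ≤ Fintype.card α)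
    (X : G) (hX : SwapPairs (σ X : Perm α)) : ∃ C : G, σ (C * X) = σ (X * C) ∧ C * X ≠ X * C := by
  obtain ⟨a, b, c, d, hn, ha, hb, hcd, hdc⟩ := hX
  obtain ⟨hab, hac, had, hbc, hbd, hcd'⟩ := nodup_four hn
  have hn2 : [a, c, b, d].Nodup := by simp; grind
  obtain ⟨T, hT⟩ := hs ⟨dt a b c d, dt_mem hn⟩
  obtain ⟨S, hS⟩ := hs ⟨dt a c b d, dt_mem hn2⟩
  have hT' : (σ T : Perm α) = dt a b c d := by rw [hT]
  have hS' : (σ S : Perm α) = dt a c b d := by rw [hS]
  have hTS : σ (S * T) = σ (T * S) := by
    apply Subtype.ext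
    rw [map_mul, map_mul, Subgroup.coe_mul, Subgroup.coe_mul, hT', hS', (dt_mul_dt hn).1,
      (dt_mul_dt hn).2]
  set U := T⁻¹ * X with hUdef
  have hU : (σ U : Perm α) = (dt a b c d)⁻¹ * (σ X : Perm α) := by
    rw [hUdef, map_mul, map_inv, Subgroup.coe_mul, Subgroup.coe_inv, hT']
  have hfix : ∀ z, z = a ∨ z = b ∨ z = c ∨ z = d → (σ U : Perm α) z = z := by
    intro z hz
    rw [hU, Perm.mul_apply, Perm.inv_eq_iff_eq, dt_apply hn]
    rcases hz with h | h | h | h <;> rw [h] <;> simp only [ha, hb, hcd, hdc] <;> grind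
  let p : α → Prop := fun z => z ≠ a ∧ z ≠ b ∧ z ≠ c ∧ z ≠ d
  let W : Subgroup (Perm α) :=
    ((Subgroup.centralizer {S}).map σ).map (alternatingGroup α).subtype
  have hW : ∀ w : alternatingGroup (Subtype p), Perm.ofSubtype (w : Perm (Subtype p)) ∈ W := by
    have hle : alternatingGroup (Subtype p) ≤ W.comap Perm.ofSubtype := by
      rw [← Perm.closure_three_cycles_eq_alternating, Subgroup.closure_le]
      intro h hh
      have h3 : (Perm.ofSubtype h).IsThreeCycle := by
        show (Perm.ofSubtype h).cycleType = {3}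
        rw [Perm.cycleType_ofSubtype]; exact hh
      obtain ⟨V, hV⟩ := hs ⟨Perm.ofSubtype h, Perm.mem_alternatingGroup.mpr h3.sign⟩
      have hV' : (σ V : Perm α) = Perm.ofSubtype h := by rw [hV]
      have h3' : σ V ^ 3 = 1 := by
        apply Subtype.ext
        rw [SubgroupClass.coe_pow, hV', Subgroup.coe_one]
        have := h3.orderOf
        rw [← this, pow_orderOf_eq_one]
      have hV3 : (V ^ 4) ^ 3 = 1 := by
        have := (ker_facts hc hk (w := V ^ 3) (by rw [map_pow, h3'])).2
        rw [← pow_mul, show 4 * 3 = 3 * 2 * 2 from rfl, pow_mul, pow_mul, pow_two (V ^ 3), this,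
          one_pow]
      have hσ4 : (σ (V ^ 4) : Perm α) = Perm.ofSubtype h := by
        rw [map_pow, pow_succ, h3', one_mul, hV']
      have hst : σ (S * V ^ 4) = σ (V ^ 4 * S) := by
        apply Subtype.ext
        rw [map_mul, map_mul, Subgroup.coe_mul, Subgroup.coe_mul, hσ4, hS']
        apply Equiv.ext
        intro z
        simp only [Perm.mul_apply]
        by_cases hz : p z
        · have hz' := hz
          rw [Perm.ofSubtype_apply_of_mem h hz]
          have e2 := (h ⟨z, hz⟩).2
          rw [dt_apply hn2, dt_apply hn2]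
          simp only [p] at hz e2
          rw [if_neg e2.1, if_neg e2.2.2.1, if_neg e2.2.1, if_neg e2.2.2.2, if_neg hz.1,
            if_neg hz.2.2.1, if_neg hz.2.1, if_neg hz.2.2.2, Perm.ofSubtype_apply_of_mem h hz']
        · have hz2 : ¬ p (dt a c b d z) := by
            rw [dt_apply hn2]
            simp only [p] at hz ⊢
            grind
          rw [Perm.ofSubtype_apply_of_not_mem h hz, Perm.ofSubtype_apply_of_not_mem h hz2]
      have hε : σ ((V ^ 4 * S)⁻¹ * (S * V ^ 4)) = 1 := by rw [map_mul, map_inv, hst, inv_mul_cancel]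
      obtain ⟨hz, hz2⟩ := ker_facts hc hk hε
      set ε := (V ^ 4 * S)⁻¹ * (S * V ^ 4) with hεdef
      have he : S * V ^ 4 * S⁻¹ = V ^ 4 * ε := by
        have : V ^ 4 * S * ε = S * V ^ 4 := by rw [hεdef, mul_inv_cancel_left]
        rw [← this, mul_assoc (V ^ 4) S ε, hz S]; group
      have hcomm : Commute (V ^ 4) ε := hz (V ^ 4)
      have hpow := congrArg (· ^ 3) he
      rw [conj_pow, hV3, mul_one, mul_inv_cancel, hcomm.mul_pow, hV3, one_mul, pow_succ, pow_two,
        hz2, one_mul] at hpow
      refine ⟨σ (V ^ 4), ⟨V ^ 4, ?_, rfl⟩, hσ4⟩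
      rw [← hpow, mul_one] at he
      exact Subgroup.mem_centralizer_singleton_iff.mpr (mul_inv_eq_iff_eq_mul.mp he).symm
    exact fun w => hle w.2
  have hUmem : (σ U : Perm α) ∈ W := by
    have hp : ∀ z, p ((σ U : Perm α) z) ↔ p z := by
      intro z
      constructor
      · intro h
        by_contra hz
        have : (σ U : Perm α) z = z := hfix z (by simp only [p] at hz; tauto)
        rw [this] at h
        exact hz h
      · intro h
        by_contra hz
        have : (σ U : Perm α) ((σ U : Perm α) z) = (σ U : Perm α) z :=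
          hfix _ (by simp only [p] at hz; tauto)
        rw [(σ U : Perm α).injective this] at hz
        exact hz h
    have hof : Perm.ofSubtype ((σ U : Perm α).subtypePerm hp) = (σ U : Perm α) :=
      Perm.ofSubtype_subtypePerm hp fun z hz => by
        by_contra h
        exact hz (hfix z (by simp only [p] at h; tauto))
    have := hW ⟨(σ U : Perm α).subtypePerm hp, by
      rw [Perm.mem_alternatingGroup, ← Perm.sign_ofSubtype, hof]
      exact Perm.mem_alternatingGroup.mp (σ U).2⟩
    rwa [hof] at this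
  obtain ⟨_, ⟨U', hU', rfl⟩, heU⟩ := hUmem
  have hUS : Commute S U := commute_of_lifts hc rfl (Subtype.ext heU.symm)
    (Subgroup.mem_centralizer_singleton_iff.mp hU').symm
  have hXT : X = T * U := by rw [hUdef, mul_inv_cancel_left]
  have eX : X * S = T * S * U := by
    calc X * S = T * U * S := by rw [← hXT]
      _ = T * (U * S) := by group
      _ = _ := by rw [← hUS.eq]; group
  have eS : S * X = S * T * U := by
    calc S * X = S * (T * U) := by rw [← hXT]
      _ = _ := by group
  refine ⟨S, ?_, ?_⟩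
  · rw [eX, eS, map_mul, hTS, ← map_mul]
  · intro h
    refine not_commute_lifts hs hc hk hperf h5 hn hT' hS' ?_
    rw [eX, eS] at h
    exact (mul_right_cancel h).symm

/-- Let n ≥ 5 and let G be a finite perfect group whose centre has order 2 with G/Z(G) isomorphic to the alternating group of degree n (the double cover of the alternating group). Then every element of G is a commutator. -/
theorem result {G : Type*} [Group G] [Finite G] (hperf : commutator G = ⊤) {n : ℕ} (hn : 5 ≤ n)
    (hZ : Nat.card (Subgroup.center G) = 2) (e : G ⧸ Subgroup.center G ≃* alternatingGroup (Fin n))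
    (g : G) :
    ∃ a b : G, a * b * a⁻¹ * b⁻¹ = g := by
  classical
  set σ : G →* alternatingGroup (Fin n) :=
    e.toMonoidHom.comp (QuotientGroup.mk' (Subgroup.center G)) with hσdef
  have hs : Function.Surjective σ := e.surjective.comp (QuotientGroup.mk'_surjective _)
  have hker : σ.ker = Subgroup.center G := by
    ext x
    simp [hσdef, MonoidHom.mem_ker, QuotientGroup.eq_one_iff]
  have hk : Nat.card σ.ker = 2 := by rw [hker]; exact hZ
  have h5 : 5 ≤ Fintype.card (Fin n) := by rw [Fintype.card_fin]; exact hn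
  obtain ⟨x, k, ⟨hx, heq⟩, hswap⟩ :=
    flipW_of_even (σ g : Perm (Fin n)) (Perm.mem_alternatingGroup.mp (σ g).2) h5
  -- the second entry may be taken even
  obtain ⟨k', hk'1, hk'2⟩ : ∃ k', Perm.sign k' = 1 ∧
      (σ g : Perm (Fin n)) * k' * x = x * k' := by
    rcases Int.units_eq_one_or (Perm.sign k) with h | h
    · exact ⟨k, h, heq⟩
    · obtain ⟨a, b, c, d, hn4, ha, hb, -, -⟩ := hswap
      have hab : a ≠ b := (nodup_four hn4).1
      have hsw : swap a b * x = x * swap a b := by
        rw [Equiv.mul_swap_eq_swap_mul, ha, hb, swap_comm]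
      refine ⟨k * swap a b, by rw [map_mul, h, Perm.sign_swap hab]; rfl, ?_⟩
      calc (σ g : Perm (Fin n)) * (k * swap a b) * x
          = (σ g : Perm (Fin n)) * k * (swap a b * x) := by group
        _ = (σ g : Perm (Fin n)) * k * x * swap a b := by rw [hsw]; group
        _ = x * (k * swap a b) := by rw [heq]; group
  obtain ⟨X, hX⟩ := hs ⟨x, Perm.mem_alternatingGroup.mpr hx⟩
  obtain ⟨K, hK⟩ := hs ⟨k', Perm.mem_alternatingGroup.mpr hk'1⟩
  set w := X * K * X⁻¹ * K⁻¹ with hw
  have hσw : σ w = σ g := by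
    apply Subtype.ext
    rw [hw, map_mul, map_mul, map_mul, map_inv, map_inv, hX, hK, Subgroup.coe_mul, Subgroup.coe_mul,
      Subgroup.coe_mul, Subgroup.coe_inv, Subgroup.coe_inv]
    show x * k' * x⁻¹ * k'⁻¹ = _
    rw [← hk'2]; group
  by_cases hgw : g = w
  · exact ⟨X, K, hgw.symm⟩
  obtain ⟨C, hC1, hC2⟩ := exists_flip hs (le_of_eq hker) hk hperf h5 X (by rw [hX]; exact hswap)
  refine ⟨X, K * C, ?_⟩
  -- the commutator with `C` is the nontrivial central element
  set z := C * X⁻¹ * C⁻¹ * X with hz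
  have hσz : σ z = 1 := by
    rw [hz, show C * X⁻¹ * C⁻¹ * X = C * ((C * X)⁻¹ * X) from by group, map_mul, map_mul, map_inv, hC1]
    rw [← map_inv, ← map_mul, ← map_mul, show C * ((X * C)⁻¹ * X) = 1 by group, map_one]
  have hz1 : z ≠ 1 := by
    intro h
    apply hC2
    have h' : C * X⁻¹ * C⁻¹ = X⁻¹ := by
      rw [hz, mul_eq_one_iff_eq_inv] at h; exact h
    rw [mul_inv_eq_iff_eq_mul] at h'
    calc C * X = X * (X⁻¹ * C) * X := by group
      _ = X * (C * X⁻¹) * X := by rw [h']
      _ = X * C := by group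
  have huniq : ∀ u : G, σ u = 1 → u ≠ 1 → u = z := by
    intro u hu hu1
    obtain ⟨p, q, hpq, huniv⟩ := Nat.card_eq_two_iff.mp hk
    have hall : ∀ t : σ.ker, t = p ∨ t = q := fun t => by
      have := huniv ▸ Set.mem_univ t
      simpa using this
    rcases hall ⟨u, hu⟩ with h1 | h1 <;> rcases hall ⟨z, hσz⟩ with h2 | h2 <;>
      rcases hall 1 with h3 | h3
    all_goals first
      | exact congrArg Subtype.val (h1.trans h2.symm)
      | exact absurd (congrArg Subtype.val (h1.trans h3.symm)) hu1
      | exact absurd (congrArg Subtype.val (h2.trans h3.symm)) hz1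
  have hzc := (ker_facts (le_of_eq hker) hk hσz).1
  calc X * (K * C) * X⁻¹ * (K * C)⁻¹ = X * K * (C * X⁻¹ * C⁻¹ * X) * X⁻¹ * K⁻¹ := by group
    _ = z * w := by rw [← hz, hw, hzc (X * K)]; group
    _ = g := by
      have h1 : σ (g * w⁻¹) = 1 := by rw [map_mul, map_inv, hσw, mul_inv_cancel]
      have h2 : g * w⁻¹ ≠ 1 := fun h => hgw (mul_inv_eq_one.mp h)
      rw [← huniq _ h1 h2]; group

end Cfsg.Agent.S2493
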