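import Cfsg.Statements.S2495
import Cfsg.Agent.S2470
import Cfsg.Agent.Lib.ElementOrders.HalfTorus
import Cfsg.Agent.Lib.PPD.Zsigmondy

set_option autoImplicit false
open Cfsg

namespace Cfsg.Agent.S2495

open Polynomial Cfsg.Agent.Lib.ElementOrders

variable {F : Type*} [Field F] [Fintype F]

theorem two_mul_half {n : ℕ} (heven : Even n) : n = 2 * (n / 2) := by
  obtain ⟨k, rfl⟩ := heven
  omega

/-- An element of order `q ^ m + 1` sits in a Singer torus. -/
theorem order_dvd {m : ℕ} (hm : 2 ≤ m) (hodd : Odd (Fintype.card F))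
    (x : Matrix.ProjectiveSpecialLinearGroup (Fin (2 * m)) F) (hx : orderOf x = Fintype.card F ^ m + 1) :
    orderOf x ∣ ((Fintype.card F ^ (2 * m) - 1) / (Fintype.card F - 1)) /
      Nat.gcd ((Fintype.card F ^ (2 * m) - 1) / (Fintype.card F - 1)) (Fintype.card F - 1) := by
  classical
  set q := Fintype.card F with hq
  have hq2 : 2 ≤ q := Fintype.one_lt_card
  obtain ⟨g₀, rfl⟩ := QuotientGroup.mk_surjective x
  set g : Matrix (Fin (2 * m)) (Fin (2 * m)) F := g₀.1 with hg
  haveI : NeZero (2 * m) := ⟨by omega⟩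
  have hdet : g.det = 1 := g₀.2
  obtain ⟨p, hp⟩ := CharP.exists F
  haveI : Fact p.Prime := ⟨CharP.char_is_prime F p⟩
  obtain ⟨a, hpp, hqa⟩ := FiniteField.card F p
  set N := q ^ m + 1 with hN
  set T := N * (q - 1) with hT
  have hgN : g ^ T = 1 := by
    obtain ⟨c, hc⟩ := (S2470.mk_pow_eq_one_iff g₀ N).1 (hx ▸ pow_orderOf_eq_one _)
    have hc0 : c ≠ 0 := fun h => by
      have := congrArg Matrix.det hc
      rw [Matrix.det_pow, hdet, one_pow, h, zero_smul, Matrix.det_zero] at this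
      exact one_ne_zero this
    rw [hT, pow_mul, hc, _root_.smul_pow, one_pow, FiniteField.pow_card_sub_one_eq_one c hc0, one_smul]
  obtain ⟨r, hr, hrd, hrp⟩ := Lib.PPD.exists_primitive_prime (a := q) (n := 2 * m) hq2 (by omega)
    (by rintro ⟨h, -⟩; rw [h] at hodd; exact absurd hodd (by decide)) (by omega)
  have hrN : r ∣ N := by
    have h : q ^ (2 * m) - 1 = (q ^ m + 1) * (q ^ m - 1) := by
      rw [← Nat.sq_sub_sq, one_pow, ← pow_mul, mul_comm m 2]
    rw [h] at hrd
    exact (hr.dvd_mul.1 hrd).resolve_right (hrp m (by omega) (by omega))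
  set o := orderOf g with ho
  have hoT : o ∣ T := orderOf_dvd_of_pow_eq_one hgN
  have hro : r ∣ o := by
    have h1 : orderOf (QuotientGroup.mk g₀ : Matrix.ProjectiveSpecialLinearGroup (Fin (2 * m)) F) ∣ o :=
      orderOf_dvd_of_pow_eq_one ((S2470.mk_pow_eq_one_iff g₀ o).2 ⟨1, by rw [one_smul]; exact pow_orderOf_eq_one g⟩)
    exact hrN.trans (hx ▸ h1)
  have hoF : (o : F) ≠ 0 := fun h => by
    have h1 : p ∣ T := ((CharP.cast_eq_zero_iff F p o).1 h).trans hoT
    have h2 : p ∣ q := by rw [hq, hqa]; exact dvd_pow_self p a.ne_zero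
    rcases hpp.dvd_mul.1 h1 with h3 | h3
    · exact hpp.not_dvd_one ((Nat.dvd_add_right (h2.trans (dvd_pow_self q (by omega)))).1 h3)
    · have := Nat.dvd_sub h2 h3
      rw [Nat.sub_sub_self (by omega)] at this
      exact hpp.not_dvd_one this
  have ho0 : 0 < o := Nat.pos_of_ne_zero fun h => hoF (by rw [h, Nat.cast_zero])
  have hk1 : g ^ (o / r) ≠ 1 := fun h => by
    have h1 := Nat.le_of_dvd (Nat.div_pos (Nat.le_of_dvd ho0 hro) hr.pos) (orderOf_dvd_of_pow_eq_one h)
    have h2 := Nat.div_lt_self ho0 hr.one_lt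
    omega
  obtain ⟨f, hfm, hfirr, hfM, hfk⟩ := HalfTorus.exists_factor g hoF (pow_orderOf_eq_one g) hk1
  haveI : Fact (Irreducible f) := ⟨hfirr⟩
  let pb := AdjoinRoot.powerBasis hfirr.ne_zero
  haveI : Module.Finite F (AdjoinRoot f) := pb.finite
  haveI : Finite (AdjoinRoot f) := Module.finite_of_finite F
  letI : Fintype (AdjoinRoot f) := Fintype.ofFinite _
  set α := AdjoinRoot.root f with hα
  have hfo : f ∣ X ^ o - 1 := hfM.trans (minpoly.dvd F g (by simp [ho, pow_orderOf_eq_one]))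
  obtain ⟨hrα, hαo⟩ := HalfTorus.dvd_orderOf_root hr hro hfo hfk
  have hα0 : α ≠ 0 := fun h => by
    change α ^ o = 1 at hαo
    rw [h, zero_pow ho0.ne'] at hαo
    exact zero_ne_one hαo
  have hd : f.natDegree = 2 * m := by
    refine le_antisymm ?_ (HalfTorus.natDegree_ge_of_root hrα hα0 hrp)
    have := natDegree_le_of_dvd (hfM.trans (Matrix.minpoly_dvd_charpoly g)) (Matrix.charpoly_monic g).ne_zero
    rwa [Matrix.charpoly_natDegree_eq_dim, Fintype.card_fin] at this
  have hch : g.charpoly = f := (eq_of_monic_of_dvd_of_natDegree_le hfm (Matrix.charpoly_monic g)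
    (hfM.trans (Matrix.minpoly_dvd_charpoly g))
    (by rw [Matrix.charpoly_natDegree_eq_dim, Fintype.card_fin, hd]))
  have hmin : f = minpoly F g := by
    have hle : (minpoly F g).natDegree ≤ f.natDegree := by
      have h := natDegree_le_of_dvd (Matrix.minpoly_dvd_charpoly g) (Matrix.charpoly_monic g).ne_zero
      rwa [hch] at h
    exact (eq_of_monic_of_dvd_of_natDegree_le hfm (minpoly.monic (Matrix.isIntegral g)) hfM hle).symm
  have hminα : minpoly F α = f := by
    rw [hα, AdjoinRoot.minpoly_root hfirr.ne_zero, hfm.leadingCoeff, inv_one, map_one, mul_one]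
  set A := (q ^ (2 * m) - 1) / (q - 1) with hA
  have hαA : α ^ A = 1 := by
    have h := coeff_zero_eq_pow (F := F) (d := 2 * m) (by rw [pb.finrank]; exact (AdjoinRoot.powerBasis_dim _).trans hd)
      α (by rw [hminα, hd])
    rw [hminα] at h
    rw [hA, ← h, show (-1 : F) ^ (2 * m) * f.coeff 0 = 1 by
      have h' := Matrix.det_eq_sign_charpoly_coeff g
      rw [Fintype.card_fin, hdet, hch] at h'
      exact h'.symm, map_one]
  set d := Nat.gcd A (q - 1) with hd'
  obtain ⟨c, hc⟩ := HalfTorus.exists_algebraMap_eq (F := F) (x := α ^ (A / d)) (by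
    have h : (α ^ (A / d)) ^ (q - 1) = 1 := by
      obtain ⟨t, ht⟩ := Nat.gcd_dvd_right A (q - 1)
      rw [← hd'] at ht
      rw [ht, ← pow_mul, ← mul_assoc, Nat.div_mul_cancel (Nat.gcd_dvd_left A (q - 1)), pow_mul, hαA, one_pow]
    rw [show (Fintype.card F : ℕ) = q - 1 + 1 by omega, pow_succ, h, one_mul])
  refine orderOf_dvd_of_pow_eq_one ((S2470.mk_pow_eq_one_iff g₀ _).2 ⟨c, ?_⟩)
  have hdiv : f ∣ X ^ (A / d) - C c := by
    rw [← AdjoinRoot.mk_eq_zero, map_sub, map_pow, AdjoinRoot.mk_X, ← hα, AdjoinRoot.mk_C, ← hc,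
      AdjoinRoot.algebraMap_eq, sub_self]
  obtain ⟨w, hw⟩ := hdiv
  have h := congrArg (aeval g) hw
  rw [hmin, map_mul, minpoly.aeval, zero_mul, map_sub, map_pow, aeval_X, aeval_C, sub_eq_zero,
    Algebra.algebraMap_eq_smul_one] at h
  exact h

/-- A Singer torus gives the element. -/
theorem exists_element (m : ℕ) (hm : 2 ≤ m) :
    ∃ x : Matrix.ProjectiveSpecialLinearGroup (Fin (2 * m)) F,
      ((Fintype.card F ^ (2 * m) - 1) / (Fintype.card F - 1)) /
        Nat.gcd ((Fintype.card F ^ (2 * m) - 1) / (Fintype.card F - 1)) (Fintype.card F - 1) ∣ orderOf x := by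
  classical
  set q := Fintype.card F with hq
  have hq2 : 2 ≤ q := Fintype.one_lt_card
  obtain ⟨p, hp⟩ := CharP.exists F
  haveI : Fact p.Prime := ⟨CharP.char_is_prime F p⟩
  haveI : NeZero (2 * m) := ⟨by omega⟩
  let K := FiniteField.Extension F p (2 * m)
  letI : Fintype K := Fintype.ofFinite _
  have hKc : Nat.card K = q ^ (2 * m) := by
    rw [FiniteField.natCard_extension, Nat.card_eq_fintype_card]
  let b : Module.Basis (Fin (2 * m)) F K :=
    Module.finBasisOfFinrankEq F K (FiniteField.finrank_extension F p (2 * m))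
  let L := Algebra.leftMulMatrix b
  obtain ⟨u, hu⟩ := isCyclic_iff_exists_orderOf_eq_natCard.1 (inferInstance : IsCyclic Kˣ)
  rw [Nat.card_units, hKc] at hu
  set A := (q ^ (2 * m) - 1) / (q - 1) with hA
  have hAmul : (q - 1) * A = q ^ (2 * m) - 1 := Nat.mul_div_cancel' (Nat.sub_one_dvd_pow_sub_one q (2 * m))
  set w := u ^ (q - 1) with hw
  have hwo : orderOf w = A := by
    rw [hw, orderOf_pow' _ (by omega), hu, ← hAmul, Nat.gcd_mul_right_left,
      Nat.mul_div_cancel_left _ (show 0 < q - 1 by omega)]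
  have hdet : (L (w : K)).det = 1 := by
    apply (algebraMap F K).injective
    rw [← Algebra.norm_eq_matrix_det, FiniteField.algebraMap_norm_eq_pow, hKc, Nat.card_eq_fintype_card, ← hq, ← hA,
      ← hwo, ← Units.val_pow_eq_pow_val, pow_orderOf_eq_one, Units.val_one, map_one]
  refine ⟨QuotientGroup.mk (⟨L (w : K), hdet⟩ : Matrix.SpecialLinearGroup (Fin (2 * m)) F), ?_⟩
  refine HalfTorus.div_gcd_dvd (by omega) ?_
  obtain ⟨c, hc⟩ := (S2470.mk_pow_eq_one_iff (⟨L (w : K), hdet⟩ : Matrix.SpecialLinearGroup (Fin (2 * m)) F) _).1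
    (pow_orderOf_eq_one _)
  set k := orderOf (QuotientGroup.mk (⟨L (w : K), hdet⟩ : Matrix.SpecialLinearGroup (Fin (2 * m)) F) :
    Matrix.ProjectiveSpecialLinearGroup (Fin (2 * m)) F)
  change L (w : K) ^ k = c • 1 at hc
  rw [← map_pow, ← Algebra.algebraMap_eq_smul_one, ← AlgHom.commutes L] at hc
  have h := Algebra.leftMulMatrix_injective b hc
  rw [← hwo]
  refine orderOf_dvd_of_pow_eq_one (Units.ext ?_)
  have hc0 : c ≠ 0 := fun h0 => by rw [h0, map_zero] at h; exact pow_ne_zero _ w.ne_zero h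
  rw [pow_mul, Units.val_pow_eq_pow_val, Units.val_pow_eq_pow_val, h, ← map_pow,
    FiniteField.pow_card_sub_one_eq_one c hc0, map_one, Units.val_one]


/-- Let q be an odd prime power, n ≥ 4 even, and L = PSL(n,q). Then L has an element of order q^(n/2) + 1 if and only if the 2-part of n exceeds the 2-part of q − 1. -/
theorem result {F : Type*} [Field F] [Fintype F] {q : ℕ} (hF : Fintype.card F = q) (hodd : Odd q)
    {n : ℕ} (hn : 4 ≤ n) (heven : Even n) :
    (∃ g : Matrix.ProjectiveSpecialLinearGroup (Fin n) F, orderOf g = q ^ (n / 2) + 1) ↔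
      padicValNat 2 (q - 1) < padicValNat 2 n := by
  obtain ⟨m, rfl⟩ : ∃ m, n = 2 * m := ⟨n / 2, two_mul_half heven⟩
  rw [Nat.mul_div_cancel_left m two_pos]
  subst hF
  set q := Fintype.card F with hq
  have hq1 : 1 < q := Fintype.one_lt_card
  have hA : (q ^ (2 * m) - 1) / (q - 1) = (q ^ m + 1) * ∑ i ∈ Finset.range m, q ^ i := by
    rw [Nat.geomSum_eq hq1, show q ^ (2 * m) - 1 = (q ^ m + 1) * (q ^ m - 1) by
      rw [← Nat.sq_sub_sq, one_pow, ← pow_mul, mul_comm m 2],
      Nat.mul_div_assoc _ (Nat.sub_one_dvd_pow_sub_one q m)]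
  have hq1' : (q : ZMod (q - 1)) = 1 := by
    have h : ((q - 1 + 1 : ℕ) : ZMod (q - 1)) = 1 := by
      rw [Nat.cast_add, ZMod.natCast_self, zero_add, Nat.cast_one]
    rwa [show q - 1 + 1 = q by omega] at h
  have hB : ((∑ i ∈ Finset.range m, q ^ i : ℕ) : ZMod (q - 1)) = m := by simp [hq1']
  have hiff := HalfTorus.dvd_div_gcd_iff (A := (q ^ (2 * m) - 1) / (q - 1)) (N := q ^ m + 1) (u := q - 1) (m := m)
    (by omega) (by omega) (by omega) hA (Or.inl (by
      rw [hA, Nat.cast_mul, hB, Nat.cast_add, Nat.cast_pow, hq1', one_pow, Nat.cast_one, Nat.cast_mul]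
      norm_num)) (Or.inl hB)
  rw [← hiff]
  constructor
  · rintro ⟨x, hx⟩
    have := order_dvd (show 2 ≤ m by omega) hodd x hx
    rwa [hx] at this
  · intro h
    obtain ⟨x, hx⟩ := exists_element (F := F) m (show 2 ≤ m by omega)
    exact exists_orderOf_eq_of_dvd (h.trans hx)

end Cfsg.Agent.S2495
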