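import Cfsg.Statements.S2511
import Mathlib
import Cfsg.Agent.Lib.Classical.UnitaryCentre
import Cfsg.Agent.Lib.ElementOrders.Basic
import Cfsg.Agent.Lib.ElementOrders.UnitaryDichotomy

set_option autoImplicit false
open Cfsg

namespace Cfsg.Agent.S2511

open Cfsg.Agent.Lib.ElementOrders Matrix

variable {F : Type*} [Field F] [Fintype F] {q n : ℕ}

/-- Membership in `SU` as a matrix equation. -/
theorem mem_SU_iff {σ : F →+* F} (hσ : ∀ x, σ x = x ^ q) (hq : q ≠ 0) (g : Matrix.SpecialLinearGroup (Fin n) F) :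
    g ∈ Cfsg.SU n F q ↔ (g : Matrix (Fin n) (Fin n) F)ᵀ * (g : Matrix (Fin n) (Fin n) F).map σ = 1 := by
  set M := (g : Matrix (Fin n) (Fin n) F) with hM
  constructor
  · intro hg
    ext i j
    have h := hg (Pi.single i 1) (Pi.single j 1)
    change Cfsg.hermForm n F q (M *ᵥ Pi.single i 1) (M *ᵥ Pi.single j 1) = _ at h
    rw [Matrix.mul_apply, Matrix.one_apply]
    simp only [Matrix.map_apply, Matrix.transpose_apply, hσ]
    simp only [Cfsg.hermForm, Matrix.mulVec_single, MulOpposite.op_one, one_smul,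
      Pi.single_apply, ite_pow, one_pow, zero_pow hq, mul_ite, mul_one, mul_zero,
      Finset.sum_ite_eq', Finset.mem_univ, if_true, Matrix.col_apply] at h
    exact h.trans (by simp only [eq_comm])
  · intro hg u v
    change Cfsg.hermForm n F q (M *ᵥ u) (M *ᵥ v) = Cfsg.hermForm n F q u v
    have e : ∀ x y : Fin n → F, Cfsg.hermForm n F q x y = x ⬝ᵥ (fun i => σ (y i)) := fun x y => by
      simp [Cfsg.hermForm, dotProduct, hσ]
    rw [e, e, show (fun i => σ ((M *ᵥ v) i)) = M.map σ *ᵥ fun i => σ (v i) from funext fun i => RingHom.map_mulVec σ M v i,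
      dotProduct_mulVec, ← Matrix.vecMul_transpose, Matrix.vecMul_vecMul, hg, Matrix.vecMul_one]

/-- A matrix as an element of `PSU`. -/
noncomputable def toPSU {σ : F →+* F} (hσ : ∀ x, σ x = x ^ q) (hq : q ≠ 0) (M : Matrix (Fin n) (Fin n) F)
    (hd : M.det = 1) (hM : Mᵀ * M.map σ = 1) : Cfsg.PSU n F q :=
  QuotientGroup.mk (⟨⟨M, hd⟩, (mem_SU_iff hσ hq _).2 hM⟩ : Cfsg.SU n F q)

theorem mk_pow_eq_one_iff (hF : Fintype.card F = q ^ 2) (hn : 0 < n) (g : Cfsg.SU n F q) (k : ℕ) :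
    (QuotientGroup.mk g : Cfsg.PSU n F q) ^ k = 1 ↔ ∃ c : F, g.1.1 ^ k = c • 1 := by
  rw [← QuotientGroup.mk_pow, QuotientGroup.eq_one_iff]
  have hval : (g ^ k).1.1 = g.1.1 ^ k := by simp
  constructor
  · intro h
    refine ⟨(g ^ k).1.1 ⟨0, hn⟩ ⟨0, hn⟩, ?_⟩
    rw [← hval, Matrix.smul_one_eq_diagonal]
    exact Lib.Classical.center_SU_scalar hF _ h _
  · rintro ⟨c, hc⟩
    refine Subgroup.mem_center_iff.2 fun x => Subtype.ext (Subtype.ext ?_)
    change x.1.1 * (g ^ k).1.1 = (g ^ k).1.1 * x.1.1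
    rw [hval, hc, Matrix.mul_smul, Matrix.mul_one, Matrix.smul_mul, Matrix.one_mul]

theorem orderOf_vec_dvd {r : ℕ} (m : ℕ) (v : Multiplicative (Fin m → ZMod r)) : orderOf v ∣ r := by
  apply orderOf_dvd_of_pow_eq_one
  apply Multiplicative.toAdd.injective
  funext i
  rw [toAdd_pow, toAdd_one, Pi.smul_apply, Pi.zero_apply, nsmul_eq_mul, ZMod.natCast_self, zero_mul]

theorem pair_dvd {A B : Type*} [Monoid A] [Monoid B] (x : A × B) (k : ℕ) :
    orderOf x ∣ k ↔ orderOf x.1 ∣ k ∧ orderOf x.2 ∣ k := by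
  simp only [orderOf_dvd_iff_pow_eq_one, Prod.ext_iff]
  rfl

/-- A torus element, times a unipotent element, times a scalar of order `r` on the two blocks. -/
theorem exists_pair {p : ℕ} [Fact p.Prime] [CharP F p] (hF : Fintype.card F = q ^ 2) (hpq : p ∣ q) {σ : F →+* F}
    (hσ : ∀ x, σ x = x ^ q) {r : ℕ} (hr : r.Prime) (hrq : r ∣ q + 1) (hrn : ¬ r ∣ n) {D R : ℕ} (hD : 1 ≤ D)
    (hR : 1 ≤ R) (hDR : D + R = n) (e : ℕ) (he : e ∣ unitaryA q D) (her : ¬ r ∣ e) :
    ∃ y : Cfsg.PSU n F q, r * e * p ^ Nat.clog p R ∣ orderOf y := by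
  classical
  have hp : p.Prime := Fact.out
  have hq2 : 2 ≤ q := Lib.Forms.two_le_of_card_sq hF
  have hσid : σ ≠ RingHom.id F := fun h => Lib.Forms.qPowHom_ne_id hF
    (RingHom.ext fun x => by rw [Lib.Forms.qPowHom_apply, ← hσ, h])
  have hσ2 : ∀ x, σ (σ x) = x := fun x => by rw [hσ, hσ, ← pow_mul, ← pow_two, ← hF, FiniteField.pow_card]
  obtain ⟨G₁, T₀, hG₁, hT₀, hT₀d, hT₀o⟩ := exists_SU_torus hF hq2 hσ hD
  obtain ⟨G₂, U, hG₂, hU, hUd, hUo⟩ := exists_unitary_unipotent (p := p) hσid hσ2 hR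
  set A := unitaryA q D with hA
  have hA0 : A ≠ 0 := by
    intro h
    have := succ_mul_unitaryA q D
    rw [← hA, h, mul_zero] at this
    have hqD : 2 ≤ q ^ D := le_trans hq2 (Nat.le_self_pow (by omega) q)
    split_ifs at this <;> omega
  set T := T₀ ^ (A / e) with hTdef
  have hTd : T.det = 1 := by rw [hTdef, Matrix.det_pow, hT₀d, one_pow]
  have hTo : orderOf T = e := by rw [hTdef, ← hT₀o, orderOf_pow_orderOf_div (by rw [hT₀o]; exact hA0) (hT₀o ▸ he)]
  obtain ⟨u, hu⟩ := exists_prime_orderOf_dvd_card' (G := Fˣ) r (hp := ⟨hr⟩) (by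
    rw [Nat.card_units, Nat.card_eq_fintype_card, hF, show q ^ 2 - 1 = (q + 1) * (q - 1) by
      rw [← Nat.sq_sub_sq, one_pow]]
    exact hrq.trans (dvd_mul_right _ _))
  set a : F := (u : F) ^ R with ha
  set b : F := ((u⁻¹ : Fˣ) : F) ^ D with hb
  have hur : (u : F) ^ r = 1 := by rw [← Units.val_pow_eq_pow_val, ← hu, pow_orderOf_eq_one, Units.val_one]
  have hur' : ((u⁻¹ : Fˣ) : F) ^ r = 1 := by
    rw [← Units.val_pow_eq_pow_val, inv_pow, ← hu, pow_orderOf_eq_one, inv_one, Units.val_one]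
  have hnorm : ∀ c : F, c ^ r = 1 → c * σ c = 1 := fun c hc => by
    obtain ⟨t, ht⟩ := hrq
    rw [hσ, ← pow_succ', ht, pow_mul, hc, one_pow]
  have hpres := hermPreserves_fromBlocks
    (hermPreserves_smul (hermPreserves_pow hT₀ (A / e)) (hnorm a (by rw [ha, ← pow_mul, mul_comm, pow_mul, hur, one_pow])))
    (hermPreserves_smul hU (hnorm b (by rw [hb, ← pow_mul, mul_comm, pow_mul, hur', one_pow])))
  obtain ⟨Φ, hΦi, hΦd, hΦs, hΦp⟩ := exists_transport hσid hσ2 (finSumFinEquiv.trans (finCongr hDR))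
    (hermGram_fromBlocks hG₁ hG₂)
  set g₀ : Matrix (Fin D ⊕ Fin R) (Fin D ⊕ Fin R) F := fromBlocks (a • T) 0 0 (b • U) with hg₀
  have hgd : (Φ g₀).det = 1 := by
    rw [hΦd, hg₀, det_fromBlocks_zero₂₁, Matrix.det_smul, Matrix.det_smul, hTd, hUd, mul_one, mul_one, ha, hb,
      Fintype.card_fin, Fintype.card_fin, ← pow_mul, ← pow_mul, mul_comm R D, ← mul_pow, Units.mul_inv, one_pow]
  have hgp : (Φ g₀)ᵀ * (Φ g₀).map σ = 1 := by
    have := hΦp g₀ hpres
    rwa [HermPreserves, Matrix.mul_one] at this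
  refine ⟨toPSU hσ (by omega) _ hgd hgp, ?_⟩
  set k := orderOf (toPSU hσ (show q ≠ 0 by omega) _ hgd hgp) with hk
  obtain ⟨c, hc⟩ := (mk_pow_eq_one_iff hF (by omega) _ k).1 (pow_orderOf_eq_one (toPSU hσ (show q ≠ 0 by omega) _ hgd hgp))
  change Φ g₀ ^ k = c • 1 at hc
  rw [← map_pow, ← hΦs] at hc
  have h0 := hΦi hc
  rw [hg₀, fromBlocks_diagonal_pow, ← fromBlocks_one, fromBlocks_smul, fromBlocks_inj] at h0
  obtain ⟨h1, -, -, h2⟩ := h0
  rw [_root_.smul_pow] at h1 h2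
  have hb0 : b ^ k ≠ 0 := pow_ne_zero _ (pow_ne_zero _ (Units.ne_zero _))
  have ha0 : a ^ k ≠ 0 := pow_ne_zero _ (pow_ne_zero _ (Units.ne_zero _))
  haveI : Nonempty (Fin D) := ⟨⟨0, hD⟩⟩
  haveI : Nonempty (Fin R) := ⟨⟨0, hR⟩⟩
  -- the unipotent block
  set P := p ^ Nat.clog p R with hP
  have hUP : U ^ P = 1 := by rw [← hUo]; exact pow_orderOf_eq_one U
  have hcb : c = b ^ k := by
    have h := congrArg (fun X => X ^ P) h2
    rw [_root_.smul_pow, _root_.smul_pow, one_pow, ← pow_mul U, mul_comm k, pow_mul, hUP, one_pow] at h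
    have h' : (b ^ k) ^ P = c ^ P := smul_left_injective F (one_ne_zero (α := Matrix (Fin R) (Fin R) F)) h
    apply sub_eq_zero.1
    refine eq_zero_of_pow_eq_zero (n := P) ?_
    rw [hP, sub_pow_char_pow, ← hP, h', sub_self]
  rw [← hcb] at hb0 h2
  have hUk : U ^ k = 1 := smul_right_injective _ hb0 h2
  have hPk : P ∣ k := hUo ▸ orderOf_dvd_of_pow_eq_one hUk
  -- the torus block
  set δ : F := (a ^ k)⁻¹ * c with hδ
  have hTk : T ^ k = δ • 1 := by rw [hδ, mul_smul, ← h1, smul_smul, inv_mul_cancel₀ ha0, one_smul]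
  have hδe : δ ^ e = 1 := by
    have h : (T ^ k) ^ e = 1 := by rw [← pow_mul, mul_comm, pow_mul, ← hTo, pow_orderOf_eq_one, one_pow]
    rw [hTk, _root_.smul_pow, one_pow] at h
    exact smul_left_injective F (one_ne_zero (α := Matrix (Fin D) (Fin D) F)) (h.trans (one_smul F _).symm)
  have hrk : r ∣ k := by
    have h : (((u⁻¹) ^ n) ^ (k * e) : Fˣ) = 1 := by
      apply Units.ext
      rw [Units.val_one, Units.val_pow_eq_pow_val, Units.val_pow_eq_pow_val, ← hδe, hδ, hcb, ha, hb,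
        Units.val_inv_eq_inv_val, ← hDR]
      simp only [inv_pow, mul_pow, ← pow_mul, ← mul_inv, ← pow_add]
      congr 2
      ring
    rw [← pow_mul] at h
    have h3 := orderOf_dvd_of_pow_eq_one h
    rw [orderOf_inv, hu] at h3
    exact ((Nat.Prime.dvd_mul hr).1 (((Nat.Prime.dvd_mul hr).1 h3).resolve_left hrn)).resolve_right her
  have hek : e ∣ k := by
    rw [← hTo]
    apply orderOf_dvd_of_pow_eq_one
    obtain ⟨t, ht⟩ := hrk
    have h1' : a ^ k = 1 := by rw [ha, ← pow_mul, ht, mul_left_comm, pow_mul, hur, one_pow]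
    have h2' : b ^ k = 1 := by rw [hb, ← pow_mul, ht, mul_left_comm, pow_mul, hur', one_pow]
    rw [hTk, hδ, h1', hcb, h2', inv_one, one_mul, one_smul]
  have hcrp : r.Coprime p := (Nat.coprime_primes hr hp).2 fun h => by
    subst h
    exact hp.not_dvd_one ((Nat.dvd_add_right hpq).1 hrq)
  have hep : e.Coprime p := by
    rw [Nat.coprime_comm, hp.coprime_iff_not_dvd]
    intro h
    have h1 : p ∣ (q + 1) * A := dvd_mul_of_dvd_right (h.trans he) _
    have h3 : p ∣ q ^ D := hpq.trans (dvd_pow_self q (by omega))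
    rw [hA, succ_mul_unitaryA] at h1
    have hqD : 1 ≤ q ^ D := Nat.one_le_pow _ _ (by omega)
    split_ifs at h1
    · have h4 := Nat.dvd_sub h3 h1
      rw [Nat.sub_sub_self hqD] at h4
      exact hp.not_dvd_one h4
    · exact hp.not_dvd_one ((Nat.dvd_add_right h3).1 h1)
  exact Nat.Coprime.mul_dvd_of_dvd_of_dvd ((Nat.Coprime.mul_left hcrp hep).pow_right _)
    (Nat.Coprime.mul_dvd_of_dvd_of_dvd (hr.coprime_iff_not_dvd.2 her) hrk hek) hPk

theorem main {p a : ℕ} [Fact p.Prime] [CharP F p] (hq : q = p ^ a) (ha : 1 ≤ a) (hF : Fintype.card F = q ^ 2)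
    (hn : 3 ≤ n) {r : ℕ} (hr : r.Prime) (hrq : r ∣ q + 1) (hrn : ¬ r ∣ n) (m : ℕ) :
    Set.range (orderOf : Cfsg.PSU n F q × Cfsg.PSU n F q × Cfsg.PSU n F q × Multiplicative (Fin m → ZMod r) → ℕ) =
      Set.range (orderOf : Cfsg.PSU n F q × Cfsg.PSU n F q × Cfsg.PSU n F q → ℕ) ∧
    ((¬ ∃ j : ℕ, n - 1 = p ^ j) →
      Set.range (orderOf : Cfsg.PSU n F q × Cfsg.PSU n F q × Multiplicative (Fin m → ZMod r) → ℕ) =
        Set.range (orderOf : Cfsg.PSU n F q × Cfsg.PSU n F q → ℕ)) := by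
  classical
  have hp : p.Prime := Fact.out
  have hpq : p ∣ q := hq ▸ dvd_pow_self p (by omega)
  have hq2 : 2 ≤ q := Lib.Forms.two_le_of_card_sq hF
  set σ : F →+* F := Lib.Forms.qPowHom hF with hσdef
  have hσ : ∀ x, σ x = x ^ q := fun x => Lib.Forms.qPowHom_apply hF x
  have hσid : σ ≠ RingHom.id F := Lib.Forms.qPowHom_ne_id hF
  have hσ2 : ∀ x, σ (σ x) = x := Lib.Forms.qPowHom_qPowHom hF
  -- witnesses
  obtain ⟨yT, hyT⟩ : ∃ y : Cfsg.PSU n F q, unitaryS q n ∣ orderOf y := by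
    obtain ⟨G, T, hG, hT, hTd, hTo⟩ := exists_SU_torus hF hq2 hσ (show 1 ≤ n by omega)
    obtain ⟨Φ, hΦi, hΦd, hΦs, hΦp⟩ := exists_transport hσid hσ2 (Equiv.refl _) hG
    have hgp : (Φ T)ᵀ * (Φ T).map σ = 1 := by
      have := hΦp T hT
      rwa [HermPreserves, Matrix.mul_one] at this
    have hgd : (Φ T).det = 1 := (hΦd T).trans hTd
    refine ⟨toPSU hσ (by omega) _ hgd hgp, ?_⟩
    set k := orderOf (toPSU hσ (show q ≠ 0 by omega) _ hgd hgp) with hk
    obtain ⟨c, hc⟩ := (mk_pow_eq_one_iff hF (by omega) _ k).1 (pow_orderOf_eq_one (toPSU hσ (show q ≠ 0 by omega) _ hgd hgp))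
    change Φ T ^ k = c • 1 at hc
    rw [← map_pow, ← hΦs] at hc
    have h0 : T ^ k = c • 1 := hΦi hc
    have hc1 : c ^ (q + 1) = 1 := by
      have h := hermPreserves_pow hT k
      rw [h0, HermPreserves, Matrix.transpose_smul, Matrix.transpose_one, Matrix.smul_mul, Matrix.one_mul,
        show (c • (1 : Matrix (Fin n) (Fin n) F)).map σ = σ c • 1 by ext i j; simp [Matrix.one_apply, apply_ite σ],
        Matrix.mul_smul, Matrix.mul_one, smul_smul] at h
      haveI : Nonempty (Fin n) := ⟨⟨0, by omega⟩⟩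
      have hG0 : G ≠ 0 := fun e => hG.2 (by rw [e, Matrix.det_zero])
      have h' := smul_left_injective F hG0 (h.trans (one_smul F G).symm)
      rw [pow_succ, ← hσ]
      exact h'
    have h1 : unitaryA q n ∣ k * (q + 1) := hTo ▸ orderOf_dvd_of_pow_eq_one (by
      rw [pow_mul, h0, _root_.smul_pow, hc1, one_pow, one_smul])
    have hgpos : 0 < Nat.gcd (unitaryA q n) (q + 1) := Nat.gcd_pos_of_pos_right _ (by omega)
    obtain ⟨s, hs⟩ : Nat.gcd (unitaryA q n) (q + 1) ∣ q + 1 := Nat.gcd_dvd_right _ _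
    have hcop : (unitaryS q n).Coprime s := by
      have h := Nat.coprime_div_gcd_div_gcd (m := unitaryA q n) (n := q + 1) hgpos
      rwa [Nat.div_eq_of_eq_mul_right hgpos hs] at h
    refine hcop.dvd_of_dvd_mul_right ?_
    apply Nat.dvd_of_mul_dvd_mul_left hgpos
    rw [show Nat.gcd (unitaryA q n) (q + 1) * (k * s) = k * (Nat.gcd (unitaryA q n) (q + 1) * s) by ring, ← hs,
      unitaryS, Nat.mul_div_cancel' (Nat.gcd_dvd_left _ _)]
    exact h1
  obtain ⟨yU, hyU, hyUd⟩ : ∃ y : Cfsg.PSU n F q, p ^ Nat.clog p n ∣ orderOf y ∧ orderOf y ∣ p ^ Nat.clog p n := by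
    obtain ⟨G, U, hG, hU, hUd, hUo⟩ := exists_unitary_unipotent (p := p) hσid hσ2 (show 1 ≤ n by omega)
    obtain ⟨Φ, hΦi, hΦd, hΦs, hΦp⟩ := exists_transport hσid hσ2 (Equiv.refl _) hG
    have hgp : (Φ U)ᵀ * (Φ U).map σ = 1 := by
      have := hΦp U hU
      rwa [HermPreserves, Matrix.mul_one] at this
    have hgd : (Φ U).det = 1 := (hΦd U).trans hUd
    refine ⟨toPSU hσ (by omega) _ hgd hgp, ?_⟩
    set k := orderOf (toPSU hσ (show q ≠ 0 by omega) _ hgd hgp) with hk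
    obtain ⟨c, hc⟩ := (mk_pow_eq_one_iff hF (by omega) _ k).1 (pow_orderOf_eq_one (toPSU hσ (show q ≠ 0 by omega) _ hgd hgp))
    change Φ U ^ k = c • 1 at hc
    rw [← map_pow, ← hΦs] at hc
    have h0 : U ^ k = c • 1 := hΦi hc
    haveI : Nonempty (Fin n) := ⟨⟨0, by omega⟩⟩
    have hc1 : c ^ (p ^ Nat.clog p n) = 1 := by
      have h := congrArg (fun X => X ^ orderOf U) h0
      simp only [← pow_mul, _root_.smul_pow, one_pow] at h
      rw [mul_comm, pow_mul, pow_orderOf_eq_one, one_pow, hUo] at h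
      exact smul_left_injective F (one_ne_zero (α := Matrix (Fin n) (Fin n) F)) (h.symm.trans (one_smul F _).symm)
    have hc2 : c = 1 := by
      apply sub_eq_zero.1
      refine eq_zero_of_pow_eq_zero (n := p ^ Nat.clog p n) ?_
      rw [sub_pow_char_pow, hc1, one_pow, sub_self]
    rw [← hUo]
    refine ⟨orderOf_dvd_of_pow_eq_one (by rw [h0, hc2, one_smul]), ?_⟩
    rw [hk]
    refine orderOf_dvd_of_pow_eq_one ((mk_pow_eq_one_iff hF (by omega) _ _).2 ⟨1, ?_⟩)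
    show Φ U ^ orderOf U = (1 : F) • 1
    rw [← map_pow, pow_orderOf_eq_one, map_one, one_smul]
  obtain ⟨yz, hyz, hyzr⟩ : ∃ y : Cfsg.PSU n F q, p ^ Nat.clog p (n - 1) ∣ orderOf y ∧ r ∣ orderOf y := by
    obtain ⟨y, hy⟩ := exists_pair (n := n) hF hpq hσ hr hrq hrn (D := 1) (R := n - 1) le_rfl (by omega) (by omega)
      1 (one_dvd _) (fun h => hr.not_dvd_one h)
    exact ⟨y, (dvd_mul_left _ _).trans hy, (dvd_mul_right _ _).trans ((dvd_mul_right _ _).trans hy)⟩
  -- the dichotomy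
  have dich : ∀ x : Cfsg.PSU n F q, (∃ y : Cfsg.PSU n F q, orderOf x ∣ orderOf y ∧ r ∣ orderOf y) ∨
      orderOf x ∣ orderOf yU ∨ orderOf x ∣ orderOf yT := by
    intro x
    by_cases hxr : r ∣ orderOf x
    · exact Or.inl ⟨x, dvd_rfl, hxr⟩
    obtain ⟨g, rfl⟩ := QuotientGroup.mk_surjective x
    set M := g.1.1 with hM
    have hMo : M ^ orderOf g = 1 := by
      have h := congrArg (fun y : Cfsg.SU n F q => y.1.1) (pow_orderOf_eq_one g)
      rw [show M ^ orderOf g = (g ^ orderOf g).1.1 by rw [hM, SubmonoidClass.coe_pow, Matrix.SpecialLinearGroup.coe_pow]]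
      exact h
    have hdvd : ∀ k : ℕ, (∃ c : F, M ^ k = c • 1) → orderOf (QuotientGroup.mk g : Cfsg.PSU n F q) ∣ k := fun k hk =>
      orderOf_dvd_of_pow_eq_one ((mk_pow_eq_one_iff hF (by omega) g k).2 hk)
    rcases unitary_dichotomy (p := p) hq hF hσ hn M ((mem_SU_iff hσ (by omega) g.1).1 g.2) g.1.2 (orderOf g)
      (orderOf_pos g) hMo hr hrq hrn with ⟨z, hzp, hzd, hcz, hzr, hzc⟩ | h | h | ⟨D, hD1, hDn, h⟩
    · left
      let z' : Cfsg.SU n F q := ⟨⟨z, hzd⟩, (mem_SU_iff hσ (by omega) _).2 hzp⟩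
      have hzo : orderOf (QuotientGroup.mk z' : Cfsg.PSU n F q) = r := by
        haveI : Fact r.Prime := ⟨hr⟩
        apply orderOf_eq_prime
        · exact (mk_pow_eq_one_iff hF (by omega) z' r).2 ⟨1, by rw [one_smul]; exact hzr⟩
        · intro hc
          obtain ⟨c, hc'⟩ := (mk_pow_eq_one_iff hF (by omega) z' 1).1 (by rw [pow_one]; exact hc)
          exact hzc c ((pow_one z).symm.trans hc')
      refine ⟨QuotientGroup.mk g * QuotientGroup.mk z', ?_⟩
      have hcomm : Commute (QuotientGroup.mk g : Cfsg.PSU n F q) (QuotientGroup.mk z') :=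
        (show Commute g z' from Subtype.ext (Subtype.ext hcz)).map (QuotientGroup.mk' _)
      rw [hcomm.orderOf_mul_eq_mul_orderOf_of_coprime
        (by rw [hzo]; exact Nat.Coprime.symm (hr.coprime_iff_not_dvd.2 hxr)), hzo]
      exact ⟨dvd_mul_right _ _, dvd_mul_left _ _⟩
    · exact Or.inr (Or.inl ((hdvd _ h).trans hyU))
    · exact Or.inr (Or.inr ((hdvd _ h).trans hyT))
    · left
      have hA0 : unitaryA q D ≠ 0 := by
        intro h0
        have := succ_mul_unitaryA q D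
        rw [h0, mul_zero] at this
        have hqD : 2 ≤ q ^ D := le_trans hq2 (Nat.le_self_pow (by omega) q)
        split_ifs at this <;> omega
      obtain ⟨t, e, her, hte⟩ := Nat.exists_eq_pow_mul_and_not_dvd hA0 r hr.ne_one
      obtain ⟨y, hy⟩ := exists_pair (n := n) hF hpq hσ hr hrq hrn (D := D) (R := n - D) hD1 (by omega) (by omega)
        e (by rw [hte]; exact dvd_mul_left _ _) her
      refine ⟨y, ?_, (dvd_mul_right _ _).trans ((dvd_mul_right _ _).trans hy)⟩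
      have h1 := hdvd _ h
      rw [hte, mul_assoc] at h1
      have h2 := (Nat.Coprime.pow_right t (Nat.Coprime.symm (hr.coprime_iff_not_dvd.2 hxr))).dvd_of_dvd_mul_left h1
      rw [mul_assoc] at hy
      exact h2.trans ((dvd_mul_left _ _).trans hy)
  constructor
  · apply Set.Subset.antisymm
    · rintro _ ⟨⟨x1, x2, x3, v⟩, rfl⟩
      suffices h : ∃ w : Cfsg.PSU n F q × Cfsg.PSU n F q × Cfsg.PSU n F q, orderOf (x1, x2, x3, v) ∣ orderOf w by
        obtain ⟨w, hw⟩ := h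
        exact exists_orderOf_eq_of_dvd hw
      have comb : ∀ w : Cfsg.PSU n F q × Cfsg.PSU n F q × Cfsg.PSU n F q, orderOf x1 ∣ orderOf w →
          orderOf x2 ∣ orderOf w → orderOf x3 ∣ orderOf w → r ∣ orderOf w →
          ∃ w' : Cfsg.PSU n F q × Cfsg.PSU n F q × Cfsg.PSU n F q, orderOf (x1, x2, x3, v) ∣ orderOf w' :=
        fun w h1 h2 h3 h4 => ⟨w, (pair_dvd _ _).2 ⟨h1, (pair_dvd _ _).2 ⟨h2, (pair_dvd _ _).2 ⟨h3,
          (orderOf_vec_dvd m v).trans h4⟩⟩⟩⟩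
      have hd : ∀ a b c : Cfsg.PSU n F q,
          orderOf a ∣ orderOf (a, b, c) ∧ orderOf b ∣ orderOf (a, b, c) ∧ orderOf c ∣ orderOf (a, b, c) :=
        fun a b c => ⟨((pair_dvd (a, b, c) _).1 dvd_rfl).1, ((pair_dvd (b, c) _).1 ((pair_dvd (a, b, c) _).1 dvd_rfl).2).1,
          ((pair_dvd (b, c) _).1 ((pair_dvd (a, b, c) _).1 dvd_rfl).2).2⟩
      rcases dich x1 with ⟨y, hy1, hy2⟩ | h1
      · obtain ⟨a, b, c⟩ := hd y x2 x3
        exact comb _ (hy1.trans a) b c (hy2.trans a)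
      rcases dich x2 with ⟨y, hy1, hy2⟩ | h2
      · obtain ⟨a, b, c⟩ := hd x1 y x3
        exact comb _ a (hy1.trans b) c (hy2.trans b)
      rcases dich x3 with ⟨y, hy1, hy2⟩ | h3
      · obtain ⟨a, b, c⟩ := hd x1 x2 y
        exact comb _ a b (hy1.trans c) (hy2.trans c)
      obtain ⟨a, b, c⟩ := hd yU yT yz
      have hall : ∀ o : ℕ, (o ∣ orderOf yU ∨ o ∣ orderOf yT) → o ∣ orderOf (yU, yT, yz) := fun o ho => by
        rcases ho with h | h
        · exact h.trans a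
        · exact h.trans b
      exact comb _ (hall _ h1) (hall _ h2) (hall _ h3) (hyzr.trans c)
    · rintro _ ⟨⟨x1, x2, x3⟩, rfl⟩
      exact ⟨(x1, x2, x3, 1), by simp [Prod.orderOf]⟩
  · intro hnp
    have hclog : Nat.clog p n ≤ Nat.clog p (n - 1) := by
      refine Nat.clog_le_of_le_pow ?_
      have h1 := Nat.le_pow_clog hp.one_lt (n - 1)
      by_contra hlt
      exact hnp ⟨Nat.clog p (n - 1), by omega⟩
    apply Set.Subset.antisymm
    · rintro _ ⟨⟨x1, x2, v⟩, rfl⟩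
      suffices h : ∃ w : Cfsg.PSU n F q × Cfsg.PSU n F q, orderOf (x1, x2, v) ∣ orderOf w by
        obtain ⟨w, hw⟩ := h
        exact exists_orderOf_eq_of_dvd hw
      have comb : ∀ w : Cfsg.PSU n F q × Cfsg.PSU n F q, orderOf x1 ∣ orderOf w → orderOf x2 ∣ orderOf w →
          r ∣ orderOf w → ∃ w' : Cfsg.PSU n F q × Cfsg.PSU n F q, orderOf (x1, x2, v) ∣ orderOf w' :=
        fun w h1 h2 h4 => ⟨w, (pair_dvd _ _).2 ⟨h1, (pair_dvd _ _).2 ⟨h2, (orderOf_vec_dvd m v).trans h4⟩⟩⟩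
      have hd : ∀ a b : Cfsg.PSU n F q, orderOf a ∣ orderOf (a, b) ∧ orderOf b ∣ orderOf (a, b) :=
        fun a b => (pair_dvd (a, b) _).1 dvd_rfl
      rcases dich x1 with ⟨y, hy1, hy2⟩ | h1
      · obtain ⟨a, b⟩ := hd y x2
        exact comb _ (hy1.trans a) b (hy2.trans a)
      rcases dich x2 with ⟨y, hy1, hy2⟩ | h2
      · obtain ⟨a, b⟩ := hd x1 y
        exact comb _ a (hy1.trans b) (hy2.trans b)
      obtain ⟨a, b⟩ := hd yT yz
      have hU : orderOf yU ∣ orderOf yz := hyUd.trans ((pow_dvd_pow p hclog).trans hyz)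
      have hall : ∀ o : ℕ, (o ∣ orderOf yU ∨ o ∣ orderOf yT) → o ∣ orderOf (yT, yz) := fun o ho => by
        rcases ho with h | h
        · exact h.trans (hU.trans b)
        · exact h.trans a
      exact comb _ (hall _ h1) (hall _ h2) (hyzr.trans b)
    · rintro _ ⟨⟨x1, x2⟩, rfl⟩
      exact ⟨(x1, x2, 1), by simp [Prod.orderOf]⟩

/-- Let F be a finite field with q² elements, q = p^a, n ≥ 3 with (n, q) ≠ (3, 2), L = PSU(n, q) realised over F, and let r be a prime dividing q + 1 and not dividing n. Then for every m the direct product L × L × L × (ℤ/r)^m has the same set of element orders as L × L × L; and if n − 1 is not a power of p, then already L × L × (ℤ/r)^m has the same set of element orders as L × L. -/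
theorem result {F : Type*} [Field F] [Fintype F] (p a n q r m : ℕ) (hp : p.Prime) (ha : 1 ≤ a) (hq : q = p ^ a) (hF : Fintype.card F = q ^ 2)
    (hn : 3 ≤ n) (hn3 : ¬ (n = 3 ∧ q = 2)) (hr : r.Prime) (hrq : r ∣ q + 1) (hrn : ¬ r ∣ n) :
    Set.range (orderOf : Cfsg.PSU n F q × Cfsg.PSU n F q × Cfsg.PSU n F q × Multiplicative (Fin m → ZMod r) → ℕ) = Set.range (orderOf : Cfsg.PSU n F q × Cfsg.PSU n F q × Cfsg.PSU n F q → ℕ) ∧
    ((¬ ∃ j : ℕ, n - 1 = p ^ j) →
      Set.range (orderOf : Cfsg.PSU n F q × Cfsg.PSU n F q × Multiplicative (Fin m → ZMod r) → ℕ) = Set.range (orderOf : Cfsg.PSU n F q × Cfsg.PSU n F q → ℕ)) := by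
  haveI : Fact p.Prime := ⟨hp⟩
  haveI : CharP F p := by
    obtain ⟨p', hp'⟩ := CharP.exists F
    obtain ⟨b, hbp, hb⟩ := FiniteField.card F p'
    have h : p' ∣ p ^ (a * 2) := by rw [pow_mul, ← hq, ← hF, hb]; exact dvd_pow_self p' b.ne_zero
    obtain rfl := (Nat.prime_dvd_prime_iff_eq hbp hp).1 (hbp.dvd_of_dvd_pow h)
    exact hp'
  exact main hq ha hF hn hr hrq hrn m

end Cfsg.Agent.S2511
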