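import Cfsg.Statements.S2496
import Cfsg.Agent.S2511
import Cfsg.Agent.Lib.ElementOrders.HalfTorus
import Cfsg.Agent.Lib.PPD.Zsigmondy

set_option autoImplicit false
open Cfsg

namespace Cfsg.Agent.S2496

open Polynomial Matrix Cfsg.Agent.Lib.ElementOrders

set_option linter.style.haveILetI false

variable {F : Type*} [Field F] [Fintype F] {q : ℕ}

/-- A prime showing that an element of the given order sits in the torus of type `(m, m)`. -/
theorem exists_prime (hq : 3 ≤ q) {m : ℕ} (hm : 2 ≤ m) :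
    ∃ r : ℕ, r.Prime ∧ (r ∣ if Even m then q ^ m + 1 else q ^ m - 1) ∧ ¬ r ∣ q ∧
      (∀ i, 0 < i → i < m → ¬ r ∣ (q ^ 2) ^ i - 1) ∧ ∀ j, Odd j → ¬ r ∣ q ^ j + 1 := by
  have hsplit : ∀ a : ℕ, q ^ (2 * a) - 1 = (q ^ a + 1) * (q ^ a - 1) := fun a => by
    rw [← Nat.sq_sub_sq, one_pow, ← pow_mul, mul_comm a 2]
  have hcop : ∀ r a : ℕ, r.Prime → 0 < a → r ∣ q ^ a - 1 → ¬ r ∣ q := fun r a hr ha h h' => by
    have := Nat.dvd_sub (h'.trans (dvd_pow_self q ha.ne')) h
    rw [Nat.sub_sub_self (Nat.one_le_pow _ _ (by omega))] at this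
    exact hr.not_dvd_one this
  have hgcd : ∀ r a b : ℕ, r ∣ q ^ a - 1 → r ∣ q ^ b - 1 → r ∣ q ^ Nat.gcd a b - 1 := fun r a b h1 h2 => by
    rw [← Nat.pow_sub_one_gcd_pow_sub_one]
    exact Nat.dvd_gcd h1 h2
  by_cases he : Even m
  · obtain ⟨r, hr, hrd, hrp⟩ := Lib.PPD.exists_primitive_prime (a := q) (n := 2 * m) (by omega) (by omega)
      (by omega) (by omega)
    have hrd' := hrd
    rw [hsplit] at hrd'
    refine ⟨r, hr, ?_, hcop r _ hr (by omega) hrd, fun i h0 hi h => ?_, fun j hj h => ?_⟩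
    · rw [if_pos he]
      exact (hr.dvd_mul.1 hrd').resolve_right (hrp m (by omega) (by omega))
    · rw [← pow_mul] at h
      exact hrp (2 * i) (by omega) (by omega) h
    · have h1 : r ∣ q ^ (2 * j) - 1 := by rw [hsplit]; exact h.mul_right _
      have h2 := hgcd r _ _ h1 hrd
      rw [Nat.gcd_mul_left] at h2
      rcases (Nat.le_of_dvd (by omega : 0 < m) (Nat.gcd_dvd_right j m)).eq_or_lt with he' | hlt
      · have hmj : m ∣ j := he' ▸ Nat.gcd_dvd_left j m
        obtain ⟨c, rfl⟩ := hmj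
        exact Nat.not_even_iff_odd.2 hj (he.mul_right c)
      · exact hrp _ (Nat.mul_pos two_pos (Nat.gcd_pos_of_pos_right j (by omega))) (by omega) h2
  · obtain ⟨r, hr, hrd, hrp⟩ := Lib.PPD.exists_primitive_prime (a := q) (n := m) (by omega) hm
      (by omega) (by rintro ⟨h, -⟩; exact he (h ▸ even_two))
    have hmo := Nat.not_even_iff_odd.1 he
    refine ⟨r, hr, by rwa [if_neg he], hcop r _ hr (by omega) hrd, fun i h0 hi h => ?_, fun j hj h => ?_⟩
    · rw [← pow_mul] at h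
      have h2 := hgcd r _ _ h hrd
      have hg : Nat.gcd (2 * i) m = Nat.gcd i m := (Nat.coprime_two_left.2 hmo).gcd_mul_left_cancel i
      rw [hg] at h2
      have := Nat.gcd_le_left m h0
      exact hrp _ (Nat.gcd_pos_of_pos_left m h0) (by omega) h2
    · have h1 : r ∣ q ^ (2 * j) - 1 := by rw [hsplit]; exact h.mul_right _
      have h2 := hgcd r _ _ h1 hrd
      have hg : Nat.gcd (2 * j) m = Nat.gcd j m := (Nat.coprime_two_left.2 hmo).gcd_mul_left_cancel j
      rw [hg] at h2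
      have h3 : r ∣ q ^ j - 1 := h2.trans (Nat.pow_sub_one_dvd_pow_sub_one q (Nat.gcd_dvd_left j m))
      have h4 := Nat.dvd_sub h h3
      have hp := Nat.one_le_pow j q (by omega)
      rw [show q ^ j + 1 - (q ^ j - 1) = 2 by omega] at h4
      have hr2 : r = 2 := (Nat.prime_dvd_prime_iff_eq hr Nat.prime_two).1 h4
      subst hr2
      have h5 : ¬ 2 ∣ q := hcop 2 _ hr (by omega) hrd
      refine hrp 1 one_pos (by omega) ?_
      rw [pow_one]
      omega

/-- An element of order `q ^ m ± 1` sits in the torus of type `(m, m)`. -/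
theorem order_dvd (hF : Fintype.card F = q ^ 2) (hq : 3 ≤ q) {m : ℕ} (hm : 2 ≤ m)
    (x : Cfsg.PSU (2 * m) F q) (hx : orderOf x = if Even m then q ^ m + 1 else q ^ m - 1) :
    orderOf x ∣ ((q ^ (2 * m) - 1) / (q + 1)) / Nat.gcd ((q ^ (2 * m) - 1) / (q + 1)) (q + 1) := by
  classical
  obtain ⟨g₀, rfl⟩ := QuotientGroup.mk_surjective x
  set g : Matrix (Fin (2 * m)) (Fin (2 * m)) F := g₀.1.1 with hg
  haveI : Nonempty (Fin (2 * m)) := ⟨⟨0, by omega⟩⟩
  have hdet : g.det = 1 := g₀.1.2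
  obtain ⟨p, hp⟩ := CharP.exists F
  haveI : Fact p.Prime := ⟨CharP.char_is_prime F p⟩
  obtain ⟨b, hpp, hqb⟩ := FiniteField.card F p
  obtain ⟨a, -, hqp⟩ := (Nat.dvd_prime_pow hpp).1 (show q ∣ p ^ (b : ℕ) by rw [← hqb, hF]; exact dvd_pow_self q two_ne_zero)
  set σ : F →+* F := Lib.Forms.qPowHom hF
  have hσ : ∀ x, σ x = x ^ q := fun x => Lib.Forms.qPowHom_apply hF x
  have hσ2 : ∀ x, σ (σ x) = x := Lib.Forms.qPowHom_qPowHom hF
  have hU : gᵀ * g.map σ = 1 := (S2511.mem_SU_iff hσ (by omega) g₀.1).1 g₀.2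
  set N := if Even m then q ^ m + 1 else q ^ m - 1 with hN
  set T := N * (Fintype.card F - 1) with hT
  have hgT : g ^ T = 1 := by
    obtain ⟨c, hc⟩ := (S2511.mk_pow_eq_one_iff hF (by omega) g₀ N).1 (hx ▸ pow_orderOf_eq_one _)
    change g ^ N = c • 1 at hc
    have hc0 : c ≠ 0 := fun h => by
      have := congrArg Matrix.det hc
      rw [Matrix.det_pow, hdet, one_pow, h, zero_smul, Matrix.det_zero] at this
      exact one_ne_zero this
    rw [hT, pow_mul, hc, _root_.smul_pow, one_pow, FiniteField.pow_card_sub_one_eq_one c hc0, one_smul]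
  obtain ⟨r, hr, hrN, hrq, hri, hrj⟩ := exists_prime hq hm
  rw [← hN] at hrN
  set o := orderOf g with ho
  have hoT : o ∣ T := orderOf_dvd_of_pow_eq_one hgT
  have hpq : p ∣ q := by
    have h : p ∣ q ^ 2 := by rw [← hF, hqb]; exact dvd_pow_self p b.ne_zero
    exact hpp.dvd_of_dvd_pow h
  have hro : r ∣ o := by
    have h1 : orderOf (QuotientGroup.mk g₀ : Cfsg.PSU (2 * m) F q) ∣ o := orderOf_dvd_of_pow_eq_one
      ((S2511.mk_pow_eq_one_iff hF (by omega) g₀ o).2 ⟨1, by rw [one_smul]; exact pow_orderOf_eq_one g⟩)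
    exact hrN.trans (hx ▸ h1)
  have hoF : (o : F) ≠ 0 := fun h => by
    have h1 : p ∣ T := ((CharP.cast_eq_zero_iff F p o).1 h).trans hoT
    have h2 : p ∣ q ^ m := hpq.trans (dvd_pow_self q (by omega))
    have hqm : 1 ≤ q ^ m := Nat.one_le_pow _ _ (by omega)
    rcases hpp.dvd_mul.1 h1 with h3 | h3
    · rw [hN] at h3
      split_ifs at h3
      · exact hpp.not_dvd_one ((Nat.dvd_add_right h2).1 h3)
      · have := Nat.dvd_sub h2 h3
        rw [Nat.sub_sub_self hqm] at this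
        exact hpp.not_dvd_one this
    · have := Nat.dvd_sub (show p ∣ Fintype.card F by rw [hqb]; exact dvd_pow_self p b.ne_zero) h3
      rw [Nat.sub_sub_self Fintype.card_pos] at this
      exact hpp.not_dvd_one this
  have ho0 : 0 < o := Nat.pos_of_ne_zero fun h => hoF (by rw [h, Nat.cast_zero])
  have hk1 : g ^ (o / r) ≠ 1 := fun h => by
    have h1 := Nat.le_of_dvd (Nat.div_pos (Nat.le_of_dvd ho0 hro) hr.pos) (orderOf_dvd_of_pow_eq_one h)
    have h2 := Nat.div_lt_self ho0 hr.one_lt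
    omega
  obtain ⟨f, hfm, hfirr, hfM, hfk⟩ := HalfTorus.exists_factor g hoF (pow_orderOf_eq_one g) hk1
  set M := minpoly F g with hM
  haveI : Fact (Irreducible f) := ⟨hfirr⟩
  let pb := AdjoinRoot.powerBasis hfirr.ne_zero
  haveI : Module.Finite F (AdjoinRoot f) := pb.finite
  haveI : Finite (AdjoinRoot f) := Module.finite_of_finite F
  letI : Fintype (AdjoinRoot f) := Fintype.ofFinite _
  set α := AdjoinRoot.root f with hα
  have hroot : ∀ P : F[X], aeval α P = 0 ↔ f ∣ P := fun P => by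
    rw [hα, AdjoinRoot.aeval_eq, AdjoinRoot.mk_eq_zero]
  have hfo : f ∣ X ^ o - 1 := hfM.trans (minpoly.dvd F g (by simp [ho, pow_orderOf_eq_one]))
  obtain ⟨hrα, hαo⟩ := HalfTorus.dvd_orderOf_root hr hro hfo hfk
  change r ∣ orderOf α at hrα
  change α ^ o = 1 at hαo
  have hα0 : α ≠ 0 := fun h => by
    rw [h, zero_pow ho0.ne'] at hαo
    exact zero_ne_one hαo
  have hgg' : g * g ^ (o - 1) = 1 := by rw [← pow_succ', show o - 1 + 1 = o by omega, ho, pow_orderOf_eq_one]
  have hadj : (g.map σ)ᵀ = g ^ (o - 1) := by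
    have h1 : (g.map σ)ᵀ * g = 1 := by
      have h := congrArg Matrix.transpose hU
      rwa [Matrix.transpose_mul, Matrix.transpose_transpose, Matrix.transpose_one] at h
    calc (g.map σ)ᵀ = (g.map σ)ᵀ * (g * g ^ (o - 1)) := by rw [hgg', Matrix.mul_one]
      _ = g ^ (o - 1) := by rw [← Matrix.mul_assoc, h1, Matrix.one_mul]
  set β := (α ^ (o - 1)) ^ q with hβ
  have hαβ : α ^ q * β = 1 := by rw [hβ, ← mul_pow, ← pow_succ', show o - 1 + 1 = o by omega, hαo, one_pow]
  have hMβ : aeval β M = 0 := by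
    have h1 : aeval g ((M.map σ).comp (X ^ (o - 1))) = 0 := by
      rw [aeval_comp, map_pow, aeval_X, ← adjoint_aeval σ g _ hadj, hM, minpoly.aeval]
      ext; simp
    have h2 := (hroot _).2 (hfM.trans (minpoly.dvd F g h1))
    rw [aeval_comp, map_pow, aeval_X] at h2
    rw [hβ, ← aeval_map_pow_q hqp hσ hσ2, h2, zero_pow (by omega)]
  set f' := minpoly F β with hf'
  have hβint : IsIntegral F β := IsIntegral.of_finite F β
  have hf'm : f'.Monic := minpoly.monic hβint
  have hf'irr : Irreducible f' := minpoly.irreducible hβint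
  haveI : Fact (Irreducible f') := ⟨hf'irr⟩
  have hf'M : f' ∣ M := minpoly.dvd F β hMβ
  have hQ : ∀ i, Fintype.card F ^ i = (q ^ 2) ^ i := fun i => by rw [hF]
  have hd : m ≤ f.natDegree := HalfTorus.natDegree_ge_of_root hrα hα0 (fun i h0 hi => by rw [hQ]; exact hri i h0 hi)
  have hd' : m ≤ f'.natDegree := by
    let φ : AdjoinRoot f' →ₐ[F] AdjoinRoot f := AdjoinRoot.liftAlgHom f' (Algebra.ofId F _) β (minpoly.aeval F β)
    have hφ : φ (AdjoinRoot.root f') = β := AdjoinRoot.liftAlgHom_root _ _ _ _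
    have hrβ : r ∣ orderOf β := by
      have h : α ^ (q * orderOf β) = 1 := by
        have h' := congrArg (fun y => y ^ orderOf β) hαβ
        simp only [mul_pow, pow_orderOf_eq_one, mul_one, one_pow, ← pow_mul] at h'
        exact h'
      exact (hr.dvd_mul.1 (hrα.trans (orderOf_dvd_of_pow_eq_one h))).resolve_left hrq
    have hrr : r ∣ orderOf (AdjoinRoot.root f') := by
      have := orderOf_injective (φ.toRingHom.toMonoidHom) φ.toRingHom.injective (AdjoinRoot.root f')
      rw [← this]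
      show r ∣ orderOf (φ (AdjoinRoot.root f'))
      rwa [hφ]
    refine HalfTorus.natDegree_ge_of_root hrr ?_ (fun i h0 hi => by rw [hQ]; exact hri i h0 hi)
    intro h
    rw [h, map_zero] at hφ
    rw [← hφ, mul_zero] at hαβ
    exact zero_ne_one hαβ
  have hne : f ≠ f' := fun he => by
    have hβf : aeval β f = 0 := by
      have := minpoly.aeval F β
      rwa [← hf', ← he] at this
    obtain ⟨i, -, hi⟩ := exists_root_eq_pow β hβf
    have h : α ^ (q + (q ^ 2) ^ i) = 1 := by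
      rw [pow_add, ← hQ i]
      change α ^ q * α ^ (Fintype.card F ^ i) = 1
      rw [hα, ← hi]
      exact hαβ
    have h' := hrα.trans (orderOf_dvd_of_pow_eq_one h)
    rcases i with _ | i
    · rw [pow_zero] at h'
      exact hrj 1 odd_one (by rw [pow_one]; exact h')
    · rw [show q + (q ^ 2) ^ (i + 1) = q * (q ^ (2 * i + 1) + 1) by
        rw [← pow_mul, show 2 * (i + 1) = 2 * i + 1 + 1 by ring, pow_succ]; ring] at h'
      exact hrj _ (odd_two_mul_add_one i) ((hr.dvd_mul.1 h').resolve_left hrq)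
  have hco : IsCoprime f f' := hfirr.coprime_iff_not_dvd.2 fun hd =>
    hne (eq_of_monic_of_associated hfm hf'm (hfirr.associated_of_dvd hf'irr hd))
  have hffM : f * f' ∣ M := hco.mul_dvd hfM hf'M
  have hchdeg : g.charpoly.natDegree = 2 * m := by rw [Matrix.charpoly_natDegree_eq_dim, Fintype.card_fin]
  have hdeg : (f * f').natDegree = f.natDegree + f'.natDegree := natDegree_mul hfm.ne_zero hf'm.ne_zero
  have hle := natDegree_le_of_dvd (hffM.trans (Matrix.minpoly_dvd_charpoly g)) (Matrix.charpoly_monic g).ne_zero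
  rw [hchdeg, hdeg] at hle
  have hdm : f.natDegree = m := by omega
  have hdm' : f'.natDegree = m := by omega
  have hch : g.charpoly = f * f' := eq_of_monic_of_dvd_of_natDegree_le (hfm.mul hf'm) (Matrix.charpoly_monic g)
    (hffM.trans (Matrix.minpoly_dvd_charpoly g)) (by omega)
  have hMeq : M = f * f' := by
    have hle' : M.natDegree ≤ (f * f').natDegree := by
      have h := natDegree_le_of_dvd (Matrix.minpoly_dvd_charpoly g) (Matrix.charpoly_monic g).ne_zero
      rwa [hch] at h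
    exact eq_of_monic_of_dvd_of_natDegree_le (hfm.mul hf'm) (minpoly.monic (Matrix.isIntegral g)) hffM hle'
  have hfin : Module.finrank F (AdjoinRoot f) = m := by rw [pb.finrank]; exact (AdjoinRoot.powerBasis_dim _).trans hdm
  have hminα : minpoly F α = f := by
    rw [hα, AdjoinRoot.minpoly_root hfirr.ne_zero, hfm.leadingCoeff, inv_one, map_one, mul_one]
  set E := (Fintype.card F ^ m - 1) / (Fintype.card F - 1) with hE
  have hprod : α ^ E * β ^ E = 1 := by
    have h1 := coeff_zero_eq_pow (F := F) hfin α (by rw [hminα, hdm])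
    have h2 := coeff_zero_eq_pow (F := F) hfin β (by rw [← hf', hdm'])
    rw [hminα] at h1
    rw [← hf'] at h2
    rw [hE, ← h1, ← h2, ← map_mul]
    have h' := Matrix.det_eq_sign_charpoly_coeff g
    rw [Fintype.card_fin, hdet, hch, mul_coeff_zero] at h'
    rw [show (-1 : F) ^ m * f.coeff 0 * ((-1) ^ m * f'.coeff 0) = (-1) ^ (2 * m) * (f.coeff 0 * f'.coeff 0) by
      rw [two_mul, pow_add]; ring, ← h', map_one]
  set A := (q ^ (2 * m) - 1) / (q + 1) with hA
  have hAE : A = (q - 1) * E := by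
    refine Nat.div_eq_of_eq_mul_right (by omega) ?_
    rw [← mul_assoc, show (q + 1) * (q - 1) = Fintype.card F - 1 by rw [hF, ← Nat.sq_sub_sq, one_pow], hE,
      Nat.mul_div_cancel' (Nat.sub_one_dvd_pow_sub_one _ m), hF, ← pow_mul]
  have hαA : α ^ A = 1 := by
    have h1 : α ^ (q * E) * β ^ E = 1 := by rw [pow_mul, ← mul_pow, hαβ, one_pow]
    have hβ0 : β ^ E ≠ 0 := right_ne_zero_of_mul (hprod ▸ one_ne_zero)
    have h2 : α ^ (q * E) = α ^ E := mul_right_cancel₀ hβ0 (h1.trans hprod.symm)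
    apply mul_right_cancel₀ (pow_ne_zero E hα0)
    rw [hAE, ← pow_add, one_mul, ← h2]
    congr 1
    obtain ⟨q', rfl⟩ := Nat.exists_eq_add_of_le (show 1 ≤ q by omega)
    rw [Nat.add_sub_cancel_left]; ring
  set d := Nat.gcd A (q + 1) with hdd
  set y := α ^ (A / d) with hy
  have hy1 : y ^ (q + 1) = 1 := by
    obtain ⟨t, ht⟩ := Nat.gcd_dvd_right A (q + 1)
    rw [← hdd] at ht
    rw [hy, ht, ← pow_mul, ← mul_assoc, Nat.div_mul_cancel (Nat.gcd_dvd_left A (q + 1)), pow_mul, hαA, one_pow]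
  obtain ⟨c, hc⟩ := HalfTorus.exists_algebraMap_eq (F := F) (x := y) (by
    rw [hF, show q ^ 2 = (q + 1) * (q - 1) + 1 by
      have := Nat.sq_sub_sq q 1; rw [one_pow] at this; rw [← this]; have := Nat.one_le_pow 2 q (by omega); omega,
      pow_succ, pow_mul, hy1, one_pow, one_mul])
  have hβk : β ^ (A / d) = y := by
    have h1 : y ^ q * β ^ (A / d) = 1 := by
      rw [hy, ← pow_mul, mul_comm (A / d) q, pow_mul, ← mul_pow, hαβ, one_pow]
    have hy0 : y ^ q ≠ 0 := left_ne_zero_of_mul (h1 ▸ one_ne_zero)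
    exact mul_left_cancel₀ hy0 (h1.trans (by rw [← pow_succ, hy1]))
  have hf1 : f ∣ X ^ (A / d) - C c := (hroot _).1 (by rw [map_sub, map_pow, aeval_X, aeval_C, hc, hy, sub_self])
  have hf2 : f' ∣ X ^ (A / d) - C c := minpoly.dvd F β (by rw [map_sub, map_pow, aeval_X, aeval_C, hc, hβk, sub_self])
  obtain ⟨w, hw⟩ := hco.mul_dvd hf1 hf2
  have h := congrArg (aeval g) hw
  rw [← hMeq, hM, map_mul, minpoly.aeval, zero_mul, map_sub, map_pow, aeval_X, aeval_C, sub_eq_zero,
    Algebra.algebraMap_eq_smul_one] at h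
  exact orderOf_dvd_of_pow_eq_one ((S2511.mk_pow_eq_one_iff hF (by omega) g₀ _).2 ⟨c, h⟩)

/-- The torus of type `(m, m)` gives the element. -/
theorem exists_element (hF : Fintype.card F = q ^ 2) (hq : 3 ≤ q) {m : ℕ} (hm : 2 ≤ m) :
    ∃ x : Cfsg.PSU (2 * m) F q,
      ((q ^ (2 * m) - 1) / (q + 1)) / Nat.gcd ((q ^ (2 * m) - 1) / (q + 1)) (q + 1) ∣ orderOf x := by
  classical
  set σ : F →+* F := Lib.Forms.qPowHom hF
  have hσ : ∀ x, σ x = x ^ q := fun x => Lib.Forms.qPowHom_apply hF x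
  have hσid : σ ≠ RingHom.id F := Lib.Forms.qPowHom_ne_id hF
  have hσ2 : ∀ x, σ (σ x) = x := Lib.Forms.qPowHom_qPowHom hF
  obtain ⟨G, T, hG, hT, hTd, hTo⟩ := exists_SU_torus hF (by omega) hσ (show 1 ≤ 2 * m by omega)
  obtain ⟨Φ, hΦi, hΦd, hΦs, hΦp⟩ := exists_transport hσid hσ2 (Equiv.refl _) hG
  have hgp : (Φ T)ᵀ * (Φ T).map σ = 1 := by
    have := hΦp T hT
    rwa [HermPreserves, Matrix.mul_one] at this
  have hgd : (Φ T).det = 1 := (hΦd T).trans hTd
  refine ⟨S2511.toPSU hσ (by omega) _ hgd hgp, ?_⟩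
  set k := orderOf (S2511.toPSU hσ (show q ≠ 0 by omega) _ hgd hgp) with hk
  obtain ⟨c, hc⟩ := (S2511.mk_pow_eq_one_iff hF (by omega) _ k).1
    (pow_orderOf_eq_one (S2511.toPSU hσ (show q ≠ 0 by omega) _ hgd hgp))
  change Φ T ^ k = c • 1 at hc
  rw [← map_pow, ← hΦs] at hc
  have h0 : T ^ k = c • 1 := hΦi hc
  have hc1 : c ^ (q + 1) = 1 := by
    have h := hermPreserves_pow hT k
    rw [h0, HermPreserves, Matrix.transpose_smul, Matrix.transpose_one, Matrix.smul_mul, Matrix.one_mul,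
      show (c • (1 : Matrix (Fin (2 * m)) (Fin (2 * m)) F)).map σ = σ c • 1 by
        ext i j; simp [Matrix.one_apply, apply_ite σ],
      Matrix.mul_smul, Matrix.mul_one, smul_smul] at h
    haveI : Nonempty (Fin (2 * m)) := ⟨⟨0, by omega⟩⟩
    have hG0 : G ≠ 0 := fun e => hG.2 (by rw [e, Matrix.det_zero])
    have h' := smul_left_injective F hG0 (h.trans (one_smul F G).symm)
    rw [pow_succ, ← hσ]
    exact h'
  have hA : unitaryA q (2 * m) = (q ^ (2 * m) - 1) / (q + 1) := by rw [unitaryA, if_pos (even_two_mul m)]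
  rw [← hA]
  exact HalfTorus.div_gcd_dvd (by omega) (hTo ▸ orderOf_dvd_of_pow_eq_one (by
    rw [pow_mul, h0, _root_.smul_pow, hc1, one_pow, one_smul]))

/-- The cofactor of `q ^ m ± 1` in the torus. -/
theorem exists_cofactor (hq : 1 ≤ q) (m : ℕ) :
    ∃ B : ℕ, (q + 1) * B = (if Even m then q ^ m - 1 else q ^ m + 1) ∧
      ((B : ZMod (q + 1)) = (m : ZMod (q + 1)) ∨ (B : ZMod (q + 1)) = -(m : ZMod (q + 1))) := by
  have hq' : (q : ZMod (q + 1)) = -1 := eq_neg_of_add_eq_zero_left (by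
    have h := ZMod.natCast_self (q + 1)
    rwa [Nat.cast_add, Nat.cast_one] at h)
  rcases Nat.even_or_odd' m with ⟨k, rfl | rfl⟩
  · refine ⟨(q - 1) * ∑ i ∈ Finset.range k, (q ^ 2) ^ i, ?_, Or.inr ?_⟩
    · rw [if_pos (even_two_mul k), pow_mul, ← mul_assoc, ← Nat.sq_sub_sq, one_pow]
      have := geom_sum_mul_add (q ^ 2 - 1) k
      rw [show q ^ 2 - 1 + 1 = q ^ 2 by have := Nat.one_le_pow 2 q hq; omega] at this
      rw [← this, Nat.add_sub_cancel, mul_comm]
    · rw [Nat.cast_mul, Nat.cast_sub hq, Nat.cast_sum, hq', Nat.cast_one]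
      simp [hq']
      ring
  · rw [if_neg (Nat.not_even_iff_odd.2 (odd_two_mul_add_one k))]
    suffices h : ∃ B : ℕ, (q + 1) * B = q ^ (2 * k + 1) + 1 ∧
        (B : ZMod (q + 1)) = ((2 * k + 1 : ℕ) : ZMod (q + 1)) by
      obtain ⟨B, h1, h2⟩ := h
      exact ⟨B, h1, Or.inl h2⟩
    induction k with
    | zero => exact ⟨1, by simp, by simp⟩
    | succ k ih =>
      obtain ⟨B, hB, h⟩ := ih
      have hB1 : q - 1 ≤ q ^ 2 * B := by
        have : 0 < B := Nat.pos_of_ne_zero fun h => by rw [h, mul_zero] at hB; omega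
        nlinarith [Nat.sub_le q 1]
      refine ⟨q ^ 2 * B - (q - 1), ?_, ?_⟩
      · have h2 : (q + 1) * (q - 1) = q ^ 2 - 1 := by rw [← Nat.sq_sub_sq, one_pow]
        have h3 : q ^ (2 * (k + 1) + 1) = q ^ 2 * q ^ (2 * k + 1) := by ring
        rw [Nat.mul_sub, mul_left_comm, hB, h2, h3, mul_add, mul_one]
        have := Nat.one_le_pow 2 q hq
        omega
      · rw [Nat.cast_sub hB1, Nat.cast_mul, Nat.cast_sub hq, Nat.cast_pow, hq', h]
        push_cast
        ring


/-- Let q be an odd prime power, n ≥ 4 even, and U = PSU(n,q) (realised over the field with q² elements). Then U has an element of order q^(n/2) + (−1)^(n/2) — that is, q^(n/2) + 1 when n/2 is even and q^(n/2) − 1 when n/2 is odd — if and only if the 2-part of n exceeds the 2-part of q + 1. -/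
theorem result {F : Type*} [Field F] [Fintype F] {q : ℕ} (hF : Fintype.card F = q ^ 2) (hodd : Odd q)
    {n : ℕ} (hn : 4 ≤ n) (heven : Even n) :
    (∃ g : Cfsg.PSU n F q, orderOf g = if Even (n / 2) then q ^ (n / 2) + 1 else q ^ (n / 2) - 1) ↔
      padicValNat 2 (q + 1) < padicValNat 2 n := by
  obtain ⟨m, rfl⟩ : ∃ m, n = 2 * m := ⟨n / 2, by obtain ⟨k, rfl⟩ := heven; omega⟩
  rw [Nat.mul_div_cancel_left m two_pos]
  have hq2 : 2 ≤ q := Lib.Forms.two_le_of_card_sq hF
  have hq : 3 ≤ q := by obtain ⟨k, hk⟩ := hodd; omega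
  have hm : 2 ≤ m := by omega
  obtain ⟨B, hB, hB'⟩ := exists_cofactor (q := q) (by omega) m
  set N := if Even m then q ^ m + 1 else q ^ m - 1 with hN
  have hqm : 2 ≤ q ^ m := le_trans hq2 (Nat.le_self_pow (by omega) q)
  have hq' : (q : ZMod (q + 1)) = -1 := eq_neg_of_add_eq_zero_left (by
    have h := ZMod.natCast_self (q + 1)
    rwa [Nat.cast_add, Nat.cast_one] at h)
  have hA : (q ^ (2 * m) - 1) / (q + 1) = N * B := by
    refine Nat.div_eq_of_eq_mul_right (by omega) ?_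
    rw [mul_left_comm, hB, hN, show q ^ (2 * m) - 1 = (q ^ m + 1) * (q ^ m - 1) by
      rw [← Nat.sq_sub_sq, one_pow, ← pow_mul, mul_comm m 2]]
    split_ifs <;> ring
  have hN2 : ((N : ℕ) : ZMod (q + 1)) = 2 ∨ ((N : ℕ) : ZMod (q + 1)) = -2 := by
    rw [hN]
    split_ifs with he
    · left
      rw [Nat.cast_add, Nat.cast_pow, hq', he.neg_one_pow, Nat.cast_one]
      norm_num
    · right
      rw [Nat.cast_sub (by omega), Nat.cast_pow, hq', (Nat.not_even_iff_odd.1 he).neg_one_pow, Nat.cast_one]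
      norm_num
  have hiff := Lib.ElementOrders.HalfTorus.dvd_div_gcd_iff (N := N) (u := q + 1) (m := m)
    (by rw [hN]; split_ifs <;> omega) (by omega) (by omega) hA (by
      rw [hA, Nat.cast_mul, Nat.cast_mul]
      rcases hN2 with h1 | h1 <;> rcases hB' with h2 | h2 <;> rw [h1, h2]
      · exact Or.inl (by norm_num)
      · exact Or.inr (by norm_num)
      · exact Or.inr (by norm_num)
      · exact Or.inl (by norm_num)) hB'
  rw [← hiff]
  constructor
  · rintro ⟨x, hx⟩
    have := order_dvd hF hq hm x hx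
    rwa [hx] at this
  · intro h
    obtain ⟨x, hx⟩ := exists_element hF hq hm
    exact exists_orderOf_eq_of_dvd (h.trans hx)

end Cfsg.Agent.S2496
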