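import Cfsg.Statements.S2503
import Mathlib

set_option autoImplicit false
open Cfsg

namespace Cfsg.Agent.S2503

open Polynomial

variable {F : Type*} [Field F] [CharP F 2] [Fintype F] {c : F}

local notation "SL2'" => Matrix.SpecialLinearGroup (Fin 2) F

/-- The norm form of the quadratic extension by `X ^ 2 + X + c`. -/
def nrm (c a b : F) : F := a ^ 2 + a * b + c * b ^ 2

theorem exists_anisotropic : ∃ c : F, ∀ t : F, t ^ 2 + t + c ≠ 0 := by
  by_contra h
  simp only [not_exists, not_forall, not_not] at h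
  have hs : Function.Surjective (fun t : F => t ^ 2 + t) := fun c => by
    obtain ⟨t, ht⟩ := h c
    exact ⟨t, CharTwo.add_eq_zero.1 ht⟩
  have h01 := (Finite.injective_iff_surjective.2 hs) (a₁ := 0) (a₂ := 1) (by simp [CharTwo.add_self_eq_zero])
  exact zero_ne_one h01

theorem nrm_eq_zero (hc : ∀ t : F, t ^ 2 + t + c ≠ 0) {a b : F} (h : nrm c a b = 0) : a = 0 ∧ b = 0 := by
  by_cases hb : b = 0
  · subst hb
    simpa [nrm] using h
  · exfalso
    refine hc (a / b) ?_
    have h2 : (a / b) ^ 2 + a / b + c = nrm c a b / b ^ 2 := by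
      simp only [nrm]; field_simp
    rw [h2, h, zero_div]

/-- The norm-one torus. -/
def torus (c : F) : Subgroup SL2' where
  carrier := {M | M.1 0 1 = c * M.1 1 0 ∧ M.1 1 1 = M.1 0 0 + M.1 1 0}
  one_mem' := by simp
  mul_mem' := by
    rintro M N ⟨h1, h2⟩ ⟨h3, h4⟩
    simp only [Set.mem_setOf_eq, Matrix.SpecialLinearGroup.coe_mul, Matrix.mul_apply, Fin.sum_univ_two, h1, h2, h3, h4]
    constructor <;> ring
  inv_mem' := by
    rintro M ⟨h1, h2⟩
    simp only [Set.mem_setOf_eq, Matrix.SpecialLinearGroup.coe_inv, Matrix.adjugate_fin_two, h1, h2]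
    simp [CharTwo.neg_eq]
    rw [add_assoc, CharTwo.add_self_eq_zero, add_zero]

/-- The element of the torus with given coordinates. -/
def mkT (c a b : F) (h : nrm c a b = 1) : SL2' :=
  ⟨!![a, c * b; b, a + b], by
    rw [Matrix.det_fin_two_of, ← h, nrm]
    linear_combination -(CharTwo.two_eq_zero (R := F)) * c * b ^ 2⟩

theorem mkT_mem (a b : F) (h : nrm c a b = 1) : mkT c a b h ∈ torus c := ⟨rfl, rfl⟩

theorem nrm_of_mem {M : SL2'} (hM : M ∈ torus c) : nrm c (M.1 0 0) (M.1 1 0) = 1 := by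
  have h := M.2
  rw [Matrix.det_fin_two, hM.1, hM.2] at h
  rw [nrm]
  linear_combination h + (CharTwo.two_eq_zero (R := F)) * c * (M.1 1 0) ^ 2

theorem torus_cyclic (hc : ∀ t : F, t ^ 2 + t + c ≠ 0) : IsCyclic (torus c) := by
  have hdeg : (X ^ 2 + X + C c : F[X]).natDegree = 2 := by compute_degree!
  have hirr : Irreducible (X ^ 2 + X + C c : F[X]) := by
    apply Polynomial.irreducible_of_degree_le_three_of_not_isRoot
    · simp [hdeg]
    · intro t ht
      exact hc t (by simpa [IsRoot] using ht)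
  haveI : Fact (Irreducible (X ^ 2 + X + C c : F[X])) := ⟨hirr⟩
  haveI : CharP (AdjoinRoot (X ^ 2 + X + C c : F[X])) 2 := charP_of_injective_algebraMap (algebraMap F _).injective 2
  set α := AdjoinRoot.root (X ^ 2 + X + C c : F[X]) with hα
  have hroot : α ^ 2 = α + algebraMap F _ c := by
    have h := AdjoinRoot.eval₂_root (X ^ 2 + X + C c : F[X])
    simp only [eval₂_add, eval₂_X_pow, eval₂_X, eval₂_C] at h
    rw [AdjoinRoot.algebraMap_eq]
    linear_combination h - (α + AdjoinRoot.of (X ^ 2 + X + C c : F[X]) c) *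
      (CharTwo.two_eq_zero (R := AdjoinRoot (X ^ 2 + X + C c : F[X])))
  let ψ : torus c →* AdjoinRoot (X ^ 2 + X + C c : F[X]) :=
    { toFun := fun M => algebraMap F _ (M.1.1 0 0) + algebraMap F _ (M.1.1 1 0) * α
      map_one' := by simp
      map_mul' := fun M N => by
        simp only [Subgroup.coe_mul, Matrix.SpecialLinearGroup.coe_mul, Matrix.mul_apply, Fin.sum_univ_two, M.2.1,
          M.2.2, map_add, map_mul]
        linear_combination -(algebraMap F _ (M.1.1 1 0) * algebraMap F _ (N.1.1 1 0)) * hroot }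
  refine isCyclic_of_subgroup_isDomain ψ ?_
  intro M N h
  have h' : AdjoinRoot.mk (X ^ 2 + X + C c : F[X]) (C (M.1.1 0 0) + C (M.1.1 1 0) * X) =
      AdjoinRoot.mk (X ^ 2 + X + C c : F[X]) (C (N.1.1 0 0) + C (N.1.1 1 0) * X) := by
    simp only [map_add, map_mul, AdjoinRoot.mk_C, AdjoinRoot.mk_X, ← AdjoinRoot.algebraMap_eq]
    exact h
  rw [AdjoinRoot.mk_eq_mk] at h'
  have h0 := Polynomial.eq_zero_of_dvd_of_natDegree_lt h' (by rw [hdeg]; exact Nat.lt_succ_of_le (by compute_degree))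
  rw [sub_eq_zero] at h0
  have e0 : M.1.1 0 0 = N.1.1 0 0 := by simpa using congrArg (fun p => p.coeff 0) h0
  have e1 : M.1.1 1 0 = N.1.1 1 0 := by simpa using congrArg (fun p => p.coeff 1) h0
  apply Subtype.ext; apply Subtype.ext
  ext i j
  fin_cases i <;> fin_cases j
  · exact e0
  · exact M.2.1.trans (e1 ▸ N.2.1.symm)
  · exact e1
  · exact M.2.2.trans (by rw [e0, e1]; exact N.2.2.symm)

theorem exists_sqrt (a : F) : ∃ r : F, r ^ 2 = a := by
  obtain ⟨r, hr⟩ := surjective_frobenius F 2 a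
  exact ⟨r, hr⟩

theorem torus_card (hc : ∀ t : F, t ^ 2 + t + c ≠ 0) : Nat.card (torus c) = Fintype.card F + 1 := by
  let e0 : torus c ≃ {x : F × F // nrm c x.1 x.2 = 1} :=
    { toFun := fun M => ⟨(M.1.1 0 0, M.1.1 1 0), nrm_of_mem M.2⟩
      invFun := fun x => ⟨mkT c x.1.1 x.1.2 x.2, mkT_mem _ _ _⟩
      left_inv := fun M => by
        apply Subtype.ext; apply Subtype.ext
        ext i j
        fin_cases i <;> fin_cases j <;> simp [mkT, M.2.1, M.2.2]
      right_inv := fun x => rfl }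
  let e : {x : F × F // x ≠ 0} → {x : F × F // nrm c x.1 x.2 = 1} × Fˣ := fun x =>
    have hN : nrm c x.1.1 x.1.2 ≠ 0 := fun h => x.2 (Prod.ext (nrm_eq_zero hc h).1 (nrm_eq_zero hc h).2)
    have hr := (exists_sqrt (nrm c x.1.1 x.1.2)).choose_spec
    have hr0 : (exists_sqrt (nrm c x.1.1 x.1.2)).choose ≠ 0 := fun h => hN (by rw [← hr, h]; ring)
    (⟨((exists_sqrt (nrm c x.1.1 x.1.2)).choose⁻¹ * x.1.1, (exists_sqrt (nrm c x.1.1 x.1.2)).choose⁻¹ * x.1.2), by
      generalize (exists_sqrt (nrm c x.1.1 x.1.2)).choose = r at hr hr0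
      simp only [nrm] at hr ⊢
      field_simp
      linear_combination -hr⟩, Units.mk0 _ hr0)
  have he : Function.Bijective e := by
    constructor
    · intro x y h
      have h1 := congrArg Prod.fst h
      have h2 := congrArg (fun z => (z.2 : F)) h
      simp only [e, Units.val_mk0] at h2
      have h1a := congrArg (fun z => z.val.1) h1
      have h1b := congrArg (fun z => z.val.2) h1
      simp only [e] at h1a h1b
      have hr0 : (exists_sqrt (nrm c x.1.1 x.1.2)).choose ≠ 0 := (e x).2.ne_zero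
      rw [← h2] at h1a h1b
      exact Subtype.ext (Prod.ext (mul_left_cancel₀ (inv_ne_zero hr0) h1a) (mul_left_cancel₀ (inv_ne_zero hr0) h1b))
    · rintro ⟨⟨⟨a, b⟩, hab⟩, l⟩
      have hx : ((l : F) * a, (l : F) * b) ≠ 0 := by
        intro h
        simp [Prod.ext_iff] at h
        simp [nrm, h.1, h.2] at hab
      refine ⟨⟨_, hx⟩, ?_⟩
      have hr : (exists_sqrt (nrm c ((l : F) * a) ((l : F) * b))).choose = (l : F) := by
        apply frobenius_inj F 2
        show _ ^ 2 = (l : F) ^ 2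
        rw [(exists_sqrt (nrm c ((l : F) * a) ((l : F) * b))).choose_spec]
        simp only [nrm] at hab ⊢
        linear_combination (l : F) ^ 2 * hab
      refine Prod.ext (Subtype.ext (Prod.ext ?_ ?_)) (Units.ext hr)
      · show (exists_sqrt _).choose⁻¹ * _ = a
        rw [hr, inv_mul_cancel_left₀ l.ne_zero]
      · show (exists_sqrt _).choose⁻¹ * _ = b
        rw [hr, inv_mul_cancel_left₀ l.ne_zero]
  have h := Nat.card_eq_of_bijective e he
  classical
  rw [Nat.card_prod, Nat.card_units, ← Nat.card_congr e0, Nat.card_eq_fintype_card (α := {x : F × F // x ≠ 0}),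
    Fintype.card_subtype_compl, Fintype.card_prod, Fintype.card_subtype_eq, Nat.card_eq_fintype_card (α := F)] at h
  have hq : 2 ≤ Fintype.card F := Fintype.one_lt_card
  have h2 : (Fintype.card F + 1) * (Fintype.card F - 1) = Fintype.card F * Fintype.card F - 1 := by
    rw [← Nat.sq_sub_sq, one_pow, sq]
  exact Nat.eq_of_mul_eq_mul_right (show 0 < Fintype.card F - 1 by omega) (h.symm.trans h2.symm)

/-- Upper unitriangular matrices. -/
def upper (s : F) : SL2' := ⟨!![1, s; 0, 1], by simp [Matrix.det_fin_two_of]⟩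

theorem upper_mul (s t : F) : upper s * upper t = upper (s + t) := by
  apply Subtype.ext
  show !![1, s; 0, 1] * !![1, t; 0, 1] = !![1, s + t; 0, 1]
  simp [Matrix.mul_fin_two, add_comm]

theorem decomposition (hc : ∀ t : F, t ^ 2 + t + c ≠ 0) (g : SL2') :
    ∃ a ∈ torus c, ∃ s : F, ∃ a' ∈ torus c, g = a * upper s * a' := by
  obtain ⟨G, hG⟩ := g
  set b1 := G 1 1 + G 0 0 with hb1
  set b2 := G 1 0 + b1 with hb2
  set a2 := G 0 1 + c * G 1 0 with ha2
  set a1 := G 0 0 + a2 with ha1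
  have h2 : (2 : F) = 0 := CharTwo.two_eq_zero
  have hdet : nrm c a1 b1 + nrm c a2 b2 = 1 := by
    rw [← hG, Matrix.det_fin_two]
    simp only [nrm, ha1, ha2, hb2, hb1]
    ring_nf
    simp only [h2, show (4 : F) = 0 by linear_combination 2 * h2, show (6 : F) = 0 by linear_combination 3 * h2,
      mul_zero, zero_mul, add_zero, zero_add, sub_eq_add_neg, CharTwo.neg_eq]
  obtain ⟨r, hr⟩ := exists_sqrt (nrm c a1 b1)
  obtain ⟨s, hs⟩ := exists_sqrt (nrm c a2 b2)
  have hrs : r + s = 1 := frobenius_inj F 2 (by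
    show (r + s) ^ 2 = (1 : F) ^ 2
    rw [CharTwo.add_sq, hr, hs, hdet, one_pow])
  have norm1 : ∀ a b t : F, t ^ 2 = nrm c a b → ∃ x ∈ torus c, t * (x : SL2').1 0 0 = a ∧ t * x.1 1 0 = b := by
    intro a b t ht
    by_cases ht0 : t = 0
    · subst ht0
      obtain ⟨rfl, rfl⟩ := nrm_eq_zero hc (by rw [← ht]; ring)
      exact ⟨1, one_mem _, by simp, by simp⟩
    · refine ⟨mkT c (t⁻¹ * a) (t⁻¹ * b) ?_, mkT_mem _ _ _, by simp [mkT, mul_inv_cancel_left₀ ht0], by simp [mkT, mul_inv_cancel_left₀ ht0]⟩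
      simp only [nrm] at ht ⊢
      field_simp
      linear_combination -ht
  obtain ⟨x, hx, hx0, hx1⟩ := norm1 a1 b1 r hr
  obtain ⟨y, hy, hy0, hy1⟩ := norm1 a2 b2 s hs
  -- square roots exist in the torus
  have hsqrt : ∃ T ∈ torus c, T * T = y⁻¹ * x := by
    have hcop : (Nat.card (torus c)).Coprime 2 := by
      rw [torus_card hc]
      obtain ⟨k, -, hk⟩ := FiniteField.card F 2
      rw [hk, Nat.coprime_comm, Nat.Prime.coprime_iff_not_dvd Nat.prime_two,
        ← Nat.dvd_add_iff_right (dvd_pow_self 2 k.ne_zero)]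
      norm_num
    obtain ⟨T, hT⟩ := (powCoprime hcop).surjective ⟨y⁻¹ * x, mul_mem (inv_mem hy) hx⟩
    exact ⟨T, T.2, by rw [← pow_two]; exact congrArg Subtype.val hT⟩
  obtain ⟨T, hT, hTT⟩ := hsqrt
  refine ⟨x * T⁻¹, mul_mem hx (inv_mem hT), s, T, hT, ?_⟩
  have hS : (!![1, 1; 0, 1] : Matrix (Fin 2) (Fin 2) F) * T.1 = (T⁻¹).1 * !![1, 1; 0, 1] := by
    rw [Matrix.SpecialLinearGroup.coe_inv]
    ext i j
    fin_cases i <;> fin_cases j <;>
      simp [Matrix.mul_apply, Fin.sum_univ_two, Matrix.adjugate_fin_two, hT.1, hT.2, CharTwo.neg_eq] <;>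
      first | ring | (ring_nf; simp [h2])
  apply Subtype.ext
  simp only [Matrix.SpecialLinearGroup.coe_mul]
  have hu : (upper s).1 = r • (1 : Matrix (Fin 2) (Fin 2) F) + s • !![1, 1; 0, 1] := by
    ext i j; fin_cases i <;> fin_cases j <;> simp [upper, hrs]
  have hy' : (x * T⁻¹ * T⁻¹ : SL2') = y := by
    rw [mul_assoc, ← mul_inv_rev, hTT, mul_inv_rev, inv_inv, mul_inv_cancel_left]
  rw [hu, mul_add, add_mul, mul_smul_comm, mul_smul_comm, smul_mul_assoc, smul_mul_assoc, mul_one,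
    mul_assoc (x.1 * (T⁻¹).1) !![1, 1; 0, 1] T.1, hS, ← mul_assoc, ← Matrix.SpecialLinearGroup.coe_mul,
    ← Matrix.SpecialLinearGroup.coe_mul, ← Matrix.SpecialLinearGroup.coe_mul, inv_mul_cancel_right, hy']
  ext i j
  fin_cases i <;> fin_cases j <;> simp [Matrix.mul_apply, Fin.sum_univ_two, hx.1, hx.2, hy.1, hy.2]
  · linear_combination -hx0 - hy0 - ha1 - a2 * h2
  · linear_combination -c * hx1 - hy0 - c * hy1 - ha2 - c * hb2 - c * (G 1 0 + b1) * h2
  · linear_combination -hx1 - hy1 - hb2 - b1 * h2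
  · linear_combination -hx0 - hx1 - hy0 - 2 * hy1 - ha1 - hb1 - (G 0 0 + a2 + b2) * h2

theorem center_eq_bot : Subgroup.center SL2' = ⊥ := by
  rw [eq_bot_iff]
  intro A hA
  obtain ⟨r, hr, hrA⟩ := Matrix.SpecialLinearGroup.mem_center_iff.1 hA
  rw [Fintype.card_fin] at hr
  have hr1 : r = 1 := frobenius_inj F 2 (by show r ^ 2 = (1:F) ^ 2; rw [hr, one_pow])
  rw [Subgroup.mem_bot]
  apply Subtype.ext
  rw [← hrA, hr1, map_one]
  rfl


/-- Let F be a finite field with q = 2^t ≥ 4 elements and L = PSL(2,F). Then L has a cyclic subgroup A of order q + 1 and an elementary abelian 2-subgroup B of order q such that L = ABA: every element of L is a product a·b·a' with a, a' ∈ A and b ∈ B. -/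
theorem result {F : Type*} [Field F] [Fintype F]
    (h2 : 2 ∣ Fintype.card F) (h4 : 4 ≤ Fintype.card F) :
    ∃ A B : Subgroup (Matrix.ProjectiveSpecialLinearGroup (Fin 2) F),
      IsCyclic A ∧ Nat.card A = Fintype.card F + 1 ∧ IsMulCommutative B ∧ (∀ b ∈ B, b * b = 1) ∧
        Nat.card B = Fintype.card F ∧
        ∀ g : Matrix.ProjectiveSpecialLinearGroup (Fin 2) F, ∃ a ∈ A, ∃ b ∈ B, ∃ c ∈ A, g = a * b * c := by
  haveI : CharP F 2 := by
    obtain ⟨p, hp⟩ := CharP.exists F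
    obtain ⟨n, hpp, hn⟩ := FiniteField.card F p
    obtain rfl : 2 = p := (Nat.prime_dvd_prime_iff_eq Nat.prime_two hpp).1 (Nat.prime_two.dvd_of_dvd_pow (hn ▸ h2))
    exact hp
  obtain ⟨c, hc⟩ := exists_anisotropic (F := F)
  let π := QuotientGroup.mk' (Subgroup.center (Matrix.SpecialLinearGroup (Fin 2) F))
  have hπ : Function.Injective π := by
    rw [← MonoidHom.ker_eq_bot_iff, QuotientGroup.ker_mk', center_eq_bot]
  let U : Subgroup (Matrix.SpecialLinearGroup (Fin 2) F) :=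
    { carrier := Set.range upper
      one_mem' := ⟨0, Subtype.ext (by simp [upper, Matrix.one_fin_two])⟩
      mul_mem' := by rintro _ _ ⟨s, rfl⟩ ⟨t, rfl⟩; exact ⟨s + t, (upper_mul s t).symm⟩
      inv_mem' := by
        rintro _ ⟨s, rfl⟩
        refine ⟨-s, (inv_eq_of_mul_eq_one_right ?_).symm⟩
        rw [upper_mul, add_neg_cancel]
        exact Subtype.ext (by simp [upper, Matrix.one_fin_two]) }
  refine ⟨(torus c).map π, U.map π, ?_, ?_, ⟨⟨?_⟩⟩, ?_, ?_, ?_⟩
  · haveI := torus_cyclic hc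
    exact isCyclic_of_surjective (π.subgroupMap _) (π.subgroupMap_surjective _)
  · rw [← Nat.card_congr (Subgroup.equivMapOfInjective _ π hπ).toEquiv, torus_card hc]
  · rintro ⟨_, _, ⟨s, rfl⟩, rfl⟩ ⟨_, _, ⟨t, rfl⟩, rfl⟩
    apply Subtype.ext
    show π (upper s) * π (upper t) = π (upper t) * π (upper s)
    rw [← map_mul, ← map_mul, upper_mul, upper_mul, add_comm]
  · rintro _ ⟨_, ⟨s, rfl⟩, rfl⟩
    rw [← map_mul, upper_mul, CharTwo.add_self_eq_zero, show upper (0 : F) = 1 from Subtype.ext (by simp [upper, Matrix.one_fin_two]), map_one]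
  · rw [← Nat.card_congr (Subgroup.equivMapOfInjective _ π hπ).toEquiv, ← Nat.card_eq_fintype_card]
    exact (Nat.card_eq_of_bijective (fun s : F => (⟨upper s, s, rfl⟩ : U))
      ⟨fun s t h => congrFun (congrFun (congrArg (fun M : U => M.1.1) h) 0) 1,
        fun ⟨_, s, hs⟩ => ⟨s, Subtype.ext hs⟩⟩).symm
  · intro g
    obtain ⟨M, rfl⟩ := QuotientGroup.mk_surjective g
    obtain ⟨a, ha, s, a', ha', rfl⟩ := decomposition hc M
    exact ⟨π a, ⟨a, ha, rfl⟩, π (upper s), ⟨_, ⟨s, rfl⟩, rfl⟩, π a', ⟨a', ha', rfl⟩, rfl⟩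

end Cfsg.Agent.S2503
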