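import Cfsg.Statements.S2504
import Mathlib
import Cfsg.Agent.Lib.AbelianPerm.Bound
import Cfsg.Agent.Lib.AbelianPerm.Construct

set_option autoImplicit false
open Cfsg

namespace Cfsg.Agent.S2504

/-- Greatest order of an abelian subgroup of an alternating group. -/
theorem isGreatest_of (n c : ℕ) (h : Lib.AbelianPerm.HasAbelianEven n c)
    (h1 : Lib.AbelianPerm.maxProdNoTwo n ≤ c) (h2 : Lib.AbelianPerm.maxProd (n - 2) ≤ c) :
    IsGreatest {c : ℕ | ∃ A : Subgroup (alternatingGroup (Fin n)), IsMulCommutative A ∧ Nat.card A = c} c := by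
  obtain ⟨A, hA, hle, hc⟩ := h
  refine ⟨⟨A.subgroupOf _, ⟨⟨fun x y => ?_⟩⟩, ?_⟩, ?_⟩
  · have h := congrArg Subtype.val (mul_comm' (⟨x.1.1, x.2⟩ : A) ⟨y.1.1, y.2⟩)
    rw [Subgroup.coe_mul, Subgroup.coe_mul] at h
    apply Subtype.ext
    apply Subtype.ext
    simpa using h
  · rw [Nat.card_congr (Subgroup.subgroupOfEquivOfLe hle).toEquiv, hc]
  · rintro d ⟨B, hB, rfl⟩
    rw [← Subgroup.card_map_of_injective (alternatingGroup (Fin n)).subtype_injective]
    have : IsMulCommutative (B.map (alternatingGroup (Fin n)).subtype) := by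
      refine ⟨⟨?_⟩⟩
      rintro ⟨_, x, hx, rfl⟩ ⟨_, y, hy, rfl⟩
      exact Subtype.ext (congrArg (fun z : B => (z.1.1 : Equiv.Perm (Fin n)))
        (mul_comm' (⟨x, hx⟩ : B) ⟨y, hy⟩))
    refine (Lib.AbelianPerm.card_le_of_even _ (Subgroup.map_subtype_le _)).trans ?_
    rw [Nat.card_fin]
    exact max_le h1 h2

/-- The largest order of an abelian subgroup of the alternating group of degree n is 3^k when n = 3k, 4·3^(k−1) when n = 3k + 1, and 16·3^(k−2) when n = 3k + 2, for every k ≥ 2 (so for all degrees n ≥ 6). -/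
theorem result (k : ℕ) (hk : 2 ≤ k) :
    IsGreatest {c : ℕ | ∃ A : Subgroup (alternatingGroup (Fin (3 * k))), IsMulCommutative A ∧ Nat.card A = c} (3 ^ k) ∧
    IsGreatest {c : ℕ | ∃ A : Subgroup (alternatingGroup (Fin (3 * k + 1))), IsMulCommutative A ∧ Nat.card A = c}
      (4 * 3 ^ (k - 1)) ∧
    IsGreatest {c : ℕ | ∃ A : Subgroup (alternatingGroup (Fin (3 * k + 2))), IsMulCommutative A ∧ Nat.card A = c}
      (16 * 3 ^ (k - 2)) := by
  obtain ⟨j, rfl⟩ := Nat.exists_eq_add_of_le' hk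
  refine ⟨isGreatest_of _ _ (Lib.AbelianPerm.hasAbelianEven_three_mul _) ?_ ?_,
    isGreatest_of _ _ ?_ ?_ ?_, isGreatest_of _ _ ?_ ?_ ?_⟩
  · exact (Lib.AbelianPerm.maxProdNoTwo_le _).trans (Lib.AbelianPerm.maxProd_three_mul _).le
  · rw [show 3 * (j + 2) - 2 = 3 * (j + 1) + 1 by omega, Lib.AbelianPerm.maxProd_three_mul_add_one,
      pow_add]
    omega
  · rw [show 3 * (j + 2) + 1 = 4 + 3 * (j + 1) by ring, show j + 2 - 1 = j + 1 by omega]
    exact Lib.AbelianPerm.hasAbelianEven_four.add (Lib.AbelianPerm.hasAbelianEven_three_mul _)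
  · exact (Lib.AbelianPerm.maxProdNoTwo_le _).trans (Lib.AbelianPerm.maxProd_three_mul_add_one _).le
  · rw [show 3 * (j + 2) + 1 - 2 = 3 * (j + 1) + 2 by omega,
      Lib.AbelianPerm.maxProd_three_mul_add_two, show j + 2 - 1 = j + 1 by omega]
    omega
  · rw [show 3 * (j + 2) + 2 = 4 + (4 + 3 * j) by ring, show j + 2 - 2 = j by omega,
      show 16 * 3 ^ j = 4 * (4 * 3 ^ j) by ring]
    exact Lib.AbelianPerm.hasAbelianEven_four.add
      (Lib.AbelianPerm.hasAbelianEven_four.add (Lib.AbelianPerm.hasAbelianEven_three_mul _))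
  · rw [Lib.AbelianPerm.maxProdNoTwo_three_mul_add_two, show j + 2 - 2 = j by omega]
  · rw [show 3 * (j + 2) + 2 - 2 = 3 * (j + 2) by omega, Lib.AbelianPerm.maxProd_three_mul,
      show j + 2 - 2 = j by omega, pow_add]
    omega

end Cfsg.Agent.S2504
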