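import Cfsg.Statements.S2505
import Mathlib
import Cfsg.Agent.Lib.AbelianPerm.Bound
import Cfsg.Agent.Lib.AbelianPerm.Construct

set_option autoImplicit false
open Cfsg

namespace Cfsg.Agent.S2505

/-- The largest order of an abelian subgroup of the symmetric group of degree n is 3^k when n = 3k, 4·3^(k−1) when n = 3k + 1, and 2·3^k when n = 3k + 2, for every k ≥ 1. -/
theorem result (k : ℕ) (hk : 1 ≤ k) :
    IsGreatest {c : ℕ | ∃ A : Subgroup (Equiv.Perm (Fin (3 * k))), IsMulCommutative A ∧ Nat.card A = c} (3 ^ k) ∧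
    IsGreatest {c : ℕ | ∃ A : Subgroup (Equiv.Perm (Fin (3 * k + 1))), IsMulCommutative A ∧ Nat.card A = c}
      (4 * 3 ^ (k - 1)) ∧
    IsGreatest {c : ℕ | ∃ A : Subgroup (Equiv.Perm (Fin (3 * k + 2))), IsMulCommutative A ∧ Nat.card A = c}
      (2 * 3 ^ k) := by
  obtain ⟨j, rfl⟩ := Nat.exists_eq_add_of_le' hk
  have key : ∀ n c, Lib.AbelianPerm.HasAbelian n c → Lib.AbelianPerm.maxProd n = c →
      IsGreatest {c : ℕ | ∃ A : Subgroup (Equiv.Perm (Fin n)), IsMulCommutative A ∧ Nat.card A = c} c := by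
    refine fun n c h hn => ⟨h, ?_⟩
    rintro d ⟨A, hA, rfl⟩
    refine (Lib.AbelianPerm.card_le_maxProd A).trans_eq ?_
    rw [Nat.card_fin, hn]
  refine ⟨key _ _ (Lib.AbelianPerm.hasAbelianEven_three_mul _).hasAbelian (Lib.AbelianPerm.maxProd_three_mul _),
    key _ _ ?_ ?_, key _ _ ?_ (Lib.AbelianPerm.maxProd_three_mul_add_two _)⟩
  · rw [show 3 * (j + 1) + 1 = 4 + 3 * j by ring, Nat.add_sub_cancel]
    exact (Lib.AbelianPerm.hasAbelianEven_four.add (Lib.AbelianPerm.hasAbelianEven_three_mul j)).hasAbelian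
  · rw [Lib.AbelianPerm.maxProd_three_mul_add_one, Nat.add_sub_cancel]
  · rw [show 3 * (j + 1) + 2 = 2 + 3 * (j + 1) by ring]
    exact Lib.AbelianPerm.hasAbelian_two.add (Lib.AbelianPerm.hasAbelianEven_three_mul _).hasAbelian

end Cfsg.Agent.S2505
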