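import Cfsg.Statements.S2506
import Cfsg.Agent.Lib.AbelianPerm.Bound
import Cfsg.Agent.Lib.AbelianPerm.Construct

set_option autoImplicit false
open scoped Pointwise
open Cfsg

namespace Cfsg.Agent.S2506

open Equiv MulAction Cfsg.Agent.Lib.AbelianPerm
open scoped Pointwise

set_option linter.unusedSectionVars false

theorem best_base : ∀ n, (h : n ∈ ([3, 4, 6, 7, 8, 9, 10] : List ℕ)) →
    HasAbelianEven n (maxProdNoTwo n) ∧ maxProd (n - 2) < maxProdNoTwo n := by
  intro n h
  fin_cases h
  · exact ⟨hasAbelianEven_three, by decide⟩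
  · exact ⟨hasAbelianEven_four, by decide⟩
  · exact ⟨hasAbelianEven_three.add hasAbelianEven_three, by decide⟩
  · exact ⟨hasAbelianEven_four.add hasAbelianEven_three, by decide⟩
  · exact ⟨hasAbelianEven_four.add hasAbelianEven_four, by decide⟩
  · exact ⟨hasAbelianEven_three.add (hasAbelianEven_three.add hasAbelianEven_three), by decide⟩
  · exact ⟨hasAbelianEven_four.add (hasAbelianEven_three.add hasAbelianEven_three), by decide⟩

theorem best : ∀ n, 3 ≤ n → n ≠ 5 →
    HasAbelianEven n (maxProdNoTwo n) ∧ maxProd (n - 2) < maxProdNoTwo n := by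
  intro n
  induction n using Nat.strong_induction_on with
  | _ n ih =>
    intro h3 h5
    by_cases h : n ≤ 10
    · exact best_base n (by interval_cases n <;> simp_all)
    · obtain ⟨m, rfl⟩ : ∃ m, n = m + 11 := ⟨n - 11, by omega⟩
      obtain ⟨h1, h2⟩ := ih (m + 8) (by omega) (by omega) (by omega)
      have e1 : maxProdNoTwo (m + 11) = 3 * maxProdNoTwo (m + 8) := by
        rw [show m + 11 = (m + 2) + 9 by ring, maxProdNoTwo, show m + 2 + 6 = m + 8 by ring]
      have e2 : maxProd (m + 11 - 2) = 3 * maxProd (m + 8 - 2) := by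
        rw [show m + 11 - 2 = m + 9 by omega, maxProd, show m + 8 - 2 = m + 6 by omega]
      refine ⟨?_, by omega⟩
      rw [e1, show m + 11 = 3 + (m + 8) by ring]
      exact hasAbelianEven_three.add h1

theorem one_strict : ∀ m, 2 ≤ m → maxProdNoTwo m < maxProdNoTwo (1 + m)
  | m + 9, _ => by
    have h := one_strict (m + 6) (by omega)
    rw [show 1 + (m + 9) = (1 + m) + 9 by ring]
    simp only [maxProdNoTwo]
    rw [show 1 + m + 6 = 1 + (m + 6) by ring]
    omega
  | 8, _ => by decide
  | 7, _ => by decide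
  | 6, _ => by decide
  | 5, _ => by decide
  | 4, _ => by decide
  | 3, _ => by decide
  | 2, _ => by decide
  | 1, h => by omega
  | 0, h => by omega

theorem five_strict : ∀ m, 1 ≤ m → 5 * maxProdNoTwo m < maxProdNoTwo (5 + m)
  | m + 9, _ => by
    have h := five_strict (m + 6) (by omega)
    rw [show 5 + (m + 9) = (5 + m) + 9 by ring]
    simp only [maxProdNoTwo]
    rw [show 5 + m + 6 = 5 + (m + 6) by ring]
    omega
  | 8, _ => by decide
  | 7, _ => by decide
  | 6, _ => by decide
  | 5, _ => by decide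
  | 4, _ => by decide
  | 3, _ => by decide
  | 2, _ => by decide
  | 1, _ => by decide
  | 0, h => by omega

theorem maxProdNoTwo_pos : ∀ m, 0 < maxProdNoTwo m
  | m + 9 => by
    have := maxProdNoTwo_pos (m + 6)
    simp only [maxProdNoTwo]
    omega
  | 8 => by decide
  | 7 => by decide
  | 6 => by decide
  | 5 => by decide
  | 4 => by decide
  | 3 => by decide
  | 2 => by decide
  | 1 => by decide
  | 0 => by decide

theorem part_bad {p m : ℕ} (hp1 : 1 ≤ p) (hp2 : p ≠ 2) (hp3 : p ≠ 3) (hp4 : p ≠ 4) (hn : 3 ≤ p + m)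
    (hn5 : p + m ≠ 5) : p * maxProdNoTwo m < maxProdNoTwo (p + m) := by
  rcases (show p = 1 ∨ p = 5 ∨ 6 ≤ p by omega) with rfl | rfl | hp
  · rw [one_mul]; exact one_strict m (by omega)
  · exact five_strict m (by omega)
  · calc p * maxProdNoTwo m < 3 * (p - 3) * maxProdNoTwo m :=
          Nat.mul_lt_mul_of_pos_right (by omega) (maxProdNoTwo_pos m)
      _ ≤ 3 * maxProdNoTwo (p - 3 + m) := by
          rw [mul_assoc]; exact Nat.mul_le_mul_left _ (mul_maxProdNoTwo _ (by omega) m)
      _ ≤ maxProdNoTwo (p - 3 + m + 3) := maxProdNoTwo_add_three _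
      _ = maxProdNoTwo (p + m) := by congr 1; omega

theorem local_unique_fin :
    (∀ g h : Perm (Fin 3), Perm.sign g = 1 → Perm.sign h = 1 → (∀ i, g i ≠ i) → (∀ i, h i ≠ i) →
      ∀ i, g i = h i → g = h) ∧
    (∀ g h : Perm (Fin 4), Perm.sign g = 1 → Perm.sign h = 1 → (∀ i, g i ≠ i) → (∀ i, h i ≠ i) →
      ∀ i, g i = h i → g = h) := by
  constructor <;> decide +kernel

universe u

variable {α : Type u} [Fintype α] [DecidableEq α]

theorem local_unique {g h : Perm α} {S : Set α} (hS : Nat.card S = 3 ∨ Nat.card S = 4)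
    (hg : Perm.sign g = 1) (hh : Perm.sign h = 1) (hgS : ∀ y, g y ≠ y ↔ y ∈ S) (hhS : ∀ y, h y ≠ y ↔ y ∈ S)
    {x : α} (hx : x ∈ S) (e : g x = h x) : g = h := by
  classical
  have hgm : ∀ y, g y ∈ S ↔ y ∈ S := fun y => by
    rw [← hgS, ← hgS]; exact not_congr g.injective.eq_iff
  have hhm : ∀ y, h y ∈ S ↔ y ∈ S := fun y => by
    rw [← hhS, ← hhS]; exact not_congr h.injective.eq_iff
  set g' : Perm S := g.subtypePerm hgm
  set h' : Perm S := h.subtypePerm hhm
  have key : g' = h' := by
    have hfp1 : ∀ i : S, g' i ≠ i := fun i hi => (hgS i.1).2 i.2 (congrArg Subtype.val hi)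
    have hfp2 : ∀ i : S, h' i ≠ i := fun i hi => (hhS i.1).2 i.2 (congrArg Subtype.val hi)
    have hs1 : Perm.sign g' = 1 := by
      rw [Perm.sign_subtypePerm _ _ (fun y hy => (hgS y).1 hy), hg]
    have hs2 : Perm.sign h' = 1 := by
      rw [Perm.sign_subtypePerm _ _ (fun y hy => (hhS y).1 hy), hh]
    have e' : g' ⟨x, hx⟩ = h' ⟨x, hx⟩ := Subtype.ext e
    have tr : ∀ k : ℕ, (∀ a b : Perm (Fin k), Perm.sign a = 1 → Perm.sign b = 1 → (∀ i, a i ≠ i) →
        (∀ i, b i ≠ i) → ∀ i, a i = b i → a = b) → ∀ f : S ≃ Fin k, g' = h' := by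
      intro k hk f
      apply f.permCongr.injective
      refine hk _ _ (by rw [Perm.sign_permCongr, hs1]) (by rw [Perm.sign_permCongr, hs2]) ?_ ?_ (f ⟨x, hx⟩) ?_
      · intro i hi
        rw [Equiv.permCongr_apply] at hi
        exact hfp1 (f.symm i) (by
          apply f.injective
          rw [hi, Equiv.apply_symm_apply])
      · intro i hi
        rw [Equiv.permCongr_apply] at hi
        exact hfp2 (f.symm i) (by
          apply f.injective
          rw [hi, Equiv.apply_symm_apply])
      · rw [Equiv.permCongr_apply, Equiv.permCongr_apply, Equiv.symm_apply_apply, e']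
    rcases hS with hS | hS
    · exact tr 3 local_unique_fin.1 (Finite.equivFinOfCardEq hS)
    · exact tr 4 local_unique_fin.2 (Finite.equivFinOfCardEq hS)
  ext y
  by_cases hy : y ∈ S
  · exact congrArg Subtype.val (Equiv.congr_fun key ⟨y, hy⟩)
  · rw [not_not.1 (mt (hgS y).1 hy), not_not.1 (mt (hhS y).1 hy)]

/-- An abelian group of even permutations that is the full product of its restrictions to orbits of
lengths three and four. -/
structure Good (A : Subgroup (Perm α)) : Prop where
  comm : IsMulCommutative A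
  even : A ≤ alternatingGroup α
  size : ∀ x : α, Nat.card (orbit A x) = 3 ∨ Nat.card (orbit A x) = 4
  single : ∀ a : A, ∀ x : α, ∃ c : A, ∀ y, (y ∈ orbit A x → (c : Perm α) y = (a : Perm α) y) ∧
    (y ∉ orbit A x → (c : Perm α) y = y)

theorem moved_iff {A : Subgroup (Perm α)} (hA : IsMulCommutative A) {c : A} {x : α} (hx : (c : Perm α) x ≠ x)
    (hc : ∀ y, y ∉ orbit A x → (c : Perm α) y = y) (y : α) : (c : Perm α) y ≠ y ↔ y ∈ orbit A x := by
  refine ⟨fun h => by_contra fun h' => h (hc y h'), fun hy h => hx ?_⟩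
  haveI := hA
  have := eq_on_orbit A c 1 y x (by simpa using h) (mem_orbit_symm.1 hy)
  simpa using this

theorem le_of_good {A B : Subgroup (Perm α)} (hA : Good A) (hB : Good B)
    (horb : ∀ x : α, orbit A x = orbit B x) : A ≤ B := by
  classical
  haveI := hA.comm
  suffices h : ∀ k, ∀ a : A, (a : Perm α).support.card = k → (a : Perm α) ∈ B from
    fun a ha => h _ ⟨a, ha⟩ rfl
  intro k
  induction k using Nat.strong_induction_on with
  | _ k ih =>
    intro a hk
    by_cases h1 : (a : Perm α) = 1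
    · rw [h1]; exact one_mem B
    obtain ⟨x, hx⟩ : ∃ x, (a : Perm α) x ≠ x := by
      by_contra h
      push Not at h
      exact h1 (Equiv.ext h)
    obtain ⟨c, hc⟩ := hA.single a x
    have hcx : (c : Perm α) x ≠ x := by rw [(hc x).1 (mem_orbit_self x)]; exact hx
    -- the matching element of `B`
    have hmem : (a : Perm α) x ∈ orbit B x := horb x ▸ mem_orbit x a
    obtain ⟨b₀, hb₀⟩ := hmem
    change (b₀ : Perm α) x = (a : Perm α) x at hb₀
    obtain ⟨d, hd⟩ := hB.single b₀ x
    have hdx : (d : Perm α) x ≠ x := by rw [(hd x).1 (mem_orbit_self x), hb₀]; exact hx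
    have hcB : (c : Perm α) ∈ B := by
      have e : (c : Perm α) = d := local_unique (S := orbit A x) (hA.size x)
        (Perm.mem_alternatingGroup.1 (hA.even c.2)) (Perm.mem_alternatingGroup.1 (hB.even d.2))
        (moved_iff hA.comm hcx fun y => (hc y).2)
        (by rw [horb x]; exact moved_iff hB.comm hdx fun y => (hd y).2) (mem_orbit_self x)
        (by rw [(hc x).1 (mem_orbit_self x), (hd x).1 (mem_orbit_self x), hb₀])
      rw [e]; exact d.2
    set a' : A := c⁻¹ * a with ha'
    have hval : ∀ y, (a' : Perm α) y = if y ∈ orbit A x then y else (a : Perm α) y := fun y => by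
      rw [ha', Subgroup.coe_mul, Subgroup.coe_inv, Perm.mul_apply]
      split_ifs with hy
      · rw [← (hc y).1 hy, Perm.coe_inv, Equiv.symm_apply_apply]
      · have hay : (a : Perm α) y ∉ orbit A x := fun h => hy (by
          obtain ⟨e, he⟩ := h
          exact ⟨a⁻¹ * e, by
            change ((a⁻¹ * e : A) : Perm α) x = y
            change (e : Perm α) x = (a : Perm α) y at he
            rw [Subgroup.coe_mul, Subgroup.coe_inv, Perm.mul_apply, he, Perm.coe_inv, Equiv.symm_apply_apply]⟩)
        rw [Perm.coe_inv, Equiv.symm_apply_eq, (hc _).2 hay]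
    have hlt : (a' : Perm α).support.card < k := by
      rw [← hk]
      refine Finset.card_lt_card ⟨fun y hy => ?_, fun h => ?_⟩
      · rw [Perm.mem_support, hval] at hy
        rw [Perm.mem_support]
        split_ifs at hy with hy'
        · exact absurd rfl hy
        · exact hy
      · have := h (Perm.mem_support.2 hx)
        rw [Perm.mem_support, hval, if_pos (mem_orbit_self x)] at this
        exact this rfl
    have ha'B := ih _ hlt a' rfl
    have e : (a : Perm α) = c * a' := by rw [ha', Subgroup.coe_mul, Subgroup.coe_inv, mul_inv_cancel_left]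
    rw [e]
    exact mul_mem hcB ha'B

/-- The structure of an abelian group of even permutations of largest order. -/
theorem good_of_max {A : Subgroup (Perm α)} [hA : IsMulCommutative A] (hle : A ≤ alternatingGroup α)
    (hn : 3 ≤ Nat.card α) (hn5 : Nat.card α ≠ 5) (hcard : maxProdNoTwo (Nat.card α) ≤ Nat.card A) :
    Good A ∧ ∃ (Ω : Type u) (_ : Fintype Ω) (π : α → Ω), Function.Surjective π ∧
      (∀ x y, π x = π y ↔ x ∈ orbit A y) ∧
      (∏ ω, Nat.card {x // π x = ω}) = maxProdNoTwo (Nat.card α) ∧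
      (∀ ω, Nat.card {x // π x = ω} = 3 ∨ Nat.card {x // π x = ω} = 4) := by
  classical
  haveI := Fintype.ofFinite (MulAction.orbitRel.Quotient A α)
  have hbest := (best _ hn hn5).2
  have hmem : ∀ (y : α) (ω : MulAction.orbitRel.Quotient A α), y ∈ ω.orbit ↔ Quotient.mk'' y = ω :=
    fun y ω => MulAction.orbitRel.Quotient.mem_orbit
  -- no orbit of length two
  have h2 : ∀ ω : MulAction.orbitRel.Quotient A α, Nat.card ω.orbit ≠ 2 := by
    intro ω₀ h₀
    have hinj : Nat.card A ≤ ∏ ω ∈ Finset.univ.erase ω₀, Nat.card (MulAction.orbitRel.Quotient.orbit ω) := by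
      rw [← Finset.prod_coe_sort, ← Nat.card_pi]
      refine Nat.card_le_card_of_injective
        (fun a ω => (⟨(a : Perm α) ω.1.out, by
          rw [MulAction.orbitRel.Quotient.orbit_eq_orbit_out _ Quotient.out_eq']
          exact MulAction.mem_orbit _ a⟩ : ω.1.orbit)) fun a b hab => ?_
      have hout : ∀ y, (Quotient.mk'' y : MulAction.orbitRel.Quotient A α) ≠ ω₀ →
          (a : Perm α) y = (b : Perm α) y := by
        intro y hy
        let ω : MulAction.orbitRel.Quotient A α := Quotient.mk'' y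
        have h := congrArg Subtype.val
          (congrFun hab ⟨ω, Finset.mem_erase.2 ⟨hy, Finset.mem_univ _⟩⟩)
        refine eq_on_orbit A a b ω.out y h ?_
        have : y ∈ ω.orbit := (hmem y ω).2 rfl
        rwa [MulAction.orbitRel.Quotient.orbit_eq_orbit_out _ Quotient.out_eq'] at this
      set d : Perm α := (a⁻¹ * b : A).1 with hd
      have hsupp : (d.support : Set α) ⊆ ω₀.orbit := by
        intro y hy
        rw [Finset.mem_coe, Perm.mem_support] at hy
        by_contra hne
        apply hy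
        have h := hout y fun h => hne ((hmem y ω₀).2 h)
        rw [hd, Subgroup.coe_mul, Subgroup.coe_inv, Perm.mul_apply, ← h, Perm.coe_inv, Equiv.symm_apply_apply]
      by_contra hne
      have hd1 : d ≠ 1 := fun h => hne (inv_mul_eq_one.1 (Subtype.ext h))
      have hle' : d.support.card ≤ 2 := by
        have := Set.ncard_le_ncard hsupp
        rw [Set.ncard_coe_finset, ← Nat.card_coe_set_eq, h₀] at this
        exact this
      have hs := Perm.card_support_eq_two.1 (le_antisymm hle' (Perm.two_le_card_support_of_ne_one hd1))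
      have he := Perm.mem_alternatingGroup.1 (hle (a⁻¹ * b : A).2)
      rw [← hd, hs.sign_eq] at he
      exact absurd he (by decide)
    have hs := sum_card_orbit A (α := α)
    rw [← Finset.add_sum_erase _ _ (Finset.mem_univ ω₀), h₀] at hs
    have h := hinj.trans (prod_le_maxProd _ _)
    rw [show ∑ ω ∈ Finset.univ.erase ω₀, Nat.card (MulAction.orbitRel.Quotient.orbit ω) = Nat.card α - 2 by omega] at h
    omega
  set f : MulAction.orbitRel.Quotient A α → ℕ := fun ω => Nat.card ω.orbit with hf
  have hprod : ∏ ω, f ω ≤ maxProdNoTwo (Nat.card α) := by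
    have := prod_le_maxProdNoTwo Finset.univ f (fun ω _ => h2 ω)
    rwa [hf, sum_card_orbit] at this
  have hA_eq : Nat.card A = ∏ ω, f ω := le_antisymm (card_le_prod_orbit A) (hprod.trans hcard)
  have hP : ∏ ω, f ω = maxProdNoTwo (Nat.card α) := le_antisymm hprod (hA_eq ▸ hcard)
  -- the orbit lengths
  have h34 : ∀ ω, f ω = 3 ∨ f ω = 4 := by
    intro ω
    by_contra hcon
    rw [not_or] at hcon
    have hs : ∑ ω', f ω' = Nat.card α := sum_card_orbit A
    have hb := prod_le_maxProdNoTwo (Finset.univ.erase ω) f (fun ω' _ => h2 ω')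
    rw [← Finset.add_sum_erase _ _ (Finset.mem_univ ω)] at hs
    rw [← Finset.mul_prod_erase _ _ (Finset.mem_univ ω)] at hP
    have hne : Nonempty ω.orbit := ⟨⟨ω.out, (hmem _ ω).2 ω.out_eq'⟩⟩
    have hpos : 1 ≤ f ω := Nat.card_pos
    have hlt := part_bad (m := ∑ ω' ∈ Finset.univ.erase ω, f ω') hpos (h2 ω) hcon.1 hcon.2
      (by omega) (by omega)
    rw [hs] at hlt
    have := Nat.mul_le_mul_left (f ω) hb
    omega
  -- the coordinates are independent
  have hbij : Function.Bijective (fun (a : A) (ω : MulAction.orbitRel.Quotient A α) =>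
      (⟨(a : Perm α) ω.out, by
        rw [MulAction.orbitRel.Quotient.orbit_eq_orbit_out _ Quotient.out_eq']
        exact MulAction.mem_orbit _ a⟩ : ω.orbit)) := by
    haveI : ∀ ω : MulAction.orbitRel.Quotient A α, Fintype ω.orbit := fun ω => Fintype.ofFinite _
    refine (Nat.bijective_iff_injective_and_card _).2 ⟨fun a b hab => ?_, by rw [Nat.card_pi, hA_eq]⟩
    apply Subtype.ext
    ext y
    let ω : MulAction.orbitRel.Quotient A α := Quotient.mk'' y
    have h := congrArg Subtype.val (congrFun hab ω)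
    refine eq_on_orbit A a b ω.out y h ?_
    have : y ∈ ω.orbit := (hmem y ω).2 rfl
    rwa [MulAction.orbitRel.Quotient.orbit_eq_orbit_out _ Quotient.out_eq'] at this
  have hfib : ∀ ω : MulAction.orbitRel.Quotient A α, Nat.card {x // Quotient.mk'' x = ω} = f ω := fun ω =>
    Nat.card_congr (Equiv.subtypeEquivRight fun x => (hmem x ω).symm)
  have horb : ∀ x, orbit A x = MulAction.orbitRel.Quotient.orbit (Quotient.mk'' x : MulAction.orbitRel.Quotient A α) := fun x =>
    (MulAction.orbitRel.Quotient.orbit_mk x).symm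
  refine ⟨⟨hA, hle, fun x => by rw [horb]; exact h34 _, fun a x => ?_⟩,
    MulAction.orbitRel.Quotient A α, inferInstance, Quotient.mk'', Quotient.mk''_surjective,
    fun x y => Quotient.eq''.trans orbitRel_apply, by simp only [hfib]; exact hP, fun ω => by rw [hfib]; exact h34 ω⟩
  let ω₀ : MulAction.orbitRel.Quotient A α := Quotient.mk'' x
  obtain ⟨c, hc⟩ := hbij.2 (fun ω => if h : ω = ω₀ then
      ⟨(a : Perm α) ω.out, by
        rw [MulAction.orbitRel.Quotient.orbit_eq_orbit_out _ Quotient.out_eq']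
        exact MulAction.mem_orbit _ a⟩
    else ⟨ω.out, (hmem _ ω).2 ω.out_eq'⟩)
  refine ⟨c, fun y => ?_⟩
  have hy := congrArg Subtype.val (congrFun hc (Quotient.mk'' y))
  simp only at hy
  have horby : y ∈ orbit A (Quotient.mk'' y : MulAction.orbitRel.Quotient A α).out := by
    rw [← MulAction.orbitRel.Quotient.orbit_eq_orbit_out _ Quotient.out_eq']
    exact (hmem _ _).2 rfl
  constructor
  · intro hyx
    rw [dif_pos (show (Quotient.mk'' y : MulAction.orbitRel.Quotient A α) = ω₀ from
      Quotient.eq''.2 (orbitRel_apply.2 hyx))] at hy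
    exact eq_on_orbit A c a _ y hy horby
  · intro hyx
    rw [dif_neg (fun h => hyx (orbitRel_apply.1 (Quotient.eq''.1 h)))] at hy
    have := eq_on_orbit A c 1 _ y (by simpa using hy) horby
    simpa using this

theorem count_four {Ω : Type*} [Fintype Ω] (f : Ω → ℕ) (h : ∀ ω, f ω = 3 ∨ f ω = 4) :
    (∏ ω, f ω) = 2 ^ (2 * Nat.card {ω // f ω = 4}) * 3 ^ Nat.card {ω // f ω = 3} ∧
      ∑ ω, f ω = 4 * Nat.card {ω // f ω = 4} + 3 * Nat.card {ω // f ω = 3} := by
  classical
  have e3 : Finset.univ.filter (fun ω => ¬ f ω = 4) = Finset.univ.filter (fun ω => f ω = 3) :=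
    Finset.filter_congr fun ω _ => ⟨fun h' => (h ω).resolve_right h', fun h' => by omega⟩
  rw [← Finset.prod_filter_mul_prod_filter_not Finset.univ (fun ω => f ω = 4),
    ← Finset.sum_filter_add_sum_filter_not Finset.univ (fun ω => f ω = 4), e3,
    Finset.prod_congr rfl (fun ω hω => (Finset.mem_filter.1 hω).2),
    Finset.prod_congr rfl (fun ω (hω : ω ∈ Finset.univ.filter (fun ω => f ω = 3)) => (Finset.mem_filter.1 hω).2),
    Finset.sum_congr rfl (fun ω hω => (Finset.mem_filter.1 hω).2),
    Finset.sum_congr rfl (fun ω (hω : ω ∈ Finset.univ.filter (fun ω => f ω = 3)) => (Finset.mem_filter.1 hω).2),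
    Nat.card_eq_fintype_card, Nat.card_eq_fintype_card, Fintype.card_subtype, Fintype.card_subtype]
  simp only [Finset.prod_const, Finset.sum_const, smul_eq_mul, pow_mul]
  exact ⟨by norm_num, by ring⟩

/-- Two groups of largest order are conjugate in the symmetric group by a permutation of either parity. -/
theorem exists_conj {A B : Subgroup (Perm α)} [IsMulCommutative A] [IsMulCommutative B]
    (hAle : A ≤ alternatingGroup α) (hBle : B ≤ alternatingGroup α)
    (hn : 3 ≤ Nat.card α) (hn5 : Nat.card α ≠ 5) (hA : maxProdNoTwo (Nat.card α) ≤ Nat.card A)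
    (hB : maxProdNoTwo (Nat.card α) ≤ Nat.card B) :
    ∃ σ : Perm α, σ ∈ alternatingGroup α ∧ B = MulAut.conj σ • A := by
  classical
  obtain ⟨gA, ΩA, iA, πA, hsA, horbA, hpA, h34A⟩ := good_of_max hAle hn hn5 hA
  obtain ⟨gB, ΩB, iB, πB, hsB, horbB, hpB, h34B⟩ := good_of_max hBle hn hn5 hB
  set fA : ΩA → ℕ := fun ω => Nat.card {x // πA x = ω}
  set fB : ΩB → ℕ := fun ω => Nat.card {x // πB x = ω}
  obtain ⟨hA1, hA2⟩ := count_four fA h34A
  obtain ⟨hB1, hB2⟩ := count_four fB h34B
  have hsum : ∑ ω, fA ω = ∑ ω, fB ω := by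
    rw [← Nat.card_sigma, ← Nat.card_sigma, Nat.card_congr (Equiv.sigmaFiberEquiv πA),
      Nat.card_congr (Equiv.sigmaFiberEquiv πB)]
  have h4 : Nat.card {ω // fA ω = 4} = Nat.card {ω // fB ω = 4} := by
    have e := congrArg (fun k : ℕ => k.factorization 2) (hA1.symm.trans (hpA.trans (hpB.symm.trans hB1)))
    simp only [Nat.factorization_mul (pow_ne_zero _ two_ne_zero) (pow_ne_zero _ three_ne_zero),
      Finsupp.add_apply, Nat.Prime.factorization_pow Nat.prime_two,
      Nat.Prime.factorization_pow Nat.prime_three] at e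
    simpa using e
  have h3 : Nat.card {ω // fA ω = 3} = Nat.card {ω // fB ω = 3} := by omega
  have hfib : ∀ k, Nonempty ({ω // fA ω = k} ≃ {ω // fB ω = k}) := fun k => by
    by_cases k3 : k = 3
    · subst k3; exact ⟨Classical.choice (Finite.card_eq.1 h3)⟩
    by_cases k4 : k = 4
    · subst k4; exact ⟨Classical.choice (Finite.card_eq.1 h4)⟩
    haveI : IsEmpty {ω // fA ω = k} := ⟨fun ω => by rcases h34A ω.1 with h | h <;> [exact k3 (ω.2.symm.trans h); exact k4 (ω.2.symm.trans h)]⟩
    haveI : IsEmpty {ω // fB ω = k} := ⟨fun ω => by rcases h34B ω.1 with h | h <;> [exact k3 (ω.2.symm.trans h); exact k4 (ω.2.symm.trans h)]⟩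
    exact ⟨Equiv.equivOfIsEmpty _ _⟩
  let e : ΩA ≃ ΩB := Equiv.ofFiberEquiv (f := fA) (g := fB) fun k => (hfib k).some
  have he : ∀ ω, fB (e ω) = fA ω := fun ω => Equiv.ofFiberEquiv_map _ ω
  have hfib2 : ∀ ω, Nonempty ({x // (e ∘ πA) x = ω} ≃ {x // πB x = ω}) := fun ω => by
    apply Finite.card_eq.1
    have h := he (e.symm ω)
    rw [Equiv.apply_symm_apply] at h
    show _ = fB ω
    rw [h]
    exact Nat.card_congr (Equiv.subtypeEquivRight fun x => by rw [Function.comp, Equiv.eq_symm_apply])
  let σ : Perm α := Equiv.ofFiberEquiv (f := e ∘ πA) (g := πB) fun ω => (hfib2 ω).some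
  have hσ : ∀ x, πB (σ x) = e (πA x) := fun x => Equiv.ofFiberEquiv_map _ x
  -- any such permutation conjugates `A` to `B`
  have main : ∀ τ : Perm α, (∀ x, πB (τ x) = e (πA x)) → B = MulAut.conj τ • A := by
    intro τ hτ
    set A' := MulAut.conj τ • A with hA'
    haveI : IsMulCommutative A' := by
      refine ⟨⟨?_⟩⟩
      rintro ⟨_, a, ha, rfl⟩ ⟨_, b, hb, rfl⟩
      apply Subtype.ext
      show MulAut.conj τ a * MulAut.conj τ b = MulAut.conj τ b * MulAut.conj τ a
      rw [← map_mul, ← map_mul]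
      exact congrArg _ (congrArg Subtype.val (mul_comm' (⟨a, ha⟩ : A) ⟨b, hb⟩))
    have hA'le : A' ≤ alternatingGroup α := by
      rintro _ ⟨a, ha, rfl⟩
      exact (inferInstance : (alternatingGroup α).Normal).conj_mem a (hAle ha) τ
    have hA'card : maxProdNoTwo (Nat.card α) ≤ Nat.card A' := by
      rw [hA', ← Nat.card_congr (Subgroup.equivSMul (MulAut.conj τ) A).toEquiv]
      exact hA
    obtain ⟨gA', -⟩ := good_of_max hA'le hn hn5 hA'card
    have key : ∀ x y, y ∈ orbit A' x ↔ τ.symm y ∈ orbit A (τ.symm x) := by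
      intro x y
      constructor
      · rintro ⟨⟨_, a, ha, rfl⟩, rfl⟩
        refine ⟨⟨a, ha⟩, ?_⟩
        show a (τ.symm x) = τ.symm ((τ * a * τ⁻¹) x)
        simp [Perm.mul_apply]
      · rintro ⟨⟨a, ha⟩, h⟩
        refine ⟨⟨_, a, ha, rfl⟩, ?_⟩
        change a (τ.symm x) = τ.symm y at h
        show (τ * a * τ⁻¹) x = y
        simp [Perm.mul_apply, h]
    have horb : ∀ x, orbit A' x = orbit B x := fun x => by
      ext y
      rw [key, ← horbA, ← horbB, ← e.injective.eq_iff, ← hτ, ← hτ, Equiv.apply_symm_apply, Equiv.apply_symm_apply]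
    exact le_antisymm (le_of_good gB gA' fun x => (horb x).symm) (le_of_good gA' gB horb)
  by_cases hs : Perm.sign σ = 1
  · exact ⟨σ, Perm.mem_alternatingGroup.2 hs, main σ hσ⟩
  obtain ⟨x⟩ : Nonempty α := (Nat.card_pos_iff.1 (show 0 < Nat.card α by omega)).1
  obtain ⟨y, hy, hyx⟩ : ∃ y, y ∈ orbit A x ∧ y ≠ x := by
    by_contra h
    push Not at h
    haveI : Subsingleton (orbit A x) := ⟨fun u v => Subtype.ext ((h u.1 u.2).trans (h v.1 v.2).symm)⟩
    have := Finite.card_le_one_iff_subsingleton.2 (inferInstance : Subsingleton (orbit A x))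
    rcases gA.size x with h' | h' <;> omega
  refine ⟨σ * Equiv.swap y x, Perm.mem_alternatingGroup.2 ?_, main _ fun z => ?_⟩
  · rw [map_mul, Perm.sign_swap hyx, (Int.units_eq_one_or (Perm.sign σ)).resolve_left hs]
    rfl
  · rw [Perm.mul_apply, hσ]
    congr 1
    have hπ : πA y = πA x := (horbA y x).2 hy
    rcases eq_or_ne z y with rfl | hzy
    · rw [Equiv.swap_apply_left, hπ]
    rcases eq_or_ne z x with rfl | hzx
    · rw [Equiv.swap_apply_right, hπ]
    rw [Equiv.swap_apply_of_ne_of_ne hzy hzx]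

theorem isMulCommutative_map_subtype {n : ℕ} (A : Subgroup (alternatingGroup (Fin n))) (hA : IsMulCommutative A) :
    IsMulCommutative (A.map (alternatingGroup (Fin n)).subtype) := by
  refine ⟨⟨?_⟩⟩
  rintro ⟨_, x, hx, rfl⟩ ⟨_, y, hy, rfl⟩
  exact Subtype.ext (congrArg (fun z : A => (z.1.1 : Perm (Fin n))) (mul_comm' (⟨x, hx⟩ : A) ⟨y, hy⟩))


/-- In the alternating group of any degree, any two abelian subgroups of the largest possible order (among abelian subgroups) are conjugate. -/
theorem result (n : ℕ)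
    (A B : Subgroup (alternatingGroup (Fin n))) (hA : IsMulCommutative A) (hB : IsMulCommutative B)
    (hAmax : ∀ C : Subgroup (alternatingGroup (Fin n)), IsMulCommutative C → Nat.card C ≤ Nat.card A)
    (hBmax : ∀ C : Subgroup (alternatingGroup (Fin n)), IsMulCommutative C → Nat.card C ≤ Nat.card B) :
    ∃ g : alternatingGroup (Fin n), B = MulAut.conj g • A := by
  classical
  rcases (show n ≤ 2 ∨ n = 5 ∨ (3 ≤ n ∧ n ≠ 5) by omega) with h | rfl | ⟨h3, h5⟩
  · haveI : Subsingleton (alternatingGroup (Fin n)) := ⟨by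
      interval_cases n <;> decide +kernel⟩
    exact ⟨1, Subsingleton.elim _ _⟩
  · haveI : Fact (Nat.Prime 5) := ⟨Nat.prime_five⟩
    have hc : Nat.card (alternatingGroup (Fin 5)) = 5 ^ 1 * 12 := by
      rw [nat_card_alternatingGroup]; simp [Nat.factorial]
    have hmem : finRotate 5 ∈ alternatingGroup (Fin 5) := Perm.mem_alternatingGroup.2 (by decide +kernel)
    set z : alternatingGroup (Fin 5) := ⟨finRotate 5, hmem⟩
    have hz : orderOf z = 5 := orderOf_eq_prime (Subtype.ext (show finRotate 5 ^ 5 = 1 by decide +kernel))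
      (fun h => absurd (show finRotate 5 = 1 from congrArg Subtype.val h) (by decide +kernel))
    have key : ∀ C : Subgroup (alternatingGroup (Fin 5)), IsMulCommutative C →
        (∀ D : Subgroup (alternatingGroup (Fin 5)), IsMulCommutative D → Nat.card D ≤ Nat.card C) →
        Nat.card C = 5 := by
      intro C hC hmax
      refine le_antisymm ?_ ?_
      · haveI := isMulCommutative_map_subtype C hC
        have := Lib.AbelianPerm.card_le_of_even (C.map (alternatingGroup (Fin 5)).subtype) (Subgroup.map_subtype_le _)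
        rw [Subgroup.card_map_of_injective (alternatingGroup (Fin 5)).subtype_injective, Nat.card_fin] at this
        exact this.trans (by decide)
      · have := hmax (Subgroup.zpowers z) inferInstance
        rwa [Nat.card_zpowers, hz] at this
    have hsyl : ∀ C : Subgroup (alternatingGroup (Fin 5)), Nat.card C = 5 → ∃ P : Sylow 5 (alternatingGroup (Fin 5)),
        (P : Subgroup (alternatingGroup (Fin 5))) = C := by
      intro C hC
      obtain ⟨P, hP⟩ := (IsPGroup.of_card (p := 5) (n := 1) (G := C) (by rw [hC, pow_one])).exists_le_sylow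
      refine ⟨P, (Subgroup.eq_of_le_of_card_ge hP ?_).symm⟩
      have hd : Nat.card (P : Subgroup (alternatingGroup (Fin 5))) ∣ 5 ^ 1 * 12 :=
        hc ▸ Subgroup.card_subgroup_dvd_card _
      obtain ⟨k, hk⟩ := IsPGroup.iff_card.1 P.isPGroup'
      rw [hC, hk]
      by_contra hlt
      have h2 : 2 ≤ k := by
        by_contra h'
        interval_cases k <;> simp at hlt
      have h25 := (pow_dvd_pow 5 h2).trans (hk ▸ hd)
      norm_num at h25
    obtain ⟨P, rfl⟩ := hsyl A (key A hA hAmax)
    obtain ⟨Q, rfl⟩ := hsyl B (key B hB hBmax)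
    obtain ⟨g, hg⟩ := MulAction.exists_smul_eq (alternatingGroup (Fin 5)) P Q
    exact ⟨g, by rw [← hg, Sylow.coe_subgroup_smul]⟩
  · obtain ⟨⟨C, hC, hCle, hCc⟩, -⟩ := best n h3 h5
    haveI := isMulCommutative_map_subtype A hA
    haveI := isMulCommutative_map_subtype B hB
    have hC' : IsMulCommutative (C.subgroupOf (alternatingGroup (Fin n))) := ⟨⟨fun x y =>
      Subtype.ext (Subtype.ext (congrArg (fun w : C => (w : Perm (Fin n))) (mul_comm' (⟨x.1.1, x.2⟩ : C) ⟨y.1.1, y.2⟩)))⟩⟩
    have hge : ∀ D : Subgroup (alternatingGroup (Fin n)),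
        (∀ E : Subgroup (alternatingGroup (Fin n)), IsMulCommutative E → Nat.card E ≤ Nat.card D) →
        Lib.AbelianPerm.maxProdNoTwo (Nat.card (Fin n)) ≤ Nat.card (D.map (alternatingGroup (Fin n)).subtype) := by
      intro D hD
      rw [Subgroup.card_map_of_injective (alternatingGroup (Fin n)).subtype_injective, Nat.card_fin]
      have := hD _ hC'
      rwa [Nat.card_congr (Subgroup.subgroupOfEquivOfLe hCle).toEquiv, hCc] at this
    obtain ⟨σ, hσ, he⟩ := exists_conj (α := Fin n) (A := A.map (alternatingGroup (Fin n)).subtype)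
      (B := B.map (alternatingGroup (Fin n)).subtype) (Subgroup.map_subtype_le _) (Subgroup.map_subtype_le _)
      (by rw [Nat.card_fin]; exact h3) (by rw [Nat.card_fin]; exact h5) (hge A hAmax) (hge B hBmax)
    refine ⟨⟨σ, hσ⟩, Subgroup.map_injective (alternatingGroup (Fin n)).subtype_injective ?_⟩
    rw [he]
    ext y
    constructor
    · rintro ⟨_, ⟨a, ha, rfl⟩, rfl⟩
      exact ⟨_, ⟨a, ha, rfl⟩, rfl⟩
    · rintro ⟨_, ⟨a, ha, rfl⟩, rfl⟩
      exact ⟨_, ⟨a, ha, rfl⟩, rfl⟩

end Cfsg.Agent.S2506
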