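import Cfsg.Statements.S2509
import Cfsg.Agent.Lib.SL2.Dickson
import Cfsg.Agent.Lib.UFourTwo.Transport
import Cfsg.Agent.Lib.PronormalSp1.Factor
import Cfsg.Agent.Lib.PronormalSp1.Product

open Cfsg.Agent.Lib Cfsg.Agent.Lib.SL2 Cfsg.Agent.Lib.PronormalSp1 Cfsg.Agent.Lib.PronormalOddIndex

set_option autoImplicit false
open Cfsg

namespace Cfsg.Agent.S2509

/-- Let G be a finite direct product of groups PSp_{2m_i}(F_i) (the symplectic group on a 2m_i-dimensional space modulo its centre), where each m_i is a power of 2 (m_i = 1, giving PSL₂, is allowed), each F_i is a finite field of odd order, and each factor PSp_{2m_i}(F_i) is a simple group. Then every subgroup H of G of odd index is pronormal in G: for every g ∈ G the subgroups H and gHg⁻¹ are conjugate by an element of the subgroup they generate. -/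
theorem result {t : ℕ}
    (m : Fin t → ℕ) (F : Fin t → Type*) [∀ i, Field (F i)] [∀ i, Fintype (F i)]
    (hm : ∀ i, ∃ k : ℕ, m i = 2 ^ k) (hodd : ∀ i, Odd (Fintype.card (F i)))
    (hs : ∀ i, IsSimpleGroup (Cfsg.PSp (m i) (F i)))
    (H : Subgroup (Π i, Cfsg.PSp (m i) (F i))) (hH : Odd H.index) : Cfsg.IsPronormal H := by
  classical
  haveI : Fact (Nat.Prime 2) := ⟨Nat.prime_two⟩
  choose L iL iLF hcard φ using fun i => exists_field_type_zero (F i)
  letI := iL
  letI := iLF
  have hoddL : ∀ i, Odd (Fintype.card (L i)) := fun i => by rw [hcard i]; exact hodd i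
  let X : Fin t → Type := fun i => SpQ (L i) (Fin (m i))
  let f : (∀ i, X i) →* (Π i, Cfsg.PSp (m i) (F i)) :=
    Pi.monoidHom fun i =>
      (((QuotientGroup.mk' (Subgroup.center (Matrix.symplecticGroup (Fin (m i)) (F i)))).comp
        (UFourTwo.spMap (Classical.choice (φ i)).symm).toMonoidHom).comp
        (spEquiv (F := L i) (m i)).symm.toMonoidHom).comp (Pi.evalMonoidHom X i)
  have hf : Function.Surjective f := by
    intro y
    choose x hx using fun i => (QuotientGroup.mk'_surjective _) (y i)
    refine ⟨fun i => spEquiv (m i) ((UFourTwo.spMap (Classical.choice (φ i)).symm).symm (x i)), ?_⟩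
    funext i
    refine Eq.trans ?_ (hx i)
    show QuotientGroup.mk' _ _ = _
    simp
  choose k hk using hm
  let P₀ : ∀ i, Sylow 2 (SLtwo (L i)) := fun i => Classical.choice inferInstance
  let W₀ : ∀ i, Sylow 2 (Equiv.Perm (Fin (m i))) := fun i => Classical.choice inferInstance
  let S : ∀ i, Sylow 2 (X i) := fun i => monoSylow (hoddL i) (P₀ i) (W₀ i)
  obtain ⟨P, hP⟩ := exists_pi_sylow S
  refine pronormal_of_cover hf P (fun K hK _ => pronormal_pi S ?_ ?_ P hP K hK) H ?_
  · intro i K hK g hg
    exact mem_or_normalizes (hoddL i) (hk i) (P₀ i) (W₀ i) hK hg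
  · intro i g hg h hh
    exact commutator_mem (hoddL i) (hk i) (P₀ i) (W₀ i) hg hh
  · intro h
    rw [Nat.odd_iff] at hH
    omega

end Cfsg.Agent.S2509
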