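import Cfsg.Statements.S2512
import Mathlib
import Cfsg.Agent.Lib.Classical.Symplectic
import Cfsg.Agent.Lib.ElementOrders.Basic
import Cfsg.Agent.Lib.ElementOrders.SympDichotomy
import Cfsg.Agent.Lib.ElementOrders.SympTorus
import Cfsg.Agent.Lib.ElementOrders.SympUnipotent

set_option autoImplicit false
open Cfsg

namespace Cfsg.Agent.S2512

open Cfsg.Agent.Lib.ElementOrders

variable {F : Type*} [Field F] [Fintype F]

local notation "Sp(" k ")" => Matrix.symplecticGroup (Fin k) F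

/-- Minus the identity. -/
def negId (k : ℕ) : Sp(k) := ⟨-1, SymplecticGroup.neg_mem (one_mem _)⟩

theorem mem_center_iff (k : ℕ) (g : Sp(k)) :
    g ∈ Subgroup.center Sp(k) ↔ g = 1 ∨ g = negId k := by
  rw [Cfsg.Agent.Lib.Classical.center_symplecticGroup]
  exact or_congr ⟨fun h => Subtype.ext h, fun h => by rw [h]; rfl⟩ ⟨fun h => Subtype.ext h, fun h => by rw [h]; rfl⟩

theorem negId_sq (k : ℕ) : (negId k : Sp(k)) * negId k = 1 :=
  Subtype.ext (show (-1 : Matrix (Fin k ⊕ Fin k) (Fin k ⊕ Fin k) F) * -1 = 1 by simp)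

theorem negId_ne_one (h2 : (2 : F) ≠ 0) {k : ℕ} (hk : 1 ≤ k) : (negId k : Sp(k)) ≠ 1 := by
  intro h
  have h' : (-1 : Matrix (Fin k ⊕ Fin k) (Fin k ⊕ Fin k) F) = 1 := congrArg Subtype.val h
  have h1 := congrFun (congrFun h' (Sum.inl ⟨0, hk⟩)) (Sum.inl ⟨0, hk⟩)
  simp only [Matrix.neg_apply, Matrix.one_apply_eq] at h1
  exact h2 (by linear_combination -h1)

theorem mk_pow_eq_one {k : ℕ} (g : Sp(k)) (a : ℕ) (h : (QuotientGroup.mk g : Cfsg.PSp k F) ^ a = 1) :
    g ^ a = 1 ∨ g ^ a = negId k :=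
  (mem_center_iff k _).1 ((QuotientGroup.eq_one_iff _).1 ((QuotientGroup.mk_pow _ g a).trans h))

theorem orderOf_dvd_two_mul {k : ℕ} (g : Sp(k)) :
    orderOf g ∣ 2 * orderOf (QuotientGroup.mk g : Cfsg.PSp k F) := by
  apply orderOf_dvd_of_pow_eq_one
  rw [mul_comm, pow_mul]
  rcases mk_pow_eq_one g _ (pow_orderOf_eq_one _) with h | h
  · rw [h, one_pow]
  · rw [h, pow_two, negId_sq]

theorem orderOf_mk_unipotent {p : ℕ} (hp : Odd p) (h2 : (2 : F) ≠ 0) {k e : ℕ} (hk : 1 ≤ k) (g : Sp(k))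
    (hg : orderOf g = p ^ e) {a : ℕ} (ha : g ^ a = 1 ∨ g ^ a = negId k) : g ^ a = 1 := by
  rcases ha with h | h
  · exact h
  · exfalso
    apply negId_ne_one h2 hk
    have h1 : (negId k : Sp(k)) ^ (p ^ e) = 1 := by
      rw [← h, ← pow_mul, mul_comm, pow_mul, ← hg, pow_orderOf_eq_one, one_pow]
    obtain ⟨j, hj⟩ := hp.pow (n := e)
    rwa [hj, pow_succ, pow_mul, pow_two, negId_sq, one_pow, one_mul] at h1

/-- A torus element in an orthogonal sum with a regular unipotent element. -/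
theorem exists_pair {p : ℕ} [Fact p.Prime] [CharP F p] (hp : Odd p) (h2 : (2 : F) ≠ 0) (a b : ℕ) (hb : 1 ≤ b)
    (T : Sp(a)) (hT : (orderOf T).Coprime p) :
    ∃ y : Cfsg.PSp (a + b) F, orderOf T * p ^ Nat.clog p (2 * b) ∣ orderOf y := by
  obtain ⟨φ, hφ, hneg⟩ := exists_symp_sum (F := F) a b
  obtain ⟨U, hU, e, he⟩ := exists_regular_unipotent (F := F) (p := p) b
  refine ⟨QuotientGroup.mk (φ (T, U)), ?_⟩
  set k := orderOf (QuotientGroup.mk (φ (T, U)) : Cfsg.PSp (a + b) F)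
  have key : T ^ k = 1 ∧ U ^ k = 1 := by
    rcases mk_pow_eq_one (φ (T, U)) k (pow_orderOf_eq_one _) with h | h
    · rw [← map_pow, ← map_one φ] at h
      exact Prod.ext_iff.1 (hφ h)
    · rw [← map_pow] at h
      obtain ⟨-, h1⟩ := hneg (T ^ k) (U ^ k) (congrArg Subtype.val h)
      have h3 := orderOf_mk_unipotent hp h2 hb U he (Or.inr (Subtype.ext h1))
      exact absurd ((show (negId b : Sp(b)) = U ^ k from (Subtype.ext h1.symm)).trans h3) (negId_ne_one h2 hb)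
  refine Nat.Coprime.mul_dvd_of_dvd_of_dvd (Nat.Coprime.pow_right _ hT) (orderOf_dvd_of_pow_eq_one key.1)
    (hU.trans (orderOf_dvd_of_pow_eq_one key.2))

theorem orderOf_vec_dvd (m : ℕ) (v : Multiplicative (Fin m → ZMod 2)) : orderOf v ∣ 2 := by
  apply orderOf_dvd_of_pow_eq_one
  apply Multiplicative.toAdd.injective
  funext i
  rw [toAdd_pow, toAdd_one, Pi.smul_apply, Pi.zero_apply, CharTwo.two_nsmul]

theorem pair_dvd {A B : Type*} [Monoid A] [Monoid B] (x : A × B) (k : ℕ) :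
    orderOf x ∣ k ↔ orderOf x.1 ∣ k ∧ orderOf x.2 ∣ k := by
  simp only [orderOf_dvd_iff_pow_eq_one, Prod.ext_iff]
  rfl

theorem main {p : ℕ} [Fact p.Prime] [CharP F p] (hp : Odd p) {n : ℕ} (hn : 2 ≤ n) (m : ℕ) :
    Set.range (orderOf : Cfsg.PSp n F × Cfsg.PSp n F × Cfsg.PSp n F × Multiplicative (Fin m → ZMod 2) → ℕ) =
      Set.range (orderOf : Cfsg.PSp n F × Cfsg.PSp n F × Cfsg.PSp n F → ℕ) ∧
    ((¬ ∃ j : ℕ, 2 * n - 1 = p ^ j) →
      Set.range (orderOf : Cfsg.PSp n F × Cfsg.PSp n F × Multiplicative (Fin m → ZMod 2) → ℕ) =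
        Set.range (orderOf : Cfsg.PSp n F × Cfsg.PSp n F → ℕ)) := by
  have hpp : p.Prime := Fact.out
  have h2 : (2 : F) ≠ 0 := by
    intro h
    have h' : p ∣ 2 := (CharP.cast_eq_zero_iff F p 2).1 (by exact_mod_cast h)
    rw [(Nat.prime_dvd_prime_iff_eq hpp Nat.prime_two).1 h'] at hp
    exact absurd hp (by decide)
  set q := Fintype.card F with hq
  have hqodd : Odd q := by
    obtain ⟨a, -, ha⟩ := FiniteField.card F p
    rw [hq, ha]
    exact hp.pow
  have hq2 : 2 ≤ q := Fintype.one_lt_card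
  have hpq : p ∣ q := by
    obtain ⟨a, -, ha⟩ := FiniteField.card F p
    rw [hq, ha]
    exact dvd_pow_self p a.ne_zero
  have hcop : ∀ d E, 1 ≤ d → (E = q ^ d + 1 ∨ E = q ^ d - 1) → E.Coprime p := by
    intro d E hd hE
    rw [Nat.coprime_comm, hpp.coprime_iff_not_dvd]
    intro h
    have h1 : p ∣ q ^ d := hpq.trans (dvd_pow_self q (by omega))
    rcases hE with rfl | rfl
    · exact hpp.not_dvd_one ((Nat.dvd_add_right h1).1 h)
    · have h3 := Nat.dvd_sub h1 h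
      rw [Nat.sub_sub_self (Nat.one_le_pow _ _ (by omega))] at h3
      exact hpp.not_dvd_one h3
  -- witnesses
  obtain ⟨⟨Tm, hTm⟩, ⟨Tp, hTp⟩⟩ := exists_symp_torus (F := F) (d := n) (by omega)
  rw [← hq] at hTm hTp
  set ym : Cfsg.PSp n F := QuotientGroup.mk Tm with hym
  set yp : Cfsg.PSp n F := QuotientGroup.mk Tp with hyp
  have hm2 : q ^ n - 1 ∣ 2 * orderOf ym := hTm ▸ orderOf_dvd_two_mul Tm
  have hp2 : q ^ n + 1 ∣ 2 * orderOf yp := hTp ▸ orderOf_dvd_two_mul Tp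
  have heven : 2 ∣ orderOf ym ∨ 2 ∣ orderOf yp := by
    have h1 : Odd (q ^ n) := hqodd.pow
    obtain ⟨a, ha⟩ := h1
    rcases Nat.even_or_odd a with ⟨c, hc⟩ | ⟨c, hc⟩
    · left
      have h4 : 4 ∣ q ^ n - 1 := ⟨c, by omega⟩
      exact Nat.dvd_of_mul_dvd_mul_left (by norm_num : 0 < 2) (h4.trans hm2)
    · right
      have h4 : 4 ∣ q ^ n + 1 := ⟨c + 1, by omega⟩
      exact Nat.dvd_of_mul_dvd_mul_left (by norm_num : 0 < 2) (h4.trans hp2)
  obtain ⟨yu, hyu⟩ : ∃ y : Cfsg.PSp n F, p ^ Nat.clog p (2 * n) ∣ orderOf y := by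
    obtain ⟨U, hU, e, he⟩ := exists_regular_unipotent (F := F) (p := p) n
    exact ⟨QuotientGroup.mk U, hU.trans (orderOf_dvd_of_pow_eq_one
      (orderOf_mk_unipotent hp h2 (by omega) U he (mk_pow_eq_one U _ (pow_orderOf_eq_one _))))⟩
  have hyu2 : (¬ ∃ j : ℕ, 2 * n - 1 = p ^ j) →
      ∃ y : Cfsg.PSp n F, p ^ Nat.clog p (2 * n) ∣ orderOf y ∧ 2 ∣ orderOf y := by
    intro hnp
    obtain ⟨b, rfl⟩ : ∃ b, n = 1 + b := ⟨n - 1, by omega⟩
    have hT : orderOf (negId 1 : Sp(1)) = 2 :=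
      orderOf_eq_prime (by rw [pow_two]; exact negId_sq 1) (negId_ne_one h2 le_rfl)
    obtain ⟨y, hy⟩ := exists_pair (F := F) (p := p) hp h2 1 b (by omega) (negId 1)
      (by rw [hT]; exact Nat.coprime_two_left.2 hp)
    rw [hT] at hy
    refine ⟨y, (pow_dvd_pow p (Nat.clog_le_of_le_pow ?_)).trans ((dvd_mul_left _ _).trans hy),
      (dvd_mul_right _ _).trans hy⟩
    have h1 := Nat.le_pow_clog hpp.one_lt (2 * b)
    obtain ⟨c, hc⟩ := hp.pow (n := Nat.clog p (2 * b))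
    by_contra hlt
    exact hnp ⟨Nat.clog p (2 * b), by omega⟩
  -- the dichotomy
  have dich : ∀ x : Cfsg.PSp n F, (∃ y : Cfsg.PSp n F, orderOf x ∣ orderOf y ∧ 2 ∣ orderOf y) ∨
      orderOf x ∣ p ^ Nat.clog p (2 * n) ∨ orderOf x ∣ orderOf yp ∨ orderOf x ∣ orderOf ym := by
    intro x
    by_cases hx2 : 2 ∣ orderOf x
    · exact Or.inl ⟨x, dvd_rfl, hx2⟩
    set o := orderOf x with ho
    have hoodd : Odd o := Nat.odd_iff.2 (by omega)
    obtain ⟨g, hgx, hgo⟩ : ∃ g : Sp(n), (QuotientGroup.mk g : Cfsg.PSp n F) = x ∧ g ^ o = 1 := by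
      obtain ⟨g, rfl⟩ := QuotientGroup.mk_surjective x
      rcases mk_pow_eq_one g o (pow_orderOf_eq_one _) with h | h
      · exact ⟨g, rfl, h⟩
      · have hc : (negId n : Sp(n)) ∈ Subgroup.center Sp(n) := (mem_center_iff n _).2 (Or.inr rfl)
        refine ⟨g * negId n, (QuotientGroup.eq.2 ?_).symm, ?_⟩
        · rwa [inv_mul_cancel_left]
        · obtain ⟨j, hj⟩ := hoodd
          have hcm : Commute g (negId n) := Subgroup.mem_center_iff.1 hc g
          rw [hcm.mul_pow, h, hj, pow_succ, pow_mul, pow_two,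
            negId_sq, one_pow, one_mul, negId_sq]
    have hgo' : (g : Matrix (Fin n ⊕ Fin n) (Fin n ⊕ Fin n) F) ^ o = 1 := congrArg Subtype.val hgo
    have hdvd : ∀ k : ℕ, (g : Matrix (Fin n ⊕ Fin n) (Fin n ⊕ Fin n) F) ^ k = 1 → o ∣ k := fun k hk =>
      orderOf_dvd_of_pow_eq_one (by
        rw [← hgx, ← QuotientGroup.mk_pow, show g ^ k = 1 from Subtype.ext hk]; rfl)
    rcases symp_dichotomy (p := p) h2 hn g.1 g.2 o hoodd hgo' with
      ⟨z, hz, hcz, hz2, hz1, hzn⟩ | h | h | ⟨d, hd1, hdn, E, hE, h⟩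
    · left
      let z' : Sp(n) := ⟨z, hz⟩
      refine ⟨x * QuotientGroup.mk z', ?_⟩
      have hzo : orderOf (QuotientGroup.mk z' : Cfsg.PSp n F) = 2 := by
        apply orderOf_eq_prime
        · rw [← QuotientGroup.mk_pow, show z' ^ 2 = 1 from Subtype.ext (by rw [pow_two]; exact hz2)]
          rfl
        · intro hc
          rcases (mem_center_iff n z').1 ((QuotientGroup.eq_one_iff z').1 hc) with hc | hc
          · exact hz1 (congrArg Subtype.val hc)
          · exact hzn (congrArg Subtype.val hc)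
      have hcomm : Commute x (QuotientGroup.mk z' : Cfsg.PSp n F) := by
        rw [← hgx]
        exact (show Commute g z' from Subtype.ext hcz).map (QuotientGroup.mk' _)
      rw [hcomm.orderOf_mul_eq_mul_orderOf_of_coprime (by rw [hzo]; exact Nat.coprime_two_right.2 hoodd), hzo]
      exact ⟨dvd_mul_right _ _, dvd_mul_left _ _⟩
    · exact Or.inr (Or.inl (hdvd _ h))
    · have hc2 : o.Coprime 2 := Nat.coprime_two_right.2 hoodd
      rcases h with h | h
      · exact Or.inr (Or.inr (Or.inl (hc2.dvd_of_dvd_mul_left ((hdvd _ h).trans hp2))))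
      · exact Or.inr (Or.inr (Or.inr (hc2.dvd_of_dvd_mul_left ((hdvd _ h).trans hm2))))
    · left
      have hE2 : 2 ∣ E := by
        obtain ⟨a, ha⟩ := hqodd.pow (n := d)
        rw [hq] at ha
        rcases hE with rfl | rfl
        · exact ⟨a + 1, by omega⟩
        · exact ⟨a, by omega⟩
      obtain ⟨T, hT⟩ : ∃ T : Sp(d), orderOf T = E := by
        obtain ⟨⟨T1, h1⟩, ⟨T2, h2'⟩⟩ := exists_symp_torus (F := F) hd1
        rcases hE with rfl | rfl
        · exact ⟨T2, h2'⟩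
        · exact ⟨T1, h1⟩
      obtain ⟨b, rfl⟩ : ∃ b, n = d + b := ⟨n - d, by omega⟩
      rw [Nat.add_sub_cancel_left] at h
      obtain ⟨y, hy⟩ := exists_pair (F := F) (p := p) hp h2 d b (by omega) T (hT ▸ hcop d E hd1 hE)
      rw [hT] at hy
      exact ⟨y, (hdvd _ h).trans hy, hE2.trans ((dvd_mul_right _ _).trans hy)⟩
  constructor
  · apply Set.Subset.antisymm
    · rintro _ ⟨⟨x1, x2, x3, v⟩, rfl⟩
      suffices h : ∃ w : Cfsg.PSp n F × Cfsg.PSp n F × Cfsg.PSp n F, orderOf (x1, x2, x3, v) ∣ orderOf w by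
        obtain ⟨w, hw⟩ := h
        exact exists_orderOf_eq_of_dvd hw
      have comb : ∀ w : Cfsg.PSp n F × Cfsg.PSp n F × Cfsg.PSp n F, orderOf x1 ∣ orderOf w → orderOf x2 ∣ orderOf w →
          orderOf x3 ∣ orderOf w → 2 ∣ orderOf w →
          ∃ w' : Cfsg.PSp n F × Cfsg.PSp n F × Cfsg.PSp n F, orderOf (x1, x2, x3, v) ∣ orderOf w' :=
        fun w h1 h2 h3 h4 => ⟨w, (pair_dvd _ _).2 ⟨h1, (pair_dvd _ _).2 ⟨h2, (pair_dvd _ _).2 ⟨h3,
          (orderOf_vec_dvd m v).trans h4⟩⟩⟩⟩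
      have hd : ∀ a b c : Cfsg.PSp n F,
          orderOf a ∣ orderOf (a, b, c) ∧ orderOf b ∣ orderOf (a, b, c) ∧ orderOf c ∣ orderOf (a, b, c) :=
        fun a b c => ⟨((pair_dvd (a, b, c) _).1 dvd_rfl).1, ((pair_dvd (b, c) _).1 ((pair_dvd (a, b, c) _).1 dvd_rfl).2).1,
          ((pair_dvd (b, c) _).1 ((pair_dvd (a, b, c) _).1 dvd_rfl).2).2⟩
      rcases dich x1 with ⟨y, hy1, hy2⟩ | h1
      · obtain ⟨a, b, c⟩ := hd y x2 x3
        exact comb _ (hy1.trans a) b c (hy2.trans a)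
      rcases dich x2 with ⟨y, hy1, hy2⟩ | h2'
      · obtain ⟨a, b, c⟩ := hd x1 y x3
        exact comb _ a (hy1.trans b) c (hy2.trans b)
      rcases dich x3 with ⟨y, hy1, hy2⟩ | h3
      · obtain ⟨a, b, c⟩ := hd x1 x2 y
        exact comb _ a b (hy1.trans c) (hy2.trans c)
      obtain ⟨a, b, c⟩ := hd yu yp ym
      have hall : ∀ o : ℕ, (o ∣ p ^ Nat.clog p (2 * n) ∨ o ∣ orderOf yp ∨ o ∣ orderOf ym) →
          o ∣ orderOf (yu, yp, ym) := fun o ho => by
        rcases ho with h | h | h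
        · exact h.trans (hyu.trans a)
        · exact h.trans b
        · exact h.trans c
      exact comb _ (hall _ h1) (hall _ h2') (hall _ h3) (by
        rcases heven with h | h
        · exact h.trans c
        · exact h.trans b)
    · rintro _ ⟨⟨x1, x2, x3⟩, rfl⟩
      exact ⟨(x1, x2, x3, 1), by simp [Prod.orderOf]⟩
  · intro hnp
    obtain ⟨y2, hy2p, hy22⟩ := hyu2 hnp
    apply Set.Subset.antisymm
    · rintro _ ⟨⟨x1, x2, v⟩, rfl⟩
      suffices h : ∃ w : Cfsg.PSp n F × Cfsg.PSp n F, orderOf (x1, x2, v) ∣ orderOf w by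
        obtain ⟨w, hw⟩ := h
        exact exists_orderOf_eq_of_dvd hw
      have comb : ∀ w : Cfsg.PSp n F × Cfsg.PSp n F, orderOf x1 ∣ orderOf w → orderOf x2 ∣ orderOf w →
          2 ∣ orderOf w → ∃ w' : Cfsg.PSp n F × Cfsg.PSp n F, orderOf (x1, x2, v) ∣ orderOf w' :=
        fun w h1 h2 h4 => ⟨w, (pair_dvd _ _).2 ⟨h1, (pair_dvd _ _).2 ⟨h2, (orderOf_vec_dvd m v).trans h4⟩⟩⟩
      have hd : ∀ a b : Cfsg.PSp n F, orderOf a ∣ orderOf (a, b) ∧ orderOf b ∣ orderOf (a, b) :=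
        fun a b => (pair_dvd (a, b) _).1 dvd_rfl
      rcases dich x1 with ⟨y, hy1, hy2⟩ | h1
      · obtain ⟨a, b⟩ := hd y x2
        exact comb _ (hy1.trans a) b (hy2.trans a)
      rcases dich x2 with ⟨y, hy1, hy2⟩ | h2'
      · obtain ⟨a, b⟩ := hd x1 y
        exact comb _ a (hy1.trans b) (hy2.trans b)
      rcases h1 with h1 | h1
      · obtain ⟨a, b⟩ := hd y2 x2
        exact comb _ (h1.trans (hy2p.trans a)) b (hy22.trans a)
      rcases h2' with h2' | h2'
      · obtain ⟨a, b⟩ := hd x1 y2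
        exact comb _ a (h2'.trans (hy2p.trans b)) (hy22.trans b)
      obtain ⟨a, b⟩ := hd yp ym
      refine comb (yp, ym) ?_ ?_ ?_
      · rcases h1 with h | h
        · exact h.trans a
        · exact h.trans b
      · rcases h2' with h | h
        · exact h.trans a
        · exact h.trans b
      · rcases heven with h | h
        · exact h.trans b
        · exact h.trans a
    · rintro _ ⟨⟨x1, x2⟩, rfl⟩
      exact ⟨(x1, x2, 1), by simp [Prod.orderOf]⟩


/-- Let F be a finite field of odd order q = p^a, n ≥ 2 (with q ≥ 3 automatic), and L = PSp(2n, F). Then for every m the direct product L × L × L × (ℤ/2)^m has the same set of element orders as L × L × L; and if 2n − 1 is not a power of p, then already L × L × (ℤ/2)^m has the same set of element orders as L × L. -/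
theorem result {F : Type*} [Field F] [Fintype F] (p a n m : ℕ) (hp : p.Prime) (ha : 1 ≤ a) (hF : Fintype.card F = p ^ a) (hodd : Odd (Fintype.card F))
    (hn : 2 ≤ n) :
    Set.range (orderOf : Cfsg.PSp n F × Cfsg.PSp n F × Cfsg.PSp n F × Multiplicative (Fin m → ZMod 2) → ℕ) = Set.range (orderOf : Cfsg.PSp n F × Cfsg.PSp n F × Cfsg.PSp n F → ℕ) ∧
    ((¬ ∃ j : ℕ, 2 * n - 1 = p ^ j) →
      Set.range (orderOf : Cfsg.PSp n F × Cfsg.PSp n F × Multiplicative (Fin m → ZMod 2) → ℕ) = Set.range (orderOf : Cfsg.PSp n F × Cfsg.PSp n F → ℕ)) := by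
  haveI : Fact p.Prime := ⟨hp⟩
  haveI : CharP F p := by
    obtain ⟨p', hp'⟩ := CharP.exists F
    obtain ⟨b, hbp, hb⟩ := FiniteField.card F p'
    have h : p' ∣ p ^ a := by rw [← hF, hb]; exact dvd_pow_self p' b.ne_zero
    obtain rfl := (Nat.prime_dvd_prime_iff_eq hbp hp).1 (hbp.dvd_of_dvd_pow h)
    exact hp'
  have hpodd : Odd p := by
    rw [hF] at hodd
    exact (Nat.odd_pow_iff (by omega)).1 hodd
  exact main hpodd hn m

end Cfsg.Agent.S2512
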