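import Cfsg.Statements.S2513
import Mathlib
import Cfsg.Agent.Lib.ElementOrders.Basic
import Cfsg.Agent.Lib.ElementOrders.Singer

set_option autoImplicit false
open Cfsg

namespace Cfsg.Agent.S2513

open Cfsg.Agent.Lib.ElementOrders

variable {F : Type*} [Field F] [Fintype F]

theorem eq_one_of_ne_zero (hF : Fintype.card F = 2) {x : F} (hx : x ≠ 0) : x = 1 := by
  have h := FiniteField.pow_card_sub_one_eq_one x hx
  rwa [hF, pow_one] at h

theorem nonempty_mulEquiv (hF : Fintype.card F = 2) (n : ℕ) :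
    Nonempty (GL (Fin n) F ≃* Matrix.ProjectiveSpecialLinearGroup (Fin n) F) := by
  let f : GL (Fin n) F →* Matrix.SpecialLinearGroup (Fin n) F :=
    { toFun := fun g => ⟨g.val, eq_one_of_ne_zero hF (((Matrix.isUnit_iff_isUnit_det _).1 g.isUnit).ne_zero)⟩
      map_one' := Subtype.ext rfl
      map_mul' := fun _ _ => Subtype.ext rfl }
  have hf : Function.Bijective f := by
    refine ⟨fun a b h => Units.ext (congrArg Subtype.val h), fun s => ⟨Matrix.SpecialLinearGroup.toGL s, ?_⟩⟩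
    exact Subtype.ext rfl
  have hc : Subgroup.center (Matrix.SpecialLinearGroup (Fin n) F) = ⊥ := by
    rw [eq_bot_iff]
    intro A hA
    obtain ⟨r, hr, hrA⟩ := Matrix.SpecialLinearGroup.mem_center_iff.1 hA
    rw [Subgroup.mem_bot]
    apply Subtype.ext
    rw [← hrA]
    rcases eq_or_ne r 0 with h0 | h0
    · have hn : n = 0 := by
        by_contra hn
        rw [h0, Fintype.card_fin, zero_pow hn] at hr
        exact zero_ne_one hr
      subst hn
      exact Subsingleton.elim _ _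
    · rw [eq_one_of_ne_zero hF h0, map_one]
      rfl
  exact ⟨(MulEquiv.ofBijective f hf).trans
    ((QuotientGroup.quotientBot).symm.trans (QuotientGroup.quotientMulEquivOfEq hc.symm))⟩

/-- An element of order the odd prime power `r ^ a` of `GL_n(2)` has `r ^ a ∣ 2 ^ d - 1` for some
`n / 2 < d ≤ n`. -/
theorem prime_pow_dvd_sub_one (hF : Fintype.card F = 2) {n : ℕ} (g : GL (Fin n) F) {r a : ℕ}
    (hr : r.Prime) (hr2 : r ≠ 2) (hord : orderOf g = r ^ (a + 1)) :
    ∃ d, n / 2 < d ∧ d ≤ n ∧ r ^ (a + 1) ∣ 2 ^ d - 1 := by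
  have hchar : (r : F) ≠ 0 := by
    intro h0
    obtain ⟨p, hp⟩ := CharP.exists F
    have hpp : p.Prime := CharP.char_is_prime F p
    have h2 : p ∣ 2 := (CharP.cast_eq_zero_iff F p 2).1 (by rw [← hF]; simp)
    have h3 : p ∣ r := (CharP.cast_eq_zero_iff F p r).1 h0
    rw [(Nat.prime_dvd_prime_iff_eq hpp Nat.prime_two).1 h2] at h3
    exact hr2 ((Nat.prime_dvd_prime_iff_eq Nat.prime_two hr).1 h3).symm
  have h1 : (g : Matrix (Fin n) (Fin n) F) ^ (r ^ (a + 1)) = 1 := by
    rw [← Units.val_pow_eq_pow_val, ← hord, pow_orderOf_eq_one, Units.val_one]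
  have h2 : (g : Matrix (Fin n) (Fin n) F) ^ (r ^ a) ≠ 1 := by
    rw [← Units.val_pow_eq_pow_val]
    intro h
    have h' := Nat.le_of_dvd (pow_pos hr.pos a) (hord ▸ orderOf_dvd_of_pow_eq_one (Units.val_eq_one.1 h))
    exact absurd h' (by rw [pow_succ]; nlinarith [hr.two_le, pow_pos hr.pos a])
  obtain ⟨d, hd1, hdn, hd⟩ := prime_pow_dvd_pow_card_sub_one _ hr hchar h1 h2
  rw [Fintype.card_fin] at hdn
  rw [hF] at hd
  refine ⟨d * (n / d), ?_, Nat.mul_div_le n d, hd.trans (Nat.pow_sub_one_dvd_pow_sub_one 2 (dvd_mul_right d _))⟩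
  have h3 := Nat.div_add_mod n d
  have h4 := Nat.mod_lt n (show d > 0 by omega)
  have h5 : 1 ≤ n / d := Nat.div_pos hdn (by omega)
  have h6 : d * 1 ≤ d * (n / d) := Nat.mul_le_mul_left d h5
  omega

theorem main (hF : Fintype.card F = 2) (n k : ℕ) (hk : (n + 3) / 2 ≤ k) :
    Set.range (orderOf : (Fin k → GL (Fin n) F) → ℕ) =
      Set.range (orderOf : (Fin ((n + 3) / 2) → GL (Fin n) F) → ℕ) := by
  classical
  apply Set.Subset.antisymm
  · rintro _ ⟨f, rfl⟩
    have hm : orderOf f ≠ 0 := (orderOf_pos f).ne'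
    set m := orderOf f with hmdef
    -- the 2-part
    obtain ⟨u, hu⟩ : ∃ u : GL (Fin n) F, orderOf u = 2 ^ m.factorization 2 := by
      by_cases he : m.factorization 2 = 0
      · exact ⟨1, by simp [he]⟩
      · obtain ⟨i, hi⟩ := prime_pow_dvd_pi_orderOf f Nat.prime_two he (Nat.ordProj_dvd m 2)
        exact exists_orderOf_eq_of_dvd hi
    have hex : ∀ i : Fin (n - n / 2), ∃ g : GL (Fin n) F, orderOf g = Nat.gcd m (2 ^ (n / 2 + 1 + i.val) - 1) := by
      intro i
      obtain ⟨g, hg⟩ := exists_orderOf_eq_pow_card_sub_one (F := F) (n := n) (d := n / 2 + 1 + i.val)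
        (by omega) (by omega)
      exact exists_orderOf_eq_of_dvd (x := g) (by rw [hg, hF]; exact Nat.gcd_dvd_right _ _)
    choose g hg using hex
    let h : Fin ((n + 3) / 2) → GL (Fin n) F :=
      fun j => if hj : j.val < n - n / 2 then g ⟨j.val, hj⟩ else u
    refine ⟨h, Nat.dvd_antisymm ((pi_orderOf_dvd_iff h m).2 fun j => ?_) ?_⟩
    · simp only [h]
      split
      · rw [hg]; exact Nat.gcd_dvd_left _ _
      · rw [hu]; exact Nat.ordProj_dvd m 2
    · rw [Nat.dvd_iff_prime_pow_dvd_dvd]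
      intro r a hr hra
      rcases Nat.eq_zero_or_pos a with rfl | ha
      · simp
      have hcomp : ∀ j, orderOf (h j) ∣ orderOf h := (pi_orderOf_dvd_iff h _).1 dvd_rfl
      by_cases hr2 : r = 2
      · subst hr2
        refine Nat.dvd_trans ?_ (hcomp ⟨n - n / 2, by omega⟩)
        simp only [h, lt_irrefl, dite_false, hu]
        exact pow_dvd_pow 2 ((Nat.prime_two.pow_dvd_iff_le_factorization hm).1 hra)
      · obtain ⟨i, hi⟩ := prime_pow_dvd_pi_orderOf f hr ha.ne' hra
        obtain ⟨y, hy⟩ := exists_orderOf_eq_of_dvd hi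
        obtain ⟨b, rfl⟩ : ∃ b, a = b + 1 := ⟨a - 1, by omega⟩
        obtain ⟨d, hd1, hdn, hd⟩ := prime_pow_dvd_sub_one hF y hr hr2 hy
        refine Nat.dvd_trans ?_ (hcomp ⟨d - n / 2 - 1, by omega⟩)
        have hj : d - n / 2 - 1 < n - n / 2 := by omega
        simp only [h, hj, dite_true, hg]
        rw [show n / 2 + 1 + (d - n / 2 - 1) = d by omega]
        exact Nat.dvd_gcd hra hd
  · rintro _ ⟨f, rfl⟩
    refine ⟨fun j => if hj : j.val < (n + 3) / 2 then f ⟨j.val, hj⟩ else 1, ?_⟩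
    refine Nat.dvd_antisymm ((pi_orderOf_dvd_iff _ _).2 fun j => ?_) ((pi_orderOf_dvd_iff _ _).2 fun j => ?_)
    · split
      · exact (pi_orderOf_dvd_iff f _).1 dvd_rfl _
      · simp
    · refine Nat.dvd_trans (dvd_of_eq ?_) ((pi_orderOf_dvd_iff _ _).1 dvd_rfl (⟨j.val, by omega⟩ : Fin k))
      simp [j.isLt]


/-- Let F be the field with two elements, n ≥ 2, L = PSL(n, F) and k₀ = ⌊(n + 3)/2⌋. Then for every k ≥ k₀ the direct product of k copies of L has the same set of element orders as the direct product of k₀ copies of L. -/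
theorem result {F : Type*} [Field F] [Fintype F] (hF : Fintype.card F = 2) (n k : ℕ) (hn : 2 ≤ n) (hk : (n + 3) / 2 ≤ k) :
    Set.range (orderOf : (Fin k → Matrix.ProjectiveSpecialLinearGroup (Fin n) F) → ℕ) = Set.range (orderOf : (Fin ((n + 3) / 2) → Matrix.ProjectiveSpecialLinearGroup (Fin n) F) → ℕ) := by
  obtain ⟨e⟩ := nonempty_mulEquiv hF n
  have key : ∀ K : ℕ, Set.range (orderOf : (Fin K → Matrix.ProjectiveSpecialLinearGroup (Fin n) F) → ℕ) =
      Set.range (orderOf : (Fin K → GL (Fin n) F) → ℕ) := by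
    intro K
    let E : (Fin K → GL (Fin n) F) ≃* (Fin K → Matrix.ProjectiveSpecialLinearGroup (Fin n) F) :=
      MulEquiv.piCongrRight fun _ => e
    ext x
    constructor
    · rintro ⟨f, rfl⟩
      exact ⟨E.symm f, MulEquiv.orderOf_eq _ f⟩
    · rintro ⟨f, rfl⟩
      exact ⟨E f, MulEquiv.orderOf_eq _ f⟩
  rw [key, key]
  exact main hF n k hk

end Cfsg.Agent.S2513
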