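import Cfsg.Statements.S2514
import Mathlib
import Cfsg.Agent.Lib.ElementOrders.Basic

set_option autoImplicit false
open Cfsg

namespace Cfsg.Agent.S2514

open Cfsg.Agent.Lib.ElementOrders

theorem orderOf_pair {A B : Type*} [Monoid A] [Monoid B] (x : A × B) (m : ℕ) :
    orderOf x ∣ m ↔ orderOf x.1 ∣ m ∧ orderOf x.2 ∣ m := by
  simp only [orderOf_dvd_iff_pow_eq_one, Prod.ext_iff]
  rfl

theorem exists_maximal_order {X : Type*} [Group X] [Finite X] (x : X) :
    ∃ n, (n ∈ Set.range (orderOf : X → ℕ) ∧ ∀ m ∈ Set.range (orderOf : X → ℕ), n ∣ m → m = n) ∧ orderOf x ∣ n := by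
  obtain ⟨y, hxy, hy⟩ := (Set.toFinite {y : X | orderOf x ∣ orderOf y}).exists_maximalFor orderOf _
    ⟨x, dvd_refl (orderOf x)⟩
  refine ⟨orderOf y, ⟨⟨y, rfl⟩, ?_⟩, hxy⟩
  rintro _ ⟨z, rfl⟩ hz
  have h1 := hy (show orderOf x ∣ orderOf z from hxy.trans hz) (Nat.le_of_dvd (orderOf_pos z) hz)
  exact le_antisymm h1 (Nat.le_of_dvd (orderOf_pos z) hz)

/-- For a finite group X write μ(X) for the set of element orders of X that are maximal under divisibility. Let G and H be finite groups and k ≥ 1 such that μ(H) ⊆ μ(G) and μ(G) has fewer than k elements outside μ(H). Then the direct product of k copies of G has the same set of element orders as the direct product of k − 1 copies of G with H. -/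
theorem result {G H : Type*} [Group G] [Finite G] [Group H] [Finite H] (k : ℕ) (hk : 1 ≤ k)
    (hsub : {n : ℕ | n ∈ Set.range (orderOf : H → ℕ) ∧ ∀ m ∈ Set.range (orderOf : H → ℕ), n ∣ m → m = n} ⊆ {n : ℕ | n ∈ Set.range (orderOf : G → ℕ) ∧ ∀ m ∈ Set.range (orderOf : G → ℕ), n ∣ m → m = n})
    (hfew : ({n : ℕ | n ∈ Set.range (orderOf : G → ℕ) ∧ ∀ m ∈ Set.range (orderOf : G → ℕ), n ∣ m → m = n} \ {n : ℕ | n ∈ Set.range (orderOf : H → ℕ) ∧ ∀ m ∈ Set.range (orderOf : H → ℕ), n ∣ m → m = n}).ncard < k) :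
    Set.range (orderOf : (Fin k → G) → ℕ) = Set.range (orderOf : (Fin (k - 1) → G) × H → ℕ) := by
  classical
  obtain ⟨j, rfl⟩ : ∃ j, k = j + 1 := ⟨k - 1, by omega⟩
  apply Set.Subset.antisymm
  · rintro _ ⟨f, rfl⟩
    suffices hs : ∃ w : (Fin (j + 1 - 1) → G) × H, orderOf f ∣ orderOf w by
      obtain ⟨w, hw⟩ := hs
      exact exists_orderOf_eq_of_dvd hw
    choose M hM hdvd using fun i => exists_maximal_order (f i)
    have key : ∀ (i : Fin (j + 1)) (f' : Fin (j + 1) → G) (h : H),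
        (∀ l, l ≠ i → orderOf (f l) ∣ orderOf (f' l)) →
        (orderOf (f i) ∣ orderOf h ∨ ∃ l, l ≠ i ∧ orderOf (f i) ∣ orderOf (f' l)) →
        ∃ w : (Fin (j + 1 - 1) → G) × H, orderOf f ∣ orderOf w := by
      intro i f' h h1 h2
      let w : (Fin j → G) × H := (fun l => f' (i.succAbove l), h)
      refine ⟨w, (pi_orderOf_dvd_iff f _).2 fun l => ?_⟩
      have hw := (orderOf_pair w _).1 dvd_rfl
      have hcomp : ∀ l, l ≠ i → orderOf (f' l) ∣ orderOf w := by
        intro l hl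
        obtain ⟨l', rfl⟩ := Fin.exists_succAbove_eq hl
        exact ((pi_orderOf_dvd_iff w.1 _).1 dvd_rfl l').trans hw.1
      by_cases hl : l = i
      · subst hl
        rcases h2 with h2 | ⟨l', hl', h2⟩
        · exact h2.trans hw.2
        · exact h2.trans (hcomp l' hl')
      · exact (h1 l hl).trans (hcomp l hl)
    by_cases hin : ∃ i, M i ∈ {n : ℕ | n ∈ Set.range (orderOf : H → ℕ) ∧ ∀ m ∈ Set.range (orderOf : H → ℕ), n ∣ m → m = n}
    · obtain ⟨i, ⟨h, hh⟩, -⟩ := hin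
      exact key i f h (fun _ _ => dvd_rfl) (Or.inl (hh ▸ hdvd i))
    · simp only [not_exists] at hin
      set D := ({n : ℕ | n ∈ Set.range (orderOf : G → ℕ) ∧ ∀ m ∈ Set.range (orderOf : G → ℕ), n ∣ m → m = n} \
        {n : ℕ | n ∈ Set.range (orderOf : H → ℕ) ∧ ∀ m ∈ Set.range (orderOf : H → ℕ), n ∣ m → m = n})
      have hfin : D.Finite := (Set.finite_range _).subset fun n hn => hn.1.1
      obtain ⟨a, -, b, -, hab, hMab⟩ := Finset.exists_ne_map_eq_of_card_lt_of_maps_to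
        (s := (Finset.univ : Finset (Fin (j + 1)))) (t := hfin.toFinset) (f := M)
        (by rw [Finset.card_univ, Fintype.card_fin, ← Set.ncard_eq_toFinset_card D hfin]; exact hfew)
        (fun l _ => hfin.mem_toFinset.2 ⟨hM l, hin l⟩)
      choose y hy using fun l => (hM l).1
      exact key a y 1 (fun l _ => (hy l) ▸ hdvd l) (Or.inr ⟨b, hab.symm, by rw [hy b, ← hMab]; exact hdvd a⟩)
  · rintro _ ⟨⟨f, h⟩, rfl⟩
    obtain ⟨n, hn, hd⟩ := exists_maximal_order h
    obtain ⟨y, hy⟩ := (hsub hn).1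
    refine exists_orderOf_eq_of_dvd (x := (Fin.cons y f : Fin (j + 1) → G)) ?_
    have hc := (pi_orderOf_dvd_iff (Fin.cons y f : Fin (j + 1) → G) _).1 dvd_rfl
    refine (orderOf_pair _ _).2 ⟨(pi_orderOf_dvd_iff _ _).2 fun l => ?_, ?_⟩
    · have := hc l.succ
      rwa [Fin.cons_succ] at this
    · refine hd.trans ?_
      have := hc 0
      rw [Fin.cons_zero, hy] at this
      exact this

end Cfsg.Agent.S2514
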