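import Cfsg.Statements.S2515
import Cfsg.Agent.Lib.SL2.Orders2
import Cfsg.Agent.Lib.SL2.ToriExist

set_option autoImplicit false
open Cfsg

namespace Cfsg.Agent.S2515

open Matrix Cfsg.Agent.Lib.SL2

set_option linter.unusedSectionVars false

section

variable {F : Type} [Field F] [CharP F 3] [Fact (Nat.Prime 3)]

/-- The two-by-two matrices as a multiplicative group. -/
abbrev Mod (F : Type) := Multiplicative (Matrix (Fin 2) (Fin 2) F)

/-- The second factor. -/
def sec (A : Matrix (Fin 2) (Fin 2) F) : Matrix (Fin 2) (Fin 2) F := (A.map (frobenius F 3)).transpose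

theorem sec_mul (A B : Matrix (Fin 2) (Fin 2) F) : sec (A * B) = sec B * sec A := by
  rw [sec, sec, sec, Matrix.map_mul, Matrix.transpose_mul]

theorem sec_one : sec (1 : Matrix (Fin 2) (Fin 2) F) = 1 := by
  rw [sec, Matrix.map_one _ (map_zero _) (map_one _), Matrix.transpose_one]

theorem sec_neg_one : sec (-1 : Matrix (Fin 2) (Fin 2) F) = -1 := by
  ext i j
  fin_cases i <;> fin_cases j <;> simp [sec]

/-- The action on the module. -/
def act (g : SLtwo F) : MulAut (Mod F) :=
  AddEquiv.toMultiplicative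
    { toFun := fun X => g.1 * X * sec g.1
      invFun := fun X => (g⁻¹ : SLtwo F).1 * X * sec (g⁻¹ : SLtwo F).1
      left_inv := fun X => by
        have h1 : (g⁻¹ : SLtwo F).1 * g.1 = 1 := congrArg Subtype.val (inv_mul_cancel g)
        have h2 : sec g.1 * sec (g⁻¹ : SLtwo F).1 = 1 := by rw [← sec_mul, h1, sec_one]
        show (g⁻¹ : SLtwo F).1 * (g.1 * X * sec g.1) * sec (g⁻¹ : SLtwo F).1 = X
        rw [← mul_assoc, ← mul_assoc, h1, one_mul, mul_assoc, h2, mul_one]
      right_inv := fun X => by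
        have h1 : g.1 * (g⁻¹ : SLtwo F).1 = 1 := congrArg Subtype.val (mul_inv_cancel g)
        have h2 : sec (g⁻¹ : SLtwo F).1 * sec g.1 = 1 := by rw [← sec_mul, h1, sec_one]
        show g.1 * ((g⁻¹ : SLtwo F).1 * X * sec (g⁻¹ : SLtwo F).1) * sec g.1 = X
        rw [← mul_assoc, ← mul_assoc, h1, one_mul, mul_assoc, h2, mul_one]
      map_add' := fun X Y => by rw [mul_add, add_mul] }

theorem act_apply (g : SLtwo F) (X : Mod F) : act g X = Multiplicative.ofAdd (g.1 * X.toAdd * sec g.1) := rfl

/-- The action as a homomorphism. -/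
def actHom : SLtwo F →* MulAut (Mod F) where
  toFun := act
  map_one' := MulEquiv.ext fun X => by
    rw [act_apply, show ((1 : SLtwo F) : SLtwo F).1 = 1 from rfl, sec_one, one_mul, mul_one]
    rfl
  map_mul' g h := MulEquiv.ext fun X => by
    rw [MulAut.mul_apply, act_apply, act_apply, act_apply, toAdd_ofAdd, show (g * h : SLtwo F).1 = g.1 * h.1 from rfl,
      sec_mul]
    simp only [mul_assoc]

theorem center_le_ker : Subgroup.center (SLtwo F) ≤ (actHom (F := F)).ker := fun z hz => by
  rcases (mem_center_iff_eq _).1 hz with rfl | rfl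
  · exact one_mem _
  · rw [MonoidHom.mem_ker]
    refine MulEquiv.ext fun X => ?_
    show act (-1) X = X
    rw [act_apply, show ((-1 : SLtwo F)).1 = -1 by simp, sec_neg_one]
    simp

/-- The action of the projective group. -/
def actP : PSLtwo F →* MulAut (Mod F) := QuotientGroup.lift _ actHom center_le_ker

/-- The signs. -/
def signHom : ℤˣ →* MulAut (Mod F) where
  toFun e := AddEquiv.toMultiplicative
    { toFun := fun X => (e : ℤ) • X
      invFun := fun X => (e : ℤ) • X
      left_inv := fun X => by show (e : ℤ) • (e : ℤ) • X = X; rw [smul_smul, Int.units_coe_mul_self, one_smul]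
      right_inv := fun X => by show (e : ℤ) • (e : ℤ) • X = X; rw [smul_smul, Int.units_coe_mul_self, one_smul]
      map_add' := fun X Y => smul_add _ X Y }
  map_one' := MulEquiv.ext fun X => by
    show Multiplicative.ofAdd (((1 : ℤˣ) : ℤ) • X.toAdd) = X
    rw [Units.val_one, one_smul]
    rfl
  map_mul' a b := MulEquiv.ext fun X => by
    show Multiplicative.ofAdd (((a * b : ℤˣ) : ℤ) • X.toAdd) = Multiplicative.ofAdd ((a : ℤ) • (b : ℤ) • X.toAdd)
    rw [Units.val_mul, smul_smul]

theorem signHom_apply (e : ℤˣ) (X : Mod F) : signHom e X = Multiplicative.ofAdd ((e : ℤ) • X.toAdd) := rfl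

theorem actP_mk (g : SLtwo F) : actP (proj g) = act g := rfl

/-- The combined action. -/
def total : PSLtwo F × ℤˣ →* MulAut (Mod F) where
  toFun l := actP l.1 * signHom l.2
  map_one' := by simp
  map_mul' a b := by
    have hc : Commute (actP b.1) (signHom (F := F) a.2) := by
      obtain ⟨g, hg⟩ := proj_surjective b.1
      rw [← hg, actP_mk]
      refine MulEquiv.ext fun X => ?_
      simp only [MulAut.mul_apply, act_apply, signHom_apply, toAdd_ofAdd, Matrix.mul_smul, Matrix.smul_mul]
    show actP (a.1 * b.1) * signHom (a.2 * b.2) = actP a.1 * signHom a.2 * (actP b.1 * signHom b.2)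
    rw [map_mul, map_mul, mul_assoc, ← mul_assoc (actP b.1), hc.eq, mul_assoc, ← mul_assoc]

theorem total_apply (g : SLtwo F) (e : ℤˣ) (X : Mod F) :
    total (proj g, e) X = Multiplicative.ofAdd ((e : ℤ) • (g.1 * X.toAdd * sec g.1)) := by
  rw [show total (proj g, e) = actP (proj g) * signHom e from rfl, actP_mk, MulAut.mul_apply, signHom_apply, act_apply, toAdd_ofAdd, Matrix.mul_smul, Matrix.smul_mul]

/-- A fixed point up to sign forces a small trace. -/
theorem trace_cases (g : SLtwo F) {ε : F} (hε : ε * ε = 1) {X : Matrix (Fin 2) (Fin 2) F} (hX : X ≠ 0)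
    (h : g.1 * X * sec g.1 = ε • X) : tr g = 0 ∨ tr g * tr g = ε := by
  set A := g.1 with hA
  set B := sec A with hB
  set t := tr g with ht
  have hAA : A * A = t • A - 1 := cayley_hamilton g
  set u := frobenius F 3 t with hu
  have hBB : B * B = u • B - 1 := by
    have e : sec (A * A) = u • B - 1 := by
      rw [hAA, sec, Matrix.map_sub _ (map_sub _), Matrix.transpose_sub,
        Matrix.map_one _ (map_zero _) (map_one _), Matrix.transpose_one,
        show (t • A).map (frobenius F 3) = u • A.map (frobenius F 3) by ext i j; simp [hu, frobenius_def, mul_pow],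
        Matrix.transpose_smul]
      rfl
    rwa [sec_mul] at e
  have hBinv : B * (u • (1 : Matrix (Fin 2) (Fin 2) F) - B) = 1 := by
    rw [mul_sub, Matrix.mul_smul, mul_one, hBB, sub_sub_cancel]
  have h2 : A * A * X * (B * B) = X := by
    calc A * A * X * (B * B) = A * (A * X * B) * B := by simp only [mul_assoc]
      _ = ε • (A * X * B) := by
        rw [h]
        rw [Matrix.mul_smul, Matrix.smul_mul, h]
      _ = X := by rw [h, smul_smul, hε, one_smul]
  have hAX : A * X = ε • (X * (u • (1 : Matrix (Fin 2) (Fin 2) F) - B)) := by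
    calc A * X = A * X * (B * (u • (1 : Matrix (Fin 2) (Fin 2) F) - B)) := by rw [hBinv, mul_one]
      _ = (A * X * B) * (u • (1 : Matrix (Fin 2) (Fin 2) F) - B) := by rw [mul_assoc (A * X)]
      _ = _ := by rw [h, Matrix.smul_mul]
  rw [hAA, hBB] at h2
  have hexp : (t • A - 1) * X * (u • B - 1) = (t * u) • (A * X * B) - t • (A * X) - u • (X * B) + X := by
    simp only [sub_mul, mul_sub, Matrix.smul_mul, Matrix.mul_smul, one_mul, mul_one, smul_smul, smul_sub]
    rw [mul_comm u t]
    abel
  rw [hexp, h, hAX, mul_sub, Matrix.mul_smul, mul_one] at h2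
  have hkey : (t * ε - u) • (X * B) = 0 := by
    have h3 := add_eq_right.1 h2
    rw [← h3]
    module
  rcases smul_eq_zero.1 hkey with h4 | h4
  · rw [sub_eq_zero, hu, frobenius_def] at h4
    rcases eq_or_ne t 0 with h0 | h0
    · exact Or.inl h0
    · exact Or.inr (mul_left_cancel₀ h0 (by rw [h4]; ring))
  · exfalso
    apply hX
    calc X = X * (B * (u • (1 : Matrix (Fin 2) (Fin 2) F) - B)) := by rw [hBinv, mul_one]
      _ = 0 := by rw [← mul_assoc, h4, zero_mul]

theorem three_eq_zero : (3 : F) = 0 := by exact_mod_cast CharP.cast_eq_zero F 3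

variable [Fintype F]

/-- No fixed points away from small orders. -/
theorem fixed_eq_one (h4 : Fintype.card F % 4 = 3) (l : PSLtwo F × ℤˣ)
    (hl : (¬ orderOf l.1 ∣ 2 ∧ ¬ orderOf l.1 ∣ 3) ∨ (l.2 = -1 ∧ orderOf l.1 ∣ 3)) (m : Mod F)
    (hm : total l m = m) : m = 1 := by
  obtain ⟨x, e⟩ := l
  obtain ⟨g, rfl⟩ := proj_surjective x
  rw [total_apply] at hm
  have hX := congrArg Multiplicative.toAdd hm
  rw [toAdd_ofAdd] at hX
  rcases hl with ⟨h2, h3⟩ | ⟨he, h3⟩
  · by_contra hne
    have hX0 : m.toAdd ≠ 0 := fun h => hne (Multiplicative.toAdd.injective h)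
    have hmul : g.1 * m.toAdd * sec g.1 = ((e : ℤ) : F) • m.toAdd := by
      conv_rhs => rw [← hX]
      rw [Int.cast_smul_eq_zsmul, smul_smul, Int.units_coe_mul_self, one_smul]
    have hε : ((e : ℤ) : F) * ((e : ℤ) : F) = 1 := by
      rw [← Int.cast_mul, Int.units_coe_mul_self, Int.cast_one]
    rcases trace_cases g hε hX0 hmul with ht | ht
    · refine h2 (orderOf_dvd_of_pow_eq_one ?_)
      have hgg : g ^ 2 = -1 := by
        apply Subtype.ext
        rw [sq, Matrix.SpecialLinearGroup.coe_mul, cayley_hamilton, ht, zero_smul, zero_sub]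
        simp
      rw [← map_pow, hgg, proj_neg, map_one]
    · refine h3 ?_
      have h20 : (2 : F) = -1 := by linear_combination (three_eq_zero : (3 : F) = 0)
      rcases Int.units_eq_one_or e with rfl | rfl
      · rw [Units.val_one, Int.cast_one] at ht
        have hu : IsUnip (proj g) := by
          rcases mul_self_eq_one_iff.1 ht with h1 | h1
          · exact ⟨-g, proj_neg g, by rw [tr_neg, h1, h20]⟩
          · exact ⟨g, rfl, by rw [h1, h20]⟩
        exact orderOf_dvd_of_unip 3 hu
      · exfalso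
        rw [Units.val_neg, Units.val_one, Int.cast_neg, Int.cast_one] at ht
        exact (FiniteField.isSquare_neg_one_iff.1 ⟨tr g, ht.symm⟩) h4
  · change e = -1 at he
    subst he
    rw [Units.val_neg, Units.val_one, neg_smul, one_smul] at hX
    have h1 : g.1 * m.toAdd * sec g.1 = -m.toAdd := neg_eq_iff_eq_neg.1 hX
    have h3' : actP (proj g) ^ 3 = 1 := by
      rw [← map_pow, orderOf_dvd_iff_pow_eq_one.1 h3, map_one]
    rw [actP_mk] at h3'
    have hs : act g m = Multiplicative.ofAdd (-m.toAdd) := by rw [act_apply, h1]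
    have hs2 : act g (Multiplicative.ofAdd (-m.toAdd)) = m := by
      rw [act_apply, toAdd_ofAdd, mul_neg, neg_mul, h1, neg_neg]
      rfl
    have h5 := DFunLike.congr_fun h3' m
    rw [pow_succ, pow_two, MulAut.mul_apply, MulAut.mul_apply, hs, hs2, hs] at h5
    have h6 : -m.toAdd = m.toAdd := congrArg Multiplicative.toAdd h5
    have h2 : (2 : F) ≠ 0 := fun h => one_ne_zero (α := F) (by linear_combination (three_eq_zero : (3 : F) = 0) - h)
    apply Multiplicative.toAdd.injective
    rw [toAdd_one]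
    ext i j
    have h7 : -(m.toAdd i j) = m.toAdd i j := congrFun (congrFun h6 i) j
    exact (mul_eq_zero.1 (show (2 : F) * m.toAdd i j = 0 by linear_combination -h7)).resolve_left h2

end

theorem mod_pow_three {F : Type} [Field F] [CharP F 3] (a : Mod F) : a ^ 3 = 1 := by
  apply Multiplicative.toAdd.injective
  rw [toAdd_pow, toAdd_one]
  ext i j
  have h3 : (3 : F) = 0 := by exact_mod_cast CharP.cast_eq_zero F 3
  simp [h3]


/-- Let q = 3^α with α ≥ 3 odd. There is a finite group H having a non-trivial normal 3-subgroup and whose element orders maximal under divisibility are exactly 6, 9, q − 1 and (q + 1)/2. -/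
theorem result (α : ℕ) (hα : 3 ≤ α) (hodd : Odd α) :
    ∃ (H : Type) (_ : Group H) (_ : Fintype H), (∃ P : Subgroup H, P.Normal ∧ P ≠ ⊥ ∧ IsPGroup 3 ↥P) ∧
      {n : ℕ | n ∈ Set.range (orderOf : H → ℕ) ∧ ∀ m ∈ Set.range (orderOf : H → ℕ), n ∣ m → m = n} = ({6, 9, 3 ^ α - 1, (3 ^ α + 1) / 2} : Set ℕ) := by
  classical
  haveI : Fact (Nat.Prime 3) := ⟨Nat.prime_three⟩
  let F := GaloisField 3 α
  haveI : Fintype F := Fintype.ofFinite F
  set q := Fintype.card F with hq
  have hqv : q = 3 ^ α := by rw [hq, ← Nat.card_eq_fintype_card, GaloisField.card 3 α (by omega)]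
  have h4 : q % 4 = 3 := by
    rw [hqv, Nat.pow_mod]
    obtain ⟨k, rfl⟩ := hodd
    simp [pow_succ, pow_mul, Nat.mul_mod, Nat.pow_mod]
  have h27 : 27 ≤ q := hqv ▸ le_trans (by norm_num) (Nat.pow_le_pow_right (show 1 ≤ 3 by norm_num) hα)
  have h3 : q % 3 = 0 := by
    rw [hqv, Nat.pow_mod]
    simp [show α ≠ 0 by omega]
  rw [← hqv]
  let H := Mod F ⋊[total (F := F)] (Lib.SL2.PSLtwo F × ℤˣ)
  haveI : Finite H := Finite.of_equiv _ SemidirectProduct.equivProd.symm
  letI : Fintype H := Fintype.ofFinite H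
  refine ⟨H, inferInstance, inferInstance, ⟨(SemidirectProduct.inl (φ := total (F := F))).range, ?_, ?_, ?_⟩, ?_⟩
  · rw [SemidirectProduct.range_inl_eq_ker_rightHom]; infer_instance
  · intro hb
    have hm : SemidirectProduct.inl (φ := total (F := F)) (Multiplicative.ofAdd (1 : Matrix (Fin 2) (Fin 2) F)) ∈
        (⊥ : Subgroup H) := hb ▸ ⟨_, rfl⟩
    rw [Subgroup.mem_bot, ← map_one (SemidirectProduct.inl (φ := total (F := F)))] at hm
    exact one_ne_zero (congrArg Multiplicative.toAdd (SemidirectProduct.inl_injective hm))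
  · rintro ⟨_, m, rfl⟩
    refine ⟨1, Subtype.ext ?_⟩
    rw [pow_one, SubmonoidClass.coe_pow]
    show _ ^ 3 = (1 : H)
    rw [← map_pow, mod_pow_three, map_one]
  -- orders
  have hg2 : Nat.gcd 2 (q - 1) = 2 := Nat.gcd_eq_left (by omega)
  have horder : ∀ x : H, orderOf x ∣ 3 * orderOf x.right ∧
      ((∀ m, total x.right m = m → m = 1) → orderOf x ∣ orderOf x.right) := by
    intro x
    set o := orderOf x.right with ho
    have hr : (x ^ o).right = 1 := by
      have := map_pow (SemidirectProduct.rightHom (φ := total (F := F))) x o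
      change (x ^ o).right = x.right ^ o at this
      rw [this, ho, pow_orderOf_eq_one]
    have e : x ^ o = SemidirectProduct.inl (x ^ o).left := SemidirectProduct.ext rfl hr
    refine ⟨orderOf_dvd_of_pow_eq_one ?_, fun hfix => orderOf_dvd_of_pow_eq_one ?_⟩
    · rw [mul_comm, pow_mul, e, ← map_pow, mod_pow_three, map_one]
    · have hc := congrArg SemidirectProduct.left ((Commute.self_pow x o).eq)
      rw [e, SemidirectProduct.mul_left, SemidirectProduct.mul_left, SemidirectProduct.left_inl,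
        SemidirectProduct.right_inl, map_one, MulAut.one_apply, mul_comm (x ^ o).left] at hc
      rw [e, hfix _ (mul_left_cancel hc), map_one]
  have hinr : ∀ l : Lib.SL2.PSLtwo F × ℤˣ, orderOf (SemidirectProduct.inr l : H) = orderOf l := fun l =>
    orderOf_injective _ SemidirectProduct.inr_injective l
  have he : ∀ e : ℤˣ, orderOf e ∣ 2 := fun e => orderOf_dvd_of_pow_eq_one (Int.units_sq e)
  have key : ∀ n ∈ Set.range (orderOf : H → ℕ), n ∣ 6 ∨ n ∣ 9 ∨ n ∣ q - 1 ∨ n ∣ (q + 1) / 2 := by
    rintro _ ⟨x, rfl⟩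
    obtain ⟨hd3, hfx⟩ := horder x
    have ho : orderOf x.right = Nat.lcm (orderOf x.right.1) (orderOf x.right.2) := Prod.orderOf x.right
    rcases Lib.SL2.semi_or_unip x.right.1 with hs | hu
    · by_cases h2 : orderOf x.right.1 ∣ 2
      · refine Or.inl (hd3.trans ?_)
        rw [ho]
        exact mul_dvd_mul_left 3 (Nat.lcm_dvd h2 (he _))
      · have h3' : ¬ orderOf x.right.1 ∣ 3 := fun h => by
          have := Nat.eq_one_of_dvd_coprimes (Lib.SL2.coprime_orderOf_of_semi 3 hs) dvd_rfl h
          exact h2 (this ▸ one_dvd 2)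
        have hd := hfx (fixed_eq_one h4 _ (Or.inl ⟨h2, h3'⟩))
        rw [ho] at hd
        have hT : orderOf x.right.1 ∣ Nat.card (Lib.SL2.torus x.right.1) := by
          have h := orderOf_dvd_natCard (⟨x.right.1, Lib.SL2.mem_torus_self _⟩ : Lib.SL2.torus x.right.1)
          rwa [Subgroup.orderOf_mk] at h
        rcases Lib.SL2.card_torus_semi hs with h | h <;> rw [h, ← hq, hg2] at hT
        · exact Or.inr (Or.inr (Or.inl (hd.trans (Nat.lcm_dvd (hT.trans ⟨2, by omega⟩) ((he _).trans ⟨(q - 1) / 2, by omega⟩)))))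
        · exact Or.inr (Or.inr (Or.inr (hd.trans (Nat.lcm_dvd hT ((he _).trans ⟨(q + 1) / 4, by omega⟩)))))
    · have h3' := Lib.SL2.orderOf_dvd_of_unip 3 hu
      rcases Int.units_eq_one_or x.right.2 with h1 | h1
      · refine Or.inr (Or.inl (hd3.trans ?_))
        rw [ho, h1, orderOf_one, Nat.lcm_one_right]
        exact mul_dvd_mul_left 3 h3'
      · refine Or.inl ((hfx (fixed_eq_one h4 _ (Or.inr ⟨h1, h3'⟩))).trans ?_)
        rw [ho]
        exact Nat.lcm_dvd (h3'.trans ⟨2, rfl⟩) ((he _).trans ⟨3, rfl⟩)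
  have hneg : orderOf (-1 : ℤˣ) = 2 := orderOf_eq_prime (Int.units_sq _) (by decide)
  have hu3 : orderOf (Lib.SL2.proj (Lib.SL2.upper (1 : F))) = 3 := by
    refine orderOf_eq_prime ?_ Lib.SL2.proj_upper_one_ne
    exact orderOf_dvd_iff_pow_eq_one.1 (Lib.SL2.orderOf_dvd_of_unip 3 (Lib.SL2.isUnip_upper 1))
  have htor : ∀ g : Lib.SL2.SLtwo F, Lib.SL2.IsSemi (Lib.SL2.proj g) →
      ∃ z : Lib.SL2.PSLtwo F, orderOf z = Nat.card (Lib.SL2.torus (Lib.SL2.proj g)) := fun g hg => by
    haveI := Lib.SL2.isCyclic_torus_semi hg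
    obtain ⟨z, hz⟩ := IsCyclic.exists_ofOrder_eq_natCard (α := Lib.SL2.torus (Lib.SL2.proj g))
    exact ⟨z.1, by rw [Subgroup.orderOf_coe, hz]⟩
  have mem : ∀ n ∈ ({6, 9, q - 1, (q + 1) / 2} : Set ℕ), n ∈ Set.range (orderOf : H → ℕ) := by
    intro n hn
    simp only [Set.mem_insert_iff, Set.mem_singleton_iff] at hn
    rcases hn with rfl | rfl | rfl | rfl
    · exact ⟨SemidirectProduct.inr (Lib.SL2.proj (Lib.SL2.upper 1), -1), by
        rw [hinr, Prod.orderOf, hu3, hneg]; rfl⟩
    · let a : Mod F := Multiplicative.ofAdd !![0, 0; 0, 1]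
      let l : Lib.SL2.PSLtwo F × ℤˣ := (Lib.SL2.proj (Lib.SL2.upper 1), 1)
      let x : H := ⟨a, l⟩
      refine ⟨x, ?_⟩
      have hne : x ^ 3 ≠ 1 := by
        intro h
        rw [pow_succ, pow_two] at h
        have h' : (a * total l a * total (l * l) a).toAdd 0 0 = 0 :=
          congrArg (fun y : H => y.left.toAdd 0 0) h
        have hl : l * l = (Lib.SL2.proj (Lib.SL2.upper 1 * Lib.SL2.upper 1), 1) :=
          Prod.ext (map_mul _ _ _).symm (one_mul 1)
        rw [hl] at h'
        simp only [l, total_apply, toAdd_mul, toAdd_ofAdd, Units.val_one, one_smul, sec, a] at h'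
        simp [Matrix.vecMul, dotProduct, Matrix.vecHead, Fin.sum_univ_two, Lib.SL2.upper] at h'
        have hh : (2 : F) ≠ 0 := fun h => one_ne_zero (α := F) (by linear_combination (three_eq_zero : (3 : F) = 0) - h)
        have h30 := (three_eq_zero : (3 : F) = 0)
        exact hh (by linear_combination h' - h30)
      have hd : orderOf x ∣ 3 ^ 2 := by
        refine ((horder x).1).trans ?_
        show 3 * orderOf l ∣ _
        rw [Prod.orderOf, hu3, orderOf_one]; rfl
      exact orderOf_eq_prime_pow (by rwa [pow_one]) (orderOf_dvd_iff_pow_eq_one.1 hd)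
    · obtain ⟨g, hg⟩ := Lib.SL2.exists_split (F := F) (by omega)
      obtain ⟨z, hz⟩ := htor g ⟨g, rfl, Or.inr hg⟩
      rw [Lib.SL2.card_torus_split hg, ← hq, hg2] at hz
      refine ⟨SemidirectProduct.inr (z, -1), ?_⟩
      rw [hinr, Prod.orderOf, hz, hneg, Nat.Coprime.lcm_eq_mul (Nat.coprime_two_right.2 (Nat.odd_iff.2 (by omega)))]
      omega
    · obtain ⟨g, hg⟩ := Lib.SL2.exists_elliptic (F := F)
      obtain ⟨z, hz⟩ := htor g ⟨g, rfl, Or.inl hg⟩
      rw [Lib.SL2.card_torus_elliptic hg, ← hq, hg2] at hz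
      exact ⟨SemidirectProduct.inr (z, 1), by rw [hinr, Prod.orderOf, hz, orderOf_one, Nat.lcm_one_right]⟩
  have key' : ∀ n ∈ Set.range (orderOf : H → ℕ), ∃ k ∈ ({6, 9, q - 1, (q + 1) / 2} : Set ℕ), n ∣ k := fun n hn => by
    rcases key n hn with h | h | h | h
    exacts [⟨6, by simp, h⟩, ⟨9, by simp, h⟩, ⟨q - 1, by simp, h⟩, ⟨(q + 1) / 2, by simp, h⟩]
  have hanti : ∀ k ∈ ({6, 9, q - 1, (q + 1) / 2} : Set ℕ), ∀ k' ∈ ({6, 9, q - 1, (q + 1) / 2} : Set ℕ),
      k ∣ k' → k = k' := by
    intro k hk k' hk' hd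
    simp only [Set.mem_insert_iff, Set.mem_singleton_iff] at hk hk'
    have hle := Nat.le_of_dvd (by rcases hk' with rfl | rfl | rfl | rfl <;> omega) hd
    rcases hk with rfl | rfl | rfl | rfl <;> rcases hk' with rfl | rfl | rfl | rfl <;>
      first
      | rfl
      | omega
      | (exfalso; obtain ⟨c, hc⟩ := hd
         have := Nat.div_add_mod (q + 1) 2
         rcases (show c = 0 ∨ c = 1 ∨ c = 2 ∨ 3 ≤ c by omega) with rfl | rfl | rfl | hc2
         · omega
         · omega
         · omega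
         · have := Nat.mul_le_mul_left ((q + 1) / 2) hc2
           first | omega | nlinarith)
  ext n
  constructor
  · rintro ⟨hn, hmax⟩
    obtain ⟨k, hk, hd⟩ := key' n hn
    rw [← hmax k (mem k hk) hd]
    exact hk
  · intro hn
    refine ⟨mem n hn, fun m hm hd => ?_⟩
    obtain ⟨k, hk, hd'⟩ := key' m hm
    exact Nat.dvd_antisymm (hanti n hn k hk (hd.trans hd') ▸ hd') hd

end Cfsg.Agent.S2515
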