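import Cfsg.Statements.S2516
import Mathlib

set_option autoImplicit false
open Cfsg

namespace Cfsg.Agent.S2516

/-- Let F be a field of characteristic p > 0, V a non-zero finite-dimensional F-vector space, G a finite group and ρ a representation of G on V; form the semidirect product V ⋊ G. For g ∈ G of order k, the coset Vg contains an element of order pk if and only if the minimal polynomial of ρ(g) does not divide 1 + X + ⋯ + X^(k−1). -/
theorem result {F : Type*} [Field F] (p : ℕ) [Fact p.Prime] [CharP F p] {V : Type*} [AddCommGroup V] [Module F V] [FiniteDimensional F V] [Nontrivial V]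
    {G : Type*} [Group G] [Finite G] (ρ : Representation F G V) (g : G) :
    (∃ x : Multiplicative V ⋊[(MulAutMultiplicative V).symm.toMonoidHom.comp
        ((DistribMulAction.toAddAut ((V →ₗ[F] V)ˣ) V).comp ρ.asGroupHom)] G,
        x.right = g ∧ orderOf x = p * orderOf g) ↔
      ¬ (minpoly F (ρ g) ∣ ∑ i ∈ Finset.range (orderOf g), (Polynomial.X : Polynomial F) ^ i) := by
  classical
  have hp : p.Prime := Fact.out
  set k := orderOf g with hk
  have hk0 : 0 < k := orderOf_pos g
  set φ := (MulAutMultiplicative V).symm.toMonoidHom.comp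
        ((DistribMulAction.toAddAut ((V →ₗ[F] V)ˣ) V).comp ρ.asGroupHom) with hφ
  have hφa : ∀ (h : G) (v : V), φ h (Multiplicative.ofAdd v) = Multiplicative.ofAdd (ρ h v) := fun h v => rfl
  have hpow : ∀ (v : V) (i : ℕ), (⟨Multiplicative.ofAdd v, g⟩ : Multiplicative V ⋊[φ] G) ^ i =
      ⟨Multiplicative.ofAdd ((∑ j ∈ Finset.range i, (ρ g) ^ j) v), g ^ i⟩ := by
    intro v i
    induction i with
    | zero =>
      refine SemidirectProduct.ext ?_ ?_ <;> simp
    | succ i ih =>
      rw [pow_succ, ih]
      refine SemidirectProduct.ext ?_ (pow_succ g i).symm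
      rw [SemidirectProduct.mul_left, hφa, ← ofAdd_add, Finset.sum_range_succ, LinearMap.add_apply, map_pow]
  have hsum : (∑ j ∈ Finset.range k, (ρ g) ^ j) = Polynomial.aeval (ρ g) (∑ j ∈ Finset.range k, (Polynomial.X : Polynomial F) ^ j) := by
    simp
  rw [minpoly.dvd_iff, ← hsum]
  have hright : ∀ (x : Multiplicative V ⋊[φ] G) (i : ℕ), (x ^ i).right = x.right ^ i := fun x i =>
    map_pow SemidirectProduct.rightHom x i
  constructor
  · rintro ⟨x, hxg, hx⟩ h0
    obtain ⟨v, g'⟩ := x
    obtain ⟨v, rfl⟩ := Multiplicative.ofAdd.surjective v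
    subst hxg
    have h1 := hpow v k
    rw [h0, LinearMap.zero_apply, ofAdd_zero, hk, pow_orderOf_eq_one] at h1
    have h2 := Nat.le_of_dvd hk0 (orderOf_dvd_of_pow_eq_one h1)
    rw [hx] at h2
    nlinarith [hp.two_le]
  · intro h0
    obtain ⟨v, hv⟩ : ∃ v, (∑ j ∈ Finset.range k, (ρ g) ^ j) v ≠ 0 := by
      by_contra hcon
      simp only [not_exists, not_not] at hcon
      exact h0 (LinearMap.ext hcon)
    refine ⟨⟨Multiplicative.ofAdd v, g⟩, rfl, ?_⟩
    set x : Multiplicative V ⋊[φ] G := ⟨Multiplicative.ofAdd v, g⟩ with hx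
    set w := (∑ j ∈ Finset.range k, (ρ g) ^ j) v with hw
    have hxk : x ^ k = SemidirectProduct.inl (Multiplicative.ofAdd w) := by
      rw [hpow]
      exact SemidirectProduct.ext rfl (pow_orderOf_eq_one g)
    have hne : x ^ k ≠ 1 := by
      rw [hxk]
      intro hc
      exact hv (Multiplicative.ofAdd.injective ((SemidirectProduct.inl_injective (hc.trans (map_one _).symm)).trans ofAdd_zero.symm))
    have hpk : x ^ (p * k) = 1 := by
      rw [mul_comm, pow_mul, hxk, ← map_pow, ← ofAdd_nsmul, ← Nat.cast_smul_eq_nsmul F, CharP.cast_eq_zero, zero_smul,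
        ofAdd_zero, map_one]
    have hd2 : k ∣ orderOf x := orderOf_map_dvd SemidirectProduct.rightHom x
    obtain ⟨c, hc⟩ := hd2
    have hd1 := orderOf_dvd_of_pow_eq_one hpk
    rw [hc, mul_comm p k] at hd1
    rcases (Nat.dvd_prime hp).1 (Nat.dvd_of_mul_dvd_mul_left hk0 hd1) with h1 | h1
    · exact absurd (orderOf_dvd_iff_pow_eq_one.1 (by rw [hc, h1, mul_one])) hne
    · rw [hc, h1, mul_comm]

end Cfsg.Agent.S2516
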