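import Cfsg.Statements.S2518
import Cfsg.Agent.Lib.G2Three.Graph
import Cfsg.Agent.Lib.G2Natural.Transport
import Cfsg.Agent.Lib.SL2.ToriExist
import Cfsg.Agent.S1059

set_option autoImplicit false
open Cfsg

namespace Cfsg.Agent.S2518

open Cfsg.Agent.Lib

theorem prime_dvd_cases {r : ℕ} (hr : r.Prime) (h : r ∣ 4245696) : r = 2 ∨ r = 3 ∨ r = 7 ∨ r = 13 := by
  rw [show 4245696 = 2 ^ 6 * 3 ^ 6 * 7 * 13 by norm_num, hr.dvd_mul, hr.dvd_mul, hr.dvd_mul,
    Nat.prime_dvd_prime_iff_eq hr (by norm_num : Nat.Prime 7),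
    Nat.prime_dvd_prime_iff_eq hr (by norm_num : Nat.Prime 13)] at h
  rcases h with ((h | h) | h) | h
  · exact Or.inl ((Nat.prime_dvd_prime_iff_eq hr Nat.prime_two).1 (hr.dvd_of_dvd_pow h))
  · exact Or.inr (Or.inl ((Nat.prime_dvd_prime_iff_eq hr Nat.prime_three).1 (hr.dvd_of_dvd_pow h)))
  · exact Or.inr (Or.inr (Or.inl h))
  · exact Or.inr (Or.inr (Or.inr h))

theorem psl_orders {E : Type*} [Field E] [Fintype E] (hE : Fintype.card E = 13) :
    (∃ y : Matrix.ProjectiveSpecialLinearGroup (Fin 2) E, orderOf y = 6) ∧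
    ∀ y : Matrix.ProjectiveSpecialLinearGroup (Fin 2) E,
      orderOf y ∣ 6 ∨ orderOf y ∣ 7 ∨ orderOf y ∣ 13 := by
  obtain ⟨p, hp⟩ := CharP.exists E
  have := hp
  obtain ⟨n, hpp, hn⟩ := FiniteField.card E p
  have h13 : p = 13 := by
    rw [hE] at hn
    exact (Nat.prime_dvd_prime_iff_eq hpp (by norm_num)).1 (hn ▸ dvd_pow_self p n.ne_zero)
  subst h13
  have := Fact.mk hpp
  refine ⟨?_, fun y => ?_⟩
  · obtain ⟨g, hg⟩ := SL2.exists_split (F := E) (by omega)
    have hs : SL2.IsSemi (SL2.proj g) := ⟨g, rfl, Or.inr hg⟩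
    have hc := SL2.card_torus_split hg
    have := SL2.isCyclic_torus_semi hs
    obtain ⟨z, hz⟩ := IsCyclic.exists_generator (α := SL2.torus (SL2.proj g))
    refine ⟨z, ?_⟩
    rw [Subgroup.orderOf_coe, orderOf_eq_card_of_forall_mem_zpowers hz, hc, hE]
    rfl
  · rcases SL2.semi_or_unip y with h | h
    · have hd := orderOf_dvd_natCard (⟨y, SL2.mem_torus_self _⟩ : SL2.torus y)
      rw [Subgroup.orderOf_mk] at hd
      rcases SL2.card_torus_semi h with e | e
      · exact Or.inl (by rw [e, hE] at hd; exact hd)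
      · exact Or.inr (Or.inl (by rw [e, hE] at hd; exact hd))
    · exact Or.inr (Or.inr (SL2.orderOf_dvd_of_unip 13 h))

theorem g2_orders {F : Type*} [Field F] [Fintype F] (hF : Fintype.card F = 3) :
    Nat.card ↥(Cfsg.Lie.chevG2.group F) = 4245696 ∧
    (∃ x : ↥(Cfsg.Lie.chevG2.group F), orderOf x = 6) ∧
    ∀ r s : ℕ, r.Prime → s.Prime → r ≠ s → ∀ x : ↥(Cfsg.Lie.chevG2.group F),
      orderOf x = r * s → r * s = 6 := by
  have hc : Nat.card ↥(Cfsg.Lie.chevG2.group F) = 4245696 := (S1059.result hF).trans (by norm_num)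
  obtain ⟨e⟩ : Nonempty (↥(Cfsg.Lie.chevG2.group F) ≃* ↥(Cfsg.Lie.chevG2.group G2Three.K)) :=
    ⟨G2Natural.groupMap Cfsg.Lie.chevG2
      (FiniteField.ringEquivOfCardEq (hF.trans (ZMod.card 3).symm) : F ≃+* G2Three.K)⟩
  have hcK : Nat.card ↥(Cfsg.Lie.chevG2.group G2Three.K) = 4245696 :=
    (Nat.card_congr e.toEquiv).symm.trans hc
  refine ⟨hc, ?_, fun r s hr hs hrs x hx => ?_⟩
  · obtain ⟨g, hg⟩ := G2Three.exists_six
    exact ⟨e.symm g, (e.symm.orderOf_eq g).trans hg⟩
  · have hdr : r ∣ 4245696 := hc ▸ ((dvd_mul_right r s).trans (hx ▸ orderOf_dvd_natCard x))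
    have hds : s ∣ 4245696 := hc ▸ ((dvd_mul_left s r).trans (hx ▸ orderOf_dvd_natCard x))
    have ho : orderOf (e.toMonoidHom x) = r * s := Eq.trans (orderOf_injective e.toMonoidHom e.injective x) hx
    obtain ⟨a, ha, ha'⟩ := G2Three.exists_isolated_seven
    obtain ⟨b, hb, hb'⟩ := G2Three.exists_isolated_thirteen
    have : Fact (Nat.Prime 7) := ⟨by norm_num⟩
    have : Fact (Nat.Prime 13) := ⟨by norm_num⟩
    have n7 : ∀ t : ℕ, t.Prime → orderOf (e.toMonoidHom x) ≠ 7 * t := fun t ht =>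
      G2Three.no_edge ht (p := 7) (m := 606528) (hcK.trans (by norm_num)) (by norm_num) a ha ha' _
    have n13 : ∀ t : ℕ, t.Prime → orderOf (e.toMonoidHom x) ≠ 13 * t := fun t ht =>
      G2Three.no_edge ht (p := 13) (m := 326592) (hcK.trans (by norm_num)) (by norm_num) b hb hb' _
    rcases prime_dvd_cases hr hdr with rfl | rfl | rfl | rfl
    · rcases prime_dvd_cases hs hds with rfl | rfl | rfl | rfl
      · exact absurd rfl hrs
      · rfl
      · exact absurd (ho.trans (mul_comm _ _)) (n7 2 hr)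
      · exact absurd (ho.trans (mul_comm _ _)) (n13 2 hr)
    · rcases prime_dvd_cases hs hds with rfl | rfl | rfl | rfl
      · rfl
      · exact absurd rfl hrs
      · exact absurd (ho.trans (mul_comm _ _)) (n7 3 hr)
      · exact absurd (ho.trans (mul_comm _ _)) (n13 3 hr)
    · exact absurd ho (n7 s hs)
    · exact absurd ho (n13 s hs)

/-- Let F₃ be the field with 3 elements and F₁₃ the field with 13 elements. The Chevalley group G₂(F₃) and PSL(2, F₁₃) have the same prime graph: the same prime divisors of their orders, and for distinct primes r, s an element of order rs in one iff in the other. -/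
theorem result {F : Type*} [Field F] [Fintype F] (hF : Fintype.card F = 3) {E : Type*} [Field E] [Fintype E] (hE : Fintype.card E = 13) :
    ((∀ r : ℕ, r.Prime → (r ∣ Nat.card ↥(Cfsg.Lie.chevG2.group F) ↔ r ∣ Nat.card (Matrix.ProjectiveSpecialLinearGroup (Fin 2) E))) ∧
      (∀ r s : ℕ, r.Prime → s.Prime → r ≠ s → ((∃ x : ↥(Cfsg.Lie.chevG2.group F), orderOf x = r * s) ↔ (∃ y : (Matrix.ProjectiveSpecialLinearGroup (Fin 2) E), orderOf y = r * s)))) := by
  obtain ⟨hG, hG6, hGe⟩ := g2_orders hF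
  obtain ⟨hL6, hLe⟩ := psl_orders hE
  have hL : Nat.card (Matrix.ProjectiveSpecialLinearGroup (Fin 2) E) = 1092 := by
    rw [SL2.card_PSL, hE]; rfl
  refine ⟨fun r hr => ?_, fun r s hr hs hrs => ⟨?_, ?_⟩⟩
  · rw [hG, hL]
    constructor
    · intro h
      rcases prime_dvd_cases hr h with rfl | rfl | rfl | rfl <;> norm_num
    · intro h
      exact h.trans (by norm_num)
  · rintro ⟨x, hx⟩
    rw [hGe r s hr hs hrs x hx]
    exact hL6
  · rintro ⟨y, hy⟩
    suffices r * s = 6 by rw [this]; exact hG6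
    have hn : ¬ (r * s).Prime := Nat.not_prime_mul hr.ne_one hs.ne_one
    rcases hLe y with h | h | h <;> rw [hy] at h
    · have d := Nat.mem_divisors.2 ⟨h, (by norm_num : (6 : ℕ) ≠ 0)⟩
      rw [show Nat.divisors 6 = {1, 2, 3, 6} by decide] at d
      simp only [Finset.mem_insert, Finset.mem_singleton] at d
      rcases d with d | d | d | d
      · exact absurd (Nat.eq_one_of_mul_eq_one_right d) hr.ne_one
      · exact absurd (d ▸ Nat.prime_two) hn
      · exact absurd (d ▸ Nat.prime_three) hn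
      · exact d
    · rcases (Nat.dvd_prime (by norm_num : Nat.Prime 7)).1 h with d | d
      · exact absurd (Nat.eq_one_of_mul_eq_one_right d) hr.ne_one
      · exact absurd (d ▸ (by norm_num : Nat.Prime 7)) hn
    · rcases (Nat.dvd_prime (by norm_num : Nat.Prime 13)).1 h with d | d
      · exact absurd (Nat.eq_one_of_mul_eq_one_right d) hr.ne_one
      · exact absurd (d ▸ (by norm_num : Nat.Prime 13)) hn

end Cfsg.Agent.S2518
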