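import Cfsg.Statements.S2519
import Cfsg.Agent.Lib.G2Spectrum.Main

set_option autoImplicit false
open Cfsg Cfsg.Agent.Lib.G2Spectrum

namespace Cfsg.Agent.S2519

/-- Let F be a finite field of odd order q = p^a ≥ 5. The element orders of the Chevalley group G₂(F) that are maximal under divisibility are exactly p(q + 1), p(q − 1), q² − 1, q² + q + 1, q² − q + 1, together with p² when p is 3 or 5. -/
theorem result {F : Type*} [Field F] [Fintype F] (p a : ℕ) (hp : p.Prime) (hp2 : p ≠ 2) (ha : 1 ≤ a) (hF : Fintype.card F = p ^ a) (hq5 : 5 ≤ Fintype.card F) :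
    {n : ℕ | n ∈ Set.range (orderOf : ↥(Cfsg.Lie.chevG2.group F) → ℕ) ∧ ∀ m ∈ Set.range (orderOf : ↥(Cfsg.Lie.chevG2.group F) → ℕ), n ∣ m → m = n} =
      ({p * (p ^ a + 1), p * (p ^ a - 1), p ^ (2 * a) - 1, p ^ (2 * a) + p ^ a + 1, p ^ (2 * a) - p ^ a + 1} : Set ℕ) ∪
        (if p = 3 ∨ p = 5 then ({p ^ 2} : Set ℕ) else ∅) := by
  classical
  haveI : Fact p.Prime := ⟨hp⟩
  haveI : CharP F p := charP_of_card_eq_prime_pow hF
  rw [range_orderOf_eq, show p ^ (2 * a) = (p ^ a) ^ 2 by rw [← pow_mul, mul_comm]]
  set q := Fintype.card F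
  rw [← hF]
  refine maximal_eq ?_ ?_ fun x hx y hy => antichain_odd hp hp2 (hF ▸ dvd_pow_self p (by omega)) hq5 x ?_ y ?_
  · intro n hn
    rcases hn with hn | hn
    · exact mem_range_common p n hn
    · split_ifs at hn with h35
      · rw [Set.mem_singleton_iff] at hn
        subst hn
        rcases h35 with rfl | rfl
        · exact exists_g2_order9 F
        · exact exists_g2_order25 F
      · exact hn.elim
  · rintro n ⟨g, rfl⟩
    rcases orderOf_dvd (p := p) g with h | h | h | h | h | ⟨h2, -⟩ | ⟨h35, h⟩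
    iterate 5 exact ⟨_, Or.inl (by simp [q]), h⟩
    · exact absurd h2 hp2
    · exact ⟨_, Or.inr (by rw [if_pos h35]; rfl), h⟩
  all_goals
    first
      | (rcases hx with hx | hx
         · simp only [Set.mem_insert_iff, Set.mem_singleton_iff] at hx ⊢; tauto
         · split_ifs at hx with h35
           · simp only [Set.mem_insert_iff, Set.mem_singleton_iff] at hx ⊢; tauto
           · exact hx.elim)
      | (rcases hy with hy | hy
         · simp only [Set.mem_insert_iff, Set.mem_singleton_iff] at hy ⊢; tauto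
         · split_ifs at hy with h35
           · simp only [Set.mem_insert_iff, Set.mem_singleton_iff] at hy ⊢; tauto
           · exact hy.elim)

end Cfsg.Agent.S2519
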