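import Cfsg.Statements.S2520
import Cfsg.Agent.Lib.G2Spectrum.Main

set_option autoImplicit false
open Cfsg Cfsg.Agent.Lib.G2Spectrum

namespace Cfsg.Agent.S2520

/-- Let F be a finite field with q = 2^a ≥ 4 elements and G₂(F) the Chevalley group of type G₂ over it. Every element order of G₂(F) maximal under divisibility lies in the set {8, 12, 2(q + 1), 2(q − 1), q² − 1, q² + q + 1, q² − q + 1}, and every member of that set is an element order of G₂(F). -/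
theorem result {F : Type*} [Field F] [Fintype F] (a : ℕ) (ha : 2 ≤ a) (hF : Fintype.card F = 2 ^ a) :
    {n : ℕ | n ∈ Set.range (orderOf : ↥(Cfsg.Lie.chevG2.group F) → ℕ) ∧ ∀ m ∈ Set.range (orderOf : ↥(Cfsg.Lie.chevG2.group F) → ℕ), n ∣ m → m = n} ⊆ ({8, 12, 2 * (2 ^ a + 1), 2 * (2 ^ a - 1), 2 ^ (2 * a) - 1, 2 ^ (2 * a) + 2 ^ a + 1, 2 ^ (2 * a) - 2 ^ a + 1} : Set ℕ) ∧
    ({8, 12, 2 * (2 ^ a + 1), 2 * (2 ^ a - 1), 2 ^ (2 * a) - 1, 2 ^ (2 * a) + 2 ^ a + 1, 2 ^ (2 * a) - 2 ^ a + 1} : Set ℕ) ⊆ Set.range (orderOf : ↥(Cfsg.Lie.chevG2.group F) → ℕ) := by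
  haveI : Fact (Nat.Prime 2) := ⟨Nat.prime_two⟩
  haveI : CharP F 2 := charP_of_card_eq_prime_pow hF
  rw [range_orderOf_eq, show 2 ^ (2 * a) = (2 ^ a) ^ 2 by rw [← pow_mul, mul_comm]]
  have hsub : ({8, 12, 2 * (2 ^ a + 1), 2 * (2 ^ a - 1), (2 ^ a) ^ 2 - 1, (2 ^ a) ^ 2 + 2 ^ a + 1,
      (2 ^ a) ^ 2 - 2 ^ a + 1} : Set ℕ) ⊆ Set.range (orderOf : ↥(Cfsg.Lie.G2 F) → ℕ) := by
    intro n hn
    have hc := mem_range_common (F := F) 2
    rw [hF] at hc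
    simp only [Set.mem_insert_iff, Set.mem_singleton_iff] at hn hc
    rcases hn with rfl | rfl | h | h | h | h | h
    · exact exists_g2_order8 F
    · exact exists_g2_order12 F
    all_goals exact hc n (by simp [h])
  refine ⟨maximal_subset hsub ?_, hsub⟩
  rintro n ⟨g, rfl⟩
  have h := orderOf_dvd (p := 2) g
  rw [hF] at h
  rcases h with h | h | h | h | h | ⟨-, h | h⟩ | ⟨h35, -⟩
  iterate 7 exact ⟨_, by simp, h⟩
  omega

end Cfsg.Agent.S2520
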