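import Cfsg.Statements.S2521
import Mathlib

set_option autoImplicit false
open Cfsg

namespace Cfsg.Agent.S2521

/-- Let B be a finite group that is the semidirect product of a nilpotent normal subgroup U by an abelian subgroup T (U ∩ T = 1, UT = B), and let t ∈ T have centralizer exactly T. Then every element of the coset tU is conjugate to t in B: for each u ∈ U there is b ∈ B with b t b⁻¹ = t u. -/
theorem result {B : Type*} [Group B] [Finite B] (U T : Subgroup B) [U.Normal] (hU : Group.IsNilpotent ↥U) (hT : IsMulCommutative ↥T)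
    (hcompl : Subgroup.IsComplement' U T) (t : B) (ht : t ∈ T) (hreg : Subgroup.centralizer ({t} : Set B) = T) (u : B) (hu : u ∈ U) :
    ∃ b : B, b * t * b⁻¹ = t * u := by
  have hmem : ∀ b : U, t⁻¹ * (b.1 * t * b.1⁻¹) ∈ U := by
    intro b
    have h1 : t⁻¹ * b.1 * t ∈ U := by simpa using (inferInstance : U.Normal).conj_mem b.1 b.2 t⁻¹
    simpa [mul_assoc] using U.mul_mem h1 (U.inv_mem b.2)
  have hinj : Function.Injective (fun b : U => (⟨_, hmem b⟩ : U)) := by
    intro a b h
    have h1 : a.1 * t * a.1⁻¹ = b.1 * t * b.1⁻¹ := mul_left_cancel (congrArg Subtype.val h)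
    have h2 : b.1⁻¹ * a.1 ∈ Subgroup.centralizer ({t} : Set B) := by
      rw [Subgroup.mem_centralizer_singleton_iff]
      calc b.1⁻¹ * a.1 * t = b.1⁻¹ * (a.1 * t * a.1⁻¹) * a.1 := by group
        _ = t * (b.1⁻¹ * a.1) := by rw [h1]; group
    rw [hreg] at h2
    have h3 := hcompl.disjoint.le_bot ⟨U.mul_mem (U.inv_mem b.2) a.2, h2⟩
    rw [Subgroup.mem_bot, inv_mul_eq_one] at h3
    exact Subtype.ext h3.symm
  obtain ⟨b, hb⟩ := Finite.injective_iff_surjective.1 hinj ⟨u, hu⟩
  have hb' : t⁻¹ * (b.1 * t * b.1⁻¹) = u := congrArg Subtype.val hb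
  exact ⟨b.1, by rw [← hb']; group⟩

end Cfsg.Agent.S2521
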