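import Cfsg.Statements.S2525
import Cfsg.Agent.Lib.H59.F4Graph.Pairs
import Cfsg.Agent.Lib.H59.F4Graph.Subgroup
import Cfsg.Agent.Lib.H59.F4Graph.SingleCent

set_option autoImplicit false
open Cfsg

namespace Cfsg.Agent.S2525

open Cfsg.Lie Cfsg.Agent.Lib.Chev Cfsg.Agent.Lib.H59.F4Graph Cfsg.Agent.Lib.H59.Homocyclic

/-- An element of the product order is the same as a commuting pair. -/
theorem pair_iff {G : Type*} [Group G] {r s : ℕ} (hr : r.Prime) (hs : s.Prime) (hrs : r ≠ s) :
    (∃ x : G, orderOf x = r * s) ↔ ∃ x y : G, orderOf x = r ∧ orderOf y = s ∧ Commute x y := by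
  constructor
  · rintro ⟨z, hz⟩
    refine ⟨z ^ s, z ^ r, ?_, ?_, (Commute.refl z).pow_pow _ _⟩
    · rw [orderOf_pow' z hs.ne_zero, hz, Nat.gcd_eq_right (dvd_mul_left s r), Nat.mul_div_cancel _ hs.pos]
    · rw [orderOf_pow' z hr.ne_zero, hz, Nat.gcd_eq_right (dvd_mul_right r s), Nat.mul_div_cancel_left _ hr.pos]
  · rintro ⟨x, y, hx, hy, h⟩
    exact ⟨x * y, by rw [h.orderOf_mul_eq_mul_orderOf_of_coprime
      (by rw [hx, hy]; exact (Nat.coprime_primes hr hs).2 hrs), hx, hy]⟩

theorem dvd_pow_sub_one_iff {q r d : ℕ} [Fact r.Prime] (hq : 1 ≤ q) :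
    r ∣ q ^ d - 1 ↔ orderOf (q : ZMod r) ∣ d := by
  rw [orderOf_dvd_iff_pow_eq_one, ← ZMod.natCast_eq_zero_iff, Nat.cast_sub (Nat.one_le_pow _ _ hq),
    Nat.cast_pow, Nat.cast_one, sub_eq_zero]

/-- The value of a cyclotomic polynomial. -/
noncomputable def phiVal (l q : ℕ) : ℕ := ((Polynomial.cyclotomic l ℤ).eval (q : ℤ)).natAbs

theorem dvd_phiVal_iff {l q p : ℕ} : p ∣ phiVal l q ↔ (Polynomial.cyclotomic l (ZMod p)).eval (q : ZMod p) = 0 := by
  rw [phiVal, ← Int.natCast_dvd, ← ZMod.intCast_zmod_eq_zero_iff_dvd, ← Polynomial.map_cyclotomic_int l (ZMod p),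
    Polynomial.eval_natCast_map]
  simp

theorem not_two_dvd_phiVal {l q : ℕ} (hl : 1 < l) (hq : 2 ∣ q) : ¬ 2 ∣ phiVal l q := by
  rw [dvd_phiVal_iff, (ZMod.natCast_eq_zero_iff q 2).2 hq, ← Polynomial.coeff_zero_eq_eval_zero,
    Polynomial.cyclotomic_coeff_zero _ hl]
  decide

theorem not_three_dvd_phiVal {q : ℕ} : ¬ 3 ∣ phiVal 12 q := by
  haveI : Fact (Nat.Prime 3) := ⟨Nat.prime_three⟩
  rw [dvd_phiVal_iff]
  intro h
  have e : Polynomial.expand (ZMod 3) 2 (Polynomial.cyclotomic 6 (ZMod 3)) = Polynomial.cyclotomic 12 (ZMod 3) :=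
    Polynomial.cyclotomic_expand_eq_cyclotomic Nat.prime_two (by norm_num) _
  rw [← e, Polynomial.expand_eval] at h
  by_cases h0 : (q : ZMod 3) = 0
  · rw [h0, zero_pow (by norm_num), ← Polynomial.coeff_zero_eq_eval_zero,
      Polynomial.cyclotomic_coeff_zero _ (by norm_num)] at h
    exact one_ne_zero h
  · have h1 : (q : ZMod 3) ^ 2 = 1 := ZMod.pow_card_sub_one_eq_one h0
    rw [h1, Polynomial.eval_one_cyclotomic_not_prime_pow] at h
    · exact one_ne_zero h
    · intro p hp k e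
      have h2 : p = 2 := ((Nat.prime_dvd_prime_iff_eq Nat.prime_two hp).1
        (Nat.prime_two.dvd_of_dvd_pow (e ▸ (by norm_num : 2 ∣ 6)))).symm
      have h3 : p = 3 := ((Nat.prime_dvd_prime_iff_eq Nat.prime_three hp).1
        (Nat.prime_three.dvd_of_dvd_pow (e ▸ (by norm_num : 3 ∣ 6)))).symm
      omega

theorem dvd_phiVal_of_order {l q s : ℕ} [Fact s.Prime] (hls : ¬ s ∣ l) (h : orderOf (q : ZMod s) = l) :
    s ∣ phiVal l q := by
  haveI : NeZero (l : ZMod s) := ⟨by rwa [Ne, ZMod.natCast_eq_zero_iff]⟩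
  rw [dvd_phiVal_iff]
  exact Polynomial.isRoot_cyclotomic_iff.2 (h ▸ IsPrimitiveRoot.orderOf _)

section

variable {F : Type*} [Field F] [Fintype F]

/-- The possible orders of `q` modulo an odd prime divisor of the group order. -/
theorem order_mem {s : ℕ} [Fact s.Prime] (hsq : ¬ s ∣ Fintype.card F) (hsG : s ∣ Nat.card ↥(chevF4.group F)) :
    orderOf (Fintype.card F : ZMod s) ∈ ({1, 2, 3, 4, 6, 8, 12} : Finset ℕ) := by
  have hp : s.Prime := Fact.out
  have h1 : 1 ≤ Fintype.card F := Fintype.card_pos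
  rw [card_groupF4] at hsG
  have key : ∀ d, 0 < d → d ∈ ({2, 6, 8, 12} : Finset ℕ) → s ∣ Fintype.card F ^ d - 1 →
      orderOf (Fintype.card F : ZMod s) ∈ ({1, 2, 3, 4, 6, 8, 12} : Finset ℕ) := by
    intro d hd0 hd h
    rw [dvd_pow_sub_one_iff h1] at h
    have hle := Nat.le_of_dvd hd0 h
    generalize orderOf (Fintype.card F : ZMod s) = e at h hle ⊢
    simp only [Finset.mem_insert, Finset.mem_singleton] at hd ⊢
    rcases hd with rfl | rfl | rfl | rfl <;> interval_cases e <;> simp_all (config := { decide := true })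
  rcases (Nat.Prime.dvd_mul hp).1 hsG with h | h
  · exact absurd (hp.dvd_of_dvd_pow h) hsq
  rcases (Nat.Prime.dvd_mul hp).1 h with h | h
  · exact key 2 (by norm_num) (by decide) h
  rcases (Nat.Prime.dvd_mul hp).1 h with h | h
  · exact key 6 (by norm_num) (by decide) h
  rcases (Nat.Prime.dvd_mul hp).1 h with h | h
  · exact key 8 (by norm_num) (by decide) h
  · exact key 12 (by norm_num) (by decide) h

/-- The centraliser of an element whose prime order has `q` of order eight or twelve. -/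
theorem centralizer_big {s l : ℕ} [Fact s.Prime] (hl : l = 8 ∨ l = 12) (hq : 2 ∣ Fintype.card F)
    (hls : orderOf (Fintype.card F : ZMod s) = l) (y : ↥(chevF4.group F)) (hy : orderOf y = s) :
    Nat.card ↥(Subgroup.centralizer ({y} : Set ↥(chevF4.group F))) = phiVal l (Fintype.card F) := by
  have hp : s.Prime := Fact.out
  have hne : (Fintype.card F : ZMod s) ≠ 0 := fun e => by
    rw [e, orderOf_zero] at hls; omega
  have hdvd : l ∣ s - 1 := hls ▸ ZMod.orderOf_dvd_card_sub_one hne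
  have h5 : l < s := by
    have := Nat.le_of_dvd (by have := hp.two_le; omega) hdvd
    omega
  have hsl : ¬ s ∣ l := fun h => by have := Nat.le_of_dvd (by omega) h; omega
  exact (centralizer_element rootedF4 F4.smith_ok F4.chain_ok F4.poly_ok (by decide +kernel) (by decide +kernel)
    sd_one l (by omega) (by rcases hl with rfl | rfl <;> decide +kernel) (by rcases hl with rfl | rfl <;> decide)
    s (dvd_phiVal_of_order hsl hls) hsl (not_dvd_degs (by omega))
    (fun m hm hml hm2 => by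
      have hm' : m ∣ phiVal l (Fintype.card F) := (dvd_pow_self m two_ne_zero).trans hm2
      have hmm : m = 2 ∨ (m = 3 ∧ l = 12) := by
        have := Nat.le_of_dvd (by omega) hml
        rcases hl with rfl | rfl <;> interval_cases m <;> simp_all (config := { decide := true })
      rcases hmm with rfl | ⟨rfl, rfl⟩
      · exact not_two_dvd_phiVal (by omega) hq hm'
      · exact not_three_dvd_phiVal hm') y hy).2

/-- With one order eight or twelve, the primes are adjacent exactly when the orders agree. -/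
theorem adj_big {r s l : ℕ} [Fact r.Prime] [Fact s.Prime] (hl : l = 8 ∨ l = 12) (hq : 2 ∣ Fintype.card F)
    (hls : orderOf (Fintype.card F : ZMod s) = l) (hsG : s ∣ Nat.card ↥(chevF4.group F)) :
    (∃ x y : ↥(chevF4.group F), orderOf x = r ∧ orderOf y = s ∧ Commute x y) ↔
      r ≠ 2 ∧ orderOf (Fintype.card F : ZMod r) = l := by
  have hp : r.Prime := Fact.out
  constructor
  · rintro ⟨x, y, hx, hy, h⟩
    have h1 : r ∣ phiVal l (Fintype.card F) := by
      rw [← centralizer_big hl hq hls y hy, ← hx]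
      have hmem : x ∈ Subgroup.centralizer ({y} : Set ↥(chevF4.group F)) :=
        Subgroup.mem_centralizer_singleton_iff.2 h.eq
      exact Subgroup.orderOf_coe (⟨x, hmem⟩ : ↥(Subgroup.centralizer ({y} : Set ↥(chevF4.group F)))) ▸
        orderOf_dvd_natCard _
    have hr2 : r ≠ 2 := by rintro rfl; exact not_two_dvd_phiVal (by omega) hq h1
    refine ⟨hr2, isRoot_cyclotomic_order ?_ (dvd_phiVal_iff.1 h1)⟩
    intro hd
    have := Nat.le_of_dvd (by omega) hd
    rcases hl with rfl | rfl <;> interval_cases r <;> simp_all (config := { decide := true }) [not_three_dvd_phiVal]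
  · rintro ⟨hr2, hr⟩
    obtain ⟨y, hy⟩ := exists_prime_orderOf_dvd_card' s hsG
    have hne : (Fintype.card F : ZMod r) ≠ 0 := fun e => by
      rw [e, orderOf_zero] at hr; omega
    have hlt : l < r := by
      have := Nat.le_of_dvd (by have := hp.two_le; omega) (hr ▸ ZMod.orderOf_dvd_card_sub_one hne)
      omega
    have h1 : r ∣ Nat.card ↥(Subgroup.centralizer ({y} : Set ↥(chevF4.group F))) := by
      rw [centralizer_big hl hq hls y hy]
      exact dvd_phiVal_of_order (fun h => by have := Nat.le_of_dvd (by omega) h; omega) hr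
    obtain ⟨x, hx⟩ := exists_prime_orderOf_dvd_card' r h1
    exact ⟨x, y, by rw [Subgroup.orderOf_coe, hx], hy, Subgroup.mem_centralizer_singleton_iff.1 x.2⟩

/-- Small orders commute with the rank one part. -/
theorem adj_mixed [CharP F 2] {r s : ℕ} [Fact r.Prime] [Fact s.Prime]
    (hr : r = 2 ∨ orderOf (Fintype.card F : ZMod r) ∈ ({1, 2} : Finset ℕ)) (hq : 2 ∣ Fintype.card F)
    (hsq : ¬ s ∣ Fintype.card F) (hs : orderOf (Fintype.card F : ZMod s) ∈ ({1, 2, 3, 4, 6} : Finset ℕ)) :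
    ∃ x y : ↥(chevF4.group F), orderOf x = r ∧ orderOf y = s ∧ Commute x y := by
  have h1 : 1 ≤ Fintype.card F := Fintype.card_pos
  refine exists_commute_mixed ?_ hsq ?_
  · rcases hr with rfl | hr
    · exact dvd_mul_of_dvd_left hq _
    · refine dvd_mul_of_dvd_right ((dvd_pow_sub_one_iff h1).2 ?_) _
      simp only [Finset.mem_insert, Finset.mem_singleton] at hr
      rcases hr with e | e <;> rw [e] <;> norm_num
  · simp only [Finset.mem_insert, Finset.mem_singleton] at hs
    rcases hs with e | e | e | e | e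
    · exact dvd_mul_of_dvd_left ((dvd_pow_sub_one_iff h1).2 (by rw [e]; norm_num)) _
    · exact dvd_mul_of_dvd_left ((dvd_pow_sub_one_iff h1).2 (by rw [e]; norm_num)) _
    · exact dvd_mul_of_dvd_right ((dvd_pow_sub_one_iff h1).2 (by rw [e]; norm_num)) _
    · exact dvd_mul_of_dvd_left ((dvd_pow_sub_one_iff h1).2 (by rw [e])) _
    · exact dvd_mul_of_dvd_right ((dvd_pow_sub_one_iff h1).2 (by rw [e])) _

end

/-- Let F be a finite field with q = 2^n elements and G = F₄(F). For an odd prime r let e(r, q) be the multiplicative order of q modulo r. Two distinct primes r, s dividing the order of G are non-adjacent in the prime graph of G (no element of order rs) if and only if, up to swapping r and s, either r = 2 and e(s, q) ∈ {8, 12}, or r, s are both odd with k = e(r, q) < l = e(s, q) and one of: l ∈ {8, 12}; l = 6 and k ∈ {3, 4}; l = 4 and k = 3. -/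
theorem result {F : Type*} [Field F] [Fintype F] (n : ℕ) (hn : 1 ≤ n) (hF : Fintype.card F = 2 ^ n)
    (r s : ℕ) (hr : r.Prime) (hs : s.Prime) (hrs : r ≠ s) (hrG : r ∣ Nat.card ↥(Cfsg.Lie.chevF4.group F)) (hsG : s ∣ Nat.card ↥(Cfsg.Lie.chevF4.group F)) :
    (¬ ∃ x : ↥(Cfsg.Lie.chevF4.group F), orderOf x = r * s) ↔
      ((r = 2 ∧ orderOf ((Fintype.card F : ℕ) : ZMod s) ∈ ({8, 12} : Finset ℕ)) ∨ (s = 2 ∧ orderOf ((Fintype.card F : ℕ) : ZMod r) ∈ ({8, 12} : Finset ℕ)) ∨
       (r ≠ 2 ∧ s ≠ 2 ∧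
         ((orderOf ((Fintype.card F : ℕ) : ZMod r) < orderOf ((Fintype.card F : ℕ) : ZMod s) ∧ (orderOf ((Fintype.card F : ℕ) : ZMod s) ∈ ({8, 12} : Finset ℕ) ∨ (orderOf ((Fintype.card F : ℕ) : ZMod s) = 6 ∧ orderOf ((Fintype.card F : ℕ) : ZMod r) ∈ ({3, 4} : Finset ℕ)) ∨ (orderOf ((Fintype.card F : ℕ) : ZMod s) = 4 ∧ orderOf ((Fintype.card F : ℕ) : ZMod r) = 3))) ∨
          (orderOf ((Fintype.card F : ℕ) : ZMod s) < orderOf ((Fintype.card F : ℕ) : ZMod r) ∧ (orderOf ((Fintype.card F : ℕ) : ZMod r) ∈ ({8, 12} : Finset ℕ) ∨ (orderOf ((Fintype.card F : ℕ) : ZMod r) = 6 ∧ orderOf ((Fintype.card F : ℕ) : ZMod s) ∈ ({3, 4} : Finset ℕ)) ∨ (orderOf ((Fintype.card F : ℕ) : ZMod r) = 4 ∧ orderOf ((Fintype.card F : ℕ) : ZMod s) = 3)))))) := by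
  classical
  haveI : Fact r.Prime := ⟨hr⟩
  haveI : Fact s.Prime := ⟨hs⟩
  haveI : Fact (Nat.Prime 2) := ⟨Nat.prime_two⟩
  haveI : CharP F 2 := by
    obtain ⟨p, hpc⟩ := CharP.exists F
    haveI := hpc
    haveI : Fact p.Prime := ⟨CharP.char_is_prime F p⟩
    obtain ⟨m, hp, hm⟩ := FiniteField.card F p
    have h2 : p = 2 := by
      have : p ∣ 2 ^ n := hF ▸ hm ▸ dvd_pow_self p m.ne_zero
      exact (Nat.prime_dvd_prime_iff_eq hp Nat.prime_two).1 (hp.dvd_of_dvd_pow this)
    exact h2 ▸ hpc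
  have hq2 : 2 ∣ Fintype.card F := hF ▸ dvd_pow_self 2 (by omega)
  have hodd : ∀ p : ℕ, p.Prime → p ≠ 2 → ¬ p ∣ Fintype.card F := fun p hp hp2 h =>
    hp2 ((Nat.prime_dvd_prime_iff_eq hp Nat.prime_two).1 (hp.dvd_of_dvd_pow (hF ▸ h)))
  have hsymm : ∀ a b : ℕ, (∃ x y : ↥(chevF4.group F), orderOf x = a ∧ orderOf y = b ∧ Commute x y) →
      ∃ x y : ↥(chevF4.group F), orderOf x = b ∧ orderOf y = a ∧ Commute x y :=
    fun a b ⟨x, y, hx, hy, h⟩ => ⟨y, x, hy, hx, h.symm⟩
  have h5 : ∀ p : ℕ, p.Prime → (orderOf (Fintype.card F : ZMod p) = 3 ∨ orderOf (Fintype.card F : ZMod p) = 4 ∨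
      orderOf (Fintype.card F : ZMod p) = 6) → p ≠ 2 → 5 ≤ p := by
    intro p hp he hp2
    haveI : Fact p.Prime := ⟨hp⟩
    have hd := ZMod.orderOf_dvd_card_sub_one (p := p)
      (fun e => hodd p hp hp2 ((ZMod.natCast_eq_zero_iff _ _).1 e))
    have h2 := hp.two_le
    have hle := Nat.le_of_dvd (by omega) hd
    have h4 : p ≠ 4 := fun e => by subst e; norm_num at hp
    omega
  rw [pair_iff hr hs hrs]
  by_cases hr2 : r = 2
  · subst hr2
    have hs2 : s ≠ 2 := hrs.symm
    have hm := order_mem (hodd s hs hs2) hsG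
    generalize hl : orderOf (Fintype.card F : ZMod s) = l at hm ⊢
    by_cases hb : l = 8 ∨ l = 12
    · rw [adj_big hb hq2 hl hsG]
      rcases hb with rfl | rfl <;> simp
    · have hsm : l ∈ ({1, 2, 3, 4, 6} : Finset ℕ) := by
        simp only [Finset.mem_insert, Finset.mem_singleton] at hm ⊢; omega
      have := adj_mixed (r := 2) (Or.inl rfl) hq2 (hodd s hs hs2) (hl ▸ hsm)
      simp only [Finset.mem_insert, Finset.mem_singleton, hs2, false_and, ne_eq, not_true, false_and, or_false,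
        true_and]
      exact iff_of_false (not_not.2 this) (by omega)
  by_cases hs2 : s = 2
  · subst hs2
    have hm := order_mem (hodd r hr hr2) hrG
    generalize hl : orderOf (Fintype.card F : ZMod r) = l at hm ⊢
    by_cases hb : l = 8 ∨ l = 12
    · refine iff_of_true (fun h => ((adj_big hb hq2 hl hrG).1 (hsymm _ _ h)).1 rfl) (Or.inr (Or.inl ⟨rfl, ?_⟩))
      simpa using hb
    · have hsm : l ∈ ({1, 2, 3, 4, 6} : Finset ℕ) := by
        simp only [Finset.mem_insert, Finset.mem_singleton] at hm ⊢; omega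
      have := hsymm _ _ (adj_mixed (r := 2) (Or.inl rfl) hq2 (hodd r hr hr2) (hl ▸ hsm))
      simp only [Finset.mem_insert, Finset.mem_singleton, hr2, false_and, ne_eq, not_true, and_false, or_false,
        false_or, true_and]
      exact iff_of_false (not_not.2 this) (by omega)
  have hmr := order_mem (hodd r hr hr2) hrG
  have hms := order_mem (hodd s hs hs2) hsG
  simp only [hr2, hs2, false_and, false_or, ne_eq, not_false_iff, true_and]
  generalize hk : orderOf (Fintype.card F : ZMod r) = k at hmr ⊢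
  generalize hl : orderOf (Fintype.card F : ZMod s) = l at hms ⊢
  simp only [Finset.mem_insert, Finset.mem_singleton] at hmr hms ⊢
  by_cases hbl : l = 8 ∨ l = 12
  · rw [adj_big hbl hq2 hl hsG, hk]
    constructor
    · intro h
      have hne : k ≠ l := fun e => h ⟨hr2, e⟩
      omega
    · rintro h ⟨-, e⟩
      omega
  by_cases hbk : k = 8 ∨ k = 12
  · refine iff_of_true (fun h => ?_) (by omega)
    have := ((adj_big hbk hq2 hk hrG).1 (hsymm _ _ h)).2
    omega
  by_cases hk2 : k = 1 ∨ k = 2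
  · refine iff_of_false (not_not.2 (adj_mixed (Or.inr (by rw [hk]; simpa using hk2)) hq2 (hodd s hs hs2) ?_))
      (by omega)
    rw [hl]; simp only [Finset.mem_insert, Finset.mem_singleton]; omega
  by_cases hl2 : l = 1 ∨ l = 2
  · refine iff_of_false (not_not.2 (hsymm _ _
      (adj_mixed (Or.inr (by rw [hl]; simpa using hl2)) hq2 (hodd r hr hr2) ?_))) (by omega)
    rw [hk]; simp only [Finset.mem_insert, Finset.mem_singleton]; omega
  have hk3 : k = 3 ∨ k = 4 ∨ k = 6 := by omega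
  have hl3 : l = 3 ∨ l = 4 ∨ l = 6 := by omega
  have hr5 := h5 r hr (hk.symm ▸ hk3) hr2
  have hs5 := h5 s hs (hl.symm ▸ hl3) hs2
  by_cases hkl : k = l
  · subst hkl
    exact iff_of_false (not_not.2 (exists_commute hr5 hs5 hk3 (hodd s hs hs2) hsG hk hl)) (by omega)
  · refine iff_of_true ?_ (by omega)
    rintro ⟨x, y, hx, hy, h⟩
    exact not_commute hr5 hs5 hk3 hl3 hkl hk hl hx hy h

end Cfsg.Agent.S2525
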