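import Cfsg.Statements.S2531
import Mathlib

set_option autoImplicit false
open Cfsg

namespace Cfsg.Agent.S2531

/-- Let `F` be a finite field and `n ≥ 3`. No set of permutations of the points of the projective space of `Fⁿ`, each induced by an invertible semilinear transformation of `Fⁿ` (so a subset of the full projective semilinear group), is sharply 2-transitive on the points: it is impossible that for all pairs of distinct points `(a, b)` and `(c, d)` exactly one member of the set sends `a` to `c` and `b` to `d`. -/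
theorem result {F : Type*} [Field F] [Finite F]
    (n : ℕ) (hn : 3 ≤ n) (S : Set (Equiv.Perm (Projectivization F (Fin n → F))))
    (hS : ∀ s ∈ S, ∃ (σ : F ≃+* F) (f : (Fin n → F) →ₛₗ[(σ : F →+* F)] (Fin n → F)) (hf : Function.Injective f),
      ∀ x, s x = Projectivization.map f hf x) :
    ¬ (∀ a b c d : Projectivization F (Fin n → F), a ≠ b → c ≠ d →
        ∃! s, s ∈ S ∧ s a = c ∧ s b = d) := by
  classical
  intro hsharp
  haveI := Fintype.ofFinite F
  obtain ⟨p, hp⟩ := CharP.exists F
  have hpp : p.Prime := CharP.char_is_prime F p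
  set q := Fintype.card F with hq
  have hq2 : 2 ≤ q := Fintype.one_lt_card
  have hpq : p ∣ q := by
    obtain ⟨a, -, ha⟩ := FiniteField.card F p
    rw [hq, ha]
    exact dvd_pow_self p a.ne_zero
  let i0 : Fin n := ⟨0, by omega⟩
  let v0 : Fin n → F := Pi.single i0 1
  have hv0 : v0 ≠ 0 := fun h => by simpa [v0] using congrFun h i0
  -- a line and a hyperplane not through the point
  let W : Submodule F (Fin n → F) := LinearMap.ker (LinearMap.proj i0 : (Fin n → F) →ₗ[F] F)
  let pair : (Fin n → F) →ₗ[F] (F × F) :=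
    (LinearMap.proj (⟨1, by omega⟩ : Fin n)).prod (LinearMap.proj (⟨2, by omega⟩ : Fin n))
  let emb : (F × F) →ₗ[F] (Fin n → F) :=
    (LinearMap.single F (fun _ => F) (⟨1, by omega⟩ : Fin n)).coprod (LinearMap.single F (fun _ => F) (⟨2, by omega⟩ : Fin n))
  have hpe : ∀ x, pair (emb x) = x := fun x => by simp [pair, emb]
  let U : Submodule F (Fin n → F) := LinearMap.range emb
  have hcardU : Nat.card U = q ^ 2 := by
    have hi : Function.Injective emb := Function.LeftInverse.injective hpe
    rw [← Nat.card_congr (LinearEquiv.ofInjective emb hi).toEquiv, Nat.card_prod, Nat.card_eq_fintype_card, sq]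
  have hv0U : v0 ∉ U := by
    rintro ⟨x, hx⟩
    have := congrFun hx i0
    simp [emb, v0, i0] at this
  have hWcard : Nat.card W = q ^ (n - 1) := by
    have hsurj : Function.Surjective (LinearMap.proj i0 : (Fin n → F) →ₗ[F] F) := fun c => ⟨fun _ => c, rfl⟩
    have h1 : Module.finrank F (LinearMap.range (LinearMap.proj i0 : (Fin n → F) →ₗ[F] F)) + Module.finrank F W = n := by
      have := LinearMap.finrank_range_add_finrank_ker (LinearMap.proj i0 : (Fin n → F) →ₗ[F] F)
      rwa [Module.finrank_fintype_fun_eq_card, Fintype.card_fin] at this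
    rw [LinearMap.range_eq_top.2 hsurj, finrank_top, Module.finrank_self] at h1
    rw [Module.natCard_eq_pow_finrank (K := F), Nat.card_eq_fintype_card, show Module.finrank F W = n - 1 by omega]
  let P : Projectivization F (Fin n → F) := Projectivization.mk F v0 hv0
  haveI : Fintype (Equiv.Perm (Projectivization F (Fin n → F))) := Fintype.ofFinite _
  let L : Set (Projectivization F (Fin n → F)) := {x | x.submodule ≤ U}
  have hLmk : ∀ (v : Fin n → F) (hv : v ≠ 0), Projectivization.mk F v hv ∈ L ↔ v ∈ U := fun v hv => by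
    simp [L, Projectivization.submodule_mk]
  have hPL : P ∉ L := fun h => hv0U ((hLmk v0 hv0).1 h)
  have hLcard : ¬ p ∣ Nat.card L := by
    let e : Projectivization F U → L := fun x => ⟨Projectivization.map U.subtype U.injective_subtype x, by
      induction x using Projectivization.ind with
      | h v hv => rw [Projectivization.map_mk, hLmk]; exact v.2⟩
    have he : Function.Bijective e := by
      refine ⟨fun a b h => Projectivization.map_injective _ U.injective_subtype (congrArg Subtype.val h), ?_⟩
      rintro ⟨x, hx⟩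
      induction x using Projectivization.ind with
      | h v hv =>
        exact ⟨Projectivization.mk F (⟨v, (hLmk v hv).1 hx⟩ : U) (fun h => hv (congrArg Subtype.val h)), Subtype.ext rfl⟩
    rw [← Nat.card_eq_of_bijective e he]
    intro hd
    have h1 := Projectivization.card F U
    rw [hcardU, Nat.card_eq_fintype_card (α := F), ← hq] at h1
    have h2 : p ∣ q ^ 2 - 1 := h1 ▸ hd.mul_right _
    have h3 := Nat.dvd_sub (hpq.trans (dvd_pow_self q (two_ne_zero))) h2
    rw [Nat.sub_sub_self (Nat.one_le_pow _ _ (by omega))] at h3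
    exact hpp.not_dvd_one h3
  let T : Finset (Equiv.Perm (Projectivization F (Fin n → F))) := Finset.univ.filter (fun s => s ∈ S ∧ s P = P)
  let C : Finset {v : Fin n → F // v ≠ 0} :=
    Finset.univ.filter (fun v => v.1 ∉ W ∧ Projectivization.mk F v.1 v.2 ≠ P)
  have key : ∀ v ∈ C, (T.filter (fun s => s (Projectivization.mk F v.1 v.2) ∈ L)).card = Nat.card L := by
    intro v hv
    have hvP := (Finset.mem_filter.1 hv).2.2
    let e : ↥(T.filter (fun s => s (Projectivization.mk F v.1 v.2) ∈ L)) → L :=
      fun s => ⟨s.1 (Projectivization.mk F v.1 v.2), (Finset.mem_filter.1 s.2).2⟩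
    have he : Function.Bijective e := by
      constructor
      · intro s t hst
        have hs := (Finset.mem_filter.1 (Finset.mem_filter.1 s.2).1).2
        have ht := (Finset.mem_filter.1 (Finset.mem_filter.1 t.2).1).2
        have h0 : s.1 (Projectivization.mk F v.1 v.2) = t.1 (Projectivization.mk F v.1 v.2) := congrArg Subtype.val hst
        obtain ⟨u, -, hu⟩ := hsharp P (Projectivization.mk F v.1 v.2) P (s.1 (Projectivization.mk F v.1 v.2))
          (Ne.symm hvP) (fun h => hPL (h.symm ▸ (Finset.mem_filter.1 s.2).2))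
        exact Subtype.ext ((hu _ ⟨hs.1, hs.2, rfl⟩).trans (hu _ ⟨ht.1, ht.2, h0.symm⟩).symm)
      · rintro ⟨b, hb⟩
        obtain ⟨s, ⟨hs1, hs2, hs3⟩, -⟩ := hsharp P (Projectivization.mk F v.1 v.2) P b (Ne.symm hvP)
          (fun h => hPL (h.symm ▸ hb))
        exact ⟨⟨s, Finset.mem_filter.2 ⟨Finset.mem_filter.2 ⟨Finset.mem_univ _, hs1, hs2⟩, hs3 ▸ hb⟩⟩, Subtype.ext hs3⟩
    rw [← Nat.card_eq_finsetCard, Nat.card_eq_of_bijective e he]
  have hsum : ∑ s ∈ T, (C.filter (fun v => s (Projectivization.mk F v.1 v.2) ∈ L)).card = C.card * Nat.card L := by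
    simp only [Finset.card_filter]
    rw [Finset.sum_comm]
    simp only [← Finset.card_filter]
    rw [Finset.sum_congr rfl key, Finset.sum_const, smul_eq_mul]
  have hterm : ∀ s ∈ T, p ∣ (C.filter (fun v => s (Projectivization.mk F v.1 v.2) ∈ L)).card := by
    intro s hs
    obtain ⟨hsS, hsP⟩ := (Finset.mem_filter.1 hs).2
    obtain ⟨σ, f, hf, hsf⟩ := hS s hsS
    let U' : AddSubgroup (Fin n → F) := U.toAddSubgroup.comap f.toAddMonoidHom
    have hbij : Function.Bijective f := Finite.injective_iff_bijective.1 hf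
    have hsm : ∀ (c : F) (x : Fin n → F), f x ∈ U → f (c • x) ∈ U := fun c x hx => by
      rw [f.map_smulₛₗ]
      exact U.smul_mem _ hx
    let U'' : Submodule F (Fin n → F) := { U' with smul_mem' := fun c x hx => hsm c x hx }
    have hU'' : ∀ x, x ∈ U'' ↔ f x ∈ U := fun x => Iff.rfl
    have hcard'' : Nat.card U'' = q ^ 2 := by
      rw [← hcardU]
      exact Nat.card_congr ((Equiv.ofBijective f hbij).subtypeEquiv hU'')
    have hr2 : Module.finrank F U'' = 2 := by
      rw [Module.natCard_eq_pow_finrank (K := F), Nat.card_eq_fintype_card, ← hq] at hcard''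
      exact Nat.pow_right_injective hq2 hcard''
    have hrW : Module.finrank F W = n - 1 := by
      rw [Module.natCard_eq_pow_finrank (K := F), Nat.card_eq_fintype_card, ← hq] at hWcard
      exact Nat.pow_right_injective hq2 hWcard
    have hmeet : 1 ≤ Module.finrank F (U'' ⊓ W : Submodule F (Fin n → F)) := by
      have h1 := Submodule.finrank_sup_add_finrank_inf_eq U'' W
      have h2 := Submodule.finrank_le (U'' ⊔ W)
      rw [Module.finrank_fintype_fun_eq_card, Fintype.card_fin] at h2
      omega
    let A : Finset (Fin n → F) := Finset.univ.filter (fun x => x ∈ U'')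
    let B : Finset (Fin n → F) := Finset.univ.filter (fun x => x ∈ U'' ⊓ W)
    have hA : p ∣ A.card := by
      rw [← Fintype.card_subtype, ← Nat.card_eq_fintype_card]
      exact (hpq.trans (dvd_pow_self q two_ne_zero)).trans (dvd_of_eq hcard''.symm)
    have hB : p ∣ B.card := by
      rw [← Fintype.card_subtype, ← Nat.card_eq_fintype_card]
      rw [show Nat.card {x // x ∈ U'' ⊓ W} = q ^ Module.finrank F (U'' ⊓ W : Submodule F (Fin n → F)) from
        (Module.natCard_eq_pow_finrank (K := F)).trans (by rw [Nat.card_eq_fintype_card])]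
      exact hpq.trans (dvd_pow_self q (by omega))
    have hBA : B ⊆ A := fun x hx => Finset.mem_filter.2 ⟨Finset.mem_univ _, (Finset.mem_filter.1 hx).2.1⟩
    suffices h : (C.filter (fun v => s (Projectivization.mk F v.1 v.2) ∈ L)).card = (A \ B).card by
      rw [h, Finset.card_sdiff_of_subset hBA]
      exact Nat.dvd_sub hA hB
    have hmem : ∀ v : {v : Fin n → F // v ≠ 0}, s (Projectivization.mk F v.1 v.2) ∈ L ↔ f v.1 ∈ U := by
      intro v
      rw [hsf, Projectivization.map_mk, hLmk]
    refine Finset.card_bij (fun v _ => v.1) ?_ (fun a _ b _ h => Subtype.ext h) ?_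
    · intro v hv
      obtain ⟨hvC, hvL⟩ := Finset.mem_filter.1 hv
      have hvW := (Finset.mem_filter.1 hvC).2.1
      exact Finset.mem_sdiff.2 ⟨Finset.mem_filter.2 ⟨Finset.mem_univ _, (hmem v).1 hvL⟩,
        fun hB => hvW (Finset.mem_filter.1 hB).2.2⟩
    · intro x hx
      obtain ⟨hxA, hxB⟩ := Finset.mem_sdiff.1 hx
      have hxU := (Finset.mem_filter.1 hxA).2
      have hxW : x ∉ W := fun h => hxB (Finset.mem_filter.2 ⟨Finset.mem_univ _, hxU, h⟩)
      have hx0 : x ≠ 0 := fun h => hxW (h ▸ W.zero_mem)
      refine ⟨⟨x, hx0⟩, Finset.mem_filter.2 ⟨Finset.mem_filter.2 ⟨Finset.mem_univ _, hxW, ?_⟩, (hmem ⟨x, hx0⟩).2 hxU⟩, rfl⟩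
      intro hP
      exact hPL (hsP ▸ hP ▸ (hmem ⟨x, hx0⟩).2 hxU)
  have hCcard : ¬ p ∣ C.card := by
    let A : Finset (Fin n → F) := Finset.univ.filter (fun x => x ∉ W)
    let B : Finset (Fin n → F) := (Finset.univ.filter (fun c : F => c ≠ 0)).image (fun c => c • v0)
    have hBA : B ⊆ A := by
      intro x hx
      obtain ⟨c, hc, rfl⟩ := Finset.mem_image.1 hx
      refine Finset.mem_filter.2 ⟨Finset.mem_univ _, fun h => (Finset.mem_filter.1 hc).2 ?_⟩
      simpa [W, v0] using h
    have hC : C.card = (A \ B).card := by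
      refine Finset.card_bij (fun v _ => v.1) ?_ (fun a _ b _ h => Subtype.ext h) ?_
      · intro v hv
        obtain ⟨hvW, hvP⟩ := (Finset.mem_filter.1 hv).2
        refine Finset.mem_sdiff.2 ⟨Finset.mem_filter.2 ⟨Finset.mem_univ _, hvW⟩, fun hB => hvP ?_⟩
        obtain ⟨c, -, hc⟩ := Finset.mem_image.1 hB
        exact (Projectivization.mk_eq_mk_iff' F _ _ v.2 hv0).2 ⟨c, hc⟩
      · intro x hx
        obtain ⟨hxA, hxB⟩ := Finset.mem_sdiff.1 hx
        have hxW := (Finset.mem_filter.1 hxA).2
        have hx0 : x ≠ 0 := fun h => hxW (h ▸ W.zero_mem)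
        refine ⟨⟨x, hx0⟩, Finset.mem_filter.2 ⟨Finset.mem_univ _, hxW, fun hP => hxB ?_⟩, rfl⟩
        obtain ⟨c, hc⟩ := (Projectivization.mk_eq_mk_iff' F _ _ hx0 hv0).1 hP
        refine Finset.mem_image.2 ⟨c, Finset.mem_filter.2 ⟨Finset.mem_univ _, fun h0 => hx0 ?_⟩, hc⟩
        rw [← hc, h0, zero_smul]
    have hA : A.card = q ^ n - q ^ (n - 1) := by
      have h1 : (Finset.univ.filter (fun x : Fin n → F => x ∈ W)).card = q ^ (n - 1) := by
        rw [← Fintype.card_subtype, ← Nat.card_eq_fintype_card]
        exact hWcard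
      have h2 := Finset.card_filter_add_card_filter_not (s := (Finset.univ : Finset (Fin n → F))) (fun x => x ∈ W)
      simp only [Finset.card_univ, Fintype.card_fun, Fintype.card_fin, ← hq] at h2
      show (Finset.univ.filter (fun x : Fin n → F => x ∉ W)).card = _
      omega
    have hB : B.card = q - 1 := by
      rw [Finset.card_image_of_injective _ (smul_left_injective F hv0), Finset.filter_ne',
        Finset.card_erase_of_mem (Finset.mem_univ _), Finset.card_univ]
    intro hd
    rw [hC, Finset.card_sdiff_of_subset hBA] at hd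
    have hle := Finset.card_le_card hBA
    have hAdvd : p ∣ A.card := by
      rw [hA]
      exact Nat.dvd_sub (hpq.trans (dvd_pow_self q (by omega))) (hpq.trans (dvd_pow_self q (by omega)))
    have h3 := Nat.dvd_sub hAdvd hd
    rw [Nat.sub_sub_self hle, hB] at h3
    have h4 := Nat.dvd_sub hpq h3
    rw [Nat.sub_sub_self (by omega : 1 ≤ q)] at h4
    exact hpp.not_dvd_one h4
  have hdvd : p ∣ C.card * Nat.card L := hsum ▸ Finset.dvd_sum hterm
  rcases hpp.dvd_mul.1 hdvd with h | h
  · exact hCcard h
  · exact hLcard h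

end Cfsg.Agent.S2531
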