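import Cfsg.Statements.S2532
import Mathlib

set_option autoImplicit false
open Cfsg

namespace Cfsg.Agent.S2532

theorem exists_commuting_alt (m r : ℕ) (G : Type*) [Group G] [Finite G] (ψ : G →* Equiv.Perm (Fin m))
    (hm : Nat.card G * (2 ^ Nat.card G * r) ≤ m) :
    ∃ θ : alternatingGroup (Fin r) →* alternatingGroup (Fin m), Function.Injective θ ∧
      ∀ σ g, (θ σ : Equiv.Perm (Fin m)) * ψ g = ψ g * (θ σ : Equiv.Perm (Fin m)) := by
  classical
  letI : MulAction G (Fin m) := MulAction.compHom (Fin m) ψ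
  have hsmul : ∀ (g : G) (x : Fin m), g • x = ψ g x := fun _ _ => rfl
  letI := Fintype.ofFinite G
  let Q := Quotient (MulAction.orbitRel G (Fin m))
  haveI : Fintype Q := Fintype.ofFinite _
  have hQ : m ≤ Fintype.card Q * Nat.card G := by
    let e : Q × G → Fin m := fun x => x.2 • x.1.out
    have he : Function.Surjective e := fun y => by
      have h := Quotient.mk_out (s := MulAction.orbitRel G (Fin m)) y
      obtain ⟨g, hg⟩ := h
      exact ⟨(⟦y⟧, g⁻¹), inv_smul_eq_iff.2 hg.symm⟩
    simpa [Nat.card_eq_fintype_card] using Fintype.card_le_of_surjective e he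
  haveI : Fintype (Subgroup G) := Fintype.ofFinite _
  have hsub : Fintype.card (Subgroup G) ≤ 2 ^ Nat.card G := by
    rw [Nat.card_eq_fintype_card, ← Fintype.card_set]
    exact Fintype.card_le_of_injective _ SetLike.coe_injective
  have hr : Fintype.card (Subgroup G) * r ≤ Fintype.card Q := by
    refine (Nat.mul_le_mul_right r hsub).trans ?_
    refine Nat.le_of_mul_le_mul_left ?_ (Nat.card_pos (α := G))
    rw [mul_comm (Nat.card G) (Fintype.card Q)]
    exact hm.trans hQ
  obtain ⟨K, hK⟩ := Fintype.exists_le_card_fiber_of_mul_le_card (fun o : Q => MulAction.stabilizer G o.out) hr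
  obtain ⟨x⟩ : Nonempty (Fin r ↪ {o : Q // MulAction.stabilizer G o.out = K}) :=
    Function.Embedding.nonempty_of_card_le (by rw [Fintype.card_fin, Fintype.card_subtype]; exact hK)
  let act : Fin r → G ⧸ K → Fin m := fun i c => Quotient.liftOn' c (fun g => g • (x i).1.out) (fun a b hab => by
    rw [QuotientGroup.leftRel_apply, ← (x i).2, MulAction.mem_stabilizer_iff, mul_smul, inv_smul_eq_iff] at hab
    exact hab.symm)
  have hact : ∀ i (g : G), act i (g : G ⧸ K) = g • (x i).1.out := fun i g => rfl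
  let ι : Fin r × (G ⧸ K) ↪ Fin m := ⟨fun z => act z.1 z.2, by
    rintro ⟨i, c⟩ ⟨j, d⟩ h
    induction c using QuotientGroup.induction_on with | _ a =>
    induction d using QuotientGroup.induction_on with | _ b =>
    simp only [hact] at h
    have hij : i = j := by
      apply x.injective
      apply Subtype.ext
      rw [← Quotient.out_eq (x i).1, ← Quotient.out_eq (x j).1]
      apply Quotient.sound
      exact ⟨a⁻¹ * b, by simp [mul_smul, ← h]⟩
    subst hij
    refine Prod.ext rfl (QuotientGroup.eq.2 ?_)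
    show a⁻¹ * b ∈ K
    rw [← (x i).2, MulAction.mem_stabilizer_iff, mul_smul, inv_smul_eq_iff]
    exact h.symm⟩
  let pc : Equiv.Perm (Fin r) →* Equiv.Perm (Fin r × (G ⧸ K)) :=
    { toFun := fun σ => Equiv.prodCongrLeft (fun _ => σ)
      map_one' := by ext ⟨i, c⟩ <;> rfl
      map_mul' := fun σ τ => by ext ⟨i, c⟩ <;> rfl }
  let Θ : Equiv.Perm (Fin r) →* Equiv.Perm (Fin m) := (Equiv.Perm.viaEmbeddingHom ι).comp pc
  have hsign : ∀ σ : alternatingGroup (Fin r), Θ σ.1 ∈ alternatingGroup (Fin m) := by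
    intro σ
    rw [Equiv.Perm.mem_alternatingGroup]
    show Equiv.Perm.sign (Equiv.Perm.viaEmbeddingHom ι (pc σ.1)) = 1
    rw [Equiv.Perm.viaEmbeddingHom_apply, Equiv.Perm.viaEmbedding, Equiv.Perm.sign_extendDomain,
      show pc σ.1 = Equiv.prodCongrLeft (fun _ => σ.1) from rfl, Equiv.Perm.sign_prodCongrLeft]
    exact Finset.prod_eq_one fun _ _ => Equiv.Perm.mem_alternatingGroup.1 σ.2
  have hinj : Function.Injective Θ := by
    refine (Equiv.Perm.viaEmbeddingHom_injective ι).comp fun σ τ h => ?_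
    refine Equiv.ext fun i => ?_
    exact congrArg Prod.fst (Equiv.congr_fun h (i, ((1 : G) : G ⧸ K)))
  refine ⟨(Θ.comp (alternatingGroup (Fin r)).subtype).codRestrict _ hsign, ?_, ?_⟩
  · intro σ τ h
    exact Subtype.ext (hinj (congrArg Subtype.val h))
  · intro σ g
    refine Equiv.ext fun y => ?_
    show Θ σ.1 (ψ g y) = ψ g (Θ σ.1 y)
    have hon : ∀ z, Θ σ.1 (ι z) = ι (σ.1 z.1, z.2) := fun z => Equiv.Perm.viaEmbedding_apply _ ι z
    have heq : ∀ (z : Fin r × (G ⧸ K)), ψ g (ι z) = ι (z.1, g • z.2) := by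
      rintro ⟨i, c⟩
      induction c using QuotientGroup.induction_on with | _ a =>
      show g • (a • (x i).1.out) = act i ((g * a : G) : G ⧸ K)
      rw [hact, mul_smul]
    by_cases hy : y ∈ Set.range ι
    · obtain ⟨z, rfl⟩ := hy
      rw [heq, hon, hon, heq]
    · have hy' : ψ g y ∉ Set.range ι := by
        rintro ⟨z, hz⟩
        refine hy ⟨(z.1, g⁻¹ • z.2), (ψ g).injective ?_⟩
        rw [heq, ← hz, smul_inv_smul]
      show Equiv.Perm.viaEmbedding _ ι (ψ g y) = ψ g (Equiv.Perm.viaEmbedding _ ι y)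
      rw [Equiv.Perm.viaEmbedding_apply_of_notMem _ ι _ hy', Equiv.Perm.viaEmbedding_apply_of_notMem _ ι _ hy]

/-- There is a function `f` of two natural-number arguments such that, whenever `m ≥ f(n, r)`, every subgroup of order `n` of the alternating group of degree `m` centralizes some subgroup of that alternating group isomorphic to the alternating group of degree `r`. -/
theorem result :
    ∃ f : ℕ → ℕ → ℕ, ∀ (m r : ℕ) (H : Subgroup ↥(alternatingGroup (Fin m))), f (Nat.card H) r ≤ m →
      ∃ K : Subgroup ↥(alternatingGroup (Fin m)), Nonempty (↥K ≃* ↥(alternatingGroup (Fin r))) ∧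
        K ≤ Subgroup.centralizer (H : Set ↥(alternatingGroup (Fin m))) := by
  refine ⟨fun n r => n * (2 ^ n * r), fun m r H hm => ?_⟩
  obtain ⟨θ, hθ, hc⟩ := exists_commuting_alt m r H ((alternatingGroup (Fin m)).subtype.comp H.subtype) hm
  refine ⟨θ.range, ⟨(MonoidHom.ofInjective hθ).symm⟩, ?_⟩
  rintro _ ⟨σ, rfl⟩
  rw [Subgroup.mem_centralizer_iff]
  intro h hh
  exact Subtype.ext (hc σ ⟨h, hh⟩).symm

end Cfsg.Agent.S2532
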