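import Cfsg.Statements.S2533
import Mathlib

set_option autoImplicit false
open Cfsg

namespace Cfsg.Agent.S2533

open Matrix

variable (p : ℕ) [Fact p.Prime] (m : ℕ)

/-- Inversion or identity on an elementary abelian group of order `p ^ 3`. -/
def signAct : ℤˣ →* MulAut (Multiplicative (Fin 3 → ZMod p)) where
  toFun u :=
    { toFun := fun a => a ^ (u : ℤ)
      invFun := fun a => a ^ (u : ℤ)
      left_inv := fun a => by simp [← _root_.zpow_mul, ← Units.val_mul, Int.units_mul_self]
      right_inv := fun a => by simp [← _root_.zpow_mul, ← Units.val_mul, Int.units_mul_self]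
      map_mul' := fun a b => mul_zpow a b _ }
  map_one' := by ext a; simp
  map_mul' u v := by ext a; simp [mul_comm u v, _root_.zpow_mul]

/-- Three arrows of a representation of the Kronecker quiver with three arrows and dimensions `(m, m + 1)`. -/
def arrows (a : Fin 3 → ZMod p) : Matrix (Fin (m + 1)) (Fin m) (ZMod p) :=
  fun j i => (if j.val = i.val then a 0 else 0) + (if j.val = i.val + 1 then a 1 else 0) +
    (if j.val = 0 ∧ i.val = 0 then a 2 else 0)

theorem arrows_add (a b : Fin 3 → ZMod p) : arrows p m (a + b) = arrows p m a + arrows p m b := by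
  ext j i
  simp only [arrows, Matrix.add_apply, Pi.add_apply]
  split_ifs <;> ring

theorem arrows_eq_zero (hm : 2 ≤ m) (a : Fin 3 → ZMod p) (h : arrows p m a = 0) : a = 0 := by
  have h00 := congrFun (congrFun h 0) ⟨0, by omega⟩
  have h10 := congrFun (congrFun h ⟨1, by omega⟩) ⟨0, by omega⟩
  have h11 := congrFun (congrFun h ⟨1, by omega⟩) ⟨1, by omega⟩
  simp [arrows] at h00 h10 h11
  funext i
  fin_cases i
  · exact h11
  · exact h10
  · simpa [h11] using h00

/-- Unipotent part of the representation. -/
def uMat (a : Fin 3 → ZMod p) : Matrix (Fin m ⊕ Fin (m + 1)) (Fin m ⊕ Fin (m + 1)) (ZMod p) :=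
  fromBlocks 1 0 (arrows p m a) 1

/-- The involution part of the representation. -/
def tMat (u : ℤˣ) : Matrix (Fin m ⊕ Fin (m + 1)) (Fin m ⊕ Fin (m + 1)) (ZMod p) :=
  fromBlocks 1 0 0 (((u : ℤ) : ZMod p) • 1)

theorem uMat_add (a b : Fin 3 → ZMod p) : uMat p m (a + b) = uMat p m a * uMat p m b := by
  simp [uMat, fromBlocks_multiply, arrows_add]

theorem tMat_mul (u v : ℤˣ) : tMat p m (u * v) = tMat p m u * tMat p m v := by
  simp [tMat, fromBlocks_multiply, smul_smul, mul_comm]

theorem tMat_mul_uMat (u : ℤˣ) (a : Fin 3 → ZMod p) :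
    tMat p m u * uMat p m a = uMat p m ((u : ℤ) • a) * tMat p m u := by
  have h : arrows p m ((u : ℤ) • a) = ((u : ℤ) : ZMod p) • arrows p m a := by
    ext j i
    simp only [arrows, Matrix.smul_apply, Pi.smul_apply, zsmul_eq_mul, smul_eq_mul]
    split_ifs <;> ring
  rw [uMat, uMat, tMat, fromBlocks_multiply, fromBlocks_multiply, h]
  simp

/-- The representation. -/
def repMat : Multiplicative (Fin 3 → ZMod p) ⋊[signAct p] ℤˣ →* Matrix (Fin (m + (m + 1))) (Fin (m + (m + 1))) (ZMod p) :=
  (reindexAlgEquiv (ZMod p) (ZMod p) (finSumFinEquiv : Fin m ⊕ Fin (m + 1) ≃ Fin (m + (m + 1)))).toMonoidHom.comp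
  { toFun := fun x => uMat p m x.left.toAdd * tMat p m x.right
    map_one' := by
      have h : arrows p m 0 = 0 := by ext j i; simp [arrows]
      simp [uMat, tMat, h, fromBlocks_one]
    map_mul' := fun x y => by
      have h : (x * y).left.toAdd = x.left.toAdd + (x.right : ℤ) • y.left.toAdd := rfl
      rw [h, show (x * y).right = x.right * y.right from rfl, uMat_add, tMat_mul]
      simp only [mul_assoc]
      rw [← mul_assoc (tMat p m x.right) (uMat p m _), tMat_mul_uMat, mul_assoc] }

theorem repMat_det (hm : Odd m) (x : Multiplicative (Fin 3 → ZMod p) ⋊[signAct p] ℤˣ) :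
    (repMat p m x).det = 1 := by
  show det (reindexAlgEquiv (ZMod p) (ZMod p) _ (uMat p m x.left.toAdd * tMat p m x.right)) = 1
  rw [det_reindexAlgEquiv, det_mul]
  simp only [uMat, tMat, det_fromBlocks_zero₁₂, det_one, one_mul, det_smul, mul_one, Fintype.card_fin]
  obtain ⟨k, hk⟩ := hm
  rw [show m + 1 = 2 * (k + 1) by omega, pow_mul, sq]
  simp [← Int.cast_mul, ← Units.val_mul, Int.units_mul_self]

/-- The representation in `PSL`. -/
def repPSL (hm : Odd m) :
    Multiplicative (Fin 3 → ZMod p) ⋊[signAct p] ℤˣ →* ProjectiveSpecialLinearGroup (Fin (m + (m + 1))) (ZMod p) :=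
  (QuotientGroup.mk' _).comp
    { toFun := fun x => ⟨repMat p m x, repMat_det p m hm x⟩
      map_one' := Subtype.ext (map_one (repMat p m))
      map_mul' := fun x y => Subtype.ext (map_mul (repMat p m) x y) }

theorem neg_one_ne_one (hp : p ≠ 2) : (-1 : ZMod p) ≠ 1 := by
  intro h
  have h2 : ((2 : ℕ) : ZMod p) = 0 := by
    push_cast
    linear_combination -h
  rw [ZMod.natCast_eq_zero_iff] at h2
  exact hp ((Nat.prime_dvd_prime_iff_eq Fact.out Nat.prime_two).1 h2)

theorem repPSL_injective (hp : p ≠ 2) (hm : Odd m) (hm2 : 2 ≤ m) : Function.Injective (repPSL p m hm) := by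
  rw [injective_iff_map_eq_one]
  intro x hx
  have hc := Matrix.SpecialLinearGroup.mem_center_iff.1 ((QuotientGroup.eq_one_iff _).1 hx)
  obtain ⟨c, -, hc⟩ := hc
  replace hc : scalar _ c = repMat p m x := hc
  obtain ⟨a, u⟩ := x
  have hc' : (Matrix.diagonal fun _ => c) = uMat p m a.toAdd * tMat p m u := by
    have h := congrArg (reindexAlgEquiv (ZMod p) (ZMod p) (finSumFinEquiv : Fin m ⊕ Fin (m + 1) ≃ Fin (m + (m + 1))).symm) hc
    simp [repMat, scalar_apply, reindexAlgEquiv, Matrix.submatrix_submatrix, Function.comp_def] at h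
    exact h
  rw [uMat, tMat, fromBlocks_multiply] at hc'
  simp only [Matrix.one_mul, Matrix.mul_one, Matrix.mul_zero, Matrix.zero_mul, add_zero, zero_add] at hc'
  have h11 := congrFun (congrFun hc' (Sum.inl ⟨0, by omega⟩)) (Sum.inl ⟨0, by omega⟩)
  have h22 := congrFun (congrFun hc' (Sum.inr 0)) (Sum.inr 0)
  simp at h11 h22
  have hu : u = 1 := by
    rcases Int.units_eq_one_or u with h | h
    · exact h
    · exfalso
      apply neg_one_ne_one p hp
      rw [h, h11] at h22
      simpa using h22.symm
  subst hu
  have ha : arrows p m a.toAdd = 0 := by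
    ext j i
    have h21 := congrFun (congrFun hc' (Sum.inr j)) (Sum.inl i)
    simpa using h21.symm
  exact SemidirectProduct.ext (Multiplicative.toAdd.injective (arrows_eq_zero p m hm2 _ ha)) rfl

theorem brick (A : Matrix (Fin m) (Fin m) (ZMod p)) (D : Matrix (Fin (m + 1)) (Fin (m + 1)) (ZMod p))
    (h : ∀ a, D * arrows p m a = arrows p m a * A) (hm : 2 ≤ m) :
    fromBlocks A 0 0 D = (D 0 0) • (1 : Matrix (Fin m ⊕ Fin (m + 1)) (Fin m ⊕ Fin (m + 1)) (ZMod p)) := by
  have hX : ∀ (j : Fin (m + 1)) (i : Fin m), D j i.castSucc = if hj : j.val < m then A ⟨j.val, hj⟩ i else 0 := by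
    intro j i
    have hh := congrFun (congrFun (h ![1, 0, 0]) j) i
    simp only [Matrix.mul_apply, arrows] at hh
    simp at hh
    rw [Finset.sum_eq_single i.castSucc] at hh
    · rw [if_pos (by simp)] at hh
      rw [hh]
      by_cases hj : j.val < m
      · rw [dif_pos hj, Finset.sum_eq_single (⟨j.val, hj⟩ : Fin m)]
        · simp
        · intro k _ hk
          rw [if_neg fun h0 => hk (Fin.ext h0.symm)]
        · simp
      · rw [dif_neg hj]
        exact Finset.sum_eq_zero fun k _ => if_neg (by omega)
    · intro k _ hk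
      rw [if_neg]
      exact fun h0 => hk (Fin.ext h0)
    · simp
  have hY : ∀ (j : Fin (m + 1)) (i : Fin m), D j i.succ = if hj : 0 < j.val then A ⟨j.val - 1, by omega⟩ i else 0 := by
    intro j i
    have hh := congrFun (congrFun (h ![0, 1, 0]) j) i
    simp only [Matrix.mul_apply, arrows] at hh
    simp at hh
    rw [Finset.sum_eq_single i.succ] at hh
    · rw [if_pos (by simp)] at hh
      rw [hh]
      by_cases hj : 0 < j.val
      · rw [dif_pos hj, Finset.sum_eq_single (⟨j.val - 1, by omega⟩ : Fin m)]
        · rw [if_pos (by simp; omega)]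
        · intro k _ hk
          rw [if_neg fun h0 => hk (Fin.ext (by simp; omega))]
        · simp
      · rw [dif_neg hj]
        exact Finset.sum_eq_zero fun k _ => if_neg (by omega)
    · intro k _ hk
      rw [if_neg]
      exact fun h0 => hk (Fin.ext (by simp; omega))
    · simp
  -- shift invariance along diagonals
  have hshift : ∀ j i : ℕ, (hj : j < m) → (hi : i < m) →
      D ⟨j + 1, by omega⟩ ⟨i + 1, by omega⟩ = D ⟨j, by omega⟩ ⟨i, by omega⟩ := by
    intro j i hj hi
    have h1 := hY ⟨j + 1, by omega⟩ ⟨i, hi⟩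
    have h2 := hX ⟨j, by omega⟩ ⟨i, hi⟩
    rw [dif_pos (by simp)] at h1
    rw [dif_pos (by simpa using hj)] at h2
    simp at h1 h2
    rw [h1, h2]
  have hD : ∀ j i : Fin (m + 1), D j i = if j = i then D 0 0 else 0 := by
    rintro ⟨j, hj⟩ ⟨i, hi⟩
    rcases lt_trichotomy j i with hlt | heq | hlt
    · rw [if_neg (by simp [Fin.ext_iff]; omega)]
      induction j generalizing i with
      | zero =>
        have h1 := hY ⟨0, by omega⟩ ⟨i - 1, by omega⟩
        rw [dif_neg (by simp)] at h1
        rw [← h1]
        congr 1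
        exact Fin.ext (by simp; omega)
      | succ j ih =>
        obtain ⟨i, rfl⟩ : ∃ k, i = k + 1 := ⟨i - 1, by omega⟩
        rw [hshift j i (by omega) (by omega)]
        exact ih (by omega) i (by omega) (by omega)
    · subst heq
      rw [if_pos rfl]
      induction j with
      | zero => rfl
      | succ j ih => rw [hshift j j (by omega) (by omega)]; exact ih (by omega) (by omega)
    · rw [if_neg (by simp [Fin.ext_iff]; omega)]
      obtain ⟨d, hd⟩ : ∃ d, j + d = m := ⟨m - j, by omega⟩
      induction d generalizing j i with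
      | zero =>
        have h1 := hX ⟨j, hj⟩ ⟨i, by omega⟩
        rw [dif_neg (by simp; omega)] at h1
        rw [← h1]
        rfl
      | succ d ih =>
        rw [← hshift j i (by omega) (by omega)]
        exact ih (j + 1) (by omega) (i + 1) (by omega) (by omega) (by omega)
  have hA : ∀ j i : Fin m, A j i = if j = i then D 0 0 else 0 := by
    intro j i
    have h1 := hX j.castSucc i
    rw [dif_pos (by simp), hD] at h1
    simp at h1
    exact h1.symm
  ext (j | j) (i | i)
  · rw [fromBlocks_apply₁₁, hA]; by_cases h' : j = i <;> simp [Matrix.one_apply, h']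
  · simp
  · simp
  · rw [fromBlocks_apply₂₂, hD j i]; by_cases h' : j = i <;> simp [Matrix.one_apply, h']

theorem centralizer_eq_bot (hp : p ≠ 2) (hm : Odd m) (hm2 : 2 ≤ m) :
    Subgroup.centralizer ((repPSL p m hm).range : Set (ProjectiveSpecialLinearGroup (Fin (m + (m + 1))) (ZMod p))) = ⊥ := by
  rw [eq_bot_iff]
  intro x hx
  obtain ⟨g, rfl⟩ := QuotientGroup.mk_surjective x
  let R := reindexAlgEquiv (ZMod p) (ZMod p) (finSumFinEquiv : Fin m ⊕ Fin (m + 1) ≃ Fin (m + (m + 1)))
  set M := R.symm g.1 with hM
  have hRM : R M = g.1 := R.apply_symm_apply _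
  have hMu : IsUnit M := by
    have h : IsUnit g.1 := (isUnit_iff_isUnit_det _).2 (by rw [show g.1.det = 1 from g.2]; exact isUnit_one)
    exact h.map R.symm
  -- commutation up to scalars
  have hcomm : ∀ a u, ∃ c : ZMod p, M * (uMat p m a * tMat p m u) = c • (uMat p m a * tMat p m u * M) := by
    intro a u
    let y : Multiplicative (Fin 3 → ZMod p) ⋊[signAct p] ℤˣ := ⟨Multiplicative.ofAdd a, u⟩
    have h1 := Subgroup.mem_centralizer_iff.1 hx _ ⟨y, rfl⟩
    let s : SpecialLinearGroup (Fin (m + (m + 1))) (ZMod p) := ⟨repMat p m y, repMat_det p m hm y⟩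
    have h2 : (QuotientGroup.mk (s * g) : ProjectiveSpecialLinearGroup _ _) = QuotientGroup.mk (g * s) := h1
    rw [QuotientGroup.eq] at h2
    obtain ⟨c, -, hc⟩ := Matrix.SpecialLinearGroup.mem_center_iff.1 h2
    refine ⟨c, R.injective ?_⟩
    rw [map_mul, map_smul, map_mul _ (uMat p m a * tMat p m u) M, hRM]
    have h3 : g * s = s * g * ((s * g)⁻¹ * (g * s)) := (mul_inv_cancel_left _ _).symm
    have h4 : g.1 * s.1 = s.1 * g.1 * ((s * g)⁻¹ * (g * s)).1 := congrArg Subtype.val h3
    have hc' : ((s * g)⁻¹ * (g * s)).1 = c • 1 := by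
      rw [smul_one_eq_diagonal]
      exact hc.symm
    rw [hc', Matrix.mul_smul, Matrix.mul_one] at h4
    exact h4
  have hblk : ∃ A D, M = fromBlocks A 0 0 D := by
    obtain ⟨c, hc⟩ := hcomm 0 (-1)
    have h0 : uMat p m (0 : Fin 3 → ZMod p) = 1 := by
      have h : arrows p m 0 = 0 := by ext j i; simp [arrows]
      simp [uMat, h, fromBlocks_one]
    rw [h0, one_mul] at hc
    rw [← fromBlocks_toBlocks M] at hc hMu ⊢
    set A := M.toBlocks₁₁
    set B := M.toBlocks₁₂
    set C := M.toBlocks₂₁
    set D := M.toBlocks₂₂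
    simp [tMat, fromBlocks_multiply, fromBlocks_smul, fromBlocks_inj] at hc
    obtain ⟨hA, hB, hC, hD⟩ := hc
    by_cases hc1 : c = 1
    · subst hc1
      refine ⟨A, D, ?_⟩
      have hB0 : B = 0 := by
        ext i j
        have := congrFun (congrFun hB i) j
        simp at this
        have h2 : (2 : ZMod p) * B i j = 0 := by first | linear_combination this | linear_combination -this
        rcases mul_eq_zero.1 h2 with h | h
        · exact absurd (show (-1 : ZMod p) = 1 by linear_combination -h) (neg_one_ne_one p hp)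
        · exact h
      have hC0 : C = 0 := by
        ext i j
        have := congrFun (congrFun hC i) j
        simp at this
        have h2 : (2 : ZMod p) * C i j = 0 := by first | linear_combination this | linear_combination -this
        rcases mul_eq_zero.1 h2 with h | h
        · exact absurd (show (-1 : ZMod p) = 1 by linear_combination -h) (neg_one_ne_one p hp)
        · exact h
      rw [hB0, hC0]
    · exfalso
      have hA0 : A = 0 := by
        ext i j
        have := congrFun (congrFun hA i) j
        simp at this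
        have h2 : (c - 1) * A i j = 0 := by first | linear_combination this | linear_combination -this
        simpa [sub_ne_zero.2 hc1] using h2
      have hD0 : D = 0 := by
        ext i j
        have := congrFun (congrFun hD i) j
        simp at this
        have h2 : (c - 1) * D i j = 0 := by first | linear_combination this | linear_combination -this
        simpa [sub_ne_zero.2 hc1] using h2
      -- an injective map into a smaller space
      have hinj : Function.Injective (toLin' B) := by
        intro v w hvw
        have h1 : (fromBlocks A B C D).mulVec (Sum.elim 0 v) = (fromBlocks A B C D).mulVec (Sum.elim 0 w) := by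
          simp only [fromBlocks_mulVec, hA0, hD0]
          simp only [toLin'_apply] at hvw
          simp [hvw]
        have h2 := Matrix.mulVec_injective_of_isUnit hMu h1
        funext i
        exact congrFun h2 (Sum.inr i)
      have := LinearMap.finrank_le_finrank_of_injective hinj
      simp at this
  obtain ⟨A, D, hAD⟩ := hblk
  have hint : ∀ a, D * arrows p m a = arrows p m a * A := by
    intro a
    obtain ⟨c, hc⟩ := hcomm a 1
    have ht : tMat p m 1 = 1 := by simp [tMat, fromBlocks_one]
    rw [ht, mul_one, hAD] at hc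
    simp [uMat, fromBlocks_multiply, fromBlocks_smul, fromBlocks_inj] at hc
    obtain ⟨h1, h2, h3⟩ := hc
    have hc1 : c = 1 := by
      by_contra hne
      have hA0 : A = 0 := by
        ext i j
        have := congrFun (congrFun h1 i) j
        simp at this
        have h2 : (c - 1) * A i j = 0 := by first | linear_combination this | linear_combination -this
        simpa [sub_ne_zero.2 hne] using h2
      have hdet : (fromBlocks A 0 0 D).det = 0 := by
        haveI : Nonempty (Fin m) := ⟨⟨0, by omega⟩⟩
        rw [det_fromBlocks_zero₁₂, hA0, det_zero, zero_mul]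
      exact ((isUnit_iff_isUnit_det _).1 (hAD ▸ hMu)).ne_zero hdet
    simpa [hc1] using h2
  rw [Subgroup.mem_bot, QuotientGroup.eq_one_iff, Matrix.SpecialLinearGroup.mem_center_iff]
  have hg : g.1 = (D 0 0) • 1 := by
    rw [← hRM, hAD, brick p m A D hint hm2, map_smul, map_one]
  refine ⟨D 0 0, ?_, ?_⟩
  · have := g.2
    rw [hg, det_smul, det_one, mul_one] at this
    exact this
  · rw [scalar_apply, ← smul_one_eq_diagonal]
    exact hg.symm

/-- For every odd prime `p` there is a finite group `H` of order `2p³` which, for infinitely many `n`, embeds in the projective special linear group `PSL(n, p)` as a subgroup with trivial centralizer. -/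
theorem result
    (p : ℕ) [Fact p.Prime] (hp : p ≠ 2) :
    ∃ (H : Type) (_ : Group H) (_ : Finite H), Nat.card H = 2 * p ^ 3 ∧
      ∀ N : ℕ, ∃ n, N ≤ n ∧ ∃ φ : H →* Matrix.ProjectiveSpecialLinearGroup (Fin n) (ZMod p),
        Function.Injective φ ∧ Subgroup.centralizer (φ.range : Set (Matrix.ProjectiveSpecialLinearGroup (Fin n) (ZMod p))) = ⊥ := by
  refine ⟨Multiplicative (Fin 3 → ZMod p) ⋊[signAct p] ℤˣ, inferInstance, ?_, ?_, fun N => ?_⟩
  · exact Finite.of_equiv _ SemidirectProduct.equivProd.symm
  · rw [Nat.card_congr SemidirectProduct.equivProd, Nat.card_prod, Nat.card_eq_fintype_card (α := ℤˣ),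
      Fintype.card_units_int, Nat.card_congr Multiplicative.toAdd, Nat.card_fun, Nat.card_zmod,
      Nat.card_eq_fintype_card, Fintype.card_fin, mul_comm]
  · have hm : Odd (2 * N + 3) := ⟨N + 1, by ring⟩
    exact ⟨_, by omega, repPSL p (2 * N + 3) hm, repPSL_injective p _ hp hm (by omega),
      centralizer_eq_bot p _ hp hm (by omega)⟩

end Cfsg.Agent.S2533
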