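import Cfsg.Statements.S3878
import Cfsg.Agent.Lib.Transfer.Hall
import Cfsg.Agent.Lib.Transfer.Fusion

set_option autoImplicit false
open Cfsg

namespace Cfsg.Agent.S3878

open Equiv Equiv.Perm MulAction
set_option linter.style.haveILetI false

lemma isPGroup_of_pi {π : Set ℕ} {G : Type} [Group G] [Finite G] {p : ℕ}
    (h : ∀ q : ℕ, q.Prime → q ∈ π → q = p) {K : Subgroup G} (hK : Cfsg.IsPiSubgroup π K) :
    IsPGroup p K :=
  IsPGroup.of_card (Nat.eq_prime_pow_of_unique_prime_dvd Nat.card_pos.ne' fun {d} hd hdd => h d hd (hK d hd hdd))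

lemma d_trivial {π : Set ℕ}
    (h : (∀ p q : ℕ, p.Prime → q.Prime → p ∈ π → q ∈ π → p = q) ∨ ∀ p : ℕ, p.Prime → p ∈ π)
    (G : Type) [Group G] [Finite G] : Cfsg.IsDPiGroup π G := by
  intro H K hH hK
  rcases h with h | h
  · by_cases he : ∃ p : ℕ, p.Prime ∧ p ∈ π
    · obtain ⟨p, hp, hpπ⟩ := he
      haveI := Fact.mk hp
      have hu : ∀ q : ℕ, q.Prime → q ∈ π → q = p := fun q hq hqπ => h q p hq hp hqπ hpπ
      obtain ⟨P, hP⟩ := (isPGroup_of_pi hu hH.prop).exists_le_sylow
      obtain ⟨Q, hQ⟩ := (isPGroup_of_pi hu hK.prop).exists_le_sylow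
      have hsyl : ∀ R : Sylow p G, Cfsg.IsPiSubgroup π (R : Subgroup G) := by
        intro R q hq hqd
        obtain ⟨k, hk⟩ := IsPGroup.iff_card.mp R.2
        rw [hk] at hqd
        rwa [(Nat.prime_dvd_prime_iff_eq hq hp).mp (hq.dvd_of_dvd_pow hqd)]
      have eH : (P : Subgroup G) = H := le_antisymm (hH.le_of_ge (hsyl P) hP) hP
      have eK : (Q : Subgroup G) = K := le_antisymm (hK.le_of_ge (hsyl Q) hQ) hQ
      obtain ⟨a, ha⟩ := Cfsg.Agent.Lib.Transfer.exists_sylow_map_conj_eq Q P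
      exact ⟨a, by rw [← eH, ← eK]; exact ha.symm⟩
    · have hbot : ∀ L : Subgroup G, Cfsg.IsPiSubgroup π L → L = ⊥ := by
        intro L hL
        refine Subgroup.eq_bot_of_card_eq L ?_
        by_contra hne
        obtain ⟨q, hq, hqd⟩ := Nat.exists_prime_and_dvd hne
        exact he ⟨q, hq, hL q hq hqd⟩
      exact ⟨1, by rw [hbot _ hK.prop, hbot _ hH.prop, Subgroup.map_bot]⟩
  · have htop : ∀ L : Subgroup G, Cfsg.IsPiSubgroup π L := fun L q hq _ => h q hq
    refine ⟨1, ?_⟩
    rw [top_le_iff.mp (hK.le_of_ge (htop ⊤) le_top), top_le_iff.mp (hH.le_of_ge (htop ⊤) le_top),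
      Subgroup.map_top_of_surjective _ (MulAut.conj (1 : G)).surjective]

lemma e_of_d {π : Set ℕ} {G : Type} [Group G] [Finite G] (h : Cfsg.IsDPiGroup π G) :
    Cfsg.IsEPiGroup π G := by
  have hex : ∀ L : Subgroup G, Cfsg.IsPiSubgroup π L → ∃ M, L ≤ M ∧ Maximal (Cfsg.IsPiSubgroup π) M :=
    fun L hL => Finite.exists_le_maximal hL
  obtain ⟨H, -, hH⟩ := hex ⊥ (fun q hq hqd => absurd (Subgroup.card_bot (G := G) ▸ hqd) hq.not_dvd_one)
  refine ⟨H, hH.prop, fun p hp hpπ hpd => ?_⟩
  haveI := Fact.mk hp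
  obtain ⟨k, hk⟩ := IsPGroup.iff_card.mp (default : Sylow p G).2
  obtain ⟨M, hPM, hM⟩ := hex (default : Sylow p G) (fun q hq hqd => by
    rw [hk] at hqd
    rwa [(Nat.prime_dvd_prime_iff_eq hq hp).mp (hq.dvd_of_dvd_pow hqd)])
  obtain ⟨g, rfl⟩ := h H M hH hM
  have h1 := Subgroup.card_dvd_of_le hPM
  rw [Subgroup.card_map_of_injective (MulAut.conj g).injective, Sylow.card_eq_multiplicity] at h1
  have h2 : p ^ ((Nat.card G).factorization p + 1) ∣ Nat.card G := by
    rw [pow_succ]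
    nth_rewrite 2 [← H.card_mul_index]
    exact mul_dvd_mul h1 hpd
  exact absurd ((hp.pow_dvd_iff_le_factorization Nat.card_pos.ne').mp h2) (by omega)

lemma exists_conj_mem {G : Type} [Group G] [Finite G] {π : Set ℕ} {H : Subgroup G} (hH : Cfsg.IsPiHall π H)
    {p : ℕ} (hp : p.Prime) (hpπ : p ∈ π) (z : G) (hz : z ^ p = 1) : ∃ g : G, g * z * g⁻¹ ∈ H := by
  haveI := Fact.mk hp
  obtain ⟨R, hR⟩ := Cfsg.Agent.Lib.Transfer.exists_sylow_le_of_not_dvd_index H (hH.2 p hp hpπ)
  obtain ⟨k, -, hk⟩ := (Nat.dvd_prime_pow hp).mp (orderOf_dvd_of_pow_eq_one (by rw [pow_one]; exact hz : z ^ p ^ 1 = 1))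
  obtain ⟨Q, hQ⟩ := (IsPGroup.of_card (n := k) (by rw [Nat.card_zpowers, hk]) : IsPGroup p (Subgroup.zpowers z)).exists_le_sylow
  obtain ⟨a, ha⟩ := Cfsg.Agent.Lib.Transfer.exists_sylow_map_conj_eq R Q
  exact ⟨a, hR (ha ▸ ⟨z, hQ (Subgroup.mem_zpowers z), rfl⟩)⟩

lemma prime_le_mem {π : Set ℕ} (hE : ∀ (G : Type) [Group G] [Finite G], Cfsg.IsEPiGroup π G)
    {p q : ℕ} (hp : p.Prime) (hq : q.Prime) (hpπ : p ∈ π) (hqπ : q ∈ π) (hpq : p < q) :
    2 ∈ π ∧ (p = 2 → ∀ s : ℕ, s.Prime → s ≤ q → s ∈ π) := by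
  obtain ⟨H, hH⟩ := hE (Perm (Fin q))
  haveI : NeZero q := ⟨hq.ne_zero⟩
  have hcyc : ∀ (s : ℕ), s.Prime → s ∈ π → s ≤ q →
      ∃ g ∈ H, g.IsCycle ∧ g.support.card = s := by
    intro s hs hsπ hsq
    have h0 : (⟨s - 1, by have := hs.two_le; omega⟩ : Fin q) ≠ 0 := by
      intro h; have := congrArg Fin.val h; have := hs.two_le; simp at *; omega
    have hz := Fin.isCycle_cycleRange h0
    have hsupp : (Fin.cycleRange (⟨s - 1, by have := hs.two_le; omega⟩ : Fin q)).support.card = s := by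
      rw [← sum_cycleType, Fin.cycleType_cycleRange h0]
      simp; have := hs.two_le; omega
    obtain ⟨g, hg⟩ := exists_conj_mem hH hs hsπ _ (by
      rw [← hsupp, ← hz.orderOf]; exact pow_orderOf_eq_one (Fin.cycleRange (⟨s - 1, by have := hs.two_le; omega⟩ : Fin q)))
    exact ⟨_, hg, hz.conj, by rw [card_support_conj, hsupp]⟩
  obtain ⟨c, hcH, hc, hcq⟩ := hcyc q hq hqπ le_rfl
  obtain ⟨x, hxH, hx, hxp⟩ := hcyc p hp hpπ hpq.le
  have hsupp : c.support = Finset.univ := Finset.eq_univ_of_card _ (by rw [hcq, Fintype.card_fin])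
  have hall : H = ⊤ → ∀ s : ℕ, s.Prime → s ≤ q → s ∈ π := by
    intro ht s hs hsq
    apply hH.1 s hs
    rw [ht, Subgroup.card_top, Nat.card_perm, Nat.card_fin]
    exact hs.dvd_factorial.mpr hsq
  have hp2top : p = 2 → H = ⊤ := by
    rintro rfl
    rw [eq_top_iff, ← closure_prime_cycle_swap (by simpa using hq) hc hsupp (card_support_eq_two.mp hxp),
      Subgroup.closure_le]
    exact Set.insert_subset hcH (Set.singleton_subset_iff.mpr hxH)
  refine ⟨?_, fun h2 => hall (hp2top h2)⟩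
  by_cases h2 : p = 2
  · exact h2 ▸ hpπ
  have hq3 : 3 ≤ q := by have := hp.two_le; omega
  haveI : IsPretransitive H (Fin q) := by
    refine ⟨fun a b => ?_⟩
    obtain ⟨i, hi⟩ := hc.exists_zpow_eq (x := a) (y := b) (mem_support.mp (hsupp ▸ Finset.mem_univ a))
      (mem_support.mp (hsupp ▸ Finset.mem_univ b))
    exact ⟨⟨c ^ i, zpow_mem hcH i⟩, hi⟩
  have hprim : IsPreprimitive H (Fin q) := IsPreprimitive.of_prime_card (by rwa [Nat.card_fin])
  have h2t : IsMultiplyPretransitive H (Fin q) 2 := by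
    refine hprim.is_two_pretransitive (s := (x.support : Set (Fin q))ᶜ) (n := q - p - 1) ?_ ?_
      (isPretransitive_of_isCycle_mem hx hxH)
    · rw [Set.ncard_compl, Set.ncard_coe_finset, hxp, Nat.card_fin]; omega
    · rw [Nat.card_fin]; have := hp.two_le; omega
  let a : Fin q := ⟨0, by omega⟩
  let b : Fin q := ⟨1, by omega⟩
  have hab : a ≠ b := fun h => by simpa [a, b] using congrArg Fin.val h
  obtain ⟨g, hga, hgb⟩ := is_two_pretransitive_iff.mp h2t hab hab.symm
  apply hH.1 2 Nat.prime_two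
  by_contra hodd
  have ho : Odd (orderOf g) := Nat.not_even_iff_odd.mp fun he =>
    hodd ((even_iff_two_dvd.mp he).trans (orderOf_dvd_natCard g))
  obtain ⟨k, hk⟩ := ho
  have hiter : ∀ j : ℕ, g ^ (2 * j) • a = a := by
    intro j
    induction j with
    | zero => simp
    | succ j ih => rw [Nat.mul_succ, pow_add, mul_smul, pow_two, mul_smul, hga, hgb, ih]
  have h1 := congrArg (fun t : H => t • a) (pow_orderOf_eq_one g)
  rw [hk, pow_succ', mul_smul, hiter, hga, one_smul] at h1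
  exact hab h1.symm

lemma forward {π : Set ℕ} (hE : ∀ (G : Type) [Group G] [Finite G], Cfsg.IsEPiGroup π G) :
    (∀ p q : ℕ, p.Prime → q.Prime → p ∈ π → q ∈ π → p = q) ∨ ∀ p : ℕ, p.Prime → p ∈ π := by
  classical
  by_contra hcon
  simp only [not_or, not_forall, exists_prop] at hcon
  obtain ⟨⟨p, q, hp, hq, hpπ, hqπ, hne⟩, hmiss⟩ := hcon
  rcases lt_or_gt_of_ne hne with hlt | hlt
  · exact go hp hq hpπ hqπ hlt hmiss
  · exact go hq hp hqπ hpπ hlt hmiss
where
  go {p q : ℕ} (hp : p.Prime) (hq : q.Prime) (hpπ : p ∈ π) (hqπ : q ∈ π) (hpq : p < q)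
      (hmiss : ∃ r : ℕ, r.Prime ∧ r ∉ π) : False := by
    classical
    have h2 : 2 ∈ π := (prime_le_mem hE hp hq hpπ hqπ hpq).1
    have hle : ∀ s : ℕ, s.Prime → s ≤ q → s ∈ π :=
      (prime_le_mem hE Nat.prime_two hq h2 hqπ (by have := hp.two_le; omega)).2 rfl
    obtain ⟨r, ⟨hr, hrπ⟩, hmin⟩ : ∃ r, (r.Prime ∧ r ∉ π) ∧ ∀ s < r, ¬ (s.Prime ∧ s ∉ π) :=
      ⟨Nat.find hmiss, Nat.find_spec hmiss, fun s hs => Nat.find_min hmiss hs⟩
    have hr5 : 5 ≤ r := by
      by_contra hr5
      have : r ≤ 3 := by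
        by_contra h
        have : r = 4 := by omega
        rw [this] at hr
        exact absurd hr (by norm_num)
      have hq3 : 3 ≤ q := by have := hp.two_le; omega
      exact hrπ (hle r hr (by omega))
    obtain ⟨H, hH⟩ := hE (Perm (Fin (r + 1)))
    -- the index of `H` is `r`
    have hdvd : ∀ s : ℕ, s.Prime → s ∣ H.index → s = r := by
      intro s hs hsd
      have hsle : s ≤ r + 1 := hs.dvd_factorial.mp (by
        refine hsd.trans ?_
        have := Subgroup.index_dvd_card H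
        rwa [Nat.card_perm, Nat.card_fin] at this)
      have hsπ : s ∉ π := fun h => hH.2 s hs h hsd
      by_contra hsr
      rcases lt_or_gt_of_ne hsr with h | h
      · exact hmin s h ⟨hs, hsπ⟩
      · have hs' : s = r + 1 := by omega
        obtain ⟨k, hk⟩ := hr.odd_of_ne_two (by omega)
        have : 2 ∣ s := ⟨k + 1, by omega⟩
        have := (Nat.prime_dvd_prime_iff_eq Nat.prime_two hs).mp this
        omega
    have hidx : H.index = r := by
      obtain hpow := Nat.eq_prime_pow_of_unique_prime_dvd H.index_ne_zero_of_finite (fun {d} hd hdd => hdvd d hd hdd)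
      rcases hk : H.index.primeFactorsList.length with _ | _ | k
      · rw [hk, pow_zero] at hpow
        exfalso
        have := hH.1 r hr (by
          have hc := H.card_mul_index
          rw [hpow, mul_one, Nat.card_perm, Nat.card_fin] at hc
          rw [hc]
          exact hr.dvd_factorial.mpr (by omega))
        exact hrπ this
      · rw [hk] at hpow; simpa using hpow
      · exfalso
        rw [hk] at hpow
        have h1 : r ^ 2 ∣ (r + 1).factorial := by
          refine (pow_dvd_pow r (show 2 ≤ k + 1 + 1 by omega)).trans ?_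
          have := Subgroup.index_dvd_card H
          rwa [hpow, Nat.card_perm, Nat.card_fin] at this
        rw [Nat.factorial_succ] at h1
        have hcop : Nat.Coprime (r ^ 2) (r + 1) :=
          Nat.Coprime.pow_left 2 (by simp [Nat.coprime_self_add_right])
        have h3 := hcop.dvd_of_dvd_mul_left h1
        obtain ⟨r', rfl⟩ := Nat.exists_eq_succ_of_ne_zero hr.ne_zero
        rw [Nat.factorial_succ, sq] at h3
        have := hr.dvd_factorial.mp (Nat.dvd_of_mul_dvd_mul_left (by omega) h3)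
        omega
    haveI : IsSimpleGroup (alternatingGroup (Fin (r + 1))) :=
      alternatingGroup.isSimpleGroup (by rw [Nat.card_fin]; omega)
    let f := (MulAction.toPermHom (Perm (Fin (r + 1))) (Perm (Fin (r + 1)) ⧸ H)).comp
      (alternatingGroup (Fin (r + 1))).subtype
    rcases (inferInstance : f.ker.Normal).eq_bot_or_eq_top with hk | hk
    · have hle' := Nat.card_le_card_of_injective _ ((MonoidHom.ker_eq_bot_iff f).mp hk)
      rw [Nat.card_perm, ← Subgroup.index_eq_card, hidx] at hle'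
      haveI : Nontrivial (Fin (r + 1)) := Fin.nontrivial_iff_two_le.mpr (by omega)
      have h2 := two_mul_card_alternatingGroup (α := Fin (r + 1))
      rw [← Nat.card_eq_fintype_card, ← Nat.card_eq_fintype_card, Nat.card_perm, Nat.card_fin] at h2
      rw [Nat.factorial_succ] at h2
      nlinarith [r.factorial_pos]
    · have hsub : alternatingGroup (Fin (r + 1)) ≤ H := by
        intro g hg
        have : (⟨g, hg⟩ : alternatingGroup (Fin (r + 1))) ∈ f.ker := hk ▸ Subgroup.mem_top _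
        have h1 := congrArg (fun t : Perm (Perm (Fin (r + 1)) ⧸ H) => t (QuotientGroup.mk 1)) this
        have h2 : (QuotientGroup.mk (g * 1) : Perm (Fin (r + 1)) ⧸ H) = QuotientGroup.mk 1 := h1
        simpa [QuotientGroup.eq] using h2
      haveI : Nontrivial (Fin (r + 1)) := Fin.nontrivial_iff_two_le.mpr (by omega)
      have := Subgroup.index_dvd_of_le hsub
      rw [hidx, alternatingGroup.index_eq_two] at this
      have := Nat.le_of_dvd two_pos this
      omega

/-- For a set of primes π the following are equivalent: every finite group has a Hall π-subgroup; in every finite group the maximal π-subgroups are pairwise conjugate; π contains at most one prime or contains every prime. -/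
theorem result (π : Set ℕ) :
    ((∀ (G : Type) [Group G] [Finite G], Cfsg.IsEPiGroup π G) ↔
      ((∀ p q : ℕ, p.Prime → q.Prime → p ∈ π → q ∈ π → p = q) ∨ ∀ p : ℕ, p.Prime → p ∈ π)) ∧
    ((∀ (G : Type) [Group G] [Finite G], Cfsg.IsDPiGroup π G) ↔
      ((∀ p q : ℕ, p.Prime → q.Prime → p ∈ π → q ∈ π → p = q) ∨ ∀ p : ℕ, p.Prime → p ∈ π)) := by
  refine ⟨⟨forward, fun h G _ _ => e_of_d (d_trivial h G)⟩,
    ⟨fun h => forward fun G _ _ => e_of_d (h G), fun h G _ _ => d_trivial h G⟩⟩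

end Cfsg.Agent.S3878
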