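import Cfsg.Statements.S2534
import Cfsg.Agent.Lib.SymHall.Consequences
import Cfsg.Agent.Lib.Hall.Nilpotent
import Cfsg.Agent.S3878

set_option autoImplicit false
open Cfsg

namespace Cfsg.Agent.S2534

open Equiv Subgroup MulAction
open scoped Pointwise

/-- the index of a pair -/
def pairIdx : Fin 4 → Fin 4 → Fin 6 :=
  ![![0, 0, 1, 2], ![0, 0, 3, 4], ![1, 3, 0, 5], ![2, 4, 5, 0]]

/-- first member of a pair -/
def pairA : Fin 6 → Fin 4 := ![0, 0, 0, 1, 1, 2]

/-- second member of a pair -/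
def pairB : Fin 6 → Fin 4 := ![1, 2, 3, 2, 3, 3]

theorem pair_inv : ∀ (σ : Perm (Fin 4)) (i : Fin 6),
    pairIdx (σ⁻¹ (pairA (pairIdx (σ (pairA i)) (σ (pairB i))))) (σ⁻¹ (pairB (pairIdx (σ (pairA i)) (σ (pairB i))))) = i ∧
    pairIdx (σ (pairA (pairIdx (σ⁻¹ (pairA i)) (σ⁻¹ (pairB i))))) (σ (pairB (pairIdx (σ⁻¹ (pairA i)) (σ⁻¹ (pairB i))))) = i := by
  decide +kernel

/-- the action of `Sym(4)` on the six pairs -/
def pairPerm (σ : Perm (Fin 4)) : Perm (Fin 6) where
  toFun i := pairIdx (σ (pairA i)) (σ (pairB i))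
  invFun i := pairIdx (σ⁻¹ (pairA i)) (σ⁻¹ (pairB i))
  left_inv i := (pair_inv σ i).1
  right_inv i := (pair_inv σ i).2

theorem pairPerm_mul : ∀ σ τ : Perm (Fin 4), ∀ i : Fin 6, pairPerm (σ * τ) i = pairPerm σ (pairPerm τ i) := by
  decide +kernel

/-- `Sym(4)` acting on six pairs and fixing `m` more letters -/
def pairHom (m : ℕ) : Perm (Fin 4) →* Perm (Fin (6 + m)) :=
  finSumFinEquiv.permCongrHom.toMonoidHom.comp ((Perm.sumCongrHom (Fin 6) (Fin m)).comp
    ((MonoidHom.inl (Perm (Fin 6)) (Perm (Fin m))).comp (MonoidHom.mk' pairPerm fun σ τ => Perm.ext (pairPerm_mul σ τ))))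

theorem pairHom_even_one : ∀ σ : Perm (Fin 4), Perm.sign (pairHom 1 σ) = 1 := by decide +kernel

theorem pairHom_even_two : ∀ σ : Perm (Fin 4), Perm.sign (pairHom 2 σ) = 1 := by decide +kernel

theorem seven_bad : ∀ t : Finset (Fin (6 + 1)), t.card = 3 → ∃ σ : Perm (Fin 4), ∃ x ∈ t, pairHom 1 σ x ∉ t := by
  decide +kernel

theorem eight_bad : ∀ t : Finset (Fin (6 + 2)), t.card = 4 →
    ∃ σ : Perm (Fin 4), (∃ x ∈ t, pairHom 2 σ x ∉ t) ∧ ∃ x ∈ t, pairHom 2 σ x ∈ t := by
  decide +kernel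

theorem rot_ne : ∀ i : Fin 3, finRotate 3 i ≠ i := by decide

theorem isPiNumber_of_dvd {π : Set ℕ} {m : ℕ} (h2 : 2 ∈ π) (h3 : 3 ∈ π) (h : m ∣ 2 ^ 3 * 3) :
    Lib.Hall.IsPiNumber π m := fun p hp hd => by
  rcases hp.dvd_mul.1 (hd.trans h) with h' | h'
  · rwa [(Nat.prime_dvd_prime_iff_eq hp Nat.prime_two).1 (hp.dvd_of_dvd_pow h')]
  · rwa [(Nat.prime_dvd_prime_iff_eq hp Nat.prime_three).1 h']

/-- A `{2,3}`-subgroup of even permutations without invariant configuration. -/
theorem exists_bad {n : ℕ} (hn : 5 ≤ n) {π : Set ℕ} {W : Subgroup (Perm (Fin n))}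
    (hW : Lib.SymHall.IsStd π W) :
    ∃ U : Subgroup (Perm (Fin n)), U ≤ alternatingGroup (Fin n) ∧ Lib.Hall.IsPiNumber π (Nat.card U) ∧
      ∀ g : Perm (Fin n), ¬ U ≤ W.map (MulAut.conj g).toMonoidHom := by
  have hc : Fintype.card (Fin n) = n := Fintype.card_fin n
  rcases hW with ⟨hP, t, ht, rfl⟩ | ⟨h7, hT, t, ht, rfl⟩ | ⟨h8, hT, t, ht, rfl⟩
  · rw [hc] at hP
    have h2π : 2 ∈ π := (hP.2 2 Nat.prime_two (by omega)).2 (by omega)
    have h3π : 3 ∈ π := (hP.2 3 Nat.prime_three (by omega)).2 (by omega)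
    obtain ⟨k, hk⟩ : ∃ k, n = 2 * k + 3 := by
      have := hP.1.eq_two_or_odd
      exact ⟨(n - 3) / 2, by omega⟩
    let e : (Fin 3 ⊕ (Fin k × Bool)) ≃ Fin n := Fintype.equivFinOfCardEq (by simp; omega)
    let hb : Perm Bool →* Perm (Fin k × Bool) :=
      MonoidHom.mk' (fun b => Equiv.prodCongr (Equiv.refl _) b) fun a b => Perm.ext fun x => rfl
    let f : Perm (Fin 3) × Perm Bool →* Perm (Fin n) :=
      e.permCongrHom.toMonoidHom.comp ((Perm.sumCongrHom (Fin 3) (Fin k × Bool)).comp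
        ((MonoidHom.id _).prodMap hb))
    refine ⟨f.range ⊓ alternatingGroup (Fin n), inf_le_right, ?_, fun g hle => ?_⟩
    · refine isPiNumber_of_dvd h2π h3π ((card_dvd_of_le inf_le_left).trans ((card_range_dvd f).trans ?_))
      rw [Nat.card_prod, Nat.card_perm, Nat.card_perm, Nat.card_eq_fintype_card, Nat.card_eq_fintype_card]
      decide
    · obtain ⟨x, rfl⟩ := Finset.card_eq_one.1 ht
      have hfix : ∀ p, Perm.sign (f p) = 1 → f p (g x) = g x := fun p hp => by
        obtain ⟨w, hw, he⟩ := hle ⟨⟨p, rfl⟩, Perm.mem_alternatingGroup.2 hp⟩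
        have hw' : w x = x := by
          have := (mem_stabilizer_iff.1 hw)
          simpa [Finset.smul_finset_singleton] using this
        rw [← he]
        simp [Perm.mul_apply, hw']
      obtain ⟨y, hy⟩ := e.surjective (g x)
      rw [← hy] at hfix
      have hval : ∀ p, f p (e y) = e (Sum.map p.1 (hb p.2) y) := fun p => by
        simp [f, Equiv.permCongr_apply]
      rcases y with i | ⟨i, b⟩
      · have hsgn : Perm.sign (f (finRotate 3, 1)) = 1 := by
          have h3 : (finRotate 3, (1 : Perm Bool)) = (finRotate 3 * finRotate 3, (1 : Perm Bool)) *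
              (finRotate 3 * finRotate 3, (1 : Perm Bool)) := by decide
          rw [h3, map_mul, map_mul, Int.units_mul_self]
        have := hfix _ hsgn
        rw [hval, e.apply_eq_iff_eq, Sum.map_inl, Sum.inl.injEq] at this
        exact rot_ne i this
      · rcases Int.units_eq_one_or (Perm.sign (f (1, Equiv.swap true false))) with h | h
        · have := hfix _ h
          rw [hval, e.apply_eq_iff_eq, Sum.map_inr, Sum.inr.injEq] at this
          have := congrArg Prod.snd this
          revert this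
          cases b <;> simp [hb]
        · rcases Int.units_eq_one_or (Perm.sign (f (Equiv.swap 0 1, 1))) with h' | h'
          · exfalso
            have : Perm.sign (f (Equiv.swap 0 1, 1)) = -1 := by
              simp only [f, MonoidHom.comp_apply, MulEquiv.coe_toMonoidHom]
              simp
            rw [h'] at this
            exact absurd this (by decide)
          have hs : Perm.sign (f (Equiv.swap 0 1, Equiv.swap true false)) = 1 := by
            rw [show ((Equiv.swap (0 : Fin 3) 1, Equiv.swap true false) : Perm (Fin 3) × Perm Bool) =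
              (Equiv.swap 0 1, 1) * (1, Equiv.swap true false) by simp, map_mul, map_mul, h, h']
            decide
          have := hfix _ hs
          rw [hval, e.apply_eq_iff_eq, Sum.map_inr, Sum.inr.injEq] at this
          have := congrArg Prod.snd this
          revert this
          cases b <;> simp [hb]
  · rw [hc] at h7 hT
    subst h7
    refine ⟨(pairHom 1).range, fun x ⟨σ, hσ⟩ => hσ ▸ Perm.mem_alternatingGroup.2 (pairHom_even_one σ), ?_, fun g hle => ?_⟩
    · refine isPiNumber_of_dvd ((hT 2 Nat.prime_two (by omega)).2 (Or.inl rfl))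
        ((hT 3 Nat.prime_three (by omega)).2 (Or.inr rfl)) ((card_range_dvd _).trans ?_)
      rw [Nat.card_perm, Nat.card_fin]; decide
    · obtain ⟨σ, x, hx, hxn⟩ := seven_bad (g • t) (by rw [Finset.card_smul_finset]; exact ht)
      obtain ⟨w, hw, he⟩ := hle ⟨σ, rfl⟩
      apply hxn
      rw [← he]
      have h' : (g * w * g⁻¹) • (g • t) = g • t := by
        rw [← mul_smul, inv_mul_cancel_right, mul_smul, mem_stabilizer_iff.1 hw]
      have hm := Finset.smul_mem_smul_finset (a := g * w * g⁻¹) hx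
      rw [h'] at hm
      exact hm
  · rw [hc] at h8 hT
    subst h8
    refine ⟨(pairHom 2).range, fun x ⟨σ, hσ⟩ => hσ ▸ Perm.mem_alternatingGroup.2 (pairHom_even_two σ), ?_, fun g hle => ?_⟩
    · refine isPiNumber_of_dvd ((hT 2 Nat.prime_two (by omega)).2 (Or.inl rfl))
        ((hT 3 Nat.prime_three (by omega)).2 (Or.inr rfl)) ((card_range_dvd _).trans ?_)
      rw [Nat.card_perm, Nat.card_fin]; decide
    · obtain ⟨σ, ⟨x, hx, hxn⟩, y, hy, hyt⟩ := eight_bad (g • t) (by rw [Finset.card_smul_finset]; exact ht)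
      obtain ⟨w, hw, he⟩ := hle ⟨σ, rfl⟩
      rw [← he] at hxn hyt
      have hmem : (g * w * g⁻¹) • (g • t) ∈ ({g • t, (g • t)ᶜ} : Finset (Finset (Fin (6 + 2)))) := by
        rw [← mul_smul, inv_mul_cancel_right, mul_smul, ← Lib.SymHall.smul_compl']
        have hw' : w • t ∈ ({t, tᶜ} : Finset (Finset (Fin (6 + 2)))) := by
          have hm := Finset.smul_mem_smul_finset (a := w) (Finset.mem_insert_self t {tᶜ})
          rwa [mem_stabilizer_iff.1 hw] at hm
        rcases Finset.mem_insert.1 hw' with h | h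
        · rw [h]; exact Finset.mem_insert_self _ _
        · rw [Finset.mem_singleton.1 h]; exact Finset.mem_insert_of_mem (Finset.mem_singleton_self _)
      rcases Finset.mem_insert.1 hmem with h | h
      · exact hxn (h ▸ Finset.smul_mem_smul_finset hx)
      · have h1 := Finset.mem_singleton.1 h ▸ Finset.smul_mem_smul_finset (a := g * w * g⁻¹) hy
        exact Finset.mem_compl.1 h1 hyt

/-- For `n ≥ 5` and a set of primes `π`, the alternating group of degree `n` satisfies the full Sylow analogue for `π` (its maximal `π`-subgroups are pairwise conjugate; for a finite group this says Hall `π`-subgroups exist, are all conjugate, and contain every `π`-subgroup up to conjugacy) if and only if either at most one prime of `π` divides its order or every prime dividing its order lies in `π`. -/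
theorem result (n : ℕ) (hn : 5 ≤ n) (π : Set ℕ) :
    Cfsg.IsDPiGroup π ↥(alternatingGroup (Fin n)) ↔
      ((∀ r s : ℕ, r.Prime → s.Prime → r ∈ π → s ∈ π → r ∣ Nat.card ↥(alternatingGroup (Fin n)) → s ∣ Nat.card ↥(alternatingGroup (Fin n)) → r = s) ∨
        ∀ r : ℕ, r.Prime → r ∣ Nat.card ↥(alternatingGroup (Fin n)) → r ∈ π) := by
  have hcn : Nat.card ↥(alternatingGroup (Fin n)) * 2 = n.factorial := by
    haveI : Nontrivial (Fin n) := Fin.nontrivial_iff_two_le.mpr (by omega)
    rw [mul_comm, two_mul_nat_card_alternatingGroup, Nat.card_perm, Nat.card_fin]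
  constructor
  · intro hD
    by_contra hne
    rw [not_or] at hne
    obtain ⟨h1, h2⟩ := hne
    push Not at h1 h2
    obtain ⟨r, s, hr, hs, hrπ, hsπ, hrd, hsd, hrs⟩ := h1
    obtain ⟨q, hq, hqd, hqπ⟩ := h2
    have hle : ∀ p : ℕ, p.Prime → p ∣ Nat.card ↥(alternatingGroup (Fin n)) → p ≤ n := fun p hp hd =>
      hp.dvd_factorial.1 (hcn ▸ hd.mul_right 2)
    obtain ⟨M, hM⟩ := S3878.e_of_d hD
    obtain ⟨W, hW, rfl⟩ := (Lib.SymHall.alt_hall_iff M).1 hM
    have hc : Fintype.card (Fin n) = n := Fintype.card_fin n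
    obtain ⟨W', hW', he⟩ := (Lib.SymHall.classify π (Fin n) ⊤ W le_top (Lib.SymHall.isPiHallOf_top_iff.2 hW)
      (by rw [hc]; exact ⟨r, s, hr, hs, hrs, hrπ, hsπ, hle r hr hrd, hle s hs hsd⟩)
      (by rw [hc]; exact ⟨q, hq, hle q hq hqd, hqπ⟩)).exists_std
    rw [inf_top_eq] at he
    subst he
    obtain ⟨U, hUA, hUπ, hUbad⟩ := exists_bad hn hW'
    obtain ⟨g, hg⟩ := Lib.Hall.dominates_of_isDPiGroup hD hM (U.subgroupOf (alternatingGroup (Fin n))) (by
      rw [Nat.card_congr (Subgroup.subgroupOfEquivOfLe hUA).toEquiv]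
      exact hUπ)
    refine hUbad g.1 fun x hx => ?_
    obtain ⟨y, hy, he⟩ := hg (show (⟨x, hUA hx⟩ : alternatingGroup (Fin n)) ∈ U.subgroupOf _ from hx)
    exact ⟨y.1, hy, congrArg Subtype.val he⟩
  · intro h
    rcases h with h | h
    · intro H K hH hK
      have hπ : ∀ L : Subgroup ↥(alternatingGroup (Fin n)), Cfsg.IsPiSubgroup π L ↔
          Cfsg.IsPiSubgroup {p | p ∈ π ∧ p ∣ Nat.card ↥(alternatingGroup (Fin n))} L := fun L =>
        ⟨fun hL p hp hd => ⟨hL p hp hd, hd.trans L.card_subgroup_dvd_card⟩, fun hL p hp hd => (hL p hp hd).1⟩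
      have e : (Cfsg.IsPiSubgroup π : Subgroup ↥(alternatingGroup (Fin n)) → Prop) =
          Cfsg.IsPiSubgroup {p | p ∈ π ∧ p ∣ Nat.card ↥(alternatingGroup (Fin n))} :=
        funext fun L => propext (hπ L)
      rw [e] at hH hK
      exact S3878.d_trivial (Or.inl fun p q hp hq hpπ hqπ => h p q hp hq hpπ.1 hqπ.1 hpπ.2 hqπ.2) _ H K hH hK
    · intro H K hH hK
      have hπ : ∀ L : Subgroup ↥(alternatingGroup (Fin n)), Cfsg.IsPiSubgroup π L := fun L p hp hd =>
        h p hp (hd.trans L.card_subgroup_dvd_card)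
      refine ⟨1, ?_⟩
      rw [top_le_iff.1 (hK.le_of_ge (hπ ⊤) le_top), top_le_iff.1 (hH.le_of_ge (hπ ⊤) le_top),
        Subgroup.map_top_of_surjective _ (MulAut.conj (1 : ↥(alternatingGroup (Fin n)))).surjective]

end Cfsg.Agent.S2534
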