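import Cfsg.Statements.S2536
import Cfsg.Agent.Lib.SymHall.Consequences

set_option autoImplicit false
open Cfsg

namespace Cfsg.Agent.S2536

open scoped Pointwise in
/-- The stabilizer of a partition of eight letters into two fours has index 35. -/
theorem index_pairs (t : Finset (Fin 8)) (ht : t.card = 4) :
    (MulAction.stabilizer (Equiv.Perm (Fin 8)) ({t, tᶜ} : Finset (Finset (Fin 8)))).index = 35 := by
  rw [MulAction.index_stabilizer]
  have h : MulAction.orbit (Equiv.Perm (Fin 8)) ({t, tᶜ} : Finset (Finset (Fin 8))) =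
      ↑(((Finset.univ : Finset (Fin 8)).powersetCard 4).image fun s => ({s, sᶜ} : Finset (Finset (Fin 8)))) := by
    ext P
    rw [Finset.mem_coe, Finset.mem_image]
    constructor
    · rintro ⟨g, rfl⟩
      exact ⟨g • t, Finset.mem_powersetCard_univ.2 (by rw [Finset.card_smul_finset, ht]), (Lib.SymHall.smul_pair g t).symm⟩
    · rintro ⟨s, hs, rfl⟩
      obtain ⟨g, hg⟩ := Lib.SymHall.exists_map_finset (ht.trans (Finset.mem_powersetCard_univ.1 hs).symm)
      exact ⟨g, (Lib.SymHall.smul_pair g t).trans (by rw [hg])⟩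
  rw [h, Set.ncard_coe_finset]
  decide +kernel

/-- Let `π` be a set of primes and `n` a natural number such that at least two primes of `π` divide `n!` but not every prime dividing `n!` lies in `π`. Then the symmetric group of degree `n` has a Hall `π`-subgroup if and only if either `n` is prime and the primes of `π` dividing `n!` are exactly the primes smaller than `n` (a point stabilizer is then such a subgroup), or `n ∈ {7, 8}` and the primes of `π` dividing `n!` are exactly 2 and 3. -/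
theorem result (n : ℕ) (π : Set ℕ)
    (h2 : ∃ r s : ℕ, r.Prime ∧ s.Prime ∧ r ≠ s ∧ r ∈ π ∧ s ∈ π ∧ r ≤ n ∧ s ≤ n)
    (hns : ∃ r : ℕ, r.Prime ∧ r ≤ n ∧ r ∉ π) :
    Cfsg.IsEPiGroup π (Equiv.Perm (Fin n)) ↔
      ((n.Prime ∧ ∀ r : ℕ, r.Prime → r ≤ n → (r ∈ π ↔ r < n)) ∨
       ((n = 7 ∨ n = 8) ∧ ∀ r : ℕ, r.Prime → r ≤ n → (r ∈ π ↔ (r = 2 ∨ r = 3)))) := by
  have hc : Fintype.card (Fin n) = n := Fintype.card_fin n
  constructor
  · rintro ⟨H, hH⟩
    have h := (Lib.SymHall.classify π (Fin n) ⊤ H le_top (Lib.SymHall.isPiHallOf_top_iff.2 hH)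
      (by rw [hc]; exact h2) (by rw [hc]; exact hns)).shape
    rw [hc] at h
    exact h
  · rintro h
    obtain ⟨W, hW⟩ : ∃ W : Subgroup (Equiv.Perm (Fin n)), Lib.SymHall.IsStd π W := by
      rcases h with hP | ⟨hn, hT⟩
      · have h0 : 0 < n := hP.1.pos
        exact ⟨_, Or.inl ⟨by rw [hc]; exact hP, {⟨0, h0⟩}, Finset.card_singleton _, rfl⟩⟩
      · obtain ⟨t, -, ht⟩ := Finset.exists_subset_card_eq (s := (Finset.univ : Finset (Fin n)))
          (n := n - 4) (by rw [Finset.card_univ, hc]; omega)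
        rcases hn with e | e
        · exact ⟨_, Or.inr (Or.inl ⟨by rw [hc, e], by rw [hc]; exact hT, t, by rw [ht, e], rfl⟩)⟩
        · exact ⟨_, Or.inr (Or.inr ⟨by rw [hc, e], by rw [hc]; exact hT, t, by rw [ht, e], rfl⟩)⟩
    refine ⟨W, (Lib.Hall.isPiHall_iff W).2 ⟨hW.isPiNumber, ?_⟩⟩
    intro p hp hd hpπ
    have hdn : p ∣ n.factorial := by
      have := hd.trans W.index_dvd_card
      rwa [Nat.card_perm, Nat.card_fin] at this
    have hpn : p ≤ n := hp.dvd_factorial.1 hdn
    obtain ⟨m, hm, hidx⟩ : ∃ m : ℕ, (∀ q : ℕ, q.Prime → q ∣ m → q ∈ π → q ≤ n → False) ∧ W.index ∣ m := by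
      rcases hW with ⟨h1, t, ht, rfl⟩ | ⟨h1, h2', t, ht, rfl⟩ | ⟨h1, h2', t, ht, rfl⟩
      · rw [hc] at h1
        refine ⟨n, fun q hq hqd hqπ hqn => ?_, by rw [Lib.SymHall.index_stabilizer_finset, hc, ht, Nat.choose_one_right]⟩
        have := (h1.2 q hq hqn).1 hqπ
        exact this.ne ((Nat.prime_dvd_prime_iff_eq hq h1.1).1 hqd)
      · rw [hc] at h1 h2'
        subst h1
        refine ⟨35, fun q hq hqd hqπ hqn => ?_, by rw [Lib.SymHall.index_stabilizer_finset, hc, ht]; decide⟩
        rcases (h2' q hq hqn).1 hqπ with rfl | rfl <;> norm_num at hqd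
      · rw [hc] at h1 h2'
        subst h1
        refine ⟨35, fun q hq hqd hqπ hqn => ?_, dvd_of_eq ?_⟩
        · rcases (h2' q hq hqn).1 hqπ with rfl | rfl <;> norm_num at hqd
        · exact index_pairs t ht
    exact hm p hp (hd.trans hidx) hpπ hpn

end Cfsg.Agent.S2536
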