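import Cfsg.Statements.S2537
import Cfsg.Agent.Lib.SL2.Orders2
import Cfsg.Agent.Lib.SL2.SmallExist
import Cfsg.Agent.Lib.Hall.Solvable

set_option autoImplicit false
open Cfsg

namespace Cfsg.Agent.S2537

open Cfsg.Agent.Lib.SL2

variable {F : Type*} [Field F] [Fintype F]

theorem odd_card {p : ℕ} [Fact p.Prime] [CharP F p] (hp : 5 ≤ p) : Odd (Fintype.card F) ∧ ¬ 3 ∣ Fintype.card F := by
  obtain ⟨n, hp', hn⟩ := FiniteField.card F p
  refine ⟨?_, fun h => ?_⟩
  · rw [hn]; exact (hp'.odd_of_ne_two (by omega)).pow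
  · rw [hn] at h
    have := (Nat.prime_dvd_prime_iff_eq Nat.prime_three hp').1 (Nat.prime_three.dvd_of_dvd_pow h)
    omega

theorem card_mul_two (h2 : Odd (Fintype.card F)) :
    Nat.card (PSLtwo F) * 2 = Fintype.card F * (Fintype.card F ^ 2 - 1) := by
  have := card_PSL_mul (F := F)
  rwa [Nat.gcd_eq_left (show 2 ∣ Fintype.card F - 1 by obtain ⟨k, hk⟩ := h2; omega)] at this

theorem sq_sub_one_eq (q : ℕ) : q ^ 2 - 1 = (q - 1) * (q + 1) := by
  rw [mul_comm, ← Nat.sq_sub_sq, one_pow]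

theorem eight_dvd {q : ℕ} (h : Odd q) : 8 ∣ q ^ 2 - 1 := by
  obtain ⟨k, rfl⟩ := h
  obtain ⟨j, hj⟩ := Nat.even_mul_succ_self k
  refine ⟨j, ?_⟩
  rw [sq_sub_one_eq, show (2 * k + 1 - 1) * (2 * k + 1 + 1) = 4 * (k * (k + 1)) by
    rw [Nat.add_sub_cancel]; ring, hj]
  ring

theorem three_dvd {q : ℕ} (h : ¬ 3 ∣ q) : 3 ∣ q ^ 2 - 1 := by
  rw [sq_sub_one_eq]
  rcases (show q % 3 = 1 ∨ q % 3 = 2 by omega) with h' | h'
  · exact (show 3 ∣ q - 1 by omega).mul_right _
  · exact (show 3 ∣ q + 1 by omega).mul_left _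

theorem hall_of_card {H : Subgroup (PSLtwo F)} (h2 : Odd (Fintype.card F)) (h3 : ¬ 3 ∣ Fintype.card F)
    (hpi : ∀ r : ℕ, r.Prime → r ∣ Nat.card H → r = 2 ∨ r = 3)
    (hA : ¬ 2 * (2 * Nat.card H) ∣ Fintype.card F * (Fintype.card F ^ 2 - 1))
    (hB : ¬ 3 * (2 * Nat.card H) ∣ Fintype.card F * (Fintype.card F ^ 2 - 1)) :
    Cfsg.IsPiHall ({2, 3} : Set ℕ) H := by
  refine ⟨fun r hr hd => ?_, fun r _ hrπ hd => ?_⟩
  · simpa using hpi r hr hd
  have e : r * (2 * Nat.card H) ∣ Fintype.card F * (Fintype.card F ^ 2 - 1) := by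
    rw [← card_mul_two h2, ← H.card_mul_index, show r * (2 * Nat.card H) = Nat.card H * r * 2 by ring]
    exact mul_dvd_mul_right (mul_dvd_mul_left _ hd) 2
  simp only [Set.mem_insert_iff, Set.mem_singleton_iff] at hrπ
  rcases hrπ with rfl | rfl
  · exact hA e
  · exact hB e

theorem not_succ_pow {r a : ℕ} {q : ℕ} (hr : r.Prime) (hrq : ¬ r ∣ q) (hq : 1 < q)
    (ha : (q ^ 2 - 1).factorization r = a) : ¬ r ^ (a + 1) ∣ q * (q ^ 2 - 1) := fun h => by
  have hne : q ^ 2 - 1 ≠ 0 := by
    have := Nat.pow_le_pow_left (show 2 ≤ q by omega) 2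
    omega
  exact ha ▸ Nat.pow_succ_factorization_not_dvd hne hr <| ha.symm ▸
    (Nat.Coprime.pow_left (a + 1) (hr.coprime_iff_not_dvd.2 hrq)).dvd_of_dvd_mul_left h

theorem eq_of_prime_dvd {n a b r : ℕ} (hn : n ∣ 2 ^ a * 3 ^ b) (hr : r.Prime) (h : r ∣ n) : r = 2 ∨ r = 3 := by
  rcases hr.dvd_mul.1 (h.trans hn) with h' | h'
  · exact Or.inl ((Nat.prime_dvd_prime_iff_eq hr Nat.prime_two).1 (hr.dvd_of_dvd_pow h'))
  · exact Or.inr ((Nat.prime_dvd_prime_iff_eq hr Nat.prime_three).1 (hr.dvd_of_dvd_pow h'))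

theorem exp_of_product {a b : ℕ} :
    (2 ^ a * 3 ^ b = 24 → a = 3 ∧ b = 1) ∧ (2 ^ a * 3 ^ b = 48 → a = 4 ∧ b = 1) := by
  have key : ∀ N : ℕ, N ≠ 0 → 2 ^ a * 3 ^ b = N → N.factorization 2 = a ∧ N.factorization 3 = b := by
    intro N _ e
    subst e
    rw [Nat.factorization_mul (by positivity) (by positivity), Finsupp.add_apply, Finsupp.add_apply,
      Nat.Prime.factorization_pow Nat.prime_two, Nat.Prime.factorization_pow Nat.prime_three]
    simp
  constructor <;> intro e <;> obtain ⟨h2, h3⟩ := key _ (by norm_num) e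
  · rw [← h2, ← h3, show (24 : ℕ) = 2 ^ 3 * 3 ^ 1 by norm_num, Nat.factorization_mul (by norm_num) (by norm_num),
      Finsupp.add_apply, Finsupp.add_apply, Nat.Prime.factorization_pow Nat.prime_two,
      Nat.Prime.factorization_pow Nat.prime_three]
    simp
  · rw [← h2, ← h3, show (48 : ℕ) = 2 ^ 4 * 3 ^ 1 by norm_num, Nat.factorization_mul (by norm_num) (by norm_num),
      Finsupp.add_apply, Finsupp.add_apply, Nat.Prime.factorization_pow Nat.prime_two,
      Nat.Prime.factorization_pow Nat.prime_three]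
    simp

/-- The torus normalizer realises the Hall subgroup when `4` and `3` divide the same one of `q ± 1`. -/
theorem hall_torus (h2 : Odd (Fintype.card F)) (h3 : ¬ 3 ∣ Fintype.card F) {g : SLtwo F}
    (hs : IsSemi (proj g)) {n m : ℕ} (hn : 2 * Nat.card (torus (proj g)) = n)
    (hnm : n * m = Fintype.card F ^ 2 - 1) (hm2 : m % 4 = 2) (hm3 : ¬ 3 ∣ m) :
    ∃ H : Subgroup (PSLtwo F), Cfsg.IsPiHall ({2, 3} : Set ℕ) H := by
  set N := Subgroup.normalizer ((torus (proj g) : Subgroup (PSLtwo F)) : Set (PSLtwo F))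
  have hN : Nat.card N = n := (normalizer_torus_card hs).trans hn
  have hdvd : n ∣ Fintype.card F ^ 2 - 1 := ⟨m, hnm.symm⟩
  have hq : 1 < Fintype.card F := Fintype.one_lt_card
  -- the `{2,3}`-part of the cyclic-by-two normalizer is itself a subgroup
  haveI : Group.IsSolvable N := by
    set T := (torus (proj g)).subgroupOf N with hT
    haveI : T.Normal := Subgroup.normal_in_normalizer
    have hTle : torus (proj g) ≤ N := Subgroup.le_normalizer
    have hcT : Nat.card T = Nat.card (torus (proj g)) :=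
      Nat.card_congr (Subgroup.subgroupOfEquivOfLe hTle).toEquiv
    have hi : T.index = 2 := by
      have h := T.card_mul_index
      rw [hcT, normalizer_torus_card hs, mul_comm 2] at h
      exact Nat.eq_of_mul_eq_mul_left Nat.card_pos h
    haveI := isCyclic_torus_semi hs
    haveI : IsCyclic T := (Subgroup.subgroupOfEquivOfLe hTle).isCyclic.2 inferInstance
    haveI : IsCyclic (N ⧸ T) := isCyclic_of_prime_card (p := 2) (by rw [← Subgroup.index_eq_card, hi])
    exact solvable_of_ker_le_range T.subtype (QuotientGroup.mk' T) (by simp)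
  obtain ⟨K, hK⟩ := Cfsg.Agent.Lib.Hall.exists_isPiHall (G := N) ({2, 3} : Set ℕ)
  refine ⟨K.map N.subtype, fun r hr hd => ?_, fun r hr hrπ hd => ?_⟩
  · rw [Subgroup.card_map_of_injective N.subtype_injective] at hd
    exact hK.1 r hr hd
  · rw [Subgroup.index_map_subtype] at hd
    rcases hr.dvd_mul.1 hd with h | h
    · exact hK.2 r hr hrπ h
    · have e : r * (2 * n) ∣ Fintype.card F * (n * m) := by
        rw [hnm, ← card_mul_two h2, ← N.card_mul_index, hN, show r * (2 * n) = n * r * 2 by ring]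
        exact mul_dvd_mul_right (mul_dvd_mul_left _ h) 2
      have hn0 : 0 < n := hN ▸ Nat.card_pos
      have e' : r * 2 ∣ Fintype.card F * m := by
        refine Nat.dvd_of_mul_dvd_mul_left hn0 ?_
        rw [show n * (r * 2) = r * (2 * n) by ring, show n * (Fintype.card F * m) = Fintype.card F * (n * m) by ring]
        exact e
      simp only [Set.mem_insert_iff, Set.mem_singleton_iff] at hrπ
      rcases hrπ with rfl | rfl
      · have h4 : 4 ∣ m := (Nat.Coprime.pow_left 2 (Nat.coprime_two_left.2 h2)).dvd_of_dvd_mul_left e'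
        omega
      · rcases Nat.prime_three.dvd_mul.1 ((dvd_mul_right 3 2).trans e') with h' | h'
        · exact h3 h'
        · exact hm3 h'


/-- Let `F` be a finite field with `q` elements of characteristic `p ≥ 5`, and `ε = 1` if `q ≡ 1 (mod 4)`, `ε = -1` otherwise. Then `PSL(2, F)` has a Hall `{2, 3}`-subgroup if and only if `3` divides `q − ε`, or the `{2,3}`-part of `q² − 1` is 24, or the `{2,3}`-part of `q² − 1` is 48 (the `{2,3}`-part of `m` being the largest divisor of `m` with no prime factor other than 2 and 3). -/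
theorem result {F : Type*} [Field F] [Fintype F] {p : ℕ} [Fact p.Prime] [CharP F p]
    (hp : 5 ≤ p) (q : ℕ) (hq : Fintype.card F = q) :
    (∃ H : Subgroup (Matrix.ProjectiveSpecialLinearGroup (Fin 2) F), Cfsg.IsPiHall ({2, 3} : Set ℕ) H) ↔
      (3 ∣ q - 1 ∧ q % 4 = 1) ∨ (3 ∣ q + 1 ∧ q % 4 = 3) ∨
        2 ^ (q ^ 2 - 1).factorization 2 * 3 ^ (q ^ 2 - 1).factorization 3 = 24 ∨
        2 ^ (q ^ 2 - 1).factorization 2 * 3 ^ (q ^ 2 - 1).factorization 3 = 48 := by
  subst hq
  obtain ⟨h2, h3⟩ := odd_card (F := F) hp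
  set q := Fintype.card F with hqdef
  have hq1 : 1 < q := Fintype.one_lt_card
  have hq5 : 5 ≤ q := by
    obtain ⟨n, -, hn⟩ := FiniteField.card F p
    rw [hqdef, hn]
    exact le_trans hp (Nat.le_self_pow n.ne_zero p)
  have hne : q ^ 2 - 1 ≠ 0 := by
    have := Nat.pow_le_pow_left (show 2 ≤ q by omega) 2
    omega
  obtain ⟨a, ha⟩ : ∃ a, a = (q ^ 2 - 1).factorization 2 := ⟨_, rfl⟩
  obtain ⟨b, hb⟩ : ∃ b, b = (q ^ 2 - 1).factorization 3 := ⟨_, rfl⟩
  rw [← ha, ← hb]
  have ha3 : 3 ≤ a := ha ▸ (Nat.prime_two.pow_dvd_iff_le_factorization hne).1 (eight_dvd h2)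
  have hb1 : 1 ≤ b := hb ▸ (Nat.prime_three.pow_dvd_iff_le_factorization hne).1 (by rw [pow_one]; exact three_dvd h3)
  have h2q : ¬ 2 ∣ q := fun h => Nat.not_even_iff_odd.2 h2 (even_iff_two_dvd.2 h)
  have hg : Nat.gcd 2 (q - 1) = 2 := Nat.gcd_eq_left (by omega)
  constructor
  · rintro ⟨H, hπ, hidx⟩
    have hH0 : Nat.card H ≠ 0 := Nat.card_pos.ne'
    have hmul : Nat.card H * H.index * 2 = q * (q ^ 2 - 1) := by rw [H.card_mul_index, card_mul_two h2]
    have hfac : ∀ r, r.Prime → r ∈ ({2, 3} : Set ℕ) → ¬ r ∣ q →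
        (Nat.card H).factorization r + (2 : ℕ).factorization r = (q ^ 2 - 1).factorization r := by
      intro r hr hrπ hrq
      have := congrArg (fun n => n.factorization r) hmul
      simp only [Nat.factorization_mul (mul_ne_zero hH0 Subgroup.index_ne_zero_of_finite) two_ne_zero,
        Nat.factorization_mul hH0 Subgroup.index_ne_zero_of_finite, Nat.factorization_mul (show q ≠ 0 by omega) hne,
        Finsupp.add_apply, Nat.factorization_eq_zero_of_not_dvd (hidx r hr hrπ),
        Nat.factorization_eq_zero_of_not_dvd hrq, add_zero, zero_add] at this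
      exact this
    have hv2 := hfac 2 Nat.prime_two (by simp) h2q
    have hv3 := hfac 3 Nat.prime_three (by simp) h3
    rw [Nat.Prime.factorization_self Nat.prime_two, ← ha] at hv2
    rw [Nat.factorization_eq_zero_of_not_dvd (by norm_num : ¬ 3 ∣ 2), add_zero, ← hb] at hv3
    have hT : ∀ X, Nat.card H ∣ X → 4 ∣ X ∧ 3 ∣ X := fun X hX => by
      refine ⟨dvd_trans ?_ hX, dvd_trans ?_ hX⟩
      · exact (Nat.prime_two.pow_dvd_iff_le_factorization hH0 (k := 2)).2 (by omega)
      · exact (pow_one 3) ▸ (Nat.prime_three.pow_dvd_iff_le_factorization hH0 (k := 1)).2 (by omega)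
    have hpH : ¬ p ∣ Nat.card H := fun h => by
      have := hπ p Fact.out h
      simp at this
      omega
    rcases order_cases H with h | ⟨A, hA, h⟩ | h | h | ⟨K, m, hK, hm, hKm, h⟩
    · exfalso
      refine hpH ?_
      rw [h, Subgroup.card_top]
      refine (Nat.Coprime.dvd_of_dvd_mul_right ((Nat.coprime_primes Fact.out Nat.prime_two).2 (by omega))
        (show p ∣ Nat.card (PSLtwo F) * 2 from ?_))
      rw [card_mul_two h2]
      obtain ⟨n, -, hn⟩ := FiniteField.card F p
      exact (hn ▸ dvd_pow_self p n.ne_zero : p ∣ Fintype.card F).mul_right _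
    · rcases hA.card_dvd with z | z <;> rw [← hqdef, hg] at z
      · have hd := hT (q - 1) (h.trans ((mul_dvd_mul_left 2 z).trans (by rw [Nat.mul_div_cancel' (by omega)])))
        exact Or.inl ⟨hd.2, by omega⟩
      · have hd := hT (q + 1) (h.trans ((mul_dvd_mul_left 2 z).trans (by rw [Nat.mul_div_cancel' (by omega)])))
        exact Or.inr (Or.inl ⟨hd.2, by omega⟩)
    · have hB : Nat.card H ∣ (q - 1) * q := h.trans ⟨2, by
        have := card_borelPSL_mul (F := F)
        rw [← hqdef, hg] at this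
        rw [this]⟩
      have hd := hT (q - 1) (Nat.Coprime.dvd_of_dvd_mul_right (Nat.coprime_of_dvd fun k hk hk1 hk2 => by
        rcases (show k = 2 ∨ k = 3 by simpa using hπ k hk hk1) with rfl | rfl
        · exact h2q hk2
        · exact h3 hk2) hB)
      exact Or.inl ⟨hd.2, by omega⟩
    · rcases card_small h with hc | hc | hc
      · refine Or.inr (Or.inr (Or.inl ?_))
        rw [hc, show (12 : ℕ) = 2 ^ 2 * 3 ^ 1 by norm_num, Nat.factorization_mul (by norm_num) (by norm_num),
          Finsupp.add_apply, Nat.Prime.factorization_pow Nat.prime_two, Nat.Prime.factorization_pow Nat.prime_three] at hv2 hv3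
        simp at hv2 hv3
        rw [show a = 3 by omega, show b = 1 by omega]; norm_num
      · refine Or.inr (Or.inr (Or.inr ?_))
        rw [hc, show (24 : ℕ) = 2 ^ 3 * 3 ^ 1 by norm_num, Nat.factorization_mul (by norm_num) (by norm_num),
          Finsupp.add_apply, Nat.Prime.factorization_pow Nat.prime_two, Nat.Prime.factorization_pow Nat.prime_three] at hv2 hv3
        simp at hv2 hv3
        rw [show a = 4 by omega, show b = 1 by omega]; norm_num
      · have := hπ 5 Nat.prime_five (by rw [hc]; norm_num)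
        simp at this
    · exfalso
      refine hpH ?_
      obtain ⟨n, -, hn⟩ := FiniteField.card F p
      have hd : p ∣ Nat.card K := (Fact.out : p.Prime).dvd_of_dvd_pow
        (show p ∣ Nat.card K ^ m by rw [hKm, hn]; exact dvd_pow_self p n.ne_zero)
      rcases h with h | h <;> rw [h]
      · exact hd.mul_right _
      · refine Nat.Coprime.dvd_of_dvd_mul_right (k := p) (n := Nat.gcd 2 (Nat.card K - 1)) ?_ ?_
        · exact Nat.Coprime.coprime_dvd_right (Nat.gcd_dvd_left _ _)
            ((Nat.coprime_primes Fact.out Nat.prime_two).2 (by omega))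
        · rw [Nat.div_mul_cancel]
          · exact hd.mul_right _
          · exact ((Nat.gcd_dvd_right _ _).trans ⟨Nat.card K + 1, sq_sub_one_eq _⟩).mul_left _
  · have hab : ∀ n, Nat.card (PSLtwo F) ≠ 0 → n = 2 ^ (a - 1) * 3 ^ b → ∀ H : Subgroup (PSLtwo F),
        Nat.card H = n → Cfsg.IsPiHall ({2, 3} : Set ℕ) H := by
      intro n _ hn H hH
      refine hall_of_card h2 h3 (fun r hr hd => eq_of_prime_dvd (hH.trans hn).dvd hr hd) (fun e => ?_) fun e => ?_
      · refine not_succ_pow (r := 2) (a := a) Nat.prime_two h2q hq1 ha.symm (dvd_trans (Dvd.intro (3 ^ b) ?_) e)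
        rw [hH, hn, show a + 1 = a - 1 + 2 by omega, pow_add]; ring
      · refine not_succ_pow (r := 3) (a := b) Nat.prime_three h3 hq1 hb.symm (dvd_trans (Dvd.intro (2 * 2 ^ (a - 1)) ?_) e)
        rw [hH, hn, pow_succ]; ring
    have hc0 : Nat.card (PSLtwo F) ≠ 0 := Nat.card_pos.ne'
    rintro (⟨h, h4⟩ | ⟨h, h4⟩ | h | h)
    · obtain ⟨g, hg'⟩ := exists_split (F := F) (by omega)
      refine hall_torus h2 h3 (g := g) ⟨g, rfl, Or.inr hg'⟩ (n := q - 1) (m := q + 1) ?_ (sq_sub_one_eq q).symm (by omega) (by omega)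
      rw [card_torus_split hg', ← hqdef, hg, Nat.mul_div_cancel' (by omega)]
    · obtain ⟨g, hg'⟩ := exists_elliptic (F := F)
      refine hall_torus h2 h3 (g := g) ⟨g, rfl, Or.inl hg'⟩ (n := q + 1) (m := q - 1) ?_ ?_ (by omega) (by omega)
      · rw [card_torus_elliptic hg', ← hqdef, hg, Nat.mul_div_cancel' (by omega)]
      · rw [sq_sub_one_eq, mul_comm]
    · obtain ⟨rfl, rfl⟩ := exp_of_product.1 h
      obtain ⟨H, ⟨e⟩⟩ := exists_A4_odd (F := F) (Nat.odd_iff.1 h2)
      exact ⟨H, hab 12 hc0 (by norm_num) H (by rw [Nat.card_congr e.toEquiv, natCard_A4])⟩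
    · obtain ⟨rfl, rfl⟩ := exp_of_product.2 h
      have h8 : q % 8 = 1 ∨ q % 8 = 7 := by
        have h16 : 16 ∣ q ^ 2 - 1 := (Nat.prime_two.pow_dvd_iff_le_factorization hne (k := 4)).2 ha.le
        have hlt : q % 16 < 16 := Nat.mod_lt _ (by norm_num)
        have hsq : q ^ 2 % 16 = 1 := by
          obtain ⟨c, hc⟩ := h16
          omega
        rw [Nat.pow_mod] at hsq
        generalize hr : q % 16 = r at hsq hlt
        interval_cases r <;> omega
      obtain ⟨H, ⟨e⟩⟩ := exists_S4 (F := F) h8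
      exact ⟨H, hab 24 hc0 (by norm_num) H (by rw [Nat.card_congr e.toEquiv, natCard_S4])⟩

end Cfsg.Agent.S2537
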