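import Cfsg.Statements.S2540
import Mathlib
import Cfsg.Agent.Lib.LinGroup.Simple

set_option autoImplicit false
open Cfsg

namespace Cfsg.Agent.S2540

open Matrix
open scoped commutatorElement

/-- A matrix commuting with `SL_n` is scalar. -/
theorem scalar_of_commute {F : Type*} [Field F] {n : ℕ} (g : Matrix (Fin n) (Fin n) F)
    (h : ∀ s : SpecialLinearGroup (Fin n) F, (s : Matrix (Fin n) (Fin n) F) * g = g * s) :
    ∃ c : F, g = c • (1 : Matrix (Fin n) (Fin n) F) := by
  obtain ⟨c, hc⟩ := Matrix.mem_range_scalar_of_commute_transvectionStruct (M := g) fun t =>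
    h ⟨t.toMatrix, t.det⟩
  exact ⟨c, by rw [← hc, Matrix.scalar_apply, Matrix.smul_one_eq_diagonal]⟩

/-- A normal subgroup of `SL_n` is central or everything. -/
theorem normal_dichotomy {F : Type*} [Field F] [Finite F] {n : ℕ} (hn : 2 ≤ n)
    (h : n = 2 → 4 ≤ Nat.card F) (N : Subgroup (SpecialLinearGroup (Fin n) F)) [N.Normal] :
    N ≤ Subgroup.center _ ∨ N = ⊤ := by
  have hs := Lib.LinGroup.isSimpleGroup_PSL_fin (F := F) hn h
  have hperf := Lib.LinGroup.commutator_SL_fin_eq_top (F := F) hn h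
  let π := QuotientGroup.mk' (Subgroup.center (SpecialLinearGroup (Fin n) F))
  rcases ((inferInstance : N.Normal).map π (QuotientGroup.mk'_surjective _)).eq_bot_or_eq_top with
    hb | ht
  · exact Or.inl (by simpa [π] using (Subgroup.map_eq_bot_iff _).1 hb)
  · refine Or.inr (top_le_iff.1 ?_)
    rw [← hperf, commutator_def, Subgroup.commutator_le]
    intro a _ b _
    obtain ⟨a', ha', ha⟩ := (ht ▸ Subgroup.mem_top (π a) : π a ∈ N.map π)
    have hz : a'⁻¹ * a ∈ Subgroup.center _ := QuotientGroup.eq.1 ha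
    have : ⁅a, b⁆ = ⁅a', b⁆ := by
      have hzc := Subgroup.mem_center_iff.1 hz b
      rw [commutatorElement_def, commutatorElement_def]
      calc a * b * a⁻¹ * b⁻¹ = a' * ((a'⁻¹ * a) * b) * a⁻¹ * b⁻¹ := by group
        _ = a' * (b * (a'⁻¹ * a)) * a⁻¹ * b⁻¹ := by rw [← hzc]
        _ = a' * b * a'⁻¹ * b⁻¹ := by group
    rw [this, commutatorElement_def]
    have := N.mul_mem ha' ((inferInstance : N.Normal).conj_mem _ (N.inv_mem ha') b)
    simpa [mul_assoc] using this

/-- Let F be a finite field and n ≥ 1, excluding the case n = 2 with #F ≤ 3. A subgroup of GL_n(F) that is normalized by every element of SL_n(F) either consists of scalar matrices or contains SL_n(F). -/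
theorem result {F : Type*} [Field F] [Fintype F] (n : ℕ) (hn : 1 ≤ n) (hex : ¬ (n = 2 ∧ Fintype.card F ≤ 3)) (G : Subgroup (Matrix.GeneralLinearGroup (Fin n) F)) (hG : ∀ s : Matrix.SpecialLinearGroup (Fin n) F, ∀ g ∈ G, (Matrix.SpecialLinearGroup.toGL s) * g * (Matrix.SpecialLinearGroup.toGL s)⁻¹ ∈ G) : (∀ g ∈ G, ∃ c : F, (g : Matrix (Fin n) (Fin n) F) = c • (1 : Matrix (Fin n) (Fin n) F)) ∨ (Matrix.SpecialLinearGroup.toGL : Matrix.SpecialLinearGroup (Fin n) F →* _).range ≤ G := by
  classical
  rcases Nat.lt_or_ge n 2 with h1 | h2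
  · obtain rfl : n = 1 := by omega
    exact Or.inl fun g _ => ⟨(g : Matrix (Fin 1) (Fin 1) F) 0 0, by
      ext i j; simp [Subsingleton.elim i 0, Subsingleton.elim j 0]⟩
  have h4 : n = 2 → 4 ≤ Nat.card F := fun h => by
    rw [Nat.card_eq_fintype_card]; push Not at hex; have := hex h; omega
  let T : Matrix.SpecialLinearGroup (Fin n) F →* Matrix.GeneralLinearGroup (Fin n) F :=
    Matrix.SpecialLinearGroup.toGL
  let N := G.comap T
  have : N.Normal := ⟨fun x hx s => by
    simpa [N, T, map_mul, map_inv] using hG s _ hx⟩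
  rcases normal_dichotomy h2 h4 N with hc | ht
  · refine Or.inl fun g hg => scalar_of_commute _ fun s => ?_
    have hex : ∀ s, ∃ z ∈ Subgroup.center (Matrix.SpecialLinearGroup (Fin n) F), T z = T s * g * (T s)⁻¹ * g⁻¹ := by
      intro s
      have hm : T s * g * (T s)⁻¹ * g⁻¹ ∈ G := G.mul_mem (hG s g hg) (G.inv_mem hg)
      obtain ⟨z, hz⟩ : ∃ z, T z = T s * g * (T s)⁻¹ * g⁻¹ := by
        rw [← MonoidHom.mem_range, show T.range = _ from Lib.LinGroup.range_toGL, MonoidHom.mem_ker]
        simp only [map_mul, map_inv]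
        rw [mul_comm (Matrix.GeneralLinearGroup.det (T s)), mul_inv_cancel_right, mul_inv_cancel]
      exact ⟨z, hc (by rw [Subgroup.mem_comap, hz]; exact hm), hz⟩
    choose c hcz hcT using hex
    have hTi : Function.Injective T := Matrix.SpecialLinearGroup.toGL_injective
    let φ : Matrix.SpecialLinearGroup (Fin n) F →* Subgroup.center (Matrix.SpecialLinearGroup (Fin n) F) :=
      MonoidHom.mk' (fun s => ⟨c s, hcz s⟩) fun a b => Subtype.ext (hTi (by
        have hz := Subgroup.mem_center_iff.1 (hcz b) a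
        have e : T a * T (c b) = T (c b) * T a := by rw [← map_mul, ← map_mul, hz]
        change T (c (a * b)) = T (c a * c b)
        rw [Subgroup.mem_center_iff.1 (hcz b) (c a), map_mul, hcT (a * b), map_mul]
        calc T a * T b * g * (T a * T b)⁻¹ * g⁻¹
            = T a * (T b * g * (T b)⁻¹ * g⁻¹) * g * (T a)⁻¹ * g⁻¹ := by group
          _ = T (c b) * (T a * g * (T a)⁻¹ * g⁻¹) := by rw [← hcT b, e]; group
          _ = T (c b) * T (c a) := by rw [hcT a]))
    have hker : φ.ker = ⊤ := top_le_iff.1 (by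
      rw [← Lib.LinGroup.commutator_SL_fin_eq_top (F := F) h2 h4, commutator_def, Subgroup.commutator_le]
      intro a _ b _
      rw [MonoidHom.mem_ker, map_commutatorElement, commutatorElement_eq_one_iff_mul_comm]
      exact mul_comm' _ _)
    have h1 : T (c s) = 1 := by
      have hs : φ s = 1 := by rw [← MonoidHom.mem_ker, hker]; exact Subgroup.mem_top s
      have := congrArg Subtype.val hs
      change c s = 1 at this
      rw [this, map_one]
    rw [hcT, mul_inv_eq_one, mul_inv_eq_iff_eq_mul] at h1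
    exact congrArg Units.val h1
  · refine Or.inr ?_
    rintro _ ⟨s, rfl⟩
    exact (ht ▸ Subgroup.mem_top s : s ∈ N)

end Cfsg.Agent.S2540
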