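import Cfsg.Statements.S2541
import Mathlib

set_option autoImplicit false
open Cfsg

namespace Cfsg.Agent.S2541

theorem no_order_eight (σ : Equiv.Perm (Fin 6)) : orderOf σ ≠ 8 := by
  intro h
  have h1 : σ.cycleType.lcm ∣ 60 := by
    refine Multiset.lcm_dvd.2 fun a ha => ?_
    have h2 : a ≤ σ.cycleType.sum := Multiset.le_sum_of_mem ha
    have h3 : σ.cycleType.sum ≤ 6 := by
      rw [Equiv.Perm.sum_cycleType]
      simpa using σ.support.card_le_univ
    have h4 := Equiv.Perm.two_le_of_mem_cycleType ha
    have : a = 2 ∨ a = 3 ∨ a = 4 ∨ a = 5 ∨ a = 6 := by omega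
    rcases this with rfl | rfl | rfl | rfl | rfl <;> norm_num
  rw [Equiv.Perm.lcm_cycleType, h] at h1
  norm_num at h1

/-- Let F be a field with 9 elements. The symmetric group S_6 is not isomorphic to PGL_2(F) (although both have index-2 subgroups isomorphic to A_6). -/
theorem result {F : Type*} [Field F] [Fintype F] (hF : Fintype.card F = 9) : ¬ Nonempty (Equiv.Perm (Fin 6) ≃* Matrix.ProjGenLinGroup (Fin 2) F) := by
  rintro ⟨e⟩
  obtain ⟨ζ, hζ⟩ := isCyclic_iff_exists_orderOf_eq_natCard.1 (inferInstance : IsCyclic Fˣ)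
  rw [Nat.card_units, Nat.card_eq_fintype_card, hF] at hζ
  let d : Fˣ →* GL (Fin 2) F := Units.map
    { toFun := fun a => Matrix.diagonal ![a, 1]
      map_one' := by
        rw [show (![1, 1] : Fin 2 → F) = 1 by funext i; fin_cases i <;> rfl]
        exact Matrix.diagonal_one
      map_mul' := fun a b => by
        rw [Matrix.diagonal_mul_diagonal]
        congr 1
        funext i
        fin_cases i <;> simp }
  let f : Fˣ →* Matrix.ProjGenLinGroup (Fin 2) F := (QuotientGroup.mk' _).comp d
  have hf : Function.Injective f := by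
    rw [injective_iff_map_eq_one]
    intro a ha
    have hc := (QuotientGroup.eq_one_iff (d a)).1 ha
    rw [Matrix.GeneralLinearGroup.center_eq_range_scalar] at hc
    obtain ⟨c, hc⟩ := hc
    have hc' := congrArg (fun g : GL (Fin 2) F => (g : Matrix (Fin 2) (Fin 2) F)) hc
    have h0 := congrFun (congrFun hc' 0) 0
    have h1 := congrFun (congrFun hc' 1) 1
    simp [d] at h0 h1
    exact Units.ext (by simp [← h0, h1])
  have h := (orderOf_injective f hf ζ).trans hζ
  rw [← MulEquiv.orderOf_eq e.symm] at h
  exact no_order_eight _ h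

end Cfsg.Agent.S2541
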