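import Cfsg.Statements.S2542
import Mathlib
import Cfsg.Agent.Lib.Perm.PrimeDegree
import Cfsg.Agent.Lib.SL2.Basic
import Cfsg.Agent.Lib.LinGroup.Simple
import Cfsg.Agent.S0804

set_option autoImplicit false
open Cfsg

namespace Cfsg.Agent.S2542

/-- Let F be a field with 11 elements. PSL_2(F) has a subgroup H of index 11 isomorphic to the alternating group A_5, and the action of PSL_2(F) on the cosets of H is 2-transitive (of degree 11). -/
theorem result {F : Type*} [Field F] [Fintype F] (hF : Fintype.card F = 11) : ∃ H : Subgroup (Matrix.ProjectiveSpecialLinearGroup (Fin 2) F), H.index = 11 ∧ Nonempty (H ≃* alternatingGroup (Fin 5)) ∧ MulAction.IsMultiplyPretransitive (Matrix.ProjectiveSpecialLinearGroup (Fin 2) F) ((Matrix.ProjectiveSpecialLinearGroup (Fin 2) F) ⧸ H) 2 := by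
  classical
  haveI hs : IsSimpleGroup (Matrix.ProjectiveSpecialLinearGroup (Fin 2) F) :=
    Lib.LinGroup.isSimpleGroup_PSL_fin le_rfl (fun _ => by rw [Nat.card_eq_fintype_card]; omega)
  obtain ⟨H, ⟨e⟩⟩ := (S0804.result hF).2 (by norm_num)
  have hcard : Nat.card (Matrix.ProjectiveSpecialLinearGroup (Fin 2) F) = 660 := by
    rw [Lib.SL2.card_PSL, hF]; rfl
  have hH : Nat.card H = 60 := by
    rw [Nat.card_congr e.toEquiv, nat_card_alternatingGroup, Nat.card_fin]; rfl
  have hidx : H.index = 11 := by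
    have h := H.card_mul_index
    rw [hH, hcard] at h
    omega
  haveI : FaithfulSMul (Matrix.ProjectiveSpecialLinearGroup (Fin 2) F)
      ((Matrix.ProjectiveSpecialLinearGroup (Fin 2) F) ⧸ H) := by
    have hk : H.normalCore = ⊥ := (H.normalCore_normal.eq_bot_or_eq_top).resolve_right fun h => by
      have h1 : H = ⊤ := top_le_iff.1 (h ▸ H.normalCore_le)
      rw [h1, Subgroup.index_top] at hidx
      omega
    rw [Subgroup.normalCore_eq_ker, MonoidHom.ker_eq_bot_iff] at hk
    exact ⟨fun hg => hk (Equiv.ext hg)⟩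
  haveI : Fact (Nat.Prime 11) := ⟨by norm_num⟩
  refine ⟨H, hidx, ⟨e⟩, (Lib.PrimeDegree.burnside (p := 11) hidx ?_).1⟩
  intro hsol
  haveI := hsol
  have h2 := IsSimpleGroup.comm_iff_isSolvable.2 hsol
  have hcomm : ∀ a b : H, a * b = b * a := fun a b => Subtype.ext (h2 a b)
  have hbad : ∀ a b : alternatingGroup (Fin 5), a * b = b * a := fun a b => by
    have := congrArg e (hcomm (e.symm a) (e.symm b))
    simpa using this
  let a : alternatingGroup (Fin 5) := ⟨Equiv.swap 0 1 * Equiv.swap 1 2, by rw [Equiv.Perm.mem_alternatingGroup]; decide⟩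
  let b : alternatingGroup (Fin 5) := ⟨Equiv.swap 0 1 * Equiv.swap 1 3, by rw [Equiv.Perm.mem_alternatingGroup]; decide⟩
  exact absurd (congrArg Subtype.val (hbad a b)) (by decide)

end Cfsg.Agent.S2542
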