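import Cfsg.Statements.S2543
import Mathlib
import Cfsg.Agent.Lib.PSLEleven.Icosahedral

set_option autoImplicit false
open scoped Pointwise
open Cfsg

namespace Cfsg.Agent.S2543

open scoped Pointwise
open Cfsg.Agent.Lib.PSLEleven

/-- A subgroup of index 11 of a simple group has eleven conjugates. -/
theorem card_conjugates {G : Type*} [Group G] [Finite G] [IsSimpleGroup G] (H : Subgroup G) (hb : H ≠ ⊥) (h : H.index = 11) :
    Nat.card {K : Subgroup G // ∃ g : G, MulAut.conj g • H = K} = 11 := by
  letI : MulAction G (Subgroup G) := MulAction.compHom (Subgroup G) (MulAut.conj : G →* MulAut G)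
  have hsmul : ∀ g : G, g • H = MulAut.conj g • H := fun g => rfl
  have hle : H ≤ MulAction.stabilizer G H := fun g hg => by
    rw [MulAction.mem_stabilizer_iff, hsmul]
    exact Subgroup.conj_smul_eq_self_of_mem hg
  have hne : MulAction.stabilizer G H ≠ ⊤ := by
    intro htop
    have hN : H.Normal := ⟨fun x hx g => by
      have hg : g • H = H := MulAction.mem_stabilizer_iff.1 (htop ▸ Subgroup.mem_top g)
      rw [← hg, hsmul]
      exact Subgroup.smul_mem_pointwise_smul x (MulAut.conj g) H hx⟩
    rcases hN.eq_bot_or_eq_top with e | e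
    · exact hb e
    · rw [e, Subgroup.index_top] at h; omega
  have hidx : (MulAction.stabilizer G H).index = 11 := by
    have hd := Subgroup.index_dvd_of_le hle
    rw [h] at hd
    rcases (Nat.dvd_prime (by norm_num)).1 hd with e | e
    · exact absurd (Subgroup.index_eq_one.1 e) hne
    · exact e
  rw [← hidx, MulAction.index_stabilizer, ← Nat.card_coe_set_eq]
  exact Nat.card_congr (Equiv.setCongr (by ext K; exact Iff.rfl))

/-- Let F be a field with 11 elements. PSL_2(F) has exactly 22 subgroups isomorphic to the alternating group A_5, and they form two conjugacy classes: there are two such subgroups that are not conjugate, and every such subgroup is conjugate to one of these two. -/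
theorem result {F : Type*} [Field F] [Fintype F] (hF : Fintype.card F = 11) : Nat.card {H : Subgroup (Matrix.ProjectiveSpecialLinearGroup (Fin 2) F) // Nonempty (H ≃* alternatingGroup (Fin 5))} = 22 ∧ ∃ H K : Subgroup (Matrix.ProjectiveSpecialLinearGroup (Fin 2) F), Nonempty (H ≃* alternatingGroup (Fin 5)) ∧ Nonempty (K ≃* alternatingGroup (Fin 5)) ∧ (∀ g : Matrix.ProjectiveSpecialLinearGroup (Fin 2) F, MulAut.conj g • H ≠ K) ∧ ∀ L : Subgroup (Matrix.ProjectiveSpecialLinearGroup (Fin 2) F), Nonempty (L ≃* alternatingGroup (Fin 5)) → ∃ g : Matrix.ProjectiveSpecialLinearGroup (Fin 2) F, MulAut.conj g • L = H ∨ MulAut.conj g • L = K := by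
  classical
  haveI : Fact (Nat.Prime 11) := ⟨by norm_num⟩
  let f : ZMod 11 ≃+* F := ZMod.ringEquivOfPrime F (by norm_num) hF
  haveI : CharP F 11 := charP_of_injective_ringHom (f := f.toRingHom) f.injective 11
  haveI : IsSimpleGroup (Matrix.ProjectiveSpecialLinearGroup (Fin 2) F) :=
    Lib.LinGroup.isSimpleGroup_PSL_fin le_rfl (fun _ => by rw [Nat.card_eq_fintype_card]; omega)
  have hidx : ∀ H : Subgroup (Matrix.ProjectiveSpecialLinearGroup (Fin 2) F),
      Nonempty (H ≃* alternatingGroup (Fin 5)) → H.index = 11 := by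
    rintro H ⟨e⟩
    have h := H.card_mul_index
    rw [Nat.card_congr e.toEquiv, nat_card_alternatingGroup, Nat.card_fin, Lib.SL2.card_PSL, hF] at h
    norm_num [Nat.factorial] at h
    omega
  have hiso : ∀ (g : Matrix.ProjectiveSpecialLinearGroup (Fin 2) F) (H : Subgroup (Matrix.ProjectiveSpecialLinearGroup (Fin 2) F)),
      Nonempty (H ≃* alternatingGroup (Fin 5)) → Nonempty ((MulAut.conj g • H : Subgroup _) ≃* alternatingGroup (Fin 5)) :=
    fun g H ⟨e⟩ => ⟨(Subgroup.equivSMul (MulAut.conj g) H).symm.trans e⟩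
  refine ⟨?_, subA F, subB F, subA_spec.2, subB_spec.2, not_conj hF, fun L hL => classify hF L hL⟩
  set A : Set (Subgroup (Matrix.ProjectiveSpecialLinearGroup (Fin 2) F)) := {K | ∃ g, MulAut.conj (g : Matrix.ProjectiveSpecialLinearGroup (Fin 2) F) • subA F = K} with hA
  set B : Set (Subgroup (Matrix.ProjectiveSpecialLinearGroup (Fin 2) F)) := {K | ∃ g, MulAut.conj (g : Matrix.ProjectiveSpecialLinearGroup (Fin 2) F) • subB F = K} with hB
  have hset : {H : Subgroup (Matrix.ProjectiveSpecialLinearGroup (Fin 2) F) | Nonempty (H ≃* alternatingGroup (Fin 5))} = A ∪ B := by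
    ext L
    constructor
    · intro hL
      obtain ⟨g, hg | hg⟩ := classify hF L hL
      · exact Or.inl ⟨g⁻¹, by rw [← hg, smul_smul, ← map_mul, inv_mul_cancel, map_one, one_smul]⟩
      · exact Or.inr ⟨g⁻¹, by rw [← hg, smul_smul, ← map_mul, inv_mul_cancel, map_one, one_smul]⟩
    · rintro (⟨g, rfl⟩ | ⟨g, rfl⟩)
      · exact hiso g _ subA_spec.2
      · exact hiso g _ subB_spec.2
  have hdisj : Disjoint A B := by
    rw [Set.disjoint_left]
    rintro K ⟨g, rfl⟩ ⟨g', h⟩
    exact not_conj hF (g'⁻¹ * g) (by rw [map_mul, mul_smul, ← h, ← mul_smul, ← map_mul, inv_mul_cancel, map_one, one_smul])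
  rw [show Nat.card {H : Subgroup (Matrix.ProjectiveSpecialLinearGroup (Fin 2) F) // Nonempty (H ≃* alternatingGroup (Fin 5))} =
      (A ∪ B).ncard by rw [← hset, ← Nat.card_coe_set_eq]; rfl,
    Set.ncard_union_eq hdisj (Set.toFinite _) (Set.toFinite _), ← Nat.card_coe_set_eq, ← Nat.card_coe_set_eq]
  have hbot : ∀ H : Subgroup (Matrix.ProjectiveSpecialLinearGroup (Fin 2) F), Nonempty (H ≃* alternatingGroup (Fin 5)) → H ≠ ⊥ := by
    rintro H ⟨e⟩ rfl
    have h := Nat.card_congr e.toEquiv
    rw [Subgroup.card_bot, nat_card_alternatingGroup, Nat.card_fin] at h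
    norm_num [Nat.factorial] at h
  exact congrArg₂ (· + ·) (card_conjugates (subA F) (hbot _ subA_spec.2) (hidx _ subA_spec.2))
    (card_conjugates (subB F) (hbot _ subB_spec.2) (hidx _ subB_spec.2))

end Cfsg.Agent.S2543
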