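import Cfsg.Statements.S2544
import Cfsg.Agent.Lib.GLFlags.Unipotent
import Cfsg.Agent.Lib.GLFlags.Bruhat
import Cfsg.Agent.Lib.GLFlags.Index
import Cfsg.Agent.Lib.GLFlags.Opposite
import Cfsg.Agent.Lib.Chars.Ops
import Cfsg.Agent.Lib.Chars.PermChar
import Cfsg.Agent.Lib.Chars.DefectZero
import Cfsg.Agent.Lib.SmallGroups.Basic
import Cfsg.Agent.Lib.SmallGroups.PrimeSylow

set_option autoImplicit false
open Cfsg

namespace Cfsg.Agent.S2544

open Cfsg.Agent.Lib
open Cfsg.Agent.Lib.GLFlags
open scoped MatrixGroups ComplexConjugate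

universe u

variable {F : Type u} [Field F] {n : ℕ}

/-- A diagonal matrix with one prescribed entry. -/
noncomputable def diagUnit (v : Fin n → Fˣ) : GL (Fin n) F where
  val := Matrix.diagonal fun i => (v i : F)
  inv := Matrix.diagonal fun i => ((v i)⁻¹ : Fˣ)
  val_inv := by rw [Matrix.diagonal_mul_diagonal]; simp
  inv_val := by rw [Matrix.diagonal_mul_diagonal]; simp

theorem diagUnit_mem (v : Fin n → Fˣ) : diagUnit v ∈ Cfsg.upperTriangularGL n F := by
  rw [mem_upperTriangularGL_iff]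
  intro i j h
  exact Matrix.diagonal_apply_ne _ h.ne'

theorem det_diagUnit (v : Fin n → Fˣ) : Matrix.GeneralLinearGroup.det (diagUnit v) = ∏ i, v i := by
  apply Units.ext
  show (Matrix.diagonal fun i => (v i : F)).det = _
  rw [Matrix.det_diagonal, Units.coe_prod]

theorem diagUnit_mul_perm (v : Fin n → Fˣ) (w : Equiv.Perm (Fin n)) :
    diagUnit v * permGL w = permGL w * diagUnit (fun j => v (w j)) := by
  apply Units.ext
  ext i j
  rw [mul_permGL_apply]
  show Matrix.diagonal (fun i => (v i : F)) i (w j) =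
    ((permGL w : GL (Fin n) F).val * Matrix.diagonal (fun j => (v (w j) : F))) i j
  rw [Matrix.mul_diagonal, permGL_apply, Matrix.diagonal_apply]
  split_ifs with h
  · subst h; simp
  · simp

/-- Two points have a common stabilising element of every determinant. -/
theorem exists_stab (hn : 0 < n) {H K : Subgroup (GL (Fin n) F)}
    (hH : Cfsg.upperTriangularGL n F ≤ H) (hK : Cfsg.upperTriangularGL n F ≤ K)
    (x : GL (Fin n) F ⧸ H) (y : GL (Fin n) F ⧸ K) (a : Fˣ) :
    ∃ u : GL (Fin n) F, Matrix.GeneralLinearGroup.det u = a ∧ u • x = x ∧ u • y = y := by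
  induction x using QuotientGroup.induction_on with
  | H g =>
  induction y using QuotientGroup.induction_on with
  | H h =>
  obtain ⟨w, b, hb, b', hb', e⟩ := exists_bruhat (g⁻¹ * h)
  set t := diagUnit (Function.update (1 : Fin n → Fˣ) ⟨0, hn⟩ a) with ht
  refine ⟨(g * b) * t * (g * b)⁻¹, ?_, ?_, ?_⟩
  · rw [map_mul, map_mul, map_inv, mul_comm, inv_mul_cancel_left, ht, det_diagUnit,
      Finset.prod_update_of_mem (Finset.mem_univ _)]
    simp
  · rw [MulAction.Quotient.smul_mk, smul_eq_mul, QuotientGroup.eq]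
    have e1 : ((g * b) * t * (g * b)⁻¹ * g)⁻¹ * g = b * t⁻¹ * b⁻¹ := by group
    rw [e1]
    exact hH (mul_mem (mul_mem hb (inv_mem (diagUnit_mem _))) (inv_mem hb))
  · rw [MulAction.Quotient.smul_mk, smul_eq_mul, QuotientGroup.eq]
    have eh : h = g * (b * permGL w * b') := by rw [← e, mul_inv_cancel_left]
    have e1 : ((g * b) * t * (g * b)⁻¹ * h)⁻¹ * h = (t * permGL w * b')⁻¹ * (permGL w * b') := by
      rw [eh]; group
    rw [e1, ht, diagUnit_mul_perm]
    set t' := diagUnit (fun j => Function.update (1 : Fin n → Fˣ) ⟨0, hn⟩ a (w j)) with ht'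
    have e2 : (permGL w * t' * b')⁻¹ * (permGL w * b') = b'⁻¹ * t'⁻¹ * b' := by group
    rw [e2]
    exact hK (mul_mem (mul_mem (inv_mem hb') (inv_mem (diagUnit_mem _))) hb')

/-- The determinant-one matrices as a map into the general linear group. -/
noncomputable abbrev incl : Matrix.SpecialLinearGroup (Fin n) F →* GL (Fin n) F :=
  Matrix.SpecialLinearGroup.toGL

theorem det_incl (s : Matrix.SpecialLinearGroup (Fin n) F) : Matrix.GeneralLinearGroup.det (incl s) = 1 :=
  Units.ext s.2

theorem incl_injective : Function.Injective (incl (F := F) (n := n)) := fun _ _ h =>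
  Subtype.ext (congrArg Units.val h)

variable [Fintype F]

theorem sum_sl (hn : 0 < n) [Fintype (GL (Fin n) F)] [Fintype (Matrix.SpecialLinearGroup (Fin n) F)]
    {H K : Subgroup (GL (Fin n) F)}
    (hH : Cfsg.upperTriangularGL n F ≤ H) (hK : Cfsg.upperTriangularGL n F ≤ K) :
    ((Nat.card Fˣ : ℂ)) * ∑ s : Matrix.SpecialLinearGroup (Fin n) F,
        fixedPointCharacter H (incl s) * fixedPointCharacter K (incl s) =
      ∑ g : GL (Fin n) F, fixedPointCharacter H g * fixedPointCharacter K g := by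
  classical
  choose u hu1 hu2 hu3 using fun (p : (GL (Fin n) F ⧸ H) × (GL (Fin n) F ⧸ K)) (a : Fˣ) =>
    exists_stab hn hH hK p.1 p.2 a
  let A := Σ g : GL (Fin n) F, MulAction.fixedBy (GL (Fin n) F ⧸ H) g × MulAction.fixedBy (GL (Fin n) F ⧸ K) g
  let B := Σ s : Matrix.SpecialLinearGroup (Fin n) F,
    MulAction.fixedBy (GL (Fin n) F ⧸ H) (incl s) × MulAction.fixedBy (GL (Fin n) F ⧸ K) (incl s)
  let Φ : Fˣ × B → A := fun z => ⟨incl z.2.1 * u (z.2.2.1.1, z.2.2.2.1) z.1,
    ⟨z.2.2.1.1, by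
      show (_ * _) • z.2.2.1.1 = z.2.2.1.1
      rw [mul_smul, hu2 (z.2.2.1.1, z.2.2.2.1) z.1]; exact z.2.2.1.2⟩,
    ⟨z.2.2.2.1, by
      show (_ * _) • z.2.2.2.1 = z.2.2.2.1
      rw [mul_smul, hu3 (z.2.2.1.1, z.2.2.2.1) z.1]; exact z.2.2.2.2⟩⟩
  have hΦ : Function.Bijective Φ := by
    constructor
    · rintro ⟨a, s, ⟨x, hx⟩, ⟨y, hy⟩⟩ ⟨a', s', ⟨x', hx'⟩, ⟨y', hy'⟩⟩ e
      have e1 := congrArg Sigma.fst e
      have ex : x = x' := congrArg (fun z : A => (z.2.1.1 : GL (Fin n) F ⧸ H)) e
      have ey : y = y' := congrArg (fun z : A => (z.2.2.1 : GL (Fin n) F ⧸ K)) e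
      subst ex ey
      change incl s * u (x, y) a = incl s' * u (x, y) a' at e1
      have ea : a = a' := by
        have := congrArg Matrix.GeneralLinearGroup.det e1
        rwa [map_mul, map_mul, det_incl, det_incl, hu1, hu1, one_mul, one_mul] at this
      subst ea
      obtain rfl := incl_injective (mul_right_cancel e1)
      rfl
    · rintro ⟨g, ⟨x, hx⟩, ⟨y, hy⟩⟩
      obtain ⟨a, ha⟩ : ∃ a, a = Matrix.GeneralLinearGroup.det g := ⟨_, rfl⟩
      obtain ⟨s, hs⟩ : ∃ s : Matrix.SpecialLinearGroup (Fin n) F, incl s = g * (u (x, y) a)⁻¹ := by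
        have hd : Matrix.GeneralLinearGroup.det (g * (u (x, y) a)⁻¹) = 1 := by
          rw [map_mul, map_inv, hu1, ha, mul_inv_cancel]
        exact ⟨⟨(g * (u (x, y) a)⁻¹ : GL (Fin n) F).val, congrArg Units.val hd⟩, Units.ext rfl⟩
      have hux : (u (x, y) a)⁻¹ • x = x := by rw [inv_smul_eq_iff]; exact (hu2 (x, y) a).symm
      have huy : (u (x, y) a)⁻¹ • y = y := by rw [inv_smul_eq_iff]; exact (hu3 (x, y) a).symm
      refine ⟨(a, ⟨s, ⟨x, ?_⟩, ⟨y, ?_⟩⟩), ?_⟩
      · show incl s • x = x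
        rw [hs, mul_smul, hux]; exact hx
      · show incl s • y = y
        rw [hs, mul_smul, huy]; exact hy
      · have e : incl s * u (x, y) a = g := by rw [hs, inv_mul_cancel_right]
        subst e
        rfl
  have hc := Nat.card_congr (Equiv.ofBijective Φ hΦ)
  rw [Nat.card_prod, Nat.card_sigma, Nat.card_sigma] at hc
  have hc' := congrArg (fun k : ℕ => (k : ℂ)) hc
  simp only [Nat.cast_mul, Nat.cast_sum, Nat.card_prod] at hc'
  exact hc'

theorem card_gl (hn : 0 < n) :
    (Nat.card Fˣ : ℂ) * (Nat.card (Matrix.SpecialLinearGroup (Fin n) F) : ℂ) = (Nat.card (GL (Fin n) F) : ℂ) := by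
  classical
  haveI : Fintype (GL (Fin n) F) := Fintype.ofFinite _
  haveI : Fintype (Matrix.SpecialLinearGroup (Fin n) F) := Fintype.ofFinite _
  have h := sum_sl (F := F) hn (H := ⊤) (K := ⊤) le_top le_top
  have h1 : ∀ g : GL (Fin n) F, fixedPointCharacter (⊤ : Subgroup (GL (Fin n) F)) g = 1 := fun g => by
    rw [fixedPointCharacter, ← Nat.cast_one]
    congr 1
    haveI : Subsingleton (GL (Fin n) F ⧸ (⊤ : Subgroup (GL (Fin n) F))) := QuotientGroup.subsingleton_quotient_top
    exact Nat.card_eq_one_iff_unique.2 ⟨⟨fun a b => Subtype.ext (Subsingleton.elim _ _)⟩,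
      ⟨⟨((1 : GL (Fin n) F) : GL (Fin n) F ⧸ (⊤ : Subgroup (GL (Fin n) F))), Subsingleton.elim _ _⟩⟩⟩
  simpa [h1, Nat.card_eq_fintype_card] using h

/-- The Steinberg character of `GL_n` restricted to `SL_n` stays irreducible. -/
theorem steinberg_sl (hn : 0 < n) :
    IsIrrCharacter (Matrix.SpecialLinearGroup (Fin n) F)
      (fun s => unipotentCharacterGL n F (fun _ => 1) (incl s)) := by
  classical
  haveI : Fintype (Matrix.SpecialLinearGroup (Fin n) F) := Fintype.ofFinite _
  have hm : Monotone (fun _ : Fin n => (1 : ℕ)) := monotone_const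
  have hsum : ∑ _i : Fin n, (1 : ℕ) = n := by simp
  set ν : Fin n → ℕ := fun _ => 1
  have hinner := classInner_unipotent (F := F) hm hsum hm hsum
  rw [if_pos rfl] at hinner
  have hpos := degree_pos (F := F) hm hsum
  rw [unipotentCharacterGL_eq] at hinner hpos
  have heq : (fun s => unipotentCharacterGL n F ν (incl s)) = ∑ κ ∈ admissible ν,
      (((Equiv.Perm.sign κ : ℤ) : ℤ) : ℂ) • fun s => fixedPointCharacter (parabolicGL n F (twisted ν κ)) (incl s) := by
    funext s
    rw [unipotentCharacterGL_eq]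
    simp [Finset.sum_apply]
  rw [heq]
  refine isIrrCharacter_of_intCombination _ _ _ (fun κ _ => ?_) ?_ ?_
  · exact Chars.isCharacter_comp incl (Chars.isCharacter_permChar (GL (Fin n) F ⧸ parabolicGL n F (twisted ν κ)))
  · rw [Chars.classInner_sum_left] at hinner ⊢
    simp only [Chars.classInner_smul_left, Chars.classInner_sum_right, Chars.classInner_smul_right] at hinner ⊢
    refine Eq.trans (Finset.sum_congr rfl fun κ _ => ?_) hinner
    refine Finset.sum_congr rfl fun κ' _ => ?_
    congr 1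
    congr 1
    simp only [classInner, GLFlags.conj_fixedPointCharacter]
    have hU : (Nat.card Fˣ : ℂ) ≠ 0 := Nat.cast_ne_zero.2 Nat.card_pos.ne'
    rw [← card_gl (F := F) hn, ← sum_sl hn (upperTriangularGL_le_parabolicGL _) (upperTriangularGL_le_parabolicGL _)]
    rw [mul_inv, mul_mul_mul_comm, inv_mul_cancel₀ hU, one_mul]
  · obtain ⟨a, b, ha, hb, h⟩ := hpos
    refine ⟨a, b, ha, hb, ?_⟩
    rw [Finset.sum_apply] at h ⊢
    simpa using h

/-- The degree. -/
theorem degree_eq :
    unipotentCharacterGL n F (fun _ => 1) 1 = (Fintype.card F : ℂ) ^ triSum n := by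
  classical
  set q := Fintype.card F with hq
  have hq1 : 1 ≤ q := Fintype.card_pos
  have h := degree_formula (F := F) (fun _ : Fin n => 1) (by simp)
  have hpair : ∀ j : Fin n, ∏ i ∈ Finset.Iio j, ((qInt q (1 + j.val) : ℂ) - (qInt q (1 + i.val) : ℂ)) =
      (q : ℂ) ^ (triSum j.val + j.val) * (qFact q j.val : ℂ) := by
    intro j
    have e : ∏ i ∈ Finset.Iio j, ((qInt q (1 + j.val) : ℂ) - (qInt q (1 + i.val) : ℂ)) =
        ∏ i ∈ Finset.range j.val, ((qInt q (1 + j.val) : ℂ) - (qInt q (1 + i) : ℂ)) := by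
      rw [← Nat.Iio_eq_range, ← Fin.map_valEmbedding_Iio, Finset.prod_map]
      rfl
    rw [e]
    have e2 : ∀ i ∈ Finset.range j.val, ((qInt q (1 + j.val) : ℂ) - (qInt q (1 + i) : ℂ)) =
        (q : ℂ) ^ (i + 1) * (qInt q (j.val - 1 - i + 1) : ℂ) := by
      intro i hi
      rw [Finset.mem_range] at hi
      rw [show 1 + j.val = (1 + i) + (j.val - 1 - i + 1) by omega, qInt_add, add_comm 1 i]
      push_cast
      ring
    rw [Finset.prod_congr rfl e2, Finset.prod_mul_distrib, Finset.prod_pow_eq_pow_sum, Finset.sum_add_distrib,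
      Finset.prod_range_reflect (fun i => (qInt q (i + 1) : ℂ))]
    simp [triSum, qFact]
  rw [Finset.prod_comm' (s' := fun j => Finset.Iio j) (t' := Finset.univ) (fun x y => by simp)] at h
  rw [Finset.prod_congr rfl fun j _ => hpair j, Finset.prod_mul_distrib, Finset.prod_pow_eq_pow_sum,
    Finset.sum_add_distrib, Fin.sum_univ_eq_sum_range (fun i => triSum i), sum_triSum,
    Fin.sum_univ_eq_sum_range (fun i => i), Fin.prod_univ_eq_prod_range (fun i => (qFact q i : ℂ)),
    Fin.prod_univ_eq_prod_range (fun i => (qFact q (1 + i) : ℂ))] at h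
  have e3 : ∏ i ∈ Finset.range n, (qFact q (1 + i) : ℂ) =
      (∏ i ∈ Finset.range n, (qFact q i : ℂ)) * (qFact q n : ℂ) := by
    have h1 := Finset.prod_range_succ (fun i => (qFact q i : ℂ)) n
    rw [Finset.prod_range_succ' (fun i => (qFact q i : ℂ)) n] at h1
    rw [← h1, show qFact q 0 = 1 by simp [qFact], Nat.cast_one, mul_one]
    exact Finset.prod_congr rfl fun i _ => by rw [add_comm]
  rw [e3] at h
  have hne : (q : ℂ) ^ (n * (n - 1) * (n - 2) / 6) * ((∏ i ∈ Finset.range n, (qFact q i : ℂ)) * (qFact q n : ℂ)) ≠ 0 := by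
    refine mul_ne_zero (pow_ne_zero _ (by exact_mod_cast (show q ≠ 0 by omega))) (mul_ne_zero
      (Finset.prod_ne_zero_iff.2 fun i _ => ?_) ?_) <;> exact_mod_cast (qFact_pos hq1 _).ne'
  apply mul_right_cancel₀ hne
  rw [← mul_assoc, h, pow_add]
  simp only [triSum]
  ring


/-- Let F be a finite field of characteristic p and consider the projective special linear group PSL_n(F) with n ≥ 2. This group has an irreducible complex character χ whose degree equals the order of a Sylow p-subgroup (namely q^(n(n−1)/2) when #F = q) and whose restriction to any Sylow p-subgroup P is the regular character of P: χ vanishes on the non-identity elements of P. (This is the Steinberg character.) -/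
theorem result {F : Type*} [Field F] [Fintype F] (p : ℕ) [Fact p.Prime] [CharP F p] (n : ℕ) (hn : 2 ≤ n) : ∃ χ : Matrix.ProjectiveSpecialLinearGroup (Fin n) F → ℂ, Cfsg.IsIrrCharacter (Matrix.ProjectiveSpecialLinearGroup (Fin n) F) χ ∧ ∀ P : Sylow p (Matrix.ProjectiveSpecialLinearGroup (Fin n) F), χ 1 = Nat.card P ∧ ∀ x : Matrix.ProjectiveSpecialLinearGroup (Fin n) F, x ∈ P → x ≠ 1 → χ x = 0 := by
  classical
  obtain ⟨a, -, hqa⟩ := FiniteField.card F p
  set q := Fintype.card F with hq
  have hq2 : 2 ≤ q := Fintype.one_lt_card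
  have hn0 : 0 < n := by omega
  let χ : IrrCharacter (Matrix.SpecialLinearGroup (Fin n) F) := ⟨_, steinberg_sl (F := F) hn0⟩
  obtain ⟨ψ, hψ⟩ := Lib.Chars.exists_irr_quotient (Subgroup.center (Matrix.SpecialLinearGroup (Fin n) F)) χ (by
    intro z hz
    show unipotentCharacterGL n F (fun _ => 1) (incl z) = unipotentCharacterGL n F (fun _ => 1) (incl 1)
    obtain ⟨r, -, hr⟩ := Matrix.SpecialLinearGroup.mem_center_iff.1 hz
    have hzB : incl z ∈ Cfsg.upperTriangularGL n F := by
      rw [Lib.GLFlags.mem_upperTriangularGL_iff]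
      intro i j hij
      show (z : Matrix (Fin n) (Fin n) F) i j = 0
      rw [← hr, Matrix.scalar_apply]
      exact Matrix.diagonal_apply_ne _ hij.ne'
    have hcomm : ∀ g : GL (Fin n) F, incl z * g = g * incl z := fun g => Units.ext (by
      show (z : Matrix (Fin n) (Fin n) F) * g.val = g.val * (z : Matrix (Fin n) (Fin n) F)
      rw [← hr]
      exact (Matrix.scalar_commute r (mul_comm r) g.val).eq)
    simp only [map_one, unipotentCharacterGL]
    refine Finset.sum_congr rfl fun κ _ => ?_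
    split_ifs
    · congr 1
      rw [Lib.GLFlags.fixedPointCharacter_one, fixedPointCharacter]
      congr 1
      refine Nat.card_congr (Equiv.subtypeUnivEquiv fun x => ?_)
      induction x using QuotientGroup.induction_on with
      | H g =>
        rw [MulAction.mem_fixedBy, MulAction.Quotient.smul_mk, smul_eq_mul, hcomm, QuotientGroup.eq]
        simp only [mul_inv_rev, inv_mul_cancel_right]
        exact inv_mem (Lib.GLFlags.upperTriangularGL_le_parabolicGL _ hzB)
    · rfl)
  have hdeg : ψ.1 1 = ((q ^ Lib.GLFlags.triSum n : ℕ) : ℂ) := by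
    have := hψ 1
    rw [QuotientGroup.mk_one] at this
    rw [this]
    show unipotentCharacterGL n F (fun _ => 1) (incl 1) = _
    rw [map_one, degree_eq, Nat.cast_pow]
  -- the p-part of the order
  obtain ⟨M, hM, hcard⟩ : ∃ M, ¬ p ∣ M ∧
      Nat.card (Matrix.ProjectiveSpecialLinearGroup (Fin n) F) = q ^ Lib.GLFlags.triSum n * M := by
    have hpp : p.Prime := Fact.out
    have hpq : p ∣ q := hqa ▸ dvd_pow_self p a.ne_zero
    have hp1 : ¬ p ∣ q - 1 := fun h => by
      have := Nat.dvd_sub hpq h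
      rw [Nat.sub_sub_self (show 1 ≤ q by omega)] at this
      exact hpp.not_dvd_one this
    have hpI : ∀ k, ¬ p ∣ Lib.GLFlags.qInt q (k + 1) := fun k h => by
      have hqi := Lib.GLFlags.qInt_add q 1 k
      rw [add_comm 1 k, pow_one, show Lib.GLFlags.qInt q 1 = 1 by simp [Lib.GLFlags.qInt]] at hqi
      rw [hqi] at h
      exact hpp.not_dvd_one ((Nat.dvd_add_left (hpq.mul_right _)).1 h)
    have hpF : ¬ p ∣ Lib.GLFlags.qFact q n := fun h => by
      obtain ⟨i, -, hi⟩ := (Prime.dvd_finset_prod_iff hpp.prime _).1 h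
      exact hpI i hi
    have hGL := Lib.GLFlags.card_GL_type (F := F) (Fin n)
    rw [Fintype.card_fin, ← hq] at hGL
    have hsl := card_gl (F := F) hn0
    have hsl' : Nat.card Fˣ * Nat.card (Matrix.SpecialLinearGroup (Fin n) F) = Nat.card (GL (Fin n) F) := by
      exact_mod_cast hsl
    rw [Nat.card_units, Nat.card_eq_fintype_card (α := F), ← hq,
      Subgroup.card_eq_card_quotient_mul_card_subgroup (Subgroup.center (Matrix.SpecialLinearGroup (Fin n) F))] at hsl'
    set c := Nat.card (Subgroup.center (Matrix.SpecialLinearGroup (Fin n) F))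
    have hpc : ¬ p ∣ c := fun h => by
      obtain ⟨z, hz⟩ := exists_prime_orderOf_dvd_card' p h
      obtain ⟨r, -, hr⟩ := Matrix.SpecialLinearGroup.mem_center_iff.1 z.2
      have hzp : (z.1 : Matrix (Fin n) (Fin n) F) ^ p = 1 := by
        rw [← Matrix.SpecialLinearGroup.coe_pow, ← SubmonoidClass.coe_pow, ← hz, pow_orderOf_eq_one]
        rfl
      rw [← hr, ← map_pow, Matrix.scalar_apply, Matrix.diagonal_eq_one] at hzp
      have hrp : r ^ p = 1 := congrFun hzp ⟨0, hn0⟩
      have hr1 : r = 1 := frobenius_inj F p (by rw [frobenius_def, frobenius_def, hrp, one_pow])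
      have hz1 : z = 1 := Subtype.ext (Subtype.ext (by rw [← hr, hr1, map_one]; rfl))
      rw [hz1, orderOf_one] at hz
      exact hpp.ne_one hz.symm
    change (q - 1) * (Nat.card (Matrix.ProjectiveSpecialLinearGroup (Fin n) F) * c) = _ at hsl'
    rw [hGL] at hsl'
    have hdiv : q ^ Lib.GLFlags.triSum n ∣ Nat.card (Matrix.ProjectiveSpecialLinearGroup (Fin n) F) := by
      refine Nat.Coprime.dvd_of_dvd_mul_right (k := q ^ Lib.GLFlags.triSum n) (n := c * (q - 1)) ?_ ?_
      · rw [show q ^ Lib.GLFlags.triSum n = p ^ ((a : ℕ) * Lib.GLFlags.triSum n) by rw [hqa, ← pow_mul]]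
        exact ((hpp.coprime_iff_not_dvd.2 hpc).mul_right (hpp.coprime_iff_not_dvd.2 hp1)).pow_left _
      · rw [show Nat.card (Matrix.ProjectiveSpecialLinearGroup (Fin n) F) * (c * (q - 1)) =
          (q - 1) * (Nat.card (Matrix.ProjectiveSpecialLinearGroup (Fin n) F) * c) by ring, hsl', mul_assoc]
        exact dvd_mul_right _ _
    obtain ⟨M, hM⟩ := hdiv
    refine ⟨M, fun h => ?_, hM⟩
    rw [hM] at hsl'
    have e : (q - 1) * M * c = (q - 1) ^ n * Lib.GLFlags.qFact q n := by
      refine Nat.eq_of_mul_eq_mul_left (Nat.pow_pos (show 0 < q by omega) : 0 < q ^ Lib.GLFlags.triSum n) ?_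
      rw [← mul_assoc (q ^ _) ((q - 1) ^ n), ← hsl']
      ring
    rcases hpp.dvd_mul.1 (e ▸ ((h.mul_left _).mul_right _) : p ∣ (q - 1) ^ n * Lib.GLFlags.qFact q n) with h' | h'
    · exact hp1 (hpp.dvd_of_dvd_pow h')
    · exact hpF h'
  rw [hqa, ← pow_mul] at hcard hdeg
  refine ⟨ψ.1, ψ.2, fun P => ⟨?_, fun x hx hx1 => ?_⟩⟩
  · rw [hdeg, Lib.SmallGroups.card_sylow_eq P hcard hM]
  · obtain ⟨m, ρ, hirr, hρ⟩ := ψ.2
    haveI := hirr
    rw [← hρ]
    refine Lib.Chars.char_eq_zero_of_defect_zero ρ (n := (a : ℕ) * Lib.GLFlags.triSum n) Fact.out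
      (hcard ▸ dvd_mul_right _ _) ?_ ?_ x ?_
    · rw [hcard, pow_succ]
      intro hd
      exact hM (Nat.dvd_of_mul_dvd_mul_left (pow_pos (Fact.out : p.Prime).pos _) hd)
    · rw [← hρ, Representation.char_one] at hdeg
      exact dvd_of_eq (by exact_mod_cast hdeg.symm)
    · obtain ⟨k, hk⟩ := IsPGroup.iff_orderOf.1 P.isPGroup' ⟨x, hx⟩
      rw [Subgroup.orderOf_mk] at hk
      rw [hk]
      refine dvd_pow_self p fun h0 => hx1 ?_
      rw [h0, pow_zero, orderOf_eq_one_iff] at hk
      exact hk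

end Cfsg.Agent.S2544
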