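import Cfsg.Statements.S2545
import Cfsg.Agent.Lib.SteinbergFlag.Character
import Cfsg.Agent.Lib.SteinbergFlag.Anisotropic
import Cfsg.Agent.Lib.Forms.Bridge

set_option autoImplicit false
open Cfsg

namespace Cfsg.Agent.S2545

open Cfsg.Agent.Lib.SteinbergFlag
open Cfsg.Agent.Lib

open scoped Matrix

universe u

variable (F : Type u) [Field F] (m : ℕ)

/-- The symplectic polar space. -/
noncomputable def space : Space F (Fin m ⊕ Fin m → F) where
  τ := RingHom.id F
  τ_inv _ := rfl
  ε := -1
  B u v := Forms.sympBilin m F u v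
  B_add_left x x' y := by simp only [map_add, LinearMap.add_apply]
  B_smul_left c x y := by simp only [map_smul, LinearMap.smul_apply, smul_eq_mul]
  B_symm x y := by
    simp only [Forms.sympBilin_apply, Forms.sympForm_apply, RingHom.id_apply, neg_one_mul,
      ← Finset.sum_neg_distrib]
    exact Finset.sum_congr rfl fun i _ => by ring
  N _ := 0
  φ _ := 0
  φ_zero := rfl
  N_add _ _ := by simp
  N_smul _ _ := by simp
  N_self x _ := by
    simp only [Forms.sympBilin_apply, Forms.sympForm_apply]
    exact Finset.sum_eq_zero fun i _ => by ring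
  φ_sol _ := ⟨0, by simp⟩

theorem space_B (u v : Fin m ⊕ Fin m → F) :
    (space F m).B u v = ∑ i, (u (.inr i) * v (.inl i) - u (.inl i) * v (.inr i)) := by
  show Forms.sympBilin m F u v = _
  rw [Forms.sympBilin_apply, Forms.sympForm_apply]

/-- The standard symplectic frame. -/
noncomputable def frame : Frame (space F m) m where
  e i := Pi.single (.inr i) 1
  f i := Pi.single (.inl i) 1
  Ne _ := rfl
  Nf _ := rfl
  ee i j := by simp [space_B, Pi.single_apply]
  ff i j := by simp [space_B, Pi.single_apply]
  ef i j := by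
    rw [space_B]
    simp [Pi.single_apply]
    split_ifs <;> simp_all
  aniso z hz _ := by
    funext l
    rcases l with i | i
    · have := (hz i).1
      simpa [space_B, Pi.single_apply] using this
    · have := (hz i).2
      simpa [space_B, Pi.single_apply] using this

variable [Fintype F] (p : ℕ) [Fact p.Prime] [CharP F p]

/-- The symplectic group as isometries. -/
noncomputable def rho : Matrix.symplecticGroup (Fin m) F →* ((Fin m ⊕ Fin m → F) ≃ₗ[F] (Fin m ⊕ Fin m → F)) where
  toFun g :=
    LinearEquiv.ofBijective (Matrix.mulVecLin g.1) ⟨by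
      intro x y hxy
      have h : (g⁻¹.1 * g.1) = 1 := by rw [← Submonoid.coe_mul, inv_mul_cancel, Submonoid.coe_one]
      have := congrArg (fun z => Matrix.mulVec g⁻¹.1 z) hxy
      simpa [Matrix.mulVec_mulVec, h] using this, by
      intro x
      refine ⟨Matrix.mulVec g⁻¹.1 x, ?_⟩
      have h : (g.1 * g⁻¹.1) = 1 := by rw [← Submonoid.coe_mul, mul_inv_cancel, Submonoid.coe_one]
      simp [Matrix.mulVec_mulVec, h]⟩
  map_one' := LinearEquiv.ext fun x => by simp
  map_mul' g h := LinearEquiv.ext fun x => (Matrix.mulVec_mulVec x g.1 h.1).symm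

/-- The action. -/
noncomputable def action (hm : 1 ≤ m) :
    Action (space F m) m p (Matrix.symplecticGroup (Fin m) F) where
  ρ := rho F m
  iso g := ⟨fun x y => by
    show Forms.sympBilin m F (g.1 *ᵥ x) (g.1 *ᵥ y) = Forms.sympBilin m F x y
    rw [Forms.sympBilin_apply, Forms.sympBilin_apply]
    exact Forms.mem_symplecticGroup_iff_preserves.1 g.2 x y, fun _ => rfl⟩
  inj g h e := Subtype.ext (Matrix.ext_iff_mulVec.2 fun x => LinearEquiv.congr_fun e x)
  lift Φ T hT _ := by
    have hmat : ∀ v, LinearMap.toMatrix' T.toLinearMap *ᵥ v = T v := fun v =>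
      LinearMap.toMatrix'_mulVec T.toLinearMap v
    refine ⟨⟨LinearMap.toMatrix' T.toLinearMap, Forms.mem_symplecticGroup_iff_preserves.2 fun u v => ?_⟩,
      LinearEquiv.ext fun v => hmat v⟩
    have := hT.1 u v
    rw [hmat, hmat, ← Forms.sympBilin_apply, ← Forms.sympBilin_apply]
    exact this
  torus Φ g L hg he hf := by
    have h := Φ.eq_one_of_small (p := p) (L := L)
      (by rw [Module.finrank_fintype_fun_eq_card, Fintype.card_sum, Fintype.card_fin]; omega)
      (T := rho F m g) ⟨fun x y => by
        show Forms.sympBilin m F (g.1 *ᵥ x) (g.1 *ᵥ y) = Forms.sympBilin m F x y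
        rw [Forms.sympBilin_apply, Forms.sympBilin_apply]
        exact Forms.mem_symplecticGroup_iff_preserves.1 g.2 x y, fun _ => rfl⟩
      (by rw [← map_pow, hg, map_one]) he hf
    exact Subtype.ext (Matrix.ext_iff_mulVec.2 fun x => by
      rw [OneMemClass.coe_one, Matrix.one_mulVec]
      exact LinearEquiv.congr_fun h x)
  flip := Or.inl ⟨1, one_ne_zero, rfl⟩


/-- Let F be a finite field of characteristic p and consider the projective symplectic group PSp_{2m}(F) with m ≥ 1. This group has an irreducible complex character χ whose degree equals the order of a Sylow p-subgroup (namely q^(m²) when #F = q) and whose restriction to any Sylow p-subgroup P is the regular character of P: χ vanishes on the non-identity elements of P. (This is the Steinberg character.) -/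
theorem result {F : Type*} [Field F] [Fintype F] (p : ℕ) [Fact p.Prime] [CharP F p] (m : ℕ) (hm : 1 ≤ m) : ∃ χ : Cfsg.PSp m F → ℂ, Cfsg.IsIrrCharacter (Cfsg.PSp m F) χ ∧ ∀ P : Sylow p (Cfsg.PSp m F), χ 1 = Nat.card P ∧ ∀ x : Cfsg.PSp m F, x ∈ P → x ≠ 1 → χ x = 0 := by
  exact (action F m p hm).exists_steinberg_character (frame F m)

end Cfsg.Agent.S2545
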