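import Cfsg.Statements.S2546
import Cfsg.Agent.Lib.SteinbergFlag.Character
import Cfsg.Agent.Lib.SteinbergFlag.Anisotropic
import Cfsg.Agent.Lib.Forms.Bridge
import Cfsg.Agent.Lib.Forms.Families
import Cfsg.Agent.Lib.Classical.UnitaryCentre

set_option autoImplicit false
open Cfsg

namespace Cfsg.Agent.S2546

open Cfsg.Agent.Lib.SteinbergFlag
open Cfsg.Agent.Lib
open scoped Matrix

universe u

/-- The first coordinate of the `i`th pair. -/
def ix {n : ℕ} (i : Fin (n / 2)) : Fin n := ⟨2 * i.val, by omega⟩

/-- The second coordinate of the `i`th pair. -/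
def iy {n : ℕ} (i : Fin (n / 2)) : Fin n := ⟨2 * i.val + 1, by omega⟩

theorem ix_ne_iy {n : ℕ} (i j : Fin (n / 2)) : (ix (n := n)) i ≠ (iy (n := n)) j := fun e => by
  have := congrArg Fin.val e
  simp only [ix, iy] at this
  omega

theorem ix_injective {n : ℕ} : Function.Injective ((ix (n := n))) := fun i j e => Fin.ext (by
  have := congrArg Fin.val e
  simp only [ix] at this
  omega)

theorem iy_injective {n : ℕ} : Function.Injective ((iy (n := n))) := fun i j e => Fin.ext (by
  have := congrArg Fin.val e
  simp only [iy] at this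
  omega)

variable {F : Type u} [Field F] [Fintype F] {q : ℕ} (hF : Fintype.card F = q ^ 2) (n : ℕ)

include hF in
theorem exists_trace_ne_zero : ∃ x : F, x + x ^ q ≠ 0 := by
  by_contra h
  push Not at h
  apply Forms.qPowHom_ne_id hF
  have h2 : (1 : F) + 1 = 0 := by have := h 1; rwa [one_pow] at this
  ext x
  rw [Forms.qPowHom_apply, RingHom.id_apply]
  linear_combination h x - x * h2

/-- The Hermitian polar space. -/
noncomputable def space : Space F (Fin n → F) where
  τ := Forms.qPowHom hF
  τ_inv := Forms.qPowHom_qPowHom hF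
  ε := 1
  B u v := hermForm n F q u v
  B_add_left x x' y := by
    simp only [hermForm, Pi.add_apply, add_mul, Finset.sum_add_distrib]
  B_smul_left c x y := by
    simp only [hermForm, Pi.smul_apply, smul_eq_mul, Finset.mul_sum, mul_assoc]
  B_symm x y := by
    rw [one_mul]
    unfold hermForm
    rw [map_sum]
    refine Finset.sum_congr rfl fun i _ => ?_
    rw [map_mul, Forms.qPowHom_apply, Forms.qPowHom_apply, Forms.pow_q_pow_q hF, mul_comm]
  N x := hermForm n F q x x
  φ t := t + t ^ q
  φ_zero := by
    have := Forms.two_le_of_card_sq hF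
    rw [zero_pow (by omega), add_zero]
  N_add x y := by
    unfold hermForm
    rw [← Forms.qPowHom_apply hF (∑ i, x i * y i ^ q), map_sum, ← Finset.sum_add_distrib,
      ← Finset.sum_add_distrib, ← Finset.sum_add_distrib]
    refine Finset.sum_congr rfl fun i _ => ?_
    rw [map_mul, Forms.qPowHom_apply, Forms.qPowHom_apply, Forms.pow_q_pow_q hF,
      show ((x + y) i) ^ q = x i ^ q + y i ^ q from by
        rw [← Forms.qPowHom_apply hF, ← Forms.qPowHom_apply hF, ← Forms.qPowHom_apply hF, Pi.add_apply, map_add],
      Pi.add_apply]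
    ring
  N_smul c x := by
    unfold hermForm
    rw [Finset.mul_sum]
    refine Finset.sum_congr rfl fun i _ => ?_
    rw [Pi.smul_apply, smul_eq_mul, mul_pow, Forms.qPowHom_apply]
    ring
  N_self _ h := h
  φ_sol x := by
    obtain ⟨y, hy⟩ := exists_trace_ne_zero hF
    set c := -hermForm n F q x x with hc
    have hcfix : c ^ q = c := by
      rw [hc, ← Forms.qPowHom_apply hF, map_neg, neg_inj]
      unfold hermForm
      rw [map_sum]
      refine Finset.sum_congr rfl fun i _ => ?_
      rw [map_mul, Forms.qPowHom_apply, Forms.qPowHom_apply, Forms.pow_q_pow_q hF, mul_comm]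
    have hsfix : (y + y ^ q) ^ q = y + y ^ q := by
      rw [← Forms.qPowHom_apply hF (y + y ^ q), map_add, Forms.qPowHom_apply, Forms.qPowHom_apply,
        Forms.pow_q_pow_q hF, add_comm]
    refine ⟨c * y / (y + y ^ q), ?_⟩
    rw [div_pow, mul_pow, hcfix, hsfix, ← add_div, ← mul_add, mul_div_assoc, div_self hy, mul_one, hc,
      add_neg_cancel]

theorem space_B (u v : Fin n → F) : (space hF n).B u v = ∑ i, u i * v i ^ q := rfl

/-- A vector supported on the `i`th pair. -/
def pairVec (i : Fin (n / 2)) (a b : F) : Fin n → F := Pi.single (ix (n := n) i) a + Pi.single (iy (n := n) i) b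

theorem B_pairVec (i : Fin (n / 2)) (a b : F) (v : Fin n → F) :
    (space hF n).B (pairVec n i a b) v = a * v (ix (n := n) i) ^ q + b * v (iy (n := n) i) ^ q := by
  rw [space_B]
  simp [pairVec, add_mul, Finset.sum_add_distrib, Pi.single_apply]

theorem pairVec_apply (i j : Fin (n / 2)) (a b : F) :
    pairVec n i a b (ix (n := n) j) = (if i = j then a else 0) ∧
    pairVec n i a b (iy (n := n) j) = (if i = j then b else 0) := by
  constructor
  · simp only [pairVec, Pi.add_apply, Pi.single_apply, if_neg (ix_ne_iy (n := n) j i), add_zero,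
      (ix_injective (n := n)).eq_iff, eq_comm]
  · rw [pairVec, Pi.add_apply, Pi.single_apply, if_neg (ix_ne_iy (n := n) i j).symm, zero_add,
      Pi.single_apply]
    simp only [(iy_injective (n := n)).eq_iff, eq_comm]

/-- A standard Hermitian frame. -/
noncomputable def frame (α β : F) (hα : α * α ^ q = -1) (hβ : β * β ^ q = -1) (hne : β ≠ α) :
    Frame (space hF n) (n / 2) :=
  have hq := Forms.two_le_of_card_sq hF
  have key : 1 + α * β ^ q ≠ 0 := fun h => hne (by
    have h0 : α ≠ 0 := fun e => by simp [e] at h
    have h1 : β ^ q = α ^ q := mul_left_cancel₀ h0 (by linear_combination h - hα)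
    have := congrArg (fun x => x ^ q) h1
    simpa [Forms.pow_q_pow_q hF] using this)
  { e := fun i => pairVec n i 1 α
    f := fun i => ((1 + α * β ^ q) ^ q)⁻¹ • pairVec n i 1 β
    Ne := fun i => by
      show (space hF n).B _ _ = 0
      rw [B_pairVec, (pairVec_apply n i i 1 α).1, (pairVec_apply n i i 1 α).2, if_pos rfl, if_pos rfl,
        one_pow, one_mul, hα, add_neg_cancel]
    Nf := fun i => by
      rw [(space hF n).N_smul]
      show _ * (space hF n).B _ _ = 0
      rw [B_pairVec, (pairVec_apply n i i 1 β).1, (pairVec_apply n i i 1 β).2, if_pos rfl, if_pos rfl,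
        one_pow, one_mul, hβ, add_neg_cancel, mul_zero]
    ee := fun i j => by
      rw [B_pairVec, (pairVec_apply n j i 1 α).1, (pairVec_apply n j i 1 α).2]
      split_ifs
      · rw [one_pow, one_mul, hα, add_neg_cancel]
      · rw [zero_pow (by omega)]; ring
    ff := fun i j => by
      rw [(space hF n).B_smul_left, (space hF n).B_smul_right, B_pairVec, (pairVec_apply n j i 1 β).1,
        (pairVec_apply n j i 1 β).2]
      split_ifs
      · rw [one_pow, one_mul, hβ, add_neg_cancel, mul_zero, mul_zero]
      · rw [zero_pow (by omega)]; ring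
    ef := fun i j => by
      rw [(space hF n).B_smul_right, B_pairVec, (pairVec_apply n j i 1 β).1, (pairVec_apply n j i 1 β).2]
      show Forms.qPowHom hF _ * _ = _
      rw [Forms.qPowHom_apply, inv_pow, Forms.pow_q_pow_q hF]
      rcases eq_or_ne i j with rfl | hij
      · simp only [if_true, one_pow, one_mul, inv_mul_cancel₀ key]
      · rw [if_neg hij.symm, if_neg hij.symm, if_neg hij, zero_pow (by omega)]; ring
    aniso := fun z hz hN => by
      have hzero : ∀ i, z (ix (n := n) i) = 0 ∧ z (iy (n := n) i) = 0 := by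
        intro i
        have h1 : (space hF n).B (pairVec n i 1 α) z = 0 := (space hF n).B_eq_zero_symm (hz i).1
        have h2 : (space hF n).B (((1 + α * β ^ q) ^ q)⁻¹ • pairVec n i 1 β) z = 0 :=
          (space hF n).B_eq_zero_symm (hz i).2
        rw [B_pairVec] at h1
        rw [(space hF n).B_smul_left, B_pairVec] at h2
        have h3 := (mul_eq_zero.1 h2).resolve_left (inv_ne_zero (pow_ne_zero _ key))
        have h4 : z (iy (n := n) i) ^ q = 0 := by
          have : (α - β) * z (iy (n := n) i) ^ q = 0 := by linear_combination h1 - h3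
          exact (mul_eq_zero.1 this).resolve_left (sub_ne_zero.2 hne.symm)
        rw [h4, mul_zero, add_zero, one_mul] at h1
        exact ⟨pow_eq_zero_iff (by omega) |>.1 h1, pow_eq_zero_iff (by omega) |>.1 h4⟩
      funext l
      by_cases hl : l.val < 2 * (n / 2)
      · rcases Nat.even_or_odd' l.val with ⟨r, h | h⟩
        · rw [show l = ix (n := n) ⟨r, by omega⟩ from Fin.ext h, (hzero _).1]; rfl
        · rw [show l = iy (n := n) ⟨r, by omega⟩ from Fin.ext h, (hzero _).2]; rfl
      · change (space hF n).B z z = 0 at hN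
        rw [space_B, Fintype.sum_eq_single l] at hN
        · rcases mul_eq_zero.1 hN with h | h
          · exact h
          · exact (pow_eq_zero_iff (by omega)).1 h
        · intro b hb
          have hb' : b.val < 2 * (n / 2) := by
            by_contra hc
            exact hb (Fin.ext (by omega))
          rcases Nat.even_or_odd' b.val with ⟨r, h | h⟩
          · rw [show b = ix (n := n) ⟨r, by omega⟩ from Fin.ext h, (hzero _).1, zero_mul]
          · rw [show b = iy (n := n) ⟨r, by omega⟩ from Fin.ext h, (hzero _).2, zero_mul] }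

variable (p : ℕ) [Fact p.Prime] [CharP F p]

/-- The special unitary group acting on vectors. -/
noncomputable def rho : SU n F q →* ((Fin n → F) ≃ₗ[F] (Fin n → F)) :=
  (Forms.glEquiv (Fin n) F).toMonoidHom.comp (Matrix.SpecialLinearGroup.toGL.comp (SU n F q).subtype)

omit [Fintype F] in
theorem rho_apply (g : SU n F q) (v : Fin n → F) : rho n g v = g.1.1 *ᵥ v := rfl

theorem rho_iso (g : SU n F q) : (space hF n).IsIso (rho n g) :=
  ⟨fun x y => g.2 x y, fun x => g.2 x x⟩

/-- The action. -/
noncomputable def action : Action (space hF n) (n / 2) p (SU n F q) where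
  ρ := rho n
  iso := rho_iso hF n
  inj g h e := Subtype.ext (Subtype.ext (Matrix.ext_iff_mulVec.2 fun x => LinearEquiv.congr_fun e x))
  lift Φ T hT hU := by
    have hmat : ∀ v, LinearMap.toMatrix' T.toLinearMap *ᵥ v = T v := fun v =>
      LinearMap.toMatrix'_mulVec T.toLinearMap v
    have hdet : (LinearMap.toMatrix' T.toLinearMap).det = 1 := by
      rw [LinearMap.det_toMatrix']
      have h := hU.pow_eq_one hT (p := p)
      have h2 : ∀ k : ℕ, LinearMap.det (T ^ k).toLinearMap = LinearMap.det T.toLinearMap ^ k := by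
        intro k
        induction k with
        | zero => simp [LinearEquiv.coe_toLinearMap_one]
        | succ k ih => rw [pow_succ, pow_succ, ← ih, ← map_mul]; rfl
      have h3 := h2 (p ^ (2 * (n / 2) + 1))
      rw [h, LinearEquiv.coe_toLinearMap_one, LinearMap.det_id] at h3
      exact iterateFrobenius_inj F p (2 * (n / 2) + 1) (by simp [iterateFrobenius_def, ← h3])
    refine ⟨Classical.suMk (LinearMap.toMatrix' T.toLinearMap) hdet fun u v => ?_, LinearEquiv.ext fun v => ?_⟩
    · rw [hmat, hmat]; exact hT.1 u v
    · rw [rho_apply]; exact hmat v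
  torus Φ g L hg he hf := by
    have h := Φ.eq_one_of_small (p := p) (L := L)
      (by rw [Module.finrank_fintype_fun_eq_card, Fintype.card_fin]; omega) (rho_iso hF n g)
      (by rw [← map_pow, hg, map_one]) he hf
    exact Subtype.ext (Subtype.ext (Matrix.ext_iff_mulVec.2 fun x =>
      (LinearEquiv.congr_fun h x).trans (Matrix.one_mulVec x).symm))
  flip := by
    refine Or.inl ?_
    obtain ⟨x, hx⟩ : ∃ x : F, x ^ q ≠ x := by
      by_contra h
      push Not at h
      exact Forms.qPowHom_ne_id hF (RingHom.ext fun x => (Forms.qPowHom_apply hF x).trans (h x))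
    refine ⟨x - x ^ q, sub_ne_zero.2 (Ne.symm hx), ?_⟩
    show x - x ^ q + (x - x ^ q) ^ q = 0
    rw [← Forms.qPowHom_apply hF (x - x ^ q), map_sub, Forms.qPowHom_apply, Forms.qPowHom_apply,
      Forms.pow_q_pow_q hF]
    ring


/-- Let F be a finite field of characteristic p and consider the projective special unitary group PSU_n(q), n ≥ 2, realised over the field F with q² elements. This group has an irreducible complex character χ whose degree equals the order of a Sylow p-subgroup (namely q^(n(n−1)/2)) and whose restriction to any Sylow p-subgroup P is the regular character of P: χ vanishes on the non-identity elements of P. (This is the Steinberg character.) -/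
theorem result {F : Type*} [Field F] [Fintype F] (p : ℕ) [Fact p.Prime] [CharP F p] (n q : ℕ) (hn : 2 ≤ n) (hF : Fintype.card F = q ^ 2) : ∃ χ : Cfsg.PSU n F q → ℂ, Cfsg.IsIrrCharacter (Cfsg.PSU n F q) χ ∧ ∀ P : Sylow p (Cfsg.PSU n F q), χ 1 = Nat.card P ∧ ∀ x : Cfsg.PSU n F q, x ∈ P → x ≠ 1 → χ x = 0 := by
  obtain ⟨α, hα⟩ : ∃ α : F, α * α ^ q = -1 := by
    obtain ⟨x, hx⟩ := Forms.exists_norm_eq (Forms.qPowHom_ne_id hF) (Forms.qPowHom_qPowHom hF)
      (c := (-1 : F)) (by rw [map_neg, map_one])
    exact ⟨x, by rw [← Forms.qPowHom_apply hF x]; exact hx⟩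
  obtain ⟨a, ha, ha2⟩ := Classical.exists_norm_one_sq_ne_one hF
  have hα0 : α ≠ 0 := fun e => by simp [e] at hα
  refine (action hF n p).exists_steinberg_character (frame hF n α (α * a) hα ?_ ?_)
  · rw [mul_pow, show α * a * (α ^ q * a ^ q) = α * α ^ q * (a ^ q * a) by ring, ← pow_succ, ha, mul_one, hα]
  · intro e
    have : a = 1 := mul_left_cancel₀ hα0 (e.trans (mul_one α).symm)
    exact ha2 (by rw [this, mul_one])

end Cfsg.Agent.S2546
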