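import Cfsg.Statements.S2547
import Cfsg.Agent.Lib.SteinbergFlag.Character
import Cfsg.Agent.Lib.SteinbergFlag.Orthogonal
import Cfsg.Agent.Lib.Orth.StandardOdd

set_option autoImplicit false
open Cfsg

namespace Cfsg.Agent.S2547

open Cfsg.Agent.Lib.SteinbergFlag
open Cfsg.Agent.Lib

universe u

/-- The standard frame of the odd-dimensional form. -/
noncomputable def frame (F : Type u) [Field F] (m : ℕ) : Frame (quadSpace (Orth.oddForm m F)) m where
  e i := Pi.single (.inr (.inl i)) 1
  f i := Pi.single (.inr (.inr i)) 1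
  Ne i := by
    show Orth.oddForm m F _ = 0
    rw [Orth.coe_oddForm]; simp [quadFormOdd, Pi.single_apply]
  Nf i := by
    show Orth.oddForm m F _ = 0
    rw [Orth.coe_oddForm]; simp [quadFormOdd, Pi.single_apply]
  ee i j := by rw [quadSpace_B, Orth.polar_oddForm]; simp [Pi.single_apply]
  ff i j := by rw [quadSpace_B, Orth.polar_oddForm]; simp [Pi.single_apply]
  ef i j := by
    rw [quadSpace_B, Orth.polar_oddForm]
    simp [Pi.single_apply]
    split_ifs <;> simp_all
  aniso z hz hN := by
    have hc : ∀ i, z (.inr (.inr i)) = 0 ∧ z (.inr (.inl i)) = 0 := fun i => by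
      have h1 := (hz i).1
      have h2 := (hz i).2
      rw [quadSpace_B, Orth.polar_oddForm] at h1 h2
      exact ⟨by simpa [Pi.single_apply] using h1, by simpa [Pi.single_apply] using h2⟩
    change Orth.oddForm m F z = 0 at hN
    rw [Orth.coe_oddForm] at hN
    simp [quadFormOdd, hc] at hN
    funext l
    rcases l with u | i | i
    · exact hN
    · exact (hc i).2
    · exact (hc i).1


/-- Let F be a finite field of characteristic p and consider the group PΩ_{2m+1}(F) of the quadratic form x₀² + Σ x_i y_i, where m ≥ 1 and #F is odd. This group has an irreducible complex character χ whose degree equals the order of a Sylow p-subgroup (namely q^(m²) when #F = q) and whose restriction to any Sylow p-subgroup P is the regular character of P: χ vanishes on the non-identity elements of P. (This is the Steinberg character.) -/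
theorem result {F : Type*} [Field F] [Fintype F] (p : ℕ) [Fact p.Prime] [CharP F p] (hodd : Odd (Fintype.card F)) (m : ℕ) (hm : 1 ≤ m) : ∃ χ : Cfsg.POmega F (Cfsg.quadFormOdd m F) → ℂ, Cfsg.IsIrrCharacter (Cfsg.POmega F (Cfsg.quadFormOdd m F)) χ ∧ ∀ P : Sylow p (Cfsg.POmega F (Cfsg.quadFormOdd m F)), χ 1 = Nat.card P ∧ ∀ x : Cfsg.POmega F (Cfsg.quadFormOdd m F), x ∈ P → x ≠ 1 → χ x = 0 := by
  have h2 : (2 : F) ≠ 0 := by
    intro h
    have : CharP F 2 := CharTwo.of_one_ne_zero_of_two_eq_zero one_ne_zero h
    obtain ⟨k, -, hk⟩ := FiniteField.card F 2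
    rw [hk] at hodd
    exact (Nat.not_odd_iff_even.2 ((Nat.even_pow).2 ⟨even_two, k.ne_zero⟩)) hodd
  have hQ := Orth.oddForm_nondegenerate h2 m
  rw [← Orth.coe_oddForm m]
  exact (omegaAction (p := p) (n := m) hQ (by simp; omega) (by simp; omega)
    (fun Φ g hg => mem_omega_of_unip (p := p) hQ (Or.inl h2) Φ g hg)).exists_steinberg_character (frame F m)

end Cfsg.Agent.S2547
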