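import Cfsg.Statements.S2548
import Cfsg.Agent.Lib.SteinbergFlag.Character
import Cfsg.Agent.Lib.SteinbergFlag.Orthogonal
import Cfsg.Agent.Lib.SteinbergFlag.PlusFourTwo
import Cfsg.Agent.Lib.Dickson.StdQuad

set_option autoImplicit false
open Cfsg

namespace Cfsg.Agent.S2548

open Cfsg.Agent.Lib.SteinbergFlag
open Cfsg.Agent.Lib

universe u

/-- The standard frame of the hyperbolic form. -/
noncomputable def frame (F : Type u) [Field F] (m : ℕ) : Frame (quadSpace (StdForms.plusQ F m)) m where
  e i := Pi.single (.inl i) 1
  f i := Pi.single (.inr i) 1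
  Ne i := by
    show StdForms.plusQ F m _ = 0
    rw [StdForms.coe_plusQ]; simp [quadFormPlus, Pi.single_apply]
  Nf i := by
    show StdForms.plusQ F m _ = 0
    rw [StdForms.coe_plusQ]; simp [quadFormPlus, Pi.single_apply]
  ee i j := by rw [quadSpace_B, StdForms.coe_plusQ, StdForms.polar_plus]; simp [Pi.single_apply]
  ff i j := by rw [quadSpace_B, StdForms.coe_plusQ, StdForms.polar_plus]; simp [Pi.single_apply]
  ef i j := by
    rw [quadSpace_B, StdForms.coe_plusQ, StdForms.polar_plus]
    simp [Pi.single_apply]
    split_ifs <;> simp_all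
  aniso z hz _ := by
    have hc : ∀ i, z (.inr i) = 0 ∧ z (.inl i) = 0 := fun i => by
      have h1 := (hz i).1
      have h2 := (hz i).2
      rw [quadSpace_B, StdForms.coe_plusQ, StdForms.polar_plus] at h1 h2
      exact ⟨by simpa [Pi.single_apply] using h1, by simpa [Pi.single_apply] using h2⟩
    funext l
    rcases l with i | i
    · exact (hc i).2
    · exact (hc i).1

/-- Let F be a finite field of characteristic p and consider the group PΩ⁺_{2m}(F) of the hyperbolic quadratic form Σ x_i y_i with m ≥ 1, where Ω denotes the commutator subgroup of the full isometry group. This group has an irreducible complex character χ whose degree equals the order of a Sylow p-subgroup (equal to q^(m(m−1)) when #F = q, except in the degenerate case m = 2, q = 2, where this commutator subgroup has order 18 and its Sylow 2-subgroups have order 2) and whose restriction to any Sylow p-subgroup P is the regular character of P: χ vanishes on the non-identity elements of P. (This is the Steinberg character.) -/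
theorem result {F : Type*} [Field F] [Fintype F] (p : ℕ) [Fact p.Prime] [CharP F p] (m : ℕ) (hm : 1 ≤ m) : ∃ χ : Cfsg.POmega F (Cfsg.quadFormPlus m F) → ℂ, Cfsg.IsIrrCharacter (Cfsg.POmega F (Cfsg.quadFormPlus m F)) χ ∧ ∀ P : Sylow p (Cfsg.POmega F (Cfsg.quadFormPlus m F)), χ 1 = Nat.card P ∧ ∀ x : Cfsg.POmega F (Cfsg.quadFormPlus m F), x ∈ P → x ≠ 1 → χ x = 0 := by
  rw [← StdForms.coe_plusQ F m]
  have hQ := StdForms.plusQ_nondegenerate (F := F) m
  by_cases h : (2 : F) ≠ 0 ∨ (∃ c : F, c ≠ 0 ∧ c ≠ 1) ∨ Fintype.card (Fin m ⊕ Fin m) ≠ 4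
  · exact (omegaAction (p := p) (n := m) hQ (by simp; omega) (by simp; omega)
      (fun Φ g hg => mem_omega_of_unip (p := p) hQ h Φ g hg)).exists_steinberg_character (frame F m)
  · push Not at h
    obtain ⟨h2, hF, h4⟩ := h
    obtain rfl : p = 2 := eq_two_of_two h2
    obtain rfl : m = 2 := by simp at h4; omega
    exact PlusFourTwo.exists_steinberg_character h2 fun c => or_iff_not_imp_left.2 (hF c)

end Cfsg.Agent.S2548
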