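import Cfsg.Statements.S2549
import Cfsg.Agent.Lib.SteinbergFlag.Character
import Cfsg.Agent.Lib.SteinbergFlag.Orthogonal
import Cfsg.Agent.Lib.Dickson.StdQuad

set_option autoImplicit false
open Cfsg

namespace Cfsg.Agent.S2549

open Cfsg.Agent.Lib.SteinbergFlag
open Cfsg.Agent.Lib

universe u

/-- The standard frame of the elliptic form. -/
noncomputable def frame (F : Type u) [Field F] (m : ℕ) (a b : F)
    (hab : ∀ z₁ z₂ : F, z₁ ^ 2 + a * z₁ * z₂ + b * z₂ ^ 2 = 0 → z₁ = 0 ∧ z₂ = 0) :
    Frame (quadSpace (StdForms.minusQ F m a b)) m where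
  e i := Pi.single (.inl (.inl i)) 1
  f i := Pi.single (.inl (.inr i)) 1
  Ne i := by
    show StdForms.minusQ F m a b _ = 0
    rw [StdForms.coe_minusQ]; simp [quadFormMinus, Pi.single_apply]
  Nf i := by
    show StdForms.minusQ F m a b _ = 0
    rw [StdForms.coe_minusQ]; simp [quadFormMinus, Pi.single_apply]
  ee i j := by rw [quadSpace_B, StdForms.coe_minusQ, StdForms.polar_minus]; simp [Pi.single_apply]
  ff i j := by rw [quadSpace_B, StdForms.coe_minusQ, StdForms.polar_minus]; simp [Pi.single_apply]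
  ef i j := by
    rw [quadSpace_B, StdForms.coe_minusQ, StdForms.polar_minus]
    simp [Pi.single_apply]
    split_ifs <;> simp_all
  aniso z hz hN := by
    have hc : ∀ i, z (.inl (.inr i)) = 0 ∧ z (.inl (.inl i)) = 0 := fun i => by
      have h1 := (hz i).1
      have h2 := (hz i).2
      rw [quadSpace_B, StdForms.coe_minusQ, StdForms.polar_minus] at h1 h2
      exact ⟨by simpa [Pi.single_apply] using h1, by simpa [Pi.single_apply] using h2⟩
    change StdForms.minusQ F m a b z = 0 at hN
    rw [StdForms.coe_minusQ] at hN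
    simp [quadFormMinus, hc] at hN
    obtain ⟨h0, h1⟩ := hab _ _ hN
    funext l
    match l with
    | .inl (.inl i) => exact (hc i).2
    | .inl (.inr i) => exact (hc i).1
    | .inr 0 => exact h0
    | .inr 1 => exact h1

set_option maxHeartbeats 400000 in
/-- With a single hyperbolic pair, a unipotent isometry is a product of two conjugate reflections. -/
theorem mem_omega_rank_one {ι : Type} [Fintype ι] [DecidableEq ι] {F : Type u} [Field F] [CharP F 2]
    {Q : QuadraticForm F (ι → F)} (hQ : (QuadraticMap.polarBilin Q).Nondegenerate)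
    (Φ : Frame (quadSpace Q) 1) (g : ↥(isometryGroup F ⇑Q))
    (hg : IsUnip Φ.cham (Forms.isoToEquiv ⇑Q g)) : g ∈ Omega F ⇑Q := by
  set T := Forms.isoToEquiv ⇑Q g with hT
  have hiso : (quadSpace Q).IsIso T := quadSpace_isIso g
  set e := Φ.e 0
  set f := Φ.f 0
  have hTe : T e = e := by
    have hmem : e ∈ Φ.E (0 + 1) := Φ.e_mem_E (i := 0) (k := 0 + 1) (Nat.lt_succ_self 0)
    have h := hg.1 0 zero_lt_one e hmem
    rw [Φ.cham.sub_zero, Submodule.mem_bot] at h
    exact sub_eq_zero.1 h
  set c := Φ.comp (T f) with hc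
  set t := (quadSpace Q).B (T f) f
  have hBe : (quadSpace Q).B (T f) e = 1 := by
    have h := hiso.1 f e
    rw [hTe] at h
    rw [h]
    exact (Φ.fe 0 0).trans (if_pos rfl)
  have hdec : T f = t • e + f + c := by
    have h := Φ.decomp (T f)
    simp only [Fin.sum_univ_one] at h
    conv_lhs => rw [h]
    show t • e + ((1 : F) * (quadSpace Q).B (T f) e) • f + c = _
    rw [hBe, one_mul, one_smul]
  have hcorth := Φ.comp_orth (T f) 0
  have ht : t + Q c = 0 := by
    have h := hiso.2 f
    rw [hdec, show (quadSpace Q).N f = 0 from Φ.Nf 0] at h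
    have h' := Φ.N_decomp (fun _ => t) (fun _ => 1) (z := c) (fun i => Φ.comp_orth (T f) i)
    simp only [Fin.sum_univ_one, one_smul] at h'
    rw [h] at h'
    show t + Q c = 0
    change (0 : F) = t * 1 + Q c at h'
    rw [mul_one] at h'
    exact h'.symm
  have hz : ∀ z, (∀ i, (quadSpace Q).B z (Φ.e i) = 0 ∧ (quadSpace Q).B z (Φ.f i) = 0) → T z = z + (quadSpace Q).B z c • e := by
    intro z hz
    have hperp : z ∈ (quadSpace Q).perp (Φ.E 1) := Φ.mem_perp_E.2 fun i _ => (hz i).1
    have h1 := hg.2 z hperp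
    obtain ⟨h2, -⟩ := Φ.mem_E.1 h1
    rw [Fin.sum_univ_one] at h2
    set d := (quadSpace Q).B (T z - z) (Φ.f 0)
    have hTz : T z = z + d • e := by rw [← h2]; abel
    have h3 := hiso.1 z f
    rw [hTz, hdec] at h3
    simp only [(quadSpace Q).B_add_left, (quadSpace Q).B_add_right, (quadSpace Q).B_smul_left, (quadSpace Q).B_smul_right] at h3
    rw [show (quadSpace Q).B z e = 0 from (hz 0).1, show (quadSpace Q).B z f = 0 from (hz 0).2, show (quadSpace Q).B e e = 0 from Φ.ee 0 0,
      show (quadSpace Q).B e f = 1 from (Φ.ef 0 0).trans (if_pos rfl),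
      show (quadSpace Q).B e c = 0 from (quadSpace Q).B_eq_zero_symm hcorth.1] at h3
    have : d = (quadSpace Q).B z c := by
      simp only [mul_one, mul_zero, zero_add, add_zero] at h3
      linear_combination h3 - (quadSpace Q).B z c * CharTwo.two_eq_zero (R := F)
    rw [hTz, this]
  by_cases hc0 : Q c = 0
  · have hcz : c = 0 := Φ.aniso c (fun i => Φ.comp_orth (T f) i) hc0
    have ht0 : t = 0 := by rwa [hc0, add_zero] at ht
    have hone : T = 1 := by
      refine Φ.eq_one_of_fix (fun i => by rw [Subsingleton.elim i 0]; exact hTe) (fun i => ?_)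
        (fun z hz' => ?_)
      · rw [Subsingleton.elim i 0]
        show T f = f
        rw [hdec, hcz, ht0, zero_smul, zero_add, add_zero]
      · rw [hz z (Φ.mem_aniSpace.1 hz'), hcz, (quadSpace Q).B_zero_right, zero_smul, add_zero]
    rw [show g = 1 from Forms.isoToEquiv_injective ⇑Q (hone.trans (map_one _).symm)]
    exact one_mem _
  -- the two reflections
  set w := c + Q c • e with hw
  have hce : (quadSpace Q).B c e = 0 := hcorth.1
  have hQw : Q w = Q c := by
    have h1 : (quadSpace Q).B c (Q c • e) = 0 := by rw [(quadSpace Q).B_smul_right, hce, mul_zero]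
    have h2 := (quadSpace Q).N_add_orth h1
    have h3 : (quadSpace Q).N (Q c • e) = 0 := by rw [(quadSpace Q).N_smul, Φ.Ne, mul_zero]
    rw [h3, add_zero] at h2
    exact h2
  have hw0 : Q w ≠ 0 := hQw ▸ hc0
  obtain ⟨x, hx⟩ := isConj_iff.1 (Dickson.isConj_refl_of_value hQ hc0 hw0 (t := 1) (by rw [hQw, one_pow, one_mul]))
  have hprod : Orth.refl Q w hw0 * Orth.refl Q c hc0 ∈ Omega F ⇑Q := by
    rw [← hx]
    have hcomm := Subgroup.commutator_mem_commutator (Subgroup.mem_top x) (Subgroup.mem_top (Orth.refl Q c hc0))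
    rw [commutatorElement_def, Orth.refl_inv hc0] at hcomm
    exact hcomm
  suffices g = Orth.refl Q w hw0 * Orth.refl Q c hc0 by rw [this]; exact hprod
  refine Orth.isometry_ext fun v => ?_
  rw [Orth.app_mul, Orth.app_refl hc0, Orth.app_refl hw0]
  show T v = _

  have hpol : ∀ y z, QuadraticMap.polar ⇑Q y z = (quadSpace Q).B z y := fun y z => by
    rw [quadSpace_B, QuadraticMap.polar_comm]
  simp only [hpol, hQw]
  have hTv : T v = v + (quadSpace Q).B v c • e + (quadSpace Q).B v e • (Q c • e + c) := by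
    have h := Φ.decomp v
    simp only [Fin.sum_univ_one] at h
    have h' : v = (quadSpace Q).B v f • e + (quadSpace Q).B v e • f + Φ.comp v := by
      conv_lhs => rw [h]
      show (quadSpace Q).B v f • e + ((1 : F) * (quadSpace Q).B v e) • f + Φ.comp v = _
      rw [one_mul]
    have hvc : (quadSpace Q).B v c = (quadSpace Q).B (Φ.comp v) c := by
      conv_lhs => rw [h']
      simp only [(quadSpace Q).B_add_left, (quadSpace Q).B_smul_left]
      rw [(quadSpace Q).B_eq_zero_symm hcorth.1, (quadSpace Q).B_eq_zero_symm hcorth.2, mul_zero, mul_zero, zero_add, zero_add]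
    rw [show T v = (quadSpace Q).B v f • T e + (quadSpace Q).B v e • T f + T (Φ.comp v) by
      conv_lhs => rw [h']
      simp only [map_add, map_smul]]
    rw [hTe, hdec, hz _ (Φ.comp_orth v), hvc, CharTwo.add_eq_zero.1 ht]
    conv_rhs => arg 1; arg 1; rw [h']
    simp only [smul_add]
    abel
  rw [hTv, hw]
  have hcc : (quadSpace Q).B c c = 0 := by
    rw [quadSpace_B, QuadraticMap.polar_self, two_nsmul, CharTwo.add_self_eq_zero]
  have hQinv : Q c * (Q c)⁻¹ = 1 := mul_inv_cancel₀ hc0
  simp only [(quadSpace Q).B_sub_left, (quadSpace Q).B_add_right, (quadSpace Q).B_smul_left, (quadSpace Q).B_smul_right, hce, hcc]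
  simp only [show (quadSpace Q).τ (Q c) = Q c from rfl, sub_eq_add_neg, CharTwo.neg_eq, mul_zero, add_zero]
  match_scalars
  · ring
  · field_simp
    linear_combination ((quadSpace Q).B v c + (quadSpace Q).B v e * Q c) * CharTwo.two_eq_zero (R := F)
  · field_simp
    linear_combination ((quadSpace Q).B v c + (quadSpace Q).B v e * Q c) * CharTwo.two_eq_zero (R := F)


/-- Let F be a finite field of characteristic p and consider the group PΩ⁻_{2m+2}(F) of the quadratic form Σ_{i<m} x_i y_i + (z₁² + a z₁ z₂ + b z₂²) with anisotropic binary part, m ≥ 0. This group has an irreducible complex character χ whose degree equals the order of a Sylow p-subgroup (namely q^(m(m+1)) when #F = q) and whose restriction to any Sylow p-subgroup P is the regular character of P: χ vanishes on the non-identity elements of P. (This is the Steinberg character.) -/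
theorem result {F : Type*} [Field F] [Fintype F] (p : ℕ) [Fact p.Prime] [CharP F p] (m : ℕ) (a b : F) (hab : ∀ z₁ z₂ : F, z₁ ^ 2 + a * z₁ * z₂ + b * z₂ ^ 2 = 0 → z₁ = 0 ∧ z₂ = 0) : ∃ χ : Cfsg.POmega F (Cfsg.quadFormMinus m F a b) → ℂ, Cfsg.IsIrrCharacter (Cfsg.POmega F (Cfsg.quadFormMinus m F a b)) χ ∧ ∀ P : Sylow p (Cfsg.POmega F (Cfsg.quadFormMinus m F a b)), χ 1 = Nat.card P ∧ ∀ x : Cfsg.POmega F (Cfsg.quadFormMinus m F a b), x ∈ P → x ≠ 1 → χ x = 0 := by
  have hQ := StdForms.minusQ_nondegenerate hab m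
  rw [← StdForms.coe_minusQ F m a b]
  refine (omegaAction (p := p) (n := m) hQ (by simp; omega) (by simp; omega)
    (fun Φ g hg => ?_)).exists_steinberg_character (frame F m a b hab)
  by_cases h : (2 : F) ≠ 0 ∨ (∃ c : F, c ≠ 0 ∧ c ≠ 1) ∨ Fintype.card ((Fin m ⊕ Fin m) ⊕ Fin 2) ≠ 4
  · exact mem_omega_of_unip (p := p) hQ h Φ g hg
  · push Not at h
    obtain ⟨h2, -, h4⟩ := h
    haveI : CharP F 2 := CharTwo.of_one_ne_zero_of_two_eq_zero one_ne_zero h2
    obtain rfl : m = 1 := by simp at h4; omega
    exact mem_omega_rank_one hQ Φ g hg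

end Cfsg.Agent.S2549
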