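import Cfsg.Statements.S2550
import Mathlib
import Cfsg.Agent.Lib.LinGroup.Order
import Cfsg.Agent.Lib.SLTransv.Conj
import Cfsg.Agent.S0256

set_option autoImplicit false
open Cfsg

namespace Cfsg.Agent.S2550

open Matrix

/-- Every involution of `PSL_3(K)`, `|K| = 4`, is the image of a conjugate of `1 + E₁₀`. -/
theorem involution_normal_form {K : Type*} [Field K] [Fintype K] (hK : Fintype.card K = 4)
    (x : ProjectiveSpecialLinearGroup (Fin 3) K) (hx : x * x = 1) (hx1 : x ≠ 1) :
    IsConj (QuotientGroup.mk (SpecialLinearGroup.transvection (show (1 : Fin 3) ≠ 0 by decide) (1 : K))) x := by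
  classical
  obtain ⟨g, rfl⟩ := QuotientGroup.mk_surjective x
  have hgg : g * g ∈ Subgroup.center (SpecialLinearGroup (Fin 3) K) := by
    rwa [← QuotientGroup.mk_mul, QuotientGroup.eq_one_iff] at hx
  have hc3 : Nat.card (Subgroup.center (SpecialLinearGroup (Fin 3) K)) = 3 := by
    rw [Lib.LinGroup.card_center_SL, Lib.LinGroup.card_units_eq_sub_one, hK, Fintype.card_fin]
    rfl
  have hgg3 : (g * g) ^ 3 = 1 := by
    have h := pow_card_eq_one' (G := Subgroup.center (SpecialLinearGroup (Fin 3) K)) (x := ⟨g * g, hgg⟩)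
    rw [hc3] at h
    simpa using congrArg Subtype.val h
  set g' := g * g * g with hg'
  have hmk : (QuotientGroup.mk g' : ProjectiveSpecialLinearGroup (Fin 3) K) = QuotientGroup.mk g := by
    rw [hg', QuotientGroup.mk_mul, QuotientGroup.mk_mul, hx, one_mul]
  have hsq : g' * g' = 1 :=
    Eq.trans (by simp only [hg', pow_succ, pow_zero, one_mul, mul_assoc]) hgg3
  have hne : g' ≠ 1 := fun h => hx1 (by rw [← hmk, h, QuotientGroup.mk_one])
  have h2K : (2 : K) = 0 := by
    obtain ⟨p, hp⟩ := CharP.exists K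
    obtain ⟨n, hpp, hn⟩ := FiniteField.card K p
    rw [hK] at hn
    have hp2 : p = 2 := by
      have h : p ∣ 2 ^ 2 := by
        rw [show (2 : ℕ) ^ 2 = 4 from rfl, hn]
        exact dvd_pow_self p n.pos.ne'
      exact (Nat.prime_dvd_prime_iff_eq hpp Nat.prime_two).1 (hpp.dvd_of_dvd_pow h)
    subst hp2
    exact_mod_cast CharP.cast_eq_zero K 2
  set M : Matrix (Fin 3) (Fin 3) K := (g' : Matrix (Fin 3) (Fin 3) K) with hM
  have hN2 : (M - 1) * (M - 1) = 0 := by
    have h : M * M = 1 := by simpa using congrArg Subtype.val hsq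
    have h2 : M + M = 0 := by rw [← two_smul K M, h2K, zero_smul]
    have h1 : (1 : Matrix (Fin 3) (Fin 3) K) + 1 = 0 := by rw [← two_smul K (1 : Matrix (Fin 3) (Fin 3) K), h2K, zero_smul]
    have : (M - 1) * (M - 1) = M * M - (M + M) + 1 := by noncomm_ring
    rw [this, h, h2, sub_zero, h1]
  have hN0 : M - 1 ≠ 0 := fun h => hne (Subtype.ext (by simpa [hM] using sub_eq_zero.1 h))
  have hrank : (M - 1).rank = 1 := by
    have hle : LinearMap.range (M - 1).mulVecLin ≤ LinearMap.ker (M - 1).mulVecLin := by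
      rintro _ ⟨v, rfl⟩
      rw [LinearMap.mem_ker, mulVecLin_apply, mulVecLin_apply, mulVec_mulVec, hN2, zero_mulVec]
    have h3 := LinearMap.finrank_range_add_finrank_ker (M - 1).mulVecLin
    have hle' := Submodule.finrank_mono hle
    rw [Module.finrank_fintype_fun_eq_card, Fintype.card_fin] at h3
    have h0 : (M - 1).rank ≠ 0 := by
      rw [Matrix.rank, ne_eq, Submodule.finrank_eq_zero, LinearMap.range_eq_bot]
      exact fun h => hN0 (Matrix.toLin'.injective (by rw [map_zero]; exact h))
    rw [Matrix.rank] at h0 ⊢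
    omega
  obtain ⟨P, c, hc, hP⟩ := Lib.SLTransv.exists_conj_normal 1 M ⟨hrank, hN2⟩
  rw [hc le_rfl] at hP
  have hP' : g' * P = P * SpecialLinearGroup.transvection (show (1 : Fin 3) ≠ 0 by decide) (1 : K) :=
    Subtype.ext hP
  rw [← hmk, isConj_iff]
  refine ⟨QuotientGroup.mk P, ?_⟩
  rw [← QuotientGroup.mk_inv, ← QuotientGroup.mk_mul, ← QuotientGroup.mk_mul, ← hP',
    mul_inv_cancel_right]

/-- Let F be a field with 2 elements and K a field with 4 elements. PSL_4(F) and PSL_3(K) have the same order (20160) but are not isomorphic. -/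
theorem result {F K : Type*} [Field F] [Fintype F] [Field K] [Fintype K] (hF : Fintype.card F = 2) (hK : Fintype.card K = 4) : Nat.card (Matrix.ProjectiveSpecialLinearGroup (Fin 4) F) = Nat.card (Matrix.ProjectiveSpecialLinearGroup (Fin 3) K) ∧ ¬ Nonempty (Matrix.ProjectiveSpecialLinearGroup (Fin 4) F ≃* Matrix.ProjectiveSpecialLinearGroup (Fin 3) K) := by
  classical
  refine ⟨?_, ?_⟩
  · have h1 := Lib.LinGroup.card_PSL_mul (F := F) 4 (by norm_num)
    have h2 := Lib.LinGroup.card_PSL_mul (F := K) 3 (by norm_num)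
    rw [hF, Fin.prod_univ_four] at h1
    rw [hK, Fin.prod_univ_three] at h2
    norm_num [-Nat.card_eq_fintype_card] at h1 h2
    omega
  · rintro ⟨e⟩
    obtain ⟨e'⟩ := S0256.result hF
    let f : alternatingGroup (Fin 8) ≃* Matrix.ProjectiveSpecialLinearGroup (Fin 3) K := e'.symm.trans e
    let a : alternatingGroup (Fin 8) := ⟨Equiv.swap 0 1 * Equiv.swap 2 3, by
      rw [Equiv.Perm.mem_alternatingGroup]; decide⟩
    let b : alternatingGroup (Fin 8) := ⟨Equiv.swap 0 1 * Equiv.swap 2 3 * Equiv.swap 4 5 * Equiv.swap 6 7, by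
      rw [Equiv.Perm.mem_alternatingGroup]; decide⟩
    have ha : a * a = 1 := Subtype.ext (by decide)
    have hb : b * b = 1 := Subtype.ext (by decide)
    have ha1 : a ≠ 1 := fun h => absurd (congrArg Subtype.val h) (by decide)
    have hb1 : b ≠ 1 := fun h => absurd (congrArg Subtype.val h) (by decide)
    have hfa := involution_normal_form hK (f a) (by rw [← map_mul, ha, map_one]) (fun h => ha1 (f.injective (h.trans f.map_one.symm)))
    have hfb := involution_normal_form hK (f b) (by rw [← map_mul, hb, map_one]) (fun h => hb1 (f.injective (h.trans f.map_one.symm)))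
    have hab : IsConj a b := by
      have h := f.symm.toMonoidHom.map_isConj (hfa.symm.trans hfb)
      simpa using h
    obtain ⟨c, hc⟩ := isConj_iff.1 hab
    have hc' : (c : Equiv.Perm (Fin 8)) * a * (c : Equiv.Perm (Fin 8))⁻¹ = b := by
      simpa using congrArg Subtype.val hc
    have hs := congrArg (fun σ : Equiv.Perm (Fin 8) => σ.support.card) hc'
    simp only [Equiv.Perm.card_support_conj] at hs
    revert hs
    decide

end Cfsg.Agent.S2550
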