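import Cfsg.Statements.S2551
import Mathlib
import Cfsg.Agent.Lib.ASevenGL.Basic

set_option autoImplicit false
open Cfsg

namespace Cfsg.Agent.S2551

/-- Let F be the field with 2 elements. GL_4(F) (≅ A_8) has a subgroup isomorphic to the alternating group A_7, and every such subgroup acts 2-transitively on the 15 non-zero vectors of F⁴: any ordered pair of distinct non-zero vectors is carried to any other by some element of the subgroup. -/
theorem result {F : Type*} [Field F] [Fintype F] (hF : Fintype.card F = 2) : (∃ H : Subgroup (Matrix.GeneralLinearGroup (Fin 4) F), Nonempty (H ≃* alternatingGroup (Fin 7))) ∧ ∀ H : Subgroup (Matrix.GeneralLinearGroup (Fin 4) F), Nonempty (H ≃* alternatingGroup (Fin 7)) → ∀ v w v' w' : Fin 4 → F, v ≠ 0 → w ≠ 0 → v ≠ w → v' ≠ 0 → w' ≠ 0 → v' ≠ w' → ∃ g ∈ H, (g : Matrix (Fin 4) (Fin 4) F).mulVec v = v' ∧ (g : Matrix (Fin 4) (Fin 4) F).mulVec w = w' := by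
  classical
  let f : ZMod 2 ≃+* F := ZMod.ringEquivOfPrime F Nat.prime_two hF
  let Ψ : Matrix.GeneralLinearGroup (Fin 4) F →* Matrix.SpecialLinearGroup (Fin 4) (ZMod 2) :=
    { toFun := fun g => ⟨(g : Matrix (Fin 4) (Fin 4) F).map f.symm, by
        have h : ((g : Matrix (Fin 4) (Fin 4) F).map f.symm).det ≠ 0 := by
          rw [show (g : Matrix (Fin 4) (Fin 4) F).map f.symm = f.symm.toRingHom.mapMatrix g.1 from rfl,
            ← RingHom.map_det]
          exact (map_ne_zero f.symm.toRingHom).2 ((Matrix.isUnit_iff_isUnit_det _).1 g.isUnit).ne_zero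
        exact (by decide : ∀ x : ZMod 2, x ≠ 0 → x = 1) _ h⟩
      map_one' := Subtype.ext (by simp)
      map_mul' := fun g h => Subtype.ext (by simp [Matrix.map_mul]; rfl) }
  have hinj : Function.Injective Ψ := fun g h hgh =>
    Units.ext (Matrix.map_injective f.symm.injective (congrArg Subtype.val hgh))
  have hsurj : Function.Surjective Ψ := fun M => by
    refine ⟨Matrix.GeneralLinearGroup.mkOfDetNeZero ((M : Matrix (Fin 4) (Fin 4) (ZMod 2)).map f) ?_, ?_⟩
    · rw [show (M : Matrix (Fin 4) (Fin 4) (ZMod 2)).map f = f.toRingHom.mapMatrix M.1 from rfl, ← RingHom.map_det,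
        M.2, map_one]
      exact one_ne_zero
    · apply Subtype.ext
      show ((M : Matrix (Fin 4) (Fin 4) (ZMod 2)).map f).map f.symm = M.1
      ext i j
      simp
  let E : Matrix.GeneralLinearGroup (Fin 4) F ≃* alternatingGroup (Fin 8) :=
    ((MulEquiv.ofBijective Ψ ⟨hinj, hsurj⟩).trans (MonoidHom.ofInjective S0256.toPerm_injective)).trans
      (MulEquiv.subgroupCongr Lib.ASevenGL.range_toPerm)
  refine ⟨?_, ?_⟩
  · let e7 : Fin 7 ≃ {i : Fin 8 // i.val < 7} :=
      ⟨fun i => ⟨⟨i.val, by omega⟩, i.isLt⟩, fun i => ⟨i.1.val, i.2⟩, fun i => rfl, fun i => rfl⟩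
    let ι : alternatingGroup (Fin 7) →* alternatingGroup (Fin 8) :=
      ((Equiv.Perm.extendDomainHom e7).comp (alternatingGroup (Fin 7)).subtype).codRestrict _
        (fun x => by
          rw [Equiv.Perm.mem_alternatingGroup, MonoidHom.comp_apply, Equiv.Perm.extendDomainHom_apply,
            Equiv.Perm.sign_extendDomain]
          exact Equiv.Perm.mem_alternatingGroup.1 x.2)
    have hι : Function.Injective ι := fun x y h =>
      Subtype.ext (Equiv.Perm.extendDomainHom_injective e7 (congrArg Subtype.val h))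
    exact ⟨ι.range.map E.symm.toMonoidHom,
      ⟨(Subgroup.equivMapOfInjective _ _ E.symm.injective).symm.trans (MonoidHom.ofInjective hι).symm⟩⟩
  · rintro H ⟨e⟩ v w v' w' hv hw hvw hv' hw' hvw'
    have hcard : Nat.card (H.map E.toMonoidHom) = 2520 := by
      rw [Subgroup.card_map_of_injective E.injective, Nat.card_congr e.toEquiv, nat_card_alternatingGroup,
        Nat.card_fin]
      norm_num [Nat.factorial]
    obtain ⟨k, hk⟩ := Lib.ASevenGL.eq_stabilizer hcard
    -- move the last letter to `k`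
    obtain ⟨c, hc⟩ : ∃ c : Matrix.SpecialLinearGroup (Fin 4) (ZMod 2), S0256.toPerm c 7 = k := by
      obtain ⟨σ, hσ, hσk⟩ : ∃ σ ∈ alternatingGroup (Fin 8), σ 7 = k := by
        by_cases h : k = 7
        · exact ⟨1, one_mem _, h.symm⟩
        · obtain ⟨a, b, ha, hb, hab⟩ : ∃ a b : Fin 8, a ∉ ({k, 7} : Finset (Fin 8)) ∧ b ∉ ({k, 7} : Finset (Fin 8)) ∧ a ≠ b := by
            exact (by decide : ∀ i : Fin 8, ∃ a b : Fin 8, a ∉ ({i, 7} : Finset (Fin 8)) ∧ b ∉ ({i, 7} : Finset (Fin 8)) ∧ a ≠ b) k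
          simp only [Finset.mem_insert, Finset.mem_singleton, not_or] at ha hb
          refine ⟨Equiv.swap a b * Equiv.swap 7 k, ?_, ?_⟩
          · rw [Equiv.Perm.mem_alternatingGroup, map_mul, Equiv.Perm.sign_swap hab, Equiv.Perm.sign_swap (Ne.symm h)]
            decide
          · rw [Equiv.Perm.mul_apply, Equiv.swap_apply_left, Equiv.swap_apply_of_ne_of_ne (Ne.symm ha.1) (Ne.symm hb.1)]
      rw [← Lib.ASevenGL.range_toPerm] at hσ
      obtain ⟨c, rfl⟩ := hσ
      exact ⟨c, hσk⟩
    let u : (Fin 4 → F) → (Fin 4 → ZMod 2) := fun x i => f.symm (x i)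
    have hu : Function.Injective u := fun x y h => funext fun i => f.symm.injective (congrFun h i)
    have hu0 : ∀ x, x ≠ 0 → u x ≠ 0 := fun x hx h => hx (hu (h.trans (by funext i; simp [u])))
    let T : (Fin 4 → F) → (Fin 4 → ZMod 2) := fun x => (c⁻¹).1.mulVec (u x)
    have hTi : Function.Injective T := fun x y h => hu (by
      have h' := congrArg (c.1.mulVec) h
      simpa [T, Matrix.mulVec_mulVec, Matrix.mul_adjugate, c.2] using h')
    have hT0 : ∀ x, x ≠ 0 → T x ≠ 0 := fun x hx h => hx (hTi (h.trans (by simp [T, u]; rfl)))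
    obtain ⟨g1, h17, h1v, h1w⟩ := Lib.ASevenGL.exists_move (T v) (T w) (hT0 v hv) (hT0 w hw) (hTi.ne hvw)
    obtain ⟨g2, h27, h2v, h2w⟩ := Lib.ASevenGL.exists_move (T v') (T w') (hT0 v' hv') (hT0 w' hw') (hTi.ne hvw')
    obtain ⟨g, hg⟩ := hsurj (c * (g2 * g1⁻¹) * c⁻¹)
    refine ⟨g, ?_, ?_⟩
    · have hm : E g ∈ H.map E.toMonoidHom := by
        rw [hk]
        show S0256.toPerm (Ψ g) k = k
        rw [hg, ← hc]
        have h1i : S0256.toPerm g1⁻¹ 7 = 7 := by
          rw [map_inv, Equiv.Perm.inv_eq_iff_eq, h17]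
        rw [map_mul, map_mul, map_mul, map_inv S0256.toPerm c]
        simp only [Equiv.Perm.mul_apply, Equiv.Perm.coe_inv, Equiv.symm_apply_apply, h1i, h27]
      obtain ⟨g', hg', he⟩ := hm
      rwa [E.injective he] at hg'
    · have key : ∀ x y : Fin 4 → F, ∀ z, g1.1.mulVec z = T x → g2.1.mulVec z = T y →
          (g : Matrix (Fin 4) (Fin 4) F).mulVec x = y := by
        intro x y z h1 h2
        apply hu
        have e1 : u ((g : Matrix (Fin 4) (Fin 4) F).mulVec x) = (Ψ g).1.mulVec (u x) := by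
          funext i
          exact RingHom.map_mulVec f.symm.toRingHom (g : Matrix (Fin 4) (Fin 4) F) x i
        have e2 : (g1⁻¹).1.mulVec (T x) = z := by
          rw [← h1, Matrix.mulVec_mulVec, ← Matrix.SpecialLinearGroup.coe_mul, inv_mul_cancel,
            Matrix.SpecialLinearGroup.coe_one, Matrix.one_mulVec]
        rw [e1, hg]
        simp only [Matrix.SpecialLinearGroup.coe_mul, ← Matrix.mulVec_mulVec]
        show c.1.mulVec (g2.1.mulVec ((g1⁻¹).1.mulVec (T x))) = u y
        rw [e2, h2]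
        simp [T, Matrix.mulVec_mulVec, Matrix.mul_adjugate, c.2]
      exact ⟨key v v' _ h1v h2v, key w w' _ h1w h2w⟩

end Cfsg.Agent.S2551
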