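import Cfsg.Statements.S2552
import Mathlib

set_option autoImplicit false
open Cfsg

namespace Cfsg.Agent.S2552

theorem exists_equiv_det_one {K V : Type*} [Field K] [AddCommGroup V] [Module K V] [Module.Finite K V]
    [Nontrivial V] (U₁ U₂ : Submodule K V) (h : Module.finrank K U₁ = Module.finrank K U₂) :
    ∃ e : V →ₗ[K] V, e.det = 1 ∧ U₁.map e = U₂ := by
  obtain ⟨C₁, hC₁⟩ := Submodule.exists_isCompl U₁
  obtain ⟨C₂, hC₂⟩ := Submodule.exists_isCompl U₂
  have hC : Module.finrank K C₁ = Module.finrank K C₂ := by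
    have a := Submodule.finrank_add_eq_of_isCompl hC₁
    have b := Submodule.finrank_add_eq_of_isCompl hC₂
    omega
  let e : V ≃ₗ[K] V := (Submodule.prodEquivOfIsCompl U₁ C₁ hC₁).symm ≪≫ₗ
    ((LinearEquiv.ofFinrankEq U₁ U₂ h).prodCongr (LinearEquiv.ofFinrankEq C₁ C₂ hC)) ≪≫ₗ
    Submodule.prodEquivOfIsCompl U₂ C₂ hC₂
  have heU : ∀ x : U₁, e x.1 ∈ U₂ := by
    intro x
    simp [e, Submodule.prodEquivOfIsCompl_symm_apply_left]
  set d := (e : V →ₗ[K] V).det with hd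
  have hd0 : d ≠ 0 := (LinearEquiv.isUnit_det' e).ne_zero
  -- a dilatation preserving `U₂` of determinant `d⁻¹`
  obtain ⟨v, hv0, hv⟩ : ∃ v : V, v ≠ 0 ∧ (U₂ = ⊥ ∨ v ∈ U₂) := by
    by_cases hU : U₂ = ⊥
    · obtain ⟨v, hv⟩ := exists_ne (0 : V)
      exact ⟨v, hv, Or.inl hU⟩
    · obtain ⟨v, hv, hv0⟩ := Submodule.exists_mem_ne_zero_of_ne_bot hU
      exact ⟨v, hv0, Or.inr hv⟩
  obtain ⟨φ, hφ⟩ : ∃ φ : Module.Dual K V, φ v = 1 :=
    Module.Projective.exists_dual_eq_one K hv0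
  let T : V →ₗ[K] V := LinearMap.transvection φ ((d⁻¹ - 1) • v)
  have hT : T.det = d⁻¹ := by
    simp [T, LinearMap.transvection.det, hφ]
  refine ⟨T ∘ₗ (e : V →ₗ[K] V), ?_, ?_⟩
  · rw [LinearMap.det_comp, hT, ← hd, inv_mul_cancel₀ hd0]
  · have hle : U₁.map (T ∘ₗ (e : V →ₗ[K] V)) ≤ U₂ := by
      rintro _ ⟨x, hx, rfl⟩
      have h1 := heU ⟨x, hx⟩
      show e x + φ (e x) • ((d⁻¹ - 1) • v) ∈ U₂
      rcases hv with hU | hvU
      · rw [hU, Submodule.mem_bot] at h1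
        simp [h1]
      · exact U₂.add_mem h1 (U₂.smul_mem _ (U₂.smul_mem _ hvU))
    refine Submodule.eq_of_le_of_finrank_le hle ?_
    have hinj : Function.Injective (T ∘ₗ (e : V →ₗ[K] V)) := by
      have : (T ∘ₗ (e : V →ₗ[K] V)).det ≠ 0 := by
        rw [LinearMap.det_comp, hT, ← hd, inv_mul_cancel₀ hd0]; exact one_ne_zero
      exact ((LinearMap.isUnit_iff_isUnit_det _).2 this.isUnit |> (Module.End.isUnit_iff _).1).1
    exact le_of_eq (h.symm.trans (LinearEquiv.finrank_eq (Submodule.equivMapOfInjective _ hinj U₁)))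

/-- Let F be a finite field and n ≥ 1. For every k, the special linear group SL_n(F) acts transitively on the set of k-dimensional subspaces of F^n: any two subspaces of the same dimension are carried onto each other by some matrix of determinant 1. -/
theorem result {F : Type*} [Field F] [Fintype F] (n : ℕ) (hn : 1 ≤ n) (U₁ U₂ : Submodule F (Fin n → F)) (h : Module.finrank F U₁ = Module.finrank F U₂) : ∃ g : Matrix.SpecialLinearGroup (Fin n) F, U₁.map ((Matrix.SpecialLinearGroup.toLin' g : (Fin n → F) ≃ₗ[F] (Fin n → F)) : (Fin n → F) →ₗ[F] (Fin n → F)) = U₂ := by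
  haveI : Nonempty (Fin n) := ⟨⟨0, hn⟩⟩
  obtain ⟨e, hdet, hmap⟩ := exists_equiv_det_one U₁ U₂ h
  refine ⟨⟨LinearMap.toMatrix' e, by rw [LinearMap.det_toMatrix', hdet]⟩, ?_⟩
  rw [← hmap]
  congr 1
  exact Matrix.toLin'_toMatrix' e

end Cfsg.Agent.S2552
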