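import Cfsg.Statements.S2556
import Cfsg.Agent.Lib.SuzukiTwo.Weight
import Cfsg.Agent.Lib.SuzukiSp4.Iso
import Cfsg.Agent.Lib.Suzuki.Simple

set_option autoImplicit false
open Cfsg

namespace Cfsg.Agent.S2556

open Cfsg.Agent.Lib
open Cfsg.Agent.Lib.Suzuki (Hyp theta)

section field

variable {F : Type*} [Field F] [Fintype F] {m : ℕ} (h : Hyp F m)

/-- The Tits endomorphism as an automorphism. -/
noncomputable def thetaAut : RingAut F :=
  RingEquiv.ofBijective
    ({ toFun := theta m, map_one' := Suzuki.theta_one, map_mul' := Suzuki.theta_mul,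
       map_zero' := Suzuki.theta_zero, map_add' := h.theta_add } : F →+* F)
    ⟨h.theta_injective, h.theta_surjective⟩

theorem thetaAut_apply (x : F) : thetaAut h x = theta m x := rfl

theorem theta_comm (σ : F ≃+* F) (x : F) : σ (theta m x) = theta m (σ x) := map_pow σ x _

include h in
theorem exists_sq_ne : ∃ x : F, x ^ 4 ≠ x := by
  classical
  by_contra hx
  push Not at hx
  have hsub : (Finset.univ : Finset F) ⊆
      (Polynomial.X ^ 4 - Polynomial.X : Polynomial F).roots.toFinset := by
    intro x _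
    rw [Multiset.mem_toFinset, Polynomial.mem_roots (FiniteField.X_pow_card_sub_X_ne_zero F (by norm_num : 1 < 4))]
    simp [hx x]
  have h1 := (Finset.card_le_card hsub).trans (Multiset.toFinset_card_le _)
  have h2 := Polynomial.card_roots' (Polynomial.X ^ 4 - Polynomial.X : Polynomial F)
  rw [FiniteField.X_pow_card_sub_X_natDegree_eq F (by norm_num : 1 < 4)] at h2
  rw [Finset.card_univ, h.hF] at h1
  have : 2 ^ 3 ≤ 2 ^ (2 * m + 1) := Nat.pow_le_pow_right (by norm_num) (by have := h.hm; omega)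
  omega

include h in
theorem theta_four : ∀ x : F, theta m (theta m (theta m (theta m x))) = x ^ 4 := fun x => by
  rw [h.theta_theta (theta m (theta m x)), h.theta_theta, ← pow_mul]

include h in
/-- An additive map commuting with the quadratic map of the Suzuki 2-group is semilinear. -/
theorem monomial (L M : F →+ F) (hne : L ≠ 0)
    (hsq : ∀ a, theta m (L a) * L a = M (theta m a * a)) :
    ∃ (σ : F ≃+* F) (l : F), l ≠ 0 ∧ ∀ a, L a = l * σ a := by
  classical
  haveI := h.charP
  haveI := Fact.mk Nat.prime_two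
  haveI : Finite (F ≃+* F) := Finite.of_injective _ DFunLike.coe_injective
  haveI : Fintype (F ≃+* F) := Fintype.ofFinite _
  obtain ⟨l, hl⟩ := FieldAut.exists_coeff 2 L
  obtain ⟨r, hr⟩ := FieldAut.exists_coeff 2 M
  set Θ : RingAut F := thetaAut h with hΘ
  let A : (F ≃+* F) × (F ≃+* F) → F := fun q => theta m (l (Θ⁻¹ * q.1 : RingAut F)) * l q.2
  let R : (F ≃+* F) × (F ≃+* F) → F := fun q => if q.1 = (Θ * q.2 : RingAut F) then r q.2 else 0
  have hA : ∀ a c, ∑ q, A q * (q.1 a * q.2 c) = theta m (L a) * L c := by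
    intro a c
    rw [hl, hl, show theta m (∑ σ, l σ * σ a) = ∑ σ, theta m (l σ * σ a) from
      map_sum (thetaAut h) _ _, Finset.sum_mul_sum, Fintype.sum_prod_type]
    refine (Fintype.sum_equiv (Equiv.mulLeft (Θ : RingAut F)) _ _ fun σ => ?_).symm
    refine Finset.sum_congr rfl fun τ _ => ?_
    show _ = theta m (l (Θ⁻¹ * (Θ * σ) : RingAut F)) * l τ * ((Θ * σ : RingAut F) a * τ c)
    rw [inv_mul_cancel_left, Suzuki.theta_mul, RingAut.mul_apply, hΘ, thetaAut_apply]
    ring
  have hR : ∀ a c, ∑ q, R q * (q.1 a * q.2 c) = M (theta m a * c) := by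
    intro a c
    rw [hr, Fintype.sum_prod_type, Finset.sum_comm]
    refine Finset.sum_congr rfl fun v _ => ?_
    rw [Finset.sum_eq_single (Θ * v : RingAut F) (fun u _ hu => by simp [R, hu])
      (fun hu => absurd (Finset.mem_univ _) hu)]
    simp only [R, if_true]
    rw [map_mul, RingAut.mul_apply, hΘ, thetaAut_apply, theta_comm]
  let D : (F ≃+* F) × (F ≃+* F) → F := fun q => A q + R q
  have hD : ∀ a c, ∑ q, D q * (q.1 a * q.2 c) = theta m (L a) * L c + M (theta m a * c) := by
    intro a c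
    simp only [D, add_mul, Finset.sum_add_distrib, hA, hR]
  have hswap : ∀ q, D q = D q.swap := by
    intro q
    have hz := congrFun (SuzukiTwo.coeff₂_eq_zero (c := fun q => D q + D q.swap) ?_) q
    · exact CharTwo.add_eq_zero.mp hz
    intro a c
    simp only [add_mul, Finset.sum_add_distrib]
    rw [hD, Fintype.sum_equiv (Equiv.prodComm _ _)
      (fun q : (F ≃+* F) × (F ≃+* F) => D q.swap * (q.1 a * q.2 c))
      (fun q => D q * (q.1 c * q.2 a))
      (fun q => by rw [Equiv.prodComm_apply, Prod.fst_swap, Prod.snd_swap]; ring), hD]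
    have e := hsq (a + c)
    rw [map_add L, h.theta_add, h.theta_add,
      show (theta m a + theta m c) * (a + c) =
        theta m a * a + theta m c * c + (theta m a * c + theta m c * a) by ring,
      map_add M, map_add M, map_add M, ← hsq, ← hsq] at e
    linear_combination e + (M (theta m a * c) + M (theta m c * a)) * h.two
  have hdiag : ∀ u, D (u, u) = 0 := by
    choose e he using fun u => (frobeniusEquiv F 2).surjective (D (u, u))
    simp only [frobeniusEquiv_apply, frobenius_def] at he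
    have he0 : ∀ u, e u = 0 := by
      refine Fintype.linearIndependent_iff.mp (FieldAut.linearIndependent_aut (F := F)) e ?_
      funext a
      simp only [Finset.sum_apply, Pi.smul_apply, smul_eq_mul, Pi.zero_apply, RingHom.coe_coe]
      refine (pow_eq_zero_iff two_ne_zero).mp ?_
      have hoff : ∑ q ∈ Finset.univ.filter (fun q : (F ≃+* F) × (F ≃+* F) => ¬ q.1 = q.2),
          D q * (q.1 a * q.2 a) = 0 := by
        refine Finset.sum_involution (fun q _ => q.swap) (fun q _ => ?_) (fun q hq _ => ?_)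
          (fun q hq => ?_) (fun q _ => Prod.swap_swap q)
        · rw [← hswap, Prod.fst_swap, Prod.snd_swap, mul_comm (q.2 a)]
          exact h.add_self _
        · intro hs
          exact (Finset.mem_filter.mp hq).2 (congrArg Prod.snd hs)
        · simpa [eq_comm] using hq
      have htot := hD a a
      rw [← hsq, h.add_self, ← Finset.sum_filter_add_sum_filter_not Finset.univ
        (fun q : (F ≃+* F) × (F ≃+* F) => q.1 = q.2), hoff, add_zero] at htot
      rw [sum_pow_char 2]
      rw [← htot]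
      refine Finset.sum_nbij (fun u => (u, u)) (fun u _ => by simp) (fun u _ v _ e => congrArg Prod.fst e)
        (fun q hq => ⟨q.1, by simp, Prod.ext rfl (by simpa using hq)⟩) (fun u _ => ?_)
      rw [← he u]
      ring
    intro u
    rw [← he u, he0 u]
    ring
  have hΘ1 : Θ ≠ 1 := fun e => by
    obtain ⟨x, hx⟩ := exists_sq_ne h
    refine hx ?_
    rw [← theta_four h]
    simp only [← thetaAut_apply h, ← hΘ, e, RingAut.one_apply]
  -- two coefficients cannot be adjacent
  have hadj : ∀ σ : RingAut F, l σ ≠ 0 → l (Θ * σ : RingAut F) = 0 := by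
    intro σ hσ
    have := hdiag (Θ * σ : RingAut F)
    simp only [D, A, R] at this
    rw [if_neg (fun e => hΘ1 (mul_eq_right.mp e.symm)), add_zero, inv_mul_cancel_left] at this
    exact (mul_eq_zero.mp this).resolve_left (Suzuki.theta_ne_zero hσ)
  have hpair : ∀ σ τ : RingAut F, l σ ≠ 0 → l τ ≠ 0 → σ ≠ τ → τ = Θ * (Θ * σ) := by
    intro σ τ hσ hτ hne
    by_contra hcon
    have := hswap ((Θ * σ : RingAut F), τ)
    simp only [D, A, R, Prod.swap, inv_mul_cancel_left, hadj σ hσ, mul_zero, zero_add] at this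
    rw [if_neg (fun e => hne (mul_left_cancel e)), add_zero, if_neg hcon] at this
    exact mul_ne_zero (Suzuki.theta_ne_zero hσ) hτ this
  obtain ⟨σ, hσ⟩ : ∃ σ, l σ ≠ 0 := by
    by_contra hh
    push Not at hh
    exact hne (AddMonoidHom.ext fun a => by simp [hl, hh])
  refine ⟨σ, l σ, hσ, fun a => ?_⟩
  rw [hl]
  refine Fintype.sum_eq_single σ fun τ hne' => ?_
  by_contra hz
  have hτ : l τ ≠ 0 := fun e => hz (by rw [e, zero_mul])
  have h1 := hpair σ τ hσ hτ (Ne.symm hne')
  have h2 := hpair τ σ hτ hσ hne'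
  obtain ⟨x, hx⟩ := exists_sq_ne h
  refine hx ?_
  obtain ⟨y, rfl⟩ := (σ : F ≃+* F).surjective x
  rw [← theta_four h]
  conv_rhs => rw [h2, h1]
  simp only [RingAut.mul_apply, hΘ, thetaAut_apply]

include h in
theorem card_addEnd : Nat.card (F →+ F) = 2 ^ ((2 * m + 1) ^ 2) := by
  haveI := h.charP
  haveI := Fact.mk Nat.prime_two
  letI : Algebra (ZMod 2) F := ZMod.algebra F 2
  have hfr : Module.finrank (ZMod 2) F = 2 * m + 1 := by
    refine Nat.pow_right_injective (le_refl 2) ?_
    show 2 ^ _ = 2 ^ _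
    rw [← h.hF, Module.card_eq_pow_finrank (K := ZMod 2) (V := F), ZMod.card]
  rw [Nat.card_congr (⟨AddMonoidHom.toZModLinearMap 2, fun f => f.toAddMonoidHom,
      fun f => AddMonoidHom.ext fun _ => rfl, fun f => LinearMap.ext fun _ => rfl⟩ :
      (F →+ F) ≃ (F →ₗ[ZMod 2] F)),
    Module.natCard_eq_pow_finrank (K := ZMod 2) (V := F →ₗ[ZMod 2] F), Module.finrank_linearMap,
    Nat.card_zmod, hfr, sq]

include h in
theorem card_fieldAut : Nat.card (F ≃+* F) = 2 * m + 1 := by
  haveI := h.charP
  haveI := Fact.mk Nat.prime_two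
  letI : Algebra (ZMod 2) F := ZMod.algebra F 2
  rw [FieldAut.card_aut 2]
  refine Nat.pow_right_injective (le_refl 2) ?_
  show 2 ^ _ = 2 ^ _
  rw [← h.hF, Module.card_eq_pow_finrank (K := ZMod 2) (V := F), ZMod.card]

include h in
theorem q_bijective : Function.Bijective (fun a : F => theta m a * a) := by
  refine Finite.injective_iff_bijective.mp fun a c e => ?_
  change theta m a * a = theta m c * c at e
  rcases eq_or_ne a 0 with rfl | ha
  · rw [Suzuki.theta_zero, zero_mul, eq_comm, mul_eq_zero, Suzuki.theta_eq_zero, or_self] at e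
    exact e.symm
  rcases eq_or_ne c 0 with rfl | hc
  · rw [Suzuki.theta_zero, zero_mul, mul_eq_zero, Suzuki.theta_eq_zero, or_self] at e
    exact e
  have h1 : theta m (a / c) * (a / c) = 1 := by
    rw [div_eq_mul_inv, Suzuki.theta_mul, Suzuki.theta_inv]
    have := Suzuki.theta_ne_zero (m := m) hc
    field_simp
    linear_combination e
  -- apply theta: theta y = y⁻¹, hence y ^ 2 = y
  have h2 : theta m (a / c) = (a / c)⁻¹ := eq_inv_of_mul_eq_one_left h1
  have h3 : (a / c) ^ 2 = a / c := by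
    rw [← h.theta_theta (a / c)]
    conv_lhs => rw [h2, Suzuki.theta_inv, h2, inv_inv]
  have h4 : a / c = 1 := mul_left_cancel₀ (div_ne_zero ha hc) (by rw [mul_one, ← sq, h3])
  exact (div_eq_one_iff_eq hc).mp h4

end field

section aut

variable {F : Type*} [Field F] [Fintype F] {m : ℕ} {S : Type*} [Group S] [Finite S]

/-- Coordinates of a Suzuki 2-group. -/
structure Coord (F : Type*) [Field F] [Fintype F] (m : ℕ) (S : Type*) [Group S] where
  hyp : Hyp F m
  el : F × F ≃ S
  el_mul : ∀ a b c d, el (a, b) * el (c, d) = el (a + c, b + d + theta m a * c)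

variable (C : Coord F m S)

theorem el_one : C.el (0, 0) = 1 := by
  have e : C.el (0, 0) * C.el (0, 0) = C.el (0, 0) * 1 := by
    rw [C.el_mul, mul_one]
    simp
  exact mul_left_cancel e

theorem el_sq (a b : F) : C.el (a, b) * C.el (a, b) = C.el (0, theta m a * a) := by
  rw [C.el_mul, C.hyp.add_self, C.hyp.add_self, zero_add]

theorem el_split (a b : F) : C.el (a, b) = C.el (a, 0) * C.el (0, b) := by
  rw [C.el_mul, add_zero, zero_add, mul_zero, add_zero]

theorem map_el_zero (α : MulAut S) (a : F) :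
    α (C.el (0, theta m a * a)) =
      C.el (0, theta m (C.el.symm (α (C.el (a, 0)))).1 * (C.el.symm (α (C.el (a, 0)))).1) := by
  rw [← el_sq C a 0, map_mul]
  conv_rhs => rw [← el_sq C _ (C.el.symm (α (C.el (a, 0)))).2, Prod.mk.eta, Equiv.apply_symm_apply]

/-- Every automorphism is triangular. -/
theorem triangular (α : MulAut S) : ∃ (L M : F →+ F) (ψ : F → F),
    (∀ a b, α (C.el (a, b)) = C.el (L a, ψ a + M b)) ∧
      (∀ a, theta m (L a) * L a = M (theta m a * a)) ∧
        ∀ a c, ψ (a + c) + M (theta m a * c) = ψ a + ψ c + theta m (L a) * L c := by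
  obtain ⟨L, hL⟩ : ∃ L : F → F, ∀ a, L a = (C.el.symm (α (C.el (a, 0)))).1 := ⟨_, fun a => rfl⟩
  obtain ⟨ψ, hψ⟩ : ∃ ψ : F → F, ∀ a, ψ a = (C.el.symm (α (C.el (a, 0)))).2 := ⟨_, fun a => rfl⟩
  obtain ⟨M, hM⟩ : ∃ M : F → F, ∀ b, M b = (C.el.symm (α (C.el (0, b)))).2 := ⟨_, fun a => rfl⟩
  have hcenter : ∀ b, α (C.el (0, b)) = C.el (0, M b) := by
    intro b
    obtain ⟨a, rfl⟩ := (q_bijective C.hyp).2 b
    rw [hM, map_el_zero C α a, Equiv.symm_apply_apply]
  have h0 : ∀ a, α (C.el (a, 0)) = C.el (L a, ψ a) := fun a => by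
    rw [hL, hψ, Prod.mk.eta, Equiv.apply_symm_apply]
  have hα : ∀ a b, α (C.el (a, b)) = C.el (L a, ψ a + M b) := fun a b => by
    rw [el_split C a b, map_mul, h0, hcenter, C.el_mul, add_zero, mul_zero, add_zero]
  have hMadd : ∀ x y, M (x + y) = M x + M y := by
    intro x y
    have e : α (C.el (0, x) * C.el (0, y)) = α (C.el (0, x)) * α (C.el (0, y)) := map_mul α _ _
    rw [C.el_mul, hcenter, hcenter, C.el_mul, Suzuki.theta_zero, zero_mul, add_zero, add_zero,
      add_zero, hcenter] at e
    exact (Prod.ext_iff.mp (C.el.injective e)).2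
  have hcomp : ∀ a c, L (a + c) = L a + L c ∧
      ψ (a + c) + M (theta m a * c) = ψ a + ψ c + theta m (L a) * L c := by
    intro a c
    have e : α (C.el (a, 0) * C.el (c, 0)) = α (C.el (a, 0)) * α (C.el (c, 0)) := map_mul α _ _
    rw [C.el_mul, h0, h0, C.el_mul, add_zero, zero_add, hα] at e
    exact Prod.ext_iff.mp (C.el.injective e)
  refine ⟨AddMonoidHom.mk' L fun a c => (hcomp a c).1, AddMonoidHom.mk' M hMadd, ψ, hα,
    fun a => ?_, fun a c => (hcomp a c).2⟩
  show theta m (L a) * L a = M (theta m a * a)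
  rw [hM, map_el_zero C α a, Equiv.symm_apply_apply, hL]

/-- The semilinear automorphisms. -/
noncomputable def semi (σ : F ≃+* F) (u : Fˣ) : MulAut S where
  toEquiv := C.el.symm.trans
    (((σ.toEquiv.trans (Equiv.mulLeft₀ (u : F) u.ne_zero)).prodCongr
      (σ.toEquiv.trans (Equiv.mulLeft₀ (theta m (u : F) * u)
        (mul_ne_zero (Suzuki.theta_ne_zero u.ne_zero) u.ne_zero)))).trans C.el)
  map_mul' := by
    intro x y
    obtain ⟨⟨a, b⟩, rfl⟩ := C.el.surjective x
    obtain ⟨⟨c, d⟩, rfl⟩ := C.el.surjective y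
    simp only [Equiv.toFun_as_coe, Equiv.trans_apply, C.el_mul, Equiv.symm_apply_apply,
      Equiv.prodCongr_apply, Prod.map_apply, Equiv.mulLeft₀, Units.mulLeft_apply, Units.val_mk0, RingEquiv.toEquiv_eq_coe, EquivLike.coe_coe, RingEquiv.coe_toEquiv]
    rw [map_add, map_add, map_add, map_mul, theta_comm, Suzuki.theta_mul]
    congr 1
    refine Prod.ext ?_ ?_ <;> (simp only; ring)

theorem semi_apply (σ : F ≃+* F) (u : Fˣ) (a b : F) :
    semi C σ u (C.el (a, b)) = C.el ((u : F) * σ a, theta m (u : F) * u * σ b) := by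
  simp [semi]

/-- The shift of the second coordinate. -/
def shift (ψ : F →+ F) : F × F ≃ F × F where
  toFun p := (p.1, p.2 + ψ p.1)
  invFun p := (p.1, p.2 - ψ p.1)
  left_inv p := Prod.ext rfl (by simp)
  right_inv p := Prod.ext rfl (by simp)

/-- The automorphisms trivial modulo the centre. -/
noncomputable def central : Multiplicative (F →+ F) →* MulAut S :=
  MonoidHom.mk'
    (fun ψ =>
      { toEquiv := C.el.symm.trans ((shift ψ.toAdd).trans C.el)
        map_mul' := fun x y => by
          obtain ⟨⟨a, b⟩, rfl⟩ := C.el.surjective x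
          obtain ⟨⟨c, d⟩, rfl⟩ := C.el.surjective y
          simp only [Equiv.toFun_as_coe, Equiv.trans_apply, C.el_mul, Equiv.symm_apply_apply,
            shift, Equiv.coe_fn_mk, map_add]
          congr 1
          refine Prod.ext rfl ?_
          simp only
          ring })
    (fun ψ φ => MulEquiv.ext fun x => by
      obtain ⟨⟨a, b⟩, rfl⟩ := C.el.surjective x
      simp only [MulAut.mul_apply, MulEquiv.coe_mk, Equiv.trans_apply, Equiv.symm_apply_apply, shift,
        Equiv.coe_fn_mk, toAdd_mul, AddMonoidHom.add_apply]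
      congr 1
      exact Prod.ext rfl (by simp only; ring))

theorem central_apply (ψ : Multiplicative (F →+ F)) (a b : F) :
    central C ψ (C.el (a, b)) = C.el (a, b + ψ.toAdd a) := by
  simp [central, shift]

theorem central_injective : Function.Injective (central C) := by
  intro ψ φ e
  refine Multiplicative.toAdd.injective (AddMonoidHom.ext fun a => ?_)
  have := DFunLike.congr_fun e (C.el (a, 0))
  rw [central_apply, central_apply, zero_add, zero_add] at this
  exact (Prod.ext_iff.mp (C.el.injective this)).2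

theorem mem_range_iff (α : MulAut S) : α ∈ (central C).range ↔
    ∀ x, (C.el.symm (α x)).1 = (C.el.symm x).1 := by
  constructor
  · rintro ⟨ψ, rfl⟩ x
    obtain ⟨⟨a, b⟩, rfl⟩ := C.el.surjective x
    simp [central_apply]
  · intro hx
    obtain ⟨L, M, ψ, hα, hsq, hψ⟩ := triangular C α
    have hL : ∀ a, L a = a := fun a => by
      have := hx (C.el (a, 0))
      simpa [hα] using this
    have hM : ∀ b, M b = b := fun b => by
      obtain ⟨a, rfl⟩ := (q_bijective C.hyp).2 b
      rw [← hsq, hL]
    have hadd : ∀ a c, ψ (a + c) = ψ a + ψ c := fun a c => by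
      have := hψ a c
      rw [hM, hL, hL] at this
      exact add_right_cancel this
    refine ⟨Multiplicative.ofAdd (AddMonoidHom.mk' ψ hadd), MulEquiv.ext fun x => ?_⟩
    obtain ⟨⟨a, b⟩, rfl⟩ := C.el.surjective x
    rw [central_apply, hα, hL, hM, toAdd_ofAdd, AddMonoidHom.mk'_apply, add_comm]

theorem range_normal : (central C).range.Normal := by
  refine ⟨fun k hk α => ?_⟩
  rw [mem_range_iff] at hk ⊢
  intro x
  obtain ⟨L, M, ψ, hα, -, -⟩ := triangular C α
  obtain ⟨⟨a, b⟩, hab⟩ := C.el.surjective (α⁻¹ x)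
  have hx : x = C.el (L a, ψ a + M b) := by
    rw [← hα, hab]
    simp
  obtain ⟨⟨a', b'⟩, hab'⟩ := C.el.surjective (k (α⁻¹ x))
  have hk' := hk (α⁻¹ x)
  rw [← hab, Equiv.symm_apply_apply] at hk'
  rw [← hab] at hab'
  rw [← hab', Equiv.symm_apply_apply] at hk'
  simp only at hk'
  rw [MulAut.mul_apply, MulAut.mul_apply, ← hab, ← hab', hα, hx, Equiv.symm_apply_apply,
    Equiv.symm_apply_apply, hk']

include C in
theorem card_mulAut : Nat.card (MulAut S) =
    2 ^ ((2 * m + 1) ^ 2) * ((2 * m + 1) * (2 ^ (2 * m + 1) - 1)) := by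
  have hbij : Function.Bijective
      (fun p : Multiplicative (F →+ F) × ((F ≃+* F) × Fˣ) => semi C p.2.1 p.2.2 * central C p.1) := by
    constructor
    · rintro ⟨ψ, σ, u⟩ ⟨φ, τ, v⟩ e
      have e' : ∀ a, (u : F) * σ a = (v : F) * τ a ∧
          theta m (u : F) * u * σ (ψ.toAdd a) = theta m (v : F) * v * τ (φ.toAdd a) := fun a => by
        have := DFunLike.congr_fun e (C.el (a, 0))
        simp only [MulAut.mul_apply, central_apply, semi_apply, zero_add] at this
        exact Prod.ext_iff.mp (C.el.injective this)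
      have huv : u = v := Units.ext (by simpa using (e' 1).1)
      subst huv
      have hστ : σ = τ := RingEquiv.ext fun a => mul_left_cancel₀ u.ne_zero (e' a).1
      subst hστ
      have : ψ = φ := Multiplicative.toAdd.injective (AddMonoidHom.ext fun a => σ.injective
        (mul_left_cancel₀ (mul_ne_zero (Suzuki.theta_ne_zero u.ne_zero) u.ne_zero) (e' a).2))
      rw [this]
    · intro α
      obtain ⟨L, M, ψ, hα, hsq, -⟩ := triangular C α
      have hne : L ≠ 0 := fun e => by
        obtain ⟨⟨a, b⟩, hab⟩ := C.el.surjective (α.symm (C.el (1, 0)))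
        have := hα a b
        rw [hab, MulEquiv.apply_symm_apply, e] at this
        exact one_ne_zero (congrArg Prod.fst (C.el.injective this))
      obtain ⟨σ, l, hl, hL⟩ := monomial C.hyp L M hne hsq
      obtain ⟨φ, hφ⟩ : (semi C σ (Units.mk0 l hl))⁻¹ * α ∈ (central C).range := by
        rw [mem_range_iff]
        intro x
        obtain ⟨⟨a, b⟩, rfl⟩ := C.el.surjective x
        obtain ⟨⟨a', b'⟩, hab'⟩ := C.el.surjective (((semi C σ (Units.mk0 l hl))⁻¹ * α) (C.el (a, b)))
        have := congrArg (semi C σ (Units.mk0 l hl)) hab'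
        rw [← MulAut.mul_apply, mul_inv_cancel_left, hα, semi_apply, Units.val_mk0, hL] at this
        rw [← hab', Equiv.symm_apply_apply, Equiv.symm_apply_apply]
        exact σ.injective (mul_left_cancel₀ hl (congrArg Prod.fst (C.el.injective this)))
      exact ⟨(φ, σ, Units.mk0 l hl), by simp only [hφ, mul_inv_cancel_left]⟩
  rw [← Nat.card_congr (Equiv.ofBijective _ hbij), Nat.card_prod, Nat.card_prod,
    Nat.card_congr Multiplicative.toAdd, card_addEnd C.hyp, card_fieldAut C.hyp, Nat.card_units,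
    Nat.card_eq_fintype_card (α := F), C.hyp.hF]

theorem card_range : Nat.card (central C).range = 2 ^ ((2 * m + 1) ^ 2) := by
  rw [← Nat.card_congr (MonoidHom.ofInjective (central_injective C)).toEquiv,
    Nat.card_congr Multiplicative.toAdd, card_addEnd C.hyp]

theorem pCore_eq : Cfsg.pCore 2 (MulAut S) = (central C).range := by
  haveI := Fact.mk Nat.prime_two
  haveI := range_normal C
  refine le_antisymm (sSup_le ?_) (le_sSup ⟨range_normal C, IsPGroup.of_card (card_range C)⟩)
  rintro N ⟨-, hN⟩ x hx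
  have hidx : (central C).range.index = (2 * m + 1) * (2 ^ (2 * m + 1) - 1) := by
    have := (central C).range.card_mul_index
    rw [card_range, card_mulAut C] at this
    exact Nat.eq_of_mul_eq_mul_left (by positivity) this
  obtain ⟨k, hk⟩ := hN ⟨x, hx⟩
  have hk' : x ^ 2 ^ k = 1 := congrArg Subtype.val hk
  have h1 : orderOf (QuotientGroup.mk x : MulAut S ⧸ (central C).range) ∣ 2 ^ k :=
    orderOf_dvd_of_pow_eq_one (by rw [← QuotientGroup.mk_pow, hk', QuotientGroup.mk_one])
  have h2 : orderOf (QuotientGroup.mk x : MulAut S ⧸ (central C).range) ∣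
      (2 * m + 1) * (2 ^ (2 * m + 1) - 1) := hidx ▸ orderOf_dvd_natCard _
  have hodd : Odd ((2 * m + 1) * (2 ^ (2 * m + 1) - 1)) :=
    (odd_two_mul_add_one m).mul
      (Nat.Even.sub_odd Nat.one_le_two_pow ((Nat.even_pow).mpr ⟨even_two, by omega⟩) odd_one)
  have h3 := Nat.dvd_one.mp
    (Nat.Coprime.gcd_eq_one ((Nat.coprime_two_left.mpr hodd).pow_left k) ▸ Nat.dvd_gcd h1 h2)
  exact (QuotientGroup.eq_one_iff x).mp (orderOf_eq_one_iff.mp h3)

end aut

/-- Let S be a Sylow 2-subgroup of the Suzuki group Sz(q), q = 2ⁿ with n = 2m + 1 ≥ 3 (realised as 4 × 4 matrices over the field with q elements). Then the largest normal 2-subgroup of the automorphism group of S is elementary abelian of order 2^(n²), and the automorphism group of S has order 2^(n²) · n · (q − 1). -/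
theorem result {S : Type*} [Group S] [Finite S] (m : ℕ) (hm : 1 ≤ m)
    {F : Type*} [Field F] [Fintype F] (hF : Fintype.card F = 2 ^ (2 * m + 1))
    (P : Sylow 2 ↥(Cfsg.Lie.Sz F (2 ^ (m + 1)))) (hS : Nonempty (S ≃* ↥(P : Subgroup ↥(Cfsg.Lie.Sz F (2 ^ (m + 1)))))) :
    Cfsg.IsElementaryAbelian 2 (Cfsg.pCore 2 (MulAut S)) ∧ Nat.card ↥(Cfsg.pCore 2 (MulAut S)) = 2 ^ ((2 * m + 1) ^ 2) ∧
      Nat.card (MulAut S) = 2 ^ ((2 * m + 1) ^ 2) * ((2 * m + 1) * (2 ^ (2 * m + 1) - 1)) := by
  have h : Hyp F m := ⟨hm, hF⟩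
  obtain ⟨ι⟩ := hS
  let e := SuzukiSp4.szEquiv h
  haveI : Finite (Cfsg.Sz F m) := Finite.of_injective _ Subtype.val_injective
  haveI := Fact.mk Nat.prime_two
  let P' : Sylow 2 (Cfsg.Sz F m) := P.comapOfInjective e.toMonoidHom e.injective
    (fun y _ => ⟨e.symm y, e.apply_symm_apply y⟩)
  obtain ⟨τ⟩ := Suzuki.transl_sylow_equiv h P'
  let κ : ↥(P' : Subgroup (Cfsg.Sz F m)) ≃* ↥(P : Subgroup ↥(Cfsg.Lie.Sz F (2 ^ (m + 1)))) :=
    { toFun := fun x => ⟨e x.1, x.2⟩
      invFun := fun y => ⟨e.symm y.1, by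
        show e (e.symm y.1) ∈ (P : Subgroup ↥(Cfsg.Lie.Sz F (2 ^ (m + 1))))
        rw [MulEquiv.apply_symm_apply]; exact y.2⟩
      left_inv := fun x => Subtype.ext (e.symm_apply_apply x.1)
      right_inv := fun y => Subtype.ext (e.apply_symm_apply y.1)
      map_mul' := fun x y => Subtype.ext (map_mul e x.1 y.1) }
  let ι' : ↥(Suzuki.transl h) ≃* S := (τ.trans κ).trans ι.symm
  let f : F × F → ↥(Suzuki.transl h) := fun p => ⟨Suzuki.szT h p.1 p.2, p.1, p.2, rfl⟩
  have hf : Function.Bijective f := by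
    refine ⟨fun p q e => ?_, ?_⟩
    · obtain ⟨e1, e2⟩ := Suzuki.szT_inj h (congrArg Subtype.val e)
      exact Prod.ext e1 e2
    · rintro ⟨g, a, b, rfl⟩
      exact ⟨(a, b), rfl⟩
  let C : Coord F m S :=
    { hyp := h
      el := (Equiv.ofBijective f hf).trans ι'.toEquiv
      el_mul := fun a b c d => by
        show ι' (f (a, b)) * ι' (f (c, d)) = ι' (f (a + c, b + d + theta m a * c))
        rw [← map_mul]
        exact congrArg ι' (Subtype.ext (Suzuki.szT_mul h a b c d)) }
  rw [pCore_eq C]
  refine ⟨⟨?_, ?_⟩, card_range C, card_mulAut C⟩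
  · constructor
    constructor
    rintro ⟨_, ψ, rfl⟩ ⟨_, φ, rfl⟩
    refine Subtype.ext ?_
    show central C ψ * central C φ = central C φ * central C ψ
    rw [← map_mul, ← map_mul, mul_comm]
  · rintro _ ⟨ψ, rfl⟩
    rw [← map_pow, show ψ ^ 2 = 1 from Multiplicative.toAdd.injective
      (AddMonoidHom.ext fun a => by simp [two_nsmul, h.add_self]), map_one]

end Cfsg.Agent.S2556
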