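import Cfsg.Statements.S2561
import Mathlib

set_option autoImplicit false
open Cfsg

namespace Cfsg.Agent.S2561

variable {m : ℕ}

local notation "V" m => (Fin m ⊕ Fin m → ZMod 2)

/-- The standard alternating form. -/
def form (u v : V m) : ZMod 2 := ∑ i, (u (Sum.inl i) * v (Sum.inr i) + v (Sum.inl i) * u (Sum.inr i))

theorem form_eq (u v : V m) : Cfsg.quadFormPlus m (ZMod 2) (u + v) - Cfsg.quadFormPlus m (ZMod 2) u -
    Cfsg.quadFormPlus m (ZMod 2) v = form u v := by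
  simp only [Cfsg.quadFormPlus, form, Pi.add_apply, ← Finset.sum_sub_distrib]
  exact Finset.sum_congr rfl fun i _ => by ring

theorem form_comm (u v : V m) : form u v = form v u :=
  Finset.sum_congr rfl fun i _ => by ring

theorem form_add_right (u v v' : V m) : form u (v + v') = form u v + form u v' := by
  simp only [form, Pi.add_apply, ← Finset.sum_add_distrib]
  exact Finset.sum_congr rfl fun i _ => by ring

theorem form_add_left (u u' v : V m) : form (u + u') v = form u v + form u' v := by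
  simp only [form, Pi.add_apply, ← Finset.sum_add_distrib]
  exact Finset.sum_congr rfl fun i _ => by ring

theorem form_smul_right (c : ZMod 2) (u v : V m) : form u (c • v) = c * form u v := by
  simp only [form, Pi.smul_apply, smul_eq_mul, Finset.mul_sum]
  exact Finset.sum_congr rfl fun i _ => by ring

theorem form_self (u : V m) : form u u = 0 := Finset.sum_eq_zero fun _ _ => CharTwo.add_self_eq_zero _

theorem Q_add (u v : V m) : Cfsg.quadFormPlus m (ZMod 2) (u + v) =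
    Cfsg.quadFormPlus m (ZMod 2) u + Cfsg.quadFormPlus m (ZMod 2) v + form u v := by
  rw [← form_eq]; ring

/-- The quadratic forms polarizing to `form`, parametrised by a vector. -/
def qf (w v : V m) : ZMod 2 := Cfsg.quadFormPlus m (ZMod 2) v + form w v

theorem qf_add (w u v : V m) : qf w (u + v) = qf w u + qf w v + form u v := by
  simp only [qf, Q_add, form_add_right]; ring

theorem qf_zero (w : V m) : qf w 0 = 0 := by simp [qf, form, Cfsg.quadFormPlus]

/-- A transvection moves the parameter. -/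
theorem qf_transvection (w u : V m) (hu : qf w u = 0) :
    ∃ g : (V m) ≃ₗ[ZMod 2] (V m), ∀ v, qf (w + u) v = qf w (g v) := by
  let f : (V m) →ₗ[ZMod 2] (V m) :=
    { toFun := fun v => v + form u v • u
      map_add' := fun a b => by simp only [form_add_right, add_smul]; abel
      map_smul' := fun c a => by simp [form_smul_right, smul_add, mul_smul] }
  have hf : ∀ v, f (f v) = v := by
    intro v
    show (v + form u v • u) + form u (v + form u v • u) • u = v
    rw [form_add_right, form_smul_right, form_self, mul_zero, add_zero, add_assoc, ← add_smul,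
      CharTwo.add_self_eq_zero, zero_smul, add_zero]
  refine ⟨LinearEquiv.ofInvolutive f hf, fun v => ?_⟩
  show qf (w + u) v = qf w (v + form u v • u)
  rw [qf_add, form_smul_right, form_comm v u]
  have h1 : qf (w + u) v = qf w v + form u v := by simp only [qf, form_add_left]; ring
  have h2 : ∀ c : ZMod 2, c = 0 ∨ c = 1 := by decide
  rw [h1]
  rcases h2 (form u v) with h | h <;> simp [h, hu, qf_zero]

/-- Number of zeros minus number of ones of the plus-type form. -/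
theorem charSum : ∑ v : V m, (if Cfsg.quadFormPlus m (ZMod 2) v = 0 then (1 : ℤ) else -1) = 2 ^ m := by
  let χ : ZMod 2 → ℤ := fun c => if c = 0 then 1 else -1
  have hχ : ∀ (s : Finset (Fin m)) (g : Fin m → ZMod 2), χ (∑ i ∈ s, g i) = ∏ i ∈ s, χ (g i) := by
    intro s g
    have hadd : ∀ a b : ZMod 2, χ (a + b) = χ a * χ b := by decide
    induction s using Finset.induction_on with
    | empty => rfl
    | @insert i s hi ih => rw [Finset.sum_insert hi, Finset.prod_insert hi, hadd, ih]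
  let e : (V m) ≃ (Fin m → ZMod 2 × ZMod 2) :=
    { toFun := fun v i => (v (Sum.inl i), v (Sum.inr i))
      invFun := fun z => Sum.elim (fun i => (z i).1) (fun i => (z i).2)
      left_inv := fun v => by funext x; cases x <;> rfl
      right_inv := fun z => rfl }
  calc ∑ v : V m, (if Cfsg.quadFormPlus m (ZMod 2) v = 0 then (1 : ℤ) else -1)
      = ∑ v : V m, ∏ i, χ ((e v i).1 * (e v i).2) := Finset.sum_congr rfl fun v _ => hχ Finset.univ _
    _ = ∑ z : Fin m → ZMod 2 × ZMod 2, ∏ i, χ ((z i).1 * (z i).2) := e.sum_comp (fun z => ∏ i, χ ((z i).1 * (z i).2))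
    _ = ∏ _i : Fin m, ∑ c : ZMod 2 × ZMod 2, χ (c.1 * c.2) :=
        (Fintype.prod_sum (fun (_ : Fin m) (c : ZMod 2 × ZMod 2) => χ (c.1 * c.2))).symm
    _ = 2 ^ m := by
      have h : ∑ c : ZMod 2 × ZMod 2, χ (c.1 * c.2) = 2 := by decide
      simp [h]

theorem counts (hm : 1 ≤ m) :
    Nat.card {v : V m // Cfsg.quadFormPlus m (ZMod 2) v = 0} = 2 ^ (2 * m - 1) + 2 ^ (m - 1) ∧
    Nat.card {v : V m // Cfsg.quadFormPlus m (ZMod 2) v = 1} = 2 ^ (2 * m - 1) - 2 ^ (m - 1) := by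
  classical
  have h1 := charSum (m := m)
  rw [Finset.sum_ite, Finset.sum_const, Finset.sum_const] at h1
  have h2 := Finset.card_filter_add_card_filter_not (s := (Finset.univ : Finset (V m)))
    (fun v => Cfsg.quadFormPlus m (ZMod 2) v = 0)
  have h3 : ∀ c : ZMod 2, ¬ c = 0 ↔ c = 1 := by decide
  simp only [h3, nsmul_eq_mul, mul_one, mul_neg] at h1 h2
  rw [Finset.card_univ, Fintype.card_fun, Fintype.card_sum, Fintype.card_fin, ZMod.card, ← two_mul] at h2
  rw [Nat.card_eq_fintype_card, Nat.card_eq_fintype_card, Fintype.card_subtype, Fintype.card_subtype]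
  obtain ⟨k, rfl⟩ : ∃ k, m = k + 1 := ⟨m - 1, by omega⟩
  rw [show 2 * (k + 1) - 1 = 2 * k + 1 by omega, show k + 1 - 1 = k by omega]
  rw [show 2 * (k + 1) = 2 * k + 1 + 1 by omega, pow_succ] at h2
  rw [pow_succ] at h1
  have h4 : ((2 ^ k : ℕ) : ℤ) = 2 ^ k := by push_cast; rfl
  omega

/-- The equivalence relation of forms detects the value of the parameter. -/
theorem not_equiv (hm : 1 ≤ m) (w : V m) (hw : Cfsg.quadFormPlus m (ZMod 2) w = 1)
    (g : (V m) ≃ₗ[ZMod 2] (V m)) : ¬ ∀ v, qf w v = Cfsg.quadFormPlus m (ZMod 2) (g v) := by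
  intro h
  have hq : ∀ v, qf w v = Cfsg.quadFormPlus m (ZMod 2) (v + w) + 1 := fun v => by
    rw [qf, Q_add, hw, form_comm]
    have h2 : ∀ a b : ZMod 2, a + b = a + 1 + b + 1 := by decide
    exact h2 _ _
  have h3 : ∀ c : ZMod 2, c = 1 ↔ c + 1 = 0 := by decide
  have hcard : Nat.card {v : V m // Cfsg.quadFormPlus m (ZMod 2) v = 1} =
      Nat.card {v : V m // Cfsg.quadFormPlus m (ZMod 2) v = 0} := by
    refine Nat.card_congr (((Equiv.addRight w).subtypeEquiv fun v => Iff.rfl).symm.trans (g.toEquiv.subtypeEquiv fun v => ?_))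
    show _ ↔ Cfsg.quadFormPlus m (ZMod 2) (g v) = 0
    rw [← h, hq]
    exact h3 _
  obtain ⟨h0, h1⟩ := counts hm
  rw [h0, h1] at hcard
  have := Nat.one_le_two_pow (n := m - 1)
  have := Nat.pow_le_pow_right (show 0 < 2 by norm_num) (show m - 1 ≤ 2 * m - 1 by omega)
  omega

theorem qf_injective : Function.Injective (qf : (V m) → (V m) → ZMod 2) := by
  intro a b h
  funext x
  rcases x with i | i
  · simpa [qf, form, Pi.single_apply] using congrFun h (Pi.single (Sum.inr i) 1)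
  · simpa [qf, form, Pi.single_apply] using congrFun h (Pi.single (Sum.inl i) 1)

theorem exists_param (q : (V m) → ZMod 2) (hq : ∀ u v, q (u + v) = q u + q v + form u v) : ∃ w, q = qf w := by
  refine ⟨Sum.elim (fun i => q (Pi.single (Sum.inr i) 1)) (fun i => q (Pi.single (Sum.inl i) 1)), ?_⟩
  set w : V m := Sum.elim (fun i => q (Pi.single (Sum.inr i) 1)) (fun i => q (Pi.single (Sum.inl i) 1)) with hw
  let d : (V m) →+ ZMod 2 := AddMonoidHom.mk' (fun v => q v - qf w v) (fun u v => by rw [hq, qf_add]; ring)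
  have hsingle : ∀ x c, d (Pi.single x c) = 0 := by
    intro x c
    have h2 : ∀ c : ZMod 2, c = 0 ∨ c = 1 := by decide
    rcases h2 c with rfl | rfl
    · rw [Pi.single_zero, map_zero]
    · show q _ - qf w _ = 0
      rcases x with i | i <;> simp [qf, form, Cfsg.quadFormPlus, Pi.single_apply, hw]
  funext v
  have h : d v = 0 := by
    conv_lhs => rw [← Finset.univ_sum_single v, map_sum]
    exact Finset.sum_eq_zero fun x _ => hsingle x _
  exact sub_eq_zero.1 h

theorem minus_base (k : ℕ) : ∃ w : V (k + 1), Cfsg.quadFormPlus (k + 1) (ZMod 2) w = 1 ∧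
    ∃ g : (V (k + 1)) ≃ₗ[ZMod 2] (((Fin k ⊕ Fin k) ⊕ Fin 2) → ZMod 2),
      ∀ v, qf w v = Cfsg.quadFormMinus k (ZMod 2) 1 1 (g v) := by
  let w : V (k + 1) := fun x => if x = Sum.inl (Fin.last k) ∨ x = Sum.inr (Fin.last k) then 1 else 0
  let g : (V (k + 1)) ≃ₗ[ZMod 2] (((Fin k ⊕ Fin k) ⊕ Fin 2) → ZMod 2) :=
    { toFun := fun v => Sum.elim (Sum.elim (fun i => v (Sum.inl i.castSucc)) (fun i => v (Sum.inr i.castSucc)))
        ![v (Sum.inl (Fin.last k)), v (Sum.inr (Fin.last k))]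
      invFun := fun z => Sum.elim (Fin.snoc (fun i => z (Sum.inl (Sum.inl i))) (z (Sum.inr 0)))
        (Fin.snoc (fun i => z (Sum.inl (Sum.inr i))) (z (Sum.inr 1)))
      left_inv := fun v => by funext x; rcases x with i | i <;> refine Fin.lastCases ?_ ?_ i <;> simp
      right_inv := fun z => by
        funext x
        rcases x with (i | i) | i
        · simp
        · simp
        · fin_cases i <;> simp
      map_add' := fun a b => by funext x; rcases x with (i | i) | i <;> [rfl; rfl; (fin_cases i <;> rfl)]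
      map_smul' := fun c a => by funext x; rcases x with (i | i) | i <;> [rfl; rfl; (fin_cases i <;> rfl)] }
  refine ⟨w, ?_, g, fun v => ?_⟩
  · simp [Cfsg.quadFormPlus, Fin.sum_univ_castSucc, w]
  · show Cfsg.quadFormPlus (k + 1) (ZMod 2) v + form w v = _
    have hsq : ∀ x : ZMod 2, x ^ 2 = x := by decide
    simp [Cfsg.quadFormPlus, Cfsg.quadFormMinus, form, Fin.sum_univ_castSucc, w, g, hsq]
    ring


/-- Fix the non-singular alternating form on the 2m-dimensional space over the field of two elements obtained by polarizing the plus-type form Σ xᵢyᵢ (m ≥ 1). The functions q on the space with q(u + v) = q(u) + q(v) + f(u, v) (the quadratic forms polarizing to f) number 2^(2m); each is equivalent under an invertible linear map either to the plus-type form or to the minus-type form Σ xᵢyᵢ + (z₁² + z₁z₂ + z₂²); and those of plus type number 2^(2m−1) + 2^(m−1), those of minus type 2^(2m−1) − 2^(m−1). -/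
theorem result (m : ℕ) (hm : 1 ≤ m) :
    Nat.card {q : (Fin m ⊕ Fin m → ZMod 2) → ZMod 2 // (∀ u v : (Fin m ⊕ Fin m → ZMod 2), q (u + v) = q u + q v + (Cfsg.quadFormPlus m (ZMod 2) (u + v) - Cfsg.quadFormPlus m (ZMod 2) u - Cfsg.quadFormPlus m (ZMod 2) v))} = 2 ^ (2 * m) ∧
    (∀ q : (Fin m ⊕ Fin m → ZMod 2) → ZMod 2, (∀ u v : (Fin m ⊕ Fin m → ZMod 2), q (u + v) = q u + q v + (Cfsg.quadFormPlus m (ZMod 2) (u + v) - Cfsg.quadFormPlus m (ZMod 2) u - Cfsg.quadFormPlus m (ZMod 2) v)) →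
      (∃ g : (Fin m ⊕ Fin m → ZMod 2) ≃ₗ[ZMod 2] (Fin m ⊕ Fin m → ZMod 2), ∀ v, q v = Cfsg.quadFormPlus m (ZMod 2) (g v)) ∨
      (∃ g : (Fin m ⊕ Fin m → ZMod 2) ≃ₗ[ZMod 2] ((Fin (m - 1) ⊕ Fin (m - 1)) ⊕ Fin 2 → ZMod 2), ∀ v, q v = Cfsg.quadFormMinus (m - 1) (ZMod 2) 1 1 (g v))) ∧
    Nat.card {q : (Fin m ⊕ Fin m → ZMod 2) → ZMod 2 // (∀ u v : (Fin m ⊕ Fin m → ZMod 2), q (u + v) = q u + q v + (Cfsg.quadFormPlus m (ZMod 2) (u + v) - Cfsg.quadFormPlus m (ZMod 2) u - Cfsg.quadFormPlus m (ZMod 2) v)) ∧ ∃ g : (Fin m ⊕ Fin m → ZMod 2) ≃ₗ[ZMod 2] (Fin m ⊕ Fin m → ZMod 2), ∀ v, q v = Cfsg.quadFormPlus m (ZMod 2) (g v)} = 2 ^ (2 * m - 1) + 2 ^ (m - 1) ∧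
    Nat.card {q : (Fin m ⊕ Fin m → ZMod 2) → ZMod 2 // (∀ u v : (Fin m ⊕ Fin m → ZMod 2), q (u + v) = q u + q v + (Cfsg.quadFormPlus m (ZMod 2) (u + v) - Cfsg.quadFormPlus m (ZMod 2) u - Cfsg.quadFormPlus m (ZMod 2) v)) ∧ ∃ g : (Fin m ⊕ Fin m → ZMod 2) ≃ₗ[ZMod 2] ((Fin (m - 1) ⊕ Fin (m - 1)) ⊕ Fin 2 → ZMod 2), ∀ v, q v = Cfsg.quadFormMinus (m - 1) (ZMod 2) 1 1 (g v)} = 2 ^ (2 * m - 1) - 2 ^ (m - 1) := by
  have hq : ∀ q : (Fin m ⊕ Fin m → ZMod 2) → ZMod 2, (∀ u v : (Fin m ⊕ Fin m → ZMod 2), q (u + v) = q u + q v +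
      (Cfsg.quadFormPlus m (ZMod 2) (u + v) - Cfsg.quadFormPlus m (ZMod 2) u - Cfsg.quadFormPlus m (ZMod 2) v)) ↔
      ∃ w, q = qf w := fun q =>
    ⟨fun h => exists_param q fun u v => by rw [h, form_eq],
      fun ⟨w, hw⟩ u v => by rw [hw, qf_add, form_eq]⟩
  obtain ⟨k, rfl⟩ : ∃ k, m = k + 1 := ⟨m - 1, by omega⟩
  obtain ⟨w1, hw1, g1, hg1⟩ := minus_base k
  have hplus : ∀ w, (∃ g : (Fin (k + 1) ⊕ Fin (k + 1) → ZMod 2) ≃ₗ[ZMod 2] (Fin (k + 1) ⊕ Fin (k + 1) → ZMod 2),
      ∀ v, qf w v = Cfsg.quadFormPlus (k + 1) (ZMod 2) (g v)) ↔ Cfsg.quadFormPlus (k + 1) (ZMod 2) w = 0 := by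
    intro w
    have h0 : ∀ v, qf 0 v = Cfsg.quadFormPlus (k + 1) (ZMod 2) v := fun v => by simp [qf, form]
    refine ⟨fun ⟨g, hg⟩ => ?_, fun h => ?_⟩
    · by_contra h
      have h2 : ∀ c : ZMod 2, ¬ c = 0 → c = 1 := by decide
      exact not_equiv (by omega) w (h2 _ h) g hg
    · obtain ⟨g, hg⟩ := qf_transvection 0 w (by rw [h0, h])
      exact ⟨g, fun v => by simpa [h0] using hg v⟩
  have hminus : ∀ w, (∃ g : (Fin (k + 1) ⊕ Fin (k + 1) → ZMod 2) ≃ₗ[ZMod 2] ((Fin k ⊕ Fin k) ⊕ Fin 2 → ZMod 2),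
      ∀ v, qf w v = Cfsg.quadFormMinus k (ZMod 2) 1 1 (g v)) ↔ Cfsg.quadFormPlus (k + 1) (ZMod 2) w = 1 := by
    intro w
    refine ⟨fun ⟨g, hg⟩ => ?_, fun h => ?_⟩
    · by_contra h
      have h2 : ∀ c : ZMod 2, ¬ c = 1 → c = 0 := by decide
      obtain ⟨g', hg'⟩ := (hplus w).2 (h2 _ h)
      refine not_equiv (by omega) w1 hw1 ((g1.trans g.symm).trans g') fun v => ?_
      rw [LinearEquiv.trans_apply, LinearEquiv.trans_apply, ← hg', hg, LinearEquiv.apply_symm_apply, hg1]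
    · have hu : qf w1 (w1 + w) = 0 := by
        rw [qf, Q_add, hw1, h, form_add_right, form_self, zero_add]
        have : ∀ c : ZMod 2, 1 + 1 + c + c = 0 := by decide
        exact this _
      obtain ⟨g, hg⟩ := qf_transvection w1 (w1 + w) hu
      have hw : w1 + (w1 + w) = w := by
        funext x
        simp only [Pi.add_apply, ← add_assoc, CharTwo.add_self_eq_zero, zero_add]
      rw [hw] at hg
      exact ⟨g.trans g1, fun v => by rw [hg, hg1, LinearEquiv.trans_apply]⟩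
  obtain ⟨hc0, hc1⟩ := counts (m := k + 1) (by omega)
  refine ⟨?_, fun q hqq => ?_, ?_, ?_⟩
  · have e := Nat.card_congr ((Equiv.ofInjective qf (qf_injective (m := k + 1))).trans
      (Equiv.subtypeEquivRight (q := fun q => ∀ u v, q (u + v) = q u + q v + (Cfsg.quadFormPlus (k + 1) (ZMod 2) (u + v) -
        Cfsg.quadFormPlus (k + 1) (ZMod 2) u - Cfsg.quadFormPlus (k + 1) (ZMod 2) v)) fun q => by
          rw [hq]; exact ⟨fun ⟨w, hw⟩ => ⟨w, hw.symm⟩, fun ⟨w, hw⟩ => ⟨w, hw.symm⟩⟩))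
    rw [← e, Nat.card_fun, Nat.card_zmod, Nat.card_sum, Nat.card_fin, two_mul]
  · obtain ⟨w, rfl⟩ := (hq q).1 hqq
    have h2 : ∀ c : ZMod 2, c = 0 ∨ c = 1 := by decide
    rcases h2 (Cfsg.quadFormPlus (k + 1) (ZMod 2) w) with h | h
    · exact Or.inl ((hplus w).2 h)
    · exact Or.inr ((hminus w).2 h)
  · rw [← hc0]
    symm
    refine Nat.card_eq_of_bijective (fun w => ⟨qf w.1, (hq _).2 ⟨w.1, rfl⟩, (hplus w.1).2 w.2⟩)
      ⟨fun a b h => Subtype.ext (qf_injective (congrArg Subtype.val h)), ?_⟩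
    rintro ⟨q, h1, h2⟩
    obtain ⟨w, rfl⟩ := (hq q).1 h1
    exact ⟨⟨w, (hplus w).1 h2⟩, rfl⟩
  · rw [← hc1]
    symm
    refine Nat.card_eq_of_bijective (fun w => ⟨qf w.1, (hq _).2 ⟨w.1, rfl⟩, (hminus w.1).2 w.2⟩)
      ⟨fun a b h => Subtype.ext (qf_injective (congrArg Subtype.val h)), ?_⟩
    rintro ⟨q, h1, h2⟩
    obtain ⟨w, rfl⟩ := (hq q).1 h1
    exact ⟨⟨w, (hminus w).1 h2⟩, rfl⟩

end Cfsg.Agent.S2561
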