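import Cfsg.Statements.S2562
import Mathlib
-- import your own Cfsg.Agent.* helpers here

set_option autoImplicit false
open Cfsg

namespace Cfsg.Agent.S2562
/-- A subspace of `V` on which `Q` vanishes has small dimension: the abstract argument. -/
theorem finrank_le_of_isotropic {K : Type*} [Field K] {k : ℕ} {Z : Type*} [AddCommGroup Z]
    [Module K Z] [FiniteDimensional K Z]
    (U : Submodule K ((Fin k ⊕ Fin k → K) × Z)) (R : Z → K)
    (hR : ∀ z, R z = 0 → z = 0)
    (h : ∀ u ∈ U, (∑ i, u.1 (.inl i) * u.1 (.inr i)) + R u.2 = 0) :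
    Module.finrank K U ≤ k := by
  classical
  let π : ((Fin k ⊕ Fin k → K) × Z) →ₗ[K] (Fin k → K) :=
    LinearMap.funLeft K K Sum.inr ∘ₗ LinearMap.fst K _ _
  let χ : ((Fin k ⊕ Fin k → K) × Z) →ₗ[K] (Fin k → K) :=
    LinearMap.funLeft K K Sum.inl ∘ₗ LinearMap.fst K _ _
  let ρ := π.domRestrict U
  -- the kernel of `ρ` has vanishing `z`-coordinate
  have hz : ∀ u : LinearMap.ker ρ, (u.1.1).2 = 0 := by
    intro u
    have hu := h u.1.1 u.1.2
    have hy : ∀ i, (u.1.1).1 (.inr i) = 0 := fun i => congrFun (LinearMap.mem_ker.1 u.2) i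
    simp only [hy, mul_zero, Finset.sum_const_zero, zero_add] at hu
    exact hR _ hu
  let σ : LinearMap.ker ρ →ₗ[K] (Fin k → K) := χ ∘ₗ U.subtype ∘ₗ (LinearMap.ker ρ).subtype
  have hσ : Function.Injective σ := by
    rw [injective_iff_map_eq_zero]
    intro u hu
    refine Subtype.ext (Subtype.ext (Prod.ext (funext fun i => ?_) (hz u)))
    cases i with
    | inl i => exact congrFun hu i
    | inr i => exact congrFun (LinearMap.mem_ker.1 u.2) i
  -- the two images are orthogonal for the standard dot product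
  have horth : ∀ (u : LinearMap.ker ρ) (v : U), ∑ i, σ u i * ρ v i = 0 := by
    intro u v
    have h1 := h _ (U.add_mem u.1.2 v.2)
    have h2 := h _ v.2
    have hy : ∀ i, (u.1.1).1 (.inr i) = 0 := fun i => congrFun (LinearMap.mem_ker.1 u.2) i
    simp only [Prod.fst_add, Prod.snd_add, Pi.add_apply, hy, zero_add, hz u, add_mul,
      Finset.sum_add_distrib] at h1
    show ∑ i, (u.1.1).1 (.inl i) * (v.1).1 (.inr i) = 0
    linear_combination h1 - h2
  let D : (Fin k → K) ≃ₗ[K] Module.Dual K (Fin k → K) := dotProductEquiv K (Fin k)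
  have hD : ∀ a b : Fin k → K, D a b = ∑ i, a i * b i := fun a b => rfl
  have hle : Submodule.map (D : (Fin k → K) →ₗ[K] _) (LinearMap.range σ) ≤
      (LinearMap.range ρ).dualAnnihilator := by
    rintro _ ⟨_, ⟨u, rfl⟩, rfl⟩
    rw [Submodule.mem_dualAnnihilator]
    rintro _ ⟨v, rfl⟩
    rw [LinearEquiv.coe_coe, hD]
    exact horth u v
  have h1 := Submodule.finrank_mono hle
  rw [LinearEquiv.finrank_map_eq, LinearMap.finrank_range_of_inj hσ] at h1
  have h2 := Subspace.finrank_add_finrank_dualAnnihilator_eq (LinearMap.range ρ)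
  rw [Module.finrank_fin_fun] at h2
  have h3 := LinearMap.finrank_range_add_finrank_ker ρ
  omega


/-- Witt indices over the field of two elements, m ≥ 1: for the plus-type form Σ xᵢyᵢ in dimension 2m some m-dimensional subspace is totally singular and no totally singular subspace has larger dimension; for the minus-type form Σ xᵢyᵢ + (z₁² + z₁z₂ + z₂²) in dimension 2m the maximal dimension of a totally singular subspace is m − 1. -/
theorem result (m : ℕ) (hm : 1 ≤ m) :
    (∃ U : Submodule (ZMod 2) (Fin m ⊕ Fin m → ZMod 2), (∀ u ∈ U, Cfsg.quadFormPlus m (ZMod 2) u = 0) ∧ Module.finrank (ZMod 2) ↥U = m) ∧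
    (∀ U : Submodule (ZMod 2) (Fin m ⊕ Fin m → ZMod 2), (∀ u ∈ U, Cfsg.quadFormPlus m (ZMod 2) u = 0) → Module.finrank (ZMod 2) ↥U ≤ m) ∧
    (∃ U : Submodule (ZMod 2) ((Fin (m - 1) ⊕ Fin (m - 1)) ⊕ Fin 2 → ZMod 2), (∀ u ∈ U, Cfsg.quadFormMinus (m - 1) (ZMod 2) 1 1 u = 0) ∧ Module.finrank (ZMod 2) ↥U = m - 1) ∧
    (∀ U : Submodule (ZMod 2) ((Fin (m - 1) ⊕ Fin (m - 1)) ⊕ Fin 2 → ZMod 2), (∀ u ∈ U, Cfsg.quadFormMinus (m - 1) (ZMod 2) 1 1 u = 0) → Module.finrank (ZMod 2) ↥U ≤ m - 1) := by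
  classical
  refine ⟨?_, ?_, ?_, ?_⟩
  · refine ⟨LinearMap.ker (LinearMap.funLeft (ZMod 2) (ZMod 2) (Sum.inr : Fin m → Fin m ⊕ Fin m)),
      ?_, ?_⟩
    · intro u hu
      have hy : ∀ i, u (.inr i) = 0 := fun i => congrFun (LinearMap.mem_ker.1 hu) i
      simp [Cfsg.quadFormPlus, hy]
    · have h := LinearMap.finrank_range_add_finrank_ker
        (LinearMap.funLeft (ZMod 2) (ZMod 2) (Sum.inr : Fin m → Fin m ⊕ Fin m))
      rw [LinearMap.range_eq_top.2 (LinearMap.funLeft_surjective_of_injective _ _ _ Sum.inr_injective),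
        finrank_top] at h
      simp at h
      omega
  · intro U hU
    let E : (Fin m ⊕ Fin m → ZMod 2) ≃ₗ[ZMod 2] (Fin m ⊕ Fin m → ZMod 2) × PUnit.{1} :=
      { toFun := fun v => (v, PUnit.unit)
        invFun := fun p => p.1
        map_add' := fun _ _ => rfl
        map_smul' := fun _ _ => rfl
        left_inv := fun _ => rfl
        right_inv := fun _ => rfl }
    have := finrank_le_of_isotropic (k := m) (Z := PUnit.{1}) (U.map E.toLinearMap) (fun _ => 0) (fun _ _ => rfl)
      (by rintro _ ⟨u, hu, rfl⟩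
          rw [add_zero]
          exact hU u hu)
    rwa [LinearEquiv.finrank_map_eq] at this
  · refine ⟨LinearMap.ker (LinearMap.funLeft (ZMod 2) (ZMod 2)
      (Sum.map Sum.inr id : Fin (m - 1) ⊕ Fin 2 → (Fin (m - 1) ⊕ Fin (m - 1)) ⊕ Fin 2)), ?_, ?_⟩
    · intro u hu
      have hy : ∀ i, u ((Sum.map Sum.inr id) i) = 0 := fun i => congrFun (LinearMap.mem_ker.1 hu) i
      have h0 := hy (.inr 0)
      have h1 := hy (.inr 1)
      have h2 : ∀ i, u (.inl (.inr i)) = 0 := fun i => hy (.inl i)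
      simp at h0 h1
      simp [Cfsg.quadFormMinus, h0, h1, h2]
    · have h := LinearMap.finrank_range_add_finrank_ker (LinearMap.funLeft (ZMod 2) (ZMod 2)
        (Sum.map Sum.inr id : Fin (m - 1) ⊕ Fin 2 → (Fin (m - 1) ⊕ Fin (m - 1)) ⊕ Fin 2))
      rw [LinearMap.range_eq_top.2 (LinearMap.funLeft_surjective_of_injective _ _ _
        (Sum.map_injective.2 ⟨Sum.inr_injective, Function.injective_id⟩)), finrank_top] at h
      simp at h
      omega
  · intro U hU
    let E := LinearEquiv.sumArrowLequivProdArrow (Fin (m - 1) ⊕ Fin (m - 1)) (Fin 2) (ZMod 2) (ZMod 2)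
    have := finrank_le_of_isotropic (k := m - 1) (Z := Fin 2 → ZMod 2) (U.map E.toLinearMap)
      (fun z : Fin 2 → ZMod 2 => z 0 ^ 2 + 1 * z 0 * z 1 + 1 * z 1 ^ 2)
      (by decide)
      (by rintro _ ⟨u, hu, rfl⟩
          exact hU u hu)
    rwa [LinearEquiv.finrank_map_eq] at this

end Cfsg.Agent.S2562
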