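import Cfsg.Statements.S2563
import Mathlib
import Cfsg.Agent.Lib.OrthTwo.EvenSets
import Cfsg.Agent.Lib.Classical.Standard
import Cfsg.Agent.Lib.Dickson.StdQuad
import Cfsg.Agent.Lib.Dickson.Decomp
import Cfsg.Agent.S2616
-- import your own Cfsg.Agent.* helpers here

set_option autoImplicit false
open Cfsg

namespace Cfsg.Agent.S2563

open QuadraticMap
open Lib.OrthTwo.EvenSets Lib.StdForms Lib.Classical

theorem finrank_even (k : ℕ) : Module.finrank (ZMod 2) (evenSpace (4 * k + 3)) = 2 * (2 * k + 1) := by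
  have := finrank_evenSpace (N := 4 * k + 3) (by omega)
  omega

theorem binAniso_one : BinAniso (1 : ZMod 2) 1 := by unfold BinAniso; decide

/-- the even-partition space is isometric to the standard plus or minus space -/
theorem exists_isometry (k : ℕ) :
    (∃ g : (Fin (2 * k + 1) ⊕ Fin (2 * k + 1) → ZMod 2) ≃ₗ[ZMod 2] evenSpace (4 * k + 3),
      ∀ v, evenQ (4 * k + 3) (g v) = Cfsg.quadFormPlus (2 * k + 1) (ZMod 2) v) ∨
    ∃ g : ((Fin (2 * k) ⊕ Fin (2 * k)) ⊕ Fin 2 → ZMod 2) ≃ₗ[ZMod 2] evenSpace (4 * k + 3),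
      ∀ v, evenQ (4 * k + 3) (g v) = Cfsg.quadFormMinus (2 * k) (ZMod 2) 1 1 v := by
  have hfr := finrank_even k
  rcases S2616.result (by omega) hfr (evenQ _) (nondegenerate_evenQ ⟨2 * k + 1, by ring⟩) with
    ⟨b, hq, hp, hd⟩ | ⟨b, ζ, hζ, hq, hp, hd, hx, h0, h01, h1⟩
  · refine Or.inl ?_
    have hd1 := fun i j => (hd i j).1
    have hd2 := fun i j => (hd i j).2
    refine (fun ⟨g, hg⟩ => ⟨g, fun v => by rw [hg, one_mul]; simp only [coe_plusQ, coe_minusQ]⟩) (Lib.Decomp.exists_similarity (plusQ_nondegenerate (F := ZMod 2) (2 * k + 1))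
      (evenQ (4 * k + 3)) (by rw [hfr, Module.finrank_fintype_fun_eq_card]; simp; ring)
      (Pi.basisFun (ZMod 2) _) (fun i => b i) one_ne_zero ?_ ?_)
    · intro i
      rw [Pi.basisFun_apply, coe_plusQ, one_mul]
      rcases i with i | i <;> simp [hq i, Cfsg.quadFormPlus, Pi.single_apply]
    · intro i j hij
      rw [Pi.basisFun_apply, Pi.basisFun_apply, coe_plusQ, one_mul, polar_plus]
      rcases i with i | i <;> rcases j with j | j <;>
        simp [hd1, hd2, hp, Pi.single_apply, polar_comm (⇑(evenQ _)) (b (Sum.inr i)) (b (Sum.inl j))] <;>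
        first
          | exact if_congr eq_comm rfl rfl
          | skip
  · refine Or.inr ?_
    obtain rfl : ζ = 1 := by
      rcases (by decide : ∀ t : ZMod 2, t = 0 ∨ t = 1) ζ with rfl | rfl
      · exact absurd (by simp) (hζ 0)
      · rfl
    have hd1 := fun i j => (hd i j).1
    have hd2 := fun i j => (hd i j).2
    have hx1 := fun i l => (hx i l).1
    have hx2 := fun i l => (hx i l).2
    refine (fun ⟨g, hg⟩ => ⟨g, fun v => by rw [hg, one_mul]; simp only [coe_plusQ, coe_minusQ]⟩) (Lib.Decomp.exists_similarity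
      (minusQ_nondegenerate (F := ZMod 2) binAniso_one (2 * k))
      (evenQ (4 * k + 3)) (by rw [hfr, Module.finrank_fintype_fun_eq_card]; simp; ring)
      (Pi.basisFun (ZMod 2) _) (fun i => b i) one_ne_zero ?_ ?_)
    · intro i
      rw [Pi.basisFun_apply, coe_minusQ, one_mul]
      match i with
      | .inl (.inl i) => simpa [Cfsg.quadFormMinus, Pi.single_apply] using (hq i).1
      | .inl (.inr i) => simpa [Cfsg.quadFormMinus, Pi.single_apply] using (hq i).2
      | .inr 0 => simpa [Cfsg.quadFormMinus, Pi.single_apply] using h0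
      | .inr 1 => simpa [Cfsg.quadFormMinus, Pi.single_apply] using h1
    · intro i j hij
      rw [Pi.basisFun_apply, Pi.basisFun_apply, coe_minusQ, one_mul, polar_minus]
      match i, j with
      | .inl (.inl i), .inl (.inl j) => simp [hd1, Pi.single_apply]
      | .inl (.inr i), .inl (.inr j) => simp [hd2, Pi.single_apply]
      | .inl (.inl i), .inl (.inr j) => simp [hp, Pi.single_apply] <;> exact if_congr eq_comm rfl rfl
      | .inl (.inr i), .inl (.inl j) =>
        rw [polar_comm, hp]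
        simp [Pi.single_apply] <;> exact if_congr eq_comm rfl rfl
      | .inl (.inl i), .inr j => simp [hx1, Pi.single_apply]
      | .inl (.inr i), .inr j => simp [hx2, Pi.single_apply]
      | .inr i, .inl (.inl j) => rw [polar_comm, hx1]; simp [Pi.single_apply]
      | .inr i, .inl (.inr j) => rw [polar_comm, hx2]; simp [Pi.single_apply]
      | .inr 0, .inr 0 => exact absurd rfl hij
      | .inr 1, .inr 1 => exact absurd rfl hij
      | .inr 0, .inr 1 => simpa [Pi.single_apply] using h01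
      | .inr 1, .inr 0 =>
        rw [polar_comm]
        simpa [Pi.single_apply] using h01

theorem pow_neg_four (k : ℕ) : ((-4 : ℤ)) ^ k = (-1) ^ k * 2 ^ (2 * k) := by
  rw [pow_mul, ← mul_pow]; norm_num

theorem exists_isometry_plus {k : ℕ} (hk : Odd k) :
    ∃ g : (Fin (2 * k + 1) ⊕ Fin (2 * k + 1) → ZMod 2) ≃ₗ[ZMod 2] evenSpace (4 * k + 3),
      ∀ v, evenQ (4 * k + 3) (g v) = Cfsg.quadFormPlus (2 * k + 1) (ZMod 2) v := by
  refine (exists_isometry k).resolve_right fun ⟨g, hg⟩ => ?_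
  have h1 := natCard_zeros_evenQ k
  rw [← natCard_zeros_congr g hg] at *
  have h2 := natCard_zeros_minus (F := ZMod 2) binAniso_one (2 * k)
  rw [show Nat.card (ZMod 2) = 2 by simp] at h2
  have h2' : (_ : ℤ) = _ := congrArg (Nat.cast : ℕ → ℤ) h2
  push_cast at h2'
  rw [pow_neg_four, hk.neg_one_pow] at h1
  rw [h1, show 2 * (2 * k) + 1 = 4 * k + 1 by ring, pow_succ (2 : ℤ) (2 * k)] at h2'
  have : (0 : ℤ) < 2 ^ (2 * k) := by positivity
  linarith

theorem exists_isometry_minus {k : ℕ} (hk : Even k) :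
    ∃ g : ((Fin (2 * k) ⊕ Fin (2 * k)) ⊕ Fin 2 → ZMod 2) ≃ₗ[ZMod 2] evenSpace (4 * k + 3),
      ∀ v, evenQ (4 * k + 3) (g v) = Cfsg.quadFormMinus (2 * k) (ZMod 2) 1 1 v := by
  refine (exists_isometry k).resolve_left fun ⟨g, hg⟩ => ?_
  have h1 := natCard_zeros_evenQ k
  rw [← natCard_zeros_congr g hg] at *
  have h2 := natCard_zeros_plus (F := ZMod 2) (2 * k)
  rw [show Nat.card (ZMod 2) = 2 by simp] at h2
  have h2' : (_ : ℤ) = _ := congrArg (Nat.cast : ℕ → ℤ) h2
  push_cast at h2'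
  rw [pow_neg_four, hk.neg_one_pow] at h1
  rw [h1, show 2 * (2 * k) + 1 = 4 * k + 1 by ring, pow_succ (2 : ℤ) (2 * k)] at h2'
  have : (0 : ℤ) < 2 ^ (2 * k) := by positivity
  linarith

theorem result (k : ℕ) (hk : 1 ≤ k) : (Odd k → ∃ φ : Equiv.Perm (Fin (4 * k + 4)) →* ↥(Cfsg.isometryGroup (ZMod 2) (Cfsg.quadFormPlus (2 * k + 1) (ZMod 2))), Function.Injective φ) ∧ (Even k → ∃ φ : Equiv.Perm (Fin (4 * k + 4)) →* ↥(Cfsg.isometryGroup (ZMod 2) (Cfsg.quadFormMinus (2 * k) (ZMod 2) 1 1)), Function.Injective φ) := by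
  have hN : (4 * k + 3) % 4 = 3 := by omega
  have hinj : Function.Injective (evenHom (N := 4 * k + 3) hN) := evenHom_injective hN (by omega)
  constructor
  · intro ho
    obtain ⟨g, hg⟩ := exists_isometry_plus ho
    let e := (isometryGroupEquiv (Cfsg.quadFormPlus (2 * k + 1) (ZMod 2))).trans
      (isoGroupCongr g (Q' := ⇑(evenQ (4 * k + 3))) 1 (fun v => by rw [Units.val_one, one_mul, hg]))
    exact ⟨e.symm.toMonoidHom.comp (evenHom hN), e.symm.injective.comp hinj⟩
  · intro he
    obtain ⟨g, hg⟩ := exists_isometry_minus he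
    let e := (isometryGroupEquiv (Cfsg.quadFormMinus (2 * k) (ZMod 2) 1 1)).trans
      (isoGroupCongr g (Q' := ⇑(evenQ (4 * k + 3))) 1 (fun v => by rw [Units.val_one, one_mul, hg]))
    exact ⟨e.symm.toMonoidHom.comp (evenHom hN), e.symm.injective.comp hinj⟩

end Cfsg.Agent.S2563
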