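import Cfsg.Statements.S2564
import Mathlib
-- import your own Cfsg.Agent.* helpers here

set_option autoImplicit false
open Cfsg

namespace Cfsg.Agent.S2564
theorem sum_char_ne_zero {V : Type*} [AddCommGroup V] [Fintype V]
    (q : V → ZMod 2) (f : V → V → ZMod 2)
    (hq : ∀ u v, q (u + v) = q u + q v + f u v)
    (hadd : ∀ d u u', f (u + u') d = f u d + f u' d)
    (hnd : ∀ d, d ≠ 0 → ∃ u, f u d = 1) :
    (∑ v, (if q v = 0 then 1 else -1 : ℤ)) ≠ 0 := by
  classical
  let χ : ZMod 2 → ℤ := fun x => if x = 0 then 1 else -1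
  have hχ : ∀ x y, χ (x + y) = χ x * χ y := by decide
  have hsq : (∑ v, χ (q v)) * (∑ v, χ (q v)) = Fintype.card V := by
    rw [Finset.sum_mul_sum]
    have h1 : ∀ u, ∑ v, χ (q u) * χ (q v) = ∑ d, χ (q d) * χ (f u d) := by
      intro u
      rw [← Equiv.sum_comp (Equiv.addLeft u)]
      refine Finset.sum_congr rfl fun d _ => ?_
      rw [Equiv.coe_addLeft, hq, hχ, hχ, ← mul_assoc, ← mul_assoc, ← hχ (q u),
        show q u + q u = 0 by exact CharTwo.add_self_eq_zero _]
      simp [χ]
    simp only [h1]
    rw [Finset.sum_comm, Finset.sum_eq_single 0]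
    · rw [← Finset.mul_sum]
      have hf0 : ∀ u, f u 0 = 0 := by
        intro u
        have h0 := hq 0 0
        rw [add_zero] at h0
        have h1 := hq u 0
        rw [add_zero] at h1
        have h2 : q 0 = 0 := by
          have h3 : f 0 0 = 0 := by
            have := hadd 0 0 0
            rw [add_zero] at this
            linear_combination -this
          rw [h3] at h0
          linear_combination -h0
        rw [h2] at h1
        linear_combination -h1
      have hq0 : q 0 = 0 := by
        have h0 := hq 0 0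
        rw [add_zero, hf0] at h0
        linear_combination -h0
      simp [hf0, hq0, χ]
    · intro d _ hd
      rw [← Finset.mul_sum]
      obtain ⟨u0, hu0⟩ := hnd d hd
      have : ∑ u, χ (f u d) = 0 := by
        have h2 : ∑ u, χ (f u d) = -∑ u, χ (f u d) := by
          conv_lhs => rw [← Equiv.sum_comp (Equiv.addRight u0)]
          rw [← Finset.sum_neg_distrib]
          refine Finset.sum_congr rfl fun u _ => ?_
          rw [Equiv.coe_addRight, hadd, hχ, hu0]
          simp [χ]
        omega
      rw [this, mul_zero]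
    · intro h
      exact absurd (Finset.mem_univ _) h
  intro h
  rw [show (∑ v, χ (q v)) = 0 from h, mul_zero] at hsq
  have : 0 < Fintype.card V := Fintype.card_pos
  omega


/-- On the 2m-dimensional space over the field of two elements (m ≥ 1) let f be the alternating form obtained by polarizing the plus-type form Σ xᵢyᵢ, and let q be any quadratic form polarizing to f. For a vector w, the function q + f(·, w) again polarizes to f, and it is equivalent to q under an invertible linear map (that is, has the same type) if and only if q(w) = 0. -/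
theorem result (m : ℕ) (hm : 1 ≤ m) (q : (Fin m ⊕ Fin m → ZMod 2) → ZMod 2) (hq : (∀ u v : (Fin m ⊕ Fin m → ZMod 2), q (u + v) = q u + q v + (Cfsg.quadFormPlus m (ZMod 2) (u + v) - Cfsg.quadFormPlus m (ZMod 2) u - Cfsg.quadFormPlus m (ZMod 2) v))) (w : (Fin m ⊕ Fin m → ZMod 2)) :
    (∀ u v : (Fin m ⊕ Fin m → ZMod 2), (q (u + v) + (Cfsg.quadFormPlus m (ZMod 2) (u + v + w) - Cfsg.quadFormPlus m (ZMod 2) (u + v) - Cfsg.quadFormPlus m (ZMod 2) w)) =
        (q u + (Cfsg.quadFormPlus m (ZMod 2) (u + w) - Cfsg.quadFormPlus m (ZMod 2) u - Cfsg.quadFormPlus m (ZMod 2) w)) + (q v + (Cfsg.quadFormPlus m (ZMod 2) (v + w) - Cfsg.quadFormPlus m (ZMod 2) v - Cfsg.quadFormPlus m (ZMod 2) w)) +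
        (Cfsg.quadFormPlus m (ZMod 2) (u + v) - Cfsg.quadFormPlus m (ZMod 2) u - Cfsg.quadFormPlus m (ZMod 2) v)) ∧
    ((∃ g : (Fin m ⊕ Fin m → ZMod 2) ≃ₗ[ZMod 2] (Fin m ⊕ Fin m → ZMod 2), ∀ v, q v + (Cfsg.quadFormPlus m (ZMod 2) (v + w) - Cfsg.quadFormPlus m (ZMod 2) v - Cfsg.quadFormPlus m (ZMod 2) w) = q (g v)) ↔ q w = 0) := by
  classical
  let P := Cfsg.quadFormPlus m (ZMod 2)
  let f : (Fin m ⊕ Fin m → ZMod 2) → (Fin m ⊕ Fin m → ZMod 2) → ZMod 2 := fun u v =>
    P (u + v) - P u - P v
  have hf : ∀ u v, f u v = ∑ i, (u (.inl i) * v (.inr i) + v (.inl i) * u (.inr i)) := by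
    intro u v
    simp only [f, P, Cfsg.quadFormPlus, Pi.add_apply, ← Finset.sum_sub_distrib]
    exact Finset.sum_congr rfl fun i _ => by ring
  have hadd : ∀ d u u', f (u + u') d = f u d + f u' d := by
    intro d u u'
    simp only [hf, Pi.add_apply, ← Finset.sum_add_distrib]
    exact Finset.sum_congr rfl fun i _ => by ring
  have hsymm : ∀ u v, f u v = f v u := fun u v => by
    simp only [hf]
    exact Finset.sum_congr rfl fun i _ => by ring
  have hsmul : ∀ (c : ZMod 2) u v, f (c • u) v = c * f u v := by
    intro c u v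
    simp only [hf, Pi.smul_apply, smul_eq_mul, Finset.mul_sum]
    exact Finset.sum_congr rfl fun i _ => by ring
  have hff : ∀ u, f u u = 0 := fun u => by
    simp only [hf, CharTwo.add_self_eq_zero, Finset.sum_const_zero]
  have hqf : ∀ u v, q (u + v) = q u + q v + f u v := hq
  have hpol : ∀ u v, q (u + v) + f (u + v) w = (q u + f u w) + (q v + f v w) + f u v := by
    intro u v
    rw [hqf, hadd]
    ring
  refine ⟨hpol, ?_⟩
  have hq0 : q 0 = 0 := by
    have h := hqf 0 0
    rw [add_zero, hff] at h
    linear_combination -h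
  constructor
  · rintro ⟨g, hg⟩
    by_contra hw
    have hw1 : q w = 1 := (show ∀ x : ZMod 2, x ≠ 0 → x = 1 by decide) (q w) hw
    let S : ℤ := ∑ v, (if q v = 0 then 1 else -1 : ℤ)
    have hS : S ≠ 0 := sum_char_ne_zero q f hqf hadd (by
      intro d hd
      obtain ⟨j, hj⟩ := Function.ne_iff.1 hd
      have hj1 : d j = 1 := (show ∀ x : ZMod 2, x ≠ 0 → x = 1 by decide) (d j) hj
      cases j with
      | inl i =>
        refine ⟨Pi.single (.inr i) 1, ?_⟩
        rw [hf, Finset.sum_eq_single i]
        · simp [hj1]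
        · intro b _ hb; simp [hb]
        · simp
      | inr i =>
        refine ⟨Pi.single (.inl i) 1, ?_⟩
        rw [hf, Finset.sum_eq_single i]
        · simp [hj1]
        · intro b _ hb; simp [hb]
        · simp)
    apply hS
    have h1 : S = ∑ v, (if q v + f v w = 0 then 1 else -1 : ℤ) := by
      simp only [S]
      rw [← Equiv.sum_comp g.toEquiv]
      refine Finset.sum_congr rfl fun v _ => ?_
      have := hg v
      show (if q (g v) = 0 then 1 else -1 : ℤ) = _
      rw [← this]
    have h2 : S = -∑ v, (if q v + f v w = 0 then 1 else -1 : ℤ) := by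
      simp only [S]
      rw [← Finset.sum_neg_distrib, ← Equiv.sum_comp (Equiv.addRight w)]
      refine Finset.sum_congr rfl fun v _ => ?_
      rw [Equiv.coe_addRight, hqf, hw1]
      have key : ∀ a b : ZMod 2, (if a + 1 + b = 0 then 1 else -1 : ℤ) =
          -(if a + b = 0 then 1 else -1 : ℤ) := by decide
      exact key _ _
    omega
  · intro hw
    let g : (Fin m ⊕ Fin m → ZMod 2) →ₗ[ZMod 2] (Fin m ⊕ Fin m → ZMod 2) :=
      { toFun := fun v => v + f v w • w
        map_add' := fun a b => by rw [hadd, add_smul]; abel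
        map_smul' := fun c a => by rw [hsmul, mul_smul, RingHom.id_apply, smul_add] }
    have hgi : Function.Involutive g := by
      intro v
      show v + f v w • w + f (v + f v w • w) w • w = v
      rw [hadd, hsmul, hff, mul_zero, add_zero, add_assoc, ← add_smul, CharTwo.add_self_eq_zero,
        zero_smul, add_zero]
    refine ⟨LinearEquiv.ofInvolutive g hgi, fun v => ?_⟩
    show q v + f v w = q (v + f v w • w)
    rw [hqf, hsymm v (f v w • w), hsmul, hsymm w v]
    have hs : ∀ c : ZMod 2, q (c • w) = 0 := by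
      intro c
      have : c = 0 ∨ c = 1 := by revert c; decide
      rcases this with rfl | rfl <;> simp [hq0, hw]
    rw [hs, add_zero]
    have key : ∀ a : ZMod 2, a * a = a := by decide
    rw [key]

end Cfsg.Agent.S2564
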