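import Cfsg.Statements.S2565
import Mathlib
import Cfsg.Agent.S2563
-- import your own Cfsg.Agent.* helpers here

set_option autoImplicit false
open Cfsg

namespace Cfsg.Agent.S2565

theorem exists_equiv :
    Nonempty (Equiv.Perm (Fin 8) ≃* ↥(Cfsg.isometryGroup (ZMod 2) (Cfsg.quadFormPlus 3 (ZMod 2)))) := by
  obtain ⟨φ, hφ⟩ : ∃ φ : Equiv.Perm (Fin 8) →* ↥(Cfsg.isometryGroup (ZMod 2) (Cfsg.quadFormPlus 3 (ZMod 2))),
      Function.Injective φ := (S2563.result 1 le_rfl).1 odd_one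
  refine ⟨MulEquiv.ofBijective φ ((Nat.bijective_iff_injective_and_card φ).2 ⟨hφ, ?_⟩)⟩
  rw [show (3 : ℕ) = 2 + 1 from rfl, Lib.Classical.natCard_isometryGroup_plus]
  simp [Nat.card_eq_fintype_card, Fintype.card_perm, Finset.prod_range_succ, Nat.factorial]

theorem result : (Cfsg.Omega (ZMod 2) (Cfsg.quadFormPlus 3 (ZMod 2))).index = 2 ∧ Nonempty (↥(Cfsg.Omega (ZMod 2) (Cfsg.quadFormPlus 3 (ZMod 2))) ≃* alternatingGroup (Fin 8)) := by
  obtain ⟨e⟩ := exists_equiv
  have hmap : (alternatingGroup (Fin 8)).map e.toMonoidHom =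
      Cfsg.Omega (ZMod 2) (Cfsg.quadFormPlus 3 (ZMod 2)) := by
    rw [← alternatingGroup.commutator_perm_eq (α := Fin 8) (by simp), commutator_def,
      Subgroup.map_commutator, Subgroup.map_top_of_surjective e.toMonoidHom e.surjective]
    rfl
  refine ⟨?_, ⟨((Subgroup.equivMapOfInjective _ e.toMonoidHom e.injective).trans
    (MulEquiv.subgroupCongr hmap)).symm⟩⟩
  rw [← hmap]
  exact ((alternatingGroup (Fin 8)).index_map_equiv e).trans alternatingGroup.index_eq_two

end Cfsg.Agent.S2565
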