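import Cfsg.Statements.S2566
import Mathlib
import Cfsg.Agent.Lib.Classical.Standard
-- import your own Cfsg.Agent.* helpers here

set_option autoImplicit false
open Cfsg

namespace Cfsg.Agent.S2566

abbrev I4 := Fin 2 ⊕ Fin 2

/-- position of a coordinate in the 2×2 matrix `[[x₁,x₂],[y₂,y₁]]` -/
def pos : I4 → Fin 2 × Fin 2 :=
  Sum.elim ![(0, 0), (0, 1)] ![(1, 1), (1, 0)]

/-- the two-dimensional representation of the symmetric group of degree 3 -/
def rep3 (σ : Equiv.Perm (Fin 3)) : Matrix (Fin 2) (Fin 2) (ZMod 2) :=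
  !![![1, 1, 0] (σ.symm 0), ![0, 1, 1] (σ.symm 0); ![1, 1, 0] (σ.symm 2), ![0, 1, 1] (σ.symm 2)]

def leftMat (σ : Equiv.Perm (Fin 3)) : Matrix I4 I4 (ZMod 2) := Matrix.of fun a b =>
  if (pos a).2 = (pos b).2 then rep3 σ (pos a).1 (pos b).1 else 0

def rightMat (σ : Equiv.Perm (Fin 3)) : Matrix I4 I4 (ZMod 2) := Matrix.of fun a b =>
  if (pos a).1 = (pos b).1 then rep3 σ (pos a).2 (pos b).2 else 0

def swapMat : Matrix I4 I4 (ZMod 2) := Matrix.of fun a b =>
  if ((pos a).2, (pos a).1) = pos b then 1 else 0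

def leftMonHom : Equiv.Perm (Fin 3) →* Matrix I4 I4 (ZMod 2) where
  toFun := leftMat
  map_one' := by decide +kernel
  map_mul' := by decide +kernel

def rightMonHom : Equiv.Perm (Fin 3) →* Matrix I4 I4 (ZMod 2) where
  toFun := rightMat
  map_one' := by decide +kernel
  map_mul' := by decide +kernel

theorem leftMat_iso : ∀ σ, ∀ v : I4 → ZMod 2,
    Cfsg.quadFormPlus 2 (ZMod 2) (Matrix.mulVec (leftMat σ) v) = Cfsg.quadFormPlus 2 (ZMod 2) v := by
  decide +kernel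

theorem rightMat_iso : ∀ σ, ∀ v : I4 → ZMod 2,
    Cfsg.quadFormPlus 2 (ZMod 2) (Matrix.mulVec (rightMat σ) v) = Cfsg.quadFormPlus 2 (ZMod 2) v := by
  decide +kernel

theorem swapMat_iso : ∀ v : I4 → ZMod 2,
    Cfsg.quadFormPlus 2 (ZMod 2) (Matrix.mulVec swapMat v) = Cfsg.quadFormPlus 2 (ZMod 2) v := by
  decide +kernel

theorem swapMat_sq : swapMat * swapMat = 1 := by decide +kernel

theorem left_right_comm : ∀ σ τ, leftMat σ * rightMat τ = rightMat τ * leftMat σ := by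
  decide +kernel

theorem left_eq_right : ∀ σ τ, leftMat σ = rightMat τ → σ = 1 ∧ τ = 1 := by decide +kernel

theorem left_inj : ∀ σ, leftMat σ = 1 → σ = 1 := by decide +kernel

theorem right_inj : ∀ σ, rightMat σ = 1 → σ = 1 := by decide +kernel

theorem swap_left : ∀ σ, swapMat * leftMat σ * swapMat = rightMat σ := by decide +kernel

abbrev GO4 : Subgroup (Matrix.GeneralLinearGroup I4 (ZMod 2)) :=
  Cfsg.isometryGroup (ZMod 2) (Cfsg.quadFormPlus 2 (ZMod 2))

def leftHom : Equiv.Perm (Fin 3) →* ↥GO4 :=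
  leftMonHom.toHomUnits.codRestrict _ fun σ u _ => leftMat_iso σ u

def rightHom : Equiv.Perm (Fin 3) →* ↥GO4 :=
  rightMonHom.toHomUnits.codRestrict _ fun σ u _ => rightMat_iso σ u

def swapElt : ↥GO4 :=
  ⟨⟨swapMat, swapMat, swapMat_sq, swapMat_sq⟩, fun u _ => swapMat_iso u⟩

theorem mat_injective {x y : ↥GO4}
    (h : ((x : Matrix.GeneralLinearGroup I4 (ZMod 2)) : Matrix I4 I4 (ZMod 2)) =
      ((y : Matrix.GeneralLinearGroup I4 (ZMod 2)) : Matrix I4 I4 (ZMod 2))) : x = y :=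
  Subtype.ext (Units.ext h)

theorem natCard_GO4 : Nat.card ↥GO4 = 72 := by
  rw [show GO4 = Cfsg.isometryGroup (ZMod 2) (Cfsg.quadFormPlus (1 + 1) (ZMod 2)) from rfl,
    Lib.Classical.natCard_isometryGroup_plus]
  simp

theorem result : Nat.card ↥(Cfsg.isometryGroup (ZMod 2) (Cfsg.quadFormPlus 2 (ZMod 2))) = 72 ∧ ∃ (A B : Subgroup ↥(Cfsg.isometryGroup (ZMod 2) (Cfsg.quadFormPlus 2 (ZMod 2)))), Nonempty (↥A ≃* Equiv.Perm (Fin 3)) ∧ Nonempty (↥B ≃* Equiv.Perm (Fin 3)) ∧ A ⊓ B = ⊥ ∧ (∀ a ∈ A, ∀ b ∈ B, a * b = b * a) ∧ (A ⊔ B).index = 2 ∧ ∃ g : ↥(Cfsg.isometryGroup (ZMod 2) (Cfsg.quadFormPlus 2 (ZMod 2))), A.map (MulAut.conj g).toMonoidHom = B := by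
  have hl : Function.Injective leftHom := (injective_iff_map_eq_one _).2 fun σ h =>
    left_inj σ (congrArg (fun x : ↥GO4 => ((x : Matrix.GeneralLinearGroup I4 (ZMod 2)) :
      Matrix I4 I4 (ZMod 2))) h)
  have hr : Function.Injective rightHom := (injective_iff_map_eq_one _).2 fun σ h =>
    right_inj σ (congrArg (fun x : ↥GO4 => ((x : Matrix.GeneralLinearGroup I4 (ZMod 2)) :
      Matrix I4 I4 (ZMod 2))) h)
  have hcomm : ∀ σ τ, Commute (leftHom σ) (rightHom τ) := fun σ τ =>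
    mat_injective (left_right_comm σ τ)
  refine ⟨natCard_GO4, leftHom.range, rightHom.range,
    ⟨(MonoidHom.ofInjective hl).symm⟩, ⟨(MonoidHom.ofInjective hr).symm⟩, ?_, ?_, ?_, swapElt, ?_⟩
  · rw [eq_bot_iff]
    rintro x ⟨⟨σ, hσ⟩, ⟨τ, hτ⟩⟩
    have h := congrArg (fun x : ↥GO4 => ((x : Matrix.GeneralLinearGroup I4 (ZMod 2)) :
      Matrix I4 I4 (ZMod 2))) (hσ.trans hτ.symm)
    rw [← hσ, (left_eq_right σ τ h).1, map_one]
    exact one_mem _
  · rintro _ ⟨σ, rfl⟩ _ ⟨τ, rfl⟩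
    exact hcomm σ τ
  · let ψ := MonoidHom.noncommCoprod leftHom rightHom hcomm
    have hinj : Function.Injective ψ := by
      refine (injective_iff_map_eq_one _).2 fun p h => ?_
      rw [MonoidHom.noncommCoprod_apply] at h
      have h' := congrArg (fun x : ↥GO4 => ((x : Matrix.GeneralLinearGroup I4 (ZMod 2)) :
        Matrix I4 I4 (ZMod 2))) (eq_inv_of_mul_eq_one_left h)
      rw [← map_inv] at h'
      obtain ⟨h1, h2⟩ := left_eq_right _ _ h'
      exact Prod.ext h1 (inv_eq_one.1 h2)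
    have hrange : ψ.range = leftHom.range ⊔ rightHom.range :=
      MonoidHom.noncommCoprod_range _ _ _
    have hcard : Nat.card ↥ψ.range = 36 := by
      rw [← Nat.card_congr (MonoidHom.ofInjective hinj).toEquiv]
      simp [Fintype.card_perm, Nat.factorial]
    have := Subgroup.card_mul_index ψ.range
    rw [natCard_GO4, hcard] at this
    rw [← hrange]
    omega
  · rw [MonoidHom.map_range]
    congr 1
    exact MonoidHom.ext fun σ => mat_injective (swap_left σ)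

end Cfsg.Agent.S2566
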