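import Cfsg.Statements.S2567
import Mathlib
-- import your own Cfsg.Agent.* helpers here

set_option autoImplicit false
open Cfsg

namespace Cfsg.Agent.S2567

/-- Lifting elements of prime order from PGL to GL: let F be a finite field with q elements, r a prime not dividing q − 1, and x an element of order r in GL_n(F) modulo its centre (the scalar matrices). Then x has exactly one preimage in GL_n(F) of order r. -/
theorem result {F : Type*} [Field F] [Fintype F] {q n r : ℕ} (hF : Fintype.card F = q) (hr : r.Prime) (hdiv : ¬ r ∣ q - 1) (x : GL (Fin n) F ⧸ Subgroup.center (GL (Fin n) F)) (hx : orderOf x = r) : ∃! g : GL (Fin n) F, (QuotientGroup.mk g : GL (Fin n) F ⧸ Subgroup.center (GL (Fin n) F)) = x ∧ orderOf g = r := by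
  have hc : ∀ c ∈ Subgroup.center (GL (Fin n) F), c ^ (q - 1) = 1 := by
    intro c hc
    rw [Matrix.GeneralLinearGroup.center_eq_range_scalar] at hc
    obtain ⟨a, rfl⟩ := hc
    have ha : a ^ (q - 1) = 1 := by
      rw [← hF, ← Nat.card_eq_fintype_card, ← Nat.card_units]
      exact pow_card_eq_one'
    rw [← map_pow, ha, map_one]
  have hcop : Nat.Coprime r (q - 1) := (Nat.Prime.coprime_iff_not_dvd hr).2 hdiv
  have huniq : ∀ c ∈ Subgroup.center (GL (Fin n) F), c ^ r = 1 → c = 1 := by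
    intro c hc' h
    have := pow_gcd_eq_one.2 ⟨h, hc c hc'⟩
    rwa [hcop.gcd_eq_one, pow_one] at this
  obtain ⟨g0, rfl⟩ := QuotientGroup.mk_surjective x
  have hz : g0 ^ r ∈ Subgroup.center (GL (Fin n) F) := by
    rw [← QuotientGroup.eq_one_iff, QuotientGroup.mk_pow, ← hx]
    exact pow_orderOf_eq_one _
  obtain ⟨k, -, hk⟩ : ∃ k, k < q - 1 + 2 ∧ (g0 ^ r) ^ (k * r) = g0 ^ r := by
    have hq2 : 2 ≤ q := hF ▸ Fintype.one_lt_card
    rcases Nat.lt_or_ge 1 (q - 1) with h1 | h1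
    · obtain ⟨k, hk, hk'⟩ := Nat.exists_mul_mod_eq_one_of_coprime hcop h1
      refine ⟨k, by omega, ?_⟩
      conv_rhs => rw [← pow_one (g0 ^ r)]
      rw [pow_eq_pow_mod (k * r) (hc _ hz), mul_comm, hk']
    · have hq1 : q - 1 = 1 := by omega
      refine ⟨0, by omega, ?_⟩
      have := hc _ hz
      rw [hq1, pow_one] at this
      simp [this]
  have hzk : (g0 ^ r) ^ k ∈ Subgroup.center (GL (Fin n) F) := pow_mem hz k
  refine ⟨g0 * ((g0 ^ r) ^ k)⁻¹, ⟨?_, ?_⟩, ?_⟩
  · rw [QuotientGroup.mk_mul, QuotientGroup.mk_inv, (QuotientGroup.eq_one_iff _).2 hzk, inv_one,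
      mul_one]
  · have hcomm : Commute g0 ((g0 ^ r) ^ k)⁻¹ :=
      (((Commute.refl g0).pow_right r).pow_right k).inv_right
    have h1 : (g0 * ((g0 ^ r) ^ k)⁻¹) ^ r = 1 := by
      rw [hcomm.mul_pow, inv_pow, ← pow_mul (g0 ^ r) k r, hk, mul_inv_cancel]
    refine (Nat.dvd_prime hr).1 (orderOf_dvd_of_pow_eq_one h1) |>.resolve_left ?_
    rw [orderOf_eq_one_iff]
    intro h
    apply hr.ne_one
    rw [← hx, orderOf_eq_one_iff, QuotientGroup.eq_one_iff, eq_of_mul_inv_eq_one h]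
    exact hzk
  · rintro g ⟨hg, hgo⟩
    have hmem : (g0 * ((g0 ^ r) ^ k)⁻¹)⁻¹ * g ∈ Subgroup.center (GL (Fin n) F) := by
      rw [← QuotientGroup.eq, hg, QuotientGroup.mk_mul, QuotientGroup.mk_inv,
        (QuotientGroup.eq_one_iff _).2 hzk, inv_one, mul_one]
    set g' := g0 * ((g0 ^ r) ^ k)⁻¹ with hg'
    have hcomm : Commute g'⁻¹ g := by
      have := Subgroup.mem_center_iff.1 hmem g'
      rw [mul_inv_cancel_left] at this
      have h2 : g = g'⁻¹ * g * g' := this
      show g'⁻¹ * g = g * g'⁻¹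
      calc g'⁻¹ * g = g'⁻¹ * g * g' * g'⁻¹ := by group
        _ = g * g'⁻¹ := by rw [← h2]
    have hg'r : g' ^ r = 1 := by
      have hcomm : Commute g0 ((g0 ^ r) ^ k)⁻¹ :=
        (((Commute.refl g0).pow_right r).pow_right k).inv_right
      rw [hg', hcomm.mul_pow, inv_pow, ← pow_mul (g0 ^ r) k r, hk, mul_inv_cancel]
    have := huniq _ hmem (by rw [hcomm.mul_pow, inv_pow, hg'r, ← hgo, pow_orderOf_eq_one]; simp)
    exact (inv_mul_eq_one.1 this).symm

end Cfsg.Agent.S2567
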