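import Cfsg.Statements.S2568
import Cfsg.Agent.Lib.FormConj.Count
import Cfsg.Agent.Lib.FormConj.Realise
-- import your own Cfsg.Agent.* helpers here

set_option autoImplicit false
open Cfsg

namespace Cfsg.Agent.S2568

/-- Number of conjugacy classes of elements of a given prime order r, coprime to the characteristic, in GL_n(q): if i is the multiplicative order of q modulo r and t = (r − 1)/i, the classes correspond to the non-zero t-tuples of natural numbers (a_1, …, a_t) with i(a_1 + ⋯ + a_t) ≤ n (a_j is the multiplicity of the j-th Frobenius orbit of nontrivial r-th roots of unity among the eigenvalues), so there are exactly C(⌊n/i⌋ + t, t) − 1 of them. -/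
theorem result {F : Type*} [Field F] [Fintype F] {p q : ℕ} [Fact p.Prime] [CharP F p] (hF : Fintype.card F = q) (n r i t : ℕ) (hr : r.Prime) (hrp : r ≠ p) (hi : i = orderOf (q : ZMod r)) (ht : t * i = r - 1) : Nat.card {C : ConjClasses (GL (Fin n) F) // ∃ g : GL (Fin n) F, ConjClasses.mk g = C ∧ orderOf g = r} = Nat.choose (n / i + t) t - 1 := by
  open Cfsg.Agent.Lib in
  classical
  haveI : Fact r.Prime := ⟨hr⟩
  have hrF : (r : F) ≠ 0 := fun h => hrp
    ((Nat.prime_dvd_prime_iff_eq Fact.out hr).1 ((CharP.cast_eq_zero_iff F p r).1 h)).symm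
  obtain ⟨ζ, hζ⟩ := FormConj.exists_root F hrF
  obtain ⟨f, -, hf⟩ := FiniteField.card F p
  obtain ⟨u, hu⟩ := FormConj.exists_unit_natCast (r := r) (p := p) Fact.out hrp f
  rw [← hf] at hu
  have hui : i = orderOf u := by rw [hi, ← orderOf_units, hu, hF]
  have hcardH : Nat.card (Subgroup.zpowers u) = i := by rw [Nat.card_zpowers, hui]
  have key := FormConj.natCard_classes (Subgroup.zpowers u) (algebraMap F (AlgebraicClosure F)) hζ
    (Units.coeHom (Matrix (Fin n) (Fin n) F)) Units.val_injective hrF (G := GL (Fin n) F) (n := n) ?_ ?_ ?_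
  · have hi0 : 0 < i := hui ▸ orderOf_pos u
    rw [key, FormConj.index_eq_div, hcardH, ← ht, Nat.mul_div_cancel _ hi0]
  · intro g g' _ _ h
    obtain ⟨c, hc⟩ := h
    exact isConj_iff.2 ⟨c, mul_inv_eq_iff_eq_mul.2 (Units.ext hc.eq)⟩
  · intro g _ μ hμ
    rw [Subgroup.zpowers_eq_closure]
    refine FormConj.isInv_closure fun x hx a => ?_
    obtain rfl : x = u := hx
    exact FormConj.mult_card_mul _ hζ hμ x hu a
  · intro μ hμ hsum
    obtain ⟨A, hA, hAm⟩ := FormConj.exists_of_mult (algebraMap F (AlgebraicClosure F)) hζ hrF μ hsum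
      (fun a => by rw [← hu]; exact hμ u (Subgroup.mem_zpowers u) a) (hu ▸ u.isUnit)
    obtain ⟨g, hg⟩ := IsUnit.of_pow_eq_one hA hr.ne_zero
    exact ⟨g, Units.ext (by rw [Units.val_pow_eq_pow_val, hg, hA, Units.val_one]), by rw [Units.coeHom_apply, hg]; exact hAm⟩

end Cfsg.Agent.S2568
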