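import Cfsg.Statements.S2569
import Mathlib
-- import your own Cfsg.Agent.* helpers here

set_option autoImplicit false
open Cfsg

namespace Cfsg.Agent.S2569

open Polynomial

/-- A semisimple endomorphism over a finite field commutes with automorphisms of every determinant. -/
theorem exists_commute_det_eq {F : Type*} [Field F] [Finite F] {V : Type*} [AddCommGroup V]
    [Module F V] [FiniteDimensional F V] [Nontrivial V] (T : Module.End F V) (hT : T.IsSemisimple)
    (a : F) (ha : a ≠ 0) : ∃ σ : V ≃ₗ[F] V, (∀ v, σ (T v) = T (σ v)) ∧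
      LinearMap.det (σ : V →ₗ[F] V) = a := by
  classical
  haveI : IsSemisimpleModule F[X] (Module.AEval' T) := hT
  haveI : Nontrivial (Module.AEval' T) := (Module.AEval'.of T).symm.toEquiv.nontrivial
  obtain ⟨W, hW⟩ := IsSemisimpleModule.exists_simple_submodule F[X] (Module.AEval' T)
  haveI := hW
  obtain ⟨C, hC⟩ := exists_isCompl W
  obtain ⟨I, hI, ⟨eW⟩⟩ := isSimpleModule_iff_quot_maximal.1 hW
  haveI := hI
  letI : Field (F[X] ⧸ I) := Ideal.Quotient.field I
  haveI : FiniteDimensional F (W.restrictScalars F) := inferInstance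
  haveI : FiniteDimensional F W := ‹FiniteDimensional F (W.restrictScalars F)›
  haveI : FiniteDimensional F C :=
    (inferInstance : FiniteDimensional F (C.restrictScalars F))
  haveI : FiniteDimensional F (F[X] ⧸ I) := LinearEquiv.finiteDimensional (eW.restrictScalars F)
  haveI : Finite (F[X] ⧸ I) := Module.finite_of_finite F
  obtain ⟨k, hk⟩ := FiniteField.norm_surjective F (F[X] ⧸ I) a
  have hk0 : k ≠ 0 := by
    rintro rfl
    rw [Algebra.norm_zero] at hk
    exact ha hk.symm
  let m : (F[X] ⧸ I) ≃ₗ[F[X]] (F[X] ⧸ I) :=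
    { toFun := fun y => k * y
      invFun := fun y => k⁻¹ * y
      left_inv := fun y => inv_mul_cancel_left₀ hk0 y
      right_inv := fun y => mul_inv_cancel_left₀ hk0 y
      map_add' := fun y z => mul_add k y z
      map_smul' := fun c y => by rw [RingHom.id_apply, mul_smul_comm] }
  let e := Submodule.prodEquivOfIsCompl W C hC
  let σ : Module.AEval' T ≃ₗ[F[X]] Module.AEval' T :=
    e.symm ≪≫ₗ ((eW ≪≫ₗ m ≪≫ₗ eW.symm).prodCongr (LinearEquiv.refl F[X] C)) ≪≫ₗ e
  refine ⟨Module.AEval'.of T ≪≫ₗ σ.restrictScalars F ≪≫ₗ (Module.AEval'.of T).symm, fun v => ?_, ?_⟩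
  · show (Module.AEval'.of T).symm (σ (Module.AEval'.of T (T v))) =
      T ((Module.AEval'.of T).symm (σ (Module.AEval'.of T v)))
    rw [← Module.AEval'.X_smul_of, map_smul, Module.AEval'.of_symm_X_smul]
  · have h1 : ((Module.AEval'.of T ≪≫ₗ σ.restrictScalars F ≪≫ₗ (Module.AEval'.of T).symm :
        V ≃ₗ[F] V) : V →ₗ[F] V) = ((Module.AEval'.of T).symm : Module.AEval' T →ₗ[F] V) ∘ₗ
          (σ.restrictScalars F : Module.AEval' T →ₗ[F] Module.AEval' T) ∘ₗ
            ((Module.AEval'.of T).symm.symm : V →ₗ[F] Module.AEval' T) := rfl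
    rw [h1, LinearMap.det_conj]
    have h2 : (σ.restrictScalars F : Module.AEval' T →ₗ[F] Module.AEval' T) =
        ((e.restrictScalars F : (W × C) ≃ₗ[F] Module.AEval' T) : (W × C) →ₗ[F] Module.AEval' T) ∘ₗ
          (LinearMap.prodMap ((eW ≪≫ₗ m ≪≫ₗ eW.symm).restrictScalars F : W →ₗ[F] W)
            (LinearMap.id : C →ₗ[F] C)) ∘ₗ
          ((e.restrictScalars F).symm : Module.AEval' T →ₗ[F] (W × C)) := rfl
    rw [h2, LinearMap.det_conj, LinearMap.det_prodMap, LinearMap.det_id, mul_one]
    have h3 : ((eW ≪≫ₗ m ≪≫ₗ eW.symm).restrictScalars F : W →ₗ[F] W) =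
        ((eW.restrictScalars F).symm : (F[X] ⧸ I) →ₗ[F] W) ∘ₗ
          (m.restrictScalars F : (F[X] ⧸ I) →ₗ[F] (F[X] ⧸ I)) ∘ₗ
          ((eW.restrictScalars F).symm.symm : W →ₗ[F] (F[X] ⧸ I)) := rfl
    rw [h3, LinearMap.det_conj, ← hk, Algebra.norm_apply]
    rfl


/-- In GL_n over a finite field of characteristic p, the conjugacy class of a semisimple element (an element of order prime to p) under the special linear group is its whole GL-conjugacy class: for every such x and every invertible g there is h of determinant one with h x h⁻¹ = g x g⁻¹. -/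
theorem result {F : Type*} [Field F] [Fintype F] {p : ℕ} [Fact p.Prime] [CharP F p] {n : ℕ} (x g : GL (Fin n) F) (hx : (orderOf x).Coprime p) : ∃ h : GL (Fin n) F, (h : Matrix (Fin n) (Fin n) F).det = 1 ∧ h * x * h⁻¹ = g * x * g⁻¹ := by
  classical
  rcases Nat.eq_zero_or_pos n with rfl | hn
  · exact ⟨g, Matrix.det_isEmpty, rfl⟩
  haveI : Nonempty (Fin n) := ⟨⟨0, hn⟩⟩
  let T : Matrix (Fin n) (Fin n) F ≃ₐ[F] Module.End F (Fin n → F) := Matrix.toLinAlgEquiv'
  have hss : Module.End.IsSemisimple (T (x : Matrix (Fin n) (Fin n) F)) := by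
    refine Module.End.isSemisimple_of_squarefree_aeval_eq_zero
      (p := X ^ orderOf x - 1) (Separable.squarefree ?_) ?_
    · rw [X_pow_sub_one_separable_iff, Ne, CharP.cast_eq_zero_iff F p]
      exact (Nat.Prime.coprime_iff_not_dvd Fact.out).1 hx.symm
    · rw [map_sub, map_pow, aeval_X, map_one, ← map_pow, ← Units.val_pow_eq_pow_val,
        pow_orderOf_eq_one, Units.val_one, map_one, sub_self]
  obtain ⟨σ, hσ, hdet⟩ := exists_commute_det_eq _ hss
    ((Matrix.GeneralLinearGroup.det g⁻¹ : Fˣ) : F) (Units.ne_zero _)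
  let c : GL (Fin n) F :=
    ⟨T.symm σ.toLinearMap, T.symm σ.symm.toLinearMap,
      by rw [← map_mul, ← map_one T.symm]
         exact congrArg _ (LinearMap.ext fun y => σ.apply_symm_apply y),
      by rw [← map_mul, ← map_one T.symm]
         exact congrArg _ (LinearMap.ext fun y => σ.symm_apply_apply y)⟩
  have hTc : T (c : Matrix (Fin n) (Fin n) F) = σ.toLinearMap := T.apply_symm_apply _
  have hcx : Commute c x := by
    refine Units.ext (T.injective ?_)
    show T ((c : Matrix (Fin n) (Fin n) F) * x) = T ((x : Matrix (Fin n) (Fin n) F) * c)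
    rw [map_mul, map_mul, hTc]
    exact LinearMap.ext hσ
  refine ⟨g * c, ?_, ?_⟩
  · have hc : (c : Matrix (Fin n) (Fin n) F).det = ((Matrix.GeneralLinearGroup.det g⁻¹ : Fˣ) : F) := by
      rw [← hdet, ← LinearMap.det_toLin']
      exact congrArg _ hTc
    rw [Units.val_mul, Matrix.det_mul, hc]
    show ((Matrix.GeneralLinearGroup.det g * Matrix.GeneralLinearGroup.det g⁻¹ : Fˣ) : F) = 1
    rw [← map_mul, mul_inv_cancel, map_one, Units.val_one]
  · rw [mul_inv_rev, mul_assoc g c x, hcx.eq]
    group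

end Cfsg.Agent.S2569
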