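import Cfsg.Statements.S2570
import Cfsg.Agent.Lib.KnownSimple.UnipotentClasses
import Cfsg.Agent.S2315
import Mathlib

set_option autoImplicit false
open Cfsg

namespace Cfsg.Agent.S2570

/-- Number of conjugacy classes of elements of order p in GL_n over a finite field of characteristic p: they correspond to the Jordan types, that is, to the partitions of n with all parts at most p other than the partition into ones, so there are (number of partitions of n with parts ≤ p) − 1 of them. -/
theorem result {F : Type*} [Field F] [Fintype F] {p : ℕ} [Fact p.Prime] [CharP F p] (n : ℕ) : Nat.card {C : ConjClasses (GL (Fin n) F) // ∃ g : GL (Fin n) F, ConjClasses.mk g = C ∧ orderOf g = p} = (Finset.univ.filter (fun μ : Nat.Partition n => ∀ a ∈ μ.parts, a ≤ p)).card - 1 := by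
  classical
  have hp : p.Prime := Fact.out
  rcases Nat.eq_zero_or_pos n with rfl | hn
  · have hE : IsEmpty {C : ConjClasses (GL (Fin 0) F) //
        ∃ g : GL (Fin 0) F, ConjClasses.mk g = C ∧ orderOf g = p} := ⟨fun C => by
      obtain ⟨g, -, hg⟩ := C.2
      rw [Subsingleton.elim g 1, orderOf_one] at hg
      exact hp.one_lt.ne hg⟩
    rw [Nat.card_of_isEmpty]
    have := Finset.card_le_univ (Finset.univ.filter (fun μ : Nat.Partition 0 => ∀ a ∈ μ.parts, a ≤ p))
    rw [Fintype.card_unique] at this
    omega
  haveI : Nonempty (Fin n) := ⟨⟨0, hn⟩⟩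
  have key := Cfsg.Agent.Lib.KnownSimple.exists_partition_equiv (F := F) n (fun g => orderOf g = p)
    (fun μ => (∀ a ∈ μ.parts, a ≤ p) ∧ μ ≠ Nat.Partition.ofSums n (Multiset.replicate n 1) (by simp))
    (fun g hg => (Cfsg.Agent.S2315.ppow_order_iff p n g).1 ⟨1, by rw [hg, pow_one]⟩) ?_
  · rw [show Nat.card {C : ConjClasses (GL (Fin n) F) //
        ∃ g : GL (Fin n) F, ConjClasses.mk g = C ∧ orderOf g = p} = Nat.card {C : ConjClasses (GL (Fin n) F) //
        ∃ g : GL (Fin n) F, orderOf g = p ∧ ConjClasses.mk g = C} from
      Nat.card_congr (Equiv.subtypeEquivRight fun C => exists_congr fun g => and_comm), key,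
      Nat.card_eq_fintype_card, Fintype.card_subtype, ← Finset.filter_filter, Finset.filter_ne',
      Finset.card_erase_of_mem]
    refine Finset.mem_filter.2 ⟨Finset.mem_univ _, fun a ha => ?_⟩
    simp only [Nat.Partition.ofSums, Multiset.mem_filter, Multiset.mem_replicate] at ha
    rw [ha.1.2]; exact hp.one_le
  intro g μ hg hk
  set A := (g : Matrix (Fin n) (Fin n) F) - 1 with hA
  have hpow : g ^ p = 1 ↔ A ^ p = 0 := by
    rw [hA, sub_pow_char_of_commute (p := p) (h := Commute.one_right _), one_pow, sub_eq_zero,
      ← Units.val_pow_eq_pow_val, Units.val_eq_one]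
  have h1 : g = 1 ↔ A = 0 := by rw [hA, sub_eq_zero, Units.val_eq_one]
  have hmin : ∀ k, A ^ k = 0 ↔ ∀ a ∈ μ.parts, a ≤ k := by
    intro k
    have e := hk k
    constructor
    · intro h
      rw [h, Matrix.rank_zero, zero_add] at e
      by_contra hcon
      push Not at hcon
      obtain ⟨a, ha, hlt⟩ := hcon
      obtain ⟨t, ht⟩ := Multiset.exists_cons_of_mem ha
      have hle : Cfsg.Agent.Lib.KnownSimple.minSum t k ≤ t.sum := by
        conv_rhs => rw [← Multiset.map_id' t]
        exact Multiset.sum_map_le_sum_map _ _ fun b _ => min_le_right k b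
      have hs := μ.parts_sum
      rw [ht, Multiset.sum_cons] at hs
      rw [ht] at e
      simp only [Cfsg.Agent.Lib.KnownSimple.minSum, Multiset.map_cons, Multiset.sum_cons] at e hle
      omega
    · intro h
      have e2 : Cfsg.Agent.Lib.KnownSimple.minSum μ.parts k = n :=
        (Cfsg.Agent.Lib.KnownSimple.minSum_of_le h).trans μ.parts_sum
      have hr : (A ^ k).rank = 0 := by omega
      rw [Matrix.rank, Submodule.finrank_eq_zero, LinearMap.range_eq_bot] at hr
      exact Matrix.toLin'.injective (by rw [map_zero]; exact hr)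
  have hone : μ = Nat.Partition.ofSums n (Multiset.replicate n 1) (by simp) ↔ A = 0 := by
    rw [← pow_one A, hmin 1]
    constructor
    · rintro rfl a ha
      simp only [Nat.Partition.ofSums, Multiset.mem_filter, Multiset.mem_replicate] at ha
      rw [ha.1.2]
    · intro h
      refine Nat.Partition.ext ?_
      simp only [Nat.Partition.ofSums]
      rw [Multiset.filter_eq_self.2 (fun a ha => by rw [Multiset.eq_of_mem_replicate ha]; norm_num)]
      have h1' : ∀ a ∈ μ.parts, a = 1 := fun a ha => le_antisymm (h a ha) (μ.parts_pos ha)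
      have hc : Multiset.card μ.parts = n := by
        have := μ.parts_sum
        rw [Multiset.eq_replicate_card.2 h1', Multiset.sum_replicate, smul_eq_mul, mul_one] at this
        exact this
      rw [Multiset.eq_replicate_card.2 h1', hc]
  rw [orderOf_eq_prime_iff, hpow, hmin p, ne_eq, ne_eq, h1, hone]

end Cfsg.Agent.S2570
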