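import Cfsg.Statements.S2571
import Mathlib
import Cfsg.Agent.Lib.Similarity.RegularNilpotent
-- import your own Cfsg.Agent.* helpers here

set_option autoImplicit false
open Cfsg

namespace Cfsg.Agent.S2571
open Cfsg.Agent.Lib.Similarity

/-- Centraliser of a regular unipotent element in GL_n(q): if u is an invertible n × n matrix over the field with q elements, n ≥ 1, with (u − 1)^n = 0 and rank(u − 1) = n − 1 (a single unipotent Jordan block), then its centraliser in GL_n(q) has order (q − 1) q^(n−1). -/
theorem result {F : Type*} [Field F] [Fintype F] {q n : ℕ} (hF : Fintype.card F = q) (hn : 1 ≤ n) (u : GL (Fin n) F) (hnil : ((u : Matrix (Fin n) (Fin n) F) - 1) ^ n = 0) (hreg : ((u : Matrix (Fin n) (Fin n) F) - 1).rank = n - 1) : Nat.card ↥(Subgroup.centralizer ({u} : Set (GL (Fin n) F))) = (q - 1) * q ^ (n - 1) := by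
  obtain ⟨m, rfl⟩ : ∃ m, n = m + 1 := ⟨n - 1, by omega⟩
  let T : Matrix (Fin (m + 1)) (Fin (m + 1)) F ≃ₐ[F] Module.End F (Fin (m + 1) → F) :=
    Matrix.toLinAlgEquiv'
  let N := T ((u : Matrix (Fin (m + 1)) (Fin (m + 1)) F) - 1)
  have hm : Module.finrank F (Fin (m + 1) → F) = m + 1 := Module.finrank_fin_fun F
  have hker : Module.finrank F (LinearMap.ker N) ≤ 1 := by
    have h := LinearMap.finrank_range_add_finrank_ker N
    have hr : Module.finrank F (LinearMap.range N) = m + 1 - 1 := hreg
    omega
  have hN : N ^ (m + 1) = 0 := by rw [← map_pow, hnil, map_zero]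
  obtain ⟨v, hv⟩ := exists_pow_apply_ne_zero N hker hm
  -- the centraliser consists of the units commuting with `N`
  have hmem : ∀ g : GL (Fin (m + 1)) F,
      g ∈ Subgroup.centralizer ({u} : Set (GL (Fin (m + 1)) F)) ↔
        Commute (T (g : Matrix (Fin (m + 1)) (Fin (m + 1)) F)) N := by
    intro g
    rw [Subgroup.mem_centralizer_singleton_iff, Commute, SemiconjBy, ← map_mul, ← map_mul,
      T.injective.eq_iff, mul_sub, sub_mul, mul_one, one_mul, sub_left_inj, Units.ext_iff]
    exact ⟨fun h => h, fun h => h⟩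
  let E : ↥(Subgroup.centralizer ({u} : Set (GL (Fin (m + 1)) F))) →
      {w : Fin (m + 1) → F // w ∉ LinearMap.ker (N ^ m)} := fun g =>
    ⟨T (g.1 : Matrix (Fin (m + 1)) (Fin (m + 1)) F) v, by
      rw [LinearMap.mem_ker, ← Module.End.mul_apply, ← (((hmem g.1).1 g.2).pow_right m).eq,
        Module.End.mul_apply]
      intro h
      apply hv
      have := congrArg (T ((g.1⁻¹ : GL (Fin (m + 1)) F) : Matrix (Fin (m + 1)) (Fin (m + 1)) F)) h
      rw [map_zero, ← Module.End.mul_apply, ← map_mul, Units.inv_mul, map_one] at this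
      exact this⟩
  have hE : Function.Bijective E := by
    constructor
    · intro g h hgh
      have := eq_of_commute_of_apply_eq N hm hN v hv ((hmem g.1).1 g.2) ((hmem h.1).1 h.2)
        (congrArg Subtype.val hgh)
      exact Subtype.ext (Units.ext (T.injective this))
    · rintro ⟨w, hw⟩
      obtain ⟨e, hev, he⟩ := exists_equiv_of_regular N N hm hm hN hN v hv w
        (fun h => hw (LinearMap.mem_ker.2 h))
      let g : GL (Fin (m + 1)) F :=
        ⟨T.symm e.toLinearMap, T.symm e.symm.toLinearMap,
          by rw [← map_mul, ← map_one T.symm]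
             exact congrArg _ (LinearMap.ext fun x => e.apply_symm_apply x),
          by rw [← map_mul, ← map_one T.symm]
             exact congrArg _ (LinearMap.ext fun x => e.symm_apply_apply x)⟩
      have hg : T (g : Matrix (Fin (m + 1)) (Fin (m + 1)) F) = e.toLinearMap :=
        T.apply_symm_apply _
      refine ⟨⟨g, (hmem g).2 ?_⟩, Subtype.ext ?_⟩
      · rw [hg]; exact LinearMap.ext he
      · show T (g : Matrix (Fin (m + 1)) (Fin (m + 1)) F) v = w
        rw [hg]; exact hev
  classical
  rw [Nat.card_congr (Equiv.ofBijective E hE), Nat.card_eq_fintype_card,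
    Fintype.card_subtype_compl, ← Nat.card_eq_fintype_card, ← Nat.card_eq_fintype_card]
  show Nat.card (Fin (m + 1) → F) - Nat.card (LinearMap.ker (N ^ m)) = _
  rw [Module.natCard_eq_pow_finrank (K := F) (V := LinearMap.ker (N ^ m)),
    finrank_ker_pow_pred N hker hm hN, Module.natCard_eq_pow_finrank (K := F), hm,
    Nat.card_eq_fintype_card, hF, pow_succ, Nat.add_sub_cancel, Nat.sub_mul, one_mul, mul_comm]

end Cfsg.Agent.S2571
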