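import Cfsg.Statements.S2572
import Mathlib
import Cfsg.Agent.Lib.Similarity.Transvection
-- import your own Cfsg.Agent.* helpers here

set_option autoImplicit false
open Cfsg

namespace Cfsg.Agent.S2572
open Cfsg.Agent.Lib.Similarity

/-- Centraliser of a transvection in GL_n(q), n ≥ 2: if t − 1 has rank one and square zero, the centraliser of t in GL_n(q) has order q^(2n−3) (q − 1) |GL_(n−2)(q)| (a group of order q^(2n−3) extended by GL_1(q) × GL_(n−2)(q)). -/
theorem result {F : Type*} [Field F] [Fintype F] {q n : ℕ} (hF : Fintype.card F = q) (hn : 2 ≤ n) (t : GL (Fin n) F) (ht : Cfsg.IsTransvection (t : Matrix (Fin n) (Fin n) F)) : Nat.card ↥(Subgroup.centralizer ({t} : Set (GL (Fin n) F))) = q ^ (2 * n - 3) * (q - 1) * ∏ i : Fin (n - 2), (q ^ (n - 2) - q ^ (i : ℕ)) := by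
  classical
  obtain ⟨k, rfl⟩ : ∃ k, n = k + 2 := ⟨n - 2, by omega⟩
  subst hF
  let T : Matrix (Fin (k + 2)) (Fin (k + 2)) F ≃ₐ[F] Module.End F (Fin (k + 2) → F) :=
    Matrix.toLinAlgEquiv'
  let N := T ((t : Matrix (Fin (k + 2)) (Fin (k + 2)) F) - 1)
  have hV : Module.finrank F (Fin (k + 2) → F) = k + 2 := Module.finrank_fin_fun F
  obtain ⟨φ, a, hN, ha, ha0, hφ⟩ := exists_trans_data N (show Module.finrank F (LinearMap.range N) = 1 from ht.1)
    (by rw [← map_mul, ht.2, map_zero])
  obtain ⟨E⟩ := transIso_equiv_frame N φ a hN ha ha0 hV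
  obtain ⟨p0⟩ := nonempty_transFrame φ a hφ ha ha0 hV
  let e0 := E p0
  have hmem : ∀ g : GL (Fin (k + 2)) F,
      g ∈ Subgroup.centralizer ({t} : Set (GL (Fin (k + 2)) F)) ↔
        ∀ x, T (g : Matrix (Fin (k + 2)) (Fin (k + 2)) F) (N x) = N (T (g : Matrix _ _ F) x) := by
    intro g
    have h1 : g ∈ Subgroup.centralizer ({t} : Set (GL (Fin (k + 2)) F)) ↔
        Commute (T (g : Matrix (Fin (k + 2)) (Fin (k + 2)) F)) N := by
      rw [Subgroup.mem_centralizer_singleton_iff, Commute, SemiconjBy, ← map_mul, ← map_mul,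
        T.injective.eq_iff, mul_sub, sub_mul, mul_one, one_mul, sub_left_inj, Units.ext_iff]
      exact ⟨fun h => h, fun h => h⟩
    rw [h1]
    exact ⟨fun h x => LinearMap.congr_fun h.eq x, fun h => LinearMap.ext h⟩
  let G : ↥(Subgroup.centralizer ({t} : Set (GL (Fin (k + 2)) F))) → TransIso k N := fun g =>
    ⟨e0.1 ≪≫ₗ LinearMap.GeneralLinearGroup.generalLinearEquiv F _
        (Units.map T.toMonoidHom g.1), fun x => by
      show T _ (e0.1 (modelTrans F k x)) = N (T _ (e0.1 x))
      rw [e0.2, (hmem g.1).1 g.2]⟩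
  have hG : Function.Bijective G := by
    constructor
    · intro g h hgh
      refine Subtype.ext (Units.ext (T.injective (LinearMap.ext fun x => ?_)))
      have := congrArg (fun e : TransIso k N => e.1 (e0.1.symm x)) hgh
      simpa [G] using this
    · rintro ⟨e, he⟩
      let w := e0.1.symm ≪≫ₗ e
      let g : GL (Fin (k + 2)) F :=
        ⟨T.symm w.toLinearMap, T.symm w.symm.toLinearMap,
          by rw [← map_mul, ← map_one T.symm]
             exact congrArg _ (LinearMap.ext fun x => w.apply_symm_apply x),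
          by rw [← map_mul, ← map_one T.symm]
             exact congrArg _ (LinearMap.ext fun x => w.symm_apply_apply x)⟩
      have hg : T (g : Matrix (Fin (k + 2)) (Fin (k + 2)) F) = w.toLinearMap :=
        T.apply_symm_apply _
      refine ⟨⟨g, (hmem g).2 fun x => ?_⟩, Subtype.ext (LinearEquiv.ext fun x => ?_)⟩
      · rw [hg]
        obtain ⟨y, rfl⟩ := e0.1.surjective x
        show e (e0.1.symm (N (e0.1 y))) = N (e (e0.1.symm (e0.1 y)))
        rw [← e0.2, LinearEquiv.symm_apply_apply, LinearEquiv.symm_apply_apply, he]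
      · show T (g : Matrix (Fin (k + 2)) (Fin (k + 2)) F) (e0.1 x) = e x
        rw [hg]
        show e (e0.1.symm (e0.1 x)) = e x
        rw [LinearEquiv.symm_apply_apply]
  rw [Nat.card_congr ((Equiv.ofBijective G hG).trans E.symm), natCard_transFrame φ a hφ ha ha0 hV]
  simp only [Nat.add_sub_cancel]
  rw [← mul_assoc]
  congr 1
  generalize Fintype.card F = q
  rw [show 2 * (k + 2) - 3 = (k + 1) + k by omega, Nat.sub_mul, Nat.mul_sub, mul_one,
    ← pow_succ, ← pow_add, ← pow_add]
  congr 2
  ring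

end Cfsg.Agent.S2572
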