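import Cfsg.Statements.S2573
import Mathlib
-- import your own Cfsg.Agent.* helpers here

set_option autoImplicit false
open Cfsg

namespace Cfsg.Agent.S2573

/-- kernels of powers of an endomorphism with small kernel grow by at most one at each step -/
theorem finrank_ker_pow_le {F V : Type*} [Field F] [AddCommGroup V] [Module F V]
    [FiniteDimensional F V] (N : Module.End F V)
    (h : Module.finrank F (LinearMap.ker N) ≤ 1) (k : ℕ) :
    Module.finrank F (LinearMap.ker (N ^ k)) ≤ k := by
  induction k with
  | zero =>
      have : LinearMap.ker (N ^ 0) = ⊥ := by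
        rw [pow_zero]; exact LinearMap.ker_id
      rw [this, finrank_bot]
  | succ k ih =>
      let S := LinearMap.ker (N ^ (k + 1))
      let φ : S →ₗ[F] V := N.domRestrict S
      have hr := LinearMap.finrank_range_add_finrank_ker φ
      have h1 : Module.finrank F (LinearMap.range φ) ≤ k := by
        refine le_trans (Submodule.finrank_mono ?_) ih
        rintro _ ⟨x, rfl⟩
        have hx : (N ^ (k + 1)) (x : V) = 0 := x.2
        show (N ^ k) (N (x : V)) = 0
        rw [pow_succ] at hx
        exact hx
      have h2 : Module.finrank F (LinearMap.ker φ) ≤ 1 := by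
        refine le_trans ?_ h
        refine LinearMap.finrank_le_finrank_of_injective
          (f := ((S.subtype).comp (LinearMap.ker φ).subtype).codRestrict (LinearMap.ker N)
            (fun x => x.2)) ?_
        intro a b hab
        have hv := congrArg Subtype.val hab
        exact Subtype.ext (Subtype.ext hv)
      show Module.finrank F S ≤ k + 1
      omega


/-- The invariant subspaces of a regular unipotent matrix form a chain: over a finite field, if u is an n × n matrix with (u − 1)^n = 0 and rank(u − 1) = n − 1, then every subspace W of F^n with u W ⊆ W is the kernel of (u − 1)^(dim W); so u has at most one invariant subspace of each dimension. -/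
theorem result {F : Type*} [Field F] [Finite F] {n : ℕ} (u : Matrix (Fin n) (Fin n) F) (hnil : (u - 1) ^ n = 0) (hreg : (u - 1).rank = n - 1) (W : Submodule F (Fin n → F)) (hW : ∀ v ∈ W, u.mulVec v ∈ W) : W = LinearMap.ker (Matrix.mulVecLin ((u - 1) ^ Module.finrank F W)) := by
  let N : Module.End F (Fin n → F) := Matrix.toLinAlgEquiv' (u - 1)
  have hN : ∀ k : ℕ, Matrix.mulVecLin ((u - 1) ^ k) = N ^ k := fun k =>
    (map_pow (Matrix.toLinAlgEquiv' (R := F) (n := Fin n)) (u - 1) k)
  have hker : Module.finrank F (LinearMap.ker N) ≤ 1 := by
    have h := LinearMap.finrank_range_add_finrank_ker N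
    have hr : Module.finrank F (LinearMap.range N) = n - 1 := hreg
    rw [Module.finrank_fin_fun] at h
    omega
  have hWN : ∀ v ∈ W, N v ∈ W := by
    intro v hv
    show (u - 1).mulVec v ∈ W
    rw [Matrix.sub_mulVec, Matrix.one_mulVec]
    exact W.sub_mem (hW v hv) hv
  have hnilN : IsNilpotent N := ⟨n, by
    rw [← hN n, hnil]; exact Matrix.mulVecLin_zero⟩
  let M : Module.End F W := N.restrict hWN
  have hM : IsNilpotent M := Module.End.isNilpotent.restrict hWN hnilN
  have hM0 : M ^ Module.finrank F W = 0 := by
    have h := LinearMap.aeval_self_charpoly M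
    rwa [IsNilpotent.charpoly_eq_X_pow_finrank hM, map_pow, Polynomial.aeval_X] at h
  rw [hN]
  refine Submodule.eq_of_le_of_finrank_le ?_ (finrank_ker_pow_le N hker _)
  intro w hw
  rw [LinearMap.mem_ker]
  have h1 := congrArg Subtype.val (LinearMap.congr_fun hM0 ⟨w, hw⟩)
  rw [Module.End.pow_restrict _ hWN] at h1
  exact h1

end Cfsg.Agent.S2573
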