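import Cfsg.Statements.S2574
import Mathlib
import Cfsg.Agent.S2573
-- import your own Cfsg.Agent.* helpers here

set_option autoImplicit false
open Cfsg

namespace Cfsg.Agent.S2574
open scoped Matrix

open scoped Matrix in
theorem transpose_pow_mul_J {F : Type*} [Field F] {l : Type*} [Fintype l] [DecidableEq l]
    (u J v : Matrix l l F) (h : uᵀ * J * u = J) (hv : u * v = 1) (k : ℕ) :
    ((u - 1) ^ k)ᵀ * J = J * ((u - 1) ^ k * (-v) ^ k) := by
  have hvu : v * u = 1 := mul_eq_one_comm.1 hv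
  have hc : Commute (u - 1) (-v) := by
    have : Commute u v := by show u * v = v * u; rw [hv, hvu]
    exact ((this.sub_left (Commute.one_left v))).neg_right
  have h1 : (u - 1)ᵀ * J = J * ((u - 1) * (-v)) := by
    rw [Matrix.transpose_sub, Matrix.transpose_one]
    have h2 : uᵀ * J = J * v := by
      rw [← mul_one (uᵀ * J), ← hv, ← mul_assoc, h]
    rw [sub_mul, h2, one_mul, mul_neg, sub_mul, hv, one_mul, mul_neg, mul_sub, mul_one, neg_sub]
  induction k with
  | zero => simp
  | succ k ih =>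
      rw [pow_succ, Matrix.transpose_mul, mul_assoc, ih, ← mul_assoc, h1, ← hc.mul_pow,
        mul_assoc, ← pow_succ' ((u - 1) * -v) k, hc.mul_pow, pow_succ]


/-- A regular unipotent element of the symplectic group has totally isotropic small invariant subspaces: over a finite field, if u ∈ Sp_2m(F) satisfies (u − 1)^(2m) = 0 and rank(u − 1) = 2m − 1, and W is a u-invariant subspace with 2 dim W ≤ 2m, then the alternating form vanishes identically on W. -/
theorem result {F : Type*} [Field F] [Finite F] {m : ℕ} (u : Matrix.symplecticGroup (Fin m) F) (hnil : ((u : Matrix (Fin m ⊕ Fin m) (Fin m ⊕ Fin m) F) - 1) ^ (2 * m) = 0) (hreg : ((u : Matrix (Fin m ⊕ Fin m) (Fin m ⊕ Fin m) F) - 1).rank = 2 * m - 1) (W : Submodule F (Fin m ⊕ Fin m → F)) (hW : ∀ v ∈ W, (u : Matrix (Fin m ⊕ Fin m) (Fin m ⊕ Fin m) F).mulVec v ∈ W) (hdim : 2 * Module.finrank F W ≤ 2 * m) : ∀ v ∈ W, ∀ w ∈ W, Cfsg.sympForm m F v w = 0 := by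
  set A : Matrix (Fin m ⊕ Fin m) (Fin m ⊕ Fin m) F := (u : Matrix (Fin m ⊕ Fin m) (Fin m ⊕ Fin m) F)
    with hA
  let N : Module.End F (Fin m ⊕ Fin m → F) := Matrix.toLinAlgEquiv' (A - 1)
  have hNk : ∀ k : ℕ, Matrix.mulVecLin ((A - 1) ^ k) = N ^ k := fun k =>
    (map_pow (Matrix.toLinAlgEquiv' (R := F) (n := Fin m ⊕ Fin m)) (A - 1) k)
  have hdimV : Module.finrank F (Fin m ⊕ Fin m → F) = 2 * m := by simp [two_mul]
  have hker : Module.finrank F (LinearMap.ker N) ≤ 1 := by
    have h := LinearMap.finrank_range_add_finrank_ker N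
    have hr : Module.finrank F (LinearMap.range N) = 2 * m - 1 := hreg
    omega
  have hWN : ∀ v ∈ W, N v ∈ W := by
    intro v hv
    show (A - 1).mulVec v ∈ W
    rw [Matrix.sub_mulVec, Matrix.one_mulVec]
    exact W.sub_mem (hW v hv) hv
  have hN0 : N ^ (2 * m) = 0 := by
    rw [← hNk, hnil]; exact Matrix.mulVecLin_zero
  let M : Module.End F W := N.restrict hWN
  have hM : IsNilpotent M := Module.End.isNilpotent.restrict hWN ⟨_, hN0⟩
  have hM0 : M ^ Module.finrank F W = 0 := by
    have h := LinearMap.aeval_self_charpoly M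
    rwa [IsNilpotent.charpoly_eq_X_pow_finrank hM, map_pow, Polynomial.aeval_X] at h
  have hWk : W = LinearMap.ker (N ^ Module.finrank F W) := by
    refine Submodule.eq_of_le_of_finrank_le ?_ (S2573.finrank_ker_pow_le N hker _)
    intro w hw
    rw [LinearMap.mem_ker]
    have h1 := congrArg Subtype.val (LinearMap.congr_fun hM0 ⟨w, hw⟩)
    rw [Module.End.pow_restrict _ hWN] at h1
    exact h1
  have hWr : LinearMap.range (N ^ (2 * m - Module.finrank F W)) = W := by
    refine Submodule.eq_of_le_of_finrank_le ?_ ?_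
    · conv_rhs => rw [hWk]
      rintro _ ⟨x, rfl⟩
      rw [LinearMap.mem_ker, ← Module.End.mul_apply, ← pow_add,
        Nat.add_sub_cancel' (show Module.finrank F W ≤ 2 * m by omega), hN0]
      rfl
    · have h := LinearMap.finrank_range_add_finrank_ker (N ^ (2 * m - Module.finrank F W))
      have h2 := S2573.finrank_ker_pow_le N hker (2 * m - Module.finrank F W)
      omega
  intro x hx y hy
  rw [← hWr] at hx hy
  obtain ⟨a, rfl⟩ := hx
  obtain ⟨b, rfl⟩ := hy
  set k := 2 * m - Module.finrank F W with hkdef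
  have hAJ := SymplecticGroup.mem_iff'.1 u.2
  have hz : ((A - 1) ^ k)ᵀ * Matrix.J (Fin m) F * (A - 1) ^ k = 0 := by
    have hdet : IsUnit A.det := SymplecticGroup.symplectic_det u.2
    rw [transpose_pow_mul_J A (Matrix.J (Fin m) F) A⁻¹ hAJ (Matrix.mul_nonsing_inv A hdet) k]
    have hcomm : Commute (A - 1) (-A⁻¹) := by
      have : Commute A A⁻¹ := by
        show A * A⁻¹ = A⁻¹ * A
        rw [Matrix.mul_nonsing_inv A hdet, Matrix.nonsing_inv_mul A hdet]
      exact (this.sub_left (Commute.one_left _)).neg_right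
    rw [mul_assoc, mul_assoc, ← (hcomm.pow_pow k k).eq, ← mul_assoc ((A - 1) ^ k), ← pow_add,
      pow_eq_zero_of_le (by omega) hnil, zero_mul, mul_zero]
  rw [← hNk]
  show ((A - 1) ^ k).mulVec a ⬝ᵥ (Matrix.J (Fin m) F).mulVec (((A - 1) ^ k).mulVec b) = 0
  rw [dotProduct_comm, Matrix.dotProduct_mulVec, ← Matrix.mulVec_transpose, Matrix.mulVec_mulVec,
    Matrix.mulVec_mulVec, hz, Matrix.zero_mulVec, zero_dotProduct]

end Cfsg.Agent.S2574
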