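import Cfsg.Statements.S2575
import Mathlib
-- import your own Cfsg.Agent.* helpers here

set_option autoImplicit false
open Cfsg

namespace Cfsg.Agent.S2575

/-- In a finite field, `x` is an `n`-th power of a unit iff `x ^ ((q-1)/gcd(n,q-1)) = 1`. -/
theorem exists_pow_iff {F : Type*} [Field F] [Fintype F] (n : ℕ) (x : F) (hx : x ≠ 0) :
    (∃ c : F, c ≠ 0 ∧ c ^ n * x = 1) ↔
      x ^ ((Fintype.card F - 1) / Nat.gcd n (Fintype.card F - 1)) = 1 := by
  classical
  set N := Fintype.card F - 1 with hN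
  have hN0 : 0 < N := by have := Fintype.one_lt_card (α := F); omega
  obtain ⟨e, he⟩ := Nat.gcd_dvd_left n N
  constructor
  · rintro ⟨c, hc, h⟩
    have hcN : (c ^ n) ^ (N / Nat.gcd n N) = 1 := by
      rw [← pow_mul]
      have hkey : n * (N / Nat.gcd n N) = N * e := by
        calc n * (N / Nat.gcd n N) = Nat.gcd n N * e * (N / Nat.gcd n N) := by rw [← he]
          _ = e * (Nat.gcd n N * (N / Nat.gcd n N)) := by ring
          _ = N * e := by rw [Nat.mul_div_cancel' (Nat.gcd_dvd_right n N), mul_comm]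
      rw [hkey, pow_mul, FiniteField.pow_card_sub_one_eq_one c hc, one_pow]
    have := congrArg (· ^ (N / Nat.gcd n N)) h
    simp only [mul_pow, hcN, one_pow, one_mul] at this
    exact this
  · intro h
    obtain ⟨g, hg⟩ := IsCyclic.exists_generator (α := Fˣ)
    have hog : orderOf g = N := by
      rw [orderOf_eq_card_of_forall_mem_zpowers hg, Nat.card_units, Nat.card_eq_fintype_card]
    obtain ⟨k, hk⟩ := (mem_powers_iff_mem_zpowers.2 (hg (Units.mk0 x hx)⁻¹))
    have hxd : (g ^ k) ^ (N / Nat.gcd n N) = 1 := by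
      have hk' : g ^ k = (Units.mk0 x hx)⁻¹ := hk
      rw [hk', inv_pow, inv_eq_one]
      exact Units.ext (by simpa using h)
    rw [← pow_mul, ← orderOf_dvd_iff_pow_eq_one, hog] at hxd
    have hd : Nat.gcd n N ∣ k := by
      obtain ⟨s, hs⟩ := Nat.gcd_dvd_right n N
      have hg0 : 0 < Nat.gcd n N := Nat.gcd_pos_of_pos_right n hN0
      have hs2 : N / Nat.gcd n N = s := Nat.div_eq_of_eq_mul_right hg0 hs
      rw [hs2] at hxd
      nth_rewrite 1 [hs] at hxd
      exact (Nat.mul_dvd_mul_iff_right (Nat.pos_of_ne_zero (by rintro rfl; omega))).1 hxd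
    obtain ⟨j, rfl⟩ := hd
    refine ⟨((g ^ (Nat.gcdA n N * j : ℤ) : Fˣ) : F), Units.ne_zero _, ?_⟩
    have hu : (g ^ (Nat.gcdA n N * j : ℤ)) ^ n = (Units.mk0 x hx)⁻¹ := by
      rw [← hk, ← zpow_natCast, ← zpow_mul]
      show _ = g ^ (Nat.gcd n N * j)
      rw [← zpow_natCast g, Nat.cast_mul, Nat.gcd_eq_gcd_ab, zpow_eq_zpow_iff_modEq, hog,
        Int.modEq_iff_dvd]
      exact ⟨Nat.gcdB n N * j, by ring⟩
    have := congrArg Units.val (congrArg (· * Units.mk0 x hx) hu)
    simpa using this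


/-- Which diagonal involutions of PGL_n(q) lie in PSL_n(q), q odd: for the diagonal matrix t with i entries −1 and n − i entries 1, some non-zero scalar multiple of t has determinant one if and only if i is even or the 2-part of q − 1 exceeds the 2-part of n (that is, −1 is an n-th power in the field exactly in the latter case). -/
theorem result {F : Type*} [Field F] [Fintype F] {q : ℕ} (hF : Fintype.card F = q) (hq : Odd q) {n : ℕ} (hn : 1 ≤ n) (i : ℕ) (hi : i ≤ n) : (∃ c : F, c ≠ 0 ∧ (c • Matrix.diagonal (fun j : Fin n => if (j : ℕ) < i then (-1 : F) else 1)).det = 1) ↔ (Even i ∨ padicValNat 2 n < padicValNat 2 (q - 1)) := by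
  subst hF
  have hn0 : n ≠ 0 := by omega
  have h1 : ∀ c : F, (c • Matrix.diagonal (fun j : Fin n => if (j : ℕ) < i then (-1 : F) else 1)).det
      = c ^ n * (-1) ^ i := by
    intro c
    rw [Matrix.det_smul, Matrix.det_diagonal, Fintype.card_fin, Finset.prod_ite,
      Finset.prod_const, Finset.prod_const_one, mul_one, Fin.card_filter_val_lt, min_eq_right hi]
  simp only [h1]
  rw [exists_pow_iff n ((-1 : F) ^ i) (pow_ne_zero _ (by simp)), ← pow_mul]
  have hne : (-1 : F) ≠ 1 := by
    intro h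
    have h2 : ringChar F ≠ 2 := by
      intro hc
      have := FiniteField.even_card_of_char_two hc
      rw [Nat.odd_iff] at hq
      omega
    exact Ring.neg_one_ne_one_of_char_ne_two h2 h
  have hpow : ∀ e : ℕ, (-1 : F) ^ e = 1 ↔ Even e := by
    intro e
    rcases Nat.even_or_odd e with he | he
    · simp [he, he.neg_one_pow]
    · simp [he.neg_one_pow, hne, Nat.not_even_iff_odd.2 he]
  rw [hpow, Nat.even_mul]
  refine or_congr Iff.rfl ?_
  set N := Fintype.card F - 1
  have hN0 : N ≠ 0 := by have := Fintype.one_lt_card (α := F); omega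
  have hg0 : Nat.gcd n N ≠ 0 := Nat.gcd_ne_zero_left hn0
  rw [even_iff_two_dvd, dvd_iff_padicValNat_ne_zero
    (Nat.ne_of_gt (Nat.div_pos (Nat.le_of_dvd (Nat.pos_of_ne_zero hN0) (Nat.gcd_dvd_right _ _))
      (Nat.pos_of_ne_zero hg0))),
    padicValNat.div_of_dvd (Nat.gcd_dvd_right n N), ← Nat.factorization_def _ Nat.prime_two,
    ← Nat.factorization_def _ Nat.prime_two, ← Nat.factorization_def _ Nat.prime_two,
    Nat.factorization_gcd hn0 hN0, Finsupp.inf_apply]
  rw [Nat.sub_ne_zero_iff_lt]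
  exact inf_lt_iff.trans ⟨fun h => h.resolve_right (lt_irrefl _), Or.inl⟩

end Cfsg.Agent.S2575
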