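import Cfsg.Statements.S2576
import Mathlib
import Cfsg.Agent.S2575
-- import your own Cfsg.Agent.* helpers here

set_option autoImplicit false
open Cfsg

namespace Cfsg.Agent.S2576

/-- Which involutions of PGL_2m(q) coming from a scalar of the quadratic extension field lie in PSL_2m(q), q odd: let μ generate the Sylow 2-subgroup of the multiplicative group of the field with q elements (μ has order the 2-part of q − 1) and let t be the block-diagonal matrix with m diagonal blocks [[0, 1], [μ, 0]] (so t² is the scalar μ and t is an involution modulo scalars). Then some non-zero scalar multiple of t has determinant one if and only if q ≡ 3 (mod 4) or the 2-part of q − 1 is less than the 2-part of 2m. -/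
theorem result {F : Type*} [Field F] [Fintype F] {q : ℕ} (hF : Fintype.card F = q) (hq : Odd q) {m : ℕ} (hm : 1 ≤ m) (μ : F) (hμ : orderOf μ = 2 ^ padicValNat 2 (q - 1)) : (∃ c : F, c ≠ 0 ∧ (c • Matrix.blockDiagonal (fun _ : Fin m => !![(0 : F), 1; μ, 0])).det = 1) ↔ (q % 4 = 3 ∨ padicValNat 2 (q - 1) < padicValNat 2 (2 * m)) := by
  subst hF
  have hm0 : 2 * m ≠ 0 := by omega
  have h1 : ∀ c : F, (c • Matrix.blockDiagonal (fun _ : Fin m => !![(0 : F), 1; μ, 0])).det
      = c ^ (2 * m) * (-μ) ^ m := by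
    intro c
    rw [Matrix.det_smul, Matrix.det_blockDiagonal, Finset.prod_const, Finset.card_univ,
      Fintype.card_prod, Fintype.card_fin, Fintype.card_fin, Matrix.det_fin_two_of]
    simp
  simp only [h1]
  have hμ0 : μ ≠ 0 := by
    rintro rfl
    rw [orderOf_zero F] at hμ
    exact Nat.ne_of_lt (pow_pos (by norm_num) _) hμ
  rw [S2575.exists_pow_iff (2 * m) ((-μ) ^ m) (pow_ne_zero _ (neg_ne_zero.2 hμ0)), ← pow_mul,
    ← orderOf_dvd_iff_pow_eq_one]
  set N := Fintype.card F - 1 with hN
  set a := padicValNat 2 N with ha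
  have hN0 : N ≠ 0 := by have := Fintype.one_lt_card (α := F); omega
  have hN2 : 2 ∣ N := by
    rw [Nat.odd_iff] at hq
    omega
  have ha1 : 1 ≤ a := one_le_padicValNat_of_dvd hN0 hN2
  have h4 : Fintype.card F % 4 = 3 ↔ a = 1 := by
    have h := padicValNat_dvd_iff_le (p := 2) hN0 (n := 2)
    rw [Nat.odd_iff] at hq
    constructor
    · intro h'
      by_contra hc
      have : 4 ∣ N := h.2 (by omega)
      omega
    · intro h'
      have : ¬ 4 ∣ N := fun hd => by have := h.1 hd; omega
      omega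
  have hμp : μ ^ (2 ^ (a - 1)) = -1 := by
    have hs : (μ ^ (2 ^ (a - 1))) ^ 2 = 1 := by
      rw [← pow_mul, ← pow_succ, Nat.sub_add_cancel ha1, ← hμ, pow_orderOf_eq_one]
    refine (sq_eq_one_iff.1 hs).resolve_left ?_
    intro h
    have := Nat.le_of_dvd (pow_pos (by norm_num) _) (orderOf_dvd_of_pow_eq_one h)
    rw [hμ, pow_le_pow_iff_right₀ (by norm_num)] at this
    omega
  rw [h4]
  by_cases ha2 : a = 1
  · rw [ha2] at hμp
    have : -μ = 1 := by
      rw [pow_zero, pow_one] at hμp
      rw [hμp, neg_neg]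
    rw [this, orderOf_one]
    simp [ha2]
  have hord : orderOf (-μ) = 2 ^ a := by
    obtain ⟨b, hb⟩ : ∃ b, a = b + 2 := ⟨a - 2, by omega⟩
    rw [hb, show b + 2 - 1 = b + 1 by omega] at hμp
    rw [hb]
    have hne : (-1 : F) ≠ 1 := by
      apply Ring.neg_one_ne_one_of_char_ne_two
      intro hc
      have := FiniteField.even_card_of_char_two hc
      rw [Nat.odd_iff] at hq
      omega
    apply orderOf_eq_prime_pow
    · rw [neg_pow, hμp, Even.neg_one_pow (Nat.even_pow.2 ⟨even_two, by omega⟩), one_mul]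
      exact hne
    · rw [neg_pow, Even.neg_one_pow (Nat.even_pow.2 ⟨even_two, by omega⟩), one_mul, ← pow_orderOf_eq_one μ,
        hμ, hb]
  rw [hord, or_iff_right ha2]
  have hg0 : Nat.gcd (2 * m) N ≠ 0 := Nat.gcd_ne_zero_left hm0
  have hdiv0 : N / Nat.gcd (2 * m) N ≠ 0 :=
    Nat.ne_of_gt (Nat.div_pos (Nat.le_of_dvd (Nat.pos_of_ne_zero hN0) (Nat.gcd_dvd_right _ _))
      (Nat.pos_of_ne_zero hg0))
  rw [padicValNat_dvd_iff_le (Nat.mul_ne_zero (by omega) hdiv0),
    padicValNat.mul (by omega) hdiv0, padicValNat.div_of_dvd (Nat.gcd_dvd_right _ N),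
    padicValNat.mul (by omega) (show m ≠ 0 by omega), padicValNat_self]
  have hgv : padicValNat 2 (Nat.gcd (2 * m) N) = min (1 + padicValNat 2 m) a := by
    rw [← Nat.factorization_def _ Nat.prime_two, Nat.factorization_gcd hm0 hN0, Finsupp.inf_apply,
      Nat.factorization_def _ Nat.prime_two, Nat.factorization_def _ Nat.prime_two,
      padicValNat.mul (by omega) (show m ≠ 0 by omega), padicValNat_self]
  rw [hgv]
  omega

end Cfsg.Agent.S2576
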