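import Cfsg.Statements.S2670
import Cfsg.Agent.Lib.FormConj.Projective
import Cfsg.Agent.Lib.FormConj.Monomial
-- import your own Cfsg.Agent.* helpers here

set_option autoImplicit false
open Cfsg

namespace Cfsg.Agent.S2670

/-- Number of conjugacy classes of elements of prime order r in PGL_n(q) = GL_n(q)/scalars when r divides q − 1 (n ≥ 2): the classes of elements with a diagonalisable lift correspond to the orbits of the cyclic rotation on the r-tuples of eigenvalue multiplicities (a_0, …, a_(r−1)) summing to n with every a_j < n, and when r divides n there are r − 1 further classes (lifts acting irreducibly on blocks of size r); in all (C(n+r−1, r−1) − r − [r ∣ n])/r + r·[r ∣ n] classes. -/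
theorem result {F : Type*} [Field F] [Fintype F] {q : ℕ} (hF : Fintype.card F = q) {n r : ℕ} (hn : 2 ≤ n) (hr : r.Prime) (hrq : r ∣ q - 1) : Nat.card {C : ConjClasses (GL (Fin n) F ⧸ Subgroup.center (GL (Fin n) F)) // ∃ g : GL (Fin n) F ⧸ Subgroup.center (GL (Fin n) F), ConjClasses.mk g = C ∧ orderOf g = r} = (Nat.choose (n + r - 1) (r - 1) - r - (if r ∣ n then 1 else 0)) / r + r * (if r ∣ n then 1 else 0) := by
  classical
  subst hF
  haveI := Fact.mk hr
  haveI : NeZero r := ⟨hr.ne_zero⟩
  have hrF : (r : F) ≠ 0 := by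
    intro h
    obtain ⟨p, hp⟩ := CharP.exists F
    haveI := hp
    obtain ⟨f, hpp, hf⟩ := FiniteField.card F p
    have hpr : p = r := (Nat.prime_dvd_prime_iff_eq hpp hr).1 ((CharP.cast_eq_zero_iff F p r).1 h)
    subst hpr
    have h1 : p ∣ p ^ (f : ℕ) := dvd_pow_self p f.ne_zero
    rw [← hf] at h1
    have h2 := Nat.dvd_sub h1 hrq
    rw [Nat.sub_sub_self Fintype.card_pos] at h2
    exact hr.not_dvd_one h2
  have hcount := Lib.FormConj.natCard_classes_projective (F := F) (r := r) (n := n) (by omega) hrF ⊤ ⊤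
    (by rw [Subgroup.card_top, Nat.card_units, Nat.card_eq_fintype_card]; exact hrq)
    (fun g => ?_) (fun c => by simp) (fun g h hgh => ?_) (fun g d _ _ => Subgroup.mem_top g)
    (fun a _ h c => h c (Subgroup.mem_top c)) (fun hrn a _ _ => ?_)
  · refine Eq.trans (Lib.FormConj.natCard_classes_congr (QuotientGroup.congr _ _ Subgroup.topEquiv.symm ?_) r) hcount
    ext x
    simp only [Subgroup.mem_map, Subgroup.mem_center_iff]
    constructor
    · rintro ⟨y, hy, rfl⟩ z
      exact Subtype.ext (hy z)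
    · intro hx
      exact ⟨x, fun z => congrArg Subtype.val (hx ⟨z, trivial⟩), rfl⟩
  · have hc : g ∈ Subgroup.center ↥(⊤ : Subgroup (GL (Fin n) F))
        ↔ (g : GL (Fin n) F) ∈ Subgroup.center (GL (Fin n) F) := by
      simp only [Subgroup.mem_center_iff]
      exact ⟨fun hx z => congrArg Subtype.val (hx ⟨z, trivial⟩), fun hx z => Subtype.ext (hx z)⟩
    rw [hc, Matrix.GeneralLinearGroup.center_eq_range_scalar]
    exact ⟨fun ⟨c, hc'⟩ => ⟨c, trivial, hc'.symm⟩, fun ⟨c, _, hc'⟩ => ⟨c, hc'.symm⟩⟩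
  · obtain ⟨c, hc⟩ := isConj_iff.1 hgh
    exact isConj_iff.2 ⟨⟨c, trivial⟩, Subtype.ext hc⟩
  · obtain ⟨σ, w, _, hσ⟩ := Lib.FormConj.exists_monomial_root (a : F) hrn
    have hu : IsUnit (Lib.FormConj.monomial (⇑σ) w) := by
      refine (isUnit_pow_iff hr.ne_zero).1 ?_
      rw [hσ, ← Lib.FormConj.coe_scal]
      exact Units.isUnit _
    obtain ⟨g, hg⟩ := hu
    exact ⟨g, trivial, Units.ext (by rw [Units.val_pow_eq_pow_val, hg, hσ, Lib.FormConj.coe_scal])⟩

end Cfsg.Agent.S2670
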