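import Cfsg.Statements.S2578
import Mathlib
import Cfsg.Agent.Lib.Similarity.RegularNilpotent
-- import your own Cfsg.Agent.* helpers here

set_option autoImplicit false
open Cfsg

namespace Cfsg.Agent.S2578
open Cfsg.Agent.Lib.Similarity

/-- the lower shift matrix -/
def shiftMatrix (m : ℕ) (F : Type*) [Field F] : Matrix (Fin (m + 1)) (Fin (m + 1)) F :=
  Matrix.of fun i j => if (i : ℕ) = (j : ℕ) + 1 then 1 else 0

theorem shiftMatrix_pow_apply (m : ℕ) (F : Type*) [Field F] (k : ℕ) (i j : Fin (m + 1)) :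
    (shiftMatrix m F ^ k) i j = if (i : ℕ) = (j : ℕ) + k then 1 else 0 := by
  induction k generalizing i with
  | zero => simp [Matrix.one_apply, Fin.ext_iff]
  | succ k ih =>
      rw [pow_succ', Matrix.mul_apply]
      have he : ∀ x, shiftMatrix m F i x = if (i : ℕ) = (x : ℕ) + 1 then 1 else 0 := fun x => rfl
      simp only [ih, he, ite_mul, one_mul, zero_mul]
      by_cases h : (i : ℕ) = (j : ℕ) + (k + 1)
      · rw [if_pos h, Finset.sum_eq_single ⟨(i : ℕ) - 1, by omega⟩]
        · rw [if_pos (by simp; omega), if_pos (by simp; omega)]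
        · intro x _ hx
          rw [if_neg]
          intro hh
          exact hx (Fin.ext (by simp; omega))
        · simp
      · rw [if_neg h]
        refine Finset.sum_eq_zero fun x _ => ?_
        split_ifs <;> first | omega | rfl

theorem isConj_sl_iff_of_gl {F : Type*} [Field F] {m : ℕ}
    (u0 x y : Matrix.SpecialLinearGroup (Fin (m + 1)) F) (g g' : GL (Fin (m + 1)) F)
    (hx : Matrix.SpecialLinearGroup.toGL x = g * Matrix.SpecialLinearGroup.toGL u0 * g⁻¹)
    (hy : Matrix.SpecialLinearGroup.toGL y = g' * Matrix.SpecialLinearGroup.toGL u0 * g'⁻¹) :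
    IsConj x y ↔ ∃ z : GL (Fin (m + 1)) F, Commute z (Matrix.SpecialLinearGroup.toGL u0) ∧
      Matrix.GeneralLinearGroup.det g' * Matrix.GeneralLinearGroup.det z =
        Matrix.GeneralLinearGroup.det g := by
  constructor
  · intro h
    rw [isConj_iff] at h
    obtain ⟨c, hc⟩ := h
    have hc' := congrArg Matrix.SpecialLinearGroup.toGL hc
    rw [map_mul, map_mul, map_inv, hx, hy] at hc'
    set C : GL (Fin (m + 1)) F := Matrix.SpecialLinearGroup.toGL c with hC
    refine ⟨g'⁻¹ * C * g, ?_, ?_⟩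
    · show g'⁻¹ * C * g * _ = _ * (g'⁻¹ * C * g)
      calc g'⁻¹ * C * g * Matrix.SpecialLinearGroup.toGL u0
          = g'⁻¹ * (C * (g * Matrix.SpecialLinearGroup.toGL u0 * g⁻¹) * C⁻¹) * C * g := by group
        _ = _ := by rw [hc']; group
    · have hd : Matrix.GeneralLinearGroup.det C = 1 := Units.ext c.2
      rw [map_mul, map_mul, map_inv, hd, mul_one, mul_inv_cancel_left]
  · rintro ⟨z, hz, hdet⟩
    let C : GL (Fin (m + 1)) F := g' * z * g⁻¹
    have hd : Matrix.GeneralLinearGroup.det C = 1 := by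
      rw [map_mul, map_mul, map_inv, hdet, mul_inv_cancel]
    let c : Matrix.SpecialLinearGroup (Fin (m + 1)) F :=
      ⟨(C : Matrix (Fin (m + 1)) (Fin (m + 1)) F), congrArg Units.val hd⟩
    have hc : Matrix.SpecialLinearGroup.toGL c = C := Units.ext rfl
    rw [isConj_iff]
    refine ⟨c, Matrix.SpecialLinearGroup.toGL_injective ?_⟩
    rw [map_mul, map_mul, map_inv, hc, hx, hy]
    calc g' * z * g⁻¹ * (g * Matrix.SpecialLinearGroup.toGL u0 * g⁻¹) * (g' * z * g⁻¹)⁻¹
        = g' * (z * Matrix.SpecialLinearGroup.toGL u0) * z⁻¹ * g'⁻¹ := by group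
      _ = _ := by rw [hz.eq]; group

theorem exists_gl_conj {F : Type*} [Field F] {m : ℕ}
    (u0 u : Matrix.SpecialLinearGroup (Fin (m + 1)) F)
    (h1 : ((u : Matrix (Fin (m + 1)) (Fin (m + 1)) F) - 1) ^ (m + 1) = 0)
    (h2 : ((u : Matrix (Fin (m + 1)) (Fin (m + 1)) F) - 1).rank = m)
    (k1 : ((u0 : Matrix (Fin (m + 1)) (Fin (m + 1)) F) - 1) ^ (m + 1) = 0)
    (k2 : ((u0 : Matrix (Fin (m + 1)) (Fin (m + 1)) F) - 1).rank = m) :
    ∃ g : GL (Fin (m + 1)) F,
      Matrix.SpecialLinearGroup.toGL u = g * Matrix.SpecialLinearGroup.toGL u0 * g⁻¹ := by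
  let T : Matrix (Fin (m + 1)) (Fin (m + 1)) F ≃ₐ[F] Module.End F (Fin (m + 1) → F) :=
    Matrix.toLinAlgEquiv'
  have hm : Module.finrank F (Fin (m + 1) → F) = m + 1 := Module.finrank_fin_fun F
  have hk : ∀ A : Matrix (Fin (m + 1)) (Fin (m + 1)) F, A.rank = m →
      Module.finrank F (LinearMap.ker (T A)) ≤ 1 := by
    intro A hA
    have h := LinearMap.finrank_range_add_finrank_ker (T A)
    have hr : Module.finrank F (LinearMap.range (T A)) = m := hA
    omega
  obtain ⟨v, hv⟩ := exists_pow_apply_ne_zero _ (hk _ k2) hm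
  obtain ⟨w, hw⟩ := exists_pow_apply_ne_zero _ (hk _ h2) hm
  obtain ⟨e, -, he⟩ := exists_equiv_of_regular _ _ hm hm
    (by rw [← map_pow, k1, map_zero]) (by rw [← map_pow, h1, map_zero]) v hv w hw
  let g : GL (Fin (m + 1)) F :=
    ⟨T.symm e.toLinearMap, T.symm e.symm.toLinearMap,
      by rw [← map_mul, ← map_one T.symm]
         exact congrArg _ (LinearMap.ext fun x => e.apply_symm_apply x),
      by rw [← map_mul, ← map_one T.symm]
         exact congrArg _ (LinearMap.ext fun x => e.symm_apply_apply x)⟩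
  refine ⟨g, ?_⟩
  rw [eq_mul_inv_iff_mul_eq]
  refine Units.ext (T.injective ?_)
  show T ((u : Matrix (Fin (m + 1)) (Fin (m + 1)) F) * T.symm e.toLinearMap) =
    T (T.symm e.toLinearMap * (u0 : Matrix (Fin (m + 1)) (Fin (m + 1)) F))
  rw [map_mul, map_mul, T.apply_symm_apply]
  have h := LinearMap.ext (f := e.toLinearMap * T ((u0 : Matrix (Fin (m + 1)) (Fin (m + 1)) F) - 1))
    (g := T ((u : Matrix (Fin (m + 1)) (Fin (m + 1)) F) - 1) * e.toLinearMap) he
  rw [map_sub, map_sub, map_one, mul_sub, sub_mul, mul_one, one_mul, sub_left_inj] at h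
  exact h.symm


/-- Regular unipotent classes of SL_n(q): for n ≥ 2 over the field with q elements, the matrices u of determinant one with (u − 1)^n = 0 and rank(u − 1) = n − 1 form a single GL_n(q)-class which splits into exactly gcd(n, q − 1) conjugacy classes of SL_n(q). -/
theorem result {F : Type*} [Field F] [Fintype F] {q : ℕ} (hF : Fintype.card F = q) {n : ℕ} (hn : 2 ≤ n) : Nat.card {C : ConjClasses (Matrix.SpecialLinearGroup (Fin n) F) // ∃ u : Matrix.SpecialLinearGroup (Fin n) F, ConjClasses.mk u = C ∧ ((u : Matrix (Fin n) (Fin n) F) - 1) ^ n = 0 ∧ ((u : Matrix (Fin n) (Fin n) F) - 1).rank = n - 1} = Nat.gcd n (q - 1) := by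
  classical
  obtain ⟨m, rfl⟩ : ∃ m, n = m + 1 := ⟨n - 1, by omega⟩
  subst hF
  simp only [Nat.add_sub_cancel]
  let T : Matrix (Fin (m + 1)) (Fin (m + 1)) F ≃ₐ[F] Module.End F (Fin (m + 1) → F) :=
    Matrix.toLinAlgEquiv'
  have hm : Module.finrank F (Fin (m + 1) → F) = m + 1 := Module.finrank_fin_fun F
  let N : Module.End F (Fin (m + 1) → F) := T (shiftMatrix m F)
  have hS : shiftMatrix m F ^ (m + 1) = 0 := by
    ext i j
    rw [shiftMatrix_pow_apply, if_neg (by omega)]
    rfl
  have hN : N ^ (m + 1) = 0 := by rw [← map_pow, hS, map_zero]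
  let v : Fin (m + 1) → F := Pi.single 0 1
  have hv : (N ^ m) v ≠ 0 := by
    rw [← map_pow]
    intro h
    have h1 := congrFun h (Fin.last m)
    rw [show T (shiftMatrix m F ^ m) v = (shiftMatrix m F ^ m).mulVec v from rfl,
      Matrix.mulVec_single_one] at h1
    simp [shiftMatrix_pow_apply] at h1
  have hrank : (shiftMatrix m F).rank = m := by
    have hb : Module.finrank F (LinearMap.ker N) = 1 := by
      have h1 := LinearMap.finrank_range_add_finrank_ker N
      have hle : m ≤ Module.finrank F (LinearMap.range N) := by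
        have hli := (linearIndependent_pow_apply N hv (by rw [hN]; rfl)).comp Fin.succ
          (Fin.succ_injective m)
        have hmem : ∀ i : Fin m,
            ((fun i : Fin (m + 1) => (N ^ (i : ℕ)) v) ∘ Fin.succ) i ∈ LinearMap.range N := by
          intro i
          exact ⟨(N ^ (i : ℕ)) v, by simp [pow_succ']⟩
        have := hli
        have h2 := LinearIndependent.fintype_card_le_finrank
          (b := fun i : Fin m => (⟨_, hmem i⟩ : LinearMap.range N))
          (LinearIndependent.of_comp (LinearMap.range N).subtype hli)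
        simpa using h2
      have hne : LinearMap.ker N ≠ ⊥ := by
        intro hb
        apply hv
        rcases Nat.eq_zero_or_pos m with h0 | h0
        · omega
        have h2 : N ((N ^ m) v) = 0 := by
          rw [← Module.End.mul_apply, ← pow_succ', hN]; rfl
        exact (LinearMap.ker_eq_bot'.1 hb) _ h2
      have : 0 < Module.finrank F (LinearMap.ker N) :=
        Nat.pos_of_ne_zero fun h => hne (Submodule.finrank_eq_zero.1 h)
      omega
    have h1 := LinearMap.finrank_range_add_finrank_ker N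
    show Module.finrank F (LinearMap.range N) = m
    omega
  have hdet : (1 + shiftMatrix m F).det = 1 := by
    have := det_of_isNilpotent_sub (T (1 + shiftMatrix m F)) (1 : F)
      ⟨m + 1, by rw [map_add, map_one, one_smul, add_sub_cancel_left]; exact hN⟩
    rw [one_pow] at this
    rw [← this]
    exact (LinearMap.det_toLin' _).symm
  let u0 : Matrix.SpecialLinearGroup (Fin (m + 1)) F := ⟨1 + shiftMatrix m F, hdet⟩
  have k1 : ((u0 : Matrix (Fin (m + 1)) (Fin (m + 1)) F) - 1) ^ (m + 1) = 0 := by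
    show (1 + shiftMatrix m F - 1) ^ (m + 1) = 0
    rw [add_sub_cancel_left, hS]
  have k2 : ((u0 : Matrix (Fin (m + 1)) (Fin (m + 1)) F) - 1).rank = m := by
    show (1 + shiftMatrix m F - 1).rank = m
    rw [add_sub_cancel_left, hrank]
  -- diagonal matrices with arbitrary determinant
  let D : Fˣ → GL (Fin (m + 1)) F := fun a =>
    ⟨Matrix.diagonal (Function.update 1 0 (a : F)),
      Matrix.diagonal (Function.update 1 0 ((a⁻¹ : Fˣ) : F)),
      by rw [Matrix.diagonal_mul_diagonal, ← Matrix.diagonal_one]; congr 1; funext i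
         rcases eq_or_ne i 0 with rfl | hi <;> simp [*],
      by rw [Matrix.diagonal_mul_diagonal, ← Matrix.diagonal_one]; congr 1; funext i
         rcases eq_or_ne i 0 with rfl | hi <;> simp [*]⟩
  have hD : ∀ a, Matrix.GeneralLinearGroup.det (D a) = a := by
    intro a
    refine Units.ext ?_
    show (Matrix.diagonal _).det = _
    rw [Matrix.det_diagonal, Finset.prod_eq_single (0 : Fin (m + 1))]
    · simp
    · intro i _ hi; simp [hi]
    · simp
  let U : Fˣ → Matrix.SpecialLinearGroup (Fin (m + 1)) F := fun a =>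
    ⟨((D a * Matrix.SpecialLinearGroup.toGL u0 * (D a)⁻¹ : GL (Fin (m + 1)) F) :
        Matrix (Fin (m + 1)) (Fin (m + 1)) F), by
      have h := congrArg Units.val (show Matrix.GeneralLinearGroup.det
        (D a * Matrix.SpecialLinearGroup.toGL u0 * (D a)⁻¹) =
          Matrix.GeneralLinearGroup.det (Matrix.SpecialLinearGroup.toGL u0) by
        rw [map_mul, map_mul, map_inv, mul_right_comm, mul_inv_cancel, one_mul])
      exact h.trans hdet⟩
  have hU : ∀ a, Matrix.SpecialLinearGroup.toGL (U a) =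
      D a * Matrix.SpecialLinearGroup.toGL u0 * (D a)⁻¹ := fun a => Units.ext rfl
  have hUreg : ∀ a, ((U a : Matrix (Fin (m + 1)) (Fin (m + 1)) F) - 1) ^ (m + 1) = 0 ∧
      ((U a : Matrix (Fin (m + 1)) (Fin (m + 1)) F) - 1).rank = m := by
    intro a
    have h : (U a : Matrix (Fin (m + 1)) (Fin (m + 1)) F) - 1 =
        ((D a : GL (Fin (m + 1)) F) : Matrix (Fin (m + 1)) (Fin (m + 1)) F) *
          ((u0 : Matrix (Fin (m + 1)) (Fin (m + 1)) F) - 1) *
          (((D a)⁻¹ : GL (Fin (m + 1)) F) : Matrix (Fin (m + 1)) (Fin (m + 1)) F) := by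
      rw [mul_sub, mul_one, sub_mul, Units.mul_inv]
      rfl
    rw [h]
    refine ⟨?_, ?_⟩
    · rw [Units.conj_pow (D a), k1, mul_zero, zero_mul]
    · rw [Matrix.rank_mul_eq_left_of_isUnit_det _ _
        ((Matrix.isUnit_iff_isUnit_det _).1 (Units.isUnit _)),
        Matrix.rank_mul_eq_right_of_isUnit_det _ _
        ((Matrix.isUnit_iff_isUnit_det _).1 (Units.isUnit _)), k2]
  let H : Subgroup Fˣ := (powMonoidHom (m + 1) : Fˣ →* Fˣ).range
  have hiff : ∀ a b : Fˣ, IsConj (U a) (U b) ↔ b⁻¹ * a ∈ H := by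
    intro a b
    rw [isConj_sl_iff_of_gl u0 _ _ _ _ (hU a) (hU b), hD, hD]
    constructor
    · rintro ⟨z, hz, hzd⟩
      have hc : Commute (T (z : Matrix (Fin (m + 1)) (Fin (m + 1)) F)) N := by
        have h1 : (z : Matrix (Fin (m + 1)) (Fin (m + 1)) F) * (1 + shiftMatrix m F) =
            (1 + shiftMatrix m F) * z := congrArg Units.val hz.eq
        rw [mul_add, add_mul, mul_one, one_mul, add_right_inj] at h1
        show T _ * T _ = T _ * T _
        rw [← map_mul, ← map_mul, h1]
      obtain ⟨c, hc⟩ := exists_det_eq_pow N hm hN v hv _ hc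
      rw [show LinearMap.det (T (z : Matrix (Fin (m + 1)) (Fin (m + 1)) F)) =
        ((Matrix.GeneralLinearGroup.det z : Fˣ) : F) from LinearMap.det_toLin' _] at hc
      have hc0 : c ≠ 0 := by
        rintro rfl
        rw [zero_pow (by omega)] at hc
        exact Units.ne_zero _ hc
      refine ⟨Units.mk0 c hc0, ?_⟩
      rw [← hzd, inv_mul_cancel_left]
      exact Units.ext hc.symm
    · rintro ⟨c, hc⟩
      refine ⟨Matrix.GeneralLinearGroup.scalar (Fin (m + 1)) c, ?_, ?_⟩
      · refine Units.ext ?_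
        exact Matrix.scalar_commute (c : F) (fun r => Commute.all _ _) _
      · have hs : Matrix.GeneralLinearGroup.det (Matrix.GeneralLinearGroup.scalar (Fin (m + 1)) c) =
            c ^ (m + 1) := by
          refine Units.ext ?_
          show (Matrix.scalar (Fin (m + 1)) (c : F)).det = _
          simp [Matrix.scalar_apply, Matrix.det_diagonal]
        rw [hs, show c ^ (m + 1) = b⁻¹ * a from hc, mul_inv_cancel_left]
  let f : Fˣ → {C : ConjClasses (Matrix.SpecialLinearGroup (Fin (m + 1)) F) //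
      ∃ u : Matrix.SpecialLinearGroup (Fin (m + 1)) F, ConjClasses.mk u = C ∧
        ((u : Matrix (Fin (m + 1)) (Fin (m + 1)) F) - 1) ^ (m + 1) = 0 ∧
        ((u : Matrix (Fin (m + 1)) (Fin (m + 1)) F) - 1).rank = m} :=
    fun a => ⟨ConjClasses.mk (U a), U a, rfl, hUreg a⟩
  let f' : Fˣ ⧸ H → _ := Quotient.lift f (by
    intro a b hab
    have hab' : a⁻¹ * b ∈ H := QuotientGroup.leftRel_apply.1 hab
    exact Subtype.ext (ConjClasses.mk_eq_mk_iff_isConj.2 ((hiff b a).2 hab').symm))
  have hf : Function.Bijective f' := by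
    constructor
    · rintro ⟨a⟩ ⟨b⟩ hab
      exact (QuotientGroup.eq.2 ((hiff b a).1
        (ConjClasses.mk_eq_mk_iff_isConj.1 (congrArg Subtype.val hab)).symm))
    · rintro ⟨C, u, rfl, h1, h2⟩
      obtain ⟨g, hg⟩ := exists_gl_conj u0 u h1 h2 k1 k2
      refine ⟨QuotientGroup.mk (Matrix.GeneralLinearGroup.det g), Subtype.ext ?_⟩
      show ConjClasses.mk (U _) = _
      rw [ConjClasses.mk_eq_mk_iff_isConj, isConj_sl_iff_of_gl u0 _ _ _ _ (hU _) hg]
      exact ⟨1, Commute.one_left _, by rw [map_one, mul_one, hD]⟩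
  rw [← Nat.card_congr (Equiv.ofBijective f' hf)]
  show H.index = _
  rw [IsCyclic.index_powMonoidHom_range, Nat.card_units, Nat.card_eq_fintype_card, Nat.gcd_comm]

end Cfsg.Agent.S2578
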