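import Cfsg.Statements.S2579
import Mathlib
import Cfsg.Agent.Lib.Similarity.Transvection
-- import your own Cfsg.Agent.* helpers here

set_option autoImplicit false
open Cfsg

namespace Cfsg.Agent.S2579
open Cfsg.Agent.Lib.Similarity

/-- In SL_n(F) with n ≥ 3, over a finite field F, any two transvections (matrices t with t − 1 of rank one and square zero) are conjugate by an element of SL_n(F). -/
theorem result {F : Type*} [Field F] [Finite F] {n : ℕ} (hn : 3 ≤ n) (s t : Matrix.SpecialLinearGroup (Fin n) F) (hs : Cfsg.IsTransvection (s : Matrix (Fin n) (Fin n) F)) (ht : Cfsg.IsTransvection (t : Matrix (Fin n) (Fin n) F)) : IsConj s t := by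
  classical
  obtain ⟨k, rfl⟩ : ∃ k, n = (k + 1) + 2 := ⟨n - 3, by omega⟩
  let T : Matrix (Fin (k + 1 + 2)) (Fin (k + 1 + 2)) F ≃ₐ[F] Module.End F (Fin (k + 1 + 2) → F) :=
    Matrix.toLinAlgEquiv'
  have hV : Module.finrank F (Fin (k + 1 + 2) → F) = k + 1 + 2 := Module.finrank_fin_fun F
  have hiso : ∀ u : Matrix (Fin (k + 1 + 2)) (Fin (k + 1 + 2)) F, Cfsg.IsTransvection u →
      Nonempty (TransIso (k + 1) (T (u - 1))) := by
    intro u hu
    obtain ⟨φ, a, hN, ha, ha0, hφ⟩ := exists_trans_data (T (u - 1))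
      (show Module.finrank F (LinearMap.range (T (u - 1))) = 1 from hu.1)
      (by rw [← map_mul, hu.2, map_zero])
    obtain ⟨E⟩ := transIso_equiv_frame _ φ a hN ha ha0 hV
    obtain ⟨p0⟩ := nonempty_transFrame φ a hφ ha ha0 hV
    exact ⟨E p0⟩
  obtain ⟨e, he⟩ := hiso _ hs
  obtain ⟨e', he'⟩ := hiso _ ht
  -- scaling of one coordinate in the axis
  let S : F → (F × F × (Fin (k + 1) → F)) →ₗ[F] (F × F × (Fin (k + 1) → F)) := fun c =>
    LinearMap.prodMap LinearMap.id (LinearMap.prodMap LinearMap.id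
      (Matrix.toLin' (Matrix.diagonal (Function.update (1 : Fin (k + 1) → F) 0 c))))
  have hSdet : ∀ c, LinearMap.det (S c) = c := by
    intro c
    simp only [S, LinearMap.det_prodMap, LinearMap.det_id, one_mul, LinearMap.det_toLin',
      Matrix.det_diagonal]
    rw [Finset.prod_eq_single (0 : Fin (k + 1))]
    · simp
    · intro i _ hi; simp [hi]
    · simp
  have hScomm : ∀ c x, S c (modelTrans F (k + 1) x) = modelTrans F (k + 1) (S c x) := by
    intro c x
    simp [S, modelTrans_apply]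
  let d := LinearMap.det ((e'.toLinearMap ∘ₗ e.symm.toLinearMap) :
    Module.End F (Fin (k + 1 + 2) → F))
  have hd : d ≠ 0 := (LinearEquiv.isUnit_det' (e.symm ≪≫ₗ e')).ne_zero
  let w : Module.End F (Fin (k + 1 + 2) → F) :=
    (e'.toLinearMap ∘ₗ e.symm.toLinearMap) * (e.toLinearMap ∘ₗ S d⁻¹ ∘ₗ e.symm.toLinearMap)
  have hw : LinearMap.det w = 1 := by
    rw [map_mul, LinearMap.det_conj, hSdet]
    exact mul_inv_cancel₀ hd
  let g : Matrix.SpecialLinearGroup (Fin (k + 1 + 2)) F := ⟨T.symm w, by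
    rw [← LinearMap.det_toLin', ← hw]
    exact congrArg _ (T.apply_symm_apply w)⟩
  rw [isConj_iff]
  refine ⟨g, mul_inv_eq_iff_eq_mul.2 (Subtype.ext (T.injective ?_))⟩
  show T (T.symm w * (s : Matrix (Fin (k + 1 + 2)) (Fin (k + 1 + 2)) F)) =
    T ((t : Matrix (Fin (k + 1 + 2)) (Fin (k + 1 + 2)) F) * T.symm w)
  rw [map_mul T, map_mul T, T.apply_symm_apply]
  have key : w * T ((s : Matrix (Fin (k + 1 + 2)) (Fin (k + 1 + 2)) F) - 1) =
      T ((t : Matrix (Fin (k + 1 + 2)) (Fin (k + 1 + 2)) F) - 1) * w := by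
    refine LinearMap.ext fun x => ?_
    obtain ⟨y, rfl⟩ := e.surjective x
    simp only [w, Module.End.mul_apply, LinearMap.comp_apply, LinearEquiv.coe_coe]
    rw [← he, LinearEquiv.symm_apply_apply, LinearEquiv.symm_apply_apply, hScomm,
      LinearEquiv.symm_apply_apply, LinearEquiv.symm_apply_apply, he']
  rw [map_sub, map_sub, map_one, mul_sub, sub_mul, mul_one, one_mul, sub_left_inj] at key
  exact key

end Cfsg.Agent.S2579
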