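import Cfsg.Statements.S2583
import Mathlib
import Cfsg.Agent.Lib.Similarity.CayleyOrth
-- import your own Cfsg.Agent.* helpers here

set_option autoImplicit false
open Cfsg

namespace Cfsg.Agent.S2583
open Cfsg.Agent.Lib.Similarity

/-- Which unipotent Jordan types occur in a finite orthogonal group in odd characteristic: over a finite field of odd order, a unipotent matrix with Jordan block sizes d_1, …, d_t (sum n, all at least 1) is similar to an isometry of some quadratic form on F^n with non-degenerate polar form if and only if every even block size occurs an even number of times. -/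
theorem result {F : Type*} [Field F] [Fintype F] (h2 : (2 : F) ≠ 0) {n t : ℕ} (d : Fin t → ℕ) (hd : ∀ k, 1 ≤ d k) (hsum : ∑ k, d k = n) : (∃ Q : QuadraticForm F (Fin n → F), (QuadraticMap.polarBilin Q).Nondegenerate ∧ ∃ e : ((k : Fin t) × Fin (d k)) ≃ Fin n, ∃ A : ↥(Cfsg.isometryGroup F ⇑Q), IsConj (Matrix.reindex e e (Cfsg.jordanTypeMatrix d F)) ((A : Matrix.GeneralLinearGroup (Fin n) F) : Matrix (Fin n) (Fin n) F)) ↔ ∀ j : ℕ, Even j → 0 < j → Even (Finset.univ.filter (fun k : Fin t => d k = j)).card := by
  classical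
  constructor
  · rintro ⟨Q, hQ, e, A, h⟩ j hj hj0
    rw [isConj_reindex_jordan_iff] at h
    rw [← count_partsOf]
    refine even_count_of_symm_isometry h2 (QuadraticMap.polarBilin Q)
      (fun u v => QuadraticMap.polar_comm _ u v) (fun v hv => hQ.1 v hv) _ h.1 (fun u v => ?_) _
      (pos_of_mem_partsOf hd) h.2 j hj
    have hp : ∀ x, Q (((A : Matrix.GeneralLinearGroup (Fin n) F) : Matrix (Fin n) (Fin n) F).mulVec x) = Q x :=
      fun x => A.2 x x
    simp only [QuadraticMap.polarBilin_apply_apply, QuadraticMap.polar]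
    rw [← Matrix.mulVec_add, hp, hp, hp]
  · intro h
    obtain ⟨Q, hQ, A, hA, hnil, hr⟩ := exists_orth_realisation h2 (partsOf d) (pos_of_mem_partsOf hd)
      (fun j hj => by
        rcases Nat.eq_zero_or_pos j with rfl | hj0
        · rw [Multiset.count_eq_zero.2 fun h0 => (pos_of_mem_partsOf hd 0 h0).false]
          exact Even.zero
        · rw [count_partsOf]; exact h j hj hj0)
      (show (partsOf d).sum = n by rw [sum_partsOf, hsum])
    obtain ⟨e⟩ := exists_jordan_equiv d hsum (n := Fin n) (by simp)
    exact ⟨Q, hQ, e, ⟨A, hA⟩, (isConj_reindex_jordan_iff d e _).2 ⟨hnil, hr⟩⟩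

end Cfsg.Agent.S2583
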