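import Cfsg.Statements.S2584
import Mathlib
import Cfsg.Agent.S2585
import Cfsg.Agent.S2582
import Cfsg.Agent.Lib.Similarity.CayleyOrth
-- import your own Cfsg.Agent.* helpers here

set_option autoImplicit false
open Cfsg

namespace Cfsg.Agent.S2584
open Cfsg.Agent.Lib.Similarity

/-- Which unipotent Jordan types occur in a finite orthogonal group in characteristic two: over a finite field of characteristic 2 and in even dimension 2m, a unipotent matrix with Jordan block sizes d_1, …, d_t (sum 2m, all at least 1) is similar to an isometry of some quadratic form on F^(2m) with non-degenerate polar form if and only if every odd block size occurs an even number of times (the same condition as for the symplectic group, which contains these orthogonal groups). -/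
theorem result {F : Type*} [Field F] [Fintype F] [CharP F 2] {m t : ℕ} (d : Fin t → ℕ) (hd : ∀ k, 1 ≤ d k) (hsum : ∑ k, d k = 2 * m) : (∃ Q : QuadraticForm F (Fin (2 * m) → F), (QuadraticMap.polarBilin Q).Nondegenerate ∧ ∃ e : ((k : Fin t) × Fin (d k)) ≃ Fin (2 * m), ∃ A : ↥(Cfsg.isometryGroup F ⇑Q), IsConj (Matrix.reindex e e (Cfsg.jordanTypeMatrix d F)) ((A : Matrix.GeneralLinearGroup (Fin (2 * m)) F) : Matrix (Fin (2 * m)) (Fin (2 * m)) F)) ↔ ∀ j : ℕ, Odd j → Even (Finset.univ.filter (fun k : Fin t => d k = j)).card := by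
  classical
  constructor
  · rintro ⟨Q, hQ, e, A, h⟩ j hj
    rw [isConj_reindex_jordan_iff] at h
    rw [← count_partsOf]
    refine even_count_of_alt_isometry (QuadraticMap.polarBilin Q) (fun v => ?_) (fun v hv => hQ.2 v hv) _ h.1
      (fun u v => ?_) _ h.2 j hj
    · rw [QuadraticMap.polarBilin_apply_apply, QuadraticMap.polar_self, two_nsmul,
        CharTwo.add_self_eq_zero]
    · have hp : ∀ x, Q (((A : Matrix.GeneralLinearGroup (Fin (2 * m)) F) :
          Matrix (Fin (2 * m)) (Fin (2 * m)) F).mulVec x) = Q x :=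
        fun x => A.2 x x
      simp only [QuadraticMap.polarBilin_apply_apply, QuadraticMap.polar]
      rw [← Matrix.mulVec_add, hp, hp, hp]
  · intro h
    obtain ⟨m', hm', A, hA, hnil, hr⟩ := isSympType_of_even F (partsOf d) (pos_of_mem_partsOf hd)
      (fun j hj => by rw [count_partsOf]; exact h j hj)
    obtain rfl : m' = m := by rw [sum_partsOf, hsum] at hm'; omega
    obtain ⟨Q, hQpol, hQA⟩ := S2585.result ⟨A, hA⟩
    let σ : Fin m' ⊕ Fin m' ≃ Fin (2 * m') := finSumFinEquiv.trans (finCongr (two_mul m').symm)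
    let π : (Fin (2 * m') → F) ≃ₗ[F] (Fin m' ⊕ Fin m' → F) := LinearEquiv.funCongrLeft F F σ
    let Q' : QuadraticForm F (Fin (2 * m') → F) := Q.comp π.toLinearMap
    have hpol : ∀ u v, QuadraticMap.polar ⇑Q' u v = Cfsg.sympForm m' F (π u) (π v) := by
      intro u v
      rw [← hQpol]
      simp [Q', QuadraticMap.polar]
    obtain ⟨B, hB, halt, hnd⟩ := S2582.sympForm_bilin (F := F) (m := m')
    have hB' : ∀ a b, B a b = B b a := by
      intro a b
      have h1 := halt (a + b)
      simp only [map_add, LinearMap.add_apply, halt, zero_add, add_zero] at h1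
      exact (CharTwo.add_eq_zero.1 h1).symm
    have hsep : ∀ u, (∀ v, QuadraticMap.polar ⇑Q' v u = 0) → u = 0 := by
      intro u hu
      apply π.injective
      rw [map_zero]
      refine hnd _ fun w => ?_
      have h1 := hu (π.symm w)
      rwa [hpol, LinearEquiv.apply_symm_apply, ← hB] at h1
    obtain ⟨P, hP⟩ : IsUnit A := (Matrix.isUnit_iff_isUnit_det _).2 (SymplecticGroup.symplectic_det hA)
    let R := Matrix.reindexAlgEquiv F F σ
    let A' : GL (Fin (2 * m')) F := Units.map R.toMonoidHom P
    have hA' : A' ∈ Cfsg.isometryGroup F ⇑Q' := by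
      intro v _
      show Q (π ((A' : Matrix (Fin (2 * m')) (Fin (2 * m')) F).mulVec v)) = Q (π v)
      have hπ : π ((A' : Matrix (Fin (2 * m')) (Fin (2 * m')) F).mulVec v) = A.mulVec (π v) := by
        funext i
        show (Matrix.reindex σ σ (P : Matrix _ _ F)).mulVec v (σ i) = A.mulVec (fun k => v (σ k)) i
        rw [hP, Matrix.reindex_apply, Matrix.submatrix_mulVec_equiv]
        simp [Function.comp_def]
      rw [hπ]
      exact hQA _
    obtain ⟨e⟩ := exists_jordan_equiv d hsum (n := Fin (2 * m')) (by simp)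
    refine ⟨Q', ⟨fun u hu => ?_, fun u hu => hsep u hu⟩, e, ⟨A', hA'⟩,
      (isConj_reindex_jordan_iff d e _).2 ?_⟩
    · exact hsep u fun v => by rw [QuadraticMap.polar_comm]; exact hu v
    · have hA1 : ((A' : Matrix (Fin (2 * m')) (Fin (2 * m')) F) - 1) = R (A - 1) := by
        rw [map_sub, map_one, ← hP]
        rfl
      obtain ⟨N, hN⟩ := hnil
      refine ⟨⟨N, by show ((A' : Matrix (Fin (2 * m')) (Fin (2 * m')) F) - 1) ^ N = 0
                     rw [hA1, ← map_pow, hN, map_zero]⟩, fun j => ?_⟩
      show (((A' : Matrix (Fin (2 * m')) (Fin (2 * m')) F) - 1) ^ j).rank = _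
      rw [hA1, ← map_pow, ← hr j]
      exact Matrix.rank_reindex σ σ _

end Cfsg.Agent.S2584
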