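import Cfsg.Statements.S2591
import Mathlib
import Cfsg.Agent.Lib.Similarity.RegularSympGroup
-- import your own Cfsg.Agent.* helpers here

set_option autoImplicit false
open Cfsg

namespace Cfsg.Agent.S2591
open Cfsg.Agent.Lib.Similarity
open scoped Matrix

/-- conjugacy from equal top moments of normal vectors -/
theorem isConj_of_moments {F : Type*} [Field F] {m : ℕ} (h2 : (2 : F) ≠ 0)
    (u u' : Matrix.symplecticGroup (Fin m) F)
    (hu : IsRegUnip (u : Matrix (Fin m ⊕ Fin m) (Fin m ⊕ Fin m) F))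
    (hu' : IsRegUnip (u' : Matrix (Fin m ⊕ Fin m) (Fin m ⊕ Fin m) F))
    {v w : Fin m ⊕ Fin m → F}
    (hv : RegSkew (sympMap m F) (cayleyEnd (u : Matrix _ _ F)) (2 * m - 1) v)
    (hw : RegSkew (sympMap m F) (cayleyEnd (u' : Matrix _ _ F)) (2 * m - 1) w)
    (hv0 : ∀ i, i < 2 * m - 1 → sympMap m F v ((cayleyEnd (u : Matrix _ _ F) ^ i) v) = 0)
    (hw0 : ∀ i, i < 2 * m - 1 → sympMap m F w ((cayleyEnd (u' : Matrix _ _ F) ^ i) w) = 0)
    (htop : sympMap m F v ((cayleyEnd (u : Matrix _ _ F) ^ (2 * m - 1)) v)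
      = sympMap m F w ((cayleyEnd (u' : Matrix _ _ F) ^ (2 * m - 1)) w)) : IsConj u u' := by
  obtain ⟨e, he, hiso⟩ := exists_isometry_of_normal hv hw hv0 hw0 htop
  let T : Matrix (Fin m ⊕ Fin m) (Fin m ⊕ Fin m) F ≃ₐ[F] Module.End F (Fin m ⊕ Fin m → F) :=
    Matrix.toLinAlgEquiv'
  have hx : ∀ z, (T.symm e.toLinearMap) *ᵥ z = e z := fun z =>
    LinearMap.congr_fun (T.apply_symm_apply e.toLinearMap) z
  let g : Matrix.symplecticGroup (Fin m) F := ⟨T.symm e.toLinearMap,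
    (mem_symplecticGroup_iff _).2 fun x y => by rw [hx, hx]; exact hiso x y⟩
  rw [isConj_iff]
  refine ⟨g, mul_inv_eq_iff_eq_mul.2 (Subtype.ext ?_)⟩
  refine conj_eq_of_cayley hu hu' h2 _ (fun z => ?_)
    ((Matrix.isUnit_iff_isUnit_det _).2 (SymplecticGroup.symplectic_det g.2))
  show (T.symm e.toLinearMap) *ᵥ _ = cayleyEnd _ ((T.symm e.toLinearMap) *ᵥ z)
  rw [hx, hx, he]


/-- Over a finite field of odd order and for m ≥ 1, the regular unipotent elements of Sp_2m(F) (u − 1 nilpotent of rank 2m − 1, a single Jordan block) form exactly two conjugacy classes of Sp_2m(F) (one class under the similarity group, which splits in two). -/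
theorem result {F : Type*} [Field F] [Fintype F] {q : ℕ} (hF : Fintype.card F = q) (hq : Odd q) {m : ℕ} (hm : 1 ≤ m) : Nat.card {C : ConjClasses ↥(Matrix.symplecticGroup (Fin m) F) // ∃ u : Matrix.symplecticGroup (Fin m) F, ConjClasses.mk u = C ∧ ((u : Matrix (Fin m ⊕ Fin m) (Fin m ⊕ Fin m) F) - 1) ^ (2 * m) = 0 ∧ ((u : Matrix (Fin m ⊕ Fin m) (Fin m ⊕ Fin m) F) - 1).rank = 2 * m - 1} = 2 := by
  classical
  subst hF
  have h2 : (2 : F) ≠ 0 := by
    intro h
    have hc : ringChar F = 2 := CharP.ringChar_of_prime_eq_zero Nat.prime_two (by exact_mod_cast h)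
    have := FiniteField.even_card_of_char_two hc
    rw [Nat.odd_iff] at hq
    omega
  obtain ⟨ν, hν⟩ := FiniteField.exists_nonsquare (F := F) (fun hc => h2 (by
    have h' : ((2 : ℕ) : F) = 0 := (ringChar.spec F 2).2 (by rw [hc])
    simpa using h'))
  have hν0 : ν ≠ 0 := fun h => hν (h ▸ IsSquare.zero)
  have hk : 2 * m - 1 + 1 = 2 * m := by omega
  -- a base element
  obtain ⟨k, rfl⟩ : ∃ k, m = k + 1 := ⟨m - 1, by omega⟩
  obtain ⟨A₀, hA₀, ⟨N, hN⟩, hr₀⟩ := isSympType_single F k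
  have hA₀reg : IsRegUnip A₀ := by
    refine ⟨hA₀, ?_, ?_⟩
    · have h := hr₀ (2 * (k + 1))
      rw [show Cfsg.Agent.Lib.OrthUnipotent.tailRank ((2 * (k + 1)) ::ₘ 0) (2 * (k + 1)) = 0 by
        simp [Cfsg.Agent.Lib.OrthUnipotent.tailRank]] at h
      apply (Matrix.toLinAlgEquiv' (R := F) (n := Fin (k + 1) ⊕ Fin (k + 1))).injective
      rw [map_zero]
      exact LinearMap.range_eq_bot.1 (Submodule.finrank_eq_zero.1 h)
    · have h := hr₀ 1
      rw [pow_one] at h
      rw [h]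
      simp [Cfsg.Agent.Lib.OrthUnipotent.tailRank]
  -- its twist by a similitude
  let dν : Fin (k + 1) ⊕ Fin (k + 1) → F := Sum.elim (fun _ => ν) (fun _ => 1)
  let dν' : Fin (k + 1) ⊕ Fin (k + 1) → F := Sum.elim (fun _ => ν⁻¹) (fun _ => 1)
  let D : (Matrix (Fin (k + 1) ⊕ Fin (k + 1)) (Fin (k + 1) ⊕ Fin (k + 1)) F)ˣ :=
    ⟨Matrix.diagonal dν, Matrix.diagonal dν',
      by rw [Matrix.diagonal_mul_diagonal, ← Matrix.diagonal_one]; congr 1; funext i
         rcases i with i | i <;> simp [dν, dν', hν0],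
      by rw [Matrix.diagonal_mul_diagonal, ← Matrix.diagonal_one]; congr 1; funext i
         rcases i with i | i <;> simp [dν, dν', hν0]⟩
  have hD : ∀ x y, sympMap (k + 1) F (D.val *ᵥ x) (D.val *ᵥ y)
      = ν * sympMap (k + 1) F x y := by
    intro x y
    have hD' : ∀ z, D.val *ᵥ z = fun i => dν i * z i := fun z =>
      funext fun i => Matrix.mulVec_diagonal dν z i
    rw [hD', hD', sympMap_apply, sympMap_apply, S2585.sympForm_eq_sum, S2585.sympForm_eq_sum,
      mul_sub, Finset.mul_sum, Finset.mul_sum]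
    simp [dν, mul_left_comm, mul_assoc]
  let A₁ : Matrix (Fin (k + 1) ⊕ Fin (k + 1)) (Fin (k + 1) ⊕ Fin (k + 1)) F :=
    D.val * A₀ * (D⁻¹).val
  have hA₁sub : A₁ - 1 = D.val * (A₀ - 1) * (D⁻¹).val := by
    rw [mul_sub, sub_mul, mul_one, Units.mul_inv]
  have hA₁reg : IsRegUnip A₁ := by
    refine ⟨(mem_symplecticGroup_iff _).2 fun x y => ?_, ?_, ?_⟩
    · obtain ⟨a, rfl⟩ : ∃ a, x = D.val *ᵥ a :=
        ⟨(D⁻¹).val *ᵥ x, by rw [Matrix.mulVec_mulVec, Units.mul_inv, Matrix.one_mulVec]⟩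
      obtain ⟨b, rfl⟩ : ∃ b, y = D.val *ᵥ b :=
        ⟨(D⁻¹).val *ᵥ y, by rw [Matrix.mulVec_mulVec, Units.mul_inv, Matrix.one_mulVec]⟩
      have hAD : ∀ c, A₁ *ᵥ (D.val *ᵥ c) = D.val *ᵥ (A₀ *ᵥ c) := by
        intro c
        simp only [A₁, Matrix.mulVec_mulVec, mul_assoc, Units.inv_mul, mul_one]
      rw [hAD, hAD, hD, hD, (mem_symplecticGroup_iff A₀).1 hA₀]
    · rw [hA₁sub, Units.conj_pow D, hA₀reg.nil, mul_zero, zero_mul]
    · rw [hA₁sub, Matrix.rank_mul_eq_left_of_isUnit_det _ _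
        ((Matrix.isUnit_iff_isUnit_det _).1 (Units.isUnit _)),
        Matrix.rank_mul_eq_right_of_isUnit_det _ _
        ((Matrix.isUnit_iff_isUnit_det _).1 (Units.isUnit _)), hA₀reg.reg]
  obtain ⟨v₀, hv₀R, hv₀top⟩ := hA₀reg.exists_regSkew h2 hm
  set δ := sympMap (k + 1) F v₀ ((cayleyEnd A₀ ^ (2 * (k + 1) - 1)) v₀) with hδ
  -- transport of cayley transforms by `D`
  have hcD : ∀ x, cayleyEnd A₁ (D.val *ᵥ x) = D.val *ᵥ cayleyEnd A₀ x := by
    intro x
    obtain ⟨y, rfl⟩ := hA₀reg.surj_add_one h2 x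
    rw [hA₀reg.cayley_apply h2]
    have e1 : D.val *ᵥ ((A₀ + 1) *ᵥ y) = (A₁ + 1) *ᵥ (D.val *ᵥ y) := by
      simp only [A₁, Matrix.mulVec_mulVec, add_mul, one_mul, mul_add, mul_one, mul_assoc, Units.inv_mul]
    have e2 : D.val *ᵥ ((A₀ - 1) *ᵥ y) = (A₁ - 1) *ᵥ (D.val *ᵥ y) := by
      simp only [A₁, Matrix.mulVec_mulVec, sub_mul, one_mul, mul_sub, mul_one, mul_assoc, Units.inv_mul]
    rw [e1, hA₁reg.cayley_apply h2, e2]
  have hcDpow : ∀ i x, (cayleyEnd A₁ ^ i) (D.val *ᵥ x) =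
      D.val *ᵥ ((cayleyEnd A₀ ^ i) x) := by
    intro i
    induction i with
    | zero => simp
    | succ i ih => intro x; rw [pow_succ, pow_succ, Module.End.mul_apply, Module.End.mul_apply, hcD, ih]
  have hv₁R : RegSkew (sympMap (k + 1) F) (cayleyEnd A₁) (2 * (k + 1) - 1) (D.val *ᵥ v₀) := by
    obtain ⟨w, hw, -⟩ := hA₁reg.exists_regSkew h2 hm
    refine ⟨hw.alt, hw.skew, hw.dim, hw.nil, ?_⟩
    rw [hcDpow]
    intro h
    apply hv₀R.cyc
    apply Matrix.mulVec_injective_iff_isUnit.2 (Units.isUnit D)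
    show D.val *ᵥ _ = D.val *ᵥ 0
    rw [h, Matrix.mulVec_zero]
  let U : Bool → Matrix.symplecticGroup (Fin (k + 1)) F := fun b =>
    if b then ⟨A₁, hA₁reg.mem⟩ else ⟨A₀, hA₀⟩
  have hUreg : ∀ b, IsRegUnip (U b).val := by
    intro b
    cases b
    · exact hA₀reg
    · exact hA₁reg
  -- top moments up to squares
  have htopinv : ∀ {A : Matrix (Fin (k + 1) ⊕ Fin (k + 1)) (Fin (k + 1) ⊕ Fin (k + 1)) F}
      {v w : Fin (k + 1) ⊕ Fin (k + 1) → F},
      RegSkew (sympMap (k + 1) F) (cayleyEnd A) (2 * (k + 1) - 1) v →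
      ∃ s, sympMap (k + 1) F w ((cayleyEnd A ^ (2 * (k + 1) - 1)) w) =
        s * s * sympMap (k + 1) F v ((cayleyEnd A ^ (2 * (k + 1) - 1)) v) := by
    intro A v w hv
    set j := 2 * (k + 1) - 1
    let b := cyclicBasis _ hv.dim hv.nil v hv.cyc
    refine ⟨b.repr w 0, ?_⟩
    have hodd : (-1 : F) ^ j = -1 := Odd.neg_one_pow ⟨k, by omega⟩
    have hLw : (cayleyEnd A ^ j) w = b.repr w 0 • (cayleyEnd A ^ j) v := by
      conv_lhs => rw [← b.sum_repr w]
      simp only [map_sum, map_smul, b, cyclicBasis_apply, ← Module.End.mul_apply, ← pow_add]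
      rw [Finset.sum_eq_single 0]
      · simp
      · intro i _ hi
        have : (i : ℕ) ≠ 0 := fun e => hi (Fin.ext (e.trans (by simp)))
        rw [pow_eq_zero_of_le (by omega) hv.nil, LinearMap.zero_apply, smul_zero]
      · simp
    have hskewBB : ∀ a b, sympMap (k + 1) F a b = -sympMap (k + 1) F b a := by
      intro a b
      have h := hv.alt (a + b)
      simp only [map_add, LinearMap.add_apply, hv.alt, zero_add, add_zero] at h
      linear_combination h
    have h5 : sympMap (k + 1) F w ((cayleyEnd A ^ j) v) =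
        sympMap (k + 1) F v ((cayleyEnd A ^ j) w) := by
      rw [hskewBB, skew_pow hv.skew, hodd]
      ring
    rw [hLw, map_smul, smul_eq_mul, h5, hLw, map_smul, smul_eq_mul]
    ring
  let f : Bool → {C : ConjClasses ↥(Matrix.symplecticGroup (Fin (k + 1)) F) //
      ∃ u : Matrix.symplecticGroup (Fin (k + 1)) F, ConjClasses.mk u = C ∧
        ((u : Matrix (Fin (k + 1) ⊕ Fin (k + 1)) (Fin (k + 1) ⊕ Fin (k + 1)) F) - 1) ^ (2 * (k + 1)) = 0 ∧
        ((u : Matrix (Fin (k + 1) ⊕ Fin (k + 1)) (Fin (k + 1) ⊕ Fin (k + 1)) F) - 1).rank = 2 * (k + 1) - 1} :=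
    fun b => ⟨ConjClasses.mk (U b), U b, rfl, (hUreg b).nil, (hUreg b).reg⟩
  have hne : ¬ IsConj (U false) (U true) := by
    intro h
    rw [isConj_iff] at h
    obtain ⟨g, hg⟩ := h
    rw [mul_inv_eq_iff_eq_mul] at hg
    have hg' : g.val * A₀ = A₁ * g.val := congrArg Subtype.val hg
    have hc : ∀ x, cayleyEnd A₁ (g.val *ᵥ x) = g.val *ᵥ cayleyEnd A₀ x := by
      intro x
      obtain ⟨y, rfl⟩ := hA₀reg.surj_add_one h2 x
      rw [hA₀reg.cayley_apply h2, Matrix.mulVec_mulVec, Matrix.mulVec_mulVec, mul_add, mul_sub, mul_one,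
        hg', ← add_one_mul, ← sub_one_mul, ← Matrix.mulVec_mulVec, ← Matrix.mulVec_mulVec,
        hA₁reg.cayley_apply h2]
    have hcp : ∀ i x, (cayleyEnd A₁ ^ i) (g.val *ᵥ x) =
        g.val *ᵥ ((cayleyEnd A₀ ^ i) x) := by
      intro i
      induction i with
      | zero => simp
      | succ i ih => intro x; rw [pow_succ, pow_succ, Module.End.mul_apply, Module.End.mul_apply, hc, ih]
    obtain ⟨s, hs⟩ := htopinv (A := A₁) (w := g.val *ᵥ v₀) hv₁R
    rw [hcp, (mem_symplecticGroup_iff _).1 g.2, hcDpow, hD] at hs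
    rw [← hδ] at hs
    have hs0 : s ≠ 0 := by
      rintro rfl
      exact hv₀top (hs.trans (by ring))
    refine hν ⟨s⁻¹, ?_⟩
    field_simp
    apply mul_right_cancel₀ hv₀top
    linear_combination -hs
  have hbij : Function.Bijective f := by
    constructor
    · intro a b hab
      have h := ConjClasses.mk_eq_mk_iff_isConj.1 (congrArg Subtype.val hab)
      cases a <;> cases b
      · rfl
      · exact absurd h hne
      · exact absurd h.symm hne
      · rfl
    · rintro ⟨C, u, rfl, hnil, hreg⟩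
      have hu : IsRegUnip u.val := ⟨u.2, hnil, hreg⟩
      obtain ⟨v, hvR, hvtop⟩ := hu.exists_regSkew h2 hm
      obtain ⟨b, v', hv'R, hsq⟩ : ∃ (b : Bool) (v' : Fin (k + 1) ⊕ Fin (k + 1) → F),
          RegSkew (sympMap (k + 1) F) (cayleyEnd (U b).val) (2 * (k + 1) - 1) v' ∧
          ∃ s : F, s ≠ 0 ∧ s * s * sympMap (k + 1) F v ((cayleyEnd u.val ^ (2 * (k + 1) - 1)) v)
            = sympMap (k + 1) F v' ((cayleyEnd (U b).val ^ (2 * (k + 1) - 1)) v') := by
        have hc : ringChar F ≠ 2 := fun e => h2 (by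
          have h' : ((2 : ℕ) : F) = 0 := (ringChar.spec F 2).2 (by rw [e])
          simpa using h')
        set c := sympMap (k + 1) F v ((cayleyEnd u.val ^ (2 * (k + 1) - 1)) v)
        by_cases h : IsSquare (δ / c)
        · obtain ⟨s, hs⟩ := h
          refine ⟨false, v₀, hv₀R, s, ?_, ?_⟩
          · rintro rfl
            exact div_ne_zero hv₀top hvtop (by rw [hs, mul_zero])
          · show s * s * c = δ
            rw [← hs, div_mul_cancel₀ _ hvtop]
        · have h' : IsSquare (ν * δ / c) := by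
            rw [mul_div_assoc, ← quadraticChar_one_iff_isSquare (mul_ne_zero hν0 (div_ne_zero hv₀top hvtop)),
              map_mul, quadraticChar_neg_one_iff_not_isSquare.2 hν,
              quadraticChar_neg_one_iff_not_isSquare.2 h]
            norm_num
          obtain ⟨s, hs⟩ := h'
          refine ⟨true, D.val *ᵥ v₀, hv₁R, s, ?_, ?_⟩
          · rintro rfl
            exact div_ne_zero (mul_ne_zero hν0 hv₀top) hvtop (by rw [hs, mul_zero])
          · show s * s * c = sympMap (k + 1) F _ ((cayleyEnd A₁ ^ _) _)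
            rw [hcDpow, hD, ← hδ, ← hs, div_mul_cancel₀ _ hvtop]
      obtain ⟨s, hs0, hs⟩ := hsq
      have hv'top : sympMap (k + 1) F v' ((cayleyEnd (U b).val ^ (2 * (k + 1) - 1)) v') ≠ 0 := by
        rw [← hs]
        exact mul_ne_zero (mul_ne_zero hs0 hs0) hvtop
      have hsvR : RegSkew (sympMap (k + 1) F) (cayleyEnd u.val) (2 * (k + 1) - 1) (s • v) :=
        ⟨hvR.alt, hvR.skew, hvR.dim, hvR.nil, by rw [map_smul]; exact smul_ne_zero hs0 hvR.cyc⟩
      have hsvtop : sympMap (k + 1) F (s • v) ((cayleyEnd u.val ^ (2 * (k + 1) - 1)) (s • v)) ≠ 0 := by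
        simp only [map_smul, LinearMap.smul_apply, smul_eq_mul]
        exact mul_ne_zero hs0 (mul_ne_zero hs0 hvtop)
      obtain ⟨w, hw1, hw2, hw3⟩ := exists_normal_vector (by omega) h2 hsvR hsvtop
      obtain ⟨w', hw1', hw2', hw3'⟩ := exists_normal_vector (by omega) h2 hv'R hv'top
      refine ⟨b, Subtype.ext (ConjClasses.mk_eq_mk_iff_isConj.2 ?_)⟩
      refine (isConj_of_moments h2 u (U b) hu (hUreg b) (v := w) (w := w')
        ⟨hvR.alt, hvR.skew, hvR.dim, hvR.nil, by rw [hw1]; exact hsvR.cyc⟩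
        ⟨hv'R.alt, hv'R.skew, hv'R.dim, hv'R.nil, by rw [hw1']; exact hv'R.cyc⟩ hw3 hw3' ?_).symm
      rw [hw2, hw2', ← hs]
      simp only [map_smul, LinearMap.smul_apply, smul_eq_mul]
      ring
  rw [← Nat.card_congr (Equiv.ofBijective f hbij), Nat.card_eq_fintype_card, Fintype.card_bool]

end Cfsg.Agent.S2591
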