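import Cfsg.Statements.S2593
import Mathlib
import Cfsg.Agent.Lib.InvolutionTwo.Classify
import Cfsg.Agent.Lib.Classical.Symplectic
import Cfsg.Agent.Lib.Forms.Witt
-- import your own Cfsg.Agent.* helpers here

set_option autoImplicit false
open Cfsg

namespace Cfsg.Agent.S2593

open Lib.InvolutionTwo Lib.Classical

variable {F : Type*} [Field F] {m : ℕ}

theorem isAlt_std : (stdSymp (F := F) m : LinearMap.BilinForm F (Fin m ⊕ Fin m → F)).IsAlt :=
  (isSympForm_std (F := F) m).alt

theorem nondegenerate_std :
    (stdSymp (F := F) m : LinearMap.BilinForm F (Fin m ⊕ Fin m → F)).Nondegenerate :=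
  ⟨(isSympForm_std m).nondeg, fun x hx => (isSympForm_std m).nondeg x fun w => by
    rw [(isSympForm_std m).flip, hx w, neg_zero]⟩

/-- the symplectic group as a setting -/
noncomputable def setting (F : Type*) [Field F] [CharP F 2] (m : ℕ) :
    InvolutionSetting (V := Fin m ⊕ Fin m → F) (stdSymp m) (Matrix.symplecticGroup (Fin m) F) where
  act := (biIsoGroup (F := F) (sympFn m F)).subtype.comp (symplecticGroupEquiv m).toMonoidHom
  act_injective := Subtype.val_injective.comp (symplecticGroupEquiv m).injective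
  preserves g x y := by
    rw [stdSymp_apply, stdSymp_apply]
    exact (symplecticGroupEquiv m g).2 x y
  adm _ _ := True
  adm_of_involution _ _ _ _ _ _ _ := trivial
  realise ε r h _ _ := ⟨(symplecticGroupEquiv m).symm ⟨invEquiv (stdSymp m) ε r h, fun x y => by
      rw [← stdSymp_apply, ← stdSymp_apply]
      exact invEquiv_preserves (isAlt_std (F := F) (m := m)) h x y⟩,
    congrArg Subtype.val ((symplecticGroupEquiv m).apply_symm_apply _)⟩
  move ε r r' hr hr' _ _ := by
    obtain ⟨g, hg, hgr⟩ := (Lib.Forms.IsGoodForm.of_isAlt (isAlt_std (F := F) (m := m))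
      nondegenerate_std).witt_family r r' hr.li hr'.li (fun i j => by rw [hr.orth, hr'.orth])
    refine ⟨(symplecticGroupEquiv m).symm ⟨g, fun x y => by
      rw [← stdSymp_apply, ← stdSymp_apply]; exact hg x y⟩, fun i => ?_⟩
    show (symplecticGroupEquiv (F := F) m ((symplecticGroupEquiv m).symm _)).1 (r i) = r' i
    rw [MulEquiv.apply_symm_apply]
    exact hgr i

theorem exists_frame {s : ℕ} (hs : s ≤ m) :
    ∃ r : Fin s → Fin m ⊕ Fin m → F, IsoFrame (stdSymp m : LinearMap.BilinForm F _) r := by
  refine ⟨fun i => Pi.single (Sum.inl (Fin.castLE hs i)) 1, ?_, fun i j => ?_⟩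
  · have h := (Pi.basisFun F (Fin m ⊕ Fin m)).linearIndependent.comp _
      (Sum.inl_injective.comp (Fin.castLE_injective hs))
    simpa [Function.comp_def] using h
  · rw [stdSymp_apply, sympFn_eq]
    simp [Pi.single_apply]

theorem result {F : Type*} [Field F] [Fintype F] [CharP F 2] {m : ℕ} (hm : 1 ≤ m) : Nat.card {C : ConjClasses ↥(Matrix.symplecticGroup (Fin m) F) // ∃ g : Matrix.symplecticGroup (Fin m) F, ConjClasses.mk g = C ∧ orderOf g = 2} = m + m / 2 := by
  haveI : PerfectRing F 2 := PerfectRing.ofFiniteOfIsReduced 2 F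
  rw [(setting F m).natCard_classes (isAlt_std (F := F) (m := m)) nondegenerate_std (typeSet m m), card_typeSet]
  intro s ε
  rw [mem_typeSet, ite_self]
  refine and_congr_right fun _ => and_congr_right fun _ => ⟨fun h => ?_, ?_⟩
  · obtain ⟨r, hr⟩ := exists_frame (F := F) h
    exact ⟨r, hr, trivial⟩
  · rintro ⟨r, hr, -⟩
    have := hr.two_mul_le (nondegenerate_std (F := F) (m := m))
    simp at this
    omega

end Cfsg.Agent.S2593
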