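import Cfsg.Statements.S2594
import Mathlib
import Cfsg.Agent.Lib.Classical.Symplectic
-- import your own Cfsg.Agent.* helpers here

set_option autoImplicit false
open Cfsg

namespace Cfsg.Agent.S2594

open Lib.Classical

variable {F : Type*} [Field F] {m : ℕ}

local notation "V" => (Fin m ⊕ Fin m → F)

/-- the action on vectors -/
@[reducible] def vecAction : MulAction (Matrix.symplecticGroup (Fin m) F) V where
  smul g v := Matrix.mulVec (g : Matrix (Fin m ⊕ Fin m) (Fin m ⊕ Fin m) F) v
  one_smul v := by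
    show Matrix.mulVec ((1 : Matrix.symplecticGroup (Fin m) F) : Matrix _ _ F) v = v
    simp
  mul_smul g h v := (Matrix.mulVec_mulVec v (g : Matrix (Fin m ⊕ Fin m) (Fin m ⊕ Fin m) F) h).symm

theorem form_mulVec (g : Matrix.symplecticGroup (Fin m) F) (u v : V) :
    stdSymp m (Matrix.mulVec (g : Matrix (Fin m ⊕ Fin m) (Fin m ⊕ Fin m) F) u)
      (Matrix.mulVec (g : Matrix (Fin m ⊕ Fin m) (Fin m ⊕ Fin m) F) v) = stdSymp m u v := by
  rw [stdSymp_apply, stdSymp_apply]
  exact (symplecticGroupEquiv m g).2 u v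

theorem natCard_stabilizer [Finite F] {v : V} (hv : v ≠ 0) :
    (Nat.card F ^ (2 * m) - 1) * Nat.card {g : Matrix.symplecticGroup (Fin m) F //
        Matrix.mulVec (g : Matrix (Fin m ⊕ Fin m) (Fin m ⊕ Fin m) F) v = v}
      = Nat.card (Matrix.symplecticGroup (Fin m) F) := by
  letI := vecAction (F := F) (m := m)
  classical
  have := Fintype.ofFinite F
  have h := MulAction.card_orbit_mul_card_stabilizer_eq_card_group (Matrix.symplecticGroup (Fin m) F) v
  rw [← Nat.card_eq_fintype_card, ← Nat.card_eq_fintype_card, ← Nat.card_eq_fintype_card] at h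
  rw [← h]
  congr 1
  · have horb : MulAction.orbit (Matrix.symplecticGroup (Fin m) F) v = {u : V | u ≠ 0} := by
      ext u
      constructor
      · rintro ⟨g, rfl⟩ hz
        refine hv ((stdSymp_nondeg v fun w => ?_))
        rw [← form_mulVec g, show Matrix.mulVec (g : Matrix (Fin m ⊕ Fin m) (Fin m ⊕ Fin m) F) v = 0 from hz,
          map_zero]
        rfl
      · intro hu
        obtain ⟨g, hg⟩ := sympIso_transitive m v u hv hu
        exact ⟨g, hg⟩
    rw [horb]
    show _ = Nat.card {u : V // u ≠ 0}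
    rw [Nat.card_eq_fintype_card (α := {u : V // u ≠ 0}), Fintype.card_subtype_compl,
      Fintype.card_subtype_eq, Fintype.card_fun, Fintype.card_sum, Fintype.card_fin, Nat.card_eq_fintype_card]
    rw [two_mul]
where
  stdSymp_nondeg (z : V) (h : ∀ w, stdSymp m z w = 0) : z = 0 := (isSympForm_std m).nondeg z h

theorem centralizer_eq_stabilizer [CharP F 2] (t : Matrix.symplecticGroup (Fin m) F)
    (ht : ((t : Matrix (Fin m ⊕ Fin m) (Fin m ⊕ Fin m) F) - 1).rank = 1) :
    ∃ v : V, v ≠ 0 ∧ ∀ g : Matrix.symplecticGroup (Fin m) F,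
      g ∈ Subgroup.centralizer ({t} : Set ↥(Matrix.symplecticGroup (Fin m) F)) ↔
        Matrix.mulVec (g : Matrix (Fin m ⊕ Fin m) (Fin m ⊕ Fin m) F) v = v := by
  set T := (t : Matrix (Fin m ⊕ Fin m) (Fin m ⊕ Fin m) F)
  have hS := isSympForm_std (F := F) m
  obtain ⟨⟨v, hvr⟩, hv0, hspan⟩ := finrank_eq_one_iff'.1 (show Module.finrank F
    (LinearMap.range (Matrix.mulVecLin (T - 1))) = 1 from ht)
  have hv : v ≠ 0 := fun e => hv0 (Subtype.ext e)
  have hφ : ∀ x, ∃ c : F, Matrix.mulVec T x = x + c • v := fun x => by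
    obtain ⟨c, hc⟩ := hspan ⟨_, LinearMap.mem_range_self _ x⟩
    refine ⟨c, ?_⟩
    have e : c • v = Matrix.mulVec (T - 1) x := congrArg Subtype.val hc
    rw [e, Matrix.sub_mulVec, Matrix.one_mulVec]
    abel
  choose φ hφ using hφ
  obtain ⟨y₀, hy₀⟩ : ∃ y, stdSymp m v y ≠ 0 := by
    by_contra hne
    push Not at hne
    exact hv (hS.nondeg v hne)
  have hrel : ∀ x, φ x * stdSymp m v y₀ = φ y₀ * stdSymp m v x := fun x => by
    have h := form_mulVec t x y₀
    rw [hφ x, hφ y₀] at h
    simp only [map_add, map_smul, LinearMap.add_apply, LinearMap.smul_apply, hS.alt,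
      smul_eq_mul] at h
    rw [hS.flip x v] at h
    linear_combination h
  have hc0 : φ y₀ ≠ 0 := by
    intro h0
    have : ∀ x, φ x = 0 := fun x => by
      have := hrel x
      rw [h0, zero_mul] at this
      exact (mul_eq_zero.1 this).resolve_right hy₀
    obtain ⟨x, hx⟩ := hvr
    apply hv
    rw [← hx, Matrix.mulVecLin_apply, Matrix.sub_mulVec, hφ, this, zero_smul, add_zero,
      Matrix.one_mulVec, sub_self]
  set c := φ y₀ / stdSymp m v y₀ with hc
  have hT : ∀ x, Matrix.mulVec T x = x + (c * stdSymp m v x) • v := fun x => by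
    rw [hφ x, hc, div_mul_eq_mul_div, ← hrel x, mul_div_cancel_right₀ _ hy₀]
  have hcne : c ≠ 0 := div_ne_zero hc0 hy₀
  refine ⟨v, hv, fun g => ?_⟩
  rw [Subgroup.mem_centralizer_singleton_iff]
  set G := (g : Matrix (Fin m ⊕ Fin m) (Fin m ⊕ Fin m) F)
  have hGT : g * t = t * g ↔ ∀ x, stdSymp m v x • Matrix.mulVec G v
      = stdSymp m v (Matrix.mulVec G x) • v := by
    rw [Subtype.ext_iff]
    show G * T = T * G ↔ _
    constructor
    · intro h x
      have := congrArg (fun A => Matrix.mulVec A x) h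
      simp only [← Matrix.mulVec_mulVec, hT, Matrix.mulVec_add, Matrix.mulVec_smul, add_right_inj,
        mul_smul] at this
      exact smul_right_injective V hcne this
    · intro h
      apply Matrix.ext_of_mulVec_single
      intro i
      simp only [← Matrix.mulVec_mulVec, hT, Matrix.mulVec_add, Matrix.mulVec_smul, mul_smul, h]
  constructor
  · intro h
    have hh := hGT.1 (by first | exact h | exact h.symm)
    set a := (stdSymp m v y₀)⁻¹ * stdSymp m v (Matrix.mulVec G y₀) with ha
    have hgv : Matrix.mulVec G v = a • v := by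
      rw [ha, mul_smul, ← hh, inv_smul_smul₀ hy₀]
    have h1 : stdSymp m v (Matrix.mulVec G y₀) = stdSymp m v y₀ * a := by
      rw [ha, mul_inv_cancel_left₀ hy₀]
    have h2 := form_mulVec g v y₀
    rw [show (g : Matrix (Fin m ⊕ Fin m) (Fin m ⊕ Fin m) F) = G from rfl, hgv, map_smul,
      LinearMap.smul_apply, smul_eq_mul, h1] at h2
    have ha2 : a * a = 1 := mul_left_cancel₀ hy₀ (by linear_combination h2)
    rcases mul_self_eq_one_iff.1 ha2 with e | e
    · rw [hgv, e, one_smul]
    · rw [hgv, e, CharTwo.neg_eq, one_smul]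
  · intro h
    have := hGT.2 fun x => by
      have e := form_mulVec g v x
      rw [show (g : Matrix (Fin m ⊕ Fin m) (Fin m ⊕ Fin m) F) = G from rfl, h] at e
      rw [h, e]
    first | exact this | exact this.symm

theorem result {F : Type*} [Field F] [Fintype F] [CharP F 2] {q : ℕ} (hF : Fintype.card F = q) {m : ℕ} (hm : 1 ≤ m) (t : Matrix.symplecticGroup (Fin m) F) (ht : ((t : Matrix (Fin m ⊕ Fin m) (Fin m ⊕ Fin m) F) - 1).rank = 1) : Nat.card ↥(Subgroup.centralizer ({t} : Set ↥(Matrix.symplecticGroup (Fin m) F))) = q ^ (2 * m - 1) * (q ^ ((m - 1) ^ 2) * ∏ i : Fin (m - 1), (q ^ (2 * ((i : ℕ) + 1)) - 1)) := by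
  obtain ⟨v, hv, hC⟩ := centralizer_eq_stabilizer t ht
  have h := natCard_stabilizer hv
  rw [← Nat.card_congr (Equiv.subtypeEquivRight hC), natCard_symplecticGroup, Nat.card_eq_fintype_card (α := F), hF] at h
  obtain ⟨k, rfl⟩ : ∃ k, m = k + 1 := ⟨m - 1, by omega⟩
  have hq : 2 ≤ q := hF ▸ Fintype.one_lt_card
  have hpos : 0 < q ^ (2 * (k + 1)) - 1 :=
    Nat.sub_pos_of_lt (Nat.one_lt_pow (by omega) (by omega))
  apply Nat.eq_of_mul_eq_mul_left hpos
  refine h.trans ?_
  rw [Finset.prod_range_succ, Fin.prod_univ_eq_prod_range (fun i => q ^ (2 * (i + 1)) - 1) (k + 1 - 1),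
    Nat.add_sub_cancel, show 2 * (k + 1) - 1 = 2 * k + 1 by omega,
    show (k + 1) ^ 2 = 2 * k + 1 + k ^ 2 by ring, pow_add]
  ring

end Cfsg.Agent.S2594
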