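import Cfsg.Statements.S2599
import Mathlib
-- import your own Cfsg.Agent.* helpers here

set_option autoImplicit false
open Cfsg

namespace Cfsg.Agent.S2599
theorem preserved {F : Type*} [Field F] {n : ℕ} (Q : QuadraticForm F (Fin n → F))
    (x : ↥(Cfsg.isometryGroup F ⇑Q)) (u : Fin n → F) :
    Q (((x : Matrix.GeneralLinearGroup (Fin n) F) : Matrix (Fin n) (Fin n) F).mulVec u) = Q u :=
  x.2 u u


/-- An irreducible invariant subspace of a semisimple isometry is non-degenerate or totally singular: let Q be a quadratic form on F^n (F finite of characteristic p) with non-degenerate polar form f, x an isometry of Q of order prime to p, and U a non-zero x-invariant subspace containing no x-invariant subspace other than 0 and U. Then U meets its f-orthogonal trivially, or Q vanishes on U, or p = 2, U is a line spanned by a non-singular vector and x fixes U pointwise. -/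
theorem result {F : Type*} [Field F] [Fintype F] {p : ℕ} [Fact p.Prime] [CharP F p] {n : ℕ} (Q : QuadraticForm F (Fin n → F)) (hQ : (QuadraticMap.polarBilin Q).Nondegenerate) (x : ↥(Cfsg.isometryGroup F ⇑Q)) (hx : (orderOf x).Coprime p) (U : Submodule F (Fin n → F)) (hU0 : U ≠ ⊥) (hUx : ∀ u ∈ U, ((x : Matrix.GeneralLinearGroup (Fin n) F) : Matrix (Fin n) (Fin n) F).mulVec u ∈ U) (hirr : ∀ W : Submodule F (Fin n → F), W ≤ U → (∀ w ∈ W, ((x : Matrix.GeneralLinearGroup (Fin n) F) : Matrix (Fin n) (Fin n) F).mulVec w ∈ W) → W = ⊥ ∨ W = U) : U ⊓ LinearMap.BilinForm.orthogonal (QuadraticMap.polarBilin Q) U = ⊥ ∨ (∀ u ∈ U, Q u = 0) ∨ (p = 2 ∧ Module.finrank F U = 1 ∧ (∃ u ∈ U, Q u ≠ 0) ∧ ∀ u ∈ U, ((x : Matrix.GeneralLinearGroup (Fin n) F) : Matrix (Fin n) (Fin n) F).mulVec u = u) := by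
  classical
  set A : Matrix (Fin n) (Fin n) F := ((x : Matrix.GeneralLinearGroup (Fin n) F) : Matrix (Fin n) (Fin n) F)
    with hA
  have hpres : ∀ u, Q (A.mulVec u) = Q u := preserved Q x
  have hinj : Function.Injective A.mulVec :=
    Matrix.mulVec_injective_iff_isUnit.2 (Units.isUnit _)
  -- the restriction of `x` to `U` is surjective
  let T : U →ₗ[F] U := (Matrix.mulVecLin A).restrict hUx
  have hTinj : Function.Injective T := by
    intro a b hab
    exact Subtype.ext (hinj (congrArg Subtype.val hab))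
  have hTsur : ∀ u ∈ U, ∃ u' ∈ U, A.mulVec u' = u := by
    intro u hu
    obtain ⟨w, hw⟩ := LinearMap.surjective_of_injective hTinj ⟨u, hu⟩
    exact ⟨w, w.2, congrArg Subtype.val hw⟩
  have hinv : ∀ w ∈ U ⊓ LinearMap.BilinForm.orthogonal (QuadraticMap.polarBilin Q) U,
      A.mulVec w ∈ U ⊓ LinearMap.BilinForm.orthogonal (QuadraticMap.polarBilin Q) U := by
    rintro w ⟨hw1, hw2⟩
    refine ⟨hUx w hw1, ?_⟩
    rw [SetLike.mem_coe, LinearMap.BilinForm.mem_orthogonal_iff]
    intro u hu
    obtain ⟨u', hu', rfl⟩ := hTsur u hu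
    rw [SetLike.mem_coe, LinearMap.BilinForm.mem_orthogonal_iff] at hw2
    have h0 := hw2 u' hu'
    simp only [QuadraticMap.polarBilin_apply_apply, QuadraticMap.polar] at h0 ⊢
    rw [← Matrix.mulVec_add, hpres, hpres, hpres]
    exact h0
  rcases hirr _ inf_le_left hinv with h | h
  · exact Or.inl h
  have hperp : ∀ a ∈ U, ∀ b ∈ U, QuadraticMap.polar Q a b = 0 := by
    intro a ha b hb
    exact LinearMap.BilinForm.mem_orthogonal_iff.1 (inf_eq_left.1 h hb) a ha
  have hadd : ∀ a ∈ U, ∀ b ∈ U, Q (a + b) = Q a + Q b := by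
    intro a ha b hb
    have := hperp a ha b hb
    rw [QuadraticMap.polar] at this
    linear_combination this
  by_cases hp : p = 2
  · subst hp
    by_cases hsing : ∀ u ∈ U, Q u = 0
    · exact Or.inr (Or.inl hsing)
    push Not at hsing
    obtain ⟨u0, hu0, hQ0⟩ := hsing
    let W : Submodule F (Fin n → F) :=
      { carrier := {w | w ∈ U ∧ Q w = 0}
        add_mem' := fun {a b} ha hb => ⟨U.add_mem ha.1 hb.1, by rw [hadd a ha.1 b hb.1, ha.2, hb.2, add_zero]⟩
        zero_mem' := ⟨U.zero_mem, QuadraticMap.map_zero Q⟩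
        smul_mem' := fun c a ha => ⟨U.smul_mem c ha.1, by rw [QuadraticMap.map_smul, ha.2, smul_zero]⟩ }
    have hW : W = ⊥ := by
      rcases hirr W (fun w hw => hw.1) (fun w hw => ⟨hUx w hw.1, (hpres w).trans hw.2⟩) with h' | h'
      · exact h'
      · exact absurd ((show u0 ∈ W from h'.symm ▸ hu0).2) hQ0
    have hu00 : u0 ≠ 0 := by rintro rfl; exact hQ0 (QuadraticMap.map_zero Q)
    have hline : ∀ u ∈ U, ∃ c : F, u = c • u0 := by
      intro u hu
      obtain ⟨c, hc⟩ := FiniteField.isSquare_of_char_two (ringChar.eq F 2) (Q u / Q u0)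
      refine ⟨c, ?_⟩
      have hmem : u + c • u0 ∈ W := by
        refine ⟨U.add_mem hu (U.smul_mem c hu0), ?_⟩
        rw [hadd u hu _ (U.smul_mem c hu0), QuadraticMap.map_smul, ← hc, smul_eq_mul,
          div_mul_cancel₀ _ hQ0, CharTwo.add_self_eq_zero]
      rw [hW, Submodule.mem_bot] at hmem
      funext i
      have := congrFun hmem i
      exact CharTwo.add_eq_zero.1 this
    refine Or.inr (Or.inr ⟨rfl, ?_, ⟨u0, hu0, hQ0⟩, ?_⟩)
    · refine finrank_eq_one_iff'.2 ⟨⟨u0, hu0⟩, fun h' => hu00 (congrArg Subtype.val h'), fun w => ?_⟩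
      obtain ⟨c, hc⟩ := hline w w.2
      exact ⟨c, Subtype.ext hc.symm⟩
    · obtain ⟨c, hc⟩ := hline _ (hUx u0 hu0)
      have hc1 : c = 1 := by
        have h2 := hpres u0
        rw [hc, QuadraticMap.map_smul, smul_eq_mul] at h2
        have h3 : c * c = 1 := mul_right_cancel₀ hQ0 (by rw [one_mul]; exact h2)
        rcases mul_self_eq_one_iff.1 h3 with h4 | h4
        · exact h4
        · rw [h4, CharTwo.neg_eq]
      intro u hu
      obtain ⟨d, rfl⟩ := hline u hu
      rw [Matrix.mulVec_smul, hc, hc1, one_smul]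
  · refine Or.inr (Or.inl fun u hu => ?_)
    have h1 := hperp u hu u hu
    rw [QuadraticMap.polar_self] at h1
    simp only [nsmul_eq_mul, Nat.cast_ofNat] at h1
    refine (mul_eq_zero.1 h1).resolve_left ?_
    intro h2
    apply hp
    have h3 : ((2 : ℕ) : F) = 0 := by exact_mod_cast h2
    exact (Nat.prime_dvd_prime_iff_eq (Fact.out) Nat.prime_two).1 ((CharP.cast_eq_zero_iff F p 2).1 h3)

end Cfsg.Agent.S2599
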