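import Cfsg.Statements.S2601
import Cfsg.Agent.Lib.Similarity.OutPSL
-- import your own Cfsg.Agent.* helpers here

set_option autoImplicit false
open Cfsg

namespace Cfsg.Agent.S2601
open Cfsg.Agent.Lib

theorem zmod_two_cases (x : ZMod 2) : x = 0 ∨ x = 1 := by
  revert x
  decide

/-- the sign part: `0 ↦ 1`, `1 ↦ invTrans` -/
noncomputable def signHom {n : ℕ} {F : Type*} [Field F] :
    Multiplicative (ZMod 2) →* MulAut (PSLAut.PSLn n F) where
  toFun x := if x.toAdd = 0 then 1 else PSLAut.invTrans
  map_one' := by simp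
  map_mul' x y := by
    rcases zmod_two_cases x.toAdd with h | h <;> rcases zmod_two_cases y.toAdd with h' | h' <;>
      simp [toAdd_mul, h, h', PSLAut.invTrans_mul_self, show (1 : ZMod 2) + 1 = 0 from by decide]

/-- Structure of the outer automorphism group of PSL_n(q), n ≥ 3, q = p^f: it has a normal cyclic subgroup of order gcd(n, q − 1) (the diagonal automorphisms) whose quotient is the direct product of a cyclic group of order f (field automorphisms) and a group of order 2 (the inverse-transpose graph automorphism). -/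
theorem result {F : Type*} [Field F] [Fintype F] {p f n : ℕ} [Fact p.Prime] (hf : 1 ≤ f) (hF : Fintype.card F = p ^ f) (hn : 3 ≤ n) : ∃ φ : Cfsg.Out (Matrix.ProjectiveSpecialLinearGroup (Fin n) F) →* Multiplicative (ZMod f × ZMod 2), Function.Surjective φ ∧ IsCyclic φ.ker ∧ Nat.card φ.ker = Nat.gcd n (p ^ f - 1) := by
  classical
  obtain ⟨ψ⟩ := Similarity.nonempty_fieldAut_equiv hF
  rw [← hF]
  let A := Multiplicative (ZMod f × ZMod 2)
  let pA : A →* Multiplicative (ZMod f) := AddMonoidHom.toMultiplicative (AddMonoidHom.fst _ _)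
  let pB : A →* Multiplicative (ZMod 2) := AddMonoidHom.toMultiplicative (AddMonoidHom.snd _ _)
  let μ : A →* MulAut (PSLAut.PSLn n F) :=
    MonoidHom.noncommCoprod ((PSLAut.fieldAut (n := n) (F := F)).comp ψ.symm.toMonoidHom) signHom
      (fun a b => by
        show Commute (PSLAut.fieldAut (ψ.symm a)) (if b.toAdd = 0 then 1 else PSLAut.invTrans)
        split_ifs
        · exact Commute.one_right _
        · exact (PSLAut.invTrans_mul_fieldAut _).symm) |>.comp (pA.prod pB)
  have hμ : ∀ a : A, μ a = PSLAut.fieldAut (ψ.symm (pA a)) *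
      (if (pB a).toAdd = 0 then 1 else PSLAut.invTrans) := fun a => rfl
  have hA : ∀ x y, pA (Multiplicative.ofAdd (x, y)) = Multiplicative.ofAdd x := fun x y => rfl
  have hB : ∀ x y, (pB (Multiplicative.ofAdd (x, y))).toAdd = y := fun x y => rfl
  refine Similarity.exists_out_hom (by omega : 2 ≤ n) μ (fun β => ?_) (fun g a h => ?_)
  · obtain ⟨g, σ, ε, hε, rfl⟩ := PSLAut.exists_eq_conj_mul_fieldAut_mul (by omega) β
    rcases hε with rfl | rfl
    · refine ⟨g, Multiplicative.ofAdd ((ψ σ).toAdd, (0 : ZMod 2)), ?_⟩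
      rw [hμ, hA, hB, ofAdd_toAdd, MulEquiv.symm_apply_apply, if_pos rfl]
      simp
    · refine ⟨g, Multiplicative.ofAdd ((ψ σ).toAdd, (1 : ZMod 2)), ?_⟩
      rw [hμ, hA, hB, ofAdd_toAdd, MulEquiv.symm_apply_apply, if_neg (by decide), mul_assoc]
  · rw [hμ, ← mul_assoc] at h
    have key := PSLAut.normalForm_injective hn (g := g) (g' := (1 : GL (Fin n) F))
      (σ := ψ.symm (pA a)) (σ' := (1 : F ≃+* F))
      (b := decide ((pB a).toAdd ≠ 0)) (b' := false) (by
        simp only [map_one, one_mul, Bool.false_eq_true, if_false, decide_eq_true_eq, ne_eq, ite_not]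
        exact h)
    obtain ⟨-, h2, h3⟩ := key
    have h2' : pA a = 1 := ψ.symm.injective (h2.trans (map_one _).symm)
    have h3' : (pB a).toAdd = 0 := by simpa using h3
    apply Multiplicative.toAdd.injective
    exact Prod.ext (congrArg Multiplicative.toAdd h2') h3'

end Cfsg.Agent.S2601
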