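import Cfsg.Statements.S2602
import Cfsg.Agent.Lib.Similarity.OutPSL
-- import your own Cfsg.Agent.* helpers here

set_option autoImplicit false
open Cfsg

namespace Cfsg.Agent.S2602
open Cfsg.Agent.Lib

/-- Structure of the outer automorphism group of PSL_2(q), q = p^f ≥ 4: it has a normal cyclic subgroup of order gcd(2, q − 1) (diagonal automorphisms) with cyclic quotient of order f (field automorphisms); there is no graph automorphism in dimension 2. -/
theorem result {F : Type*} [Field F] [Fintype F] {p f : ℕ} [Fact p.Prime] (hf : 1 ≤ f) (hF : Fintype.card F = p ^ f) (h4 : 4 ≤ p ^ f) : ∃ φ : Cfsg.Out (Matrix.ProjectiveSpecialLinearGroup (Fin 2) F) →* Multiplicative (ZMod f), Function.Surjective φ ∧ IsCyclic φ.ker ∧ Nat.card φ.ker = Nat.gcd 2 (p ^ f - 1) := by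
  obtain ⟨ψ⟩ := Similarity.nonempty_fieldAut_equiv hF
  obtain ⟨w, hw⟩ := PSLAut.invTrans_eq_conj_two (F := F)
  rw [← hF]
  refine Similarity.exists_out_hom (n := 2) le_rfl
    ((PSLAut.fieldAut (n := 2) (F := F)).comp ψ.symm.toMonoidHom) (fun β => ?_) (fun g a h => ?_)
  · obtain ⟨g, σ, ε, hε, rfl⟩ := PSLAut.exists_eq_conj_mul_fieldAut_mul le_rfl β
    rcases hε with rfl | rfl
    · exact ⟨g, ψ σ, by simp⟩
    · refine ⟨g * PSLAut.glField σ w, ψ σ, ?_⟩
      rw [hw, map_mul, mul_assoc, PSLAut.fieldAut_mul_conj, ← mul_assoc]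
      simp
  · have h1 : PSLAut.conj g⁻¹ = PSLAut.fieldAut (n := 2) (ψ.symm a) := by
      rw [map_inv, inv_eq_iff_mul_eq_one]
      exact h
    exact ψ.symm.injective ((PSLAut.conj_eq_fieldAut le_rfl h1).1.trans (map_one _).symm)

end Cfsg.Agent.S2602
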