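import Cfsg.Statements.S2610
import Mathlib
import Cfsg.Agent.Lib.Similarity.SpinorProduct
-- import your own Cfsg.Agent.* helpers here

set_option autoImplicit false
open Cfsg

namespace Cfsg.Agent.S2610
open Cfsg.Agent.Lib.Similarity Cfsg.Agent.Lib.Orth

/-- For a quadratic form Q on F^n with non-degenerate polar form, F finite of odd order and n ≥ 2 even, the isometry −1 lies in Ω (the commutator subgroup of the orthogonal group) if and only if the discriminant of Q (the determinant of the Gram matrix of its polar form) is a square. -/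
theorem result {F : Type*} [Field F] [Fintype F] (h2 : (2 : F) ≠ 0) {n : ℕ} (hn : 2 ≤ n) (he : Even n) (Q : QuadraticForm F (Fin n → F)) (hQ : (QuadraticMap.polarBilin Q).Nondegenerate) : (∃ g : ↥(Cfsg.isometryGroup F ⇑Q), g ∈ Cfsg.Omega F ⇑Q ∧ ((g : Matrix.GeneralLinearGroup (Fin n) F) : Matrix (Fin n) (Fin n) F) = -1) ↔ IsSquare (Matrix.of (fun i j : Fin n => QuadraticMap.polar ⇑Q (Pi.single i 1) (Pi.single j 1))).det := by
  classical
  obtain ⟨b, hb, hb'⟩ := exists_orthoBasis h2 hQ
  -- `-1` in terms of the orthogonal basis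
  have hcard : 2 ≤ Fintype.card (Fin n) := by simpa using hn
  have hev : Even (Fintype.card (Fin n)) := by simpa using he
  have hd : detSign Q h2 hQ (negOne Q) = 1 := by
    rw [map_negOne _ b hb hb']
    simp only [detSign_refl, Finset.prod_const, Finset.card_univ, Fintype.card_fin]
    exact he.neg_one_pow
  have hprodne : ∀ s : Finset (Fin (Fintype.card (Fin n))), ∏ i ∈ s, Q (b i) ≠ 0 := fun s =>
    Finset.prod_ne_zero_iff.2 fun i _ => hb' i
  have hs : spinor Q (negOne Q) = sqSign (∏ i, Q (b i)) := by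
    rw [map_negOne _ b hb hb']
    have key : ∀ s : Finset (Fin (Fintype.card (Fin n))),
        ∏ i ∈ s, spinor Q (refl Q (b i) (hb' i)) = (-1) ^ s.card * sqSign (∏ i ∈ s, Q (b i)) := by
      intro s
      induction s using Finset.induction with
      | empty => simp [sqSign_one]
      | @insert a s ha ih =>
          rw [Finset.prod_insert ha, Finset.prod_insert ha, ih, spinor_refl_eq h2,
            sqSign_mul h2 (hb' a) (hprodne s), Finset.card_insert_of_notMem ha, pow_succ',
            neg_one_mul, neg_mul, neg_mul, mul_left_comm]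
    rw [key, Finset.card_univ, Fintype.card_fin (Fintype.card (Fin n)), hev.neg_one_pow, one_mul]
  have hneg : ((negOne Q : Matrix.GeneralLinearGroup (Fin n) F) : Matrix (Fin n) (Fin n) F) = -1 :=
    mat_eq fun v => by rw [app_negOne, Matrix.neg_mulVec, Matrix.one_mulVec]
  -- the discriminant
  let e := finCongr (Fintype.card_fin n).symm
  let M : Matrix (Fin n) (Fin n) F := Matrix.of fun i j => b (e j) i
  let G : Matrix (Fin n) (Fin n) F :=
    Matrix.of fun i j : Fin n => QuadraticMap.polar ⇑Q (Pi.single i 1) (Pi.single j 1)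
  have hG : G = LinearMap.toMatrix₂' F (QuadraticMap.polarBilin Q) := by
    ext i j
    simp [G, LinearMap.toMatrix₂'_apply]
  have hM : M.transpose * G * M = Matrix.diagonal fun j => 2 * Q (b (e j)) := by
    rw [hG, show M.transpose * LinearMap.toMatrix₂' F (QuadraticMap.polarBilin Q) * M =
      LinearMap.toMatrix₂' F ((QuadraticMap.polarBilin Q).compl₁₂ (Matrix.toLin' M) (Matrix.toLin' M))
      by rw [LinearMap.toMatrix₂'_compl₁₂, LinearMap.toMatrix'_toLin']]
    ext i j
    have hcol : ∀ k, M.mulVec (Pi.single k 1) = b (e k) := fun k => by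
      rw [Matrix.mulVec_single_one]; rfl
    rw [LinearMap.toMatrix₂'_apply, LinearMap.compl₁₂_apply, Matrix.toLin'_apply,
      Matrix.toLin'_apply, hcol, hcol, QuadraticMap.polarBilin_apply_apply]
    by_cases h : i = j
    · subst h
      rw [Matrix.diagonal_apply_eq, QuadraticMap.polar_self, nsmul_eq_mul, Nat.cast_ofNat]
    · rw [Matrix.diagonal_apply_ne _ h, hb _ _ fun h' => h (e.injective h')]
  have hdet : M.det * M.det * G.det = 2 ^ n * ∏ i, Q (b i) := by
    have h := congrArg Matrix.det hM
    rw [Matrix.det_mul, Matrix.det_mul, Matrix.det_transpose, Matrix.det_diagonal,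
      Finset.prod_mul_distrib, Equiv.prod_comp e (fun i => Q (b i))] at h
    have h2n : ∏ _i : Fin n, (2 : F) = 2 ^ n := Fin.prod_const n 2
    rw [h2n] at h
    rw [← h]
    ring
  have hM0 : M.det ≠ 0 := by
    intro h
    rw [h, mul_zero, zero_mul] at hdet
    exact mul_ne_zero (pow_ne_zero _ h2) (hprodne _) hdet.symm
  have hsq : IsSquare G.det ↔ IsSquare (∏ i, Q (b i)) := by
    obtain ⟨k, hk⟩ := he
    have h2k : (2 : F) ^ n = 2 ^ k * 2 ^ k := by rw [← pow_add, ← hk]
    rw [h2k] at hdet
    constructor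
    · rintro ⟨r, hr⟩
      refine ⟨M.det * r / 2 ^ k, ?_⟩
      rw [hr] at hdet
      field_simp
      linear_combination -hdet
    · rintro ⟨r, hr⟩
      refine ⟨2 ^ k * r / M.det, ?_⟩
      rw [hr] at hdet
      field_simp
      linear_combination hdet
  show _ ↔ IsSquare G.det
  rw [hsq, ← sqSign_eq_one_iff, ← hs]
  constructor
  · rintro ⟨g, hg, hg'⟩
    have : g = negOne Q := Subtype.ext (Units.ext (hg'.trans hneg.symm))
    exact ((mem_omega_iff h2 hQ hcard _).1 (this ▸ hg)).2
  · intro h
    exact ⟨negOne Q, (mem_omega_iff h2 hQ hcard _).2 ⟨hd, h⟩, hneg⟩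

end Cfsg.Agent.S2610
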