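import Cfsg.Statements.S2612
import Mathlib
import Cfsg.Agent.Lib.OmegaPlus.Levi
-- import your own Cfsg.Agent.* helpers here

set_option autoImplicit false
open Cfsg

namespace Cfsg.Agent.S2612

/-- For the hyperbolic quadratic form Σ x_i y_i on F^(2m) (F finite, m ≥ 1, excluding m = 2 over the field of two elements), Ω⁺_2m(F) (the commutator subgroup of the orthogonal group) contains an element interchanging the two complementary maximal totally singular subspaces {y = 0} and {x = 0} if and only if m is even (dimension divisible by 4). -/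
theorem result {F : Type*} [Field F] [Fintype F] {m : ℕ} (hm : 1 ≤ m) (h : Fintype.card F ≠ 2 ∨ m ≠ 2) : (∃ g : ↥(Cfsg.isometryGroup F (Cfsg.quadFormPlus m F)), g ∈ Cfsg.Omega F (Cfsg.quadFormPlus m F) ∧ (∀ v : Fin m ⊕ Fin m → F, (∀ i, v (Sum.inr i) = 0) → ∀ i, (((g : Matrix.GeneralLinearGroup (Fin m ⊕ Fin m) F) : Matrix (Fin m ⊕ Fin m) (Fin m ⊕ Fin m) F).mulVec v) (Sum.inl i) = 0) ∧ (∀ v : Fin m ⊕ Fin m → F, (∀ i, v (Sum.inl i) = 0) → ∀ i, (((g : Matrix.GeneralLinearGroup (Fin m ⊕ Fin m) F) : Matrix (Fin m ⊕ Fin m) (Fin m ⊕ Fin m) F).mulVec v) (Sum.inr i) = 0)) ↔ Even m := by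
  rw [← Lib.StdForms.coe_plusQ]
  have hF : Nat.card F ≠ 2 ∨ m ≠ 2 := by rw [Nat.card_eq_fintype_card]; exact h
  constructor
  · rintro ⟨g, hg, hswap, -⟩
    have h1 := Lib.OmegaPlusLevi.classSign_of_swaps (g := g)
      (fun v hv => funext fun i => hswap v (fun j => congrFun hv j) i)
    rw [Lib.OmegaPlusLevi.omega_le_classSign hg] at h1
    exact (neg_one_pow_eq_one_iff_even (R := ℤˣ) (by decide)).1 h1.symm
  · intro he
    obtain ⟨A, hA⟩ := Lib.OmegaPlusLevi.exists_swaps_omega hm hF he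
    refine ⟨_, hA, ?_, ?_⟩
    · intro v hv i
      have hv' : v ∘ Sum.inr = 0 := funext hv
      rw [Subgroup.coe_mul, Units.val_mul, ← Matrix.mulVec_mulVec, Lib.OmegaPlusLevi.swapPair_coe,
        Lib.OmegaPlusLevi.levi_coe]
      simp [Matrix.fromBlocks_mulVec, hv']
    · intro v hv i
      have hv' : v ∘ Sum.inl = 0 := funext hv
      rw [Subgroup.coe_mul, Units.val_mul, ← Matrix.mulVec_mulVec, Lib.OmegaPlusLevi.swapPair_coe,
        Lib.OmegaPlusLevi.levi_coe]
      simp [Matrix.fromBlocks_mulVec, hv']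

end Cfsg.Agent.S2612
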