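import Cfsg.Statements.S2613
import Mathlib
import Cfsg.Agent.Lib.Dickson.StdQuad
import Cfsg.Agent.Lib.Dickson.PairNeg
-- import your own Cfsg.Agent.* helpers here

set_option autoImplicit false
open Cfsg

namespace Cfsg.Agent.S2613

/-- For the hyperbolic form Σ x_j y_j on F^(2m), F finite with q elements, q odd, and 1 ≤ i ≤ m: the involution negating the first i hyperbolic pairs (x_j, y_j ↦ −x_j, −y_j for j < i) and fixing the rest lies in Ω⁺_2m(q) (commutator subgroup of the orthogonal group) if and only if q^i ≡ 1 (mod 4); its (−1)-eigenspace is a hyperbolic 2i-space. -/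
theorem result {F : Type*} [Field F] [Fintype F] {q : ℕ} (hF : Fintype.card F = q) (hq : Odd q) {m : ℕ} (i : ℕ) (hi : 1 ≤ i) (him : i ≤ m) : (∃ g : ↥(Cfsg.isometryGroup F (Cfsg.quadFormPlus m F)), g ∈ Cfsg.Omega F (Cfsg.quadFormPlus m F) ∧ ((g : Matrix.GeneralLinearGroup (Fin m ⊕ Fin m) F) : Matrix (Fin m ⊕ Fin m) (Fin m ⊕ Fin m) F) = Matrix.diagonal (fun k : Fin m ⊕ Fin m => if (Sum.elim (fun j : Fin m => (j : ℕ)) (fun j : Fin m => (j : ℕ)) k) < i then (-1 : F) else 1)) ↔ q ^ i % 4 = 1 := by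
  open Cfsg.Agent.Lib.StdForms in
  open Cfsg.Agent.Lib.PairNeg in
  refine neg_pairs_mem_omega_iff hF hq (coe_plusQ F m) (plusQ_nondegenerate m) _ i hi fun j hj => ?_
  refine ⟨Sum.inl ⟨j, by omega⟩, Sum.inr ⟨j, by omega⟩, ⟨by simp, ?_, ?_, ?_, ?_⟩, ?_⟩
  · simp [coe_plusQ, Cfsg.quadFormPlus, Pi.single_apply]
  · simp [coe_plusQ, Cfsg.quadFormPlus, Pi.single_apply]
  · intro x; simp [coe_plusQ, polar_plus, Pi.single_apply]
  · intro x; simp [coe_plusQ, polar_plus, Pi.single_apply]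
  · rintro (k | k) <;> simp [Fin.ext_iff]

end Cfsg.Agent.S2613
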