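import Cfsg.Statements.S2617
import Mathlib
import Cfsg.Agent.Lib.Dickson.StdForms
import Cfsg.Agent.Lib.Dickson.SquareClass
-- import your own Cfsg.Agent.* helpers here

set_option autoImplicit false
open Cfsg

namespace Cfsg.Agent.S2617

/-- The two standard quadratic forms of even dimension 2m over a finite field are not isometric: there is no linear isomorphism carrying the elliptic form Σ_(i<m−1) x_i y_i + z₁² + z₁z₂ + ζ z₂² (t² + t + ζ without roots) to the hyperbolic form Σ_(i<m) x_i y_i (they have different Witt index). -/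
theorem result {F : Type*} [Field F] [Finite F] {m : ℕ} (hm : 1 ≤ m) (ζ : F) (hζ : ∀ t : F, t ^ 2 + t + ζ ≠ 0) (g : (Fin m ⊕ Fin m → F) ≃ₗ[F] ((Fin (m - 1) ⊕ Fin (m - 1)) ⊕ Fin 2 → F)) : ¬ (∀ v : Fin m ⊕ Fin m → F, Cfsg.quadFormMinus (m - 1) F 1 ζ (g v) = Cfsg.quadFormPlus m F v) := by
  intro hg
  obtain ⟨k, rfl⟩ : ∃ k, m = k + 1 := ⟨m - 1, by omega⟩
  let emb : (Fin (k + 1) → F) →ₗ[F] (Fin (k + 1) ⊕ Fin (k + 1) → F) :=
    { toFun := fun x => Sum.elim x 0
      map_add' := fun x y => by ext (i | i) <;> simp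
      map_smul' := fun c x => by ext (i | i) <;> simp }
  have hab : ∀ z₁ z₂ : F, z₁ ^ 2 + 1 * z₁ * z₂ + ζ * z₂ ^ 2 = 0 → z₁ = 0 ∧ z₂ = 0 := by
    intro z₁ z₂ h
    rcases eq_or_ne z₂ 0 with hz | hz
    · subst hz; simpa using h
    · exact absurd (by field_simp; linear_combination h) (hζ (z₁ / z₂))
  have := Cfsg.Agent.Lib.StdForms.minus_singular_dim_le (m := k + 1 - 1) 1 ζ hab
    (g.toLinearMap.comp emb)
    (g.injective.comp fun x y h => funext fun i => congrFun h (Sum.inl i))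
    (fun x => (hg (emb x)).trans (by simp [emb, Cfsg.quadFormPlus]))
  omega

end Cfsg.Agent.S2617
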