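import Cfsg.Statements.S2620
import Mathlib
import Cfsg.Agent.Lib.Dickson.StdForms
import Cfsg.Agent.Lib.Dickson.SquareClass
-- import your own Cfsg.Agent.* helpers here

set_option autoImplicit false
open Cfsg

namespace Cfsg.Agent.S2620

/-- Discriminant of the hyperbolic quadratic form Σ_(i<m) x_i y_i over a field with q elements, q odd, m ≥ 1: the determinant of the Gram matrix of its polar form in any basis is a square if and only if m(q − 1)/2 is even (equivalently q^m ≡ 1 (mod 4)). -/
theorem result {F : Type*} [Field F] [Fintype F] {q : ℕ} (hF : Fintype.card F = q) (hq : Odd q) {m : ℕ} (hm : 1 ≤ m) {ι : Type*} [Fintype ι] [DecidableEq ι] (b : Module.Basis ι F (Fin m ⊕ Fin m → F)) : IsSquare (Matrix.of (fun i j : ι => QuadraticMap.polar (Cfsg.quadFormPlus m F) (b i) (b j))).det ↔ Even (m * (q - 1) / 2) := by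
  open Cfsg.Agent.Lib.StdForms in
  open Cfsg.Agent.Lib.SquareClass in
  let B : LinearMap.BilinForm F (Fin m ⊕ Fin m → F) :=
    LinearMap.mk₂ F (fun u v => (∑ i, u (.inl i) * v (.inr i)) + ∑ i, v (.inl i) * u (.inr i))
      (fun _ _ _ => by simp [add_mul, mul_add, Finset.sum_add_distrib]; ring)
      (fun _ _ _ => by simp [Finset.mul_sum, mul_add, mul_left_comm, mul_assoc])
      (fun _ _ _ => by simp [add_mul, mul_add, Finset.sum_add_distrib]; ring)
      (fun _ _ _ => by simp [Finset.mul_sum, mul_add, mul_left_comm, mul_assoc])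
  obtain ⟨d, hd, he⟩ := gramMat_det_basis (QuadraticMap.polar (Cfsg.quadFormPlus m F)) B
    (fun u v => polar_plus u v) (Pi.basisFun F (Fin m ⊕ Fin m)) b
  have hG : gramMat (QuadraticMap.polar (Cfsg.quadFormPlus m F)) (Pi.basisFun F (Fin m ⊕ Fin m))
      = Matrix.fromBlocks 0 1 1 0 := by
    ext i j
    rcases i with i | i <;> rcases j with j | j <;>
      simp [gramMat, polar_plus, Pi.single_apply, Matrix.one_apply, eq_comm]
  change IsSquare (gramMat (QuadraticMap.polar (Cfsg.quadFormPlus m F)) b).det ↔ _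
  rw [he, hG, hyperbolic_det, isSquare_sq_mul_iff hd, neg_one_pow_isSquare_iff hF hq]

end Cfsg.Agent.S2620
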