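import Cfsg.Statements.S2621
import Mathlib
import Cfsg.Agent.Lib.Dickson.StdForms
import Cfsg.Agent.Lib.Dickson.SquareClass
-- import your own Cfsg.Agent.* helpers here

set_option autoImplicit false
open Cfsg

namespace Cfsg.Agent.S2621

/-- Discriminant of an elliptic quadratic form Σ_(i<m−1) x_i y_i + z₁² + a z₁z₂ + c z₂² (binary part anisotropic) in dimension 2m over a field with q elements, q odd, m ≥ 1: the determinant of the Gram matrix of its polar form in any basis is a square if and only if m(q − 1)/2 is odd (equivalently q^m ≡ 3 (mod 4)). -/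
theorem result {F : Type*} [Field F] [Fintype F] {q : ℕ} (hF : Fintype.card F = q) (hq : Odd q) {m : ℕ} (hm : 1 ≤ m) (a c : F) (hac : ∀ z₁ z₂ : F, z₁ ^ 2 + a * z₁ * z₂ + c * z₂ ^ 2 = 0 → z₁ = 0 ∧ z₂ = 0) {ι : Type*} [Fintype ι] [DecidableEq ι] (b : Module.Basis ι F ((Fin (m - 1) ⊕ Fin (m - 1)) ⊕ Fin 2 → F)) : IsSquare (Matrix.of (fun i j : ι => QuadraticMap.polar (Cfsg.quadFormMinus (m - 1) F a c) (b i) (b j))).det ↔ ¬ Even (m * (q - 1) / 2) := by
  open Cfsg.Agent.Lib.StdForms in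
  open Cfsg.Agent.Lib.SquareClass in
  have h2 := ringChar_ne_two hF hq
  let B : LinearMap.BilinForm F (((Fin (m - 1) ⊕ Fin (m - 1)) ⊕ Fin 2) → F) :=
    LinearMap.mk₂ F (fun u v =>
      ((∑ i, u (.inl (.inl i)) * v (.inl (.inr i))) + ∑ i, v (.inl (.inl i)) * u (.inl (.inr i)))
        + (2 * u (.inr 0) * v (.inr 0) + a * (u (.inr 0) * v (.inr 1) + v (.inr 0) * u (.inr 1))
            + c * (2 * u (.inr 1) * v (.inr 1))))
      (fun _ _ _ => by simp [add_mul, mul_add, Finset.sum_add_distrib]; ring)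
      (fun _ _ _ => by simp [Finset.mul_sum, mul_add, mul_left_comm, mul_assoc])
      (fun _ _ _ => by simp [add_mul, mul_add, Finset.sum_add_distrib]; ring)
      (fun _ _ _ => by simp [Finset.mul_sum, mul_add, mul_left_comm, mul_assoc])
  obtain ⟨d, hd, he⟩ := gramMat_det_basis (QuadraticMap.polar (Cfsg.quadFormMinus (m - 1) F a c)) B
    (fun u v => polar_minus a c u v) (Pi.basisFun F ((Fin (m - 1) ⊕ Fin (m - 1)) ⊕ Fin 2)) b
  have hG : gramMat (QuadraticMap.polar (Cfsg.quadFormMinus (m - 1) F a c)) (Pi.basisFun F ((Fin (m - 1) ⊕ Fin (m - 1)) ⊕ Fin 2))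
      = Matrix.fromBlocks (Matrix.fromBlocks 0 1 1 0) 0 0 !![2, a; a, 2 * c] := by
    ext i j
    have h10 : (1 : Fin 2) ≠ 0 := by decide
    rcases i with (i | i) | i <;> rcases j with (j | j) | j
    case inr.inr =>
      have h01 : ∀ x : Fin 2, x = 0 ∨ x = 1 := by decide
      have e1 : (Sum.inr 1 : (Fin (m - 1) ⊕ Fin (m - 1)) ⊕ Fin 2) ≠ Sum.inr 0 := fun h => h10 (Sum.inr.inj h)
      rcases h01 i with rfl | rfl <;> rcases h01 j with rfl | rfl <;>
        simp [gramMat, polar_minus, Pi.basisFun_apply, Pi.single_apply, e1, e1.symm, mul_comm]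
    all_goals simp [gramMat, polar_minus, Pi.single_apply, Matrix.one_apply, eq_comm]
  change IsSquare (gramMat (QuadraticMap.polar (Cfsg.quadFormMinus (m - 1) F a c)) b).det ↔ _
  obtain ⟨k, rfl⟩ : ∃ k, m = k + 1 := ⟨m - 1, by omega⟩
  have hns : ¬ IsSquare (a ^ 2 - 4 * c) := by
    rintro ⟨s, hs⟩
    have h2' : (2 : F) ≠ 0 := Ring.two_ne_zero h2
    have := (hac ((s - a) / 2) 1 (by field_simp; linear_combination -hs)).2
    exact one_ne_zero this
  rw [he, hG, Matrix.det_fromBlocks_zero₂₁, hyperbolic_det, Matrix.det_fin_two_of,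
    isSquare_sq_mul_iff hd, Nat.add_sub_cancel,
    show ((-1 : F) ^ k * (2 * (2 * c) - a * a)) = (-1) ^ (k + 1) * (a ^ 2 - 4 * c) by ring,
    mul_isSquare_iff h2 (pow_ne_zero _ (neg_ne_zero.2 one_ne_zero))
      (fun h => hns (by rw [h]; exact IsSquare.zero)), neg_one_pow_isSquare_iff hF hq]
  simp [hns]

end Cfsg.Agent.S2621
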