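import Cfsg.Statements.S2622
import Mathlib
-- import your own Cfsg.Agent.* helpers here

set_option autoImplicit false
open Cfsg

namespace Cfsg.Agent.S2622

/-- Over a finite field of characteristic two, a non-degenerate symmetric bilinear form that is not alternating (some vector v has B(v, v) ≠ 0) admits an orthonormal basis. -/
theorem result {F V : Type*} [Field F] [Finite F] [CharP F 2] [AddCommGroup V] [Module F V] [FiniteDimensional F V] {n : ℕ} (hV : Module.finrank F V = n) (B : LinearMap.BilinForm F V) (hS : B.IsSymm) (hB : B.Nondegenerate) (hna : ∃ v : V, B v v ≠ 0) : ∃ b : Module.Basis (Fin n) F V, ∀ i j, B (b i) (b j) = if i = j then 1 else 0 := by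
  classical
  haveI := Fintype.ofFinite F
  have hsqrt : ∀ x : F, ∃ r : F, r * r = x := fun x =>
    (FiniteField.isSquare_of_char_two (ringChar.eq F 2) x).imp fun r hr => hr.symm
  let P : ℕ → Prop := fun k => ∃ v : Fin k → V, ∀ i j, B (v i) (v j) = if i = j then 1 else 0
  have hli : ∀ {k} (v : Fin k → V), (∀ i j, B (v i) (v j) = if i = j then 1 else 0) →
      LinearIndependent F v := by
    intro k v hv
    rw [Fintype.linearIndependent_iff]
    intro c hc i
    simpa [hv] using congrArg (B (v i)) hc
  have hb : ∀ k, P k → k ≤ n := fun k ⟨v, hv⟩ => by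
    simpa [hV] using (hli v hv).fintype_card_le_finrank
  have norm1 : ∀ w, B w w ≠ 0 → ∃ r : F, B (r • w) (r • w) = 1 := fun w hw => by
    obtain ⟨r, hr⟩ := hsqrt (B w w)⁻¹
    refine ⟨r, ?_⟩
    simp only [map_smul, LinearMap.smul_apply, smul_eq_mul]
    rw [← mul_assoc, hr, inv_mul_cancel₀ hw]
  set k := Nat.findGreatest P n with hk
  have hP0 : P 0 := ⟨Fin.elim0, fun i => i.elim0⟩
  obtain ⟨v, hv⟩ : P k := Nat.findGreatest_spec (Nat.zero_le _) hP0
  have hmax : ∀ l, P l → l ≤ k := fun l hl => Nat.le_findGreatest (hb l hl) hl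
  by_cases hkn : k = n
  · obtain ⟨b, hb'⟩ : ∃ b : Module.Basis (Fin k) F V, ∀ i, b i = v i :=
      ⟨Module.Basis.mk (hli v hv) (le_of_eq ((hli v hv).span_eq_top_of_card_eq_finrank'
        (by simp [hV, hkn])).symm), fun i => by rw [Module.Basis.coe_mk]⟩
    exact ⟨b.reindex (finCongr hkn), fun i j => by simp [hb', hv, Fin.ext_iff]⟩
  exfalso
  have hkn' : k < n := lt_of_le_of_ne (Nat.findGreatest_le n) hkn
  have ext1 : ∀ w, (∀ i, B (v i) w = 0) → B w w = 0 := by
    intro w hw
    by_contra hne
    obtain ⟨r, hr⟩ := norm1 w hne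
    have : P (k + 1) := by
      refine ⟨Fin.snoc v (r • w), fun i j => ?_⟩
      induction i using Fin.lastCases <;> induction j using Fin.lastCases <;>
        simp only [Fin.snoc_last, Fin.snoc_castSucc]
      · simpa using hr
      · rw [hS.eq, if_neg (by simp [Fin.ext_iff]; omega), map_smul, hw, smul_zero]
      · rw [if_neg (by simp [Fin.ext_iff]; omega), map_smul, hw, smul_zero]
      · simp [hv]
    have := hmax _ this
    omega
  have hk0 : 1 ≤ k := by
    obtain ⟨w, hw⟩ := hna
    obtain ⟨r, hr⟩ := norm1 w hw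
    exact hmax 1 ⟨fun _ => r • w, fun i j => by simpa [Subsingleton.elim i j] using hr⟩
  have proj : ∀ x i, B (v i) (x - ∑ j, B (v j) x • v j) = 0 := fun x i => by simp [hv]
  obtain ⟨u, hu, hu0⟩ : ∃ u, (∀ i, B (v i) u = 0) ∧ u ≠ 0 := by
    by_contra hc
    push Not at hc
    have hspan : ⊤ ≤ Submodule.span F (Set.range v) := fun x _ => by
      rw [sub_eq_zero.1 (hc _ (proj x))]
      exact Submodule.sum_mem _ fun j _ => Submodule.smul_mem _ _ (Submodule.subset_span ⟨j, rfl⟩)
    have := Module.finrank_eq_card_basis (Module.Basis.mk (hli v hv) hspan)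
    simp [hV] at this
    omega
  obtain ⟨w₀, hw₀⟩ : ∃ w, B u w ≠ 0 := by
    by_contra hc
    push Not at hc
    exact hu0 (hB.1 u hc)
  set w₁ := w₀ - ∑ j, B (v j) w₀ • v j with hw₁
  have hw₁0 : B u w₁ ≠ 0 := by
    rw [hw₁, map_sub, map_sum]
    simp only [map_smul, hS.eq u (v _), hu, smul_zero, Finset.sum_const_zero, sub_zero]
    exact hw₀
  set w := (B u w₁)⁻¹ • w₁
  have hw : ∀ i, B (v i) w = 0 := fun i => by rw [map_smul, proj, smul_zero]
  have huw : B u w = 1 := by simp [w, hw₁0]
  have hwu : B w u = 1 := by rw [hS.eq, huw]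
  obtain ⟨l, hl⟩ : ∃ l, k = l + 1 := ⟨k - 1, by omega⟩
  clear_value k
  subst hl
  set v' := v (Fin.last l)
  have p0 : ∀ i : Fin l, B (v i.castSucc) v' = 0 := fun i => by
    simp [v', hv, (Fin.castSucc_lt_last i).ne]
  have p0' : ∀ i : Fin l, B v' (v i.castSucc) = 0 := fun i => by rw [hS.eq, p0]
  have puu := ext1 u hu
  have pww := ext1 w hw
  have pvu : B v' u = 0 := hu _
  have pvw : B v' w = 0 := hw _
  have puv : B u v' = 0 := by rw [hS.eq, pvu]
  have pwv : B w v' = 0 := by rw [hS.eq, pvw]
  have pvv : B v' v' = 1 := by simp [v', hv]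
  have hu' : ∀ i : Fin l, B u (v i.castSucc) = 0 := fun i => by rw [hS.eq, hu]
  have hw' : ∀ i : Fin l, B w (v i.castSucc) = 0 := fun i => by rw [hS.eq, hw]
  have : P (l + 3) := by
    refine ⟨Fin.append (fun i : Fin l => v i.castSucc) ![v' + u, v' + w, v' + u + w], fun i j => ?_⟩
    induction i using Fin.addCases with
    | left i =>
      induction j using Fin.addCases with
      | left j => simp [hv, Fin.ext_iff]
      | right j =>
        simp only [Fin.append_left, Fin.append_right]
        rw [if_neg (by simp [Fin.ext_iff]; omega)]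
        fin_cases j <;> simp [p0, hu, hw]
    | right i =>
      induction j using Fin.addCases with
      | left j =>
        simp only [Fin.append_left, Fin.append_right]
        rw [if_neg (by simp [Fin.ext_iff]; omega)]
        fin_cases i <;> simp [p0', hu', hw']
      | right j =>
        simp only [Fin.append_right]
        fin_cases i <;> fin_cases j <;>
          simp [pvv, puu, pww, pvu, pvw, puv, pwv, huw, hwu, CharTwo.add_self_eq_zero, Fin.ext_iff]
  have := hmax _ this
  omega

end Cfsg.Agent.S2622
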