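import Cfsg.Statements.S2624
import Mathlib
import Cfsg.Agent.Lib.Dickson.Decomp
import Cfsg.Agent.Lib.Classical.Binary
import Cfsg.Agent.S2616
-- import your own Cfsg.Agent.* helpers here

set_option autoImplicit false
open Cfsg

namespace Cfsg.Agent.S2624

/-- For a quadratic form Q on F^n with non-degenerate polar form, F finite and n ≥ 2 even, every non-zero scalar c is the multiplier of some similarity: there is an invertible linear map g with Q(g v) = c·Q(v) for all v. -/
theorem result {F : Type*} [Field F] [Fintype F] {n : ℕ} (hn : 2 ≤ n) (he : Even n) (Q : QuadraticForm F (Fin n → F)) (hQ : (QuadraticMap.polarBilin Q).Nondegenerate) (c : F) (hc : c ≠ 0) : ∃ g : (Fin n → F) ≃ₗ[F] (Fin n → F), ∀ v, Q (g v) = c * Q v := by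
  open Cfsg.Agent.Lib.Decomp in
  obtain ⟨m, hm⟩ := he
  have hV : Module.finrank F (Fin n → F) = 2 * m := by simp; omega
  have hcomm := QuadraticMap.polar_comm ⇑Q
  rcases Cfsg.Agent.S2616.result (by omega) hV Q hQ with ⟨b, h0, h1, h2⟩ | ⟨b, ζ, hζ, h0, h1, h2, h3, hx, hxy, hy⟩
  · refine exists_similarity hQ Q rfl b
      (Sum.elim (fun i => c • b (Sum.inl i)) fun i => b (Sum.inr i)) hc (fun i => ?_) fun i j hij => ?_
    · rcases i with i | i <;> simp [QuadraticMap.map_smul, h0]
    · rcases i with i | i <;> rcases j with j | j <;>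
        simp [QuadraticMap.polar_smul_left, QuadraticMap.polar_smul_right, h1, h2,
          hcomm (b (Sum.inr _)) (b (Sum.inl _))]
  · have hab : ∀ z₁ z₂ : F, z₁ ^ 2 + 1 * z₁ * z₂ + ζ * z₂ ^ 2 = 0 → z₁ = 0 ∧ z₂ = 0 := by
      intro z₁ z₂ hz
      rcases eq_or_ne z₂ 0 with hz2 | hz2
      · subst hz2; simpa using hz
      · exact absurd (by field_simp; linear_combination hz) (hζ (z₁ / z₂))
    obtain ⟨⟨s, t⟩, hst⟩ := Cfsg.Agent.Lib.Classical.exists_binQ_eq (a := (1 : F)) (b := ζ)
      (by simpa [Cfsg.Agent.Lib.Classical.BinAniso] using hab) c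
    rw [Cfsg.Agent.Lib.Classical.binQ_apply] at hst
    have hyx : QuadraticMap.polar ⇑Q (b (Sum.inr 1)) (b (Sum.inr 0)) = 1 := by rw [hcomm]; exact hxy
    refine exists_similarity hQ Q rfl b
      (Sum.elim (Sum.elim (fun i => c • b (Sum.inl (Sum.inl i))) fun i => b (Sum.inl (Sum.inr i)))
        ![s • b (Sum.inr 0) + t • b (Sum.inr 1), (-(ζ * t)) • b (Sum.inr 0) + (s + t) • b (Sum.inr 1)])
      hc (fun i => ?_) fun i j hij => ?_
    · rcases i with (i | i) | i
      · simp [QuadraticMap.map_smul, h0]
      · simp [QuadraticMap.map_smul, h0]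
      · fin_cases i <;>
          simp [QuadraticMap.map_add (⇑Q), QuadraticMap.map_smul, QuadraticMap.polar_smul_left,
            QuadraticMap.polar_smul_right, QuadraticMap.polar_neg_left, hx, hy, hxy]
        · linear_combination hst
        · linear_combination ζ * hst
    · rcases i with (i | i) | i <;> rcases j with (j | j) | j
      · simp [QuadraticMap.polar_smul_left, QuadraticMap.polar_smul_right, h1, h2, hcomm (b (Sum.inl (Sum.inr _))) (b (Sum.inl (Sum.inl _)))]
      · simp [QuadraticMap.polar_smul_left, QuadraticMap.polar_smul_right, h1, h2, hcomm (b (Sum.inl (Sum.inr _))) (b (Sum.inl (Sum.inl _)))]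
      · fin_cases j <;> simp [QuadraticMap.polar_add_left, QuadraticMap.polar_add_right, QuadraticMap.polar_smul_left, QuadraticMap.polar_smul_right, QuadraticMap.polar_neg_left, QuadraticMap.polar_neg_right, h3]
      · simp [QuadraticMap.polar_smul_left, QuadraticMap.polar_smul_right, h1, h2, hcomm (b (Sum.inl (Sum.inr _))) (b (Sum.inl (Sum.inl _)))]
      · simp [QuadraticMap.polar_smul_left, QuadraticMap.polar_smul_right, h1, h2, hcomm (b (Sum.inl (Sum.inr _))) (b (Sum.inl (Sum.inl _)))]
      · fin_cases j <;> simp [QuadraticMap.polar_add_left, QuadraticMap.polar_add_right, QuadraticMap.polar_smul_left, QuadraticMap.polar_smul_right, QuadraticMap.polar_neg_left, QuadraticMap.polar_neg_right, h3]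
      · fin_cases i <;> simp [QuadraticMap.polar_add_left, QuadraticMap.polar_add_right, QuadraticMap.polar_smul_left, QuadraticMap.polar_smul_right, QuadraticMap.polar_neg_left, QuadraticMap.polar_neg_right, hcomm (b (Sum.inr _)), h3]
      · fin_cases i <;> simp [QuadraticMap.polar_add_left, QuadraticMap.polar_add_right, QuadraticMap.polar_smul_left, QuadraticMap.polar_smul_right, QuadraticMap.polar_neg_left, QuadraticMap.polar_neg_right, hcomm (b (Sum.inr _)), h3]
      · fin_cases i <;> fin_cases j <;>
          first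
          | exact absurd rfl hij
          | (simp [QuadraticMap.polar_add_left, QuadraticMap.polar_add_right, QuadraticMap.polar_smul_left, QuadraticMap.polar_smul_right, QuadraticMap.polar_neg_left, QuadraticMap.polar_neg_right, QuadraticMap.polar_self, hx, hy, hxy, hyx]
             linear_combination hst)

end Cfsg.Agent.S2624
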