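import Cfsg.Statements.S2625
import Mathlib
-- import your own Cfsg.Agent.* helpers here

set_option autoImplicit false
open Cfsg

namespace Cfsg.Agent.S2625

/-- For a quadratic form Q on F^n with non-degenerate polar form, F finite and n odd (so |F| is odd), the multiplier of any similarity is a square: if g is an invertible linear map with Q(g v) = c·Q(v) for all v then c is a square. -/
theorem result {F : Type*} [Field F] [Fintype F] {n : ℕ} (hn : Odd n) (Q : QuadraticForm F (Fin n → F)) (hQ : (QuadraticMap.polarBilin Q).Nondegenerate) (g : (Fin n → F) ≃ₗ[F] (Fin n → F)) (c : F) (hg : ∀ v, Q (g v) = c * Q v) : IsSquare c := by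
  classical
  let G : Matrix (Fin n) (Fin n) F :=
    LinearMap.BilinForm.toMatrix (Pi.basisFun F (Fin n)) (QuadraticMap.polarBilin Q)
  have hG : G.det ≠ 0 :=
    (LinearMap.BilinForm.nondegenerate_iff_det_ne_zero (Pi.basisFun F (Fin n))).1 hQ
  have hp : LinearMap.BilinForm.comp (QuadraticMap.polarBilin Q) g.toLinearMap g.toLinearMap
      = c • QuadraticMap.polarBilin Q := by
    apply LinearMap.ext₂
    intro u v
    simp [QuadraticMap.polar, ← map_add, hg, mul_sub]
  have h := congrArg (fun B => (LinearMap.BilinForm.toMatrix (Pi.basisFun F (Fin n)) B).det) hp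
  simp only [LinearMap.BilinForm.toMatrix_comp (Pi.basisFun F (Fin n)) (Pi.basisFun F (Fin n)),
    map_smul, Matrix.det_mul, Matrix.det_transpose, Matrix.det_smul, Fintype.card_fin] at h
  obtain ⟨k, rfl⟩ := hn
  rcases eq_or_ne c 0 with rfl | hc
  · exact IsSquare.zero
  set d := (LinearMap.toMatrix (Pi.basisFun F (Fin (2 * k + 1))) (Pi.basisFun F (Fin (2 * k + 1)))
    g.toLinearMap).det
  have h' : c ^ (2 * k + 1) * G.det = d ^ 2 * G.det := by
    rw [← h]; ring
  refine ⟨d / c ^ k, ?_⟩
  field_simp
  linear_combination mul_right_cancel₀ hG h'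

end Cfsg.Agent.S2625
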