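import Cfsg.Statements.S2626
import Mathlib
-- import your own Cfsg.Agent.* helpers here

set_option autoImplicit false
open Cfsg

namespace Cfsg.Agent.S2626

/-- Ω of an orthogonal direct sum contains the product of the Ω's: for quadratic forms Q₁ on F^k and Q₂ on F^l with non-degenerate polar forms (F finite) and Q = Q₁ ⊕ Q₂ on F^(k+l), if g₁ lies in Ω(Q₁) and g₂ in Ω(Q₂) (commutator subgroups of the orthogonal groups) then the block-diagonal isometry diag(g₁, g₂) lies in Ω(Q). -/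
theorem result {F : Type*} [Field F] [Fintype F] {k l : ℕ} (Q₁ : QuadraticForm F (Fin k → F)) (Q₂ : QuadraticForm F (Fin l → F)) (h₁ : (QuadraticMap.polarBilin Q₁).Nondegenerate) (h₂ : (QuadraticMap.polarBilin Q₂).Nondegenerate) (g₁ : ↥(Cfsg.isometryGroup F ⇑Q₁)) (g₂ : ↥(Cfsg.isometryGroup F ⇑Q₂)) (hg₁ : g₁ ∈ Cfsg.Omega F ⇑Q₁) (hg₂ : g₂ ∈ Cfsg.Omega F ⇑Q₂) : ∃ g : ↥(Cfsg.isometryGroup F (fun v : Fin k ⊕ Fin l → F => Q₁ (v ∘ Sum.inl) + Q₂ (v ∘ Sum.inr))), g ∈ Cfsg.Omega F (fun v : Fin k ⊕ Fin l → F => Q₁ (v ∘ Sum.inl) + Q₂ (v ∘ Sum.inr)) ∧ ((g : Matrix.GeneralLinearGroup (Fin k ⊕ Fin l) F) : Matrix (Fin k ⊕ Fin l) (Fin k ⊕ Fin l) F) = Matrix.fromBlocks ((g₁ : Matrix.GeneralLinearGroup (Fin k) F) : Matrix (Fin k) (Fin k) F) 0 0 ((g₂ : Matrix.GeneralLinearGroup (Fin l) F) : Matrix (Fin l) (Fin l) F) := by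
  classical
  let Q := fun v : Fin k ⊕ Fin l → F => Q₁ (v ∘ Sum.inl) + Q₂ (v ∘ Sum.inr)
  have hmem : ∀ (a : ↥(Cfsg.isometryGroup F ⇑Q₁)) (b : ↥(Cfsg.isometryGroup F ⇑Q₂)),
      ∀ v : Fin k ⊕ Fin l → F, Q ((Matrix.fromBlocks ((a : GL (Fin k) F) : Matrix _ _ F) 0 0
        ((b : GL (Fin l) F) : Matrix _ _ F)).mulVec v) = Q v := by
    intro a b v
    simp only [Q, Matrix.fromBlocks_mulVec, Matrix.zero_mulVec, add_zero, zero_add]
    rw [Sum.elim_comp_inl, Sum.elim_comp_inr]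
    exact congrArg₂ (· + ·) (a.2 (v ∘ Sum.inl) 0) (b.2 (v ∘ Sum.inr) 0)
  let blk : GL (Fin k) F × GL (Fin l) F →* GL (Fin k ⊕ Fin l) F :=
    { toFun := fun p => ⟨Matrix.fromBlocks p.1 0 0 p.2,
        Matrix.fromBlocks ((p.1⁻¹ : GL (Fin k) F) : Matrix _ _ F) 0 0 ((p.2⁻¹ : GL (Fin l) F) : Matrix _ _ F),
        by simp [Matrix.fromBlocks_multiply, ← Units.val_mul],
        by simp [Matrix.fromBlocks_multiply, ← Units.val_mul]⟩
      map_one' := Units.ext (by simp)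
      map_mul' := fun p q => Units.ext (by simp [Matrix.fromBlocks_multiply]) }
  let φ : ↥(Cfsg.isometryGroup F ⇑Q₁) × ↥(Cfsg.isometryGroup F ⇑Q₂) →* ↥(Cfsg.isometryGroup F Q) :=
    (blk.comp ((Cfsg.isometryGroup F ⇑Q₁).subtype.prodMap (Cfsg.isometryGroup F ⇑Q₂).subtype)).codRestrict
      _ (fun p v _ => hmem p.1 p.2 v)
  refine ⟨φ (g₁, g₂), ?_, rfl⟩
  rw [show (g₁, g₂) = (g₁, 1) * (1, g₂) by simp, map_mul]
  have key : ∀ {A B : Type _} [Group A] [Group B] (f : A →* B) (x : A),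
      x ∈ commutator A → f x ∈ commutator B := by
    intro A B _ _ f x hx
    have h1 : f x ∈ (commutator A).map f := Subgroup.mem_map_of_mem f hx
    rw [commutator_def, Subgroup.map_commutator] at h1
    rw [commutator_def]
    exact Subgroup.commutator_mono le_top le_top h1
  exact mul_mem (key (φ.comp (MonoidHom.inl _ _)) g₁ hg₁) (key (φ.comp (MonoidHom.inr _ _)) g₂ hg₂)

end Cfsg.Agent.S2626
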