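import Cfsg.Statements.S2627
import Mathlib
import Cfsg.Agent.Lib.Dickson.OrthSum
import Cfsg.Agent.Lib.Orth.Omega
-- import your own Cfsg.Agent.* helpers here

set_option autoImplicit false
open Cfsg

namespace Cfsg.Agent.S2627

/-- For an orthogonal direct sum Q = Q₁ ⊕ Q₂ of quadratic forms with non-degenerate polar forms over a finite field, an isometry g₁ of Q₁ extended by the identity on the second summand lies in Ω(Q) (the commutator subgroup of the orthogonal group of Q) if and only if g₁ lies in Ω(Q₁). (Excluded: the field of two elements when the first summand or the whole space has dimension 4, where the commutator subgroup of O⁺₄(2) is smaller than the group usually called Ω.) -/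
theorem result {F : Type*} [Field F] [Fintype F] {k l : ℕ} (h : Fintype.card F ≠ 2 ∨ (k ≠ 4 ∧ k + l ≠ 4)) (Q₁ : QuadraticForm F (Fin k → F)) (Q₂ : QuadraticForm F (Fin l → F)) (h₁ : (QuadraticMap.polarBilin Q₁).Nondegenerate) (h₂ : (QuadraticMap.polarBilin Q₂).Nondegenerate) (g₁ : ↥(Cfsg.isometryGroup F ⇑Q₁)) : (∃ g : ↥(Cfsg.isometryGroup F (fun v : Fin k ⊕ Fin l → F => Q₁ (v ∘ Sum.inl) + Q₂ (v ∘ Sum.inr))), g ∈ Cfsg.Omega F (fun v : Fin k ⊕ Fin l → F => Q₁ (v ∘ Sum.inl) + Q₂ (v ∘ Sum.inr)) ∧ ((g : Matrix.GeneralLinearGroup (Fin k ⊕ Fin l) F) : Matrix (Fin k ⊕ Fin l) (Fin k ⊕ Fin l) F) = Matrix.fromBlocks ((g₁ : Matrix.GeneralLinearGroup (Fin k) F) : Matrix (Fin k) (Fin k) F) 0 0 1) ↔ g₁ ∈ Cfsg.Omega F ⇑Q₁ := by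
  open Cfsg.Agent.Lib in
  rw [← OrthSum.coe_sumQ Q₁ Q₂]
  have hmat : ((OrthSum.sumHom Q₁ Q₂ (g₁, 1) : Matrix.GeneralLinearGroup (Fin k ⊕ Fin l) F) :
      Matrix (Fin k ⊕ Fin l) (Fin k ⊕ Fin l) F)
      = Matrix.fromBlocks ((g₁ : Matrix.GeneralLinearGroup (Fin k) F) : Matrix (Fin k) (Fin k) F) 0 0 1 := rfl
  refine ⟨?_, fun hg => ⟨_, OrthSum.sumHom_mem_omega Q₁ Q₂ hg, hmat⟩⟩
  rintro ⟨g, hg, hgm⟩
  obtain rfl : g = OrthSum.sumHom Q₁ Q₂ (g₁, 1) := Subtype.ext (Units.ext (hgm.trans hmat.symm))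
  have hs := OrthSum.sumQ_nondegenerate h₁ h₂
  have hex1 := Dickson.exceptional_free (F := F) (n := Fintype.card (Fin k))
    (by rw [Nat.card_eq_fintype_card, Fintype.card_fin]; exact h.imp_right And.left)
  by_cases h2 : (2 : F) = 0
  · haveI := Dickson.charP_two_of_two_eq_zero h2
    rw [Dickson.mem_omega_iff_charTwo h₁ hex1 _ (fun v hv => Dickson.dickson_refl h₁ hv)]
    rw [Dickson.hom_ext h₁ hex1 (χ := Dickson.dickson h₁)
      (ψ := (Dickson.dickson hs).comp ((OrthSum.sumHom Q₁ Q₂).comp (MonoidHom.inl _ _)))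
      (fun v hv => by
        rw [MonoidHom.comp_apply, MonoidHom.comp_apply, MonoidHom.inl_apply, OrthSum.sumHom_refl,
          Dickson.dickson_refl, Dickson.dickson_refl])]
    exact Dickson.omega_le_ker (Dickson.dickson hs) hg
  · have e1 : Orth.detSign Q₁ h2 h₁ g₁ = 1 := by
      rw [Dickson.hom_ext h₁ hex1 (χ := Orth.detSign Q₁ h2 h₁)
        (ψ := (Orth.detSign _ h2 hs).comp ((OrthSum.sumHom Q₁ Q₂).comp (MonoidHom.inl _ _)))
        (fun v hv => by
          rw [MonoidHom.comp_apply, MonoidHom.comp_apply, MonoidHom.inl_apply, OrthSum.sumHom_refl,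
            Orth.detSign_refl, Orth.detSign_refl])]
      exact Dickson.omega_le_ker (Orth.detSign _ h2 hs) hg
    have e2 : Orth.spinor Q₁ g₁ = 1 := by
      rw [Dickson.hom_ext h₁ hex1 (χ := Orth.spinor Q₁)
        (ψ := (Orth.spinor (OrthSum.sumQ Q₁ Q₂)).comp ((OrthSum.sumHom Q₁ Q₂).comp (MonoidHom.inl _ _)))
        (fun v hv => by
          classical
          rw [MonoidHom.comp_apply, MonoidHom.comp_apply, MonoidHom.inl_apply, OrthSum.sumHom_refl,
            Orth.spinor_refl h2, Orth.spinor_refl h2]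
          simp [OrthSum.sumQ_apply])]
      exact Dickson.omega_le_ker (Orth.spinor (OrthSum.sumQ Q₁ Q₂)) hg
    by_cases hk : 2 ≤ k
    · exact (Orth.mem_omega_iff h2 h₁ (by simpa using hk) g₁).2 ⟨e1, e2⟩
    · suffices g₁ = 1 by rw [this]; exact one_mem _
      have hd : ((g₁ : Matrix.GeneralLinearGroup (Fin k) F) : Matrix (Fin k) (Fin k) F).det = 1 := by
        classical
        by_contra hd
        change (if _ then (1 : ℤˣ) else -1) = 1 at e1
        rw [if_neg hd] at e1
        exact absurd e1 (by decide)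
      refine Subtype.ext (Units.ext ?_)
      have hcases : k = 0 ∨ k = 1 := by omega
      rcases hcases with rfl | rfl
      · exact Subsingleton.elim _ _
      · rw [Matrix.det_fin_one] at hd
        ext i j
        rw [Subsingleton.elim i 0, Subsingleton.elim j 0]
        simpa using hd

end Cfsg.Agent.S2627
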