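import Cfsg.Statements.S2628
import Mathlib
import Cfsg.Agent.Lib.Dickson.OrthSum
import Cfsg.Agent.Lib.Orth.Omega
-- import your own Cfsg.Agent.* helpers here

set_option autoImplicit false
open Cfsg

namespace Cfsg.Agent.S2628

/-- For the orthogonal direct sum Q ⊕ Q of two copies of a quadratic form Q with non-degenerate polar form on F^k (F finite), every isometry g of Q acting diagonally, diag(g, g), lies in Ω(Q ⊕ Q), the commutator subgroup of the orthogonal group of Q ⊕ Q. (Excluded: k = 2 over the field of two elements, where Q ⊕ Q is the hyperbolic 4-space whose orthogonal group's commutator subgroup is smaller than the group usually called Ω.) -/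
theorem result {F : Type*} [Field F] [Fintype F] {k : ℕ} (h : Fintype.card F ≠ 2 ∨ k ≠ 2) (Q : QuadraticForm F (Fin k → F)) (hQ : (QuadraticMap.polarBilin Q).Nondegenerate) (g : ↥(Cfsg.isometryGroup F ⇑Q)) : ∃ x : ↥(Cfsg.isometryGroup F (fun v : Fin k ⊕ Fin k → F => Q (v ∘ Sum.inl) + Q (v ∘ Sum.inr))), x ∈ Cfsg.Omega F (fun v : Fin k ⊕ Fin k → F => Q (v ∘ Sum.inl) + Q (v ∘ Sum.inr)) ∧ ((x : Matrix.GeneralLinearGroup (Fin k ⊕ Fin k) F) : Matrix (Fin k ⊕ Fin k) (Fin k ⊕ Fin k) F) = Matrix.fromBlocks ((g : Matrix.GeneralLinearGroup (Fin k) F) : Matrix (Fin k) (Fin k) F) 0 0 ((g : Matrix.GeneralLinearGroup (Fin k) F) : Matrix (Fin k) (Fin k) F) := by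
  open Cfsg.Agent.Lib in
  rw [← OrthSum.coe_sumQ Q Q]
  refine ⟨OrthSum.sumHom Q Q (g, g), ?_, rfl⟩
  have hs := OrthSum.sumQ_nondegenerate hQ hQ
  have key : ∀ χ : ↥(Cfsg.isometryGroup F ⇑(OrthSum.sumQ Q Q)) →* ℤˣ,
      χ (OrthSum.sumHom Q Q (g, g)) = 1 := by
    intro χ
    rw [show (g, g) = (g, 1) * ((1 : ↥(Cfsg.isometryGroup F ⇑Q)), g) by simp, map_mul, map_mul,
      ← OrthSum.sumHom_conj_swap, map_mul χ, map_mul χ, map_inv,
      mul_comm (χ (OrthSum.swapIso Q)), mul_inv_cancel_right, Int.units_mul_self]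
  by_cases h2 : (2 : F) = 0
  · haveI := Dickson.charP_two_of_two_eq_zero h2
    have hex := Dickson.exceptional_free (F := F) (n := Fintype.card (Fin k ⊕ Fin k))
      (by rw [Nat.card_eq_fintype_card]; exact h.imp_right fun e => by simp; omega)
    exact (Dickson.mem_omega_iff_charTwo hs hex _ (fun v hv => Dickson.dickson_refl hs hv) _).2 (key _)
  · rcases Nat.eq_zero_or_pos k with rfl | hk
    · have : OrthSum.sumHom Q Q (g, g) = 1 := Subtype.ext (Units.ext (Subsingleton.elim _ _))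
      rw [this]; exact one_mem _
    · exact (Orth.mem_omega_iff h2 hs (by simp; omega) _).2 ⟨key _, key _⟩

end Cfsg.Agent.S2628
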