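import Cfsg.Statements.S2629
import Mathlib
import Cfsg.Agent.Lib.Dickson.PlusClass
import Cfsg.Agent.Lib.Orth.IndexTwo
-- import your own Cfsg.Agent.* helpers here

set_option autoImplicit false
open Cfsg

namespace Cfsg.Agent.S2629

/-- For the hyperbolic form Σ x_i y_i on F^(2m) over a finite field of odd order (m ≥ 1), an isometry g preserves the class of the maximal totally singular subspace U₀ = {y = 0} (that is, m − dim(U₀ ∩ gU₀) is even) if and only if det g = 1: the stabiliser of each of the two classes of maximal totally singular subspaces is SO. -/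
theorem result {F : Type*} [Field F] [Fintype F] (h2 : (2 : F) ≠ 0) {m : ℕ} (hm : 1 ≤ m) (g : ↥(Cfsg.isometryGroup F (Cfsg.quadFormPlus m F))) : Even (m - Module.finrank F ↥(LinearMap.ker (LinearMap.funLeft F F (Sum.inr : Fin m → Fin m ⊕ Fin m)) ⊓ (LinearMap.ker (LinearMap.funLeft F F (Sum.inr : Fin m → Fin m ⊕ Fin m))).map (Matrix.mulVecLin ((g : Matrix.GeneralLinearGroup (Fin m ⊕ Fin m) F) : Matrix (Fin m ⊕ Fin m) (Fin m ⊕ Fin m) F)))) ↔ ((g : Matrix.GeneralLinearGroup (Fin m ⊕ Fin m) F) : Matrix (Fin m ⊕ Fin m) (Fin m ⊕ Fin m) F).det = 1 := by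
  open Cfsg.Agent.Lib in
  obtain ⟨g, hg⟩ := g
  revert hg
  rw [← StdForms.coe_plusQ]
  intro hg
  rw [PlusClass.even_iff_classChar ⟨g, hg⟩,
    Dickson.hom_ext (StdForms.plusQ_nondegenerate m)
      (Or.inl ⟨-1, by simp, fun e => h2 (by linear_combination -e)⟩)
      (χ := Dickson.classChar (StdForms.plusQ_nondegenerate m) (PlusClass.isLagr_stdLagr m))
      (ψ := Orth.detSign (StdForms.plusQ F m) h2 (StdForms.plusQ_nondegenerate m))
      (fun v hv => by rw [Dickson.classChar_refl, Orth.detSign_refl])]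
  classical
  show (if _ then (1 : ℤˣ) else -1) = 1 ↔ _
  split_ifs with hd <;> simp [hd]

end Cfsg.Agent.S2629
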