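import Cfsg.Statements.S2630
import Mathlib
import Cfsg.Agent.Lib.Dickson.PlusClass
-- import your own Cfsg.Agent.* helpers here

set_option autoImplicit false
open Cfsg

namespace Cfsg.Agent.S2630

/-- For the hyperbolic form Σ x_i y_i on F^(2m) over a finite field of characteristic two (m ≥ 1, excluding m = 2 over the field of two elements), an isometry g preserves the class of the maximal totally singular subspace U₀ = {y = 0} (m − dim(U₀ ∩ gU₀) even) if and only if g lies in Ω (the commutator subgroup of the orthogonal group): the stabiliser of each class is Ω. -/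
theorem result {F : Type*} [Field F] [Fintype F] [CharP F 2] {m : ℕ} (hm : 1 ≤ m) (h : Fintype.card F ≠ 2 ∨ m ≠ 2) (g : ↥(Cfsg.isometryGroup F (Cfsg.quadFormPlus m F))) : Even (m - Module.finrank F ↥(LinearMap.ker (LinearMap.funLeft F F (Sum.inr : Fin m → Fin m ⊕ Fin m)) ⊓ (LinearMap.ker (LinearMap.funLeft F F (Sum.inr : Fin m → Fin m ⊕ Fin m))).map (Matrix.mulVecLin ((g : Matrix.GeneralLinearGroup (Fin m ⊕ Fin m) F) : Matrix (Fin m ⊕ Fin m) (Fin m ⊕ Fin m) F)))) ↔ g ∈ Cfsg.Omega F (Cfsg.quadFormPlus m F) := by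
  open Cfsg.Agent.Lib in
  obtain ⟨g, hg⟩ := g
  revert hg
  rw [← StdForms.coe_plusQ]
  intro hg
  have hex := Dickson.exceptional_free (F := F) (n := Fintype.card (Fin m ⊕ Fin m))
    (by rw [Nat.card_eq_fintype_card]; exact h.imp_right fun e => by simp; omega)
  rw [PlusClass.even_iff_classChar ⟨g, hg⟩,
    Dickson.mem_omega_iff_charTwo (StdForms.plusQ_nondegenerate m) hex
      (Dickson.classChar (StdForms.plusQ_nondegenerate m) (PlusClass.isLagr_stdLagr m))
      (fun v hv => Dickson.classChar_refl _ _ hv)]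

end Cfsg.Agent.S2630
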