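import Cfsg.Statements.S2631
import Mathlib
import Cfsg.Agent.Lib.Dickson.Transitive
import Cfsg.Agent.Lib.Dickson.PlusClass
-- import your own Cfsg.Agent.* helpers here

set_option autoImplicit false
open Cfsg

namespace Cfsg.Agent.S2631

/-- For the hyperbolic form Σ x_i y_i on F^(2m) over a finite field (m ≥ 1, excluding m = 2 over the field of two elements), Ω (the commutator subgroup of the orthogonal group) acts transitively on each of the two classes of maximal totally singular subspaces: if U and W are m-dimensional totally singular subspaces with m − dim(U ∩ W) even, some element of Ω carries U to W. -/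
theorem result {F : Type*} [Field F] [Fintype F] {m : ℕ} (hm : 1 ≤ m) (h : Fintype.card F ≠ 2 ∨ m ≠ 2) (U W : Submodule F (Fin m ⊕ Fin m → F)) (hU : Module.finrank F U = m) (hW : Module.finrank F W = m) (hU0 : ∀ u ∈ U, Cfsg.quadFormPlus m F u = 0) (hW0 : ∀ w ∈ W, Cfsg.quadFormPlus m F w = 0) (he : Even (m - Module.finrank F ↥(U ⊓ W))) : ∃ g : ↥(Cfsg.isometryGroup F (Cfsg.quadFormPlus m F)), g ∈ Cfsg.Omega F (Cfsg.quadFormPlus m F) ∧ U.map (Matrix.mulVecLin ((g : Matrix.GeneralLinearGroup (Fin m ⊕ Fin m) F) : Matrix (Fin m ⊕ Fin m) (Fin m ⊕ Fin m) F)) = W := by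
  open Cfsg.Agent.Lib in
  open Cfsg.Agent.Lib.OmegaTransitive in
  revert hU0 hW0
  rw [← StdForms.coe_plusQ]
  intro hU0 hW0
  have hQ := StdForms.plusQ_nondegenerate (F := F) m
  have hdim : Module.finrank F (Fin m ⊕ Fin m → F) = 2 * m := by simp; omega
  have hUL : Parity.IsLagr (StdForms.plusQ F m) U := ⟨hU0, by rw [hU, hdim]⟩
  obtain ⟨g, hg⟩ := exists_carries hQ (LinearEquiv.ofFinrankEq U W (hU.trans hW.symm))
    (fun u => (hW0 _ (Subtype.mem _)).trans (hU0 _ u.2).symm)
  have hpar : Dickson.classChar hQ hUL g = 1 := by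
    rw [Dickson.classChar_apply, hg, Parity.par, hU]
    have hle : Module.finrank F ↥(U ⊓ W) ≤ m := (Submodule.finrank_mono inf_le_left).trans hU.le
    rw [neg_one_pow_eq_one_iff_even (by decide)]
    simp only [Nat.even_iff] at he ⊢
    omega
  by_cases h2 : (2 : F) = 0
  · haveI := Dickson.charP_two_of_two_eq_zero h2
    have hex := Dickson.exceptional_free (F := F) (n := Fintype.card (Fin m ⊕ Fin m))
      (by rw [Nat.card_eq_fintype_card]; exact h.imp_right fun e => by simp; omega)
    exact ⟨g, (Dickson.mem_omega_iff_charTwo hQ hex _ (fun v hv => Dickson.classChar_refl hQ hUL hv) g).2 hpar, hg⟩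
  · have hd : Orth.detSign _ h2 hQ g = 1 := by
      rw [← Dickson.hom_ext hQ (Or.inl ⟨-1, by simp, fun e => h2 (by linear_combination -e)⟩)
        (χ := Dickson.classChar hQ hUL) (ψ := Orth.detSign _ h2 hQ)
        (fun v hv => by rw [Dickson.classChar_refl, Orth.detSign_refl]) g, hpar]
    have hne : U ≠ ⊥ := by rintro rfl; simp at hU; omega
    obtain ⟨s, hs1, hs2, hs3⟩ := exists_scaling hQ h2 hU0 hne
    have hn : 2 ≤ Fintype.card (Fin m ⊕ Fin m) := by simp; omega
    rcases Int.units_eq_one_or (Orth.spinor _ g) with h' | h'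
    · exact ⟨g, (Orth.mem_omega_iff h2 hQ hn g).2 ⟨hd, h'⟩, hg⟩
    · refine ⟨g * s, (Orth.mem_omega_iff h2 hQ hn _).2 ⟨?_, ?_⟩, carries_mul hs3 hg⟩
      · rw [map_mul, hd, hs1, one_mul]
      · rw [map_mul, h', hs2]; rfl

end Cfsg.Agent.S2631
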