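import Cfsg.Statements.S2632
import Mathlib
import Cfsg.Agent.Lib.Dickson.Transitive
-- import your own Cfsg.Agent.* helpers here

set_option autoImplicit false
open Cfsg

namespace Cfsg.Agent.S2632

/-- Ω is transitive on non-degenerate subspaces of each isometry type: for a quadratic form Q on F^n, n ≥ 3, with non-degenerate polar form (F finite; excluding dimension 4 over the field of two elements), if U and W are subspaces on which the polar form is non-degenerate and there is a Q-preserving linear isomorphism U → W, then some element of Ω (the commutator subgroup of the orthogonal group) carries U to W. (In dimension 2 this fails: Ω can be {±1}, which fixes every line.) -/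
theorem result {F : Type*} [Field F] [Fintype F] {n : ℕ} (hn : 3 ≤ n) (h : Fintype.card F ≠ 2 ∨ n ≠ 4) (Q : QuadraticForm F (Fin n → F)) (hQ : (QuadraticMap.polarBilin Q).Nondegenerate) (U W : Submodule F (Fin n → F)) (hU : U ⊓ LinearMap.BilinForm.orthogonal (QuadraticMap.polarBilin Q) U = ⊥) (hW : W ⊓ LinearMap.BilinForm.orthogonal (QuadraticMap.polarBilin Q) W = ⊥) (e : U ≃ₗ[F] W) (he : ∀ u : U, Q (e u : Fin n → F) = Q (u : Fin n → F)) : ∃ g : ↥(Cfsg.isometryGroup F ⇑Q), g ∈ Cfsg.Omega F ⇑Q ∧ U.map (Matrix.mulVecLin ((g : Matrix.GeneralLinearGroup (Fin n) F) : Matrix (Fin n) (Fin n) F)) = W := by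
  open Cfsg.Agent.Lib in
  open Cfsg.Agent.Lib.OmegaTransitive in
  have hg' := Forms.IsGoodForm.of_quadratic hQ
  obtain ⟨g, hg⟩ := exists_carries hQ e he
  have hUperp : Forms.perp (QuadraticMap.polarBilin Q) U
      = LinearMap.BilinForm.orthogonal (QuadraticMap.polarBilin Q) U := rfl
  replace hU : U ⊓ Forms.perp (QuadraticMap.polarBilin Q) U = ⊥ := hU
  set U' := Forms.perp (QuadraticMap.polarBilin Q) U
  have hU' : U' ⊓ Forms.perp (QuadraticMap.polarBilin Q) U' = ⊥ := by
    rw [hg'.perp_perp, inf_comm]; exact hU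
  have hsum : Module.finrank F U + Module.finrank F U' = n :=
    (hg'.finrank_add_finrank_perp U).trans (by rw [Module.finrank_fintype_fun_eq_card, Fintype.card_fin])
  have stab : ∀ v, v ∈ U ∨ v ∈ U' → ∀ hv : Q v ≠ 0, Carries (Orth.refl Q v hv) U U := by
    rintro v (hv' | hv') hv
    · exact carries_refl_of_mem hv hv'
    · exact carries_refl_of_orth hv fun x hx => (QuadraticMap.polar_comm _ _ _).trans (hv' x hx)
  by_cases h2 : (2 : F) = 0
  · haveI := Dickson.charP_two_of_two_eq_zero h2
    have hex := Dickson.exceptional_free (F := F) (n := Fintype.card (Fin n))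
      (by rw [Nat.card_eq_fintype_card, Fintype.card_fin]; exact h)
    obtain ⟨v, hv', hv⟩ : ∃ v, (v ∈ U ∨ v ∈ U') ∧ Q v ≠ 0 := by
      by_cases hb : U = ⊥
      · obtain ⟨v, h1, h2⟩ := exists_nonsingular hU' (by
          intro hb'; rw [hb', hb] at hsum; simp only [finrank_bot] at hsum; omega)
        exact ⟨v, Or.inr h1, h2⟩
      · obtain ⟨v, h1, h2⟩ := exists_nonsingular hU hb
        exact ⟨v, Or.inl h1, h2⟩
    exact exists_omega_carries_charTwo hQ hex hg hv (stab v hv' hv)
  · obtain ⟨X, hX, hX2, hXU⟩ : ∃ X : Submodule F (Fin n → F),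
        X ⊓ Forms.perp (QuadraticMap.polarBilin Q) X = ⊥ ∧ 2 ≤ Module.finrank F X ∧
          ∀ v ∈ X, v ∈ U ∨ v ∈ U' := by
      by_cases hb : 2 ≤ Module.finrank F U
      · exact ⟨U, hU, hb, fun v => Or.inl⟩
      · exact ⟨U', hU', by omega, fun v => Or.inr⟩
    obtain ⟨d, hd0, hd⟩ := exists_nonsquare_of_two_ne_zero h2
    obtain ⟨a, haX, ha⟩ := exists_value_mem h2 hX hX2 1
    obtain ⟨b, hbX, hb⟩ := exists_value_mem h2 hX hX2 d
    have ha0 : Q a ≠ 0 := by rw [ha]; exact one_ne_zero
    have hb0 : Q b ≠ 0 := by rw [hb]; exact hd0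
    refine exists_omega_carries_odd hQ h2 (by rw [Fintype.card_fin]; omega) hg
      (r := Orth.refl Q a ha0) (h := Orth.refl Q a ha0 * Orth.refl Q b hb0)
      (Orth.detSign_refl h2 hQ ha0) ?_ ?_ (stab a (hXU a haX) ha0)
      (carries_mul (stab b (hXU b hbX) hb0) (stab a (hXU a haX) ha0))
    · rw [map_mul, Orth.detSign_refl, Orth.detSign_refl]; rfl
    · rw [map_mul, Orth.spinor_refl_of_isSquare h2 ha0 (by rw [ha]; exact IsSquare.one),
        Orth.spinor_refl_of_not_isSquare h2 hb0 (by rw [hb]; exact hd)]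
      rfl

end Cfsg.Agent.S2632
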