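import Cfsg.Statements.S2633
import Mathlib
import Cfsg.Agent.Lib.Dickson.Transitive
-- import your own Cfsg.Agent.* helpers here

set_option autoImplicit false
open Cfsg

namespace Cfsg.Agent.S2633

/-- Ω is transitive on totally singular subspaces of each dimension less than half the dimension: for a quadratic form Q on F^n with non-degenerate polar form (F finite; excluding dimension 4 over the field of two elements), if U and W are subspaces of the same dimension k with 2k < n on which Q vanishes, then some element of Ω (the commutator subgroup of the orthogonal group) carries U to W. -/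
theorem result {F : Type*} [Field F] [Fintype F] {n : ℕ} (h : Fintype.card F ≠ 2 ∨ n ≠ 4) (Q : QuadraticForm F (Fin n → F)) (hQ : (QuadraticMap.polarBilin Q).Nondegenerate) (U W : Submodule F (Fin n → F)) {k : ℕ} (hk : 2 * k < n) (hU : Module.finrank F U = k) (hW : Module.finrank F W = k) (hU0 : ∀ u ∈ U, Q u = 0) (hW0 : ∀ w ∈ W, Q w = 0) : ∃ g : ↥(Cfsg.isometryGroup F ⇑Q), g ∈ Cfsg.Omega F ⇑Q ∧ U.map (Matrix.mulVecLin ((g : Matrix.GeneralLinearGroup (Fin n) F) : Matrix (Fin n) (Fin n) F)) = W := by
  open Cfsg.Agent.Lib in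
  open Cfsg.Agent.Lib.OmegaTransitive in
  rcases Nat.eq_zero_or_pos k with rfl | hk0
  · rw [Submodule.finrank_eq_zero] at hU hW
    subst hU; subst hW
    exact ⟨1, one_mem _, Submodule.map_bot _⟩
  have hg' := Forms.IsGoodForm.of_quadratic hQ
  obtain ⟨g, hg⟩ := exists_carries hQ (LinearEquiv.ofFinrankEq U W (hU.trans hW.symm))
    (fun u => (hW0 _ (Subtype.mem _)).trans (hU0 _ u.2).symm)
  obtain ⟨v, hv', hv⟩ : ∃ v ∈ Forms.perp (QuadraticMap.polarBilin Q) U, Q v ≠ 0 := by
    by_contra hc
    push Not at hc
    set U' := Forms.perp (QuadraticMap.polarBilin Q) U with hU'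
    have hle : U' ≤ Forms.perp (QuadraticMap.polarBilin Q) U' := fun x hx y hy => by
      simp [QuadraticMap.polar, hc x hx, hc y hy, hc _ (U'.add_mem hy hx)]
    rw [hU', hg'.perp_perp] at hle
    have := Submodule.finrank_mono hle
    have hsum := hg'.finrank_add_finrank_perp U
    rw [Module.finrank_fintype_fun_eq_card, Fintype.card_fin] at hsum
    omega
  have hrs := carries_refl_of_orth (U := U) hv fun x hx => (QuadraticMap.polar_comm _ _ _).trans (hv' x hx)
  by_cases h2 : (2 : F) = 0
  · haveI := Dickson.charP_two_of_two_eq_zero h2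
    have hex := Dickson.exceptional_free (F := F) (n := Fintype.card (Fin n))
      (by rw [Nat.card_eq_fintype_card, Fintype.card_fin]; exact h)
    exact exists_omega_carries_charTwo hQ hex hg hv hrs
  · have hne : U ≠ ⊥ := by rintro rfl; simp at hU; omega
    obtain ⟨s, hs1, hs2, hs3⟩ := exists_scaling hQ h2 hU0 hne
    exact exists_omega_carries_odd hQ h2 (by rw [Fintype.card_fin]; omega) hg
      (Orth.detSign_refl h2 hQ hv) hs1 hs2 hrs hs3

end Cfsg.Agent.S2633
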