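import Cfsg.Statements.S2634
import Mathlib
import Cfsg.Agent.Lib.Dickson.Transitive
-- import your own Cfsg.Agent.* helpers here

set_option autoImplicit false
open Cfsg

namespace Cfsg.Agent.S2634

/-- Over a finite field of characteristic two, Ω (the commutator subgroup of the orthogonal group of a quadratic form Q on F^n with non-degenerate polar form; excluding dimension 4 over the field of two elements) acts transitively on the non-singular 1-spaces: for u, v with Q(u) ≠ 0 and Q(v) ≠ 0 some element of Ω carries the line through u to the line through v. -/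
theorem result {F : Type*} [Field F] [Fintype F] [CharP F 2] {n : ℕ} (h : Fintype.card F ≠ 2 ∨ n ≠ 4) (Q : QuadraticForm F (Fin n → F)) (hQ : (QuadraticMap.polarBilin Q).Nondegenerate) (u v : Fin n → F) (hu : Q u ≠ 0) (hv : Q v ≠ 0) : ∃ g : ↥(Cfsg.isometryGroup F ⇑Q), g ∈ Cfsg.Omega F ⇑Q ∧ (F ∙ ((g : Matrix.GeneralLinearGroup (Fin n) F) : Matrix (Fin n) (Fin n) F).mulVec u) = F ∙ v := by
  open Cfsg.Agent.Lib in
  open Cfsg.Agent.Lib.OmegaTransitive in
  have hex := Dickson.exceptional_free (F := F) (n := Fintype.card (Fin n))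
    (by rw [Nat.card_eq_fintype_card, Fintype.card_fin]; exact h)
  obtain ⟨t, ht⟩ := FiniteField.isSquare_of_char_two (ringChar.eq F 2) (Q u / Q v)
  have htv : Q (t • v) = Q u := by
    rw [QuadraticMap.map_smul, smul_eq_mul, ← ht, div_mul_cancel₀ _ hv]
  obtain ⟨g, hg⟩ := Dickson.exists_map_of_value hQ (fun e => hu (by simp [e]))
    (fun e => hu (by rw [← htv, e]; simp)) htv
  have hg' : Carries g (F ∙ u) (F ∙ v) := by
    have ht0 : t ≠ 0 := by rintro rfl; exact hu (by rw [← htv]; simp)
    show Submodule.map _ _ = _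
    rw [Submodule.map_span, Set.image_singleton, show Matrix.mulVecLin _ u = t • v from hg,
      Submodule.span_singleton_smul_eq (Ne.isUnit ht0)]
  obtain ⟨g', hmem, hc⟩ := exists_omega_carries_charTwo hQ hex hg' hu
    (carries_refl_of_mem hu (Submodule.mem_span_singleton_self u))
  refine ⟨g', hmem, ?_⟩
  have hc' : Submodule.map _ _ = _ := hc
  rw [Submodule.map_span, Set.image_singleton] at hc'
  exact hc'

end Cfsg.Agent.S2634
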