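import Cfsg.Statements.S2635
import Mathlib
import Cfsg.Agent.Lib.Dickson.Invariant
-- import your own Cfsg.Agent.* helpers here

set_option autoImplicit false
open Cfsg

namespace Cfsg.Agent.S2635

/-- Over a finite field of characteristic two, for a quadratic form Q on F^n with non-degenerate polar form, n ≥ 2, other than dimension 4 over the field of two elements, Ω (the commutator subgroup of the orthogonal group) is exactly the subgroup generated by the products of two reflections (orthogonal transvections) x ↦ x − Q(v)⁻¹ f(x, v) v, Q(v) ≠ 0: the products of an even number of reflections. -/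
theorem result {F : Type*} [Field F] [Fintype F] [CharP F 2] {n : ℕ} (hn : 2 ≤ n) (h : Fintype.card F ≠ 2 ∨ n ≠ 4) (Q : QuadraticForm F (Fin n → F)) (hQ : (QuadraticMap.polarBilin Q).Nondegenerate) : Cfsg.Omega F ⇑Q = Subgroup.closure {g : ↥(Cfsg.isometryGroup F ⇑Q) | ∃ u v : Fin n → F, Q u ≠ 0 ∧ Q v ≠ 0 ∧ ((g : Matrix.GeneralLinearGroup (Fin n) F) : Matrix (Fin n) (Fin n) F) = Cfsg.reflectionMatrix ⇑Q u * Cfsg.reflectionMatrix ⇑Q v} := by
  open Cfsg.Agent.Lib in
  have hex := Dickson.exceptional_free (F := F) (n := Fintype.card (Fin n))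
    (by rw [Nat.card_eq_fintype_card, Fintype.card_fin]; exact h)
  set C := Subgroup.closure {g : ↥(Cfsg.isometryGroup F ⇑Q) | ∃ u v : Fin n → F, Q u ≠ 0 ∧ Q v ≠ 0 ∧
    ((g : Matrix.GeneralLinearGroup (Fin n) F) : Matrix (Fin n) (Fin n) F)
      = Cfsg.reflectionMatrix ⇑Q u * Cfsg.reflectionMatrix ⇑Q v}
  have hpair : ∀ (u v : Fin n → F) (hu : Q u ≠ 0) (hv : Q v ≠ 0),
      Orth.refl Q u hu * Orth.refl Q v hv ∈ C :=
    fun u v hu hv => Subgroup.subset_closure ⟨u, v, hu, hv, rfl⟩
  have mem := Dickson.mem_omega_iff_charTwo hQ hex (Dickson.dickson hQ) (fun v hv => Dickson.dickson_refl hQ hv)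
  apply le_antisymm
  · intro x hx
    have key : ∀ x, (Dickson.dickson hQ x = 1 → x ∈ C) ∧
        (Dickson.dickson hQ x = -1 → ∀ (v : Fin n → F) (hv : Q v ≠ 0), Orth.refl Q v hv * x ∈ C) := by
      intro x
      have hxc : x ∈ Subgroup.closure (Orth.reflections Q) := by
        rw [Dickson.closure_reflections_any hQ hex]; trivial
      have step : ∀ (w : Fin n → F) (hw : Q w ≠ 0) (y : ↥(Cfsg.isometryGroup F ⇑Q)),
          ((Dickson.dickson hQ y = 1 → y ∈ C) ∧
            (Dickson.dickson hQ y = -1 → ∀ (v : Fin n → F) (hv : Q v ≠ 0), Orth.refl Q v hv * y ∈ C)) →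
          ((Dickson.dickson hQ (Orth.refl Q w hw * y) = 1 → Orth.refl Q w hw * y ∈ C) ∧
            (Dickson.dickson hQ (Orth.refl Q w hw * y) = -1 →
              ∀ (v : Fin n → F) (hv : Q v ≠ 0), Orth.refl Q v hv * (Orth.refl Q w hw * y) ∈ C)) := by
        intro w hw y ⟨h0, h1⟩
        rw [map_mul, Dickson.dickson_refl]
        refine ⟨fun e => h1 ?_ w hw, fun e v hv => ?_⟩
        · rcases Int.units_eq_one_or (Dickson.dickson hQ y) with e' | e'
          · rw [e'] at e; exact absurd e (by decide)
          · exact e'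
        · rw [← mul_assoc]
          refine mul_mem (hpair v w hv hw) (h0 ?_)
          rcases Int.units_eq_one_or (Dickson.dickson hQ y) with e' | e'
          · exact e'
          · rw [e'] at e; exact absurd e (by decide)
      induction hxc using Subgroup.closure_induction_left with
      | one => exact ⟨fun _ => one_mem _, fun e => absurd e (by rw [map_one]; decide)⟩
      | mul_left a ha y _ hy => obtain ⟨w, hw, rfl⟩ := ha; exact step w hw y hy
      | inv_mul_cancel a ha y _ hy =>
        obtain ⟨w, hw, rfl⟩ := ha; rw [Orth.refl_inv]; exact step w hw y hy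
    exact (key x).1 ((mem x).1 hx)
  · rw [Subgroup.closure_le]
    rintro x ⟨u, v, hu, hv, hx⟩
    have : x = Orth.refl Q u hu * Orth.refl Q v hv := Subtype.ext (Units.ext hx)
    rw [SetLike.mem_coe, mem, this, map_mul, Dickson.dickson_refl, Dickson.dickson_refl]
    rfl

end Cfsg.Agent.S2635
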