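import Cfsg.Statements.S2636
import Mathlib
-- import your own Cfsg.Agent.* helpers here

set_option autoImplicit false
open Cfsg

namespace Cfsg.Agent.S2636

/-- Centraliser of a field automorphism in PGL_n: let F be the field with q = q₀^r elements, σ a field automorphism of F of prime order r (so its fixed field has q₀ elements) and n ≥ 1. The invertible matrices g whose entrywise image under σ is a scalar multiple of g — those whose coset modulo scalars is fixed by σ — number (q − 1)/(q₀ − 1) · |GL_n(q₀)|; equivalently the centraliser in PGL_n(q) of the induced automorphism has the order of PGL_n(q₀). -/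
theorem result {F : Type*} [Field F] [Fintype F] {q₀ r n : ℕ} (hr : r.Prime) (hn : 1 ≤ n) (hF : Fintype.card F = q₀ ^ r) (σ : F ≃+* F) (hσ : orderOf σ = r) : Nat.card {g : GL (Fin n) F // ∃ c : F, c ≠ 0 ∧ (g : Matrix (Fin n) (Fin n) F).map σ = c • (g : Matrix (Fin n) (Fin n) F)} = (q₀ ^ r - 1) / (q₀ - 1) * ∏ i : Fin n, (q₀ ^ n - q₀ ^ (i : ℕ)) := by
  classical
  let H : Subgroup (F ≃+* F) := Subgroup.zpowers σ
  let K : Subfield F := FixedPoints.subfield ↥H F
  have memK : ∀ x : F, x ∈ K ↔ σ x = x := by
    intro x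
    constructor
    · exact fun h => h ⟨σ, Subgroup.mem_zpowers σ⟩
    · rintro h ⟨τ, hτ⟩
      have hle : H ≤ MulAction.stabilizer (F ≃+* F) x := Subgroup.zpowers_le.2 h
      exact hle hτ
  have hdim : Module.finrank ↥K F = r := by
    haveI : Finite (F ≃+* F) := Finite.of_injective (fun τ : F ≃+* F => (τ : F → F)) DFunLike.coe_injective
    haveI : Fintype ↥H := Fintype.ofFinite _
    rw [FixedPoints.finrank_eq_card, ← Nat.card_eq_fintype_card, Nat.card_zpowers, hσ]
  have hK : Nat.card ↥K = q₀ := by
    have h1 : Nat.card F = Nat.card ↥K ^ r := hdim ▸ Module.natCard_eq_pow_finrank (K := ↥K) (V := F)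
    rw [Nat.card_eq_fintype_card (α := F), hF] at h1
    exact (Nat.pow_left_injective hr.ne_zero h1).symm
  let ι : GL (Fin n) ↥K →* GL (Fin n) F := Matrix.GeneralLinearGroup.map K.subtype
  let sc : Fˣ →* GL (Fin n) F := Units.map (Matrix.scalar (Fin n)).toMonoidHom
  have hcomm : ∀ a b, Commute (sc a) (ι b) := by
    intro a b
    apply Units.ext
    exact Matrix.scalar_commute _ (fun _ => Commute.all _ _) _
  let Φ : Fˣ × GL (Fin n) ↥K →* GL (Fin n) F := MonoidHom.noncommCoprod sc ι hcomm
  have hΦ : ∀ (a : Fˣ) b i j, (Φ (a, b) : Matrix (Fin n) (Fin n) F) i j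
      = (a : F) * ((b : Matrix (Fin n) (Fin n) ↥K) i j : F) := by
    intro a b i j
    simp [Φ, sc, ι, MonoidHom.noncommCoprod_apply, Matrix.scalar_apply, Matrix.diagonal_mul]
  have hrange : ∀ g : GL (Fin n) F, g ∈ Φ.range ↔
      ∃ c : F, c ≠ 0 ∧ (g : Matrix (Fin n) (Fin n) F).map σ = c • (g : Matrix (Fin n) (Fin n) F) := by
    intro g
    constructor
    · rintro ⟨⟨a, b⟩, rfl⟩
      refine ⟨σ a / a, div_ne_zero (by simp) a.ne_zero, ?_⟩
      ext i j
      simp only [Matrix.map_apply, Matrix.smul_apply, hΦ, map_mul, smul_eq_mul,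
        (memK _).1 ((b : Matrix (Fin n) (Fin n) ↥K) i j).2]
      field_simp
    · rintro ⟨c, hc, hg⟩
      have : Nonempty (Fin n) := ⟨⟨0, hn⟩⟩
      obtain ⟨i₀, j₀, ha⟩ : ∃ i j, (g : Matrix (Fin n) (Fin n) F) i j ≠ 0 := by
        by_contra h
        push Not at h
        exact g.ne_zero (Matrix.ext h)
      set a := (g : Matrix (Fin n) (Fin n) F) i₀ j₀
      have hga : ∀ i j, σ ((g : Matrix (Fin n) (Fin n) F) i j)
          = c * (g : Matrix (Fin n) (Fin n) F) i j := fun i j => congrFun (congrFun hg i) j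
      let M : Matrix (Fin n) (Fin n) ↥K := fun i j =>
        ⟨(g : Matrix (Fin n) (Fin n) F) i j / a, (memK _).2 (by
          rw [map_div₀, hga, hga]; exact mul_div_mul_left _ _ hc)⟩
      have hM : M.map K.subtype = a⁻¹ • (g : Matrix (Fin n) (Fin n) F) := by
        ext i j
        show (g : Matrix (Fin n) (Fin n) F) i j / a = a⁻¹ * _
        rw [div_eq_inv_mul]
      have hdet : M.det ≠ 0 := by
        intro h
        have h2 : (M.map K.subtype).det = 0 := by
          rw [← RingHom.mapMatrix_apply, ← RingHom.map_det, h, map_zero]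
        rw [hM, Matrix.det_smul] at h2
        simp [ha, g.det_ne_zero] at h2
      refine ⟨(Units.mk0 a ha, Matrix.GeneralLinearGroup.mkOfDetNeZero M hdet), ?_⟩
      ext i j
      rw [hΦ]
      show a * ((g : Matrix (Fin n) (Fin n) F) i j / a) = _
      field_simp
  have hker : Nat.card ↥Φ.ker = q₀ - 1 := by
    rw [← hK, ← Nat.card_units]
    let sK : (↥K)ˣ →* GL (Fin n) ↥K := Units.map (Matrix.scalar (Fin n)).toMonoidHom
    let f : (↥K)ˣ →* Fˣ × GL (Fin n) ↥K :=
      MonoidHom.prod (Units.map K.subtype.toMonoidHom) (sK.comp (invMonoidHom))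
    have hf : Function.Injective f := fun u v h =>
      Units.ext (Subtype.ext (congrArg (fun p => (p.1 : F)) h))
    have hfr : f.range = Φ.ker := by
      ext ⟨a, b⟩
      rw [MonoidHom.mem_ker]
      constructor
      · rintro ⟨u, hu⟩
        rw [← hu]
        ext i j
        rw [show f u = (Units.map K.subtype.toMonoidHom u, sK u⁻¹) from rfl, hΦ]
        rcases eq_or_ne i j with rfl | hij
        · simp [sK, Matrix.scalar_apply]
        · simp [sK, Matrix.scalar_apply, hij]
      · intro h
        have h' : ∀ i j, (a : F) * ((b : Matrix (Fin n) (Fin n) ↥K) i j : F)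
            = (1 : Matrix (Fin n) (Fin n) F) i j := fun i j => by rw [← hΦ, h]; rfl
        have hd := h' ⟨0, hn⟩ ⟨0, hn⟩
        rw [Matrix.one_apply_eq] at hd
        have haK : (a : F) ∈ K := by
          rw [eq_inv_of_mul_eq_one_left hd]
          exact K.inv_mem (Subtype.mem _)
        refine ⟨Units.mk0 ⟨a, haK⟩ (fun e => a.ne_zero (congrArg Subtype.val e)), ?_⟩
        refine Prod.ext (Units.ext rfl) ?_
        ext i j
        have := h' i j
        rcases eq_or_ne i j with rfl | hij
        · simp [f, sK, Matrix.scalar_apply] at this ⊢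
          exact (eq_inv_of_mul_eq_one_right this).symm
        · simp [f, sK, Matrix.scalar_apply, hij] at this ⊢
          simp [this]
    rw [← hfr]
    exact Nat.card_congr (MonoidHom.ofInjective hf).toEquiv.symm
  have key := Φ.ker.card_mul_index
  rw [Subgroup.index_ker, hker, Nat.card_prod, Nat.card_units, Matrix.card_GL_field,
    Nat.card_eq_fintype_card (α := F), hF, ← Nat.card_eq_fintype_card (α := ↥K), hK] at key
  rw [Nat.card_congr (Equiv.subtypeEquivRight hrange).symm]
  have h2 : 2 ≤ q₀ := hK ▸ Finite.one_lt_card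
  obtain ⟨t, ht⟩ := Nat.sub_dvd_pow_sub_pow q₀ 1 r
  rw [one_pow] at ht
  rw [ht, Nat.mul_div_cancel_left _ (by omega)]
  refine Nat.eq_of_mul_eq_mul_left (by omega : 0 < q₀ - 1) ?_
  rw [ht, mul_assoc] at key
  exact key

end Cfsg.Agent.S2636
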