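import Cfsg.Statements.S2637
import Mathlib
import Cfsg.Agent.Lib.GUEmbed.Basic
import Cfsg.Agent.Lib.Classical.Isometry
import Cfsg.Agent.Lib.Classical.UnitaryOrder
import Cfsg.Agent.Lib.Forms.Bridge
import Cfsg.Agent.Lib.FormConj.Realise
import Cfsg.Agent.Lib.Forms.Unitary

set_option autoImplicit false
open Cfsg

namespace Cfsg.Agent.S2637

open Matrix Cfsg.Agent.Lib

variable {F : Type*} [Field F] [Fintype F] {q m : ℕ}

/-- A model: a fixed-point-free element of order three whose centraliser has the order of `GU_m(q)`. -/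
theorem exists_model (hF : Fintype.card F = q) (hq : q % 3 = 2) :
    ∃ x₀ : Matrix.symplecticGroup (Fin m) F, x₀ ^ 3 = 1 ∧
      IsUnit ((x₀ : Matrix (Fin m ⊕ Fin m) (Fin m ⊕ Fin m) F) - 1) ∧
      (Nat.card ↥(Subgroup.centralizer ({x₀} : Set ↥(Matrix.symplecticGroup (Fin m) F))) : ℤ)
        = (q : ℤ) ^ (m * (m - 1) / 2) * ∏ i : Fin m, ((q : ℤ) ^ ((i : ℕ) + 1) - (-1) ^ ((i : ℕ) + 1)) := by
  classical
  obtain ⟨p, hp⟩ := CharP.exists F
  haveI := Fact.mk (CharP.char_is_prime F p)
  obtain ⟨f, -, hf⟩ := FiniteField.card F p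
  obtain ⟨K, _, _, hK⟩ : ∃ (K : Type) (_ : Field K) (_ : Fintype K), Fintype.card K = q ^ 2 := by
    letI : Fintype (GaloisField p (2 * f)) := Fintype.ofFinite _
    refine ⟨GaloisField p (2 * f), inferInstance, inferInstance, ?_⟩
    rw [← Nat.card_eq_fintype_card, GaloisField.card p (2 * f) (by positivity), ← hF, hf, ← pow_mul, mul_comm]
  obtain ⟨ι⟩ := GUEmbed.exists_ringHom hK hF
  have hq1 : 1 < q := hF ▸ Fintype.one_lt_card
  -- a primitive cube root of unity
  haveI : Fact (Nat.Prime 3) := ⟨Nat.prime_three⟩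
  obtain ⟨w, hw⟩ : ∃ w : Kˣ, orderOf w = 3 := by
    refine exists_prime_orderOf_dvd_card' (G := Kˣ) 3 ?_
    rw [Nat.card_units, Nat.card_eq_fintype_card, hK, ← Nat.modEq_iff_dvd' (Nat.one_le_pow _ _ (by omega))]
    show 1 % 3 = q ^ 2 % 3
    rw [Nat.pow_mod, hq]
  have hw3 : w ^ 3 = 1 := by rw [← hw]; exact pow_orderOf_eq_one w
  have hwq1 : w ^ (q + 1) = 1 := by
    obtain ⟨c, hc⟩ : 3 ∣ q + 1 := by omega
    rw [hc, pow_mul, hw3, one_pow]
  have hw1 : (w : K) ≠ 1 := fun h => by
    rw [Units.val_eq_one.1 h, orderOf_one] at hw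
    omega
  have hθ : (w : K) ^ q ≠ w := fun h => by
    have h2 : w * w = 1 := Units.ext (by
      have := congrArg Units.val hwq1
      rw [Units.val_pow_eq_pow_val, pow_succ, h, Units.val_one] at this
      rw [Units.val_mul, this, Units.val_one])
    exact hw1 (by
      have : w = 1 := by rw [← hw3, pow_succ, pow_two, h2, one_mul]
      rw [this, Units.val_one])
  set s := Forms.qPowHom hK
  have hqs : ∀ x : K, x ^ q = s x := fun x => (Forms.qPowHom_apply hK x).symm
  have hsι : ∀ x : F, s (ι x) = ι x := fun x => by rw [← hqs, GUEmbed.map_pow_q ι hF]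
  let E : (Fin m ⊕ Fin m → F) → (Fin m → K) := fun v i => ι (v (.inl i)) + ι (v (.inr i)) * (w : K)
  have hEs : ∀ (c : F) v, E (c • v) = ι c • E v := fun c v => funext fun i => by
    simp only [E, Pi.smul_apply, smul_eq_mul, map_mul]; ring
  have hE : ∀ u v, E (u + v) = E u + E v := fun u v => funext fun i => by
    simp only [E, Pi.add_apply, map_add]; ring
  have hbij : Function.Bijective E := GUEmbed.bijective_of_zero hK hF (by simp; ring) E hE fun v hv => by
    funext i
    rcases i with i | i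
    · exact (GUEmbed.indep ι hF hθ (congrFun hv i)).1
    · exact (GUEmbed.indep ι hF hθ (congrFun hv i)).2
  obtain ⟨Φ, hinj, hΦ⟩ := GUEmbed.exists_hom (q := q) ι E hE hEs hbij
  have hd : (w : K) - s w ≠ 0 := sub_ne_zero.2 fun h => hθ (by rw [hqs]; exact h.symm)
  have hform : ∀ u v, Cfsg.hermForm m K q (E u) (E v) - Cfsg.hermForm m K q (E v) (E u)
      = ((w : K) - s w) * ι (Classical.sympFn m F u v) := by
    intro u v
    rw [Classical.sympFn_eq]
    simp only [Cfsg.hermForm, map_sum, Finset.mul_sum, ← Finset.sum_sub_distrib]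
    refine Finset.sum_congr rfl fun i _ => ?_
    simp only [E, hqs, map_add, map_sub, map_mul, hsι]
    ring
  have hmem : ∀ g, Φ g ∈ Classical.biIsoGroup (F := F) (Classical.sympFn m F) := fun g u v =>
    ι.injective (mul_left_cancel₀ hd (by
      rw [← hform, ← hform, hΦ, hΦ]
      exact congrArg₂ (· - ·) (g.2 (E u) (E v)) (g.2 (E v) (E u))))
  let Ψ : ↥(Cfsg.GU m K q) →* ↥(Matrix.symplecticGroup (Fin m) F) :=
    (Classical.symplecticGroupEquiv m).symm.toMonoidHom.comp (Φ.codRestrict _ hmem)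
  have hΨinj : Function.Injective Ψ :=
    (Classical.symplecticGroupEquiv m).symm.injective.comp fun g h hgh => hinj (congrArg Subtype.val hgh)
  let X : ↥(Cfsg.GU m K q) := ⟨GeneralLinearGroup.scalar (Fin m) w, FieldDescent.scalar_mem_GU hK w hwq1⟩
  have hXv : ∀ v : Fin m → K, ((X : GL (Fin m) K) : Matrix (Fin m) (Fin m) K) *ᵥ v = (w : K) • v := fun v => by
    funext i
    simp [X, mulVec_diagonal]
  have hΨv : ∀ g v, E (((Ψ g : Matrix.symplecticGroup (Fin m) F) : Matrix (Fin m ⊕ Fin m) (Fin m ⊕ Fin m) F) *ᵥ v)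
      = ((g : GL (Fin m) K) : Matrix (Fin m) (Fin m) K) *ᵥ E v := fun g v => by
    rw [← hΦ g v]
    refine congrArg E ?_
    have h := (Classical.symplecticGroupEquiv m).apply_symm_apply (Φ.codRestrict _ hmem g)
    exact LinearEquiv.congr_fun (congrArg Subtype.val h) v
  refine ⟨Ψ X, ?_, ?_, ?_⟩
  · rw [← map_pow, ← map_one Ψ]
    refine congrArg Ψ (Subtype.ext ?_)
    rw [SubmonoidClass.coe_pow, OneMemClass.coe_one, ← map_pow, hw3, map_one]
  · rw [← Matrix.mulVec_injective_iff_isUnit]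
    intro u v huv
    have h : ∀ z, E ((((Ψ X : Matrix.symplecticGroup (Fin m) F) : Matrix (Fin m ⊕ Fin m) (Fin m ⊕ Fin m) F) - 1) *ᵥ z)
        = ((w : K) - 1) • E z := fun z => by
      have he : E ((((Ψ X : Matrix.symplecticGroup (Fin m) F) : Matrix (Fin m ⊕ Fin m) (Fin m ⊕ Fin m) F) - 1) *ᵥ z) + E z
          = (w : K) • E z := by
        rw [← hE, sub_mulVec, one_mulVec, sub_add_cancel, hΨv, hXv]
      rw [sub_smul, one_smul, ← he, add_sub_cancel_right]
    have h2 := congrArg E huv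
    rw [h, h] at h2
    exact hbij.1 (smul_right_injective _ (sub_ne_zero.2 hw1) h2)
  · have hcent : Subgroup.centralizer ({Ψ X} : Set ↥(Matrix.symplecticGroup (Fin m) F)) = Ψ.range := by
      refine le_antisymm (fun A hA => ?_) ?_
      · rw [Subgroup.mem_centralizer_singleton_iff] at hA
        let inv := Function.surjInv hbij.2
        have hinv : ∀ z, E (inv z) = z := Function.surjInv_eq hbij.2
        let M := (A : Matrix (Fin m ⊕ Fin m) (Fin m ⊕ Fin m) F)
        let L₀ : (Fin m → K) → (Fin m → K) := fun z => E (M *ᵥ inv z)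
        have hL₀ : ∀ v, L₀ (E v) = E (M *ᵥ v) := fun v =>
          congrArg (fun t => E (M *ᵥ t)) (hbij.1 (hinv (E v)))
        have hadd : ∀ a b, L₀ (a + b) = L₀ a + L₀ b := fun a b => by
          obtain ⟨u, rfl⟩ := hbij.2 a
          obtain ⟨v, rfl⟩ := hbij.2 b
          rw [← hE, hL₀, hL₀, hL₀, mulVec_add, hE]
        have hι : ∀ (c : F) a, L₀ (ι c • a) = ι c • L₀ a := fun c a => by
          obtain ⟨u, rfl⟩ := hbij.2 a
          rw [← hEs, hL₀, hL₀, mulVec_smul, hEs]
        have hwL : ∀ a, L₀ ((w : K) • a) = (w : K) • L₀ a := fun a => by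
          obtain ⟨u, rfl⟩ := hbij.2 a
          rw [← hXv, ← hΨv, hL₀, hL₀, ← hXv, ← hΨv]
          refine congrArg E ?_
          rw [mulVec_mulVec, mulVec_mulVec]
          exact congrArg (· *ᵥ u) (congrArg Subtype.val hA)
        have hgen : ∀ c : K, ∃ a b : F, c = ι a + ι b * (w : K) := fun c => by
          by_cases hm0 : m = 0
          · have hsurj : Function.Surjective fun ab : F × F => ι ab.1 + ι ab.2 * (w : K) :=
              ((Fintype.bijective_iff_injective_and_card _).2 ⟨fun x y hxy => by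
                have := GUEmbed.indep ι hF hθ (a := x.1 - y.1) (b := x.2 - y.2)
                  (by rw [map_sub, map_sub]; linear_combination hxy)
                exact Prod.ext (sub_eq_zero.1 this.1) (sub_eq_zero.1 this.2),
                by rw [Fintype.card_prod, hF, hK, sq]⟩).2
            obtain ⟨ab, hab⟩ := hsurj c
            exact ⟨ab.1, ab.2, hab.symm⟩
          · obtain ⟨v, hv⟩ := hbij.2 (fun _ => c)
            exact ⟨_, _, (congrFun hv ⟨0, Nat.pos_of_ne_zero hm0⟩).symm⟩
        let L : (Fin m → K) →ₗ[K] (Fin m → K) :=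
          { toFun := L₀
            map_add' := hadd
            map_smul' := fun c a => by
              obtain ⟨x, y, rfl⟩ := hgen c
              rw [RingHom.id_apply, add_smul, add_smul, mul_smul, mul_smul, hadd, hι, hι, hwL] }
        set N := LinearMap.toMatrix' L with hN
        have hNv : ∀ z, N *ᵥ z = L₀ z := fun z => by rw [hN, LinearMap.toMatrix'_mulVec]; rfl
        have hpres : ∀ a b, Cfsg.hermForm m K q (N *ᵥ a) (N *ᵥ b) = Cfsg.hermForm m K q a b := by
          have h1 : ∀ a b, Cfsg.hermForm m K q (L₀ a) (L₀ b) - Cfsg.hermForm m K q (L₀ b) (L₀ a)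
              = Cfsg.hermForm m K q a b - Cfsg.hermForm m K q b a := fun a b => by
            obtain ⟨u, rfl⟩ := hbij.2 a
            obtain ⟨v, rfl⟩ := hbij.2 b
            rw [hL₀, hL₀, hform, hform]
            exact congrArg (fun t => ((w : K) - s w) * ι t)
              ((Classical.symp_mem_iff m _).1 A.2 u v)
          intro a b
          rw [hNv, hNv]
          have h2 := h1 ((w : K) • a) b
          rw [hwL, Forms.herm_smul_left hK, Forms.herm_smul_left hK, Forms.herm_smul_right hK,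
            Forms.herm_smul_right hK, hqs] at h2
          refine mul_left_cancel₀ hd ?_
          linear_combination h2 - s (w : K) * h1 a b
        obtain ⟨G, hG⟩ : ∃ G : GL (Fin m) K, (G : Matrix (Fin m) (Fin m) K) = N := by
          refine Matrix.mulVec_injective_iff_isUnit.1 fun a b hab => ?_
          obtain ⟨u, rfl⟩ := hbij.2 a
          obtain ⟨v, rfl⟩ := hbij.2 b
          rw [hNv, hNv, hL₀, hL₀] at hab
          have hM : IsUnit M := ⟨⟨M, ((A⁻¹ : Matrix.symplecticGroup (Fin m) F) : Matrix _ _ F),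
            congrArg Subtype.val (mul_inv_cancel A), congrArg Subtype.val (inv_mul_cancel A)⟩, rfl⟩
          exact congrArg E (Matrix.mulVec_injective_iff_isUnit.2 hM (hbij.1 hab))
        refine ⟨⟨G, fun a b => by show Cfsg.hermForm m K q ((G : Matrix (Fin m) (Fin m) K) *ᵥ a) ((G : Matrix (Fin m) (Fin m) K) *ᵥ b) = _; rw [hG]; exact hpres a b⟩, Subtype.ext (Matrix.ext_iff_mulVec.2 fun v => hbij.1 ?_)⟩
        rw [hΨv]
        show (G : Matrix (Fin m) (Fin m) K) *ᵥ E v = E (M *ᵥ v)
        rw [hG, hNv, hL₀]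
      · rintro _ ⟨g, rfl⟩
        rw [Subgroup.mem_centralizer_singleton_iff, ← map_mul, ← map_mul]
        exact congrArg Ψ (Subtype.ext (Commute.symm (GeneralLinearGroup.scalar_commute w _)).eq)
    rw [hcent, Nat.card_congr (MonoidHom.ofInjective hΨinj).symm.toEquiv, Classical.natCard_GU hK m]
    push_cast
    rw [Finset.prod_range]
    refine congrArg _ (Finset.prod_congr rfl fun i _ => ?_)
    by_cases hev : Even (i : ℕ)
    · rw [if_pos hev, (hev.add_one).neg_one_pow]
      push_cast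
      ring
    · rw [if_neg hev, ((Nat.not_even_iff_odd.1 hev).add_one).neg_one_pow]
      have : 1 ≤ q ^ ((i : ℕ) + 1) := Nat.one_le_pow _ _ (by omega)
      push_cast [Nat.cast_sub this]
      ring


/-- Centraliser of a fixed-point-free element of order three in Sp_2m(q) when q ≡ 2 (mod 3): if x ∈ Sp_2m(F) (|F| = q, m ≥ 1) satisfies x³ = 1 and x − 1 is invertible, then its centraliser in Sp_2m(F) has the order of the unitary group GU_m(q), namely q^(m(m−1)/2) Π_(i=1)^m (q^i − (−1)^i) (x lies in the centre of a subgroup GU_m(q) of Sp_2m(q)). -/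
theorem result {F : Type*} [Field F] [Fintype F] {q : ℕ} (hF : Fintype.card F = q) (hq : q % 3 = 2) {m : ℕ} (hm : 1 ≤ m) (x : Matrix.symplecticGroup (Fin m) F) (hx3 : x ^ 3 = 1) (hfpf : IsUnit ((x : Matrix (Fin m ⊕ Fin m) (Fin m ⊕ Fin m) F) - 1)) : (Nat.card ↥(Subgroup.centralizer ({x} : Set ↥(Matrix.symplecticGroup (Fin m) F))) : ℤ) = (q : ℤ) ^ (m * (m - 1) / 2) * ∏ i : Fin m, ((q : ℤ) ^ ((i : ℕ) + 1) - (-1) ^ ((i : ℕ) + 1)) := by
  open Cfsg.Agent.Lib in
  classical
  haveI : Fact (Nat.Prime 3) := ⟨Nat.prime_three⟩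
  obtain ⟨x₀, hx₀, hfpf₀, hcard⟩ := exists_model (m := m) hF hq
  rw [← hcard]
  have h3 : (3 : F) ≠ 0 := by
    intro h
    obtain ⟨p, hp⟩ := CharP.exists F
    haveI := Fact.mk (CharP.char_is_prime F p)
    obtain ⟨f, -, hf⟩ := FiniteField.card F p
    have h' : p ∣ 3 := (CharP.cast_eq_zero_iff F p 3).1 (by exact_mod_cast h)
    rw [(Nat.prime_dvd_prime_iff_eq (CharP.char_is_prime F p) Nat.prime_three).1 h', hF] at hf
    have h30 : 3 ∣ q := hf ▸ dvd_pow_self 3 f.ne_zero
    omega
  have hrF : ((3 : ℕ) : F) ≠ 0 := by exact_mod_cast h3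
  obtain ⟨ζ, hζ⟩ := FormConj.exists_root F hrF
  obtain ⟨k, hk⟩ : IsUnit (Matrix.J (Fin m) F) := (Matrix.isUnit_iff_isUnit_det _).2 (Matrix.isUnit_det_J (Fin m) F)
  have hgood : Forms.IsGoodForm (σ := RingHom.id F)
      (Matrix.toBilin' (k : Matrix (Fin m ⊕ Fin m) (Fin m ⊕ Fin m) F)) (-1 : F) := by
    rw [hk]; exact Forms.sympBilin_goodForm
  have hmem : ∀ A : Matrix (Fin m ⊕ Fin m) (Fin m ⊕ Fin m) F,
      A ∈ Matrix.symplecticGroup (Fin m) F ↔ FormConj.adj k A * A = 1 := fun A => by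
    rw [FormConj.adj_mul_self_iff, hk, SymplecticGroup.mem_iff']
  have hpow : ∀ y : Matrix.symplecticGroup (Fin m) F, y ^ 3 = 1 →
      (y : Matrix (Fin m ⊕ Fin m) (Fin m ⊕ Fin m) F) ^ 3 = 1 := fun y hy => by
    rw [← SubmonoidClass.coe_pow, hy]; rfl
  have hmult : ∀ y : Matrix.symplecticGroup (Fin m) F, y ^ 3 = 1 →
      IsUnit ((y : Matrix (Fin m ⊕ Fin m) (Fin m ⊕ Fin m) F) - 1) →
      FormConj.HasMult (algebraMap F (AlgebraicClosure F)) ζ (y : Matrix (Fin m ⊕ Fin m) (Fin m ⊕ Fin m) F)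
        (fun a : ZMod 3 => if a = 0 then 0 else m) := by
    intro y hy hu
    obtain ⟨μ, hμ⟩ := FormConj.exists_hasMult (algebraMap F (AlgebraicClosure F)) hζ (hpow y hy)
    have hneg : ∀ a, μ (-a) = μ a := FormConj.mult_neg _ hζ hrF k (hpow y hy) ((hmem _).1 y.2) hμ
    have hsum : ∑ a, μ a = m + m := by
      rw [FormConj.HasMult.sum_eq _ hμ, Fintype.card_sum, Fintype.card_fin]
    have h0 : μ 0 = 0 := by
      by_contra h
      have h1 : ((y : Matrix (Fin m ⊕ Fin m) (Fin m ⊕ Fin m) F).charpoly.map (algebraMap F (AlgebraicClosure F))).eval 1 = 0 := by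
        rw [hμ, FormConj.polyOf, Polynomial.eval_prod]
        refine Finset.prod_eq_zero (Finset.mem_univ (0 : ZMod 3)) ?_
        rw [Polynomial.eval_pow, Polynomial.eval_sub, Polynomial.eval_X, Polynomial.eval_C, FormConj.rootAt,
          ZMod.val_zero, pow_zero, sub_self, zero_pow h]
      rw [Polynomial.eval_one_map, map_eq_zero, Matrix.eval_charpoly, map_one] at h1
      have h2 := (Matrix.isUnit_iff_isUnit_det _).1 hu.neg
      rw [neg_sub, h1] at h2
      exact not_isUnit_zero h2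
    convert hμ using 1
    funext a
    have h3s : μ 0 + μ 1 + μ 2 = m + m := by
      rw [← hsum]
      exact (Fin.sum_univ_three (f := fun a : Fin 3 => μ a)).symm
    have h12 : μ 2 = μ 1 := hneg 1
    fin_cases a
    · exact h0.symm
    · show m = μ 1
      omega
    · show m = μ 2
      omega
  obtain ⟨c, hc⟩ := FormConj.isConj_of_hasMult (algebraMap F (AlgebraicClosure F)) hζ hrF (hpow x hx3) (hpow x₀ hx₀)
    (hmult x hx3 hfpf) (hmult x₀ hx₀ hfpf₀)
  obtain ⟨M, hM, hMx⟩ := FormConj.exists_isometry_intertwine k hgood (by decide : Odd 3) hrF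
    ((hmem _).1 x.2) ((hmem _).1 x₀.2) (hpow x hx3) c.isUnit hc.eq
  have hconj : (⟨M, (hmem M).2 hM⟩ : Matrix.symplecticGroup (Fin m) F) * x = x₀ * ⟨M, (hmem M).2 hM⟩ :=
    Subtype.ext hMx
  set g : Matrix.symplecticGroup (Fin m) F := ⟨M, (hmem M).2 hM⟩
  have hx₀' : x₀ = MulAut.conj g x := by rw [MulAut.conj_apply, hconj, mul_inv_cancel_right]
  have hmap : (Subgroup.centralizer ({x} : Set ↥(Matrix.symplecticGroup (Fin m) F))).map (MulAut.conj g).toMonoidHom
      = Subgroup.centralizer ({x₀} : Set ↥(Matrix.symplecticGroup (Fin m) F)) := by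
    rw [Subgroup.map_equiv_eq_comap_symm']
    ext y
    rw [Subgroup.mem_comap, Subgroup.mem_centralizer_singleton_iff, Subgroup.mem_centralizer_singleton_iff, hx₀']
    show (MulAut.conj g).symm y * x = x * (MulAut.conj g).symm y ↔ _
    rw [← (MulAut.conj g).injective.eq_iff, map_mul, map_mul, MulEquiv.apply_symm_apply]
  rw [← hmap, Subgroup.card_map_of_injective (MulAut.conj g).injective]

end Cfsg.Agent.S2637
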