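import Cfsg.Statements.S2638
import Mathlib
-- import your own Cfsg.Agent.* helpers here

set_option autoImplicit false
open Cfsg

namespace Cfsg.Agent.S2638

/-- If an element x of GL_n(q), n ≥ 1, has prime order r and the multiplicative order of q modulo r is n (r is a primitive prime divisor of q^n − 1, so x acts irreducibly), then the centraliser of x in GL_n(q) is cyclic of order q^n − 1 (the multiplicative group of the field with q^n elements, a Singer cycle). -/
theorem result {F : Type*} [Field F] [Fintype F] {p q : ℕ} [Fact p.Prime] [CharP F p] (hF : Fintype.card F = q) {n r : ℕ} (hn : 1 ≤ n) (hr : r.Prime) (hrp : r ≠ p) (hi : orderOf (q : ZMod r) = n) (x : GL (Fin n) F) (hx : orderOf x = r) : IsCyclic ↥(Subgroup.centralizer ({x} : Set (GL (Fin n) F))) ∧ Nat.card ↥(Subgroup.centralizer ({x} : Set (GL (Fin n) F))) = q ^ n - 1 := by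
  classical
  open Polynomial in
  haveI : Fact r.Prime := ⟨hr⟩
  let M : Matrix (Fin n) (Fin n) F := (x : Matrix (Fin n) (Fin n) F)
  let μ := minpoly F M
  have hMint : IsIntegral F M := Matrix.isIntegral M
  have hμdeg : μ.natDegree ≤ n := by
    have h := Polynomial.natDegree_le_of_dvd (Matrix.minpoly_dvd_charpoly M) (Matrix.charpoly_monic M).ne_zero
    rwa [Matrix.charpoly_natDegree_eq_dim, Fintype.card_fin] at h
  have hMr : M ^ r = 1 := by
    rw [← Units.val_pow_eq_pow_val, ← hx, pow_orderOf_eq_one, Units.val_one]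
  set S : F[X] := ∑ i ∈ Finset.range r, (Polynomial.X : F[X]) ^ i
  have hS : S * (Polynomial.X - 1) = Polynomial.X ^ r - 1 := geom_sum_mul _ _
  have hdvd : μ ∣ S * (Polynomial.X - 1) := by
    rw [hS]; exact minpoly.dvd F M (by simp [hMr])
  have hnc : ¬ IsCoprime μ S := by
    intro hc
    have h1 : μ ∣ Polynomial.X - 1 := hc.dvd_of_dvd_mul_left hdvd
    obtain ⟨c, hc'⟩ := h1
    have h2 := congrArg (Polynomial.aeval M) hc'
    rw [map_sub, Polynomial.aeval_X, map_one, map_mul, minpoly.aeval, zero_mul, sub_eq_zero] at h2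
    have : x = 1 := Units.ext h2
    rw [this, orderOf_one] at hx
    exact hr.one_lt.ne hx
  obtain ⟨P, hP, hPμ, hPS⟩ : ∃ P : F[X], Irreducible P ∧ P ∣ μ ∧ P ∣ S := by
    by_contra hc
    push Not at hc
    exact hnc (isCoprime_of_irreducible_dvd (fun h => minpoly.ne_zero hMint h.1) fun z hz h1 h2 => hc z hz h1 h2)
  haveI := Fact.mk hP
  have hroot : (AdjoinRoot.mk P) S = 0 := AdjoinRoot.mk_eq_zero.2 hPS
  have hmkS : (AdjoinRoot.mk P) S = ∑ i ∈ Finset.range r, AdjoinRoot.root P ^ i := by
    simp [S, map_sum]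
  rw [hmkS] at hroot
  have hαr : AdjoinRoot.root P ^ r = 1 := by
    rw [← sub_eq_zero, ← geom_sum_mul, hroot, zero_mul]
  haveI : CharP (AdjoinRoot P) p := charP_of_injective_algebraMap (algebraMap F (AdjoinRoot P)).injective p
  have hrp' : (r : AdjoinRoot P) ≠ 0 := fun h => hrp
    ((Nat.prime_dvd_prime_iff_eq (Fact.out : p.Prime) hr).1 ((CharP.cast_eq_zero_iff _ p r).1 h)).symm
  have hα1 : AdjoinRoot.root P ≠ 1 := by
    intro h
    rw [h] at hroot
    simp at hroot
    exact hrp' hroot
  have hord : orderOf (AdjoinRoot.root P) = r := orderOf_eq_prime hαr hα1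
  have hfin : Module.finrank F (AdjoinRoot P) = P.natDegree := by
    rw [(AdjoinRoot.powerBasis hP.ne_zero).finrank, AdjoinRoot.powerBasis_dim]
  haveI : Module.Finite F (AdjoinRoot P) :=
    Module.finite_of_finrank_pos (by rw [hfin]; exact hP.natDegree_pos)
  haveI : Finite (AdjoinRoot P) := Module.finite_of_finite F
  haveI := Fintype.ofFinite (AdjoinRoot P)
  have hcardP : Fintype.card (AdjoinRoot P) = q ^ P.natDegree := by
    rw [Module.card_eq_pow_finrank (K := F), hF, hfin]
  have hα0 : AdjoinRoot.root P ≠ 0 := fun h => by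
    rw [h, zero_pow hr.ne_zero] at hαr; exact zero_ne_one hαr
  have hndeg : n ≤ P.natDegree := by
    have h1 := FiniteField.pow_card_sub_one_eq_one _ hα0
    rw [hcardP] at h1
    have h2 : r ∣ q ^ P.natDegree - 1 := hord ▸ orderOf_dvd_of_pow_eq_one h1
    have h3 : (q : ZMod r) ^ P.natDegree = 1 := by
      have h4 := (CharP.cast_eq_zero_iff (ZMod r) r (q ^ P.natDegree - 1)).2 h2
      rw [Nat.cast_sub (Nat.one_le_pow _ _ (hF ▸ Fintype.card_pos))] at h4
      push_cast at h4
      exact sub_eq_zero.1 h4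
    rw [← hi]
    exact Nat.le_of_dvd hP.natDegree_pos (orderOf_dvd_of_pow_eq_one h3)
  have hμirr : Irreducible μ := by
    obtain ⟨R, hR⟩ := hPμ
    have hR0 : R ≠ 0 := fun h => minpoly.ne_zero hMint (by show μ = 0; rw [hR, h, mul_zero])
    have h1 : μ.natDegree = P.natDegree + R.natDegree := by rw [hR, Polynomial.natDegree_mul hP.ne_zero hR0]
    have h2 : IsUnit R := Polynomial.isUnit_iff_degree_eq_zero.2 (by
      rw [Polynomial.degree_eq_natDegree hR0, show R.natDegree = 0 by omega]; rfl)
    rw [hR]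
    exact (associated_mul_unit_right P R h2).irreducible hP
  have hμn : μ.natDegree = n := le_antisymm hμdeg
    (hndeg.trans (Polynomial.natDegree_le_of_dvd hPμ (minpoly.ne_zero hMint)))
  haveI := Fact.mk hμirr
  haveI : Nonempty (Fin n) := ⟨⟨0, hn⟩⟩
  let φ : AdjoinRoot μ →ₐ[F] Matrix (Fin n) (Fin n) F :=
    Ideal.Quotient.liftₐ (Ideal.span {μ}) (Polynomial.aeval M) fun a ha => by
      obtain ⟨c, rfl⟩ := Ideal.mem_span_singleton.1 ha
      rw [map_mul, minpoly.aeval, zero_mul]
  have hφroot : φ (AdjoinRoot.root μ) = M := Polynomial.aeval_X M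
  have hunit : ∀ k : AdjoinRoot μ, k ≠ 0 → IsUnit (φ k) := fun k hk => (isUnit_iff_ne_zero.2 hk).map φ
  let v : Fin n → F := Pi.single ⟨0, hn⟩ 1
  have hv : v ≠ 0 := by simp [v]
  let E : AdjoinRoot μ →ₗ[F] (Fin n → F) :=
    ((Matrix.mulVecBilin F F).flip v).comp φ.toLinearMap
  have hE : ∀ k, E k = (φ k).mulVec v := fun _ => rfl
  have hEinj : Function.Injective E := by
    rw [injective_iff_map_eq_zero]
    intro k hk
    by_contra hk0
    refine hv (Matrix.mulVec_injective_iff_isUnit.2 (hunit k hk0) ?_)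
    rw [Matrix.mulVec_zero, ← hE, hk]
  have hfinμ : Module.finrank F (AdjoinRoot μ) = n := by
    rw [(AdjoinRoot.powerBasis hμirr.ne_zero).finrank, AdjoinRoot.powerBasis_dim, hμn]
  haveI : Module.Finite F (AdjoinRoot μ) := Module.finite_of_finrank_pos (by rw [hfinμ]; exact hn)
  have hEsurj : Function.Surjective E :=
    (LinearMap.injective_iff_surjective_of_finrank_eq_finrank (by rw [hfinμ, Module.finrank_fin_fun])).1 hEinj
  haveI : Finite (AdjoinRoot μ) := Module.finite_of_finite F
  have hcardK : Nat.card (AdjoinRoot μ) = q ^ n := by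
    rw [Nat.card_eq_of_bijective E ⟨hEinj, hEsurj⟩, Nat.card_fun, Nat.card_fin,
      Nat.card_eq_fintype_card, hF]
  let ψ : (AdjoinRoot μ)ˣ →* GL (Fin n) F := Units.map φ.toMonoidHom
  have hψinj : Function.Injective ψ := fun a b h => Units.ext
    (φ.toRingHom.injective (congrArg Units.val h))
  have hrange : ψ.range = Subgroup.centralizer ({x} : Set (GL (Fin n) F)) := by
    ext g
    rw [Subgroup.mem_centralizer_singleton_iff, MonoidHom.mem_range]
    constructor
    · rintro ⟨u, rfl⟩
      apply Units.ext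
      show φ (u : AdjoinRoot μ) * M = M * φ (u : AdjoinRoot μ)
      rw [← hφroot, ← map_mul, ← map_mul, mul_comm]
    · intro hg
      have hg' : Commute (g : Matrix (Fin n) (Fin n) F) M := congrArg Units.val hg
      obtain ⟨k, hk⟩ := hEsurj ((g : Matrix (Fin n) (Fin n) F).mulVec v)
      have hcomm : ∀ j, Commute (g : Matrix (Fin n) (Fin n) F) (φ j) := by
        intro j
        obtain ⟨f, rfl⟩ := AdjoinRoot.mk_surjective j
        show Commute _ (Polynomial.aeval M f)
        induction f using Polynomial.induction_on' with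
        | add a b ha hb => rw [map_add]; exact ha.add_right hb
        | monomial i c =>
          rw [Polynomial.aeval_monomial]
          exact (Algebra.commute_algebraMap_right c _).mul_right (hg'.pow_right i)
      have hgk : φ k = (g : Matrix (Fin n) (Fin n) F) := by
        refine Matrix.ext_iff_mulVec.2 fun w => ?_
        obtain ⟨j, rfl⟩ := hEsurj w
        rw [hE, Matrix.mulVec_mulVec, Matrix.mulVec_mulVec, (hcomm j).eq, ← map_mul, mul_comm, map_mul,
          ← Matrix.mulVec_mulVec, ← Matrix.mulVec_mulVec, ← hE k, hk]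
      have hk0 : k ≠ 0 := by
        intro h
        rw [h, map_zero] at hgk
        exact g.ne_zero hgk.symm
      exact ⟨Units.mk0 k hk0, Units.ext hgk⟩
  rw [← hrange]
  let e := MonoidHom.ofInjective hψinj
  refine ⟨isCyclic_of_surjective e e.surjective, ?_⟩
  rw [← Nat.card_congr e.toEquiv, Nat.card_units, hcardK]

end Cfsg.Agent.S2638
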