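import Cfsg.Statements.S2639
import Mathlib
import Cfsg.Agent.Lib.GUEmbed.Basic
import Cfsg.Agent.Lib.Classical.Isometry
-- import your own Cfsg.Agent.* helpers here

set_option autoImplicit false
open Cfsg

namespace Cfsg.Agent.S2639

/-- The unitary group embeds in the symplectic group of twice the dimension over the subfield: for a field K with q² elements and a field F with q elements (isomorphic to the subfield of K of order q), there is an injective homomorphism GU_m(q) → Sp_2m(F). -/
theorem result {K F : Type*} [Field K] [Fintype K] [Field F] [Fintype F] {q : ℕ} (hK : Fintype.card K = q ^ 2) (hF : Fintype.card F = q) (m : ℕ) : ∃ φ : ↥(Cfsg.GU m K q) →* ↥(Matrix.symplecticGroup (Fin m) F), Function.Injective φ := by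
  open Cfsg.Agent.Lib in
  classical
  obtain ⟨ι⟩ := GUEmbed.exists_ringHom hK hF
  obtain ⟨θ, hθ⟩ := GUEmbed.exists_not_range (F := F) hK hF
  set s := Forms.qPowHom hK
  have hq : ∀ x : K, x ^ q = s x := fun x => (Forms.qPowHom_apply hK x).symm
  have hsι : ∀ x : F, s (ι x) = ι x := fun x => by rw [← hq, GUEmbed.map_pow_q ι hF]
  let E : (Fin m ⊕ Fin m → F) → (Fin m → K) := fun v i => ι (v (.inl i)) + ι (v (.inr i)) * θ
  have hE : ∀ u v, E (u + v) = E u + E v := fun u v => funext fun i => by
    simp only [E, Pi.add_apply, map_add]; ring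
  have hbij : Function.Bijective E := GUEmbed.bijective_of_zero hK hF (by simp; ring) E hE fun v hv => by
    funext i
    rcases i with i | i
    · exact (GUEmbed.indep ι hF hθ (congrFun hv i)).1
    · exact (GUEmbed.indep ι hF hθ (congrFun hv i)).2
  obtain ⟨Φ, hinj, hΦ⟩ := GUEmbed.exists_hom (q := q) ι E hE
    (fun c v => funext fun i => by simp only [E, Pi.smul_apply, smul_eq_mul, map_mul]; ring) hbij
  have hform : ∀ u v, Cfsg.hermForm m K q (E u) (E v) - Cfsg.hermForm m K q (E v) (E u)
      = (θ - s θ) * ι (Classical.sympFn m F u v) := by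
    intro u v
    rw [Classical.sympFn_eq]
    simp only [Cfsg.hermForm, map_sum, Finset.mul_sum, ← Finset.sum_sub_distrib]
    refine Finset.sum_congr rfl fun i _ => ?_
    simp only [E, hq, map_add, map_sub, map_mul, hsι]
    ring
  have hd : θ - s θ ≠ 0 := sub_ne_zero.2 fun h => hθ (by rw [hq]; exact h.symm)
  have hp : ∀ g, Φ g ∈ Classical.biIsoGroup (F := F) (Classical.sympFn m F) := fun g u v =>
    ι.injective (mul_left_cancel₀ hd (by
      rw [← hform, ← hform, hΦ, hΦ]
      exact congrArg₂ (· - ·) (g.2 (E u) (E v)) (g.2 (E v) (E u))))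
  exact ⟨(Classical.symplecticGroupEquiv m).symm.toMonoidHom.comp (Φ.codRestrict _ hp),
    (Classical.symplecticGroupEquiv m).symm.injective.comp fun g h hgh => hinj (congrArg Subtype.val hgh)⟩

end Cfsg.Agent.S2639
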