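import Cfsg.Statements.S2640
import Mathlib
import Cfsg.Agent.Lib.GUEmbed.Blocks
-- import your own Cfsg.Agent.* helpers here

set_option autoImplicit false
open Cfsg

namespace Cfsg.Agent.S2640

/-- For m even, the unitary group GU_m(q) (over the field with q² elements) embeds in the orthogonal group O⁺_2m(q) of the hyperbolic form Σ x_i y_i over the field with q elements (there is an injective homomorphism). -/
theorem result {K F : Type*} [Field K] [Fintype K] [Field F] [Fintype F] {q : ℕ} (hK : Fintype.card K = q ^ 2) (hF : Fintype.card F = q) (m : ℕ) (hm : Even m) : ∃ φ : ↥(Cfsg.GU m K q) →* ↥(Cfsg.isometryGroup F (Cfsg.quadFormPlus m F)), Function.Injective φ := by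
  open Cfsg.Agent.Lib in
  classical
  obtain ⟨ι⟩ := GUEmbed.exists_ringHom hK hF
  obtain ⟨k, rfl⟩ := hm
  obtain ⟨P, hadd, hsmul, h0, hnorm⟩ := GUEmbed.exists_pairMap ι hK hF
  set e : Fin k ⊕ Fin k ≃ Fin (k + k) := finSumFinEquiv
  let p : (Fin (k + k) ⊕ Fin (k + k) → F) → Fin k → K × K := fun v j =>
    P (v (.inl (e (.inl j)))) (v (.inl (e (.inr j)))) (v (.inr (e (.inl j)))) (v (.inr (e (.inr j))))
  let E : (Fin (k + k) ⊕ Fin (k + k) → F) → (Fin (k + k) → K) := fun v i =>
    Sum.elim (fun j => (p v j).1) (fun j => (p v j).2) (e.symm i)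
  have hE : ∀ u v, E (u + v) = E u + E v := fun u v => funext fun i => by
    obtain ⟨x, rfl⟩ := e.surjective i
    rcases x with j | j <;> simp [E, p, hadd]
  refine GUEmbed.exists_embedding_isometry ι _ E hE (fun c v => funext fun i => ?_)
    (GUEmbed.bijective_of_zero hK hF (by simp; ring) E hE fun v hv => ?_) fun v => ?_
  · obtain ⟨x, rfl⟩ := e.surjective i
    rcases x with j | j <;> simp [E, p, hsmul]
  · have hz : ∀ j, v (.inl (e (.inl j))) = 0 ∧ v (.inl (e (.inr j))) = 0 ∧ v (.inr (e (.inl j))) = 0 ∧ v (.inr (e (.inr j))) = 0 :=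
      fun j => h0 _ _ _ _ (Prod.ext (by simpa [E, p] using congrFun hv (e (.inl j)))
        (by simpa [E, p] using congrFun hv (e (.inr j))))
    funext i
    rcases i with i | i <;> obtain ⟨x, rfl⟩ := e.surjective i <;> rcases x with j | j <;> simp [hz j]
  · simp only [Cfsg.quadFormPlus, Cfsg.hermForm, ← Equiv.sum_comp e, Fintype.sum_sum_type, map_sum, map_add]
    simp only [E, Equiv.symm_apply_apply, Sum.elim_inl, Sum.elim_inr, ← Finset.sum_add_distrib, ← map_add, p]
    exact Finset.sum_congr rfl fun j _ => hnorm _ _ _ _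

end Cfsg.Agent.S2640
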