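import Cfsg.Statements.S2641
import Mathlib
import Cfsg.Agent.Lib.GUEmbed.Blocks
-- import your own Cfsg.Agent.* helpers here

set_option autoImplicit false
open Cfsg

namespace Cfsg.Agent.S2641

/-- For m odd, the unitary group GU_m(q) (over the field with q² elements) embeds in the orthogonal group O⁻_2m(q) of an elliptic form (Σ_(i<m−1) x_i y_i plus an anisotropic binary form) over the field with q elements (there is an injective homomorphism). -/
theorem result {K F : Type*} [Field K] [Fintype K] [Field F] [Fintype F] {q : ℕ} (hK : Fintype.card K = q ^ 2) (hF : Fintype.card F = q) (m : ℕ) (hm : Odd m) (a b : F) (hab : ∀ z₁ z₂ : F, z₁ ^ 2 + a * z₁ * z₂ + b * z₂ ^ 2 = 0 → z₁ = 0 ∧ z₂ = 0) : ∃ φ : ↥(Cfsg.GU m K q) →* ↥(Cfsg.isometryGroup F (Cfsg.quadFormMinus (m - 1) F a b)), Function.Injective φ := by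
  open Cfsg.Agent.Lib in
  classical
  obtain ⟨ι⟩ := GUEmbed.exists_ringHom hK hF
  obtain ⟨k, rfl⟩ := hm
  obtain ⟨P, hadd, hsmul, h0, hnorm⟩ := GUEmbed.exists_pairMap ι hK hF
  obtain ⟨ω, hsum, hprod⟩ := GUEmbed.exists_trace_norm ι hK hF hab
  have hω : ω ^ q ≠ ω := by
    intro h
    obtain ⟨w, rfl⟩ := GUEmbed.mem_range_of_pow ι hF h
    have h1 : a = w + w := ι.injective (by rw [map_add, ← hsum, h])
    have h2 : b = w * w := ι.injective (by rw [map_mul, ← hprod, h])
    exact one_ne_zero (hab (-w) 1 (by rw [h1, h2]; ring)).2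
  rw [show 2 * k + 1 - 1 = k + k by omega]
  set e : Fin k ⊕ Fin k ≃ Fin (k + k) := finSumFinEquiv
  let e' : (Fin k ⊕ Fin k) ⊕ Fin 1 ≃ Fin (2 * k + 1) :=
    ((e.sumCongr (Equiv.refl _)).trans finSumFinEquiv).trans (finCongr (by omega))
  let p : ((Fin (k + k) ⊕ Fin (k + k)) ⊕ Fin 2 → F) → Fin k → K × K := fun v j =>
    P (v (.inl (.inl (e (.inl j))))) (v (.inl (.inl (e (.inr j)))))
      (v (.inl (.inr (e (.inl j))))) (v (.inl (.inr (e (.inr j)))))
  let E : ((Fin (k + k) ⊕ Fin (k + k)) ⊕ Fin 2 → F) → (Fin (2 * k + 1) → K) := fun v i =>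
    Sum.elim (Sum.elim (fun j => (p v j).1) (fun j => (p v j).2))
      (fun _ => ι (v (.inr 0)) + ι (v (.inr 1)) * ω) (e'.symm i)
  have hE : ∀ u v, E (u + v) = E u + E v := fun u v => funext fun i => by
    obtain ⟨x, rfl⟩ := e'.surjective i
    rcases x with (j | j) | j <;> simp [E, p, hadd] <;> ring
  refine GUEmbed.exists_embedding_isometry ι _ E hE (fun c v => funext fun i => ?_)
    (GUEmbed.bijective_of_zero hK hF (by simp; ring) E hE fun v hv => ?_) fun v => ?_
  · obtain ⟨x, rfl⟩ := e'.surjective i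
    rcases x with (j | j) | j <;> simp [E, p, hsmul] <;> ring
  · have hz : ∀ j, v (.inl (.inl (e (.inl j)))) = 0 ∧ v (.inl (.inl (e (.inr j)))) = 0 ∧
        v (.inl (.inr (e (.inl j)))) = 0 ∧ v (.inl (.inr (e (.inr j)))) = 0 :=
      fun j => h0 _ _ _ _ (Prod.ext (by simpa [E, p] using congrFun hv (e' (.inl (.inl j))))
        (by simpa [E, p] using congrFun hv (e' (.inl (.inr j)))))
    obtain ⟨z0, z1⟩ := GUEmbed.indep ι hF hω (by simpa [E] using congrFun hv (e' (.inr 0)))
    funext i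
    rcases i with (i | i) | i
    · obtain ⟨x, rfl⟩ := e.surjective i
      rcases x with j | j <;> simp [hz j]
    · obtain ⟨x, rfl⟩ := e.surjective i
      rcases x with j | j <;> simp [hz j]
    · fin_cases i <;> simp [z0, z1]
  · simp only [Cfsg.quadFormMinus, Cfsg.hermForm, ← Equiv.sum_comp e', ← Equiv.sum_comp e, Fintype.sum_sum_type,
      Finset.univ_unique, Finset.sum_singleton]
    simp only [E, Equiv.symm_apply_apply, Sum.elim_inl, Sum.elim_inr, map_add, map_sum, p]
    rw [← Finset.sum_add_distrib, ← Finset.sum_add_distrib]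
    refine congrArg₂ (· + ·) (Finset.sum_congr rfl fun j _ => by rw [← map_add]; exact hnorm _ _ _ _) ?_
    have hq : ∀ x : K, x ^ q = Forms.qPowHom hK x := fun x => (Forms.qPowHom_apply hK x).symm
    have hsι : ∀ x : F, Forms.qPowHom hK (ι x) = ι x := fun x => by rw [← hq, GUEmbed.map_pow_q ι hF]
    rw [hq] at hsum hprod
    rw [hq, map_add, map_mul (Forms.qPowHom hK), hsι, hsι]
    simp only [map_mul, map_pow, ← hsum, ← hprod]
    ring

end Cfsg.Agent.S2641
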