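import Cfsg.Statements.S2642
import Mathlib
import Cfsg.Agent.S2570
import Cfsg.Agent.S2315
import Cfsg.Agent.Lib.FormConj.Unipotent
-- import your own Cfsg.Agent.* helpers here

set_option autoImplicit false
open Cfsg

namespace Cfsg.Agent.S2642

/-- Number of conjugacy classes of elements of order p in the general unitary group GU_n(q), q a power of p: every unipotent Jordan type occurs and the classes correspond to the partitions of n with all parts at most p other than the all-ones partition, exactly as in GL_n; so there are (number of partitions of n with parts ≤ p) − 1 classes. -/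
theorem result {K : Type*} [Field K] [Fintype K] {p q n : ℕ} [Fact p.Prime] [CharP K p] (hK : Fintype.card K = q ^ 2) : Nat.card {C : ConjClasses ↥(Cfsg.GU n K q) // ∃ g : ↥(Cfsg.GU n K q), ConjClasses.mk g = C ∧ orderOf g = p} = (Finset.univ.filter (fun μ : Nat.Partition n => ∀ a ∈ μ.parts, a ≤ p)).card - 1 := by
  classical
  have hp : p.Prime := Fact.out
  rw [← Cfsg.Agent.S2570.result (F := K) (p := p) n]
  have hmap : ∀ C : ConjClasses ↥(Cfsg.GU n K q), (∃ g : ↥(Cfsg.GU n K q), ConjClasses.mk g = C ∧ orderOf g = p) →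
      ∃ g : GL (Fin n) K, ConjClasses.mk g = C.map (Cfsg.GU n K q).subtype ∧ orderOf g = p := by
    rintro _ ⟨g, rfl, hg⟩
    exact ⟨g, rfl, by rw [Subgroup.orderOf_coe, hg]⟩
  refine Nat.card_congr (Equiv.ofBijective (fun C => ⟨C.1.map (Cfsg.GU n K q).subtype, hmap C.1 C.2⟩) ⟨?_, ?_⟩)
  · rintro ⟨C, hC⟩ ⟨D, hD⟩ h
    induction C using Quotient.inductionOn with
    | h a => induction D using Quotient.inductionOn with
      | h b =>
        have h' : ConjClasses.mk (a : GL (Fin n) K) = ConjClasses.mk (b : GL (Fin n) K) := congrArg Subtype.val h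
        rw [ConjClasses.mk_eq_mk_iff_isConj, ← Cfsg.Agent.Lib.FormConj.isConj_GU_iff hK,
          ← ConjClasses.mk_eq_mk_iff_isConj] at h'
        exact Subtype.ext h'
  · rintro ⟨_, g, rfl, hg⟩
    have hnil : IsNilpotent ((g : Matrix (Fin n) (Fin n) K) - 1) :=
      (Cfsg.Agent.S2315.ppow_order_iff p n g).1 ⟨1, by rw [hg, pow_one]⟩
    obtain ⟨u, hu⟩ := Cfsg.Agent.Lib.FormConj.exists_GU_isConj_unipotent hK g hnil
    refine ⟨⟨ConjClasses.mk u, u, rfl, ?_⟩, Subtype.ext (ConjClasses.mk_eq_mk_iff_isConj.2 hu.symm)⟩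
    obtain ⟨c, hc⟩ := isConj_iff.1 hu
    rw [← Subgroup.orderOf_coe, ← hc, ← MulAut.conj_apply,
      MulEquiv.orderOf_eq, hg]

end Cfsg.Agent.S2642
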