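import Mathlib
import Cfsg.Statements.S2644
import Cfsg.Agent.Lib.Forms.Unitary
import Cfsg.Agent.Lib.Classical.UnitaryOrder

set_option autoImplicit false
open Cfsg

namespace Cfsg.Agent.S2644

open Matrix Cfsg.Agent.Lib.Forms

variable {K : Type*} [Field K] [Fintype K] {q n : ℕ}

/-- An isometric transvection is a unitary transvection along an isotropic vector. -/
theorem exists_transvection_data (hF : Fintype.card K = q ^ 2) (M : Matrix (Fin n) (Fin n) K)
    (hM : Cfsg.IsTransvection M)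
    (hp : ∀ x y, Cfsg.hermForm n K q (M *ᵥ x) (M *ᵥ y) = Cfsg.hermForm n K q x y) :
    ∃ (u : Fin n → K) (a : K), u ≠ 0 ∧ Cfsg.hermForm n K q u u = 0 ∧ a ≠ 0 ∧ a + a ^ q = 0 ∧
      ∀ x, M *ᵥ x = x + (a * Cfsg.hermForm n K q x u) • u := by
  classical
  obtain ⟨hr, hsq⟩ := hM
  have hq := two_le_of_card_sq hF
  obtain ⟨⟨u, hu⟩, hu0, hspan⟩ := finrank_eq_one_iff'.mp hr
  have hu0' : u ≠ 0 := fun h => hu0 (Subtype.ext h)
  have hφ : ∀ x, ∃ c : K, (M - 1) *ᵥ x = c • u := fun x => by
    obtain ⟨c, hc⟩ := hspan ⟨(M - 1) *ᵥ x, ⟨x, rfl⟩⟩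
    exact ⟨c, (congrArg Subtype.val hc).symm⟩
  choose φ hφ using hφ
  have hMx : ∀ x, M *ᵥ x = x + φ x • u := fun x => by
    rw [← hφ x, sub_mulVec, one_mulVec, add_sub_cancel]
  have hsmul : ∀ (c : K) x, φ (c • x) = c * φ x := fun c x =>
    smul_left_injective K hu0' (show φ (c • x) • u = (c * φ x) • u by
      rw [← hφ, mulVec_smul, hφ, smul_smul])
  have hsub : ∀ x y, φ (x - y) = φ x - φ y := fun x y =>
    smul_left_injective K hu0' (show φ (x - y) • u = (φ x - φ y) • u by
      rw [sub_smul, ← hφ, ← hφ, ← hφ, mulVec_sub])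
  have hφu : φ u = 0 := by
    obtain ⟨z, hz⟩ := hu
    have h : (M - 1) *ᵥ u = 0 := by
      rw [← hz, mulVecLin_apply, mulVec_mulVec, hsq, zero_mulVec]
    rw [hφ] at h
    exact (smul_eq_zero.mp h).resolve_right hu0'
  -- the basic identity coming from preservation
  have hid : ∀ x y, φ x * Cfsg.hermForm n K q u y + φ y ^ q * Cfsg.hermForm n K q x u
      + φ x * φ y ^ q * Cfsg.hermForm n K q u u = 0 := fun x y => by
    have h := hp x y
    simp only [hMx, herm_add_left hF, herm_add_right hF, herm_smul_left hF, herm_smul_right hF] at h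
    linear_combination h
  obtain ⟨y₁, hy₁⟩ : ∃ y, φ y ≠ 0 := by
    by_contra hne
    push Not at hne
    have h0 : M - 1 = 0 := Matrix.ext_iff_mulVec.mpr fun x => by rw [hφ, hne, zero_smul, zero_mulVec]
    rw [h0, Matrix.rank_zero] at hr
    omega
  set y₀ := (φ y₁)⁻¹ • y₁ with hy₀
  have hy₀1 : φ y₀ = 1 := by rw [hy₀, hsmul, inv_mul_cancel₀ hy₁]
  have hlin : ∀ x, Cfsg.hermForm n K q x u = φ x * Cfsg.hermForm n K q y₀ u := fun x => by
    have hk : φ (x - φ x • y₀) = 0 := by rw [hsub, hsmul, hy₀1, mul_one, sub_self]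
    have h := hid (x - φ x • y₀) y₀
    rw [hk, hy₀1, one_pow, zero_mul, zero_mul, zero_mul, one_mul, zero_add, add_zero,
      sub_eq_add_neg, ← neg_smul, herm_add_left hF, herm_smul_left hF] at h
    linear_combination h
  have hk0 : Cfsg.hermForm n K q y₀ u ≠ 0 := fun h => hu0' <|
    (hermSesq_goodForm hF).nondeg u fun x => by rw [hermSesq_apply, hlin, h, mul_zero]
  have huu : Cfsg.hermForm n K q u u = 0 := by rw [hlin, hφu, zero_mul]
  refine ⟨u, (Cfsg.hermForm n K q y₀ u)⁻¹, hu0', huu, inv_ne_zero hk0, ?_, fun x => ?_⟩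
  · have h := hid y₀ y₀
    rw [hy₀1, one_pow, huu, mul_zero, add_zero, one_mul, one_mul, ← herm_conj hF y₀ u] at h
    rw [inv_pow]
    field_simp
    linear_combination h
  · rw [hMx, hlin x]
    congr 2
    field_simp

/-- `SU_n` maps any non-zero isotropic vector to any other, `n ≥ 3`. -/
theorem exists_isometry_map (hF : Fintype.card K = q ^ 2) (hn : 3 ≤ n) {u w : Fin n → K} (hu : u ≠ 0)
    (huu : Cfsg.hermForm n K q u u = 0) (hw : w ≠ 0) (hww : Cfsg.hermForm n K q w w = 0) :
    ∃ g : Cfsg.SU n K q,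
      ((g : Matrix.SpecialLinearGroup (Fin n) K) : Matrix (Fin n) (Fin n) K) *ᵥ u = w := by
  classical
  have hB := hermSesq_goodForm (n := n) hF
  obtain ⟨T, hT, hTu⟩ := hB.witt_family ![u] ![w] (.of_subsingleton 0 (by simpa using hu))
    (.of_subsingleton 0 (by simpa using hw))
    (fun i j => by fin_cases i; fin_cases j; simp [huu, hww])
  have hTu' : T u = w := by simpa using hTu 0
  set G := (glEquiv (Fin n) K).symm T with hG
  have hGmem : G ∈ Cfsg.GU n K q := fun x y => by
    change Cfsg.hermForm n K q ((G : Matrix _ _ K) *ᵥ x) ((G : Matrix _ _ K) *ᵥ y) = _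
    rw [hG, glEquiv_symm_mulVec, glEquiv_symm_mulVec]
    exact hT y x
  set δ := (G : Matrix (Fin n) (Fin n) K).det with hδ
  have hδn : δ ^ (q + 1) = 1 := by
    have := Cfsg.Agent.Lib.Classical.det_norm_one hF ⟨G, hGmem⟩
    simpa [hδ] using this
  have hδ0 : δ ≠ 0 := fun h => by simp [h] at hδn
  obtain ⟨b, hbw, hbb⟩ := exists_anisotropic_orth hF hn hw
  have hwb : Cfsg.hermForm n K q w b = 0 := by
    rw [← herm_conj hF, hbw, zero_pow (by have := two_le_of_card_sq hF; omega)]
  set r := Cfsg.hermForm n K q b b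
  set c := (δ⁻¹ - 1) / r with hc
  have hrr : r ^ q = r := herm_conj hF b b
  have hcc : c + c ^ q + c * c ^ q * r = 0 := by
    rw [hc, div_pow, hrr, ← qPowHom_apply hF (δ⁻¹ - 1), map_sub, map_one, qPowHom_apply, inv_pow]
    field_simp
    linear_combination (-1 : K) * ((pow_succ δ q).symm.trans hδn)
  set R := Cfsg.unitaryTransvection n q b c with hR
  have hRdet : R.det = δ⁻¹ := by
    have e : R = 1 + vecMulVec b (c • conjVec q b) + vecMulVec b 0 := by
      rw [hR, Cfsg.unitaryTransvection, ← vecMulVec_smul, vecMulVec_zero, add_zero]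
      rfl
    rw [e, det_one_add_two, smul_dotProduct, conjVec_dotProduct, smul_eq_mul, hc, div_mul_cancel₀ _ hbb]
    simp
  have hRp : ∀ x y, Cfsg.hermForm n K q (R *ᵥ x) (R *ᵥ y) = Cfsg.hermForm n K q x y := fun x y => by
    simp only [hR, unitaryTransvection_mulVec, herm_add_left hF, herm_add_right hF, herm_smul_left hF,
      herm_smul_right hF, mul_pow, herm_conj hF y b]
    linear_combination (Cfsg.hermForm n K q x b * Cfsg.hermForm n K q b y) * hcc
  refine ⟨suMk hF (R * (G : Matrix _ _ K)) (by rw [det_mul, hRdet, inv_mul_cancel₀ hδ0]) ?_, ?_⟩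
  · intro x y
    rw [← mulVec_mulVec, ← mulVec_mulVec, hRp]
    exact hGmem x y
  · rw [suMk_val, ← mulVec_mulVec, hG, glEquiv_symm_mulVec, hTu', hR, unitaryTransvection_mulVec, hwb,
      mul_zero, zero_smul, add_zero]


/-- In the special unitary group SU_n(q) with n ≥ 3 (isometries of Σ u_i v_i^q of determinant one over the field with q² elements), any two transvections (elements t with t − 1 of rank one and square zero) are conjugate. -/
theorem result {K : Type*} [Field K] [Fintype K] {q n : ℕ} (hK : Fintype.card K = q ^ 2) (hn : 3 ≤ n) (s t : ↥(Cfsg.SU n K q)) (hs : Cfsg.IsTransvection (((s : GL (Fin n) K) : Matrix (Fin n) (Fin n) K))) (ht : Cfsg.IsTransvection (((t : GL (Fin n) K) : Matrix (Fin n) (Fin n) K))) : IsConj s t := by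
  have hF : Fintype.card K = q ^ 2 := hK
  obtain ⟨u, a, hu0, huu, ha0, ha, hsu⟩ := exists_transvection_data hF _ hs (fun x y => s.2 x y)
  obtain ⟨w, b, hw0, hww, hb0, hb, htw⟩ := exists_transvection_data hF _ ht (fun x y => t.2 x y)
  obtain ⟨l, hl⟩ := exists_norm_eq (qPowHom_ne_id hF) (qPowHom_qPowHom hF) (c := b / a) (by
    rw [qPowHom_apply, div_pow, show a ^ q = -a by linear_combination ha,
      show b ^ q = -b by linear_combination hb, neg_div_neg_eq])
  rw [qPowHom_apply, eq_div_iff ha0] at hl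
  have hl0 : l ≠ 0 := fun h => hb0 (by simpa [h] using hl.symm)
  obtain ⟨g, hgu⟩ := exists_isometry_map hF hn hu0 huu (w := l • w) (smul_ne_zero hl0 hw0)
    (by rw [herm_smul_left hF, herm_smul_right hF, hww, mul_zero, mul_zero])
  refine isConj_iff.mpr ⟨g, mul_inv_eq_iff_eq_mul.mpr (su_ext fun x => ?_)⟩
  have hgp : Cfsg.hermForm n K q
      (((g : Matrix.SpecialLinearGroup (Fin n) K) : Matrix (Fin n) (Fin n) K) *ᵥ x) (l • w)
      = Cfsg.hermForm n K q x u := by rw [← hgu]; exact g.2 x u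
  rw [herm_smul_right hF] at hgp
  simp only [Subgroup.coe_mul, Matrix.SpecialLinearGroup.coe_mul, ← mulVec_mulVec]
  erw [hsu, htw]
  rw [mulVec_add, mulVec_smul, hgu, smul_smul, ← hgp]
  congr 2
  linear_combination Cfsg.hermForm n K q
    (((g : Matrix.SpecialLinearGroup (Fin n) K) : Matrix (Fin n) (Fin n) K) *ᵥ x) w * hl

end Cfsg.Agent.S2644
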