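import Cfsg.Statements.S2645
import Mathlib
import Cfsg.Agent.Lib.Forms.Bridge
import Cfsg.Agent.Lib.LinClasses.SympBasis
import Cfsg.Agent.Lib.FormConj.Realise

set_option autoImplicit false
open Cfsg

namespace Cfsg.Agent.S2645

open Matrix Cfsg.Agent.Lib

variable {F : Type*} [Field F]

/-- An alternating invertible matrix is congruent to the standard one. -/
theorem exists_congr {m : ℕ} (K : GL (Fin m ⊕ Fin m) F) (Q : Matrix (Fin m ⊕ Fin m) (Fin m ⊕ Fin m) F)
    (hK : (K : Matrix (Fin m ⊕ Fin m) (Fin m ⊕ Fin m) F) = Q - Qᵀ) :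
    ∃ P : GL (Fin m ⊕ Fin m) F,
      (P : Matrix (Fin m ⊕ Fin m) (Fin m ⊕ Fin m) F)ᵀ * (K : Matrix (Fin m ⊕ Fin m) (Fin m ⊕ Fin m) F) * (P : Matrix (Fin m ⊕ Fin m) (Fin m ⊕ Fin m) F) = Matrix.J (Fin m) F := by
  set f : (Fin m ⊕ Fin m → F) → (Fin m ⊕ Fin m → F) → F := fun a b => Matrix.toBilin' (K : Matrix (Fin m ⊕ Fin m) (Fin m ⊕ Fin m) F) a b
  have hskew : ∀ a b, f a b = -f b a := fun a b => by
    simp only [f, hK, map_sub, LinearMap.sub_apply, Matrix.toBilin'_apply', Matrix.mulVec_transpose]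
    rw [dotProduct_comm a (b ᵥ* Q), dotProduct_comm b (a ᵥ* Q), ← dotProduct_mulVec, ← dotProduct_mulVec, neg_sub]
  have hnd : ∀ a, a ≠ 0 → ∃ b, f a b ≠ 0 := fun a ha => by
    by_contra hne
    push Not at hne
    apply ha
    have h0 : a ᵥ* (K : Matrix (Fin m ⊕ Fin m) (Fin m ⊕ Fin m) F) = 0 := funext fun i => by
      have := hne (Pi.single i 1)
      simpa [f, Matrix.toBilin'_apply', dotProduct_mulVec] using this
    have := congrArg (fun w => w ᵥ* ((K⁻¹ : GL (Fin m ⊕ Fin m) F) : Matrix (Fin m ⊕ Fin m) (Fin m ⊕ Fin m) F)) h0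
    simpa [Matrix.vecMul_vecMul] using this
  have hsymp : Cfsg.Geo.IsSymplecticForm f := by
    refine ⟨⟨fun x y v => ?_, fun c x v => ?_, fun v x y => ?_, fun c v x => ?_⟩, hskew, fun v => ?_, fun v hv => ?_⟩
    · simp [f]
    · simp [f]
    · simp [f]
    · simp [f]
    · simp only [f, hK, map_sub, LinearMap.sub_apply, Matrix.toBilin'_apply', Matrix.mulVec_transpose]
      rw [dotProduct_comm v (v ᵥ* Q), ← dotProduct_mulVec, sub_self]
    · obtain ⟨b, hb⟩ := hnd v hv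
      exact ⟨⟨b, by rw [hskew]; exact neg_ne_zero.2 hb⟩, ⟨b, hb⟩⟩
  obtain ⟨b, hb, Φ, hΦ⟩ := LinClasses.exists_symp_basis hsymp
  obtain rfl : b = m := by
    rw [Fintype.card_sum, Fintype.card_fin] at hb
    omega
  let s : Fin 2 × Fin b ≃ Fin b ⊕ Fin b :=
    { toFun := fun x => if x.1 = 0 then Sum.inr x.2 else Sum.inl x.2
      invFun := Sum.elim (fun i => (1, i)) (fun i => (0, i))
      left_inv := by rintro ⟨a, i⟩; fin_cases a <;> simp
      right_inv := by rintro (i | i) <;> simp }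
  set Ψ : (Fin b ⊕ Fin b → F) ≃ₗ[F] (Fin b ⊕ Fin b → F) := (LinearEquiv.funCongrLeft F F s).trans Φ
  have hΨ : ∀ u v, f (Ψ u) (Ψ v) = Cfsg.sympForm b F u v := fun u v => by
    rw [Forms.sympForm_apply]
    simp only [Ψ, LinearEquiv.trans_apply]
    rw [hΦ]
    simp [LinearEquiv.funCongrLeft_apply, LinearMap.funLeft, s]
  obtain ⟨P, hP⟩ : ∃ P : GL (Fin b ⊕ Fin b) F, ∀ u, (P : Matrix (Fin b ⊕ Fin b) (Fin b ⊕ Fin b) F) *ᵥ u = Ψ u :=
    ⟨(Forms.glEquiv _ F).symm Ψ, fun u => Forms.glEquiv_symm_mulVec Ψ u⟩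
  refine ⟨P, Matrix.toBilin'.injective (LinearMap.ext₂ fun u v => ?_)⟩
  show _ = Forms.sympBilin b F u v
  rw [Forms.sympBilin_apply, ← hΨ, ← hP, ← hP]
  simp only [f, Matrix.toBilin'_apply', ← mulVec_mulVec]
  rw [mulVec_transpose, dotProduct_comm, ← dotProduct_mulVec, dotProduct_comm]

/-- Transport of an isometry along a congruence of forms. -/
theorem transport {ι : Type*} [Fintype ι] [DecidableEq ι] {A J : Matrix ι ι F} {K P : GL ι F}
    (hAK : Aᵀ * (K : Matrix ι ι F) * A = (K : Matrix ι ι F))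
    (hP : (P : Matrix ι ι F)ᵀ * (K : Matrix ι ι F) * (P : Matrix ι ι F) = J) (r : ℕ) (hr : A ^ r = 1) :
    ∃ B : Matrix ι ι F, Bᵀ * J * B = J ∧ IsConj A B ∧ B ^ r = 1 := by
  refine ⟨((P⁻¹ : GL ι F) : Matrix ι ι F) * A * (P : Matrix ι ι F), ?_, ⟨P⁻¹, ?_⟩, ?_⟩
  · calc _ = (P : Matrix ι ι F)ᵀ * (Aᵀ * ((((P⁻¹ : GL ι F) : Matrix ι ι F)ᵀ * (P : Matrix ι ι F)ᵀ)
          * (K : Matrix ι ι F) * ((P : Matrix ι ι F) * ((P⁻¹ : GL ι F) : Matrix ι ι F))) * A) * (P : Matrix ι ι F) := by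
          rw [← hP]; simp only [transpose_mul, mul_assoc]
      _ = J := by rw [← transpose_mul, Units.mul_inv, transpose_one, one_mul, mul_one, hAK, hP]
  · show _ = _
    simp [mul_assoc]
  · rw [Units.conj_pow', hr, mul_one, Units.inv_mul]

/-- Standard alternating forms `Q - Qᵀ`. -/
theorem exists_std (d : ℕ) : ∃ (Q : Matrix (Fin (d + d)) (Fin (d + d)) F) (K : GL (Fin (d + d)) F),
    (K : Matrix (Fin (d + d)) (Fin (d + d)) F) = Q + ((-1 : ℤ) : Matrix (Fin (d + d)) (Fin (d + d)) F) * Qᵀ := by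
  let R := Matrix.reindexAlgEquiv F F (finSumFinEquiv : Fin d ⊕ Fin d ≃ Fin (d + d))
  obtain ⟨K, hK⟩ := ((Matrix.isUnit_iff_isUnit_det _).2 (Matrix.isUnit_det_J (Fin d) F)).map R
  refine ⟨R (fromBlocks 0 0 1 0), K, ?_⟩
  rw [hK, Int.cast_neg, Int.cast_one, neg_one_mul,
    show (R (fromBlocks (0 : Matrix (Fin d) (Fin d) F) 0 1 0))ᵀ
      = R (fromBlocks (0 : Matrix (Fin d) (Fin d) F) 0 1 0)ᵀ by simp [R],
    ← map_neg, ← map_add]
  refine congrArg R ?_
  simp [fromBlocks_transpose, fromBlocks_neg, fromBlocks_add, Matrix.J]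


/-- Number of conjugacy classes of elements of odd prime order r, r different from the characteristic, in the symplectic group Sp_2m(q): let i be the multiplicative order of q modulo r and t = (r − 1)/i. If i is odd the eigenvalue orbits pair off (Λ ≠ Λ⁻¹) and the classes correspond to the non-zero (t/2)-tuples (a_j) with 2i Σ a_j ≤ 2m, giving C(⌊m/i⌋ + t/2, t/2) − 1 classes; if i is even (Λ = Λ⁻¹) they correspond to the non-zero t-tuples with i Σ a_j ≤ 2m, giving C(⌊2m/i⌋ + t, t) − 1 classes. -/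
theorem result {F : Type*} [Field F] [Fintype F] {p q : ℕ} [Fact p.Prime] [CharP F p] (hF : Fintype.card F = q) (m r i t : ℕ) (hr : r.Prime) (hr2 : r ≠ 2) (hrp : r ≠ p) (hi : i = orderOf (q : ZMod r)) (ht : t * i = r - 1) : Nat.card {C : ConjClasses ↥(Matrix.symplecticGroup (Fin m) F) // ∃ g : Matrix.symplecticGroup (Fin m) F, ConjClasses.mk g = C ∧ orderOf g = r} = if Odd i then Nat.choose (m / i + t / 2) (t / 2) - 1 else Nat.choose (2 * m / i + t) t - 1 := by
  open Cfsg.Agent.Lib in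
  classical
  haveI : Fact r.Prime := ⟨hr⟩
  have hrF : (r : F) ≠ 0 := fun h => hrp
    ((Nat.prime_dvd_prime_iff_eq Fact.out hr).1 ((CharP.cast_eq_zero_iff F p r).1 h)).symm
  obtain ⟨ζ, hζ⟩ := FormConj.exists_root F hrF
  obtain ⟨f, -, hf⟩ := FiniteField.card F p
  obtain ⟨u, hu⟩ := FormConj.exists_unit_natCast (r := r) (p := p) Fact.out hrp f
  rw [← hf] at hu
  have hui : i = orderOf u := by rw [hi, ← orderOf_units, hu, hF]
  set H := Subgroup.closure ({u, -1} : Set (ZMod r)ˣ) with hHdef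
  have hcardH := FormConj.card_closure_neg_one hr2 u
  rw [← hHdef, ← hui] at hcardH
  have h2H : 2 ∣ Nat.card H := by
    rw [← FormConj.two_le_orderOf_neg_one (r := r) hr2, ← Nat.card_zpowers]
    exact Subgroup.card_dvd_of_le (Subgroup.zpowers_le.2 (Subgroup.subset_closure (by simp)))
  set J : Matrix (Fin m ⊕ Fin m) (Fin m ⊕ Fin m) F := Matrix.J (Fin m) F with hJ
  obtain ⟨k, hk⟩ : IsUnit J := (Matrix.isUnit_iff_isUnit_det _).2 (Matrix.isUnit_det_J (Fin m) F)
  have hgood : Forms.IsGoodForm (σ := RingHom.id F) (Matrix.toBilin' (k : Matrix (Fin m ⊕ Fin m) (Fin m ⊕ Fin m) F)) (-1 : F) := by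
    rw [hk]; exact Forms.sympBilin_goodForm
  have hmem : ∀ A : Matrix (Fin m ⊕ Fin m) (Fin m ⊕ Fin m) F,
      A ∈ Matrix.symplecticGroup (Fin m) F ↔ FormConj.adj k A * A = 1 := fun A => by
    rw [FormConj.adj_mul_self_iff, hk, SymplecticGroup.mem_iff']
  let e : Fin m ⊕ Fin m ≃ Fin (2 * m) := finSumFinEquiv.trans (finCongr (two_mul m).symm)
  let R := Matrix.reindexAlgEquiv F F e
  let φ : ↥(Matrix.symplecticGroup (Fin m) F) →* Matrix (Fin (2 * m)) (Fin (2 * m)) F :=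
    R.toMonoidHom.comp (Matrix.symplecticGroup (Fin m) F).subtype
  have hmult : ∀ (A : Matrix (Fin m ⊕ Fin m) (Fin m ⊕ Fin m) F) (μ : ZMod r → ℕ),
      FormConj.HasMult (algebraMap F (AlgebraicClosure F)) ζ (R A) μ
        ↔ FormConj.HasMult (algebraMap F (AlgebraicClosure F)) ζ A μ := fun A μ => by
    unfold FormConj.HasMult
    rw [show (R A).charpoly = A.charpoly from Matrix.charpoly_reindex e A]
  have key := FormConj.natCard_classes H (algebraMap F (AlgebraicClosure F)) hζ φ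
    (R.injective.comp Subtype.val_injective) hrF ?_ ?_ ?_
  · rw [key, FormConj.index_eq_div, hcardH]
    have hi0 : 0 < i := hui ▸ orderOf_pos u
    split_ifs with hodd
    · rw [Nat.mul_div_mul_left _ _ two_pos, ← ht, Nat.mul_div_mul_right _ _ hi0]
    · rw [← ht, Nat.mul_div_cancel _ hi0]
  · -- conjugacy
    intro g g' hg _ hconj
    obtain ⟨c, hc⟩ : IsConj (g : Matrix (Fin m ⊕ Fin m) (Fin m ⊕ Fin m) F) (g' : Matrix (Fin m ⊕ Fin m) (Fin m ⊕ Fin m) F) := by
      have := R.symm.toMonoidHom.map_isConj hconj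
      simpa [φ] using this
    obtain ⟨M, hM, hMg⟩ := FormConj.exists_isometry_intertwine k hgood (hr.odd_of_ne_two hr2) hrF
      ((hmem _).1 g.2) ((hmem _).1 g'.2) (by rw [← SubmonoidClass.coe_pow, hg]; rfl) c.isUnit hc.eq
    refine isConj_iff.2 ⟨⟨M, (hmem M).2 hM⟩, ?_⟩
    rw [mul_inv_eq_iff_eq_mul]
    exact Subtype.ext hMg
  · -- invariance
    intro g hg μ hμ
    rw [show φ g = R (g : Matrix (Fin m ⊕ Fin m) (Fin m ⊕ Fin m) F) from rfl, hmult] at hμ
    refine FormConj.isInv_closure fun x hx a => ?_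
    rcases hx with rfl | rfl
    · exact FormConj.mult_card_mul _ hζ hμ x hu a
    · rw [Units.val_neg, Units.val_one, neg_one_mul]
      exact FormConj.mult_neg _ hζ hrF k (by rw [← SubmonoidClass.coe_pow, hg]; rfl) ((hmem _).1 g.2) hμ a
  · -- realisation
    intro μ hμ hsum
    have hstd : ∀ d : ℕ, (∃ c, d + Nat.card H * c = Fintype.card (Fin m ⊕ Fin m)) →
        ∃ (Q : Matrix (Fin d) (Fin d) F) (K : GL (Fin d) F),
          (K : Matrix (Fin d) (Fin d) F) = Q + ((-1 : ℤ) : Matrix (Fin d) (Fin d) F) * Q.transpose := by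
      intro d hd
      obtain ⟨c, hc⟩ := hd
      obtain ⟨d', rfl⟩ : ∃ d', d = d' + d' := by
        obtain ⟨h', hh'⟩ := h2H
        rw [Fintype.card_sum, Fintype.card_fin, hh', mul_assoc] at hc
        exact ⟨m - h' * c, by omega⟩
      exact exists_std d'
    obtain ⟨A, Q, K, hK, hAK, hAr, hA⟩ := FormConj.exists_form_of_mult (ι := Fin m ⊕ Fin m)
      (algebraMap F (AlgebraicClosure F)) hζ H hrF hr2 (-1) (by norm_num)
      (Subgroup.subset_closure (by simp)) ⟨u, Subgroup.subset_closure (by simp), hu⟩ hstd hμ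
      (by rw [hsum, Fintype.card_sum, Fintype.card_fin]; ring)
    obtain ⟨P, hP⟩ := exists_congr K Q (by rw [hK, Int.cast_neg, Int.cast_one, neg_one_mul, ← sub_eq_add_neg])
    obtain ⟨B, hB, hAB, hBr⟩ := transport hAK hP r hAr
    exact ⟨⟨B, SymplecticGroup.mem_iff'.2 hB⟩, Subtype.ext hBr, (hmult _ _).2 (FormConj.hasMult_congr _ hAB hA)⟩

end Cfsg.Agent.S2645
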