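import Cfsg.Statements.S2646
import Cfsg.Agent.Lib.FormConj.UnipotentCentraliser
-- import your own Cfsg.Agent.* helpers here

set_option autoImplicit false
open Cfsg

namespace Cfsg.Agent.S2646

/-- Order of the centraliser in the general unitary group GU_n(q) of a unipotent element of given Jordan type: if u ∈ GU_n(q) (isometries of Σ u_i v_i^q over the field with q² elements) is similar to the unipotent matrix with a_i Jordan blocks of size i (all sizes at least 1), then its centraliser in GU_n(q) has order q^γ · Π_i |GU_(a_i)(q)| with γ = 2 Σ_(i<j) i a_i a_j + Σ_i (i − 1) a_i², the same exponent as in GL_n(q), where |GU_a(q)| = q^(a(a−1)/2) Π_(k=1)^a (q^k − (−1)^k). -/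
theorem result {K : Type*} [Field K] [Fintype K] {q n t : ℕ} (hK : Fintype.card K = q ^ 2) (d : Fin t → ℕ) (hd : ∀ k, 1 ≤ d k) (e : ((k : Fin t) × Fin (d k)) ≃ Fin n) (u : ↥(Cfsg.GU n K q)) (hu : IsConj (Matrix.reindex e e (Cfsg.jordanTypeMatrix d K)) ((u : GL (Fin n) K) : Matrix (Fin n) (Fin n) K)) : (Nat.card ↥(Subgroup.centralizer ({u} : Set ↥(Cfsg.GU n K q))) : ℤ) = (q : ℤ) ^ (2 * (∑ i ∈ Finset.range (Finset.univ.sup d + 1), ∑ j ∈ Finset.range (Finset.univ.sup d + 1), if i < j then i * (Finset.univ.filter (fun k : Fin t => d k = i)).card * (Finset.univ.filter (fun k : Fin t => d k = j)).card else 0) + ∑ i ∈ Finset.range (Finset.univ.sup d + 1), (i - 1) * (Finset.univ.filter (fun k : Fin t => d k = i)).card ^ 2) * ∏ i ∈ Finset.range (Finset.univ.sup d + 1), ((q : ℤ) ^ ((Finset.univ.filter (fun k : Fin t => d k = i)).card * ((Finset.univ.filter (fun k : Fin t => d k = i)).card - 1) / 2) * ∏ j : Fin (Finset.univ.filter (fun k : Fin t => d k = i)).card, ((q : ℤ) ^ ((j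 : ℕ) + 1) - (-1) ^ ((j : ℕ) + 1))) := by
  classical
  obtain ⟨G, P, s, hG, hPG, hs, hcard⟩ := Lib.FormConj.natCard_unipotent_centralizer (d := d) hK hd
  have hq : 2 ≤ q := by
    have h1 : 1 < q ^ 2 := hK ▸ Fintype.one_lt_card
    rcases q with _ | _ | q <;> simp_all
  let R := Matrix.reindexAlgEquiv K K e
  have hR : ∀ M, Lib.FormConj.star₁ hK (R M) = R (Lib.FormConj.star₁ hK M) := fun M => rfl
  have htw : ∀ g : GL (Fin n) K, g ∈ Cfsg.GU n K q ↔
      Lib.FormConj.star₁ hK (g : Matrix (Fin n) (Fin n) K) * g = 1 := fun g => by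
    rw [Lib.FormConj.mem_GU_iff_twist hK]
    simp [Lib.FormConj.twist, Lib.FormConj.star₁]
  obtain ⟨g0, hg0⟩ : ∃ g0 : Cfsg.GU n K q, ((g0 : GL (Fin n) K) : Matrix (Fin n) (Fin n) K) = R G :=
    ⟨⟨⟨R G, R (Lib.FormConj.star₁ hK G), by rw [← map_mul, mul_eq_one_comm.mp hG, map_one],
      by rw [← map_mul, hG, map_one]⟩, (htw _).2 (by
        show Lib.FormConj.star₁ hK (R G) * R G = 1
        rw [hR, ← map_mul, hG, map_one])⟩, rfl⟩
  have hconj : IsConj u g0 := by
    refine (Lib.FormConj.isConj_GU_iff hK u g0).2 ?_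
    have h1 : IsConj (R (Cfsg.jordanTypeMatrix d K)) (R G) := by
      refine ⟨(Units.map (R : Matrix _ _ K →* Matrix (Fin n) (Fin n) K) P)⁻¹, Units.inv_mul_eq_iff_eq_mul _ |>.2 ?_ |>.trans rfl⟩
      rw [← mul_assoc, Units.eq_mul_inv_iff_mul_eq]
      show R (Cfsg.jordanTypeMatrix d K) * R P = R P * R G
      rw [← map_mul, ← map_mul, hPG]
    obtain ⟨c, hc⟩ := hu.symm.trans h1
    rw [← hg0] at hc
    exact isConj_iff.2 ⟨c, mul_inv_eq_iff_eq_mul.2 (Units.ext hc.eq)⟩
  obtain ⟨c, hc⟩ := isConj_iff.1 hconj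
  have hcu : Nat.card ↥(Subgroup.centralizer ({u} : Set ↥(Cfsg.GU n K q)))
      = Nat.card ↥(Subgroup.centralizer ({g0} : Set ↥(Cfsg.GU n K q))) := by
    refine Nat.card_congr ((MulAut.conj c).toEquiv.subtypeEquiv fun x => ?_)
    rw [Subgroup.mem_centralizer_singleton_iff, Subgroup.mem_centralizer_singleton_iff, ← hc]
    exact ((MulAut.conj c).injective.eq_iff.symm.trans (by rw [map_mul, map_mul]; rfl))
  have hcg : Nat.card ↥(Subgroup.centralizer ({g0} : Set ↥(Cfsg.GU n K q)))
      = Nat.card {M : Matrix ((k : Fin t) × Fin (d k)) ((k : Fin t) × Fin (d k)) K //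
          M * G = G * M ∧ Lib.FormConj.star₁ hK M * M = 1} := by
    refine Nat.card_congr
      { toFun := fun x => ⟨R.symm ((x.1 : GL (Fin n) K) : Matrix (Fin n) (Fin n) K), ?_, ?_⟩
        invFun := fun M => ⟨⟨⟨R M.1, R (Lib.FormConj.star₁ hK M.1), ?_, ?_⟩, ?_⟩, ?_⟩
        left_inv := fun x => Subtype.ext (Subtype.ext (Units.ext (R.apply_symm_apply _)))
        right_inv := fun M => Subtype.ext (R.symm_apply_apply _) }
    · apply R.injective
      rw [map_mul, map_mul, R.apply_symm_apply, ← hg0]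
      exact congrArg (fun z : Cfsg.GU n K q => ((z : GL (Fin n) K) : Matrix (Fin n) (Fin n) K))
        (Subgroup.mem_centralizer_singleton_iff.1 x.2)
    · apply R.injective
      rw [map_mul, ← hR, R.apply_symm_apply, map_one]
      exact (htw _).1 x.1.2
    · rw [← map_mul, mul_eq_one_comm.mp M.2.2, map_one]
    · rw [← map_mul, M.2.2, map_one]
    · refine (htw _).2 ?_
      show Lib.FormConj.star₁ hK (R M.1) * R M.1 = 1
      rw [hR, ← map_mul, M.2.2, map_one]
    · refine Subgroup.mem_centralizer_singleton_iff.2 (Subtype.ext (Units.ext ?_))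
      show R M.1 * _ = _ * R M.1
      rw [hg0, ← map_mul, ← map_mul, M.2.1]
  rw [hcu, hcg, hcard]
  set rg := Finset.range (Finset.univ.sup d + 1) with hrg
  set a : ℕ → ℕ := fun i => (Finset.univ.filter (fun k : Fin t => d k = i)).card with ha
  have hfibre : ∀ f : ℕ → ℕ, ∑ k, f (d k) = ∑ i ∈ rg, a i * f i := fun f => by
    rw [← Finset.sum_fiberwise_of_maps_to (g := d) (t := rg)
      (fun k _ => Finset.mem_range.2 (Nat.lt_succ_of_le (Finset.le_sup (Finset.mem_univ k))))]
    refine Finset.sum_congr rfl fun i _ => ?_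
    rw [Finset.sum_congr rfl (fun k hk => congrArg f (Finset.mem_filter.1 hk).2), Finset.sum_const, smul_eq_mul]
  have ha0 : a 0 = 0 := Finset.card_eq_zero.2 (Finset.filter_eq_empty_iff.2 fun k _ h => by have := hd k; omega)
  set γ := 2 * (∑ i ∈ rg, ∑ j ∈ rg, if i < j then i * a i * a j else 0) + ∑ i ∈ rg, (i - 1) * a i ^ 2 with hγ
  have hmin : ∑ k, ∑ l, min (d k) (d l) = γ + ∑ i ∈ rg, a i ^ 2 := by
    rw [hfibre (fun i => ∑ l, min i (d l))]
    rw [Finset.sum_congr rfl fun i _ => congrArg (a i * ·) (hfibre (fun j => min i j))]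
    simp only [Finset.mul_sum]
    have h3 : ∀ i ∈ rg, ∀ j ∈ rg, a i * (a j * min i j) = (if i < j then i * a i * a j else 0)
        + (if j < i then j * a j * a i else 0) + (if i = j then i * a i ^ 2 else 0) := by
      intro i _ j _
      rcases lt_trichotomy i j with h | rfl | h
      · rw [if_pos h, if_neg h.not_gt, if_neg h.ne, min_eq_left h.le]; ring
      · rw [if_neg (lt_irrefl _), if_pos rfl, min_self]; ring
      · rw [if_neg h.not_gt, if_pos h, if_neg h.ne', min_eq_right h.le]; ring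
    rw [Finset.sum_congr rfl fun i hi => Finset.sum_congr rfl (h3 i hi)]
    simp only [Finset.sum_add_distrib]
    rw [Finset.sum_comm (s := rg) (t := rg) (f := fun i j => (if j < i then j * a j * a i else 0 : ℕ))]
    rw [hγ, add_assoc _ (∑ i ∈ rg, (i - 1) * a i ^ 2) (∑ i ∈ rg, a i ^ 2), two_mul]
    rw [Nat.add_left_cancel_iff, ← Finset.sum_add_distrib]
    refine Finset.sum_congr rfl fun i hi => ?_
    rw [Finset.sum_ite_eq rg i, if_pos hi]
    rcases i with _ | i
    · simp [ha0]
    · rw [Nat.add_sub_cancel]; ring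
  rw [hmin, pow_add] at hs
  have hs' : s = q ^ γ := by
    have h := Nat.eq_of_mul_eq_mul_right (pow_pos (pow_pos (by omega) 2) _) hs
    rw [← pow_mul, mul_comm, pow_mul] at h
    exact Nat.pow_left_injective two_ne_zero h
  rw [hs', Nat.cast_mul, Nat.cast_prod, mul_comm, Nat.cast_pow]
  refine congrArg _ (Finset.prod_congr rfl fun i _ => ?_)
  rw [Lib.Classical.natCard_GU hK, Nat.cast_mul, Nat.cast_pow, Nat.cast_prod, ← Fin.prod_univ_eq_prod_range]
  refine congrArg _ (Finset.prod_congr rfl fun j _ => ?_)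
  split_ifs with hj
  · rw [Odd.neg_one_pow hj.add_one]; push_cast; ring
  · rw [Even.neg_one_pow (Nat.not_even_iff_odd.1 hj).add_one, Nat.cast_sub (Nat.one_le_pow _ _ (by omega))]
    push_cast; ring

end Cfsg.Agent.S2646
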