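import Cfsg.Statements.S2649
import Cfsg.Agent.Lib.H2Cert.M23Code
-- import your own Cfsg.Agent.* helpers here

set_option autoImplicit false
open Cfsg

namespace Cfsg.Agent.S2649

open Cfsg.Agent.Lib.H2Cert Cfsg.Agent.Lib.H2Cert.M23


/-- Extensions of the Mathieu group M₂₃ by its code module split. Let E be a finite group with a normal subgroup N, an isomorphism φ from E/N onto M₂₃ = `Spor.M23` (the stabiliser of the extra point `none` in M₂₄ acting on the 24 points `GolayPt`), and an injective additive homomorphism ψ from N onto the set of words of the binary Golay code `golayCode` that vanish at `none` (an 11-dimensional space over the field with two elements), such that conjugation by g ∈ E on N corresponds under ψ to the coordinate permutation w ↦ w ∘ σ⁻¹, σ the permutation φ(gN). Then N has a complement in E: some subgroup H meets N trivially and generates E together with N. (Equivalently, the second cohomology group of M₂₃ with coefficients in this module vanishes.) -/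
theorem result
    {E : Type*} [Group E] [Finite E] (N : Subgroup E) [hN : N.Normal]
    (φ : E ⧸ N ≃* ↥Cfsg.Spor.M23)
    (ψ : Additive ↥N →+ (Cfsg.GolayPt → ZMod 2)) (hinj : Function.Injective ψ)
    (hrange : ∀ w : Cfsg.GolayPt → ZMod 2, w ∈ Set.range ψ ↔ (w ∈ Cfsg.golayCode ∧ w none = 0))
    (hψ : ∀ (g : E) (n : ↥N),
      ψ (Additive.ofMul ⟨g * n * g⁻¹, hN.conj_mem n n.2 g⟩)
        = ψ (Additive.ofMul n) ∘ ⇑(((φ (QuotientGroup.mk g) : ↥Cfsg.Spor.M23) : Equiv.Perm Cfsg.GolayPt)⁻¹)) :
    ∃ H : Subgroup E, H ⊓ N = ⊥ ∧ H ⊔ N = ⊤ := by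
  choose n hn using fun c => (hrange (toWord c)).2 (toWord_mem c)
  have hrange' : ∀ a : Additive N, ∃ c, n c = a := fun a => by
    obtain ⟨h1, h2⟩ := (hrange (ψ a)).1 ⟨a, rfl⟩
    exact ⟨fun k => ψ a (pivot k), hinj ((hn _).trans (eq_toWord h1 h2).symm)⟩
  let π : E →* ↥Cfsg.Spor.M23 := φ.toMonoidHom.comp (QuotientGroup.mk' N)
  let emb : (Fin 11 → ZMod 2) → E := fun c => ((n c).toMul : N)
  have hker : π.ker = N := by
    ext e
    simp [π, MonoidHom.mem_ker]
  have X : Ext 11 π emb := by
    refine ⟨φ.surjective.comp (QuotientGroup.mk'_surjective N), ?_, ?_, ?_⟩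
    · intro a b h
      have h' : n a = n b := Additive.toMul.injective (Subtype.ext h)
      funext k
      rw [← toWord_pivot a k, ← toWord_pivot b k, ← hn a, ← hn b, h']
    · intro a b
      have h : n (a + b) = n a + n b := hinj (by rw [map_add, hn, hn, hn, map_add])
      show ((n (a + b)).toMul : E) = _
      rw [h]
      rfl
    · intro e
      rw [← MonoidHom.mem_ker, hker]
      refine ⟨fun he => ?_, ?_⟩
      · obtain ⟨c, hc⟩ := hrange' (Additive.ofMul ⟨e, he⟩)
        exact ⟨c, by show ((n c).toMul : E) = e; rw [hc]; rfl⟩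
      · rintro ⟨c, rfl⟩
        exact (n c).toMul.2
  obtain ⟨H, hH⟩ := M23Code.split X (fun p M hM e he c => by
    have h := hψ e (n c).toMul
    have he' : φ (QuotientGroup.mk e) = elt p := he
    rw [he', ofMul_toMul, hn, M23Code.matCheck_spec hM, ← hn] at h
    exact congrArg (fun a : Additive N => ((a.toMul : N) : E)) (hinj h))
  rw [hker] at hH
  exact ⟨H, inf_comm H N ▸ (Subgroup.IsComplement'.disjoint hH).eq_bot,
    sup_comm H N ▸ Subgroup.IsComplement'.sup_eq_top hH⟩

end Cfsg.Agent.S2649
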