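import Cfsg.Statements.S2651
import Cfsg.Agent.Lib.H2Cert.M23Cocode
-- import your own Cfsg.Agent.* helpers here

set_option autoImplicit false
open Cfsg

namespace Cfsg.Agent.S2651

open Cfsg.Agent.Lib.H2Cert Cfsg.Agent.Lib.H2Cert.M23

theorem ext_of_cocode {E : Type*} [Group E] (N : Subgroup E) [N.Normal]
    (φ : E ⧸ N ≃* ↥Cfsg.Spor.M23) (θ : (Cfsg.GolayPt → ZMod 2) →+ Additive ↥N)
    (hsurj : Function.Surjective θ)
    (hker : ∀ w : Cfsg.GolayPt → ZMod 2, θ w = 0 ↔ (w ∈ Cfsg.golayCode ∨ w + Pi.single none 1 ∈ Cfsg.golayCode))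
    (hθ : ∀ (g : E) (w : Cfsg.GolayPt → ZMod 2),
      ((θ (w ∘ ⇑(((φ (QuotientGroup.mk g) : ↥Cfsg.Spor.M23) : Equiv.Perm Cfsg.GolayPt)⁻¹))).toMul : E)
        = g * ((θ w).toMul : E) * g⁻¹)
    (π : E →* ↥Cfsg.Spor.M23) (hπ : π = φ.toMonoidHom.comp (QuotientGroup.mk' N))
    (emb : (Fin 11 → ZMod 2) → E) (hemb : ∀ c, emb c = (θ (toPivots c)).toMul) :
    Ext 11 π emb ∧ π.ker = N ∧
      ∀ e c, e * emb c * e⁻¹ =
        emb (toFun (toPivots c ∘ ⇑((π e : Equiv.Perm Cfsg.GolayPt)⁻¹))) := by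
  subst hπ
  have hk : (φ.toMonoidHom.comp (QuotientGroup.mk' N)).ker = N := by
    ext e
    simp
  refine ⟨⟨φ.surjective.comp (QuotientGroup.mk'_surjective N), ?_, ?_, ?_⟩, hk, ?_⟩
  · intro a b h
    rw [hemb, hemb] at h
    have h' : θ (toPivots a) = θ (toPivots b) := Additive.toMul.injective (Subtype.ext h)
    rw [← sub_eq_zero, ← map_sub, ← map_sub] at h'
    have h0 := M23Cocode.toFun_eq_zero ((hker _).1 h')
    rwa [toFun_toPivots, sub_eq_zero] at h0
  · intro a b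
    rw [hemb, hemb, hemb, map_add, map_add]
    rfl
  · intro e
    rw [← MonoidHom.mem_ker, hk]
    refine ⟨fun he => ?_, ?_⟩
    · obtain ⟨w, hw⟩ := hsurj (Additive.ofMul ⟨e, he⟩)
      refine ⟨toFun w, ?_⟩
      rw [hemb, ← M23Cocode.eq_pivots θ hker w, hw]
      rfl
    · rintro ⟨c, rfl⟩
      rw [hemb]
      exact (θ (toPivots c)).toMul.2
  · intro e c
    rw [hemb, hemb, ← hθ, ← M23Cocode.eq_pivots θ hker]
    rfl


/-- The non-split extension of the Mathieu group M₂₃ by its cocode module is unique. Suppose E and E' are finite groups, each with a normal subgroup (N, N'), an isomorphism of the quotient onto M₂₃ = `Spor.M23`, and a surjective additive homomorphism from the binary words on the 24 points `GolayPt` onto the normal subgroup with kernel the Golay code `golayCode` together with its translate by the unit vector at the extra point `none`, intertwining the coordinate permutation w ↦ w ∘ σ⁻¹ (σ the image of gN) with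 conjugation by g; and suppose that in each group the normal subgroup has no complement. Then E and E' are isomorphic. -/
theorem result
    {E : Type*} [Group E] [Finite E] (N : Subgroup E) [hN : N.Normal]
    (φ : E ⧸ N ≃* ↥Cfsg.Spor.M23) (θ : (Cfsg.GolayPt → ZMod 2) →+ Additive ↥N)
    (hsurj : Function.Surjective θ)
    (hker : ∀ w : Cfsg.GolayPt → ZMod 2, θ w = 0 ↔ (w ∈ Cfsg.golayCode ∨ w + Pi.single none 1 ∈ Cfsg.golayCode))
    (hθ : ∀ (g : E) (w : Cfsg.GolayPt → ZMod 2),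
      ((θ (w ∘ ⇑(((φ (QuotientGroup.mk g) : ↥Cfsg.Spor.M23) : Equiv.Perm Cfsg.GolayPt)⁻¹))).toMul : E)
        = g * ((θ w).toMul : E) * g⁻¹)
    (hns : ∀ H : Subgroup E, H ⊓ N = ⊥ → H ⊔ N ≠ ⊤)
    {E' : Type*} [Group E'] [Finite E'] (N' : Subgroup E') [hN' : N'.Normal]
    (φ' : E' ⧸ N' ≃* ↥Cfsg.Spor.M23) (θ' : (Cfsg.GolayPt → ZMod 2) →+ Additive ↥N')
    (hsurj' : Function.Surjective θ')
    (hker' : ∀ w : Cfsg.GolayPt → ZMod 2, θ' w = 0 ↔ (w ∈ Cfsg.golayCode ∨ w + Pi.single none 1 ∈ Cfsg.golayCode))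
    (hθ' : ∀ (g : E') (w : Cfsg.GolayPt → ZMod 2),
      ((θ' (w ∘ ⇑(((φ' (QuotientGroup.mk g) : ↥Cfsg.Spor.M23) : Equiv.Perm Cfsg.GolayPt)⁻¹))).toMul : E')
        = g * ((θ' w).toMul : E') * g⁻¹)
    (hns' : ∀ H : Subgroup E', H ⊓ N' = ⊥ → H ⊔ N' ≠ ⊤) :
    Nonempty (E ≃* E') := by
  let emb : (Fin 11 → ZMod 2) → E := fun c => ((θ (toPivots c)).toMul : N)
  let emb' : (Fin 11 → ZMod 2) → E' := fun c => ((θ' (toPivots c)).toMul : N')
  obtain ⟨X, hk, hc⟩ := ext_of_cocode N φ θ hsurj hker hθ _ rfl emb fun _ => rfl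
  obtain ⟨X', hk', hc'⟩ := ext_of_cocode N' φ' θ' hsurj' hker' hθ' _ rfl emb' fun _ => rfl
  refine M23Cocode.unique X X' ?_ ?_ ?_ ?_ ?_
  · intro e e' he c
    exact ⟨_, hc e c, by rw [he]; exact hc' e' c⟩
  · intro p M hM e he c
    rw [hc e c, he, M23Cocode.matCheck_spec hM]
  · intro p M hM e he c
    rw [hc' e c, he, M23Cocode.matCheck_spec hM]
  · intro H hH
    rw [hk] at hH
    exact hns H (inf_comm H N ▸ (Subgroup.IsComplement'.disjoint hH).eq_bot)
      (sup_comm H N ▸ Subgroup.IsComplement'.sup_eq_top hH)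
  · intro H hH
    rw [hk'] at hH
    exact hns' H (inf_comm H N' ▸ (Subgroup.IsComplement'.disjoint hH).eq_bot)
      (sup_comm H N' ▸ Subgroup.IsComplement'.sup_eq_top hH)

end Cfsg.Agent.S2651
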