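import Cfsg.Statements.S2652
import Mathlib
import Cfsg.Agent.S1697
import Cfsg.Agent.Lib.Fi23Sylow.Algebra
import Cfsg.Agent.Lib.Fi23Sylow.Data

set_option autoImplicit false
open Cfsg

namespace Cfsg.Agent.S2652

open Cfsg.Agent.Lib.CosetTable
open Cfsg.Agent.Lib.Fi23Sylow

/-- the word of the product of the transpositions selected by `m` -/
def elw : List (List ℕ) → ℕ → List ℕ
  | [], _ => []
  | a :: as, m => elw as (m / 2) ++ (if m % 2 = 1 then a else [])

/-- the word of the representative of `x` -/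
def rpw : ℕ → ℕ → List ℕ
  | 0, _ => []
  | k + 1, x => (if x / 2 ^ k % 2 = 1 then tw.getD k [] else []) ++ rpw k (x % 2 ^ k)

/-- all letters are generators -/
noncomputable def lt10 (w : List ℕ) : Bool := allL (fun a => Nat.blt a 10) w

/-- the word fixes a base -/
noncomputable def fixW (w : List ℕ) : Bool :=
  allL (fun q => Fi23m.tab.fixOK [w] (q.1.get 0)) Fi23Simple.levels

open Cfsg.Agent.S1697 in
theorem exists_faithful : ∃ φ : Spor.Fi23 →* Equiv.Perm (Fin Fi23m.tab.n),
    (∀ g, g < Fi23m.cert.k → φ (gn g) = Fi23m.checked.perm g) ∧ Function.Injective φ := by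
  have D := S1689.certified
  obtain ⟨φ, hφ⟩ : ∃ φ : Spor.Fi23 →* Equiv.Perm (Fin Fi23m.tab.n),
      ∀ g, g < Fi23m.cert.k → φ (gn g) = Fi23m.checked.perm g :=
    Pres.exists_action D.good D.extra_eq D.k_eq D.rels_eq D.words D.checked
  exact ⟨φ, hφ, (Checked.natCard_eq Fi23m.checked model_act φ hφ order_le Fi23Simple.levels
    Fi23Simple.levels_ok Fi23Simple.levels_card).2⟩

open Cfsg.Agent.S1697 in
theorem triv_of_fix (w : List ℕ) (hl : lt10 w = true) (hf : fixW w = true) : eval gn w = 1 := by
  obtain ⟨φ, hφ, hinj⟩ := exists_faithful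
  have K := Fi23m.checked
  have hl' : ∀ a ∈ w, a < Fi23m.cert.k := fun a ha => blt_iff.mp (allL_spec hl a ha)
  have hb := fixOK_of_fix_base K φ hφ model_act order_le Fi23Simple.levels Fi23Simple.levels_ok
    Fi23Simple.levels_card w hl hf
  apply hinj
  rw [map_one, Checked.map_eval K model_act φ hφ hl']
  refine Equiv.ext fun i => Fin.ext ?_
  rw [K.eval_perm hl', Equiv.Perm.one_apply]
  exact beq_iff.mp (allL_spec (hb i i.2) w (by simp))

open Cfsg.Agent.S1697 in
theorem fix_of_triv (w : List ℕ) (hl : lt10 w = true) (he : eval gn w = 1) :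
    ∀ q ∈ Fi23Simple.levels, q.1.get 0 < Fi23m.tab.n → Fi23m.tab.fixOK [w] (q.1.get 0) = true := by
  obtain ⟨φ, hφ, -⟩ := exists_faithful
  have hl' : ∀ a ∈ w, a < Fi23m.cert.k := fun a ha => blt_iff.mp (allL_spec hl a ha)
  intro q _ hq
  have e := congrArg φ he
  rw [Checked.map_eval Fi23m.checked model_act φ hφ hl', map_one] at e
  have := congrArg (fun p : Equiv.Perm (Fin Fi23m.tab.n) => ((p ⟨_, hq⟩ : Fin _) : ℕ)) e
  simp only [Fi23m.checked.eval_perm hl', Equiv.Perm.one_apply] at this
  show andB (Nat.beq (Fi23m.tab.walk w (q.1.get 0)) (q.1.get 0)) true = true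
  rw [andB_eq, Bool.and_true, beq_iff]
  exact this

/-- the group elements of the transpositions -/
noncomputable def AS : List Spor.Fi23 := aw.map (eval S1697.gn)

/-- the group elements of the polycyclic sequence -/
noncomputable def tt (k : ℕ) : Spor.Fi23 := eval S1697.gn (tw.getD k [])

/-- the matrices of the polycyclic sequence -/
def MM (k : ℕ) : List ℕ := tm.getD k []

/-- the matrices of the representatives -/
def RR (x : ℕ) : List ℕ := rt.getD x []

theorem eval_elw {G : Type*} [Group G] (f : ℕ → G) :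
    ∀ (as : List (List ℕ)) (m : ℕ), eval f (elw as m) = elv (as.map (eval f)) m
  | [], m => by simp [elw, elv, eval]
  | a :: as, m => by
    simp only [elw, List.map_cons, elv, eval_append, eval_elw f as]
    split <;> simp [eval]

theorem eval_rpw : ∀ k x, eval S1697.gn (rpw k x) = rpc tt k x
  | 0, _ => by simp [rpw, rpc, eval]
  | k + 1, x => by
    simp only [rpw, rpc, eval_append, eval_rpw k]
    split
    · rfl
    · simp [eval]

theorem eq_of_word (l r : List ℕ) (h : (lt10 r && lt10 (r.reverse ++ l) && fixW (r.reverse ++ l)) = true) :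
    eval S1697.gn l = eval S1697.gn r := by
  simp only [Bool.and_eq_true] at h
  have e := triv_of_fix _ h.1.2 h.2
  rw [eval_append, eval_reverse S1697.gn r fun a ha =>
    S1697.model_act.invol a (blt_iff.mp (allL_spec h.1.1 a ha))] at e
  exact mul_inv_eq_one.mp e

/-- check of an equation of words -/
noncomputable def eqW (l r : List ℕ) : Bool :=
  lt10 r && lt10 (r.reverse ++ l) && fixW (r.reverse ++ l)

theorem aw_invol : (aw.all fun a => eqW (a ++ a) []) = true := by decide +kernel

theorem aw_comm : (aw.all fun a => aw.all fun b => eqW (b ++ a) (a ++ b)) = true := by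
  decide +kernel

theorem aw_inj : ((List.range' 1 2047).all fun m =>
    lt10 (elw aw m) && !fixW (elw aw m)) = true := by decide +kernel

theorem base_lt : allL (fun q => Nat.blt (q.1.get 0) Fi23m.tab.n) Fi23Simple.levels = true := by
  decide +kernel

theorem tw_rows : ((List.range 7).all fun k => (List.range 11).all fun i =>
    eqW ((tw.getD k []).reverse ++ aw.getD i [] ++ tw.getD k [])
      (elw aw ((MM k).getD i 0))) = true := by decide +kernel

theorem tw_shape : ((List.range 7).all fun k =>
    lt10 (tw.getD k []) && decide ((MM k).length = 11) && (MM k).all fun r => decide (r < 2048)) = true := by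
  decide +kernel

theorem tw_sq : ((List.range 7).all fun k =>
    decide ((sqs.getD k (0, 0)).1 < 2048) && decide ((sqs.getD k (0, 0)).2 < 2 ^ k) &&
      eqW (tw.getD k [] ++ tw.getD k [])
        (rpw k (sqs.getD k (0, 0)).2 ++ elw aw (sqs.getD k (0, 0)).1)) = true := by decide +kernel

theorem tw_conj : ((List.range 7).all fun k => (List.range k).all fun j =>
    decide (((cjs.getD k []).getD j (0, 0)).1 < 2048) &&
      decide (((cjs.getD k []).getD j (0, 0)).2 < 2 ^ k) &&
        eqW ((tw.getD k []).reverse ++ tw.getD j [] ++ tw.getD k [])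
          (rpw k ((cjs.getD k []).getD j (0, 0)).2 ++
            elw aw ((cjs.getD k []).getD j (0, 0)).1)) = true := by decide +kernel

theorem rt_ok : ((List.range 128).all fun x =>
    RR x == (List.range 11).map fun i => actPC MM 7 x (2 ^ i)) = true := by decide +kernel

theorem rt_distinct : ((List.range 128).all fun x => (List.range x).all fun y =>
    !(RR x == RR y)) = true := by decide +kernel

theorem invols_eq : invols RR = ft.map Prod.fst := by decide +kernel

theorem fixed_eq : ft.all (fun p => fixed RR p.1 == p.2) = true := by decide +kernel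

theorem table_ok : tableOK RR ft = true := by decide +kernel

theorem inv_eval {w : List ℕ} (h : lt10 w = true) :
    eval S1697.gn w.reverse = (eval S1697.gn w)⁻¹ :=
  eval_reverse S1697.gn w fun a ha => S1697.model_act.invol a (blt_iff.mp (allL_spec h a ha))

theorem ext : Ext AS tt MM := by
  have hmem : ∀ a ∈ AS, ∃ w ∈ aw, eval S1697.gn w = a := fun a ha => List.mem_map.mp ha
  refine ⟨?_, ?_, ?_, ?_, ?_, ?_, ?_⟩
  · intro a ha
    obtain ⟨w, hw, rfl⟩ := hmem a ha
    rw [← eval_append, eq_of_word _ [] (List.all_eq_true.mp aw_invol w hw)]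
    rfl
  · intro a ha b hb
    obtain ⟨u, hu, rfl⟩ := hmem a ha
    obtain ⟨v, hv, rfl⟩ := hmem b hb
    show eval S1697.gn u * eval S1697.gn v = eval S1697.gn v * eval S1697.gn u
    rw [← eval_append, ← eval_append]
    exact eq_of_word _ _ (List.all_eq_true.mp (List.all_eq_true.mp aw_comm u hu) v hv)
  · intro m hm he
    by_contra h0
    have h := List.all_eq_true.mp aw_inj m (List.mem_range'_1.mpr ⟨by omega, by omega⟩)
    simp only [Bool.and_eq_true, Bool.not_eq_true'] at h
    rw [AS, ← eval_elw] at he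
    have hall : fixW (elw aw m) = true := by
      have := fix_of_triv _ h.1 he
      have hb := base_lt
      unfold fixW
      generalize Fi23Simple.levels = L at this hb ⊢
      induction L with
      | nil => rfl
      | cons q L ih =>
        show andB _ _ = true
        rw [andB_eq, Bool.and_eq_true]
        exact ⟨this q (by simp) (blt_iff.mp (allL_spec hb q (by simp))),
          ih (fun r hr => this r (List.mem_cons_of_mem _ hr))
            (by
              have hb' : andB _ (allL (fun q => Nat.blt (q.1.get 0) Fi23m.tab.n) L) = true := hb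
              rw [andB_eq, Bool.and_eq_true] at hb'
              exact hb'.2)⟩
    rw [hall] at h
    exact Bool.noConfusion h.2
  · intro k hk
    have hs := List.all_eq_true.mp tw_shape k (List.mem_range.mpr hk)
    simp only [Bool.and_eq_true, decide_eq_true_eq] at hs
    rw [List.forall₂_iff_get]
    refine ⟨by rw [hs.1.2]; rfl, fun i h1 h2 => ?_⟩
    have hi : i < 11 := hs.1.2 ▸ h2
    have h := eq_of_word _ _ (List.all_eq_true.mp (List.all_eq_true.mp tw_rows k
      (List.mem_range.mpr hk)) i (List.mem_range.mpr hi))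
    rw [eval_append, eval_append, inv_eval hs.1.1, eval_elw] at h
    simp only [List.get_eq_getElem]
    have e1 : (AS)[i] = eval S1697.gn (aw.getD i []) := by
      simp only [AS, List.getElem_map]
      rw [List.getD_eq_getElem]
    have e2 : (MM k)[i] = (MM k).getD i 0 := (List.getD_eq_getElem _ _ h2).symm
    refine (congrArg (fun z => tt k * z * (tt k)⁻¹) e1).trans ?_
    refine Eq.trans ?_ (congrArg (fun r => elv AS r) e2.symm)
    exact (mul_assoc _ _ _).trans h
  · intro k hk r hr
    have hs := List.all_eq_true.mp tw_shape k (List.mem_range.mpr hk)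
    simp only [Bool.and_eq_true, List.all_eq_true, decide_eq_true_eq] at hs
    exact hs.2 r hr
  · intro k hk
    have h := List.all_eq_true.mp tw_sq k (List.mem_range.mpr hk)
    simp only [Bool.and_eq_true, decide_eq_true_eq] at h
    refine ⟨_, h.1.1, _, h.1.2, ?_⟩
    have e := eq_of_word _ _ h.2
    rw [eval_append, eval_append, eval_elw, eval_rpw] at e
    exact e
  · intro k hk j hj
    have hs := List.all_eq_true.mp tw_shape k (List.mem_range.mpr hk)
    simp only [Bool.and_eq_true, decide_eq_true_eq] at hs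
    have h := List.all_eq_true.mp (List.all_eq_true.mp tw_conj k (List.mem_range.mpr hk)) j
      (List.mem_range.mpr hj)
    simp only [Bool.and_eq_true, decide_eq_true_eq] at h
    refine ⟨_, h.1.1, _, h.1.2, ?_⟩
    have e := eq_of_word _ _ h.2
    rw [eval_append, eval_append, eval_append, inv_eval hs.1.1, eval_elw, eval_rpw] at e
    exact (mul_assoc _ _ _).trans e

theorem rows_eq : ∀ x, x < 128 → RR x = (List.range 11).map fun i => actPC MM 7 x (2 ^ i) :=
  fun x hx => beq_iff_eq.mp (List.all_eq_true.mp rt_ok x (List.mem_range.mpr hx))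

/-- Let T be a Sylow 2-subgroup of the Fischer group Fi₂₃ (the finitely presented group `Spor.Fi23`; T has order 2¹⁸). Then every elementary abelian subgroup of Fi₂₃ contained in T and normal in T has order at most 2¹¹, and there is exactly one such subgroup of order 2¹¹. -/
theorem result
    (T : Sylow 2 Cfsg.Spor.Fi23) :
    (∀ A : Subgroup Cfsg.Spor.Fi23, A ≤ T → (A.subgroupOf T).Normal → Cfsg.IsElementaryAbelian 2 A →
        Nat.card A ≤ 2 ^ 11) ∧
    ∃! A : Subgroup Cfsg.Spor.Fi23, A ≤ T ∧ (A.subgroupOf T).Normal ∧ Cfsg.IsElementaryAbelian 2 A ∧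
        Nat.card A = 2 ^ 11 := by
  have E := ext
  haveI : Finite Spor.Fi23 := S1697.order_le.1
  obtain ⟨H, hH⟩ := E.exists_subgroup 7 le_rfl
  have hAS : AS.length = 11 := by simp [AS, show aw.length = 11 from rfl]
  -- the order of H
  have hcard : Nat.card H = 2 ^ 18 := by
    let f : Fin 2048 × Fin 128 → H := fun p =>
      ⟨elv AS p.1 * rpc tt 7 p.2, (hH _).mpr ⟨p.1, p.1.2, p.2, p.2.2, rfl⟩⟩
    have hf : Function.Bijective f := by
      constructor
      · rintro ⟨m, x⟩ ⟨n, y⟩ h
        have h' : elv AS m * rpc tt 7 x = elv AS n * rpc tt 7 y := congrArg Subtype.val h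
        have hxy : RR x = RR y := by
          rw [rows_eq x x.2, rows_eq y y.2]
          refine List.map_congr_left fun i hi => ?_
          have hl : 2 ^ i < 2048 := Nat.pow_lt_pow_right (by norm_num) (List.mem_range.mp hi)
          refine E.elv_inj (E.actPC_lt 7 le_rfl _ _ hl) (E.actPC_lt 7 le_rfl _ _ hl) ?_
          have c1 := E.conj_rpc 7 le_rfl x (2 ^ i) hl
          have c2 := E.conj_rpc 7 le_rfl y (2 ^ i) hl
          have key : ∀ (v w : ℕ), elv AS v * elv AS w * (elv AS v)⁻¹ = elv AS w := fun v w => by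
            rw [← E.add, E.inv_elv, ← E.add, Nat.xor_comm v, Nat.xor_assoc, Nat.xor_self,
              Nat.xor_zero]
          rw [← c1, ← c2]
          have := congrArg (fun g => g * elv AS (2 ^ i) * g⁻¹) h'
          simp only [mul_inv_rev] at this
          rw [show elv AS m * rpc tt 7 x * elv AS (2 ^ i) * ((rpc tt 7 x)⁻¹ * (elv AS m)⁻¹) =
              elv AS m * (rpc tt 7 x * elv AS (2 ^ i) * (rpc tt 7 x)⁻¹) * (elv AS m)⁻¹ by group,
            c1, key,
            show elv AS n * rpc tt 7 y * elv AS (2 ^ i) * ((rpc tt 7 y)⁻¹ * (elv AS n)⁻¹) =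
              elv AS n * (rpc tt 7 y * elv AS (2 ^ i) * (rpc tt 7 y)⁻¹) * (elv AS n)⁻¹ by group,
            c2, key] at this
          rw [c1, c2]; exact this
        have exy : x = y := by
          rcases lt_trichotomy (x : ℕ) y with hlt | heq | hlt
          · have := List.all_eq_true.mp (List.all_eq_true.mp rt_distinct y
              (List.mem_range.mpr y.2)) x (List.mem_range.mpr hlt)
            rw [hxy] at this; simp at this
          · exact Fin.ext heq
          · have := List.all_eq_true.mp (List.all_eq_true.mp rt_distinct x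
              (List.mem_range.mpr x.2)) y (List.mem_range.mpr hlt)
            rw [hxy] at this; simp at this
        subst exy
        exact Prod.ext (Fin.ext (E.elv_inj m.2 n.2 (mul_right_cancel h'))) rfl
      · rintro ⟨g, hg⟩
        obtain ⟨m, hm, x, hx, e⟩ := (hH g).mp hg
        exact ⟨(⟨m, hm⟩, ⟨x, hx⟩), Subtype.ext e.symm⟩
    rw [← Nat.card_congr (Equiv.ofBijective f hf), Nat.card_prod, Nat.card_fin, Nat.card_fin]
    norm_num
  -- H is a Sylow subgroup
  obtain ⟨P, hP⟩ := (IsPGroup.of_card hcard).exists_le_sylow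
  have hPH : (P : Subgroup Spor.Fi23) = H := by
    refine (Subgroup.eq_of_le_of_card_ge hP ?_).symm
    obtain ⟨n, hn⟩ := IsPGroup.iff_card.mp P.2
    rw [hcard, hn]
    refine Nat.pow_le_pow_right (by norm_num) ?_
    by_contra hlt
    have hdvd := Subgroup.card_subgroup_dvd_card (P : Subgroup Spor.Fi23)
    rw [hn] at hdvd
    have h1 : 2 ^ 19 ∣ Nat.card Spor.Fi23 :=
      (pow_dvd_pow 2 (show 19 ≤ n by omega)).trans hdvd
    rw [S1697.result.2] at h1
    norm_num at h1
  obtain ⟨g, hg⟩ := MulAction.exists_smul_eq (Spor.Fi23) P T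
  let c : Spor.Fi23 ≃* Spor.Fi23 := MulAut.conj g
  have hT : ∀ x, x ∈ T ↔ c.symm x ∈ H := by
    intro x
    rw [← hg, ← hPH]
    show x ∈ (↑(g • P) : Subgroup Spor.Fi23) ↔ _
    rw [Sylow.coe_subgroup_smul]
    exact Subgroup.mem_pointwise_smul_iff_inv_smul_mem
  obtain ⟨A₀, hA₀⟩ := E.exists_subgroup 0 (by norm_num)
  have hA₀' : ∀ y, y ∈ A₀ ↔ ∃ m < 2048, y = elv AS m := by
    intro y
    rw [hA₀]
    constructor
    · rintro ⟨m, hm, x, -, rfl⟩; exact ⟨m, hm, by simp [rpc]⟩
    · rintro ⟨m, hm, rfl⟩; exact ⟨m, hm, 0, by norm_num, by simp [rpc]⟩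
  have hcA₀ : Nat.card A₀ = 2048 := by
    let f : Fin 2048 → A₀ := fun m => ⟨elv AS m, (hA₀' _).mpr ⟨m, m.2, rfl⟩⟩
    have hf : Function.Bijective f :=
      ⟨fun m n h => Fin.ext (E.elv_inj m.2 n.2 (congrArg Subtype.val h)), fun ⟨y, hy⟩ => by
        obtain ⟨m, hm, e⟩ := (hA₀' y).mp hy
        exact ⟨⟨m, hm⟩, Subtype.ext e.symm⟩⟩
    rw [← Nat.card_congr (Equiv.ofBijective f hf), Nat.card_fin]
  let A : Subgroup Spor.Fi23 := A₀.map c.toMonoidHom
  have hA : ∀ x, x ∈ A ↔ ∃ m < 2048, c.symm x = elv AS m := fun x => by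
    rw [Subgroup.mem_map_equiv]; exact hA₀' _
  have hcA : Nat.card A = 2048 :=
    (Nat.card_congr (A₀.equivMapOfInjective _ c.injective).toEquiv).symm.trans hcA₀
  have key : ∀ B : Subgroup Spor.Fi23, B ≤ T → Cfsg.IsElementaryAbelian 2 B →
      2048 ≤ Nat.card B → B = A := by
    intro B hBT hel hcB
    have hle : B ≤ A := by
      have hcard' : 2048 ≤ Nat.card (B.map c.symm.toMonoidHom) :=
        le_of_le_of_eq hcB (Nat.card_congr (B.equivMapOfInjective _ c.symm.injective).toEquiv)
      have hb := E.rank_bound rows_eq hAS (rankOK_of_table invols_eq fixed_eq table_ok)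
        (B.map c.symm.toMonoidHom)
        (fun y hy => by
          obtain ⟨b, hb, rfl⟩ := Subgroup.mem_map.mp hy
          obtain ⟨m, hm, x, hx, e⟩ := (hH _).mp ((hT b).mp (hBT hb))
          exact ⟨m, hm, x, hx, e⟩)
        (fun y hy z hz => by
          obtain ⟨a, ha, rfl⟩ := Subgroup.mem_map.mp hy
          obtain ⟨b, hb, rfl⟩ := Subgroup.mem_map.mp hz
          rw [← map_mul, ← map_mul]
          exact congrArg _ (congrArg Subtype.val (hel.1.is_comm.comm ⟨a, ha⟩ ⟨b, hb⟩)))
        (fun y hy => by
          obtain ⟨a, ha, rfl⟩ := Subgroup.mem_map.mp hy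
          rw [← map_mul]
          have := hel.2 a ha
          rw [pow_two] at this
          rw [this, map_one])
        hcard'
      exact fun b hbB => (hA b).mpr (hb _ (Subgroup.mem_map_of_mem _ hbB))
    exact Subgroup.eq_of_le_of_card_ge hle (hcA.trans_le hcB)
  refine ⟨fun B hBT _ hel => ?_, A, ⟨?_, ?_, ?_, hcA.trans (by norm_num)⟩, ?_⟩
  · rcases le_or_gt 2048 (Nat.card B) with h | h
    · rw [key B hBT hel h, hcA]
      norm_num
    · exact h.le.trans (by norm_num)
  · intro x hx
    obtain ⟨m, hm, e⟩ := (hA x).mp hx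
    exact (hT x).mpr ((hH _).mpr ⟨m, hm, 0, by norm_num, by rw [E.rpc_zero, mul_one]; exact e⟩)
  · constructor
    rintro ⟨a, haT⟩ ha ⟨y, hyT⟩
    obtain ⟨m, hm, e⟩ := (hA a).mp ha
    obtain ⟨n, hn, x, hx, e'⟩ := (hH _).mp ((hT y).mp hyT)
    show y * a * y⁻¹ ∈ A
    refine (hA _).mpr ⟨_, E.actPC_lt 7 le_rfl x m hm, ?_⟩
    rw [map_mul, map_mul, map_inv, e, e', ← E.conj_rpc 7 le_rfl x m hm]
    have hc := E.conj_rpc 7 le_rfl x m hm
    rw [show elv AS n * rpc tt 7 x * elv AS m * (elv AS n * rpc tt 7 x)⁻¹ =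
      elv AS n * (rpc tt 7 x * elv AS m * (rpc tt 7 x)⁻¹) * (elv AS n)⁻¹ by group, hc,
      ← E.add, E.inv_elv, ← E.add, Nat.xor_comm n, Nat.xor_assoc, Nat.xor_self, Nat.xor_zero]
  · refine ⟨⟨⟨?_⟩⟩, ?_⟩
    · rintro ⟨a, ha⟩ ⟨b, hb⟩
      obtain ⟨m, hm, e⟩ := (hA a).mp ha
      obtain ⟨n, hn, e'⟩ := (hA b).mp hb
      refine Subtype.ext (c.symm.injective ?_)
      show c.symm (a * b) = c.symm (b * a)
      rw [map_mul, map_mul, e, e', ← E.add, ← E.add, Nat.xor_comm]
    · intro a ha
      obtain ⟨m, hm, e⟩ := (hA a).mp ha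
      refine c.symm.injective ?_
      rw [pow_two, map_mul, e, ← E.add, Nat.xor_self, elv_zero]
      exact (map_one _).symm
  · rintro B ⟨hBT, -, hel, hcB⟩
    exact key B hBT hel (le_of_eq (by rw [hcB]; norm_num))

end Cfsg.Agent.S2652
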