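import Cfsg.Statements.S2653
import Cfsg.Agent.Lib.MinDeg66.Induct

set_option autoImplicit false
open scoped MatrixGroups
open Cfsg

namespace Cfsg.Agent.S2653

open Cfsg.Agent.Lib.MinDeg66 in
theorem degree_bound {F : Type*} [Field F] [Finite F] (p : ℕ) [Fact p.Prime] [CharP F p]
    (n : ℕ) (r : ℕ) (H : Subgroup (GL (Fin n) F)) (K : Subgroup ↥H) [K.Normal]
    (e : ↥H ⧸ K ≃* ↥(alternatingGroup (Fin r))) (hr : 9 ≤ r) :
    r - 1 - (if p ∣ r then 1 else 0) ≤ n := by
  classical
  letI : Algebra (ZMod p) F := ZMod.algebra F p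
  let Ω := AlgebraicClosure (ZMod p)
  let i : F →ₐ[ZMod p] Ω := IsAlgClosed.lift
  let f : H →* Equiv.Perm (Fin r) :=
    (alternatingGroup (Fin r)).subtype.comp (e.toMonoidHom.comp (QuotientGroup.mk' K))
  have hf : f.range = alternatingGroup (Fin r) := by
    refine le_antisymm ?_ fun σ hσ => ?_
    · rintro _ ⟨x, rfl⟩
      exact (e (QuotientGroup.mk x)).2
    · obtain ⟨x, hx⟩ := QuotientGroup.mk'_surjective K (e.symm ⟨σ, hσ⟩)
      refine ⟨x, ?_⟩
      show (e (QuotientGroup.mk' K x) : Equiv.Perm (Fin r)) = σ
      rw [hx, e.apply_symm_apply]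
  obtain ⟨S, hS⟩ := exists_cover hr f hf
  let τ : GL (Fin n) F →* Module.End Ω (Fin n → Ω) :=
    ((Matrix.toLinAlgEquiv' (R := Ω) (n := Fin n)).toRingEquiv.toRingHom.toMonoidHom.comp
      i.toRingHom.mapMatrix.toMonoidHom).comp (Units.coeHom (Matrix (Fin n) (Fin n) F))
  have hτ : Function.Injective τ :=
    (Matrix.toLinAlgEquiv' (R := Ω) (n := Fin n)).injective.comp
      ((Matrix.map_injective i.toRingHom.injective).comp Units.val_injective)
  have hnt : ∃ g, (τ.comp (H.subtype.comp S.subtype)) g ≠ 1 := by
    by_contra hcon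
    push_neg at hcon
    have htriv : ∀ g : S, g = 1 := fun g =>
      Subtype.ext (Subtype.ext (hτ ((hcon g).trans (map_one τ).symm)))
    have h1 := hS.range
    rw [show (f.comp S.subtype).range = ⊥ from
      (MonoidHom.range_eq_bot_iff).2 (MonoidHom.ext fun g => by rw [htriv g, map_one]; rfl)] at h1
    haveI : Nontrivial (alternatingGroup (Fin r)) := by
      refine alternatingGroup.nontrivial_of_three_le_card ?_
      simp; omega
    exact Subgroup.nontrivial_iff_ne_bot _ |>.1 inferInstance h1.symm
  have h := goal r S (f.comp S.subtype) hS Ω (Fin n → Ω) p Fact.out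
    (τ.comp (H.subtype.comp S.subtype)) hnt
  rw [Module.finrank_fin_fun] at h
  rcases h with h | ⟨h, h0⟩
  · split_ifs <;> omega
  · rw [if_pos ((CharP.cast_eq_zero_iff Ω p r).1 h0)]
    omega

/-- Alternating sections of finite linear groups. Let `F` be a finite field of characteristic `p` and `n` a natural number, and suppose some subgroup `H` of GL_n(F) has a normal subgroup `K` with `H ⧸ K` isomorphic to the alternating group of degree `r ≥ 9`. Then `n ≥ r - 2` when `p` divides `r`, and `n ≥ r - 1` otherwise (the smallest degree of a nontrivial projective representation of that alternating group in characteristic `p`). The same bound follows for every classical group with natural module of dimension `n` over `F`, since each is a section of a subgroup of GL_n(F). -/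
theorem result {F : Type*} [Field F] [Fintype F] (p : ℕ) [Fact p.Prime] [CharP F p]
    (n : ℕ) (r : ℕ) (H : Subgroup (GL (Fin n) F)) (K : Subgroup ↥H) [K.Normal]
    (h : Nonempty (↥H ⧸ K ≃* ↥(alternatingGroup (Fin r)))) (hr : 9 ≤ r) :
    r - 1 - (if p ∣ r then 1 else 0) ≤ n := by
  obtain ⟨e⟩ := h
  exact degree_bound p n r H K e hr

end Cfsg.Agent.S2653
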