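import Cfsg.Statements.S2658
import Cfsg.Agent.Lib.G2Sections.NoAltSeven
import Cfsg.Agent.Lib.G2Sections.AltEight

set_option autoImplicit false
open scoped MatrixGroups
open Cfsg

namespace Cfsg.Agent.S2658

/-- A section isomorphic to an alternating group gives sections for all smaller degrees. -/
theorem exists_surjective_smaller {G : Type*} [Group G] (H : Subgroup G) {r m : ℕ} (hmr : m ≤ r)
    (f : H →* ↥(alternatingGroup (Fin r))) (hf : Function.Surjective f) :
    ∃ (H' : Subgroup G) (f' : H' →* ↥(alternatingGroup (Fin m))), Function.Surjective f' := by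
  classical
  let ψ : ↥(alternatingGroup (Fin m)) →* ↥(alternatingGroup (Fin r)) :=
    ((Equiv.Perm.viaEmbeddingHom (Fin.castLEEmb hmr)).comp (alternatingGroup (Fin m)).subtype).codRestrict
      (alternatingGroup (Fin r)) fun x => by
        rw [Equiv.Perm.mem_alternatingGroup]
        show Equiv.Perm.sign (Equiv.Perm.viaEmbedding (x : Equiv.Perm (Fin m)) (Fin.castLEEmb hmr)) = 1
        rw [Equiv.Perm.viaEmbedding, Equiv.Perm.sign_extendDomain]
        exact Equiv.Perm.mem_alternatingGroup.1 x.2
  have hψ : Function.Injective ψ := fun x y e =>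
    Subtype.ext (Equiv.Perm.viaEmbeddingHom_injective _ (congrArg Subtype.val e))
  let e := MonoidHom.ofInjective hψ
  let A : Subgroup H := ψ.range.comap f
  let g : A →* ψ.range := (f.comp A.subtype).codRestrict _ fun x => x.2
  have hg : Function.Surjective g := by
    rintro ⟨y, hy⟩
    obtain ⟨x, rfl⟩ := hf y
    exact ⟨⟨x, hy⟩, rfl⟩
  let i := A.equivMapOfInjective H.subtype H.subtype_injective
  exact ⟨A.map H.subtype, (e.symm.toMonoidHom.comp g).comp i.symm.toMonoidHom,
    (e.symm.surjective.comp hg).comp i.symm.surjective⟩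

/-- Alternating sections of the groups of type G₂. Let `F` be a finite field of characteristic `p` and let `G` be the Chevalley group of type G₂ over `F`. If some subgroup of `G` has a quotient isomorphic to the alternating group of degree `r`, then `r` is at most 6, or 7 in characteristic 5. (Only an upper bound is asserted.) -/
theorem result {F : Type*} [Field F] [Fintype F] (p : ℕ) [Fact p.Prime] [CharP F p]
    (r : ℕ) (H : Subgroup ↥(Cfsg.Lie.chevG2.group F)) (K : Subgroup ↥H) [K.Normal]
    (h : Nonempty (↥H ⧸ K ≃* ↥(alternatingGroup (Fin r)))) :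
    r ≤ 6 + (if p = 5 then 1 else 0) := by
  classical
  obtain ⟨e⟩ := h
  let f : ↥H →* ↥(alternatingGroup (Fin r)) := e.toMonoidHom.comp (QuotientGroup.mk' K)
  have hf : Function.Surjective f := e.surjective.comp (QuotientGroup.mk'_surjective K)
  by_contra hr
  split_ifs at hr with hp
  · obtain ⟨H', f', hf'⟩ := exists_surjective_smaller H (show 8 ≤ r by omega) f hf
    let T : Set (Subgroup ↥(Cfsg.Lie.chevG2.group F)) :=
      {M | ∃ g : M →* ↥(alternatingGroup (Fin 8)), Function.Surjective g}
    obtain ⟨M, hM, hmin⟩ := T.toFinite.exists_minimal ⟨H', f', hf'⟩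
    obtain ⟨g, hg⟩ := hM
    refine Cfsg.Agent.Lib.G2Sections.no_altEight_min (F := F) (p := p) ?_ (by omega) M g hg ?_
    · obtain ⟨n, -, hn⟩ := FiniteField.card F p
      rw [hn, hp]
      exact (show Odd 5 by decide).pow
    · intro N hN
      let i := N.equivMapOfInjective M.subtype M.subtype_injective
      have hT : N.map M.subtype ∈ T := by
        refine ⟨(g.comp N.subtype).comp i.symm.toMonoidHom,
          (show Function.Surjective (g.comp N.subtype) from ?_).comp i.symm.surjective⟩
        rw [← MonoidHom.range_eq_top, MonoidHom.range_comp, Subgroup.range_subtype, hN]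
      have hle : M ≤ N.map M.subtype := hmin hT (Subgroup.map_subtype_le N)
      rw [eq_top_iff]
      intro x _
      obtain ⟨y, hy, hyx⟩ := hle x.2
      rwa [← Subtype.ext hyx]
  · obtain ⟨H', f', hf'⟩ := exists_surjective_smaller H (show 7 ≤ r by omega) f hf
    exact Cfsg.Agent.Lib.G2Sections.not_altSeven_section p hp H' f' hf'

end Cfsg.Agent.S2658
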