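import Cfsg.Statements.S2660
import Cfsg.Agent.Lib.TrialityEight.NoAltEight

set_option autoImplicit false
open scoped MatrixGroups
open Cfsg

namespace Cfsg.Agent.S2660

/-- Alternating sections of the triality-twisted groups ³D₄. Let `q = p^a` be a prime power and `K` a field with `q³` elements, and let `G` be the twisted group ³D₄(q) realised over `K`. If some subgroup of `G` has a quotient isomorphic to the alternating group of degree `r`, then `r` is at most 6, or 7 in characteristic 5. (Only an upper bound is asserted.) -/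
theorem result {K : Type*} [Field K] [Fintype K] (p a : ℕ) [Fact p.Prime] [CharP K p]
    (ha : 1 ≤ a) (hK : Fintype.card K = (p ^ a) ^ 3) (r : ℕ) (H : Subgroup ↥(Cfsg.Lie.twistedD4 K (p ^ a))) (N : Subgroup ↥H) [N.Normal]
    (h : Nonempty (↥H ⧸ N ≃* ↥(alternatingGroup (Fin r)))) :
    r ≤ 6 + (if p = 5 then 1 else 0) := by
  classical
  obtain ⟨e⟩ := h
  let f : ↥H →* ↥(alternatingGroup (Fin r)) := e.toMonoidHom.comp (QuotientGroup.mk' N)
  have hf : Function.Surjective f := e.surjective.comp (QuotientGroup.mk'_surjective N)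
  have hp : p.Prime := Fact.out
  have hq : IsPrimePow (p ^ a) := hp.isPrimePow.pow (by omega)
  have hndvd : ∀ l : ℕ, l.Prime → p ≠ l → ¬ l ∣ p ^ a := fun l hl hne hd =>
    hne ((Nat.prime_dvd_prime_iff_eq hl hp).1 (hl.dvd_of_dvd_pow hd)).symm
  by_contra hr
  split_ifs at hr with hp5
  · obtain ⟨H', f', hf'⟩ := Cfsg.Agent.Lib.AltSections.exists_surjective_of_le H (show 8 ≤ r by omega) f hf
    let T : Set (Subgroup ↥(Cfsg.Lie.twistedD4 K (p ^ a))) :=
      {M | ∃ g : M →* ↥(alternatingGroup (Fin 8)), Function.Surjective g}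
    obtain ⟨M, hM, hmin⟩ := T.toFinite.exists_minimal ⟨H', f', hf'⟩
    obtain ⟨g, hg⟩ := hM
    have h2 : (2 : K) ≠ 0 := fun e2 => by
      have hd : p ∣ 2 := (CharP.cast_eq_zero_iff K p 2).1 (by exact_mod_cast e2)
      rw [hp5] at hd
      norm_num at hd
    refine Cfsg.Agent.Lib.TrialityEight.no_altEight_min p hq hK (hndvd 2 Nat.prime_two (by omega))
      (hndvd 7 (by norm_num) (by omega)) h2 M g hg ?_
    intro N' hN
    let i := N'.equivMapOfInjective M.subtype M.subtype_injective
    have hT : N'.map M.subtype ∈ T := by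
      refine ⟨(g.comp N'.subtype).comp i.symm.toMonoidHom,
        (show Function.Surjective (g.comp N'.subtype) from ?_).comp i.symm.surjective⟩
      rw [← MonoidHom.range_eq_top, MonoidHom.range_comp, Subgroup.range_subtype, hN]
    have hle : M ≤ N'.map M.subtype := hmin hT (Subgroup.map_subtype_le N')
    rw [eq_top_iff]
    intro x _
    obtain ⟨y, hy, hyx⟩ := hle x.2
    rwa [← Subtype.ext hyx]
  · obtain ⟨H', f', hf'⟩ := Cfsg.Agent.Lib.AltSections.exists_surjective_of_le H (show 7 ≤ r by omega) f hf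
    exact Cfsg.Agent.Lib.AltSections.not_altSeven_section_triality p (p ^ a) hq
      (hndvd 5 (by norm_num) hp5) hK H' f' hf'

end Cfsg.Agent.S2660
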