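import Cfsg.Statements.S2665
import Mathlib
import Cfsg.Agent.Lib.Lang.GL
-- import your own Cfsg.Agent.* helpers here

set_option autoImplicit false
open scoped MatrixGroups
open Cfsg

namespace Cfsg.Agent.S2665

/-- The Lang–Steinberg Theorem for the general linear group. Let `K` be an algebraically closed field of prime characteristic `p`, let `q = p^f` with `f ≥ 1`, and let `σ` be the endomorphism of GL_n(K) raising every matrix entry to the `q`-th power. Then every element `g` of GL_n(K) can be written `g = x · σ(x)⁻¹` for some `x` in GL_n(K): the map `x ↦ x σ(x)⁻¹` is surjective. -/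
theorem result {K : Type*} [Field K] [IsAlgClosed K] (p : ℕ) [Fact p.Prime] [CharP K p]
    (f : ℕ) (hf : 1 ≤ f) (n : ℕ) (g : GL (Fin n) K) :
    ∃ x : GL (Fin n) K, g = x * (Matrix.GeneralLinearGroup.map (iterateFrobenius K p f) x)⁻¹ := by
  classical
  let G : Matrix (Fin n) (Fin n) K := (g : Matrix (Fin n) (Fin n) K)
  let φ : (Fin n → K) →+ (Fin n → K) :=
    { toFun := fun v => G.mulVec fun i => iterateFrobenius K p f (v i)
      map_zero' := by simp [← Pi.zero_def]
      map_add' := fun u v => by simp [← Pi.add_def, Matrix.mulVec_add] }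
  have hGinj : Function.Injective G.mulVec := Matrix.mulVec_injective_iff_isUnit.2 g.isUnit
  have hinj : Function.Injective φ := fun u v h => funext fun i =>
    (iterateFrobenius K p f).injective (congrFun (hGinj h) i)
  have hsemi : ∀ (c : K) v, φ (c • v) = c ^ (p ^ f) • φ v := fun c v => by
    show G.mulVec _ = c ^ (p ^ f) • G.mulVec _
    rw [← Matrix.mulVec_smul]
    congr 1
    funext i
    simp [iterateFrobenius_def, mul_pow]
  have htop := Cfsg.Agent.Lib.Lang.span_fixed_eq_top p hf φ hinj hsemi
  let b₀ := Module.Basis.ofSpan htop.ge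
  have hb₀ : ∀ i, φ (b₀ i) = b₀ i := fun i => Module.Basis.ofSpan_subset htop.ge (Set.mem_range_self i)
  let b := b₀.reindex (b₀.indexEquiv (Pi.basisFun K (Fin n)))
  have hb : ∀ j, φ (b j) = b j := fun j => by
    rw [Module.Basis.reindex_apply]; exact hb₀ _
  let X : Matrix (Fin n) (Fin n) K := Matrix.of fun i j => b j i
  have hX : X.det ≠ 0 := by
    have : X = (Pi.basisFun K (Fin n)).toMatrix b := by ext i j; simp [X, Module.Basis.toMatrix_apply]
    rw [this]
    exact Matrix.det_ne_zero_of_left_inverse (Module.Basis.toMatrix_mul_toMatrix_flip b _)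
  let x : GL (Fin n) K := Matrix.GeneralLinearGroup.mkOfDetNeZero X hX
  refine ⟨x, eq_mul_inv_of_mul_eq ?_⟩
  ext i j
  exact congrFun (hb j) i

end Cfsg.Agent.S2665
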