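import Cfsg.Statements.S2669
import Cfsg.Agent.Lib.Shintani.Basic
-- import your own Cfsg.Agent.* helpers here

set_option autoImplicit false
open Cfsg

namespace Cfsg.Agent.S2669

/-- Shintani descent preserves numbers of fixed points on coset spaces (abstract form). Let `σ` be an automorphism of a group `X` and `e ≥ 1`; write `G` for the fixed points of `σᵉ` and `H` for the fixed points of `σ`, and assume `G` is finite. Let `Y` be a `σ`-stable subgroup of `X` on which the maps `a ↦ a σ(a)⁻¹` and `a ↦ a σᵉ(a)⁻¹` are surjective (as for a closed connected `σ`-stable subgroup of an algebraic group). Let `g ∈ G`, let `a ∈ X` satisfy `g = a σ(a)⁻¹` and put `x = σᵉ(a)⁻¹ a` (the Shintani image, an element of `H`). The element `g σ` of the semidirect product acts on the cosets of `Y ∩ G` in `G` by `k (Y ∩ G) ↦ g σ(k) (Y ∩ G)`, fixing that coset exactly when `k⁻¹ g σ(k) ∈ Y`; and `x` fixes the coset `h (Y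 ∩ H)` of `H` exactly when `h⁻¹ x h ∈ Y`. Then the two numbers of fixed cosets agree; in cross-multiplied form, `#{k ∈ G : k⁻¹ g σ(k) ∈ Y} · |Y ∩ H| = #{h ∈ H : h⁻¹ x h ∈ Y} · |Y ∩ G|`. -/
theorem result {X : Type*} [Group X] (σ : MulAut X) (e : ℕ) (he : 1 ≤ e)
    [Finite ↥((MulEquiv.toMonoidHom (σ ^ e)).eqLocus (MonoidHom.id X))]
    (Y : Subgroup X) (hY : ∀ y : X, y ∈ Y ↔ σ y ∈ Y)
    (hYL : ∀ y ∈ Y, ∃ a ∈ Y, y = a * (σ a)⁻¹) (hYLe : ∀ y ∈ Y, ∃ a ∈ Y, y = a * ((σ ^ e) a)⁻¹)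
    (g : X) (hg : g ∈ (MulEquiv.toMonoidHom (σ ^ e)).eqLocus (MonoidHom.id X)) (a : X) (ha : g = a * (σ a)⁻¹) :
    Nat.card {k : ↥((MulEquiv.toMonoidHom (σ ^ e)).eqLocus (MonoidHom.id X)) // (k : X)⁻¹ * g * σ k ∈ Y} *
        Nat.card ↥(Y ⊓ (MulEquiv.toMonoidHom σ).eqLocus (MonoidHom.id X)) =
      Nat.card {h : ↥((MulEquiv.toMonoidHom σ).eqLocus (MonoidHom.id X)) // (h : X)⁻¹ * (((σ ^ e) a)⁻¹ * a) * h ∈ Y} *
        Nat.card ↥(Y ⊓ (MulEquiv.toMonoidHom (σ ^ e)).eqLocus (MonoidHom.id X)) := by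
  open Cfsg.Agent.Lib.Shintani in
  have hs : σ a = g⁻¹ * a := by rw [ha]; group
  set x := ((σ ^ e) a)⁻¹ * a with hx
  have hea : (σ ^ e) a = a * x⁻¹ := by rw [hx]; group
  let G := (MulEquiv.toMonoidHom (σ ^ e)).eqLocus (MonoidHom.id X)
  let H := (MulEquiv.toMonoidHom σ).eqLocus (MonoidHom.id X)
  let T := {p : X × X // (σ ^ e) p.1 = p.1 ∧ p.2 ∈ Y ∧ σ (a⁻¹ * p.1 * p.2) = a⁻¹ * p.1 * p.2}
  let A := {k : ↥G // (k : X)⁻¹ * g * σ k ∈ Y}
  let B := {h : ↥H // (h : X)⁻¹ * x * h ∈ Y}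
  have cA : ∀ k : A, ∃ c ∈ Y, ((k.1 : X))⁻¹ * g * σ (k.1 : X) = c * (σ c)⁻¹ := fun k => hYL _ k.2
  choose fA hfA hfA' using cA
  have cB : ∀ h : B, ∃ c ∈ Y, ((h.1 : X)⁻¹ * x * h.1)⁻¹ = c * ((σ ^ e) c)⁻¹ :=
    fun h => hYLe _ (Y.inv_mem h.2)
  choose fB hfB hfB' using cB
  have e1 : Nat.card T = Nat.card A * Nat.card ↥(Y ⊓ H) := by
    rw [← Nat.card_prod]
    have hT : ∀ p : T, (p.1.1)⁻¹ * g * σ p.1.1 = p.1.2 * (σ p.1.2)⁻¹ := by
      rintro ⟨⟨k, c⟩, hk, hc, hh⟩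
      simp only [map_mul, map_inv, hs] at hh ⊢
      calc k⁻¹ * g * σ k = k⁻¹ * a * ((g⁻¹ * a)⁻¹ * σ k * σ c) * (σ c)⁻¹ := by group
        _ = c * (σ c)⁻¹ := by rw [hh]; group
    refine Nat.card_congr
      { toFun := fun p =>
          let k : A := ⟨⟨p.1.1, p.2.1⟩, by
            show (p.1.1)⁻¹ * g * σ p.1.1 ∈ Y
            rw [hT p]; exact Y.mul_mem p.2.2.1 (Y.inv_mem ((hY _).1 p.2.2.1))⟩
          (k, ⟨(fA k)⁻¹ * p.1.2, Y.mul_mem (Y.inv_mem (hfA k)) p.2.2.1, by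
            show σ ((fA k)⁻¹ * p.1.2) = (fA k)⁻¹ * p.1.2
            rw [map_mul, map_inv]
            have h1 : fA k * (σ (fA k))⁻¹ = p.1.2 * (σ p.1.2)⁻¹ := (hfA' k).symm.trans (hT p)
            calc (σ (fA k))⁻¹ * σ p.1.2 = (fA k)⁻¹ * (fA k * (σ (fA k))⁻¹) * σ p.1.2 := by group
              _ = _ := by rw [h1]; group⟩)
        invFun := fun q => ⟨(q.1.1.1, fA q.1 * q.2.1), q.1.1.2, Y.mul_mem (hfA q.1) q.2.2.1, by
            show σ (a⁻¹ * (q.1.1 : X) * (fA q.1 * q.2.1)) = _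
            have hq : σ (q.2.1) = q.2.1 := q.2.2.2
            simp only [map_mul, map_inv, hs, hq]
            calc (g⁻¹ * a)⁻¹ * σ (q.1.1 : X) * (σ (fA q.1) * q.2.1)
                = a⁻¹ * (q.1.1 : X) * ((q.1.1 : X)⁻¹ * g * σ (q.1.1 : X)) * σ (fA q.1) * q.2.1 := by
                  group
              _ = _ := by rw [hfA' q.1]; group⟩
        left_inv := fun p => Subtype.ext (Prod.ext rfl (mul_inv_cancel_left _ _))
        right_inv := fun q => Prod.ext rfl (Subtype.ext (inv_mul_cancel_left _ _)) }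
  have e2 : Nat.card T = Nat.card B * Nat.card ↥(Y ⊓ G) := by
    rw [← Nat.card_prod]
    have hT : ∀ p : T, (a⁻¹ * p.1.1 * p.1.2)⁻¹ * x * (a⁻¹ * p.1.1 * p.1.2)
        = ((σ ^ e) p.1.2)⁻¹ * p.1.2 := by
      rintro ⟨⟨k, c⟩, hk, hc, hh⟩
      have h := pow_fixed σ hh e
      simp only [map_mul, map_inv, hk, hea] at h ⊢
      nth_rewrite 1 [← h]
      group
    have hYe : ∀ n : ℕ, ∀ y ∈ Y, (σ ^ n) y ∈ Y := by
      intro n
      induction n with
      | zero => simp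
      | succ n ih => intro y hy; rw [pow_succ, MulAut.mul_apply]; exact ih _ ((hY _).1 hy)
    refine Nat.card_congr
      { toFun := fun p =>
          let h : B := ⟨⟨a⁻¹ * p.1.1 * p.1.2, p.2.2.2⟩, by
            show (a⁻¹ * p.1.1 * p.1.2)⁻¹ * x * (a⁻¹ * p.1.1 * p.1.2) ∈ Y
            rw [hT p]; exact Y.mul_mem (Y.inv_mem (hYe e _ p.2.2.1)) p.2.2.1⟩
          (h, ⟨p.1.2 * fB h, Y.mul_mem p.2.2.1 (hfB h), by
            show (σ ^ e) (p.1.2 * fB h) = p.1.2 * fB h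
            rw [map_mul]
            have h1 : (((σ ^ e) p.1.2)⁻¹ * p.1.2)⁻¹ = fB h * ((σ ^ e) (fB h))⁻¹ := by
              rw [← hfB' h]; exact congrArg Inv.inv (hT p).symm
            calc (σ ^ e) p.1.2 * (σ ^ e) (fB h)
                = p.1.2 * (((σ ^ e) p.1.2)⁻¹ * p.1.2)⁻¹ * (σ ^ e) (fB h) := by group
              _ = _ := by rw [h1]; group⟩)
        invFun := fun q => ⟨(a * q.1.1.1 * (q.2.1 * (fB q.1)⁻¹)⁻¹, q.2.1 * (fB q.1)⁻¹), by
            show (σ ^ e) (a * (q.1.1 : X) * ((q.2.1) * (fB q.1)⁻¹)⁻¹) = _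
            have hq : (σ ^ e) q.2.1 = q.2.1 := q.2.2.2
            have hh : (σ ^ e) (q.1.1 : X) = q.1.1 := pow_fixed σ q.1.1.2 e
            have h2 : (σ ^ e) (fB q.1) = ((q.1.1 : X)⁻¹ * x * q.1.1) * fB q.1 := by
              rw [← inv_inv ((q.1.1 : X)⁻¹ * x * q.1.1), hfB' q.1]; group
            simp only [map_mul, map_inv, hea, hq, hh, h2]
            group, Y.mul_mem q.2.2.1 (Y.inv_mem (hfB q.1)), by
            show σ (a⁻¹ * (a * (q.1.1 : X) * (q.2.1 * (fB q.1)⁻¹)⁻¹) * (q.2.1 * (fB q.1)⁻¹)) = _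
            have hh : σ (q.1.1 : X) = q.1.1 := q.1.1.2
            simpa [mul_assoc] using hh⟩
        left_inv := fun p => by
          apply Subtype.ext
          apply Prod.ext <;> simp [mul_assoc]
        right_inv := fun q => by
          have key : ∀ (z : ↥H) (hz : (z : X)⁻¹ * x * z ∈ Y), (z : X) = (q.1.1 : X) →
              (⟨z, hz⟩ : B) = q.1 := fun z hz h => Subtype.ext (Subtype.ext h)
          refine Prod.ext (key _ _ (by simp [mul_assoc])) ?_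
          apply Subtype.ext
          dsimp only
          rw [key _ _ (by simp [mul_assoc])]
          group }
  exact e1.symm.trans e2

end Cfsg.Agent.S2669
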