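import Cfsg.Statements.S2671
import Mathlib
import Cfsg.Agent.Lib.FormConj.Unitary
import Cfsg.Agent.Lib.FormConj.Realise
-- import your own Cfsg.Agent.* helpers here

set_option autoImplicit false
open Cfsg

namespace Cfsg.Agent.S2671

/-- Number of conjugacy classes of elements of odd prime order r in the general unitary group GU_n(q), for r not dividing q(q + 1): let i be the multiplicative order of q modulo r, b = i if i is odd and b = i/2 if i is even, and s = (r − 1)/b. If i ≢ 2 (mod 4) the eigenvalue orbits pair off into dual pairs of totally isotropic blocks and there are C(⌊n/(2b)⌋ + s/2, s/2) − 1 classes; if i ≡ 2 (mod 4) each orbit gives a non-degenerate block of dimension i/2 and there are C(⌊2n/i⌋ + s, s) − 1 classes. -/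
theorem result {K : Type*} [Field K] [Fintype K] {p q n r i b s : ℕ} [Fact p.Prime] [CharP K p] (hK : Fintype.card K = q ^ 2) (hr : r.Prime) (hr2 : r ≠ 2) (hrp : r ≠ p) (hi : i = orderOf (q : ZMod r)) (hi2 : i ≠ 2) (hb : b = if Odd i then i else i / 2) (hs : s * b = r - 1) : Nat.card {C : ConjClasses ↥(Cfsg.GU n K q) // ∃ g : ↥(Cfsg.GU n K q), ConjClasses.mk g = C ∧ orderOf g = r} = if i % 4 = 2 then Nat.choose (2 * n / i + s) s - 1 else Nat.choose (n / (2 * b) + s / 2) (s / 2) - 1 := by
  open Cfsg.Agent.Lib in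
  classical
  haveI : Fact r.Prime := ⟨hr⟩
  have hrF : (r : K) ≠ 0 := fun h => hrp
    ((Nat.prime_dvd_prime_iff_eq Fact.out hr).1 ((CharP.cast_eq_zero_iff K p r).1 h)).symm
  obtain ⟨ζ, hζ⟩ := FormConj.exists_root K hrF
  obtain ⟨f₂, -, hf₂⟩ := FiniteField.card K p
  obtain ⟨f, -, hf⟩ := (Nat.dvd_prime_pow (Fact.out : p.Prime)).1
    (show q ∣ p ^ (f₂ : ℕ) by rw [← hf₂, hK]; exact dvd_pow_self q (by norm_num))
  obtain ⟨σ, hσ, hσζ⟩ := FormConj.exists_powHom K p f hζ
  obtain ⟨u, hu⟩ := FormConj.exists_unit_natCast (r := r) (p := p) Fact.out hrp f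
  rw [← hf] at hu hσζ
  rw [← hu] at hσζ
  have hσ' : ∀ x : K, algebraMap K (AlgebraicClosure K) (Forms.qPowHom hK x) = σ (algebraMap K _ x) := fun x => by
    rw [Forms.qPowHom_apply, hσ, map_pow, hf]
  have hui : i = orderOf u := by rw [hi, ← orderOf_units, hu]
  set H := Subgroup.closure ({-u} : Set (ZMod r)ˣ) with hHdef
  have hi0 : 0 < i := hui ▸ orderOf_pos u
  have hcardH : Nat.card H = orderOf (-u) := by
    rw [hHdef, ← Subgroup.zpowers_eq_closure, Nat.card_zpowers]
  have hord : orderOf (-u) = if i % 4 = 2 then i / 2 else 2 * b := by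
    rcases Nat.even_or_odd i with hev | hodd
    · have hneg : -u = u ^ (i / 2 + 1) := by
        rw [hui] at hev ⊢
        rw [pow_succ, FormConj.pow_half_eq_neg_one u hev, neg_one_mul]
      rw [hneg, orderOf_pow, ← hui, hb, if_neg (Nat.not_odd_iff_even.2 hev)]
      obtain ⟨k, hk⟩ := hev
      obtain rfl : i = 2 * k := by omega
      rw [Nat.mul_div_cancel_left k two_pos]
      rcases Nat.even_or_odd k with hk2 | hk2
      · have hg : Nat.gcd (2 * k) (k + 1) = 1 := Nat.Coprime.mul_left
          (Nat.coprime_two_left.2 hk2.add_one) (Nat.coprime_self_add_right.2 (Nat.coprime_one_right k))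
        obtain ⟨l, hl⟩ := hk2
        rw [hg, Nat.div_one, if_neg (by omega)]
      · have hg : Nat.gcd (2 * k) (k + 1) = 2 := by
          rw [Nat.Coprime.gcd_mul_right_cancel 2 (Nat.coprime_self_add_right.2 (Nat.coprime_one_right k))]
          obtain ⟨l, hl⟩ := hk2
          exact Nat.gcd_eq_left ⟨l + 1, by omega⟩
        obtain ⟨l, hl⟩ := hk2
        rw [hg, if_pos (by omega), Nat.mul_div_cancel_left k two_pos]
    · obtain ⟨l, hl⟩ := hodd
      rw [if_neg (by omega), hb, if_pos ⟨l, hl⟩, ← neg_one_mul,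
        (Commute.all (-1) u).orderOf_mul_eq_mul_orderOf_of_coprime, FormConj.two_le_orderOf_neg_one hr2, ← hui]
      rw [FormConj.two_le_orderOf_neg_one hr2, ← hui]
      exact Nat.coprime_two_left.2 ⟨l, hl⟩
  let φ : ↥(Cfsg.GU n K q) →* Matrix (Fin n) (Fin n) K := (Units.coeHom _).comp (Cfsg.GU n K q).subtype
  have key := FormConj.natCard_classes H (algebraMap K (AlgebraicClosure K)) hζ φ
    (fun a b h => Subtype.ext (Units.ext h)) hrF ?_ ?_ ?_
  · rw [key, FormConj.index_eq_div, hcardH, hord]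
    have hb0 : 0 < b := by
      rcases Nat.eq_zero_or_pos b with h | h
      · rw [h, mul_zero] at hs
        have := hr.two_le
        omega
      · exact h
    split_ifs with h4
    · have hb' : b = i / 2 := by
        rw [hb, if_neg]
        intro ho
        obtain ⟨l, hl⟩ := ho
        omega
      obtain rfl : i = 2 * b := by omega
      rw [Nat.mul_div_mul_left _ _ two_pos, Nat.mul_div_cancel_left b two_pos, ← hs, Nat.mul_div_cancel _ hb0]
    · rw [← hs, Nat.mul_div_mul_right _ _ hb0]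
  · intro g g' _ _ hconj
    refine (FormConj.isConj_GU_iff hK g g').2 ?_
    obtain ⟨c, hc⟩ := hconj
    exact isConj_iff.2 ⟨c, mul_inv_eq_iff_eq_mul.2 (Units.ext hc)⟩
  · intro g hg μ hμ
    refine FormConj.isInv_closure fun x hx a => ?_
    rw [Set.mem_singleton_iff] at hx
    subst hx
    rw [Units.val_neg]
    exact FormConj.mult_neg_mul _ hζ hrF (Forms.qPowHom hK) σ hσ' u hσζ 1
      (show φ g ^ r = 1 by rw [← map_pow, hg, map_one]) ((FormConj.mem_GU_iff_twist hK _).1 g.2) hμ a
  · intro μ hμ hsum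
    have hnu : (-u : (ZMod r)ˣ) ∈ H := Subgroup.subset_closure rfl
    have hq2 : (((-u) * (-u) : (ZMod r)ˣ) : ZMod r) = (Fintype.card K : ZMod r) := by
      rw [neg_mul_neg, Units.val_mul, hu, hK]
      push_cast
      ring
    obtain ⟨A, hAr, hA⟩ := FormConj.exists_of_mult _ hζ (n := n) hrF μ hsum
      (fun a => by rw [← hq2]; exact hμ _ (mul_mem hnu hnu) a) (hq2 ▸ Units.isUnit _)
    obtain ⟨k, hk⟩ := FormConj.exists_invariant_form _ hζ hrF (Forms.qPowHom hK) σ hσ' u hσζ hAr hA
      (fun a => by rw [← Units.val_neg]; exact hμ _ hnu a)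
    obtain ⟨G, hG⟩ := IsUnit.of_pow_eq_one hAr hr.ne_zero
    obtain ⟨g, hg⟩ := FormConj.exists_GU_isConj hK G k (by rw [hG]; exact hk)
    obtain ⟨c, hc⟩ := isConj_iff.1 hg
    refine ⟨g, Subtype.ext ?_, FormConj.hasMult_congr _ (hG ▸ (Units.coeHom _).map_isConj hg) hA⟩
    have hG1 : G ^ r = 1 := Units.ext (by rw [Units.val_pow_eq_pow_val, hG, hAr, Units.val_one])
    rw [SubmonoidClass.coe_pow, ← hc, conj_pow, hG1, mul_one, mul_inv_cancel]
    rfl

end Cfsg.Agent.S2671
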