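import Cfsg.Statements.S2672
import Cfsg.Agent.Lib.FormConj.Projective
import Cfsg.Agent.Lib.FormConj.Monomial
import Cfsg.Agent.Lib.FormConj.Unitary
-- import your own Cfsg.Agent.* helpers here

set_option autoImplicit false
open Cfsg

namespace Cfsg.Agent.S2672

/-- Number of conjugacy classes of elements of odd prime order r in PGU_n(q) = GU_n(q)/scalars (n ≥ 3) when r divides q + 1: as in the linear case with q − 1 replaced by q + 1, the classes correspond to the rotation orbits on r-tuples of eigenvalue multiplicities summing to n with every entry < n, plus r − 1 further classes when r divides n; in all (C(n+r−1, r−1) − r − [r ∣ n])/r + r·[r ∣ n]. -/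
theorem result {K : Type*} [Field K] [Fintype K] {q n r : ℕ} (hK : Fintype.card K = q ^ 2) (hn : 3 ≤ n) (hr : r.Prime) (hr2 : r ≠ 2) (hrq : r ∣ q + 1) : Nat.card {C : ConjClasses (↥(Cfsg.GU n K q) ⧸ Subgroup.center ↥(Cfsg.GU n K q)) // ∃ g : ↥(Cfsg.GU n K q) ⧸ Subgroup.center ↥(Cfsg.GU n K q), ConjClasses.mk g = C ∧ orderOf g = r} = (Nat.choose (n + r - 1) (r - 1) - r - (if r ∣ n then 1 else 0)) / r + r * (if r ∣ n then 1 else 0) := by
  classical
  haveI := Fact.mk hr
  haveI : NeZero r := ⟨hr.ne_zero⟩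
  have hq : 2 ≤ q := by
    have h1 : 1 < q ^ 2 := hK ▸ Fintype.one_lt_card
    rcases q with _ | _ | q <;> simp_all
  have hrK : (r : K) ≠ 0 := by
    intro h
    obtain ⟨p, hp⟩ := CharP.exists K
    haveI := hp
    obtain ⟨f, hpp, hf⟩ := FiniteField.card K p
    have hpr : p = r := (Nat.prime_dvd_prime_iff_eq hpp hr).1 ((CharP.cast_eq_zero_iff K p r).1 h)
    subst hpr
    have h1 : p ∣ p ^ (f : ℕ) := dvd_pow_self p f.ne_zero
    rw [← hf, hK] at h1
    exact hr.not_dvd_one ((Nat.dvd_add_right (hr.dvd_of_dvd_pow h1)).1 hrq)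
  let N : Subgroup Kˣ := (powMonoidHom (q + 1) : Kˣ →* Kˣ).ker
  have hN : ∀ c : Kˣ, c ∈ N ↔ c ^ (q + 1) = 1 := fun c => Iff.rfl
  have hsq : q ^ 2 - 1 = (q + 1) * (q - 1) := by rw [← Nat.sq_sub_sq, one_pow]
  have hσ : ∀ x : K, Lib.Forms.qPowHom hK x = x ^ q := Lib.Forms.qPowHom_apply hK
  have hone : ∀ x : K, x ^ (q + 1) = 1 → Lib.Forms.qPowHom hK x * x = 1 := fun x hx => by
    rw [hσ, ← pow_succ, hx]
  -- monomial matrices with weights of norm one are unitary
  have hmono : ∀ (e : Equiv.Perm (Fin n)) (w : Fin n → K), (∀ i, w i ^ (q + 1) = 1) →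
      ∃ g : GL (Fin n) K, g ∈ Cfsg.GU n K q ∧
        (g : Matrix (Fin n) (Fin n) K) = Lib.FormConj.monomial (⇑e) w := by
    intro e w hw
    have h1 : Lib.FormConj.twist (Lib.Forms.qPowHom hK) 1 (Lib.FormConj.monomial (⇑e) w)
        * Lib.FormConj.monomial (⇑e) w = 1 := by
      ext x y
      simp only [Lib.FormConj.twist, inv_one, Units.val_one, one_mul, mul_one, Matrix.mul_apply,
        Matrix.transpose_apply, Matrix.map_apply, Lib.FormConj.monomial_apply]
      rw [Finset.sum_eq_single (e.symm x)]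
      · rw [Equiv.apply_symm_apply, if_pos rfl, Matrix.one_apply]
        by_cases hxy : x = y
        · rw [if_pos hxy.symm, if_pos hxy, hone _ (hw _)]
        · rw [if_neg (Ne.symm hxy), if_neg hxy, mul_zero]
      · intro z _ hz
        rw [if_neg (fun h => hz (by rw [h, Equiv.symm_apply_apply])), map_zero, zero_mul]
      · intro h
        exact absurd (Finset.mem_univ _) h
    exact ⟨⟨Lib.FormConj.monomial (⇑e) w, _, mul_eq_one_comm.mp h1, h1⟩,
      (Lib.FormConj.mem_GU_iff_twist hK _).2 h1, rfl⟩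
  have hscalN : ∀ c : Kˣ, Lib.FormConj.scal n K c ∈ Cfsg.GU n K q ↔ c ∈ N := by
    intro c
    rw [Lib.FormConj.mem_GU_iff_twist hK, Lib.FormConj.coe_scal, Matrix.smul_one_eq_diagonal,
      ← Matrix.scalar_apply, Lib.FormConj.twist_scalar, ← map_mul, hσ, ← pow_succ, hN, Units.ext_iff,
      Units.val_pow_eq_pow_val, Units.val_one]
    constructor
    · intro h
      have := congrFun (congrFun h ⟨0, by omega⟩) ⟨0, by omega⟩
      simpa using this
    · intro h
      rw [h, map_one]
  obtain ⟨z, hz⟩ := exists_prime_orderOf_dvd_card' (G := Kˣ) r (by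
    rw [Nat.card_units, Nat.card_eq_fintype_card, hK, hsq]; exact hrq.mul_right _)
  have hzN : z ∈ N := (hN z).2 (orderOf_dvd_iff_pow_eq_one.1 (hz ▸ hrq))
  have hz1 : (z : K) ≠ 1 := fun h => hr.one_lt.ne (by rw [← hz, Units.ext (h.trans Units.val_one.symm), orderOf_one])
  refine Lib.FormConj.natCard_classes_projective (F := K) (r := r) (n := n) (by omega) hrK N (Cfsg.GU n K q)
    ?_ (fun g => ?_) hscalN (fun g h hgh => (Lib.FormConj.isConj_GU_iff hK g h).2 hgh) (fun g d hd hgd => ?_)
    (fun a ha hna c hc => ?_) (fun hrn a ha _ => ?_)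
  · have h := orderOf_dvd_natCard (⟨z, hzN⟩ : N)
    rwa [← Subgroup.orderOf_coe, hz] at h
  · constructor
    · intro hg
      set A := ((g : GL (Fin n) K) : Matrix (Fin n) (Fin n) K) with hA
      have hcomm : ∀ (e : Equiv.Perm (Fin n)) (w : Fin n → K), (∀ i, w i ^ (q + 1) = 1) → ∀ x y,
          A x (e.symm y) * w (e.symm y) = w x * A (e x) y := by
        intro e w hw x y
        obtain ⟨h, hh, hhM⟩ := hmono e w hw
        have h1 := congrArg (fun u : Cfsg.GU n K q => ((u : GL (Fin n) K) : Matrix (Fin n) (Fin n) K) x y)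
          ((Subgroup.mem_center_iff.1 hg ⟨h, hh⟩).symm)
        simp only [Subgroup.coe_mul, Units.val_mul, hhM, ← hA, Matrix.mul_apply, Lib.FormConj.monomial_apply] at h1
        rw [Finset.sum_eq_single (e.symm y) (fun i _ hi => by
            rw [if_neg (fun h => hi (by rw [h, Equiv.symm_apply_apply])), mul_zero])
          (fun h => absurd (Finset.mem_univ _) h), Equiv.apply_symm_apply, if_pos rfl,
          Finset.sum_eq_single (e x) (fun i _ hi => by rw [if_neg hi, zero_mul])
          (fun h => absurd (Finset.mem_univ _) h), if_pos rfl] at h1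
        exact h1
      have hoff : ∀ x y, x ≠ y → A x y = 0 := by
        intro x y hxy
        have h1 := hcomm 1 (fun i => if i = x then (z : K) else 1) (fun i => by
          split_ifs
          · exact congrArg Units.val ((hN z).1 hzN)
          · exact one_pow _) x y
        simp only [Equiv.Perm.one_apply, Equiv.Perm.one_symm, Ne.symm hxy, if_true, if_false, mul_one] at h1
        have h2 : ((z : K) - 1) * A x y = 0 := by rw [sub_mul, ← h1, one_mul, sub_self]
        exact (mul_eq_zero.1 h2).resolve_left (sub_ne_zero.2 hz1)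
      have heq : ∀ x y, A x x = A y y := by
        intro x y
        have h1 := hcomm (Equiv.swap x y) (fun _ => 1) (fun _ => one_pow _) x y
        simpa using h1
      have hdiagA : A = A ⟨0, by omega⟩ ⟨0, by omega⟩ • (1 : Matrix (Fin n) (Fin n) K) := by
        ext x y
        by_cases hxy : x = y
        · subst hxy; simpa using heq x _
        · simpa [hxy] using hoff x y hxy
      have hne : A ⟨0, by omega⟩ ⟨0, by omega⟩ ≠ 0 := by
        intro h0
        rw [h0, zero_smul] at hdiagA
        have h2 := (g : GL (Fin n) K).isUnit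
        rw [← hA, hdiagA] at h2
        exact zero_ne_one ((congrArg (fun M : Matrix (Fin n) (Fin n) K => M ⟨0, by omega⟩ ⟨0, by omega⟩) (isUnit_zero_iff.1 h2)).trans (Matrix.one_apply_eq _))
      have hgs : (g : GL (Fin n) K) = Lib.FormConj.scal n K (Units.mk0 _ hne) :=
        Units.ext (by rw [Lib.FormConj.coe_scal, Units.val_mk0]; exact hdiagA)
      exact ⟨Units.mk0 _ hne, (hscalN _).1 (hgs ▸ g.2), hgs⟩
    · rintro ⟨c, -, hc⟩
      refine Subgroup.mem_center_iff.2 fun h => Subtype.ext ?_
      rw [Subgroup.coe_mul, Subgroup.coe_mul, hc]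
      exact (Lib.FormConj.scal_comm c _).symm.eq
  · obtain ⟨h, hh, hhM⟩ := hmono 1 d (fun i => by
      obtain ⟨k, hk⟩ := hrq
      rw [hk, pow_mul, hd, one_pow])
    convert hh using 1
    refine Units.ext ?_
    rw [hgd, hhM]
    ext x y
    simp [Lib.FormConj.monomial_apply, Matrix.diagonal_apply, eq_comm]
  · refine hna c ((hN c).2 ?_) hc
    have h1 : (c ^ (q + 1)) ^ r = 1 := by rw [← pow_mul, mul_comm, pow_mul, hc, (hN a).1 ha]
    have h2 : (c ^ (q + 1)) ^ (q - 1) = 1 := by
      rw [← pow_mul, ← hsq, ← hK, ← Fintype.card_units]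
      exact pow_card_eq_one
    have h3 : (c ^ (q + 1)) ^ Nat.gcd r (q - 1) = 1 := pow_gcd_eq_one.2 ⟨h1, h2⟩
    have hco : Nat.gcd r (q - 1) = 1 := by
      refine (hr.coprime_iff_not_dvd.2 fun hd => hr2 ?_)
      have h4 := Nat.dvd_sub hrq hd
      rw [show q + 1 - (q - 1) = 2 by omega] at h4
      exact (Nat.prime_dvd_prime_iff_eq hr Nat.prime_two).1 h4
    rwa [hco, pow_one] at h3
  · obtain ⟨e, w, hw, he⟩ := Lib.FormConj.exists_monomial_root (a : K) hrn
    obtain ⟨h, hh, hhM⟩ := hmono e w (fun i => by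
      rcases hw i with h0 | h0 <;> rw [h0]
      · exact one_pow _
      · exact congrArg Units.val ((hN a).1 ha))
    exact ⟨h, hh, Units.ext (by rw [Units.val_pow_eq_pow_val, hhM, he, Lib.FormConj.coe_scal])⟩

end Cfsg.Agent.S2672
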