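import Cfsg.Statements.S2673
import Mathlib
import Cfsg.Agent.Lib.Dickson.StdQuad
import Cfsg.Agent.Lib.FormConj.Realise
import Cfsg.Agent.Lib.FormConj.Congruence
-- import your own Cfsg.Agent.* helpers here

set_option autoImplicit false
open Cfsg

namespace Cfsg.Agent.S2673

/-- Number of conjugacy classes of elements of odd prime order r ≠ p in the orthogonal group O_(2m+1)(q) of x_0² + Σ x_j y_j, q odd: with i the multiplicative order of q mod r and t = (r − 1)/i, there are C(⌊m/i⌋ + t/2, t/2) − 1 classes if i is odd (dual pairs of totally singular i-blocks) and C(⌊(2m+1)/i⌋ + t, t) − 1 if i is even (elliptic i-blocks). -/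
theorem result {F : Type*} [Field F] [Fintype F] {p q : ℕ} [Fact p.Prime] [CharP F p] (hF : Fintype.card F = q) (hq : Odd q) (m r i t : ℕ) (hr : r.Prime) (hr2 : r ≠ 2) (hrp : r ≠ p) (hi : i = orderOf (q : ZMod r)) (ht : t * i = r - 1) : Nat.card {C : ConjClasses ↥(Cfsg.isometryGroup F (Cfsg.quadFormOdd m F)) // ∃ g : ↥(Cfsg.isometryGroup F (Cfsg.quadFormOdd m F)), ConjClasses.mk g = C ∧ orderOf g = r} = if Odd i then Nat.choose (m / i + t / 2) (t / 2) - 1 else Nat.choose ((2 * m + 1) / i + t) t - 1 := by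
  open Cfsg.Agent.Lib in
  classical
  haveI : Fact r.Prime := ⟨hr⟩
  have hrF : (r : F) ≠ 0 := fun h => hrp
    ((Nat.prime_dvd_prime_iff_eq Fact.out hr).1 ((CharP.cast_eq_zero_iff F p r).1 h)).symm
  have h2 : (2 : F) ≠ 0 := by
    obtain ⟨f', -, hf'⟩ := FiniteField.card F p
    intro h
    have h' : p ∣ 2 := (CharP.cast_eq_zero_iff F p 2).1 (by exact_mod_cast h)
    rw [(Nat.prime_dvd_prime_iff_eq Fact.out Nat.prime_two).1 h', hF] at hf'
    rw [hf'] at hq
    exact (Nat.not_odd_iff_even.2 ((even_two).pow_of_ne_zero f'.ne_zero)) hq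
  obtain ⟨ζ, hζ⟩ := FormConj.exists_root F hrF
  obtain ⟨f, -, hf⟩ := FiniteField.card F p
  obtain ⟨u, hu⟩ := FormConj.exists_unit_natCast (r := r) (p := p) Fact.out hrp f
  rw [← hf] at hu
  have hui : i = orderOf u := by rw [hi, ← orderOf_units, hu, hF]
  set H := Subgroup.closure ({u, -1} : Set (ZMod r)ˣ) with hHdef
  have hcardH := FormConj.card_closure_neg_one hr2 u
  rw [← hHdef, ← hui] at hcardH
  set B := QuadraticMap.polarBilin (StdForms.oddQ F m) with hB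
  have hBnd : B.Nondegenerate := StdForms.oddQ_nondegenerate h2 m
  obtain ⟨k, hk⟩ : IsUnit (LinearMap.BilinForm.toMatrix' B) :=
    (Matrix.isUnit_iff_isUnit_det _).2
      (isUnit_iff_ne_zero.2 ((LinearMap.BilinForm.nondegenerate_iff_det_ne_zero (Pi.basisFun F _)).1 hBnd))
  have hkB : Matrix.toBilin' (k : Matrix (Unit ⊕ (Fin m ⊕ Fin m)) (Unit ⊕ (Fin m ⊕ Fin m)) F) = B := by
    rw [hk, Matrix.toBilin'_toMatrix']
  have hgood : Forms.IsGoodForm (σ := RingHom.id F)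
      (Matrix.toBilin' (k : Matrix (Unit ⊕ (Fin m ⊕ Fin m)) (Unit ⊕ (Fin m ⊕ Fin m)) F)) (1 : F) := by
    rw [hkB]; exact Forms.IsGoodForm.of_quadratic hBnd
  have hksymm : (k : Matrix (Unit ⊕ (Fin m ⊕ Fin m)) (Unit ⊕ (Fin m ⊕ Fin m)) F).transpose
      = (k : Matrix (Unit ⊕ (Fin m ⊕ Fin m)) (Unit ⊕ (Fin m ⊕ Fin m)) F) := by
    rw [FormConj.transpose_of_goodForm hgood, one_smul]
  have hiff : ∀ M : Matrix (Unit ⊕ (Fin m ⊕ Fin m)) (Unit ⊕ (Fin m ⊕ Fin m)) F,
      FormConj.adj k M * M = 1 ↔ ∀ v, Cfsg.quadFormOdd m F (M.mulVec v) = Cfsg.quadFormOdd m F v := by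
    intro M
    rw [FormConj.adj_mul_self_iff_preserves, hkB, ← StdForms.coe_oddQ]
    constructor
    · intro h v
      have h' := h v v
      rw [Forms.polarBilin_self, Forms.polarBilin_self] at h'
      exact mul_left_cancel₀ h2 h'
    · intro h a b
      simp only [hB, QuadraticMap.polarBilin_apply_apply, QuadraticMap.polar, ← Matrix.mulVec_add, h]
  let φ₀ : ↥(Cfsg.isometryGroup F (Cfsg.quadFormOdd m F)) →* Matrix (Unit ⊕ (Fin m ⊕ Fin m)) (Unit ⊕ (Fin m ⊕ Fin m)) F :=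
    (Units.coeHom _).comp (Cfsg.isometryGroup F (Cfsg.quadFormOdd m F)).subtype
  have hφ₀ : ∀ g, FormConj.adj k (φ₀ g) * φ₀ g = 1 := fun g =>
    (hiff _).2 fun v => Forms.isometryGroup_apply g v
  let e : Unit ⊕ (Fin m ⊕ Fin m) ≃ Fin (2 * m + 1) :=
    Fintype.equivFinOfCardEq (by simp only [Fintype.card_sum, Fintype.card_fin, Fintype.card_unit]; omega)
  let R := Matrix.reindexAlgEquiv F F e
  have hmult : ∀ (A : Matrix (Unit ⊕ (Fin m ⊕ Fin m)) (Unit ⊕ (Fin m ⊕ Fin m)) F) (μ : ZMod r → ℕ),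
      FormConj.HasMult (algebraMap F (AlgebraicClosure F)) ζ (R A) μ
        ↔ FormConj.HasMult (algebraMap F (AlgebraicClosure F)) ζ A μ := fun A μ => by
    unfold FormConj.HasMult
    rw [show (R A).charpoly = A.charpoly from Matrix.charpoly_reindex e A]
  have hφinj : Function.Injective φ₀ := fun a b h => Subtype.ext (Units.ext h)
  have key := FormConj.natCard_classes H (algebraMap F (AlgebraicClosure F)) hζ (R.toMonoidHom.comp φ₀)
    (R.injective.comp hφinj) hrF ?_ ?_ ?_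
  · rw [key, FormConj.index_eq_div, hcardH]
    have hi0 : 0 < i := hui ▸ orderOf_pos u
    split_ifs with hodd
    · rw [← Nat.div_div_eq_div_mul, show (2 * m + 1) / 2 = m by omega, ← ht, mul_comm 2 i,
        ← Nat.div_div_eq_div_mul (t * i) i 2, Nat.mul_div_cancel _ hi0]
    · rw [← ht, Nat.mul_div_cancel _ hi0]
  · intro g g' hg _ hconj
    obtain ⟨c, hc⟩ : IsConj (φ₀ g) (φ₀ g') := by
      have := R.symm.toMonoidHom.map_isConj hconj
      simpa using this
    obtain ⟨M, hM, hMg⟩ := FormConj.exists_isometry_intertwine k hgood (hr.odd_of_ne_two hr2) hrF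
      (hφ₀ g) (hφ₀ g') (by rw [← map_pow, hg, map_one]) c.isUnit hc.eq
    obtain ⟨M', hM'⟩ : ∃ M' : GL (Unit ⊕ (Fin m ⊕ Fin m)) F, (M' : Matrix (Unit ⊕ (Fin m ⊕ Fin m)) (Unit ⊕ (Fin m ⊕ Fin m)) F) = M :=
      ⟨⟨M, FormConj.adj k M, mul_eq_one_comm.mp hM, hM⟩, rfl⟩
    refine isConj_iff.2 ⟨⟨M', Forms.mem_isometryGroup_iff.2 (by rw [hM']; exact (hiff M).1 hM)⟩, ?_⟩
    rw [mul_inv_eq_iff_eq_mul]
    refine hφinj ?_
    rw [map_mul, map_mul]
    show (M' : Matrix (Unit ⊕ (Fin m ⊕ Fin m)) (Unit ⊕ (Fin m ⊕ Fin m)) F) * φ₀ g = φ₀ g' * (M' : Matrix (Unit ⊕ (Fin m ⊕ Fin m)) (Unit ⊕ (Fin m ⊕ Fin m)) F)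
    rw [hM']
    exact hMg
  · intro g hg μ hμ
    rw [show (R.toMonoidHom.comp φ₀) g = R (φ₀ g) from rfl, hmult] at hμ
    refine FormConj.isInv_closure fun x hx a => ?_
    rcases hx with rfl | rfl
    · exact FormConj.mult_card_mul _ hζ hμ x hu a
    · rw [Units.val_neg, Units.val_one, neg_one_mul]
      exact FormConj.mult_neg _ hζ hrF k (by rw [← map_pow, hg, map_one]) (hφ₀ g) hμ a
  · intro μ hμ hsum
    have hstd : ∀ d : ℕ, (∃ c, d + Nat.card H * c = Fintype.card (Unit ⊕ (Fin m ⊕ Fin m))) →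
        ∃ (Q : Matrix (Fin d) (Fin d) F) (K : GL (Fin d) F),
          (K : Matrix (Fin d) (Fin d) F) = Q + ((1 : ℤ) : Matrix (Fin d) (Fin d) F) * Q.transpose := by
      intro d _
      refine ⟨(2 : F)⁻¹ • (1 : Matrix (Fin d) (Fin d) F), 1, ?_⟩
      rw [Units.val_one, Int.cast_one, one_mul, Matrix.transpose_smul, Matrix.transpose_one, ← add_smul, ← two_mul,
        mul_inv_cancel₀ h2, one_smul]
    obtain ⟨A, Q, K, hK, hAK, hAr, hA⟩ := FormConj.exists_form_of_mult (ι := Unit ⊕ (Fin m ⊕ Fin m))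
      (algebraMap F (AlgebraicClosure F)) hζ H hrF hr2 1 (one_mul 1)
      (Subgroup.subset_closure (by simp)) ⟨u, Subgroup.subset_closure (by simp), hu⟩ hstd hμ
      (by rw [hsum]; simp only [Fintype.card_sum, Fintype.card_fin, Fintype.card_unit]; omega)
    obtain ⟨P, c, hc, hP⟩ := FormConj.exists_congr_scalar h2
      (by simp only [Fintype.card_sum, Fintype.card_fin, Fintype.card_unit]; exact ⟨m, by omega⟩) K k
      (by rw [hK, Int.cast_one, one_mul, Matrix.transpose_add, Matrix.transpose_transpose, add_comm]) hksymm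
    obtain ⟨M, hM, hAM, hMr⟩ := FormConj.transport_isometry hc hAK hP hAr
    obtain ⟨M', hM'⟩ := IsUnit.of_pow_eq_one hMr hr.ne_zero
    refine ⟨⟨M', Forms.mem_isometryGroup_iff.2 (by
      rw [hM']; exact (hiff M).1 ((FormConj.adj_mul_self_iff k M).2 hM))⟩, ?_, ?_⟩
    · refine hφinj ?_
      rw [map_pow, map_one]
      show (M' : Matrix (Unit ⊕ (Fin m ⊕ Fin m)) (Unit ⊕ (Fin m ⊕ Fin m)) F) ^ r = 1
      rw [hM', hMr]
    · refine (hmult _ _).2 (FormConj.hasMult_congr _ ?_ hA)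
      show IsConj A (M' : Matrix (Unit ⊕ (Fin m ⊕ Fin m)) (Unit ⊕ (Fin m ⊕ Fin m)) F)
      rw [hM']
      exact hAM

end Cfsg.Agent.S2673
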