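import Cfsg.Statements.S2677
import Cfsg.Agent.Lib.FieldDescent.Unitary

set_option autoImplicit false
open Cfsg

namespace Cfsg.Agent.S2677

/-- Centraliser of a field automorphism of odd prime order in PGU_n(q): let q = q₀^r with r an odd prime, K the field with q² elements and σ a field automorphism of K of order r (fixed field of order q₀²). The elements g of GU_n(q) whose entrywise image under σ is a scalar multiple of g — those whose coset modulo the q + 1 unitary scalars is fixed by σ — number (q + 1)/(q₀ + 1) · |GU_n(q₀)|; equivalently the centraliser in PGU_n(q) of the induced automorphism has the order of PGU_n(q₀). -/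
theorem result {K : Type*} [Field K] [Fintype K] {q₀ q r n : ℕ} (hr : r.Prime) (hr2 : r ≠ 2) (hn : 1 ≤ n) (hq : q = q₀ ^ r) (hK : Fintype.card K = q ^ 2) (σ : K ≃+* K) (hσ : orderOf σ = r) : (Nat.card {g : ↥(Cfsg.GU n K q) // ∃ c : K, c ≠ 0 ∧ ((g : GL (Fin n) K) : Matrix (Fin n) (Fin n) K).map σ = c • ((g : GL (Fin n) K) : Matrix (Fin n) (Fin n) K)} : ℤ) = ((q + 1) / (q₀ + 1) : ℕ) * ((q₀ : ℤ) ^ (n * (n - 1) / 2) * ∏ i : Fin n, ((q₀ : ℤ) ^ ((i : ℕ) + 1) - (-1) ^ ((i : ℕ) + 1))) := by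
  classical
  have hodd : Odd r := hr.odd_of_ne_two hr2
  haveI : Fintype ↥(Lib.FieldDescent.fixedField σ) := Fintype.ofFinite _
  have hc := Lib.FieldDescent.card_fixed_eq hodd hq hK σ hσ
  have hK₀ : Fintype.card ↥(Lib.FieldDescent.fixedField σ) = q₀ ^ 2 := by
    rw [← Nat.card_eq_fintype_card, hc]
  have h := Lib.FieldDescent.natCard_twistFixed_mul (n := n) hodd hq hK σ hσ hn
  rw [Lib.Classical.natCard_GU hK₀] at h
  have hq0 : 1 ≤ q₀ := by
    rcases Nat.eq_zero_or_pos q₀ with h0 | h0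
    · have := Fintype.card_pos (α := ↥(Lib.FieldDescent.fixedField σ))
      rw [hK₀, h0] at this
      simp at this
    · exact h0
  have hdvd : q₀ + 1 ∣ q + 1 := by
    rw [hq]
    simpa using hodd.nat_add_dvd_pow_add_pow q₀ 1
  obtain ⟨e, he⟩ := hdvd
  have hP : ((∏ i ∈ Finset.range n, (if Even i then q₀ ^ (i + 1) + 1 else q₀ ^ (i + 1) - 1) : ℕ) : ℤ)
      = ∏ i : Fin n, ((q₀ : ℤ) ^ ((i : ℕ) + 1) - (-1) ^ ((i : ℕ) + 1)) := by
    rw [Fin.prod_univ_eq_prod_range (fun i : ℕ => (q₀ : ℤ) ^ (i + 1) - (-1) ^ (i + 1)) n,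
      Nat.cast_prod]
    refine Finset.prod_congr rfl fun i _ => ?_
    by_cases hi : Even i
    · rw [if_pos hi, (hi.add_one).neg_one_pow]
      push_cast
      ring
    · rw [if_neg hi, ((Nat.not_even_iff_odd.mp hi).add_one).neg_one_pow,
        Nat.cast_sub (Nat.one_le_pow _ _ hq0)]
      push_cast
      ring
  rw [he, Nat.mul_div_cancel_left _ (Nat.succ_pos q₀), ← hP]
  rw [he, mul_comm (q₀ + 1) e, mul_assoc, mul_comm (q₀ + 1) (q₀ ^ _ * _), ← mul_assoc] at h
  have h' := Nat.eq_of_mul_eq_mul_right (Nat.succ_pos q₀) h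
  rw [h']
  push_cast
  ring

end Cfsg.Agent.S2677
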