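import Cfsg.Statements.S2678
import Cfsg.Agent.Lib.FieldDescent.Quadratic
import Cfsg.Agent.Lib.Forms.Bridge

set_option autoImplicit false
open Cfsg

namespace Cfsg.Agent.S2678

open Matrix

section

variable {K F : Type*} [Field K] [Fintype K] [Field F] [Fintype F] [Algebra F K] {a : ℕ}

/-- Merging coordinates along the two trace-dual bases. -/
noncomputable def merge (e f : Module.Basis (Fin 2) F K) :
    (Fin (2 * a) ⊕ Fin (2 * a) → F) →ₗ[F] (Fin a ⊕ Fin a → K) where
  toFun u := Sum.elim
    (fun i => ∑ k, u (.inl (finProdFinEquiv (k, i))) • e k)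
    (fun i => ∑ k, u (.inr (finProdFinEquiv (k, i))) • f k)
  map_add' u v := by
    funext s
    rcases s with i | i <;> simp [add_smul, Finset.sum_add_distrib]
  map_smul' c u := by
    funext s
    rcases s with i | i <;> simp [Finset.smul_sum, smul_smul]

theorem trace_sympForm_merge (e f : Module.Basis (Fin 2) F K)
    (hef : ∀ i j, Algebra.trace F K (e i * f j) = if i = j then 1 else 0)
    (u v : Fin (2 * a) ⊕ Fin (2 * a) → F) :
    Algebra.trace F K (Cfsg.sympForm a K (merge e f u) (merge e f v)) =
      Cfsg.sympForm (2 * a) F u v := by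
  rw [Lib.Forms.sympForm_apply, Lib.Forms.sympForm_apply, map_sum,
    ← finProdFinEquiv.sum_comp, Fintype.sum_prod_type_right]
  refine Finset.sum_congr rfl fun i _ => ?_
  have hfe : ∀ i j, Algebra.trace F K (f i * e j) = if j = i then 1 else 0 := fun i j => by
    rw [mul_comm, hef]
  simp [merge, Fin.sum_univ_two, add_mul, mul_add, map_sub, map_add, smul_mul_smul_comm, hef, hfe]
  ring

theorem merge_bijective (e f : Module.Basis (Fin 2) F K)
    (hef : ∀ i j, Algebra.trace F K (e i * f j) = if i = j then 1 else 0) :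
    Function.Bijective (merge (a := a) e f) := by
  have hinj : Function.Injective (merge (a := a) e f) := by
    rw [injective_iff_map_eq_zero]
    intro u hu
    refine Lib.Forms.sympBilin_goodForm.nondeg u fun v => ?_
    rw [Lib.Forms.sympBilin_apply, ← trace_sympForm_merge e f hef, hu]
    simp [Lib.Forms.sympForm_apply]
  refine ⟨hinj, (LinearMap.injective_iff_surjective_of_finrank_eq_finrank ?_).mp hinj⟩
  haveI : Module.Finite F K := Module.Finite.of_finite
  have h2 : Module.finrank F K = 2 := by rw [Module.finrank_eq_card_basis e, Fintype.card_fin]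
  rw [Module.finrank_pi, Module.finrank_pi_fintype, Finset.sum_const, Finset.card_univ, h2]
  simp only [Fintype.card_sum, Fintype.card_fin, smul_eq_mul]
  ring

theorem exists_emb (hK : Fintype.card K = Fintype.card F ^ 2) :
    ∃ φ : ↥(Matrix.symplecticGroup (Fin a) K) →* ↥(Matrix.symplecticGroup (Fin (2 * a)) F),
      Function.Injective φ := by
  obtain ⟨e, f, hef⟩ := Lib.FieldDescent.exists_trace_dual_bases hK
  let L := LinearEquiv.ofBijective (merge (a := a) e f) (merge_bijective e f hef)
  let T : Matrix (Fin a ⊕ Fin a) (Fin a ⊕ Fin a) K →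
      Matrix (Fin (2 * a) ⊕ Fin (2 * a)) (Fin (2 * a) ⊕ Fin (2 * a)) F :=
    fun A => LinearMap.toMatrix'
      (L.symm.toLinearMap ∘ₗ (A.mulVecLin.restrictScalars F) ∘ₗ L.toLinearMap)
  have hT : ∀ A w, T A *ᵥ w = L.symm (A *ᵥ L w) := fun A w => by
    rw [LinearMap.toMatrix'_mulVec]; rfl
  have hmem : ∀ A : ↥(Matrix.symplecticGroup (Fin a) K),
      T A.1 ∈ Matrix.symplecticGroup (Fin (2 * a)) F := fun A => by
    rw [Lib.Forms.mem_symplecticGroup_iff_preserves]
    intro u v
    rw [hT, hT, ← trace_sympForm_merge e f hef (L.symm _) (L.symm _)]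
    show Algebra.trace F K (Cfsg.sympForm a K (L (L.symm _)) (L (L.symm _))) = _
    rw [LinearEquiv.apply_symm_apply, LinearEquiv.apply_symm_apply,
      Lib.Forms.mem_symplecticGroup_iff_preserves.mp A.2]
    exact trace_sympForm_merge e f hef u v
  refine ⟨{ toFun := fun A => ⟨T A.1, hmem A⟩, map_one' := ?_, map_mul' := ?_ }, ?_⟩
  · refine Subtype.ext (Matrix.ext_of_mulVec_single fun i => ?_)
    show T 1 *ᵥ _ = (1 : Matrix _ _ F) *ᵥ _
    rw [hT, one_mulVec, one_mulVec, LinearEquiv.symm_apply_apply]
  · intro A B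
    refine Subtype.ext (Matrix.ext_of_mulVec_single fun i => ?_)
    show T (A.1 * B.1) *ᵥ _ = (T A.1 * T B.1) *ᵥ _
    rw [← mulVec_mulVec, hT, hT, hT, LinearEquiv.apply_symm_apply, mulVec_mulVec]
  · intro A B hAB
    refine Subtype.ext (Matrix.ext_of_mulVec_single fun i => ?_)
    have h : T A.1 = T B.1 := congrArg Subtype.val hAB
    have := congrArg (fun M => M *ᵥ L.symm (Pi.single i 1)) h
    simpa only [hT, LinearEquiv.apply_symm_apply, EmbeddingLike.apply_eq_iff_eq] using this

end

/-- Field-extension embedding of symplectic groups: for a field K with q² elements and a field F with q elements there is an injective homomorphism Sp_2a(K) → Sp_4a(F). -/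
theorem result {K F : Type*} [Field K] [Fintype K] [Field F] [Fintype F] {q : ℕ} (hK : Fintype.card K = q ^ 2) (hF : Fintype.card F = q) (a : ℕ) : ∃ φ : ↥(Matrix.symplecticGroup (Fin a) K) →* ↥(Matrix.symplecticGroup (Fin (2 * a)) F), Function.Injective φ := by
  subst hF
  obtain ⟨ι⟩ := Lib.FieldDescent.exists_ringHom_of_card_eq_pow hK
  letI : Algebra F K := ι.toAlgebra
  exact exists_emb hK

end Cfsg.Agent.S2678
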