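import Cfsg.Statements.S2679
import Cfsg.Agent.Lib.FieldDescent.Quadratic
import Cfsg.Agent.Lib.Forms.Bridge

set_option autoImplicit false
open Cfsg

namespace Cfsg.Agent.S2679

open Matrix

section

variable {F K : Type*} [Field F] [Field K] [Algebra F K] {k : ℕ}

/-- The triangular matrix of `quadFormMinus`. -/
def gram (k : ℕ) (R : Type*) [Field R] (a c : R) :
    Matrix ((Fin k ⊕ Fin k) ⊕ Fin 2) ((Fin k ⊕ Fin k) ⊕ Fin 2) R :=
  Matrix.fromBlocks (Matrix.fromBlocks 0 1 0 0) 0 0 !![1, a; 0, c]

theorem quadFormMinus_eq {R : Type*} [Field R] (a c : R) (v : (Fin k ⊕ Fin k) ⊕ Fin 2 → R) :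
    Cfsg.quadFormMinus k R a c v = v ⬝ᵥ (gram k R a c *ᵥ v) := by
  simp [Cfsg.quadFormMinus, gram, dotProduct, mulVec, Fintype.sum_sum_type, Fin.sum_univ_two,
    Matrix.one_apply]
  ring

theorem dot_mulVec_eq_zero {ι R : Type*} [Fintype ι] [DecidableEq ι] [CommRing R]
    (M : Matrix ι ι R) (hd : ∀ i, M i i = 0) (ho : ∀ i j, M i j + M j i = 0) (v : ι → R) :
    v ⬝ᵥ (M *ᵥ v) = 0 := by
  simp only [dotProduct, mulVec, Finset.mul_sum]
  rw [← Fintype.sum_prod_type' (f := fun i j => v i * (M i j * v j))]
  refine Finset.sum_involution (fun p _ => p.swap) ?_ ?_ (fun _ _ => Finset.mem_univ _)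
    (fun _ _ => Prod.swap_swap _)
  · intro p _
    simp only [Prod.fst_swap, Prod.snd_swap]
    linear_combination (v p.1 * v p.2) * ho p.1 p.2
  · intro p _ hp he
    apply hp
    have h : p.2 = p.1 := congrArg Prod.fst he
    rw [h, hd]; simp

theorem map_preserves {a c : F}
    (g : ↥(Cfsg.isometryGroup F (Cfsg.quadFormMinus k F a c)))
    (v : (Fin k ⊕ Fin k) ⊕ Fin 2 → K) :
    Cfsg.quadFormMinus k K (algebraMap F K a) (algebraMap F K c)
      ((g.1.1.map (algebraMap F K)) *ᵥ v) =
    Cfsg.quadFormMinus k K (algebraMap F K a) (algebraMap F K c) v := by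
  classical
  set G : Matrix _ _ F := g.1.1 with hG
  set M := Gᵀ * gram k F a c * G - gram k F a c with hM
  have hquad : ∀ w, w ⬝ᵥ (M *ᵥ w) = 0 := by
    intro w
    have := Lib.Forms.isometryGroup_apply g w
    rw [quadFormMinus_eq, quadFormMinus_eq, dotProduct_comm, ← hG, dotProduct_mulVec,
      dotProduct_comm, ← mulVec_transpose, mulVec_mulVec, mulVec_mulVec, dotProduct_comm] at this
    rw [hM, sub_mulVec, dotProduct_sub, sub_eq_zero]
    rw [dotProduct_comm] at this ⊢
    convert this using 1 <;> simp [mul_assoc, dotProduct_comm]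
  have hd : ∀ i, M i i = 0 := fun i => by
    simpa [Matrix.mulVec_single] using hquad (Pi.single i 1)
  have ho : ∀ i j, M i j + M j i = 0 := fun i j => by
    have h := hquad (Pi.single i 1 + Pi.single j 1)
    simp [mulVec_add, dotProduct_add, add_dotProduct, Matrix.mulVec_single, hd] at h
    linear_combination h
  have hgram : gram k K (algebraMap F K a) (algebraMap F K c) =
      (gram k F a c).map (algebraMap F K) := by
    ext i j
    rcases i with (i | i) | i <;> rcases j with (j | j) | j <;>
      simp [gram, Matrix.one_apply, apply_ite (algebraMap F K)]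
    fin_cases i <;> fin_cases j <;> simp
  have hM' : M.map (algebraMap F K) = (G.map (algebraMap F K))ᵀ *
      gram k K (algebraMap F K a) (algebraMap F K c) * G.map (algebraMap F K) -
      gram k K (algebraMap F K a) (algebraMap F K c) := by
    rw [hM, hgram, Matrix.map_sub _ (map_sub _), Matrix.map_mul, Matrix.map_mul,
      Matrix.transpose_map]
  have h0 := dot_mulVec_eq_zero (M.map (algebraMap F K)) (fun i => by simp [hd])
    (fun i j => by simp [← map_add, ho]) v
  rw [hM', sub_mulVec, dotProduct_sub, sub_eq_zero] at h0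
  rw [quadFormMinus_eq, quadFormMinus_eq, ← h0]
  rw [← mulVec_mulVec, ← mulVec_mulVec, dotProduct_mulVec v, vecMul_transpose]

variable [Fintype F] [Fintype K]

theorem exists_root (hK : Fintype.card K = Fintype.card F ^ 2) (a c : F)
    (hac : ∀ z₁ z₂ : F, z₁ ^ 2 + a * z₁ * z₂ + c * z₂ ^ 2 = 0 → z₁ = 0 ∧ z₂ = 0) :
    ∃ α β : K, α ≠ β ∧ α + β = -algebraMap F K a ∧ α * β = algebraMap F K c := by
  classical
  haveI : Module.Finite F K := Module.Finite.of_finite
  let P : Polynomial F :=
    Polynomial.C 1 * Polynomial.X ^ 2 + Polynomial.C a * Polynomial.X + Polynomial.C c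
  have hP2 : P.natDegree = 2 := Polynomial.natDegree_quadratic one_ne_zero
  have hPirr : Irreducible P := by
    refine (Polynomial.irreducible_iff_roots_eq_zero_of_degree_le_three (by omega) (by omega)).mpr ?_
    rw [Multiset.eq_zero_iff_forall_notMem]
    intro x hx
    have hx' := (Polynomial.mem_roots'.mp hx).2
    simp [P, Polynomial.IsRoot] at hx'
    exact one_ne_zero (hac x 1 (by linear_combination hx')).2
  haveI := Fact.mk hPirr
  have hfin : Module.finrank F (AdjoinRoot P) = 2 := by
    rw [(AdjoinRoot.powerBasis hPirr.ne_zero).finrank, AdjoinRoot.powerBasis_dim, hP2]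
  obtain ⟨φ⟩ := FiniteField.nonempty_algHom_of_finrank_dvd (F := F) (K := AdjoinRoot P) (L := K)
    (by rw [hfin, Lib.FieldDescent.finrank_of_card_eq_pow hK])
  set α := φ (AdjoinRoot.root P) with hα
  have hroot : α ^ 2 + algebraMap F K a * α + algebraMap F K c = 0 := by
    have h0 : Polynomial.aeval (AdjoinRoot.root P) P = 0 := by
      rw [AdjoinRoot.aeval_eq, AdjoinRoot.mk_self]
    have := congrArg φ h0
    rw [← Polynomial.aeval_algHom_apply, map_zero] at this
    simpa [P, ← hα] using this
  refine ⟨α, -algebraMap F K a - α, fun he => ?_, by ring, by linear_combination -hroot⟩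
  have h2α : 2 * α = -algebraMap F K a := by linear_combination he
  by_cases h2 : (2 : F) = 0
  · have ha : a = 0 := (algebraMap F K).injective (by
      rw [map_zero]
      have : (2 : K) = 0 := by rw [← map_ofNat (algebraMap F K) 2, h2, map_zero]
      linear_combination h2α - α * this)
    haveI : CharP F 2 := CharTwo.of_one_ne_zero_of_two_eq_zero one_ne_zero h2
    obtain ⟨s, hs⟩ := FiniteField.isSquare_of_char_two (CharP.eq F (ringChar.charP F) this) c
    refine one_ne_zero (hac s 1 ?_).2
    rw [ha, hs]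
    linear_combination (s * s) * h2
  · have hx : algebraMap F K (-a / 2) = α := by
      have h2K : (2 : K) ≠ 0 := by
        rw [← map_ofNat (algebraMap F K) 2]
        simpa using h2
      rw [map_div₀, map_neg, map_ofNat, div_eq_iff h2K, ← h2α]; ring
    rw [← hx, ← map_pow, ← map_mul, ← map_add, ← map_add, map_eq_zero] at hroot
    exact one_ne_zero (hac (-a / 2) 1 (by linear_combination hroot)).2

omit [Fintype F] [Fintype K] [Algebra F K] in
/-- Change of variables splitting the binary part. -/
noncomputable def split (α β : K) :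
    ((Fin k ⊕ Fin k) ⊕ Fin 2 → K) →ₗ[K] (Fin (k + 1) ⊕ Fin (k + 1) → K) where
  toFun v := Sum.elim
    (Fin.lastCases (v (.inr 0) - α * v (.inr 1)) fun i => v (.inl (.inl i)))
    (Fin.lastCases (v (.inr 0) - β * v (.inr 1)) fun i => v (.inl (.inr i)))
  map_add' u v := by
    funext s
    rcases s with i | i <;> induction i using Fin.lastCases <;> simp <;> ring
  map_smul' r v := by
    funext s
    rcases s with i | i <;> induction i using Fin.lastCases <;> simp <;> ring

omit [Fintype F] [Fintype K] [Algebra F K] in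
theorem split_injective {α β : K} (h : α ≠ β) : Function.Injective (split (k := k) α β) := by
  rw [injective_iff_map_eq_zero]
  intro v hv
  have h1 := congrFun hv (.inl (Fin.last k))
  have h2 := congrFun hv (.inr (Fin.last k))
  simp [split] at h1 h2
  have hz : v (.inr 1) = 0 := by
    have : (α - β) * v (.inr 1) = 0 := by linear_combination h2 - h1
    exact (mul_eq_zero.mp this).resolve_left (sub_ne_zero.mpr h)
  funext s
  rcases s with (i | i) | i
  · simpa [split] using congrFun hv (.inl i.castSucc)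
  · simpa [split] using congrFun hv (.inr i.castSucc)
  · fin_cases i
    · simp [hz] at h1; exact h1
    · exact hz

theorem exists_emb (hK : Fintype.card K = Fintype.card F ^ 2) (a c : F)
    (hac : ∀ z₁ z₂ : F, z₁ ^ 2 + a * z₁ * z₂ + c * z₂ ^ 2 = 0 → z₁ = 0 ∧ z₂ = 0) :
    ∃ φ : ↥(Cfsg.isometryGroup F (Cfsg.quadFormMinus k F a c)) →*
      ↥(Cfsg.isometryGroup K (Cfsg.quadFormPlus (k + 1) K)), Function.Injective φ := by
  classical
  obtain ⟨α, β, hne, hsum, hprod⟩ := exists_root hK a c hac
  let L := LinearEquiv.ofBijective (split (k := k) α β)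
    ⟨split_injective hne, (LinearMap.injective_iff_surjective_of_finrank_eq_finrank
      (by simp only [Module.finrank_pi, Fintype.card_sum, Fintype.card_fin]; omega)).mp
      (split_injective hne)⟩
  have hQ : ∀ v, Cfsg.quadFormPlus (k + 1) K (L v) =
      Cfsg.quadFormMinus k K (algebraMap F K a) (algebraMap F K c) v := fun v => by
    show Cfsg.quadFormPlus (k + 1) K (split α β v) = _
    simp [Cfsg.quadFormPlus, Cfsg.quadFormMinus, split, Fin.sum_univ_castSucc]
    linear_combination -(v (.inr 0) * v (.inr 1)) * hsum + v (.inr 1) ^ 2 * hprod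
  let E : ↥(Cfsg.isometryGroup F (Cfsg.quadFormMinus k F a c)) →*
      (((Fin k ⊕ Fin k) ⊕ Fin 2 → K) ≃ₗ[K] ((Fin k ⊕ Fin k) ⊕ Fin 2 → K)) :=
    (Lib.Forms.glEquiv _ K).toMonoidHom.comp
      ((Matrix.GeneralLinearGroup.map (algebraMap F K)).comp (Subgroup.subtype _))
  have hE : ∀ g v, E g v = g.1.1.map (algebraMap F K) *ᵥ v := fun g v => rfl
  have hmem : ∀ g w, Cfsg.quadFormPlus (k + 1) K ((L.symm.trans (E g)).trans L w) =
      Cfsg.quadFormPlus (k + 1) K w := fun g w => by
    rw [LinearEquiv.trans_apply, LinearEquiv.trans_apply, hQ, hE, map_preserves, ← hQ,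
      LinearEquiv.apply_symm_apply]
  refine ⟨MonoidHom.mk' (fun g => Lib.Forms.isoMk ((L.symm.trans (E g)).trans L) (hmem g)) ?_, ?_⟩
  · intro g h
    refine Lib.Forms.isoToEquiv_injective _ ?_
    simp only [map_mul, Lib.Forms.isoToEquiv_isoMk]
    refine LinearEquiv.ext fun w => ?_
    simp
  · intro g h hgh
    have h' := congrArg (Lib.Forms.isoToEquiv _) hgh
    simp only [MonoidHom.mk'_apply, Lib.Forms.isoToEquiv_isoMk] at h'
    have hEgh : E g = E h := LinearEquiv.ext fun v => by
      simpa using LinearEquiv.congr_fun h' (L v)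
    have h1 := (Lib.Forms.glEquiv _ K).injective hEgh
    apply Subtype.ext
    apply Units.ext
    exact Matrix.map_injective (algebraMap F K).injective (congrArg Units.val h1)

end

/-- An elliptic orthogonal group embeds in the hyperbolic orthogonal group of the same dimension over the quadratic extension: for a field F with q elements and a field K with q² elements there is an injective homomorphism from O⁻_2m(F) (isometries of Σ_(j<m−1) x_j y_j + z₁² + a z₁z₂ + c z₂², binary part anisotropic) to O⁺_2m(K) (isometries of Σ_(j<m) x_j y_j over K). -/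
theorem result {F K : Type*} [Field F] [Fintype F] [Field K] [Fintype K] {q : ℕ} (hF : Fintype.card F = q) (hK : Fintype.card K = q ^ 2) {m : ℕ} (hm : 1 ≤ m) (a c : F) (hac : ∀ z₁ z₂ : F, z₁ ^ 2 + a * z₁ * z₂ + c * z₂ ^ 2 = 0 → z₁ = 0 ∧ z₂ = 0) : ∃ φ : ↥(Cfsg.isometryGroup F (Cfsg.quadFormMinus (m - 1) F a c)) →* ↥(Cfsg.isometryGroup K (Cfsg.quadFormPlus m K)), Function.Injective φ := by
  subst hF
  obtain ⟨k, rfl⟩ : ∃ k, m = k + 1 := ⟨m - 1, by omega⟩
  obtain ⟨ι⟩ := Lib.FieldDescent.exists_ringHom_of_card_eq_pow hK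
  letI : Algebra F K := ι.toAlgebra
  exact exists_emb hK a c hac

end Cfsg.Agent.S2679
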