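import Cfsg.Statements.S2680
import Cfsg.Agent.Lib.FormConj.SympInvolutionCentraliser
-- import your own Cfsg.Agent.* helpers here

set_option autoImplicit false
open Cfsg

namespace Cfsg.Agent.S2680

/-- Centraliser order of an involution t of Sp_2m(q), q even, with s = rank(t − 1) odd (type b_s): |C(t)| = q^(2ms − (3s² − s)/2) · |Sp_(s−1)(q)| · |Sp_(2m−2s)(q)|, where |Sp_2k(q)| = q^(k²) Π_(i=1)^k (q^(2i) − 1). -/
theorem result {F : Type*} [Field F] [Fintype F] [CharP F 2] {q : ℕ} (hF : Fintype.card F = q) {m s : ℕ} (t : Matrix.symplecticGroup (Fin m) F) (ht : t ^ 2 = 1) (hs : ((t : Matrix (Fin m ⊕ Fin m) (Fin m ⊕ Fin m) F) - 1).rank = s) (hodd : Odd s) : Nat.card ↥(Subgroup.centralizer ({t} : Set ↥(Matrix.symplecticGroup (Fin m) F))) = q ^ (2 * m * s - (3 * s ^ 2 - s) / 2) * ((q : ℕ) ^ (((s - 1) / 2) ^ 2) * ∏ i : Fin ((s - 1) / 2), (q ^ (2 * ((i : ℕ) + 1)) - 1)) * ((q : ℕ) ^ ((m - s) ^ 2) * ∏ i : Fin (m - s), (q ^ (2 * ((i : ℕ) + 1)) -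 1)) := by
  subst hF
  obtain ⟨hsm, ε, he, -, hC⟩ := Cfsg.Agent.Lib.FormConj.InvCentraliser.natCard_symp_centraliser t ht hs
  obtain ⟨k, rfl⟩ := hodd
  cases ε with
  | true => exact absurd (he rfl) (by simp [Nat.even_iff])
  | false =>
    have h : 2 * k + 1 = k + k + 1 := by omega
    rw [h] at hC hsm ⊢
    rw [hC, Cfsg.Agent.Lib.FormConj.InvCentraliser.natCard_typeGroup_odd, Nat.card_eq_fintype_card, show (k + k + 1 - 1) / 2 = k by omega,
      Fin.prod_univ_eq_prod_range (fun i => Fintype.card F ^ (2 * (i + 1)) - 1),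
      Fin.prod_univ_eq_prod_range (fun i => Fintype.card F ^ (2 * (i + 1)) - 1)]
    have hexp : 2 * (m - (k + k + 1)) * (k + k + 1) + (k + k + 1 + 1).choose 2
        = 2 * m * (k + k + 1) - (3 * (k + k + 1) ^ 2 - (k + k + 1)) / 2 := by
      obtain ⟨l, rfl⟩ := Nat.exists_eq_add_of_le hsm
      generalize k + k + 1 = s at hsm ⊢
      rw [Nat.add_sub_cancel_left, Nat.choose_two_right, Nat.add_sub_cancel]
      have e : (s + 1) * s = s * s + s := by ring
      have e2 : 2 * (s + l) * s = 2 * l * s + 2 * (s * s) := by ring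
      rw [e, e2, pow_two]
      have := Nat.le_mul_self s
      have : (s * s + s) % 2 = 0 := by rw [← e, mul_comm]; exact Nat.even_iff.1 (Nat.even_mul_succ_self s)
      omega
    rw [hexp]
    ring

end Cfsg.Agent.S2680
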