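import Cfsg.Statements.S2681
import Cfsg.Agent.Lib.FormConj.SympInvolutionCentraliser
-- import your own Cfsg.Agent.* helpers here

set_option autoImplicit false
open Cfsg

namespace Cfsg.Agent.S2681

/-- Centraliser order of an involution t of Sp_2m(q), q even, with s = rank(t − 1) even and f(v, tv) = 0 for every v, f the symplectic form (type a_s): |C(t)| = q^(2ms − (3s² − s)/2) · |Sp_s(q)| · |Sp_(2m−2s)(q)|. -/
theorem result {F : Type*} [Field F] [Fintype F] [CharP F 2] {q : ℕ} (hF : Fintype.card F = q) {m s : ℕ} (t : Matrix.symplecticGroup (Fin m) F) (ht : t ^ 2 = 1) (ht1 : t ≠ 1) (hs : ((t : Matrix (Fin m ⊕ Fin m) (Fin m ⊕ Fin m) F) - 1).rank = s) (heven : Even s) (halt : ∀ v : Fin m ⊕ Fin m → F, Cfsg.sympForm m F v ((t : Matrix (Fin m ⊕ Fin m) (Fin m ⊕ Fin m) F).mulVec v) = 0) : Nat.card ↥(Subgroup.centralizer ({t} : Set ↥(Matrix.symplecticGroup (Fin m) F))) = q ^ (2 * m * s - (3 * s ^ 2 - s) / 2) * ((q : ℕ) ^ ((s / 2) ^ 2) * ∏ i : Fin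 (s / 2), (q ^ (2 * ((i : ℕ) + 1)) - 1)) * ((q : ℕ) ^ ((m - s) ^ 2) * ∏ i : Fin (m - s), (q ^ (2 * ((i : ℕ) + 1)) - 1)) := by
  subst hF
  obtain ⟨hsm, ε, he, hty, hC⟩ := Cfsg.Agent.Lib.FormConj.InvCentraliser.natCard_symp_centraliser t ht hs
  obtain ⟨k, rfl⟩ := heven
  have h1 : 1 ≤ k + k := by
    by_contra h0
    apply ht1
    have hk : k + k = 0 := by omega
    rw [hk, Matrix.rank, Submodule.finrank_eq_zero, LinearMap.range_eq_bot] at hs
    refine Subtype.ext (sub_eq_zero.1 (Matrix.ext_of_mulVec_single fun i => ?_))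
    rw [← Matrix.mulVecLin_apply, OneMemClass.coe_one, hs]
    ext a
    simp [Matrix.mulVec, Pi.single_apply, Matrix.one_apply, eq_comm]
  obtain rfl : ε = true := (hty h1).2 halt
  rw [hC, Cfsg.Agent.Lib.FormConj.InvCentraliser.natCard_typeGroup_true, Nat.card_eq_fintype_card,
    show (k + k) / 2 = k by omega,
    Fin.prod_univ_eq_prod_range (fun i => Fintype.card F ^ (2 * (i + 1)) - 1),
    Fin.prod_univ_eq_prod_range (fun i => Fintype.card F ^ (2 * (i + 1)) - 1)]
  have hexp : 2 * (m - (k + k)) * (k + k) + (k + k + 1).choose 2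
      = 2 * m * (k + k) - (3 * (k + k) ^ 2 - (k + k)) / 2 := by
    obtain ⟨l, rfl⟩ := Nat.exists_eq_add_of_le hsm
    generalize k + k = s at hsm ⊢
    rw [Nat.add_sub_cancel_left, Nat.choose_two_right, Nat.add_sub_cancel]
    have e : (s + 1) * s = s * s + s := by ring
    have e2 : 2 * (s + l) * s = 2 * l * s + 2 * (s * s) := by ring
    rw [e, e2, pow_two]
    have := Nat.le_mul_self s
    have : (s * s + s) % 2 = 0 := by rw [← e, mul_comm]; exact Nat.even_iff.1 (Nat.even_mul_succ_self s)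
    omega
  rw [hexp]
  ring

end Cfsg.Agent.S2681
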