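import Cfsg.Statements.S2682
import Cfsg.Agent.Lib.FormConj.SympInvolutionCentraliser
-- import your own Cfsg.Agent.* helpers here

set_option autoImplicit false
open Cfsg

namespace Cfsg.Agent.S2682

/-- Centraliser order of an involution t of Sp_2m(q), q even, with s = rank(t − 1) even and f(v, tv) ≠ 0 for some v, f the symplectic form (type c_s): |C(t)| = q^(2ms − (3s² − 3s)/2 − 1) · |Sp_(s−2)(q)| · |Sp_(2m−2s)(q)|. -/
theorem result {F : Type*} [Field F] [Fintype F] [CharP F 2] {q : ℕ} (hF : Fintype.card F = q) {m s : ℕ} (t : Matrix.symplecticGroup (Fin m) F) (ht : t ^ 2 = 1) (hs : ((t : Matrix (Fin m ⊕ Fin m) (Fin m ⊕ Fin m) F) - 1).rank = s) (heven : Even s) (hna : ∃ v : Fin m ⊕ Fin m → F, Cfsg.sympForm m F v ((t : Matrix (Fin m ⊕ Fin m) (Fin m ⊕ Fin m) F).mulVec v) ≠ 0) : Nat.card ↥(Subgroup.centralizer ({t} : Set ↥(Matrix.symplecticGroup (Fin m) F))) = q ^ (2 * m * s - (3 * s ^ 2 - 3 * s) / 2 - 1) * ((q : ℕ) ^ (((s - 2)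 / 2) ^ 2) * ∏ i : Fin ((s - 2) / 2), (q ^ (2 * ((i : ℕ) + 1)) - 1)) * ((q : ℕ) ^ ((m - s) ^ 2) * ∏ i : Fin (m - s), (q ^ (2 * ((i : ℕ) + 1)) - 1)) := by
  subst hF
  obtain ⟨hsm, ε, he, hty, hC⟩ := Cfsg.Agent.Lib.FormConj.InvCentraliser.natCard_symp_centraliser t ht hs
  obtain ⟨v, hv⟩ := hna
  have h1 : 1 ≤ s := by
    by_contra h0
    apply hv
    rw [show s = 0 by omega, Matrix.rank, Submodule.finrank_eq_zero, LinearMap.range_eq_bot] at hs
    have hT : (t : Matrix (Fin m ⊕ Fin m) (Fin m ⊕ Fin m) F).mulVec v = v := by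
      rw [← sub_eq_zero]
      refine Eq.trans ?_ (LinearMap.congr_fun hs v)
      rw [Matrix.mulVecLin_apply, Matrix.sub_mulVec, Matrix.one_mulVec]
    rw [hT, Cfsg.Agent.Lib.FormConj.InvCentraliser.sympForm_eq]
    exact (Cfsg.Agent.Lib.Classical.isSympForm_std m).alt v
  obtain rfl : ε = false := by
    cases ε with
    | true => exact absurd ((hty h1).1 rfl v) hv
    | false => rfl
  obtain ⟨k, rfl⟩ : ∃ k, s = k + k + 2 := by
    obtain ⟨j, rfl⟩ := heven
    exact ⟨j - 1, by omega⟩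
  rw [hC, Cfsg.Agent.Lib.FormConj.InvCentraliser.natCard_typeGroup_even, Nat.card_eq_fintype_card,
    show (k + k + 2 - 2) / 2 = k by omega,
    Fin.prod_univ_eq_prod_range (fun i => Fintype.card F ^ (2 * (i + 1)) - 1),
    Fin.prod_univ_eq_prod_range (fun i => Fintype.card F ^ (2 * (i + 1)) - 1)]
  have hexp : k + k + 1 + (2 * (m - (k + k + 2)) * (k + k + 2) + (k + k + 2 + 1).choose 2)
      = 2 * m * (k + k + 2) - (3 * (k + k + 2) ^ 2 - 3 * (k + k + 2)) / 2 - 1 := by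
    obtain ⟨l, rfl⟩ := Nat.exists_eq_add_of_le hsm
    have hs1 : k + k + 1 = k + k + 2 - 1 := rfl
    rw [hs1]
    generalize k + k + 2 = s at hsm h1 ⊢
    rw [Nat.add_sub_cancel_left, Nat.choose_two_right, Nat.add_sub_cancel]
    have e : (s + 1) * s = s * s + s := by ring
    have e2 : 2 * (s + l) * s = 2 * l * s + 2 * (s * s) := by ring
    rw [e, e2, pow_two]
    have := Nat.le_mul_self s
    have : (s * s + s) % 2 = 0 := by rw [← e, mul_comm]; exact Nat.even_iff.1 (Nat.even_mul_succ_self s)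
    omega
  rw [← hexp]
  ring

end Cfsg.Agent.S2682
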