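import Cfsg.Statements.S2684
import Cfsg.Agent.Lib.FormConj.OmegaPlusInvolutionCentraliser
-- import your own Cfsg.Agent.* helpers here

set_option autoImplicit false
open Cfsg

namespace Cfsg.Agent.S2684

/-- For the hyperbolic form Q = Σ x_j y_j on F^(2m) over a finite field with q elements, q even (excluding m = 2 over the field of two elements), and an involution x ≠ 1 of the orthogonal group with s = rank(x − 1) even and Q vanishing on the image of x − 1 (equivalently f(v, xv) = 0 for all v, where f(u, w) = Q(u + w) − Q(u) − Q(w) is the bilinear form of Q; type a_s, which lies in Ω): its centraliser in Ω (the commutator subgroup of the orthogonal group) has order q^(2ms − (3s² + s)/2) · |Sp_s(q)| · |Ω⁺_(2m−2s)(q)|, where |Ω⁺_2k(q)| = q^(k(k−1)) (q^k − 1) Π_(i=1)^(k−1) (q^(2i) − 1) for k ≥ 1 and the last factor is 1 when s = m. -/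
theorem result {F : Type*} [Field F] [Fintype F] [CharP F 2] {q : ℕ} (hF : Fintype.card F = q) {m s : ℕ} (h : Fintype.card F ≠ 2 ∨ m ≠ 2) (x : ↥(Cfsg.isometryGroup F (Cfsg.quadFormPlus m F))) (hx : x ^ 2 = 1) (hx1 : x ≠ 1) (hs : (((x : Matrix.GeneralLinearGroup (Fin m ⊕ Fin m) F) : Matrix (Fin m ⊕ Fin m) (Fin m ⊕ Fin m) F) - 1).rank = s) (heven : Even s) (halt : ∀ v : Fin m ⊕ Fin m → F, Cfsg.quadFormPlus m F ((((x : Matrix.GeneralLinearGroup (Fin m ⊕ Fin m) F) : Matrix (Fin m ⊕ Fin m) (Fin m ⊕ Fin m) F) - 1).mulVec v) = 0) : Nat.card {g : ↥(Cfsg.Omega F (Cfsg.quadFormPlus m F)) // (g : ↥(Cfsg.isometryGroup F (Cfsg.quadFormPlus m F))) * x = x * (g : ↥(Cfsg.isometryGroup F (Cfsg.quadFormPlus m F)))} = q ^ (2 * m * s - (3 * s ^ 2 + s) / 2) * ((q : ℕ) ^ ((s / 2) ^ 2) * ∏ i : Fin (s / 2), (q ^ (2 * ((i : ℕ) + 1)) - 1)) * (if s = m then 1 else q ^ ((m - s) * (m - s - 1)) * (q ^ (m - s) - 1) * ∏ i : Fin (m - s - 1), (q ^ (2 * ((i : ℕ) + 1)) - 1))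 := by
  subst hF
  revert x
  rw [← Cfsg.Agent.Lib.StdForms.coe_plusQ]
  intro x hx hx1 hs halt
  obtain ⟨hsm, ε, r, hr, he, hv, happ, hty⟩ :=
    Cfsg.Agent.Lib.FormConj.InvCentraliser.exists_plus_data x hx hs
  have h1 : 1 ≤ s := by
    by_contra h0
    obtain rfl : s = 0 := by omega
    apply hx1
    refine (Cfsg.Agent.Lib.InvolutionTwo.orthSetting _
      (Cfsg.Agent.Lib.StdForms.plusQ_nondegenerate (F := F) m)).act_injective (LinearEquiv.ext fun v => ?_)
    rw [Cfsg.Agent.Lib.InvolutionTwo.act_eq_app, happ, map_one,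
      Cfsg.Agent.Lib.InvolutionTwo.nilMap_apply]
    simp
  obtain rfl : ε = true := (hty h1).2 halt
  obtain ⟨l, rfl⟩ := Nat.exists_eq_add_of_le hsm
  have hC := Cfsg.Agent.Lib.FormConj.InvCentraliser.natCard_omega_centraliser_true
    (by rwa [Nat.card_eq_fintype_card]) x h1 heven hr hv happ
  obtain ⟨k, rfl⟩ := heven
  rw [Cfsg.Agent.Lib.FormConj.InvCentraliser.natCard_typeGroup_true, Nat.card_eq_fintype_card (α := F)] at hC
  have hexp : 2 * (k + k + l) * (k + k) - (3 * (k + k) ^ 2 + (k + k)) / 2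
      = 2 * l * (k + k) + (k + k).choose 2 := by
    rw [Nat.choose_two_right]
    generalize k + k = a at h1 ⊢
    obtain ⟨b, rfl⟩ : ∃ b, a = b + 1 := ⟨a - 1, by omega⟩
    have e1 : (b + 1) * (b + 1 - 1) = b * b + b := by rw [Nat.add_sub_cancel]; ring
    have e2 : 2 * (b + 1 + l) * (b + 1) = 2 * l * (b + 1) + 2 * (b * b) + 4 * b + 2 := by ring
    have e3 : 3 * (b + 1) ^ 2 = 3 * (b * b) + 6 * b + 3 := by ring
    have e4 : (b * b + b) % 2 = 0 := by
      rw [show b * b + b = b * (b + 1) by ring]; exact Nat.even_iff.1 (Nat.even_mul_succ_self b)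
    rw [e1, e2, e3]
    omega
  rw [hexp, Nat.add_sub_cancel_left, show (k + k) / 2 = k by omega,
    Fin.prod_univ_eq_prod_range (fun i => Fintype.card F ^ (2 * (i + 1)) - 1)]
  by_cases hl : l = 0
  · subst hl
    have h0 : Nat.card (Cfsg.isometryGroup F (Cfsg.quadFormPlus 0 F)) = 1 := by
      refine Nat.card_eq_one_iff_unique.2 ⟨⟨fun a b => Subtype.ext (Units.ext ?_)⟩, inferInstance⟩
      exact Subsingleton.elim _ _
    rw [if_pos rfl, h0] at hC
    rw [if_pos (by omega)]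
    simp only [one_mul, mul_one] at hC ⊢
    rw [hC]
    ring
  · obtain ⟨j, rfl⟩ : ∃ j, l = j + 1 := ⟨l - 1, by omega⟩
    rw [if_neg hl, Cfsg.Agent.Lib.Classical.natCard_isometryGroup_plus j,
      Nat.card_eq_fintype_card (α := F)] at hC
    rw [if_neg (by omega), Nat.add_sub_cancel,
      Fin.prod_univ_eq_prod_range (fun i => Fintype.card F ^ (2 * (i + 1)) - 1)]
    apply Nat.eq_of_mul_eq_mul_left (n := 2) (by norm_num)
    rw [hC]
    ring

end Cfsg.Agent.S2684
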