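import Cfsg.Statements.S2685
import Cfsg.Agent.Lib.FormConj.OmegaPlusInvolutionCentraliser
-- import your own Cfsg.Agent.* helpers here

set_option autoImplicit false
open Cfsg

namespace Cfsg.Agent.S2685

/-- For the hyperbolic form Q = Σ x_j y_j on F^(2m) over a finite field with q elements, q even (excluding m = 2 over the field of two elements), and an involution x of the orthogonal group with s = rank(x − 1) even and Q not vanishing on the image of x − 1 (f(v, xv) ≠ 0 for some v, where f(u, w) = Q(u + w) − Q(u) − Q(w) is the bilinear form of Q; type c_s, which lies in Ω): its centraliser in Ω (the commutator subgroup of the orthogonal group) has order q^(2m(s−1) − (3s² − 5s)/2 − 1) · |Sp_(s−2)(q)| · |Sp_(2m−2s)(q)|. -/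
theorem result {F : Type*} [Field F] [Fintype F] [CharP F 2] {q : ℕ} (hF : Fintype.card F = q) {m s : ℕ} (h : Fintype.card F ≠ 2 ∨ m ≠ 2) (x : ↥(Cfsg.isometryGroup F (Cfsg.quadFormPlus m F))) (hx : x ^ 2 = 1) (hs : (((x : Matrix.GeneralLinearGroup (Fin m ⊕ Fin m) F) : Matrix (Fin m ⊕ Fin m) (Fin m ⊕ Fin m) F) - 1).rank = s) (heven : Even s) (hna : ∃ v : Fin m ⊕ Fin m → F, Cfsg.quadFormPlus m F ((((x : Matrix.GeneralLinearGroup (Fin m ⊕ Fin m) F) : Matrix (Fin m ⊕ Fin m) (Fin m ⊕ Fin m) F) - 1).mulVec v) ≠ 0) : Nat.card {g : ↥(Cfsg.Omega F (Cfsg.quadFormPlus m F)) // (g : ↥(Cfsg.isometryGroup F (Cfsg.quadFormPlus m F))) * x = x * (g : ↥(Cfsg.isometryGroup F (Cfsg.quadFormPlus m F)))} = q ^ (2 * m * (s - 1) - (3 * s ^ 2 - 5 * s) / 2 - 1) * ((q : ℕ) ^ (((s - 2) / 2) ^ 2) * ∏ i : Fin ((s - 2) / 2), (q ^ (2 * ((i : ℕ) + 1)) - 1)) * ((q : ℕ) ^ ((m - s) ^ 2) * ∏ i : Fin (m - s), (q ^ (2 * ((i : ℕ) + 1)) - 1)) := by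
  subst hF
  revert x
  rw [← Cfsg.Agent.Lib.StdForms.coe_plusQ]
  intro x hx hs hna
  obtain ⟨hsm, ε, r, hr, he, hv, happ, hty⟩ :=
    Cfsg.Agent.Lib.FormConj.InvCentraliser.exists_plus_data x hx hs
  obtain ⟨v, hv0⟩ := hna
  have h1 : 1 ≤ s := by
    by_contra h0
    obtain rfl : s = 0 := by omega
    apply hv0
    rw [Matrix.sub_mulVec, Matrix.one_mulVec,
      show ((x : Matrix.GeneralLinearGroup (Fin m ⊕ Fin m) F) :
        Matrix (Fin m ⊕ Fin m) (Fin m ⊕ Fin m) F).mulVec v = v from (happ v).trans (by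
          simp [Cfsg.Agent.Lib.InvolutionTwo.nilMap_apply]), sub_self]
    exact QuadraticMap.map_zero _
  obtain rfl : ε = false := by
    cases ε with
    | true => exact absurd ((hty h1).1 rfl v) hv0
    | false => rfl
  obtain ⟨k, rfl⟩ : ∃ k, s = k + k + 2 := by
    obtain ⟨j, rfl⟩ := heven
    exact ⟨j - 1, by omega⟩
  rw [Cfsg.Agent.Lib.FormConj.InvCentraliser.natCard_omega_centraliser_false
      (n := k + k + 1) (by rwa [Nat.card_eq_fintype_card]) x hsm hr hv happ,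
    Cfsg.Agent.Lib.FormConj.InvCentraliser.natCard_typeGroup_even, Nat.card_eq_fintype_card,
    show (k + k + 2 - 2) / 2 = k by omega,
    show k + k + 1 + 1 = k + k + 2 from rfl,
    Fin.prod_univ_eq_prod_range (fun i => Fintype.card F ^ (2 * (i + 1)) - 1),
    Fin.prod_univ_eq_prod_range (fun i => Fintype.card F ^ (2 * (i + 1)) - 1)]
  have hexp : k + k + 1 + (2 * (m - (k + k + 2)) * (k + k + 1) + (k + k + 2).choose 2)
      = 2 * m * (k + k + 2 - 1) - (3 * (k + k + 2) ^ 2 - 5 * (k + k + 2)) / 2 - 1 := by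
    obtain ⟨l, rfl⟩ := Nat.exists_eq_add_of_le hsm
    rw [Nat.add_sub_cancel_left, Nat.choose_two_right, show k + k + 2 - 1 = k + k + 1 from rfl]
    generalize k + k = a
    have e1 : (a + 2) * (a + 1) = a * a + 3 * a + 2 := by ring
    have e2 : 2 * (a + 2 + l) * (a + 1) = 2 * l * (a + 1) + 2 * (a * a) + 6 * a + 4 := by ring
    have e3 : 3 * (a + 2) ^ 2 = 3 * (a * a) + 12 * a + 12 := by ring
    have e4 : (a * a + a) % 2 = 0 := by
      rw [show a * a + a = a * (a + 1) by ring]; exact Nat.even_iff.1 (Nat.even_mul_succ_self a)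
    rw [e1, e2, e3]
    omega
  rw [← hexp]
  ring

end Cfsg.Agent.S2685
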