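import Cfsg.Statements.S2697
import Cfsg.Agent.Lib.PSLAut.GraphField

set_option autoImplicit false
open Cfsg

namespace Cfsg.Agent.S2697

/-- Let T = PSL_n(F) be simple over a finite field (n ≥ 2; |F| ≥ 4 when n = 2) and let x be a field automorphism or a graph-field automorphism of T of prime order r. Then an element y of the coset Inndiag(T)·x (that is, y = δ x with δ in the inner-diagonal group, the image of PGL_n(F)) has order r if and only if y is conjugate to x by an element of Inndiag(T). -/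
theorem result {F : Type*} [Field F] [Fintype F] {p f : ℕ} [Fact p.Prime] (hF : Fintype.card F = p ^ f) (hf : 1 ≤ f) {n : ℕ} (hn : 2 ≤ n) (hs : n = 2 → 4 ≤ Fintype.card F) (x δ : MulAut (Matrix.ProjectiveSpecialLinearGroup (Fin n) F)) (hx : Cfsg.IsFieldAutClassPSL x ∨ Cfsg.IsGraphFieldAutClassPSL x) {r : ℕ} (hr : r.Prime) (hxr : orderOf x = r) (hδ : δ ∈ Cfsg.inndiagPSL n F) :
    orderOf (δ * x) = r ↔ Cfsg.IsConjUnder (Cfsg.inndiagPSL n F) x (δ * x) := by
  constructor
  · intro hy
    rw [Lib.PSLAut.inndiagPSL_eq_range] at hδ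
    have key : ∀ α x₀ : MulAut (Lib.PSLAut.PSLn n F), α * x * α⁻¹ = x₀ →
        (∀ g : GL (Fin n) F, orderOf (Lib.PSLAut.conj g * x₀) = r →
          ∃ k : GL (Fin n) F, Lib.PSLAut.conj g * x₀ = Lib.PSLAut.conj k * x₀ * (Lib.PSLAut.conj k)⁻¹) →
        Cfsg.IsConjUnder (Cfsg.inndiagPSL n F) x (δ * x) := by
      intro α x₀ hα h
      obtain ⟨g, hg⟩ := Lib.PSLAut.conj_mem_range hn α δ hδ
      have he : Lib.PSLAut.conj g * x₀ = α * (δ * x) * α⁻¹ := by rw [hg, ← hα]; group
      obtain ⟨k, hk⟩ := h g (by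
        rw [he]
        exact (orderOf_injective (MulAut.conj α).toMonoidHom (MulAut.conj α).injective (δ * x)).trans hy)
      refine ⟨α⁻¹ * Lib.PSLAut.conj k * α, ?_, ?_⟩
      · have := Lib.PSLAut.conj_mem_range hn α⁻¹ _ ⟨k, rfl⟩
        rw [inv_inv] at this
        exact Lib.PSLAut.inndiagPSL_eq_range.ge this
      · rw [he, ← hα] at hk
        calc δ * x = α⁻¹ * (α * (δ * x) * α⁻¹) * α := by group
          _ = _ := by rw [hk]; group
    rcases hx with ⟨α, σ, -, hσ⟩ | ⟨hn3, α, φ, γ, σ, hσ1, hφ, hγ, hα⟩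
    · rw [Lib.PSLAut.isStdFieldAut_iff] at hσ
      refine key α _ hσ fun g hg => Lib.PSLAut.field_order_imp_conj hn σ g ?_
      rw [← Lib.PSLAut.orderOf_field_class hn hσ, hxr, ← hg, pow_orderOf_eq_one]
    · rw [Lib.PSLAut.isStdFieldAut_iff] at hφ
      rw [Lib.PSLAut.isInverseTranspose_iff] at hγ
      subst hφ hγ
      have hord : orderOf (Lib.PSLAut.fieldAut σ * Lib.PSLAut.invTrans :
          MulAut (Lib.PSLAut.PSLn n F)) = r := by
        rw [← hα]
        exact (orderOf_injective (MulAut.conj α).toMonoidHom (MulAut.conj α).injective x).trans hxr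
      obtain ⟨rfl, hσ2⟩ := Lib.PSLAut.graphField_prime hn3 hσ1 hr hord
      refine key α _ hα fun g hg => Lib.PSLAut.graphField_order_imp_conj (by omega) σ hσ2 g ?_
      rw [← hg, pow_orderOf_eq_one]
  · rintro ⟨k, -, hk⟩
    rw [hk]
    exact (orderOf_injective (MulAut.conj k).toMonoidHom (MulAut.conj k).injective x).trans hxr

end Cfsg.Agent.S2697
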