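import Cfsg.Statements.S2699
import Cfsg.Agent.Lib.PSLAut.GraphClasses

set_option autoImplicit false
open Cfsg

namespace Cfsg.Agent.S2699

open scoped MatrixGroups
open Matrix Cfsg.Agent.Lib.PSLAut

theorem matches_std {F : Type*} [Field F] [Fintype F] {n m : ℕ} (hn : 3 ≤ n) (hnm : n = 2 * m + 1)
    (γ : MulAut (PSLn n F)) (hγ : Cfsg.IsGraphAutClassPSL γ) (hγ2 : orderOf γ = 2)
    (e : Unit ⊕ (Fin m ⊕ Fin m) ≃ Fin n) :
    ∃ (M : GL (Fin n) F) (h : GL (Fin n) F) (c : Fˣ), γ = graphAut M ∧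
      ((2 : F) ≠ 0 → formOp h (M : Matrix (Fin n) (Fin n) F) = (c : F) • (oddMat m F).submatrix e.symm e.symm) ∧
      ((2 : F) = 0 → formOp h (M : Matrix (Fin n) (Fin n) F) = (c : F) • (oddAltMat m F).submatrix e.symm e.symm) := by
  classical
  obtain ⟨M, rfl⟩ := (isGraph_iff hn γ).mp hγ
  by_cases h2 : (2 : F) = 0
  · have hM : (M : Matrix (Fin n) (Fin n) F)ᵀ = (M : Matrix (Fin n) (Fin n) F) := by
      rcases symm_or_skew hn hγ2 with h | h
      · exact h
      · rw [h]; ext i j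
        haveI : CharP F 2 := CharTwo.of_one_ne_zero_of_two_eq_zero one_ne_zero h2
        exact CharTwo.neg_eq _
    rcases exists_formOp_char_two h2 hM (GeneralLinearGroup.det_ne_zero M) with
      ⟨b, e', -, -⟩ | ⟨b, e', h, hh⟩ | ⟨b, e', -, -, -, -⟩
    · have := Fintype.card_congr e'; simp at this; omega
    · have hb : b = m := by have := Fintype.card_congr e'; simp at this; omega
      subst hb
      obtain ⟨k, hk⟩ := exists_formOp_reindex (oddAltMat b F) e e'
      exact ⟨M, h * k, 1, rfl, fun h' => absurd h2 h', fun _ => by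
        rw [formOp_mul, hh, hk, Units.val_one, one_smul]⟩
    · have := Fintype.card_congr e'; simp at this; omega
  · rcases symm_or_skew hn hγ2 with hM | hM
    · obtain ⟨h, c, hh⟩ := matches_odd h2 hnm hM e
      exact ⟨M, h, c, rfl, fun _ => hh, fun h' => absurd h' h2⟩
    · exfalso
      have h1 := congrArg Matrix.det hM
      rw [det_transpose, det_neg, Fintype.card_fin, Odd.neg_one_pow ⟨m, hnm⟩] at h1
      refine GeneralLinearGroup.det_ne_zero M ((mul_eq_zero.mp ?_).resolve_left h2)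
      linear_combination h1


/-- Let T = PSL_n(F) over the field with p^f elements with n ≥ 3 odd, n = 2m + 1, and G = Inndiag(T) the image of PGL_n(F). Every involutory graph automorphism γ of T (an inner-diagonal automorphism followed by inverse-transpose, of order 2) has centralizer C_G(γ) isomorphic to the projective conformal orthogonal group of the form x₀² + Σ xᵢ yᵢ in dimension n (for q even this group is isomorphic to Sp_{n−1}(q)), and any two involutory graph automorphisms are G-conjugate. -/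
theorem result {F : Type*} [Field F] [Fintype F] {p f : ℕ} [Fact p.Prime] (hF : Fintype.card F = p ^ f) (hf : 1 ≤ f) {n : ℕ} (hn : 3 ≤ n) {m : ℕ} (hnm : n = 2 * m + 1) (γ γ' : MulAut (Matrix.ProjectiveSpecialLinearGroup (Fin n) F)) (hγ : Cfsg.IsGraphAutClassPSL γ) (hγ2 : orderOf γ = 2) (hγ' : Cfsg.IsGraphAutClassPSL γ') (hγ'2 : orderOf γ' = 2) :
    Nonempty (↥(Cfsg.inndiagPSL n F ⊓ Subgroup.centralizer {γ}) ≃* Cfsg.PGO F (Cfsg.quadFormOdd m F)) ∧ Cfsg.IsConjUnder (Cfsg.inndiagPSL n F) γ γ' := by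
  classical
  let e : Unit ⊕ (Fin m ⊕ Fin m) ≃ Fin n := Fintype.equivOfCardEq (by simp; omega)
  obtain ⟨M, h, c, rfl, hodd, heven⟩ := matches_std hn hnm γ hγ hγ2 e
  obtain ⟨M', h', c', rfl, hodd', heven'⟩ := matches_std hn hnm γ' hγ' hγ'2 e
  have hconj : ∀ B : Matrix (Unit ⊕ (Fin m ⊕ Fin m)) (Unit ⊕ (Fin m ⊕ Fin m)) F,
      formOp h (M : Matrix (Fin n) (Fin n) F) = (c : F) • B.submatrix e.symm e.symm →
      formOp h' (M' : Matrix (Fin n) (Fin n) F) = (c' : F) • B.submatrix e.symm e.symm →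
      Cfsg.IsConjUnder (Cfsg.inndiagPSL n F) (graphAut M) (graphAut M') := fun B hB hB' =>
    (isConjUnder_graphAut_iff M M').mpr ⟨h * h'⁻¹, c * c'⁻¹, by
      rw [formOp_mul, hB, formOp_smul, formOp_inv hB', smul_smul, Units.val_mul]⟩
  by_cases h2 : (2 : F) = 0
  · obtain ⟨e1⟩ := nonempty_cent_equiv (M := M) (B := oddAltMat m F) ⟨e, h, c, heven h2⟩
    obtain ⟨e2⟩ := nonempty_matSimil_equiv_matIso h2 (A := oddAltMat m F) (fun h0 => by
      have := congrFun (congrFun h0 (.inl ())) (.inl ())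
      simp [oddAltMat] at this)
    obtain ⟨e3⟩ := nonempty_matIso_oddAlt_equiv (m := m) h2
    obtain ⟨e4⟩ := PGO_odd_equiv_two h2 m
    exact ⟨⟨e1.trans (e2.trans (e3.trans e4))⟩, hconj _ (heven h2) (heven' h2)⟩
  · obtain ⟨e1⟩ := nonempty_cent_equiv (M := M) (B := oddMat m F) ⟨e, h, c, hodd h2⟩
    obtain ⟨e2⟩ := PGO_odd_equiv h2 m
    exact ⟨⟨e1.trans e2⟩, hconj _ (hodd h2) (hodd' h2)⟩

end Cfsg.Agent.S2699
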