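import Cfsg.Statements.S2700
import Cfsg.Agent.Lib.PSLAut.GraphClasses

set_option autoImplicit false
open Cfsg

namespace Cfsg.Agent.S2700

open scoped MatrixGroups
open Matrix Cfsg.Agent.Lib.PSLAut


/-- Let T = PSL_n(F) over a finite field of odd order with n = 2m ≥ 4 even, and G = Inndiag(T) the image of PGL_n(F). The involutory graph automorphisms of T fall into exactly three G-classes, with representatives γ₁, γ₂, γ₃ whose centralizers in G are isomorphic respectively to the projective conformal symplectic group PGSp_n(F), the projective conformal orthogonal group of the plus-type form Σ xᵢ yᵢ, and that of a minus-type form Σ xᵢ yᵢ + z₁² + a z₁ z₂ + b z₂² (anisotropic binary part) in dimension n. -/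
theorem result {F : Type*} [Field F] [Fintype F] (hodd : Odd (Fintype.card F)) {n m : ℕ} (hm : 2 ≤ m) (hnm : n = 2 * m) :
    ∃ (γ₁ γ₂ γ₃ : MulAut (Matrix.ProjectiveSpecialLinearGroup (Fin n) F)) (a b : F), (∀ z₁ z₂ : F, z₁ ^ 2 + a * z₁ * z₂ + b * z₂ ^ 2 = 0 → z₁ = 0 ∧ z₂ = 0) ∧ Cfsg.IsGraphAutClassPSL γ₁ ∧ orderOf γ₁ = 2 ∧ Cfsg.IsGraphAutClassPSL γ₂ ∧ orderOf γ₂ = 2 ∧ Cfsg.IsGraphAutClassPSL γ₃ ∧ orderOf γ₃ = 2 ∧ ¬ Cfsg.IsConjUnder (Cfsg.inndiagPSL n F) γ₁ γ₂ ∧ ¬ Cfsg.IsConjUnder (Cfsg.inndiagPSL n F) γ₁ γ₃ ∧ ¬ Cfsg.IsConjUnder (Cfsg.inndiagPSL n F) γ₂ γ₃ ∧ (∀ γ : MulAut (Matrix.ProjectiveSpecialLinearGroup (Fin n) F), Cfsg.IsGraphAutClassPSL γ → orderOf γ = 2 → Cfsg.IsConjUnder (Cfsg.inndiagPSL n F) γ₁ γ ∨ Cfsg.IsConjUnder (Cfsg.inndiagPSL n F) γ₂ γ ∨ Cfsg.IsConjUnder (Cfsg.inndiagPSL n F) γ₃ γ) ∧ Nonempty (↥(Cfsg.inndiagPSL n F ⊓ Subgroup.centralizer {γ₁}) ≃* Cfsg.PGSp m F) ∧ Nonempty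 (↥(Cfsg.inndiagPSL n F ⊓ Subgroup.centralizer {γ₂}) ≃* Cfsg.PGO F (Cfsg.quadFormPlus m F)) ∧ Nonempty (↥(Cfsg.inndiagPSL n F ⊓ Subgroup.centralizer {γ₃}) ≃* Cfsg.PGO F (Cfsg.quadFormMinus (m - 1) F a b)) := by
  classical
  have h2 : (2 : F) ≠ 0 := Lib.Classical.two_ne_zero_of_odd_card hodd
  obtain ⟨k, rfl⟩ : ∃ k, m = k + 1 := ⟨m - 1, by omega⟩
  have hn : 3 ≤ n := by omega
  obtain ⟨b, hab⟩ := exists_aniso (F := F) h2
  let e₂ : Fin (k + 1) ⊕ Fin (k + 1) ≃ Fin n := Fintype.equivOfCardEq (by simp; omega)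
  let e₃ : (Fin k ⊕ Fin k) ⊕ Fin 2 ≃ Fin n := Fintype.equivOfCardEq (by simp; omega)
  have hdisc := disc_not_isSquare h2 hab
  have hJd : (Matrix.J (Fin (k + 1)) F).det ≠ 0 := (Matrix.isUnit_det_J (Fin (k + 1)) F).ne_zero
  have hPd : (plusMat (k + 1) F).det ≠ 0 := by rw [det_plusMat]; simp
  have hMd : (minusMat k 0 b).det ≠ 0 := by
    rw [det_minusMat]
    refine mul_ne_zero (by simp) fun h => hdisc ?_
    rw [show (0 : F) * 0 - 4 * b = 0 by linear_combination -h]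
    exact IsSquare.zero
  let G₁ := glOfMat e₂ (Matrix.J (Fin (k + 1)) F) hJd
  let G₂ := glOfMat e₂ (plusMat (k + 1) F) hPd
  let G₃ := glOfMat e₃ (minusMat k 0 b) hMd
  have hT1 : (G₁ : Matrix (Fin n) (Fin n) F)ᵀ = -(G₁ : Matrix (Fin n) (Fin n) F) := by
    rw [coe_glOfMat, transpose_submatrix, Matrix.J_transpose]; rfl
  have hT2 : (G₂ : Matrix (Fin n) (Fin n) F)ᵀ = (G₂ : Matrix (Fin n) (Fin n) F) := by
    rw [coe_glOfMat, transpose_submatrix, plusMat_transpose]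
  have hT3 : (G₃ : Matrix (Fin n) (Fin n) F)ᵀ = (G₃ : Matrix (Fin n) (Fin n) F) := by
    rw [coe_glOfMat, transpose_submatrix, minusMat_transpose]
  have hord : ∀ G : GL (Fin n) F, ((G : Matrix (Fin n) (Fin n) F)ᵀ = -(G : Matrix (Fin n) (Fin n) F) ∨
      (G : Matrix (Fin n) (Fin n) F)ᵀ = (G : Matrix (Fin n) (Fin n) F)) → orderOf (graphAut G) = 2 := by
    intro G hG
    rw [orderOf_graphAut hn]
    rcases hG with h | h
    · exact ⟨-1, by rw [h]; simp⟩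
    · exact ⟨1, by rw [h]; simp⟩
  refine ⟨graphAut G₁, graphAut G₂, graphAut G₃, 0, b, hab, (isGraph_iff hn _).mpr ⟨_, rfl⟩,
    hord _ (.inl hT1), (isGraph_iff hn _).mpr ⟨_, rfl⟩, hord _ (.inr hT2),
    (isGraph_iff hn _).mpr ⟨_, rfl⟩, hord _ (.inr hT3), ?_, ?_, ?_, ?_, ?_, ?_, ?_⟩
  · rw [isConjUnder_graphAut_iff]
    rintro ⟨h, c, hh⟩
    exact not_congr_symm_skew h2 (by omega) hT1 hT2 (GeneralLinearGroup.det_ne_zero G₂) h c hh
  · rw [isConjUnder_graphAut_iff]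
    rintro ⟨h, c, hh⟩
    exact not_congr_symm_skew h2 (by omega) hT1 hT3 (GeneralLinearGroup.det_ne_zero G₃) h c hh
  · rw [isConjUnder_graphAut_iff]
    rintro ⟨h, c, hh⟩
    have h1 := congrArg Matrix.det hh
    rw [det_formOp, det_smul, coe_glOfMat, coe_glOfMat, det_submatrix_equiv_self,
      det_submatrix_equiv_self, det_plusMat, det_minusMat, Fintype.card_fin,
      show (c : F) ^ n = ((c : F) ^ (k + 1)) * ((c : F) ^ (k + 1)) by rw [← pow_add, hnm, two_mul]] at h1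
    refine hdisc ⟨(h : Matrix (Fin n) (Fin n) F).det / (c : F) ^ (k + 1), ?_⟩
    have hc : (c : F) ^ (k + 1) ≠ 0 := pow_ne_zero _ c.ne_zero
    generalize (c : F) ^ (k + 1) = C at h1 hc
    rw [pow_succ (-1 : F) k] at h1
    rcases neg_one_pow_eq_or F k with hk | hk <;> rw [hk] at h1 <;> field_simp <;>
      first | linear_combination h1 | linear_combination -h1
  · intro γ hγ hγ2
    obtain ⟨M, rfl⟩ := (isGraph_iff hn γ).mp hγ
    rcases symm_or_skew hn hγ2 with hM | hM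
    · obtain ⟨hp, hm'⟩ := matches_plus_or_minus h2 hnm hM hab e₂ e₃
      by_cases hs : IsSquare ((-1 : F) ^ (k + 1) * (M : Matrix (Fin n) (Fin n) F).det)
      · obtain ⟨h, c, hh⟩ := hp hs
        exact Or.inr (Or.inl (isConjUnder_of_formOp e₂ _ hPd M h c hh))
      · obtain ⟨h, c, hh⟩ := hm' hs
        exact Or.inr (Or.inr (isConjUnder_of_formOp e₃ _ hMd M h c hh))
    · obtain ⟨e, h, c, hh⟩ := matches_J hM (diag_zero_of_skew h2 hM) hnm
      obtain ⟨p, hp⟩ := exists_formOp_reindex (Matrix.J (Fin (k + 1)) F) e₂ e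
      refine Or.inl (isConjUnder_of_formOp e₂ _ hJd M (h * p) c ?_)
      rw [formOp_mul, hh, formOp_smul, hp]
  · obtain ⟨e⟩ := nonempty_cent_equiv (matches_glOfMat e₂ (Matrix.J (Fin (k + 1)) F) hJd)
    obtain ⟨e'⟩ := PGSp_equiv (F := F) (k + 1)
    exact ⟨e.trans e'⟩
  · obtain ⟨e⟩ := nonempty_cent_equiv (matches_glOfMat e₂ (plusMat (k + 1) F) hPd)
    obtain ⟨e'⟩ := PGO_plus_equiv (F := F) h2 (k + 1)
    exact ⟨e.trans e'⟩
  · obtain ⟨e⟩ := nonempty_cent_equiv (matches_glOfMat e₃ (minusMat k 0 b) hMd)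
    obtain ⟨e'⟩ := PGO_minus_equiv (F := F) h2 k 0 b
    exact ⟨e.trans e'⟩

end Cfsg.Agent.S2700
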