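import Cfsg.Statements.S2701
import Cfsg.Agent.Lib.PSLAut.GraphClasses

set_option autoImplicit false
open Cfsg

namespace Cfsg.Agent.S2701

open scoped MatrixGroups
open Matrix Cfsg.Agent.Lib.PSLAut


/-- Let T = PSL_n(F) over a finite field of characteristic 2 with n = 2m ≥ 4 even, and G = Inndiag(T) the image of PGL_n(F). The involutory graph automorphisms of T fall into exactly two G-classes, with representatives γ₁ and γ₃ whose centralizers in G are isomorphic respectively to the symplectic group Sp_n(F) and to the centralizer in Sp_n(F) of a symplectic transvection. -/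
theorem result {F : Type*} [Field F] [Fintype F] [CharP F 2] {n m : ℕ} (hm : 2 ≤ m) (hnm : n = 2 * m) :
    ∃ (γ₁ γ₃ : MulAut (Matrix.ProjectiveSpecialLinearGroup (Fin n) F)) (t : ↥(Matrix.symplecticGroup (Fin m) F)), Cfsg.IsTransvection (t : Matrix (Fin m ⊕ Fin m) (Fin m ⊕ Fin m) F) ∧ Cfsg.IsGraphAutClassPSL γ₁ ∧ orderOf γ₁ = 2 ∧ Cfsg.IsGraphAutClassPSL γ₃ ∧ orderOf γ₃ = 2 ∧ ¬ Cfsg.IsConjUnder (Cfsg.inndiagPSL n F) γ₁ γ₃ ∧ (∀ γ : MulAut (Matrix.ProjectiveSpecialLinearGroup (Fin n) F), Cfsg.IsGraphAutClassPSL γ → orderOf γ = 2 → Cfsg.IsConjUnder (Cfsg.inndiagPSL n F) γ₁ γ ∨ Cfsg.IsConjUnder (Cfsg.inndiagPSL n F) γ₃ γ) ∧ Nonempty (↥(Cfsg.inndiagPSL n F ⊓ Subgroup.centralizer {γ₁}) ≃* ↥(Matrix.symplecticGroup (Fin m) F)) ∧ Nonempty (↥(Cfsg.inndiagPSL n F ⊓ Subgroup.centralizer {γ₃}) ≃* ↥(Subgroup.centralizer ({t} : Set ↥(Matrix.symplecticGroup (Fin m) F)))) := by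
  classical
  have h2 : (2 : F) = 0 := by exact_mod_cast CharP.cast_eq_zero F 2
  have hn : 3 ≤ n := by omega
  let z₀ : Fin m ⊕ Fin m → F := Pi.single (.inr ⟨0, by omega⟩) 1
  have hz₀ : z₀ ≠ 0 := fun h => by simpa [z₀] using congrFun h (.inr ⟨0, by omega⟩)
  let t : ↥(Matrix.symplecticGroup (Fin m) F) := ⟨pseudoTransvection z₀, pseudoTransvection_mem h2 z₀⟩
  let e : Fin m ⊕ Fin m ≃ Fin n := Fintype.equivOfCardEq (by simp; omega)
  have hJd : (Matrix.J (Fin m) F).det ≠ 0 := (Matrix.isUnit_det_J (Fin m) F).ne_zero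
  have hneg : ∀ {ι : Type} (A : Matrix ι ι F), -A = A := fun A => by
    ext i j; exact CharTwo.neg_eq _
  have hJT : (Matrix.J (Fin m) F)ᵀ = Matrix.J (Fin m) F := by rw [Matrix.J_transpose, hneg]
  have hPT : (pseudoMat z₀)ᵀ = pseudoMat z₀ := by
    rw [pseudoMat, transpose_add, hJT, transpose_vecMulVec]
  have hPd : (pseudoMat z₀).det ≠ 0 := by
    intro h0
    obtain ⟨v, hv, hv0⟩ := Matrix.exists_mulVec_eq_zero_iff.mpr h0
    rw [pseudoMat, add_mulVec, vecMulVec_mulVec] at hv0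
    set w := Matrix.J (Fin m) F *ᵥ z₀ with hw
    have hJv : Matrix.J (Fin m) F *ᵥ v = (w ⬝ᵥ v) • w := by
      funext i
      have := congrFun hv0 i
      simp at this ⊢
      rw [CharTwo.add_eq_zero] at this
      rw [this, mul_comm]
    have hvz : v = (w ⬝ᵥ v) • z₀ := by
      refine Matrix.mulVec_injective_iff_isUnit.mpr
        ((Matrix.isUnit_iff_isUnit_det _).mpr (Matrix.isUnit_det_J (Fin m) F)) ?_
      show Matrix.J (Fin m) F *ᵥ v = Matrix.J (Fin m) F *ᵥ ((w ⬝ᵥ v) • z₀)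
      rw [mulVec_smul, ← hw, hJv]
    have hwz : w ⬝ᵥ z₀ = 0 := by
      rw [dotProduct_comm]
      show Cfsg.sympForm m F z₀ z₀ = 0
      rw [← Lib.Forms.sympBilin_apply]; exact Lib.Forms.sympBilin_isAlt _
    have h0' : w ⬝ᵥ v = 0 := by rw [hvz, dotProduct_smul, hwz, smul_zero]
    rw [h0', zero_smul] at hvz
    exact hv hvz
  let G₁ := glOfMat e (Matrix.J (Fin m) F) hJd
  let G₃ := glOfMat e (pseudoMat z₀) hPd
  have hord : ∀ G : GL (Fin n) F, (G : Matrix (Fin n) (Fin n) F)ᵀ = (G : Matrix (Fin n) (Fin n) F) →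
      orderOf (graphAut G) = 2 := fun G hG =>
    (orderOf_graphAut hn G).mpr ⟨1, by rw [hG, Units.val_one, one_smul]⟩
  refine ⟨graphAut G₁, graphAut G₃, t, isTransvection_pseudo z₀ hz₀,
    (isGraph_iff hn _).mpr ⟨_, rfl⟩, hord _ (by rw [coe_glOfMat, transpose_submatrix, hJT]),
    (isGraph_iff hn _).mpr ⟨_, rfl⟩, hord _ (by rw [coe_glOfMat, transpose_submatrix, hPT]), ?_, ?_, ?_, ?_⟩
  · rw [isConjUnder_graphAut_iff]
    rintro ⟨h, c, hh⟩
    rw [coe_glOfMat, coe_glOfMat] at hh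
    -- a congruence preserves the vanishing of the diagonal
    obtain ⟨j, hj⟩ := Function.ne_iff.mp
      (fun h0 : Matrix.J (Fin m) F *ᵥ z₀ = 0 => hz₀ (Matrix.eq_zero_of_mulVec_eq_zero hJd h0))
    have h1 := congrFun (congrFun hh (e j)) (e j)
    have hq : formOp h ((Matrix.J (Fin m) F).submatrix e.symm e.symm) (e j) (e j) = 0 := by
      rw [show formOp h ((Matrix.J (Fin m) F).submatrix e.symm e.symm) (e j) (e j)
          = Pi.single (e j) 1 ⬝ᵥ (formOp h ((Matrix.J (Fin m) F).submatrix e.symm e.symm) *ᵥ Pi.single (e j) 1)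
        by simp, dot_formOp, Matrix.submatrix_mulVec_equiv]
      set v := (h : Matrix (Fin n) (Fin n) F) *ᵥ Pi.single (e j) 1
      rw [dotProduct, ← e.sum_comp]
      simp only [Equiv.symm_symm, Function.comp_apply, Equiv.symm_apply_apply]
      show Cfsg.sympForm m F (fun i => v (e i)) (fun i => v (e i)) = 0
      rw [← Lib.Forms.sympBilin_apply]; exact Lib.Forms.sympBilin_isAlt _
    have hJ0 : Matrix.J (Fin m) F j j = 0 := by rcases j with j | j <;> simp [Matrix.J]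
    rw [hq] at h1
    simp [pseudoMat, hJ0, vecMulVec_apply] at h1
    exact hj h1
  · intro γ hγ hγ2
    obtain ⟨M, rfl⟩ := (isGraph_iff hn γ).mp hγ
    have hM : (M : Matrix (Fin n) (Fin n) F)ᵀ = (M : Matrix (Fin n) (Fin n) F) := by
      rcases symm_or_skew hn hγ2 with h | h
      · exact h
      · rw [h, hneg]
    rcases exists_formOp_char_two h2 hM (GeneralLinearGroup.det_ne_zero M) with
      ⟨b, e', h, hh⟩ | ⟨b, e', -, -⟩ | ⟨b, e', h, z, hz, hh⟩
    · have hb : b = m := by have := Fintype.card_congr e'; simp at this; omega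
      subst hb
      obtain ⟨p, hp⟩ := exists_formOp_reindex (Matrix.J (Fin b) F) e e'
      exact Or.inl (isConjUnder_of_formOp e _ hJd M (h * p) 1 (by
        rw [formOp_mul, hh, hp, Units.val_one, one_smul]))
    · have := Fintype.card_congr e'; simp at this; omega
    · have hb : b = m := by have := Fintype.card_congr e'; simp at this; omega
      subst hb
      obtain ⟨p, hp⟩ := exists_formOp_reindex (pseudoMat z) e e'
      obtain ⟨g, hg⟩ := exists_formOp_pseudo hz hz₀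
      refine Or.inr (isConjUnder_of_formOp e _ hPd M (h * p * glReindex e g) 1 ?_)
      rw [formOp_mul, formOp_mul, hh, hp, formOp_glReindex, hg, Units.val_one, one_smul]
  · obtain ⟨e1⟩ := nonempty_cent_equiv (matches_glOfMat e (Matrix.J (Fin m) F) hJd)
    obtain ⟨e2⟩ := nonempty_matSimil_equiv_matIso h2 (A := Matrix.J (Fin m) F)
      (fun h => hJd (by haveI : Nonempty (Fin m ⊕ Fin m) := ⟨.inl ⟨0, by omega⟩⟩; rw [h]; exact Matrix.det_zero))
    obtain ⟨e3⟩ := nonempty_matIso_J_equiv (F := F) (m := m)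
    exact ⟨e1.trans (e2.trans e3)⟩
  · obtain ⟨e1⟩ := nonempty_cent_equiv (matches_glOfMat e (pseudoMat z₀) hPd)
    obtain ⟨e2⟩ := nonempty_matSimil_equiv_matIso h2 (A := pseudoMat z₀)
      (fun h => hPd (by haveI : Nonempty (Fin m ⊕ Fin m) := ⟨.inl ⟨0, by omega⟩⟩; rw [h]; exact Matrix.det_zero))
    obtain ⟨e3⟩ := nonempty_matIso_pseudo_equiv h2 z₀ hz₀ t rfl
    exact ⟨e1.trans (e2.trans e3)⟩

end Cfsg.Agent.S2701
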