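import Cfsg.Statements.S2702
import Cfsg.Agent.Lib.PSLAut.GraphClasses

set_option autoImplicit false
open Cfsg

namespace Cfsg.Agent.S2702

open scoped MatrixGroups
open Matrix Cfsg.Agent.Lib.PSLAut


/-- Let T = PSL_n(F) over the field with q = p^f elements, n ≥ 3, G = Inndiag(T) the image of PGL_n(F), and γ an involutory graph automorphism of T. The G-class of γ is the union of exactly c T-classes, where: if n is even and q is odd, c = gcd(n/2, q − 1) when C_G(γ) is isomorphic to the projective conformal symplectic group PGSp_n(F) (symplectic type) and c = gcd(n, q − 1)/2 otherwise; and c = gcd(n, q − 1) when n is odd or q is even. -/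
theorem result {F : Type*} [Field F] [Fintype F] {p f : ℕ} [Fact p.Prime] (hF : Fintype.card F = p ^ f) (hf : 1 ≤ f) {n : ℕ} (hn : 3 ≤ n) (γ : MulAut (Matrix.ProjectiveSpecialLinearGroup (Fin n) F)) (hγ : Cfsg.IsGraphAutClassPSL γ) (hγ2 : orderOf γ = 2) :
    ((Even n ∧ Odd p ∧ Nonempty (↥(Cfsg.inndiagPSL n F ⊓ Subgroup.centralizer {γ}) ≃* Cfsg.PGSp (n / 2) F)) → Cfsg.splitClassCount (Cfsg.inndiagPSL n F) (Cfsg.Inn (Matrix.ProjectiveSpecialLinearGroup (Fin n) F)) γ = Nat.gcd (n / 2) (p ^ f - 1)) ∧ ((Even n ∧ Odd p ∧ ¬ Nonempty (↥(Cfsg.inndiagPSL n F ⊓ Subgroup.centralizer {γ}) ≃* Cfsg.PGSp (n / 2) F)) → Cfsg.splitClassCount (Cfsg.inndiagPSL n F) (Cfsg.Inn (Matrix.ProjectiveSpecialLinearGroup (Fin n) F)) γ = Nat.gcd n (p ^ f - 1) / 2) ∧ (¬ (Even n ∧ Odd p) → Cfsg.splitClassCount (Cfsg.inndiagPSL n F) (Cfsg.Inn (Matrix.ProjectiveSpecialLinearGroup (Fin n) F)) γ = Nat.gcd n (p ^ f - 1)) := by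
  classical
  obtain ⟨M, rfl⟩ := (isGraph_iff hn γ).mp hγ
  rw [splitClassCount_graphAut (by omega) M, ← hF]
  have hp : p.Prime := Fact.out
  haveI : CharP F p := charP_of_card_eq_prime_pow (p := p) (f := f) hF
  have hodd : Odd p ↔ (2 : F) ≠ 0 := by
    constructor
    · intro ho h
      have h' : ((2 : ℕ) : F) = 0 := by exact_mod_cast h
      have h'' := (Nat.prime_dvd_prime_iff_eq hp Nat.prime_two).mp ((CharP.cast_eq_zero_iff F p 2).mp h')
      subst h''
      exact absurd ho (by decide)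
    · intro h
      refine hp.odd_of_ne_two fun hp2 => h ?_
      subst hp2
      exact_mod_cast CharP.cast_eq_zero F 2
  have heven : Even n → Odd p → ∃ k, n = 2 * (k + 1) ∧ 1 ≤ k := by
    rintro ⟨m, hm⟩ -
    exact ⟨m - 1, by omega, by omega⟩
  refine ⟨?_, ?_, ?_⟩
  · rintro ⟨he, ho, hiso⟩
    obtain ⟨k, hnk, hk⟩ := heven he ho
    have h2 := hodd.mp ho
    have hdiv : n / 2 = k + 1 := by omega
    rw [hdiv] at hiso ⊢
    rcases symm_or_skew hn hγ2 with hM | hM
    · exfalso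
      obtain ⟨b, hab⟩ := exists_aniso (F := F) h2
      obtain ⟨hp', hm'⟩ := matches_plus_or_minus h2 hnk hM hab
        (Fintype.equivOfCardEq (by simp; omega)) (Fintype.equivOfCardEq (by simp; omega))
      obtain ⟨hnp, hnm⟩ := not_nonempty_PGSp_equiv h2 hk 0 b hab
      obtain ⟨E⟩ := hiso
      by_cases hs : IsSquare ((-1 : F) ^ (k + 1) * (M : Matrix (Fin n) (Fin n) F).det)
      · obtain ⟨h, c, hh⟩ := hp' hs
        obtain ⟨e⟩ := nonempty_cent_equiv (M := M) (B := plusMat (k + 1) F) ⟨_, h, c, hh⟩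
        exact hnp ⟨e.symm.trans E⟩
      · obtain ⟨h, c, hh⟩ := hm' hs
        obtain ⟨e⟩ := nonempty_cent_equiv (M := M) (B := minusMat k 0 b) ⟨_, h, c, hh⟩
        exact hnm ⟨e.symm.trans E⟩
    · rw [map_det_symp (matches_J hM (diag_zero_of_skew h2 hM) hnk),
        sup_eq_right.mpr (powRange_le_of_dvd ⟨2, by omega⟩), index_powRange]
  · rintro ⟨he, ho, hiso⟩
    obtain ⟨k, hnk, hk⟩ := heven he ho
    have h2 := hodd.mp ho
    rcases symm_or_skew hn hγ2 with hM | hM
    · have hle : powRange n F ≤ powRange (k + 1) F ⊔ Subgroup.zpowers (-1 : Fˣ) :=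
        le_trans (powRange_le_of_dvd ⟨2, by omega⟩) le_sup_left
      rw [map_det_orth h2 hnk (by omega) hM, sup_eq_right.mpr hle, index_orth h2, ← hnk]
    · exfalso
      refine hiso ?_
      obtain ⟨e⟩ := nonempty_cent_equiv (matches_J hM (diag_zero_of_skew h2 hM) hnk)
      obtain ⟨e'⟩ := PGSp_equiv (F := F) (k + 1)
      rw [show n / 2 = k + 1 by omega]
      exact ⟨e.trans e'⟩
  · intro hnot
    rw [sup_eq_left.mpr, index_powRange]
    rintro _ ⟨g, hg, rfl⟩
    exact det_mem_powRange (fun h => hnot ⟨h.1, hodd.mpr h.2⟩) M hg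

end Cfsg.Agent.S2702
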