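import Cfsg.Statements.S2703
import Cfsg.Agent.Lib.PSLAut.GraphClasses

set_option autoImplicit false
open Cfsg

namespace Cfsg.Agent.S2703

open scoped MatrixGroups
open Matrix Cfsg.Agent.Lib.PSLAut


/-- Let T = PSL_n(F) over the field with q elements, q odd, n = 2m ≥ 4 even, and ι the inverse-transpose automorphism. Its centralizer in G = Inndiag(T) (the image of PGL_n(F)) is isomorphic to the projective conformal orthogonal group of the plus-type form Σ xᵢ yᵢ in dimension n when n(q − 1)/4 is even, and to that of a minus-type form (Σ xᵢ yᵢ + z₁² + a z₁ z₂ + b z₂² with anisotropic binary part) when n(q − 1)/4 is odd. -/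
theorem result {F : Type*} [Field F] [Fintype F] (hodd : Odd (Fintype.card F)) {n m : ℕ} (hm : 2 ≤ m) (hnm : n = 2 * m) (ι : MulAut (Matrix.ProjectiveSpecialLinearGroup (Fin n) F)) (hι : Cfsg.IsInverseTransposeAutPSL ι) :
    (Even (n * (Fintype.card F - 1) / 4) → Nonempty (↥(Cfsg.inndiagPSL n F ⊓ Subgroup.centralizer {ι}) ≃* Cfsg.PGO F (Cfsg.quadFormPlus m F))) ∧ (¬ Even (n * (Fintype.card F - 1) / 4) → ∃ a b : F, (∀ z₁ z₂ : F, z₁ ^ 2 + a * z₁ * z₂ + b * z₂ ^ 2 = 0 → z₁ = 0 ∧ z₂ = 0) ∧ Nonempty (↥(Cfsg.inndiagPSL n F ⊓ Subgroup.centralizer {ι}) ≃* Cfsg.PGO F (Cfsg.quadFormMinus (m - 1) F a b))) := by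
  classical
  have h2 : (2 : F) ≠ 0 := Lib.Classical.two_ne_zero_of_odd_card hodd
  obtain ⟨k, rfl⟩ : ∃ k, m = k + 1 := ⟨m - 1, by omega⟩
  obtain rfl := (isInverseTranspose_iff ι).mp hι
  obtain ⟨b, hab⟩ := exists_aniso (F := F) h2
  obtain ⟨hp, hm'⟩ := matches_plus_or_minus h2 hnm (M := 1) (by rw [Units.val_one, transpose_one]) hab
    (Fintype.equivOfCardEq (by simp; omega)) (Fintype.equivOfCardEq (by simp; omega))
  have hq : ringChar F ≠ 2 := fun h => h2 (by
    have := ringChar.Nat.cast_ringChar (R := F); rw [h] at this; simpa using this)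
  obtain ⟨t, ht⟩ := hodd
  have hcond : IsSquare ((-1 : F) ^ (k + 1) * ((1 : GL (Fin n) F) : Matrix (Fin n) (Fin n) F).det) ↔
      Even (n * (Fintype.card F - 1) / 4) := by
    rw [Units.val_one, det_one, mul_one, FiniteField.isSquare_iff hq (by simp), ← pow_mul,
      neg_one_pow_eq_one_iff_even (fun h => h2 (by linear_combination -h))]
    rw [ht, hnm, show (2 * t + 1) / 2 = t by omega, show 2 * t + 1 - 1 = 2 * t by omega,
      show 2 * (k + 1) * (2 * t) = 4 * ((k + 1) * t) by ring, Nat.mul_div_cancel_left _ (by norm_num)]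
  have hM : (graphAut (1 : GL (Fin n) F)) = invTrans := by rw [graphAut, inv_one, map_one, one_mul]
  constructor
  · intro he
    obtain ⟨h, c, hh⟩ := hp (hcond.mpr he)
    obtain ⟨e⟩ := nonempty_cent_equiv (M := (1 : GL (Fin n) F)) (B := plusMat (k + 1) F) ⟨_, h, c, hh⟩
    obtain ⟨e'⟩ := PGO_plus_equiv (F := F) h2 (k + 1)
    rw [← hM]
    exact ⟨e.trans e'⟩
  · intro he
    refine ⟨0, b, hab, ?_⟩
    obtain ⟨h, c, hh⟩ := hm' (fun hs => he (hcond.mp hs))
    obtain ⟨e⟩ := nonempty_cent_equiv (M := (1 : GL (Fin n) F)) (B := minusMat k 0 b) ⟨_, h, c, hh⟩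
    obtain ⟨e'⟩ := PGO_minus_equiv (F := F) h2 k 0 b
    rw [← hM]
    exact ⟨e.trans e'⟩

end Cfsg.Agent.S2703
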