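import Cfsg.Statements.S2704
import Cfsg.Agent.Lib.PSLAut.GraphFieldCent

set_option autoImplicit false
open Cfsg

namespace Cfsg.Agent.S2704

/-- Let T = PSL_n(F) over the field F with p^f elements, n ≥ 3, and G = Inndiag(T) the image of PGL_n(F). If x is an involutory graph-field automorphism of T then f is even; x is G-conjugate to every other involutory graph-field automorphism; C_G(x) is isomorphic to the projective general unitary group PGU_n(q₀) with q₀² = p^f, realised over F itself through the Hermitian form Σ uᵢ vᵢ^{q₀}; and the G-class of x is the union of exactly gcd(n, q₀ − 1) T-classes. -/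
theorem result {F : Type*} [Field F] [Fintype F] {p f : ℕ} [Fact p.Prime] (hF : Fintype.card F = p ^ f) (hf : 1 ≤ f) {n : ℕ} (hn : 3 ≤ n) (x : MulAut (Matrix.ProjectiveSpecialLinearGroup (Fin n) F)) (hx : Cfsg.IsGraphFieldAutClassPSL x) (hx2 : orderOf x = 2) :
    Even f ∧ (∀ y : MulAut (Matrix.ProjectiveSpecialLinearGroup (Fin n) F), Cfsg.IsGraphFieldAutClassPSL y → orderOf y = 2 → Cfsg.IsConjUnder (Cfsg.inndiagPSL n F) x y) ∧ Nonempty (↥(Cfsg.inndiagPSL n F ⊓ Subgroup.centralizer {x}) ≃* Cfsg.PGU n F (p ^ (f / 2))) ∧ Cfsg.splitClassCount (Cfsg.inndiagPSL n F) (Cfsg.Inn (Matrix.ProjectiveSpecialLinearGroup (Fin n) F)) x = Nat.gcd n (p ^ (f / 2) - 1) := by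
  obtain ⟨hn3, α, φ, γ, σ, hσ1, hφ, hγ, hα⟩ := hx
  rw [Lib.PSLAut.isStdFieldAut_iff] at hφ
  rw [Lib.PSLAut.isInverseTranspose_iff] at hγ
  subst hφ hγ
  have hord : ∀ (y a : MulAut (Lib.PSLAut.PSLn n F)) (τ : F ≃+* F), τ ≠ 1 → orderOf y = 2 →
      a * y * a⁻¹ = Lib.PSLAut.fieldAut τ * Lib.PSLAut.invTrans → orderOf τ = 2 := by
    intro y a τ hτ hy ha
    refine (Lib.PSLAut.graphField_prime hn hτ Nat.prime_two ?_).2
    rw [← ha]
    exact (orderOf_injective (MulAut.conj a).toMonoidHom (MulAut.conj a).injective y).trans hy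
  have hσ := hord x α σ hσ1 hx2 hα
  obtain ⟨h2f, hQ, -⟩ := Lib.PSLAut.index_fixedUnits σ hF hσ two_pos
  have hpow : ∀ a : F, σ a = a ^ p ^ (f / 2) := fun a => by
    rw [Lib.FieldDescent.apply_eq_pow_of_orderOf_two σ hσ, hQ]
  obtain ⟨g, hg⟩ := Lib.PSLAut.exists_conj_form (by omega) σ hσ hα
  refine ⟨even_iff_two_dvd.mpr h2f, ?_, ?_, ?_⟩
  · intro y hy hy2
    obtain ⟨-, β, φ, γ, τ, hτ1, hφ, hγ, hβ⟩ := hy
    rw [Lib.PSLAut.isStdFieldAut_iff] at hφ
    rw [Lib.PSLAut.isInverseTranspose_iff] at hγ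
    subst hφ hγ
    have hτσ : τ = σ := Lib.PSLAut.involution_unique (hord y β τ hτ1 hy2 hβ) hσ
    subst hτσ
    obtain ⟨g', hg'⟩ := Lib.PSLAut.exists_conj_form (by omega) τ hσ hβ
    refine ⟨Lib.PSLAut.conj (g' * g⁻¹), Lib.PSLAut.inndiagPSL_eq_range.ge ⟨_, rfl⟩, ?_⟩
    rw [hg, hg', map_mul, map_inv]
    group
  · refine ⟨(Lib.PSLAut.centEquiv (by omega) α x).trans ?_⟩
    rw [hα]
    exact (Lib.PSLAut.graphFieldCentEquiv (by omega) σ hσ _ hpow).symm
  · rw [Lib.PSLAut.inndiagPSL_eq_range, ← Lib.PSLAut.splitClassCount_conjugate (by omega) α x, hα,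
      Lib.PSLAut.splitClassCount_conj (by omega), Lib.PSLAut.det_centralizer_graphField (by omega) σ hσ,
      Lib.SplitClass.index_powRange_sup, Lib.PSLAut.index_ker_norm σ hσ, hQ]

end Cfsg.Agent.S2704
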