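import Cfsg.Agent.Lib.PSUGraph.Main
import Cfsg.Statements.S2706

set_option autoImplicit false
open Cfsg

namespace Cfsg.Agent.S2706

open Matrix Cfsg.Agent.Lib Cfsg.Agent.Lib.PSLAut
open scoped MatrixGroups

/-- Let T = PSU_n(q) be simple with n = 2m + 1 ≥ 3 odd, realised over the field F with q² elements, and G = Inndiag(T) the image of PGU_n(q). Every involutory graph automorphism γ of T (an inner-diagonal automorphism times a standard field automorphism of even order, of order 2) has centralizer C_G(γ) isomorphic to the projective conformal orthogonal group of the form x₀² + Σ xᵢ yᵢ in dimension n over a field F₀ with q elements, and any two involutory graph automorphisms of T are G-conjugate. -/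
theorem result {F : Type*} [Field F] [Fintype F] {p f q : ℕ} [Fact p.Prime] (hq : q = p ^ f) (hf : 1 ≤ f) (hF : Fintype.card F = q ^ 2) {n : ℕ} (hn : 3 ≤ n) (hs : ¬ (n = 3 ∧ q = 2)) {m : ℕ} (hnm : n = 2 * m + 1) (F₀ : Type*) [Field F₀] [Fintype F₀] (hF₀ : Fintype.card F₀ = q) (γ γ' : MulAut (Cfsg.PSU n F q)) (hγ : Cfsg.IsGraphAutClassPSU γ) (hγ2 : orderOf γ = 2) (hγ' : Cfsg.IsGraphAutClassPSU γ') (hγ'2 : orderOf γ' = 2) :
    Nonempty (↥(Cfsg.inndiagPSU n F q ⊓ Subgroup.centralizer {γ}) ≃* Cfsg.PGO F₀ (Cfsg.quadFormOdd m F₀)) ∧ Cfsg.IsConjUnder (Cfsg.inndiagPSU n F q) γ γ' := by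
  classical
  obtain ⟨ι, hι⟩ := Lib.Classical.exists_fixedField_equiv hF (K := F₀) hF₀
  obtain ⟨r, _, _⟩ := PSUGraph.exists_prime_char F
  obtain ⟨A, hA, hAs⟩ := PSUGraph.exists_rep_of_graph hF hι hn (r := r) hγ hγ2
  obtain ⟨A', hA', hAs'⟩ := PSUGraph.exists_rep_of_graph hF hι hn (r := r) hγ' hγ'2
  let e : Unit ⊕ (Fin m ⊕ Fin m) ≃ Fin n := Fintype.equivOfCardEq (by simp; omega)
  obtain ⟨h, c, hodd, heven⟩ := PSUGraph.matches_std hnm hAs e
  obtain ⟨h', c', hodd', heven'⟩ := PSUGraph.matches_std hnm hAs' e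
  have hconj : ∀ B : Matrix (Unit ⊕ (Fin m ⊕ Fin m)) (Unit ⊕ (Fin m ⊕ Fin m)) F₀,
      formOp h (A : Matrix (Fin n) (Fin n) F₀) = (c : F₀) • B.submatrix e.symm e.symm →
      formOp h' (A' : Matrix (Fin n) (Fin n) F₀) = (c' : F₀) • B.submatrix e.symm e.symm →
      Cfsg.IsConjUnder (Cfsg.inndiagPSU n F q) γ γ' := fun B hB hB' =>
    PSUGraph.isConjUnder_of_rep hF hι hn hA hA' (h := h * h'⁻¹) (c := c * c'⁻¹) (by
      rw [formOp_mul, hB, formOp_smul, formOp_inv hB', smul_smul, Units.val_mul])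
  by_cases h2 : (2 : F₀) = 0
  · obtain ⟨e1⟩ := PSUGraph.nonempty_cent_equiv hF hι hn hA (B := oddAltMat m F₀) ⟨e, h, c, heven h2⟩
    obtain ⟨e2⟩ := nonempty_matSimil_equiv_matIso h2 (A := oddAltMat m F₀) (fun h0 => by
      have := congrFun (congrFun h0 (.inl ())) (.inl ())
      simp [oddAltMat] at this)
    obtain ⟨e3⟩ := nonempty_matIso_oddAlt_equiv (m := m) h2
    obtain ⟨e4⟩ := PGO_odd_equiv_two h2 m
    exact ⟨⟨e1.trans (e2.trans (e3.trans e4))⟩, hconj _ (heven h2) (heven' h2)⟩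
  · obtain ⟨e1⟩ := PSUGraph.nonempty_cent_equiv hF hι hn hA (B := oddMat m F₀) ⟨e, h, c, hodd h2⟩
    obtain ⟨e2⟩ := PGO_odd_equiv h2 m
    exact ⟨⟨e1.trans e2⟩, hconj _ (hodd h2) (hodd' h2)⟩

end Cfsg.Agent.S2706
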