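import Cfsg.Agent.Lib.PSUGraph.Main
import Cfsg.Statements.S2707

set_option autoImplicit false
open Cfsg

namespace Cfsg.Agent.S2707

open Matrix Cfsg.Agent.Lib Cfsg.Agent.Lib.PSLAut
open scoped MatrixGroups

/-- Let T = PSU_n(q) with n = 2m ≥ 4 even and q odd, realised over the field F with q² elements, and G = Inndiag(T) the image of PGU_n(q). The involutory graph automorphisms of T fall into exactly three G-classes, with representatives whose centralizers in G are isomorphic respectively to the projective conformal symplectic group PGSp_n(F₀), the projective conformal orthogonal group of the plus-type form Σ xᵢ yᵢ, and that of a minus-type form Σ xᵢ yᵢ + z₁² + a z₁ z₂ + b z₂² (anisotropic binary part) in dimension n, all over a field F₀ with q elements. -/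
theorem result {F : Type*} [Field F] [Fintype F] {q : ℕ} (hodd : Odd q) (hF : Fintype.card F = q ^ 2) {n m : ℕ} (hm : 2 ≤ m) (hnm : n = 2 * m) (F₀ : Type*) [Field F₀] [Fintype F₀] (hF₀ : Fintype.card F₀ = q) :
    ∃ (γ₁ γ₂ γ₃ : MulAut (Cfsg.PSU n F q)) (a b : F₀), (∀ z₁ z₂ : F₀, z₁ ^ 2 + a * z₁ * z₂ + b * z₂ ^ 2 = 0 → z₁ = 0 ∧ z₂ = 0) ∧ Cfsg.IsGraphAutClassPSU γ₁ ∧ orderOf γ₁ = 2 ∧ Cfsg.IsGraphAutClassPSU γ₂ ∧ orderOf γ₂ = 2 ∧ Cfsg.IsGraphAutClassPSU γ₃ ∧ orderOf γ₃ = 2 ∧ ¬ Cfsg.IsConjUnder (Cfsg.inndiagPSU n F q) γ₁ γ₂ ∧ ¬ Cfsg.IsConjUnder (Cfsg.inndiagPSU n F q) γ₁ γ₃ ∧ ¬ Cfsg.IsConjUnder (Cfsg.inndiagPSU n F q) γ₂ γ₃ ∧ (∀ γ : MulAut (Cfsg.PSU n F q), Cfsg.IsGraphAutClassPSU γ → orderOf γ = 2 → Cfsg.IsConjUnder (Cfsg.inndiagPSU n F q) γ₁ γ ∨ Cfsg.IsConjUnder (Cfsg.inndiagPSU n F q) γ₂ γ ∨ Cfsg.IsConjUnder (Cfsg.inndiagPSU n F q) γ₃ γ) ∧ Nonempty (↥(Cfsg.inndiagPSU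 n F q ⊓ Subgroup.centralizer {γ₁}) ≃* Cfsg.PGSp m F₀) ∧ Nonempty (↥(Cfsg.inndiagPSU n F q ⊓ Subgroup.centralizer {γ₂}) ≃* Cfsg.PGO F₀ (Cfsg.quadFormPlus m F₀)) ∧ Nonempty (↥(Cfsg.inndiagPSU n F q ⊓ Subgroup.centralizer {γ₃}) ≃* Cfsg.PGO F₀ (Cfsg.quadFormMinus (m - 1) F₀ a b)) := by
  classical
  obtain ⟨ι, hι⟩ := Lib.Classical.exists_fixedField_equiv hF (K := F₀) hF₀
  obtain ⟨r, _, _⟩ := PSUGraph.exists_prime_char F
  have h2 : (2 : F₀) ≠ 0 := (PSUGraph.two_ne_zero_iff hF₀).2 hodd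
  obtain ⟨k, rfl⟩ : ∃ k, m = k + 1 := ⟨m - 1, by omega⟩
  have hn : 3 ≤ n := by omega
  obtain ⟨b, hab⟩ := exists_aniso (F := F₀) h2
  let e₂ : Fin (k + 1) ⊕ Fin (k + 1) ≃ Fin n := Fintype.equivOfCardEq (by simp; omega)
  let e₃ : (Fin k ⊕ Fin k) ⊕ Fin 2 ≃ Fin n := Fintype.equivOfCardEq (by simp; omega)
  have hdisc := disc_not_isSquare h2 hab
  have hJd : (Matrix.J (Fin (k + 1)) F₀).det ≠ 0 := (Matrix.isUnit_det_J (Fin (k + 1)) F₀).ne_zero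
  have hPd : (plusMat (k + 1) F₀).det ≠ 0 := by rw [det_plusMat]; simp
  have hMd : (minusMat k 0 b).det ≠ 0 := by
    rw [det_minusMat]
    refine mul_ne_zero (by simp) fun h => hdisc ?_
    rw [show (0 : F₀) * 0 - 4 * b = 0 by linear_combination -h]
    exact IsSquare.zero
  let G₁ := glOfMat e₂ (Matrix.J (Fin (k + 1)) F₀) hJd
  let G₂ := glOfMat e₂ (plusMat (k + 1) F₀) hPd
  let G₃ := glOfMat e₃ (minusMat k 0 b) hMd
  have hT1 : (G₁ : Matrix (Fin n) (Fin n) F₀)ᵀ = -(G₁ : Matrix (Fin n) (Fin n) F₀) := by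
    rw [coe_glOfMat, transpose_submatrix, Matrix.J_transpose]; rfl
  have hT2 : (G₂ : Matrix (Fin n) (Fin n) F₀)ᵀ = (G₂ : Matrix (Fin n) (Fin n) F₀) := by
    rw [coe_glOfMat, transpose_submatrix, plusMat_transpose]
  have hT3 : (G₃ : Matrix (Fin n) (Fin n) F₀)ᵀ = (G₃ : Matrix (Fin n) (Fin n) F₀) := by
    rw [coe_glOfMat, transpose_submatrix, minusMat_transpose]
  obtain ⟨γ₁, hR1⟩ := PSUGraph.exists_rep hF hι (by omega) G₁ (d := -1) (Or.inr rfl) (by rw [hT1, neg_one_smul])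
  obtain ⟨γ₂, hR2⟩ := PSUGraph.exists_rep hF hι (by omega) G₂ (d := 1) (Or.inl rfl) (by rw [hT2, one_smul])
  obtain ⟨γ₃, hR3⟩ := PSUGraph.exists_rep hF hι (by omega) G₃ (d := 1) (Or.inl rfl) (by rw [hT3, one_smul])
  refine ⟨γ₁, γ₂, γ₃, 0, b, hab, PSUGraph.isGraph_of_rep hF hι hn hR1,
    PSUGraph.orderOf_of_rep hF hι hn (r := r) hR1, PSUGraph.isGraph_of_rep hF hι hn hR2,
    PSUGraph.orderOf_of_rep hF hι hn (r := r) hR2, PSUGraph.isGraph_of_rep hF hι hn hR3,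
    PSUGraph.orderOf_of_rep hF hι hn (r := r) hR3, ?_, ?_, ?_, ?_, ?_, ?_, ?_⟩
  · intro hc
    obtain ⟨h, c, hh⟩ := PSUGraph.congr_of_rep hF hι hn (PSUGraph.rep_of_isConjUnder hF hι hn hR1 hc) hR2
    exact not_congr_symm_skew h2 (by omega) hT1 hT2 (GeneralLinearGroup.det_ne_zero G₂) h c hh
  · intro hc
    obtain ⟨h, c, hh⟩ := PSUGraph.congr_of_rep hF hι hn (PSUGraph.rep_of_isConjUnder hF hι hn hR1 hc) hR3
    exact not_congr_symm_skew h2 (by omega) hT1 hT3 (GeneralLinearGroup.det_ne_zero G₃) h c hh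
  · intro hc
    obtain ⟨h, c, hh⟩ := PSUGraph.congr_of_rep hF hι hn (PSUGraph.rep_of_isConjUnder hF hι hn hR2 hc) hR3
    have h1 := congrArg Matrix.det hh
    rw [det_formOp, det_smul, coe_glOfMat, coe_glOfMat, det_submatrix_equiv_self,
      det_submatrix_equiv_self, det_plusMat, det_minusMat, Fintype.card_fin,
      show (c : F₀) ^ n = ((c : F₀) ^ (k + 1)) * ((c : F₀) ^ (k + 1)) by rw [← pow_add, hnm, two_mul]] at h1
    refine hdisc ⟨(h : Matrix (Fin n) (Fin n) F₀).det / (c : F₀) ^ (k + 1), ?_⟩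
    have hc : (c : F₀) ^ (k + 1) ≠ 0 := pow_ne_zero _ c.ne_zero
    generalize (c : F₀) ^ (k + 1) = C at h1 hc
    rw [pow_succ (-1 : F₀) k] at h1
    rcases neg_one_pow_eq_or F₀ k with hk | hk <;> rw [hk] at h1 <;> field_simp <;>
      first | linear_combination h1 | linear_combination -h1
  · intro γ hγ hγ2
    obtain ⟨A, hA, hAs⟩ := PSUGraph.exists_rep_of_graph hF hι hn (r := r) hγ hγ2
    rcases hAs with hM | hM
    · obtain ⟨hp, hm'⟩ := matches_plus_or_minus h2 hnm hM hab e₂ e₃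
      by_cases hs : IsSquare ((-1 : F₀) ^ (k + 1) * (A : Matrix (Fin n) (Fin n) F₀).det)
      · obtain ⟨h, c, hh⟩ := hp hs
        exact Or.inr (Or.inl (PSUGraph.conj_of_std hF hι hn e₂ _ hPd hA hR2 hh))
      · obtain ⟨h, c, hh⟩ := hm' hs
        exact Or.inr (Or.inr (PSUGraph.conj_of_std hF hι hn e₃ _ hMd hA hR3 hh))
    · obtain ⟨e, h, c, hh⟩ := matches_J hM (diag_zero_of_skew h2 hM) hnm
      obtain ⟨p, hp⟩ := exists_formOp_reindex (Matrix.J (Fin (k + 1)) F₀) e₂ e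
      exact Or.inl (PSUGraph.conj_of_std hF hι hn e₂ _ hJd hA hR1 (h := h * p) (c := c)
        (by rw [formOp_mul, hh, formOp_smul, hp]))
  · obtain ⟨e⟩ := PSUGraph.nonempty_cent_equiv hF hι hn hR1 (matches_glOfMat e₂ (Matrix.J (Fin (k + 1)) F₀) hJd)
    obtain ⟨e'⟩ := PGSp_equiv (F := F₀) (k + 1)
    exact ⟨e.trans e'⟩
  · obtain ⟨e⟩ := PSUGraph.nonempty_cent_equiv hF hι hn hR2 (matches_glOfMat e₂ (plusMat (k + 1) F₀) hPd)
    obtain ⟨e'⟩ := PGO_plus_equiv (F := F₀) h2 (k + 1)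
    exact ⟨e.trans e'⟩
  · obtain ⟨e⟩ := PSUGraph.nonempty_cent_equiv hF hι hn hR3 (matches_glOfMat e₃ (minusMat k 0 b) hMd)
    obtain ⟨e'⟩ := PGO_minus_equiv (F := F₀) h2 k 0 b
    exact ⟨e.trans e'⟩

end Cfsg.Agent.S2707
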