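import Cfsg.Agent.Lib.PSUGraph.Main
import Cfsg.Statements.S2708

set_option autoImplicit false
open Cfsg

namespace Cfsg.Agent.S2708

open Matrix Cfsg.Agent.Lib Cfsg.Agent.Lib.PSLAut
open scoped MatrixGroups

/-- Let T = PSU_n(q) with n = 2m ≥ 4 even and q even, realised over the field F (of characteristic 2) with q² elements, and G = Inndiag(T) the image of PGU_n(q). The involutory graph automorphisms of T fall into exactly two G-classes, with representatives whose centralizers in G are isomorphic respectively to the symplectic group Sp_n(F₀) and to the centralizer in Sp_n(F₀) of a symplectic transvection, F₀ a field with q elements. -/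
theorem result {F : Type*} [Field F] [Fintype F] [CharP F 2] {q : ℕ} (hF : Fintype.card F = q ^ 2) {n m : ℕ} (hm : 2 ≤ m) (hnm : n = 2 * m) (F₀ : Type*) [Field F₀] [Fintype F₀] (hF₀ : Fintype.card F₀ = q) :
    ∃ (γ₁ γ₃ : MulAut (Cfsg.PSU n F q)) (t : ↥(Matrix.symplecticGroup (Fin m) F₀)), Cfsg.IsTransvection (t : Matrix (Fin m ⊕ Fin m) (Fin m ⊕ Fin m) F₀) ∧ Cfsg.IsGraphAutClassPSU γ₁ ∧ orderOf γ₁ = 2 ∧ Cfsg.IsGraphAutClassPSU γ₃ ∧ orderOf γ₃ = 2 ∧ ¬ Cfsg.IsConjUnder (Cfsg.inndiagPSU n F q) γ₁ γ₃ ∧ (∀ γ : MulAut (Cfsg.PSU n F q), Cfsg.IsGraphAutClassPSU γ → orderOf γ = 2 → Cfsg.IsConjUnder (Cfsg.inndiagPSU n F q) γ₁ γ ∨ Cfsg.IsConjUnder (Cfsg.inndiagPSU n F q) γ₃ γ) ∧ Nonempty (↥(Cfsg.inndiagPSU n F q ⊓ Subgroup.centralizer {γ₁}) ≃* ↥(Matrix.symplecticGroup (Fin m) F₀)) ∧ Nonempty (↥(Cfsg.inndiagPSU n F q ⊓ Subgroup.centralizer {γ₃}) ≃* ↥(Subgroup.centralizer ({t} : Set ↥(Matrix.symplecticGroup (Fin m) F₀)))) := by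
  classical
  obtain ⟨ι, hι⟩ := Lib.Classical.exists_fixedField_equiv hF (K := F₀) hF₀
  haveI : CharP F₀ 2 := (RingHom.charP_iff ι ι.injective 2).2 inferInstance
  have h2 : (2 : F₀) = 0 := by exact_mod_cast CharP.cast_eq_zero F₀ 2
  haveI : Fact (Nat.Prime 2) := ⟨Nat.prime_two⟩
  have hn : 3 ≤ n := by omega
  let z₀ : Fin m ⊕ Fin m → F₀ := Pi.single (.inr ⟨0, by omega⟩) 1
  have hz₀ : z₀ ≠ 0 := fun h => by simpa [z₀] using congrFun h (.inr ⟨0, by omega⟩)
  let t : ↥(Matrix.symplecticGroup (Fin m) F₀) := ⟨pseudoTransvection z₀, pseudoTransvection_mem h2 z₀⟩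
  let e : Fin m ⊕ Fin m ≃ Fin n := Fintype.equivOfCardEq (by simp; omega)
  have hJd : (Matrix.J (Fin m) F₀).det ≠ 0 := (Matrix.isUnit_det_J (Fin m) F₀).ne_zero
  have hJT : (Matrix.J (Fin m) F₀)ᵀ = Matrix.J (Fin m) F₀ := by
    rw [Matrix.J_transpose, PSUGraph.neg_eq_self h2]
  have hPT : (pseudoMat z₀)ᵀ = pseudoMat z₀ := by
    rw [pseudoMat, transpose_add, hJT, transpose_vecMulVec]
  have hPd : (pseudoMat z₀).det ≠ 0 := by
    intro h0
    obtain ⟨v, hv, hv0⟩ := Matrix.exists_mulVec_eq_zero_iff.mpr h0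
    rw [pseudoMat, add_mulVec, vecMulVec_mulVec] at hv0
    set w := Matrix.J (Fin m) F₀ *ᵥ z₀ with hw
    have hJv : Matrix.J (Fin m) F₀ *ᵥ v = (w ⬝ᵥ v) • w := by
      funext i
      have := congrFun hv0 i
      simp at this ⊢
      rw [CharTwo.add_eq_zero] at this
      rw [this, mul_comm]
    have hvz : v = (w ⬝ᵥ v) • z₀ := by
      refine Matrix.mulVec_injective_iff_isUnit.mpr
        ((Matrix.isUnit_iff_isUnit_det _).mpr (Matrix.isUnit_det_J (Fin m) F₀)) ?_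
      show Matrix.J (Fin m) F₀ *ᵥ v = Matrix.J (Fin m) F₀ *ᵥ ((w ⬝ᵥ v) • z₀)
      rw [mulVec_smul, ← hw, hJv]
    have hwz : w ⬝ᵥ z₀ = 0 := by
      rw [dotProduct_comm]
      show Cfsg.sympForm m F₀ z₀ z₀ = 0
      rw [← Lib.Forms.sympBilin_apply]; exact Lib.Forms.sympBilin_isAlt _
    have h0' : w ⬝ᵥ v = 0 := by rw [hvz, dotProduct_smul, hwz, smul_zero]
    rw [h0', zero_smul] at hvz
    exact hv hvz
  let G₁ := glOfMat e (Matrix.J (Fin m) F₀) hJd
  let G₃ := glOfMat e (pseudoMat z₀) hPd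
  obtain ⟨γ₁, hR1⟩ := PSUGraph.exists_rep hF hι (by omega) G₁ (d := 1) (Or.inl rfl)
    (by rw [coe_glOfMat, transpose_submatrix, hJT, one_smul])
  obtain ⟨γ₃, hR3⟩ := PSUGraph.exists_rep hF hι (by omega) G₃ (d := 1) (Or.inl rfl)
    (by rw [coe_glOfMat, transpose_submatrix, hPT, one_smul])
  refine ⟨γ₁, γ₃, t, isTransvection_pseudo z₀ hz₀,
    PSUGraph.isGraph_of_rep hF hι hn hR1, PSUGraph.orderOf_of_rep hF hι hn (r := 2) hR1,
    PSUGraph.isGraph_of_rep hF hι hn hR3, PSUGraph.orderOf_of_rep hF hι hn (r := 2) hR3, ?_, ?_, ?_, ?_⟩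
  · intro hc
    obtain ⟨h, c, hh⟩ := PSUGraph.congr_of_rep hF hι hn (PSUGraph.rep_of_isConjUnder hF hι hn hR1 hc) hR3
    rw [coe_glOfMat, coe_glOfMat] at hh
    -- a congruence preserves the vanishing of the diagonal
    obtain ⟨j, hj⟩ := Function.ne_iff.mp
      (fun h0 : Matrix.J (Fin m) F₀ *ᵥ z₀ = 0 => hz₀ (Matrix.eq_zero_of_mulVec_eq_zero hJd h0))
    have h1 := congrFun (congrFun hh (e j)) (e j)
    have hq : formOp h ((Matrix.J (Fin m) F₀).submatrix e.symm e.symm) (e j) (e j) = 0 := by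
      rw [show formOp h ((Matrix.J (Fin m) F₀).submatrix e.symm e.symm) (e j) (e j)
          = Pi.single (e j) 1 ⬝ᵥ (formOp h ((Matrix.J (Fin m) F₀).submatrix e.symm e.symm) *ᵥ Pi.single (e j) 1)
        by simp, dot_formOp, Matrix.submatrix_mulVec_equiv]
      set v := (h : Matrix (Fin n) (Fin n) F₀) *ᵥ Pi.single (e j) 1
      rw [dotProduct, ← e.sum_comp]
      simp only [Equiv.symm_symm, Function.comp_apply, Equiv.symm_apply_apply]
      show Cfsg.sympForm m F₀ (fun i => v (e i)) (fun i => v (e i)) = 0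
      rw [← Lib.Forms.sympBilin_apply]; exact Lib.Forms.sympBilin_isAlt _
    have hJ0 : Matrix.J (Fin m) F₀ j j = 0 := by rcases j with j | j <;> simp [Matrix.J]
    rw [hq] at h1
    simp [pseudoMat, hJ0, vecMulVec_apply] at h1
    exact hj h1
  · intro γ hγ hγ2
    obtain ⟨A, hA, hAs⟩ := PSUGraph.exists_rep_of_graph hF hι hn (r := 2) hγ hγ2
    have hM : (A : Matrix (Fin n) (Fin n) F₀)ᵀ = (A : Matrix (Fin n) (Fin n) F₀) := by
      rcases hAs with h | h
      · exact h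
      · rw [h, PSUGraph.neg_eq_self h2]
    rcases exists_formOp_char_two h2 hM (GeneralLinearGroup.det_ne_zero A) with
      ⟨b, e', h, hh⟩ | ⟨b, e', -, -⟩ | ⟨b, e', h, z, hz, hh⟩
    · have hb : b = m := by have := Fintype.card_congr e'; simp at this; omega
      subst hb
      obtain ⟨p, hp⟩ := exists_formOp_reindex (Matrix.J (Fin b) F₀) e e'
      exact Or.inl (PSUGraph.conj_of_std hF hι hn e _ hJd hA hR1 (h := h * p) (c := 1) (by
        rw [formOp_mul, hh, hp, Units.val_one, one_smul]))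
    · have := Fintype.card_congr e'; simp at this; omega
    · have hb : b = m := by have := Fintype.card_congr e'; simp at this; omega
      subst hb
      obtain ⟨p, hp⟩ := exists_formOp_reindex (pseudoMat z) e e'
      obtain ⟨g, hg⟩ := exists_formOp_pseudo hz hz₀
      refine Or.inr (PSUGraph.conj_of_std hF hι hn e _ hPd hA hR3 (h := h * p * glReindex e g) (c := 1) ?_)
      rw [formOp_mul, formOp_mul, hh, hp, formOp_glReindex, hg, Units.val_one, one_smul]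
  · obtain ⟨e1⟩ := PSUGraph.nonempty_cent_equiv hF hι hn hR1 (matches_glOfMat e (Matrix.J (Fin m) F₀) hJd)
    obtain ⟨e2⟩ := nonempty_matSimil_equiv_matIso h2 (A := Matrix.J (Fin m) F₀)
      (fun h => hJd (by haveI : Nonempty (Fin m ⊕ Fin m) := ⟨.inl ⟨0, by omega⟩⟩; rw [h]; exact Matrix.det_zero))
    obtain ⟨e3⟩ := nonempty_matIso_J_equiv (F := F₀) (m := m)
    exact ⟨e1.trans (e2.trans e3)⟩
  · obtain ⟨e1⟩ := PSUGraph.nonempty_cent_equiv hF hι hn hR3 (matches_glOfMat e (pseudoMat z₀) hPd)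
    obtain ⟨e2⟩ := nonempty_matSimil_equiv_matIso h2 (A := pseudoMat z₀)
      (fun h => hPd (by haveI : Nonempty (Fin m ⊕ Fin m) := ⟨.inl ⟨0, by omega⟩⟩; rw [h]; exact Matrix.det_zero))
    obtain ⟨e3⟩ := nonempty_matIso_pseudo_equiv h2 z₀ hz₀ t rfl
    exact ⟨e1.trans (e2.trans e3)⟩

end Cfsg.Agent.S2708
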