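import Cfsg.Agent.Lib.PSUGraph.Main
import Cfsg.Statements.S2709

set_option autoImplicit false
open Cfsg

namespace Cfsg.Agent.S2709

open Matrix Cfsg.Agent.Lib Cfsg.Agent.Lib.PSLAut
open scoped MatrixGroups

/-- Let T = PSU_n(q) be simple (n ≥ 3, (n,q) ≠ (3,2), q = p^f), realised over the field F with q² elements, G = Inndiag(T) the image of PGU_n(q), and γ an involutory graph automorphism of T. The G-class of γ is the union of exactly c T-classes, where: if n is even and q is odd, c = gcd(n/2, q + 1) when C_G(γ) is isomorphic to PGSp_n(F₀) for a field F₀ with q elements (symplectic type) and c = gcd(n, q + 1)/2 otherwise; and c = gcd(n, q + 1) when n is odd or q is even. -/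
theorem result {F : Type*} [Field F] [Fintype F] {p f q : ℕ} [Fact p.Prime] (hq : q = p ^ f) (hf : 1 ≤ f) (hF : Fintype.card F = q ^ 2) {n : ℕ} (hn : 3 ≤ n) (hs : ¬ (n = 3 ∧ q = 2)) (F₀ : Type*) [Field F₀] [Fintype F₀] (hF₀ : Fintype.card F₀ = q) (γ : MulAut (Cfsg.PSU n F q)) (hγ : Cfsg.IsGraphAutClassPSU γ) (hγ2 : orderOf γ = 2) :
    ((Even n ∧ Odd q ∧ Nonempty (↥(Cfsg.inndiagPSU n F q ⊓ Subgroup.centralizer {γ}) ≃* Cfsg.PGSp (n / 2) F₀)) → Cfsg.splitClassCount (Cfsg.inndiagPSU n F q) (Cfsg.Inn (Cfsg.PSU n F q)) γ = Nat.gcd (n / 2) (q + 1)) ∧ ((Even n ∧ Odd q ∧ ¬ Nonempty (↥(Cfsg.inndiagPSU n F q ⊓ Subgroup.centralizer {γ}) ≃* Cfsg.PGSp (n / 2) F₀)) → Cfsg.splitClassCount (Cfsg.inndiagPSU n F q) (Cfsg.Inn (Cfsg.PSU n F q)) γ = Nat.gcd n (q + 1) / 2) ∧ (¬ (Even n ∧ Odd q) → Cfsg.splitClassCount (Cfsg.inndiagPSU n F q) (Cfsg.Inn (Cfsg.PSU n F q)) γ = Nat.gcd n (q + 1)) := by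
  classical
  obtain ⟨ι, hι⟩ := Lib.Classical.exists_fixedField_equiv hF (K := F₀) hF₀
  obtain ⟨r, _, _⟩ := PSUGraph.exists_prime_char F
  obtain ⟨A, hA, hAs⟩ := PSUGraph.exists_rep_of_graph hF hι hn (r := r) hγ hγ2
  have hodd : Odd q ↔ (2 : F₀) ≠ 0 := (PSUGraph.two_ne_zero_iff hF₀).symm
  have heven : Even n → Odd q → ∃ k, n = 2 * (k + 1) ∧ 1 ≤ k := by
    rintro ⟨m, hm⟩ -
    exact ⟨m - 1, by omega, by omega⟩
  refine ⟨?_, ?_, ?_⟩
  · rintro ⟨he, ho, hiso⟩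
    obtain ⟨k, hnk, hk⟩ := heven he ho
    have h2 := hodd.mp ho
    have hdiv : n / 2 = k + 1 := by omega
    rw [hdiv] at hiso ⊢
    rcases hAs with hM | hM
    · exfalso
      obtain ⟨b, hab⟩ := exists_aniso (F := F₀) h2
      obtain ⟨hp', hm'⟩ := matches_plus_or_minus h2 hnk hM hab
        (Fintype.equivOfCardEq (by simp; omega)) (Fintype.equivOfCardEq (by simp; omega))
      obtain ⟨hnp, hnm⟩ := not_nonempty_PGSp_equiv h2 hk 0 b hab
      obtain ⟨E⟩ := hiso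
      by_cases hs : IsSquare ((-1 : F₀) ^ (k + 1) * (A : Matrix (Fin n) (Fin n) F₀).det)
      · obtain ⟨h, c, hh⟩ := hp' hs
        obtain ⟨e⟩ := PSUGraph.nonempty_cent_equiv hF hι hn hA (B := plusMat (k + 1) F₀) ⟨_, h, c, hh⟩
        exact hnp ⟨e.symm.trans E⟩
      · obtain ⟨h, c, hh⟩ := hm' hs
        obtain ⟨e⟩ := PSUGraph.nonempty_cent_equiv hF hι hn hA (B := minusMat k 0 b) ⟨_, h, c, hh⟩
        exact hnm ⟨e.symm.trans E⟩
    · exact PSUGraph.split_symp hF hι hn hA hnk (matches_J hM (diag_zero_of_skew h2 hM) hnk)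
  · rintro ⟨he, ho, hiso⟩
    obtain ⟨k, hnk, hk⟩ := heven he ho
    have h2 := hodd.mp ho
    rcases hAs with hM | hM
    · exact PSUGraph.split_orth hF hι hn hA hnk h2 ho hM
    · exfalso
      refine hiso ?_
      obtain ⟨e⟩ := PSUGraph.nonempty_cent_equiv hF hι hn hA (matches_J hM (diag_zero_of_skew h2 hM) hnk)
      obtain ⟨e'⟩ := PGSp_equiv (F := F₀) (k + 1)
      rw [show n / 2 = k + 1 by omega]
      exact ⟨e.trans e'⟩
  · intro hnot
    exact PSUGraph.split_rest hF hι hn hA fun h => hnot ⟨h.1, hodd.mpr h.2⟩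

end Cfsg.Agent.S2709
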