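import Cfsg.Agent.Lib.PSUGraph.Main
import Cfsg.Statements.S2710

set_option autoImplicit false
open Cfsg

namespace Cfsg.Agent.S2710

open Matrix Cfsg.Agent.Lib Cfsg.Agent.Lib.PSLAut
open scoped MatrixGroups

/-- Let T = PSU_n(q) with n ≥ 4 divisible by 4 (n = 2m) and q odd, realised over the field F with q² elements, G = Inndiag(T) the image of PGU_n(q), and φ the standard field automorphism of T attached to the q-th power map of F (it induces inverse-transpose on the unitary matrices and is a graph automorphism). Its centralizer in G is isomorphic to the projective conformal orthogonal group of the plus-type form Σ xᵢ yᵢ in dimension n over a field F₀ with q elements. (Dimensions n ≡ 2 (mod 4) are not covered.) -/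
theorem result {F : Type*} [Field F] [Fintype F] {q : ℕ} (hodd : Odd q) (hF : Fintype.card F = q ^ 2) {n m : ℕ} (hm : 2 ≤ m) (hnm : n = 2 * m) (h4 : 4 ∣ n) (F₀ : Type*) [Field F₀] [Fintype F₀] (hF₀ : Fintype.card F₀ = q) (σ : F ≃+* F) (hσ : ∀ a : F, σ a = a ^ q) (φ : MulAut (Cfsg.PSU n F q)) (hφ : Cfsg.IsFieldAutPSUOf σ φ) :
    Nonempty (↥(Cfsg.inndiagPSU n F q ⊓ Subgroup.centralizer {φ}) ≃* Cfsg.PGO F₀ (Cfsg.quadFormPlus m F₀)) := by
  classical
  obtain ⟨ι, hι⟩ := Lib.Classical.exists_fixedField_equiv hF (K := F₀) hF₀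
  have h2 : (2 : F₀) ≠ 0 := (PSUGraph.two_ne_zero_iff hF₀).2 hodd
  have hn : 3 ≤ n := by omega
  obtain rfl := (PSUAut.isFieldAutOf_iff σ φ).1 hφ
  obtain rfl : σ = FieldDescent.barEquiv hF := RingEquiv.ext fun a => by
    rw [FieldDescent.barEquiv_apply, hσ]
  obtain ⟨k, rfl⟩ : ∃ k, m = k + 1 := ⟨m - 1, by omega⟩
  obtain ⟨b, hab⟩ := exists_aniso (F := F₀) h2
  obtain ⟨hp, -⟩ := matches_plus_or_minus h2 hnm (M := (1 : GL (Fin n) F₀))
    (by rw [Units.val_one, transpose_one]) hab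
    (Fintype.equivOfCardEq (by simp; omega)) (Fintype.equivOfCardEq (by simp; omega))
  have hev : Even (k + 1) := by
    obtain ⟨j, hj⟩ := h4
    exact ⟨j, by omega⟩
  obtain ⟨h, c, hh⟩ := hp (by rw [Units.val_one, det_one, mul_one, hev.neg_one_pow]; exact IsSquare.one)
  obtain ⟨e⟩ := PSUGraph.nonempty_cent_equiv hF hι hn (PSUGraph.rep_fieldAut hF hι hn)
    (B := plusMat (k + 1) F₀) ⟨_, h, c, hh⟩
  obtain ⟨e'⟩ := PGO_plus_equiv (F := F₀) h2 (k + 1)
  exact ⟨e.trans e'⟩

end Cfsg.Agent.S2710
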