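import Cfsg.Statements.S2720
import Cfsg.Agent.Lib.POmegaSemi.Main

set_option autoImplicit false
open Cfsg

namespace Cfsg.Agent.S2720

/-- Let T = PΩ⁺_{2m}(F) (m ≥ 4, F finite of odd characteristic p), G = Inndiag(T), and let x be an automorphism of T induced by a similarity of the form (an element of the image G̃ of the conformal orthogonal group) of odd prime order r ≠ p. Then the T-class, the PSO-class and the G-class of x coincide (conjugacy under inner automorphisms, under the image of the special orthogonal group, and under G), and the PO-class of x coincides with its G̃-class. (In characteristic 2 the first equality fails: there the special orthogonal group is the full orthogonal group and some such classes split.) -/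
theorem result {F : Type*} [Field F] [Fintype F] {p : ℕ} [Fact p.Prime] [CharP F p] (hp : p ≠ 2) {m : ℕ} (hm : 4 ≤ m) (x : MulAut (Cfsg.POmega F (Cfsg.quadFormPlus m F))) (hx : x ∈ Cfsg.pgoAut F (Cfsg.quadFormPlus m F)) {r : ℕ} (hr : r.Prime) (hro : Odd r) (hrp : r ≠ p) (hxr : orderOf x = r) :
    (∀ y : MulAut (Cfsg.POmega F (Cfsg.quadFormPlus m F)), (Cfsg.IsConjUnder (Cfsg.Inn (Cfsg.POmega F (Cfsg.quadFormPlus m F))) x y ↔ Cfsg.IsConjUnder (Cfsg.inndiagPOmegaPlus m F) x y) ∧ (Cfsg.IsConjUnder (Cfsg.psoAut F (Cfsg.quadFormPlus m F)) x y ↔ Cfsg.IsConjUnder (Cfsg.inndiagPOmegaPlus m F) x y)) ∧ (∀ y : MulAut (Cfsg.POmega F (Cfsg.quadFormPlus m F)), Cfsg.IsConjUnder (Cfsg.poAut F (Cfsg.quadFormPlus m F)) x y ↔ Cfsg.IsConjUnder (Cfsg.pgoAut F (Cfsg.quadFormPlus m F)) x y) := by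
  have hodd := Cfsg.Agent.Lib.POmegaSemi.odd_card_of (F := F) hp
  have hm3 : 3 ≤ m := by omega
  obtain ⟨hr0, hxr', hx1⟩ := Cfsg.Agent.Lib.POmegaSemi.order_facts (F := F) hr hrp hxr
  obtain ⟨g0, R⟩ := (Cfsg.Agent.Lib.POmegaDiag.plus_data (F := F) hodd hm3).1
  exact Cfsg.Agent.Lib.POmegaSemi.class_fusion_of (Cfsg.Agent.Lib.POmegaDiag.plus_even hodd hm3) R
    (Cfsg.quadFormPlus m F) (Cfsg.Agent.Lib.Classical.coe_plusForm m)
    (fun g => Cfsg.PreservesSingularClasses (Cfsg.quadFormPlus m F) (g : Matrix (Fin m ⊕ Fin m) (Fin m ⊕ Fin m) F))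
    (fun g => by
      rw [← Cfsg.Agent.Lib.Classical.coe_plusForm]
      exact Cfsg.Agent.Lib.POmegaDiag.plus_preserves hodd hm3 g)
    hx hro hr0 hxr' hx1

end Cfsg.Agent.S2720
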