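import Cfsg.Statements.S2738
import Mathlib

set_option autoImplicit false
open Cfsg

namespace Cfsg.Agent.S2738

/-- The special linear group SL(3, 4) has centre of order 3 and does not split over it: no subgroup is a complement to the centre (so SL(3, 4) is a non-split central extension of PSL(3, 4) by a group of order 3). -/
theorem result (F : Type*) [Field F] [Fintype F] (hF : Fintype.card F = 4) : Nat.card ↥(Subgroup.center (Matrix.SpecialLinearGroup (Fin 3) F)) = 3 ∧ ¬ ∃ K : Subgroup (Matrix.SpecialLinearGroup (Fin 3) F), Subgroup.IsComplement' (Subgroup.center (Matrix.SpecialLinearGroup (Fin 3) F)) K := by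
  classical
  have h2 : (2 : F) = 0 := by
    haveI : CharP F 2 := charP_of_card_eq_prime_pow (p := 2) (f := 2) (by rw [hF]; rfl)
    exact_mod_cast CharP.cast_eq_zero F 2
  have hu : Nat.card Fˣ = 3 := by rw [Nat.card_units, Nat.card_eq_fintype_card, hF]
  constructor
  · rw [Nat.card_congr (Matrix.SpecialLinearGroup.center_equiv_rootsOfUnity' (0 : Fin 3)).toEquiv]
    have : rootsOfUnity (Fintype.card (Fin 3)) F = ⊤ := by
      rw [Subgroup.eq_top_iff']
      intro x
      rw [mem_rootsOfUnity, Fintype.card_fin, ← hu, pow_card_eq_one']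
    rw [this]
    exact (Nat.card_congr Subgroup.topEquiv.toEquiv).trans hu
  · rintro ⟨K, hK⟩
    obtain ⟨w, hw⟩ : ∃ w : F, w ≠ 0 ∧ w ≠ 1 := by
      by_contra h
      push Not at h
      have hsub : (Finset.univ : Finset F) ⊆ {0, 1} := fun x _ => by
        by_cases hx : x = 0
        · simp [hx]
        · simp [h x hx]
      have := (Finset.card_le_card hsub).trans Finset.card_le_two
      rw [Finset.card_univ, hF] at this
      omega
    have hw3 : w ^ 3 = 1 := by
      have := FiniteField.pow_card_sub_one_eq_one w hw.1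
      rwa [hF] at this
    have hw2 : w * (w * w) = 1 := by rw [← hw3]; ring
    let a : Matrix.SpecialLinearGroup (Fin 3) F :=
      ⟨!![1, 0, 0; 0, w, 0; 0, 0, w ^ 2], by
        simp [Matrix.det_fin_three]; linear_combination hw2⟩
    let b : Matrix.SpecialLinearGroup (Fin 3) F :=
      ⟨!![0, 0, 1; 1, 0, 0; 0, 1, 0], by simp [Matrix.det_fin_three]⟩
    let z : Matrix.SpecialLinearGroup (Fin 3) F :=
      ⟨!![w, 0, 0; 0, w, 0; 0, 0, w], by simp [Matrix.det_fin_three]; linear_combination hw2⟩
    have hz : z ∈ Subgroup.center (Matrix.SpecialLinearGroup (Fin 3) F) := by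
      rw [Matrix.SpecialLinearGroup.mem_center_iff]
      refine ⟨w, by rw [Fintype.card_fin, hw3], ?_⟩
      ext i j
      fin_cases i <;> fin_cases j <;> simp [z]
    have hab : a * b = z * (b * a) := by
      apply Subtype.ext
      show (!![(1:F), 0, 0; 0, w, 0; 0, 0, w ^ 2] * !![0, 0, 1; 1, 0, 0; 0, 1, 0]) =
        !![w, 0, 0; 0, w, 0; 0, 0, w] * (!![0, 0, 1; 1, 0, 0; 0, 1, 0] *
          !![1, 0, 0; 0, w, 0; 0, 0, w ^ 2])
      ext i j
      fin_cases i <;> fin_cases j <;>
        simp [Matrix.mul_apply, Fin.sum_univ_three] <;>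
        first
          | ring1
          | linear_combination -hw2
          | linear_combination hw2
    obtain ⟨⟨⟨za, hza⟩, ka⟩, hca⟩ := hK.2 a
    obtain ⟨⟨⟨zb, hzb⟩, kb⟩, hcb⟩ := hK.2 b
    simp only at hca hcb
    have ha' : ∀ g, g * za = za * g := fun g => Subgroup.mem_center_iff.mp hza g
    have hb' : ∀ g, g * zb = zb * g := fun g => Subgroup.mem_center_iff.mp hzb g
    have hz' : ∀ g, g * z = z * g := fun g => Subgroup.mem_center_iff.mp hz g
    have hzK : z ∈ K := by
      have h1 : z = (a * b) * (b * a)⁻¹ := eq_mul_inv_of_mul_eq hab.symm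
      rw [h1, ← hca, ← hcb]
      have : (za * ka.1) * (zb * kb.1) * ((zb * kb.1) * (za * ka.1))⁻¹
          = ka.1 * kb.1 * ka.1⁻¹ * kb.1⁻¹ := by
        have e1 : (za * ka.1) * (zb * kb.1) = (za * zb) * (ka.1 * kb.1) := by
          rw [mul_assoc za, ← mul_assoc ka.1, hb' ka.1]; group
        have e2 : (zb * kb.1) * (za * ka.1) = (za * zb) * (kb.1 * ka.1) := by
          rw [mul_assoc zb, ← mul_assoc kb.1, ha' kb.1, hb' za]; group
        have hc : za * zb ∈ Subgroup.center _ := mul_mem hza hzb
        rw [e1, e2, ← Subgroup.mem_center_iff.mp hc (ka.1 * kb.1),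
          ← Subgroup.mem_center_iff.mp hc (kb.1 * ka.1)]
        group
      rw [this]
      exact mul_mem (mul_mem (mul_mem ka.2 kb.2) (inv_mem ka.2)) (inv_mem kb.2)
    have hz1 : z = 1 := by
      have := Subgroup.disjoint_def.mp hK.disjoint hz hzK
      exact this
    have := congrArg (fun M : Matrix.SpecialLinearGroup (Fin 3) F => M.1 0 0) hz1
    simp [z] at this
    exact hw.2 this

end Cfsg.Agent.S2738
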