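import Cfsg.Statements.S2739
import Mathlib

set_option autoImplicit false
open scoped Pointwise
open Cfsg

namespace Cfsg.Agent.S2739

open Matrix Polynomial in
/-- Cayley–Hamilton for a 3×3 matrix of determinant 1. -/
theorem ch_three {F : Type*} [Field F] (M : Matrix (Fin 3) (Fin 3) F) (hd : M.det = 1) :
    ∃ s : F, M ^ 3 - M.trace • M ^ 2 + s • M - 1 = 0 := by
  refine ⟨M.charpoly.coeff 1, ?_⟩
  have h := Matrix.aeval_self_charpoly M
  have hn : M.charpoly.natDegree = 3 := by rw [Matrix.charpoly_natDegree_eq_dim, Fintype.card_fin]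
  have h3 : M.charpoly.coeff 3 = 1 := by
    have := (Matrix.charpoly_monic M).coeff_natDegree
    rwa [hn] at this
  have h2 : M.charpoly.coeff 2 = -M.trace := by
    rw [Matrix.trace_eq_neg_charpoly_coeff, Fintype.card_fin]; simp
  have h0 : M.charpoly.coeff 0 = -1 := by
    have := Matrix.det_eq_sign_charpoly_coeff M
    rw [hd, Fintype.card_fin] at this
    linear_combination this
  rw [Polynomial.aeval_eq_sum_range, hn] at h
  simp only [Finset.sum_range_succ, Finset.sum_range_zero, zero_add, pow_zero, pow_one, h0, h2, h3,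
    one_smul, neg_smul] at h
  rw [← h]
  abel

variable {F : Type*} [Field F] [Fintype F]

theorem basic (hF : Fintype.card F = 4) :
    (2 : F) = 0 ∧ (∀ x : F, x ≠ 0 → x ^ 3 = 1) ∧ ∃ w : F, w ≠ 1 ∧ w ^ 2 + w + 1 = 0 := by
  classical
  haveI : CharP F 2 := charP_of_card_eq_prime_pow (p := 2) (f := 2) (by rw [hF]; rfl)
  have h3 : ∀ x : F, x ≠ 0 → x ^ 3 = 1 := fun x hx => by
    have := FiniteField.pow_card_sub_one_eq_one x hx
    rwa [hF] at this
  refine ⟨by exact_mod_cast CharP.cast_eq_zero F 2, h3, ?_⟩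
  obtain ⟨w, hw⟩ : ∃ w : F, w ≠ 0 ∧ w ≠ 1 := by
    by_contra h
    push Not at h
    have hsub : (Finset.univ : Finset F) ⊆ {0, 1} := fun x _ => by
      by_cases hx : x = 0
      · simp [hx]
      · simp [h x hx]
    have := (Finset.card_le_card hsub).trans Finset.card_le_two
    rw [Finset.card_univ, hF] at this
    omega
  refine ⟨w, hw.2, ?_⟩
  have : (w - 1) * (w ^ 2 + w + 1) = 0 := by linear_combination h3 w hw.1
  exact (mul_eq_zero.mp this).resolve_left (sub_ne_zero.mpr hw.2)

open Matrix Polynomial in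
theorem cube_eq_one (hF : Fintype.card F = 4) (M : Matrix (Fin 3) (Fin 3) F) (hd : M.det = 1)
    (a : F) (hM : M ^ 3 = a • (1 : Matrix (Fin 3) (Fin 3) F)) : a = 1 := by
  classical
  obtain ⟨-, h3, -⟩ := basic hF
  by_contra ha
  have ha0 : a ≠ 0 := by
    rintro rfl
    have := congrArg Matrix.det hM
    simp [hd] at this
  obtain ⟨s, hs⟩ := ch_three M hd
  let R : F[X] := C (-M.trace) * X ^ 2 + C s * X + C (a - 1)
  let Q : F[X] := X ^ 3 - C a
  have hQ : Irreducible Q := by
    have hdeg : Q.natDegree = 3 := natDegree_X_pow_sub_C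
    refine (Polynomial.irreducible_iff_roots_eq_zero_of_degree_le_three (by omega) (by omega)).mpr ?_
    rw [Multiset.eq_zero_iff_forall_notMem]
    intro x hx
    have hx' := (Polynomial.mem_roots'.mp hx).2
    simp [Q, IsRoot, sub_eq_zero] at hx'
    by_cases hx0 : x = 0
    · subst hx0; simp at hx'; exact ha0 hx'.symm
    · exact ha (hx'.symm.trans (h3 x hx0))
  have hR : R ≠ 0 := by
    intro h
    have := congrArg (fun p => Polynomial.coeff p 0) h
    simp [R] at this
    exact ha (sub_eq_zero.mp this)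
  have hcop : IsCoprime Q R := by
    refine (hQ.coprime_iff_not_dvd).mpr fun hdvd => ?_
    have h1 := Polynomial.natDegree_le_of_dvd hdvd hR
    have h2 : Q.natDegree = 3 := natDegree_X_pow_sub_C
    have h4 : R.natDegree ≤ 2 := natDegree_quadratic_le
    omega
  obtain ⟨u, v, huv⟩ := hcop
  have := congrArg (Polynomial.aeval M) huv
  have e1 : Polynomial.aeval M Q = 0 := by
    simp [Q, Algebra.algebraMap_eq_smul_one, hM]
  have e2 : Polynomial.aeval M R = 0 := by
    simp [R, Algebra.algebraMap_eq_smul_one, sub_smul]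
    rw [← hs, hM]
    abel
  simp [e1, e2] at this

open Matrix in
theorem eigen_ne_zero (hF : Fintype.card F = 4) (M : Matrix (Fin 3) (Fin 3) F) (hd : M.det = 1)
    (hM : M ^ 3 = 1) (hns : ∀ c : F, M ≠ c • (1 : Matrix (Fin 3) (Fin 3) F)) (u : F)
    (hu : u ≠ 0) : 1 + u • M + u ^ 2 • M ^ 2 ≠ 0 := by
  intro h
  obtain ⟨h2, h3, -⟩ := basic hF
  obtain ⟨s, hs⟩ := ch_three M hd
  rw [hM] at hs
  have hts : M.trace • M ^ 2 = s • M := by
    rw [← sub_eq_zero]
    have : M.trace • M ^ 2 - s • M = -(1 - M.trace • M ^ 2 + s • M - 1) := by abel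
    rw [this, hs, neg_zero]
  have ht : M.trace = 0 := by
    by_contra ht
    refine hns (M.trace⁻¹ * s) ?_
    have hu' : IsUnit M := (Matrix.isUnit_iff_isUnit_det M).mpr (by rw [hd]; exact isUnit_one)
    have : M.trace • M = s • (1 : Matrix (Fin 3) (Fin 3) F) := by
      apply hu'.mul_left_cancel
      rw [mul_smul_comm, mul_smul_comm, mul_one, ← sq, hts]
    rw [← smul_smul, ← this, smul_smul, inv_mul_cancel₀ ht, one_smul]
  have hsq : (M ^ 2).trace = 0 := by
    have : (M ^ 2).trace = M.trace ^ 2 - 2 * (M 0 0 * M 1 1 + M 0 0 * M 2 2 + M 1 1 * M 2 2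
        - M 0 1 * M 1 0 - M 0 2 * M 2 0 - M 1 2 * M 2 1) := by
      rw [sq M]
      simp [Matrix.trace, Fin.sum_univ_three, Matrix.mul_apply]
      ring
    rw [this, ht, h2]; ring
  have := congrArg Matrix.trace h
  simp [ht, hsq, Matrix.trace_add, Matrix.trace_smul] at this
  exact one_ne_zero (show (1 : F) = 0 by linear_combination this - h2)

open Matrix in
theorem exists_conj (hF : Fintype.card F = 4) (w : F) (hw1 : w ≠ 1) (hw : w ^ 2 + w + 1 = 0)
    (g : Matrix.SpecialLinearGroup (Fin 3) F)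
    (hg : g ∉ Subgroup.center (Matrix.SpecialLinearGroup (Fin 3) F))
    (hg3 : g ^ 3 ∈ Subgroup.center (Matrix.SpecialLinearGroup (Fin 3) F)) :
    ∃ P : Matrix.SpecialLinearGroup (Fin 3) F,
      ((P⁻¹ * g * P : Matrix.SpecialLinearGroup (Fin 3) F) : Matrix (Fin 3) (Fin 3) F) =
        diagonal ![1, w, w ^ 2] := by
  classical
  obtain ⟨h2, h3, -⟩ := basic hF
  obtain ⟨a, -, ha⟩ := Matrix.SpecialLinearGroup.mem_center_iff.mp hg3
  rw [Matrix.SpecialLinearGroup.coe_pow, Matrix.scalar_apply, ← Matrix.smul_one_eq_diagonal] at ha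
  set M : Matrix (Fin 3) (Fin 3) F := (g : Matrix (Fin 3) (Fin 3) F) with hMdef
  obtain rfl := cube_eq_one hF M g.2 a ha.symm
  rw [one_smul] at ha
  have hw0 : w ≠ 0 := by rintro rfl; simp at hw
  have hns : ∀ c : F, M ≠ c • (1 : Matrix (Fin 3) (Fin 3) F) := by
    intro c hc
    apply hg
    rw [Matrix.SpecialLinearGroup.mem_center_iff]
    refine ⟨c, ?_, ?_⟩
    · have := congrArg Matrix.det hc
      rw [Matrix.det_smul, Matrix.det_one, mul_one] at this
      exact this.symm.trans g.2
    · rw [Matrix.scalar_apply, ← Matrix.smul_one_eq_diagonal]; exact hc.symm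
  let lam : Fin 3 → F := ![1, w, w ^ 2]
  have hlam0 : ∀ k, lam k ≠ 0 := fun k => by fin_cases k <;> simp [lam, hw0]
  have hlam : Function.Injective lam := by
    have e1 : w ^ 2 ≠ 1 := fun e => hw0 (by linear_combination hw - e - h2)
    have e2 : w ^ 2 ≠ w := fun e => hw1 (by
      have : w * (w - 1) = 0 := by linear_combination e
      exact sub_eq_zero.mp ((mul_eq_zero.mp this).resolve_left hw0))
    intro i j hij
    fin_cases i <;> fin_cases j <;> simp [lam, hw1, Ne.symm hw1, e1, e1.symm, e2, e2.symm] at hij ⊢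
  have hv : ∀ k, ∃ v : Fin 3 → F, v ≠ 0 ∧ M *ᵥ v = lam k • v := by
    intro k
    set u := (lam k)⁻¹ with hu
    have hu0 : u ≠ 0 := inv_ne_zero (hlam0 k)
    have hne := eigen_ne_zero hF M g.2 ha.symm hns u hu0
    set E := 1 + u • M + u ^ 2 • M ^ 2 with hE
    obtain ⟨x, hx⟩ : ∃ x, E *ᵥ x ≠ 0 := by
      by_contra h
      push Not at h
      exact hne (Matrix.ext_of_mulVec_single fun i => by rw [h, Matrix.zero_mulVec])
    refine ⟨E *ᵥ x, hx, ?_⟩
    have hME : M * E = lam k • E := by
      have hl : lam k * u = 1 := mul_inv_cancel₀ (hlam0 k)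
      rw [hE, mul_add, mul_add, mul_one, mul_smul_comm, mul_smul_comm, smul_add, smul_add,
        smul_smul, smul_smul, hl, one_smul, ← sq, ← pow_succ' M 2]
      rw [show M ^ (2+1) = 1 from ha.symm, show lam k * u ^ 2 = u by
        linear_combination u * hl, show u ^ 2 = lam k by
        have h3u := h3 u hu0
        linear_combination lam k * h3u - u ^ 2 * hl]
      abel
    rw [Matrix.mulVec_mulVec, hME, Matrix.smul_mulVec]
  choose v hv0 hvM using hv
  have hli : LinearIndependent F v := by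
    refine Module.End.eigenvectors_linearIndependent' (Matrix.toLin' M) lam hlam v fun k => ?_
    exact ⟨Module.End.mem_eigenspace_iff.mpr (by rw [Matrix.toLin'_apply, hvM]), hv0 k⟩
  let P : Matrix (Fin 3) (Fin 3) F := Matrix.of fun i k => v k i
  have hP : IsUnit P := Matrix.linearIndependent_cols_iff_isUnit.mp hli
  have hPdet : P.det ≠ 0 := ((Matrix.isUnit_iff_isUnit_det P).mp hP).ne_zero
  have hMP : M * P = P * diagonal lam := by
    ext i k
    rw [Matrix.mul_diagonal]
    have := congrFun (hvM k) i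
    simp only [Matrix.mulVec, dotProduct, Pi.smul_apply, smul_eq_mul] at this
    rw [Matrix.mul_apply]
    show ∑ j, M i j * v k j = v k i * lam k
    rw [this, mul_comm]
  let S : Matrix (Fin 3) (Fin 3) F := diagonal ![P.det⁻¹, 1, 1]
  have hS : (P * S).det = 1 := by
    simp [S, Matrix.det_mul, Fin.prod_univ_three, mul_inv_cancel₀ hPdet]
  let Q : Matrix.SpecialLinearGroup (Fin 3) F := ⟨P * S, hS⟩
  refine ⟨Q, ?_⟩
  let D : Matrix.SpecialLinearGroup (Fin 3) F :=
    ⟨diagonal lam, by simp [lam, Fin.prod_univ_three]; linear_combination h3 w hw0⟩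
  have : g * Q = Q * D := by
    apply Subtype.ext
    show M * (P * S) = P * S * diagonal lam
    rw [← mul_assoc, hMP, mul_assoc, mul_assoc, Matrix.diagonal_mul_diagonal,
      Matrix.diagonal_mul_diagonal]
    congr 2
    ext i; ring
  rw [mul_assoc, this, inv_mul_cancel_left]

omit [Fintype F] in
theorem conj_zpowers {G : Type*} [Group G] (x y : G) :
    MulAut.conj y • Subgroup.zpowers x = Subgroup.zpowers (y * x * y⁻¹) := by
  show (Subgroup.zpowers x).map (MulAut.conj y).toMonoidHom = _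
  rw [MonoidHom.map_zpowers]
  rfl

/-- In the projective special linear group PSL(3, 4) all subgroups of order 3 are conjugate. -/
theorem result (F : Type*) [Field F] [Fintype F] (hF : Fintype.card F = 4) (X Y : Subgroup (Matrix.ProjectiveSpecialLinearGroup (Fin 3) F)) (hX : Nat.card ↥X = 3) (hY : Nat.card ↥Y = 3) : ∃ g : Matrix.ProjectiveSpecialLinearGroup (Fin 3) F, MulAut.conj g • X = Y := by
  obtain ⟨-, h3, w, hw1, hw⟩ := basic hF
  have hw0 : w ≠ 0 := by rintro rfl; simp at hw
  let D : Matrix.SpecialLinearGroup (Fin 3) F :=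
    ⟨Matrix.diagonal ![1, w, w ^ 2], by
      simp [Fin.prod_univ_three]; linear_combination h3 w hw0⟩
  let π := QuotientGroup.mk' (Subgroup.center (Matrix.SpecialLinearGroup (Fin 3) F))
  have key : ∀ Z : Subgroup (Matrix.ProjectiveSpecialLinearGroup (Fin 3) F), Nat.card Z = 3 →
      ∃ y : Matrix.ProjectiveSpecialLinearGroup (Fin 3) F,
        MulAut.conj y • Z = Subgroup.zpowers (π D) := by
    intro Z hZ
    haveI : Fact (Nat.Prime 3) := ⟨Nat.prime_three⟩
    haveI : Finite Z := Nat.finite_of_card_ne_zero (by omega)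
    haveI : Nontrivial Z := Finite.one_lt_card_iff_nontrivial.mp (by omega)
    obtain ⟨x, hx⟩ := exists_ne (1 : Z)
    have htop : Subgroup.zpowers x = ⊤ := zpowers_eq_top_of_prime_card hZ hx
    have hZeq : Z = Subgroup.zpowers (x : Matrix.ProjectiveSpecialLinearGroup (Fin 3) F) := by
      have := congrArg (Subgroup.map Z.subtype) htop
      rw [MonoidHom.map_zpowers, ← MonoidHom.range_eq_map, Subgroup.range_subtype] at this
      exact this.symm
    obtain ⟨g, hg⟩ := QuotientGroup.mk'_surjective _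
      (x : Matrix.ProjectiveSpecialLinearGroup (Fin 3) F)
    have hg1 : g ∉ Subgroup.center (Matrix.SpecialLinearGroup (Fin 3) F) := fun hc => hx <| by
      apply Subtype.ext
      rw [← hg]
      exact (QuotientGroup.eq_one_iff g).mpr hc
    have hg3 : g ^ 3 ∈ Subgroup.center (Matrix.SpecialLinearGroup (Fin 3) F) := by
      have : x ^ 3 = 1 := Eq.trans (congrArg (x ^ ·) hZ.symm) pow_card_eq_one'
      rw [← QuotientGroup.eq_one_iff]
      show π (g ^ 3) = 1
      rw [map_pow]
      show (QuotientGroup.mk' _ g) ^ 3 = 1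
      rw [hg, ← Subgroup.coe_pow, this]; rfl
    obtain ⟨P, hP⟩ := exists_conj hF w hw1 hw g hg1 hg3
    refine ⟨π P⁻¹, ?_⟩
    rw [hZeq, conj_zpowers, ← hg]
    congr 1
    show π P⁻¹ * π g * (π P⁻¹)⁻¹ = π D
    rw [← map_inv, ← map_mul, ← map_mul, inv_inv]
    exact congrArg π (Subtype.ext hP)
  obtain ⟨y, hy⟩ := key X hX
  obtain ⟨y', hy'⟩ := key Y hY
  refine ⟨y'⁻¹ * y, ?_⟩
  rw [map_mul, mul_smul, hy, ← hy', map_inv, inv_smul_smul]

end Cfsg.Agent.S2739
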