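import Cfsg.Statements.S2752
import Cfsg.Agent.Lib.SThreeFreeOffender.Main

set_option autoImplicit false
universe u
open Cfsg

namespace Cfsg.Agent.S2752

/-- Let M be an elementary abelian 2-subgroup of a finite group L and G a subgroup of L acting faithfully on M by conjugation (G normalizes M and meets C(M) trivially). Assume O₂(G) = 1, the symmetric group of degree 3 is not involved in G, and every non-abelian composition factor of G is a Suzuki group Sz(2^(2n+1)) or a group PSL₂(3^(2n+1)). Then every elementary abelian 2-subgroup A of G satisfies |M / C_M(A)| ≥ |A|² and |[M, A]| ≥ |A|². -/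
theorem result {L : Type u} [Group L] [Finite L] (M G : Subgroup L) (hM : Cfsg.IsElementaryAbelian 2 M) (hGM : G ≤ Subgroup.normalizer (M : Set L)) (hf : G ⊓ Subgroup.centralizer (M : Set L) = ⊥) (ha : Cfsg.pCore 2 ↥G = ⊥) (hb : ¬ Cfsg.Involves (Equiv.Perm (Fin 3)) ↥G) (hc : Cfsg.IsCompositionKGroupWith Cfsg.IsSuzukiOrPSL2OddPowerThree ↥G) (A : Subgroup L) (hA : A ≤ G) (hAe : Cfsg.IsElementaryAbelian 2 A) : Nat.card A ^ 2 * Nat.card ↥(M ⊓ Subgroup.centralizer (A : Set L)) ≤ Nat.card M ∧ Nat.card A ^ 2 ≤ Nat.card ↥⁅M, A⁆ := by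
  let _ : CommGroup M := { (inferInstance : Group M) with mul_comm := fun p q => hM.1.1.1 p q }
  let φ : G →* MulAut M := (Subgroup.normalizerMonoidHom M).comp (Subgroup.inclusion hGM)
  let _ : DistribMulAction G (Additive M) :=
    { smul := fun g v => Additive.ofMul (φ g v.toMul)
      one_smul := fun v => by
        show Additive.ofMul (φ 1 v.toMul) = v
        rw [map_one]; rfl
      mul_smul := fun g g' v => by
        show Additive.ofMul (φ (g * g') v.toMul) = Additive.ofMul (φ g (φ g' v.toMul))
        rw [map_mul]; rfl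
      smul_zero := fun g => by
        show Additive.ofMul (φ g 1) = Additive.ofMul 1
        rw [map_one]
      smul_add := fun g v w => by
        show Additive.ofMul (φ g (v.toMul * w.toMul)) = Additive.ofMul (φ g v.toMul * φ g w.toMul)
        rw [map_mul] }
  have hsm : ∀ (g : G) (v : Additive M),
      (((g • v : Additive M).toMul : M) : L) = (g : L) * (v.toMul : L) * (g : L)⁻¹ := fun g v => rfl
  have : FaithfulSMul G (Additive M) := ⟨fun {g g'} h => by
    have hmem : ((g'⁻¹ * g : G) : L) ∈ G ⊓ Subgroup.centralizer (M : Set L) := by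
      refine ⟨(g'⁻¹ * g).2, Subgroup.mem_centralizer_iff.mpr fun m hm => ?_⟩
      have h1 : (g'⁻¹ * g) • Additive.ofMul (⟨m, hm⟩ : M) = Additive.ofMul (⟨m, hm⟩ : M) := by
        rw [mul_smul, h, inv_smul_smul]
      have h2 := congrArg (fun v : Additive M => ((v.toMul : M) : L)) h1
      simp only [hsm] at h2
      exact (mul_inv_eq_iff_eq_mul.mp h2).symm
    rw [hf, Subgroup.mem_bot] at hmem
    exact (inv_mul_eq_one.mp (Subtype.ext hmem : g'⁻¹ * g = 1)).symm⟩
  have h2 : ∀ v : Additive M, v + v = 0 := fun v => by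
    refine Additive.toMul.injective (Subtype.ext ?_)
    show (v.toMul : L) * (v.toMul : L) = 1
    rw [← pow_two]; exact hM.2 _ v.toMul.2
  have hA2 : ∀ a ∈ A.subgroupOf G, a * a = 1 := fun a ha => Subtype.ext (by
    show (a : L) * a = 1
    rw [← pow_two]; exact hAe.2 _ ha)
  have hcA : Nat.card (A.subgroupOf G) = Nat.card A :=
    Nat.card_congr (Subgroup.subgroupOfEquivOfLe hA).toEquiv
  have hc' : Cfsg.IsCompositionKGroupWith Lib.SThreeFreeOffender.IsSuzukiPSLOrOdd ↥G :=
    fun H hH N _ hs hn => Or.inl (hc H hH N hs hn)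
  constructor
  · have key := Lib.SThreeFreeOffender.card_fixed_le h2 ha hb hc' _ hA2
    rw [hcA] at key
    refine (Nat.mul_le_mul_left _ ?_).trans (key.trans_eq (Nat.card_congr Additive.toMul))
    refine Nat.card_le_card_of_injective
      (fun m : ↥(M ⊓ Subgroup.centralizer (A : Set L)) =>
        (⟨Additive.ofMul (⟨m, m.2.1⟩ : M), fun a ha => Additive.toMul.injective (Subtype.ext ?_)⟩ :
          Lib.SThreeFreeOffender.fixedSub (Additive M) (A.subgroupOf G))) ?_
    · rw [hsm]
      show (a : L) * (m : L) * (a : L)⁻¹ = m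
      have ha' : (a : L) ∈ A := ha
      rw [Subgroup.mem_centralizer_iff.mp m.2.2 _ ha', mul_inv_cancel_right]
    · intro p q e
      exact Subtype.ext (congrArg (fun v : Lib.SThreeFreeOffender.fixedSub (Additive M)
        (A.subgroupOf G) => ((v.1.toMul : M) : L)) e)
  · let W : AddSubgroup (Additive M) := (⁅M, A⁆.subgroupOf M).toAddSubgroup
    have key := Lib.SThreeFreeOffender.card_commutator_ge h2 ha hb hc' _ hA2 W fun a ha v => by
      show (((a • v - v : Additive M).toMul : M) : L) ∈ ⁅M, A⁆
      rw [sub_eq_add_neg, toMul_add, toMul_neg, Subgroup.coe_mul, Subgroup.coe_inv, hsm]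
      rw [Subgroup.commutator_comm]
      exact Subgroup.commutator_mem_commutator ha v.toMul.2
    rw [hcA] at key
    refine key.trans (Nat.card_le_card_of_injective
      (fun w : W => (⟨((w.1.toMul : M) : L), w.2⟩ : ↥⁅M, A⁆)) fun p q e => ?_)
    have e' := congrArg Subtype.val e
    exact Subtype.ext (Additive.toMul.injective (Subtype.ext e'))

end Cfsg.Agent.S2752
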