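import Cfsg.Statements.S2755
import Cfsg.Agent.Lib.ReeThree91.Contradiction
import Cfsg.Agent.Lib.ReeThree91.DataExist
import Cfsg.Agent.Lib.ReeThree91.Families
import Cfsg.Agent.Lib.ReeThree91.Twist

set_option autoImplicit false
open Cfsg

namespace Cfsg.Agent.S2755

/-- Every finite Goldschmidt group is S₄-free (the symmetric group of degree 4 is not involved in it); and for a finite Goldschmidt group G, the symmetric group of degree 3 is not involved in G exactly when G is a Suzuki group or PSL₂ over a field with 3^(2n+1) elements. -/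
theorem result {G : Type*} [Group G] [Finite G] (hG : Cfsg.IsGoldschmidtGroup G) : ¬ Cfsg.Involves (Equiv.Perm (Fin 4)) G ∧ (¬ Cfsg.Involves (Equiv.Perm (Fin 3)) G ↔ Cfsg.IsSuzukiOrPSL2OddPowerThree G) := by
  refine ⟨Lib.ReeThree91.not_involves_four hG, fun h3 => ?_, Lib.ReeThree91.not_involves_three⟩
  by_cases hR : Cfsg.IsReeType G
  · rcases Lib.ReeThree91.exists_data_or_involves hR with h | ⟨⟨d⟩⟩
    · exact absurd h h3
    · exact (Lib.ReeThree91.false_of_twisted d (Lib.ReeThree91.twisted d)).elim
  · exact (Lib.ReeThree91.involves_or_target hG hR).resolve_left h3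

end Cfsg.Agent.S2755
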