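import Cfsg.Statements.S2756
import Cfsg.Agent.Lib.RealQ.Main

set_option autoImplicit false
open Cfsg

namespace Cfsg.Agent.S2756

theorem inherit {G : Type*} [Group G] [Finite G] (h : ∀ P : Sylow 2 G, (P : Subgroup G).Normal)
    (H : Subgroup G) (P : Sylow 2 ↥H) : (P : Subgroup ↥H).Normal := by
  obtain ⟨S⟩ : Nonempty (Sylow 2 G) := inferInstance
  haveI := h S
  haveI hn : ((S : Subgroup G).subgroupOf H).Normal := Subgroup.Normal.subgroupOf (h S) H
  have hp : IsPGroup 2 ((S : Subgroup G).subgroupOf H) := S.2.comap_subtype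
  have hle := hp.le_sylow_of_normal P
  have hge : (P : Subgroup ↥H) ≤ (S : Subgroup G).subgroupOf H := fun x hx => by
    obtain ⟨R, hR⟩ := (P.2.map H.subtype).exists_le_sylow
    obtain ⟨g, hg⟩ := MulAction.exists_smul_eq G S R
    have hRS : (R : Subgroup G) = (S : Subgroup G) := by
      rw [← hg]
      exact Subgroup.mem_normalizer_iff_map_conj_eq.1
        (by rw [Subgroup.normalizer_eq_top_iff.mpr (h S)]; exact Subgroup.mem_top g)
    exact Subgroup.mem_subgroupOf.2 (hRS ▸ hR ⟨x, hx, rfl⟩)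
  rw [le_antisymm hge hle]
  exact hn

theorem not_inverted {G : Type*} [Group G] [Finite G] (h : ∀ P : Sylow 2 G, (P : Subgroup G).Normal)
    (q : ℕ) [Fact q.Prime] (hq : q ≠ 2) {x g : G} (hx : x ≠ 1) {k : ℕ} (hk : x ^ q ^ k = 1)
    (he : g * x * g⁻¹ = x⁻¹) : False := by
  obtain ⟨s, -, ⟨e, hse⟩, hs⟩ := Lib.RealQ.exists_two_element he
  obtain ⟨S, hS⟩ := (Lib.Involves.isPGroup_zpowers (p := 2) hse).exists_le_sylow
  have hsS : s ∈ (S : Subgroup G) := hS (Subgroup.mem_zpowers s)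
  have h1 : x * x ∈ (S : Subgroup G) := by
    have : x * s * x⁻¹ * s⁻¹ = x * x := by
      calc x * s * x⁻¹ * s⁻¹ = x * (s * x * s⁻¹)⁻¹ := by group
        _ = x * x := by rw [hs, inv_inv]
    rw [← this]
    exact mul_mem ((h S).conj_mem s hsS x) (inv_mem hsS)
  obtain ⟨j, hj⟩ := S.2 ⟨_, h1⟩
  have hj' : (x ^ 2) ^ 2 ^ j = 1 := by rw [pow_two]; exact congrArg Subtype.val hj
  rw [← pow_mul, ← pow_succ'] at hj'
  have hcop : Nat.Coprime (2 ^ (j + 1)) (q ^ k) :=
    Nat.Coprime.pow _ _ ((Nat.coprime_primes Nat.prime_two Fact.out).2 (Ne.symm hq))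
  exact hx (orderOf_eq_one_iff.1 (Nat.eq_one_of_dvd_coprimes hcop
    (orderOf_dvd_of_pow_eq_one hj') (orderOf_dvd_of_pow_eq_one hk)))

theorem normal_of_no_inverted {G : Type*} [Group G] [Finite G]
    (h : ∀ (q : ℕ) [Fact q.Prime], q ≠ 2 → ∀ T : Sylow q G, ∀ x ∈ (T : Subgroup G), x ≠ 1 →
      ∀ g ∈ Subgroup.normalizer (Cfsg.centerThompsonAOf (T : Subgroup G) : Set G),
        g * x * g⁻¹ ≠ x⁻¹) : ∀ P : Sylow 2 G, (P : Subgroup G).Normal := by
  by_contra hcon
  push Not at hcon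
  obtain ⟨q, hqp, hq, hR⟩ := Lib.RealQ.exists_rev_of_not_normal hcon
  obtain ⟨T⟩ : Nonempty (Sylow q G) := inferInstance
  set Z := Cfsg.centerThompsonAOf (T : Subgroup G) with hZ
  set N := Subgroup.normalizer (Z : Set G) with hN
  have hTN : (T : Subgroup G) ≤ N := by
    rw [hN, hZ, ← Lib.ZJ.zj_zero_eq]
    exact Subgroup.le_normalizer.trans (Lib.ZJ.normalizer_le 0 _)
  obtain ⟨x, hx, hx1, ⟨k, hk⟩, g, hg, he⟩ := Lib.RealQ.rev_normalizer_centerThompson hq T hR
  obtain ⟨c, hc, hcle⟩ := (Lib.Fusion.isSylowIn_of_sylow hTN (T.subtype hTN)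
    (T.coe_subtype hTN)).exists_conj_le (Lib.Involves.isPGroup_zpowers (p := q) hk)
    (Subgroup.zpowers_le.2 hx)
  refine h q hq T (c * x * c⁻¹) (hcle ⟨x, Subgroup.mem_zpowers x, rfl⟩) ?_ (c * g * c⁻¹)
    (mul_mem (mul_mem hc hg) (inv_mem hc)) ?_
  · simpa using hx1
  · calc c * g * c⁻¹ * (c * x * c⁻¹) * (c * g * c⁻¹)⁻¹ = c * (g * x * g⁻¹) * c⁻¹ := by group
      _ = (c * x * c⁻¹)⁻¹ := by rw [he]; group

/-- For a finite group G the following are equivalent: (a) G has a normal Sylow 2-subgroup; (b) for every odd prime q dividing the order of G and every Sylow q-subgroup T, the normalizer of Z(J(T)) has a normal Sylow 2-subgroup; (c) for every odd prime q and every Sylow q-subgroup T, no nonidentity element of T is inverted by an element of the normalizer of Z(J(T)). Here J(T) is the Thompson subgroup generated by the abelian subgroups of T of largest order. Stated as the two equivalences (a) ⇔ (b) and (a) ⇔ (c). -/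
theorem result {G : Type*} [Group G] [Finite G] : ((∀ P : Sylow 2 G, (P : Subgroup G).Normal) ↔ ∀ (q : ℕ) [Fact q.Prime], q ≠ 2 → q ∣ Nat.card G → ∀ T : Sylow q G, ∀ P : Sylow 2 ↥(Subgroup.normalizer (Cfsg.centerThompsonAOf (T : Subgroup G) : Set G)), (P : Subgroup ↥(Subgroup.normalizer (Cfsg.centerThompsonAOf (T : Subgroup G) : Set G))).Normal) ∧ ((∀ P : Sylow 2 G, (P : Subgroup G).Normal) ↔ ∀ (q : ℕ) [Fact q.Prime], q ≠ 2 → ∀ T : Sylow q G, ∀ x ∈ (T : Subgroup G), x ≠ 1 → ∀ g ∈ Subgroup.normalizer (Cfsg.centerThompsonAOf (T : Subgroup G) : Set G), g * x * g⁻¹ ≠ x⁻¹) := by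
  refine ⟨⟨fun h q _ _ _ T P => inherit h _ P, fun h => normal_of_no_inverted ?_⟩,
    ⟨fun h q _ hq T x hx hx1 g _ he => ?_, normal_of_no_inverted⟩⟩
  · intro q _ hq T x hx hx1 g hg he
    set N := Subgroup.normalizer (Cfsg.centerThompsonAOf (T : Subgroup G) : Set G) with hN
    have hxN : x ∈ N := by
      rw [hN, ← Lib.ZJ.zj_zero_eq]
      exact Lib.ZJ.normalizer_le 0 _ (Subgroup.le_normalizer hx)
    obtain ⟨k, hk⟩ := T.2 ⟨x, hx⟩
    have hdvd : q ∣ Nat.card G := by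
      have h1 : Nat.card (Subgroup.zpowers x) ∣ Nat.card G := Subgroup.card_subgroup_dvd_card _
      rw [Nat.card_zpowers] at h1
      obtain ⟨j, -, hj⟩ := (Nat.dvd_prime_pow (Fact.out : q.Prime)).1
        (orderOf_dvd_of_pow_eq_one (congrArg Subtype.val hk : x ^ q ^ k = 1))
      refine dvd_trans ?_ h1
      rw [hj]
      exact dvd_pow_self q fun h0 => hx1 (orderOf_eq_one_iff.1 (by rw [hj, h0, pow_zero]))
    exact not_inverted (G := ↥N) (h q hq hdvd T) q hq (x := ⟨x, hxN⟩) (g := ⟨g, hg⟩)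
      (fun e => hx1 (congrArg Subtype.val e)) (k := k) (Subtype.ext (congrArg Subtype.val hk :
        x ^ q ^ k = 1)) (Subtype.ext he)
  · obtain ⟨k, hk⟩ := T.2 ⟨x, hx⟩
    exact not_inverted h q hq hx1 (congrArg Subtype.val hk : x ^ q ^ k = 1) he

end Cfsg.Agent.S2756
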