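import Cfsg.Statements.S2758
import Mathlib
import Cfsg.Agent.Lib.Involves.Dihedral
import Cfsg.Agent.Lib.Amalgam.CharP

set_option autoImplicit false
open Cfsg

namespace Cfsg.Agent.S2758
open Cfsg.Agent.Lib


/-- For an odd prime p and a finite group G the following are equivalent: the dihedral group of order 2p is involved in G; some element of 2-power order normalizes but does not centralize some p-subgroup of G; some element of 2-power order inverts some nonidentity element of p-power order. -/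
theorem result {G : Type*} [Group G] [Finite G] {p : ℕ} [Fact p.Prime] (hp : p ≠ 2) : (Cfsg.Involves (DihedralGroup p) G ↔ ∃ (x : G) (P : Subgroup G), (∃ k : ℕ, orderOf x = 2 ^ k) ∧ IsPGroup p ↥P ∧ x ∈ Subgroup.normalizer (P : Set G) ∧ x ∉ Subgroup.centralizer (P : Set G)) ∧ (Cfsg.Involves (DihedralGroup p) G ↔ ∃ x y : G, (∃ k : ℕ, orderOf x = 2 ^ k) ∧ (∃ k : ℕ, orderOf y = p ^ k) ∧ y ≠ 1 ∧ x * y * x⁻¹ = y⁻¹) := by
  haveI : Fact (Nat.Prime 2) := ⟨Nat.prime_two⟩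
  have hbc : (∃ (x : G) (P : Subgroup G), (∃ k : ℕ, orderOf x = 2 ^ k) ∧ IsPGroup p ↥P ∧ x ∈ Subgroup.normalizer (P : Set G) ∧ x ∉ Subgroup.centralizer (P : Set G)) →
      ∃ x y : G, (∃ k : ℕ, orderOf x = 2 ^ k) ∧ (∃ k : ℕ, orderOf y = p ^ k) ∧ y ≠ 1 ∧ x * y * x⁻¹ = y⁻¹ := by
    rintro ⟨x, P, ⟨k, hk⟩, hP, hxn, hxc⟩
    induction k generalizing x with
    | zero =>
      rw [pow_zero, orderOf_eq_one_iff] at hk
      exact absurd (hk ▸ Subgroup.one_mem _) hxc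
    | succ k ih =>
      by_cases hx2 : x ^ 2 ∈ Subgroup.centralizer (P : Set G)
      · simp only [Subgroup.mem_centralizer_iff, not_forall] at hxc
        obtain ⟨v, hv, hvx⟩ := hxc
        set w := v * x * v⁻¹ * x⁻¹ with hw
        have hwP : w ∈ P := by
          have := P.mul_mem hv ((Subgroup.mem_normalizer_iff.1 hxn v⁻¹).1 (P.inv_mem hv))
          simpa [hw, mul_assoc] using this
        have hxv : v * x ^ 2 = x ^ 2 * v := hx2 v hv
        refine ⟨x, w, ⟨k + 1, hk⟩, Involves.exists_orderOf_eq_pow_of_isPGroup hP hwP, ?_, ?_⟩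
        · intro h
          rw [hw, mul_inv_eq_one, mul_inv_eq_iff_eq_mul] at h
          exact hvx h
        · rw [eq_inv_iff_mul_eq_one, hw]
          calc x * (v * x * v⁻¹ * x⁻¹) * x⁻¹ * (v * x * v⁻¹ * x⁻¹)
              = x * v * x * (v⁻¹ * (x ^ 2)⁻¹) * v * x * v⁻¹ * x⁻¹ := by group
            _ = x * v * x * ((x ^ 2)⁻¹ * v⁻¹) * v * x * v⁻¹ * x⁻¹ := by
              rw [show v⁻¹ * (x ^ 2)⁻¹ = (x ^ 2)⁻¹ * v⁻¹ by rw [← mul_inv_rev, ← mul_inv_rev, hxv]]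
            _ = 1 := by group
      · refine ih (x ^ 2) ?_ (pow_mem hxn 2) hx2
        rw [orderOf_pow, hk, Nat.gcd_eq_right (dvd_pow_self 2 (Nat.succ_ne_zero k)), pow_succ, Nat.mul_div_cancel _ two_pos]
  have hca : (∃ x y : G, (∃ k : ℕ, orderOf x = 2 ^ k) ∧ (∃ k : ℕ, orderOf y = p ^ k) ∧ y ≠ 1 ∧ x * y * x⁻¹ = y⁻¹) →
      Cfsg.Involves (DihedralGroup p) G :=
    fun ⟨x, y, hx, hy, hy1, hxy⟩ => Involves.involves_dihedral hp hx hy hy1 hxy
  have hac : Cfsg.Involves (DihedralGroup p) G →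
      ∃ x y : G, (∃ k : ℕ, orderOf x = 2 ^ k) ∧ (∃ k : ℕ, orderOf y = p ^ k) ∧ y ≠ 1 ∧ x * y * x⁻¹ = y⁻¹ := by
    intro h
    obtain ⟨K, f, hf⟩ := Involves.exists_surjective h
    obtain ⟨a, ha⟩ := hf (DihedralGroup.r 1)
    obtain ⟨b, hb⟩ := hf (DihedralGroup.sr 0)
    obtain ⟨x, y, ⟨i, hi⟩, ⟨j, hj⟩, hy, -, hxy⟩ := Involves.exists_inverting f hp (a := a) (b := b)
      (by rw [ha, DihedralGroup.orderOf_r_one])
      (by rw [ha, hb]; simp)
    refine ⟨x, y, ⟨i, by rw [Subgroup.orderOf_coe, hi]⟩, ⟨j, by rw [Subgroup.orderOf_coe, hj]⟩, ?_, ?_⟩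
    · intro h1
      exact hy (by rw [show y = 1 from Subtype.ext h1, map_one])
    · exact congrArg Subtype.val hxy
  have hcb : (∃ x y : G, (∃ k : ℕ, orderOf x = 2 ^ k) ∧ (∃ k : ℕ, orderOf y = p ^ k) ∧ y ≠ 1 ∧ x * y * x⁻¹ = y⁻¹) →
      ∃ (x : G) (P : Subgroup G), (∃ k : ℕ, orderOf x = 2 ^ k) ∧ IsPGroup p ↥P ∧ x ∈ Subgroup.normalizer (P : Set G) ∧ x ∉ Subgroup.centralizer (P : Set G) := by
    rintro ⟨x, y, hx, ⟨j, hj⟩, hy1, hxy⟩
    refine ⟨x, Subgroup.zpowers y, hx, IsPGroup.of_card ((Nat.card_zpowers y).trans hj), ?_, fun hc => ?_⟩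
    · apply Amalgam.mem_normalizer_of_map_conj_eq
      rw [MonoidHom.map_zpowers]
      show Subgroup.zpowers (x * y * x⁻¹) = _
      rw [hxy, Subgroup.zpowers_inv]
    · have h := hc y (Subgroup.mem_zpowers y)
      rw [← h, mul_inv_cancel_right, eq_inv_iff_mul_eq_one, ← pow_two] at hxy
      have h2 := orderOf_dvd_of_pow_eq_one hxy
      rw [hj] at h2
      rcases Nat.eq_zero_or_pos j with rfl | hj0
      · exact hy1 (orderOf_eq_one_iff.1 (by rwa [pow_zero] at hj))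
      · exact hp ((Nat.prime_dvd_prime_iff_eq Fact.out Nat.prime_two).1 ((dvd_pow_self p hj0.ne').trans h2))
  exact ⟨⟨hcb ∘ hac, hca ∘ hbc⟩, ⟨hac, hca⟩⟩

end Cfsg.Agent.S2758
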