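import Cfsg.Statements.S2759
import Mathlib
import Cfsg.Agent.Lib.Involves.Dihedral
import Cfsg.Agent.Lib.Involves.SymFour
import Cfsg.Agent.Lib.Core.Nilpotent
import Cfsg.Agent.Lib.PGroup.ElemAbelian

set_option autoImplicit false
open Cfsg

namespace Cfsg.Agent.S2759
open Cfsg.Agent.Lib
open scoped commutatorElement

/-- The action of `S₄` on the three pairings. -/
def pairImage (σ : Equiv.Perm (Fin 4)) (i : Fin 3) : Fin 3 :=
  let a : Fin 4 := σ 0
  let b : Fin 4 := σ (Fin.succ i)
  let m : Fin 4 := if a = 0 then b else if b = 0 then a else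
    (if 1 ≠ a ∧ 1 ≠ b then 1 else if 2 ≠ a ∧ 2 ≠ b then 2 else 3)
  if m = 1 then 0 else if m = 2 then 1 else 2

theorem pairImage_mul : ∀ σ τ : Equiv.Perm (Fin 4), ∀ i : Fin 3,
    pairImage (σ * τ) i = pairImage σ (pairImage τ i) := by decide +kernel

theorem pairImage_one : ∀ i : Fin 3, pairImage 1 i = i := by decide +kernel

/-- `S₄ → S₃`. -/
def fourToThree : Equiv.Perm (Fin 4) →* Equiv.Perm (Fin 3) where
  toFun σ :=
    { toFun := pairImage σ
      invFun := pairImage σ⁻¹
      left_inv := fun i => by rw [← pairImage_mul, inv_mul_cancel, pairImage_one]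
      right_inv := fun i => by rw [← pairImage_mul, mul_inv_cancel, pairImage_one] }
  map_one' := Equiv.ext pairImage_one
  map_mul' σ τ := Equiv.ext (pairImage_mul σ τ)

theorem fourToThree_surjective : ∀ t : Equiv.Perm (Fin 3), ∃ s, fourToThree s = t := by decide +kernel

theorem fourToThree_centralizer : ∀ s : Equiv.Perm (Fin 4),
    (∀ v, fourToThree v = 1 → v * s = s * v) → fourToThree s = 1 := by decide +kernel

theorem fourToThree_ker : ∀ v : Equiv.Perm (Fin 4), fourToThree v = 1 → v ^ 2 = 1 := by decide +kernel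


/-- For a finite group G, the symmetric group of degree 4 is involved in G if and only if there is a 2-subgroup T of G such that the symmetric group of degree 3 is involved in N(T)/C(T). -/
theorem result {G : Type*} [Group G] [Finite G] : Cfsg.Involves (Equiv.Perm (Fin 4)) G ↔ ∃ T : Subgroup G, IsPGroup 2 ↥T ∧ Cfsg.Involves (Equiv.Perm (Fin 3)) (↥(Subgroup.normalizer (T : Set G)) ⧸ (Subgroup.centralizer (T : Set G)).subgroupOf (Subgroup.normalizer (T : Set G))) := by
  haveI : Fact (Nat.Prime 2) := ⟨Nat.prime_two⟩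
  haveI : Fact (Nat.Prime 3) := ⟨Nat.prime_three⟩
  constructor
  · intro h
    obtain ⟨K, f, hf⟩ := Involves.exists_surjective h
    let g := fourToThree.comp f
    have hg : Function.Surjective g := fun t => by
      obtain ⟨s, rfl⟩ := fourToThree_surjective t
      obtain ⟨k, rfl⟩ := hf s
      exact ⟨k, rfl⟩
    obtain ⟨P⟩ : Nonempty (Sylow 2 ↥g.ker) := inferInstance
    -- `P` maps onto the four group
    set T := ((P : Subgroup ↥g.ker).map g.ker.subtype).map K.subtype with hT
    refine ⟨T, ((P.2.map _).map _), ?_⟩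
    set M := Subgroup.normalizer (((P : Subgroup ↥g.ker).map g.ker.subtype : Subgroup ↥K) : Set ↥K) with hM
    have hfr : M ⊔ g.ker = ⊤ := Sylow.normalizer_sup_eq_top P
    have hPim : ∀ v, fourToThree v = 1 → v ∈ ((P : Subgroup ↥g.ker).map g.ker.subtype).map f := by
      intro v hv
      obtain ⟨k, rfl⟩ := hf v
      let f' : ↥g.ker →* ↥fourToThree.ker := (f.comp g.ker.subtype).codRestrict _ (fun c => c.2)
      have hf' : Function.Surjective f' := by
        rintro ⟨v, hv⟩
        obtain ⟨k, rfl⟩ := hf v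
        exact ⟨⟨k, hv⟩, rfl⟩
      have h2 : IsPGroup 2 ↥fourToThree.ker :=
        fun u => ⟨1, Subtype.ext (by simpa using fourToThree_ker u u.2)⟩
      have htop : ((P.mapSurjective hf' : Sylow 2 ↥fourToThree.ker) : Subgroup ↥fourToThree.ker) = ⊤ :=
        (P.mapSurjective hf').is_maximal' (h2.to_subgroup ⊤) le_top |>.symm
      obtain ⟨c, hc, hck⟩ := (htop ▸ Subgroup.mem_top (⟨f k, hv⟩ : ↥fourToThree.ker) :
        (⟨f k, hv⟩ : ↥fourToThree.ker) ∈ ((P.mapSurjective hf' : Sylow 2 ↥fourToThree.ker) : Subgroup ↥fourToThree.ker))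
      exact ⟨_, ⟨c, hc, rfl⟩, congrArg Subtype.val hck⟩
    have hMN : M.map K.subtype ≤ Subgroup.normalizer (T : Set G) := Subgroup.le_normalizer_map _
    set i : ↥M →* ↥(Subgroup.normalizer (T : Set G)) :=
      (K.subtype.comp M.subtype).codRestrict _ (fun m => hMN ⟨m, m.2, rfl⟩) with hi
    set π := QuotientGroup.mk' ((Subgroup.centralizer (T : Set G)).subgroupOf (Subgroup.normalizer (T : Set G))) with hπ
    have hker : (π.comp i).ker ≤ (g.comp M.subtype).ker := by
      intro m hm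
      have hmc : ((m : ↥K) : G) ∈ Subgroup.centralizer (T : Set G) :=
        (QuotientGroup.eq_one_iff (i m)).1 hm
      refine fourToThree_centralizer (f (m : ↥K)) fun v hv => ?_
      obtain ⟨c, hc, rfl⟩ := hPim v hv
      rw [← map_mul, ← map_mul]
      exact congrArg f (Subtype.ext (hmc (c : G) ⟨c, hc, rfl⟩))
    have hgM : Function.Surjective (g.comp M.subtype) := by
      intro t
      obtain ⟨k, rfl⟩ := hg t
      obtain ⟨a, ha, b, hb, e⟩ := Subgroup.mem_sup_of_normal_right.1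
        (hfr ▸ Subgroup.mem_top k : k ∈ M ⊔ g.ker)
      exact ⟨⟨a, ha⟩, by rw [← e, map_mul, show g b = 1 from hb, mul_one]; rfl⟩
    let l : ↥M ⧸ (π.comp i).ker →* Equiv.Perm (Fin 3) := QuotientGroup.lift _ (g.comp M.subtype) hker
    have hl : Function.Surjective l := fun t => by
      obtain ⟨m, hm⟩ := hgM t
      exact ⟨QuotientGroup.mk m, hm⟩
    exact Involves.of_surjective (l.comp (QuotientGroup.quotientKerEquivRange (π.comp i)).symm.toMonoidHom)
      (hl.comp (QuotientGroup.quotientKerEquivRange (π.comp i)).symm.surjective)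
  · rintro ⟨T, hT, h⟩
    set N := Subgroup.normalizer (T : Set G) with hN
    set C := (Subgroup.centralizer (T : Set G)).subgroupOf N with hC
    obtain ⟨K, f, hf⟩ := Involves.exists_surjective h
    set π := QuotientGroup.mk' C with hπ
    let M := K.comap π
    let F : ↥M →* Equiv.Perm (Fin 3) := f.comp (π.subgroupComap K)
    have hF : ∀ t, ∃ m : ↥M, F m = t := by
      intro t
      obtain ⟨k, rfl⟩ := hf t
      obtain ⟨n, hn⟩ := QuotientGroup.mk'_surjective C (k : ↥N ⧸ C)
      exact ⟨⟨n, show π n ∈ K by rw [hπ, hn]; exact k.2⟩, congrArg f (Subtype.ext hn)⟩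
    obtain ⟨a, ha⟩ := hF (Equiv.swap 0 1 * Equiv.swap 1 2)
    obtain ⟨b, hb⟩ := hF (Equiv.swap 0 1)
    have ho : orderOf (Equiv.swap (0 : Fin 3) 1 * Equiv.swap 1 2) = 3 :=
      orderOf_eq_prime (by decide +kernel) (by decide +kernel)
    obtain ⟨x, y, ⟨i, hi⟩, ⟨j, hj⟩, hy, -, hxy⟩ := Involves.exists_inverting F (p := 3) (by norm_num)
      (a := a) (b := b) (by rw [ha, ho]) (by rw [ha, hb]; decide +kernel)
    have hxy' : ((x : ↥N) : G) * ((y : ↥N) : G) * ((x : ↥N) : G)⁻¹ = ((y : ↥N) : G)⁻¹ :=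
      congrArg (fun m : ↥M => ((m : ↥N) : G)) hxy
    have hyc : ((y : ↥N) : G) ∉ Subgroup.centralizer (T : Set G) := by
      intro hc
      apply hy
      show f (π.subgroupComap K y) = 1
      rw [show π.subgroupComap K y = 1 from Subtype.ext ((QuotientGroup.eq_one_iff (y : ↥N)).2 hc), map_one]
    -- pass to the Frattini quotient
    set Φ := (frattini ↥T).map T.subtype with hΦ
    have hNΦ : N ≤ Subgroup.normalizer (Φ : Set G) :=
      Coprime.normalizer_le_normalizer_map_of_characteristic (frattini ↥T)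
    haveI : (Φ.subgroupOf N).Normal := Subgroup.normal_subgroupOf_of_le_normalizer hNΦ
    set q := QuotientGroup.mk' (Φ.subgroupOf N) with hq
    set W := (T.subgroupOf N).map q with hW
    have hTN : T ≤ N := Subgroup.le_normalizer
    obtain ⟨hcm, hpw⟩ := Nilp.commutator_le_and_pow_mem_frattini (G := ↥T) hT
    have hWe : Cfsg.IsElementaryAbelian 2 W := by
      refine ElemAbelian.of_comm_of_pow ?_ ?_
      · rintro _ ⟨u, hu, rfl⟩ _ ⟨v, hv, rfl⟩
        rw [← map_mul, ← map_mul]
        refine (QuotientGroup.eq.2 ?_)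
        show (((u * v)⁻¹ * (v * u) : ↥N) : G) ∈ Φ
        refine ⟨⁅(⟨v, hv⟩ : ↥T)⁻¹, (⟨u, hu⟩ : ↥T)⁻¹⁆, hcm (Subgroup.commutator_mem_commutator (Subgroup.mem_top _) (Subgroup.mem_top _)), ?_⟩
        simp [commutatorElement_def, mul_assoc]
      · rintro _ ⟨u, hu, rfl⟩
        rw [← map_pow]
        exact (QuotientGroup.eq_one_iff _).2 ⟨(⟨u, hu⟩ : ↥T) ^ 2, hpw _, by simp⟩
    haveI : (T.subgroupOf N).Normal := Subgroup.normal_in_normalizer
    haveI hWn : W.Normal := Subgroup.Normal.map inferInstance q (QuotientGroup.mk'_surjective _)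
    have hy' : q (y : ↥N) ∉ Subgroup.centralizer (W : Set (↥N ⧸ Φ.subgroupOf N)) := by
      intro hc
      apply hyc
      have hcop : (Nat.card ↥(Subgroup.zpowers ((y : ↥N) : G))).Coprime (Nat.card ↥(frattini ↥T)) := by
        obtain ⟨m, hm⟩ := IsPGroup.iff_card.1 (hT.to_subgroup (frattini ↥T))
        rw [hm, Nat.card_zpowers, Subgroup.orderOf_coe, Subgroup.orderOf_coe, hj]
        exact Nat.Coprime.pow _ _ (by norm_num)
      refine Coprime.le_centralizer_of_frattini (Subgroup.zpowers_le.2 (y : ↥N).2) hcop ?_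
        (Subgroup.mem_zpowers _)
      intro c hc' t ht
      obtain ⟨e, rfl⟩ := hc'
      have h1 : (q (⟨((y : ↥N) : G) ^ e, zpow_mem (y : ↥N).2 e⟩ : ↥N)) ∈ Subgroup.centralizer (W : Set (↥N ⧸ Φ.subgroupOf N)) := by
        rw [show (⟨((y : ↥N) : G) ^ e, zpow_mem (y : ↥N).2 e⟩ : ↥N) = (y : ↥N) ^ e from Subtype.ext (by simp), map_zpow]
        exact zpow_mem hc e
      have h2 := h1 _ ⟨⟨t, hTN ht⟩, ht, rfl⟩
      rw [← map_mul, ← map_mul] at h2
      have h3 := QuotientGroup.eq.1 h2
      have h4 := (Subgroup.mem_normalizer_iff.1 (hNΦ (N.mul_mem (zpow_mem (y : ↥N).2 e) (hTN ht))) _).1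
        (inv_mem h3)
      show ((y : ↥N) : G) ^ e * t * (((y : ↥N) : G) ^ e)⁻¹ * t⁻¹ ∈ Φ
      convert inv_mem h4 using 1
      simp [mul_assoc]
    -- make the cube trivial on `W`
    have key : ∀ n : ℕ, ∀ z : ↥N ⧸ Φ.subgroupOf N, z ∉ Subgroup.centralizer (W : Set (↥N ⧸ Φ.subgroupOf N)) →
        q (x : ↥N) * z * (q (x : ↥N))⁻¹ = z⁻¹ → z ^ 3 ^ n = 1 →
        ∃ z' : ↥N ⧸ Φ.subgroupOf N, z' ∉ Subgroup.centralizer (W : Set (↥N ⧸ Φ.subgroupOf N)) ∧
          q (x : ↥N) * z' * (q (x : ↥N))⁻¹ = z'⁻¹ ∧ z' ^ 3 ∈ Subgroup.centralizer (W : Set (↥N ⧸ Φ.subgroupOf N)) := by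
      intro n
      induction n with
      | zero =>
        intro z hz _ hz1
        rw [pow_zero, pow_one] at hz1
        exact absurd (hz1 ▸ Subgroup.one_mem _) hz
      | succ n ih =>
        intro z hz hinv hzn
        by_cases h3 : z ^ 3 ∈ Subgroup.centralizer (W : Set (↥N ⧸ Φ.subgroupOf N))
        · exact ⟨z, hz, hinv, h3⟩
        · refine ih (z ^ 3) h3 (by rw [← conj_pow, hinv, inv_pow]) ?_
          rwa [← pow_mul, ← pow_succ']
    obtain ⟨z, hz, hzinv, hz3⟩ := key j (q (y : ↥N)) hy'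
      (by rw [← map_mul, ← map_inv, ← map_mul, ← map_inv]; exact congrArg q (congrArg Subtype.val hxy))
      (by rw [← map_pow, ← hj, ← Subgroup.orderOf_coe, pow_orderOf_eq_one, map_one])
    have hmem : ∀ u : ↥N ⧸ Φ.subgroupOf N, u ∈ Subgroup.normalizer (W : Set (↥N ⧸ Φ.subgroupOf N)) :=
      fun u => Subgroup.normalizer_eq_top (H := W) ▸ Subgroup.mem_top u
    have hS4 := Involves.involves_s4_of_pair W hWe (hmem (q (x : ↥N))) (hmem z)
      ⟨i, by rw [← map_pow, ← hi, ← Subgroup.orderOf_coe, pow_orderOf_eq_one, map_one]⟩ hzinv hz3 hz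
    exact Involves.of_injective N.subtype N.subtype_injective
      (Involves.of_quotient q (QuotientGroup.mk'_surjective _) hS4)

end Cfsg.Agent.S2759
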