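import Cfsg.Statements.S2760
import Mathlib
import Cfsg.Agent.Lib.CharP.Basic
import Cfsg.Agent.Lib.Transfer.PResidual
import Cfsg.Agent.Lib.PSolvable.Core

set_option autoImplicit false
open Cfsg

namespace Cfsg.Agent.S2760
open Cfsg.Agent.Lib


/-- Let G be a finite group with C_G(O₂(G)) ≤ O₂(G) and H a subgroup of G such that H is normal in G, or the subgroup O²(H) generated by the elements of H of odd order is normal in G. Then C_H(O₂(H)) ≤ O₂(H). -/
theorem result {G : Type*} [Group G] [Finite G] (hchar : Subgroup.centralizer (Cfsg.pCore 2 G : Set G) ≤ Cfsg.pCore 2 G) (H : Subgroup G) (hH : H.Normal ∨ ((Cfsg.pResidual 2 ↥H).map H.subtype).Normal) : Subgroup.centralizer (Cfsg.pCore 2 ↥H : Set ↥H) ≤ Cfsg.pCore 2 ↥H := by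
  rcases hH with hH | hR
  · exact CharP.centralizer_pCore_le_of_isSubnormal hchar hH.isSubnormal
  · set R := (Cfsg.pResidual 2 ↥H).map H.subtype with hRdef
    have hRc := CharP.centralizer_pCore_le_of_isSubnormal hchar hR.isSubnormal
    refine CharP.centralizer_pCore_le_of_forall fun x hxH hx hc => ?_
    have hxR : x ∈ R := Transfer.mem_map_pResidual_of_coprime hxH hx
    have hle : Cfsg.pCoreOf 2 R ≤ Cfsg.pCoreOf 2 H := by
      refine CharP.le_pCoreOf ((CharP.pCoreOf_le R).trans (Subgroup.map_subtype_le _))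
        (CharP.pCoreOf_isPGroup R) ?_
      haveI := hR
      haveI : (Cfsg.pCoreOf 2 R).Normal := PSolvable.map_subtype_pCore_normal R
      rw [Subgroup.normalizer_eq_top]
      exact le_top
    exact CharP.eq_one_of_centralizes_pCoreOf hRc hxR hx (Subgroup.centralizer_le hle hc)

end Cfsg.Agent.S2760
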