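import Cfsg.Statements.S2762
import Mathlib
import Cfsg.Agent.Lib.Qd.Basic

set_option autoImplicit false
open Cfsg

namespace Cfsg.Agent.S2762
open Cfsg.Agent.Lib

/-- The translations form a natural module for the block diagonal complement. -/
theorem isNatural {F : Type*} [Field F] :
    Cfsg.IsNaturalSL2Module F (Qd.transl F) (Qd.emb (F := F)).range := by
  refine ⟨fun M _ => ?_, (Qd.blockHom.comp (Qd.emb (F := F)).range.subtype),
    { toFun := fun v => Qd.vec (Additive.toMul v).1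
      invFun := fun v => Additive.ofMul ⟨Qd.mk 1 v, Qd.mk_mem_transl v⟩
      left_inv := fun v => congrArg Additive.ofMul
        (Subtype.ext (Qd.eq_mk_of_mem_transl (Additive.toMul v).2).symm)
      right_inv := fun v => Qd.vec_mk 1 v
      map_add' := fun v w => by
        show Qd.vec ((Additive.toMul v).1 * (Additive.toMul w).1) = _
        rw [Qd.vec_mul, Qd.mem_transl.1 (Additive.toMul v).2,
          show (1 : Matrix.SpecialLinearGroup (Fin 2) F).1 = 1 from rfl, Matrix.one_mulVec, add_comm] },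
    fun A => ⟨⟨Qd.emb A, ⟨A, rfl⟩⟩, by simp⟩, ?_, ?_⟩
  · rw [Subgroup.normalizer_eq_top_iff.mpr Qd.transl_normal]
    trivial
  · ext ⟨M, A, rfl⟩
    simp only [MonoidHom.mem_ker, MonoidHom.comp_apply, Subgroup.coe_subtype, Qd.blockHom_apply,
      Subgroup.mem_subgroupOf, Qd.emb_apply, Qd.block_mk, Subgroup.mem_centralizer_iff]
    constructor
    · rintro rfl N _
      rw [Qd.mk_one_zero, mul_one, one_mul]
    · intro h
      have hA : ∀ v : Fin 2 → F, A.1.mulVec v = v := fun v => by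
        have := congrArg Qd.vec (h _ (Qd.mk_mem_transl v))
        simpa [Qd.vec_mul, show (1 : Matrix.SpecialLinearGroup (Fin 2) F).1 = 1 from rfl] using this.symm
      have h0 := hA ![1, 0]
      have h1 := hA ![0, 1]
      apply SL2.ext_entries
      · simpa [Matrix.mulVec, dotProduct, Fin.sum_univ_two] using congrFun h0 0
      · simpa [Matrix.mulVec, dotProduct, Fin.sum_univ_two] using congrFun h1 0
      · simpa [Matrix.mulVec, dotProduct, Fin.sum_univ_two] using congrFun h0 1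
      · simpa [Matrix.mulVec, dotProduct, Fin.sum_univ_two] using congrFun h1 1
  · intro l v
    refine ⟨⟨Qd.mk 1 ((Qd.block l.1).1.mulVec (Qd.vec v.1)), Qd.mk_mem_transl _⟩, ?_, Qd.vec_mk _ _⟩
    show Qd.mk 1 _ = _
    rw [← Qd.conj_transl, ← Qd.eq_mk_of_mem_transl v.2]

/-- Structure of Qd over a finite field F of characteristic p (the affine subgroup of SL₃(F)): its largest normal p-subgroup is the group of translations (matrices with upper-left block the identity), the block-diagonal matrices form a complement isomorphic to SL₂(F), and the translation subgroup is a natural SL₂(F)-module for that complement. -/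
theorem result {F : Type*} [Field F] [Fintype F] {p : ℕ} [Fact p.Prime] [CharP F p] : (∀ M : ↥(Cfsg.qdOver F), M ∈ Cfsg.pCore p ↥(Cfsg.qdOver F) ↔ ((M : Matrix.SpecialLinearGroup (Fin 3) F) : Matrix (Fin 3) (Fin 3) F) 0 0 = 1 ∧ ((M : Matrix.SpecialLinearGroup (Fin 3) F) : Matrix (Fin 3) (Fin 3) F) 0 1 = 0 ∧ ((M : Matrix.SpecialLinearGroup (Fin 3) F) : Matrix (Fin 3) (Fin 3) F) 1 0 = 0 ∧ ((M : Matrix.SpecialLinearGroup (Fin 3) F) : Matrix (Fin 3) (Fin 3) F) 1 1 = 1) ∧ ∃ K : Subgroup ↥(Cfsg.qdOver F), (∀ M : ↥(Cfsg.qdOver F), M ∈ K ↔ ((M : Matrix.SpecialLinearGroup (Fin 3) F) : Matrix (Fin 3) (Fin 3) F) 0 2 = 0 ∧ ((M : Matrix.SpecialLinearGroup (Fin 3) F) : Matrix (Fin 3) (Fin 3) F) 1 2 = 0) ∧ K ⊓ Cfsg.pCore p ↥(Cfsg.qdOver F) = ⊥ ∧ K ⊔ Cfsg.pCore p ↥(Cfsg.qdOver F) = ⊤ ∧ Nonempty (↥K ≃* Matrix.SpecialLinearGroup (Fin 2) F) ∧ Cfsg.IsNaturalSL2Module F (Cfsg.pCore p ↥(Cfsg.qdOver F)) K := by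
  rw [Qd.pCore_eq p]
  refine ⟨fun M => ?_, (Qd.emb (F := F)).range, fun M => ?_, ?_, ?_, ?_, ?_⟩
  · rw [Qd.mem_transl]
    constructor
    · intro h
      exact ⟨congrArg (fun A : Matrix.SpecialLinearGroup (Fin 2) F => A 0 0) h,
        congrArg (fun A : Matrix.SpecialLinearGroup (Fin 2) F => A 0 1) h,
        congrArg (fun A : Matrix.SpecialLinearGroup (Fin 2) F => A 1 0) h,
        congrArg (fun A : Matrix.SpecialLinearGroup (Fin 2) F => A 1 1) h⟩
    · rintro ⟨h00, h01, h10, h11⟩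
      exact SL2.ext_entries h00 h01 h10 h11
  · constructor
    · rintro ⟨A, rfl⟩
      exact ⟨rfl, rfl⟩
    · rintro ⟨h0, h1⟩
      refine ⟨Qd.block M, ?_⟩
      apply Qd.ext'
      · simp
      · ext i; fin_cases i <;> simp [Qd.vec, h0, h1, Qd.mk]
  · rw [Subgroup.eq_bot_iff_forall]
    rintro M ⟨⟨A, rfl⟩, hA⟩
    replace hA : Qd.block (Qd.emb A) = 1 := Qd.mem_transl.1 hA
    rw [Qd.emb_apply, Qd.block_mk] at hA
    rw [hA, map_one]
  · rw [eq_top_iff]
    intro M _
    rw [← Qd.mk_block_vec M, Qd.mk_eq]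
    exact mul_mem (Subgroup.mem_sup_right (Qd.mk_mem_transl _)) (Subgroup.mem_sup_left ⟨_, rfl⟩)
  · refine ⟨(MonoidHom.ofInjective (f := Qd.emb) fun A B h => ?_).symm⟩
    simpa using congrArg Qd.block h
  · exact isNatural

end Cfsg.Agent.S2762
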