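import Cfsg.Statements.S2764
import Cfsg.Agent.Lib.RankOnePush.Chief

set_option autoImplicit false
open Cfsg

namespace Cfsg.Agent.S2764

open Subgroup Cfsg.Agent.Lib Cfsg.Agent.Lib.RankOnePush
open Cfsg.Agent.Lib.SL2 (SLtwo PSLtwo proj upper lower weyl)
open scoped commutatorElement

/-- Pushing up for a rank-one quotient: let G be a finite group and p a prime with C_G(O_p(G)) ≤ O_p(G), suppose G/K ≅ PSL₂(p^n) for some normal subgroup K and some n ≥ 1, that a Sylow p-subgroup S of G lies in exactly one maximal subgroup of G, and that no nontrivial characteristic subgroup of S is normal in G. Then G/O_p(G) ≅ SL₂(p^n), and every noncentral chief factor U/W of G inside O_p(G) is a natural SL₂-module over the field with p^n elements for the action of G/W. -/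
theorem result {G : Type*} [Group G] [Finite G] {p : ℕ} [Fact p.Prime] (S : Sylow p G) (hE₁ : Subgroup.centralizer (Cfsg.pCore p G : Set G) ≤ Cfsg.pCore p G) (hE₂ : ∃! M : Subgroup G, IsCoatom M ∧ (S : Subgroup G) ≤ M) (K : Subgroup G) [K.Normal] (F : Type) [Field F] [Fintype F] (n : ℕ) (hn : 1 ≤ n) (hF : Fintype.card F = p ^ n) (hE₃ : Nonempty (G ⧸ K ≃* Matrix.ProjectiveSpecialLinearGroup (Fin 2) F)) (hd : ∀ T : Subgroup ↥(S : Subgroup G), T ≠ ⊥ → T.Characteristic → ¬ (T.map (S : Subgroup G).subtype).Normal) : Nonempty (G ⧸ Cfsg.pCore p G ≃* Matrix.SpecialLinearGroup (Fin 2) F) ∧ ∀ (U W : Subgroup G) [W.Normal], U ≤ Cfsg.pCore p G → Cfsg.IsChiefFactor U W → ¬ ⁅U, (⊤ : Subgroup G)⁆ ≤ W → Cfsg.IsNaturalSL2Module F (U.map (QuotientGroup.mk' W)) (⊤ : Subgroup (G ⧸ W)) := by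
  obtain ⟨M, ⟨hM, hSM⟩, huniq⟩ := hE₂
  obtain ⟨e⟩ := hE₃
  let ψ₀ : G →* PSLtwo F := e.toMonoidHom.comp (QuotientGroup.mk' K)
  have d : PushingUp.Data p (S : Subgroup G) M n F ψ₀ :=
    ⟨⟨S, rfl⟩, hE₁, hM, hSM, fun L h1 h2 => huniq L ⟨h1, h2⟩,
      e.surjective.comp (QuotientGroup.mk'_surjective K), hF, by omega⟩
  obtain ⟨ψ, -, s⟩ := exists_setup d
  set D := Cfsg.pCore p G
  set T := (S : Subgroup G)
  have hd' : ∀ X : Subgroup G, X ≤ T → X.Normal → (X.subgroupOf T).Characteristic → X = ⊥ := by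
    intro X hXT hXn hXc
    by_contra hne
    refine hd (X.subgroupOf T) (fun hb => hne ?_) hXc ?_
    · rw [subgroupOf_eq_bot, disjoint_iff, inf_eq_left.2 hXT] at hb
      exact hb
    · rw [map_subgroupOf_eq_of_le hXT]
      exact hXn
  have hTne : T ≠ ⊥ := fun hb => by
    have h := s.relIndex_D
    rw [hb, relIndex_bot_right] at h
    exact s.one_lt.ne h
  obtain ⟨m, -⟩ := exists_smallModule d hTne hd'
  obtain ⟨X, Q, hXS, hXD, hQD, hidx, hXQ, -⟩ := s.exists_action m (fun z hz hc hzp =>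
    subset_normalClosure (show z ∈ omegaZ p T from ⟨⟨hz, hc⟩, hzp⟩)) hd'
  obtain ⟨w, hw, hgen⟩ := s.exists_weyl
  have key := fun (U W : Subgroup G) (hW : W.Normal) (hUD : U ≤ D) (hc : Cfsg.IsChiefFactor U W)
      (hnc : ¬ ⁅U, (⊤ : Subgroup G)⁆ ≤ W) =>
    s.chief_natural m ⟨X, Q, hXS, hXD, hQD, hidx, hXQ⟩ hw hgen hUD hc hnc
  refine ⟨?_, fun U W hW hUD hc hnc => ?_⟩
  swap
  · obtain ⟨π, -, -, -, -, -, h⟩ := key U W hW hUD hc hnc
    exact h
  -- all the representations agree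
  have hpgroup : ∀ N : Subgroup G, (∀ g ∈ N, (orderOf g).Coprime p → g = 1) → IsPGroup p N := by
    intro N hN
    intro g
    refine ⟨(orderOf (g : G)).factorization p, Subtype.ext ?_⟩
    rw [SubgroupClass.coe_pow]
    refine hN _ (pow_mem g.2 _) ?_
    rw [orderOf_pow_of_dvd (pow_ne_zero _ (Fact.out : p.Prime).ne_zero) (Nat.ordProj_dvd _ p)]
    exact (Nat.coprime_ordCompl Fact.out (orderOf_pos (g : G)).ne').symm
  have htriv : ∀ g : G, (orderOf g).Coprime p →
      (∀ U W : Subgroup G, U ≤ D → Cfsg.IsChiefFactor U W → ∀ u ∈ U, ⁅g, u⁆ ∈ W) → g = 1 := by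
    intro g hg h
    have hgD := hE₁ (s.mem_centralizer_of_chief hg h)
    obtain ⟨j, hj⟩ := (s.isPGroup.to_le s.le_S) ⟨g, hgD⟩
    have hj' : g ^ p ^ j = 1 := by simpa using congrArg Subtype.val hj
    have hdvd := Nat.dvd_gcd (dvd_refl (orderOf g)) (orderOf_dvd_of_pow_eq_one hj')
    rw [(hg.pow_right j).gcd_eq_one, Nat.dvd_one, orderOf_eq_one_iff] at hdvd
    exact hdvd
  have hcentral : ∀ U W : Subgroup G, ⁅U, (⊤ : Subgroup G)⁆ ≤ W → ∀ g : G, ∀ u ∈ U, ⁅g, u⁆ ∈ W :=
    fun U W h g u hu => by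
      rw [← commutatorElement_inv]
      exact inv_mem (h (commutator_mem_commutator hu (mem_top g)))
  obtain ⟨U₀, W₀, hUD₀, hc₀, hnc₀⟩ : ∃ U W : Subgroup G, U ≤ D ∧ Cfsg.IsChiefFactor U W ∧
      ¬ ⁅U, (⊤ : Subgroup G)⁆ ≤ W := by
    by_contra hno
    push Not at hno
    have hp' : IsPGroup p (⊤ : Subgroup G) :=
      hpgroup ⊤ fun g _ hg => htriv g hg fun U W hUD hc => hcentral U W (hno U W hUD hc) g
    exact s.ker_sup_ne_top (eq_top_iff.2 (((PSolvable.le_pCore hp').trans s.le_S).trans le_sup_right))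
  obtain ⟨π₀, hπ₀, hπ₀v, hπ₀k, -, -, -⟩ := key U₀ W₀ hc₀.2.2.1 hUD₀ hc₀ hnc₀
  have hker : π₀.ker = D := by
    refine le_antisymm (PSolvable.le_pCore (hpgroup _ fun g hgN hg => htriv g hg
      fun U W hUD hc => ?_)) fun d hd => (hπ₀k d).2 ?_
    · by_cases hnc : ⁅U, (⊤ : Subgroup G)⁆ ≤ W
      · exact hcentral U W hnc g
      obtain ⟨π, -, hπv, hπk, -, -, -⟩ := key U W hc.2.2.1 hUD hc hnc
      have heq : π = π₀ := by
        refine MonoidHom.eq_of_eqOn_top ?_
        have h : T ⊔ T.map (MulAut.conj w).toMonoidHom ≤ π.eqLocus π₀ := by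
          refine sup_le (fun t ht => ?_) ?_
          · obtain ⟨a, ha⟩ := s.exists_upper ht
            exact (hπv t ht a ha).1.trans (hπ₀v t ht a ha).1.symm
          · rintro _ ⟨t, ht, rfl⟩
            obtain ⟨a, ha⟩ := s.exists_upper ht
            exact (hπv t ht a ha).2.trans (hπ₀v t ht a ha).2.symm
        exact fun x hx => h (hgen.ge hx)
      exact (hπk g).1 (heq ▸ hgN)
    · intro u hu
      obtain ⟨hlt, hUn, hWn, hmin⟩ := hc₀
      haveI := hUn
      haveI := hWn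
      by_contra hcon
      -- otherwise `U = [U, D] W`, against nilpotency
      have hle : ⁅U₀, D⁆ ⊔ W₀ ≤ U₀ := sup_le (commutator_le_left _ _) hlt.le
      rcases hmin _ inferInstance le_sup_right hle with h | h
      · refine hcon ?_
        rw [← commutatorElement_inv]
        exact inv_mem (h.le (mem_sup_left (commutator_mem_commutator hu hd)))
      · set q := QuotientGroup.mk' W₀
        have h2 : U₀.map q ≤ ⁅U₀.map q, D.map q⁆ := by
          conv_lhs => rw [← h]
          rw [Subgroup.map_sup, map_commutator, QuotientGroup.map_mk'_self, sup_bot_eq]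
        have h3 := eq_bot_of_le_commutator ((s.isPGroup.to_le s.le_S).map q).isNilpotent
          (map_mono hUD₀) h2
        rw [Subgroup.map_eq_bot_iff, QuotientGroup.ker_mk'] at h3
        exact hlt.not_ge h3
  exact ⟨(QuotientGroup.quotientMulEquivOfEq hker.symm).trans
    (QuotientGroup.quotientKerEquivOfSurjective π₀ hπ₀)⟩

end Cfsg.Agent.S2764
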