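import Cfsg.Statements.S2766
import Cfsg.Agent.Lib.RankOnePush.OddBuild
-- import your own Cfsg.Agent.* helpers here

set_option autoImplicit false
open Cfsg

namespace Cfsg.Agent.S2766

open Subgroup Cfsg.Agent.Lib Cfsg.Agent.Lib.RankOnePush
open scoped commutatorElement

/-- Let p ≥ 5 be prime and G a maximal p-local subgroup of a finite group H (G is the normalizer of a nontrivial p-subgroup and lies in no other such normalizer). Suppose C_G(O_p(G)) ≤ O_p(G), G/K ≅ PSL₂(p^n) for some normal K and n ≥ 1, a Sylow p-subgroup S of G lies in exactly one maximal subgroup of G, and N_H(S) is not contained in G. Then G = G₀ × E for subgroups G₀ ≅ Qd(p^n) (the natural semidirect product of the plane over the field with p^n elements by SL₂) and E an elementary abelian p-group. -/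
theorem result {H : Type*} [Group H] [Finite H] {p : ℕ} [Fact p.Prime] (hp : 5 ≤ p) (G : Subgroup H) (hloc : ∃ R : Subgroup H, IsPGroup p ↥R ∧ R ≠ ⊥ ∧ G = Subgroup.normalizer (R : Set H)) (hmax : ∀ R : Subgroup H, IsPGroup p ↥R → R ≠ ⊥ → G ≤ Subgroup.normalizer (R : Set H) → Subgroup.normalizer (R : Set H) = G) (S : Sylow p ↥G) (hE₁ : Subgroup.centralizer (Cfsg.pCore p ↥G : Set ↥G) ≤ Cfsg.pCore p ↥G) (hE₂ : ∃! M : Subgroup ↥G, IsCoatom M ∧ (S : Subgroup ↥G) ≤ M) (K : Subgroup ↥G) [K.Normal] (F : Type) [Field F] [Fintype F] (n : ℕ) (hn : 1 ≤ n) (hF : Fintype.card F = p ^ n) (hE₃ : Nonempty (↥G ⧸ K ≃* Matrix.ProjectiveSpecialLinearGroup (Fin 2) F)) (hN : ¬ Subgroup.normalizer (((S : Subgroup ↥G).map G.subtype : Subgroup H) : Set H) ≤ G) : ∃ G₀ E : Subgroup H, Cfsg.IsInternalDirectProduct G₀ E G ∧ Cfsg.IsElementaryAbelian p E ∧ Nonempty (↥G₀ ≃* ↥(Cfsg.qdOver F)) := by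
  haveI : Fact p.Prime := inferInstance
  set T : Subgroup ↥G := (S : Subgroup ↥G) with hT
  set SH := T.map G.subtype with hSH
  have hSG : ∀ {x : H}, x ∈ SH → ∃ hx : x ∈ G, (⟨x, hx⟩ : G) ∈ T := by
    rintro _ ⟨y, hy, rfl⟩
    exact ⟨y.2, hy⟩
  have hnorm : ∀ {R : Subgroup H}, IsPGroup p ↥R → R ≠ ⊥ → G ≤ normalizer (R : Set H) →
      normalizer (R : Set H) = G := fun h1 h2 h3 => hmax _ h1 h2 h3
  have hpSH : IsPGroup p ↥SH := S.2.map _
  -- no nontrivial characteristic subgroup of `S` is normal in `G`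
  have hd : ∀ C : Subgroup ↥T, C ≠ ⊥ → C.Characteristic → ¬ (C.map T.subtype).Normal := by
    intro C hC hCc hCn
    apply hN
    set CH := (C.map T.subtype).map G.subtype
    have hle : CH ≤ SH := map_mono (map_subtype_le C)
    have hCne : CH ≠ ⊥ := by
      rw [Ne, map_eq_bot_iff_of_injective _ G.subtype_injective,
        map_eq_bot_iff_of_injective _ T.subtype_injective]
      exact hC
    have hGC : G ≤ normalizer (CH : Set H) := fun g hg => by
      refine RankOnePush.mem_normalizer_of_conj ?_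
      rintro _ ⟨c, hc, rfl⟩
      exact ⟨_, hCn.conj_mem c hc ⟨g, hg⟩, rfl⟩
    rw [← hnorm (hpSH.to_le hle) hCne hGC]
    intro g hg
    refine RankOnePush.mem_normalizer_of_conj ?_
    rintro _ ⟨_, ⟨x, hx, rfl⟩, rfl⟩
    have hmem : ∀ y : T, g * ((y : G) : H) * g⁻¹ ∈ SH := fun y =>
      (mem_normalizer_iff.1 hg _).1 ⟨y, y.2, rfl⟩
    choose hyG hyT using fun y : T => hSG (hmem y)
    let φ : T →* T := MonoidHom.mk' (fun y => ⟨⟨_, hyG y⟩, hyT y⟩) fun a b => by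
      refine Subtype.ext (Subtype.ext ?_)
      show g * ((a : G) * (b : G) : G) * g⁻¹ = g * (a : G) * g⁻¹ * (g * (b : G) * g⁻¹)
      push_cast
      group
    have hφ : Function.Bijective φ := Finite.injective_iff_bijective.1 fun a b hab => by
      have := congrArg (fun y : T => ((y : G) : H)) hab
      exact Subtype.ext (Subtype.ext (mul_left_cancel (mul_right_cancel this)))
    have hfix := Subgroup.characteristic_iff_map_eq.1 hCc (MulEquiv.ofBijective φ hφ)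
    exact ⟨_, mem_map_of_mem T.subtype (hfix.le (mem_map_of_mem _ hx)), rfl⟩
  obtain ⟨A, z, φ, o, hnat, hcA⟩ := exists_oddSetting hp S hE₁ hE₂ K F n hn hF hE₃ hd
  by_cases hR : ∀ c ∈ ⁅T, T⁆, z * c = c * z → c = 1
  · obtain ⟨E, ⟨-, -, hc, hint, htop⟩, ⟨hEc, hEp⟩, ⟨θ⟩⟩ := o.exists_product hnat hcA hR
    refine ⟨(Cfsg.pResidual p ↥G).map G.subtype, E.map G.subtype,
      ⟨map_subtype_le _, map_subtype_le _, ?_, ?_, ?_⟩, ⟨?_, ?_⟩,
      ⟨((Cfsg.pResidual p ↥G).equivMapOfInjective _ G.subtype_injective).symm.trans θ⟩⟩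
    · rintro _ ⟨a, ha, rfl⟩ _ ⟨b, hb, rfl⟩
      exact congrArg Subtype.val (hc a ha b hb)
    · rw [← map_inf _ _ _ G.subtype_injective, hint, Subgroup.map_bot]
    · rw [← Subgroup.map_sup, htop, ← MonoidHom.range_eq_map, Subgroup.range_subtype]
    · exact ⟨⟨by
        rintro ⟨_, a, ha, rfl⟩ ⟨_, b, hb, rfl⟩
        exact Subtype.ext (congrArg (fun x : E => ((x : G) : H))
          (hEc.is_comm.comm (⟨a, ha⟩ : E) ⟨b, hb⟩))⟩⟩
    · rintro _ ⟨a, ha, rfl⟩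
      rw [← map_pow, hEp a ha, map_one]
  exfalso
  push Not at hR
  obtain ⟨c₀, hc₀, hc₀z, hc₀1⟩ := hR
  obtain ⟨α, hα, hαG⟩ := SetLike.not_le_iff_exists.1 hN
  set zH : H := (z : H)
  set S1 := ⁅SH, SH⁆
  have hS1map : S1 = ⁅T, T⁆.map G.subtype := (map_commutator T T G.subtype).symm
  let RH : Subgroup H := S1 ⊓ centralizer ({zH} : Set H)
  have hcen : ∀ c ∈ RH, ∀ g ∈ G, g * c = c * g := by
    rintro c ⟨hc, hcz⟩ g hg
    rw [hS1map] at hc
    obtain ⟨c', hc', rfl⟩ := hc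
    have h1 := o.fixed_mem_center hc' (Subtype.ext (mem_centralizer_singleton_iff.1 hcz).symm)
    exact congrArg Subtype.val (mem_center_iff.1 h1 ⟨g, hg⟩)
  have hRne : RH ≠ ⊥ := fun hb => hc₀1 (Subtype.ext (mem_bot.1 (hb ▸
    (⟨hS1map ▸ mem_map_of_mem G.subtype hc₀,
      mem_centralizer_singleton_iff.2 (congrArg Subtype.val hc₀z).symm⟩ : (c₀ : H) ∈ RH))))
  have hRN : normalizer (RH : Set H) = G :=
    hnorm (hpSH.to_le (inf_le_left.trans (commutator_le_self SH))) hRne fun g hg =>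
      RankOnePush.mem_normalizer_of_conj fun c hc => by
        rw [hcen c hc g hg, mul_inv_cancel_right]; exact hc
  -- facts about the derived group, in the ambient group
  have hcl : ∀ x ∈ SH, ∀ y ∈ SH, ∀ w ∈ SH, ⁅x, y⁆ * w = w * ⁅x, y⁆ := by
    rintro _ ⟨x, hx, rfl⟩ _ ⟨y, hy, rfl⟩ _ ⟨w, hw, rfl⟩
    rw [← map_commutatorElement, ← map_mul, ← map_mul, o.class2 x hx y hy w hw]
  have hS1S : S1 ≤ SH := commutator_le_self SH
  have hS1c : ∀ a ∈ S1, ∀ b ∈ SH, Commute a b := fun a ha b hb => by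
    have h : S1 ≤ centralizer (SH : Set H) := commutator_le.2 fun x hx y hy =>
      mem_centralizer_iff.2 fun w hw => (hcl x hx y hy w hw).symm
    exact (mem_centralizer_iff.1 (h ha) b hb).symm
  have hS1conj : ∀ g : H, (∀ x ∈ SH, g * x * g⁻¹ ∈ SH) → ∀ c ∈ S1, g * c * g⁻¹ ∈ S1 := by
    intro g hg c hc
    have h : SH.map (MulAut.conj g).toMonoidHom ≤ SH := by
      rintro _ ⟨x, hx, rfl⟩; exact hg x hx
    have h' := (map_commutator SH SH (MulAut.conj g).toMonoidHom).le.trans (commutator_mono h h)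
    exact h' ⟨c, hc, rfl⟩
  have hexp : ∀ c ∈ SH, c ^ p = 1 := by
    rintro _ ⟨x, hx, rfl⟩
    rw [← map_pow, o.exp x hx, map_one]
  have hαS : ∀ x ∈ SH, α * x * α⁻¹ ∈ SH := fun x hx => (mem_normalizer_iff.1 hα x).1 hx
  have hαS' : ∀ x ∈ SH, α⁻¹ * x * α ∈ SH := fun x hx => by
    simpa using (mem_normalizer_iff.1 (inv_mem hα) x).1 hx
  have hzS : ∀ x ∈ SH, zH * x * zH⁻¹ ∈ SH := by
    rintro _ ⟨x, hx, rfl⟩
    exact ⟨_, o.zS x hx, rfl⟩
  set z2 := α⁻¹ * zH * α with hz2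
  have hz2S : ∀ x ∈ SH, z2 * x * z2⁻¹ ∈ SH := fun x hx => by
    have := hαS' _ (hzS _ (hαS x hx))
    simpa [hz2, mul_assoc] using this
  have hzinv : zH * zH = 1 := congrArg Subtype.val o.inv
  have hz2inv : z2 * z2 = 1 := by
    rw [hz2, show α⁻¹ * zH * α * (α⁻¹ * zH * α) = α⁻¹ * (zH * zH) * α by group, hzinv, mul_one,
      inv_mul_cancel]
  obtain ⟨f, hf⟩ := o.exists_partner
  have hf1 : ∀ x ∈ SH, ∃ x' ∈ SH, ∀ y ∈ SH, ⁅x', y⁆ = halfFix p zH ⁅x, y⁆ ∧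
      ⁅y, x'⁆ = halfFix p zH ⁅y, x⁆ := by
    rintro _ ⟨x, hx, rfl⟩
    refine ⟨G.subtype (f x), mem_map_of_mem _ (hf x hx).1, ?_⟩
    rintro _ ⟨y, hy, rfl⟩
    rw [show zH = G.subtype z from rfl, ← map_commutatorElement, ← map_commutatorElement,
      ← map_commutatorElement, ← map_commutatorElement, ← map_halfFix, ← map_halfFix,
      ((hf x hx).2 y hy).1, ((hf y hy).2 x hx).2]
    exact ⟨rfl, rfl⟩
  have hf2 : ∀ x ∈ SH, ∃ x' ∈ SH, ∀ y ∈ SH, ⁅x', y⁆ = halfFix p z2 ⁅x, y⁆ ∧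
      ⁅y, x'⁆ = halfFix p z2 ⁅y, x⁆ := by
    intro x hx
    obtain ⟨x', hx', h'⟩ := hf1 _ (hαS x hx)
    refine ⟨α⁻¹ * x' * α, hαS' x' hx', fun y hy => ?_⟩
    obtain ⟨e1, e2⟩ := h' _ (hαS y hy)
    have hconj : ∀ u v : H, ⁅α⁻¹ * u * α, α⁻¹ * v * α⁆ = α⁻¹ * ⁅u, v⁆ * α := fun u v => by
      simp only [commutatorElement_def]; group
    have hmap : ∀ c, α⁻¹ * halfFix p zH c * α = halfFix p z2 (α⁻¹ * c * α) := fun c => by
      have := map_halfFix (p := p) (z := zH) (MulAut.conj α⁻¹).toMonoidHom c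
      simpa using this
    have hid : ∀ u : H, α⁻¹ * (α * u * α⁻¹) * α = u := fun u => by group
    constructor
    · conv_lhs => rw [← hid y, hconj, e1, hmap, ← hconj, hid, hid]
    · conv_lhs => rw [← hid y, hconj, e2, hmap, ← hconj, hid, hid]
  have hpr : ∀ g : H, (∀ x ∈ SH, g * x * g⁻¹ ∈ SH) → ∀ c ∈ S1, halfFix p g c ∈ S1 :=
    fun g hg c hc => pow_mem (mul_mem hc (hS1conj g hg c hc)) _
  have hprmul : ∀ g : H, (∀ x ∈ SH, g * x * g⁻¹ ∈ SH) → ∀ a ∈ S1, ∀ b ∈ S1,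
      halfFix p g (a * b) = halfFix p g a * halfFix p g b := fun g hg a ha b hb =>
    halfFix_mul (hS1c a ha b (hS1S hb)) (hS1c b hb _ (hg a (hS1S ha))).symm
      (hS1c a ha _ (hg b (hS1S hb)))
  -- the two projections commute
  let P : Subgroup H :=
    { carrier := {c | c ∈ S1 ∧ halfFix p zH (halfFix p z2 c) = halfFix p z2 (halfFix p zH c)}
      one_mem' := ⟨one_mem _, by simp [halfFix_one]⟩
      mul_mem' := fun {a b} ha hb => ⟨mul_mem ha.1 hb.1, by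
        rw [hprmul _ hz2S a ha.1 b hb.1, hprmul _ hzS _ (hpr _ hz2S a ha.1) _ (hpr _ hz2S b hb.1),
          hprmul _ hzS a ha.1 b hb.1, hprmul _ hz2S _ (hpr _ hzS a ha.1) _ (hpr _ hzS b hb.1),
          ha.2, hb.2]⟩
      inv_mem' := fun {a} ha => ⟨inv_mem ha.1, by
        have hi : ∀ g : H, (∀ x ∈ SH, g * x * g⁻¹ ∈ SH) → ∀ c ∈ S1,
            halfFix p g c⁻¹ = (halfFix p g c)⁻¹ := fun g hg c hc =>
          halfFix_inv (hS1c c hc _ (hg c (hS1S hc)))
        rw [hi _ hz2S a ha.1, hi _ hzS _ (hpr _ hz2S a ha.1), hi _ hzS a ha.1,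
          hi _ hz2S _ (hpr _ hzS a ha.1), ha.2]⟩ }
  have hP : S1 ≤ P := by
    refine commutator_le.2 fun x hx y hy => ⟨commutator_mem_commutator hx hy, ?_⟩
    obtain ⟨x', hx', e2⟩ := hf2 x hx
    obtain ⟨y', hy', e1⟩ := hf1 y hy
    rw [← (e2 y hy).1, ← (e1 x' hx').2, ← (e1 x hx).2, ← (e2 y' hy').1]
  -- `zH` normalises the conjugate of `RH`
  have hkey : ∀ c ∈ S1, z2 * c = c * z2 → z2 * (zH * c * zH⁻¹) = zH * c * zH⁻¹ * z2 := by
    intro c hc hcz
    have hodd := o.odd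
    have h1 : halfFix p z2 c = c := halfFix_of_fixed hodd (hexp c (hS1S hc)) hcz
    have hpc := hpr _ hzS c hc
    have h2 : halfFix p z2 (halfFix p zH c) = halfFix p zH c := by rw [← (hP hc).2, h1]
    have h3 : Commute z2 (halfFix p zH c) := by
      have h4 := conj_halfFix (p := p) hz2inv (hS1c _ hpc _ (hz2S _ (hS1S hpc)))
      rw [h2, mul_inv_eq_iff_eq_mul] at h4
      exact h4
    rw [conj_eq_halfFix hodd (hexp c (hS1S hc)) (hexp _ (hzS c (hS1S hc)))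
      (hS1c c hc _ (hzS c (hS1S hc)))]
    exact ((h3.pow_right 2).mul_right (show Commute z2 c from hcz).inv_right).eq
  have hto : ∀ c ∈ RH, α⁻¹ * c * α ∈ S1 ∧ z2 * (α⁻¹ * c * α) = α⁻¹ * c * α * z2 := by
    rintro c ⟨hc, hcz⟩
    refine ⟨by simpa using hS1conj α⁻¹ (fun x hx => by simpa using hαS' x hx) c hc, ?_⟩
    rw [hz2, show α⁻¹ * zH * α * (α⁻¹ * c * α) = α⁻¹ * (zH * c) * α by group,
      ← mem_centralizer_singleton_iff.1 hcz]
    group
  have hz' : α * zH * α⁻¹ ∈ G := by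
    rw [← hRN]
    refine RankOnePush.mem_normalizer_of_conj fun c hc => ?_
    obtain ⟨h1, h2⟩ := hto c hc
    have h3 := hS1conj zH hzS _ h1
    have h4 := hkey _ h1 h2
    rw [show α * zH * α⁻¹ * c * (α * zH * α⁻¹)⁻¹ = α * (zH * (α⁻¹ * c * α) * zH⁻¹) * α⁻¹ by group]
    refine ⟨hS1conj α hαS _ h3, mem_centralizer_singleton_iff.2 ?_⟩
    set u := zH * (α⁻¹ * c * α) * zH⁻¹
    calc α * u * α⁻¹ * zH = α * (u * z2) * α⁻¹ := by rw [hz2]; group
      _ = α * (z2 * u) * α⁻¹ := by rw [h4]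
      _ = zH * (α * u * α⁻¹) := by rw [hz2]; group
  refine hαG (?_ : α ∈ G)
  rw [← inv_inv α]
  refine G.inv_mem ?_
  rw [← hRN]
  refine RankOnePush.mem_normalizer_of_conj fun c hc => ?_
  rw [inv_inv]
  refine ⟨(hto c hc).1, mem_centralizer_singleton_iff.2 ?_⟩
  have h1 := hcen c hc _ hz'
  calc α⁻¹ * c * α * zH = α⁻¹ * (c * (α * zH * α⁻¹)) * α := by group
    _ = α⁻¹ * (α * zH * α⁻¹ * c) * α := by rw [h1]
    _ = zH * (α⁻¹ * c * α) := by group

end Cfsg.Agent.S2766
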