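import Cfsg.Statements.S2772
import Mathlib
import Cfsg.Agent.Lib.PSolvable.Core
import Cfsg.Agent.Lib.Trivalent.Setup
import Cfsg.Agent.Lib.Trivalent.Shape

set_option autoImplicit false
open Cfsg

namespace Cfsg.Agent.S2772

/-- The transvection argument: the prime is `3`. -/
theorem eq_three {G : Type*} [Group G] [Finite G] {q : ℕ} (hq : q.Prime) (hq2 : q ≠ 2)
    (Q S : Subgroup G) [Q.Normal] (hQS : Q ≤ S) (hS : IsPGroup 2 S)
    (hC : Subgroup.centralizer (Q : Set G) ≤ Q)
    (hmaxQ : ∀ N : Subgroup G, N.Normal → IsPGroup 2 N → N ≤ Q)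
    (hrel : Q.relIndex S = 2) (hidx : S.index = q)
    (A : Subgroup G) (hAS : A ≤ S) (hAc : ∀ x ∈ A, ∀ y ∈ A, x * y = y * x) (hA2 : ∀ x ∈ A, x * x = 1)
    (hAmax : ∀ B : Subgroup G, B ≤ S → (∀ x ∈ B, ∀ y ∈ B, x * y = y * x) →
      (∀ x ∈ B, x * x = 1) → Nat.card B ≤ Nat.card A)
    (hAQ : ¬ A ≤ Q) (z : G) (hzS : z ∈ S) (hz : ∀ s ∈ S, s * z = z * s) (hz2 : z * z = 1)
    (hzG : ¬ ∀ g : G, g * z = z * g) : q = 3 := by
  classical
  haveI : Fact (Nat.Prime 2) := ⟨Nat.prime_two⟩
  haveI : Fact q.Prime := ⟨hq⟩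
  obtain ⟨a, haA, haQ⟩ := SetLike.not_le_iff_exists.1 hAQ
  have hzQ : z ∈ Q := hC (Subgroup.mem_centralizer_iff.2 fun s hs => hz s (hQS hs))
  -- the closure of the conjugates of `z`
  set T : Set G := Set.range fun g : G => g * z * g⁻¹ with hT
  have hTQ : ∀ t ∈ T, t ∈ Q ∧ t ∈ Subgroup.centralizer (Q : Set G) := by
    rintro _ ⟨g, rfl⟩
    refine ⟨Subgroup.Normal.conj_mem inferInstance z hzQ g, Subgroup.mem_centralizer_iff.2 fun x hx => ?_⟩
    have h1 : (g⁻¹ * x * g) * z = z * (g⁻¹ * x * g) := hz _ (hQS (by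
      simpa using Subgroup.Normal.conj_mem (inferInstance : Q.Normal) x hx g⁻¹))
    calc x * (g * z * g⁻¹) = g * ((g⁻¹ * x * g) * z) * g⁻¹ := by group
      _ = g * (z * (g⁻¹ * x * g)) * g⁻¹ := by rw [h1]
      _ = g * z * g⁻¹ * x := by group
  set V := Subgroup.closure T with hV
  have hVQ : V ≤ Q := (Subgroup.closure_le _).2 fun t ht => (hTQ t ht).1
  have hVC : V ≤ Subgroup.centralizer (Q : Set G) := (Subgroup.closure_le _).2 fun t ht => (hTQ t ht).2
  have hVcomm : ∀ v ∈ V, ∀ x ∈ Q, v * x = x * v := fun v hv x hx =>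
    (Subgroup.mem_centralizer_iff.1 (hVC hv) x hx).symm
  have hV2 : ∀ v ∈ V, v * v = 1 := by
    intro v hv
    induction hv using Subgroup.closure_induction with
    | mem t ht =>
      obtain ⟨g, rfl⟩ := ht
      calc g * z * g⁻¹ * (g * z * g⁻¹) = g * (z * z) * g⁻¹ := by group
        _ = 1 := by rw [hz2]; group
    | one => simp
    | mul x y hx hy h1 h2 =>
      calc x * y * (x * y) = x * (y * x) * y := by group
        _ = x * (x * y) * y := by rw [hVcomm y hy x (hVQ hx)]
        _ = (x * x) * (y * y) := by group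
        _ = 1 := by rw [h1, h2, one_mul]
    | inv x hx h1 => rw [← mul_inv_rev, h1, inv_one]
  have hVn : ∀ g : G, ∀ v ∈ V, g * v * g⁻¹ ∈ V := by
    intro g v hv
    induction hv using Subgroup.closure_induction with
    | mem t ht =>
      obtain ⟨k, rfl⟩ := ht
      exact Subgroup.subset_closure ⟨g * k, by group⟩
    | one => simp
    | mul x y _ _ h1 h2 =>
      rw [show g * (x * y) * g⁻¹ = g * x * g⁻¹ * (g * y * g⁻¹) by group]
      exact mul_mem h1 h2
    | inv x _ h1 =>
      rw [show g * x⁻¹ * g⁻¹ = (g * x * g⁻¹)⁻¹ by group]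
      exact inv_mem h1
  haveI hVN : V.Normal := ⟨fun v hv g => hVn g v hv⟩
  -- the comparison of orders
  set B := (A ⊓ Q) ⊔ V with hB
  have hBQ : B ≤ Q := sup_le inf_le_right hVQ
  have hBfac : ∀ x ∈ B, ∃ c ∈ A ⊓ Q, ∃ v ∈ V, c * v = x := fun x hx =>
    Subgroup.mem_sup_of_normal_right.1 hx
  have hBc : ∀ x ∈ B, ∀ y ∈ B, x * y = y * x := by
    intro x hx y hy
    obtain ⟨c, hc, v, hv, rfl⟩ := hBfac x hx
    obtain ⟨d, hd, w, hw, rfl⟩ := hBfac y hy
    have e1 : Commute c d := hAc c hc.1 d hd.1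
    have e2 : Commute c w := (hVcomm w hw c hc.2).symm
    have e3 : Commute v d := hVcomm v hv d hd.2
    have e4 : Commute v w := hVcomm v hv w (hVQ hw)
    exact ((e1.mul_right e2).mul_left (e3.mul_right e4)).eq
  have hB2 : ∀ x ∈ B, x * x = 1 := by
    intro x hx
    obtain ⟨c, hc, v, hv, rfl⟩ := hBfac x hx
    calc c * v * (c * v) = c * (v * c) * v := by group
      _ = c * (c * v) * v := by rw [hVcomm v hv c hc.2]
      _ = (c * c) * (v * v) := by group
      _ = 1 := by rw [hA2 c hc.1, hV2 v hv, one_mul]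
  have hcard := hAmax B (hBQ.trans hQS) hBc hB2
  have hmul : ∀ {X Y : Subgroup G}, X ≤ Y → Nat.card X * X.relIndex Y = Nat.card Y := by
    intro X Y h
    have := Subgroup.relIndex_mul_relIndex ⊥ X Y bot_le h
    rwa [Subgroup.relIndex_bot_left, Subgroup.relIndex_bot_left] at this
  have hW : (A ⊓ V).relIndex V ≤ 2 := by
    set r := V.relIndex (A ⊓ Q) with hr
    have h1 : Nat.card V * r = Nat.card B := by
      have := hmul (le_sup_right : V ≤ B)
      rwa [Subgroup.relIndex_sup_right] at this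
    have h2 : Nat.card ↥(A ⊓ V) * r = Nat.card ↥(A ⊓ Q) := by
      have hAV : A ⊓ V = V ⊓ (A ⊓ Q) := le_antisymm
        (le_inf inf_le_right (le_inf inf_le_left (inf_le_right.trans hVQ)))
        (le_inf (inf_le_right.trans inf_le_left) inf_le_left)
      have := hmul (inf_le_right : V ⊓ (A ⊓ Q) ≤ A ⊓ Q)
      rwa [Subgroup.inf_relIndex_right, ← hAV] at this
    have h3 : (A ⊓ Q).relIndex A ≤ 2 := by
      rw [Subgroup.inf_relIndex_left, ← hrel]
      exact Subgroup.relIndex_le_of_le_right hAS (by omega)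
    have h4 := hmul (inf_le_left : A ⊓ Q ≤ A)
    have h5 := hmul (inf_le_right : A ⊓ V ≤ V)
    have hr0 : 0 < r := Nat.pos_of_ne_zero (fun e => by
      rw [e, mul_zero] at h1
      exact Nat.card_pos.ne h1)
    refine Nat.le_of_mul_le_mul_left ?_ (Nat.card_pos (α := ↥(A ⊓ V)))
    rw [h5]
    refine Nat.le_of_mul_le_mul_right ?_ hr0
    calc Nat.card V * r = Nat.card B := h1
      _ ≤ Nat.card A := hcard
      _ = Nat.card ↥(A ⊓ Q) * (A ⊓ Q).relIndex A := h4.symm
      _ ≤ Nat.card ↥(A ⊓ Q) * 2 := Nat.mul_le_mul le_rfl h3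
      _ = Nat.card ↥(A ⊓ V) * 2 * r := by rw [← h2]; ring
  -- a conjugate of `a` outside `S`
  obtain ⟨y, hy⟩ : ∃ y : G, y * a * y⁻¹ ∉ S := by
    by_contra hcon
    push Not at hcon
    set N := Subgroup.normalClosure ({a} : Set G)
    have hNS : N ≤ S := by
      refine (Subgroup.closure_le _).2 fun x hx => ?_
      obtain ⟨b, hb, hbx⟩ := Group.mem_conjugatesOfSet_iff.1 hx
      obtain rfl : b = a := hb
      obtain ⟨c, rfl⟩ := isConj_iff.1 hbx
      exact hcon c
    exact haQ (hmaxQ N Subgroup.normalClosure_normal (hS.to_le hNS)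
      (Subgroup.subset_normalClosure rfl))
  set W := A ⊓ V with hWdef
  set W' := W.map (MulAut.conj y).toMonoidHom with hW'def
  have hW' : W'.relIndex V ≤ 2 := by
    have hVy : V.map (MulAut.conj y).toMonoidHom = V := Subgroup.Normal.map_conj_eq (H := V) y
    calc W'.relIndex V = W'.relIndex (V.map (MulAut.conj y).toMonoidHom) := by rw [hVy]
      _ = W.relIndex V := Subgroup.relIndex_map_map_of_injective _ _ (MulAut.conj y).injective
      _ ≤ 2 := hW
  set D := W ⊓ W' with hDdef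
  have hD4 : D.relIndex V ≤ 4 := (Subgroup.relIndex_inf_le).trans (Nat.mul_le_mul hW hW')
  -- `D` is central
  have hDc : ∀ d ∈ D, ∀ g : G, g * d = d * g := by
    intro d hd
    set K := Subgroup.centralizer ({d} : Set G) with hK
    suffices hKtop : K = ⊤ by
      intro g
      exact Subgroup.mem_centralizer_singleton_iff.1 (hKtop ▸ Subgroup.mem_top g : g ∈ K)
    have hdV : d ∈ V := hd.1.2
    have hQK : Q ≤ K := fun x hx =>
      Subgroup.mem_centralizer_singleton_iff.2 (hVcomm d hdV x hx).symm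
    have haK : a ∈ K := Subgroup.mem_centralizer_singleton_iff.2 (hAc a haA d hd.1.1)
    have hyK : y * a * y⁻¹ ∈ K := by
      obtain ⟨e, he, hed⟩ := hd.2
      refine Subgroup.mem_centralizer_singleton_iff.2 ?_
      rw [← hed]
      show y * a * y⁻¹ * (y * e * y⁻¹) = y * e * y⁻¹ * (y * a * y⁻¹)
      rw [show y * a * y⁻¹ * (y * e * y⁻¹) = y * (a * e) * y⁻¹ by group, hAc a haA e he.1]
      group
    have hSK : S ≤ K := by
      intro s hs
      by_cases hsQ : s ∈ Q
      · exact hQK hsQ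
      · have : a⁻¹ * s ∈ Q := by
          haveI : (Q.subgroupOf S).Normal := inferInstance
          have hi : (Q.subgroupOf S).index = 2 := hrel
          have := (Subgroup.mul_mem_iff_of_index_two hi (a := (⟨a, hAS haA⟩ : S)⁻¹) (b := ⟨s, hs⟩)).2
            (iff_of_false (fun h => haQ (by simpa using Subgroup.mem_subgroupOf.1 (inv_mem h)))
              fun h => hsQ (Subgroup.mem_subgroupOf.1 h))
          exact Subgroup.mem_subgroupOf.1 this
        have := mul_mem haK (hQK this)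
        rwa [mul_inv_cancel_left] at this
    rw [← Subgroup.index_eq_one]
    rcases (Nat.dvd_prime hq).1 (hidx ▸ Subgroup.index_dvd_of_le hSK) with h | h
    · exact h
    · exfalso
      have := Subgroup.relIndex_mul_index hSK
      rw [h, hidx] at this
      have h1 : S.relIndex K = 1 := by
        have := Nat.eq_of_mul_eq_mul_right hq.pos (this.trans (one_mul q).symm)
        exact this
      exact hy (Subgroup.relIndex_eq_one.1 h1 hyK)
  -- the orbit of `z`
  set C := Subgroup.centralizer ({z} : Set G) with hCdef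
  have hSC : S ≤ C := fun s hs => Subgroup.mem_centralizer_singleton_iff.2 (hz s hs)
  have hCidx : C.index = q := by
    rcases (Nat.dvd_prime hq).1 (hidx ▸ Subgroup.index_dvd_of_le hSC) with h | h
    · exact absurd (fun g => Subgroup.mem_centralizer_singleton_iff.1
        ((Subgroup.index_eq_one.1 h) ▸ Subgroup.mem_top g : g ∈ C)) hzG
    · exact h
  have hqG : q ∣ Nat.card G := hidx ▸ Subgroup.index_dvd_card S
  obtain ⟨w, hw⟩ := exists_prime_orderOf_dvd_card' q hqG
  have hwC : w ∉ C := by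
    intro hwC
    have hCS : C = S := by
      refine (Subgroup.eq_of_le_of_card_ge hSC (le_of_eq ?_)).symm
      have e1 := Subgroup.card_mul_index C
      have e2 := Subgroup.card_mul_index S
      rw [hCidx] at e1
      rw [hidx] at e2
      exact Nat.eq_of_mul_eq_mul_right hq.pos (e1.trans e2.symm)
    obtain ⟨k, hk⟩ := hS ⟨w, hCS ▸ hwC⟩
    have h1 : orderOf w ∣ 2 ^ k := orderOf_dvd_of_pow_eq_one (congrArg Subtype.val hk)
    rw [hw] at h1
    exact hq2 ((Nat.prime_dvd_prime_iff_eq hq Nat.prime_two).1 (hq.dvd_of_dvd_pow h1))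
  let f : Fin q → ↥V ⧸ D.subgroupOf V := fun i =>
    QuotientGroup.mk ⟨w ^ (i : ℕ) * z * (w ^ (i : ℕ))⁻¹, Subgroup.subset_closure ⟨_, rfl⟩⟩
  have hf : Function.Injective f := by
    intro i j hij
    wlog hle : (i : ℕ) ≤ j generalizing i j
    · exact (this hij.symm (by omega)).symm
    by_contra hne
    have hne' : (i : ℕ) ≠ j := fun e => hne (Fin.ext e)
    set n := (j : ℕ) - i
    have hj : (j : ℕ) = i + n := by omega
    have hD : (w ^ (i : ℕ) * z * (w ^ (i : ℕ))⁻¹)⁻¹ * (w ^ (j : ℕ) * z * (w ^ (j : ℕ))⁻¹) ∈ D :=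
      Subgroup.mem_subgroupOf.1 (QuotientGroup.eq.1 hij)
    set u := w ^ n with hu
    set d := z⁻¹ * (u * z * u⁻¹) with hd
    have hdD : d ∈ D := by
      have e : (w ^ (i : ℕ))⁻¹ * ((w ^ (i : ℕ) * z * (w ^ (i : ℕ))⁻¹)⁻¹ *
          (w ^ (j : ℕ) * z * (w ^ (j : ℕ))⁻¹)) * w ^ (i : ℕ) = d := by
        rw [hd, hu, hj, pow_add]; group
      rw [← e, mul_assoc, ← hDc _ hD (w ^ (i : ℕ))]
      simpa using hD
    have hconj : u * z * u⁻¹ = z * d := by rw [hd]; group
    have hdd : d * d = 1 := hV2 d hdD.1.2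
    have hu2 : u * u ∈ C := Subgroup.mem_centralizer_singleton_iff.2 (by
      have h2 : u * u * z * (u * u)⁻¹ = z := by
        calc u * u * z * (u * u)⁻¹ = u * (u * z * u⁻¹) * u⁻¹ := by group
          _ = u * (z * d) * u⁻¹ := by rw [hconj]
          _ = (u * z * u⁻¹) * (u * d * u⁻¹) := by group
          _ = z * d * d := by rw [hconj, hDc d hdD u, mul_inv_cancel_right]
          _ = z := by rw [mul_assoc, hdd, mul_one]
      exact mul_inv_eq_iff_eq_mul.1 h2)
    have hcop : Nat.Coprime (2 * n) (orderOf w) := by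
      rw [hw, Nat.coprime_comm, hq.coprime_iff_not_dvd]
      intro h
      rcases (Nat.Prime.dvd_mul hq).1 h with h | h
      · exact hq2 ((Nat.prime_dvd_prime_iff_eq hq Nat.prime_two).1 h)
      · have := Nat.le_of_dvd (by omega) h
        omega
    obtain ⟨m, hm⟩ := exists_pow_eq_self_of_coprime hcop
    refine hwC ?_
    rw [← hm, show w ^ (2 * n) = u * u by rw [hu, ← pow_add]; ring_nf]
    exact pow_mem hu2 m
  have hqle : q ≤ 4 := by
    have h := Nat.card_le_card_of_injective f hf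
    rw [Nat.card_fin] at h
    exact h.trans hD4
  have := hq.two_le
  interval_cases q
  · exact absurd rfl hq2
  · rfl
  · exact absurd hq (by norm_num)

/-- A nontrivial subgroup normalised by a maximal subgroup and by an element outside it. -/
theorem false_of_normalized {H : Type*} [Group H] [IsSimpleGroup H] {G X : Subgroup H}
    (hG : IsCoatom G) (hX : X ≠ ⊥) (hXG : X ≤ G) (hGX : G ≤ Subgroup.normalizer (X : Set H))
    {g : H} (hg : g ∉ G) (hgX : g ∈ Subgroup.normalizer (X : Set H)) : False := by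
  rcases hG.le_iff.1 hGX with h | h
  · rcases (Subgroup.normalizer_eq_top_iff.1 h).eq_bot_or_eq_top with h' | h'
    · exact hX h'
    · exact hG.1 (top_le_iff.1 (h' ▸ hXG))
  · exact hg (h ▸ hgX)


/-- Sims' Theorem in local form: let H be a finite non-abelian simple group and G a maximal subgroup of H with C_G(O₂(G)) ≤ O₂(G), such that N_H(S) is not contained in G for a Sylow 2-subgroup S of G and G/O₂(G) is dihedral of order 2q for a prime q. Then G is isomorphic to the symmetric group of degree 4 or to its direct product with a group of order 2. -/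
theorem result {H : Type*} [Group H] [Finite H] [IsSimpleGroup H] (hna : ¬ IsMulCommutative H) (G : Subgroup H) (hG : IsCoatom G) (hchar : Subgroup.centralizer (Cfsg.pCore 2 ↥G : Set ↥G) ≤ Cfsg.pCore 2 ↥G) (S : Sylow 2 ↥G) (hN : ¬ Subgroup.normalizer (((S : Subgroup ↥G).map G.subtype : Subgroup H) : Set H) ≤ G) (q : ℕ) (hq : q.Prime) (hD : Nonempty (↥G ⧸ Cfsg.pCore 2 ↥G ≃* DihedralGroup q)) : Nonempty (↥G ≃* Equiv.Perm (Fin 4)) ∨ Nonempty (↥G ≃* Equiv.Perm (Fin 4) × Multiplicative (ZMod 2)) := by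
  classical
  haveI : Fact (Nat.Prime 2) := ⟨Nat.prime_two⟩
  set Q := Cfsg.pCore 2 ↥G with hQdef
  haveI hQn : Q.Normal :=
    @Subgroup.normal_of_characteristic _ _ _ Lib.PSolvable.pCore_characteristic
  have hQp : IsPGroup 2 Q := Lib.PSolvable.pCore_isPGroup
  have hQS : Q ≤ (S : Subgroup ↥G) := Lib.PSolvable.pCore_le_sylow S
  have hQidx : Q.index = 2 * q := by
    obtain ⟨e⟩ := hD
    rw [Subgroup.index_eq_card, Nat.card_congr e.toEquiv, DihedralGroup.nat_card]
  have hQmax : ∀ N : Subgroup ↥G, N.Normal → IsPGroup 2 N → N ≤ Q :=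
    fun N hN h => Lib.PSolvable.le_pCore (hN := hN) h
  have hq2 : q ≠ 2 := by
    rintro rfl
    obtain ⟨k, hk⟩ := hQp.exists_card_eq
    have hc := Subgroup.card_mul_index Q
    rw [hQidx, hk] at hc
    have htop : IsPGroup 2 (⊤ : Subgroup ↥G) := IsPGroup.of_card (n := k + 2) (by
      rw [Subgroup.card_top, ← hc, pow_add]; norm_num)
    have hQt : Q = ⊤ := top_le_iff.1 (hQmax ⊤ inferInstance htop)
    rw [hQt, Subgroup.index_top] at hQidx
    omega
  haveI : Fact q.Prime := ⟨hq⟩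
  have hSodd : ¬ 2 ∣ (S : Subgroup ↥G).index := S.not_dvd_index
  have hprod := Subgroup.relIndex_mul_index hQS
  rw [hQidx] at hprod
  have hrel : Q.relIndex (S : Subgroup ↥G) = 2 ∧ (S : Subgroup ↥G).index = q := by
    obtain ⟨n, hn⟩ := (S.2.index (Q.subgroupOf (S : Subgroup ↥G)))
    rw [show Q.relIndex (S : Subgroup ↥G) = 2 ^ n from hn] at hprod ⊢
    rcases n with _ | _ | n
    · rw [pow_zero, one_mul] at hprod
      exact absurd ⟨q, hprod⟩ hSodd
    · rw [pow_one] at hprod ⊢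
      exact ⟨rfl, by omega⟩
    · exfalso
      have h4 : 4 ∣ 2 * q := ⟨2 ^ n * (S : Subgroup ↥G).index, by rw [← hprod]; ring⟩
      have h2q : 2 ∣ q := by omega
      exact hq2 ((Nat.prime_dvd_prime_iff_eq Nat.prime_two hq).1 h2q).symm
  set SH := (S : Subgroup ↥G).map G.subtype with hSH
  have hSHG : SH ≤ G := Subgroup.map_subtype_le _
  obtain ⟨g, hgN, hgG⟩ := SetLike.not_le_iff_exists.1 hN
  have hSne : SH ≠ ⊥ := by
    intro h
    have h1 : (S : Subgroup ↥G) = ⊥ :=
      (Subgroup.map_eq_bot_iff_of_injective _ G.subtype_injective).1 h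
    have := hrel.1
    rw [h1, Subgroup.relIndex_bot_right] at this
    omega
  have hSH2 : IsPGroup 2 SH := S.2.map _
  have hgconj : ∀ x ∈ SH, g * x * g⁻¹ ∈ SH := fun x hx => (Subgroup.mem_normalizer_iff.1 hgN x).1 hx
  -- an involution in the centre of `S` which is not central in `G`
  obtain ⟨z, hzS, hz, hz2, hzG⟩ : ∃ z ∈ SH, (∀ s ∈ SH, s * z = z * s) ∧ z * z = 1 ∧
      ¬ ∀ x ∈ G, x * z = z * x := by
    by_contra hcon
    push Not at hcon
    set T : Set H := {z | z ∈ SH ∧ (∀ s ∈ SH, s * z = z * s) ∧ z * z = 1}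
    haveI : Nontrivial SH := (Subgroup.nontrivial_iff_ne_bot SH).2 hSne
    haveI := hSH2.center_nontrivial
    obtain ⟨k, hk⟩ := (hSH2.to_subgroup (Subgroup.center SH)).exists_card_eq
    have hdvd : 2 ∣ Nat.card (Subgroup.center SH) := by
      rcases k with _ | k
      · rw [pow_zero] at hk
        exact absurd (Nat.card_eq_one_iff_unique.1 hk).1 (not_subsingleton _)
      · exact hk ▸ dvd_pow_self 2 k.succ_ne_zero
    obtain ⟨t, ht⟩ := exists_prime_orderOf_dvd_card' 2 hdvd
    have htT : (((t : SH) : H)) ∈ T := by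
      refine ⟨(t : SH).2, fun s hs => congrArg Subtype.val (Subgroup.mem_center_iff.1 t.2 ⟨s, hs⟩), ?_⟩
      have := pow_orderOf_eq_one t
      rw [ht, pow_two] at this
      exact congrArg (fun x : Subgroup.center SH => (((x : SH)) : H)) this
    refine false_of_normalized (X := Subgroup.closure T) hG (fun h => ?_)
      ((Subgroup.closure_le _).2 fun x hx => hSHG hx.1) ?_ hgG ?_
    · have h1 : (((t : SH) : H)) = 1 := by
        have := Subgroup.subset_closure htT
        rw [h] at this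
        exact this
      have h2 : t = 1 := Subtype.ext (Subtype.ext h1)
      rw [h2, orderOf_one] at ht
      omega
    · refine le_trans ?_ (Subgroup.centralizer_le_normalizer _)
      rw [Subgroup.centralizer_closure]
      exact fun x hx => Subgroup.mem_centralizer_iff.2 fun z hz => (hcon z hz.1 hz.2.1 hz.2.2 x hx).symm
    · have key : ∀ c : H, c ∈ Subgroup.normalizer (SH : Set H) → ∀ x ∈ T, c * x * c⁻¹ ∈ T := by
        intro c hc x hx
        refine ⟨(Subgroup.mem_normalizer_iff.1 hc x).1 hx.1, fun s hs => ?_, ?_⟩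
        · have hs' : c⁻¹ * s * c ∈ SH := (Subgroup.mem_normalizer_iff.1 hc _).2 (by
            rw [show c * (c⁻¹ * s * c) * c⁻¹ = s by group]; exact hs)
          calc s * (c * x * c⁻¹) = c * ((c⁻¹ * s * c) * x) * c⁻¹ := by group
            _ = c * (x * (c⁻¹ * s * c)) * c⁻¹ := by rw [hx.2.1 _ hs']
            _ = c * x * c⁻¹ * s := by group
        · rw [show c * x * c⁻¹ * (c * x * c⁻¹) = c * (x * x) * c⁻¹ by group, hx.2.2]
          group
      rw [Subgroup.mem_normalizer_iff]
      refine fun x => ⟨fun hx => ?_, fun hx => ?_⟩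
      · exact (Subgroup.closure_le ((Subgroup.closure T).comap (MulAut.conj g).toMonoidHom)).2
          (fun y hy => Subgroup.subset_closure (key g hgN y hy)) hx
      · have := (Subgroup.closure_le ((Subgroup.closure T).comap (MulAut.conj g⁻¹).toMonoidHom)).2
          (fun y hy => Subgroup.subset_closure (key g⁻¹ (inv_mem hgN) y hy)) hx
        simpa [mul_assoc] using this
  -- an elementary abelian subgroup of largest order outside the core
  let P : Subgroup H → Prop := fun X =>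
    X ≤ SH ∧ (∀ x ∈ X, ∀ y ∈ X, x * y = y * x) ∧ ∀ x ∈ X, x * x = 1
  obtain ⟨A₀, hA₀, hA₀max⟩ := Set.exists_max_image {X : Subgroup H | P X} (fun X => Nat.card X)
    (Set.toFinite _) ⟨⊥, bot_le, fun x hx y hy => by
      rw [Subgroup.mem_bot.1 hx, Subgroup.mem_bot.1 hy], fun x hx => by
      rw [Subgroup.mem_bot.1 hx, one_mul]⟩
  set 𝒜 : Set (Subgroup H) := {X | P X ∧ Nat.card X = Nat.card A₀}
  obtain ⟨A, ⟨⟨hAS, hAc, hA2⟩, hAcard⟩, hAQ⟩ : ∃ A ∈ 𝒜, ¬ A ≤ Q.map G.subtype := by
    by_contra hcon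
    push Not at hcon
    have hmap : ∀ c : H, (∀ X ∈ 𝒜, X.map (MulAut.conj c).toMonoidHom ≤ SH) →
        ∀ X ∈ 𝒜, X.map (MulAut.conj c).toMonoidHom ∈ 𝒜 := by
      intro c hc X hX
      refine ⟨⟨hc X hX, ?_, ?_⟩, ?_⟩
      · rintro _ ⟨x, hx, rfl⟩ _ ⟨y, hy, rfl⟩
        rw [← map_mul, ← map_mul, hX.1.2.1 x hx y hy]
      · rintro _ ⟨x, hx, rfl⟩
        rw [← map_mul, hX.1.2.2 x hx, map_one]
      · rw [Subgroup.card_map_of_injective (MulAut.conj c).injective]
        exact hX.2
    have hnorm : ∀ c : H, (∀ X ∈ 𝒜, X.map (MulAut.conj c).toMonoidHom ≤ SH) →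
        (∀ X ∈ 𝒜, X.map (MulAut.conj c⁻¹).toMonoidHom ≤ SH) →
        c ∈ Subgroup.normalizer ((sSup 𝒜 : Subgroup H) : Set H) := by
      intro c hc hc'
      have h1 : ∀ d : H, (∀ X ∈ 𝒜, X.map (MulAut.conj d).toMonoidHom ≤ SH) →
          ∀ x ∈ (sSup 𝒜 : Subgroup H), d * x * d⁻¹ ∈ (sSup 𝒜 : Subgroup H) := by
        intro d hd x hx
        exact (sSup_le fun X hX => Subgroup.map_le_iff_le_comap.1 (le_sSup (hmap d hd X hX)) :
          (sSup 𝒜 : Subgroup H) ≤ (sSup 𝒜).comap (MulAut.conj d).toMonoidHom) hx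
      rw [Subgroup.mem_normalizer_iff]
      refine fun x => ⟨h1 c hc x, fun hx => ?_⟩
      simpa [mul_assoc] using h1 c⁻¹ hc' _ hx
    have hGn : ∀ c ∈ G, ∀ X ∈ 𝒜, X.map (MulAut.conj c).toMonoidHom ≤ SH := by
      rintro c hc X hX _ ⟨x, hx, rfl⟩
      obtain ⟨y, hy, rfl⟩ := hcon X hX hx
      refine Subgroup.map_mono hQS ⟨⟨c, hc⟩ * y * (⟨c, hc⟩ : ↥G)⁻¹, hQn.conj_mem y hy _, ?_⟩
      simp
    refine false_of_normalized (X := sSup 𝒜) hG (fun h => ?_)
      (sSup_le fun X hX => hX.1.1.trans hSHG)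
      (fun c hc => hnorm c (hGn c hc) (hGn c⁻¹ (inv_mem hc))) hgG
      (hnorm g (fun X hX => (Subgroup.map_mono hX.1.1).trans ?_)
        (fun X hX => (Subgroup.map_mono hX.1.1).trans ?_))
    · have h1 : A₀ = ⊥ := le_bot_iff.1 (h ▸ le_sSup (show A₀ ∈ 𝒜 from ⟨hA₀, rfl⟩))
      have hz1 : z ≠ 1 := fun e => hzG (by simp [e])
      have h2 := hA₀max (Subgroup.zpowers z) ⟨Subgroup.zpowers_le.2 hzS, fun x hx y hy => by
        obtain ⟨i, rfl⟩ := hx
        obtain ⟨j, rfl⟩ := hy
        exact (Commute.zpow_zpow (Commute.refl z) i j).eq, fun x hx => by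
        obtain ⟨i, rfl⟩ := hx
        rw [← (Commute.refl z).mul_zpow, hz2, one_zpow]⟩
      rw [h1, Subgroup.card_bot] at h2
      have h3 : Nat.card (Subgroup.zpowers z) ≠ 1 := fun e =>
        hz1 (Subgroup.zpowers_eq_bot.1 (Subgroup.card_eq_one.1 e))
      have h4 : 0 < Nat.card (Subgroup.zpowers z) := Nat.card_pos
      omega
    · rintro _ ⟨x, hx, rfl⟩
      exact hgconj x hx
    · rintro _ ⟨x, hx, rfl⟩
      exact (Subgroup.mem_normalizer_iff.1 (inv_mem hgN) x).1 hx
  have hq3 : q = 3 := by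
    have hSe : ∀ {x : ↥G}, (x : H) ∈ SH → x ∈ (S : Subgroup ↥G) := by
      rintro x ⟨y, hy, e⟩
      exact G.subtype_injective e ▸ hy
    refine eq_three hq hq2 Q (S : Subgroup ↥G) hQS S.2 hchar hQmax hrel.1 hrel.2 (A.subgroupOf G)
      (fun x hx => hSe (hAS hx)) (fun x hx y hy => Subtype.ext (hAc _ hx _ hy))
      (fun x hx => Subtype.ext (hA2 _ hx)) (fun B hB hBc hB2 => ?_) (fun h => hAQ fun x hx =>
        ⟨⟨x, hSHG (hAS hx)⟩, h hx, rfl⟩)
      ⟨z, hSHG hzS⟩ (hSe hzS) (fun s hs => Subtype.ext (hz _ ⟨s, hs, rfl⟩)) (Subtype.ext hz2)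
      (fun h => hzG fun x hx => congrArg Subtype.val (h ⟨x, hx⟩))
    rw [Nat.card_congr (Subgroup.subgroupOfEquivOfLe (hAS.trans hSHG)).toEquiv, hAcard,
      ← Subgroup.card_map_of_injective G.subtype_injective]
    exact hA₀max _ ⟨Subgroup.map_mono hB, by
      rintro _ ⟨x, hx, rfl⟩ _ ⟨y, hy, rfl⟩
      rw [← map_mul, hBc x hx y hy, map_mul], by
      rintro _ ⟨x, hx, rfl⟩
      rw [← map_mul, hB2 x hx, map_one]⟩
  subst hq3
  -- the trivalent graph
  obtain ⟨t, ht⟩ := S.2.exists_card_eq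
  have hSHcard : Nat.card SH = 2 ^ t := by
    rw [Subgroup.card_map_of_injective G.subtype_injective, ht]
  have hGcard : Nat.card G = 3 * 2 ^ t := by
    rw [← Subgroup.card_mul_index (S : Subgroup ↥G), ht, hrel.2, mul_comm]
  obtain ⟨y, hy⟩ : ∃ y : ↥G, y ∉ Subgroup.normalizer ((S : Subgroup ↥G) : Set ↥G) := by
    by_contra hcon
    push Not at hcon
    have hSn : (S : Subgroup ↥G).Normal :=
      Subgroup.normalizer_eq_top_iff.1 ((eq_top_iff).2 fun x _ => hcon x)
    have := hQmax _ hSn S.2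
    have := hrel.1
    rw [Subgroup.relIndex_eq_one.2 ‹(S : Subgroup ↥G) ≤ Q›] at this
    omega
  have hg'G : g * (y : H) ∉ G := fun h => hgG (by simpa using mul_mem h (inv_mem y.2))
  set φ := (MulAut.conj (g * (y : H))).toMonoidHom with hφ
  have hGg : G.map φ = G.map (MulAut.conj g).toMonoidHom := by
    ext x
    constructor
    · rintro ⟨u, hu, rfl⟩
      exact ⟨(y : H) * u * (y : H)⁻¹, mul_mem (mul_mem y.2 hu) (inv_mem y.2), by simp [φ, mul_assoc]⟩
    · rintro ⟨u, hu, rfl⟩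
      exact ⟨(y : H)⁻¹ * u * (y : H), mul_mem (mul_mem (inv_mem y.2) hu) y.2, by simp [φ, mul_assoc]⟩
  have hP : SH = G ⊓ G.map φ := by
    have hle : SH ≤ G ⊓ G.map φ := by
      refine le_inf hSHG ?_
      rw [hGg]
      intro x hx
      exact ⟨g⁻¹ * x * g, hSHG ((Subgroup.mem_normalizer_iff.1 hgN _).2 (by
        rw [show g * (g⁻¹ * x * g) * g⁻¹ = x by group]; exact hx)), by simp [mul_assoc]⟩
    refine Subgroup.eq_of_le_of_card_ge hle ?_
    have h1 := Subgroup.card_dvd_of_le (inf_le_left : G ⊓ G.map φ ≤ G)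
    have h2 := Subgroup.card_dvd_of_le hle
    rw [hSHcard] at h2 ⊢
    obtain ⟨c, hc⟩ := h2
    rw [hc, hGcard, mul_comm 3, Nat.mul_dvd_mul_iff_left (Nat.two_pow_pos t)] at h1
    rcases (Nat.dvd_prime Nat.prime_three).1 h1 with rfl | rfl
    · omega
    · exfalso
      have e1 : G ⊓ G.map φ = G := Subgroup.eq_of_le_of_card_ge inf_le_left (by omega)
      have e2 : G = G.map φ := Subgroup.eq_of_le_of_card_ge (inf_eq_left.1 e1)
        (Subgroup.card_map_of_injective (MulAut.conj _).injective).le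
      have e3 : g * (y : H) ∈ Subgroup.normalizer (G : Set H) := by
        rw [Subgroup.mem_normalizer_iff]
        intro x
        refine ⟨fun hx => e2.ge ⟨x, hx, rfl⟩, fun hx => ?_⟩
        obtain ⟨u, hu, e⟩ := e2.le hx
        rwa [← (MulAut.conj (g * (y : H))).injective e]
      rcases hG.le_iff.1 (Subgroup.le_normalizer (H := G)) with h | h
      · rcases (Subgroup.normalizer_eq_top_iff.1 h).eq_bot_or_eq_top with h' | h'
        · exact hSne (le_bot_iff.1 (h' ▸ hSHG))
        · exact hG.1 h'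
      · rw [h] at e3
        exact hg'G e3
  have hne : SH.map φ ≠ SH := by
    intro e
    refine hy (Subgroup.mem_normalizer_iff.2 fun x => ?_)
    have key : ∀ u : H, u ∈ SH ↔ (y : H) * u * (y : H)⁻¹ ∈ SH := by
      intro u
      rw [Subgroup.mem_normalizer_iff.1 hgN ((y : H) * u * (y : H)⁻¹)]
      conv_rhs => rw [← e]
      constructor
      · exact fun hu => ⟨u, hu, by simp [φ, mul_assoc]⟩
      · rintro ⟨v, hv, hvu⟩
        have : φ v = φ u := by rw [hvu]; simp [φ, mul_assoc]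
        rwa [← (MulAut.conj (g * (y : H))).injective this]
    have hmem : ∀ u : ↥G, u ∈ (S : Subgroup ↥G) ↔ (u : H) ∈ SH := fun u =>
      ⟨fun hu => ⟨u, hu, rfl⟩, fun ⟨v, hv, e'⟩ => G.subtype_injective e' ▸ hv⟩
    rw [hmem, hmem, key]
    rfl
  obtain ⟨c, hc, ⟨e⟩⟩ := Lib.Trivalent.exists_tri hG
    (fun N hN hle => hN.eq_bot_or_eq_top.resolve_right fun h => hG.1 (top_le_iff.1 (h ▸ hle)))
    hg'G SH hP hSHcard hGcard hne
  have hsmall : ∀ n, Nat.card G = n → n = 6 ∨ n = 12 → False := by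
    intro n hn h
    have hc' := Subgroup.card_mul_index Q
    rw [hQidx, hn] at hc'
    have hQ2 : Nat.card Q ≤ 2 := by omega
    haveI : Q.Normal := hQn
    have hQcent : ∀ x ∈ Q, ∀ u : ↥G, u * x = x * u := by
      intro x hx u
      by_cases hx1 : x = 1
      · simp [hx1]
      · have hxu : u * x * u⁻¹ ∈ Q := hQn.conj_mem x hx u
        by_contra hne'
        have hnn : u * x * u⁻¹ ≠ x := fun e => hne' (mul_inv_eq_iff_eq_mul.1 e)
        have hn1 : u * x * u⁻¹ ≠ 1 := fun e => hx1 (by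
          calc x = u⁻¹ * (u * x * u⁻¹) * u := by group
            _ = 1 := by rw [e]; group)
        have : 3 ≤ Nat.card Q := by
          have h3 : ({⟨1, Q.one_mem⟩, ⟨x, hx⟩, ⟨_, hxu⟩} : Finset Q).card = 3 := by
            rw [Finset.card_insert_of_notMem, Finset.card_pair]
            · exact fun e => hnn (congrArg Subtype.val e).symm
            · simp only [Finset.mem_insert, Finset.mem_singleton, Subtype.mk.injEq, not_or]
              exact ⟨fun e => hx1 e.symm, fun e => hn1 e.symm⟩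
          haveI := Fintype.ofFinite Q
          rw [Nat.card_eq_fintype_card, ← h3]
          exact Finset.card_le_univ _
        omega
    have htop : Q = ⊤ := top_le_iff.1 (le_trans (fun u _ =>
      Subgroup.mem_centralizer_iff.2 fun x hx => (hQcent x hx u).symm) hchar)
    rw [htop, Subgroup.index_top] at hQidx
    omega
  rcases hc.iso with h | h | h | h
  · obtain ⟨f⟩ := h
    exact (hsmall 6 (by rw [Nat.card_congr (e.trans f).toEquiv, Nat.card_perm, Nat.card_fin]; rfl)
      (Or.inl rfl)).elim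
  · obtain ⟨f⟩ := h
    exact (hsmall 12 (by rw [Nat.card_congr (e.trans f).toEquiv, DihedralGroup.nat_card])
      (Or.inr rfl)).elim
  · exact Or.inl (h.map e.trans)
  · exact Or.inr (h.map e.trans)

end Cfsg.Agent.S2772
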