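import Cfsg.Statements.S2773
import Cfsg.Agent.Lib.FocalChar.Main
import Cfsg.Agent.Lib.FusionMod.Basic

set_option autoImplicit false
universe u
open Cfsg

namespace Cfsg.Agent.S2773

open scoped commutatorElement

open Subgroup Cfsg.Agent.Lib in
/-- The derived subgroup of `N(Z)` meets `S` in that of `C(Z)` times that of `N(S) ∩ N(Z)`. -/
theorem inf_commutator_normalizer_le {G : Type*} [Group G] [Finite G] {p : ℕ} [Fact p.Prime]
    (P : Sylow p G) {Z : Subgroup G} (hZ : (P : Subgroup G) ≤ centralizer (Z : Set G)) :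
    (P : Subgroup G) ⊓ ⁅normalizer (Z : Set G), normalizer (Z : Set G)⁆ ≤
      ((P : Subgroup G) ⊓ ⁅centralizer (Z : Set G), centralizer (Z : Set G)⁆) ⊔
      ((P : Subgroup G) ⊓ ⁅normalizer ((P : Subgroup G) : Set G) ⊓ normalizer (Z : Set G),
        normalizer ((P : Subgroup G) : Set G) ⊓ normalizer (Z : Set G)⁆) := by
  set S := (P : Subgroup G) with hS
  set C := centralizer (Z : Set G) with hC
  set N := normalizer (Z : Set G) with hN
  set N₀ := normalizer (S : Set G) ⊓ N with hN₀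
  have hCN : C ≤ N := centralizer_le_normalizer _
  have hnC : N ≤ normalizer (C : Set G) := fun g hg => by
    have hle : ∀ u ∈ N, ∀ c ∈ C, u * c * u⁻¹ ∈ C := fun u hu c hc => mem_centralizer_iff.2 fun z hz => by
      have h1 : u⁻¹ * z * u ∈ Z := by
        have := (mem_normalizer_iff.1 (inv_mem hu) z).1 hz
        simpa using this
      have h2 := mem_centralizer_iff.1 hc _ h1
      calc z * (u * c * u⁻¹) = u * ((u⁻¹ * z * u) * c) * u⁻¹ := by group
        _ = u * (c * (u⁻¹ * z * u)) * u⁻¹ := by rw [h2]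
        _ = _ := by group
    exact mem_normalizer_iff.2 fun c => ⟨hle g hg c, fun hc => by
      simpa [mul_assoc] using hle g⁻¹ (inv_mem hg) _ hc⟩
  intro s hs
  set E := ⁅C, C⁆ with hE
  have hEC : E ≤ C := commutator_le.2 fun a ha b hb =>
    mul_mem (mul_mem (mul_mem ha hb) (inv_mem ha)) (inv_mem hb)
  have hNE : N ≤ normalizer (E : Set G) := Coprime.le_normalizer_commutator hnC hnC
  have hcop : ∀ {a b : ℕ}, a.Coprime p → b.Coprime p → (a * b).Coprime p := Nat.Coprime.mul_left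
  -- the elements of `C` of order prime to `p` modulo `E`
  have hpow : ∀ {a b : G}, a ∈ C → b ∈ C → ∀ m : ℕ, (a * b) ^ m * (a ^ m * b ^ m)⁻¹ ∈ E := by
    intro a b ha hb m
    induction m with
    | zero => simp
    | succ m ih =>
      set e := (a * b) ^ m * (a ^ m * b ^ m)⁻¹ with he
      have h1 : (a * b) ^ (m + 1) * (a ^ (m + 1) * b ^ (m + 1))⁻¹ =
          e * (a ^ m * ⁅b ^ m, a⁆ * (a ^ m)⁻¹) := by
        rw [he, pow_succ, pow_succ, pow_succ, commutatorElement_def]; group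
      rw [h1]
      refine mul_mem ih ((mem_normalizer_iff.1 (hNE (pow_mem (hCN ha) m)) _).1 ?_)
      exact commutator_mem_commutator (pow_mem hb m) ha
  let Y : Subgroup G :=
    { carrier := {c | c ∈ C ∧ ∃ k : ℕ, k.Coprime p ∧ c ^ k ∈ E}
      one_mem' := ⟨one_mem _, 1, Nat.coprime_one_left p, by simp⟩
      mul_mem' := fun {a b} ha hb => by
        obtain ⟨ha, k, hk, hak⟩ := ha
        obtain ⟨hb, l, hl, hbl⟩ := hb
        refine ⟨mul_mem ha hb, k * l, hcop hk hl, ?_⟩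
        have h1 := hpow ha hb (k * l)
        have h2 : a ^ (k * l) ∈ E := by rw [pow_mul]; exact pow_mem hak l
        have h3 : b ^ (k * l) ∈ E := by rw [mul_comm k l, pow_mul]; exact pow_mem hbl k
        have h4 := mul_mem h1 (mul_mem h2 h3)
        rwa [inv_mul_cancel_right] at h4
      inv_mem' := fun {a} ha => by
        obtain ⟨ha, k, hk, hak⟩ := ha
        exact ⟨inv_mem ha, k, hk, by rw [inv_pow]; exact inv_mem hak⟩ }
  have hEY : E ≤ Y := fun e he => ⟨hEC he, 1, Nat.coprime_one_left p, by rwa [pow_one]⟩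
  have hNY : N ≤ normalizer (Y : Set G) := by
    have hle : ∀ u ∈ N, ∀ c ∈ Y, u * c * u⁻¹ ∈ Y := by
      rintro u hu c ⟨hc, k, hk, hck⟩
      refine ⟨(mem_normalizer_iff.1 (hnC hu) c).1 hc, k, hk, ?_⟩
      rw [conj_pow]
      exact (mem_normalizer_iff.1 (hNE hu) _).1 hck
    exact fun u hu => mem_normalizer_iff.2 fun c => ⟨hle u hu c, fun hc => by
      simpa [mul_assoc] using hle u⁻¹ (inv_mem hu) _ hc⟩
  have hSN₀ : S ≤ N₀ := le_inf le_normalizer (hZ.trans hCN)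
  -- `C = S Y`
  have hCSY : ∀ c ∈ C, c ∈ Y ⊔ S := by
    intro c hc
    obtain ⟨k, hk⟩ := Transfer.exists_pow_coprime (p := p) c
    obtain ⟨u, v, huv⟩ : ∃ u v : ℤ, ((p ^ k : ℕ) : ℤ) * u + (orderOf (c ^ p ^ k) : ℤ) * v = 1 :=
      ⟨_, _, (Nat.gcd_eq_gcd_ab _ _).symm.trans (by
        rw [(hk.symm.pow_left k : (p ^ k).Coprime (orderOf (c ^ p ^ k))).gcd_eq_one]; rfl)⟩
    set m := orderOf (c ^ p ^ k)
    have e : c = (c ^ p ^ k) ^ u * (c ^ m) ^ v := by
      rw [← zpow_natCast c (p ^ k), ← zpow_mul, ← zpow_natCast c m, ← zpow_mul, ← zpow_add, huv, zpow_one]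
    have h1 : c ^ p ^ k ∈ Y := ⟨pow_mem hc _, _, hk, by rw [pow_orderOf_eq_one]; exact one_mem _⟩
    have h2 : IsPGroup p (zpowers (⟨c ^ m, pow_mem hc m⟩ : C)) := by
      refine IsPGroup.iff_orderOf.2 fun z => ?_
      obtain ⟨i, -, hi⟩ : ∃ i ≤ k, orderOf (c ^ m) = p ^ i := (Nat.dvd_prime_pow Fact.out).1 (by
        refine orderOf_dvd_of_pow_eq_one ?_
        rw [← pow_mul, mul_comm, pow_mul, pow_orderOf_eq_one])
      obtain ⟨j, -, hj⟩ : ∃ j ≤ i, orderOf z = p ^ j := (Nat.dvd_prime_pow Fact.out).1 (by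
        refine (_root_.orderOf_dvd_natCard z).trans (dvd_of_eq ?_)
        rw [Nat.card_zpowers, orderOf_mk, hi])
      exact ⟨j, hj⟩
    obtain ⟨R, hR⟩ := h2.exists_le_sylow
    obtain ⟨g, hg⟩ := MulAction.exists_smul_eq C R (P.subtype hZ)
    have h3 : (g : G) * c ^ m * (g : G)⁻¹ ∈ S := by
      have h4 : g * ⟨c ^ m, pow_mem hc m⟩ * g⁻¹ ∈ ((g • R : Sylow p C) : Subgroup C) := by
        rw [Sylow.coe_subgroup_smul]
        exact ⟨_, hR (mem_zpowers _), by simp [MulAut.smul_def]⟩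
      rw [hg, Sylow.coe_subtype] at h4
      exact mem_subgroupOf.1 h4
    have h5 : c ^ m ∈ Y ⊔ S := by
      have he : (c ^ m) = ⁅c ^ m, (g : G)⁆ * ((g : G) * c ^ m * (g : G)⁻¹) := by
        rw [commutatorElement_def]; group
      rw [he]
      exact mul_mem (mem_sup_left (hEY (commutator_mem_commutator (pow_mem hc m) g.2))) (mem_sup_right h3)
    rw [e]
    exact mul_mem (mem_sup_left (zpow_mem h1 u)) (zpow_mem h5 v)
  -- `N = Y N₀`
  have hNY₀ : N ≤ Y ⊔ N₀ := by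
    intro n hn
    have hle : (n • P : Sylow p G).toSubgroup ≤ C := by
      rw [Sylow.coe_subgroup_smul]
      rintro _ ⟨x, hx, rfl⟩
      exact (mem_normalizer_iff.1 (hnC hn) x).1 (hZ hx)
    obtain ⟨c, hc⟩ := MulAction.exists_smul_eq C (P.subtype hZ) ((n • P).subtype hle)
    have hc' : (c : G) • P = n • P := by
      have h5 := congrArg (fun R : Sylow p C => (R : Subgroup C).map C.subtype) hc
      simp only [Sylow.coe_subgroup_smul, Sylow.coe_subtype] at h5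
      refine Sylow.ext ?_
      rw [Sylow.coe_subgroup_smul, Sylow.coe_subgroup_smul]
      rw [Sylow.coe_subgroup_smul] at hle
      rw [map_subgroupOf_eq_of_le hle] at h5
      rw [← h5]
      ext x
      constructor
      · rintro ⟨w, hw, rfl⟩
        exact ⟨c * ⟨w, hZ hw⟩ * c⁻¹, ⟨⟨w, hZ hw⟩, mem_subgroupOf.2 hw, by simp [MulAut.smul_def]⟩, by simp [MulAut.smul_def]⟩
      · rintro ⟨_, ⟨w, hw, rfl⟩, rfl⟩
        exact ⟨w, mem_subgroupOf.1 hw, by simp [MulAut.smul_def]⟩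
    have h1 : (c : G)⁻¹ * n ∈ normalizer (S : Set G) := Sylow.smul_eq_iff_mem_normalizer.1 (by
      rw [mul_smul, ← hc', inv_smul_smul])
    have h2 : (c : G)⁻¹ * n ∈ N₀ := mem_inf.2 ⟨h1, N.mul_mem (N.inv_mem (hCN c.2)) hn⟩
    have h3 := mul_mem (sup_le_sup_left hSN₀ Y (hCSY c c.2)) (mem_sup_right (S := Y) h2)
    rwa [mul_inv_cancel_left] at h3
  set D := ⁅N₀, N₀⁆ with hD
  have hDN₀ : D ≤ N₀ := commutator_le.2 fun a ha b hb =>
    mul_mem (mul_mem (mul_mem ha hb) (inv_mem ha)) (inv_mem hb)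
  have hN₀N : N₀ ≤ N := inf_le_right
  have hDY : ⁅N, N⁆ ≤ Y ⊔ D := by
    have hn : D ≤ normalizer (Y : Set G) := hDN₀.trans (hN₀N.trans hNY)
    have hnN₀ : N₀ ≤ normalizer (Y : Set G) := hN₀N.trans hNY
    have hN₀D : N₀ ≤ normalizer (D : Set G) := Coprime.le_normalizer_commutator le_normalizer le_normalizer
    refine commutator_le.2 fun a ha b hb => ?_
    have h1 : ∀ z ∈ Y ⊔ N₀, ∃ y ∈ Y, ∃ z₀ ∈ N₀, y * z₀ = z := fun z hz => by
      rw [← SetLike.mem_coe, coe_mul_of_right_le_normalizer_left _ _ hnN₀] at hz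
      obtain ⟨y, hy, z₀, hz₀, e⟩ := Set.mem_mul.1 hz
      exact ⟨y, hy, z₀, hz₀, e⟩
    obtain ⟨y, hy, a₀, ha₀, rfl⟩ := h1 a (hNY₀ ha)
    obtain ⟨y', hy', b₀, hb₀, rfl⟩ := h1 b (hNY₀ hb)
    have hY : ∀ u ∈ N₀, ∀ w ∈ Y, u * w * u⁻¹ ∈ Y := fun u hu w hw =>
      (mem_normalizer_iff.1 (hnN₀ hu) w).1 hw
    have e : ⁅y * a₀, y' * b₀⁆ = (y * (a₀ * y' * a₀⁻¹)) *
        ((⁅a₀, b₀⁆ * b₀) * (y⁻¹) * (⁅a₀, b₀⁆ * b₀)⁻¹) *
        ((⁅a₀, b₀⁆ * y'⁻¹ * ⁅a₀, b₀⁆⁻¹)) * ⁅a₀, b₀⁆ := by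
      simp [commutatorElement_def, mul_assoc]
    rw [e]
    have hd : ⁅a₀, b₀⁆ ∈ N₀ := hDN₀ (commutator_mem_commutator ha₀ hb₀)
    exact mul_mem (mem_sup_left (mul_mem (mul_mem (mul_mem hy (hY _ ha₀ _ hy'))
      (hY _ (mul_mem hd hb₀) _ (inv_mem hy))) (hY _ hd _ (inv_mem hy'))))
      (mem_sup_right (commutator_mem_commutator ha₀ hb₀))
  have hDn : D ≤ normalizer (Y : Set G) := hDN₀.trans (hN₀N.trans hNY)
  obtain ⟨y, hy, m, hm, e⟩ : ∃ y ∈ Y, ∃ m ∈ D, y * m = s := by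
    have := hDY hs.2
    rw [← SetLike.mem_coe, coe_mul_of_right_le_normalizer_left _ _ hDn] at this
    obtain ⟨y, hy, m, hm, e⟩ := Set.mem_mul.1 this
    exact ⟨y, hy, m, hm, e⟩
  have hy₀ : y ∈ N₀ := by
    rw [show y = s * m⁻¹ by rw [← e, mul_inv_cancel_right]]
    exact mul_mem (hSN₀ hs.1) (inv_mem (hDN₀ hm))
  -- a power prime to `p` of an element of `N₀` is in `S`
  haveI hSn : (S.subgroupOf N₀).Normal :=
    (normal_subgroupOf_iff_le_normalizer hSN₀).2 inf_le_left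
  set l := (S.subgroupOf N₀).index with hl
  have hlco : l.Coprime p := by
    have : (P.subtype hSN₀ : Subgroup N₀) = S.subgroupOf N₀ := Sylow.coe_subtype P hSN₀
    rw [hl, ← this]
    exact ((Fact.out : p.Prime).coprime_iff_not_dvd.2 (P.subtype hSN₀).not_dvd_index).symm
  have hlS : ∀ z ∈ N₀, z ^ l ∈ S := fun z hz => by
    simpa using mem_subgroupOf.1 ((S.subgroupOf N₀).pow_index_mem ⟨z, hz⟩)
  set Q₀ := (S ⊓ E) ⊔ (S ⊓ D) with hQ₀
  have hQ₀N : Q₀ ≤ N₀ := sup_le (inf_le_left.trans hSN₀) (inf_le_left.trans hSN₀)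
  haveI : (Q₀.subgroupOf N₀).Normal := by
    refine (normal_subgroupOf_iff_le_normalizer hQ₀N).2 fun u hu => ?_
    refine mem_normalizer_iff_map_conj_eq.2 ?_
    rw [hQ₀, Subgroup.map_sup]
    refine congrArg₂ (· ⊔ ·) (mem_normalizer_iff_map_conj_eq.1 ?_) (mem_normalizer_iff_map_conj_eq.1 ?_)
    · exact inf_normalizer_le_normalizer_inf ⟨hu.1, hNE hu.2⟩
    · exact inf_normalizer_le_normalizer_inf ⟨hu.1,
        Coprime.le_normalizer_commutator (le_normalizer (H := N₀)) le_normalizer hu⟩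
  let π := QuotientGroup.mk' (Q₀.subgroupOf N₀)
  have hπ : ∀ z : N₀, π z = 1 ↔ (z : G) ∈ Q₀ := fun z =>
    (QuotientGroup.eq_one_iff z).trans mem_subgroupOf
  haveI : (D.subgroupOf N₀).Normal := (normal_subgroupOf_iff_le_normalizer hDN₀).2
    (Coprime.le_normalizer_commutator le_normalizer le_normalizer)
  haveI hMn : ((D.subgroupOf N₀).map π).Normal :=
    (inferInstance : (D.subgroupOf N₀).Normal).map π (QuotientGroup.mk'_surjective _)
  have hsS : ∀ x ∈ S, ∀ hx : x ∈ N₀, ∃ i, π ⟨x, hx⟩ ^ p ^ i = 1 := fun x hxS hx => by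
    obtain ⟨i, hi⟩ := P.isPGroup' ⟨x, hxS⟩
    exact ⟨i, by rw [← map_pow, show (⟨x, hx⟩ : N₀) ^ p ^ i = 1 from
      Subtype.ext (by simpa using congrArg Subtype.val hi), map_one]⟩
  have hMco : ∀ w ∈ (D.subgroupOf N₀).map π, w ^ l = 1 := by
    rintro _ ⟨z, hz, rfl⟩
    rw [← map_pow, hπ, SubgroupClass.coe_pow]
    exact mem_sup_right ⟨hlS _ z.2, pow_mem (mem_subgroupOf.1 hz) l⟩
  obtain ⟨-, k, hk, hyk⟩ := hy
  let π₂ := QuotientGroup.mk' ((D.subgroupOf N₀).map π)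
  obtain ⟨i, hi⟩ := hsS s hs.1 (hSN₀ hs.1)
  have hycop : π ⟨y, hy₀⟩ ^ (k * l) = 1 := by
    rw [← map_pow, hπ, SubgroupClass.coe_pow]
    refine mem_sup_left ⟨?_, ?_⟩
    · rw [pow_mul]; exact hlS _ (pow_mem hy₀ k)
    · rw [pow_mul]; exact pow_mem hyk l
  have hsM : π ⟨s, hSN₀ hs.1⟩ ∈ (D.subgroupOf N₀).map π := by
    have heq : π₂ (π ⟨s, hSN₀ hs.1⟩) = π₂ (π ⟨y, hy₀⟩) := by
      rw [show (⟨s, hSN₀ hs.1⟩ : N₀) = ⟨y, hy₀⟩ * ⟨m, hDN₀ hm⟩ from Subtype.ext e.symm, map_mul,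
        map_mul, show π₂ (π ⟨m, hDN₀ hm⟩) = 1 from (QuotientGroup.eq_one_iff _).2
          (mem_map_of_mem π (show (⟨m, hDN₀ hm⟩ : N₀) ∈ D.subgroupOf N₀ from hm)), mul_one]
    refine (QuotientGroup.eq_one_iff _).1 (orderOf_eq_one_iff.1 (Nat.eq_one_of_dvd_coprimes
      ((hcop hk hlco).pow_right i) (orderOf_dvd_of_pow_eq_one (x := π₂ (π ⟨s, hSN₀ hs.1⟩)) ?_)
      (orderOf_dvd_of_pow_eq_one ?_)))
    · rw [heq, ← map_pow, hycop, map_one]
    · rw [← QuotientGroup.mk_pow, hi, QuotientGroup.mk_one]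
  exact (hπ ⟨s, hSN₀ hs.1⟩).1 (orderOf_eq_one_iff.1 (Nat.eq_one_of_dvd_coprimes (hlco.pow_right i)
    (orderOf_dvd_of_pow_eq_one (hMco _ hsM)) (orderOf_dvd_of_pow_eq_one hi)))

/-- For every nontrivial finite 3-group S there is a nontrivial characteristic subgroup K of S such that, in every finite group G containing S as a Sylow 3-subgroup, S ∩ G' is the product of S ∩ (C_G(Z(S)))' and S ∩ (N_G(K))' (derived subgroups; product taken elementwise). -/
theorem result {S : Type u} [Group S] [Finite S] [Nontrivial S] (hS : IsPGroup 3 S) : ∃ K : Subgroup S, K ≠ ⊥ ∧ K.Characteristic ∧ ∀ (G : Type u) [Group G] [Finite G] (τ : S →* G), Function.Injective τ → (∃ P : Sylow 3 G, (P : Subgroup G) = τ.range) → ∀ g : G, g ∈ τ.range ⊓ commutator G ↔ ∃ a ∈ τ.range ⊓ ⁅Subgroup.centralizer ((τ.range ⊓ Subgroup.centralizer (τ.range : Set G) : Subgroup G) : Set G), Subgroup.centralizer ((τ.range ⊓ Subgroup.centralizer (τ.range :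 Set G) : Subgroup G) : Set G)⁆, ∃ b ∈ τ.range ⊓ ⁅Subgroup.normalizer ((K.map τ : Subgroup G) : Set G), Subgroup.normalizer ((K.map τ : Subgroup G) : Set G)⁆, g = a * b := by
  haveI : Fact (Nat.Prime 3) := ⟨Nat.prime_three⟩
  refine ⟨Cfsg.Agent.Lib.FocalChar.kFun 3 S, Cfsg.Agent.Lib.FocalChar.kFun_isCharPFunctor.1 S hS ‹_›,
    Subgroup.characteristic_iff_map_eq.2 fun φ =>
      Cfsg.Agent.Lib.FocalChar.kFun_isCharPFunctor.2 S S hS φ, fun G _ _ τ hτ hP g => ?_⟩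
  obtain ⟨P, hP⟩ := hP
  rw [← hP]
  set T := (P : Subgroup G) with hT
  have hK : (Cfsg.Agent.Lib.FocalChar.kFun 3 S).map τ = Cfsg.Agent.Lib.FocalChar.kSub 3 T := by
    show (Cfsg.Agent.Lib.FocalChar.kSub 3 (⊤ : Subgroup S)).map τ = _
    rw [← Cfsg.Agent.Lib.FocalChar.kSub_map hτ, ← MonoidHom.range_eq_map, hP]
  rw [hK]
  set Z := T ⊓ Subgroup.centralizer (T : Set G) with hZ
  have hTC : T ≤ Subgroup.centralizer (Z : Set G) := fun t ht => Subgroup.mem_centralizer_iff.2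
    fun z hz => (Subgroup.mem_centralizer_iff.1 hz.2 t ht).symm
  set A := T ⊓ ⁅Subgroup.centralizer (Z : Set G), Subgroup.centralizer (Z : Set G)⁆ with hA
  set B := T ⊓ ⁅Subgroup.normalizer (Cfsg.Agent.Lib.FocalChar.kSub 3 T : Set G),
    Subgroup.normalizer (Cfsg.Agent.Lib.FocalChar.kSub 3 T : Set G)⁆ with hB
  constructor
  · intro hg
    have hN0 : Subgroup.normalizer (T : Set G) ≤
        Subgroup.normalizer (Cfsg.Agent.Lib.FocalChar.kSub 3 T : Set G) := by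
      have := Cfsg.Agent.Lib.FocalChar.kSub_subgroupOf_characteristic (p := 3) T
      have h1 := Cfsg.Agent.Lib.Coprime.normalizer_le_normalizer_map_of_characteristic
        ((Cfsg.Agent.Lib.FocalChar.kSub 3 T).subgroupOf T)
      rwa [Subgroup.map_subgroupOf_eq_of_le (Cfsg.Agent.Lib.FocalChar.kSub_le_S T)] at h1
    have h2 := (Cfsg.Agent.Lib.FocalChar.focal_pair (p := 3) (by omega) P).trans (sup_le
      ((inf_commutator_normalizer_le P hTC).trans (sup_le_sup_left (inf_le_inf_left T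
        (Subgroup.commutator_mono (inf_le_left.trans hN0) (inf_le_left.trans hN0))) A))
      le_sup_right) hg
    have hn : B ≤ Subgroup.normalizer (A : Set G) := inf_le_left.trans ((le_inf Subgroup.le_normalizer
      (hTC.trans (Cfsg.Agent.Lib.Coprime.le_normalizer_commutator Subgroup.le_normalizer Subgroup.le_normalizer))).trans
        Subgroup.inf_normalizer_le_normalizer_inf)
    rw [← SetLike.mem_coe, Subgroup.coe_mul_of_right_le_normalizer_left _ _ hn] at h2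
    obtain ⟨a, ha, b, hb, e⟩ := Set.mem_mul.1 h2
    exact ⟨a, ha, b, hb, e.symm⟩
  · rintro ⟨a, ha, b, hb, rfl⟩
    exact ⟨mul_mem ha.1 hb.1, mul_mem (Subgroup.commutator_mono le_top le_top ha.2)
      (Subgroup.commutator_mono le_top le_top hb.2)⟩

end Cfsg.Agent.S2773
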