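import Cfsg.Statements.S2780
import Mathlib
import Cfsg.Agent.Lib.NatSL2.Basic

set_option autoImplicit false
open Cfsg

namespace Cfsg.Agent.S2780
open Cfsg.Agent.Lib


/-- Let L act on the elementary abelian p-group V (inside a finite group, faithfully) as SL₂(F) on its natural module, F a field with p^n elements, S a Sylow p-subgroup of L. Then: for every g ∈ L not normalizing S, V is the internal direct product of C_V(S) and C_V(gSg⁻¹); every nonidentity element of L of order prime to p acts on V without nonidentity fixed points; and C_V(S) and V/C_V(S) are irreducible for N_L(S): the only N_L(S)-invariant subgroups of C_V(S) are 1 and C_V(S), and the only N_L(S)-invariant subgroups between C_V(S) and V are those two. -/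
theorem result {G : Type*} [Group G] [Finite G] {p : ℕ} [Fact p.Prime] {F : Type*} [Field F] [Fintype F] (n : ℕ) (hF : Fintype.card F = p ^ n) (V L : Subgroup G) (hnat : Cfsg.IsNaturalSL2Module F V L) (hf : L ⊓ Subgroup.centralizer (V : Set G) = ⊥) (S : Sylow p ↥L) (T : Subgroup G) (hT : T = ((S : Subgroup ↥L).map L.subtype)) : (∀ g ∈ L, g ∉ Subgroup.normalizer (T : Set G) → Cfsg.IsInternalDirectProduct (V ⊓ Subgroup.centralizer ((T : Subgroup G) : Set G)) (V ⊓ Subgroup.centralizer ((T.map (MulAut.conj g).toMonoidHom : Subgroup G) : Set G)) V) ∧ (∀ x ∈ L, x ≠ 1 → (orderOf x).Coprime p → (V ⊓ Subgroup.centralizer ({x} : Set G)) = ⊥) ∧ (∀ U : Subgroup G, U ≤ (V ⊓ Subgroup.centralizer ((T : Subgroup G) : Set G)) → L ⊓ Subgroup.normalizer (T : Set G) ≤ Subgroup.normalizer (U : Set G) → U = ⊥ ∨ U = (V ⊓ Subgroup.centralizer ((T : Subgroup G) : Set G))) ∧ (∀ U : Subgroup G, (V ⊓ Subgroup.centralizer ((T : Subgroup G) : Set G)) ≤ U → U ≤ V → L ⊓ Subgroup.normalizer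 (T : Set G) ≤ Subgroup.normalizer (U : Set G) → U = (V ⊓ Subgroup.centralizer ((T : Subgroup G) : Set G)) ∨ U = V) := by
  subst hT
  haveI := NatSL2.charP_of_card hF
  obtain ⟨f⟩ := NatSL2.exists_frame hnat hf S
  set T := (S : Subgroup ↥L).map L.subtype
  refine ⟨fun g hg hgn => ?_, fun x hx hx1 hxp => ?_, fun U hU hinv => ?_, fun U hKU hUV hinv => ?_⟩
  · have hA : f.ρ ⟨g, hg⟩ 1 0 ≠ 0 := fun h => hgn (f.mem_normalizer_of_10 hg h)
    have hmem : ∀ v, v ∈ V ⊓ Subgroup.centralizer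
        ((T.map (MulAut.conj g).toMonoidHom : Subgroup G) : Set G) ↔
        g⁻¹ * v * g ∈ V ⊓ Subgroup.centralizer (T : Set G) := by
      intro v
      simp only [Subgroup.mem_inf, Subgroup.mem_centralizer_iff, Subgroup.coe_map, Set.forall_mem_image,
        MulEquiv.coe_toMonoidHom, MulAut.conj_apply, SetLike.mem_coe]
      constructor
      · rintro ⟨hv, h⟩
        refine ⟨by simpa using f.conj_mem (inv_mem hg) hv, fun t ht => ?_⟩
        calc t * (g⁻¹ * v * g) = g⁻¹ * (g * t * g⁻¹ * v) * g := by group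
          _ = g⁻¹ * (v * (g * t * g⁻¹)) * g := by rw [h ht]
          _ = g⁻¹ * v * g * t := by group
      · rintro ⟨hv, h⟩
        refine ⟨by simpa [mul_assoc] using f.conj_mem hg hv, fun t ht => ?_⟩
        calc g * t * g⁻¹ * v = g * (t * (g⁻¹ * v * g)) * g⁻¹ := by group
          _ = g * (g⁻¹ * v * g * t) * g⁻¹ := by rw [h t ht]
          _ = v * (g * t * g⁻¹) := by group
    refine ⟨inf_le_left, inf_le_left, fun a ha b hb => ?_, ?_, ?_⟩
    · exact f.c_inj (hv := mul_mem ha.1 hb.1) (hw := mul_mem hb.1 ha.1)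
        (by rw [f.c_mul ha.1 hb.1, f.c_mul hb.1 ha.1, add_comm])
    · rw [Subgroup.eq_bot_iff_forall]
      rintro v ⟨hv1, hv2⟩
      obtain ⟨hv, hy⟩ := f.mem_K.1 hv1
      obtain ⟨hw, hwy⟩ := f.mem_K.1 ((hmem v).1 hv2)
      have h := f.c_conj hg hw
      have e : f.c (g * (g⁻¹ * v * g) * g⁻¹) (f.conj_mem hg hw) = f.c v hv := by congr 1; group
      rw [e] at h
      have h1 := congrFun h 1
      simp [Matrix.mulVec, dotProduct, Fin.sum_univ_two, hy, hwy] at h1
      have hx0 : f.c (g⁻¹ * v * g) hw 0 = 0 := h1.resolve_left hA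
      refine f.c_inj (hv := hv) (hw := one_mem V) ?_
      rw [h, f.c_one]
      ext i
      fin_cases i <;> simp [Matrix.mulVec, dotProduct, Fin.sum_univ_two, hx0, hwy]
    · refine le_antisymm (sup_le inf_le_left inf_le_left) fun v hv => ?_
      obtain ⟨w, hw, hcw⟩ := f.c_surj ![f.c v hv 1 / f.ρ ⟨g, hg⟩ 1 0, 0]
      have hb : g * w * g⁻¹ ∈ V ⊓ Subgroup.centralizer
          ((T.map (MulAut.conj g).toMonoidHom : Subgroup G) : Set G) := by
        rw [hmem, show g⁻¹ * (g * w * g⁻¹) * g = w by group]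
        exact f.mem_K.2 ⟨hw, by rw [hcw]; simp⟩
      have ha : v * (g * w * g⁻¹)⁻¹ ∈ V ⊓ Subgroup.centralizer (T : Set G) := by
        refine f.mem_K.2 ⟨mul_mem hv (inv_mem (f.conj_mem hg hw)), ?_⟩
        rw [f.c_mul hv (inv_mem (f.conj_mem hg hw)), f.c_inv (f.conj_mem hg hw), f.c_conj hg hw, hcw]
        simp [Matrix.mulVec, dotProduct, Fin.sum_univ_two, mul_div_cancel₀ _ hA]
      have := mul_mem (Subgroup.mem_sup_left ha) (Subgroup.mem_sup_right hb)
      simpa [mul_assoc] using this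
  · rw [Subgroup.eq_bot_iff_forall]
    rintro v ⟨hv, hvc⟩
    by_contra hv1
    apply hx1
    have hne : f.c v hv ≠ 0 := fun h0 => hv1 (f.c_inj (hv := hv) (hw := one_mem V) (by rw [h0, f.c_one]))
    have hp := NatSL2.pow_eq_one_of_fixed (p := p) hne
      ((f.commute_iff hx hv).1 (Subgroup.mem_centralizer_iff.1 hvc x rfl))
    have hxp' : x ^ p = 1 := by
      rw [← map_pow] at hp
      simpa using congrArg Subtype.val ((map_eq_one_iff f.ρ f.ρ.injective).1 hp)
    exact orderOf_eq_one_iff.1 (Nat.eq_one_of_dvd_coprimes hxp dvd_rfl (orderOf_dvd_of_pow_eq_one hxp'))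
  · by_cases hb : U = ⊥
    · exact Or.inl hb
    refine Or.inr (le_antisymm hU fun k hk => ?_)
    obtain ⟨u, hu, hu1⟩ := U.bot_or_exists_ne_one.resolve_left hb
    obtain ⟨huV, huy⟩ := f.mem_K.1 (hU hu)
    obtain ⟨hkV, hky⟩ := f.mem_K.1 hk
    have hux : f.c u huV 0 ≠ 0 := fun h0 => hu1 (f.c_inj (hv := huV) (hw := one_mem V) (by
      rw [f.c_one]; ext i; fin_cases i <;> simp [h0, huy]))
    by_cases hkx : f.c k hkV 0 = 0
    · rw [show k = 1 from f.c_inj (hv := hkV) (hw := one_mem V) (by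
        rw [f.c_one]; ext i; fin_cases i <;> simp [hkx, hky])]
      exact one_mem U
    obtain ⟨l, hl, hlN, hρ⟩ := f.exists_torus (Units.mk0 (f.c k hkV 0 / f.c u huV 0) (div_ne_zero hkx hux))
    have hm := (Subgroup.mem_normalizer_iff.1 (hinv ⟨hl, hlN⟩) u).1 hu
    rwa [show l * u * l⁻¹ = k from f.c_inj (hv := f.conj_mem hl huV) (hw := hkV) (by
      rw [f.c_torus hl huV hρ]; ext i; fin_cases i <;> simp [huy, hky, div_mul_cancel₀ _ hux])] at hm
  · by_cases hle : U ≤ V ⊓ Subgroup.centralizer (T : Set G)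
    · exact Or.inl (le_antisymm hle hKU)
    refine Or.inr (le_antisymm hUV fun k hk => ?_)
    obtain ⟨u, hu, huK⟩ := SetLike.not_le_iff_exists.1 hle
    have huV := hUV hu
    have huy : f.c u huV 1 ≠ 0 := fun h0 => huK (f.mem_K.2 ⟨huV, h0⟩)
    by_cases hky : f.c k hk 1 = 0
    · exact hKU (f.mem_K.2 ⟨hk, hky⟩)
    obtain ⟨l, hl, hlN, hρ⟩ := f.exists_torus (Units.mk0 (f.c u huV 1 / f.c k hk 1) (div_ne_zero huy hky))
    have hm := (Subgroup.mem_normalizer_iff.1 (hinv ⟨hl, hlN⟩) u).1 hu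
    have hmV := f.conj_mem hl huV
    have hK : k * (l * u * l⁻¹)⁻¹ ∈ V ⊓ Subgroup.centralizer (T : Set G) := by
      refine f.mem_K.2 ⟨mul_mem hk (inv_mem hmV), ?_⟩
      rw [f.c_mul hk (inv_mem hmV), f.c_inv hmV, f.c_torus hl huV hρ]
      simp [div_mul_cancel₀ _ huy]
    have := mul_mem (hKU hK) hm
    rwa [inv_mul_cancel_right] at this

end Cfsg.Agent.S2780
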