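import Cfsg.Statements.S2781
import Mathlib
import Cfsg.Agent.Lib.Average.Basic
import Cfsg.Agent.Lib.Fusion.SylowIn
import Cfsg.Agent.Lib.PGroup.ElemAbelian
import Cfsg.Agent.Lib.Amalgam.CharP
import Cfsg.Agent.Lib.Transfer.PResidual

set_option autoImplicit false
open Cfsg

namespace Cfsg.Agent.S2781
open Cfsg.Agent.Lib
open Cfsg.Agent.Lib.Fusion (IsSylowIn)
open scoped commutatorElement


/-- Let H act faithfully by conjugation on the elementary abelian p-subgroup V of a finite group, let O^p(H) be the subgroup of H generated by its elements of order prime to p, and T a Sylow p-subgroup of O^p(H). If V is generated by the H-conjugates of C_V(T) (V is the smallest H-invariant subgroup containing C_V(T)), then V = [V, O^p(H)]·C_V(O^p(H)). -/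
theorem result {G : Type*} [Group G] [Finite G] {p : ℕ} [Fact p.Prime] (V H : Subgroup G) (hV : Cfsg.IsElementaryAbelian p V) (hHV : H ≤ Subgroup.normalizer (V : Set G)) (hf : H ⊓ Subgroup.centralizer (V : Set G) = ⊥) (R : Subgroup G) (hR : R = (Cfsg.pResidual p ↥H).map H.subtype) (S : Sylow p ↥R) (T : Subgroup G) (hT : T = ((S : Subgroup ↥R).map R.subtype)) (hgen : ∀ W : Subgroup G, H ≤ Subgroup.normalizer (W : Set G) → (V ⊓ Subgroup.centralizer ((T : Subgroup G) : Set G)) ≤ W → V ≤ W) : ⁅V, R⁆ ⊔ (V ⊓ Subgroup.centralizer ((R : Subgroup G) : Set G)) = V := by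
  have : IsMulCommutative ↥V := hV.1
  haveI hfin : Finite ↥R := inferInstance
  subst hT
  set T := (S : Subgroup ↥R).map R.subtype with hTdef
  have hRH : R ≤ H := hR ▸ Subgroup.map_subtype_le _
  have hTR : T ≤ R := Subgroup.map_subtype_le _
  have hRV : R ≤ Subgroup.normalizer (V : Set G) := hRH.trans hHV
  have hRn : H ≤ Subgroup.normalizer (R : Set G) := by
    rw [hR]
    exact le_trans (by
      rw [Subgroup.normalizer_eq_top, ← MonoidHom.range_eq_map, Subgroup.range_subtype])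
      (Subgroup.le_normalizer_map H.subtype)
  set W := ⁅V, R⁆ with hW
  have hWV : W ≤ V := Coprime.commutator_le_of_le_normalizer hRV
  set C0 := V ⊓ Subgroup.centralizer (T : Set G) with hC0
  have hWn : H ≤ Subgroup.normalizer (W : Set G) := Coprime.le_normalizer_commutator hHV hRn
  have hinv : ∀ h ∈ H, ∀ c ∈ C0, h * c * h⁻¹ ∈ W ⊔ C0 := by
    intro h hh c hc
    have hS' : IsSylowIn p T R := Fusion.isSylowIn_of_sylow hTR S
      (Subgroup.comap_map_eq_self_of_injective R.subtype_injective _).symm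
    have hR' : R.map (MulAut.conj h⁻¹).toMonoidHom = R := by
      apply Cfsg.Agent.Lib.Amalgam.map_conj_eq_of_mem_normalizer
      exact hRn (inv_mem hh)
    have h2 : T.map (MulAut.conj h⁻¹).toMonoidHom ≤ R := hR' ▸ Subgroup.map_mono hTR
    obtain ⟨r, hr, hrT⟩ := hS'.exists_conj_le (hS'.2.1.map _) h2
    have hmem : ∀ t ∈ T, r * (h⁻¹ * t * h) * r⁻¹ ∈ T := fun t ht =>
      hrT ⟨_, ⟨t, ht, rfl⟩, by simp⟩
    set d := h * (r⁻¹ * c * r) * h⁻¹ with hd
    have hcd : d ∈ C0 := by
      refine ⟨Coprime.conj_mem_of_le_normalizer hHV hh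
        (Coprime.conj_mem_of_le_normalizer' hRV hr hc.1), ?_⟩
      intro t ht
      calc t * d = h * r⁻¹ * ((r * (h⁻¹ * t * h) * r⁻¹) * c) * r * h⁻¹ := by rw [hd]; group
        _ = h * r⁻¹ * (c * (r * (h⁻¹ * t * h) * r⁻¹)) * r * h⁻¹ := by rw [hc.2 _ (hmem t ht)]
        _ = d * t := by rw [hd]; group
    have hw : (c * r⁻¹ * c⁻¹ * r) ∈ W := by
      have := Subgroup.commutator_mem_commutator hc.1 (inv_mem hr)
      simpa [commutatorElement_def, hW] using this
    have e : h * c * h⁻¹ = (h * (c * r⁻¹ * c⁻¹ * r) * h⁻¹) * d := by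
      have hcc : (r⁻¹ * c * r) * c = c * (r⁻¹ * c * r) :=
        ElemAbelian.comm hV (Coprime.conj_mem_of_le_normalizer' hRV hr hc.1) hc.1
      calc h * c * h⁻¹ = h * (c * (r⁻¹ * c⁻¹ * r) * (r⁻¹ * c * r)) * h⁻¹ := by group
        _ = _ := by rw [hd]; group
    rw [e]
    exact Subgroup.mul_mem_sup (Coprime.conj_mem_of_le_normalizer hWn hh hw) hcd
  have hVle : V ≤ W ⊔ C0 := by
    refine hgen _ (fun h hh => ?_) le_sup_right
    have hone : ∀ h ∈ H, ∀ x ∈ W ⊔ C0, h * x * h⁻¹ ∈ W ⊔ C0 := by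
      intro h hh x hx
      refine (sup_le (c := (W ⊔ C0).comap (MulAut.conj h).toMonoidHom) ?_ ?_) hx
      · exact fun w hw => Subgroup.mem_sup_left (Coprime.conj_mem_of_le_normalizer hWn hh hw)
      · exact fun c hc => hinv h hh c hc
    rw [Subgroup.mem_normalizer_iff]
    exact fun x => ⟨hone h hh x, fun hx => by simpa [mul_assoc] using hone h⁻¹ (inv_mem hh) _ hx⟩
  refine le_antisymm (sup_le hWV inf_le_left) (hVle.trans (sup_le le_sup_left ?_))
  intro v hv
  let v' : ↥V := ⟨v, hv.1⟩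
  have h1 := Average.avg_mem_centralizer (S := T) hRV (v := v') hv.2
  have h2 := Average.avg_congr_pow hRV T v'
  set u := Average.avg hRV T v' with hu
  set n := T.relIndex R with hn
  have hvn : v ^ n ∈ W ⊔ (V ⊓ Subgroup.centralizer (R : Set G)) := by
    have e : v ^ n = ((u * (v' ^ n)⁻¹ : ↥V) : G)⁻¹ * (u : G) := by
      simp [v']
    rw [e]
    exact Subgroup.mul_mem_sup (inv_mem h2) ⟨u.2, h1⟩
  have hnp : n.Coprime (orderOf v) := by
    have hpn : ¬ p ∣ n := by
      rw [hn, hTdef, Subgroup.relIndex, Subgroup.subgroupOf,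
        Subgroup.comap_map_eq_self_of_injective R.subtype_injective]
      exact S.not_dvd_index
    exact (((Nat.Prime.coprime_iff_not_dvd Fact.out).2 hpn).symm).coprime_dvd_right
      (orderOf_dvd_of_pow_eq_one (hV.2 v hv.1))
  obtain ⟨m, hm⟩ := exists_pow_eq_self_of_coprime hnp
  rw [← hm]
  exact pow_mem hvn m

end Cfsg.Agent.S2781
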