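import Cfsg.Statements.S2794
import Cfsg.Agent.Lib.Qd.ZJFunctor
import Cfsg.Agent.Lib.Qd.NoControl
import Cfsg.Agent.S2795

set_option autoImplicit false
open Cfsg

namespace Cfsg.Agent.S2794

/-- For an odd prime p and a finite group G, the group Qd(p) is not involved in G if and only if in every section K/R of G, for every Sylow p-subgroup S* of K/R, the centre of J(S*) (J generated by the abelian subgroups of largest order) controls strong fusion in K/R. -/
theorem result {G : Type*} [Group G] [Finite G] {p : ℕ} [Fact p.Prime] (hp : p ≠ 2) : ¬ Cfsg.Involves ↥(Cfsg.qd p) G ↔ ∀ (K R : Subgroup G) [hR : (R.subgroupOf K).Normal], ∀ T : Sylow p (K ⧸ R.subgroupOf K), Cfsg.ControlsStrongFusion p (Cfsg.centerThompsonAOf (T : Subgroup (K ⧸ R.subgroupOf K))) := by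
  refine ⟨fun hfree K R hR T => ?_, fun h hinv => ?_⟩
  · have hfree' : ¬ Cfsg.Involves ↥(Cfsg.qd p) (↥K ⧸ R.subgroupOf K) := fun hh =>
      hfree (Lib.Qd.involves_trans' hh (Lib.Functor.involves_mk K R))
    exact Lib.Qd.controlsStrongFusion_centerThompson hp ((Cfsg.Agent.S2795.result hp).1 hfree') T
  · obtain ⟨K, R, hR, ⟨e⟩⟩ := hinv
    obtain ⟨T⟩ : Nonempty (Sylow p (↥K ⧸ R.subgroupOf K)) := inferInstance
    have hc := h K R T
    rw [← Lib.Qd.inducedFunctor_zjFun] at hc
    refine Lib.Qd.not_controlsStrongFusion_of_mulEquiv p e T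
      (Lib.Qd.zjFun ↥(T : Subgroup (↥K ⧸ R.subgroupOf K))) ?_ ?_ hc
    · refine (Lib.Qd.zjFun_isCharPFunctor p).1 _ T.2 ?_
      exact Lib.Qd.sylow_nontrivial p e T
    · exact Lib.Functor.functor_characteristic (Lib.Qd.zjFun_isCharPFunctor p) T.2

end Cfsg.Agent.S2794
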