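import Cfsg.Statements.S2803
import Mathlib
import Cfsg.Agent.Lib.PReduced.Basic
import Cfsg.Agent.Lib.PGroup.Omega
import Cfsg.Agent.Lib.Fusion.SylowIn
import Cfsg.Agent.Lib.PReduced.SylowInf

set_option autoImplicit false
open Cfsg

namespace Cfsg.Agent.S2803
open Cfsg.Agent.Lib
open Cfsg.Agent.Lib.Fusion (IsSylowIn)


/-- Let L be a finite group and p a prime with C_L(O_p(L)) ≤ O_p(L), T a Sylow p-subgroup, and Y the largest p-reduced normal subgroup of L. Put T_L = C_T(Y) and L_T = N_L(T_L). Then L = L_T · C_L(Y) (elementwise), T_L = O_p(L_T), and Y = Ω₁(Z(T_L)). -/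
theorem result {L : Type*} [Group L] [Finite L] {p : ℕ} [Fact p.Prime] (hchar : Subgroup.centralizer (Cfsg.pCore p L : Set L) ≤ Cfsg.pCore p L) (T : Sylow p L) (Y : Subgroup L) (hY : (Cfsg.IsPReducedNormal p Y ∧ ∀ V : Subgroup L, Cfsg.IsPReducedNormal p V → V ≤ Y)) (TL : Subgroup L) (hTL : TL = (T : Subgroup L) ⊓ Subgroup.centralizer (Y : Set L)) : (∀ g : L, ∃ a ∈ Subgroup.normalizer (TL : Set L), ∃ c ∈ Subgroup.centralizer (Y : Set L), g = a * c) ∧ (Cfsg.pCore p ↥(Subgroup.normalizer (TL : Set L))).map (Subgroup.normalizer (TL : Set L)).subtype = TL ∧ Y = Cfsg.omegaOne p (TL ⊓ Subgroup.centralizer (TL : Set L)) := by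
  haveI : Y.Normal := hY.1.1
  set C := Subgroup.centralizer (Y : Set L) with hC
  have hTLC : TL ≤ C := hTL ▸ inf_le_right
  have hTLT : TL ≤ (T : Subgroup L) := hTL ▸ inf_le_left
  have hsyl : IsSylowIn p TL C := hTL ▸ PReduced.isSylowIn_inf_normal T C
  set N := Subgroup.normalizer (TL : Set L) with hN
  have hTN : (T : Subgroup L) ≤ N := by
    rw [hN, hTL]
    intro t ht
    rw [Subgroup.mem_normalizer_iff]
    intro x
    simp only [Subgroup.mem_inf]
    refine and_congr ?_ ?_
    · exact (Subgroup.mem_normalizer_iff.1 (Subgroup.le_normalizer ht) x)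
    · exact (Subgroup.mem_normalizer_iff.1
        ((Subgroup.normalizer_eq_top (H := C)).symm ▸ Subgroup.mem_top t) x)
  have hTLn : TL ≤ N := hTLT.trans hTN
  have hfr : N ⊔ C = ⊤ := by
    have h := Sylow.normalizer_sup_eq_top hsyl.toSylow
    rw [hsyl.coe_toSylow, Subgroup.subgroupOf_map_subtype, inf_of_le_left hTLC] at h
    exact h
  have key : ∀ g : L, ∃ a ∈ N, ∃ c ∈ C, g = a * c := by
    intro g
    obtain ⟨a, ha, c, hc, e⟩ := Subgroup.mem_sup_of_normal_right.1
      (hfr ▸ Subgroup.mem_top g : g ∈ N ⊔ C)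
    exact ⟨a, ha, c, hc, e.symm⟩
  -- a subgroup normal in `N` which is a p-group modulo `C` lies in `C`
  have hNC : ∀ M : Subgroup ↥N, M.Normal → PReduced.PMod p (M.map N.subtype) C →
      M.map N.subtype ≤ C := by
    intro M hM hm
    have hnorm : ((M.map N.subtype) ⊔ C).Normal := by
      rw [← Subgroup.normalizer_eq_top_iff, eq_top_iff, ← hfr]
      refine sup_le (fun n hn => ?_) (le_sup_right.trans Subgroup.le_normalizer)
      rw [Subgroup.mem_normalizer_iff]
      intro x
      have hconj : ∀ n ∈ N, ∀ x ∈ (M.map N.subtype) ⊔ C, n * x * n⁻¹ ∈ (M.map N.subtype) ⊔ C := by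
        intro n hn x hx
        obtain ⟨_, ⟨a, ha, rfl⟩, c, hc, rfl⟩ := Subgroup.mem_sup_of_normal_right.1 hx
        have e : n * (N.subtype a * c) * n⁻¹ = N.subtype (⟨n, hn⟩ * a * (⟨n, hn⟩ : ↥N)⁻¹) * (n * c * n⁻¹) := by
          simp [mul_assoc]
        rw [e]
        exact Subgroup.mul_mem_sup ⟨_, hM.conj_mem a ha _, rfl⟩
          (Subgroup.Normal.conj_mem inferInstance c hc n)
      refine ⟨hconj n hn x, fun hx => ?_⟩
      simpa [mul_assoc] using hconj n⁻¹ (inv_mem hn) _ hx
    refine le_sup_left.trans ((PReduced.isPReducedNormal_iff.1 hY.1).2.2 _ hnorm ?_)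
    rw [PReduced.pMod_iff_map, Subgroup.map_sup, QuotientGroup.map_mk'_self, sup_bot_eq]
    exact PReduced.pMod_iff_map.1 hm
  refine ⟨key, le_antisymm ?_ ?_, le_antisymm ?_ ?_⟩
  · have h1 : (Cfsg.pCore p ↥N).map N.subtype ≤ C :=
      hNC _ inferInstance (.of_isPGroup (PSolvable.pCore_isPGroup.map _) _)
    have h2 : TL ≤ (Cfsg.pCore p ↥N).map N.subtype := by
      intro x hx
      refine ⟨⟨x, hTLn hx⟩, PSolvable.le_pCore (N := TL.subgroupOf N)
        (hN := Subgroup.normal_in_normalizer) ((T.2.to_le hTLT).comap_subtype) hx, rfl⟩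
    exact (hsyl.eq_of_le (PSolvable.pCore_isPGroup.map _) h1 h2).ge
  · intro x hx
    refine ⟨⟨x, hTLn hx⟩, PSolvable.le_pCore (N := TL.subgroupOf N)
      (hN := Subgroup.normal_in_normalizer) ((T.2.to_le hTLT).comap_subtype) hx, rfl⟩
  · have hYT : Y ≤ TL := by
      rw [hTL]
      exact le_inf ((PReduced.le_pCore hY.1).trans (PSolvable.pCore_le_sylow T))
        (ElemAbelian.le_centralizer hY.1.2.1)
    exact Omega.elemAbelian_le hY.1.2.1
      (le_inf hYT (Subgroup.le_centralizer_iff.1 hTLC))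
  · set W := Cfsg.omegaOne p (TL ⊓ Subgroup.centralizer (TL : Set L)) with hW
    have hWN : W ≤ N := (Omega.le_self p _).trans (inf_le_left.trans hTLn)
    have hWn : N ≤ Subgroup.normalizer (W : Set L) :=
      le_trans (Coprime.le_normalizer_inf_centralizer (K := TL) (A := TL) le_rfl le_rfl)
        (Omega.normalizer_le p _)
    have hYW : Y ≤ W := by
      refine Omega.elemAbelian_le hY.1.2.1 (le_inf ?_ (Subgroup.le_centralizer_iff.1 hTLC))
      rw [hTL]
      exact le_inf ((PReduced.le_pCore hY.1).trans (PSolvable.pCore_le_sylow T))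
        (ElemAbelian.le_centralizer hY.1.2.1)
    have hred : Cfsg.IsPReducedNormal p (W.subgroupOf N) := by
      refine PReduced.isPReducedNormal_iff.2 ⟨Subgroup.normal_subgroupOf_of_le_normalizer hWn,
        ElemAbelian.subgroupOf (Omega.inter_centralizer_isElementaryAbelian TL) N, fun M hM hm => ?_⟩
      have hmW : PReduced.PMod p (M.map N.subtype) (Subgroup.centralizer (W : Set L)) := by
        rintro _ ⟨m, hm', rfl⟩
        obtain ⟨k, hk⟩ := hm m hm'
        exact ⟨k, fun w hw => congrArg Subtype.val (hk ⟨w, hWN hw⟩ hw)⟩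
      have hMC := hNC M hM (hmW.mono le_rfl (Subgroup.centralizer_le hYW))
      intro m hm'
      suffices h : (m : L) ∈ Subgroup.centralizer (W : Set L) from
        fun w hw => Subtype.ext (h (w : L) hw)
      obtain ⟨k, hk⟩ := hmW _ ⟨m, hm', rfl⟩
      obtain ⟨a, r, hr, hmo⟩ := Nat.exists_eq_pow_mul_and_not_dvd
        (orderOf_pos (m : L)).ne' p (Fact.out : p.Prime).ne_one
      -- the p-part of `m` lies in `TL`
      have hpel : (m : L) ^ r ∈ Subgroup.centralizer (W : Set L) := by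
        have hmr : IsPGroup p ↥(Subgroup.zpowers ((m : L) ^ r)) := by
          have : ((m : L) ^ r) ^ p ^ a = 1 := by
            rw [← pow_mul, mul_comm, ← hmo, pow_orderOf_eq_one]
          obtain ⟨b, -, hb⟩ :=
            (Nat.dvd_prime_pow (Fact.out : p.Prime)).1 (orderOf_dvd_of_pow_eq_one this)
          exact IsPGroup.of_card ((Nat.card_zpowers _).trans hb)
        have hn : Subgroup.zpowers ((m : L) ^ r) ≤ Subgroup.normalizer (TL : Set L) :=
          Subgroup.zpowers_le.2 (pow_mem m.2 r)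
        have hle : TL ⊔ Subgroup.zpowers ((m : L) ^ r) ≤ C :=
          sup_le hTLC (Subgroup.zpowers_le.2 (pow_mem (hMC ⟨m, hm', rfl⟩) r))
        have he := hsyl.eq_of_le ((T.2.to_le hTLT).to_sup_of_normal_left' hmr hn) hle le_sup_left
        have hmem : (m : L) ^ r ∈ TL :=
          he ▸ (le_sup_right : Subgroup.zpowers ((m : L) ^ r) ≤ TL ⊔ Subgroup.zpowers ((m : L) ^ r))
            (Subgroup.mem_zpowers _)
        exact fun w hw => ((((Omega.le_self p _) hw).2) _ hmem).symm
      have hcop : Nat.Coprime r (p ^ k) :=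
        ((Nat.Prime.coprime_iff_not_dvd Fact.out).2 hr).symm.pow_right k
      have hz : (m : L) ∈ Subgroup.zpowers ((m : L) ^ r) ⊔ Subgroup.zpowers ((m : L) ^ p ^ k) := by
        have e : (m : L) = ((m : L) ^ r) ^ (Nat.gcdA r (p ^ k)) *
            ((m : L) ^ p ^ k) ^ (Nat.gcdB r (p ^ k)) := by
          rw [← zpow_natCast, ← zpow_natCast, ← zpow_mul, ← zpow_mul, ← zpow_add]
          conv_lhs => rw [← zpow_one (m : L)]
          congr 1
          rw [← Nat.gcd_eq_gcd_ab, hcop, Nat.cast_one]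
        exact (congrArg (· ∈ Subgroup.zpowers ((m : L) ^ r) ⊔ Subgroup.zpowers ((m : L) ^ p ^ k)) e).mpr
          (Subgroup.mul_mem_sup (Subgroup.zpow_mem_zpowers _ _) (Subgroup.zpow_mem_zpowers _ _))
      exact (sup_le (Subgroup.zpowers_le.2 hpel) (Subgroup.zpowers_le.2 hk)) hz
    have h := PReduced.isPReducedNormal_normalClosure hchar T N hTN _ hred
    rw [Subgroup.subgroupOf_map_subtype, inf_of_le_left hWN] at h
    exact Subgroup.subset_normalClosure.trans (hY.2 _ h)

end Cfsg.Agent.S2803
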