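import Cfsg.Statements.S3028
import Mathlib
import Cfsg.Agent.Lib.Transfer.PResidual
import Cfsg.Agent.Lib.Coprime.Quotient
import Cfsg.Agent.Lib.CD.Basic
import Cfsg.Agent.Lib.Gaschutz
import Cfsg.Agent.Lib.CharP.SubnormalSylow
import Cfsg.Agent.Lib.CharTwo.Basic
import Cfsg.Agent.Lib.Components.Subnormal
import Cfsg.Agent.Lib.Supersolvable.Basic

set_option autoImplicit false
open Cfsg

namespace Cfsg.Agent.S3028

open scoped commutatorElement Pointwise
open Subgroup

/-- `O^p(A)` inside the ambient group. -/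
def res {G : Type*} [Group G] (p : ℕ) (A : Subgroup G) : Subgroup G :=
  (Cfsg.pResidual p A).map A.subtype

section Basics

variable {G : Type*} [Group G] {p : ℕ}

theorem res_le (A : Subgroup G) : res p A ≤ A := map_subtype_le _

theorem mem_res {A : Subgroup G} {g : G} (hg : g ∈ A) (h : (orderOf g).Coprime p) : g ∈ res p A :=
  Lib.Transfer.mem_map_pResidual_of_coprime hg h

theorem res_le_iff {A B : Subgroup G} :
    res p A ≤ B ↔ ∀ g ∈ A, (orderOf g).Coprime p → g ∈ B := by
  refine ⟨fun h g hg hc => h (mem_res hg hc), fun h => map_le_iff_le_comap.mpr ?_⟩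
  exact Lib.Transfer.pResidual_le_iff.mpr fun g hg => h g g.2 (by rwa [Subgroup.orderOf_coe])

theorem normalizer_le_normalizer_res [Finite G] (A : Subgroup G) :
    normalizer (A : Set G) ≤ normalizer (res p A : Set G) := by
  haveI := Lib.Transfer.pResidual_characteristic (G := A) (p := p)
  exact Lib.Coprime.normalizer_le_normalizer_map_of_characteristic _

theorem res_isSubnormal [Finite G] {A : Subgroup G} (hA : A.IsSubnormal) :
    (res p A).IsSubnormal := by
  refine IsSubnormal.trans (res_le A) (Normal.isSubnormal ?_) hA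
  exact (normal_subgroupOf_iff_le_normalizer (res_le A)).mpr
    (le_normalizer.trans (normalizer_le_normalizer_res A))

theorem exists_pow_mem_res [Finite G] [Fact p.Prime] {A : Subgroup G} {a : G} (ha : a ∈ A) :
    ∃ k : ℕ, a ^ p ^ k ∈ res p A := by
  obtain ⟨k, hk⟩ := Lib.Transfer.exists_pow_coprime (p := p) a
  exact ⟨k, mem_res (pow_mem ha _) hk⟩

theorem map_res [Finite G] [hp : Fact p.Prime] {H : Type*} [Group H] (f : G →* H)
    (A : Subgroup G) : (res p A).map f = res p (A.map f) := by
  refine le_antisymm ?_ (res_le_iff.mpr ?_)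
  · rw [map_le_iff_le_comap, res_le_iff]
    exact fun g hg hc => mem_res (mem_map_of_mem f hg) (hc.coprime_dvd_left (orderOf_map_dvd f g))
  · rintro _ ⟨a, ha, rfl⟩ hc
    obtain ⟨k, hk⟩ := exists_pow_mem_res (p := p) ha
    obtain ⟨m, hm⟩ := exists_pow_eq_self_of_coprime (n := p ^ k) (hc.pow_right k).symm
    rw [← hm, ← map_pow]
    exact pow_mem (mem_map_of_mem f hk) m

/-- Product of two subgroups with Sylow intersections with `S`. -/
theorem inf_sup_le_of_normalizes [Finite G] [hp : Fact p.Prime] (S : Sylow p G) {H K : Subgroup G}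
    (hHK : H ≤ normalizer (K : Set G))
    (hH : ¬ p ∣ (S : Subgroup G).relIndex H) (hK : ¬ p ∣ (S : Subgroup G).relIndex K) :
    (H ⊔ K) ⊓ (S : Subgroup G) ≤ (H ⊓ (S : Subgroup G)) ⊔ (K ⊓ (S : Subgroup G)) := by
  set V := (H ⊓ (S : Subgroup G)) ⊔ (K ⊓ (S : Subgroup G)) with hV
  have hVle : V ≤ (H ⊔ K) ⊓ (S : Subgroup G) :=
    sup_le (inf_le_inf_right _ le_sup_left) (inf_le_inf_right _ le_sup_right)
  have hsyl : ∀ L : Subgroup G, ¬ p ∣ (S : Subgroup G).relIndex L →
      Nat.card ↥(L ⊓ (S : Subgroup G)) = p ^ (Nat.card L).factorization p := by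
    intro L hL
    have hp' : IsPGroup p ((S : Subgroup G).subgroupOf L) :=
      S.2.comap_of_injective _ L.subtype_injective
    have hc : Nat.card ↥(L ⊓ (S : Subgroup G)) = Nat.card ((S : Subgroup G).subgroupOf L) := by
      rw [← card_map_of_injective L.subtype_injective (K := (S : Subgroup G).subgroupOf L),
        subgroupOf_map_subtype, inf_comm]
    rw [hc]
    exact (hp'.toSylow hL).card_eq_multiplicity
  have hprod : Nat.card ↥(H ⊔ K) * Nat.card ↥(H ⊓ K) = Nat.card H * Nat.card K := by
    rw [← Lib.CD.card_setMul_mul_card_inf H K]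
    congr 1
    exact congrArg (fun s : Set G => Nat.card s) (coe_mul_of_left_le_normalizer_right H K hHK)
  have hf : (Nat.card ↥(H ⊔ K)).factorization p + (Nat.card ↥(H ⊓ K)).factorization p =
      (Nat.card H).factorization p + (Nat.card K).factorization p := by
    have := congrArg (fun n => n.factorization p) hprod
    rw [Nat.factorization_mul Nat.card_pos.ne' Nat.card_pos.ne',
      Nat.factorization_mul Nat.card_pos.ne' Nat.card_pos.ne'] at this
    simpa only [Finsupp.add_apply] using this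
  have hpow : ∀ L : Subgroup G,
      Nat.card ↥(L ⊓ (S : Subgroup G)) ≤ p ^ (Nat.card L).factorization p := by
    intro L
    obtain ⟨e, he⟩ := (S.2.to_le (inf_le_right : L ⊓ (S : Subgroup G) ≤ S)).exists_card_eq
    rw [he]
    refine Nat.pow_le_pow_right hp.out.pos ?_
    refine (hp.out.pow_dvd_iff_le_factorization Nat.card_pos.ne').mp ?_
    rw [← he]
    exact card_dvd_of_le inf_le_left
  have h1 : Nat.card ↥(H ⊓ (S : Subgroup G)) * Nat.card ↥(K ⊓ (S : Subgroup G)) ≤
      Nat.card V * Nat.card ↥((H ⊓ K) ⊓ (S : Subgroup G)) := by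
    rw [← Lib.CD.card_setMul_mul_card_inf, ← inf_inf_distrib_right]
    exact Nat.mul_le_mul_right _ (Lib.CD.card_setMul_le_sup _ _)
  rw [hsyl H hH, hsyl K hK, ← pow_add, ← hf, pow_add] at h1
  have h2 : p ^ (Nat.card ↥(H ⊔ K)).factorization p ≤ Nat.card V :=
    Nat.le_of_mul_le_mul_right (h1.trans (Nat.mul_le_mul_left _ (hpow _))) (pow_pos hp.out.pos _)
  exact (eq_of_le_of_card_ge hVle ((hpow _).trans h2)).ge

theorem not_dvd_relIndex [Finite G] [hp : Fact p.Prime] (S : Sylow p G) {A : Subgroup G}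
    (hA : A.IsSubnormal) : ¬ p ∣ (S : Subgroup G).relIndex A := fun h =>
  S.not_dvd_index (h.trans (Lib.CharP.relIndex_dvd_index_of_isSubnormal _ hA))

end Basics

section Minimal

variable {G : Type*} [Group G] [Finite G]

/-- The intersections of a minimal normal subgroup with generating subnormal subgroups generate it,
or it is central of prime order. -/
theorem dichotomy {A₁ A₂ N : Subgroup G} (hN : N.Normal) (hne : N ≠ ⊥)
    (hmin : ∀ K : Subgroup G, K.Normal → K ≤ N → K = ⊥ ∨ K = N)
    (h₁ : A₁.IsSubnormal) (h₂ : A₂.IsSubnormal) (hgen : A₁ ⊔ A₂ = ⊤) :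
    (N ⊓ A₁) ⊔ (N ⊓ A₂) = N ∨
      (N ≤ center G ∧ N ⊓ A₁ = ⊥ ∧ N ⊓ A₂ = ⊥ ∧ (Nat.card N).Prime) := by
  haveI := hN
  set D := (N ⊓ A₁) ⊔ (N ⊓ A₂) with hD
  have hcomm : ∀ A : Subgroup G, A.IsSubnormal → ∀ n ∈ N, ∀ a ∈ A, a * n * a⁻¹ * n⁻¹ ∈ N ⊓ A := by
    intro A hA n hn a ha
    refine mem_inf.mpr ⟨mul_mem (hN.conj_mem n hn a) (inv_mem hn), ?_⟩
    have h1 := (mem_normalizer_iff.mp
      (Lib.Components.minimal_normal_le_normalizer hN hmin hA hn) a⁻¹).mp (inv_mem ha)
    simpa [mul_assoc] using mul_mem ha h1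
  have hDn : D.Normal := by
    rw [← normalizer_eq_top_iff, eq_top_iff, ← hgen, hD]
    refine sup_le ?_ ?_
    all_goals
      intro a ha
      rw [mem_normalizer_iff]
    · have key : ∀ b ∈ A₁, ∀ d ∈ D, b * d * b⁻¹ ∈ D := by
        intro b hb d hd
        have h1 : D ≤ N := sup_le inf_le_left inf_le_left
        have h2 : b * d * b⁻¹ * d⁻¹ ∈ D := mem_sup_left (hcomm A₁ h₁ d (h1 hd) b hb)
        simpa using mul_mem h2 hd
      exact fun d => ⟨key a ha d, fun hd => by simpa [mul_assoc] using key _ (inv_mem ha) _ hd⟩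
    · have key : ∀ b ∈ A₂, ∀ d ∈ D, b * d * b⁻¹ ∈ D := by
        intro b hb d hd
        have h1 : D ≤ N := sup_le inf_le_left inf_le_left
        have h2 : b * d * b⁻¹ * d⁻¹ ∈ D := mem_sup_right (hcomm A₂ h₂ d (h1 hd) b hb)
        simpa using mul_mem h2 hd
      exact fun d => ⟨key a ha d, fun hd => by simpa [mul_assoc] using key _ (inv_mem ha) _ hd⟩
  rcases hmin D hDn (sup_le inf_le_left inf_le_left) with h | h
  · right
    rw [hD, sup_eq_bot_iff] at h
    have hc : ∀ A : Subgroup G, A.IsSubnormal → N ⊓ A = ⊥ → A ≤ centralizer (N : Set G) := by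
      intro A hA hb a ha
      refine mem_centralizer_iff.mpr fun n hn => ?_
      have h1 := hcomm A hA n hn a ha
      rw [hb, mem_bot, mul_inv_eq_one, mul_inv_eq_iff_eq_mul] at h1
      exact h1.symm
    have hcen : N ≤ center G := by
      intro n hn
      refine mem_center_iff.mpr fun g => ?_
      have hg : g ∈ centralizer (N : Set G) :=
        (hgen.ge.trans (sup_le (hc A₁ h₁ h.1) (hc A₂ h₂ h.2))) (mem_top g)
      exact (mem_centralizer_iff.mp hg n hn).symm
    refine ⟨hcen, h.1, h.2, ?_⟩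
    obtain ⟨q, hq, hqd⟩ := Nat.exists_prime_and_dvd
      (fun hc : Nat.card N = 1 => hne (card_eq_one.mp hc))
    haveI : Fact q.Prime := ⟨hq⟩
    obtain ⟨x, hx⟩ := exists_prime_orderOf_dvd_card' q hqd
    have hZn : (zpowers (x : G)).Normal := by
      refine ⟨fun y hy g => ?_⟩
      have : y ∈ center G := hcen ((zpowers_le.mpr x.2) hy)
      rwa [mem_center_iff.mp this g, mul_inv_cancel_right]
    rcases hmin _ hZn (zpowers_le.mpr x.2) with h' | h'
    · rw [zpowers_eq_bot] at h'
      rw [← Subgroup.orderOf_coe, h', orderOf_one] at hx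
      exact absurd hx.symm hq.ne_one
    · rw [← h', Nat.card_zpowers, Subgroup.orderOf_coe, hx]
      exact hq
  · exact Or.inl h

end Minimal

/-- If the iterated differences of a homomorphism along a map of `p`-power order vanish, the first
difference vanishes, the target having prime exponent different from `p`. -/
theorem diff_eq_one {K Q : Type*} [Group K] [CommGroup Q] {p q : ℕ} (hp : p.Prime) (hq : q.Prime)
    (hqp : q ≠ p) (hQ : ∀ z : Q, z ^ q = 1) (σ : K →* K) {k : ℕ} (hσ : ∀ b, σ^[p ^ k] b = b) :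
    ∀ (m : ℕ) (f : K →* Q), (∀ b, f ((fun y => σ y * y⁻¹)^[m + 1] b) = 1) →
      ∀ b, f (σ b * b⁻¹) = 1 := by
  intro m
  induction m with
  | zero => intro f hf b; simpa using hf b
  | succ m ih =>
    intro f hf
    let d : K →* Q :=
      { toFun := fun b => f (σ b) * (f b)⁻¹
        map_one' := by simp
        map_mul' := fun a b => by
          simp only [map_mul, mul_inv]
          exact mul_mul_mul_comm _ _ _ _ }
    have hdd : ∀ b, d b = f (σ b * b⁻¹) := fun b => by simp [d]
    have hd : ∀ b, d (σ b * b⁻¹) = 1 := by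
      refine ih d fun b => ?_
      rw [hdd]
      have := hf b
      rwa [Function.iterate_succ_apply'] at this
    intro b
    have hfix : ∀ j b, d (σ^[j] b) = d b := by
      intro j
      induction j with
      | zero => intro b; rfl
      | succ j ihj =>
        intro b
        rw [Function.iterate_succ_apply, ihj]
        have := hd b
        rwa [map_mul, map_inv, mul_inv_eq_one] at this
    have hlin : ∀ j, f (σ^[j] b) = f b * d b ^ j := by
      intro j
      induction j with
      | zero => simp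
      | succ j ihj =>
        have h1 : d (σ^[j] b) = f (σ (σ^[j] b)) * (f (σ^[j] b))⁻¹ := rfl
        rw [hfix j b] at h1
        rw [Function.iterate_succ_apply', pow_succ, ← mul_assoc, ← ihj, h1]
        rw [mul_comm (f (σ (σ^[j] b))), mul_inv_cancel_left]
    have h1 := hlin (p ^ k)
    rw [hσ, left_eq_mul] at h1
    have h2 := pow_gcd_eq_one.mpr ⟨hQ (d b), h1⟩
    rw [(Nat.Coprime.pow_right k ((Nat.coprime_primes hq hp).mpr hqp)).gcd_eq_one, pow_one] at h2
    rw [← hdd]
    exact h2

/-- Repeated commutators with an element of a subnormal subgroup end in that subgroup. -/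
theorem exists_iterate_mem {G : Type*} [Group G] {A : Subgroup G} (hA : A.IsSubnormal) {x : G}
    (hx : x ∈ A) : ∃ n : ℕ, ∀ b : G, (fun y => x * y * x⁻¹ * y⁻¹)^[n] b ∈ A := by
  induction hA with
  | top => exact ⟨0, fun b => mem_top _⟩
  | step H K hle _ hn ih =>
    obtain ⟨n, hn'⟩ := ih (hle hx)
    refine ⟨n + 1, fun b => ?_⟩
    rw [Function.iterate_succ_apply']
    have h1 := (normal_subgroupOf_iff_le_normalizer hle).mp hn (hn' b)
    have h2 := (mem_normalizer_iff.mp h1 x⁻¹).mp (inv_mem hx)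
    simpa [mul_assoc] using mul_mem hx h2

/-- The subgroup generated by the `p`-residuals of generating subnormal subgroups is normal. -/
theorem sup_res_normal.{w} (p : ℕ) [hp : Fact p.Prime] : ∀ (n : ℕ) (G : Type w) [Group G] [Finite G],
    Nat.card G = n → ∀ A₁ A₂ : Subgroup G, A₁.IsSubnormal → A₂.IsSubnormal → A₁ ⊔ A₂ = ⊤ →
      (res p A₁ ⊔ res p A₂).Normal := by
  intro n
  induction n using Nat.strong_induction_on with
  | _ n ih =>
  intro G _ _ hn A₁ A₂ h₁ h₂ hgen
  subst hn
  set J := res p A₁ ⊔ res p A₂ with hJ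
  rcases subsingleton_or_nontrivial G with hs | hnt
  · exact ⟨fun x hx g => by rwa [Subsingleton.elim (g * x * g⁻¹) x]⟩
  obtain ⟨N, hN, hNne, -, hmin⟩ :=
    Lib.Components.exists_minimal_normal_le (inferInstance : (⊤ : Subgroup G).Normal) top_ne_bot
  haveI := hN
  let π := QuotientGroup.mk' N
  have hπ : Function.Surjective π := QuotientGroup.mk'_surjective N
  set K := J ⊔ N with hK
  haveI hKn : K.Normal := by
    have hq := ih _ (Lib.Supersolvable.card_quotient_lt hNne) (G ⧸ N) rfl (A₁.map π) (A₂.map π)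
      (h₁.map hπ) (h₂.map hπ) (by rw [← Subgroup.map_sup, hgen, Subgroup.map_top_of_surjective π hπ])
    have h1 := hq.comap π
    rwa [← map_res, ← map_res, ← Subgroup.map_sup, comap_map_eq, QuotientGroup.ker_mk'] at h1
  have hNJ : N ≤ normalizer (J : Set G) :=
    (le_inf ((Lib.Components.minimal_normal_le_normalizer hN hmin h₁).trans
      (normalizer_le_normalizer_res A₁)) ((Lib.Components.minimal_normal_le_normalizer hN hmin h₂).trans
      (normalizer_le_normalizer_res A₂))).trans (Lib.Components.normalizer_inf_le_normalizer_sup _ _)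
  have hKJ : K ≤ normalizer (J : Set G) := sup_le le_normalizer hNJ
  haveI hJK : (J.subgroupOf K).Normal := (normal_subgroupOf_iff_le_normalizer le_sup_left).mpr hKJ
  let f : K →* K ⧸ J.subgroupOf K := QuotientGroup.mk' _
  have hf1 : ∀ x : K, f x = 1 ↔ (x : G) ∈ J := fun x =>
    (QuotientGroup.eq_one_iff x).trans mem_subgroupOf
  have hfN : ∀ x : K, ∃ m : K, (m : G) ∈ N ∧ f x = f m := by
    intro x
    have hx : (x : G) ∈ ((J : Set G) * (N : Set G)) := by
      rw [← Subgroup.mul_normal J N]; exact x.2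
    obtain ⟨j, hj, m, hm, hjm⟩ := hx
    refine ⟨⟨m, mem_sup_right hm⟩, hm, ?_⟩
    have e : x = ⟨j, mem_sup_left hj⟩ * ⟨m, mem_sup_right hm⟩ := Subtype.ext hjm.symm
    rw [e, map_mul, (hf1 ⟨j, mem_sup_left hj⟩).mpr hj, one_mul]
  by_cases hpN : IsPGroup p N
  · -- `J` is the residual of `K`
    have hres : res p K = J := by
      refine le_antisymm (res_le_iff.mpr fun g hg hc => ?_) ?_
      · obtain ⟨m, hm, he⟩ := hfN ⟨g, hg⟩
        rw [← hf1 ⟨g, hg⟩]
        obtain ⟨k, hk⟩ := hpN ⟨m, hm⟩
        have h1 : f ⟨g, hg⟩ ^ p ^ k = 1 := by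
          rw [he, ← map_pow, show m ^ p ^ k = 1 from
            Subtype.ext (by simpa using congrArg (fun z : N => (z : G)) hk), map_one]
        have h2 : f ⟨g, hg⟩ ^ orderOf g = 1 := by
          rw [← map_pow, ← Subgroup.orderOf_mk g hg, pow_orderOf_eq_one, map_one]
        have := pow_gcd_eq_one.mpr ⟨h2, h1⟩
        rwa [(hc.pow_right k).gcd_eq_one, pow_one] at this
      · refine sup_le ?_ ?_
        · exact res_le_iff.mpr fun g hg hc =>
            mem_res (mem_sup_left (mem_sup_left (mem_res hg hc))) hc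
        · exact res_le_iff.mpr fun g hg hc =>
            mem_res (mem_sup_left (mem_sup_right (mem_res hg hc))) hc
    rw [← hres, ← normalizer_eq_top_iff, eq_top_iff]
    exact (normalizer_eq_top K).ge.trans (normalizer_le_normalizer_res K)
  suffices hle : N ≤ J by rwa [hK, sup_eq_left.mpr hle] at hKn
  have hresN : res p N = N := by
    have hn : (res p N).Normal := by
      rw [← normalizer_eq_top_iff, eq_top_iff]
      exact (normalizer_eq_top N).ge.trans (normalizer_le_normalizer_res N)
    refine (hmin _ hn (res_le N)).resolve_left fun hb => hpN ?_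
    intro x
    obtain ⟨k, hk⟩ := exists_pow_mem_res (p := p) x.2
    rw [hb, mem_bot] at hk
    exact ⟨k, Subtype.ext hk⟩
  rcases dichotomy hN hNne hmin h₁ h₂ hgen with hD | ⟨hcen, hb1, hb2, hqprime⟩
  · -- `N` is generated by its intersections with `A₁` and `A₂`
    have hP : ∀ A : Subgroup G, A.IsSubnormal → res p A ≤ J →
        IsPGroup p (((N ⊓ A).subgroupOf K).map f) ∧ (((N ⊓ A).subgroupOf K).map f).Normal := by
      intro A hA hAJ
      constructor
      · rintro ⟨_, a, ha, rfl⟩
        obtain ⟨k, hk⟩ := exists_pow_mem_res (p := p) (mem_subgroupOf.mp ha).2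
        refine ⟨k, Subtype.ext ?_⟩
        show f a ^ p ^ k = 1
        rw [← map_pow, hf1]
        exact hAJ hk
      · have h0 : N ≤ normalizer ((N ⊓ A : Subgroup G) : Set G) :=
          (le_inf le_normalizer (Lib.Components.minimal_normal_le_normalizer hN hmin hA)).trans
            inf_normalizer_le_normalizer_inf
        rw [← normalizer_eq_top_iff, eq_top_iff]
        intro y _
        obtain ⟨x, rfl⟩ := QuotientGroup.mk'_surjective (J.subgroupOf K) y
        obtain ⟨m, hm, he⟩ := hfN x
        show f x ∈ _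
        rw [he]
        refine le_normalizer_map f ⟨m, ?_, rfl⟩
        refine mem_normalizer_iff.mpr fun z => ?_
        exact mem_normalizer_iff.mp (h0 hm) (z : G)
    obtain ⟨hP1, hn1⟩ := hP A₁ h₁ le_sup_left
    obtain ⟨hP2, hn2⟩ := hP A₂ h₂ le_sup_right
    haveI := hn1
    have hPP := hP1.to_sup_of_normal_left hP2
    have hNP : ∀ g, (hg : g ∈ N) → f ⟨g, mem_sup_right hg⟩ ∈
        ((N ⊓ A₁).subgroupOf K).map f ⊔ ((N ⊓ A₂).subgroupOf K).map f := by
      intro g hg
      rw [← Subgroup.map_sup]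
      refine mem_map_of_mem f ?_
      rw [← subgroupOf_sup (inf_le_left.trans le_sup_right) (inf_le_left.trans le_sup_right),
        mem_subgroupOf, hD]
      exact hg
    rw [← hresN, res_le_iff]
    intro g hg hc
    rw [← hf1 ⟨g, mem_sup_right hg⟩]
    obtain ⟨k, hk⟩ := hPP ⟨_, hNP g hg⟩
    have h1 : f ⟨g, mem_sup_right hg⟩ ^ p ^ k = 1 := congrArg Subtype.val hk
    have h2 : f ⟨g, mem_sup_right hg⟩ ^ orderOf g = 1 := by
      rw [← map_pow, ← Subgroup.orderOf_mk g (mem_sup_right hg : g ∈ K), pow_orderOf_eq_one, map_one]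
    have := pow_gcd_eq_one.mpr ⟨h2, h1⟩
    rwa [(hc.pow_right k).gcd_eq_one, pow_one] at this
  · -- `N` is central of prime order `q ≠ p`
    by_contra hNnle
    set q := Nat.card N with hq
    have hqp : q ≠ p := fun h => hpN (IsPGroup.of_card (n := 1) (by rw [pow_one]; exact h))
    have hpowN : ∀ m : K, (m : G) ∈ N → m ^ q = 1 := fun m hm => by
      have h0 : (⟨(m : G), hm⟩ : N) ^ q = 1 := pow_card_eq_one'
      exact Subtype.ext (by simpa using congrArg (fun z : N => (z : G)) h0)
    letI : CommGroup (K ⧸ J.subgroupOf K) :=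
      { (inferInstance : Group (K ⧸ J.subgroupOf K)) with
        mul_comm := fun a b => by
          obtain ⟨x, rfl⟩ := QuotientGroup.mk'_surjective (J.subgroupOf K) a
          obtain ⟨y, rfl⟩ := QuotientGroup.mk'_surjective (J.subgroupOf K) b
          obtain ⟨m, hm, he⟩ := hfN x
          show f x * f y = f y * f x
          rw [he, ← map_mul, ← map_mul]
          exact congrArg f (Subtype.ext (mem_center_iff.mp (hcen hm) y).symm) }
    have hexp : ∀ z : K ⧸ J.subgroupOf K, z ^ q = 1 := fun z => by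
      obtain ⟨x, rfl⟩ := QuotientGroup.mk'_surjective (J.subgroupOf K) z
      obtain ⟨m, hm, he⟩ := hfN x
      show f x ^ q = 1
      rw [he, ← map_pow, hpowN m hm, map_one]
    have hA : ∀ A : Subgroup G, A.IsSubnormal → res p A ≤ J → A ≤ normalizer (J : Set G) := by
      intro A hA hAJ
      let L : Subgroup G := A ⊓ normalizer (J : Set G)
      suffices hs : A ≤ L from fun a ha => (hs ha).2
      refine relIndex_eq_one.mp ?_
      by_contra hne
      obtain ⟨r, hr, hrd⟩ := Nat.exists_prime_and_dvd hne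
      haveI : Fact r.Prime := ⟨hr⟩
      obtain ⟨R⟩ := (inferInstance : Nonempty (Sylow r A))
      refine R.not_dvd_index (hrd.trans (index_dvd_of_le (K := L.subgroupOf A) ?_))
      intro s hs
      refine mem_subgroupOf.mpr ⟨s.2, ?_⟩
      obtain ⟨e, he⟩ := (IsPGroup.iff_orderOf.mp R.2) ⟨s, hs⟩
      rw [Subgroup.orderOf_mk, ← Subgroup.orderOf_coe] at he
      by_cases hrp : r = p
      · subst hrp
        set x : G := (s : G) with hx
        have hxA : x ∈ A := s.2
        let σ : K →* K := (MulAut.conjNormal x : MulAut K).toMonoidHom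
        have hσ : ∀ j (b : K), ((σ^[j] b : K) : G) = x ^ j * b * (x ^ j)⁻¹ := by
          intro j
          induction j with
          | zero => simp
          | succ j ihj =>
            intro b
            rw [Function.iterate_succ_apply']
            show x * ((σ^[j] b : K) : G) * x⁻¹ = _
            rw [ihj, pow_succ']
            group
        obtain ⟨m, hm⟩ := exists_iterate_mem hA hxA
        have hiter : ∀ j (b : K), ((((fun y : K => σ y * y⁻¹)^[j] b) : K) : G) =
            (fun y => x * y * x⁻¹ * y⁻¹)^[j] (b : G) := by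
          intro j
          induction j with
          | zero => simp
          | succ j ihj =>
            intro b
            rw [Function.iterate_succ_apply', Function.iterate_succ_apply', ← ihj b]
            rfl
        have hzero : ∀ b : K, f ((fun y => σ y * y⁻¹)^[m + 1] b) = 1 := by
          intro b
          set a := (fun y : K => σ y * y⁻¹)^[m + 1] b with ha
          have haA : (a : G) ∈ A := by
            rw [ha, hiter, Function.iterate_succ_apply]
            exact hm _
          obtain ⟨k, hk⟩ := exists_pow_mem_res (p := r) haA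
          have h1 : f a ^ r ^ k = 1 := by rw [← map_pow, hf1]; exact hAJ hk
          have := pow_gcd_eq_one.mpr ⟨hexp (f a), h1⟩
          rwa [(Nat.Coprime.pow_right k ((Nat.coprime_primes hqprime hr).mpr hqp)).gcd_eq_one,
            pow_one] at this
        have key := diff_eq_one hr hqprime hqp hexp σ (k := e) (fun b => Subtype.ext (by
          rw [hσ, ← he, pow_orderOf_eq_one, one_mul, inv_one, mul_one])) m f hzero
        have hle : J.map (MulAut.conj x).toMonoidHom ≤ J := by
          rintro _ ⟨b, hb, rfl⟩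
          have h1 := key ⟨b, mem_sup_left hb⟩
          rw [map_mul, map_inv, (hf1 ⟨b, mem_sup_left hb⟩).mpr hb, inv_one, mul_one, hf1] at h1
          exact h1
        exact mem_normalizer_iff_map_conj_eq.mpr
          (eq_of_le_of_card_ge hle (by rw [card_map_of_injective (MulAut.conj x).injective]))
      · refine le_normalizer (hAJ (mem_res s.2 ?_))
        rw [he]
        exact ((Nat.coprime_primes hr hp.out).mpr hrp).pow_left e
    have hJn : J.Normal := by
      rw [← normalizer_eq_top_iff, eq_top_iff, ← hgen]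
      exact sup_le (hA A₁ h₁ le_sup_left) (hA A₂ h₂ le_sup_right)
    -- `G / J` is a `p`-group
    refine hNnle (hresN ▸ res_le_iff.mpr fun g hg hc => ?_)
    haveI := hJn
    have hq' : ∀ A : Subgroup G, res p A ≤ J → IsPGroup p (A.map (QuotientGroup.mk' J)) := by
      intro A hAJ
      rintro ⟨_, a, ha, rfl⟩
      obtain ⟨k, hk⟩ := exists_pow_mem_res (p := p) ha
      refine ⟨k, Subtype.ext ?_⟩
      show QuotientGroup.mk' J a ^ p ^ k = 1
      rw [← map_pow]
      exact (QuotientGroup.eq_one_iff _).mpr (hAJ hk)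
    have hsn : ∀ A : Subgroup G, A.IsSubnormal → res p A ≤ J →
        A.map (QuotientGroup.mk' J) ≤ Cfsg.pCore p (G ⧸ J) := fun A hA hAJ =>
      Lib.CharTwo.subnormal_le_pCore (hA.map (QuotientGroup.mk'_surjective J)) (hq' A hAJ)
    have htop : Cfsg.pCore p (G ⧸ J) = ⊤ := by
      rw [eq_top_iff, ← Subgroup.map_top_of_surjective _ (QuotientGroup.mk'_surjective J), ← hgen,
        Subgroup.map_sup]
      exact sup_le (hsn A₁ h₁ le_sup_left) (hsn A₂ h₂ le_sup_right)
    obtain ⟨k, hk⟩ := Lib.PSolvable.pCore_isPGroup (G := G ⧸ J) (p := p)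
      ⟨QuotientGroup.mk' J g, htop ▸ mem_top _⟩
    have h1 : QuotientGroup.mk' J g ^ p ^ k = 1 := congrArg Subtype.val hk
    have h2 : QuotientGroup.mk' J g ^ orderOf g = 1 := by
      rw [← map_pow, pow_orderOf_eq_one, map_one]
    have := pow_gcd_eq_one.mpr ⟨h2, h1⟩
    rw [(hc.pow_right k).gcd_eq_one, pow_one] at this
    exact (QuotientGroup.eq_one_iff _).mp this

/-- The Sylow subgroup of a group generated by two subnormal subgroups. -/
theorem sylow_eq_sup.{w} (p : ℕ) [hp : Fact p.Prime] : ∀ (n : ℕ) (G : Type w) [Group G] [Finite G],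
    Nat.card G = n → ∀ (S : Sylow p G) (A₁ A₂ : Subgroup G), A₁.IsSubnormal → A₂.IsSubnormal →
      A₁ ⊔ A₂ = ⊤ → (A₁ ⊓ (S : Subgroup G)) ⊔ (A₂ ⊓ (S : Subgroup G)) = S := by
  intro n
  induction n using Nat.strong_induction_on with
  | _ n ih =>
  intro G _ _ hn S A₁ A₂ h₁ h₂ hgen
  subst hn
  set T := (A₁ ⊓ (S : Subgroup G)) ⊔ (A₂ ⊓ (S : Subgroup G)) with hT
  have hTS : T ≤ S := sup_le inf_le_right inf_le_right
  refine le_antisymm hTS ?_
  rcases subsingleton_or_nontrivial G with hs | hnt
  · intro x _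
    rw [Subsingleton.elim x 1]
    exact one_mem T
  set J := res p A₁ ⊔ res p A₂ with hJ
  have hJn : J.Normal := sup_res_normal p _ G rfl A₁ A₂ h₁ h₂ hgen
  haveI := hJn
  by_cases hJtop : J ≠ ⊤
  · -- induction inside `J`
    have hJS : J ⊓ (S : Subgroup G) ≤ T := by
      have hS' : IsPGroup p ((S : Subgroup G).subgroupOf J) :=
        S.2.comap_of_injective _ J.subtype_injective
      have hidx : ¬ p ∣ ((S : Subgroup G).subgroupOf J).index := not_dvd_relIndex S hJn.isSubnormal
      have hlt : Nat.card J < Nat.card G :=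
        lt_of_le_of_ne (card_le_card_group J) fun h => hJtop (eq_top_of_card_eq J h)
      have h := ih _ hlt J rfl (hS'.toSylow hidx) ((res p A₁).subgroupOf J) ((res p A₂).subgroupOf J)
        (res_isSubnormal h₁).subgroupOf (res_isSubnormal h₂).subgroupOf
        (by rw [← subgroupOf_sup le_sup_left le_sup_right, subgroupOf_self])
      have h' := congrArg (Subgroup.map J.subtype) h
      intro x hx
      have hx' : x ∈ Subgroup.map J.subtype ((hS'.toSylow hidx : Sylow p J) : Subgroup J) :=
        ⟨⟨x, hx.1⟩, hx.2, rfl⟩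
      rw [← h', Subgroup.map_sup] at hx'
      refine SetLike.le_def.mp (sup_le ?_ ?_) hx'
      · rintro _ ⟨y, hy, rfl⟩
        exact mem_sup_left ⟨res_le A₁ hy.1, hy.2⟩
      · rintro _ ⟨y, hy, rfl⟩
        exact mem_sup_right ⟨res_le A₂ hy.1, hy.2⟩
    have hJT : J ⊔ T = ⊤ := by
      rw [eq_top_iff, ← hgen]
      have key : ∀ A : Subgroup G, A.IsSubnormal → res p A ≤ J → A ⊓ (S : Subgroup G) ≤ T →
          A ≤ J ⊔ T := by
        intro A hA hAJ hAT
        have hS' : IsPGroup p ((S : Subgroup G).subgroupOf A) :=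
          S.2.comap_of_injective _ A.subtype_injective
        have h1 := congrArg (Subgroup.map A.subtype)
          (Lib.Transfer.pResidual_sup_sylow (hS'.toSylow (not_dvd_relIndex S hA)))
        rw [Subgroup.map_sup, ← MonoidHom.range_eq_map, range_subtype] at h1
        refine h1.ge.trans (sup_le (le_sup_of_le_left hAJ) (le_sup_of_le_right ?_))
        refine le_trans ?_ hAT
        rintro _ ⟨y, hy, rfl⟩
        exact ⟨y.2, hy⟩
      exact sup_le (key A₁ h₁ le_sup_left le_sup_left) (key A₂ h₂ le_sup_right le_sup_right)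
    intro s hs
    have : s ∈ ((J : Set G) * (T : Set G)) := by
      rw [← Subgroup.normal_mul J T, hJT]; exact mem_top s
    obtain ⟨j, hj, t, ht, rfl⟩ := this
    have hjS : j ∈ (S : Subgroup G) := by
      have := mul_mem hs (inv_mem (hTS ht))
      rwa [mul_inv_cancel_right] at this
    exact mul_mem (hJS ⟨hj, hjS⟩) ht
  push Not at hJtop
  obtain ⟨N, hN, hNne, -, hmin⟩ :=
    Lib.Components.exists_minimal_normal_le (inferInstance : (⊤ : Subgroup G).Normal) top_ne_bot
  haveI := hN
  let π := QuotientGroup.mk' N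
  have hπ : Function.Surjective π := QuotientGroup.mk'_surjective N
  have hsyl : ∀ L : Subgroup G, L.IsSubnormal → L.map π ⊓ (S : Subgroup G).map π ≤
      ((L ⊓ (S : Subgroup G)) ⊔ N).map π := by
    intro L hL
    rintro _ ⟨⟨l, hl, rfl⟩, s, hs, hse⟩
    have hsL : s ∈ (N ⊔ L) := by
      have : (π l)⁻¹ * π s = 1 := by rw [hse, inv_mul_cancel]
      rw [← map_inv, ← map_mul] at this
      have h1 : l⁻¹ * s ∈ N := (QuotientGroup.eq_one_iff _).mp this
      have := mul_mem (mem_sup_right hl : l ∈ N ⊔ L) (mem_sup_left h1)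
      rwa [mul_inv_cancel_left] at this
    have := inf_sup_le_of_normalizes S (H := N) (K := L)
      (Lib.Components.minimal_normal_le_normalizer hN hmin hL)
      (not_dvd_relIndex S hN.isSubnormal) (not_dvd_relIndex S hL) ⟨hsL, hs⟩
    rw [← hse]
    have hle : (N ⊓ (S : Subgroup G)) ⊔ (L ⊓ (S : Subgroup G)) ≤ (L ⊓ (S : Subgroup G)) ⊔ N :=
      sup_le (inf_le_left.trans le_sup_right) le_sup_left
    exact mem_map_of_mem π (hle this)
  have hquot : (S : Subgroup G) ≤ T ⊔ N := by
    have h := ih _ (Lib.Supersolvable.card_quotient_lt hNne) (G ⧸ N) rfl (S.mapSurjective hπ)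
      (A₁.map π) (A₂.map π) (h₁.map hπ) (h₂.map hπ)
      (by rw [← Subgroup.map_sup, hgen, Subgroup.map_top_of_surjective π hπ])
    intro s hs
    have h1 : π s ∈ ((S.mapSurjective hπ : Sylow p (G ⧸ N)) : Subgroup (G ⧸ N)) :=
      mem_map_of_mem π hs
    rw [← h] at h1
    have h2 : π s ∈ (T ⊔ N).map π := by
      refine sup_le ((hsyl A₁ h₁).trans (map_mono ?_)) ((hsyl A₂ h₂).trans (map_mono ?_)) h1
      · exact sup_le_sup_right le_sup_left N
      · exact sup_le_sup_right le_sup_right N
    rwa [← mem_comap, comap_map_eq, QuotientGroup.ker_mk', sup_assoc, sup_idem] at h2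
  suffices hNS : N ⊓ (S : Subgroup G) ≤ T by
    intro s hs
    have : s ∈ ((T : Set G) * (N : Set G)) := by
      rw [← Subgroup.mul_normal T N]; exact hquot hs
    obtain ⟨t, ht, m, hm, rfl⟩ := this
    have hmS : m ∈ (S : Subgroup G) := by
      have := mul_mem (inv_mem (hTS ht)) hs
      rwa [inv_mul_cancel_left] at this
    exact mul_mem ht (hNS ⟨hm, hmS⟩)
  rcases dichotomy hN hNne hmin h₁ h₂ hgen with hD | ⟨hcen, hb1, hb2, hqprime⟩
  · have h := inf_sup_le_of_normalizes S (H := N ⊓ A₁) (K := N ⊓ A₂)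
      ((inf_le_left : N ⊓ A₁ ≤ N).trans ((le_inf le_normalizer
        (Lib.Components.minimal_normal_le_normalizer hN hmin h₂)).trans inf_normalizer_le_normalizer_inf))
      (not_dvd_relIndex S (hN.isSubnormal.inf h₁)) (not_dvd_relIndex S (hN.isSubnormal.inf h₂))
    rw [hD] at h
    exact h.trans (sup_le_sup (inf_le_inf_right _ inf_le_right) (inf_le_inf_right _ inf_le_right))
  by_cases hqp : Nat.card N = p
  swap
  · intro x hx
    have h1 : Nat.card ↥(N ⊓ (S : Subgroup G)) = 1 := by
      obtain ⟨e, he⟩ := (S.2.to_le (inf_le_right : N ⊓ (S : Subgroup G) ≤ S)).exists_card_eq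
      refine Nat.eq_one_of_dvd_coprimes
        (((Nat.coprime_primes hqprime hp.out).mpr hqp).pow_right e) (card_dvd_of_le inf_le_left) ?_
      rw [he]
    rw [card_eq_one.mp h1, mem_bot] at hx
    rw [hx]
    exact one_mem T
  by_contra hNT
  have hNp : IsPGroup p N := IsPGroup.of_card (n := 1) (by rw [hqp, pow_one])
  have hNS : N ≤ (S : Subgroup G) :=
    le_sup_left.trans_eq (S.3 (hNp.to_sup_of_normal_left S.2) le_sup_right)
  have hTN : T ⊓ N = ⊥ := by
    rcases hqprime.eq_one_or_self_of_dvd _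
      (card_dvd_of_le (inf_le_right : T ⊓ N ≤ N)) with h | h
    · exact card_eq_one.mp h
    · have : T ⊓ N = N := eq_of_le_of_card_ge inf_le_right h.ge
      exact absurd ((inf_le_left.trans (this.ge.trans inf_le_left)) : N ⊓ (S : Subgroup G) ≤ T) hNT
  haveI : IsMulCommutative N := ⟨⟨fun a b => Subtype.ext (mem_center_iff.mp (hcen a.2) b).symm⟩⟩
  obtain ⟨H, hH⟩ := Lib.Gaschutz.exists_complement N (S : Subgroup G) hNS
    (hqp ▸ hp.out.coprime_iff_not_dvd.mpr S.not_dvd_index) T hTS hTN
    (le_antisymm (sup_le hNS hTS) (hquot.trans (sup_comm T N).le))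
  have hHn : H.Normal := by
    rw [← normalizer_eq_top_iff, eq_top_iff, ← hH.sup_eq_top]
    exact sup_le (hcen.trans (center_le_centralizer _)|>.trans (centralizer_le_normalizer _))
      le_normalizer
  haveI := hHn
  have hJH : J ≤ H := by
    have hidx : H.index = p := by rw [hH.index_eq_card, hqp]
    have key : ∀ A : Subgroup G, res p A ≤ H := fun A => res_le_iff.mpr fun g _ hc => by
      rw [← QuotientGroup.eq_one_iff (N := H), ← orderOf_eq_one_iff]
      refine Nat.eq_one_of_dvd_coprimes hc (orderOf_map_dvd (QuotientGroup.mk' H) g) ?_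
      rw [← hidx]
      exact orderOf_dvd_natCard _
    exact sup_le (key A₁) (key A₂)
  rw [hJtop, top_le_iff] at hJH
  refine hNne ?_
  have := hH.disjoint.eq_bot
  rwa [hJH, inf_top_eq] at this

/-- Let G be a finite group, p a prime, S a Sylow p-subgroup of G and A₁, A₂ subnormal subgroups of G. Then the join of S ∩ A₁ and S ∩ A₂ is a Sylow p-subgroup of the join of A₁ and A₂; equivalently ⟨A₁, A₂⟩ ∩ S = ⟨A₁ ∩ S, A₂ ∩ S⟩. -/
theorem result {G : Type*} [Group G] [Finite G] {p : ℕ} [Fact p.Prime] (S : Sylow p G) (A₁ A₂ : Subgroup G)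
    (h₁ : A₁.IsSubnormal) (h₂ : A₂.IsSubnormal) :
    (A₁ ⊔ A₂) ⊓ (S : Subgroup G) = (A₁ ⊓ (S : Subgroup G)) ⊔ (A₂ ⊓ (S : Subgroup G)) := by
  haveI hJ : (A₁ ⊔ A₂).IsSubnormal := Lib.Components.subnormal_sup h₁ h₂
  have hS' : IsPGroup p ((S : Subgroup G).subgroupOf (A₁ ⊔ A₂)) :=
    S.2.comap_of_injective _ (Subgroup.subtype_injective _)
  have h := sylow_eq_sup p _ ↥(A₁ ⊔ A₂) rfl (hS'.toSylow (not_dvd_relIndex S hJ))
    (A₁.subgroupOf _) (A₂.subgroupOf _) h₁.subgroupOf h₂.subgroupOf
    (by rw [← Subgroup.subgroupOf_sup le_sup_left le_sup_right, Subgroup.subgroupOf_self])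
  refine le_antisymm ?_ (sup_le (inf_le_inf_right _ le_sup_left) (inf_le_inf_right _ le_sup_right))
  intro x hx
  have hx' : x ∈ Subgroup.map (A₁ ⊔ A₂).subtype
      ((hS'.toSylow (not_dvd_relIndex S hJ) : Sylow p _) : Subgroup _) := ⟨⟨x, hx.1⟩, hx.2, rfl⟩
  rw [← h, Subgroup.map_sup] at hx'
  refine SetLike.le_def.mp (sup_le ?_ ?_) hx'
  · rintro _ ⟨y, hy, rfl⟩
    exact Subgroup.mem_sup_left ⟨hy.1, hy.2⟩
  · rintro _ ⟨y, hy, rfl⟩
    exact Subgroup.mem_sup_right ⟨hy.1, hy.2⟩

end Cfsg.Agent.S3028
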