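import Mathlib
import Cfsg.Agent.Lib.LocalChar.KielerLocal
import Cfsg.Agent.S3028
import Cfsg.Agent.Lib.Components.Subnormal
import Cfsg.Statements.S2806
-- import your own Cfsg.Agent.* helpers here

set_option autoImplicit false
open Cfsg
open scoped commutatorElement Pointwise
open Cfsg.Agent.Lib Cfsg.Agent.Lib.PReduced Cfsg.Agent.Lib.LocalChar.KielerLocal

namespace Cfsg.Agent.S2806

/-- Let H be a finite group of local characteristic p, T a Sylow p-subgroup, and L₁, L₂ subnormal subgroups of H generating the subgroup L. Then the point stabilizer of L with respect to T ∩ L is generated by the point stabilizers of L₁ and L₂ with respect to T ∩ L₁ and T ∩ L₂ (point stabilizer of X w.r.t. R: the subgroup generated by the p-elements of X centralizing Ω₁(Z(R))). -/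
theorem result {H : Type*} [Group H] [Finite H] {p : ℕ} [Fact p.Prime] (hH : Cfsg.IsOfLocalCharacteristic p H) (T : Sylow p H) (L₁ L₂ : Subgroup H) (h₁ : L₁.IsSubnormal) (h₂ : L₂.IsSubnormal) : Cfsg.pointStabilizer p (L₁ ⊔ L₂) ((T : Subgroup H) ⊓ (L₁ ⊔ L₂)) = Cfsg.pointStabilizer p L₁ ((T : Subgroup H) ⊓ L₁) ⊔ Cfsg.pointStabilizer p L₂ ((T : Subgroup H) ⊓ L₂) := by
  classical
  set Z := omegaZ p (T : Subgroup H) with hZ
  set C := Subgroup.centralizer (Z : Set H) with hC
  let P : Subgroup H → Subgroup H := fun X =>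
    Subgroup.closure {x : H | x ∈ X ⊓ C ∧ ∃ k : ℕ, orderOf x = p ^ k}
  have hK := fun (X : Subgroup H) (hX : X.IsSubnormal) => kieler_local hH T hX
  have hps : ∀ X : Subgroup H, X.IsSubnormal →
      pointStabilizer p X ((T : Subgroup H) ⊓ X) = P X := by
    intro X hX
    refine congrArg Subgroup.closure (Set.ext fun x => and_congr_left fun ⟨k, hk⟩ => ?_)
    by_cases hb : (T : Subgroup H) ⊓ X = ⊥
    · have h1 : ∀ y ∈ X, orderOf y = p ^ k → y = 1 := by
        intro y hy hyk
        have hn := (hK X hX).2.2.2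
        rw [hb, Subgroup.relIndex_bot_left] at hn
        rcases Nat.eq_zero_or_pos k with hk0 | hk0
        · rw [hk0, pow_zero] at hyk
          exact orderOf_eq_one_iff.1 hyk
        · exfalso
          apply hn
          refine (dvd_pow_self p hk0.ne').trans ?_
          rw [← hyk, ← Subgroup.orderOf_mk _ hy]
          exact orderOf_dvd_natCard _
      constructor <;> intro h <;>
        · rw [h1 x h.1 hk]
          exact one_mem _
    · have := (hK X hX).1 hb
      exact ⟨fun h => this.symm ▸ h, fun h => this ▸ h⟩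
  have hsup : (L₁ ⊔ L₂).IsSubnormal := Components.subnormal_sup h₁ h₂
  rw [hps _ hsup, hps _ h₁, hps _ h₂]
  have hmono : ∀ {X Y : Subgroup H}, X ≤ Y → P X ≤ P Y := fun h =>
    Subgroup.closure_mono fun x hx => ⟨⟨h hx.1.1, hx.1.2⟩, hx.2⟩
  refine le_antisymm ?_ (sup_le (hmono le_sup_left) (hmono le_sup_right))
  have hPle : ∀ X : Subgroup H, P X ≤ X ⊓ C := fun X =>
    (Subgroup.closure_le _).2 fun x hx => hx.1
  -- `P X` is normal in `X ⊓ C`, so subnormal in `C`
  have hPs : ∀ X : Subgroup H, X.IsSubnormal → ((P X).subgroupOf C).IsSubnormal := by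
    intro X hX
    have hn : X ⊓ C ≤ Subgroup.normalizer (P X : Set H) := by
      intro g hg
      apply Amalgam.mem_normalizer_of_map_conj_eq
      refine Subgroup.eq_of_le_of_card_ge ?_ ?_
      · rw [MonoidHom.map_closure]
        refine Subgroup.closure_mono ?_
        rintro _ ⟨x, hx, rfl⟩
        refine ⟨?_, ?_⟩
        · simp only [MulEquiv.toMonoidHom_eq_coe, MonoidHom.coe_coe, MulAut.conj_apply]
          exact mul_mem (mul_mem hg hx.1) (inv_mem hg)
        · obtain ⟨k, hk⟩ := hx.2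
          exact ⟨k, by rw [MulEquiv.toMonoidHom_eq_coe, MonoidHom.coe_coe,
            MulEquiv.orderOf_eq, hk]⟩
      · rw [Subgroup.card_map_of_injective (MulAut.conj g).injective]
    refine Subgroup.IsSubnormal.step _ ((X ⊓ C).subgroupOf C)
      (Subgroup.comap_mono (hPle X)) ?_ ?_
    · rw [Subgroup.inf_subgroupOf_right]
      exact hX.subgroupOf
    · exact Subgroup.normal_subgroupOf_of_le_normalizer
        ((Subgroup.comap_mono hn).trans (Subgroup.le_normalizer_comap C.subtype))
  set J := P L₁ ⊔ P L₂ with hJ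
  have hJC : J ≤ C := sup_le ((hPle _).trans inf_le_right) ((hPle _).trans inf_le_right)
  have hJs : (J.subgroupOf C).IsSubnormal := by
    rw [hJ, Subgroup.subgroupOf_sup ((hPle _).trans inf_le_right) ((hPle _).trans inf_le_right)]
    exact Components.subnormal_sup (hPs _ h₁) (hPs _ h₂)
  have hTC : (T : Subgroup H) ≤ C := fun t ht z hz => ((Omega.le_self p _ hz).2 t ht).symm
  have hTmem : ∀ (X : Subgroup H), X ⊓ (T : Subgroup H) ≤ P X := by
    intro X t ht
    refine Subgroup.subset_closure ⟨⟨ht.1, hTC ht.2⟩, ?_⟩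
    obtain ⟨k, hk⟩ := IsPGroup.iff_orderOf.1 T.2 ⟨t, ht.2⟩
    exact ⟨k, by rw [← hk, Subgroup.orderOf_mk]⟩
  have hTJ : (T : Subgroup H) ⊓ (L₁ ⊔ L₂) ≤ J := by
    rw [inf_comm, S3028.result T L₁ L₂ h₁ h₂]
    exact sup_le_sup (hTmem _) (hTmem _)
  have hS := (hK _ hsup).2.of_le (M := (L₁ ⊔ L₂) ⊓ C)
    (le_inf inf_le_right (inf_le_left.trans hTC)) inf_le_left
  refine (Subgroup.closure_le _).2 fun x ⟨hx, k, hk⟩ => ?_
  have hJs' : (J.subgroupOf ((L₁ ⊔ L₂) ⊓ C)).IsSubnormal :=
    hJs.comap (Subgroup.inclusion (inf_le_right : (L₁ ⊔ L₂) ⊓ C ≤ C))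
  refine Subgroup.mem_subgroupOf.1 (mem_of_isSubnormal_of_sylow_le hJs' hS.toSylow ?_
    (x := ⟨x, hx⟩) (k := k) ((Subgroup.orderOf_mk x hx).trans hk))
  rw [hS.coe_toSylow]
  exact Subgroup.comap_mono hTJ

end Cfsg.Agent.S2806
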