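import Cfsg.Statements.S2808
import Cfsg.Agent.Lib.GNiles.Assembly

set_option autoImplicit false
universe u
open Cfsg

namespace Cfsg.Agent.S2808

open scoped commutatorElement in
/-- Under the hypothesis the exceptional conditions fail. -/
theorem not_exceptional {S : Type u} [Group S] [Finite S] {p : ℕ} [Fact p.Prime] (hS : IsPGroup p S)
    (S₀ : Subgroup S)
    (hS₀ : S₀ = if p = 2 then ⁅frattini S, (⊤ : Subgroup S)⁆ ⊔ (frattini ↥(frattini S)).map (frattini S).subtype else if p = 3 then ⁅⁅frattini S, (⊤ : Subgroup S)⁆, (⊤ : Subgroup S)⁆ ⊔ (frattini ↥(frattini S)).map (frattini S).subtype else ⁅frattini S, (⊤ : Subgroup S)⁆ ⊔ Cfsg.powerClosure p 1 (⊤ : Subgroup S))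
    (h : ⁅Cfsg.thompsonSubgroupA S ⊓ Subgroup.centralizer (Cfsg.thompsonSubgroupA S : Set S), (⊤ : Subgroup S)⁆ ≠ ⊥ ∨ S₀ ≠ ⊥) :
    ¬ Cfsg.Agent.Lib.GNiles.Exceptional p S := by
  rintro ⟨-, hJ, -, ⟨hΦc, hΦp⟩, h2, h3, h5, -, -⟩
  have hc : ∀ L : Subgroup S, L ≤ Subgroup.center S → ⁅L, (⊤ : Subgroup S)⁆ = ⊥ := fun L hL =>
    Subgroup.commutator_eq_bot_iff_le_centralizer.2 (by
      rwa [Subgroup.coe_top, Subgroup.centralizer_univ])
  refine h.elim (fun hh => hh (hc _ ?_)) (fun hh => hh ?_)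
  · rw [hJ, top_inf_eq, Subgroup.coe_top, Subgroup.centralizer_univ]
  have hff : (frattini ↥(frattini S)).map (frattini S).subtype = ⊥ := by
    refine le_bot_iff.1 (Cfsg.Agent.Lib.PFrattini.frattini_map_subtype_le (p := p)
      (Subgroup.commutator_le.2 fun x hx y hy => ?_) fun x hx => Subgroup.mem_bot.2 (hΦp x hx))
    exact Subgroup.mem_bot.2 (commutatorElement_eq_one_iff_mul_comm.2
      (congrArg Subtype.val (hΦc.is_comm.comm ⟨x, hx⟩ ⟨y, hy⟩)))
  rw [hS₀]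
  split
  · rename_i hp; rw [hc _ (h2 hp), hff, bot_sup_eq]
  split
  · rename_i hp
    have hu : ⁅frattini S, (⊤ : Subgroup S)⁆ ≤ Subgroup.center S := by
      refine Subgroup.commutator_le.2 fun x hx y _ => ?_
      have := Subgroup.mem_upperCentralSeries_succ_iff.1 (h3 hp hx) y
      rwa [Subgroup.upperCentralSeries_one] at this
    rw [hc _ hu, hff, bot_sup_eq]
  · rename_i hp2 hp3
    have hp : 3 < p := by have := (Fact.out : p.Prime).two_le; omega
    obtain ⟨hΦZ, hexp⟩ := h5 hp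
    rw [hc _ hΦZ, bot_sup_eq, eq_bot_iff, Cfsg.powerClosure, Subgroup.closure_le]
    rintro _ ⟨x, -, rfl⟩
    rw [pow_one, ← hexp]
    exact Subgroup.mem_bot.2 (Monoid.pow_exponent_eq_one x)

/-- Let p be a prime and S a finite p-group with J(S) generated by the abelian subgroups of largest order, Z(J(S)) its centre and J̃(S) = C_S(Z(J(S))). Put S₀ = [Φ(S), S]·Φ(Φ(S)) if p = 2, S₀ = [[Φ(S), S], S]·Φ(Φ(S)) if p = 3, and S₀ = [Φ(S), S]·℧¹(S) if p > 3. If [Z(J(S)), S] ≠ 1 or S₀ ≠ 1, then S has nontrivial characteristic subgroups S₁ ≤ Z(S) and S₂ ≤ J̃(S), with S₂ characteristic in J̃(S), such that in every finite group G containing S as a Sylow p-subgroup with C_G(O_p(G)) ≤ O_p(G), S in exactly one maximal subgroup of G, and G/K ≅ PSL₂(p^n) for some normal K and n ≥ 1, at least one of S₁, S₂ is normal. -/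
theorem result {S : Type u} [Group S] [Finite S] {p : ℕ} [Fact p.Prime] (hS : IsPGroup p S) (S₀ : Subgroup S) (hS₀ : S₀ = if p = 2 then ⁅frattini S, (⊤ : Subgroup S)⁆ ⊔ (frattini ↥(frattini S)).map (frattini S).subtype else if p = 3 then ⁅⁅frattini S, (⊤ : Subgroup S)⁆, (⊤ : Subgroup S)⁆ ⊔ (frattini ↥(frattini S)).map (frattini S).subtype else ⁅frattini S, (⊤ : Subgroup S)⁆ ⊔ Cfsg.powerClosure p 1 (⊤ : Subgroup S)) (h : ⁅Cfsg.thompsonSubgroupA S ⊓ Subgroup.centralizer (Cfsg.thompsonSubgroupA S : Set S), (⊤ : Subgroup S)⁆ ≠ ⊥ ∨ S₀ ≠ ⊥) : ∃ S₁ S₂ : Subgroup S, S₁ ≠ ⊥ ∧ S₂ ≠ ⊥ ∧ S₁.Characteristic ∧ S₂.Characteristic ∧ S₁ ≤ Subgroup.center S ∧ S₂ ≤ Subgroup.centralizer ((Cfsg.thompsonSubgroupA S ⊓ Subgroup.centralizer (Cfsg.thompsonSubgroupA S : Set S) : Subgroup S) : Set S) ∧ (S₂.subgroupOf (Subgroup.centralizer ((Cfsg.thompsonSubgroupA S ⊓ Subgroup.centralizer (Cfsg.thompsonSubgroupA S : Set S) : Subgroup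 S) : Set S))).Characteristic ∧ ∀ (G : Type u) [Group G] [Finite G] (τ : S →* G), Function.Injective τ → (∃ P : Sylow p G, (P : Subgroup G) = τ.range) → Subgroup.centralizer (Cfsg.pCore p G : Set G) ≤ Cfsg.pCore p G → (∃! M : Subgroup G, IsCoatom M ∧ τ.range ≤ M) → (∃ (K : Subgroup G) (_ : K.Normal) (F : Type) (_ : Field F) (_ : Fintype F) (n : ℕ), 1 ≤ n ∧ Fintype.card F = p ^ n ∧ Nonempty (G ⧸ K ≃* Matrix.ProjectiveSpecialLinearGroup (Fin 2) F)) → (S₁.map τ).Normal ∨ (S₂.map τ).Normal := by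
  haveI : Nontrivial S := by
    by_contra hn
    rw [not_nontrivial_iff_subsingleton] at hn
    exact h.elim (fun hh => hh (Subgroup.eq_bot_of_subsingleton _))
      (fun hh => hh (Subgroup.eq_bot_of_subsingleton _))
  obtain ⟨S₁, S₂, h1, h2, h3, h4, h5, h6, h7, h8⟩ := Cfsg.Agent.Lib.GNiles.exists_pair hS
    (not_exceptional hS S₀ hS₀ h)
  refine ⟨S₁, S₂, h1, h2, h3, h4, h5, h6, h7, fun G _ _ τ hτ hsyl hC hM hK => ?_⟩
  have hsit : Cfsg.IsPushingUpSituation p τ.range := by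
    refine ⟨?_, hsyl, hC, hM, ?_⟩
    · obtain ⟨x, hx⟩ := exists_ne (1 : S)
      intro hbot
      exact hx (hτ (by rw [map_one]; exact Subgroup.mem_bot.1 (hbot.le (Subgroup.mem_top (τ x)))))
    · obtain ⟨K, hKn, F, iF, iFt, n, -, hn, hne⟩ := hK
      exact ⟨K, hKn, F, iF, iFt, n, hn, hne⟩
  exact h8 G τ.range (MonoidHom.ofInjective hτ) hsit

end Cfsg.Agent.S2808
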