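import Mathlib
import Cfsg.Agent.Lib.LocalChar.Core
import Cfsg.Statements.S2809
-- import your own Cfsg.Agent.* helpers here

set_option autoImplicit false
open Cfsg
open scoped commutatorElement Pointwise

namespace Cfsg.Agent.S2809

/-- Let H be a finite group, p a prime, R a p-subgroup of H with C_H(R) ≤ R, and L a subgroup of N_H(R) acting nilpotently on R (some iterated commutator [R, L, …, L] is trivial). Then L is a p-group. -/
theorem result {H : Type*} [Group H] [Finite H] {p : ℕ} [Fact p.Prime] (R : Subgroup H) (hR : IsPGroup p ↥R) (hC : Subgroup.centralizer (R : Set H) ≤ R) (L : Subgroup H) (hL : L ≤ Subgroup.normalizer (R : Set H)) (hnil : ∃ n : ℕ, Cfsg.iterCommutator R L n = ⊥) : IsPGroup p ↥L := by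
  obtain ⟨n, hn⟩ := hnil
  refine Lib.LocalChar.isPGroup_subgroup_of_forall_coprime fun x hx hc => ?_
  exact Lib.LocalChar.eq_one_of_mem_pGroup hR
    (hC (Lib.LocalChar.mem_centralizer_of_iterCommutator hR hL hn hx hc)) hc

end Cfsg.Agent.S2809
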