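import Mathlib
import Cfsg.Agent.Lib.LocalChar.Core
import Cfsg.Statements.S2810
-- import your own Cfsg.Agent.* helpers here

set_option autoImplicit false
open Cfsg
open scoped commutatorElement Pointwise

namespace Cfsg.Agent.S2810

/-- Let H be a finite group of characteristic p and L a subgroup of H centralizing every factor of some H-invariant chain 1 = A₀ ≤ A₁ ≤ … ≤ Aₙ = O_p(H) of normal subgroups (that is, [A_{i+1}, L] ≤ Aᵢ for each i). Then L ≤ O_p(H). -/
theorem result {H : Type*} [Group H] [Finite H] {p : ℕ} [Fact p.Prime] (hchar : Subgroup.centralizer (Cfsg.pCore p H : Set H) ≤ Cfsg.pCore p H) (L : Subgroup H) (n : ℕ) (A : Fin (n + 1) → Subgroup H) (h0 : A 0 = ⊥) (hn : A (Fin.last n) = Cfsg.pCore p H) (hmono : Monotone A) (hnorm : ∀ i, (A i).Normal) (hcent : ∀ i : Fin n, ⁅A i.succ, L⁆ ≤ A i.castSucc) : L ≤ Cfsg.pCore p H := by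
  classical
  refine fun x hxL => ?_
  -- the stabilizer of the chain
  set C : Subgroup H := ⨅ i : Fin n,
    ((Subgroup.centralizer (((A i.succ).map (QuotientGroup.mk' (A i.castSucc) (nN := hnorm _)) :
      Subgroup _) : Set _)).comap (QuotientGroup.mk' (A i.castSucc) (nN := hnorm _))) with hC
  have hCn : C.Normal := by
    refine Subgroup.normal_iInf_normal fun i => ?_
    haveI := hnorm i.castSucc
    haveI := hnorm i.succ
    haveI : ((A i.succ).map (QuotientGroup.mk' (A i.castSucc))).Normal :=
      (hnorm i.succ).map _ (QuotientGroup.mk'_surjective _)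
    infer_instance
  have hmem : ∀ y : H, y ∈ C ↔ ∀ i : Fin n, ∀ a ∈ A i.succ, ⁅a, y⁆ ∈ A i.castSucc := by
    intro y
    simp only [hC, Subgroup.mem_iInf, Subgroup.mem_comap, Subgroup.mem_centralizer_iff,
      SetLike.mem_coe, Subgroup.mem_map, forall_exists_index, and_imp, forall_apply_eq_imp_iff₂]
    refine forall_congr' fun i => forall_congr' fun a => forall_congr' fun _ => ?_
    haveI := hnorm i.castSucc
    rw [← commutatorElement_eq_one_iff_mul_comm, ← map_commutatorElement, QuotientGroup.mk'_apply,
      QuotientGroup.eq_one_iff]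
  have hCp : IsPGroup p ↥C := by
    refine Lib.LocalChar.isPGroup_subgroup_of_forall_coprime fun y hy hc => ?_
    have hQ : IsPGroup p ↥(pCore p H) := Lib.PSolvable.pCore_isPGroup
    have key := Lib.LocalChar.mem_centralizer_of_chain hQ hc
      (fun k => if hk : k < n + 1 then A ⟨k, hk⟩ else ⊥) n
      (by simpa using h0)
      (fun i hi => by
        simp only [Nat.lt_succ_iff.mpr hi, dif_pos]
        rw [← hn]; exact hmono (Fin.le_last _))
      (fun i hi r hr => by
        simp only [Nat.succ_lt_succ hi, dif_pos] at hr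
        simp only [Nat.lt_succ_of_lt hi, dif_pos]
        exact (hmem y).mp hy ⟨i, hi⟩ r hr)
    simp only [Nat.lt_succ_self, dif_pos] at key
    have hlast : (⟨n, Nat.lt_succ_self n⟩ : Fin (n + 1)) = Fin.last n := rfl
    rw [hlast, hn] at key
    exact Lib.LocalChar.eq_one_of_mem_pGroup hQ (hchar key) hc
  exact Lib.PSolvable.le_pCore (hN := hCn) hCp
    ((hmem x).mpr fun i a ha => hcent i (Subgroup.commutator_mem_commutator ha hxL))

end Cfsg.Agent.S2810
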