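import Mathlib
import Cfsg.Agent.Lib.LocalChar.SubnormalFitting
import Cfsg.Statements.S2812
-- import your own Cfsg.Agent.* helpers here

set_option autoImplicit false
open Cfsg
open scoped commutatorElement Pointwise

namespace Cfsg.Agent.S2812

/-- Let H be a subgroup of the finite group G with O_p(H) = 1, Y a p-subgroup of G normalizing H, and L a subgroup of the generalized Fitting subgroup F*(H) that is subnormal in H and normalized by Y. Then L = [L, Y]·C_L(Y) and [L, Y] = [L, Y, Y]. -/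
theorem result {G : Type*} [Group G] [Finite G] {p : ℕ} [Fact p.Prime] (H : Subgroup G) (hO : Cfsg.pCore p ↥H = ⊥) (Y : Subgroup G) (hY : IsPGroup p ↥Y) (hYH : Y ≤ Subgroup.normalizer (H : Set G)) (L : Subgroup G) (hLF : L ≤ (Cfsg.generalizedFittingSubgroup ↥H).map H.subtype) (hLsn : (L.subgroupOf H).IsSubnormal) (hYL : Y ≤ Subgroup.normalizer (L : Set G)) : ⁅L, Y⁆ ⊔ (L ⊓ Subgroup.centralizer (Y : Set G)) = L ∧ ⁅L, Y⁆ = ⁅⁅L, Y⁆, Y⁆ := by
  classical
  set N : Subgroup G := Subgroup.normalizer (H : Set G) with hNdef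
  have hHN : H ≤ N := Subgroup.le_normalizer
  have hLH : L ≤ H := hLF.trans (Subgroup.map_subtype_le _)
  have hLN : L ≤ N := hLH.trans hHN
  haveI hH'n : (H.subgroupOf N).Normal := Subgroup.normal_subgroupOf_of_le_normalizer le_rfl
  set H' := H.subgroupOf N with hH'def
  set L' := L.subgroupOf N with hL'def
  set Y' := Y.subgroupOf N with hY'def
  set e : ↥H' ≃* ↥H := Subgroup.subgroupOfEquivOfLe hHN with hedef
  have hcomp : ∀ x : ↥H', ((e x : H) : G) = ((x : N) : G) := fun x => rfl
  have hL'sn : L'.IsSubnormal := by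
    refine (?_ : (L'.subgroupOf H').IsSubnormal).trans (fun x hx => hLH hx) hH'n.isSubnormal
    exact hLsn.comap e.toMonoidHom
  have hL'F : L' ≤ generalizedFittingSubgroup ↥N := by
    refine fun x hx => Lib.LocalChar.map_genFitting_le_of_isSubnormal hH'n.isSubnormal ?_
    obtain ⟨h, hh, hhx⟩ := hLF (show (x : G) ∈ L from hx)
    refine ⟨e.symm h, ?_, Subtype.ext hhx⟩
    rw [← Lib.Components.generalizedFittingSubgroup_map_equiv e.symm]
    exact ⟨h, hh, rfl⟩
  have hcop : ∀ x ∈ L' ⊓ fittingSubgroup ↥N, Nat.Coprime (orderOf x) p := by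
    rintro x ⟨hxL, hxF⟩
    haveI := Lib.Components.fittingSubgroup_normal (G := ↥N)
    set φ : ↥H →* ↥N := Subgroup.inclusion hHN
    have hφ : Function.Injective φ := Subgroup.inclusion_injective hHN
    have hnil : Group.IsNilpotent ↥((fittingSubgroup ↥N).comap φ) := by
      haveI := Lib.Components.fittingSubgroup_isNilpotent (G := ↥N)
      exact Subgroup.isNilpotent_of_ker_le_center (φ.subgroupComap (fittingSubgroup ↥N))
        (((MonoidHom.ker_eq_bot_iff _).mpr fun a b h =>
          Subtype.ext (hφ (congrArg Subtype.val h))).trans_le bot_le)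
    have hc := Lib.LocalChar.coprime_orderOf_of_normal_isNilpotent hO (inferInstance) hnil
      (x := ⟨x.1, hLH hxL⟩) (show φ ⟨x.1, hLH hxL⟩ ∈ fittingSubgroup ↥N from hxF)
    have ho : orderOf (⟨x.1, hLH hxL⟩ : H) = orderOf x :=
      (Subgroup.orderOf_coe _).symm.trans (Subgroup.orderOf_coe x)
    rwa [ho] at hc
  have hY' : IsPGroup p ↥Y' := hY.comap_subtype
  have hY'L : Y' ≤ Subgroup.normalizer (L' : Set ↥N) := by
    intro y hy
    rw [hL'def, ← Subgroup.subgroupOf_normalizer_eq hLN]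
    exact hYL hy
  obtain ⟨h1, h2⟩ := Lib.LocalChar.genFitting_commutator hL'sn hL'F hcop hY' hY'L
  have hYN : Y ≤ N := hYH
  have mL : L'.map N.subtype = L := Subgroup.map_subgroupOf_eq_of_le hLN
  have mY : Y'.map N.subtype = Y := Subgroup.map_subgroupOf_eq_of_le hYN
  have mC : (L' ⊓ Subgroup.centralizer (Y' : Set ↥N)).map N.subtype =
      L ⊓ Subgroup.centralizer (Y : Set G) := by
    ext g
    constructor
    · rintro ⟨x, ⟨hx1, hx2⟩, rfl⟩
      refine ⟨hx1, Subgroup.mem_centralizer_iff.mpr fun y hy => ?_⟩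
      exact congrArg Subtype.val (Subgroup.mem_centralizer_iff.mp hx2 ⟨y, hYN hy⟩ hy)
    · rintro ⟨hg1, hg2⟩
      refine ⟨⟨g, hLN hg1⟩, ⟨hg1, Subgroup.mem_centralizer_iff.mpr fun y hy => ?_⟩, rfl⟩
      exact Subtype.ext (Subgroup.mem_centralizer_iff.mp hg2 y.1 hy)
  constructor
  · have := congrArg (Subgroup.map N.subtype) h1
    rwa [Subgroup.map_sup, Subgroup.map_commutator, mL, mY, mC] at this
  · have := congrArg (Subgroup.map N.subtype) h2
    rw [Subgroup.map_commutator, Subgroup.map_commutator, mL, mY] at this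
    exact this.symm

end Cfsg.Agent.S2812
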