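import Mathlib
import Cfsg.Agent.Lib.LocalChar.Core
import Cfsg.Statements.S2813
-- import your own Cfsg.Agent.* helpers here

set_option autoImplicit false
open Cfsg
open scoped commutatorElement Pointwise

namespace Cfsg.Agent.S2813

/-- Let K be a subgroup of the finite group H with O_p(K) = 1 and Y a p-subgroup of N_H(K) with [K, Y, Y] = 1. Then [K, Y] = 1. -/
theorem result {H : Type*} [Group H] [Finite H] {p : ℕ} [Fact p.Prime] (K : Subgroup H) (hO : Cfsg.pCore p ↥K = ⊥) (Y : Subgroup H) (hY : IsPGroup p ↥Y) (hYK : Y ≤ Subgroup.normalizer (K : Set H)) (hq : ⁅⁅K, Y⁆, Y⁆ = ⊥) : ⁅K, Y⁆ = ⊥ := by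
  -- `W`, the normal closure of `Y` in `KY`
  set Q : Subgroup H := ⁅K, Y⁆ ⊔ Y with hQ
  have hKY : ⁅K, Y⁆ ≤ K := Subgroup.le_normalizer_iff_commutator_le_left.mp hYK
  have hKn : K ≤ Subgroup.normalizer ((⁅K, Y⁆ : Subgroup H) : Set H) :=
    Subgroup.normalizer_commutator_ge_left K Y
  have hYc : Y ≤ Subgroup.centralizer ((⁅K, Y⁆ : Subgroup H) : Set H) :=
    Subgroup.le_centralizer_iff.mp (Subgroup.commutator_eq_bot_iff_le_centralizer.mp hq)
  -- conjugates of `Y` under `K` centralise `[K, Y]`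
  have hW : ∀ k ∈ K, Y.map (MulAut.conj k).toMonoidHom ≤ Q := by
    intro k hk x hx
    obtain ⟨y, hy, rfl⟩ := hx
    have h1 : ⁅k, y⁆ * y ∈ Q :=
      mul_mem (le_sup_left (b := Y) (Subgroup.commutator_mem_commutator hk hy))
        (le_sup_right (a := ⁅K, Y⁆) hy)
    simpa [commutatorElement_def, mul_assoc] using h1
  have hQc : Q ≤ Subgroup.centralizer ((⁅K, Y⁆ : Subgroup H) : Set H) := by
    refine sup_le (Subgroup.commutator_le.mpr fun k hk y hy => ?_) hYc
    have h1 : k * y * k⁻¹ ∈ Subgroup.centralizer ((⁅K, Y⁆ : Subgroup H) : Set H) := by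
      have := Lib.LocalChar.conj_mem_of_mem_normalizer
        (Lib.LocalChar.le_normalizer_centralizer_of_le hKn hk) (hYc hy)
      exact this
    simpa [commutatorElement_def] using mul_mem h1 (inv_mem (hYc hy))
  -- `Q` is nilpotent
  have hQnil : Group.IsNilpotent ↥Q := by
    set Z : Subgroup ↥Q := (⁅K, Y⁆).subgroupOf Q
    have hZ : Z ≤ Subgroup.center ↥Q := by
      intro z hz
      refine Subgroup.mem_center_iff.mpr fun w => Subtype.ext ?_
      exact (Subgroup.mem_centralizer_iff.mp (hQc w.2) z hz).symm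
    haveI : Z.Normal := ⟨fun z hz g => by
      rw [(Subgroup.mem_center_iff.mp (hZ hz)) g]; simpa using hz⟩
    have hp' : IsPGroup p (↥Q ⧸ Z) := by
      refine hY.of_surjective ((QuotientGroup.mk' Z).comp
        (Subgroup.inclusion (le_sup_right : Y ≤ Q))) ?_
      intro w
      obtain ⟨⟨w, hw⟩, rfl⟩ := QuotientGroup.mk'_surjective Z w
      have hn : Y ≤ Subgroup.normalizer ((⁅K, Y⁆ : Subgroup H) : Set H) :=
        Subgroup.normalizer_commutator_ge_right K Y
      have hw' : w ∈ (Y : Set H) * ((⁅K, Y⁆ : Subgroup H) : Set H) := by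
        rw [← Subgroup.coe_mul_of_left_le_normalizer_right Y ⁅K, Y⁆ hn, sup_comm]
        exact hw
      obtain ⟨y, hy, a, ha, rfl⟩ := hw'
      refine ⟨⟨y, hy⟩, (QuotientGroup.eq).mpr ?_⟩
      simpa [Z, Subgroup.mem_subgroupOf] using ha
    haveI : Finite (↥Q ⧸ Z) := inferInstance
    haveI := hp'.isNilpotent
    exact Subgroup.isNilpotent_of_ker_le_center (QuotientGroup.mk' Z)
      (by rw [QuotientGroup.ker_mk']; exact hZ)
  -- the Sylow `p`-subgroup of `Q` is normal in `K Q`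
  have hKQ : K ≤ Subgroup.normalizer (Q : Set H) := by
    intro k hk
    refine Lib.LocalChar.mem_normalizer_of_conj_map_le ?_
    rw [hQ, Subgroup.map_sup]
    exact sup_le ((Lib.LocalChar.conj_map_eq_of_mem (hKn hk)).le.trans le_sup_left) (hW k hk)
  have hP : IsPGroup p ↥(pCoreOf p Q) := Lib.CharP.pCoreOf_isPGroup Q
  have hYP : Y ≤ pCoreOf p Q := by
    obtain ⟨S, hS⟩ := (hY.comap_subtype (K := Q)).exists_le_sylow
    haveI : (S : Subgroup ↥Q).Normal :=
      Sylow.normal_of_normalizerCondition Group.normalizerCondition_of_isNilpotent S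
    intro y hy
    exact ⟨⟨y, le_sup_right (a := ⁅K, Y⁆) hy⟩, Lib.PSolvable.le_pCore S.isPGroup' (hS hy), rfl⟩
  have hKP : ⁅K, Y⁆ ≤ pCoreOf p Q := by
    refine (Subgroup.commutator_mono le_rfl hYP).trans ?_
    exact Subgroup.le_normalizer_iff_commutator_le_right.mp
      (hKQ.trans (Lib.LocalChar.normalizer_le_normalizer_pCoreOf Q))
  have h1 : ⁅K, Y⁆ ≤ pCoreOf p K := Lib.CharP.le_pCoreOf hKY (hP.to_le hKP) hKn
  rw [(Lib.LocalChar.pCoreOf_eq_bot_iff K).mpr hO, le_bot_iff] at h1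
  exact h1

end Cfsg.Agent.S2813
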