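import Mathlib
import Cfsg.Agent.Lib.LocalChar.Frattini
import Cfsg.Agent.Lib.LocalChar.PClosed
import Cfsg.Agent.Lib.LocalChar.Reduced
import Cfsg.Statements.S2814
-- import your own Cfsg.Agent.* helpers here

set_option autoImplicit false
open Cfsg
open scoped commutatorElement Pointwise

namespace Cfsg.Agent.S2814

/-- Let A be a subgroup of the finite group H and K the subnormal closure of A (intersection of the subnormal subgroups containing A). Then K is the normal closure of A inside K and N_H(A) ≤ N_H(K); K = A·O^p(K), O^p(K) being generated by the elements of K of order prime to p; and if A is a p-group, O^p(K) = [O^p(K), A]. -/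
theorem result {H : Type*} [Group H] [Finite H] {p : ℕ} [Fact p.Prime] (A : Subgroup H) (K : Subgroup H) (hK : K = Cfsg.subnormalClosure A) : (Subgroup.normalClosure ((A.subgroupOf K : Subgroup ↥K) : Set ↥K)).map K.subtype = K ∧ Subgroup.normalizer (A : Set H) ≤ Subgroup.normalizer (K : Set H) ∧ A ⊔ (Cfsg.pResidual p ↥K).map K.subtype = K ∧ (IsPGroup p ↥A → ⁅(Cfsg.pResidual p ↥K).map K.subtype, A⁆ = (Cfsg.pResidual p ↥K).map K.subtype) := by
  subst hK
  set K := Cfsg.subnormalClosure A with hK
  have hKsn : K.IsSubnormal := Lib.LocalChar.isSubnormal_sInf _ fun X hX => hX.2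
  have hAK : A ≤ K := le_sInf fun X hX => hX.1
  have hKmin : ∀ M : Subgroup ↥K, M.IsSubnormal → A.subgroupOf K ≤ M → M = ⊤ := by
    intro M hM hAM
    have h1 : K ≤ M.map K.subtype := by
      refine sInf_le ⟨?_, ?_⟩
      · calc A = (A.subgroupOf K).map K.subtype := (Subgroup.map_subgroupOf_eq_of_le hAK).symm
          _ ≤ _ := Subgroup.map_mono hAM
      · refine Subgroup.IsSubnormal.trans (Subgroup.map_subtype_le M) ?_ hKsn
        show ((M.map K.subtype).comap K.subtype).IsSubnormal
        rwa [Subgroup.comap_map_eq_self_of_injective K.subtype_injective]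
    rw [eq_top_iff]
    intro x _
    obtain ⟨y, hy, hyx⟩ := h1 x.2
    rwa [← show y = x from Subtype.ext hyx]
  have hres : A.subgroupOf K ⊔ pResidual p ↥K = ⊤ :=
    hKmin _ (Lib.LocalChar.isSubnormal_of_pResidual_le le_sup_right) le_sup_left
  have hmap : A ⊔ (pResidual p ↥K).map K.subtype = K := by
    calc A ⊔ (pResidual p ↥K).map K.subtype
        = (A.subgroupOf K ⊔ pResidual p ↥K).map K.subtype := by
          rw [Subgroup.map_sup, Subgroup.map_subgroupOf_eq_of_le hAK]
      _ = K := by rw [hres, ← MonoidHom.range_eq_map, Subgroup.range_subtype]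
  refine ⟨?_, ?_, hmap, fun hAp => ?_⟩
  · rw [hKmin _ (Subgroup.Normal.isSubnormal inferInstance) Subgroup.le_normalClosure,
      ← MonoidHom.range_eq_map, Subgroup.range_subtype]
  · intro g hg
    refine Lib.LocalChar.mem_normalizer_of_conj_map_le ?_
    rw [Lib.LocalChar.conj_map_le_iff]
    refine sInf_le ⟨?_, hKsn.map (MulAut.conj g⁻¹).surjective⟩
    intro a ha
    rw [Lib.LocalChar.mem_conj_map, inv_inv]
    exact hAK (Lib.LocalChar.conj_mem_of_mem_normalizer hg ha)
  · set E := (pResidual p ↥K).map K.subtype with hE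
    have hAE : A ≤ Subgroup.normalizer (E : Set H) :=
      hAK.trans (Lib.LocalChar.le_normalizer_resOf K)
    set R := ⁅E, A⁆ with hR
    have hRE : R ≤ E := Subgroup.le_normalizer_iff_commutator_le_left.mp hAE
    refine le_antisymm hRE ?_
    have hKR : K ≤ Subgroup.normalizer (R : Set H) := by
      rw [← hmap]
      exact sup_le (Subgroup.normalizer_commutator_ge_right E A)
        (Subgroup.normalizer_commutator_ge_left E A)
    have hRA : R ⊔ A = K := by
      have hle : R ⊔ A ≤ K := sup_le (hRE.trans (Lib.LocalChar.resOf_le K)) hAK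
      refine le_antisymm hle ?_
      have hn : ((R ⊔ A).subgroupOf K).Normal := by
        rw [Subgroup.normal_subgroupOf_iff_le_normalizer hle, ← hmap]
        refine sup_le ((le_sup_right : A ≤ R ⊔ A).trans Subgroup.le_normalizer) fun e he => ?_
        refine Lib.LocalChar.mem_normalizer_of_conj_map_le ?_
        rw [Subgroup.map_sup]
        refine sup_le ((Lib.LocalChar.conj_map_eq_of_mem
          (Subgroup.normalizer_commutator_ge_left E A he)).le.trans le_sup_left) ?_
        rintro _ ⟨a, ha, rfl⟩
        have h1 := mul_mem (le_sup_left (b := A) (Subgroup.commutator_mem_commutator he ha))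
          (le_sup_right (a := R) ha)
        simpa [commutatorElement_def, mul_assoc] using h1
      intro k hk
      have htop := hKmin _ hn.isSubnormal (Subgroup.comap_mono le_sup_right)
      have hmem : (⟨k, hk⟩ : ↥K) ∈ (R ⊔ A).subgroupOf K := htop ▸ Subgroup.mem_top _
      exact hmem
    exact Lib.LocalChar.resOf_le_of_le_sup hAp (hAK.trans hKR) hRA.ge

end Cfsg.Agent.S2814
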