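import Mathlib
import Cfsg.Agent.Lib.LocalChar.PClosed
import Cfsg.Agent.Lib.Components.GenFitting
import Cfsg.Statements.S2815
-- import your own Cfsg.Agent.* helpers here

set_option autoImplicit false
open Cfsg
open scoped commutatorElement Pointwise

namespace Cfsg.Agent.S2815

/-- Let H be a finite group and p a prime dividing its order with O_p(H) = 1, and suppose K = O^p(H) (generated by the elements of order prime to p) is quasisimple. Then K = F*(H); for every nontrivial p-subgroup Y of H, K = [K, Y] and K lies in the subgroup generated by the K-conjugates of Y; every normal subgroup of H not containing K has order prime to p; and H is p-irreducible. -/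
theorem result {H : Type*} [Group H] [Finite H] {p : ℕ} [Fact p.Prime] (hp : p ∣ Nat.card H) (hO : Cfsg.pCore p H = ⊥) (hq : Cfsg.IsQuasisimple ↥(Cfsg.pResidual p H)) : Cfsg.pResidual p H = Cfsg.generalizedFittingSubgroup H ∧ (∀ Y : Subgroup H, IsPGroup p ↥Y → Y ≠ ⊥ → ⁅Cfsg.pResidual p H, Y⁆ = Cfsg.pResidual p H ∧ Cfsg.pResidual p H ≤ ⨆ k : ↥(Cfsg.pResidual p H), Y.map (MulAut.conj (k : H)).toMonoidHom) ∧ (∀ C : Subgroup H, C.Normal → ¬ Cfsg.pResidual p H ≤ C → (Nat.card ↥C).Coprime p) ∧ Cfsg.IsPIrreducible p H := by
  classical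
  set K := Cfsg.pResidual p H with hKdef
  haveI hKn : K.Normal := by
    haveI := Lib.Transfer.pResidual_characteristic (G := H) (p := p)
    rw [hKdef]; infer_instance
  have hKc : IsComponent K := ⟨hKn.isSubnormal, hq⟩
  have hperfK : ⁅K, K⁆ = K := Lib.Components.quasisimple_commutator_self hq
  -- every component lies in K
  have hcomp : ∀ L : Subgroup H, IsComponent L → L = K := by
    intro L hL
    refine Lib.Components.isComponent_eq_of_le hL hKc ?_
    have hP : IsPGroup p (H ⧸ K) := Lib.Transfer.isPGroup_quotient_pResidual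
    by_contra hle
    have hne : L.map (QuotientGroup.mk' K) ≠ ⊥ := by
      rwa [Ne, Subgroup.map_eq_bot_iff, QuotientGroup.ker_mk']
    haveI : Group.IsNilpotent (H ⧸ K) := hP.isNilpotent
    have h1 := Group.IsSolvable.commutator_lt_of_ne_bot (G := H ⧸ K) hne
    rw [← Subgroup.map_commutator, Lib.Components.isComponent_commutator_self hL] at h1
    exact lt_irrefl _ h1
  have hlayer : layer H = K := le_antisymm
    (Lib.Components.layer_le_iff.mpr fun L hL => (hcomp L hL).le)
    (Lib.Components.isComponent_le_layer hKc)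
  -- normal nilpotent subgroups have order prime to p
  have hnil : ∀ N : Subgroup H, N.Normal → Group.IsNilpotent N → ∀ x ∈ N,
      Nat.Coprime (orderOf x) p := by
    intro N hN hNn x hx
    by_contra hc
    have hclosed : IsPClosed p ↥N := fun P =>
      Sylow.normal_of_normalizerCondition (Group.normalizerCondition_of_isNilpotent (G := N)) P
    have hd : p ∣ orderOf x := by
      by_contra hd
      exact hc ((Fact.out : p.Prime).coprime_iff_not_dvd.mpr hd).symm
    set y := x ^ (orderOf x / p) with hy
    have hyo : orderOf y = p := orderOf_pow_orderOf_div (orderOf_pos x).ne' hd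
    have hyp : IsPGroup p ↥(Subgroup.zpowers y) :=
      Lib.LocalChar.zpowers_isPGroup (k := 1) (by rw [pow_one, ← hyo, pow_orderOf_eq_one])
    have := Lib.LocalChar.le_pCore_of_normal_isPClosed hN hclosed
      (Subgroup.zpowers_le.mpr (pow_mem hx _)) hyp
    rw [hO] at this
    have hy1 : y = 1 := by simpa using this (Subgroup.mem_zpowers y)
    rw [hy1, orderOf_one] at hyo
    exact (Fact.out : p.Prime).one_lt.ne hyo
  have hFn : (fittingSubgroup H).Normal := Lib.Components.fittingSubgroup_normal
  have hF : fittingSubgroup H ≤ K := fun x hx => Lib.Transfer.mem_pResidual_of_coprime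
    (hnil _ hFn Lib.Components.fittingSubgroup_isNilpotent x hx)
  have hFs : generalizedFittingSubgroup H = K := by
    show layer H ⊔ fittingSubgroup H = K
    rw [hlayer, sup_eq_left]
    exact hF
  have hCK : Subgroup.centralizer (K : Set H) ≤ K := by
    have := Lib.Components.centralizer_generalizedFittingSubgroup_le (G := H)
    rwa [hFs] at this
  have hCcop : ∀ x ∈ Subgroup.centralizer (K : Set H), Nat.Coprime (orderOf x) p := by
    refine hnil _ inferInstance ?_
    refine Subgroup.isNilpotent_of_lowerCentralSeries_eq_bot (n := 1) ?_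
    rw [Subgroup.lowerCentralSeries_succ, Subgroup.lowerCentralSeries_zero,
      Subgroup.commutator_eq_bot_iff_le_centralizer]
    exact fun x hx => Subgroup.mem_centralizer_iff.mpr fun y hy =>
      (Subgroup.mem_centralizer_iff.mp hy x (hCK hx)).symm
  have hqn : ∀ N : Subgroup H, N.Normal → ¬ K ≤ N → N ≤ Subgroup.centralizer (K : Set H) := by
    intro N hN hle
    exact Subgroup.commutator_eq_bot_iff_le_centralizer.mp (by
      rw [Subgroup.commutator_comm]
      exact (Lib.Components.isComponent_le_or_commutator_eq_bot hKc hN.isSubnormal).resolve_left hle)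
  have h3 : ∀ C : Subgroup H, C.Normal → ¬ K ≤ C → (Nat.card ↥C).Coprime p := by
    intro C hC hle
    refine ((Fact.out : p.Prime).coprime_iff_not_dvd.mpr fun hd => ?_).symm
    obtain ⟨x, hx⟩ := exists_prime_orderOf_dvd_card' p hd
    have := hCcop x.1 (hqn C hC hle x.2)
    rw [Subgroup.orderOf_coe, hx, Nat.coprime_self] at this
    exact (Fact.out : p.Prime).one_lt.ne' this
  refine ⟨hFs.symm, ?_, h3, ?_, ?_⟩
  · intro Y hY hY1
    have hcl : K ≤ Subgroup.normalizer ((⁅K, Y⁆ : Subgroup H) : Set H) :=
      Subgroup.normalizer_commutator_ge_left K Y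
    have hle : ⁅K, Y⁆ ≤ K := Subgroup.commutator_le_left K Y
    have hKY : ⁅K, Y⁆ = K := by
      by_contra hne
      have hsn : (⁅K, Y⁆).IsSubnormal :=
        (Subgroup.normal_subgroupOf_of_le_normalizer hcl).isSubnormal.trans hle hKn.isSubnormal
      rcases Lib.Components.isComponent_le_or_commutator_eq_bot hKc hsn with h | h
      · exact hne (le_antisymm hle h)
      · have h1 : ⁅⁅K, Y⁆, K⁆ = ⊥ := by rw [Subgroup.commutator_comm, h]
        have h2 : ⁅⁅Y, K⁆, K⁆ = ⊥ := by rw [Subgroup.commutator_comm Y K, h1]
        have h0 := Subgroup.commutator_commutator_eq_bot_of_rotate h1 h2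
        rw [hperfK] at h0
        have hYC : Y ≤ Subgroup.centralizer (K : Set H) :=
          Subgroup.commutator_eq_bot_iff_le_centralizer.mp (by rw [Subgroup.commutator_comm]; exact h0)
        refine hY1 ((Subgroup.eq_bot_iff_forall _).mpr fun y hy => ?_)
        exact Lib.LocalChar.eq_one_of_mem_pGroup hY hy (hCcop y (hYC hy))
    refine ⟨hKY, hKY.symm.le.trans (Subgroup.commutator_le.mpr fun k hk y hy => ?_)⟩
    rw [commutatorElement_def]
    refine mul_mem (Subgroup.mem_iSup_of_mem ⟨k, hk⟩ ⟨y, hy, rfl⟩) (inv_mem ?_)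
    exact Subgroup.mem_iSup_of_mem (1 : K) ⟨y, hy, by simp⟩
  · intro hclosed
    obtain ⟨x, hx⟩ := exists_prime_orderOf_dvd_card' p hp
    have hxp : IsPGroup p ↥(Subgroup.zpowers x) :=
      Lib.LocalChar.zpowers_isPGroup (k := 1) (by rw [pow_one, ← hx, pow_orderOf_eq_one])
    have := Lib.LocalChar.le_pCore_of_isPClosed hclosed hxp
    rw [hO] at this
    have hx1 : x = 1 := by simpa using this (Subgroup.mem_zpowers x)
    rw [hx1, orderOf_one] at hx
    exact (Fact.out : p.Prime).one_lt.ne hx
  · intro N hN hnot
    by_contra hle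
    apply hnot
    refine (Lib.LocalChar.isPClosed_subgroup_iff N).mpr fun A hAN hA => ?_
    intro a ha
    have hc : Nat.Coprime (orderOf a) p :=
      Nat.Coprime.coprime_dvd_left (by
        have := orderOf_dvd_natCard (⟨a, hAN ha⟩ : N)
        rwa [← Subgroup.orderOf_coe] at this) (h3 N hN hle)
    rw [Lib.LocalChar.eq_one_of_mem_pGroup hA ha hc]
    exact one_mem _

end Cfsg.Agent.S2815
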