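import Mathlib
import Cfsg.Agent.Lib.LocalChar.FittingAction
import Cfsg.Statements.S2816
-- import your own Cfsg.Agent.* helpers here

set_option autoImplicit false
open Cfsg
open scoped commutatorElement Pointwise

namespace Cfsg.Agent.S2816

/-- Let H be a finite group and p a prime with O_p(H) = 1, and Y a p-subgroup of H. Then for every subnormal subgroup K of H containing Y, [F*(H), Y] = [F*(K), Y] = [F*(K), Y, Y]; and if Y₀ ≤ Y with [F*(H), Y, Y₀] = 1 then Y₀ = 1 (in particular [F*(H), Y] = 1 forces Y = 1). -/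
theorem result {H : Type*} [Group H] [Finite H] {p : ℕ} [Fact p.Prime] (hO : Cfsg.pCore p H = ⊥) (Y : Subgroup H) (hY : IsPGroup p ↥Y) : (∀ K : Subgroup H, K.IsSubnormal → Y ≤ K → ⁅Cfsg.generalizedFittingSubgroup H, Y⁆ = ⁅(Cfsg.generalizedFittingSubgroup ↥K).map K.subtype, Y⁆ ∧ ⁅(Cfsg.generalizedFittingSubgroup ↥K).map K.subtype, Y⁆ = ⁅⁅(Cfsg.generalizedFittingSubgroup ↥K).map K.subtype, Y⁆, Y⁆) ∧ (∀ Y₀ : Subgroup H, Y₀ ≤ Y → ⁅⁅Cfsg.generalizedFittingSubgroup H, Y⁆, Y₀⁆ = ⊥ → Y₀ = ⊥) := by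
  set F := Cfsg.generalizedFittingSubgroup H with hF
  have hD := Lib.LocalChar.genFitting_commutator_commutator hO hY
  refine ⟨fun K hK hYK => ?_, fun Y₀ hY₀ h => ?_⟩
  · set FK := (Cfsg.generalizedFittingSubgroup ↥K).map K.subtype with hFK
    have hFKF : FK ≤ F := Lib.LocalChar.map_genFitting_le_of_isSubnormal hK
    have hDK : ⁅F, Y⁆ ≤ K := Lib.LocalChar.le_of_isSubnormal_of_commutator_eq hK hYK hD
    haveI := Lib.Components.generalizedFittingSubgroup_normal (G := H)
    have hDF : ⁅F, Y⁆ ≤ FK :=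
      (le_inf hDK (Subgroup.commutator_le_left F Y)).trans (Lib.LocalChar.inf_genFitting_le hK)
    have heq : ⁅F, Y⁆ = ⁅FK, Y⁆ :=
      le_antisymm (hD.symm.le.trans (Subgroup.commutator_mono hDF le_rfl))
        (Subgroup.commutator_mono hFKF le_rfl)
    exact ⟨heq, by rw [← heq, hD]⟩
  · have hY0 := hY.to_le hY₀
    refine Lib.LocalChar.eq_bot_of_le_centralizer_genFitting hO hY0 ?_
    rw [Subgroup.le_centralizer_iff, ← Subgroup.commutator_eq_bot_iff_le_centralizer,
      ← Lib.LocalChar.genFitting_commutator_commutator hO hY0]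
    exact le_bot_iff.mp ((Subgroup.commutator_mono (Subgroup.commutator_mono le_rfl hY₀) le_rfl).trans h.le)

end Cfsg.Agent.S2816
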