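import Mathlib
import Cfsg.Agent.Lib.LocalChar.FittingAction
import Cfsg.Agent.Lib.Factorized.NilpotentFrattini
import Cfsg.Statements.S2817
-- import your own Cfsg.Agent.* helpers here

set_option autoImplicit false
open Cfsg
open scoped commutatorElement Pointwise

namespace Cfsg.Agent.S2817

/-- Let H be a finite group and p a prime with O_p(H) = 1, Q a p-subgroup of H, L = [F*(H), Q], and F the largest normal subgroup of F*(H) centralized by Q (a normal subgroup of F*(H) centralized by Q and containing every such). Then F = C_{F*(H)}(LQ); L = [L, Q]; L ∩ F ≤ Φ(L); every p-subgroup B of N_H(Q) with [L, B] ≤ F satisfies [L, B] = 1; and C_H(FL) has order prime to p. -/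
theorem result {H : Type*} [Group H] [Finite H] {p : ℕ} [Fact p.Prime] (hO : Cfsg.pCore p H = ⊥) (Q : Subgroup H) (hQ : IsPGroup p ↥Q) (L : Subgroup H) (hL : L = ⁅Cfsg.generalizedFittingSubgroup H, Q⁆) (F : Subgroup H) (hF : F ≤ Cfsg.generalizedFittingSubgroup H ∧ Cfsg.generalizedFittingSubgroup H ≤ Subgroup.normalizer (F : Set H) ∧ Q ≤ Subgroup.centralizer (F : Set H) ∧ ∀ N : Subgroup H, N ≤ Cfsg.generalizedFittingSubgroup H → Cfsg.generalizedFittingSubgroup H ≤ Subgroup.normalizer (N : Set H) → Q ≤ Subgroup.centralizer (N : Set H) → N ≤ F) : F = Cfsg.generalizedFittingSubgroup H ⊓ Subgroup.centralizer ((L ⊔ Q : Subgroup H) : Set H) ∧ ⁅L, Q⁆ = L ∧ L ⊓ F ≤ (frattini ↥L).map L.subtype ∧ (∀ B : Subgroup H, IsPGroup p ↥B → B ≤ Subgroup.normalizer (Q : Set H) → ⁅L, B⁆ ≤ F → ⁅L, B⁆ = ⊥) ∧ (Nat.card ↥(Subgroup.centralizer ((F ⊔ L : Subgroup H) : Set H))).Coprime p := by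
  classical
  obtain ⟨hFle, hFn, hQF, hFmax⟩ := hF
  set FS := Cfsg.generalizedFittingSubgroup H with hFSdef
  haveI hFSn : FS.Normal := Lib.Components.generalizedFittingSubgroup_normal
  haveI hΦn : (fittingSubgroup H).Normal := Lib.Components.fittingSubgroup_normal
  have hQFS : Q ≤ Subgroup.normalizer (FS : Set H) := by rw [Subgroup.normalizer_eq_top]; exact le_top
  have hLFS : L ≤ FS := hL ▸ Subgroup.commutator_le_left FS Q
  have hFSL : FS ≤ Subgroup.normalizer (L : Set H) := hL ▸ Subgroup.normalizer_commutator_ge_left FS Q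
  have hLsn : L.IsSubnormal :=
    Subgroup.IsSubnormal.step L FS hLFS hFSn.isSubnormal
      (Subgroup.normal_subgroupOf_of_le_normalizer hFSL)
  have hQL : Q ≤ Subgroup.normalizer (L : Set H) := hL ▸ Subgroup.normalizer_commutator_ge_right FS Q
  have hLQ : ⁅L, Q⁆ = L := by
    rw [hL]; exact Lib.LocalChar.genFitting_commutator_commutator hO hQ
  set C := FS ⊓ Subgroup.centralizer ((L ⊔ Q : Subgroup H) : Set H) with hCdef
  have hFC : F = C := by
    refine le_antisymm (le_inf hFle ?_) (hFmax C inf_le_left ?_ ?_)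
    · rw [Subgroup.le_centralizer_iff, sup_le_iff]
      refine ⟨?_, hQF⟩
      have hb : ⁅Q, F⁆ = ⊥ := Subgroup.commutator_eq_bot_iff_le_centralizer.mpr hQF
      have h1 : ⁅⁅Q, F⁆, FS⁆ = ⊥ := by rw [hb]; exact Subgroup.commutator_bot_left _
      have h2 : ⁅⁅F, FS⁆, Q⁆ = ⊥ := le_bot_iff.mp ((Subgroup.commutator_mono
        (Subgroup.le_normalizer_iff_commutator_le_left.mp hFn) le_rfl).trans
          (by rw [Subgroup.commutator_comm]; exact hb.le))
      have := Subgroup.commutator_commutator_eq_bot_of_rotate h1 h2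
      rw [← hL] at this
      exact Subgroup.commutator_eq_bot_iff_le_centralizer.mp this
    · intro e he
      refine Lib.LocalChar.mem_normalizer_of_conj_map_le ?_
      rintro _ ⟨c, ⟨hc1, hc2⟩, rfl⟩
      show e * c * e⁻¹ ∈ C
      refine ⟨FS.mul_mem (FS.mul_mem he hc1) (FS.inv_mem he), Subgroup.mem_centralizer_iff.mpr fun x hx => ?_⟩
      have hcl : c ∈ Subgroup.centralizer (L : Set H) :=
        Subgroup.centralizer_le (le_sup_left : L ≤ L ⊔ Q) hc2
      have hecl : e * c * e⁻¹ ∈ Subgroup.centralizer (L : Set H) :=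
        Lib.LocalChar.conj_mem_of_mem_normalizer
          (Lib.LocalChar.le_normalizer_centralizer_of_le hFSL he) hcl
      have hle : L ⊔ Q ≤ Subgroup.centralizer ({e * c * e⁻¹} : Set H) := by
        refine sup_le (fun l hl => ?_) fun q hq => ?_
        · rw [Subgroup.mem_centralizer_singleton_iff]
          exact Subgroup.mem_centralizer_iff.mp hecl l hl
        · rw [Subgroup.mem_centralizer_singleton_iff]
          have hl : ⁅e, q⁆ ∈ L := hL ▸ Subgroup.commutator_mem_commutator he hq
          have h1 : Commute ⁅e, q⁆ (e * c * e⁻¹) := Subgroup.mem_centralizer_iff.mp hecl _ hl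
          have h2 : Commute q c := Subgroup.mem_centralizer_iff.mp hc2 q (Subgroup.mem_sup_right hq)
          have h3 : Commute (e * q * e⁻¹) (e * c * e⁻¹) := by
            show e * q * e⁻¹ * (e * c * e⁻¹) = e * c * e⁻¹ * (e * q * e⁻¹)
            calc e * q * e⁻¹ * (e * c * e⁻¹) = e * (q * c) * e⁻¹ := by group
              _ = e * (c * q) * e⁻¹ := by rw [h2.eq]
              _ = _ := by group
          have h4 := h1.inv_left.mul_left h3
          rw [show (⁅e, q⁆)⁻¹ * (e * q * e⁻¹) = q by rw [commutatorElement_def]; group] at h4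
          exact h4.eq
      exact Subgroup.mem_centralizer_singleton_iff.mp (hle hx)
    · exact Subgroup.le_centralizer_iff.mp
        (inf_le_right.trans (Subgroup.centralizer_le (le_sup_right : Q ≤ L ⊔ Q)))
  have hFCL : F ≤ Subgroup.centralizer (L : Set H) :=
    hFC.le.trans (inf_le_right.trans (Subgroup.centralizer_le (le_sup_left : L ≤ L ⊔ Q)))
  -- `L ∩ F ≤ [L, L]`
  have hZ : L ⊓ F ≤ ⁅L, L⁆ := by
    rintro z ⟨hzL, hzF⟩
    letI : Fintype Q := Fintype.ofFinite Q
    let σ : H → L → L := fun q x => if h : q ∈ Q then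
      ⟨q * x * q⁻¹, Lib.LocalChar.conj_mem_of_mem_normalizer (hQL h) x.2⟩ else x
    have hσ : ∀ q ∈ Q, ∀ x : L, ((σ q x : L) : H) = q * x * q⁻¹ := fun q hq x => by
      simp only [σ, dif_pos hq]
    have hσm : ∀ q ∈ Q, ∀ x y : L, σ q (x * y) = σ q x * σ q y := fun q hq x y =>
      Subtype.ext (by simp only [Subgroup.coe_mul, hσ q hq]; group)
    let φ : L →* Abelianization L := MonoidHom.mk'
      (fun x => ∏ q : Q, Abelianization.of (σ q x)) fun x y => by
        simp only [hσm _ (SetLike.coe_mem _), map_mul, Finset.prod_mul_distrib]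
    have hinv : ∀ r ∈ Q, ∀ x : L, φ (σ r x) = φ x := by
      intro r hr x
      refine Fintype.prod_equiv (Equiv.mulRight ⟨r, hr⟩) _ _ fun q => ?_
      congr 1
      refine Subtype.ext ?_
      show ((σ (q : H) (σ r x) : L) : H) = ((σ ((q * ⟨r, hr⟩ : Q) : H) x : L) : H)
      rw [hσ _ q.2, hσ r hr, hσ _ (q * ⟨r, hr⟩ : Q).2, Subgroup.coe_mul]
      group
    have hker : L ≤ φ.ker.map L.subtype := by
      refine hLQ.symm.le.trans (Subgroup.commutator_le.mpr fun x hx r hr => ?_)
      refine ⟨⟨x, hx⟩ * σ r ⟨x⁻¹, inv_mem hx⟩, ?_, ?_⟩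
      · rw [SetLike.mem_coe, MonoidHom.mem_ker, map_mul, hinv r hr, ← map_mul]
        rw [show (⟨x, hx⟩ : L) * ⟨x⁻¹, inv_mem hx⟩ = 1 from Subtype.ext (mul_inv_cancel x), map_one]
      · show x * ((σ r ⟨x⁻¹, inv_mem hx⟩ : L) : H) = _
        rw [hσ r hr, commutatorElement_def]
        group
    obtain ⟨w, hw, hwz⟩ := hker hzL
    have hwz' : w = ⟨z, hzL⟩ := Subtype.ext hwz
    subst hwz'
    have hfix : ∀ q : Q, σ q ⟨z, hzL⟩ = ⟨z, hzL⟩ := fun q => by
      refine Subtype.ext ?_
      rw [hσ _ q.2]
      show (q : H) * z * (q : H)⁻¹ = z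
      rw [← Subgroup.mem_centralizer_iff.mp (hQF q.2) z hzF, mul_inv_cancel_right]
    have h1 : Abelianization.of (⟨z, hzL⟩ : L) ^ Nat.card Q = 1 := by
      have : φ ⟨z, hzL⟩ = 1 := hw
      simpa [φ, hfix, Finset.prod_const, Finset.card_univ, Nat.card_eq_fintype_card] using this
    have hzc : Nat.Coprime (orderOf z) p := by
      refine Lib.LocalChar.coprime_fitting_inf (L := L) hO ⟨hzL, ?_⟩
      set Z := L ⊓ Subgroup.centralizer (L : Set H)
      have hZsn : Z.IsSubnormal := Subgroup.IsSubnormal.step Z L inf_le_left hLsn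
        (Subgroup.normal_subgroupOf_of_le_normalizer (Lib.LocalChar.le_normalizer_inf_of_le
          Subgroup.le_normalizer (Lib.LocalChar.le_normalizer_centralizer_of_le Subgroup.le_normalizer)))
      refine Lib.LocalChar.le_fittingSubgroup_of_isSubnormal hZsn ?_ ⟨hzL, hFCL hzF⟩
      refine Subgroup.isNilpotent_of_lowerCentralSeries_eq_bot (n := 1) ?_
      rw [Subgroup.lowerCentralSeries_succ, Subgroup.lowerCentralSeries_zero,
        Subgroup.commutator_eq_bot_iff_le_centralizer]
      exact inf_le_right.trans (Subgroup.centralizer_le inf_le_left)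
    obtain ⟨n, hn⟩ := IsPGroup.iff_card.mp hQ
    have h2 : Abelianization.of (⟨z, hzL⟩ : L) = 1 := orderOf_eq_one_iff.mp
      (Nat.eq_one_of_dvd_coprimes (hn ▸ hzc.pow_right n)
        ((orderOf_map_dvd _ _).trans (Subgroup.orderOf_coe (⟨z, hzL⟩ : L)).symm.dvd)
        (orderOf_dvd_of_pow_eq_one h1))
    rw [← Subgroup.map_subtype_commutator]
    exact ⟨⟨z, hzL⟩, by rwa [← Abelianization.ker_of, SetLike.mem_coe, MonoidHom.mem_ker], rfl⟩
  refine ⟨hFC, hLQ, ?_, ?_, ?_⟩
  · rintro z hz
    obtain ⟨w, hw, rfl⟩ := (Subgroup.map_subtype_commutator L).symm.le (hZ hz)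
    refine ⟨w, ?_, rfl⟩
    rw [SetLike.mem_coe, frattini, Order.radical]
    simp only [Subgroup.mem_iInf]
    intro M hM
    by_contra hwM
    have hwc : ∀ x : L, x * w = w * x := fun x => Subtype.ext
      (Subgroup.mem_centralizer_iff.mp (hFCL hz.2) x x.2)
    have htop : Subgroup.zpowers w ⊔ M = ⊤ :=
      hM.2 _ (lt_of_le_of_ne le_sup_right fun e => hwM (e.symm ▸ Subgroup.mem_sup_left (Subgroup.mem_zpowers w)))
    haveI : M.Normal := Subgroup.normalizer_eq_top_iff.mp (top_le_iff.mp (htop ▸ sup_le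
      (Subgroup.zpowers_le.mpr (Subgroup.center_le_normalizer _ (Subgroup.mem_center_iff.mpr hwc)))
      Subgroup.le_normalizer))
    exact hwM (Lib.Factorized.commutator_le_of_normal_coatom hM hw)
  · intro B hB hBQ hBF
    have hBL : B ≤ Subgroup.normalizer (L : Set H) := hL ▸
      Lib.LocalChar.le_normalizer_commutator_of_le (by rw [Subgroup.normalizer_eq_top]; exact le_top) hBQ
    have hBZ : ⁅L, B⁆ ≤ L ⊓ F := le_inf (Subgroup.le_normalizer_iff_commutator_le_left.mp hBL) hBF
    have hfix : ⁅⁅L, L⁆, B⁆ = ⊥ := by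
      rw [Subgroup.commutator_eq_bot_iff_le_centralizer, Subgroup.commutator_le]
      intro x hx y hy
      rw [Subgroup.mem_centralizer_iff]
      intro b hb
      have key : ∀ u ∈ L, ∃ z ∈ L ⊓ F, b * u * b⁻¹ = z * u := fun u hu =>
        ⟨⁅u, b⁆⁻¹, inv_mem (hBZ (Subgroup.commutator_mem_commutator hu hb)), by
          rw [commutatorElement_def]; group⟩
      obtain ⟨z1, hz1, e1⟩ := key x hx
      obtain ⟨z2, hz2, e2⟩ := key y hy
      have hcz : ∀ z ∈ L ⊓ F, ∀ u ∈ L, Commute z u := fun z hz u hu =>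
        (Subgroup.mem_centralizer_iff.mp (hFCL hz.2) u hu).symm
      have h0 : b * ⁅x, y⁆ * b⁻¹ = ⁅x, y⁆ := by
        have := map_commutatorElement (MulAut.conj b).toMonoidHom x y
        simp only [MulEquiv.coe_toMonoidHom, MulAut.conj_apply, e1, e2] at this
        rw [this, commutatorElement_mul_left_eq_conj_mul]
        have ha : ⁅z1, z2 * y⁆ = 1 := commutatorElement_eq_one_iff_commute.mpr
          (hcz z1 hz1 _ (mul_mem hz2.1 hy))
        have hb2 : ⁅x, z2 * y⁆ = ⁅x, y⁆ := by
          have hh := (hcz z2 hz2 x hx).eq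
          simp only [commutatorElement_def]
          calc x * (z2 * y) * x⁻¹ * (z2 * y)⁻¹ = x * z2 * y * x⁻¹ * y⁻¹ * z2⁻¹ := by group
            _ = z2 * (x * y * x⁻¹ * y⁻¹) * z2⁻¹ := by rw [← hh]; group
            _ = _ := by
              rw [(hcz z2 hz2 _ (mul_mem (mul_mem (mul_mem hx hy) (inv_mem hx)) (inv_mem hy))).eq,
                mul_inv_cancel_right]
        rw [ha, hb2, mul_one,
          (hcz z1 hz1 _ (Subgroup.commutator_le.mpr (fun u hu v hv => mul_mem (mul_mem (mul_mem hu hv)
            (inv_mem hu)) (inv_mem hv)) (Subgroup.commutator_mem_commutator hx hy))).eq,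
          mul_inv_cancel_right]
      calc b * ⁅x, y⁆ = b * ⁅x, y⁆ * b⁻¹ * b := by group
        _ = _ := by rw [h0]
    have := (Lib.LocalChar.genFitting_commutator hLsn hLFS
      (fun _ h => Lib.LocalChar.coprime_fitting_inf hO h) hB hBL).2
    rw [← this]
    exact le_bot_iff.mp ((Subgroup.commutator_mono (hBZ.trans hZ) le_rfl).trans hfix.le)
  · refine Lib.LocalChar.coprime_card_of_forall fun x hx => ?_
    refine ((Fact.out : p.Prime).coprime_iff_not_dvd.mpr fun hd => ?_).symm
    set y := x ^ (orderOf x / p) with hydef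
    have hyo : orderOf y = p := orderOf_pow_orderOf_div (orderOf_pos x).ne' hd
    have hP : IsPGroup p ↥(Subgroup.zpowers y) :=
      Lib.LocalChar.zpowers_isPGroup (k := 1) (by rw [pow_one, ← hyo, pow_orderOf_eq_one])
    set P := Subgroup.zpowers y with hPdef
    have hPC : P ≤ Subgroup.centralizer ((F ⊔ L : Subgroup H) : Set H) :=
      Subgroup.zpowers_le.mpr (pow_mem hx _)
    have hFLP : F ⊔ L ≤ Subgroup.centralizer (P : Set H) := Subgroup.le_centralizer_iff.mp hPC
    have hΦFS : fittingSubgroup H ≤ FS := le_sup_right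
    have hlayFS : layer H ≤ FS := le_sup_left
    have hlayP : layer H ≤ Subgroup.centralizer (P : Set H) :=
      Lib.Components.layer_le_iff.mpr fun K hK => by
        have hKFS : K ≤ FS := (Lib.Components.isComponent_le_layer hK).trans hlayFS
        rcases Lib.LocalChar.component_le_commutator_or_centralized (Y := Q) hFSn.isSubnormal hQFS hK hKFS
          with h | h
        · exact (h.trans hL.symm.le).trans (le_sup_right.trans hFLP)
        · refine (hFmax K hKFS ?_ (Subgroup.le_centralizer_iff.mp h)).trans (le_sup_left.trans hFLP)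
          refine sup_le (Lib.Components.layer_le_normalizer_component hK) ?_
          exact (Subgroup.le_centralizer_iff.mp ((Lib.Components.isComponent_le_layer hK).trans
            Lib.Components.layer_le_centralizer_fittingSubgroup)).trans
              (Lib.Components.centralizer_le_normalizer_self K)
    set Φ := fittingSubgroup H with hΦdef
    have hNΦ : ∀ A : Subgroup H, A ≤ Subgroup.normalizer (Φ : Set H) := fun A => by
      rw [Subgroup.normalizer_eq_top]; exact le_top
    set U := ⁅Φ, Q⁆ with hUdef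
    have hUL : U ≤ L := hL ▸ Subgroup.commutator_mono hΦFS le_rfl
    have hUΦ : U ≤ Φ := Subgroup.commutator_le_left _ _
    have hΦU : Φ ≤ Subgroup.normalizer (U : Set H) := Subgroup.normalizer_commutator_ge_left Φ Q
    set T := Φ ⊓ Subgroup.centralizer (U : Set H) with hTdef
    have hTsn : T.IsSubnormal := Subgroup.IsSubnormal.step T Φ inf_le_left hΦn.isSubnormal
      (Subgroup.normal_subgroupOf_of_le_normalizer (Lib.LocalChar.le_normalizer_inf_of_le
        Subgroup.le_normalizer (Lib.LocalChar.le_normalizer_centralizer_of_le hΦU)))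
    have hQT : Q ≤ Subgroup.normalizer (T : Set H) := Lib.LocalChar.le_normalizer_inf_of_le (hNΦ Q)
      (Lib.LocalChar.le_normalizer_centralizer_of_le (Subgroup.normalizer_commutator_ge_right Φ Q))
    have hLlay : L ≤ layer H ⊔ U := by
      rw [hL, Subgroup.commutator_le]
      intro a ha q hq
      obtain ⟨l, hl, f, hf, rfl⟩ : a ∈ ((layer H : Subgroup H) : Set H) * (Φ : Set H) := by
        rw [← Subgroup.mul_normal]; exact ha
      dsimp only
      rw [commutatorElement_mul_left_eq_conj_mul]
      have hlN : (layer H).Normal := Lib.Components.layer_normal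
      have hfq : ⁅f, q⁆ ∈ U := Subgroup.commutator_mem_commutator hf hq
      refine mul_mem (Subgroup.mem_sup_right ?_) (Subgroup.mem_sup_left ?_)
      · rw [← Subgroup.mem_centralizer_iff.mp
          (Lib.Components.layer_le_centralizer_fittingSubgroup hl) _ (hUΦ hfq), mul_inv_cancel_right]
        exact hfq
      · have h := hlN.conj_mem _ (inv_mem hl) q
        simpa [commutatorElement_def, mul_assoc] using mul_mem hl h
    have hTC : T ⊓ Subgroup.centralizer (Q : Set H) ≤ F := by
      rw [hFC]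
      refine le_inf ((inf_le_left.trans inf_le_left).trans hΦFS) ?_
      rw [Subgroup.le_centralizer_iff, sup_le_iff]
      refine ⟨hLlay.trans (sup_le ?_ ?_), Subgroup.le_centralizer_iff.mp inf_le_right⟩
      · exact Lib.Components.layer_le_centralizer_fittingSubgroup.trans
          (Subgroup.centralizer_le (inf_le_left.trans inf_le_left))
      · exact Subgroup.le_centralizer_iff.mp (inf_le_left.trans inf_le_right)
    have hTP : T ≤ Subgroup.centralizer (P : Set H) := by
      rw [← (Lib.LocalChar.genFitting_commutator hTsn (inf_le_left.trans hΦFS)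
        (fun _ h => Lib.LocalChar.coprime_fitting_inf hO h) hQ hQT).1]
      exact sup_le (((Subgroup.commutator_mono inf_le_left le_rfl).trans hUL).trans
        (le_sup_right.trans hFLP)) (hTC.trans (le_sup_left.trans hFLP))
    have hPU : ⁅P, U⁆ = ⊥ := Subgroup.commutator_eq_bot_iff_le_centralizer.mpr
      (Subgroup.le_centralizer_iff.mp (hUL.trans (le_sup_right.trans hFLP)))
    have hWU : ⁅⁅Φ, P⁆, U⁆ = ⊥ := by
      refine Subgroup.commutator_commutator_eq_bot_of_rotate ?_ ?_
      · rw [hPU]; exact Subgroup.commutator_bot_left _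
      · exact le_bot_iff.mp ((Subgroup.commutator_mono
          (Subgroup.le_normalizer_iff_commutator_le_left.mp hΦU) le_rfl).trans
            (by rw [Subgroup.commutator_comm]; exact hPU.le))
    have hWT : ⁅Φ, P⁆ ≤ T :=
      le_inf (Subgroup.commutator_le_left _ _) (Subgroup.commutator_eq_bot_iff_le_centralizer.mp hWU)
    have hΦP : ⁅Φ, P⁆ = ⊥ := by
      rw [← (Lib.LocalChar.genFitting_commutator hΦn.isSubnormal hΦFS
        (fun _ h => Lib.LocalChar.coprime_fitting_inf hO h) hP (hNΦ P)).2]
      exact Subgroup.commutator_eq_bot_iff_le_centralizer.mpr (hWT.trans hTP)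
    have hbot : P = ⊥ := Lib.LocalChar.eq_bot_of_le_centralizer_genFitting hO hP
      (Subgroup.le_centralizer_iff.mp
        (sup_le hlayP (Subgroup.commutator_eq_bot_iff_le_centralizer.mp hΦP)))
    have hy1 : y = 1 := by
      have := Subgroup.mem_zpowers y
      rw [← hPdef, hbot] at this
      simpa using this
    rw [hy1, orderOf_one] at hyo
    exact (Fact.out : p.Prime).one_lt.ne hyo

end Cfsg.Agent.S2817
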