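import Mathlib
import Cfsg.Agent.Lib.LocalChar.Frattini
import Cfsg.Agent.Lib.LocalChar.PClosed
import Cfsg.Agent.Lib.LocalChar.Reduced
import Cfsg.Statements.S2818
-- import your own Cfsg.Agent.* helpers here

set_option autoImplicit false
open Cfsg
open scoped commutatorElement Pointwise

namespace Cfsg.Agent.S2818

/-- Let P be a finite p-subgroup of a group G and H a subgroup of N_G(P) with [P, H] ≤ Ω₁(Z(P)) (the elements of order dividing p in the centre of P). Then H centralizes the Frattini subgroup of P. -/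
theorem result {G : Type*} [Group G] [Finite G] {p : ℕ} [Fact p.Prime] (P : Subgroup G) (hP : IsPGroup p ↥P) (H : Subgroup G) (hH : H ≤ Subgroup.normalizer (P : Set G)) (h : ⁅P, H⁆ ≤ Cfsg.omegaOne p (P ⊓ Subgroup.centralizer (P : Set G))) : ⁅(frattini ↥P).map P.subtype, H⁆ = ⊥ := by
  set Z := omegaOne p (P ⊓ Subgroup.centralizer (P : Set G)) with hZ
  have hZc : ∀ z ∈ Z, ∀ x ∈ P, z * x = x * z := fun z hz x hx =>
    (Subgroup.mem_centralizer_iff.mp (Lib.Omega.le_self p _ hz).2 x hx).symm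
  have hZp : ∀ z ∈ Z, z ^ p = 1 :=
    (Lib.Omega.inter_centralizer_isElementaryAbelian (p := p) P).2
  have hconj : ∀ h' ∈ H, ∀ x ∈ P, ∃ z ∈ Z, h' * x * h'⁻¹ = z * x := by
    intro h' hh' x hx
    refine ⟨⁅x, h'⁆⁻¹, inv_mem (h (Subgroup.commutator_mem_commutator hx hh')), ?_⟩
    rw [commutatorElement_def]; group
  rw [Subgroup.commutator_eq_bot_iff_le_centralizer]
  refine (Lib.LocalChar.frattini_map_le (p := p) (K := P ⊓ Subgroup.centralizer (H : Set G)) ?_ ?_).trans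
    inf_le_right
  · rw [Subgroup.commutator_le]
    intro x hx y hy
    refine ⟨P.commutator_le_self (Subgroup.commutator_mem_commutator hx hy), ?_⟩
    refine Subgroup.mem_centralizer_iff.mpr fun h' hh' => ?_
    obtain ⟨z, hz, hzx⟩ := hconj h' hh' x hx
    obtain ⟨w, hw, hwy⟩ := hconj h' hh' y hy
    have hwP : w ∈ P := (Lib.Omega.le_self p _ hw).1
    have e1 : ⁅z * x, w * y⁆ = ⁅x, y⁆ := by
      have a1 : ⁅z * x, w * y⁆ = z * x * w * y * x⁻¹ * z⁻¹ * y⁻¹ * w⁻¹ := by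
        rw [commutatorElement_def]; group
      have a2 : x * w = w * x := (hZc w hw x hx).symm
      have a3 : z⁻¹ * y⁻¹ = y⁻¹ * z⁻¹ := hZc _ (inv_mem hz) _ (inv_mem hy)
      calc ⁅z * x, w * y⁆ = z * (x * w) * y * x⁻¹ * (z⁻¹ * y⁻¹) * w⁻¹ := by rw [a1]; group
        _ = z * w * (x * y * x⁻¹ * y⁻¹) * (z⁻¹ * w⁻¹) := by rw [a2, a3]; group
        _ = (x * y * x⁻¹ * y⁻¹) * (z * w) * (z⁻¹ * w⁻¹) := by
          rw [hZc (z * w) (mul_mem hz hw) _
            (mul_mem (mul_mem (mul_mem hx hy) (inv_mem hx)) (inv_mem hy))]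
        _ = ⁅x, y⁆ := by
          rw [commutatorElement_def, ← hZc _ (inv_mem hw) _ (inv_mem (Lib.Omega.le_self p _ hz).1)]
          group
    have e2 : h' * ⁅x, y⁆ * h'⁻¹ = ⁅x, y⁆ := by
      rw [conjugate_commutatorElement, hzx, hwy, e1]
    exact mul_inv_eq_iff_eq_mul.mp e2
  · intro a ha
    refine ⟨pow_mem ha p, Subgroup.mem_centralizer_iff.mpr fun h' hh' => ?_⟩
    obtain ⟨z, hz, hza⟩ := hconj h' hh' a ha
    have e2 : h' * a ^ p * h'⁻¹ = a ^ p := by
      rw [← conj_pow, hza, (show Commute z a from hZc z hz a ha).mul_pow, hZp z hz, one_mul]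
    exact mul_inv_eq_iff_eq_mul.mp e2

end Cfsg.Agent.S2818
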