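import Mathlib
import Cfsg.Agent.Lib.LocalChar.Frattini
import Cfsg.Agent.Lib.LocalChar.PClosed
import Cfsg.Agent.Lib.LocalChar.Reduced
import Cfsg.Statements.S2819
-- import your own Cfsg.Agent.* helpers here

set_option autoImplicit false
open Cfsg
open scoped commutatorElement Pointwise

namespace Cfsg.Agent.S2819

/-- Let P be a finite p-subgroup of a group G, H a subgroup of N_G(P), and Y a subgroup of H centralizing the derived subgroup P' such that [P, Y] is elementary abelian. Then O^p(⟨Y^H⟩), the subgroup of the normal closure of Y in H generated by its elements of order prime to p, centralizes the Frattini subgroup of P. -/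
theorem result {G : Type*} [Group G] [Finite G] {p : ℕ} [Fact p.Prime] (P : Subgroup G) (hP : IsPGroup p ↥P) (H : Subgroup G) (hH : H ≤ Subgroup.normalizer (P : Set G)) (Y : Subgroup G) (hYH : Y ≤ H) (hYc : Y ≤ Subgroup.centralizer ((⁅P, P⁆ : Subgroup G) : Set G)) (hel : Cfsg.IsElementaryAbelian p ⁅P, Y⁆) (NY : Subgroup G) (hNY : NY = (Subgroup.normalClosure ((Y.subgroupOf H : Subgroup ↥H) : Set ↥H)).map H.subtype) : (Cfsg.pResidual p ↥NY).map NY.subtype ≤ Subgroup.centralizer (((frattini ↥P).map P.subtype : Subgroup G) : Set G) := by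
  classical
  set D : Subgroup G := ⁅P, P⁆ with hD
  have hDP : D ≤ P := P.commutator_le_self
  have hND : Subgroup.normalizer (P : Set G) ≤ Subgroup.normalizer (D : Set G) :=
    Lib.LocalChar.le_normalizer_commutator_of_le le_rfl le_rfl
  set F : Subgroup G := (frattini ↥P).map P.subtype with hF
  have hFP : F ≤ P := Subgroup.map_subtype_le _
  have hNF : Subgroup.normalizer (P : Set G) ≤ Subgroup.normalizer (F : Set G) :=
    Lib.LocalChar.le_normalizer_map_subtype
  -- the elements acting trivially on `F D / D`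
  let S : Subgroup G :=
    { carrier := {g | g ∈ Subgroup.normalizer (P : Set G) ∧ ∀ r ∈ F, ⁅r, g⁆ ∈ D}
      one_mem' := ⟨one_mem _, fun r _ => by simp⟩
      mul_mem' := by
        rintro g g' ⟨hg, hg'⟩ ⟨hk, hk'⟩
        refine ⟨mul_mem hg hk, fun r hr => ?_⟩
        rw [commutatorElement_mul_right_eq_mul_conj]
        have h1 := mul_mem (hg' r hr)
          (Lib.LocalChar.conj_mem_of_mem_normalizer (hND hg) (hk' r hr))
        simpa [MulAut.conj_apply, mul_assoc] using h1
      inv_mem' := by
        rintro g ⟨hg, hg'⟩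
        refine ⟨inv_mem hg, fun r hr => ?_⟩
        rw [commutatorElement_inv_right, ← commutatorElement_inv r g]
        exact Lib.LocalChar.conj_mem_of_mem_normalizer' (hND hg) (inv_mem (hg' r hr)) }
  -- `P` normalises `D`, so `a ↦ [a, y]` is multiplicative modulo `D`
  have hYS : Y ≤ S := by
    intro y hy
    have hyN : y ∈ Subgroup.normalizer (P : Set G) := hH (hYH hy)
    refine ⟨hyN, ?_⟩
    let K : Subgroup G :=
      { carrier := {a | a ∈ P ∧ ⁅a, y⁆ ∈ D}
        one_mem' := ⟨one_mem _, by simp⟩
        mul_mem' := by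
          rintro a b ⟨ha, ha'⟩ ⟨hb, hb'⟩
          refine ⟨mul_mem ha hb, ?_⟩
          rw [commutatorElement_mul_left_eq_conj_mul]
          have h1 := mul_mem
            (Lib.LocalChar.conj_mem_of_mem_normalizer (hND (Subgroup.le_normalizer ha)) hb') ha'
          simpa [MulAut.conj_apply, mul_assoc] using h1
        inv_mem' := by
          rintro a ⟨ha, ha'⟩
          refine ⟨inv_mem ha, ?_⟩
          rw [commutatorElement_inv_left, ← commutatorElement_inv a y]
          exact Lib.LocalChar.conj_mem_of_mem_normalizer' (hND (Subgroup.le_normalizer ha))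
            (inv_mem ha') }
    have hle : F ≤ K := by
      refine Lib.LocalChar.frattini_map_le (p := p) (fun d hd => ⟨hDP hd, ?_⟩) fun a ha => ⟨pow_mem ha p, ?_⟩
      · have h1 : d * y = y * d := Subgroup.mem_centralizer_iff.mp (hYc hy) d hd
        rw [commutatorElement_eq_one_iff_mul_comm.mpr h1]; exact one_mem _
      · have hc : ⁅a, y⁆ ∈ P :=
          Subgroup.le_normalizer_iff_commutator_le_left.mp ((hYH.trans hH))
            (Subgroup.commutator_mem_commutator ha hy)
        have hcp : ⁅a, y⁆ ^ p = 1 := hel.2 _ (Subgroup.commutator_mem_commutator ha hy)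
        have key : ⁅a ^ p, y⁆ = a ^ p * ((⁅a, y⁆⁻¹ * a) ^ p)⁻¹ := by
          have e : y * a * y⁻¹ = ⁅a, y⁆⁻¹ * a := by rw [commutatorElement_def]; group
          rw [← e, conj_pow, commutatorElement_def]; group
        have hmem : ⁅a ^ p, y⁆ ∈ P := by
          rw [key]; exact mul_mem (pow_mem ha p) (inv_mem (pow_mem (mul_mem (inv_mem hc) ha) p))
        let π := QuotientGroup.mk' (commutator ↥P)
        have hz : π ⟨_, hmem⟩ = 1 := by
          have e : (⟨_, hmem⟩ : ↥P) = (⟨a, ha⟩ : ↥P) ^ p *
              (((⟨_, hc⟩ : ↥P)⁻¹ * ⟨a, ha⟩) ^ p)⁻¹ := Subtype.ext (by simpa using key)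
          have hcomm : Commute (π ((⟨_, hc⟩ : ↥P)⁻¹)) (π ⟨a, ha⟩) :=
            commutatorElement_eq_one_iff_commute.mp (by
              rw [← map_commutatorElement]
              exact (QuotientGroup.eq_one_iff _).mpr
                (Subgroup.commutator_mem_commutator (Subgroup.mem_top _) (Subgroup.mem_top _)))
          have hcp' : (⟨_, hc⟩ : ↥P) ^ p = 1 := Subtype.ext (by simpa using hcp)
          rw [e, map_mul, map_inv, map_pow, map_pow, map_mul, hcomm.mul_pow, map_inv, inv_pow,
            ← map_pow π (⟨_, hc⟩ : ↥P) p, hcp', map_one, inv_one, one_mul, ← map_pow, mul_inv_cancel]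
        have h2 : (⟨_, hmem⟩ : ↥P) ∈ commutator ↥P := (QuotientGroup.eq_one_iff _).mp hz
        rw [hD, ← Subgroup.map_subtype_commutator]
        exact ⟨_, h2, rfl⟩
    exact fun r hr => (hle hr).2
  have hHS : H ≤ Subgroup.normalizer (S : Set G) := by
    refine fun g hg => Lib.LocalChar.mem_normalizer_of_conj_map_le ?_
    rintro _ ⟨s, ⟨hs, hs'⟩, rfl⟩
    refine ⟨?_, fun r hr => ?_⟩
    · simpa using mul_mem (mul_mem (hH hg) hs) (inv_mem (hH hg))
    · have h1 := Lib.LocalChar.conj_mem_of_mem_normalizer (hND (hH hg))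
        (hs' _ (Lib.LocalChar.conj_mem_of_mem_normalizer' (hNF (hH hg)) hr))
      rw [conjugate_commutatorElement] at h1
      simpa [mul_assoc] using h1
  have hNYle : ∀ M : Subgroup G, Y ≤ M → H ≤ Subgroup.normalizer (M : Set G) → NY ≤ M := by
    intro M hYM hHM
    rw [hNY, Subgroup.map_le_iff_le_comap]
    haveI : (M.comap H.subtype).Normal := ⟨fun x hx g =>
      show ((g * x * g⁻¹ : ↥H) : G) ∈ M from Lib.LocalChar.conj_mem_of_mem_normalizer (hHM g.2) hx⟩
    exact Subgroup.normalClosure_le_normal fun x hx => hYM hx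
  rw [Lib.LocalChar.resOf_le_iff]
  intro x hx hc
  refine Lib.LocalChar.mem_centralizer_of_two_step (K := F ⊓ D) (hP.to_le hFP) inf_le_left hc ?_ ?_
  · exact Subgroup.centralizer_le inf_le_right
      (hNYle _ hYc (hH.trans (hND.trans (Lib.LocalChar.le_normalizer_centralizer_of_le le_rfl))) hx)
  · intro r hr
    have hxS := hNYle S hYS hHS hx
    exact ⟨Subgroup.le_normalizer_iff_commutator_le_left.mp
      (show Subgroup.normalizer (P : Set G) ≤ Subgroup.normalizer (F : Set G) from hNF)
      (Subgroup.commutator_mem_commutator hr hxS.1), hxS.2 r hr⟩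

end Cfsg.Agent.S2819
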