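import Mathlib
import Cfsg.Agent.Lib.LocalChar.Core
import Cfsg.Agent.Lib.Components.Subnormal
import Cfsg.Statements.S2820
-- import your own Cfsg.Agent.* helpers here

set_option autoImplicit false
open Cfsg
open scoped commutatorElement Pointwise

namespace Cfsg.Agent.S2820

/-- Let A and B be subnormal subgroups of the finite group H with A a p-group and B = O^p(B) (B generated by its elements of order prime to p). Then A normalizes B and B = O^p(AB), the subgroup of ⟨A, B⟩ generated by its elements of order prime to p. -/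
theorem result {H : Type*} [Group H] [Finite H] {p : ℕ} [Fact p.Prime] (A B : Subgroup H) (hA : A.IsSubnormal) (hB : B.IsSubnormal) (hAp : IsPGroup p ↥A) (hBres : (Cfsg.pResidual p ↥B).map B.subtype = B) : A ≤ Subgroup.normalizer (B : Set H) ∧ (Cfsg.pResidual p ↥(A ⊔ B)).map (A ⊔ B).subtype = B := by
  haveI hsub : ((A ⊔ B : Subgroup H)).IsSubnormal := Lib.Components.subnormal_sup hA hB
  set X : Subgroup H := A ⊔ B with hX
  have hA' : A.subgroupOf X ≤ pCore p ↥X :=
    Lib.LocalChar.le_pCore_of_isSubnormal hA.subgroupOf hAp.comap_subtype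
  set D : Subgroup H := pCoreOf p X with hD
  have hAD : A ≤ D := fun a ha => ⟨⟨a, le_sup_left (b := B) ha⟩, hA' ha, rfl⟩
  -- `O^p(X) ≤ B`, by going down a subnormal series of `B` in `X`
  have key : ∀ K : Subgroup ↥X, K.IsSubnormal → B.subgroupOf X ≤ K → pResidual p ↥X ≤ K := by
    intro K hK
    induction hK with
    | top => intro _; exact le_top
    | step M N hle _ hN ih =>
      intro hBM
      have h1 : pResidual p ↥X ≤ N := ih (hBM.trans hle)
      have h2 : N ≤ M ⊔ (pCore p ↥X ⊓ N) := by
        intro x hx
        have htop : x ∈ B.subgroupOf X ⊔ pCore p ↥X := by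
          have hle' : X ≤ (B.subgroupOf X ⊔ pCore p ↥X).map X.subtype := by
            rw [Subgroup.map_sup, Subgroup.map_subgroupOf_eq_of_le le_sup_right]
            exact sup_le (hAD.trans le_sup_right) le_sup_left
          obtain ⟨y, hy, hyx⟩ := hle' x.2
          rwa [← show y = x from Subtype.ext hyx]
        rw [← SetLike.mem_coe, Subgroup.mul_normal] at htop
        obtain ⟨b, hb, d, hd, rfl⟩ := htop
        exact mul_mem (le_sup_left (b := pCore p ↥X ⊓ N) (hBM hb))
          (le_sup_right (a := M) ⟨hd, by simpa using mul_mem (inv_mem (hle (hBM hb))) hx⟩)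
      refine Lib.Transfer.pResidual_le_iff.mpr fun g hg => ?_
      refine Lib.LocalChar.mem_of_le_sup (Lib.PSolvable.pCore_isPGroup.to_le inf_le_left) ?_
        (h2 (h1 (Lib.Transfer.mem_pResidual_of_coprime hg))) hg
      exact inf_le_right.trans ((Subgroup.normal_subgroupOf_iff_le_normalizer hle).mp hN)
  have hXB : (pResidual p ↥X).map X.subtype ≤ B := by
    refine (Subgroup.map_mono (key _ hB.subgroupOf le_rfl)).trans ?_
    rw [Subgroup.map_subgroupOf_eq_of_le le_sup_right]
  have hBX : B ≤ (pResidual p ↥X).map X.subtype := by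
    rw [← hBres]; exact Lib.LocalChar.resOf_mono le_sup_right
  have heq := le_antisymm hXB hBX
  refine ⟨?_, heq⟩
  rw [← heq]
  exact (le_sup_left : A ≤ X).trans (Lib.LocalChar.le_normalizer_resOf X)

end Cfsg.Agent.S2820
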