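import Mathlib
import Cfsg.Agent.Lib.LocalChar.Frattini
import Cfsg.Agent.Lib.LocalChar.PClosed
import Cfsg.Agent.Lib.LocalChar.Reduced
import Cfsg.Statements.S2822
-- import your own Cfsg.Agent.* helpers here

set_option autoImplicit false
open Cfsg
open scoped commutatorElement Pointwise

namespace Cfsg.Agent.S2822

/-- Let H be a finite group, p a prime, T a Sylow p-subgroup, and L, M subgroups of characteristic p containing T, with largest p-reduced normal subgroups Y_L, Y_M. If L·C_H(Y_M) = M·C_H(Y_M), then Y_M ≤ Y_L. -/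
theorem result {H : Type*} [Group H] [Finite H] {p : ℕ} [Fact p.Prime] (T : Sylow p H) (L M : Subgroup H) (hTL : (T : Subgroup H) ≤ L) (hTM : (T : Subgroup H) ≤ M) (hL : Subgroup.centralizer (Cfsg.pCore p ↥L : Set ↥L) ≤ Cfsg.pCore p ↥L) (hM : Subgroup.centralizer (Cfsg.pCore p ↥M : Set ↥M) ≤ Cfsg.pCore p ↥M) : L ⊔ Subgroup.centralizer (((Cfsg.largestPReducedOf p M) : Subgroup H) : Set H) = M ⊔ Subgroup.centralizer (((Cfsg.largestPReducedOf p M) : Subgroup H) : Set H) → (Cfsg.largestPReducedOf p M) ≤ (Cfsg.largestPReducedOf p L) := by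
  intro hX
  set Y := largestPReducedOf p M with hY
  have hr := Lib.LocalChar.isRedIn_largest (p := p) M
  have hLN : L ≤ Subgroup.normalizer (Y : Set H) := by
    refine (le_sup_left.trans hX.le).trans (sup_le hr.2.1 (Subgroup.centralizer_le_normalizer _))
  refine Lib.LocalChar.IsRedIn.le_largest ⟨?_, hLN, hr.2.2.1, fun D hD hn hc => ?_⟩
  · exact hr.le_pCoreOf.trans ((Lib.LocalChar.pCoreOf_le_sylow T hTM).trans hTL)
  · -- move `D` into `M` modulo `C(Y)`
    set C := Subgroup.centralizer (Y : Set H) with hC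
    have hMN : M ≤ Subgroup.normalizer (C : Set H) := Lib.LocalChar.le_normalizer_centralizer_of_le hr.2.1
    have hLC : L ≤ Subgroup.normalizer (C : Set H) := Lib.LocalChar.le_normalizer_centralizer_of_le hLN
    have hD' := hr.2.2.2 (M ⊓ (D ⊔ C)) inf_le_left ?_ ?_
    · intro d hd
      have h1 : d ∈ M ⊔ C := hX.le (le_sup_left (b := C) (hD hd))
      rw [← SetLike.mem_coe, Subgroup.coe_mul_of_left_le_normalizer_right M C hMN] at h1
      obtain ⟨m, hm, c, hc', rfl⟩ := h1
      refine mul_mem (hD' ⟨hm, ?_⟩) hc'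
      have h2 := mul_mem (le_sup_left (b := C) hd) (inv_mem (le_sup_right (a := D) hc'))
      simpa using h2
    · refine Lib.LocalChar.le_normalizer_inf_of_le Subgroup.le_normalizer ?_
      refine (le_sup_left.trans hX.ge).trans (sup_le ?_ (Subgroup.le_normalizer.trans' le_sup_right))
      exact Lib.LocalChar.le_normalizer_sup_of_le hn hLC
    · intro x hx hxc
      have hmem := hx.2
      replace hmem : x ∈ ((D ⊔ C : Subgroup H) : Set H) := hmem
      rw [Subgroup.coe_mul_of_left_le_normalizer_right D C (hD.trans hLC)] at hmem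
      obtain ⟨d, hd, c, hc', rfl⟩ := hmem
      -- the image of `D` in `N(C)/C` is a `p`-group
      obtain ⟨m, hm⟩ := Lib.Transfer.exists_pow_coprime (p := p) d
      have hdC : d ^ p ^ m ∈ C := hc _ (pow_mem hd _) hm
      refine Lib.LocalChar.mem_of_pow_mem_of_coprime (k := m) ?_ hxc
      have hpow : ∀ n : ℕ, (d * c) ^ n * (d ^ n)⁻¹ ∈ C := by
        intro n
        induction n with
        | zero => simp
        | succ n ih =>
          have e : (d * c) ^ (n + 1) * (d ^ (n + 1))⁻¹ =
              ((d * c) ^ n * (d ^ n)⁻¹) * (d ^ (n + 1) * c * (d ^ (n + 1))⁻¹) := by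
            rw [pow_succ, pow_succ]; group
          rw [e]
          exact mul_mem ih (Lib.LocalChar.conj_mem_of_mem_normalizer
            (hLC (hD (pow_mem hd _))) hc')
      simpa using mul_mem (hpow (p ^ m)) hdC

end Cfsg.Agent.S2822
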