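import Mathlib
import Cfsg.Agent.Lib.LocalChar.PClosed
import Cfsg.Agent.Lib.LocalChar.Center
import Cfsg.Statements.S2823
-- import your own Cfsg.Agent.* helpers here

set_option autoImplicit false
open Cfsg
open scoped commutatorElement Pointwise

namespace Cfsg.Agent.S2823

/-- Let H be a finite group, p a prime, T a Sylow p-subgroup and L a subgroup of characteristic p containing T; let Z_L be the subgroup generated by the Ω₁(Z(S)) over the Sylow p-subgroups S of L and O^p(L) the subgroup generated by the elements of L of order prime to p. Then Z_L = Ω₁(Z(L))·[Z_L, O^p(L)] and [Z_L, L] = [Z_L, O^p(L)]. -/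
theorem result {H : Type*} [Group H] [Finite H] {p : ℕ} [Fact p.Prime] (T : Sylow p H) (L : Subgroup H) (hTL : (T : Subgroup H) ≤ L) (hL : Subgroup.centralizer (Cfsg.pCore p ↥L : Set ↥L) ≤ Cfsg.pCore p ↥L) : Cfsg.sylowCenterClosure p L = (Cfsg.omegaOne p (L ⊓ Subgroup.centralizer ((L : Subgroup H) : Set H))) ⊔ ⁅Cfsg.sylowCenterClosure p L, (Cfsg.pResidual p ↥L).map L.subtype⁆ ∧ ⁅Cfsg.sylowCenterClosure p L, L⁆ = ⁅Cfsg.sylowCenterClosure p L, (Cfsg.pResidual p ↥L).map L.subtype⁆ := by
  set E := (pResidual p ↥L).map L.subtype with hE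
  set V := sylowCenterClosure p L with hVdef
  set W := ⁅V, E⁆ with hW
  set Z := omegaOne p ((T : Subgroup H) ⊓ Subgroup.centralizer ((T : Subgroup H) : Set H)) with hZ
  set A := omegaOne p (L ⊓ Subgroup.centralizer (L : Set H)) with hA
  have hV := Lib.LocalChar.isRedIn_sylowCenterClosure T hTL hL
  have hEL : E ≤ L := Lib.LocalChar.resOf_le L
  have hLE : L ≤ Subgroup.normalizer (E : Set H) := Lib.LocalChar.le_normalizer_resOf L
  have hWV : W ≤ V := Subgroup.le_normalizer_iff_commutator_le_left.mp (hEL.trans hV.2.1)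
  have hLW : L ≤ Subgroup.normalizer (W : Set H) :=
    Lib.LocalChar.le_normalizer_commutator_of_le hV.2.1 hLE
  have hAV : A ≤ V := by
    refine le_trans ?_ (Lib.LocalChar.omega_center_le_sylowCenterClosure T hTL)
    rw [hA, Lib.Omega.le_iff]
    intro z hz hzp
    refine Lib.Omega.mem_of_pow_eq_one ⟨?_, Subgroup.centralizer_le hTL hz.2⟩ hzp
    refine Lib.LocalChar.le_sylow_of_centralizes T
      (Lib.LocalChar.zpowers_isPGroup (k := 1) (by rwa [pow_one])) ?_ (Subgroup.mem_zpowers z)
    refine Subgroup.le_normalizer_iff.mpr fun t ht x hx => ?_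
    obtain ⟨n, rfl⟩ := Subgroup.mem_zpowers_iff.mp hx
    have hc : t * z = z * t := Subgroup.mem_centralizer_iff.mp hz.2 t (hTL ht)
    rw [(Commute.zpow_right (show Commute t z from hc) n).eq, mul_inv_cancel_right]
    exact Subgroup.zpow_mem _ (Subgroup.mem_zpowers z) n
  have hVle : V ≤ A ⊔ W := by
    refine Lib.LocalChar.sylowCenterClosure_le_iff T hTL
      (Lib.LocalChar.le_normalizer_sup_of_le ((Lib.LocalChar.le_normalizer_inf_of_le Subgroup.le_normalizer
        (Lib.LocalChar.le_normalizer_centralizer_of_le Subgroup.le_normalizer)).trans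
        (Lib.Omega.normalizer_le p _)) hLW) fun z hz => ?_
    have hzV : z ∈ V := Lib.LocalChar.omega_center_le_sylowCenterClosure T hTL hz
    have h := Lib.LocalChar.mem_sup_of_fixed hV.2.2.1 hV.2.1 hTL hEL (hTL.trans hLE)
      (Lib.LocalChar.resOf_sup_sylow' T hTL).ge (Lib.LocalChar.not_dvd_relIndex_sylow T L hTL) hzV
      (Lib.Omega.le_self p _ hz).2
    refine SetLike.le_def.mp (sup_le_sup ?_ inf_le_left) h
    exact fun x hx => Lib.Omega.mem_of_pow_eq_one ⟨hV.1 hx.1, hx.2⟩ (hV.2.2.1.2 x hx.1)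
  refine ⟨le_antisymm hVle (sup_le hAV hWV), le_antisymm ?_ (Subgroup.commutator_mono le_rfl hEL)⟩
  rw [Subgroup.commutator_le]
  intro v hv l hl
  have hv' := hVle hv
  rw [← SetLike.mem_coe, Subgroup.coe_mul_of_left_le_normalizer_right A W
    ((((Lib.Omega.le_self p _).trans inf_le_left)).trans hLW)] at hv'
  obtain ⟨a, ha, r, hr, rfl⟩ := hv'
  have hac : ⁅a, l⁆ = 1 := commutatorElement_eq_one_iff_mul_comm.mpr
    (Subgroup.mem_centralizer_iff.mp (Lib.Omega.le_self p _ ha).2 l hl).symm
  rw [commutatorElement_mul_left_eq_conj_mul, hac, mul_one]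
  have h1 : ⁅r, l⁆ ∈ W :=
    Subgroup.le_normalizer_iff_commutator_le_left.mp hLW (Subgroup.commutator_mem_commutator hr hl)
  simpa using Lib.LocalChar.conj_mem_of_mem_normalizer (hLW ((Lib.Omega.le_self p _ ha).1)) h1

end Cfsg.Agent.S2823
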