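import Mathlib
import Cfsg.Agent.Lib.LocalChar.ReducedSubnormal
import Cfsg.Statements.S2825
-- import your own Cfsg.Agent.* helpers here

set_option autoImplicit false
open Cfsg
open scoped commutatorElement Pointwise

namespace Cfsg.Agent.S2825

/-- Let L be a subnormal subgroup of the finite group H, p a prime, Y_H and Y_L the largest p-reduced normal subgroups. Then Y_H ∩ L = Y_H ∩ Y_L and this subgroup is a p-reduced normal subgroup of L; C_L(Y_L) = C_L(Y_H) = C_L(Y_H ∩ L); and if O^p(H) ≤ L, then [Y_L, L] = 1 if and only if [Y_H, H] = 1. -/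
theorem result {H : Type*} [Group H] [Finite H] {p : ℕ} [Fact p.Prime] (L : Subgroup H) (hL : L.IsSubnormal) : Cfsg.largestPReduced p H ⊓ L = Cfsg.largestPReduced p H ⊓ (Cfsg.largestPReducedOf p L) ∧ Cfsg.IsPReducedNormal p ((Cfsg.largestPReduced p H ⊓ L).subgroupOf L) ∧ L ⊓ Subgroup.centralizer ((Cfsg.largestPReducedOf p L : Subgroup H) : Set H) = L ⊓ Subgroup.centralizer (Cfsg.largestPReduced p H : Set H) ∧ L ⊓ Subgroup.centralizer (Cfsg.largestPReduced p H : Set H) = L ⊓ Subgroup.centralizer ((Cfsg.largestPReduced p H ⊓ L : Subgroup H) : Set H) ∧ (Cfsg.pResidual p H ≤ L → (⁅(Cfsg.largestPReducedOf p L), L⁆ = ⊥ ↔ ⁅Cfsg.largestPReduced p H, (⊤ : Subgroup H)⁆ = ⊥)) := by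
  have hY := Lib.LocalChar.isRedIn_largest (p := p) (⊤ : Subgroup H)
  rw [Lib.LocalChar.largestPReducedOf_top] at hY
  have hYL : Cfsg.largestPReduced p H ⊓ L ≤ Cfsg.largestPReducedOf p L :=
    (Lib.LocalChar.isRedIn_inf hL).le_largest
  have hCYV : L ⊓ Subgroup.centralizer ((Cfsg.largestPReduced p H ⊓ L : Subgroup H) : Set H) ≤
      Subgroup.centralizer (Cfsg.largestPReduced p H : Set H) :=
    Lib.LocalChar.inf_centralizer_inf_le hL
  have hLY : L ⊓ Subgroup.centralizer (Cfsg.largestPReduced p H : Set H) ≤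
      Subgroup.centralizer ((Cfsg.largestPReducedOf p L : Subgroup H) : Set H) :=
    Lib.LocalChar.inf_centralizer_le_largestPReducedOf hL
  have hYLY : L ⊓ Subgroup.centralizer ((Cfsg.largestPReducedOf p L : Subgroup H) : Set H) ≤
      Subgroup.centralizer (Cfsg.largestPReduced p H : Set H) :=
    (inf_le_inf_left L (Subgroup.centralizer_le hYL)).trans hCYV
  refine ⟨Lib.LocalChar.inf_largestPReducedOf_eq hL,
    (Lib.LocalChar.isPReducedNormal_iff inf_le_right).mpr (Lib.LocalChar.isRedIn_inf hL),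
    le_antisymm (le_inf inf_le_left hYLY) (le_inf inf_le_left hLY),
    le_antisymm (inf_le_inf_left L (Subgroup.centralizer_le inf_le_left)) (le_inf inf_le_left hCYV),
    fun hres => ?_⟩
  rw [Subgroup.commutator_eq_bot_iff_le_centralizer, Subgroup.commutator_eq_bot_iff_le_centralizer,
    Subgroup.le_centralizer_iff, Subgroup.le_centralizer_iff (H := Cfsg.largestPReduced p H)]
  refine ⟨fun h => ?_, fun h => (le_inf le_rfl (le_top.trans h)).trans hLY⟩
  exact hY.2.2.2 ⊤ le_rfl Subgroup.le_normalizer fun x _ hx =>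
    hYLY ⟨hres (Lib.Transfer.mem_pResidual_of_coprime hx),
      h (hres (Lib.Transfer.mem_pResidual_of_coprime hx))⟩

end Cfsg.Agent.S2825
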