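import Mathlib
import Cfsg.Agent.Lib.LocalChar.PClosed
import Cfsg.Agent.Lib.LocalChar.Center
import Cfsg.Statements.S2826
-- import your own Cfsg.Agent.* helpers here

set_option autoImplicit false
open Cfsg
open scoped commutatorElement Pointwise

namespace Cfsg.Agent.S2826

/-- Let H be a finite group of characteristic p, T a Sylow p-subgroup, and V a normal elementary abelian p-subgroup of H containing Ω₁(Z(T)). Then C_H(Ω₁(Z(T))) = C_H([V, O^p(H)] ∩ Ω₁(Z(T))), O^p(H) being generated by the elements of order prime to p. -/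
theorem result {H : Type*} [Group H] [Finite H] {p : ℕ} [Fact p.Prime] (hH : Subgroup.centralizer (Cfsg.pCore p H : Set H) ≤ Cfsg.pCore p H) (T : Sylow p H) (V : Subgroup H) [V.Normal] (hV : Cfsg.IsElementaryAbelian p V) (hZV : (Cfsg.omegaOne p ((T : Subgroup H) ⊓ Subgroup.centralizer (((T : Subgroup H) : Subgroup H) : Set H))) ≤ V) : Subgroup.centralizer ((Cfsg.omegaOne p ((T : Subgroup H) ⊓ Subgroup.centralizer (((T : Subgroup H) : Subgroup H) : Set H))) : Set H) = Subgroup.centralizer (((⁅V, Cfsg.pResidual p H⁆ ⊓ (Cfsg.omegaOne p ((T : Subgroup H) ⊓ Subgroup.centralizer (((T : Subgroup H) : Subgroup H) : Set H)))) : Subgroup H) : Set H) := by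
  set E := pResidual p H with hE
  set Z := omegaOne p ((T : Subgroup H) ⊓ Subgroup.centralizer ((T : Subgroup H) : Set H)) with hZ
  refine le_antisymm (Subgroup.centralizer_le inf_le_right) fun x hx => ?_
  refine Subgroup.mem_centralizer_iff.mpr fun z hz => ?_
  have h := Lib.LocalChar.mem_sup_of_fixed (T := (T : Subgroup H)) (E := E) (L := ⊤) hV
    Subgroup.le_normalizer_of_normal le_top le_top Subgroup.le_normalizer_of_normal
    (Lib.Transfer.pResidual_sup_sylow T).ge
    (by rw [Subgroup.relIndex_top_right]; exact T.not_dvd_index)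
    (hZV hz) (Lib.Omega.le_self p _ hz).2
  have key : (V ⊓ Subgroup.centralizer ((⊤ : Subgroup H) : Set H)) ⊔
      (⁅V, E⁆ ⊓ Subgroup.centralizer ((T : Subgroup H) : Set H)) ≤
        Subgroup.centralizer ({x} : Set H) := by
    refine sup_le (fun c hc => ?_) (fun w hw => ?_)
    · exact Subgroup.mem_centralizer_singleton_iff.mpr
        (Subgroup.mem_centralizer_iff.mp hc.2 x (Subgroup.mem_top x)).symm
    · have hwV : w ∈ V := Subgroup.commutator_le_left _ _ hw.1
      have hwT : w ∈ (T : Subgroup H) :=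
        (Lib.ElemAbelian.isPGroup hV).le_sylow_of_normal T hwV
      exact Subgroup.mem_centralizer_singleton_iff.mpr (Subgroup.mem_centralizer_iff.mp hx w
        ⟨hw.1, Lib.Omega.mem_of_pow_eq_one ⟨hwT, hw.2⟩ (hV.2 w hwV)⟩)
  exact Subgroup.mem_centralizer_singleton_iff.mp (key h)

end Cfsg.Agent.S2826
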