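import Mathlib
import Cfsg.Agent.Lib.LocalChar.PClosed
import Cfsg.Agent.Lib.LocalChar.Reduced
import Cfsg.Statements.S2827
-- import your own Cfsg.Agent.* helpers here

set_option autoImplicit false
open Cfsg
open scoped commutatorElement Pointwise

namespace Cfsg.Agent.S2827

/-- Let H be a finite p-irreducible group (not p-closed, and O^p(H) lies in every normal subgroup that is not p-closed) and T a Sylow p-subgroup. Then H is generated by the conjugates of T and H = H'·T; O^p(H) ≤ H'; and for every normal subgroup Y of T not contained in O_p(H), O^p(H) = [O^p(H), Y] and O^p(H) is contained in the normal closure of Y in H. -/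
theorem result {H : Type*} [Group H] [Finite H] {p : ℕ} [Fact p.Prime] (hH : Cfsg.IsPIrreducible p H) (T : Sylow p H) : Subgroup.normalClosure ((T : Subgroup H) : Set H) = ⊤ ∧ commutator H ⊔ (T : Subgroup H) = ⊤ ∧ Cfsg.pResidual p H ≤ commutator H ∧ ∀ Y : Subgroup H, Y ≤ (T : Subgroup H) → (T : Subgroup H) ≤ Subgroup.normalizer (Y : Set H) → ¬ Y ≤ Cfsg.pCore p H → ⁅Cfsg.pResidual p H, Y⁆ = Cfsg.pResidual p H ∧ Cfsg.pResidual p H ≤ Subgroup.normalClosure (Y : Set H) := by
  obtain ⟨hnc, hirr⟩ := hH
  haveI := Lib.Transfer.pResidual_normal (G := H) (p := p)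
  have hres : pResidual p H ⊔ (T : Subgroup H) = ⊤ := Lib.Transfer.pResidual_sup_sylow T
  have hnotcl : ∀ N : Subgroup H, N.Normal → ∀ A : Subgroup H, A ≤ N → IsPGroup p ↥A →
      ¬ A ≤ pCore p H → pResidual p H ≤ N := by
    intro N hN A hAN hA hne
    exact hirr N hN fun hcl => hne (Lib.LocalChar.le_pCore_of_normal_isPClosed hN hcl hAN hA)
  have hTne : ¬ (T : Subgroup H) ≤ pCore p H := fun h => hnc (Lib.LocalChar.isPClosed_of_sylow_le T h)
  have h1 : Subgroup.normalClosure ((T : Subgroup H) : Set H) = ⊤ := by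
    rw [← top_le_iff, ← hres]
    exact sup_le (hnotcl _ inferInstance _ Subgroup.le_normalClosure T.isPGroup' hTne)
      Subgroup.le_normalClosure
  have h2 : commutator H ⊔ (T : Subgroup H) = ⊤ := by
    haveI : (commutator H ⊔ (T : Subgroup H)).Normal := Subgroup.Normal.of_commutator_le H le_sup_left
    rw [← top_le_iff, ← h1]
    exact Subgroup.normalClosure_le_normal (SetLike.coe_subset_coe.mpr le_sup_right)
  refine ⟨h1, h2, ?_, ?_⟩
  · refine Lib.Transfer.pResidual_le_iff.mpr fun g hg => ?_
    exact Lib.LocalChar.mem_of_le_sup T.isPGroup' Subgroup.le_normalizer_of_normal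
      (h2 ▸ Subgroup.mem_top g) hg
  intro Y hYT hTY hY
  set K := pResidual p H with hK
  have hKN : K ≤ Subgroup.normalClosure (Y : Set H) :=
    hnotcl _ inferInstance Y Subgroup.le_normalClosure (T.isPGroup'.to_le hYT) hY
  refine ⟨?_, hKN⟩
  set R := ⁅K, Y⁆ with hR
  have hRK : R ≤ K := Subgroup.le_normalizer_iff_commutator_le_left.mp Subgroup.le_normalizer_of_normal
  have hRn : R.Normal := by
    rw [← Subgroup.normalizer_eq_top_iff, ← top_le_iff, ← hres]
    exact sup_le (Subgroup.normalizer_commutator_ge_left K Y)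
      (Lib.LocalChar.le_normalizer_commutator_of_le Subgroup.le_normalizer_of_normal hTY)
  haveI := hRn
  have hRY : (R ⊔ Y).Normal := by
    rw [← Subgroup.normalizer_eq_top_iff, ← top_le_iff, ← hres]
    refine sup_le (fun k hk => ?_)
      (Lib.LocalChar.le_normalizer_sup_of_le Subgroup.le_normalizer_of_normal hTY)
    refine Lib.LocalChar.mem_normalizer_of_conj_map_le ?_
    rw [Subgroup.map_sup]
    refine sup_le ((Lib.LocalChar.conj_map_eq_of_mem
      (Subgroup.normalizer_commutator_ge_left K Y hk)).le.trans le_sup_left) ?_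
    rintro _ ⟨a, ha, rfl⟩
    have h := mul_mem (le_sup_left (b := Y) (Subgroup.commutator_mem_commutator hk ha))
      (le_sup_right (a := R) ha)
    simpa [commutatorElement_def, mul_assoc] using h
  haveI := hRY
  refine le_antisymm hRK (Lib.Transfer.pResidual_le_iff.mpr fun g hg => ?_)
  exact Lib.LocalChar.mem_of_le_sup (T.isPGroup'.to_le hYT) Subgroup.le_normalizer_of_normal
    (Subgroup.normalClosure_le_normal (SetLike.coe_subset_coe.mpr le_sup_right) (hKN (Lib.Transfer.mem_pResidual_of_coprime hg))) hg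

end Cfsg.Agent.S2827
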