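import Mathlib
import Cfsg.Agent.Lib.LocalChar.PClosed
import Cfsg.Agent.Lib.LocalChar.Reduced
import Cfsg.Statements.S2828
-- import your own Cfsg.Agent.* helpers here

set_option autoImplicit false
open Cfsg
open scoped commutatorElement Pointwise

namespace Cfsg.Agent.S2828

/-- Let H be a finite group, p a prime and D a normal p-subgroup of H. Then H is p-irreducible if and only if H/D is p-irreducible, and H is strongly p-irreducible if and only if H/D is strongly p-irreducible. -/
theorem result {H : Type*} [Group H] [Finite H] {p : ℕ} [Fact p.Prime] (D : Subgroup H) [D.Normal] (hD : IsPGroup p ↥D) : (Cfsg.IsPIrreducible p H ↔ Cfsg.IsPIrreducible p (H ⧸ D)) ∧ (Cfsg.IsStronglyPIrreducible p H ↔ Cfsg.IsStronglyPIrreducible p (H ⧸ D)) := by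
  set f := QuotientGroup.mk' D with hf
  have hfs : Function.Surjective f := QuotientGroup.mk'_surjective D
  have hker : IsPGroup p ↥f.ker := by rw [QuotientGroup.ker_mk']; exact hD
  have hcl : IsPClosed p H ↔ IsPClosed p (H ⧸ D) := Lib.LocalChar.isPClosed_iff_of_surjective hfs hker
  have hcomap : (pCore p (H ⧸ D)).comap f = pCore p H := Lib.PSolvable.comap_pCore_quotient D hD
  have hmapres : (pResidual p H).map f = pResidual p (H ⧸ D) := Lib.LocalChar.map_pResidual_eq hfs
  have hup : ∀ N : Subgroup H, N.Normal → pResidual p (H ⧸ D) ≤ N.map f → pResidual p H ≤ N := by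
    intro N hN hle
    haveI := hN
    have h1 : pResidual p H ≤ N ⊔ D := by
      rw [sup_comm, ← QuotientGroup.comap_map_mk' D N, ← Subgroup.map_le_iff_le_comap, hmapres]
      exact hle
    exact Lib.Transfer.pResidual_le_iff.mpr fun g hg =>
      Lib.LocalChar.mem_of_le_sup hD Subgroup.le_normalizer_of_normal
        (h1 (Lib.Transfer.mem_pResidual_of_coprime hg)) hg
  have hdown : ∀ M : Subgroup (H ⧸ D), pResidual p H ≤ M.comap f → pResidual p (H ⧸ D) ≤ M := by
    intro M hle
    rw [← hmapres, Subgroup.map_le_iff_le_comap]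
    exact hle
  refine ⟨⟨fun ⟨h1, h2⟩ => ⟨mt hcl.mpr h1, fun M hM hnc => ?_⟩,
    fun ⟨h1, h2⟩ => ⟨mt hcl.mp h1, fun N hN hnc => ?_⟩⟩,
    ⟨fun ⟨h1, h2⟩ => ⟨mt hcl.mpr h1, fun M hM hnc => ?_⟩,
    fun ⟨h1, h2⟩ => ⟨mt hcl.mp h1, fun N hN hnc => ?_⟩⟩⟩
  · refine hdown M (h2 _ (hM.comap f) fun h => hnc ?_)
    have h' := (Lib.LocalChar.isPClosed_map_iff (M.comap f) hker).mp h
    rwa [Subgroup.map_comap_eq_self_of_surjective hfs] at h'
  · refine hup N hN (h2 _ (hN.map f hfs) fun h => hnc ?_)
    exact (Lib.LocalChar.isPClosed_map_iff N hker).mpr h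
  · refine hdown M (h2 _ (hM.comap f) fun h => hnc ?_)
    have h' := Subgroup.map_mono (f := f) h
    rw [Subgroup.map_commutator, Subgroup.map_comap_eq_self_of_surjective hfs,
      Subgroup.map_top_of_surjective f hfs] at h'
    exact h'.trans (Lib.PSolvable.map_pCore_le hfs)
  · refine hup N hN (h2 _ (hN.map f hfs) fun h => hnc ?_)
    rw [← hcomap, ← Subgroup.map_le_iff_le_comap, Subgroup.map_commutator,
      Subgroup.map_top_of_surjective f hfs]
    exact h

end Cfsg.Agent.S2828
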