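import Mathlib
import Cfsg.Agent.Lib.LocalChar.PClosed
import Cfsg.Agent.Lib.LocalChar.Reduced
import Cfsg.Statements.S2829
-- import your own Cfsg.Agent.* helpers here

set_option autoImplicit false
open Cfsg
open scoped commutatorElement Pointwise

namespace Cfsg.Agent.S2829

/-- Every strongly p-irreducible finite group is p-irreducible. -/
theorem result {H : Type*} [Group H] [Finite H] {p : ℕ} [Fact p.Prime] (hH : Cfsg.IsStronglyPIrreducible p H) : Cfsg.IsPIrreducible p H := by
  refine ⟨hH.1, fun N hN hnc => hH.2 N hN fun hle => hnc ?_⟩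
  haveI := hN
  refine (Lib.LocalChar.isPClosed_subgroup_iff N).mpr fun A hAN hA => ?_
  -- `B = A (O_p(H) ∩ N)` is a normal `p`-subgroup of `N`
  set R : Subgroup H := pCore p H ⊓ N
  haveI : R.Normal := inferInstance
  set B : Subgroup H := A ⊔ R
  have hBN : B ≤ N := sup_le hAN inf_le_right
  have hB : IsPGroup p ↥B := hA.to_sup_of_normal_right (Lib.PSolvable.pCore_isPGroup.to_le inf_le_left)
  have hn : N ≤ Subgroup.normalizer (B : Set H) := by
    rw [Subgroup.le_normalizer_iff_commutator_le_left]
    have h1 : ⁅B, N⁆ ≤ pCore p H :=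
      (Subgroup.commutator_mono hBN le_top).trans hle
    have h2 : ⁅B, N⁆ ≤ N := (Subgroup.commutator_mono hBN le_rfl).trans N.commutator_le_self
    exact (le_inf h1 h2).trans le_sup_right
  exact le_sup_left.trans (Lib.CharP.le_pCoreOf hBN hB hn)

end Cfsg.Agent.S2829
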