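import Mathlib
import Cfsg.Agent.Lib.LocalChar.PClosed
import Cfsg.Agent.Lib.LocalChar.Reduced
import Cfsg.Statements.S2830
-- import your own Cfsg.Agent.* helpers here

set_option autoImplicit false
open Cfsg
open scoped commutatorElement Pointwise

namespace Cfsg.Agent.S2830

/-- Let H act by conjugation on the elementary abelian p-subgroup V of a finite group G (H ≤ N(V)), with H p-irreducible and O^p(H) not centralizing V. Then C_H(V) is p-closed and C_T(V) ≤ O_p(H) for every p-subgroup T of H. If in addition O_p(H) centralizes V, then C_T(V) = T ∩ O_p(H) for every p-subgroup T of H, and V is p-reduced for H: O_p(H/C_H(V)) = 1. -/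
theorem result {G : Type*} [Group G] [Finite G] {p : ℕ} [Fact p.Prime] (V H : Subgroup G) (hV : Cfsg.IsElementaryAbelian p V) (hHV : H ≤ Subgroup.normalizer (V : Set G)) (hH : Cfsg.IsPIrreducible p ↥H) (hnc : ¬ (Cfsg.pResidual p ↥H).map H.subtype ≤ Subgroup.centralizer (V : Set G)) [hn : ((Subgroup.centralizer (V : Set G)).subgroupOf H).Normal] : Cfsg.IsPClosed p ↥(H ⊓ Subgroup.centralizer (V : Set G)) ∧ (∀ T : Subgroup G, T ≤ H → IsPGroup p ↥T → T ⊓ Subgroup.centralizer (V : Set G) ≤ Cfsg.pCoreOf p H) ∧ (Cfsg.pCoreOf p H ≤ Subgroup.centralizer (V : Set G) → (∀ T : Subgroup G, T ≤ H → IsPGroup p ↥T → T ⊓ Subgroup.centralizer (V : Set G) = T ⊓ Cfsg.pCoreOf p H) ∧ Cfsg.pCore p (↥H ⧸ (Subgroup.centralizer (V : Set G)).subgroupOf H) = ⊥) := by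
  set C := Subgroup.centralizer (V : Set G) with hC
  set N := C.subgroupOf H with hN
  have hclN : IsPClosed p ↥N := by
    by_contra h
    exact hnc ((Subgroup.map_mono (hH.2 N hn h)).trans (by rintro _ ⟨y, hy, rfl⟩; exact hy))
  have hNmap : N.map H.subtype = H ⊓ C := by
    rw [hN, Subgroup.subgroupOf, Subgroup.map_comap_eq, Subgroup.range_subtype]
  have hcl : IsPClosed p ↥(H ⊓ C) := by
    rw [← hNmap]
    have hker : IsPGroup p ↥H.subtype.ker := by
      rw [Subgroup.ker_subtype]; exact IsPGroup.of_bot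
    exact (Lib.LocalChar.isPClosed_map_iff N hker).mp hclN
  have hCT : ∀ T : Subgroup G, T ≤ H → IsPGroup p ↥T → T ⊓ C ≤ pCoreOf p H := by
    intro T hTH hT x hx
    have hle : (T ⊓ C).subgroupOf H ≤ pCore p ↥H :=
      Lib.LocalChar.le_pCore_of_normal_isPClosed hn hclN (fun y hy => hy.2)
        (hT.to_inf_left.comap_subtype)
    exact ⟨⟨x, hTH hx.1⟩, hle hx, rfl⟩
  refine ⟨hcl, hCT, fun hOC => ⟨fun T hTH hT => ?_, ?_⟩⟩
  · exact le_antisymm (le_inf inf_le_left (hCT T hTH hT)) (inf_le_inf le_rfl hOC)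
  · refine Lib.PSolvable.eq_bot_of_comap_mk'_le N ?_
    set D := (pCore p (↥H ⧸ N)).comap (QuotientGroup.mk' N) with hD
    have hcop : ∀ x ∈ D, Nat.Coprime (orderOf x) p → x ∈ N := by
      intro x hx hc
      exact (QuotientGroup.eq_one_iff x).mp (Lib.LocalChar.eq_one_of_mem_pGroup
        Lib.PSolvable.pCore_isPGroup hx (Lib.LocalChar.coprime_orderOf_map (QuotientGroup.mk' N) hc))
    have hclD : IsPClosed p ↥D := by
      by_contra h
      have h1 : pResidual p ↥H ≤ D := hH.2 D inferInstance h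
      refine hnc ?_
      rw [Lib.LocalChar.resOf_le_iff]
      intro x hx hc
      have hc' : Nat.Coprime (orderOf (⟨x, hx⟩ : ↥H)) p := by rwa [Subgroup.orderOf_mk]
      exact hcop ⟨x, hx⟩ (h1 (Lib.Transfer.mem_pResidual_of_coprime hc')) hc'
    obtain ⟨P⟩ : Nonempty (Sylow p ↥D) := inferInstance
    have h2 := Lib.LocalChar.resOf_sup_sylow D P
    refine h2.ge.trans (sup_le (Lib.LocalChar.resOf_le_iff.mpr hcop) ?_)
    refine (Lib.LocalChar.le_pCore_of_normal_isPClosed (N := D) inferInstance hclD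
      (Subgroup.map_subtype_le _) (P.isPGroup'.map _)).trans fun x hx => ?_
    exact hOC ⟨x, hx, rfl⟩

end Cfsg.Agent.S2830
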