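import Mathlib
import Cfsg.Agent.Lib.LocalChar.PClosed
import Cfsg.Agent.Lib.LocalChar.Reduced
import Cfsg.Statements.S2832
-- import your own Cfsg.Agent.* helpers here

set_option autoImplicit false
open Cfsg
open scoped commutatorElement Pointwise

namespace Cfsg.Agent.S2832

/-- Let H be a finite group with Sylow p-subgroup T such that H is T-minimal (generated by the conjugates of T, with T in exactly one maximal subgroup), and let N be a normal subgroup of H. Then either H/N is a p-group or H/N is minimal over the image of T in the same sense. -/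
theorem result {H : Type*} [Group H] [Finite H] {p : ℕ} [Fact p.Prime] (T : Sylow p H) (hmin : Cfsg.IsMinimalOver (T : Subgroup H)) (N : Subgroup H) [N.Normal] : IsPGroup p (H ⧸ N) ∨ Cfsg.IsMinimalOver ((T : Subgroup H).map (QuotientGroup.mk' N)) := by
  obtain ⟨hgen, M, ⟨hM, hTM⟩, huniq⟩ := hmin
  set f := QuotientGroup.mk' N with hf
  have hfs : Function.Surjective f := QuotientGroup.mk'_surjective N
  have hsup : ∀ X : Subgroup H, (X.map f).comap f = N ⊔ X := fun X => QuotientGroup.comap_map_mk' N X
  by_cases htop : N ⊔ (T : Subgroup H) = ⊤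
  · left
    have h1 : (T : Subgroup H).map f = ⊤ := by
      rw [← Subgroup.map_comap_eq_self_of_surjective hfs ((T : Subgroup H).map f), hsup, htop,
        Subgroup.map_top_of_surjective f hfs]
    have h2 := T.isPGroup'.map f
    rw [h1] at h2
    exact h2.of_equiv Subgroup.topEquiv
  · right
    refine ⟨?_, ?_⟩
    · rw [Subgroup.coe_map, ← Subgroup.map_normalClosure _ f hfs, hgen,
        Subgroup.map_top_of_surjective f hfs]
    · obtain ⟨X, hX, hle⟩ := (eq_top_or_exists_le_coatom _).resolve_left htop
      obtain rfl := huniq X ⟨hX, le_sup_right.trans hle⟩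
      have hNX : N ≤ X := le_sup_left.trans hle
      have hcm : (X.map f).comap f = X := by rw [hsup, sup_eq_right.mpr hNX]
      refine ⟨X.map f, ⟨⟨?_, ?_⟩, Subgroup.map_mono (le_sup_right.trans hle)⟩, ?_⟩
      · intro h
        apply hX.1
        rw [← hcm, h, Subgroup.comap_top]
      · intro Y hY
        have hlt : X < Y.comap f := by
          rw [← hcm]
          exact (Subgroup.comap_lt_comap_of_surjective hfs).mpr hY
        have h2 := congrArg (Subgroup.map f) (hX.2 _ hlt)
        rwa [Subgroup.map_comap_eq_self_of_surjective hfs, Subgroup.map_top_of_surjective f hfs] at h2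
      · rintro Y ⟨hY, hTY⟩
        have hY' : IsCoatom (Y.comap f) := by
          refine ⟨fun h => hY.1 ?_, fun Z hZ => ?_⟩
          · rw [← Subgroup.map_comap_eq_self_of_surjective hfs Y, h, Subgroup.map_top_of_surjective f hfs]
          · have hNZ : N ≤ Z := (QuotientGroup.le_comap_mk' N Y).trans hZ.le
            have hZ' : (Z.map f).comap f = Z := by rw [hsup, sup_eq_right.mpr hNZ]
            rw [← hZ']
            rw [← hZ'] at hZ
            rw [hY.2 _ ((Subgroup.comap_lt_comap_of_surjective hfs).mp hZ), Subgroup.comap_top]
        rw [← huniq (Y.comap f) ⟨hY', Subgroup.map_le_iff_le_comap.mp hTY⟩,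
          Subgroup.map_comap_eq_self_of_surjective hfs]

end Cfsg.Agent.S2832
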