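import Mathlib
import Cfsg.Agent.Lib.LocalChar.WeaklyClosed
import Cfsg.Statements.S2833
-- import your own Cfsg.Agent.* helpers here

set_option autoImplicit false
open Cfsg
open scoped commutatorElement Pointwise

namespace Cfsg.Agent.S2833

/-- Let V be a subgroup of a finite group G normalized by the subgroup L, let X ≤ L and g ∈ L with [V, X, X] = 1 and L generated by X and gXg⁻¹. Put W = [V, L]. Then W = [V, X]·[V, gXg⁻¹], C_W(X) = [V, X], and C_W(L) = [V, X] ∩ [V, gXg⁻¹]. -/
theorem result {G : Type*} [Group G] [Finite G] (V L : Subgroup G) (hLV : L ≤ Subgroup.normalizer (V : Set G)) (X : Subgroup G) (hX : X ≤ L) (g : G) (hg : g ∈ L) (hq : ⁅⁅V, X⁆, X⁆ = ⊥) (hgen : X ⊔ X.map (MulAut.conj g).toMonoidHom = L) (W : Subgroup G) (hW : W = ⁅V, L⁆) : ⁅V, X⁆ ⊔ ⁅V, X.map (MulAut.conj g).toMonoidHom⁆ = W ∧ W ⊓ Subgroup.centralizer (X : Set G) = ⁅V, X⁆ ∧ W ⊓ Subgroup.centralizer (L : Set G) = ⁅V, X⁆ ⊓ ⁅V, X.map (MulAut.conj g).toMonoidHom⁆ := by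
  have hXn : X ≤ Subgroup.normalizer (V : Set G) := hX.trans hLV
  have hgn : g ∈ Subgroup.normalizer (V : Set G) := hLV hg
  set X' := X.map (MulAut.conj g).toMonoidHom with hX'
  set A := ⁅V, X⁆ with hA
  set B := ⁅V, X'⁆ with hB
  have hX'L : X' ≤ L :=
    (Subgroup.map_mono hX).trans (Lib.LocalChar.conj_map_eq_of_mem (Subgroup.le_normalizer hg)).le
  have hX'n : X' ≤ Subgroup.normalizer (V : Set G) := hX'L.trans hLV
  have hBA : A.map (MulAut.conj g).toMonoidHom = B := by
    rw [hA, hB, Subgroup.map_commutator, Lib.LocalChar.conj_map_eq_of_mem hgn]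
  have hAV : A ≤ V := Subgroup.le_normalizer_iff_commutator_le_left.mp hXn
  have hBV : B ≤ V := Subgroup.le_normalizer_iff_commutator_le_left.mp hX'n
  have hVA : V ≤ Subgroup.normalizer (A : Set G) := Subgroup.normalizer_commutator_ge_left V X
  have hVB : V ≤ Subgroup.normalizer (B : Set G) := Subgroup.normalizer_commutator_ge_left V X'
  have hVAB : V ≤ Subgroup.normalizer ((A ⊔ B : Subgroup G) : Set G) :=
    Lib.LocalChar.le_normalizer_sup_of_le hVA hVB
  have hABW : A ⊔ B = W := by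
    subst hW
    refine le_antisymm (sup_le (Subgroup.commutator_mono le_rfl hX)
      (Subgroup.commutator_mono le_rfl hX'L)) ?_
    -- the elements of `N(V)` acting trivially modulo `A B`
    let S : Subgroup G :=
      { carrier := {x | x ∈ Subgroup.normalizer (V : Set G) ∧
          x ∈ Subgroup.normalizer ((A ⊔ B : Subgroup G) : Set G) ∧ ∀ v ∈ V, ⁅v, x⁆ ∈ A ⊔ B}
        one_mem' := ⟨one_mem _, one_mem _, fun v _ => by simp⟩
        mul_mem' := by
          rintro a b ⟨ha, ha', ha''⟩ ⟨hb, hb', hb''⟩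
          refine ⟨mul_mem ha hb, mul_mem ha' hb', fun v hv => ?_⟩
          rw [commutatorElement_mul_right_eq_mul_conj]
          simpa [MulAut.conj_apply, mul_assoc] using
            mul_mem (ha'' v hv) (Lib.LocalChar.conj_mem_of_mem_normalizer ha' (hb'' v hv))
        inv_mem' := by
          rintro a ⟨ha, ha', ha''⟩
          refine ⟨inv_mem ha, inv_mem ha', fun v hv => ?_⟩
          rw [commutatorElement_inv_right, ← commutatorElement_inv v a]
          exact Lib.LocalChar.conj_mem_of_mem_normalizer' ha' (inv_mem (ha'' v hv)) }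
    have hgen' : ∀ Z : Subgroup G, Z ≤ Subgroup.normalizer (V : Set G) → ⁅V, Z⁆ ≤ A ⊔ B → Z ≤ S := by
      intro Z hZ hZle x hx
      refine ⟨hZ hx, ?_, fun v hv => hZle (Subgroup.commutator_mem_commutator hv hx)⟩
      refine Lib.LocalChar.mem_normalizer_of_conj_map_le ?_
      rintro _ ⟨y, hy, rfl⟩
      have hyV : y ∈ V := sup_le hAV hBV hy
      have h1 := mul_mem (inv_mem (hZle (Subgroup.commutator_mem_commutator hyV hx))) hy
      simpa [commutatorElement_def, mul_assoc] using h1
    have hLS : L ≤ S := hgen ▸ sup_le (hgen' X hXn le_sup_left) (hgen' X' hX'n le_sup_right)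
    exact Subgroup.commutator_le.mpr fun v hv x hx => (hLS hx).2.2 v hv
  have hAc : A ≤ Subgroup.centralizer (X : Set G) := Subgroup.commutator_eq_bot_iff_le_centralizer.mp hq
  have hBc : B ≤ Subgroup.centralizer (X' : Set G) := by
    rw [← hBA, hX', Lib.LocalChar.centralizer_conj_map]
    exact Subgroup.map_mono hAc
  have hkey : ∀ b ∈ B, b ∈ Subgroup.centralizer (X : Set G) →
      b ∈ A ∧ b ∈ Subgroup.centralizer (L : Set G) := by
    intro b hb hbX
    have hbL : b ∈ Subgroup.centralizer (L : Set G) := by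
      have h : L ≤ Subgroup.centralizer ({b} : Set G) := by
        rw [← hgen]
        refine sup_le (fun x hx => ?_) (fun x hx => ?_)
        · exact Subgroup.mem_centralizer_singleton_iff.mpr (Subgroup.mem_centralizer_iff.mp hbX x hx)
        · exact Subgroup.mem_centralizer_singleton_iff.mpr (Subgroup.mem_centralizer_iff.mp (hBc hb) x hx)
      exact Subgroup.mem_centralizer_iff.mpr fun x hx => Subgroup.mem_centralizer_singleton_iff.mp (h hx)
    refine ⟨?_, hbL⟩
    rw [← hBA, Lib.LocalChar.mem_conj_map] at hb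
    rwa [mul_assoc, ← Subgroup.mem_centralizer_iff.mp hbL g hg, inv_mul_cancel_left] at hb
  have hWc : W ⊓ Subgroup.centralizer (X : Set G) = A := by
    rw [← hABW]
    refine le_antisymm (fun w hw => ?_) (le_inf le_sup_left hAc)
    obtain ⟨hw1, hw2⟩ := Subgroup.mem_inf.mp hw
    rw [← SetLike.mem_coe, Subgroup.coe_mul_of_left_le_normalizer_right A B (hAV.trans hVB)] at hw1
    obtain ⟨a, ha, b, hb, rfl⟩ := hw1
    have hbX : b ∈ Subgroup.centralizer (X : Set G) := by
      simpa using mul_mem (inv_mem (hAc ha)) hw2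
    exact mul_mem ha (hkey b hb hbX).1
  refine ⟨hABW, hWc, le_antisymm (fun w hw => ?_) (fun w hw => ?_)⟩
  · obtain ⟨hw1, hw2⟩ := Subgroup.mem_inf.mp hw
    have hwA : w ∈ A := hWc.le ⟨hw1, Subgroup.centralizer_le hX hw2⟩
    refine Subgroup.mem_inf.mpr ⟨hwA, ?_⟩
    rw [← hBA, Lib.LocalChar.mem_conj_map, mul_assoc, ← Subgroup.mem_centralizer_iff.mp hw2 g hg,
      inv_mul_cancel_left]
    exact hwA
  · obtain ⟨hw1, hw2⟩ := Subgroup.mem_inf.mp hw
    exact Subgroup.mem_inf.mpr
      ⟨hABW.le (le_sup_left (b := B) hw1), (hkey w hw2 (hAc hw1)).2⟩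

end Cfsg.Agent.S2833
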