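import Mathlib
import Cfsg.Agent.Lib.LocalChar.LLemma
import Cfsg.Statements.S2834
-- import your own Cfsg.Agent.* helpers here

set_option autoImplicit false
open Cfsg
open scoped commutatorElement Pointwise

namespace Cfsg.Agent.S2834

/-- The L-Lemma: let H be a finite group with Sylow p-subgroup T such that H is T-minimal (generated by the conjugates of T, T in exactly one maximal subgroup M), and let A ≤ T with A not contained in O_p(H). Then there is a subgroup L of H containing A·O_p(H) such that (a) A·O_p(L) lies in exactly one maximal subgroup L₀ of L, and L₀ = L ∩ gMg⁻¹ for some g ∈ H; (b) L = ⟨A, xAx⁻¹⟩·O_p(L) for every x ∈ L outside L₀. -/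
theorem result {H : Type*} [Group H] [Finite H] {p : ℕ} [Fact p.Prime] (T : Sylow p H) (hmin : Cfsg.IsMinimalOver (T : Subgroup H)) (M : Subgroup H) (hM : IsCoatom M ∧ (T : Subgroup H) ≤ M) (A : Subgroup H) (hAT : A ≤ (T : Subgroup H)) (hA : ¬ A ≤ Cfsg.pCore p H) : ∃ L : Subgroup H, A ⊔ Cfsg.pCore p H ≤ L ∧ ∃ L₀ : Subgroup H, A ⊔ (Cfsg.pCoreOf p L) ≤ L₀ ∧ L₀ < L ∧ (∀ X : Subgroup H, A ⊔ (Cfsg.pCoreOf p L) ≤ X → X < L → X ≤ L₀) ∧ (∃ g : H, L₀ = L ⊓ ((M : Subgroup H).map (MulAut.conj (g : H)).toMonoidHom)) ∧ ∀ x ∈ L, x ∉ L₀ → (A ⊔ ((A : Subgroup H).map (MulAut.conj (x : H)).toMonoidHom)) ⊔ (Cfsg.pCoreOf p L) = L := by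
  obtain ⟨hncl, M', hM', huniq⟩ := hmin
  obtain rfl : M = M' := huniq M hM
  have hMn : ¬ (⊤ : Subgroup H) ≤ Subgroup.normalizer (M : Set H) := by
    intro h
    haveI : M.Normal := Subgroup.normalizer_eq_top_iff.mp (top_le_iff.mp h)
    exact hM.1.1 (top_le_iff.mp (hncl ▸ Subgroup.normalClosure_le_normal hM.2))
  have hdata : Lib.LocalChar.IsMinimalData p (⊤ : Subgroup H) (T : Subgroup H) M := by
    refine ⟨hM.2, lt_top_iff_ne_top.mpr hM.1.1, T.isPGroup', fun S _ hS => ?_, fun X hTX hX => ?_,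
      hMn⟩
    · obtain ⟨Q, hQ⟩ := hS.exists_le_sylow
      obtain ⟨c, rfl⟩ := MulAction.exists_smul_eq H Q T
      refine ⟨c, Subgroup.mem_top c, (Subgroup.map_mono hQ).trans ?_⟩
      rw [Sylow.coe_subgroup_smul]
      exact le_rfl
    · obtain ⟨N, hN, hXN⟩ := (eq_top_or_exists_le_coatom X).resolve_left hX.ne
      rwa [huniq N ⟨hN, hTX.trans hXN⟩] at hXN
  have hA' : ¬ A ≤ Cfsg.pCoreOf p (⊤ : Subgroup H) := by
    rwa [Lib.CharP.pCoreOf_top]
  obtain ⟨L, hL, -, L₀, h1, h2, h3, ⟨g, -, h4⟩, h5⟩ :=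
    Lib.LocalChar.lLemma _ _ _ _ A le_rfl hdata hAT hA'
  rw [Lib.CharP.pCoreOf_top] at hL
  exact ⟨L, hL, L₀, h1, h2, h3, ⟨g, h4⟩, h5⟩

end Cfsg.Agent.S2834
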