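import Mathlib
import Cfsg.Agent.Lib.LocalChar.WeaklyClosed
import Cfsg.Statements.S2835
-- import your own Cfsg.Agent.* helpers here

set_option autoImplicit false
open Cfsg
open scoped commutatorElement Pointwise

namespace Cfsg.Agent.S2835

/-- Let L be a finite group, L₀ a maximal subgroup, T a Sylow p-subgroup of L₀ and Y ≤ T, and suppose L is Y-minimal (generated by the conjugates of Y, with Y in exactly one maximal subgroup, necessarily L₀). Then N_L(T) ≤ L₀, O_p(L) ≤ L₀ and T is a Sylow p-subgroup of L; N_L(L₀) = L₀; L = ⟨Y, gYg⁻¹⟩ for each g ∈ L outside L₀; and if Y is abelian then Y ∩ gYg⁻¹ = C_Y(L) for each such g. -/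
theorem result {L : Type*} [Group L] [Finite L] {p : ℕ} [Fact p.Prime] (L₀ : Subgroup L) (hL₀ : IsCoatom L₀) (T : Sylow p ↥L₀) (Y : Subgroup L) (hYT : Y ≤ (T : Subgroup ↥L₀).map L₀.subtype) (hmin : Cfsg.IsMinimalOver Y) : Subgroup.normalizer (((T : Subgroup ↥L₀).map L₀.subtype : Subgroup L) : Set L) ≤ L₀ ∧ Cfsg.pCore p L ≤ L₀ ∧ (∃ P : Sylow p L, (P : Subgroup L) = (T : Subgroup ↥L₀).map L₀.subtype) ∧ Subgroup.normalizer (L₀ : Set L) = L₀ ∧ (∀ g : L, g ∉ L₀ → Y ⊔ Y.map (MulAut.conj g).toMonoidHom = ⊤) ∧ (IsMulCommutative ↥Y → ∀ g : L, g ∉ L₀ → Y ⊓ Y.map (MulAut.conj g).toMonoidHom = Y ⊓ Subgroup.center L) := by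
  obtain ⟨hgen, M, ⟨hM, hYM⟩, huniq⟩ := hmin
  set T' := (T : Subgroup ↥L₀).map L₀.subtype with hT'
  have hT'L : T' ≤ L₀ := Subgroup.map_subtype_le _
  have hYL : Y ≤ L₀ := hYT.trans hT'L
  obtain rfl := huniq L₀ ⟨hL₀, hYL⟩
  have huniq' : ∀ X : Subgroup L, Y ≤ X → X ≠ ⊤ → X ≤ L₀ := by
    intro X hYX hX
    obtain ⟨N, hN, hXN⟩ := (eq_top_or_exists_le_coatom X).resolve_left hX
    exact hXN.trans (huniq N ⟨hN, hYX.trans hXN⟩).le
  have hTp : IsPGroup p ↥T' := T.isPGroup'.map _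
  have hYnorm : ∀ X : Subgroup L, X.Normal → Y ≤ X → X = ⊤ := fun X hX hYX =>
    haveI := hX
    top_le_iff.mp (hgen ▸ Subgroup.normalClosure_le_normal (SetLike.coe_subset_coe.mpr hYX))
  have hN : Subgroup.normalizer (T' : Set L) ≤ L₀ := by
    refine huniq' _ (hYT.trans Subgroup.le_normalizer) fun h => hL₀.1 (top_le_iff.mp ?_)
    exact (hYnorm T' (Subgroup.normalizer_eq_top_iff.mp h) hYT).ge.trans hT'L
  obtain ⟨P, hP⟩ := hTp.exists_le_sylow
  have hPeq : (P : Subgroup L) = T' := by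
    by_contra hne
    obtain ⟨x, hxP, hxT, hx⟩ :=
      Lib.LocalChar.exists_mem_normalizer_not_mem P.isPGroup' hP (fun h => hne h.symm)
    set Z : Subgroup ↥L₀ := (P : Subgroup L).subgroupOf L₀ with hZ
    have hTZ : (T : Subgroup ↥L₀) ≤ Z := fun y hy => hP ⟨y, hy, rfl⟩
    have hxZ : (⟨x, hN hx⟩ : ↥L₀) ∈ (T : Subgroup ↥L₀) := by
      rw [← T.3 (Q := Z) P.isPGroup'.comap_subtype hTZ]
      exact hxP
    exact hxT ⟨_, hxZ, rfl⟩
  have hnorm : Subgroup.normalizer (L₀ : Set L) = L₀ := by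
    refine le_antisymm (huniq' _ (hYL.trans Subgroup.le_normalizer) fun h => hL₀.1 ?_)
      Subgroup.le_normalizer
    exact hYnorm L₀ (Subgroup.normalizer_eq_top_iff.mp h) hYL
  have hgen2 : ∀ g : L, g ∉ L₀ → Y ⊔ Y.map (MulAut.conj g).toMonoidHom = ⊤ := by
    intro g hg
    by_contra hne
    have h1 := le_sup_right.trans (huniq' _ le_sup_left hne)
    rw [Lib.LocalChar.conj_map_le_iff] at h1
    have h2 : IsCoatom (L₀.map (MulAut.conj g⁻¹).toMonoidHom) :=
      (OrderIso.isCoatom_iff (MulEquiv.mapSubgroup (MulAut.conj g⁻¹)) L₀).mpr hL₀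
    have h3 := huniq _ ⟨h2, h1⟩
    have h4 := inv_mem (Lib.LocalChar.mem_normalizer_iff_conj_map.mpr h3)
    rw [inv_inv, hnorm] at h4
    exact hg h4
  refine ⟨hN, ?_, ⟨P, hPeq⟩, hnorm, hgen2, fun hYc g hg => ?_⟩
  · exact (Lib.PSolvable.pCore_le_sylow P).trans (hPeq.le.trans hT'L)
  · refine le_antisymm (le_inf inf_le_left fun y hy => ?_) (fun y hy => ?_)
    · obtain ⟨hy1, hy2⟩ := Subgroup.mem_inf.mp hy
      have h : (⊤ : Subgroup L) ≤ Subgroup.centralizer ({y} : Set L) := by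
        rw [← hgen2 g hg]
        refine sup_le (fun x hx => ?_) ?_
        · exact Subgroup.mem_centralizer_singleton_iff.mpr
            (congrArg Subtype.val (mul_comm' (⟨x, hx⟩ : ↥Y) ⟨y, hy1⟩))
        · rintro _ ⟨x, hx, rfl⟩
          obtain ⟨z, hz, rfl⟩ := hy2
          refine Subgroup.mem_centralizer_singleton_iff.mpr ?_
          have hc : x * z = z * x := congrArg Subtype.val (mul_comm' (⟨x, hx⟩ : ↥Y) ⟨z, hz⟩)
          show MulAut.conj g x * MulAut.conj g z = MulAut.conj g z * MulAut.conj g x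
          rw [← map_mul, hc, map_mul]
      exact Subgroup.mem_center_iff.mpr fun x =>
        Subgroup.mem_centralizer_singleton_iff.mp (h (Subgroup.mem_top x))
    · obtain ⟨hy1, hy2⟩ := Subgroup.mem_inf.mp hy
      refine Subgroup.mem_inf.mpr ⟨hy1, Lib.LocalChar.mem_conj_map.mpr ?_⟩
      rw [Subgroup.mem_center_iff.mp hy2 g⁻¹, inv_mul_cancel_right]
      exact hy1

end Cfsg.Agent.S2835
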