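import Mathlib
import Cfsg.Agent.Lib.LocalChar.Reduced
import Cfsg.Agent.Lib.LocalChar.WeaklyClosed
import Cfsg.Agent.Lib.Coprime.Sylow
import Cfsg.Agent.S2835
import Cfsg.Statements.S2836
-- import your own Cfsg.Agent.* helpers here

set_option autoImplicit false
open Cfsg
open scoped commutatorElement Pointwise

namespace Cfsg.Agent.S2836

/-- Let L be a finite group, L₀ a maximal subgroup, T a Sylow p-subgroup of L₀, Y ≤ T, and suppose L is Y-minimal. Let D be the intersection of the conjugates of L₀ (the core of L₀). Then D contains O_p(L) and D/O_p(L) is the Frattini subgroup of L/O_p(L), so D is p-closed; and every normal subgroup N of L contained in L₀ is p-closed with N/O_p(N) a nilpotent group of order prime to p. -/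
theorem result {L : Type*} [Group L] [Finite L] {p : ℕ} [Fact p.Prime] (L₀ : Subgroup L) (hL₀ : IsCoatom L₀) (T : Sylow p ↥L₀) (Y : Subgroup L) (hYT : Y ≤ (T : Subgroup ↥L₀).map L₀.subtype) (hmin : Cfsg.IsMinimalOver Y) : (Cfsg.pCore p L ≤ L₀.normalCore ∧ (L₀.normalCore).map (QuotientGroup.mk' (Cfsg.pCore p L)) = frattini (L ⧸ Cfsg.pCore p L) ∧ Cfsg.IsPClosed p ↥(L₀.normalCore)) ∧ ∀ (N : Subgroup L) [N.Normal], N ≤ L₀ → Cfsg.IsPClosed p ↥N ∧ Group.IsNilpotent (↥N ⧸ Cfsg.pCore p ↥N) ∧ (Nat.card (↥N ⧸ Cfsg.pCore p ↥N)).Coprime p := by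
  classical
  obtain ⟨-, hOL, ⟨P, hPT⟩, -, -, -⟩ := S2835.result L₀ hL₀ T Y hYT hmin
  have hPL : (P : Subgroup L) ≤ L₀ := hPT.le.trans (Subgroup.map_subtype_le _)
  have hYP : Y ≤ (P : Subgroup L) := hYT.trans hPT.ge
  have hYL : Y ≤ L₀ := hYP.trans hPL
  obtain ⟨-, M, ⟨hM, hYM⟩, huniq⟩ := hmin
  obtain rfl := huniq L₀ ⟨hL₀, hYL⟩
  have huniq' : ∀ X : Subgroup L, Y ≤ X → X ≠ ⊤ → X ≤ L₀ := by
    intro X hYX hX
    obtain ⟨N, hN, hXN⟩ := (eq_top_or_exists_le_coatom X).resolve_left hX
    exact hXN.trans (huniq N ⟨hN, hYX.trans hXN⟩).le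
  -- a Frattini argument: nothing outside `L₀` is needed
  have hfrat : ∀ N : Subgroup L, N ≤ L₀ → ∀ X : Subgroup L, Y ≤ X → N ⊔ X = ⊤ → X = ⊤ := by
    intro N hN X hYX htop
    by_contra hne
    exact hL₀.1 (top_le_iff.mp (htop ▸ sup_le hN (huniq' X hYX hne)))
  have hPN : ∀ N : Subgroup L, N.Normal → N ≤ L₀ → ((P : Subgroup L) ⊓ N).Normal := by
    intro N hN hNL
    haveI := hN
    obtain ⟨Q, hQ⟩ := Lib.LocalChar.exists_sylow_inf P (D := N) Subgroup.le_normalizer_of_normal
    have hfr := Sylow.normalizer_sup_eq_top Q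
    rw [hQ, Subgroup.map_subgroupOf_eq_of_le inf_le_right, sup_comm] at hfr
    refine Subgroup.normalizer_eq_top_iff.mp (hfrat N hNL _ ?_ hfr)
    exact hYP.trans (Lib.LocalChar.le_normalizer_inf_of_le Subgroup.le_normalizer
      Subgroup.le_normalizer_of_normal)
  have main : ∀ (N : Subgroup L) [N.Normal], N ≤ L₀ → IsPClosed p ↥N ∧
      Group.IsNilpotent (↥N ⧸ pCore p ↥N) ∧ (Nat.card (↥N ⧸ pCore p ↥N)).Coprime p := by
    intro N _ hNL
    set R : Subgroup L := (P : Subgroup L) ⊓ N with hR
    haveI hRn : R.Normal := hPN N inferInstance hNL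
    obtain ⟨Q, hQ⟩ := Lib.LocalChar.exists_sylow_inf P (D := N) Subgroup.le_normalizer_of_normal
    haveI : (Q : Subgroup ↥N).Normal := by rw [hQ]; infer_instance
    have hQO : (Q : Subgroup ↥N) = pCore p ↥N :=
      le_antisymm (Lib.PSolvable.le_pCore Q.isPGroup') (Lib.PSolvable.pCore_le_sylow Q)
    have hcop : (Nat.card (↥N ⧸ pCore p ↥N)).Coprime p := by
      rw [← Subgroup.index_eq_card, ← hQO]
      exact ((Nat.Prime.coprime_iff_not_dvd (Fact.out : p.Prime)).mpr Q.not_dvd_index).symm
    refine ⟨Lib.LocalChar.isPClosed_of_sylow_le Q hQO.le, ?_, hcop⟩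
    set g := QuotientGroup.mk' R with hg
    set φ : ↥N →* L ⧸ R := g.comp N.subtype with hφ
    have hker : φ.ker = pCore p ↥N := by
      rw [← hQO, hQ, hφ, ← MonoidHom.comap_ker, QuotientGroup.ker_mk']
      rfl
    have hrange : φ.range = N.map g := by rw [hφ, MonoidHom.range_comp, Subgroup.range_subtype]
    let e : ↥N ⧸ pCore p ↥N ≃* ↥(N.map g) :=
      ((QuotientGroup.quotientMulEquivOfEq hker.symm).trans
        (QuotientGroup.quotientKerEquivRange φ)).trans (MulEquiv.subgroupCongr hrange)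
    suffices hnil : Group.IsNilpotent ↥(N.map g) from (Group.isNilpotent_congr e).mpr hnil
    haveI : (N.map g).Normal := Subgroup.Normal.map inferInstance g (QuotientGroup.mk'_surjective R)
    have hYcop : (Nat.card ↥(Y.map g)).Coprime (Nat.card ↥(N.map g)) := by
      obtain ⟨k, hk⟩ := IsPGroup.iff_card.mp ((P.isPGroup'.to_le hYP).map g)
      rw [hk]
      rw [Nat.card_congr e.toEquiv] at hcop
      exact (hcop.symm).pow_left k
    refine ((Group.isNilpotent_of_finite_tfae (G := ↥(N.map g))).out 0 3 rfl rfl).mpr ?_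
    intro q hq S
    haveI := hq
    obtain ⟨S₀, hS₀⟩ := Lib.Coprime.exists_invariant_sylow (p := q) (A := Y.map g) (K := N.map g)
      Subgroup.le_normalizer_of_normal hYcop
      (Or.inl (by haveI := ((P.isPGroup'.to_le hYP).map g).isNilpotent; infer_instance))
    set Z := Subgroup.normalizer (((S₀ : Subgroup ↥(N.map g)).map (N.map g).subtype :
      Subgroup (L ⧸ R)) : Set (L ⧸ R)) with hZ
    have hZtop : Z = ⊤ := by
      have hfr := Sylow.normalizer_sup_eq_top S₀
      have h2 : N ⊔ Z.comap g = ⊤ := by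
        refine top_le_iff.mp fun x _ => ?_
        have hx : g x ∈ (Z ⊔ N.map g : Subgroup (L ⧸ R)) := by rw [hfr]; exact Subgroup.mem_top _
        rw [← SetLike.mem_coe, Subgroup.mul_normal] at hx
        obtain ⟨z, hz, n', hn', hzn⟩ := hx
        obtain ⟨n, hn, rfl⟩ := hn'
        have hxz : x * n⁻¹ ∈ Z.comap g := by
          rw [Subgroup.mem_comap, map_mul, map_inv, ← hzn]
          simpa using hz
        simpa using mul_mem (Subgroup.mem_sup_right (S := N) hxz) (Subgroup.mem_sup_left (T := Z.comap g) hn)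
      have h3 := hfrat N hNL (Z.comap g) (Subgroup.map_le_iff_le_comap.mp hS₀) h2
      rw [← Subgroup.map_comap_eq_self_of_surjective (QuotientGroup.mk'_surjective R) Z, h3,
        Subgroup.map_top_of_surjective _ (QuotientGroup.mk'_surjective R)]
    haveI hS₀n : (S₀ : Subgroup ↥(N.map g)).Normal := by
      haveI := Subgroup.normalizer_eq_top_iff.mp hZtop
      have h := (inferInstance : (((S₀ : Subgroup ↥(N.map g)).map (N.map g).subtype).subgroupOf
        (N.map g)).Normal)
      rwa [Subgroup.subgroupOf, Subgroup.comap_map_eq_self_of_injective (N.map g).subtype_injective] at h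
    obtain ⟨x, rfl⟩ := MulAction.exists_smul_eq ↥(N.map g) S₀ S
    rw [Sylow.smul_eq_of_normal]
    exact hS₀n
  set D := L₀.normalCore with hD
  have hDL : D ≤ L₀ := Subgroup.normalCore_le L₀
  obtain ⟨hDcl, -, -⟩ := main D hDL
  set O := pCore p L with hO
  set f := QuotientGroup.mk' O with hf
  have hfs : Function.Surjective f := QuotientGroup.mk'_surjective O
  have hOD : O ≤ D := Subgroup.normal_le_normalCore.mpr hOL
  refine ⟨⟨hOD, le_antisymm ?_ ?_, hDcl⟩, main⟩
  · refine le_iInf₂ fun M' hM' => ?_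
    rw [Subgroup.map_le_iff_le_comap]
    by_contra hne
    set M := M'.comap f with hMdef
    have hOM : O ≤ M := QuotientGroup.le_comap_mk' O M'
    have hMco : IsCoatom M := by
      refine ⟨fun h => hM'.1 ?_, fun Z hZ => ?_⟩
      · rw [← Subgroup.map_comap_eq_self_of_surjective hfs M', ← hMdef, h,
          Subgroup.map_top_of_surjective f hfs]
      · have hZ' : (Z.map f).comap f = Z := by
          rw [QuotientGroup.comap_map_mk', sup_eq_right.mpr (hOM.trans hZ.le)]
        rw [← hZ', hMdef] at hZ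
        rw [← hZ', hM'.2 _ ((Subgroup.comap_lt_comap_of_surjective hfs).mp hZ), Subgroup.comap_top]
    have htop : M ⊔ D = ⊤ := hMco.2 _ (left_lt_sup.mpr hne)
    have hidx : ¬ p ∣ M.index := by
      have h1 : D.relIndex M = D.index := by
        rw [← Subgroup.relIndex_sup_right M D, htop, Subgroup.relIndex_top_right]
      have h2 : (M ⊓ D).relIndex M * M.index = (M ⊓ D).relIndex D * D.index := by
        rw [Subgroup.relIndex_mul_index inf_le_left, Subgroup.relIndex_mul_index inf_le_right]
      rw [Subgroup.inf_relIndex_left, h1, Subgroup.inf_relIndex_right, mul_comm] at h2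
      have h3 : M.index = M.relIndex D := Nat.eq_of_mul_eq_mul_right (Nat.pos_of_ne_zero Subgroup.index_ne_zero_of_finite) h2
      rw [h3]
      haveI := hPN D inferInstance hDL
      have hle : (P : Subgroup L) ⊓ D ≤ M :=
        (Lib.PSolvable.le_pCore (P.isPGroup'.to_inf_left (K := D))).trans hOM
      obtain ⟨Q, hQ⟩ := Lib.LocalChar.exists_sylow_inf P (D := D) Subgroup.le_normalizer_of_normal
      intro hdvd
      refine Q.not_dvd_index (hdvd.trans ?_)
      rw [hQ]
      exact Subgroup.relIndex_dvd_of_le_left D hle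
    obtain ⟨S⟩ : Nonempty (Sylow p ↥M) := inferInstance
    obtain ⟨S', hS'⟩ := (S.isPGroup'.map M.subtype).exists_le_sylow
    have hS'M : (S' : Subgroup L) ≤ M := by
      have h1 : Nat.card ↥(S' : Subgroup L) = Nat.card ↥((S : Subgroup ↥M).map M.subtype) := by
        rw [Nat.card_congr ((S : Subgroup ↥M).equivMapOfInjective _ M.subtype_injective).toEquiv.symm,
          S'.card_eq_multiplicity, S.card_eq_multiplicity]
        congr 1
        rw [← M.card_mul_index, Nat.factorization_mul Nat.card_pos.ne' Subgroup.index_ne_zero_of_finite,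
          Finsupp.add_apply, Nat.factorization_eq_zero_of_not_dvd hidx, add_zero]
      exact (Subgroup.eq_of_le_of_card_ge hS' h1.le).ge.trans (Subgroup.map_subtype_le _)
    obtain ⟨l, hl⟩ := MulAction.exists_smul_eq L S' P
    have hYM' : Y ≤ M.map (MulAut.conj l).toMonoidHom := by
      refine hYP.trans ?_
      rw [← hl, Lib.LocalChar.coe_smul_sylow]
      exact Subgroup.map_mono hS'M
    have h4 : M.map (MulAut.conj l).toMonoidHom = L₀ :=
      huniq _ ⟨(OrderIso.isCoatom_iff (MulEquiv.mapSubgroup (MulAut.conj l)) M).mpr hMco, hYM'⟩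
    refine hne ?_
    rw [← Lib.LocalChar.conj_map_eq_of_mem (g := l) (X := D)
      (by rw [Subgroup.normalizer_eq_top]; exact Subgroup.mem_top l)] at hDL
    rw [← h4] at hDL
    exact (Subgroup.map_le_map_iff_of_injective (MulAut.conj l).injective).mp hDL
  · intro x hx
    obtain ⟨y, rfl⟩ := hfs x
    refine ⟨y, fun b => ?_, rfl⟩
    have hb : f (b * y * b⁻¹) ∈ frattini (L ⧸ O) := by
      simpa using (inferInstance : (frattini (L ⧸ O)).Normal).conj_mem _ hx (f b)
    have hco : IsCoatom (L₀.map f) := by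
      have hL' : (L₀.map f).comap f = L₀ := by rw [QuotientGroup.comap_map_mk', sup_eq_right.mpr hOL]
      refine ⟨fun h => hL₀.1 ?_, fun Z hZ => ?_⟩
      · rw [← hL', h, Subgroup.comap_top]
      · have h2 : L₀ < Z.comap f := by
          rw [← hL']
          exact (Subgroup.comap_lt_comap_of_surjective hfs).mpr hZ
        have h3 := congrArg (Subgroup.map f) (hL₀.2 _ h2)
        rwa [Subgroup.map_comap_eq_self_of_surjective hfs, Subgroup.map_top_of_surjective f hfs] at h3
    have hmem : b * y * b⁻¹ ∈ (L₀.map f).comap f := frattini_le_coatom hco hb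
    rwa [QuotientGroup.comap_map_mk', sup_eq_right.mpr hOL] at hmem

end Cfsg.Agent.S2836
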