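import Mathlib
import Cfsg.Agent.S2835
import Cfsg.Agent.Lib.LocalChar.Frattini
import Cfsg.Agent.Lib.Core.Nilpotent
import Cfsg.Agent.Lib.PGroup.ElemAbelian
import Cfsg.Statements.S2837
-- import your own Cfsg.Agent.* helpers here

set_option autoImplicit false
open Cfsg
open scoped commutatorElement Pointwise

namespace Cfsg.Agent.S2837

/-- Let L be a finite group of characteristic p, L₀ a maximal subgroup, Y an elementary abelian p-subgroup of L₀ with L Y-minimal and O_p(L) ≤ N_L(Y). Put A = the normal closure of O_p(L) ∩ Y in L. Then for every g ∈ L outside L₀: Φ(A) = A' = [A ∩ Y, A] = [A ∩ Y, A ∩ gYg⁻¹] ≤ C_Y(L), and Y ∩ gYg⁻¹ = (A ∩ Y) ∩ (A ∩ gYg⁻¹) = C_Y(L) = C_A(L). -/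
theorem result {L : Type*} [Group L] [Finite L] {p : ℕ} [Fact p.Prime] (hchar : Subgroup.centralizer (Cfsg.pCore p L : Set L) ≤ Cfsg.pCore p L) (L₀ : Subgroup L) (hL₀ : IsCoatom L₀) (Y : Subgroup L) (hYL₀ : Y ≤ L₀) (hYel : Cfsg.IsElementaryAbelian p Y) (hmin : Cfsg.IsMinimalOver Y) (hOY : Cfsg.pCore p L ≤ Subgroup.normalizer (Y : Set L)) (A : Subgroup L) (hA : A = Subgroup.normalClosure (((Cfsg.pCore p L ⊓ Y : Subgroup L)) : Set L)) (g : L) (hg : g ∉ L₀) : (frattini ↥A).map A.subtype = ⁅A, A⁆ ∧ ⁅A, A⁆ = ⁅A ⊓ Y, A⁆ ∧ ⁅A ⊓ Y, A⁆ = ⁅A ⊓ Y, A ⊓ Y.map (MulAut.conj g).toMonoidHom⁆ ∧ ⁅A ⊓ Y, A⁆ ≤ Y ⊓ Subgroup.center L ∧ Y ⊓ Y.map (MulAut.conj g).toMonoidHom = Y ⊓ Subgroup.center L ∧ (A ⊓ Y) ⊓ (A ⊓ Y.map (MulAut.conj g).toMonoidHom) = Y ⊓ Subgroup.center L ∧ A ⊓ Subgroup.center L = Y ⊓ Subgroup.center L := by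
  have hYp : IsPGroup p ↥Y := Lib.ElemAbelian.isPGroup hYel
  obtain ⟨T, hT⟩ := (hYp.comap_subtype (K := L₀)).exists_le_sylow
  have hYT : Y ≤ (T : Subgroup ↥L₀).map L₀.subtype := fun y hy =>
    ⟨⟨y, hYL₀ hy⟩, hT (Subgroup.mem_subgroupOf.mpr hy), rfl⟩
  obtain ⟨-, -, -, -, hgen, hinf⟩ := S2835.result L₀ hL₀ T Y hYT hmin
  have hcomm : IsMulCommutative ↥Y :=
    ⟨⟨fun a b => Subtype.ext (Lib.ElemAbelian.comm hYel a.2 b.2)⟩⟩
  have hYY : Y ⊓ Y.map (MulAut.conj g).toMonoidHom = Y ⊓ Subgroup.center L := hinf hcomm g hg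
  set Y' := Y.map (MulAut.conj g).toMonoidHom with hY'
  have htop : Y ⊔ Y' = ⊤ := hgen g hg
  set O := Cfsg.pCore p L with hOdef
  have hOg : O.map (MulAut.conj g).toMonoidHom = O :=
    Lib.LocalChar.conj_map_eq_of_mem (by rw [Subgroup.normalizer_eq_top]; trivial)
  have hOY' : O ≤ Subgroup.normalizer (Y' : Set L) := by
    rw [hY', Lib.LocalChar.normalizer_conj_map, ← hOg]
    exact Subgroup.map_mono hOY
  set B := O ⊓ Y with hB
  set B' := O ⊓ Y' with hB'
  have hBB' : B.map (MulAut.conj g).toMonoidHom = B' := by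
    rw [hB, Subgroup.map_inf _ _ _ (MulAut.conj g).injective, hOg]
  have hOn : ∀ Z : Subgroup L, Z ≤ Subgroup.normalizer (O : Set L) := fun Z => by
    rw [Subgroup.normalizer_eq_top]; exact le_top
  -- `A = B B'`
  have hW : ∀ Z : Subgroup L, O ≤ Subgroup.normalizer (Z : Set L) → ⁅O, Z⁆ ≤ O ⊓ Z := fun Z hZ =>
    le_inf (Subgroup.commutator_le_left O Z) (Subgroup.le_normalizer_iff_commutator_le_right.mp hZ)
  have hYW : ∀ X Z : Subgroup L, O ≤ Subgroup.normalizer (Z : Set L) → X ≤ O → O ⊓ Z ≤ X →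
      Z ≤ Subgroup.normalizer (X : Set L) := fun X Z hZ hX hle =>
    Subgroup.le_normalizer_iff_commutator_le_left.mpr
      ((Subgroup.commutator_mono hX le_rfl).trans ((hW Z hZ).trans hle))
  haveI hWn : (B ⊔ B').Normal := Subgroup.normalizer_eq_top_iff.mp (top_le_iff.mp (htop ▸ sup_le
    (hYW _ Y hOY (sup_le inf_le_left inf_le_left) le_sup_left)
    (hYW _ Y' hOY' (sup_le inf_le_left inf_le_left) le_sup_right)))
  have hAeq : A = B ⊔ B' := by
    refine le_antisymm (hA ▸ Subgroup.normalClosure_le_normal (SetLike.coe_subset_coe.mpr le_sup_left)) (hA ▸ sup_le ?_ ?_)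
    · exact Subgroup.le_normalClosure
    · rw [← hBB']
      haveI : (Subgroup.normalClosure ((B : Subgroup L) : Set L)).Normal :=
        Subgroup.normalClosure_normal
      exact (Subgroup.map_mono Subgroup.le_normalClosure).trans
        (Lib.LocalChar.conj_map_eq_of_mem (by rw [Subgroup.normalizer_eq_top]; trivial)).le
  have hAO : A ≤ O := hAeq.le.trans (sup_le inf_le_left inf_le_left)
  have hAY : A ⊓ Y = B :=
    le_antisymm (inf_le_inf_right Y hAO) (le_inf (le_sup_left.trans hAeq.ge) inf_le_right)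
  have hAY' : A ⊓ Y' = B' :=
    le_antisymm (inf_le_inf_right Y' hAO) (le_inf (le_sup_right.trans hAeq.ge) inf_le_right)
  set D := Y ⊓ Subgroup.center L with hD
  have hDO : D ≤ O := by
    haveI : D.Normal := ⟨fun d hd x => by
      rw [Subgroup.mem_center_iff.mp hd.2 x, mul_inv_cancel_right]; exact hd⟩
    exact Lib.PSolvable.le_pCore (hYp.to_le inf_le_left)
  have hBD : B ⊓ B' = D := le_antisymm
    ((le_inf (inf_le_left.trans inf_le_right) (inf_le_right.trans inf_le_right)).trans hYY.le)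
    (le_inf (le_inf hDO inf_le_left) (le_inf hDO (hYY.ge.trans inf_le_right)))
  have hBn : O ≤ Subgroup.normalizer (B : Set L) :=
    Lib.LocalChar.le_normalizer_inf_of_le Subgroup.le_normalizer hOY
  have hBn' : O ≤ Subgroup.normalizer (B' : Set L) :=
    Lib.LocalChar.le_normalizer_inf_of_le Subgroup.le_normalizer hOY'
  have hcD : ⁅B, B'⁆ ≤ D := hBD ▸ le_inf
    (Subgroup.le_normalizer_iff_commutator_le_left.mp (inf_le_left.trans hBn))
    (Subgroup.le_normalizer_iff_commutator_le_right.mp (inf_le_left.trans hBn'))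
  haveI hcn : (⁅B, B'⁆).Normal := ⟨fun d hd x => by
    rw [Subgroup.mem_center_iff.mp (hcD hd).2 x, mul_inv_cancel_right]; exact hd⟩
  have hBel : ∀ a ∈ B, ∀ b ∈ B, ⁅a, b⁆ = 1 := fun a ha b hb =>
    commutatorElement_eq_one_iff_mul_comm.mpr (Lib.ElemAbelian.comm hYel ha.2 hb.2)
  have hY'el : Cfsg.IsElementaryAbelian p Y' := Lib.ElemAbelian.map hYel _
  have hB'el : ∀ a ∈ B', ∀ b ∈ B', ⁅a, b⁆ = 1 := fun a ha b hb =>
    commutatorElement_eq_one_iff_mul_comm.mpr (Lib.ElemAbelian.comm hY'el ha.2 hb.2)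
  -- commutators inside `B B'`
  have hcomAll : ∀ x ∈ A, ∀ y ∈ A, ⁅x, y⁆ ∈ ⁅B, B'⁆ := by
    intro x hx y hy
    set π := QuotientGroup.mk' ⁅B, B'⁆
    have hle : (B.map π ⊔ B'.map π) ≤
        Subgroup.centralizer ((B.map π ⊔ B'.map π : Subgroup (L ⧸ ⁅B, B'⁆)) : Set _) := by
      have h0 : ∀ S T : Subgroup L, (∀ a ∈ S, ∀ b ∈ T, ⁅a, b⁆ ∈ ⁅B, B'⁆) →
          S.map π ≤ Subgroup.centralizer ((T.map π : Subgroup _) : Set (L ⧸ ⁅B, B'⁆)) := by
        intro S T h
        rw [← Subgroup.commutator_eq_bot_iff_le_centralizer, ← Subgroup.map_commutator,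
          Subgroup.map_eq_bot_iff, QuotientGroup.ker_mk']
        exact Subgroup.commutator_le.mpr h
      have h12 := h0 B B' fun a ha b hb => Subgroup.commutator_mem_commutator ha hb
      have h11 := h0 B B fun a ha b hb => by rw [hBel a ha b hb]; exact one_mem _
      have h22 := h0 B' B' fun a ha b hb => by rw [hB'el a ha b hb]; exact one_mem _
      refine sup_le ?_ ?_ <;> rw [Subgroup.le_centralizer_iff] <;> refine sup_le ?_ ?_
      exacts [h11, Subgroup.le_centralizer_iff.mp h12, h12, h22]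
    rw [← Subgroup.map_sup, ← hAeq] at hle
    rw [← QuotientGroup.eq_one_iff]
    show π ⁅x, y⁆ = 1
    rw [map_commutatorElement, commutatorElement_eq_one_iff_mul_comm]
    exact (Subgroup.mem_centralizer_iff.mp (hle ⟨x, hx, rfl⟩) _ ⟨y, hy, rfl⟩).symm
  have hBA : B ≤ A := le_sup_left.trans hAeq.ge
  have hB'A : B' ≤ A := le_sup_right.trans hAeq.ge
  have hA' : ⁅A, A⁆ = ⁅B, B'⁆ :=
    le_antisymm (Subgroup.commutator_le.mpr hcomAll) (Subgroup.commutator_mono hBA hB'A)
  have hBA' : ⁅B, A⁆ = ⁅B, B'⁆ :=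
    le_antisymm ((Subgroup.commutator_mono hBA le_rfl).trans hA'.le)
      (Subgroup.commutator_mono le_rfl hB'A)
  have hAp : IsPGroup p ↥A := Lib.PSolvable.pCore_isPGroup.to_le hAO
  have hpow : ∀ a ∈ A, a ^ p ∈ ⁅A, A⁆ := by
    intro a ha
    rw [hA', ← QuotientGroup.eq_one_iff]
    set π := QuotientGroup.mk' ⁅B, B'⁆
    show π (a ^ p) = 1
    rw [map_pow]
    have hab : Cfsg.IsElementaryAbelian p (A.map π) := by
      refine Lib.ElemAbelian.of_comm_of_pow ?_ ?_
      · rintro _ ⟨u, hu, rfl⟩ _ ⟨v, hv, rfl⟩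
        rw [← commutatorElement_eq_one_iff_mul_comm, ← map_commutatorElement]
        exact (QuotientGroup.eq_one_iff _).mpr (hcomAll u hu v hv)
      · rintro _ ⟨u, hu, rfl⟩
        rw [hAeq, Subgroup.coe_mul_of_left_le_normalizer_right B B'
          (inf_le_left.trans hBn')] at hu
        obtain ⟨b, hb, c, hc, rfl⟩ := hu
        dsimp only
        have hbc : Commute (π b) (π c) := by
          show π b * π c = π c * π b
          rw [← commutatorElement_eq_one_iff_mul_comm, ← map_commutatorElement]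
          exact (QuotientGroup.eq_one_iff _).mpr (Subgroup.commutator_mem_commutator hb hc)
        rw [map_mul, hbc.mul_pow, ← map_pow, ← map_pow, Lib.ElemAbelian.pow_eq_one hYel hb.2,
          Lib.ElemAbelian.pow_eq_one hY'el hc.2, map_one, one_mul]
    exact hab.2 _ ⟨a, ha, rfl⟩
  have hAY'Y : (A ⊓ Y) ⊓ (A ⊓ Y') = D := by rw [hAY, hAY', hBD]
  refine ⟨?_, by rw [hAY, hA', hBA'], by rw [hAY, hAY', hBA'], ?_, hYY, hAY'Y, ?_⟩
  · refine le_antisymm (Lib.LocalChar.frattini_map_le le_rfl hpow) ?_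
    rw [← Subgroup.map_subtype_commutator]
    exact Subgroup.map_mono (Lib.Nilp.commutator_le_and_pow_mem_frattini hAp).1
  · rw [hAY, hBA']; exact hcD
  · refine le_antisymm (fun a ha => ⟨?_, ha.2⟩)
      (le_inf ((le_inf hDO inf_le_left).trans hBA) inf_le_right)
    obtain ⟨haA, haz⟩ := ha
    rw [hAeq] at haA
    replace haA : a ∈ ((B ⊔ B' : Subgroup L) : Set L) := haA
    rw [Subgroup.coe_mul_of_left_le_normalizer_right B B' (inf_le_left.trans hBn')] at haA
    obtain ⟨b, hb, c, hc, rfl⟩ := haA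
    have hcz : c ∈ Subgroup.center L := by
      have hle : Y ⊔ Y' ≤ Subgroup.centralizer ({c} : Set L) := by
        refine sup_le (fun y hy => Subgroup.mem_centralizer_singleton_iff.mpr ?_)
          (fun y hy => Subgroup.mem_centralizer_singleton_iff.mpr
            (Lib.ElemAbelian.comm hY'el hy hc.2))
        have h1 : y * (b * c) = b * c * y := Subgroup.mem_center_iff.mp haz y
        have h2 : y * b = b * y := Lib.ElemAbelian.comm hYel hy hb.2
        have h3 : b * (y * c) = b * (c * y) := by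
          rw [← mul_assoc, ← h2, mul_assoc, h1, mul_assoc]
        exact mul_left_cancel h3
      rw [htop] at hle
      exact Subgroup.mem_center_iff.mpr fun x =>
        Subgroup.mem_centralizer_singleton_iff.mp (hle (Subgroup.mem_top x))
    have hcY : c ∈ Y := by
      obtain ⟨y, hy, hyc⟩ := hc.2
      have : y = c := by
        have hyc' : g * y * g⁻¹ = c := hyc
        have h4 : y = g⁻¹ * c * g := by rw [← hyc']; group
        rw [h4, Subgroup.mem_center_iff.mp hcz g⁻¹, inv_mul_cancel_right]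
      exact this ▸ hy
    exact Y.mul_mem hb.2 hcY

end Cfsg.Agent.S2837
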