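import Mathlib
import Cfsg.Agent.Lib.LocalChar.WeaklyClosed
import Cfsg.Agent.Lib.LocalChar.Center
import Cfsg.Statements.S2839
-- import your own Cfsg.Agent.* helpers here

set_option autoImplicit false
open Cfsg
open scoped commutatorElement Pointwise

namespace Cfsg.Agent.S2839

/-- Let Q be a nontrivial p-subgroup of the finite group H that is a weakly closed subgroup, K a subgroup containing Q and N a normal subgroup of H. Then Q is a weakly closed subgroup of K; every H-conjugate of Q contained in K is a K-conjugate of Q; N_K(Q) contains a Sylow p-subgroup of K; N = N_N(Q)·O^p(N); and QN/N is a weakly closed subgroup of H/N. -/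
theorem result {H : Type*} [Group H] [Finite H] {p : ℕ} [Fact p.Prime] (Q : Subgroup H) (hQp : IsPGroup p ↥Q) (hQ1 : Q ≠ ⊥) (hwc : Cfsg.IsWeaklyClosedSubgroup p Q) (K : Subgroup H) (hQK : Q ≤ K) (N' : Subgroup H) [N'.Normal] : Cfsg.IsWeaklyClosedSubgroup p (Q.subgroupOf K) ∧ (∀ g : H, ((Q : Subgroup H).map (MulAut.conj (g : H)).toMonoidHom) ≤ K → ∃ k ∈ K, ((Q : Subgroup H).map (MulAut.conj (g : H)).toMonoidHom) = ((Q : Subgroup H).map (MulAut.conj (k : H)).toMonoidHom)) ∧ Cfsg.IsParabolic p ((Subgroup.normalizer ((Q : Subgroup H) : Set H)).subgroupOf K) ∧ (N' ⊓ Subgroup.normalizer ((Q : Subgroup H) : Set H)) ⊔ (Cfsg.pResidual p ↥N').map N'.subtype = N' ∧ Cfsg.IsWeaklyClosedSubgroup p (Q.map (QuotientGroup.mk' N')) := by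
  have hnorm : ∀ T : Sylow p H, Q ≤ (T : Subgroup H) → (T : Subgroup H) ≤ Subgroup.normalizer (Q : Set H) :=
    fun T hT => Lib.LocalChar.le_normalizer_of_isWeaklyClosed (Lib.LocalChar.isWeaklyClosed_of_le hwc T hT)
  obtain ⟨T, hT⟩ := hQp.exists_le_sylow
  refine ⟨Lib.LocalChar.wc_subgroupOf hwc hQp hQK, fun g hg => Lib.LocalChar.wc_conj_in hwc hQp hQK hg,
    ?_, ?_, ?_⟩
  · obtain ⟨S, hS⟩ := Lib.LocalChar.exists_sylow_of Q hQp hQK
    refine ⟨S, fun x hx => ?_⟩
    exact Lib.LocalChar.wc_normalizer_le hwc (S.isPGroup'.map K.subtype) hS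
      (Subgroup.le_normalizer ⟨x, hx, rfl⟩)
  · refine le_antisymm (sup_le inf_le_left (Lib.LocalChar.resOf_le N')) ?_
    refine (Lib.LocalChar.le_resOf_sup_inf T (D := N') Subgroup.le_normalizer_of_normal).trans
      (sup_le le_sup_right (le_trans ?_ le_sup_left))
    exact le_inf inf_le_right (inf_le_left.trans (hnorm T hT))
  · set f := QuotientGroup.mk' N' with hf
    have hfs : Function.Surjective f := QuotientGroup.mk'_surjective N'
    refine ⟨T.mapSurjective hfs, ?_, fun x hx => ?_⟩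
    · rw [Sylow.coe_mapSurjective]; exact Subgroup.map_mono hT
    obtain ⟨g, rfl⟩ := hfs x
    have himg : ∀ g : H, (Q.map f).map (MulAut.conj (f g)).toMonoidHom =
        (Q.map (MulAut.conj g).toMonoidHom).map f := by
      intro g
      rw [Subgroup.map_map, Subgroup.map_map]
      congr 1
    rw [himg] at hx ⊢
    have hX : Q.map (MulAut.conj g).toMonoidHom ≤ N' ⊔ (T : Subgroup H) := by
      rw [← QuotientGroup.comap_map_mk' N', ← Subgroup.map_le_iff_le_comap]
      rw [Sylow.coe_mapSurjective] at hx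
      exact hx
    obtain ⟨k, hk, heq⟩ := Lib.LocalChar.wc_conj_in hwc hQp (hT.trans le_sup_right) hX
    rw [heq, ← himg]
    rw [← SetLike.mem_coe, Subgroup.normal_mul] at hk
    obtain ⟨n, hn, t, ht, rfl⟩ := hk
    have hn1 : f n = 1 := (QuotientGroup.eq_one_iff n).mpr hn
    rw [map_mul, hn1, one_mul, himg t, Lib.LocalChar.conj_map_eq_of_mem (hnorm T hT ht)]

end Cfsg.Agent.S2839
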