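import Mathlib
import Cfsg.Agent.Lib.LocalChar.WeaklyClosed
import Cfsg.Agent.Lib.LocalChar.Center
import Cfsg.Statements.S2840
-- import your own Cfsg.Agent.* helpers here

set_option autoImplicit false
open Cfsg
open scoped commutatorElement Pointwise

namespace Cfsg.Agent.S2840

/-- Let Q be a nontrivial p-subgroup of the finite group H that is a weakly closed subgroup and K a subgroup containing Q; let K° be the weak closure of Q in K (generated by the H-conjugates of Q inside K). Then K° is generated by the K-conjugates of Q, and K° is the subnormal closure of Q in K. -/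
theorem result {H : Type*} [Group H] [Finite H] {p : ℕ} [Fact p.Prime] (Q : Subgroup H) (hQp : IsPGroup p ↥Q) (hQ1 : Q ≠ ⊥) (hwc : Cfsg.IsWeaklyClosedSubgroup p Q) (K : Subgroup H) (hQK : Q ≤ K) (Kc : Subgroup H) (hKc : Kc = Cfsg.weakClosure Q K) : Kc = ⨆ k : ↥K, ((Q : Subgroup H).map (MulAut.conj ((k : H) : H)).toMonoidHom) ∧ Kc = (Cfsg.subnormalClosure (Q.subgroupOf K)).map K.subtype := by
  have hfirst : Kc = ⨆ k : ↥K, Q.map (MulAut.conj (k : H)).toMonoidHom := by
    rw [hKc, weakClosure]
    refine le_antisymm (iSup_le fun g => ?_) (iSup_le fun k => ?_)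
    · obtain ⟨k, hk, he⟩ := Lib.LocalChar.wc_conj_in hwc hQp hQK g.2
      rw [he]
      exact le_iSup (fun k : ↥K => Q.map (MulAut.conj (k : H)).toMonoidHom) ⟨k, hk⟩
    · exact le_iSup (fun g : {g : H // Q.map (MulAut.conj g).toMonoidHom ≤ K} =>
        Q.map (MulAut.conj (g : H)).toMonoidHom)
        ⟨k, (Subgroup.map_mono hQK).trans
          (Lib.LocalChar.conj_map_eq_of_mem (Subgroup.le_normalizer k.2)).le⟩
  refine ⟨hfirst, le_antisymm ?_ ?_⟩
  · rw [hfirst]
    refine iSup_le fun k => ?_
    have key : ∀ M : Subgroup ↥K, M.IsSubnormal → Q.subgroupOf K ≤ M →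
        Q.map (MulAut.conj (k : H)).toMonoidHom ≤ M.map K.subtype := by
      intro M hM
      induction hM with
      | top =>
        intro _
        rw [← MonoidHom.range_eq_map, Subgroup.range_subtype]
        exact (Subgroup.map_mono hQK).trans
          (Lib.LocalChar.conj_map_eq_of_mem (Subgroup.le_normalizer k.2)).le
      | step M M' hle _ hN ih =>
        intro hQM
        have hQM' : Q ≤ M.map K.subtype := by
          rw [← Subgroup.map_subgroupOf_eq_of_le hQK]; exact Subgroup.map_mono hQM
        obtain ⟨j, hj, he⟩ := Lib.LocalChar.wc_conj_in hwc hQp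
          (hQM'.trans (Subgroup.map_mono hle)) (ih (hQM.trans hle))
        rw [he]
        refine (Subgroup.map_mono hQM').trans (le_of_eq (Lib.LocalChar.conj_map_eq_of_mem ?_))
        obtain ⟨j', hj', rfl⟩ := hj
        have hn := (Subgroup.normal_subgroupOf_iff_le_normalizer hle).mp hN hj'
        exact Subgroup.le_normalizer_map K.subtype ⟨j', hn, rfl⟩
    refine key (subnormalClosure (Q.subgroupOf K)) ?_ (le_sInf fun _ hX => hX.1)
    exact Lib.LocalChar.isSubnormal_sInf _ fun _ hX => hX.2
  · rw [hfirst]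
    have hn : ((⨆ k : ↥K, Q.map (MulAut.conj (k : H)).toMonoidHom).comap K.subtype).Normal :=
      ⟨fun x hx g => show ((g * x * g⁻¹ : ↥K) : H) ∈ _ from Lib.LocalChar.conj_mem_of_mem_normalizer
        (Lib.LocalChar.le_normalizer_iSup_conj K Q g.2) hx⟩
    rw [Subgroup.map_le_iff_le_comap]
    refine sInf_le ⟨fun x hx => ?_, hn.isSubnormal⟩
    refine le_iSup (fun k : ↥K => Q.map (MulAut.conj (k : H)).toMonoidHom) 1 ?_
    rw [OneMemClass.coe_one, Lib.LocalChar.conj_map_one]
    exact hx

end Cfsg.Agent.S2840
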