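import Mathlib
import Cfsg.Agent.Lib.LocalChar.WeaklyClosed
import Cfsg.Agent.Lib.LocalChar.Center
import Cfsg.Statements.S2841
-- import your own Cfsg.Agent.* helpers here

set_option autoImplicit false
open Cfsg
open scoped commutatorElement Pointwise

namespace Cfsg.Agent.S2841

/-- Let Q be a nontrivial p-subgroup of the finite group H that is a weakly closed subgroup and N a normal subgroup of H. Then N = N_N(Q)·[N, Q] and [N, Q] = (Q ∩ [N, Q])·[N, Q, Q]. -/
theorem result {H : Type*} [Group H] [Finite H] {p : ℕ} [Fact p.Prime] (Q : Subgroup H) (hQp : IsPGroup p ↥Q) (hQ1 : Q ≠ ⊥) (hwc : Cfsg.IsWeaklyClosedSubgroup p Q) (N' : Subgroup H) [N'.Normal] : (∀ n : H, n ∈ N' → ∃ a ∈ N' ⊓ Subgroup.normalizer ((Q : Subgroup H) : Set H), ∃ b ∈ ⁅N', Q⁆, n = a * b) ∧ (∀ c : H, c ∈ ⁅N', Q⁆ → ∃ a ∈ Q ⊓ ⁅N', Q⁆, ∃ b ∈ ⁅⁅N', Q⁆, Q⁆, c = a * b) := by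
  set M := ⁅N', Q⁆ with hM
  have hMN : M ≤ N' := Subgroup.commutator_le_left _ _
  have hNM : N' ≤ Subgroup.normalizer (M : Set H) := Subgroup.normalizer_commutator_ge_left N' Q
  have hQM : Q ≤ Subgroup.normalizer (M : Set H) := Subgroup.normalizer_commutator_ge_right N' Q
  have hconj : ∀ n ∈ N', ∃ m ∈ M,
      Q.map (MulAut.conj n).toMonoidHom = Q.map (MulAut.conj m).toMonoidHom := by
    intro n hn
    have hle : Q.map (MulAut.conj n).toMonoidHom ≤ M ⊔ Q := by
      rintro _ ⟨q, hq, rfl⟩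
      have h := mul_mem (le_sup_left (b := Q) (Subgroup.commutator_mem_commutator hn hq))
        (le_sup_right (a := M) hq)
      simpa [commutatorElement_def, mul_assoc] using h
    obtain ⟨k, hk, he⟩ := Lib.LocalChar.wc_conj_in hwc hQp le_sup_right hle
    rw [← SetLike.mem_coe, Subgroup.coe_mul_of_right_le_normalizer_left M Q hQM] at hk
    obtain ⟨m, hm, q, hq, rfl⟩ := hk
    refine ⟨m, hm, ?_⟩
    rw [he, ← Lib.LocalChar.conj_map_conj_map,
      Lib.LocalChar.conj_map_eq_of_mem (Subgroup.le_normalizer hq)]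
  refine ⟨fun n hn => ?_, fun c hc => ?_⟩
  · obtain ⟨m, hm, he⟩ := hconj n hn
    have ha : m⁻¹ * n ∈ N' ⊓ Subgroup.normalizer (Q : Set H) := by
      refine Subgroup.mem_inf.mpr ⟨mul_mem (inv_mem (hMN hm)) hn, ?_⟩
      rw [Lib.LocalChar.mem_normalizer_iff_conj_map, ← Lib.LocalChar.conj_map_conj_map, he,
        Lib.LocalChar.conj_map_conj_map, inv_mul_cancel, Lib.LocalChar.conj_map_one]
    refine ⟨m⁻¹ * n, ha, (m⁻¹ * n)⁻¹ * m * (m⁻¹ * n), ?_, by group⟩
    exact Lib.LocalChar.conj_mem_of_mem_normalizer' (hNM ha.1) hm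
  · set R := ⁅M, Q⁆ with hR
    have hRM : R ≤ M := Subgroup.le_normalizer_iff_commutator_le_left.mp hQM
    have hQR : Q ≤ Subgroup.normalizer (R : Set H) := Subgroup.normalizer_commutator_ge_right M Q
    have hle : M ≤ Q ⊔ R := by
      refine Subgroup.commutator_le.mpr fun n hn q hq => ?_
      obtain ⟨m, hm, he⟩ := hconj n hn
      have h1 : Q.map (MulAut.conj m).toMonoidHom ≤ Q ⊔ R := by
        rintro _ ⟨r, hr, rfl⟩
        have h := mul_mem (le_sup_right (a := Q) (Subgroup.commutator_mem_commutator hm hr))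
          (le_sup_left (b := R) hr)
        simpa [commutatorElement_def, mul_assoc] using h
      have h2 : n * q * n⁻¹ ∈ Q ⊔ R := h1 (he ▸ Lib.LocalChar.conj_mem_conj_map hq)
      simpa [commutatorElement_def] using mul_mem h2 (inv_mem (le_sup_left (b := R) hq))
    have hc' := hle hc
    rw [← SetLike.mem_coe, Subgroup.coe_mul_of_left_le_normalizer_right Q R hQR] at hc'
    obtain ⟨a, ha, b, hb, rfl⟩ := hc'
    exact ⟨a, ⟨ha, by simpa using mul_mem hc (inv_mem (hRM hb))⟩, b, hb, rfl⟩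

end Cfsg.Agent.S2841
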