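import Mathlib
import Cfsg.Agent.Lib.LocalChar.WeaklyClosed
import Cfsg.Agent.Lib.LocalChar.Center
import Cfsg.Statements.S2843
-- import your own Cfsg.Agent.* helpers here

set_option autoImplicit false
open Cfsg
open scoped commutatorElement Pointwise

namespace Cfsg.Agent.S2843

/-- Let Q be a nontrivial large p-subgroup of the finite group H, Q ≤ L ≤ H, and Y a nontrivial p-subgroup of H normalized by L. Let L° be the weak closure of Q in L (generated by the conjugates of Q inside L). Then L° equals the weak closure of Q in L·C_H(Y), and [L°, C_H(Y)] ≤ O_p(L°); in particular C_H(Y) normalizes L°. -/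
theorem result {H : Type*} [Group H] [Finite H] {p : ℕ} [Fact p.Prime] (Q : Subgroup H) (hQp : IsPGroup p ↥Q) (hQ1 : Q ≠ ⊥) (hL : Cfsg.IsLarge Q) (L : Subgroup H) (hQL : Q ≤ L) (Y : Subgroup H) (hYp : IsPGroup p ↥Y) (hY1 : Y ≠ ⊥) (hLY : L ≤ Subgroup.normalizer ((Y : Subgroup H) : Set H)) : Cfsg.weakClosure Q L = Cfsg.weakClosure Q (L ⊔ Subgroup.centralizer ((Y : Subgroup H) : Set H)) ∧ ⁅Cfsg.weakClosure Q L, Subgroup.centralizer ((Y : Subgroup H) : Set H)⁆ ≤ (Cfsg.pCoreOf p (Cfsg.weakClosure Q L)) ∧ Subgroup.centralizer ((Y : Subgroup H) : Set H) ≤ Subgroup.normalizer (((Cfsg.weakClosure Q L) : Subgroup H) : Set H) := by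
  set C := Subgroup.centralizer (Y : Set H) with hC
  set W := Cfsg.weakClosure Q L with hW
  have hQY : Q ≤ Subgroup.normalizer (Y : Set H) := hQL.trans hLY
  have hLC : L ≤ Subgroup.normalizer (C : Set H) := Lib.LocalChar.le_normalizer_centralizer_of_le hLY
  have hCQ : C ≤ Subgroup.normalizer (Q : Set H) := Lib.LocalChar.large_centralizer_le hQp hL hYp hY1 hQY
  have hwc := Lib.LocalChar.large_isWeaklyClosed hQp hQ1 hL
  have hconj : ∀ g : H, Q.map (MulAut.conj g).toMonoidHom ≤ L →
      C ≤ Subgroup.normalizer ((Q.map (MulAut.conj g).toMonoidHom : Subgroup H) : Set H) := by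
    intro g hg
    obtain ⟨l, hl, he⟩ := Lib.LocalChar.wc_conj_in hwc hQp hQL hg
    rw [he, Lib.LocalChar.normalizer_conj_map, ← Lib.LocalChar.conj_map_eq_of_mem (hLC hl)]
    exact Subgroup.map_mono hCQ
  have hCW : C ≤ Subgroup.normalizer (W : Set H) := by
    intro c hc
    rw [Lib.LocalChar.mem_normalizer_iff_conj_map, hW, weakClosure, Subgroup.map_iSup]
    exact iSup_congr fun g => Lib.LocalChar.conj_map_eq_of_mem (hconj g g.2 hc)
  refine ⟨le_antisymm (iSup_le fun g => ?_) (iSup_le fun g => ?_), ?_, hCW⟩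
  · exact le_iSup (fun g : {g : H // Q.map (MulAut.conj g).toMonoidHom ≤ L ⊔ C} =>
      Q.map (MulAut.conj (g : H)).toMonoidHom) ⟨g, g.2.trans le_sup_left⟩
  · obtain ⟨k, hk, he⟩ := Lib.LocalChar.wc_conj_in hwc hQp (hQL.trans le_sup_left) g.2
    rw [he]
    rw [← SetLike.mem_coe, Subgroup.coe_mul_of_left_le_normalizer_right L C hLC] at hk
    obtain ⟨l, hl, c, hc, rfl⟩ := hk
    rw [← Lib.LocalChar.conj_map_conj_map, Lib.LocalChar.conj_map_eq_of_mem (hCQ hc)]
    exact le_iSup (fun g : {g : H // Q.map (MulAut.conj g).toMonoidHom ≤ L} =>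
      Q.map (MulAut.conj (g : H)).toMonoidHom)
      ⟨l, (Subgroup.map_mono hQL).trans (Lib.LocalChar.conj_map_eq_of_mem (Subgroup.le_normalizer hl)).le⟩
  · have hWL : W ≤ L := iSup_le fun g => g.2
    have hWn : W ≤ Subgroup.normalizer ((pCoreOf p C : Subgroup H) : Set H) :=
      (hWL.trans hLC).trans (Lib.LocalChar.normalizer_le_normalizer_pCoreOf C)
    -- `[W, C] ≤ O_p(C) ∩ W`
    have hgen : ∀ g : H, Q.map (MulAut.conj g).toMonoidHom ≤ L →
        ⁅C, Q.map (MulAut.conj g).toMonoidHom⁆ ≤ pCoreOf p C := by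
      intro g hg
      refine Lib.CharP.le_pCoreOf ?_ ?_ (Subgroup.normalizer_commutator_ge_left _ _)
      · exact Subgroup.le_normalizer_iff_commutator_le_left.mp (hg.trans hLC)
      · exact (hQp.map (MulAut.conj g).toMonoidHom).to_le
          (Subgroup.le_normalizer_iff_commutator_le_right.mp (hconj g hg))
    let S : Subgroup H :=
      { carrier := {w | w ∈ Subgroup.normalizer ((pCoreOf p C : Subgroup H) : Set H) ∧
          ∀ c ∈ C, ⁅c, w⁆ ∈ pCoreOf p C}
        one_mem' := ⟨one_mem _, fun c _ => by simp⟩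
        mul_mem' := by
          rintro a b ⟨ha, ha'⟩ ⟨hb, hb'⟩
          refine ⟨mul_mem ha hb, fun c hc => ?_⟩
          rw [commutatorElement_mul_right_eq_mul_conj]
          simpa [MulAut.conj_apply, mul_assoc] using
            mul_mem (ha' c hc) (Lib.LocalChar.conj_mem_of_mem_normalizer ha (hb' c hc))
        inv_mem' := by
          rintro a ⟨ha, ha'⟩
          refine ⟨inv_mem ha, fun c hc => ?_⟩
          rw [commutatorElement_inv_right, ← commutatorElement_inv c a]
          exact Lib.LocalChar.conj_mem_of_mem_normalizer' ha (inv_mem (ha' c hc)) }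
    have hWS : W ≤ S := iSup_le fun g x hx =>
      ⟨hWn (le_iSup (fun g : {g : H // Q.map (MulAut.conj g).toMonoidHom ≤ L} =>
        Q.map (MulAut.conj (g : H)).toMonoidHom) g hx),
        fun c hc => hgen g g.2 (Subgroup.commutator_mem_commutator hc hx)⟩
    refine le_trans (le_inf ?_ (Subgroup.le_normalizer_iff_commutator_le_left.mp hCW)) ?_ (b := pCoreOf p C ⊓ W)
    · rw [Subgroup.commutator_comm, Subgroup.commutator_le]
      exact fun c hc w hw => (hWS hw).2 c hc
    · exact Lib.CharP.le_pCoreOf inf_le_right ((Lib.CharP.pCoreOf_isPGroup C).to_le inf_le_left)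
        (Lib.LocalChar.le_normalizer_inf_of_le hWn Subgroup.le_normalizer)

end Cfsg.Agent.S2843
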