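import Mathlib
import Cfsg.Agent.Lib.LocalChar.WeaklyClosed
import Cfsg.Agent.Lib.LocalChar.Center
import Cfsg.Statements.S2844
-- import your own Cfsg.Agent.* helpers here

set_option autoImplicit false
open Cfsg
open scoped commutatorElement Pointwise

namespace Cfsg.Agent.S2844

/-- Let Q be a nontrivial large p-subgroup of the finite group H and Q• = O_p(N_H(Q)). Then for every g ∈ H outside N_H(Q): C_H(Q) ∩ C_H(gQg⁻¹) = 1, C_H(Q•) ∩ C_H(gQ•g⁻¹) = 1, Z(Q) ∩ Z(gQg⁻¹) = 1 and Z(Q•) ∩ Z(gQ•g⁻¹) = 1; moreover N_H(Q) = N_H(Q•) and Q• is large in H. -/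
theorem result {H : Type*} [Group H] [Finite H] {p : ℕ} [Fact p.Prime] (Q : Subgroup H) (hQp : IsPGroup p ↥Q) (hQ1 : Q ≠ ⊥) (hL : Cfsg.IsLarge Q) (Qb : Subgroup H) (hQb : Qb = Cfsg.largeBullet p Q) : (∀ g : H, g ∉ Subgroup.normalizer ((Q : Subgroup H) : Set H) → Subgroup.centralizer ((Q : Subgroup H) : Set H) ⊓ Subgroup.centralizer ((((Q : Subgroup H).map (MulAut.conj (g : H)).toMonoidHom) : Subgroup H) : Set H) = ⊥ ∧ Subgroup.centralizer ((Qb : Subgroup H) : Set H) ⊓ Subgroup.centralizer ((((Qb : Subgroup H).map (MulAut.conj (g : H)).toMonoidHom) : Subgroup H) : Set H) = ⊥ ∧ (Q ⊓ Subgroup.centralizer ((Q : Subgroup H) : Set H)) ⊓ (((Q : Subgroup H).map (MulAut.conj (g : H)).toMonoidHom) ⊓ Subgroup.centralizer ((((Q : Subgroup H).map (MulAut.conj (g : H)).toMonoidHom) : Subgroup H) : Set H)) = ⊥ ∧ (Qb ⊓ Subgroup.centralizer ((Qb : Subgroup H) : Set H)) ⊓ (((Qb : Subgroup H).map (MulAut.conj (g : H)).toMonoidHom) ⊓ Subgroup.centralizer ((((Qb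 : Subgroup H).map (MulAut.conj (g : H)).toMonoidHom) : Subgroup H) : Set H)) = ⊥) ∧ Subgroup.normalizer ((Q : Subgroup H) : Set H) = Subgroup.normalizer ((Qb : Subgroup H) : Set H) ∧ Cfsg.IsLarge Qb := by
  have hwc := Lib.LocalChar.large_isWeaklyClosed hQp hQ1 hL
  set N := Subgroup.normalizer (Q : Set H) with hN
  have hQb' : Qb = pCoreOf p N := hQb
  have hQQb : Q ≤ Qb := hQb' ▸ Lib.CharP.le_pCoreOf Subgroup.le_normalizer hQp le_rfl
  have hQbp : IsPGroup p ↥Qb := hQb' ▸ Lib.CharP.pCoreOf_isPGroup N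
  have hNN : N = Subgroup.normalizer (Qb : Set H) := by
    refine le_antisymm ?_ (Lib.LocalChar.wc_normalizer_le hwc hQbp hQQb)
    rw [hQb']
    exact Lib.CharP.le_normalizer_pCoreOf N
  have hcc : Subgroup.centralizer (Qb : Set H) ≤ Subgroup.centralizer (Q : Set H) :=
    Subgroup.centralizer_le hQQb
  have key : ∀ g : H, g ∉ N → Subgroup.centralizer (Q : Set H) ⊓
      Subgroup.centralizer ((Q.map (MulAut.conj g).toMonoidHom : Subgroup H) : Set H) = ⊥ := by
    intro g hg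
    by_contra hne
    set U := Subgroup.centralizer (Q : Set H) ⊓
      Subgroup.centralizer ((Q.map (MulAut.conj g).toMonoidHom : Subgroup H) : Set H) with hU
    have h1 : Subgroup.normalizer (U : Set H) ≤ N := hL.2 U inf_le_left hne
    have h2 : Q.map (MulAut.conj g).toMonoidHom ≤ Subgroup.normalizer (U : Set H) :=
      (Subgroup.le_centralizer_iff.mp inf_le_right).trans (Subgroup.centralizer_le_normalizer _)
    exact hg (Lib.LocalChar.mem_normalizer_iff_conj_map.mpr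
      (Lib.LocalChar.wc_eq_of_normalizes hwc hQp (h2.trans h1)))
  have keyb : ∀ g : H, g ∉ N → Subgroup.centralizer (Qb : Set H) ⊓
      Subgroup.centralizer ((Qb.map (MulAut.conj g).toMonoidHom : Subgroup H) : Set H) = ⊥ :=
    fun g hg => le_bot_iff.mp ((inf_le_inf hcc (Subgroup.centralizer_le
      (Subgroup.map_mono hQQb))).trans (key g hg).le)
  refine ⟨fun g hg => ⟨key g hg, keyb g hg,
    le_bot_iff.mp ((inf_le_inf inf_le_right inf_le_right).trans (key g hg).le),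
    le_bot_iff.mp ((inf_le_inf inf_le_right inf_le_right).trans (keyb g hg).le)⟩, hNN, ?_⟩
  refine ⟨hcc.trans (hL.1.trans hQQb), fun U hU hU1 => ?_⟩
  rw [← hNN]
  exact hL.2 U (hU.trans hcc) hU1

end Cfsg.Agent.S2844
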