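import Mathlib
import Cfsg.Agent.Lib.LocalChar.WeaklyClosed
import Cfsg.Agent.Lib.LocalChar.Center
import Cfsg.Statements.S2845
-- import your own Cfsg.Agent.* helpers here

set_option autoImplicit false
open Cfsg
open scoped commutatorElement Pointwise

namespace Cfsg.Agent.S2845

/-- Let Q be a nontrivial large p-subgroup of the finite group H. Then for every subgroup L ≥ Q with O_p(L) ≠ 1, C_H(O_p(L)) is a p-group and L has characteristic p, and either the weak closure L° of Q in L equals Q or C_H(L°) = 1; for every subgroup R of H containing a Sylow p-subgroup of H with O_p(R) ≠ 1, C_H(O_p(R)) ≤ O_p(R); and H has parabolic characteristic p. -/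
theorem result {H : Type*} [Group H] [Finite H] {p : ℕ} [Fact p.Prime] (Q : Subgroup H) (hQp : IsPGroup p ↥Q) (hQ1 : Q ≠ ⊥) (hL : Cfsg.IsLarge Q) : (∀ L : Subgroup H, Q ≤ L → Cfsg.pCore p ↥L ≠ ⊥ → IsPGroup p ↥(Subgroup.centralizer (((Cfsg.pCoreOf p L) : Subgroup H) : Set H)) ∧ Subgroup.centralizer (Cfsg.pCore p ↥L : Set ↥L) ≤ Cfsg.pCore p ↥L ∧ (Cfsg.weakClosure Q L = Q ∨ Subgroup.centralizer (((Cfsg.weakClosure Q L) : Subgroup H) : Set H) = ⊥)) ∧ (∀ R : Subgroup H, Cfsg.IsParabolic p R → Cfsg.pCore p ↥R ≠ ⊥ → Subgroup.centralizer (((Cfsg.pCoreOf p R) : Subgroup H) : Set H) ≤ (Cfsg.pCoreOf p R)) ∧ Cfsg.IsOfParabolicCharacteristic p H := by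
  have hwc := Lib.LocalChar.large_isWeaklyClosed hQp hQ1 hL
  have hpar : ∀ R : Subgroup H, Cfsg.IsParabolic p R → Cfsg.pCore p ↥R ≠ ⊥ →
      Subgroup.centralizer ((pCoreOf p R : Subgroup H) : Set H) ≤ pCoreOf p R := by
    rintro R ⟨T, hT⟩ hO
    obtain ⟨T₀, hT₀⟩ := hQp.exists_le_sylow
    obtain ⟨x, rfl⟩ := MulAction.exists_smul_eq H T₀ T
    rw [Lib.LocalChar.coe_smul_sylow] at hT
    -- move `R` to contain `Q`
    set R' := R.map (MulAut.conj x⁻¹).toMonoidHom with hR'
    have hTR' : (T₀ : Subgroup H) ≤ R' := Lib.LocalChar.conj_map_le_iff.mp hT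
    have hpc : ∀ (X : Subgroup H) (g : H), (pCoreOf p X).map (MulAut.conj g).toMonoidHom ≤
        pCoreOf p (X.map (MulAut.conj g).toMonoidHom) := by
      intro X g
      refine Lib.CharP.le_pCoreOf (Subgroup.map_mono (Lib.CharP.pCoreOf_le X))
        ((Lib.CharP.pCoreOf_isPGroup X).map _) ?_
      rw [Lib.LocalChar.normalizer_conj_map]
      exact Subgroup.map_mono (Lib.CharP.le_normalizer_pCoreOf X)
    have hback : R'.map (MulAut.conj x).toMonoidHom = R := by
      rw [hR', Lib.LocalChar.conj_map_conj_map, mul_inv_cancel, Lib.LocalChar.conj_map_one]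
    have hO' : Cfsg.pCore p ↥R' ≠ ⊥ := by
      intro h0
      apply hO
      rw [← Lib.LocalChar.pCoreOf_eq_bot_iff] at h0 ⊢
      have h1 := hpc R x⁻¹
      rw [← hR', h0, le_bot_iff] at h1
      exact (Subgroup.map_eq_bot_iff_of_injective _ (MulAut.conj x⁻¹).injective).mp h1
    set C := Subgroup.centralizer ((pCoreOf p R' : Subgroup H) : Set H) with hC
    obtain ⟨-, hCp, -⟩ :=
      Lib.LocalChar.large_centralizer_pCoreOf hQp hQ1 hL (hT₀.trans hTR') hO'
    have hRC : R' ≤ Subgroup.normalizer (C : Set H) :=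
      Lib.LocalChar.le_normalizer_centralizer_of_le (Lib.CharP.le_normalizer_pCoreOf R')
    have hCR : C ≤ (T₀ : Subgroup H) :=
      le_sup_left.trans (T₀.3 (Q := C ⊔ (T₀ : Subgroup H))
        (hCp.to_sup_of_normal_left' T₀.isPGroup' (hTR'.trans hRC)) le_sup_right).le
    have hCO : C ≤ pCoreOf p R' := Lib.CharP.le_pCoreOf (hCR.trans hTR') hCp hRC
    have heq : pCoreOf p R = (pCoreOf p R').map (MulAut.conj x).toMonoidHom := by
      refine le_antisymm ?_ ((hpc R' x).trans_eq (by rw [hback]))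
      have h1 := Subgroup.map_mono (f := (MulAut.conj x).toMonoidHom) (hpc R x⁻¹)
      rwa [← hR', Lib.LocalChar.conj_map_conj_map, mul_inv_cancel, Lib.LocalChar.conj_map_one] at h1
    rw [heq, Lib.LocalChar.centralizer_conj_map]
    exact Subgroup.map_mono hCO
  refine ⟨fun L hQL hO => ?_, hpar, fun R hR hR1 hP => ?_⟩
  · obtain ⟨-, hCp, hLp⟩ := Lib.LocalChar.large_centralizer_pCoreOf hQp hQ1 hL hQL hO
    refine ⟨hCp, hLp, ?_⟩
    by_cases hall : ∀ g : H, Q.map (MulAut.conj g).toMonoidHom ≤ L →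
        Q.map (MulAut.conj g).toMonoidHom = Q
    · left
      refine le_antisymm (iSup_le fun g => (hall g g.2).le) ?_
      refine le_trans ?_ (le_iSup (fun g : {g : H // Q.map (MulAut.conj g).toMonoidHom ≤ L} =>
        Q.map (MulAut.conj (g : H)).toMonoidHom) ⟨1, by rw [Lib.LocalChar.conj_map_one]; exact hQL⟩)
      rw [Lib.LocalChar.conj_map_one]
    · right
      push Not at hall
      obtain ⟨g, hgL, hg⟩ := hall
      have hle : ∀ g : H, Q.map (MulAut.conj g).toMonoidHom ≤ L →
          Subgroup.centralizer ((Cfsg.weakClosure Q L : Subgroup H) : Set H) ≤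
            Subgroup.centralizer ((Q.map (MulAut.conj g).toMonoidHom : Subgroup H) : Set H) :=
        fun g hg => Subgroup.centralizer_le (SetLike.coe_subset_coe.mpr
          (le_iSup (fun g : {g : H // Q.map (MulAut.conj g).toMonoidHom ≤ L} =>
            Q.map (MulAut.conj (g : H)).toMonoidHom) ⟨g, hg⟩))
      by_contra hne
      set U := Subgroup.centralizer ((Cfsg.weakClosure Q L : Subgroup H) : Set H) with hU
      have hUQ : U ≤ Subgroup.centralizer (Q : Set H) := by
        have h := hle 1 (by rw [Lib.LocalChar.conj_map_one]; exact hQL)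
        rwa [Lib.LocalChar.conj_map_one] at h
      exact hg (Lib.LocalChar.wc_eq_of_normalizes hwc hQp
        (((Subgroup.le_centralizer_iff.mp (hle g hgL)).trans (Subgroup.centralizer_le_normalizer _)).trans
          (hL.2 U hUQ hne)))
  · set N := Subgroup.normalizer (R : Set H) with hN
    have hO : Cfsg.pCore p ↥N ≠ ⊥ := by
      intro h0
      rw [← Lib.LocalChar.pCoreOf_eq_bot_iff] at h0
      exact hR1 (le_bot_iff.mp (h0 ▸ Lib.CharP.le_pCoreOf Subgroup.le_normalizer hR le_rfl))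
    refine Lib.CharP.centralizer_pCore_le_of_forall fun c _ hc hcc => ?_
    exact Lib.LocalChar.eq_one_of_mem_pGroup (Lib.CharP.pCoreOf_isPGroup N) (hpar N hP hO hcc) hc

end Cfsg.Agent.S2845
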