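import Mathlib
import Cfsg.Agent.Lib.LocalChar.BasicProperty
import Cfsg.Agent.S2843
import Cfsg.Agent.S2845
import Cfsg.Statements.S2846
-- import your own Cfsg.Agent.* helpers here

set_option autoImplicit false
open Cfsg
open scoped commutatorElement Pointwise

namespace Cfsg.Agent.S2846

/-- Let Q be a nontrivial large p-subgroup of the finite group H, S a Sylow p-subgroup containing Q, and L a subgroup containing S with O_p(L) ≠ 1 and C_H(O_p(L)) ≤ O_p(L). Then there are a subgroup M containing S having the basic property (M ∈ 𝔐_H, writing Y_X for the largest p-reduced normal subgroup of X and 𝓛_H for the set of subgroups X with O_p(X) ≠ 1 and C_H(O_p(X)) ≤ O_p(X): M ∈ 𝓛_H, M·C_H(Y_M) is the only maximal member of 𝓛_H containing M and its largest p-reduced normal subgroup is again Y_M, C_M(Y_M) is p-closed, and the image of C_M(Y_M) in M/O_p(M) lies in the Frattini subgroup of M/O_p(M)) and a subgroup L* with S ≤ L* ≤ M, O_p(L*)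 ≠ 1, C_H(O_p(L*)) ≤ O_p(L*), such that L·C_H(Y_L) = L*·C_H(Y_L), the weak closures of Q in L and in L* agree and lie in that of M, and Y_L = Y_{L*} ≤ Y_M. If moreover Q is not normal in L, then Q is normal in neither L* nor M. -/
theorem result {H : Type*} [Group H] [Finite H] {p : ℕ} [Fact p.Prime] (Q : Subgroup H) (hQp : IsPGroup p ↥Q) (hQ1 : Q ≠ ⊥) (hLg : Cfsg.IsLarge Q) (S : Sylow p H) (hQS : Q ≤ (S : Subgroup H)) (L : Subgroup H) (hSL : (S : Subgroup H) ≤ L) (hL : L ∈ Cfsg.charPSubgroups p H) : ∃ M Ls : Subgroup H, (S : Subgroup H) ≤ M ∧ Cfsg.IsInFrakM p M ∧ (S : Subgroup H) ≤ Ls ∧ Ls ≤ M ∧ Ls ∈ Cfsg.charPSubgroups p H ∧ L ⊔ Subgroup.centralizer (((Cfsg.largestPReducedOf p L) : Subgroup H) : Set H) = Ls ⊔ Subgroup.centralizer (((Cfsg.largestPReducedOf p L) : Subgroup H) : Set H) ∧ Cfsg.weakClosure Q L = Cfsg.weakClosure Q Ls ∧ Cfsg.weakClosure Q Ls ≤ Cfsg.weakClosure Q M ∧ (Cfsg.largestPReducedOf p L) = (Cfsg.largestPReducedOf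 p Ls) ∧ (Cfsg.largestPReducedOf p Ls) ≤ (Cfsg.largestPReducedOf p M) ∧ (¬ L ≤ Subgroup.normalizer ((Q : Subgroup H) : Set H) → ¬ Ls ≤ Subgroup.normalizer ((Q : Subgroup H) : Set H) ∧ ¬ M ≤ Subgroup.normalizer ((Q : Subgroup H) : Set H)) := by
  have hpar : ∀ R : Subgroup H, (S : Subgroup H) ≤ R → Cfsg.pCoreOf p R ≠ ⊥ →
      Subgroup.centralizer ((Cfsg.pCoreOf p R : Subgroup H) : Set H) ≤ Cfsg.pCoreOf p R := fun R hR hne =>
    (S2845.result Q hQp hQ1 hLg).2.1 R ⟨S, hR⟩ fun h => hne ((Lib.LocalChar.pCoreOf_eq_bot_iff R).mpr h)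
  obtain ⟨M, Ls, hSM, hM, hSLs, hLsM, hLsc, hY, hYM, hC⟩ :=
    Lib.LocalChar.exists_basic S hpar hSL hL
  set Y := Cfsg.largestPReducedOf p L with hYdef
  set C := Subgroup.centralizer (Y : Set H) with hCdef
  have hr := Lib.LocalChar.isRedIn_largest (p := p) L
  have hrs := Lib.LocalChar.isRedIn_largest (p := p) Ls
  rw [← hY] at hrs
  have hY1 : Y ≠ ⊥ := Lib.LocalChar.largestPReducedOf_ne_bot S
    (fun h => hQ1 (le_bot_iff.mp (hQS.trans h.le))) hSL
    (Lib.LocalChar.charP_of_centralizer_pCoreOf_le hL.2)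
  have h1 := (S2843.result Q hQp hQ1 hLg L (hQS.trans hSL) Y hr.isPGroup hY1 hr.2.1).1
  have h2 := (S2843.result Q hQp hQ1 hLg Ls (hQS.trans hSLs) Y hr.isPGroup hY1 hrs.2.1).1
  have hweq : Cfsg.weakClosure Q L = Cfsg.weakClosure Q Ls := by rw [h1, h2, hC]
  refine ⟨M, Ls, hSM, hM, hSLs, hLsM, hLsc, hC, hweq, ?_, hY, hY ▸ hYM, fun hLn => ?_⟩
  · exact iSup_le fun g => le_iSup_of_le
      (f := fun g : {g : H // Q.map (MulAut.conj g).toMonoidHom ≤ M} =>
        Q.map (MulAut.conj (g : H)).toMonoidHom) ⟨g.1, g.2.trans hLsM⟩ le_rfl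
  · have hLs : ¬ Ls ≤ Subgroup.normalizer (Q : Set H) := fun hle => hLn
      ((le_sup_left.trans hC.le).trans (sup_le hle
        (Lib.LocalChar.large_centralizer_le hQp hLg hr.isPGroup hY1
          ((hQS.trans hSL).trans hr.2.1))))
    exact ⟨hLs, fun hle => hLs (hLsM.trans hle)⟩

end Cfsg.Agent.S2846
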