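import Mathlib
import Cfsg.Agent.Lib.LocalChar.PClosed
import Cfsg.Agent.Lib.LocalChar.Center
import Cfsg.Statements.S2848
-- import your own Cfsg.Agent.* helpers here

set_option autoImplicit false
open Cfsg
open scoped commutatorElement Pointwise

namespace Cfsg.Agent.S2848

/-- Standing hypotheses: G a finite group, S a Sylow p-subgroup, Q a nontrivial large p-subgroup of G contained in S (C_G(Q) ≤ Q and N_G(U) ≤ N_G(Q) for all nontrivial U ≤ C_G(Q)), and M a subgroup containing S with the basic property (M ∈ 𝔐_G(S)); Y_M denotes the largest p-reduced normal subgroup of M and M† = M·C_G(Y_M). Then O_p(M) is a weakly closed subgroup of M† (for p): it is the only M†-conjugate of itself inside some Sylow p-subgroup of M† containing it. -/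
theorem result {G : Type*} [Group G] [Finite G] {p : ℕ} [Fact p.Prime] (S : Sylow p G) (Q : Subgroup G) (hQp : IsPGroup p ↥Q) (hQ1 : Q ≠ ⊥) (hQS : Q ≤ (S : Subgroup G)) (hQ : Cfsg.IsLarge Q) (M : Subgroup G) (hSM : (S : Subgroup G) ≤ M) (hM : Cfsg.IsInFrakM p M) : Cfsg.IsWeaklyClosedSubgroup p (((Cfsg.pCoreOf p M)).subgroupOf (M ⊔ Subgroup.centralizer (((Cfsg.largestPReducedOf p M) : Subgroup G) : Set G))) := by
  set Y := largestPReducedOf p M with hY
  set C := Subgroup.centralizer (Y : Set G) with hC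
  set X := M ⊔ C with hX
  have hr := Lib.LocalChar.isRedIn_largest (p := p) M
  have hMC : M ≤ Subgroup.normalizer (C : Set G) := Lib.LocalChar.le_normalizer_centralizer_of_le hr.2.1
  have hXC : X ≤ Subgroup.normalizer (C : Set G) := sup_le hMC Subgroup.le_normalizer
  have hSX : (S : Subgroup G) ≤ X := hSM.trans le_sup_left
  have hOS : pCoreOf p M ≤ (S : Subgroup G) := Lib.LocalChar.pCoreOf_le_sylow S hSM
  have hSC : (S : Subgroup G) ⊓ C ≤ pCoreOf p M := by
    refine (Lib.LocalChar.le_pCoreOf_of_isPClosed hM.2.2.2.2.1 (inf_le_inf hSM le_rfl)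
      (S.isPGroup'.to_inf_left)).trans ?_
    exact Lib.LocalChar.pCoreOf_le_pCoreOf_of_normal inf_le_left
      (Lib.LocalChar.le_normalizer_inf_of_le Subgroup.le_normalizer hMC)
  refine ⟨S.subtype hSX, ?_, fun g hg => ?_⟩
  · rw [Sylow.coe_subtype]; exact Subgroup.comap_mono hOS
  · refine Subgroup.eq_of_le_of_card_ge ?_ (le_of_eq (Lib.LocalChar.card_conj_map _ g).symm)
    rintro x hx
    have hxS := hg hx
    rw [Sylow.coe_subtype] at hxS
    obtain ⟨y, hy, rfl⟩ := hx
    refine hSC ⟨hxS, ?_⟩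
    exact Lib.LocalChar.conj_mem_of_mem_normalizer (hXC g.2) (hr.pCoreOf_le_centralizer hy)

end Cfsg.Agent.S2848
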