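import Mathlib
import Cfsg.Agent.Lib.LocalChar.PClosed
import Cfsg.Agent.Lib.LocalChar.Center
import Cfsg.Statements.S2849
-- import your own Cfsg.Agent.* helpers here

set_option autoImplicit false
open Cfsg
open scoped commutatorElement Pointwise

namespace Cfsg.Agent.S2849

/-- Standing hypotheses: G a finite group, S a Sylow p-subgroup, Q a nontrivial large p-subgroup of G contained in S (C_G(Q) ≤ Q and N_G(U) ≤ N_G(Q) for all nontrivial U ≤ C_G(Q)), and M a subgroup containing S with the basic property (M ∈ 𝔐_G(S)); Y_M denotes the largest p-reduced normal subgroup of M and M† = M·C_G(Y_M). Suppose Y_M is asymmetric in G. Then for every subgroup R with Y_M ≤ R ≤ M†, the normal closure of Y_M in N_G(R) is elementary abelian. -/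
theorem result {G : Type*} [Group G] [Finite G] {p : ℕ} [Fact p.Prime] (S : Sylow p G) (Q : Subgroup G) (hQp : IsPGroup p ↥Q) (hQ1 : Q ≠ ⊥) (hQS : Q ≤ (S : Subgroup G)) (hQ : Cfsg.IsLarge Q) (M : Subgroup G) (hSM : (S : Subgroup G) ≤ M) (hM : Cfsg.IsInFrakM p M) (hasym : ¬ Cfsg.IsSymmetricIn (Cfsg.largestPReducedOf p M)) (R : Subgroup G) (hYR : (Cfsg.largestPReducedOf p M) ≤ R) (hRM : R ≤ (M ⊔ Subgroup.centralizer (((Cfsg.largestPReducedOf p M) : Subgroup G) : Set G))) : Cfsg.IsElementaryAbelian p ((Subgroup.normalClosure ((((Cfsg.largestPReducedOf p M)).subgroupOf (Subgroup.normalizer ((R : Subgroup G) : Set G)) : Subgroup ↥(Subgroup.normalizer ((R : Subgroup G) : Set G))) : Set ↥(Subgroup.normalizer ((R : Subgroup G) : Set G)))).map (Subgroup.normalizer ((R : Subgroup G) : Set G)).subtype) := by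
  set Y := largestPReducedOf p M with hY
  set N := Subgroup.normalizer (R : Set G) with hN
  have hr := Lib.LocalChar.isRedIn_largest (p := p) M
  have hRY : R ≤ Subgroup.normalizer (Y : Set G) :=
    hRM.trans (sup_le hr.2.1 (Subgroup.centralizer_le_normalizer _))
  have hcomm : ∀ g ∈ N, ∀ a ∈ Y, ∀ b ∈ Y, a * (g * b * g⁻¹) = (g * b * g⁻¹) * a := by
    intro g hg a ha b hb
    set Y' := Y.map (MulAut.conj g).toMonoidHom with hY'
    have h1 : Y' ≤ R := (Subgroup.map_mono hYR).trans (Lib.LocalChar.conj_map_eq_of_mem hg).le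
    have h2 : R ≤ Subgroup.normalizer (Y' : Set G) := by
      rw [hY', Lib.LocalChar.normalizer_conj_map]
      exact (Lib.LocalChar.conj_map_eq_of_mem hg).ge.trans (Subgroup.map_mono hRY)
    have h3 : ⁅Y, Y'⁆ = ⊥ := by
      by_contra hne
      refine hasym ⟨g, hne, le_inf ?_ ?_⟩
      · exact Subgroup.le_normalizer_iff_commutator_le_left.mp (h1.trans hRY)
      · exact Subgroup.le_normalizer_iff_commutator_le_right.mp (hYR.trans h2)
    exact (Subgroup.mem_centralizer_iff.mp ((Subgroup.commutator_eq_bot_iff_le_centralizer.mp h3) ha)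
      _ (Lib.LocalChar.conj_mem_conj_map hb)).symm
  set V : Subgroup G := ⨆ g : ↥N, Y.map (MulAut.conj (g : G)).toMonoidHom with hV
  have hEA : IsElementaryAbelian p V := by
    refine Lib.ElemAbelian.iSup (fun g => Lib.ElemAbelian.map hr.2.2.1 _) ?_
    rintro g h _ ⟨a, ha, rfl⟩ _ ⟨b, hb, rfl⟩
    have h1 := hcomm ((g : G)⁻¹ * h) (mul_mem (inv_mem g.2) h.2) a ha b hb
    have h2 := congrArg (fun t => (g : G) * t * (g : G)⁻¹) h1
    simpa [mul_assoc] using h2
  refine Lib.ElemAbelian.mono hEA ?_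
  rw [Subgroup.map_le_iff_le_comap]
  haveI : (V.comap N.subtype).Normal := ⟨fun x hx g =>
    show ((g * x * g⁻¹ : ↥N) : G) ∈ V from Lib.LocalChar.conj_mem_of_mem_normalizer
      (Lib.LocalChar.le_normalizer_iSup_conj N Y g.2) hx⟩
  refine Subgroup.normalClosure_le_normal fun x hx => ?_
  refine le_iSup (fun g : ↥N => Y.map (MulAut.conj (g : G)).toMonoidHom) 1 ?_
  rw [OneMemClass.coe_one, Lib.LocalChar.conj_map_one]
  exact hx

end Cfsg.Agent.S2849
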