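import Mathlib
import Cfsg.Agent.Lib.LocalChar.BasicAsym
import Cfsg.Statements.S2850
-- import your own Cfsg.Agent.* helpers here

set_option autoImplicit false
open Cfsg
open scoped commutatorElement Pointwise

namespace Cfsg.Agent.S2850

/-- Standing hypotheses: G a finite group, S a Sylow p-subgroup, Q a nontrivial large p-subgroup of G contained in S (C_G(Q) ≤ Q and N_G(U) ≤ N_G(Q) for all nontrivial U ≤ C_G(Q)), and M a subgroup containing S with the basic property (M ∈ 𝔐_G(S)); Y_M denotes the largest p-reduced normal subgroup of M and M† = M·C_G(Y_M). Suppose Y_M is asymmetric in G. Then N_G(L) ≤ N_G(O_p(M)) ≤ M† for every p-subgroup L containing O_p(M); O_p(M) is a weakly closed subgroup of G; for every subgroup L containing O_p(M), L ∩ M† contains a Sylow p-subgroup of L; and two elements of Y_M conjugate in G are conjugate in M. -/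
theorem result {G : Type*} [Group G] [Finite G] {p : ℕ} [Fact p.Prime] (S : Sylow p G) (Q : Subgroup G) (hQp : IsPGroup p ↥Q) (hQ1 : Q ≠ ⊥) (hQS : Q ≤ (S : Subgroup G)) (hQ : Cfsg.IsLarge Q) (M : Subgroup G) (hSM : (S : Subgroup G) ≤ M) (hM : Cfsg.IsInFrakM p M) (hasym : ¬ Cfsg.IsSymmetricIn (Cfsg.largestPReducedOf p M)) : (∀ L : Subgroup G, IsPGroup p ↥L → (Cfsg.pCoreOf p M) ≤ L → Subgroup.normalizer ((L : Subgroup G) : Set G) ≤ Subgroup.normalizer (((Cfsg.pCoreOf p M) : Subgroup G) : Set G) ∧ Subgroup.normalizer (((Cfsg.pCoreOf p M) : Subgroup G) : Set G) ≤ (M ⊔ Subgroup.centralizer (((Cfsg.largestPReducedOf p M) : Subgroup G) : Set G))) ∧ Cfsg.IsWeaklyClosedSubgroup p (Cfsg.pCoreOf p M) ∧ (∀ L : Subgroup G, (Cfsg.pCoreOf p M) ≤ L → Cfsg.IsParabolic p ((L ⊓ (M ⊔ Subgroup.centralizer (((Cfsg.largestPReducedOf p M) : Subgroup G) : Set G))).subgroupOf L)) ∧ (∀ x ∈ (Cfsg.largestPReducedOf p M), ∀ g : G, g * x * g⁻¹ ∈ (Cfsg.largestPReducedOf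 p M) → ∃ m ∈ M, m * x * m⁻¹ = g * x * g⁻¹) := by
  have h := Lib.LocalChar.basicSetting_of_large hQp hQ S hQS hSM hM
  set Y := Cfsg.largestPReducedOf p M with hYdef
  set T₀ := Cfsg.pCoreOf p M with hT₀def
  set C := Subgroup.centralizer (Y : Set G) with hCdef
  have hwc : Cfsg.IsWeaklyClosedSubgroup p T₀ := h.isWeaklyClosed hasym
  have hTp : IsPGroup p ↥T₀ := Lib.CharP.pCoreOf_isPGroup M
  have hNX : Subgroup.normalizer (T₀ : Set G) ≤ M ⊔ C := h.normalizer_pCoreOf_le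
  refine ⟨fun L hL hTL => ⟨Lib.LocalChar.wc_normalizer_le hwc hL hTL, hNX⟩, hwc,
    fun L hTL => ?_, fun x hx g hgx => ?_⟩
  · obtain ⟨P, hP⟩ := Lib.LocalChar.exists_sylow_of T₀ hTp hTL
    refine ⟨P, fun y hy => Subgroup.mem_subgroupOf.mpr ⟨y.2, ?_⟩⟩
    exact hNX (Lib.LocalChar.wc_normalizer_le hwc (P.isPGroup'.map L.subtype) hP
      (Subgroup.le_normalizer ⟨y, hy, rfl⟩))
  · set y := g * x * g⁻¹ with hy
    have hTC : T₀ ≤ C := Lib.LocalChar.pCoreOf_le_centralizer_Y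
    set Cy := Subgroup.centralizer ({y} : Set G) with hCy
    have h1 : T₀ ≤ Cy := fun t ht => Subgroup.mem_centralizer_singleton_iff.mpr
      (Subgroup.mem_centralizer_iff.mp (hTC ht) y hgx).symm
    have h2 : T₀.map (MulAut.conj g).toMonoidHom ≤ Cy := by
      rintro _ ⟨t, ht, rfl⟩
      have htx : t * x = x * t := (Subgroup.mem_centralizer_iff.mp (hTC ht) x hx).symm
      refine Subgroup.mem_centralizer_singleton_iff.mpr ?_
      show g * t * g⁻¹ * (g * x * g⁻¹) = g * x * g⁻¹ * (g * t * g⁻¹)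
      calc g * t * g⁻¹ * (g * x * g⁻¹) = g * (t * x) * g⁻¹ := by group
        _ = g * (x * t) * g⁻¹ := by rw [htx]
        _ = g * x * g⁻¹ * (g * t * g⁻¹) := by group
    obtain ⟨k, hk, hkeq⟩ := Lib.LocalChar.wc_conj_in hwc hTp h1 h2
    have hn : k⁻¹ * g ∈ Subgroup.normalizer (T₀ : Set G) := by
      rw [Lib.LocalChar.mem_normalizer_iff_conj_map, ← Lib.LocalChar.conj_map_conj_map, hkeq,
        Lib.LocalChar.conj_map_conj_map, inv_mul_cancel, Lib.LocalChar.conj_map_one]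
    have hX : k⁻¹ * g ∈ ((M ⊔ C : Subgroup G) : Set G) := hNX hn
    rw [Subgroup.coe_mul_of_left_le_normalizer_right M C
      (le_sup_left.trans h.le_normalizer_centralizer)] at hX
    obtain ⟨m, hm, c, hc, hmc⟩ := hX
    refine ⟨m, hm, ?_⟩
    have hmc' : m * c = k⁻¹ * g := hmc
    have hcx : c * x * c⁻¹ = x := by
      rw [← Subgroup.mem_centralizer_iff.mp hc x hx, mul_inv_cancel_right]
    have hky : k⁻¹ * y * k = y := by
      rw [mul_assoc, ← Subgroup.mem_centralizer_singleton_iff.mp hk, inv_mul_cancel_left]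
    calc m * x * m⁻¹ = m * (c * x * c⁻¹) * m⁻¹ := by rw [hcx]
      _ = (m * c) * x * (m * c)⁻¹ := by group
      _ = k⁻¹ * y * k := by rw [hmc', hy]; group
      _ = y := hky

end Cfsg.Agent.S2850
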