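import Mathlib
import Cfsg.Agent.Lib.LocalChar.BasicAsym
import Cfsg.Statements.S2851
-- import your own Cfsg.Agent.* helpers here

set_option autoImplicit false
open Cfsg
open scoped commutatorElement Pointwise

namespace Cfsg.Agent.S2851

/-- Standing hypotheses: G a finite group, S a Sylow p-subgroup, Q a nontrivial large p-subgroup of G contained in S, M a subgroup containing S with the basic property (M ∈ 𝔐_G(S)); Y_M the largest p-reduced normal subgroup of M and M† = M·C_G(Y_M). Let F be the preimage in M† of the generalized Fitting subgroup of M†/C_{M†}(Y_M). If Y_M is asymmetric in G and H is a subgroup of characteristic p containing F, then Y_M ≤ Y_H. -/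
theorem result {G : Type*} [Group G] [Finite G] {p : ℕ} [Fact p.Prime] (S : Sylow p G) (Q : Subgroup G) (hQp : IsPGroup p ↥Q) (hQ1 : Q ≠ ⊥) (hQS : Q ≤ (S : Subgroup G)) (hQ : Cfsg.IsLarge Q) (M : Subgroup G) (hSM : (S : Subgroup G) ≤ M) (hM : Cfsg.IsInFrakM p M) (hasym : ¬ Cfsg.IsSymmetricIn (Cfsg.largestPReducedOf p M)) [hn : ((Subgroup.centralizer (((Cfsg.largestPReducedOf p M) : Subgroup G) : Set G)).subgroupOf (M ⊔ Subgroup.centralizer (((Cfsg.largestPReducedOf p M) : Subgroup G) : Set G))).Normal] (F : Subgroup G) (hF : F = ((Cfsg.generalizedFittingSubgroup (↥(M ⊔ Subgroup.centralizer (((Cfsg.largestPReducedOf p M) : Subgroup G) : Set G)) ⧸ (Subgroup.centralizer (((Cfsg.largestPReducedOf p M) : Subgroup G) : Set G)).subgroupOf (M ⊔ Subgroup.centralizer (((Cfsg.largestPReducedOf p M) : Subgroup G) : Set G)))).comap (QuotientGroup.mk' ((Subgroup.centralizer (((Cfsg.largestPReducedOf p M) : Subgroup G) : Set G)).subgroupOf (M ⊔ Subgroup.centralizer (((Cfsg.largestPReducedOf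 p M) : Subgroup G) : Set G))))).map ((M ⊔ Subgroup.centralizer (((Cfsg.largestPReducedOf p M) : Subgroup G) : Set G))).subtype) (H : Subgroup G) (hFH : F ≤ H) (hH : Subgroup.centralizer (Cfsg.pCore p ↥H : Set ↥H) ≤ Cfsg.pCore p ↥H) : (Cfsg.largestPReducedOf p M) ≤ Cfsg.largestPReducedOf p H := by
  classical
  have h := Lib.LocalChar.basicSetting_of_large hQp hQ S hQS hSM hM
  set Y := Cfsg.largestPReducedOf p M with hYdef
  set T₀ := Cfsg.pCoreOf p M with hT₀def
  set C := Subgroup.centralizer (Y : Set G) with hCdef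
  set X := M ⊔ C with hXdef
  set C' := C.subgroupOf X with hC'
  set π := QuotientGroup.mk' C' with hπdef
  have hπ : Function.Surjective π := QuotientGroup.mk'_surjective _
  have hYX : Cfsg.largestPReducedOf p X = Y := hM.2.2.2.1.symm
  have hrX := Lib.LocalChar.isRedIn_largest (p := p) X
  rw [hYX] at hrX
  have hO : Cfsg.pCore p (↥X ⧸ C') = ⊥ := by
    refine Lib.PSolvable.eq_bot_of_comap_mk'_le _ fun d hd => ?_
    refine hrX.2.2.2 (((Cfsg.pCore p (↥X ⧸ C')).comap π).map X.subtype)
      (Subgroup.map_subtype_le _) ?_ ?_ ⟨d, hd, rfl⟩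
    · refine le_trans ?_ (Subgroup.le_normalizer_map X.subtype)
      rw [Subgroup.normalizer_eq_top, ← MonoidHom.range_eq_map, Subgroup.range_subtype]
    · rintro _ ⟨x, hx, rfl⟩ hxc
      exact (QuotientGroup.eq_one_iff x).mp (Lib.LocalChar.eq_one_of_mem_pGroup
        Lib.PSolvable.pCore_isPGroup hx
        (Lib.LocalChar.coprime_orderOf_map π (by rwa [orderOf_injective _ X.subtype_injective] at hxc)))
  set FS := Cfsg.generalizedFittingSubgroup (↥X ⧸ C') with hFS
  haveI hFSn : FS.Normal := Lib.Components.generalizedFittingSubgroup_normal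
  have hFX : F ≤ X := hF.le.trans (Subgroup.map_subtype_le _)
  have hmapF : (F.subgroupOf X).map π = FS := by
    rw [hF, Subgroup.subgroupOf, Subgroup.comap_map_eq_self_of_injective X.subtype_injective,
      Subgroup.map_comap_eq_self_of_surjective hπ]
  -- subgroups that are `p`-groups modulo `C(Y)` and normalized by `F` centralize `Y`
  have key : ∀ D : Subgroup G, D ≤ X → F ≤ Subgroup.normalizer (D : Set G) →
      (∀ x ∈ D, Nat.Coprime (orderOf x) p → x ∈ C) → D ≤ C := by
    intro D hDX hFD hDc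
    set P := (D.subgroupOf X).map π with hPdef
    have hPp : IsPGroup p ↥P := by
      refine Lib.LocalChar.isPGroup_subgroup_of_forall_coprime ?_
      rintro _ ⟨x, hx, rfl⟩ hxc
      obtain ⟨k, hk⟩ := Lib.Transfer.exists_pow_coprime (p := p) x
      have h2 : (π x) ^ p ^ k ∈ (⊥ : Subgroup (↥X ⧸ C')) := by
        rw [Subgroup.mem_bot, ← map_pow]
        exact (QuotientGroup.eq_one_iff _).mpr
          (hDc _ (pow_mem hx _) (by rwa [← Subgroup.orderOf_coe] at hk))
      exact Subgroup.mem_bot.mp (Lib.LocalChar.mem_of_pow_mem_of_coprime h2 hxc)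
    have hFP : FS ≤ Subgroup.normalizer (P : Set (↥X ⧸ C')) := by
      rw [← hmapF]
      refine le_trans (Subgroup.map_mono ?_) (Subgroup.le_normalizer_map π)
      intro f hf
      rw [← Subgroup.subgroupOf_normalizer_eq hDX]
      exact hFD hf
    have hI : P ⊓ FS = ⊥ := by
      refine le_bot_iff.mp (hO ▸ Lib.LocalChar.le_pCore_of_isSubnormal ?_ hPp.to_inf_left)
      refine Subgroup.IsSubnormal.step _ FS inf_le_right hFSn.isSubnormal ?_
      exact Subgroup.normal_subgroupOf_of_le_normalizer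
        (Lib.LocalChar.le_normalizer_inf_of_le hFP Subgroup.le_normalizer)
    have hPF : P ≤ Subgroup.centralizer (FS : Set (↥X ⧸ C')) :=
      Subgroup.commutator_eq_bot_iff_le_centralizer.mp (le_bot_iff.mp (hI ▸ le_inf
        (Subgroup.le_normalizer_iff_commutator_le_left.mp hFP) (Subgroup.commutator_le_right P FS)))
    have hbot := Lib.LocalChar.eq_bot_of_le_centralizer_genFitting hO hPp hPF
    intro d hd
    have h1 : π ⟨d, hDX hd⟩ ∈ P := Subgroup.mem_map_of_mem π (show (⟨d, hDX hd⟩ : ↥X) ∈ D.subgroupOf X from hd)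
    rw [hbot, Subgroup.mem_bot] at h1
    exact (QuotientGroup.eq_one_iff (⟨d, hDX hd⟩ : ↥X)).mp h1
  have hCF : C ≤ F := fun c hc => by
    rw [hF]
    refine ⟨⟨c, Subgroup.mem_sup_right hc⟩, ?_, rfl⟩
    rw [SetLike.mem_coe, Subgroup.mem_comap, QuotientGroup.mk'_apply,
      (QuotientGroup.eq_one_iff _).mpr (show (⟨c, Subgroup.mem_sup_right hc⟩ : ↥X) ∈ C' from hc)]
    exact one_mem _
  have hTC : T₀ ≤ C := Lib.LocalChar.pCoreOf_le_centralizer_Y
  have hTH : T₀ ≤ H := hTC.trans (hCF.trans hFH)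
  have hYH : Y ≤ H := Lib.LocalChar.largest_le_pCoreOf.trans hTH
  set P := Cfsg.pCoreOf p H with hPdef
  have hPp : IsPGroup p ↥P := Lib.CharP.pCoreOf_isPGroup H
  have hPN : H ≤ Subgroup.normalizer (P : Set G) := Lib.CharP.le_normalizer_pCoreOf H
  have hPC : P ⊓ X ≤ C := key _ inf_le_right
    (Lib.LocalChar.le_normalizer_inf_of_le (hFH.trans hPN) (hFX.trans Subgroup.le_normalizer))
    fun x hx hxc => by
      rw [Lib.LocalChar.eq_one_of_mem_pGroup hPp hx.1 hxc]; exact one_mem _
  have hPT : P ≤ T₀ := h.le_pCoreOf_of_normalized hPp (hTH.trans hPN) hPC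
  have hYP : Y ≤ Subgroup.centralizer (P : Set G) := Subgroup.le_centralizer_iff.mp (hPT.trans hTC)
  set V := ⨆ x : ↥H, Y.map (MulAut.conj (x : G)).toMonoidHom with hVdef
  have hYV : Y ≤ V := (Lib.LocalChar.conj_map_one Y).ge.trans
    (le_iSup (fun x : ↥H => Y.map (MulAut.conj (x : G)).toMonoidHom) 1)
  have hYZ : Y ≤ P ⊓ Subgroup.centralizer (P : Set G) :=
    le_inf ((le_inf hYH hYP).trans (Lib.LocalChar.centralizer_inf_le_pCoreOf hH)) hYP
  have hHZ : H ≤ Subgroup.normalizer ((P ⊓ Subgroup.centralizer (P : Set G) : Subgroup G) : Set G) :=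
    Lib.LocalChar.le_normalizer_inf_of_le hPN (Lib.LocalChar.le_normalizer_centralizer_of_le hPN)
  have hterm : ∀ x : ↥H, Y.map (MulAut.conj (x : G)).toMonoidHom ≤
      P ⊓ Subgroup.centralizer (P : Set G) :=
    fun x => (Subgroup.map_mono hYZ).trans (Lib.LocalChar.conj_map_eq_of_mem (hHZ x.2)).le
  have hred : Lib.LocalChar.IsRedIn p H V := by
    refine ⟨iSup_le fun x => (hterm x).trans (inf_le_left.trans (Lib.CharP.pCoreOf_le H)),
      Lib.LocalChar.le_normalizer_iSup_conj H Y,
      Lib.ElemAbelian.iSup (fun x : ↥H => Lib.ElemAbelian.map (Lib.LocalChar.isRedIn_largest M).2.2.1 _)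
        fun i j a ha b hb => Subgroup.mem_centralizer_iff.mp (hterm j hb).2 a (hterm i ha).1,
      fun D hD hn hc => ?_⟩
    have hcY : ∀ x ∈ D, Nat.Coprime (orderOf x) p → x ∈ C := fun x hx hxc =>
      Subgroup.centralizer_le (SetLike.coe_subset_coe.mpr hYV) (hc x hx hxc)
    have hDC : D ⊓ X ≤ C := key _ inf_le_right
      (Lib.LocalChar.le_normalizer_inf_of_le (hFH.trans hn) (hFX.trans Subgroup.le_normalizer))
      fun x hx hxc => hcY x hx.1 hxc
    obtain ⟨SH, hSH⟩ := Lib.LocalChar.exists_sylow_of T₀ (Lib.CharP.pCoreOf_isPGroup M) hTH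
    set S' := (SH : Subgroup ↥H).map H.subtype with hS'
    set R := S' ⊓ D with hR
    have hRp : IsPGroup p ↥R := (SH.isPGroup'.map _).to_inf_left
    have hRT : R ≤ T₀ := h.le_pCoreOf_of_normalized hRp
      (Lib.LocalChar.le_normalizer_inf_of_le (hSH.trans Subgroup.le_normalizer) (hTH.trans hn))
      fun z hz => hDC ⟨hz.1.2, hz.2⟩
    obtain ⟨P₁, hP₁⟩ := Lib.LocalChar.exists_sylow_of R hRp (K := D) inf_le_right
    set P' := (P₁ : Subgroup ↥D).map D.subtype with hP'
    obtain ⟨c, hc', hcP⟩ := Lib.LocalChar.exists_conj_le_sylow_map SH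
      ((Subgroup.map_subtype_le _).trans hD : P' ≤ H) (P₁.isPGroup'.map _)
    have hle : P'.map (MulAut.conj c).toMonoidHom ≤ R := le_inf hcP
      ((Subgroup.map_mono (Subgroup.map_subtype_le _)).trans
        (Lib.LocalChar.conj_map_eq_of_mem (hn hc')).le)
    have hPR : R = P' := Subgroup.eq_of_le_of_card_ge hP₁
      ((Lib.LocalChar.card_conj_map P' c).symm.le.trans (Subgroup.card_le_of_le hle))
    have hDY : D ≤ C := by
      refine (Lib.LocalChar.resOf_sup_sylow D P₁).ge.trans (sup_le ?_ ?_)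
      · exact Lib.LocalChar.resOf_le_iff.mpr hcY
      · exact hPR.ge.trans (hRT.trans hTC)
    refine Subgroup.le_centralizer_iff.mpr (iSup_le fun x => Subgroup.le_centralizer_iff.mp ?_)
    rw [Lib.LocalChar.centralizer_conj_map]
    exact (Lib.LocalChar.conj_map_eq_of_mem (hn x.2)).ge.trans (Subgroup.map_mono hDY)
  exact hYV.trans hred.le_largest

end Cfsg.Agent.S2851
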