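import Cfsg.Statements.S2852
import Mathlib
import Cfsg.Agent.Lib.FrakH55.Basic

set_option autoImplicit false
open Cfsg

namespace Cfsg.Agent.S2852

/-- Standing hypotheses: G a finite group, S a Sylow p-subgroup, Q a nontrivial large p-subgroup of G contained in S, M a subgroup containing S with the basic property (M ∈ 𝔐_G(S)); Y_M the largest p-reduced normal subgroup of M. If Y_M is char-p-tall and asymmetric in G, then some subgroup H of G lies in ℌ_G(O_p(M)): H has characteristic p, O_p(M) ≤ H, Y_M ≰ O_p(H), and Y_M ≤ O_p(P) for every proper subgroup P of H containing O_p(M). -/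
theorem result {G : Type*} [Group G] [Finite G] {p : ℕ} [Fact p.Prime] (S : Sylow p G) (Q : Subgroup G) (hQp : IsPGroup p ↥Q) (hQ1 : Q ≠ ⊥) (hQS : Q ≤ (S : Subgroup G)) (hQ : Cfsg.IsLarge Q) (M : Subgroup G) (hSM : (S : Subgroup G) ≤ M) (hM : Cfsg.IsInFrakM p M) (htall : Cfsg.IsCharPTall p (Cfsg.largestPReducedOf p M)) (hasym : ¬ Cfsg.IsSymmetricIn (Cfsg.largestPReducedOf p M)) : ∃ H : Subgroup G, Cfsg.IsInFrakH p M H := by
  have h := Lib.LocalChar.basicSetting_of_large hQp hQ S hQS hSM hM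
  classical
  have hex := Lib.FrakH55.exists_charP_over h htall
  obtain ⟨H, hH, hmin⟩ := (Set.toFinite {L : Subgroup G | Cfsg.pCoreOf p M ≤ L ∧ Subgroup.centralizer (Cfsg.pCore p ↥L : Set ↥L) ≤ Cfsg.pCore p ↥L ∧ ¬ Cfsg.largestPReducedOf p M ≤ Cfsg.pCoreOf p L}).exists_minimal hex
  refine ⟨H, hH.2.1, hH.1, hH.2.2, fun P hTP hPH => ?_⟩
  by_contra hY
  have hwc : Cfsg.IsWeaklyClosedSubgroup p (Cfsg.pCoreOf p M) := h.isWeaklyClosed hasym
  have hTp : IsPGroup p ↥(Cfsg.pCoreOf p M) := Lib.CharP.pCoreOf_isPGroup M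
  have hC : Subgroup.centralizer (((Cfsg.pCoreOf p M).subgroupOf H : Subgroup ↥H) : Set ↥H) ≤ (Cfsg.pCoreOf p M).subgroupOf H := by
    intro x hx
    refine Subgroup.mem_subgroupOf.2 (h.frakM.1.2 (Subgroup.mem_centralizer_iff.2 fun t ht => ?_))
    exact congrArg Subtype.val (Subgroup.mem_centralizer_iff.1 hx ⟨t, hH.1 ht⟩ ht)
  have hchar := (Lib.LocalChar.wc_centralizer_pCoreOf (L := P.subgroupOf H) (hTp.comap_subtype)
    (Lib.LocalChar.wc_subgroupOf hwc hTp hH.1) hC (fun x hx => hTP hx)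
    (Lib.LocalChar.charP_centralizer_mono (Lib.CharP.pCoreOf_isPGroup (P.subgroupOf H)) bot_le
      (Lib.LocalChar.charP_centralizer_bot hH.2.1))).2.2
  rw [Lib.Amalgam.charP_iff_ambient] at hchar
  have hchar' := Lib.Amalgam.charP_map H.subtype_injective hchar
  rw [Subgroup.map_subgroupOf_eq_of_le hPH.le, ← Lib.Amalgam.charP_iff_ambient] at hchar'
  exact hPH.not_ge (hmin ⟨hTP, hchar', hY⟩ hPH.le)

end Cfsg.Agent.S2852
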