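import Cfsg.Statements.S2853
import Mathlib
import Cfsg.Agent.S2850
import Cfsg.Agent.Lib.FrakH55.Basic

set_option autoImplicit false
open Cfsg

namespace Cfsg.Agent.S2853

/-- Standing hypotheses: G a finite group, S a Sylow p-subgroup, Q a nontrivial large p-subgroup of G contained in S, M a subgroup containing S with the basic property (M ∈ 𝔐_G(S)); Y_M the largest p-reduced normal subgroup of M and M† = M·C_G(Y_M). Suppose Y_M is char-p-tall and asymmetric in G and H ∈ ℌ_G(O_p(M)). Then every Sylow p-subgroup of H ∩ M† is a Sylow p-subgroup of H; O_p(H) normalizes O_p(M) and Y_M; O^p(H) = [O^p(H), Y_M] and H = O^p(H)·O_p(M); O^p(H)·Y_M is the normal closure of Y_M in H; and H is the normal closure of O_p(M) in H. Here O^p(H) is the subgroup generated by the elements of H of order prime to p. -/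
theorem result {G : Type*} [Group G] [Finite G] {p : ℕ} [Fact p.Prime] (S : Sylow p G) (Q : Subgroup G) (hQp : IsPGroup p ↥Q) (hQ1 : Q ≠ ⊥) (hQS : Q ≤ (S : Subgroup G)) (hQ : Cfsg.IsLarge Q) (M : Subgroup G) (hSM : (S : Subgroup G) ≤ M) (hM : Cfsg.IsInFrakM p M) (htall : Cfsg.IsCharPTall p (Cfsg.largestPReducedOf p M)) (hasym : ¬ Cfsg.IsSymmetricIn (Cfsg.largestPReducedOf p M)) (H : Subgroup G) (hH : Cfsg.IsInFrakH p M H) (R : Subgroup G) (hR : R = (Cfsg.pResidual p ↥H).map H.subtype) : (∀ T : Sylow p ↥(H ⊓ (M ⊔ Subgroup.centralizer (((Cfsg.largestPReducedOf p M) : Subgroup G) : Set G))), ∃ P : Sylow p ↥H, ((P : Subgroup ↥H).map H.subtype) = (T : Subgroup ↥(H ⊓ (M ⊔ Subgroup.centralizer (((Cfsg.largestPReducedOf p M) : Subgroup G) : Set G)))).map (H ⊓ (M ⊔ Subgroup.centralizer (((Cfsg.largestPReducedOf p M) : Subgroup G) : Set G))).subtype) ∧ Cfsg.pCoreOf p H ≤ Subgroup.normalizer (((Cfsg.pCoreOf p M) : Subgroup G) : Set G) ⊓ Subgroup.normalizer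 (((Cfsg.largestPReducedOf p M) : Subgroup G) : Set G) ∧ ⁅R, (Cfsg.largestPReducedOf p M)⁆ = R ∧ R ⊔ (Cfsg.pCoreOf p M) = H ∧ R ⊔ (Cfsg.largestPReducedOf p M) = (Subgroup.normalClosure ((((Cfsg.largestPReducedOf p M)).subgroupOf H : Subgroup ↥H) : Set ↥H)).map H.subtype ∧ (Subgroup.normalClosure ((((Cfsg.pCoreOf p M)).subgroupOf H : Subgroup ↥H) : Set ↥H)).map H.subtype = H := by
  have h := Lib.LocalChar.basicSetting_of_large hQp hQ S hQS hSM hM
  subst hR
  refine ⟨?_, le_inf (Lib.FrakH55.pCoreOf_le_normalizer h hasym hH.2.1) ?_,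
    Lib.FrakH55.commutator_resOf hH, Lib.FrakH55.resOf_sup hH, Lib.FrakH55.normalClosure_Y hH,
    Lib.FrakH55.normalClosure_T hH⟩
  · obtain ⟨P₀, hP₀⟩ := (Cfsg.Agent.S2850.result S Q hQp hQ1 hQS hQ M hSM hM hasym).2.2.1 H hH.2.1
    have hDH : H ⊓ (M ⊔ Subgroup.centralizer ((Cfsg.largestPReducedOf p M : Subgroup G) : Set G)) ≤ H :=
      inf_le_left
    generalize H ⊓ (M ⊔ Subgroup.centralizer ((Cfsg.largestPReducedOf p M : Subgroup G) : Set G)) = D at hP₀ hDH ⊢
    intro T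
    have hTp : IsPGroup p ↥((T : Subgroup ↥D).map D.subtype) := T.isPGroup'.map _
    have hle : (T : Subgroup ↥D).map D.subtype ≤ H := (Subgroup.map_subtype_le _).trans hDH
    obtain ⟨P, hP⟩ := (hTp.comap_subtype (K := H)).exists_le_sylow
    refine ⟨P, (Subgroup.eq_of_le_of_card_ge ?_ ?_).symm⟩
    · intro x hx
      exact Subgroup.mem_map.mpr ⟨⟨x, hle hx⟩, hP hx, rfl⟩
    rw [Subgroup.card_map_of_injective H.subtype_injective, Subgroup.card_map_of_injective D.subtype_injective,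
      P.card_eq_multiplicity, ← P₀.card_eq_multiplicity, T.card_eq_multiplicity]
    have h1 := Subgroup.card_dvd_of_le hP₀
    rw [Nat.card_congr (Subgroup.subgroupOfEquivOfLe hDH).toEquiv] at h1
    obtain ⟨k, hk⟩ := IsPGroup.iff_card.1 P₀.isPGroup'
    rw [hk] at h1 ⊢
    exact Nat.pow_le_pow_right (Fact.out : p.Prime).pos
      ((Nat.Prime.pow_dvd_iff_le_factorization Fact.out Nat.card_pos.ne').1 h1)
  · exact (Lib.FrakH55.pCoreOf_le_normalizer h hasym hH.2.1).trans
      (h.normalizer_pCoreOf_le.trans h.normalizer_largest.ge)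

end Cfsg.Agent.S2853
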