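import Cfsg.Statements.S2854
import Mathlib
import Cfsg.Agent.Lib.FrakH55.Basic

set_option autoImplicit false
open Cfsg

namespace Cfsg.Agent.S2854
open Lib.LocalChar commutatorElement in
theorem irreducible {G : Type*} [Group G] [Finite G] {p : ℕ} [Fact p.Prime] {M H X : Subgroup G}
    (hH : Cfsg.IsInFrakH p M H) (hHX : H ≤ X) (hXn : X ≤ Subgroup.normalizer (H : Set G))
    (hres : (Cfsg.pResidual p ↥H).map H.subtype = (Cfsg.pResidual p ↥X).map X.subtype) :
    Cfsg.IsPIrreducible p ↥X := by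
  set Y := Cfsg.largestPReducedOf p M
  set T₀ := Cfsg.pCoreOf p M
  set O := Cfsg.pCoreOf p X
  have hYX : Y ≤ X := (Lib.FrakH55.Y_le hH).trans hHX
  have hYO : ¬ Y ≤ O := fun hle => hH.2.2.1
    ((le_inf (Lib.FrakH55.Y_le hH) hle).trans (Lib.CharP.le_pCoreOf inf_le_left
      ((Lib.CharP.pCoreOf_isPGroup X).to_le inf_le_right)
      (le_normalizer_inf_of_le Subgroup.le_normalizer (hHX.trans (Lib.CharP.le_normalizer_pCoreOf X)))))
  refine ⟨fun hc => hYO (le_pCoreOf_of_isPClosed hc hYX (isRedIn_largest M).isPGroup), fun N hN hNc => ?_⟩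
  by_contra hRN
  set N' := N.map X.subtype with hN'
  have hN'X : N' ≤ X := Subgroup.map_subtype_le _
  have hXN : X ≤ Subgroup.normalizer (N' : Set G) :=
    (Subgroup.normal_subgroupOf_iff_le_normalizer hN'X).mp
      (by rw [show N'.subgroupOf X = N from Subgroup.comap_map_eq_self_of_injective X.subtype_injective _]; exact hN)
  have hR : ¬ (Cfsg.pResidual p ↥X).map X.subtype ≤ N' := fun hle =>
    hRN ((Subgroup.map_le_map_iff_of_injective X.subtype_injective).mp hle)
  -- `Y ≤ O_p((N ∩ H) O_p(M))`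
  set P := (N' ⊓ H) ⊔ T₀ with hP
  have hTn : T₀ ≤ Subgroup.normalizer ((N' ⊓ H : Subgroup G) : Set G) :=
    le_normalizer_inf_of_le ((hH.2.1.trans hHX).trans hXN) (hH.2.1.trans Subgroup.le_normalizer)
  have hPlt : P < H := by
    refine lt_of_le_of_ne (sup_le inf_le_right hH.2.1) fun e => hR ?_
    rw [← hres]
    exact (resOf_le_of_le_sup (Lib.CharP.pCoreOf_isPGroup M) hTn e.ge).trans inf_le_left
  have hYP : Y ≤ Cfsg.pCoreOf p P := hH.2.2.2 P le_sup_right hPlt
  have hPeq : ((N' ⊔ T₀ : Subgroup G) ⊓ H) ≤ P := by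
    rintro x ⟨hx, hxH⟩
    change x ∈ ((N' ⊔ T₀ : Subgroup G) : Set G) at hx
    change x ∈ H at hxH
    rw [Subgroup.coe_mul_of_right_le_normalizer_left N' T₀ ((hH.2.1.trans hHX).trans hXN)] at hx
    obtain ⟨n, hn, t, ht, rfl⟩ := hx
    exact mul_mem (Subgroup.mem_sup_left ⟨hn, by
      have := mul_mem hxH (inv_mem (hH.2.1 ht))
      rwa [mul_inv_cancel_right] at this⟩) (Subgroup.mem_sup_right ht)
  have hYNT : Y ≤ Cfsg.pCoreOf p (N' ⊔ T₀) := by
    have hNTX : N' ⊔ T₀ ≤ X := sup_le hN'X (hH.2.1.trans hHX)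
    have hPle : P ≤ N' ⊔ T₀ := sup_le (inf_le_left.trans le_sup_left) le_sup_right
    refine hYP.trans (pCoreOf_le_pCoreOf_of_normal hPle ?_)
    rw [le_antisymm (le_inf hPle (sup_le inf_le_right hH.2.1)) hPeq]
    exact le_normalizer_inf_of_le Subgroup.le_normalizer (hNTX.trans hXn)
  have hNY : ⁅N', Y⁆ ≤ O := by
    have h1 : ⁅N', Y⁆ ≤ N' ⊓ Cfsg.pCoreOf p (N' ⊔ T₀) :=
      le_inf (Subgroup.le_normalizer_iff_commutator_le_left.mp (hYX.trans hXN))
        ((Subgroup.commutator_mono le_rfl hYNT).trans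
          (Subgroup.le_normalizer_iff_commutator_le_right.mp
            (le_sup_left.trans (Lib.CharP.le_normalizer_pCoreOf _))))
    refine h1.trans ((Lib.CharP.le_pCoreOf inf_le_left ((Lib.CharP.pCoreOf_isPGroup _).to_le inf_le_right)
      (le_normalizer_inf_of_le Subgroup.le_normalizer
        (le_sup_left.trans (Lib.CharP.le_normalizer_pCoreOf _)))).trans
      (pCoreOf_le_pCoreOf_of_normal hN'X hXN))
  -- everything happens modulo `O_p(X)`
  haveI : (Cfsg.pCore p ↥X).Normal := by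
    haveI := Cfsg.Agent.Lib.PSolvable.pCore_characteristic (G := ↥X) (p := p)
    infer_instance
  let q := QuotientGroup.mk' (Cfsg.pCore p ↥X)
  haveI := hN.map q (QuotientGroup.mk'_surjective _)
  set K := (Subgroup.centralizer ((N.map q : Subgroup _) : Set _)).comap q with hK
  have hmemO : ∀ x : ↥X, q x = 1 ↔ (x : G) ∈ O := fun x => by
    rw [QuotientGroup.mk'_apply, QuotientGroup.eq_one_iff]
    exact (Subgroup.mem_map_iff_mem X.subtype_injective).symm
  have hKmem : ∀ x : ↥X, x ∈ K ↔ ∀ n ∈ N, ⁅(n : G), (x : G)⁆ ∈ O := by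
    intro x
    rw [hK, Subgroup.mem_comap, Subgroup.mem_centralizer_iff]
    constructor
    · intro hx n hn
      have := commutatorElement_eq_one_iff_mul_comm.2 (hx (q n) ⟨n, hn, rfl⟩)
      rw [← map_commutatorElement, hmemO] at this
      exact this
    · rintro hx _ ⟨n, hn, rfl⟩
      refine commutatorElement_eq_one_iff_mul_comm.1 ?_
      rw [← map_commutatorElement, hmemO]
      exact hx n hn
  have hYK : Y.subgroupOf X ≤ K := fun y hy => (hKmem y).2 fun n hn =>
    hNY (Subgroup.commutator_mem_commutator (Subgroup.mem_map_of_mem X.subtype hn) hy)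
  have hKX : X ≤ Subgroup.normalizer ((K.map X.subtype : Subgroup G) : Set G) :=
    (Subgroup.normal_subgroupOf_iff_le_normalizer (Subgroup.map_subtype_le _)).mp (by
      rw [show (K.map X.subtype).subgroupOf X = K from Subgroup.comap_map_eq_self_of_injective X.subtype_injective _]
      infer_instance)
  have hRK : (Cfsg.pResidual p ↥X).map X.subtype ≤ K.map X.subtype := by
    rw [← hres]
    refine le_sup_left.trans ((Lib.FrakH55.resOf_sup_Y hH).2 _ (hHX.trans hKX) ?_)
    show Y ≤ K.map X.subtype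
    rw [← Subgroup.map_subgroupOf_eq_of_le hYX]
    exact Subgroup.map_mono hYK
  have hNR : ⁅N', (Cfsg.pResidual p ↥X).map X.subtype⁆ ≤ O := by
    rw [Subgroup.commutator_le]
    rintro _ ⟨n, hn, rfl⟩ r hr
    obtain ⟨x, hx, rfl⟩ := hRK hr
    exact (hKmem x).1 hx n hn
  -- so `N` is `p`-closed
  refine hNc ((isPClosed_map_iff (f := X.subtype) N (by
    rw [(MonoidHom.ker_eq_bot_iff _).2 X.subtype_injective]; exact IsPGroup.of_bot)).2 ?_)
  change Cfsg.IsPClosed p ↥N'
  set R := (Cfsg.pResidual p ↥X).map X.subtype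
  set D := (Cfsg.pResidual p ↥N').map N'.subtype
  let A : Sylow p ↥N' := default
  set A₁ := (A : Subgroup ↥N').map N'.subtype with hA₁
  have hAN : A₁ ≤ N' := Subgroup.map_subtype_le _
  have hcore : Cfsg.pCoreOf p N' ≤ A₁ := Subgroup.map_mono (Lib.PSolvable.pCore_le_sylow A)
  have hON : O ⊓ N' ≤ A₁ :=
    (Lib.CharP.le_pCoreOf inf_le_right ((Lib.CharP.pCoreOf_isPGroup X).to_le inf_le_left)
      (le_normalizer_inf_of_le (hN'X.trans (Lib.CharP.le_normalizer_pCoreOf X)) Subgroup.le_normalizer)).trans hcore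
  have hDA : D ≤ Subgroup.normalizer (A₁ : Set G) := by
    rw [Subgroup.le_normalizer_iff_commutator_le_left]
    refine (le_inf ((Subgroup.commutator_mono hAN (resOf_mono hN'X)).trans hNR) ?_).trans hON
    exact (Subgroup.commutator_mono hAN (resOf_le N')).trans
      (Subgroup.le_normalizer_iff_commutator_le_left.mp Subgroup.le_normalizer)
  have hAn : N' ≤ Subgroup.normalizer (A₁ : Set G) := by
    conv_lhs => rw [← resOf_sup_sylow N' A]
    exact sup_le hDA Subgroup.le_normalizer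
  exact isPClosed_of_sylow_le A ((Subgroup.map_le_map_iff_of_injective N'.subtype_injective).mp
    (Lib.CharP.le_pCoreOf hAN (A.isPGroup'.map _) hAn))


/-- Standing hypotheses: G a finite group, S a Sylow p-subgroup, Q a nontrivial large p-subgroup of G contained in S, M a subgroup containing S with the basic property (M ∈ 𝔐_G(S)); Y_M the largest p-reduced normal subgroup of M and M† = M·C_G(Y_M). Suppose Y_M is asymmetric in G, H ∈ ℌ_G(O_p(M)), and H ≤ N_G(gQg⁻¹) for some g ∈ G. Then gQg⁻¹ ≤ O_p(H·gQg⁻¹) ≤ N_G(O_p(M)) ≤ N_G(Y_M) = M†; H is normal in H·gQg⁻¹ with O^p(H) = O^p(H·gQg⁻¹); and H·gQg⁻¹ is p-irreducible. -/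
theorem result {G : Type*} [Group G] [Finite G] {p : ℕ} [Fact p.Prime] (S : Sylow p G) (Q : Subgroup G) (hQp : IsPGroup p ↥Q) (hQ1 : Q ≠ ⊥) (hQS : Q ≤ (S : Subgroup G)) (hQ : Cfsg.IsLarge Q) (M : Subgroup G) (hSM : (S : Subgroup G) ≤ M) (hM : Cfsg.IsInFrakM p M) (hasym : ¬ Cfsg.IsSymmetricIn (Cfsg.largestPReducedOf p M)) (H : Subgroup G) (hH : Cfsg.IsInFrakH p M H) (g : G) (hHQ : H ≤ Subgroup.normalizer ((((Q : Subgroup G).map (MulAut.conj (g : G)).toMonoidHom) : Subgroup G) : Set G)) : ((Q : Subgroup G).map (MulAut.conj (g : G)).toMonoidHom) ≤ Cfsg.pCoreOf p (H ⊔ ((Q : Subgroup G).map (MulAut.conj (g : G)).toMonoidHom)) ∧ Cfsg.pCoreOf p (H ⊔ ((Q : Subgroup G).map (MulAut.conj (g : G)).toMonoidHom)) ≤ Subgroup.normalizer (((Cfsg.pCoreOf p M) : Subgroup G) : Set G) ∧ Subgroup.normalizer (((Cfsg.pCoreOf p M) : Subgroup G) : Set G) ≤ Subgroup.normalizer (((Cfsg.largestPReducedOf p M) : Subgroup G) : Set G) ∧ Subgroup.normalizer (((Cfsg.largestPReducedOf p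 M) : Subgroup G) : Set G) = (M ⊔ Subgroup.centralizer (((Cfsg.largestPReducedOf p M) : Subgroup G) : Set G)) ∧ (H.subgroupOf (H ⊔ ((Q : Subgroup G).map (MulAut.conj (g : G)).toMonoidHom))).Normal ∧ (Cfsg.pResidual p ↥H).map H.subtype = (Cfsg.pResidual p ↥(H ⊔ ((Q : Subgroup G).map (MulAut.conj (g : G)).toMonoidHom))).map (H ⊔ ((Q : Subgroup G).map (MulAut.conj (g : G)).toMonoidHom)).subtype ∧ Cfsg.IsPIrreducible p ↥(H ⊔ ((Q : Subgroup G).map (MulAut.conj (g : G)).toMonoidHom)) := by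
  have h := Lib.LocalChar.basicSetting_of_large hQp hQ S hQS hSM hM
  set Q' := Q.map (MulAut.conj g).toMonoidHom
  set X := H ⊔ Q'
  have hXQ : X ≤ Subgroup.normalizer (Q' : Set G) := sup_le hHQ Subgroup.le_normalizer
  have hQO : Q' ≤ Cfsg.pCoreOf p X := Lib.CharP.le_pCoreOf le_sup_right (hQp.map _) hXQ
  have hON : Cfsg.pCoreOf p X ≤ Subgroup.normalizer ((Cfsg.pCoreOf p M : Subgroup G) : Set G) :=
    Lib.FrakH55.pCoreOf_le_normalizer h hasym (hH.2.1.trans le_sup_left)
  have hQH : Q' ≤ Subgroup.normalizer (H : Set G) := by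
    intro q hq
    set U := ⨆ x : ↥H, (Cfsg.pCoreOf p M).map (MulAut.conj (x : G)).toMonoidHom with hU
    have hUH : U = H := by
      refine Lib.FrakH55.eq_of_normal hH (iSup_le fun x => (Subgroup.map_mono hH.2.1).trans
        (Lib.LocalChar.conj_map_eq_of_mem (Subgroup.le_normalizer x.2)).le) ?_ ?_
      · intro y hy
        refine Lib.LocalChar.mem_normalizer_of_conj_map_le ?_
        rw [hU, Subgroup.map_iSup]
        refine iSup_le fun x => ?_
        rw [Lib.LocalChar.conj_map_conj_map]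
        exact le_iSup (fun x : ↥H => (Cfsg.pCoreOf p M).map (MulAut.conj (x : G)).toMonoidHom) (⟨y, hy⟩ * x)
      · have h1 := le_iSup (fun x : ↥H => (Cfsg.pCoreOf p M).map (MulAut.conj (x : G)).toMonoidHom) 1
        rw [Subgroup.coe_one] at h1
        rwa [Lib.LocalChar.conj_map_one, ← hU] at h1
    rw [← hUH]
    refine Lib.LocalChar.mem_normalizer_of_conj_map_le ?_
    rw [hU, Subgroup.map_iSup]
    refine iSup_le fun x => le_trans ?_ (le_iSup _ x)
    have hx : (x : G)⁻¹ * q * x ∈ Subgroup.normalizer ((Cfsg.pCoreOf p M : Subgroup G) : Set G) :=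
      hON (hQO (by simpa using Lib.LocalChar.conj_mem_of_mem_normalizer (hHQ (inv_mem x.2)) hq))
    rw [Lib.LocalChar.conj_map_conj_map, show q * (x : G) = x * ((x : G)⁻¹ * q * x) by group,
      ← Lib.LocalChar.conj_map_conj_map, Lib.LocalChar.conj_map_eq_of_mem hx]
  have hXH : X ≤ Subgroup.normalizer (H : Set G) := sup_le Subgroup.le_normalizer hQH
  have hres : (Cfsg.pResidual p ↥H).map H.subtype = (Cfsg.pResidual p ↥X).map X.subtype := by
    refine le_antisymm (Lib.LocalChar.resOf_mono le_sup_left) ?_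
    have hT' : Cfsg.pCoreOf p M ≤ Subgroup.normalizer (Q' : Set G) := hH.2.1.trans hHQ
    refine Lib.LocalChar.resOf_le_of_le_sup (P := Cfsg.pCoreOf p M ⊔ Q')
      ((Lib.CharP.pCoreOf_isPGroup M).to_sup_of_normal_right' (hQp.map _) hT') ?_ ?_
    · exact (sup_le ((hH.2.1).trans Subgroup.le_normalizer) hQH).trans
        (Lib.LocalChar.normalizer_le_normalizer_resOf H)
    · rw [← sup_assoc, Lib.FrakH55.resOf_sup hH]
  exact ⟨hQO, hON, h.normalizer_pCoreOf_le.trans h.normalizer_largest.ge, h.normalizer_largest,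
    (Subgroup.normal_subgroupOf_iff_le_normalizer le_sup_left).mpr hXH, hres,
    irreducible hH le_sup_left hXH hres⟩

end Cfsg.Agent.S2854
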