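import Cfsg.Statements.S2855
import Mathlib
import Cfsg.Agent.Lib.PMinimal55.Basic
import Cfsg.Agent.Lib.LocalChar.Reduced
import Cfsg.Agent.Lib.LocalChar.PClosed
import Cfsg.Agent.Lib.PGroup.SylowNormal

set_option autoImplicit false
open Cfsg

namespace Cfsg.Agent.S2855
open Subgroup Cfsg.Agent.Lib
open scoped commutatorElement

section Trivial
variable {X : Type*} [Group X] [Finite X] {p : ℕ} [hp : Fact p.Prime]

/-- `O^p` of a subgroup, in the ambient group. -/
abbrev pres (p : ℕ) (E : Subgroup X) : Subgroup X := (pResidual p ↥E).map E.subtype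

theorem map_conj_eq {E : Subgroup X} {g : X} (h : g ∈ normalizer (E : Set X)) :
    E.map (MulAut.conj g).toMonoidHom = E := mem_normalizer_iff_map_conj_eq.1 h

/-- The hypotheses on the family. -/
structure Fam (p : ℕ) (𝒦 : Set (Subgroup X)) : Prop where
  ne : 𝒦.Nonempty
  inv : ∀ h : X, ∀ E ∈ 𝒦, E.map (MulAut.conj h).toMonoidHom ∈ 𝒦
  tr : ∀ E ∈ 𝒦, ∀ K ∈ 𝒦, ∃ h : X, K = E.map (MulAut.conj h).toMonoidHom
  res : pResidual p X ≤ sSup 𝒦
  norm : ∀ E ∈ 𝒦, sSup 𝒦 ≤ normalizer (E : Set X)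

theorem pres_conj_le (E : Subgroup X) (g : X) :
    (pres p E).map (MulAut.conj g).toMonoidHom ≤ pres p (E.map (MulAut.conj g).toMonoidHom) := by
  rw [map_le_iff_le_comap, LocalChar.resOf_le_iff]
  intro x hx hc
  exact LocalChar.mem_resOf ⟨x, hx, rfl⟩ (by
    rwa [orderOf_injective (MulAut.conj g).toMonoidHom (MulAut.conj g).injective x])

omit hp in
theorem le_normalizer_iSup' {ι : Sort*} {R : Subgroup X} {f : ι → Subgroup X}
    (h : ∀ i, R ≤ normalizer (f i : Set X)) : R ≤ normalizer ((⨆ i, f i : Subgroup X) : Set X) := by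
  intro g hg
  refine LocalChar.mem_normalizer_of_conj_map_le ?_
  rw [Subgroup.map_iSup]
  refine iSup_mono fun i => ?_
  rintro _ ⟨y, hy, rfl⟩
  exact LocalChar.conj_mem_of_mem_normalizer (h i hg) hy

theorem sylow_inf_subnormal (T : Sylow p X) {E : Subgroup X} (hE : E.IsSubnormal) :
    ∃ P : Sylow p E, (P : Subgroup E).map E.subtype = (T : Subgroup X) ⊓ E := by
  induction hE with
  | top => exact ⟨T.subtype le_top,
      by rw [Sylow.coe_subtype, map_subgroupOf_eq_of_le le_top, inf_top_eq]⟩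
  | step H K hle _ hn ih =>
    obtain ⟨PK, hPK⟩ := ih
    haveI := hn
    obtain ⟨P', hP'⟩ := Cfsg.Agent.Lib.SylowNormal.exists_sylow_map_eq_inf PK (H.subgroupOf K)
    let e := subgroupOfEquivOfLe hle
    refine ⟨P'.comapOfInjective e.symm.toMonoidHom e.symm.injective
      (by rw [MonoidHom.range_eq_top.2 e.symm.surjective]; exact le_top), ?_⟩
    ext x
    constructor
    · rintro ⟨y, hy, rfl⟩
      have h1 : ((e.symm y : H.subgroupOf K) : K) ∈ (PK : Subgroup K) ⊓ H.subgroupOf K :=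
        hP' ▸ ⟨_, hy, rfl⟩
      have h2 : (y : X) ∈ (PK : Subgroup K).map K.subtype := ⟨_, h1.1, rfl⟩
      rw [hPK] at h2
      exact ⟨h2.1, y.2⟩
    · rintro ⟨hxT, hxH⟩
      have h1 : x ∈ (PK : Subgroup K).map K.subtype := hPK ▸ ⟨hxT, hle hxH⟩
      obtain ⟨k, hk, rfl⟩ := h1
      have h2 : k ∈ (P' : Subgroup (H.subgroupOf K)).map (H.subgroupOf K).subtype :=
        hP' ▸ ⟨hk, hxH⟩
      obtain ⟨q, hq, hqk⟩ := h2
      refine ⟨e q, ?_, by rw [← hqk]; rfl⟩
      show e.symm (e q) ∈ P'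
      rwa [e.symm_apply_apply]

variable {𝒦 : Set (Subgroup X)}

theorem Fam.normal (hF : Fam p 𝒦) : (sSup 𝒦).Normal := by
  refine ⟨fun x hx g => ?_⟩
  have h : sSup 𝒦 ≤ (sSup 𝒦).comap (MulAut.conj g).toMonoidHom :=
    sSup_le fun E hE => map_le_iff_le_comap.1 (le_sSup (hF.inv g E hE))
  exact h hx

theorem Fam.subnormal (hF : Fam p 𝒦) {E : Subgroup X} (hE : E ∈ 𝒦) : E.IsSubnormal := by
  haveI := hF.normal
  exact IsSubnormal.step E (sSup 𝒦) (le_sSup hE) hF.normal.isSubnormal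
    ((normal_subgroupOf_iff_le_normalizer (le_sSup hE)).2 (hF.norm E hE))

theorem Fam.sup_sylow (hF : Fam p 𝒦) (T : Sylow p X) : sSup 𝒦 ⊔ (T : Subgroup X) = ⊤ :=
  top_le_iff.1 ((Transfer.pResidual_sup_sylow T).ge.trans (sup_le_sup_right hF.res _))

theorem Fam.pres_eq_of_le (hF : Fam p 𝒦) {E K : Subgroup X} (hE : E ∈ 𝒦) (hK : K ∈ 𝒦)
    (hle : pres p E ≤ pres p K) : pres p E = pres p K := by
  obtain ⟨h, hh⟩ := hF.tr K hK E hE
  refine eq_of_le_of_card_ge hle ?_
  have h1 := card_le_of_le (pres_conj_le (p := p) K h)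
  rw [← hh] at h1
  rwa [LocalChar.card_conj_map] at h1

theorem exists_maximal_in (hF : Fam p 𝒦) (T : Sylow p X)
    (hmin : ∀ E ∈ 𝒦, ∀ T : Sylow p ↥E, IsMinimalOver (T : Subgroup ↥E)) :
    ∀ E : Subgroup X, E ∈ 𝒦 → ∃ ME : Subgroup X, ME ≤ E ∧ (T : Subgroup X) ⊓ E ≤ ME ∧ ¬ pres p E ≤ ME ∧
      (∀ Y : Subgroup X, Y ≤ E → (T : Subgroup X) ⊓ E ≤ Y → Y ≠ E → Y ≤ ME) ∧
      (∀ Y : Subgroup X, Y ≤ E → (T : Subgroup X) ⊓ E ≤ Y → E ≤ normalizer (Y : Set X) → Y = E) ∧
      E ≤ normalClosure ((T : Subgroup X) : Set X) := by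
  intro E hE
  obtain ⟨P, hP⟩ := sylow_inf_subnormal T (hF.subnormal hE)
  obtain ⟨hgen, M₀, ⟨hc, hle⟩, huniq⟩ := hmin E hE P
  have hd : PMinimal55.Data P M₀ := by
    refine ⟨hc, hle, fun h => ?_, fun Y hPY hY => ?_⟩
    · haveI := h
      rw [normalClosure_eq_self] at hgen
      exact hc.1 (top_le_iff.1 (hgen ▸ hle))
    · obtain ⟨N, hN, hYN⟩ := (eq_top_or_exists_le_coatom Y).resolve_left hY
      exact hYN.trans (huniq N ⟨hN, hPY.trans hYN⟩).le
  have hsub : ∀ Y : Subgroup X, (T : Subgroup X) ⊓ E ≤ Y → (P : Subgroup E) ≤ Y.subgroupOf E :=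
    fun Y hY x hx => hY (hP ▸ mem_map_of_mem E.subtype hx)
  refine ⟨M₀.map E.subtype, map_subtype_le _, hP ▸ map_mono hle, fun h => ?_, fun Y hYE hTY hne => ?_,
    fun Y hYE hTY hn => ?_, ?_⟩
  · exact hd.pResidual_not_le ((map_le_map_iff_of_injective E.subtype_injective).1 h)
  · have h1 := map_mono (f := E.subtype) (hd.unique _ (hsub Y hTY) fun h =>
      hne (le_antisymm hYE (subgroupOf_eq_top.1 h)))
    rwa [map_subgroupOf_eq_of_le hYE] at h1
  · haveI : (Y.subgroupOf E).Normal := (normal_subgroupOf_iff_le_normalizer hYE).2 hn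
    refine le_antisymm hYE (subgroupOf_eq_top.1 (top_le_iff.1 ?_))
    rw [← hgen]
    exact normalClosure_le_normal (hsub Y hTY)
  · have h1 := map_mono (f := E.subtype) hgen.ge
    rw [← MonoidHom.range_eq_map, range_subtype] at h1
    refine h1.trans ((map_normalClosure_le _ _).trans (normalClosure_mono ?_))
    rintro _ ⟨y, hy, rfl⟩
    exact (hP ▸ mem_map_of_mem E.subtype hy : (y : X) ∈ (T : Subgroup X) ⊓ E).1

/-- The `p`-minimal case with trivial `p`-core assumption dropped. -/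
theorem isMinimalOver_of_fam (hF : Fam p 𝒦) (T : Sylow p X)
    (hmin : ∀ E ∈ 𝒦, ∀ T : Sylow p ↥E, IsMinimalOver (T : Subgroup ↥E)) :
    IsMinimalOver (T : Subgroup X) := by
  classical
  choose! ME hMEle hTME hAME hMEu hMEn hcl using exists_maximal_in hF T hmin
  set R := sSup 𝒦 with hR
  haveI hRn : R.Normal := hF.normal
  have hER : ∀ E ∈ 𝒦, E ≤ R := fun E hE => le_sSup hE
  have hAE : ∀ E : Subgroup X, pres p E ≤ E := fun E => LocalChar.resOf_le E
  have hRA : ∀ E ∈ 𝒦, R ≤ normalizer (pres p E : Set X) := fun E hE =>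
    (hF.norm E hE).trans (LocalChar.normalizer_le_normalizer_resOf E)
  have hsplit : ∀ E ∈ 𝒦, E ≤ pres p E ⊔ ((T : Subgroup X) ⊓ E) := by
    intro E hE
    obtain ⟨P, hP⟩ := sylow_inf_subnormal T (hF.subnormal hE)
    exact hP ▸ (LocalChar.resOf_sup_sylow E P).ge
  have hTEp : ∀ E : Subgroup X, IsPGroup p ↥((T : Subgroup X) ⊓ E : Subgroup X) :=
    fun E => T.isPGroup'.to_inf_left
  have hdich : ∀ E ∈ 𝒦, ∀ N : Subgroup X, N ≤ E → E ≤ normalizer (N : Set X) →
      pres p E ≤ N ∨ N ≤ ME E := by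
    intro E hE N hNE hn
    by_cases h : N ⊔ ((T : Subgroup X) ⊓ E) = E
    · exact Or.inl (LocalChar.resOf_le_of_le_sup (hTEp E) (inf_le_right.trans hn) h.ge)
    · exact Or.inr (le_sup_left.trans
        (hMEu E hE _ (sup_le hNE inf_le_right) le_sup_right h))
  -- the product of the other residuals
  let B : Subgroup X → Subgroup X := fun E =>
    ⨆ F : {F : Subgroup X // F ∈ 𝒦 ∧ pres p F ≠ pres p E}, pres p (F : Subgroup X)
  have hBR : ∀ E, B E ≤ R := fun E => iSup_le fun F => (hAE _).trans (hER _ F.2.1)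
  have hRB : ∀ E, R ≤ normalizer (B E : Set X) := fun E => le_normalizer_iSup' fun F => hRA _ F.2.1
  have hK : ∀ E ∈ 𝒦, B E ⊓ E ≤ ME E := by
    intro E hE
    rcases hdich E hE (B E ⊓ E) inf_le_right
        (LocalChar.le_normalizer_inf_of_le ((hER E hE).trans (hRB E)) Subgroup.le_normalizer) with h | h
    swap
    · exact h
    exfalso
    set D : Subgroup X := ⨆ F : {F : Subgroup X // F ∈ 𝒦 ∧ pres p F ≠ pres p E}, pres p (F : Subgroup X) ⊓ E
      with hD
    have hDle : D ≤ ME E := iSup_le fun F => by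
      refine (hdich E hE _ inf_le_right (LocalChar.le_normalizer_inf_of_le
        ((hER E hE).trans (hRA _ F.2.1)) Subgroup.le_normalizer)).resolve_left fun hh => ?_
      exact F.2.2 (hF.pres_eq_of_le hE F.2.1 (hh.trans inf_le_left)).symm
    have hRD : R ≤ normalizer (D : Set X) := le_normalizer_iSup' fun F =>
      LocalChar.le_normalizer_inf_of_le (hRA _ F.2.1) (hF.norm E hE)
    have hYle : D ⊔ ((T : Subgroup X) ⊓ E) ≤ ME E := sup_le hDle (hTME E hE)
    have hBn : B E ≤ normalizer ((D ⊔ ((T : Subgroup X) ⊓ E) : Subgroup X) : Set X) := by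
      refine iSup_le fun F a ha => LocalChar.mem_normalizer_of_conj_map_le ?_
      have haR : a ∈ R := hER _ F.2.1 (hAE _ ha)
      rw [Subgroup.map_sup]
      refine sup_le ?_ ?_
      · rintro _ ⟨d, hd, rfl⟩
        exact le_sup_left (b := (T : Subgroup X) ⊓ E) (LocalChar.conj_mem_of_mem_normalizer (hRD haR) hd)
      · rintro _ ⟨s, hs, rfl⟩
        have h1 : a * s * a⁻¹ * s⁻¹ ∈ pres p (F : Subgroup X) ⊓ E := by
          refine ⟨?_, mul_mem (LocalChar.conj_mem_of_mem_normalizer (hF.norm E hE haR) hs.2) (E.inv_mem hs.2)⟩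
          have h2 := LocalChar.conj_mem_of_mem_normalizer (hRA _ F.2.1 (hER E hE hs.2)) (inv_mem ha)
          simpa [mul_assoc] using mul_mem ha h2
        have := mul_mem (Subgroup.mem_sup_left (T := (T : Subgroup X) ⊓ E)
          (le_iSup (fun F : {F : Subgroup X // F ∈ 𝒦 ∧ pres p F ≠ pres p E} =>
            pres p (F : Subgroup X) ⊓ E) F h1 : _ ∈ D)) (Subgroup.mem_sup_right hs)
        simpa using this
    have := hMEn E hE _ (hYle.trans (hMEle E hE)) le_sup_right
      ((hsplit E hE).trans (sup_le ((h.trans inf_le_left).trans hBn) (le_sup_right.trans Subgroup.le_normalizer)))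
    exact hAME E hE ((hAE E).trans (this.ge.trans hYle))
  -- conjugation by `T`
  have hconj : ∀ E ∈ 𝒦, ∀ t ∈ (T : Subgroup X), (ME E).map (MulAut.conj t).toMonoidHom ≤
      ME (E.map (MulAut.conj t).toMonoidHom) := by
    intro E hE t ht
    refine hMEu _ (hF.inv t E hE) _ (map_mono (hMEle E hE)) ?_ ?_
    · rintro x ⟨hxT, y, hy, rfl⟩
      refine ⟨y, hTME E hE ⟨?_, hy⟩, rfl⟩
      have h1 : t⁻¹ * (t * y * t⁻¹) * t ∈ (T : Subgroup X) :=
        mul_mem (mul_mem (inv_mem ht) hxT) ht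
      show y ∈ (T : Subgroup X)
      simpa [mul_assoc] using h1
    · intro h
      exact hAME E hE ((hAE E).trans (map_injective (MulAut.conj t).injective h).ge)
  let U : Subgroup X → Subgroup X := fun E => pres p E ⊓ ME E
  have hUconj : ∀ E ∈ 𝒦, ∀ t ∈ (T : Subgroup X), (U E).map (MulAut.conj t).toMonoidHom ≤
      U (E.map (MulAut.conj t).toMonoidHom) := fun E hE t ht =>
    le_inf ((map_mono inf_le_left).trans (pres_conj_le E t))
      ((map_mono inf_le_right).trans (hconj E hE t ht))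
  have hUsame : ∀ E ∈ 𝒦, ∀ F ∈ 𝒦, pres p E = pres p F → U E ≤ U F := by
    intro E hE F hF' heq
    have hnorm : (T : Subgroup X) ⊓ F ≤ normalizer (U E : Set X) := by
      intro t ht
      refine LocalChar.mem_normalizer_of_conj_map_le ?_
      have h1 := hUconj E hE t ht.1
      rwa [map_conj_eq (hF.norm E hE (hER F hF' ht.2))] at h1
    have hUF : U E ≤ F := inf_le_left.trans (heq.le.trans (hAE F))
    refine le_inf (inf_le_left.trans heq.le) (le_sup_left.trans
      (hMEu F hF' (U E ⊔ ((T : Subgroup X) ⊓ F)) (sup_le hUF inf_le_right) le_sup_right fun h => ?_))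
    refine hAME E hE (le_trans ?_ (inf_le_right : U E ≤ ME E))
    exact heq.le.trans (LocalChar.resOf_le_of_le_sup (hTEp F) hnorm h.ge)
  set W : Subgroup X := ⨆ E : {E : Subgroup X // E ∈ 𝒦}, U (E : Subgroup X) with hW
  have hUW : ∀ E ∈ 𝒦, U E ≤ W := fun E hE =>
    le_iSup (fun E : {E : Subgroup X // E ∈ 𝒦} => U (E : Subgroup X)) ⟨E, hE⟩
  have hWdec : ∀ E ∈ 𝒦, ∀ w ∈ W, ∃ u ∈ U E, ∃ b ∈ B E, w = u * b := by
    intro E hE w hw
    have h1 : W ≤ U E ⊔ B E := iSup_le fun F => by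
      by_cases h : pres p (F : Subgroup X) = pres p E
      · exact (hUsame _ F.2 E hE h).trans le_sup_left
      · exact inf_le_left.trans ((le_iSup (fun F : {F : Subgroup X // F ∈ 𝒦 ∧ pres p F ≠ pres p E} =>
          pres p (F : Subgroup X)) ⟨F, F.2, h⟩).trans le_sup_right)
    have h2 := h1 hw
    rw [← SetLike.mem_coe, coe_mul_of_left_le_normalizer_right _ _
      ((inf_le_left.trans (hAE E)).trans ((hER E hE).trans (hRB E)))] at h2
    obtain ⟨u, hu, b, hb, rfl⟩ := h2
    exact ⟨u, hu, b, hb, rfl⟩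
  -- proper overgroups
  have hproper : ∀ M : Subgroup X, (T : Subgroup X) ≤ M → M ≠ ⊤ → ∀ E ∈ 𝒦, M ⊓ E ≤ ME E := by
    intro M hTM hM E hE
    refine hMEu E hE _ inf_le_right (inf_le_inf_right _ hTM) fun h => ?_
    have hEM : E ≤ M := inf_eq_right.1 h
    refine hM (top_le_iff.1 ((hF.sup_sylow T).ge.trans (sup_le (sSup_le fun K hK => ?_) hTM)))
    obtain ⟨h', rfl⟩ := hF.tr E hE K hK
    have h2 : h' ∈ R ⊔ (T : Subgroup X) := (hF.sup_sylow T).symm ▸ mem_top h'
    rw [← SetLike.mem_coe, coe_mul_of_right_le_normalizer_left _ _ le_normalizer_of_normal] at h2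
    obtain ⟨r, hr, t, ht, rfl⟩ := h2
    rw [← LocalChar.conj_map_conj_map,
      map_conj_eq (hF.norm _ (hF.inv t E hE) hr)]
    rintro _ ⟨y, hy, rfl⟩
    exact M.mul_mem (M.mul_mem (hTM ht) (hEM hy)) (M.inv_mem (hTM ht))
  have hstep : ∀ M : Subgroup X, (T : Subgroup X) ≤ M → M ≠ ⊤ → ∀ E ∈ 𝒦,
      ∀ x ∈ pres p E, ∀ y ∈ B E, x * y ∈ M → x ∈ ME E := by
    intro M hTM hM E hE x hx y hy hxy
    have hxR : x ∈ R := hER E hE (hAE E hx)
    have haR : x * y ∈ R := mul_mem hxR (hBR E hy)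
    have hKn : R ≤ normalizer ((B E ⊓ E : Subgroup X) : Set X) :=
      LocalChar.le_normalizer_inf_of_le (hRB E) (hF.norm E hE)
    set Z : Subgroup X := (M ⊓ E) ⊔ (B E ⊓ E) with hZ
    have hZle : Z ≤ ME E := sup_le (hproper M hTM hM E hE) (hK E hE)
    have hxZ : x ∈ normalizer (Z : Set X) := by
      refine LocalChar.mem_normalizer_of_conj_map_le ?_
      rw [hZ, Subgroup.map_sup]
      refine sup_le ?_ ?_
      · rintro _ ⟨m, hm, rfl⟩
        have hk : m⁻¹ * y⁻¹ * m * y ∈ B E ⊓ E := by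
          refine ⟨mul_mem ?_ hy, ?_⟩
          · simpa using LocalChar.conj_mem_of_mem_normalizer'
              (hRB E (hER E hE hm.2)) (inv_mem hy)
          · have h1 := LocalChar.conj_mem_of_mem_normalizer' (hF.norm E hE (hBR E hy)) hm.2
            simpa [mul_assoc] using mul_mem (E.inv_mem hm.2) h1
        have h2 : x * y * m * (x * y)⁻¹ ∈ M ⊓ E :=
          ⟨M.mul_mem (M.mul_mem hxy hm.1) (M.inv_mem hxy),
            LocalChar.conj_mem_of_mem_normalizer (hF.norm E hE haR) hm.2⟩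
        have h3 := LocalChar.conj_mem_of_mem_normalizer (hKn haR) hk
        have h4 := mul_mem (Subgroup.mem_sup_left (T := B E ⊓ E) h2) (Subgroup.mem_sup_right h3)
        simpa [mul_assoc] using h4
      · rintro _ ⟨k, hk, rfl⟩
        exact Subgroup.mem_sup_right (S := M ⊓ E) (LocalChar.conj_mem_of_mem_normalizer (hKn hxR) hk)
    by_cases h : E ⊓ normalizer (Z : Set X) = E
    · have hTZ : (T : Subgroup X) ⊓ E ≤ Z := (inf_le_inf_right _ hTM).trans le_sup_left
      have := hMEn E hE Z (hZle.trans (hMEle E hE)) hTZ (inf_eq_left.1 h)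
      exact absurd ((hAE E).trans (this.ge.trans hZle)) (hAME E hE)
    · refine hMEu E hE _ inf_le_left (le_inf inf_le_right ?_) h ⟨hAE E hx, hxZ⟩
      exact (le_trans ((inf_le_inf_right _ hTM).trans le_sup_left) Subgroup.le_normalizer)
  have hfin : ∀ s : Finset (Subgroup X), (∀ C ∈ s, ∃ E ∈ 𝒦, C = pres p E) →
      ∀ M : Subgroup X, (T : Subgroup X) ≤ M → M ≠ ⊤ → ∀ w ∈ W, ∀ r ∈ s.sup id, w * r ∈ M → w * r ∈ W := by
    intro s
    induction s using Finset.induction_on with
    | empty =>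
      intro _ M _ _ w hw r hr _
      rw [Finset.sup_empty, mem_bot] at hr
      rwa [hr, mul_one]
    | insert C s hCs ih =>
      intro hs M hTM hM w hw r hr hwr
      obtain ⟨E, hE, rfl⟩ := hs C (Finset.mem_insert_self _ _)
      have hs' : ∀ C ∈ s, ∃ E ∈ 𝒦, C = pres p E := fun C hC => hs C (Finset.mem_insert_of_mem hC)
      have hsB : s.sup id ≤ B E := Finset.sup_le fun C hC => by
        obtain ⟨F, hF', rfl⟩ := hs' C hC
        exact le_iSup (fun F : {F : Subgroup X // F ∈ 𝒦 ∧ pres p F ≠ pres p E} =>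
          pres p (F : Subgroup X)) ⟨F, hF', fun h => hCs (h ▸ hC)⟩
      have hRs : R ≤ normalizer ((s.sup id : Subgroup X) : Set X) := by
        rw [Finset.sup_eq_iSup]
        refine le_normalizer_iSup' fun C => le_normalizer_iSup' fun hC => ?_
        obtain ⟨F, hF', rfl⟩ := hs' C hC
        exact hRA F hF'
      rw [Finset.sup_insert, id, ← SetLike.mem_coe, coe_mul_of_left_le_normalizer_right _ _
        ((hAE E).trans ((hER E hE).trans hRs))] at hr
      obtain ⟨x, hx, y, hy, rfl⟩ := hr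
      obtain ⟨u, hu, b, hb, rfl⟩ := hWdec E hE w hw
      have hb' : x⁻¹ * b * x * y ∈ B E := mul_mem
        (LocalChar.conj_mem_of_mem_normalizer' (hRB E (hER E hE (hAE E hx))) hb) (hsB hy)
      have hux : u * x ∈ ME E := hstep M hTM hM E hE (u * x) (mul_mem hu.1 hx) _ hb' (by
        simpa [mul_assoc] using hwr)
      have hxU : x ∈ U E := ⟨hx, by simpa [← mul_assoc] using mul_mem ((ME E).inv_mem hu.2) hux⟩
      have := ih hs' M hTM hM (u * b * x) (mul_mem hw (hUW E hE hxU)) y hy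
        (by simpa [mul_assoc] using hwr)
      simpa [mul_assoc] using this
  set s₀ : Finset (Subgroup X) := (Set.toFinite ((fun E => pres p E) '' 𝒦)).toFinset with hs₀
  have hs₀m : ∀ C, C ∈ s₀ ↔ ∃ E ∈ 𝒦, C = pres p E := fun C => by
    rw [hs₀, Set.Finite.mem_toFinset]
    exact ⟨fun ⟨E, hE, h⟩ => ⟨E, hE, h.symm⟩, fun ⟨E, hE, h⟩ => ⟨E, hE, h.symm⟩⟩
  set At : Subgroup X := s₀.sup id with hAt
  have hAAt : ∀ E ∈ 𝒦, pres p E ≤ At := fun E hE =>
    Finset.le_sup (f := id) ((hs₀m _).2 ⟨E, hE, rfl⟩)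
  have hTAt : (T : Subgroup X) ≤ normalizer (At : Set X) := by
    intro t ht
    refine LocalChar.mem_normalizer_of_conj_map_le ?_
    rw [map_le_iff_le_comap]
    refine Finset.sup_le fun C hC => ?_
    obtain ⟨E, hE, rfl⟩ := (hs₀m C).1 hC
    exact map_le_iff_le_comap.1 ((pres_conj_le E t).trans (hAAt _ (hF.inv t E hE)))
  have hgAt : ∀ g : X, (orderOf g).Coprime p → g ∈ At := fun g hg =>
    LocalChar.mem_of_le_sup T.isPGroup' hTAt
      ((sSup_le fun E hE => (hsplit E hE).trans (sup_le_sup (hAAt E hE) inf_le_left) : R ≤ At ⊔ T)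
        (hF.res (Transfer.mem_pResidual_of_coprime hg))) hg
  have hTW : (T : Subgroup X) ≤ normalizer (W : Set X) := by
    intro t ht
    refine LocalChar.mem_normalizer_of_conj_map_le ?_
    rw [hW, Subgroup.map_iSup]
    exact iSup_le fun E => (hUconj _ E.2 t ht).trans (hUW _ (hF.inv t _ E.2))
  have hX0 : W ⊔ (T : Subgroup X) ≠ ⊤ := by
    intro h
    obtain ⟨E, hE⟩ := hF.ne
    have hAW : pres p E ≤ W := LocalChar.resOf_le_iff.2 fun x _ hc =>
      LocalChar.mem_of_le_sup T.isPGroup' hTW (h ▸ mem_top x) hc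
    refine hAME E hE fun a ha => ?_
    obtain ⟨u, hu, b, hb, rfl⟩ := hWdec E hE a (hAW ha)
    have hbE : b ∈ E := by
      simpa using mul_mem (inv_mem (hAE E hu.1)) (hAE E ha)
    exact mul_mem hu.2 (hK E hE ⟨hb, hbE⟩)
  have hall : ∀ M : Subgroup X, (T : Subgroup X) ≤ M → M ≠ ⊤ → M ≤ W ⊔ (T : Subgroup X) := by
    intro M hTM hM
    refine (LocalChar.resOf_sup_sylow' T hTM).ge.trans (sup_le_sup_right ?_ _)
    refine LocalChar.resOf_le_iff.2 fun g hg hc => ?_
    simpa using hfin s₀ (fun C hC => (hs₀m C).1 hC) M hTM hM 1 (one_mem _) g (hgAt g hc)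
      (by simpa using hg)
  obtain ⟨M₁, hM₁, hle₁⟩ := (eq_top_or_exists_le_coatom _).resolve_left hX0
  refine ⟨top_le_iff.1 ((hF.sup_sylow T).ge.trans
    (sup_le (sSup_le fun E hE => hcl E hE) le_normalClosure)), M₁, ⟨hM₁, le_sup_right.trans hle₁⟩, ?_⟩
  rintro M ⟨hM, hTM⟩
  exact ((hM.le_iff.1 ((hall M hTM hM.1).trans hle₁)).resolve_left hM₁.1).symm

/-- A strongly `p`-irreducible group with trivial `p`-core is generated by its `p`-elements. -/
theorem closure_pElements {Y : Type*} [Group Y] [Finite Y] (hO : pCore p Y = ⊥)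
    (hY : IsStronglyPIrreducible p Y) :
    Subgroup.closure {x : Y | ∃ k : ℕ, x ^ p ^ k = 1} = ⊤ := by
  set N := Subgroup.closure {x : Y | ∃ k : ℕ, x ^ p ^ k = 1} with hN
  haveI : N.Normal := by
    refine ⟨fun x hx g => ?_⟩
    have h : N ≤ N.comap (MulAut.conj g).toMonoidHom := by
      rw [hN, closure_le]
      rintro y ⟨k, hk⟩
      exact subset_closure ⟨k, by
        show (g * y * g⁻¹) ^ p ^ k = 1
        rw [conj_pow, hk, mul_one, mul_inv_cancel]⟩
    exact h hx
  obtain ⟨S⟩ : Nonempty (Sylow p Y) := inferInstance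
  have hSN : (S : Subgroup Y) ≤ N := fun s hs => by
    obtain ⟨k, hk⟩ := S.isPGroup' ⟨s, hs⟩
    exact subset_closure ⟨k, by simpa using congrArg Subtype.val hk⟩
  by_cases h : ⁅N, (⊤ : Subgroup Y)⁆ ≤ pCore p Y
  · rw [hO, le_bot_iff, commutator_eq_bot_iff_le_centralizer] at h
    refine absurd (LocalChar.isPClosed_of_sylow_le S ?_) hY.1
    haveI : (S : Subgroup Y).Normal := ⟨fun s hs g => by
      have := mem_centralizer_iff.1 (h (hSN hs)) g (mem_top g)
      rwa [this, mul_inv_cancel_right]⟩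
    exact PSolvable.le_pCore S.isPGroup'
  · exact top_le_iff.1 ((Transfer.pResidual_sup_sylow S).ge.trans
      (sup_le (hY.2 N inferInstance h) hSN))

theorem eq_one_of_pow_of_coprime {c : X} {K : Subgroup X} (hc : c ∈ K) (hK : (Nat.card K).Coprime p)
    {k : ℕ} (h : c ^ p ^ k = 1) : c = 1 := by
  have h1 : orderOf c ∣ Nat.card K := K.orderOf_dvd_natCard hc
  exact orderOf_eq_one_iff.1
    (Nat.eq_one_of_dvd_coprimes (hK.pow_right k) h1 (orderOf_dvd_of_pow_eq_one h))

/-- An abelian normal subgroup has order prime to `p` when `O_p` is trivial. -/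
theorem coprime_card_center (hO : pCore p X = ⊥) {Z : Subgroup X} [Z.Normal] [IsMulCommutative Z] :
    (Nat.card Z).Coprime p := by
  refine (hp.out.coprime_iff_not_dvd.2 fun hdvd => ?_).symm
  obtain ⟨Q⟩ : Nonempty (Sylow p Z) := inferInstance
  haveI : (Q : Subgroup Z).Normal := inferInstance
  haveI := Q.characteristic_of_normal this
  haveI : ((Q : Subgroup Z).map Z.subtype).Normal := ConjAct.normal_of_characteristic_of_normal
  have h1 := PSolvable.le_pCore (N := (Q : Subgroup Z).map Z.subtype) (Q.isPGroup'.map _)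
  rw [hO, le_bot_iff, map_eq_bot_iff_of_injective _ Z.subtype_injective] at h1
  exact Q.ne_bot_of_dvd_card hdvd h1

theorem coe_pResidual_le {Y : Type*} [Group Y] [Finite Y] {K : Subgroup Y} (N : Subgroup Y)
    (h : pResidual p ↥K ≤ N.subgroupOf K) : pres p K ≤ N := by
  rw [map_le_iff_le_comap]; exact h

/-- The strongly irreducible case. -/
theorem irreducible_of_fam (hO : pCore p X = ⊥) (hF : Fam p 𝒦)
    (hst : ∀ E ∈ 𝒦, IsStronglyPIrreducible p ↥E) :
    IsPIrreducible p X ∧ ∀ E ∈ 𝒦, ∀ K ∈ 𝒦, pres p E = pres p K ∨ ⁅E, K⁆ = ⊥ := by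
  classical
  set R := sSup 𝒦 with hR
  haveI hRn : R.Normal := hF.normal
  have hER : ∀ E ∈ 𝒦, E ≤ R := fun E hE => le_sSup hE
  have hOE : ∀ E ∈ 𝒦, pCore p ↥E = ⊥ := by
    intro E hE
    have h1 : pCoreOf p E ≤ pCore p X :=
      LocalChar.pCoreOf_le_pCore_of_isSubnormal (hF.subnormal hE)
    rw [hO, le_bot_iff] at h1
    exact (map_eq_bot_iff_of_injective _ E.subtype_injective).1 h1
  -- the key property
  have hdich : ∀ E ∈ 𝒦, ∀ N : Subgroup X, N ≤ E → E ≤ normalizer (N : Set X) →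
      pres p E ≤ N ∨ ⁅N, E⁆ = ⊥ := by
    intro E hE N hNE hn
    haveI : (N.subgroupOf E).Normal := (normal_subgroupOf_iff_le_normalizer hNE).2 hn
    by_cases h : ⁅N.subgroupOf E, (⊤ : Subgroup E)⁆ ≤ pCore p ↥E
    · refine Or.inr ?_
      rw [hOE E hE, le_bot_iff] at h
      have h2 := congrArg (Subgroup.map E.subtype) h
      rwa [map_commutator, Subgroup.map_bot, map_subgroupOf_eq_of_le hNE, ← MonoidHom.range_eq_map,
        range_subtype] at h2
    · exact Or.inl (coe_pResidual_le N ((hst E hE).2 _ inferInstance h))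
  -- a set whose commutators with `E` are central of order prime to `p` centralises `E`
  have hcent : ∀ E ∈ 𝒦, ∀ n : X, ∀ K : Subgroup X, (Nat.card K).Coprime p →
      (∀ x ∈ E, n * x * n⁻¹ * x⁻¹ ∈ K) → (∀ x ∈ E, ∀ y ∈ E, Commute (n * x * n⁻¹ * x⁻¹) y) →
      ∀ x ∈ E, Commute n x := by
    intro E hE n K hK hmem hcomm x hx
    have htop : (⟨x, hx⟩ : E) ∈ Subgroup.closure {y : E | ∃ k : ℕ, y ^ p ^ k = 1} := by
      rw [closure_pElements (hOE E hE) (hst E hE)]; exact mem_top _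
    have hle : Subgroup.closure {y : E | ∃ k : ℕ, y ^ p ^ k = 1} ≤
        (centralizer ({n} : Set X)).comap E.subtype := by
      rw [closure_le]
      rintro ⟨y, hy⟩ ⟨k, hk⟩
      have hk' : y ^ p ^ k = 1 := by simpa using congrArg Subtype.val hk
      have h1 : ((n * y * n⁻¹ * y⁻¹) * y) ^ p ^ k = 1 := by
        rw [inv_mul_cancel_right, conj_pow, hk', mul_one, mul_inv_cancel]
      rw [(hcomm y hy y hy).mul_pow, hk', mul_one] at h1
      have h2 := eq_one_of_pow_of_coprime (hmem y hy) hK h1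
      show y ∈ centralizer ({n} : Set X)
      rw [mem_centralizer_singleton_iff]
      exact (mul_inv_eq_iff_eq_mul.1 (mul_inv_eq_one.1 h2)).symm
    exact (mem_centralizer_singleton_iff.1 (hle htop)).symm
  refine ⟨⟨?_, ?_⟩, ?_⟩
  · intro hcl
    obtain ⟨E, hE⟩ := hF.ne
    refine (hst E hE).1 (LocalChar.isPClosed_iff.2 fun A hA => ?_)
    have h1 := (LocalChar.le_pCore_of_isPClosed hcl (hA.map E.subtype)).trans hO.le
    rw [le_bot_iff, map_eq_bot_iff_of_injective _ E.subtype_injective] at h1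
    rw [h1]; exact bot_le
  · intro N hN hnc
    haveI := hN
    set Z : Subgroup X := R ⊓ centralizer (R : Set X) with hZ
    haveI : IsMulCommutative Z :=
      ⟨⟨fun a b => Subtype.ext (mem_centralizer_iff.1 b.2.2 a a.2.1)⟩⟩
    by_cases hex : ∃ E ∈ 𝒦, pres p E ≤ N
    · obtain ⟨E, hE, hEN⟩ := hex
      obtain ⟨T⟩ : Nonempty (Sylow p X) := inferInstance
      have hall : ∀ K ∈ 𝒦, K ≤ N ⊔ (T : Subgroup X) := by
        intro K hK
        obtain ⟨P, hP⟩ := sylow_inf_subnormal T (hF.subnormal hK)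
        refine (LocalChar.resOf_sup_sylow K P).ge.trans (sup_le_sup ?_ (hP.le.trans inf_le_left))
        obtain ⟨h', hh'⟩ := hF.tr K hK E hE
        intro a ha
        have h1 : h' * a * h'⁻¹ ∈ N := hEN (by
          rw [hh']; exact pres_conj_le K h' ⟨a, ha, rfl⟩)
        simpa [mul_assoc] using hN.conj_mem _ h1 h'⁻¹
      exact Transfer.pResidual_le_iff.2 fun g hg => LocalChar.mem_of_le_sup T.isPGroup'
        le_normalizer_of_normal ((sSup_le hall : R ≤ _) (hF.res (Transfer.mem_pResidual_of_coprime hg))) hg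
    exfalso
    push Not at hex
    -- `N ⊓ R` centralises each member
    have hNR : ∀ n ∈ N, n ∈ R → ∀ E ∈ 𝒦, ∀ x ∈ E, Commute n x := by
      intro n hn hnR E hE
      haveI : ((N ⊓ E).subgroupOf E).Normal := by
        rw [inf_subgroupOf_right]; infer_instance
      have hNE : ⁅N ⊓ E, E⁆ = ⊥ := (hdich E hE (N ⊓ E) inf_le_right
        (LocalChar.le_normalizer_inf_of_le le_normalizer_of_normal Subgroup.le_normalizer)).resolve_left
          fun h => hex E hE (h.trans inf_le_left)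
      have hmem : ∀ x ∈ E, n * x * n⁻¹ * x⁻¹ ∈ N ⊓ E := fun x hx => by
        refine ⟨?_, mul_mem (LocalChar.conj_mem_of_mem_normalizer (hF.norm E hE hnR) hx) (E.inv_mem hx)⟩
        simpa [mul_assoc] using N.mul_mem hn (hN.conj_mem _ (N.inv_mem hn) x)
      have hc : ∀ x ∈ E, ∀ y ∈ E, Commute (n * x * n⁻¹ * x⁻¹) y := fun x hx y hy =>
        (mem_centralizer_iff.1 (commutator_eq_bot_iff_le_centralizer.1 hNE (hmem x hx)) y hy).symm
      refine hcent E hE n ((center ↥E).map E.subtype) ?_ ?_ hc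
      · rw [card_map_of_injective E.subtype_injective]
        exact coprime_card_center (hOE E hE)
      · intro x hx
        exact ⟨⟨_, (hmem x hx).2⟩, mem_center_iff.2 fun y => Subtype.ext (hc x hx y y.2).eq.symm, rfl⟩
    have hNC : ∀ n ∈ N, n ∈ centralizer (R : Set X) := by
      intro n hn
      have hle : R ≤ centralizer ({n} : Set X) := sSup_le fun E hE x hx => by
        rw [mem_centralizer_singleton_iff]
        refine (hcent E hE n Z (coprime_card_center hO) (fun x hx => ?_) (fun x hx y hy => ?_) x hx).symm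
        · have h1 : n * x * n⁻¹ * x⁻¹ ∈ R :=
            mul_mem (hRn.conj_mem x (hER E hE hx) n) (inv_mem (hER E hE hx))
          have h2 : n * x * n⁻¹ * x⁻¹ ∈ N := by
            simpa [mul_assoc] using N.mul_mem hn (hN.conj_mem _ (N.inv_mem hn) x)
          refine ⟨h1, mem_centralizer_iff.2 ?_⟩
          have h3 : R ≤ centralizer ({n * x * n⁻¹ * x⁻¹} : Set X) := sSup_le fun F hF' z hz => by
            rw [mem_centralizer_singleton_iff]; exact (hNR _ h2 h1 F hF' z hz).eq.symm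
          exact fun z hz => mem_centralizer_singleton_iff.1 (h3 hz)
        · refine hNR _ ?_ (mul_mem (hRn.conj_mem x (hER E hE hx) n) (inv_mem (hER E hE hx))) E hE y hy
          simpa [mul_assoc] using N.mul_mem hn (hN.conj_mem _ (N.inv_mem hn) x)
      exact mem_centralizer_iff.2 fun r hr => mem_centralizer_singleton_iff.1 (hle hr)
    obtain ⟨T⟩ : Nonempty (Sylow p X) := inferInstance
    have hTNn : ((T : Subgroup X) ⊓ N).Normal := by
      rw [← normalizer_eq_top_iff, eq_top_iff]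
      refine (hF.sup_sylow T).ge.trans (sup_le ?_
        (LocalChar.le_normalizer_inf_of_le Subgroup.le_normalizer le_normalizer_of_normal))
      intro r hr
      refine LocalChar.mem_normalizer_of_conj_map_le ?_
      rintro _ ⟨y, hy, rfl⟩
      show r * y * r⁻¹ ∈ _
      rw [mem_centralizer_iff.1 (hNC y hy.2) r hr, mul_inv_cancel_right]
      exact hy
    have hTN : (T : Subgroup X) ⊓ N = ⊥ :=
      le_bot_iff.1 (hO ▸ PSolvable.le_pCore (hN := hTNn) T.isPGroup'.to_inf_left)
    apply hnc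
    obtain ⟨P, hP⟩ := Cfsg.Agent.Lib.SylowNormal.exists_sylow_map_eq_inf T N
    refine LocalChar.isPClosed_of_sylow_le P ?_
    rw [hTN, map_eq_bot_iff_of_injective _ N.subtype_injective] at hP
    rw [hP]
    exact bot_le
  · intro E hE K hK
    by_cases heq : pres p E = pres p K
    · exact Or.inl heq
    refine Or.inr ?_
    have hKE : ⁅K ⊓ E, E⁆ = ⊥ := (hdich E hE (K ⊓ E) inf_le_right
      (LocalChar.le_normalizer_inf_of_le ((hER E hE).trans (hF.norm K hK)) Subgroup.le_normalizer)).resolve_left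
        fun h => heq (hF.pres_eq_of_le hE hK
          (LocalChar.resOf_le_iff.2 fun x hx hc =>
            LocalChar.mem_resOf ((h (LocalChar.mem_resOf hx hc)).1) hc))
    rw [commutator_eq_bot_iff_le_centralizer]
    intro x hx
    rw [mem_centralizer_iff]
    intro k hk
    have hmem : ∀ y ∈ E, k * y * k⁻¹ * y⁻¹ ∈ K ⊓ E := fun y hy =>
      ⟨(by simpa [mul_assoc] using K.mul_mem hk (LocalChar.conj_mem_of_mem_normalizer (hF.norm K hK (hER E hE hy)) (K.inv_mem hk))),
        mul_mem (LocalChar.conj_mem_of_mem_normalizer (hF.norm E hE (hER K hK hk)) hy) (E.inv_mem hy)⟩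
    have hc : ∀ y ∈ E, ∀ z ∈ E, Commute (k * y * k⁻¹ * y⁻¹) z := fun y hy z hz =>
      (mem_centralizer_iff.1 (commutator_eq_bot_iff_le_centralizer.1 hKE (hmem y hy)) z hz).symm
    refine (hcent E hE k ((center ↥E).map E.subtype) ?_ ?_ hc x hx).eq
    · rw [card_map_of_injective E.subtype_injective]
      exact coprime_card_center (hOE E hE)
    · intro y hy
      exact ⟨⟨_, (hmem y hy).2⟩, mem_center_iff.2 fun z => Subtype.ext (hc y hy z z.2).eq.symm, rfl⟩

end Trivial

section Reduce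
universe v

/-- `p`-minimality passes along a surjection with `p`-group kernel. -/
theorem isMinimalOver_map {A : Type*} [Group A] [Finite A] {B : Type*} [Group B] [Finite B] {p : ℕ}
    [Fact p.Prime] (f : A →* B) (hf : Function.Surjective f) (hker : IsPGroup p f.ker) (T : Sylow p A) :
    IsMinimalOver (T : Subgroup A) ↔ IsMinimalOver ((T.mapSurjective hf : Sylow p B) : Subgroup B) := by
  have hkT : f.ker ≤ (T : Subgroup A) :=
    (PSolvable.le_pCore hker).trans (PSolvable.pCore_le_sylow T)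
  show IsMinimalOver (T : Subgroup A) ↔ IsMinimalOver ((T : Subgroup A).map f)
  have hnc : normalClosure ((T : Subgroup A) : Set A) = ⊤ ↔
      normalClosure (((T : Subgroup A).map f : Subgroup B) : Set B) = ⊤ := by
    rw [coe_map, ← map_normalClosure _ f hf]
    constructor
    · intro h; rw [h, map_top_of_surjective f hf]
    · intro h
      have h1 := congrArg (comap f) h
      rwa [comap_map_eq_self (hkT.trans le_normalClosure), comap_top] at h1
  have hcm : ∀ M : Subgroup B, IsCoatom M → IsCoatom (M.comap f) := by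
    intro M hM
    refine ⟨fun h => hM.1 ?_, fun N hN => ?_⟩
    · rw [← map_comap_eq_self_of_surjective hf M, h, map_top_of_surjective f hf]
    · have hkN : f.ker ≤ N := le_trans (fun x hx => by
        show f x ∈ M
        rw [MonoidHom.mem_ker.1 hx]; exact one_mem M) hN.le
      have h2 : M < N.map f := by
        refine lt_of_le_of_ne ?_ fun h => ?_
        · rw [← map_comap_eq_self_of_surjective hf M]; exact map_mono hN.le
        · exact hN.ne (by rw [h, comap_map_eq_self hkN])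
      have h3 := congrArg (comap f) (hM.2 _ h2)
      rwa [comap_map_eq_self hkN, comap_top] at h3
  have hmap : ∀ M : Subgroup A, f.ker ≤ M → IsCoatom M → IsCoatom (M.map f) := by
    intro M hk hM
    refine ⟨fun h => hM.1 ?_, fun N hN => ?_⟩
    · rw [← comap_map_eq_self hk, h, comap_top]
    · have h2 : M < N.comap f := by
        refine lt_of_le_of_ne ?_ fun h => ?_
        · exact map_le_iff_le_comap.1 hN.le
        · exact hN.ne (by rw [h, map_comap_eq_self_of_surjective hf])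
      have h3 := congrArg (map f) (hM.2 _ h2)
      rwa [map_comap_eq_self_of_surjective hf, map_top_of_surjective f hf] at h3
  constructor
  · rintro ⟨h1, M, ⟨hM, hTM⟩, hu⟩
    refine ⟨hnc.1 h1, M.map f, ⟨hmap M (hkT.trans hTM) hM, map_mono hTM⟩, ?_⟩
    rintro N ⟨hN, hTN⟩
    rw [← hu (N.comap f) ⟨hcm N hN, map_le_iff_le_comap.1 hTN⟩, map_comap_eq_self_of_surjective hf]
  · rintro ⟨h1, M, ⟨hM, hTM⟩, hu⟩
    refine ⟨hnc.2 h1, M.comap f, ⟨hcm M hM, map_le_iff_le_comap.1 hTM⟩, ?_⟩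
    rintro N ⟨hN, hTN⟩
    rw [← hu (N.map f) ⟨hmap N (hkT.trans hTN) hN, map_mono hTN⟩, comap_map_eq_self (hkT.trans hTN)]

/-- Strong `p`-irreducibility passes to a quotient by a normal `p`-subgroup. -/
theorem stronglyPIrreducible_map {A : Type v} [Group A] [Finite A] {B : Type v} [Group B] [Finite B]
    {p : ℕ} [Fact p.Prime] (f : A →* B) (hf : Function.Surjective f) (hker : IsPGroup p f.ker)
    (h : IsStronglyPIrreducible p A) : IsStronglyPIrreducible p B := by
  refine ⟨fun hc => h.1 ((LocalChar.isPClosed_iff_of_surjective hf hker).2 hc), fun N hN hne => ?_⟩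
  haveI := hN
  rw [← LocalChar.map_pResidual_eq hf, map_le_iff_le_comap]
  refine h.2 _ inferInstance fun hle => hne ?_
  have h1 := map_mono (f := f) hle
  rw [map_commutator, map_top_of_surjective f hf, map_comap_eq_self_of_surjective hf] at h1
  exact h1.trans (PSolvable.map_pCore_le hf)

end Reduce


/-- Let H be a finite group, p a prime, and 𝒦 a nonempty set of subgroups of H permuted transitively by conjugation, with R the subgroup generated by the members of 𝒦. Suppose O^p(H) ≤ R, each E ∈ 𝒦 has E·O_p(H) normal in R·O_p(H), and each E ∈ 𝒦 is p-minimal (generated by the conjugates of a Sylow p-subgroup T_E of E, with T_E in exactly one maximal subgroup of E). Then H is p-minimal in the same sense. If instead each E ∈ 𝒦 is strongly p-irreducible, then H is p-irreducible and, for E, K ∈ 𝒦, either O^p(E·O_p(H)) = O^p(K·O_p(H)) or [E, K] ≤ O_p(H). -/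
theorem result {H : Type*} [Group H] [Finite H] {p : ℕ} [Fact p.Prime] (𝒦 : Set (Subgroup H)) (hne : 𝒦.Nonempty) (hinv : ∀ h : H, ∀ E ∈ 𝒦, E.map (MulAut.conj h).toMonoidHom ∈ 𝒦) (htr : ∀ E ∈ 𝒦, ∀ K ∈ 𝒦, ∃ h : H, K = E.map (MulAut.conj h).toMonoidHom) (hres : Cfsg.pResidual p H ≤ sSup 𝒦) (hnorm : ∀ E ∈ 𝒦, sSup 𝒦 ⊔ Cfsg.pCore p H ≤ Subgroup.normalizer ((E ⊔ Cfsg.pCore p H : Subgroup H) : Set H)) : ((∀ E ∈ 𝒦, ∀ T : Sylow p ↥E, Cfsg.IsMinimalOver (T : Subgroup ↥E)) → ∀ T : Sylow p H, Cfsg.IsMinimalOver (T : Subgroup H)) ∧ ((∀ E ∈ 𝒦, Cfsg.IsStronglyPIrreducible p ↥E) → Cfsg.IsPIrreducible p H ∧ ∀ E ∈ 𝒦, ∀ K ∈ 𝒦, (Cfsg.pResidual p ↥(E ⊔ Cfsg.pCore p H)).map (E ⊔ Cfsg.pCore p H).subtype = (Cfsg.pResidual p ↥(K ⊔ Cfsg.pCore p H)).map (K ⊔ Cfsg.pCore p H).subtype ∨ ⁅E, K⁆ ≤ Cfsg.pCore p H) := by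
  classical
  set P := Cfsg.pCore p H with hP
  set f := QuotientGroup.mk' P with hf
  have hfs : Function.Surjective f := QuotientGroup.mk'_surjective P
  have hker : f.ker = P := QuotientGroup.ker_mk' P
  have hPp : IsPGroup p P := Lib.PSolvable.pCore_isPGroup
  have hkp : IsPGroup p f.ker := by rw [hker]; exact hPp
  set 𝒦' : Set (Subgroup (H ⧸ P)) := Subgroup.map f '' 𝒦 with h𝒦'
  have hconj : ∀ (E : Subgroup H) (h : H), (E.map (MulAut.conj h).toMonoidHom).map f =
      (E.map f).map (MulAut.conj (f h)).toMonoidHom := fun E h => by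
    rw [Subgroup.map_map, Subgroup.map_map]
    congr 1
  have hsSup : sSup 𝒦' = (sSup 𝒦).map f := by
    rw [h𝒦', sSup_image, (Subgroup.gc_map_comap f).l_sSup]
  have hF : Fam p 𝒦' := by
    refine ⟨hne.image _, ?_, ?_, ?_, ?_⟩
    · rintro h' _ ⟨E, hE, rfl⟩
      obtain ⟨h, rfl⟩ := hfs h'
      exact ⟨_, hinv h E hE, hconj E h⟩
    · rintro _ ⟨E, hE, rfl⟩ _ ⟨K, hK, rfl⟩
      obtain ⟨h, rfl⟩ := htr E hE K hK
      exact ⟨f h, hconj E h⟩
    · rw [hsSup, ← Lib.LocalChar.map_pResidual_eq hfs]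
      exact Subgroup.map_mono hres
    · rintro _ ⟨E, hE, rfl⟩
      rw [hsSup]
      refine le_trans (Subgroup.map_mono (le_sup_left.trans (hnorm E hE))) ?_
      refine (Subgroup.le_normalizer_map f).trans (le_of_eq ?_)
      rw [Subgroup.map_sup, (Subgroup.map_eq_bot_iff P).2 hker.ge, sup_bot_eq]
  have hO : Cfsg.pCore p (H ⧸ P) = ⊥ := Lib.PSolvable.pCore_quotient_eq_bot
  have hkE : ∀ E : Subgroup H, IsPGroup p (f.subgroupMap E).ker := by
    intro E
    rintro ⟨x, hx⟩
    have hx' : f x.1 = 1 := by simpa using congrArg Subtype.val hx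
    obtain ⟨k, hk⟩ := hkp ⟨x.1, hx'⟩
    refine ⟨k, Subtype.ext (Subtype.ext ?_)⟩
    simpa using congrArg Subtype.val hk
  refine ⟨fun hmin T => ?_, fun hst => ?_⟩
  · refine (isMinimalOver_map f hfs hkp T).2 (isMinimalOver_of_fam hF _ ?_)
    rintro _ ⟨E, hE, rfl⟩ T'
    obtain ⟨T₀, rfl⟩ := Sylow.mapSurjective_surjective (f.subgroupMap_surjective E) p T'
    exact (isMinimalOver_map _ (f.subgroupMap_surjective E) (hkE E) T₀).1 (hmin E hE T₀)
  · obtain ⟨⟨hnc, hirr⟩, hd⟩ := irreducible_of_fam hO hF (by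
      rintro _ ⟨E, hE, rfl⟩
      exact stronglyPIrreducible_map _ (f.subgroupMap_surjective E) (hkE E) (hst E hE))
    refine ⟨⟨fun hc => hnc ((Lib.LocalChar.isPClosed_iff_of_surjective hfs hkp).1 hc),
      fun N hN hN' => ?_⟩, fun E hE K hK => ?_⟩
    · haveI := hN
      have h1 := hirr (N.map f) (hN.map f hfs) fun hc => hN' ((Lib.LocalChar.isPClosed_map_iff N hkp).2 hc)
      rw [← Lib.LocalChar.map_pResidual_eq hfs, Subgroup.map_le_map_iff, hker] at h1
      exact Lib.Transfer.pResidual_le_iff.2 fun g hg => Lib.LocalChar.mem_of_le_sup hPp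
        Subgroup.le_normalizer_of_normal (h1 (Lib.Transfer.mem_pResidual_of_coprime hg)) hg
    · rcases hd _ ⟨E, hE, rfl⟩ _ ⟨K, hK, rfl⟩ with h | h
      · refine Or.inl ?_
        have key : ∀ A B : Subgroup H, pres p (A.map f) = pres p (B.map f) →
            pres p (A ⊔ P) ≤ pres p (B ⊔ P) := by
          intro A B hAB
          refine Lib.LocalChar.resOf_le_iff.2 fun g hg hc => ?_
          have hgA : f g ∈ A.map f := by
            have := Subgroup.mem_map_of_mem f hg
            rwa [Subgroup.map_sup, (Subgroup.map_eq_bot_iff P).2 hker.ge, sup_bot_eq] at this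
          have hgB : f g ∈ pres p (B.map f) := hAB ▸ Lib.LocalChar.mem_resOf hgA
            (hc.coprime_dvd_left (orderOf_map_dvd f g))
          have hsub : pres p (B.map f) ≤ (pres p (B ⊔ P)).map f := by
            refine Lib.LocalChar.resOf_le_iff.2 ?_
            rintro _ ⟨x, hx, rfl⟩ hxc
            obtain ⟨k, hk⟩ := Lib.Transfer.exists_pow_coprime (p := p) x
            refine Lib.LocalChar.mem_of_pow_mem_of_coprime (k := k) ?_ hxc
            exact ⟨x ^ p ^ k, Lib.LocalChar.mem_resOf (pow_mem (Subgroup.mem_sup_left hx) _) hk, map_pow f x _⟩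
          have hg2 : g ∈ pres p (B ⊔ P) ⊔ P := by
            have h3 : g ∈ Subgroup.comap f ((pres p (B ⊔ P)).map f) := hsub hgB
            rwa [Subgroup.comap_map_eq, hker] at h3
          exact Lib.LocalChar.mem_of_le_sup hPp
            (le_sup_right.trans (Lib.LocalChar.le_normalizer_resOf (B ⊔ P))) hg2 hc
        exact le_antisymm (key E K h) (key K E h.symm)
      · refine Or.inr ?_
        rw [← Subgroup.map_commutator, Subgroup.map_eq_bot_iff, hker] at h
        exact h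

end Cfsg.Agent.S2855
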