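import Cfsg.Statements.S2856
import Mathlib
import Cfsg.Agent.Lib.Amalgam55.Closure
import Cfsg.Agent.Lib.LocalChar.Basic

set_option autoImplicit false
open Cfsg
open scoped commutatorElement

namespace Cfsg.Agent.S2856

/-- Let (M₁, M₂) be an amalgam pair in X satisfying the rank-two standing hypothesis (characteristic p, the normalizers in M₁ and in M₂ of a Sylow p-subgroup of M₁ ∩ M₂ equal and contained in M₁ ∩ M₂, and strongly p-embedded residues), λ a vertex of the coset graph, L_λ the subgroup of its stabilizer generated by the p-elements, Q_λ = O_p of the stabilizer, O^p(L_λ) the subgroup of L_λ generated by its elements of order prime to p, and V_λ^{(k)} the subgroup generated by the Z_μ over the vertices μ at distance at most k from λ (Z_μ being generated by the Ω₁(Z(S)), S a Sylow p-subgroup of the stabilizer of μ). If n ≥ 1 and V_λ^{(n)} ≤ Q_λ, then O^p(L_λ) does not centralize V_λ^{(n)}/[V_λ^{(n)}, Q_λ], that is, [V_λ^{(n)}, O^p(L_λ)] is not contained in [V_λ^{(n)},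 Q_λ]. -/
theorem result {X : Type*} [Group X] {p : ℕ} [Fact p.Prime] (M₁ M₂ : Subgroup X) (h : Cfsg.IsSpeAmalgamPair p M₁ M₂) (lam : Cfsg.CosetVertex M₁ M₂) (n : ℕ) (hn : 1 ≤ n) (V : Subgroup X) (hV : V = Cfsg.vertexVIter p M₁ M₂ n lam) (hVQ : V ≤ Cfsg.vertexQ p lam) : ¬ ⁅V, ((Cfsg.pResidual p ↥(Cfsg.pElementClosure p (MulAction.stabilizer X lam))).map (Cfsg.pElementClosure p (MulAction.stabilizer X lam)).subtype)⁆ ≤ ⁅V, Cfsg.vertexQ p lam⁆ := by
  subst hV
  obtain ⟨μ, hadj⟩ := Lib.Amalgam.exists_adj lam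
  intro hc
  haveI := Lib.Amalgam.finite_stabilizer h.1 lam
  obtain ⟨T, -, hTl, hTμ⟩ := Lib.Amalgam.exists_common_sylow h.1 hadj
  set Q := Cfsg.vertexQ p lam with hQ
  set V := Cfsg.vertexVIter p M₁ M₂ n lam with hV
  set U := Cfsg.vertexVIter p M₁ M₂ (n - 1) μ with hU
  set G₀ := MulAction.stabilizer X lam with hG₀
  have hQn : G₀ ≤ Subgroup.normalizer (Q : Set X) := Lib.Amalgam.le_normalizer_pCoreOf p G₀
  have hVn : G₀ ≤ Subgroup.normalizer (V : Set X) := Lib.Amalgam55.stabilizer_le_normalizer_vIter h.1 n lam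
  have hWn : G₀ ≤ Subgroup.normalizer ((⁅V, Q⁆ : Subgroup X) : Set X) :=
    Lib.LocalChar.le_normalizer_commutator_of_le hVn hQn
  have hUV : U ≤ V := Lib.Amalgam55.vIter_le_of_adj h.1.1.1 (by omega) hadj.symm
  have hQμ : Q ≤ MulAction.stabilizer X μ := (Lib.Amalgam.vertexQ_le_neighbourKernel h.1 lam).trans
    (Lib.Amalgam.neighbourKernel_le_of_adj hadj)
  have hQU : Q ≤ Subgroup.normalizer (U : Set X) :=
    hQμ.trans (Lib.Amalgam55.stabilizer_le_normalizer_vIter h.1 (n - 1) μ)
  have hWV : ⁅V, Q⁆ ≤ V :=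
    Subgroup.le_normalizer_iff_commutator_le_left.mp ((Lib.Amalgam.pCoreOf_le p G₀).trans hVn)
  set N := U ⊔ ⁅V, Q⁆ with hN
  have hLn : Cfsg.pElementClosure p G₀ ≤ Subgroup.normalizer (N : Set X) := by
    refine (Lib.Amalgam55.pElementClosure_le_sup hTl).trans (sup_le ?_ ?_)
    · rw [Subgroup.le_normalizer_iff_commutator_le_left]
      exact (Subgroup.commutator_mono (sup_le hUV hWV) le_rfl).trans (hc.trans le_sup_right)
    · intro t ht
      refine Lib.Amalgam.mem_normalizer_of_map_conj_eq ?_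
      rw [hN, Subgroup.map_sup, Lib.Amalgam.map_conj_eq_of_mem_normalizer
          (Lib.Amalgam55.stabilizer_le_normalizer_vIter h.1 (n - 1) μ (hTμ.1 ht)),
        Lib.Amalgam.map_conj_eq_of_mem_normalizer (hWn (hTl.1 ht))]
  have hVN : V ≤ N := Lib.Amalgam55.vIter_le_of_normalized h hn hadj le_sup_left hLn
  -- descend along the lower central series of `Q`
  have hKn : ∀ i, Q ≤ Subgroup.normalizer (Cfsg.iterCommutator V Q i : Set X) := by
    intro i
    induction i with
    | zero => exact (Lib.Amalgam.pCoreOf_le p G₀).trans hVn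
    | succ i ih => exact Lib.LocalChar.le_normalizer_commutator_of_le ih Subgroup.le_normalizer
  have hVK : ∀ i, V ≤ U ⊔ Cfsg.iterCommutator V Q i := by
    intro i
    induction i with
    | zero => exact le_sup_right
    | succ i ih =>
      refine hVN.trans (sup_le le_sup_left ?_)
      rw [Subgroup.commutator_le]
      intro v hv q hq
      have h1 := ih hv
      rw [← SetLike.mem_coe, Subgroup.coe_mul_of_left_le_normalizer_right _ _
        ((hUV.trans hVQ).trans (hKn i))] at h1
      obtain ⟨u, hu, k, hk, rfl⟩ := h1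
      have e1 : u * ⁅k, q⁆ * u⁻¹ ∈ Cfsg.iterCommutator V Q (i + 1) :=
        Lib.LocalChar.conj_mem_of_mem_normalizer (hKn (i + 1) (hVQ (hUV hu)))
          (Subgroup.commutator_mem_commutator hk hq)
      have e2 : ⁅u, q⁆ ∈ U :=
        Subgroup.le_normalizer_iff_commutator_le_left.mp hQU (Subgroup.commutator_mem_commutator hu hq)
      rw [show ⁅u * k, q⁆ = (u * ⁅k, q⁆ * u⁻¹) * ⁅u, q⁆ by rw [commutatorElement_def, commutatorElement_def, commutatorElement_def]; group]
      exact mul_mem (Subgroup.mem_sup_right e1) (Subgroup.mem_sup_left e2)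
  obtain ⟨m, hm⟩ := Lib.LocalChar.exists_iterCommutator_eq_bot (A := V) (B := Q) (X := Q)
    (by
      haveI : Finite Q := Finite.of_injective (Subgroup.inclusion (Lib.Amalgam.pCoreOf_le p G₀))
        (Subgroup.inclusion_injective _)
      exact (Lib.Amalgam.isPGroup_pCoreOf (p := p) G₀).isNilpotent) hVQ le_rfl
  have hfin := hVK m
  rw [hm, sup_bot_eq] at hfin
  exact Lib.Amalgam55.vIter_ne h hadj hVQ (le_antisymm hfin hUV)

end Cfsg.Agent.S2856
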