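import Cfsg.Statements.S2857
import Mathlib
import Cfsg.Agent.Lib.Amalgam55.Closure

set_option autoImplicit false
open Cfsg

namespace Cfsg.Agent.S2857

/-- Let (M₁, M₂) be an amalgam pair in X satisfying the rank-two standing hypothesis (characteristic p, the normalizers in M₁ and in M₂ of a Sylow p-subgroup of M₁ ∩ M₂ equal and contained in M₁ ∩ M₂, and strongly p-embedded residues), λ a vertex of the coset graph, L_λ the subgroup of its stabilizer generated by the p-elements, Q_λ = O_p of the stabilizer, O^p(L_λ) the subgroup of L_λ generated by its elements of order prime to p, and V_λ^{(k)} the subgroup generated by the Z_μ over the vertices μ at distance at most k from λ (Z_μ being generated by the Ω₁(Z(S)), S a Sylow p-subgroup of the stabilizer of μ). If n ≥ 2 and V_λ^{(n)} ≤ Q_λ, then O^p(L_λ) does not centralize V_λ^{(n)}/V_λ^{(n-2)}, that is, [V_λ^{(n)}, O^p(L_λ)] is not contained in V_λ^{(n-2)}. -/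
theorem result {X : Type*} [Group X] {p : ℕ} [Fact p.Prime] (M₁ M₂ : Subgroup X) (h : Cfsg.IsSpeAmalgamPair p M₁ M₂) (lam : Cfsg.CosetVertex M₁ M₂) (n : ℕ) (hn : 2 ≤ n) (hVQ : Cfsg.vertexVIter p M₁ M₂ n lam ≤ Cfsg.vertexQ p lam) : ¬ ⁅Cfsg.vertexVIter p M₁ M₂ n lam, ((Cfsg.pResidual p ↥(Cfsg.pElementClosure p (MulAction.stabilizer X lam))).map (Cfsg.pElementClosure p (MulAction.stabilizer X lam)).subtype)⁆ ≤ Cfsg.vertexVIter p M₁ M₂ (n - 2) lam := by
  obtain ⟨μ, hadj⟩ := Lib.Amalgam.exists_adj lam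
  intro hc
  haveI := Lib.Amalgam.finite_stabilizer h.1 lam
  obtain ⟨T, -, hTl, hTμ⟩ := Lib.Amalgam.exists_common_sylow h.1 hadj
  set U := Cfsg.vertexVIter p M₁ M₂ (n - 1) μ with hU
  have hUV : U ≤ Cfsg.vertexVIter p M₁ M₂ n lam :=
    Lib.Amalgam55.vIter_le_of_adj h.1.1.1 (by omega) hadj.symm
  have hWU : Cfsg.vertexVIter p M₁ M₂ (n - 2) lam ≤ U :=
    Lib.Amalgam55.vIter_le_of_adj h.1.1.1 (by omega) hadj
  have hLn : Cfsg.pElementClosure p (MulAction.stabilizer X lam) ≤ Subgroup.normalizer (U : Set X) := by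
    refine (Lib.Amalgam55.pElementClosure_le_sup hTl).trans (sup_le ?_
      (hTμ.1.trans (Lib.Amalgam55.stabilizer_le_normalizer_vIter h.1 (n - 1) μ)))
    rw [Subgroup.le_normalizer_iff_commutator_le_left]
    exact (Subgroup.commutator_mono hUV le_rfl).trans (hc.trans hWU)
  exact Lib.Amalgam55.vIter_ne h hadj hVQ
    (le_antisymm (Lib.Amalgam55.vIter_le_of_normalized h (by omega) hadj le_rfl hLn) hUV)

end Cfsg.Agent.S2857
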