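import Cfsg.Statements.S2859
import Mathlib
import Cfsg.Agent.S2855
import Cfsg.Agent.Lib.LocalChar.WeaklyClosed

set_option autoImplicit false
open Cfsg

namespace Cfsg.Agent.S2859
open Subgroup Cfsg.Agent.Lib
open scoped commutatorElement

/-- In a group with trivial `p`-core generated by the conjugates of a `p`-subgroup `Q`, a
factorization into normal subgroups whose commutator normalises `Q` commutes. -/
theorem commutator_eq_bot {X : Type*} [Group X] [Finite X] {p : ℕ} [Fact p.Prime]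
    (hO : pCore p X = ⊥) {Q H₁ H₂ : Subgroup X} [H₁.Normal] [H₂.Normal] (hQ : IsPGroup p Q)
    (hgen : normalClosure (Q : Set X) = ⊤) (hprod : H₁ ⊔ H₂ = ⊤)
    (hD : ⁅H₁, H₂⁆ ≤ normalizer (Q : Set X)) : ⁅H₁, H₂⁆ = ⊥ := by
  set D := ⁅H₁, H₂⁆ with hDdef
  haveI hDn : D.Normal := commutator_normal H₁ H₂
  have hDQ : D ⊓ Q = ⊥ := by
    have hsub : (D ⊓ Q).IsSubnormal := IsSubnormal.step _ D inf_le_left hDn.isSubnormal
      ((normal_subgroupOf_iff_le_normalizer inf_le_left).2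
        (LocalChar.le_normalizer_inf_of_le Subgroup.le_normalizer hD))
    exact le_bot_iff.1 (hO ▸ LocalChar.le_pCore_of_isSubnormal hsub (hQ.to_le inf_le_right))
  have hcent : ∀ d ∈ D, ∀ x : X, Commute d x := by
    intro d hd x
    have hle : normalClosure (Q : Set X) ≤ centralizer (D : Set X) := by
      refine normalClosure_le_normal fun q hq => mem_centralizer_iff.2 fun e he => ?_
      have h1 : e * q * e⁻¹ * q⁻¹ ∈ D ⊓ Q := ⟨by
        simpa [mul_assoc] using D.mul_mem he (hDn.conj_mem _ (D.inv_mem he) q),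
        Q.mul_mem (LocalChar.conj_mem_of_mem_normalizer (hD he) hq) (Q.inv_mem hq)⟩
      rw [hDQ, mem_bot] at h1
      exact mul_inv_eq_iff_eq_mul.1 (mul_inv_eq_one.1 h1)
    rw [hgen] at hle
    exact mem_centralizer_iff.1 (hle (mem_top x)) d hd
  haveI : IsMulCommutative D := ⟨⟨fun a b => Subtype.ext (hcent a a.2 b).eq⟩⟩
  have hDcop := Cfsg.Agent.S2855.coprime_card_center hO (Z := D)
  have hbot1 : ∀ A : Subgroup X, ⁅D, A⁆ = ⊥ := fun A => commutator_eq_bot_iff_le_centralizer.2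
    fun d hd => mem_centralizer_iff.2 fun a _ => (hcent d hd a).eq.symm
  have hH2 : ⁅⁅H₂, H₂⁆, H₁⁆ = ⊥ := commutator_commutator_eq_bot_of_rotate
    (by rw [commutator_comm H₂ H₁]; exact hbot1 H₂) (hbot1 H₂)
  have hH1 : ⁅⁅H₁, H₁⁆, H₂⁆ = ⊥ := commutator_commutator_eq_bot_of_rotate (hbot1 H₁)
    (by rw [commutator_comm H₂ H₁]; exact hbot1 H₁)
  -- the derived subgroup
  set N := ⁅H₁, H₁⁆ ⊔ ⁅H₂, H₂⁆ ⊔ D with hN
  have hder : ⁅(⊤ : Subgroup X), (⊤ : Subgroup X)⁆ ≤ N := by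
    set f := QuotientGroup.mk' N with hf
    have hker : ∀ A B : Subgroup X, ⁅A, B⁆ ≤ N → A.map f ≤ centralizer (B.map f : Set (X ⧸ N)) := by
      intro A B h
      rw [← commutator_eq_bot_iff_le_centralizer, ← map_commutator, Subgroup.map_eq_bot_iff,
        QuotientGroup.ker_mk']
      exact h
    have h11 := hker H₁ H₁ (le_sup_left.trans le_sup_left)
    have h22 := hker H₂ H₂ (le_sup_right.trans le_sup_left)
    have h12 := hker H₁ H₂ le_sup_right
    have h21 := le_centralizer_iff.1 h12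
    have hall : (H₁ ⊔ H₂).map f ≤ centralizer ((H₁ ⊔ H₂).map f : Set (X ⧸ N)) := by
      rw [Subgroup.map_sup]
      exact sup_le (le_centralizer_iff.1 (sup_le h11 h21)) (le_centralizer_iff.1 (sup_le h12 h22))
    rw [hprod, ← commutator_eq_bot_iff_le_centralizer, ← map_commutator, Subgroup.map_eq_bot_iff,
      QuotientGroup.ker_mk'] at hall
    exact hall
  -- `p`-power powers lie in the derived subgroup
  obtain ⟨k, hk⟩ := IsPGroup.iff_card.1 hQ
  have hpow : ∀ x : X, x ^ p ^ k ∈ N := by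
    intro x
    haveI : (N ⊔ Q).Normal := ⟨fun y hy g => by
      have h1 : g * y * g⁻¹ * y⁻¹ ∈ N ⊔ Q := mem_sup_left
        (hder (by simpa [commutatorElement_def] using commutator_mem_commutator (mem_top g) (mem_top y)))
      simpa using mul_mem h1 hy⟩
    have hx : x ∈ N ⊔ Q := (normalClosure_le_normal (N := N ⊔ Q) (fun q hq => mem_sup_right hq))
      (hgen ▸ mem_top x)
    rw [← SetLike.mem_coe, normal_mul] at hx
    obtain ⟨n, hn, q, hq, rfl⟩ := hx
    obtain ⟨n', hn', h⟩ := LocalChar.exists_mul_pow_eq (q := q) hn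
      (le_normalizer_of_normal (H := N) (mem_top q)) (p ^ k)
    have hq1 : q ^ p ^ k = 1 := by
      have := congrArg Subtype.val (pow_card_eq_one' (x := (⟨q, hq⟩ : Q)))
      rwa [hk] at this
    rw [h, hq1, mul_one]
    exact hn'
  have hcomm : ∀ h ∈ H₁, h ∈ N → ∀ n ∈ H₂, n ∈ N → Commute h n := by
    have hdec : ∀ x ∈ N, ∃ a ∈ ⁅H₁, H₁⁆, ∃ b ∈ ⁅H₂, H₂⁆, ∃ d ∈ D, x = a * b * d := by
      intro x hx
      rw [hN, ← SetLike.mem_coe, normal_mul] at hx
      obtain ⟨ab, hab, d, hd, rfl⟩ := hx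
      rw [SetLike.mem_coe, ← SetLike.mem_coe, normal_mul] at hab
      obtain ⟨a, ha, b, hb, rfl⟩ := hab
      exact ⟨a, ha, b, hb, d, hd, rfl⟩
    intro h hh hhN n hn hnN
    obtain ⟨a, ha, b, hb, d, hd, rfl⟩ := hdec h hhN
    obtain ⟨a', ha', b', hb', d', hd', rfl⟩ := hdec n hnN
    have hbH1 : b ∈ H₁ := by
      have h1 := H₁.mul_mem (H₁.mul_mem (H₁.inv_mem (commutator_le_left H₁ H₁ ha)) hh)
        (H₁.inv_mem (commutator_le_left H₁ H₂ hd))
      simpa [mul_assoc] using h1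
    have c1 : ∀ z ∈ H₂, Commute a z := fun z hz =>
      (mem_centralizer_iff.1 (commutator_eq_bot_iff_le_centralizer.1 hH1 ha) z hz).symm
    have c2 : ∀ z ∈ H₁, ∀ w ∈ ⁅H₂, H₂⁆, Commute w z := fun z hz w hw =>
      (mem_centralizer_iff.1 (commutator_eq_bot_iff_le_centralizer.1 hH2 hw) z hz).symm
    refine Commute.mul_left (Commute.mul_left (c1 _ hn) ?_) (hcent d hd _)
    exact Commute.mul_right (Commute.mul_right (c2 a' (commutator_le_left H₁ H₁ ha') b hb)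
      (c2 b hbH1 b' hb').symm) (hcent d' hd' b).symm
  rw [hDdef, eq_bot_iff, commutator_le]
  intro h hh n hn
  rw [mem_bot]
  set c := ⁅h, n⁆ with hc
  have hcD : c ∈ D := commutator_mem_commutator hh hn
  have hstep : ∀ m : ℕ, h ^ m * n * (h ^ m)⁻¹ = c ^ m * n := by
    intro m
    induction m with
    | zero => simp
    | succ m ih =>
      calc h ^ (m + 1) * n * (h ^ (m + 1))⁻¹ = h * (h ^ m * n * (h ^ m)⁻¹) * h⁻¹ := by
            rw [pow_succ' h m]; group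
        _ = h * c ^ m * (n * h⁻¹) := by rw [ih]; group
        _ = c ^ m * h * (n * h⁻¹) := by rw [((hcent c hcD h).pow_left m).eq]
        _ = c ^ (m + 1) * n := by rw [pow_succ, hc, commutatorElement_def]; group
  have h1 := hcomm _ (H₁.pow_mem hh (p ^ k)) (hpow h) _ (H₂.pow_mem hn (p ^ k)) (hpow n)
  have h2 : (c ^ p ^ k * n) ^ p ^ k = n ^ p ^ k := by
    rw [← hstep, conj_pow, h1.eq, mul_inv_cancel_right]
  rw [((hcent c hcD n).pow_left _).mul_pow, mul_eq_right, ← pow_mul, ← pow_add] at h2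
  exact Cfsg.Agent.S2855.eq_one_of_pow_of_coprime hcD hDcop h2

theorem half {G : Type*} [Group G] [Finite G] {p : ℕ} [Fact p.Prime] {Q Hc H₁ H₂ : Subgroup G}
    (hQp : IsPGroup p Q) (hwc : IsWeaklyClosedSubgroup p Q) (hQHc : Q ≤ Hc)
    (hn₁ : H₁ ≤ Hc ∧ Hc ≤ normalizer (H₁ : Set G)) (hn₂ : H₂ ≤ Hc ∧ Hc ≤ normalizer (H₂ : Set G))
    (hprod : H₁ ⊔ H₂ = Hc) (hD : ⁅H₁, H₂⁆ ≤ pCoreOf p Hc) (hPQ : pCoreOf p Hc ≤ normalizer (Q : Set G))
    (K₁ : Subgroup G)
    (hK₁ : K₁ = (pResidual p ↥(weakClosure Q (H₁ ⊔ Q))).map (weakClosure Q (H₁ ⊔ Q)).subtype) :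
    (⁅K₁, Q⁆ = K₁ ∧ ⁅K₁, H₁⁆ = K₁ ∧ K₁ ≤ ⁅H₁, H₁⁆ ∧ Hc ≤ normalizer (K₁ : Set G)) ∧
      K₁ ≤ (pResidual p ↥Hc).map Hc.subtype ∧ K₁ ≤ H₁ ∧
      (∀ h ∈ H₁, Q.map (MulAut.conj h).toMonoidHom ≤ K₁ ⊔ Q) := by
  classical
  set P := pCoreOf p Hc with hP
  set W := weakClosure Q (H₁ ⊔ Q) with hW
  set M := ⁅H₁, Q⁆ with hM
  have hPp : IsPGroup p P := CharP.pCoreOf_isPGroup Hc
  have hPH : P ≤ normalizer (H₁ : Set G) := (CharP.pCoreOf_le Hc).trans hn₁.2
  have hQH : Q ≤ normalizer (H₁ : Set G) := hQHc.trans hn₁.2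
  have hMH : M ≤ H₁ := le_normalizer_iff_commutator_le_left.mp hQH
  have hQM : Q ≤ normalizer (M : Set G) := normalizer_commutator_ge_right H₁ Q
  have hWM : W ≤ M ⊔ Q := by
    refine iSup_le fun g => ?_
    obtain ⟨k, hk, he⟩ := LocalChar.wc_conj_in hwc hQp le_sup_right g.2
    rw [← SetLike.mem_coe, coe_mul_of_right_le_normalizer_left _ _ hQH] at hk
    obtain ⟨h, hh, q, hq, rfl⟩ := hk
    rw [he, ← LocalChar.conj_map_conj_map, LocalChar.conj_map_eq_of_mem (Subgroup.le_normalizer hq)]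
    rintro _ ⟨x, hx, rfl⟩
    have h1 := mul_mem (mem_sup_left (T := Q) (commutator_mem_commutator hh hx)) (mem_sup_right (S := M) hx)
    simpa [commutatorElement_def, mul_assoc] using h1
  have hconjW : ∀ h ∈ H₁ ⊔ Q, Q.map (MulAut.conj h).toMonoidHom ≤ W := fun h hh =>
    le_iSup (fun g : {g : G // Q.map (MulAut.conj g).toMonoidHom ≤ H₁ ⊔ Q} =>
      Q.map (MulAut.conj (g : G)).toMonoidHom)
      ⟨h, (map_mono le_sup_right).trans (LocalChar.conj_map_eq_of_mem (Subgroup.le_normalizer hh)).le⟩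
  have hQW : Q ≤ W := by
    have := hconjW 1 (one_mem _)
    rwa [LocalChar.conj_map_one] at this
  have hMW : M ≤ W := commutator_le.2 fun h hh q hq => by
    have h1 := mul_mem (hconjW h (mem_sup_left hh) ⟨q, hq, rfl⟩) (inv_mem (hQW hq))
    simpa [commutatorElement_def] using h1
  have hK : K₁ = (pResidual p ↥M).map M.subtype := by
    rw [hK₁]
    exact le_antisymm (LocalChar.resOf_le_iff.2 fun x hx hc =>
      LocalChar.mem_resOf (LocalChar.mem_of_le_sup hQp hQM (hWM hx) hc) hc) (LocalChar.resOf_mono hMW)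
  have hKM : K₁ ≤ M := hK ▸ LocalChar.resOf_le M
  have hPM : P ≤ normalizer (M : Set G) := LocalChar.le_normalizer_commutator_of_le hPH hPQ
  -- `M P` is normal in `Hc`
  have hKP : K₁ = (pResidual p ↥(M ⊔ P)).map (M ⊔ P).subtype := by
    rw [hK]
    exact le_antisymm (LocalChar.resOf_mono le_sup_left) (LocalChar.resOf_le_iff.2 fun x hx hc =>
      LocalChar.mem_resOf (LocalChar.mem_of_le_sup hPp hPM hx hc) hc)
  have hMP : Hc ≤ normalizer ((M ⊔ P : Subgroup G) : Set G) := by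
    rw [← hprod]
    refine sup_le ?_ ?_
    · intro h hh
      refine LocalChar.mem_normalizer_of_conj_map_le ?_
      rw [Subgroup.map_sup]
      refine sup_le ?_ ?_
      · rintro _ ⟨x, hx, rfl⟩
        exact mem_sup_left (LocalChar.conj_mem_of_mem_normalizer (normalizer_commutator_ge_left H₁ Q hh) hx)
      · rintro _ ⟨x, hx, rfl⟩
        exact mem_sup_right (LocalChar.conj_mem_of_mem_normalizer
          (CharP.le_normalizer_pCoreOf Hc (hn₁.1 hh)) hx)
    · intro h hh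
      refine LocalChar.mem_normalizer_of_conj_map_le ?_
      rw [Subgroup.map_sup]
      refine sup_le ?_ ?_
      · rintro _ ⟨x, hx, rfl⟩
        have h1 : x * h * x⁻¹ * h⁻¹ ∈ P := hD (by
          simpa [commutatorElement_def] using commutator_mem_commutator (hMH hx) hh)
        have h2 := mul_mem (mem_sup_right (S := M) (inv_mem h1)) (mem_sup_left (T := P) hx)
        simpa [mul_assoc] using h2
      · rintro _ ⟨x, hx, rfl⟩
        exact mem_sup_right (LocalChar.conj_mem_of_mem_normalizer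
          (CharP.le_normalizer_pCoreOf Hc (hn₂.1 hh)) hx)
  have hKn : Hc ≤ normalizer (K₁ : Set G) :=
    hKP ▸ hMP.trans (LocalChar.normalizer_le_normalizer_resOf _)
  -- `W = ⟨Q^K⟩`
  have hKQ : ∀ h ∈ H₁ ⊔ Q, Q.map (MulAut.conj h).toMonoidHom ≤ ⁅K₁, Q⁆ ⊔ Q := by
    intro h hh
    obtain ⟨w, hw, he⟩ := LocalChar.wc_conj_in hwc hQp hQW (hconjW h hh)
    rw [he]
    obtain ⟨T, hT⟩ := (hQp.comap_subtype (K := W)).exists_le_sylow
    have hTN : (T : Subgroup W).map W.subtype ≤ normalizer (Q : Set G) := by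
      refine Subgroup.le_normalizer.trans (LocalChar.wc_normalizer_le hwc (T.isPGroup'.map _) ?_)
      exact fun q hq => ⟨⟨q, hQW hq⟩, hT (mem_subgroupOf.2 hq), rfl⟩
    have h1 := (LocalChar.resOf_sup_sylow W T).ge hw
    rw [← hK₁] at h1
    have hTK : (T : Subgroup W).map W.subtype ≤ normalizer (K₁ : Set G) := by
      rw [hK₁]; exact (map_subtype_le _).trans (LocalChar.le_normalizer_resOf W)
    rw [← SetLike.mem_coe, coe_mul_of_right_le_normalizer_left _ _ hTK] at h1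
    obtain ⟨x, hx, t, ht, rfl⟩ := h1
    rw [← LocalChar.conj_map_conj_map, LocalChar.conj_map_eq_of_mem (hTN ht)]
    rintro _ ⟨q, hq, rfl⟩
    have h2 := mul_mem (mem_sup_left (T := Q) (commutator_mem_commutator hx hq)) (mem_sup_right (S := ⁅K₁, Q⁆) hq)
    simpa [commutatorElement_def, mul_assoc] using h2
  have hQK : Q ≤ normalizer (K₁ : Set G) := hQHc.trans hKn
  have hcK : ⁅K₁, Q⁆ ≤ K₁ := le_normalizer_iff_commutator_le_left.mp hQK
  have hKres : (pResidual p ↥K₁).map K₁.subtype = K₁ := by rw [hK, LocalChar.resOf_resOf]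
  have e1 : ⁅K₁, Q⁆ = K₁ := by
    refine le_antisymm hcK ?_
    conv_lhs => rw [← hKres]
    refine LocalChar.resOf_le_of_le_sup hQp (normalizer_commutator_ge_right K₁ Q) ?_
    refine (hKM.trans hMW).trans ?_
    refine iSup_le fun g => ?_
    obtain ⟨k, hk, he⟩ := LocalChar.wc_conj_in hwc hQp le_sup_right g.2
    rw [he]
    exact hKQ k hk
  have hD' : ⁅K₁, H₂⁆ ≤ P := (commutator_mono (hKM.trans hMH) le_rfl).trans hD
  have hH1K : H₁ ≤ normalizer (K₁ : Set G) := hn₁.1.trans hKn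
  have e2 : ⁅K₁, H₁⁆ = K₁ := by
    refine le_antisymm (le_normalizer_iff_commutator_le_left.mp hH1K) ?_
    have hPN : P ≤ normalizer ((⁅K₁, H₁⁆ : Subgroup G) : Set G) :=
      LocalChar.le_normalizer_commutator_of_le ((CharP.pCoreOf_le Hc).trans hKn) hPH
    conv_lhs => rw [← hKres]
    refine LocalChar.resOf_le_of_le_sup hPp hPN ?_
    conv_lhs => rw [← e1]
    refine commutator_le.2 fun x hx q hq => ?_
    have hq' := hQHc hq
    rw [← hprod, ← SetLike.mem_coe, coe_mul_of_left_le_normalizer_right _ _ (hn₁.1.trans hn₂.2)] at hq'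
    obtain ⟨a, ha, b, hb, rfl⟩ := hq'
    rw [commutatorElement_mul_right_eq_mul_conj]
    have h1 := mul_mem (mem_sup_left (T := P) (commutator_mem_commutator hx ha))
      (mem_sup_right (S := ⁅K₁, H₁⁆) (LocalChar.conj_mem_of_mem_normalizer
        (CharP.le_normalizer_pCoreOf Hc (hn₁.1 ha)) (hD' (commutator_mem_commutator hx hb))))
    simpa [MulAut.conj_apply, mul_assoc] using h1
  refine ⟨⟨e1, e2, e2.ge.trans (commutator_mono (hKM.trans hMH) le_rfl), hKn⟩,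
    hK ▸ LocalChar.resOf_mono (hMH.trans hn₁.1), hKM.trans hMH, fun h hh => ?_⟩
  have := hKQ h (mem_sup_left hh)
  rwa [e1] at this


/-- Let Q be a nontrivial p-subgroup of the finite group H that is a weakly closed subgroup, H° the weak closure of Q in H (generated by the conjugates of Q) and H_∘ = O^p(H°). Suppose H₁, H₂ are normal subgroups of H° with H° = H₁H₂ and [H₁, H₂] ≤ N_H(Q), and put Kᵢ = O^p of the weak closure of Q in HᵢQ. Then for i = 1, 2: Kᵢ = [Kᵢ, Q] = [Kᵢ, Hᵢ] ≤ Hᵢ′ and Kᵢ is normal in H°; H_∘ = K₁K₂; and [K₁, K₂] ≤ O_p(H°). -/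
theorem result {G : Type*} [Group G] [Finite G] {p : ℕ} [Fact p.Prime] (Q : Subgroup G) (hQp : IsPGroup p ↥Q) (hQ1 : Q ≠ ⊥) (hwc : Cfsg.IsWeaklyClosedSubgroup p Q) (Hc : Subgroup G) (hHc : Hc = Cfsg.weakClosure Q ⊤) (H₁ H₂ : Subgroup G) (hn₁ : H₁ ≤ Hc ∧ Hc ≤ Subgroup.normalizer ((H₁ : Subgroup G) : Set G)) (hn₂ : H₂ ≤ Hc ∧ Hc ≤ Subgroup.normalizer ((H₂ : Subgroup G) : Set G)) (hprod : H₁ ⊔ H₂ = Hc) (hcomm : ⁅H₁, H₂⁆ ≤ Subgroup.normalizer ((Q : Subgroup G) : Set G)) (K₁ K₂ : Subgroup G) (hK₁ : K₁ = ((Cfsg.pResidual p ↥(Cfsg.weakClosure Q (H₁ ⊔ Q))).map ((Cfsg.weakClosure Q (H₁ ⊔ Q))).subtype)) (hK₂ : K₂ = ((Cfsg.pResidual p ↥(Cfsg.weakClosure Q (H₂ ⊔ Q))).map ((Cfsg.weakClosure Q (H₂ ⊔ Q))).subtype)) : (⁅K₁, Q⁆ = K₁ ∧ ⁅K₁, H₁⁆ = K₁ ∧ K₁ ≤ ⁅H₁, H₁⁆ ∧ Hc ≤ Subgroup.normalizer ((K₁ : Subgroup G) : Set G)) ∧ (⁅K₂, Q⁆ = K₂ ∧ ⁅K₂, H₂⁆ = K₂ ∧ K₂ ≤ ⁅H₂, H₂⁆ ∧ Hc ≤ Subgroup.normalizer ((K₂ : Subgroup G) : Set G)) ∧ K₁ ⊔ K₂ = ((Cfsg.pResidual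 p ↥Hc).map (Hc).subtype) ∧ ⁅K₁, K₂⁆ ≤ (Cfsg.pCoreOf p Hc) := by
  classical
  have hQHc : Q ≤ Hc := by
    rw [hHc]
    refine le_trans ?_ (le_iSup (fun g : {g : G // Q.map (MulAut.conj g).toMonoidHom ≤ ⊤} =>
      Q.map (MulAut.conj (g : G)).toMonoidHom) ⟨1, le_top⟩)
    rw [Lib.LocalChar.conj_map_one]
  set P := Cfsg.pCoreOf p Hc with hP
  have hPn : Hc ≤ Subgroup.normalizer (P : Set G) := Lib.CharP.le_normalizer_pCoreOf Hc
  have hPQ : P ≤ Subgroup.normalizer (Q : Set G) :=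
    le_sup_left.trans (Subgroup.le_normalizer.trans (Lib.LocalChar.wc_normalizer_le hwc
      ((Lib.CharP.pCoreOf_isPGroup Hc).to_sup_of_normal_left' hQp (hQHc.trans hPn)) le_sup_right))
  have hD : ⁅H₁, H₂⁆ ≤ P := by
    have hsurj := QuotientGroup.mk'_surjective (Cfsg.pCore p ↥Hc)
    set f := QuotientGroup.mk' (Cfsg.pCore p ↥Hc) with hf
    haveI : (H₁.subgroupOf Hc).Normal := (Subgroup.normal_subgroupOf_iff_le_normalizer hn₁.1).2 hn₁.2
    haveI : (H₂.subgroupOf Hc).Normal := (Subgroup.normal_subgroupOf_iff_le_normalizer hn₂.1).2 hn₂.2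
    haveI : ((H₁.subgroupOf Hc).map f).Normal := Subgroup.Normal.map inferInstance f hsurj
    haveI : ((H₂.subgroupOf Hc).map f).Normal := Subgroup.Normal.map inferInstance f hsurj
    have hkey := commutator_eq_bot (p := p) (X := ↥Hc ⧸ Cfsg.pCore p ↥Hc)
      Lib.PSolvable.pCore_quotient_eq_bot (Q := (Q.subgroupOf Hc).map f)
      (H₁ := (H₁.subgroupOf Hc).map f) (H₂ := (H₂.subgroupOf Hc).map f) (hQp.comap_subtype.map f) ?_ ?_ ?_
    · intro x hx
      have hxH : x ∈ Hc := (Subgroup.commutator_mono hn₁.1 hn₂.1).trans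
        (Subgroup.le_normalizer_iff_commutator_le_left.mp Subgroup.le_normalizer) hx
      rw [← Subgroup.map_commutator, Subgroup.map_eq_bot_iff, QuotientGroup.ker_mk'] at hkey
      rw [← Subgroup.map_subgroupOf_eq_of_le hn₁.1, ← Subgroup.map_subgroupOf_eq_of_le hn₂.1,
        ← Subgroup.map_commutator] at hx
      exact Subgroup.map_mono hkey hx
    · rw [Subgroup.coe_map, ← Subgroup.map_normalClosure _ f hsurj]
      refine top_le_iff.1 ?_
      rw [← Subgroup.map_top_of_surjective f hsurj]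
      refine Subgroup.map_mono ?_
      have h1 : Hc ≤ (Subgroup.normalClosure ((Q.subgroupOf Hc : Subgroup ↥Hc) : Set ↥Hc)).map Hc.subtype := by
        conv_lhs => rw [hHc]
        refine iSup_le fun g => ?_
        have hg : Q.map (MulAut.conj (g : G)).toMonoidHom ≤ Hc := by
          rw [hHc]
          exact le_iSup (fun g : {g : G // Q.map (MulAut.conj g).toMonoidHom ≤ ⊤} =>
            Q.map (MulAut.conj (g : G)).toMonoidHom) g
        obtain ⟨k, hk, he⟩ := Lib.LocalChar.wc_conj_in hwc hQp hQHc hg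
        rw [he]
        rintro _ ⟨q, hq, rfl⟩
        exact ⟨⟨k, hk⟩ * ⟨q, hQHc hq⟩ * ⟨k, hk⟩⁻¹,
          Subgroup.normalClosure_normal.conj_mem _ (Subgroup.subset_normalClosure (Subgroup.mem_subgroupOf.2 hq)) _, rfl⟩
      intro x _
      obtain ⟨y, hy, he⟩ := h1 x.2
      rwa [← Subtype.ext he]
    · rw [← Subgroup.map_sup, ← Subgroup.subgroupOf_sup hn₁.1 hn₂.1, hprod, Subgroup.subgroupOf_self,
        Subgroup.map_top_of_surjective f hsurj]
    · rw [← Subgroup.map_commutator]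
      refine (Subgroup.map_mono ?_).trans (Subgroup.le_normalizer_map f)
      intro x hx
      have hx' : (x : G) ∈ ⁅H₁, H₂⁆ := by
        have := Subgroup.mem_map_of_mem Hc.subtype hx
        rwa [Subgroup.map_commutator, Subgroup.map_subgroupOf_eq_of_le hn₁.1,
          Subgroup.map_subgroupOf_eq_of_le hn₂.1] at this
      refine Subgroup.mem_normalizer_iff.2 fun q => ?_
      simpa [Subgroup.mem_subgroupOf] using Subgroup.mem_normalizer_iff.1 (hcomm hx') (q : G)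
  obtain ⟨r₁, hK₁le, hK₁H, hW₁⟩ := half hQp hwc hQHc hn₁ hn₂ hprod hD hPQ K₁ hK₁
  obtain ⟨r₂, hK₂le, hK₂H, hW₂⟩ := half hQp hwc hQHc hn₂ hn₁ (by rw [sup_comm, hprod])
    (by rw [Subgroup.commutator_comm]; exact hD) hPQ K₂ hK₂
  refine ⟨r₁, r₂, le_antisymm (sup_le hK₁le hK₂le) ?_, (Subgroup.commutator_mono hK₁H hK₂H).trans hD⟩
  set N := K₁ ⊔ K₂ with hN
  set Z := N ⊔ (Q ⊔ P) with hZ
  have hQPp : IsPGroup p ↥(Q ⊔ P : Subgroup G) :=
    hQp.to_sup_of_normal_right' (Lib.CharP.pCoreOf_isPGroup Hc) (hQHc.trans hPn)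
  have hQPN : Q ⊔ P ≤ Subgroup.normalizer (N : Set G) := by
    intro x hx
    have hxH : x ∈ Hc := sup_le hQHc (Lib.CharP.pCoreOf_le Hc) hx
    refine Lib.LocalChar.mem_normalizer_of_conj_map_le ?_
    rw [hN, Subgroup.map_sup]
    refine sup_le ?_ ?_
    · rintro _ ⟨y, hy, rfl⟩
      exact Subgroup.mem_sup_left (Lib.LocalChar.conj_mem_of_mem_normalizer (r₁.2.2.2 hxH) hy)
    · rintro _ ⟨y, hy, rfl⟩
      exact Subgroup.mem_sup_right (Lib.LocalChar.conj_mem_of_mem_normalizer (r₂.2.2.2 hxH) hy)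
  have hHZ : Hc ≤ Subgroup.normalizer (Z : Set G) := by
    conv_lhs => rw [← hprod]
    have key : ∀ h ∈ Hc, Q.map (MulAut.conj h).toMonoidHom ≤ N ⊔ Q → h ∈ Subgroup.normalizer (Z : Set G) := by
      intro h hh hQh
      refine Lib.LocalChar.mem_normalizer_of_conj_map_le ?_
      rw [hZ, hN, Subgroup.map_sup, Subgroup.map_sup, Subgroup.map_sup]
      refine sup_le (sup_le ?_ ?_) (sup_le ?_ ?_)
      · rw [Lib.LocalChar.conj_map_eq_of_mem (r₁.2.2.2 hh)]; exact le_sup_left.trans le_sup_left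
      · rw [Lib.LocalChar.conj_map_eq_of_mem (r₂.2.2.2 hh)]; exact le_sup_right.trans le_sup_left
      · exact hQh.trans (sup_le_sup_left le_sup_left _)
      · rw [Lib.LocalChar.conj_map_eq_of_mem (hPn hh)]; exact le_sup_right.trans le_sup_right
    exact sup_le (fun h hh => key h (hn₁.1 hh) ((hW₁ h hh).trans (sup_le_sup_right le_sup_left _)))
      (fun h hh => key h (hn₂.1 hh) ((hW₂ h hh).trans (sup_le_sup_right le_sup_right _)))
  have hHcZ : Hc ≤ Z := by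
    conv_lhs => rw [hHc]
    refine iSup_le fun g => ?_
    have hg : Q.map (MulAut.conj (g : G)).toMonoidHom ≤ Hc := by
      rw [hHc]
      exact le_iSup (fun g : {g : G // Q.map (MulAut.conj g).toMonoidHom ≤ ⊤} =>
        Q.map (MulAut.conj (g : G)).toMonoidHom) g
    obtain ⟨k, hk, he⟩ := Lib.LocalChar.wc_conj_in hwc hQp hQHc hg
    rw [he]
    exact (Subgroup.map_mono (le_sup_left.trans le_sup_right)).trans
      (Lib.LocalChar.conj_map_eq_of_mem (hHZ hk)).le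
  exact Lib.LocalChar.resOf_le_of_le_sup hQPp hQPN hHcZ

end Cfsg.Agent.S2859
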