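import Cfsg.Statements.S2860
import Mathlib
import Cfsg.Agent.S2843
import Cfsg.Agent.S2855
import Cfsg.Agent.Lib.LocalChar.WeaklyClosed
import Cfsg.Agent.Lib.Components.Quasisimple

set_option autoImplicit false
open Cfsg

namespace Cfsg.Agent.S2860
open Subgroup Cfsg.Agent.Lib
open scoped commutatorElement

/-- A perfect central extension of a quasisimple group is quasisimple. -/
theorem quasisimple_of_central_ext {X A : Type*} [Group X] [Group A] [Group.IsPerfect X]
    (hA : IsQuasisimple A) {f : X →* A} (hf : Function.Surjective f) (hk : f.ker ≤ center X) :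
    IsQuasisimple X := by
  haveI := Components.quasisimple_nontrivial hA
  haveI : Nontrivial X := hf.nontrivial
  refine Components.quasisimple_of_forall_normal inferInstance fun N hN hne => ?_
  haveI := hN
  haveI : (N.map f).Normal := hN.map f hf
  rcases Components.quasisimple_normal_eq_top_or_le_center hA (N.map f) with h | h
  · exfalso
    apply hne
    apply Components.eq_top_of_sup_center_eq_top
    have h1 := congrArg (comap f) h
    rw [comap_map_eq, comap_top] at h1
    exact top_le_iff.1 (h1.ge.trans (sup_le_sup_left hk _))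
  · have h1 : ⁅N, (⊤ : Subgroup X)⁆ ≤ center X := by
      refine le_trans ?_ hk
      rw [← Subgroup.map_eq_bot_iff, map_commutator, map_top_of_surjective f hf,
        commutator_eq_bot_iff_le_centralizer, coe_top, centralizer_univ]
      exact h
    have h2 : ⁅⁅N, (⊤ : Subgroup X)⁆, (⊤ : Subgroup X)⁆ = ⊥ := by
      rw [commutator_eq_bot_iff_le_centralizer, coe_top, centralizer_univ]
      exact h1
    have h3 : ⁅⁅(⊤ : Subgroup X), (⊤ : Subgroup X)⁆, N⁆ = ⊥ := commutator_commutator_eq_bot_of_rotate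
      (by rw [commutator_comm (⊤ : Subgroup X) N]; exact h2) h2
    rw [← commutator_def, show commutator X = ⊤ from Group.IsPerfect.commutator_eq_top,
      commutator_eq_bot_iff_le_centralizer] at h3
    intro n hn
    rw [mem_center_iff]
    intro x
    exact (mem_centralizer_iff.1 (h3 (mem_top x)) n hn).symm

/-- In a group with trivial `p`-core whose `O^p` is quasisimple, a nontrivial `p`-subgroup
generates `O^p` in commutators. -/
theorem commutator_eq_residual {X : Type*} [Group X] [Finite X] {p : ℕ} [Fact p.Prime]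
    (hO : pCore p X = ⊥) (hA : IsQuasisimple ↥(pResidual p X)) {Y : Subgroup X} (hY : IsPGroup p Y)
    (hY1 : Y ≠ ⊥) : ⁅pResidual p X, Y⁆ = pResidual p X := by
  set A := pResidual p X with hAdef
  haveI hAn : A.Normal := by
    haveI := Transfer.pResidual_characteristic (G := X) (p := p)
    infer_instance
  haveI := hA.1
  set N := ⁅A, Y⁆ with hN
  have hNA : N ≤ A := commutator_le_left A Y
  haveI : (N.subgroupOf A).Normal :=
    (normal_subgroupOf_iff_le_normalizer hNA).2 (normalizer_commutator_ge_left A Y)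
  rcases Components.quasisimple_normal_eq_top_or_le_center hA (N.subgroupOf A) with h | h
  · exact le_antisymm hNA (subgroupOf_eq_top.1 h)
  exfalso
  have h1 : ⁅N, A⁆ = ⊥ := commutator_eq_bot_iff_le_centralizer.2 fun n hn =>
    mem_centralizer_iff.2 fun a ha =>
      congrArg Subtype.val (mem_center_iff.1 (h (show (⟨n, hNA hn⟩ : A) ∈ N.subgroupOf A from hn)) ⟨a, ha⟩)
  have h2 : ⁅A, Y⁆ = ⊥ := by
    have h3 : ⁅⁅A, A⁆, Y⁆ = ⊥ := commutator_commutator_eq_bot_of_rotate h1
      (by rw [commutator_comm Y A]; exact h1)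
    rwa [A.commutator_eq_self] at h3
  set K := centralizer (A : Set X) with hK
  haveI hKn : K.Normal := inferInstance
  have hYK : Y ≤ K := le_centralizer_iff.1 (commutator_eq_bot_iff_le_centralizer.1 h2)
  obtain ⟨P⟩ : Nonempty (Sylow p K) := inferInstance
  have hres : (pResidual p ↥K).map K.subtype ≤ A :=
    LocalChar.resOf_le_iff.2 fun x _ hc => Transfer.mem_pResidual_of_coprime hc
  set P' := (P : Subgroup K).map K.subtype with hP'
  have hPK : P' ≤ K := map_subtype_le _
  have hnorm : K ≤ normalizer (P' : Set X) := by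
    refine (LocalChar.resOf_sup_sylow K P).ge.trans (sup_le ?_ Subgroup.le_normalizer)
    refine le_trans ?_ (centralizer_le_normalizer _)
    exact hres.trans (le_centralizer_iff.1 hPK)
  have hPbot : P' = ⊥ := by
    have hsub : P'.IsSubnormal := IsSubnormal.step _ K hPK hKn.isSubnormal
      ((normal_subgroupOf_iff_le_normalizer hPK).2 hnorm)
    exact le_bot_iff.1 (hO ▸ LocalChar.le_pCore_of_isSubnormal hsub (P.isPGroup'.map _))
  rw [hP', map_eq_bot_iff_of_injective _ K.subtype_injective] at hPbot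
  apply hY1
  obtain ⟨R, hR⟩ := (hY.comap_subtype (K := K)).exists_le_sylow
  have hRbot : (R : Subgroup K) = ⊥ := by
    rw [← Subgroup.card_eq_one, R.card_eq_multiplicity, ← P.card_eq_multiplicity, hPbot, card_bot]
  have hR' : Y.subgroupOf K = ⊥ := le_bot_iff.1 (hRbot ▸ hR)
  rw [subgroupOf_eq_bot] at hR'
  exact hR'.eq_bot_of_le hYK


/-- Let Q be a nontrivial large p-subgroup of the finite group H, U a nontrivial elementary abelian p-subgroup of H, and Q ≤ E ≤ N_H(U) with Q not normal in E. Suppose O_p(E/C_E(U)) = 1 and O^p(E)·C_E(U)/C_E(U) is quasisimple. Let E° be the weak closure of Q in E (generated by the conjugates of Q inside E) and E_∘ = O^p(E°). Then O^p(E)·C_E(U) = E_∘·C_E(U); E_∘ is perfect and equals O^p(E_∘); E_∘/C_{E_∘}(U) and E_∘/O_p(E_∘) are quasisimple; and E_∘ = [E_∘, Y] for every p-subgroup Y of E not centralizing U. -/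
theorem result {G : Type*} [Group G] [Finite G] {p : ℕ} [Fact p.Prime] (Q : Subgroup G) (hQp : IsPGroup p ↥Q) (hQ1 : Q ≠ ⊥) (hQ : Cfsg.IsLarge Q) (U : Subgroup G) (hU : Cfsg.IsElementaryAbelian p U) (hU1 : U ≠ ⊥) (E : Subgroup G) (hQE : Q ≤ E) (hEU : E ≤ Subgroup.normalizer ((U : Subgroup G) : Set G)) (hQn : ¬ E ≤ Subgroup.normalizer ((Q : Subgroup G) : Set G)) [hn : ((Subgroup.centralizer ((U : Subgroup G) : Set G)).subgroupOf E).Normal] (hred : Cfsg.pCore p (↥E ⧸ (Subgroup.centralizer ((U : Subgroup G) : Set G)).subgroupOf E) = ⊥) (hqs : Cfsg.IsQuasisimple ↥(((Cfsg.pResidual p ↥E) ⊔ (Subgroup.centralizer ((U : Subgroup G) : Set G)).subgroupOf E).map (QuotientGroup.mk' ((Subgroup.centralizer ((U : Subgroup G) : Set G)).subgroupOf E)))) (Er : Subgroup G) (hEr : Er = ((Cfsg.pResidual p ↥(Cfsg.weakClosure Q E)).map ((Cfsg.weakClosure Q E)).subtype)) [hn2 : ((Subgroup.centralizer ((U : Subgroup G) : Set G)).subgroupOf Er).Normal] : ((Cfsg.pResidual p ↥E).map (E).subtype) ⊔ (E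 ⊓ Subgroup.centralizer ((U : Subgroup G) : Set G)) = Er ⊔ (E ⊓ Subgroup.centralizer ((U : Subgroup G) : Set G)) ∧ ⁅Er, Er⁆ = Er ∧ ((Cfsg.pResidual p ↥Er).map (Er).subtype) = Er ∧ Cfsg.IsQuasisimple (↥Er ⧸ (Subgroup.centralizer ((U : Subgroup G) : Set G)).subgroupOf Er) ∧ Cfsg.IsQuasisimple (↥Er ⧸ Cfsg.pCore p ↥Er) ∧ ∀ Y : Subgroup G, Y ≤ E → IsPGroup p ↥Y → ¬ Y ≤ Subgroup.centralizer ((U : Subgroup G) : Set G) → ⁅Er, Y⁆ = Er := by
  classical
  set CG := Subgroup.centralizer ((U : Subgroup G) : Set G) with hCG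
  set Cs := CG.subgroupOf E with hCs
  set π := QuotientGroup.mk' Cs with hπ
  have hπs : Function.Surjective π := QuotientGroup.mk'_surjective Cs
  set Ā := Cfsg.pResidual p (↥E ⧸ Cs) with hĀ
  have hAimg : (Cfsg.pResidual p ↥E).map π = Ā := Lib.LocalChar.map_pResidual_eq hπs
  have hAq : Cfsg.IsQuasisimple ↥Ā := by
    rw [Subgroup.map_sup, (Subgroup.map_eq_bot_iff Cs).2 (QuotientGroup.ker_mk' Cs).ge, sup_bot_eq, hAimg] at hqs
    exact hqs
  haveI := hAq.1
  haveI hĀn : Ā.Normal := by
    haveI := Lib.Transfer.pResidual_characteristic (G := ↥E ⧸ Cs) (p := p)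
    rw [hĀ]; infer_instance
  clear_value Ā
  have hwcQ : Cfsg.IsWeaklyClosedSubgroup p Q := Lib.LocalChar.large_isWeaklyClosed hQp hQ1 hQ
  have hUp : IsPGroup p ↥U := fun a => ⟨1, Subtype.ext (by simpa using hU.2 a a.2)⟩
  set W := Cfsg.weakClosure Q E with hW
  set P := Cfsg.pCoreOf p W with hP
  have hWE : W ≤ E := iSup_le fun g => g.2
  have hQW : Q ≤ W := by
    refine le_trans ?_ (le_iSup (fun g : {g : G // Q.map (MulAut.conj g).toMonoidHom ≤ E} =>
      Q.map (MulAut.conj (g : G)).toMonoidHom) ⟨1, by rw [Lib.LocalChar.conj_map_one]; exact hQE⟩)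
    rw [Lib.LocalChar.conj_map_one]
  have hWn : E ≤ Subgroup.normalizer (W : Set G) := by
    intro e he
    refine Lib.LocalChar.mem_normalizer_of_conj_map_le ?_
    rw [hW, Cfsg.weakClosure, Subgroup.map_iSup]
    refine iSup_le fun g => ?_
    rw [Lib.LocalChar.conj_map_conj_map]
    refine le_iSup (fun g : {g : G // Q.map (MulAut.conj g).toMonoidHom ≤ E} =>
      Q.map (MulAut.conj (g : G)).toMonoidHom) ⟨e * g, ?_⟩
    rw [← Lib.LocalChar.conj_map_conj_map]
    exact (Subgroup.map_mono g.2).trans (Lib.LocalChar.conj_map_eq_of_mem (Subgroup.le_normalizer he)).le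
  obtain ⟨-, hWC, -⟩ := Cfsg.Agent.S2843.result Q hQp hQ1 hQ E hQE U hUp hU1 hEU
  have hCQ : CG ≤ Subgroup.normalizer (Q : Set G) :=
    Lib.LocalChar.large_centralizer_le hQp hQ hUp hU1 (hQE.trans hEU)
  have hWgen : ∀ (N : Subgroup G), Q ≤ N → W ≤ Subgroup.normalizer (N : Set G) → W ≤ N := by
    intro N hQN hn
    conv_lhs => rw [hW]
    refine iSup_le fun g => ?_
    have hgW : Q.map (MulAut.conj (g : G)).toMonoidHom ≤ W :=
      le_iSup (fun g : {g : G // Q.map (MulAut.conj g).toMonoidHom ≤ E} =>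
        Q.map (MulAut.conj (g : G)).toMonoidHom) g
    obtain ⟨k, hk, he⟩ := Lib.LocalChar.wc_conj_in hwcQ hQp hQW hgW
    rw [he]
    exact (Subgroup.map_mono hQN).trans (Lib.LocalChar.conj_map_eq_of_mem (hn hk)).le
  have hQC : ¬ Q ≤ CG := by
    intro hQC
    apply hQn
    intro e he
    have hC : Q.map (MulAut.conj e).toMonoidHom ≤ CG := by
      rintro _ ⟨q, hq, rfl⟩
      exact Lib.LocalChar.conj_mem_of_mem_normalizer
        (Lib.CharP.le_normalizer_centralizer hEU he) (hQC hq)
    obtain ⟨k, hk, he'⟩ := Lib.LocalChar.wc_conj_in hwcQ hQp hQC hC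
    rw [Lib.LocalChar.mem_normalizer_iff_conj_map, he']
    exact Lib.LocalChar.conj_map_eq_of_mem (hCQ hk)
  have hYbar : ∀ Y : Subgroup G, Y ≤ E → ¬ Y ≤ CG → (Y.subgroupOf E).map π ≠ ⊥ := by
    intro Y hYE hY h
    rw [Subgroup.map_eq_bot_iff, QuotientGroup.ker_mk'] at h
    exact hY fun y hy => h (show (⟨y, hYE hy⟩ : E) ∈ Y.subgroupOf E from hy)
  -- the residual of the weak closure maps onto `Ā`
  have hErW : Er ≤ W := hEr ▸ Subgroup.map_subtype_le _
  have hErE : Er ≤ E := hErW.trans hWE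
  have hres : ((Cfsg.pResidual p ↥Er).map Er.subtype) = Er := by
    have h : ∀ X : Subgroup G, X = Er → ((Cfsg.pResidual p ↥X).map X.subtype) = Er := by
      rintro X rfl
      conv_rhs => rw [hEr]
      subst hEr
      exact Lib.LocalChar.resOf_resOf W
    exact h Er rfl
  have hErA : (Er.subgroupOf E).map π = Ā := by
    refine le_antisymm ?_ ?_
    · rw [← hAimg]
      refine Subgroup.map_mono fun x hx => ?_
      have hx' : (x : G) ∈ (Cfsg.pResidual p ↥E).map E.subtype := by
        refine Lib.LocalChar.resOf_mono hWE ?_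
        rw [← hEr]; exact hx
      obtain ⟨y, hy, he⟩ := hx'
      rwa [← Subtype.ext (show (y : G) = x from he)]
    · have hQbar : ⁅Ā, (Q.subgroupOf E).map π⁆ = Ā :=
        hĀ ▸ commutator_eq_residual (Y := (Q.subgroupOf E).map π) hred (hĀ ▸ hAq)
          (IsPGroup.map (hQp.comap_subtype (K := E)) π) (hYbar Q hQE hQC)
      haveI : (W.subgroupOf E).Normal := (Subgroup.normal_subgroupOf_iff_le_normalizer hWE).2 hWn
      haveI : ((W.subgroupOf E).map π).Normal := Subgroup.Normal.map inferInstance π hπs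
      have hle : (Q.subgroupOf E).map π ≤ (W.subgroupOf E).map π :=
        Subgroup.map_mono (Subgroup.comap_mono hQW)
      have hstep : ⁅(Q.subgroupOf E).map π, Ā⁆ ≤ (W.subgroupOf E).map π :=
        le_trans (Subgroup.commutator_mono hle le_rfl)
          (Subgroup.commutator_le_left ((W.subgroupOf E).map π) Ā)
      have hAW : Ā ≤ (W.subgroupOf E).map π := by
        rw [Subgroup.commutator_comm, hQbar] at hstep
        exact hstep
      rw [hĀ] at hAW ⊢
      refine Lib.Transfer.pResidual_le_iff.2 fun y hy => ?_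
      obtain ⟨w, hw, rfl⟩ := hAW (Lib.Transfer.mem_pResidual_of_coprime hy)
      obtain ⟨k, hk⟩ := Lib.Transfer.exists_pow_coprime (p := p) w
      refine Lib.LocalChar.mem_of_pow_mem_of_coprime (k := k) ?_ hy
      refine ⟨w ^ p ^ k, ?_, map_pow π w _⟩
      show ((w ^ p ^ k : ↥E) : G) ∈ Er
      rw [hEr]
      exact Lib.LocalChar.mem_resOf (W.pow_mem hw _) (by rwa [Subgroup.orderOf_coe])
  -- decomposition modulo the centralizer
  have hdec : ∀ M : Subgroup G, M ≤ Er → Ā ≤ (M.subgroupOf E).map π → Er ≤ M ⊔ (Er ⊓ CG) := by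
    intro M hM hAM x hx
    have h1 : π ⟨x, hErE hx⟩ ∈ (M.subgroupOf E).map π :=
      hAM (hErA ▸ Subgroup.mem_map_of_mem π (show (⟨x, hErE hx⟩ : E) ∈ Er.subgroupOf E from hx))
    obtain ⟨m, hm, he⟩ := h1
    have h2 : (m : G)⁻¹ * x ∈ CG := Subgroup.mem_subgroupOf.1 (QuotientGroup.eq.1 he)
    have h3 := mul_mem (Subgroup.mem_sup_left (T := Er ⊓ CG) hm)
      (Subgroup.mem_sup_right (S := M) (Subgroup.mem_inf.2 ⟨mul_mem (inv_mem (hM hm)) hx, h2⟩))
    simpa using h3
  set PE := Cfsg.pCoreOf p Er with hPE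
  have hErP : W ≤ Subgroup.normalizer (Er : Set G) := hEr ▸ Lib.LocalChar.le_normalizer_resOf W
  have hPEP : PE ≤ P :=
    Lib.CharP.le_pCoreOf ((Lib.CharP.pCoreOf_le Er).trans hErW) (Lib.CharP.pCoreOf_isPGroup Er)
      (hErP.trans (Lib.LocalChar.normalizer_le_normalizer_pCoreOf Er))
  have hPW : W ≤ Subgroup.normalizer (P : Set G) := Lib.CharP.le_normalizer_pCoreOf W
  have hPEr : P ⊓ Er ≤ PE := Lib.CharP.le_pCoreOf inf_le_right
    ((Lib.CharP.pCoreOf_isPGroup W).to_le inf_le_left)
    (Lib.LocalChar.le_normalizer_inf_of_le (hErW.trans hPW) Subgroup.le_normalizer)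
  have hPEn : Er ≤ Subgroup.normalizer (PE : Set G) := Lib.CharP.le_normalizer_pCoreOf Er
  have hDW : ∀ d ∈ Er ⊓ CG, ∀ w ∈ W, ⁅w, d⁆ ∈ P := fun d hd w hw =>
    hWC (Subgroup.commutator_mem_commutator hw hd.2)
  -- perfect
  set Er' := ⁅Er, Er⁆ with hEr'
  have hEr'le : Er' ≤ Er := Subgroup.le_normalizer_iff_commutator_le_left.mp Subgroup.le_normalizer
  have hEr'A : Ā ≤ (Er'.subgroupOf E).map π := by
    have h1 : Er'.subgroupOf E = ⁅Er.subgroupOf E, Er.subgroupOf E⁆ := by
      apply Subgroup.map_injective E.subtype_injective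
      rw [Subgroup.map_commutator, Subgroup.map_subgroupOf_eq_of_le hErE,
        Subgroup.map_subgroupOf_eq_of_le (hEr'le.trans hErE)]
    rw [h1, Subgroup.map_commutator, hErA, Ā.commutator_eq_self]
  have hperf : Er' = Er := by
    refine le_antisymm hEr'le ?_
    set N := Er' ⊔ P with hN
    have hPEr' : W ≤ Subgroup.normalizer (Er' : Set G) :=
      Lib.LocalChar.le_normalizer_commutator_of_le hErP hErP
    have hWN : W ≤ Subgroup.normalizer (N : Set G) := by
      intro w hw
      refine Lib.LocalChar.mem_normalizer_of_conj_map_le ?_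
      rw [hN, Subgroup.map_sup, Lib.LocalChar.conj_map_eq_of_mem (hPEr' hw),
        Lib.LocalChar.conj_map_eq_of_mem (hPW hw)]
    have hcen : ∀ e ∈ Er, ∀ w ∈ W, ⁅w, e⁆ ∈ N := by
      intro e he w hw
      have h1 := hdec Er' hEr'le hEr'A he
      have hn : Er ⊓ CG ≤ Subgroup.normalizer (Er' : Set G) := (inf_le_left.trans hErW).trans hPEr'
      rw [← SetLike.mem_coe, Subgroup.coe_mul_of_right_le_normalizer_left _ _ hn] at h1
      obtain ⟨a, ha, d, hd, rfl⟩ := h1
      rw [commutatorElement_mul_right_eq_mul_conj]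
      have h2 : ⁅w, a⁆ ∈ Er' := by
        rw [commutatorElement_def]
        exact Er'.mul_mem (Lib.LocalChar.conj_mem_of_mem_normalizer (hPEr' hw) ha) (Er'.inv_mem ha)
      have h3 := N.mul_mem (N.mul_mem (Subgroup.mem_sup_left h2) (Subgroup.mem_sup_left ha))
        (N.mul_mem (Subgroup.mem_sup_right (hDW d hd w hw)) (N.inv_mem (Subgroup.mem_sup_left ha)))
      simpa [MulAut.conj_apply, mul_assoc] using h3
    obtain ⟨T, hT⟩ := (hQp.comap_subtype (K := W)).exists_le_sylow
    set T' := (T : Subgroup W).map W.subtype with hT'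
    have hQT : Q ≤ T' := fun q hq => ⟨⟨q, hQW hq⟩, hT (Subgroup.mem_subgroupOf.2 hq), rfl⟩
    have hT'W : T' ≤ W := Subgroup.map_subtype_le _
    have hWNT : W ≤ Subgroup.normalizer ((N ⊔ T' : Subgroup G) : Set G) := by
      refine (Lib.LocalChar.resOf_sup_sylow W T).ge.trans (sup_le ?_ (le_sup_right.trans Subgroup.le_normalizer))
      rw [← hEr]
      intro e he
      refine Lib.LocalChar.mem_normalizer_of_conj_map_le ?_
      rw [Subgroup.map_sup]
      refine sup_le ((Lib.LocalChar.conj_map_eq_of_mem (hWN (hErW he))).le.trans le_sup_left) ?_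
      rintro _ ⟨t, ht, rfl⟩
      have h2 := mul_mem (Subgroup.mem_sup_left (T := T') (N.inv_mem (hcen e he t (hT'W ht))))
        (Subgroup.mem_sup_right (S := N) ht)
      simpa [commutatorElement_def, mul_assoc] using h2
    have hWle : W ≤ N ⊔ T' := hWgen _ (hQT.trans le_sup_right) hWNT
    have h4 : Er ≤ N := by
      rw [hEr]
      exact Lib.LocalChar.resOf_le_of_le_sup (T.isPGroup'.map _) (hT'W.trans hWN) hWle
    rw [← hres]
    exact Lib.LocalChar.resOf_le_of_le_sup (Lib.CharP.pCoreOf_isPGroup W)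
      ((Lib.CharP.pCoreOf_le W).trans hPEr') h4
  -- the map onto `Ā`
  set f : ↥Er →* ↥E ⧸ Cs := π.comp (Subgroup.inclusion hErE) with hf
  have hfr : f.range = Ā := by
    rw [hf, MonoidHom.range_comp, Subgroup.inclusion_range, hErA]
  have hfk : f.ker = CG.subgroupOf Er := by
    ext x
    rw [MonoidHom.mem_ker, hf, MonoidHom.comp_apply, hπ, QuotientGroup.mk'_apply, QuotientGroup.eq_one_iff]
    rfl
  refine ⟨?_, hperf, hres, ?_, ?_, ?_⟩
  · refine le_antisymm (sup_le ?_ le_sup_right) (sup_le (le_sup_left.trans' ?_) le_sup_right)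
    · rintro _ ⟨x, hx, rfl⟩
      obtain ⟨y, hy, he⟩ := hErA.ge (hAimg ▸ Subgroup.mem_map_of_mem π hx)
      have h2 : (y : G)⁻¹ * (x : G) ∈ CG := Subgroup.mem_subgroupOf.1 (QuotientGroup.eq.1 he)
      have h3 := mul_mem (Subgroup.mem_sup_left (T := E ⊓ CG) (show (y : G) ∈ Er from hy))
        (Subgroup.mem_sup_right (S := Er) (Subgroup.mem_inf.2 ⟨mul_mem (inv_mem y.2) x.2, h2⟩))
      simpa using h3
    · rw [hEr]; exact Lib.LocalChar.resOf_mono hWE
  · exact (Lib.Components.quasisimple_congr ((QuotientGroup.quotientMulEquivOfEq hfk.symm).trans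
      ((QuotientGroup.quotientKerEquivRange f).trans (MulEquiv.subgroupCongr hfr)))).2 hAq
  · haveI : Group.IsPerfect ↥Er := ⟨by
      apply Subgroup.map_injective Er.subtype_injective
      rw [Subgroup.map_subtype_commutator, ← MonoidHom.range_eq_map, Subgroup.range_subtype]
      exact hperf⟩
    haveI : Group.IsPerfect (↥Er ⧸ Cfsg.pCore p ↥Er) :=
      Group.IsPerfect.ofSurjective (f := QuotientGroup.mk' (Cfsg.pCore p ↥Er)) (QuotientGroup.mk'_surjective _)
    set g : ↥Er →* ↥Ā := (MulEquiv.subgroupCongr hfr).toMonoidHom.comp f.rangeRestrict with hg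
    have hgs : Function.Surjective g :=
      (MulEquiv.subgroupCongr hfr).surjective.comp f.rangeRestrict_surjective
    have hgk : g.ker = CG.subgroupOf Er := by
      ext x
      rw [← hfk, MonoidHom.mem_ker, MonoidHom.mem_ker]
      constructor
      · intro hx
        exact congrArg Subtype.val hx
      · intro hx
        exact Subtype.ext hx
    have hle : Cfsg.pCore p ↥Er ≤ g.ker := by
      intro x hx
      have h1 : g x ∈ Cfsg.pCore p ↥Ā := Lib.PSolvable.map_pCore_le hgs ⟨x, hx, rfl⟩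
      haveI := Lib.Transfer.pResidual_characteristic (G := ↥E ⧸ Cs) (p := p)
      have h2 : ((g x : ↥Ā) : ↥E ⧸ Cs) ∈ Cfsg.pCore p (↥E ⧸ Cs) :=
        Lib.LocalChar.pCoreOf_le_pCore_of_isSubnormal (K := Ā) (inferInstance : Ā.Normal).isSubnormal
          ⟨g x, h1, rfl⟩
      rw [hred, Subgroup.mem_bot] at h2
      exact Subtype.ext h2
    refine quasisimple_of_central_ext hAq (f := QuotientGroup.lift _ g hle) ?_ ?_
    · intro a
      obtain ⟨x, rfl⟩ := hgs a
      exact ⟨QuotientGroup.mk x, rfl⟩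
    · intro y hy
      obtain ⟨d, rfl⟩ := QuotientGroup.mk'_surjective _ y
      have hd : (d : G) ∈ CG := Subgroup.mem_subgroupOf.1 (hgk ▸ (show d ∈ g.ker from hy))
      rw [Subgroup.mem_center_iff]
      intro z
      obtain ⟨e, rfl⟩ := QuotientGroup.mk'_surjective _ z
      rw [← commutatorElement_eq_one_iff_mul_comm, ← map_commutatorElement, QuotientGroup.mk'_apply,
        QuotientGroup.eq_one_iff]
      obtain ⟨w, hw, hwe⟩ : ((⁅e, d⁆ : ↥Er) : G) ∈ PE :=
        hPEr ⟨hDW d ⟨d.2, hd⟩ e (hErW e.2), (⁅e, d⁆ : ↥Er).2⟩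
      rwa [← Subtype.ext (show (w : G) = _ from hwe)]
  · intro Y hYE hYp hY
    have hErn : E ≤ Subgroup.normalizer (Er : Set G) := by
      rw [hEr]; exact hWn.trans (Lib.LocalChar.normalizer_le_normalizer_resOf W)
    set N := ⁅Er, Y⁆ with hN
    have hNle : N ≤ Er := Subgroup.le_normalizer_iff_commutator_le_left.mp (hYE.trans hErn)
    have hNn : Er ≤ Subgroup.normalizer (N : Set G) := Subgroup.normalizer_commutator_ge_left Er Y
    have hAN : Ā ≤ (N.subgroupOf E).map π := by
      have h1 : ⁅Ā, (Y.subgroupOf E).map π⁆ = Ā :=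
        hĀ ▸ commutator_eq_residual (Y := (Y.subgroupOf E).map π) hred (hĀ ▸ hAq)
          (IsPGroup.map (hYp.comap_subtype (K := E)) π) (hYbar Y hYE hY)
      rw [← hErA, ← Subgroup.map_commutator] at h1
      rw [← hErA, ← h1]
      refine Subgroup.map_mono fun x hx => ?_
      have h2 := Subgroup.mem_map_of_mem E.subtype hx
      have e1 : (Er.subgroupOf E).map E.subtype = Er := Subgroup.map_subgroupOf_eq_of_le hErE
      have e2 : (Y.subgroupOf E).map E.subtype = Y := Subgroup.map_subgroupOf_eq_of_le hYE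
      rw [Subgroup.map_commutator, e1] at h2
      exact (Subgroup.commutator_mono le_rfl e2.le) h2
    refine le_antisymm hNle ?_
    have hsup : Er ≤ N ⊔ PE := by
      conv_lhs => rw [← hperf]
      refine Subgroup.commutator_le.2 fun a ha b hb => ?_
      have hnorm : Er ⊓ CG ≤ Subgroup.normalizer (N : Set G) := inf_le_left.trans hNn
      have hM : Er ≤ Subgroup.normalizer ((N ⊔ PE : Subgroup G) : Set G) := by
        intro w hw
        refine Lib.LocalChar.mem_normalizer_of_conj_map_le ?_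
        rw [Subgroup.map_sup, Lib.LocalChar.conj_map_eq_of_mem (hNn hw),
          Lib.LocalChar.conj_map_eq_of_mem (hPEn hw)]
      have hz : ∀ d ∈ Er ⊓ CG, ∀ w ∈ Er, ⁅w, d⁆ ∈ N ⊔ PE := fun d hd w hw =>
        Subgroup.mem_sup_right (hPEr ⟨hDW d hd w (hErW hw),
          Subgroup.le_normalizer_iff_commutator_le_left.mp Subgroup.le_normalizer
            (Subgroup.commutator_mem_commutator hw hd.1)⟩)
      have h1 := hdec N hNle hAN hb
      rw [← SetLike.mem_coe, Subgroup.coe_mul_of_right_le_normalizer_left _ _ hnorm] at h1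
      obtain ⟨n, hn, d, hd, rfl⟩ := h1
      rw [commutatorElement_mul_right_eq_mul_conj]
      have h2 : ⁅a, n⁆ ∈ N ⊔ PE := by
        rw [commutatorElement_def]
        exact Subgroup.mem_sup_left
          (N.mul_mem (Lib.LocalChar.conj_mem_of_mem_normalizer (hNn ha) hn) (N.inv_mem hn))
      have h3 := mul_mem h2 (Lib.LocalChar.conj_mem_of_mem_normalizer (hM (hNle hn)) (hz d hd a ha))
      simpa [MulAut.conj_apply, mul_assoc] using h3
    conv_lhs => rw [← hres]
    exact Lib.LocalChar.resOf_le_of_le_sup (Lib.CharP.pCoreOf_isPGroup Er)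
      ((Lib.CharP.pCoreOf_le Er).trans hNn) hsup

end Cfsg.Agent.S2860
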