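import Cfsg.Statements.S2861
import Mathlib
import Cfsg.Agent.Lib.NormalEA55
import Cfsg.Agent.Lib.SzTwo55
import Cfsg.Agent.Lib.SuzukiSp4.Iso
import Cfsg.Agent.Lib.LocalChar.BasicAsym

set_option autoImplicit false
open Cfsg

namespace Cfsg.Agent.S2861
open Subgroup Cfsg.Agent.Lib

theorem ker_equiv_comp {A B : Type*} [Group A] [Group B] (N : Subgroup A) [N.Normal]
    (e : A ⧸ N ≃* B) : (e.toMonoidHom.comp (QuotientGroup.mk' N)).ker = N := by
  ext x
  rw [MonoidHom.mem_ker, MonoidHom.comp_apply]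
  exact (map_eq_one_iff e.toMonoidHom e.injective).trans (QuotientGroup.eq_one_iff x)


/-- Standing hypotheses: G a finite group, S a Sylow p-subgroup, Q a nontrivial large p-subgroup of G contained in S, M a subgroup containing S with the basic property (M ∈ 𝔐_G(S)); Y_M the largest p-reduced normal subgroup of M and M† = M·C_G(Y_M). Let L ∈ 𝔏_G(Y_M) (L ∈ 𝔏_G(Y_M): Y_M ≤ L; O_p(L) is the normal closure in L of Y_M ∩ O_p(L) and normalizes Y_M; L is Y_M-minimal of characteristic p with N_L(Y_M) its unique maximal subgroup over Y_M; and L/O_p(L) ≅ SL₂(q) with q = |Y_M : Y_M ∩ O_p(L)|, or p = 2 and L/O_p(L) is a Suzuki group Sz(q) or dihedral of order 2r, r an odd prime) and A = O_p(L). Then Y_M·A/A is the unique nontrivial elementary abelian normal p-subgroup of N_L(Y_M)/A. -/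
theorem result {G : Type*} [Group G] [Finite G] {p : ℕ} [Fact p.Prime] (S : Sylow p G) (Q : Subgroup G) (hQp : IsPGroup p ↥Q) (hQ1 : Q ≠ ⊥) (hQS : Q ≤ (S : Subgroup G)) (hQ : Cfsg.IsLarge Q) (M : Subgroup G) (hSM : (S : Subgroup G) ≤ M) (hM : Cfsg.IsInFrakM p M) (L : Subgroup G) (hL : Cfsg.IsInFrakL p M L) (NL : Subgroup G) (hNL : NL = L ⊓ Subgroup.normalizer (((Cfsg.largestPReducedOf p M) : Subgroup G) : Set G)) [hn : (((Cfsg.pCoreOf p L)).subgroupOf NL).Normal] : let Ybar : Subgroup (↥NL ⧸ ((Cfsg.pCoreOf p L)).subgroupOf NL) := (((Cfsg.largestPReducedOf p M)).subgroupOf NL).map (QuotientGroup.mk' (((Cfsg.pCoreOf p L)).subgroupOf NL)); Ybar ≠ ⊥ ∧ Ybar.Normal ∧ Cfsg.IsElementaryAbelian p Ybar ∧ ∀ (V : Subgroup (↥NL ⧸ ((Cfsg.pCoreOf p L)).subgroupOf NL)), V.Normal → Cfsg.IsElementaryAbelian p V → V ≠ ⊥ → V = Ybar := by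
  classical
  intro Ybar
  have hp := Fact.out (p := p.Prime)
  obtain ⟨hYL, -, hAY, hmin, -, ⟨hlt, hmax⟩, hcases⟩ := hL
  set Y := largestPReducedOf p M with hYdef
  have hYEA : IsElementaryAbelian p Y := (LocalChar.isRedIn_largest (p := p) M).2.2.1
  set A := pCoreOf p L with hA
  have hYN : Y ≤ NL := hNL ▸ le_inf hYL Subgroup.le_normalizer
  have hNLL : NL ≤ L := hNL ▸ inf_le_left
  set π := QuotientGroup.mk' (A.subgroupOf NL) with hπ
  have hπs : Function.Surjective π := QuotientGroup.mk'_surjective _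
  have hYsEA : IsElementaryAbelian p (Y.subgroupOf L) := by
    haveI := hYEA.1
    refine ⟨⟨⟨fun a b => ?_⟩⟩, fun a ha => Subtype.ext (by simpa using hYEA.2 _ ha)⟩
    exact Subtype.ext (Subtype.ext (by
        simpa using congrArg Subtype.val (mul_comm' (⟨(a.1 : G), a.2⟩ : Y) ⟨(b.1 : G), b.2⟩)))
  have hYsEA' : IsElementaryAbelian p (Y.subgroupOf NL) := by
    haveI := hYEA.1
    refine ⟨⟨⟨fun a b => ?_⟩⟩, fun a ha => Subtype.ext (by simpa using hYEA.2 _ ha)⟩
    exact Subtype.ext (Subtype.ext (by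
        simpa using congrArg Subtype.val (mul_comm' (⟨(a.1 : G), a.2⟩ : Y) ⟨(b.1 : G), b.2⟩)))
  have hnorm : (Y.subgroupOf NL).Normal := (normal_subgroupOf_iff_le_normalizer hYN).2
    (hNL ▸ inf_le_right)
  -- main reduction to a group isomorphic to `L/O_p(L)`
  suffices key : ∀ {X : Type} [Group X] (φ : ↥L →* X), Function.Surjective φ →
      φ.ker = pCore p ↥L → (Y.subgroupOf L).map φ ≠ ⊥ →
      NormalEA55.OnlyEA p ((Y.subgroupOf L).map φ) →
      Ybar ≠ ⊥ ∧ Ybar.Normal ∧ IsElementaryAbelian p Ybar ∧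
        ∀ V, V.Normal → IsElementaryAbelian p V → V ≠ ⊥ → V = Ybar by
    have hfin : ∀ {X : Type} [Group X] (φ : ↥L →* X), Function.Surjective φ → Finite X :=
      fun φ hφ => Finite.of_surjective φ hφ
    have hne : ∀ {X : Type} [Group X] [Nontrivial X] (φ : ↥L →* X), Function.Surjective φ →
        (Y.subgroupOf L).map φ ≠ ⊥ := by
      intro X _ _ φ hφ h
      have h1 := congrArg (Subgroup.map φ) hmin.1
      rw [Subgroup.map_normalClosure _ φ hφ, map_top_of_surjective φ hφ,
        ← Subgroup.coe_map, h, normalClosure_eq_self] at h1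
      exact bot_ne_top h1
    have hcard : ∀ {X : Type} [Group X] (φ : ↥L →* X), φ.ker = pCore p ↥L →
        Nat.card ((Y.subgroupOf L).map φ) = (Y ⊓ A).relIndex Y := by
      intro X _ φ hk
      have hAs : A.subgroupOf L = φ.ker := by
        rw [hk, hA, pCoreOf, ← comap_subtype, comap_map_eq_self_of_injective L.subtype_injective]
      rw [inf_relIndex_left, ← relIndex_subgroupOf hYL, hAs, relIndex_ker]
    rcases hcases with ⟨F, _, _, hq, ⟨e⟩⟩ | ⟨rfl, F, _, _, m, hF, hq, ⟨e⟩⟩ | ⟨rfl, r, hr, hr2, ⟨e⟩⟩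
    · set φ := e.toMonoidHom.comp (QuotientGroup.mk' (pCore p ↥L))
      have hs : Function.Surjective φ := e.surjective.comp (QuotientGroup.mk'_surjective _)
      have hk : φ.ker = pCore p ↥L := by
        exact ker_equiv_comp _ _
      have hc : Nat.card ((Y.subgroupOf L).map φ) = Fintype.card F := by rw [hcard φ hk, hq]
      refine key φ hs hk ?_ (NormalEA55.onlyEA_SLtwo (NormalEA55.EA_map hYsEA φ) hc)
      intro h
      rw [h, card_bot] at hc
      exact (Fintype.one_lt_card (α := F)).ne hc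
    · rcases Nat.eq_zero_or_pos m with rfl | hm
      · exfalso
        obtain ⟨D, hD, hinv⟩ := SzTwo55.exists_proper_of_involutions (F := F) hF
        apply hD
        set φ := e.toMonoidHom.comp (QuotientGroup.mk' (pCore 2 ↥L))
        have hs : Function.Surjective φ := e.surjective.comp (QuotientGroup.mk'_surjective _)
        rw [eq_top_iff, ← map_top_of_surjective φ hs, ← hmin.1, map_le_iff_le_comap]
        have hall : ∀ x ∈ Group.conjugatesOfSet ((Y.subgroupOf L : Subgroup ↥L) : Set ↥L),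
            x ∈ D.comap φ := by
          intro x hx
          obtain ⟨y, hy, hyx⟩ := Group.mem_conjugatesOfSet_iff.1 hx
          obtain ⟨c, hc⟩ := isConj_iff.1 hyx
          refine hinv _ ?_
          rw [← map_pow, ← hc, conj_pow, hYsEA.2 y hy, mul_one, mul_inv_cancel, map_one]
        exact (Subgroup.closure_le _).2 hall
      · have h : Suzuki.Hyp F m := ⟨hm, hF⟩
        set e' := e.trans (SuzukiSp4.szEquiv h).symm
        set φ := e'.toMonoidHom.comp (QuotientGroup.mk' (pCore 2 ↥L))
        have hs : Function.Surjective φ := e'.surjective.comp (QuotientGroup.mk'_surjective _)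
        have hk : φ.ker = pCore 2 ↥L := by
          exact ker_equiv_comp _ _
        have hc : Nat.card ((Y.subgroupOf L).map φ) = Fintype.card F := by rw [hcard φ hk, hq]
        refine key φ hs hk ?_ (NormalEA55.onlyEA_Sz h (NormalEA55.EA_map hYsEA φ) hc)
        intro h'
        rw [h', card_bot] at hc
        exact (Fintype.one_lt_card (α := F)).ne hc
    · set φ := e.toMonoidHom.comp (QuotientGroup.mk' (pCore 2 ↥L))
      have hs : Function.Surjective φ := e.surjective.comp (QuotientGroup.mk'_surjective _)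
      have hk : φ.ker = pCore 2 ↥L := by
        exact ker_equiv_comp _ _
      haveI := hfin φ hs
      haveI : Nontrivial (DihedralGroup r) := Finite.one_lt_card_iff_nontrivial.1 (by
        rw [DihedralGroup.nat_card]; have := hr.two_le; omega)
      refine key φ hs hk (hne φ hs) (NormalEA55.onlyEA_dihedral hr hr2 DihedralGroup.nat_card
        (NormalEA55.EA_map hYsEA φ) (hne φ hs) ?_)
      intro hN
      -- the image of `Y` would be normal
      have hn' : ((Y.subgroupOf L).map φ).Normal := normalizer_eq_top_iff.1 hN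
      have h1 := congrArg (Subgroup.map φ) hmin.1
      rw [Subgroup.map_normalClosure _ φ hs, map_top_of_surjective φ hs, ← Subgroup.coe_map,
        normalClosure_eq_self] at h1
      have h2 : IsPGroup 2 ↥(⊤ : Subgroup (DihedralGroup r)) :=
        h1 ▸ NormalEA55.isPGroup_of_EA (NormalEA55.EA_map hYsEA φ)
      obtain ⟨n, hn2⟩ := IsPGroup.iff_card.1 h2
      rw [card_top, DihedralGroup.nat_card] at hn2
      exact hr2 ((Nat.prime_dvd_prime_iff_eq hr Nat.prime_two).1
        (hr.dvd_of_dvd_pow (hn2 ▸ Dvd.intro_left 2 rfl)))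
  intro X _ φ hs hk hne hOnly
  haveI : Finite X := Finite.of_surjective φ hs
  set ψ := φ.comp (Subgroup.inclusion hNLL) with hψ
  have hAs : A.subgroupOf L = φ.ker := by
    rw [hk, hA, pCoreOf, ← comap_subtype, comap_map_eq_self_of_injective L.subtype_injective]
  have hψk : ψ.ker = π.ker := by
    ext x
    rw [hπ, QuotientGroup.ker_mk', MonoidHom.mem_ker, hψ, MonoidHom.comp_apply, ← MonoidHom.mem_ker, ← hAs]
    rfl
  have himg : (Y.subgroupOf NL).map ψ = (Y.subgroupOf L).map φ := by
    rw [hψ, ← Subgroup.map_map]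
    congr 1
    ext x
    constructor
    · rintro ⟨y, hy, rfl⟩; exact hy
    · intro hx
      exact ⟨⟨x, hYN hx⟩, hx, rfl⟩
  have hrange : ψ.range = normalizer ((Y.subgroupOf L).map φ : Set X) := by
    refine le_antisymm ?_ ?_
    · haveI := hnorm
      rw [← himg, MonoidHom.range_eq_map]
      refine le_trans (map_mono (normalizer_eq_top (H := Y.subgroupOf NL)).ge) ?_
      exact le_normalizer_map ψ
    · set K := (normalizer ((Y.subgroupOf L).map φ : Set X)).comap φ with hK
      have hKlt : K.map L.subtype < L := by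
        refine lt_of_le_of_ne (map_subtype_le K) fun h => hne ?_
        have hKtop : K = ⊤ := map_injective L.subtype_injective (h.trans (by rw [← MonoidHom.range_eq_map, L.range_subtype]))
        have hNtop : normalizer ((Y.subgroupOf L).map φ : Set X) = ⊤ := by
          rw [← map_top_of_surjective φ hs, ← hKtop, hK, map_comap_eq_self_of_surjective hs]
        have hn' : ((Y.subgroupOf L).map φ).Normal := normalizer_eq_top_iff.1 hNtop
        have h1 := congrArg (Subgroup.map φ) hmin.1
        rw [Subgroup.map_normalClosure _ φ hs, map_top_of_surjective φ hs, ← Subgroup.coe_map,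
          normalClosure_eq_self] at h1
        exfalso
        have h2 : φ.range = ψ.range := by
          rw [MonoidHom.range_eq_top.2 hs]
          refine le_antisymm ?_ le_top
          rw [← h1, ← himg]
          exact map_le_range ψ _
        have h3 : L ≤ NL := by
          intro l hl
          obtain ⟨x, hx⟩ := h2.le ⟨⟨l, hl⟩, rfl⟩
          have h4 : (⟨x.1, hNLL x.2⟩ : ↥L)⁻¹ * ⟨l, hl⟩ ∈ φ.ker := by
            rw [MonoidHom.mem_ker, map_mul, map_inv, ← hx]
            exact inv_mul_cancel _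
          rw [← hAs] at h4
          have h5 : (x : G)⁻¹ * l ∈ NL := by
            exact hNL.ge (Subgroup.mem_inf.2 ⟨L.mul_mem (L.inv_mem (hNLL x.2)) hl, hAY h4⟩)
          simpa using mul_mem x.2 h5
        exact hlt.not_ge (hNL ▸ h3)
      have hYK : Y ≤ K.map L.subtype := fun y hy =>
        ⟨⟨y, hYL hy⟩, Subgroup.le_normalizer (mem_map_of_mem φ (show (⟨y, hYL hy⟩ : ↥L) ∈ Y.subgroupOf L from hy)), rfl⟩
      intro g hg
      obtain ⟨l, rfl⟩ := hs g
      have hlN : (l : G) ∈ NL := hNL ▸ hmax _ hYK hKlt ⟨l, hg, rfl⟩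
      exact ⟨⟨l, hlN⟩, rfl⟩
  have hYbar : Ybar = (Y.subgroupOf NL).map π := rfl
  let θ := QuotientGroup.lift (A.subgroupOf NL) ψ (by rw [hψk, hπ, QuotientGroup.ker_mk'])
  have hθi : Function.Injective θ := by
    rw [← MonoidHom.ker_eq_bot_iff, QuotientGroup.ker_lift, hψk, hπ]
    simp
  have hθπ : θ.comp π = ψ := by ext; rfl
  have hθY : Ybar.map θ = (Y.subgroupOf L).map φ := by
    rw [hYbar, Subgroup.map_map, hθπ, himg]
  refine ⟨fun h => hne (by rw [← hθY, h, Subgroup.map_bot]), hYbar ▸ hnorm.map π hπs,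
    hYbar ▸ NormalEA55.EA_map hYsEA' π, fun V hV hVEA hV1 => map_injective hθi ?_⟩
  rw [hθY]
  have hθr : θ.range = ψ.range := by rw [← hθπ, MonoidHom.range_comp, MonoidHom.range_eq_top.2 hπs, MonoidHom.range_eq_map]
  refine hOnly (V.map θ) ?_ ?_ (NormalEA55.EA_map hVEA θ) (by rwa [Ne, map_eq_bot_iff_of_injective _ hθi])
  · rw [← hrange, ← hθr]; exact map_le_range θ V
  · rw [← hrange, ← hθr, MonoidHom.range_eq_map]
    exact (map_mono (normalizer_eq_top (H := V)).ge).trans (le_normalizer_map θ)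

end Cfsg.Agent.S2861
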