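import Cfsg.Statements.S2863
import Mathlib
import Cfsg.Agent.Lib.FrakLFpf.Groups
import Cfsg.Agent.Lib.FrakLFpf.SLtwo
import Cfsg.Agent.Lib.SzTwo55
import Cfsg.Agent.Lib.LocalChar.BasicAsym

set_option autoImplicit false
open Cfsg

namespace Cfsg.Agent.S2863
open Subgroup Cfsg.Agent.Lib

theorem ker_comp_equiv {A B : Type*} [Group A] [Group B] (N : Subgroup A) [N.Normal]
    (e : A ⧸ N ≃* B) : (e.toMonoidHom.comp (QuotientGroup.mk' N)).ker = N := by
  ext x
  rw [MonoidHom.mem_ker, MonoidHom.comp_apply]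
  exact (map_eq_one_iff e.toMonoidHom e.injective).trans (QuotientGroup.eq_one_iff x)

/-- Standing hypotheses: G a finite group, S a Sylow p-subgroup, Q a nontrivial large p-subgroup of G contained in S, M a subgroup containing S with the basic property (M ∈ 𝔐_G(S)); Y_M the largest p-reduced normal subgroup of M and M† = M·C_G(Y_M). Let L ∈ 𝔏_G(Y_M) (L ∈ 𝔏_G(Y_M): Y_M ≤ L; O_p(L) is the normal closure in L of Y_M ∩ O_p(L) and normalizes Y_M; L is Y_M-minimal of characteristic p with N_L(Y_M) its unique maximal subgroup over Y_M; and L/O_p(L) ≅ SL₂(q) with q = |Y_M : Y_M ∩ O_p(L)|, or p = 2 and L/O_p(L) is a Suzuki group Sz(q) or dihedral of order 2r, r an odd prime), A = O_p(L), and C = C_{Y_M}(L). Then every element h of L whose order is not a power of p acts without nontrivial fixed points on A/C: for a ∈ A, hah⁻¹a⁻¹ ∈ C implies a ∈ C. -/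
theorem result {G : Type*} [Group G] [Finite G] {p : ℕ} [Fact p.Prime] (S : Sylow p G) (Q : Subgroup G) (hQp : IsPGroup p ↥Q) (hQ1 : Q ≠ ⊥) (hQS : Q ≤ (S : Subgroup G)) (hQ : Cfsg.IsLarge Q) (M : Subgroup G) (hSM : (S : Subgroup G) ≤ M) (hM : Cfsg.IsInFrakM p M) (L : Subgroup G) (hL : Cfsg.IsInFrakL p M L) (h : G) (hh : h ∈ L) (hnp : ¬ ∃ k : ℕ, orderOf h = p ^ k) : ∀ a ∈ (Cfsg.pCoreOf p L), h * a * h⁻¹ * a⁻¹ ∈ (Cfsg.largestPReducedOf p M) ⊓ Subgroup.centralizer ((L : Subgroup G) : Set G) → a ∈ (Cfsg.largestPReducedOf p M) ⊓ Subgroup.centralizer ((L : Subgroup G) : Set G) := by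
  classical
  have hp := Fact.out (p := p.Prime)
  obtain ⟨hYL, hAcl, hAY, hmin, -, ⟨hlt, hmax⟩, hcases⟩ := hL
  set Y := largestPReducedOf p M with hYdef
  have hYEA : IsElementaryAbelian p Y := (LocalChar.isRedIn_largest (p := p) M).2.2.1
  set A := pCoreOf p L with hA
  set Y' := Y.subgroupOf L with hY'
  set A' := pCore p ↥L with hA'
  have hAs : A.subgroupOf L = A' := by
    rw [hA, pCoreOf, ← comap_subtype, comap_map_eq_self_of_injective L.subtype_injective]
  have hYA : (Y ⊓ A).subgroupOf L = Y' ⊓ A' := by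
    rw [← hAs, hY', subgroupOf, subgroupOf, subgroupOf, comap_inf]
  have hY'EA : IsElementaryAbelian p Y' := by
    haveI := hYEA.1
    refine ⟨⟨⟨fun a b => ?_⟩⟩, fun a ha => Subtype.ext (by simpa using hYEA.2 _ ha)⟩
    exact Subtype.ext (Subtype.ext (by
        simpa using congrArg Subtype.val (mul_comm' (⟨(a.1 : G), a.2⟩ : Y) ⟨(b.1 : G), b.2⟩)))
  have hY'p : IsPGroup p Y' := NormalEA55.isPGroup_of_EA hY'EA
  have hA'p : IsPGroup p A' := PSolvable.pCore_isPGroup
  have htoN : ∀ x : ↥L, (x : G) ∈ normalizer (Y : Set G) → x ∈ normalizer (Y' : Set ↥L) := by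
    intro x hx
    rw [mem_normalizer_iff]
    exact fun n => (mem_normalizer_iff.1 hx n)
  have hroot : FrakLFpf.Root A' Y' := by
    refine ⟨inferInstance, ?_, ?_, ?_, hmin.1, ?_⟩
    · intro a ha b hb
      haveI := hYEA.1
      apply Subtype.ext
      simpa using congrArg Subtype.val (mul_comm' (⟨(a : G), ha⟩ : Y) ⟨(b : G), hb⟩)
    · intro x hx
      refine htoN x (hAY ?_)
      rw [← hAs] at hx
      exact hx
    · rw [← hYA]
      exact (map_injective L.subtype_injective (hA ▸ hAcl : (A'.map L.subtype) = _)).symm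
    · intro X hYX hX x hx
      refine htoN x (hmax (X.map L.subtype) ?_ ?_ ⟨x, hx, rfl⟩).2
      · intro y hy
        exact ⟨⟨y, hYL hy⟩, hYX hy, rfl⟩
      · refine lt_of_le_of_ne (map_subtype_le X) fun he => hX ?_
        exact map_injective L.subtype_injective (he.trans (by rw [← MonoidHom.range_eq_map, L.range_subtype]))
  -- main reduction
  have main : ∀ {X : Type} [Group X] (φ : ↥L →* X), Function.Surjective φ → φ.ker = A' →
      (∀ x : X, (¬ ∃ k : ℕ, x ^ p ^ k = 1) → FrakLFpf.Good (Y'.map φ) x) →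
      ∀ a ∈ A, h * a * h⁻¹ * a⁻¹ ∈ Y ⊓ centralizer (L : Set G) →
        a ∈ Y ⊓ centralizer (L : Set G) := by
    intro X _ φ hs hk hQ a ha hc
    have haL : a ∈ L := (map_subtype_le _ : A ≤ L) ha
    have ha' : (⟨a, haL⟩ : ↥L) ∈ A' := by rw [← hAs]; exact ha
    have hcen : ∀ c : ↥L, (c : G) ∈ centralizer (L : Set G) ↔ c ∈ center ↥L := fun c => by
      rw [mem_center_iff, mem_centralizer_iff]
      exact ⟨fun hh g => Subtype.ext (hh g g.2), fun hh g hg => congrArg Subtype.val (hh ⟨g, hg⟩)⟩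
    have := FrakLFpf.criterion hroot hA'p hY'p φ hs hk hQ (h := ⟨h, hh⟩) (a := ⟨a, haL⟩) (by
      rintro ⟨k, hk'⟩
      have h1 : h ^ p ^ k = 1 := congrArg Subtype.val hk'
      obtain ⟨i, -, hi⟩ := (Nat.dvd_prime_pow hp).1 (orderOf_dvd_of_pow_eq_one h1)
      exact hnp ⟨i, hi⟩) ha' ⟨hc.1, (hcen _).1 hc.2⟩
    exact ⟨this.1, (hcen _).2 this.2⟩
  have hne : ∀ {X : Type} [Group X] [Nontrivial X] (φ : ↥L →* X), Function.Surjective φ →
      Y'.map φ ≠ ⊥ := by
    intro X _ _ φ hφ h'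
    have h1 := congrArg (Subgroup.map φ) hmin.1
    rw [Subgroup.map_normalClosure _ φ hφ, map_top_of_surjective φ hφ,
      ← Subgroup.coe_map, h', normalClosure_eq_self] at h1
    exact bot_ne_top h1
  have hcard : ∀ {X : Type} [Group X] (φ : ↥L →* X), φ.ker = A' →
      Nat.card (Y'.map φ) = (Y ⊓ A).relIndex Y := by
    intro X _ φ hk
    rw [inf_relIndex_left, ← relIndex_subgroupOf hYL, hAs, ← hk, relIndex_ker]
  rcases hcases with ⟨F, _, _, hq, ⟨e⟩⟩ | ⟨rfl, F, _, _, m, hF, hq, ⟨e⟩⟩ | ⟨rfl, r, hr, hr2, ⟨e⟩⟩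
  · set φ := e.toMonoidHom.comp (QuotientGroup.mk' (pCore p ↥L))
    have hs : Function.Surjective φ := e.surjective.comp (QuotientGroup.mk'_surjective _)
    have hk : φ.ker = A' := ker_comp_equiv _ _
    have hc : Nat.card (Y'.map φ) = Fintype.card F := by rw [hcard φ hk, hq]
    obtain ⟨k, hk'⟩ := IsPGroup.iff_card.1 (hY'p.map φ)
    haveI := NormalEA55.charP_of_card (F := F) (p := p) (hc.symm.trans hk')
    exact main φ hs hk (FrakLFpf.good_SLtwo (hY'p.map φ) hc)
  · rcases Nat.eq_zero_or_pos m with rfl | hm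
    · exfalso
      obtain ⟨D, hD, hinv⟩ := SzTwo55.exists_proper_of_involutions (F := F) hF
      apply hD
      set φ := e.toMonoidHom.comp (QuotientGroup.mk' (pCore 2 ↥L))
      have hs : Function.Surjective φ := e.surjective.comp (QuotientGroup.mk'_surjective _)
      rw [eq_top_iff, ← map_top_of_surjective φ hs, ← hmin.1, map_le_iff_le_comap]
      have hall : ∀ x ∈ Group.conjugatesOfSet (Y' : Set ↥L), x ∈ D.comap φ := by
        intro x hx
        obtain ⟨y, hy, hyx⟩ := Group.mem_conjugatesOfSet_iff.1 hx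
        obtain ⟨c, hc⟩ := isConj_iff.1 hyx
        refine hinv _ ?_
        rw [← map_pow, ← hc, conj_pow, hY'EA.2 y hy, mul_one, mul_inv_cancel, map_one]
      exact (Subgroup.closure_le _).2 hall
    · have hH : Suzuki.Hyp F m := ⟨hm, hF⟩
      set e' := e.trans (SuzukiSp4.szEquiv hH).symm
      set φ := e'.toMonoidHom.comp (QuotientGroup.mk' (pCore 2 ↥L))
      have hs : Function.Surjective φ := e'.surjective.comp (QuotientGroup.mk'_surjective _)
      have hk : φ.ker = A' := ker_comp_equiv _ _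
      have hc : Nat.card (Y'.map φ) = Fintype.card F := by rw [hcard φ hk, hq]
      exact main φ hs hk (FrakLFpf.good_Sz hH (NormalEA55.EA_map hY'EA φ) hc)
  · set φ := e.toMonoidHom.comp (QuotientGroup.mk' (pCore 2 ↥L))
    have hs : Function.Surjective φ := e.surjective.comp (QuotientGroup.mk'_surjective _)
    have hk : φ.ker = A' := ker_comp_equiv _ _
    haveI : Nontrivial (DihedralGroup r) := ⟨⟨DihedralGroup.sr 0, 1, fun h' => by
      simpa [h'] using DihedralGroup.orderOf_sr (n := r) 0⟩⟩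
    exact main φ hs hk (FrakLFpf.good_dihedral hr hr2 (hY'p.map φ) (hne φ hs))


end Cfsg.Agent.S2863
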