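import Cfsg.Statements.S2864
import Mathlib
import Cfsg.Agent.Lib.LargeQ55.Basic
import Cfsg.Agent.Lib.CharP.Overgroup
import Cfsg.Agent.Lib.Coprime.Quotient
import Cfsg.Agent.Lib.PGroup.Frattini
import Cfsg.Agent.Lib.Transfer.PResidual

set_option autoImplicit false
open Cfsg

namespace Cfsg.Agent.S2864

/-- Standing hypotheses: G a finite group, S a Sylow p-subgroup, Q a nontrivial large p-subgroup of G contained in S, M a subgroup containing S with the basic property (M ∈ 𝔐_G(S)); Y_M the largest p-reduced normal subgroup of M and M† = M·C_G(Y_M). Let I be a nontrivial normal p-subgroup of M and Y ≤ O_p(M†); let L be a subgroup of G containing Y and A a normal p-subgroup of L with I ≤ A ≤ M. If [Y, A] ≤ [I, A], then Y ≤ O_p(L). -/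
theorem result {G : Type*} [Group G] [Finite G] {p : ℕ} [Fact p.Prime] (S : Sylow p G) (Q : Subgroup G) (hQp : IsPGroup p ↥Q) (hQ1 : Q ≠ ⊥) (hQS : Q ≤ (S : Subgroup G)) (hQ : Cfsg.IsLarge Q) (M : Subgroup G) (hSM : (S : Subgroup G) ≤ M) (hM : Cfsg.IsInFrakM p M) (I : Subgroup G) (hI1 : I ≠ ⊥) (hIp : IsPGroup p ↥I) (hIM : I ≤ M ∧ M ≤ Subgroup.normalizer ((I : Subgroup G) : Set G)) (Y : Subgroup G) (hY : Y ≤ (Cfsg.pCoreOf p (M ⊔ Subgroup.centralizer (((Cfsg.largestPReducedOf p M) : Subgroup G) : Set G)))) (L : Subgroup G) (hYL : Y ≤ L) (A : Subgroup G) (hAp : IsPGroup p ↥A) (hAL : A ≤ L ∧ L ≤ Subgroup.normalizer ((A : Subgroup G) : Set G)) (hIA : I ≤ A) (hAM : A ≤ M) (hc : ⁅Y, A⁆ ≤ ⁅I, A⁆) : Y ≤ (Cfsg.pCoreOf p L) := by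
  set Mt := M ⊔ Subgroup.centralizer (Cfsg.largestPReducedOf p M : Set G) with hMtdef
  set P := Cfsg.pCoreOf p Mt with hPdef
  set B := L ⊓ Subgroup.centralizer (A : Set G) with hBdef
  have hBMt : B ≤ Mt := by
    refine le_trans ?_ (Cfsg.Agent.Lib.LargeQ55.normalizer_le_of_frakM hQp hQ S hQS hSM hM hI1 hIp hIM.2)
    exact inf_le_right.trans ((Subgroup.centralizer_le hIA).trans (Subgroup.centralizer_le_normalizer _))
  have hLB : L ≤ Subgroup.normalizer (B : Set G) :=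
    Cfsg.Agent.Lib.Coprime.le_normalizer_inf_centralizer Subgroup.le_normalizer hAL.2
  set U := Cfsg.pCoreOf p L with hUdef
  have hLU : L ≤ Subgroup.normalizer (U : Set G) := Cfsg.Agent.Lib.CharP.le_normalizer_pCoreOf L
  -- `[Y, B] ≤ U`
  have hBP : B ⊓ P ≤ U := by
    have h1 : B ⊓ P ≤ Cfsg.pCoreOf p B := Cfsg.Agent.Lib.CharP.le_pCoreOf inf_le_left
      ((Cfsg.Agent.Lib.CharP.pCoreOf_isPGroup Mt).to_le inf_le_right) (fun b hb =>
        Subgroup.inf_normalizer_le_normalizer_inf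
          ⟨Subgroup.le_normalizer hb, Cfsg.Agent.Lib.CharP.le_normalizer_pCoreOf Mt (hBMt hb)⟩)
    refine h1.trans (Cfsg.Agent.Lib.CharP.le_pCoreOf
      ((Cfsg.Agent.Lib.CharP.pCoreOf_le B).trans inf_le_left) (Cfsg.Agent.Lib.CharP.pCoreOf_isPGroup B) ?_)
    haveI := Cfsg.Agent.Lib.PSolvable.pCore_characteristic (G := ↥B) (p := p)
    exact hLB.trans (Cfsg.Agent.Lib.Coprime.normalizer_le_normalizer_map_of_characteristic _)
  set F := ⁅A, A⁆ with hFdef
  have hLF : L ≤ Subgroup.normalizer (F : Set G) :=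
    Cfsg.Agent.Lib.Coprime.le_normalizer_commutator hAL.2 hAL.2
  obtain ⟨K0, hK0⟩ := Cfsg.Agent.Lib.CharP.exists_subgroup_trivial_mod A F
  obtain ⟨D0, hD0⟩ := Cfsg.Agent.Lib.CharP.exists_subgroup_trivial_mod B U
  set D := L ⊓ K0 ⊓ D0 with hDdef
  have hDL : D ≤ L := inf_le_left.trans inf_le_left
  -- `L` normalises `D`
  have hconj : ∀ (R C E : Subgroup G), L ≤ Subgroup.normalizer (R : Set G) →
      L ≤ Subgroup.normalizer (C : Set G) → (∀ g : G, g ∈ E ↔
        (g ∈ Subgroup.normalizer (R : Set G) ∧ g ∈ Subgroup.normalizer (C : Set G) ∧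
          ∀ r ∈ R, g * r * g⁻¹ * r⁻¹ ∈ C)) →
      ∀ l ∈ L, ∀ g ∈ E, l * g * l⁻¹ ∈ E := by
    intro R C E hR hC hE l hl g hg
    obtain ⟨h1, h2, h3⟩ := (hE g).1 hg
    refine (hE _).2 ⟨mul_mem (mul_mem (hR hl) h1) (inv_mem (hR hl)),
      mul_mem (mul_mem (hC hl) h2) (inv_mem (hC hl)), fun r hr => ?_⟩
    have hr' : l⁻¹ * r * l ∈ R := by
      simpa using (Subgroup.mem_normalizer_iff.1 (inv_mem (hR hl)) r).1 hr
    have := (Subgroup.mem_normalizer_iff.1 (hC hl) _).1 (h3 _ hr')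
    convert this using 1; group
  have hLD : ∀ l ∈ L, ∀ g ∈ D, l * g * l⁻¹ ∈ D := fun l hl g hg =>
    ⟨⟨Subgroup.mul_mem _ (Subgroup.mul_mem _ hl hg.1.1) (Subgroup.inv_mem _ hl), hconj A F K0 hAL.2 hLF hK0 l hl g hg.1.2⟩,
      hconj B U D0 hLB hLU hD0 l hl g hg.2⟩
  have hYD : Y ≤ D := by
    intro y hy
    refine ⟨⟨hYL hy, (hK0 y).2 ⟨hAL.2 (hYL hy), hLF (hYL hy), fun r hr => ?_⟩⟩,
      (hD0 y).2 ⟨hLB (hYL hy), hLU (hYL hy), fun b hb => ?_⟩⟩
    · have h1 : y * r * y⁻¹ * r⁻¹ ∈ ⁅Y, A⁆ := Subgroup.commutator_mem_commutator hy hr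
      exact Subgroup.commutator_mono hIA le_rfl (hc h1)
    · refine hBP ⟨B.mul_mem ((Subgroup.mem_normalizer_iff.1 (hLB (hYL hy)) b).1 hb) (B.inv_mem hb), ?_⟩
      have hP' : b * y⁻¹ * b⁻¹ ∈ P := (Subgroup.mem_normalizer_iff.1
        (Cfsg.Agent.Lib.CharP.le_normalizer_pCoreOf Mt (hBMt hb)) _).1 (P.inv_mem (hY hy))
      simpa [mul_assoc] using P.mul_mem (hY hy) hP'
  -- `p'`-elements of `D` centralise `A`
  have hDB : ∀ x ∈ D, (orderOf x).Coprime p → x ∈ B := by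
    intro x hx hxo
    refine ⟨hDL hx, ?_⟩
    refine Cfsg.Agent.Lib.Coprime.le_centralizer_of_frattini (A := Subgroup.zpowers x)
      (Subgroup.zpowers_le.2 (hAL.2 (hDL hx))) ?_ ?_ (Subgroup.mem_zpowers x)
    · rw [Nat.card_zpowers]
      obtain ⟨n, hn⟩ := IsPGroup.iff_card.1 (hAp.to_subgroup (frattini A))
      rw [hn]; exact hxo.pow_right n
    · intro a ha r hr
      have hFr : F ≤ (frattini A).map A.subtype := by
        rw [hFdef, ← Subgroup.map_subtype_commutator]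
        exact Subgroup.map_mono (Cfsg.Agent.Lib.PFrattini.commutator_le_frattini hAp)
      refine hFr (((hK0 a).1 ?_).2.2 r hr)
      obtain ⟨k, rfl⟩ := ha
      exact Subgroup.zpow_mem _ hx.1.2 k
  -- a Sylow `p`-subgroup of `D` is normal in `D`
  obtain ⟨T⟩ : Nonempty (Sylow p D) := inferInstance
  have hUD : (U ⊓ D).subgroupOf D ≤ (T : Subgroup D) := by
    refine @IsPGroup.le_sylow_of_normal _ _ _ _ ?_ ?_ T
    · exact (Subgroup.normal_subgroupOf_iff_le_normalizer inf_le_right).2 fun g hg =>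
        Subgroup.inf_normalizer_le_normalizer_inf ⟨hLU (hDL hg), Subgroup.le_normalizer hg⟩
    · exact ((Cfsg.Agent.Lib.CharP.pCoreOf_isPGroup L).to_le inf_le_left).comap_of_injective _
        D.subtype_injective
  have hTn : (T : Subgroup D).Normal := by
    rw [← Subgroup.normalizer_eq_top_iff, eq_top_iff, ← Cfsg.Agent.Lib.Transfer.pResidual_sup_sylow T]
    refine sup_le ?_ Subgroup.le_normalizer
    rw [Cfsg.Agent.Lib.Transfer.pResidual_le_iff]
    intro x hxo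
    refine Subgroup.mem_normalizer_fintype fun t ht => ?_
    have hxB : (x : G) ∈ B := hDB x x.2 (by rwa [Subgroup.orderOf_coe])
    have h1 : (t : G) * x * (t : G)⁻¹ * (x : G)⁻¹ ∈ U := ((hD0 _).1 t.2.2).2.2 _ hxB
    have h2 : x * t * x⁻¹ * t⁻¹ ∈ (T : Subgroup D) := by
      refine hUD (Subgroup.mem_subgroupOf.2 ⟨?_, (x * t * x⁻¹ * t⁻¹).2⟩)
      simpa [mul_assoc] using U.inv_mem h1
    show x * t * x⁻¹ ∈ (T : Subgroup D)
    simpa using Subgroup.mul_mem _ h2 ht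
  have hTsub : Subsingleton (Sylow p D) := Sylow.unique_of_normal T hTn |>.instSubsingleton
  set T' := (T : Subgroup D).map D.subtype with hT'def
  have hT'n : L ≤ Subgroup.normalizer (T' : Set G) := by
    have hLnD : L ≤ Subgroup.normalizer (D : Set G) := Subgroup.le_normalizer_iff.2 hLD
    haveI : (T : Subgroup D).Characteristic := Sylow.characteristic_of_subsingleton T
    exact hLnD.trans (Cfsg.Agent.Lib.Coprime.normalizer_le_normalizer_map_of_characteristic _)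
  have hTU : T' ≤ U := Cfsg.Agent.Lib.CharP.le_pCoreOf ((Subgroup.map_subtype_le _).trans hDL)
    (T.2.map _) hT'n
  intro y hy
  refine hTU ⟨⟨y, hYD hy⟩, ?_, rfl⟩
  have hYp : IsPGroup p (Y.subgroupOf D) :=
    ((Cfsg.Agent.Lib.CharP.pCoreOf_isPGroup Mt).to_le hY).comap_of_injective _ D.subtype_injective
  obtain ⟨T2, hT2⟩ := hYp.exists_le_sylow
  rw [Subsingleton.elim T T2]
  exact hT2 (Subgroup.mem_subgroupOf.2 hy)

end Cfsg.Agent.S2864
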