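import Cfsg.Statements.S2872
import Mathlib

set_option autoImplicit false
open Cfsg

namespace Cfsg.Agent.S2872
open Subgroup MonoidHom in
/-- If a central element of a Sylow 2-subgroup, of order dividing 2, lies outside a maximal subgroup
of it and is centralised by the Sylow normalizer, then `O²(G) ≠ G`. -/
theorem pResidual_ne_top {G : Type*} [Group G] [Finite G] (S : Sylow 2 G) {z : G}
    (hzS : z ∈ (S : Subgroup G)) (hzc : ∀ s ∈ (S : Subgroup G), s * z = z * s) (hz2 : z * z = 1)
    (M : Subgroup (S : Subgroup G)) (hM : M.index = 2) (hzM : (⟨z, hzS⟩ : (S : Subgroup G)) ∉ M)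
    (hN : ∀ g ∈ normalizer ((S : Subgroup G) : Set G), g * z * g⁻¹ = z) :
    Cfsg.pResidual 2 G ≠ ⊤ := by
  classical
  haveI : Fact (Nat.Prime 2) := ⟨Nat.prime_two⟩
  haveI : M.Normal := normal_of_index_eq_two hM
  let φ : (S : Subgroup G) →* ℤˣ :=
    { toFun := fun s => if s ∈ M then 1 else -1
      map_one' := by simp
      map_mul' := fun a b => by
        have := mul_mem_iff_of_index_two hM (a := a) (b := b)
        by_cases ha : a ∈ M <;> by_cases hb : b ∈ M <;> simp_all }
  letI : Fintype (G ⧸ (S : Subgroup G)) := (S : Subgroup G).fintypeQuotientOfFiniteIndex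
  let T : (S : Subgroup G).LeftTransversal := default
  let t : G ⧸ (S : Subgroup G) → G := fun q => (T.2.leftQuotientEquiv q : G)
  have ht : ∀ q, ((t q : G) : G ⧸ (S : Subgroup G)) = q := fun q =>
    IsComplement.quotientGroupMk_leftQuotientEquiv T.2 q
  -- the cosets contributing to the transfer
  let E : Finset (G ⧸ (S : Subgroup G)) := Finset.univ.filter fun q =>
    ∃ h : (t q)⁻¹ * z * t q ∈ (S : Subgroup G), (⟨_, h⟩ : (S : Subgroup G)) ∉ M
  have hfix : ∀ q, (t q)⁻¹ * z * t q ∈ (S : Subgroup G) ↔ z • q = q := by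
    intro q
    conv_rhs => rw [← ht q]
    rw [MulAction.Quotient.smul_mk, QuotientGroup.eq, smul_eq_mul, mul_inv_rev]
    rw [show z⁻¹ = z from inv_eq_of_mul_eq_one_right hz2]
  have hzz : ∀ q : G ⧸ (S : Subgroup G), z • z • q = q := fun q => by
    rw [smul_smul, hz2, one_smul]
  -- the transfer of `z`
  have hmem : ∀ q, (t q)⁻¹ * z * t (z • q) ∈ (S : Subgroup G) := fun q => by
    rw [mul_assoc, ← QuotientGroup.eq, ← MulAction.Quotient.coe_smul_out]
    rw [ht]
    have h1 : ((z * t (z • q) : G) : G ⧸ (S : Subgroup G)) = z • z • q := by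
      conv_rhs => rw [← ht (z • q)]
      rfl
    rw [MulAction.Quotient.coe_smul_out, h1, hzz]
  have htransfer : transfer φ z = ∏ q, φ ⟨_, hmem q⟩ := by
    rw [transfer_def φ T]
    unfold Subgroup.leftTransversals.diff
    simp only
    refine Finset.prod_congr rfl fun q _ => congrArg φ (Subtype.ext ?_)
    show (t q)⁻¹ * ((z • T).2.leftQuotientEquiv q : G) = (t q)⁻¹ * z * t (z • q)
    rw [smul_apply_eq_smul_apply_inv_smul, show z⁻¹ = z from inv_eq_of_mul_eq_one_right hz2,
      smul_eq_mul, mul_assoc]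
  have hterm : ∀ q, z • q = q → φ ⟨_, hmem q⟩ = if q ∈ E then -1 else 1 := by
    intro q hq
    have h1 := (hfix q).2 hq
    have he : (⟨_, hmem q⟩ : (S : Subgroup G)) = ⟨_, h1⟩ :=
      Subtype.ext (show (t q)⁻¹ * z * t (z • q) = (t q)⁻¹ * z * t q by rw [hq])
    by_cases hqM : (⟨_, h1⟩ : (S : Subgroup G)) ∈ M
    · have : q ∉ E := fun h => (Finset.mem_filter.1 h).2.choose_spec hqM
      rw [if_neg this, he]; exact if_pos hqM
    · have : q ∈ E := Finset.mem_filter.2 ⟨Finset.mem_univ _, h1, hqM⟩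
      rw [if_pos this, he]; exact if_neg hqM
  have hE : ∀ q ∈ E, z • q = q := fun q hq => (hfix q).1 (Finset.mem_filter.1 hq).2.choose
  have hprod : transfer φ z = (-1) ^ E.card := by
    have h2 : ∏ q, (φ ⟨_, hmem q⟩ * if q ∈ E then (-1 : ℤˣ) else 1) = 1 := by
      refine Finset.prod_involution (fun q _ => z • q) ?_ ?_ (fun _ _ => Finset.mem_univ _)
        (fun q _ => hzz q)
      · intro q _
        by_cases hq : z • q = q
        · simp only [hq, hterm q hq]
          by_cases h : q ∈ E <;> simp [h]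
        · have h3 : q ∉ E := fun h => hq (hE q h)
          have h4 : z • q ∉ E := fun h => hq (by have := hE _ h; rw [hzz] at this; exact this.symm)
          simp only [if_neg h3, if_neg h4, mul_one]
          rw [← map_mul]
          convert map_one φ
          refine Subtype.ext ?_
          show (t q)⁻¹ * z * t (z • q) * ((t (z • q))⁻¹ * z * t (z • z • q)) = 1
          rw [hzz]
          calc (t q)⁻¹ * z * t (z • q) * ((t (z • q))⁻¹ * z * t q) = (t q)⁻¹ * (z * z) * t q := by group
            _ = 1 := by rw [hz2]; group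
      · intro q _ hne hq
        refine hne ?_
        rw [hterm q hq]
        by_cases h : q ∈ E <;> simp [h]
    rw [Finset.prod_mul_distrib, ← htransfer, Finset.prod_ite_mem, Finset.univ_inter,
      Finset.prod_const] at h2
    rw [mul_eq_one_iff_eq_inv.1 h2]
    rcases neg_one_pow_eq_or ℤˣ E.card with h | h <;> simp [h]
  -- `E` is `S`-invariant
  have hEinv : ∀ s ∈ (S : Subgroup G), ∀ q ∈ E, s • q ∈ E := by
    intro s hs q hq
    obtain ⟨h1, h2⟩ := (Finset.mem_filter.1 hq).2
    obtain ⟨c, hc⟩ : ∃ c : (S : Subgroup G), t (s • q) = s * t q * c := by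
      refine ⟨⟨(s * t q)⁻¹ * t (s • q), QuotientGroup.eq.1 ?_⟩, ?_⟩
      swap
      · show t (s • q) = s * t q * ((s * t q)⁻¹ * t (s • q))
        group
      rw [ht]
      conv_rhs => rw [← ht q]
      rfl
    have he : (t (s • q))⁻¹ * z * t (s • q) = (c : G)⁻¹ * ((t q)⁻¹ * z * t q) * c := by
      rw [hc]
      calc (s * t q * c)⁻¹ * z * (s * t q * c) = (c : G)⁻¹ * ((t q)⁻¹ * (s⁻¹ * (z * s)) * t q) * c := by group
        _ = _ := by rw [← hzc s hs]; group
    refine Finset.mem_filter.2 ⟨Finset.mem_univ _, ?_, ?_⟩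
    · rw [he]
      exact Subgroup.mul_mem _ (Subgroup.mul_mem _ (inv_mem c.2) h1) c.2
    · intro hh
      refine h2 ?_
      convert (inferInstance : M.Normal).conj_mem _ hh c using 1
      refine Subtype.ext ?_
      show (t q)⁻¹ * z * t q = (c : G) * ((t (s • q))⁻¹ * z * t (s • q)) * (c : G)⁻¹
      rw [he]; group
  -- fixed cosets come from the normalizer, and lie in `E`
  have hfixE : ∀ q, (∀ s ∈ (S : Subgroup G), s • q = q) → q ∈ E := by
    intro q hq
    have hn : t q ∈ normalizer ((S : Subgroup G) : Set G) := by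
      rw [← inv_mem_iff]
      refine mem_normalizer_fintype ?_
      intro s hs
      have h1 := hq s hs
      rw [← ht q, MulAction.Quotient.smul_mk, eq_comm, QuotientGroup.eq, smul_eq_mul, ← mul_assoc] at h1
      show (t q)⁻¹ * s * ((t q)⁻¹)⁻¹ ∈ (S : Subgroup G)
      rw [inv_inv]
      exact h1
    have h0 : (t q)⁻¹ * z * t q = z := by simpa using hN _ (inv_mem hn)
    refine Finset.mem_filter.2 ⟨Finset.mem_univ _, by rw [h0]; exact hzS, ?_⟩
    convert hzM using 2
    exact Subtype.ext h0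
  -- parity
  letI : MulAction (S : Subgroup G) {q // q ∈ E} :=
    { smul := fun s q => ⟨(s : G) • q.1, hEinv s s.2 q q.2⟩
      one_smul := fun q => Subtype.ext (one_smul G q.1)
      mul_smul := fun a b q => Subtype.ext (mul_smul (a : G) (b : G) q.1) }
  have hfe : MulAction.fixedPoints (S : Subgroup G) {q // q ∈ E} ≃
      MulAction.fixedPoints (S : Subgroup G) (G ⧸ (S : Subgroup G)) :=
    { toFun := fun q => ⟨q.1.1, fun s => congrArg Subtype.val (q.2 s)⟩
      invFun := fun q => ⟨⟨q.1, hfixE q.1 fun s hs => q.2 ⟨s, hs⟩⟩, fun s => Subtype.ext (q.2 s)⟩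
      left_inv := fun _ => rfl
      right_inv := fun _ => rfl }
  have h1 := S.2.card_modEq_card_fixedPoints {q // q ∈ E}
  have h2 := S.2.card_modEq_card_fixedPoints (G ⧸ (S : Subgroup G))
  rw [Nat.card_congr hfe] at h1
  rw [Nat.card_eq_fintype_card (α := {q // q ∈ E}), Fintype.card_coe] at h1
  have hodd : ¬ 2 ∣ Nat.card (G ⧸ (S : Subgroup G)) := S.not_dvd_index
  have hEodd : Odd E.card := by
    rw [Nat.odd_iff]
    have h3 : E.card % 2 = Nat.card (G ⧸ (S : Subgroup G)) % 2 := h1.trans h2.symm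
    omega
  rw [hEodd.neg_one_pow] at hprod
  -- conclusion
  intro htop
  have hker : Cfsg.pResidual 2 G ≤ (transfer φ).ker := by
    rw [Cfsg.pResidual, Subgroup.closure_le]
    intro g hg
    have hu : (transfer φ g) ^ 2 = 1 := Int.units_sq _
    exact orderOf_eq_one_iff.1 (Nat.eq_one_of_dvd_coprimes hg (orderOf_map_dvd _ g)
      (orderOf_dvd_of_pow_eq_one hu))
  have hz1 : transfer φ z = 1 := MonoidHom.mem_ker.1 (hker (htop ▸ Subgroup.mem_top z))
  rw [hprod] at hz1
  exact absurd hz1 (by decide)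


/-- Let S be a Sylow 2-subgroup of the finite group G. Then G has a proper normal subgroup of 2-power index (O²(G) ≠ G), or Ω₁(Z(S)) is contained in the Frattini subgroup of S, or N_G(S) acts nontrivially on Ω₁(Z(S)) by conjugation. -/
theorem result {G : Type*} [Group G] [Finite G] (S : Sylow 2 G) : Cfsg.pResidual 2 G ≠ ⊤ ∨ Cfsg.omegaOne 2 ((S : Subgroup G) ⊓ Subgroup.centralizer ((S : Subgroup G) : Set G)) ≤ (frattini ↥(S : Subgroup G)).map (S : Subgroup G).subtype ∨ ∃ g ∈ Subgroup.normalizer ((S : Subgroup G) : Set G), ∃ z ∈ Cfsg.omegaOne 2 ((S : Subgroup G) ⊓ Subgroup.centralizer ((S : Subgroup G) : Set G)), g * z * g⁻¹ ≠ z := by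
  classical
  haveI : Fact (Nat.Prime 2) := ⟨Nat.prime_two⟩
  by_contra hcon
  push Not at hcon
  obtain ⟨h1, h2, h3⟩ := hcon
  rw [Cfsg.omegaOne, Subgroup.closure_le, Set.not_subset] at h2
  obtain ⟨z, ⟨hz, hz2⟩, hzΦ⟩ := h2
  have hzS : z ∈ (S : Subgroup G) := hz.1
  have hzc : ∀ s ∈ (S : Subgroup G), s * z = z * s := fun s hs =>
    Subgroup.mem_centralizer_iff.1 hz.2 s hs
  obtain ⟨M, hM, hzM⟩ : ∃ M : Subgroup (S : Subgroup G), IsCoatom M ∧
      (⟨z, hzS⟩ : (S : Subgroup G)) ∉ M := by
    by_contra hall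
    push Not at hall
    refine hzΦ ⟨⟨z, hzS⟩, ?_, rfl⟩
    simp only [SetLike.mem_coe, frattini, Order.radical, Subgroup.mem_iInf]
    exact fun M hM => hall M hM
  haveI : Group.IsNilpotent (S : Subgroup G) := S.2.isNilpotent
  haveI : M.Normal := Subgroup.NormalizerCondition.normal_of_coatom M
    (Group.normalizerCondition_of_isNilpotent (G := (S : Subgroup G))) hM
  have hindex : M.index = 2 := by
    -- `M ⊔ ⟨z⟩ = ⊤` and `z² = 1`
    obtain ⟨n, hn⟩ := S.2.index M
    have htop : M ⊔ Subgroup.zpowers (⟨z, hzS⟩ : (S : Subgroup G)) = ⊤ :=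
      hM.2 _ (lt_of_le_of_ne le_sup_left fun h => hzM (by
        rw [h]; exact Subgroup.mem_sup_right (Subgroup.mem_zpowers _)))
    have hle : M.index ≤ 2 := by
      rw [← Subgroup.relIndex_top_right, ← htop, Subgroup.relIndex_sup_left]
      refine Nat.le_of_dvd (by norm_num) ((Subgroup.relIndex_dvd_card _ _).trans ?_)
      rw [Nat.card_zpowers]
      exact orderOf_dvd_of_pow_eq_one (Subtype.ext hz2)
    have hne : M.index ≠ 1 := fun h => hM.1 (Subgroup.index_eq_one.1 h)
    have : M.index ≠ 0 := Subgroup.index_ne_zero_of_finite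
    omega
  refine pResidual_ne_top S hzS hzc (by rw [← sq]; exact hz2) M hindex hzM ?_ h1
  intro g hg
  exact h3 g hg z (Subgroup.subset_closure ⟨hz, hz2⟩)

end Cfsg.Agent.S2872
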