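import Cfsg.Statements.S2873
import Mathlib
import Cfsg.Agent.Lib.PSolvable.Core
import Cfsg.Agent.Lib.Coprime.Quotient

set_option autoImplicit false
open Cfsg

namespace Cfsg.Agent.S2873
universe u

open Subgroup in
/-- An involution `a` inverting an odd element `x` that acts without fixed points on the normal
2-subgroup `V`: `|C_V(a)|² = |V|` and all involutions in `Va` are `V`-conjugate. -/
theorem core_lemma : ∀ (n : ℕ) (G : Type u) [Group G] [Finite G] (V : Subgroup G) [V.Normal],
    Nat.card V = n → IsPGroup 2 V → ∀ a x : G, a * a = 1 → a * x * a = x⁻¹ → Odd (orderOf x) →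
      (∀ v ∈ V, v * x = x * v → v = 1) →
      (∀ v ∈ V, (v * a) * (v * a) = 1 → ∃ u ∈ V, u * a * u⁻¹ = v * a) ∧
        Nat.card ↥(V ⊓ centralizer ({a} : Set G)) ^ 2 = Nat.card V := by
  intro n
  induction n using Nat.strong_induction_on with
  | _ n ih =>
    intro G _ _ V _ hn hV a x ha hax hxodd hfree
    classical
    by_cases hV1 : V = ⊥
    · subst hV1
      refine ⟨fun v hv _ => ⟨1, one_mem _, by rw [mem_bot.1 hv]; simp⟩, ?_⟩
      rw [bot_inf_eq, Subgroup.card_bot]; norm_num
    have hainv : a⁻¹ = a := inv_eq_of_mul_eq_one_right ha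
    -- `Z = Ω₁Z(V)`
    let Z : Subgroup G :=
      { carrier := {z | z ∈ V ∧ z * z = 1 ∧ ∀ v ∈ V, v * z = z * v}
        one_mem' := ⟨one_mem _, one_mul 1, fun v _ => by simp⟩
        mul_mem' := by
          rintro b c ⟨hb, hb2, hbc⟩ ⟨hc, hc2, hcc⟩
          refine ⟨mul_mem hb hc, ?_, fun v hv => ?_⟩
          · calc b * c * (b * c) = b * (c * b) * c := by group
              _ = b * (b * c) * c := by rw [hbc c hc]
              _ = (b * b) * (c * c) := by group
              _ = 1 := by rw [hb2, hc2, one_mul]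
          · rw [← mul_assoc, hbc v hv, mul_assoc, hcc v hv, mul_assoc]
        inv_mem' := by
          rintro b ⟨hb, hb2, hbc⟩
          rw [inv_eq_of_mul_eq_one_right hb2]
          exact ⟨hb, hb2, hbc⟩ }
    have hZV : Z ≤ V := fun z hz => hz.1
    haveI hZn : Z.Normal := ⟨fun z hz g => by
      refine ⟨(inferInstance : V.Normal).conj_mem z hz.1 g, ?_, fun v hv => ?_⟩
      · rw [show g * z * g⁻¹ * (g * z * g⁻¹) = g * (z * z) * g⁻¹ by group, hz.2.1]; group
      · have := hz.2.2 _ ((inferInstance : V.Normal).conj_mem v hv g⁻¹)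
        calc v * (g * z * g⁻¹) = g * ((g⁻¹ * v * g⁻¹⁻¹) * z) * g⁻¹ := by group
          _ = g * (z * (g⁻¹ * v * g⁻¹⁻¹)) * g⁻¹ := by rw [this]
          _ = g * z * g⁻¹ * v := by group⟩
    have hZ1 : Z ≠ ⊥ := by
      haveI : Nontrivial V := (nontrivial_iff_ne_bot _).2 hV1
      haveI : Fact (Nat.Prime 2) := ⟨Nat.prime_two⟩
      have hcne : center V ≠ ⊥ := hV.bot_lt_center.ne'
      have h2c : 2 ∣ Nat.card (center V) :=
        (hV.to_subgroup _).card_eq_or_dvd.resolve_left fun h => hcne (Subgroup.card_eq_one.1 h)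
      obtain ⟨c, hc⟩ := exists_prime_orderOf_dvd_card' (G := center V) 2 h2c
      intro h
      have hcm : ((c : V) : G) ∈ Z := ⟨(c : V).2, by
        have := pow_orderOf_eq_one c
        rw [hc, sq] at this
        exact congrArg Subtype.val (congrArg Subtype.val this),
        fun v hv => congrArg Subtype.val (mem_center_iff.1 c.2 ⟨v, hv⟩)⟩
      rw [h, mem_bot] at hcm
      have : c = 1 := Subtype.ext (Subtype.ext hcm)
      rw [this, orderOf_one] at hc
      omega
    have hconjZ : ∀ z ∈ Z, a * z * a ∈ Z := fun z hz => by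
      have := hZn.conj_mem z hz a; rwa [hainv] at this
    -- the elementary abelian bottom layer: an involution conjugate to `a` by a power of `x`
    obtain ⟨y, hy, hyax⟩ : ∃ y ∈ zpowers x, y * a * y⁻¹ = x * a := by
      obtain ⟨k, hk⟩ := hxodd
      refine ⟨x ^ (k + 1), pow_mem (mem_zpowers x) _, ?_⟩
      have h1 : ∀ m : ℕ, a * x ^ m * a = (x ^ m)⁻¹ := fun m => by
        have h2 : (a * x * a⁻¹) ^ m = a * x ^ m * a⁻¹ := conj_pow
        rw [hainv] at h2
        rw [← h2, hax, inv_pow]
      calc x ^ (k + 1) * a * (x ^ (k + 1))⁻¹ = x ^ (k + 1) * a * (a * x ^ (k + 1) * a) := by rw [h1]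
        _ = x ^ (k + 1) * (a * a) * x ^ (k + 1) * a := by group
        _ = x ^ (2 * k + 1) * x * a := by
            rw [ha, mul_one, ← pow_add, ← pow_succ]; congr 2; ring
        _ = x * a := by rw [← hk, pow_orderOf_eq_one, one_mul]
    set C := Z ⊓ centralizer ({a} : Set G) with hC
    have hle : Nat.card C * Nat.card C ≤ Nat.card Z := by
      have hy' : ∀ c ∈ C, y * c * y⁻¹ ∈ Z ∧ y * c * y⁻¹ * (x * a) = x * a * (y * c * y⁻¹) := by
        intro c hc
        refine ⟨hZn.conj_mem c hc.1 y, ?_⟩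
        rw [← hyax]
        calc y * c * y⁻¹ * (y * a * y⁻¹) = y * (c * a) * y⁻¹ := by group
          _ = y * (a * c) * y⁻¹ := by rw [mem_centralizer_singleton_iff.1 hc.2]
          _ = _ := by group
      rw [← Nat.card_prod]
      refine Nat.card_le_card_of_injective
        (fun cd : C × C => (⟨cd.1 * (y * cd.2 * y⁻¹), mul_mem cd.1.2.1 (hy' _ cd.2.2).1⟩ : Z)) ?_
      rintro ⟨c, d⟩ ⟨c', d'⟩ h
      have h' : (c : G) * (y * d * y⁻¹) = (c' : G) * (y * d' * y⁻¹) := congrArg Subtype.val h
      have h2 : (c' : G)⁻¹ * c = (y * d' * y⁻¹) * (y * d * y⁻¹)⁻¹ := by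
        rw [eq_mul_inv_iff_mul_eq, mul_assoc, h']; group
      have hw1 : (c' : G)⁻¹ * c ∈ centralizer ({a} : Set G) :=
        mul_mem (inv_mem c'.2.2) c.2.2
      have hw2 : (c' : G)⁻¹ * c ∈ centralizer ({x * a} : Set G) := by
        rw [h2]
        exact mul_mem (mem_centralizer_singleton_iff.2 (hy' _ d'.2).2)
          (inv_mem (mem_centralizer_singleton_iff.2 (hy' _ d.2).2))
      have hwx : (c' : G)⁻¹ * c * x = x * ((c' : G)⁻¹ * c) := by
        have e1 := mem_centralizer_singleton_iff.1 hw1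
        have e2 := mem_centralizer_singleton_iff.1 hw2
        calc (c' : G)⁻¹ * c * x = (c' : G)⁻¹ * c * (x * a) * a := by
              rw [mul_assoc _ (x * a) a, mul_assoc x a a, ha, mul_one]
          _ = x * (a * ((c' : G)⁻¹ * c)) * a := by rw [e2]; group
          _ = x * ((c' : G)⁻¹ * c) * (a * a) := by rw [← e1]; group
          _ = _ := by rw [ha, mul_one]
      have hw0 := hfree _ (hZV (mul_mem (inv_mem c'.2.1) c.2.1)) hwx
      have hcc : c = c' := Subtype.ext (inv_mul_eq_one.1 hw0).symm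
      subst hcc
      have : (d : G) = d' := by
        have := mul_left_cancel h'
        simpa using this
      exact Prod.ext rfl (Subtype.ext this)
    let f : Z →* Z :=
      { toFun := fun z => ⟨z * (a * z * a), mul_mem z.2 (hconjZ z z.2)⟩
        map_one' := Subtype.ext (by simp [ha])
        map_mul' := fun b c => Subtype.ext (by
          show (b : G) * c * (a * ((b : G) * c) * a) = (b : G) * (a * b * a) * ((c : G) * (a * c * a))
          have h1 : a * ((b : G) * c) * a = (a * b * a) * (a * c * a) := by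
            calc a * ((b : G) * c) * a = a * b * (a * a) * c * a := by rw [ha]; group
              _ = _ := by group
          have h2 : (c : G) * (a * b * a) = (a * b * a) * c :=
            ((hconjZ b b.2).2.2 _ (hZV c.2))
          rw [h1]
          calc (b : G) * c * (a * b * a * (a * c * a)) = b * ((c : G) * (a * b * a)) * (a * c * a) := by group
            _ = _ := by rw [h2]; group) }
    have hinv : ∀ z : Z, (z : G)⁻¹ = z := fun z => inv_eq_of_mul_eq_one_right z.2.2.1
    have hker : f.ker.map Z.subtype = C := by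
      ext z
      constructor
      · rintro ⟨z, hz, rfl⟩
        refine ⟨z.2, mem_centralizer_singleton_iff.2 ?_⟩
        have h1 : (z : G) * (a * z * a) = 1 := congrArg Subtype.val (MonoidHom.mem_ker.1 hz)
        have h2 : a * (z : G) * a = z := by
          rw [← inv_eq_of_mul_eq_one_right h1]; exact hinv z
        calc (z : G) * a = a * z * a * a := by rw [h2]
          _ = a * z := by rw [mul_assoc, ha, mul_one]
      · rintro ⟨hz, hza⟩
        refine ⟨⟨z, hz⟩, MonoidHom.mem_ker.2 (Subtype.ext ?_), rfl⟩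
        show z * (a * z * a) = 1
        rw [← mem_centralizer_singleton_iff.1 hza, mul_assoc z a a, ha, mul_one, hz.2.1]
    have hrange : f.range.map Z.subtype ≤ C := by
      rintro _ ⟨_, ⟨z, rfl⟩, rfl⟩
      refine ⟨(f z).2, mem_centralizer_singleton_iff.2 ?_⟩
      show (z : G) * (a * z * a) * a = a * ((z : G) * (a * z * a))
      have h2 : (z : G) * (a * z * a) = (a * z * a) * z := (hconjZ z z.2).2.2 _ (hZV z.2)
      calc (z : G) * (a * z * a) * a = z * (a * z) * (a * a) := by group
        _ = z * (a * z) := by rw [ha, mul_one]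
        _ = (a * a) * z * (a * z) := by rw [ha, one_mul]
        _ = a * ((a * z * a) * z) := by group
        _ = _ := by rw [← h2]
    have hcardf : Nat.card Z = Nat.card f.range * Nat.card C := by
      rw [← hker, card_map_of_injective Z.subtype_injective, ← index_ker, index_mul_card]
    have hrange' : Nat.card f.range ≤ Nat.card C := by
      rw [← card_map_of_injective Z.subtype_injective]
      exact card_le_of_le hrange
    have hCpos : 0 < Nat.card C := Nat.card_pos
    have hrangeC : f.range.map Z.subtype = C := by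
      refine eq_of_le_of_card_ge hrange ?_
      rw [card_map_of_injective Z.subtype_injective]
      exact Nat.le_of_mul_le_mul_right (hle.trans hcardf.le) hCpos
    have hCsq : Nat.card C * Nat.card C = Nat.card Z := by
      refine le_antisymm hle ?_
      rw [hcardf]; exact Nat.mul_le_mul_right _ hrange'
    -- the quotient
    let π := QuotientGroup.mk' Z
    haveI : (V.map π).Normal := Subgroup.Normal.map inferInstance π (QuotientGroup.mk'_surjective Z)
    have hcardV : Nat.card V = Nat.card (V.map π) * Nat.card Z := by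
      have h1 := index_mul_card (π.domRestrict V).ker
      rw [index_ker, MonoidHom.domRestrict_range, MonoidHom.ker_domRestrict, QuotientGroup.ker_mk'] at h1
      rw [← h1, Nat.card_congr (subgroupOfEquivOfLe hZV).toEquiv]
    have hlt : Nat.card (V.map π) < n := by
      rw [← hn, hcardV]
      refine lt_mul_of_one_lt_right Nat.card_pos ?_
      exact Finite.one_lt_card_iff_nontrivial.2 ((nontrivial_iff_ne_bot _).2 hZ1)
    have hcopx : (Nat.card (zpowers x)).Coprime (Nat.card Z) := by
      rw [Nat.card_zpowers]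
      haveI : Fact (Nat.Prime 2) := ⟨Nat.prime_two⟩
      obtain ⟨k, hk⟩ := IsPGroup.iff_card.1 (hV.to_le hZV)
      rw [hk]
      exact (Nat.Coprime.pow_right k (Nat.coprime_two_right.2 hxodd))
    have hfree' : ∀ v ∈ V.map π, v * π x = π x * v → v = 1 := by
      rintro _ ⟨v, hv, rfl⟩ hvx
      obtain ⟨c, hc, hcZ⟩ := Cfsg.Agent.Lib.Coprime.exists_centralizer_mem_leftCoset
        (A := zpowers x) (N := Z) (k := v) le_normalizer_of_normal hcopx (Or.inl inferInstance) (by
          intro b hb
          obtain ⟨m, rfl⟩ := hb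
          rw [← QuotientGroup.eq_one_iff (N := Z)]
          have : Commute (π v) (π x ^ m) := Commute.zpow_right hvx m
          show π (v⁻¹ * (x ^ m * v * (x ^ m)⁻¹)) = 1
          simp only [map_mul, map_inv, map_zpow]
          rw [← this.eq]; group)
      have hc1 : c = 1 := hfree c (by
        have := mul_mem hv (hZV hcZ); simpa using this)
        (mem_centralizer_iff.1 hc x (mem_zpowers x)).symm
      subst hc1
      rw [mul_one, inv_mem_iff] at hcZ
      exact (QuotientGroup.eq_one_iff v).2 hcZ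
    have hxodd' : Odd (orderOf (π x)) := hxodd.of_dvd_nat (orderOf_map_dvd π x)
    obtain ⟨ih1, ih2⟩ := ih _ hlt (G ⧸ Z) (V.map π) rfl (hV.map π) (π a) (π x)
      (by rw [← map_mul, ha, map_one]) (by rw [← map_mul, ← map_mul, hax, map_inv]) hxodd' hfree'
    -- involutions of `Va`
    have key : ∀ v ∈ V, (v * a) * (v * a) = 1 → ∃ u ∈ V, u * a * u⁻¹ = v * a := by
      intro v hv hva
      obtain ⟨_, ⟨u, hu, rfl⟩, hu'⟩ := ih1 (π v) ⟨v, hv, rfl⟩ (by rw [← map_mul, ← map_mul, hva, map_one])
      have hz : u⁻¹ * (v * a) * u * a⁻¹ ∈ Z := by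
        rw [← QuotientGroup.eq_one_iff (N := Z)]
        show π (u⁻¹ * (v * a) * u * a⁻¹) = 1
        simp only [map_mul, map_inv]
        rw [← hu']; group
      set z := u⁻¹ * (v * a) * u * a⁻¹ with hzdef
      have hza : z * a = u⁻¹ * (v * a) * u := by rw [hzdef]; group
      have hza2 : (z * a) * (z * a) = 1 := by
        rw [hza, show u⁻¹ * (v * a) * u * (u⁻¹ * (v * a) * u) = u⁻¹ * ((v * a) * (v * a)) * u by group,
          hva]; group
      have hzC : z ∈ C := by
        refine ⟨hz, mem_centralizer_singleton_iff.2 ?_⟩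
        have h1 : a * z * a = z := by
          have h1 : z * (a * z * a) = 1 := by rw [← hza2]; group
          have := inv_eq_of_mul_eq_one_right h1
          rw [← this]; exact hinv ⟨z, hz⟩
        calc z * a = a * z * a * a := by rw [h1]
          _ = a * z := by rw [mul_assoc, ha, mul_one]
      rw [← hrangeC] at hzC
      obtain ⟨_, ⟨w, rfl⟩, hw⟩ := hzC
      refine ⟨u * w, mul_mem hu (hZV w.2), ?_⟩
      have hw' : (w : G) * (a * w * a) = z := hw
      calc u * w * a * (u * (w : G))⁻¹ = u * (w * a * (w : G)⁻¹) * u⁻¹ := by group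
        _ = u * (w * (a * w * a) * a) * u⁻¹ := by
            rw [hinv w, show (w : G) * (a * w * a) * a = w * (a * w) * (a * a) by group, ha]
            group
        _ = v * a := by rw [hw', hza]; group
    refine ⟨key, ?_⟩
    -- fixed points map onto fixed points
    have hsurj : (V ⊓ centralizer ({a} : Set G)).map π = V.map π ⊓ centralizer ({π a} : Set (G ⧸ Z)) := by
      refine le_antisymm (le_inf (map_mono inf_le_left) ?_) ?_
      · rintro _ ⟨c, hc, rfl⟩
        rw [mem_centralizer_singleton_iff, ← map_mul, ← map_mul, mem_centralizer_singleton_iff.1 hc.2]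
      · rintro _ ⟨⟨v, hv, rfl⟩, hvc⟩
        have hz : v * a * v⁻¹ * a⁻¹ ∈ Z := by
          rw [← QuotientGroup.eq_one_iff (N := Z)]
          show π (v * a * v⁻¹ * a⁻¹) = 1
          simp only [map_mul, map_inv, mem_centralizer_singleton_iff.1 hvc]
          group
        set z := v * a * v⁻¹ * a⁻¹ with hzdef
        have hza : z * a = v * a * v⁻¹ := by rw [hzdef]; group
        have hza2 : z * a * (z * a) = 1 := by
          rw [hza, show v * a * v⁻¹ * (v * a * v⁻¹) = v * (a * a) * v⁻¹ by group, ha]; group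
        have hzC : z ∈ C := by
          refine ⟨hz, mem_centralizer_singleton_iff.2 ?_⟩
          have h1 : a * z * a = z := by
            have h1 : z * (a * z * a) = 1 := by rw [← hza2]; group
            have := inv_eq_of_mul_eq_one_right h1
            rw [← this]; exact hinv ⟨z, hz⟩
          calc z * a = a * z * a * a := by rw [h1]
            _ = a * z := by rw [mul_assoc, ha, mul_one]
        rw [← hrangeC] at hzC
        obtain ⟨_, ⟨w, rfl⟩, hw⟩ := hzC
        have hw' : (w : G) * (a * w * a) = z := hw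
        refine ⟨(w : G)⁻¹ * v, ⟨Subgroup.mul_mem _ (Subgroup.inv_mem _ (hZV w.2)) hv, mem_centralizer_singleton_iff.2 ?_⟩, ?_⟩
        · have h1 : (w : G) * a * (w : G)⁻¹ = v * a * v⁻¹ := by
            rw [← hza, ← hw', hinv w,
              show (w : G) * (a * w * a) * a = w * (a * w) * (a * a) by group, ha]
            group
          calc (w : G)⁻¹ * v * a = (w : G)⁻¹ * (v * a * v⁻¹) * v := by group
            _ = a * ((w : G)⁻¹ * v) := by rw [← h1]; group
        · show π ((w : G)⁻¹ * v) = π v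
          rw [map_mul, map_inv, show π (w : G) = 1 from (QuotientGroup.eq_one_iff _).2 w.2,
            inv_one, one_mul]
    have hcardC : Nat.card ↥(V ⊓ centralizer ({a} : Set G)) =
        Nat.card ↥(V.map π ⊓ centralizer ({π a} : Set (G ⧸ Z))) * Nat.card C := by
      have h1 := index_mul_card (π.domRestrict (V ⊓ centralizer ({a} : Set G))).ker
      rw [index_ker, MonoidHom.domRestrict_range, hsurj, MonoidHom.ker_domRestrict,
        QuotientGroup.ker_mk'] at h1
      rw [← h1]
      congr 1
      rw [← card_map_of_injective (subtype_injective _), subgroupOf_map_subtype, hC]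
      congr 2
      ext w
      exact ⟨fun h => ⟨h.1, h.2.2⟩, fun h => ⟨h.1, hZV h.1, h.2⟩⟩
    rw [hcardC, hcardV, mul_pow, ih2, sq (Nat.card C), hCsq]


/-- Let G be a finite group and r an odd prime such that G ⧸ O₂(G) is dihedral of order 2r, and let R be a Sylow r-subgroup of G with C_{O₂(G)}(R) = 1. Then N_G(R) is dihedral of order 2r; for any involution a of N_G(R), every involution of G outside O₂(G) is conjugate to a; and |C_{O₂(G)}(a)|² = |O₂(G)|. -/
theorem result {G : Type*} [Group G] [Finite G] {r : ℕ} [Fact r.Prime] (hr : r ≠ 2) [hN : (Cfsg.pCore 2 G).Normal] (hquot : Nonempty (G ⧸ Cfsg.pCore 2 G ≃* DihedralGroup r)) (R : Sylow r G) (hC : Cfsg.pCore 2 G ⊓ Subgroup.centralizer ((R : Subgroup G) : Set G) = ⊥) : Nonempty (↥(Subgroup.normalizer ((R : Subgroup G) : Set G)) ≃* DihedralGroup r) ∧ ∀ a : G, a ∈ Subgroup.normalizer ((R : Subgroup G) : Set G) → orderOf a = 2 → (∀ b : G, orderOf b = 2 → b ∉ Cfsg.pCore 2 G → ∃ g : G, g * a * g⁻¹ = b) ∧ Nat.card ↥(Cfsg.pCore 2 G ⊓ Subgroup.centralizer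 ({a} : Set G)) ^ 2 = Nat.card ↥(Cfsg.pCore 2 G) := by
  classical
  obtain ⟨φ⟩ := hquot
  haveI : Fact (Nat.Prime 2) := ⟨Nat.prime_two⟩
  have hrp : r.Prime := Fact.out
  have hrodd : Odd r := hrp.odd_of_ne_two hr
  haveI : NeZero r := ⟨hrp.ne_zero⟩
  set V := Cfsg.pCore 2 G with hVdef
  have hV : IsPGroup 2 V := Cfsg.Agent.Lib.PSolvable.pCore_isPGroup
  let π : G →* DihedralGroup r := φ.toMonoidHom.comp (QuotientGroup.mk' V)
  have hπs : Function.Surjective π := φ.surjective.comp (QuotientGroup.mk'_surjective V)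
  have hπk : ∀ g, π g = 1 ↔ g ∈ V := fun g => by
    show φ (g : G ⧸ V) = 1 ↔ _
    rw [MulEquiv.map_eq_one_iff, QuotientGroup.eq_one_iff]
  set N := Subgroup.normalizer ((R : Subgroup G) : Set G) with hNdef
  have hVR : Disjoint V (R : Subgroup G) := IsPGroup.disjoint_of_ne 2 r (fun h => hr h.symm) _ _ hV R.isPGroup'
  have hdisj : ∀ g ∈ N, g ∈ V → g = 1 := by
    intro g hgN hgV
    have hg : g ∈ Subgroup.centralizer ((R : Subgroup G) : Set G) := by
      intro y hy
      have h1 : g * y * g⁻¹ * y⁻¹ ∈ (R : Subgroup G) :=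
        Subgroup.mul_mem _ ((Subgroup.mem_normalizer_iff.1 hgN y).1 hy) (Subgroup.inv_mem _ hy)
      have h2 : g * y * g⁻¹ * y⁻¹ ∈ V := by
        rw [mul_assoc g y, mul_assoc g]
        exact mul_mem hgV (hN.conj_mem _ (inv_mem hgV) y)
      have h3 := Subgroup.disjoint_def.1 hVR h2 h1
      exact (mul_inv_eq_iff_eq_mul.1 (mul_inv_eq_one.1 h3)).symm
    exact Subgroup.mem_bot.1 (hC ▸ (⟨hgV, hg⟩ : g ∈ V ⊓ Subgroup.centralizer _))
  have hinj : ∀ g ∈ N, ∀ g' ∈ N, π g = π g' → g = g' := by
    intro g hg g' hg' he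
    have h := hdisj (g⁻¹ * g') (mul_mem (inv_mem hg) hg') ((hπk _).1 (by
      rw [map_mul, map_inv, he, inv_mul_cancel]))
    exact inv_mul_eq_one.1 h
  have hrot : ∀ y ∈ (R : Subgroup G), π y ∈ Subgroup.zpowers (DihedralGroup.r 1 : DihedralGroup r) := by
    intro y hy
    match hc : π y with
    | .r i =>
      refine ⟨(i.val : ℤ), ?_⟩
      show (DihedralGroup.r 1 : DihedralGroup r) ^ (i.val : ℤ) = _
      rw [DihedralGroup.r_one_zpow]; simp
    | .sr i =>
      exfalso
      obtain ⟨k, hk⟩ := R.isPGroup' ⟨y, hy⟩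
      have h1 : orderOf (π y) ∣ r ^ k := (orderOf_map_dvd π y).trans
        (orderOf_dvd_of_pow_eq_one (by simpa using congrArg Subtype.val hk))
      rw [hc, DihedralGroup.orderOf_sr] at h1
      exact hr ((Nat.prime_dvd_prime_iff_eq Nat.prime_two hrp).1
        (Nat.prime_two.dvd_of_dvd_pow h1)).symm
  have hcardrot : Nat.card (Subgroup.zpowers (DihedralGroup.r 1 : DihedralGroup r)) = r := by
    rw [Nat.card_zpowers, DihedralGroup.orderOf_r_one]
  have hR : (R : Subgroup G).map π = Subgroup.zpowers (DihedralGroup.r 1 : DihedralGroup r) := by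
    have hle : (R : Subgroup G).map π ≤ Subgroup.zpowers (DihedralGroup.r 1 : DihedralGroup r) := by
      rintro _ ⟨y, hy, rfl⟩; exact hrot y hy
    refine Subgroup.eq_of_le_of_card_ge hle ?_
    rw [hcardrot]
    rcases (Nat.dvd_prime hrp).1 (hcardrot ▸ Subgroup.card_dvd_of_le hle) with h | h
    · exfalso
      have hdvd : r ∣ Nat.card G := by
        refine dvd_trans ?_ (Subgroup.card_dvd_of_surjective π hπs)
        rw [DihedralGroup.nat_card]; exact dvd_mul_left r 2
      refine R.ne_bot_of_dvd_card hdvd (eq_bot_iff.2 fun y hy => ?_)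
      have : π y = 1 := Subgroup.mem_bot.1 ((Subgroup.card_eq_one.1 h) ▸ ⟨y, hy, rfl⟩)
      exact Subgroup.disjoint_def.1 hVR ((hπk y).1 this) hy
    · exact h.ge
  haveI hrotn : (Subgroup.zpowers (DihedralGroup.r 1 : DihedralGroup r)).Normal := by
    refine Subgroup.normal_of_index_eq_two ?_
    have h1 := Subgroup.card_mul_index (Subgroup.zpowers (DihedralGroup.r 1 : DihedralGroup r))
    rw [hcardrot, DihedralGroup.nat_card, mul_comm 2 r] at h1
    exact Nat.eq_of_mul_eq_mul_left hrp.pos h1
  have hNtop : N.map π = ⊤ := by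
    have h1 := Sylow.normalizer_sup_eq_top' R
      (N := (Subgroup.zpowers (DihedralGroup.r 1 : DihedralGroup r)).comap π) (by
        intro y hy; exact hrot y hy)
    have h2 := congrArg (Subgroup.map π) h1
    rw [Subgroup.map_sup, Subgroup.map_top_of_surjective π hπs, sup_eq_left.2] at h2
    · exact h2
    · rw [Subgroup.map_comap_eq_self_of_surjective hπs, ← hR]
      exact Subgroup.map_mono Subgroup.le_normalizer
  have hlift : ∀ d, ∃ g ∈ N, π g = d := fun d => by
    obtain ⟨g, hg, he⟩ := (hNtop ▸ Subgroup.mem_top d : d ∈ N.map π)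
    exact ⟨g, hg, he⟩
  have hiso : Nonempty (↥N ≃* DihedralGroup r) := by
    refine ⟨MulEquiv.ofBijective (π.domRestrict N) ⟨fun g g' he => Subtype.ext (hinj g g.2 g' g'.2 he),
      fun d => ?_⟩⟩
    obtain ⟨g, hg, he⟩ := hlift d
    exact ⟨⟨g, hg⟩, he⟩
  refine ⟨hiso, fun a haN ha2 => ?_⟩
  have haa : a * a = 1 := by rw [← sq, ← ha2, pow_orderOf_eq_one]
  have hsr : ∀ b : G, b * b = 1 → b ∉ V → ∃ i, π b = DihedralGroup.sr i := by
    intro b hb hbV
    match hc : π b with
    | .sr i => exact ⟨i, rfl⟩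
    | .r i =>
      exfalso
      refine hbV ((hπk b).1 ?_)
      have h1 : orderOf (π b) ∣ 2 :=
        orderOf_dvd_of_pow_eq_one (by rw [sq, ← map_mul, hb, map_one])
      have h2 : orderOf (π b) ∣ r :=
        orderOf_dvd_of_pow_eq_one (by rw [hc, DihedralGroup.r_pow]; simp)
      exact orderOf_eq_one_iff.1 (Nat.eq_one_of_dvd_coprimes (Nat.coprime_two_left.2 hrodd) h1 h2)
  have haV : a ∉ V := fun h => by
    rw [hdisj a haN h, orderOf_one] at ha2; omega
  obtain ⟨i, hi⟩ := hsr a haa haV
  -- a generator of `R`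
  obtain ⟨x, hxR, hx⟩ : ∃ x ∈ (R : Subgroup G), π x = DihedralGroup.r 1 := by
    have : (DihedralGroup.r 1 : DihedralGroup r) ∈ (R : Subgroup G).map π :=
      hR ▸ Subgroup.mem_zpowers _
    exact this
  have hxN : x ∈ N := Subgroup.le_normalizer hxR
  have hainv : a⁻¹ = a := inv_eq_of_mul_eq_one_right haa
  have hxa : a * x * a = x⁻¹ := by
    refine hinj _ (mul_mem (mul_mem haN hxN) haN) _ (inv_mem hxN) ?_
    rw [map_mul, map_mul, map_inv, hi, hx, DihedralGroup.sr_mul_r, DihedralGroup.sr_mul_sr,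
      DihedralGroup.inv_r]
    simp
  have hxodd : Odd (orderOf x) := by
    obtain ⟨k, hk⟩ := R.isPGroup' ⟨x, hxR⟩
    exact (hrodd.pow (n := k)).of_dvd_nat (orderOf_dvd_of_pow_eq_one (by simpa using congrArg Subtype.val hk))
  have hfree : ∀ v ∈ V, v * x = x * v → v = 1 := by
    intro v hv hvx
    refine Subgroup.mem_bot.1 (hC ▸ (⟨hv, ?_⟩ : v ∈ V ⊓ Subgroup.centralizer ((R : Subgroup G) : Set G)))
    intro y hy
    obtain ⟨k, hk⟩ : π y ∈ Subgroup.zpowers (DihedralGroup.r 1 : DihedralGroup r) := hrot y hy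
    have hyk : y = x ^ k := hinj y (Subgroup.le_normalizer hy) _ (zpow_mem hxN k) (by
      rw [map_zpow, hx]; exact hk.symm)
    subst hyk
    exact (Commute.zpow_right hvx k).eq.symm
  obtain ⟨hinvol, hcard⟩ := core_lemma (Nat.card V) G V rfl hV a x haa hxa hxodd hfree
  refine ⟨fun b hb hbV => ?_, hcard⟩
  have hbb : b * b = 1 := by rw [← sq, ← hb, pow_orderOf_eq_one]
  obtain ⟨j, hj⟩ := hsr b hbb hbV
  -- move `π b` to `π a`
  obtain ⟨k, hk⟩ := hrodd
  obtain ⟨c, hc⟩ : ∃ c : ZMod r, c + c = i - j := by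
    refine ⟨(i - j) * ((k + 1 : ℕ) : ZMod r), ?_⟩
    rw [← two_mul, mul_left_comm]
    have : ((2 * (k + 1) : ℕ) : ZMod r) = 1 := by
      rw [show 2 * (k + 1) = r + 1 by omega]; simp
    rw [Nat.cast_mul] at this
    rw [show (2 : ZMod r) = ((2 : ℕ) : ZMod r) by simp, this, mul_one]
  obtain ⟨g, hg, hgπ⟩ := hlift (DihedralGroup.r c)
  have hz : g⁻¹ * b * g * a ∈ V := by
    refine (hπk _).1 ?_
    rw [map_mul, map_mul, map_mul, map_inv, hgπ, hj, hi, DihedralGroup.inv_r, DihedralGroup.r_mul_sr,
      DihedralGroup.sr_mul_r, DihedralGroup.sr_mul_sr, DihedralGroup.one_def]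
    congr 1
    linear_combination -hc
  obtain ⟨u, -, hu⟩ := hinvol _ hz (by
    rw [show g⁻¹ * b * g * a * a = g⁻¹ * b * g * (a * a) by group, haa, mul_one,
      show g⁻¹ * b * g * (g⁻¹ * b * g) = g⁻¹ * (b * b) * g by group, hbb]; group)
  refine ⟨g * u, ?_⟩
  rw [show g * u * a * (g * u)⁻¹ = g * (u * a * u⁻¹) * g⁻¹ by group, hu,
    show g * (g⁻¹ * b * g * a * a) * g⁻¹ = g * (g⁻¹ * b * g * (a * a)) * g⁻¹ by group, haa]
  group

end Cfsg.Agent.S2873
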