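import Cfsg.Statements.S2874
import Mathlib

set_option autoImplicit false
open Cfsg

namespace Cfsg.Agent.S2874
theorem a4_facts : ∃ c : ↥(alternatingGroup (Fin 4)), c ≠ 1 ∧ c * c * c = 1 ∧
    (∀ a : ↥(alternatingGroup (Fin 4)), a * a = 1 → a * (c * a * (c * c)) = c * c * a * c) ∧
    (∀ e : ↥(alternatingGroup (Fin 4)), ∃ v : ↥(alternatingGroup (Fin 4)), ∃ i : Fin 3,
      v * v = 1 ∧ e = v * c ^ (i : ℕ)) ∧
    Fintype.card {a : ↥(alternatingGroup (Fin 4)) // a * a = 1} = 4 := by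
  refine ⟨⟨Equiv.swap 0 1 * Equiv.swap 1 2, Equiv.Perm.mem_alternatingGroup.2 (by decide)⟩, by decide, by decide, ?_, ?_, ?_⟩
  · decide +kernel
  · decide +kernel
  · decide +kernel

theorem f2_case_one : ∀ a b c d e f g h : ZMod 2,
    let C : Matrix (Fin 2) (Fin 2) (ZMod 2) := !![a, b; c, d]
    let A : Matrix (Fin 2) (Fin 2) (ZMod 2) := !![e, f; g, h]
    C * C * C = 1 → C ≠ 1 → A * A = 1 → A * (C * A * (C * C)) = C * C * A * C → A = 1 := by
  decide +kernel

theorem f2_idem : ∀ a b c d e f g h : ZMod 2,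
    let C : Matrix (Fin 2) (Fin 2) (ZMod 2) := !![a, b; c, d]
    let A : Matrix (Fin 2) (Fin 2) (ZMod 2) := !![e, f; g, h]
    C * C * C = 1 → C ≠ 1 → A * A = A → A + C * A * (C * C) = C * C * A * C → A = 0 := by
  decide +kernel

theorem f2_set : ∀ a b c d e f g h : ZMod 2,
    let C : Matrix (Fin 2) (Fin 2) (ZMod 2) := !![a, b; c, d]
    let A : Matrix (Fin 2) (Fin 2) (ZMod 2) := !![e, f; g, h]
    let C0 : Matrix (Fin 2) (Fin 2) (ZMod 2) := !![0, 1; 1, 1]
    C * C * C = 1 → C ≠ 1 → A + C * A * (C * C) = C * C * A * C →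
      A + C0 * A * (C0 * C0) = C0 * C0 * A * C0 := by
  decide +kernel

theorem f2_count : Fintype.card {A : Matrix (Fin 2) (Fin 2) (ZMod 2) //
    A + !![0, 1; 1, 1] * A * (!![0, 1; 1, 1] * !![0, 1; 1, 1]) =
      !![0, 1; 1, 1] * !![0, 1; 1, 1] * A * !![0, 1; 1, 1]} ≤ 4 := by
  decide +kernel

theorem card_gl_f2 : Nat.card (GL (Fin 2) (ZMod 2)) = 6 := by
  rw [Matrix.card_GL_field]; simp [Fin.prod_univ_two]


/-- For k ≥ 2, any two subgroups of GL₂(ℤ/2ᵏℤ) (the automorphism group of the homocyclic group ℤ/2ᵏ × ℤ/2ᵏ) that are isomorphic to the alternating group of degree 4 are conjugate. -/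
theorem result (k : ℕ) (hk : 2 ≤ k) (H₁ H₂ : Subgroup (GL (Fin 2) (ZMod (2 ^ k)))) (h₁ : Nonempty (↥H₁ ≃* ↥(alternatingGroup (Fin 4)))) (h₂ : Nonempty (↥H₂ ≃* ↥(alternatingGroup (Fin 4)))) : ∃ g : GL (Fin 2) (ZMod (2 ^ k)), H₂ = H₁.map (MulAut.conj g).toMonoidHom := by
  obtain ⟨n, rfl⟩ : ∃ n, k = n + 2 := ⟨k - 2, by omega⟩
  haveI : Fact (Nat.Prime 3) := ⟨by norm_num⟩
  haveI : NeZero (2 ^ (n + 2)) := ⟨by positivity⟩
  let r₀ : ZMod (2 ^ (n + 2)) →+* ZMod 2 :=
    ZMod.castHom (dvd_pow_self 2 (by omega)) (ZMod 2)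
  let r := (r₀.mapMatrix : Matrix (Fin 2) (Fin 2) (ZMod (2 ^ (n + 2))) →+* _)
  let ρ : GL (Fin 2) (ZMod (2 ^ (n + 2))) →* GL (Fin 2) (ZMod 2) := Units.map r.toMonoidHom
  have hρ : ∀ g, ((ρ g : GL (Fin 2) (ZMod 2)) : Matrix (Fin 2) (Fin 2) (ZMod 2)) = r g := fun g => rfl
  -- kernel of reduction
  have hr0 : ∀ a : ZMod (2 ^ (n + 2)), r₀ a = 0 → ∃ b, a = 2 * b := by
    intro a ha
    rw [← ZMod.natCast_zmod_val a, map_natCast, ZMod.natCast_eq_zero_iff] at ha
    obtain ⟨b, hb⟩ := ha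
    exact ⟨(b : ℕ), by rw [← ZMod.natCast_zmod_val a, hb]; push_cast; ring⟩
  have hrM : ∀ B, r B = 0 → ∃ A, B = (2 : ZMod (2 ^ (n + 2))) • A := by
    intro B hB
    have h1 : ∀ i j, ∃ b, B i j = 2 * b := fun i j => hr0 _ (congrFun (congrFun hB i) j :)
    choose f hf using h1
    exact ⟨Matrix.of f, by ext i j; simpa using hf i j⟩
  have heven : ∀ (m : ℕ), m < n + 2 → ∀ A : Matrix (Fin 2) (Fin 2) (ZMod (2 ^ (n + 2))),
      (2 : ZMod (2 ^ (n + 2))) ^ m • A = 0 → r A = 0 := by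
    intro m hm A hA
    ext i j
    have h1 : (2 : ZMod (2 ^ (n + 2))) ^ m * A i j = 0 := by
      have := congrFun (congrFun hA i) j; simpa using this
    rw [← ZMod.natCast_zmod_val (A i j)] at h1
    have h2 : ((2 ^ m * (A i j).val : ℕ) : ZMod (2 ^ (n + 2))) = 0 := by push_cast; exact h1
    rw [ZMod.natCast_eq_zero_iff] at h2
    have e : 2 ^ (n + 2) = 2 ^ m * 2 ^ (n + 2 - m) := by rw [← pow_add]; congr 1; omega
    have h3 := Nat.dvd_of_mul_dvd_mul_left (by positivity) ((dvd_of_eq e.symm).trans h2)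
    show r₀ (A i j) = 0
    rw [← ZMod.natCast_zmod_val (A i j), map_natCast, ZMod.natCast_eq_zero_iff]
    exact (dvd_pow_self 2 (by omega)).trans h3
  have hzero : (2 : ZMod (2 ^ (n + 2))) ^ (n + 2) = 0 := by
    have := ZMod.natCast_self (2 ^ (n + 2))
    push_cast at this
    exact this
  have hker : ∀ g, ρ g = 1 → ∃ m, orderOf g ∣ 2 ^ m := by
    intro g hg
    have hkg : ∀ j : ℕ, ∃ A : Matrix (Fin 2) (Fin 2) (ZMod (2 ^ (n + 2))),
        (g ^ 2 ^ j).val = 1 + (2 : ZMod (2 ^ (n + 2))) ^ (j + 1) • A := by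
      intro j
      induction j with
      | zero =>
        obtain ⟨A, hA⟩ := hrM ((g : Matrix (Fin 2) (Fin 2) _) - 1)
          (by rw [map_sub, map_one, ← hρ, hg]; simp)
        exact ⟨A, by simp [← hA]⟩
      | succ j ih =>
        obtain ⟨A, hA⟩ := ih
        refine ⟨A + (2 : ZMod (2 ^ (n + 2))) ^ j • (A * A), ?_⟩
        rw [pow_succ 2 j, pow_mul, sq, Units.val_mul, hA]
        simp only [add_mul, mul_add, one_mul, mul_one, Matrix.smul_mul, Matrix.mul_smul, smul_add,
          smul_smul]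
        module
    obtain ⟨A, hA⟩ := hkg (n + 1)
    refine ⟨n + 1, orderOf_dvd_of_pow_eq_one (Units.ext ?_)⟩
    rw [hA]
    show 1 + (2 : ZMod (2 ^ (n + 2))) ^ (n + 2) • A = 1
    rw [hzero, zero_smul, add_zero]
  have hsmul0 : ∀ (j : ℕ) (M : Matrix (Fin 2) (Fin 2) (ZMod (2 ^ (n + 2)))),
      r ((2 : ZMod (2 ^ (n + 2))) ^ (j + 1) • M) = 0 := by
    intro j M
    ext a b
    show r₀ (((2 : ZMod (2 ^ (n + 2))) ^ (j + 1) • M) a b) = 0
    rw [Matrix.smul_apply, smul_eq_mul, map_mul, map_pow, map_ofNat,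
      show (2 : ZMod 2) = 0 from rfl, zero_pow (by omega), zero_mul]
  -- the fixed four-element set
  let C0 : Matrix (Fin 2) (Fin 2) (ZMod 2) := !![0, 1; 1, 1]
  let lift : Matrix (Fin 2) (Fin 2) (ZMod 2) → Matrix (Fin 2) (Fin 2) (ZMod (2 ^ (n + 2))) :=
    fun A => A.map fun a => ((a.val : ℕ) : ZMod (2 ^ (n + 2)))
  have hlift : ∀ A, r (lift A) = A := by
    intro A; ext i j
    show r₀ ((((A i j).val : ℕ) : ZMod (2 ^ (n + 2)))) = A i j
    rw [map_natCast, ZMod.natCast_zmod_val]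
  have h22 : (2 : ZMod 2) = 0 := rfl
  let T : Set (GL (Fin 2) (ZMod (2 ^ (n + 2)))) := {g | ∃ A,
    A + C0 * A * (C0 * C0) = C0 * C0 * A * C0 ∧
      (g : Matrix (Fin 2) (Fin 2) _) = 1 + (2 : ZMod (2 ^ (n + 2))) ^ (n + 1) • lift A}
  have hT : T.ncard ≤ 4 := by
    let S := {A : Matrix (Fin 2) (Fin 2) (ZMod 2) //
      A + C0 * A * (C0 * C0) = C0 * C0 * A * C0}
    have h1 : Nat.card T ≤ Nat.card S := by
      refine Nat.card_le_card_of_injective (fun g => (⟨g.2.choose, g.2.choose_spec.1⟩ : S)) ?_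
      intro g g' h
      refine Subtype.ext (Units.ext ?_)
      rw [g.2.choose_spec.2, g'.2.choose_spec.2, show g.2.choose = g'.2.choose from congrArg Subtype.val h]
    rw [← Nat.card_coe_set_eq]
    refine h1.trans ?_
    rw [Nat.card_eq_fintype_card]
    exact f2_count
  -- every `A₄` has its four-group equal to `T` and a marked element of order 3
  have main : ∀ H : Subgroup (GL (Fin 2) (ZMod (2 ^ (n + 2)))),
      Nonempty (↥H ≃* ↥(alternatingGroup (Fin 4))) →
      ∃ c ∈ H, orderOf c = 3 ∧ {g | g ∈ H ∧ g * g = 1} = T ∧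
        ∀ e ∈ H, ∃ v ∈ T, ∃ i : ℕ, e = v * c ^ i := by
    rintro H ⟨φ⟩
    obtain ⟨c', hc1, hc3, hrel, hgen, hcount⟩ := a4_facts
    set c := φ.symm c' with hc
    have h3 : orderOf (c : GL (Fin 2) (ZMod (2 ^ (n + 2)))) = 3 := by
      rw [Subgroup.orderOf_coe, hc, MulEquiv.orderOf_eq]
      refine orderOf_eq_prime ?_ hc1
      rw [pow_three, ← mul_assoc]; exact hc3
    have hCne : r (c : GL (Fin 2) (ZMod (2 ^ (n + 2)))) ≠ 1 := by
      intro h
      obtain ⟨m, hm⟩ := hker _ (Units.ext (by rw [hρ]; exact h))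
      rw [h3] at hm
      have := (Nat.prime_dvd_prime_iff_eq (by norm_num : Nat.Prime 3) Nat.prime_two).1
        ((by norm_num : Nat.Prime 3).dvd_of_dvd_pow hm)
      omega
    have hsubset : ∀ g ∈ H, g * g = 1 → g ∈ T := by
      intro g hg hgg
      set a := φ ⟨g, hg⟩ with hadef
      have haa : a * a = 1 := by
        rw [hadef, ← map_mul, show (⟨g, hg⟩ : H) * ⟨g, hg⟩ = 1 from Subtype.ext hgg, map_one]
      have hr1 := congrArg (fun z => ((φ.symm z : H) : GL (Fin 2) (ZMod (2 ^ (n + 2))))) (hrel a haa)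
      simp only [map_mul, hadef, MulEquiv.symm_apply_apply, Subgroup.coe_mul, ← hc] at hr1
      have hr2 := congrArg (fun z => ((φ.symm z : H) : GL (Fin 2) (ZMod (2 ^ (n + 2))))) hc3
      simp only [map_mul, map_one, Subgroup.coe_mul, OneMemClass.coe_one, ← hc] at hr2
      have hG : (g : Matrix (Fin 2) (Fin 2) (ZMod (2 ^ (n + 2)))) * g = 1 := congrArg Units.val hgg
      have hR := congrArg Units.val hr1
      have hC := congrArg Units.val hr2
      simp only [Units.val_mul, Units.val_one] at hR hC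
      set X : Matrix (Fin 2) (Fin 2) (ZMod (2 ^ (n + 2))) := ↑(c : GL (Fin 2) (ZMod (2 ^ (n + 2))))
      set g' : Matrix (Fin 2) (Fin 2) (ZMod (2 ^ (n + 2))) := ↑g with hg'
      have hC' : r X * r X * r X = 1 := by rw [← map_mul, ← map_mul, hC, map_one]
      have e1 := Matrix.eta_fin_two (r X)
      have hg1 : r g' = 1 := by
        have := f2_case_one (r X 0 0) (r X 0 1) (r X 1 0) (r X 1 1) (r g' 0 0) (r g' 0 1) (r g' 1 0) (r g' 1 1)
        simp only [← e1, ← Matrix.eta_fin_two (r g')] at this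
        exact this hC' hCne (by rw [← map_mul, hG, map_one]) (by simp only [← map_mul, hR])
      -- `g = 1 + 2^j A`
      have hprod : ∀ j A, g' = 1 + (2 : ZMod (2 ^ (n + 2))) ^ (j + 1) • A → j < n + 1 →
          r (A + X * A * (X * X)) = r (X * X * A * X) ∧
          (j + 1 < n + 1 → r (A + (2 : ZMod (2 ^ (n + 2))) ^ j • (A * A)) = 0) := by
        intro j A hA hj
        constructor
        · rw [← sub_eq_zero, ← map_sub]
          have h2 : (2 : ZMod (2 ^ (n + 2))) ^ (j + 1) • (A + X * A * (X * X) - X * X * A * X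
              + (2 : ZMod (2 ^ (n + 2))) ^ (j + 1) • (A * (X * A * (X * X)))) = 0 := by
            have hXXX : X * (X * X) = 1 := by rw [← mul_assoc]; exact hC
            rw [hA] at hR
            simp only [add_mul, mul_add, one_mul, mul_one, Matrix.smul_mul, Matrix.mul_smul, hXXX, hC,
              smul_add, smul_smul] at hR
            rw [smul_add, smul_sub, smul_add, smul_smul, sub_add_eq_add_sub, sub_eq_zero]
            exact add_left_cancel (a := (1 : Matrix (Fin 2) (Fin 2) (ZMod (2 ^ (n + 2)))))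
              (by rw [← hR]; module)
          have h3 := heven _ (by omega) _ h2
          rw [map_add] at h3
          rwa [hsmul0, add_zero] at h3
        · intro hj'
          refine heven (j + 2) (by omega) _ ?_
          rw [hA] at hG
          simp only [add_mul, mul_add, one_mul, mul_one, Matrix.smul_mul, Matrix.mul_smul,
            smul_smul] at hG
          exact add_left_cancel (a := (1 : Matrix (Fin 2) (Fin 2) (ZMod (2 ^ (n + 2)))))
            (by rw [add_zero]; conv_rhs => rw [← hG]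
                module)
      have hlevel : ∀ j, j ≤ n → ∃ A, g' = 1 + (2 : ZMod (2 ^ (n + 2))) ^ (j + 1) • A := by
        intro j
        induction j with
        | zero =>
          intro _
          obtain ⟨A, hA⟩ := hrM (g' - 1) (by rw [map_sub, map_one, hg1, sub_self])
          exact ⟨A, by simp [← hA]⟩
        | succ j ih =>
          intro hj
          obtain ⟨A, hA⟩ := ih (by omega)
          obtain ⟨hs, hq⟩ := hprod j A hA (by omega)
          have hq := hq (by omega)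
          have hA0 : r A = 0 := by
            cases j with
            | zero =>
              rw [pow_zero, one_smul, map_add, map_mul, add_eq_zero_iff_eq_neg] at hq
              have hneg : ∀ M : Matrix (Fin 2) (Fin 2) (ZMod 2), -M = M := fun M => by
                ext i l; exact ZMod.neg_eq_self_mod_two _
              rw [hneg] at hq
              have := f2_idem (r X 0 0) (r X 0 1) (r X 1 0) (r X 1 1) (r A 0 0) (r A 0 1) (r A 1 0) (r A 1 1)
              simp only [← e1, ← Matrix.eta_fin_two (r A)] at this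
              exact this hC' hCne hq.symm (by simp only [← map_mul, ← map_add, hs])
            | succ i =>
              rwa [map_add, hsmul0, add_zero] at hq
          obtain ⟨B, hB⟩ := hrM A hA0
          exact ⟨B, by rw [hA, hB, smul_smul, ← pow_succ]⟩
      obtain ⟨A, hA⟩ := hlevel n le_rfl
      obtain ⟨hs, -⟩ := hprod n A hA (by omega)
      refine ⟨r A, ?_, ?_⟩
      · have := f2_set (r X 0 0) (r X 0 1) (r X 1 0) (r X 1 1) (r A 0 0) (r A 0 1) (r A 1 0) (r A 1 1)
        simp only [← e1, ← Matrix.eta_fin_two (r A)] at this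
        exact this hC' hCne (by simp only [← map_mul, ← map_add, hs])
      · show g' = _
        rw [hA]
        congr 1
        obtain ⟨B, hB⟩ := hrM (A - lift (r A)) (by rw [map_sub, hlift, sub_self])
        rw [← sub_eq_zero, ← smul_sub, hB, smul_smul, ← pow_succ]
        show (2 : ZMod (2 ^ (n + 2))) ^ (n + 2) • B = 0
        rw [hzero, zero_smul]
    have hset : {g | g ∈ H ∧ g * g = 1} = T := by
      refine Set.eq_of_subset_of_ncard_le (fun g hg => hsubset g hg.1 hg.2) ?_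
      refine hT.trans ?_
      rw [← Nat.card_coe_set_eq]
      refine le_of_eq ?_
      rw [← hcount, ← Nat.card_eq_fintype_card]
      exact Nat.card_congr
        { toFun := fun a => ⟨φ.symm a.1, (φ.symm a.1).2, by
            rw [← Subgroup.coe_mul, ← map_mul, a.2, map_one]; rfl⟩
          invFun := fun g => ⟨φ ⟨g.1, g.2.1⟩, by
            rw [← map_mul]
            exact (congrArg φ (Subtype.ext g.2.2 : (⟨g.1, g.2.1⟩ : H) * ⟨g.1, g.2.1⟩ = 1)).trans (map_one φ)⟩
          left_inv := fun a => Subtype.ext (φ.apply_symm_apply a.1)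
          right_inv := fun g => Subtype.ext
            (show ((φ.symm (φ ⟨g.1, g.2.1⟩) : H) : GL (Fin 2) (ZMod (2 ^ (n + 2)))) = g.1 by
              rw [φ.symm_apply_apply]) }
    refine ⟨c, c.2, h3, hset, fun e he => ?_⟩
    obtain ⟨v, i, hv, hvi⟩ := hgen (φ ⟨e, he⟩)
    refine ⟨φ.symm v, hset ▸ ⟨(φ.symm v).2, ?_⟩, i, ?_⟩
    · rw [← Subgroup.coe_mul, ← map_mul, hv, map_one]; rfl
    · have := congrArg (fun z => ((φ.symm z : H) : GL (Fin 2) (ZMod (2 ^ (n + 2))))) hvi
      simpa [hc] using this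
  obtain ⟨c₁, hc₁H, hc₁, hV₁, hgen₁⟩ := main H₁ h₁
  obtain ⟨c₂, hc₂H, hc₂, hV₂, -⟩ := main H₂ h₂
  -- Sylow 3-subgroups have order 3
  have hsyl : ∀ P : Sylow 3 (GL (Fin 2) (ZMod (2 ^ (n + 2)))), ∀ c ∈ P, orderOf c = 3 →
      (P : Subgroup (GL (Fin 2) (ZMod (2 ^ (n + 2))))) = Subgroup.zpowers c := by
    intro P c hcP hc
    have hinj : Function.Injective (ρ.domRestrict (P : Subgroup (GL (Fin 2) (ZMod (2 ^ (n + 2)))))) := by
      rw [injective_iff_map_eq_one]
      intro g hg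
      obtain ⟨m, hm⟩ := hker g hg
      obtain ⟨j, hj⟩ := IsPGroup.iff_orderOf.1 P.2 g
      rw [Subgroup.orderOf_coe, hj] at hm
      have : 3 ^ j = 1 := Nat.eq_one_of_dvd_coprimes
        (Nat.Coprime.pow j m (by norm_num : Nat.Coprime 3 2)) dvd_rfl hm
      exact orderOf_eq_one_iff.1 (hj.trans this)
    obtain ⟨j, hj⟩ := IsPGroup.iff_card.1 P.2
    have hdvd := Subgroup.card_dvd_of_injective _ hinj
    rw [card_gl_f2, hj] at hdvd
    refine (Subgroup.eq_of_le_of_card_ge (Subgroup.zpowers_le.2 hcP) ?_).symm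
    rw [Nat.card_zpowers, hc, hj]
    rcases j with _ | _ | j
    · norm_num
    · norm_num
    · exact absurd ((Dvd.intro (3 ^ j) (by ring)).trans hdvd) (by norm_num : ¬ 9 ∣ 6)
  have hp : ∀ c : GL (Fin 2) (ZMod (2 ^ (n + 2))), orderOf c = 3 → IsPGroup 3 (Subgroup.zpowers c) :=
    fun c hc => IsPGroup.of_card (n := 1) (by rw [Nat.card_zpowers, hc, pow_one])
  obtain ⟨P₁, hP₁⟩ := (hp c₁ hc₁).exists_le_sylow
  obtain ⟨P₂, hP₂⟩ := (hp c₂ hc₂).exists_le_sylow
  obtain ⟨x, hx⟩ := MulAction.exists_smul_eq (GL (Fin 2) (ZMod (2 ^ (n + 2)))) P₁ P₂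
  refine ⟨x, (Subgroup.eq_of_le_of_card_ge ?_ ?_).symm⟩
  · rintro _ ⟨e, he, rfl⟩
    obtain ⟨v, hv, i, rfl⟩ := hgen₁ e he
    rw [← hV₁] at hv
    have h4 : MulAut.conj x c₁ ∈ H₂ := by
      have h5 : MulAut.conj x c₁ ∈ (P₂ : Subgroup (GL (Fin 2) (ZMod (2 ^ (n + 2))))) := by
        rw [← hx, Sylow.coe_subgroup_smul]
        exact Subgroup.smul_mem_pointwise_smul c₁ (MulAut.conj x) _ (hP₁ (Subgroup.mem_zpowers c₁))
      rw [hsyl P₂ c₂ (hP₂ (Subgroup.mem_zpowers c₂)) hc₂] at h5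
      exact Subgroup.zpowers_le.2 hc₂H h5
    obtain ⟨φ⟩ := h₁
    have h6 : MulAut.conj x v ∈ H₂ := by
      obtain ⟨-, -, -, hV, -⟩ := main (H₁.map (MulAut.conj x).toMonoidHom)
        ⟨((H₁.equivMapOfInjective _ (MulAut.conj x).injective).symm).trans φ⟩
      have : MulAut.conj x v ∈ T := by
        rw [← hV]
        exact ⟨⟨v, hv.1, rfl⟩, by rw [← map_mul, hv.2, map_one]⟩
      rw [← hV₂] at this
      exact this.1
    show MulAut.conj x (v * c₁ ^ i) ∈ H₂
    rw [map_mul, map_pow]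
    exact H₂.mul_mem h6 (H₂.pow_mem h4 i)
  · obtain ⟨φ⟩ := h₁; obtain ⟨ψ⟩ := h₂
    refine le_of_eq ?_
    rw [Subgroup.card_map_of_injective (MulAut.conj x).injective, Nat.card_congr φ.toEquiv,
      Nat.card_congr ψ.toEquiv]

end Cfsg.Agent.S2874
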