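import Cfsg.Statements.S2896
import Mathlib
import Cfsg.Agent.Lib.CharP.Fitting
import Cfsg.Agent.Lib.LargeQ55.Basic

set_option autoImplicit false
open Cfsg

namespace Cfsg.Agent.S2896
open Subgroup in
/-- If `z` is central in the `p`-group `X` and `C(z)` has characteristic `p`, so has `N(X)`. -/
theorem normalizer_charP {G : Type*} [Group G] [Finite G] {p : ℕ} [Fact p.Prime] {X : Subgroup G}
    (hX : IsPGroup p X) {z : G} (hz : z ∈ X) (hzc : z ∈ centralizer (X : Set G))
    (hK : centralizer (pCore p (centralizer ({z} : Set G)) : Set (centralizer ({z} : Set G))) ≤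
      pCore p (centralizer ({z} : Set G))) :
    centralizer (pCore p (normalizer (X : Set G)) : Set (normalizer (X : Set G))) ≤
      pCore p (normalizer (X : Set G)) := by
  have hXK : X ≤ centralizer ({z} : Set G) := fun x hx =>
    mem_centralizer_singleton_iff.2 (mem_centralizer_iff.mp hzc x hx)
  have hCK : centralizer (X : Set G) ≤ centralizer ({z} : Set G) :=
    centralizer_le (Set.singleton_subset_iff.2 hz)
  have hL := Cfsg.Agent.Lib.CharP.centralizer_pCore_inf_normalizer_le hXK hX hK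
  set N := normalizer (X : Set G) with hN
  set C := centralizer (X : Set G) with hC
  have hCN : C ≤ N := centralizer_le_normalizer _
  have hNC : N ≤ normalizer (C : Set G) := Cfsg.Agent.Lib.CharP.le_normalizer_centralizer le_rfl
  have hCc : centralizer (pCore p C : Set C) ≤ pCore p C :=
    Cfsg.Agent.Lib.CharP.centralizer_pCore_le_of_normalized (le_inf hCK hCN)
      ((Cfsg.Agent.Lib.CharP.pCoreOf_le _).trans (inf_le_right.trans hNC)) hL
  have hXc : X ≤ pCoreOf p N := Cfsg.Agent.Lib.CharP.le_pCoreOf le_normalizer hX le_rfl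
  have hsub : pCoreOf p C ≤ pCoreOf p N := by
    refine Cfsg.Agent.Lib.CharP.le_pCoreOf ((Cfsg.Agent.Lib.CharP.pCoreOf_le C).trans hCN)
      (Cfsg.Agent.Lib.CharP.pCoreOf_isPGroup C) ?_
    have key : ∀ a ∈ N, ∀ y ∈ pCoreOf p C, a * y * a⁻¹ ∈ pCoreOf p C := by
      intro a ha
      have hCa : C.map (MulAut.conj a).toMonoidHom = C :=
        le_antisymm (by rintro _ ⟨y, hy, rfl⟩; exact (mem_normalizer_iff.mp (hNC ha) y).mp hy)
          fun y hy => ⟨a⁻¹ * y * a, by
            simpa using (mem_normalizer_iff.mp (hNC (inv_mem ha)) y).mp hy, by simp [mul_assoc]⟩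
      have h2 : (pCoreOf p C).map (MulAut.conj a).toMonoidHom ≤ pCoreOf p C := by
        refine Cfsg.Agent.Lib.CharP.le_pCoreOf
          ((map_mono (Cfsg.Agent.Lib.CharP.pCoreOf_le C)).trans hCa.le)
          ((Cfsg.Agent.Lib.CharP.pCoreOf_isPGroup C).map _) ?_
        exact hCa.ge.trans ((map_mono (Cfsg.Agent.Lib.CharP.le_normalizer_pCoreOf C)).trans
          (le_normalizer_map _))
      exact fun y hy => h2 ⟨y, hy, rfl⟩
    intro a ha
    rw [mem_normalizer_iff]
    refine fun y => ⟨key a ha y, fun h => ?_⟩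
    simpa [mul_assoc] using key a⁻¹ (inv_mem ha) _ h
  refine Cfsg.Agent.Lib.CharP.centralizer_pCore_le_of_forall fun x hxN hx hxc => ?_
  exact Cfsg.Agent.Lib.CharP.eq_one_of_centralizes_pCoreOf hCc (centralizer_le hXc hxc) hx
    (centralizer_le hsub hxc)

/-- Characteristic `p` of element centralizers is invariant under conjugation. -/
theorem charP_conj {G : Type*} [Group G] [Finite G] {p : ℕ} {z w g : G}
    (hw : w = g * z * g⁻¹)
    (hK : Subgroup.centralizer (pCore p (Subgroup.centralizer ({z} : Set G)) :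
        Set (Subgroup.centralizer ({z} : Set G))) ≤ pCore p (Subgroup.centralizer ({z} : Set G))) :
    Subgroup.centralizer (pCore p (Subgroup.centralizer ({w} : Set G)) :
        Set (Subgroup.centralizer ({w} : Set G))) ≤ pCore p (Subgroup.centralizer ({w} : Set G)) := by
  have e : (Subgroup.centralizer ({z} : Set G)).map (MulAut.conj g).toMonoidHom =
      Subgroup.centralizer ({w} : Set G) := by
    subst hw
    ext x
    simp only [Subgroup.mem_map, Subgroup.mem_centralizer_singleton_iff]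
    constructor
    · rintro ⟨y, hy, rfl⟩
      simp [mul_assoc, ← mul_assoc y, hy]
    · intro h
      refine ⟨g⁻¹ * x * g, ?_, by simp [mul_assoc]⟩
      calc g⁻¹ * x * g * z = g⁻¹ * (x * (g * z * g⁻¹)) * g := by group
        _ = g⁻¹ * (g * z * g⁻¹ * x) * g := by rw [h]
        _ = z * (g⁻¹ * x * g) := by group
  exact Cfsg.Agent.Lib.CharP.centralizer_pCore_le_of_equiv
    (((Subgroup.centralizer ({z} : Set G)).equivMapOfInjective (MulAut.conj g).toMonoidHom
      (MulAut.conj g).injective).trans (MulEquiv.subgroupCongr e)) hK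

/-- A nontrivial `p`-group normalised by the `p`-group `Q` has an element of order `p` fixed by `Q`. -/
theorem exists_fixed_order {G : Type*} [Group G] [Finite G] {p : ℕ} [hp : Fact p.Prime]
    {Q R : Subgroup G} (hQ : IsPGroup p Q) (hR : IsPGroup p R)
    (hn : Q ≤ Subgroup.normalizer (R : Set G)) (hR1 : R ≠ ⊥) :
    ∃ z ∈ R, orderOf z = p ∧ z ∈ Subgroup.centralizer (Q : Set G) := by
  obtain ⟨w, hwR, hw1, hwc⟩ := Cfsg.Agent.Lib.LargeQ55.exists_fixed_ne_one hQ hR hn hR1
  obtain ⟨k, hk⟩ := IsPGroup.iff_orderOf.mp hR ⟨w, hwR⟩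
  rw [← Subgroup.orderOf_coe] at hk
  have hd : p ∣ orderOf w := by
    rw [hk]
    refine dvd_pow_self p ?_
    rintro rfl
    exact hw1 (orderOf_eq_one_iff.1 (by simpa using hk))
  exact ⟨w ^ (orderOf w / p), R.pow_mem hwR _, orderOf_pow_orderOf_div (orderOf_pos w).ne' hd,
    pow_mem hwc _⟩

theorem conj_mem_sylow {G : Type*} [Group G] {p : ℕ} {S T : Sylow p G} {g : G} (hg : g • S = T)
    {x : G} : x ∈ T ↔ g⁻¹ * x * g ∈ S := by
  subst hg
  show x ∈ ((g • S : Sylow p G) : Subgroup G) ↔ _
  rw [Sylow.coe_subgroup_smul, Subgroup.mem_pointwise_smul_iff_inv_smul_mem]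
  simp
  rfl


/-- Let p be a prime dividing the order of the finite group G, S a Sylow p-subgroup of G and X a subgroup of S. (i) If some nontrivial element z of the centre of X has F*(C_G(z)) = O_p(C_G(z)), then F*(N_G(X)) = O_p(N_G(X)). (ii) G has parabolic characteristic p if and only if F*(C_G(z)) = O_p(C_G(z)) for every nontrivial z ∈ Ω₁(Z(S)). (iii) If F*(C_G(z)) = O_p(C_G(z)) for every element z of S of order p, then G has local characteristic p. -/
theorem result {G : Type*} [Group G] [Finite G] {p : ℕ} [Fact p.Prime] (hdiv : p ∣ Nat.card G) (S : Sylow p G) (X : Subgroup G) (hX : X ≤ (S : Subgroup G)) : (∀ z : G, z ≠ 1 → z ∈ X → (∀ x ∈ X, x * z = z * x) → Cfsg.generalizedFittingSubgroup ↥(Subgroup.centralizer ({z} : Set G)) = Cfsg.pCore p ↥(Subgroup.centralizer ({z} : Set G)) → Cfsg.generalizedFittingSubgroup ↥(Subgroup.normalizer (X : Set G)) = Cfsg.pCore p ↥(Subgroup.normalizer (X : Set G))) ∧ (Cfsg.IsOfParabolicCharacteristic p G ↔ ∀ z : G, z ≠ 1 → z ∈ Cfsg.omegaOne p ((S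 : Subgroup G) ⊓ Subgroup.centralizer ((S : Subgroup G) : Set G)) → Cfsg.generalizedFittingSubgroup ↥(Subgroup.centralizer ({z} : Set G)) = Cfsg.pCore p ↥(Subgroup.centralizer ({z} : Set G))) ∧ ((∀ z : G, z ∈ (S : Subgroup G) → orderOf z = p → Cfsg.generalizedFittingSubgroup ↥(Subgroup.centralizer ({z} : Set G)) = Cfsg.pCore p ↥(Subgroup.centralizer ({z} : Set G))) → Cfsg.IsOfLocalCharacteristic p G) := by
  have hiff : ∀ (H : Subgroup G), Cfsg.generalizedFittingSubgroup ↥H = Cfsg.pCore p ↥H ↔
      Subgroup.centralizer (Cfsg.pCore p ↥H : Set H) ≤ Cfsg.pCore p ↥H :=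
    fun H => Cfsg.Agent.Lib.CharP.generalizedFittingSubgroup_eq_pCore_iff
  refine ⟨?_, ⟨?_, ?_⟩, ?_⟩
  · intro z _ hzX hzc h
    exact (hiff _).2 (normalizer_charP (S.isPGroup'.to_le hX) hzX
      (Subgroup.mem_centralizer_iff.2 fun x hx => hzc x hx) ((hiff _).1 h))
  · intro hG z hz1 hz
    have hzS : z ∈ (S : Subgroup G) ⊓ Subgroup.centralizer ((S : Subgroup G) : Set G) :=
      (Subgroup.closure_le _).2 (fun x hx => hx.1) hz
    set R := Subgroup.zpowers z with hR
    have hRp : IsPGroup p R := S.isPGroup'.to_le (Subgroup.zpowers_le.2 hzS.1)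
    have hR1 : R ≠ ⊥ := by simpa [hR] using hz1
    have hCR : Subgroup.centralizer ({z} : Set G) = Subgroup.centralizer (R : Set G) :=
      le_antisymm (fun x hx => Subgroup.mem_centralizer_iff.2 (by
        rintro _ ⟨n, rfl⟩
        exact ((show Commute x z from Subgroup.mem_centralizer_singleton_iff.1 hx).zpow_right n).eq.symm))
        (Subgroup.centralizer_le (Set.singleton_subset_iff.2 (Subgroup.mem_zpowers z)))
    have hSN : (S : Subgroup G) ≤ Subgroup.normalizer (R : Set G) := by
      refine le_trans ?_ (Subgroup.centralizer_le_normalizer _)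
      rw [← hCR]
      exact fun x hx => Subgroup.mem_centralizer_singleton_iff.2 (Subgroup.mem_centralizer_iff.mp hzS.2 x hx)
    refine (hiff _).2 (Cfsg.Agent.Lib.CharP.centralizer_pCore_le_of_normalized
      (K := Subgroup.normalizer (R : Set G)) ?_ ?_ (hG R hRp hR1 ⟨S, hSN⟩))
    · rw [hCR]; exact Subgroup.centralizer_le_normalizer _
    · rw [hCR]
      exact (Cfsg.Agent.Lib.CharP.pCoreOf_le _).trans
        (Cfsg.Agent.Lib.CharP.le_normalizer_centralizer le_rfl)
  · intro h R hR hR1 ⟨T, hT⟩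
    have hRT : R ≤ T := by
      have := T.3 (Q := R ⊔ T) (hR.to_sup_of_normal_left' T.isPGroup' hT) le_sup_right
      exact le_sup_left.trans this.le
    obtain ⟨w, hwR, hwo, hwc⟩ := exists_fixed_order T.isPGroup' hR hT hR1
    obtain ⟨g, hg⟩ := MulAction.exists_smul_eq G S T
    set z := g⁻¹ * w * g with hz
    have hzo : orderOf z = p := by
      rw [← hwo, hz]
      exact (MulEquiv.orderOf_eq (MulAut.conj g⁻¹) w ▸ by simp)
    have hzZ : z ∈ (S : Subgroup G) ⊓ Subgroup.centralizer ((S : Subgroup G) : Set G) := by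
      refine ⟨(conj_mem_sylow hg).1 (hRT hwR), Subgroup.mem_centralizer_iff.2 fun s hs => ?_⟩
      have hs' : g * s * g⁻¹ ∈ T := (conj_mem_sylow hg).2 (by simpa [mul_assoc] using hs)
      have := Subgroup.mem_centralizer_iff.mp hwc _ hs'
      calc s * z = g⁻¹ * (g * s * g⁻¹ * w) * g := by rw [hz]; group
        _ = g⁻¹ * (w * (g * s * g⁻¹)) * g := by rw [this]
        _ = z * s := by rw [hz]; group
    have hz1 : z ≠ 1 := fun hc => (Fact.out : p.Prime).ne_one (by rw [← hzo, hc, orderOf_one])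
    have hC := charP_conj (w := w) (g := g) (by rw [hz]; group) ((hiff _).1 (h z hz1
      (Subgroup.subset_closure ⟨hzZ, by rw [← hzo, pow_orderOf_eq_one]⟩)))
    exact normalizer_charP hR hwR (Subgroup.centralizer_le hRT hwc) hC
  · intro h
    refine ⟨hdiv, fun T hT hT1 => ?_⟩
    obtain ⟨T', hTT'⟩ := hT.exists_le_sylow
    obtain ⟨g, hg⟩ := MulAction.exists_smul_eq G S T'
    obtain ⟨w, hwT, hwo, hwc⟩ := exists_fixed_order hT hT Subgroup.le_normalizer hT1
    set z := g⁻¹ * w * g with hz
    have hzo : orderOf z = p := by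
      rw [← hwo, hz]
      exact (MulEquiv.orderOf_eq (MulAut.conj g⁻¹) w ▸ by simp)
    have hC := charP_conj (w := w) (g := g) (by rw [hz]; group)
      ((hiff _).1 (h z ((conj_mem_sylow hg).1 (hTT' hwT)) hzo))
    exact normalizer_charP hT hwT hwc hC

end Cfsg.Agent.S2896
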