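import Cfsg.Statements.S2879
import Mathlib
import Cfsg.Agent.S2896
import Cfsg.Agent.Lib.SolvableCore.Basic
import Cfsg.Agent.Lib.TwoGroup.Recognition
import Cfsg.Agent.Lib.TwoGroup.QuasiDihedral
import Cfsg.Agent.Lib.TwoGroup.AutTwoGroup

set_option autoImplicit false
open Cfsg

namespace Cfsg.Agent.S2879
abbrev Q8 := QuaternionGroup 2

/-- The endomap of `Q₈` given by the images of the two generators. -/
def autOf (u v : Q8) : Q8 → Q8
  | .a i => u ^ i.val
  | .xa i => v * u ^ i.val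

/-- The automorphism of order three. -/
def sfun : Q8 → Q8 := autOf (.xa 0) (.a 1 * .xa 0)

theorem decomp : ∀ q : Q8, ∀ u v : Q8, q = autOf (.a 1) (.xa 0) q := by decide +kernel

/-- `σ` as an element of `MulAut Q₈`. -/
def sAut : MulAut Q8 where
  toFun := sfun
  invFun := fun q => sfun (sfun q)
  left_inv := by decide +kernel
  right_inv := by decide +kernel
  map_mul' := by decide +kernel

/-- The valid pairs. -/
abbrev Good (u v : Q8) : Prop :=
  (∀ q : Q8, autOf u v q = 1 → q = 1) ∧ ∀ p q : Q8, autOf u v (p * q) = autOf u v p * autOf u v q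

theorem twelve : ∀ u v : Q8, Good u v →
    (autOf u v)^[12] (.a 1) = .a 1 ∧ (autOf u v)^[12] (.xa 0) = .xa 0 := by decide +kernel

theorem three : ∀ u v : Q8, Good u v →
    (autOf u v)^[3] (.a 1) = .a 1 → (autOf u v)^[3] (.xa 0) = .xa 0 →
    ∃ q : Q8, ∃ e : Fin 3, q * sfun^[(e : ℕ)] (.a 1) * q⁻¹ = u ∧ q * sfun^[(e : ℕ)] (.xa 0) * q⁻¹ = v := by
  decide +kernel

theorem sfun_facts : sfun^[3] (.a 1) = (.a 1 : Q8) ∧ sfun^[3] (.xa 0) = (.xa 0 : Q8) ∧
    sfun (.a 1) ≠ (.a 1 : Q8) ∧ sfun^[4] (.a 1) = sfun (.a 1) ∧ sfun^[4] (.xa 0) = sfun (.xa 0) := by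
  decide +kernel

theorem center_sq : ∀ r : Q8, r * .a 1 = .a 1 * r → r * .xa 0 = .xa 0 * r → r * r = 1 := by
  decide +kernel

theorem pow_mod3 {H : Type*} [Group H] {h : H} (h3 : h ^ 3 = 1) (n : ℕ) : h ^ (n % 3) = h ^ n := by
  conv_rhs => rw [← Nat.mod_add_div n 3, pow_add, pow_mul, h3, one_pow, mul_one]

/-- The cyclic homomorphism of an element of order dividing three. -/
def cyc3 {H : Type*} [Group H] (h : H) (h3 : h ^ 3 = 1) : Multiplicative (ZMod 3) →* H where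
  toFun c := h ^ (Multiplicative.toAdd c).val
  map_one' := by show h ^ ((0 : ZMod 3).val) = 1; rw [ZMod.val_zero, pow_zero]
  map_mul' a b := by
    show h ^ ((Multiplicative.toAdd a + Multiplicative.toAdd b).val) =
      h ^ (Multiplicative.toAdd a).val * h ^ (Multiplicative.toAdd b).val
    rw [← pow_add, ZMod.val_add, pow_mod3 h3]

theorem sAut_cube : sAut ^ 3 = 1 := MulEquiv.ext (by decide +kernel)

/-- The twisting of `Q₈` by `σ`. -/
def phi : Multiplicative (ZMod 3) →* MulAut Q8 := cyc3 sAut sAut_cube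

/-- A map agreeing with conjugation by `y` on the generators agrees everywhere. -/
theorem conj_autOf {G : Type*} [Group G] (f : Q8 →* G) {y : G} {u v : Q8}
    (hu : f u = y * f (.a 1) * y⁻¹) (hv : f v = y * f (.xa 0) * y⁻¹) (q : Q8) :
    f (autOf u v q) = y * f q * y⁻¹ := by
  conv_rhs => rw [decomp q u v]
  cases q with
  | a i => simp only [autOf, map_pow, hu, conj_pow]
  | xa i => simp only [autOf, map_mul, map_pow, hu, hv, conj_pow]; group

theorem conj_iterate {G : Type*} [Group G] (f : Q8 →* G) {y : G} {h : Q8 → Q8}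
    (hh : ∀ q, f (h q) = y * f q * y⁻¹) (k : ℕ) (q : Q8) : f (h^[k] q) = y ^ k * f q * (y ^ k)⁻¹ := by
  induction k with
  | zero => simp
  | succ k ih => rw [Function.iterate_succ_apply', hh, ih, pow_succ' y k]; group

theorem commute_of_gens {G : Type*} [Group G] (f : Q8 →* G) {y : G}
    (hu : y * f (.a 1) * y⁻¹ = f (.a 1)) (hv : y * f (.xa 0) * y⁻¹ = f (.xa 0)) (q : Q8) :
    f q * y = y * f q := by
  have h := conj_autOf f hu.symm hv.symm q
  rw [← decomp q (.a 1) (.xa 0)] at h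
  exact eq_mul_inv_iff_mul_eq.1 h

theorem sAut_iterate (k : ℕ) (q : Q8) : (sAut ^ k) q = sfun^[k] q := by
  induction k with
  | zero => rfl
  | succ k ih => rw [pow_succ', MulAut.mul_apply, ih, Function.iterate_succ_apply']; rfl

theorem exists_embedding {G : Type*} [Group G] (f : Q8 →* G) (hf : Function.Injective f) {x : G}
    (hx3 : x ^ 3 = 1) (hx1 : x ≠ 1) (hσ : ∀ q, f (sfun q) = x * f q * x⁻¹) :
    ∃ Ψ : Q8 ⋊[phi] Multiplicative (ZMod 3) →* G, Function.Injective Ψ ∧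
      (∀ q : Q8, Ψ ⟨q, 1⟩ = f q) ∧ ∀ q : Q8, ∀ e : ℕ, f q * x ^ e ∈ Ψ.range := by
  have hlift : ∀ c : Multiplicative (ZMod 3),
      f.comp (phi c).toMonoidHom = (MulAut.conj (cyc3 x hx3 c)).toMonoidHom.comp f := by
    intro c
    refine MonoidHom.ext fun q => ?_
    show f ((sAut ^ (Multiplicative.toAdd c).val) q) =
      x ^ (Multiplicative.toAdd c).val * f q * (x ^ (Multiplicative.toAdd c).val)⁻¹
    rw [sAut_iterate]
    exact conj_iterate f hσ _ q
  refine ⟨SemidirectProduct.lift f (cyc3 x hx3) hlift, ?_, fun q => ?_, fun q e => ?_⟩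
  · rw [injective_iff_map_eq_one]
    rintro ⟨q, c⟩ h
    have h' : f q * x ^ (Multiplicative.toAdd c).val = 1 := h
    have h8 : (x ^ (Multiplicative.toAdd c).val) ^ 8 = 1 := by
      have hq : (q⁻¹) ^ 8 = 1 := by
        have : ∀ r : Q8, r ^ 8 = 1 := by decide +kernel
        exact this _
      rw [← inv_eq_of_mul_eq_one_right h', ← map_inv, ← map_pow, hq, map_one]
    have h9 : x ^ (Multiplicative.toAdd c).val = 1 := by
      have h3 : (x ^ (Multiplicative.toAdd c).val) ^ 3 = 1 := by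
        rw [← pow_mul, mul_comm, pow_mul, hx3, one_pow]
      calc x ^ (Multiplicative.toAdd c).val
          = ((x ^ (Multiplicative.toAdd c).val) ^ 3) ^ 3 *
              ((x ^ (Multiplicative.toAdd c).val) ^ 8)⁻¹ := by group
        _ = 1 := by rw [h3, h8, one_pow, inv_one, mul_one]
    rw [h9, mul_one, ← f.map_one] at h'
    obtain rfl := hf h'
    have hox : orderOf x = 3 := by
      haveI : Fact (Nat.Prime 3) := ⟨Nat.prime_three⟩
      exact orderOf_eq_prime hx3 hx1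
    have hc : (Multiplicative.toAdd c).val = 0 := by
      have := orderOf_dvd_of_pow_eq_one h9
      rw [hox] at this
      exact Nat.eq_zero_of_dvd_of_lt this (ZMod.val_lt _)
    have : c = 1 := Multiplicative.toAdd.injective ((ZMod.val_eq_zero _).1 hc)
    rw [this]
    rfl
  · show f q * x ^ ((0 : ZMod 3).val) = f q
    rw [ZMod.val_zero, pow_zero, mul_one]
  · refine ⟨⟨q, Multiplicative.ofAdd (e : ZMod 3)⟩, ?_⟩
    show f q * x ^ ((e : ZMod 3).val) = f q * x ^ e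
    rw [ZMod.val_natCast, pow_mod3 hx3]

abbrev SL23 := Matrix.SpecialLinearGroup (Fin 2) (ZMod 3)
def mI : SL23 := ⟨!![0, 2; 1, 0], by decide +kernel⟩
def mJ : SL23 := ⟨!![1, 1; 1, 2], by decide +kernel⟩
def mX : SL23 := ⟨!![1, 1; 0, 1], by decide +kernel⟩

theorem semidirect_iso : Nonempty (Q8 ⋊[phi] Multiplicative (ZMod 3) ≃* SL23) := by
  have ha : orderOf mI = 2 * 2 := orderOf_eq_prime_pow (p := 2) (n := 1) (by decide +kernel)
    (by decide +kernel)
  have hb : mJ * mJ = mI ^ 2 := by decide +kernel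
  have hba : mJ * mI * mJ⁻¹ = mI⁻¹ := by decide +kernel
  have hnot : mJ ∉ Subgroup.zpowers mI := by
    rintro ⟨k, hk⟩
    have h1 : mJ * mI = mI * mJ := by
      rw [← show mI ^ k = mJ from hk]
      exact ((Commute.refl mI).zpow_left k).eq
    exact absurd h1 (by decide +kernel)
  have haI : mI ^ (2 * 2) = 1 := by rw [← ha]; exact pow_orderOf_eq_one _
  set f := Cfsg.Agent.Lib.TwoGroup.quaternionHom mI mJ haI hb hba with hf
  have hfa : f (.a 1) = mI := Cfsg.Agent.Lib.TwoGroup.zmodPow_one haI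
  have hfb : f (.xa 0) = mJ := by
    show mJ * Cfsg.Agent.Lib.TwoGroup.zmodPow mI (0 : ZMod 4) = mJ
    rw [Cfsg.Agent.Lib.TwoGroup.zmodPow_zero haI, mul_one]
  have hσ : ∀ q, f (sfun q) = mX * f q * mX⁻¹ := fun q => by
    refine conj_autOf f ?_ ?_ q
    · rw [hfa, hfb]; decide +kernel
    · rw [map_mul, hfa, hfb]; decide +kernel
  obtain ⟨Ψ, hΨ, -, -⟩ := exists_embedding f
    (Cfsg.Agent.Lib.TwoGroup.quaternionHom_injective ha hb hba hnot)
    (x := mX) (by decide +kernel) (by decide +kernel) hσ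
  refine ⟨MulEquiv.ofBijective Ψ ((Nat.bijective_iff_injective_and_card Ψ).2 ⟨hΨ, ?_⟩)⟩
  rw [SemidirectProduct.card, Nat.card_eq_fintype_card, QuaternionGroup.card,
    Nat.card_eq_fintype_card, Fintype.card_multiplicative, ZMod.card, Nat.card_eq_fintype_card]
  decide +kernel

theorem eq_of_orderOf_two {G : Type*} [Group G] {a u v : G} (hu : u ∈ Subgroup.zpowers a)
    (hv : v ∈ Subgroup.zpowers a) (hu1 : u ≠ 1) (hv1 : v ≠ 1) (hu2 : u * u = 1) (hv2 : v * v = 1) :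
    u = v := by
  obtain ⟨i, rfl⟩ := hu
  obtain ⟨j, rfl⟩ := hv
  simp only [← zpow_add, ← orderOf_dvd_iff_zpow_eq_one] at hu2 hv2
  rw [Ne, ← orderOf_dvd_iff_zpow_eq_one] at hu1 hv1
  obtain ⟨s, hs⟩ := hu2
  obtain ⟨t, ht⟩ := hv2
  show a ^ i = a ^ j
  rw [zpow_eq_zpow_iff_modEq, Int.modEq_iff_dvd]
  obtain ⟨s', rfl | rfl⟩ := Int.even_or_odd' s
  · exact absurd ⟨s', by linarith⟩ hu1
  obtain ⟨t', rfl | rfl⟩ := Int.even_or_odd' t
  · exact absurd ⟨t', by linarith⟩ hv1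
  exact ⟨t' - s', by linarith⟩

/-- The structure of a dihedral or semidihedral group that is used below. -/
theorem exists_cyclic {S : Type*} [Group S] [Finite S] (h2 : IsPGroup 2 S)
    (hT : (∃ n : ℕ, 4 ≤ n ∧ Nonempty (S ≃* DihedralGroup n)) ∨ Cfsg.IsQuasiDihedral S) :
    ∃ a : S, (∀ b c : S, b ∉ Subgroup.zpowers a → c ∉ Subgroup.zpowers a → b * c ∈ Subgroup.zpowers a)
      ∧ 4 ∣ orderOf a ∧ ∀ b : S, b ∉ Subgroup.zpowers a →
        b ^ 4 = 1 ∧ ∀ c ∈ Subgroup.zpowers a, c ^ 4 = 1 → b * c * b⁻¹ = c⁻¹ := by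
  rcases hT with ⟨n, hn, ⟨e⟩⟩ | hS
  · haveI : NeZero n := ⟨by omega⟩
    set a := e.symm (.r 1) with ha
    have hmem : ∀ g, g ∈ Subgroup.zpowers a ↔ ∃ i, e g = .r i := by
      intro g
      constructor
      · rintro ⟨k, rfl⟩
        exact ⟨(k : ZMod n), by simp [ha, DihedralGroup.r_one_zpow]⟩
      · rintro ⟨i, hi⟩
        refine ⟨(i.val : ℤ), e.injective ?_⟩
        simp [ha, hi]
    have hsr : ∀ g, g ∉ Subgroup.zpowers a → ∃ i, e g = .sr i := by
      intro g hg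
      cases h : e g with
      | r i => exact absurd ((hmem g).2 ⟨i, h⟩) hg
      | sr i => exact ⟨i, rfl⟩
    refine ⟨a, fun b c hb hc => ?_, ?_, fun b hb => ⟨?_, fun c hc _ => ?_⟩⟩
    · obtain ⟨i, hi⟩ := hsr b hb
      obtain ⟨j, hj⟩ := hsr c hc
      exact (hmem _).2 ⟨_, by rw [map_mul, hi, hj, DihedralGroup.sr_mul_sr]⟩
    · rw [ha, MulEquiv.orderOf_eq, DihedralGroup.orderOf_r_one]
      obtain ⟨k, hk⟩ := IsPGroup.iff_card.1 h2
      rw [Nat.card_congr e.toEquiv, DihedralGroup.nat_card] at hk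
      have hk3 : 3 ≤ k := by
        by_contra hh
        have : 2 ^ k ≤ 2 ^ 2 := Nat.pow_le_pow_right (by norm_num) (by omega)
        omega
      refine Nat.dvd_of_mul_dvd_mul_left (by norm_num : 0 < 2) ?_
      rw [hk]
      exact pow_dvd_pow 2 hk3
    · obtain ⟨i, hi⟩ := hsr b hb
      apply e.injective
      rw [map_pow, hi, map_one, show (4 : ℕ) = 2 * 2 from rfl, pow_mul, pow_two (DihedralGroup.sr i),
        DihedralGroup.sr_mul_self, one_pow]
    · obtain ⟨i, hi⟩ := hsr b hb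
      obtain ⟨j, hj⟩ := (hmem c).1 hc
      apply e.injective
      rw [map_mul, map_mul, map_inv, map_inv, hi, hj, DihedralGroup.inv_sr, DihedralGroup.inv_r,
        DihedralGroup.sr_mul_r, DihedralGroup.sr_mul_sr]
      congr 1
      abel
  · obtain ⟨n, x, y, h⟩ := Cfsg.Agent.Lib.TwoGroup.exists_qdGen hS
    refine ⟨x, fun b c hb hc => ?_, ?_, fun b hb => ?_⟩
    · rw [Subgroup.mul_mem_iff_of_index_two h.zpowers_index]
      exact iff_of_false hb hc
    · rw [h.ord_x]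
      exact pow_dvd_pow 2 (show 2 ≤ n by have := h.le_n; omega)
    obtain ⟨t, rfl | rfl⟩ := h.cases_mem b
    · exact absurd (Subgroup.zpow_mem_zpowers x t) hb
    refine ⟨?_, ?_⟩
    · rw [show (x ^ t * y) ^ 4 = ((x ^ t * y) * (x ^ t * y)) * ((x ^ t * y) * (x ^ t * y)) by simp [pow_succ, mul_assoc],
        h.sq_zpow_y, ← zpow_add, h.zpow_eq_one_iff]
      exact ⟨t, by ring⟩
    rintro _ ⟨i, rfl⟩ hc
    have hi : (Cfsg.Agent.Lib.TwoGroup.QDGen.q n : ℤ) ∣ i := by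
      rw [← zpow_natCast, ← zpow_mul, h.zpow_eq_one_iff] at hc
      exact Int.dvd_of_mul_dvd_mul_left (by norm_num : (4 : ℤ) ≠ 0) (by simpa [mul_comm] using hc)
    obtain ⟨s, hs⟩ := hi
    obtain ⟨p, hp⟩ := h.q_even
    show x ^ t * y * x ^ i * (x ^ t * y)⁻¹ = (x ^ i)⁻¹
    rw [show x ^ t * y * x ^ i * (x ^ t * y)⁻¹ = x ^ t * (y * x ^ i * y⁻¹) * (x ^ t)⁻¹ by group,
      h.conj_y_zpow, h.conj_zpow_zpow, ← zpow_neg, h.zpow_eq_zpow_iff]
    refine ⟨p * s, ?_⟩
    rw [hs]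
    linear_combination (2 * (Cfsg.Agent.Lib.TwoGroup.QDGen.q n : ℤ) * s) * hp

/-- An element of odd order normalising a cyclic `2`-group centralises it. -/
theorem commute_of_conj_mem_zpowers {G : Type*} [Group G] [Finite G] {x d : G} {j : ℕ}
    (hd : orderOf d = 2 ^ j) (hx : (orderOf x).Coprime 2)
    (h : x * d * x⁻¹ ∈ Subgroup.zpowers d) : Commute x d := by
  obtain ⟨r, hr : d ^ r = x * d * x⁻¹⟩ := h
  have hit : ∀ t : ℕ, x ^ t * d * (x ^ t)⁻¹ = d ^ (r ^ t) := by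
    intro t
    induction t with
    | zero => simp
    | succ t ih =>
      calc x ^ (t + 1) * d * (x ^ (t + 1))⁻¹ = x * (x ^ t * d * (x ^ t)⁻¹) * x⁻¹ := by
            rw [pow_succ' x t]; group
        _ = (x * d * x⁻¹) ^ (r ^ t) := by rw [ih, conj_zpow]
        _ = d ^ (r ^ (t + 1)) := by rw [← hr, ← zpow_mul, pow_succ']
  rcases Nat.eq_zero_or_pos j with rfl | hj
  · rw [pow_zero, orderOf_eq_one_iff] at hd
    rw [hd]
    exact Commute.one_right x
  have hrodd : ¬ (2 : ℤ) ∣ r := by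
    intro h2
    have h1 := hit (orderOf x)
    rw [pow_orderOf_eq_one, one_mul, inv_one, mul_one] at h1
    have h3 : d ^ (r ^ orderOf x - 1) = 1 := by
      rw [zpow_sub, ← h1, zpow_one, mul_inv_cancel]
    rw [← orderOf_dvd_iff_zpow_eq_one, hd] at h3
    have h4 : (2 : ℤ) ∣ r ^ orderOf x - 1 :=
      (by exact_mod_cast dvd_pow_self 2 hj.ne' : (2 : ℤ) ∣ ((2 ^ j : ℕ) : ℤ)).trans h3
    have h5 : (2 : ℤ) ∣ r ^ orderOf x := dvd_pow h2 (orderOf_pos x).ne'
    omega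
  have hfix : d ^ (r ^ (2 ^ j)) = d := by
    have h6 : d ^ (r ^ (2 ^ j) - 1) = 1 := by
      rw [← orderOf_dvd_iff_zpow_eq_one, hd]
      push_cast
      exact (pow_dvd_pow 2 (Nat.le_succ j)).trans
        (Cfsg.Agent.Lib.TwoGroup.two_pow_dvd_odd_pow_sub_one hrodd j)
    rw [zpow_sub, zpow_one, mul_inv_eq_one] at h6
    exact h6
  have hc : Commute (x ^ (2 ^ j)) d := mul_inv_eq_iff_eq_mul.1 ((hit _).trans hfix)
  obtain ⟨m, hm⟩ := exists_pow_eq_self_of_coprime (hx.pow_right j).symm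
  rw [← hm]
  exact hc.pow_left m

/-- `O₂` is a quaternion group of order eight. -/
theorem exists_quaternion {G : Type*} [Group G] [Finite G]
    (hC : Subgroup.centralizer (Cfsg.pCore 2 G : Set G) ≤ Cfsg.pCore 2 G) (T : Sylow 2 G)
    (hT : (∃ n : ℕ, 4 ≤ n ∧ Nonempty (↥(T : Subgroup G) ≃* DihedralGroup n)) ∨
      Cfsg.IsQuasiDihedral ↥(T : Subgroup G))
    (hne : (T : Subgroup G) ≠ ⊤)
    (hZ : ((T : Subgroup G) ⊓ Subgroup.centralizer ((T : Subgroup G) : Set G)).Normal) :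
    ∃ f : Q8 →* G, Function.Injective f ∧ f.range = Cfsg.pCore 2 G := by
  classical
  set F := Cfsg.pCore 2 G with hF
  haveI hZn := hZ
  have hFT : F ≤ (T : Subgroup G) := Cfsg.Agent.Lib.PSolvable.pCore_le_sylow T
  have hFp : IsPGroup 2 F := Cfsg.Agent.Lib.PSolvable.pCore_isPGroup
  obtain ⟨⟨a, haT⟩, hidx', ha4, hb'⟩ := exists_cyclic T.2 hT
  rw [← Subgroup.orderOf_coe] at ha4
  simp only at ha4
  have hmem : ∀ b : (T : Subgroup G), b ∈ Subgroup.zpowers (⟨a, haT⟩ : (T : Subgroup G)) ↔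
      (b : G) ∈ Subgroup.zpowers a := by
    intro b
    constructor
    · rintro ⟨k, rfl⟩; exact ⟨k, by simp⟩
    · rintro ⟨k, hk⟩; exact ⟨k, Subtype.ext (by simpa using hk)⟩
  have hidx : ∀ b c : G, b ∈ (T : Subgroup G) → c ∈ (T : Subgroup G) → b ∉ Subgroup.zpowers a →
      c ∉ Subgroup.zpowers a → b * c ∈ Subgroup.zpowers a := fun b c hb hc hb' hc' =>
    (hmem _).1 (hidx' ⟨b, hb⟩ ⟨c, hc⟩ (mt (hmem _).1 hb') (mt (hmem _).1 hc'))
  have hb : ∀ b ∈ (T : Subgroup G), b ∉ Subgroup.zpowers a →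
      b ^ 4 = 1 ∧ ∀ c ∈ Subgroup.zpowers a, c ^ 4 = 1 → b * c * b⁻¹ = c⁻¹ := by
    intro b hbT hbn
    obtain ⟨h1, h2⟩ := hb' ⟨b, hbT⟩ (mt (hmem _).1 hbn)
    refine ⟨by simpa using congrArg Subtype.val h1, fun c hc hc4 => ?_⟩
    have hcT : c ∈ (T : Subgroup G) := Subgroup.zpowers_le.2 haT hc
    exact congrArg Subtype.val (h2 ⟨c, hcT⟩ ((hmem _).2 hc) (Subtype.ext (by simpa using hc4)))
  -- `Z(T)` is a nontrivial subgroup of `F ⊓ ⟨a⟩`
  set Z := (T : Subgroup G) ⊓ Subgroup.centralizer ((T : Subgroup G) : Set G) with hZdef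
  have hZF : Z ≤ F := Cfsg.Agent.Lib.PSolvable.le_pCore (T.2.to_le inf_le_left)
  have hZa : Z ≤ Subgroup.zpowers a := by
    intro b hbZ
    by_contra hbn
    have h1 := (hb b hbZ.1 hbn).2 (a ^ (orderOf a / 4)) (Subgroup.npow_mem_zpowers a _)
      (by rw [← pow_mul, Nat.div_mul_cancel ha4, pow_orderOf_eq_one])
    have h2 : a ^ (orderOf a / 4) * b = b * a ^ (orderOf a / 4) :=
      Subgroup.mem_centralizer_iff.1 hbZ.2 _ (Subgroup.pow_mem _ haT _)
    rw [← h2, mul_inv_cancel_right] at h1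
    have h3 : orderOf (a ^ (orderOf a / 4)) = 4 := orderOf_pow_orderOf_div (orderOf_pos a).ne' ha4
    have h4 : (a ^ (orderOf a / 4)) ^ 2 = 1 := by rw [pow_two]; nth_rw 2 [h1]; rw [mul_inv_cancel]
    have := Nat.le_of_dvd (by norm_num) (orderOf_dvd_of_pow_eq_one h4)
    omega
  obtain ⟨w, hwT, hwo, hwc⟩ := Cfsg.Agent.S2896.exists_fixed_order T.2 T.2 Subgroup.le_normalizer
    (fun h => by
      rw [h, Subgroup.mem_bot] at haT
      rw [haT, orderOf_one] at ha4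
      omega)
  have hw1 : w ≠ 1 := fun h => by rw [h, orderOf_one] at hwo; omega
  have hww : w * w = 1 := by rw [← pow_two, ← hwo, pow_orderOf_eq_one]
  -- an element of odd order acting nontrivially
  obtain ⟨x, hxo, hx1⟩ : ∃ x : G, (orderOf x).Coprime 2 ∧ x ≠ 1 := by
    by_contra h
    refine hne (top_le_iff.1 (T.3 (Q := ⊤) (Cfsg.Agent.Lib.CharP.isPGroup_of_forall fun y _ hy => ?_)
      le_top).le)
    by_contra hy1
    exact h ⟨y, hy, hy1⟩
  have hnc : ¬ ∀ f ∈ F, Commute f x := fun h => hx1 (Cfsg.Agent.Lib.CharP.eq_one_of_mem_of_coprime hFp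
    (hC (Subgroup.mem_centralizer_iff.2 fun f hf => (h f hf).eq)) hxo)
  set D := F ⊓ Subgroup.zpowers a with hD
  haveI : IsCyclic D :=
    isCyclic_of_injective (Subgroup.inclusion (inf_le_right : D ≤ Subgroup.zpowers a))
      (Subgroup.inclusion_injective _)
  obtain ⟨⟨d, hdD⟩, hgen⟩ := IsCyclic.exists_generator (α := D)
  have hgen' : ∀ u ∈ D, u ∈ Subgroup.zpowers d := fun u hu => by
    obtain ⟨k, hk⟩ := hgen ⟨u, hu⟩
    exact ⟨k, by simpa using congrArg Subtype.val hk⟩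
  obtain ⟨j, hj⟩ := IsPGroup.iff_orderOf.1 hFp ⟨d, hdD.1⟩
  rw [← Subgroup.orderOf_coe] at hj
  simp only at hj
  set g := x * d * x⁻¹ with hg
  have hgF : g ∈ F := (inferInstance : F.Normal).conj_mem d hdD.1 x
  have hga : g ∉ Subgroup.zpowers a := by
    intro hga
    refine hnc fun f hf => ?_
    have hcd : Commute x d := commute_of_conj_mem_zpowers hj hxo (hgen' g ⟨hgF, hga⟩)
    have hxD : ∀ u ∈ D, Commute u x := fun u hu => by
      obtain ⟨k, rfl⟩ := hgen' u hu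
      exact (hcd.zpow_right k).symm
    by_cases hfa : f ∈ Subgroup.zpowers a
    · exact hxD f ⟨hf, hfa⟩
    have hfc : x * f * x⁻¹ ∈ F := (inferInstance : F.Normal).conj_mem f hf x
    have hfca : x * f * x⁻¹ ∉ Subgroup.zpowers a := fun h => by
      apply hfa
      have he : f = x * f * x⁻¹ := by
        have h1 := hxD _ ⟨hfc, h⟩
        have h2 : Commute (x * f * x⁻¹) x⁻¹ := h1.inv_right
        calc f = x⁻¹ * (x * f * x⁻¹) * x := by group
          _ = (x * f * x⁻¹) * x⁻¹ * x := by rw [h2.eq]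
          _ = x * f * x⁻¹ := by group
      exact he ▸ h
    refine Cfsg.Agent.Lib.CharP.commute_of_commutator_mem (hFp.to_le (inf_le_left : D ≤ F)) hxo
      (Subgroup.mem_centralizer_iff.2 fun u hu => (hxD u hu).eq)
      ⟨F.mul_mem (show f * x * f⁻¹ * x⁻¹ ∈ F by
        simpa [mul_assoc] using F.mul_mem hf ((inferInstance : F.Normal).conj_mem _ (F.inv_mem hf) x))
        F.one_mem |> fun h => by simpa using h, ?_⟩
    have h1 := hidx _ _ (hFT hf) (hFT (F.inv_mem hfc)) hfa (fun h => hfca (by simpa using inv_mem h))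
    simpa [mul_assoc] using h1
  obtain ⟨hg4, hginv⟩ := hb g (hFT hgF) hga
  have hd4 : d ^ 4 = 1 := by
    have : x * d ^ 4 * x⁻¹ = 1 := by rw [← conj_pow]; exact hg4
    simpa [mul_eq_one_iff_eq_inv] using this
  have hd2 : d * d ≠ 1 := by
    intro h
    apply hga
    by_cases hd1 : d = 1
    · rw [hg, hd1, mul_one, mul_inv_cancel]; exact one_mem _
    have hdw : d = w := eq_of_orderOf_two hdD.2 (hZa ⟨hwT, hwc⟩) hd1 hw1 h hww
    exact hZa (hg ▸ hdw ▸ hZn.conj_mem w ⟨hwT, hwc⟩ x)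
  have hdo : orderOf d = 2 * 2 := orderOf_eq_prime_pow (p := 2) (n := 1)
    (by rwa [pow_one, pow_two]) (by simpa using hd4)
  have hgg : g * g = d ^ 2 := by
    have hgne : g * g ≠ 1 := fun h => hd2 (by
      have : x * (d * d) * x⁻¹ = 1 := by rw [← h, hg]; group
      simpa [mul_eq_one_iff_eq_inv] using this)
    have hga2 : g * g ∈ Subgroup.zpowers a := hidx g g (hFT hgF) (hFT hgF) hga hga
    have hg22 : (g * g) * (g * g) = 1 := by rw [← hg4]; simp [pow_succ, mul_assoc]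
    have hd22 : d ^ 2 * d ^ 2 = 1 := by rw [← hd4]; group
    exact eq_of_orderOf_two hga2 (Subgroup.pow_mem _ hdD.2 _) hgne (by rwa [pow_two]) hg22 hd22
  have hgd : g * d * g⁻¹ = d⁻¹ := hginv d hdD.2 hd4
  have hgn : g ∉ Subgroup.zpowers d := fun h => hga (Subgroup.zpowers_le.2 hdD.2 h)
  refine ⟨Cfsg.Agent.Lib.TwoGroup.quaternionHom d g (hdo ▸ pow_orderOf_eq_one d) hgg hgd,
    Cfsg.Agent.Lib.TwoGroup.quaternionHom_injective hdo hgg hgd hgn, ?_⟩
  rw [Cfsg.Agent.Lib.TwoGroup.quaternionHom_range]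
  refine le_antisymm ((Subgroup.closure_le _).2 ?_) fun u hu => ?_
  · rintro v (rfl | rfl)
    · exact hdD.1
    · exact hgF
  · by_cases hua : u ∈ Subgroup.zpowers a
    · exact Subgroup.zpowers_le.2 (Subgroup.subset_closure (by simp)) (hgen' u ⟨hu, hua⟩)
    · have h1 : g * u ∈ D := ⟨F.mul_mem hgF hu, hidx g u (hFT hgF) (hFT hu) hga hua⟩
      have h2 := mul_mem (inv_mem (Subgroup.subset_closure (show g ∈ ({d, g} : Set G) by simp)))
        (Subgroup.zpowers_le.2 (Subgroup.subset_closure (by simp : d ∈ ({d, g} : Set G))) (hgen' _ h1))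
      rwa [inv_mul_cancel_left] at h2


/-- Let G be a finite solvable group with O(G) = 1 whose Sylow 2-subgroup T is dihedral of order at least 8 or semidihedral, with G ≠ T and Z(T) normal in G. Then G has a normal subgroup isomorphic to SL₂(3). -/
theorem result {G : Type*} [Group G] [Finite G] (hsol : IsSolvable G) (hO : Cfsg.oddCore G = ⊥) (T : Sylow 2 G) (hT : (∃ n : ℕ, 4 ≤ n ∧ Nonempty (↥(T : Subgroup G) ≃* DihedralGroup n)) ∨ Cfsg.IsQuasiDihedral ↥(T : Subgroup G)) (hne : (T : Subgroup G) ≠ ⊤) (hZ : ((T : Subgroup G) ⊓ Subgroup.centralizer ((T : Subgroup G) : Set G)).Normal) : ∃ U : Subgroup G, U.Normal ∧ Nonempty (↥U ≃* Matrix.SpecialLinearGroup (Fin 2) (ZMod 3)) := by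
  classical
  have hC : Subgroup.centralizer (Cfsg.pCore 2 G : Set G) ≤ Cfsg.pCore 2 G :=
    Cfsg.Agent.Lib.SolvableCore.centralizer_pCore_le hsol hO
  obtain ⟨f, hf, hfr⟩ := exists_quaternion hC T hT hne hZ
  set F := Cfsg.pCore 2 G with hF
  have hFp : IsPGroup 2 F := Cfsg.Agent.Lib.PSolvable.pCore_isPGroup
  have hfF : ∀ q, f q ∈ F := fun q => hfr ▸ ⟨q, rfl⟩
  have hpre : ∀ u ∈ F, ∃ q, f q = u := fun u hu => by rwa [← hfr] at hu
  have hcent : ∀ y : G, y * f (.a 1) * y⁻¹ = f (.a 1) → y * f (.xa 0) * y⁻¹ = f (.xa 0) → y ∈ F :=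
    fun y hu hv => hC (Subgroup.mem_centralizer_iff.2 fun u hu' => by
      obtain ⟨q, rfl⟩ := hpre u hu'
      exact commute_of_gens f hu hv q)
  have hact : ∀ y : G, ∃ u v : Q8, Good u v ∧ ∀ q, f (autOf u v q) = y * f q * y⁻¹ := by
    intro y
    obtain ⟨u, hu⟩ := hpre _ ((inferInstance : F.Normal).conj_mem _ (hfF (.a 1)) y)
    obtain ⟨v, hv⟩ := hpre _ ((inferInstance : F.Normal).conj_mem _ (hfF (.xa 0)) y)
    have h := conj_autOf f hu hv
    refine ⟨u, v, ⟨fun q hq => hf ?_, fun p q => hf ?_⟩, h⟩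
    · have := h q
      rw [hq, map_one] at this
      rw [map_one]
      calc f q = y⁻¹ * (y * f q * y⁻¹) * y := by group
        _ = 1 := by rw [← this]; group
    · rw [map_mul, h, h, h, map_mul]; group
  -- every element of order three
  have hdec : ∀ y : G, y ^ 3 = 1 → ∃ q : Q8, ∃ e : Fin 3,
      ∀ p : Q8, y * f p * y⁻¹ = f q * f (sfun^[(e : ℕ)] p) * (f q)⁻¹ := by
    intro y hy
    obtain ⟨u, v, hgood, h⟩ := hact y
    have h3 : ∀ p, (autOf u v)^[3] p = p := fun p => hf (by rw [conj_iterate f h, hy]; simp)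
    obtain ⟨q, e, he1, he2⟩ := three u v hgood (h3 _) (h3 _)
    refine ⟨q, e, fun p => ?_⟩
    have hh := conj_autOf ((MulAut.conj (f q)).toMonoidHom.comp (f.comp (sAut ^ (e : ℕ)).toMonoidHom))
      (y := 1) (u := .a 1) (v := .xa 0) (by simp) (by simp) p
    have hu' : f u = f q * f (sfun^[(e : ℕ)] (.a 1)) * (f q)⁻¹ := by
      rw [← he1, map_mul, map_mul, map_inv]
    have hv' : f v = f q * f (sfun^[(e : ℕ)] (.xa 0)) * (f q)⁻¹ := by
      rw [← he2, map_mul, map_mul, map_inv]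
    have hΦ : ∀ r, f (autOf u v r) = f q * f ((sAut ^ (e : ℕ)) r) * (f q)⁻¹ := by
      intro r
      conv_rhs => rw [decomp r u v]
      cases r with
      | a i =>
        simp only [autOf, map_pow, hu', ← sAut_iterate, conj_pow]
      | xa i =>
        simp only [autOf, map_mul, map_pow, hu', hv', ← sAut_iterate, conj_pow]
        group
    rw [← h, hΦ, sAut_iterate]
  -- an element of order three
  obtain ⟨y, hy3, hyF⟩ : ∃ y : G, y ^ 3 = 1 ∧ y ∉ F := by
    obtain ⟨x, hxo, hx1⟩ : ∃ x : G, (orderOf x).Coprime 2 ∧ x ≠ 1 := by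
      by_contra h
      refine hne (top_le_iff.1 (T.3 (Q := ⊤) (Cfsg.Agent.Lib.CharP.isPGroup_of_forall fun z _ hz => ?_)
        le_top).le)
      by_contra hz1
      exact h ⟨z, hz, hz1⟩
    obtain ⟨u, v, hgood, h⟩ := hact x
    obtain ⟨h1, h2⟩ := twelve u v hgood
    have h12 : x ^ 12 ∈ F := hcent _ (by rw [← conj_iterate f h, h1]) (by rw [← conj_iterate f h, h2])
    have h121 : x ^ 12 = 1 := Cfsg.Agent.Lib.CharP.eq_one_of_mem_of_coprime hFp h12
      (hxo.coprime_dvd_left (orderOf_pow_dvd 12))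
    refine ⟨x, ?_, fun hxF => hx1 (Cfsg.Agent.Lib.CharP.eq_one_of_mem_of_coprime hFp hxF hxo)⟩
    have hd : orderOf x ∣ 12 := orderOf_dvd_of_pow_eq_one h121
    exact orderOf_dvd_iff_pow_eq_one.1 ((hxo.pow_right 2).dvd_of_dvd_mul_left (n := 3) (by simpa using hd))
  obtain ⟨q, e, hye⟩ := hdec y hy3
  set y1 := (f q)⁻¹ * y with hy1
  have hy1c : ∀ p, f (sfun^[(e : ℕ)] p) = y1 * f p * y1⁻¹ := fun p => by
    calc f (sfun^[(e : ℕ)] p) = (f q)⁻¹ * (f q * f (sfun^[(e : ℕ)] p) * (f q)⁻¹) * f q := by group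
      _ = (f q)⁻¹ * (y * f p * y⁻¹) * f q := by rw [← hye]
      _ = y1 * f p * y1⁻¹ := by rw [hy1]; group
  obtain ⟨y2, hy2⟩ : ∃ y2 : G, ∀ p, f (sfun p) = y2 * f p * y2⁻¹ := by
    obtain ⟨e, he⟩ := e
    interval_cases e
    · exfalso
      have h0 : y1 ∈ F := hcent _ (hy1c _).symm (hy1c _).symm
      apply hyF
      have := F.mul_mem (hfF q) h0
      rwa [hy1, mul_inv_cancel_left] at this
    · exact ⟨y1, hy1c⟩
    · refine ⟨y1 ^ 2, fun p => ?_⟩
      rw [← conj_iterate f hy1c 2 p]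
      have : ∀ r : Q8, (sfun^[2])^[2] r = sfun r := by decide +kernel
      rw [this]
  have hit := conj_iterate f hy2
  obtain ⟨h3a, h3b, hne1, h4a, h4b⟩ := sfun_facts
  have hy23 : y2 ^ 3 ∈ F := hcent _ (by rw [← hit, h3a]) (by rw [← hit, h3b])
  obtain ⟨r, hr⟩ := hpre _ hy23
  have hr2 : r * r = 1 := by
    refine center_sq r (hf ?_) (hf ?_)
    · have := hit 3 (.a 1); rw [h3a] at this
      rw [map_mul, map_mul, hr]
      exact (eq_mul_inv_iff_mul_eq.1 this).symm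
    · have := hit 3 (.xa 0); rw [h3b] at this
      rw [map_mul, map_mul, hr]
      exact (eq_mul_inv_iff_mul_eq.1 this).symm
  have h6 : y2 ^ 6 = 1 := by
    rw [show 6 = 3 * 2 from rfl, pow_mul, ← hr, ← map_pow, pow_two, hr2, map_one]
  set x0 := y2 ^ 4 with hx0
  have hx0σ : ∀ p, f (sfun p) = x0 * f p * x0⁻¹ := fun p => by
    have : ∀ r : Q8, sfun^[4] r = sfun r := by decide +kernel
    rw [hx0, ← hit, this]
  have hx03 : x0 ^ 3 = 1 := by
    rw [hx0, ← pow_mul, show 4 * 3 = 6 * 2 from rfl, pow_mul, h6, one_pow]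
  have hx01 : x0 ≠ 1 := fun h => hne1 (hf (by rw [hx0σ, h, one_mul, inv_one, mul_one]))
  obtain ⟨Ψ, hΨ, hΨF, hΨm⟩ := exists_embedding f hf hx03 hx01 hx0σ
  obtain ⟨iso⟩ := semidirect_iso
  refine ⟨Ψ.range, ?_, ⟨(MonoidHom.ofInjective hΨ).symm.trans iso⟩⟩
  have hF' : ∀ u ∈ F, u ∈ Ψ.range := fun u hu => by
    obtain ⟨p, rfl⟩ := hpre u hu
    simpa using hΨm p 0
  have h3mem : ∀ z : G, z ^ 3 = 1 → z ∈ Ψ.range := by
    intro z hz
    obtain ⟨p, k, hzk⟩ := hdec z hz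
    have hmemF : (f p * x0 ^ (k : ℕ))⁻¹ * z ∈ F := by
      have key : ∀ r, (f p * x0 ^ (k : ℕ))⁻¹ * z * f r * ((f p * x0 ^ (k : ℕ))⁻¹ * z)⁻¹ = f r := by
        intro r
        have h1 := hzk r
        rw [conj_iterate f hx0σ] at h1
        calc (f p * x0 ^ (k : ℕ))⁻¹ * z * f r * ((f p * x0 ^ (k : ℕ))⁻¹ * z)⁻¹
            = (f p * x0 ^ (k : ℕ))⁻¹ * (z * f r * z⁻¹) * (f p * x0 ^ (k : ℕ)) := by group
          _ = f r := by rw [h1]; group
      exact hcent _ (key _) (key _)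
    have := Ψ.range.mul_mem (hΨm p k) (hF' _ hmemF)
    rwa [mul_inv_cancel_left] at this
  refine ⟨?_⟩
  rintro _ ⟨⟨p, c⟩, rfl⟩ g
  have hh : g * Ψ ⟨p, c⟩ * g⁻¹ = g * Ψ ⟨p, 1⟩ * g⁻¹ * (g * Ψ ⟨1, c⟩ * g⁻¹) := by
    rw [show (⟨p, c⟩ : Q8 ⋊[phi] Multiplicative (ZMod 3)) = ⟨p, 1⟩ * ⟨1, c⟩ by ext <;> simp, map_mul]
    group
  rw [hh]
  refine mul_mem ?_ (h3mem _ ?_)
  · exact hF' _ ((inferInstance : F.Normal).conj_mem _ (by rw [hΨF]; exact hfF p) g)
  · rw [conj_pow, ← map_pow]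
    have : ((⟨1, c⟩ : Q8 ⋊[phi] Multiplicative (ZMod 3)) ^ 3) = 1 := by
      have hc : c ^ 3 = 1 := (by decide +kernel : ∀ u : Multiplicative (ZMod 3), u ^ 3 = 1) c
      rw [show (⟨1, c⟩ : Q8 ⋊[phi] Multiplicative (ZMod 3)) = SemidirectProduct.inr c from rfl,
        ← map_pow, hc, map_one]
    rw [this, map_one, mul_one, mul_inv_cancel]

end Cfsg.Agent.S2879
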