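import Cfsg.Statements.S2880
import Mathlib

set_option autoImplicit false
open Cfsg

namespace Cfsg.Agent.S2880
open Subgroup in
theorem centralizer_card {E : Type*} [Group E] [Finite E] (hE : Cfsg.IsExtraspecial 2 E)
    (B : Subgroup E) : Nat.card B * Nat.card (centralizer (B : Set E)) ≤ 2 * Nat.card E := by
  classical
  have hZ : commutator E = center E := hE.1.2.2
  have hcomm : ∀ a g : E, a * g * a⁻¹ * g⁻¹ ∈ center E := fun a g => by
    rw [← hZ, commutator_def]; exact commutator_mem_commutator (mem_top a) (mem_top g)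
  suffices main : ∀ n, ∀ D : Subgroup E, Nat.card E - Nat.card D = n →
      Nat.card B * Nat.card (centralizer (B : Set E)) ≤
        Nat.card ↥(B ⊓ centralizer (D : Set E)) * Nat.card D →
      Nat.card B * Nat.card (centralizer (B : Set E)) ≤ 2 * Nat.card E by
    refine main _ (centralizer (B : Set E)) rfl (Nat.mul_le_mul_right _ (le_of_eq ?_))
    rw [inf_eq_left.2 (le_centralizer_iff.1 le_rfl)]
  intro n
  induction n using Nat.strong_induction_on with
  | _ n ih =>
    intro D hDn hD
    by_cases hDtop : D = ⊤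
    · subst hDtop
      refine hD.trans ?_
      rw [Subgroup.card_top]
      refine Nat.mul_le_mul_right _ ?_
      refine le_trans (Subgroup.card_le_of_le inf_le_right) ?_
      rw [coe_top, centralizer_univ, hE.2]
    · obtain ⟨g, hg⟩ : ∃ g, g ∉ D := by
        by_contra h; push Not at h; exact hDtop (eq_top_iff.2 fun g _ => h g)
      set D' := D ⊔ zpowers g
      have hDD' : D ≤ D' := le_sup_left
      have h2D : 2 * Nat.card D ≤ Nat.card D' := by
        obtain ⟨c, hc⟩ := Subgroup.card_dvd_of_le hDD'
        match c, hc with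
        | 0, hc => exact absurd (by simpa using hc) Nat.card_pos.ne'
        | 1, hc =>
          exfalso
          refine hg ?_
          rw [Subgroup.eq_of_le_of_card_ge hDD' (by simp [hc])]
          exact mem_sup_right (mem_zpowers g)
        | c + 2, hc => rw [hc]; nlinarith [Nat.zero_le (Nat.card D * c)]
      -- the homomorphism `b ↦ [b, g]`
      let φ : ↥(B ⊓ centralizer (D : Set E)) →* center E :=
        { toFun := fun b => ⟨(b : E) * g * (b : E)⁻¹ * g⁻¹, hcomm _ _⟩
          map_one' := Subtype.ext (by simp)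
          map_mul' := fun a b => Subtype.ext (by
            have h1 := mem_center_iff.1 (hcomm (b : E) g) (a : E)
            show ((a : E) * b) * g * ((a : E) * b)⁻¹ * g⁻¹ =
              ((a : E) * g * (a : E)⁻¹ * g⁻¹) * ((b : E) * g * (b : E)⁻¹ * g⁻¹)
            have h2 := mem_center_iff.1 (hcomm (b : E) g) ((a : E) * g * (a : E)⁻¹ * g⁻¹)
            calc ((a : E) * b) * g * ((a : E) * b)⁻¹ * g⁻¹
                = (a : E) * ((b : E) * g * (b : E)⁻¹ * g⁻¹) * g * (a : E)⁻¹ * g⁻¹ := by group
              _ = ((b : E) * g * (b : E)⁻¹ * g⁻¹) * (a : E) * g * (a : E)⁻¹ * g⁻¹ := by rw [h1]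
              _ = ((b : E) * g * (b : E)⁻¹ * g⁻¹) * ((a : E) * g * (a : E)⁻¹ * g⁻¹) := by group
              _ = _ := h2.symm) }
      have hker : φ.ker.map (B ⊓ centralizer (D : Set E)).subtype ≤
          B ⊓ centralizer (D' : Set E) := by
        rintro _ ⟨b, hb, rfl⟩
        refine ⟨b.2.1, ?_⟩
        have hb' : (b : E) * g * (b : E)⁻¹ * g⁻¹ = 1 := congrArg Subtype.val (MonoidHom.mem_ker.1 hb)
        have hbg : g ∈ centralizer ({(b : E)} : Set E) := by
          rw [mem_centralizer_singleton_iff]
          rw [mul_inv_eq_one, mul_inv_eq_iff_eq_mul] at hb'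
          exact hb'.symm
        have hle : D' ≤ centralizer ({(b : E)} : Set E) := sup_le (fun d hd =>
          mem_centralizer_singleton_iff.2 (mem_centralizer_iff.1 b.2.2 d hd)) (zpowers_le.2 hbg)
        exact fun d hd => mem_centralizer_singleton_iff.1 (hle hd)
      have h2ker : Nat.card ↥(B ⊓ centralizer (D : Set E)) ≤
          2 * Nat.card ↥(B ⊓ centralizer (D' : Set E)) := by
        rw [← φ.ker.index_mul_card]
        refine Nat.mul_le_mul ?_ (le_trans (le_of_eq ?_) (Subgroup.card_le_of_le hker))
        · rw [index_ker, ← hE.2]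
          exact Subgroup.card_le_card_group _
        · rw [card_map_of_injective (subtype_injective _)]
      refine ih _ ?_ D' rfl (hD.trans ?_)
      · have := Subgroup.card_le_card_group D'
        have := Nat.card_pos (α := D)
        omega
      · calc Nat.card ↥(B ⊓ centralizer (D : Set E)) * Nat.card D
            ≤ 2 * Nat.card ↥(B ⊓ centralizer (D' : Set E)) * Nat.card D :=
              Nat.mul_le_mul_right _ h2ker
          _ = Nat.card ↥(B ⊓ centralizer (D' : Set E)) * (2 * Nat.card D) := by ring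
          _ ≤ _ := Nat.mul_le_mul_left _ h2D


/-- Let E be an extraspecial 2-group of order 2^(2m+1) of plus type, that is, containing an elementary abelian subgroup of order 2^(m+1) (equivalently, a central product of m dihedral groups of order 8). Then E has exactly 2^(2m) − 2^m elements of order 4. -/
theorem result {E : Type*} [Group E] [Finite E] (m : ℕ) (hm : 1 ≤ m) (hE : Cfsg.IsExtraspecial 2 E) (hcard : Nat.card E = 2 ^ (2 * m + 1)) (hplus : ∃ A : Subgroup E, Cfsg.IsElementaryAbelian 2 A ∧ Nat.card A = 2 ^ (m + 1)) : Nat.card {x : E // orderOf x = 4} = 2 ^ (2 * m) - 2 ^ m := by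
  classical
  obtain ⟨A, ⟨hAc, hA2⟩, hAcard⟩ := hplus
  have hA2' : ∀ a ∈ A, a * a = 1 := fun a ha => by rw [← sq]; exact hA2 a ha
  have hAcomm : ∀ a ∈ A, ∀ b ∈ A, a * b = b * a := fun a ha b hb =>
    congrArg Subtype.val (mul_comm' (⟨a, ha⟩ : A) ⟨b, hb⟩)
  -- `A` is self-centralising
  have hCA : Subgroup.centralizer (A : Set E) = A := by
    refine (Subgroup.eq_of_le_of_card_ge (H := A) (K := Subgroup.centralizer (A : Set E))
      (fun a ha => Subgroup.mem_centralizer_iff.2 fun b hb => hAcomm b hb a ha) ?_).symm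
    have := centralizer_card hE A
    rw [hcard, hAcard, show (2 : ℕ) * 2 ^ (2 * m + 1) = 2 ^ (m + 1) * 2 ^ (m + 1) by ring] at this
    rw [hAcard]
    exact Nat.le_of_mul_le_mul_left this (by positivity)
  obtain ⟨z, hz, hzne⟩ : ∃ z ∈ Subgroup.center E, z ≠ 1 := by
    refine (Subgroup.center E).bot_or_exists_ne_one.resolve_left fun h => ?_
    have := hE.2
    rw [h] at this
    simp at this
  have hzeq : ∀ c ∈ Subgroup.center E, c = 1 ∨ c = z := by
    intro c hc
    by_contra h
    push Not at h
    have h2 := Nat.card_eq_two_iff' (1 : Subgroup.center E) |>.1 hE.2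
    obtain ⟨w, -, hw⟩ := h2
    have e1 := hw ⟨c, hc⟩ (fun e => h.1 (congrArg Subtype.val e))
    have e2 := hw ⟨z, hz⟩ (fun e => hzne (congrArg Subtype.val e))
    exact h.2 (congrArg Subtype.val (e1.trans e2.symm))
  have hzA : z ∈ A := by
    rw [← hCA]; exact Subgroup.center_le_centralizer _ hz
  have hzz : z * z = 1 := hA2' z hzA
  have hcomm : ∀ a g : E, a * g * a⁻¹ * g⁻¹ ∈ Subgroup.center E := fun a g => by
    rw [← hE.1.2.2, commutator_def]
    exact Subgroup.commutator_mem_commutator (Subgroup.mem_top a) (Subgroup.mem_top g)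
  -- squares are central
  have hsq : ∀ x : E, x * x ∈ Subgroup.center E := by
    intro x
    rw [Subgroup.mem_center_iff]
    intro y
    have hc := hcomm y x
    set c := y * x * y⁻¹ * x⁻¹ with hcdef
    have hyx : y * x = c * x * y := by rw [hcdef]; group
    have hcx : x * c = c * x := Subgroup.mem_center_iff.1 hc x
    have hcc : c * c = 1 := by
      rcases hzeq c hc with e | e <;> simp [e, hzz]
    calc y * (x * x) = (y * x) * x := by group
      _ = c * x * y * x := by rw [hyx]
      _ = c * x * (y * x) := by group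
      _ = c * (x * c) * x * y := by rw [hyx]; group
      _ = (c * c) * x * x * y := by rw [hcx]; group
      _ = x * x * y := by rw [hcc, one_mul]
  -- a partner in `A` for each coset outside `A`
  have hpart : ∀ x : E, x ∉ A → ∃ a ∈ A, a * x * a⁻¹ * x⁻¹ = z := by
    intro x hx
    rw [← hCA, Subgroup.mem_centralizer_iff] at hx
    push Not at hx
    obtain ⟨a, ha, hax⟩ := hx
    refine ⟨a, ha, (hzeq _ (hcomm a x)).resolve_left fun e => hax ?_⟩
    rwa [mul_inv_eq_one, mul_inv_eq_iff_eq_mul] at e
  let part : E ⧸ A → E := fun q =>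
    if h : (Quotient.out q : E) ∈ A then 1 else Classical.choose (hpart _ h)
  have hpartA : ∀ q, part q ∈ A := fun q => by
    simp only [part]
    split
    · exact A.one_mem
    · next h => exact (Classical.choose_spec (hpart _ h)).1
  have hpartz : ∀ x : E, x ∉ A → part x * x * (part x)⁻¹ * x⁻¹ = z := by
    intro x hx
    obtain ⟨b, hb⟩ := QuotientGroup.mk_out_eq_mul A x
    have hout : (Quotient.out (x : E ⧸ A) : E) ∉ A := by
      rw [hb, A.mul_mem_cancel_right b.2]; exact hx
    have h1 := Classical.choose_spec (hpart _ hout)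
    have hp1 : part (x : E ⧸ A) = Classical.choose (hpart _ hout) := by
      simp only [part, dif_neg hout]
    rw [← hp1, hb] at h1
    set a := part (x : E ⧸ A)
    have h2 := hAcomm _ h1.1 _ b.2
    calc a * x * a⁻¹ * x⁻¹ = a * x * (b * a⁻¹) * (b : E)⁻¹ * x⁻¹ := by
          rw [show (b : E) * a⁻¹ = a⁻¹ * b from hAcomm _ b.2 _ (A.inv_mem h1.1)]; group
      _ = a * (x * b) * a⁻¹ * (x * b)⁻¹ := by group
      _ = z := h1.2
  -- the flipping involution
  let f : {x : E // x ∉ A} → {x : E // x ∉ A} := fun x =>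
    ⟨x * part (x.1 : E ⧸ A), by rw [A.mul_mem_cancel_right (hpartA _)]; exact x.2⟩
  have hff : Function.Involutive f := by
    intro x
    refine Subtype.ext ?_
    show (x : E) * part (x.1 : E ⧸ A) * part (((x : E) * part (x.1 : E ⧸ A) : E) : E ⧸ A) = x
    rw [QuotientGroup.mk_mul_of_mem (x : E) (hpartA _), mul_assoc, hA2' _ (hpartA _), mul_one]
  have hflip : ∀ x : {x : E // x ∉ A}, (f x : E) * (f x : E) = ((x : E) * x) * z := by
    intro x
    set a := part (x.1 : E ⧸ A) with hadef
    have h1 : a * x * a⁻¹ * (x : E)⁻¹ = z := hpartz x x.2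
    have hainv : a⁻¹ = a := inv_eq_of_mul_eq_one_right (hA2' _ (hpartA _))
    rw [hainv] at h1
    have hzx : z * (x : E) = x * z := (Subgroup.mem_center_iff.1 hz x).symm
    calc (x : E) * a * ((x : E) * a) = (x : E) * (a * x * a * (x : E)⁻¹) * x := by group
      _ = (x : E) * z * x := by rw [h1]
      _ = _ := by rw [mul_assoc, hzx, ← mul_assoc]
  let F : {x : {x : E // x ∉ A} // (x : E) * x = 1} ≃ {x : {x : E // x ∉ A} // ¬ (x : E) * x = 1} :=
    { toFun := fun x => ⟨f x.1, by rw [hflip, x.2, one_mul]; exact hzne⟩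
      invFun := fun x => ⟨f x.1, by
        rw [hflip, (hzeq _ (hsq _)).resolve_left x.2, hzz]⟩
      left_inv := fun x => Subtype.ext (hff x.1)
      right_inv := fun x => Subtype.ext (hff x.1) }
  have hsum : Nat.card {x : {x : E // x ∉ A} // (x : E) * x = 1} +
      Nat.card {x : {x : E // x ∉ A} // ¬ (x : E) * x = 1} = Nat.card {x : E // x ∉ A} := by
    rw [← Nat.card_sum]
    exact Nat.card_congr (Equiv.sumCompl _)
  rw [Nat.card_congr F] at hsum
  have htot : Nat.card A + Nat.card {x : E // x ∉ A} = Nat.card E := by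
    rw [← Nat.card_sum]
    exact Nat.card_congr (Equiv.sumCompl (fun x => x ∈ A))
  have e4 : {x : E // orderOf x = 4} ≃ {x : {x : E // x ∉ A} // ¬ (x : E) * x = 1} :=
    { toFun := fun x => ⟨⟨x.1, fun h => by
          have := orderOf_dvd_of_pow_eq_one (hA2 _ h); rw [x.2] at this; norm_num at this⟩,
        fun h => by
          have := orderOf_dvd_of_pow_eq_one ((sq x.1).trans h); rw [x.2] at this; norm_num at this⟩
      invFun := fun x => ⟨x.1.1, by
        have h4 : ((x.1 : E)) ^ 4 = 1 := by
          have h := (hzeq _ (hsq (x.1 : E))).resolve_left x.2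
          rw [show ((x.1 : E)) ^ 4 = ((x.1 : E) * x.1) * ((x.1 : E) * x.1) by
            simp only [pow_succ, pow_zero, one_mul]; group, h, hzz]
        have h2 : ¬ (x.1 : E) ^ 2 = 1 := by rw [sq]; exact x.2
        exact orderOf_eq_prime_pow (p := 2) (n := 1) (by simpa using h2) h4⟩
      left_inv := fun _ => rfl
      right_inv := fun _ => rfl }
  rw [Nat.card_congr e4]
  rw [hAcard, hcard] at htot
  have : (2 : ℕ) ^ (2 * m + 1) = 2 * 2 ^ (2 * m) := by ring
  have : (2 : ℕ) ^ (m + 1) = 2 * 2 ^ m := by ring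
  omega

end Cfsg.Agent.S2880
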