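import Cfsg.Statements.S2881
import Mathlib
import Cfsg.Agent.S2880

set_option autoImplicit false
open Cfsg

namespace Cfsg.Agent.S2881

/-- Let E be an extraspecial 2-group of order 2^(2m+1) of plus type (containing an elementary abelian subgroup of order 2^(m+1)), and let ω be an automorphism of E of order 5 whose fixed points are exactly the centre of E. Then m is divisible by 4. -/
theorem result {E : Type*} [Group E] [Finite E] (m : ℕ) (hm : 1 ≤ m) (hE : Cfsg.IsExtraspecial 2 E) (hcard : Nat.card E = 2 ^ (2 * m + 1)) (hplus : ∃ A : Subgroup E, Cfsg.IsElementaryAbelian 2 A ∧ Nat.card A = 2 ^ (m + 1)) (ω : E ≃* E) (hω : orderOf ω = 5) (hfix : ∀ x : E, ω x = x ↔ x ∈ Subgroup.center E) : 4 ∣ m := by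
  classical
  haveI : Fact (Nat.Prime 5) := ⟨by norm_num⟩
  have := Fintype.ofFinite {x : E // orderOf x = 4}
  let σ : Equiv.Perm {x : E // orderOf x = 4} :=
    ω.toEquiv.subtypeEquiv (fun x => by rw [MulEquiv.toEquiv_eq_coe, EquivLike.coe_coe, MulEquiv.orderOf_eq])
  have hpow : ∀ (n : ℕ) (x : {x : E // orderOf x = 4}), ((σ ^ n) x : E) = (ω ^ n) (x : E) := by
    intro n
    induction n with
    | zero => intro x; rfl
    | succ k ih =>
      intro x
      rw [pow_succ', pow_succ', Equiv.Perm.mul_apply, MulAut.mul_apply, ← ih x]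
      rfl
  have hσ : σ ^ 5 ^ 1 = 1 := by
    ext x
    rw [hpow, pow_one, ← hω, pow_orderOf_eq_one]
    rfl
  have hmod := Equiv.Perm.card_compl_support_modEq (p := 5) hσ
  have hemp : σ.supportᶜ = ∅ := by
    ext x
    simp only [Finset.mem_compl, Equiv.Perm.mem_support, not_not, Finset.notMem_empty, iff_false]
    intro h
    have h1 := (hfix x).1 (congrArg Subtype.val h)
    have h2 := orderOf_dvd_natCard (⟨(x : E), h1⟩ : Subgroup.center E)
    rw [← Subgroup.orderOf_coe, hE.2] at h2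
    rw [show orderOf (x : E) = 4 from x.2] at h2
    norm_num at h2
  rw [hemp, Finset.card_empty, ← Nat.card_eq_fintype_card,
    Cfsg.Agent.S2880.result m hm hE hcard hplus] at hmod
  have h5 : 5 ∣ 2 ^ m * (2 ^ m - 1) := by
    have := Nat.dvd_of_mod_eq_zero hmod.symm
    rwa [Nat.mul_sub, mul_one, ← pow_add, ← two_mul]
  have h5' : 5 ∣ 2 ^ m - 1 := by
    rcases (Nat.Prime.dvd_mul (by norm_num)).1 h5 with h | h
    · exact absurd (Nat.Prime.dvd_of_dvd_pow (by norm_num : Nat.Prime 5) h) (by norm_num)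
    · exact h
  have hdecomp : (2 : ℕ) ^ m = 16 ^ (m / 4) * 2 ^ (m % 4) := by
    rw [show (16 : ℕ) = 2 ^ 4 by norm_num, ← pow_mul, ← pow_add, Nat.div_add_mod]
  have h16 : (16 : ℕ) ^ (m / 4) % 5 = 1 := by rw [Nat.pow_mod]; simp
  have hm2 : 2 ^ m % 5 = 2 ^ (m % 4) % 5 := by
    rw [hdecomp, Nat.mul_mod, h16, one_mul, Nat.mod_mod]
  have h1 : 1 ≤ 2 ^ m := Nat.one_le_two_pow
  have h1' : 2 ^ m % 5 = 1 := by omega
  have : m % 4 < 4 := Nat.mod_lt _ (by norm_num)
  interval_cases h : m % 4 <;> norm_num at hm2 <;> omega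

end Cfsg.Agent.S2881
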