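import Cfsg.Statements.S2882
import Mathlib
import Cfsg.Agent.Lib.M24Sylow55
import Cfsg.Agent.Lib.Fusion.Mathieu.Identify
import Cfsg.Agent.Lib.Fusion.Mathieu.FusM24

set_option autoImplicit false
open Cfsg

namespace Cfsg.Agent.S2882
open Cfsg.Agent.Lib.Compute in
theorem m24FixPairs_ok :
    Lib.M24Sylow55.fixPairs 8 24 (elems (permOps 8 24) Lib.Fusion.Mathieu.m24Fus.LP) = true := by
  decide +kernel


/-- In the Mathieu group of degree 24 (realised as the automorphism group of the extended binary Golay code) every Sylow 2-subgroup is self-normalizing. -/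
theorem result (S : Sylow 2 ↥Cfsg.M24) : Subgroup.normalizer ((S : Subgroup ↥Cfsg.M24) : Set ↥Cfsg.M24) = (S : Subgroup ↥Cfsg.M24) := by
  exact Lib.M24Sylow55.normalizer_eq_of_fusCheck Lib.Compute.Mathieu.ptEquiv (by decide)
    Lib.Compute.Mathieu.gensOK_m24 Lib.Compute.Mathieu.m24Chain_ok Lib.Fusion.Mathieu.m24Fus_ok
    m24FixPairs_ok _ Lib.Fusion.Mathieu.eq_m24 S

end Cfsg.Agent.S2882
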