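import Cfsg.Statements.S2897
import Mathlib
import Cfsg.Agent.S2896

set_option autoImplicit false
open Cfsg

namespace Cfsg.Agent.S2897

/-- Let p be a prime dividing the order of the finite group G, suppose G has parabolic characteristic p, let S be a Sylow p-subgroup of G and G₁ a normal subgroup of G. If Ω₁(Z(S ∩ G₁)) is nontrivial and contained in Ω₁(Z(S)), then G₁ has parabolic characteristic p. -/
theorem result {G : Type*} [Group G] [Finite G] {p : ℕ} [Fact p.Prime] (hdiv : p ∣ Nat.card G) (hG : Cfsg.IsOfParabolicCharacteristic p G) (S : Sylow p G) (G₁ : Subgroup G) [G₁.Normal] (hne : Cfsg.omegaOne p (((S : Subgroup G) ⊓ G₁) ⊓ Subgroup.centralizer (((S : Subgroup G) ⊓ G₁ : Subgroup G) : Set G)) ≠ ⊥) (hle : Cfsg.omegaOne p (((S : Subgroup G) ⊓ G₁) ⊓ Subgroup.centralizer (((S : Subgroup G) ⊓ G₁ : Subgroup G) : Set G)) ≤ Cfsg.omegaOne p ((S : Subgroup G) ⊓ Subgroup.centralizer ((S : Subgroup G) : Set G))) : Cfsg.IsOfParabolicCharacteristic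 p ↥G₁ := by
  classical
  intro R hR hR1 ⟨T₁, hT₁⟩
  set T := (T₁ : Subgroup G₁).map G₁.subtype with hTdef
  set R' := R.map G₁.subtype with hR'
  have hinj := G₁.subtype_injective
  have hN : (Subgroup.normalizer (R : Set G₁)).map G₁.subtype =
      G₁ ⊓ Subgroup.normalizer (R' : Set G) := by
    ext x
    constructor
    · rintro ⟨y, hy, rfl⟩
      refine ⟨y.2, Subgroup.mem_normalizer_iff.mpr fun b => ⟨?_, ?_⟩⟩
      · rintro ⟨r, hr, rfl⟩
        exact ⟨y * r * y⁻¹, (Subgroup.mem_normalizer_iff.mp hy r).mp hr, by simp⟩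
      · rintro ⟨r, hr, he⟩
        refine ⟨y⁻¹ * r * y, ?_, ?_⟩
        · exact (Subgroup.mem_normalizer_iff.mp hy _).mpr (by simpa [mul_assoc] using hr)
        · have he' : (r : G) = y * b * (y : G)⁻¹ := he
          simp [he', mul_assoc]
    · rintro ⟨hxG, hx⟩
      refine ⟨⟨x, hxG⟩, Subgroup.mem_normalizer_iff.mpr fun b => ?_, rfl⟩
      have := Subgroup.mem_normalizer_iff.mp hx (b : G)
      rw [← Subgroup.mem_map_iff_mem hinj, ← Subgroup.mem_map_iff_mem hinj (K := R) (x := _ * b * _)]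
      exact this
  have hR'p : IsPGroup p R' := hR.map _
  have hTp : IsPGroup p T := T₁.isPGroup'.map _
  have hTN : T ≤ Subgroup.normalizer (R' : Set G) :=
    (Subgroup.map_mono hT₁).trans (hN.le.trans inf_le_right)
  have hRT : R' ≤ T := by
    refine Subgroup.map_mono ?_
    have := T₁.3 (Q := R ⊔ T₁) (hR.to_sup_of_normal_left' T₁.isPGroup' hT₁) le_sup_right
    exact le_sup_left.trans this.le
  obtain ⟨w, hwR, hwo, hwc⟩ := Cfsg.Agent.S2896.exists_fixed_order hTp hR'p hTN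
    (fun h => hR1 ((R.map_eq_bot_iff_of_injective hinj).1 h))
  obtain ⟨S', hTS'⟩ := hTp.exists_le_sylow
  obtain ⟨g, hg⟩ := MulAction.exists_smul_eq G S S'
  have hmax : (S' : Subgroup G) ⊓ G₁ ≤ T := by
    have h1 : (T₁ : Subgroup G₁) ≤ (S' : Subgroup G).subgroupOf G₁ :=
      fun x hx => hTS' ⟨x, hx, rfl⟩
    have h2 := T₁.3 (S'.isPGroup'.comap_of_injective _ hinj) h1
    rintro x ⟨hxS, hxG⟩
    exact ⟨⟨x, hxG⟩, h2.le hxS, rfl⟩
  set z := g⁻¹ * w * g with hz
  have hzo : orderOf z = p := by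
    rw [← hwo, hz]
    exact (MulEquiv.orderOf_eq (MulAut.conj g⁻¹) w ▸ by simp)
  have hwG : w ∈ G₁ := Subgroup.map_subtype_le R hwR
  have hzZ : z ∈ ((S : Subgroup G) ⊓ G₁) ⊓
      Subgroup.centralizer (((S : Subgroup G) ⊓ G₁ : Subgroup G) : Set G) := by
    refine ⟨⟨(Cfsg.Agent.S2896.conj_mem_sylow hg).1 (hTS' (hRT hwR)), ?_⟩,
      Subgroup.mem_centralizer_iff.2 fun s hs => ?_⟩
    · simpa [hz] using (inferInstance : G₁.Normal).conj_mem w hwG g⁻¹
    · have hs' : g * s * g⁻¹ ∈ T := hmax ⟨(Cfsg.Agent.S2896.conj_mem_sylow hg).2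
        (by simpa [mul_assoc] using hs.1), (inferInstance : G₁.Normal).conj_mem s hs.2 g⟩
      have := Subgroup.mem_centralizer_iff.mp hwc _ hs'
      calc s * z = g⁻¹ * (g * s * g⁻¹ * w) * g := by rw [hz]; group
        _ = g⁻¹ * (w * (g * s * g⁻¹)) * g := by rw [this]
        _ = z * s := by rw [hz]; group
  have hz1 : z ≠ 1 := fun hc => (Fact.out : p.Prime).ne_one (by rw [← hzo, hc, orderOf_one])
  have hmem : z ∈ Cfsg.omegaOne p ((S : Subgroup G) ⊓ Subgroup.centralizer ((S : Subgroup G) : Set G)) :=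
    hle (Subgroup.subset_closure ⟨hzZ, by rw [← hzo, pow_orderOf_eq_one]⟩)
  have hCz := Cfsg.Agent.Lib.CharP.generalizedFittingSubgroup_eq_pCore_iff.1
    ((Cfsg.Agent.S2896.result hdiv S ⊥ bot_le).2.1.1 hG z hz1 hmem)
  have hC := Cfsg.Agent.S2896.charP_conj (w := w) (g := g) (by rw [hz]; group) hCz
  have hNG := Cfsg.Agent.S2896.normalizer_charP hR'p hwR (Subgroup.centralizer_le hRT hwc) hC
  have hN1 : Subgroup.centralizer (Cfsg.pCore p (G₁ ⊓ Subgroup.normalizer (R' : Set G) : Subgroup G) :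
      Set (G₁ ⊓ Subgroup.normalizer (R' : Set G) : Subgroup G)) ≤
      Cfsg.pCore p (G₁ ⊓ Subgroup.normalizer (R' : Set G) : Subgroup G) :=
    Cfsg.Agent.Lib.CharP.centralizer_pCore_le_of_normalized inf_le_right
      ((Cfsg.Agent.Lib.CharP.pCoreOf_le _).trans fun a ha =>
        Subgroup.inf_normalizer_le_normalizer_inf
          ⟨(Subgroup.normalizer_eq_top G₁).symm ▸ Subgroup.mem_top a, Subgroup.le_normalizer ha⟩) hNG
  exact Cfsg.Agent.Lib.CharP.centralizer_pCore_le_of_equiv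
    (((Subgroup.normalizer (R : Set G₁)).equivMapOfInjective G₁.subtype hinj).trans
      (MulEquiv.subgroupCongr hN)).symm hN1

end Cfsg.Agent.S2897
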