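import Cfsg.Statements.S2898
import Mathlib
import Cfsg.Agent.Lib.PSolvable.Core

set_option autoImplicit false
open Cfsg

namespace Cfsg.Agent.S2898
/-- In a group of parabolic characteristic 2, an involution centralising a Sylow 2-subgroup inverts
the core. -/
theorem inverts_core {G : Type*} [Group G] [Finite G] (hG : Cfsg.IsOfParabolicCharacteristic 2 G)
    {z : G} (hzo : orderOf z = 2) (S : Sylow 2 G)
    (hS : (S : Subgroup G) ≤ Subgroup.centralizer ({z} : Set G)) :
    ∀ o ∈ Cfsg.oddCore G, z * o * z = o⁻¹ := by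
  have hzz : z * z = 1 := by rw [← sq, ← hzo, pow_orderOf_eq_one]
  have hzinv : z⁻¹ = z := inv_eq_of_mul_eq_one_right hzz
  set O := Cfsg.oddCore G
  -- no nontrivial fixed points
  have hfix : ∀ c ∈ O, c * z = z * c → c = 1 := by
    intro c hc hcz
    set R := Subgroup.zpowers z with hRdef
    set N := Subgroup.normalizer (R : Set G) with hNdef
    have hRp : IsPGroup 2 R := IsPGroup.of_card (n := 1) (by rw [hRdef, Nat.card_zpowers, hzo, pow_one])
    have hR1 : R ≠ ⊥ := by
      rw [hRdef, Ne, Subgroup.zpowers_eq_bot]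
      rintro rfl
      rw [orderOf_one] at hzo
      omega
    have hcN : ∀ g : G, g * z = z * g → g ∈ N := fun g hg => by
      rw [hNdef, Subgroup.mem_normalizer_iff]
      intro w
      refine ⟨fun hw => ?_, fun hw => ?_⟩
      · obtain ⟨k, rfl⟩ := hw
        exact ⟨k, by show z ^ k = g * z ^ k * g⁻¹; rw [(Commute.zpow_right hg k).eq, mul_inv_cancel_right]⟩
      · obtain ⟨k, hk⟩ := hw
        refine ⟨k, ?_⟩
        show z ^ k = w
        have h1 : g * z ^ k = g * w := by
          rw [(Commute.zpow_right hg k).eq]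
          show z ^ k * g = g * w
          rw [show z ^ k = g * w * g⁻¹ from hk]; group
        exact mul_left_cancel h1
    have hchar := hG R hRp hR1 ⟨S, fun s hs => hcN s (Subgroup.mem_centralizer_singleton_iff.1 (hS hs))⟩
    have hdis : Disjoint (Cfsg.pCore 2 N) (O.subgroupOf N) := by
      rw [disjoint_iff]
      refine Subgroup.inf_eq_bot_of_coprime ?_
      obtain ⟨k, hk⟩ := IsPGroup.iff_card.1
        (Cfsg.Agent.Lib.PSolvable.pCore_isPGroup (p := 2) (G := N))
      rw [hk]
      refine Nat.Coprime.pow_left _ ?_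
      refine Nat.Coprime.coprime_dvd_right (Subgroup.card_dvd_of_injective
        ((N.subtype.domRestrict (O.subgroupOf N)).codRestrict O (fun a => a.2)) ?_)
        (Nat.Coprime.symm Cfsg.Agent.Lib.PSolvable.pPrimeCore_coprime)
      intro a b hab
      exact Subtype.ext (Subtype.ext (congrArg Subtype.val hab :))
    have hmem : (⟨c, hcN c hcz⟩ : N) ∈ Subgroup.centralizer (Cfsg.pCore 2 N : Set N) := by
      rw [Subgroup.mem_centralizer_iff]
      intro a ha
      exact (Subgroup.commute_of_normal_of_disjoint _ _ inferInstance inferInstance hdis a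
        (⟨c, hcN c hcz⟩ : N) ha hc).eq
    have := hdis.le_bot ⟨hchar hmem, (hc : (⟨c, hcN c hcz⟩ : N) ∈ O.subgroupOf N)⟩
    simpa using congrArg Subtype.val (Subgroup.mem_bot.1 this)
  have hzO : ∀ o ∈ O, z * o * z ∈ O := fun o ho => by
    have := (inferInstance : O.Normal).conj_mem o ho z
    rwa [hzinv] at this
  let f : O → O := fun o => ⟨(o : G)⁻¹ * (z * o * z), O.mul_mem (O.inv_mem o.2) (hzO _ o.2)⟩
  have hf : Function.Injective f := by
    intro a b hab
    have hab' : (a : G)⁻¹ * (z * a * z) = (b : G)⁻¹ * (z * b * z) := congrArg Subtype.val hab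
    refine Subtype.ext ?_
    have h2 : ((b : G) * (a : G)⁻¹) * z = z * ((b : G) * (a : G)⁻¹) := by
      calc (b : G) * (a : G)⁻¹ * z = b * ((a : G)⁻¹ * (z * a * z)) * z⁻¹ * (a : G)⁻¹ := by group
        _ = b * ((b : G)⁻¹ * (z * b * z)) * z⁻¹ * (a : G)⁻¹ := by rw [hab']
        _ = z * (b * (a : G)⁻¹) := by group
    have := hfix _ (O.mul_mem b.2 (O.inv_mem a.2)) h2
    exact (mul_inv_eq_one.1 this).symm
  intro o ho
  obtain ⟨a, ha⟩ := (Finite.injective_iff_surjective.1 hf) ⟨o, ho⟩
  have ha' : (a : G)⁻¹ * (z * a * z) = o := congrArg Subtype.val ha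
  subst ha'
  calc z * ((a : G)⁻¹ * (z * a * z)) * z = z * (a : G)⁻¹ * z * a * (z * z) := by group
    _ = z⁻¹ * (a : G)⁻¹ * z⁻¹ * a := by rw [hzz, mul_one, hzinv]
    _ = _ := by group


/-- Let G be a finite group of even order with parabolic characteristic 2. If the centre of G ⧸ O(G) is trivial, then O(G) = 1. -/
theorem result {G : Type*} [Group G] [Finite G] (h2 : 2 ∣ Nat.card G) (hG : Cfsg.IsOfParabolicCharacteristic 2 G) [hN : (Cfsg.oddCore G).Normal] (hZ : Subgroup.center (G ⧸ Cfsg.oddCore G) = ⊥) : Cfsg.oddCore G = ⊥ := by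
  classical
  haveI : Fact (Nat.Prime 2) := ⟨Nat.prime_two⟩
  set O := Cfsg.oddCore G with hOdef
  by_contra hO
  obtain ⟨o, ho, ho1⟩ := O.bot_or_exists_ne_one.resolve_left hO
  have hodd : ∀ a ∈ O, a = a⁻¹ → a = 1 := by
    intro a ha haa
    have h2 : a ^ 2 = 1 := by
      rw [sq]; nth_rw 2 [haa]; exact mul_inv_cancel a
    have hdvd : orderOf a ∣ Nat.card O := by
      rw [← Subgroup.orderOf_mk a ha]; exact orderOf_dvd_natCard _
    exact orderOf_eq_one_iff.1 (Nat.eq_one_of_dvd_coprimes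
      (Cfsg.Agent.Lib.PSolvable.pPrimeCore_coprime (p := 2)) hdvd (orderOf_dvd_of_pow_eq_one h2))
  obtain ⟨S⟩ : Nonempty (Sylow 2 G) := inferInstance
  -- an element of `Z(S)` of order 2 inside any given nontrivial `S`-invariant subgroup of `S`
  have hcentral : ∀ W : Subgroup G, W ≤ (S : Subgroup G) → W ≠ ⊥ →
      (∀ s ∈ (S : Subgroup G), ∀ w ∈ W, s * w * s⁻¹ ∈ W) →
      ∃ z ∈ W, orderOf z = 2 ∧ (S : Subgroup G) ≤ Subgroup.centralizer ({z} : Set G) := by
    intro W hWS hW1 hWn
    let act : MulAction (S : Subgroup G) W :=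
      { smul := fun s w => ⟨(s : G) * w * (s : G)⁻¹, hWn s s.2 w w.2⟩
        one_smul := fun w => Subtype.ext (show (1 : G) * w * (1 : G)⁻¹ = w by simp)
        mul_smul := fun a b w => Subtype.ext
          (show (a * b : G) * w * (a * b : G)⁻¹ = a * (b * w * (b : G)⁻¹) * (a : G)⁻¹ by group) }
    have h2W : 2 ∣ Nat.card W := (S.2.to_le hWS).card_eq_or_dvd.resolve_left
      fun h => hW1 (Subgroup.card_eq_one.1 h)
    obtain ⟨w, hw, hw1⟩ := S.2.exists_fixed_point_of_prime_dvd_card_of_fixed_point W h2W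
      (a := (1 : W)) (fun s => Subtype.ext (show (s : G) * (1 : G) * (s : G)⁻¹ = 1 by simp))
    have hwne : (w : G) ≠ 1 := fun h => hw1.symm (Subtype.ext h)
    obtain ⟨k, hk⟩ := S.2 ⟨w, hWS w.2⟩
    obtain ⟨j, -, hj⟩ := (Nat.dvd_prime_pow Nat.prime_two).1
      (orderOf_dvd_of_pow_eq_one (show (w : G) ^ 2 ^ k = 1 from by simpa using congrArg Subtype.val hk))
    cases j with
    | zero => exact absurd (orderOf_eq_one_iff.1 (by simpa using hj)) hwne
    | succ i =>
      refine ⟨(w : G) ^ 2 ^ i, W.pow_mem w.2 _, ?_, ?_⟩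
      · rw [orderOf_pow' _ (by positivity), hj, Nat.gcd_eq_right (pow_dvd_pow 2 (Nat.le_succ i)),
          pow_succ, Nat.mul_div_cancel_left _ (by positivity)]
      · intro s hs
        rw [Subgroup.mem_centralizer_singleton_iff]
        have h3 : (s : G) * w * s⁻¹ = w := congrArg Subtype.val (hw ⟨s, hs⟩)
        exact (Commute.pow_right (mul_inv_eq_iff_eq_mul.1 h3) _)
  obtain ⟨z, -, hzo, hzS⟩ := hcentral (S : Subgroup G) le_rfl (S.ne_bot_of_dvd_card h2)
    (fun s hs w hw => Subgroup.mul_mem _ (Subgroup.mul_mem _ hs hw) (Subgroup.inv_mem _ hs))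
  have hzz : z * z = 1 := by rw [← sq, ← hzo, pow_orderOf_eq_one]
  have hzinv : z⁻¹ = z := inv_eq_of_mul_eq_one_right hzz
  set C := Subgroup.centralizer (O : Set G) with hCdef
  haveI : C.Normal := by rw [hCdef]; infer_instance
  -- `C` has odd order
  have hCO : C ≤ O := by
    refine le_sSup ⟨inferInstance, ?_⟩
    refine Nat.Coprime.symm ((Nat.prime_two.coprime_iff_not_dvd).2 fun h2C => ?_)
    obtain ⟨x, hx⟩ := exists_prime_orderOf_dvd_card' (G := C) 2 h2C
    have hxp : IsPGroup 2 (Subgroup.zpowers (x : G)) :=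
      IsPGroup.of_card (n := 1) (by rw [Nat.card_zpowers, Subgroup.orderOf_coe, hx, pow_one])
    obtain ⟨T, hT⟩ := hxp.exists_le_sylow
    obtain ⟨g, hg⟩ := MulAction.exists_smul_eq G T S
    have hgx : g * (x : G) * g⁻¹ ∈ (S : Subgroup G) := by
      rw [← hg, Sylow.coe_subgroup_smul]
      simpa using Subgroup.smul_mem_pointwise_smul (x : G) (MulAut.conj g) _ (hT (Subgroup.mem_zpowers _))
    have hW1 : (S : Subgroup G) ⊓ C ≠ ⊥ := fun h => by
      have h0 := Subgroup.mem_bot.1 (h ▸ (show g * (x : G) * g⁻¹ ∈ (S : Subgroup G) ⊓ C from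
        ⟨hgx, (inferInstance : C.Normal).conj_mem _ x.2 g⟩))
      have : (x : G) = 1 := by
        have := congrArg (fun y => g⁻¹ * y * g) h0
        simpa [mul_assoc] using this
      rw [← Subgroup.orderOf_coe, this, orderOf_one] at hx
      omega
    obtain ⟨c, hc, hco, hcS⟩ := hcentral _ inf_le_left hW1
      (fun s hs w hw => ⟨Subgroup.mul_mem _ (Subgroup.mul_mem _ hs hw.1) (Subgroup.inv_mem _ hs),
        (inferInstance : C.Normal).conj_mem _ hw.2 s⟩)
    refine ho1 (hodd o ho ?_)
    rw [← inverts_core hG hco S hcS o ho, ← Subgroup.mem_centralizer_iff.1 hc.2 o ho, mul_assoc,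
      ← sq, ← hco, pow_orderOf_eq_one, mul_one]
  -- `z` is central modulo `O`
  have hz : (z : G ⧸ O) ∈ Subgroup.center (G ⧸ O) := by
    rw [Subgroup.mem_center_iff]
    intro q
    induction q using QuotientGroup.induction_on with
    | H g =>
      rw [← QuotientGroup.mk_mul, ← QuotientGroup.mk_mul, QuotientGroup.eq]
      have hginv : ∀ a ∈ O, g⁻¹ * z * g * a * (g⁻¹ * z * g) = a⁻¹ := by
        intro a ha
        have := inverts_core hG hzo S hzS _ ((inferInstance : O.Normal).conj_mem a ha g)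
        calc g⁻¹ * z * g * a * (g⁻¹ * z * g) = g⁻¹ * (z * (g * a * g⁻¹) * z) * g := by group
          _ = g⁻¹ * (g * a * g⁻¹)⁻¹ * g := by rw [this]
          _ = a⁻¹ := by group
      refine hCO ?_
      rw [hCdef, Subgroup.mem_centralizer_iff]
      intro a ha
      set w := g⁻¹ * z * g with hw
      have e : (g * z)⁻¹ * (z * g) = z⁻¹ * w := by rw [hw]; group
      rw [e, hzinv]
      have hww : w * w = 1 := by
        rw [hw, show g⁻¹ * z * g * (g⁻¹ * z * g) = g⁻¹ * (z * z) * g by group, hzz]; group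
      have h1 : z * a * z = a⁻¹ := inverts_core hG hzo S hzS a ha
      have h2' : w * a * w = a⁻¹ := hginv a ha
      have hwa : w * a = a⁻¹ * w := by
        rw [← h2', mul_assoc _ w w, hww, mul_one]
      have hza : z * a⁻¹ = a * z := by
        rw [← h1, ← mul_assoc, ← mul_assoc, hzz, one_mul]
      calc a * (z * w) = (a * z) * w := by rw [mul_assoc]
        _ = z * (a⁻¹ * w) := by rw [← hza, mul_assoc]
        _ = z * w * a := by rw [← hwa]; exact (mul_assoc z w a).symm
  rw [hZ, Subgroup.mem_bot, QuotientGroup.eq_one_iff] at hz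
  have := hodd z hz hzinv.symm
  rw [this, orderOf_one] at hzo
  omega

end Cfsg.Agent.S2898
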