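import Cfsg.Statements.S2905
import Mathlib
import Cfsg.Agent.Lib.PMinimal55.Basic
import Cfsg.Agent.Lib.Core.Fitting

set_option autoImplicit false
open Cfsg

namespace Cfsg.Agent.S2905
open Subgroup in
/-- The order of `H ⊔ K` divides `|H| · |K|` when `K` normalises `H`. -/
theorem card_sup_dvd {G : Type*} [Group G] [Finite G] {H K : Subgroup G}
    (h : K ≤ normalizer (H : Set G)) :
    Nat.card ↥(H ⊔ K) ∣ Nat.card H * Nat.card K := by
  haveI : (H.subgroupOf (H ⊔ K)).Normal :=
    (normal_subgroupOf_iff_le_normalizer le_sup_left).2 (sup_le le_normalizer h)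
  rw [← card_mul_index (H.subgroupOf (H ⊔ K)),
    Nat.card_congr (subgroupOfEquivOfLe (le_sup_left : H ≤ H ⊔ K)).toEquiv]
  refine mul_dvd_mul_left _ ?_
  have htop : H.subgroupOf (H ⊔ K) ⊔ K.subgroupOf (H ⊔ K) = ⊤ := by
    rw [← subgroupOf_sup le_sup_left le_sup_right, subgroupOf_self]
  rw [← relIndex_top_right, ← htop, relIndex_sup_left]
  refine (relIndex_dvd_card _ _).trans (dvd_of_eq ?_)
  exact Nat.card_congr (subgroupOfEquivOfLe le_sup_right).toEquiv


/-- Let P be a finite p-minimal group (a Sylow p-subgroup S is not normal and lies in a unique maximal subgroup M of P) and let F be the normal core of M. Then: every subnormal subgroup N of P contained in M satisfies N ∩ S ≤ O_p(P); if O^p(P) has a normal Sylow p-subgroup then the order of P has at most two prime divisors; every normal subgroup N of P either contains O^p(P) or is contained in F; and O^p(P)F ⧸ F is a minimal normal subgroup of P ⧸ F. -/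
theorem result {P : Type*} [Group P] [Finite P] {p : ℕ} [Fact p.Prime] (hP : Cfsg.IsPMinimal p P) (S : Sylow p P) (M : Subgroup P) (hM : IsCoatom M) (hSM : (S : Subgroup P) ≤ M) [hF : M.normalCore.Normal] : (∀ N : Subgroup P, N.IsSubnormal → N ≤ M → N ⊓ (S : Subgroup P) ≤ Cfsg.pCore p P) ∧ ((∀ T : Sylow p ↥(Cfsg.pResidual p P), (T : Subgroup ↥(Cfsg.pResidual p P)).Normal) → (Nat.card P).primeFactors.card ≤ 2) ∧ (∀ N : Subgroup P, N.Normal → Cfsg.pResidual p P ≤ N ∨ N ≤ M.normalCore) ∧ (∀ N : Subgroup P, N.Normal → M.normalCore ≤ N → N ≤ Cfsg.pResidual p P ⊔ M.normalCore → N = M.normalCore ∨ N = Cfsg.pResidual p P ⊔ M.normalCore) ∧ M.normalCore < Cfsg.pResidual p P ⊔ M.normalCore := by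
  have d := Cfsg.Agent.Lib.PMinimal55.data_of_isPMinimal hP S hM hSM
  refine ⟨fun N hN hNM => d.inf_sylow_le hN hNM, ?_, fun N hN => have := hN; d.dichotomy N, ?_, ?_⟩
  · intro hcl
    classical
    set R := Cfsg.pResidual p P with hR
    obtain ⟨T⟩ : Nonempty (Sylow p R) := inferInstance
    set T' := (T : Subgroup R).map R.subtype with hT'
    have hpp : p.Prime := Fact.out
    haveI hT'n : T'.Normal := by
      haveI := hcl T
      haveI : (T : Subgroup R).Characteristic := T.characteristic_of_normal (hcl T)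
      exact ConjAct.normal_of_characteristic_of_normal
    by_contra hcard
    refine d.pResidual_not_le ?_
    rw [← Subgroup.subgroupOf_eq_top]
    refine Cfsg.Agent.Lib.Fitting.eq_top_of_sylow_le fun q hq => ?_
    haveI : Fact q.Prime := ⟨hq⟩
    by_cases hqp : q = p
    · subst hqp
      refine ⟨T, fun x hx => ?_⟩
      rw [Subgroup.mem_subgroupOf]
      refine hSM ?_
      exact (IsPGroup.le_sylow_of_normal (N := T') (T.2.map _) S) ⟨x, hx, rfl⟩
    · obtain ⟨Q⟩ : Nonempty (Sylow q R) := inferInstance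
      set Q' := (Q : Subgroup R).map R.subtype with hQ'
      set N := Subgroup.normalizer (Q' : Set P) with hN
      have hfr : N ⊔ R = ⊤ := Sylow.normalizer_sup_eq_top Q
      obtain ⟨U⟩ : Nonempty (Sylow p N) := inferInstance
      set U' := (U : Subgroup N).map N.subtype with hU'
      have hUN : U' ≤ N := Subgroup.map_subtype_le _
      -- `T' ⊔ U'` is a Sylow subgroup of `P`
      let π := QuotientGroup.mk' R
      have hsurj : Function.Surjective (π.domRestrict N) := by
        intro x
        obtain ⟨g, rfl⟩ := QuotientGroup.mk_surjective x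
        have hg : g ∈ N ⊔ R := hfr ▸ Subgroup.mem_top g
        rw [← SetLike.mem_coe, Subgroup.mul_normal] at hg
        obtain ⟨a, ha, b, hb, rfl⟩ := hg
        refine ⟨⟨a, ha⟩, ?_⟩
        show (QuotientGroup.mk a : P ⧸ R) = QuotientGroup.mk (a * b)
        exact (QuotientGroup.mk_mul_of_mem a hb).symm
      have hPR : IsPGroup p (P ⧸ R) := Cfsg.Agent.Lib.Transfer.isPGroup_quotient_pResidual
      have hcov : U'.map π = ⊤ := by
        have h1 : (U.mapSurjective hsurj : Subgroup (P ⧸ R)) = ⊤ :=
          ((U.mapSurjective hsurj).3 (hPR.to_subgroup ⊤) le_top).symm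
        rw [Sylow.coe_mapSurjective] at h1
        rw [hU', Subgroup.map_map, ← h1]
        rfl
      obtain ⟨S₁, hS₁⟩ := (IsPGroup.to_sup_of_normal_left (T.2.map R.subtype) (U.2.map N.subtype) :
        IsPGroup p ↥(T' ⊔ U')).exists_le_sylow
      have hW : T' ⊔ U' = (S₁ : Subgroup P) := by
        refine le_antisymm hS₁ fun s hs => ?_
        obtain ⟨u, hu, hus⟩ := (hcov ▸ Subgroup.mem_top (π s) : π s ∈ U'.map π)
        have h1 : u⁻¹ * s ∈ R := QuotientGroup.eq.1 hus
        have h2 : u⁻¹ * s ∈ T' := by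
          have h3 : (S₁ : Subgroup P).subgroupOf R = T := T.3 (S₁.2.comap_of_injective _ R.subtype_injective)
            (fun x hx => hS₁ (Subgroup.mem_sup_left ⟨x, hx, rfl⟩))
          refine ⟨⟨_, h1⟩, ?_, rfl⟩
          rw [SetLike.mem_coe, ← h3]
          exact Subgroup.mul_mem _ (Subgroup.inv_mem _ (hS₁ (Subgroup.mem_sup_right hu))) hs
        simpa using Subgroup.mul_mem _ (Subgroup.mem_sup_right hu : u ∈ T' ⊔ U') (Subgroup.mem_sup_left h2)
      obtain ⟨g, hg⟩ := MulAction.exists_smul_eq P S₁ S
      set X := T' ⊔ (Q' ⊔ U') with hX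
      have hXtop : X ≠ ⊤ := by
        intro htop
        refine hcard ?_
        have hdvd : Nat.card P ∣ Nat.card T' * (Nat.card Q' * Nat.card U') := by
          rw [← Subgroup.card_top, ← htop]
          exact (card_sup_dvd Subgroup.le_normalizer_of_normal).trans
            (mul_dvd_mul_left _ (card_sup_dvd hUN))
        obtain ⟨a, ha⟩ := IsPGroup.iff_card.1 (T.2.map R.subtype : IsPGroup p T')
        obtain ⟨b, hb⟩ := IsPGroup.iff_card.1 (Q.2.map R.subtype : IsPGroup q Q')
        obtain ⟨c, hc⟩ := IsPGroup.iff_card.1 (U.2.map N.subtype : IsPGroup p U')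
        rw [ha, hb, hc] at hdvd
        refine (Finset.card_le_card ?_).trans (Finset.card_le_two (a := p) (b := q))
        intro r hr
        obtain ⟨hr1, hr2⟩ := (Nat.mem_primeFactors.1 hr).1, (Nat.mem_primeFactors.1 hr).2.1
        have h3 := hr2.trans hdvd
        rw [Finset.mem_insert, Finset.mem_singleton]
        rcases (Nat.Prime.dvd_mul hr1).1 h3 with h | h
        · exact Or.inl ((Nat.prime_dvd_prime_iff_eq hr1 hpp).1 (hr1.dvd_of_dvd_pow h))
        · rcases (Nat.Prime.dvd_mul hr1).1 h with h | h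
          · exact Or.inr ((Nat.prime_dvd_prime_iff_eq hr1 hq).1 (hr1.dvd_of_dvd_pow h))
          · exact Or.inl ((Nat.prime_dvd_prime_iff_eq hr1 hpp).1 (hr1.dvd_of_dvd_pow h))
      have hS1X : (S₁ : Subgroup P) ≤ X := hW.ge.trans (sup_le le_sup_left (le_sup_right.trans le_sup_right))
      set Xg := X.map (MulAut.conj g).toMonoidHom with hXg
      have hSXg : (S : Subgroup P) ≤ Xg := by
        rw [← hg, Sylow.coe_subgroup_smul]
        exact Subgroup.map_mono hS1X
      have hXgM : Xg ≤ M := d.unique _ hSXg fun h => hXtop (by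
        have := congrArg (Subgroup.comap (MulAut.conj g).toMonoidHom) h
        rwa [hXg, Subgroup.comap_map_eq_self_of_injective (MulAut.conj g).injective,
          Subgroup.comap_top] at this)
      let gr : MulAut R := MulAut.conjNormal g
      let Qg : Sylow q R := Q.mapSurjective (f := gr.toMonoidHom) gr.surjective
      refine ⟨Qg, ?_⟩
      rw [show (Qg : Subgroup R) = (Q : Subgroup R).map gr.toMonoidHom from rfl]
      rintro _ ⟨x, hx, rfl⟩
      rw [Subgroup.mem_subgroupOf]
      refine hXgM ⟨(x : P), Subgroup.mem_sup_right (Subgroup.mem_sup_left ⟨x, hx, rfl⟩), ?_⟩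
      show g * (x : P) * g⁻¹ = _
      rw [← MulAut.conjNormal_apply]
      rfl
  · intro N hN hFN hNR
    haveI := hN
    rcases d.dichotomy N with h | h
    · exact Or.inr (le_antisymm hNR (sup_le h hFN))
    · exact Or.inl (le_antisymm h hFN)
  · exact lt_of_le_of_ne le_sup_right fun h =>
      d.pResidual_not_le ((le_sup_left.trans h.ge).trans M.normalCore_le)

end Cfsg.Agent.S2905
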