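import Cfsg.Statements.S2906
import Mathlib
import Cfsg.Agent.Lib.PMinimal55.Basic
import Cfsg.Agent.Lib.LocalChar.Reduced
import Cfsg.Agent.Lib.Core.Fitting
import Cfsg.Agent.Lib.Coprime.Sylow
import Cfsg.Agent.Lib.Components.Basic

set_option autoImplicit false
open Cfsg

namespace Cfsg.Agent.S2906
open Subgroup in
/-- A Sylow subgroup meets every subnormal subgroup in a Sylow subgroup. -/
theorem card_inf_of_isSubnormal {G : Type*} [Group G] [Finite G] {p : ℕ} [Fact p.Prime]
    (S : Sylow p G) {K : Subgroup G} (hK : K.IsSubnormal) :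
    Nat.card ↥((S : Subgroup G) ⊓ K) = p ^ (Nat.card K).factorization p := by
  induction hK with
  | top => rw [inf_top_eq, Subgroup.card_top]; exact S.card_eq_multiplicity
  | step H K hle _ hn ih =>
    haveI := hn
    let P : Sylow p ↥K := Sylow.ofCard (((S : Subgroup G) ⊓ K).subgroupOf K)
      (by rw [Nat.card_congr (subgroupOfEquivOfLe inf_le_right).toEquiv]; exact ih)
    obtain ⟨Q, hQ⟩ := Cfsg.Agent.Lib.LocalChar.exists_sylow_inf P (D := H.subgroupOf K)
      le_normalizer_of_normal
    have h1 := Q.card_eq_multiplicity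
    rw [hQ, Nat.card_congr (subgroupOfEquivOfLe inf_le_right).toEquiv,
      Nat.card_congr (subgroupOfEquivOfLe hle).toEquiv] at h1
    rw [← h1]
    have hP : (P : Subgroup K) = ((S : Subgroup G) ⊓ K).subgroupOf K := rfl
    rw [hP]
    refine (congrArg (fun X : Subgroup G => Nat.card X) ?_).trans
      (card_map_of_injective K.subtype_injective)
    rw [map_inf _ _ _ K.subtype_injective, map_subgroupOf_eq_of_le inf_le_right,
      map_subgroupOf_eq_of_le hle, inf_assoc, inf_eq_right.2 hle]

open Subgroup in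
/-- In a `p`-minimal group with `O_p = 1`, a normal `p'`-subgroup lies in the unique maximal subgroup
and all its Sylow subgroups there are normal in the group or lie in it. -/
theorem invariant_sylow_dichotomy {P : Type*} [Group P] [Finite P] {p : ℕ} [Fact p.Prime]
    {S : Sylow p P} {M : Subgroup P} (d : Cfsg.Agent.Lib.PMinimal55.Data S M) (N : Subgroup P)
    [N.Normal] (hN : (Nat.card N).Coprime p) (q : ℕ) [Fact q.Prime] :
    ∃ Q : Sylow q N, ((Q : Subgroup N).map N.subtype).Normal ∨
      ((Q : Subgroup N).map N.subtype ≤ M ∧ normalizer (((Q : Subgroup N).map N.subtype : Subgroup P) : Set P) ≤ M) := by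
  obtain ⟨n, hn⟩ := IsPGroup.iff_card.1 S.2
  haveI : Group.IsNilpotent (S : Subgroup P) := S.2.isNilpotent
  obtain ⟨Q, hQ⟩ := Cfsg.Agent.Lib.Coprime.exists_invariant_sylow (p := q) (A := (S : Subgroup P))
    (K := N) le_normalizer_of_normal (by rw [hn]; exact Nat.Coprime.pow_left _ hN.symm)
    (Or.inl inferInstance)
  refine ⟨Q, or_iff_not_imp_left.2 fun hQn => ?_⟩
  have h := d.unique _ hQ fun h => hQn (normalizer_eq_top_iff.1 h)
  exact ⟨le_normalizer.trans h, h⟩


/-- Let P be a finite p-minimal group with O_p(P) = 1, S a Sylow p-subgroup of P and K a component of P. Then O^p(P) = F*(P) = E(P) is generated by the S-conjugates of K, and the subgroup K·N_S(K) is again p-minimal. -/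
theorem result {P : Type*} [Group P] [Finite P] {p : ℕ} [Fact p.Prime] (hP : Cfsg.IsPMinimal p P) (hOp : Cfsg.pCore p P = ⊥) (S : Sylow p P) (K : Subgroup P) (hK : Cfsg.IsComponent K) : Cfsg.pResidual p P = Cfsg.generalizedFittingSubgroup P ∧ Cfsg.generalizedFittingSubgroup P = Cfsg.layer P ∧ Cfsg.layer P = ⨆ s : ↥(S : Subgroup P), K.map (MulAut.conj (s : P)).toMonoidHom ∧ Cfsg.IsPMinimal p ↥(K ⊔ ((S : Subgroup P) ⊓ Subgroup.normalizer (K : Set P))) := by
  classical
  obtain ⟨M, d⟩ := Cfsg.Agent.Lib.PMinimal55.exists_data hP S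
  have hp' : p.Prime := Fact.out
  set F := M.normalCore with hFdef
  set R := Cfsg.pResidual p P with hRdef
  -- the core of `M` is a nilpotent `p'`-group
  have hFp : (Nat.card F).Coprime p := by
    refine (hp'.coprime_iff_not_dvd.2 fun h => ?_).symm
    obtain ⟨x, hx⟩ := exists_prime_orderOf_dvd_card' (G := F) p h
    have hxp : IsPGroup p (Subgroup.zpowers (x : P)) :=
      IsPGroup.of_card (n := 1) (by rw [Nat.card_zpowers, Subgroup.orderOf_coe, hx, pow_one])
    have h1 := Cfsg.Agent.Lib.LocalChar.le_pCore_of_normal_isPClosed inferInstance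
      d.isPClosed_normalCore (Subgroup.zpowers_le.2 x.2) hxp
    rw [hOp, le_bot_iff, Subgroup.zpowers_eq_bot] at h1
    rw [← Subgroup.orderOf_coe, h1, orderOf_one] at hx
    exact hp'.one_lt.ne hx
  have hFnil : Group.IsNilpotent F := by
    refine ((Group.isNilpotent_of_finite_tfae (G := F)).out 0 3).mpr ?_
    intro q hq Q'
    haveI := hq
    obtain ⟨Q, h⟩ := invariant_sylow_dichotomy d F hFp q
    have hn : (Q : Subgroup F).Normal := by
      rcases h with h | ⟨-, h⟩
      · rw [← Subgroup.comap_map_eq_self_of_injective F.subtype_injective (Q : Subgroup F)]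
        exact h.comap _
      · exfalso
        refine d.coatom.1 (top_le_iff.1 ?_)
        rw [← Sylow.normalizer_sup_eq_top Q]
        exact sup_le h M.normalCore_le
    haveI := Sylow.unique_of_normal Q hn
    rw [Subsingleton.elim Q' Q]
    exact hn
  set E := Cfsg.layer P with hEdef
  haveI hEn : E.Normal := Cfsg.Agent.Lib.Components.layer_normal
  have hKE : K ≤ E := Cfsg.Agent.Lib.Components.isComponent_le_layer hK
  -- no component lies in the core
  have hLF : ∀ L : Subgroup P, Cfsg.IsComponent L → ¬ L ≤ F := by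
    intro L hL hle
    haveI : Group.IsNilpotent F := hFnil
    haveI : Group.IsNilpotent L :=
      (Group.isNilpotent_congr (Subgroup.subgroupOfEquivOfLe hle)).mp inferInstance
    exact Cfsg.Agent.Lib.Components.quasisimple_not_isSolvable hL.2 inferInstance
  have hLR : ∀ L : Subgroup P, Cfsg.IsComponent L → L ≤ R := by
    intro L hL
    have hq : IsPGroup p (P ⧸ R) := Cfsg.Agent.Lib.Transfer.isPGroup_quotient_pResidual
    haveI : Group.IsNilpotent (P ⧸ R) := hq.isNilpotent
    have h1 : Group.IsSolvable (L.map (QuotientGroup.mk' R)) := inferInstance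
    by_contra hLn
    have h2 : L.map (QuotientGroup.mk' R) ≠ ⊥ := by
      rwa [Ne, Subgroup.map_eq_bot_iff, QuotientGroup.ker_mk']
    refine h2 ?_
    haveI : Group.IsPerfect (L.map (QuotientGroup.mk' R)) := by
      rw [Subgroup.isPerfect_iff, ← Subgroup.map_commutator,
        Cfsg.Agent.Lib.Components.isComponent_commutator_self hL]
    haveI := h1
    by_contra h3
    haveI : Nontrivial (L.map (QuotientGroup.mk' R)) := (Subgroup.nontrivial_iff_ne_bot _).2 h3
    exact Group.IsPerfect.not_isSolvable (G := L.map (QuotientGroup.mk' R)) inferInstance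
  have hER : E = R := by
    refine le_antisymm (Cfsg.Agent.Lib.Components.layer_le_iff.2 hLR) ?_
    exact (d.dichotomy E).resolve_right fun h => hLF K hK (hKE.trans h)
  have hFR : F ≤ R := fun x hx => Cfsg.Agent.Lib.Transfer.mem_pResidual_of_coprime
    (hFp.coprime_dvd_left ((Subgroup.orderOf_mk x hx) ▸ orderOf_dvd_natCard _))
  haveI hFitn : (Cfsg.fittingSubgroup P).Normal := Cfsg.Agent.Lib.Fitting.fittingSubgroup_normal
  have hFit : Cfsg.fittingSubgroup P ≤ F := by
    refine (d.dichotomy (Cfsg.fittingSubgroup P)).resolve_left fun h => ?_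
    haveI : Group.IsNilpotent K :=
      Cfsg.Agent.Lib.Fitting.isNilpotent_of_le_fittingSubgroup ((hLR K hK).trans h)
    exact Cfsg.Agent.Lib.Components.quasisimple_not_isSolvable hK.2 inferInstance
  have hgF : Cfsg.generalizedFittingSubgroup P = E := by
    show E ⊔ Cfsg.fittingSubgroup P = E
    exact sup_eq_left.2 ((hFit.trans hFR).trans hER.ge)
  -- the conjugates of `K` under `S`
  have hcomp : ∀ s : P, Cfsg.IsComponent (K.map (MulAut.conj s).toMonoidHom) := fun s =>
    Cfsg.Agent.Lib.Components.isComponent_conj hK s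
  set E' := ⨆ s : ↥(S : Subgroup P), K.map (MulAut.conj (s : P)).toMonoidHom with hE'
  have hE'le : E' ≤ E := iSup_le fun s => Cfsg.Agent.Lib.Components.isComponent_le_layer (hcomp _)
  have hES : E ⊔ (S : Subgroup P) = ⊤ := by
    rw [hER]; exact Cfsg.Agent.Lib.Transfer.pResidual_sup_sylow S
  have hE'n : E'.Normal := by
    rw [← Subgroup.normalizer_eq_top_iff, eq_top_iff, ← hES]
    refine sup_le ?_ (Subgroup.le_normalizer_iff.2 fun s hs y hy => ?_)
    · refine Subgroup.le_normalizer_iff.2 fun e he y hy => ?_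
      have h1 : E'.map (MulAut.conj e).toMonoidHom ≤ E' := by
        rw [hE', Subgroup.map_iSup]
        refine iSup_le fun s => le_iSup_of_le s (le_of_eq ?_)
        exact Cfsg.Agent.Lib.LocalChar.conj_map_eq_of_mem
          (Cfsg.Agent.Lib.Components.layer_le_normalizer_component (hcomp _) he)
      exact h1 ⟨y, hy, rfl⟩
    · have h1 : E'.map (MulAut.conj s).toMonoidHom ≤ E' := by
        rw [hE', Subgroup.map_iSup]
        refine iSup_le fun u => le_iSup_of_le ⟨s * u, Subgroup.mul_mem _ hs u.2⟩ (le_of_eq ?_)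
        rw [Cfsg.Agent.Lib.LocalChar.conj_map_conj_map]
      exact h1 ⟨y, hy, rfl⟩
  have hKE' : K ≤ E' := by
    refine le_trans (le_of_eq (Cfsg.Agent.Lib.LocalChar.conj_map_one K).symm) ?_
    exact le_iSup (fun s : ↥(S : Subgroup P) => K.map (MulAut.conj (s : P)).toMonoidHom) 1
  have hEE' : E = E' := by
    haveI := hE'n
    refine le_antisymm ?_ hE'le
    rw [hER]
    exact (d.dichotomy E').resolve_right fun h => hLF K hK (hKE'.trans h)
  refine ⟨by rw [hgF, hER], hgF, hEE', ?_⟩
  -- `p` divides `|K|`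
  have hKM : ¬ K ≤ M := by
    intro h
    refine hLF K hK (d.le_normalCore_of_isSubnormal hK.1 h)
  have hSK : (S : Subgroup P) ⊓ K ≠ ⊥ := by
    intro hbot
    have hEp : (Nat.card E).Coprime p := by
      refine (hp'.coprime_iff_not_dvd.2 fun h => ?_).symm
      -- a `p`-element of the layer, in the Sylow subgroup
      obtain ⟨x, hx⟩ := exists_prime_orderOf_dvd_card' (G := E) p h
      have hcard := card_inf_of_isSubnormal S hK.1
      rw [hbot, Subgroup.card_bot] at hcard
      have hKp : ¬ p ∣ Nat.card K := fun hd => by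
        have := Nat.Prime.factorization_pos_of_dvd hp' Nat.card_pos.ne' hd
        have := Nat.one_lt_pow this.ne' hp'.one_lt
        omega
      have hKR : ∀ L : Subgroup P, (∃ s : ↥(S : Subgroup P), L = K.map (MulAut.conj (s : P)).toMonoidHom) →
          L ≤ (Cfsg.pPrimeCore p E).map E.subtype := by
        rintro _ ⟨s, rfl⟩
        have hle := Cfsg.Agent.Lib.Components.isComponent_le_layer (hcomp (s : P))
        rw [← Subgroup.map_subgroupOf_eq_of_le hle]
        refine Subgroup.map_mono ?_
        haveI := Cfsg.Agent.Lib.Components.isComponent_normal_in_layer (hcomp (s : P))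
        refine Cfsg.Agent.Lib.PSolvable.le_pPrimeCore ?_
        rw [Nat.card_congr (Subgroup.subgroupOfEquivOfLe hle).toEquiv,
          Subgroup.card_map_of_injective (MulAut.conj (s : P)).injective]
        exact (hp'.coprime_iff_not_dvd.2 hKp).symm
      have htop : (x : P) ∈ (Cfsg.pPrimeCore p E).map E.subtype := by
        have h1 : E ≤ (Cfsg.pPrimeCore p E).map E.subtype := by
          conv_lhs => rw [hEE']
          exact iSup_le fun s => hKR _ ⟨s, rfl⟩
        exact h1 x.2
      obtain ⟨y, hy, hyx⟩ := htop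
      obtain rfl := Subtype.ext hyx
      have h2 := (Cfsg.Agent.Lib.PSolvable.pPrimeCore_coprime (p := p) (G := E)).coprime_dvd_left
        ((Subgroup.orderOf_mk y hy) ▸ orderOf_dvd_natCard _)
      rw [hx, Nat.coprime_self] at h2
      exact hp'.one_lt.ne' h2
    refine hKM (hKE.trans ?_)
    rw [← Subgroup.subgroupOf_eq_top]
    refine Cfsg.Agent.Lib.Fitting.eq_top_of_sylow_le fun q hq => ?_
    haveI : Fact q.Prime := ⟨hq⟩
    obtain ⟨Q, h⟩ := invariant_sylow_dichotomy d E hEp q
    refine ⟨Q, fun x hx => ?_⟩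
    rw [Subgroup.mem_subgroupOf]
    have hxm : (x : P) ∈ (Q : Subgroup E).map E.subtype := ⟨x, hx, rfl⟩
    rcases h with h | ⟨h, -⟩
    · exact M.normalCore_le (hFit (Cfsg.Agent.Lib.Fitting.le_fittingSubgroup (hn := h)
        ((Q.2.map E.subtype).isNilpotent) hxm))
    · exact h hxm
  -- the normalizer of `K` in `S`
  set T := (S : Subgroup P) ⊓ Subgroup.normalizer (K : Set P) with hT
  set X := K ⊔ T with hX
  have hTK : T ≤ Subgroup.normalizer (K : Set P) := inf_le_right
  have hTX : T ≤ X := le_sup_right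
  have hSKT : (S : Subgroup P) ⊓ K ≤ T := inf_le_inf_left _ Subgroup.le_normalizer
  have hXmem : ∀ x ∈ X, ∃ k ∈ K, ∃ t ∈ T, x = k * t := by
    intro x hx
    rw [hX, ← SetLike.mem_coe, Subgroup.coe_mul_of_right_le_normalizer_left K T hTK] at hx
    obtain ⟨k, hk, t, ht, rfl⟩ := hx
    exact ⟨k, hk, t, ht, rfl⟩
  have hXcard : Nat.card X * Nat.card ↥((S : Subgroup P) ⊓ K) = Nat.card K * Nat.card T := by
    have h1 : K.relIndex X = K.relIndex T := by
      haveI : (K.subgroupOf X).Normal :=
        (Subgroup.normal_subgroupOf_iff_le_normalizer le_sup_left).2 (sup_le Subgroup.le_normalizer hTK)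
      have htop : K.subgroupOf X ⊔ T.subgroupOf X = ⊤ := by
        rw [← Subgroup.subgroupOf_sup le_sup_left le_sup_right, Subgroup.subgroupOf_self]
      show (K.subgroupOf X).index = _
      rw [← Subgroup.relIndex_top_right, ← htop, Subgroup.relIndex_sup_left,
        Subgroup.relIndex_subgroupOf hTX]
    have h3 : (S : Subgroup P) ⊓ K = K ⊓ T := by
      apply le_antisymm
      · exact le_inf inf_le_right hSKT
      · exact fun x hx => ⟨hx.2.1, hx.1⟩
    rw [← Cfsg.Agent.Lib.PSolvable.card_mul_relIndex (le_sup_left : K ≤ X),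
      ← Cfsg.Agent.Lib.PSolvable.card_mul_relIndex (inf_le_right : K ⊓ T ≤ T), h1, h3,
      Subgroup.inf_relIndex_right]
    ring
  have hTp : IsPGroup p T := S.2.to_le inf_le_left
  have hTsyl : Nat.card (T.subgroupOf X) = p ^ (Nat.card X).factorization p := by
    rw [Nat.card_congr (Subgroup.subgroupOfEquivOfLe hTX).toEquiv]
    obtain ⟨t, ht⟩ := IsPGroup.iff_card.1 hTp
    obtain ⟨c, hc⟩ := IsPGroup.iff_card.1 (hTp.to_le hSKT)
    have h := congrArg (fun n => n.factorization p) hXcard
    simp only [Nat.factorization_mul Nat.card_pos.ne' Nat.card_pos.ne', Finsupp.add_apply] at h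
    rw [hc, ht, hp'.factorization_pow, hp'.factorization_pow, Finsupp.single_eq_same,
      Finsupp.single_eq_same] at h
    have h4 := card_inf_of_isSubnormal S hK.1
    rw [hc] at h4
    have := Nat.pow_right_injective hp'.two_le h4
    rw [ht]; congr 1; omega
  let S₀ : Sylow p ↥X := Sylow.ofCard (T.subgroupOf X) hTsyl
  -- `T` is not normal in `X`
  have hTn : ¬ (T.subgroupOf X).Normal := by
    intro hn
    refine hSK (le_bot_iff.1 (hOp ▸ ?_))
    have h1 : X ≤ Subgroup.normalizer (T : Set P) :=
      (Subgroup.normal_subgroupOf_iff_le_normalizer hTX).1 hn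
    have h3 : (((S : Subgroup P) ⊓ K).subgroupOf K).Normal :=
      (Subgroup.normal_subgroupOf_iff_le_normalizer inf_le_right).2 fun k hk => by
        have h4 : (S : Subgroup P) ⊓ K = T ⊓ K := le_antisymm (le_inf hSKT inf_le_right)
          (fun x hx => ⟨hx.1.1, hx.2⟩)
        rw [h4]
        exact Subgroup.inf_normalizer_le_normalizer_inf
          ⟨h1 (Subgroup.mem_sup_left hk), Subgroup.le_normalizer hk⟩
    exact Cfsg.Agent.Lib.LocalChar.le_pCore_of_isSubnormal
      (Cfsg.Agent.Lib.Components.subnormal_of_subgroupOf_normal inf_le_right hK.1 h3)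
      (S.2.to_le inf_le_left)
  -- the key property
  have hkey : ∀ Y : Subgroup P, T ≤ Y → Y ≤ X → Y ≠ X → Y ≤ (M ⊓ K) ⊔ T := by
    intro Y hTY hYX hne
    set Y0 := Y ⊓ K with hY0
    have hY0n : T ≤ Subgroup.normalizer (Y0 : Set P) := fun t ht =>
      Subgroup.inf_normalizer_le_normalizer_inf ⟨Subgroup.le_normalizer (hTY ht), hTK ht⟩
    have hYdec : Y ≤ Y0 ⊔ T := by
      intro y hy
      obtain ⟨k, hk, t, ht, rfl⟩ := hXmem y (hYX hy)
      have : k ∈ Y0 := ⟨by simpa using Y.mul_mem hy (Y.inv_mem (hTY ht)), hk⟩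
      exact Subgroup.mul_mem _ (Subgroup.mem_sup_left this) (Subgroup.mem_sup_right ht)
    set D := ⨆ s : ↥(S : Subgroup P), Y0.map (MulAut.conj (s : P)).toMonoidHom with hD
    have hDn : (S : Subgroup P) ≤ Subgroup.normalizer (D : Set P) := by
      refine Subgroup.le_normalizer_iff.2 fun s hs y hy => ?_
      have h1 : D.map (MulAut.conj s).toMonoidHom ≤ D := by
        rw [hD, Subgroup.map_iSup]
        refine iSup_le fun u => le_iSup_of_le ⟨s * u, Subgroup.mul_mem _ hs u.2⟩ (le_of_eq ?_)
        rw [Cfsg.Agent.Lib.LocalChar.conj_map_conj_map]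
      exact h1 ⟨y, hy, rfl⟩
    have hY0D : Y0 ≤ D := by
      refine le_trans (le_of_eq (Cfsg.Agent.Lib.LocalChar.conj_map_one Y0).symm) ?_
      exact le_iSup (fun s : ↥(S : Subgroup P) => Y0.map (MulAut.conj (s : P)).toMonoidHom) 1
    by_cases htop : D ⊔ (S : Subgroup P) = ⊤
    · exfalso
      have hKD : K ≤ D := (hKE.trans hER.le).trans (Cfsg.Agent.Lib.Transfer.pResidual_le_iff.2
        fun g hg => Cfsg.Agent.Lib.LocalChar.mem_of_le_sup S.2 hDn (htop ▸ Subgroup.mem_top g) hg)
      have hDle : D ≤ Y0 ⊔ Subgroup.centralizer (K : Set P) := by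
        refine iSup_le fun s => ?_
        by_cases hs : K.map (MulAut.conj (s : P)).toMonoidHom = K
        · rw [Cfsg.Agent.Lib.LocalChar.conj_map_eq_of_mem
            (hY0n ⟨s.2, Subgroup.mem_normalizer_iff_map_conj_eq.2 hs⟩)]
          exact le_sup_left
        · refine le_trans ?_ le_sup_right
          exact (Subgroup.map_mono inf_le_right).trans
            (Cfsg.Agent.Lib.Components.isComponent_le_centralizer (hcomp _) hK hs)
      have hY0top : Y0.subgroupOf K ⊔ Subgroup.center K = ⊤ := by
        rw [eq_top_iff]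
        rintro ⟨k, hk⟩ -
        have h1 := hDle (hKD hk)
        rw [sup_comm, ← SetLike.mem_coe, Subgroup.coe_mul_of_right_le_normalizer_left
          (Subgroup.centralizer (K : Set P)) Y0 ((inf_le_right.trans Subgroup.le_normalizer).trans
            (Cfsg.Agent.Lib.CharP.le_normalizer_centralizer le_rfl))] at h1
        obtain ⟨c, hc, y, hy, hck⟩ := h1
        have hcK : c ∈ K := by
          rw [show c = k * y⁻¹ by rw [← hck]; group]
          exact K.mul_mem hk (K.inv_mem hy.2)
        rw [show (⟨k, hk⟩ : K) = ⟨c, hcK⟩ * ⟨y, hy.2⟩ from Subtype.ext hck.symm]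
        refine Subgroup.mul_mem _ (Subgroup.mem_sup_right ?_) (Subgroup.mem_sup_left hy)
        rw [Subgroup.mem_center_iff]
        exact fun g => Subtype.ext (Subgroup.mem_centralizer_iff.1 hc g g.2)
      haveI : Group.IsPerfect K := hK.2.1
      haveI : (Y0.subgroupOf K).Normal := by
        rw [← Subgroup.normalizer_eq_top_iff, eq_top_iff, ← hY0top]
        exact sup_le Subgroup.le_normalizer (Subgroup.center_le_normalizer _)
      have h2 := Cfsg.Agent.Lib.Components.eq_top_of_sup_center_eq_top _ hY0top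
      refine hne (le_antisymm hYX (sup_le ((Subgroup.subgroupOf_eq_top.1 h2).trans inf_le_left) hTY))
    · have h1 := d.unique _ le_sup_right htop
      exact hYdec.trans (sup_le_sup_right (le_inf ((hY0D.trans le_sup_left).trans h1) inf_le_right) T)
  set W := (M ⊓ K) ⊔ T with hW
  have hWX : W ≤ X := sup_le_sup_right inf_le_right T
  have hWne : W ≠ X := fun h => hKM fun k hk => by
    have h1 : W ≤ M := sup_le inf_le_left (inf_le_left.trans d.le)
    exact h1 (h.ge (Subgroup.mem_sup_left hk))
  have hWco : IsCoatom (W.subgroupOf X) := by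
    refine ⟨fun h => hWne (le_antisymm hWX (Subgroup.subgroupOf_eq_top.1 h)), fun Y hY => ?_⟩
    by_contra hYtop
    have h1 : Y.map X.subtype ≤ W := hkey _ (fun t ht => ⟨⟨t, hTX ht⟩, hY.le
        (Subgroup.mem_subgroupOf.2 (Subgroup.mem_sup_right ht)), rfl⟩) (Subgroup.map_subtype_le _)
      (fun h => hYtop (eq_top_iff.2 fun y _ => by
        obtain ⟨y', hy', he⟩ := h.ge y.2
        rwa [← Subtype.ext he]))
    exact hY.not_ge fun y hy => h1 ⟨y, hy, rfl⟩
  have hT0 : (S₀ : Subgroup X) = T.subgroupOf X := rfl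
  intro S₁
  obtain ⟨g, rfl⟩ := MulAction.exists_smul_eq X S₀ S₁
  constructor
  · intro hn
    haveI := Sylow.unique_of_normal _ hn
    apply hTn
    rw [← hT0, show S₀ = g • S₀ from Subsingleton.elim _ _]
    exact hn
  · let c := (MulAut.conj g : X ≃* X).mapSubgroup
    have hcS : ((g • S₀ : Sylow p X) : Subgroup X) = c (T.subgroupOf X) := by
      rw [Sylow.coe_subgroup_smul, hT0]; rfl
    refine ⟨c (W.subgroupOf X), ⟨(c.isCoatom_iff _).2 hWco, ?_⟩, fun Y hY => ?_⟩
    · rw [hcS]
      exact c.monotone (Subgroup.comap_mono le_sup_right)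
    · obtain ⟨hYc, hYS⟩ := hY
      have hYc' : IsCoatom (c.symm Y) := (c.symm.isCoatom_iff Y).2 hYc
      have hTY : T.subgroupOf X ≤ c.symm Y := by
        rw [c.le_symm_apply, ← hcS]; exact hYS
      have h1 : (c.symm Y).map X.subtype ≤ W :=
        hkey _ (fun t ht => ⟨⟨t, hTX ht⟩, hTY ht, rfl⟩) (Subgroup.map_subtype_le _)
          (fun h => hYc'.1 (eq_top_iff.2 fun y _ => by
            obtain ⟨y', hy', he⟩ := h.ge y.2
            rwa [← Subtype.ext he]))
      have h2 : c.symm Y ≤ W.subgroupOf X := fun y hy => h1 ⟨y, hy, rfl⟩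
      rcases hYc'.le_iff.1 h2 with h | h
      · exact absurd h hWco.1
      · rw [h]; exact (c.apply_symm_apply Y).symm

end Cfsg.Agent.S2906
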