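import Cfsg.Statements.S2907
import Mathlib

set_option autoImplicit false
open Cfsg

namespace Cfsg.Agent.S2907

/-- Let X be a finite semi-extraspecial p-group and x an element of X outside the centre. Then the index of C_X(x) in X equals the order of Z(X), and the commutators [x, y], y ∈ X, form exactly the centre Z(X). -/
theorem result {X : Type*} [Group X] [Finite X] {p : ℕ} [Fact p.Prime] (hX : Cfsg.IsSemiExtraspecial p X) (x : X) (hx : x ∉ Subgroup.center X) : (Subgroup.centralizer ({x} : Set X)).index = Nat.card ↥(Subgroup.center X) ∧ {z : X | ∃ y : X, z = x * y * x⁻¹ * y⁻¹} = (Subgroup.center X : Set X) := by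
  obtain ⟨⟨hp, hfr, hcomm⟩, hext⟩ := hX
  have hz : ∀ y : X, x * y * x⁻¹ * y⁻¹ ∈ Subgroup.center X := fun y => by
    rw [← hcomm]
    exact Subgroup.commutator_mem_commutator (Subgroup.mem_top x) (Subgroup.mem_top y)
  let φ : X →* Subgroup.center X :=
    { toFun := fun y => ⟨x * y * x⁻¹ * y⁻¹, hz y⟩
      map_one' := by ext; simp
      map_mul' := fun a b => by
        ext
        have h : ∀ g : X, g * (x * b * x⁻¹ * b⁻¹) = (x * b * x⁻¹ * b⁻¹) * g :=
          Subgroup.mem_center_iff.mp (hz b)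
        show x * (a * b) * x⁻¹ * (a * b)⁻¹ = (x * a * x⁻¹ * a⁻¹) * (x * b * x⁻¹ * b⁻¹)
        calc x * (a * b) * x⁻¹ * (a * b)⁻¹
            = (x * a * x⁻¹) * (x * b * x⁻¹ * b⁻¹) * a⁻¹ := by group
          _ = (x * b * x⁻¹ * b⁻¹) * (x * a * x⁻¹ * a⁻¹) := by rw [h (x * a * x⁻¹)]; group
          _ = _ := (h (x * a * x⁻¹ * a⁻¹)).symm }
  have hker : φ.ker = Subgroup.centralizer ({x} : Set X) := by
    ext y
    rw [MonoidHom.mem_ker, Subgroup.mem_centralizer_singleton_iff, Subtype.ext_iff]
    show x * y * x⁻¹ * y⁻¹ = 1 ↔ _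
    rw [← commutatorElement_def, commutatorElement_eq_one_iff_mul_comm, eq_comm]
  have hsurj : Function.Surjective φ := by
    rw [← MonoidHom.range_eq_top]
    by_contra hne
    obtain ⟨M, hM, hle⟩ := (eq_top_or_exists_le_coatom φ.range).resolve_left hne
    have hY : M.map (Subgroup.center X).subtype ≤ Subgroup.center X := Subgroup.map_subtype_le _
    have hYs : (M.map (Subgroup.center X).subtype).subgroupOf (Subgroup.center X) = M :=
      Subgroup.comap_map_eq_self_of_injective (Subgroup.subtype_injective _) M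
    obtain ⟨hn, hE⟩ := hext _ hY (hYs.symm ▸ hM)
    set Y := M.map (Subgroup.center X).subtype with hYdef
    have hxZ : (x : X ⧸ Y) ∈ Subgroup.center (X ⧸ Y) := by
      rw [Subgroup.mem_center_iff]
      intro g
      induction g using QuotientGroup.induction_on with
      | _ y =>
        rw [← QuotientGroup.mk_mul, ← QuotientGroup.mk_mul, QuotientGroup.eq]
        have h1 : x * y * x⁻¹ * y⁻¹ ∈ Y := ⟨φ y, hle ⟨y, rfl⟩, rfl⟩
        have h2 := hn.conj_mem _ h1 (x * y)⁻¹
        have h3 : (y * x)⁻¹ * (x * y) ∈ Y := by simpa [mul_assoc] using h2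
        simpa [mul_assoc] using h3
    have hle2 : (Subgroup.center X).map (QuotientGroup.mk' Y) ≤ Subgroup.center (X ⧸ Y) :=
      by
        rintro _ ⟨z, hz', rfl⟩
        rw [Subgroup.mem_center_iff]
        intro g
        obtain ⟨y, rfl⟩ := QuotientGroup.mk'_surjective Y g
        rw [← map_mul, ← map_mul, Subgroup.mem_center_iff.mp hz' y]
    have hne' : (Subgroup.center X).map (QuotientGroup.mk' Y) ≠ ⊥ := by
      intro h
      rw [Subgroup.map_eq_bot_iff, QuotientGroup.ker_mk'] at h
      exact hM.1 (by rw [← hYs, Subgroup.subgroupOf_eq_top]; exact h)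
    have heq : (Subgroup.center X).map (QuotientGroup.mk' Y) = Subgroup.center (X ⧸ Y) := by
      refine Subgroup.eq_of_le_of_card_ge hle2 ?_
      rw [hE.2]
      exact Nat.le_of_dvd Nat.card_pos (((hp.to_subgroup _).map _).card_eq_or_dvd.resolve_left
        fun h => hne' (Subgroup.eq_bot_of_card_eq _ h))
    rw [← heq] at hxZ
    obtain ⟨z, hzc, hzx⟩ := hxZ
    refine hx ?_
    have h4 : z⁻¹ * x ∈ Y := QuotientGroup.eq.mp hzx
    simpa using mul_mem hzc (hY h4)
  refine ⟨?_, ?_⟩
  · rw [← hker, Subgroup.index_ker, MonoidHom.range_eq_top.mpr hsurj, Subgroup.card_top]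
  · ext z
    constructor
    · rintro ⟨y, rfl⟩
      exact hz y
    · intro h
      obtain ⟨y, hy⟩ := hsurj ⟨z, h⟩
      exact ⟨y, (congrArg Subtype.val hy).symm⟩

end Cfsg.Agent.S2907
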