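import Cfsg.Statements.S2908
import Cfsg.Agent.Lib.Coprime.Quotient
import Cfsg.Agent.Lib.Components.Subnormal
import Cfsg.Agent.Lib.Coprime.ThreeSubgroup

set_option autoImplicit false
open Cfsg

namespace Cfsg.Agent.S2908

/-- Let P be a p-subgroup of a finite group, normalized by a p-subgroup A and by a subgroup B of order prime to p that commutes elementwise with A. If [P, B] ≤ [P, A], then B centralizes P. -/
theorem result {G : Type*} [Group G] [Finite G] {p : ℕ} [Fact p.Prime] (P A B : Subgroup G) (hP : IsPGroup p ↥P) (hA : IsPGroup p ↥A) (hB : ¬ p ∣ Nat.card ↥B) (hnA : A ≤ Subgroup.normalizer (P : Set G)) (hnB : B ≤ Subgroup.normalizer (P : Set G)) (hAB : ⁅A, B⁆ = ⊥) (hcomm : ⁅P, B⁆ ≤ ⁅P, A⁆) : ⁅P, B⁆ = ⊥ := by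
  set R := ⁅P, B⁆ with hR
  have hRP : R ≤ P := Cfsg.Agent.Lib.Coprime.commutator_le_of_le_normalizer hnB
  have hAN : A ≤ Subgroup.normalizer (B : Set G) :=
    le_trans (Subgroup.commutator_eq_bot_iff_le_centralizer.mp hAB)
      (Subgroup.centralizer_le_normalizer (B : Set G))
  have hR_A : A ≤ Subgroup.normalizer (R : Set G) :=
    Cfsg.Agent.Lib.Coprime.le_normalizer_commutator hnA hAN
  have hR_P : P ≤ Subgroup.normalizer (R : Set G) := Subgroup.normalizer_commutator_ge_left P B
  have hR_B : B ≤ Subgroup.normalizer (R : Set G) := Subgroup.normalizer_commutator_ge_right P B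
  set M := P ⊔ A with hM
  have hMp : IsPGroup p M := hP.to_sup_of_normal_left' hA hnA
  have hMR : M ≤ Subgroup.normalizer (R : Set G) := sup_le hR_P hR_A
  set N := ⁅R, M⁆ with hN
  have hN_M : M ≤ Subgroup.normalizer (N : Set G) :=
    Cfsg.Agent.Lib.Coprime.le_normalizer_commutator hMR Subgroup.le_normalizer
  have hN_B : B ≤ Subgroup.normalizer (N : Set G) := by
    refine Cfsg.Agent.Lib.Coprime.le_normalizer_commutator hR_B ?_
    exact le_trans (le_inf hnB (le_trans
      (Subgroup.commutator_eq_bot_iff_le_centralizer.mp ((Subgroup.commutator_comm B A).trans hAB))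
      (Subgroup.centralizer_le_normalizer (A : Set G))))
      (Cfsg.Agent.Lib.Components.normalizer_inf_le_normalizer_sup P A)
  obtain ⟨k, hk⟩ := IsPGroup.iff_card.mp (hP.to_le hRP)
  have hcop : (Nat.card B).Coprime (Nat.card R) := by
    rw [hk]
    exact (((Fact.out : p.Prime).coprime_iff_not_dvd.mpr hB).symm).pow_right k
  have h1 : ⁅⁅A, B⁆, P⁆ ≤ N := by rw [hAB, Subgroup.commutator_bot_left]; exact bot_le
  have h2 : ⁅⁅B, P⁆, A⁆ ≤ N := by
    rw [Subgroup.commutator_comm B P]; exact Subgroup.commutator_mono le_rfl le_sup_right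
  have h3 : ⁅⁅P, A⁆, B⁆ ≤ N := Cfsg.Agent.Lib.Coprime.commutator_commutator_le_of_rotate
    (le_sup_left.trans hN_M) (le_sup_right.trans hN_M) hN_B h1 h2
  have hRR : ⁅R, B⁆ = R := Cfsg.Agent.Lib.Coprime.commutator_commutator_eq hnB hcop
  have hle : R ≤ N := hRR.ge.trans ((Subgroup.commutator_mono hcomm le_rfl).trans h3)
  by_contra hne
  exact (Cfsg.Agent.Lib.Coprime.commutator_lt_of_isPGroup (hP.to_le hRP) hMp hMR hne).not_ge hle

end Cfsg.Agent.S2908
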