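import Cfsg.Statements.S2909
import Cfsg.Agent.S2908
import Cfsg.Agent.Lib.Coprime.Generation

set_option autoImplicit false
open Cfsg

open scoped commutatorElement

namespace Cfsg.Agent.S2909

/-- Let p be a prime, E a normal p-subgroup of the finite group G, and U a non-cyclic elementary abelian p-subgroup of G such that either C_E(U) = C_E(u) for every nontrivial u ∈ U, or [E, U] = [E, ⟨u⟩] for every nontrivial u ∈ U. If R is a subgroup of order prime to p normalized by U, then [R, U] centralizes E. -/
theorem result {G : Type*} [Group G] [Finite G] {p : ℕ} [Fact p.Prime] (E : Subgroup G) [E.Normal] (hE : IsPGroup p ↥E) (U : Subgroup G) (hU : Cfsg.IsElementaryAbelian p U) (hnc : ¬ IsCyclic ↥U) (hcond : (∀ u ∈ U, u ≠ 1 → E ⊓ Subgroup.centralizer (U : Set G) = E ⊓ Subgroup.centralizer ({u} : Set G)) ∨ (∀ u ∈ U, u ≠ 1 → ⁅E, U⁆ = ⁅E, Subgroup.zpowers u⁆)) (R : Subgroup G) (hR : ¬ p ∣ Nat.card ↥R) (hRU : U ≤ Subgroup.normalizer (R : Set G)) : ⁅R, U⁆ ≤ Subgroup.centralizer (E : Set G) := by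
  have hUab : IsMulCommutative ↥U := hU.1
  have hUp : IsPGroup p ↥U := fun u => ⟨1, Subtype.ext (by simpa using hU.2 u u.2)⟩
  have hEn : ∀ g : G, g ∈ Subgroup.normalizer (E : Set G) := fun g => by
    rw [Subgroup.normalizer_eq_top]; exact Subgroup.mem_top g
  have hcopR : (Nat.card R).Coprime p :=
    ((Fact.out : p.Prime).coprime_iff_not_dvd.mpr hR).symm
  -- the commutators lie in the normal subgroup `C(E)`
  suffices h : R ≤ ⨅ u : U, ((Subgroup.centralizer ({QuotientGroup.mk' (Subgroup.centralizer (E : Set G)) (u : G)} :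
      Set (G ⧸ Subgroup.centralizer (E : Set G)))).comap
        (QuotientGroup.mk' (Subgroup.centralizer (E : Set G)))) by
    rw [Subgroup.commutator_le]
    intro r hr u hu
    have h1 := Subgroup.mem_centralizer_singleton_iff.mp (Subgroup.mem_iInf.mp (h hr) ⟨u, hu⟩)
    rw [← QuotientGroup.eq_one_iff]
    show QuotientGroup.mk' (Subgroup.centralizer (E : Set G)) ⁅r, u⁆ = 1
    rw [map_commutatorElement, commutatorElement_eq_one_iff_mul_comm]
    exact h1
  refine Cfsg.Agent.Lib.Coprime.le_of_noncyclic hnc hRU ?_ fun x hxU hx1 => ?_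
  · obtain ⟨k, hk⟩ := IsPGroup.iff_card.mp hUp
    rw [hk]
    exact hcopR.symm.pow_left k
  set R₀ := R ⊓ Subgroup.centralizer ({x} : Set G) with hR₀
  have hUx : U ≤ Subgroup.centralizer ({x} : Set G) := fun u hu =>
    Subgroup.mem_centralizer_singleton_iff.mpr
      (congrArg Subtype.val (hUab.is_comm.comm ⟨u, hu⟩ ⟨x, hxU⟩))
  have hUR₀ : U ≤ Subgroup.normalizer (R₀ : Set G) := fun u hu =>
    Subgroup.inf_normalizer_le_normalizer_inf ⟨hRU hu, Subgroup.le_normalizer (hUx hu)⟩
  set D := ⁅R₀, U⁆ with hD
  have hDR : D ≤ R₀ := Cfsg.Agent.Lib.Coprime.commutator_le_of_le_normalizer hUR₀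
  have hDp : (Nat.card D).Coprime p :=
    hcopR.coprime_dvd_left (Subgroup.card_dvd_of_le (hDR.trans inf_le_left))
  have hxp : IsPGroup p ↥(Subgroup.zpowers x) := hUp.to_le (Subgroup.zpowers_le.mpr hxU)
  have hxD : Subgroup.zpowers x ≤ Subgroup.centralizer (D : Set G) :=
    Subgroup.zpowers_le.mpr (Subgroup.mem_centralizer_iff.mpr fun d hd =>
      Subgroup.mem_centralizer_singleton_iff.mp (hDR hd).2)
  have hDE : D ≤ Subgroup.centralizer (E : Set G) := by
    rcases hcond with hcond | hcond
    · -- centralizers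
      refine Cfsg.Agent.Lib.Coprime.thompson_PxQ (U := E) hxp hDp hE hxD
        (fun g _ => hEn g) (fun g _ => hEn g) ?_
      have h0 : E ⊓ Subgroup.centralizer (U : Set G) ≤ Subgroup.centralizer (D : Set G) := by
        rw [← Subgroup.commutator_eq_bot_iff_le_centralizer, Subgroup.commutator_comm]
        refine Subgroup.commutator_commutator_eq_bot_of_rotate ?_ ?_
        · rw [Subgroup.commutator_comm U (E ⊓ _),
            Subgroup.commutator_eq_bot_iff_le_centralizer.mpr inf_le_right,
            Subgroup.commutator_bot_left]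
        · have hEUn : R₀ ≤ Subgroup.normalizer
              ((E ⊓ Subgroup.centralizer (U : Set G) : Subgroup G) : Set G) := by
            rw [hcond x hxU hx1]
            intro g hg
            exact Subgroup.inf_normalizer_le_normalizer_inf
              ⟨hEn g, Subgroup.le_normalizer hg.2⟩
          rw [Subgroup.commutator_eq_bot_iff_le_centralizer]
          exact (Cfsg.Agent.Lib.Coprime.commutator_le_of_le_normalizer hEUn).trans inf_le_right
      refine le_trans ?_ h0
      rw [hcond x hxU hx1]
      exact inf_le_inf_left E (Subgroup.centralizer_le (Set.singleton_subset_iff.mpr (Subgroup.mem_zpowers x)))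
    · -- commutators
      rw [← Subgroup.commutator_eq_bot_iff_le_centralizer, Subgroup.commutator_comm]
      refine Cfsg.Agent.S2908.result E (Subgroup.zpowers x) D hE hxp
        (fun h => (Fact.out : p.Prime).ne_one (Nat.eq_one_of_dvd_coprimes hDp h dvd_rfl))
        (fun g _ => hEn g) (fun g _ => hEn g)
        (Subgroup.commutator_eq_bot_iff_le_centralizer.mpr hxD) ?_
      rw [← hcond x hxU hx1, Subgroup.commutator_comm E D]
      have hnU : U ≤ Subgroup.normalizer ((⁅E, U⁆ : Subgroup G) : Set G) :=
        Subgroup.normalizer_commutator_ge_right E U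
      have hnE : E ≤ Subgroup.normalizer ((⁅E, U⁆ : Subgroup G) : Set G) :=
        Subgroup.normalizer_commutator_ge_left E U
      have hnR : R₀ ≤ Subgroup.normalizer ((⁅E, U⁆ : Subgroup G) : Set G) := by
        rw [hcond x hxU hx1]
        refine Cfsg.Agent.Lib.Coprime.le_normalizer_commutator (fun g _ => hEn g) ?_
        intro g hg
        refine Subgroup.centralizer_le_normalizer _ (Subgroup.mem_centralizer_iff.mpr fun y hy => ?_)
        obtain ⟨i, rfl⟩ := Subgroup.mem_zpowers_iff.mp hy
        exact ((show Commute g x from Subgroup.mem_centralizer_singleton_iff.mp hg.2).zpow_right i).eq.symm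
      refine Cfsg.Agent.Lib.Coprime.commutator_commutator_le_of_rotate hnR hnU hnE ?_ ?_
      · rw [Subgroup.commutator_comm U E]
        exact Cfsg.Agent.Lib.Coprime.commutator_le_of_le_normalizer hnR
      · exact Subgroup.commutator_mono
          (Cfsg.Agent.Lib.Coprime.commutator_le_of_le_normalizer (fun g _ => hEn g)) le_rfl
  intro r hr
  refine Subgroup.mem_iInf.mpr fun u => Subgroup.mem_centralizer_singleton_iff.mpr ?_
  rw [← commutatorElement_eq_one_iff_mul_comm, ← map_commutatorElement]
  exact (QuotientGroup.eq_one_iff _).mpr (hDE (Subgroup.commutator_mem_commutator hr u.2))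

end Cfsg.Agent.S2909
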