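import Cfsg.Statements.S2910
import Cfsg.Agent.Lib.Transfer.Criteria
import Cfsg.Agent.Lib.CoprimeOmega.Basic
import Cfsg.Agent.Lib.Transfer.PResidual

set_option autoImplicit false
open Cfsg

namespace Cfsg.Agent.S2910

/-- Let p be an odd prime dividing the order of the finite group G and P a Sylow p-subgroup of G. If Ω₁(P) (generated by the elements of order dividing p) is contained in the centre of G, then G has a normal p-complement. In particular, if G is quasisimple then Ω₁(P) is not central in G. -/
theorem result {G : Type*} [Group G] [Finite G] {p : ℕ} [Fact p.Prime] (hp : p ≠ 2) (hdiv : p ∣ Nat.card G) (P : Sylow p G) (hZ : Cfsg.omegaOne p (P : Subgroup G) ≤ Subgroup.center G) : Cfsg.HasNormalPComplement p G ∧ ¬ Cfsg.IsQuasisimple G := by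
  have hlp : Cfsg.Agent.Lib.Transfer.LocallyPTrivial p G := by
    refine Cfsg.Agent.Lib.Transfer.locallyPTrivial_of_sylow P fun Q hQP g hg hgo => ?_
    refine Subgroup.mem_centralizer_iff.mpr fun q hq => ?_
    refine (Cfsg.Agent.Lib.CoprimeOmega.commute_of_commute_order_p hp hgo (P.isPGroup'.to_le hQP)
      (fun x hx => (Subgroup.mem_normalizer_iff.mp hg x).mp hx) (fun x hx hxp => ?_) q hq).symm
    exact (Subgroup.mem_center_iff.mp (hZ (Subgroup.subset_closure ⟨hQP hx, hxp⟩)) g)
  have hc := Cfsg.Agent.Lib.Transfer.hasNormalPComplement_iff_locallyPTrivial.mpr hlp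
  refine ⟨hc, fun hq => ?_⟩
  obtain ⟨P', N, hN, hcomp⟩ := hc
  have hp' := Cfsg.Agent.Lib.Transfer.isPGroup_quotient_of_isComplement' P' N hcomp
  have hnd := Cfsg.Agent.Lib.Transfer.not_dvd_card_of_isComplement' P' N hcomp
  have := hp'.isNilpotent
  have hperf : commutator G = ⊤ := Group.isPerfect_def.mp hq.1
  have htop : commutator (G ⧸ N) = ⊤ := by
    show ⁅(⊤ : Subgroup (G ⧸ N)), ⊤⁆ = ⊤
    rw [← Subgroup.map_top_of_surjective (QuotientGroup.mk' N) (QuotientGroup.mk'_surjective N),
      ← Subgroup.map_commutator]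
    exact congrArg (Subgroup.map (QuotientGroup.mk' N)) hperf
  rcases subsingleton_or_nontrivial (G ⧸ N) with h | h
  · apply hnd
    have hNtop : N = ⊤ := (QuotientGroup.subgroup_eq_top_of_subsingleton N h)
    rw [hNtop, Subgroup.card_top]
    exact hdiv
  · exact (Group.IsSolvable.commutator_lt_top_of_nontrivial (G ⧸ N)).ne htop

end Cfsg.Agent.S2910
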