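import Cfsg.Statements.S2911
import Cfsg.Agent.Lib.Involution.ThompsonTransfer
import Cfsg.Agent.Lib.PSolvable.Core

set_option autoImplicit false
open Cfsg

namespace Cfsg.Agent.S2911

section

/-- The model group. -/
abbrev Model := Multiplicative (ZMod 2) × DihedralGroup 4

def z0 : Model := (Multiplicative.ofAdd 1, 1)
def c0 : Model := (1, DihedralGroup.r 2)
def a0 : Model := (1, DihedralGroup.sr 0)
def b0 : Model := (1, DihedralGroup.sr 1)

def inA : Model → Bool
  | (_, DihedralGroup.r k) => k == 0 || k == 2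
  | (_, DihedralGroup.sr k) => k == 0 || k == 2

def inB : Model → Bool
  | (_, DihedralGroup.r k) => k == 0 || k == 2
  | (_, DihedralGroup.sr k) => k == 1 || k == 3

def chiD (α β : Bool) : DihedralGroup 4 → Bool
  | DihedralGroup.r k => xor α β && (k == 1 || k == 3)
  | DihedralGroup.sr k => if k == 0 || k == 2 then α else β

/-- The maximal subgroups of the model complementary to the central involution `z0`. -/
def inM (α β : Bool) (x : Model) : Bool := (x.1 == Multiplicative.ofAdd 1) == chiD α β x.2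

def A0 : Subgroup Model where
  carrier := {x | inA x = true}
  one_mem' := by decide
  mul_mem' := fun {x y} hx hy => (by decide : ∀ x y : Model, inA x = true → inA y = true → inA (x * y) = true) x y hx hy
  inv_mem' := fun {x} hx => (by decide : ∀ x : Model, inA x = true → inA x⁻¹ = true) x hx

def B0 : Subgroup Model where
  carrier := {x | inB x = true}
  one_mem' := by decide
  mul_mem' := fun {x y} hx hy => (by decide : ∀ x y : Model, inB x = true → inB y = true → inB (x * y) = true) x y hx hy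
  inv_mem' := fun {x} hx => (by decide : ∀ x : Model, inB x = true → inB x⁻¹ = true) x hx

def M0 (α β : Bool) : Subgroup Model where
  carrier := {x | inM α β x = true}
  one_mem' := (by decide : ∀ α β, inM α β 1 = true) α β
  mul_mem' := fun {x y} hx hy => (by decide +kernel : ∀ α β, ∀ x y : Model, inM α β x = true → inM α β y = true → inM α β (x * y) = true) α β x y hx hy
  inv_mem' := fun {x} hx => (by decide +kernel : ∀ α β, ∀ x : Model, inM α β x = true → inM α β x⁻¹ = true) α β x hx

theorem commute_A : ∀ x y : Model, x * x = 1 → y * y = 1 → x * y = y * x → inA x = true →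
    inB x = false → inA y = true := by decide +kernel

theorem invol_mem : ∀ y : Model, y * y = 1 → inA y = false → inB y = true := by decide

theorem sq_cases : ∀ x : Model, x * x = 1 ∨ x * x = c0 := by decide

theorem centralizer_a : ∀ x : Model, inA x = true → inB x = false → ∀ y : Model,
    x * y = y * x → inA y = true := by decide +kernel

theorem A_cases : ∀ y : Model, inA y = true → y = 1 ∨ y = z0 ∨ y = c0 ∨ y = z0 * c0 ∨
    (inA y = true ∧ inB y = false) := by decide

theorem B_cases : ∀ y : Model, inB y = true → y = 1 ∨ y = z0 ∨ y = c0 ∨ y = z0 * c0 ∨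
    (inB y = true ∧ inA y = false) := by decide

theorem conj_A : ∀ y : Model, inA y = true → inB y = false →
    y = a0 ∨ y = b0 * a0 * b0⁻¹ ∨ y = z0 * a0 ∨ y = b0 * (z0 * a0) * b0⁻¹ := by decide

theorem conj_B : ∀ y : Model, inB y = true → inA y = false →
    y = b0 ∨ y = a0 * b0 * a0⁻¹ ∨ y = z0 * b0 ∨ y = a0 * (z0 * b0) * a0⁻¹ := by decide

theorem M_cases : ∀ α β, ∀ y : Model, inM α β y = true → y * y = 1 → y = 1 ∨ y = c0 ∨
    y = (if α then z0 * a0 else a0) ∨ y = b0 * (if α then z0 * a0 else a0) * b0⁻¹ ∨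
    y = (if β then z0 * b0 else b0) ∨ y = a0 * (if β then z0 * b0 else b0) * a0⁻¹ := by
  decide +kernel

theorem A0_normal : ∀ g x : Model, inA x = true → inA (g * x * g⁻¹) = true := by decide +kernel
theorem B0_normal : ∀ g x : Model, inB x = true → inB (g * x * g⁻¹) = true := by decide +kernel

theorem A_abelian : ∀ x y : Model, inA x = true → inA y = true → x * y = y * x ∧ x * x = 1 := by
  decide +kernel
theorem B_abelian : ∀ x y : Model, inB x = true → inB y = true → x * y = y * x ∧ x * x = 1 := by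
  decide +kernel

theorem card_A0 : Nat.card A0 = 8 := by
  have : Nat.card A0 = Fintype.card {x : Model // inA x = true} := by
    rw [← Nat.card_eq_fintype_card]; rfl
  rw [this]; decide
theorem card_B0 : Nat.card B0 = 8 := by
  have : Nat.card B0 = Fintype.card {x : Model // inB x = true} := by
    rw [← Nat.card_eq_fintype_card]; rfl
  rw [this]; decide
theorem card_M0 (α β : Bool) : Nat.card (M0 α β) = 8 := by
  have : Nat.card (M0 α β) = Fintype.card {x : Model // inM α β x = true} := by
    rw [← Nat.card_eq_fintype_card]; rfl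
  rw [this]; clear this; revert α β; decide +kernel

variable {G : Type*} [Group G] [Finite G] {S : Sylow 2 G} {f : Model →* G}

/-- An element normalizing a Sylow 2-subgroup has an odd power inside it. -/
theorem exists_odd_pow_mem {n : G} (hn : n ∈ Subgroup.normalizer ((S : Subgroup G) : Set G)) :
    ∃ j : ℕ, n ^ (2 * j + 1) ∈ (S : Subgroup G) := by
  set N := Subgroup.normalizer ((S : Subgroup G) : Set G)
  have : ((S : Subgroup G).subgroupOf N).Normal := Subgroup.normal_subgroupOf_of_le_normalizer le_rfl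
  have hodd : Odd ((S : Subgroup G).subgroupOf N).index := by
    rw [← Nat.not_even_iff_odd, even_iff_two_dvd]
    exact fun h => S.not_dvd_index
      (h.trans (Subgroup.relIndex_dvd_index_of_le Subgroup.le_normalizer))
  obtain ⟨j, hj⟩ := hodd
  exact ⟨j, hj ▸ Subgroup.pow_index_mem ((S : Subgroup G).subgroupOf N) ⟨n, hn⟩⟩

/-- Burnside: conjugate central elements of `S` are conjugate in the normalizer of `S`. -/
theorem burnside {u v g : G} (hu : (S : Subgroup G) ≤ Subgroup.centralizer {u})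
    (hv : (S : Subgroup G) ≤ Subgroup.centralizer {v}) (hg : g * u * g⁻¹ = v) :
    ∃ n ∈ Subgroup.normalizer ((S : Subgroup G) : Set G), n * u * n⁻¹ = v := by
  set C := Subgroup.centralizer ({v} : Set G) with hC
  have hgS : ((MulAut.conj g • S : Sylow 2 G) : Subgroup G) ≤ C := by
    rintro _ ⟨x, hx, rfl⟩
    have h := Subgroup.mem_centralizer_singleton_iff.mp (hu hx)
    refine Subgroup.mem_centralizer_singleton_iff.mpr ?_
    show g * x * g⁻¹ * v = v * (g * x * g⁻¹)
    rw [← hg]
    calc g * x * g⁻¹ * (g * u * g⁻¹) = g * (x * u) * g⁻¹ := by group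
      _ = g * (u * x) * g⁻¹ := by rw [h]
      _ = _ := by group
  obtain ⟨h, hh⟩ := MulAction.exists_smul_eq C ((MulAut.conj g • S).subtype hgS) (S.subtype hv)
  refine ⟨h * g, ?_, ?_⟩
  · rw [Subgroup.mem_normalizer_iff_map_conj_eq]
    refine Subgroup.eq_of_le_of_card_ge ?_
      (by rw [Subgroup.card_map_of_injective (MulAut.conj _).injective])
    rintro _ ⟨x, hx, rfl⟩
    have hm : (MulAut.conj g) x ∈ ((MulAut.conj g • S : Sylow 2 G) : Subgroup G) := ⟨x, hx, rfl⟩
    have h2 : h * ⟨_, hgS hm⟩ * h⁻¹ ∈ (S.subtype hv : Subgroup C) :=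
      hh.le ⟨⟨_, hgS hm⟩, hm, rfl⟩
    have h3 : (h : G) * (MulAut.conj g x) * (h : G)⁻¹ ∈ (S : Subgroup G) := h2
    simpa [mul_assoc] using h3
  · have hc := Subgroup.mem_centralizer_singleton_iff.mp h.2
    calc (h : G) * g * u * ((h : G) * g)⁻¹ = (h : G) * (g * u * g⁻¹) * (h : G)⁻¹ := by group
      _ = v := by rw [hg, hc, mul_inv_cancel_right]

variable (hinj : Function.Injective f) (hrange : f.range = (S : Subgroup G))
include hinj hrange

theorem le_centralizer_of_central {x : Model} (hx : ∀ y, y * x = x * y) :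
    (S : Subgroup G) ≤ Subgroup.centralizer {f x} := by
  rw [← hrange]
  rintro _ ⟨y, rfl⟩
  exact Subgroup.mem_centralizer_singleton_iff.mpr (by rw [← map_mul, hx, map_mul])

theorem normalizer_fix_c {n : G} (hn : n ∈ Subgroup.normalizer ((S : Subgroup G) : Set G)) :
    n * f c0 * n⁻¹ = f c0 := by
  have h1 : f (DihedralGroup.r 1 |> fun r => ((1, r) : Model)) ∈ (S : Subgroup G) :=
    hrange ▸ ⟨_, rfl⟩
  set r : Model := (1, DihedralGroup.r 1) with hr
  obtain ⟨x, hx⟩ : n * f r * n⁻¹ ∈ f.range := hrange ▸ (Subgroup.mem_normalizer_iff.mp hn _).mp h1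
  have e : f (x * x) = n * f c0 * n⁻¹ := by
    rw [map_mul, hx, show c0 = r * r by rw [hr]; decide, map_mul]; group
  rcases sq_cases x with h | h
  · exfalso
    rw [h, map_one, eq_comm, conj_eq_one_iff, ← map_one f] at e
    exact absurd (hinj e) (by decide)
  · rw [← e, h]

/-- `z0`, `c0` and `z0 * c0` are pairwise non-conjugate. -/
theorem not_conj_central : ∀ g : G, g * f z0 * g⁻¹ ≠ f c0 ∧ g * f z0 * g⁻¹ ≠ f (z0 * c0) ∧
    g * f c0 * g⁻¹ ≠ f (z0 * c0) := by
  have hz : ∀ y : Model, y * z0 = z0 * y := by decide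
  have hc : ∀ y : Model, y * c0 = c0 * y := by decide
  have hzc : ∀ y : Model, y * (z0 * c0) = (z0 * c0) * y := by decide
  intro g
  refine ⟨fun h => ?_, fun h => ?_, fun h => ?_⟩
  · obtain ⟨n, hn, h'⟩ := burnside (le_centralizer_of_central hinj hrange hz)
      (le_centralizer_of_central hinj hrange hc) h
    rw [← normalizer_fix_c hinj hrange hn] at h'
    exact absurd (hinj (mul_left_cancel (mul_right_cancel h'))) (by decide)
  · obtain ⟨n, hn, h'⟩ := burnside (le_centralizer_of_central hinj hrange hz)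
      (le_centralizer_of_central hinj hrange hzc) h
    obtain ⟨j, hj⟩ := exists_odd_pow_mem hn
    have h2 : n ^ 2 * f z0 * (n ^ 2)⁻¹ = f z0 := by
      calc n ^ 2 * f z0 * (n ^ 2)⁻¹ = n * (n * f z0 * n⁻¹) * n⁻¹ := by rw [pow_two, mul_inv_rev]; group
        _ = n * (f z0 * f c0) * n⁻¹ := by rw [h', map_mul]
        _ = (n * f z0 * n⁻¹) * (n * f c0 * n⁻¹) := by group
        _ = f z0 := by
          rw [h', normalizer_fix_c hinj hrange hn, ← map_mul]
          congr 1
    have hcomm : ∀ i : ℕ, Commute ((n ^ 2) ^ i) (f z0) := fun i =>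
      (show Commute (n ^ 2) (f z0) from mul_inv_eq_iff_eq_mul.mp h2).pow_left i
    have hS := Subgroup.mem_centralizer_singleton_iff.mp
      (le_centralizer_of_central hinj hrange hz hj)
    rw [pow_succ', pow_mul] at hS
    have hn1 : n * f z0 = f z0 * n := by
      apply mul_right_cancel (b := (n ^ 2) ^ j)
      rw [mul_assoc, ← (hcomm j).eq, ← mul_assoc, hS, mul_assoc]
    rw [hn1, mul_inv_cancel_right] at h'
    exact absurd (hinj h') (by decide)
  · obtain ⟨n, hn, h'⟩ := burnside (le_centralizer_of_central hinj hrange hc)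
      (le_centralizer_of_central hinj hrange hzc) h
    rw [normalizer_fix_c hinj hrange hn] at h'
    exact absurd (hinj h') (by decide)

theorem image_cases {k : G} {V : Subgroup Model}
    (hV : ∀ x y : Model, x ∈ V → y ∈ V → x * y = y * x ∧ x * x = 1) (hcard : Nat.card V = 8)
    (hk : (V.map f).map (MulAut.conj k).toMonoidHom ≤ (S : Subgroup G)) :
    (V.map f).map (MulAut.conj k).toMonoidHom = A0.map f ∨
      (V.map f).map (MulAut.conj k).toMonoidHom = B0.map f := by
  set W := (V.map f).map (MulAut.conj k).toMonoidHom with hW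
  have hWc : Nat.card W = 8 := by
    rw [hW, Subgroup.card_map_of_injective (MulAut.conj k).injective,
      Subgroup.card_map_of_injective hinj, hcard]
  have key : ∀ u v : Model, f u ∈ W → f v ∈ W → u * v = v * u ∧ u * u = 1 := by
    rintro u v ⟨_, ⟨x, hx, rfl⟩, hu⟩ ⟨_, ⟨y, hy, rfl⟩, hv⟩
    obtain ⟨h1, h2⟩ := hV x y hx hy
    constructor
    · apply hinj
      rw [map_mul, map_mul, ← hu, ← hv, ← map_mul, ← map_mul, ← map_mul, ← map_mul, h1]
    · apply hinj
      rw [map_mul, map_one, ← hu, ← map_mul, ← map_mul, h2, map_one, map_one]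
  have hsub : W ≤ f.range := hrange ▸ hk
  by_cases h : ∃ x, f x ∈ W ∧ inA x = true ∧ inB x = false
  · obtain ⟨x, hx, hxA, hxB⟩ := h
    left
    refine Subgroup.eq_of_le_of_card_ge (fun w hw => ?_)
      (by rw [hWc, Subgroup.card_map_of_injective hinj, card_A0])
    obtain ⟨y, rfl⟩ := hsub hw
    exact ⟨y, commute_A x y (key x x hx hx).2 (key y y hw hw).2 (key x y hx hw).1 hxA hxB, rfl⟩
  · right
    refine Subgroup.eq_of_le_of_card_ge (fun w hw => ?_)
      (by rw [hWc, Subgroup.card_map_of_injective hinj, card_B0])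
    obtain ⟨y, rfl⟩ := hsub hw
    refine ⟨y, ?_, rfl⟩
    by_cases hA : inA y = true
    · by_contra hB
      exact h ⟨y, hw, hA, Bool.eq_false_iff.mpr hB⟩
    · exact invol_mem y (key y y hw hw).2 (by simpa using hA)

theorem le_normalizer_map {V : Subgroup Model} (hV : ∀ g x : Model, x ∈ V → g * x * g⁻¹ ∈ V) :
    (S : Subgroup G) ≤ Subgroup.normalizer ((V.map f : Subgroup G) : Set G) := by
  rw [← hrange]
  rintro _ ⟨g, rfl⟩
  rw [Subgroup.mem_normalizer_iff_map_conj_eq]
  refine Subgroup.eq_of_le_of_card_ge ?_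
    (Subgroup.card_map_of_injective (MulAut.conj (f g)).injective).ge
  rintro _ ⟨_, ⟨x, hx, rfl⟩, rfl⟩
  exact ⟨g * x * g⁻¹, hV g x hx, by simp⟩

/-- An element of a Klein-by-two subgroup fused to `z0` is fused inside its normalizer. -/
theorem fusion_in_normalizer {V V' : Subgroup Model} (hVV : V ≠ V')
    (hpair : (V = A0 ∧ V' = B0) ∨ (V = B0 ∧ V' = A0))
    {x : Model} (hx : ∀ y ∈ V, y * x = x * y) {g : G} (hg : g * f x * g⁻¹ = f z0) :
    ∃ k : G, (V.map f).map (MulAut.conj k).toMonoidHom = V.map f ∧ k * f x * k⁻¹ = f z0 := by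
  have habA : ∀ x y : Model, x ∈ A0 → y ∈ A0 → x * y = y * x ∧ x * x = 1 := A_abelian
  have habB : ∀ x y : Model, x ∈ B0 → y ∈ B0 → x * y = y * x ∧ x * x = 1 := B_abelian
  have hV : ∀ x y : Model, x ∈ V → y ∈ V → x * y = y * x ∧ x * x = 1 := by
    rcases hpair with ⟨rfl, -⟩ | ⟨rfl, -⟩ <;> assumption
  have hcard : Nat.card V = 8 := by
    rcases hpair with ⟨rfl, -⟩ | ⟨rfl, -⟩
    exacts [card_A0, card_B0]
  set C := Subgroup.centralizer ({f z0} : Set G) with hC
  have hSC : (S : Subgroup G) ≤ C := le_centralizer_of_central hinj hrange (by decide)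
  set W := (V.map f).map (MulAut.conj g).toMonoidHom with hW
  have hWC : W ≤ C := by
    rintro _ ⟨_, ⟨y, hy, rfl⟩, rfl⟩
    refine Subgroup.mem_centralizer_singleton_iff.mpr ?_
    show g * f y * g⁻¹ * f z0 = f z0 * (g * f y * g⁻¹)
    rw [← hg]
    calc g * f y * g⁻¹ * (g * f x * g⁻¹) = g * (f y * f x) * g⁻¹ := by group
      _ = g * (f x * f y) * g⁻¹ := by rw [← map_mul, hx y hy, map_mul]
      _ = _ := by group
  have hWp : IsPGroup 2 ↥W := by
    refine IsPGroup.of_card (n := 3) ?_
    rw [hW, Subgroup.card_map_of_injective (MulAut.conj g).injective,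
      Subgroup.card_map_of_injective hinj, hcard]; norm_num
  obtain ⟨P, hP⟩ := (hWp.comap_of_injective C.subtype C.subtype_injective).exists_le_sylow
  obtain ⟨h, hh⟩ := MulAction.exists_smul_eq C P (S.subtype hSC)
  set k := (h : G) * g with hk
  have hkx : k * f x * k⁻¹ = f z0 := by
    calc k * f x * k⁻¹ = (h : G) * (g * f x * g⁻¹) * (h : G)⁻¹ := by rw [hk]; group
      _ = f z0 := by
        rw [hg, Subgroup.mem_centralizer_singleton_iff.mp h.2, mul_inv_cancel_right]
  have hkS : (V.map f).map (MulAut.conj k).toMonoidHom ≤ (S : Subgroup G) := by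
    rintro _ ⟨v, hv, rfl⟩
    have hm : g * v * g⁻¹ ∈ W := ⟨v, hv, rfl⟩
    have h2 : h * ⟨_, hWC hm⟩ * h⁻¹ ∈ (S.subtype hSC : Subgroup C) :=
      hh.le ⟨⟨_, hWC hm⟩, hP hm, rfl⟩
    have h3 : (h : G) * (g * v * g⁻¹) * (h : G)⁻¹ ∈ (S : Subgroup G) := h2
    simpa [hk, mul_assoc] using h3
  by_cases hself : (V.map f).map (MulAut.conj k).toMonoidHom = V.map f
  · exact ⟨k, hself, hkx⟩
  exfalso
  have hother : (V.map f).map (MulAut.conj k).toMonoidHom = V'.map f := by
    rcases image_cases hinj hrange hV hcard hkS with h' | h' <;>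
      rcases hpair with ⟨h1, h2⟩ | ⟨h1, h2⟩ <;> subst h1 h2 <;> first | exact h' | exact absurd h' hself
  have hnA : (S : Subgroup G) ≤ Subgroup.normalizer ((V.map f : Subgroup G) : Set G) := by
    rcases hpair with ⟨rfl, -⟩ | ⟨rfl, -⟩
    exacts [le_normalizer_map hinj hrange A0_normal, le_normalizer_map hinj hrange B0_normal]
  set N := Subgroup.normalizer ((V'.map f : Subgroup G) : Set G) with hN
  have hSN : (S : Subgroup G) ≤ N := by
    rcases hpair with ⟨-, rfl⟩ | ⟨-, rfl⟩
    exacts [le_normalizer_map hinj hrange B0_normal, le_normalizer_map hinj hrange A0_normal]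
  have hkSN : ((MulAut.conj k • S : Sylow 2 G) : Subgroup G) ≤ N := by
    rw [hN, ← hother]
    exact (Subgroup.map_mono hnA).trans (Subgroup.le_normalizer_map _)
  obtain ⟨m, hm⟩ := MulAction.exists_smul_eq N ((MulAut.conj k • S).subtype hkSN) (S.subtype hSN)
  set n := (m : G) * k with hn
  have hnS : n ∈ Subgroup.normalizer ((S : Subgroup G) : Set G) := by
    rw [Subgroup.mem_normalizer_iff_map_conj_eq]
    refine Subgroup.eq_of_le_of_card_ge ?_
      (by rw [Subgroup.card_map_of_injective (MulAut.conj _).injective])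
    rintro _ ⟨x, hx, rfl⟩
    have hm' : (MulAut.conj k) x ∈ ((MulAut.conj k • S : Sylow 2 G) : Subgroup G) := ⟨x, hx, rfl⟩
    have h2 : m * ⟨_, hkSN hm'⟩ * m⁻¹ ∈ (S.subtype hSN : Subgroup N) :=
      hm.le ⟨⟨_, hkSN hm'⟩, hm', rfl⟩
    have h3 : (m : G) * (MulAut.conj k x) * (m : G)⁻¹ ∈ (S : Subgroup G) := h2
    simpa [hn, mul_assoc] using h3
  have hcomp : ∀ (a b : G) (H : Subgroup G), (H.map (MulAut.conj a).toMonoidHom).map
      (MulAut.conj b).toMonoidHom = H.map (MulAut.conj (b * a)).toMonoidHom := by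
    intro a b H
    rw [Subgroup.map_map]
    congr 1
    ext y
    simp [mul_assoc]
  have hnV : (V.map f).map (MulAut.conj n).toMonoidHom = V'.map f := by
    rw [hn, ← hcomp, hother]
    exact Subgroup.mem_normalizer_iff_map_conj_eq.mp m.2
  have hnV' : (V'.map f).map (MulAut.conj n).toMonoidHom = V.map f := by
    have hV' : ∀ x y : Model, x ∈ V' → y ∈ V' → x * y = y * x ∧ x * x = 1 := by
      rcases hpair with ⟨-, rfl⟩ | ⟨-, rfl⟩ <;> assumption
    have hcard' : Nat.card V' = 8 := by
      rcases hpair with ⟨-, rfl⟩ | ⟨-, rfl⟩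
      exacts [card_B0, card_A0]
    have hle : (V'.map f).map (MulAut.conj n).toMonoidHom ≤ (S : Subgroup G) := by
      rw [← Subgroup.mem_normalizer_iff_map_conj_eq.mp hnS]
      exact Subgroup.map_mono (hrange ▸ Subgroup.map_le_range f V')
    have hne : (V'.map f).map (MulAut.conj n).toMonoidHom ≠ V'.map f := by
      intro h'
      rw [← h'] at hnV
      exact hVV (Subgroup.map_injective hinj (Subgroup.map_injective (MulAut.conj n).injective
        (hnV.trans (by rw [h']))))
    rcases image_cases hinj hrange hV' hcard' hle with h' | h' <;>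
      rcases hpair with ⟨h1, h2⟩ | ⟨h1, h2⟩ <;> subst h1 h2 <;> first | exact h' | exact absurd h' hne
  have heven : ∀ i : ℕ, (V.map f).map (MulAut.conj (n ^ (2 * i))).toMonoidHom = V.map f := by
    intro i
    induction i with
    | zero => ext y; simp
    | succ i ih =>
      rw [show n ^ (2 * (i + 1)) = n * (n * n ^ (2 * i)) by rw [← mul_assoc, ← pow_two, ← pow_add]; ring_nf,
        ← hcomp (n * n ^ (2 * i)) n, ← hcomp (n ^ (2 * i)) n, ih, hnV, hnV']
  obtain ⟨j, hj⟩ := exists_odd_pow_mem hnS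
  have hodd := Subgroup.mem_normalizer_iff_map_conj_eq.mp (hnA hj)
  rw [pow_succ'] at hodd
  replace hodd := (hcomp (n ^ (2 * j)) n _).trans hodd
  rw [heven, hnV] at hodd
  exact hVV (Subgroup.map_injective hinj hodd.symm)

/-- Not both of `x` and `z0 * x` are conjugate to `z0`. -/
theorem exists_choice {V V' : Subgroup Model} (hVV : V ≠ V')
    (hpair : (V = A0 ∧ V' = B0) ∨ (V = B0 ∧ V' = A0)) {x : Model} (hxV : x ∈ V)
    (hcases : ∀ y ∈ V, y = 1 ∨ y = z0 ∨ y = c0 ∨ y = z0 * c0 ∨
      ∃ s : Model, y = s * x * s⁻¹ ∨ y = s * (z0 * x) * s⁻¹)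
    (hcV : c0 ∈ V) (hzcV : z0 * c0 ∈ V)
    (hab : ∀ y ∈ V, y * x = x * y) (hne : x ≠ z0) :
    ∃ δ : Bool, ∀ g : G, g * f (if δ then z0 * x else x) * g⁻¹ ≠ f z0 := by
  by_contra hcon
  push Not at hcon
  obtain ⟨g1, hg1⟩ := hcon false
  obtain ⟨g2, hg2⟩ := hcon true
  simp only [Bool.false_eq_true, if_false] at hg1
  simp only [if_true] at hg2
  obtain ⟨k, hkV, hkx⟩ := fusion_in_normalizer hinj hrange hVV hpair hab hg1
  have hnc := not_conj_central hinj hrange
  -- elements of `V` not conjugate to `z0` are `1`, `c0`, `z0 * c0`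
  have hfix : ∀ u ∈ V, (∀ g : G, g * f u * g⁻¹ ≠ f z0) → u ≠ 1 →
      k * f u * k⁻¹ = f c0 ∨ k * f u * k⁻¹ = f (z0 * c0) := by
    intro u hu hnu hu1
    obtain ⟨y, hy, hyu⟩ : k * f u * k⁻¹ ∈ V.map f := hkV.le ⟨f u, ⟨u, hu, rfl⟩, rfl⟩
    rcases hcases y hy with rfl | rfl | rfl | rfl | ⟨s, rfl | rfl⟩
    · exfalso
      rw [map_one, eq_comm, conj_eq_one_iff, ← map_one f] at hyu
      exact hu1 (hinj hyu)
    · exact absurd hyu.symm (hnu k)
    · exact Or.inl hyu.symm
    · exact Or.inr hyu.symm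
    · refine absurd ?_ (hnu (g1 * (f s)⁻¹ * k))
      calc g1 * (f s)⁻¹ * k * f u * (g1 * (f s)⁻¹ * k)⁻¹
          = g1 * (f s)⁻¹ * (k * f u * k⁻¹) * f s * g1⁻¹ := by group
        _ = f z0 := by rw [← hyu, map_mul, map_mul, map_inv, ← hg1]; group
    · refine absurd ?_ (hnu (g2 * (f s)⁻¹ * k))
      calc g2 * (f s)⁻¹ * k * f u * (g2 * (f s)⁻¹ * k)⁻¹
          = g2 * (f s)⁻¹ * (k * f u * k⁻¹) * f s * g2⁻¹ := by group
        _ = f z0 := by rw [← hyu, map_mul, map_mul, map_inv, ← hg2]; group
  have hswap : ∀ u : Model, (∀ g : G, g * f z0 * g⁻¹ ≠ f u) → ∀ g : G, g * f u * g⁻¹ ≠ f z0 := by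
    intro u hu g h
    exact hu g⁻¹ (by rw [← h]; group)
  have hkc : k * f c0 * k⁻¹ = f c0 :=
    (hfix c0 hcV (hswap _ fun g => (hnc g).1) (by decide)).resolve_right (hnc k).2.2
  have hkzc : k * f (z0 * c0) * k⁻¹ = f (z0 * c0) :=
    (hfix (z0 * c0) hzcV (hswap _ fun g => (hnc g).2.1) (by decide)).resolve_left fun h =>
      (hnc k⁻¹).2.2 (by rw [← h]; group)
  have hkz : k * f z0 * k⁻¹ = f z0 := by
    calc k * f z0 * k⁻¹ = (k * f (z0 * c0) * k⁻¹) * (k * f c0 * k⁻¹)⁻¹ := by
          rw [map_mul]; group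
      _ = f z0 := by rw [hkzc, hkc, map_mul, mul_inv_cancel_right]
  exact hne (hinj (mul_left_cancel (mul_right_cancel (hkx.trans hkz.symm))))

end

/-- A finite group whose Sylow 2-subgroups are isomorphic to the direct product of a group of order 2 and a dihedral group of order 8 has a subgroup of index two. -/
theorem result {G : Type*} [Group G] [Finite G] (S : Sylow 2 G) (hS : Nonempty (↥(S : Subgroup G) ≃* Multiplicative (ZMod 2) × DihedralGroup 4)) : ∃ H : Subgroup G, H.index = 2 := by
  obtain ⟨e⟩ := hS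
  by_contra hcon
  push Not at hcon
  let f : Model →* G := (S : Subgroup G).subtype.comp e.symm.toMonoidHom
  have hinj : Function.Injective f := (Subgroup.subtype_injective _).comp e.symm.injective
  have hrange : f.range = (S : Subgroup G) := by
    refine le_antisymm ?_ fun x hx => ⟨e ⟨x, hx⟩, by simp [f]⟩
    rintro _ ⟨y, rfl⟩
    exact (e.symm y).2
  have hAB : A0 ≠ B0 := fun h => by
    have h1 : a0 ∈ B0 := h ▸ (show inA a0 = true by decide)
    exact absurd (show inB a0 = true from h1) (by decide)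
  obtain ⟨α, hα⟩ := exists_choice hinj hrange hAB (Or.inl ⟨rfl, rfl⟩) (x := a0)
    (show inA a0 = true by decide) (fun y hy => by
      rcases A_cases y hy with h | h | h | h | ⟨h1, h2⟩
      · exact Or.inl h
      · exact Or.inr (Or.inl h)
      · exact Or.inr (Or.inr (Or.inl h))
      · exact Or.inr (Or.inr (Or.inr (Or.inl h)))
      · refine Or.inr (Or.inr (Or.inr (Or.inr ?_)))
        rcases conj_A y h1 h2 with h | h | h | h
        exacts [⟨1, Or.inl (by simpa using h)⟩, ⟨b0, Or.inl h⟩, ⟨1, Or.inr (by simpa using h)⟩,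
          ⟨b0, Or.inr h⟩])
    (show inA c0 = true by decide) (show inA (z0 * c0) = true by decide)
    (fun y hy => (A_abelian y a0 hy (by decide)).1) (by decide)
  obtain ⟨β, hβ⟩ := exists_choice hinj hrange hAB.symm (Or.inr ⟨rfl, rfl⟩) (x := b0)
    (show inB b0 = true by decide) (fun y hy => by
      rcases B_cases y hy with h | h | h | h | ⟨h1, h2⟩
      · exact Or.inl h
      · exact Or.inr (Or.inl h)
      · exact Or.inr (Or.inr (Or.inl h))
      · exact Or.inr (Or.inr (Or.inr (Or.inl h)))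
      · refine Or.inr (Or.inr (Or.inr (Or.inr ?_)))
        rcases conj_B y h1 h2 with h | h | h | h
        exacts [⟨1, Or.inl (by simpa using h)⟩, ⟨a0, Or.inl h⟩, ⟨1, Or.inr (by simpa using h)⟩,
          ⟨a0, Or.inr h⟩])
    (show inB c0 = true by decide) (show inB (z0 * c0) = true by decide)
    (fun y hy => (B_abelian y b0 hy (by decide)).1) (by decide)
  set M := (M0 α β).map f with hM
  have hMS : M ≤ (S : Subgroup G) := hrange ▸ Subgroup.map_le_range f _
  have hidx : M.relIndex (S : Subgroup G) = 2 := by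
    have h1 := Cfsg.Agent.Lib.PSolvable.card_mul_relIndex hMS
    rw [hM, Subgroup.card_map_of_injective hinj, card_M0,
      ← hrange, ← Nat.card_congr (MonoidHom.ofInjective hinj).toEquiv,
      Nat.card_eq_fintype_card, show Fintype.card Model = 16 by decide, ← hM, hrange] at h1
    omega
  have hu : orderOf (f z0) = 2 := by
    rw [orderOf_injective f hinj]
    exact orderOf_eq_prime (by decide) (by decide)
  obtain ⟨g, y, hy, hyg⟩ := Cfsg.Agent.Lib.Involution.exists_conj_mem_of_no_index_two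
    hcon S M hMS hidx (f z0) hu
  have hy2 : y * y = 1 := by
    apply hinj
    rw [map_mul, hyg, map_one]
    calc g * f z0 * g⁻¹ * (g * f z0 * g⁻¹) = g * (f z0 * f z0) * g⁻¹ := by group
      _ = 1 := by rw [← map_mul, show z0 * z0 = 1 by decide, map_one, mul_one, mul_inv_cancel]
  have hnc := Cfsg.Agent.S2911.not_conj_central hinj hrange
  have back : ∀ s x : Model, y = s * x * s⁻¹ → (∀ g : G, g * f x * g⁻¹ ≠ f z0) → False := by
    intro s x h hne
    rw [h, map_mul, map_mul, map_inv] at hyg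
    refine hne (g⁻¹ * f s) ?_
    calc g⁻¹ * f s * f x * (g⁻¹ * f s)⁻¹ = g⁻¹ * (f s * f x * (f s)⁻¹) * g := by group
      _ = f z0 := by rw [hyg]; group
  rcases M_cases α β y hy hy2 with h | h | h | h | h | h
  · rw [h, map_one, eq_comm, conj_eq_one_iff, ← map_one f] at hyg
    exact absurd (hinj hyg) (by decide)
  · rw [h] at hyg
    exact (hnc g).1 hyg.symm
  · exact back 1 _ (by simpa using h) hα
  · exact back b0 _ h hα
  · exact back 1 _ (by simpa using h) hβ
  · exact back a0 _ h hβ

end Cfsg.Agent.S2911
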