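import Cfsg.Statements.S2912
-- import your own Cfsg.Agent.* helpers here
import Mathlib
import Cfsg.Agent.Lib.PGroup.Extraspecial

set_option autoImplicit false
open Cfsg
open scoped commutatorElement

namespace Cfsg.Agent.S2912

open Cfsg.Agent.Lib

/-- The bound for a simple module. -/
theorem core_simple {E U : Type*} [Group E] [Finite E] [AddCommGroup U] [Finite U] [Nontrivial U]
    {p r : ℕ} [Fact p.Prime] [hr : Fact r.Prime] (hE : IsExtraspecial p E) (w : ℕ)
    (hEcard : Nat.card E = p ^ (2 * w + 1)) (hru : ∀ v : U, r • v = 0)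
    (ρ : E →* AddMonoid.End U) (z : E) (hz : z ∈ Subgroup.center E) (hρz : ρ z ≠ 1)
    (hsimple : ∀ W : AddSubgroup U, (∀ e : E, ∀ v ∈ W, ρ e v ∈ W) → W = ⊥ ∨ W = ⊤)
    (n : ℕ) (hmin : ∀ k : ℕ, 1 ≤ k → p ∣ r ^ k - 1 → n ≤ k) :
    r ^ (n * p ^ w) ≤ Nat.card U := by
  classical
  have hp : p.Prime := Fact.out
  set D : Subring (AddMonoid.End U) := Subring.centralizer (Set.range ρ) with hD
  have hDcomm : ∀ (d : D) (e : E), (d : AddMonoid.End U) * ρ e = ρ e * d := fun d e =>
    ((Subring.mem_centralizer_iff.1 d.2) (ρ e) ⟨e, rfl⟩).symm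
  have hinj : ∀ d : D, d ≠ 0 → Function.Injective (d : AddMonoid.End U) := by
    intro d hd
    let Kd : AddSubgroup U :=
      { carrier := {v | (d : AddMonoid.End U) v = 0}
        zero_mem' := map_zero _
        add_mem' := fun {a b} ha hb => by
          simp only [Set.mem_setOf_eq] at ha hb ⊢
          rw [map_add, ha, hb, add_zero]
        neg_mem' := fun {a} ha => by
          simp only [Set.mem_setOf_eq] at ha ⊢
          rw [map_neg, ha, neg_zero] }
    rcases hsimple Kd (fun e v hv => by
      have := DFunLike.congr_fun (hDcomm d e) v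
      change (d : AddMonoid.End U) (ρ e v) = ρ e ((d : AddMonoid.End U) v) at this
      show (d : AddMonoid.End U) (ρ e v) = 0
      rw [this, show (d : AddMonoid.End U) v = 0 from hv, map_zero]) with h | h
    · intro a b hab
      have : a - b ∈ Kd := show (d : AddMonoid.End U) (a - b) = 0 by rw [map_sub, hab, sub_self]
      rw [h, AddSubgroup.mem_bot, sub_eq_zero] at this
      exact this
    · exfalso
      exact hd (Subtype.ext (AddMonoidHom.ext fun v => show v ∈ Kd by rw [h]; exact AddSubgroup.mem_top v))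
  have : Nontrivial D := ⟨⟨0, 1, fun h => by
    obtain ⟨v, hv⟩ := exists_ne (0 : U)
    have := DFunLike.congr_fun (congrArg Subtype.val h) v
    exact hv this.symm⟩⟩
  have : NoZeroDivisors D := ⟨fun {a b} hab => by
    by_contra hcon
    push_neg at hcon
    obtain ⟨v, hv⟩ := exists_ne (0 : U)
    have h1 : (a : AddMonoid.End U) ((b : AddMonoid.End U) v) = 0 :=
      DFunLike.congr_fun (congrArg Subtype.val hab) v
    exact hv (hinj b hcon.2 ((hinj a hcon.1 (h1.trans (map_zero _).symm)).trans (map_zero _).symm))⟩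
  have : IsDomain D := NoZeroDivisors.to_isDomain D
  have : Finite (AddMonoid.End U) := Finite.of_injective (fun f => (f : U → U)) DFunLike.coe_injective
  have : Finite D := inferInstance
  letI : Field D := (Finite.isDomain_to_isField D).toField
  letI : Fintype D := Fintype.ofFinite D
  have : Module.Finite D U := Module.Finite.of_finite
  let L : E → (U →ₗ[D] U) := fun e =>
    { toFun := fun v => ρ e v
      map_add' := fun x y => map_add _ x y
      map_smul' := fun d v => (DFunLike.congr_fun (hDcomm d e) v).symm }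
  have hLmul : ∀ a b : E, L (a * b) = L a ∘ₗ L b := fun a b => by
    ext v
    show ρ (a * b) v = ρ a (ρ b v)
    rw [map_mul]; rfl
  have hL1 : L 1 = LinearMap.id := by
    ext v
    show ρ 1 v = v
    rw [map_one]; rfl
  have hcen : ∀ c ∈ Subgroup.center E, ρ c ∈ D := fun c hc => by
    rw [hD, Subring.mem_centralizer_iff]
    rintro _ ⟨e, rfl⟩
    rw [← map_mul, ← map_mul, Subgroup.mem_center_iff.1 hc e]
  let χ : E → E → D := fun g e => ⟨ρ ⁅g, e⁆, hcen _ (Extraspecial.commutator_mem_center hE g e)⟩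
  have hconj : ∀ g e : E, L g ∘ₗ L e ∘ₗ L g⁻¹ = χ g e • L e := fun g e => by
    rw [← hLmul, ← hLmul]
    ext v
    show ρ (g * (e * g⁻¹)) v = ρ ⁅g, e⁆ (ρ e v)
    rw [show g * (e * g⁻¹) = ⁅g, e⁆ * e by rw [commutatorElement_def]; group, map_mul]; rfl
  have hfaith : ∀ c ∈ Subgroup.center E, ρ c = 1 → c = 1 := fun c hc h1 => by
    by_contra hc1
    have hzc : z ∈ Subgroup.zpowers c := by rw [Extraspecial.zpowers_eq_center hE hc hc1]; exact hz
    exact hρz (Subgroup.zpowers_le.2 (show c ∈ ρ.ker from h1) hzc)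
  have hLne : ∀ e : E, L e ≠ 0 := fun e h => by
    obtain ⟨v, hv⟩ := exists_ne (0 : U)
    have : (L e⁻¹ ∘ₗ L e) v = 0 := by rw [h]; simp
    rw [← hLmul, inv_mul_cancel, hL1] at this
    exact hv this
  have hdistinct : ∀ q q' : E ⧸ Subgroup.center E, q ≠ q' →
      ∃ g : E, χ g q.out ≠ χ g q'.out := fun q q' hne => by
    have hx : q.out⁻¹ * q'.out ∉ Subgroup.center E := fun h => hne (by
      rw [← QuotientGroup.out_eq' q, ← QuotientGroup.out_eq' q']
      exact QuotientGroup.eq.2 h)
    obtain ⟨g, hg⟩ : ∃ g, g * (q.out⁻¹ * q'.out) ≠ (q.out⁻¹ * q'.out) * g := by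
      simpa [Subgroup.mem_center_iff] using hx
    refine ⟨g, fun h => hg ?_⟩
    have hval : ρ ⁅g, q.out⁆ = ρ ⁅g, q'.out⁆ := congrArg Subtype.val h
    have hm := Extraspecial.commutator_mem_center hE g (q.out⁻¹ * q'.out)
    have hsplit : ⁅g, q'.out⁆ = ⁅g, q.out⁆ * ⁅g, q.out⁻¹ * q'.out⁆ := by
      calc ⁅g, q'.out⁆
          = ⁅g, q.out⁆ * (q.out * ⁅g, q.out⁻¹ * q'.out⁆ * q.out⁻¹) := by
            simp only [commutatorElement_def]; group
        _ = _ := by rw [Subgroup.mem_center_iff.1 hm q.out]; group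
    rw [← commutatorElement_eq_one_iff_mul_comm]
    refine hfaith _ hm ?_
    have h2 : ρ ⁅g, q.out⁆⁻¹ * ρ ⁅g, q'.out⁆ = 1 := by
      rw [← hval, ← map_mul, inv_mul_cancel, map_one]
    rwa [← map_mul, hsplit, inv_mul_cancel_left] at h2
  have hindep : LinearIndependent D (fun q : E ⧸ Subgroup.center E => L q.out) := by
    rw [linearIndependent_iff']
    intro s
    induction s using Finset.induction_on with
    | empty => intro c _ i hi; exact absurd hi (Finset.notMem_empty i)
    | insert q₀ s hq₀ ih =>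
      intro c hc
      have key : ∀ g : E, ∑ q ∈ insert q₀ s, (c q * χ g q.out) • L q.out = 0 := fun g => by
        calc ∑ q ∈ insert q₀ s, (c q * χ g q.out) • L q.out
            = ∑ q ∈ insert q₀ s, c q • (L g ∘ₗ L q.out ∘ₗ L g⁻¹) :=
              Finset.sum_congr rfl fun q _ => by rw [hconj, smul_smul]
          _ = L g ∘ₗ (∑ q ∈ insert q₀ s, c q • L q.out) ∘ₗ L g⁻¹ := by
              ext v
              simp only [LinearMap.comp_apply, LinearMap.sum_apply, LinearMap.smul_apply, map_sum,
                map_smul]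
          _ = 0 := by rw [hc]; simp
      have hs : ∀ q ∈ s, c q = 0 := fun q hq => by
        obtain ⟨g, hg⟩ := hdistinct q q₀ (fun h => hq₀ (h ▸ hq))
        have h0 : ∑ t ∈ s, (c t * (χ g t.out - χ g q₀.out)) • L t.out = 0 := by
          have e1 := key g
          rw [Finset.sum_insert hq₀] at e1
          have e2 : χ g q₀.out • ∑ t ∈ insert q₀ s, c t • L t.out = 0 := by rw [hc, smul_zero]
          rw [Finset.sum_insert hq₀, smul_add, Finset.smul_sum, smul_smul, mul_comm] at e2
          have e3 : ∑ t ∈ s, (c t * χ g t.out) • L t.out = ∑ t ∈ s, χ g q₀.out • c t • L t.out :=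
            add_left_cancel (e1.trans e2.symm)
          simp only [mul_sub, sub_smul, Finset.sum_sub_distrib]
          rw [sub_eq_zero, e3]
          exact Finset.sum_congr rfl fun t _ => by rw [smul_smul, mul_comm]
        exact (mul_eq_zero.1 (ih _ h0 q hq)).resolve_right (sub_ne_zero.2 hg)
      intro i hi
      rcases Finset.mem_insert.1 hi with rfl | hi
      · rw [Finset.sum_insert hq₀,
          Finset.sum_eq_zero (fun t ht => by rw [hs t ht, zero_smul]), add_zero] at hc
        exact (smul_eq_zero.1 hc).resolve_right (hLne _)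
      · exact hs i hi
  letI : Fintype (E ⧸ Subgroup.center E) := Fintype.ofFinite _
  have hm2 := hindep.fintype_card_le_finrank
  rw [Module.finrank_linearMap, ← Nat.card_eq_fintype_card] at hm2
  have hq : Nat.card (E ⧸ Subgroup.center E) = p ^ w * p ^ w := by
    have h1 := Subgroup.card_eq_card_quotient_mul_card_subgroup (Subgroup.center E)
    rw [Extraspecial.card_center hE, hEcard, pow_succ, two_mul, pow_add] at h1
    exact (Nat.eq_of_mul_eq_mul_right hp.pos h1).symm
  rw [hq] at hm2
  have hm : p ^ w ≤ Module.finrank D U := Nat.mul_self_le_mul_self_iff.1 hm2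
  have : CharP D r := (CharP.charP_iff_prime_eq_zero hr.out).2 (by
    refine Subtype.ext (AddMonoidHom.ext fun v => ?_)
    show ((r : D) : AddMonoid.End U) v = 0
    rw [show ((r : D) : AddMonoid.End U) = (r : AddMonoid.End U) from map_natCast D.subtype r,
      AddMonoid.End.natCast_apply]
    exact hru v)
  obtain ⟨k, -, hk⟩ := FiniteField.card D r
  set ζ : D := ⟨ρ z, hcen z hz⟩ with hζ
  have hζ1 : ζ ≠ 1 := fun h => hρz (congrArg Subtype.val h)
  have hζp : ζ ^ p = 1 := by
    apply Subtype.ext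
    rw [SubmonoidClass.coe_pow]
    simp only [hζ]
    rw [← map_pow, Extraspecial.pow_eq_one_of_mem_center hE hz, map_one]
    rfl
  have hζ0 : ζ ≠ 0 := fun h => by
    rw [h, zero_pow hp.ne_zero] at hζp
    exact zero_ne_one hζp
  have hdvd := orderOf_dvd_of_pow_eq_one (FiniteField.pow_card_sub_one_eq_one ζ hζ0)
  rw [orderOf_eq_prime hζp hζ1, hk] at hdvd
  have hnk : n ≤ k := hmin k k.pos hdvd
  rw [Module.natCard_eq_pow_finrank (K := D) (V := U), Nat.card_eq_fintype_card, hk, ← pow_mul]
  exact Nat.pow_le_pow_right hr.out.pos (Nat.mul_le_mul hnk hm)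

/-- Let p and r be distinct primes, let E be an extraspecial subgroup of order p^(2w+1) of a finite group, and let A be an elementary abelian r-subgroup normalized by E on which E acts faithfully (C_E(A) = 1). If n ≥ 1 is least with p dividing rⁿ − 1 (the smallest dimension of a faithful representation of a group of order p over the field with r elements), then the order of A is at least r^(n·p^w). -/
theorem result {G : Type*} [Group G] [Finite G] {p r : ℕ} [Fact p.Prime] [hr : Fact r.Prime] (hpr : p ≠ r) (E A : Subgroup G) (w : ℕ) (hE : Cfsg.IsExtraspecial p ↥E) (hEcard : Nat.card ↥E = p ^ (2 * w + 1)) (hA : Cfsg.IsElementaryAbelian r A) (hnorm : E ≤ Subgroup.normalizer (A : Set G)) (hfaith : E ⊓ Subgroup.centralizer (A : Set G) = ⊥) (n : ℕ) (hn : 1 ≤ n) (hdiv : p ∣ r ^ n - 1) (hmin : ∀ k : ℕ, 1 ≤ k → p ∣ r ^ k - 1 → n ≤ k) : r ^ (n * p ^ w) ≤ Nat.card ↥A := by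
  classical
  have hp : p.Prime := Fact.out
  letI : CommGroup ↥A := { mul_comm := hA.1.is_comm.comm }
  let V := Additive ↥A
  have hmem : ∀ e ∈ E, ∀ a ∈ A, e * a * e⁻¹ ∈ A := fun e he a ha =>
    (Subgroup.mem_normalizer_iff.1 (hnorm he) a).1 ha
  let act : ↥E → AddMonoid.End V := fun e => MonoidHom.toAdditive
    { toFun := fun a : ↥A => (⟨(e : G) * a * (e : G)⁻¹, hmem e e.2 a a.2⟩ : ↥A)
      map_one' := by apply Subtype.ext; simp
      map_mul' := fun a b => by apply Subtype.ext; simp [mul_assoc] }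
  have act_apply : ∀ (e : ↥E) (v : V),
      ((act e v).toMul : G) = (e : G) * (v.toMul : G) * (e : G)⁻¹ := fun e v => rfl
  have hext : ∀ v v' : V, ((v.toMul : ↥A) : G) = (v'.toMul : G) → v = v' := fun v v' h =>
    Additive.toMul.injective (Subtype.ext h)
  let ρ : ↥E →* AddMonoid.End V :=
    { toFun := act
      map_one' := by
        refine AddMonoidHom.ext fun v => ?_
        show act 1 v = v
        exact hext _ _ (by rw [act_apply]; simp)
      map_mul' := fun a b => by
        refine AddMonoidHom.ext fun v => ?_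
        show act (a * b) v = act a (act b v)
        exact hext _ _ (by rw [act_apply, act_apply, act_apply]; simp [mul_assoc]) }
  have hker : ∀ e : ↥E, (∀ v, ρ e v = v) → e = 1 := fun e he => by
    apply Subtype.ext
    have : (e : G) ∈ E ⊓ Subgroup.centralizer (A : Set G) := by
      refine ⟨e.2, Subgroup.mem_centralizer_iff.2 fun a ha => ?_⟩
      have h := congrArg (fun v : V => ((v.toMul : ↥A) : G)) (he (Additive.ofMul ⟨a, ha⟩))
      have h' : (e : G) * a * (e : G)⁻¹ = a := h
      exact (mul_inv_eq_iff_eq_mul.1 h').symm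
    rwa [hfaith, Subgroup.mem_bot] at this
  have hrv : ∀ v : V, r • v = 0 := fun v => hext _ _ (by
    show ((v.toMul ^ r : ↥A) : G) = 1
    rw [SubmonoidClass.coe_pow]; exact hA.2 _ v.toMul.2)
  obtain ⟨z, hz, hz1⟩ : ∃ z ∈ Subgroup.center ↥E, z ≠ 1 := by
    by_contra hcon
    push_neg at hcon
    have := Extraspecial.card_center hE
    rw [(Subgroup.eq_bot_iff_forall (Subgroup.center ↥E)).2 hcon, Subgroup.card_bot] at this
    exact hp.one_lt.ne this
  -- minimal invariant subgroup on which z acts non-trivially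
  let P : AddSubgroup V → Prop := fun W =>
    (∀ e : ↥E, ∀ v ∈ W, ρ e v ∈ W) ∧ ∃ v ∈ W, ρ z v ≠ v
  have htop : P ⊤ := ⟨fun _ _ _ => trivial, by
    by_contra h
    push_neg at h
    exact hz1 (hker z fun v => h v trivial)⟩
  obtain ⟨W, ⟨hWinv, hWne⟩, hWmin⟩ := (Set.toFinite {W | P W}).exists_minimal ⟨⊤, htop⟩
  have hsub : ∀ W' : AddSubgroup V, W' ≤ W → P W' → W' = W := fun W' hle hP =>
    le_antisymm hle (hWmin hP hle)
  have hzp : ∀ v, ρ (z ^ p) v = v := fun v => by
    rw [Extraspecial.pow_eq_one_of_mem_center hE hz, map_one]; rfl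
  let f : ↥W →+ V :=
    { toFun := fun v => ρ z v - v
      map_zero' := by simp
      map_add' := fun a b => by simp only [AddSubgroup.coe_add, map_add]; abel }
  have hfle : f.range ≤ W := by
    rintro _ ⟨v, rfl⟩
    exact sub_mem (hWinv z v v.2) v.2
  have hfinv : ∀ e : ↥E, ∀ v ∈ f.range, ρ e v ∈ f.range := by
    rintro e _ ⟨v, rfl⟩
    refine ⟨⟨ρ e v, hWinv e v v.2⟩, ?_⟩
    show ρ z (ρ e v) - ρ e v = ρ e (ρ z v - v)
    rw [map_sub]
    congr 1
    show (ρ z * ρ e) (v : V) = (ρ e * ρ z) (v : V)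
    rw [← map_mul, ← map_mul, Subgroup.mem_center_iff.1 hz e]
  have hfP : f.range = W := by
    refine hsub _ hfle ⟨hfinv, ?_⟩
    by_contra h
    push_neg at h
    obtain ⟨v, hv, hne⟩ := hWne
    apply hne
    set d := ρ z v - v with hd
    have hdfix : ρ z d = d := h d ⟨⟨v, hv⟩, rfl⟩
    have hpow : ∀ k : ℕ, ρ (z ^ k) v = v + k • d := by
      intro k
      induction k with
      | zero => simp
      | succ k ih =>
        rw [pow_succ', map_mul]
        show ρ z (ρ (z ^ k) v) = _
        rw [ih, map_add, map_nsmul, hdfix, succ_nsmul, hd]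
        abel
    have hpd : p • d = 0 := by
      have := hpow p
      rw [hzp v] at this
      exact add_left_cancel (a := v) (by rw [← this, add_zero])
    have h1 : addOrderOf d ∣ Nat.gcd p r :=
      Nat.dvd_gcd (addOrderOf_dvd_of_nsmul_eq_zero hpd) (addOrderOf_dvd_of_nsmul_eq_zero (hrv d))
    rw [(Nat.coprime_primes hp hr.out).2 hpr, Nat.dvd_one, AddMonoid.addOrderOf_eq_one_iff] at h1
    exact sub_eq_zero.1 h1
  have hfinj : ∀ v ∈ W, ρ z v = v → v = 0 := by
    intro v hv hfix
    let g : ↥W → ↥W := fun u => ⟨f u, hfle ⟨u, rfl⟩⟩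
    have hsurj : Function.Surjective g := fun u => by
      obtain ⟨u', hu'⟩ : (u : V) ∈ f.range := by rw [hfP]; exact u.2
      exact ⟨u', Subtype.ext hu'⟩
    have hin := Finite.injective_iff_surjective.2 hsurj
    have := @hin ⟨v, hv⟩ 0 (Subtype.ext (by
      show ρ z v - v = f 0
      rw [map_zero, hfix, sub_self]))
    exact congrArg Subtype.val this
  let σ : ↥E →* AddMonoid.End ↥W :=
    { toFun := fun e =>
        { toFun := fun v => (⟨ρ e v, hWinv e v v.2⟩ : ↥W)
          map_zero' := Subtype.ext (map_zero _)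
          map_add' := fun a b => Subtype.ext (map_add _ _ _) }
      map_one' := by
        refine AddMonoidHom.ext fun v => Subtype.ext ?_
        show ρ 1 (v : V) = v
        rw [map_one]; rfl
      map_mul' := fun a b => by
        refine AddMonoidHom.ext fun v => Subtype.ext ?_
        show ρ (a * b) (v : V) = ρ a (ρ b v)
        rw [map_mul]; rfl }
  have hσz : σ z ≠ 1 := fun h => by
    obtain ⟨v, hv, hne⟩ := hWne
    exact hne (show ((σ z ⟨v, hv⟩ : ↥W) : V) = v by rw [h]; rfl)
  have : Nontrivial ↥W := by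
    obtain ⟨v, hv, hne⟩ := hWne
    exact ⟨⟨v, hv⟩, 0, fun h => hne (by rw [show v = 0 from congrArg Subtype.val h, map_zero])⟩
  have hsimple : ∀ W' : AddSubgroup ↥W, (∀ e : ↥E, ∀ v ∈ W', σ e v ∈ W') → W' = ⊥ ∨ W' = ⊤ := by
    intro W' hinv
    by_cases h0 : W' = ⊥
    · exact Or.inl h0
    refine Or.inr ?_
    have hle : W'.map W.subtype ≤ W := by rintro _ ⟨v, -, rfl⟩; exact v.2
    have hP : P (W'.map W.subtype) := by
      refine ⟨?_, ?_⟩
      · rintro e _ ⟨v, hv, rfl⟩
        exact ⟨σ e v, hinv e v hv, rfl⟩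
      · by_contra h
        push_neg at h
        apply h0
        rw [AddSubgroup.eq_bot_iff_forall]
        intro v hv
        exact Subtype.ext (hfinj v v.2 (h v ⟨v, hv, rfl⟩))
    rw [eq_top_iff]
    intro v _
    have : (v : V) ∈ W'.map W.subtype := by rw [hsub _ hle hP]; exact v.2
    obtain ⟨v', hv', he⟩ := this
    rwa [← Subtype.ext he]
  have hb := core_simple (U := ↥W) hE w hEcard (fun v => Subtype.ext (hrv v)) σ z hz hσz hsimple n hmin
  exact hb.trans ((Nat.card_le_card_of_injective _ W.subtype_injective).trans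
    (le_of_eq (Nat.card_congr Additive.toMul)))

end Cfsg.Agent.S2912
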