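import Cfsg.Statements.S2922
import Cfsg.Agent.Lib.CharP.Fitting
import Cfsg.Agent.Lib.Coprime.Quotient

set_option autoImplicit false
open Cfsg

namespace Cfsg.Agent.S2922

/-- Let p be a prime, X a finite group, B a p-subgroup of X and C a normal subgroup of B. If N_X(C) has characteristic p (its generalized Fitting subgroup is O_p(N_X(C))), then N_X(B) and C_X(B) have characteristic p. -/
theorem result {X : Type*} [Group X] [Finite X] {p : ℕ} [Fact p.Prime] (B C : Subgroup X) (hB : IsPGroup p ↥B) (hCB : C ≤ B) (hCn : (C.subgroupOf B).Normal) (hC : Cfsg.generalizedFittingSubgroup ↥(Subgroup.normalizer (C : Set X)) = Cfsg.pCore p ↥(Subgroup.normalizer (C : Set X))) : Cfsg.generalizedFittingSubgroup ↥(Subgroup.normalizer (B : Set X)) = Cfsg.pCore p ↥(Subgroup.normalizer (B : Set X)) ∧ Cfsg.generalizedFittingSubgroup ↥(Subgroup.centralizer (B : Set X)) = Cfsg.pCore p ↥(Subgroup.centralizer (B : Set X)) := by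
  set N := Subgroup.normalizer (C : Set X) with hN
  have hN' := Cfsg.Agent.Lib.CharP.generalizedFittingSubgroup_eq_pCore_iff.mp hC
  have hBN : B ≤ N := (Subgroup.normal_subgroupOf_iff_le_normalizer hCB).mp hCn
  have hCBN : Subgroup.centralizer (B : Set X) ≤ N :=
    (Subgroup.centralizer_le hCB).trans (Subgroup.centralizer_le_normalizer _)
  have hK := Cfsg.Agent.Lib.CharP.centralizer_pCore_inf_normalizer_le hBN hB hN'
  have hCle : Subgroup.centralizer (B : Set X) ≤ N ⊓ Subgroup.normalizer (B : Set X) :=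
    le_inf hCBN (Subgroup.centralizer_le_normalizer _)
  have hCX : Subgroup.centralizer (Cfsg.pCore p ↥(Subgroup.centralizer (B : Set X)) : Set _) ≤
      Cfsg.pCore p ↥(Subgroup.centralizer (B : Set X)) :=
    Cfsg.Agent.Lib.CharP.centralizer_pCore_le_of_normalized hCle
      ((Cfsg.Agent.Lib.CharP.pCoreOf_le _).trans (inf_le_right.trans
        (Cfsg.Agent.Lib.CharP.le_normalizer_centralizer le_rfl))) hK
  refine ⟨Cfsg.Agent.Lib.CharP.generalizedFittingSubgroup_eq_pCore ?_,
    Cfsg.Agent.Lib.CharP.generalizedFittingSubgroup_eq_pCore hCX⟩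
  refine Cfsg.Agent.Lib.CharP.centralizer_pCore_le_of_forall fun x hx hxp hxc => ?_
  have hBc : B ≤ Cfsg.pCoreOf p (Subgroup.normalizer (B : Set X)) :=
    Cfsg.Agent.Lib.CharP.le_pCoreOf Subgroup.le_normalizer hB le_rfl
  refine Cfsg.Agent.Lib.CharP.eq_one_of_centralizes_pCoreOf hCX
    (Subgroup.centralizer_le hBc hxc) hxp (Subgroup.centralizer_le ?_ hxc)
  refine Cfsg.Agent.Lib.CharP.le_pCoreOf
    ((Cfsg.Agent.Lib.CharP.pCoreOf_le _).trans (Subgroup.centralizer_le_normalizer _))
    (Cfsg.Agent.Lib.CharP.pCoreOf_isPGroup _) ?_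
  set D := Subgroup.centralizer (B : Set X) with hD
  have hDn : Subgroup.normalizer (B : Set X) ≤ Subgroup.normalizer (D : Set X) :=
    Cfsg.Agent.Lib.CharP.le_normalizer_centralizer le_rfl
  have := Cfsg.Agent.Lib.PSolvable.pCore_characteristic (p := p) (G := D)
  exact hDn.trans (Cfsg.Agent.Lib.Coprime.normalizer_le_normalizer_map_of_characteristic
    (Cfsg.pCore p D))

end Cfsg.Agent.S2922
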