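import Cfsg.Statements.S2924
import Cfsg.Agent.Lib.CharP.Basic
import Cfsg.Agent.Lib.Components.GenFitting

set_option autoImplicit false
open Cfsg

namespace Cfsg.Agent.S2924

open Subgroup

section

variable {X : Type*} [Group X] [Finite X]

theorem fpf_inverts {V : Subgroup X} {z : X} (hz2 : z * z = 1)
    (hn : ∀ v ∈ V, z * v * z⁻¹ ∈ V) (hfix : ∀ v ∈ V, z * v * z⁻¹ = v → v = 1) :
    ∀ v ∈ V, z * v * z⁻¹ = v⁻¹ := by
  intro v hv
  let f : V → V := fun n => n⁻¹ * ⟨z * n * z⁻¹, hn n n.2⟩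
  have hinj : Function.Injective f := by
    intro a b hab
    have h1 : (a : X)⁻¹ * (z * a * z⁻¹) = (b : X)⁻¹ * (z * b * z⁻¹) := congrArg Subtype.val hab
    have h2 : z * ((b : X) * (a : X)⁻¹) * z⁻¹ = (b : X) * (a : X)⁻¹ :=
      calc z * ((b : X) * (a : X)⁻¹) * z⁻¹
          = b * ((b : X)⁻¹ * (z * b * z⁻¹)) * (z * a * z⁻¹)⁻¹ := by group
        _ = b * ((a : X)⁻¹ * (z * a * z⁻¹)) * (z * a * z⁻¹)⁻¹ := by rw [h1]
        _ = b * (a : X)⁻¹ := by group
    exact (Subtype.ext (mul_inv_eq_one.mp (hfix _ (mul_mem b.2 (inv_mem a.2)) h2))).symm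
  obtain ⟨n, hn'⟩ := Finite.surjective_of_injective hinj ⟨v, hv⟩
  have hv' : v = (n : X)⁻¹ * (z * n * z⁻¹) := (congrArg Subtype.val hn').symm
  have hzi : z⁻¹ = z := inv_eq_of_mul_eq_one_right hz2
  subst hv'
  rw [hzi]
  calc z * ((n : X)⁻¹ * (z * n * z)) * z
      = z * (n : X)⁻¹ * z * n * (z * z) := by group
    _ = z * (n : X)⁻¹ * z * n := by rw [hz2, mul_one]
    _ = ((n : X)⁻¹ * (z * n * z))⁻¹ := by
      rw [mul_inv_rev, mul_inv_rev, mul_inv_rev, hzi, inv_inv]; group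

/-- The core of the centralizer of `y`, as a subgroup of the ambient group. -/
noncomputable def core (y : X) : Subgroup X :=
  (Cfsg.oddCore ↥(centralizer ({y} : Set X))).map (centralizer ({y} : Set X)).subtype

theorem core_le (y : X) : core y ≤ centralizer ({y} : Set X) := map_subtype_le _

theorem core_coprime (y : X) : (Nat.card (core y)).Coprime 2 := by
  unfold core
  rw [card_map_of_injective (subtype_injective _)]
  exact Lib.PSolvable.pPrimeCore_coprime

theorem le_normalizer_core (y : X) :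
    centralizer ({y} : Set X) ≤ normalizer (core y : Set X) := by
  refine le_trans ?_ (le_normalizer_map (H := Cfsg.oddCore ↥(centralizer ({y} : Set X))) _)
  rw [normalizer_eq_top, ← MonoidHom.range_eq_map, range_subtype]

theorem le_core {y : X} {N : Subgroup X} (hN : N ≤ centralizer ({y} : Set X))
    (hc : (Nat.card N).Coprime 2) (hn : centralizer ({y} : Set X) ≤ normalizer (N : Set X)) :
    N ≤ core y := by
  intro x hx
  refine ⟨⟨x, hN hx⟩, Lib.PSolvable.le_pPrimeCore (N := N.subgroupOf _)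
    (hN := (normal_subgroupOf_iff_le_normalizer hN).mpr hn) ?_ hx, rfl⟩
  rwa [Nat.card_congr (subgroupOfEquivOfLe hN).toEquiv]

theorem conj_mem_core {y : X} {g x : X} (hg : g ∈ centralizer ({y} : Set X)) (hx : x ∈ core y) :
    g * x * g⁻¹ ∈ core y :=
  (mem_normalizer_iff.mp (le_normalizer_core y hg) x).mp hx

theorem odd_orderOf_of_mem_core {y x : X} (hx : x ∈ core y) : (orderOf x).Coprime 2 :=
  (core_coprime y).coprime_dvd_left ((core y).orderOf_dvd_natCard hx)

/-- An element of `C(a) ⊓ C(b)` in the core of `C(a)` centralizes `O_2(C(b))`. -/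
theorem centralizes_pCore {a b : X} (ha2 : a * a = 1) (hab : Commute a b) {d : X}
    (hd : d ∈ core a) (hdb : d ∈ centralizer ({b} : Set X)) :
    ∀ r ∈ Cfsg.pCoreOf 2 (centralizer ({b} : Set X)), Commute r d := by
  set H := centralizer ({b} : Set X) with hH
  set R := Cfsg.pCoreOf 2 H with hR
  have hRn : H ≤ normalizer (R : Set X) := Lib.CharP.le_normalizer_pCoreOf H
  have hR2 : IsPGroup 2 R := Lib.CharP.pCoreOf_isPGroup H
  set D := core a ⊓ H with hD
  have hDn : R ⊓ centralizer ({a} : Set X) ≤ normalizer (D : Set X) := fun g hg =>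
    inf_normalizer_le_normalizer_inf
      ⟨le_normalizer_core a hg.2, le_normalizer (Lib.CharP.pCoreOf_le H hg.1)⟩
  have hQn : D ≤ normalizer ((R ⊓ centralizer ({a} : Set X) : Subgroup X) : Set X) := fun g hg =>
    inf_normalizer_le_normalizer_inf ⟨hRn hg.2, le_normalizer (core_le a hg.1)⟩
  have haH : a ∈ H := mem_centralizer_singleton_iff.mpr hab.eq
  have hC : R ⊓ centralizer (zpowers a : Set X) ≤ centralizer (D : Set X) := by
    refine le_trans (inf_le_inf_left R (centralizer_le (Set.singleton_subset_iff.mpr (mem_zpowers a)))) ?_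
    rw [← commutator_eq_bot_iff_le_centralizer, eq_bot_iff]
    refine le_trans (le_inf (Lib.Coprime.commutator_le_of_le_normalizer hQn)
      ((commutator_comm _ D).le.trans (Lib.Coprime.commutator_le_of_le_normalizer hDn))) ?_
    exact (Lib.PSolvable.inf_eq_bot_of_isPGroup_of_coprime (p := 2) (hR2.to_le inf_le_left)
      (Lib.PSolvable.coprime_of_le inf_le_left (core_coprime a))).le
  intro r hr
  have ha2' : a ^ 2 = 1 := by rw [pow_two, ha2]
  refine mem_centralizer_iff.mp (Lib.Coprime.thompson_PxQ (p := 2) (U := R) (P := zpowers a)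
    (Q := D) ?_ (Lib.PSolvable.coprime_of_le inf_le_left (core_coprime a)) hR2 ?_ ?_ ?_ hC
    ⟨hd, hdb⟩) r hr
  · have : Fact (Nat.Prime 2) := ⟨Nat.prime_two⟩
    obtain ⟨k, -, hk⟩ := (Nat.dvd_prime_pow Nat.prime_two (m := 1)).mp
      (by simpa using orderOf_dvd_of_pow_eq_one ha2')
    exact IsPGroup.of_card (n := k) (by rw [Nat.card_zpowers, hk])
  · rw [zpowers_le, mem_centralizer_iff]
    exact fun x hx => mem_centralizer_singleton_iff.mp (core_le a hx.1)
  · exact zpowers_le.mpr (hRn haH)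
  · exact inf_le_right.trans hRn

variable {Y : Subgroup X}

theorem core_inf_eq (hY : ∀ y ∈ Y, y * y = 1) (hYc : ∀ y ∈ Y, ∀ y' ∈ Y, Commute y y') {z : X}
    (hzY : z ∈ Y)
    (hz : Cfsg.generalizedFittingSubgroup ↥(centralizer ({z} : Set X)) =
      Cfsg.pCore 2 ↥(centralizer ({z} : Set X))) {y : X} (hy : y ∈ Y) {x : X}
    (hx : x ∈ core y) (hxz : x ∈ centralizer ({z} : Set X)) : x = 1 := by
  have h := centralizes_pCore (hY y hy) (hYc y hy z hzY) hx hxz
  have hC : centralizer (Cfsg.pCore 2 ↥(centralizer ({z} : Set X)) : Set _) ≤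
      Cfsg.pCore 2 ↥(centralizer ({z} : Set X)) := by
    rw [← hz]; exact Lib.Components.centralizer_generalizedFittingSubgroup_le
  exact Lib.CharP.eq_one_of_centralizes_pCoreOf hC hxz (odd_orderOf_of_mem_core hx)
    (mem_centralizer_iff.mpr fun r hr => h r hr)

/-- Balance. -/
theorem core_balance (hY : ∀ y ∈ Y, y * y = 1) (hYc : ∀ y ∈ Y, ∀ y' ∈ Y, Commute y y') {z : X}
    (hinv : ∀ y ∈ Y, y ≠ 1 → ∀ v ∈ core y, z * v * z⁻¹ = v⁻¹)
    (hE : ∀ x ∈ Y, x ≠ 1 → Cfsg.layer ↥(centralizer ({x} : Set X)) = ⊥)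
    {a b : X} (ha : a ∈ Y) (ha1 : a ≠ 1) (hb : b ∈ Y) (hb1 : b ≠ 1)
    {d : X} (hd : d ∈ core a) (hdb : d ∈ centralizer ({b} : Set X)) : d ∈ core b := by
  set H := centralizer ({b} : Set X) with hH
  have hR := centralizes_pCore (hY a ha) (hYc a ha b hb) hd hdb
  have hO : ∀ f ∈ core b, Commute f d := by
    intro f hf
    have hf' := conj_mem_core hdb hf
    have h1 := hinv b hb hb1 _ hf'
    have h2 := hinv b hb hb1 f hf
    have h3 := hinv a ha ha1 d hd
    have h4 : d⁻¹ * f⁻¹ * d = d * f⁻¹ * d⁻¹ := by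
      calc d⁻¹ * f⁻¹ * d = (z * d * z⁻¹) * (z * f * z⁻¹) * (z * d * z⁻¹)⁻¹ := by
            rw [h3, h2, inv_inv]
        _ = z * (d * f * d⁻¹) * z⁻¹ := by group
        _ = d * f⁻¹ * d⁻¹ := by rw [h1]; simp [mul_assoc]
    have h5 : Commute (d ^ 2) f⁻¹ := by
      show d ^ 2 * f⁻¹ = f⁻¹ * d ^ 2
      rw [pow_two]
      calc d * d * f⁻¹ = d * (d * f⁻¹ * d⁻¹) * d := by group
        _ = d * (d⁻¹ * f⁻¹ * d) * d := by rw [h4]
        _ = f⁻¹ * (d * d) := by group
    obtain ⟨m, hm⟩ := exists_pow_eq_self_of_coprime (n := 2) (x := d) (odd_orderOf_of_mem_core hd).symm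
    rw [← hm]
    exact (Commute.inv_right_iff.mp (h5.pow_left m)).symm
  set A := centralizer (Cfsg.generalizedFittingSubgroup H : Set H) with hA
  have hAF : A ≤ Cfsg.generalizedFittingSubgroup H :=
    Lib.Components.centralizer_generalizedFittingSubgroup_le
  have hAn : A.Normal := by
    have := Lib.Components.generalizedFittingSubgroup_normal (G := H)
    infer_instance
  have hAc : ∀ u ∈ A, ∀ v ∈ A, Commute u v := fun u hu v hv =>
    mem_centralizer_iff.mp hv u (hAF hu)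
  have hdA : (⟨d, hdb⟩ : H) ∈ A := by
    have hFeq : Cfsg.generalizedFittingSubgroup H = Cfsg.fittingSubgroup H := by
      unfold Cfsg.generalizedFittingSubgroup
      rw [hE b hb hb1, bot_sup_eq]
    suffices h : Cfsg.fittingSubgroup H ≤ centralizer ({⟨d, hdb⟩} : Set H) by
      rw [hA, hFeq, mem_centralizer_iff]
      exact fun x hx => mem_centralizer_singleton_iff.mp (h hx)
    rw [Lib.Components.fittingSubgroup_eq_iSup_pCore]
    refine iSup_le fun q r hr => mem_centralizer_singleton_iff.mpr (Subtype.ext ?_)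
    by_cases hq : (q : ℕ) = 2
    · rw [hq] at hr
      exact (hR r ⟨r, hr, rfl⟩).eq
    · have : Fact (Nat.Prime (q : ℕ)) := ⟨Nat.prime_of_mem_primeFactors q.2⟩
      have : Fact (Nat.Prime 2) := ⟨Nat.prime_two⟩
      have hrO : r ∈ Cfsg.pPrimeCore 2 H := by
        refine Lib.PSolvable.le_pPrimeCore (N := Cfsg.pCore (q : ℕ) H) ?_ hr
        obtain ⟨k, hk⟩ := IsPGroup.iff_card.mp (Lib.PSolvable.pCore_isPGroup (G := H) (p := (q : ℕ)))
        rw [hk]
        exact ((Nat.coprime_primes Fact.out Fact.out).mpr hq).pow_left k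
      exact (hO r ⟨r, hrO, rfl⟩).eq
  let N : Subgroup H :=
    { carrier := {u | u ∈ A ∧ (orderOf u).Coprime 2}
      one_mem' := ⟨one_mem A, by simp⟩
      mul_mem' := fun {u v} hu hv => ⟨mul_mem hu.1 hv.1,
        (hu.2.mul_left hv.2).coprime_dvd_left
          ((hAc u hu.1 v hv.1).orderOf_mul_dvd_mul_orderOf)⟩
      inv_mem' := fun {u} hu => ⟨inv_mem hu.1, by rw [orderOf_inv]; exact hu.2⟩ }
  have hN : N.Normal := ⟨fun u hu g => ⟨hAn.conj_mem u hu.1 g, by
    rw [show orderOf (g * u * g⁻¹) = orderOf u from (MulAut.conj g).orderOf_eq u]; exact hu.2⟩⟩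
  have hNcard : (Nat.card N).Coprime 2 := by
    rw [Nat.coprime_comm, Nat.prime_two.coprime_iff_not_dvd]
    intro h
    obtain ⟨u, hu⟩ := exists_prime_orderOf_dvd_card' (G := N) 2 h
    have := u.2.2
    rw [Subgroup.orderOf_coe, hu] at this
    norm_num at this
  exact ⟨⟨d, hdb⟩, Lib.PSolvable.le_pPrimeCore (hN := hN) hNcard
    ⟨hdA, by rw [← Subgroup.orderOf_coe]; exact odd_orderOf_of_mem_core hd⟩, rfl⟩


end

/-- Let X be a finite group and Y an elementary abelian 2-subgroup of X of order at least 8 such that C_X(x) has no components (E(C_X(x)) = 1) for every nontrivial x ∈ Y, and F*(C_X(z)) = O₂(C_X(z)) for some nontrivial z ∈ Y. Then the subgroup generated by the cores O(C_X(y)), y ∈ Y nontrivial, has odd order and is normalized by N_X(Y). -/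
theorem result {X : Type*} [Group X] [Finite X] (Y : Subgroup X) (hY : Cfsg.IsElementaryAbelian 2 Y) (h8 : 8 ≤ Nat.card ↥Y) (hE : ∀ x ∈ Y, x ≠ 1 → Cfsg.layer ↥(Subgroup.centralizer ({x} : Set X)) = ⊥) (hz : ∃ z ∈ Y, z ≠ 1 ∧ Cfsg.generalizedFittingSubgroup ↥(Subgroup.centralizer ({z} : Set X)) = Cfsg.pCore 2 ↥(Subgroup.centralizer ({z} : Set X))) : Odd (Nat.card ↥(⨆ y : {y : X // y ∈ Y ∧ y ≠ 1}, (Cfsg.oddCore ↥(Subgroup.centralizer ({(y : X)} : Set X))).map (Subgroup.centralizer ({(y : X)} : Set X)).subtype)) ∧ Subgroup.normalizer (Y : Set X) ≤ Subgroup.normalizer ((⨆ y : {y : X // y ∈ Y ∧ y ≠ 1}, (Cfsg.oddCore ↥(Subgroup.centralizer ({(y : X)} : Set X))).map (Subgroup.centralizer ({(y : X)} : Set X)).subtype : Subgroup X) : Set X) := by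
  classical
  have hY2 : ∀ y ∈ Y, y * y = 1 := fun y hy => by rw [← pow_two]; exact hY.2 y hy
  have hYinv : ∀ y ∈ Y, y⁻¹ = y := fun y hy => inv_eq_of_mul_eq_one_right (hY2 y hy)
  have hYc : ∀ y ∈ Y, ∀ y' ∈ Y, Commute y y' := fun y hy y' hy' =>
    congrArg Subtype.val (hY.1.is_comm.comm ⟨y, hy⟩ ⟨y', hy'⟩)
  obtain ⟨z, hzY, hz1, hz⟩ := hz
  have hYC : ∀ y ∈ Y, ∀ y' ∈ Y, y' ∈ Subgroup.centralizer ({y} : Set X) := fun y hy y' hy' =>
    Subgroup.mem_centralizer_singleton_iff.mpr (hYc y' hy' y hy).eq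
  have hinv : ∀ y ∈ Y, y ≠ 1 → ∀ v ∈ core y, z * v * z⁻¹ = v⁻¹ := fun y hy _ =>
    fpf_inverts (hY2 z hzY) (fun v hv => conj_mem_core (hYC y hy z hzY) hv)
      fun v hv h => core_inf_eq hY2 hYc hzY hz hy hv
        (Subgroup.mem_centralizer_singleton_iff.mpr (mul_inv_eq_iff_eq_mul.mp h).symm)
  have hab : ∀ y ∈ Y, y ≠ 1 → ∀ u ∈ core y, ∀ v ∈ core y, Commute u v := by
    intro y hy hy1 u hu v hv
    have h1 := hinv y hy hy1 _ (mul_mem hu hv)
    have h2 : z * (u * v) * z⁻¹ = (z * u * z⁻¹) * (z * v * z⁻¹) := by group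
    rw [h2, hinv y hy hy1 u hu, hinv y hy hy1 v hv, ← mul_inv_rev, inv_inj] at h1
    exact h1.symm
  -- elements inverted or fixed by each element of `Y`
  let S : Set X := {w | ∃ a ∈ Y, a ≠ 1 ∧ w ∈ core a ∧ ∀ y ∈ Y, y * w * y⁻¹ = w ∨ y * w * y⁻¹ = w⁻¹}
  have hgen : ∀ l : List X, (∀ y ∈ l, y ∈ Y) → ∀ a ∈ Y, a ≠ 1 → core a ≤ Subgroup.closure
      {w | w ∈ core a ∧ ∀ y ∈ l, y * w * y⁻¹ = w ∨ y * w * y⁻¹ = w⁻¹} := by
    intro l
    induction l with
    | nil => intro _ a _ _ x hx; exact Subgroup.subset_closure ⟨hx, by simp⟩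
    | cons y l ih =>
      intro hl a ha ha1
      have hyY : y ∈ Y := hl y (by simp)
      have hyC := hYC a ha y hyY
      refine (ih (fun y' h => hl y' (by simp [h])) a ha ha1).trans ?_
      rw [Subgroup.closure_le]
      rintro w ⟨hw, hwl⟩
      set w' := y * w * y⁻¹ with hw'
      have hw'm : w' ∈ core a := conj_mem_core hyC hw
      have hyw' : y * w' * y⁻¹ = w := by
        rw [hw', hYinv y hyY]
        simp [← mul_assoc, hY2 y hyY]
        simp [mul_assoc, hY2 y hyY]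
      have hcomm : Commute w w' := hab a ha ha1 w hw w' hw'm
      have hstab : ∀ y' ∈ l, (y' * (w * w') * y'⁻¹ = w * w' ∨ y' * (w * w') * y'⁻¹ = (w * w')⁻¹) ∧
          (y' * (w * w'⁻¹) * y'⁻¹ = w * w'⁻¹ ∨ y' * (w * w'⁻¹) * y'⁻¹ = (w * w'⁻¹)⁻¹) := by
        intro y' hy'
        have hc : y' * y = y * y' := (hYc y' (hl y' (by simp [hy'])) y hyY).eq
        have e : y' * w' * y'⁻¹ = y * (y' * w * y'⁻¹) * y⁻¹ := by
          calc y' * w' * y'⁻¹ = (y' * y) * w * (y' * y)⁻¹ := by rw [hw']; group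
            _ = (y * y') * w * (y * y')⁻¹ := by rw [hc]
            _ = y * (y' * w * y'⁻¹) * y⁻¹ := by group
        have e1 : y' * (w * w') * y'⁻¹ = (y' * w * y'⁻¹) * (y' * w' * y'⁻¹) := by group
        have e2 : y' * (w * w'⁻¹) * y'⁻¹ = (y' * w * y'⁻¹) * (y' * w' * y'⁻¹)⁻¹ := by group
        rcases hwl y' hy' with h | h
        · rw [e1, e2, e, h]; exact ⟨Or.inl rfl, Or.inl rfl⟩
        · rw [h] at e
          have e' : y * w⁻¹ * y⁻¹ = w'⁻¹ := by rw [hw']; group
          rw [e'] at e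
          rw [e1, e2, e, h]
          refine ⟨Or.inr ?_, Or.inr ?_⟩
          · rw [← hcomm.inv_inv.eq.symm]; group
          · rw [inv_inv, mul_inv_rev, inv_inv]; exact (hcomm.inv_left).eq
      have hp : w * w' ∈ Subgroup.closure
          {w | w ∈ core a ∧ ∀ y_1 ∈ y :: l, y_1 * w * y_1⁻¹ = w ∨ y_1 * w * y_1⁻¹ = w⁻¹} := by
        refine Subgroup.subset_closure ⟨mul_mem hw hw'm, fun y' hy' => ?_⟩
        rcases List.mem_cons.mp hy' with rfl | h
        · left
          calc y' * (w * w') * y'⁻¹ = w' * (y' * w' * y'⁻¹) := by rw [hw']; group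
            _ = w' * w := by rw [hyw']
            _ = w * w' := hcomm.symm.eq
        · exact (hstab y' h).1
      have hm : w * w'⁻¹ ∈ Subgroup.closure
          {w | w ∈ core a ∧ ∀ y_1 ∈ y :: l, y_1 * w * y_1⁻¹ = w ∨ y_1 * w * y_1⁻¹ = w⁻¹} := by
        refine Subgroup.subset_closure ⟨mul_mem hw (inv_mem hw'm), fun y' hy' => ?_⟩
        rcases List.mem_cons.mp hy' with rfl | h
        · right
          calc y' * (w * w'⁻¹) * y'⁻¹ = w' * (y' * w' * y'⁻¹)⁻¹ := by rw [hw']; group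
            _ = (w * w'⁻¹)⁻¹ := by rw [hyw']; simp
        · exact (hstab y' h).2
      have hsq : w ^ 2 = (w * w') * (w * w'⁻¹) := by
        calc w ^ 2 = (w * w) * (w' * w'⁻¹) := by rw [mul_inv_cancel, mul_one, pow_two]
          _ = w * (w * w') * w'⁻¹ := by group
          _ = w * (w' * w) * w'⁻¹ := by rw [hcomm.eq]
          _ = (w * w') * (w * w'⁻¹) := by group
      obtain ⟨m, hm'⟩ := exists_pow_eq_self_of_coprime (n := 2) (x := w)
        (odd_orderOf_of_mem_core hw).symm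
      rw [SetLike.mem_coe, ← hm', hsq]
      exact pow_mem (mul_mem hp hm) m
  have hcard4 : ∀ w ∈ S, ∀ u ∈ S, ∃ y ∈ Y, y ≠ 1 ∧ y * w * y⁻¹ = w ∧ y * u * y⁻¹ = u := by
    rintro w ⟨a, -, -, -, hw⟩ u ⟨b, -, -, -, hu⟩
    let f : Y → Bool × Bool := fun y =>
      (decide ((y : X) * w * (y : X)⁻¹ = w), decide ((y : X) * u * (y : X)⁻¹ = u))
    have hlt : Nat.card (Bool × Bool) < Nat.card Y := by
      simp only [Nat.card_eq_fintype_card, Fintype.card_prod, Fintype.card_bool] at *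
      omega
    have hni : ¬ Function.Injective f := fun h => absurd (Nat.card_le_card_of_injective f h) (not_le.mpr hlt)
    simp only [Function.Injective, not_forall] at hni
    obtain ⟨y₁, y₂, hf, hne⟩ := hni
    refine ⟨(y₁ * y₂ : Y), (y₁ * y₂).2, ?_, ?_, ?_⟩
    · intro h
      refine hne (Subtype.ext ?_)
      rw [mul_eq_one_iff_eq_inv.mp h, hYinv _ y₂.2]
    all_goals simp only [Subgroup.coe_mul, mul_inv_rev]
    · have hb := (Prod.ext_iff.mp hf).1
      simp only [f, decide_eq_decide] at hb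
      by_cases h : (y₂ : X) * w * (y₂ : X)⁻¹ = w
      · calc (y₁ : X) * y₂ * w * ((y₂ : X)⁻¹ * (y₁ : X)⁻¹)
            = y₁ * (y₂ * w * (y₂ : X)⁻¹) * (y₁ : X)⁻¹ := by group
          _ = w := by rw [h]; exact hb.mpr h
      · have h2 := (hw y₂ y₂.2).resolve_left h
        have h1 := (hw y₁ y₁.2).resolve_left (fun h' => h (hb.mp h'))
        calc (y₁ : X) * y₂ * w * ((y₂ : X)⁻¹ * (y₁ : X)⁻¹)
            = y₁ * (y₂ * w * (y₂ : X)⁻¹) * (y₁ : X)⁻¹ := by group
          _ = ((y₁ : X) * w * (y₁ : X)⁻¹)⁻¹ := by rw [h2]; group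
          _ = w := by rw [h1, inv_inv]
    · have hb := (Prod.ext_iff.mp hf).2
      simp only [f, decide_eq_decide] at hb
      by_cases h : (y₂ : X) * u * (y₂ : X)⁻¹ = u
      · calc (y₁ : X) * y₂ * u * ((y₂ : X)⁻¹ * (y₁ : X)⁻¹)
            = y₁ * (y₂ * u * (y₂ : X)⁻¹) * (y₁ : X)⁻¹ := by group
          _ = u := by rw [h]; exact hb.mpr h
      · have h2 := (hu y₂ y₂.2).resolve_left h
        have h1 := (hu y₁ y₁.2).resolve_left (fun h' => h (hb.mp h'))
        calc (y₁ : X) * y₂ * u * ((y₂ : X)⁻¹ * (y₁ : X)⁻¹)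
            = y₁ * (y₂ * u * (y₂ : X)⁻¹) * (y₁ : X)⁻¹ := by group
          _ = ((y₁ : X) * u * (y₁ : X)⁻¹)⁻¹ := by rw [h2]; group
          _ = u := by rw [h1, inv_inv]
  have hSc : ∀ w ∈ S, ∀ u ∈ S, Commute w u := by
    intro w hw u hu
    obtain ⟨y, hyY, hy1, hyw, hyu⟩ := hcard4 w hw u hu
    obtain ⟨a, haY, ha1, hwa, -⟩ := hw
    obtain ⟨b, hbY, hb1, hub, -⟩ := hu
    exact hab y hyY hy1 w
      (core_balance hY2 hYc hinv hE haY ha1 hyY hy1 hwa
        (Subgroup.mem_centralizer_singleton_iff.mpr (mul_inv_eq_iff_eq_mul.mp hyw).symm)) u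
      (core_balance hY2 hYc hinv hE hbY hb1 hyY hy1 hub
        (Subgroup.mem_centralizer_singleton_iff.mpr (mul_inv_eq_iff_eq_mul.mp hyu).symm))
  set W := ⨆ y : {y : X // y ∈ Y ∧ y ≠ 1}, core (y : X) with hWdef
  show Odd (Nat.card W) ∧ Subgroup.normalizer (Y : Set X) ≤ Subgroup.normalizer (W : Set X)
  have hWS : W ≤ Subgroup.closure S := iSup_le fun y => by
    refine (hgen ((Set.toFinite (Y : Set X)).toFinset.toList) (fun a ha => by simpa using ha) y
      y.2.1 y.2.2).trans (Subgroup.closure_mono ?_)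
    rintro w ⟨hw, hwl⟩
    exact ⟨y, y.2.1, y.2.2, hw, fun a ha => hwl a (by simpa using ha)⟩
  refine ⟨?_, ?_⟩
  · have hcl : IsMulCommutative (Subgroup.closure S) := Subgroup.isMulCommutative_closure
      (fun w hw u hu => (hSc w hw u hu).eq)
    have hord : ∀ x ∈ Subgroup.closure S, (orderOf x).Coprime 2 := by
      intro x hx
      induction hx using Subgroup.closure_induction with
      | mem x hx => obtain ⟨a, -, -, hxa, -⟩ := hx; exact odd_orderOf_of_mem_core hxa
      | one => simp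
      | mul x y hx hy ihx ihy =>
        exact (ihx.mul_left ihy).coprime_dvd_left (Commute.orderOf_mul_dvd_mul_orderOf
          (congrArg Subtype.val (hcl.is_comm.comm ⟨x, hx⟩ ⟨y, hy⟩)))
      | inv x _ ih => rwa [orderOf_inv]
    rw [← Nat.not_even_iff_odd, even_iff_two_dvd]
    intro h
    have : Fact (Nat.Prime 2) := ⟨Nat.prime_two⟩
    obtain ⟨u, hu⟩ := exists_prime_orderOf_dvd_card' (G := W) 2 h
    have h2 := hord u (hWS u.2)
    rw [Subgroup.orderOf_coe, hu] at h2
    norm_num at h2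
  · have key : ∀ n ∈ Subgroup.normalizer (Y : Set X), W.map (MulAut.conj n).toMonoidHom ≤ W := by
      intro n hn
      rw [hWdef, Subgroup.map_iSup]
      refine iSup_le fun y => ?_
      have hy' : n * (y : X) * n⁻¹ ∈ Y := (Subgroup.mem_normalizer_iff.mp hn _).mp y.2.1
      refine le_trans ?_ (le_iSup (fun y : {y : X // y ∈ Y ∧ y ≠ 1} => core (y : X))
        ⟨n * (y : X) * n⁻¹, hy', by simpa using y.2.2⟩)
      have hC : Subgroup.centralizer ({n * (y : X) * n⁻¹} : Set X) =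
          (Subgroup.centralizer ({(y : X)} : Set X)).map (MulAut.conj n).toMonoidHom := by
        ext g
        constructor
        · intro hg
          refine ⟨n⁻¹ * g * n, Subgroup.mem_centralizer_singleton_iff.mpr ?_, by simp [mul_assoc]⟩
          have h := Subgroup.mem_centralizer_singleton_iff.mp hg
          calc n⁻¹ * g * n * (y : X) = n⁻¹ * (g * (n * y * n⁻¹)) * n := by group
            _ = n⁻¹ * ((n * y * n⁻¹) * g) * n := by rw [h]
            _ = (y : X) * (n⁻¹ * g * n) := by group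
        · rintro ⟨g, hg, rfl⟩
          have h := Subgroup.mem_centralizer_singleton_iff.mp hg
          refine Subgroup.mem_centralizer_singleton_iff.mpr ?_
          show n * g * n⁻¹ * (n * y * n⁻¹) = n * y * n⁻¹ * (n * g * n⁻¹)
          calc n * g * n⁻¹ * (n * y * n⁻¹) = n * (g * y) * n⁻¹ := by group
            _ = n * ((y : X) * g) * n⁻¹ := by rw [h]
            _ = _ := by group
      refine le_core (hC ▸ Subgroup.map_mono (core_le _)) ?_ ?_
      · rw [Subgroup.card_map_of_injective (MulAut.conj n).injective]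
        exact core_coprime _
      · rw [hC]
        exact (Subgroup.map_mono (le_normalizer_core _)).trans (Subgroup.le_normalizer_map _)
    intro n hn
    rw [Subgroup.mem_normalizer_iff]
    refine fun x => ⟨fun hx => key n hn ⟨x, hx, rfl⟩, fun hx => ?_⟩
    have := key n⁻¹ (inv_mem hn) ⟨_, hx, rfl⟩
    simpa [mul_assoc] using this

end Cfsg.Agent.S2924
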