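import Cfsg.Statements.S2925
import Cfsg.Agent.Lib.Components.Basic
import Cfsg.Agent.Lib.CharP.SubnormalSylow

set_option autoImplicit false
open Cfsg

open scoped commutatorElement

namespace Cfsg.Agent.S2925

/-- Let K be a component of the finite group X and T a Sylow 2-subgroup of X. If some abelian normal subgroup Y of T does not normalize K, then K ⧸ Z(K) has abelian Sylow 2-subgroups. -/
theorem result {X : Type*} [Group X] [Finite X] (K : Subgroup X) (hK : Cfsg.IsComponent K) (T : Sylow 2 X) (Y : Subgroup X) (hYT : Y ≤ (T : Subgroup X)) (hYn : (Y.subgroupOf (T : Subgroup X)).Normal) (hYab : IsMulCommutative ↥Y) (hnot : ¬ Y ≤ Subgroup.normalizer (K : Set X)) (P : Sylow 2 (↥K ⧸ Subgroup.center ↥K)) : IsMulCommutative ↥(P : Subgroup (↥K ⧸ Subgroup.center ↥K)) := by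
  obtain ⟨y, hyY, hyK⟩ := SetLike.not_le_iff_exists.mp hnot
  set K' := K.map (MulAut.conj y).toMonoidHom with hK'
  have hne : K ≠ K' := fun h => hyK (Subgroup.mem_normalizer_iff_map_conj_eq.mpr h.symm)
  have hcompK' : Cfsg.IsComponent K' := Cfsg.Agent.Lib.Components.isComponent_conj hK y
  have hKK' : K ≤ Subgroup.centralizer (K' : Set X) :=
    Cfsg.Agent.Lib.Components.isComponent_le_centralizer hK hcompK' hne
  have hc : ∀ a ∈ K, ∀ b ∈ K', Commute a b := fun a ha b hb =>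
    (Subgroup.mem_centralizer_iff.mp (hKK' ha) b hb).symm
  have hYT' : ∀ t ∈ (T : Subgroup X), ∀ z ∈ Y, t * z * t⁻¹ ∈ Y := fun t ht z hz =>
    (Subgroup.mem_normalizer_iff.mp
      ((Subgroup.normal_subgroupOf_iff_le_normalizer hYT).mp hYn ht) z).mp hz
  -- `[s, y] = s · (s⁻¹)^y` with the two factors in the commuting components
  have key : ∀ s s' : K, (s : X) ∈ (T : Subgroup X) → (s' : X) ∈ (T : Subgroup X) →
      ⁅s, s'⁆ ∈ Subgroup.center K := by
    intro s s' hs hs'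
    have hY1 : (s : X) * y * (s : X)⁻¹ * y⁻¹ ∈ Y := mul_mem (hYT' _ hs _ hyY) (inv_mem hyY)
    have hY2 : (s' : X) * y * (s' : X)⁻¹ * y⁻¹ ∈ Y := mul_mem (hYT' _ hs' _ hyY) (inv_mem hyY)
    have hcm : Commute ((s : X) * y * (s : X)⁻¹ * y⁻¹) ((s' : X) * y * (s' : X)⁻¹ * y⁻¹) := by
      have := hYab.is_comm.comm ⟨_, hY1⟩ ⟨_, hY2⟩
      exact congrArg Subtype.val this
    set a := (s : X) with hadef
    set a' := (s' : X) with ha'def
    set b := y * (s : X)⁻¹ * y⁻¹ with hb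
    set b' := y * (s' : X)⁻¹ * y⁻¹ with hb'
    have hbK : b ∈ K' := ⟨(s : X)⁻¹, inv_mem s.2, rfl⟩
    have hb'K : b' ∈ K' := ⟨(s' : X)⁻¹, inv_mem s'.2, rfl⟩
    have e1 : a * y * a⁻¹ * y⁻¹ = a * b := by simp [hadef, hb, mul_assoc]
    have e2 : a' * y * a'⁻¹ * y⁻¹ = a' * b' := by simp [ha'def, hb', mul_assoc]
    rw [e1, e2] at hcm
    -- `⁅a, a'⁆ = ⁅b', b⁆` lies in both components
    have h1 : a * a' * (b * b') = a' * a * (b' * b) := by
      calc a * a' * (b * b') = a * (b * a') * b' := by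
            rw [← (hc a' s'.2 b hbK).eq]; simp only [mul_assoc]
        _ = (a * b) * (a' * b') := by simp only [mul_assoc]
        _ = (a' * b') * (a * b) := hcm.eq
        _ = a' * (b' * a) * b := by simp only [mul_assoc]
        _ = a' * a * (b' * b) := by rw [← (hc a s.2 b' hb'K).eq]; simp only [mul_assoc]
    have h3 : a * a' = a' * a * ((b' * b) * (b * b')⁻¹) := by
      rw [← mul_assoc, eq_mul_inv_iff_mul_eq]; exact h1
    have hcK : (b' * b) * (b * b')⁻¹ ∈ K' :=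
      mul_mem (mul_mem hb'K hbK) (inv_mem (mul_mem hbK hb'K))
    have hval : ((⁅s, s'⁆ : K) : X) = (b' * b) * (b * b')⁻¹ := by
      show a * a' * a⁻¹ * a'⁻¹ = _
      rw [h3, (hc (a' * a) (mul_mem s'.2 s.2) _ hcK).eq]
      group
    rw [Subgroup.mem_center_iff]
    intro k
    exact Subtype.ext (by
      show (k : X) * ((⁅s, s'⁆ : K) : X) = ((⁅s, s'⁆ : K) : X) * (k : X)
      rw [hval]; exact (hc k k.2 _ hcK).eq)
  -- `T ⊓ K` is a Sylow subgroup of `K`
  have hndvd : ¬ 2 ∣ ((T : Subgroup X).subgroupOf K).index := fun h =>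
    T.not_dvd_index (h.trans (Cfsg.Agent.Lib.CharP.relIndex_dvd_index_of_isSubnormal _ hK.1))
  obtain ⟨R, hR⟩ : ∃ R : Sylow 2 K, (R : Subgroup K) = (T : Subgroup X).subgroupOf K :=
    ⟨(IsPGroup.comap_of_injective T.isPGroup' _ K.subtype_injective).toSylow hndvd, rfl⟩
  obtain ⟨g, hg⟩ := MulAction.exists_smul_eq (↥K ⧸ Subgroup.center ↥K)
    (R.mapSurjective (QuotientGroup.mk'_surjective (Subgroup.center ↥K))) P
  refine ⟨⟨fun u v => ?_⟩⟩
  obtain ⟨_, ⟨s, hs, rfl⟩, hu⟩ := hg.ge u.2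
  obtain ⟨_, ⟨s', hs', rfl⟩, hv⟩ := hg.ge v.2
  apply Subtype.ext
  show (u : ↥K ⧸ Subgroup.center ↥K) * v = v * u
  rw [← hu, ← hv]
  refine ((map_mul _ _ _).symm.trans (congrArg _ ?_)).trans (map_mul _ _ _)
  show (QuotientGroup.mk' _ s) * QuotientGroup.mk' _ s' = QuotientGroup.mk' _ s' * QuotientGroup.mk' _ s
  have hmem : ⁅s, s'⁆ ∈ Subgroup.center ↥K := key s s' (hR.le hs) (hR.le hs')
  rw [← commutatorElement_eq_one_iff_mul_comm, ← map_commutatorElement]
  exact (QuotientGroup.eq_one_iff _).mpr hmem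

end Cfsg.Agent.S2925
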