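import Cfsg.Statements.S2928
import Cfsg.Agent.Lib.PermThree.SylowTwoMain

set_option autoImplicit false
open Cfsg

namespace Cfsg.Agent.S2928

open Lib.PermThree

/-- The normalised statement. -/
theorem result_std (n : ℕ) (hn : 8 ≤ n) (H : Subgroup (Equiv.Perm (Fin n)))
    (hF : Cfsg.IsQuasisimple ↥(Cfsg.generalizedFittingSubgroup ↥H))
    (hD : dblGens n ⊆ (H : Set (Equiv.Perm (Fin n)))) :
    ∃ m : ℕ, (m = n - 3 ∨ m = n - 2 ∨ m = n - 1 ∨ m = n) ∧
      Nonempty (↥(Cfsg.generalizedFittingSubgroup ↥H) ≃* ↥(alternatingGroup (Fin m))) := by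
  obtain ⟨c, hcH, hc⟩ := exists_three_cycle hn hD hF
  obtain ⟨Ω, h5, hΩ, heq, hall⟩ := exists_altOn_eq hF hc hcH
  have hΩinv : ∀ g ∈ H, ∀ x ∈ Ω, g x ∈ Ω := by
    intro g hg x hx
    obtain ⟨y, hy, z, hz, hxy, hxz, hyz⟩ : ∃ y ∈ Ω, ∃ z ∈ Ω, x ≠ y ∧ x ≠ z ∧ y ≠ z := by
      have h2 : 1 < (Ω.erase x).card := by rw [Finset.card_erase_of_mem hx]; omega
      obtain ⟨y, hy, z, hz, hne⟩ := Finset.one_lt_card.1 h2
      rw [Finset.mem_erase] at hy hz
      exact ⟨y, hy.2, z, hz.2, hy.1.symm, hz.1.symm, hne⟩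
    have hm : Lib.AltAut.cyc (g x) (g y) (g z) ∈ H := by
      rw [← Lib.AltAut.cyc_conj]
      exact H.mul_mem (H.mul_mem hg (hΩ.full.cyc_mem' hxy hxz hyz hx hy hz)) (H.inv_mem hg)
    refine hall _ hm (Lib.AltAut.isThreeCycle_cyc (g.injective.ne hxy) (g.injective.ne hxz)
      (g.injective.ne hyz)) ?_
    rw [Equiv.Perm.mem_support,
      Lib.AltAut.cyc_apply (g.injective.ne hxy) (g.injective.ne hxz) (g.injective.ne hyz), if_pos rfl]
    exact g.injective.ne hxy.symm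
  have hcov : ∀ x : Fin n, (x : ℕ) < 4 * (n / 4) → x ∈ Ω := by
    intro x hx
    have hQ := quad_std hD (i := (x : ℕ) / 4) (by omega)
    set Q := Finset.univ.filter fun y : Fin n => (y : ℕ) / 4 = (x : ℕ) / 4
    have hxQ : x ∈ Q := by simp [Q]
    by_contra hxΩ
    have hdisj : ∀ y ∈ Q, y ∉ Ω := by
      intro y hy hyΩ
      rcases eq_or_ne x y with rfl | hxy
      · exact hxΩ hyΩ
      obtain ⟨r, hr, s, hs, hrs⟩ := Finset.one_lt_card.1 (show 1 < ((Q.erase x).erase y).card by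
        rw [Finset.card_erase_of_mem (Finset.mem_erase.2 ⟨hxy.symm, hy⟩),
          Finset.card_erase_of_mem hxQ, hQ.1]; norm_num)
      simp only [Finset.mem_erase] at hr hs
      have hm := hΩinv _ (hQ.2 x y r s hxQ hy hr.2.2 hs.2.2 hxy hr.2.1.symm hs.2.1.symm
        hr.1.symm hs.1.symm hrs) y hyΩ
      rw [dbl_apply hr.2.1.symm hs.2.1.symm hr.1.symm hs.1.symm, if_neg hxy.symm, if_pos rfl] at hm
      exact hxΩ hm
    obtain ⟨y, r, s, hyr, hys, hrs, hset⟩ := Finset.card_eq_three.1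
      (show (Q.erase x).card = 3 by rw [Finset.card_erase_of_mem hxQ, hQ.1])
    have hy : y ∈ Q.erase x := by simp [hset]
    have hr : r ∈ Q.erase x := by simp [hset]
    have hs : s ∈ Q.erase x := by simp [hset]
    rw [Finset.mem_erase] at hy hr hs
    have hdH := hQ.2 x y r s hxQ hy.2 hr.2 hs.2 hy.1.symm hr.1.symm hs.1.symm hyr hys hrs
    have hmem : (⟨dbl x y r s, hdH⟩ : ↥H) ∈ Cfsg.generalizedFittingSubgroup ↥H := by
      refine Lib.Components.centralizer_generalizedFittingSubgroup_le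
        (Subgroup.mem_centralizer_iff.2 fun g hg => Subtype.ext ?_)
      refine (Equiv.Perm.Disjoint.commute (f := (g : Equiv.Perm (Fin n))) fun z => ?_).eq
      by_cases hz : z ∈ Ω
      · refine Or.inr ?_
        rw [dbl_apply hr.1.symm hs.1.symm hyr hys, if_neg, if_neg, if_neg, if_neg]
        all_goals intro e; subst e
        exacts [hdisj _ hs.2 hz, hdisj _ hr.2 hz, hdisj _ hy.2 hz, hxΩ hz]
      · exact Or.inl (apply_of_mem_altOn (heq ▸ ⟨g, hg, rfl⟩) hz)
    have hfix := apply_of_mem_altOn (heq ▸ ⟨_, hmem, rfl⟩ : dbl x y r s ∈ altOn Ω) hxΩ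
    rw [dbl_apply hr.1.symm hs.1.symm hyr hys, if_pos rfl] at hfix
    exact hy.1 hfix
  refine ⟨Ω.card, ?_, ?_⟩
  · have hle : Ω.card ≤ n := (Finset.card_le_univ Ω).trans_eq (Fintype.card_fin n)
    have hk : 4 * (n / 4) ≤ n := by omega
    have hge : 4 * (n / 4) ≤ Ω.card := (Finset.card_fin (4 * (n / 4))).symm.le.trans
      (Finset.card_le_card_of_injOn (Fin.castLE hk) (fun x _ => hcov _ (by simp))
        fun x _ y _ hxy => Fin.castLE_injective hk hxy)
    omega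
  · obtain ⟨e⟩ := nonempty_altOn_equiv Ω (m := Ω.card) rfl
    exact ⟨((Subgroup.equivMapOfInjective _ _ H.subtype_injective).trans
      (MulEquiv.subgroupCongr heq)).trans e⟩

/-- Let n ≥ 8 and let H be a subgroup of the symmetric group of degree n whose generalized Fitting subgroup F*(H) is quasisimple. If H contains a Sylow 2-subgroup of the alternating group of degree n, then F*(H) is isomorphic to an alternating group of degree m for some m ∈ {n − 3, n − 2, n − 1, n}. -/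
theorem result (n : ℕ) (hn : 8 ≤ n) (H : Subgroup (Equiv.Perm (Fin n))) (hF : Cfsg.IsQuasisimple ↥(Cfsg.generalizedFittingSubgroup ↥H)) (hS : ∃ P : Sylow 2 ↥(alternatingGroup (Fin n)), ((P : Subgroup ↥(alternatingGroup (Fin n))).map (alternatingGroup (Fin n)).subtype) ≤ H) : ∃ m : ℕ, (m = n - 3 ∨ m = n - 2 ∨ m = n - 1 ∨ m = n) ∧ Nonempty (↥(Cfsg.generalizedFittingSubgroup ↥H) ≃* ↥(alternatingGroup (Fin m))) := by
  haveI : Fact (Nat.Prime 2) := ⟨Nat.prime_two⟩
  obtain ⟨P, hP⟩ := hS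
  obtain ⟨Q, hQ⟩ := ((dblGens_isPGroup n).of_equiv
    (Subgroup.subgroupOfEquivOfLe (dblGens_le_alt n)).symm).exists_le_sylow
  obtain ⟨g, rfl⟩ := MulAction.exists_smul_eq ↥(alternatingGroup (Fin n)) Q P
  let H' : Subgroup (Equiv.Perm (Fin n)) :=
    H.map (MulAut.conj (g : Equiv.Perm (Fin n))⁻¹).toMonoidHom
  let e : ↥H ≃* ↥H' :=
    H.equivMapOfInjective _ (MulAut.conj (g : Equiv.Perm (Fin n))⁻¹).injective
  let e' : ↥(Cfsg.generalizedFittingSubgroup ↥H) ≃* ↥(Cfsg.generalizedFittingSubgroup ↥H') :=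
    ((Cfsg.generalizedFittingSubgroup ↥H).equivMapOfInjective e.toMonoidHom e.injective).trans
      (MulEquiv.subgroupCongr (Lib.Components.generalizedFittingSubgroup_map_equiv e))
  have hD : dblGens n ⊆ (H' : Set (Equiv.Perm (Fin n))) := by
    intro t ht
    have htA : t ∈ (alternatingGroup (Fin n)) := dblGens_le_alt n (Subgroup.subset_closure ht)
    have htQ : (⟨t, htA⟩ : ↥(alternatingGroup (Fin n))) ∈ (Q : Subgroup ↥(alternatingGroup (Fin n))) :=
      hQ (Subgroup.mem_subgroupOf.2 (Subgroup.subset_closure ht))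
    have htP : g * ⟨t, htA⟩ * g⁻¹ ∈ ((g • Q : Sylow 2 ↥(alternatingGroup (Fin n))) : Subgroup ↥(alternatingGroup (Fin n))) := by
      rw [Sylow.smul_def]
      exact Subgroup.smul_mem_pointwise_smul _ _ _ htQ
    refine ⟨_, hP ⟨_, htP, rfl⟩, ?_⟩
    simp [MulAut.conj_apply]
    group
  obtain ⟨m, hm, ⟨f⟩⟩ := result_std n hn H' (Lib.Components.quasisimple_of_mulEquiv e' hF) hD
  exact ⟨m, hm, ⟨e'.trans f⟩⟩

end Cfsg.Agent.S2928
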