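import Cfsg.Statements.S2929
import Cfsg.Agent.Lib.PermThree.Main
import Cfsg.Agent.Lib.PermThree.Triples

set_option autoImplicit false
open Cfsg

namespace Cfsg.Agent.S2929

/-- Let n ≥ 5 and let H be a subgroup of the symmetric group of degree n whose generalized Fitting subgroup F*(H) is quasisimple. If H contains a Sylow 3-subgroup of the symmetric group, then F*(H) is isomorphic to an alternating group of degree m for some m ∈ {n − 2, n − 1, n}. -/
theorem result (n : ℕ) (hn : 5 ≤ n) (H : Subgroup (Equiv.Perm (Fin n))) (hF : Cfsg.IsQuasisimple ↥(Cfsg.generalizedFittingSubgroup ↥H)) (hS : ∃ P : Sylow 3 (Equiv.Perm (Fin n)), (P : Subgroup (Equiv.Perm (Fin n))) ≤ H) : ∃ m : ℕ, (m = n - 2 ∨ m = n - 1 ∨ m = n) ∧ Nonempty (↥(Cfsg.generalizedFittingSubgroup ↥H) ≃* ↥(alternatingGroup (Fin m))) := by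
  obtain ⟨P, hP⟩ := hS
  obtain ⟨g, hg⟩ := Lib.PermThree.exists_conj_tri_mem P
  have h3 : ∀ (i : ℕ) (h : 3 * i + 2 < n),
      (g * Lib.PermThree.tri i h * g⁻¹).IsThreeCycle := fun i h => by
    rw [Equiv.Perm.IsThreeCycle, Equiv.Perm.cycleType_conj]
    exact Lib.PermThree.isThreeCycle_tri i h
  obtain ⟨Ω, -, ⟨e⟩, hall⟩ := Lib.PermThree.exists_equiv_alternating hF (h3 0 (by omega))
    (hP (hg 0 (by omega)))
  refine ⟨Ω.card, ?_, ⟨e⟩⟩
  have hle : Ω.card ≤ n := (Finset.card_le_univ Ω).trans_eq (Fintype.card_fin n)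
  have hk : 3 * (n / 3) ≤ n := by omega
  have hge : 3 * (n / 3) ≤ Ω.card := by
    refine (Finset.card_fin (3 * (n / 3))).symm.le.trans
      (Finset.card_le_card_of_injOn (fun x => g (Fin.castLE hk x)) (fun x _ => ?_)
        fun x _ y _ hxy => Fin.castLE_injective hk (g.injective hxy))
    have hx : 3 * ((x : ℕ) / 3) + 2 < n := by have := x.2; omega
    refine hall _ (hP (hg _ hx)) (h3 _ hx) ?_
    rw [Equiv.Perm.support_conj, Finset.mem_map]
    exact ⟨Fin.castLE hk x, Lib.PermThree.mem_support_tri.2 rfl, rfl⟩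
  omega

end Cfsg.Agent.S2929
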