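import Cfsg.Statements.S2930
import Cfsg.Agent.Lib.PermThree.SylowThree
import Cfsg.Agent.Lib.Components.GenFitting
import Cfsg.Agent.Lib.AltAutOdd.Basic

set_option autoImplicit false
open Cfsg

namespace Cfsg.Agent.S2930

/-- In a group whose generalized Fitting subgroup is alternating, that subgroup contains every
element of three-power order. -/
theorem mem_of_three_power {X : Type*} [Group X] [Finite X] {n : ℕ} (hn : 5 ≤ n)
    (e : ↥(Cfsg.generalizedFittingSubgroup X) ≃* ↥(alternatingGroup (Fin n))) {g : X} {k : ℕ}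
    (hg : g ^ 3 ^ k = 1) : g ∈ Cfsg.generalizedFittingSubgroup X := by
  haveI := Lib.Components.generalizedFittingSubgroup_normal (G := X)
  let φ : X →* MulAut (alternatingGroup (Fin n)) :=
    (MulAut.congr e).toMonoidHom.comp MulAut.conjNormal
  have h1 : φ g ^ 3 ^ k = 1 := by rw [← map_pow, hg, map_one]
  obtain ⟨σ, hσ⟩ := Lib.AltAutOdd.mem_range_conjNormal_of_odd (by simpa using hn) (φ g)
    (((show Odd 3 by decide).pow).of_dvd_nat (orderOf_dvd_of_pow_eq_one h1))
  have hσ1 : σ ^ 3 ^ k = 1 := Lib.AltAut.conjNormal_injective (α := Fin n) (by simp; omega)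
    (by rw [map_pow, hσ, h1, map_one])
  let y : ↥(Cfsg.generalizedFittingSubgroup X) :=
    e.symm ⟨σ, Lib.PermThree.mem_alternatingGroup_of_three hσ1⟩
  have hy : (y : X)⁻¹ * g ∈ Subgroup.centralizer (Cfsg.generalizedFittingSubgroup X : Set X) := by
    rw [Subgroup.mem_centralizer_iff]
    intro z hz
    have hψ : MulAut.congr e (MulAut.conjNormal g) = MulAut.congr e (MulAut.conjNormal (y : X)) := by
      show φ g = _
      rw [← hσ]
      refine MulEquiv.ext fun w => ?_
      show _ = e (MulAut.conjNormal (y : X) (e.symm w))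
      rw [show MulAut.conjNormal (y : X) (e.symm w) = y * e.symm w * y⁻¹ from
        Subtype.ext (MulAut.conjNormal_apply _ _), map_mul, map_mul, map_inv, e.apply_symm_apply,
        e.apply_symm_apply]
      exact Subtype.ext (MulAut.conjNormal_apply _ _)
    have h := congrArg Subtype.val
      (DFunLike.congr_fun ((MulAut.congr e).injective hψ) ⟨z, hz⟩)
    rw [MulAut.conjNormal_apply, MulAut.conjNormal_apply] at h
    simp only at h
    calc z * ((y : X)⁻¹ * g) = (y : X)⁻¹ * ((y : X) * z * (y : X)⁻¹) * g := by group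
      _ = (y : X)⁻¹ * (g * z * g⁻¹) * g := by rw [h]
      _ = (y : X)⁻¹ * g * z := by group
  have := (Cfsg.generalizedFittingSubgroup X).mul_mem y.2
    (Lib.Components.centralizer_generalizedFittingSubgroup_le hy)
  rwa [mul_inv_cancel_left] at this

/-- Let X be a finite 3-minimal group (a Sylow 3-subgroup is not normal and lies in a unique maximal subgroup) whose generalized Fitting subgroup is isomorphic to an alternating group of degree n ≥ 5. Then X = F*(X), and n = 6, n = 9, or n = 3ᵃ + 1 for some a ≥ 2. -/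
theorem result {X : Type*} [Group X] [Finite X] (hX : Cfsg.IsPMinimal 3 X) (n : ℕ) (hn : 5 ≤ n) (hF : Nonempty (↥(Cfsg.generalizedFittingSubgroup X) ≃* ↥(alternatingGroup (Fin n)))) : Cfsg.generalizedFittingSubgroup X = ⊤ ∧ (n = 6 ∨ n = 9 ∨ ∃ a : ℕ, 2 ≤ a ∧ n = 3 ^ a + 1) := by
  obtain ⟨e⟩ := hF
  haveI := Lib.Components.generalizedFittingSubgroup_normal (G := X)
  haveI : Fact (Nat.Prime 3) := ⟨Nat.prime_three⟩
  have hE : Cfsg.generalizedFittingSubgroup X = ⊤ := by
    let S : Sylow 3 X := default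
    obtain ⟨hnn, M, ⟨hM, hSM⟩, huniq⟩ := hX S
    have hSE : (S : Subgroup X) ≤ Cfsg.generalizedFittingSubgroup X := fun g hg => by
      obtain ⟨k, hk⟩ := S.2 ⟨g, hg⟩
      exact mem_of_three_power hn e (k := k) (congrArg Subtype.val hk)
    have hle : ∀ A : Subgroup X, (S : Subgroup X) ≤ A → A ≠ ⊤ → A ≤ M := fun A hA hne => by
      obtain ⟨N, hN, hAN⟩ := (eq_top_or_exists_le_coatom A).resolve_left hne
      exact hAN.trans (huniq N ⟨hN, hA.trans hAN⟩).le
    by_contra hne
    exact hM.1 (top_le_iff.1 ((Sylow.normalizer_sup_eq_top' S hSE).ge.trans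
      (sup_le (hle _ Subgroup.le_normalizer fun h => hnn (Subgroup.normalizer_eq_top_iff.1 h))
        (hle _ hSE hne))))
  refine ⟨hE, ?_⟩
  let e' : X ≃* ↥(alternatingGroup (Fin n)) :=
    ((MulEquiv.subgroupCongr hE).trans Subgroup.topEquiv).symm.trans e
  let ι : X →* Equiv.Perm (Fin n) := (alternatingGroup (Fin n)).subtype.comp e'.toMonoidHom
  have hι : Function.Injective ι :=
    (alternatingGroup (Fin n)).subtype_injective.comp e'.injective
  have hrange : alternatingGroup (Fin n) ≤ ι.range := fun g hg =>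
    ⟨e'.symm ⟨g, hg⟩, by simp [ι]⟩
  obtain ⟨P, hT⟩ := (Lib.PermThree.isPGroup_triGroup n).exists_le_sylow
  let S : Sylow 3 X := P.comapOfInjective ι hι fun g hg => hrange (Lib.PermThree.sylow_le_alt g hg)
  obtain ⟨-, M, ⟨hM, hSM⟩, huniq⟩ := hX S
  refine (Lib.PermThree.alt_le_or_special hT (J := M.map ι) (fun A hPA hA => ?_) hn).resolve_left
    fun h => hM.1 (eq_top_iff.2 fun x _ => ?_)
  · obtain ⟨N, hN, hAN⟩ := (eq_top_or_exists_le_coatom (A.comap ι)).resolve_left fun h =>
      hA fun g hg => by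
        obtain ⟨x, rfl⟩ := hrange hg
        exact (h ▸ Subgroup.mem_top x : x ∈ A.comap ι)
    have hNM : N = M := huniq N ⟨hN, fun x hx => hAN (hPA hx)⟩
    intro g hg
    obtain ⟨x, rfl⟩ := hrange hg.2
    exact ⟨x, hNM ▸ hAN hg.1, rfl⟩
  · obtain ⟨x', hx', e1⟩ := h (show ι x ∈ alternatingGroup (Fin n) from (e' x).2)
    exact hι e1 ▸ hx'

end Cfsg.Agent.S2930
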