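import Mathlib
import Cfsg.Statements.S2931
import Cfsg.Agent.Lib.SylowTwoPairs.Symplectic
import Cfsg.Agent.Lib.SylowTwoPairs.Orthogonal
import Cfsg.Agent.Lib.UFourTwo.Transport
import Cfsg.Agent.Lib.EvenWeight.Transport
-- import your own Cfsg.Agent.* helpers here

set_option autoImplicit false
open Cfsg

namespace Cfsg.Agent.S2931

theorem binaryForm_two : ∀ x y : ZMod 2,
    (∀ z₁ z₂ : ZMod 2, z₁ ^ 2 + x * z₁ * z₂ + y * z₂ ^ 2 = 0 → z₁ = 0 ∧ z₂ = 0) → x = 1 ∧ y = 1 := by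
  decide +kernel

/-- The Sylow 2-subgroups of the alternating group of degree 8 and of PSp₄(3) are isomorphic, and so are the Sylow 2-subgroups of the symmetric group of degree 8 and of the full isometry group of a non-degenerate quadratic form of minus type in dimension 6 over the field with 2 elements. -/
theorem result (F : Type) [Field F] [Fintype F] (hF : Fintype.card F = 3) (K : Type) [Field K] [Fintype K] (hK : Fintype.card K = 2) (a b : K) (hab : ∀ z₁ z₂ : K, z₁ ^ 2 + a * z₁ * z₂ + b * z₂ ^ 2 = 0 → z₁ = 0 ∧ z₂ = 0) (P : Sylow 2 ↥(alternatingGroup (Fin 8))) (Q : Sylow 2 (Cfsg.PSp 2 F)) (P' : Sylow 2 (Equiv.Perm (Fin 8))) (Q' : Sylow 2 ↥(Cfsg.isometryGroup K (Cfsg.quadFormMinus 2 K a b))) : Nonempty (↥(P : Subgroup ↥(alternatingGroup (Fin 8))) ≃* ↥(Q : Subgroup (Cfsg.PSp 2 F))) ∧ Nonempty (↥(P' : Subgroup (Equiv.Perm (Fin 8))) ≃* ↥(Q' : Subgroup ↥(Cfsg.isometryGroup K (Cfsg.quadFormMinus 2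 K a b)))) := by
  have sylowMap : ∀ {A B : Type} [Group A] [Group B] [Finite A] (e : A ≃* B) (P : Sylow 2 A),
      ∃ Q : Sylow 2 B, Nonempty (↥(P : Subgroup A) ≃* ↥(Q : Subgroup B)) := fun {A B} _ _ _ e P => by
    haveI : Finite B := Finite.of_equiv A e.toEquiv
    exact ⟨P.mapSurjective (f := e.toMonoidHom) e.surjective, ⟨MulEquiv.subgroupMap e _⟩⟩
  haveI := Fact.mk Nat.prime_two
  refine ⟨?_, ?_⟩
  · obtain ⟨Q₀, ⟨i⟩⟩ := sylowMap (Lib.UFourTwo.pspMap (ZMod.ringEquivOfPrime F Nat.prime_three hF).symm) Q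
    obtain ⟨j⟩ := Lib.SylowTwoPairs.sylow_alt_psp P Q₀
    exact ⟨j.trans i.symm⟩
  · obtain ⟨φ⟩ := Lib.EvenWeight.exists_equiv_zmod_two hK
    have hφ := binaryForm_two (φ a) (φ b) fun z₁ z₂ h => by
      have h' := hab (φ.symm z₁) (φ.symm z₂) (φ.injective (by simpa using h))
      simpa using h'
    obtain ⟨Q₀, ⟨i⟩⟩ := sylowMap (Lib.EvenWeight.isometryGroupMap φ (Cfsg.quadFormMinus 2 K a b)
      Lib.SylowTwoPairs.Q6 fun v => by
        simp [Lib.SylowTwoPairs.Q6, Cfsg.quadFormMinus, hφ.1, hφ.2]) Q'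
    obtain ⟨j⟩ := Lib.SylowTwoPairs.sylow_sym_o6 P' Q₀
    exact ⟨j.trans i.symm⟩

end Cfsg.Agent.S2931
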