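import Cfsg.Statements.S3103
import Mathlib
import Cfsg.Agent.S0256
import Cfsg.Agent.Lib.PGroup.Frattini
import Cfsg.Agent.Lib.OddStability.Stable
import Cfsg.Agent.Lib.PSolvable.HallHigman

set_option autoImplicit false
open Cfsg

namespace Cfsg.Agent.S3103

open scoped commutatorElement

/-- The automorphism group of a group of exponent 2 and order at most 16 embeds in `A₈`. -/
theorem exists_mulAut_hom {V : Type*} [CommGroup V] [Finite V] (hexp : ∀ v : V, v ^ 2 = 1) (hcard : Nat.card V ≤ 2 ^ 4) :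
    ∃ f : MulAut V →* ↥(alternatingGroup (Fin 8)), Function.Injective f := by
  letI : Module (ZMod 2) (Additive V) := AddCommGroup.zmodModule fun v => hexp v.toMul
  haveI : Finite (Additive V) := inferInstanceAs (Finite V)
  haveI : Module.Finite (ZMod 2) (Additive V) := Module.Finite.of_finite
  haveI : Fact (Nat.Prime 2) := ⟨Nat.prime_two⟩
  have hd : Module.finrank (ZMod 2) (Additive V) ≤ 4 := by
    have h := Module.natCard_eq_pow_finrank (K := ZMod 2) (V := Additive V)
    rw [Nat.card_zmod] at h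
    have : Nat.card (Additive V) = Nat.card V := Nat.card_congr Additive.toMul
    exact (Nat.pow_le_pow_iff_right (by norm_num : 1 < 2)).1 (by omega)
  let b := Module.finBasis (ZMod 2) (Additive V)
  let ι : Additive V →ₗ[ZMod 2] (Fin 4 → ZMod 2) := b.constr (ZMod 2) fun i => Pi.single (Fin.castLE hd i) 1
  obtain ⟨π, hπ⟩ : ∃ π : (Fin 4 → ZMod 2) →ₗ[ZMod 2] Additive V, π.comp ι = LinearMap.id := by
    refine LinearMap.exists_leftInverse_of_injective ι ?_
    rw [LinearMap.ker_eq_bot]
    intro v w h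
    apply b.repr.injective
    ext i
    have hi : ∀ u, ι u (Fin.castLE hd i) = b.repr u i := by
      intro u
      simp [ι, Module.Basis.constr_apply_fintype, Pi.single_apply, (Fin.castLE_injective hd).eq_iff]
    rw [← hi, ← hi, h]
  have hπ' : ∀ u, π (ι u) = u := fun u => LinearMap.congr_fun hπ u
  let lin : MulAut V → (Additive V →ₗ[ZMod 2] Additive V) := fun e =>
    (MonoidHom.toAdditive e.toMonoidHom).toZModLinearMap 2
  let ext : MulAut V →* Module.End (ZMod 2) (Fin 4 → ZMod 2) :=
    { toFun := fun e => ι ∘ₗ lin e ∘ₗ π + (LinearMap.id - ι ∘ₗ π)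
      map_one' := by
        refine LinearMap.ext fun x => ?_
        show ι (π x) + (x - ι (π x)) = x
        abel
      map_mul' := fun e e' => by
        refine LinearMap.ext fun x => ?_
        show ι (lin e (lin e' (π x))) + (x - ι (π x)) =
          ι (lin e (π (ι (lin e' (π x)) + (x - ι (π x))))) +
            ((ι (lin e' (π x)) + (x - ι (π x))) - ι (π (ι (lin e' (π x)) + (x - ι (π x)))))
        simp only [map_add, map_sub, hπ', sub_self, map_zero, add_zero]
        abel }
  let M : MulAut V →* GL (Fin 4) (ZMod 2) :=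
    ((LinearMap.toMatrixAlgEquiv' (R := ZMod 2) (n := Fin 4)).toAlgHom.toMonoidHom.comp ext).toHomUnits
  have hdet : ∀ A : GL (Fin 4) (ZMod 2), (A : Matrix (Fin 4) (Fin 4) (ZMod 2)).det = 1 := fun A => by
    have h : IsUnit (A : Matrix (Fin 4) (Fin 4) (ZMod 2)).det :=
      (Matrix.isUnit_iff_isUnit_det _).1 A.isUnit
    revert h
    generalize (A : Matrix (Fin 4) (Fin 4) (ZMod 2)).det = d
    intro h
    fin_cases d
    · exact absurd h (fun h => h.ne_zero rfl)
    · rfl
  let S : MulAut V →* Matrix.SpecialLinearGroup (Fin 4) (ZMod 2) :=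
    { toFun := fun e => ⟨(M e : Matrix (Fin 4) (Fin 4) (ZMod 2)), hdet _⟩
      map_one' := Subtype.ext (by rw [map_one]; rfl)
      map_mul' := fun e e' => Subtype.ext (by rw [map_mul]; rfl) }
  obtain ⟨a⟩ := Cfsg.Agent.S0256.nonempty_equiv_zmod
  refine ⟨a.toMonoidHom.comp S, a.injective.comp fun e e' h => ?_⟩
  have h1 : ext e = ext e' := LinearMap.toMatrixAlgEquiv'.injective (congrArg Subtype.val h)
  apply MulEquiv.ext
  intro v
  have h2 := congrArg π (LinearMap.congr_fun h1 (ι (Additive.ofMul v)))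
  change π (ι (lin e (π (ι _))) + (_ - ι (π (ι _)))) = π (ι (lin e' (π (ι _))) + (_ - ι (π (ι _)))) at h2
  simp only [LinearMap.id_apply, map_add, map_sub, hπ', sub_self, add_zero] at h2
  exact congrArg Additive.toMul h2

/-- Let X be a finite 2-constrained group with no nontrivial normal subgroup of odd order such that O₂(X) has sectional 2-rank at most 4. Then X/O₂(X) is isomorphic to a subgroup of the alternating group of degree 8. -/
theorem result {X : Type*} [Group X] [Finite X] (hc : Cfsg.IsPConstrained 2 X) (hO : Cfsg.oddCore X = ⊥)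
    (h4 : Cfsg.SectionalPRankLE 2 4 ↥(Cfsg.pCore 2 X)) :
    ∃ f : X ⧸ Cfsg.pCore 2 X →* ↥(alternatingGroup (Fin 8)), Function.Injective f := by
  have : Fact (Nat.Prime 2) := ⟨Nat.prime_two⟩
  set Q := Cfsg.pCore 2 X with hQ
  have hQp : IsPGroup 2 ↥Q := Cfsg.Agent.Lib.PSolvable.pCore_isPGroup
  have hCQ : Subgroup.centralizer (Q : Set X) ≤ Q :=
    (Cfsg.Agent.Lib.PSolvable.isPConstrained_iff_of_pPrimeCore_eq_bot hO).1 hc
  letI : CommGroup (↥Q ⧸ frattini ↥Q) :=
    { (inferInstance : Group (↥Q ⧸ frattini ↥Q)) with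
      mul_comm := fun u v => by
        induction u using QuotientGroup.induction_on with
        | _ x =>
        induction v using QuotientGroup.induction_on with
        | _ y =>
          rw [← QuotientGroup.mk_mul, ← QuotientGroup.mk_mul, QuotientGroup.eq]
          refine Cfsg.Agent.Lib.PFrattini.commutator_le_frattini hQp ?_
          rw [show (x * y)⁻¹ * (y * x) = ⁅y⁻¹, x⁻¹⁆ by simp [commutatorElement_def, mul_assoc]]
          exact Subgroup.commutator_mem_commutator (Subgroup.mem_top _) (Subgroup.mem_top _) }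
  have hexp : ∀ v : ↥Q ⧸ frattini ↥Q, v ^ 2 = 1 := by
    intro v
    induction v using QuotientGroup.induction_on with
    | _ x => exact (QuotientGroup.eq_one_iff _).2 (Cfsg.Agent.Lib.PFrattini.pow_mem_frattini hQp x)
  have hcard : Nat.card (↥Q ⧸ frattini ↥Q) ≤ 2 ^ 4 := by
    haveI : ((frattini ↥Q).subgroupOf ⊤).Normal := inferInstance
    have h := h4 ⊤ ((frattini ↥Q).subgroupOf ⊤)
    let π : ↥(⊤ : Subgroup ↥Q) →* ↥Q ⧸ frattini ↥Q :=
      (QuotientGroup.mk' _).comp (⊤ : Subgroup ↥Q).subtype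
    have hπ : Function.Surjective π := fun v => by
      obtain ⟨x, rfl⟩ := QuotientGroup.mk'_surjective _ v
      exact ⟨⟨x, Subgroup.mem_top x⟩, rfl⟩
    have hker : π.ker = (frattini ↥Q).subgroupOf ⊤ := by
      ext x; exact QuotientGroup.eq_one_iff _
    let e := (QuotientGroup.quotientMulEquivOfEq hker).symm.trans
      (QuotientGroup.quotientKerEquivOfSurjective π hπ)
    have hA := h ⊤ ⟨⟨fun x y => Subtype.ext (e.injective (by simp [mul_comm]))⟩⟩
      (fun a _ => e.injective (by rw [map_pow, map_one, hexp]))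
    rwa [Subgroup.card_top, Nat.card_congr e.toEquiv] at hA
  obtain ⟨F, hF⟩ := exists_mulAut_hom hexp hcard
  have hmap : ∀ e : MulAut ↥Q, (frattini ↥Q).map e.toMonoidHom = frattini ↥Q := fun e =>
    Subgroup.characteristic_iff_map_eq.1 inferInstance e
  let φ : X →* MulAut (↥Q ⧸ frattini ↥Q) :=
    MonoidHom.mk' (fun x => QuotientGroup.congr _ _ (MulAut.conjNormal x) (hmap _)) fun x y => by
      refine MulEquiv.ext fun v => ?_
      induction v using QuotientGroup.induction_on with
      | _ q => rw [map_mul]; rfl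
  have hker : φ.ker = Q := by
    apply le_antisymm
    · have hk2 : IsPGroup 2 ↥φ.ker := by
        intro ⟨d, hd⟩
        have hd' : ∀ x ∈ Q, d * x * d⁻¹ * x⁻¹ ∈ (frattini ↥Q).map Q.subtype := by
          intro x hx
          have h1 : φ d (⟨x, hx⟩ : ↥Q) = ((⟨x, hx⟩ : ↥Q) : ↥Q ⧸ frattini ↥Q) := by
            rw [MonoidHom.mem_ker.1 hd]; rfl
          have h2 : (MulAut.conjNormal d ⟨x, hx⟩)⁻¹ * ⟨x, hx⟩ ∈ frattini ↥Q := QuotientGroup.eq.1 h1
          refine ⟨_, Subgroup.Normal.conj_mem inferInstance _ (inv_mem h2) ⟨x, hx⟩, ?_⟩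
          simp only [map_mul, map_inv, Subgroup.coe_subtype, MulAut.conjNormal_apply, mul_inv_rev, inv_inv]
          group
        obtain ⟨k, hk⟩ := Cfsg.Agent.Lib.OddStability.exists_pow_mem_centralizer_of_frattini hQp
          (by rw [Subgroup.normalizer_eq_top]; trivial) hd'
        obtain ⟨j, hj⟩ := hQp ⟨_, hCQ hk⟩
        exact ⟨k + j, Subtype.ext (by rw [Subgroup.coe_pow, pow_add, pow_mul]; exact congrArg Subtype.val hj)⟩
      exact le_sSup ⟨inferInstance, hk2⟩
    · intro q hq
      rw [MonoidHom.mem_ker]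
      refine MulEquiv.ext fun v => ?_
      induction v using QuotientGroup.induction_on with
      | _ x =>
        have h1 : MulAut.conjNormal q x = (⟨q, hq⟩ : ↥Q) * x * (⟨q, hq⟩ : ↥Q)⁻¹ := Subtype.ext (by simp)
        show ((MulAut.conjNormal q x : ↥Q) : ↥Q ⧸ frattini ↥Q) = x
        rw [h1, QuotientGroup.mk_mul, QuotientGroup.mk_mul, QuotientGroup.mk_inv, mul_comm (QuotientGroup.mk (⟨q, hq⟩ : ↥Q)),
          mul_inv_cancel_right]
  refine ⟨F.comp (QuotientGroup.lift Q φ hker.ge), hF.comp ?_⟩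
  refine (MonoidHom.ker_eq_bot_iff _).1 ?_
  rw [QuotientGroup.ker_lift, hker, Subgroup.map_eq_bot_iff, QuotientGroup.ker_mk']

end Cfsg.Agent.S3103
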