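import Cfsg.Statements.S2932
import Mathlib
import Cfsg.Agent.S3103
import Cfsg.Agent.Lib.NatNormal87.Normal
import Cfsg.Agent.Lib.NatNormal87.Stab
import Cfsg.Agent.Lib.NatNormal87.AltEight
-- import your own Cfsg.Agent.* helpers here

set_option autoImplicit false
open Cfsg

namespace Cfsg.Agent.S2932

open Cfsg.Agent.Lib Cfsg.Agent.Lib.NatSL2

theorem not_dvd_relIndex {X : Type*} [Group X] [Finite X] {p : ℕ} [Fact p.Prime] {G N : Subgroup X}
    (hSyl : ∀ S : Sylow p ↥(G ⊓ N), ∀ P : Sylow p ↥G, Nat.card S = Nat.card P) :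
    ¬ p ∣ N.relIndex G := by
  intro hd
  obtain ⟨S⟩ := (inferInstance : Nonempty (Sylow p ↥(G ⊓ N)))
  obtain ⟨P⟩ := (inferInstance : Nonempty (Sylow p ↥G))
  apply P.not_dvd_index
  have h1 := (N.subgroupOf G).card_mul_index
  have h2 : Nat.card (N.subgroupOf G) = Nat.card ↥(G ⊓ N) := by
    rw [← Subgroup.inf_subgroupOf_right, inf_comm,
      Nat.card_congr (Subgroup.subgroupOfEquivOfLe (inf_le_left : G ⊓ N ≤ G)).toEquiv]
  have h3 : Nat.card S ∣ Nat.card ↥(G ⊓ N) := Subgroup.card_subgroup_dvd_card _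
  rw [hSyl S P] at h3
  have h4 : Nat.card P * p ∣ Nat.card G := by
    rw [← h1, h2]
    exact Nat.mul_dvd_mul h3 hd
  rw [← (P : Subgroup G).card_mul_index] at h4
  exact (Nat.mul_dvd_mul_iff_left Nat.card_pos).1 h4

/-- The case of the field with four elements. -/
theorem four_case {X : Type*} [Group X] [Finite X] [Fact (Nat.Prime 2)] {F : Type} [Field F]
    [Fintype F] [CharP F 2] (hF : Fintype.card F = 4) {V G L A : Subgroup X}
    (hV : Cfsg.IsElementaryAbelian 2 V) (hGV : G ≤ Subgroup.normalizer (V : Set X))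
    (hLG : L ≤ G) (faith : ∀ g ∈ G, (∀ v ∈ V, g * v * g⁻¹ = v) → g = 1) (f : Frame F V L A)
    (hodd : ¬ 2 ∣ (Subgroup.normalizer (L : Set X)).relIndex G) :
    (L.subgroupOf G).Normal ∨ Nonempty (↥G ≃* ↥(alternatingGroup (Fin 7))) := by
  classical
  letI : CommGroup V := { (inferInstance : Group V) with mul_comm := fun a b => hV.1.is_comm.comm a b }
  have hexp : ∀ v : V, v ^ 2 = 1 := fun v => Subtype.ext (hV.2 v.1 v.2)
  have hcard : Nat.card V ≤ 2 ^ 4 := by rw [f.card_V, Nat.card_eq_fintype_card, hF]; norm_num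
  obtain ⟨α, hα⟩ := S3103.exists_mulAut_hom hexp hcard
  let cj : G → MulAut V := fun g =>
    { toFun := fun v => ⟨g.1 * v.1 * g.1⁻¹, (Subgroup.mem_normalizer_iff.1 (hGV g.2) v.1).1 v.2⟩
      invFun := fun v => ⟨g.1⁻¹ * v.1 * g.1, (Subgroup.mem_normalizer_iff''.1 (hGV g.2) v.1).1 v.2⟩
      left_inv := fun v => Subtype.ext (by
        show g.1⁻¹ * (g.1 * v.1 * g.1⁻¹) * g.1 = v.1
        group)
      right_inv := fun v => Subtype.ext (by
        show g.1 * (g.1⁻¹ * v.1 * g.1) * g.1⁻¹ = v.1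
        group)
      map_mul' := fun v w => Subtype.ext (by
        show g.1 * (v.1 * w.1) * g.1⁻¹ = g.1 * v.1 * g.1⁻¹ * (g.1 * w.1 * g.1⁻¹)
        group) }
  let φ : G →* MulAut V := MonoidHom.mk' cj fun g h => MulEquiv.ext fun v => Subtype.ext (by
    show (g * h).1 * v.1 * (g * h).1⁻¹ = g.1 * (h.1 * v.1 * h.1⁻¹) * g.1⁻¹
    rw [Subgroup.coe_mul]; group)
  have hφ : Function.Injective φ := by
    rw [injective_iff_map_eq_one]
    intro g hg
    exact Subtype.ext (faith g.1 g.2 fun v hv => congrArg Subtype.val (MulEquiv.congr_fun hg ⟨v, hv⟩))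
  let Φ : G →* Equiv.Perm (Fin 8) := (alternatingGroup (Fin 8)).subtype.comp (α.comp φ)
  have hΦ : Function.Injective Φ := Subtype.val_injective.comp (hα.comp hφ)
  -- scalar of order three
  obtain ⟨w, hw⟩ : ∃ w : F, w ∉ ({0, 1} : Finset F) := by
    by_contra! h
    have := Finset.card_le_card (fun x _ => h x : (Finset.univ : Finset F) ⊆ {0, 1})
    rw [Finset.card_univ, hF] at this
    exact absurd (this.trans Finset.card_le_two) (by norm_num)
  simp only [Finset.mem_insert, Finset.mem_singleton, not_or] at hw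
  have hw3 : w ^ 3 = 1 := by
    have := FiniteField.pow_card_sub_one_eq_one w hw.1
    rwa [hF] at this
  let ω : MulAut V :=
    { toFun := fun v => Additive.toMul (f.ψ.symm (w • f.ψ (Additive.ofMul v)))
      invFun := fun v => Additive.toMul (f.ψ.symm (w⁻¹ • f.ψ (Additive.ofMul v)))
      left_inv := fun v => by
        simp only [ofMul_toMul, AddEquiv.apply_symm_apply, smul_smul, inv_mul_cancel₀ hw.1,
          one_smul, AddEquiv.symm_apply_apply, toMul_ofMul]
      right_inv := fun v => by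
        simp only [ofMul_toMul, AddEquiv.apply_symm_apply, smul_smul, mul_inv_cancel₀ hw.1,
          one_smul, AddEquiv.symm_apply_apply, toMul_ofMul]
      map_mul' := fun u v => by
        simp only [ofMul_mul, map_add, smul_add, toMul_add] }
  have hω : ∀ v : V, f.ψ (Additive.ofMul (ω v)) = w • f.ψ (Additive.ofMul v) := fun v => by
    show f.ψ (Additive.ofMul (Additive.toMul (f.ψ.symm _))) = _
    rw [ofMul_toMul, AddEquiv.apply_symm_apply]
  have hext : ∀ σ τ : MulAut V, (∀ v, f.ψ (Additive.ofMul (σ v)) = f.ψ (Additive.ofMul (τ v))) →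
      σ = τ := fun σ τ h => MulEquiv.ext fun v => Additive.ofMul.injective (f.ψ.injective (h v))
  have hω3 : ω ^ 3 = 1 := hext _ _ fun v => by
    show f.ψ (Additive.ofMul (ω (ω (ω v)))) = f.ψ (Additive.ofMul v)
    rw [hω, hω, hω, smul_smul, smul_smul, show w * w * w = w ^ 3 by ring, hw3, one_smul]
  have hω1 : ω ≠ 1 := fun h => by
    obtain ⟨v, hv, hcv⟩ := f.c_surj ![1, 0]
    have h1 := hω ⟨v, hv⟩
    rw [h] at h1
    have h2 : f.c v hv = w • f.c v hv := h1
    rw [hcv] at h2
    have := congrFun h2 0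
    simp at this
    exact hw.2 this.symm
  set c := (alternatingGroup (Fin 8)).subtype (α ω) with hc
  have hc3 : c ^ 3 = 1 := by rw [hc, ← map_pow, ← map_pow, hω3, map_one, map_one]
  have hc1 : c ≠ 1 := fun h => hω1 (hα (Subtype.ext (by rw [map_one]; exact h)))
  have hcomm : ∀ l ∈ L.subgroupOf G, φ l * ω = ω * φ l := fun l hl => hext _ _ fun v => by
    have hcl : ∀ v : V, f.ψ (Additive.ofMul (φ l v)) =
        (f.ρ ⟨l.1, hl⟩).1.mulVec (f.ψ (Additive.ofMul v)) := fun v => f.c_conj hl v.2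
    show f.ψ (Additive.ofMul (φ l (ω v))) = f.ψ (Additive.ofMul (ω (φ l v)))
    rw [hω, hcl, hcl, hω, Matrix.mulVec_smul]
  set L' := (L.subgroupOf G).map Φ with hL'
  have hgen : L' ≤ Subgroup.closure {x | x ∈ L' ∧ x * x = 1} := by
    let θ : Matrix.SpecialLinearGroup (Fin 2) F →* Equiv.Perm (Fin 8) :=
      Φ.comp ((Subgroup.inclusion hLG).comp f.ρ.symm.toMonoidHom)
    have hθ : ∀ s, θ s ∈ L' := fun s => ⟨_, (f.ρ.symm s).2, rfl⟩
    have htop : (Subgroup.closure {x | x ∈ L' ∧ x * x = 1}).comap θ = ⊤ := by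
      refine LinGroup.closure_upper_lower (fun t => ?_) fun t => ?_ <;>
        refine Subgroup.subset_closure ⟨hθ _, ?_⟩ <;>
        rw [← map_mul] <;>
        simp [SL2.upper_mul, SL2.lower_mul, CharTwo.add_self_eq_zero, SL2.upper_zero, SL2.lower_zero]
    rintro _ ⟨l, hl, rfl⟩
    have : f.ρ ⟨l.1, hl⟩ ∈ (Subgroup.closure {x | x ∈ L' ∧ x * x = 1}).comap θ :=
      htop ▸ Subgroup.mem_top _
    rw [Subgroup.mem_comap] at this
    have e : θ (f.ρ ⟨l.1, hl⟩) = Φ l := by
      show Φ (Subgroup.inclusion hLG (f.ρ.symm (f.ρ ⟨l.1, hl⟩))) = _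
      rw [MulEquiv.symm_apply_apply]
      rfl
    rwa [e] at this
  have hL60 : Nat.card L' = 60 := by
    rw [hL', Subgroup.card_map_of_injective hΦ,
      Nat.card_congr (Subgroup.subgroupOfEquivOfLe hLG).toEquiv, Nat.card_congr f.ρ.toEquiv,
      SL2.card_SLtwo, hF]
    norm_num
  have hcomap : (Subgroup.normalizer (L' : Set (Equiv.Perm (Fin 8)))).comap Φ =
      (Subgroup.normalizer (L : Set X)).subgroupOf G := by
    have hiff : ∀ g x : G, Φ g * Φ x * (Φ g)⁻¹ ∈ L' ↔ g.1 * x.1 * g.1⁻¹ ∈ L := by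
      intro g x
      rw [← map_inv, ← map_mul, ← map_mul, hL', Subgroup.mem_map_iff_mem hΦ]
      rfl
    have hmem : ∀ x : G, Φ x ∈ L' ↔ x.1 ∈ L := fun x => Subgroup.mem_map_iff_mem hΦ
    ext g
    rw [Subgroup.mem_comap, Subgroup.mem_subgroupOf, Subgroup.mem_normalizer_iff,
      Subgroup.mem_normalizer_iff]
    constructor
    · intro h x
      by_cases hx : x ∈ G
      · have := h (Φ ⟨x, hx⟩)
        rwa [hiff g ⟨x, hx⟩, hmem ⟨x, hx⟩] at this
      · refine ⟨fun h' => absurd (hLG h') hx, fun h' => absurd ?_ hx⟩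
        have := mul_mem (mul_mem (inv_mem g.2) (hLG h')) g.2
        simpa [mul_assoc] using this
    · intro h y
      constructor
      · rintro ⟨x, hx, rfl⟩
        exact (hiff g x).2 ((h x.1).1 hx)
      · rintro ⟨x, hx, he⟩
        have e : y = Φ (g⁻¹ * x * g) := by rw [map_mul, map_mul, map_inv, he]; group
        rw [e]
        refine (hmem _).2 ((h _).2 ?_)
        simpa [mul_assoc] using Subgroup.mem_subgroupOf.1 hx
  have hodd' : ¬ 2 ∣ (Subgroup.normalizer (L' : Set (Equiv.Perm (Fin 8)))).relIndex Φ.range := by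
    rw [← Subgroup.index_comap, hcomap]
    exact hodd
  rcases NatNormal87.AltEight.normal_or_alternating_seven (K := Φ.range)
      (by rintro _ ⟨g, rfl⟩; exact (α (φ g)).2) (L := L') (Subgroup.map_le_range _ _) hL60 hc3 hc1
      (by
        rintro _ ⟨l, hl, rfl⟩
        show (alternatingGroup (Fin 8)).subtype (α (φ l)) * c = c * _
        rw [hc, ← map_mul, ← map_mul, hcomm l hl, map_mul, map_mul]
        rfl) hgen hodd' with h | h'
  · refine Or.inl ⟨fun n hn g => ?_⟩
    have hg : g ∈ (Subgroup.normalizer (L' : Set (Equiv.Perm (Fin 8)))).comap Φ := h ⟨g, rfl⟩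
    rw [hcomap, Subgroup.mem_subgroupOf, Subgroup.mem_normalizer_iff] at hg
    exact (hg n.1).1 hn
  · obtain ⟨e⟩ := h'
    exact Or.inr ⟨(MonoidHom.ofInjective hΦ).trans e⟩

/-- Let p be a prime. Inside a finite ambient group let V be an elementary abelian p-subgroup and G a subgroup normalizing V and acting faithfully on it (G ∩ C(V) = 1), and let L ≤ G act on V as SL₂(F) on its natural module, F a finite field of characteristic p, with L ≅ SL₂(F). If every Sylow p-subgroup of N_G(L) is a Sylow p-subgroup of G, then either L is normal in G, or F has 4 elements and G is isomorphic to the alternating group of degree 7. -/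
theorem result {X : Type*} [Group X] [Finite X] {p : ℕ} [Fact p.Prime] (F : Type) [Field F] [Fintype F] [CharP F p] (V G L : Subgroup X) (hV : Cfsg.IsElementaryAbelian p V) (hGV : G ≤ Subgroup.normalizer (V : Set X)) (hfaith : G ⊓ Subgroup.centralizer (V : Set X) = ⊥) (hLG : L ≤ G) (hnat : Cfsg.IsNaturalSL2Module F V L) (hLiso : Nonempty (↥L ≃* Matrix.SpecialLinearGroup (Fin 2) F)) (hSyl : ∀ S : Sylow p ↥(G ⊓ Subgroup.normalizer (L : Set X)), ∀ P : Sylow p ↥G, Nat.card S = Nat.card P) : (L.subgroupOf G).Normal ∨ (Fintype.card F = 4 ∧ Nonempty (↥G ≃* ↥(alternatingGroup (Fin 7)))) := by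
  classical
  have faith : ∀ g ∈ G, (∀ v ∈ V, g * v * g⁻¹ = v) → g = 1 := fun g hg h =>
    (Subgroup.eq_bot_iff_forall _).1 hfaith g ⟨hg, Subgroup.mem_centralizer_iff.2 fun v hv =>
      (mul_inv_eq_iff_eq_mul.1 (h v hv)).symm⟩
  have hf : L ⊓ Subgroup.centralizer (V : Set X) = ⊥ :=
    eq_bot_iff.2 ((inf_le_inf_right _ hLG).trans hfaith.le)
  obtain ⟨S₀⟩ := (inferInstance : Nonempty (Sylow p L))
  obtain ⟨f⟩ := exists_frame hnat hf S₀
  have C : NatNormal87.Ctx F G V L ((S₀ : Subgroup L).map L.subtype) :=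
    ⟨f, hGV, hLG, faith, NatNormal87.mem_of_series f hGV hLG faith S₀ rfl hSyl⟩
  by_cases hF : Fintype.card F = 4
  · have hp : p = 2 := by
      obtain ⟨n, -, hn⟩ := FiniteField.card F p
      have hd : p ∣ 2 ^ 2 := by
        rw [show (2 : ℕ) ^ 2 = Fintype.card F by rw [hF]; norm_num, hn]
        exact dvd_pow_self p n.ne_zero
      exact (Nat.prime_dvd_prime_iff_eq Fact.out Nat.prime_two).1
        ((Fact.out : p.Prime).dvd_of_dvd_pow hd)
    subst hp
    exact (four_case hF hV hGV hLG faith f (not_dvd_relIndex hSyl)).imp id fun h => ⟨hF, h⟩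
  · exact Or.inl (C.normal (p := p) hF)

end Cfsg.Agent.S2932
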