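import Cfsg.Statements.S2933
import Cfsg.Agent.Lib.FourFixed58.Main
import Cfsg.Agent.Lib.FourFixed58.Models
import Mathlib

set_option autoImplicit false
open Cfsg

namespace Cfsg.Agent.S2933

open Lib.FourFixed58 in
/-- Conjugation by an element normalising a subgroup. -/
def conjAut {G : Type*} [Group G] (T : Subgroup G) (g : G) (hg : g ∈ Subgroup.normalizer (T : Set G)) :
    MulAut T where
  toFun x := ⟨g * x * g⁻¹, (Subgroup.mem_normalizer_iff.mp hg x).mp x.2⟩
  invFun x := ⟨g⁻¹ * x * g, (Subgroup.mem_normalizer_iff''.mp hg x).mp x.2⟩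
  left_inv x := Subtype.ext (by simp [mul_assoc])
  right_inv x := Subtype.ext (by simp [mul_assoc])
  map_mul' x y := Subtype.ext (by simp [mul_assoc])

theorem coe_conjAut {G : Type*} [Group G] (T : Subgroup G) (g : G)
    (hg : g ∈ Subgroup.normalizer (T : Set G)) (x : T) :
    (conjAut T g hg x : G) = g * x * g⁻¹ := rfl

theorem quad_generate (S : Subgroup (Multiplicative (Lib.Golay.Quad × Lib.Golay.Quad)))
    (h : ∀ i : Fin 4, Multiplicative.ofAdd ((![((1 : Lib.Golay.Quad), (0 : Lib.Golay.Quad)),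
      (Lib.FourFixed58.om, 0), (0, 1), (0, Lib.FourFixed58.om)] : Fin 4 → _) i) ∈ S) : S = ⊤ := by
  refine eq_top_iff.mpr fun p _ => ?_
  have ha := h 0
  have ha₁ := h 1
  have hb := h 2
  have hb₁ := h 3
  simp only [Matrix.cons_val] at ha ha₁ hb hb₁
  rw [← ofAdd_toAdd p]
  generalize p.toAdd = q
  obtain ⟨r, s⟩ := q
  rw [show ((r, s) : Lib.Golay.Quad × Lib.Golay.Quad) = (r, 0) + (0, s) by simp, ofAdd_add]
  refine S.mul_mem ?_ ?_
  · rcases Lib.FourFixed58.quad_cases r with rfl | rfl | rfl | rfl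
    · rw [Prod.mk_zero_zero, ofAdd_zero]; exact S.one_mem
    · exact ha
    · exact ha₁
    · rw [show ((Lib.FourFixed58.om * Lib.FourFixed58.om, 0) : Lib.Golay.Quad × Lib.Golay.Quad) =
        (1, 0) + (Lib.FourFixed58.om, 0) by decide +kernel, ofAdd_add]
      exact S.mul_mem ha ha₁
  · rcases Lib.FourFixed58.quad_cases s with rfl | rfl | rfl | rfl
    · rw [Prod.mk_zero_zero, ofAdd_zero]; exact S.one_mem
    · exact hb
    · exact hb₁
    · rw [show ((0, Lib.FourFixed58.om * Lib.FourFixed58.om) : Lib.Golay.Quad × Lib.Golay.Quad) =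
        (0, 1) + (0, Lib.FourFixed58.om) by decide +kernel, ofAdd_add]
      exact S.mul_mem hb hb₁

/-- Let T be a 2-subgroup of a finite group G, V ≤ Z(T) a four-group, and t, ρ ∈ N_G(V) ∩ N_G(T) elements of order 2 and 3 with t commuting with ρ and with V. If [V, ρ] = V and C_T(t) = V, then T is elementary abelian of order 16, or homocyclic of rank 2 (ℤ/2ⁿ × ℤ/2ⁿ for some n ≥ 1), or isomorphic to a Sylow 2-subgroup of PSL₃(4) or of PSU₃(4). -/
theorem result {G : Type*} [Group G] [Finite G] (T V : Subgroup G) (hT : IsPGroup 2 ↥T) (hVT : V ≤ T ⊓ Subgroup.centralizer (T : Set G)) (hV : Nat.card ↥V = 4 ∧ ∀ v ∈ V, v ^ 2 = 1) (t ρ : G) (ht : orderOf t = 2) (hρ : orderOf ρ = 3) (htn : t ∈ Subgroup.normalizer (V : Set G) ⊓ Subgroup.normalizer (T : Set G)) (hρn : ρ ∈ Subgroup.normalizer (V : Set G) ⊓ Subgroup.normalizer (T : Set G)) (htρ : t * ρ = ρ * t) (htV : t ∈ Subgroup.centralizer (V : Set G)) (hVρ : ⁅V, Subgroup.zpowers ρ⁆ = V) (hCt : T ⊓ Subgroup.centralizer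 ({t} : Set G) = V) : (Nat.card ↥T = 16 ∧ ∀ x ∈ T, x ^ 2 = 1) ∨ (∃ n : ℕ, 1 ≤ n ∧ Nonempty (↥T ≃* Multiplicative (ZMod (2 ^ n)) × Multiplicative (ZMod (2 ^ n)))) ∨ (∃ (F : Type) (_ : Field F) (_ : Fintype F), Fintype.card F = 4 ∧ ∀ P : Sylow 2 (Matrix.ProjectiveSpecialLinearGroup (Fin 3) F), Nonempty (↥T ≃* ↥(P : Subgroup (Matrix.ProjectiveSpecialLinearGroup (Fin 3) F)))) ∨ (∃ (F : Type) (_ : Field F) (_ : Fintype F), Fintype.card F = 16 ∧ ∀ P : Sylow 2 (Cfsg.PSU 3 F 4), Nonempty (↥T ≃* ↥(P : Subgroup (Cfsg.PSU 3 F 4)))) := by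
  classical
  obtain ⟨hV4, hV2⟩ := hV
  set τ := conjAut T t (Subgroup.mem_inf.mp htn).2
  set σ := conjAut T ρ (Subgroup.mem_inf.mp hρn).2
  have hVleT : V ≤ T := hVT.trans inf_le_left
  have hfix : ∀ x : T, τ x = x ↔ (x : G) ∈ V := fun x => by
    rw [Subtype.ext_iff, coe_conjAut, ← hCt, Subgroup.mem_inf,
      Subgroup.mem_centralizer_singleton_iff]
    constructor
    · exact fun h => ⟨x.2, (mul_inv_eq_iff_eq_mul.mp h).symm⟩
    · exact fun h => mul_inv_eq_iff_eq_mul.mpr h.2.symm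
  have ht2 : t * t = 1 := by rw [← pow_two, ← ht, pow_orderOf_eq_one]
  have hρ3 : ρ * ρ * ρ = 1 := by
    rw [show ρ * ρ * ρ = ρ ^ 3 by rw [pow_succ, pow_two], ← hρ, pow_orderOf_eq_one]
  -- `ρ` fixes no involution of `V`
  have hVρn : ∀ u ∈ V, ρ * u * ρ⁻¹ ∈ V := fun u hu =>
    (Subgroup.mem_normalizer_iff.mp (Subgroup.mem_inf.mp hρn).1 u).mp hu
  have hfpf : ∀ v ∈ V, ρ * v * ρ⁻¹ = v → v = 1 := by
    intro v hv hfv
    by_contra hv1
    have hall : ∀ u ∈ V, ρ * u * ρ⁻¹ = u := by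
      intro u hu
      by_cases hu1 : u = 1
      · simp [hu1]
      by_cases huv : u = v
      · rw [huv]; exact hfv
      have huu : u * u = 1 := by rw [← pow_two]; exact hV2 u hu
      have hvv : v * v = 1 := by rw [← pow_two]; exact hV2 v hv
      have hinj : ∀ a b : G, ρ * a * ρ⁻¹ = ρ * b * ρ⁻¹ → a = b := fun a b h =>
        mul_left_cancel (mul_right_cancel h)
      have h4 : ∀ x ∈ V, x = 1 ∨ x = v ∨ x = u ∨ x = u * v := by
        intro x hx
        by_contra hcon
        push Not at hcon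
        obtain ⟨c0, c1, c2, c3⟩ := hcon
        have huv1 : u * v ≠ 1 := fun h => huv (mul_right_cancel (h.trans hvv.symm))
        have huvv : u * v ≠ v := fun h => hu1 (mul_eq_right.mp h)
        have huvu : u * v ≠ u := fun h => hv1 (mul_eq_left.mp h)
        have hfin : Finite V := Nat.finite_of_card_ne_zero (by rw [hV4]; norm_num)
        have hsub : ({1, v, u, u * v, x} : Finset G) ⊆ (V : Set G).toFinite.toFinset := by
          intro y hy
          simp only [Finset.mem_insert, Finset.mem_singleton] at hy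
          rw [Set.Finite.mem_toFinset]
          rcases hy with rfl | rfl | rfl | rfl | rfl
          exacts [V.one_mem, hv, hu, V.mul_mem hu hv, hx]
        have h5 := Finset.card_le_card hsub
        rw [← Set.ncard_eq_toFinset_card _ (V : Set G).toFinite, ← Nat.card_coe_set_eq] at h5
        rw [show Nat.card ↥(V : Set G) = 4 from hV4] at h5
        have : ({1, v, u, u * v, x} : Finset G).card = 5 := by
          simp [hv1, hu1, huv, huv1, huvv, huvu, c0, c1, c2, c3, Ne.symm hv1, Ne.symm hu1,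
            Ne.symm huv, Ne.symm huv1, Ne.symm huvv, Ne.symm huvu, Ne.symm c0, Ne.symm c1,
            Ne.symm c2, Ne.symm c3]
        omega
      rcases h4 _ (hVρn u hu) with h | h | h | h
      · exact absurd (hinj u 1 (by rw [h]; simp)) hu1
      · exact absurd (hinj u v (h.trans hfv.symm)) huv
      · exact h
      · exfalso
        have h2 : ρ * (ρ * u * ρ⁻¹) * ρ⁻¹ = u := by
          rw [h, show ρ * (u * v) * ρ⁻¹ = (ρ * u * ρ⁻¹) * (ρ * v * ρ⁻¹) by group, hfv, h,
            mul_assoc, hvv, mul_one]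
        have h3 : ρ * (ρ * (ρ * u * ρ⁻¹) * ρ⁻¹) * ρ⁻¹ = u := by
          rw [show ρ * (ρ * (ρ * u * ρ⁻¹) * ρ⁻¹) * ρ⁻¹ = (ρ * ρ * ρ) * u * (ρ * ρ * ρ)⁻¹ by group,
            hρ3, one_mul, inv_one, mul_one]
        rw [h2, h] at h3
        exact hv1 (mul_eq_left.mp h3)
    have : ⁅V, Subgroup.zpowers ρ⁆ = ⊥ := by
      rw [Subgroup.commutator_eq_bot_iff_le_centralizer, Subgroup.le_centralizer_iff,
        Subgroup.zpowers_le, Subgroup.mem_centralizer_iff]
      exact fun u hu => (mul_inv_eq_iff_eq_mul.mp (hall u hu)).symm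
    rw [hVρ] at this
    rw [this, Subgroup.mem_bot] at hv
    exact hv1 hv
  have h : Lib.FourFixed58.IsFourFixed τ σ := by
    refine ⟨hT, fun x => ?_, fun x => ?_, fun x => ?_, ?_, fun x hx hx' => ?_⟩
    · refine Subtype.ext ?_
      rw [coe_conjAut, coe_conjAut, show t * (t * x * t⁻¹) * t⁻¹ = (t * t) * x * (t * t)⁻¹ by group,
        ht2, one_mul, inv_one, mul_one]
    · refine Subtype.ext ?_
      rw [coe_conjAut, coe_conjAut, coe_conjAut,
        show ρ * (ρ * (ρ * x * ρ⁻¹) * ρ⁻¹) * ρ⁻¹ = (ρ * ρ * ρ) * x * (ρ * ρ * ρ)⁻¹ by group,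
        hρ3, one_mul, inv_one, mul_one]
    · refine Subtype.ext ?_
      simp only [τ, σ, coe_conjAut]
      rw [show t * (ρ * x * ρ⁻¹) * t⁻¹ = (t * ρ) * x * (t * ρ)⁻¹ by group, htρ]
      group
    · rw [← hV4]
      exact Nat.card_congr
        { toFun := fun x => ⟨(x.1 : G), (hfix x.1).mp x.2⟩
          invFun := fun v => ⟨⟨v, hVleT v.2⟩, (hfix ⟨v, hVleT v.2⟩).mpr v.2⟩
          left_inv := fun x => rfl
          right_inv := fun v => rfl }
    · exact Subtype.ext (hfpf _ ((hfix x).mp hx) (congrArg Subtype.val hx'))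
  rcases Lib.FourFixed58.classification h with ⟨h16, hex⟩ | hhom | hh | he
  · exact Or.inl ⟨h16, fun x hx => by
      rw [pow_two]; exact congrArg Subtype.val (hex ⟨x, hx⟩)⟩
  · exact Or.inr (Or.inl hhom)
  · refine Or.inr (Or.inr (Or.inl ⟨Lib.Golay.Quad, inferInstance, inferInstance,
      Lib.Golay.card_quad, fun P => ?_⟩))
    exact hh.nonempty_mulEquiv (Lib.FourFixed58.psl_squaring P) _ quad_generate (by
      rw [Nat.card_prod, Nat.card_eq_fintype_card, Lib.Golay.card_quad]; norm_num)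
  · let F := GaloisField 2 4
    let iF : Fintype F := Fintype.ofFinite F
    have hF : Fintype.card F = 16 := by
      rw [← Nat.card_eq_fintype_card, GaloisField.card 2 4 (by norm_num)]; norm_num
    refine Or.inr (Or.inr (Or.inr ⟨F, inferInstance, iF, hF, fun P => ?_⟩))
    exact he.nonempty_mulEquiv (Lib.FourFixed58.psu_squaring hF P) _ quad_generate (by
      rw [Nat.card_prod, Nat.card_eq_fintype_card, Lib.Golay.card_quad]; norm_num)

end Cfsg.Agent.S2933
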