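import Cfsg.Statements.S2940
import Mathlib

set_option autoImplicit false
open Cfsg

namespace Cfsg.Agent.S2940

/-- Let S be a Sylow p-subgroup of the finite group G and G₁, G₂ subgroups containing S with G = G₁G₂. Then for every g ∈ G there is a Sylow p-subgroup U of G with S ∩ S^g ≤ U ≤ G₁ ∩ G₂^g (conjugates taken as X^g = g⁻¹Xg). -/
theorem result {G : Type*} [Group G] [Finite G] {p : ℕ} [Fact p.Prime] (S : Sylow p G) (G₁ G₂ : Subgroup G) (h1 : (S : Subgroup G) ≤ G₁) (h2 : (S : Subgroup G) ≤ G₂) (hfact : ∀ g : G, ∃ g₁ ∈ G₁, ∃ g₂ ∈ G₂, g = g₁ * g₂) (g : G) : ∃ U : Sylow p G, (S : Subgroup G) ⊓ Cfsg.subgroupConjRight g (S : Subgroup G) ≤ (U : Subgroup G) ∧ (U : Subgroup G) ≤ G₁ ⊓ Cfsg.subgroupConjRight g G₂ := by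
  obtain ⟨a, ha, b, hb, hab⟩ := hfact g⁻¹
  have hg : g = b⁻¹ * a⁻¹ := by rw [← mul_inv_rev, ← hab, inv_inv]
  -- `G₂^g = G₂^(a⁻¹)` and `S^(a⁻¹) ≤ G₁ ⊓ G₂^g`
  have hV : ((MulAut.conj a • S : Sylow p G) : Subgroup G) ≤ G₁ ⊓ Cfsg.subgroupConjRight g G₂ := by
    rintro _ ⟨x, hx, rfl⟩
    refine ⟨?_, ?_⟩
    · simpa using G₁.mul_mem (G₁.mul_mem ha (h1 hx)) (G₁.inv_mem ha)
    · refine ⟨b⁻¹ * x * b, G₂.mul_mem (G₂.mul_mem (G₂.inv_mem hb) (h2 hx)) hb, ?_⟩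
      simp [hg, mul_assoc]
  set H := G₁ ⊓ Cfsg.subgroupConjRight g G₂ with hH
  have hle : (S : Subgroup G) ⊓ Cfsg.subgroupConjRight g (S : Subgroup G) ≤ H :=
    inf_le_inf h1 (Subgroup.map_mono h2)
  have hp : IsPGroup p ↥(((S : Subgroup G) ⊓ Cfsg.subgroupConjRight g (S : Subgroup G)).subgroupOf H) :=
    (S.isPGroup'.to_le inf_le_left).of_equiv (Subgroup.subgroupOfEquivOfLe hle).symm
  obtain ⟨P, hP⟩ := hp.exists_le_sylow
  let V : Sylow p H := (MulAut.conj a • S : Sylow p G).subtype hV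
  obtain ⟨k, hk⟩ := MulAction.exists_smul_eq H V P
  refine ⟨MulAut.conj (k : G) • (MulAut.conj a • S), ?_, ?_⟩
  · intro x hx
    have hxH := hle hx
    have hxP : (⟨x, hxH⟩ : H) ∈ (P : Subgroup H) := hP hx
    rw [← hk] at hxP
    obtain ⟨y, hy, hxy⟩ := hxP
    refine ⟨(y : G), hy, ?_⟩
    simpa using congrArg Subtype.val hxy
  · rintro _ ⟨x, hx, rfl⟩
    simpa using H.mul_mem (H.mul_mem k.2 (hV hx)) (H.inv_mem k.2)

end Cfsg.Agent.S2940
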