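import Cfsg.Statements.S2951
import Cfsg.Agent.Lib.JComp.Main

set_option autoImplicit false
open Cfsg

namespace Cfsg.Agent.S2951

open Subgroup Agent.Lib.JComp in
/-- The three cases for the centres. -/
theorem centre_cases {G : Type*} [Group G] [Finite G] (hG : Agent.Lib.JComp.ZNGroup G)
    (hO : Cfsg.pCore 2 G = ⊥) (S : Sylow 2 G) {M : Subgroup G}
    (hMJ : normalizer (Cfsg.thompsonSubgroupOf 2 (S : Subgroup G) : Set G) ≤ M) {T : Subgroup G}
    (hT : T ∈ Cfsg.maxStraddlingTwoSubgroups M) (hTS : T ≤ (S : Subgroup G)) {K : Subgroup G}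
    (hK : K ∈ Cfsg.jComponentsOutside M T) {L : Subgroup G} (hLmax : Cfsg.IsMaximalTwoLocal L)
    (hKL : K ⊔ Cfsg.thompsonSubgroupOf 2 T ≤ L) {Z Z₀ : Subgroup G}
    (hZdef : Z = Cfsg.omegaCenterOf (S : Subgroup G))
    (hZ₀ : Z₀ = Cfsg.omegaCenterOf (Cfsg.thompsonSubgroupOf 2 T)) :
    Z₀ ⊓ Cfsg.wOf K ≠ ⊥ ∧
      ((Z = Z₀ ∧ Nat.card ↥Z₀ = 2) ∨ (Z = Z₀ ∧ Nat.card ↥Z₀ = 4 ∧ T = (S : Subgroup G)) ∨
        (Cfsg.omegaCenterOf T = Z₀ ∧ Nat.card ↥Z₀ = 4 ∧
          (L ⊓ centralizer (Z₀ : Set G)).relIndex (normalizer (Z₀ : Set G)) = 2)) := by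
  have : Fact (Nat.Prime 2) := ⟨Nat.prime_two⟩
  obtain ⟨Lu, K₂, h, hLu, g, g₂, hne₂⟩ := exists_good_pair hG hO S hMJ hT hTS hK
  have hL : L = Lu := (hLmax.2 _ h.maximal.1 (h.uniq L hLmax.1 hKL)).symm
  obtain ⟨w, hw, hwZ, hw1⟩ := exists_center h.isPGroup h.comp
  refine ⟨fun e => hw1 ?_, ?_⟩
  · have hm : w ∈ Z₀ ⊓ Cfsg.wOf K := ⟨hZ₀ ▸ hwZ, hw⟩
    rwa [e] at hm
  have hK₂ : ¬ K₂ ≤ Lu := fun hle => hne₂ (g.only K₂ g₂.uq.comp (hLu ▸ hle))
  have hcard := h.card_fixed_le g₂.uq.comp hK₂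
  have hT0 : Cfsg.omegaCenterOf T = Z₀ := hZ₀ ▸ omegaCenterOf_eq_omegaJ g.zc
  have hZle : Z ≤ Z₀ := hZdef ▸ hZ₀ ▸ h.omega_sylow_le S hTS
  rw [← hZ₀] at hcard
  have hS1 : (S : Subgroup G) ≠ ⊥ := fun e => h.ne_bot (eq_bot_iff.2 (e ▸ hTS))
  obtain ⟨z, hz, hz1⟩ : ∃ z ∈ Z, z ≠ 1 := by
    have hne : (S : Subgroup G) ⊓ centralizer ((S : Subgroup G) : Set G) ≠ ⊥ := fun e =>
      S2947.no_fixed S.isPGroup' S.isPGroup' Subgroup.le_normalizer hS1 e
    obtain ⟨z, hz⟩ := exists_prime_orderOf_dvd_card'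
      (G := ↥((S : Subgroup G) ⊓ centralizer ((S : Subgroup G) : Set G))) 2
      ((S.isPGroup'.to_le inf_le_left).card_eq_or_dvd.resolve_left
        fun e => hne (Subgroup.eq_bot_of_card_eq _ e))
    refine ⟨z, hZdef ▸ mem_omegaCenterOf.2 ⟨z.2.1, z.2.2, ?_⟩, fun e => ?_⟩
    · exact (congrArg Subtype.val (hz ▸ pow_orderOf_eq_one z) : (z : G) ^ 2 = 1)
    · rw [← Subgroup.orderOf_coe, e, orderOf_one] at hz
      omega
  have hZp : IsPGroup 2 Z₀ := hZ₀ ▸ h.isPGroup.to_le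
    ((omegaCenterOf_le _).trans (Agent.Lib.Thompson.thompsonSubgroupOf_le 2 T))
  have h24 : Nat.card Z₀ = 2 ∨ Nat.card Z₀ = 4 := by
    have h2 : 1 < Nat.card Z₀ := one_lt_card_iff_exists.2 ⟨z, hZle hz, hz1⟩
    obtain ⟨k, hk⟩ := IsPGroup.iff_card.1 hZp
    have h4 := hcard.2.2
    rw [hk] at h2 h4 ⊢
    have : k < 3 := by
      by_contra hc
      have := Nat.pow_le_pow_right (show 0 < 2 by norm_num) (show 3 ≤ k by omega)
      omega
    interval_cases k <;> simp_all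
  rcases h24 with h2 | h4
  · refine Or.inl ⟨eq_of_le_of_card_ge hZle ?_, h2⟩
    rw [h2]
    exact one_lt_card_iff_exists.2 ⟨z, hz, hz1⟩
  by_cases hTeq : T = (S : Subgroup G)
  · exact Or.inr (Or.inl ⟨by rw [hZdef, ← hTeq, hT0], h4, hTeq⟩)
  refine Or.inr (Or.inr ⟨hT0, h4, ?_⟩)
  obtain ⟨u, huS, huN, huL⟩ := h.second_of_ne hTS hTeq
  obtain ⟨d, hd, hd1⟩ : ∃ d ∈ Z₀ ⊓ centralizer (K : Set G), d ≠ 1 := by
    rw [← one_lt_card_iff_exists]
    have := card_omegaJ_le h.isPGroup h.comp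
    rw [← hZ₀] at this
    omega
  have hdJ := mem_omegaJ (T := T) (hZ₀ ▸ hd.1)
  have hCd : centralizer ({d} : Set G) ≤ Lu :=
    h.centralizer_le hd1 (by rw [sq]; exact hdJ.2.1) (le_centralizer_singleton hd.2) hdJ.2.2.2
  have huZ : u ∈ normalizer (Z₀ : Set G) := hZ₀ ▸
    normalizer_le_normalizer_omegaCenterOf _ (Agent.Lib.Thompson.normalizer_le 2 T huN)
  set d' := u * d * u⁻¹ with hd'
  have hd'd : d' ≠ d := fun e => huL (hCd (mem_centralizer_singleton_iff.2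
    (mul_inv_eq_iff_eq_mul.1 e)))
  have huz : u * z * u⁻¹ = z :=
    mul_inv_eq_iff_eq_mul.2 (mem_centralizer_iff.1 (mem_omegaCenterOf.1 (hZdef ▸ hz)).2.1 u huS)
  have hzd : z ≠ d := fun e => hd'd (by rw [hd', ← e, huz])
  have hzd' : z ≠ d' := fun e => hzd ((MulAut.conj u).injective (huz.trans e))
  have hd'Z : d' ∈ Z₀ := conj_mem le_rfl huZ hd.1
  have hd'1 : d' ≠ 1 := fun e => hd1 (conj_eq_one_iff.1 e)
  have hcases : ∀ v ∈ Z₀, v = 1 ∨ v = d ∨ v = d' ∨ v = z := by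
    classical
    intro v hv
    by_contra hcon
    push Not at hcon
    let := Fintype.ofFinite Z₀
    have hc : ({1, ⟨d, hd.1⟩, ⟨d', hd'Z⟩, ⟨z, hZle hz⟩, ⟨v, hv⟩} : Finset Z₀).card ≤ 4 := by
      rw [← h4, Nat.card_eq_fintype_card]; exact Finset.card_le_univ _
    simp [Subtype.ext_iff, Ne.symm hd1, Ne.symm hd'1, Ne.symm hz1, Ne.symm hcon.1,
      Ne.symm hcon.2.1, Ne.symm hcon.2.2.1, Ne.symm hcon.2.2.2, hd'd.symm, hzd.symm,
      hzd'.symm] at hc
  have hnot : ∀ v : G, v * z * v⁻¹ ≠ d := by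
    intro v e
    have hle : (S : Subgroup G).map (MulAut.conj v).toMonoidHom ≤ Lu := by
      refine le_trans ?_ hCd
      rintro _ ⟨s, hs, rfl⟩
      refine mem_centralizer_singleton_iff.2 ?_
      show v * s * v⁻¹ * d = d * (v * s * v⁻¹)
      have hsz : s * z = z * s :=
        mem_centralizer_iff.1 (mem_omegaCenterOf.1 (hZdef ▸ hz)).2.1 s hs
      rw [← e]
      calc v * s * v⁻¹ * (v * z * v⁻¹) = v * (s * z) * v⁻¹ := by group
        _ = _ := by rw [hsz]; group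
    obtain ⟨S', hS', hle'⟩ := exists_isSylowTwoIn_ge hle (S.isPGroup'.map _)
    obtain ⟨l, -, hlS⟩ := exists_conj_sylowTwoIn h.mem.1 hS'
    have h1 := card_le_of_le hle'
    rw [← hlS, card_map_of_injective (MulAut.conj v).injective,
      card_map_of_injective (MulAut.conj l).injective] at h1
    exact hTeq (eq_of_le_of_card_ge hTS h1)
  have hmove : ∀ b ∈ normalizer (Z₀ : Set G),
      b * z * b⁻¹ = z ∧ (b * d * b⁻¹ = d ∨ b * d * b⁻¹ = d') := by
    intro b hb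
    have e1 : b * z * b⁻¹ = z := by
      rcases hcases _ (conj_mem le_rfl hb (hZle hz)) with e | e | e | e
      · exact absurd (conj_eq_one_iff.1 e) hz1
      · exact absurd e (hnot b)
      · refine absurd ?_ (hnot (u⁻¹ * b))
        calc u⁻¹ * b * z * (u⁻¹ * b)⁻¹ = u⁻¹ * (b * z * b⁻¹) * u := by group
          _ = d := by rw [e, hd']; group
      · exact e
    refine ⟨e1, ?_⟩
    rcases hcases _ (conj_mem le_rfl hb hd.1) with e | e | e | e
    · exact absurd (conj_eq_one_iff.1 e) hd1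
    · exact Or.inl e
    · exact Or.inr e
    · exact absurd ((MulAut.conj b).injective (e1.trans e.symm)) hzd
  have hd'im : ∀ b ∈ normalizer (Z₀ : Set G),
      b * d' * b⁻¹ = d ∨ b * d' * b⁻¹ = d' := by
    intro b hb
    rcases hcases _ (conj_mem le_rfl hb hd'Z) with e | e | e | e
    · exact absurd (conj_eq_one_iff.1 e) hd'1
    · exact Or.inl e
    · exact Or.inr e
    · exact absurd ((MulAut.conj b).injective ((hmove b hb).1.trans e.symm)) hzd'
  have hHiff : ∀ b ∈ normalizer (Z₀ : Set G),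
      (b ∈ L ⊓ centralizer (Z₀ : Set G) ↔ b * d * b⁻¹ = d) := by
    intro b hb
    refine ⟨fun hbH => mul_inv_eq_iff_eq_mul.2 (mem_centralizer_iff.1 hbH.2 d hd.1).symm,
      fun e => ?_⟩
    refine ⟨hL ▸ hCd (mem_centralizer_singleton_iff.2 (mul_inv_eq_iff_eq_mul.1 e)), ?_⟩
    refine mem_centralizer_iff.2 fun v hv => ?_
    suffices e' : b * v * b⁻¹ = v by exact (mul_inv_eq_iff_eq_mul.1 e').symm
    rcases hcases v hv with rfl | rfl | rfl | rfl
    · group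
    · exact e
    · rcases hd'im b hb with e' | e'
      · exact absurd ((MulAut.conj b).injective (e'.trans e.symm)) hd'd
      · exact e'
    · exact (hmove b hb).1
  refine relIndex_eq_two_iff.2 ⟨u, huZ, fun b hb => ?_⟩
  rw [hHiff b hb, hHiff _ (mul_mem hb huZ),
    show b * u * d * (b * u)⁻¹ = b * d' * b⁻¹ by rw [hd']; group]
  rcases (hmove b hb).2 with e | e
  · exact Or.inr ⟨e, fun e' => hd'd ((MulAut.conj b).injective (e'.trans e.symm))⟩
  · refine Or.inl ⟨?_, fun e' => hd'd (e.symm.trans e')⟩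
    exact (hd'im b hb).resolve_right fun e' =>
      hd'd ((MulAut.conj b).injective (e'.trans e.symm))


/-- Let G be a finite group of characteristic 2 type in which every 2-local subgroup is solvable and the centralizer of Ω₁(Z(S)) lies in N_G(S) for every Sylow 2-subgroup S; suppose O₂(G) = 1, fix a Sylow 2-subgroup S and a 2-local subgroup M containing N_G(J(S)) (J the Thompson subgroup generated by the elementary abelian 2-subgroups of largest order), and put Z = Ω₁(Z(S)). Let T ≤ S be maximal (for the order of a largest elementary abelian subgroup, then the order of J(T), then the order of T) among the nontrivial 2-subgroups of M lying in a 2-local subgroup not inside M, K a J(T)-component not contained in M with J(T) the Thompson subgroup of every Sylow 2-subgroup of N_G(W_K) containing J(T), and O₂(⟨K, T⟩) ≠ 1, L a maximal 2-local subgroup containing ⟨K, J(T)⟩ (there is only one), and Z₀ = Ω₁(Z(J(T))).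 Then Z₀ ∩ W_K ≠ 1, and one of: Z = Z₀ has order 2; Z = Z₀ has order 4 and T = S; Ω₁(Z(T)) = Z₀ has order 4 and C_L(Z₀) has index 2 in N_G(Z₀). -/
theorem result {G : Type*} [Group G] [Finite G] (hL : Cfsg.IsCharacteristicTwoType G) (hN : ∀ N : Subgroup G, Cfsg.IsTwoLocal N → Group.IsSolvable ↥N)
    (hZ : ∀ S : Sylow 2 G, Subgroup.centralizer (Cfsg.omegaCenterOf (S : Subgroup G) : Set G) ≤ Subgroup.normalizer ((S : Subgroup G) : Set G)) (hO : Cfsg.pCore 2 G = ⊥) (S : Sylow 2 G) (M : Subgroup G) (hM : Cfsg.IsTwoLocal M)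
    (hMJ : Subgroup.normalizer (Cfsg.thompsonSubgroupOf 2 (S : Subgroup G) : Set G) ≤ M) (T : Subgroup G) (hT : T ∈ Cfsg.maxStraddlingTwoSubgroups M)
    (hTS : T ≤ (S : Subgroup G)) (K : Subgroup G) (hK : K ∈ Cfsg.jComponentsOutside M T)
    (L : Subgroup G) (hLmax : Cfsg.IsMaximalTwoLocal L) (hKL : K ⊔ Cfsg.thompsonSubgroupOf 2 T ≤ L)
    (Z Z₀ : Subgroup G) (hZdef : Z = Cfsg.omegaCenterOf (S : Subgroup G)) (hZ₀ : Z₀ = Cfsg.omegaCenterOf (Cfsg.thompsonSubgroupOf 2 T)) :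
    Z₀ ⊓ Cfsg.wOf K ≠ ⊥ ∧
      ((Z = Z₀ ∧ Nat.card ↥Z₀ = 2) ∨ (Z = Z₀ ∧ Nat.card ↥Z₀ = 4 ∧ T = (S : Subgroup G)) ∨
        (Cfsg.omegaCenterOf T = Z₀ ∧ Nat.card ↥Z₀ = 4 ∧
          (L ⊓ Subgroup.centralizer (Z₀ : Set G)).relIndex (Subgroup.normalizer (Z₀ : Set G)) = 2)) := by
  have hG : Agent.Lib.JComp.ZNGroup G := ⟨hL, hN, hZ⟩
  exact centre_cases hG hO S hMJ hT hTS hK hLmax hKL hZdef hZ₀

end Cfsg.Agent.S2951
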