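import Cfsg.Statements.S2953
import Cfsg.Agent.Lib.JComp.Main

set_option autoImplicit false
open Cfsg

namespace Cfsg.Agent.S2953

/-- The properties of `K T` for a component `K` with unique maximal overgroup. -/
theorem overgroup_facts {G : Type*} [Group G] [Finite G] {T K : Subgroup G}
    (g : Agent.Lib.JComp.Good T K) :
    Subgroup.centralizer (Cfsg.pCoreOf 2 (K ⊔ T) : Set G) ≤ Cfsg.pCoreOf 2 (K ⊔ T) ∧
      Cfsg.IsSylowTwoIn T (K ⊔ T) ∧ (Cfsg.pCoreOf 2 (K ⊔ T)).relIndex (K ⊔ T) = 6 ∧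
      ¬ ⁅K ⊔ T, K ⊔ T⁆ ≤ Cfsg.pCoreOf 2 (K ⊔ T) ∧ ⁅Cfsg.omegaCenterOf T, K ⊔ T⁆ ≠ ⊥ ∧
      ∃ L : Subgroup G, Cfsg.IsMaximalTwoLocal L ∧ K ⊔ T ≤ L ∧ Cfsg.IsSylowTwoIn T L ∧
        ∀ L' : Subgroup G, Cfsg.IsMaximalTwoLocal L' → K ⊔ T ≤ L' → L' = L :=
  let f := g.sup_facts
  ⟨f.1, f.2.1, f.2.2.1, f.2.2.2.1, f.2.2.2.2, Subgroup.normalizer (K : Set G), g.uq.maximal,
    sup_le g.uq.le g.uq.mem.1.1, g.uq.mem.1, fun L' hL' hle => (hL'.2 _ g.uq.maximal.1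
      (g.uq.uniq L' hL'.1
        ((sup_le_sup_left (Agent.Lib.Thompson.thompsonSubgroupOf_le 2 T) K).trans hle))).symm⟩


/-- Let G be a finite group of characteristic 2 type in which every 2-local subgroup is solvable and the centralizer of Ω₁(Z(S)) lies in N_G(S) for every Sylow 2-subgroup S; suppose O₂(G) = 1, fix a Sylow 2-subgroup S and a 2-local subgroup M containing N_G(J(S)) (J the Thompson subgroup generated by the elementary abelian 2-subgroups of largest order). Let T be maximal (for the order of a largest elementary abelian subgroup, then the order of J(T), then the order of T) among the nontrivial 2-subgroups of M lying in a 2-local subgroup not inside M. Then there are two distinct J(T)-components K₁, K₂ such that, with Pᵢ = ⟨Kᵢ, T⟩: C_G(O₂(Pᵢ)) ≤ O₂(Pᵢ), T is a Sylow 2-subgroup of Pᵢ, O₂(Pᵢ) has index 6 in Pᵢ with Pᵢ/O₂(Pᵢ) non-abelian, [Ω₁(Z(T)), Pᵢ] ≠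 1, O₂(⟨P₁, P₂⟩) = 1, and each Pᵢ lies in exactly one maximal 2-local subgroup Lᵢ of G, in which T is a Sylow 2-subgroup. -/
theorem result {G : Type*} [Group G] [Finite G] (hL : Cfsg.IsCharacteristicTwoType G) (hN : ∀ N : Subgroup G, Cfsg.IsTwoLocal N → Group.IsSolvable ↥N)
    (hZ : ∀ S : Sylow 2 G, Subgroup.centralizer (Cfsg.omegaCenterOf (S : Subgroup G) : Set G) ≤ Subgroup.normalizer ((S : Subgroup G) : Set G)) (hO : Cfsg.pCore 2 G = ⊥) (S : Sylow 2 G) (M : Subgroup G) (hM : Cfsg.IsTwoLocal M)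
    (hMJ : Subgroup.normalizer (Cfsg.thompsonSubgroupOf 2 (S : Subgroup G) : Set G) ≤ M) (T : Subgroup G) (hT : T ∈ Cfsg.maxStraddlingTwoSubgroups M) :
    ∃ K₁ K₂ : Subgroup G, K₁ ≠ K₂ ∧ Cfsg.IsJComponent T K₁ ∧ Cfsg.IsJComponent T K₂ ∧
      Cfsg.pCoreOf 2 ((K₁ ⊔ T) ⊔ (K₂ ⊔ T)) = ⊥ ∧
      ∀ P ∈ [K₁ ⊔ T, K₂ ⊔ T],
        Subgroup.centralizer (Cfsg.pCoreOf 2 P : Set G) ≤ Cfsg.pCoreOf 2 P ∧ Cfsg.IsSylowTwoIn T P ∧
        (Cfsg.pCoreOf 2 P).relIndex P = 6 ∧ ¬ ⁅P, P⁆ ≤ Cfsg.pCoreOf 2 P ∧ ⁅Cfsg.omegaCenterOf T, P⁆ ≠ ⊥ ∧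
        ∃ L : Subgroup G, Cfsg.IsMaximalTwoLocal L ∧ P ≤ L ∧ Cfsg.IsSylowTwoIn T L ∧
          ∀ L' : Subgroup G, Cfsg.IsMaximalTwoLocal L' → P ≤ L' → L' = L := by
  have hG : Agent.Lib.JComp.ZNGroup G := ⟨hL, hN, hZ⟩
  obtain ⟨hTp, -, hTM, -⟩ := Agent.Lib.JComp.straddle_facts hT
  obtain ⟨S', hMJ', hTS⟩ := Agent.Lib.JComp.exists_sylow_ge S hMJ hTM hTp
  obtain ⟨K, hK⟩ := Agent.Lib.JComp.jComponentsOutside_nonempty hG S' hMJ' hT
  obtain ⟨L, K₂, -, -, g, g₂, hne⟩ := Agent.Lib.JComp.exists_good_pair hG hO S' hMJ' hT hTS hK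
  refine ⟨K, K₂, hne.symm, g.uq.comp, g₂.uq.comp, ?_, ?_⟩
  · exact g.dis g₂ hne _ (Agent.Lib.CharP.pCoreOf_isPGroup _)
      ((le_sup_right.trans le_sup_left).trans (Agent.Lib.CharP.le_normalizer_pCoreOf _))
      ((le_sup_left.trans le_sup_left).trans (Agent.Lib.CharP.le_normalizer_pCoreOf _))
      ((le_sup_left.trans le_sup_right).trans (Agent.Lib.CharP.le_normalizer_pCoreOf _))
  · intro P hP
    simp only [List.mem_cons, List.not_mem_nil, or_false] at hP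
    rcases hP with rfl | rfl
    · exact overgroup_facts g
    · exact overgroup_facts g₂

end Cfsg.Agent.S2953
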