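import Cfsg.Statements.S2954
import Cfsg.Agent.Lib.JComp.Main
import Cfsg.Agent.Lib.JComp.SymFour

set_option autoImplicit false
open Cfsg

namespace Cfsg.Agent.S2954

/-- Let G be a finite group of characteristic 2 type in which every 2-local subgroup is solvable and the centralizer of Ω₁(Z(S)) lies in N_G(S) for every Sylow 2-subgroup S; suppose O₂(G) = 1, fix a Sylow 2-subgroup S and a 2-local subgroup M containing N_G(J(S)) (J the Thompson subgroup generated by the elementary abelian 2-subgroups of largest order). If T is maximal (for the order of a largest elementary abelian subgroup, then the order of J(T), then the order of T) among the nontrivial 2-subgroups of M lying in a 2-local subgroup not inside M, then there are two distinct maximal 2-local subgroups P₁, P₂ of G, each having T as a Sylow 2-subgroup, that are both isomorphic to the symmetric group on four letters or both isomorphic to its direct product with a group of order 2. -/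
theorem result {G : Type*} [Group G] [Finite G] (hL : Cfsg.IsCharacteristicTwoType G) (hN : ∀ N : Subgroup G, Cfsg.IsTwoLocal N → Group.IsSolvable ↥N)
    (hZ : ∀ S : Sylow 2 G, Subgroup.centralizer (Cfsg.omegaCenterOf (S : Subgroup G) : Set G) ≤ Subgroup.normalizer ((S : Subgroup G) : Set G)) (hO : Cfsg.pCore 2 G = ⊥) (S : Sylow 2 G) (M : Subgroup G) (hM : Cfsg.IsTwoLocal M)
    (hMJ : Subgroup.normalizer (Cfsg.thompsonSubgroupOf 2 (S : Subgroup G) : Set G) ≤ M) (T : Subgroup G) (hT : T ∈ Cfsg.maxStraddlingTwoSubgroups M) :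
    ∃ P₁ P₂ : Subgroup G, P₁ ≠ P₂ ∧ Cfsg.IsMaximalTwoLocal P₁ ∧ Cfsg.IsMaximalTwoLocal P₂ ∧
      Cfsg.IsSylowTwoIn T P₁ ∧ Cfsg.IsSylowTwoIn T P₂ ∧
      ((Nonempty (↥P₁ ≃* Equiv.Perm (Fin 4)) ∧ Nonempty (↥P₂ ≃* Equiv.Perm (Fin 4))) ∨
        (Nonempty (↥P₁ ≃* Equiv.Perm (Fin 4) × Multiplicative (ZMod 2)) ∧
          Nonempty (↥P₂ ≃* Equiv.Perm (Fin 4) × Multiplicative (ZMod 2)))) := by
  have hG : Agent.Lib.JComp.ZNGroup G := ⟨hL, hN, hZ⟩
  obtain ⟨hTp, -, hTM, -⟩ := Agent.Lib.JComp.straddle_facts hT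
  obtain ⟨S', hMJ', hTS⟩ := Agent.Lib.JComp.exists_sylow_ge S hMJ hTM hTp
  obtain ⟨K, hK⟩ := Agent.Lib.JComp.jComponentsOutside_nonempty hG S' hMJ' hT
  obtain ⟨L, K₂, -, -, g, g₂, hne⟩ := Agent.Lib.JComp.exists_good_pair hG hO S' hMJ' hT hTS hK
  obtain ⟨A, B, gA, gB, hnc⟩ := Agent.Lib.JComp.exists_noncomm hG g g₂ hne
  have f := Agent.Lib.JComp.amalFacts gA gB hnc
  have hnc' : ¬ Cfsg.wOf B ≤ Subgroup.centralizer (Cfsg.wOf A : Set G) :=
    fun h => hnc (Subgroup.le_centralizer_iff.1 h)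
  obtain ⟨hA4, hA8⟩ := Agent.Lib.JComp.normalizer_iso hG gA gB hnc
  obtain ⟨hB4, hB8⟩ := Agent.Lib.JComp.normalizer_iso hG gB gA hnc'
  refine ⟨Subgroup.normalizer (A : Set G), Subgroup.normalizer (B : Set G), fun e => ?_,
    gA.uq.maximal, gB.uq.maximal, gA.uq.mem.1, gB.uq.mem.1, ?_⟩
  · exact hnc ((gA.only B gB.uq.comp (Subgroup.le_normalizer.trans e.ge)).symm ▸ gA.wOf_le.2)
  rcases f.card_cases with h | h
  · exact Or.inl ⟨hA4 h, hB4 (f.card_eq ▸ h)⟩
  · exact Or.inr ⟨hA8 h, hB8 (f.card_eq ▸ h)⟩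

end Cfsg.Agent.S2954
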