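import Cfsg.Statements.S2955
import Cfsg.Agent.Lib.SylowControl.Basic

set_option autoImplicit false
open Cfsg

namespace Cfsg.Agent.S2955

/-- Let p be a prime dividing the order of the finite group G and 𝓕 a conjugation-closed family of subgroups that controls Sylow p-intersections in G. Suppose the Sylow p-subgroups of G are chain-connected: any two of them are joined by a chain of Sylow p-subgroups, consecutive ones distinct with nontrivial intersection, all containing the intersection of the two ends (equivalently, the graph on the Sylow p-subgroups whose edges are the distinct pairs meeting nontrivially is connected). Then for every Sylow p-subgroup S, G is generated by N_G(S) together with the members of 𝓕 that meet S in a Sylow p-subgroup of themselves. -/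
theorem result {G : Type*} [Group G] [Finite G] (p : ℕ) [Fact p.Prime] (hdiv : p ∣ Nat.card G)
    (𝓕 : Set (Subgroup G)) (h𝓕 : Cfsg.IsNormalSet 𝓕) (hc : Cfsg.ControlsSylowIntersections p 𝓕)
    (hconn : Cfsg.IsSylowChainConnected p G) (S : Sylow p G) :
    (⨆ X ∈ Cfsg.sylowMembers p 𝓕 (S : Subgroup G), X) ⊔ Subgroup.normalizer ((S : Subgroup G) : Set G) = ⊤ := by
  classical
  set H := (⨆ X ∈ Cfsg.sylowMembers p 𝓕 (S : Subgroup G), X) ⊔
    Subgroup.normalizer ((S : Subgroup G) : Set G) with hH
  have step : ∀ T : Sylow p G, (S : Subgroup G) ⊓ T ≠ ⊥ →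
      ∃ h ∈ H, Cfsg.subgroupConjRight h (T : Subgroup G) = S := by
    intro T hST
    obtain ⟨l, hl1, hl2, -⟩ := Cfsg.Agent.Lib.SylowControl.exists_factor h𝓕
      (Cfsg.Agent.Lib.SylowControl.linked_of_controls hc inf_le_left inf_le_right hST)
    refine ⟨_, Cfsg.Agent.Lib.SylowControl.prod_mem_of_list l fun q hq => ⟨?_, (hl2 q hq).2⟩, hl1⟩
    exact le_trans (le_iSup₂ (f := fun X (_ : X ∈ Cfsg.sylowMembers p 𝓕 (S : Subgroup G)) => X)
      q.1 (hl2 q hq).1) le_sup_left
  have all : ∀ T : Sylow p G, ∃ h ∈ H, Cfsg.subgroupConjRight h (T : Subgroup G) = S := by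
    intro T
    obtain ⟨n, c, hc0, hcl, -, hcs⟩ := hconn S T
    rw [← hcl]
    clear hcl
    suffices ∀ i : Fin (n + 1), ∃ h ∈ H, Cfsg.subgroupConjRight h (c i : Subgroup G) = S from this _
    intro i
    induction i using Fin.induction with
    | zero =>
      exact ⟨1, H.one_mem, by rw [hc0]; exact Cfsg.Agent.Lib.SylowControl.subgroupConjRight_one _⟩
    | succ i ih =>
      obtain ⟨h, hh, hhS⟩ := ih
      have hne : (S : Subgroup G) ⊓
          (Cfsg.Agent.Lib.SylowControl.sylowConjRight h (c i.succ) : Subgroup G) ≠ ⊥ := by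
        rw [← hhS, Cfsg.Agent.Lib.SylowControl.sylowConjRight_coe, Cfsg.subgroupConjRight,
          Cfsg.subgroupConjRight, ← Subgroup.map_inf _ _ _ (MulAut.conj h⁻¹).injective]
        exact fun h0 => (hcs i).2
          ((Subgroup.map_eq_bot_iff_of_injective _ (MulAut.conj h⁻¹).injective).mp h0)
      obtain ⟨k, hk, hkS⟩ := step _ hne
      rw [Cfsg.Agent.Lib.SylowControl.sylowConjRight_coe,
        Cfsg.Agent.Lib.SylowControl.subgroupConjRight_mul] at hkS
      exact ⟨h * k, H.mul_mem hh hk, hkS⟩
  refine top_unique fun g _ => ?_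
  obtain ⟨h, hh, hhS⟩ := all (Cfsg.Agent.Lib.SylowControl.sylowConjRight g S)
  rw [Cfsg.Agent.Lib.SylowControl.sylowConjRight_coe,
    Cfsg.Agent.Lib.SylowControl.subgroupConjRight_mul] at hhS
  have hgh : g * h ∈ H := Subgroup.mem_sup_right
    (Cfsg.Agent.Lib.SylowControl.subgroupConjRight_eq_self_iff.mp hhS)
  exact (Subgroup.mul_mem_cancel_right H hh).mp hgh

end Cfsg.Agent.S2955
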