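import Cfsg.Statements.S2957
import Cfsg.Agent.Lib.SylowControl.Functor
import Cfsg.Agent.S2940

set_option autoImplicit false
open Cfsg

namespace Cfsg.Agent.S2957

/-- Let p be a prime dividing the order of the finite group G, f an equivariant assignment of a set of subgroups f(P) of P to every p-subgroup P, each normalized by N_G(P), and S a Sylow p-subgroup. If G = G₁G₂ for subgroups G₁, G₂ both containing S and both regular for f (in each Gᵢ, the family of normalizers in Gᵢ of the members of f(P), P a Sylow p-subgroup of Gᵢ, controls Sylow p-intersections), then G itself is regular for f. -/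
theorem result {G : Type*} [Group G] [Finite G] (p : ℕ) [Fact p.Prime] (hdiv : p ∣ Nat.card G)
    (f : Subgroup G → Set (Subgroup G)) (hf : Cfsg.IsNormalizerFunctor p f) (S : Sylow p G)
    (G₁ G₂ : Subgroup G) (h₁ : (S : Subgroup G) ≤ G₁) (h₂ : (S : Subgroup G) ≤ G₂)
    (hprod : ∀ g : G, ∃ g₁ ∈ G₁, ∃ g₂ ∈ G₂, g = g₁ * g₂)
    (hr₁ : Cfsg.IsFunctorRegular p f G₁) (hr₂ : Cfsg.IsFunctorRegular p f G₂) :
    Cfsg.IsFunctorRegular p f ⊤ := by
  refine Cfsg.Agent.Lib.SylowControl.isFunctorRegular_top_of_linked fun A B _ hint => ?_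
  have hn := Cfsg.Agent.Lib.SylowControl.isNormalSet_functorFamily_top hf
  -- move `A` to `S`
  obtain ⟨a, ha⟩ := Cfsg.Agent.Lib.SylowControl.exists_sylowConjRight_eq S A
  set T := Cfsg.Agent.Lib.SylowControl.sylowConjRight a⁻¹ B with hT
  obtain ⟨g, hg⟩ := Cfsg.Agent.Lib.SylowControl.exists_sylowConjRight_eq S T
  set D := (S : Subgroup G) ⊓ T with hD
  have hDeq : Cfsg.subgroupConjRight a D = (A : Subgroup G) ⊓ B := by
    have hB : Cfsg.Agent.Lib.SylowControl.sylowConjRight a T = B := by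
      rw [hT, Cfsg.Agent.Lib.SylowControl.sylowConjRight_mul, inv_mul_cancel]
      exact Sylow.ext (Cfsg.Agent.Lib.SylowControl.subgroupConjRight_one _)
    rw [← ha, ← hB, Cfsg.Agent.Lib.SylowControl.sylowConjRight_coe,
      Cfsg.Agent.Lib.SylowControl.sylowConjRight_coe]
    exact Subgroup.map_inf _ _ _ (MulAut.conj a⁻¹).injective
  have hD1 : D ≠ ⊥ := by
    intro h0
    rw [h0] at hDeq
    exact hint (hDeq.symm.trans (Subgroup.map_bot _))
  obtain ⟨U, hDU, hU⟩ := Cfsg.Agent.S2940.result S G₁ G₂ h₁ h₂ hprod g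
  rw [show Cfsg.subgroupConjRight g (S : Subgroup G) = (T : Subgroup G) from
    congrArg (fun R : Sylow p G => (R : Subgroup G)) hg] at hDU
  -- from `S` to `U` inside `G₁`
  have l₁ := Cfsg.Agent.Lib.SylowControl.linked_of_regular hf hr₁ h₁ (hU.trans inf_le_left)
    (inf_le_left : D ≤ S) hDU hD1
  -- from `U` to `T` inside `G₂^g`
  set U' := Cfsg.Agent.Lib.SylowControl.sylowConjRight g⁻¹ U with hU'
  have hU'2 : (U' : Subgroup G) ≤ G₂ :=
    Cfsg.Agent.Lib.SylowControl.subgroupConjRight_inv_le (hU.trans inf_le_right)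
  have hS' : Cfsg.Agent.Lib.SylowControl.sylowConjRight g⁻¹ T = S := by
    rw [← hg, Cfsg.Agent.Lib.SylowControl.sylowConjRight_mul, mul_inv_cancel]
    exact Sylow.ext (Cfsg.Agent.Lib.SylowControl.subgroupConjRight_one _)
  have hDT : Cfsg.subgroupConjRight g⁻¹ D ≤ (S : Subgroup G) := by
    rw [← hS']
    exact Cfsg.Agent.Lib.SylowControl.subgroupConjRight_mono inf_le_right
  have hD'1 : Cfsg.subgroupConjRight g⁻¹ D ≠ ⊥ := fun h0 =>
    hD1 ((Subgroup.map_eq_bot_iff_of_injective _ (MulAut.conj _).injective).mp h0)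
  have l₂ := (Cfsg.Agent.Lib.SylowControl.linked_of_regular hf hr₂ hU'2 h₂
    (Cfsg.Agent.Lib.SylowControl.subgroupConjRight_mono hDU) hDT hD'1).conjRight hn g
  rw [Cfsg.Agent.Lib.SylowControl.subgroupConjRight_mul, inv_mul_cancel,
    Cfsg.Agent.Lib.SylowControl.subgroupConjRight_one, hg, hU',
    Cfsg.Agent.Lib.SylowControl.sylowConjRight_mul, inv_mul_cancel,
    show Cfsg.Agent.Lib.SylowControl.sylowConjRight 1 U = U from
      Sylow.ext (Cfsg.Agent.Lib.SylowControl.subgroupConjRight_one _)] at l₂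
  have l₃ : Cfsg.Agent.Lib.SylowControl.Linked p (Cfsg.functorFamily p f ⊤) D S T :=
    Relation.ReflTransGen.trans l₁ l₂
  have l := Cfsg.Agent.Lib.SylowControl.Linked.conjRight hn l₃ a
  rw [hDeq, ha, hT, Cfsg.Agent.Lib.SylowControl.sylowConjRight_mul, inv_mul_cancel,
    show Cfsg.Agent.Lib.SylowControl.sylowConjRight 1 B = B from
      Sylow.ext (Cfsg.Agent.Lib.SylowControl.subgroupConjRight_one _)] at l
  exact l

end Cfsg.Agent.S2957
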