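import Cfsg.Statements.S2958
import Mathlib

set_option autoImplicit false
open Cfsg

namespace Cfsg.Agent.S2958

/-- Let X, A, B be subgroups of a group G such that G is generated by the conjugates of X and every conjugate of X is contained in A or in B. Then A = G or B = G. -/
theorem result {G : Type*} [Group G] (X A B : Subgroup G) (hgen : (⨆ g : G, X.map (MulAut.conj g).toMonoidHom) = ⊤) (hcover : ∀ g : G, X.map (MulAut.conj g).toMonoidHom ≤ A ∨ X.map (MulAut.conj g).toMonoidHom ≤ B) : A = ⊤ ∨ B = ⊤ := by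
  by_contra hne
  push Not at hne
  obtain ⟨hA, hB⟩ := hne
  let Y : G → Subgroup G := fun g => X.map (MulAut.conj g).toMonoidHom
  let N : Subgroup G := ⨆ g : {g : G // ¬ Y g ≤ A}, Y g.1
  have hNB : N ≤ B := iSup_le fun g => (hcover g.1).resolve_left g.2
  have hmap : ∀ a g : G, (Y g).map (MulAut.conj a).toMonoidHom = Y (a * g) := by
    intro a g
    simp only [Y, Subgroup.map_map]
    congr 1
    ext x
    simp [mul_assoc]
  have hle : ∀ a ∈ A, N.map (MulAut.conj a).toMonoidHom ≤ N := by
    intro a ha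
    simp only [N, Subgroup.map_iSup]
    refine iSup_le fun g => ?_
    rw [hmap]
    have h : ¬ Y (a * g.1) ≤ A := by
      intro h
      apply g.2
      have h2 := Subgroup.map_mono (f := (MulAut.conj a⁻¹).toMonoidHom) h
      rw [hmap, inv_mul_cancel_left] at h2
      refine h2.trans ?_
      rintro _ ⟨x, hx, rfl⟩
      simpa using A.mul_mem (A.mul_mem (A.inv_mem ha) hx) ha
    exact le_iSup (fun g : {g : G // ¬ Y g ≤ A} => Y g.1) ⟨a * g.1, h⟩
  have hconjA : A ≤ Subgroup.normalizer (N : Set G) := by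
    intro a ha
    rw [Subgroup.mem_normalizer_iff]
    intro x
    constructor
    · intro hx
      simpa using hle a ha (Subgroup.mem_map_of_mem _ hx)
    · intro hx
      simpa [mul_assoc] using hle a⁻¹ (A.inv_mem ha) (Subgroup.mem_map_of_mem _ hx)
  have hall : (⊤ : Subgroup G) ≤ Subgroup.normalizer (N : Set G) := by
    rw [← hgen]
    refine iSup_le fun g => ?_
    by_cases h : Y g ≤ A
    · exact h.trans hconjA
    · exact (le_iSup (fun g : {g : G // ¬ Y g ≤ A} => Y g.1) ⟨g, h⟩).trans Subgroup.le_normalizer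
  obtain ⟨g₀, hg₀⟩ : ∃ g, ¬ Y g ≤ A := by
    by_contra h
    push Not at h
    exact hA (top_unique (hgen ▸ iSup_le h))
  apply hB
  refine top_unique (le_trans ?_ hNB)
  rw [← hgen]
  refine iSup_le fun g => ?_
  show Y g ≤ N
  have h2 : Y g = (Y g₀).map (MulAut.conj (g * g₀⁻¹)).toMonoidHom := by rw [hmap]; simp
  rw [h2]
  rintro _ ⟨x, hx, rfl⟩
  have hxN : x ∈ N := le_iSup (fun g : {g : G // ¬ Y g ≤ A} => Y g.1) ⟨g₀, hg₀⟩ hx
  simpa [mul_assoc] using (Subgroup.mem_normalizer_iff.mp (hall (Subgroup.mem_top (g * g₀⁻¹))) x).mp hxN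

end Cfsg.Agent.S2958
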