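import Cfsg.Statements.S2963
-- import your own Cfsg.Agent.* helpers here
import Mathlib

set_option autoImplicit false
open Cfsg
open scoped Pointwise

namespace Cfsg.Agent.S2963

theorem odd_choose_two_pow (a : ℕ) : ∀ r : ℕ, r < 2 ^ a → ¬ 2 ∣ (2 ^ a + r).choose (2 ^ a) := by
  induction a with
  | zero =>
    intro r hr
    have : r = 0 := by omega
    subst this
    simp
  | succ a ih =>
    intro r hr h
    have : Fact (Nat.Prime 2) := ⟨Nat.prime_two⟩
    have hl := Choose.choose_modEq_choose_mod_mul_choose_div_nat (p := 2)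
      (n := 2 ^ (a + 1) + r) (k := 2 ^ (a + 1))
    have h1 : 2 ^ (a + 1) % 2 = 0 := by simp [pow_succ]
    have h2 : (2 ^ (a + 1) + r) / 2 = 2 ^ a + r / 2 := by rw [pow_succ]; omega
    have h3 : 2 ^ (a + 1) / 2 = 2 ^ a := by rw [pow_succ]; omega
    rw [h1, h2, h3, Nat.choose_zero_right, one_mul] at hl
    refine ih (r / 2) (by rw [pow_succ] at hr; omega) ?_
    exact (Nat.ModEq.dvd_iff hl dvd_rfl).1 h

open MulAction in
theorem exists_fixed {G α : Type*} [Group G] [MulAction G α] [Finite α] {p : ℕ} [Fact p.Prime]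
    (S : Sylow p G) (h : ¬ p ∣ Nat.card α) : ∃ x : α, (S : Subgroup G) ≤ stabilizer G x := by
  obtain ⟨x, hx⟩ := S.2.nonempty_fixed_point_of_prime_not_dvd_card α h
  exact ⟨x, fun g hg => hx ⟨g, hg⟩⟩

/-- Let n be odd. If the symmetric group of degree n is a minimal parabolic group for the prime 2, that is, a Sylow 2-subgroup is not normal and lies in exactly one maximal subgroup, then n = 2^m + 1 for some natural number m. -/
theorem result (n : ℕ) (hn : Odd n) (h : Cfsg.IsPMinimal 2 (Equiv.Perm (Fin n))) : ∃ m : ℕ, n = 2 ^ m + 1 := by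
  classical
  have : Fact (Nat.Prime 2) := ⟨Nat.prime_two⟩
  obtain ⟨S⟩ : Nonempty (Sylow 2 (Equiv.Perm (Fin n))) := inferInstance
  obtain ⟨hnn, M, -, huniq⟩ := h S
  have hn1 : n ≠ 1 := by
    rintro rfl
    exact hnn ⟨fun x hx g => by
      have : g * x * g⁻¹ = x := Subsingleton.elim _ _
      rw [this]; exact hx⟩
  have hn3 : 3 ≤ n := by rcases hn with ⟨c, rfl⟩; omega
  by_contra hcon
  set a := Nat.log 2 (n - 1) with ha
  set k := 2 ^ a with hk
  have hlo : k ≤ n - 1 := Nat.pow_log_le_self 2 (by omega)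
  have hhi : n - 1 < 2 ^ (a + 1) := Nat.lt_pow_succ_log_self (by norm_num) _
  have hne : k ≠ n - 1 := fun he => hcon ⟨a, by omega⟩
  have ha1 : 1 ≤ a := Nat.log_pos (by norm_num) (by omega)
  have hk2 : 2 ≤ k := by
    calc 2 = 2 ^ 1 := rfl
      _ ≤ 2 ^ a := Nat.pow_le_pow_right (by norm_num) ha1
  have hkev : k % 2 = 0 := by
    obtain ⟨b, hb⟩ : ∃ b, a = b + 1 := ⟨a - 1, by omega⟩
    simp [hk, hb, pow_succ]
  have hnk : n = k + (n - k) := by omega
  have hr : n - k < 2 ^ a := by
    have : 2 ^ (a + 1) = k + k := by rw [hk, pow_succ]; omega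
    rcases hn with ⟨c, hc⟩
    omega
  have hnk2 : k + 2 ≤ n := by omega
  have hodd : ¬ 2 ∣ n.choose k := by
    have := odd_choose_two_pow a (n - k) hr
    rwa [← hk, ← hnk] at this
  have hnotdvd : ¬ 2 ∣ n := by rcases hn with ⟨c, hc⟩; omega
  -- fixed point
  obtain ⟨x, hx⟩ := exists_fixed (α := Fin n) S (by simpa using hnotdvd)
  obtain ⟨s, hs⟩ := exists_fixed (α := Set.powersetCard (Fin n) k) S
    (by rw [Set.powersetCard.card]; simpa using hodd)
  have hscard : ((s : Finset (Fin n)) : Set (Fin n)).ncard = k := by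
    rw [Set.ncard_coe_finset]; exact s.2
  rw [Set.powersetCard.stabilizer_coe] at hs
  set u : Set (Fin n) := ((s : Finset (Fin n)) : Set (Fin n)) with hu
  change (S : Subgroup _) ≤ MulAction.stabilizer (Equiv.Perm (Fin n)) u at hs
  have hcu : uᶜ.ncard = n - k := by
    rw [Set.ncard_compl, hscard, Nat.card_fin]
  have hco1 : IsCoatom (MulAction.stabilizer (Equiv.Perm (Fin n)) u) := by
    apply Equiv.Perm.isCoatom_stabilizer
    · rw [Set.nonempty_iff_ne_empty]; intro he; rw [he, Set.ncard_empty] at hscard; omega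
    · rw [Set.nonempty_iff_ne_empty]; intro he; rw [he, Set.ncard_empty] at hcu; omega
    · rw [hscard, Nat.card_fin]; omega
  have hxs : MulAction.stabilizer (Equiv.Perm (Fin n)) ({x} : Set (Fin n)) =
      MulAction.stabilizer (Equiv.Perm (Fin n)) x := by simp
  have hco2 : IsCoatom (MulAction.stabilizer (Equiv.Perm (Fin n)) x) := by
    rw [← hxs]
    apply Equiv.Perm.isCoatom_stabilizer
    · simp
    · rw [Set.nonempty_iff_ne_empty]; intro he
      have := Set.ncard_compl ({x} : Set (Fin n))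
      rw [he, Set.ncard_empty, Set.ncard_singleton, Nat.card_fin] at this
      omega
    · rw [Set.ncard_singleton, Nat.card_fin]; omega
  have heq := (huniq _ ⟨hco1, hs⟩).trans (huniq _ ⟨hco2, hx⟩).symm
  -- find a transposition stabilising u and moving x
  obtain ⟨y, hyx, hy⟩ : ∃ y, y ≠ x ∧ (y ∈ u ↔ x ∈ u) := by
    by_cases hxu : x ∈ u
    · obtain ⟨y, hy, hne⟩ := Set.exists_ne_of_one_lt_ncard (s := u) (by omega) x
      exact ⟨y, hne, by simp [hy, hxu]⟩
    · obtain ⟨y, hy, hne⟩ := Set.exists_ne_of_one_lt_ncard (s := uᶜ) (by omega) x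
      exact ⟨y, hne, by simp only [hxu, iff_false]; exact hy⟩
  have hmem : Equiv.swap x y ∈ MulAction.stabilizer (Equiv.Perm (Fin n)) u := by
    rw [MulAction.mem_stabilizer_set]
    intro z
    rw [Equiv.Perm.smul_def]
    by_cases h1 : z = x
    · subst h1; rw [Equiv.swap_apply_left]; exact hy
    by_cases h2 : z = y
    · subst h2; rw [Equiv.swap_apply_right]; exact hy.symm
    rw [Equiv.swap_apply_of_ne_of_ne h1 h2]
  rw [heq, MulAction.mem_stabilizer_iff, Equiv.Perm.smul_def, Equiv.swap_apply_left] at hmem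
  exact hyx hmem

end Cfsg.Agent.S2963
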