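import Cfsg.Statements.S2968
import Cfsg.Agent.Lib.CharP.IsolatedP

set_option autoImplicit false
open Cfsg

namespace Cfsg.Agent.S2968

/-- Let G be a finite group, p a prime, P a Sylow p-subgroup of G and x ∈ P an element of p-power order which is isolated in G (the only conjugate of x commuting with x is x itself). Then x lies in the centre of P, and the subgroup generated by x is both strongly closed and weakly closed in P with respect to G. -/
theorem result {G : Type*} [Group G] [Finite G] {p : ℕ} [Fact p.Prime] (P : Sylow p G) (x : G) (hxP : x ∈ (P : Subgroup G)) (hx : ∃ k : ℕ, orderOf x = p ^ k) (hiso : Cfsg.IsIsolated x) : x ∈ (P : Subgroup G) ⊓ Subgroup.centralizer ((P : Subgroup G) : Set G) ∧ Cfsg.IsStronglyClosed (Subgroup.zpowers x) (P : Subgroup G) ∧ Cfsg.IsWeaklyClosed (Subgroup.zpowers x) (P : Subgroup G) := by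
  have hcP := Cfsg.Agent.Lib.CharP.isolated_le_centralizer hiso P.isPGroup' hxP
  have hcen : ∀ y ∈ (P : Subgroup G), Commute x y := fun y hy =>
    (Subgroup.mem_centralizer_singleton_iff.mp (hcP hy)).symm
  refine ⟨⟨hxP, Subgroup.mem_centralizer_iff.mpr fun y hy => (hcen y hy).symm⟩,
    ⟨Subgroup.zpowers_le.mpr hxP, ?_⟩, ⟨Subgroup.zpowers_le.mpr hxP, ?_⟩⟩
  · intro y hy g hg
    obtain ⟨m, rfl⟩ := Subgroup.mem_zpowers_iff.mp hy
    have h := Cfsg.Agent.Lib.CharP.isolated_pow_eq hx hiso m (g := g)
      (by rw [conj_zpow]; exact hcen _ hg)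
    rw [conj_zpow] at h
    rw [h]
    exact zpow_mem (Subgroup.mem_zpowers x) m
  · intro g hg
    have h1 : g * x * g⁻¹ = x := hiso g (hcen _ (hg ⟨x, Subgroup.mem_zpowers x, rfl⟩))
    rw [MonoidHom.map_zpowers]
    exact congrArg Subgroup.zpowers h1

end Cfsg.Agent.S2968
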