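import Cfsg.Statements.S2969
import Cfsg.Agent.Lib.CharP.IsolatedP

set_option autoImplicit false
open Cfsg

namespace Cfsg.Agent.S2969

/-- Let G be a finite group, p a prime and x ∈ G an element of p-power order which is isolated in G. If R is a p-subgroup of G containing x, then N_G(R) ≤ C_G(x); in particular x lies in the centre of R. Moreover, if x lies in a normal subgroup N of a subgroup H of G, then H = N·C_H(x). -/
theorem result {G : Type*} [Group G] [Finite G] {p : ℕ} [Fact p.Prime] (x : G) (hx : ∃ k : ℕ, orderOf x = p ^ k) (hiso : Cfsg.IsIsolated x) : (∀ R : Subgroup G, IsPGroup p ↥R → x ∈ R → Subgroup.normalizer (R : Set G) ≤ Subgroup.centralizer ({x} : Set G)) ∧ (∀ H N : Subgroup G, N ≤ H → H ≤ Subgroup.normalizer (N : Set G) → x ∈ N → N ⊔ (H ⊓ Subgroup.centralizer ({x} : Set G)) = H) := by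
  refine ⟨fun R hR hxR u hu => ?_, fun H N hNH hHN hxN => ?_⟩
  · have hcR := Cfsg.Agent.Lib.CharP.isolated_le_centralizer hiso hR hxR
    have h1 := hiso u (Subgroup.mem_centralizer_singleton_iff.mp
      (hcR ((Subgroup.mem_normalizer_iff.mp hu x).mp hxR))).symm
    exact Subgroup.mem_centralizer_singleton_iff.mpr (mul_inv_eq_iff_eq_mul.mp h1)
  · refine le_antisymm (sup_le hNH inf_le_left) fun h hh => ?_
    obtain ⟨k, hk, hkx⟩ := Cfsg.Agent.Lib.CharP.isolated_exists_conj_mem hx hiso hxN (g := h)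
      ((Subgroup.mem_normalizer_iff.mp (hHN hh) x).mp hxN)
    have h2 : k * h ∈ H ⊓ Subgroup.centralizer ({x} : Set G) := by
      refine ⟨H.mul_mem (hNH hk) hh, Subgroup.mem_centralizer_singleton_iff.mpr ?_⟩
      rw [← mul_inv_eq_iff_eq_mul]
      simpa [mul_assoc] using hkx
    simpa using Subgroup.mul_mem_sup (N.inv_mem hk) h2

end Cfsg.Agent.S2969
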