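import Cfsg.Statements.S2970
import Cfsg.Agent.Lib.CharP.IsolatedP
import Cfsg.Agent.Lib.Coprime.Basic
import Cfsg.Agent.Lib.CharP.Basic

set_option autoImplicit false
open Cfsg

namespace Cfsg.Agent.S2970

/-- Let G be a finite group, p a prime and x ∈ G an element of p-power order which is isolated in G. Then the image of x in any quotient G ⧸ N is isolated in G ⧸ N; and if x ≠ 1 and the Sylow p-subgroups of G are cyclic, then G has a normal p-complement. -/
theorem result {G : Type*} [Group G] [Finite G] {p : ℕ} [Fact p.Prime] (x : G) (hx : ∃ k : ℕ, orderOf x = p ^ k) (hiso : Cfsg.IsIsolated x) : (∀ (N : Subgroup G) [N.Normal], Cfsg.IsIsolated (QuotientGroup.mk x : G ⧸ N)) ∧ (x ≠ 1 → (∀ P : Sylow p G, IsCyclic ↥(P : Subgroup G)) → Cfsg.HasNormalPComplement p G) := by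
  refine ⟨?_, ?_⟩
  · intro N hN g
    induction g using QuotientGroup.induction_on with
    | _ g =>
      intro hcom
      let f := QuotientGroup.mk' N
      obtain ⟨k, hk, hkx⟩ := Cfsg.Agent.Lib.CharP.isolated_exists_conj_mem hx hiso
        (K := (Subgroup.centralizer ({f (g * x * g⁻¹)} : Set (G ⧸ N))).comap f) (g := g)
        (Subgroup.mem_centralizer_singleton_iff.mpr hcom.eq)
        (Subgroup.mem_centralizer_singleton_iff.mpr rfl)
      have h1 : f k * f (g * x * g⁻¹) = f (g * x * g⁻¹) * f k :=
        Subgroup.mem_centralizer_singleton_iff.mp hk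
      have h2 := congrArg f hkx
      rw [map_mul, map_mul, map_inv, h1, mul_inv_cancel_right] at h2
      exact h2
  · intro hx1 hcyc
    obtain ⟨n, hn⟩ := hx
    obtain ⟨P, hP⟩ := (IsPGroup.of_card (p := p) (n := n)
      (show Nat.card (Subgroup.zpowers x) = p ^ n by rw [Nat.card_zpowers, hn])).exists_le_sylow
    have hxP : x ∈ (P : Subgroup G) := hP (Subgroup.mem_zpowers x)
    have := hcyc P
    letI := IsCyclic.commGroup (α := (P : Subgroup G))
    have hab : IsMulCommutative (P : Subgroup G) := ⟨⟨fun a b => mul_comm a b⟩⟩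
    set NP := Subgroup.normalizer ((P : Subgroup G) : Set G) with hNP
    -- `p'`-elements of the normalizer centralize `P`
    have hkey : ∀ a ∈ NP, (orderOf a).Coprime p →
        a ∈ Subgroup.centralizer ((P : Subgroup G) : Set G) := by
      intro a ha hcop
      have hA : Subgroup.zpowers a ≤ NP := Subgroup.zpowers_le.mpr ha
      have hc : (Nat.card (Subgroup.zpowers a)).Coprime (Nat.card (P : Subgroup G)) := by
        obtain ⟨m, hm⟩ := IsPGroup.iff_card.mp P.isPGroup'
        rw [Nat.card_zpowers, hm]
        exact hcop.pow_right m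
      have hxC : x ∈ (P : Subgroup G) ⊓ Subgroup.centralizer (Subgroup.zpowers a : Set G) := by
        have h1 : a * x * a⁻¹ = x := hiso a (congrArg Subtype.val (mul_comm (⟨x, hxP⟩ : (P : Subgroup G))
          ⟨_, (Subgroup.mem_normalizer_iff.mp ha x).mp hxP⟩))
        refine ⟨hxP, Subgroup.mem_centralizer_iff.mpr fun y hy => ?_⟩
        obtain ⟨i, rfl⟩ := Subgroup.mem_zpowers_iff.mp hy
        exact (Commute.zpow_left (show Commute a x from mul_inv_eq_iff_eq_mul.mp h1) i).eq
      have hdisj := Cfsg.Agent.Lib.Coprime.inf_centralizer_inf_commutator_eq_bot hA hc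
      have hPp : IsPGroup p (P : Subgroup G) := P.isPGroup'
      by_contra hne
      set W := ⁅(P : Subgroup G), Subgroup.zpowers a⁆ with hWdef
      have hW : W ≠ ⊥ := fun h => hne
        (Subgroup.le_centralizer_iff.mp (Subgroup.commutator_eq_bot_iff_le_centralizer.mp h)
          (Subgroup.mem_zpowers a))
      have hWP : W ≤ (P : Subgroup G) := Cfsg.Agent.Lib.Coprime.commutator_le_of_le_normalizer hA
      -- two nontrivial subgroups of a cyclic `p`-group meet
      set C := Subgroup.zpowers x with hC
      have hCne : C ≠ ⊥ := by simpa [hC] using hx1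
      have hsub : ∀ V : Subgroup G, V ≤ (P : Subgroup G) → V ≠ ⊥ →
          ∃ v ∈ V, orderOf v = p := by
        intro V hV hVne
        obtain ⟨v, hv⟩ := exists_prime_orderOf_dvd_card' (G := V) p
          ((hPp.to_le hV).card_eq_or_dvd.resolve_left fun h => hVne (Subgroup.eq_bot_of_card_eq _ h))
        exact ⟨v, v.2, by rwa [Subgroup.orderOf_coe]⟩
      obtain ⟨v, hvW, hv⟩ := hsub W hWP hW
      obtain ⟨w, hwC, hw⟩ := hsub C hP hCne
      have hCC : C ≤ (P : Subgroup G) ⊓ Subgroup.centralizer (Subgroup.zpowers a : Set G) :=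
        Subgroup.zpowers_le.mpr hxC
      have heq : (Subgroup.zpowers (⟨v, hWP hvW⟩ : (P : Subgroup G))) =
          Subgroup.zpowers (⟨w, hP hwC⟩ : (P : Subgroup G)) := by
        have key : ∀ u : (P : Subgroup G), orderOf u = p →
            Subgroup.zpowers u = (powMonoidHom p : (P : Subgroup G) →* (P : Subgroup G)).ker := by
          intro u hu
          refine Subgroup.eq_of_le_of_card_ge (Subgroup.zpowers_le.mpr ?_) ?_
          · rw [MonoidHom.mem_ker, powMonoidHom_apply]; exact orderOf_dvd_iff_pow_eq_one.mp hu.dvd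
          · rw [IsCyclic.card_powMonoidHom_ker, Nat.card_zpowers, hu]
            exact Nat.le_of_dvd (Fact.out : p.Prime).pos (Nat.gcd_dvd_right _ _)
        rw [key _ (by rw [← Subgroup.orderOf_coe]; exact hv),
          key _ (by rw [← Subgroup.orderOf_coe]; exact hw)]
      obtain ⟨i, hi⟩ := Subgroup.mem_zpowers_iff.mp
        (heq.le (Subgroup.mem_zpowers (⟨v, hWP hvW⟩ : (P : Subgroup G))))
      have hvC : v ∈ C := by
        have h' : w ^ i = v := by simpa using congrArg Subtype.val hi
        rw [← h']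
        exact zpow_mem hwC i
      have hv1 : v = 1 := Subgroup.mem_bot.mp (hdisj.le ⟨hCC hvC, hvW⟩)
      exact (Fact.out : p.Prime).ne_one (by rw [← hv, hv1, orderOf_one])
    have hNC : NP ≤ Subgroup.centralizer ((P : Subgroup G) : Set G) := by
      intro g hg
      set C := (Subgroup.centralizer ((P : Subgroup G) : Set G)).subgroupOf NP with hCdef
      have : C.Normal := Subgroup.normal_subgroupOf_of_le_normalizer
        (Cfsg.Agent.Lib.CharP.le_normalizer_centralizer le_rfl)
      have hPC : (P : Subgroup G).subgroupOf NP ≤ C := fun a ha =>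
        Subgroup.mem_centralizer_iff.mpr fun b hb =>
          congrArg Subtype.val (mul_comm (⟨b, hb⟩ : (P : Subgroup G)) ⟨(a : G), ha⟩)
      have hdvd : C.index ∣ ((P : Subgroup G).subgroupOf NP).index := Subgroup.index_dvd_of_le hPC
      have hcop : ¬ p ∣ C.index := fun h => P.not_dvd_index
        ((h.trans hdvd).trans (Subgroup.relIndex_dvd_index_of_le Subgroup.le_normalizer))
      obtain ⟨k, m, hm, hkm⟩ := Nat.exists_eq_pow_mul_and_not_dvd (orderOf_pos g).ne' p
        (Fact.out : p.Prime).ne_one
      have h1 : (⟨g, hg⟩ : NP) ^ (p ^ k) ∈ C := by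
        refine hkey _ (NP.pow_mem hg _) ?_
        show (orderOf (g ^ (p ^ k))).Coprime p
        rw [orderOf_pow, hkm, Nat.gcd_mul_right_left,
          Nat.mul_div_cancel_left m (pow_pos (Fact.out : p.Prime).pos k)]
        exact ((Fact.out : p.Prime).coprime_iff_not_dvd.mpr hm).symm
      have h2 : (⟨g, hg⟩ : NP) ^ C.index ∈ C := Subgroup.pow_index_mem C _
      have h3 : (QuotientGroup.mk' C) ⟨g, hg⟩ = 1 := by
        rw [← orderOf_eq_one_iff]
        refine Nat.eq_one_of_dvd_coprimes (Nat.Coprime.pow_left k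
          ((Fact.out : p.Prime).coprime_iff_not_dvd.mpr hcop)) ?_ ?_ <;>
          refine orderOf_dvd_of_pow_eq_one ?_
        · rw [← map_pow]; exact (QuotientGroup.eq_one_iff _).mpr h1
        · rw [← map_pow]; exact (QuotientGroup.eq_one_iff _).mpr h2
      exact (QuotientGroup.eq_one_iff (N := C) (⟨g, hg⟩ : NP)).mp h3
    exact ⟨P, _, inferInstance, MonoidHom.ker_transferSylow_isComplement' P hNC⟩

end Cfsg.Agent.S2970
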