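import Cfsg.Statements.S2971
import Mathlib
import Cfsg.Agent.Lib.CharP.IsolatedP
import Cfsg.Agent.Lib.CoprimeOmega.Basic
import Cfsg.Agent.Lib.Transfer.Criteria
import Cfsg.Agent.Lib.PSolvable.Core
import Cfsg.Agent.Lib.PGroup.ElemAbelian


set_option autoImplicit false
open Cfsg

namespace Cfsg.Agent.S2971

/-- Let G be a finite group and p an odd prime such that G has p-rank at most 1 (no elementary abelian subgroup of order p²). If x ∈ G is an isolated element of order p, then x is central modulo the largest normal subgroup of G of order prime to p. -/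
theorem result {G : Type*} [Group G] [Finite G] {p : ℕ} [Fact p.Prime] (hp : p ≠ 2) (hrk : Cfsg.PRankLE p 1 G) (x : G) (hx : orderOf x = p) (hiso : Cfsg.IsIsolated x) : Cfsg.InZStar p x := by
  have hx' : ∃ k : ℕ, orderOf x = p ^ k := ⟨1, by rw [pow_one, hx]⟩
  obtain ⟨P, hP⟩ := (IsPGroup.of_card (p := p) (n := 1)
    (show Nat.card (Subgroup.zpowers x) = p ^ 1 by rw [Nat.card_zpowers, hx, pow_one])).exists_le_sylow
  have hxP : x ∈ (P : Subgroup G) := hP (Subgroup.mem_zpowers x)
  have hPc := Lib.CharP.isolated_le_centralizer hiso P.2 hxP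
  -- the elements of order dividing `p` in `P`
  have hone : ∀ y ∈ (P : Subgroup G), y ^ p = 1 → y ∈ Subgroup.zpowers x := by
    intro y hy hyp
    have hxy : x * y = y * x := (Subgroup.mem_centralizer_singleton_iff.1 (hPc hy)).symm
    have hE := Lib.ElemAbelian.closure (p := p) (s := ({x, y} : Set G))
      (by rintro a (rfl | rfl) b (rfl | rfl) <;> first | rfl | exact hxy | exact hxy.symm)
      (by rintro a (rfl | rfl) <;> first | (rw [← hx]; exact pow_orderOf_eq_one _) | exact hyp)
    have hc := hrk _ hE.1 hE.2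
    rw [pow_one] at hc
    have e := Subgroup.eq_of_le_of_card_ge
      (Subgroup.zpowers_le.2 (Subgroup.subset_closure (Set.mem_insert x {y})))
      (by rwa [Nat.card_zpowers, hx])
    rw [e]
    exact Subgroup.subset_closure (Set.mem_insert_of_mem _ rfl)
  have hnc : Cfsg.HasNormalPComplement p G := by
    rw [Lib.Transfer.hasNormalPComplement_iff_locallyPTrivial]
    refine Lib.Transfer.locallyPTrivial_of_sylow P fun Q hQP g hg hgo => ?_
    rw [Subgroup.mem_centralizer_iff]
    intro q hq
    have hconj : ∀ y ∈ Q, g * y * g⁻¹ ∈ Q := fun y hy => (Subgroup.mem_normalizer_iff.1 hg y).1 hy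
    refine (Lib.CoprimeOmega.commute_of_commute_order_p hp hgo (P.2.to_le hQP) hconj ?_ q hq).symm
    intro y hy hyp
    by_cases hy1 : y = 1
    · rw [hy1]; simp
    have hyx := hone y (hQP hy) hyp
    have hxQ : x ∈ Q := by
      have hord : orderOf y = p := orderOf_eq_prime hyp hy1
      have e : Subgroup.zpowers y = Subgroup.zpowers x :=
        Subgroup.eq_of_le_of_card_ge (Subgroup.zpowers_le.2 hyx) (by rw [Nat.card_zpowers, Nat.card_zpowers, hord, hx])
      exact Subgroup.zpowers_le.2 hy (e ▸ Subgroup.mem_zpowers x)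
    have hgx : g * x * g⁻¹ = x :=
      hiso g (Subgroup.mem_centralizer_singleton_iff.1 (hPc (hQP (hconj x hxQ)))).symm
    obtain ⟨i, rfl⟩ := Subgroup.mem_zpowers_iff.1 hyx
    exact (Commute.zpow_right (show Commute g x from mul_inv_eq_iff_eq_mul.1 hgx) i).eq
  rw [Lib.Transfer.hasNormalPComplement_iff] at hnc
  have hcompl := Lib.Transfer.isComplement'_pResidual P hnc
  have hN : (Cfsg.pResidual p G).Normal := Lib.Transfer.pResidual_normal
  intro g
  obtain ⟨⟨n, c⟩, rfl⟩ := hcompl.2 g
  apply Lib.PSolvable.le_pPrimeCore ((Nat.Prime.coprime_iff_not_dvd Fact.out).2 hnc).symm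
  have hcx : (c : G) * x * (c : G)⁻¹ = x := by
    rw [Subgroup.mem_centralizer_singleton_iff.1 (hPc c.2), mul_inv_cancel_right]
  have e : (n : G) * c * x * ((n : G) * c)⁻¹ * x⁻¹ = n * (x * (n : G)⁻¹ * x⁻¹) := by
    calc (n : G) * c * x * ((n : G) * c)⁻¹ * x⁻¹ = n * ((c : G) * x * (c : G)⁻¹) * (n : G)⁻¹ * x⁻¹ := by group
      _ = _ := by rw [hcx]; group
  exact e ▸ mul_mem n.2 (hN.conj_mem _ (inv_mem n.2) x)

end Cfsg.Agent.S2971
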