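import Cfsg.Statements.S2972
import Mathlib
import Cfsg.Agent.Lib.CharP.IsolatedP
import Cfsg.Agent.Lib.PSolvable.Core
import Cfsg.Agent.Lib.PGroup.Omega
import Cfsg.Agent.Lib.PGroup.ElemAbelian
import Cfsg.Agent.Lib.Components.Subnormal


set_option autoImplicit false
open Cfsg

namespace Cfsg.Agent.S2972

/-- The basic facts about a minimal counterexample to the `Z*_p` statement. -/
theorem minimal_counterexample {G : Type*} [Group G] [Finite G] {p : ℕ} [Fact p.Prime] (x : G)
    (hx : orderOf x = p) (hiso : Cfsg.IsIsolated x) (hnz : ¬ Cfsg.InZStar p x)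
    (hmin : ∀ (H : Subgroup G) (hxH : x ∈ H), H ≠ ⊤ → Cfsg.InZStar p (⟨x, hxH⟩ : ↥H))
    (hquot : ∀ (N : Subgroup G) [N.Normal], N ≠ ⊥ → Cfsg.InZStar p (QuotientGroup.mk x : G ⧸ N)) :
    Cfsg.pPrimeCore p G = ⊥ ∧ (∀ C : Subgroup G, C.Normal → x ∈ C → C = ⊤) ∧
      x ∉ Subgroup.center G ∧ (∀ N : Subgroup G, N.Normal → IsPGroup p ↥N → N = ⊥) := by
  have h0 : Cfsg.pPrimeCore p G = ⊥ := by
    by_contra hne
    have : (Cfsg.pPrimeCore p G).Normal :=
      (have := Lib.PSolvable.pPrimeCore_characteristic (p := p) (G := G); inferInstance)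
    refine hnz fun g => ?_
    have h := hquot (Cfsg.pPrimeCore p G) hne (g : G ⧸ Cfsg.pPrimeCore p G)
    rw [Lib.PSolvable.pPrimeCore_quotient_eq_bot, Subgroup.mem_bot] at h
    rw [← QuotientGroup.eq_one_iff]
    simpa using h
  have hcen : x ∉ Subgroup.center G := fun h => hnz fun g => by
    rw [Subgroup.mem_center_iff.1 h g]; simp
  have hsup : ∀ C : Subgroup G, C.Normal → x ∈ C → C = ⊤ := by
    intro C hC hxC
    by_contra hne
    refine hcen (Subgroup.mem_center_iff.2 fun g => ?_)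
    have hgx : g * x * g⁻¹ ∈ C := hC.conj_mem x hxC g
    have hcore : (Cfsg.pPrimeCore p ↥C).map C.subtype = ⊥ := by
      rw [Lib.PSolvable.map_subtype_pPrimeCore_of_normal, h0, bot_inf_eq]
    have h := hmin C hxC hne ⟨g * x * g⁻¹, hgx⟩
    have h' : (g * x * g⁻¹) * x * (g * x * g⁻¹)⁻¹ * x⁻¹ = 1 := by
      rw [← Subgroup.mem_bot, ← hcore]
      exact ⟨_, h, rfl⟩
    have hc : (g * x * g⁻¹) * x = x * (g * x * g⁻¹) := by
      have := mul_inv_eq_iff_eq_mul.1 h'
      rw [one_mul, mul_inv_eq_iff_eq_mul] at this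
      exact this
    exact mul_inv_eq_iff_eq_mul.1 (hiso g hc.symm)
  refine ⟨h0, hsup, hcen, fun N hN hNp => ?_⟩
  by_contra hne
  have hxp : IsPGroup p ↥(Subgroup.zpowers x) :=
    IsPGroup.of_card (n := 1) (by rw [Nat.card_zpowers, hx, pow_one])
  have hNc : N ≤ Subgroup.centralizer ({x} : Set G) :=
    le_trans le_sup_left (Lib.CharP.isolated_le_centralizer hiso (hNp.to_sup_of_normal_left hxp)
      (Subgroup.mem_sup_right (Subgroup.mem_zpowers x)))
  have hxC : x ∈ Subgroup.centralizer (N : Set G) := fun n hn =>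
    Subgroup.mem_centralizer_singleton_iff.1 (hNc hn)
  have hCN : Subgroup.centralizer (N : Set G) = ⊤ := hsup _ (have := hN; inferInstance) hxC
  set f := QuotientGroup.mk' N with hf
  have : (Cfsg.pPrimeCore p (G ⧸ N)).Normal :=
    (have := Lib.PSolvable.pPrimeCore_characteristic (p := p) (G := G ⧸ N); inferInstance)
  set L := (Cfsg.pPrimeCore p (G ⧸ N)).comap f with hL
  have hNL : N ≤ L := fun n hn => by
    rw [hL, Subgroup.mem_comap, hf, QuotientGroup.mk'_apply, (QuotientGroup.eq_one_iff n).2 hn]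
    exact one_mem _
  set N' := N.subgroupOf L with hN'
  have hN'p : IsPGroup p ↥N' := IsPGroup.of_equiv hNp (Subgroup.subgroupOfEquivOfLe hNL).symm
  have hidx : ¬ p ∣ N'.index := by
    intro hd
    refine ((Nat.Prime.coprime_iff_not_dvd Fact.out).1
      (Nat.Coprime.symm (Lib.PSolvable.pPrimeCore_coprime (p := p) (G := G ⧸ N)))) ?_
    have hc := Lib.PSolvable.card_comap_mk' N (Cfsg.pPrimeCore p (G ⧸ N))
    have hi : Nat.card ↥N * N'.index = Nat.card ↥L := by
      rw [← Nat.card_congr (Subgroup.subgroupOfEquivOfLe hNL).toEquiv]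
      exact Subgroup.card_mul_index _
    rw [← Nat.eq_of_mul_eq_mul_left Nat.card_pos (hi.trans hc)]
    exact hd
  let S : Sylow p ↥L := hN'p.toSylow hidx
  have hc : Subgroup.normalizer ((S : Subgroup ↥L) : Set ↥L) ≤
      Subgroup.centralizer ((S : Subgroup ↥L) : Set ↥L) := fun a _ b hb =>
    Subtype.ext ((hCN.ge (Subgroup.mem_top (a : G))) b (Subgroup.mem_subgroupOf.1 hb))
  set M := (MonoidHom.transferSylow S hc).ker
  have hM : M = ⊥ := by
    have h1 : M ≤ Cfsg.pPrimeCore p ↥L :=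
      Lib.PSolvable.le_pPrimeCore ((Nat.Prime.coprime_iff_not_dvd Fact.out).2
        (MonoidHom.not_dvd_card_ker_transferSylow S hc)).symm
    have h2 : (Cfsg.pPrimeCore p ↥L).map L.subtype = ⊥ := by
      rw [Lib.PSolvable.map_subtype_pPrimeCore_of_normal, h0, bot_inf_eq]
    rw [Subgroup.map_eq_bot_iff_of_injective _ L.subtype_injective] at h2
    exact le_bot_iff.1 (h1.trans h2.le)
  refine hcen (Subgroup.mem_center_iff.2 fun g => ?_)
  have hmem : g * x * g⁻¹ * x⁻¹ ∈ L := by
    rw [hL, Subgroup.mem_comap]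
    simpa [hf] using hquot N hne (g : G ⧸ N)
  obtain ⟨⟨m, s⟩, hms⟩ := (MonoidHom.ker_transferSylow_isComplement' S hc).2 (⟨_, hmem⟩ : ↥L)
  have hm1 : (m : ↥L) = 1 := Subgroup.mem_bot.1 (hM ▸ m.2)
  have hcN : g * x * g⁻¹ * x⁻¹ ∈ N := by
    have e : ((m : ↥L) : G) * ((s : ↥L) : G) = g * x * g⁻¹ * x⁻¹ := congrArg Subtype.val hms
    rw [hm1, Subgroup.coe_one, one_mul] at e
    exact e ▸ Subgroup.mem_subgroupOf.1 s.2
  have hcomm := hxC _ hcN
  refine mul_inv_eq_iff_eq_mul.1 (hiso g ?_)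
  calc x * (g * x * g⁻¹) = x * (g * x * g⁻¹ * x⁻¹) * x := by group
    _ = (g * x * g⁻¹ * x⁻¹) * x * x := by rw [hcomm]
    _ = (g * x * g⁻¹) * x := by group


/-- Let G be a finite group, p a prime and x ∈ G an isolated element of order p (the only conjugate of x commuting with x is x) which is not central modulo the largest normal subgroup of order prime to p, while x is central modulo the largest normal subgroup of order prime to p in every proper subgroup containing x, and the image of x is so in every quotient of G by a nontrivial normal subgroup (a minimal counterexample to the Z*_p statement). Then the derived subgroup G' is a non-abelian simple group and G = G'⟨x⟩. -/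
theorem result {G : Type*} [Group G] [Finite G] {p : ℕ} [Fact p.Prime] (x : G) (hx : orderOf x = p) (hiso : Cfsg.IsIsolated x) (hnz : ¬ Cfsg.InZStar p x) (hmin : ∀ (H : Subgroup G) (hxH : x ∈ H), H ≠ ⊤ → Cfsg.InZStar p (⟨x, hxH⟩ : ↥H)) (hquot : ∀ (N : Subgroup G) [N.Normal], N ≠ ⊥ → Cfsg.InZStar p (QuotientGroup.mk x : G ⧸ N)) : IsSimpleGroup ↥(commutator G) ∧ ¬ IsMulCommutative ↥(commutator G) ∧ commutator G ⊔ Subgroup.zpowers x = ⊤ := by
  obtain ⟨h0, hsup, hcen, hnop⟩ := minimal_counterexample x hx hiso hnz hmin hquot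
  have hnab : ∀ N : Subgroup G, N.Normal → IsMulCommutative ↥N → N = ⊥ := by
    intro N hN hab
    by_contra hne
    have hdvd : p ∣ Nat.card N := by
      by_contra hd
      refine hne (le_bot_iff.1 ?_)
      rw [← h0]
      exact Lib.PSolvable.le_pPrimeCore ((Nat.Prime.coprime_iff_not_dvd Fact.out).2 hd).symm
    haveI := hab
    have hΩ := Lib.Omega.isElementaryAbelian (p := p) (H := N)
    obtain ⟨d, hd⟩ := exists_prime_orderOf_dvd_card' (G := N) p hdvd
    have hmemΩ : (d : G) ∈ Cfsg.omegaOne p N := Subgroup.subset_closure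
      ⟨d.2, by rw [← hd, ← Subgroup.orderOf_coe]; exact pow_orderOf_eq_one _⟩
    have hΩn : (Cfsg.omegaOne p N).Normal := by
      rw [← Subgroup.normalizer_eq_top_iff, eq_top_iff]
      exact le_trans (Subgroup.normalizer_eq_top_iff.2 hN).ge (Lib.Omega.normalizer_le p N)
    have h1 : (d : G) = 1 :=
      Subgroup.mem_bot.1 ((hnop _ hΩn (Lib.ElemAbelian.isPGroup hΩ)) ▸ hmemΩ)
    rw [← Subgroup.orderOf_coe, h1, orderOf_one] at hd
    exact (Fact.out : p.Prime).one_lt.ne hd
  have hG1 : commutator G ≠ ⊥ := by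
    intro h
    refine hcen ?_
    rw [commutator_def, Subgroup.commutator_eq_bot_iff_le_centralizer, Subgroup.coe_top,
      Subgroup.centralizer_univ] at h
    exact h (Subgroup.mem_top x)
  obtain ⟨N, hN, hN1, hNG', hNmin⟩ :=
    Lib.Components.exists_minimal_normal_le (inferInstance : (commutator G).Normal) hG1
  have hH : N ⊔ Subgroup.zpowers x = ⊤ := by
    by_contra hne
    set H := N ⊔ Subgroup.zpowers x with hHdef
    have hxH : x ∈ H := Subgroup.mem_sup_right (Subgroup.mem_zpowers x)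
    set K := (Cfsg.pPrimeCore p ↥H).map H.subtype with hK
    have hcore : (Cfsg.pPrimeCore p ↥N).map N.subtype = ⊥ := by
      rw [Lib.PSolvable.map_subtype_pPrimeCore_of_normal, h0, bot_inf_eq]
    have hKN : K ⊓ N ≤ ⊥ := by
      rw [← hcore]
      intro k hk
      refine ⟨⟨k, hk.2⟩, ?_, rfl⟩
      have hKn : H ≤ Subgroup.normalizer (K : Set G) := by
        have : (Cfsg.pPrimeCore p ↥H).Normal :=
          (have := Lib.PSolvable.pPrimeCore_characteristic (p := p) (G := ↥H); inferInstance)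
        intro h hh
        rw [Subgroup.mem_normalizer_iff_map_conj_eq]
        refine Subgroup.eq_of_le_of_card_ge ?_
          (le_of_eq (Nat.card_congr (K.equivMapOfInjective _ (MulAut.conj h).injective).toEquiv))
        rintro _ ⟨_, ⟨a, ha, rfl⟩, rfl⟩
        exact ⟨(⟨h, hh⟩ : ↥H) * a * (⟨h, hh⟩ : ↥H)⁻¹, this.conj_mem a ha _, rfl⟩
      have : (K.subgroupOf N).Normal := ⟨fun a ha b => Subgroup.mem_subgroupOf.2
        ((Subgroup.mem_normalizer_iff.1 (hKn (Subgroup.mem_sup_left b.2)) a).1 (Subgroup.mem_subgroupOf.1 ha))⟩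
      refine Lib.PSolvable.le_pPrimeCore (N := K.subgroupOf N) ?_ (Subgroup.mem_subgroupOf.2 hk.1)
      have hKc : (Nat.card ↥K).Coprime p := by
        rw [hK, Subgroup.card_map_of_injective Subtype.coe_injective]
        exact Lib.PSolvable.pPrimeCore_coprime
      exact Nat.Coprime.coprime_dvd_left (Subgroup.card_comap_dvd_of_injective K N.subtype
        N.subtype_injective) hKc
    have hxC : x ∈ Subgroup.centralizer (N : Set G) := by
      intro n hn
      have h1 : n * x * n⁻¹ * x⁻¹ ∈ K := ⟨_, hmin H hxH hne ⟨n, Subgroup.mem_sup_left hn⟩, rfl⟩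
      have h2 : n * x * n⁻¹ * x⁻¹ ∈ N := by
        rw [show n * x * n⁻¹ * x⁻¹ = n * (x * n⁻¹ * x⁻¹) by group]
        exact mul_mem hn (hN.conj_mem _ (inv_mem hn) x)
      have h3 := Subgroup.mem_bot.1 (hKN ⟨h1, h2⟩)
      rw [mul_inv_eq_iff_eq_mul, one_mul, mul_inv_eq_iff_eq_mul] at h3
      exact h3
    have := hsup _ (have := hN; inferInstance) hxC
    exact hN1 (hnab N hN (Subgroup.le_centralizer_iff_isMulCommutative.1 (this ▸ le_top)))
  have hGN : commutator G = N := by
    refine le_antisymm ?_ hNG'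
    rw [commutator_def, Subgroup.commutator_le]
    open scoped commutatorElement in
    intro a _ b _
    have hmem : ∀ a : G, (QuotientGroup.mk' N a) ∈ Subgroup.zpowers (QuotientGroup.mk' N x) := by
      intro a
      have : (⊤ : Subgroup G).map (QuotientGroup.mk' N) ≤ Subgroup.zpowers (QuotientGroup.mk' N x) := by
        rw [← hH, Subgroup.map_sup, (Subgroup.map_eq_bot_iff N).2 (QuotientGroup.ker_mk' N).ge,
          bot_sup_eq, MonoidHom.map_zpowers]
      exact this ⟨a, Subgroup.mem_top a, rfl⟩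
    rw [← QuotientGroup.eq_one_iff]
    obtain ⟨i, hi⟩ := Subgroup.mem_zpowers_iff.1 (hmem a)
    obtain ⟨j, hj⟩ := Subgroup.mem_zpowers_iff.1 (hmem b)
    show QuotientGroup.mk' N ⁅a, b⁆ = 1
    rw [map_commutatorElement, ← hi, ← hj, commutatorElement_eq_one_iff_mul_comm]
    exact ((Commute.refl _).zpow_zpow i j).eq
  subst hGN
  refine ⟨?_, fun h => hN1 (hnab _ hN h), hH⟩
  have : Nontrivial ↥(commutator G) := (Subgroup.nontrivial_iff_ne_bot _).2 hN1
  refine ⟨fun T hT => ?_⟩
  by_contra hTne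
  push Not at hTne
  obtain ⟨hT1, hT2⟩ := hTne
  obtain ⟨T₀, hT₀, hT₀1, hT₀T, hT₀min⟩ := Lib.Components.exists_minimal_normal_le hT hT1
  have hT₀2 : T₀ ≠ ⊤ := fun h => hT2 (eq_top_iff.2 (h ▸ hT₀T))
  set T' := T₀.map (commutator G).subtype with hT'
  have hT'1 : T' ≠ ⊥ := fun h => hT₀1 ((Subgroup.map_eq_bot_iff_of_injective _ Subtype.coe_injective).1 h)
  have hT'N : T' ≤ commutator G := Subgroup.map_subtype_le _
  have hNT : commutator G ≤ Subgroup.normalizer (T' : Set G) := by
    intro n hn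
    rw [Subgroup.mem_normalizer_iff_map_conj_eq]
    refine Subgroup.eq_of_le_of_card_ge ?_
      (le_of_eq (Nat.card_congr (T'.equivMapOfInjective _ (MulAut.conj n).injective).toEquiv))
    rintro _ ⟨_, ⟨a, ha, rfl⟩, rfl⟩
    exact ⟨(⟨n, hn⟩ : ↥(commutator G)) * a * (⟨n, hn⟩ : ↥(commutator G))⁻¹, hT₀.conj_mem a ha _, rfl⟩
  have hxT : x ∉ Subgroup.normalizer (T' : Set G) := by
    intro h
    have hn : T'.Normal := by
      rw [← Subgroup.normalizer_eq_top_iff, eq_top_iff, ← hH]
      exact sup_le hNT (Subgroup.zpowers_le.2 h)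
    rcases hNmin T' hn hT'N with h | h
    · exact hT'1 h
    · exact hT₀2 (Subgroup.map_injective (commutator G).subtype_injective
        (by rw [← MonoidHom.range_eq_map, Subgroup.range_subtype]; exact h))
  -- `p` divides the order of `T'`
  have hdvd : p ∣ Nat.card T₀ := by
    by_contra hd
    have h1 : T₀ ≤ Cfsg.pPrimeCore p ↥(commutator G) :=
      Lib.PSolvable.le_pPrimeCore ((Nat.Prime.coprime_iff_not_dvd Fact.out).2 hd).symm
    have h2 : (Cfsg.pPrimeCore p ↥(commutator G)).map (commutator G).subtype = ⊥ := by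
      rw [Lib.PSolvable.map_subtype_pPrimeCore_of_normal, h0, bot_inf_eq]
    rw [Subgroup.map_eq_bot_iff_of_injective _ (commutator G).subtype_injective] at h2
    exact hT₀1 (le_bot_iff.1 (h1.trans h2.le))
  obtain ⟨d₀, hd₀⟩ := exists_prime_orderOf_dvd_card' (G := T₀) p hdvd
  set d : G := ((d₀ : ↥(commutator G)) : G)
  have hd : orderOf d = p := by simp only [d, Subgroup.orderOf_coe]; exact hd₀
  have hdT : d ∈ T' := ⟨(d₀ : ↥(commutator G)), d₀.2, rfl⟩
  -- `d` and `x` lie in conjugate Sylow subgroups, conjugate by an element of `commutator G`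
  obtain ⟨P, hP⟩ := (IsPGroup.of_card (p := p) (n := 1)
    (show Nat.card (Subgroup.zpowers x) = p ^ 1 by rw [Nat.card_zpowers, hx, pow_one])).exists_le_sylow
  have hxP : x ∈ (P : Subgroup G) := hP (Subgroup.mem_zpowers x)
  obtain ⟨Q, hQ⟩ := (IsPGroup.of_card (p := p) (n := 1)
    (show Nat.card (Subgroup.zpowers d) = p ^ 1 by rw [Nat.card_zpowers, hd, pow_one])).exists_le_sylow
  obtain ⟨g, rfl⟩ := MulAction.exists_smul_eq G P Q
  have hgm : g ∈ ((commutator G ⊔ Subgroup.zpowers x : Subgroup G) : Set G) := by rw [hH]; trivial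
  rw [Subgroup.normal_mul] at hgm
  obtain ⟨n, hn, xi, hxi, rfl⟩ := Set.mem_mul.1 hgm
  obtain ⟨c, hc, hcd⟩ := (show d ∈ ((P : Subgroup G).map (MulAut.conj (n * xi)).toMonoidHom) from hQ (Subgroup.mem_zpowers d))
  set d' := xi * c * xi⁻¹ with hd'
  have hdd' : d = n * d' * n⁻¹ := by
    rw [← hcd, hd']; simp [mul_assoc]
  have hd'P : d' ∈ (P : Subgroup G) :=
    mul_mem (mul_mem (hP hxi) hc) (inv_mem (hP hxi))
  have hd'T : d' ∈ T' := (Subgroup.mem_normalizer_iff.1 (hNT hn) d').2 (hdd' ▸ hdT)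
  have hd'1 : d' ≠ 1 := fun h => (Fact.out : p.Prime).ne_one (by rw [← hd, hdd', h]; simp)
  have hxd : x * d' * x⁻¹ = d' := by
    rw [← Subgroup.mem_centralizer_singleton_iff.1
      (Lib.CharP.isolated_le_centralizer hiso P.2 hxP hd'P), mul_inv_cancel_right]
  -- but `T'` meets its conjugate by `x` trivially
  set T₁ := T'.map (MulAut.conj x).toMonoidHom with hT₁
  have hT₁N : T₁ ≤ commutator G := by
    rintro _ ⟨a, ha, rfl⟩
    exact hN.conj_mem a (hT'N ha) x
  have hNT₁ : commutator G ≤ Subgroup.normalizer (T₁ : Set G) := by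
    intro n hn
    rw [Subgroup.mem_normalizer_iff_map_conj_eq]
    refine Subgroup.eq_of_le_of_card_ge ?_
      (le_of_eq (Nat.card_congr (T₁.equivMapOfInjective _ (MulAut.conj n).injective).toEquiv))
    rintro _ ⟨_, ⟨a, ha, rfl⟩, rfl⟩
    refine ⟨(x⁻¹ * n * x) * a * (x⁻¹ * n * x)⁻¹, (Subgroup.mem_normalizer_iff.1 (hNT ?_) a).1 ha, ?_⟩
    · simpa using hN.conj_mem n hn x⁻¹
    · simp [mul_assoc]
  have hIn : ((T' ⊓ T₁).subgroupOf (commutator G)).Normal := ⟨fun a ha b => by
    rw [Subgroup.mem_subgroupOf] at ha ⊢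
    exact ⟨(Subgroup.mem_normalizer_iff.1 (hNT b.2) _).1 ha.1, (Subgroup.mem_normalizer_iff.1 (hNT₁ b.2) _).1 ha.2⟩⟩
  have hIle : (T' ⊓ T₁).subgroupOf (commutator G) ≤ T₀ := by
    intro a ha
    obtain ⟨b, hb, hba⟩ := (Subgroup.mem_subgroupOf.1 ha).1
    exact (Subtype.ext hba : b = a) ▸ hb
  rcases hT₀min _ hIn hIle with h | h
  · refine hd'1 ?_
    have hmem : (⟨d', hT'N hd'T⟩ : ↥(commutator G)) ∈ (T' ⊓ T₁).subgroupOf (commutator G) :=
      Subgroup.mem_subgroupOf.2 ⟨hd'T, ⟨d', hd'T, by simpa using hxd⟩⟩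
    rw [h, Subgroup.mem_bot] at hmem
    exact congrArg Subtype.val hmem
  · refine hxT (Subgroup.mem_normalizer_iff_map_conj_eq.2 ?_)
    have hle : T' ≤ T₁ := by
      rintro _ ⟨a, ha, rfl⟩
      rw [← h] at ha
      exact (Subgroup.mem_subgroupOf.1 ha).2
    exact (Subgroup.eq_of_le_of_card_ge hle
      (le_of_eq (Nat.card_congr (T'.equivMapOfInjective _ (MulAut.conj x).injective).toEquiv).symm)).symm

end Cfsg.Agent.S2972
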