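import Cfsg.Statements.S2975
import Mathlib
import Cfsg.Agent.S2972
import Cfsg.Agent.Lib.CharP.IsolatedP
import Cfsg.Agent.Lib.PSolvable.Core
import Cfsg.Agent.Lib.Coprime.Sylow


set_option autoImplicit false
open Cfsg

namespace Cfsg.Agent.S2975

/-- Let G be a finite group, p a prime and x ∈ G an isolated element of order p (the only conjugate of x commuting with x is x) which is not central modulo the largest normal subgroup of order prime to p, while x is central modulo the largest normal subgroup of order prime to p in every proper subgroup containing x, and the image of x is so in every quotient of G by a nontrivial normal subgroup (a minimal counterexample to the Z*_p statement). Then for every prime q, every q-subgroup of G that is normalized by x and maximal among the q-subgroups normalized by x is either trivial or a Sylow q-subgroup of G; and C_G(x) permutes the x-invariant Sylow q-subgroups of G transitively by conjugation. -/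
theorem result {G : Type*} [Group G] [Finite G] {p : ℕ} [Fact p.Prime] (x : G) (hx : orderOf x = p) (hiso : Cfsg.IsIsolated x) (hnz : ¬ Cfsg.InZStar p x) (hmin : ∀ (H : Subgroup G) (hxH : x ∈ H), H ≠ ⊤ → Cfsg.InZStar p (⟨x, hxH⟩ : ↥H)) (hquot : ∀ (N : Subgroup G) [N.Normal], N ≠ ⊥ → Cfsg.InZStar p (QuotientGroup.mk x : G ⧸ N)) (q : ℕ) [Fact q.Prime] : (∀ Q : Subgroup G, IsPGroup q ↥Q → x ∈ Subgroup.normalizer (Q : Set G) → (∀ R : Subgroup G, IsPGroup q ↥R → x ∈ Subgroup.normalizer (R : Set G) → Q ≤ R → R = Q) → Q = ⊥ ∨ ∃ S : Sylow q G, (S : Subgroup G) = Q) ∧ (∀ S₁ S₂ : Sylow q G, x ∈ Subgroup.normalizer ((S₁ : Subgroup G) : Set G) → x ∈ Subgroup.normalizer ((S₂ : Subgroup G) : Set G) → ∃ c ∈ Subgroup.centralizer ({x} : Set G), (S₁ : Subgroup G).map (MulAut.conj c).toMonoidHom = (S₂ : Subgroup G)) := by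
  obtain ⟨h0, hsup, -, hnop⟩ := S2972.minimal_counterexample x hx hiso hnz hmin hquot
  have hx' : ∃ k : ℕ, orderOf x = p ^ k := ⟨1, by rw [pow_one, hx]⟩
  have hxp : IsPGroup p ↥(Subgroup.zpowers x) :=
    IsPGroup.of_card (n := 1) (by rw [Nat.card_zpowers, hx, pow_one])
  refine ⟨?_, ?_⟩
  · intro Q hQ hxQ hmax
    by_cases hQ1 : Q = ⊥
    · exact Or.inl hQ1
    refine Or.inr ?_
    set N := Subgroup.normalizer (Q : Set G) with hNdef
    have hNtop : N ≠ ⊤ := by
      intro h
      have hQn : Q.Normal := Subgroup.normalizer_eq_top_iff.1 h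
      by_cases hqp : q = p
      · subst hqp; exact hQ1 (hnop Q hQn hQ)
      · refine hQ1 (le_bot_iff.1 (h0 ▸ Lib.PSolvable.le_pPrimeCore ?_))
        obtain ⟨n, hn⟩ := hQ.exists_card_eq
        rw [hn]
        exact Nat.Coprime.pow_left _ ((Nat.coprime_primes Fact.out Fact.out).2 hqp)
    -- a Sylow `q`-subgroup of `N` normalized by `x`
    obtain ⟨S, hxS⟩ : ∃ S : Sylow q ↥N,
        x ∈ Subgroup.normalizer (((S : Subgroup ↥N).map N.subtype : Subgroup G) : Set G) := by
      by_cases hqp : q = p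
      · subst hqp
        obtain ⟨S, hS⟩ := (IsPGroup.of_equiv hxp
          (Subgroup.subgroupOfEquivOfLe (Subgroup.zpowers_le.2 hxQ : Subgroup.zpowers x ≤ N)).symm).exists_le_sylow
        exact ⟨S, Subgroup.le_normalizer
          ⟨⟨x, hxQ⟩, hS (Subgroup.mem_subgroupOf.2 (Subgroup.mem_zpowers x)), rfl⟩⟩
      · have hInZ := hmin N hxQ hNtop
        set K := Cfsg.pPrimeCore p ↥N with hK
        have : K.Normal := (have := Lib.PSolvable.pPrimeCore_characteristic (p := p) (G := ↥N); inferInstance)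
        obtain ⟨T⟩ := (inferInstance : Nonempty (Sylow q ↥N))
        set X := (T : Subgroup ↥N) ⊔ K with hX
        set xN : ↥N := ⟨x, hxQ⟩ with hxN
        have hnX : xN ∈ Subgroup.normalizer (X : Set ↥N) := by
          rw [Subgroup.mem_normalizer_iff_map_conj_eq]
          refine Subgroup.eq_of_le_of_card_ge ?_
            (le_of_eq (Nat.card_congr (X.equivMapOfInjective _ (MulAut.conj xN).injective).toEquiv))
          rintro _ ⟨t, ht, rfl⟩
          have h1 : t * xN * t⁻¹ * xN⁻¹ ∈ X := Subgroup.mem_sup_right (hInZ t)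
          have := mul_mem (inv_mem h1) ht
          simpa [mul_assoc] using this
        have hA : Subgroup.zpowers xN ≤ Subgroup.normalizer (X : Set ↥N) := Subgroup.zpowers_le.2 hnX
        have hcop : (Nat.card ↥(Subgroup.zpowers xN)).Coprime (Nat.card ↥X) := by
          rw [Nat.card_zpowers, show orderOf xN = p by rw [← hx, ← Subgroup.orderOf_coe]]
          rw [hX, sup_comm]
          refine (Lib.PSolvable.coprime_card_sup Lib.PSolvable.pPrimeCore_coprime ?_).symm
          obtain ⟨n, hn⟩ := T.2.exists_card_eq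
          rw [hn]
          exact Nat.Coprime.pow_left _ ((Nat.coprime_primes Fact.out Fact.out).2 hqp)
        obtain ⟨S₀, hS₀⟩ := Lib.Coprime.exists_invariant_sylow (p := q) hA hcop (Or.inl inferInstance)
        set S₁ := (S₀ : Subgroup ↥X).map X.subtype with hS₁
        have hS₁c : Nat.card ↥S₁ = Nat.card ↥(T : Subgroup ↥N) := by
          rw [hS₁, Subgroup.card_map_of_injective X.subtype_injective,
            Nat.card_congr (S₀.equiv (T.subtype (le_sup_left : (T : Subgroup ↥N) ≤ X))).toEquiv]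
          exact Nat.card_congr (Subgroup.subgroupOfEquivOfLe le_sup_left).toEquiv
        obtain ⟨S, hS⟩ := (S₀.2.map X.subtype).exists_le_sylow
        have hSeq : S₁ = (S : Subgroup ↥N) := Subgroup.eq_of_le_of_card_ge hS
          (by rw [hS₁c]; exact le_of_eq (Nat.card_congr (S.equiv T).toEquiv))
        refine ⟨S, ?_⟩
        rw [← hSeq, Subgroup.mem_normalizer_iff_map_conj_eq]
        have h1 := Subgroup.mem_normalizer_iff_map_conj_eq.1 (hS₀ (Subgroup.mem_zpowers xN))
        show (S₁.map N.subtype).map (MulAut.conj x).toMonoidHom = S₁.map N.subtype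
        refine Subgroup.eq_of_le_of_card_ge ?_
          (le_of_eq (Nat.card_congr ((S₁.map N.subtype).equivMapOfInjective _ (MulAut.conj x).injective).toEquiv))
        rintro _ ⟨_, ⟨b, hb, rfl⟩, rfl⟩
        exact ⟨MulAut.conj xN b, h1.le ⟨b, hb, rfl⟩, rfl⟩
    -- maximality
    have hQN : Q ≤ N := Subgroup.le_normalizer
    have hQS : Q ≤ (S : Subgroup ↥N).map N.subtype := by
      have : (Q.subgroupOf N).Normal := (Subgroup.normal_subgroupOf_iff_le_normalizer hQN).2 le_rfl
      intro a ha
      exact ⟨⟨a, hQN ha⟩,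
        (IsPGroup.of_equiv hQ (Subgroup.subgroupOfEquivOfLe hQN).symm).le_sylow_of_normal S
          (Subgroup.mem_subgroupOf.2 ha), rfl⟩
    have hSQ : (S : Subgroup ↥N).map N.subtype = Q := hmax _ (S.2.map _) hxS hQS
    obtain ⟨R, hR⟩ := hQ.exists_le_sylow
    refine ⟨R, ?_⟩
    by_contra hne
    have hlt : Q.subgroupOf (R : Subgroup G) < ⊤ := lt_top_iff_ne_top.2 fun h =>
      hne (le_antisymm (Subgroup.subgroupOf_eq_top.1 h) hR)
    have hnil : Group.IsNilpotent ↥(R : Subgroup G) := R.2.isNilpotent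
    obtain ⟨r, hr, hrQ⟩ := SetLike.exists_of_lt (Group.normalizerCondition_of_isNilpotent _ hlt)
    refine hrQ (Subgroup.mem_subgroupOf.2 ?_)
    have hrN : (r : G) ∈ N := by
      refine Subgroup.mem_normalizer_iff_map_conj_eq.2 (Subgroup.eq_of_le_of_card_ge ?_
        (le_of_eq (Nat.card_congr (Q.equivMapOfInjective _ (MulAut.conj (r : G)).injective).toEquiv)))
      rintro _ ⟨a, ha, rfl⟩
      exact Subgroup.mem_subgroupOf.1 ((Subgroup.mem_normalizer_iff.1 hr ⟨a, hR ha⟩).1 (Subgroup.mem_subgroupOf.2 ha))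
    set W := ((R : Subgroup G) ⊓ N).subgroupOf N with hW
    have hWp : IsPGroup q ↥W :=
      IsPGroup.of_equiv (R.2.to_le inf_le_left) (Subgroup.subgroupOfEquivOfLe inf_le_right).symm
    have hSW : (S : Subgroup ↥N) ≤ W := fun s hs => by
      have : (s : G) ∈ Q := hSQ ▸ ⟨s, hs, rfl⟩
      exact Subgroup.mem_subgroupOf.2 ⟨hR this, s.2⟩
    have hWS := S.3 hWp hSW
    rw [← hSQ]
    exact ⟨⟨r, hrN⟩, hWS.le (Subgroup.mem_subgroupOf.2 ⟨r.2, hrN⟩), rfl⟩
  · intro S₁ S₂ h₁ h₂
    obtain ⟨g, hg⟩ := MulAction.exists_smul_eq G S₁ S₂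
    have hgx : g * x * g⁻¹ ∈ Subgroup.normalizer ((S₂ : Subgroup G) : Set G) := by
      refine Sylow.smul_eq_iff_mem_normalizer.1 ?_
      rw [← hg, ← mul_smul, inv_mul_cancel_right, mul_smul, Sylow.smul_eq_iff_mem_normalizer.2 h₁]
    obtain ⟨k, hk, hkx⟩ := Lib.CharP.isolated_exists_conj_mem hx' hiso h₂ hgx
    refine ⟨k * g, ?_, ?_⟩
    · rw [Subgroup.mem_centralizer_singleton_iff, ← mul_inv_eq_iff_eq_mul]
      simpa [mul_assoc] using hkx
    · have : (k * g) • S₁ = S₂ := by rw [mul_smul, hg]; exact Sylow.smul_eq_iff_mem_normalizer.2 hk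
      rw [← this]
      rfl

end Cfsg.Agent.S2975
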