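import Cfsg.Statements.S2981
import Cfsg.Agent.Lib.FFComp.Concrete
import Cfsg.Agent.Lib.BTBlock.Section
import Cfsg.Agent.Lib.PSolvable.Core

set_option autoImplicit false
open Cfsg
open Cfsg.Agent.Lib Cfsg.Agent.Lib.FFComp

namespace Cfsg.Agent.S2981

/-- The local C**(G,T)-Theorem for minimal parabolic groups. Let G be a finite p-minimal group (a Sylow p-subgroup T is not normal and lies in exactly one maximal subgroup) of characteristic p (C_G(O_p(G)) ≤ O_p(G)), and suppose G ≠ C**(G,T), the subgroup generated by C_G(Ω₁(Z(T))) and N_G(J(T)) (J(T) generated by the elementary abelian p-subgroups of T of largest order). Put V = Ω₁(Z(O_p(G))) and C = C_G(V). Then there are subgroups E₁, …, E_r of G containing C such that: J(G)TC = G and the E_i C/C form an internal direct product equal to J(G)C/C; any two of the E_i are conjugate by an element of T; V = C_V(⟨E_i⟩)·∏[V, E_i] with [V, E_i, E_j] = 1 for i ≠ j; for some n ≥ 1, each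 E_i/C is isomorphic to SL₂(pⁿ), or p = 2 and to the symmetric group of degree 2ⁿ + 1; and E_i acts on [V, E_i]/C_{[V,E_i]}(E_i) as the natural two-dimensional SL₂(pⁿ)-module, respectively as the symmetric group of degree 2ⁿ+1 on its even-weight permutation module. -/
theorem result {G : Type*} [Group G] [Finite G] {p : ℕ} [Fact p.Prime] (hmin : Cfsg.IsPMinimal p G) (hG : Subgroup.centralizer (Cfsg.pCore p G : Set G) ≤ Cfsg.pCore p G) (T : Sylow p G) (hne : Cfsg.cStarStarOf p (T : Subgroup G) ≠ ⊤) : ∃ (r : ℕ) (E : Fin r → Subgroup G), (∀ i, Subgroup.centralizer (Cfsg.omegaOneCenter p (Cfsg.pCore p G) : Set G) ≤ E i) ∧ Cfsg.thompsonSubgroup p G ⊔ (T : Subgroup G) ⊔ Subgroup.centralizer (Cfsg.omegaOneCenter p (Cfsg.pCore p G) : Set G) = ⊤ ∧ (⨆ i, E i) = Cfsg.thompsonSubgroup p G ⊔ Subgroup.centralizer (Cfsg.omegaOneCenter p (Cfsg.pCore p G) : Set G) ∧ (∀ i j, i ≠ j → ⁅E i, E j⁆ ≤ Subgroup.centralizer (Cfsg.omegaOneCenter p (Cfsg.pCore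 p G) : Set G)) ∧ (∀ i, E i ⊓ (⨆ j ∈ {j | j ≠ i}, E j) ≤ Subgroup.centralizer (Cfsg.omegaOneCenter p (Cfsg.pCore p G) : Set G)) ∧ (∀ i j, ∃ t ∈ (T : Subgroup G), (E i).map (MulAut.conj t).toMonoidHom = E j) ∧ (Cfsg.omegaOneCenter p (Cfsg.pCore p G) ⊓ Subgroup.centralizer ((⨆ i, E i : Subgroup G) : Set G)) ⊔ (⨆ i, ⁅Cfsg.omegaOneCenter p (Cfsg.pCore p G), E i⁆) = Cfsg.omegaOneCenter p (Cfsg.pCore p G) ∧ (∀ i j, i ≠ j → ⁅⁅Cfsg.omegaOneCenter p (Cfsg.pCore p G), E i⁆, E j⁆ = ⊥) ∧ ∀ i, ∃ n : ℕ, 1 ≤ n ∧ ((∃ (F : Type) (_ : Field F) (_ : Fintype F), Fintype.card F = p ^ n ∧ (∃ _ : ((Subgroup.centralizer (Cfsg.omegaOneCenter p (Cfsg.pCore p G) : Set G)).subgroupOf (E i)).Normal, Nonempty (↥(E i) ⧸ (Subgroup.centralizer (Cfsg.omegaOneCenter p (Cfsg.pCore p G) : Set G)).subgroupOf (E i) ≃* Matrix.SpecialLinearGroup (Fin 2) F)) ∧ Cfsg.ActsAsSL2OnSection F ⊤ (E i) ⁅Cfsg.omegaOneCenter p (Cfsg.pCore p G), E i⁆ (⁅Cfsg.omegaOneCenter p (Cfsg.pCore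 p G), E i⁆ ⊓ Subgroup.centralizer ((E i : Subgroup G) : Set G))) ∨ (p = 2 ∧ (∃ _ : ((Subgroup.centralizer (Cfsg.omegaOneCenter p (Cfsg.pCore p G) : Set G)).subgroupOf (E i)).Normal, Nonempty (↥(E i) ⧸ (Subgroup.centralizer (Cfsg.omegaOneCenter p (Cfsg.pCore p G) : Set G)).subgroupOf (E i) ≃* Equiv.Perm (Fin (2 ^ n + 1)))) ∧ Cfsg.ActsAsOddPermModuleOnSection (2 ^ n + 1) ⊤ (E i) ⁅Cfsg.omegaOneCenter p (Cfsg.pCore p G), E i⁆ (⁅Cfsg.omegaOneCenter p (Cfsg.pCore p G), E i⁆ ⊓ Subgroup.centralizer ((E i : Subgroup G) : Set G)))) := by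
  classical
  set Q := Cfsg.pCore p G with hQdef
  set V := Cfsg.omegaOneCenter p Q with hVdef
  set C := Subgroup.centralizer (V : Set G) with hCdef
  obtain ⟨hVQ, hVC, hVp⟩ := BTBlock.omegaOneCenter_props p Q
  have hQT : Q ≤ (T : Subgroup G) := PSolvable.pCore_le_sylow T
  have hVel : Cfsg.IsElementaryAbelian p V := ⟨⟨⟨fun a b => Subtype.ext
    (Subgroup.mem_centralizer_iff.1 (hVC b.2) a (hVQ a.2))⟩⟩, hVp⟩
  have hQn : Q.Normal := inferInstanceAs (Cfsg.pCore p G).Normal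
  have hVn : V.Normal := by
    rw [hVdef, Cfsg.omegaOneCenter, Cfsg.omegaOne]
    refine ⟨fun x hx g => ?_⟩
    have hle : Subgroup.closure {x : G | x ∈ Q ⊓ Subgroup.centralizer (Q : Set G) ∧ x ^ p = 1} ≤
        (Subgroup.closure {x : G | x ∈ Q ⊓ Subgroup.centralizer (Q : Set G) ∧ x ^ p = 1}).comap
          (MulAut.conj g).toMonoidHom := by
      rw [Subgroup.closure_le]
      rintro y ⟨⟨hyQ, hyC⟩, hyp⟩
      refine Subgroup.subset_closure ⟨⟨hQn.conj_mem y hyQ g,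
        Subgroup.mem_centralizer_iff.2 fun q hq => ?_⟩, ?_⟩
      · have h1 := Subgroup.mem_centralizer_iff.1 hyC _ (hQn.conj_mem' q hq g)
        show q * (g * y * g⁻¹) = g * y * g⁻¹ * q
        calc q * (g * y * g⁻¹) = g * ((g⁻¹ * q * g) * y) * g⁻¹ := by group
          _ = g * (y * (g⁻¹ * q * g)) * g⁻¹ := by rw [h1]
          _ = _ := by group
      · show (g * y * g⁻¹) ^ p = 1
        rw [conj_pow, hyp, mul_one, mul_inv_cancel]
    exact hle hx
  haveI hCn : C.Normal := by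
    refine ⟨fun x hx g => Subgroup.mem_centralizer_iff.2 fun v hv => ?_⟩
    have h1 := Subgroup.mem_centralizer_iff.1 hx _ (hVn.conj_mem' v hv g)
    calc v * (g * x * g⁻¹) = g * ((g⁻¹ * v * g) * x) * g⁻¹ := by group
      _ = g * (x * (g⁻¹ * v * g)) * g⁻¹ := by rw [h1]
      _ = _ := by group
  -- the two parts of the hypothesis
  set Z := Cfsg.omegaOneCenter p (T : Subgroup G) with hZdef
  obtain ⟨hZT, hZC, hZp⟩ := BTBlock.omegaOneCenter_props p (T : Subgroup G)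
  have hZV : Z ≤ V := fun z hz => by
    have hzQ : z ∈ Q := hG (Subgroup.centralizer_le hQT (hZC hz))
    refine Subgroup.subset_closure ⟨⟨hzQ, Subgroup.centralizer_le hQT (hZC hz)⟩, hZp z hz⟩
  have hCTle : C ⊔ (T : Subgroup G) ≤ Cfsg.cStarStarOf p (T : Subgroup G) := by
    refine le_trans (sup_le (Subgroup.centralizer_le hZV) fun t ht => ?_) le_sup_left
    exact Subgroup.mem_centralizer_iff.2 fun z hz =>
      (Subgroup.mem_centralizer_iff.1 (hZC hz) t ht).symm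
  obtain ⟨hTn, M, ⟨hM, hTM⟩, huniq⟩ := hmin T
  have hmax : ∀ L : Subgroup G, L ≠ ⊤ → (T : Subgroup G) ≤ L → L ≤ M := fun L hL hTL => by
    obtain ⟨M₁, hM₁, hLM₁⟩ := (eq_top_or_exists_le_coatom L).resolve_left hL
    exact hLM₁.trans (huniq M₁ ⟨hM₁, hTL.trans hLM₁⟩).le
  have hCM : C ≤ M := le_sup_left.trans (hmax (C ⊔ (T : Subgroup G))
    (fun he => hne (top_le_iff.1 (he ▸ hCTle))) le_sup_right)
  -- elementary abelian subgroups of largest order
  have hconjEA : ∀ (X : Subgroup G) (g : G), Cfsg.IsElementaryAbelian p X →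
      Cfsg.IsElementaryAbelian p (X.map (MulAut.conj g).toMonoidHom) := by
    intro X g hX
    refine ⟨⟨⟨fun a b => Subtype.ext ?_⟩⟩, ?_⟩
    · obtain ⟨a', ha', ha⟩ := a.2
      obtain ⟨b', hb', hb⟩ := b.2
      show (a : G) * b = b * a
      rw [← ha, ← hb, ← map_mul, ← map_mul]
      exact congrArg _ (congrArg Subtype.val (hX.1.is_comm.comm (⟨a', ha'⟩ : X) ⟨b', hb'⟩) :)
    · rintro _ ⟨x, hx, rfl⟩
      rw [← map_pow, hX.2 x hx, map_one]
  have hEAp : ∀ X : Subgroup G, Cfsg.IsElementaryAbelian p X → IsPGroup p X := fun X hX x =>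
    ⟨1, Subtype.ext (by simpa using hX.2 _ x.2)⟩
  have hoff : ∀ A ∈ Cfsg.maxElementaryAbelianSubgroups p G, IsOff p V A := by
    intro A hA
    have hcomm : ∀ a ∈ A, ∀ b ∈ A, a * b = b * a := fun a ha b hb =>
      congrArg Subtype.val (hA.1.1.is_comm.comm (⟨a, ha⟩ : A) ⟨b, hb⟩)
    refine ⟨Subgroup.commutator_le.2 fun a ha b hb => ?_, fun a ha => ?_, ?_⟩
    · rw [commutatorElement_eq_one_iff_mul_comm.2 (hcomm a ha b hb)]
      exact Subgroup.one_mem _
    · rw [hA.1.2 a ha]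
      exact Subgroup.one_mem _
    set D := A ⊓ C with hD
    have hXel : Cfsg.IsElementaryAbelian p (D ⊔ V : Subgroup G) := by
      have hel := FFMin.Elem.sup (p := p) (A := D) (B := V)
        ⟨fun a ha b hb => hcomm a ha.1 b hb.1, fun a ha => hA.1.2 a ha.1⟩
        ⟨fun a ha b hb => congrArg Subtype.val (hVel.1.is_comm.comm (⟨a, ha⟩ : V) ⟨b, hb⟩), hVp⟩
        (fun a ha v hv => (Subgroup.mem_centralizer_iff.1 ha.2 v hv).symm)
      exact ⟨⟨⟨fun a b => Subtype.ext (hel.comm a a.2 b b.2)⟩⟩, hel.pow⟩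
    have h1 := hA.2 _ hXel
    have h2 := SL2Recog.card_sup_mul_inf' (E := (D ⊔ V : Subgroup G))
      (fun a ha b hb => congrArg Subtype.val (hXel.1.is_comm.comm (⟨a, ha⟩ : (D ⊔ V : Subgroup G))
        ⟨b, hb⟩)) (le_sup_left : D ≤ D ⊔ V) le_sup_right
    rw [← h2]
    refine Nat.mul_le_mul h1 (Subgroup.card_le_of_le (le_inf inf_le_right fun x hx =>
      Subgroup.mem_centralizer_iff.2 fun a ha => hcomm a ha x hx.1.1))
  have hJT : ∃ A ∈ Cfsg.maxElementaryAbelianSubgroups p G, A ≤ (T : Subgroup G) ∧ ¬ A ≤ C := by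
    by_contra! hall
    have hmaxT : ∀ A : Subgroup ↥(T : Subgroup G),
        A ∈ Cfsg.maxElementaryAbelianSubgroups p ↥(T : Subgroup G) →
        A.map (T : Subgroup G).subtype ∈ Cfsg.maxElementaryAbelianSubgroups p G := by
      intro A hA
      refine ⟨⟨⟨⟨fun a b => Subtype.ext ?_⟩⟩, ?_⟩, fun B hB => ?_⟩
      · obtain ⟨a', ha', ha⟩ := a.2
        obtain ⟨b', hb', hb⟩ := b.2
        show (a : G) * b = b * a
        rw [← ha, ← hb, ← map_mul, ← map_mul]
        exact congrArg _ (congrArg Subtype.val (hA.1.1.is_comm.comm (⟨a', ha'⟩ : A) ⟨b', hb'⟩) :)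
      · rintro _ ⟨x, hx, rfl⟩
        rw [← map_pow, hA.1.2 x hx, map_one]
      · obtain ⟨S, hS⟩ := (hEAp B hB).exists_le_sylow
        obtain ⟨g, hg⟩ := MulAction.exists_smul_eq G S T
        have hle : B.map (MulAut.conj g).toMonoidHom ≤ (T : Subgroup G) := by
          rw [← hg, SL2Recog.coe_smul_sylow]
          exact Subgroup.map_mono hS
        have hel := hconjEA B g hB
        have h := hA.2 ((B.map (MulAut.conj g).toMonoidHom).subgroupOf (T : Subgroup G))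
          ⟨⟨⟨fun a b => Subtype.ext (Subtype.ext (congrArg Subtype.val
            (hel.1.is_comm.comm (⟨_, a.2⟩ : B.map (MulAut.conj g).toMonoidHom) ⟨_, b.2⟩) :))⟩⟩,
            fun x hx => Subtype.ext (hel.2 _ hx)⟩
        rw [Nat.card_congr (Subgroup.subgroupOfEquivOfLe hle).toEquiv, SL2Recog.card_cnj] at h
        rwa [Subgroup.card_map_of_injective (T : Subgroup G).subtype_injective]
    have hmaxG : ∀ A ∈ Cfsg.maxElementaryAbelianSubgroups p G, A ≤ (T : Subgroup G) →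
        A ≤ Cfsg.thompsonSubgroupOf p (T : Subgroup G) := by
      intro A hA hAT
      rw [← Subgroup.map_subgroupOf_eq_of_le hAT]
      refine Subgroup.map_mono (le_sSup ⟨⟨⟨⟨fun a b => Subtype.ext (Subtype.ext (congrArg Subtype.val
        (hA.1.1.is_comm.comm (⟨_, a.2⟩ : A) ⟨_, b.2⟩) :))⟩⟩, fun x hx => Subtype.ext (hA.1.2 _ hx)⟩,
        fun B hB => ?_⟩)
      rw [Nat.card_congr (Subgroup.subgroupOfEquivOfLe hAT).toEquiv,
        ← Subgroup.card_map_of_injective (K := B) (f := (T : Subgroup G).subtype) (T : Subgroup G).subtype_injective]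
      refine hA.2 _ ⟨⟨⟨fun a b => Subtype.ext ?_⟩⟩, ?_⟩
      · obtain ⟨a', ha', ha⟩ := a.2
        obtain ⟨b', hb', hb⟩ := b.2
        show (a : G) * b = b * a
        rw [← ha, ← hb, ← map_mul, ← map_mul]
        exact congrArg _ (congrArg Subtype.val (hB.1.is_comm.comm (⟨a', ha'⟩ : B) ⟨b', hb'⟩) :)
      · rintro _ ⟨x, hx, rfl⟩
        rw [← map_pow, hB.2 x hx, map_one]
    set J := Cfsg.thompsonSubgroupOf p (T : Subgroup G) with hJdef
    have hN : Subgroup.normalizer ((((T : Subgroup G) ⊓ C : Subgroup G)) : Set G) ≤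
        Subgroup.normalizer (J : Set G) := by
      intro g hg
      refine Subgroup.mem_normalizer_iff_map_conj_eq.2
        (Subgroup.eq_of_le_of_card_ge ?_ (SL2Recog.card_cnj g J).ge)
      rw [hJdef, Cfsg.thompsonSubgroupOf, Cfsg.thompsonSubgroup, Subgroup.map_le_iff_le_comap,
        Subgroup.map_le_iff_le_comap]
      refine sSup_le fun A hA => ?_
      rw [← Subgroup.map_le_iff_le_comap, ← Subgroup.map_le_iff_le_comap]
      have h1 := hmaxT A hA
      have h2 := hall _ h1 (Subgroup.map_subtype_le A)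
      refine hmaxG _ ⟨hconjEA _ g h1.1, fun B hB => (h1.2 B hB).trans (SL2Recog.card_cnj g _).ge⟩ ?_
      rintro _ ⟨x, hx, rfl⟩
      exact ((Subgroup.mem_normalizer_iff.1 hg x).1 ⟨Subgroup.map_subtype_le A hx, h2 hx⟩).1
    refine hne (top_le_iff.1 ?_)
    rw [← FusionMod.frattini_inf T C]
    exact sup_le (hN.trans le_sup_right) (le_sup_left.trans hCTle)
  obtain ⟨A, hA, hAT, hAC⟩ := hJT
  -- the blocks
  set e := (⊤ : Subgroup G).subtype with hedef
  have heinj : Function.Injective e := (⊤ : Subgroup G).subtype_injective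
  have hmapcomap : ∀ X : Subgroup G, (X.subgroupOf ⊤).map e = X := fun X =>
    Subgroup.map_subgroupOf_eq_of_le le_top
  obtain ⟨r, E, hE, hle, hge⟩ := exists_outcome V ⊤ hVel
    (by rw [Subgroup.normalizer_eq_top_iff.2 hVn]) (T.subtype le_top) (M.subgroupOf ⊤)
    (fun he => hM.1 (top_le_iff.1 (Subgroup.subgroupOf_eq_top.1 he)))
    (fun x hx => hTM hx)
    (fun L hL hTL x hx => hmax (L.map e) (fun he => hL (Subgroup.map_injective heinj (by
        rw [he, hedef, ← MonoidHom.range_eq_map, Subgroup.range_subtype])))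
      (fun t ht => ⟨⟨t, Subgroup.mem_top t⟩, hTL ht, rfl⟩) (Subgroup.mem_map_of_mem _ hx))
    (fun x hx => hCM hx)
    (fun N hN hNT x hx => by
      have hNn : (N.map e).Normal := hN.map e fun g => ⟨⟨g, Subgroup.mem_top g⟩, rfl⟩
      have hxQ : (x : G) ∈ Q := (le_sSup (show N.map e ∈ {N : Subgroup G | N.Normal ∧ IsPGroup p N}
        from ⟨hNn, T.2.to_le (by
          rintro _ ⟨y, hy, rfl⟩
          exact hNT hy)⟩)) (Subgroup.mem_map_of_mem e hx)
      exact Subgroup.mem_centralizer_iff.2 fun v hv =>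
        (Subgroup.mem_centralizer_iff.1 (hVC hv) (x : G) hxQ).symm)
    A le_top hAC (hoff A hA)
  have hTmap : ((T.subtype le_top : Sylow p ↥(⊤ : Subgroup G)) : Subgroup _).map e =
      (T : Subgroup G) := hmapcomap _
  have hCE : ∀ i, C ≤ E i := fun i => (le_inf le_top le_rfl).trans (hE.ker_le i)
  have hsupE : (⨆ i, E i) = Cfsg.thompsonSubgroup p G ⊔ C := by
    refine le_antisymm ?_ (sup_le (sSup_le fun B hB => hle B le_top (hoff B hB)) ?_)
    · have hJn : (Cfsg.thompsonSubgroup p G).Normal := by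
        refine ⟨fun x hx g => ?_⟩
        have hle : Cfsg.thompsonSubgroup p G ≤
            (Cfsg.thompsonSubgroup p G).comap (MulAut.conj g).toMonoidHom :=
          sSup_le fun B hB => Subgroup.map_le_iff_le_comap.1 (le_sSup
            ⟨hconjEA B g hB.1, fun B' hB' => (hB.2 B' hB').trans (SL2Recog.card_cnj g B).ge⟩)
        exact hle hx
      refine (hge ((Cfsg.thompsonSubgroup p G ⊔ C).subgroupOf ⊤) inferInstance
        (fun x hx => Subgroup.mem_sup_left (le_sSup hA hx))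
        (fun x hx => Subgroup.mem_sup_right hx)).trans (hmapcomap _).le
    · exact (hCE ⟨0, hE.pos⟩).trans (le_iSup E _)
  refine ⟨r, E, hCE, ?_, hsupE, hE.comm, hE.inf, fun i j => ?_, hE.decomp, hE.comm3, fun i => ?_⟩
  · have h1 := hE.top
    rw [hTmap, hsupE] at h1
    rwa [sup_right_comm]
  · obtain ⟨t, ht, he⟩ := hE.conj i j
    exact ⟨t, hTmap ▸ ht, he⟩
  · obtain ⟨n, hn, h⟩ := hE.model i
    refine ⟨n, hn, h.imp ?_ ?_⟩
    · rintro ⟨F, iF, jF, hF, ⟨ρ, hρ, hk⟩, hact⟩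
      have hn' : (C.subgroupOf (E i)).Normal := hk ▸ MonoidHom.normal_ker ρ
      exact ⟨F, iF, jF, hF, ⟨hn', ⟨(QuotientGroup.quotientMulEquivOfEq hk.symm).trans
        (QuotientGroup.quotientKerEquivOfSurjective ρ hρ)⟩⟩, hact⟩
    · rintro ⟨hp, ⟨ρ, hρ, hk⟩, hact⟩
      have hn' : (C.subgroupOf (E i)).Normal := hk ▸ MonoidHom.normal_ker ρ
      exact ⟨hp, ⟨hn', ⟨(QuotientGroup.quotientMulEquivOfEq hk.symm).trans
        (QuotientGroup.quotientKerEquivOfSurjective ρ hρ)⟩⟩, hact⟩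

end Cfsg.Agent.S2981
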