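import Cfsg.Agent.Lib.BTBlock.Cent.Odd

set_option autoImplicit false
open Cfsg

namespace Cfsg.Agent.S2985

open Cfsg.Agent.Lib.BTBlock in
/-- Let G be a finite group of characteristic p (C_G(O_p(G)) ≤ O_p(G)), T a Sylow p-subgroup and E a B(T)-block of G, with W_E = [Ω₁(Z(O_p(E))), E]. Then E is normalized by C_G(W_E); that is, E is a normal subgroup of E·C_G(W_E). -/
theorem result {G : Type*} [Group G] [Finite G] {p : ℕ} [Fact p.Prime] (hG : Subgroup.centralizer (Cfsg.pCore p G : Set G) ≤ Cfsg.pCore p G) (T : Sylow p G) (E : Subgroup G) (hE : Cfsg.IsBaumannBlock p (T : Subgroup G) E) : Subgroup.centralizer ((⁅Cfsg.omegaOneCenter p (Cfsg.pCoreOf p E), E⁆ : Subgroup G) : Set G) ≤ Subgroup.normalizer (E : Set G) := by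
  rcases Cent.commutator_le_or hG hE with h | ⟨hQW, hQR⟩
  · exact Cent.centralizer_le_of_commutator_le hG hE h
  obtain ⟨hp, -⟩ := Sub.IsBlock.exceptional ⟨T, hE⟩ hQW
  subst hp
  obtain ⟨F, _, _, _, ⟨X⟩⟩ := Cent.exists_ctx hG hE hQW hQR
  by_cases hP : X.Fixed
  · exact X.centralizer_le hP
  simp only [Cent.Ctx.Fixed, not_forall] at hP
  obtain ⟨g, hgC, hgt, r, hr, hne⟩ := hP
  exact X.centralizer_le_of_moved hgC hgt hr hne

end Cfsg.Agent.S2985
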