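import Cfsg.Statements.S2998
import Mathlib
import Cfsg.Agent.Lib.CD.Basic


set_option autoImplicit false
open Cfsg

namespace Cfsg.Agent.S2998

/-- Let G be a finite group, p a prime, P a Sylow p-subgroup of G and x ∈ P an element such that N_G(R) ≤ C_G(x) for every nontrivial subgroup R of P. Then P ≤ C_G(x); every G-conjugate of x lying in P equals x (so g ∈ C_G(x) whenever g x g⁻¹ ∈ P); and for every normal subgroup N of G, the image of x in G ⧸ N has the same property with respect to the image of P: the normalizer of every nontrivial subgroup of the image of P centralizes the image of x. -/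
theorem result {G : Type*} [Group G] [Finite G] {p : ℕ} [Fact p.Prime] (P : Sylow p G) (x : G) (hxP : x ∈ (P : Subgroup G)) (hlc : ∀ R : Subgroup G, R ≤ (P : Subgroup G) → R ≠ ⊥ → Subgroup.normalizer (R : Set G) ≤ Subgroup.centralizer ({x} : Set G)) : (P : Subgroup G) ≤ Subgroup.centralizer ({x} : Set G) ∧ (∀ g : G, g * x * g⁻¹ ∈ (P : Subgroup G) → g * x * g⁻¹ = x) ∧ ∀ (N : Subgroup G) [N.Normal], ∀ R : Subgroup (G ⧸ N), R ≤ (P : Subgroup G).map (QuotientGroup.mk' N) → R ≠ ⊥ → Subgroup.normalizer (R : Set (G ⧸ N)) ≤ Subgroup.centralizer ({(QuotientGroup.mk x : G ⧸ N)} : Set (G ⧸ N)) := by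
  have hP : ∀ y ∈ (P : Subgroup G), y ≠ 1 →
      Subgroup.centralizer ({y} : Set G) ≤ Subgroup.centralizer ({x} : Set G) := by
    intro y hy hy1
    refine le_trans ?_ (hlc (Subgroup.zpowers y) (Subgroup.zpowers_le.2 hy) (by simpa using hy1))
    refine le_trans ?_ (Subgroup.centralizer_le_normalizer _)
    rw [Subgroup.zpowers_eq_closure, Subgroup.centralizer_closure]
  have hPc : (P : Subgroup G) ≤ Subgroup.centralizer ({x} : Set G) := by
    by_cases h : (P : Subgroup G) = ⊥
    · rw [h]; exact bot_le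
    · exact Subgroup.le_normalizer.trans (hlc _ le_rfl h)
  refine ⟨hPc, ?_, ?_⟩
  · intro g hg
    by_cases hx1 : x = 1
    · subst hx1; simp
    set y := g * x * g⁻¹ with hy
    have hy1 : y ≠ 1 := fun h => hx1 (conj_eq_one_iff.1 h)
    have hmap : (Subgroup.centralizer ({x} : Set G)).map (MulAut.conj g).toMonoidHom ≤
        Subgroup.centralizer ({y} : Set G) := by
      rintro _ ⟨c, hc, rfl⟩
      rw [Subgroup.mem_centralizer_singleton_iff]
      simpa [hy] using congrArg (MulAut.conj g) (Subgroup.mem_centralizer_singleton_iff.1 hc)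
    have hCC : Subgroup.centralizer ({y} : Set G) = Subgroup.centralizer ({x} : Set G) :=
      Subgroup.eq_of_le_of_card_ge (hP y hg hy1)
        (le_trans (le_of_eq (Nat.card_congr ((Subgroup.centralizer ({x} : Set G)).equivMapOfInjective
          (MulAut.conj g).toMonoidHom (MulAut.conj g).injective).toEquiv)) (Subgroup.card_le_of_le hmap))
    have hPne : (P : Subgroup G) ≠ ⊥ := fun h => hx1 (Subgroup.mem_bot.1 (h ▸ hxP))
    have h1 : x ∈ Subgroup.centralizer ((P : Subgroup G) : Set G) := fun z hz =>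
      Subgroup.mem_centralizer_singleton_iff.1 (hPc hz)
    have h2 : g⁻¹⁻¹ * x * g⁻¹ ∈ Subgroup.centralizer ((P : Subgroup G) : Set G) := by
      rw [inv_inv]
      exact fun z hz => Subgroup.mem_centralizer_singleton_iff.1 (hCC.ge (hPc hz))
    obtain ⟨n, hn, hn'⟩ := P.conj_eq_normalizer_conj_of_mem_centralizer x g⁻¹ h1 h2
    rw [inv_inv] at hn'
    rw [hy, hn', mul_assoc, ← Subgroup.mem_centralizer_singleton_iff.1 (hlc _ le_rfl hPne hn),
      inv_mul_cancel_left]
  · intro N _ R hR hR1 gb hgb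
    set f := QuotientGroup.mk' N with hf
    set M := R.comap f with hM
    set R₀ := (P : Subgroup G) ⊓ M with hR₀
    have hR₀R : R₀.map f = R := by
      refine le_antisymm (Subgroup.map_le_iff_le_comap.2 inf_le_right) fun r hr => ?_
      obtain ⟨a, ha, rfl⟩ := hR hr
      exact ⟨a, ⟨ha, hr⟩, rfl⟩
    have hR₀1 : R₀ ≠ ⊥ := fun h => hR1 (by rw [← hR₀R, h, Subgroup.map_bot])
    have hMe : M = R₀ ⊔ N := by
      rw [hM, ← hR₀R, Subgroup.comap_map_eq, hf, QuotientGroup.ker_mk']
    have hcM : Nat.card ↥M * Nat.card ↥((P : Subgroup G) ⊓ N) = Nat.card ↥R₀ * Nat.card ↥N := by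
      have h := Lib.CD.card_setMul_mul_card_inf R₀ N
      rw [← Subgroup.mul_normal, ← hMe] at h
      rw [← h]
      congr 3
      rw [hR₀, inf_assoc, inf_eq_right.2 (show N ≤ M from hMe ▸ le_sup_right)]
    have hidx : ¬ p ∣ (R₀.subgroupOf M).index := by
      intro hd
      apply P.not_dvd_index
      have hcPN : Nat.card ↥((P : Subgroup G) ⊔ N) * Nat.card ↥((P : Subgroup G) ⊓ N) =
          Nat.card ↥(P : Subgroup G) * Nat.card ↥N := by
        have h := Lib.CD.card_setMul_mul_card_inf (P : Subgroup G) N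
        rwa [← Subgroup.mul_normal] at h
      have e1 : Nat.card ↥R₀ * (R₀.subgroupOf M).index = Nat.card ↥M := by
        rw [← Nat.card_congr (Subgroup.subgroupOfEquivOfLe (inf_le_right : R₀ ≤ M)).toEquiv]
        exact Subgroup.card_mul_index _
      have e2 : Nat.card ↥(P : Subgroup G) * (R₀.subgroupOf M).index = Nat.card ↥((P : Subgroup G) ⊔ N) := by
        refine Nat.eq_of_mul_eq_mul_right (show 0 < Nat.card ↥R₀ * Nat.card ↥((P : Subgroup G) ⊓ N) from
          Nat.mul_pos Nat.card_pos Nat.card_pos) ?_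
        calc _ = Nat.card ↥(P : Subgroup G) * ((Nat.card ↥R₀ * (R₀.subgroupOf M).index) *
              Nat.card ↥((P : Subgroup G) ⊓ N)) := by ring
          _ = Nat.card ↥R₀ * (Nat.card ↥(P : Subgroup G) * Nat.card ↥N) := by rw [e1, hcM]; ring
          _ = _ := by rw [← hcPN]; ring
      have hd' : Nat.card ↥((P : Subgroup G) ⊔ N) ∣ Nat.card G := Subgroup.card_subgroup_dvd_card _
      rw [← e2, ← (P : Subgroup G).card_mul_index, Nat.mul_dvd_mul_iff_left Nat.card_pos] at hd'
      exact hd.trans hd'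
    have hR₀p : IsPGroup p ↥(R₀.subgroupOf M) :=
      IsPGroup.of_equiv (P.2.to_le inf_le_left) (Subgroup.subgroupOfEquivOfLe inf_le_right).symm
    let S : Sylow p ↥M := hR₀p.toSylow hidx
    obtain ⟨g, rfl⟩ := QuotientGroup.mk_surjective gb
    have hgM : ∀ a : G, a ∈ M ↔ g * a * g⁻¹ ∈ M := fun a => Subgroup.mem_normalizer_iff.1 hgb (a : G ⧸ N)
    set R₁ := R₀.map (MulAut.conj g).toMonoidHom with hR₁
    have hR₁M : R₁ ≤ M := by
      rintro _ ⟨a, ha, rfl⟩
      exact (hgM a).1 ha.2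
    have hR₁p : IsPGroup p ↥(R₁.subgroupOf M) :=
      IsPGroup.of_equiv ((P.2.to_le inf_le_left).map _) (Subgroup.subgroupOfEquivOfLe hR₁M).symm
    have hcard : Nat.card ↥(R₁.subgroupOf M) = Nat.card ↥(S : Subgroup ↥M) := by
      rw [Nat.card_congr (Subgroup.subgroupOfEquivOfLe hR₁M).toEquiv]
      exact ((Nat.card_congr (Subgroup.subgroupOfEquivOfLe (inf_le_right : R₀ ≤ M)).toEquiv).trans
        (Nat.card_congr (R₀.equivMapOfInjective _ (MulAut.conj g).injective).toEquiv)).symm
    obtain ⟨T, hT⟩ := hR₁p.exists_le_sylow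
    obtain ⟨m, hm⟩ := MulAction.exists_smul_eq ↥M T S
    have hTeq : R₁.subgroupOf M = (T : Subgroup ↥M) := Subgroup.eq_of_le_of_card_ge hT (by
      rw [hcard]; exact (Nat.card_congr (T.equiv S).toEquiv).le)
    have hn : (m : G) * g ∈ Subgroup.normalizer (R₀ : Set G) := by
      rw [Subgroup.mem_normalizer_iff_map_conj_eq]
      refine Subgroup.eq_of_le_of_card_ge ?_
        (le_of_eq (Nat.card_congr (R₀.equivMapOfInjective _ (MulAut.conj _).injective).toEquiv))
      rintro _ ⟨a, ha, rfl⟩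
      have haM : g * a * g⁻¹ ∈ M := (hgM a).1 ha.2
      have h1 : (⟨_, haM⟩ : ↥M) ∈ R₁.subgroupOf M := Subgroup.mem_subgroupOf.2 ⟨a, ha, rfl⟩
      rw [hTeq] at h1
      have h2 : MulAut.conj m (⟨_, haM⟩ : ↥M) ∈ (m • T : Sylow p ↥M) := ⟨_, h1, rfl⟩
      rw [hm] at h2
      have h3 : (m : G) * (g * a * g⁻¹) * (m : G)⁻¹ ∈ R₀ := h2
      simpa [mul_assoc] using h3
    have hxmg := Subgroup.mem_centralizer_singleton_iff.1
      (hlc R₀ inf_le_left hR₀1 hn)
    obtain ⟨a, ha, hma⟩ := hR (show f (m : G) ∈ R from m.2)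
    have hxm : (m : G ⧸ N) * (x : G ⧸ N) = (x : G ⧸ N) * (m : G ⧸ N) := by
      change f (m : G) * f x = f x * f (m : G)
      rw [← hma, ← map_mul, ← map_mul, Subgroup.mem_centralizer_singleton_iff.1 (hPc ha)]
    have h4 := congrArg (fun y : G => (y : G ⧸ N)) hxmg
    simp only [QuotientGroup.mk_mul] at h4
    rw [Subgroup.mem_centralizer_singleton_iff]
    rw [mul_assoc, ← mul_assoc (x : G ⧸ N), ← hxm, mul_assoc] at h4
    exact mul_left_cancel h4

end Cfsg.Agent.S2998
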