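import Cfsg.Statements.S2999
import Cfsg.Agent.Lib.SL2Recog.Reduce

set_option autoImplicit false
open Cfsg
open Cfsg.Agent.Lib.SL2Recog
open scoped commutatorElement

namespace Cfsg.Agent.S2999

/-- Let p be a prime and let P and V be subgroups of a finite group with V elementary abelian, P normalizing V and acting faithfully on it (P ∩ C(V) = 1). Suppose P is p-minimal (a Sylow p-subgroup T of P is not normal and lies in a unique maximal subgroup M of P) and A ≤ T is an elementary abelian subgroup such that: |V/C_V(A)| ≤ |A| while |A₀|·|C_V(A₀)| < |A|·|C_V(A)| for every nontrivial proper subgroup A₀ of A; [C_V(T), P] ≠ 1; and P = ⟨A, xAx⁻¹⟩ for every x ∈ P outside M. Then, with q = |A|, there is a field F with q elements such that P ≅ SL₂(F), C_V(A) = [V, A]·C_V(P), and P acts on V/C_V(P) as SL₂(F) on its natural two-dimensional module. -/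
theorem result {G : Type*} [Group G] [Finite G] {p : ℕ} [Fact p.Prime] (V P : Subgroup G) (hV : Cfsg.IsElementaryAbelian p V) (hPV : P ≤ Subgroup.normalizer (V : Set G)) (hfaith : P ⊓ Subgroup.centralizer (V : Set G) = ⊥) (hmin : Cfsg.IsPMinimal p ↥P) (T : Sylow p ↥P) (M : Subgroup ↥P) (hM : IsCoatom M) (hTM : (T : Subgroup ↥P) ≤ M) (A : Subgroup G) (hAT : A ≤ ((T : Subgroup ↥P).map P.subtype)) (hAel : Cfsg.IsElementaryAbelian p A) (hi : Nat.card ↥V ≤ Nat.card ↥A * Nat.card ↥(V ⊓ Subgroup.centralizer ((A : Subgroup G) : Set G)) ∧ ∀ A₀ : Subgroup G, A₀ ≤ A → A₀ ≠ ⊥ → A₀ ≠ A → Nat.card ↥A₀ * Nat.card ↥(V ⊓ Subgroup.centralizer ((A₀ : Subgroup G) : Set G)) < Nat.card ↥A * Nat.card ↥(V ⊓ Subgroup.centralizer ((A : Subgroup G) : Set G))) (hii : ⁅(V ⊓ Subgroup.centralizer ((((T : Subgroup ↥P).map P.subtype) : Subgroup G) : Set G)), P⁆ ≠ ⊥) (hiii : ∀ x : ↥P, x ∉ M → A ⊔ A.map (MulAut.conj (x : G)).toMonoidHom = P) : ∃ (F : Type) (_ : Field F) (_ : Fintype F), Fintype.card F = Nat.card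 ↥A ∧ Nonempty (↥P ≃* Matrix.SpecialLinearGroup (Fin 2) F) ∧ (V ⊓ Subgroup.centralizer ((A : Subgroup G) : Set G)) = ⁅V, A⁆ ⊔ (V ⊓ Subgroup.centralizer ((P : Subgroup G) : Set G)) ∧ Cfsg.ActsAsSL2OnSection F ⊤ P V (V ⊓ Subgroup.centralizer ((P : Subgroup G) : Set G)) := by
  classical
  letI instCV : CommGroup V := { (inferInstance : Group V) with
    mul_comm := fun a b => hV.1.is_comm.comm a b }
  have hmem : ∀ (g : ↥P) (v : V), (g : G) * (v : G) * (g : G)⁻¹ ∈ V := fun g v =>
    (Subgroup.mem_normalizer_iff.1 (hPV g.2) v).1 v.2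
  letI act : DistribMulAction ↥P (Additive V) :=
    { smul := fun g v => Additive.ofMul (⟨_, hmem g v.toMul⟩ : V)
      one_smul := fun v => Additive.toMul.injective (Subtype.ext (by
        show ((1 : ↥P) : G) * (v.toMul : V) * ((1 : ↥P) : G)⁻¹ = (v.toMul : V)
        simp))
      mul_smul := fun g h v => Additive.toMul.injective (Subtype.ext (by
        show ((g * h : ↥P) : G) * (v.toMul : V) * ((g * h : ↥P) : G)⁻¹ =
          (g : G) * ((h : G) * (v.toMul : V) * (h : G)⁻¹) * (g : G)⁻¹
        simp [mul_assoc]))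
      smul_zero := fun g => Additive.toMul.injective (Subtype.ext (by
        show (g : G) * ((1 : V) : G) * (g : G)⁻¹ = ((1 : V) : G)
        simp))
      smul_add := fun g v w => Additive.toMul.injective (Subtype.ext (by
        show (g : G) * (((v.toMul : V) : G) * (w.toMul : V)) * (g : G)⁻¹ =
          ((g : G) * (v.toMul : V) * (g : G)⁻¹) * ((g : G) * (w.toMul : V) * (g : G)⁻¹)
        simp [mul_assoc])) }
  have hsmul : ∀ (g : ↥P) (v : Additive V),
      (((g • v : Additive V).toMul : V) : G) = g * (v.toMul : V) * (g : G)⁻¹ := fun g v => rfl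
  have hfaithful : FaithfulSMul ↥P (Additive V) := ⟨fun {g h} hgh => by
    have h1 : ((h⁻¹ * g : ↥P) : G) ∈ P ⊓ Subgroup.centralizer (V : Set G) := by
      refine ⟨(h⁻¹ * g).2, Subgroup.mem_centralizer_iff.2 fun v hv => ?_⟩
      have h2 : (h⁻¹ * g : ↥P) • Additive.ofMul (⟨v, hv⟩ : V) = Additive.ofMul (⟨v, hv⟩ : V) := by
        rw [mul_smul, hgh, inv_smul_smul]
      have h3 := congrArg (fun w : Additive V => ((w.toMul : V) : G)) h2
      simp only [hsmul] at h3
      exact (mul_inv_eq_iff_eq_mul.1 h3).symm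
    rw [hfaith, Subgroup.mem_bot] at h1
    exact (inv_mul_eq_one.1 (Subtype.ext h1 : h⁻¹ * g = 1)).symm⟩
  set A' : Subgroup ↥P := A.subgroupOf P with hA'
  have hAP : A ≤ P := hAT.trans (Subgroup.map_subtype_le _)
  have hA'map : A'.map P.subtype = A := Subgroup.map_subgroupOf_eq_of_le hAP
  have hfxmem : ∀ (B : Subgroup ↥P) (v : V), Additive.ofMul v ∈ fx (Additive V) B ↔
      (v : G) ∈ V ⊓ Subgroup.centralizer ((B.map P.subtype : Subgroup G) : Set G) := fun B v => by
    constructor
    · intro hv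
      refine ⟨v.2, Subgroup.mem_centralizer_iff.2 ?_⟩
      rintro _ ⟨b, hb, rfl⟩
      have h3 := congrArg (fun w : Additive V => ((w.toMul : V) : G)) (hv b hb)
      simp only [hsmul] at h3
      exact mul_inv_eq_iff_eq_mul.1 h3
    · intro hv b hb
      refine Additive.toMul.injective (Subtype.ext ?_)
      rw [hsmul]
      exact mul_inv_eq_iff_eq_mul.2 (Subgroup.mem_centralizer_iff.1 hv.2 _ ⟨b, hb, rfl⟩)
  have hfx : ∀ B : Subgroup ↥P, Nat.card (fx (Additive V) B) =
      Nat.card ↥(V ⊓ Subgroup.centralizer ((B.map P.subtype : Subgroup G) : Set G)) := fun B =>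
    Nat.card_congr
      ⟨fun v => ⟨(((v : Additive V).toMul : V) : G), (hfxmem B _).1 v.2⟩,
        fun v => ⟨Additive.ofMul (⟨v, v.2.1⟩ : V), (hfxmem B _).2 v.2⟩, fun v => rfl, fun v => rfl⟩
  have hmeas : ∀ B : Subgroup ↥P, meas (Additive V) B = Nat.card ↥(B.map P.subtype) *
      Nat.card ↥(V ⊓ Subgroup.centralizer ((B.map P.subtype : Subgroup G) : Set G)) := fun B => by
    rw [meas, hfx, Subgroup.card_map_of_injective P.subtype_injective]
  obtain ⟨v0, hv0, hv0P⟩ : ∃ v ∈ V ⊓ Subgroup.centralizer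
      ((((T : Subgroup ↥P).map P.subtype) : Subgroup G) : Set G),
      v ∉ Subgroup.centralizer (P : Set G) := by
    by_contra! hall
    exact hii (Subgroup.commutator_eq_bot_iff_le_centralizer.2 hall)
  obtain ⟨F, fieldF, fintF, hF, hfxA, ρ, π, hπ, hπ0, hρ⟩ :=
    exists_natural_model (W := Additive V) T M A'
      (fun w => Additive.toMul.injective (Subtype.ext (hV.2 _ (w.toMul : V).2)))
      (fun a ha => Subtype.ext (hAel.2 _ ha))
      (fun a ha b hb => Subtype.ext (congrArg Subtype.val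
        (hAel.1.is_comm.comm (⟨a, ha⟩ : A) ⟨b, hb⟩) :))
      hTM hM.1
      (fun a ha => by
        obtain ⟨t, ht, hta⟩ := hAT (show (a : G) ∈ A from ha)
        exact (Subtype.ext hta : t = a) ▸ ht)
      (fun x hx => by
        refine Subgroup.map_injective P.subtype_injective ?_
        rw [Subgroup.map_sup, hA'map, ← MonoidHom.range_eq_map, Subgroup.range_subtype]
        refine Eq.trans ?_ (hiii x hx)
        congr 1
        rw [Subgroup.map_map]
        conv_rhs => rw [← hA'map, Subgroup.map_map]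
        congr 1)
      (by rw [hmeas, hA'map, Nat.card_congr Additive.toMul]; exact hi.1)
      (fun B hB hB0 hBA => by
        rw [hmeas, hmeas, hA'map]
        refine hi.2 _ (hA'map ▸ Subgroup.map_mono hB) (fun h => hB0 ?_) fun h => hBA ?_
        · exact (Subgroup.map_eq_bot_iff_of_injective _ P.subtype_injective).1 h
        · exact Subgroup.map_injective P.subtype_injective (h.trans hA'map.symm))
      (Additive.ofMul (⟨v0, hv0.1⟩ : V))
      ((hfxmem _ _).2 hv0)
      (by
        by_contra! hall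
        refine hv0P (Subgroup.mem_centralizer_iff.2 fun g hg => ?_)
        exact mul_inv_eq_iff_eq_mul.1
          (congrArg (fun w : Additive V => ((w.toMul : V) : G)) (hall ⟨g, hg⟩)))
  refine ⟨F, fieldF, fintF, ?_, ⟨ρ⟩, ?_, ?_⟩
  · rw [hF, ← Subgroup.card_map_of_injective P.subtype_injective, hA'map]
  · have hP' : (⊤ : Subgroup ↥P).map P.subtype = P := by
      rw [← MonoidHom.range_eq_map, Subgroup.range_subtype]
    have hdev : ∀ (a : ↥P) (v : Additive V), (((dev a v).toMul : V) : G) =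
        ⁅(a : G), ((v.toMul : V) : G)⁆ := fun a v => by
      show (((a • v - v : Additive V).toMul : V) : G) = _
      rw [toMul_sub, div_eq_mul_inv, Subgroup.coe_mul, Subgroup.coe_inv, hsmul, commutatorElement_def]
    let U : AddSubgroup (Additive V) := Subgroup.toAddSubgroup
      ((⁅V, A⁆ ⊔ (V ⊓ Subgroup.centralizer ((P : Subgroup G) : Set G))).subgroupOf V)
    refine le_antisymm (fun v hv => ?_) (sup_le ?_ (inf_le_inf_left _ (Subgroup.centralizer_le hAP)))
    · have h1 : Additive.ofMul (⟨v, hv.1⟩ : V) ∈ fx (Additive V) A' :=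
        (hfxmem A' _).2 (hA'map.symm ▸ hv)
      have h2 : fx (Additive V) A' ≤ U := by
        rw [hfxA]
        refine sup_le ((AddSubgroup.closure_le _).2 ?_) fun w hw => ?_
        · rintro _ ⟨a, ha, w, rfl⟩
          show ((((dev a w).toMul : V) : G)) ∈ ⁅V, A⁆ ⊔ _
          rw [hdev]
          refine Subgroup.mem_sup_left ?_
          rw [Subgroup.commutator_comm]
          exact Subgroup.commutator_mem_commutator (show (a : G) ∈ A from ha) (w.toMul : V).2
        · show (((w.toMul : V) : G)) ∈ ⁅V, A⁆ ⊔ _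
          refine Subgroup.mem_sup_right ?_
          have := (hfxmem ⊤ w.toMul).1 hw
          rwa [hP'] at this
      exact h2 h1
    · rw [Subgroup.commutator_comm, Subgroup.commutator_le]
      intro a ha v hv
      have h1 : dev (⟨a, hAP ha⟩ : ↥P) (Additive.ofMul (⟨v, hv⟩ : V)) ∈ fx (Additive V) A' := by
        rw [hfxA]
        exact AddSubgroup.mem_sup_left (AddSubgroup.subset_closure ⟨_, ha, _, rfl⟩)
      have h2 := (hfxmem A' (dev (⟨a, hAP ha⟩ : ↥P) (Additive.ofMul (⟨v, hv⟩ : V))).toMul).1 h1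
      rw [hA'map, hdev] at h2
      exact h2
  · refine ⟨hPV, inf_le_left, ρ.toMonoidHom, π.toMultiplicativeRight, ?_, ?_, ?_, ?_⟩
    · exact MonoidHom.range_eq_top.2 ρ.surjective
    · intro t
      obtain ⟨w, hw⟩ := hπ t.toAdd
      exact ⟨w.toMul, congrArg Multiplicative.ofAdd hw⟩
    · intro u
      have hP' : (⊤ : Subgroup ↥P).map P.subtype = P := by
        rw [← MonoidHom.range_eq_map, Subgroup.range_subtype]
      show Multiplicative.ofAdd (π (Additive.ofMul u)) = 1 ↔ _
      rw [ofAdd_eq_one, hπ0, hfxmem, hP']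
    · intro e u
      exact ⟨(e • Additive.ofMul u : Additive V).toMul, hsmul e _, hρ e _⟩

end Cfsg.Agent.S2999
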