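import Cfsg.Statements.S3000
import Cfsg.Agent.Lib.FFComp.Concrete

set_option autoImplicit false
open Cfsg
open Cfsg.Agent.Lib.FFComp

namespace Cfsg.Agent.S3000

/-- Let p be a prime and let P and V be subgroups of a finite group with V elementary abelian, P normalizing V and acting faithfully on it (P ∩ C(V) = 1). Suppose P is p-minimal (a Sylow p-subgroup T of P is not normal and lies in a unique maximal subgroup M of P), O_p(P) = 1, C_P(C_V(T)) ≤ M, and P has a best offender on V: a subgroup A not centralizing V, with A/C_A(V) elementary abelian, such that |B|·|C_V(B)| ≤ |A|·|C_V(A)| for every subgroup B of A. Then there are subgroups E₁, …, E_r of P (r ≥ 1), pairwise commuting and forming with T a product P = (E₁ × ⋯ × E_r)T (internal direct product of the E_i), any two of which are conjugate by an element of T, such that V = C_V(E₁⋯E_r)·∏[V, E_i] with [V, E_i, E_j] = 1 for i ≠ j,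 and for each i there is n ≥ 1 with either E_i ≅ SL₂(pⁿ) acting on [V, E_i]/C_{[V,E_i]}(E_i) as on its natural two-dimensional module, or p = 2 and E_i isomorphic to the symmetric group of degree 2ⁿ + 1 acting on [V, E_i]/C_{[V,E_i]}(E_i) as on its even-weight permutation module. -/
theorem result {G : Type*} [Group G] [Finite G] {p : ℕ} [Fact p.Prime] (V P : Subgroup G) (hV : Cfsg.IsElementaryAbelian p V) (hPV : P ≤ Subgroup.normalizer (V : Set G)) (hfaith : P ⊓ Subgroup.centralizer (V : Set G) = ⊥) (hmin : Cfsg.IsPMinimal p ↥P) (T : Sylow p ↥P) (M : Subgroup ↥P) (hM : IsCoatom M) (hTM : (T : Subgroup ↥P) ≤ M) (hOp : Cfsg.pCore p ↥P = ⊥) (hoff : ∃ A : Subgroup G, A ≤ P ∧ ¬ A ≤ Subgroup.centralizer (V : Set G) ∧ Cfsg.IsBestOffenderOn p V A) (hCT : P ⊓ Subgroup.centralizer ((V ⊓ Subgroup.centralizer ((((T : Subgroup ↥P).map P.subtype) : Subgroup G) : Set G)) : Set G) ≤ M.map P.subtype) :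 ∃ (r : ℕ) (E : Fin r → Subgroup G), 1 ≤ r ∧ (∀ i, E i ≤ P) ∧ (∀ i j, i ≠ j → ⁅E i, E j⁆ = ⊥) ∧ (∀ i, E i ⊓ (⨆ j ∈ {j | j ≠ i}, E j) = ⊥) ∧ (⨆ i, E i) ⊔ ((T : Subgroup ↥P).map P.subtype) = P ∧ (∀ i j, ∃ t ∈ ((T : Subgroup ↥P).map P.subtype), (E i).map (MulAut.conj t).toMonoidHom = E j) ∧ (V ⊓ Subgroup.centralizer (((⨆ i, E i) : Subgroup G) : Set G)) ⊔ (⨆ i, ⁅V, E i⁆) = V ∧ (∀ i j, i ≠ j → ⁅⁅V, E i⁆, E j⁆ = ⊥) ∧ ∀ i, ∃ n : ℕ, 1 ≤ n ∧ ((∃ (F : Type) (_ : Field F) (_ : Fintype F), Fintype.card F = p ^ n ∧ Nonempty (↥(E i) ≃* Matrix.SpecialLinearGroup (Fin 2) F) ∧ Cfsg.ActsAsSL2OnSection F ⊤ (E i) ⁅V, E i⁆ (⁅V, E i⁆ ⊓ Subgroup.centralizer ((E i : Subgroup G) : Set G))) ∨ (p = 2 ∧ Nonempty (↥(E i) ≃* Equiv.Perm (Fin (2 ^ n + 1))) ∧ Cfsg.ActsAsOddPermModuleOnSection (2 ^ n + 1) ⊤ (E i) ⁅V, E i⁆ (⁅V, E i⁆ ⊓ Subgroup.centralizer ((E i : Subgroup G) : Set G)))) := by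
  classical
  obtain ⟨A, hAP, hAV, hbest, hcomm, hpow⟩ := hoff
  have hbot : ∀ X : Subgroup G, X ≤ P → X ≤ Subgroup.centralizer (V : Set G) → X = ⊥ :=
    fun X h1 h2 => le_bot_iff.1 (hfaith ▸ le_inf h1 h2)
  have hone : ∀ x : G, x ∈ P → x ∈ Subgroup.centralizer (V : Set G) → x = 1 := fun x h1 h2 =>
    Subgroup.mem_bot.1 (hfaith ▸ (⟨h1, h2⟩ : x ∈ P ⊓ Subgroup.centralizer (V : Set G)))
  have hA : IsOff p V A := by
    refine ⟨hcomm, hpow, ?_⟩
    refine le_trans ?_ (hbest (A ⊓ Subgroup.centralizer (V : Set G)) inf_le_left)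
    refine Nat.mul_le_mul_left _ (le_of_eq ?_)
    congr 1
    rw [inf_eq_left.2]
    intro v hv
    exact Subgroup.mem_centralizer_iff.2 fun x hx =>
      (Subgroup.mem_centralizer_iff.1 hx.2 v hv).symm
  obtain ⟨hTn, M', ⟨hM', hTM'⟩, huniq⟩ := hmin T
  obtain rfl := huniq M ⟨hM, hTM⟩
  have hCP : (Subgroup.centralizer (V : Set G)).subgroupOf P = ⊥ :=
    (Subgroup.eq_bot_iff_forall _).2 fun x hx => Subtype.ext (hone x x.2 hx)
  obtain ⟨r, E, hE, -, -⟩ := exists_outcome V P hV hPV T M hM.1 hTM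
    (fun L hL hTL => by
      obtain ⟨M₁, hM₁, hLM₁⟩ := (eq_top_or_exists_le_coatom L).resolve_left hL
      exact hLM₁.trans (huniq M₁ ⟨hM₁, hTL.trans hLM₁⟩).le)
    (by rw [hCP]; exact bot_le)
    (fun N hN hNT => (le_bot_iff.1 (hOp ▸ le_sSup (show N ∈ {N : Subgroup ↥P |
      N.Normal ∧ IsPGroup p N} from ⟨hN, T.2.to_le hNT⟩))).le.trans bot_le)
    A hAP hAV hA
  refine ⟨r, E, hE.pos, hE.le, fun i j hij => hbot _ ?_ (hE.comm i j hij),
    fun i => hbot _ (inf_le_left.trans (hE.le i)) (hE.inf i), hE.top, hE.conj, hE.decomp, hE.comm3,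
    fun i => ?_⟩
  · exact (Subgroup.commutator_mono (hE.le i) (hE.le j)).trans
      (Subgroup.commutator_le.2 fun a ha b hb => P.mul_mem (P.mul_mem (P.mul_mem ha hb)
        (P.inv_mem ha)) (P.inv_mem hb))
  · have hK : (Subgroup.centralizer (V : Set G)).subgroupOf (E i) = ⊥ :=
      (Subgroup.eq_bot_iff_forall _).2 fun x hx => Subtype.ext (hone x (hE.le i x.2) hx)
    obtain ⟨n, hn, h⟩ := hE.model i
    refine ⟨n, hn, h.imp ?_ ?_⟩
    · rintro ⟨F, iF, jF, hF, ⟨ρ, hρ, hk⟩, hact⟩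
      exact ⟨F, iF, jF, hF, ⟨MulEquiv.ofBijective ρ
        ⟨(MonoidHom.ker_eq_bot_iff ρ).1 (hk.trans hK), hρ⟩⟩, hact⟩
    · rintro ⟨hp, ⟨ρ, hρ, hk⟩, hact⟩
      exact ⟨hp, ⟨MulEquiv.ofBijective ρ
        ⟨(MonoidHom.ker_eq_bot_iff ρ).1 (hk.trans hK), hρ⟩⟩, hact⟩

end Cfsg.Agent.S3000
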