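import Cfsg.Statements.S3001
import Cfsg.Agent.Lib.FFMin.Induction

set_option autoImplicit false
open Cfsg
open Cfsg.Agent.Lib.SL2Recog Cfsg.Agent.Lib.FFMin

namespace Cfsg.Agent.S3001

/-- Let p be a prime and let P and V be subgroups of a finite group with V elementary abelian, P normalizing V and acting faithfully on it (P ∩ C(V) = 1). Suppose P is p-minimal (a Sylow p-subgroup is not normal and lies in a unique maximal subgroup), O_p(P) = 1, and P has a best offender on V (a subgroup A not centralizing V, with A/C_A(V) elementary abelian and |B|·|C_V(B)| ≤ |A|·|C_V(A)| for every B ≤ A). Then [C_V(T), P] ≠ 1 for every Sylow p-subgroup T of P. -/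
theorem result {G : Type*} [Group G] [Finite G] {p : ℕ} [Fact p.Prime] (V P : Subgroup G) (hV : Cfsg.IsElementaryAbelian p V) (hPV : P ≤ Subgroup.normalizer (V : Set G)) (hfaith : P ⊓ Subgroup.centralizer (V : Set G) = ⊥) (hmin : Cfsg.IsPMinimal p ↥P) (hOp : Cfsg.pCore p ↥P = ⊥) (hoff : ∃ A : Subgroup G, A ≤ P ∧ ¬ A ≤ Subgroup.centralizer (V : Set G) ∧ Cfsg.IsBestOffenderOn p V A) (T : Sylow p ↥P) : ⁅(V ⊓ Subgroup.centralizer ((((T : Subgroup ↥P).map P.subtype) : Subgroup G) : Set G)), P⁆ ≠ ⊥ := by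
  classical
  letI instCV : CommGroup V := { (inferInstance : Group V) with
    mul_comm := fun a b => hV.1.is_comm.comm a b }
  have hmem : ∀ (g : ↥P) (v : V), (g : G) * (v : G) * (g : G)⁻¹ ∈ V := fun g v =>
    (Subgroup.mem_normalizer_iff.1 (hPV g.2) v).1 v.2
  letI act : DistribMulAction ↥P (Additive V) :=
    { smul := fun g v => Additive.ofMul (⟨_, hmem g v.toMul⟩ : V)
      one_smul := fun v => Additive.toMul.injective (Subtype.ext (by
        show ((1 : ↥P) : G) * (v.toMul : V) * ((1 : ↥P) : G)⁻¹ = (v.toMul : V)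
        simp))
      mul_smul := fun g h v => Additive.toMul.injective (Subtype.ext (by
        show ((g * h : ↥P) : G) * (v.toMul : V) * ((g * h : ↥P) : G)⁻¹ =
          (g : G) * ((h : G) * (v.toMul : V) * (h : G)⁻¹) * (g : G)⁻¹
        simp [mul_assoc]))
      smul_zero := fun g => Additive.toMul.injective (Subtype.ext (by
        show (g : G) * ((1 : V) : G) * (g : G)⁻¹ = ((1 : V) : G)
        simp))
      smul_add := fun g v w => Additive.toMul.injective (Subtype.ext (by
        show (g : G) * (((v.toMul : V) : G) * (w.toMul : V)) * (g : G)⁻¹ =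
          ((g : G) * (v.toMul : V) * (g : G)⁻¹) * ((g : G) * (w.toMul : V) * (g : G)⁻¹)
        simp [mul_assoc])) }
  have hsmul : ∀ (g : ↥P) (v : Additive V),
      (((g • v : Additive V).toMul : V) : G) = g * (v.toMul : V) * (g : G)⁻¹ := fun g v => rfl
  have hfaithful : FaithfulSMul ↥P (Additive V) := ⟨fun {g h} hgh => by
    have h1 : ((h⁻¹ * g : ↥P) : G) ∈ P ⊓ Subgroup.centralizer (V : Set G) := by
      refine ⟨(h⁻¹ * g).2, Subgroup.mem_centralizer_iff.2 fun v hv => ?_⟩
      have h2 : (h⁻¹ * g : ↥P) • Additive.ofMul (⟨v, hv⟩ : V) = Additive.ofMul (⟨v, hv⟩ : V) := by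
        rw [mul_smul, hgh, inv_smul_smul]
      have h3 := congrArg (fun w : Additive V => ((w.toMul : V) : G)) h2
      simp only [hsmul] at h3
      exact (mul_inv_eq_iff_eq_mul.1 h3).symm
    rw [hfaith, Subgroup.mem_bot] at h1
    exact (inv_mul_eq_one.1 (Subtype.ext h1 : h⁻¹ * g = 1)).symm⟩
  obtain ⟨A, hAP, hAV, hbest, hcomm, hpow⟩ := hoff
  set A' : Subgroup ↥P := A.subgroupOf P with hA'
  have hA'map : A'.map P.subtype = A := Subgroup.map_subgroupOf_eq_of_le hAP
  have hone : ∀ x : G, x ∈ P → x ∈ Subgroup.centralizer (V : Set G) → x = 1 := fun x h1 h2 =>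
    Subgroup.mem_bot.1 (hfaith ▸ (⟨h1, h2⟩ : x ∈ P ⊓ Subgroup.centralizer (V : Set G)))
  have hA'el : Elem p A' := by
    refine ⟨fun a ha b hb => Subtype.ext ?_, fun a ha => Subtype.ext ?_⟩
    · have h1 := hone _ (mul_mem (mul_mem (mul_mem a.2 b.2) (inv_mem a.2)) (inv_mem b.2))
        (hcomm (Subgroup.commutator_mem_commutator (show (a : G) ∈ A from ha)
          (show (b : G) ∈ A from hb)))
      exact mul_inv_eq_iff_eq_mul.1 (mul_inv_eq_one.1 h1)
    · rw [SubmonoidClass.coe_pow]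
      exact hone _ (pow_mem a.2 p) (hpow _ ha)
  have hA'0 : A' ≠ ⊥ := fun h0 => hAV (by
    rw [← hA'map, h0, Subgroup.map_bot]
    exact bot_le)
  have hfxmem : ∀ (B : Subgroup ↥P) (v : V), Additive.ofMul v ∈ fx (Additive V) B ↔
      (v : G) ∈ V ⊓ Subgroup.centralizer ((B.map P.subtype : Subgroup G) : Set G) := fun B v => by
    constructor
    · intro hv
      refine ⟨v.2, Subgroup.mem_centralizer_iff.2 ?_⟩
      rintro _ ⟨b, hb, rfl⟩
      have h3 := congrArg (fun w : Additive V => ((w.toMul : V) : G)) (hv b hb)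
      simp only [hsmul] at h3
      exact mul_inv_eq_iff_eq_mul.1 h3
    · intro hv b hb
      refine Additive.toMul.injective (Subtype.ext ?_)
      rw [hsmul]
      exact mul_inv_eq_iff_eq_mul.2 (Subgroup.mem_centralizer_iff.1 hv.2 _ ⟨b, hb, rfl⟩)
  have hfx : ∀ B : Subgroup ↥P, Nat.card (fx (Additive V) B) =
      Nat.card ↥(V ⊓ Subgroup.centralizer ((B.map P.subtype : Subgroup G) : Set G)) := fun B =>
    Nat.card_congr
      ⟨fun v => ⟨(((v : Additive V).toMul : V) : G), (hfxmem B _).1 v.2⟩,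
        fun v => ⟨Additive.ofMul (⟨v, v.2.1⟩ : V), (hfxmem B _).2 v.2⟩, fun v => rfl, fun v => rfl⟩
  have hmeas : Nat.card (Additive V) ≤ meas (Additive V) A' := by
    have h1 := hbest ⊥ bot_le
    have h2 : V ⊓ Subgroup.centralizer (((⊥ : Subgroup G)) : Set G) = V :=
      inf_eq_left.2 fun v _ => Subgroup.mem_centralizer_iff.2 fun x hx => by
        rw [Subgroup.mem_bot.1 hx, one_mul, mul_one]
    rw [Subgroup.card_bot, one_mul, h2] at h1
    have hc : Nat.card A = Nat.card A' := by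
      rw [← hA'map, Subgroup.card_map_of_injective P.subtype_injective]
    rw [meas, hfx, hA'map, Nat.card_congr Additive.toMul, ← hc]
    exact h1
  have hyp : Hyp p ↥P := by
    refine ⟨fun N hN hNp => le_bot_iff.1 (hOp ▸ le_sSup (show N ∈ {N : Subgroup ↥P |
      N.Normal ∧ IsPGroup p N} from ⟨hN, hNp⟩)), ?_⟩
    obtain ⟨-, M, ⟨hM, hTM⟩, huniq⟩ := hmin T
    refine ⟨M, UMax.of_sylow hM.1 T hTM fun L hL hTL => ?_⟩
    obtain ⟨M', hM', hLM'⟩ := (eq_top_or_exists_le_coatom L).resolve_left hL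
    exact hLM'.trans (huniq M' ⟨hM', hTL.trans hLM'⟩).le
  have hmoved : Moved p ↥P (Additive V) := moved_of_offender
    (fun w => Additive.toMul.injective (Subtype.ext (hV.2 _ (w.toMul : V).2))) hyp hA'el hA'0 hmeas
  obtain ⟨z, hzT, g, hg⟩ := hmoved.forall T
  intro hbot
  refine hg ?_
  have hz : ((z.toMul : V) : G) ∈ V ⊓ Subgroup.centralizer
      ((((T : Subgroup ↥P).map P.subtype) : Subgroup G) : Set G) :=
    (hfxmem (T : Subgroup ↥P) z.toMul).1 hzT
  have h1 := Subgroup.mem_centralizer_iff.1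
    (Subgroup.commutator_eq_bot_iff_le_centralizer.1 hbot hz) (g : G) g.2
  refine Additive.toMul.injective (Subtype.ext ?_)
  rw [hsmul]
  exact mul_inv_eq_iff_eq_mul.2 h1

end Cfsg.Agent.S3001
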