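import Cfsg.Statements.S3003
import Mathlib
import Cfsg.Agent.Lib.PSolvable.Core
import Cfsg.Agent.Lib.Coprime.Generation
import Cfsg.Agent.Lib.CD.Basic


set_option autoImplicit false
open Cfsg

namespace Cfsg.Agent.S3003

/-- Let G be a finite group, p a prime and Q a large p-subgroup of G: C_G(Q) ≤ Q and N_G(U) ≤ N_G(Q) for every nontrivial subgroup U of C_G(Q). Let Q ≤ G₁ ≤ G, let R be a subgroup of order prime to p normalized by G₁, and let U ≤ G₁ be a p-subgroup. If U contains a nontrivial element which is G₁-conjugate to an element of Z(Q), then C_R(U) = 1. In particular, if U is elementary abelian of order at least p² and every maximal subgroup of U contains a nontrivial element G₁-conjugate into Z(Q), then R = 1. -/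
theorem result {G : Type*} [Group G] [Finite G] {p : ℕ} [Fact p.Prime] (Q : Subgroup G) (hQp : IsPGroup p ↥Q) (hlarge : Cfsg.IsLarge Q) (G₁ : Subgroup G) (hQG : Q ≤ G₁) (R : Subgroup G) (hR : (Nat.card ↥R).Coprime p) (hGR : G₁ ≤ Subgroup.normalizer (R : Set G)) (U : Subgroup G) (hUG : U ≤ G₁) (hUp : IsPGroup p ↥U) : ((∃ x ∈ U, x ≠ 1 ∧ ∃ g ∈ G₁, g * x * g⁻¹ ∈ Q ⊓ Subgroup.centralizer (Q : Set G)) → R ⊓ Subgroup.centralizer (U : Set G) = ⊥) ∧ (Cfsg.IsElementaryAbelian p U → p ^ 2 ≤ Nat.card ↥U → (∀ U₀ : Subgroup G, U₀ ≤ U → IsCoatom (U₀.subgroupOf U) → ∃ x ∈ U₀, x ≠ 1 ∧ ∃ g ∈ G₁, g * x * g⁻¹ ∈ Q ⊓ Subgroup.centralizer (Q : Set G)) → R = ⊥) := by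
  have hQR : R ⊓ Q = ⊥ := by
    rw [inf_comm]; exact Lib.PSolvable.inf_eq_bot_of_isPGroup_of_coprime hQp hR
  have part1 : ∀ U : Subgroup G, U ≤ G₁ → (∃ x ∈ U, x ≠ 1 ∧ ∃ g ∈ G₁, g * x * g⁻¹ ∈ Q ⊓ Subgroup.centralizer (Q : Set G)) →
      R ⊓ Subgroup.centralizer (U : Set G) = ⊥ := by
    rintro U - ⟨x, hx, hx1, g, hg, hy⟩
    rw [eq_bot_iff]
    rintro r ⟨hr, hrU⟩
    set r' := g * r * g⁻¹ with hr'
    have hr'R : r' ∈ R := (Subgroup.mem_normalizer_iff.1 (hGR hg) r).1 hr
    have hc : Commute r' (g * x * g⁻¹) := (Commute.conj_iff g).2 (hrU x hx).symm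
    have hne : Subgroup.zpowers (g * x * g⁻¹) ≠ ⊥ := by
      rw [Ne, Subgroup.zpowers_eq_bot, conj_eq_one_iff]; exact hx1
    have hrN : r' ∈ Subgroup.normalizer (Q : Set G) := by
      refine hlarge.2 _ (Subgroup.zpowers_le.2 hy.2) hne (Subgroup.centralizer_le_normalizer _ ?_)
      rw [Subgroup.zpowers_eq_closure, Subgroup.centralizer_closure, Subgroup.mem_centralizer_singleton_iff]
      exact hc.eq
    have hrC : r' ∈ Subgroup.centralizer (Q : Set G) := by
      intro q hq
      have h1 : q * r' * q⁻¹ * r'⁻¹ ∈ R :=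
        mul_mem ((Subgroup.mem_normalizer_iff.1 (hGR (hQG hq)) r').1 hr'R) (inv_mem hr'R)
      have h2 : q * r' * q⁻¹ * r'⁻¹ ∈ Q := by
        rw [show q * r' * q⁻¹ * r'⁻¹ = q * (r' * q⁻¹ * r'⁻¹) by group]
        exact mul_mem hq ((Subgroup.mem_normalizer_iff.1 hrN q⁻¹).1 (inv_mem hq))
      have h3 := Subgroup.mem_bot.1 (hQR ▸ Subgroup.mem_inf.2 ⟨h1, h2⟩)
      rw [mul_inv_eq_iff_eq_mul, one_mul, mul_inv_eq_iff_eq_mul] at h3
      exact h3
    have := Subgroup.mem_bot.1 (hQR ▸ Subgroup.mem_inf.2 ⟨hr'R, hlarge.1 hrC⟩)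
    exact Subgroup.mem_bot.2 (conj_eq_one_iff.1 this)
  refine ⟨part1 U hUG, fun hU hcard hmax => ?_⟩
  have main : ∀ n, ∀ W : Subgroup G, W ≤ U → Nat.card U ≤ Nat.card W + n → W ≠ U →
      R ⊓ Subgroup.centralizer (W : Set G) = ⊥ := by
    intro n
    induction n with
    | zero => intro W hW hc hne; exact absurd (Subgroup.eq_of_le_of_card_ge hW (by simpa using hc)) hne
    | succ n ih =>
      intro W hW hc hne
      by_cases hco : IsCoatom (W.subgroupOf U)
      · exact part1 W (hW.trans hUG) (hmax W hW hco)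
      have hWtop : W.subgroupOf U ≠ ⊤ := fun h => hne (le_antisymm hW (Subgroup.subgroupOf_eq_top.1 h))
      obtain ⟨M₀, hM₀, hM₀top⟩ : ∃ M₀ : Subgroup ↥U, W.subgroupOf U < M₀ ∧ M₀ ≠ ⊤ := by
        unfold IsCoatom at hco
        push Not at hco
        exact hco hWtop
      set M := M₀.map U.subtype with hM
      obtain ⟨a₀, ha₀, ha₀W⟩ := SetLike.exists_of_lt hM₀
      obtain ⟨b₀, -, hb₀M⟩ := SetLike.exists_of_lt (lt_top_iff_ne_top.2 hM₀top)
      set a : G := (a₀ : G)
      set b : G := (b₀ : G)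
      have haU : a ∈ U := a₀.2
      have hbU : b ∈ U := b₀.2
      have haM : a ∈ M := ⟨a₀, ha₀, rfl⟩
      have haW : a ∉ W := fun h => ha₀W (Subgroup.mem_subgroupOf.2 h)
      have hWM : W ≤ M := fun w hw => ⟨⟨w, hW hw⟩, hM₀.le (Subgroup.mem_subgroupOf.2 hw), rfl⟩
      have hbM : b ∉ M := by
        rintro ⟨z, hz, hzb⟩
        exact hb₀M ((Subtype.ext hzb : z = b₀) ▸ hz)
      have hbp : b ^ p = 1 := hU.2 b hbU
      have hap : a ^ p = 1 := hU.2 a haU
      have hb1 : b ≠ 1 := fun h => hbM (h ▸ one_mem M)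
      have hbo : orderOf b = p := orderOf_eq_prime hbp hb1
      have hab : Commute a b := congrArg (fun z : ↥U => (z : G)) (hU.1.is_comm.comm a₀ b₀)
      have hanb : a ∉ Subgroup.zpowers b := by
        intro h
        have ha1 : a ≠ 1 := fun h => haW (h ▸ one_mem W)
        have e : Subgroup.zpowers a = Subgroup.zpowers b := Subgroup.eq_of_le_of_card_ge
          (Subgroup.zpowers_le.2 h) (by rw [Nat.card_zpowers, Nat.card_zpowers, hbo, orderOf_eq_prime hap ha1])
        exact hbM ((Subgroup.zpowers_le.2 haM) (e ▸ Subgroup.mem_zpowers b))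
      have hclU : Subgroup.closure ({a, b} : Set G) ≤ U :=
        (Subgroup.closure_le U).2 (Set.insert_subset haU (Set.singleton_subset_iff.2 hbU))
      have hUc : ∀ u ∈ U, ∀ v ∈ U, u * v = v * u := fun u hu v hv =>
        congrArg (fun z : ↥U => (z : G)) (hU.1.is_comm.comm ⟨u, hu⟩ ⟨v, hv⟩)
      have hK : Subgroup.closure ({a, b} : Set G) ≤
          Subgroup.normalizer ((R ⊓ Subgroup.centralizer (W : Set G) : Subgroup G) : Set G) := by
        refine hclU.trans fun u hu => Subgroup.mem_normalizer_iff_map_conj_eq.2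
          (Subgroup.eq_of_le_of_card_ge ?_ (le_of_eq (Nat.card_congr
            ((R ⊓ Subgroup.centralizer (W : Set G)).equivMapOfInjective _ (MulAut.conj u).injective).toEquiv)))
        rintro _ ⟨r, ⟨hr, hrc⟩, rfl⟩
        refine ⟨(Subgroup.mem_normalizer_iff.1 (hGR (hUG hu)) r).1 hr, fun w hw => ?_⟩
        have e : MulAut.conj u w = w := by
          simp [hUc u hu w (hW hw)]
        have h := congrArg (MulAut.conj u) (hrc w hw)
        rw [map_mul, map_mul, e] at h
        exact h
      have hcop : p.Coprime (Nat.card ↥(R ⊓ Subgroup.centralizer (W : Set G) : Subgroup G)) :=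
        (hR.coprime_dvd_left (Subgroup.card_dvd_of_le inf_le_left)).symm
      refine le_bot_iff.1 (Lib.Coprime.le_of_pair Fact.out hcop hK hab hap hbp hb1 hanb fun x hx hx1 => ?_)
      -- `W ⊔ ⟨x⟩` is bigger than `W` but still proper
      obtain ⟨i, j, hij⟩ : ∃ i j : ℤ, a ^ i * b ^ j = x := by
        clear hx1
        induction hx using Subgroup.closure_induction with
        | mem y hy =>
          rcases hy with rfl | rfl
          · exact ⟨1, 0, by simp⟩
          · exact ⟨0, 1, by simp⟩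
        | one => exact ⟨0, 0, by simp⟩
        | mul y z _ _ hy hz =>
          obtain ⟨i, j, rfl⟩ := hy
          obtain ⟨k, l, rfl⟩ := hz
          refine ⟨i + k, j + l, ?_⟩
          have hc : Commute (b ^ j) (a ^ k) := (hab.symm).zpow_zpow j k
          rw [zpow_add, zpow_add]
          calc a ^ i * a ^ k * (b ^ j * b ^ l) = a ^ i * (a ^ k * b ^ j) * b ^ l := by group
            _ = a ^ i * b ^ j * (a ^ k * b ^ l) := by rw [← hc.eq]; group
        | inv y _ hy =>
          obtain ⟨i, j, rfl⟩ := hy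
          refine ⟨-i, -j, ?_⟩
          rw [mul_inv_rev, zpow_neg, zpow_neg]
          exact (hab.zpow_zpow i j).inv_inv.eq
      have hxW : x ∉ W := by
        intro h
        have hbj : b ^ j ∈ M := by
          have := mul_mem (inv_mem (zpow_mem haM i)) (hWM (hij ▸ h))
          rwa [inv_mul_cancel_left] at this
        have hbj1 : b ^ j = 1 := by
          by_contra hne1
          have hbjp : (b ^ j) ^ p = 1 := by
            rw [← zpow_natCast (b ^ j), ← zpow_mul, mul_comm, zpow_mul, zpow_natCast, hbp, one_zpow]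
          have e : Subgroup.zpowers (b ^ j) = Subgroup.zpowers b := Subgroup.eq_of_le_of_card_ge
            (Subgroup.zpowers_le.2 (zpow_mem (Subgroup.mem_zpowers b) j))
            (by rw [Nat.card_zpowers, Nat.card_zpowers, hbo, orderOf_eq_prime hbjp hne1])
          exact hbM (Subgroup.zpowers_le.2 hbj (e ▸ Subgroup.mem_zpowers b))
        rw [hbj1, mul_one] at hij
        have haip : (a ^ i) ^ p = 1 := by
          rw [← zpow_natCast (a ^ i), ← zpow_mul, mul_comm, zpow_mul, zpow_natCast, hap, one_zpow]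
        have e : Subgroup.zpowers (a ^ i) = Subgroup.zpowers a := Subgroup.eq_of_le_of_card_ge
          (Subgroup.zpowers_le.2 (zpow_mem (Subgroup.mem_zpowers a) i))
          (by rw [Nat.card_zpowers, Nat.card_zpowers, orderOf_eq_prime hap (fun h => haW (h ▸ one_mem W)),
            orderOf_eq_prime haip (hij ▸ hx1)])
        exact haW (Subgroup.zpowers_le.2 (hij ▸ h) (e ▸ Subgroup.mem_zpowers a))
      set W' := W ⊔ Subgroup.zpowers x with hW'
      have hW'U : W' ≤ U := sup_le hW (Subgroup.zpowers_le.2 (hclU hx))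
      have hlt : W < W' := left_lt_sup.2 fun h => hxW (h (Subgroup.mem_zpowers x))
      have hne' : W' ≠ U := by
        intro h
        have hxp : x ^ p = 1 := hU.2 x (hclU hx)
        have hn : W ≤ Subgroup.normalizer ((Subgroup.zpowers x : Subgroup G) : Set G) := fun w hw =>
          Subgroup.centralizer_le_normalizer _ (fun z hz => (hUc z (Subgroup.zpowers_le.2 (hclU hx) hz) w (hW hw)))
        have hc1 : Nat.card ↥W' ≤ Nat.card ↥W * p := by
          have h2 := Lib.CD.card_setMul_mul_card_inf W (Subgroup.zpowers x)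
          rw [← Subgroup.coe_mul_of_left_le_normalizer_right _ _ hn] at h2
          calc Nat.card ↥W' = Nat.card ↥W' * 1 := (mul_one _).symm
            _ ≤ Nat.card ↥W' * Nat.card ↥(W ⊓ Subgroup.zpowers x) := Nat.mul_le_mul_left _ Nat.card_pos
            _ = Nat.card ↥W * Nat.card ↥(Subgroup.zpowers x) := h2
            _ ≤ Nat.card ↥W * p := Nat.mul_le_mul_left _ (by
              rw [Nat.card_zpowers]; exact orderOf_le_of_pow_eq_one (Fact.out : p.Prime).pos hxp)
        have step : ∀ A B : Subgroup G, A < B → B ≤ U → Nat.card ↥A * p ≤ Nat.card ↥B := by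
          intro A B hAB hBU
          obtain ⟨k, hk⟩ := (hUp.to_le hBU).exists_card_eq
          obtain ⟨l, hl⟩ := (hUp.to_le (hAB.le.trans hBU)).exists_card_eq
          have hlt' : p ^ l < p ^ k := by
            rw [← hk, ← hl]
            exact lt_of_le_of_ne (Subgroup.card_le_of_le hAB.le) fun e =>
              hAB.ne (Subgroup.eq_of_le_of_card_ge hAB.le e.ge)
          rw [hk, hl, ← pow_succ]
          exact Nat.pow_le_pow_right (Fact.out : p.Prime).pos
            ((Nat.pow_lt_pow_iff_right (Fact.out : p.Prime).one_lt).1 hlt')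
        have s1 := step W M (lt_of_le_of_ne hWM fun e => haW (e ▸ haM)) (Subgroup.map_subtype_le _)
        have s2 := step M U (lt_of_le_of_ne (Subgroup.map_subtype_le _) fun e => hbM (e ▸ hbU)) le_rfl
        rw [← h] at s2
        have h4 : 0 < Nat.card ↥W * p := Nat.mul_pos Nat.card_pos (Fact.out : p.Prime).pos
        have h5 : Nat.card ↥W * p < Nat.card ↥W * p * p :=
          lt_mul_of_one_lt_right h4 (Fact.out : p.Prime).one_lt
        exact absurd ((Nat.mul_le_mul_right p s1).trans (s2.trans hc1)) h5.not_ge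
      have hcW : Nat.card U ≤ Nat.card W' + n := by
        have : Nat.card W < Nat.card W' := lt_of_le_of_ne (Subgroup.card_le_of_le hlt.le) fun e =>
          hlt.ne (Subgroup.eq_of_le_of_card_ge hlt.le e.ge)
        omega
      refine le_trans ?_ (ih W' hW'U hcW hne').le
      rw [hW', Lib.CD.centralizer_sup, Subgroup.zpowers_eq_closure, Subgroup.centralizer_closure, inf_assoc]
  have hUne : (⊥ : Subgroup G) ≠ U := by
    intro h
    rw [← h, Subgroup.card_bot] at hcard
    exact absurd hcard (Nat.one_lt_pow two_ne_zero (Fact.out : p.Prime).one_lt).not_ge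
  have := main _ ⊥ bot_le (Nat.le_add_left _ _) hUne
  rw [← this]
  exact (inf_eq_left.2 fun r _ w hw => by rw [Subgroup.mem_bot.1 hw]; simp).symm

end Cfsg.Agent.S3003
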