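import Cfsg.Statements.S3006
import Mathlib
import Cfsg.Agent.Lib.CD.Basic


set_option autoImplicit false
open scoped Pointwise
open Cfsg

namespace Cfsg.Agent.S3006

/-- Let P be a finite p-group, Q a centrally large subgroup of P (|Q|·|Z(Q)| maximal among subgroups of P) and A an abelian subgroup of P of largest order. Then QA = AQ is a centrally large subgroup of P, C_{QA}(Q ∩ A) = Z(Q)·A, and the subgroup generated by all centrally large subgroups of P contains C_P(Z(J(P))), where J(P) is generated by the abelian subgroups of largest order. -/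
theorem result {p : ℕ} [Fact p.Prime] (P : Type*) [Group P] [Finite P] (hP : IsPGroup p P) (Q A : Subgroup P) (hQ : Cfsg.IsCentrallyLarge Q) (hA : A ∈ Cfsg.maxAbelianSubgroups P) : ((Q ⊔ A : Subgroup P) : Set P) = (Q : Set P) * (A : Set P) ∧ Cfsg.IsCentrallyLarge (Q ⊔ A) ∧ (Q ⊔ A) ⊓ Subgroup.centralizer ((Q ⊓ A : Subgroup P) : Set P) = (Q ⊓ Subgroup.centralizer (Q : Set P)) ⊔ A ∧ (((Q ⊓ Subgroup.centralizer (Q : Set P)) ⊔ A : Subgroup P) : Set P) = ((Q ⊓ Subgroup.centralizer (Q : Set P)) : Set P) * (A : Set P) ∧ Subgroup.centralizer ((Cfsg.thompsonSubgroupA P ⊓ Subgroup.centralizer (Cfsg.thompsonSubgroupA P : Set P) : Subgroup P) : Set P) ≤ Cfsg.centrallyLargeJoin P := by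
  obtain ⟨h1, h2, h3⟩ := Lib.CD.centrallyLarge_sup_maxAbelian hQ hA
  obtain ⟨hQ1, hQ2⟩ := (Lib.CD.centrallyLarge_iff Q).1 hQ
  have hZ : Q ⊓ Subgroup.centralizer (Q : Set P) = Subgroup.centralizer (Q : Set P) :=
    inf_eq_right.2 hQ2
  set Z := Subgroup.centralizer (Q : Set P) with hZdef
  have hAc : A ≤ Subgroup.centralizer (A : Set P) :=
    Subgroup.le_centralizer_iff_isMulCommutative.2 hA.1
  -- the members of `Q` centralizing `Q ⊓ A`
  have hq : ∀ q ∈ Q, q ∈ Subgroup.centralizer ((Q ⊓ A : Subgroup P) : Set P) → q ∈ (Q ⊓ A) ⊔ Z := by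
    intro q hq hqc
    have e : Subgroup.centralizer (((Q ⊓ A) ⊔ Z : Subgroup P) : Set P) = (Q ⊓ A) ⊔ Z :=
      Lib.CD.centralizer_maxAbelian h3
    rw [← e, Lib.CD.centralizer_sup]
    exact ⟨hqc, Lib.CD.le_centralizer_centralizer Q hq⟩
  have hcent : Z ⊔ A ≤ Subgroup.centralizer ((Q ⊓ A : Subgroup P) : Set P) := by
    refine sup_le (Subgroup.centralizer_le (SetLike.coe_subset_coe.2 inf_le_left)) ?_
    exact hAc.trans (Subgroup.centralizer_le (SetLike.coe_subset_coe.2 inf_le_right))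
  have hdec : ∀ x ∈ (Q ⊔ A) ⊓ Subgroup.centralizer ((Q ⊓ A : Subgroup P) : Set P),
      x ∈ (Z : Set P) * (A : Set P) := by
    rintro x ⟨hx, hxc⟩
    obtain ⟨q, hqQ, a, ha, rfl⟩ := Set.mem_mul.1 (h2.subset hx)
    have hac : a ∈ Subgroup.centralizer ((Q ⊓ A : Subgroup P) : Set P) := hcent (Subgroup.mem_sup_right ha)
    have hqc : q ∈ Subgroup.centralizer ((Q ⊓ A : Subgroup P) : Set P) := by
      have hxc' : q * a ∈ Subgroup.centralizer ((Q ⊓ A : Subgroup P) : Set P) := hxc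
      have := mul_mem hxc' (inv_mem hac)
      rwa [mul_inv_cancel_right] at this
    have hq' := hq q hqQ hqc
    rw [sup_comm] at hq'
    have hn : (Q ⊓ A : Subgroup P) ≤ Subgroup.normalizer (Z : Set P) :=
      (inf_le_left.trans (Lib.CD.le_centralizer_centralizer Q)).trans (Subgroup.centralizer_le_normalizer _)
    have hmem : q ∈ ((Z ⊔ (Q ⊓ A) : Subgroup P) : Set P) := hq'
    rw [Subgroup.coe_mul_of_right_le_normalizer_left _ _ hn] at hmem
    obtain ⟨z, hz, b, hb, rfl⟩ := Set.mem_mul.1 hmem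
    exact Set.mem_mul.2 ⟨z, hz, b * a, mul_mem hb.2 ha, (mul_assoc z b a).symm⟩
  have hle : Z ⊔ A ≤ (Q ⊔ A) ⊓ Subgroup.centralizer ((Q ⊓ A : Subgroup P) : Set P) :=
    le_inf (sup_le_sup_right hQ2 A) hcent
  refine ⟨h2, h1, ?_, ?_, ?_⟩
  · rw [hZ]
    exact le_antisymm (fun x hx => Lib.CD.setMul_subset_sup Z A (hdec x hx)) hle
  · have : ((Z ⊔ A : Subgroup P) : Set P) = (Z : Set P) * (A : Set P) :=
      Set.Subset.antisymm (fun x hx => hdec x (hle hx)) (Lib.CD.setMul_subset_sup Z A)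
    have hZ' : (Q : Set P) ∩ (Z : Set P) = (Z : Set P) := Set.inter_eq_right.2 hQ2
    rw [hZ, this]
    simp [hZ']
  · refine (Lib.CD.centralizer_center_thompsonA_le hQ).trans (sup_le (le_sSup hQ) (sSup_le fun B hB => ?_))
    exact le_trans le_sup_right (le_sSup (Lib.CD.centrallyLarge_sup_maxAbelian hQ hB).1)

end Cfsg.Agent.S3006
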