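import Cfsg.Statements.S3008
import Cfsg.Agent.Lib.CD.Replace

set_option autoImplicit false
open Cfsg
open scoped Pointwise

namespace Cfsg.Agent.S3008

/-- Let P be a finite p-group, with J(P) generated by its abelian subgroups of largest order and J̃(P) = C_P(Z(J(P))); call R ≤ P centrally large if |R|·|Z(R)| is as large as possible, and let P_MCL be generated by the minimal centrally large subgroups. Then: for every centrally large Q, Q·J(P) ⊇ J̃(P); some minimal centrally large subgroup of P is normalized by both J(P) and P_MCL; if P = J(P) and d(P)² = |P|·|Z(P)|, where d(P) is the largest order of an abelian subgroup, then every minimal centrally large subgroup of P is abelian; and if every minimal centrally large subgroup is abelian then J̃(P) = J(P). -/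
theorem result {p : ℕ} [Fact p.Prime] (P : Type*) [Group P] [Finite P] (hP : IsPGroup p P) : (∀ Q : Subgroup P, Cfsg.IsCentrallyLarge Q → Subgroup.centralizer ((Cfsg.thompsonSubgroupA P ⊓ Subgroup.centralizer (Cfsg.thompsonSubgroupA P : Set P) : Subgroup P) : Set P) ≤ Q ⊔ Cfsg.thompsonSubgroupA P) ∧ (∃ Q : Subgroup P, Cfsg.IsMinimalCentrallyLarge Q ∧ Cfsg.thompsonSubgroupA P ≤ Subgroup.normalizer (Q : Set P) ∧ Cfsg.minimalCentrallyLargeJoin P ≤ Subgroup.normalizer (Q : Set P)) ∧ (Cfsg.thompsonSubgroupA P = ⊤ → (∀ A ∈ Cfsg.maxAbelianSubgroups P, Nat.card ↥A ^ 2 = Nat.card P * Nat.card ↥(Subgroup.center P)) → ∀ Q : Subgroup P, Cfsg.IsMinimalCentrallyLarge Q → IsMulCommutative ↥Q) ∧ ((∀ Q : Subgroup P, Cfsg.IsMinimalCentrallyLarge Q → IsMulCommutative ↥Q) → Subgroup.centralizer ((Cfsg.thompsonSubgroupA P ⊓ Subgroup.centralizer (Cfsg.thompsonSubgroupA P : Set P) : Subgroup P) : Set P) = Cfsg.thompsonSubgroupA P) := by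
  classical
  set J := Cfsg.thompsonSubgroupA P with hJ
  have hZa : ∀ A ∈ Cfsg.maxAbelianSubgroups P, ∀ Q : Subgroup P, Cfsg.IsMinimalCentrallyLarge Q →
      ((A ⊔ Subgroup.centralizer (Q : Set P) : Subgroup P) : Set P) =
        (A : Set P) * (Subgroup.centralizer (Q : Set P) : Set P) := by
    intro A hA Q hQ
    obtain ⟨-, hset, hmem⟩ := Lib.CD.centrallyLarge_sup_maxAbelian hQ.1 hA
    obtain ⟨hQ1, hQ2⟩ := (Lib.CD.centrallyLarge_iff Q).1 hQ.1
    set Z := Subgroup.centralizer (Q : Set P) with hZ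
    refine Set.Subset.antisymm (fun g hg => ?_) (Lib.CD.setMul_subset_sup A Z)
    obtain ⟨q, hq, a, ha, rfl⟩ := Set.mem_mul.1
      (hset.subset (sup_le le_sup_right (hQ2.trans le_sup_left) hg))
    have hAD : A ⊔ Z ≤ Subgroup.centralizer ((Q ⊓ A : Subgroup P) : Set P) := by
      refine sup_le ?_ ?_
      · exact (Lib.CD.centralizer_maxAbelian hA).ge.trans
          (Subgroup.centralizer_le (SetLike.coe_subset_coe.2 inf_le_right))
      · exact Subgroup.centralizer_le (SetLike.coe_subset_coe.2 inf_le_left)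
    have hqD : q ∈ Subgroup.centralizer ((Q ⊓ A : Subgroup P) : Set P) := by
      have := mul_mem (hAD hg) (inv_mem (hAD (Subgroup.mem_sup_left ha)))
      rwa [mul_inv_cancel_right] at this
    have hqmem : q ∈ (Q ⊓ A) ⊔ Z := by
      rw [← Lib.CD.centralizer_maxAbelian hmem, Lib.CD.centralizer_sup]
      exact ⟨hqD, Lib.CD.le_centralizer_centralizer Q hq⟩
    have hn : Q ⊓ A ≤ Subgroup.normalizer (Z : Set P) :=
      (inf_le_left.trans (Lib.CD.le_centralizer_centralizer Q)).trans (Subgroup.centralizer_le_normalizer _)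
    rw [← SetLike.mem_coe, Subgroup.coe_mul_of_left_le_normalizer_right _ _ hn] at hqmem
    obtain ⟨d, hd, z, hz, rfl⟩ := Set.mem_mul.1 hqmem
    obtain ⟨a', ha', z', hz', e⟩ : ∃ a' ∈ A, ∃ z' ∈ Z, a' * z' = z * a := by
      -- swap `z * a` through `Q * A`
      obtain ⟨q', hq', a'', ha'', e⟩ := Set.mem_mul.1 (hset.subset
        (show a⁻¹ * z⁻¹ ∈ Q ⊔ A from mul_mem (Subgroup.mem_sup_right (inv_mem ha))
          (Subgroup.mem_sup_left (inv_mem (hQ2 hz)))))
      have hq'D : q' ∈ Subgroup.centralizer ((Q ⊓ A : Subgroup P) : Set P) := by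
        have hu : a⁻¹ * z⁻¹ ∈ A ⊔ Z := mul_mem (Subgroup.mem_sup_left (inv_mem ha))
          (Subgroup.mem_sup_right (inv_mem hz))
        have := mul_mem (hAD hu) (inv_mem (hAD (Subgroup.mem_sup_left ha'')))
        rwa [← e, mul_inv_cancel_right] at this
      have hq'mem : q' ∈ Z ⊔ (Q ⊓ A) := by
        rw [sup_comm, ← Lib.CD.centralizer_maxAbelian hmem, Lib.CD.centralizer_sup]
        exact ⟨hq'D, Lib.CD.le_centralizer_centralizer Q hq'⟩
      rw [← SetLike.mem_coe, Subgroup.coe_mul_of_right_le_normalizer_left _ _ hn] at hq'mem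
      obtain ⟨z', hz', d', hd', rfl⟩ := Set.mem_mul.1 hq'mem
      refine ⟨(d' * a'')⁻¹, inv_mem (mul_mem hd'.2 ha''), z'⁻¹, inv_mem hz', ?_⟩
      rw [← mul_inv_rev, ← mul_assoc, e]
      simp
    exact Set.mem_mul.2 ⟨d * a', mul_mem hd.2 ha', z', hz', by rw [mul_assoc, e, mul_assoc]⟩
  refine ⟨fun Q hQ => Lib.CD.centralizer_center_thompsonA_le hQ, ?_, fun hJtop hd Q hQ => ?_, fun hab => ?_⟩
  · -- a minimal centrally large subgroup with deepest centre
    obtain ⟨n, hn⟩ := (hP.isNilpotent).nilpotent'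
    obtain ⟨R₀, hR₀⟩ := Lib.CD.exists_centrallyLarge (G := P)
    obtain ⟨Q₀, -, hQ₀⟩ := Lib.CD.exists_minimalCentrallyLarge_le hR₀
    obtain ⟨Q, hQ, hmax'⟩ := Set.Finite.exists_maximalFor (f := Lib.CD.centreDepth n)
      {Q : Subgroup P | Cfsg.IsMinimalCentrallyLarge Q} (Set.toFinite _) ⟨Q₀, hQ₀⟩
    have hmax : ∀ R : Subgroup P, Cfsg.IsMinimalCentrallyLarge R →
        Lib.CD.centreDepth n R ≤ Lib.CD.centreDepth n Q := by
      intro R hR
      by_contra h
      exact h (hmax' hR (le_of_not_ge h))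
    obtain ⟨hQ1, hQ2⟩ := (Lib.CD.centrallyLarge_iff Q).1 hQ.1
    have hZc : Subgroup.centralizer (Q : Set P) ≤
        Subgroup.centralizer (Subgroup.centralizer (Q : Set P) : Set P) :=
      hQ2.trans (Lib.CD.le_centralizer_centralizer Q)
    have hnorm : ∀ A : Subgroup P, A ≤ Subgroup.centralizer (A : Set P) →
        ((A ⊔ Subgroup.centralizer (Q : Set P) : Subgroup P) : Set P) =
          (A : Set P) * (Subgroup.centralizer (Q : Set P) : Set P) →
        A ≤ Subgroup.normalizer (Q : Set P) := fun A hA hprod x hx =>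
      Lib.CD.exists_deeper hP hn hQ hmax x fun a ha b hb =>
        Lib.CD.commute_commutators A _ hA hZc hprod hx hx ha hb
    refine ⟨Q, hQ, sSup_le fun A hA => ?_, sSup_le fun R hR => ?_⟩
    · exact hnorm A (Lib.CD.centralizer_maxAbelian hA).ge (hZa A hA Q hQ)
    · obtain ⟨hR1, hR2⟩ := (Lib.CD.centrallyLarge_iff R).1 hR.1
      have hdec := (Cfsg.Agent.S3007.result P hP R Q hR hQ).1
      rw [inf_eq_right.2 hR2] at hdec
      rw [← hdec]
      refine sup_le (inf_le_right.trans Subgroup.le_normalizer) (hnorm _ ?_ ?_)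
      · exact hR2.trans (Lib.CD.le_centralizer_centralizer R)
      · exact (Lib.CD.centralizerLarge_sup_inf (Lib.CD.centralizerLarge_centralizer hR1).1
          (Lib.CD.centralizerLarge_centralizer hQ1).1).2.2.1
  · -- `P = J` and `d² = |P| |Z(P)|`
    obtain ⟨A, hA⟩ := Lib.CD.exists_mem_maxAbelianSubgroups (G := P)
    have hPCL : Cfsg.IsCentrallyLarge (⊤ : Subgroup P) := by
      have h := Lib.CD.centrallyLarge_sSup (T := (fun A => Q ⊔ A) '' Cfsg.maxAbelianSubgroups P)
        ⟨_, A, hA, rfl⟩ (by rintro _ ⟨B, hB, rfl⟩; exact (Lib.CD.centrallyLarge_sup_maxAbelian hQ.1 hB).1)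
      refine (congrArg Cfsg.IsCentrallyLarge (top_le_iff.1 ?_)).mp h
      rw [← hJtop]
      exact sSup_le fun B hB => le_sup_right.trans (le_sSup ⟨B, hB, rfl⟩)
    have hACL : Cfsg.IsCentrallyLarge A := by
      unfold Cfsg.IsCentrallyLarge at hPCL ⊢
      rw [Lib.CD.card_center_subgroup, inf_eq_left.2 (Lib.CD.centralizer_maxAbelian hA).ge,
        ← sq, hd A hA, ← hPCL, Lib.CD.card_center_subgroup, top_inf_eq, Subgroup.coe_top,
        Subgroup.centralizer_univ, Subgroup.card_top]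
    obtain ⟨R, hRA, hR⟩ := Lib.CD.exists_minimalCentrallyLarge_le hACL
    have hRA' : R = A := le_antisymm hRA
      (((Lib.CD.centralizer_maxAbelian hA).ge.trans
        (Subgroup.centralizer_le (SetLike.coe_subset_coe.2 hRA))).trans
        ((Lib.CD.centrallyLarge_iff R).1 hR.1).2)
    subst hRA'
    exact (((Cfsg.Agent.S3007.result P hP R Q hR hQ).2.2.2.2 hA.1 Q).1 hQ).1
  · -- all minimal centrally large subgroups abelian
    obtain ⟨R₀, hR₀⟩ := Lib.CD.exists_centrallyLarge (G := P)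
    obtain ⟨Q₀, -, hQ₀⟩ := Lib.CD.exists_minimalCentrallyLarge_le hR₀
    have hQ₀A := ((Cfsg.Agent.S3007.result P hP Q₀ Q₀ hQ₀ hQ₀).2.2.2.2 (hab Q₀ hQ₀) Q₀).1 hQ₀
    refine le_antisymm ((Lib.CD.centralizer_center_thompsonA_le hQ₀.1).trans
      (sup_le (le_sSup hQ₀A) le_rfl)) ?_
    exact (Lib.CD.le_centralizer_centralizer J).trans
      (Subgroup.centralizer_le (SetLike.coe_subset_coe.2 inf_le_right))

end Cfsg.Agent.S3008
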