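import Cfsg.Statements.S3011
import Mathlib
import Cfsg.Agent.S0200
import Cfsg.Agent.Lib.PSolvable.Core

set_option autoImplicit false
open Cfsg

namespace Cfsg.Agent.S3011

/-- An element of odd order which equals its inverse is trivial. -/
theorem eq_one_of_odd_of_inv_eq {G : Type*} [Group G] {x : G} (h : Odd (orderOf x)) (hx : x⁻¹ = x) :
    x = 1 := by
  have h2 : orderOf x ∣ 2 := orderOf_dvd_of_pow_eq_one (by
    rw [pow_two]
    nth_rw 1 [← hx]
    exact inv_mul_cancel x)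
  rcases (Nat.dvd_prime Nat.prime_two).mp h2 with h1 | h1
  · exact orderOf_eq_one_iff.mp h1
  · rw [h1] at h
    exact absurd h (by decide)

/-- Let G be a finite group and V a nontrivial elementary abelian 2-subgroup of G of order at most 4 such that, whenever an element of V inverts an element h of G of odd order, some nontrivial element of V commutes with h. Then V meets O₂(G) nontrivially. (The case of order at most 4 has a short argument from the Baer–Suzuki theorem.) -/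
theorem result {G : Type*} [Group G] [Finite G] (V : Subgroup G) (hV : Cfsg.IsElementaryAbelian 2 V) (hV1 : V ≠ ⊥) (hS : Cfsg.IsSidkiPair V) (h4 : Nat.card V ≤ 4) : V ⊓ Cfsg.pCore 2 G ≠ ⊥ := by
  intro hcon
  obtain ⟨a, haV, ha1⟩ := (Subgroup.bot_or_exists_ne_one V).resolve_left hV1
  have hsq : ∀ v ∈ V, v * v = 1 := fun v hv => by rw [← pow_two]; exact hV.2 v hv
  have hinv : ∀ v ∈ V, v⁻¹ = v := fun v hv => inv_eq_of_mul_eq_one_right (hsq v hv)
  have hcm : ∀ v ∈ V, ∀ w ∈ V, v * w = w * v := fun v hv w hw =>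
    congrArg Subtype.val (@mul_comm' V _ hV.1 ⟨v, hv⟩ ⟨w, hw⟩)
  have hex : ∀ v ∈ V, v ≠ 1 → ∃ h : G, h ≠ 1 ∧ Odd (orderOf h) ∧ v * h * v⁻¹ = h⁻¹ := by
    intro v hv hv1
    refine Cfsg.Agent.S0200.result v (orderOf_eq_prime (hV.2 v hv) hv1) fun N hN hNp hvN => hv1 ?_
    have h1 : v ∈ V ⊓ Cfsg.pCore 2 G := ⟨hv, Lib.PSolvable.le_pCore hNp hvN⟩
    rwa [hcon, Subgroup.mem_bot] at h1
  obtain ⟨h, hh1, hhodd, hah⟩ := hex a haV ha1
  obtain ⟨b, hbV, hb1, hbh⟩ := hS h a haV hhodd hah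
  have hba : b ≠ a := by
    rintro rfl
    rw [hbh, mul_inv_cancel_right] at hah
    exact hh1 (eq_one_of_odd_of_inv_eq hhodd hah.symm)
  have hab1 : a * b ≠ 1 := fun h0 => hba (by
    rw [← inv_eq_of_mul_eq_one_right h0, hinv a haV])
  obtain ⟨k, hk1, hkodd, hbk⟩ := hex b hbV hb1
  have hV' : ∀ w ∈ V, w = 1 ∨ w = a ∨ w = b ∨ w = a * b := by
    intro w hw
    classical
    have hsub : ({1, a, b, a * b} : Set G) ⊆ (V : Set G) := by
      rintro x (rfl | rfl | rfl | rfl)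
      · exact V.one_mem
      · exact haV
      · exact hbV
      · exact V.mul_mem haV hbV
    have hcard : ({1, a, b, a * b} : Set G).ncard = 4 := by
      rw [Set.ncard_insert_of_notMem (by simp [ha1.symm, hb1.symm, hab1.symm]) (Set.toFinite _),
        Set.ncard_insert_of_notMem (by simp [hba.symm, hb1]) (Set.toFinite _),
        Set.ncard_pair (by simp [ha1])]
    have heq := Set.eq_of_subset_of_ncard_le hsub (by
      rw [hcard, ← Nat.card_coe_set_eq]; exact h4) (Set.toFinite _)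
    have : w ∈ ({1, a, b, a * b} : Set G) := heq ▸ hw
    simpa using this
  have hbh' : b * h * b⁻¹ = h := by rw [hbh, mul_inv_cancel_right]
  have hah' : (a * b) * h * (a * b)⁻¹ = h⁻¹ := by
    calc (a * b) * h * (a * b)⁻¹ = a * (b * h * b⁻¹) * a⁻¹ := by group
      _ = h⁻¹ := by rw [hbh', hah]
  -- `x` centralises `k`, `y` inverts it, and both invert `h`
  obtain ⟨x, y, hxy, hxh, hyh, hxk, hyk⟩ : ∃ x y : G, ((x = a ∧ y = a * b) ∨ (x = a * b ∧ y = a)) ∧
      x * h * x⁻¹ = h⁻¹ ∧ y * h * y⁻¹ = h⁻¹ ∧ x * k * x⁻¹ = k ∧ y * k * y⁻¹ = k⁻¹ := by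
    obtain ⟨w, hwV, hw1, hwk⟩ := hS k b hbV hkodd hbk
    have hwk' : w * k * w⁻¹ = k := by rw [hwk, mul_inv_cancel_right]
    rcases hV' w hwV with rfl | rfl | rfl | rfl
    · exact absurd rfl hw1
    · refine ⟨w, w * b, Or.inl ⟨rfl, rfl⟩, hah, hah', hwk', ?_⟩
      calc (w * b) * k * (w * b)⁻¹ = w * (b * k * b⁻¹) * w⁻¹ := by group
        _ = (w * k * w⁻¹)⁻¹ := by rw [hbk]; group
        _ = k⁻¹ := by rw [hwk']
    · rw [hwk'] at hbk
      exact absurd (eq_one_of_odd_of_inv_eq hkodd hbk.symm) hk1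
    · refine ⟨a * b, a, Or.inr ⟨rfl, rfl⟩, hah', hah, hwk', ?_⟩
      calc a * k * a⁻¹ = (a * b) * (b⁻¹ * k * b) * (a * b)⁻¹ := by group
        _ = (a * b) * (b * k * b⁻¹) * (a * b)⁻¹ := by rw [hinv b hbV]
        _ = ((a * b) * k * (a * b)⁻¹)⁻¹ := by rw [hbk]; group
        _ = k⁻¹ := by rw [hwk']
  have hxV : x ∈ V := by
    rcases hxy with ⟨rfl, -⟩ | ⟨rfl, -⟩
    · exact haV
    · exact V.mul_mem haV hbV
  have hyV : y ∈ V := by
    rcases hxy with ⟨-, rfl⟩ | ⟨-, rfl⟩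
    · exact V.mul_mem haV hbV
    · exact haV
  have hV'' : ∀ w ∈ V, w = 1 ∨ w = x ∨ w = y ∨ w = b := by
    intro w hw
    rcases hV' w hw with h0 | h0 | h0 | h0 <;> rcases hxy with ⟨hx0, hy0⟩ | ⟨hx0, hy0⟩ <;>
      subst hx0 hy0 <;> simp [h0]
  -- a square root of `h`
  obtain ⟨j, hj⟩ := hhodd
  set s := h ^ (j + 1) with hs
  have hss : s * s = h := by
    rw [hs, ← pow_add, show j + 1 + (j + 1) = orderOf h + 1 by omega, pow_succ, pow_orderOf_eq_one,
      one_mul]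
  have hbs : b * s * b⁻¹ = s := by rw [hs, ← conj_pow, hbh']
  have hbs' : s⁻¹ * b * s = b := by
    calc s⁻¹ * b * s = s⁻¹ * (b * s * b⁻¹) * b := by group
      _ = b := by rw [hbs]; group
  set k' := s⁻¹ * k * s with hk'
  have hk'odd : Odd (orderOf k') := by
    have : orderOf k' = orderOf k := by
      have := orderOf_injective (MulAut.conj s⁻¹).toMonoidHom (MulAut.conj s⁻¹).injective k
      simpa [hk', mul_assoc] using this
    rw [this]; exact hkodd
  have hbk' : b * k' * b⁻¹ = k'⁻¹ := by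
    calc b * k' * b⁻¹ = s⁻¹ * ((s * (s⁻¹ * b * s) * s⁻¹) * k * (s * (s⁻¹ * b * s) * s⁻¹)⁻¹) * s := by
          rw [hk']; conv_lhs => rw [← hbs']
          group
      _ = s⁻¹ * (b * k * b⁻¹) * s := by group
      _ = k'⁻¹ := by rw [hbk, hk']; group
  obtain ⟨w, hwV, hw1, hwk⟩ := hS k' b hbV hk'odd hbk'
  -- `h ^ 2` commutes with `k`
  have hhk2 : (h * h) * k * (h * h)⁻¹ = k := by
    have key : ∀ u : G, u * s * u⁻¹ = s⁻¹ → u * k' = k' * u → h * (u * k * u⁻¹) * h⁻¹ = k := by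
      intro u hu huk
      have h0 : u * k' * u⁻¹ = k' := by rw [huk, mul_inv_cancel_right]
      have h1 : s * u * s⁻¹ = h * u := by
        calc s * u * s⁻¹ = s * (u * s * u⁻¹)⁻¹ * u := by group
          _ = h * u := by rw [hu, inv_inv, hss]
      calc h * (u * k * u⁻¹) * h⁻¹ = (h * u) * k * (h * u)⁻¹ := by group
        _ = s * (u * k' * u⁻¹) * s⁻¹ := by rw [← h1, hk']; group
        _ = k := by rw [h0, hk']; group
    have hxs : x * s * x⁻¹ = s⁻¹ := by rw [hs, ← conj_pow, hxh, inv_pow]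
    have hys : y * s * y⁻¹ = s⁻¹ := by rw [hs, ← conj_pow, hyh, inv_pow]
    rcases hV'' w hwV with rfl | rfl | rfl | rfl
    · exact absurd rfl hw1
    · have h1 := key w hxs hwk
      rw [hxk] at h1
      calc (h * h) * k * (h * h)⁻¹ = h * (h * k * h⁻¹) * h⁻¹ := by group
        _ = k := by rw [h1, h1]
    · have h1 := key w hys hwk
      rw [hyk] at h1
      calc (h * h) * k * (h * h)⁻¹ = h * (h * k⁻¹ * h⁻¹)⁻¹ * h⁻¹ := by group
        _ = h * k⁻¹ * h⁻¹ := congrArg (fun z => h * z⁻¹ * h⁻¹) h1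
        _ = k := h1
    · rw [hwk, mul_inv_cancel_right] at hbk'
      have h1 := eq_one_of_odd_of_inv_eq hk'odd hbk'.symm
      refine absurd ?_ hk1
      calc k = s * k' * s⁻¹ := by rw [hk']; group
        _ = 1 := by rw [h1]; group
  have hhk : Commute h k := by
    have h1 : Commute (h * h) k := mul_inv_eq_iff_eq_mul.mp hhk2
    have h2 := h1.pow_left (j + 1)
    rwa [show (h * h) ^ (j + 1) = h by
      rw [← pow_two, ← pow_mul, show 2 * (j + 1) = orderOf h + 1 by omega, pow_succ,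
        pow_orderOf_eq_one, one_mul]] at h2
  -- the element `h k`
  have hodd : Odd (orderOf (h * k)) :=
    ((Nat.odd_iff.mpr (by omega)).mul hkodd).of_dvd_nat hhk.orderOf_mul_dvd_mul_orderOf
  have hyhk : y * (h * k) * y⁻¹ = (h * k)⁻¹ := by
    calc y * (h * k) * y⁻¹ = (y * h * y⁻¹) * (y * k * y⁻¹) := by group
      _ = h⁻¹ * k⁻¹ := by rw [hyh, hyk]
      _ = (h * k)⁻¹ := by rw [hhk.eq]; group
  obtain ⟨u, huV, hu1, huk⟩ := hS (h * k) y hyV hodd hyhk
  rcases hV'' u huV with rfl | rfl | rfl | rfl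
  · exact hu1 rfl
  · have h1 : h⁻¹ * k = h * k := by
      calc h⁻¹ * k = (u * h * u⁻¹) * (u * k * u⁻¹) := by rw [hxh, hxk]
        _ = (u * (h * k)) * u⁻¹ := by group
        _ = h * k := by rw [huk, mul_inv_cancel_right]
    exact hh1 (eq_one_of_odd_of_inv_eq (Nat.odd_iff.mpr (by omega)) (mul_right_cancel h1))
  · rw [huk, mul_inv_cancel_right] at hyhk
    have h1 := eq_one_of_odd_of_inv_eq hodd hyhk.symm
    rw [mul_eq_one_iff_inv_eq] at h1
    rw [← h1, inv_inv] at hbk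
    have h2 : b * h⁻¹ * b⁻¹ = h⁻¹ := by
      calc b * h⁻¹ * b⁻¹ = (b * h * b⁻¹)⁻¹ := by group
        _ = h⁻¹ := by rw [hbh']
    rw [h2] at hbk
    exact hh1 (eq_one_of_odd_of_inv_eq (Nat.odd_iff.mpr (by omega)) hbk)
  · have h1 : h * k⁻¹ = h * k := by
      calc h * k⁻¹ = (u * h * u⁻¹) * (u * k * u⁻¹) := by rw [hbh', hbk]
        _ = (u * (h * k)) * u⁻¹ := by group
        _ = h * k := by rw [huk, mul_inv_cancel_right]
    exact hk1 (eq_one_of_odd_of_inv_eq hkodd (mul_left_cancel h1))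

end Cfsg.Agent.S3011
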