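import Cfsg.Statements.S3012
import Mathlib


set_option autoImplicit false
open Cfsg

namespace Cfsg.Agent.S3012

/-- Let G be a finite group, V a nontrivial elementary abelian 2-subgroup of G satisfying the Sidki pair condition (every odd-order element inverted by an element of V commutes with a nontrivial element of V), and K a normal subgroup of G with V ∩ K = 1. Then the image of V in G/K satisfies the Sidki pair condition in G/K. -/
theorem result {G : Type*} [Group G] [Finite G] (V K : Subgroup G) [K.Normal] (hV : Cfsg.IsElementaryAbelian 2 V) (hV1 : V ≠ ⊥) (hS : Cfsg.IsSidkiPair V) (hVK : V ⊓ K = ⊥) : Cfsg.IsSidkiPair (V.map (QuotientGroup.mk' K)) := by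
  intro hb vb hvb hodd hinv
  obtain ⟨v, hv, rfl⟩ := hvb
  simp only [QuotientGroup.mk'_apply] at hinv ⊢
  set n := orderOf hb with hn
  obtain ⟨k, hk⟩ := QuotientGroup.mk_surjective (hb ^ ((n + 1) / 2))
  have hvv : v * v = 1 := by simpa [sq] using hV.2 v hv
  set t := k * v * k⁻¹ with ht
  have htt : t * t = 1 := by
    calc t * t = k * (v * v) * k⁻¹ := by rw [ht]; group
      _ = 1 := by rw [hvv]; group
  set h₀ := t * v with hh₀
  have hinv₀ : v * h₀ * v⁻¹ = h₀⁻¹ := by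
    rw [hh₀, mul_inv_rev, inv_eq_of_mul_eq_one_right htt, inv_eq_of_mul_eq_one_right hvv, mul_assoc,
      mul_assoc, hvv, mul_one]
  have him : (h₀ : G ⧸ K) = hb := by
    have hvi : (v : G ⧸ K)⁻¹ = (v : G ⧸ K) := by
      rw [← QuotientGroup.mk_inv, inv_eq_of_mul_eq_one_right hvv]
    have e : (v : G ⧸ K) * (hb ^ ((n + 1) / 2))⁻¹ * (v : G ⧸ K)⁻¹ = hb ^ ((n + 1) / 2) := by
      rw [← inv_pow, ← conj_pow, ← inv_inj, ← inv_pow, mul_inv_rev, mul_inv_rev, inv_inv, inv_inv, ← mul_assoc,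
        hinv, inv_pow]
    rw [hh₀, ht]
    simp only [QuotientGroup.mk_mul, QuotientGroup.mk_inv, hk]
    calc hb ^ ((n + 1) / 2) * (v : G ⧸ K) * (hb ^ ((n + 1) / 2))⁻¹ * (v : G ⧸ K)
        = hb ^ ((n + 1) / 2) * ((v : G ⧸ K) * (hb ^ ((n + 1) / 2))⁻¹ * (v : G ⧸ K)⁻¹) := by
          rw [hvi]; group
      _ = hb ^ (n + 1) := by
          rw [e, ← pow_add]
          obtain ⟨j, hj⟩ := hodd
          congr 1; omega
      _ = hb := by rw [pow_succ, hn, pow_orderOf_eq_one, one_mul]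
  -- pass to the odd part of `h₀`
  obtain ⟨a, s, hs, has⟩ := Nat.exists_eq_two_pow_mul_odd (orderOf_pos h₀).ne'
  have hcop : Nat.Coprime (2 ^ a) n := Nat.Coprime.pow_left _ (Nat.coprime_two_left.2 hodd)
  obtain ⟨r, hr⟩ := Nat.chineseRemainder hcop.symm 1 0
  obtain ⟨r', hr'⟩ := Nat.modEq_zero_iff_dvd.1 hr.2
  set h := h₀ ^ r with hh
  have hhodd : Odd (orderOf h) := by
    refine hs.of_dvd_nat (orderOf_dvd_of_pow_eq_one ?_)
    rw [hh, ← pow_mul, hr', show 2 ^ a * r' * s = orderOf h₀ * r' by rw [has]; ring, pow_mul,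
      pow_orderOf_eq_one, one_pow]
  have hinvh : v * h * v⁻¹ = h⁻¹ := by rw [hh, ← conj_pow, hinv₀, inv_pow]
  obtain ⟨w, hw, hw1, hwh⟩ := hS h v hv hhodd hinvh
  refine ⟨(w : G ⧸ K), ⟨w, hw, rfl⟩, fun h1 => ?_, ?_⟩
  · rw [QuotientGroup.eq_one_iff] at h1
    exact hw1 (Subgroup.mem_bot.1 (hVK ▸ Subgroup.mem_inf.2 ⟨hw, h1⟩))
  · have e : (h : G ⧸ K) = hb := by
      rw [hh, QuotientGroup.mk_pow, him]
      conv_rhs => rw [← pow_one hb]
      rw [pow_eq_pow_iff_modEq]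
      exact hr.1
    have := congrArg (fun y : G => (y : G ⧸ K)) hwh
    simpa [e] using this

end Cfsg.Agent.S3012
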