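import Cfsg.Statements.S3013
import Mathlib


set_option autoImplicit false
open Cfsg

namespace Cfsg.Agent.S3013

/-- Let G be a finite group and V a nontrivial elementary abelian 2-subgroup of G satisfying the Sidki pair condition. Let v ∈ V and let x be an element of odd order inverted by v, and put C = C_G(v) ∩ C_G(x), the centralizer of the dihedral subgroup generated by v and x. Then C ∩ V is nontrivial and satisfies the Sidki pair condition inside C: every odd-order element of C inverted by an element of C ∩ V commutes with a nontrivial element of C ∩ V. -/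
theorem result {G : Type*} [Group G] [Finite G] (V : Subgroup G) (hV : Cfsg.IsElementaryAbelian 2 V) (hV1 : V ≠ ⊥) (hS : Cfsg.IsSidkiPair V) (v x : G) (hv : v ∈ V) (hx : Odd (orderOf x)) (hinv : v * x * v⁻¹ = x⁻¹) (C : Subgroup G) (hC : C = Subgroup.centralizer ({v} : Set G) ⊓ Subgroup.centralizer ({x} : Set G)) : C ⊓ V ≠ ⊥ ∧ Cfsg.IsSidkiPair ((C ⊓ V).subgroupOf C) := by
  subst hC
  have hcomm : ∀ a ∈ V, ∀ b ∈ V, a * b = b * a := fun a ha b hb =>
    congrArg Subtype.val (hV.1.is_comm.comm (⟨a, ha⟩ : ↥V) ⟨b, hb⟩)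
  constructor
  · obtain ⟨w, hw, hw1, hwx⟩ := hS x v hv hx hinv
    intro h
    refine hw1 (Subgroup.mem_bot.1 (h ▸ Subgroup.mem_inf.2 ⟨Subgroup.mem_inf.2 ⟨?_, ?_⟩, hw⟩))
    · exact Subgroup.mem_centralizer_singleton_iff.2 (hcomm w hw v hv)
    · exact Subgroup.mem_centralizer_singleton_iff.2 hwx
  · rintro ⟨h, hhC⟩ ⟨u, huC⟩ hu hh hhinv
    obtain ⟨hhv, hhx⟩ := Subgroup.mem_inf.1 hhC
    obtain ⟨huv, hux⟩ := Subgroup.mem_inf.1 huC
    rw [Subgroup.mem_centralizer_singleton_iff] at hhv hhx huv hux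
    have huV : u ∈ V := (Subgroup.mem_subgroupOf.1 hu).2
    have hinv' : u * h * u⁻¹ = h⁻¹ := congrArg Subtype.val hhinv
    rw [Subgroup.orderOf_mk] at hh
    have hxh : Commute x h := hhx.symm
    have h1 : u * v * (x * h) * (u * v)⁻¹ = (x * h)⁻¹ := by
      calc u * v * (x * h) * (u * v)⁻¹ = u * (v * x * v⁻¹) * ((v * h) * v⁻¹) * u⁻¹ := by group
        _ = u * (v * x * v⁻¹) * h * u⁻¹ := by rw [← hhv, mul_inv_cancel_right]
        _ = (u * x⁻¹ * u⁻¹) * (u * h * u⁻¹) := by rw [hinv]; group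
        _ = x⁻¹ * h⁻¹ := by rw [hinv', (show Commute u x⁻¹ from (Commute.inv_right hux)).eq, mul_inv_cancel_right]
        _ = (x * h)⁻¹ := by rw [mul_inv_rev]; exact hxh.inv_inv.eq
    have hodd : Odd (orderOf (x * h)) :=
      (hx.mul hh).of_dvd_nat (hxh.orderOf_mul_dvd_lcm.trans (Nat.lcm_dvd_mul _ _))
    obtain ⟨w, hw, hw1, hwxh⟩ := hS (x * h) (u * v) (mul_mem huV hv) hodd h1
    have hwv : Commute w v := hcomm w hw v hv
    have h2 : Commute w (x⁻¹ * h) := by
      have e : v * (x * h) * v⁻¹ = x⁻¹ * h := by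
        calc v * (x * h) * v⁻¹ = (v * x * v⁻¹) * ((v * h) * v⁻¹) := by group
          _ = x⁻¹ * h := by rw [← hhv, mul_inv_cancel_right, hinv]
      have := (Commute.conj_iff v).2 (show Commute w (x * h) from hwxh)
      rwa [e, hwv.symm.eq, mul_inv_cancel_right] at this
    have h3 : Commute w (h ^ 2) := by
      have e : (x * h) * (x⁻¹ * h) = h ^ 2 := by
        rw [mul_assoc, ← mul_assoc h, ← hxh.inv_left.eq, sq, mul_assoc, mul_inv_cancel_left]
      exact e ▸ (show Commute w (x * h) from hwxh).mul_right h2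
    have h4 : Commute w h := by
      obtain ⟨k, hk⟩ := hh
      have : (h ^ 2) ^ (k + 1) = h := by
        rw [← pow_mul, show 2 * (k + 1) = orderOf h + 1 by omega, pow_succ, pow_orderOf_eq_one, one_mul]
      exact this ▸ h3.pow_right (k + 1)
    have h5 : Commute w x := by
      have := (show Commute w (x * h) from hwxh).mul_right h4.inv_right
      rwa [mul_inv_cancel_right] at this
    have hwC : w ∈ Subgroup.centralizer ({v} : Set G) ⊓ Subgroup.centralizer ({x} : Set G) :=
      Subgroup.mem_inf.2 ⟨Subgroup.mem_centralizer_singleton_iff.2 hwv,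
        Subgroup.mem_centralizer_singleton_iff.2 h5⟩
    exact ⟨⟨w, hwC⟩, Subgroup.mem_subgroupOf.2 ⟨hwC, hw⟩, fun h => hw1 (congrArg Subtype.val h), Subtype.ext h4⟩

end Cfsg.Agent.S3013
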