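import Cfsg.Statements.S3014
import Mathlib
import Cfsg.Agent.Lib.MaxTransfer.Basic


set_option autoImplicit false
open Cfsg

namespace Cfsg.Agent.S3014

/-- Let G be a finite group and H ≤ M ≤ G subgroups such that for every g ∈ G the subgroup generated by H and g H g⁻¹ meets M exactly in H. If H is a maximal subgroup of M and M is a maximal subgroup of G, then the normal closure of H in G meets M exactly in H. -/
theorem result {G : Type*} [Group G] [Finite G] (H M : Subgroup G) (hHM : H ≤ M) (hcl : ∀ g : G, (H ⊔ H.map (MulAut.conj g).toMonoidHom) ⊓ M = H) (hmaxH : IsCoatom (H.subgroupOf M)) (hmaxM : IsCoatom M) : Subgroup.normalClosure (H : Set G) ⊓ M = H := by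
  have hH : ∀ g : G, g ∈ M → H.map (MulAut.conj g).toMonoidHom = H := by
    intro g hg
    refine Subgroup.eq_of_le_of_card_ge (le_trans ?_ (hcl g).le)
      (le_of_eq (Nat.card_congr (H.equivMapOfInjective _ (MulAut.conj g).injective).toEquiv))
    refine le_inf le_sup_right ?_
    rintro _ ⟨h, hh, rfl⟩
    exact mul_mem (mul_mem hg (hHM hh)) (inv_mem hg)
  have hMN : M ≤ Subgroup.normalizer (H : Set G) := fun g hg =>
    Subgroup.mem_normalizer_iff_map_conj_eq.2 (hH g hg)
  have hn : (H.subgroupOf M).Normal := (Subgroup.normal_subgroupOf_iff_le_normalizer hHM).2 hMN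
  by_cases hJ : ∃ J : Subgroup G, J.Normal ∧ H ≤ J ∧ J ⊓ M = H
  · obtain ⟨J, hJn, hHJ, hJM⟩ := hJ
    refine le_antisymm (le_trans (inf_le_inf_right M ?_) hJM.le) (le_inf ?_ hHM)
    · exact Subgroup.normalClosure_le_normal hHJ
    · exact Subgroup.le_normalClosure
  push Not at hJ
  have hN : Subgroup.normalizer (H : Set G) = M := by
    rcases eq_or_lt_of_le hMN with h | h
    · exact h.symm
    · exact absurd (inf_eq_left.2 hHM) (hJ H (Subgroup.normalizer_eq_top_iff.1 (hmaxM.2 _ h)) le_rfl)
  have hp : (H.relIndex M).Prime := by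
    have hne : Nontrivial (↥M ⧸ H.subgroupOf M) := QuotientGroup.nontrivial_iff.2 hmaxH.1
    obtain ⟨r, hr, hrd⟩ := Nat.exists_prime_and_dvd
      (show Nat.card (↥M ⧸ H.subgroupOf M) ≠ 1 from fun h => not_subsingleton _ (Nat.card_eq_one_iff_unique.1 h).1)
    haveI := Fact.mk hr
    obtain ⟨q, hq⟩ := exists_prime_orderOf_dvd_card' r hrd
    haveI := hn
    set Z := (Subgroup.zpowers q).comap (QuotientGroup.mk' (H.subgroupOf M)) with hZ
    have hlt : H.subgroupOf M < Z := by
      refine lt_of_le_of_ne (fun a ha => ?_) fun h => ?_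
      · rw [hZ, Subgroup.mem_comap, QuotientGroup.mk'_apply, (QuotientGroup.eq_one_iff a).2 ha]
        exact one_mem _
      · obtain ⟨a, rfl⟩ := QuotientGroup.mk_surjective q
        have : a ∈ Z := Subgroup.mem_zpowers _
        rw [← h] at this
        rw [(QuotientGroup.eq_one_iff a).2 this, orderOf_one] at hq
        exact hr.one_lt.ne hq
    have htop : Subgroup.zpowers q = ⊤ := by
      have := congrArg (Subgroup.map (QuotientGroup.mk' (H.subgroupOf M))) (hmaxH.2 _ hlt)
      rwa [hZ, Subgroup.map_comap_eq_self_of_surjective (QuotientGroup.mk'_surjective _),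
        Subgroup.map_top_of_surjective _ (QuotientGroup.mk'_surjective _)] at this
    have hc : Nat.card (↥M ⧸ H.subgroupOf M) = r := by
      rw [← Subgroup.card_top (G := ↥M ⧸ H.subgroupOf M), ← htop, Nat.card_zpowers, hq]
    rw [← hc] at hr
    exact hr
  have key : ∀ g : G, g ∉ M → ∀ y ∈ M, g⁻¹ * y * g ∈ M → y ∈ H := by
    intro g hg y hy hy'
    by_contra hyH
    set J := H ⊔ H.map (MulAut.conj g).toMonoidHom with hJdef
    have hyJ : y ∈ Subgroup.normalizer (J : Set G) := by
      rw [Subgroup.mem_normalizer_iff_map_conj_eq]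
      show J.map (MulAut.conj y).toMonoidHom = J
      rw [hJdef, Subgroup.map_sup, hH y hy, Subgroup.map_map]
      congr 1
      conv_rhs => rw [← hH _ hy', Subgroup.map_map]
      congr 1
      ext z
      simp [mul_assoc]
    have hHy : M ≤ Subgroup.normalizer (J : Set G) := by
      have h1 : H.subgroupOf M < H.subgroupOf M ⊔ Subgroup.zpowers (⟨y, hy⟩ : ↥M) :=
        left_lt_sup.2 fun h => hyH (Subgroup.mem_subgroupOf.1 (h (Subgroup.mem_zpowers _)))
      have h2 := hmaxH.2 _ h1
      intro a ha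
      have h3 : (⟨a, ha⟩ : ↥M) ∈ H.subgroupOf M ⊔ Subgroup.zpowers (⟨y, hy⟩ : ↥M) := h2 ▸ Subgroup.mem_top _
      have h4 : H.subgroupOf M ⊔ Subgroup.zpowers (⟨y, hy⟩ : ↥M) ≤
          (Subgroup.normalizer (J : Set G)).subgroupOf M :=
        sup_le (fun b hb => Subgroup.mem_subgroupOf.2
            (Subgroup.le_normalizer (le_sup_left (b := H.map (MulAut.conj g).toMonoidHom) (Subgroup.mem_subgroupOf.1 hb))))
          (Subgroup.zpowers_le.2 (Subgroup.mem_subgroupOf.2 hyJ))
      exact Subgroup.mem_subgroupOf.1 (h4 h3)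
    rcases eq_or_lt_of_le hHy with h | h
    · refine hg (hN.le (Subgroup.mem_normalizer_iff_map_conj_eq.2 ?_))
      have hJM : J ≤ M := h ▸ Subgroup.le_normalizer
      exact Subgroup.eq_of_le_of_card_ge
        (le_sup_right.trans ((inf_eq_left.2 hJM).ge.trans (hcl g).le))
        (le_of_eq (Nat.card_congr (H.equivMapOfInjective _ (MulAut.conj g).injective).toEquiv))
    · exact hJ J (Subgroup.normalizer_eq_top_iff.1 (hmaxM.2 _ h)) le_sup_left (hcl g)
  obtain ⟨K, hK, hSK, hKM⟩ := Lib.MaxTransfer.exists_normal_inf_eq hHM hn hp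
    (S := (H : Set G)) (fun s hs => ⟨⟨s, hHM hs⟩, 1, by simp, hs⟩)
    (fun g hg y hy hy' => key g⁻¹ (by rwa [inv_mem_iff]) _ hy' (by simpa [mul_assoc] using hy))
  exact absurd hKM (hJ K hK hSK)

end Cfsg.Agent.S3014
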