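import Cfsg.Statements.S3015
import Mathlib
import Cfsg.Agent.Lib.MaxTransfer.Basic


set_option autoImplicit false
open Cfsg

namespace Cfsg.Agent.S3015

/-- Let G be a finite non-abelian simple group, M a maximal subgroup of G and H a normal subgroup of M of prime index in M. Then G is generated by H together with one of its conjugates. -/
theorem result {G : Type*} [Group G] [Finite G] [IsSimpleGroup G] (hG : ¬ IsMulCommutative G) (M H : Subgroup G) (hmaxM : IsCoatom M) (hHM : H ≤ M) (hHn : (H.subgroupOf M).Normal) (hidx : (H.relIndex M).Prime) : ∃ g : G, H ⊔ H.map (MulAut.conj g).toMonoidHom = ⊤ := by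
  by_contra hcon
  push Not at hcon
  haveI : Nontrivial G := IsSimpleGroup.toNontrivial
  have hMne : M ≠ ⊥ := by
    intro h
    rw [h, Subgroup.relIndex_bot_right] at hidx
    exact Nat.not_prime_one hidx
  have hNM : Subgroup.normalizer (M : Set G) = M := by
    rcases eq_or_lt_of_le (Subgroup.le_normalizer : M ≤ Subgroup.normalizer (M : Set G)) with h | h
    · exact h.symm
    · rcases Subgroup.Normal.eq_bot_or_eq_top (Subgroup.normalizer_eq_top_iff.1 (hmaxM.2 _ h)) with h | h
      · exact absurd h hMne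
      · exact absurd h hmaxM.1
  have hHt : H ≠ ⊤ := fun h => hmaxM.1 (top_le_iff.1 (h ▸ hHM))
  have hMH : M ≤ Subgroup.normalizer (H : Set G) := (Subgroup.normal_subgroupOf_iff_le_normalizer hHM).1 hHn
  -- intermediate subgroups between `H` and `M`
  have hbetween : ∀ L : Subgroup G, H ≤ L → L ≤ M → L = H ∨ L = M := by
    intro L h1 h2
    rcases hidx.eq_one_or_self_of_dvd _ (Dvd.intro _ (Subgroup.relIndex_mul_relIndex H L M h1 h2)) with h | h
    · exact Or.inl (le_antisymm (Subgroup.relIndex_eq_one.1 h) h1)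
    · have := Subgroup.relIndex_mul_relIndex H L M h1 h2
      rw [h] at this
      exact Or.inr (le_antisymm h2 (Subgroup.relIndex_eq_one.1 ((mul_eq_left₀ hidx.ne_zero).1 this)))
  -- for `g` outside `M`
  have alt : ∀ g : G, g ∉ M → (∀ y ∈ M, g⁻¹ * y * g ∈ M → y ∈ H) ∨
      (H ≠ ⊥ ∧ H.map (MulAut.conj g).toMonoidHom ≤ M) := by
    intro g hg
    by_cases hHb : H = ⊥
    · refine Or.inl fun y hy hy' => ?_
      by_contra hyH
      have hyM : Subgroup.zpowers y = M := by
        rcases hbetween _ (hHb ▸ bot_le) (Subgroup.zpowers_le.2 hy) with h | h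
        · exact absurd (h ▸ Subgroup.mem_zpowers y) hyH
        · exact h
      refine hg ((inv_mem_iff).1 (hNM.le (Subgroup.mem_normalizer_iff_map_conj_eq.2
        (Subgroup.eq_of_le_of_card_ge ?_
          (le_of_eq (Nat.card_congr (M.equivMapOfInjective _ (MulAut.conj g⁻¹).injective).toEquiv))))))
      rw [← hyM, MonoidHom.map_zpowers, Subgroup.zpowers_le, hyM]
      simpa using hy'
    · by_cases hle : H.map (MulAut.conj g).toMonoidHom ≤ M
      · exact Or.inr ⟨hHb, hle⟩
      refine Or.inl fun y hy hy' => ?_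
      by_contra hyH
      set J := H ⊔ H.map (MulAut.conj g).toMonoidHom with hJdef
      have hconj : ∀ a ∈ M, H.map (MulAut.conj a).toMonoidHom = H := fun a ha =>
        Subgroup.mem_normalizer_iff_map_conj_eq.1 (hMH ha)
      have hyJ : y ∈ Subgroup.normalizer (J : Set G) := by
        rw [Subgroup.mem_normalizer_iff_map_conj_eq]
        show J.map (MulAut.conj y).toMonoidHom = J
        rw [hJdef, Subgroup.map_sup, hconj y hy, Subgroup.map_map]
        congr 1
        conv_rhs => rw [← hconj _ hy', Subgroup.map_map]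
        congr 1
        ext z
        simp [mul_assoc]
      have hMJ : M ≤ Subgroup.normalizer (J : Set G) := by
        rcases hbetween (M ⊓ Subgroup.normalizer (J : Set G))
          (le_inf hHM (le_sup_left.trans Subgroup.le_normalizer)) inf_le_left with h | h
        · exact absurd (h.le ⟨hy, hyJ⟩) hyH
        · exact inf_eq_left.1 h
      rcases eq_or_lt_of_le hMJ with h | h
      · exact hle (le_sup_right.trans ((Subgroup.le_normalizer (H := J)).trans h.ge))
      · rcases Subgroup.Normal.eq_bot_or_eq_top (Subgroup.normalizer_eq_top_iff.1 (hmaxM.2 _ h)) with h | h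
        · exact hHb (le_bot_iff.1 (h ▸ le_sup_left))
        · exact hcon g h
  have notboth : ∀ g : G, g ∉ M → H ≠ ⊥ → H.map (MulAut.conj g).toMonoidHom ≤ M →
      H.map (MulAut.conj g⁻¹).toMonoidHom ≤ M → False := by
    intro g hg hHb h1 h2
    rcases hbetween (H ⊔ H.map (MulAut.conj g).toMonoidHom) le_sup_left (sup_le hHM h1) with h | h
    · have hle : H.map (MulAut.conj g).toMonoidHom ≤ H := le_sup_right.trans h.le
      have e := Subgroup.eq_of_le_of_card_ge hle
        (le_of_eq (Nat.card_congr (H.equivMapOfInjective _ (MulAut.conj g).injective).toEquiv))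
      rcases eq_or_lt_of_le hMH with h' | h'
      · exact hg (h'.ge (Subgroup.mem_normalizer_iff_map_conj_eq.2 e))
      · rcases Subgroup.Normal.eq_bot_or_eq_top (Subgroup.normalizer_eq_top_iff.1 (hmaxM.2 _ h')) with h'' | h''
        · exact hHb h''
        · exact hHt h''
    · refine hg (hNM.le (Subgroup.mem_normalizer_iff_map_conj_eq.2 (Subgroup.eq_of_le_of_card_ge ?_
        (le_of_eq ?_)).symm))
      · refine h.ge.trans (sup_le ?_ (Subgroup.map_mono hHM))
        intro a ha
        exact ⟨g⁻¹ * a * g, h2 ⟨a, ha, by simp⟩, by simp [mul_assoc]⟩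
      · exact (Nat.card_congr (M.equivMapOfInjective _ (MulAut.conj g).injective).toEquiv).symm
  -- choose an element of `M` outside `H` of smallest order
  obtain ⟨m, hm, hmin⟩ := Set.Finite.exists_minimalFor (f := fun m : G => orderOf m)
    {m : G | m ∈ M ∧ m ∉ H} (Set.toFinite _) (by
      by_contra h
      rw [Set.not_nonempty_iff_eq_empty] at h
      have hMH' : M ≤ H := fun a ha => by
        by_contra haH
        exact h.le (show a ∈ {m : G | m ∈ M ∧ m ∉ H} from ⟨ha, haH⟩)
      rw [Subgroup.relIndex_eq_one.2 hMH'] at hidx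
      exact Nat.not_prime_one hidx)
  haveI := hHn
  haveI : Fact (H.relIndex M).Prime := ⟨hidx⟩
  haveI : IsCyclic (↥M ⧸ H.subgroupOf M) := isCyclic_of_prime_card (p := H.relIndex M) rfl
  letI : CommGroup (↥M ⧸ H.subgroupOf M) := IsCyclic.commGroup
  set φ := QuotientGroup.mk' (H.subgroupOf M)
  have hev := Lib.MaxTransfer.transfer_eq_self φ (⟨m, hm.1⟩ : ↥M) (fun g hg n hn => by
    refine (QuotientGroup.eq_one_iff _).2 (Subgroup.mem_subgroupOf.2 ?_)
    show g⁻¹ * m ^ n * g ∈ H
    by_cases hyH : m ^ n ∈ H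
    · by_contra hcH
      have ho : orderOf (g⁻¹ * m ^ n * g) = orderOf (m ^ n) := by
        simpa using (MulAut.conj g⁻¹).orderOf_eq (m ^ n)
      have h1 : orderOf (m ^ n) ≤ orderOf m :=
        Nat.le_of_dvd (orderOf_pos m) (orderOf_pow_dvd n)
      have h2 : orderOf m ≤ orderOf (m ^ n) := (hmin ⟨hn, hcH⟩ (le_of_eq_of_le ho h1)).trans ho.le
      have e : Subgroup.zpowers (m ^ n) = Subgroup.zpowers m :=
        Subgroup.eq_of_le_of_card_ge (Subgroup.zpowers_le.2 (pow_mem (Subgroup.mem_zpowers m) n))
          (by rwa [Nat.card_zpowers, Nat.card_zpowers])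
      exact hm.2 (Subgroup.zpowers_le.2 hyH (e ▸ Subgroup.mem_zpowers m))
    · rcases alt g hg with h | ⟨hHb, hle⟩
      · exact absurd (h _ (pow_mem hm.1 n) hn) hyH
      · rcases alt g⁻¹ (by rwa [inv_mem_iff]) with h | ⟨-, hle'⟩
        · exact h _ hn (by simpa [mul_assoc] using pow_mem hm.1 n)
        · exact (notboth g hg hHb hle hle').elim)
  have hperf : commutator G = ⊤ := (Subgroup.Normal.eq_bot_or_eq_top
    (inferInstance : (commutator G).Normal)).resolve_left fun h => hG
      ⟨⟨fun a b => by
        rw [commutator_def, Subgroup.commutator_eq_bot_iff_le_centralizer, Subgroup.coe_top,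
          Subgroup.centralizer_univ] at h
        exact (Subgroup.mem_center_iff.1 (h (Subgroup.mem_top a)) b).symm⟩⟩
  have : MonoidHom.transfer φ m = 1 :=
    MonoidHom.mem_ker.1 (Abelianization.commutator_subset_ker _ (hperf ▸ Subgroup.mem_top m))
  exact hm.2 (Subgroup.mem_subgroupOf.1 ((QuotientGroup.eq_one_iff (N := H.subgroupOf M) (⟨m, hm.1⟩ : ↥M)).1 (hev.symm.trans this)))

end Cfsg.Agent.S3015
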