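import Cfsg.Statements.S3020
import Mathlib
import Cfsg.Agent.Lib.PSolvable.Core


set_option autoImplicit false
open Cfsg

namespace Cfsg.Agent.S3020

/-- Let G be a finite group, p a prime and H an abelian p-subgroup of G that is extremely closed (for every g, the subgroup generated by H and g H g⁻¹ meets N_G(H) exactly in H). Then for every g ∈ G, the subgroup T generated by H and g H g⁻¹ is the product of H with O_{p'}(T), and H meets O_{p'}(T) trivially; that is, O_{p'}(T) is a normal p-complement of H in T. -/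
theorem result {G : Type*} [Group G] [Finite G] {p : ℕ} [Fact p.Prime] (H : Subgroup G) (hHp : IsPGroup p H) (hHab : IsMulCommutative H) (hcl : Cfsg.IsExtremelyClosed H) (g : G) (T : Subgroup G) (hT : T = H ⊔ H.map (MulAut.conj g).toMonoidHom) : H ⊔ (Cfsg.pPrimeCore p ↥T).map T.subtype = T ∧ H ⊓ (Cfsg.pPrimeCore p ↥T).map T.subtype = ⊥ := by
  subst hT
  set T := H ⊔ H.map (MulAut.conj g).toMonoidHom with hT
  have hHT : H ≤ T := le_sup_left
  set H' := H.subgroupOf T with hH'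
  have hH'p : IsPGroup p ↥H' := IsPGroup.of_equiv hHp (Subgroup.subgroupOfEquivOfLe hHT).symm
  have hnorm : Subgroup.normalizer (H' : Set ↥T) ≤ H' := by
    intro t ht
    refine Subgroup.mem_subgroupOf.2 ((hcl g).le ⟨t.2, ?_⟩)
    refine Subgroup.mem_normalizer_iff.2 fun h => ⟨fun hh => ?_, fun hh => ?_⟩
    · exact Subgroup.mem_subgroupOf.1 ((Subgroup.mem_normalizer_iff.1 ht ⟨h, hHT hh⟩).1 (Subgroup.mem_subgroupOf.2 hh))
    · have h1 : (t : G) * h * (t : G)⁻¹ ∈ T := hHT hh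
      have h2 : h ∈ T := by
        have := mul_mem (mul_mem (inv_mem t.2) h1) t.2
        simpa [mul_assoc] using this
      exact Subgroup.mem_subgroupOf.1 ((Subgroup.mem_normalizer_iff.1 ht ⟨h, h2⟩).2 (Subgroup.mem_subgroupOf.2 hh))
  obtain ⟨Q, hQ⟩ := hH'p.exists_le_sylow
  have hQH : (Q : Subgroup ↥T) = H' := by
    by_contra hne
    have hlt : H'.subgroupOf (Q : Subgroup ↥T) < ⊤ := lt_top_iff_ne_top.2 fun h =>
      hne (le_antisymm (Subgroup.subgroupOf_eq_top.1 h) hQ)
    have hnil : Group.IsNilpotent ↥(Q : Subgroup ↥T) := Q.2.isNilpotent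
    obtain ⟨q, hq, hqH⟩ := SetLike.exists_of_lt (Group.normalizerCondition_of_isNilpotent _ hlt)
    refine hqH (Subgroup.mem_subgroupOf.2 (hnorm ?_))
    refine Subgroup.mem_normalizer_iff.2 fun h => ⟨fun hh => ?_, fun hh => ?_⟩
    · exact Subgroup.mem_subgroupOf.1 ((Subgroup.mem_normalizer_iff.1 hq ⟨h, hQ hh⟩).1 (Subgroup.mem_subgroupOf.2 hh))
    · have h1 : (q : ↥T) * h * (q : ↥T)⁻¹ ∈ (Q : Subgroup ↥T) := hQ hh
      have h2 : h ∈ (Q : Subgroup ↥T) := by
        have := mul_mem (mul_mem (inv_mem q.2) h1) q.2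
        simpa [mul_assoc] using this
      exact Subgroup.mem_subgroupOf.1 ((Subgroup.mem_normalizer_iff.1 hq ⟨h, h2⟩).2 (Subgroup.mem_subgroupOf.2 hh))
  have hc : Subgroup.normalizer ((Q : Subgroup ↥T) : Set ↥T) ≤
      Subgroup.centralizer ((Q : Subgroup ↥T) : Set ↥T) := by
    rw [hQH]
    refine hnorm.trans fun a ha b hb => Subtype.ext ?_
    exact congrArg (fun z : ↥H => (z : G)) (hHab.is_comm.comm (⟨(b : G), Subgroup.mem_subgroupOf.1 hb⟩ : ↥H) ⟨(a : G), Subgroup.mem_subgroupOf.1 ha⟩)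
  set K := (MonoidHom.transferSylow Q hc).ker
  have hK : K ≤ Cfsg.pPrimeCore p ↥T :=
    Lib.PSolvable.le_pPrimeCore ((Nat.Prime.coprime_iff_not_dvd Fact.out).2
      (MonoidHom.not_dvd_card_ker_transferSylow Q hc)).symm
  constructor
  · refine le_antisymm (sup_le hHT (Subgroup.map_subtype_le _)) fun t ht => ?_
    obtain ⟨⟨k, hq⟩, hkq⟩ := (MonoidHom.ker_transferSylow_isComplement' Q hc).2 (⟨t, ht⟩ : ↥T)
    have e : (k.1 : G) * ((hq.1 : ↥T) : G) = t := congrArg Subtype.val hkq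
    rw [← e]
    exact mul_mem (Subgroup.mem_sup_right ⟨_, hK k.2, rfl⟩)
      (Subgroup.mem_sup_left (Subgroup.mem_subgroupOf.1 (hQH.le hq.2)))
  · exact Lib.PSolvable.inf_eq_bot_of_isPGroup_of_coprime hHp (by
      rw [Subgroup.card_map_of_injective Subtype.coe_injective]
      exact Lib.PSolvable.pPrimeCore_coprime)

end Cfsg.Agent.S3020
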