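import Cfsg.Statements.S3021
import Mathlib


set_option autoImplicit false
open Cfsg

namespace Cfsg.Agent.S3021

/-- Let G be a finite group, p a prime and H a p-subgroup of G that is extremely closed (for every g, the subgroup generated by H and g H g⁻¹ meets N_G(H) exactly in H). Then every p-subgroup Q of G containing H has N_G(Q) ≤ N_G(H); in particular every Sylow p-subgroup P of G containing H normalizes H, and H is strongly closed in P with respect to G. -/
theorem result {G : Type*} [Group G] [Finite G] {p : ℕ} [Fact p.Prime] (H : Subgroup G) (hHp : IsPGroup p H) (hcl : Cfsg.IsExtremelyClosed H) : (∀ Q : Subgroup G, IsPGroup p Q → H ≤ Q → Subgroup.normalizer (Q : Set G) ≤ Subgroup.normalizer (H : Set G)) ∧ ∀ P : Sylow p G, H ≤ (P : Subgroup G) → (P : Subgroup G) ≤ Subgroup.normalizer (H : Set G) ∧ Cfsg.IsStronglyClosed H (P : Subgroup G) := by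
  have key : ∀ g : G, H.map (MulAut.conj g).toMonoidHom ≤ Subgroup.normalizer (H : Set G) →
      H.map (MulAut.conj g).toMonoidHom ≤ H := fun g hg =>
    le_trans (le_inf le_sup_right hg) (hcl g).le
  have main : ∀ Q : Subgroup G, IsPGroup p Q → H ≤ Q → Q ≤ Subgroup.normalizer (H : Set G) := by
    intro Q hQ hHQ
    by_contra hnot
    set N := Q ⊓ Subgroup.normalizer (H : Set G) with hN
    have hlt : N < Q := lt_of_le_of_ne inf_le_left fun h => hnot (h ▸ inf_le_right)
    haveI := hQ.isNilpotent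
    have hlt' : N.subgroupOf Q < ⊤ := lt_top_iff_ne_top.2 fun h =>
      hlt.not_ge (Subgroup.subgroupOf_eq_top.1 h)
    have := normalizerCondition_of_isNilpotent (G := ↥Q) _ hlt'
    obtain ⟨q, hq, hqN⟩ := SetLike.exists_of_lt this
    refine hqN (Subgroup.mem_subgroupOf.2 ⟨q.2, ?_⟩)
    have h1 : H.map (MulAut.conj (q : G)).toMonoidHom ≤ Subgroup.normalizer (H : Set G) := by
      rintro _ ⟨h, hh, rfl⟩
      have := (Subgroup.mem_normalizer_iff.1 hq ⟨h, hHQ hh⟩).1
        (Subgroup.mem_subgroupOf.2 ⟨hHQ hh, Subgroup.le_normalizer hh⟩)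
      exact (Subgroup.mem_subgroupOf.1 this).2
    have h2 : H.map (MulAut.conj (q : G)).toMonoidHom = H :=
      Subgroup.eq_of_le_of_card_ge (key _ h1)
        (le_of_eq (Nat.card_congr (H.equivMapOfInjective _ (MulAut.conj (q : G)).injective).toEquiv))
    exact Subgroup.mem_normalizer_iff_map_conj_eq.2 h2
  refine ⟨fun Q hQ hHQ g hg => ?_, fun P hHP => ⟨main _ P.2 hHP, hHP, ?_⟩⟩
  · have h1 : H.map (MulAut.conj g).toMonoidHom ≤ Subgroup.normalizer (H : Set G) :=
      ((Subgroup.map_mono hHQ).trans (le_of_eq (Subgroup.mem_normalizer_iff_map_conj_eq.1 hg))).trans (main Q hQ hHQ)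
    have h2 : H.map (MulAut.conj g).toMonoidHom = H :=
      Subgroup.eq_of_le_of_card_ge (key _ h1)
        (le_of_eq (Nat.card_congr (H.equivMapOfInjective _ (MulAut.conj g).injective).toEquiv))
    exact Subgroup.mem_normalizer_iff_map_conj_eq.2 h2
  · intro x hx g hg
    exact (hcl g).le ⟨le_sup_right (a := H) ⟨x, hx, rfl⟩, main _ P.2 hHP hg⟩

end Cfsg.Agent.S3021
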