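import Cfsg.Statements.S3022
import Cfsg.Agent.Lib.MinPush94.OddAut
-- import your own Cfsg.Agent.* helpers here

set_option autoImplicit false
open Cfsg

namespace Cfsg.Agent.S3022

open Subgroup Cfsg.Agent.Lib Cfsg.Agent.Lib.MinPush94 Cfsg.Agent.Lib.FocalChar

/-- Let G be a finite group all of whose non-abelian simple sections are known simple groups, such that a Sylow 2-subgroup of G lies in exactly one maximal subgroup of G and C_G(O₂(G)) ≤ O₂(G). Let S be a Sylow 2-subgroup of G and A a group of automorphisms of S of odd order. Then some nontrivial A-invariant subgroup of S is normal in G. -/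
theorem result {G : Type*} [Group G] [Finite G] (hK : Cfsg.IsKGroup G) (hirr : ∀ S : Sylow 2 G, ∃! M : Subgroup G, IsCoatom M ∧ (S : Subgroup G) ≤ M) (hchar : Subgroup.centralizer (Cfsg.pCore 2 G : Set G) ≤ Cfsg.pCore 2 G) (S : Sylow 2 G) (A : Subgroup (MulAut ↥(S : Subgroup G))) (hA : Odd (Nat.card A)) : ∃ U : Subgroup G, U ≠ ⊥ ∧ U.Normal ∧ U ≤ (S : Subgroup G) ∧ ∀ a ∈ A, ∀ x : ↥(S : Subgroup G), (x : G) ∈ U → ((a x : ↥(S : Subgroup G)) : G) ∈ U := by

  classical
  obtain ⟨M, ⟨hMc, hSM⟩, hMu⟩ := hirr S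
  have hS1 : (S : Subgroup G) ≠ ⊥ := fun h => by
    have hQ : Cfsg.pCore 2 G ≤ (⊥ : Subgroup G) := h ▸ MinPush94.pCore_le_syl S
    rw [le_bot_iff.1 hQ, coe_bot, show centralizer ({1} : Set G) = ⊤ from
      eq_top_iff.2 fun x _ => mem_centralizer_singleton_iff.2 (by simp)] at hchar
    haveI : Subsingleton G := ⟨fun x y => by
      rw [mem_bot.1 (hchar (mem_top x)), mem_bot.1 (hchar (mem_top y))]⟩
    exact hMc.1 (Subsingleton.elim _ _)
  by_cases hz : (Cfsg.omegaOneCenter 2 (S : Subgroup G)).Normal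
  · exact ⟨_, omegaOneCenter_ne_bot S.2 hS1, hz, omegaOneCenter_le_self, fun a _ x hx =>
      omegaOneCenter_aut a hx⟩
  by_cases hB : ∃ X : Subgroup G, X ≤ bMax 2 (S : Subgroup G) ∧ X ≠ ⊥ ∧
      (X.subgroupOf (bMax 2 (S : Subgroup G))).Characteristic ∧ X.Normal
  · obtain ⟨X, hXB, hX1, hXc, hXn⟩ := hB
    exact ⟨X, hX1, hXn, hXB.trans bMax_le_S, fun a _ x hx => char_aut hXB hXc a hx⟩
  push Not at hB
  have d : Hyp0 2 (S : Subgroup G) M := ⟨⟨S, rfl⟩, hchar, hMc.1, hSM, fun L hTL hL => by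
    obtain ⟨K, hK, hLK⟩ := (eq_top_or_exists_le_coatom L).resolve_left hL
    exact hMu K ⟨hK, hTL.trans hLK⟩ ▸ hLK, fun X h1 h2 h3 => hB X h1 h2 h3, hz⟩
  exact exists_invariant_normal d A hA

end Cfsg.Agent.S3022
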