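import Cfsg.Statements.S3023
import Mathlib
import Cfsg.Agent.Lib.CharP.Fitting
import Cfsg.Agent.Lib.CharP.SubnormalSylow
import Cfsg.Agent.Lib.Coprime.Quotient
import Cfsg.Agent.Lib.Core.Nilpotent

set_option autoImplicit false
open Cfsg

namespace Cfsg.Agent.S3023

/-- Let p be a prime, G a finite group of parabolic characteristic p (every p-local subgroup containing a Sylow p-subgroup of G has characteristic p), S a Sylow p-subgroup of G and G₁ a subnormal subgroup of G. If the centre of S ∩ G₁ is nontrivial and contained in the centre of S, then G₁ has parabolic characteristic p. -/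
theorem result {G : Type*} [Group G] [Finite G] {p : ℕ} [Fact p.Prime] (hG : Cfsg.IsOfParabolicCharacteristic p G) (S : Sylow p G) (G₁ : Subgroup G) (hsn : G₁.IsSubnormal) (hne : ((S : Subgroup G) ⊓ G₁) ⊓ Subgroup.centralizer (((S : Subgroup G) ⊓ G₁ : Subgroup G) : Set G) ≠ ⊥) (hle : ((S : Subgroup G) ⊓ G₁) ⊓ Subgroup.centralizer (((S : Subgroup G) ⊓ G₁ : Subgroup G) : Set G) ≤ (S : Subgroup G) ⊓ Subgroup.centralizer ((S : Subgroup G) : Set G)) : Cfsg.IsOfParabolicCharacteristic p ↥G₁ := by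
  intro R hR hRne hpar
  obtain ⟨T, hT⟩ := hpar
  -- `T` is the trace of a conjugate of `S`
  set S₁ : Subgroup G₁ := (S : Subgroup G).subgroupOf G₁ with hS₁
  have hS₁p : IsPGroup p S₁ := S.2.comap_of_injective _ G₁.subtype_injective
  have hS₁idx : ¬ p ∣ S₁.index := fun hd =>
    S.not_dvd_index (hd.trans (Lib.CharP.relIndex_dvd_index_of_isSubnormal _ hsn))
  obtain ⟨g, hg⟩ := MulAction.exists_smul_eq G₁ (hS₁p.toSylow hS₁idx) T
  have hRT : R ≤ (T : Subgroup G₁) :=
    le_sup_left.trans_eq (T.3 (hR.to_sup_of_normal_left' T.2 hT) le_sup_right)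
  haveI : Nonempty T := ⟨1⟩
  haveI := T.2.isNilpotent
  haveI : (R.subgroupOf (T : Subgroup G₁)).Normal :=
    (Subgroup.normal_subgroupOf_iff_le_normalizer hRT).mpr hT
  have hRT' : R.subgroupOf (T : Subgroup G₁) ≠ ⊥ := by
    rw [ne_eq, Subgroup.subgroupOf_eq_bot, disjoint_iff, inf_eq_left.mpr hRT]
    exact hRne
  obtain ⟨z, ⟨hzR, hzc⟩, hz1⟩ := SetLike.exists_of_lt
    (bot_lt_iff_ne_bot.mpr (Lib.Nilp.inf_center_ne_bot_of_normal hRT'))
  have hmemT : ∀ y : G₁, y ∈ (T : Subgroup G₁) ↔ g⁻¹ * y * g ∈ S₁ := by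
    intro y
    rw [← hg, Sylow.coe_subgroup_smul, Subgroup.mem_pointwise_smul_iff_inv_smul_mem]
    simp [IsPGroup.toSylow, MulAut.smul_def]
  -- `z` is centralised by a conjugate of `S`
  have hzS : ((g⁻¹ * (z : G₁) * g : G₁) : G) ∈
      (S : Subgroup G) ⊓ Subgroup.centralizer ((S : Subgroup G) : Set G) := by
    refine hle ⟨⟨(hmemT z).mp z.2, SetLike.coe_mem _⟩, Subgroup.mem_centralizer_iff.mpr ?_⟩
    rintro w ⟨hwS, hwG⟩
    have hwT : g * (⟨w, hwG⟩ : G₁) * g⁻¹ ∈ (T : Subgroup G₁) := by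
      rw [hmemT]
      have e : g⁻¹ * (g * (⟨w, hwG⟩ : G₁) * g⁻¹) * g = ⟨w, hwG⟩ := by group
      rw [e]
      exact hwS
    have hcomm := congrArg Subtype.val (Subgroup.mem_center_iff.mp hzc ⟨_, hwT⟩)
    have e1 : (⟨w, hwG⟩ : G₁) * (g⁻¹ * (z : G₁) * g) =
        g⁻¹ * ((g * (⟨w, hwG⟩ : G₁) * g⁻¹) * (z : G₁)) * g := by group
    have e2 : g⁻¹ * ((z : G₁) * (g * (⟨w, hwG⟩ : G₁) * g⁻¹)) * g =
        (g⁻¹ * (z : G₁) * g) * ⟨w, hwG⟩ := by group
    rw [Subgroup.coe_mul, Subgroup.coe_mul] at hcomm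
    rw [hcomm, e2] at e1
    exact congrArg Subtype.val e1
  set y : G := ((z : G₁) : G) with hy
  set M := Subgroup.normalizer (Subgroup.zpowers y : Set G) with hM
  have hyp : IsPGroup p (Subgroup.zpowers y) := by
    obtain ⟨k, hk⟩ := (IsPGroup.iff_orderOf.mp T.2) z
    exact IsPGroup.of_card (n := k)
      (by rw [Nat.card_zpowers, hy, Subgroup.orderOf_coe, Subgroup.orderOf_coe, hk])
  have hyne : Subgroup.zpowers y ≠ ⊥ := by
    rw [ne_eq, Subgroup.zpowers_eq_bot]
    intro h1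
    exact hz1 (Subgroup.mem_bot.mpr (Subtype.ext (Subtype.ext h1)))
  have hSM : ((g : G) • S : Sylow p G).toSubgroup ≤ Subgroup.centralizer ({y} : Set G) := by
    intro s hs
    rw [Sylow.coe_subgroup_smul, Subgroup.mem_pointwise_smul_iff_inv_smul_mem] at hs
    have h1 := Subgroup.mem_centralizer_iff.mp hzS.2 _ hs
    simp only [MulAut.smul_def, MulAut.inv_apply, MulAut.conj_symm_apply, Subgroup.coe_mul,
      Subgroup.coe_inv] at h1
    rw [Subgroup.mem_centralizer_singleton_iff]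
    rw [← hy] at h1
    calc s * y = (g : G) * ((g : G)⁻¹ * s * g * ((g : G)⁻¹ * y * g)) * (g : G)⁻¹ := by group
      _ = (g : G) * ((g : G)⁻¹ * y * g * ((g : G)⁻¹ * s * g)) * (g : G)⁻¹ := by rw [h1]
      _ = y * s := by group
  have hCM : Subgroup.centralizer ({y} : Set G) ≤ M := by
    intro c hc
    rw [hM]
    refine Subgroup.centralizer_le_normalizer _ (Subgroup.mem_centralizer_iff.mpr fun w hw => ?_)
    obtain ⟨k, rfl⟩ := Subgroup.mem_zpowers_iff.mp hw
    exact ((show Commute c y from Subgroup.mem_centralizer_singleton_iff.mp hc).zpow_right k).eq.symm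
  have hMchar := hG _ hyp hyne ⟨(g : G) • S, hSM.trans hCM⟩
  set L := G₁ ⊓ Subgroup.centralizer ({y} : Set G) with hL
  have hLM : L ≤ M := inf_le_right.trans hCM
  have hLsn : (L.subgroupOf M).IsSubnormal := by
    have h1 : (G₁.subgroupOf M).IsSubnormal := hsn.subgroupOf
    have h2 : ((Subgroup.centralizer ({y} : Set G)).subgroupOf M).Normal := by
      have e : Subgroup.centralizer ({y} : Set G) =
          Subgroup.centralizer (Subgroup.zpowers y : Set G) := by
        rw [Subgroup.zpowers_eq_closure, Subgroup.centralizer_closure]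
      rw [e, Subgroup.normal_subgroupOf_iff_le_normalizer (Subgroup.centralizer_le_normalizer _)]
      exact Lib.CharP.le_normalizer_centralizer le_rfl
    have e : L.subgroupOf M =
        G₁.subgroupOf M ⊓ (Subgroup.centralizer ({y} : Set G)).subgroupOf M := by
      rw [hL]; exact Subgroup.comap_inf _ _ _
    rw [e]
    exact h1.inf h2.isSubnormal
  have hLchar := Lib.CharP.centralizer_pCore_le_of_equiv (Subgroup.subgroupOfEquivOfLe hLM)
    (Lib.CharP.centralizer_pCore_le_of_isSubnormal hMchar hLsn)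
  -- the local subgroup of `G₁` inside `G`
  set R' : Subgroup G := R.map G₁.subtype with hR'
  have hR'L : R' ≤ L := by
    rintro _ ⟨r, hr, rfl⟩
    refine ⟨r.2, Subgroup.mem_centralizer_singleton_iff.mpr ?_⟩
    exact congrArg (fun w : (T : Subgroup G₁) => ((w : G₁) : G))
      (Subgroup.mem_center_iff.mp hzc ⟨r, hRT hr⟩)
  set L' := L ⊓ Subgroup.normalizer (R' : Set G) with hL'
  have hL'char : Subgroup.centralizer (Cfsg.pCore p L' : Set L') ≤ Cfsg.pCore p L' :=
    Lib.CharP.centralizer_pCore_inf_normalizer_le hR'L (hR.map _) hLchar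
  set U : Subgroup G := (Subgroup.normalizer (R : Set G₁)).map G₁.subtype with hU
  have hUG : U ≤ G₁ := Subgroup.map_subtype_le _
  have hUN : U ≤ Subgroup.normalizer (R' : Set G) := Subgroup.le_normalizer_map G₁.subtype
  set Q := Cfsg.pCoreOf p U with hQ
  have hRQ : R' ≤ Q :=
    Lib.CharP.le_pCoreOf (Subgroup.map_mono Subgroup.le_normalizer) (hR.map _) hUN
  set C := U ⊓ Subgroup.centralizer (Q : Set G) with hC
  have hCL : C ≤ L' := by
    rintro c ⟨hcU, hcQ⟩
    refine ⟨⟨hUG hcU, Subgroup.mem_centralizer_singleton_iff.mpr ?_⟩, hUN hcU⟩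
    exact (Subgroup.mem_centralizer_iff.mp hcQ y (hRQ ⟨z, hzR, rfl⟩)).symm
  have hUC : U ≤ Subgroup.normalizer (C : Set G) :=
    Lib.Coprime.le_normalizer_inf_centralizer Subgroup.le_normalizer
      (Lib.CharP.le_normalizer_pCoreOf U)
  have hL'U : L' ≤ U := by
    rintro c ⟨⟨hcG, -⟩, hcN⟩
    refine ⟨⟨c, hcG⟩, Subgroup.mem_normalizer_iff.mpr fun r => ?_, rfl⟩
    have h1 := Subgroup.mem_normalizer_iff.mp hcN (r : G)
    constructor
    · intro hr
      obtain ⟨r', hr', he⟩ := h1.mp ⟨r, hr, rfl⟩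
      rwa [← show r' = ⟨c, hcG⟩ * r * ⟨c, hcG⟩⁻¹ from Subtype.ext he]
    · intro hr
      obtain ⟨r', hr', he⟩ := h1.mpr ⟨_, hr, rfl⟩
      rwa [← show r' = r from Subtype.ext he]
  have hCchar := Lib.CharP.centralizer_pCore_le_of_normalized hCL
    ((Lib.CharP.pCoreOf_le _).trans (hL'U.trans hUC)) hL'char
  haveI : (Cfsg.pCore p C).Characteristic := Lib.PSolvable.pCore_characteristic
  have hCQ : Cfsg.pCoreOf p C ≤ Q :=
    Lib.CharP.le_pCoreOf ((Lib.CharP.pCoreOf_le C).trans inf_le_left)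
      (Lib.CharP.pCoreOf_isPGroup C)
      (hUC.trans (Lib.Coprime.normalizer_le_normalizer_map_of_characteristic _))
  have hUchar : Subgroup.centralizer (Cfsg.pCore p U : Set U) ≤ Cfsg.pCore p U := by
    refine Lib.CharP.centralizer_pCore_le_of_forall fun x hxU hx hxc => ?_
    exact Lib.CharP.eq_one_of_centralizes_pCoreOf hCchar ⟨hxU, hxc⟩ hx
      (Subgroup.centralizer_le (SetLike.coe_subset_coe.2 hCQ) hxc)
  exact Lib.CharP.centralizer_pCore_le_of_equiv
    ((Subgroup.normalizer (R : Set G₁)).equivMapOfInjective _ G₁.subtype_injective).symm hUchar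

end Cfsg.Agent.S3023
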