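import Cfsg.Statements.S3025
import Mathlib
import Cfsg.Agent.Lib.PUnique.Basic

set_option autoImplicit false
open Cfsg

namespace Cfsg.Agent.S3025

/-- Let F be a finite group and H a nontrivial subgroup of F that is contained in every nontrivial subgroup of F which H normalizes. Then F has a nontrivial normal subgroup N contained in every nontrivial normal subgroup of F (a unique minimal normal subgroup), N is simple, and one of the following holds: C_F(N) = 1; or H = N has prime order p, C_F(N) is cyclic of order a power of p, and F/C_F(N) is cyclic of order dividing p − 1; or H = N has order 2, N is central in F, and F is a generalized quaternion group. -/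
theorem result {F : Type*} [Group F] [Finite F] (H : Subgroup F) (hH : H ≠ ⊥)
    (hmin : ∀ R : Subgroup F, R ≠ ⊥ → H ≤ Subgroup.normalizer (R : Set F) → H ≤ R) :
    ∃ N : Subgroup F, N.Normal ∧ N ≠ ⊥ ∧ (∀ M : Subgroup F, M.Normal → M ≠ ⊥ → N ≤ M) ∧ IsSimpleGroup ↥N ∧
      (Subgroup.centralizer (N : Set F) = ⊥ ∨
       (H = N ∧ (Nat.card N).Prime ∧ IsCyclic ↥(Subgroup.centralizer (N : Set F)) ∧
          (∃ k : ℕ, 1 ≤ k ∧ Nat.card ↥(Subgroup.centralizer (N : Set F)) = Nat.card N ^ k) ∧
          (∃ g : F, Subgroup.centralizer (N : Set F) ⊔ Subgroup.zpowers g = ⊤) ∧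
          (Subgroup.centralizer (N : Set F)).index ∣ Nat.card N - 1) ∨
       (H = N ∧ Nat.card N = 2 ∧ Subgroup.centralizer (N : Set F) = ⊤ ∧
          ∃ k : ℕ, 1 ≤ k ∧ Nonempty (F ≃* QuaternionGroup (2 ^ k)))) := by
  set N := Subgroup.normalClosure (H : Set F) with hN
  have hHN : H ≤ N := Subgroup.le_normalClosure
  have hNne : N ≠ ⊥ := fun h => hH (le_bot_iff.mp (h ▸ hHN))
  have hmin' : ∀ M : Subgroup F, M.Normal → M ≠ ⊥ → N ≤ M := by
    intro M hM hne
    exact Subgroup.normalClosure_le_normal
      (hmin M hne (le_top.trans (Subgroup.normalizer_eq_top_iff.mpr hM).ge))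
  haveI : Nontrivial N := (Subgroup.nontrivial_iff_ne_bot N).mpr hNne
  have hsimp : IsSimpleGroup N := by
    refine ⟨fun K hK => or_iff_not_imp_left.mpr fun hne => eq_top_iff.mpr fun x _ => ?_⟩
    -- every conjugate of `H` lies in `K`
    have hle : N ≤ K.map N.subtype := by
      suffices hsuf : Subgroup.normalClosure (H : Set F) ≤ K.map N.subtype from hsuf
      rw [Subgroup.normalClosure, Subgroup.closure_le]
      intro y hy
      obtain ⟨h, hh, hy⟩ := Group.mem_conjugatesOfSet_iff.mp hy
      obtain ⟨f, rfl⟩ := isConj_iff.mp hy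
      -- `K` conjugated by `f⁻¹` is normalised by `H`
      set R : Subgroup F := (K.map N.subtype).map (MulAut.conj f⁻¹).toMonoidHom with hR
      have hKN : N ≤ Subgroup.normalizer ((K.map N.subtype : Subgroup F) : Set F) := by
        have := Subgroup.le_normalizer_map (H := K) N.subtype
        rwa [Subgroup.normalizer_eq_top_iff.mpr hK, ← MonoidHom.range_eq_map,
          Subgroup.range_subtype] at this
      have hRne : R ≠ ⊥ := by
        rw [hR, ne_eq, Subgroup.map_eq_bot_iff_of_injective _ (MulAut.conj f⁻¹).injective,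
          Subgroup.map_eq_bot_iff_of_injective _ N.subtype_injective]
        exact hne
      have hHR : H ≤ Subgroup.normalizer (R : Set F) := by
        intro x hx
        have h1 : f * x * f⁻¹ ∈ N := (Subgroup.normalClosure_normal).conj_mem x (hHN hx) f
        refine Subgroup.le_normalizer_map (H := K.map N.subtype) (MulAut.conj f⁻¹).toMonoidHom
          ⟨f * x * f⁻¹, hKN h1, ?_⟩
        simp [mul_assoc]
      obtain ⟨z, hz, hze⟩ := hmin R hRne hHR hh
      have : z = f * h * f⁻¹ := by
        rw [← hze]; simp [mul_assoc]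
      rw [SetLike.mem_coe, ← this]
      exact hz
    obtain ⟨z, hz, hze⟩ := hle x.2
    rwa [← show z = x from Subtype.ext hze]
  refine ⟨N, Subgroup.normalClosure_normal, hNne, hmin', hsimp, ?_⟩
  set C := Subgroup.centralizer (N : Set F) with hC
  by_cases hCb : C = ⊥
  · exact Or.inl hCb
  right
  haveI hNn : N.Normal := Subgroup.normalClosure_normal
  have hNC : N ≤ C := hmin' C inferInstance hCb
  have hcomm : ∀ a b : N, a * b = b * a := fun a b =>
    Subtype.ext (Subgroup.mem_centralizer_iff.mp (hNC b.2) a a.2)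
  letI : CommGroup N := { (inferInstance : Group N) with mul_comm := hcomm }
  haveI := hsimp
  have hprime : (Nat.card N).Prime := IsSimpleGroup.prime_card
  set p := Nat.card N with hp
  haveI : Fact p.Prime := ⟨hprime⟩
  have hHeq : H = N := by
    refine Subgroup.eq_of_le_of_card_ge hHN ?_
    rcases hprime.eq_one_or_self_of_dvd _ (Subgroup.card_dvd_of_le hHN) with h1 | h1
    · exact absurd (Subgroup.card_eq_one.mp h1) hH
    · exact h1.ge
  -- every nontrivial subgroup of `C` contains `N`
  have hCmin : ∀ R : Subgroup F, R ≤ C → R ≠ ⊥ → N ≤ R := by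
    intro R hR hRne
    rw [← hHeq]
    refine hmin R hRne (hHN.trans ?_)
    exact (Subgroup.le_centralizer_iff.mp hR).trans (Subgroup.centralizer_le_normalizer _)
  have hCp : IsPGroup p C := by
    obtain ⟨n, hn⟩ : ∃ n, Nat.card C = p ^ n := by
      refine ⟨_, Nat.eq_prime_pow_of_unique_prime_dvd Nat.card_pos.ne' fun {q} hq hqd => ?_⟩
      haveI : Fact q.Prime := ⟨hq⟩
      obtain ⟨x, hx⟩ := exists_prime_orderOf_dvd_card' q hqd
      have h1 := hCmin (Subgroup.zpowers (x : F)) (Subgroup.zpowers_le.mpr x.2) (by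
        rw [ne_eq, Subgroup.zpowers_eq_bot]
        intro h
        rw [← Subgroup.orderOf_coe, h, orderOf_one] at hx
        exact hq.ne_one hx.symm)
      have h2 := Subgroup.card_dvd_of_le h1
      rw [Nat.card_zpowers, Subgroup.orderOf_coe, hx] at h2
      exact ((Nat.prime_dvd_prime_iff_eq hprime hq).mp h2).symm
    exact IsPGroup.of_card hn
  obtain ⟨k, hk⟩ := hCp.exists_card_eq
  have hk1 : 1 ≤ k := by
    by_contra h0
    rw [show k = 0 by omega, pow_zero] at hk
    exact hCb (Subgroup.card_eq_one.mp hk)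
  have huniq : ∀ A B : Subgroup C, Nat.card A = p → Nat.card B = p → A = B := by
    have key : ∀ A : Subgroup C, Nat.card A = p → A.map C.subtype = N := by
      intro A hA
      have hc : Nat.card (A.map C.subtype) = p := by
        rw [Subgroup.card_map_of_injective C.subtype_injective, hA]
      exact (Subgroup.eq_of_le_of_card_ge (hCmin _ (Subgroup.map_subtype_le A)
        (fun h => hprime.ne_one (hc.symm.trans (Subgroup.card_eq_one.mpr h)))) hc.le).symm
    intro A B hA hB
    exact Subgroup.map_injective C.subtype_injective ((key A hA).trans (key B hB).symm)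
  -- the action on `N`
  have hker : (MulAut.conjNormal : F →* MulAut N).ker = C := by
    ext x
    rw [MonoidHom.mem_ker, hC, Subgroup.mem_centralizer_iff]
    constructor
    · intro h y hy
      have h1 := congrArg (fun φ : MulAut N => (φ ⟨y, hy⟩ : F)) h
      simp only [MulAut.conjNormal_apply, MulAut.one_apply] at h1
      exact (mul_inv_eq_iff_eq_mul.mp h1).symm
    · intro h
      refine MulEquiv.ext fun y => Subtype.ext ?_
      simp [← h y y.2]
  haveI hNcyc : IsCyclic N := isCyclic_of_prime_card rfl
  haveI : IsCyclic (MulAut N) := by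
    haveI : Fact (Nat.card N).Prime := ⟨hprime⟩
    exact isCyclic_of_surjective (IsCyclic.mulAutMulEquiv (G := N)).symm
      (IsCyclic.mulAutMulEquiv (G := N)).symm.surjective
  have hrange : C.index ∣ p - 1 := by
    rw [← hker, Subgroup.index_ker, ← Nat.totient_prime hprime, hp, ← IsCyclic.card_mulAut N]
    exact Subgroup.card_subgroup_dvd_card _
  rcases Lib.PUnique.isCyclic_or_quaternion hCp huniq with hcyc | ⟨hp2, n, ⟨e⟩⟩
  · left
    refine ⟨hHeq, hprime, hcyc, ⟨k, hk1, hk⟩, ?_, hrange⟩
    obtain ⟨g', hg'⟩ :=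
      IsCyclic.exists_generator (α := (MulAut.conjNormal : F →* MulAut N).range)
    obtain ⟨g, hg⟩ := g'.2
    refine ⟨g, eq_top_iff.mpr fun x _ => ?_⟩
    obtain ⟨i, hi⟩ := Subgroup.mem_zpowers_iff.mp (hg' ⟨MulAut.conjNormal x, x, rfl⟩)
    have hmem : x * (g ^ i)⁻¹ ∈ C := by
      rw [← hker, MonoidHom.mem_ker, map_mul, map_inv, map_zpow, hg, mul_inv_eq_one]
      simpa using (congrArg Subtype.val hi).symm
    have := mul_mem (Subgroup.mem_sup_left (T := Subgroup.zpowers g) hmem)
      (Subgroup.mem_sup_right (S := C) (Subgroup.zpow_mem _ (Subgroup.mem_zpowers g) i))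
    rwa [inv_mul_cancel_right] at this
  · have hN2 : Nat.card N = 2 := hp2
    have hCtop : C = ⊤ := by
      rw [hp2] at hrange
      exact Subgroup.index_eq_one.mp (Nat.dvd_one.mp hrange)
    rcases Nat.eq_zero_or_pos n with rfl | hn
    · left
      refine ⟨hHeq, hprime, ?_, ⟨k, hk1, hk⟩, ⟨1, ?_⟩, hrange⟩
      · haveI : IsCyclic (QuaternionGroup (2 ^ 0)) := QuaternionGroup.quaternionGroup_one_isCyclic
        exact isCyclic_of_surjective e.symm e.symm.surjective
      · rw [hCtop, top_sup_eq]
    · right
      refine ⟨hHeq, hN2, hCtop, n, hn, ⟨?_⟩⟩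
      exact ((MulEquiv.subgroupCongr hCtop).trans Subgroup.topEquiv).symm.trans e

end Cfsg.Agent.S3025
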