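import Cfsg.Statements.S3027
import Mathlib


set_option autoImplicit false
open Cfsg

namespace Cfsg.Agent.S3027

open scoped commutatorElement

/-- Let G be a finite group and D a normal subgroup of G such that G/D is perfect (that is, G = G′D). Then among the subnormal subgroups B of G with BD = G there is a least one, and it is normal in G. -/
theorem result {G : Type*} [Group G] [Finite G] (D : Subgroup G) [D.Normal] (hperf : ⁅(⊤ : Subgroup G), (⊤ : Subgroup G)⁆ ⊔ D = ⊤) :
    ∃ B : Subgroup G, B.Normal ∧ B ⊔ D = ⊤ ∧ ∀ B' : Subgroup G, B'.IsSubnormal → B' ⊔ D = ⊤ → B ≤ B' := by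
  set f := QuotientGroup.mk' D with hf
  have hsupp : ∀ X : Subgroup G, X ⊔ D = ⊤ ↔ X.map f = ⊤ := by
    intro X
    constructor
    · intro h
      have := congrArg (Subgroup.map f) h
      rwa [Subgroup.map_sup, (Subgroup.map_eq_bot_iff D).2 (QuotientGroup.ker_mk' D).ge, sup_bot_eq,
        Subgroup.map_top_of_surjective f (QuotientGroup.mk'_surjective D)] at this
    · intro h
      have := congrArg (Subgroup.comap f) h
      rwa [Subgroup.comap_map_eq, hf, QuotientGroup.ker_mk', Subgroup.comap_top] at this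
  have hperf' : ⁅(⊤ : Subgroup (G ⧸ D)), (⊤ : Subgroup (G ⧸ D))⁆ = ⊤ := by
    have := (hsupp _).1 hperf
    rwa [Subgroup.map_commutator, Subgroup.map_top_of_surjective f (QuotientGroup.mk'_surjective D)] at this
  -- the minimal normal supplement
  obtain ⟨B, ⟨hBn, hBD⟩, hBmin⟩ := Set.Finite.exists_minimalFor (f := id)
    {B : Subgroup G | B.Normal ∧ B ⊔ D = ⊤} (Set.toFinite _) ⟨⊤, inferInstance, top_sup_eq D⟩
  refine ⟨B, hBn, hBD, fun B' hB' hsup => ?_⟩
  -- supplements inside `B` which are normal in `B`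
  let P : Subgroup G → Prop := fun L => L ≤ B ∧ B ≤ Subgroup.normalizer (L : Set G) ∧ L.map f = ⊤
  have hPinf : ∀ L K, P L → P K → P (L ⊓ K) := by
    rintro L K ⟨hL1, hL2, hL3⟩ ⟨hK1, hK2, hK3⟩
    refine ⟨inf_le_left.trans hL1, fun b hb => Subgroup.mem_normalizer_iff.2 fun x => ?_, ?_⟩
    · simp only [Subgroup.mem_inf, Subgroup.mem_normalizer_iff.1 (hL2 hb) x, Subgroup.mem_normalizer_iff.1 (hK2 hb) x]
    · refine top_le_iff.1 (le_trans ?_ (Subgroup.map_mono (f := f)
        (show ⁅L, K⁆ ≤ L ⊓ K from le_inf ?_ ?_)))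
      · rw [Subgroup.map_commutator, hL3, hK3, hperf']
      · rw [Subgroup.commutator_le]
        intro a ha b hb
        rw [commutatorElement_def, show a * b * a⁻¹ * b⁻¹ = a * (b * a⁻¹ * b⁻¹) by group]
        exact mul_mem ha ((Subgroup.mem_normalizer_iff.1 (hL2 (hK1 hb)) a⁻¹).1 (inv_mem ha))
      · rw [Subgroup.commutator_le]
        intro a ha b hb
        rw [commutatorElement_def]
        exact mul_mem ((Subgroup.mem_normalizer_iff.1 (hK2 (hL1 ha)) b).1 hb) (inv_mem hb)
  have hPB : P B := ⟨le_rfl, Subgroup.le_normalizer, (hsupp B).1 hBD⟩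
  -- such a supplement contains `B`
  have hPle : ∀ L, P L → B ≤ L := by
    intro L₀ hL₀
    obtain ⟨L, ⟨hL, hLle⟩, hLmin⟩ := Set.Finite.exists_minimalFor (f := id)
      {L : Subgroup G | P L ∧ L ≤ L₀} (Set.toFinite _) ⟨L₀, hL₀, le_rfl⟩
    have hLn : L.Normal := by
      rw [Subgroup.normal_iff_map_conj_eq]
      intro g
      set K := L.map (MulAut.conj g).toMonoidHom
      have hK : P K := by
        refine ⟨?_, fun b hb => ?_, ?_⟩
        · rintro _ ⟨l, hl, rfl⟩
          exact hBn.conj_mem l (hL.1 hl) g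
        · refine Subgroup.mem_normalizer_iff_map_conj_eq.2 (Subgroup.eq_of_le_of_card_ge ?_
            (le_of_eq (Nat.card_congr (K.equivMapOfInjective _ (MulAut.conj b).injective).toEquiv)))
          rintro _ ⟨_, ⟨l, hl, rfl⟩, rfl⟩
          refine ⟨(g⁻¹ * b * g) * l * (g⁻¹ * b * g)⁻¹, (Subgroup.mem_normalizer_iff.1 (hL.2.1 ?_) l).1 hl, ?_⟩
          · simpa using hBn.conj_mem b hb g⁻¹
          · simp [mul_assoc]
        · refine top_le_iff.1 fun q _ => ?_
          obtain ⟨l, hl, hlq⟩ := hL.2.2.ge (Subgroup.mem_top ((f g)⁻¹ * q * f g))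
          exact ⟨g * l * g⁻¹, ⟨l, hl, rfl⟩, by rw [map_mul, map_mul, map_inv, hlq]; group⟩
      have h1 : L ≤ L ⊓ K := hLmin ⟨hPinf _ _ hL hK, inf_le_left.trans hLle⟩ inf_le_left
      exact (Subgroup.eq_of_le_of_card_ge (h1.trans inf_le_right)
        (le_of_eq (Nat.card_congr (L.equivMapOfInjective _ (MulAut.conj g).injective).toEquiv).symm)).symm
    exact (hBmin ⟨hLn, (hsupp L).2 hL.2.2⟩ hL.1).trans hLle
  -- climb down a subnormal series
  induction hB' with
  | top => exact le_top
  | step H K h_le hSubn hN ih =>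
    have hBK : B ≤ K := ih (eq_top_iff.2 (hsup ▸ sup_le_sup_right h_le D))
    have hKn : K ≤ Subgroup.normalizer (H : Set G) := (Subgroup.normal_subgroupOf_iff_le_normalizer h_le).1 hN
    have hP : P (H ⊓ B) := by
      refine ⟨inf_le_right, fun b hb => Subgroup.mem_normalizer_iff.2 fun x => ?_, ?_⟩
      · simp only [Subgroup.mem_inf, Subgroup.mem_normalizer_iff.1 (hKn (hBK hb)) x,
          Subgroup.mem_normalizer_iff.1 (Subgroup.le_normalizer (H := B) hb) x]
      · refine top_le_iff.1 (le_trans ?_ (Subgroup.map_mono (f := f)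
          (show ⁅H, B⁆ ≤ H ⊓ B from le_inf ?_ ?_)))
        · rw [Subgroup.map_commutator, (hsupp H).1 hsup, hPB.2.2, hperf']
        · rw [Subgroup.commutator_le]
          intro a ha b hb
          rw [commutatorElement_def, show a * b * a⁻¹ * b⁻¹ = a * (b * a⁻¹ * b⁻¹) by group]
          exact mul_mem ha ((Subgroup.mem_normalizer_iff.1 (hKn (hBK hb)) a⁻¹).1 (inv_mem ha))
        · exact Subgroup.commutator_le_right H B
    exact (hPle _ hP).trans inf_le_left

end Cfsg.Agent.S3027
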