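import Cfsg.Statements.S3031
import Mathlib
import Cfsg.Agent.Lib.FixedOrder.Basic
import Cfsg.Agent.Lib.ConjFunctor.Alperin
import Cfsg.Agent.Lib.Transfer.Criteria

set_option autoImplicit false
open Cfsg
open scoped commutatorElement

namespace Cfsg.Agent.S3031

open Cfsg.Agent.Lib.FixedOrder

/-- A `p'`-element normalising a subgroup of a Sylow subgroup acts trivially modulo every maximal
subgroup of the Sylow subgroup. -/
theorem step_mod {G : Type*} [Group G] [Finite G] {p : ℕ} [hp : Fact p.Prime]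
    (hmin : ∀ q : ℕ, q.Prime → q ∣ Nat.card G → p ≤ q) {P Q : Subgroup G} (hP : IsPGroup p P)
    (hQP : Q ≤ P) {d : ℕ} (hd : 1 ≤ d) (hdP : p ^ d < Nat.card P)
    (hgood : ∀ E : Subgroup G, E ≤ P → (Nat.card E = p ^ d ∨ (p ^ d = 2 ∧ Nat.card E = 4)) →
      ∀ g : G, E.map (MulAut.conj g).toMonoidHom ⊓ Subgroup.normalizer (E : Set G) ≤ E)
    {g : G} (hn : (orderOf g).Coprime p) (hg : g ∈ Subgroup.normalizer (Q : Set G))
    {x : G} (hx : x ∈ Q) {M : Subgroup P} (hM : IsCoatom M) :
    ∃ h : x⁻¹ * (g * x * g⁻¹) ∈ P, (⟨_, h⟩ : P) ∈ M := by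
  have hinv : ∀ y ∈ Q, g * y * g⁻¹ ∈ Q := fun y hy => (Subgroup.mem_normalizer_iff.mp hg y).mp hy
  -- elements of order prime to `p` are of order prime to `p - 1`
  have hn' : (orderOf g).Coprime (p - 1) := by
    refine Nat.coprime_of_dvd fun q hq h1 h2 => ?_
    have h3 := hmin q hq (h1.trans (orderOf_dvd_natCard g))
    have h4 := Nat.le_of_dvd (Nat.sub_pos_of_lt hp.out.one_lt) h2
    have h5 := hp.out.pos
    omega
  have hphi : ∀ k, (orderOf g).Coprime (p ^ k).totient := by
    intro k
    rcases Nat.eq_zero_or_pos k with rfl | hk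
    · simp
    · rw [Nat.totient_prime_pow hp.out hk]
      exact (hn.pow_right _).mul_right hn'
  have hclosed : ∀ E : Subgroup G, E ≤ P → (Nat.card E = p ^ d ∨ (p ^ d = 2 ∧ Nat.card E = 4)) →
      ∀ y ∈ E, g * y * g⁻¹ ∈ P → g * y * g⁻¹ ∈ E := by
    intro E hEP hE y hy hyP
    exact hgood E hEP hE g ⟨⟨y, hy, rfl⟩, le_normalizer_of_closed hP hEP (hgood E hEP hE) hyP⟩
  refine ⟨mul_mem (inv_mem (hQP hx)) (hQP (hinv x hx)), ?_⟩
  by_cases hex : ∃ z ∈ Q, orderOf z = p ^ expo p d
  · -- `g` centralises `Q`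
    have hfix : ∀ z ∈ Q, orderOf z = p ^ expo p d → g * z = z * g := by
      intro z hz hzo
      refine commute_of_conj_mem_zpowers (hzo ▸ hphi _) ?_
      refine hclosed _ (Subgroup.zpowers_le.mpr (hQP hz)) ?_ z (Subgroup.mem_zpowers z)
        (hQP (hinv z hz))
      rcases pow_expo p d with h1 | ⟨h1, h2⟩
      · exact Or.inl (by rw [Nat.card_zpowers, hzo, h1])
      · exact Or.inr ⟨h1, by rw [Nat.card_zpowers, hzo, h2]⟩
    have hc := commute_of_fix_order (hd.trans (le_expo p d)) (two_le_expo hd) (hP.to_le hQP) hn hinv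
      hex hfix x hx
    have h1 : (⟨x⁻¹ * (g * x * g⁻¹), mul_mem (inv_mem (hQP hx)) (hQP (hinv x hx))⟩ : P) = 1 := by
      apply Subtype.ext
      simp [hc]
    rw [h1]
    exact M.one_mem
  · push Not at hex
    have hsmall : ∀ y ∈ Q, y ^ p ^ d = 1 := by
      intro y hy
      obtain ⟨c, hc⟩ := Nat.pow_dvd_pow p (expo_pred_le p d)
      rw [hc, pow_mul, pow_eq_one_of_no_order (hP.to_le hQP) (hd.trans (le_expo p d)) hex hy,
        one_pow]
    have hMg : ∀ (y : P), (y : G) ∈ Q → y ∈ M → ∀ h : g * (y : G) * g⁻¹ ∈ P, (⟨_, h⟩ : P) ∈ M := by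
      intro y hy hyM h
      obtain ⟨E, hEM, hyE, hEc⟩ := exists_between (pow_dvd_card_map_coatom hP hdP hM)
        (Subgroup.mem_map_of_mem P.subtype hyM) (hsmall _ hy)
      have hEP : E ≤ P := hEM.trans (Subgroup.map_subtype_le M)
      obtain ⟨w, hw, hwe⟩ := hEM (hclosed E hEP (Or.inl hEc) _ hyE h)
      have hwe' : w = ⟨_, h⟩ := Subtype.ext hwe
      rwa [← hwe']
    obtain ⟨hMn, hMi⟩ := Lib.Nilp.index_coatom_of_isPGroup hP hM
    haveI := hMn
    let f : P →* P ⧸ M := QuotientGroup.mk' M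
    have hf : ∀ a : P, f a = 1 ↔ a ∈ M := fun a => QuotientGroup.eq_one_iff a
    let c : ∀ k : ℕ, P := fun k => ⟨g ^ k * x * (g ^ k)⁻¹, hQP (by
      induction k with
      | zero => simpa using hx
      | succ k ih =>
        have := hinv _ ih
        have e : g ^ (k + 1) * x * (g ^ (k + 1))⁻¹ = g * (g ^ k * x * (g ^ k)⁻¹) * g⁻¹ := by
          rw [pow_succ']; group
        rwa [e])⟩
    have hcQ : ∀ k, (c k : G) ∈ Q := by
      intro k
      induction k with
      | zero => simpa [c] using hx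
      | succ k ih =>
        have := hinv _ ih
        have e : (c (k + 1) : G) = g * (c k : G) * g⁻¹ := by
          simp only [c]; rw [pow_succ']; group
        rwa [e]
    have hgoal : f (c 1) = f (c 0) := by
      by_cases hxM : c 0 ∈ M
      · have h1 := hMg (c 0) (hcQ 0) hxM (by simpa [c] using hQP (hinv x hx))
        have e : (⟨g * (c 0 : G) * g⁻¹, by simpa [c] using hQP (hinv x hx)⟩ : P) = c 1 := by
          apply Subtype.ext; simp [c]
        rw [e] at h1
        rw [(hf _).mpr h1, (hf _).mpr hxM]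
      · have hcard : Nat.card (P ⧸ M) = p := hMi
        have hne : f (c 0) ≠ 1 := fun h => hxM ((hf _).mp h)
        have hgen : ∀ a : P ⧸ M, a ∈ Submonoid.powers (f (c 0)) := fun a => mem_powers_iff_mem_zpowers.mpr (mem_zpowers_of_prime_card hcard hne)
        obtain ⟨i, hi⟩ := hgen (f (c 1))
        simp only at hi
        have key : ∀ k, f (c k) = f (c 0) ^ (i ^ k) := by
          intro k
          induction k with
          | zero => simp
          | succ k ih =>
            let m : P := (c 0 ^ (i ^ k))⁻¹ * c k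
            have hmQ : (m : G) ∈ Q := by
              have := Q.mul_mem (Q.inv_mem (Q.pow_mem (hcQ 0) (i ^ k))) (hcQ k)
              simpa [m] using this
            have hmM : m ∈ M := (hf _).mp (by simp [m, map_mul, ih])
            have h1 := (hf _).mpr (hMg m hmQ hmM (hQP (hinv _ hmQ)))
            have e : c (k + 1) = c 1 ^ (i ^ k) * ⟨g * (m : G) * g⁻¹, hQP (hinv _ hmQ)⟩ := by
              apply Subtype.ext
              simp only [c, m, Subgroup.coe_mul, Subgroup.coe_pow, Subgroup.coe_inv, pow_one,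
                pow_zero, inv_one, one_mul, mul_one, conj_pow]
              rw [pow_succ']; group
            rw [e, map_mul, h1, mul_one, map_pow, ← hi, ← pow_mul, ← pow_succ']
        have h1 := key (orderOf g)
        have e : c (orderOf g) = c 0 := by
          apply Subtype.ext; simp [c, pow_orderOf_eq_one]
        rw [e] at h1
        have hord : orderOf (f (c 0)) = p := orderOf_eq_prime (hcard ▸ pow_card_eq_one') hne
        have h2 := modEq_one_of_pow (orderOf_pos g).ne' (by simpa using hphi 1)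
          (hord ▸ pow_eq_pow_iff_modEq.mp (h1.symm.trans (pow_one _).symm))
        rw [← hi]
        exact (pow_eq_pow_iff_modEq.mpr (hord.symm ▸ h2)).trans (pow_one _)
    rw [← hf]
    have e : (⟨x⁻¹ * (g * x * g⁻¹), mul_mem (inv_mem (hQP hx)) (hQP (hinv x hx))⟩ : P) =
        (c 0)⁻¹ * c 1 := by
      apply Subtype.ext; simp [c]
    rw [e, map_mul, map_inv, hgoal, inv_mul_cancel]

/-- Let G be a finite group, p the smallest prime dividing |G| and P a Sylow p-subgroup. Suppose that P is cyclic, or that P has a subgroup D with 1 < |D| < |P| such that every subgroup E of P of order |D|, and also every subgroup E of P of order 4 when |D| = 2, satisfies g E g⁻¹ ∩ N_G(E) ≤ E for all g ∈ G (E is strongly closed in its normalizer with respect to G). Then G has a normal p-complement. -/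
theorem result {G : Type*} [Group G] [Finite G] {p : ℕ} [Fact p.Prime] (hdiv : p ∣ Nat.card G)
    (hmin : ∀ q : ℕ, q.Prime → q ∣ Nat.card G → p ≤ q) (P : Sylow p G)
    (h : IsCyclic ↥(P : Subgroup G) ∨ ∃ D : Subgroup G, D ≤ (P : Subgroup G) ∧ 1 < Nat.card D ∧ Nat.card D < Nat.card (P : Subgroup G) ∧
      ∀ E : Subgroup G, E ≤ (P : Subgroup G) → (Nat.card E = Nat.card D ∨ (Nat.card D = 2 ∧ Nat.card E = 4)) →
        ∀ g : G, E.map (MulAut.conj g).toMonoidHom ⊓ Subgroup.normalizer (E : Set G) ≤ E) :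
    Cfsg.HasNormalPComplement p G := by
  rcases h with hcyc | ⟨D, hDP, hD1, hDP', hgood⟩
  · have hmf : (Nat.card G).minFac = p := by
      refine le_antisymm (Nat.minFac_le_of_dvd (Fact.out : p.Prime).two_le hdiv) ?_
      refine hmin _ (Nat.minFac_prime fun h1 => ?_) (Nat.minFac_dvd _)
      exact (Fact.out : p.Prime).not_dvd_one (h1 ▸ hdiv)
    exact Lib.Transfer.hasNormalPComplement_of_normalizer_le_centralizer P
      (hcyc.normalizer_le_centralizer hmf)
  obtain ⟨d, hd⟩ := (P.2.to_le hDP).exists_card_eq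
  rw [hd] at hD1 hDP' hgood
  have hd1 : 1 ≤ d := by
    by_contra hcon
    rw [show d = 0 by omega, pow_zero] at hD1
    exact absurd hD1 (lt_irrefl 1)
  set Φ : Subgroup G := (frattini (P : Subgroup G)).map (P : Subgroup G).subtype with hΦ
  have hmemΦ : ∀ y : P, y ∈ frattini (P : Subgroup G) → (y : G) ∈ Φ := fun y hy =>
    Subgroup.mem_map_of_mem _ hy
  have hΦP : Φ ≤ (P : Subgroup G) := Subgroup.map_subtype_le _
  -- elements of `N(U)` respect the classes modulo `Φ`
  have hstep : ∀ U : Subgroup G, U ≤ (P : Subgroup G) → Lib.ConjFunctor.FN p (P : Subgroup G) U →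
      ∀ g ∈ Subgroup.normalizer (U : Set G), ∀ x ∈ U, x⁻¹ * (g * x * g⁻¹) ∈ Φ := by
    intro U hUP hFN
    let H : Subgroup G :=
      { carrier := {g | g ∈ Subgroup.normalizer (U : Set G) ∧ ∀ x ∈ U, x⁻¹ * (g * x * g⁻¹) ∈ Φ}
        one_mem' := ⟨one_mem _, fun x _ => by simp⟩
        mul_mem' := by
          rintro a b ⟨ha, ha'⟩ ⟨hb, hb'⟩
          refine ⟨mul_mem ha hb, fun x hx => ?_⟩
          have := mul_mem (hb' x hx) (ha' _ ((Subgroup.mem_normalizer_iff.mp hb x).mp hx))
          convert this using 1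
          group
        inv_mem' := by
          rintro a ⟨ha, ha'⟩
          refine ⟨inv_mem ha, fun x hx => ?_⟩
          have := inv_mem (ha' _ ((Subgroup.mem_normalizer_iff.mp (inv_mem ha) x).mp hx))
          convert this using 1
          group }
    have hRle : (P : Subgroup G) ⊓ Subgroup.normalizer (U : Set G) ≤ H := by
      rintro g ⟨hgP, hgN⟩
      refine ⟨hgN, fun x hx => ?_⟩
      have h1 := (Lib.Nilp.commutator_le_and_pow_mem_frattini P.2).1
        (Subgroup.commutator_mem_commutator (Subgroup.mem_top ((⟨x, hUP hx⟩ : P)⁻¹))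
          (Subgroup.mem_top (⟨g, hgP⟩ : P)))
      have h2 := hmemΦ _ h1
      simpa [commutatorElement_def, mul_assoc] using h2
    have hp' : ∀ g ∈ Subgroup.normalizer (U : Set G), (orderOf g).Coprime p → g ∈ H := by
      intro g hg hgo
      refine ⟨hg, fun x hx => ?_⟩
      have hPP : x⁻¹ * (g * x * g⁻¹) ∈ (P : Subgroup G) :=
        mul_mem (inv_mem (hUP hx)) (hUP ((Subgroup.mem_normalizer_iff.mp hg x).mp hx))
      refine hmemΦ ⟨_, hPP⟩ (Subgroup.mem_iInf.mpr fun M => Subgroup.mem_iInf.mpr fun hM => ?_)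
      obtain ⟨_, h1⟩ := step_mod hmin P.2 hUP hd1 hDP' hgood hgo hg hx hM
      exact h1
    have hHN : H ≤ Subgroup.normalizer (U : Set G) := fun g hg => hg.1
    have hidx : H.relIndex (Subgroup.normalizer (U : Set G)) = 1 := by
      by_contra hne
      obtain ⟨q, hq, hqd⟩ := Nat.exists_prime_and_dvd hne
      haveI : Fact q.Prime := ⟨hq⟩
      rcases eq_or_ne q p with rfl | hqp
      · exact hFN (hqd.trans (Subgroup.relIndex_dvd_of_le_left _ hRle))
      · obtain ⟨S⟩ := (inferInstance : Nonempty (Sylow q (Subgroup.normalizer (U : Set G))))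
        refine S.not_dvd_index (hqd.trans (Subgroup.index_dvd_of_le (K := H.subgroupOf _) ?_))
        intro s hs
        refine hp' _ s.2 ?_
        obtain ⟨k, hk⟩ := (IsPGroup.iff_orderOf.mp S.2) ⟨s, hs⟩
        rw [Subgroup.orderOf_mk] at hk
        show (orderOf (s : G)).Coprime p
        rw [Subgroup.orderOf_coe, hk]
        exact ((Nat.coprime_primes hq (Fact.out : p.Prime)).mpr hqp).pow_left k
    intro g hg x hx
    exact (Subgroup.relIndex_eq_one.mp hidx hg).2 x hx
  -- fully normalised representatives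
  set 𝓕 : Set (Subgroup G) := {U | U ≤ (P : Subgroup G) ∧ Lib.ConjFunctor.FN p (P : Subgroup G) U}
  have hfn : ∀ T : Subgroup G, T ≤ (P : Subgroup G) → ∃ U ∈ 𝓕,
      (∃ g : G, Lib.ConjFunctor.cj g T = U) ∧ Lib.ConjFunctor.FN p (P : Subgroup G) U := by
    intro T hT
    obtain ⟨R⟩ := (inferInstance : Nonempty (Sylow p (Subgroup.normalizer (T : Set G))))
    set RG : Subgroup G := (R : Subgroup (Subgroup.normalizer (T : Set G))).map
      (Subgroup.subtype _) with hRG
    have hTR : T ≤ RG := by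
      haveI : (T.subgroupOf (Subgroup.normalizer (T : Set G))).Normal :=
        Subgroup.normal_in_normalizer
      have hT' : IsPGroup p (T.subgroupOf (Subgroup.normalizer (T : Set G))) :=
        (P.2.to_le hT).comap_of_injective _ (Subgroup.subtype_injective _)
      have : T.subgroupOf (Subgroup.normalizer (T : Set G)) ≤ (R : Subgroup _) :=
        le_sup_left.trans_eq (R.3 (hT'.to_sup_of_normal_left R.2) le_sup_right)
      intro t ht
      exact ⟨⟨t, Subgroup.le_normalizer ht⟩, this (Subgroup.mem_subgroupOf.mpr ht), rfl⟩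
    obtain ⟨P', hP'⟩ := (R.2.map _ : IsPGroup p RG).exists_le_sylow
    obtain ⟨a, ha⟩ := MulAction.exists_smul_eq G P' P
    have hle : Lib.ConjFunctor.cj a RG ≤ (P : Subgroup G) := by
      refine (Lib.ConjFunctor.cj_mono a hP').trans_eq ?_
      rw [← ha]
      rfl
    have hUP := (Lib.ConjFunctor.cj_mono a hTR).trans hle
    have hFN : Lib.ConjFunctor.FN p (P : Subgroup G) (Lib.ConjFunctor.cj a T) := by
      intro hdvd
      have h1 : Lib.ConjFunctor.cj a RG ≤
          (P : Subgroup G) ⊓ Subgroup.normalizer (Lib.ConjFunctor.cj a T : Set G) := by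
        refine le_inf hle ?_
        rw [Lib.ConjFunctor.normalizer_cj]
        exact Lib.ConjFunctor.cj_mono a (Subgroup.map_subtype_le _)
      have h2 := hdvd.trans (Subgroup.relIndex_dvd_of_le_left _ h1)
      rw [Lib.ConjFunctor.normalizer_cj, Lib.ConjFunctor.relIndex_cj] at h2
      refine R.not_dvd_index ?_
      have e : RG.subgroupOf (Subgroup.normalizer (T : Set G)) = (R : Subgroup _) := by
        exact Subgroup.comap_map_eq_self_of_injective (Subgroup.subtype_injective _) _
      rw [← e]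
      exact h2
    exact ⟨_, ⟨hUP, hFN⟩, ⟨a, rfl⟩, hFN⟩
  have hsteps : ∀ (A : Set G) (g : G), Lib.ConjFunctor.Steps 𝓕 A g → ∀ x ∈ A,
      x⁻¹ * (g * x * g⁻¹) ∈ Φ := by
    intro A g hs
    induction hs with
    | nil A => intro x _; simp
    | @cons A g T u hT hA hu _ ih =>
      intro x hx
      have h1 := hstep T hT.1 hT.2 u hu x (hA hx)
      have h2 := ih _ ⟨x, hx, rfl⟩
      have := mul_mem h1 h2
      convert this using 1
      group
  refine Lib.Transfer.hasNormalPComplement_of_le_frattini P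
    ((Lib.Transfer.pResidual_inf_le_focalSubgroup P).trans ?_)
  rw [Subgroup.focalSubgroup, Subgroup.closure_le]
  rintro _ ⟨hcP, x, hx, u, rfl⟩
  open scoped commutatorElement in
  have hcP' : x * u * x⁻¹ * u⁻¹ ∈ (P : Subgroup G) := by simpa [commutatorElement_def] using hcP
  have hux : u * x⁻¹ * u⁻¹ ∈ (P : Subgroup G) := by
    have := mul_mem (inv_mem hx) hcP'
    simpa [mul_assoc] using this
  have hs : Lib.ConjFunctor.Steps 𝓕 {x⁻¹} u :=
    Lib.ConjFunctor.steps_of_conj_set P.2 𝓕 (fun U hU => hU.1) hfn {x⁻¹}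
      (Set.singleton_subset_iff.mpr (inv_mem hx)) u
      (by rintro _ ⟨a, rfl, rfl⟩; exact hux)
  have := hsteps _ _ hs x⁻¹ rfl
  have e : ⁅x, u⁆ = x⁻¹⁻¹ * (u * x⁻¹ * u⁻¹) := by rw [commutatorElement_def]; group
  rw [e]
  exact this

end Cfsg.Agent.S3031
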