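import Cfsg.Statements.S3032
import Mathlib
import Cfsg.Agent.S3031
import Cfsg.Agent.Lib.FixedOrder.Supersolvable

set_option autoImplicit false
open Cfsg

namespace Cfsg.Agent.S3032

/-- Let G be a finite group and E a normal subgroup with G/E supersolvable. Suppose that for every prime p and every non-cyclic Sylow p-subgroup P of E there is a subgroup D of P with 1 < |D| < |P| such that every subgroup F of P of order |D|, and also every subgroup F of P of order 4 when |D| = 2, satisfies g F g⁻¹ ∩ N_G(F) ≤ F for all g ∈ G. Then G is supersolvable. -/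
theorem result {G : Type*} [Group G] [Finite G] (E : Subgroup G) [E.Normal] (hGE : Cfsg.IsSupersolvable (G ⧸ E))
    (h : ∀ (p : ℕ), p.Prime → ∀ P : Subgroup G, P ≤ E → IsPGroup p P → ¬ p ∣ P.relIndex E → ¬ IsCyclic ↥P →
      ∃ D : Subgroup G, D ≤ P ∧ 1 < Nat.card D ∧ Nat.card D < Nat.card P ∧
        ∀ F : Subgroup G, F ≤ P → (Nat.card F = Nat.card D ∨ (Nat.card D = 2 ∧ Nat.card F = 4)) →
          ∀ g : G, F.map (MulAut.conj g).toMonoidHom ⊓ Subgroup.normalizer (F : Set G) ≤ F) :
    Cfsg.IsSupersolvable G := by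
  induction hn : Nat.card E using Nat.strong_induction_on generalizing E with
  | _ n ih =>
  rcases eq_or_ne E ⊥ with rfl | hne
  · exact Lib.Supersolvable.of_mulEquiv hGE QuotientGroup.quotientBot
  set p := (Nat.card E).minFac with hpdef
  have hE1 : Nat.card E ≠ 1 := fun h1 => hne (Subgroup.card_eq_one.mp h1)
  haveI hp : Fact p.Prime := ⟨Nat.minFac_prime hE1⟩
  obtain ⟨P₀⟩ := (inferInstance : Nonempty (Sylow p E))
  set PG : Subgroup G := (P₀ : Subgroup E).map E.subtype with hPG
  have hPGE : PG ≤ E := Subgroup.map_subtype_le _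
  have hPGp : IsPGroup p PG := P₀.2.map _
  have hPGidx : ¬ p ∣ PG.relIndex E := by
    intro hd
    refine P₀.not_dvd_index ?_
    rwa [Subgroup.relIndex, hPG, Subgroup.subgroupOf,
      Subgroup.comap_map_eq_self_of_injective E.subtype_injective] at hd
  have hiso : (P₀ : Subgroup E) ≃* PG :=
    (P₀ : Subgroup E).equivMapOfInjective E.subtype E.subtype_injective
  -- `E` has a normal `p`-complement
  have hnc : Cfsg.HasNormalPComplement p E := by
    refine Cfsg.Agent.S3031.result (Nat.minFac_dvd _)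
      (fun q hq hqd => Nat.minFac_le_of_dvd hq.two_le hqd) P₀ ?_
    by_cases hc : IsCyclic PG
    · exact Or.inl (isCyclic_of_surjective hiso.symm hiso.symm.surjective)
    obtain ⟨D, hDP, hD1, hD2, hD⟩ := h p hp.out PG hPGE hPGp hPGidx hc
    have hcE : ∀ F : Subgroup E, Nat.card (F.map E.subtype) = Nat.card F := fun F =>
      Subgroup.card_map_of_injective E.subtype_injective
    have hDE : (D.subgroupOf E).map E.subtype = D :=
      Subgroup.map_subgroupOf_eq_of_le (hDP.trans hPGE)
    refine Or.inr ⟨D.subgroupOf E, ?_, ?_, ?_, ?_⟩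
    · rw [← Subgroup.map_le_map_iff_of_injective E.subtype_injective, hDE]
      exact hDP
    · rwa [← hcE, hDE]
    · rwa [← hcE, hDE, ← hcE]
    · intro F hF hFc g x hx
      rw [← hcE, ← hcE (D.subgroupOf E), hDE] at hFc
      obtain ⟨⟨y, hy, rfl⟩, hxN⟩ := hx
      have h1 := hD (F.map E.subtype) (Subgroup.map_mono hF) hFc (g : G)
      have hxN' : ((MulAut.conj g).toMonoidHom y : E).1 ∈
          Subgroup.normalizer ((F.map E.subtype : Subgroup G) : Set G) := by
        rw [Subgroup.mem_normalizer_iff]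
        intro w
        constructor
        · rintro ⟨v, hv, rfl⟩
          exact ⟨_, (Subgroup.mem_normalizer_iff.mp hxN v).mp hv, rfl⟩
        · rintro ⟨v, hv, hvw⟩
          have h2 := (Subgroup.mem_normalizer_iff.mp (inv_mem hxN) v).mp hv
          refine ⟨_, h2, ?_⟩
          simp only [Subgroup.subtype_apply] at hvw ⊢
          simp only [Subgroup.coe_mul, Subgroup.coe_inv, hvw]
          group
      obtain ⟨z, hz, hze⟩ := h1 ⟨⟨(y : G), ⟨y, hy, rfl⟩, rfl⟩, hxN'⟩
      have : z = (MulAut.conj g).toMonoidHom y := Subtype.ext hze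
      rwa [← this]
  obtain ⟨P₁, K₀, hK₀, hcompl⟩ := hnc
  haveI := hK₀
  have hK₀idx : K₀.index = Nat.card (P₁ : Subgroup E) := hcompl.symm.index_eq_card
  have hK₀card : (Nat.card K₀).Coprime p := by
    rw [← hcompl.index_eq_card]
    exact (hp.out.coprime_iff_not_dvd.mpr P₁.not_dvd_index).symm
  have hmem : ∀ x : E, x ∈ K₀ ↔ (orderOf x).Coprime p := by
    intro x
    constructor
    · intro hx
      refine hK₀card.coprime_dvd_left ?_
      have := orderOf_dvd_natCard (⟨x, hx⟩ : K₀)
      rwa [Subgroup.orderOf_mk] at this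
    · intro hx
      rw [← QuotientGroup.eq_one_iff, ← orderOf_eq_one_iff]
      obtain ⟨k, hk⟩ := P₁.2.exists_card_eq
      refine Nat.eq_one_of_dvd_coprimes (hx.pow_right k) (orderOf_map_dvd (QuotientGroup.mk' K₀) x) ?_
      rw [← hk, ← hK₀idx]
      exact orderOf_dvd_natCard _
  set K : Subgroup G := K₀.map E.subtype with hKdef
  haveI hKn : K.Normal := by
    refine ⟨?_⟩
    rintro _ ⟨x, hx, rfl⟩ g
    refine ⟨⟨g * x * g⁻¹, (inferInstance : E.Normal).conj_mem x x.2 g⟩, (hmem _).mpr ?_, rfl⟩
    have h1 : orderOf (g * (x : G) * g⁻¹) = orderOf (x : G) :=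
      orderOf_injective (MulAut.conj g).toMonoidHom (MulAut.conj g).injective (x : G)
    rw [← Subgroup.orderOf_coe]
    show (orderOf (g * (x : G) * g⁻¹)).Coprime p
    rw [h1, Subgroup.orderOf_coe]
    exact (hmem x).mp hx
  have hKE : K ≤ E := Subgroup.map_subtype_le _
  let f := QuotientGroup.mk' K
  have hPGK : ∀ x ∈ PG, f x = 1 → x = 1 := by
    intro x hx hfx
    obtain ⟨y, hy, rfl⟩ := hx
    obtain ⟨w, hw, hwe⟩ := (QuotientGroup.eq_one_iff _).mp hfx
    have hyK : y ∈ K₀ := by rwa [← E.subtype_injective hwe]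
    obtain ⟨k, hk⟩ := (IsPGroup.iff_orderOf.mp P₀.2) ⟨y, hy⟩
    rw [Subgroup.orderOf_mk] at hk
    have h1 := (hmem y).mp hyK
    have h2 : orderOf y = 1 :=
      Nat.eq_one_of_dvd_coprimes (h1.pow_right k) dvd_rfl (hk ▸ dvd_rfl)
    rw [orderOf_eq_one_iff.mp h2, map_one]
  have hEmap : E.map f = PG.map f := by
    refine le_antisymm ?_ (Subgroup.map_mono hPGE)
    have hsup : K₀ ⊔ (P₀ : Subgroup E) = ⊤ := by
      refine (Subgroup.isComplement'_of_coprime ?_ ?_).sup_eq_top
      · rw [Sylow.card_eq_multiplicity P₀, ← Sylow.card_eq_multiplicity P₁]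
        exact hcompl.card_mul
      · obtain ⟨k, hk⟩ := P₀.2.exists_card_eq
        rw [hk]
        exact hK₀card.pow_right k
    have h1 := congrArg (Subgroup.map E.subtype) hsup
    rw [Subgroup.map_sup, ← MonoidHom.range_eq_map, Subgroup.range_subtype, ← hKdef, ← hPG] at h1
    conv_lhs => rw [← h1]
    rw [Subgroup.map_sup, QuotientGroup.map_mk'_self, bot_sup_eq]
  have hcardmap : ∀ F : Subgroup G, F ≤ PG → Nat.card (F.map f) = Nat.card F := by
    intro F hF
    have hinj : Function.Injective (f.subgroupMap F) := by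
      rw [← MonoidHom.ker_eq_bot_iff, Subgroup.eq_bot_iff_forall]
      intro x hx
      exact Subtype.ext (hPGK x (hF x.2) (congrArg Subtype.val (MonoidHom.mem_ker.mp hx)))
    exact (Nat.card_congr
      (MulEquiv.ofBijective (f.subgroupMap F) ⟨hinj, f.subgroupMap_surjective F⟩).toEquiv).symm
  haveI hEn : (E.map f).Normal :=
    (inferInstance : E.Normal).map f (QuotientGroup.mk'_surjective K)
  have hEp : IsPGroup p (E.map f) := hEmap ▸ hPGp.map f
  have hqq : Cfsg.IsSupersolvable ((G ⧸ K) ⧸ E.map f) :=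
    Lib.Supersolvable.of_mulEquiv hGE (QuotientGroup.quotientQuotientEquivQuotient K E hKE).symm
  -- `G / K` is supersolvable
  have hGK : Cfsg.IsSupersolvable (G ⧸ K) := by
    by_cases hc : IsCyclic PG
    · haveI : IsCyclic (E.map f) := hEmap ▸
        isCyclic_of_surjective (f.subgroupMap PG) (f.subgroupMap_surjective PG)
      exact Lib.Supersolvable.of_cyclic_extension (E.map f) hqq
    obtain ⟨D, hDP, hD1, hD2, hD⟩ := h p hp.out PG hPGE hPGp hPGidx hc
    obtain ⟨d, hd⟩ := (hPGp.to_le hDP).exists_card_eq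
    rw [hd] at hD1 hD2 hD
    have hd1 : 1 ≤ d := by
      by_contra hcon
      rw [show d = 0 by omega, pow_zero] at hD1
      exact absurd hD1 (lt_irrefl 1)
    refine Lib.FixedOrder.isSupersolvable_of_powCore_commute (E.map f) hEp hqq
      (Lib.FixedOrder.powCore_commute_of_normal (E.map f) hEp hd1 ?_ ?_)
    · rwa [hEmap, hcardmap PG le_rfl]
    · intro F hF hFc
      rw [hEmap] at hF
      set F₀ : Subgroup G := PG ⊓ F.comap f with hF₀
      have hF₀map : F₀.map f = F := by
        refine le_antisymm (Subgroup.map_le_iff_le_comap.mpr inf_le_right) fun y hy => ?_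
        obtain ⟨x, hx, rfl⟩ := hF hy
        exact ⟨x, ⟨hx, hy⟩, rfl⟩
      rw [← hF₀map, hcardmap F₀ inf_le_left] at hFc
      have hcl := hD F₀ inf_le_left hFc
      have hPN := Lib.FixedOrder.le_normalizer_of_closed hPGp inf_le_left hcl
      have hN : Subgroup.normalizer (PG : Set G) ≤ Subgroup.normalizer (F₀ : Set G) := by
        have key : ∀ n ∈ Subgroup.normalizer (PG : Set G), ∀ x ∈ F₀, n * x * n⁻¹ ∈ F₀ := by
          intro n hn' x hx
          exact hcl n ⟨⟨x, hx, rfl⟩, hPN ((Subgroup.mem_normalizer_iff.mp hn' x).mp hx.1)⟩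
        intro n hn'
        rw [Subgroup.mem_normalizer_iff]
        intro x
        refine ⟨key n hn' x, fun hx => ?_⟩
        have := key n⁻¹ (inv_mem hn') _ hx
        simpa [mul_assoc] using this
      rw [← Subgroup.normalizer_eq_top_iff, eq_top_iff, ← hF₀map]
      have hfr : Subgroup.normalizer (PG : Set G) ⊔ E = ⊤ := Sylow.normalizer_sup_eq_top P₀
      rw [← Subgroup.map_top_of_surjective f (QuotientGroup.mk'_surjective K), ← hfr,
        Subgroup.map_sup, hEmap]
      refine sup_le ?_ ((Subgroup.map_mono hPN).trans (Subgroup.le_normalizer_map f))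
      exact (Subgroup.map_mono hN).trans (Subgroup.le_normalizer_map f)
  -- apply induction to `K`
  refine ih (Nat.card K) ?_ K hGK ?_ rfl
  · rw [← hn, hKdef, Subgroup.card_map_of_injective E.subtype_injective]
    refine lt_of_le_of_ne (Subgroup.card_le_card_group K₀) fun he => ?_
    rw [he] at hK₀card
    exact hp.out.coprime_iff_not_dvd.mp hK₀card.symm (Nat.minFac_dvd _)
  · intro q hq Q hQK hQ hQidx hQc
    haveI : Fact q.Prime := ⟨hq⟩
    rcases eq_or_ne q p with rfl | hqp
    · exfalso
      refine hQc ?_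
      have : Nat.card Q = 1 := by
        obtain ⟨k, hk⟩ := hQ.exists_card_eq
        have h1 := Subgroup.card_dvd_of_le hQK
        rw [hKdef, Subgroup.card_map_of_injective E.subtype_injective] at h1
        exact Nat.eq_one_of_dvd_coprimes (hK₀card.pow_right k) h1 (hk ▸ dvd_rfl)
      haveI := (Nat.card_eq_one_iff_unique.mp this).1
      infer_instance
    · refine h q hq Q (hQK.trans hKE) hQ ?_ hQc
      rw [← Subgroup.relIndex_mul_relIndex Q K E hQK hKE]
      intro hd
      rcases (Nat.Prime.dvd_mul hq).mp hd with h1 | h1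
      · exact hQidx h1
      · have he : K.relIndex E = K₀.index := by
          rw [Subgroup.relIndex, hKdef, Subgroup.subgroupOf,
            Subgroup.comap_map_eq_self_of_injective E.subtype_injective]
        rw [he, hK₀idx] at h1
        obtain ⟨k, hk⟩ := P₁.2.exists_card_eq
        rw [hk] at h1
        exact hqp ((Nat.prime_dvd_prime_iff_eq hq hp.out).mp (hq.dvd_of_dvd_pow h1))

end Cfsg.Agent.S3032
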