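import Cfsg.Statements.S3038
import Cfsg.Agent.Lib.IsolatedOdd.Structure
import Cfsg.Agent.Lib.PLemmas.NormalRankTwo

set_option autoImplicit false
open Cfsg

namespace Cfsg.Agent.S3038

open scoped commutatorElement in
open Subgroup in
open Cfsg.Agent.Lib Cfsg.Agent.Lib.IsolatedOdd in
theorem main {G : Type*} [Group G] [Finite G] {p : ℕ} [Fact p.Prime] (hp : p ≠ 2)
    (hrank : Cfsg.PRankLE p 2 G) (x : G) (hx : orderOf x = p) (hiso : Cfsg.IsIsolated x)
    (L : Subgroup G) (hsimple : IsSimpleGroup L) (hnab : ¬ IsMulCommutative L) (hL : L.Normal)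
    (P : Sylow p L) :
    ((∀ g : G, g * x * g⁻¹ ∉ (P : Subgroup L).map L.subtype) ∧ IsCyclic (P : Subgroup L)) ∨
    ((∃ g : G, g * x * g⁻¹ ∈ (P : Subgroup L).map L.subtype) ∧
      ((Cfsg.IsExtraspecial p (P : Subgroup L) ∧ Nat.card (P : Subgroup L) = p ^ 3 ∧
          ∀ y ∈ (P : Subgroup L), y ^ p = 1) ∨
       (p = 3 ∧ ∃ k : ℕ, 2 ≤ k ∧ Nat.card (P : Subgroup L) = 3 ^ (2 * k + 1) ∧
          ∃ _ : Group.IsNilpotent (P : Subgroup L),
            Group.nilpotencyClass (P : Subgroup L) = 2 * k))) := by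
  haveI := hsimple
  by_cases hex : ∃ g : G, g * x * g⁻¹ ∈ (P : Subgroup L).map L.subtype
  · refine Or.inr ⟨hex, ?_⟩
    obtain ⟨g, y, hy, hyg⟩ := hex
    have hperf : _root_.commutator L = ⊤ := by
      rcases (inferInstance : (_root_.commutator L).Normal).eq_bot_or_eq_top with h | h
      · refine absurd ⟨⟨fun a b => ?_⟩⟩ hnab
        have h1 : ⁅a, b⁆ ∈ _root_.commutator L := commutator_mem_commutator (mem_top a) (mem_top b)
        rw [h, mem_bot] at h1
        exact commutatorElement_eq_one_iff_mul_comm.1 h1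
      · exact h
    have hyiso : Cfsg.IsIsolated y := by
      intro a ha
      refine Subtype.ext ?_
      have h1 := isolated_conj hiso g (a : G)
      rw [← hyg] at h1
      exact h1 (ha.map L.subtype)
    have hyo : orderOf y = p := by
      rw [← orderOf_coe, show (y : G) = MulAut.conj g x from hyg, MulEquiv.orderOf_eq, hx]
    exact Hyp.structure_mem (x := y) ⟨hp, hperf, rank_subgroup hrank L, hyo, hy, hyiso⟩
  · refine Or.inl ⟨fun g hg => hex ⟨g, hg⟩, ?_⟩
    by_contra hcyc
    obtain ⟨E, -, hE, hEcard⟩ := PLemmas.exists_normal_elemAbelian_sq hp P.isPGroup' hcyc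
    obtain ⟨Pg, hPg⟩ := (P.isPGroup'.map L.subtype).exists_le_sylow
    obtain ⟨a, ha⟩ := exists_conj_mem hx hiso Pg
    have hcen := commute_of_isPGroup (isolated_conj hiso a) Pg.isPGroup' ha
    have hE1 : E ≠ ⊥ := fun h => by
      rw [h, card_bot] at hEcard
      exact (Nat.one_lt_pow two_ne_zero (Fact.out : p.Prime).one_lt).ne hEcard
    obtain ⟨e, he, he1⟩ := (E.bot_or_exists_ne_one).resolve_left hE1
    obtain ⟨f, hf, hfe⟩ : ∃ f ∈ E, f ∉ zpowers e := by
      by_contra hc
      simp only [not_exists, not_and, not_not] at hc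
      have h1 := Subgroup.card_le_of_le (show E ≤ zpowers e from hc)
      rw [hEcard, Nat.card_zpowers] at h1
      have h2 := Nat.le_of_dvd (Fact.out : p.Prime).pos (orderOf_dvd_of_pow_eq_one (hE.2 e he))
      have := (Fact.out : p.Prime).one_lt
      nlinarith
    set ι : (P : Subgroup L) →* G := L.subtype.comp (P : Subgroup L).subtype with hι
    have hinj : Function.Injective ι := L.subtype_injective.comp (subtype_injective _)
    have hmem : ∀ u : (P : Subgroup L), ι u ∈ (Pg : Subgroup G) := fun u =>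
      hPg (mem_map_of_mem _ u.2)
    have hyp : (a * x * a⁻¹) ^ p = 1 := by
      rw [conj_pow, ← hx, pow_orderOf_eq_one, mul_one, mul_inv_cancel]
    obtain ⟨i, j, hij⟩ := exists_pow_mul_pow hrank (a := ι e) (b := ι f) (e := a * x * a⁻¹)
      (by rw [← map_pow, hE.2 e he, map_one]) (by rw [← map_pow, hE.2 f hf, map_one]) hyp
      ((show Commute e f from congrArg Subtype.val (hE.1.is_comm.comm ⟨e, he⟩ ⟨f, hf⟩)).map ι)
      (hcen _ (hmem e)).symm (hcen _ (hmem f)).symm
      (fun h => he1 (hinj (h.trans (map_one ι).symm)))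
      (fun h => hfe (by
        obtain ⟨k, hk⟩ := h
        exact ⟨k, hinj (by rw [map_zpow]; exact hk)⟩))
    refine hex ⟨a, ?_⟩
    rw [hij, ← map_zpow, ← map_zpow, ← map_mul]
    exact mem_map_of_mem _ (e ^ i * f ^ j).2


/-- Let G be a finite group and p an odd prime with O_{p'}(G) = 1. Suppose that G has p-rank at most 2 and that some element x of order p is isolated in G and not central. Then F*(G) is a non-abelian simple group, and for every Sylow p-subgroup P of F*(G), either no conjugate of x lies in P and P is cyclic, or some conjugate of x lies in P and either P is extraspecial of order p³ and exponent p, or p = 3 and P has order 3^{2k+1} for some k ≥ 2 and is of maximal class (nilpotency class 2k). Since O_{p'}(G) = 1, such an x is not central modulo O_{p'}(G): the hypotheses describe a counterexample to the Z*_p statement in p-rank at most 2, and the conclusion records the structure it would have. -/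
theorem result {G : Type*} [Group G] [Finite G] {p : ℕ} [Fact p.Prime] (hp : p ≠ 2) (hcore : Cfsg.pPrimeCore p G = ⊥)
    (hrank : Cfsg.PRankLE p 2 G) (x : G) (hx : orderOf x = p) (hiso : Cfsg.IsIsolated x) (hnc : x ∉ Subgroup.center G) :
    IsSimpleGroup ↥(Cfsg.generalizedFittingSubgroup G) ∧ ¬ IsMulCommutative ↥(Cfsg.generalizedFittingSubgroup G) ∧
    ∀ P : Sylow p ↥(Cfsg.generalizedFittingSubgroup G),
      ((∀ g : G, g * x * g⁻¹ ∉ ((P : Subgroup ↥(Cfsg.generalizedFittingSubgroup G)).map (Cfsg.generalizedFittingSubgroup G).subtype)) ∧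
          IsCyclic ↥(P : Subgroup ↥(Cfsg.generalizedFittingSubgroup G))) ∨
      ((∃ g : G, g * x * g⁻¹ ∈ ((P : Subgroup ↥(Cfsg.generalizedFittingSubgroup G)).map (Cfsg.generalizedFittingSubgroup G).subtype)) ∧
        ((Cfsg.IsExtraspecial p ↥(P : Subgroup ↥(Cfsg.generalizedFittingSubgroup G)) ∧
            Nat.card (P : Subgroup ↥(Cfsg.generalizedFittingSubgroup G)) = p ^ 3 ∧
            ∀ y ∈ (P : Subgroup ↥(Cfsg.generalizedFittingSubgroup G)), y ^ p = 1) ∨
         (p = 3 ∧ ∃ k : ℕ, 2 ≤ k ∧ Nat.card (P : Subgroup ↥(Cfsg.generalizedFittingSubgroup G)) = 3 ^ (2 * k + 1) ∧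
            ∃ _ : Group.IsNilpotent ↥(P : Subgroup ↥(Cfsg.generalizedFittingSubgroup G)),
              Group.nilpotencyClass ↥(P : Subgroup ↥(Cfsg.generalizedFittingSubgroup G)) = 2 * k))) := by
  obtain ⟨hsimple, hnab⟩ := Cfsg.Agent.Lib.IsolatedOdd.generalizedFitting_simple hp hcore hrank x hx hiso hnc
  refine ⟨hsimple, hnab, fun P => ?_⟩
  exact main hp hrank x hx hiso _ hsimple hnab
    Cfsg.Agent.Lib.Components.generalizedFittingSubgroup_normal P

end Cfsg.Agent.S3038
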