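import Cfsg.Statements.S3040
import Cfsg.Agent.Lib.FpfSymThree.Perm
import Cfsg.Agent.Lib.S3040Fpf54.Main

set_option autoImplicit false
open Cfsg

namespace Cfsg.Agent.S3040

open Cfsg.Agent.Lib in
theorem order_three_cases : ∀ a : Equiv.Perm (Fin 3), a * (a * a) = 1 → a ≠ 1 →
    FpfSymThree.flip 0 * a = a * a * FpfSymThree.flip 0 ∧
      (a = FpfSymThree.rot ∨ a * a = FpfSymThree.rot) := by
  decide +kernel

/-- Let G be a finite group of even order coprime to 3, and let Σ be a group of automorphisms of G isomorphic to the symmetric group of degree 3 that is fixed-point-free (only the identity of G is fixed by every element of Σ). Then G is solvable, O_{2′,2}(G) (the preimage in G of O₂(G/O(G))) has odd index in G, and G = O_{2′,2}(G) C_G(σ) for every element σ of Σ of order 3; that is, O₂(G/O(G)) is a Sylow 2-subgroup of G/O(G) and G/O(G) = O₂(G/O(G)) C_{G/O(G)}(σ). -/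
theorem result {G : Type*} [Group G] [Finite G] (heven : 2 ∣ Nat.card G) (h3 : ¬ 3 ∣ Nat.card G)
    (Sig : Subgroup (MulAut G)) (hS3 : Nonempty (↥Sig ≃* Equiv.Perm (Fin 3))) (hfpf : ∀ g : G, (∀ σ ∈ Sig, σ g = g) → g = 1) :
    Group.IsSolvable G ∧ ¬ 2 ∣ (Cfsg.pPrimePCore 2 G).index ∧ ∀ σ ∈ Sig, orderOf σ = 3 →
      Cfsg.pPrimePCore 2 G ⊔ Subgroup.closure {g : G | σ g = g} = ⊤ := by
  classical
  obtain ⟨e⟩ := hS3
  have hmain : ∀ σ ∈ Sig, orderOf σ = 3 →
      ∃ τ : MulAut G, Cfsg.Agent.Lib.S3040Fpf54.Fpf G σ τ := by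
    intro σ hσ h
    let a : Equiv.Perm (Fin 3) := e ⟨σ, hσ⟩
    let f : Equiv.Perm (Fin 3) →* MulAut G := Sig.subtype.comp e.symm.toMonoidHom
    have hfa : f a = σ := by simp [f, a]
    have h3' : σ * (σ * σ) = 1 := by
      rw [← pow_three, ← h]; exact pow_orderOf_eq_one σ
    have hinj : Function.Injective f := Sig.subtype_injective.comp e.symm.injective
    have ha : a * (a * a) = 1 := hinj (by rw [map_mul, map_mul, map_one, hfa, h3'])
    have ha1 : a ≠ 1 := fun h1 => by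
      have : σ = 1 := by rw [← hfa, h1, map_one]
      rw [this, orderOf_one] at h
      omega
    obtain ⟨hrel, hrot⟩ := order_three_cases a ha ha1
    refine ⟨f (Cfsg.Agent.Lib.FpfSymThree.flip 0), ⟨fun x => ?_, fun x => ?_, fun x => ?_,
      fun x hx hy => ?_, h3⟩⟩
    · rw [← MulAut.mul_apply, ← MulAut.mul_apply, mul_assoc, h3', MulAut.one_apply]
    · rw [← MulAut.mul_apply, ← map_mul, Cfsg.Agent.Lib.FpfSymThree.flip_mul_self, map_one,
        MulAut.one_apply]
    · have := congrArg (fun p => f p x) hrel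
      simp only [map_mul, MulAut.mul_apply, hfa] at this
      exact this
    · refine hfpf x fun φ hφ => ?_
      let St : Subgroup (Equiv.Perm (Fin 3)) := (MulAction.stabilizer (MulAut G) x).comap f
      have haS : a ∈ St := by
        show f a • x = x
        rw [hfa]; exact hx
      have hrS : Cfsg.Agent.Lib.FpfSymThree.rot ∈ St := by
        rcases hrot with h1 | h1
        · exact h1 ▸ haS
        · exact h1 ▸ St.mul_mem haS haS
      have htop := Cfsg.Agent.Lib.FpfSymThree.eq_top_of_rot_flip (S := St) (i := 0) hrS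
        (show Cfsg.Agent.Lib.FpfSymThree.flip 0 ∈ St from hy)
      have hmem : e ⟨φ, hφ⟩ ∈ St := htop ▸ Subgroup.mem_top _
      have hval : f (e ⟨φ, hφ⟩) x = x := hmem
      simpa [f] using hval
  obtain ⟨τ₀, hf₀⟩ : ∃ τ, ∃ σ, Cfsg.Agent.Lib.S3040Fpf54.Fpf G σ τ := by
    let s₀ : Sig := e.symm Cfsg.Agent.Lib.FpfSymThree.rot
    have hord : orderOf (s₀ : MulAut G) = 3 := by
      rw [Subgroup.orderOf_coe, e.symm.orderOf_eq]
      exact orderOf_eq_prime (by rw [pow_three]; exact Cfsg.Agent.Lib.FpfSymThree.rot_cube)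
        Cfsg.Agent.Lib.FpfSymThree.rot_ne_one
    obtain ⟨τ, hτ⟩ := hmain _ s₀.2 hord
    exact ⟨τ, _, hτ⟩
  obtain ⟨σ₀, hf₀⟩ := hf₀
  refine ⟨Cfsg.Agent.Lib.S3040Fpf54.isSolvable hf₀,
    (Cfsg.Agent.Lib.S3040Fpf54.good hf₀).1, fun σ hσ h => ?_⟩
  obtain ⟨τ, hf⟩ := hmain σ hσ h
  refine top_le_iff.mp ((Cfsg.Agent.Lib.S3040Fpf54.good hf).2.ge.trans
    (sup_le_sup_left (fun x hx => Subgroup.subset_closure hx) _))

end Cfsg.Agent.S3040
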