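import Cfsg.Statements.S3043
import Mathlib
import Mathlib
import Cfsg.Agent.Lib.TICount.Small

set_option autoImplicit false
open Cfsg

namespace Cfsg.Agent.S3043

/-- Let M be a nontrivial subgroup of a finite group G meeting each of its other conjugates trivially, with N_G(M) = M · C_{N_G(M)}(z) for some involution z ∈ N_G(M), and with C_G(x) of odd order for every nontrivial x ∈ M. Then one of the following holds: M is normal in G; the number of involutions of G is at most |G : M|; G is isomorphic to PGL₂(F) or to PSL₂(F) for a finite field F with |F| = |M|, M is an elementary abelian p-group for the characteristic p of F, and |F| ≡ 1 (mod 4) in the PSL₂ case; G is isomorphic to PSL₂(F) with |F| = 2^e, e > 1, and M is cyclic of order 2^e + 1; or for some d ≥ 1, G has an elementary abelian normal subgroup of order 2^{2d} complemented by N_G(M), and N_G(M) is dihedral of order 2(2^d + 1). -/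
theorem result {G : Type*} [Group G] [Finite G] (M : Subgroup G) (hM1 : M ≠ ⊥)
    (hTI : ∀ g : G, M ⊓ M.map (MulAut.conj g).toMonoidHom ≠ ⊥ → M.map (MulAut.conj g).toMonoidHom = M)
    (z : G) (hz : orderOf z = 2) (hzN : z ∈ Subgroup.normalizer (M : Set G))
    (hfac : M ⊔ (Subgroup.normalizer (M : Set G) ⊓ Subgroup.centralizer ({z} : Set G)) = Subgroup.normalizer (M : Set G))
    (hodd : ∀ x ∈ M, x ≠ 1 → Odd (Nat.card ↥(Subgroup.centralizer ({x} : Set G)))) :
    M.Normal ∨
    Nat.card {g : G // orderOf g = 2} ≤ M.index ∨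
    (∃ (F : Type) (_ : Field F) (_ : Fintype F) (p : ℕ) (_ : Fact p.Prime) (_ : CharP F p), Fintype.card F = Nat.card M ∧ Cfsg.IsElementaryAbelian p M ∧
        (Nonempty (G ≃* (GL (Fin 2) F ⧸ Subgroup.center (GL (Fin 2) F))) ∨
         (Fintype.card F % 4 = 1 ∧ Nonempty (G ≃* Matrix.ProjectiveSpecialLinearGroup (Fin 2) F)))) ∨
    (∃ (F : Type) (_ : Field F) (_ : Fintype F) (e : ℕ), 1 < e ∧ Fintype.card F = 2 ^ e ∧ IsCyclic ↥M ∧ Nat.card M = 2 ^ e + 1 ∧
        Nonempty (G ≃* Matrix.ProjectiveSpecialLinearGroup (Fin 2) F)) ∨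
    (∃ (d : ℕ) (E : Subgroup G), 1 ≤ d ∧ E.Normal ∧ Cfsg.IsElementaryAbelian 2 E ∧ Nat.card E = 2 ^ (2 * d) ∧
        E ⊓ Subgroup.normalizer (M : Set G) = ⊥ ∧ E ⊔ Subgroup.normalizer (M : Set G) = ⊤ ∧
        Nonempty (↥(Subgroup.normalizer (M : Set G)) ≃* DihedralGroup (2 ^ d + 1))) := by
  have hz2 : z * z = 1 := by rw [← pow_two, ← hz, pow_orderOf_eq_one]
  have hz1 : z ≠ 1 := fun e => by simp [e] at hz
  have hT : Cfsg.Agent.Lib.TICount.Hyp M z :=
    { ne_bot := hM1
      ti := fun g x hx hx1 hgx => by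
        have hmem : g * x * g⁻¹ ∈ M ⊓ M.map (MulAut.conj g).toMonoidHom :=
          Subgroup.mem_inf.mpr ⟨hgx, ⟨x, hx, rfl⟩⟩
        have h := hTI g (fun e => hx1 (by
          rw [e, Subgroup.mem_bot, conj_eq_one_iff] at hmem; exact hmem))
        rw [Subgroup.mem_normalizer_iff]
        intro y
        refine ⟨fun hy => h ▸ Subgroup.mem_map_of_mem _ hy, fun hy => ?_⟩
        rw [← h] at hy
        obtain ⟨y', hy', he⟩ := hy
        obtain rfl : y' = y := mul_left_cancel (mul_right_cancel (show g * y' * g⁻¹ = g * y * g⁻¹ from he))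
        exact hy'
      zz := hz2
      z_ne := hz1
      z_mem := hzN
      fac := fun g hg => by
        have hg' : g ∈ ((M ⊔ (Subgroup.normalizer (M : Set G) ⊓ Subgroup.centralizer ({z} : Set G)) :
            Subgroup G) : Set G) := hfac.symm ▸ hg
        rw [Subgroup.coe_mul_of_right_le_normalizer_left M _ inf_le_left] at hg'
        obtain ⟨x, hx, k, hk, rfl⟩ := hg'
        obtain ⟨hk1, hk2⟩ := Subgroup.mem_inf.mp hk
        exact ⟨x, hx, k, hk1, Subgroup.mem_centralizer_singleton_iff.mp hk2, rfl⟩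
      no_inv := fun x hx hx1 a hax haa => by
        by_contra ha1
        have ho : orderOf a = 2 := orderOf_eq_prime (by rw [pow_two]; exact haa) ha1
        have h := Subgroup.orderOf_dvd_natCard _ (Subgroup.mem_centralizer_singleton_iff.mpr hax)
        rw [ho] at h
        exact Nat.not_even_iff_odd.mpr (hodd x hx hx1) (even_iff_two_dvd.mpr h) }
  by_cases hn : M.Normal
  · exact Or.inl hn
  rcases hT.card_le_or_full with hle | hF
  · exact Or.inr (Or.inl hle)
  rcases hT.card_centralizer_cases hF hn with hE | h2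
  · obtain ⟨F, iF, iFF, p, hp, hchar, hcard, hexp, h⟩ := hT.zassenhaus hF hn hE
    exact Or.inr (Or.inr (Or.inl ⟨F, iF, iFF, p, hp, hchar, hcard,
      ⟨⟨⟨fun a b => Subtype.ext (hT.comm a.2 b.2)⟩⟩, hexp⟩, h⟩))
  · rcases hT.small hF hn h2 with h | h
    · exact Or.inr (Or.inr (Or.inr (Or.inl h)))
    · exact Or.inr (Or.inr (Or.inr (Or.inr h)))

end Cfsg.Agent.S3043
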