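import Cfsg.Statements.S3044
import Cfsg.Agent.Lib.IsolatedPMinimal.Main

set_option autoImplicit false
open Cfsg

namespace Cfsg.Agent.S3044

/-- Let G be a finite group, p a prime, S a Sylow p-subgroup of G and P a p-minimal subgroup of G containing S (S is not normal in P and lies in exactly one maximal subgroup of P). Let L be the subgroup generated by N_G(S) and all p-minimal subgroups of G containing S other than P, and suppose P is isolated: O_p(L) is not contained in O_p(P). Put Y for the normal closure of O^p(P) in G. Then G = YL; P is again isolated in the subgroup YS (the subgroup L₀ generated by N_{YS}(S) and the p-minimal subgroups of YS containing S other than P has O_p(L₀) not contained in O_p(P)); and either Y = O^p(P), or p divides |Y/O_p(Y)|, Y/O_p(Y) is generated by its components (a central product of quasisimple groups), and S permutes these components transitively by conjugation. -/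
theorem result {G : Type*} [Group G] [Finite G] {p : ℕ} [Fact p.Prime] (S : Sylow p G) (P : Subgroup G) (hSP : (S : Subgroup G) ≤ P) (hPmin : Cfsg.IsPMinimal p ↥P)
    (L Y : Subgroup G)
    (hL : L = Subgroup.normalizer ((S : Subgroup G) : Set G) ⊔ ⨆ P' : {P' : Subgroup G // (S : Subgroup G) ≤ P' ∧ Cfsg.IsPMinimal p ↥P' ∧ P' ≠ P}, (P' : Subgroup G))
    (hiso : ¬ (Cfsg.pCore p ↥L).map L.subtype ≤ (Cfsg.pCore p ↥P).map P.subtype)
    (hY : Y = Subgroup.normalClosure (((Cfsg.pResidual p ↥P).map P.subtype : Subgroup G) : Set G)) :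
    Y ⊔ L = ⊤ ∧
    ¬ (Cfsg.pCore p ↥((Subgroup.normalizer ((S : Subgroup G) : Set G) ⊓ (Y ⊔ (S : Subgroup G))) ⊔
          ⨆ P' : {P' : Subgroup G // (S : Subgroup G) ≤ P' ∧ P' ≤ Y ⊔ (S : Subgroup G) ∧ Cfsg.IsPMinimal p ↥P' ∧ P' ≠ P}, (P' : Subgroup G))).map
        (Subgroup.subtype _) ≤ (Cfsg.pCore p ↥P).map P.subtype ∧
    ((Cfsg.pResidual p ↥P).map P.subtype = Y ∨
     ∃ _ : (Cfsg.pCore p ↥Y).Normal,
       p ∣ Nat.card (↥Y ⧸ Cfsg.pCore p ↥Y) ∧ Cfsg.layer (↥Y ⧸ Cfsg.pCore p ↥Y) = ⊤ ∧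
       ∀ K₁ K₂ : Subgroup (↥Y ⧸ Cfsg.pCore p ↥Y), Cfsg.IsComponent K₁ → Cfsg.IsComponent K₂ →
         ∃ s ∈ (S : Subgroup G), ((K₂.comap (QuotientGroup.mk' (Cfsg.pCore p ↥Y))).map Y.subtype) = (((K₁.comap (QuotientGroup.mk' (Cfsg.pCore p ↥Y))).map Y.subtype)).map (MulAut.conj s).toMonoidHom) := by
  have hI : Lib.IsolatedPMinimal.Isolated S P L := ⟨hSP, hPmin, hL, hiso⟩
  refine ⟨hY ▸ hI.normalClosure_sup_eq_top, ?_, ?_⟩
  · intro hle
    refine hiso (le_trans ?_ hle)
    refine Lib.CharP.le_pCoreOf (hI.core_le_S.trans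
      (le_sup_of_le_left (le_inf Subgroup.le_normalizer le_sup_right)))
      ((Lib.PSolvable.pCore_isPGroup).map _) (le_trans ?_ hI.le_normalizer_core)
    rw [hL]
    exact sup_le_sup inf_le_left
      (iSup_le fun P' => le_iSup_of_le ⟨P'.1, P'.2.1, P'.2.2.2.1, P'.2.2.2.2⟩ le_rfl)
  haveI : (Cfsg.pCore p G).Normal := by
    haveI := Lib.PSolvable.pCore_characteristic (G := G) (p := p)
    infer_instance
  haveI : Y.Normal := hY ▸ Subgroup.normalClosure_normal
  haveI hYc : (Cfsg.pCore p ↥Y).Normal := by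
    haveI := Lib.PSolvable.pCore_characteristic (G := ↥Y) (p := p)
    infer_instance
  set π := QuotientGroup.mk' (Cfsg.pCore p G) with hπ
  have hset := hI.setting
  set T := (Cfsg.pResidual p ↥P).map P.subtype with hT
  by_cases hF : T.map π ≤ Cfsg.fittingSubgroup (G ⧸ Cfsg.pCore p G)
  · exact Or.inl (hY.trans (hI.normalClosure_eq_of_fitting hF)).symm
  right
  have hYmap : Y.map π =
      Subgroup.normalClosure ((T.map π : Subgroup (G ⧸ Cfsg.pCore p G)) : Set _) := by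
    rw [hY, Subgroup.map_normalClosure _ _ (QuotientGroup.mk'_surjective _)]
    rfl
  let e := (Lib.IsolatedPMinimal.imageEquiv (p := p) Y).trans (MulEquiv.subgroupCongr hYmap)
  have he_mk : ∀ y : ↥Y, (e (QuotientGroup.mk' (Cfsg.pCore p ↥Y) y) : G ⧸ Cfsg.pCore p G) = π (y : G) :=
    fun y => rfl
  refine ⟨hYc, ?_, ?_, ?_⟩
  · rw [Nat.card_congr e.toEquiv]
    exact hset.dvd_card hF
  · rw [← Lib.Components.layer_map_equiv e.symm, hset.layer_normalClosure hF, ← MonoidHom.range_eq_map]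
    exact MonoidHom.range_eq_top_of_surjective _ e.symm.surjective
  intro K₁ K₂ h₁ h₂
  haveI hJn : (Subgroup.normalClosure ((T.map π : Subgroup (G ⧸ Cfsg.pCore p G)) : Set (G ⧸ Cfsg.pCore p G))).Normal :=
    Subgroup.normalClosure_normal
  let I : Subgroup (↥Y ⧸ Cfsg.pCore p ↥Y) → Subgroup (G ⧸ Cfsg.pCore p G) := fun K =>
    (K.map e.toMonoidHom).map (Subgroup.normalClosure ((T.map π : Subgroup (G ⧸ Cfsg.pCore p G)) : Set (G ⧸ Cfsg.pCore p G))).subtype
  have hc : ∀ K, Cfsg.IsComponent K → Cfsg.IsComponent (I K) := fun K hK =>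
    (Lib.Components.isComponent_map_subtype_iff hJn.isSubnormal _).2
      (Lib.Components.isComponent_map_equiv hK e)
  obtain ⟨s', hs', heq⟩ := hset.component_conj hF (hc K₁ h₁) (hc K₂ h₂)
    (Subgroup.map_subtype_le _) (Subgroup.map_subtype_le _)
  obtain ⟨s, hs, rfl⟩ := hs'
  refine ⟨s, hs, ?_⟩
  have hmem : ∀ (K : Subgroup (↥Y ⧸ Cfsg.pCore p ↥Y)) (g : G),
      g ∈ (K.comap (QuotientGroup.mk' (Cfsg.pCore p ↥Y))).map Y.subtype ↔ g ∈ Y ∧ π g ∈ I K := by
    intro K g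
    constructor
    · rintro ⟨y, hy, rfl⟩
      exact ⟨y.2, e (QuotientGroup.mk' _ y), Subgroup.mem_map_of_mem _ hy, he_mk y⟩
    · rintro ⟨hg, z, ⟨k, hk, rfl⟩, hz⟩
      refine ⟨⟨g, hg⟩, ?_, rfl⟩
      have : k = QuotientGroup.mk' _ (⟨g, hg⟩ : Y) := e.injective (Subtype.ext (hz.trans (he_mk ⟨g, hg⟩).symm))
      rw [SetLike.mem_coe, Subgroup.mem_comap, ← this]
      exact hk
  ext g
  rw [hmem]
  constructor
  · rintro ⟨hg, hgI⟩
    refine ⟨s⁻¹ * g * s, (hmem K₁ _).2 ⟨?_, ?_⟩, by simp [mul_assoc]⟩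
    · simpa using (inferInstance : Y.Normal).conj_mem g hg s⁻¹
    · show π (s⁻¹ * g * s) ∈ I K₁
      rw [heq] at hgI
      obtain ⟨z, hz, hzg⟩ := hgI
      have hzg' : π s * z * (π s)⁻¹ = π g := hzg
      have he : π (s⁻¹ * g * s) = z := by
        rw [map_mul, map_mul, map_inv, ← hzg']
        group
      rw [he]
      exact hz
  · rintro ⟨u, hu, rfl⟩
    obtain ⟨huY, huI⟩ := (hmem K₁ u).1 hu
    refine ⟨(inferInstance : Y.Normal).conj_mem u huY s, ?_⟩
    rw [heq]
    exact ⟨π u, huI, by show π s * π u * (π s)⁻¹ = π (s * u * s⁻¹); rw [map_mul, map_mul, map_inv]⟩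

end Cfsg.Agent.S3044
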