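import Cfsg.Statements.S3045
import Cfsg.Agent.Lib.IsolatedPMinimal.Main

set_option autoImplicit false
open Cfsg

namespace Cfsg.Agent.S3045

/-- Let G be a finite group, p a prime, S a Sylow p-subgroup of G and P a p-minimal subgroup of G containing S. Let L be the subgroup generated by N_G(S) and all p-minimal subgroups of G containing S other than P, and suppose O_p(L) is not contained in O_p(P). Put Y for the normal closure of O^p(P) in G. Then O^p(P) is contained in the preimage in G of F*(G/O_p(G)); and if Y is solvable, then Y = O^p(P) and Y/O_p(Y) is a t-group of nilpotency class at most 2 for some prime t ≠ p. -/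
theorem result {G : Type*} [Group G] [Finite G] {p : ℕ} [Fact p.Prime] (S : Sylow p G) (P : Subgroup G) (hSP : (S : Subgroup G) ≤ P) (hPmin : Cfsg.IsPMinimal p ↥P)
    (L Y : Subgroup G)
    (hL : L = Subgroup.normalizer ((S : Subgroup G) : Set G) ⊔ ⨆ P' : {P' : Subgroup G // (S : Subgroup G) ≤ P' ∧ Cfsg.IsPMinimal p ↥P' ∧ P' ≠ P}, (P' : Subgroup G))
    (hiso : ¬ (Cfsg.pCore p ↥L).map L.subtype ≤ (Cfsg.pCore p ↥P).map P.subtype)
    (hY : Y = Subgroup.normalClosure (((Cfsg.pResidual p ↥P).map P.subtype : Subgroup G) : Set G)) [hn : (Cfsg.pCore p G).Normal] :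
    (Cfsg.pResidual p ↥P).map P.subtype ≤ (Cfsg.generalizedFittingSubgroup (G ⧸ Cfsg.pCore p G)).comap (QuotientGroup.mk' (Cfsg.pCore p G)) ∧
    (Group.IsSolvable ↥Y → (Cfsg.pResidual p ↥P).map P.subtype = Y ∧
       ∃ _ : (Cfsg.pCore p ↥Y).Normal, ∃ t : ℕ, t.Prime ∧ t ≠ p ∧ IsPGroup t (↥Y ⧸ Cfsg.pCore p ↥Y) ∧
         ∃ _ : Group.IsNilpotent (↥Y ⧸ Cfsg.pCore p ↥Y), Group.nilpotencyClass (↥Y ⧸ Cfsg.pCore p ↥Y) ≤ 2) := by
  have hI : Lib.IsolatedPMinimal.Isolated S P L := ⟨hSP, hPmin, hL, hiso⟩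
  refine ⟨hI.residual_le_gfs, fun hsol => ?_⟩
  set π := QuotientGroup.mk' (Cfsg.pCore p G) with hπ
  have hset := hI.setting
  set T := (Cfsg.pResidual p ↥P).map P.subtype with hT
  have hYmap : Y.map π = Subgroup.normalClosure ((T.map π : Subgroup (G ⧸ Cfsg.pCore p G)) : Set _) := by
    rw [hY, Subgroup.map_normalClosure _ _ (QuotientGroup.mk'_surjective _)]
    rfl
  have hF : T.map π ≤ Cfsg.fittingSubgroup (G ⧸ Cfsg.pCore p G) := by
    by_contra hF
    obtain ⟨K, hK, hA⟩ := hset.exists_not_le_centralizer hF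
    have hKJ : K ≤ Y.map π := by
      rw [hYmap, hset.normalClosure_eq hF hK hA]
      exact Lib.Components.le_orbitJoin _ K
    exact Lib.Components.quasisimple_not_isSolvable hK.2
      (Lib.Components.isSolvable_subgroup_mono hKJ (Lib.Components.isSolvable_subgroup_map hsol π))
  have hYT : Y = T := hY.trans (hI.normalClosure_eq_of_fitting hF)
  obtain ⟨-, t, ht, htp, hTt, hclass⟩ := hset.fitting_case hF
  haveI : Y.Normal := hY ▸ Subgroup.normalClosure_normal
  haveI hYc : (Cfsg.pCore p ↥Y).Normal := by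
    haveI := Lib.PSolvable.pCore_characteristic (G := ↥Y) (p := p)
    infer_instance
  let e := (Lib.IsolatedPMinimal.imageEquiv (p := p) Y).trans
    (MulEquiv.subgroupCongr (show Y.map π = T.map π by rw [hYT]))
  have hQt : IsPGroup t (↥Y ⧸ Cfsg.pCore p ↥Y) := IsPGroup.of_equiv hTt e.symm
  haveI := Fact.mk ht
  haveI hTnil : Group.IsNilpotent ↥(T.map π) := hTt.isNilpotent
  refine ⟨hYT.symm, hYc, t, ht, htp, hQt, hQt.isNilpotent, ?_⟩
  refine (Group.nilpotencyClass_le_of_surjective e.symm.toMonoidHom e.symm.surjective).trans ?_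
  rw [← Subgroup.lowerCentralSeries_eq_bot_iff_nilpotencyClass_le]
  refine (Subgroup.map_eq_bot_iff_of_injective _ (T.map π).subtype_injective).1 ?_
  rw [Subgroup.top_subtype_lowerCentralSeries, Subgroup.lowerCentralSeries_succ,
    Subgroup.lowerCentralSeries_succ, Subgroup.lowerCentralSeries_zero]
  exact hclass

end Cfsg.Agent.S3045
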