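import Cfsg.Statements.S3047
import Cfsg.Agent.Lib.IsolatedRankOne.Main
import Cfsg.Agent.Lib.IsolatedRankOne.SU
import Cfsg.Agent.Lib.PSolvable.Core
import Cfsg.Agent.Lib.Transfer.PResidual

set_option autoImplicit false
open Cfsg Cfsg.Agent.Lib Cfsg.Agent.Lib.IsolatedRankOne

namespace Cfsg.Agent.S3047

/-- Let p ≥ 5 be a prime, G a finite group all of whose composition factors are known simple groups, S a Sylow p-subgroup and P a p-minimal subgroup of G containing S such that O^p(P/O_p(P)) is isomorphic to SL₂(pᵃ), PSL₂(pᵃ), SU₃(pᵃ) or PSU₃(pᵃ) for some a ≥ 1. Let L be the subgroup generated by N_G(S) and the p-minimal subgroups of G containing S other than P. Then either O^p(P) is normal in G, or every p-element of the centre of L lies in O_p(P). -/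
theorem result {G : Type*} [Group G] [Finite G] {p : ℕ} [Fact p.Prime] (hp : 5 ≤ p) (hK : Cfsg.IsCompositionKGroup G)
    (S : Sylow p G) (P : Subgroup G) (hSP : (S : Subgroup G) ≤ P) (hPmin : Cfsg.IsPMinimal p ↥P) [hn : (Cfsg.pCore p ↥P).Normal]
    (hrk1 : ∃ (F : Type) (_ : Field F) (_ : Fintype F) (a : ℕ), 1 ≤ a ∧
      ((Fintype.card F = p ^ a ∧ (Nonempty (↥(Cfsg.pResidual p (↥P ⧸ Cfsg.pCore p ↥P)) ≃* Matrix.SpecialLinearGroup (Fin 2) F) ∨
                                  Nonempty (↥(Cfsg.pResidual p (↥P ⧸ Cfsg.pCore p ↥P)) ≃* Matrix.ProjectiveSpecialLinearGroup (Fin 2) F))) ∨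
       (Fintype.card F = p ^ (2 * a) ∧ (Nonempty (↥(Cfsg.pResidual p (↥P ⧸ Cfsg.pCore p ↥P)) ≃* ↥(Cfsg.SU 3 F (p ^ a))) ∨
                                        Nonempty (↥(Cfsg.pResidual p (↥P ⧸ Cfsg.pCore p ↥P)) ≃* Cfsg.PSU 3 F (p ^ a))))))
    (L : Subgroup G)
    (hL : L = Subgroup.normalizer ((S : Subgroup G) : Set G) ⊔ ⨆ P' : {P' : Subgroup G // (S : Subgroup G) ≤ P' ∧ Cfsg.IsPMinimal p ↥P' ∧ P' ≠ P}, (P' : Subgroup G)) :
    ((Cfsg.pResidual p ↥P).map P.subtype).Normal ∨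
    ∀ z ∈ L ⊓ Subgroup.centralizer (L : Set G), (∃ k : ℕ, orderOf z = p ^ k) → z ∈ (Cfsg.pCore p ↥P).map P.subtype := by
  classical
  right
  rintro z ⟨hzL, hzC⟩ ⟨k, hzk⟩
  have hzcomm : ∀ l ∈ L, l * z = z * l := fun l hl => Subgroup.mem_centralizer_iff.1 hzC l hl
  have hNL : ∀ g ∈ Subgroup.normalizer ((S : Subgroup G) : Set G), g ∈ L := fun g hg => by
    rw [hL]; exact Subgroup.mem_sup_left hg
  -- `z` lies in `S`
  have hzpow : z ^ p ^ k = 1 := by rw [← hzk]; exact pow_orderOf_eq_one z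
  have hzN : z ∈ Subgroup.normalizer ((S : Subgroup G) : Set G) := by
    refine Subgroup.mem_normalizer_iff.2 fun s => ?_
    have key : ∀ s ∈ (S : Subgroup G), z * s * z⁻¹ = s := fun s hs => by
      rw [← hzcomm s (hNL s (Subgroup.le_normalizer hs)), mul_inv_cancel_right]
    refine ⟨fun hs => (key s hs).symm ▸ hs, fun hs => ?_⟩
    have := key _ hs
    have h' : z * s * z⁻¹ = s := by
      have h2 : z * (z * s * z⁻¹) * z⁻¹ = z * s * z⁻¹ := this
      exact mul_left_cancel (mul_right_cancel h2)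
    exact h' ▸ hs
  have hzS : z ∈ (S : Subgroup G) :=
    mem_of_smul_eq S hzpow (Sylow.smul_eq_iff_mem_normalizer.2 hzN)
  -- the quotient
  set Q : Subgroup ↥P := Cfsg.pCore p ↥P with hQ
  let SP : Sylow p ↥P := S.subtype hSP
  have hSPmem : ∀ y : ↥P, y ∈ SP ↔ (y : G) ∈ (S : Subgroup G) := fun y => Iff.rfl
  have hQS : Q ≤ (SP : Subgroup ↥P) := PSolvable.pCore_le_sylow SP
  let T : Sylow p (↥P ⧸ Q) := Sylow.mapSurjective (QuotientGroup.mk'_surjective Q) SP
  have hT : ∀ y : ↥P, QuotientGroup.mk' Q y ∈ T ↔ (y : G) ∈ (S : Subgroup G) := fun y => by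
    refine ⟨fun hy => ?_, fun hy => ⟨y, hy, rfl⟩⟩
    obtain ⟨x, hx, hxy⟩ := hy
    have hd : x⁻¹ * y ∈ Q := QuotientGroup.eq.1 hxy
    have := Subgroup.mul_mem _ hx (hQS hd)
    rw [mul_inv_cancel_left] at this
    exact this
  have hcomm : ∀ n ∈ Subgroup.normalizer (T : Set (↥P ⧸ Q)),
      QuotientGroup.mk' Q ⟨z, hSP hzS⟩ * n = n * QuotientGroup.mk' Q ⟨z, hSP hzS⟩ := by
    intro n hn'
    obtain ⟨g, rfl⟩ := QuotientGroup.mk'_surjective Q n
    have hg : (g : G) ∈ Subgroup.normalizer ((S : Subgroup G) : Set G) := by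
      refine Subgroup.mem_normalizer_iff.2 fun y => ⟨fun hy => ?_, fun hy => ?_⟩
      · have := (Subgroup.mem_normalizer_iff.1 hn' (QuotientGroup.mk' Q ⟨y, hSP hy⟩)).1 ((hT _).2 hy)
        rw [← map_inv, ← map_mul, ← map_mul] at this
        exact (hT _).1 this
      · have hyP : y ∈ P := by
          have := Subgroup.mul_mem _ (Subgroup.mul_mem _ (P.inv_mem g.2) (hSP hy)) g.2
          rwa [show (g : G)⁻¹ * ((g : G) * y * (g : G)⁻¹) * (g : G) = y by group] at this
        have := (Subgroup.mem_normalizer_iff.1 hn' (QuotientGroup.mk' Q ⟨y, hyP⟩)).2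
          (by rw [← map_inv, ← map_mul, ← map_mul]; exact (hT _).2 hy)
        exact (hT _).1 this
    rw [← map_mul, ← map_mul]
    exact congrArg _ (Subtype.ext (hzcomm _ (hNL _ hg)).symm)
  -- the rank one configuration
  have hgood : Good p ↥(Cfsg.pResidual p (↥P ⧸ Q)) := by
    have tr : ∀ {M : Type} [Group M] [Finite M], Good p M →
        Nonempty (↥(Cfsg.pResidual p (↥P ⧸ Q)) ≃* M) → Good p ↥(Cfsg.pResidual p (↥P ⧸ Q)) := by
      intro M _ _ hM ⟨e⟩
      exact hM.map e.symm.toMonoidHom e.symm.surjective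
        (by rw [(MonoidHom.ker_eq_bot_iff _).2 e.symm.injective]; exact bot_le)
    obtain ⟨F, _, _, a, ha, ⟨hF, he⟩ | ⟨hF, he⟩⟩ := hrk1
    · haveI : CharP F p := charP_of_card_eq_prime_pow hF
      have hSL := good_SL (F := F) hp
      exact he.elim (tr hSL) (tr (hSL.map _ (QuotientGroup.mk'_surjective _)
        (QuotientGroup.ker_mk' _).le))
    · haveI : CharP F p := charP_of_card_eq_prime_pow hF
      have hSU := good_SU (F := F) (q := p ^ a) (by rw [hF]; ring) (by omega : a ≠ 0) rfl hp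
      exact he.elim (tr hSU) (tr (hSU.map _ (QuotientGroup.mk'_surjective _)
        (QuotientGroup.ker_mk' _).le))
  have h1 := IsolatedRankOne.eq_one (R := Cfsg.pResidual p (↥P ⧸ Q)) Transfer.isPGroup_quotient_pResidual hgood
    PSolvable.pCore_quotient_eq_bot T ((hT ⟨z, hSP hzS⟩).2 hzS) hcomm
  exact ⟨⟨z, hSP hzS⟩, (QuotientGroup.eq_one_iff _).1 h1, rfl⟩

end Cfsg.Agent.S3047
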