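import Cfsg.Statements.S3048
import Cfsg.Agent.Lib.SidkiMinimal.Structure
import Cfsg.Agent.Lib.CharSimple.Basic

set_option autoImplicit false
universe u
open Cfsg

namespace Cfsg.Agent.S3048

/-- Minimal counterexample reduction for the Sidki pair problem. Let G be a finite group and V a nontrivial elementary abelian 2-subgroup satisfying the Sidki pair condition with V ∩ O₂(G) = 1. Suppose that for every finite group H of smaller order, every nontrivial elementary abelian 2-subgroup W of H satisfying the Sidki pair condition meets O₂(H) nontrivially, and that the same holds in G for every such subgroup W of order smaller than that of V. Then the generalized Fitting subgroup F*(G) is a non-abelian simple group and G = V F*(G). -/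
theorem result {G : Type u} [Group G] [Finite G] (V : Subgroup G) (hV : Cfsg.IsElementaryAbelian 2 V) (hV1 : V ≠ ⊥) (hS : Cfsg.IsSidkiPair V) (hVO : V ⊓ Cfsg.pCore 2 G = ⊥) (hminG : ∀ (H : Type u) [Group H] [Finite H] (W : Subgroup H), Nat.card H < Nat.card G → Cfsg.IsElementaryAbelian 2 W → W ≠ ⊥ → Cfsg.IsSidkiPair W → W ⊓ Cfsg.pCore 2 H ≠ ⊥) (hminV : ∀ W : Subgroup G, Nat.card W < Nat.card V → Cfsg.IsElementaryAbelian 2 W → W ≠ ⊥ → Cfsg.IsSidkiPair W → W ⊓ Cfsg.pCore 2 G ≠ ⊥) : IsSimpleGroup ↥(Cfsg.generalizedFittingSubgroup G) ∧ ¬ IsMulCommutative ↥(Cfsg.generalizedFittingSubgroup G) ∧ V ⊔ Cfsg.generalizedFittingSubgroup G = ⊤ := by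
  have P : Cfsg.Agent.Lib.SidkiMinimal.Hyp V := ⟨hV, hV1, hS, hVO, hminG, hminV⟩
  obtain ⟨N, hN, hsimp, hnc, hVN, hC⟩ := P.exists_simple
  have hq : Cfsg.IsQuasisimple N := by
    have := hsimp
    refine ⟨⟨?_⟩, ?_⟩
    · refine (IsSimpleGroup.eq_bot_or_eq_top_of_normal (commutator N) inferInstance).resolve_left
        fun h => hnc ⟨⟨fun a b => ?_⟩⟩
      rw [← commutatorElement_eq_one_iff_mul_comm, ← Subgroup.mem_bot, ← h]
      exact Subgroup.commutator_mem_commutator (Subgroup.mem_top a) (Subgroup.mem_top b)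
    · have hZ : Subgroup.center N = ⊥ :=
        Cfsg.Agent.Lib.CharSimple.center_eq_bot hnc
      exact (MulEquiv.isSimpleGroup_congr ((QuotientGroup.quotientMulEquivOfEq hZ).trans
        QuotientGroup.quotientBot)).mpr hsimp
  have hcomp : Cfsg.IsComponent N := ⟨hN.isSubnormal, hq⟩
  have hN1 : N ≠ ⊥ := Cfsg.Agent.Lib.Components.isComponent_ne_bot hcomp
  have hlayer : Cfsg.layer G = N := by
    refine le_antisymm (sSup_le fun L hL => ?_) (le_sSup hcomp)
    rcases Cfsg.Agent.Lib.Components.isComponent_le_or_commutator_eq_bot hL hN.isSubnormal with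
      h | h
    · exact h
    · exact absurd (le_bot_iff.mp (hC ▸ Subgroup.commutator_eq_bot_iff_le_centralizer.mp h))
        (Cfsg.Agent.Lib.Components.isComponent_ne_bot hL)
  have hfit : Cfsg.fittingSubgroup G = ⊥ := by
    have hFn : (Cfsg.fittingSubgroup G).Normal := Cfsg.Agent.Lib.Components.fittingSubgroup_normal
    have hsol : Group.IsSolvable (Cfsg.fittingSubgroup G) :=
      Cfsg.Agent.Lib.Components.fittingSubgroup_isSolvable
    rw [eq_bot_iff, ← hC]
    rw [← Subgroup.commutator_eq_bot_iff_le_centralizer, Subgroup.commutator_comm]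
    exact Cfsg.Agent.Lib.Components.isComponent_commutator_solvable hcomp hsol
      (by rw [Subgroup.normalizer_eq_top]; exact le_top)
  have hF : Cfsg.generalizedFittingSubgroup G = N := by
    rw [Cfsg.generalizedFittingSubgroup, hlayer, hfit, sup_bot_eq]
  rw [hF]
  exact ⟨hsimp, hnc, hVN⟩

end Cfsg.Agent.S3048
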