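import Cfsg.Statements.S3053
import Mathlib
import Cfsg.Agent.Lib.PGroup.Extraspecial

set_option autoImplicit false
open Cfsg
open scoped commutatorElement Pointwise

namespace Cfsg.Agent.S3053

/-- Let p be an odd prime and G a finite group with a Sylow p-subgroup P that is extraspecial of order p³ and exponent p². Then the centre of P is strongly closed in P with respect to G: a G-conjugate of an element of Z(P) that lies in P already lies in Z(P). In particular a nontrivial central element of P is conjugate in G to no noncentral element of P. -/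
theorem result {G : Type*} [Group G] [Finite G]
    {p : ℕ} [Fact p.Prime] (hp : p ≠ 2) (P : Sylow p G) (hE : Cfsg.IsExtraspecial p ↥P)
    (hcard : Nat.card P = p ^ 3) (hexp : Monoid.exponent ↥P = p ^ 2) :
    Cfsg.IsStronglyClosed ((Subgroup.center ↥P).map (P : Subgroup G).subtype) (P : Subgroup G) := by
  open Subgroup in
  classical
  have hp' : p.Prime := Fact.out
  obtain ⟨kp, hkp⟩ := hp'.odd_of_ne_two hp
  let Z : Subgroup G := (center ↥P).map (P : Subgroup G).subtype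
  have hZP : Z ≤ (P : Subgroup G) := map_subtype_le _
  have hZc : ∀ z ∈ Z, ∀ y ∈ (P : Subgroup G), y * z = z * y := by
    rintro _ ⟨z, hz, rfl⟩ y hy
    exact congrArg Subtype.val (mem_center_iff.1 hz ⟨y, hy⟩)
  have hZmem : ∀ z ∈ (P : Subgroup G), (∀ y ∈ (P : Subgroup G), y * z = z * y) → z ∈ Z :=
    fun z hz h => ⟨⟨z, hz⟩, mem_center_iff.2 fun y => Subtype.ext (h y y.2), rfl⟩
  have hZpow : ∀ z ∈ Z, z ^ p = 1 := by
    rintro _ ⟨z, hz, rfl⟩
    exact congrArg Subtype.val (Cfsg.Agent.Lib.Extraspecial.pow_eq_one_of_mem_center hE hz)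
  have hZgen : ∀ z ∈ Z, z ≠ 1 → ∀ w ∈ Z, ∃ i : ℤ, z ^ i = w := by
    rintro _ ⟨z, hz, rfl⟩ hz1 _ ⟨w, hw, rfl⟩
    have : w ∈ zpowers z := by
      rw [Cfsg.Agent.Lib.Extraspecial.zpowers_eq_center hE hz (fun e => hz1 (by rw [e]; rfl))]; exact hw
    obtain ⟨i, hi⟩ := mem_zpowers_iff.1 this
    exact ⟨i, by rw [← hi]; simp⟩
  have hZcomm : ∀ a ∈ (P : Subgroup G), ∀ b ∈ (P : Subgroup G), a * b * a⁻¹ * b⁻¹ ∈ Z :=
    fun a ha b hb => ⟨_, Cfsg.Agent.Lib.Extraspecial.commutator_mem_center hE ⟨a, ha⟩ ⟨b, hb⟩, by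
      simp [commutatorElement_def]⟩
  have hmulp : ∀ a ∈ (P : Subgroup G), ∀ b ∈ (P : Subgroup G),
      (a * b) ^ p = a ^ p * b ^ p := fun a ha b hb => by
    simpa using congrArg Subtype.val (Cfsg.Agent.Lib.Extraspecial.mul_pow_prime hE hp ⟨a, ha⟩ ⟨b, hb⟩)
  have hpZ : ∀ a ∈ (P : Subgroup G), a ^ p ∈ Z := fun a ha =>
    ⟨_, Cfsg.Agent.Lib.Extraspecial.pow_mem_center hE ⟨a, ha⟩, by simp⟩
  -- `E = Ω₁(P)`
  let E : Subgroup G :=
    { carrier := {x | x ∈ (P : Subgroup G) ∧ x ^ p = 1}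
      one_mem' := ⟨one_mem _, one_pow p⟩
      mul_mem' := fun {a b} ha hb => ⟨mul_mem ha.1 hb.1, by
        rw [hmulp a ha.1 b hb.1, ha.2, hb.2, one_mul]⟩
      inv_mem' := fun {a} ha => ⟨inv_mem ha.1, by rw [inv_pow, ha.2, inv_one]⟩ }
  have hEP : E ≤ (P : Subgroup G) := fun x hx => hx.1
  have hEcard : Nat.card E = p ^ 2 := by
    let φ : ↥P →* ↥P := MonoidHom.mk' (fun x => x ^ p) (fun a b => Cfsg.Agent.Lib.Extraspecial.mul_pow_prime hE hp a b)
    have hker : φ.ker.map (P : Subgroup G).subtype = E := by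
      ext x
      constructor
      · rintro ⟨y, hy, rfl⟩
        exact ⟨y.2, by simpa [φ] using congrArg Subtype.val (MonoidHom.mem_ker.1 hy)⟩
      · intro hx
        exact ⟨⟨x, hx.1⟩, MonoidHom.mem_ker.2 (Subtype.ext (by simpa [φ] using hx.2)), rfl⟩
    have hr : Nat.card φ.range = p := by
      have hd : Nat.card φ.range ∣ p := by
        refine (card_dvd_of_le (K := center ↥P) ?_).trans (dvd_of_eq (Cfsg.Agent.Lib.Extraspecial.card_center hE))
        rintro _ ⟨y, rfl⟩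
        exact Cfsg.Agent.Lib.Extraspecial.pow_mem_center hE y
      refine (hp'.eq_one_or_self_of_dvd _ hd).resolve_left fun h1 => ?_
      have hb := card_eq_one.1 h1
      have hd' : Monoid.exponent ↥P ∣ p := Monoid.exponent_dvd_of_forall_pow_eq_one fun x => by
        have : φ x ∈ φ.range := ⟨x, rfl⟩
        rw [hb, mem_bot] at this
        exact this
      rw [hexp] at hd'
      have := Nat.le_of_dvd hp'.pos hd'
      nlinarith [hp'.two_le]
    have hmul := card_mul_index φ.ker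
    rw [index_ker, hr, show Nat.card ↥P = p ^ 3 from hcard] at hmul
    rw [← hker, card_map_of_injective (P : Subgroup G).subtype_injective]
    exact Nat.eq_of_mul_eq_mul_right hp'.pos (hmul.trans (by ring))
  haveI : IsMulCommutative E := IsPGroup.isMulCommutative_of_card_eq_prime_sq hEcard
  have hEc : ∀ a ∈ E, ∀ b ∈ E, a * b = b * a := fun a ha b hb =>
    congrArg Subtype.val (IsMulCommutative.is_comm.comm (⟨a, ha⟩ : E) ⟨b, hb⟩)
  have hZE : Z ≤ E := fun z hz => ⟨hZP hz, hZpow z hz⟩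
  refine ⟨hZP, fun z hz g hgP => ?_⟩
  by_contra hxZ
  set x := g * z * g⁻¹ with hx_def
  change x ∉ Z at hxZ
  have hz1 : z ≠ 1 := fun e => hxZ (by rw [hx_def, e]; simp)
  have hxE : x ∈ E := ⟨hgP, by rw [hx_def, conj_pow, hZpow z hz]; group⟩
  -- the elements `a`
  have lift : ∀ y ∈ E, y ∉ Z → ∀ z' ∈ Z, ∃ a ∈ (P : Subgroup G), a * y * a⁻¹ = y * z' := by
    intro y hy hyZ z' hz'
    obtain ⟨w, hw, hwy⟩ : ∃ w ∈ (P : Subgroup G), w * y ≠ y * w := by
      by_contra h
      push Not at h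
      exact hyZ (hZmem y hy.1 h)
    have hcZ := hZcomm w hw y hy.1
    obtain ⟨i, hi⟩ := hZgen _ hcZ
      (fun e => hwy (by rwa [mul_inv_eq_one, mul_inv_eq_iff_eq_mul] at e)) z' hz'
    refine ⟨w ^ i, zpow_mem hw i, ?_⟩
    have hstep : ∀ n : ℤ, w ^ n * y * (w ^ n)⁻¹ = y * (w * y * w⁻¹ * y⁻¹) ^ n := by
      set c := w * y * w⁻¹ * y⁻¹ with hc
      have hcw : Commute w c := hZc c hcZ w hw
      have hcy : Commute y c := hZc c hcZ y hy.1
      have hwy' : w * y * w⁻¹ = y * c := by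
        rw [hcy.eq, hc]; group
      intro n
      induction n using Int.induction_on with
      | zero => simp
      | succ n ih =>
        calc w ^ ((n : ℤ) + 1) * y * (w ^ ((n : ℤ) + 1))⁻¹
            = w * (w ^ (n : ℤ) * y * (w ^ (n : ℤ))⁻¹) * w⁻¹ := by group
          _ = (w * y * w⁻¹) * (w * c ^ (n : ℤ) * w⁻¹) := by rw [ih]; group
          _ = y * c ^ ((n : ℤ) + 1) := by
            rw [hwy', (hcw.zpow_right _).eq, mul_inv_cancel_right, zpow_add, zpow_one,
              mul_assoc, ← (Commute.self_zpow c n).eq]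
      | pred n ih =>
        have hwy'' : w⁻¹ * y * w = y * c⁻¹ := by
          have h1 : y = w⁻¹ * (y * c) * w := by rw [← hwy']; group
          have h2 : w⁻¹ * c * w = c := by rw [mul_assoc, ← hcw.eq, inv_mul_cancel_left]
          calc w⁻¹ * y * w = (w⁻¹ * (y * c) * w) * (w⁻¹ * c * w)⁻¹ := by group
            _ = y * c⁻¹ := by rw [← h1, h2]
        calc w ^ (-(n : ℤ) - 1) * y * (w ^ (-(n : ℤ) - 1))⁻¹
            = w⁻¹ * (w ^ (-(n : ℤ)) * y * (w ^ (-(n : ℤ)))⁻¹) * w := by group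
          _ = (w⁻¹ * y * w) * (w⁻¹ * c ^ (-(n : ℤ)) * w) := by rw [ih]; group
          _ = y * c ^ (-(n : ℤ) - 1) := by
            rw [hwy'', (hcw.inv_left.zpow_right _).eq, inv_mul_cancel_right]; group
    rw [hstep, hi]
  -- move `E`
  let C : Subgroup G := centralizer {x}
  have hgC : ((g • P : Sylow p G) : Subgroup G) ≤ C := by
    rw [Sylow.coe_subgroup_smul]
    intro w hw
    rw [mem_pointwise_smul_iff_inv_smul_mem] at hw
    have hw' : g⁻¹ * w * g ∈ (P : Subgroup G) := by simpa [← map_inv] using hw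
    refine mem_centralizer_singleton_iff.2 ?_
    calc w * x = g * ((g⁻¹ * w * g) * z) * g⁻¹ := by rw [hx_def]; group
      _ = g * (z * (g⁻¹ * w * g)) * g⁻¹ := by rw [hZc z hz _ hw']
      _ = x * w := by rw [hx_def]; group
  have hEC : E ≤ C := fun e he => mem_centralizer_singleton_iff.2 (hEc e he x hxE)
  obtain ⟨R, hR⟩ := ((P.2.to_le hEP).comap_subtype (K := C)).exists_le_sylow
  obtain ⟨h, hh⟩ := MulAction.exists_smul_eq C ((g • P).subtype hgC) R
  obtain ⟨g', hg'z, hg'E⟩ : ∃ g' : G, g' * z * g'⁻¹ = x ∧ ∀ e ∈ E, g'⁻¹ * e * g' ∈ E := by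
    refine ⟨h * g, ?_, fun e he => ⟨?_, ?_⟩⟩
    · calc (h : G) * g * z * ((h : G) * g)⁻¹ = h * x * (h : G)⁻¹ := by rw [hx_def]; group
        _ = x := by rw [mem_centralizer_singleton_iff.1 h.2, mul_inv_cancel_right]
    · have he' : (⟨e, hEC he⟩ : C) ∈ (R : Subgroup C) := hR he
      rw [← hh, Sylow.smul_subtype, Sylow.coe_subtype, mem_subgroupOf] at he'
      have h2 : e ∈ ((((h : G) • g • P : Sylow p G)) : Subgroup G) := he'
      rw [← mul_smul, Sylow.coe_subgroup_smul, mem_pointwise_smul_iff_inv_smul_mem] at h2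
      simpa [← map_inv, mul_assoc] using h2
    · rw [show ((h : G) * g)⁻¹ * e * ((h : G) * g) = ((h : G) * g)⁻¹ * e * ((h : G) * g)⁻¹⁻¹ by
        group, conj_pow, he.2]
      group
  have hNfin : ∀ n : G, (∀ e ∈ E, n * e * n⁻¹ ∈ E) → ∀ e ∈ E, n⁻¹ * e * n ∈ E := by
    intro n hn e he
    have hinj : Function.Injective (fun e : E => (⟨n * e * n⁻¹, hn e e.2⟩ : E)) := fun a b hab => by
      have := congrArg Subtype.val hab
      exact Subtype.ext (by simpa using this)
    obtain ⟨d, hd⟩ := Finite.surjective_of_injective hinj ⟨e, he⟩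
    have hde : n * (d : G) * n⁻¹ = e := congrArg Subtype.val hd
    rw [← hde, show n⁻¹ * (n * (d : G) * n⁻¹) * n = d by group]
    exact d.2
  have hg'E' : ∀ e ∈ E, g' * e * g'⁻¹ ∈ E := fun e he => by
    simpa using hNfin g'⁻¹ (fun d hd => by simpa using hg'E d hd) e he
  let y := g'⁻¹ * z * g'
  have hyE : y ∈ E := hg'E z (hZE hz)
  have hyZ : y ∉ Z := by
    intro hy
    obtain ⟨i, hi⟩ := hZgen z hz hz1 y hy
    have : x ^ i = z := by
      rw [← hg'z, conj_zpow, hi]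
      show g' * (g'⁻¹ * z * g') * g'⁻¹ = z
      group
    have hxp : x ∈ zpowers z := by
      have hx1 : orderOf x = p := orderOf_eq_prime hxE.2 (fun e => hxZ (e ▸ one_mem Z))
      have hzord : orderOf z = p := orderOf_eq_prime (hZpow z hz) hz1
      have hle : zpowers z ≤ zpowers x := zpowers_le.2 ⟨i, this⟩
      rw [eq_of_le_of_card_ge hle (by rw [Nat.card_zpowers, Nat.card_zpowers, hx1, hzord])]
      exact mem_zpowers x
    exact hxZ (zpowers_le.2 hz hxp)
  obtain ⟨a, ha, hax⟩ := lift x hxE hxZ z hz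
  obtain ⟨a', ha', hay⟩ := lift y hyE hyZ z hz
  have haz : a * z * a⁻¹ = z := by rw [hZc z hz a ha, mul_inv_cancel_right]
  have ha'z : a' * z * a'⁻¹ = z := by rw [hZc z hz a' ha', mul_inv_cancel_right]
  let b := g' * a' * g'⁻¹
  have hbx : b * x * b⁻¹ = x := by
    calc b * x * b⁻¹ = g' * (a' * z * a'⁻¹) * g'⁻¹ := by rw [← hg'z]; simp only [b]; group
      _ = x := by rw [ha'z, hg'z]
  have hbz : b * z * b⁻¹ = z * x := by
    calc b * z * b⁻¹ = g' * (a' * y * a'⁻¹) * g'⁻¹ := by simp only [b, y]; group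
      _ = z * (g' * z * g'⁻¹) := by rw [hay]; simp only [y]; group
      _ = z * x := by rw [hg'z]
  have hPE : ∀ q ∈ (P : Subgroup G), ∀ e ∈ E, q * e * q⁻¹ ∈ E := fun q hq e he => by
    have : q * e * q⁻¹ = (q * e * q⁻¹ * e⁻¹) * e := by group
    rw [this]
    exact mul_mem (hZE (hZcomm q hq e he.1)) he
  have hbE : ∀ e ∈ E, b * e * b⁻¹ ∈ E := fun e he => by
    have : b * e * b⁻¹ = g' * (a' * (g'⁻¹ * e * g') * a'⁻¹) * g'⁻¹ := by simp only [b]; group
    rw [this]; exact hg'E' _ (hPE a' ha' _ (hg'E e he))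
  have hzx : z * x = x * z := hEc z (hZE hz) x hxE
  let w := a * b⁻¹ * a
  have hwz : w * z * w⁻¹ = x⁻¹ := by
    have hbz' : b⁻¹ * z * b = z * x⁻¹ := by
      have h1 : b⁻¹ * x * b = x := by nth_rewrite 1 [← hbx]; group
      calc b⁻¹ * z * b = b⁻¹ * (z * x) * b * (b⁻¹ * x * b)⁻¹ := by group
        _ = z * x⁻¹ := by rw [← hbz, h1]; group
    calc w * z * w⁻¹ = a * (b⁻¹ * (a * z * a⁻¹) * b) * a⁻¹ := by simp only [w]; group
      _ = (a * z * a⁻¹) * (a * x * a⁻¹)⁻¹ := by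
        rw [show b⁻¹ * (a * z * a⁻¹) * b = z * x⁻¹ by rw [haz]; exact hbz']; group
      _ = z * (x * z)⁻¹ := by rw [haz, hax]
      _ = x⁻¹ := by rw [mul_inv_rev]; group
  have hwx : w * x * w⁻¹ = z := by
    have h2 : b⁻¹ * (x * z) * b = z := by
      rw [← hzx, ← hbz]; group
    calc w * x * w⁻¹ = a * (b⁻¹ * (a * x * a⁻¹) * b) * a⁻¹ := by simp only [w]; group
      _ = a * z * a⁻¹ := by rw [hax, h2]
      _ = z := haz
  let n := w * w
  have hnz : n * z * n⁻¹ = z⁻¹ := by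
    calc n * z * n⁻¹ = w * (w * z * w⁻¹) * w⁻¹ := by simp only [n]; group
      _ = (w * x * w⁻¹)⁻¹ := by rw [hwz]; group
      _ = z⁻¹ := by rw [hwx]
  have hnx : n * x * n⁻¹ = x⁻¹ := by
    calc n * x * n⁻¹ = w * (w * x * w⁻¹) * w⁻¹ := by simp only [n]; group
      _ = x⁻¹ := by rw [hwx, hwz]
  have hgen : closure ({z, x} : Set G) = E := by
    have hle : closure ({z, x} : Set G) ≤ E := by
      rw [closure_le]
      rintro v (rfl | rfl)
      · exact hZE hz
      · exact hxE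
    refine eq_of_le_of_card_ge hle ?_
    have hd : Nat.card (closure ({z, x} : Set G)) ∣ p ^ 2 := hEcard ▸ card_dvd_of_le hle
    obtain ⟨j, hj, hjc⟩ := (Nat.dvd_prime_pow hp').1 hd
    rw [hEcard, hjc]
    refine Nat.pow_le_pow_right hp'.pos ?_
    by_contra hj2
    have hzc : zpowers z ≤ closure ({z, x} : Set G) := zpowers_le.2 (subset_closure (Or.inl rfl))
    have : zpowers z = closure ({z, x} : Set G) := by
      refine eq_of_le_of_card_ge hzc ?_
      rw [hjc, Nat.card_zpowers, orderOf_eq_prime (hZpow z hz) hz1]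
      calc p ^ j ≤ p ^ 1 := Nat.pow_le_pow_right hp'.pos (by omega)
        _ = p := pow_one p
    exact hxZ (zpowers_le.2 hz (this ▸ subset_closure (Or.inr rfl)))
  have hinv : ∀ e ∈ E, n * e * n⁻¹ = e⁻¹ := by
    intro e he
    rw [← hgen] at he
    induction he using closure_induction with
    | mem v hv =>
      rcases hv with hv | hv
      · subst hv; exact hnz
      · rw [Set.mem_singleton_iff] at hv; subst hv; exact hnx
    | one => group
    | mul u v hu hv ihu ihv =>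
      rw [hgen] at hu hv
      rw [← conj_mul, ihu, ihv, mul_inv_rev]
      exact hEc _ (inv_mem hu) _ (inv_mem hv)
    | inv u _ ihu => rw [← conj_inv, ihu]
  -- Frattini
  let CE : Subgroup G := centralizer (E : Set G)
  let K : Subgroup G := (P : Subgroup G) ⊔ CE
  have hPCE : (P : Subgroup G) ≤ normalizer (CE : Set G) := by
    intro q hq
    have key : ∀ q ∈ (P : Subgroup G), ∀ c ∈ CE, q * c * q⁻¹ ∈ CE := fun q hq c hc => by
      refine mem_centralizer_iff.2 fun e he => ?_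
      have h1 := (mem_centralizer_iff.1 hc) (q⁻¹ * e * q)
        (by simpa using hPE q⁻¹ (inv_mem hq) e he)
      calc e * (q * c * q⁻¹) = q * ((q⁻¹ * e * q) * c) * q⁻¹ := by group
        _ = q * (c * (q⁻¹ * e * q)) * q⁻¹ := by rw [h1]
        _ = q * c * q⁻¹ * e := by group
    rw [mem_normalizer_iff]
    refine fun c => ⟨key q hq c, fun hc => ?_⟩
    simpa [mul_assoc] using key q⁻¹ (inv_mem hq) _ hc
  have hnK : ((n • P : Sylow p G) : Subgroup G) ≤ K := by
    rw [Sylow.coe_subgroup_smul]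
    intro v hv
    rw [mem_pointwise_smul_iff_inv_smul_mem] at hv
    have hq : n⁻¹ * v * n ∈ (P : Subgroup G) := by simpa [← map_inv] using hv
    generalize hqe : n⁻¹ * v * n = q at hq
    have hv' : v = n * q * n⁻¹ := by rw [← hqe]; group
    have hc : q⁻¹ * v ∈ CE := by
      refine mem_centralizer_iff.2 fun e he => ?_
      rw [hv']
      have h1 : n⁻¹ * e * n = e⁻¹ := by
        conv_lhs => rw [show e = n * e⁻¹ * n⁻¹ by rw [hinv _ (inv_mem he), inv_inv]]
        group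
      have h3 := hPE q hq _ (inv_mem he)
      have h4 : n * (q * e⁻¹ * q⁻¹) * n⁻¹ = q * e * q⁻¹ := by rw [hinv _ h3]; group
      calc e * (q⁻¹ * (n * q * n⁻¹)) = q⁻¹ * (q * e * q⁻¹) * (n * q * n⁻¹) := by group
        _ = q⁻¹ * (n * (q * e⁻¹ * q⁻¹) * n⁻¹) * (n * q * n⁻¹) := by rw [h4]
        _ = q⁻¹ * (n * q * n⁻¹) * (n * e⁻¹ * n⁻¹) := by group
        _ = q⁻¹ * (n * q * n⁻¹) * e := by rw [hinv _ (inv_mem he), inv_inv]
    have hv2 : v = q * (q⁻¹ * v) := by group
    rw [hv2]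
    exact mul_mem (mem_sup_left hq) (mem_sup_right hc)
  obtain ⟨k, hk⟩ := MulAction.exists_smul_eq K ((n • P).subtype hnK) (P.subtype le_sup_left)
  obtain ⟨m, hmP, hm⟩ : ∃ m : G, (∀ q ∈ (P : Subgroup G), m * q * m⁻¹ ∈ (P : Subgroup G)) ∧
      ∀ e ∈ E, m * e * m⁻¹ = e⁻¹ := by
    have hkK : (k : G) ∈ ((P : Subgroup G) : Set G) * (CE : Set G) := by
      rw [← Subgroup.coe_mul_of_left_le_normalizer_right _ _ hPCE]; exact k.2
    obtain ⟨q, hq, c, hc, hqc⟩ := hkK
    rw [Sylow.smul_subtype] at hk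
    have hk' : ((k : G) * n) • P = P := by
      rw [mul_smul]; exact Sylow.subtype_injective hk
    have hN := Sylow.smul_eq_iff_mem_normalizer.1 hk'
    refine ⟨c * n, fun v hv => ?_, fun e he => ?_⟩
    · have h1 := (mem_normalizer_iff.1 hN v).1 hv
      have h2 : q⁻¹ * ((k : G) * n * v * ((k : G) * n)⁻¹) * q ∈ (P : Subgroup G) :=
        mul_mem (mul_mem (inv_mem hq) h1) hq
      have h3 : (k : G) = q * c := hqc.symm
      convert h2 using 1
      rw [h3]; group
    · calc c * n * e * (c * n)⁻¹ = c * (n * e * n⁻¹) * c⁻¹ := by group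
        _ = e⁻¹ := by
          rw [hinv e he, ← (mem_centralizer_iff.1 hc) _ (inv_mem he), mul_inv_cancel_right]
  have hae : m * a * m⁻¹ * a ∈ E := by
    refine ⟨mul_mem (hmP a ha) ha, ?_⟩
    rw [hmulp _ (hmP a ha) a ha, conj_pow, hm _ (hZE (hpZ a ha)), inv_mul_cancel]
  generalize hee : m * a * m⁻¹ * a = e at hae
  have hma : m * a * m⁻¹ = e * a⁻¹ := by rw [← hee]; group
  have hax' : a⁻¹ * x * a = x * z⁻¹ := by
    have h1 : a⁻¹ * z * a = z := by nth_rewrite 1 [← haz]; group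
    calc a⁻¹ * x * a = (a⁻¹ * (x * z) * a) * (a⁻¹ * z * a)⁻¹ := by group
      _ = x * z⁻¹ := by rw [← hax, h1]; group
  have key : z⁻¹ = z := by
    have hxz : x * z⁻¹ ∈ E := mul_mem hxE (inv_mem (hZE hz))
    have h1 : m * (a * x * a⁻¹) * m⁻¹ = (x * z)⁻¹ := by rw [hax]; exact hm _ (mul_mem hxE (hZE hz))
    have h2 : m * (a * x * a⁻¹) * m⁻¹ = (x * z⁻¹)⁻¹ := by
      calc m * (a * x * a⁻¹) * m⁻¹ = (m * a * m⁻¹) * (m * x * m⁻¹) * (m * a * m⁻¹)⁻¹ := by group
        _ = e * (a⁻¹ * x * a)⁻¹ * e⁻¹ := by rw [hma, hm x hxE]; group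
        _ = (x * z⁻¹)⁻¹ := by rw [hax', hEc e hae _ (inv_mem hxz), mul_inv_cancel_right]
    have := inv_injective (h1.symm.trans h2)
    exact (mul_left_cancel this).symm
  apply hz1
  have h2 : z ^ 2 = 1 := by
    rw [sq]; nth_rewrite 1 [← key]; exact inv_mul_cancel z
  have h3 := hZpow z hz
  rwa [hkp, pow_succ, pow_mul, h2, one_pow, one_mul] at h3

end Cfsg.Agent.S3053
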