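import Cfsg.Statements.S3054
import Cfsg.Agent.Lib.ExtraCubeRadical.Main
-- import your own Cfsg.Agent.* helpers here

set_option autoImplicit false
open Cfsg

namespace Cfsg.Agent.S3054

open scoped commutatorElement

theorem mul_mul_mul_comm_of {A : Type*} [Group A] (h : ∀ a b : A, a * b = b * a) (a b c d : A) :
    a * b * (c * d) = a * c * (b * d) := by
  rw [mul_assoc, ← mul_assoc b, h b c, mul_assoc c, ← mul_assoc]

/-- The transvection of an elementary abelian group of order `p ^ 2` on a given basis. -/
theorem exists_transvection {A : Type*} [Group A] [Finite A] {p : ℕ} [hp : Fact p.Prime]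
    (hcard : Nat.card A = p ^ 2) (hexp : ∀ a : A, a ^ p = 1) (x z : A) (hz1 : z ≠ 1)
    (hx : ∀ b : ℕ, x ≠ z ^ b) :
    ∃ φ : MulAut A, orderOf φ = p ∧ φ x = x ∧ φ z = z * x := by
  classical
  have hcomm : ∀ a b : A, a * b = b * a :=
    (IsPGroup.isMulCommutative_of_card_eq_prime_sq hcard).is_comm.comm
  let E : ZMod p × ZMod p → A := fun v => z ^ v.1.val * x ^ v.2.val
  have hEmul : ∀ v w, E (v + w) = E v * E w := fun v w => by
    simp only [E, Prod.fst_add, Prod.snd_add, Lib.ExtraCubeRadical.pow_val_add (hexp z),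
      Lib.ExtraCubeRadical.pow_val_add (hexp x)]
    exact mul_mul_mul_comm_of hcomm _ _ _ _
  have hEinj : Function.Injective E := by
    intro v w h
    have h0 : E (v - w) = 1 := by
      have := hEmul (v - w) w
      rw [sub_add_cancel, h] at this
      exact right_eq_mul.mp this
    rw [← sub_eq_zero]
    set u := v - w
    by_cases h2 : u.2 = 0
    · simp only [E, h2, ZMod.val_zero, pow_zero, mul_one] at h0
      refine Prod.ext ?_ h2
      exact Lib.ExtraCubeRadical.pow_val_inj (hexp z) hz1 (h0.trans (by simp))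
    · exfalso
      have e1 : x ^ u.2.val = z ^ (-u.1).val := by
        rw [Lib.ExtraCubeRadical.pow_val_neg (hexp z)]
        exact eq_inv_of_mul_eq_one_right h0
      refine hx ((-u.1).val * (u.2⁻¹).val) ?_
      rw [pow_mul, ← e1, ← pow_mul]
      conv_lhs => rw [← pow_one x]
      rw [pow_eq_pow_mod 1 (hexp x), pow_eq_pow_mod (u.2.val * _) (hexp x), ← ZMod.val_mul,
        mul_inv_cancel₀ h2, ZMod.val_one, Nat.mod_eq_of_lt hp.out.one_lt]
  have hEbij : Function.Bijective E := by
    haveI := Fintype.ofFinite A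
    refine (Fintype.bijective_iff_injective_and_card E).mpr ⟨hEinj, ?_⟩
    rw [← Nat.card_eq_fintype_card (α := A), hcard, Fintype.card_prod, ZMod.card, sq]
  let e := Equiv.ofBijective E hEbij
  have hsymm : ∀ a b, e.symm (a * b) = e.symm a + e.symm b := fun a b => hEinj (by
    rw [hEmul]
    show e (e.symm (a * b)) = e (e.symm a) * e (e.symm b)
    simp)
  let σ : ZMod p × ZMod p ≃+ ZMod p × ZMod p :=
    { toFun := fun v => (v.1, v.2 + v.1)
      invFun := fun v => (v.1, v.2 - v.1)
      left_inv := fun v => by simp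
      right_inv := fun v => by simp
      map_add' := fun v w => by ext <;> simp; abel }
  let φ : MulAut A :=
    { toEquiv := e.symm.trans (σ.toEquiv.trans e)
      map_mul' := fun a b => by
        show E (σ (e.symm (a * b))) = E (σ (e.symm a)) * E (σ (e.symm b))
        rw [hsymm, map_add, hEmul] }
  have hφ : ∀ v, φ (E v) = E (v.1, v.2 + v.1) := fun v => by
    show E (σ (e.symm (e v))) = _
    rw [Equiv.symm_apply_apply]
    rfl
  have hφk : ∀ (k : ℕ) v, (φ ^ k) (E v) = E (v.1, v.2 + k * v.1) := by
    intro k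
    induction k with
    | zero => intro v; simp
    | succ k ih =>
      intro v
      rw [pow_succ', MulAut.mul_apply, ih, hφ]
      congr 2
      push_cast
      ring
  have hx' : x = E (0, 1) := by
    simp only [E, ZMod.val_zero, ZMod.val_one, pow_zero, pow_one, one_mul]
  have hz' : z = E (1, 0) := by
    simp only [E, ZMod.val_zero, ZMod.val_one, pow_zero, pow_one, mul_one]
  have e1 : φ x = x := by
    conv_lhs => rw [hx', hφ]
    rw [hx']
    simp
  have e2 : φ z = z * x := by
    conv_lhs => rw [hz', hφ]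
    simp only [E, zero_add, ZMod.val_one, pow_one]
  refine ⟨φ, ?_, e1, e2⟩
  refine orderOf_eq_prime ?_ ?_
  · refine MulEquiv.ext fun a => ?_
    obtain ⟨v, rfl⟩ := hEbij.2 a
    rw [hφk, CharP.cast_eq_zero, zero_mul, add_zero]
    rfl
  · intro h1
    rw [h1, MulAut.one_apply] at e2
    exact hx 0 (by rw [pow_zero]; exact left_eq_mul.mp e2)


/-- Let p be an odd prime and G a finite group with a Sylow p-subgroup P that is extraspecial of order p³ and exponent p. Suppose P contains three distinct subgroups A of order p² (each is elementary abelian of rank 2) such that every automorphism of A of order p is induced by conjugation by an element of G; equivalently the automorphism group induced on A by its normalizer contains the special linear group of A. Then p ≤ 13. -/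
theorem result {G : Type*} [Group G] [Finite G]
    {p : ℕ} [Fact p.Prime] (hp : p ≠ 2) (P : Sylow p G) (hE : Cfsg.IsExtraspecial p ↥P)
    (hcard : Nat.card P = p ^ 3) (hexp : Monoid.exponent ↥P = p)
    (A : Fin 3 → Subgroup G) (hA : Function.Injective A) (hAP : ∀ i, A i ≤ (P : Subgroup G))
    (hAcard : ∀ i, Nat.card ↥(A i) = p ^ 2)
    (hSL : ∀ i, ∀ φ : MulAut ↥(A i), orderOf φ = p → ∃ g : G, ∀ a : ↥(A i), (φ a : G) = g * (a : G) * g⁻¹) :
    p ≤ 13 := by
  by_contra! hp13
  classical
  haveI : Nontrivial ↥(Subgroup.center ↥P) :=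
    Finite.one_lt_card_iff_nontrivial.mp (by rw [hE.2]; exact (Fact.out : p.Prime).one_lt)
  obtain ⟨⟨z, hz⟩, hz1'⟩ := exists_ne (1 : ↥(Subgroup.center ↥P))
  have hz1 : z ≠ 1 := fun h => hz1' (Subtype.ext h)
  have hA' : ∀ i, Nat.card ↥((A i).subgroupOf (P : Subgroup G)) = p ^ 2 := fun i => by
    rw [Nat.card_congr (Subgroup.subgroupOfEquivOfLe (hAP i)).toEquiv, hAcard]
  have hcommA : ∀ i, ∀ a ∈ (A i).subgroupOf (P : Subgroup G),
      ∀ b ∈ (A i).subgroupOf (P : Subgroup G), a * b = b * a := fun i a ha b hb =>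
    congrArg Subtype.val
      ((IsPGroup.isMulCommutative_of_card_eq_prime_sq (hA' i)).is_comm.comm ⟨a, ha⟩ ⟨b, hb⟩)
  have hlt : p < p ^ 2 := by
    have := (Fact.out : p.Prime).one_lt
    nlinarith
  have hzA : ∀ i, (z : G) ∈ A i := by
    intro i
    by_contra hni
    set B := (A i).subgroupOf (P : Subgroup G) ⊔ Subgroup.center ↥P with hB
    have hBtop : B = ⊤ := by
      refine Subgroup.eq_top_of_le_card _ ?_
      rw [hcard]
      obtain ⟨k, hk, hk'⟩ := (Nat.dvd_prime_pow (Fact.out : p.Prime)).mp
        (hcard ▸ Subgroup.card_subgroup_dvd_card B)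
      rw [hk']
      refine Nat.pow_le_pow_right (Fact.out : p.Prime).pos ?_
      by_contra hk3
      have hle : Nat.card ↥B ≤ p ^ 2 :=
        hk'.le.trans (Nat.pow_le_pow_right (Fact.out : p.Prime).pos (by omega))
      have heq : (A i).subgroupOf (P : Subgroup G) = B :=
        Subgroup.eq_of_le_of_card_ge le_sup_left (by rwa [hA'])
      have hzB : z ∈ B := Subgroup.mem_sup_right hz
      rw [← heq, Subgroup.mem_subgroupOf] at hzB
      exact hni hzB
    have hsub : (A i).subgroupOf (P : Subgroup G) ≤ Subgroup.center ↥P := by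
      intro a ha
      refine Subgroup.mem_center_iff.mpr fun b => ?_
      have hb : B ≤ Subgroup.centralizer {a} := sup_le
        (fun c hc => Subgroup.mem_centralizer_singleton_iff.mpr (hcommA i c hc a ha))
        (fun c hc => Subgroup.mem_centralizer_singleton_iff.mpr
          ((Subgroup.mem_center_iff.mp hc a).symm))
      exact Subgroup.mem_centralizer_singleton_iff.mp (hb (hBtop ▸ Subgroup.mem_top b))
    have : Nat.card ↥((A i).subgroupOf (P : Subgroup G)) ≤ p :=
      (Subgroup.card_le_of_le hsub).trans_eq hE.2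
    rw [hA'] at this
    omega
  have hex : ∀ i, ∃ x : ↥P, (x : G) ∈ A i ∧ x ∉ Subgroup.center ↥P := by
    intro i
    by_contra! h
    have := Subgroup.card_le_of_le
      (show (A i).subgroupOf (P : Subgroup G) ≤ Subgroup.center ↥P from fun a ha => h a ha)
    have h2 : Nat.card ↥((A i).subgroupOf (P : Subgroup G)) ≤ p := this.trans_eq hE.2
    rw [hA'] at h2
    omega
  choose x hxA hx using hex
  have hzp : ∀ a : ↥P, a ^ p = 1 := fun a => by
    have := Monoid.pow_exponent_eq_one a
    rwa [hexp] at this
  have hxz : ∀ i, ∀ b : ℕ, x i ≠ z ^ b := fun i b h => hx i (h ▸ Subgroup.pow_mem _ hz b)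
  have hgen : ∀ i j, (x i : G) ∈ A j → A i = A j := by
    intro i j hij
    let S := Subgroup.closure ({(x i : G), (z : G)} : Set G)
    have h1 : S ≤ A i := (Subgroup.closure_le _).mpr (by rintro _ (rfl | rfl); exacts [hxA i, hzA i])
    have h2 : S ≤ A j := (Subgroup.closure_le _).mpr (by rintro _ (rfl | rfl); exacts [hij, hzA j])
    have hS : A i = S := by
      refine (Subgroup.eq_of_le_of_card_ge h1 ?_).symm
      rw [hAcard]
      obtain ⟨k, hk, hk'⟩ := (Nat.dvd_prime_pow (Fact.out : p.Prime)).mp
        (hAcard i ▸ Subgroup.card_dvd_of_le h1)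
      rw [hk']
      refine Nat.pow_le_pow_right (Fact.out : p.Prime).pos ?_
      by_contra hk2
      have hle : Nat.card ↥S ≤ p :=
        hk'.le.trans ((Nat.pow_le_pow_right (Fact.out : p.Prime).pos (by omega)).trans_eq (pow_one p))
      have hzo : orderOf (z : G) = p := by
        rw [Subgroup.orderOf_coe]
        exact orderOf_eq_prime (hzp z) hz1
      have hzS : Subgroup.zpowers (z : G) = S := by
        refine Subgroup.eq_of_le_of_card_ge
          (Subgroup.zpowers_le.mpr (Subgroup.subset_closure (by simp))) ?_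
        rwa [Nat.card_zpowers, hzo]
      have hxS : (x i : G) ∈ Subgroup.zpowers (z : G) := by
        rw [hzS]; exact Subgroup.subset_closure (by simp)
      rw [← mem_powers_iff_mem_zpowers] at hxS
      obtain ⟨b, hb⟩ := hxS
      exact hxz i b (Subtype.ext hb.symm)
    exact Subgroup.eq_of_le_of_card_ge (hS ▸ h2) (by rw [hAcard, hAcard])
  obtain ⟨t, ht⟩ := Lib.ExtraCubeRadical.exists_unit_orderOf_cube (p := p)
  have hn : 6 ≤ orderOf (t ^ 3) := by
    rw [ht]
    have h17 : 17 ≤ p := by
      by_contra h
      have hq : p.Prime := Fact.out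
      interval_cases p <;> first | omega | (norm_num at hq)
    have hd : Nat.gcd (p - 1) 3 = 1 ∨ Nat.gcd (p - 1) 3 = 3 :=
      (Nat.dvd_prime Nat.prime_three).mp (Nat.gcd_dvd_right _ _)
    rcases hd with hd | hd
    · rw [hd, Nat.div_one]; omega
    · rw [hd]
      have := Nat.gcd_dvd_left (p - 1) 3
      rw [hd] at this
      omega
  have hbound := (Lib.ExtraCubeRadical.card_le_of_radical_lines P hE hcard hexp t z hz hz1 x hx
    (fun i j hij a b h => hij (hA (hgen i j (by
      rw [h, Subgroup.coe_mul, Subgroup.coe_pow, Subgroup.coe_pow]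
      exact mul_mem (pow_mem (hxA j) a) (pow_mem (hzA j) b)))))
    (fun i => by
      obtain ⟨φ, hφ, hφx, hφz⟩ := exists_transvection (hAcard i)
        (fun a => Subtype.ext (congrArg Subtype.val (hzp ⟨(a : G), hAP i a.2⟩) :))
        ⟨(x i : G), hxA i⟩ ⟨(z : G), hzA i⟩
        (fun h => hz1 (Subtype.ext (congrArg Subtype.val h :)))
        (fun b h => hxz i b (Subtype.ext (congrArg Subtype.val h :)))
      obtain ⟨g, hg⟩ := hSL i φ hφ
      refine ⟨g, ?_, ?_⟩
      · have := hg ⟨(x i : G), hxA i⟩
        rw [hφx] at this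
        exact this.symm
      · have := hg ⟨(z : G), hzA i⟩
        rw [hφz] at this
        exact this.symm)).1 hn
  rw [Nat.card_fin] at hbound
  omega

end Cfsg.Agent.S3054
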