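import Cfsg.Statements.S3055
import Cfsg.Agent.Lib.ExtraCubeRadical.Main
-- import your own Cfsg.Agent.* helpers here

set_option autoImplicit false
open Cfsg

namespace Cfsg.Agent.S3055

open scoped commutatorElement


/-- Let p be an odd prime and G a finite group with a Sylow p-subgroup P that is extraspecial of order p³ and exponent p. If all nonidentity elements of P are conjugate in G, then p ≤ 7. -/
theorem result {G : Type*} [Group G] [Finite G]
    {p : ℕ} [Fact p.Prime] (hp : p ≠ 2) (P : Sylow p G) (hE : Cfsg.IsExtraspecial p ↥P)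
    (hcard : Nat.card P = p ^ 3) (hexp : Monoid.exponent ↥P = p)
    (hconj : ∀ x y : ↥P, x ≠ 1 → y ≠ 1 → ∃ g : G, g * (x : G) * g⁻¹ = (y : G)) :
    p ≤ 7 := by
  by_contra! hp7
  classical
  obtain ⟨f, z₀, hz, hz1, hf, hsurj, hker, hdet⟩ :=
    Lib.ExtraCubeRadical.exists_coords hE hcard
  have hzp : ∀ a : ↥P, a ^ p = 1 := fun a => by
    have := Monoid.pow_exponent_eq_one a
    rwa [hexp] at this
  have hf1 : f 1 = 0 := (hker 1).mpr (one_mem _)
  have hfpow : ∀ (a : ↥P) (n : ℕ), f (a ^ n) = n • f a := by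
    intro a n
    induction n with
    | zero => rw [pow_zero, zero_smul, hf1]
    | succ n ih => rw [pow_succ, hf, ih, succ_nsmul]
  choose x hx using fun j : ZMod p => hsurj ![1, j]
  have hxc : ∀ j, x j ∉ Subgroup.center ↥P := fun j h => by
    have := (hker _).mpr h
    rw [hx] at this
    exact one_ne_zero (congrFun this 0)
  obtain ⟨t, ht⟩ := Lib.ExtraCubeRadical.exists_unit_orderOf_cube (p := p)
  have hPC : (P : Subgroup G) ≤ Subgroup.centralizer ({(z₀ : G)} : Set G) := fun a ha =>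
    Subgroup.mem_centralizer_singleton_iff.mpr
      (congrArg Subtype.val (Subgroup.mem_center_iff.mp hz ⟨a, ha⟩) :)
  have hbound := Lib.ExtraCubeRadical.card_le_of_radical_lines P hE hcard hexp t z₀ hz hz1 x hxc
    (fun i j hij a b h => hij (by
      have e := congrArg f h
      rw [hx, hf, hfpow, hfpow, hx, (hker _).mpr hz, smul_zero, add_zero] at e
      have e0 := congrFun e 0
      have e1 := congrFun e 1
      simp at e0 e1
      rw [e1, ← e0, one_mul]))
    (fun i => by
      obtain ⟨g₀, hg₀⟩ := hconj (x i) z₀ (fun h => hxc i (h ▸ one_mem _)) hz1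
      set C := Subgroup.centralizer ({(z₀ : G)} : Set G) with hC
      have hxz : (x i : G) * z₀ = z₀ * (x i : G) :=
        congrArg Subtype.val (Subgroup.mem_center_iff.mp hz (x i))
      set w₀ := g₀ * (z₀ : G) * g₀⁻¹ with hw₀
      have hw₀C : w₀ ∈ C := by
        rw [hC, Subgroup.mem_centralizer_singleton_iff]
        conv_lhs => rw [← hg₀, hw₀]
        conv_rhs => rw [← hg₀, hw₀]
        calc g₀ * (z₀ : G) * g₀⁻¹ * (g₀ * (x i : G) * g₀⁻¹)
            = g₀ * ((z₀ : G) * (x i : G)) * g₀⁻¹ := by group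
          _ = g₀ * ((x i : G) * (z₀ : G)) * g₀⁻¹ := by rw [hxz]
          _ = g₀ * (x i : G) * g₀⁻¹ * (g₀ * (z₀ : G) * g₀⁻¹) := by group
      have hwp : IsPGroup p (Subgroup.zpowers (⟨w₀, hw₀C⟩ : ↥C)) := by
        intro a
        refine ⟨1, ?_⟩
        obtain ⟨e, he⟩ := Subgroup.mem_zpowers_iff.mp a.2
        refine Subtype.ext (Subtype.ext ?_)
        simp only [pow_one, SubmonoidClass.coe_pow, OneMemClass.coe_one, ← he,
          SubgroupClass.coe_zpow]
        rw [← zpow_natCast, ← zpow_mul, mul_comm, zpow_mul, zpow_natCast, hw₀, conj_pow,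
          ← Subgroup.coe_pow, hzp]
        simp
      obtain ⟨Q, hQ⟩ := hwp.exists_le_sylow
      obtain ⟨k, hk⟩ := MulAction.exists_smul_eq ↥C Q (P.subtype hPC)
      have hw : (k : G) * w₀ * (k : G)⁻¹ ∈ (P : Subgroup G) := by
        have h1 : (k * ⟨w₀, hw₀C⟩ * k⁻¹ : ↥C) ∈ (P.subtype hPC : Subgroup ↥C) := by
          rw [← hk, Sylow.smul_def, Sylow.pointwise_smul_def,
            Subgroup.mem_pointwise_smul_iff_inv_smul_mem]
          simp only [← map_inv, MulAut.smul_def, MulAut.conj_apply]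
          convert hQ (Subgroup.mem_zpowers _) using 1
          group
        exact h1
      set g₁ := (k : G) * g₀ with hg₁
      have hg₁x : g₁ * (x i : G) * g₁⁻¹ = z₀ := by
        rw [hg₁, show (k : G) * g₀ * (x i : G) * ((k : G) * g₀)⁻¹ =
          (k : G) * (g₀ * (x i : G) * g₀⁻¹) * (k : G)⁻¹ by group, hg₀,
          Subgroup.mem_centralizer_singleton_iff.mp k.2, mul_inv_cancel_right]
      have hg₁z : g₁ * (z₀ : G) * g₁⁻¹ = (k : G) * w₀ * (k : G)⁻¹ := by rw [hg₁, hw₀]; group
      set w : ↥P := ⟨_, hw⟩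
      have hwc : w ∉ Subgroup.center ↥P := by
        intro hwc
        rw [← Lib.Extraspecial.zpowers_eq_center hE hz hz1, ← mem_powers_iff_mem_zpowers] at hwc
        obtain ⟨e, he⟩ := hwc
        have he' : (z₀ : G) ^ e = (k : G) * w₀ * (k : G)⁻¹ := congrArg Subtype.val he
        have hz' := hg₁x
        rw [← hg₁z, ← hz', conj_pow, mul_left_inj, mul_right_inj, ← Subgroup.coe_pow] at he'
        refine hxc i ?_
        have he'' : x i ^ e = z₀ := Subtype.ext (he'.trans hg₁x)
        by_contra hnc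
        have : f (x i ^ e) = 0 := by rw [he'']; exact (hker _).mpr hz
        rw [hfpow, hx] at this
        have e0 := congrFun this 0
        simp at e0
        rw [pow_eq_pow_mod e (hzp _), ← ZMod.val_natCast, e0, ZMod.val_zero, pow_zero] at he''
        exact hz1 he''.symm
      obtain ⟨v, hv⟩ : ∃ v : Fin 2 → ZMod p, v 0 * f w 1 - v 1 * f w 0 = 1 := by
        by_cases h1 : f w 1 = 0
        · have h0 : f w 0 ≠ 0 := fun h0 => hwc ((hker _).mp (funext fun k => by
            fin_cases k <;> assumption))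
          refine ⟨![0, -1 / f w 0], ?_⟩
          simp [div_mul_cancel₀ _ h0]
        · exact ⟨![1 / f w 1, 0], by simp [div_mul_cancel₀ _ h1, inv_mul_cancel₀ h1]⟩
      obtain ⟨u, hu⟩ := hsurj v
      have h := hdet u w
      rw [hu, hv, ZMod.val_one, pow_one] at h
      have huw : (u : G) * ((k : G) * w₀ * (k : G)⁻¹) * (u : G)⁻¹ =
          (z₀ : G) * ((k : G) * w₀ * (k : G)⁻¹) := by
        have h' : u * w * u⁻¹ = z₀ * w := by
          rw [← h, commutatorElement_def, inv_mul_cancel_right]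
        exact congrArg Subtype.val h'
      have huz : (u : G) * (z₀ : G) * (u : G)⁻¹ = z₀ :=
        (congrArg Subtype.val (show u * z₀ * u⁻¹ = z₀ by
          rw [Subgroup.mem_center_iff.mp hz u, mul_inv_cancel_right]) :)
      refine ⟨g₁⁻¹ * u * g₁, ?_, ?_⟩
      · calc g₁⁻¹ * u * g₁ * (x i : G) * (g₁⁻¹ * u * g₁)⁻¹
            = g₁⁻¹ * (u * (g₁ * (x i : G) * g₁⁻¹) * (u : G)⁻¹) * g₁ := by group
          _ = g₁⁻¹ * (g₁ * (x i : G) * g₁⁻¹) * g₁ := by rw [hg₁x, huz]
          _ = _ := by group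
      · calc g₁⁻¹ * u * g₁ * (z₀ : G) * (g₁⁻¹ * u * g₁)⁻¹
            = g₁⁻¹ * (u * (g₁ * (z₀ : G) * g₁⁻¹) * (u : G)⁻¹) * g₁ := by group
          _ = g₁⁻¹ * ((z₀ : G) * (g₁ * (z₀ : G) * g₁⁻¹)) * g₁ := by rw [hg₁z, huw]
          _ = g₁⁻¹ * ((g₁ * (x i : G) * g₁⁻¹) * (g₁ * (z₀ : G) * g₁⁻¹)) * g₁ := by rw [hg₁x]
          _ = (x i : G) * (z₀ : G) := by group
          _ = _ := hxz)
  rw [ht, Nat.card_eq_fintype_card, ZMod.card] at hbound
  have hd : Nat.gcd (p - 1) 3 = 1 ∨ Nat.gcd (p - 1) 3 = 3 :=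
    (Nat.dvd_prime Nat.prime_three).mp (Nat.gcd_dvd_right _ _)
  have h11 : 11 ≤ p := by
    by_contra h
    have hq : p.Prime := Fact.out
    interval_cases p <;> first | omega | (norm_num at hq)
  by_cases h13 : p = 13
  · subst h13
    exact absurd (hbound.2 (by decide)) (by norm_num)
  · refine absurd (hbound.1 ?_) (by omega)
    rcases hd with hd | hd
    · rw [hd, Nat.div_one]; omega
    · rw [hd]
      have := Nat.gcd_dvd_left (p - 1) 3
      rw [hd] at this
      by_contra h6
      have : p < 19 := by omega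
      have hq : p.Prime := Fact.out
      interval_cases p <;> first | omega | (norm_num at hq)

end Cfsg.Agent.S3055
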