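import Cfsg.Statements.S3057
import Mathlib
import Cfsg.Agent.Lib.SylowGraph.Basic
import Cfsg.Agent.Lib.SylowAux58.Basic
import Cfsg.Agent.Lib.PSolvable.Core
import Cfsg.Agent.Lib.PSolvable.PSolv
import Cfsg.Agent.Lib.Coprime.Generation
import Cfsg.Agent.Lib.PUnique.Basic

set_option autoImplicit false
open Cfsg

namespace Cfsg.Agent.S3057

/-- A generalized quaternion group has at most one involution. -/
theorem quaternion_sq {M : ℕ} [NeZero M] (u : QuaternionGroup M) (hu : orderOf u = 2) :
    u = QuaternionGroup.a (M : ZMod (2 * M)) := by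
  rcases u with i | i
  · congr 1
    rw [QuaternionGroup.orderOf_a] at hu
    have hlt := i.val_lt
    have hg : Nat.gcd (2 * M) i.val ∣ 2 * M := Nat.gcd_dvd_left _ _
    have hM : Nat.gcd (2 * M) i.val = M := by
      have h := Nat.div_mul_cancel hg
      rw [hu] at h
      omega
    obtain ⟨c, hc⟩ : M ∣ i.val := by
      have := Nat.gcd_dvd_right (2 * M) i.val
      rwa [hM] at this
    have hc2 : c < 2 := by
      by_contra h
      have h2 : M * 2 ≤ M * c := Nat.mul_le_mul le_rfl (by omega)
      omega
    interval_cases c
    · simp only [mul_zero] at hc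
      rw [hc, Nat.gcd_zero_right] at hM
      exact absurd hM (by have := NeZero.ne M; omega)
    · rw [mul_one] at hc
      rw [← ZMod.natCast_zmod_val i, hc]
  · rw [QuaternionGroup.orderOf_xa] at hu
    omega

open Subgroup in
/-- In a cyclic or generalized quaternion group two elements of order `p` generate the same
subgroup. -/
theorem zpowers_eq {T : Type*} [Group T] [Finite T] {p : ℕ} [hp : Fact p.Prime]
    (h : IsCyclic T ∨ (p = 2 ∧ ∃ n : ℕ, Nonempty (T ≃* QuaternionGroup (2 ^ n))))
    {x y : T} (hx : orderOf x = p) (hy : orderOf y = p) : zpowers x = zpowers y := by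
  rcases h with h | ⟨rfl, n, ⟨e⟩⟩
  · haveI := h
    classical
    haveI : Fintype T := Fintype.ofFinite T
    have key : Finset.univ.filter (fun a : T => a ∈ zpowers x) =
        Finset.univ.filter (fun a : T => a ^ p = 1) := by
      refine Finset.eq_of_subset_of_card_le (fun a ha => ?_) ?_
      · simp only [Finset.mem_filter, Finset.mem_univ, true_and] at ha ⊢
        obtain ⟨i, rfl⟩ := mem_zpowers_iff.1 ha
        rw [← zpow_natCast, ← zpow_mul, mul_comm, zpow_mul, zpow_natCast, ← hx,
          pow_orderOf_eq_one, one_zpow]
      · refine (IsCyclic.card_pow_eq_one_le hp.out.pos).trans (le_of_eq ?_)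
        rw [← hx, ← Nat.card_zpowers, ← Nat.card_eq_finsetCard]
        exact Nat.card_congr (Equiv.subtypeEquivRight (fun a => by simp))
    symm
    refine eq_of_le_of_card_ge (zpowers_le.2 ?_)
      (by rw [Nat.card_zpowers, Nat.card_zpowers, hx, hy])
    have hy' : y ∈ Finset.univ.filter (fun a : T => a ∈ zpowers x) := by
      rw [key]; simp [← hy, pow_orderOf_eq_one]
    simpa using hy'
  · haveI : NeZero (2 ^ n) := ⟨pow_ne_zero _ (by norm_num)⟩
    have : e x = e y := by
      rw [quaternion_sq (e x) (by rw [MulEquiv.orderOf_eq, hx]),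
        quaternion_sq (e y) (by rw [MulEquiv.orderOf_eq, hy])]
    rw [e.injective this]

/-- Let p be a prime and G a finite p-solvable group of order divisible by p, with Sylow p-subgroup P. Then the Sylow p-subgroups of G fail to be chain-connected through nontrivial intersections (equivalently, G has a strongly p-embedded subgroup) if and only if O_p(G) = 1 and P is cyclic or, for p = 2, generalized quaternion. -/
theorem result {G : Type*} [Group G] [Finite G]
    (p : ℕ) [Fact p.Prime] (hdiv : p ∣ Nat.card G) (hsol : Cfsg.IsPSolvable p G) (P : Sylow p G) :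
    ¬ Cfsg.IsSylowChainConnected p G ↔
      Cfsg.pCore p G = ⊥ ∧ (IsCyclic ↥P ∨ (p = 2 ∧ ∃ n : ℕ, Nonempty (↥P ≃* QuaternionGroup (2 ^ n)))) := by
  open Subgroup Cfsg.Agent.Lib in
  classical
  have hp : p.Prime := Fact.out
  constructor
  · intro hnc
    obtain ⟨H, hC⟩ := SylowGraph.exists_classicalSE hnc
    obtain ⟨S, hS⟩ := hC.exists_sylow_le
    refine ⟨?_, ?_⟩
    · by_contra hO
      refine hnc (SylowGraph.connected_of_linked fun U V => SylowGraph.linked_of_inf_ne_bot ?_)
      exact fun h => hO (le_bot_iff.1 (h ▸
        le_inf (PSolvable.pCore_le_sylow U) (PSolvable.pCore_le_sylow V)))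
    · suffices huniq : ∀ K L : Subgroup (S : Subgroup G), Nat.card K = p → Nat.card L = p → K = L by
        rcases PUnique.isCyclic_or_quaternion S.2 huniq with h | ⟨h2, n, ⟨e⟩⟩
        · haveI := h
          exact Or.inl (isCyclic_of_surjective (Sylow.equiv S P).toMonoidHom
            (Sylow.equiv S P).surjective)
        · exact Or.inr ⟨h2, n, ⟨(Sylow.equiv P S).trans e⟩⟩
      have hS1 : (S : Subgroup G) ≠ ⊥ := S.ne_bot_of_dvd_card hdiv
      haveI : Nontrivial (S : Subgroup G) := (nontrivial_iff_ne_bot _).2 hS1
      have hz := S.2.bot_lt_center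
      obtain ⟨z, hz, hzo⟩ := SylowGraph.exists_orderOf_mem (p := p)
        (S.2.to_subgroup (center ↥(S : Subgroup G))) hz.ne'
      suffices key : ∀ K : Subgroup (S : Subgroup G), Nat.card K = p → K = zpowers z from
        fun K L hK hL => (key K hK).trans (key L hL).symm
      intro K hK
      by_contra hne
      obtain ⟨⟨y, hyK⟩, hyo⟩ := exists_prime_orderOf_dvd_card' (G := K) p (dvd_of_eq hK.symm)
      rw [← Subgroup.orderOf_coe] at hyo
      have hyo' : orderOf y = p := hyo
      have hKy : K = zpowers y := (eq_of_le_of_card_ge (zpowers_le.2 hyK)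
        (by rw [Nat.card_zpowers, hyo', hK])).symm
      have hab : Commute (y : G) (z : G) := congrArg Subtype.val (mem_center_iff.1 hz y)
      have hap : (y : G) ^ p = 1 := by
        have h1 : y ^ p = 1 := by have := pow_orderOf_eq_one y; rwa [hyo'] at this
        simpa using congrArg Subtype.val h1
      have hbp : (z : G) ^ p = 1 := by
        have h1 : z ^ p = 1 := by have := pow_orderOf_eq_one z; rwa [hzo] at this
        simpa using congrArg Subtype.val h1
      have hb1 : (z : G) ≠ 1 := fun e => hp.one_lt.ne (by
        rw [← hzo, ← Subgroup.orderOf_coe, e, orderOf_one])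
      have hab' : (y : G) ∉ zpowers (z : G) := fun h => hne (by
        rw [hKy]
        obtain ⟨i, hi⟩ := mem_zpowers_iff.1 h
        have hy' : y ∈ zpowers z := ⟨i, Subtype.ext (by simpa using hi)⟩
        exact eq_of_le_of_card_ge (zpowers_le.2 hy')
          (by rw [Nat.card_zpowers, Nat.card_zpowers, hzo, hyo']))
      have hcl : closure ({(y : G), (z : G)} : Set G) ≤ (S : Subgroup G) := by
        rw [closure_le]
        rintro w (rfl | rfl)
        · exact y.2
        · exact z.2
      let M : Subgroup G := Cfsg.pPrimeCore p G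
      haveI hMn : M.Normal := by
        haveI := PSolvable.pPrimeCore_characteristic (p := p) (G := G)
        infer_instance
      have hMp : ¬ p ∣ Nat.card M := PSolvable.pPrimeCore_not_dvd
      have hMH : M ≤ H := by
        refine Coprime.le_of_pair hp (hp.coprime_iff_not_dvd.2 hMp) ?_ hab hap hbp hb1 hab' ?_
        · rw [normalizer_eq_top]; exact le_top
        · intro x hx hx1
          have hxp : x ^ p = 1 := by
            haveI := Coprime.isMulCommutative_closure_pair hab
            clear hx1
            induction hx using closure_induction with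
            | mem w hw =>
              rcases hw with hw | hw
              · subst hw; exact hap
              · rw [Set.mem_singleton_iff] at hw; subst hw; exact hbp
            | one => exact one_pow p
            | mul u w hu hw ihu ihw =>
              have hc : Commute u w := congrArg Subtype.val
                (IsMulCommutative.is_comm.comm (⟨u, hu⟩ : closure ({(y : G), (z : G)} : Set G))
                  ⟨w, hw⟩)
              rw [hc.mul_pow, ihu, ihw, one_mul]
            | inv u _ ihu => rw [inv_pow, ihu, inv_one]
          exact inf_le_right.trans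
            (hC.centralizer_le (hS (hcl hx)) (orderOf_eq_prime hxp hx1))
      let Q := Cfsg.pCore p (G ⧸ M)
      let K' : Subgroup G := Q.comap (QuotientGroup.mk' M)
      haveI : Q.Normal := by
        haveI := PSolvable.pCore_characteristic (p := p) (G := G ⧸ M)
        infer_instance
      haveI hK'n : K'.Normal := Subgroup.Normal.comap inferInstance _
      have hQ1 : Q ≠ ⊥ := by
        haveI : Nontrivial (G ⧸ M) := by
          rw [← Finite.one_lt_card_iff_nontrivial]
          rcases (Nat.one_le_iff_ne_zero.2 (Nat.card_pos (α := G ⧸ M)).ne').lt_or_eq with h | h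
          · exact h
          · exfalso
            apply hMp
            have h2 := M.card_mul_index
            rw [index_eq_card, ← h, mul_one] at h2
            rw [h2]; exact hdiv
        rcases PSolvable.pCore_ne_bot_or_pPrimeCore_ne_bot
          (PSolvable.isPSolvable_quotient hsol M) with h | h
        · exact h
        · exact absurd PSolvable.pPrimeCore_quotient_eq_bot h
      obtain ⟨k, hk⟩ : ∃ k : ℕ, M.relIndex K' = p ^ k := by
        obtain ⟨k, hk⟩ := (IsPGroup.iff_card).1 (PSolvable.pCore_isPGroup (p := p) (G := G ⧸ M))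
        refine ⟨k, ?_⟩
        have := Subgroup.relIndex_ker (K := K') (QuotientGroup.mk' M)
        rw [QuotientGroup.ker_mk'] at this
        rw [this, ← hk, map_comap_eq_self_of_surjective (QuotientGroup.mk'_surjective M)]
      have hMK : M ≤ K' := fun m hm => by
        show QuotientGroup.mk' M m ∈ Q
        rw [QuotientGroup.mk'_apply, (QuotientGroup.eq_one_iff m).2 hm]; exact one_mem _
      have hKH : K' ≤ H := by
        rw [← SylowAux58.sup_inf_eq_of_relIndex_pow S M K' hMK hk]
        exact sup_le hMH (inf_le_left.trans hS)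
      have hk0 : k ≠ 0 := by
        rintro rfl
        rw [pow_zero, relIndex_eq_one] at hk
        apply hQ1
        rw [eq_bot_iff]
        intro w hw
        obtain ⟨w, rfl⟩ := QuotientGroup.mk'_surjective M w
        exact mem_bot.2 ((QuotientGroup.eq_one_iff w).2 (hk hw))
      have hpK : p ∣ Nat.card K' :=
        ((hk ▸ dvd_pow_self p hk0 : p ∣ M.relIndex K')).trans (relIndex_dvd_card _ _)
      refine hC.1 (eq_top_iff.2 fun g _ => ?_)
      by_contra hg
      refine hC.2.2 g hg (hpK.trans (card_dvd_of_le (le_inf hKH ?_)))
      intro w hw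
      exact ⟨g⁻¹ * w * g, hKH (by simpa using hK'n.conj_mem w hw g⁻¹), by simp [mul_assoc]⟩
  · rintro ⟨hO, hP⟩ hc
    have hall : ∀ U : Sylow p G,
        IsCyclic ↥U ∨ (p = 2 ∧ ∃ n : ℕ, Nonempty (↥U ≃* QuaternionGroup (2 ^ n))) := by
      intro U
      rcases hP with h | ⟨h2, n, ⟨e⟩⟩
      · haveI := h
        exact Or.inl (isCyclic_of_surjective (Sylow.equiv P U).toMonoidHom
          (Sylow.equiv P U).surjective)
      · exact Or.inr ⟨h2, n, ⟨(Sylow.equiv U P).trans e⟩⟩
    obtain ⟨x, hx, hxo⟩ := SylowGraph.exists_orderOf_mem (p := p) P.2 (P.ne_bot_of_dvd_card hdiv)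
    have hxall : ∀ U : Sylow p G, x ∈ (U : Subgroup G) := by
      intro U
      have h := SylowGraph.linked_of_connected hc P U
      induction h with
      | refl => exact hx
      | @tail V W _ hab ih =>
        obtain ⟨y, hy, hyo⟩ := SylowGraph.exists_orderOf_mem (p := p)
          (V.2.to_le inf_le_left) hab.2
        have he := zpowers_eq (hall V) (x := (⟨x, ih⟩ : ↥V)) (y := ⟨y, hy.1⟩)
          (by rw [← Subgroup.orderOf_coe]; exact hxo) (by rw [← Subgroup.orderOf_coe]; exact hyo)
        have hm : (⟨x, ih⟩ : ↥V) ∈ zpowers (⟨y, hy.1⟩ : ↥V) := he ▸ mem_zpowers _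
        obtain ⟨i, hi⟩ := mem_zpowers_iff.1 hm
        have hxy : y ^ i = x := by simpa using congrArg Subtype.val hi
        rw [← hxy]
        exact (W : Subgroup G).zpow_mem hy.2 i
    have hcore : x ∈ (P : Subgroup G).normalCore := by
      intro g
      have := hxall (g⁻¹ • P)
      rw [Sylow.coe_subgroup_smul, mem_pointwise_smul_iff_inv_smul_mem] at this
      simpa [← map_inv] using this
    have : x ∈ Cfsg.pCore p G := PSolvable.le_pCore (P.2.to_le (normalCore_le _)) hcore
    rw [hO, mem_bot] at this
    rw [this, orderOf_one] at hxo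
    exact hp.one_lt.ne hxo

end Cfsg.Agent.S3057
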