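import Cfsg.Statements.S3058
import Cfsg.Agent.Lib.SylowGraph.Basic
import Cfsg.Agent.Lib.SylowAux58.Basic
import Cfsg.Agent.Lib.Coprime.Generation

set_option autoImplicit false
open Cfsg
open scoped commutatorElement

namespace Cfsg.Agent.S3058

/-- Let p be a prime and G a finite group whose Sylow p-subgroups are not chain-connected through nontrivial intersections (so G has a strongly p-embedded subgroup). If N and M are normal subgroups of G whose orders are both divisible by p, then the order of N ∩ M is divisible by p. Consequently, among the normal subgroups of G whose order is divisible by p there is a smallest one (the intersection of all of them). -/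
theorem result {G : Type*} [Group G] [Finite G]
    (p : ℕ) [Fact p.Prime] (hG : ¬ Cfsg.IsSylowChainConnected p G)
    (N M : Subgroup G) [N.Normal] [M.Normal] (hN : p ∣ Nat.card N) (hM : p ∣ Nat.card M) :
    p ∣ Nat.card ↥(N ⊓ M) := by
  open Subgroup Cfsg.Agent.Lib in
  by_contra hK
  obtain ⟨H, hC⟩ := SylowGraph.exists_classicalSE hG
  obtain ⟨S, hS⟩ := hC.exists_sylow_le
  have hp : p.Prime := Fact.out
  have hsyl : ∀ L : Subgroup G, L.Normal → p ∣ Nat.card L →
      ((S : Subgroup G) ⊓ L : Subgroup G) ≠ ⊥ := by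
    intro L hL hd
    haveI := hL
    obtain ⟨P, hP⟩ := SylowAux58.exists_sylow_map_eq_inf S L
    rw [← hP, Ne, map_eq_bot_iff_of_injective _ L.subtype_injective]
    exact P.ne_bot_of_dvd_card hd
  obtain ⟨a, ha, hao⟩ := SylowGraph.exists_orderOf_mem (p := p)
    (S.2.to_le inf_le_left) (hsyl N inferInstance hN)
  obtain ⟨b, hb, hbo⟩ := SylowGraph.exists_orderOf_mem (p := p)
    (S.2.to_le inf_le_left) (hsyl M inferInstance hM)
  have hK' : ∀ x : G, x ∈ N ⊓ M → (∃ k : ℕ, orderOf x = p ^ k) → x = 1 := by
    intro x hx ⟨k, hk⟩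
    rcases Nat.eq_zero_or_pos k with rfl | hk0
    · exact orderOf_eq_one_iff.1 (by simpa using hk)
    · exfalso
      apply hK
      have := orderOf_dvd_natCard (⟨x, hx⟩ : ↥(N ⊓ M))
      rw [← Subgroup.orderOf_coe] at this
      refine dvd_trans ?_ this
      show p ∣ orderOf x
      rw [hk]
      exact dvd_pow_self p hk0.ne'
  have ha1 : a ≠ 1 := fun e => hp.one_lt.ne (by rw [← hao, e, orderOf_one])
  have hb1 : b ≠ 1 := fun e => hp.one_lt.ne (by rw [← hbo, e, orderOf_one])
  have hap : a ^ p = 1 := hao ▸ pow_orderOf_eq_one a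
  have hbp : b ^ p = 1 := hbo ▸ pow_orderOf_eq_one b
  have hab : Commute a b := by
    refine commutatorElement_eq_one_iff_mul_comm.1 (hK' _ ?_ ?_)
    · refine ⟨?_, ?_⟩
      · rw [commutatorElement_def, mul_assoc, mul_assoc, ← mul_assoc b]
        exact mul_mem ha.2 ((inferInstance : N.Normal).conj_mem _ (N.inv_mem ha.2) b)
      · rw [commutatorElement_def]
        exact mul_mem ((inferInstance : M.Normal).conj_mem _ hb.2 a) (M.inv_mem hb.2)
    · have hm : ⁅a, b⁆ ∈ (S : Subgroup G) := by
        rw [commutatorElement_def]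
        exact mul_mem (mul_mem (mul_mem ha.1 hb.1) (inv_mem ha.1)) (inv_mem hb.1)
      obtain ⟨k, hk⟩ := IsPGroup.iff_orderOf.1 S.2 ⟨_, hm⟩
      exact ⟨k, by rw [← hk, ← Subgroup.orderOf_coe]⟩
  have hab' : a ∉ zpowers b := fun h =>
    ha1 (hK' a ⟨ha.2, zpowers_le.2 hb.2 h⟩ ⟨1, by rw [hao, pow_one]⟩)
  have hab2 : closure ({a, b} : Set G) ≤ (S : Subgroup G) := by
    rw [closure_le]
    rintro x (rfl | rfl)
    · exact ha.1
    · exact hb.1
  have hKH : N ⊓ M ≤ H := by
    refine Coprime.le_of_pair hp ((hp.coprime_iff_not_dvd).2 hK) ?_ hab hap hbp hb1 hab' ?_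
    · rw [normalizer_eq_top]; exact le_top
    · intro x hx hx1
      have hxp : x ^ p = 1 := by
        haveI := Coprime.isMulCommutative_closure_pair (a := a) (b := b) hab
        induction hx using closure_induction with
        | mem y hy =>
          rcases hy with hy | hy
          · subst hy; exact hap
          · rw [Set.mem_singleton_iff] at hy; subst hy; exact hbp
        | one => exact one_pow p
        | mul y z hy hz ihy ihz =>
          by_cases hy1 : y = 1
          · subst hy1; simp only [one_mul] at hx1 ⊢; exact ihz hx1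
          by_cases hz1 : z = 1
          · subst hz1; simp only [mul_one] at hx1 ⊢; exact ihy hx1
          have hc : Commute y z := congrArg Subtype.val
            (IsMulCommutative.is_comm.comm (⟨y, hy⟩ : closure ({a, b} : Set G)) ⟨z, hz⟩)
          rw [hc.mul_pow, ihy hy1, ihz hz1, one_mul]
        | inv y hy ihy => rw [inv_pow, ihy (fun e => hx1 (by rw [e, inv_one])), inv_one]
      exact inf_le_right.trans
        (hC.centralizer_le (hS (hab2 hx)) (orderOf_eq_prime hxp hx1))
  have hMH : M ≤ H := by
    intro m hm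
    have : m * a * m⁻¹ ∈ H := by
      have hmem : m * a * m⁻¹ * a⁻¹ ∈ N ⊓ M := by
        refine ⟨mul_mem ((inferInstance : N.Normal).conj_mem _ ha.2 m) (N.inv_mem ha.2), ?_⟩
        rw [mul_assoc, mul_assoc]
        refine mul_mem hm ?_
        rw [← mul_assoc]
        exact (inferInstance : M.Normal).conj_mem _ (M.inv_mem hm) a
      simpa [mul_assoc] using H.mul_mem (hKH hmem) (hS ha.1)
    have := hC.mem_of_common (g := m⁻¹) (hS ha.1) (by simpa using this) hao
    simpa using this
  refine hC.1 (top_le_iff.1 ?_)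
  rw [← SylowAux58.normalizer_inf_sup_eq_top S M]
  exact sup_le (hC.normalizer_le (S.2.to_le inf_le_left) (hsyl M inferInstance hM)
    (inf_le_left.trans hS)) hMH

end Cfsg.Agent.S3058
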