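import Cfsg.Statements.S3059
import Cfsg.Agent.Lib.SylowGraph.Basic
import Cfsg.Agent.Lib.SylowAux58.Basic
import Cfsg.Agent.Lib.Transfer.PResidual

set_option autoImplicit false
open Cfsg

namespace Cfsg.Agent.S3059

/-- Let p be a prime and H a strongly p-embedded subgroup of the finite group G in the classical sense: H is proper, p divides the order of H, and H ∩ gHg⁻¹ has order prime to p for every g outside H. Then for every normal subgroup N of G of order divisible by p, G = H · O^p(N), where O^p(N) is the subgroup generated by the elements of N of order prime to p. -/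
theorem result {G : Type*} [Group G] [Finite G]
    (p : ℕ) [Fact p.Prime] (H : Subgroup G) (hH : H ≠ ⊤) (hpH : p ∣ Nat.card H)
    (hse : ∀ g : G, g ∉ H → ¬ p ∣ Nat.card ↥(H ⊓ H.map (MulAut.conj g).toMonoidHom))
    (N : Subgroup G) [N.Normal] (hN : p ∣ Nat.card N) :
    H ⊔ Subgroup.closure {g : G | g ∈ N ∧ (orderOf g).Coprime p} = ⊤ := by
  open Subgroup Cfsg.Agent.Lib in
  have hC : SylowGraph.ClassicalSE p H := ⟨hH, hpH, hse⟩
  obtain ⟨S, hS⟩ := hC.exists_sylow_le
  obtain ⟨P, hP⟩ := SylowAux58.exists_sylow_map_eq_inf S N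
  have hQ1 : ((S : Subgroup G) ⊓ N : Subgroup G) ≠ ⊥ := by
    rw [← hP, Ne, map_eq_bot_iff_of_injective _ N.subtype_injective]
    exact P.ne_bot_of_dvd_card hN
  have hfr := SylowAux58.normalizer_inf_sup_eq_top S N
  have hNH : normalizer (((S : Subgroup G) ⊓ N : Subgroup G) : Set G) ≤ H :=
    hC.normalizer_le (S.2.to_le inf_le_left) hQ1 (inf_le_left.trans hS)
  have hsplit := Transfer.pResidual_sup_sylow (p := p) P
  have hNle : N ≤ H ⊔ Subgroup.closure {g : G | g ∈ N ∧ (orderOf g).Coprime p} := by
    have h1 : (Cfsg.pResidual p N ⊔ (P : Subgroup N)).map N.subtype = N := by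
      rw [hsplit, ← MonoidHom.range_eq_map, Subgroup.range_subtype]
    conv_lhs => rw [← h1, Subgroup.map_sup]
    refine sup_le ?_ ?_
    · rw [Cfsg.pResidual, MonoidHom.map_closure]
      refine le_trans (closure_mono ?_) le_sup_right
      rintro _ ⟨x, hx, rfl⟩
      exact ⟨x.2, by simpa [Subgroup.orderOf_coe] using hx⟩
    · rw [hP]; exact (inf_le_left.trans hS).trans le_sup_left
  rw [← top_le_iff, ← hfr]
  exact sup_le (hNH.trans le_sup_left) hNle

end Cfsg.Agent.S3059
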