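import Cfsg.Statements.S3060
import Cfsg.Agent.Lib.DStar.Relative
import Cfsg.Agent.Lib.SylowAux58.Basic
import Cfsg.Agent.Lib.PSolvable.Core

set_option autoImplicit false
open Cfsg
open scoped commutatorElement

namespace Cfsg.Agent.S3060

/-- The D*-Theorem. For a finite p-group S let D*(S) be the subgroup generated by the abelian subgroups A of S such that every x ∈ S with ⟨A, x⟩ of nilpotency class at most two centralizes A. Let p be an odd prime and H a finite p-stable group with Sylow p-subgroup S. Here H is p-stable in the following sense: the largest normal p-subgroup O_p(H) contains its centralizer in H, and for every normal p-subgroup P of H, every element acting quadratically on P has image in O_p(H/C_H(P)). Then D*(S) is a normal subgroup of H. -/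
theorem result {G : Type*} [Group G] [Finite G] {p : ℕ} [Fact p.Prime] (hp : p ≠ 2)
    (hc : Subgroup.centralizer (Cfsg.pCore p G : Set G) ≤ Cfsg.pCore p G)
    (hst : ∀ (P : Subgroup G) [P.Normal], IsPGroup p P → Cfsg.IsPStableOn p P) (S : Sylow p G) :
    (Cfsg.dStarOf (S : Subgroup G)).Normal := by
  open Subgroup Cfsg.Agent.Lib in
  classical
  let T : Subgroup G := Cfsg.pCore p G
  let D : Subgroup G := Cfsg.dStarOf (S : Subgroup G)
  have hTn : T.Normal := by
    haveI := PSolvable.pCore_characteristic (p := p) (G := G)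
    infer_instance
  have hTp : IsPGroup p T := PSolvable.pCore_isPGroup
  have hTS : T ≤ (S : Subgroup G) := PSolvable.pCore_le_sylow S
  have hDfam : DStar.MemFamilyIn (S : Subgroup G) D := DStar.dStarOf_memFamilyIn S.2
  have hSD : (S : Subgroup G) ≤ normalizer (D : Set G) :=
    le_normalizer.trans (DStar.normalizer_le_normalizer_dStarOf S.2)
  -- `D ≤ T`
  have hDT : D ≤ T := by
    intro a ha
    have hquad : ⁅⁅T, zpowers a⁆, zpowers a⁆ = ⊥ := by
      rw [commutator_eq_bot_iff_le_centralizer]
      have h1 : ⁅T, zpowers a⁆ ≤ D := by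
        rw [commutator_le]
        intro t ht b hb
        rw [commutatorElement_def]
        exact mul_mem ((mem_normalizer_iff.1 (hSD (hTS ht)) b).1 (zpowers_le.2 ha hb))
          (inv_mem (zpowers_le.2 ha hb))
      intro c hc
      rw [mem_centralizer_iff]
      intro b hb
      exact congrArg Subtype.val
        (hDfam.2.1.is_comm.comm ⟨b, zpowers_le.2 ha hb⟩ ⟨c, h1 hc⟩)
    haveI := hTn
    have hm := hst T hTp a hquad
    have hle : (Cfsg.pCore p (G ⧸ centralizer (T : Set G))).comap
        (QuotientGroup.mk' (centralizer (T : Set G))) ≤ T := by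
      haveI : (Cfsg.pCore p (G ⧸ centralizer (T : Set G))).Normal := by
        haveI := PSolvable.pCore_characteristic (p := p) (G := G ⧸ centralizer (T : Set G))
        infer_instance
      refine PSolvable.le_pCore ?_
      refine IsPGroup.comap_of_ker_isPGroup PSolvable.pCore_isPGroup _ ?_
      rw [QuotientGroup.ker_mk']
      exact hTp.to_le hc
    exact hle (Subgroup.mem_comap.2 hm)
  -- the normal closure
  let W : Subgroup G := normalClosure (D : Set G)
  have hWn : W.Normal := normalClosure_normal
  have hWT : W ≤ T := by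
    haveI := hTn
    exact normalClosure_le_normal hDT
  have hfamT : ∀ g : G, DStar.MemFamilyIn T (D.map (MulAut.conj g).toMonoidHom) := by
    intro g
    have := (hDfam.mono hDT hTS).map_conj g
    have e : T.map (MulAut.conj g).toMonoidHom = T := by
      ext y
      constructor
      · rintro ⟨x, hx, rfl⟩; exact hTn.conj_mem x hx g
      · intro hy; exact ⟨g⁻¹ * y * g, by simpa using hTn.conj_mem y hy g⁻¹, by simp [mul_assoc]⟩
    rwa [e] at this
  have hWc : IsMulCommutative W := by
    refine isMulCommutative_closure ?_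
    intro u hu v hv
    obtain ⟨d, hd, hdu⟩ := Group.mem_conjugatesOfSet_iff.1 hu
    obtain ⟨d', hd', hdv⟩ := Group.mem_conjugatesOfSet_iff.1 hv
    obtain ⟨g, rfl⟩ := isConj_iff.1 hdu
    obtain ⟨g', rfl⟩ := isConj_iff.1 hdv
    exact (hfamT g).commute hTp (hfamT g') ⟨d, hd, rfl⟩ ⟨d', hd', rfl⟩
  have hWS : W ≤ (S : Subgroup G) := hWT.trans hTS
  -- `W` is in the family of `S`
  have hWfam : DStar.MemFamilyIn (S : Subgroup G) W := by
    refine ⟨hWS, hWc, fun x hx h2 => ?_⟩
    let C : Subgroup G := centralizer (W : Set G)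
    haveI : C.Normal := by
      haveI := hWn
      infer_instance
    let K : Subgroup G := (Cfsg.pCore p (G ⧸ C)).comap (QuotientGroup.mk' C)
    haveI hKn : K.Normal := by
      haveI : (Cfsg.pCore p (G ⧸ C)).Normal := by
        haveI := PSolvable.pCore_characteristic (p := p) (G := G ⧸ C)
        infer_instance
      exact normal_comap _
    have hxK : x ∈ K := by
      refine Subgroup.mem_comap.2 (@hst W hWn (S.2.to_le hWS) x ?_)
      refine le_bot_iff.1 (h2 ▸ ?_)
      exact commutator_mono (commutator_mono le_sup_left le_sup_right) le_sup_right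
    have hCK : C ≤ K := by
      intro c hcc
      rw [Subgroup.mem_comap, QuotientGroup.mk'_apply, (QuotientGroup.eq_one_iff c).2 hcc]
      exact one_mem _
    obtain ⟨k, hk⟩ : ∃ k : ℕ, C.relIndex K = p ^ k := by
      obtain ⟨k, hk⟩ := (IsPGroup.iff_card).1 (PSolvable.pCore_isPGroup (p := p) (G := G ⧸ C))
      refine ⟨k, ?_⟩
      have := Subgroup.relIndex_ker (K := K) (QuotientGroup.mk' C)
      rw [QuotientGroup.ker_mk'] at this
      rw [this, ← hk, Subgroup.map_comap_eq_self_of_surjective (QuotientGroup.mk'_surjective C)]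
    have hK : C ⊔ ((S : Subgroup G) ⊓ K) = K :=
      SylowAux58.sup_inf_eq_of_relIndex_pow S C K hCK hk
    have htop : normalizer (((S : Subgroup G) ⊓ K : Subgroup G) : Set G) ⊔ C = ⊤ := by
      have h := SylowAux58.normalizer_inf_sup_eq_top S K
      refine top_le_iff.1 (h ▸ sup_le le_sup_left ?_)
      exact hK.symm.le.trans (sup_le le_sup_right (le_normalizer.trans le_sup_left))
    have hcx : W ≤ centralizer ({x} : Set G) := by
      refine (closure_le _).2 ?_
      intro u hu
      obtain ⟨d, hd, hdu⟩ := Group.mem_conjugatesOfSet_iff.1 hu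
      obtain ⟨g, rfl⟩ := isConj_iff.1 hdu
      have hg : g ∈ C ⊔ normalizer (((S : Subgroup G) ⊓ K : Subgroup G) : Set G) := by
        rw [sup_comm, htop]; trivial
      obtain ⟨c, hcC, n, hn, rfl⟩ := mem_sup_of_normal_left.1 hg
      have hndW : n * d * n⁻¹ ∈ W := hWn.conj_mem d (subset_normalClosure hd) n
      have e : c * n * d * (c * n)⁻¹ = n * d * n⁻¹ := by
        have := (mem_centralizer_iff.1 hcC) _ hndW
        calc c * n * d * (c * n)⁻¹ = c * (n * d * n⁻¹) * c⁻¹ := by group
          _ = n * d * n⁻¹ := by rw [← this]; group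
      rw [e]
      -- move `x` by `n`
      have hx' : n⁻¹ * x * n ∈ (S : Subgroup G) ⊓ K :=
        (mem_normalizer_iff.1 hn _).2 (by simpa [mul_assoc] using And.intro hx hxK)
      have hcl : ⁅⁅D ⊔ zpowers (n⁻¹ * x * n), D ⊔ zpowers (n⁻¹ * x * n)⁆,
          D ⊔ zpowers (n⁻¹ * x * n)⁆ = ⊥ := by
        apply map_injective (f := (MulAut.conj n).toMonoidHom) (MulAut.conj n).injective
        rw [← DStar.map_class_two, Subgroup.map_bot]
        refine le_bot_iff.1 (h2 ▸ ?_)
        have hle : D.map (MulAut.conj n).toMonoidHom ⊔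
            zpowers ((MulAut.conj n).toMonoidHom (n⁻¹ * x * n)) ≤ W ⊔ zpowers x := by
          refine sup_le_sup ?_ (le_of_eq (by simp [mul_assoc]))
          rintro _ ⟨y, hy, rfl⟩
          exact hWn.conj_mem y (subset_normalClosure hy) n
        exact commutator_mono (commutator_mono hle hle) hle
      have hcomm := hDfam.2.2 _ hx'.1 hcl d hd
      rw [SetLike.mem_coe, mem_centralizer_iff]
      intro m hm
      rw [Set.mem_singleton_iff.1 hm]
      calc x * (n * d * n⁻¹) = n * ((n⁻¹ * x * n) * d) * n⁻¹ := by group
        _ = n * (d * (n⁻¹ * x * n)) * n⁻¹ := by rw [hcomm]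
        _ = n * d * n⁻¹ * x := by group
    intro a ha
    exact ((mem_centralizer_iff.1 (hcx ha)) x rfl).symm
  have : W = D := le_antisymm hWfam.le_dStarOf subset_normalClosure
  show D.Normal
  rw [← this]
  exact hWn

end Cfsg.Agent.S3060
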