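import Cfsg.Statements.S3062
import Mathlib
import Cfsg.Agent.Lib.DStar.Basic
import Cfsg.Agent.Lib.DStar.Replacement

set_option autoImplicit false
open Cfsg
open scoped commutatorElement

namespace Cfsg.Agent.S3062

/-- Let S be a finite p-group, J(S) the subgroup generated by the abelian subgroups of S of largest order and Z(J(S)) its centre. Then Z(S) ≤ D*(S) ≤ Z(J(S)), and every maximal normal abelian subgroup of S contains D*(S). -/
theorem result {S : Type*} [Group S] [Finite S] {p : ℕ} [Fact p.Prime]
    (hS : IsPGroup p S) :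
    Subgroup.center S ≤ Cfsg.dStar S ∧
    Cfsg.dStar S ≤ Cfsg.thompsonSubgroupA S ⊓ Subgroup.centralizer (Cfsg.thompsonSubgroupA S : Set S) ∧
    ∀ A : Subgroup S, A.Normal → IsMulCommutative A →
      (∀ B : Subgroup S, B.Normal → IsMulCommutative B → A ≤ B → B = A) → Cfsg.dStar S ≤ A := by
  open Subgroup Cfsg.Agent.Lib.DStar in
  classical
  haveI := hS.isNilpotent
  obtain ⟨hDc, hDf⟩ := dStar_mem (G := S)
  obtain ⟨N, hNn, hN, hNmax⟩ := exists_maximal_normal_abelian (G := S)
  have hcomm : ∀ B ∈ Cfsg.maxAbelianSubgroups S, B ≤ centralizer (Cfsg.dStar S : Set S) := by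
    by_contra hcon
    push Not at hcon
    obtain ⟨B, ⟨hB, hBD⟩, hBmax⟩ := Set.Finite.exists_maximalFor
      (fun B : Subgroup S => Nat.card ↥(B ⊓ Cfsg.dStar S))
      {B : Subgroup S | B ∈ Cfsg.maxAbelianSubgroups S ∧ ¬ B ≤ centralizer (Cfsg.dStar S : Set S)}
      (Set.toFinite _) hcon
    have hDn : (Cfsg.dStar S).Normal := by
      haveI : (Cfsg.dStar S).Characteristic := by
        refine characteristic_iff_map_le.2 fun φ => ?_
        rw [Cfsg.dStar, (Subgroup.gc_map_comap φ.toMonoidHom).l_sSup]
        refine iSup₂_le fun A hA => mem_family_le_dStar ⟨?_, ?_⟩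
        · refine ⟨⟨?_⟩⟩
          rintro ⟨_, a, ha, rfl⟩ ⟨_, b, hb, rfl⟩
          apply Subtype.ext
          show φ a * φ b = φ b * φ a
          rw [← map_mul, ← map_mul, commute_of_isMulCommutative hA.1 ha hb]
        · intro x h2
          have h3 : (⁅⁅A ⊔ zpowers (φ.symm x), A ⊔ zpowers (φ.symm x)⁆,
              A ⊔ zpowers (φ.symm x)⁆).map φ.toMonoidHom = ⊥ := by
            simp only [map_commutator, Subgroup.map_sup, MonoidHom.map_zpowers]
            simpa using h2
          rw [map_eq_bot_iff_of_injective _ φ.injective] at h3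
          rintro _ ⟨a, ha, rfl⟩
          have h4 := congrArg φ (hA.2 _ h3 a ha)
          simpa using h4
      infer_instance
    have hnorm : ∀ B ∈ Cfsg.maxAbelianSubgroups S, Cfsg.dStar S ≤ normalizer (B : Set S) →
        B ≤ centralizer (Cfsg.dStar S : Set S) := by
      intro B hB hn b hb
      refine mem_centralizer_iff.2 fun a ha => hDf b ?_ a ha
      refine class_two_of_abelian _ hDc b fun a ha w hw => ?_
      have hcD : ⁅a, b⁆ ∈ Cfsg.dStar S := by
        rw [commutatorElement_def, mul_assoc, mul_assoc, ← mul_assoc b]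
        exact mul_mem ha (hDn.conj_mem _ (inv_mem ha) b)
      have hcB : ⁅a, b⁆ ∈ B := by
        rw [commutatorElement_def]
        exact mul_mem ((mem_normalizer_iff.1 (hn ha) b).1 hb) (inv_mem hb)
      rcases hw with hw | rfl
      · exact commute_of_isMulCommutative hDc hcD hw
      · exact commute_of_isMulCommutative hB.1 hcB hb
    have hn : ¬ Cfsg.dStar S ≤ normalizer (B : Set S) := fun h => hBD (hnorm B hB h)
    obtain ⟨B', hB'c, hB'card, hlt, hB'N, -, -⟩ := exists_replacement hS B (Cfsg.dStar S) hB.1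
      hB.2 hDc (by rw [normalizer_eq_top]; exact le_top) hn
    have hB' : B' ∈ Cfsg.maxAbelianSubgroups S :=
      ⟨hB'c, fun X hX => hB'card.symm ▸ hB.2 X hX⟩
    have hlt' : Nat.card ↥(B ⊓ Cfsg.dStar S) < Nat.card ↥(B' ⊓ Cfsg.dStar S) := by
      by_contra h
      exact hlt.ne (eq_of_le_of_card_ge hlt.le (not_lt.1 h))
    have hB'D : B' ≤ centralizer (Cfsg.dStar S : Set S) := by
      by_contra h
      exact absurd (hBmax ⟨hB', h⟩ hlt'.le) (not_le.2 hlt')
    have hDB' : Cfsg.dStar S ≤ B' := by
      have hc : IsMulCommutative ↥(B' ⊔ Cfsg.dStar S) := by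
        rw [show B' ⊔ Cfsg.dStar S = closure ((B' : Set S) ∪ (Cfsg.dStar S : Set S)) by
          rw [Subgroup.closure_union, Subgroup.closure_eq, Subgroup.closure_eq]]
        refine isMulCommutative_closure ?_
        intro u hu v hv
        rcases hu with hu | hu <;> rcases hv with hv | hv
        · exact commute_of_isMulCommutative hB'c hu hv
        · exact (mem_centralizer_iff.1 (hB'D hu) v hv).symm
        · exact mem_centralizer_iff.1 (hB'D hv) u hu
        · exact commute_of_isMulCommutative hDc hu hv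
      rw [eq_of_le_of_card_ge le_sup_left (hB'.2 _ hc)]
      exact le_sup_right
    exact hn (hDB'.trans hB'N)
  refine ⟨mem_family_le_dStar center_mem_family, le_inf ?_ ?_,
    fun A hAn hA hmax => dStar_le_maximal_normal_abelian A hAn hA hmax⟩
  · obtain ⟨B, hBc, hB⟩ := Set.Finite.exists_maximalFor
      (fun B : Subgroup S => Nat.card B) {B : Subgroup S | IsMulCommutative B}
      (Set.toFinite _) ⟨⊥, (inferInstance : IsMulCommutative ↥(⊥ : Subgroup S))⟩
    have hB' : B ∈ Cfsg.maxAbelianSubgroups S := ⟨hBc, fun X hX => by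
      by_contra h
      exact h (hB hX (not_le.1 h).le)⟩
    have hc : IsMulCommutative ↥(B ⊔ Cfsg.dStar S) := by
      rw [show B ⊔ Cfsg.dStar S = closure ((B : Set S) ∪ (Cfsg.dStar S : Set S)) by
        rw [Subgroup.closure_union, Subgroup.closure_eq, Subgroup.closure_eq]]
      refine isMulCommutative_closure ?_
      intro u hu v hv
      rcases hu with hu | hu <;> rcases hv with hv | hv
      · exact commute_of_isMulCommutative hBc hu hv
      · exact (mem_centralizer_iff.1 (hcomm B hB' hu) v hv).symm
      · exact mem_centralizer_iff.1 (hcomm B hB' hv) u hu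
      · exact commute_of_isMulCommutative hDc hu hv
    refine le_trans ?_ (le_sSup hB')
    rw [eq_of_le_of_card_ge le_sup_left (hB'.2 _ hc)]
    exact le_sup_right
  · rw [le_centralizer_iff]
    exact sSup_le hcomm

end Cfsg.Agent.S3062
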