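import Cfsg.Statements.S3063
import Mathlib
import Cfsg.Agent.Lib.DStar.Replacement

set_option autoImplicit false
open Cfsg
open scoped commutatorElement

namespace Cfsg.Agent.S3063

/-- A weak replacement Theorem for metabelian p-groups: let S be a finite p-group whose derived subgroup is abelian and A an abelian subgroup of S of largest possible order. Then the normal closure of A in S contains an abelian subgroup B of the same order as A that is normal in S. -/
theorem result {S : Type*} [Group S] [Finite S] {p : ℕ} [Fact p.Prime]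
    (hS : IsPGroup p S) (hmeta : IsMulCommutative ↥(commutator S))
    (A : Subgroup S) (hA : A ∈ Cfsg.maxAbelianSubgroups S) :
    ∃ B ∈ Cfsg.maxAbelianSubgroups S, B.Normal ∧ B ≤ Subgroup.normalClosure (A : Set S) := by
  open Subgroup Cfsg.Agent.Lib.DStar in
  classical
  have _ := hS
  let R : Subgroup S := normalClosure (A : Set S)
  haveI hRn : R.Normal := normalClosure_normal
  let N : Subgroup S := R ⊓ commutator S
  obtain ⟨B, ⟨hB, hBR⟩, hBmax⟩ := Set.Finite.exists_maximalFor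
    (fun B : Subgroup S => Nat.card ↥(B ⊓ N))
    {B : Subgroup S | B ∈ Cfsg.maxAbelianSubgroups S ∧ B ≤ R}
    (Set.toFinite _) ⟨A, hA, le_normalClosure⟩
  refine ⟨B, hB, ⟨?_⟩, hBR⟩
  intro b hb s
  by_contra hbs
  let M : Subgroup S := closure ((fun a => a * s * a⁻¹ * s⁻¹) '' (B : Set S))
  have hMN : M ≤ N := by
    rw [closure_le]
    rintro _ ⟨a, ha, rfl⟩
    refine ⟨?_, ?_⟩
    · show a * s * a⁻¹ * s⁻¹ ∈ R
      have : a * s * a⁻¹ * s⁻¹ = a * (s * a⁻¹ * s⁻¹) := by group
      rw [this]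
      exact mul_mem (hBR ha) (hRn.conj_mem _ (inv_mem (hBR ha)) s)
    · show a * s * a⁻¹ * s⁻¹ ∈ commutator S
      rw [← commutatorElement_def, commutator_def]
      exact commutator_mem_commutator (mem_top a) (mem_top s)
  have hMc : IsMulCommutative M := ⟨⟨fun u v => Subtype.ext
    (commute_of_isMulCommutative hmeta (hMN u.2).2 (hMN v.2).2)⟩⟩
  obtain ⟨hc, hcard⟩ := replacement_step B hB.1 s M rfl hMc
  set B' : Subgroup S := M ⊔ (B ⊓ centralizer (M : Set S)) with hB'def
  have hB' : B' ∈ Cfsg.maxAbelianSubgroups S := ⟨hc, fun X hX => (hB.2 X hX).trans hcard⟩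
  have hB'R : B' ≤ R := sup_le (fun x hx => (hMN hx).1) (inf_le_left.trans hBR)
  have hle : B ⊓ N ≤ B' ⊓ N := le_inf (fun x hx => mem_sup_right ⟨hx.1,
    mem_centralizer_iff.2 fun w hw => commute_of_isMulCommutative hmeta (hMN hw).2 hx.2.2⟩)
    inf_le_right
  have heq : B ⊓ N = B' ⊓ N :=
    eq_of_le_of_card_ge hle (hBmax ⟨hB', hB'R⟩ (Subgroup.card_le_of_le hle))
  have hMB : M ≤ B := fun x hx =>
    (heq ▸ mem_inf.2 ⟨mem_sup_left hx, hMN hx⟩ : x ∈ B ⊓ N).1
  apply hbs
  have h1 : b⁻¹ * s * b⁻¹⁻¹ * s⁻¹ ∈ B := hMB (subset_closure ⟨b⁻¹, inv_mem hb, rfl⟩)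
  have h2 : s * b * s⁻¹ = b * (b⁻¹ * s * b⁻¹⁻¹ * s⁻¹) := by group
  rw [h2]
  exact mul_mem hb h1

end Cfsg.Agent.S3063
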