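import Cfsg.Statements.S3064
import Mathlib
import Cfsg.Agent.Lib.Frobenius.Kernel
import Cfsg.Agent.Lib.Coprime.Sylow

set_option autoImplicit false
open Cfsg

namespace Cfsg.Agent.S3064

open Subgroup in
/-- The inductive step: if all proper subgroups containing `x` centralize it, `x` is central. -/
theorem central_of_proper {G : Type*} [Group G] [Finite G] {p : ℕ} [hp : Fact p.Prime] (x : G)
    (hxp : IsPGroup p (zpowers x))
    (hR : ∀ R : Subgroup G, IsPGroup p R → x ∈ R → ∀ g : G, g * x * g⁻¹ ∈ R → g * x * g⁻¹ = x)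
    (hb : ∀ H : Subgroup G, (Nat.card H).Coprime p → (∀ h ∈ H, x * h * x⁻¹ ∈ H) →
      ∀ h ∈ H, x * h = h * x)
    (hprop : ∀ L : Subgroup G, L ≠ ⊤ → x ∈ L → L ≤ centralizer {x}) :
    x ∈ center G := by
  classical
  by_contra hx
  let C : Subgroup G := centralizer {x}
  let Z : Subgroup G := center G
  have hZC : Z ≤ C := fun z hz => mem_centralizer_singleton_iff.2 ((mem_center_iff.1 hz x).symm)
  obtain ⟨S, hS⟩ := hxp.exists_le_sylow
  have hxS : x ∈ (S : Subgroup G) := hS (mem_zpowers x)
  have hSC : (S : Subgroup G) ≤ C := by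
    intro s hs
    have := hR _ S.2 hxS s (mul_mem (mul_mem hs hxS) (inv_mem hs))
    exact mem_centralizer_singleton_iff.2 (mul_inv_eq_iff_eq_mul.1 this)
  have hCtop : C ≠ ⊤ := fun h => hx (mem_center_iff.2 fun g => by
    have : g ∈ C := h ▸ mem_top g
    exact mem_centralizer_singleton_iff.1 this)
  have claim : ∀ g : G, g ∉ C → ∀ c ∈ C, g⁻¹ * c * g ∈ C → c ∈ Z := by
    intro g hg c hc hcg
    by_contra hcZ
    have hL : centralizer ({c} : Set G) ≠ ⊤ := fun h => hcZ (mem_center_iff.2 fun y => by
      have : y ∈ centralizer ({c} : Set G) := h ▸ mem_top y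
      exact mem_centralizer_singleton_iff.1 this)
    have hxL : x ∈ centralizer ({c} : Set G) :=
      mem_centralizer_singleton_iff.2 (mem_centralizer_singleton_iff.1 hc).symm
    have hyL : g * x * g⁻¹ ∈ centralizer ({c} : Set G) := by
      refine mem_centralizer_singleton_iff.2 ?_
      have h1 := mem_centralizer_singleton_iff.1 hcg
      calc g * x * g⁻¹ * c = g * (x * (g⁻¹ * c * g)) * g⁻¹ := by group
        _ = g * ((g⁻¹ * c * g) * x) * g⁻¹ := by rw [h1]
        _ = c * (g * x * g⁻¹) := by group
    have hcomm : g * x * g⁻¹ * x = x * (g * x * g⁻¹) :=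
      mem_centralizer_singleton_iff.1 (hprop _ hL hxL hyL)
    let R : Subgroup G := zpowers x ⊔ zpowers (g * x * g⁻¹)
    have hyp : IsPGroup p (zpowers (g * x * g⁻¹)) := by
      have := hxp.map (MulAut.conj g).toMonoidHom
      rwa [MonoidHom.map_zpowers] at this
    have hRp : IsPGroup p R := by
      refine IsPGroup.to_sup_of_normal_right' hxp hyp ?_
      rw [zpowers_le]
      refine mem_normalizer_iff.2 fun z => ?_
      have hz : ∀ z ∈ zpowers (g * x * g⁻¹), x * z * x⁻¹ = z := by
        intro z hz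
        obtain ⟨i, rfl⟩ := mem_zpowers_iff.1 hz
        rw [((show Commute x (g * x * g⁻¹) from hcomm.symm).zpow_right i).eq, mul_inv_cancel_right]
      refine ⟨fun h => (hz z h).symm ▸ h, fun h => ?_⟩
      have h2 := hz _ h
      have : x * z * x⁻¹ = z := by
        have h3 := congrArg (fun w => x⁻¹ * w * x) h2
        simp only [mul_assoc, inv_mul_cancel_left, inv_mul_cancel, mul_one] at h3 ⊢
        exact h3
      rwa [this] at h
    have := hR R hRp (mem_sup_left (mem_zpowers x)) g (mem_sup_right (mem_zpowers _))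
    exact hg (mem_centralizer_singleton_iff.2 (mul_inv_eq_iff_eq_mul.1 this))
  let π : G →* G ⧸ Z := QuotientGroup.mk' Z
  let Hc : Subgroup (G ⧸ Z) := C.map π
  have hcomap : Hc.comap π = C := by
    rw [comap_map_eq, QuotientGroup.ker_mk', sup_eq_left.2 hZC]
  have hFC : Cfsg.IsFrobeniusComplement Hc := by
    refine ⟨fun h => hx ?_, fun h => hCtop ?_, fun g hg => ?_⟩
    · have : π x ∈ Hc := ⟨x, mem_centralizer_singleton_iff.2 rfl, rfl⟩
      rw [h, mem_bot] at this
      exact (QuotientGroup.eq_one_iff x).1 this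
    · rw [← hcomap, h, comap_top]
    · obtain ⟨g, rfl⟩ := QuotientGroup.mk'_surjective Z g
      rw [eq_bot_iff]
      intro w hw
      obtain ⟨c, hc, rfl⟩ := hw.1
      have h2 := Cfsg.Agent.Lib.Frobenius.mem_conj_smul_iff.1 hw.2
      have h2' : g⁻¹ * c * g ∈ C := by
        rw [← hcomap, mem_comap, map_mul, map_mul, map_inv]; exact h2
      refine mem_bot.2 ((QuotientGroup.eq_one_iff c).2 (claim g ?_ c hc h2'))
      exact fun h => hg ⟨g, h, rfl⟩
  obtain ⟨Nq, -, hNn, hNc⟩ := Cfsg.Agent.Lib.Frobenius.exists_kernel hFC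
  haveI := hNn
  let N : Subgroup G := Nq.comap π
  haveI hNnorm : N.Normal := hNn.comap π
  have hidx : Nat.card Nq = C.index := by
    have h1 := hNc.card_mul
    have h2 := card_mul_index Hc
    have h3 : Hc.index = C.index := by
      conv_rhs => rw [← hcomap]
      exact (index_comap_of_surjective _ (QuotientGroup.mk'_surjective Z)).symm
    rw [← h1, mul_comm (Nat.card Nq)] at h2
    rw [← h3]
    exact (Nat.eq_of_mul_eq_mul_left Nat.card_pos h2).symm
  have hpN : ¬ p ∣ Nat.card Nq := fun h => S.not_dvd_index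
    ((hidx ▸ h).trans (index_dvd_of_le hSC))
  have hZN : Z ≤ N := fun z hz => by
    show π z ∈ Nq
    rw [show π z = 1 from (QuotientGroup.eq_one_iff z).2 hz]; exact one_mem _
  have hrel : Z.relIndex N = Nat.card Nq := by
    have := relIndex_ker (K := N) π
    rwa [QuotientGroup.ker_mk', map_comap_eq_self_of_surjective (QuotientGroup.mk'_surjective Z)]
      at this
  have hNC : N ≤ C := by
    rw [← relIndex_eq_one]
    by_contra hne
    obtain ⟨q, hq, hqd⟩ := Nat.exists_prime_and_dvd hne
    haveI := Fact.mk hq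
    by_cases hqp : q = p
    · subst hqp
      exact hpN (hrel ▸ hqd.trans (relIndex_dvd_of_le_left N hZC))
    have hAN : zpowers x ≤ normalizer (N : Set G) := by
      rw [normalizer_eq_top]; exact le_top
    letI := Cfsg.Agent.Lib.Coprime.sylowAction (p := q) hAN
    have hnd : ¬ p ∣ Nat.card (Sylow q N) := by
      obtain ⟨Q⟩ := (inferInstance : Nonempty (Sylow q N))
      intro h
      rw [Q.card_eq_index_normalizer] at h
      apply hpN
      rw [← hrel]
      refine h.trans (index_dvd_of_le (H := Z.subgroupOf N) ?_)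
      intro z hz
      show z ∈ normalizer ((Q : Subgroup N) : Set N)
      rw [mem_normalizer_iff]
      intro w
      have : z * w * z⁻¹ = w := Subtype.ext (by
        show (z : G) * w * (z : G)⁻¹ = w
        have hz' : (z : G) ∈ Z := hz
        rw [← mem_center_iff.1 hz' w, mul_inv_cancel_right])
      rw [this]
    obtain ⟨Q, hQ⟩ := hxp.nonempty_fixed_point_of_prime_not_dvd_card (Sylow q N) hnd
    have hQn := (Cfsg.Agent.Lib.Coprime.sylow_fixed_iff hAN Q).1 hQ
    have hQC : (Q : Subgroup N).map N.subtype ≤ C := by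
      intro h hh
      refine mem_centralizer_singleton_iff.2 (hb _ ?_ ?_ h hh).symm
      · obtain ⟨k, hk⟩ := IsPGroup.iff_card.1 (Q.2.map N.subtype)
        rw [hk]
        exact Nat.Coprime.pow_left k ((Nat.coprime_primes hq hp.out).2 hqp)
      · intro w hw
        exact (mem_normalizer_iff.1 (hQn (mem_zpowers x)) w).1 hw
    refine Q.not_dvd_index (hqd.trans (index_dvd_of_le ?_))
    intro w hw
    exact hQC ⟨w, hw, rfl⟩
  have hNH : Nq ≤ Hc := by
    intro w hw
    obtain ⟨w, rfl⟩ := QuotientGroup.mk'_surjective Z w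
    exact ⟨w, hNC hw, rfl⟩
  have hb' : Nq = ⊥ := by
    have := hNc.disjoint
    exact eq_bot_iff.2 (this le_rfl hNH)
  apply hFC.2.1
  have h1 := hNc.sup_eq_top
  rwa [hb', bot_sup_eq] at h1

/-- Let S be a Sylow p-subgroup of the finite group G and x an element of S such that (i) x is the only G-conjugate of x lying in S, and (ii) x centralizes every subgroup of order prime to p that it normalizes. Then x lies in the centre of G. -/
theorem result {G : Type*} [Group G] [Finite G] {p : ℕ} [Fact p.Prime]
    (S : Sylow p G) (x : G) (hx : x ∈ S)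
    (hU : ∀ g : G, g⁻¹ * x * g ∈ S → g⁻¹ * x * g = x)
    (hb : ∀ H : Subgroup G, (Nat.card H).Coprime p → (∀ h ∈ H, x * h * x⁻¹ ∈ H) → ∀ h ∈ H, x * h = h * x) :
    x ∈ Subgroup.center G := by
  open Subgroup in
  classical
  have key : ∀ n : ℕ, ∀ K : Subgroup G, Nat.card K = n → x ∈ K → K ≤ centralizer {x} := by
    intro n
    induction n using Nat.strong_induction_on with
    | _ n ih =>
      intro K hK hxK k hk
      have hxp : IsPGroup p (zpowers (⟨x, hxK⟩ : K)) := by
        intro w
        obtain ⟨i, hi⟩ := mem_zpowers_iff.1 w.2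
        obtain ⟨j, hj⟩ := S.2 ⟨x, hx⟩
        have hj' : x ^ p ^ j = 1 := by simpa using congrArg Subtype.val hj
        refine ⟨j, Subtype.ext ?_⟩
        rw [SubmonoidClass.coe_pow, OneMemClass.coe_one, ← hi]
        apply Subtype.ext
        show (((⟨x, hxK⟩ : K) ^ i : K) : G) ^ p ^ j = 1
        rw [Subgroup.coe_zpow, ← zpow_natCast, ← zpow_mul, mul_comm, zpow_mul, zpow_natCast, hj',
          one_zpow]
      have hc := central_of_proper (p := p) (⟨x, hxK⟩ : K) hxp ?_ ?_ ?_
      · exact mem_centralizer_singleton_iff.2 (congrArg Subtype.val (mem_center_iff.1 hc ⟨k, hk⟩))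
      · intro R hR hxR g hg
        obtain ⟨T, hT⟩ := (hR.map K.subtype).exists_le_sylow
        obtain ⟨t, ht⟩ := MulAction.exists_smul_eq G S T
        have hmemT : ∀ y ∈ R, t⁻¹ * (y : G) * t ∈ S := fun y hy => by
          have : (y : G) ∈ (T : Subgroup G) := hT ⟨y, hy, rfl⟩
          rw [← ht, Sylow.coe_subgroup_smul, mem_pointwise_smul_iff_inv_smul_mem] at this
          show _ ∈ (S : Subgroup G)
          simpa [← map_inv] using this
        have h1 : t⁻¹ * x * t = x := hU t (hmemT ⟨x, hxK⟩ hxR)
        have h2 : t⁻¹ * ((g : G) * x * (g : G)⁻¹) * t ∈ S := by simpa using hmemT _ hg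
        have h3 := hU ((g : G)⁻¹ * t) (by simpa [mul_assoc] using h2)
        apply Subtype.ext
        show (g : G) * x * (g : G)⁻¹ = x
        calc (g : G) * x * (g : G)⁻¹
            = t * (((g : G)⁻¹ * t)⁻¹ * x * ((g : G)⁻¹ * t)) * t⁻¹ := by group
          _ = x := by rw [h3]; nth_rewrite 1 [← h1]; group
      · intro H hH hn h hh
        apply Subtype.ext
        show x * (h : G) = (h : G) * x
        refine hb (H.map K.subtype) ?_ ?_ h ⟨h, hh, rfl⟩
        · rwa [Subgroup.card_map_of_injective K.subtype_injective]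
        · rintro _ ⟨w, hw, rfl⟩
          exact ⟨_, hn w hw, rfl⟩
      · intro L hL hxL l hl
        have hlt : Nat.card (L.map K.subtype) < n := by
          rw [Subgroup.card_map_of_injective K.subtype_injective, ← hK]
          refine lt_of_le_of_ne (Subgroup.card_le_card_group L) fun h => hL ?_
          exact Subgroup.eq_top_of_card_eq L h
        have := ih _ hlt (L.map K.subtype) rfl ⟨_, hxL, rfl⟩ ⟨l, hl, rfl⟩
        exact mem_centralizer_singleton_iff.2
          (Subtype.ext (mem_centralizer_singleton_iff.1 this))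
  exact Subgroup.mem_center_iff.2 fun g =>
    Subgroup.mem_centralizer_singleton_iff.1 (key _ ⊤ rfl (Subgroup.mem_top x) (Subgroup.mem_top g))

end Cfsg.Agent.S3064
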