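import Cfsg.Statements.S3068
import Cfsg.Agent.Lib.JTransfer.Main

set_option autoImplicit false
open Cfsg
open scoped Pointwise

namespace Cfsg.Agent.S3068

/-- Let p ≥ 7 be a prime, S a Sylow p-subgroup of the finite group G, J(S) the subgroup generated by the abelian subgroups of S of largest order and M = N_G(J(S)). Then G/O^p(G) ≅ M/O^p(M): the largest p-factor group of G is that of M (here O^p(X) is the subgroup generated by the elements of X of order prime to p). -/
theorem result {G : Type*} [Group G] [Finite G] {p : ℕ} [Fact p.Prime]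
    (hp : 7 ≤ p) (S : Sylow p G)
    [hn : (Cfsg.pResidual p G).Normal]
    [hm : (Cfsg.pResidual p ↥(Subgroup.normalizer (Cfsg.thompsonSubgroupAOf (S : Subgroup G) : Set G))).Normal] :
    Nonempty (G ⧸ Cfsg.pResidual p G ≃*
      ↥(Subgroup.normalizer (Cfsg.thompsonSubgroupAOf (S : Subgroup G) : Set G)) ⧸
        Cfsg.pResidual p ↥(Subgroup.normalizer (Cfsg.thompsonSubgroupAOf (S : Subgroup G) : Set G))) := by
  set M := Subgroup.normalizer (Cfsg.thompsonSubgroupAOf (S : Subgroup G) : Set G) with hM
  have hker : ((QuotientGroup.mk' (Cfsg.pResidual p G)).comp M.subtype).ker =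
      Cfsg.pResidual p ↥M := by
    rw [← MonoidHom.comap_ker, QuotientGroup.ker_mk']
    exact Lib.JTransfer.pResidual_subgroupOf_normalizer_J hp S
  have hsurj : Function.Surjective ((QuotientGroup.mk' (Cfsg.pResidual p G)).comp M.subtype) := by
    intro y
    obtain ⟨g, rfl⟩ := QuotientGroup.mk_surjective y
    have htop : Cfsg.pResidual p G ⊔ M = ⊤ := top_le_iff.mp
      ((Lib.Transfer.pResidual_sup_sylow S).symm.le.trans
        (sup_le_sup_left (Subgroup.le_normalizer.trans (Lib.ThompsonA.normalizer_le _)) _))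
    obtain ⟨r, hr, m, hm, rfl⟩ :
        g ∈ ((Cfsg.pResidual p G : Set G) * (M : Set G)) := by
      rw [← Subgroup.normal_mul, htop]; trivial
    refine ⟨⟨m, hm⟩, ?_⟩
    show ((m : G) : G ⧸ Cfsg.pResidual p G) = ((r * m : G) : G ⧸ Cfsg.pResidual p G)
    rw [QuotientGroup.mk_mul, (QuotientGroup.eq_one_iff r).mpr hr, one_mul]
  exact ⟨((QuotientGroup.quotientMulEquivOfEq hker.symm).trans
    (QuotientGroup.quotientKerEquivOfSurjective _ hsurj)).symm⟩

end Cfsg.Agent.S3068
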