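import Cfsg.Statements.S3070
import Cfsg.Agent.Lib.OffenderJ.Main
-- import your own Cfsg.Agent.* helpers here

set_option autoImplicit false
open Cfsg
open scoped commutatorElement

namespace Cfsg.Agent.S3070

/-- Let p ≥ 5 be a prime, S a Sylow p-subgroup of the finite group G and J(S) the subgroup generated by the abelian subgroups of S of largest order. Then G has a normal p-complement if and only if N_G(J(S))/C_G(J(S)) is a p-group (every element of N_G(J(S)) of order prime to p centralizes J(S)). -/
theorem result {G : Type*} [Group G] [Finite G] {p : ℕ} [Fact p.Prime]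
    (hp : 5 ≤ p) (S : Sylow p G) :
    Cfsg.HasNormalPComplement p G ↔
      ∀ g ∈ Subgroup.normalizer (Cfsg.thompsonSubgroupAOf (S : Subgroup G) : Set G), (orderOf g).Coprime p →
        g ∈ Subgroup.centralizer (Cfsg.thompsonSubgroupAOf (S : Subgroup G) : Set G) := by
  set T := Cfsg.thompsonSubgroupAOf (S : Subgroup G) with hT
  have hTS : T ≤ (S : Subgroup G) := Subgroup.map_subtype_le _
  constructor
  · intro h g hg hgp
    refine Subgroup.mem_centralizer_iff.2 fun j hj => ?_
    have hgO : g ∈ Cfsg.pResidual p G := Lib.Transfer.mem_pResidual_of_coprime hgp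
    have h1 : ⁅g, j⁆ ∈ Cfsg.pResidual p G ⊓ (S : Subgroup G) := by
      refine ⟨?_, ?_⟩
      · haveI : (Cfsg.pResidual p G).Normal := Lib.Transfer.pResidual_normal
        exact Subgroup.commutator_le_left _ ⊤
          (Subgroup.commutator_mem_commutator hgO (Subgroup.mem_top j))
      · rw [commutatorElement_def]
        exact hTS (T.mul_mem ((Subgroup.mem_normalizer_iff.1 hg j).1 hj) (T.inv_mem hj))
    rw [(Lib.Transfer.hasNormalPComplement_iff_inf_eq_bot S).1 h, Subgroup.mem_bot,
      commutatorElement_eq_one_iff_mul_comm] at h1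
    exact h1.symm
  · intro h
    refine Lib.OffenderJ.hasNormalPComplement_of_normalizer_J hp S ?_
    refine Lib.Functor.hasNormalPComplement_normalizer_of_automizer S hTS ?_ ?_ h
    · exact Subgroup.le_normalizer.trans (Lib.Functor.normalizer_le_normalizer_functor
        (Lib.Functor.inducedFunctor_isConjugacyFunctor (Lib.OffenderJ.jFun_isCharPFunctor p)) S.2)
    · obtain ⟨A, hA⟩ := Lib.CD.exists_mem_maxAbelianSubgroups (G := (S : Subgroup G))
      rintro x ⟨hxS, hx⟩
      refine ⟨⟨x, hxS⟩, le_sSup hA ?_, rfl⟩
      rw [← Lib.CD.centralizer_maxAbelian hA]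
      refine Subgroup.mem_centralizer_iff.2 fun a ha => Subtype.ext ?_
      exact Subgroup.mem_centralizer_iff.1 hx a ⟨a, le_sSup hA ha, rfl⟩

end Cfsg.Agent.S3070
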