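import Mathlib
import Cfsg.Agent.Lib.KInfinity.NPC
import Cfsg.Statements.S3073
-- import your own Cfsg.Agent.* helpers here

set_option autoImplicit false
universe u
open Cfsg
open scoped commutatorElement Pointwise

namespace Cfsg.Agent.S3073

/-- For an odd prime p, every finite p-group S has a characteristic subgroup K with C_S(K) ≤ K such that, whenever S is (isomorphic to) a Sylow p-subgroup of a finite group G, G has a normal p-complement if and only if N_G(K)/C_G(K) is a p-group, i.e. every element of N_G(K) of order prime to p centralizes K (K transported into G along the isomorphism). -/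
theorem result (p : ℕ) [Fact p.Prime] (hp : p ≠ 2)
    (S : Type u) [Group S] [Finite S] (hS : IsPGroup p S) :
    ∃ K : Subgroup S, K.Characteristic ∧ Subgroup.centralizer (K : Set S) ≤ K ∧
      ∀ (G : Type u) [Group G] [Finite G] (P : Sylow p G) (e : ↥(P : Subgroup G) ≃* S),
        Cfsg.HasNormalPComplement p G ↔
          ∀ g ∈ Subgroup.normalizer (((K.comap (e : ↥(P : Subgroup G) →* S)).map (P : Subgroup G).subtype : Subgroup G) : Set G),
            (orderOf g).Coprime p →
              g ∈ Subgroup.centralizer (((K.comap (e : ↥(P : Subgroup G) →* S)).map (P : Subgroup G).subtype : Subgroup G) : Set G) := by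
  have hK := Lib.KInfinity.kInfLower_isCharPFunctor.{u} p
  refine ⟨Cfsg.kInfLower S, ?_, ?_, fun G _ _ P e => ?_⟩
  · exact Subgroup.characteristic_iff_map_eq.2 fun φ => (Lib.KInfinity.map_kInf_equiv φ).1
  · let P : Sylow p S := IsPGroup.toSylow (P := ⊤) (hS.to_subgroup ⊤) (by
      simpa using (Fact.out : p.Prime).not_dvd_one)
    have hP : (P : Subgroup S) = ⊤ := rfl
    have h := Lib.KInfinity.inf_centralizer_kInfLower_le P
    rw [hP] at h
    have he : Cfsg.inducedFunctor Cfsg.kInfLower (⊤ : Subgroup S) = Cfsg.kInfLower S :=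
      (Lib.KInfinity.map_kInf_equiv (Subgroup.topEquiv (G := S))).1
    rw [he] at h
    intro x hx
    exact h ⟨Subgroup.mem_top x, hx⟩
  · have he : ((Cfsg.kInfLower S).comap (e : ↥(P : Subgroup G) →* S)).map
        (P : Subgroup G).subtype = Cfsg.inducedFunctor Cfsg.kInfLower (P : Subgroup G) := by
      show _ = (Cfsg.kInfLower ↥(P : Subgroup G)).map (P : Subgroup G).subtype
      rw [← (Lib.KInfinity.map_kInf_equiv e).1]
      congr 1
      exact Subgroup.comap_map_eq_self_of_injective e.injective _
    rw [he]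
    refine ⟨fun h g hg hgp => ?_, fun h => Lib.KInfinity.hasNormalPComplement_kInfLower hp P (Or.inr h)⟩
    obtain ⟨Q, M, hM, hc⟩ := h
    haveI := hM
    obtain ⟨k, hk⟩ := Q.2.exists_card_eq
    rw [← hc.symm.index_eq_card] at hk
    have hMp : (Nat.card M).Coprime p := by
      rw [← hc.index_eq_card, Nat.coprime_comm]
      exact (Fact.out : p.Prime).coprime_iff_not_dvd.2 Q.not_dvd_index
    have hgM : g ∈ M := by
      have h1 : orderOf (QuotientGroup.mk' M g) = 1 := by
        refine Nat.eq_one_of_dvd_coprimes (hgp.pow_right k) (orderOf_map_dvd _ g) ?_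
        rw [← hk, Subgroup.index_eq_card]
        exact orderOf_dvd_natCard _
      exact (QuotientGroup.eq_one_iff g).1 (orderOf_eq_one_iff.1 h1)
    refine Subgroup.mem_centralizer_iff.2 fun x hx => ?_
    set K := Cfsg.inducedFunctor Cfsg.kInfLower (P : Subgroup G)
    have hKp : IsPGroup p K := P.2.to_le (Lib.Functor.inducedFunctor_le _)
    have h1 : x * g * x⁻¹ * g⁻¹ ∈ K ⊓ M := by
      refine Subgroup.mem_inf.2 ⟨?_, ?_⟩
      · have h2 := (Subgroup.mem_normalizer_iff.1 hg x⁻¹).1 (inv_mem hx)
        have h3 := mul_mem hx h2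
        simpa [mul_assoc] using h3
      · exact mul_mem (hM.conj_mem g hgM x) (inv_mem hgM)
    have h4 : K ⊓ M = ⊥ := Subgroup.inf_eq_bot_of_coprime (hKp.exists_card_eq.elim fun j hj => by
      rw [hj]
      exact (hMp.symm).pow_left j)
    rw [h4, Subgroup.mem_bot, mul_inv_eq_one, mul_inv_eq_iff_eq_mul] at h1
    exact h1

end Cfsg.Agent.S3073
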