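import Cfsg.Statements.S3074
import Mathlib
import Cfsg.Agent.Lib.QdP.Involves
import Cfsg.Agent.Lib.ExtraCube.Basic

set_option autoImplicit false
open Cfsg

namespace Cfsg.Agent.S3074

open Cfsg.Agent.Lib.QdP Matrix in
/-- The upper unitriangular group is a maximal `p`-subgroup of `Qd(p)` and has order `p ^ 3`. -/
theorem uni_facts {p : ℕ} [Fact p.Prime] (hp : p ≠ 2) :
    Nat.card (uniUpper p) = p ^ 3 ∧
    ∀ R : Subgroup (Matrix.SpecialLinearGroup (Fin 3) (ZMod p)), IsPGroup p R → R ≤ Cfsg.qd p →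
      uniUpper p ≤ R → R = uniUpper p := by
  classical
  refine ⟨?_, ?_⟩
  · let e : (uniUpper p) ≃ ZMod p × ZMod p × ZMod p :=
      { toFun := fun M => (M.1.1 0 1, M.1.1 1 2, M.1.1 0 2)
        invFun := fun v => ⟨⟨!![1, v.1, v.2.2; 0, 1, v.2.1; 0, 0, 1], by simp [Matrix.det_fin_three]⟩,
          by change _ ∧ _; simp⟩
        left_inv := fun M => by
          obtain ⟨a1, a2, a3, a4, a5, a6⟩ := M.2
          apply Subtype.ext; apply Subtype.ext
          ext i j
          fin_cases i <;> fin_cases j <;> simp [a1, a2, a3, a4, a5, a6]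
        right_inv := fun v => by simp }
    rw [Nat.card_congr e, Nat.card_prod, Nat.card_prod, Nat.card_zmod]
    ring
  · intro R hR hRq hUR
    refine le_antisymm ?_ hUR
    by_contra hnot
    have hlt : (uniUpper p).subgroupOf R < ⊤ :=
      lt_top_iff_ne_top.2 fun e => hnot (Subgroup.subgroupOf_eq_top.1 e)
    haveI := hR.isNilpotent
    obtain ⟨y, hy, hyn⟩ :=
      SetLike.exists_of_lt (Group.normalizerCondition_of_isNilpotent (G := R) _ hlt)
    rw [← Subgroup.subgroupOf_normalizer_eq hUR, Subgroup.mem_subgroupOf] at hy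
    apply hyn
    rw [Subgroup.mem_subgroupOf]
    generalize hM : (y : Matrix.SpecialLinearGroup (Fin 3) (ZMod p)) = M at hy
    have hMR : M ∈ R := hM ▸ y.2
    let A : Subgroup (Matrix.SpecialLinearGroup (Fin 3) (ZMod p)) :=
      { carrier := {M | M.1 2 0 = 0 ∧ M.1 2 1 = 0 ∧ M.1 2 2 = 1}
        one_mem' := by simp
        mul_mem' := fun {a b} ha hb => by
          obtain ⟨a1, a2, a3⟩ := ha
          obtain ⟨b1, b2, b3⟩ := hb
          simp [Matrix.mul_apply, Fin.sum_univ_three, a1, a2, a3, b1, b2, b3]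
        inv_mem' := fun {a} ha => by
          obtain ⟨a1, a2, a3⟩ := ha
          have h := congrArg Subtype.val (mul_inv_cancel a)
          rw [Matrix.SpecialLinearGroup.coe_mul, Matrix.SpecialLinearGroup.coe_one] at h
          have h0 := congrFun (congrFun h 2) 0
          have h1 := congrFun (congrFun h 2) 1
          have h2 := congrFun (congrFun h 2) 2
          simp [Matrix.mul_apply, Fin.sum_univ_three, a1, a2, a3] at h0 h1 h2
          exact ⟨h0, h1, h2⟩ }
    have hqA : Cfsg.qd p ≤ A := (Subgroup.closure_le A).2 fun x hx => hx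
    obtain ⟨h20, h21, h22⟩ := hqA (hRq hMR)
    let t : Matrix.SpecialLinearGroup (Fin 3) (ZMod p) :=
      ⟨!![1, 1, 0; 0, 1, 0; 0, 0, 1], by simp [Matrix.det_fin_three]⟩
    have ht : t ∈ uniUpper p := by change _ ∧ _; simp [t]
    have hu := (Subgroup.mem_normalizer_iff.1 hy t).1 ht
    generalize hue : M * t * M⁻¹ = u at hu
    have hMt : M * t = u * M := by rw [← hue]; group
    obtain ⟨u1, u2, u3, u4, u5, u6⟩ := hu
    have h11 : (M * t).1 1 1 = (u * M).1 1 1 := by rw [hMt]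
    rw [Matrix.SpecialLinearGroup.coe_mul, Matrix.SpecialLinearGroup.coe_mul] at h11
    simp [t, Matrix.mul_apply, Fin.sum_univ_three, u1, u5, h21] at h11
    have hpw : ∀ n : ℕ, (M ^ n).1 1 0 = 0 ∧ (M ^ n).1 0 0 = M.1 0 0 ^ n ∧
        (M ^ n).1 1 1 = M.1 1 1 ^ n ∧ (M ^ n).1 2 0 = 0 ∧ (M ^ n).1 2 1 = 0 := by
      intro n
      induction n with
      | zero => simp
      | succ n ih =>
        obtain ⟨i1, i2, i3, i4, i5⟩ := ih
        rw [pow_succ M, pow_succ (M.1 0 0), pow_succ (M.1 1 1)]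
        generalize M ^ n = N at i1 i2 i3 i4 i5 ⊢
        simp [Matrix.SpecialLinearGroup.coe_mul, Matrix.mul_apply, Fin.sum_univ_three, i1, i2, i3, i4, i5, h11, h20, h21]
    obtain ⟨k, hk⟩ := hR ⟨M, hMR⟩
    have hk' : M ^ p ^ k = 1 := by simpa using congrArg Subtype.val hk
    obtain ⟨-, q0, q1, -, -⟩ := hpw (p ^ k)
    rw [hk', ZMod.pow_card_pow] at q0 q1
    exact ⟨h11, h20, h21, by simpa using q0.symm, by simpa using q1.symm, h22⟩

/-- Let p be an odd prime. A Sylow p-subgroup of Qd(p), the split extension of an elementary abelian group of order p² by SL₂(p) acting naturally, is extraspecial of order p³ and exponent p. -/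
theorem result (p : ℕ) [Fact p.Prime] (hp : p ≠ 2) (P : Sylow p ↥(Cfsg.qd p)) :
    Cfsg.IsExtraspecial p ↥P ∧ Nat.card P = p ^ 3 ∧ Monoid.exponent ↥P = p := by
  open Cfsg.Agent.Lib.QdP in
  classical
  obtain ⟨hc, hmax⟩ := uni_facts (p := p) hp
  have hUp : IsPGroup p ((uniUpper p).subgroupOf (Cfsg.qd p)) :=
    (isPGroup_uniUpper hp).of_equiv (Subgroup.subgroupOfEquivOfLe uniUpper_le_qd).symm
  obtain ⟨Q, hQ⟩ := hUp.exists_le_sylow
  have hQU : (Q : Subgroup (Cfsg.qd p)) = (uniUpper p).subgroupOf (Cfsg.qd p) := by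
    have h := hmax ((Q : Subgroup (Cfsg.qd p)).map (Cfsg.qd p).subtype) (Q.2.map _)
      (Subgroup.map_subtype_le _) (fun x hx => ⟨⟨x, uniUpper_le_qd hx⟩, hQ hx, rfl⟩)
    refine le_antisymm (fun y hy => ?_) hQ
    show (y : Matrix.SpecialLinearGroup (Fin 3) (ZMod p)) ∈ uniUpper p
    rw [← h]
    exact ⟨y, hy, rfl⟩
  obtain ⟨g, hg⟩ := MulAction.exists_smul_eq (Cfsg.qd p) Q P
  let e : ↥(Q : Subgroup (Cfsg.qd p)) ≃* ↥(P : Subgroup (Cfsg.qd p)) :=
    (Sylow.equiv Q P)
  have hQcard : Nat.card (Q : Subgroup (Cfsg.qd p)) = p ^ 3 := by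
    rw [hQU, ← hc]
    exact Nat.card_congr (Subgroup.subgroupOfEquivOfLe uniUpper_le_qd).toEquiv
  have hcard : Nat.card (P : Subgroup (Cfsg.qd p)) = p ^ 3 := by
    rw [← hQcard]; exact (Nat.card_congr e.toEquiv).symm
  have hQpow : ∀ x ∈ (Q : Subgroup (Cfsg.qd p)), x ^ p = 1 := fun x hx => by
    rw [hQU] at hx
    exact Subtype.ext (by simpa using uniUpper_pow_eq_one hp hx)
  have hpow : ∀ x : (P : Subgroup (Cfsg.qd p)), x ^ p = 1 := fun x => by
    have h1 : (e.symm x) ^ p = 1 := Subtype.ext (by simpa using hQpow _ (e.symm x).2)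
    simpa using congrArg e h1
  obtain ⟨S, hS, a, ha, b, hb, hab⟩ := exists_noncomm_pSubgroup_qd (p := p) hp
  obtain ⟨T, hT⟩ := hS.exists_le_sylow
  let e' : ↥(T : Subgroup (Cfsg.qd p)) ≃* ↥(P : Subgroup (Cfsg.qd p)) := Sylow.equiv T P
  have hne : ∃ u v : (P : Subgroup (Cfsg.qd p)), u * v ≠ v * u := by
    refine ⟨e' ⟨a, hT ha⟩, e' ⟨b, hT hb⟩, fun h => hab ?_⟩
    rw [← map_mul, ← map_mul] at h
    exact congrArg Subtype.val (e'.injective h)
  refine ⟨Cfsg.Agent.Lib.ExtraCube.isExtraspecial hcard hne hpow, hcard, ?_⟩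
  have hd : Monoid.exponent ↥(P : Subgroup (Cfsg.qd p)) ∣ p :=
    Monoid.exponent_dvd_of_forall_pow_eq_one hpow
  refine ((Fact.out : p.Prime).eq_one_or_self_of_dvd _ hd).resolve_left fun h1 => ?_
  obtain ⟨u, v, huv⟩ := hne
  haveI : Subsingleton ↥(P : Subgroup (Cfsg.qd p)) := Monoid.exp_eq_one_iff.1 h1
  exact huv (Subsingleton.elim _ _)

end Cfsg.Agent.S3074
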