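import Cfsg.Statements.S3075
import Mathlib

set_option autoImplicit false
open Cfsg

namespace Cfsg.Agent.S3075

/-- Two elements normalizing a subgroup of prime order induce commuting automorphisms on it. -/
theorem conj_comm_of_prime {N : Type*} [Group N] [Finite N] {p : ℕ} [hp : Fact p.Prime]
    (X : Subgroup N) (hX : Nat.card X = p) (hn : ∀ n : N, ∀ x ∈ X, n * x * n⁻¹ ∈ X)
    (n m x : N) (hx : x ∈ X) : (n * m) * x * (n * m)⁻¹ = (m * n) * x * (m * n)⁻¹ := by
  haveI : IsCyclic X := isCyclic_of_prime_card hX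
  obtain ⟨g, hg⟩ := IsCyclic.exists_generator (α := X)
  have pw : ∀ k : N, ∃ i : ℤ, ∀ y ∈ X, k * y * k⁻¹ = y ^ i := by
    intro k
    obtain ⟨i, hi⟩ := Subgroup.mem_zpowers_iff.1 (hg ⟨k * g * k⁻¹, hn k g g.2⟩)
    refine ⟨i, fun y hy => ?_⟩
    obtain ⟨j, hj⟩ := Subgroup.mem_zpowers_iff.1 (hg ⟨y, hy⟩)
    have hy' : y = (g : N) ^ j := by simpa using (congrArg Subtype.val hj).symm
    have hi' : k * (g : N) * k⁻¹ = (g : N) ^ i := by simpa using (congrArg Subtype.val hi).symm
    rw [hy', ← conj_zpow, hi', ← zpow_mul, ← zpow_mul, mul_comm]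
  obtain ⟨i, hi⟩ := pw n
  obtain ⟨j, hj⟩ := pw m
  have h1 : (n * m) * x * (n * m)⁻¹ = n * (m * x * m⁻¹) * n⁻¹ := by group
  have h2 : (m * n) * x * (m * n)⁻¹ = m * (n * x * n⁻¹) * m⁻¹ := by group
  rw [h1, h2, hj x hx, hi x hx, hi _ (X.zpow_mem hx j), hj _ (X.zpow_mem hx i), ← zpow_mul,
    ← zpow_mul, mul_comm]

/-- Let p be an odd prime and N a finite group with a normal elementary abelian subgroup A of order p² that is its own centralizer in N, such that N/A is isomorphic to SL₂(p) (over any field F with p elements). Then N splits over A: some subgroup U of N satisfies A ∩ U = 1 and AU = N. -/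
theorem result {N : Type*} [Group N] [Finite N] {p : ℕ} [Fact p.Prime] (hp : p ≠ 2)
    (A : Subgroup N) [A.Normal] (hAcomm : IsMulCommutative A) (hAcard : Nat.card A = p ^ 2) (hAexp : Monoid.exponent ↥A = p)
    (hAself : Subgroup.centralizer (A : Set N) = A)
    {F : Type*} [Field F] [Fintype F] (hF : Fintype.card F = p) (e : N ⧸ A ≃* Matrix.SpecialLinearGroup (Fin 2) F) :
    ∃ U : Subgroup N, A ⊓ U = ⊥ ∧ A ⊔ U = ⊤ := by
  classical
  have hp' : p.Prime := Fact.out
  have hodd : Odd p := hp'.odd_of_ne_two hp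
  have hAc : ∀ a ∈ A, ∀ b ∈ A, a * b = b * a := fun a ha b hb =>
    congrArg Subtype.val (hAcomm.is_comm.comm ⟨a, ha⟩ ⟨b, hb⟩)
  have hApow : ∀ a ∈ A, a ^ p = 1 := fun a ha => by
    have h := Monoid.pow_exponent_eq_one (⟨a, ha⟩ : A)
    rw [hAexp] at h
    simpa using congrArg Subtype.val h
  have two_free : ∀ a ∈ A, a * a = 1 → a = 1 := by
    intro a ha h
    obtain ⟨k, hk⟩ := hodd
    have := hApow a ha
    rwa [hk, pow_succ, pow_mul, sq, h, one_pow, one_mul] at this
  -- the element `-1`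
  haveI : Fact (Even (Fintype.card (Fin 2))) := ⟨⟨1, rfl⟩⟩
  obtain ⟨z, hz⟩ : ∃ z : N ⧸ A, e z = -1 := ⟨e.symm (-1), e.apply_symm_apply _⟩
  have hF2 : (1 : F) ≠ -1 := by
    intro h
    have h2 : ((2 : ℕ) : F) = 0 := by push_cast; linear_combination h
    have h3 : ((p : ℕ) : F) = 0 := by rw [← hF]; exact Nat.cast_card_eq_zero F
    have hc : Nat.Coprime 2 p := (Nat.coprime_primes Nat.prime_two hp').2 (Ne.symm hp)
    haveI := CharP.ringChar_ne_one (R := F)
    have d2 := (ringChar.spec F 2).1 h2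
    have d3 := (ringChar.spec F p).1 h3
    exact this (Nat.dvd_one.1 (hc ▸ Nat.dvd_gcd d2 d3))
  have hz2 : z * z = 1 := e.injective (by rw [map_mul, hz, map_one, neg_mul_neg, one_mul])
  have hz1 : z ≠ 1 := by
    intro h
    rw [h, map_one] at hz
    have := congrArg (fun M : Matrix.SpecialLinearGroup (Fin 2) F =>
      (M : Matrix (Fin 2) (Fin 2) F) 0 0) hz
    simp at this
    exact hF2 this
  have hzc : ∀ w, w * z = z * w := fun w => e.injective (by
    rw [map_mul, map_mul, hz, mul_neg_one, neg_one_mul])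
  obtain ⟨t0, rfl⟩ := QuotientGroup.mk_surjective z
  let t : N := t0 ^ (p ^ 2)
  have htA : (t : N ⧸ A) = (t0 : N ⧸ A) := by
    obtain ⟨k, hk⟩ := (hodd.pow : Odd (p ^ 2))
    show ((t0 ^ (p ^ 2) : N) : N ⧸ A) = _
    rw [QuotientGroup.mk_pow, hk, pow_succ, pow_mul, sq, hz2, one_pow, one_mul]
  have ht2 : t * t = 1 := by
    have h2 : t0 * t0 ∈ A := by rw [← QuotientGroup.eq_one_iff, QuotientGroup.mk_mul, hz2]
    show t0 ^ (p ^ 2) * t0 ^ (p ^ 2) = 1
    rw [← (Commute.refl t0).mul_pow, sq, pow_mul, hApow _ h2, one_pow]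
  have htnA : t ∉ A := fun h => hz1 (by rw [← htA]; exact (QuotientGroup.eq_one_iff t).2 h)
  have htinv : t⁻¹ = t := inv_eq_of_mul_eq_one_right ht2
  -- conjugation of `t` moves inside `t A`
  have hcomm : ∀ n : N, ∃ a ∈ A, n * t * n⁻¹ = t * a := by
    intro n
    refine ⟨t⁻¹ * (n * t * n⁻¹), ?_, by group⟩
    rw [← QuotientGroup.eq_one_iff]
    simp only [QuotientGroup.mk_mul, QuotientGroup.mk_inv, htA]
    rw [hzc, mul_inv_cancel_right, inv_mul_cancel]
  have act : ∀ n : N, ∀ x ∈ A, t * (n * x * n⁻¹) * t⁻¹ = n * (t * x * t⁻¹) * n⁻¹ := by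
    intro n x hx
    obtain ⟨a, ha, hna⟩ := hcomm n
    have hnx : n * x * n⁻¹ ∈ A := (inferInstance : A.Normal).conj_mem x hx n
    calc t * (n * x * n⁻¹) * t⁻¹ = t * (a * (n * x * n⁻¹) * a⁻¹) * t⁻¹ := by
          rw [hAc a ha _ hnx, mul_inv_cancel_right]
      _ = (t * a) * (n * x * n⁻¹) * (t * a)⁻¹ := by group
      _ = n * (t * x * t⁻¹) * n⁻¹ := by rw [← hna]; group
  let C : Subgroup N := Subgroup.centralizer {t}
  by_cases hX : A ⊓ C = ⊥
  · -- `t` inverts `A`
    have hinv : ∀ a ∈ A, t * a * t⁻¹ = a⁻¹ := by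
      intro a ha
      have hta : t * a * t⁻¹ ∈ A := (inferInstance : A.Normal).conj_mem a ha t
      have hb : a * (t * a * t⁻¹) ∈ A ⊓ C := by
        refine ⟨mul_mem ha hta, Subgroup.mem_centralizer_singleton_iff.2 ?_⟩
        rw [htinv]
        calc a * (t * a * t) * t = a * (t * a) * (t * t) := by group
          _ = (a * (t * a * t⁻¹)) * t := by rw [ht2]; group
          _ = ((t * a * t⁻¹) * a) * t := by rw [hAc a ha _ hta]
          _ = t * (a * (t * a * t)) := by
            rw [htinv]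
            calc t * a * t * a * t = (t * a * t) * (a * t) := by group
              _ = t * (a * (t * a * t)) := by group
      rw [hX, Subgroup.mem_bot] at hb
      exact eq_inv_of_mul_eq_one_right hb
    refine ⟨C, hX, top_le_iff.1 fun n _ => ?_⟩
    obtain ⟨a, ha, hna⟩ := hcomm n
    obtain ⟨k, hk⟩ := hodd
    let b := a ^ (k + 1)
    have hbA : b ∈ A := A.pow_mem ha _
    have hb2 : b * b = a := by
      show a ^ (k + 1) * a ^ (k + 1) = a
      rw [← pow_add, show k + 1 + (k + 1) = p + 1 by omega, pow_succ, hApow a ha, one_mul]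
    have hbn : b * n ∈ C := by
      refine Subgroup.mem_centralizer_singleton_iff.2 ?_
      have h2 : t * b⁻¹ * t⁻¹ = b := by rw [hinv _ (inv_mem hbA), inv_inv]
      have h3 : t⁻¹ * b * t = b⁻¹ := by
        nth_rewrite 1 [← h2]; group
      calc b * n * t = b * (n * t * n⁻¹) * n := by group
        _ = t * ((t⁻¹ * b * t) * a) * n := by rw [hna]; group
        _ = t * (b⁻¹ * (b * b)) * n := by rw [h3, hb2]
        _ = t * (b * n) := by group
    have : n = b⁻¹ * (b * n) := by group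
    rw [this]
    exact mul_mem (Subgroup.mem_sup_left (inv_mem hbA)) (Subgroup.mem_sup_right hbn)
  · exfalso
    let X : Subgroup N := A ⊓ C
    let Y : Subgroup N :=
      { carrier := {a | a ∈ A ∧ t * a * t⁻¹ = a⁻¹}
        one_mem' := ⟨one_mem A, by simp⟩
        mul_mem' := fun {a b} ha hb => ⟨mul_mem ha.1 hb.1, by
          rw [← conj_mul, ha.2, hb.2, mul_inv_rev]
          exact hAc _ (inv_mem ha.1) _ (inv_mem hb.1)⟩
        inv_mem' := fun {a} ha => ⟨inv_mem ha.1, by rw [← conj_inv, ha.2]⟩ }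
    have hXmem : ∀ x, x ∈ X ↔ x ∈ A ∧ t * x * t⁻¹ = x := fun x => by
      show x ∈ A ∧ x ∈ C ↔ _
      refine and_congr_right fun _ => ?_
      rw [Subgroup.mem_centralizer_singleton_iff, mul_inv_eq_iff_eq_mul]
      exact eq_comm
    have hXn : ∀ n : N, ∀ x ∈ X, n * x * n⁻¹ ∈ X := by
      intro n x hx
      rw [hXmem] at hx ⊢
      exact ⟨(inferInstance : A.Normal).conj_mem x hx.1 n, by rw [act n x hx.1, hx.2]⟩
    have hYn : ∀ n : N, ∀ x ∈ Y, n * x * n⁻¹ ∈ Y := by
      intro n x hx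
      exact ⟨(inferInstance : A.Normal).conj_mem x hx.1 n, by rw [act n x hx.1, hx.2, conj_inv]⟩
    have hXY : X ⊓ Y = ⊥ := by
      rw [eq_bot_iff]
      intro x hx
      have h1 := ((hXmem x).1 hx.1).2
      have h2 := hx.2.2
      rw [h1] at h2
      exact Subgroup.mem_bot.2 (two_free x hx.2.1 (by nth_rewrite 2 [h2]; exact mul_inv_cancel x))
    have hYA : Y ≤ A := fun x hx => hx.1
    have hXA : X ≤ A := inf_le_left
    have hXne : X ≠ A := by
      intro h
      apply htnA
      rw [← hAself]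
      refine Subgroup.mem_centralizer_iff.2 fun a ha => ?_
      exact (Subgroup.mem_centralizer_singleton_iff.1 ((h ▸ ha : a ∈ X)).2)
    have hYne : Y ≠ ⊥ := by
      intro h
      apply hXne
      refine le_antisymm hXA fun a ha => (hXmem a).2 ⟨ha, ?_⟩
      have hta : t * a * t⁻¹ ∈ A := (inferInstance : A.Normal).conj_mem a ha t
      have : a * (t * a * t⁻¹)⁻¹ ∈ Y := by
        refine ⟨mul_mem ha (inv_mem hta), ?_⟩
        have hb : t * (t * a * t⁻¹) * t⁻¹ = a := by
          calc t * (t * a * t⁻¹) * t⁻¹ = (t * t) * a * (t * t)⁻¹ := by group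
            _ = a := by rw [ht2]; group
        calc t * (a * (t * a * t⁻¹)⁻¹) * t⁻¹
            = (t * a * t⁻¹) * (t * (t * a * t⁻¹) * t⁻¹)⁻¹ := by group
          _ = (t * a * t⁻¹) * a⁻¹ := by rw [hb]
          _ = (a * (t * a * t⁻¹)⁻¹)⁻¹ := by group
      rw [h, Subgroup.mem_bot, mul_inv_eq_one] at this
      exact this.symm
    have prime_card : ∀ Z : Subgroup N, Z ≤ A → Z ≠ ⊥ → Z ≠ A → Nat.card Z = p := by
      intro Z hZ h0 h1
      have hd : Nat.card Z ∣ p ^ 2 := hAcard ▸ Subgroup.card_dvd_of_le hZ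
      obtain ⟨j, hj, hjc⟩ := (Nat.dvd_prime_pow hp').1 hd
      interval_cases j
      · exact absurd (Subgroup.card_eq_one.1 (by simpa using hjc)) h0
      · simpa using hjc
      · exact absurd (Subgroup.eq_of_le_of_card_ge hZ (by rw [hjc, hAcard])) h1
    have hXc : Nat.card X = p := prime_card X hXA hX hXne
    have hYne' : Y ≠ A := by
      intro h
      apply hX
      have : X ⊓ Y = X := inf_eq_left.2 (h ▸ hXA)
      exact this.symm.trans hXY
    have hYc : Nat.card Y = p := prime_card Y hYA hYne hYne'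
    have hsup : X ⊔ Y = A := by
      refine le_antisymm (sup_le hXA hYA) ?_
      have hd : p ^ 2 ≤ Nat.card (X ⊔ Y : Subgroup N) := by
        have hinj : Function.Injective (fun q : X × Y =>
            (⟨(q.1 : N) * (q.2 : N), mul_mem (Subgroup.mem_sup_left q.1.2)
              (Subgroup.mem_sup_right q.2.2)⟩ : (X ⊔ Y : Subgroup N))) := by
          intro a b hab
          exact Subgroup.mul_injective_of_disjoint (disjoint_iff.2 hXY) (congrArg Subtype.val hab)
        have := Nat.card_le_card_of_injective _ hinj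
        rwa [Nat.card_prod, hXc, hYc, ← sq] at this
      exact (Subgroup.eq_of_le_of_card_ge (sup_le hXA hYA) (hAcard ▸ hd)).ge
    have hab : ∀ n m : N, ((n * m : N) : N ⧸ A) = ((m * n : N) : N ⧸ A) := by
      intro n m
      rw [QuotientGroup.eq]
      rw [← hAself, Subgroup.mem_centralizer_iff_commutator_eq_one]
      intro a ha
      have key : (n * m) * a * (n * m)⁻¹ = (m * n) * a * (m * n)⁻¹ := by
        have hle : X ⊔ Y ≤ (MulAut.conj (n * m)).toMonoidHom.eqLocus
            (MulAut.conj (m * n)).toMonoidHom :=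
          sup_le (fun x hx => conj_comm_of_prime X hXc hXn n m x hx)
            (fun x hx => conj_comm_of_prime Y hYc hYn n m x hx)
        exact hle (hsup.symm ▸ ha : a ∈ X ⊔ Y)
      calc a * ((n * m)⁻¹ * (m * n)) * a⁻¹ * ((n * m)⁻¹ * (m * n))⁻¹
          = (n * m)⁻¹ * ((n * m) * a * (n * m)⁻¹) * (((m * n) * a * (m * n)⁻¹))⁻¹ * (n * m) := by
            group
        _ = 1 := by rw [key]; group
    let u : Matrix.SpecialLinearGroup (Fin 2) F := ⟨!![1, 1; 0, 1], by simp [Matrix.det_fin_two]⟩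
    let v : Matrix.SpecialLinearGroup (Fin 2) F := ⟨!![1, 0; 1, 1], by simp [Matrix.det_fin_two]⟩
    obtain ⟨n, hn⟩ := QuotientGroup.mk_surjective (e.symm u)
    obtain ⟨m, hm⟩ := QuotientGroup.mk_surjective (e.symm v)
    have huv : u * v = v * u := e.symm.injective (by
      rw [map_mul, map_mul, ← hn, ← hm]; simpa using hab n m)
    have := congrFun (congrFun (congrArg Subtype.val huv) 0) 0
    change (!![1, 1; 0, 1] * !![1, 0; 1, 1] : Matrix (Fin 2) (Fin 2) F) 0 0 =
      (!![1, 0; 1, 1] * !![1, 1; 0, 1] : Matrix (Fin 2) (Fin 2) F) 0 0 at this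
    simp [Matrix.mul_apply, Fin.sum_univ_two] at this

end Cfsg.Agent.S3075
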