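import Cfsg.Statements.S3076
import Mathlib
import Cfsg.Agent.Lib.SylowAux58.Basic
import Cfsg.Agent.Lib.PSolvable.Core
import Cfsg.Agent.Lib.Transfer.Criteria

set_option autoImplicit false
open Cfsg

namespace Cfsg.Agent.S3076

open Subgroup Cfsg.Agent.Lib in
/-- The statement inside `M = N(H)`. -/
theorem core {M : Type*} [Group M] [Finite M] {p : ℕ} [Fact p.Prime] (R : Sylow p M)
    (H : Subgroup M) [H.Normal] (hHR : H ≤ (R : Subgroup M)) (C : Subgroup M) [hCn : C.Normal]
    (hC : C = centralizer (H : Set M)) :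
    (H ≤ (Cfsg.pCore p (M ⧸ C)).comap (QuotientGroup.mk' C) ∧
      ¬ p ∣ H.relIndex ((Cfsg.pCore p (M ⧸ C)).comap (QuotientGroup.mk' C))) ↔
    ((R : Subgroup M) ⊓ C ≤ H ∧ Cfsg.pPrimePCore p M = H ⊔ C) := by
  classical
  let W : Subgroup M := Cfsg.pPrimeCore p M
  haveI hWn : W.Normal := by
    haveI := PSolvable.pPrimeCore_characteristic (p := p) (G := M)
    infer_instance
  let Q : Subgroup M := (Cfsg.pCore p (M ⧸ C)).comap (QuotientGroup.mk' C)
  let K : Subgroup M := Cfsg.pPrimePCore p M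
  change (H ≤ Q ∧ ¬ p ∣ H.relIndex Q) ↔ (_ ∧ K = H ⊔ C)
  haveI : (Cfsg.pCore p (M ⧸ C)).Normal := by
    haveI := PSolvable.pCore_characteristic (p := p) (G := M ⧸ C)
    infer_instance
  haveI hQn : Q.Normal := Subgroup.Normal.comap inferInstance _
  haveI hKn : K.Normal := PSolvable.pPrimePCore_normal
  have hHp : IsPGroup p H := R.2.to_le hHR
  have hWC : W ≤ C := by
    rw [hC, ← commutator_eq_bot_iff_le_centralizer]
    refine le_bot_iff.1 ((commutator_le_inf _ _).trans ?_)
    rw [inf_comm]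
    exact (PSolvable.inf_eq_bot_of_isPGroup_of_coprime hHp PSolvable.pPrimeCore_coprime).le
  have hHQ : H ≤ Q := by
    rw [← map_le_iff_le_comap]
    haveI : (H.map (QuotientGroup.mk' C)).Normal :=
      Subgroup.Normal.map inferInstance _ (QuotientGroup.mk'_surjective C)
    exact PSolvable.le_pCore (hHp.map _)
  have hCQ : C ≤ Q := fun c hc => by
    show QuotientGroup.mk' C c ∈ Cfsg.pCore p (M ⧸ C)
    rw [QuotientGroup.mk'_apply, (QuotientGroup.eq_one_iff c).2 hc]; exact one_mem _
  have hKQ : K ≤ Q := by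
    rw [← map_le_iff_le_comap]
    haveI : (K.map (QuotientGroup.mk' C)).Normal :=
      Subgroup.Normal.map inferInstance _ (QuotientGroup.mk'_surjective C)
    refine PSolvable.le_pCore ?_
    rintro ⟨_, x, hx, rfl⟩
    obtain ⟨j, hj⟩ := PSolvable.pCore_isPGroup (p := p) (G := M ⧸ W)
      ⟨QuotientGroup.mk' W x, hx⟩
    refine ⟨j, Subtype.ext ?_⟩
    have hj' : x ^ p ^ j ∈ W := by
      have := congrArg Subtype.val hj
      rw [SubmonoidClass.coe_pow, OneMemClass.coe_one, ← map_pow] at this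
      exact (QuotientGroup.eq_one_iff _).1 this
    rw [SubmonoidClass.coe_pow, OneMemClass.coe_one, ← map_pow]
    exact (QuotientGroup.eq_one_iff _).2 (hWC hj')
  obtain ⟨k, hk⟩ : ∃ k : ℕ, C.relIndex Q = p ^ k := by
    obtain ⟨k, hk⟩ := (IsPGroup.iff_card).1 (PSolvable.pCore_isPGroup (p := p) (G := M ⧸ C))
    refine ⟨k, ?_⟩
    have := Subgroup.relIndex_ker (K := Q) (QuotientGroup.mk' C)
    rw [QuotientGroup.ker_mk'] at this
    rw [this, ← hk, map_comap_eq_self_of_surjective (QuotientGroup.mk'_surjective C)]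
  have hQdec : C ⊔ ((R : Subgroup M) ⊓ Q) = Q :=
    SylowAux58.sup_inf_eq_of_relIndex_pow R C Q hCQ hk
  have key : (R : Subgroup M) ⊓ C ≤ H → Q ≤ K := by
    intro hRC
    obtain ⟨S, hS⟩ := SylowAux58.exists_sylow_map_eq_inf R C
    have hcompl : Cfsg.HasNormalPComplement p C := by
      refine Transfer.hasNormalPComplement_of_normalizer_le_centralizer S ?_
      intro n _
      refine mem_centralizer_iff.2 fun s hs => Subtype.ext ?_
      have hsH : (s : M) ∈ H := hRC (hS ▸ ⟨s, hs, rfl⟩)
      show (s : M) * n = n * s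
      exact (mem_centralizer_iff.1 (hC ▸ n.2 : (n : M) ∈ centralizer (H : Set M))) s hsH
    have hnd := Transfer.hasNormalPComplement_iff.1 hcompl
    haveI := Transfer.pResidual_characteristic (p := p) (G := C)
    have hW0 : (Cfsg.pResidual p C).map C.subtype ≤ W := by
      haveI : ((Cfsg.pResidual p C).map C.subtype).Normal := inferInstance
      refine PSolvable.le_pPrimeCore ?_
      rw [card_map_of_injective C.subtype_injective]
      exact (((Fact.out : p.Prime).coprime_iff_not_dvd).2 hnd).symm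
    rw [show K = (Cfsg.pCore p (M ⧸ W)).comap (QuotientGroup.mk' W) from rfl,
      ← map_le_iff_le_comap]
    haveI : (Q.map (QuotientGroup.mk' W)).Normal :=
      Subgroup.Normal.map inferInstance _ (QuotientGroup.mk'_surjective W)
    refine PSolvable.le_pCore ?_
    rintro ⟨_, x, hx, rfl⟩
    obtain ⟨a, ha⟩ := PSolvable.pCore_isPGroup (p := p) (G := M ⧸ C)
      ⟨QuotientGroup.mk' C x, hx⟩
    have ha' : x ^ p ^ a ∈ C := by
      have := congrArg Subtype.val ha
      rw [SubmonoidClass.coe_pow, OneMemClass.coe_one, ← map_pow] at this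
      exact (QuotientGroup.eq_one_iff _).1 this
    obtain ⟨b, hb⟩ := Transfer.exists_pow_mem_pResidual (p := p) (⟨_, ha'⟩ : C)
    refine ⟨a + b, Subtype.ext ?_⟩
    rw [SubmonoidClass.coe_pow, OneMemClass.coe_one, ← map_pow, pow_add, pow_mul]
    exact (QuotientGroup.eq_one_iff _).2 (hW0 ⟨_, hb, by simp⟩)
  constructor
  · rintro ⟨-, hnd⟩
    have hRQ : (R : Subgroup M) ⊓ Q ≤ H := by
      rw [← relIndex_eq_one]
      by_contra hne
      apply hnd
      obtain ⟨n, hn⟩ := (IsPGroup.iff_card).1 (R.2.to_le (inf_le_left (b := Q)))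
      have h1 : H.relIndex ((R : Subgroup M) ⊓ Q) ∣ p ^ n := hn ▸ relIndex_dvd_card _ _
      obtain ⟨j, -, hj⟩ := (Nat.dvd_prime_pow Fact.out).1 h1
      have hj0 : j ≠ 0 := by rintro rfl; exact hne (by simpa using hj)
      have h2 := relIndex_mul_relIndex H ((R : Subgroup M) ⊓ Q) Q (le_inf hHR hHQ) inf_le_right
      rw [← h2, hj]
      exact Dvd.dvd.mul_right (dvd_pow_self p hj0) _
    have hRC : (R : Subgroup M) ⊓ C ≤ H := (inf_le_inf_left _ hCQ).trans hRQ
    refine ⟨hRC, le_antisymm ?_ ((sup_le hHQ hCQ).trans (key hRC))⟩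
    exact hKQ.trans (hQdec.ge.trans (sup_le le_sup_right (hRQ.trans le_sup_left)))
  · rintro ⟨hRC, hK⟩
    refine ⟨hHQ, ?_⟩
    have hQ : Q = C ⊔ H := by
      rw [sup_comm, ← hK]; exact le_antisymm (key hRC) hKQ
    rw [hQ, relIndex_sup_right]
    intro hd
    apply SylowAux58.not_dvd_relIndex_normal R C
    rw [← inf_relIndex_right]
    rw [← inf_relIndex_right] at hd
    exact hd.trans (relIndex_dvd_of_le_left C (le_inf hRC inf_le_right))

/-- Let P be a Sylow p-subgroup of the finite group G and H ≤ P a subgroup with N_P(H) a Sylow p-subgroup of N_G(H). Let N be the preimage in N_G(H) of O_p(N_G(H)/C_G(H)). Then H is a Sylow p-subgroup of N if and only if C_P(H) ≤ H and O_{p',p}(N_G(H)) = H·C_G(H). -/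
theorem result {G : Type*} [Group G] [Finite G] {p : ℕ} [Fact p.Prime]
    (P : Sylow p G) (H : Subgroup G) (hHP : H ≤ (P : Subgroup G))
    (hSyl : ¬ p ∣ ((P : Subgroup G) ⊓ Subgroup.normalizer (H : Set G)).relIndex (Subgroup.normalizer (H : Set G)))
    [hC : ((Subgroup.centralizer (H : Set G)).subgroupOf (Subgroup.normalizer (H : Set G))).Normal] :
    (H ≤ ((Cfsg.pCore p (↥(Subgroup.normalizer (H : Set G)) ⧸
              (Subgroup.centralizer (H : Set G)).subgroupOf (Subgroup.normalizer (H : Set G)))).comap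
            (QuotientGroup.mk' _)).map (Subgroup.normalizer (H : Set G)).subtype ∧
      ¬ p ∣ H.relIndex (((Cfsg.pCore p (↥(Subgroup.normalizer (H : Set G)) ⧸
              (Subgroup.centralizer (H : Set G)).subgroupOf (Subgroup.normalizer (H : Set G)))).comap
            (QuotientGroup.mk' _)).map (Subgroup.normalizer (H : Set G)).subtype)) ↔
    ((P : Subgroup G) ⊓ Subgroup.centralizer (H : Set G) ≤ H ∧
      (Cfsg.pPrimePCore p ↥(Subgroup.normalizer (H : Set G))).map (Subgroup.normalizer (H : Set G)).subtype =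
        H ⊔ Subgroup.centralizer (H : Set G)) := by
  open Subgroup in
  classical
  let M : Subgroup G := Subgroup.normalizer (H : Set G)
  have hHM : H ≤ M := Subgroup.le_normalizer
  have hR : IsPGroup p (((P : Subgroup G) ⊓ M).subgroupOf M) :=
    (P.2.to_le inf_le_left).comap_subtype
  have hRi : ¬ p ∣ (((P : Subgroup G) ⊓ M).subgroupOf M).index := by
    have := hSyl
    rwa [Subgroup.relIndex] at this
  let R : Sylow p M := hR.toSylow hRi
  have hRe : (R : Subgroup M) = ((P : Subgroup G) ⊓ M).subgroupOf M := rfl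
  haveI : (H.subgroupOf M).Normal :=
    Subgroup.normal_subgroupOf_of_le_normalizer le_rfl
  have hCe : (Subgroup.centralizer (H : Set G)).subgroupOf M =
      Subgroup.centralizer ((H.subgroupOf M : Subgroup M) : Set M) := by
    ext y
    simp only [mem_subgroupOf, mem_centralizer_iff, SetLike.mem_coe]
    exact ⟨fun h z hz => Subtype.ext (h z hz),
      fun h z hz => congrArg Subtype.val (h ⟨z, hHM hz⟩ hz)⟩
  have hHR : H.subgroupOf M ≤ (R : Subgroup M) := by
    rw [hRe]; intro y hy; exact ⟨hHP hy, y.2⟩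
  have hcore := core R (H.subgroupOf M) hHR _ hCe
  set Q := (Cfsg.pCore p (↥M ⧸ (Subgroup.centralizer (H : Set G)).subgroupOf M)).comap
    (QuotientGroup.mk' ((Subgroup.centralizer (H : Set G)).subgroupOf M)) with hQ
  have e1 : H ≤ Q.map M.subtype ↔ H.subgroupOf M ≤ Q :=
    ⟨fun h y hy => by
      obtain ⟨z, hz, hzy⟩ := h hy
      rwa [Subtype.ext hzy] at hz,
     fun h y hy => ⟨⟨y, hHM hy⟩, h hy, rfl⟩⟩
  have e2 : H.relIndex (Q.map M.subtype) = (H.subgroupOf M).relIndex Q := by
    have := relIndex_map_map_of_injective (H.subgroupOf M) Q M.subtype_injective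
    rwa [subgroupOf_map_subtype, inf_of_le_left hHM] at this
  have e3 : (R : Subgroup M) ⊓ (Subgroup.centralizer (H : Set G)).subgroupOf M ≤ H.subgroupOf M ↔
      (P : Subgroup G) ⊓ Subgroup.centralizer (H : Set G) ≤ H := by
    rw [hRe]
    refine ⟨fun h y hy => ?_, fun h y hy => h ⟨hy.1.1, hy.2⟩⟩
    have hyM : y ∈ M := mem_normalizer_iff.2 fun z => by
      have hc := mem_centralizer_iff.1 hy.2
      refine ⟨fun hz => ?_, fun hz => ?_⟩
      · rw [← hc z hz, mul_inv_cancel_right]; exact hz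
      · have h2 := hc _ hz
        rw [inv_mul_cancel_right] at h2
        have : z = y * z * y⁻¹ := mul_left_cancel h2
        rwa [this]
    exact h (x := ⟨y, hyM⟩) ⟨⟨hy.1, hyM⟩, hy.2⟩
  have e4 : (Cfsg.pPrimePCore p M).map M.subtype = H ⊔ Subgroup.centralizer (H : Set G) ↔
      Cfsg.pPrimePCore p M =
        H.subgroupOf M ⊔ (Subgroup.centralizer (H : Set G)).subgroupOf M := by
    have hCM : Subgroup.centralizer (H : Set G) ≤ M := by
      intro y hy
      refine mem_normalizer_iff.2 fun z => ?_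
      have hc := mem_centralizer_iff.1 hy
      refine ⟨fun hz => ?_, fun hz => ?_⟩
      · rw [← hc z hz, mul_inv_cancel_right]; exact hz
      · have h2 := hc _ hz
        rw [inv_mul_cancel_right] at h2
        have : z = y * z * y⁻¹ := mul_left_cancel h2
        rwa [this]
    have he : (H.subgroupOf M ⊔ (Subgroup.centralizer (H : Set G)).subgroupOf M).map M.subtype
        = H ⊔ Subgroup.centralizer (H : Set G) := by
      rw [Subgroup.map_sup, subgroupOf_map_subtype, subgroupOf_map_subtype, inf_of_le_left hHM,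
        inf_of_le_left hCM]
    rw [← he]
    exact (map_injective M.subtype_injective).eq_iff
  rw [show (H ≤ Q.map M.subtype ∧ ¬ p ∣ H.relIndex (Q.map M.subtype)) ↔
    (H.subgroupOf M ≤ Q ∧ ¬ p ∣ (H.subgroupOf M).relIndex Q) by rw [e1, e2]]
  exact hcore.trans (and_congr e3 e4.symm)

end Cfsg.Agent.S3076
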