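import Mathlib
import Cfsg.Agent.Lib.LocalChar.ReplacementRank
import Cfsg.Agent.Lib.Transfer.Criteria
import Cfsg.Statements.S3078
-- import your own Cfsg.Agent.* helpers here

set_option autoImplicit false
open Cfsg
open scoped commutatorElement Pointwise

namespace Cfsg.Agent.S3078

/-- A replacement Theorem for abelian subgroups of p-groups, p odd. Let G be a finite p-group with p odd, A an abelian subgroup of G, and B a subgroup of nilpotency class at most 2 with [B, B] ≤ A, such that A normalizes B but B does not normalize A. Then there is an abelian subgroup A* of G of the same order as A with A ∩ B strictly contained in A* ∩ B, A* contained in N_G(A) and in the normal closure of A, the exponent of A* dividing the exponent of A, and with the subgroup generated by the elements of order dividing p in A of order at most that of the corresponding subgroup of A* (the rank of A is at most the rank of A*). -/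
theorem result {G : Type*} [Group G] [Finite G] {p : ℕ} [Fact p.Prime] (hp : p ≠ 2) (hG : IsPGroup p G) (A B : Subgroup G) (hA : IsMulCommutative A) (hB2 : ⁅⁅B, B⁆, B⁆ = ⊥) (hBA : ⁅B, B⁆ ≤ A) (hAB : A ≤ Subgroup.normalizer (B : Set G)) (hBnA : ¬ B ≤ Subgroup.normalizer (A : Set G)) : ∃ Astar : Subgroup G, IsMulCommutative Astar ∧ Nat.card Astar = Nat.card A ∧ A ⊓ B < Astar ⊓ B ∧ Astar ≤ Subgroup.normalizer (A : Set G) ∧ Astar ≤ Subgroup.normalClosure (A : Set G) ∧ Monoid.exponent Astar ∣ Monoid.exponent A ∧ Nat.card (Cfsg.omegaOne p A) ≤ Nat.card (Cfsg.omegaOne p Astar) := by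
  classical
  set H := Subgroup.normalizer (B : Set G) with hH
  have hBH : B ≤ H := Subgroup.le_normalizer
  set A' := A.subgroupOf H with hA'
  set B' := B.subgroupOf H with hB'
  haveI : B'.Normal := Subgroup.normal_in_normalizer
  have hAmap : A'.map H.subtype = A := Subgroup.map_subgroupOf_eq_of_le hAB
  have hBmap : B'.map H.subtype = B := Subgroup.map_subgroupOf_eq_of_le hBH
  have hAc : ∀ x ∈ A', ∀ y ∈ A', Commute x y := fun x hx y hy =>
    Subtype.ext (congrArg (fun t : A => (t : G)) (hA.is_comm.comm ⟨(x : G), hx⟩ ⟨(y : G), hy⟩))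
  have hBA' : ⁅B', B'⁆ ≤ A' := by
    rw [hA', Subgroup.subgroupOf, ← Subgroup.map_le_iff_le_comap]
    show (⁅B', B'⁆).map H.subtype ≤ A
    rw [Subgroup.map_commutator, hBmap]
    exact hBA
  have hHp : IsPGroup p H := hG.to_subgroup H
  have hodd : Odd p := (Fact.out : p.Prime).odd_of_ne_two hp
  have h2 : ∀ w ∈ A', w * w = 1 → w = 1 := by
    intro w _ hw
    obtain ⟨k, hk⟩ := hHp w
    obtain ⟨j, hj⟩ := hodd.pow (n := k)
    rw [hj, pow_succ, pow_mul, sq, hw, one_pow, one_mul] at hk
    exact hk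
  set N := Subgroup.normalizer (A' : Set H) with hN
  have hlt : N < N ⊔ B' := by
    refine lt_of_le_of_ne le_sup_left fun he => hBnA fun b hb => ?_
    have h1 : (⟨b, hBH hb⟩ : H) ∈ N := he.symm ▸ Subgroup.mem_sup_right (show (⟨b, hBH hb⟩ : H) ∈ B' from hb)
    have h3 := Subgroup.le_normalizer_map H.subtype (Subgroup.mem_map_of_mem H.subtype h1)
    rwa [hAmap] at h3
  obtain ⟨x, hx, hxN⟩ := SetLike.exists_of_lt
    (Lib.Transfer.lt_inf_normalizer (hHp.to_subgroup _) hlt)
  obtain ⟨n, hn, b, hb, rfl⟩ := Subgroup.mem_sup_of_normal_right.1 (Subgroup.mem_inf.1 hx).1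
  have hbN : b ∈ Subgroup.normalizer (N : Set H) := by
    have := mul_mem (inv_mem (Subgroup.le_normalizer hn)) (Subgroup.mem_inf.1 hx).2
    simpa using this
  have hbA : b ∉ N := fun h => hxN (mul_mem hn h)
  obtain ⟨r1, r2, r3, r4, r5, r6, r7, r8, r9, r10, r11⟩ :=
    Lib.ZJ.replacement B' A' hAc hBA' (Or.inl h2) hb hbN hbA
  set R := Lib.ZJ.replaced A' b with hR
  have hcommR : ∀ x ∈ R.map H.subtype, ∀ y ∈ R.map H.subtype, Commute x y := by
    rintro _ ⟨x, hx, rfl⟩ _ ⟨y, hy, rfl⟩
    exact (r2 x hx y hy).map H.subtype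
  refine ⟨R.map H.subtype, ⟨⟨fun x y => Subtype.ext (hcommR x x.2 y y.2)⟩⟩, ?_, ?_, ?_, ?_, ?_, ?_⟩
  · rw [Subgroup.card_map_of_injective H.subtype_injective, r1, hA',
      Nat.card_congr (Subgroup.subgroupOfEquivOfLe hAB).toEquiv]
  · have h := Subgroup.map_lt_map_iff_of_injective H.subtype_injective |>.2 r4
    rwa [Subgroup.map_inf _ _ _ H.subtype_injective, Subgroup.map_inf _ _ _ H.subtype_injective,
      hAmap, hBmap] at h
  · refine (Subgroup.map_mono r7).trans ?_
    rw [← hAmap]
    exact Subgroup.le_normalizer_map _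
  · have hAc' : A ≤ Subgroup.normalClosure (A : Set G) := Subgroup.le_normalClosure
    refine (Subgroup.map_mono r10).trans ?_
    rw [Subgroup.map_sup, hAmap]
    refine sup_le hAc' ?_
    rintro _ ⟨_, ⟨a, ha, rfl⟩, rfl⟩
    show (((MulAut.conj b⁻¹ a : H)) : G) ∈ _
    simp only [MulAut.conj_apply, Subgroup.coe_mul, Subgroup.coe_inv, inv_inv]
    have := (Subgroup.normalClosure_normal (s := (A : Set G))).conj_mem (a : G) (hAc' ha) (b : G)⁻¹
    simpa using this
  · obtain ⟨k, hk⟩ := (hG.to_subgroup A).exists_card_eq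
    have hoddA : Odd (Monoid.exponent A) :=
      Odd.of_dvd_nat (hk ▸ hodd.pow) Group.exponent_dvd_nat_card
    refine Monoid.exponent_dvd_of_forall_pow_eq_one fun u => ?_
    obtain ⟨v, hv, hve⟩ := u.2
    apply Subtype.ext
    rw [Subgroup.coe_pow, ← hve, ← map_pow, r11 _ hoddA (fun a ha => ?_) v hv, map_one,
      Subgroup.coe_one]
    apply Subtype.ext
    have := congrArg Subtype.val (Monoid.pow_exponent_eq_one (⟨(a : G), ha⟩ : A))
    simpa using this
  · have hAp : ∀ x ∈ A, ∀ y ∈ A, Commute x y := fun x hx y hy =>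
      congrArg Subtype.val (hA.is_comm.comm ⟨x, hx⟩ ⟨y, hy⟩)
    have key := Lib.LocalChar.card_omegaOne_replaced (p := p) hp A' hAc hbN r2
    have hom : ∀ T : Subgroup H, Nat.card (Cfsg.omegaOne p (T.map H.subtype)) =
        Nat.card (Cfsg.omegaOne p T) := by
      intro T
      have : Cfsg.omegaOne p (T.map H.subtype) = (Cfsg.omegaOne p T).map H.subtype := by
        rw [Cfsg.omegaOne, Cfsg.omegaOne, MonoidHom.map_closure]
        congr 1
        ext z
        constructor
        · rintro ⟨⟨y, hy, rfl⟩, hz⟩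
          exact ⟨y, ⟨hy, H.subtype_injective (by rw [map_pow, hz, map_one])⟩, rfl⟩
        · rintro ⟨y, ⟨hy, hy'⟩, rfl⟩
          exact ⟨Subgroup.mem_map_of_mem _ hy, by rw [← map_pow, hy', map_one]⟩
      rw [this, Subgroup.card_map_of_injective H.subtype_injective]
    rw [← hom, ← hom, hAmap] at key
    exact key

end Cfsg.Agent.S3078
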