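import Mathlib
import Cfsg.Statements.S3084
import Cfsg.Agent.Lib.RealClifford.Basic
import Cfsg.Agent.Lib.PGroup.Frattini

set_option autoImplicit false
open Cfsg

namespace Cfsg.Agent.S3084

open Matrix Cfsg.Agent.Lib.RealClifford
open scoped commutatorElement

/-- Square matrices indexed by vectors. -/
abbrev Mat (m : ℕ) := Matrix (Fin m → ZMod 2) (Fin m → ZMod 2) ℝ

/-- The extension inside the unit group of the twisted real group algebra. -/
theorem construction {K : Type*} [Group K] [Finite K] {m n : ℕ} (hm : m = 2 * n) (hn1 : 1 ≤ n)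
    (g : K →* ((Fin m → ZMod 2) ≃ₗ[ZMod 2] (Fin m → ZMod 2))) (hgi : Function.Injective g)
    (β : (Fin m → ZMod 2) →ₗ[ZMod 2] (Fin m → ZMod 2) →ₗ[ZMod 2] ZMod 2)
    (hg : ∀ k u, β (g k u) (g k u) = β u u)
    (hnd : ∀ u, (∀ v, β u v + β v u = 0) → u = 0) :
    ∃ (R : Type) (_ : Group R) (_ : Finite R) (Q : Subgroup R) (hN : Q.Normal) (e : R ⧸ Q ≃* K)
      (χ : ↥Q →* Multiplicative (Fin m → ZMod 2)),
      Cfsg.IsExtraspecial 2 ↥Q ∧ Nat.card ↥Q = 2 ^ (2 * n + 1) ∧ Function.Surjective χ ∧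
      χ.ker = Subgroup.center ↥Q ∧
      (∀ (r : R) (a : ↥Q), χ ⟨r * a * r⁻¹, hN.conj_mem (a : R) a.2 r⟩ =
        Multiplicative.ofAdd (g (e (r : R ⧸ Q)) (Multiplicative.toAdd (χ a)))) ∧
      ∀ a : ↥Q, a * a = 1 ↔ β (Multiplicative.toAdd (χ a)) (Multiplicative.toAdd (χ a)) = 0 := by
  classical
  have hmem : ∀ A : Matrix (Fin m → ZMod 2) (Fin m → ZMod 2) ℝ,
      A ∈ Matrix.unitaryGroup (Fin m → ZMod 2) ℝ ↔ Aᵀ * A = 1 := fun A => by
    rw [Matrix.mem_unitaryGroup_iff', Matrix.star_eq_conjTranspose,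
      Matrix.conjTranspose_eq_transpose_of_trivial]
  have horth : ∀ T : Matrix.unitaryGroup (Fin m → ZMod 2) ℝ,
      (T : Mat m)ᵀ * (T : Mat m) = 1 := fun T => (hmem _).mp T.2
  have horth' : ∀ T : Matrix.unitaryGroup (Fin m → ZMod 2) ℝ,
      (T : Mat m) * (T : Mat m)ᵀ = 1 := fun T => mul_eq_one_comm.mp (horth T)
  let Rel : Matrix (Fin m → ZMod 2) (Fin m → ZMod 2) ℝ → K → Prop := fun T k =>
    ∀ u, ∃ s : ZMod 2, T * L β u = sgn s • (L β (g k u) * T)
  have gmul : ∀ k l u, g (k * l) u = g k (g l u) := fun k l u => by rw [map_mul]; rfl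
  have gone : ∀ u, g 1 u = u := fun u => by rw [map_one]; rfl
  have cancel : ∀ (T : Matrix.unitaryGroup (Fin m → ZMod 2) ℝ) (A B : Matrix (Fin m → ZMod 2) (Fin m → ZMod 2) ℝ),
      A * (T : Mat m) = B * (T : Mat m) → A = B := fun T A B h => by
    rw [← mul_one A, ← mul_one B, ← horth' T, ← mul_assoc, ← mul_assoc, h]
  have huniq : ∀ (T : Matrix.unitaryGroup (Fin m → ZMod 2) ℝ) k l, Rel T k → Rel T l → k = l := by
    intro T k l hk hl
    refine hgi (LinearEquiv.ext fun u => ?_)
    obtain ⟨s, hs⟩ := hk u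
    obtain ⟨t, ht⟩ := hl u
    have h := hs.symm.trans ht
    rw [← Matrix.smul_mul, ← Matrix.smul_mul] at h
    exact (L_smul_injective β (sgn_ne_zero s) (cancel T _ _ h)).1
  let R : Subgroup (Matrix.unitaryGroup (Fin m → ZMod 2) ℝ) :=
    { carrier := {T | (T : Mat m) ∈ alg β ∧ ∃ k, Rel T k}
      one_mem' := ⟨one_mem_alg β, 1, fun u => ⟨0, by
        rw [gone, sgn_zero, one_smul]; exact (one_mul _).trans (mul_one _).symm⟩⟩
      mul_mem' := by
        rintro S T ⟨hS, k, hk⟩ ⟨hT, l, hl⟩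
        refine ⟨mul_mem_alg β hS hT, k * l, fun u => ?_⟩
        obtain ⟨t, ht⟩ := hl u
        obtain ⟨s, hs⟩ := hk (g l u)
        refine ⟨t + s, ?_⟩
        rw [Submonoid.coe_mul, mul_assoc, ht, Matrix.mul_smul, ← mul_assoc, hs, Matrix.smul_mul,
          smul_smul, ← sgn_add, gmul, mul_assoc]
      inv_mem' := by
        rintro T ⟨hT, k, hk⟩
        have hinv : ((T⁻¹ : Matrix.unitaryGroup (Fin m → ZMod 2) ℝ) : Mat m) = (T : Mat m)ᵀ := by
          show star (T : Mat m) = _
          rw [Matrix.star_eq_conjTranspose, Matrix.conjTranspose_eq_transpose_of_trivial]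
        refine ⟨by rw [hinv]; exact transpose_mem_alg β hT, k⁻¹, fun u => ?_⟩
        obtain ⟨s, hs⟩ := hk (g k⁻¹ u)
        refine ⟨s, ?_⟩
        rw [← gmul, mul_inv_cancel, gone] at hs
        rw [hinv]
        have h1 := congrArg (fun A => sgn s • ((T : Mat m)ᵀ * A * (T : Mat m)ᵀ)) hs
        simp only [Matrix.mul_smul, Matrix.smul_mul, smul_smul, sgn_mul_self, one_smul,
          ← mul_assoc, horth T, one_mul] at h1
        rw [mul_assoc _ _ ((T : Mat m)ᵀ), horth' T, mul_one] at h1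
        exact h1.symm }
  have hRmem : ∀ T : R, ∃ k, Rel (T.1 : Mat m) k := fun T => T.2.2
  choose kOf hkOf using hRmem
  let π : R →* K := MonoidHom.mk' kOf fun S T => huniq _ _ _ (hkOf (S * T)) fun u => by
    obtain ⟨t, ht⟩ := hkOf T u
    obtain ⟨s, hs⟩ := hkOf S (g (kOf T) u)
    refine ⟨t + s, ?_⟩
    rw [Subgroup.coe_mul, Submonoid.coe_mul, mul_assoc, ht, Matrix.mul_smul, ← mul_assoc, hs,
      Matrix.smul_mul, smul_smul, ← sgn_add, gmul, mul_assoc]
  have hπ : Function.Surjective π := fun k => by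
    obtain ⟨f, hf0, hf⟩ := exists_twist (g k).toLinearMap β (hg k)
    obtain ⟨T, hT, hTo, hTr⟩ := exists_intertwiner β hnd (g k) (hg k) f hf0 hf
    have hrel : Rel T k := fun u => ⟨f u, hTr u⟩
    let T' : R := ⟨⟨T, (hmem _).mpr hTo⟩, hT, k, hrel⟩
    exact ⟨T', huniq T'.1 _ _ (hkOf T') hrel⟩
  have hcomm : ∀ w u, L β w * L β u = sgn (β w u + β u w) • (L β u * L β w) := fun w u => by
    rw [L_mul_L, L_mul_L, smul_smul, ← sgn_add, add_assoc, add_self_zero, add_zero, add_comm u w]
  have hPo : ∀ (w : Fin m → ZMod 2) (a : ZMod 2),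
      sgn a • L β w ∈ Matrix.unitaryGroup (Fin m → ZMod 2) ℝ := fun w a => by
    rw [hmem, transpose_smul, Matrix.smul_mul, Matrix.mul_smul,
      smul_smul, sgn_mul_self, one_smul, L_orth]
  have hPrel : ∀ w a, Rel (sgn a • L β w) 1 := fun w a u => ⟨β w u + β u w, by
    rw [gone, Matrix.smul_mul, Matrix.mul_smul, hcomm, smul_comm]⟩
  let P : (Fin m → ZMod 2) → ZMod 2 → R := fun w a =>
    ⟨⟨sgn a • L β w, hPo w a⟩, Submodule.smul_mem _ _ (L_mem β w), 1, hPrel w a⟩
  have hPmat : ∀ w a, ((P w a).1 : Mat m) = sgn a • L β w := fun w a => rfl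
  have hinj : ∀ {S T : R}, ((S.1 : Mat m) = (T.1 : Mat m)) → S = T := fun h =>
    Subtype.ext (Subtype.ext h)
  have hP0 : P 0 0 = 1 := hinj (by
    rw [hPmat, sgn_zero, one_smul, L_zero]; rfl)
  have hPmul : ∀ w a w' a', P w a * P w' a' = P (w + w') (a + a' + β w w') := fun w a w' a' => hinj (by
    rw [Subgroup.coe_mul, Submonoid.coe_mul, hPmat, hPmat, hPmat, Matrix.smul_mul, Matrix.mul_smul,
      L_mul_L, smul_smul, smul_smul, ← sgn_add, ← sgn_add])
  have hPinj : ∀ w a w' a', P w a = P w' a' → w = w' ∧ a = a' := fun w a w' a' h => by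
    have h' := L_smul_injective β (sgn_ne_zero a)
      (congrArg (fun T : R => (T.1 : Mat m)) h)
    exact ⟨h'.1, sgn_injective h'.2⟩
  have hPker : ∀ w a, P w a ∈ π.ker := fun w a =>
    MonoidHom.mem_ker.mpr (huniq _ _ _ (hkOf (P w a)) (hPrel w a))
  have hsurjP : ∀ T ∈ π.ker, ∃ w a, P w a = T := by
    intro T hT
    have hT' : kOf T = 1 := hT
    have hrel : ∀ u, ∃ s, (T.1 : Mat m) * L β u = sgn s • (L β u * (T.1 : Mat m)) := fun u => by
      obtain ⟨s, hs⟩ := hkOf T u
      rw [hT', gone] at hs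
      exact ⟨s, hs⟩
    choose s hs using hrel
    have sadd : ∀ u v, s (u + v) = s u + s v := by
      intro u v
      have e := hs (u + v)
      have h2 : (T.1 : Mat m) * (L β u * L β v)
          = sgn (s u + s v) • (L β u * L β v * (T.1 : Mat m)) := by
        rw [← mul_assoc, hs u, Matrix.smul_mul, mul_assoc, hs v, Matrix.mul_smul, smul_smul,
          ← sgn_add, mul_assoc]
      rw [L_mul_L, Matrix.mul_smul, Matrix.smul_mul, e, smul_smul, smul_smul, ← Matrix.smul_mul,
        ← Matrix.smul_mul] at h2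
      have h3 := (L_smul_injective β (mul_ne_zero (sgn_ne_zero _) (sgn_ne_zero _))
        (cancel T.1 _ _ h2)).2
      rw [mul_comm (sgn (s u + s v))] at h3
      exact sgn_injective (mul_left_cancel₀ (sgn_ne_zero _) h3)
    let S : (Fin m → ZMod 2) →ₗ[ZMod 2] ZMod 2 := (AddMonoidHom.mk' s sadd).toZModLinearMap 2
    have hBinj : Function.Injective ⇑(β + β.flip) := by
      rw [injective_iff_map_eq_zero]
      exact fun u hu => hnd u fun v => by simpa using LinearMap.congr_fun hu v
    obtain ⟨w, hw⟩ := (LinearMap.injective_iff_surjective_of_finrank_eq_finrank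
      (Subspace.dual_finrank_eq (K := ZMod 2) (V := Fin m → ZMod 2)).symm).mp hBinj S
    have hws : ∀ u, s u = β w u + β u w := fun u => by
      have h' : S u = s u := rfl
      rw [← h', ← hw]
      simp
    have hc : (L β w * (T.1 : Mat m)) =
        (L β w * (T.1 : Mat m)) 0 0 • 1 := by
      refine alg_central β hnd (mul_mem_alg β (L_mem β w) T.2.1) fun v => ?_
      rw [mul_assoc (L β w), hs v, Matrix.mul_smul, ← mul_assoc (L β w), hcomm w v,
        Matrix.smul_mul, smul_smul, hws v, sgn_mul_self, one_smul, mul_assoc]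
    generalize (L β w * (T.1 : Mat m)) 0 0 = c at hc
    have hTc : (T.1 : Mat m) = (sgn (β w w) * c) • L β w := by
      have h' := congrArg (fun A => sgn (β w w) • (L β w * A)) hc
      simp only [← mul_assoc, L_sq, Matrix.smul_mul, one_mul, smul_smul, sgn_mul_self, one_smul,
        Matrix.mul_smul, mul_one] at h'
      exact h'
    have hc2 : (sgn (β w w) * c) * (sgn (β w w) * c) = 1 := by
      have h' := horth T.1
      rw [hTc, transpose_smul, Matrix.smul_mul, Matrix.mul_smul, smul_smul, L_orth] at h'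
      have h'' := congrFun (congrFun h' 0) 0
      rw [Matrix.smul_apply, Matrix.one_apply_eq, smul_eq_mul, mul_one] at h''
      exact h''
    rcases mul_self_eq_one_iff.mp hc2 with h | h
    · exact ⟨w, 0, hinj (by rw [hPmat, hTc, h, sgn_zero])⟩
    · exact ⟨w, 1, hinj (by rw [hPmat, hTc, h, sgn_one])⟩
  let F : (Fin m → ZMod 2) × ZMod 2 → π.ker := fun x => ⟨P x.1 x.2, hPker x.1 x.2⟩
  have hF : Function.Bijective F := by
    refine ⟨fun x y h => ?_, fun T => ?_⟩
    · obtain ⟨h1, h2⟩ := hPinj _ _ _ _ (congrArg Subtype.val h)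
      exact Prod.ext h1 h2
    · obtain ⟨w, a, h⟩ := hsurjP T.1 T.2
      exact ⟨(w, a), Subtype.ext h⟩
  let E := Equiv.ofBijective F hF
  have hEs : ∀ T, F (E.symm T) = T := fun T => E.apply_symm_apply T
  have hEF : ∀ x, E.symm (F x) = x := fun x => E.symm_apply_apply x
  have hFmul : ∀ x y, F x * F y = F (x.1 + y.1, x.2 + y.2 + β x.1 y.1) := fun x y =>
    Subtype.ext (hPmul _ _ _ _)
  have hFone : F (0, 0) = 1 := Subtype.ext hP0
  let χ : π.ker →* Multiplicative (Fin m → ZMod 2) :=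
    MonoidHom.mk' (fun T => Multiplicative.ofAdd (E.symm T).1) fun S T => by
      obtain ⟨x, rfl⟩ := hF.2 S
      obtain ⟨y, rfl⟩ := hF.2 T
      rw [hFmul, hEF, hEF, hEF]
      rfl
  have hχF : ∀ x, χ (F x) = Multiplicative.ofAdd x.1 := fun x => by
    show Multiplicative.ofAdd (E.symm (F x)).1 = _
    rw [hEF]
  haveI hfin : Finite π.ker := Finite.of_equiv _ E
  haveI : Finite (R ⧸ π.ker) := Finite.of_equiv _ (QuotientGroup.quotientKerEquivOfSurjective π hπ).toEquiv.symm
  haveI : Finite R := Finite.of_equiv _ (Subgroup.groupEquivQuotientProdSubgroup (s := π.ker)).symm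
  have hcard : Nat.card π.ker = 2 ^ (2 * n + 1) := by
    rw [← Nat.card_congr E, Nat.card_prod, Nat.card_fun, Nat.card_eq_fintype_card (α := Fin m),
      Fintype.card_fin, Nat.card_zmod, ← pow_succ, hm]
  have hp : IsPGroup 2 π.ker := IsPGroup.of_card hcard
  have hcenter : χ.ker = Subgroup.center π.ker := by
    ext T
    obtain ⟨⟨w, a⟩, rfl⟩ := hF.2 T
    rw [MonoidHom.mem_ker, hχF, Subgroup.mem_center_iff]
    change w = 0 ↔ _
    constructor
    · rintro rfl S
      obtain ⟨⟨u, b⟩, rfl⟩ := hF.2 S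
      rw [hFmul, hFmul]
      simp [add_comm]
    · intro h
      refine hnd w fun v => ?_
      have h' := h (F (v, 0))
      rw [hFmul, hFmul] at h'
      have h2 := (congrArg Prod.snd (hF.1 h') : (0 : ZMod 2) + a + β v w = a + 0 + β w v)
      rw [zero_add, add_zero] at h2
      rw [add_left_cancel h2, add_self_zero]
  have hcen : ∀ x, F x ∈ Subgroup.center π.ker ↔ x.1 = 0 := fun x => by
    rw [← hcenter, MonoidHom.mem_ker, hχF]
    rfl
  have hsq : ∀ x, F x * F x = F (0, β x.1 x.1) := fun x => by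
    rw [hFmul, add_self_zero, add_self_zero, zero_add]
  have hz : F (0, 1) ∈ commutator π.ker := by
    obtain ⟨u, v, huv⟩ : ∃ u v, β u v + β v u = 1 := by
      by_contra! h
      haveI : Nonempty (Fin m) := ⟨⟨0, by omega⟩⟩
      exact one_ne_zero (hnd (1 : Fin m → ZMod 2) fun v => (zmod_cases _).resolve_right (h 1 v))
    have e : F (u, 0) * F (v, 0) = F (0, 1) * (F (v, 0) * F (u, 0)) := by
      rw [hFmul, hFmul, hFmul]
      congr 1
      refine Prod.ext ?_ ?_
      · simp [add_comm]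
      · simp only [map_zero, LinearMap.zero_apply, add_zero, zero_add]
        rw [← huv, add_assoc, add_self_zero, add_zero]
    have e2 : ⁅F (u, 0), F (v, 0)⁆ = F (0, 1) := by
      rw [commutatorElement_def, e, mul_assoc (F (0, 1)), mul_assoc (F (0, 1)), mul_assoc (F (v, 0)),
        mul_inv_cancel, mul_one, mul_inv_cancel, mul_one]
    rw [← e2, commutator_def]
    exact Subgroup.commutator_mem_commutator (Subgroup.mem_top _) (Subgroup.mem_top _)
  have hcc : Subgroup.center π.ker ≤ commutator π.ker := by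
    intro T hT
    obtain ⟨⟨w, a⟩, rfl⟩ := hF.2 T
    obtain rfl : w = 0 := (hcen _).mp hT
    rcases zmod_cases a with rfl | rfl
    · rw [hFone]; exact one_mem _
    · exact hz
  have hcomle : commutator π.ker ≤ Subgroup.center π.ker := by
    rw [← hcenter]
    exact Abelianization.commutator_subset_ker χ
  have hcf := Cfsg.Agent.Lib.PFrattini.commutator_le_frattini hp
  have hfle : frattini π.ker ≤ Subgroup.center π.ker :=
    Cfsg.Agent.Lib.PFrattini.frattini_le hcomle fun T => by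
      obtain ⟨x, rfl⟩ := hF.2 T
      rw [sq, hsq, hcen]
  refine ⟨↥R, inferInstance, inferInstance, π.ker, inferInstance,
    QuotientGroup.quotientKerEquivOfSurjective π hπ, χ,
    ⟨⟨hp, le_antisymm hfle (hcc.trans hcf), le_antisymm hcomle hcc⟩, ?_⟩, hcard,
    fun u => ⟨F (Multiplicative.toAdd u, 0), hχF _⟩, hcenter, ?_, ?_⟩
  · rw [Nat.card_congr (Equiv.ofBijective
      (fun a : ZMod 2 => (⟨F (0, a), (hcen _).mpr rfl⟩ : Subgroup.center π.ker))
      ⟨fun a b h => congrArg Prod.snd (hF.1 (congrArg Subtype.val h)), fun T => by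
        obtain ⟨⟨w, a⟩, h⟩ := hF.2 T.1
        have hw : w = 0 := (hcen (w, a)).mp (h ▸ T.2)
        exact ⟨a, Subtype.ext (by rw [← h, hw])⟩⟩).symm, Nat.card_zmod]
  · intro r T
    obtain ⟨⟨w, a⟩, rfl⟩ := hF.2 T
    obtain ⟨s, hs⟩ := hkOf r w
    have e : r * P w a = P (g (kOf r) w) (a + s) * r := hinj (by
      rw [Subgroup.coe_mul, Submonoid.coe_mul, Subgroup.coe_mul, Submonoid.coe_mul, hPmat, hPmat,
        Matrix.mul_smul, hs, smul_smul, ← sgn_add, Matrix.smul_mul])
    have e2 : (⟨r * (F (w, a)).1 * r⁻¹, (inferInstance : π.ker.Normal).conj_mem _ (F (w, a)).2 r⟩ : π.ker)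
        = F (g (kOf r) w, a + s) := Subtype.ext (by
      show r * P w a * r⁻¹ = P (g (kOf r) w) (a + s)
      rw [e, mul_inv_cancel_right])
    rw [e2, hχF, hχF]
    rfl
  · intro T
    obtain ⟨x, rfl⟩ := hF.2 T
    rw [hsq, hχF, ← hFone, hF.1.eq_iff]
    simp


/-- Let K be a group acting faithfully and linearly on a finite-dimensional vector space U of dimension 2n ≥ 2 over the field with two elements, preserving a quadratic form q whose polar bilinear form is non-degenerate and which vanishes on some n-dimensional subspace (a non-singular form of plus type). Then there is a finite group R with a normal extraspecial 2-subgroup Q of order 2^(2n+1), an isomorphism of R/Q with K, and a surjective homomorphism χ from Q onto (the additive group of) U with kernel the centre of Q, such that χ carries conjugation by any r in R to the action of the image of r in K, and an element a of Q squares to the identity exactly when q vanishes at χ(a). -/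
theorem result {K : Type*} [Group K] {U : Type*} [AddCommGroup U] [Module (ZMod 2) U] [Module.Finite (ZMod 2) U] (n : ℕ) (hn1 : 1 ≤ n) (hn : Module.finrank (ZMod 2) U = 2 * n) (ρ : Representation (ZMod 2) K U) (hρ : Function.Injective ρ) (q : QuadraticForm (ZMod 2) U) (hq : ∀ (k : K) (u : U), q (ρ k u) = q u) (hnd : (QuadraticMap.polarBilin q).Nondegenerate) (hplus : ∃ W : Submodule (ZMod 2) U, Module.finrank (ZMod 2) ↥W = n ∧ ∀ w ∈ W, q w = 0) : ∃ (R : Type) (_ : Group R) (_ : Finite R) (Q : Subgroup R) (hN : Q.Normal) (e : R ⧸ Q ≃* K) (χ : ↥Q →* Multiplicative U), Cfsg.IsExtraspecial 2 ↥Q ∧ Nat.card ↥Q = 2 ^ (2 * n + 1) ∧ Function.Surjective χ ∧ χ.ker = Subgroup.center ↥Q ∧ (∀ (r : R) (a : ↥Q), χ ⟨r * a * r⁻¹, hN.conj_mem (a : R) a.2 r⟩ = Multiplicative.ofAdd (ρ (e (r : R ⧸ Q)) (Multiplicative.toAdd (χ a)))) ∧ ∀ a : ↥Q, a * a = 1 ↔ q (Multiplicative.toAdd (χ a)) = 0 := by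
  classical
  haveI : Finite U := Module.finite_of_finite (ZMod 2)
  haveI : Finite K := Finite.of_injective (fun k u => ρ k u) (fun k l h => hρ (LinearMap.ext (congrFun h)))
  let ψ : U ≃ₗ[ZMod 2] (Fin (2 * n) → ZMod 2) :=
    (Module.finBasisOfFinrankEq (ZMod 2) U hn).equivFun
  let ρe : K →* (U ≃ₗ[ZMod 2] U) :=
    (LinearMap.GeneralLinearGroup.generalLinearEquiv (ZMod 2) U).toMonoidHom.comp ρ.toHomUnits
  have hρe : ∀ k u, ρe k u = ρ k u := fun k u => rfl
  let g : K →* ((Fin (2 * n) → ZMod 2) ≃ₗ[ZMod 2] (Fin (2 * n) → ZMod 2)) :=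
    MonoidHom.mk' (fun k => ψ.symm.trans ((ρe k).trans ψ)) fun k l => LinearEquiv.ext fun x => by
      simp [hρe]
  have hgapp : ∀ k x, g k x = ψ (ρ k (ψ.symm x)) := fun k x => rfl
  have hgi : Function.Injective g := fun k l h => hρ (LinearMap.ext fun u => ψ.injective (by
    have := LinearEquiv.congr_fun h (ψ u)
    simpa [hgapp] using this))
  let q0 : QuadraticForm (ZMod 2) (Fin (2 * n) → ZMod 2) := q.comp ψ.symm.toLinearMap
  let β := q0.toBilin (Pi.basisFun (ZMod 2) (Fin (2 * n)))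
  have hβ : ∀ x, β x x = q (ψ.symm x) := fun x => by
    have h := congrArg (fun Q : QuadraticMap (ZMod 2) _ _ => Q x)
      (QuadraticMap.toQuadraticMap_toBilin q0 (Pi.basisFun (ZMod 2) (Fin (2 * n))))
    simpa [q0] using h
  have hpol : ∀ x y, β x y + β y x = QuadraticMap.polar q (ψ.symm x) (ψ.symm y) := fun x y => by
    rw [QuadraticMap.polar, ← map_add, ← hβ, ← hβ, ← hβ]
    simp only [map_add, LinearMap.add_apply]
    ring
  obtain ⟨R, hR, hRf, Q, hN, e, χ, h1, h2, h3, h4, h5, h6⟩ :=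
    construction rfl hn1 g hgi β (fun k x => by
      rw [hβ, hβ, hgapp, LinearEquiv.symm_apply_apply, hq]) (fun x hx => by
      refine ψ.symm.map_eq_zero_iff.mp (hnd.1 (ψ.symm x) fun u => ?_)
      have h := hx (ψ u)
      rw [hpol, LinearEquiv.symm_apply_apply] at h
      exact h)
  let μ : Multiplicative (Fin (2 * n) → ZMod 2) ≃* Multiplicative U :=
    AddEquiv.toMultiplicative ψ.symm.toAddEquiv
  have hμ : ∀ x, Multiplicative.toAdd (μ x) = ψ.symm (Multiplicative.toAdd x) := fun x => rfl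
  refine ⟨R, hR, hRf, Q, hN, e, μ.toMonoidHom.comp χ, h1, h2, μ.surjective.comp h3, ?_, ?_, ?_⟩
  · rw [← h4]
    ext T
    simp
  · intro r a
    simp only [MonoidHom.comp_apply, MulEquiv.coe_toMonoidHom, h5]
    apply Multiplicative.toAdd.injective
    simp [hμ, hgapp]
  · intro a
    simp only [MonoidHom.comp_apply, MulEquiv.coe_toMonoidHom, h6, hβ, hμ]

end Cfsg.Agent.S3084
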