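import Mathlib
import Cfsg.Statements.S3085
import Cfsg.Agent.Lib.ExtraTwoQ.Basic

set_option autoImplicit false
open Cfsg

namespace Cfsg.Agent.S3085

/-!
If `L` is a complement, the commuting reflections in `v, va, vb, vab` (all of square `z`) give two
commuting involutions of the outer group whose lifts in `L` cannot commute.
-/

variable {Q : Type*} [Group Q]

/-- A group with a central involution `z` such that all commutators lie in `{1, z}`. -/
structure Ctx (z : Q) : Prop where
  central : ∀ x : Q, x * z = z * x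
  sq : z * z = 1
  cases : ∀ x y : Q, x * y = y * x ∨ x * y = z * (y * x)

open Classical in
/-- The commutator pairing. -/
noncomputable def eps (c x : Q) : ZMod 2 := if Commute x c then 0 else 1

theorem eps_pos {c x : Q} (h : Commute x c) : eps c x = 0 := if_pos h
theorem eps_neg {c x : Q} (h : ¬ Commute x c) : eps c x = 1 := if_neg h

theorem eps_eq_zero_iff {c x : Q} : eps c x = 0 ↔ Commute x c := by
  refine ⟨fun h => ?_, eps_pos⟩
  by_contra hn
  rw [eps_neg hn] at h
  exact one_ne_zero h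

theorem eps_comm (c x : Q) : eps c x = eps x c := by
  by_cases h : Commute x c
  · rw [eps_pos h, eps_pos h.symm]
  · rw [eps_neg h, eps_neg (fun h' => h h'.symm)]

theorem eps_inv (c x : Q) : eps c x⁻¹ = eps c x := by
  by_cases h : Commute x c
  · rw [eps_pos h, eps_pos h.inv_left]
  · rw [eps_neg h, eps_neg (fun h' => h (by simpa using h'.inv_left))]

theorem eps_self (c : Q) : eps c c = 0 := eps_pos (Commute.refl c)

variable {z : Q}

theorem Ctx.swap (hc : Ctx z) {x y : Q} (h : ¬ Commute x y) : x * y = z * (y * x) :=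
  (hc.cases x y).resolve_left h

theorem Ctx.eps_mul (hc : Ctx z) (c x y : Q) : eps c (x * y) = eps c x + eps c y := by
  by_cases hx : Commute x c <;> by_cases hy : Commute y c
  · rw [eps_pos hx, eps_pos hy, eps_pos (hx.mul_left hy), zero_add]
  · rw [eps_pos hx, eps_neg hy, eps_neg, zero_add]
    intro h
    apply hy
    simpa using hx.inv_left.mul_left h
  · rw [eps_neg hx, eps_pos hy, eps_neg, add_zero]
    intro h
    apply hx
    simpa using h.mul_left hy.inv_left
  · rw [eps_neg hx, eps_neg hy, eps_pos]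
    · rfl
    show x * y * c = c * (x * y)
    calc x * y * c = x * (z * (c * y)) := by rw [mul_assoc, hc.swap hy]
      _ = z * (x * c) * y := by simp only [← mul_assoc, hc.central x]
      _ = z * z * (c * (x * y)) := by rw [hc.swap hx]; simp only [mul_assoc]
      _ = c * (x * y) := by rw [hc.sq, one_mul]

theorem Ctx.eps_of_mem_center {c x : Q} (hx : x ∈ Subgroup.center Q) : eps c x = 0 :=
  eps_pos (show x * c = c * x from (Subgroup.mem_center_iff.mp hx c).symm)

theorem Ctx.eps_of_conj_eq_one {c x : Q} (hx : MulAut.conj x = 1) : eps c x = 0 := by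
  refine Ctx.eps_of_mem_center (Subgroup.mem_center_iff.mpr fun y => ?_)
  have := congrArg (fun f : MulAut Q => f y) hx
  simp only [MulAut.conj_apply, MulAut.one_apply] at this
  calc y * x = x * y * x⁻¹ * x := by rw [this]
    _ = x * y := inv_mul_cancel_right _ _

open Classical in
/-- `x ↦ x` or `x * v` as `x` commutes with `v` or not. -/
noncomputable def refl0 (v x : Q) : Q := if Commute x v then x else x * v

theorem refl0_pos {v x : Q} (h : Commute x v) : refl0 v x = x := if_pos h
theorem refl0_neg {v x : Q} (h : ¬ Commute x v) : refl0 v x = x * v := if_neg h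

theorem refl0_mul (hc : Ctx z) {v : Q} (hv : v * v = z) (x y : Q) :
    refl0 v (x * y) = refl0 v x * refl0 v y := by
  have h := hc.eps_mul v x y
  by_cases hx : Commute x v <;> by_cases hy : Commute y v
  · rw [refl0_pos hx, refl0_pos hy, refl0_pos (hx.mul_left hy)]
  · rw [eps_pos hx, eps_neg hy, zero_add] at h
    rw [refl0_pos hx, refl0_neg hy, refl0_neg, mul_assoc]
    intro h'
    rw [eps_pos h'] at h
    exact zero_ne_one h
  · rw [eps_neg hx, eps_pos hy, add_zero] at h
    rw [refl0_neg hx, refl0_pos hy, refl0_neg, mul_assoc, mul_assoc, hy.eq]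
    intro h'
    rw [eps_pos h'] at h
    exact zero_ne_one h
  · rw [eps_neg hx, eps_neg hy] at h
    rw [refl0_neg hx, refl0_neg hy, refl0_pos (eps_eq_zero_iff.mp (h.trans rfl))]
    have hvy : ¬ Commute v y := fun h' => hy h'.symm
    calc x * y = z * z * (x * y) := by rw [hc.sq, one_mul]
      _ = x * y * (z * z) := by rw [hc.sq, one_mul, mul_one]
      _ = x * (z * y) * (v * v) := by rw [hv, ← hc.central y]; simp only [mul_assoc]
      _ = x * (z * (y * v)) * v := by simp only [mul_assoc]
      _ = x * (v * y) * v := by rw [← hc.swap hvy]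
      _ = x * v * (y * v) := by simp only [mul_assoc]

theorem refl0_inv {v : Q} (x : Q) : refl0 v⁻¹ (refl0 v x) = x := by
  by_cases hx : Commute x v
  · rw [refl0_pos hx, refl0_pos hx.inv_right]
  · rw [refl0_neg hx, refl0_neg, mul_inv_cancel_right]
    intro h
    apply hx
    have h' : Commute (x * v) v := by simpa using h.inv_right
    simpa using h'.mul_left (Commute.refl v).inv_left

/-- The reflection as an automorphism. -/
noncomputable def refl (hc : Ctx z) (v : Q) (hv : v * v = z) : MulAut Q where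
  toFun := refl0 v
  invFun := refl0 v⁻¹
  left_inv x := refl0_inv x
  right_inv x := by simpa using refl0_inv (v := v⁻¹) x
  map_mul' := refl0_mul hc hv

theorem refl_apply (hc : Ctx z) (v : Q) (hv : v * v = z) (x : Q) :
    refl hc v hv x = refl0 v x := rfl

theorem eps_refl (hc : Ctx z) {v : Q} (hv : v * v = z) (c x : Q) :
    eps c (refl hc v hv x) = eps c x + eps v x * eps v c := by
  rw [refl_apply]
  by_cases hx : Commute x v
  · rw [refl0_pos hx, eps_pos hx, zero_mul, add_zero]
  · rw [refl0_neg hx, hc.eps_mul, eps_neg hx, one_mul, eps_comm v c]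

theorem refl_sq (hc : Ctx z) {v : Q} (hv : v * v = z) :
    refl hc v hv * refl hc v hv = MulAut.conj v := by
  refine MulEquiv.ext fun x => ?_
  rw [MulAut.mul_apply, MulAut.conj_apply, refl_apply, refl_apply]
  by_cases hx : Commute x v
  · rw [refl0_pos hx, refl0_pos hx, hx.symm.eq, mul_inv_cancel_right]
  · rw [refl0_neg hx, refl0_neg, hc.swap (fun h => hx h.symm), mul_assoc z, mul_inv_cancel_right,
      mul_assoc x, hv, hc.central]
    intro h
    exact hx (by simpa using h.mul_left (Commute.refl v).inv_left)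

theorem refl_commute (hc : Ctx z) {v w : Q} (hv : v * v = z) (hw : w * w = z) (hvw : Commute v w) :
    refl hc v hv * refl hc w hw = refl hc w hw * refl hc v hv := by
  refine MulEquiv.ext fun x => ?_
  rw [MulAut.mul_apply, MulAut.mul_apply]
  simp only [refl_apply]
  by_cases hxv : Commute x v <;> by_cases hxw : Commute x w
  · rw [refl0_pos hxw, refl0_pos hxv, refl0_pos hxw]
  · rw [refl0_neg hxw, refl0_pos hxv, refl0_neg hxw, refl0_pos (hxv.mul_left hvw.symm)]
  · rw [refl0_pos hxw, refl0_neg hxv, refl0_pos (hxw.mul_left hvw)]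
  · have h1 : ¬ Commute (x * w) v := fun h => hxv (by simpa using h.mul_left hvw.symm.inv_left)
    have h2 : ¬ Commute (x * v) w := fun h => hxw (by simpa using h.mul_left hvw.inv_left)
    rw [refl0_neg hxw, refl0_neg hxv, refl0_neg h1, refl0_neg h2, mul_assoc, mul_assoc, hvw.eq]

theorem conj_shift (φ : MulAut Q) (x : Q) : φ * MulAut.conj x = MulAut.conj (φ x) * φ := by
  refine MulEquiv.ext fun y => ?_
  simp only [MulAut.mul_apply, MulAut.conj_apply, map_mul, map_inv]

/-- Lifts in a complement. -/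
theorem exists_lift (L : Subgroup (MulAut Q)) (hL : (Cfsg.Inn Q).IsComplement' L) (φ : MulAut Q) :
    ∃ u : Q, MulAut.conj u * φ ∈ L := by
  obtain ⟨⟨h, l⟩, hhl⟩ := hL.2 φ
  obtain ⟨a, ha⟩ := h.2
  refine ⟨a⁻¹, ?_⟩
  rw [map_inv, ha, ← hhl, inv_mul_cancel_left]
  exact l.2

theorem conj_eq_one_of_mem (L : Subgroup (MulAut Q)) (hL : (Cfsg.Inn Q).IsComplement' L) (a : Q)
    (ha : MulAut.conj a ∈ L) : MulAut.conj a = 1 := by
  have h := hL.disjoint
  rw [Subgroup.disjoint_def] at h
  exact h ⟨a, rfl⟩ ha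

/-- The obstruction. -/
theorem not_complement (hc : Ctx z) {a b v s t y : Q} (ha : a * a = 1) (hb : b * b = 1)
    (hv : v * v = z) (hab : Commute a b) (hva : Commute v a) (hvb : Commute v b)
    (hta : eps a t = 0) (htb : eps b t = 0) (htv : eps v t = 1)
    (hsb : eps b s = 1) (hsv : eps v s = 1)
    (hya : eps a y = 1) (hyb : eps b y = 0) (hyv : eps v y = 0)
    (L : Subgroup (MulAut Q)) : ¬ (Cfsg.Inn Q).IsComplement' L := by
  intro hL
  have sqmul : ∀ {c : Q}, Commute v c → c * c = 1 → (v * c) * (v * c) = z := by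
    intro c h1 h2
    rw [h1.symm.mul_mul_mul_comm, h2, mul_one, hv]
  have hw : (v * b) * (v * b) = z := sqmul hvb hb
  have hp : (v * a) * (v * a) = z := sqmul hva ha
  have hab2 : (a * b) * (a * b) = 1 := by rw [hab.symm.mul_mul_mul_comm, ha, hb, one_mul]
  have hr : (v * (a * b)) * (v * (a * b)) = z := sqmul (hva.mul_right hvb) hab2
  have hvr : Commute v v := Commute.refl v
  have cvw : Commute v (v * b) := hvr.mul_right hvb
  have cvp : Commute v (v * a) := hvr.mul_right hva
  have cvab : Commute v (a * b) := hva.mul_right hvb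
  have cvr : Commute v (v * (a * b)) := hvr.mul_right cvab
  have cpw : Commute (v * a) (v * b) := cvw.mul_left (hva.symm.mul_right hab)
  have cpr : Commute (v * a) (v * (a * b)) :=
    cvr.mul_left (hva.symm.mul_right ((Commute.refl a).mul_right hab))
  have cwr : Commute (v * b) (v * (a * b)) :=
    cvr.mul_left (hvb.symm.mul_right (hab.symm.mul_right (Commute.refl b)))
  set R1 := refl hc v hv with hR1
  set R2 := refl hc (v * b) hw with hR2
  set R3 := refl hc (v * a) hp with hR3
  set R4 := refl hc (v * (a * b)) hr with hR4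
  have c12 : Commute R1 R2 := refl_commute hc hv hw cvw
  have c13 : Commute R1 R3 := refl_commute hc hv hp cvp
  have c14 : Commute R1 R4 := refl_commute hc hv hr cvr
  have c23 : Commute R2 R3 := refl_commute hc hw hp cpw.symm
  have c24 : Commute R2 R4 := refl_commute hc hw hr cwr
  have c34 : Commute R3 R4 := refl_commute hc hp hr cpr
  set φ := R1 * R2 with hφ
  set ψ := R3 * R2 * R4 with hψ
  have cφψ : Commute φ ψ :=
    ((c13.mul_right c12).mul_right c14).mul_left ((c23.mul_right (Commute.refl R2)).mul_right c24)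
  have hφ2 : φ * φ = MulAut.conj (v * (v * b)) := by
    rw [hφ, c12.symm.mul_mul_mul_comm, hR1, hR2, refl_sq, refl_sq, map_mul MulAut.conj v (v * b)]
  have hψ2 : ψ * ψ = MulAut.conj (v * a * (v * b) * (v * (a * b))) := by
    rw [hψ, (c34.symm.mul_right c24.symm).mul_mul_mul_comm, c23.mul_mul_mul_comm, hR2, hR3, hR4,
      refl_sq, refl_sq, refl_sq, map_mul MulAut.conj (v * a * (v * b)) (v * (a * b)),
      map_mul MulAut.conj (v * a) (v * b)]
  have eφ : ∀ c x, eps c (φ x) = eps c x + eps (v * b) x * eps (v * b) c + eps v x * eps v c := by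
    intro c x
    rw [hφ, MulAut.mul_apply, hR1, eps_refl, hR2, eps_refl, eps_refl, eps_pos cvw]
    ring
  have eψ : ∀ c x, eps c (ψ x) = eps c x + eps (v * (a * b)) x * eps (v * (a * b)) c
      + eps (v * b) x * eps (v * b) c + eps (v * a) x * eps (v * a) c := by
    intro c x
    rw [hψ, MulAut.mul_apply, MulAut.mul_apply, hR2, hR3, hR4]
    simp only [eps_refl]
    rw [eps_pos cpw, eps_pos cwr, eps_pos cpr]
    ring
  obtain ⟨u, hu⟩ := exists_lift L hL φ
  obtain ⟨u', hu'⟩ := exists_lift L hL ψ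
  have e1 : MulAut.conj (u * φ u * (v * (v * b))) = 1 := by
    refine conj_eq_one_of_mem L hL _ ?_
    have h := L.mul_mem hu hu
    rwa [mul_assoc (MulAut.conj u), ← mul_assoc φ, conj_shift, mul_assoc (MulAut.conj (φ u)), hφ2,
      ← mul_assoc, ← map_mul, ← map_mul] at h
  have e2 : MulAut.conj (u' * ψ u' * (v * a * (v * b) * (v * (a * b)))) = 1 := by
    refine conj_eq_one_of_mem L hL _ ?_
    have h := L.mul_mem hu' hu'
    rwa [mul_assoc (MulAut.conj u'), ← mul_assoc ψ, conj_shift, mul_assoc (MulAut.conj (ψ u')), hψ2,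
      ← mul_assoc, ← map_mul, ← map_mul] at h
  have e3 : MulAut.conj (u * φ u' * (u' * ψ u)⁻¹) = 1 := by
    refine conj_eq_one_of_mem L hL _ ?_
    have h := L.mul_mem (L.mul_mem hu hu') (L.inv_mem (L.mul_mem hu' hu))
    have h1 : MulAut.conj u * φ * (MulAut.conj u' * ψ) = MulAut.conj (u * φ u') * (φ * ψ) := by
      rw [mul_assoc (MulAut.conj u), ← mul_assoc φ, conj_shift,
        mul_assoc (MulAut.conj (φ u')) φ ψ, ← mul_assoc, ← map_mul]
    have h2 : MulAut.conj u' * ψ * (MulAut.conj u * φ) = MulAut.conj (u' * ψ u) * (φ * ψ) := by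
      rw [mul_assoc (MulAut.conj u'), ← mul_assoc ψ, conj_shift,
        mul_assoc (MulAut.conj (ψ u)) ψ φ, ← mul_assoc, ← map_mul, cφψ.eq]
    rw [h1, h2, mul_inv_rev, mul_assoc, mul_inv_cancel_left, ← map_inv, ← map_mul] at h
    exact h
  have f1 := Ctx.eps_of_conj_eq_one (c := s) e1
  have f2 := Ctx.eps_of_conj_eq_one (c := y) e2
  have f3 := Ctx.eps_of_conj_eq_one (c := t) e3
  simp only [hc.eps_mul, eps_inv, eφ, eψ] at f1 f2 f3
  have lin : ∀ p q x : Q, eps (p * q) x = eps p x + eps q x := fun p q x => by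
    rw [eps_comm (p * q), hc.eps_mul, eps_comm x p, eps_comm x q]
  rw [eps_comm s v, eps_comm s b] at f1
  rw [eps_comm y v, eps_comm y a, eps_comm y b] at f2
  simp only [lin, hsb, hsv, hta, htb, htv, hya, hyb, hyv] at f1 f2 f3
  revert f1 f2 f3
  generalize eps s u = x1
  generalize eps v u = x2
  generalize eps b u = x3
  generalize eps a u = x4
  generalize eps y u' = x5
  generalize eps v u' = x6
  generalize eps b u' = x7
  generalize eps a u' = x8
  generalize eps t u = x9
  generalize eps t u' = x10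
  revert x1 x2 x3 x4 x5 x6 x7 x8 x9 x10
  decide

theorem exists_witness [Finite Q] (hQ : Cfsg.IsExtraspecial 2 Q) {H : Subgroup Q}
    (hH : Subgroup.center Q ≤ H) {x : Q} (hx : x ∉ H) :
    ∃ y : Q, eps x y = 1 ∧ ∀ h ∈ H, eps h y = 0 := by
  rw [← Cfsg.Agent.Lib.ExtraTwoQ.centralizer_centralizer hQ hH, Subgroup.mem_centralizer_iff] at hx
  push Not at hx
  obtain ⟨y, hy, hyx⟩ := hx
  refine ⟨y, eps_neg hyx, fun h hh => eps_pos ?_⟩
  exact (Subgroup.mem_centralizer_iff.mp hy h hh).symm

theorem mem_of_mem_sup (hc : Ctx z) (hz : z ∈ Subgroup.center Q) {K : Subgroup Q} [K.Normal]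
    (hzK : Subgroup.center Q ≤ K) {v e x : Q} (hv : v * v = z) (hve : eps e v = 1)
    (hKe : ∀ k ∈ K, eps e k = 0) (hx : x ∈ K ⊔ Subgroup.zpowers v) (hxe : eps e x = 0) : x ∈ K := by
  rw [← SetLike.mem_coe, Subgroup.coe_mul_of_right_le_normalizer_left _ _
    (by rw [Subgroup.normalizer_eq_top]; exact le_top)] at hx
  obtain ⟨k, hk, _, ⟨j, rfl⟩, rfl⟩ := hx
  rcases Int.even_or_odd j with ⟨m, hm⟩ | ⟨m, hm⟩
  · refine K.mul_mem hk ?_
    show v ^ j ∈ K
    rw [hm, zpow_add, ← (Commute.refl v).mul_zpow, hv]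
    exact K.zpow_mem (hzK hz) _
  · exfalso
    change eps e (k * v ^ j) = 0 at hxe
    rw [hm, zpow_add, zpow_one, two_mul, zpow_add, ← (Commute.refl v).mul_zpow, hv,
      hc.eps_mul, hKe k hk, hc.eps_mul, hve,
      Ctx.eps_of_mem_center (Subgroup.zpow_mem _ hz m), zero_add, zero_add] at hxe
    exact one_ne_zero hxe

theorem exists_not_mem {E S : Subgroup Q} [Finite Q] (h : Nat.card S < Nat.card E) :
    ∃ x ∈ E, x ∉ S := by
  by_contra! hh
  exact absurd (Subgroup.card_le_of_le (show E ≤ S from hh)) (not_le.mpr h)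


/-- Let Q be an extraspecial 2-group of order 2^(2n+1) with n ≥ 3 that is of plus type (it contains an elementary abelian subgroup of order 2^(n+1)). Then the group of inner automorphisms of Q has no complement in the full automorphism group of Q: the extension of the inner automorphism group (elementary abelian of order 2^(2n)) by the outer automorphism group (the orthogonal group of plus type) does not split. -/
theorem result {Q : Type*} [Group Q] [Finite Q] (n : ℕ) (hn : 3 ≤ n) (hQ : Cfsg.IsExtraspecial 2 Q) (hcard : Nat.card Q = 2 ^ (2 * n + 1)) (hplus : ∃ E : Subgroup Q, Cfsg.IsElementaryAbelian 2 E ∧ Nat.card ↥E = 2 ^ (n + 1)) (L : Subgroup (MulAut Q)) : ¬ (Cfsg.Inn Q).IsComplement' L := by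
  obtain ⟨E, hE, hEcard⟩ := hplus
  obtain ⟨z, hzc, hz1⟩ := Cfsg.Agent.Lib.ExtraTwoQ.exists_center_ne_one hQ
  have hcz : ∀ x ∈ Subgroup.center Q, x = 1 ∨ x = z := fun x hx =>
    Cfsg.Agent.Lib.ExtraTwoQ.center_eq_pair hQ hzc hz1 hx
  have hc : Ctx z := by
    refine ⟨fun x => Subgroup.mem_center_iff.mp hzc x, ?_, fun x y => ?_⟩
    · rw [← sq]; exact Cfsg.Agent.Lib.ExtraTwoQ.center_sq_eq_one hQ hzc
    · rcases hcz _ (Cfsg.Agent.Lib.ExtraTwoQ.comm_mem_center hQ x y) with h | h
      · left; rwa [mul_inv_eq_one, mul_inv_eq_iff_eq_mul] at h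
      · right
        rw [mul_inv_eq_iff_eq_mul, mul_inv_eq_iff_eq_mul] at h
        rw [h, mul_assoc]
  have hsqE : ∀ x ∈ E, x * x = 1 := by
    intro x hx
    have := hE.2 x hx
    rwa [sq] at this
  have hcomE : ∀ x ∈ E, ∀ y ∈ E, Commute x y := fun x hx y hy =>
    congrArg Subtype.val (hE.1.is_comm.comm (⟨x, hx⟩ : E) ⟨y, hy⟩)
  have h16 : 16 ≤ Nat.card E := by
    rw [hEcard]
    calc 16 = 2 ^ 4 := by norm_num
      _ ≤ 2 ^ (n + 1) := Nat.pow_le_pow_right (by norm_num) (by omega)
  set Z := Subgroup.center Q with hZ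
  obtain ⟨a, haE, haZ⟩ := exists_not_mem (E := E) (S := Z) (by rw [hQ.2]; omega)
  set A := Z ⊔ Subgroup.zpowers a with hA
  have hAcard : Nat.card A ≤ 4 := by
    have := Cfsg.Agent.Lib.ExtraTwoQ.card_sup_zpowers_le hQ (le_refl Z) a
    rw [hQ.2] at this
    exact this
  obtain ⟨b, hbE, hbA⟩ := exists_not_mem (E := E) (S := A) (by omega)
  set H := A ⊔ Subgroup.zpowers b with hH
  have hHcard : Nat.card H ≤ 8 := by
    have h2 : Nat.card H ≤ 2 * Nat.card A :=
      Cfsg.Agent.Lib.ExtraTwoQ.card_sup_zpowers_le hQ (le_sup_left : Z ≤ A) b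
    omega
  obtain ⟨e, heE, heH⟩ := exists_not_mem (E := E) (S := H) (by omega)
  have hZH : Z ≤ H := le_sup_left.trans le_sup_left
  have haH : a ∈ H := Subgroup.mem_sup_left (Subgroup.mem_sup_right (Subgroup.mem_zpowers a))
  have hbH : b ∈ H := Subgroup.mem_sup_right (Subgroup.mem_zpowers b)
  obtain ⟨y0, hy0e, hy0H⟩ := exists_witness hQ hZH heH
  obtain ⟨v, hv, hva, hvb, hve⟩ : ∃ v : Q, v * v = z ∧ eps a v = 0 ∧ eps b v = 0 ∧ eps e v = 1 := by
    have hsq : y0 * y0 = 1 ∨ y0 * y0 = z := by
      have := hcz _ (Cfsg.Agent.Lib.ExtraTwoQ.sq_mem_center hQ y0)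
      rwa [sq] at this
    rcases hsq with h | h
    · refine ⟨e * y0, ?_, ?_, ?_, ?_⟩
      · have hne : ¬ Commute y0 e := fun hh => one_ne_zero (hy0e.symm.trans (eps_pos hh))
        calc e * y0 * (e * y0) = e * (y0 * e) * y0 := by simp only [mul_assoc]
          _ = e * z * (e * (y0 * y0)) := by rw [hc.swap hne]; simp only [mul_assoc]
          _ = z * (e * e) := by rw [h, mul_one, hc.central e, mul_assoc]
          _ = z := by rw [hsqE e heE, mul_one]
      · rw [hc.eps_mul, eps_pos (hcomE e heE a haE), hy0H a haH, zero_add]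
      · rw [hc.eps_mul, eps_pos (hcomE e heE b hbE), hy0H b hbH, zero_add]
      · rw [hc.eps_mul, eps_self, hy0e, zero_add]
    · exact ⟨y0, h, hy0H a haH, hy0H b hbH, hy0e⟩
  set Kb := Z ⊔ Subgroup.zpowers b with hKb
  haveI : Kb.Normal := Cfsg.Agent.Lib.ExtraTwoQ.normal_of_center_le hQ le_sup_left
  haveI : Z.Normal := Cfsg.Agent.Lib.ExtraTwoQ.normal_of_center_le hQ le_rfl
  haveI : A.Normal := Cfsg.Agent.Lib.ExtraTwoQ.normal_of_center_le hQ le_sup_left
  have hZe : ∀ k ∈ Z, eps e k = 0 := fun k hk => Ctx.eps_of_mem_center hk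
  have hKe : ∀ k ∈ Kb, eps e k = 0 := by
    intro k hk
    rw [eps_eq_zero_iff]
    have hle : Kb ≤ Subgroup.centralizer ({e} : Set Q) := by
      refine sup_le (Subgroup.center_le_centralizer _) ?_
      rw [Subgroup.zpowers_le, Subgroup.mem_centralizer_singleton_iff]
      exact (hcomE b hbE e heE).eq
    exact Subgroup.mem_centralizer_singleton_iff.mp (hle hk)
  have hvH : v ∉ H := by
    intro hh
    have hle : H ≤ Subgroup.centralizer ({e} : Set Q) := by
      refine sup_le (sup_le (Subgroup.center_le_centralizer _) ?_) ?_ <;>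
        rw [Subgroup.zpowers_le, Subgroup.mem_centralizer_singleton_iff]
      · exact (hcomE a haE e heE).eq
      · exact (hcomE b hbE e heE).eq
    exact one_ne_zero (hve.symm.trans
      (eps_pos (Subgroup.mem_centralizer_singleton_iff.mp (hle hh))))
  have hbv : b ∉ Z ⊔ Subgroup.zpowers v := fun hh =>
    hbA (Subgroup.mem_sup_left
      (mem_of_mem_sup hc hzc le_rfl hv hve hZe hh (eps_pos (hcomE b hbE e heE))))
  have hav : a ∉ Kb ⊔ Subgroup.zpowers v := by
    intro hh
    have h1 : a ∈ Kb := mem_of_mem_sup hc hzc le_sup_left hv hve hKe hh (eps_pos (hcomE a haE e heE))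
    rw [hKb, ← SetLike.mem_coe, Subgroup.coe_mul_of_right_le_normalizer_left _ _
      (by rw [Subgroup.normalizer_eq_top]; exact le_top)] at h1
    obtain ⟨c, hcc, _, ⟨j, rfl⟩, hj⟩ := h1
    rcases Int.even_or_odd j with ⟨m, hm⟩ | ⟨m, hm⟩
    · refine haZ ?_
      rw [← hj]
      refine Z.mul_mem hcc ?_
      show b ^ j ∈ Z
      rw [hm, zpow_add, ← (Commute.refl b).mul_zpow, hsqE b hbE, one_zpow]
      exact Z.one_mem
    · refine hbA ?_
      have hbe : b = c⁻¹ * a := by
        rw [← hj]
        show b = c⁻¹ * (c * b ^ j)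
        rw [inv_mul_cancel_left, hm, zpow_add, zpow_one, two_mul, zpow_add,
          ← (Commute.refl b).mul_zpow, hsqE b hbE, one_zpow, one_mul]
      rw [hbe]
      exact A.mul_mem (A.inv_mem (Subgroup.mem_sup_left hcc))
        (Subgroup.mem_sup_right (Subgroup.mem_zpowers a))
  obtain ⟨t, htv, htH⟩ := exists_witness hQ hZH hvH
  obtain ⟨r, hrb, hrv⟩ := exists_witness hQ (le_sup_left : Z ≤ Z ⊔ Subgroup.zpowers v) hbv
  obtain ⟨y, hya, hyK⟩ := exists_witness hQ
    ((le_sup_left : Z ≤ Kb).trans le_sup_left) hav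
  refine not_complement hc (s := t * r) (t := t) (y := y) (hsqE a haE) (hsqE b hbE) hv
    (hcomE a haE b hbE) (eps_eq_zero_iff.mp hva) (eps_eq_zero_iff.mp hvb)
    (htH a haH) (htH b hbH) htv ?_ ?_ hya
    (hyK b (Subgroup.mem_sup_left (Subgroup.mem_sup_right (Subgroup.mem_zpowers b))))
    (hyK v (Subgroup.mem_sup_right (Subgroup.mem_zpowers v))) L
  · rw [hc.eps_mul, htH b hbH, hrb, zero_add]
  · rw [hc.eps_mul, htv, hrv v (Subgroup.mem_sup_right (Subgroup.mem_zpowers v)), add_zero]

end Cfsg.Agent.S3085
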