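import Cfsg.Statements.S3087
import Mathlib

set_option autoImplicit false
open Cfsg

namespace Cfsg.Agent.S3087

/-- Let p be a prime, G a finite group acting linearly on a finite vector space V over the field with p elements, W a G-invariant subspace, and A a subgroup of G with |A|·|C_V(A)| ≥ |B|·|C_V(B)| for every subgroup B of A. Then |A|·|C_W(A)| ≥ |B|·|C_W(B)| for every subgroup B of A that contains C_A(W); that is, the image of A in the group induced on W satisfies the same maximality condition. -/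
theorem result {G V : Type*} [Group G] [Finite G] [AddCommGroup V] [Finite V] (p : ℕ) [Fact p.Prime] [Module (ZMod p) V]
    (ρ : Representation (ZMod p) G V) (W : Submodule (ZMod p) V) (hW : ∀ g : G, ∀ w ∈ W, ρ g w ∈ W)
    (A : Subgroup G)
    (hP : ∀ B : Subgroup G, B ≤ A →
      Nat.card ↥B * Nat.card {v : V // ∀ b ∈ B, ρ b v = v} ≤ Nat.card ↥A * Nat.card {v : V // ∀ a ∈ A, ρ a v = v})
    (B : Subgroup G) (hBA : B ≤ A) (hCB : ∀ a ∈ A, (∀ w ∈ W, ρ a w = w) → a ∈ B) :
    Nat.card ↥B * Nat.card {w : W // ∀ b ∈ B, ρ b w = w} ≤ Nat.card ↥A * Nat.card {w : W // ∀ a ∈ A, ρ a w = w} := by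
  let fixV : Subgroup G → AddSubgroup V := fun H =>
    { carrier := {v : V | ∀ h ∈ H, ρ h v = v}
      zero_mem' := fun h _ => map_zero _
      add_mem' := fun {a b} ha hb h hh => by rw [map_add, ha h hh, hb h hh]
      neg_mem' := fun {a} ha h hh => by rw [map_neg, ha h hh] }
  let X : AddSubgroup V := fixV A
  let Y : AddSubgroup V := fixV B ⊓ W.toAddSubgroup
  have hXY : X ≤ fixV B := fun v hv b hb => hv b (hBA hb)
  have hXW : Nat.card {w : W // ∀ a ∈ A, ρ a w = w} = Nat.card (Y ⊓ X : AddSubgroup V) :=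
    Nat.card_congr
      { toFun := fun w => ⟨(w.1 : V), ⟨⟨hXY w.2, w.1.2⟩, w.2⟩⟩
        invFun := fun v => ⟨⟨v.1, v.2.1.2⟩, v.2.2⟩
        left_inv := fun w => rfl
        right_inv := fun v => rfl }
  have hYW : Nat.card {w : W // ∀ b ∈ B, ρ b w = w} = Nat.card Y :=
    Nat.card_congr
      { toFun := fun w => ⟨(w.1 : V), ⟨w.2, w.1.2⟩⟩
        invFun := fun v => ⟨⟨v.1, v.2.2⟩, v.2.1⟩
        left_inv := fun w => rfl
        right_inv := fun v => rfl }
  have hAc : Nat.card {v : V // ∀ a ∈ A, ρ a v = v} = Nat.card X := rfl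
  have hBc : Nat.card {v : V // ∀ b ∈ B, ρ b v = v} = Nat.card (fixV B) := rfl
  have h1 : Nat.card (Y ⊓ X : AddSubgroup V) * Y.relIndex X = Nat.card X := by
    rw [← AddSubgroup.inf_relIndex_right Y X, ← AddSubgroup.relIndex_bot_left,
      ← AddSubgroup.relIndex_bot_left, AddSubgroup.relIndex_mul_relIndex _ _ _ bot_le inf_le_right]
  have h2 : Nat.card Y * Y.relIndex (fixV B) = Nat.card (fixV B) := by
    rw [← AddSubgroup.relIndex_bot_left, ← AddSubgroup.relIndex_bot_left,
      AddSubgroup.relIndex_mul_relIndex _ _ _ bot_le inf_le_left]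
  have h3 : Y.relIndex X ≤ Y.relIndex (fixV B) :=
    AddSubgroup.relIndex_le_of_le_right hXY AddSubgroup.index_ne_zero_of_finite
  have h4 := hP B hBA
  rw [hAc, hBc] at h4
  rw [hXW, hYW]
  have h5 : 0 < Nat.card X := Nat.card_pos
  refine Nat.le_of_mul_le_mul_right ?_ h5
  calc Nat.card ↥B * Nat.card Y * Nat.card X
      = Nat.card ↥B * (Nat.card Y * Y.relIndex X) * Nat.card (Y ⊓ X : AddSubgroup V) := by
        rw [← h1]; ring
    _ ≤ Nat.card ↥B * (Nat.card Y * Y.relIndex (fixV B)) * Nat.card (Y ⊓ X : AddSubgroup V) := by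
        gcongr
    _ = Nat.card ↥B * Nat.card (fixV B) * Nat.card (Y ⊓ X : AddSubgroup V) := by rw [h2]
    _ ≤ Nat.card ↥A * Nat.card X * Nat.card (Y ⊓ X : AddSubgroup V) := by gcongr
    _ = Nat.card ↥A * Nat.card (Y ⊓ X : AddSubgroup V) * Nat.card X := by ring

end Cfsg.Agent.S3087
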