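import Cfsg.Statements.S3104
import Mathlib
import Cfsg.Agent.S3103
import Cfsg.Agent.Lib.H59.SectFour.Classify
import Cfsg.Agent.Lib.H59.SectFour.Coord
import Cfsg.Agent.Lib.H59.SectFour.Frame
-- import your own Cfsg.Agent.* helpers here

set_option autoImplicit false
open Cfsg

namespace Cfsg.Agent.S3104

open Cfsg.Agent.Lib Cfsg.Agent.Lib.H59.SectFour Cfsg.Agent.Lib.ASevenGL
open scoped Matrix

/-- Let X be a finite nonsolvable 2-constrained group with no nontrivial normal subgroup of odd order such that O₂(X) has sectional 2-rank at most 4, and write Q for X/O₂(X). Then Q is isomorphic to the projective special linear group of dimension 3 over the field with 2 elements, to an alternating group of degree n with 5 ≤ n ≤ 8, to a symmetric group of degree n with 5 ≤ n ≤ 7, or else O₃(Q) has order 3 and Q/O₃(Q) is isomorphic to the alternating or the symmetric group of degree 5 (so Q is the direct product of a group of order 3 with the alternating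 group of degree 5, or an extension of that direct product by a group of order 2). If moreover X itself has sectional 2-rank at most 4, then Q is not isomorphic to the symmetric group of degree 6 or 7 nor to the alternating group of degree 8. -/
theorem result {X : Type*} [Group X] [Finite X] (hns : ¬ Group.IsSolvable X) (hc : Cfsg.IsPConstrained 2 X) (hO : Cfsg.oddCore X = ⊥)
    (h4 : Cfsg.SectionalPRankLE 2 4 ↥(Cfsg.pCore 2 X)) :
    ((∃ (F : Type) (_ : Field F) (_ : Fintype F), Fintype.card F = 2 ∧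
          Nonempty (X ⧸ Cfsg.pCore 2 X ≃* Matrix.ProjectiveSpecialLinearGroup (Fin 3) F)) ∨
        (∃ n : ℕ, 5 ≤ n ∧ n ≤ 8 ∧ Nonempty (X ⧸ Cfsg.pCore 2 X ≃* ↥(alternatingGroup (Fin n)))) ∨
        (∃ n : ℕ, 5 ≤ n ∧ n ≤ 7 ∧ Nonempty (X ⧸ Cfsg.pCore 2 X ≃* Equiv.Perm (Fin n))) ∨
        (Nat.card ↥(Cfsg.pCore 3 (X ⧸ Cfsg.pCore 2 X)) = 3 ∧
          (Nonempty ((X ⧸ Cfsg.pCore 2 X) ⧸ Cfsg.pCore 3 (X ⧸ Cfsg.pCore 2 X) ≃* ↥(alternatingGroup (Fin 5))) ∨
            Nonempty ((X ⧸ Cfsg.pCore 2 X) ⧸ Cfsg.pCore 3 (X ⧸ Cfsg.pCore 2 X) ≃* Equiv.Perm (Fin 5))))) ∧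
      (Cfsg.SectionalPRankLE 2 4 X →
        ¬ (Nonempty (X ⧸ Cfsg.pCore 2 X ≃* Equiv.Perm (Fin 6)) ∨ Nonempty (X ⧸ Cfsg.pCore 2 X ≃* Equiv.Perm (Fin 7)) ∨
            Nonempty (X ⧸ Cfsg.pCore 2 X ≃* ↥(alternatingGroup (Fin 8))))) := by
  classical
  haveI : Fact (Nat.Prime 2) := ⟨Nat.prime_two⟩
  refine ⟨?_, fun hX h678 => ?_⟩
  · obtain ⟨f, hf⟩ := S3103.result hc hO h4
    let E : X ⧸ Cfsg.pCore 2 X ≃* f.range := MonoidHom.ofInjective hf
    have hnsK : ¬ Group.IsSolvable f.range := by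
      intro h
      haveI : Group.IsSolvable (X ⧸ Cfsg.pCore 2 X) :=
        Group.isSolvable_of_isSolvable_injective (f := E.toMonoidHom) E.injective
      haveI : Group.IsSolvable (Cfsg.pCore 2 X) := by
        haveI := (PSolvable.pCore_isPGroup (p := 2) (G := X)).isNilpotent
        infer_instance
      exact hns (Group.isSolvable_of_ker_le_range (Cfsg.pCore 2 X).subtype (QuotientGroup.mk' (Cfsg.pCore 2 X))
        (by rw [QuotientGroup.ker_mk', Subgroup.range_subtype]))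
    have hOK : Cfsg.pCore 2 f.range = ⊥ := by
      rw [← PSolvable.map_pCore_equiv E, PSolvable.pCore_quotient_eq_bot, Subgroup.map_bot]
    rcases Lib.H59.SectFour.classify f.range hnsK hOK with h | ⟨h3, h⟩
    · rcases h with ⟨n, h1, h2, ⟨a⟩⟩ | ⟨⟨a⟩⟩ | ⟨⟨a⟩⟩ | ⟨⟨a⟩⟩
      · exact Or.inr (Or.inl ⟨n, h1, h2, ⟨E.trans a⟩⟩)
      · exact Or.inr (Or.inr (Or.inl ⟨5, le_rfl, by norm_num, ⟨E.trans a⟩⟩))
      · exact Or.inr (Or.inr (Or.inl ⟨6, by norm_num, by norm_num, ⟨E.trans a⟩⟩))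
      · refine Or.inl ⟨ZMod 2, inferInstance, inferInstance, ZMod.card 2, ?_⟩
        have hz : Subgroup.center (Matrix.SpecialLinearGroup (Fin 3) (ZMod 2)) = ⊥ := by
          refine (Subgroup.eq_bot_iff_forall _).2 fun z hz => ?_
          obtain ⟨r, hr, hsc⟩ := Matrix.SpecialLinearGroup.mem_center_iff.1 hz
          have hr1 : r = 1 := by
            rcases zmod_two_cases r with h | h
            · exfalso; rw [h] at hr; norm_num at hr
            · exact h
          exact Subtype.ext (by rw [← hsc, hr1, map_one]; rfl)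
        exact ⟨(E.trans a).trans ((MulEquiv.ofBijective _ S2553.toGL_bijective).symm.trans
          ((QuotientGroup.quotientMulEquivOfEq hz).trans QuotientGroup.quotientBot).symm)⟩
    · have hmap := PSolvable.map_pCore_equiv (p := 3) E
      let E3 := QuotientGroup.congr (Cfsg.pCore 3 (X ⧸ Cfsg.pCore 2 X)) (Cfsg.pCore 3 f.range) E hmap
      refine Or.inr (Or.inr (Or.inr ⟨?_, ?_⟩))
      · exact (Subgroup.card_map_of_injective E.injective).symm.trans
          ((congrArg (fun s : Subgroup f.range => Nat.card s) hmap).trans h3)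
      · rcases h with ⟨⟨a⟩⟩ | ⟨⟨a⟩⟩
        · exact Or.inl ⟨E3.trans a⟩
        · exact Or.inr ⟨E3.trans a⟩
  · obtain ⟨ρ, θ, hker, hact, hfix⟩ := exists_coord hc hO h4
    let Ψ : Matrix.SpecialLinearGroup (Fin 4) (ZMod 2) ≃* AEight :=
      (MonoidHom.ofInjective S0256.toPerm_injective).trans (MulEquiv.subgroupCongr range_toPerm)
    let f : X →* AEight := Ψ.toMonoidHom.comp ρ
    have hfk : f.ker = Cfsg.pCore 2 X := by
      rw [← hker]; ext x; exact map_eq_one_iff _ Ψ.injective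
    let E : X ⧸ Cfsg.pCore 2 X ≃* f.range :=
      (QuotientGroup.quotientMulEquivOfEq hfk.symm).trans (QuotientGroup.quotientKerEquivRange f)
    obtain ⟨σ, hσ⟩ := exists_frame f.range (by
      rcases h678 with ⟨⟨a⟩⟩ | ⟨⟨a⟩⟩ | ⟨⟨a⟩⟩
      · exact Or.inl ⟨E.symm.trans a⟩
      · exact Or.inr (Or.inl ⟨E.symm.trans a⟩)
      · exact Or.inr (Or.inr ⟨E.symm.trans a⟩))
    set P := Ψ.symm σ with hP
    let ρ' : X →* Matrix.SpecialLinearGroup (Fin 4) (ZMod 2) := (MulAut.conj P).toMonoidHom.comp ρ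
    have hrange : ∀ s, Ψ s ∈ pairStab → s ∈ ρ'.range := by
      intro s hs
      obtain ⟨x, hx⟩ := hσ _ hs
      refine ⟨x, Ψ.injective ?_⟩
      show Ψ (P * ρ x * P⁻¹) = Ψ s
      rw [map_mul, map_mul, map_inv, hP, Ψ.apply_symm_apply, show Ψ (ρ x) = σ⁻¹ * Ψ s * σ from hx]
      simp [mul_assoc]
    have hstab : ∀ (s : Matrix.SpecialLinearGroup (Fin 4) (ZMod 2)) (π : Equiv.Perm (Fin 8)),
        S0256.toPerm s = π → (∀ a, π a < 6 ↔ a < 6) → s ∈ ρ'.range := by
      intro s π h h'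
      refine hrange s ?_
      intro a
      show S0256.toPerm s a < 6 ↔ a < 6
      rw [h]; exact h' a
    have hE := hstab _ _ toPerm_slE fun a => (perm_stab a).1
    have hH := hstab _ _ toPerm_slH fun a => (perm_stab a).2.2.2
    let θ' : Cfsg.pCore 2 X →* Multiplicative (Fin 4 → ZMod 2) :=
      MonoidHom.mk' (fun q => Multiplicative.ofAdd (P.1 *ᵥ Multiplicative.toAdd (θ q))) fun a b => by
        rw [map_mul, toAdd_mul, Matrix.mulVec_add, ofAdd_add]
    have hPP : ∀ v, (P⁻¹).1 *ᵥ (P.1 *ᵥ v) = v := fun v => by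
      rw [Matrix.mulVec_mulVec, ← Matrix.SpecialLinearGroup.coe_mul, inv_mul_cancel,
        Matrix.SpecialLinearGroup.coe_one, Matrix.one_mulVec]
    have hPP' : ∀ v, P.1 *ᵥ ((P⁻¹).1 *ᵥ v) = v := fun v => by
      rw [Matrix.mulVec_mulVec, ← Matrix.SpecialLinearGroup.coe_mul, mul_inv_cancel,
        Matrix.SpecialLinearGroup.coe_one, Matrix.one_mulVec]
    have hρ' : ∀ x v, (ρ' x).1 *ᵥ (P.1 *ᵥ v) = P.1 *ᵥ ((ρ x).1 *ᵥ v) := fun x v => by
      show (P * ρ x * P⁻¹).1 *ᵥ _ = _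
      rw [Matrix.SpecialLinearGroup.coe_mul, Matrix.SpecialLinearGroup.coe_mul, ← Matrix.mulVec_mulVec, hPP,
        ← Matrix.mulVec_mulVec]
    have hact' : ∀ x q, Multiplicative.toAdd (θ' (MulAut.conjNormal x q)) =
        (ρ' x).1 *ᵥ Multiplicative.toAdd (θ' q) := fun x q => by
      exact (congrArg (P.1 *ᵥ ·) (hact x q)).trans (hρ' x _).symm
    have hker' : ρ'.ker = Cfsg.pCore 2 X := by
      rw [← hker]; ext x; exact map_eq_one_iff _ (MulAut.conj P).injective
    have hsurj : ∀ v, ∃ q, Multiplicative.toAdd (θ' q) = v := by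
      intro v
      obtain ⟨q, hq⟩ := hfix ((P⁻¹).1 *ᵥ v)
      refine ⟨q, ?_⟩
      show P.1 *ᵥ Multiplicative.toAdd (θ q) = v
      have hzero : v - P.1 *ᵥ Multiplicative.toAdd (θ q) = 0 := by
        have key : ∀ x, (ρ' x).1 *ᵥ (v - P.1 *ᵥ Multiplicative.toAdd (θ q)) =
            v - P.1 *ᵥ Multiplicative.toAdd (θ q) := by
          intro x
          have h := congrArg (P.1 *ᵥ ·) (hq x)
          simp only [Matrix.mulVec_sub, hPP'] at h
          rw [← hρ', ← hρ', hPP'] at h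
          rw [Matrix.mulVec_sub]
          exact h
        obtain ⟨xe, hxe⟩ := hE
        obtain ⟨xh, hxh⟩ := hH
        exact no_common_fixed _ (hxe ▸ key xe) (hxh ▸ key xh)
      exact (sub_eq_zero.1 hzero).symm
    exact not_sectionalPRankLE hker' hact' hsurj hE (hstab _ _ toPerm_slF fun a => (perm_stab a).2.1)
      (hstab _ _ toPerm_slG fun a => (perm_stab a).2.2.1) hX

end Cfsg.Agent.S3104
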