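import Cfsg.Statements.S3105
import Cfsg.Agent.Lib.L32Core58.Iso
import Cfsg.Agent.Lib.LinGroup.Simple
import Cfsg.Agent.Lib.LinGroup.Order
import Cfsg.Agent.Lib.PSolvable.HallHigman

set_option autoImplicit false
open Cfsg

namespace Cfsg.Agent.S3105

open Cfsg.Agent.Lib in
/-- Let X be a finite nonsolvable 2-constrained group with no nontrivial normal subgroup of odd order and of sectional 2-rank at most 4, and suppose X/O₂(X) is isomorphic to the projective special linear group of dimension 3 over the field with 2 elements. Then O₂(X) is elementary abelian of order 8 or 16, or is isomorphic to the direct product of a cyclic group of order 4 and an elementary abelian group of order 8. -/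
theorem result {X : Type*} [Group X] [Finite X] (hns : ¬ Group.IsSolvable X) (hc : Cfsg.IsPConstrained 2 X) (hO : Cfsg.oddCore X = ⊥)
    (h4 : Cfsg.SectionalPRankLE 2 4 X) {F : Type*} [Field F] [Fintype F] (hF : Fintype.card F = 2)
    (hQ : Nonempty (X ⧸ Cfsg.pCore 2 X ≃* Matrix.ProjectiveSpecialLinearGroup (Fin 3) F)) :
    (Cfsg.IsElementaryAbelian 2 (Cfsg.pCore 2 X) ∧ (Nat.card ↥(Cfsg.pCore 2 X) = 8 ∨ Nat.card ↥(Cfsg.pCore 2 X) = 16)) ∨
      Nonempty (↥(Cfsg.pCore 2 X) ≃* Multiplicative (ZMod 4) × (Fin 3 → Multiplicative (ZMod 2))) := by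
  classical
  haveI : Fact (Nat.Prime 2) := ⟨Nat.prime_two⟩
  obtain ⟨e⟩ := hQ
  set Q := Cfsg.pCore 2 X
  haveI : IsSimpleGroup (Matrix.ProjectiveSpecialLinearGroup (Fin 3) F) :=
    LinGroup.isSimpleGroup_PSL_fin (by norm_num) fun h => by omega
  have hcard : Nat.card (Matrix.ProjectiveSpecialLinearGroup (Fin 3) F) = 168 := by
    have h1 := LinGroup.card_PSL_mul (F := F) 3 (by norm_num)
    rw [hF] at h1
    simpa [Fin.prod_univ_three] using h1
  haveI : IsSimpleGroup (X ⧸ Q) := e.isSimpleGroup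
  have h : L32Core58.Hyp Q := by
    refine ⟨inferInstance, PSolvable.pCore_isPGroup,
      (PSolvable.isPConstrained_iff_of_pPrimeCore_eq_bot hO).mp hc, ?_, fun N hN hQN => ?_,
      L32Core58.rank4_of_sectional h4⟩
    · rw [Subgroup.index, Nat.card_congr e.toEquiv, hcard]
    · rcases (hN.map (QuotientGroup.mk' Q) (QuotientGroup.mk'_surjective Q)).eq_bot_or_eq_top with h1 | h1
      · left
        refine le_antisymm (fun n hn => ?_) hQN
        have h2 : QuotientGroup.mk' Q n ∈ N.map (QuotientGroup.mk' Q) := Subgroup.mem_map_of_mem _ hn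
        rw [h1, Subgroup.mem_bot] at h2
        exact (QuotientGroup.eq_one_iff n).mp h2
      · right
        have h2 := congrArg (Subgroup.comap (QuotientGroup.mk' Q)) h1
        rwa [Subgroup.comap_map_eq, QuotientGroup.ker_mk', sup_eq_left.mpr hQN, Subgroup.comap_top] at h2
  rcases L32Core58.good_of_hyp h with ⟨hcQ, hsq⟩ | h32
  · refine Or.inl ⟨⟨⟨⟨fun a b => Subtype.ext ?_⟩⟩, fun a ha => by rw [pow_two]; exact hsq a ha⟩, hcQ⟩
    have hinv : ∀ {w : X}, w ∈ Q → w⁻¹ = w := fun hw => inv_eq_of_mul_eq_one_right (hsq _ hw)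
    show (a : X) * b = b * a
    rw [← hinv (mul_mem a.2 b.2), mul_inv_rev, hinv a.2, hinv b.2]
  · exact Or.inr h32.nonempty_mulEquiv

end Cfsg.Agent.S3105
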