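import Cfsg.Statements.S3106
import Cfsg.Agent.Lib.RadicalFive.Top
import Cfsg.Agent.Lib.RadicalFive.Decomp
import Cfsg.Agent.Lib.OddStability.Stable
import Cfsg.Agent.Lib.PSolvable.HallHigman
import Cfsg.Agent.Lib.ExtraTwo.Basic

set_option autoImplicit false
open Cfsg

namespace Cfsg.Agent.S3106

open Cfsg.Agent.Lib

/-- Lift an element whose `p`-th power dies in a quotient by a 2-group to one of order dividing `p`. -/
theorem exists_lift {X : Type*} [Group X] {Q : Subgroup X} [Q.Normal] (hQ : IsPGroup 2 ↥Q) {p m : ℕ}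
    (hpm : ∀ k : ℕ, (2 ^ (m * k)) % p = 1) (hp : 1 < p) (hm : 1 ≤ m) {u : X ⧸ Q} (hu : u ^ p = 1) :
    ∃ g : X, g ^ p = 1 ∧ (g : X ⧸ Q) = u := by
  obtain ⟨g, rfl⟩ := QuotientGroup.mk_surjective u
  have hg : g ^ p ∈ Q := by rw [← QuotientGroup.eq_one_iff, QuotientGroup.mk_pow]; exact hu
  obtain ⟨k, hk⟩ := hQ ⟨_, hg⟩
  have hk' : g ^ (p * 2 ^ k) = 1 := by rw [pow_mul]; exact congrArg Subtype.val hk
  refine ⟨g ^ 2 ^ (m * k), ?_, ?_⟩
  · obtain ⟨j, hj⟩ := Nat.pow_dvd_pow 2 (Nat.le_mul_of_pos_left k hm)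
    rw [← pow_mul, hj, show 2 ^ k * j * p = p * 2 ^ k * j by ring, pow_mul, hk', one_pow]
  · obtain ⟨j, hj⟩ : ∃ j, 2 ^ (m * k) = 1 + p * j :=
      ⟨2 ^ (m * k) / p, by have := Nat.div_add_mod (2 ^ (m * k)) p; rw [hpm] at this; omega⟩
    rw [QuotientGroup.mk_pow, hj, pow_add, pow_one, pow_mul, hu, one_pow, mul_one]

/-- The elements of `A₅` used below. -/
theorem alt_five : ∃ c d a : ↥(alternatingGroup (Fin 5)), c ^ 5 = 1 ∧ c ≠ 1 ∧ d ^ 3 = 1 ∧ d ≠ 1 ∧
    a * a = 1 ∧ a ≠ 1 ∧ a * c * a⁻¹ * c = 1 := by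
  refine ⟨⟨c[0, 1, 2, 3, 4], Equiv.Perm.mem_alternatingGroup.2 (by decide +kernel)⟩,
    ⟨c[0, 1, 2], Equiv.Perm.mem_alternatingGroup.2 (by decide +kernel)⟩,
    ⟨Equiv.swap 1 4 * Equiv.swap 2 3, Equiv.Perm.mem_alternatingGroup.2 (by decide +kernel)⟩, ?_⟩
  decide +kernel

/-- Let X be a finite nonsolvable 2-constrained group with no nontrivial normal subgroup of odd order and of sectional 2-rank at most 4, and suppose X/O₂(X) contains a subgroup isomorphic to the alternating group of degree 5. Then O₂(X) is elementary abelian of order 16, or O₂(X) is a central product of a quaternion group of order 8 and a dihedral group of order 8 (it has order 32 and is generated by two elementwise-commuting subgroups, one quaternion of order 8 and one dihedral of order 8, meeting in the centre). -/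
theorem result {X : Type*} [Group X] [Finite X] (hns : ¬ Group.IsSolvable X) (hc : Cfsg.IsPConstrained 2 X) (hO : Cfsg.oddCore X = ⊥)
    (h4 : Cfsg.SectionalPRankLE 2 4 X)
    (hQ : ∃ A : Subgroup (X ⧸ Cfsg.pCore 2 X), Nonempty (↥A ≃* ↥(alternatingGroup (Fin 5)))) :
    (Cfsg.IsElementaryAbelian 2 (Cfsg.pCore 2 X) ∧ Nat.card ↥(Cfsg.pCore 2 X) = 16) ∨
      (Nat.card ↥(Cfsg.pCore 2 X) = 32 ∧ ∃ A B : Subgroup ↥(Cfsg.pCore 2 X),
        Nonempty (↥A ≃* QuaternionGroup 2) ∧ Nonempty (↥B ≃* DihedralGroup 4) ∧ (∀ a ∈ A, ∀ b ∈ B, a * b = b * a) ∧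
          A ⊔ B = ⊤ ∧ A ⊓ B = Subgroup.center ↥(Cfsg.pCore 2 X)) := by
  classical
  haveI : Fact (Nat.Prime 2) := ⟨Nat.prime_two⟩
  have hQp : IsPGroup 2 ↥(Cfsg.pCore 2 X) := PSolvable.pCore_isPGroup
  have hCQ : Subgroup.centralizer (Cfsg.pCore 2 X : Set X) ≤ Cfsg.pCore 2 X :=
    (PSolvable.isPConstrained_iff_of_pPrimeCore_eq_bot hO).1 hc
  obtain ⟨A, ⟨iso⟩⟩ := hQ
  set Q := Cfsg.pCore 2 X
  set π := QuotientGroup.mk' Q
  set L := A.comap π with hL
  have hQL : Q ≤ L := fun x hx => by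
    rw [hL, Subgroup.mem_comap, QuotientGroup.mk'_apply, (QuotientGroup.eq_one_iff x).2 hx]
    exact A.one_mem
  let ψ : ↥L →* ↥(alternatingGroup (Fin 5)) :=
    iso.toMonoidHom.comp ((π.comp L.subtype).codRestrict A fun x => x.2)
  have hψs : Function.Surjective ψ := by
    intro w
    obtain ⟨x, hx⟩ := QuotientGroup.mk'_surjective Q ((iso.symm w : A) : X ⧸ Q)
    refine ⟨⟨x, show π x ∈ A from hx ▸ (iso.symm w).2⟩, ?_⟩
    apply iso.symm.injective
    rw [show iso.symm (ψ _) = _ from iso.symm_apply_apply _]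
    exact Subtype.ext hx
  have hψ1 : ∀ x : L, ψ x = 1 ↔ (x : X) ∈ Q := fun x => by
    rw [← QuotientGroup.eq_one_iff (N := Q)]
    exact ⟨fun hx => congrArg Subtype.val (iso.injective (hx.trans (map_one iso).symm)),
      fun hx => by
        show iso _ = 1
        rw [← map_one iso]
        exact congrArg iso (Subtype.ext hx)⟩
  set Q' := Q.subgroupOf L with hQ'
  have hker : ψ.ker = Q' := by
    ext x
    rw [MonoidHom.mem_ker, hψ1, hQ', Subgroup.mem_subgroupOf]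
  obtain ⟨c0, d0, a0, hc0, hc0', hd0, hd0', ha0, ha0', hinv⟩ := alt_five
  obtain ⟨cl, rfl⟩ := hψs c0
  obtain ⟨dl, rfl⟩ := hψs d0
  obtain ⟨al, rfl⟩ := hψs a0
  have hmk : ∀ (x : L) (n : ℕ), ψ x ^ n = 1 → (x : X ⧸ Q) ^ n = 1 := fun x n hx => by
    rw [← QuotientGroup.mk_pow, QuotientGroup.eq_one_iff, ← SubgroupClass.coe_pow, ← hψ1, map_pow]
    exact hx
  obtain ⟨c, hc5, hcq⟩ := exists_lift hQp (m := 4) (fun k => by rw [pow_mul, Nat.pow_mod]; norm_num)
    (by norm_num) (by norm_num) (hmk cl 5 hc0)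
  obtain ⟨d, hd3, hdq⟩ := exists_lift hQp (m := 2) (fun k => by rw [pow_mul, Nat.pow_mod]; norm_num)
    (by norm_num) (by norm_num) (hmk dl 3 hd0)
  have hcL : c ∈ L := by rw [hL, Subgroup.mem_comap]; show (c : X ⧸ Q) ∈ A; rw [hcq]; exact cl.2
  have hdL : d ∈ L := by rw [hL, Subgroup.mem_comap]; show (d : X ⧸ Q) ∈ A; rw [hdq]; exact dl.2
  have hsame : ∀ (x : X) (hx : x ∈ L) (y : L), (x : X ⧸ Q) = (y : X) → ψ ⟨x, hx⟩ = ψ y :=
    fun x hx y e => congrArg iso (Subtype.ext e)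
  have hψc : ψ ⟨c, hcL⟩ = ψ cl := hsame c hcL cl hcq
  have hψd : ψ ⟨d, hdL⟩ = ψ dl := hsame d hdL dl hdq
  have hAct : RadicalFive.Acts Q' (⟨c, hcL⟩ : L) ⟨d, hdL⟩ al := by
    refine ⟨hker ▸ inferInstance, hQp.comap_subtype, fun K hK hQK => ?_, Subtype.ext hc5, Subtype.ext hd3,
      ?_, ?_, ?_, ?_, ?_, SectRank.sectionalPRankLE_subgroup h4 L⟩
    · haveI : IsSimpleGroup ↥(alternatingGroup (Fin 5)) := inferInstance
      rcases (hK.map ψ hψs).eq_bot_or_eq_top with e | e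
      · left
        refine le_antisymm (fun x hx => ?_) hQK
        rw [← hker, MonoidHom.mem_ker, ← Subgroup.mem_bot, ← e]
        exact Subgroup.mem_map_of_mem ψ hx
      · right
        rw [← Subgroup.comap_map_eq_self (f := ψ) (H := K) (hker ▸ hQK), e, Subgroup.comap_top]
    all_goals rw [← hker, MonoidHom.mem_ker]
    · rwa [hψc]
    · rwa [hψd]
    · exact ha0'
    · rw [map_mul]; exact ha0
    · rw [map_mul, map_mul, map_mul, map_inv, hψc]; exact hinv
  have hQ'n : Q'.Normal := hker ▸ inferInstance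
  set F := (frattini ↥Q').map Q'.subtype with hF
  have hQ'p : IsPGroup 2 ↥Q' := hAct.isTwo
  haveI : F.Normal := ConjAct.normal_of_characteristic_of_normal
  have hFle : F ≤ Q' := Subgroup.map_subtype_le _
  have htop : RadicalFive.Top Q' F (⟨c, hcL⟩ : L) := by
    refine ⟨hFle, inferInstance, fun x hx => ⟨⟨x, hx⟩ * ⟨x, hx⟩, ?_, rfl⟩, ?_, fun R _ hsq => ?_⟩
    · rw [← pow_two]; exact PFrattini.pow_mem_frattini hQ'p _
    · by_contra hh
      push Not at hh
      obtain ⟨k, hk⟩ := OddStability.exists_pow_mem_centralizer_of_frattini hQ'p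
        (by rw [Subgroup.normalizer_eq_top]; trivial) hh
      have hkQ : c ^ 2 ^ k ∈ Q := by
        refine hCQ (Subgroup.mem_centralizer_iff.2 fun x hx => ?_)
        exact congrArg Subtype.val (Subgroup.mem_centralizer_iff.1 hk ⟨x, hQL hx⟩ hx)
      refine hc0' (hψc ▸ ?_)
      have e1 : ψ ⟨c, hcL⟩ ^ 2 ^ k = 1 := by rw [← map_pow, hψ1]; exact hkQ
      have e2 : ψ ⟨c, hcL⟩ ^ 5 = 1 := by rw [hψc]; exact hc0
      have := pow_gcd_eq_one.2 ⟨e1, e2⟩
      rwa [(Nat.Coprime.pow_left k (by norm_num : Nat.Coprime 2 5)).gcd_eq_one, pow_one] at this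
    · rw [hF, Subgroup.map_le_iff_le_comap]
      exact ExtraTwo.frattini_le_of_sq _ fun x => Subgroup.mem_comap.2 (hsq x x.2)
  have eQ : ↥Q' ≃* ↥Q := Subgroup.subgroupOfEquivOfLe hQL
  haveI := hAct.normal
  by_cases hF1 : F = ⊥
  · left
    have hsq : ∀ x ∈ Q', x * x = 1 := fun x hx => by
      have := htop.sq x hx
      rwa [hF1, Subgroup.mem_bot] at this
    refine ⟨⟨⟨⟨fun u v => eQ.symm.injective (by
      rw [map_mul, map_mul]
      exact Subtype.ext (RadicalFive.commute_of_sq hsq (eQ.symm u).2 (eQ.symm v).2).eq)⟩⟩, fun u hu => ?_⟩, ?_⟩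
    · have := congrArg Subtype.val (hsq ⟨u, hQL hu⟩ hu)
      simpa [pow_two] using this
    · have h := (htop.layer hAct).1
      rw [hF1, Subgroup.card_bot, one_mul] at h
      rwa [← Nat.card_congr eQ.toEquiv]
  · right
    obtain ⟨h32, hEx, -, hmod⟩ := htop.extra hAct (htop.card_two hAct hF1)
    refine ⟨(Nat.card_congr eQ.toEquiv).symm.trans h32, ?_⟩
    exact RadicalFive.IsQuatDih.map eQ (RadicalFive.isQuatDih_of_extra hEx h32 (by omega))

end Cfsg.Agent.S3106
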