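import Cfsg.Statements.S3117
import Mathlib
import Cfsg.Agent.S3103
import Cfsg.Agent.Lib.PGroup.Critical
import Cfsg.Agent.Lib.Burnside.Paqb
import Cfsg.Agent.Lib.Classical.AlternatingRank

set_option autoImplicit false
open Cfsg

namespace Cfsg.Agent.S3117

open Cfsg.Agent.Lib

theorem isSolvable_of_ker_range {A B : Type*} [Group A] [Group B] (f : A →* B) (h1 : Group.IsSolvable f.ker)
    (h2 : Group.IsSolvable f.range) : Group.IsSolvable A := by
  haveI := h1; haveI := h2
  exact Group.isSolvable_of_ker_le_range f.ker.subtype f.rangeRestrict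
    (by rw [MonoidHom.ker_rangeRestrict, Subgroup.range_subtype])

theorem isSolvable_two {A : Type*} [Group A] [Finite A] (h : IsPGroup 2 A) : Group.IsSolvable A := by
  haveI : Fact (Nat.Prime 2) := ⟨Nat.prime_two⟩
  obtain ⟨n, hn⟩ := IsPGroup.iff_card.1 h
  exact Burnside.isSolvable_of_card_eq_prime_pow_mul Nat.prime_two Nat.prime_three (a := n) (b := 0)
    (by rw [hn, pow_zero, mul_one])

theorem isSolvable_of_dvd {A : Type*} [Group A] [Finite A] {q a b : ℕ} (hq : q.Prime)
    (h : Nat.card A ∣ 2 ^ a * q ^ b) : Group.IsSolvable A := by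
  obtain ⟨y, z, hy, hz, he⟩ := Nat.dvd_mul.1 h
  obtain ⟨i, -, rfl⟩ := (Nat.dvd_prime_pow Nat.prime_two).1 hy
  obtain ⟨j, -, rfl⟩ := (Nat.dvd_prime_pow hq).1 hz
  exact Burnside.isSolvable_of_card_eq_prime_pow_mul Nat.prime_two hq he.symm

theorem isSolvable_mulAut_small {A : Type*} [Group A] [Finite A] (h : Nat.card A ≤ 4) :
    Group.IsSolvable (MulAut A) := by
  let f : MulAut A →* Equiv.Perm A := MonoidHom.mk' (fun e => e.toEquiv) fun e e' => rfl
  have hf : Function.Injective f := fun e e' he => MulEquiv.toEquiv_injective he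
  have h1 := Subgroup.card_dvd_of_injective f hf
  rw [Nat.card_perm] at h1
  exact isSolvable_of_dvd (a := 3) (b := 1) Nat.prime_three (h1.trans (Nat.factorial_dvd_factorial h))

/-- Restriction of automorphisms to a characteristic subgroup. -/
def resHom {A : Type*} [Group A] (H : Subgroup A) [hH : H.Characteristic] : MulAut A →* MulAut ↥H :=
  MonoidHom.mk' (fun e => (e.subgroupMap H).trans (MulEquiv.subgroupCongr (Subgroup.characteristic_iff_map_eq.1 hH e)))
    fun e e' => MulEquiv.ext fun x => rfl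

theorem resHom_apply {A : Type*} [Group A] (H : Subgroup A) [H.Characteristic] (e : MulAut A) (x : ↥H) :
    ((resHom H e x : ↥H) : A) = e x := rfl

theorem pow_apply_mul {A : Type*} [Group A] {f : MulAut A} {x d : A} (hx : f x = x * d) (hd : f d = d) :
    ∀ k : ℕ, (f ^ k) x = x * d ^ k := by
  intro k
  induction k with
  | zero => simp
  | succ k ih => rw [pow_succ', MulAut.mul_apply, ih, map_mul, map_pow, hx, hd, mul_assoc, ← pow_succ']

/-- A group of automorphisms moving each element of a `2`-group by a fixed element is a `2`-group. -/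
theorem isSolvable_of_stab {A : Type*} [Group A] [Finite A] (hA : IsPGroup 2 A) (K : Subgroup (MulAut A))
    (h : ∀ f ∈ K, ∀ x, f (x⁻¹ * f x) = x⁻¹ * f x) : Group.IsSolvable K := by
  haveI : Fact (Nat.Prime 2) := ⟨Nat.prime_two⟩
  refine isSolvable_two fun ⟨f, hf⟩ => ?_
  obtain ⟨n, hn⟩ := IsPGroup.iff_card.1 hA
  refine ⟨n, Subtype.ext (MulEquiv.ext fun x => ?_)⟩
  show (f ^ 2 ^ n) x = x
  rw [pow_apply_mul (d := x⁻¹ * f x) (by group) (h f hf x), ← hn, pow_card_eq_one', mul_one]

/-- The automorphism group of an abelian `2`-group of rank at most two is solvable. -/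
theorem isSolvable_mulAut_abelian {Z : Type*} [CommGroup Z] [Finite Z] (hZ : IsPGroup 2 Z)
    (h : Nat.card (powMonoidHom (α := Z) 2).ker ≤ 4) : Group.IsSolvable (MulAut Z) := by
  haveI : Fact (Nat.Prime 2) := ⟨Nat.prime_two⟩
  set O := (powMonoidHom (α := Z) 2).ker with hO
  have hmem : ∀ z, z ∈ O ↔ z ^ 2 = 1 := fun z => Iff.rfl
  haveI : O.Characteristic := Subgroup.characteristic_iff_map_le.2 fun e => by
    rintro _ ⟨z, hz, rfl⟩
    rw [hmem]
    show e z ^ 2 = 1
    rw [← map_pow, (hmem z).1 hz, map_one]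
  haveI := isSolvable_mulAut_small h
  refine isSolvable_of_ker_range (resHom O) ?_ inferInstance
  refine isSolvable_two fun ⟨f, hf⟩ => ?_
  obtain ⟨n, hn⟩ := IsPGroup.iff_card.1 hZ
  have hfix : ∀ z, z ^ 2 = 1 → f z = z := fun z hz =>
    congrArg Subtype.val (MulEquiv.congr_fun (MonoidHom.mem_ker.1 hf) ⟨z, hz⟩)
  have hstep : ∀ j : ℕ, ∀ z : Z, z ^ 2 ^ (j + 1) = 1 → (f ^ 2 ^ j) z = z := by
    intro j
    induction j with
    | zero => intro z hz; rw [pow_zero, pow_one]; exact hfix z (by simpa using hz)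
    | succ j ih =>
      intro z hz
      set g := f ^ 2 ^ j with hg
      have h2 : g (z ^ 2) = z ^ 2 := ih _ (by rw [← pow_mul, ← pow_succ']; exact hz)
      set d := z⁻¹ * g z with hd
      have hd2 : d ^ 2 = 1 := by rw [hd, mul_pow, inv_pow, ← map_pow, h2, inv_mul_cancel]
      have hgd : g d = d := ih d (by rw [pow_succ', pow_mul, hd2, one_pow])
      rw [pow_succ, pow_mul, ← hg, pow_apply_mul (d := d) (by rw [hd]; group) hgd, hd2, mul_one]
  exact ⟨n, Subtype.ext (MulEquiv.ext fun z => hstep n z (by rw [pow_succ, pow_mul, ← hn, pow_card_eq_one', one_pow]))⟩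

section Quad

variable {V : Type*} [CommGroup V] {M : Type*} [CommGroup M]

/-- The polar map. -/
def qb (q : V → M) (x y : V) : M := q (x * y) * q x * q y

/-- A quadratic map between elementary abelian `2`-groups. -/
structure IsQuad (q : V → M) : Prop where
  v2 : ∀ v : V, v * v = 1
  m2 : ∀ m : M, m * m = 1
  add : ∀ x y w, qb q (x * y) w = qb q x w * qb q y w

variable {q : V → M}

theorem IsQuad.q_one (h : IsQuad q) : q 1 = 1 := by
  have := h.add 1 1 1
  rw [one_mul, left_eq_mul, qb, one_mul, h.m2, one_mul] at this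
  exact this

theorem IsQuad.symm (_h : IsQuad q) (x y : V) : qb q x y = qb q y x := by
  rw [qb, qb, mul_comm x y, mul_right_comm]

theorem IsQuad.self (h : IsQuad q) (x : V) : qb q x x = 1 := by
  rw [qb, h.v2, h.q_one, one_mul, h.m2]

theorem IsQuad.one_left (h : IsQuad q) (w : V) : qb q 1 w = 1 := by
  rw [qb, one_mul, h.q_one, mul_one, h.m2]

theorem IsQuad.map_mul (h : IsQuad q) (x y : V) : q (x * y) = q x * q y * qb q x y := by
  rw [qb, mul_comm (q (x * y) * q x) (q y), ← mul_assoc (q x * q y), mul_comm (q (x * y)) (q x),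
    ← mul_assoc (q x * q y * q y), mul_assoc (q x) (q y) (q y), h.m2, mul_one, h.m2, one_mul]

/-- The kernel of `qb q x`. -/
def IsQuad.perp (h : IsQuad q) (x : V) : Subgroup V where
  carrier := {y | qb q y x = 1}
  mul_mem' := fun {a b} ha hb => by
    show qb q (a * b) x = 1
    rw [h.add, ha, hb, one_mul]
  one_mem' := h.one_left x
  inv_mem' := fun {a} ha => by
    show qb q a⁻¹ x = 1
    rw [inv_eq_of_mul_eq_one_right (h.v2 a)]; exact ha

variable [Finite V]

theorem IsQuad.card_le_perp (h : IsQuad q) (x : V) (R : Subgroup M) [Finite R] (hR : ∀ y, qb q y x ∈ R) :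
    Nat.card V ≤ Nat.card R * Nat.card (h.perp x) := by
  let f : V →* R := MonoidHom.mk' (fun y => ⟨qb q y x, hR y⟩) fun a b => Subtype.ext (h.add a b x)
  have hk : f.ker = h.perp x := by
    ext y; exact Subtype.ext_iff
  rw [← f.ker.card_mul_index, Subgroup.index_ker, hk, mul_comm]
  exact Nat.mul_le_mul_right _ (Subgroup.card_le_card_group f.range)

/-- Two-valued form: the group has at most four times as many elements as the zero group. -/
theorem IsQuad.card_le_four_mul [Finite M] (h : IsQuad q) (hM : Nat.card M ≤ 2) (N : Subgroup V)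
    (hN : ∀ v, q v = 1 ↔ v ∈ N) : Nat.card V ≤ 4 * Nat.card N := by
  by_cases htop : ∀ x, x ∈ N
  · rw [(Subgroup.eq_top_iff' N).2 htop, Subgroup.card_top]; omega
  push Not at htop
  obtain ⟨x, hx⟩ := htop
  classical
  have hu : ∀ a b : M, a ≠ 1 → b ≠ 1 → a = b := by
    intro a b ha hb
    by_contra hne
    haveI : Fintype M := Fintype.ofFinite M
    have := Finset.card_le_univ ({1, a, b} : Finset M)
    rw [Finset.card_insert_of_notMem (by simp [Ne.symm ha, Ne.symm hb]), Finset.card_pair hne,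
      ← Nat.card_eq_fintype_card] at this
    omega
  have hsub : ∀ y ∈ h.perp x, y ∈ N ∨ x * y ∈ N := by
    intro y hy
    by_cases hyN : y ∈ N
    · exact Or.inl hyN
    · right
      rw [← hN, h.map_mul, h.symm, show qb q y x = 1 from hy, mul_one,
        hu (q x) (q y) (fun e => hx ((hN x).1 e)) (fun e => hyN ((hN y).1 e)), h.m2]
  have hK : Nat.card (h.perp x) ≤ 2 * Nat.card N := by
    let f : ↥(h.perp x) → Bool × ↥N := fun y =>
      if hy : (y : V) ∈ N then (true, ⟨y, hy⟩) else (false, ⟨x * y, (hsub y y.2).resolve_left hy⟩)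
    have hf : Function.Injective f := by
      intro a b e
      simp only [f] at e
      split at e <;> split at e <;>
        simp only [Prod.mk.injEq, Subtype.mk.injEq, Bool.true_eq_false, Bool.false_eq_true, false_and, true_and,
          mul_right_inj] at e <;> exact Subtype.ext e
    have := Nat.card_le_card_of_injective f hf
    rwa [Nat.card_prod, show Nat.card Bool = 2 by simp] at this
  refine (h.card_le_perp x ⊤ (fun _ => Subgroup.mem_top _)).trans ?_
  rw [Subgroup.card_top]
  calc Nat.card M * Nat.card (h.perp x) ≤ 2 * (2 * Nat.card N) := Nat.mul_le_mul hM hK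
    _ = _ := by ring

omit [Finite V] in
theorem IsQuad.restrict (h : IsQuad q) (W : Subgroup V) : IsQuad (fun w : W => q w) :=
  ⟨fun v => Subtype.ext (h.v2 v), h.m2, fun x y w => h.add x y w⟩

/-- An anisotropic form with four values has a small perpendicular. -/
theorem IsQuad.card_perp_le [Finite M] (h : IsQuad q) (hM : Nat.card M ≤ 4) (hz : ∀ v, q v = 1 → v = 1)
    (x : V) (hx : x ≠ 1) : Nat.card (h.perp x) ≤ 8 := by
  haveI : Fact (Nat.Prime 2) := ⟨Nat.prime_two⟩
  have hqx : q x ≠ 1 := fun e => hx (hz x e)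
  let π := QuotientGroup.mk' (Subgroup.zpowers (q x))
  let q' : ↥(h.perp x) → M ⧸ Subgroup.zpowers (q x) := fun y => π (q y)
  have hq' : IsQuad q' := by
    refine ⟨(h.restrict (h.perp x)).v2, fun m => ?_, fun a b w => ?_⟩
    · obtain ⟨m, rfl⟩ := QuotientGroup.mk'_surjective _ m
      rw [← _root_.map_mul, h.m2, map_one]
    · simp only [qb, q', ← _root_.map_mul]
      exact congrArg π (h.add a b w)
  have hxx : x ∈ h.perp x := h.self x
  have hN : ∀ y, q' y = 1 ↔ y ∈ Subgroup.zpowers (⟨x, hxx⟩ : ↥(h.perp x)) := by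
    intro y
    constructor
    · intro hy
      have : q y ∈ Subgroup.zpowers (q x) := (QuotientGroup.eq_one_iff _).1 hy
      obtain ⟨i, hi⟩ := this
      rcases Int.even_or_odd' i with ⟨j, rfl | rfl⟩
      · have : q (y : V) = 1 := by
          rw [← hi]
          show q x ^ (2 * j) = 1
          rw [zpow_mul, zpow_two, h.m2, one_zpow]
        rw [Subtype.ext (hz _ this) (a2 := (1 : ↥(h.perp x)))]
        exact one_mem _
      · have hyx : q (y : V) = q x := by
          rw [← hi]
          show q x ^ (2 * j + 1) = q x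
          rw [zpow_add, zpow_mul, zpow_two, h.m2, one_zpow, one_mul, zpow_one]
        have : q (y * x : V) = 1 := by rw [h.map_mul, show qb q (y : V) x = 1 from y.2, mul_one, hyx, h.m2]
        have e := eq_inv_of_mul_eq_one_left (hz _ this)
        rw [inv_eq_of_mul_eq_one_right (h.v2 x)] at e
        rw [show y = (⟨x, hxx⟩ : ↥(h.perp x)) from Subtype.ext e]
        exact Subgroup.mem_zpowers _
    · rintro ⟨i, rfl⟩
      rcases Int.even_or_odd' i with ⟨j, rfl | rfl⟩
      · show π (q ((x : V) ^ (2 * j))) = 1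
        rw [zpow_mul, zpow_two, h.v2, one_zpow, h.q_one, map_one]
      · show π (q ((x : V) ^ (2 * j + 1))) = 1
        rw [zpow_add, zpow_mul, zpow_two, h.v2, one_zpow, one_mul, zpow_one]
        exact (QuotientGroup.eq_one_iff _).2 (Subgroup.mem_zpowers _)
  have hc : Nat.card (M ⧸ Subgroup.zpowers (q x)) ≤ 2 := by
    have h1 := Subgroup.card_eq_card_quotient_mul_card_subgroup (Subgroup.zpowers (q x))
    rw [Nat.card_zpowers, orderOf_eq_prime (by rw [pow_two]; exact h.m2 _) hqx] at h1
    omega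
  refine (hq'.card_le_four_mul hc _ hN).trans ?_
  rw [Nat.card_zpowers, Subgroup.orderOf_mk, orderOf_eq_prime (by rw [pow_two]; exact h.v2 _) hx]

/-- An anisotropic form with four values lives on at most sixteen elements. -/
theorem IsQuad.card_le_sixteen [Finite M] (h : IsQuad q) (hM : Nat.card M ≤ 4) (hz : ∀ v, q v = 1 → v = 1) :
    Nat.card V ≤ 16 := by
  haveI : Fact (Nat.Prime 2) := ⟨Nat.prime_two⟩
  by_cases hM2 : Nat.card M ≤ 2
  · have := h.card_le_four_mul hM2 ⊥ fun v => ⟨fun e => Subgroup.mem_bot.2 (hz v e), fun e => by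
      rw [Subgroup.mem_bot.1 e, h.q_one]⟩
    rw [Subgroup.card_bot] at this
    omega
  have hMp : IsPGroup 2 M := fun m => ⟨1, by rw [pow_one, pow_two]; exact h.m2 m⟩
  have hM4 : Nat.card M = 4 := by
    obtain ⟨k, hk⟩ := IsPGroup.iff_card.1 hMp
    rw [hk] at hM hM2 ⊢
    have : k ≤ 2 := (Nat.pow_le_pow_iff_right (by norm_num : 1 < 2)).1 hM
    interval_cases k <;> simp at hM2 ⊢
  by_contra hV
  push Not at hV
  have hVp : IsPGroup 2 V := fun v => ⟨1, by rw [pow_one, pow_two]; exact h.v2 v⟩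
  obtain ⟨n, hn⟩ := IsPGroup.iff_card.1 hVp
  have hn5 : 5 ≤ n := (Nat.pow_lt_pow_iff_right (by norm_num : 1 < 2)).1 (show 2 ^ 4 < 2 ^ n by omega)
  obtain ⟨W, hW⟩ := Sylow.exists_subgroup_card_pow_prime 2 (n := 5) (G := V) (hn ▸ pow_dvd_pow 2 hn5)
  have hq := h.restrict W
  -- a functional on `M`
  obtain ⟨m, hm⟩ := exists_prime_orderOf_dvd_card' 2 (show 2 ∣ Nat.card M by rw [hM4]; norm_num)
  have hquot : Nat.card (M ⧸ Subgroup.zpowers m) = 2 := by
    have h1 := Subgroup.card_eq_card_quotient_mul_card_subgroup (Subgroup.zpowers m)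
    rw [Nat.card_zpowers, hm, hM4] at h1
    omega
  let Le : (M ⧸ Subgroup.zpowers m) ≃* Multiplicative (ZMod 2) :=
    mulEquivOfPrimeCardEq hquot (show Nat.card (Multiplicative (ZMod 2)) = 2 from
      (Nat.card_congr Multiplicative.toAdd).trans (Nat.card_zmod 2))
  let L : M →* Multiplicative (ZMod 2) := Le.toMonoidHom.comp (QuotientGroup.mk' _)
  have hL : ∀ a, L a = 1 → a ∈ Subgroup.zpowers m := fun a ha => by
    refine (QuotientGroup.eq_one_iff a).1 ?_
    exact (MulEquiv.map_eq_one_iff Le).1 ha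
  letI : Module (ZMod 2) (Additive ↥W) := AddCommGroup.zmodModule fun v => by
    rw [two_nsmul]; exact hq.v2 v.toMul
  haveI : Finite (Additive ↥W) := inferInstanceAs (Finite ↥W)
  haveI : Module.Finite (ZMod 2) (Additive ↥W) := Module.Finite.of_finite
  let β₀ : Additive ↥W → (Additive ↥W →ₗ[ZMod 2] ZMod 2) := fun a =>
    (AddMonoidHom.mk' (fun b : Additive ↥W => (L (qb (fun w : W => q w) a.toMul b.toMul)).toAdd) fun b b' => by
      show (L (qb _ a.toMul (b.toMul * b'.toMul))).toAdd = _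
      rw [hq.symm, hq.add, hq.symm b.toMul, hq.symm b'.toMul, _root_.map_mul, toAdd_mul]).toZModLinearMap 2
  let β : Additive ↥W →ₗ[ZMod 2] Additive ↥W →ₗ[ZMod 2] ZMod 2 :=
    (AddMonoidHom.mk' β₀ fun a a' => LinearMap.ext fun b => by
      show (L (qb _ (a.toMul * a'.toMul) b.toMul)).toAdd = _
      rw [hq.add, _root_.map_mul, toAdd_mul]
      rfl).toZModLinearMap 2
  have halt : ∀ v, β v v = 0 := fun v => by
    show (L (qb _ v.toMul v.toMul)).toAdd = 0
    rw [hq.self, map_one]; rfl
  have heven := AlternatingRank.even_finrank_range_of_alt _ rfl β halt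
  have h5 : Module.finrank (ZMod 2) (Additive ↥W) = 5 := by
    have h1 := Module.natCard_eq_pow_finrank (K := ZMod 2) (V := Additive ↥W)
    rw [Nat.card_congr Additive.toMul, hW, Nat.card_zmod] at h1
    exact (Nat.pow_right_injective (le_refl 2) h1).symm
  obtain ⟨r, hr, hr0⟩ := (Submodule.ne_bot_iff _).1 (show LinearMap.ker β ≠ ⊥ from fun hb => by
    have := β.finrank_range_add_finrank_ker
    rw [hb, finrank_bot, add_zero, h5] at this
    rw [this] at heven
    exact absurd heven (by decide))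
  have hr1 : r.toMul ≠ 1 := fun e => hr0 (congrArg Additive.ofMul e)
  have hmem : ∀ y : ↥W, qb (fun w : W => q w) y r.toMul ∈ Subgroup.zpowers m := fun y => by
    refine hL _ ?_
    have := LinearMap.congr_fun (LinearMap.mem_ker.1 hr) (Additive.ofMul y)
    change (L (qb (fun w : W => q w) r.toMul y)).toAdd = 0 at this
    rw [hq.symm]
    exact toAdd_eq_zero.1 this
  have h1 := hq.card_le_perp r.toMul _ hmem
  have h2 := hq.card_perp_le hM (fun v e => Subtype.ext (hz _ e)) r.toMul hr1
  rw [hW, Nat.card_zpowers, hm] at h1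
  omega

/-- A form with one non-zero zero. -/
theorem IsQuad.card_le_eight [Finite M] (h : IsQuad q) (hM : Nat.card M ≤ 2) (t : V)
    (hz : ∀ v, q v = 1 ↔ v ∈ Subgroup.zpowers t) : Nat.card V ≤ 8 := by
  refine (h.card_le_four_mul hM _ hz).trans ?_
  have : orderOf t ≤ 2 := Nat.le_of_dvd two_pos (orderOf_dvd_of_pow_eq_one (by rw [pow_two]; exact h.v2 t))
  rw [Nat.card_zpowers]
  omega

/-- The fixed points of an automorphism. -/
def fixSub (g : MulAut V) : Subgroup V where
  carrier := {v | g v = v}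
  mul_mem' := fun {a b} ha hb => by
    show g (a * b) = a * b
    rw [_root_.map_mul, ha, hb]
  one_mem' := map_one g
  inv_mem' := fun {a} ha => by
    show g a⁻¹ = a⁻¹
    rw [map_inv, ha]

theorem card_fix_mod {α : Type*} [Finite α] {p : ℕ} (hp : p.Prime) (e : Equiv.Perm α) (he : e ^ p = 1) :
    Nat.card α % p = Nat.card {a : α // e a = a} % p := by
  haveI : Fact p.Prime := ⟨hp⟩
  have hp' : IsPGroup p (Subgroup.zpowers e) := by
    rintro ⟨τ, hτ⟩
    obtain ⟨i, rfl⟩ := Subgroup.mem_zpowers_iff.mp hτ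
    refine ⟨1, Subtype.ext ?_⟩
    rw [Subgroup.coe_pow, Subgroup.coe_one, pow_one, ← zpow_natCast, ← zpow_mul, mul_comm, zpow_mul, zpow_natCast, he,
      one_zpow]
  refine (hp'.card_modEq_card_fixedPoints α).trans ?_
  refine congrArg (· % p) (Nat.card_congr (Equiv.subtypeEquivRight fun a => ⟨fun h => h ⟨e, Subgroup.mem_zpowers e⟩, ?_⟩))
  rintro (h : e a = a) ⟨τ, hτ⟩
  obtain ⟨i, rfl⟩ := Subgroup.mem_zpowers_iff.mp hτ
  exact Equiv.Perm.zpow_apply_eq_self_of_apply_eq_self h i

theorem card_fix_aut {p : ℕ} (hp : p.Prime) (g : MulAut V) (hg : g ^ p = 1) :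
    Nat.card V % p = Nat.card (fixSub g) % p := by
  have he : (g.toEquiv : Equiv.Perm V) ^ p = 1 := by
    let f : MulAut V →* Equiv.Perm V := MonoidHom.mk' (fun e => e.toEquiv) fun e e' => rfl
    show f g ^ p = 1
    rw [← map_pow, hg, map_one]
  exact card_fix_mod hp g.toEquiv he

/-- The image of `v ↦ g v * v⁻¹`. -/
def movHom (g : MulAut V) : V →* V := MonoidHom.mk' (fun v => g v * v⁻¹) fun a b => by
  rw [_root_.map_mul, mul_inv, mul_mul_mul_comm]

theorem mov_card (g : MulAut V) : Nat.card (fixSub g) * Nat.card (movHom g).range = Nat.card V := by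
  have : (movHom g).ker = fixSub g := by ext v; exact mul_inv_eq_one
  rw [← this, ← Subgroup.index_ker, Subgroup.card_mul_index]

theorem mov_mem (g : MulAut V) {w : V} (hw : w ∈ (movHom g).range) : g w ∈ (movHom g).range := by
  obtain ⟨v, rfl⟩ := hw
  refine ⟨g v, ?_⟩
  show g (g v) * (g v)⁻¹ = g (g v * v⁻¹)
  rw [_root_.map_mul, map_inv]

omit [Finite V] in
theorem mov_inf (g : MulAut V) {p : ℕ} (hp : Odd p) (hg : g ^ p = 1) (hv : ∀ v : V, v * v = 1) {w : V}
    (hw : w ∈ (movHom g).range) (hf : g w = w) : w = 1 := by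
  obtain ⟨v, rfl⟩ := hw
  have h : g v = v * (movHom g v) := by
    show g v = v * (g v * v⁻¹)
    rw [mul_comm (g v), mul_inv_cancel_left]
  have h2 := pow_apply_mul h hf p
  rw [hg, MulAut.one_apply, left_eq_mul] at h2
  obtain ⟨k, rfl⟩ := hp
  rwa [pow_succ, pow_mul, pow_two, hv, one_pow, one_mul] at h2

omit [Finite V] in
/-- A form constant off `1` is impossible on a group of order at least eight. -/
theorem IsQuad.not_const (h : IsQuad q) (hz : ∀ v, q v = 1 → v = 1) (W : Subgroup V) [Finite W]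
    (hW : 8 ≤ Nat.card W) (z : M) (hc : ∀ w ∈ W, w ≠ 1 → q w = z) : False := by
  classical
  haveI : Fintype ↥W := Fintype.ofFinite _
  have big : ∀ s : Finset ↥W, s.card < 8 → ∃ w : ↥W, w ∉ s := fun s hs => by
    obtain ⟨w, -, hw⟩ := Finset.exists_mem_notMem_of_card_lt_card
      (show s.card < (Finset.univ : Finset ↥W).card by rw [Finset.card_univ, ← Nat.card_eq_fintype_card]; omega)
    exact ⟨w, hw⟩
  obtain ⟨y, hy⟩ := big {1} (by simp)
  obtain ⟨y', hy'⟩ := big {1, y} (lt_of_le_of_lt Finset.card_le_two (by norm_num))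
  obtain ⟨x, hx⟩ := big {1, y, y', y * y'} (lt_of_le_of_lt Finset.card_le_four (by norm_num))
  simp only [Finset.mem_insert, Finset.mem_singleton, not_or] at hy hy' hx
  have hval : ∀ a b : ↥W, a ≠ 1 → b ≠ 1 → a ≠ b → qb q (a : V) b = z := fun a b ha hb hab => by
    have hab' : a * b ≠ 1 := fun e => hab (mul_eq_one_iff_eq_inv.1 e |>.trans
      (inv_eq_of_mul_eq_one_right (Subtype.ext (h.v2 b))))
    have n1 : ∀ c : ↥W, c ≠ 1 → (c : V) ≠ 1 := fun c hc e => hc (Subtype.ext e)
    rw [qb, show (a : V) * b = ((a * b : ↥W) : V) from rfl, hc _ (a * b).2 (n1 _ hab'), hc _ a.2 (n1 _ ha),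
      hc _ b.2 (n1 _ hb), h.m2, one_mul]
  have hyy : y * y' ≠ 1 := fun e => hy'.2 ((mul_eq_one_iff_eq_inv.1 e).trans
      (inv_eq_of_mul_eq_one_right (Subtype.ext (h.v2 y')))).symm
  have e := h.add (y : V) y' x
  rw [hval y x hy (hx.1) (Ne.symm hx.2.1), hval y' x hy'.1 hx.1 (Ne.symm hx.2.2.1), h.m2,
    show (y : V) * y' = ((y * y' : ↥W) : V) from rfl, hval (y * y') x hyy hx.1 (Ne.symm hx.2.2.2)] at e
  have h1 := hc (y : V) y.2 (fun e' => hy (Subtype.ext e'))
  rw [e] at h1
  exact hy (Subtype.ext (hz _ h1))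

omit [Finite V] in
theorem q_pow (g : MulAut V) (hg : ∀ v, q (g v) = q v) (i : ℕ) (v : V) : q ((g ^ i) v) = q v := by
  induction i with
  | zero => simp
  | succ i ih => rw [pow_succ', MulAut.mul_apply, hg, ih]

/-- An automorphism of prime order with free orbit filling a subgroup. -/
theorem orbit_const {p : ℕ} (hp : p.Prime) (hodd : Odd p) (g : MulAut V) (hg : g ^ p = 1) (hv : ∀ v : V, v * v = 1)
    (hq : ∀ v, q (g v) = q v) (hW : Nat.card (movHom g).range = p + 1) :
    ∃ z, ∀ w ∈ (movHom g).range, w ≠ 1 → q w = z := by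
  classical
  haveI : Fintype V := Fintype.ofFinite V
  obtain ⟨⟨w₀, hw₀⟩, hne⟩ : ∃ w : ↥(movHom g).range, w ≠ 1 := by
    haveI : Nontrivial ↥(movHom g).range := Finite.one_lt_card_iff_nontrivial.1 (by rw [hW]; have := hp.pos; omega)
    exact exists_ne 1
  have hw1 : w₀ ≠ 1 := fun e => hne (Subtype.ext e)
  refine ⟨q w₀, fun w hw hw' => ?_⟩
  have hfree : ∀ i < p, ∀ j < p, (g ^ i) w₀ = (g ^ j) w₀ → i = j := by
    have hcop : ∀ d : ℕ, 0 < d → d < p → (g ^ d) w₀ ≠ w₀ := by
      intro d hd0 hdp hd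
      have hc : d.Coprime p := ((hp.coprime_iff_not_dvd.2 (Nat.not_dvd_of_pos_of_lt hd0 hdp))).symm
      let S := MulAction.stabilizer (MulAut V) w₀
      have h1 : g ^ d ∈ S := hd
      have h2 : g ^ p ∈ S := by rw [hg]; exact one_mem _
      have h3 : g ^ (Nat.gcd d p : ℤ) ∈ S := by
        rw [Nat.gcd_eq_gcd_ab, zpow_add, zpow_mul, zpow_mul, zpow_natCast, zpow_natCast]
        exact mul_mem (zpow_mem h1 _) (zpow_mem h2 _)
      rw [hc, Nat.cast_one, zpow_one] at h3
      exact hw1 (mov_inf g hodd hg hv hw₀ h3)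
    intro i hi j hj e
    by_contra hne
    rcases lt_or_gt_of_ne hne with hlt | hlt
    · refine hcop (j - i) (by omega) (by omega) ((g ^ i).injective ?_)
      rw [← MulAut.mul_apply, ← pow_add, show i + (j - i) = j by omega, e]
    · refine hcop (i - j) (by omega) (by omega) ((g ^ j).injective ?_)
      rw [← MulAut.mul_apply, ← pow_add, show j + (i - j) = i by omega, e]
  have hpow : ∀ i, (g ^ i) w₀ ∈ (movHom g).range := fun i => by
    induction i with
    | zero => simpa using hw₀
    | succ i ih => rw [pow_succ', MulAut.mul_apply]; exact mov_mem g ih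
  have hset : ((Finset.range p).image fun i => (g ^ i) w₀) =
      (((movHom g).range : Set V).toFinset.erase 1) := by
    refine Finset.eq_of_subset_of_card_le (fun v hv' => ?_) ?_
    · obtain ⟨i, -, rfl⟩ := Finset.mem_image.1 hv'
      refine Finset.mem_erase.2 ⟨fun e => hw1 ((g ^ i).injective (e.trans (map_one _).symm)), ?_⟩
      rw [Set.mem_toFinset]; exact hpow i
    · rw [Finset.card_erase_of_mem (by rw [Set.mem_toFinset]; exact one_mem _),
        Finset.card_image_of_injOn (fun i hi j hj e => hfree i (Finset.mem_range.1 hi) j (Finset.mem_range.1 hj) e),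
        Finset.card_range, Set.toFinset_card, ← Nat.card_eq_fintype_card]
      have : Nat.card ↥((movHom g).range : Set V) = p + 1 := hW
      omega
  obtain ⟨i, -, rfl⟩ := Finset.mem_image.1 (hset.symm ▸ Finset.mem_erase.2 ⟨hw', Set.mem_toFinset.2 hw⟩)
  exact q_pow g hq i w₀

theorem fix_ne {p : ℕ} (g : MulAut V) (hg : orderOf g = p) (hp : p ≠ 1) : Nat.card (fixSub g) ≠ Nat.card V := by
  intro e
  apply hp
  rw [← hg, orderOf_eq_one_iff]
  exact MulEquiv.ext fun v => ((Subgroup.eq_top_of_card_eq _ e) ▸ Subgroup.mem_top v : v ∈ fixSub g)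

/-- No symmetry of order seven. -/
theorem IsQuad.no_seven (h : IsQuad q) (hz : ∀ v, q v = 1 → v = 1) (hV : Nat.card V ≤ 16) (g : MulAut V)
    (hg : orderOf g = 7) (hq : ∀ v, q (g v) = q v) : False := by
  haveI : Fact (Nat.Prime 2) := ⟨Nat.prime_two⟩
  have hp : Nat.Prime 7 := by norm_num
  have hg7 : g ^ 7 = 1 := hg ▸ pow_orderOf_eq_one g
  have hVp : IsPGroup 2 V := fun v => ⟨1, by rw [pow_one, pow_two]; exact h.v2 v⟩
  obtain ⟨n, hn⟩ := IsPGroup.iff_card.1 hVp
  obtain ⟨m, hm⟩ := IsPGroup.iff_card.1 (hVp.to_subgroup (fixSub g))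
  have h1 := card_fix_aut hp g hg7
  have h2 := fix_ne g hg (by norm_num)
  have h3 := Subgroup.card_le_card_group (fixSub g)
  have h4 := mov_card g
  rw [hn] at h1 h2 h3 h4 hV
  rw [hm] at h1 h2 h3 h4
  have hn4 : n ≤ 4 := (Nat.pow_le_pow_iff_right (by norm_num : 1 < 2)).1 (show 2 ^ n ≤ 2 ^ 4 by omega)
  have hmn : m ≤ n := (Nat.pow_le_pow_iff_right (by norm_num : 1 < 2)).1 h3
  have hW : Nat.card (movHom g).range = 7 + 1 := by
    interval_cases n <;> interval_cases m <;> omega
  obtain ⟨z, hzz⟩ := orbit_const hp (by decide) g hg7 h.v2 hq hW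
  exact h.not_const hz _ (by rw [hW]) z hzz

/-- Symmetries of orders three and five do not coexist. -/
theorem IsQuad.no_three_five (h : IsQuad q) (hz : ∀ v, q v = 1 → v = 1) (hV : Nat.card V ≤ 16)
    (g f : MulAut V) (hg : orderOf g = 3) (hf : orderOf f = 5) (hqg : ∀ v, q (g v) = q v)
    (hqf : ∀ v, q (f v) = q v) : False := by
  haveI : Fact (Nat.Prime 2) := ⟨Nat.prime_two⟩
  have hg3 : g ^ 3 = 1 := hg ▸ pow_orderOf_eq_one g
  have hf5 : f ^ 5 = 1 := hf ▸ pow_orderOf_eq_one f
  have hVp : IsPGroup 2 V := fun v => ⟨1, by rw [pow_one, pow_two]; exact h.v2 v⟩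
  obtain ⟨n, hn⟩ := IsPGroup.iff_card.1 hVp
  obtain ⟨k, hk⟩ := IsPGroup.iff_card.1 (hVp.to_subgroup (fixSub f))
  obtain ⟨m, hm⟩ := IsPGroup.iff_card.1 (hVp.to_subgroup (fixSub g))
  have h1 := card_fix_aut (by norm_num : Nat.Prime 5) f hf5
  have h2 := fix_ne f hf (by norm_num)
  have h3 := Subgroup.card_le_card_group (fixSub f)
  have g1 := card_fix_aut (by norm_num : Nat.Prime 3) g hg3
  have g2 := fix_ne g hg (by norm_num)
  have g3 := Subgroup.card_le_card_group (fixSub g)
  have g4 := mov_card g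
  rw [hn] at h1 h2 h3 g1 g2 g3 g4 hV
  rw [hk] at h1 h2 h3
  rw [hm] at g1 g2 g3 g4
  have hn4 : n ≤ 4 := (Nat.pow_le_pow_iff_right (by norm_num : 1 < 2)).1 (show 2 ^ n ≤ 2 ^ 4 by omega)
  have hkn : k ≤ n := (Nat.pow_le_pow_iff_right (by norm_num : 1 < 2)).1 h3
  have hmn : m ≤ n := (Nat.pow_le_pow_iff_right (by norm_num : 1 < 2)).1 g3
  obtain ⟨rfl, rfl⟩ : n = 4 ∧ k = 0 := by
    interval_cases n <;> interval_cases k <;> omega
  -- every fibre has size divisible by five
  have hfib : ∀ z, z ≠ 1 → 5 ∣ Nat.card {v : V // q v = z} := by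
    intro z hz1
    let e : Equiv.Perm {v : V // q v = z} := f.toEquiv.subtypeEquiv fun v => by
      show q v = z ↔ q (f v) = z
      rw [hqf]
    have hep : ∀ (i : ℕ) (v : {v : V // q v = z}), ((e ^ i) v : V) = (f ^ i) v := by
      intro i v
      induction i with
      | zero => rfl
      | succ i ih =>
        rw [pow_succ', Equiv.Perm.mul_apply, pow_succ', MulAut.mul_apply, ← ih]; rfl
    have he : e ^ 5 = 1 := Equiv.ext fun v => Subtype.ext (by rw [hep, hf5]; rfl)
    have hmod := card_fix_mod (by norm_num : Nat.Prime 5) e he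
    haveI : IsEmpty {a : {v : V // q v = z} // e a = a} := ⟨fun a => by
      have h0 : (a.1.1) ∈ fixSub f := congrArg Subtype.val a.2
      have hbot : fixSub f = ⊥ := Subgroup.card_eq_one.1 (by rw [hk]; rfl)
      rw [hbot, Subgroup.mem_bot] at h0
      exact hz1 (by rw [← a.1.2, h0, h.q_one])⟩
    rw [Nat.card_of_isEmpty (α := {a : {v : V // q v = z} // e a = a})] at hmod
    exact Nat.dvd_of_mod_eq_zero (hmod.trans (Nat.zero_mod 5))
  interval_cases m
  · -- `g` has no fixed point
    obtain ⟨v₀, hv₀⟩ : ∃ v : V, v ≠ 1 := by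
      haveI : Nontrivial V := Finite.one_lt_card_iff_nontrivial.1 (by rw [hn]; norm_num)
      exact exists_ne 1
    have hfx : ∀ v : V, g v = v → v = 1 := fun v hv => by
      have hbot : fixSub g = ⊥ := Subgroup.card_eq_one.1 (by rw [hm]; rfl)
      exact Subgroup.mem_bot.1 (hbot ▸ (show v ∈ fixSub g from hv))
    have h3' : ∀ z, z ≠ 1 → 3 ∣ Nat.card {v : V // q v = z} := by
      intro z hz1
      let e : Equiv.Perm {v : V // q v = z} := g.toEquiv.subtypeEquiv fun v => by
        show q v = z ↔ q (g v) = z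
        rw [hqg]
      have he : e ^ 3 = 1 := Equiv.ext fun v => Subtype.ext (by
        show g (g (g (v : V))) = v
        rw [show g (g (g (v : V))) = (g ^ 3) v from rfl, hg3]; rfl)
      have hmod := card_fix_mod (by norm_num : Nat.Prime 3) e he
      haveI : IsEmpty {a : {v : V // q v = z} // e a = a} := ⟨fun a => hz1 (by
        rw [← a.1.2, hfx a.1.1 (congrArg Subtype.val a.2), h.q_one])⟩
      rw [Nat.card_of_isEmpty (α := {a : {v : V // q v = z} // e a = a})] at hmod
      exact Nat.dvd_of_mod_eq_zero (hmod.trans (Nat.zero_mod 3))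
    refine h.not_const hz ⊤ (by rw [Subgroup.card_top, hn]; norm_num) (q v₀) fun w _ hw => ?_
    by_contra hne
    have hz0 : q v₀ ≠ 1 := fun e => hv₀ (hz _ e)
    have hsum : Nat.card {v : V // q v = q v₀} + 1 + 1 ≤ Nat.card V := by
      have := Nat.card_le_card_of_injective
        (fun o : Option (Option {v : V // q v = q v₀}) => match o with
          | none => (1 : V)
          | some none => w
          | some (some v) => v.1) (by
        rintro (_ | _ | a) (_ | _ | b) e
        · rfl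
        · exact absurd e.symm hw
        · exact absurd (by rw [← b.2, ← show (1 : V) = b.1 from e, h.q_one]) hz0
        · exact absurd e hw
        · rfl
        · exact absurd (by rw [show w = b.1 from e, b.2]) hne
        · exact absurd (by rw [← a.2, show a.1 = (1 : V) from e, h.q_one]) hz0
        · exact absurd (by rw [show w = a.1 from e.symm, a.2]) hne
        · rw [Subtype.ext (show a.1 = b.1 from e)])
      rwa [Finite.card_option, Finite.card_option] at this
    have hpos : 0 < Nat.card {v : V // q v = q v₀} := by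
      haveI : Nonempty {v : V // q v = q v₀} := ⟨⟨v₀, rfl⟩⟩
      exact Nat.card_pos
    have h15 : 15 ∣ Nat.card {v : V // q v = q v₀} :=
      Nat.Coprime.mul_dvd_of_dvd_of_dvd (by norm_num : Nat.Coprime 3 5) (h3' _ hz0) (hfib _ hz0)
    have := Nat.le_of_dvd hpos h15
    rw [hn] at hsum
    omega
  · omega
  · -- `g` fixes a four group
    have hW : Nat.card (movHom g).range = 3 + 1 := by omega
    obtain ⟨z, hzz⟩ := orbit_const (by norm_num : Nat.Prime 3) (by decide) g hg3 h.v2 hqg hW
    set W := (movHom g).range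
    have hperp : ∀ u ∈ fixSub g, ∀ w ∈ W, qb q u w = 1 := by
      rintro u hu _ ⟨v, rfl⟩
      have hgv : qb q u (g v) = qb q u v := by
        simp only [qb]
        rw [hqg, show u * g v = g (u * v) by rw [_root_.map_mul, show g u = u from hu], hqg]
      show qb q u (g v * v⁻¹) = 1
      rw [inv_eq_of_mul_eq_one_right (h.v2 v), h.symm, h.add, h.symm (g v), hgv, h.symm v, h.m2]
    obtain ⟨w₀, hw₀, hw1⟩ : ∃ w ∈ W, w ≠ 1 := by
      rcases Subgroup.bot_or_exists_ne_one W with e | e
      · rw [e, Subgroup.card_bot] at hW; omega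
      · exact e
    have hz1 : z ≠ 1 := fun e => hw1 (hz _ ((hzz _ hw₀ hw1).trans e))
    have huz : ∀ u ∈ fixSub g, q u ≠ z := fun u hu e => by
      have : q (u * w₀) = 1 := by rw [h.map_mul, hperp u hu w₀ hw₀, mul_one, e, hzz w₀ hw₀ hw1, h.m2]
      have huw := hz _ this
      have hu0 : u = w₀ := by
        rw [eq_inv_of_mul_eq_one_left huw, inv_eq_of_mul_eq_one_right (h.v2 w₀)]
      exact hw1 (mov_inf g (by decide) hg3 h.v2 hw₀ (hu0 ▸ hu))
    let m' : ↥(fixSub g) × ↥W → V := fun p => p.1 * p.2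
    have hm' : Function.Bijective m' := by
      refine (Nat.bijective_iff_injective_and_card m').2 ⟨fun a b e => ?_, by rw [Nat.card_prod]; exact
        (mov_card g)⟩
      have e' : ((b.1 : V))⁻¹ * a.1 = b.2 * ((a.2 : V))⁻¹ := by
        rw [eq_mul_inv_iff_mul_eq, mul_assoc, show (a.1 : V) * a.2 = b.1 * b.2 from e, inv_mul_cancel_left]
      have hmem : ((b.1 : V))⁻¹ * a.1 ∈ fixSub g := mul_mem (inv_mem b.1.2) a.1.2
      have h0 : (b.2 : V) * ((a.2 : V))⁻¹ = 1 :=
        mov_inf g (by decide) hg3 h.v2 (mul_mem b.2.2 (inv_mem a.2.2)) (by rw [← e']; exact hmem)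
      rw [h0, inv_mul_eq_one] at e'
      exact Prod.ext (Subtype.ext e'.symm) (Subtype.ext (mul_inv_eq_one.1 h0).symm)
    have hfiber : ∀ v, q v = z → v ∈ W ∧ v ≠ 1 := by
      intro v hv
      obtain ⟨⟨u, w⟩, rfl⟩ := hm'.2 v
      have hv' : q ((u : V) * w) = z := hv
      rw [h.map_mul, hperp u u.2 w w.2, mul_one] at hv'
      by_cases hw : (w : V) = 1
      · rw [hw, h.q_one, mul_one] at hv'
        exact absurd hv' (huz u u.2)
      · rw [hzz w w.2 hw, mul_eq_right] at hv'
        have hu := hz _ hv'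
        show (u : V) * w ∈ W ∧ (u : V) * w ≠ 1
        rw [hu, one_mul]
        exact ⟨w.2, hw⟩
    have hcard : Nat.card {v : V // q v = z} + 1 ≤ Nat.card W := by
      rw [← Finite.card_option]
      refine Nat.card_le_card_of_injective
        (fun o : Option {v : V // q v = z} => match o with
          | none => (1 : ↥W)
          | some v => ⟨v.1, (hfiber v.1 v.2).1⟩) ?_
      rintro (_ | a) (_ | b) e
      · rfl
      · exact absurd (congrArg Subtype.val e).symm (hfiber b.1 b.2).2
      · exact absurd (congrArg Subtype.val e) (hfiber a.1 a.2).2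
      · simp only [Subtype.mk.injEq] at e
        rw [Subtype.ext e]
    have hpos : 0 < Nat.card {v : V // q v = z} := by
      haveI : Nonempty {v : V // q v = z} := ⟨⟨w₀, hzz w₀ hw₀ hw1⟩⟩
      exact Nat.card_pos
    have := Nat.le_of_dvd hpos (hfib z hz1)
    omega
  all_goals omega

/-- The group of symmetries of an anisotropic form, or of one with a single zero, is solvable. -/
theorem IsQuad.isSolvable_group [Finite M] (h : IsQuad q) (G : Subgroup (MulAut V)) (hG : ∀ g ∈ G, ∀ v, q (g v) = q v)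
    (hM : Nat.card M ≤ 4)
    (hcase : (∀ v, q v = 1 → v = 1) ∨
      (Nat.card M ≤ 2 ∧ ∃ t, (∀ v, q v = 1 ↔ v ∈ Subgroup.zpowers t) ∧ ∀ g ∈ G, g t = t)) :
    Group.IsSolvable G := by
  have hVp : IsPGroup 2 V := fun v => ⟨1, by rw [pow_one, pow_two]; exact h.v2 v⟩
  haveI : Fact (Nat.Prime 2) := ⟨Nat.prime_two⟩
  have hV : Nat.card V ≤ 16 := by
    rcases hcase with hz | ⟨hM2, t, ht, -⟩
    · exact h.card_le_sixteen hM hz
    · exact (h.card_le_eight hM2 t ht).trans (by norm_num)
  obtain ⟨f, hf⟩ := S3103.exists_mulAut_hom (fun v : V => by rw [pow_two]; exact h.v2 v) (by norm_num; exact hV)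
  have hd : Nat.card G ∣ 20160 := by
    have h1 := Subgroup.card_dvd_of_injective (f.comp G.subtype) (hf.comp G.subtype_injective)
    rwa [nat_card_alternatingGroup, Nat.card_fin,
      show (Nat.factorial 8) / 2 = 20160 by decide] at h1
  have hex : ∀ p : ℕ, p.Prime → p ∣ Nat.card G → ∃ g : MulAut V, g ∈ G ∧ orderOf g = p := fun p hp hpd => by
    haveI : Fact p.Prime := ⟨hp⟩
    obtain ⟨g, hg⟩ := exists_prime_orderOf_dvd_card' p hpd
    exact ⟨g, g.2, by rw [Subgroup.orderOf_coe]; exact hg⟩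
  -- with a non-zero zero the group fixes a point of a group of order at most eight
  have hB : ∀ t : V, t ≠ 1 → Nat.card V ≤ 8 → (∀ g ∈ G, g t = t) → ∀ p, p = 5 ∨ p = 7 → ¬ p ∣ Nat.card G := by
    intro t ht1 hV8 hGt p hp hpd
    have hp' : p.Prime := by rcases hp with rfl | rfl <;> norm_num
    obtain ⟨g, hgG, hg⟩ := hex p hp' hpd
    have h1 := card_fix_aut hp' g (hg ▸ pow_orderOf_eq_one g)
    have h2 := fix_ne g hg hp'.one_lt.ne'
    have h3 := Subgroup.card_le_card_group (fixSub g)
    have h4 : 1 < Nat.card (fixSub g) := by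
      haveI : Nontrivial ↥(fixSub g) := ⟨⟨t, hGt g hgG⟩, 1, fun e => ht1 (congrArg Subtype.val e)⟩
      exact Finite.one_lt_card
    obtain ⟨n, hn⟩ := IsPGroup.iff_card.1 hVp
    obtain ⟨m, hm⟩ := IsPGroup.iff_card.1 (hVp.to_subgroup (fixSub g))
    rw [hn] at h1 h2 h3 hV8
    rw [hm] at h1 h2 h3 h4
    have hn3 : n ≤ 3 := (Nat.pow_le_pow_iff_right (by norm_num : 1 < 2)).1 (show 2 ^ n ≤ 2 ^ 3 by omega)
    have hmn : m ≤ n := (Nat.pow_le_pow_iff_right (by norm_num : 1 < 2)).1 h3
    rcases hp with rfl | rfl <;> interval_cases n <;> interval_cases m <;> omega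
  have h7 : ¬ 7 ∣ Nat.card G := by
    intro h7
    obtain ⟨g, hgG, hg⟩ := hex 7 (by norm_num) h7
    rcases hcase with hz | ⟨hM2, t, ht, hGt⟩
    · exact h.no_seven hz hV g hg (hG g hgG)
    · by_cases ht1 : t = 1
      · exact h.no_seven (fun v e => by simpa [ht1] using (ht v).1 e) hV g hg (hG g hgG)
      · exact hB t ht1 (h.card_le_eight hM2 t ht) hGt 7 (Or.inr rfl) h7
  have h35 : ¬ 3 ∣ Nat.card G ∨ ¬ 5 ∣ Nat.card G := by
    by_contra hh
    push Not at hh
    obtain ⟨g, hgG, hg⟩ := hex 3 (by norm_num) hh.1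
    obtain ⟨f', hfG, hf'⟩ := hex 5 (by norm_num) hh.2
    rcases hcase with hz | ⟨hM2, t, ht, hGt⟩
    · exact h.no_three_five hz hV g f' hg hf' (hG g hgG) (hG f' hfG)
    · by_cases ht1 : t = 1
      · exact h.no_three_five (fun v e => by simpa [ht1] using (ht v).1 e) hV g f' hg hf' (hG g hgG) (hG f' hfG)
      · exact hB t ht1 (h.card_le_eight hM2 t ht) hGt 5 (Or.inl rfl) hh.2
  have hd1 : Nat.card G ∣ 2880 :=
    Nat.Coprime.dvd_of_dvd_mul_right ((show Nat.Prime 7 by norm_num).coprime_iff_not_dvd.2 h7).symm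
      (show Nat.card G ∣ 2880 * 7 from hd)
  rcases h35 with h3 | h5
  · exact isSolvable_of_dvd (a := 6) (b := 1) (q := 5) (by norm_num)
      (Nat.Coprime.dvd_of_dvd_mul_right (k := Nat.card G) (n := 3 ^ 2)
        (Nat.Coprime.pow_right 2 ((Nat.prime_three.coprime_iff_not_dvd.2 h3).symm))
        (show Nat.card G ∣ 2 ^ 6 * 5 ^ 1 * 3 ^ 2 from hd1))
  · exact isSolvable_of_dvd (a := 6) (b := 2) (q := 3) Nat.prime_three
      (Nat.Coprime.dvd_of_dvd_mul_right (k := Nat.card G) (n := 5)
        ((show Nat.Prime 5 by norm_num).coprime_iff_not_dvd.2 h5).symm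
        (show Nat.card G ∣ 2 ^ 6 * 3 ^ 2 * 5 from hd1))

end Quad

/-- A `2`-group of class two with central squares and at most four solutions of `c² = 1` has a solvable
automorphism group. -/
theorem isSolvable_mulAut_class_two {C : Type*} [Group C] [Finite C] (hC : IsPGroup 2 C)
    (hsq : ∀ c : C, c * c ∈ Subgroup.center C) (hcm : ∀ c d : C, d * c * d⁻¹ * c⁻¹ ∈ Subgroup.center C)
    (h4 : Nat.card {c : C // c ^ 2 = 1} ≤ 4) : Group.IsSolvable (MulAut C) := by
  classical
  haveI : Fact (Nat.Prime 2) := ⟨Nat.prime_two⟩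
  rcases subsingleton_or_nontrivial C with hss | hnt
  · haveI : Subsingleton (MulAut C) := ⟨fun a b => MulEquiv.ext fun x => Subsingleton.elim _ _⟩
    infer_instance
  set Z := Subgroup.center C with hZ
  have hcz : ∀ {z : C}, z ∈ Z → ∀ g, g * z = z * g := fun hz => Subgroup.mem_center_iff.1 hz
  letI : CommGroup ↥Z := { (inferInstance : Group ↥Z) with mul_comm := fun a b => Subtype.ext (hcz b.2 a) }
  let sq : ↥Z →* ↥Z := powMonoidHom 2
  have hker : Nat.card sq.ker ≤ 4 := by
    refine le_trans (Nat.card_le_card_of_injective (fun z : sq.ker => (⟨z.1.1, congrArg Subtype.val z.2⟩ :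
      {c : C // c ^ 2 = 1})) fun a b e => ?_) h4
    exact Subtype.ext (Subtype.ext (congrArg Subtype.val e :))
  haveI := isSolvable_mulAut_abelian (hC.to_subgroup Z) hker
  refine isSolvable_of_ker_range (resHom Z) ?_ inferInstance
  have hfix : ∀ f ∈ (resHom Z).ker, ∀ z ∈ Z, f z = z := fun f hf z hz => by
    have := congrArg Subtype.val (MulEquiv.congr_fun (MonoidHom.mem_ker.1 hf) ⟨z, hz⟩)
    rwa [resHom_apply] at this
  have hmapZ : ∀ f : MulAut C, Z.map f.toMonoidHom = Z := fun f =>
    Subgroup.characteristic_iff_map_eq.1 inferInstance f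
  let π : ↥(resHom Z).ker →* MulAut (C ⧸ Z) :=
    MonoidHom.mk' (fun f => QuotientGroup.congr Z Z f.1 (hmapZ f.1)) fun f g => MulEquiv.ext fun v => by
      induction v using QuotientGroup.induction_on with
      | _ c => rfl
  refine isSolvable_of_ker_range π ?_ ?_
  · -- stabiliser of the series is a `2`-group
    have : Group.IsSolvable ↥(π.ker.map (resHom Z).ker.subtype) := by
      refine isSolvable_of_stab hC _ ?_
      rintro f ⟨f', hf', rfl⟩ x
      refine hfix _ f'.2 _ ?_
      rw [← QuotientGroup.eq]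
      exact (MulEquiv.congr_fun (MonoidHom.mem_ker.1 hf') ((x : C) : C ⧸ Z)).symm
    exact Group.isSolvable_of_isSolvable_injective
      (f := (π.ker.equivMapOfInjective _ (resHom Z).ker.subtype_injective).toMonoidHom) (MulEquiv.injective _)
  have hVc : ∀ a b : C ⧸ Z, a * b = b * a := by
    intro a b
    induction a using QuotientGroup.induction_on with
    | _ x =>
    induction b using QuotientGroup.induction_on with
    | _ y =>
      have h1 : y * x * y⁻¹ * x⁻¹ ∈ Z := hcm x y
      rw [← QuotientGroup.eq_one_iff] at h1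
      simp only [QuotientGroup.mk_mul, QuotientGroup.mk_inv] at h1
      rw [mul_inv_eq_one, mul_inv_eq_iff_eq_mul] at h1
      exact h1.symm
  letI : CommGroup (C ⧸ Z) := { (inferInstance : Group (C ⧸ Z)) with mul_comm := hVc }
  let M := ↥Z ⧸ sq.range
  have hMc : Nat.card M = Nat.card sq.ker := by
    have h1 := sq.ker.card_mul_index
    rw [Subgroup.index_ker] at h1
    have h2 := Subgroup.card_eq_card_quotient_mul_card_subgroup sq.range
    rw [← h1] at h2
    exact (Nat.eq_of_mul_eq_mul_right Nat.card_pos h2).symm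
  let sc : C → ↥Z := fun c => ⟨c * c, hsq c⟩
  have hqwd : ∀ a b : C, a⁻¹ * b ∈ Z → (QuotientGroup.mk (sc a) : M) = QuotientGroup.mk (sc b) := by
    intro a b hab
    refine QuotientGroup.eq.2 ⟨⟨a⁻¹ * b, hab⟩, Subtype.ext ?_⟩
    show (a⁻¹ * b) ^ 2 = (a * a)⁻¹ * (b * b)
    calc (a⁻¹ * b) ^ 2 = a⁻¹ * b * (a⁻¹ * b) := pow_two _
      _ = a⁻¹ * (a⁻¹ * b) * b := by
        rw [mul_assoc a⁻¹ b, hcz hab b]; group
      _ = _ := by group
  let q : C ⧸ Z → M := fun v => Quotient.liftOn' v (fun c => (QuotientGroup.mk (sc c) : M))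
    fun a b hab => hqwd a b (QuotientGroup.leftRel_apply.1 hab)
  have hqmk : ∀ c : C, q c = QuotientGroup.mk (sc c) := fun c => rfl
  let K : C → C → ↥Z := fun c d => ⟨d * c * d⁻¹ * c⁻¹, hcm c d⟩
  have hKm : ∀ c c' d, K (c * c') d = K c d * K c' d := fun c c' d => Subtype.ext (by
    show d * (c * c') * d⁻¹ * (c * c')⁻¹ = d * c * d⁻¹ * c⁻¹ * (d * c' * d⁻¹ * c'⁻¹)
    calc d * (c * c') * d⁻¹ * (c * c')⁻¹ = d * c * d⁻¹ * (d * c' * d⁻¹ * c'⁻¹) * c⁻¹ := by group
      _ = _ := by rw [mul_assoc (d * c * d⁻¹), ← hcz (hcm c' d) c⁻¹]; group)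
  have hM2 : ∀ m : M, m * m = 1 := fun m => by
    induction m using QuotientGroup.induction_on with
    | _ z => exact (QuotientGroup.eq_one_iff _).2 ⟨z, by show z ^ 2 = z * z; rw [pow_two]⟩
  have hqb : ∀ c d : C, qb q (c : C ⧸ Z) d = QuotientGroup.mk (K c d) := by
    intro c d
    have e : sc (c * d) = K c d * sc c * sc d := Subtype.ext (by
      show c * d * (c * d) = d * c * d⁻¹ * c⁻¹ * (c * c) * (d * d)
      calc c * d * (c * d) = c * (d * c * d⁻¹ * c⁻¹) * c * d * d := by group
        _ = _ := by rw [hcz (hcm c d) c]; group)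
    rw [qb, ← QuotientGroup.mk_mul, hqmk, hqmk, hqmk, e, QuotientGroup.mk_mul, QuotientGroup.mk_mul]
    rw [mul_assoc ((QuotientGroup.mk (K c d) : M) * _), mul_comm (QuotientGroup.mk (sc d) : M), ← mul_assoc,
      mul_assoc (QuotientGroup.mk (K c d) : M), hM2, mul_one, mul_assoc, hM2, mul_one]
  have hquad : IsQuad q := by
    refine ⟨fun v => ?_, hM2, fun x y w => ?_⟩
    · induction v using QuotientGroup.induction_on with
      | _ c => exact (QuotientGroup.eq_one_iff _).2 (hsq c)
    · induction x using QuotientGroup.induction_on with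
      | _ a =>
      induction y using QuotientGroup.induction_on with
      | _ b =>
      induction w using QuotientGroup.induction_on with
      | _ d => rw [← QuotientGroup.mk_mul, hqb, hqb, hqb, hKm, QuotientGroup.mk_mul]
  have hG : ∀ g ∈ π.range, ∀ v, q (g v) = q v := by
    rintro _ ⟨f, rfl⟩ v
    induction v using QuotientGroup.induction_on with
    | _ c =>
      show q ((f.1 c : C) : C ⧸ Z) = q c
      rw [hqmk, hqmk]
      congr 1
      exact Subtype.ext (by show f.1 c * f.1 c = c * c; rw [← map_mul]; exact hfix _ f.2 _ (hsq c))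
  have hzero : ∀ v, q v = 1 → ∃ u : C, u ^ 2 = 1 ∧ (u : C ⧸ Z) = v := by
    intro v
    induction v using QuotientGroup.induction_on with
    | _ c =>
      intro hv
      rw [hqmk, QuotientGroup.eq_one_iff] at hv
      obtain ⟨w, hw⟩ := hv
      have hw' : (w : C) ^ 2 = c * c := congrArg Subtype.val hw
      refine ⟨c * (w : C)⁻¹, ?_, ?_⟩
      · rw [(show Commute c (w : C)⁻¹ from hcz (inv_mem w.2) c).mul_pow, inv_pow, hw', pow_two, mul_inv_cancel]
      · rw [QuotientGroup.eq, show (c * (w : C)⁻¹)⁻¹ * c = w by group]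
        exact w.2
  refine hquad.isSolvable_group π.range hG (hMc ▸ hker) ?_
  by_cases hall : ∀ u : C, u ^ 2 = 1 → u ∈ Z
  · left
    intro v hv
    obtain ⟨u, hu, rfl⟩ := hzero v hv
    exact (QuotientGroup.eq_one_iff u).2 (hall u hu)
  right
  push Not at hall
  obtain ⟨t, ht, htZ⟩ := hall
  -- at most two central solutions
  have hdis : ∀ z : sq.ker, ((z : ↥Z) : C) ^ 2 = 1 := fun z => congrArg Subtype.val z.2
  have hinj : Nat.card sq.ker + Nat.card sq.ker ≤ 4 := by
    rw [← Nat.card_sum]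
    refine le_trans (Nat.card_le_card_of_injective (fun s : sq.ker ⊕ sq.ker => (match s with
      | .inl z => ⟨((z : ↥Z) : C), hdis z⟩
      | .inr z => ⟨t * ((z : ↥Z) : C), by
          rw [(show Commute t ((z : ↥Z) : C) from hcz z.1.2 t).mul_pow, ht, hdis, one_mul]⟩ :
      {c : C // c ^ 2 = 1})) ?_) h4
    rintro (a | a) (b | b) e <;> have e' := congrArg Subtype.val e
    · exact congrArg Sum.inl (Subtype.ext (Subtype.ext e'))
    · exact absurd (by
        have : t = ((a : ↥Z) : C) * (((b : ↥Z) : C))⁻¹ := eq_mul_inv_of_mul_eq (e' : ((a : ↥Z) : C) = t * _).symm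
        rw [this]; exact mul_mem a.1.2 (inv_mem b.1.2)) htZ
    · exact absurd (by
        have : t = ((b : ↥Z) : C) * (((a : ↥Z) : C))⁻¹ := eq_mul_inv_of_mul_eq (e' : t * _ = _)
        rw [this]; exact mul_mem b.1.2 (inv_mem a.1.2)) htZ
    · exact congrArg Sum.inr (Subtype.ext (Subtype.ext (mul_left_cancel (e' : t * _ = t * _))))
  have hkpos : 2 ≤ Nat.card sq.ker := by
    haveI := hC.center_nontrivial
    obtain ⟨n, hn⟩ := (hC.to_subgroup Z).exists_card_eq
    obtain ⟨z, hz⟩ := exists_prime_orderOf_dvd_card' 2 (show 2 ∣ Nat.card ↥Z by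
      rw [hn]
      refine dvd_pow_self 2 fun e => ?_
      have := Finite.one_lt_card (α := ↥Z)
      rw [hn, e] at this
      simp at this)
    have hz' : z ∈ sq.ker := by rw [MonoidHom.mem_ker]; show z ^ 2 = 1; rw [← hz]; exact pow_orderOf_eq_one z
    have hne : z ≠ 1 := fun e => by rw [e, orderOf_one] at hz; exact absurd hz (by norm_num)
    haveI : Nontrivial ↥sq.ker := ⟨⟨z, hz'⟩, 1, fun e => hne (congrArg Subtype.val e)⟩
    exact Finite.one_lt_card
  have hall' : ∀ u : C, u ^ 2 = 1 → u ∉ Z → (u : C ⧸ Z) = t := by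
    intro u hu huZ
    by_contra hne
    have : Nat.card sq.ker + Nat.card sq.ker + 1 ≤ 4 := by
      rw [← Nat.card_sum, ← Finite.card_option]
      refine le_trans (Nat.card_le_card_of_injective (fun s : Option (sq.ker ⊕ sq.ker) => (match s with
        | some (.inl z) => ⟨((z : ↥Z) : C), hdis z⟩
        | some (.inr z) => ⟨t * ((z : ↥Z) : C), by
            rw [(show Commute t ((z : ↥Z) : C) from hcz z.1.2 t).mul_pow, ht, hdis, one_mul]⟩
        | none => ⟨u, hu⟩ : {c : C // c ^ 2 = 1})) ?_) h4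
      rintro (_ | a | a) (_ | b | b) e <;> have e' := congrArg Subtype.val e
      · rfl
      · exact absurd ((show u = ((b : ↥Z) : C) from e') ▸ b.1.2) huZ
      · exact absurd (by rw [show u = t * ((b : ↥Z) : C) from e', QuotientGroup.mk_mul_of_mem _ b.1.2]) hne
      · exact absurd ((show u = ((a : ↥Z) : C) from e'.symm) ▸ a.1.2) huZ
      · exact congrArg (some ∘ Sum.inl) (Subtype.ext (Subtype.ext e'))
      · exact absurd (by
          have : t = ((a : ↥Z) : C) * (((b : ↥Z) : C))⁻¹ := eq_mul_inv_of_mul_eq (e' : ((a : ↥Z) : C) = t * _).symm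
          rw [this]; exact mul_mem a.1.2 (inv_mem b.1.2)) htZ
      · exact absurd (by rw [show u = t * ((a : ↥Z) : C) from e'.symm, QuotientGroup.mk_mul_of_mem _ a.1.2]) hne
      · exact absurd (by
          have : t = ((b : ↥Z) : C) * (((a : ↥Z) : C))⁻¹ := eq_mul_inv_of_mul_eq (e' : t * _ = _)
          rw [this]; exact mul_mem b.1.2 (inv_mem a.1.2)) htZ
      · exact congrArg (some ∘ Sum.inr) (Subtype.ext (Subtype.ext (mul_left_cancel (e' : t * _ = t * _))))
    omega
  refine ⟨by rw [hMc]; omega, (t : C ⧸ Z), fun v => ⟨fun hv => ?_, fun hv => ?_⟩, ?_⟩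
  · obtain ⟨u, hu, rfl⟩ := hzero v hv
    by_cases huZ : u ∈ Z
    · rw [(QuotientGroup.eq_one_iff u).2 huZ]; exact one_mem _
    · rw [hall' u hu huZ]; exact Subgroup.mem_zpowers _
  · obtain ⟨i, rfl⟩ := hv
    have h1 : q (t : C ⧸ Z) = 1 := by
      rw [hqmk, QuotientGroup.eq_one_iff]
      exact ⟨1, Subtype.ext (by show (1 : C) ^ 2 = t * t; rw [one_pow, ← pow_two, ht])⟩
    show q ((t : C ⧸ Z) ^ i) = 1
    rcases Int.even_or_odd' i with ⟨j, rfl | rfl⟩
    · rw [zpow_mul, zpow_two, hquad.v2, one_zpow, hquad.q_one]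
    · rw [zpow_add, zpow_mul, zpow_two, hquad.v2, one_zpow, one_mul, zpow_one, h1]
  · rintro _ ⟨f, rfl⟩
    show ((f.1 t : C) : C ⧸ Z) = t
    refine hall' _ (by rw [← map_pow, ht, map_one]) fun hmem => htZ ?_
    obtain ⟨z, hz, he⟩ := (hmapZ f.1).ge hmem
    exact f.1.injective he ▸ hz

/-- If X is a finite 2-group containing exactly three involutions, then the automorphism group of X is solvable. -/
theorem result {X : Type*} [Group X] [Finite X] (h2 : IsPGroup 2 X) (h3 : Nat.card {x : X // orderOf x = 2} = 3) : Group.IsSolvable (MulAut X) := by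
  haveI : Fact (Nat.Prime 2) := ⟨Nat.prime_two⟩
  classical
  obtain ⟨C, hC⟩ := Cfsg.Agent.Lib.Critical.exists_critical h2
  haveI := hC.char
  have h4 : Nat.card {c : ↥C // c ^ 2 = 1} ≤ 4 := by
    have : Nat.card (Option {x : X // orderOf x = 2}) = 4 := by rw [Finite.card_option, h3]
    rw [← this]
    refine Nat.card_le_card_of_injective (fun c => if hc : (c.1 : X) = 1 then none
      else some ⟨(c.1 : X), orderOf_eq_prime (by exact_mod_cast congrArg Subtype.val c.2) hc⟩) ?_
    intro a b e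
    simp only at e
    split at e <;> split at e
    · rename_i ha hb; exact Subtype.ext (Subtype.ext (ha.trans hb.symm))
    · exact absurd e (by simp)
    · exact absurd e (by simp)
    · rw [Option.some.injEq, Subtype.mk.injEq] at e
      exact Subtype.ext (Subtype.ext e)
  have hcen : ∀ z : ↥C, (z : X) ∈ Subgroup.centralizer (C : Set X) → z ∈ Subgroup.center ↥C := fun z hz =>
    Subgroup.mem_center_iff.2 fun g => Subtype.ext (Subgroup.mem_centralizer_iff.1 hz g g.2)
  haveI := isSolvable_mulAut_class_two (C := ↥C) (h2.to_subgroup C)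
    (fun c => hcen _ (by have := (hC.pow_mem c c.2).2; rwa [pow_two] at this))
    (fun c d => hcen _ (by
      have h := hC.comm_le (Subgroup.commutator_mem_commutator d.2 (Subgroup.mem_top (c : X)))
      exact h.2)) h4
  refine isSolvable_of_ker_range (resHom C) ?_ inferInstance
  refine isSolvable_of_stab h2 _ fun f hf x => ?_
  have hfix : ∀ c ∈ C, f c = c := fun c hc => by
    have := congrArg Subtype.val (MulEquiv.congr_fun (MonoidHom.mem_ker.1 hf) ⟨c, hc⟩)
    rwa [resHom_apply] at this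
  refine hfix _ (hC.centralizer_le (Subgroup.mem_centralizer_iff.2 fun c hc => ?_))
  have hxc : x * c * x⁻¹ ∈ C := Subgroup.Normal.conj_mem inferInstance c hc x
  have h1 := hfix _ hxc
  rw [map_mul, map_mul, map_inv, hfix c hc] at h1
  calc c * (x⁻¹ * f x) = x⁻¹ * (x * c * x⁻¹) * f x := by group
    _ = x⁻¹ * (f x * c * (f x)⁻¹) * f x := by rw [h1]
    _ = x⁻¹ * f x * c := by group

end Cfsg.Agent.S3117
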