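import Cfsg.Statements.S3154
import Mathlib
import Mathlib
import Cfsg.Agent.Lib.LThreeFour.Basic
import Cfsg.Agent.Lib.Gaschutz

set_option autoImplicit false
open Cfsg

namespace Cfsg.Agent.S3154

open Cfsg.Agent.Lib

section
variable {X G : Type*} [Group X] [Finite X] [Group G] {F : Type*} [Field F]

lemma preimage_exp_two (π : X →* G) (hker : π.ker ≤ Subgroup.center X) (hZ2 : ∀ z ∈ π.ker, z ^ 2 = 1)
    (H : Subgroup X) (hkH : π.ker ≤ H) (hsq : ∀ h ∈ H, π h ^ 2 = 1) (hcard : 5 ≤ Nat.card (H.map π))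
    (htr : ∀ a ∈ H.map π, ∀ b ∈ H.map π, a ≠ 1 → b ≠ 1 → ∃ x : X, π x * a * (π x)⁻¹ = b) :
    ∀ h ∈ H, h ^ 2 = 1 := by
  classical
  have hzc : ∀ z ∈ π.ker, ∀ y : X, y * z = z * y := fun z hz y => Subgroup.mem_center_iff.1 (hker hz) y
  have hqk : ∀ h ∈ H, h ^ 2 ∈ π.ker := fun h hh => by rw [MonoidHom.mem_ker, map_pow, hsq h hh]
  have hconst : ∀ h ∈ H, ∀ k ∈ H, π h ≠ 1 → π k ≠ 1 → h ^ 2 = k ^ 2 := by
    intro h hh k hk h1 k1
    obtain ⟨x, hx⟩ := htr _ ⟨h, hh, rfl⟩ _ ⟨k, hk, rfl⟩ h1 k1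
    have hz : (x * h * x⁻¹)⁻¹ * k ∈ π.ker := by
      rw [MonoidHom.mem_ker, map_mul, map_inv, map_mul, map_mul, map_inv, hx, inv_mul_cancel]
    have hke : k = x * h * x⁻¹ * ((x * h * x⁻¹)⁻¹ * k) := (mul_inv_cancel_left _ _).symm
    generalize (x * h * x⁻¹)⁻¹ * k = z at hz hke
    rw [hke, Commute.mul_pow (hzc z hz _), hZ2 z hz, mul_one, sq, sq]
    calc h * h = x * x⁻¹ * (h * h) := by group
      _ = x * (h * h) * x⁻¹ := by
          have := hzc _ (sq h ▸ hqk h hh) x
          rw [this]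
          have h2 := hzc _ (sq h ▸ hqk h hh) x⁻¹
          rw [mul_assoc (h * h), mul_inv_cancel, mul_one]
          simp
      _ = x * h * x⁻¹ * (x * h * x⁻¹) := by group
  -- three independent elements
  haveI : Finite (H.map π) := Finite.of_surjective (fun h : H => (⟨π h, h, h.2, rfl⟩ : H.map π))
    (by rintro ⟨_, h, hh, rfl⟩; exact ⟨⟨h, hh⟩, rfl⟩)
  haveI := Fintype.ofFinite (H.map π)
  have hpick : ∀ s : Finset (H.map π), s.card ≤ 4 → ∃ a : H.map π, a ∉ s := by
    intro s hs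
    by_contra hn
    push Not at hn
    have := Finset.card_le_card (show Finset.univ ⊆ s from fun a _ => hn a)
    rw [Finset.card_univ, ← Nat.card_eq_fintype_card] at this
    omega
  obtain ⟨a, ha⟩ := hpick {1} (by simp)
  obtain ⟨b, hb⟩ := hpick {1, a} (Finset.card_le_two.trans (by norm_num))
  obtain ⟨c, hc⟩ := hpick {1, a, b, a * b} Finset.card_le_four
  simp only [Finset.mem_insert, Finset.mem_singleton, not_or] at ha hb hc
  obtain ⟨h, hh, hhe⟩ := a.2
  obtain ⟨k, hk, hke⟩ := b.2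
  obtain ⟨l, hl, hle⟩ := c.2
  have h1 : π h ≠ 1 := fun e => ha (Subtype.ext (hhe ▸ e))
  set e₀ := h ^ 2 with he₀
  have he0k : e₀ ∈ π.ker := hqk h hh
  have hee : e₀ * e₀ = 1 := by rw [← sq, hZ2 _ he0k]
  have ha2 : a * a = 1 := Subtype.ext (by rw [Subgroup.coe_mul, ← hhe, ← sq, hsq h hh, Subgroup.coe_one])
  have hb2 : b * b = 1 := Subtype.ext (by rw [Subgroup.coe_mul, ← hke, ← sq, hsq k hk, Subgroup.coe_one])
  have hab : a * b = b * a := by
    have h2 : (a * b) * (a * b) = 1 := Subtype.ext (by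
      rw [Subgroup.coe_mul, Subgroup.coe_mul, ← hhe, ← hke, ← map_mul, ← sq, hsq _ (mul_mem hh hk), Subgroup.coe_one])
    have hi : ∀ u : H.map π, u * u = 1 → u⁻¹ = u := fun u hu => inv_eq_of_mul_eq_one_right hu
    calc a * b = (a * b)⁻¹ := (hi _ h2).symm
      _ = b * a := by rw [mul_inv_rev, hi a ha2, hi b hb2]
  -- commutation up to `e₀`
  have hcomm : ∀ u ∈ H, π u ≠ 1 → π u ≠ π h → u * h = e₀ * (h * u) := by
    intro u hu u1 uh
    have huh : π (h * u) ≠ 1 := by
      intro e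
      refine uh ?_
      rw [map_mul] at e
      rw [eq_inv_of_mul_eq_one_right e]
      exact inv_eq_of_mul_eq_one_right (by rw [← sq, hsq h hh])
    have e1 : (h * u) ^ 2 = e₀ := (hconst _ (mul_mem hh hu) h hh huh h1).trans rfl
    have e2 : u ^ 2 = e₀ := hconst u hu h hh u1 h1
    have hi : h⁻¹ = e₀ * h := inv_eq_of_mul_eq_one_left (by rw [mul_assoc, ← sq, ← he₀, hee])
    have ui : u⁻¹ = e₀ * u := inv_eq_of_mul_eq_one_left (by rw [mul_assoc, ← sq, e2, hee])
    calc u * h = h⁻¹ * ((h * u) ^ 2) * u⁻¹ := by rw [sq]; group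
      _ = e₀ * h * e₀ * (e₀ * u) := by rw [e1, hi, ui]
      _ = e₀ * (h * (e₀ * e₀) * u) := by group
      _ = e₀ * (h * u) := by rw [hee, mul_one]
  have k1 : π k ≠ 1 := fun e => hb.1 (Subtype.ext (hke ▸ e))
  have kh : π k ≠ π h := fun e => hb.2 (Subtype.ext (hke ▸ hhe ▸ e))
  have l1 : π l ≠ 1 := fun e => hc.1 (Subtype.ext (hle ▸ e))
  have lh : π l ≠ π h := fun e => hc.2.1 (Subtype.ext (hle ▸ hhe ▸ e))
  have kl1 : π (k * l) ≠ 1 := fun e => hc.2.2.1 (by
    refine mul_left_cancel (a := b) (Eq.trans (Subtype.ext ?_) hb2.symm)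
    rw [Subgroup.coe_mul, ← hke, ← hle, ← map_mul, e, Subgroup.coe_one])
  have klh : π (k * l) ≠ π h := fun e => hc.2.2.2 (by
    refine mul_left_cancel (a := b) ?_
    rw [hab, ← mul_assoc, hb2, one_mul]
    exact Subtype.ext (by rw [Subgroup.coe_mul, ← hke, ← hle, ← map_mul, e, hhe]))
  have he1 : e₀ = 1 := by
    have e3 := hcomm (k * l) (mul_mem hk hl) kl1 klh
    rw [mul_assoc, hcomm l hl l1 lh, ← mul_assoc, hzc _ he0k k, mul_assoc e₀ k, ← mul_assoc k h,
      hcomm k hk k1 kh] at e3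
    have e4 : e₀ * (e₀ * (h * k) * l) = e₀ * (h * (k * l)) := e3
    rw [mul_left_cancel_iff, mul_assoc e₀, mul_assoc h] at e4
    simpa using e4
  intro u hu
  by_cases u1 : π u = 1
  · exact hZ2 u u1
  · rw [hconst u hu h hh u1 h1]; exact he1

lemma exists_compl_elem (K M : Subgroup X) (hMK : M ≤ K) (hK : ∀ x ∈ K, x ^ 2 = 1) :
    ∃ C : Subgroup X, C ≤ K ∧ C ⊓ M = ⊥ ∧ M ⊔ C = K := by
  classical
  have hcomm : ∀ x ∈ K, ∀ y ∈ K, x * y = y * x := by
    intro x hx y hy
    have e1 : ∀ z ∈ K, z⁻¹ = z := fun z hz => inv_eq_of_mul_eq_one_right (by rw [← sq, hK z hz])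
    calc x * y = (x * y)⁻¹ := (e1 _ (mul_mem hx hy)).symm
      _ = y * x := by rw [mul_inv_rev, e1 x hx, e1 y hy]
  obtain ⟨C, hC⟩ := (Set.toFinite {C : Subgroup X | C ≤ K ∧ C ⊓ M = ⊥}).exists_maximal
    ⟨⊥, bot_le, bot_inf_eq _⟩
  refine ⟨C, hC.1.1, hC.1.2, le_antisymm (sup_le hMK hC.1.1) fun x hx => ?_⟩
  by_contra hxn
  have hCx : C ⊔ Subgroup.zpowers x ≤ K := sup_le hC.1.1 (Subgroup.zpowers_le.2 hx)
  have hinf : (C ⊔ Subgroup.zpowers x) ⊓ M = ⊥ := by
    rw [Subgroup.eq_bot_iff_forall]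
    rintro y ⟨hy, hyM⟩
    let S : Subgroup X :=
      { carrier := {y | y ∈ C ∨ (y * x ∈ C ∧ y ∈ K)}
        one_mem' := Or.inl (one_mem C)
        mul_mem' := by
          rintro a b (ha | ⟨ha, haK⟩) (hb | ⟨hb, hbK⟩)
          · exact Or.inl (mul_mem ha hb)
          · exact Or.inr ⟨by rw [mul_assoc]; exact mul_mem ha hb, mul_mem (hC.1.1 ha) hbK⟩
          · refine Or.inr ⟨?_, mul_mem haK (hC.1.1 hb)⟩
            rw [mul_assoc, hcomm b (hC.1.1 hb) x hx, ← mul_assoc]
            exact mul_mem ha hb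
          · refine Or.inl ?_
            have h := mul_mem ha hb
            rwa [mul_assoc, ← mul_assoc x, hcomm x hx b hbK, mul_assoc b, ← sq, hK x hx, mul_one] at h
        inv_mem' := by
          rintro a (ha | ⟨ha, haK⟩)
          · exact Or.inl (inv_mem ha)
          · rw [show a⁻¹ = a from inv_eq_of_mul_eq_one_right (by rw [← sq, hK a haK])]
            exact Or.inr ⟨ha, haK⟩ }
    have hS : C ⊔ Subgroup.zpowers x ≤ S := sup_le (fun c hc => Or.inl hc)
      (Subgroup.zpowers_le.2 (Or.inr ⟨by rw [← sq, hK x hx]; exact one_mem C, hx⟩))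
    rcases hS hy with h | ⟨h, -⟩
    · have : y ∈ C ⊓ M := ⟨h, hyM⟩
      rwa [hC.1.2] at this
    · refine absurd ?_ hxn
      have : x = y⁻¹ * (y * x) := (inv_mul_cancel_left y x).symm
      rw [this]
      exact mul_mem (Subgroup.mem_sup_left (inv_mem hyM)) (Subgroup.mem_sup_right h)
  have := hC.2 ⟨hCx, hinf⟩ le_sup_left
  exact hxn (Subgroup.mem_sup_right (this (Subgroup.mem_sup_right (Subgroup.mem_zpowers x))))

set_option maxHeartbeats 1000000 in
lemma lift_split (π : X →* G) (hπ : Function.Surjective π) (hker : π.ker ≤ Subgroup.center X)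
    (T : Sylow 2 X) (H K : Subgroup X) (hHT : H ≤ T) (hkH : π.ker ≤ H)
    (hH : ∀ h ∈ H, h ^ 2 = 1) (hK : ∀ h ∈ K, h ^ 2 = 1) (hTHK : H ⊔ K = T)
    (hgood : LThreeFour.Good F (H.map π)) (hTn : (T : Subgroup X).map π ≤ Subgroup.normalizer ((H.map π : Subgroup G) : Set G)) :
    ∃ C : Subgroup X, C ≤ Subgroup.normalizer (H : Set X) ∧ C ⊓ H = ⊥ ∧ H ⊔ C = Subgroup.normalizer (H : Set X) ∧
      Nonempty (↥C ≃* Matrix.ProjectiveSpecialLinearGroup (Fin 2) F) := by
  classical
  haveI := Fact.mk Nat.prime_two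
  obtain ⟨L, hLN, hLi, hLs, ⟨f⟩⟩ := hgood.compl
  set N := Subgroup.normalizer (H : Set X) with hN
  have hH' : H = (H.map π).comap π := (Subgroup.comap_map_eq_self hkH).symm
  have hNN : N = (Subgroup.normalizer ((H.map π : Subgroup G) : Set G)).comap π := by
    rw [hN, Subgroup.comap_normalizer_eq_of_surjective _ hπ, ← hH']
  have hTN : (T : Subgroup X) ≤ N := by
    rw [hNN]; exact Subgroup.map_le_iff_le_comap.1 hTn
  have hHN : H ≤ N := Subgroup.le_normalizer
  obtain ⟨C₀, hC₀K, hC₀i, hC₀s⟩ := exists_compl_elem K (H ⊓ K) inf_le_right hK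
  haveI hHn : (H.subgroupOf N).Normal := Subgroup.normal_in_normalizer
  haveI : IsMulCommutative (H.subgroupOf N) := ⟨⟨fun a b => by
    apply Subtype.ext; apply Subtype.ext
    have hi : ∀ z ∈ H, z⁻¹ = z := fun z hz => inv_eq_of_mul_eq_one_right (by rw [← sq, hH z hz])
    have ha : ((a : N) : X) ∈ H := a.2
    have hb : ((b : N) : X) ∈ H := b.2
    show ((a : N) : X) * ((b : N) : X) = ((b : N) : X) * ((a : N) : X)
    calc _ = (((a : N) : X) * ((b : N) : X))⁻¹ := (hi _ (mul_mem ha hb)).symm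
      _ = _ := by rw [mul_inv_rev, hi _ ha, hi _ hb]⟩⟩
  have hC₀T : C₀ ≤ T := hC₀K.trans (hTHK ▸ le_sup_right)
  have hHK : H ⊔ C₀ = T := by
    rw [← hTHK]
    refine le_antisymm (sup_le_sup_left hC₀K _) (sup_le le_sup_left ?_)
    rw [← hC₀s]
    exact sup_le (inf_le_left.trans le_sup_left) le_sup_right
  obtain ⟨C', hC'⟩ := Gaschutz.exists_complement (H.subgroupOf N) ((T : Subgroup X).subgroupOf N)
    (fun x hx => hHT hx) (by
      have h2 : IsPGroup 2 (H.subgroupOf N) :=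
        IsPGroup.of_injective (T.isPGroup'.to_le hHT) (Subgroup.subgroupOfEquivOfLe hHN).toMonoidHom
          (Subgroup.subgroupOfEquivOfLe hHN).injective
      obtain ⟨e, he⟩ := IsPGroup.iff_card.1 h2
      rw [he]
      refine Nat.Coprime.pow_left _ (Nat.prime_two.coprime_iff_not_dvd.2 fun hd => T.not_dvd_index ?_)
      exact hd.trans (Subgroup.relIndex_dvd_index_of_le hTN |> fun h => by exact h))
    (C₀.subgroupOf N) (fun x hx => hC₀T hx)
    (by
      rw [Subgroup.eq_bot_iff_forall]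
      rintro x ⟨h1, h2⟩
      have h3 : (x : X) ∈ C₀ ⊓ (H ⊓ K) := ⟨h1, h2, hC₀K h1⟩
      rw [hC₀i] at h3
      exact Subtype.ext h3)
    (by
      rw [← Subgroup.subgroupOf_sup hHN (hC₀T.trans hTN), hHK])
  haveI := hHn
  refine ⟨C'.map N.subtype, ?_, ?_, ?_, ?_⟩
  · rintro _ ⟨x, -, rfl⟩; exact x.2
  · rw [Subgroup.eq_bot_iff_forall]
    rintro _ ⟨⟨x, hx, rfl⟩, hxH⟩
    have h3 : x ∈ H.subgroupOf N ⊓ C' := ⟨hxH, hx⟩
    rw [hC'.disjoint.eq_bot] at h3
    simp only [Subgroup.mem_bot] at h3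
    simp [h3]
  · have h3 := congrArg (Subgroup.map N.subtype) hC'.sup_eq_top
    rw [Subgroup.map_sup, Subgroup.map_subgroupOf_eq_of_le hHN, ← MonoidHom.range_eq_map,
      Subgroup.range_subtype] at h3
    exact h3
  · let N' := Subgroup.normalizer ((H.map π : Subgroup G) : Set G)
    let ψ : N →* N' := (π.comp N.subtype).codRestrict N' fun x => Subgroup.mem_comap.1 (hNN.le x.2)
    have hψ : Function.Surjective ψ := by
      rintro ⟨y, hy⟩
      obtain ⟨x, rfl⟩ := hπ y
      exact ⟨⟨x, hNN.ge hy⟩, rfl⟩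
    haveI : ((H.map π).subgroupOf N').Normal := Subgroup.normal_in_normalizer
    have hq : (H.subgroupOf N) = ((QuotientGroup.mk' ((H.map π).subgroupOf N')).comp ψ).ker := by
      ext x
      rw [MonoidHom.mem_ker, MonoidHom.comp_apply, QuotientGroup.mk'_apply, QuotientGroup.eq_one_iff]
      show (x : X) ∈ H ↔ π x ∈ H.map π
      conv_lhs => rw [hH']
      rfl
    have hL' : Subgroup.IsComplement' (L.subgroupOf N') ((H.map π).subgroupOf N') := by
      refine (Subgroup.isComplement'_of_disjoint_and_mul_eq_univ ?_ ?_)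
      · rw [disjoint_iff, Subgroup.eq_bot_iff_forall]
        rintro x ⟨h1, h2⟩
        have h3 : (x : G) ∈ L ⊓ H.map π := ⟨h1, h2⟩
        rw [hLi] at h3
        exact Subtype.ext h3
      · rw [← Subgroup.mul_normal, ← Subgroup.coe_top, SetLike.coe_set_eq,
          ← Subgroup.subgroupOf_sup hLN Subgroup.le_normalizer, sup_comm, hLs, Subgroup.subgroupOf_self]
    let φ := (QuotientGroup.mk' ((H.map π).subgroupOf N')).comp ψ
    have hφ : Function.Surjective φ := (QuotientGroup.mk'_surjective _).comp hψ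
    have e1 : (N ⧸ H.subgroupOf N) ≃* C' := hC'.symm.QuotientMulEquiv
    have e2 : (N ⧸ φ.ker) ≃* N' ⧸ (H.map π).subgroupOf N' := QuotientGroup.quotientKerEquivOfSurjective φ hφ
    have e3 : (N' ⧸ (H.map π).subgroupOf N') ≃* L.subgroupOf N' := hL'.QuotientMulEquiv
    have e4 : (N ⧸ H.subgroupOf N) ≃* N ⧸ φ.ker := QuotientGroup.quotientMulEquivOfEq hq
    exact ⟨(C'.equivMapOfInjective _ N.subtype_injective).symm.trans
      (((e1.symm.trans e4).trans e2).trans (e3.trans ((Subgroup.subgroupOfEquivOfLe hLN).trans f)))⟩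

end


/-- Let X be a finite quasisimple group whose centre is an elementary abelian 2-group and whose central quotient is isomorphic to the projective special linear group of dimension 3 over the field with 4 elements. Let T be a Sylow 2-subgroup of X and H ≠ K subgroups of T containing the centre Z(X) whose images in X/Z(X) are elementary abelian of order 16 (the two such subgroups of a Sylow 2-subgroup of the quotient). Then H and K are elementary abelian, H ∩ K is the centre of the subgroup they generate, and each of N_X(H), N_X(K) is a split extension of H, respectively K, by the projective special linear group of dimension 2 over the field with 4 elements (there is a complement isomorphic to that group). -/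
theorem result {X : Type*} [Group X] [Finite X] (hq : Cfsg.IsQuasisimple X) (hZ : Cfsg.IsElementaryAbelian 2 (Subgroup.center X))
    {F : Type*} [Field F] [Fintype F] (hF : Fintype.card F = 4) (hXL : Nonempty ((X ⧸ Subgroup.center X) ≃* Matrix.ProjectiveSpecialLinearGroup (Fin 3) F))
    (T : Sylow 2 X) (H K : Subgroup X) (hHK : H ≠ K) (hHT : H ≤ T) (hKT : K ≤ T) (hZH : Subgroup.center X ≤ H) (hZK : Subgroup.center X ≤ K)
    (hH : Cfsg.IsElementaryAbelian 2 (H.map (QuotientGroup.mk' (Subgroup.center X))) ∧ Nat.card ↥(H.map (QuotientGroup.mk' (Subgroup.center X))) = 16)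
    (hK : Cfsg.IsElementaryAbelian 2 (K.map (QuotientGroup.mk' (Subgroup.center X))) ∧ Nat.card ↥(K.map (QuotientGroup.mk' (Subgroup.center X))) = 16) :
    Cfsg.IsElementaryAbelian 2 H ∧ Cfsg.IsElementaryAbelian 2 K ∧
      H ⊓ K = (Subgroup.center ↥(H ⊔ K)).map (H ⊔ K).subtype ∧
      (∃ C : Subgroup X, C ≤ Subgroup.normalizer (H : Set X) ∧ C ⊓ H = ⊥ ∧ H ⊔ C = Subgroup.normalizer (H : Set X) ∧
        Nonempty (↥C ≃* Matrix.ProjectiveSpecialLinearGroup (Fin 2) F)) ∧
      (∃ C : Subgroup X, C ≤ Subgroup.normalizer (K : Set X) ∧ C ⊓ K = ⊥ ∧ K ⊔ C = Subgroup.normalizer (K : Set X) ∧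
        Nonempty (↥C ≃* Matrix.ProjectiveSpecialLinearGroup (Fin 2) F)) := by
  classical
  haveI := Fact.mk Nat.prime_two
  obtain ⟨e⟩ := hXL
  set π : X →* Matrix.ProjectiveSpecialLinearGroup (Fin 3) F :=
    e.toMonoidHom.comp (QuotientGroup.mk' (Subgroup.center X)) with hπdef
  have hπ : Function.Surjective π := e.surjective.comp (QuotientGroup.mk'_surjective _)
  have hker : π.ker = Subgroup.center X := by
    ext x
    rw [MonoidHom.mem_ker, hπdef, MonoidHom.comp_apply]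
    show e (QuotientGroup.mk' (Subgroup.center X) x) = 1 ↔ _
    rw [map_eq_one_iff e e.injective, QuotientGroup.mk'_apply, QuotientGroup.eq_one_iff]
  have hmap : ∀ M : Subgroup X, M.map π = (M.map (QuotientGroup.mk' (Subgroup.center X))).map e.toMonoidHom :=
    fun M => (Subgroup.map_map _ _ _).symm
  have hprop : ∀ M : Subgroup X, Cfsg.IsElementaryAbelian 2 (M.map (QuotientGroup.mk' (Subgroup.center X))) ∧
      Nat.card ↥(M.map (QuotientGroup.mk' (Subgroup.center X))) = 16 →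
      (∀ x ∈ M.map π, x ^ 2 = 1) ∧ Nat.card (M.map π) = 16 := by
    intro M hM
    refine ⟨?_, ?_⟩
    · rw [hmap]
      rintro _ ⟨x, hx, rfl⟩
      rw [← map_pow, hM.1.2 x hx, map_one]
    · rw [hmap, Subgroup.card_map_of_injective (f := e.toMonoidHom) e.injective, hM.2]
  obtain ⟨hHsq, hHc⟩ := hprop H hH
  obtain ⟨hKsq, hKc⟩ := hprop K hK
  have hkH : π.ker ≤ H := hker ▸ hZH
  have hkK : π.ker ≤ K := hker ▸ hZK
  have hne : H.map π ≠ K.map π := fun h => hHK (by
    rw [← Subgroup.comap_map_eq_self hkH, h, Subgroup.comap_map_eq_self hkK])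
  obtain ⟨gH, gK, hsup, hnH, hnK⟩ := LThreeFour.pair hF (T.mapSurjective hπ) (H.map π) (K.map π)
    (Subgroup.map_mono hHT) (Subgroup.map_mono hKT) hne hHsq hHc hKsq hKc
  rw [Sylow.coe_mapSurjective] at hsup hnH hnK
  have hTHK : H ⊔ K = (T : Subgroup X) := by
    refine le_antisymm (sup_le hHT hKT) fun x hx => ?_
    have h1 : π x ∈ (H ⊔ K).map π := by
      rw [Subgroup.map_sup, hsup]; exact Subgroup.mem_map_of_mem _ hx
    rw [← Subgroup.mem_comap, Subgroup.comap_map_eq_self (hkH.trans le_sup_left)] at h1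
    exact h1
  have hexp : ∀ M : Subgroup X, π.ker ≤ M → (∀ x ∈ M.map π, x ^ 2 = 1) → Nat.card (M.map π) = 16 →
      LThreeFour.Good F (M.map π) → ∀ h ∈ M, h ^ 2 = 1 := by
    intro M hkM hsq hc hg
    refine preimage_exp_two π hker.le (fun z hz => hZ.2 z (hker ▸ hz)) M hkM
      (fun h hh => hsq _ (Subgroup.mem_map_of_mem _ hh)) (by rw [hc]; norm_num) ?_
    intro a ha b hb a1 b1
    obtain ⟨g, -, hg'⟩ := hg.trans a ha b hb a1 b1
    obtain ⟨x, rfl⟩ := hπ g
    exact ⟨x, hg'⟩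
  have hH2 := hexp H hkH hHsq hHc gH
  have hK2 := hexp K hkK hKsq hKc gK
  have habel : ∀ M : Subgroup X, (∀ h ∈ M, h ^ 2 = 1) → Cfsg.IsElementaryAbelian 2 M := by
    intro M hM
    refine ⟨⟨⟨fun a b => Subtype.ext ?_⟩⟩, hM⟩
    have hi : ∀ z ∈ M, z⁻¹ = z := fun z hz => inv_eq_of_mul_eq_one_right (by rw [← sq, hM z hz])
    show (a : X) * b = b * a
    calc (a : X) * b = ((a : X) * b)⁻¹ := (hi _ (mul_mem a.2 b.2)).symm
      _ = b * a := by rw [mul_inv_rev, hi _ a.2, hi _ b.2]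
  have eH := habel H hH2
  have eK := habel K hK2
  have hcm : ∀ M : Subgroup X, Cfsg.IsElementaryAbelian 2 M → ∀ x ∈ M, ∀ y ∈ M, x * y = y * x :=
    fun M hM x hx y hy => congrArg Subtype.val (hM.1.is_comm.comm ⟨x, hx⟩ ⟨y, hy⟩)
  refine ⟨eH, eK, ?_, ?_, ?_⟩
  · refine le_antisymm ?_ ?_
    · intro x hx
      refine ⟨⟨x, Subgroup.mem_sup_left hx.1⟩, ?_, rfl⟩
      rw [SetLike.mem_coe, Subgroup.mem_center_iff]
      intro y
      apply Subtype.ext
      show (y : X) * x = x * y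
      have hle : H ⊔ K ≤ Subgroup.centralizer ({x} : Set X) := by
        refine sup_le (fun z hz => ?_) (fun z hz => ?_) <;> rw [Subgroup.mem_centralizer_singleton_iff]
        · exact hcm H eH z hz x hx.1
        · exact hcm K eK z hz x hx.2
      exact Subgroup.mem_centralizer_singleton_iff.1 (hle y.2)
    · rintro _ ⟨x, hx, rfl⟩
      have key : ∀ M : Subgroup X, M ≤ H ⊔ K → π.ker ≤ M → LThreeFour.Good F (M.map π) → (x : X) ∈ M := by
        intro M hM hkM hg
        have h1 : π x ∈ M.map π := by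
          refine hg.cent ?_
          rintro _ ⟨m, hm, rfl⟩
          rw [← map_mul, ← map_mul]
          exact congrArg π (congrArg Subtype.val (Subgroup.mem_center_iff.1 hx ⟨m, hM hm⟩))
        rw [← Subgroup.mem_comap, Subgroup.comap_map_eq_self hkM] at h1
        exact h1
      exact ⟨key H le_sup_left hkH gH, key K le_sup_right hkK gK⟩
  · exact lift_split π hπ hker.le T H K hHT hkH hH2 hK2 hTHK gH hnH
  · exact lift_split π hπ hker.le T K H hKT hkK hK2 hH2 (by rw [sup_comm, hTHK]) gK hnK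

end Cfsg.Agent.S3154
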