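import Cfsg.Statements.S3155
import Mathlib

set_option autoImplicit false
open Cfsg

namespace Cfsg.Agent.S3155

/-- Let B be the direct product of three cyclic groups of order 4. Then the automorphism of B inverting every element is not the square of any automorphism of B. -/
theorem result {B : Type*} [CommGroup B] [Finite B] (hB : Nonempty (B ≃* Multiplicative (ZMod 4 × ZMod 4 × ZMod 4)))
    (τ : B ≃* B) : τ.trans τ ≠ MulEquiv.inv B := by
  intro hτ
  have : Fact (1 < 4) := ⟨by norm_num⟩
  obtain ⟨e⟩ := hB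
  let f : (ZMod 4 × ZMod 4 × ZMod 4) →+ (ZMod 4 × ZMod 4 × ZMod 4) :=
    AddMonoidHom.mk' (fun v => Multiplicative.toAdd (e (τ (e.symm (Multiplicative.ofAdd v)))))
      (fun a b => by simp [ofAdd_add, map_mul, toAdd_mul])
  have hf : ∀ v, f (f v) = -v := by
    intro v
    have h := DFunLike.congr_fun hτ (e.symm (Multiplicative.ofAdd v))
    simp only [f, AddMonoidHom.mk'_apply, ofAdd_toAdd, MulEquiv.symm_apply_apply]
    rw [show τ (τ (e.symm (Multiplicative.ofAdd v))) = (e.symm (Multiplicative.ofAdd v))⁻¹ from h]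
    simp
  let L := f.toZModLinearMap 4
  have hL : L ∘ₗ L = -LinearMap.id := LinearMap.ext hf
  have hd : LinearMap.det L * LinearMap.det L = -1 := by
    rw [← LinearMap.det_comp, hL,
      ← neg_one_smul (ZMod 4) (LinearMap.id : (ZMod 4 × ZMod 4 × ZMod 4) →ₗ[ZMod 4] _),
      LinearMap.det_smul, LinearMap.det_id, mul_one]
    rw [show Module.finrank (ZMod 4) (ZMod 4 × ZMod 4 × ZMod 4) = 3 by simp]
    decide
  exact (by decide : ∀ a : ZMod 4, a * a ≠ -1) _ hd

end Cfsg.Agent.S3155
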