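import Cfsg.Statements.S3157
import Mathlib
import Cfsg.Agent.Lib.FpfFour.Basic
import Cfsg.Agent.Lib.LinGroup.Order
import Cfsg.Agent.Lib.Classical.Dihedral
import Cfsg.Agent.Lib.TwoGroup.Recognition

set_option autoImplicit false
open Cfsg

namespace Cfsg.Agent.S3157

open Cfsg.Agent.Lib

section Fpf

variable {M : Type*} [Group M] [Finite M] (σ : MulAut M)

/-- `σ³ = 1` pointwise and `σ` fixes only `1`. -/
structure Fpf3 : Prop where
  r3 : ∀ y, σ (σ (σ y)) = y
  fpf : ∀ y, σ y = y → y = 1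

variable {σ}

theorem Fpf3.prod_eq (h : Fpf3 σ) (y : M) : y * σ y * σ (σ y) = 1 := by
  obtain ⟨g, rfl⟩ := FpfFour.exists_inv_mul σ h.fpf y
  simp only [map_mul, map_inv, h.r3]
  group

theorem Fpf3.symm (h : Fpf3 σ) : Fpf3 σ.symm := by
  refine ⟨fun y => ?_, fun y hy => h.fpf y ?_⟩
  · apply σ.injective; apply σ.injective; apply σ.injective
    simp [h.r3]
  · conv_lhs => rw [← hy]
    simp

theorem Fpf3.comm (h : Fpf3 σ) (y : M) : y * σ y = σ y * y := by
  have hs : σ.symm y = σ (σ y) := σ.injective (by simp [h.r3])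
  have hss : σ.symm (σ.symm y) = σ y := σ.injective (σ.injective (by simp [h.r3]))
  have h1 := h.prod_eq y
  have h2 := h.symm.prod_eq y
  rw [hss, hs] at h2
  have h3 : σ y * σ (σ y) = σ (σ y) * σ y :=
    mul_left_cancel (a := y) (by rw [← mul_assoc, ← mul_assoc, h1, h2])
  apply σ.injective
  rw [map_mul, map_mul]
  exact h3

/-- The order is `1` modulo `3`. -/
theorem Fpf3.card_mod (h : Fpf3 σ) : Nat.card M % 3 = 1 := by
  haveI : Fact (Nat.Prime 3) := ⟨Nat.prime_three⟩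
  have hp : IsPGroup 3 (Subgroup.zpowers σ) := by
    rintro ⟨τ, hτ⟩
    obtain ⟨i, rfl⟩ := Subgroup.mem_zpowers_iff.mp hτ
    refine ⟨1, Subtype.ext ?_⟩
    have h3 : σ ^ 3 = 1 := MulEquiv.ext h.r3
    rw [Subgroup.coe_pow, Subgroup.coe_one, pow_one, ← zpow_natCast, ← zpow_mul, mul_comm, zpow_mul, zpow_natCast, h3,
      one_zpow]
  have hfix : MulAction.fixedPoints (Subgroup.zpowers σ) M = {1} := by
    ext g
    simp only [MulAction.mem_fixedPoints, Set.mem_singleton_iff]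
    refine ⟨fun hg => h.fpf g (hg ⟨σ, Subgroup.mem_zpowers σ⟩), ?_⟩
    rintro rfl τ
    exact map_one (τ : MulAut M)
  have := hp.card_modEq_card_fixedPoints M
  rw [hfix] at this
  simp only [Nat.card_unique] at this
  exact this

theorem Fpf3.center_index_ne_four (h : Fpf3 σ) : (Subgroup.center M).index ≠ 4 := by
  intro h4
  obtain ⟨y, hy⟩ : ∃ y, y ∉ Subgroup.center M := by
    by_contra hh
    push Not at hh
    rw [Subgroup.eq_top_iff' _ |>.2 hh, Subgroup.index_top] at h4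
    omega
  have hσZ : ∀ n ∈ Subgroup.center M, σ n ∈ Subgroup.center M := fun n hn =>
    Subgroup.mem_center_iff.2 fun g => by
      obtain ⟨g, rfl⟩ := σ.surjective g
      rw [← map_mul, ← map_mul, Subgroup.mem_center_iff.1 hn g]
  have hne : y⁻¹ * σ y ∉ Subgroup.center M := fun hh => hy (FpfFour.mem_of_inv_mul_mem σ h.fpf hσZ hh)
  set D := Subgroup.centralizer ({y} : Set M)
  have hZD : Subgroup.center M ≤ D := fun z hz =>
    Subgroup.mem_centralizer_singleton_iff.2 (Subgroup.mem_center_iff.1 hz y).symm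
  have hyD : y ∈ D := Subgroup.mem_centralizer_singleton_iff.2 rfl
  have hσD : σ y ∈ D := Subgroup.mem_centralizer_singleton_iff.2 (h.comm y).symm
  have hσy : σ y ∉ Subgroup.center M := fun hh => hy (by
    have := hσZ _ (hσZ _ hh)
    rwa [h.r3] at this)
  have hdi : (Subgroup.center M).relIndex D * D.index = 4 := by rw [Subgroup.relIndex_mul_index hZD, h4]
  have hr1 : (Subgroup.center M).relIndex D ≠ 1 := fun e => hy (Subgroup.relIndex_eq_one.1 e hyD)
  have hr2 : (Subgroup.center M).relIndex D ≠ 2 := fun e => by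
    have := (Subgroup.mul_mem_iff_of_index_two (H := (Subgroup.center M).subgroupOf D) e
      (a := ⟨y, hyD⟩⁻¹) (b := ⟨σ y, hσD⟩)).2 (by
        refine ⟨fun hh => absurd ?_ hy, fun hh => absurd hh hσy⟩
        exact (Subgroup.inv_mem_iff _).1 (show y⁻¹ ∈ Subgroup.center M from hh))
    exact hne this
  have hD1 : D.index = 1 := by
    have hd : (Subgroup.center M).relIndex D ∣ 2 ^ 2 := ⟨_, hdi.symm⟩
    obtain ⟨k, hk, e⟩ := (Nat.dvd_prime_pow Nat.prime_two).1 hd
    rw [e] at hr1 hr2 hdi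
    interval_cases k <;> omega
  refine hy (Subgroup.mem_center_iff.2 fun g => ?_)
  exact (Subgroup.mem_centralizer_singleton_iff.1 (Subgroup.index_eq_one.1 hD1 ▸ Subgroup.mem_top g : g ∈ D))

end Fpf

/-- A four element field: its elements. -/
theorem four_cases {F : Type*} [Field F] [Fintype F] (hF : Fintype.card F = 4) :
    ∃ ω : F, ω * ω = ω + 1 ∧ ω ≠ 0 ∧ ω ≠ 1 ∧ ω + 1 ≠ 0 ∧ (2 : F) = 0 ∧ ∀ a : F, a = 0 ∨ a = 1 ∨ a = ω ∨ a = ω + 1 := by
  classical
  haveI : Fact (Nat.Prime 2) := ⟨Nat.prime_two⟩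
  haveI : CharP F 2 := charP_of_card_eq_prime_pow (f := 2) (by rw [hF]; rfl)
  have h2 : (2 : F) = 0 := CharTwo.two_eq_zero
  obtain ⟨w, -, hw⟩ := Finset.exists_mem_notMem_of_card_lt_card
    (show ({0, 1} : Finset F).card < (Finset.univ : Finset F).card from
      lt_of_le_of_lt Finset.card_le_two (by rw [Finset.card_univ, hF]; norm_num))
  simp only [Finset.mem_insert, Finset.mem_singleton, not_or] at hw
  have hw3 : w ^ 3 = 1 := by
    have := FiniteField.pow_card_sub_one_eq_one w hw.1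
    rwa [hF] at this
  have hsq : w * w = w + 1 := by
    have : (w - 1) * (w * w + w + 1) = 0 := by linear_combination hw3
    have := (mul_eq_zero.1 this).resolve_left (sub_ne_zero.2 hw.2)
    linear_combination this - (w + 1) * h2
  have hw10 : w + 1 ≠ 0 := fun e => hw.2 (by linear_combination e - h2)
  refine ⟨w, hsq, hw.1, hw.2, hw10, h2, fun a => ?_⟩
  have hcard : ({0, 1, w, w + 1} : Finset F).card = 4 := by
    rw [Finset.card_insert_of_notMem, Finset.card_insert_of_notMem, Finset.card_insert_of_notMem,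
      Finset.card_singleton]
    · simp
    · simp [Ne.symm hw.2, hw.1]
    · simp [Ne.symm hw.1, Ne.symm hw10]
  have := Finset.eq_univ_of_card _ (hcard.trans hF.symm)
  simpa using (this ▸ Finset.mem_univ a : a ∈ ({0, 1, w, w + 1} : Finset F))

/-- Two commuting involutions give a homomorphism from the additive group of the field of four elements. -/
theorem exists_four_hom {F : Type*} [Field F] [Fintype F] {T : Type*} [Group T] {ω : F} (hw0 : ω ≠ 0) (hw1 : ω ≠ 1)
    (hw10 : ω + 1 ≠ 0) (h2 : (2 : F) = 0) (hcov : ∀ a : F, a = 0 ∨ a = 1 ∨ a = ω ∨ a = ω + 1) (p q : T)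
    (hp : p * p = 1) (hq : q * q = 1) (hpq : p * q = q * p) :
    ∃ f : F → T, (∀ a b, f (a + b) = f a * f b) ∧ f 1 = p ∧ f ω = q := by
  classical
  let f : F → T := fun a => if a = 0 then 1 else if a = 1 then p else if a = ω then q else p * q
  have e0 : f 0 = 1 := if_pos rfl
  have e1 : f 1 = p := by simp [f]
  have e2 : f ω = q := by simp [f, hw0, hw1]
  have e3 : f (ω + 1) = p * q := by simp [f, hw10, hw0]
  have a1 : (1 : F) + 1 = 0 := by linear_combination h2
  have a2 : ω + ω = 0 := by linear_combination ω * h2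
  have a3 : (1 : F) + ω = ω + 1 := add_comm _ _
  have a4 : (1 : F) + (ω + 1) = ω := by linear_combination h2
  have a5 : ω + (ω + 1) = 1 := by linear_combination ω * h2
  have a6 : ω + 1 + 1 = ω := by linear_combination h2
  have a7 : ω + 1 + ω = 1 := by linear_combination ω * h2
  have a8 : ω + 1 + (ω + 1) = 0 := by linear_combination (ω + 1) * h2
  have g1 : ∀ z, p * (p * z) = z := fun z => by rw [← mul_assoc, hp, one_mul]
  have g2 : ∀ z, q * (q * z) = z := fun z => by rw [← mul_assoc, hq, one_mul]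
  have g3 : ∀ z, q * (p * z) = p * (q * z) := fun z => by rw [← mul_assoc, ← hpq, mul_assoc]
  refine ⟨f, fun a b => ?_, e1, e2⟩
  rcases hcov a with rfl | rfl | rfl | rfl <;> rcases hcov b with rfl | rfl | rfl | rfl <;>
    simp [e0, e1, e2, e3, a1, a2, a3, a4, a5, a6, a7, a8, g1, g2, g3, hp, hq, hpq.symm, mul_assoc]

/-- Upper unitriangular matrices in `SL₃`. -/
def upperUni (F : Type*) [Field F] [Fintype F] : Subgroup (Matrix.SpecialLinearGroup (Fin 3) F) where
  carrier := {g | (g : Matrix (Fin 3) (Fin 3) F) 0 0 = 1 ∧ (g : Matrix (Fin 3) (Fin 3) F) 1 1 = 1 ∧ (g : Matrix (Fin 3) (Fin 3) F) 2 2 = 1 ∧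
    (g : Matrix (Fin 3) (Fin 3) F) 1 0 = 0 ∧ (g : Matrix (Fin 3) (Fin 3) F) 2 0 = 0 ∧ (g : Matrix (Fin 3) (Fin 3) F) 2 1 = 0}
  mul_mem' := by
    rintro g h ⟨a1, a2, a3, a4, a5, a6⟩ ⟨b1, b2, b3, b4, b5, b6⟩
    simp [Matrix.SpecialLinearGroup.coe_mul, Matrix.mul_apply, Fin.sum_univ_three, *]
  one_mem' := by simp
  inv_mem' := by
    intro g hg
    have hfin : IsOfFinOrder g := isOfFinOrder_of_finite g
    obtain ⟨k, hk⟩ := hfin.mem_powers_iff_mem_zpowers.2 (inv_mem (Subgroup.mem_zpowers g))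
    rw [← hk]
    clear hk
    induction k with
    | zero => simp
    | succ k ih =>
      obtain ⟨a1, a2, a3, a4, a5, a6⟩ := hg
      obtain ⟨b1, b2, b3, b4, b5, b6⟩ := ih
      simp only [pow_succ, Set.mem_setOf_eq, Matrix.SpecialLinearGroup.coe_mul]
      simp [Matrix.mul_apply, Fin.sum_univ_three, Matrix.SpecialLinearGroup.coe_pow] at *
      simp [*]

/-- The matrix of an element. -/
abbrev mat {F : Type*} [Field F] [Fintype F] (g : ↥(upperUni F)) : Matrix (Fin 3) (Fin 3) F :=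
  ((g : Matrix.SpecialLinearGroup (Fin 3) F) : Matrix (Fin 3) (Fin 3) F)

theorem upper_ext {F : Type*} [Field F] [Fintype F] {g h : ↥(upperUni F)} (e01 : mat g 0 1 = mat h 0 1)
    (e02 : mat g 0 2 = mat h 0 2) (e12 : mat g 1 2 = mat h 1 2) : g = h := by
  obtain ⟨a1, a2, a3, a4, a5, a6⟩ := g.2
  obtain ⟨b1, b2, b3, b4, b5, b6⟩ := h.2
  refine Subtype.ext (Subtype.ext (Matrix.ext fun r s => ?_))
  fin_cases r <;> fin_cases s
  exacts [a1.trans b1.symm, e01, e02, a4.trans b4.symm, a2.trans b2.symm, e12, a5.trans b5.symm, a6.trans b6.symm,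
    a3.trans b3.symm]

/-- Let T be a non-abelian group of order 64 admitting automorphisms ρ of order 3 and x of order 2 with x ρ x⁻¹ = ρ⁻¹ (so they generate a symmetric group of degree 3), where ρ fixes only the identity. Then T is isomorphic to a Sylow 2-subgroup of the projective special linear group of dimension 3 over the field with 4 elements, and the subgroup of fixed points of x is dihedral of order 8 or quaternion of order 8. -/
theorem result {T : Type*} [Group T] [Finite T] (hT : Nat.card T = 64) (hna : ¬ IsMulCommutative T) (ρ x : MulAut T) (hρ : orderOf ρ = 3) (hx : orderOf x = 2)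
    (hxr : x * ρ * x⁻¹ = ρ⁻¹) (hfp : ∀ y : T, ρ y = y → y = 1) (C : Subgroup T) (hC : ∀ y : T, y ∈ C ↔ x y = y) :
    (∃ (F : Type) (_ : Field F) (_ : Fintype F), Fintype.card F = 4 ∧
        ∃ S : Sylow 2 (Matrix.ProjectiveSpecialLinearGroup (Fin 3) F), Nonempty (T ≃* ↥(S : Subgroup (Matrix.ProjectiveSpecialLinearGroup (Fin 3) F)))) ∧
      (Nonempty (↥C ≃* DihedralGroup 4) ∨ Nonempty (↥C ≃* QuaternionGroup 2)) := by
  haveI : Fact (Nat.Prime 2) := ⟨Nat.prime_two⟩
  have hρ3 : ρ ^ 3 = 1 := hρ ▸ pow_orderOf_eq_one ρ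
  have h : Fpf3 ρ := ⟨fun y => by
    rw [show ρ (ρ (ρ y)) = (ρ * ρ * ρ) y from rfl, show ρ * ρ * ρ = ρ ^ 3 by simp [pow_succ], hρ3]; rfl, hfp⟩
  have hx2 : ∀ y, x (x y) = y := fun y => by
    rw [show x (x y) = (x * x) y from rfl, ← pow_two, ← hx, pow_orderOf_eq_one]; rfl
  have hxσ : ∀ y, x (ρ y) = ρ (ρ (x y)) := fun y => by
    have e : x * ρ = ρ⁻¹ * x := by rw [← hxr]; group
    have e' : ρ⁻¹ = ρ * ρ := inv_eq_of_mul_eq_one_right (by rw [← hρ3]; simp [pow_succ, mul_assoc])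
    rw [e'] at e
    exact congrArg (fun f : MulAut T => f y) e
  set Z := Subgroup.center T with hZ
  have hcz : ∀ {z : T}, z ∈ Z → ∀ g, g * z = z * g := fun hz => Subgroup.mem_center_iff.1 hz
  have hσZ : ∀ (e : MulAut T), ∀ n ∈ Z, e n ∈ Z := fun e n hn =>
    Subgroup.mem_center_iff.2 fun g => by
      obtain ⟨g, rfl⟩ := e.surjective g
      rw [← map_mul, ← map_mul, hcz hn g]
  -- the centre has order 4
  let σZ : MulAut ↥Z :=
    { toFun := fun z => ⟨ρ z, hσZ ρ z z.2⟩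
      invFun := fun z => ⟨ρ.symm z, hσZ ρ.symm z z.2⟩
      left_inv := fun z => Subtype.ext (ρ.symm_apply_apply _)
      right_inv := fun z => Subtype.ext (ρ.apply_symm_apply _)
      map_mul' := fun a b => Subtype.ext (map_mul ρ _ _) }
  have hZf : Fpf3 σZ := ⟨fun z => Subtype.ext (h.r3 _), fun z hz => Subtype.ext (hfp _ (congrArg Subtype.val hz))⟩
  have hT2 : IsPGroup 2 T := IsPGroup.of_card (n := 6) (by rw [hT]; rfl)
  have hZne : Z.index ≠ 1 := fun e => hna ⟨⟨fun a b =>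
    hcz (Subgroup.index_eq_one.1 e ▸ Subgroup.mem_top b : b ∈ Z) a⟩⟩
  have hdvd : ∀ {k : ℕ}, k ∣ 64 → k = 1 ∨ k = 2 ∨ k = 4 ∨ k = 8 ∨ k = 16 ∨ k = 32 ∨ k = 64 := by
    intro k hk
    obtain ⟨i, hi, rfl⟩ := (Nat.dvd_prime_pow Nat.prime_two).1 (show k ∣ 2 ^ 6 from hk)
    interval_cases i <;> norm_num
  have hZc : Nat.card Z = 4 ∧ Z.index = 16 := by
    have h1 := Z.card_mul_index
    have h2 := hZf.card_mod
    have h3 := h.center_index_ne_four
    haveI : Nontrivial T := by rw [← Finite.one_lt_card_iff_nontrivial, hT]; norm_num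
    haveI := hT2.center_nontrivial
    have h4 : 1 < Nat.card Z := Finite.one_lt_card
    rw [hT] at h1
    rw [← hZ] at h3
    rcases hdvd (Dvd.intro _ h1) with e | e | e | e | e | e | e <;> rw [e] at h1 h2 h4 <;> omega
  -- the quotient is abelian
  have hmap : Z.map ρ.toMonoidHom = Z := by
    apply le_antisymm
    · rintro _ ⟨z, hz, rfl⟩; exact hσZ ρ z hz
    · exact fun z hz => ⟨ρ.symm z, hσZ ρ.symm z hz, ρ.apply_symm_apply z⟩
  let σQ : MulAut (T ⧸ Z) := QuotientGroup.congr Z Z ρ hmap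
  have hσQ : ∀ y : T, σQ y = ((ρ y : T) : T ⧸ Z) := fun y => rfl
  have hQf : Fpf3 σQ := by
    refine ⟨fun q => ?_, fun q hq => ?_⟩
    · induction q using QuotientGroup.induction_on with
      | _ y => rw [hσQ, hσQ, hσQ, h.r3]
    · induction q using QuotientGroup.induction_on with
      | _ y =>
        rw [hσQ, eq_comm, QuotientGroup.eq] at hq
        exact (QuotientGroup.eq_one_iff y).2 (FpfFour.mem_of_inv_mul_mem ρ h.fpf (hσZ ρ) hq)
  have hQc : Nat.card (T ⧸ Z) = 16 := hZc.2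
  have hQcomm : ∀ a b : T ⧸ Z, a * b = b * a := by
    intro a b
    set Z' := Subgroup.center (T ⧸ Z) with hZ'
    have hQp : IsPGroup 2 (T ⧸ Z) := hT2.to_quotient Z
    let σ' : MulAut ↥Z' :=
      { toFun := fun z => ⟨σQ z, Subgroup.mem_center_iff.2 fun g => by
          obtain ⟨g, rfl⟩ := σQ.surjective g
          rw [← map_mul, ← map_mul, Subgroup.mem_center_iff.1 z.2 g]⟩
        invFun := fun z => ⟨σQ.symm z, Subgroup.mem_center_iff.2 fun g => by
          obtain ⟨g, rfl⟩ := σQ.symm.surjective g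
          rw [← map_mul, ← map_mul, Subgroup.mem_center_iff.1 z.2 g]⟩
        left_inv := fun z => Subtype.ext (σQ.symm_apply_apply _)
        right_inv := fun z => Subtype.ext (σQ.apply_symm_apply _)
        map_mul' := fun a b => Subtype.ext (map_mul σQ _ _) }
    have hf' : Fpf3 σ' := ⟨fun z => Subtype.ext (hQf.r3 _), fun z hz => Subtype.ext (hQf.fpf _ (congrArg Subtype.val hz))⟩
    have h1 := Z'.card_mul_index
    have h2 := hf'.card_mod
    have h3 := hQf.center_index_ne_four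
    haveI : Nontrivial (T ⧸ Z) := by rw [← Finite.one_lt_card_iff_nontrivial, hQc]; norm_num
    haveI := hQp.center_nontrivial
    have h4 : 1 < Nat.card Z' := Finite.one_lt_card
    rw [hQc] at h1
    rw [← hZ'] at h3
    have h5 : Z'.index = 1 := by
      rcases hdvd ((Dvd.intro _ h1).trans (by norm_num)) with e | e | e | e | e | e | e <;> rw [e] at h1 h2 h4 <;>
        omega
    exact (Subgroup.mem_center_iff.1 (Subgroup.index_eq_one.1 h5 ▸ Subgroup.mem_top b : b ∈ Z') a)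
  have hz2 : ∀ z ∈ Z, z * z = 1 := by
    let sq : ↥Z →* ↥Z := MonoidHom.mk' (fun a => a ^ 2) fun a b =>
      (show Commute a b from Subtype.ext (hcz b.2 a)).mul_pow 2
    have hinv : ∀ a : ↥Z, a ∈ sq.range → σZ a ∈ sq.range := by
      rintro _ ⟨b, rfl⟩; exact ⟨σZ b, (map_pow σZ b 2).symm⟩
    let σR : MulAut ↥sq.range :=
      { toFun := fun z => ⟨σZ z, hinv _ z.2⟩
        invFun := fun z => ⟨σZ (σZ z), hinv _ (hinv _ z.2)⟩
        left_inv := fun z => Subtype.ext (hZf.r3 _)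
        right_inv := fun z => Subtype.ext (hZf.r3 _)
        map_mul' := fun a b => Subtype.ext (map_mul σZ _ _) }
    have hRf : Fpf3 σR := ⟨fun z => Subtype.ext (hZf.r3 _), fun z hz => Subtype.ext (hZf.fpf _ (congrArg Subtype.val hz))⟩
    have hR : Nat.card sq.range = 1 := by
      have h1 := Subgroup.card_mul_index sq.ker
      rw [Subgroup.index_ker, hZc.1] at h1
      obtain ⟨e, he⟩ := exists_prime_orderOf_dvd_card' 2 (show 2 ∣ Nat.card ↥Z by rw [hZc.1]; norm_num)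
      have h2 : 2 ∣ Nat.card sq.ker := he ▸ sq.ker.orderOf_dvd_natCard
        (show e ∈ sq.ker by rw [MonoidHom.mem_ker]; show e ^ 2 = 1; rw [← he]; exact pow_orderOf_eq_one e)
      have h3 := hRf.card_mod
      obtain ⟨k, hk⟩ := h2
      have h4 := Nat.card_pos (α := sq.range)
      have : Nat.card sq.range ∣ 2 := ⟨k, by rw [hk, mul_assoc] at h1; linarith [h1, mul_comm k (Nat.card sq.range)]⟩
      rcases (Nat.dvd_prime Nat.prime_two).1 this with e | e <;> omega
    intro z hz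
    have hb := Subgroup.card_eq_one.1 hR
    have : sq ⟨z, hz⟩ = 1 := (Subgroup.mem_bot).1 (hb ▸ ⟨⟨z, hz⟩, rfl⟩ : sq ⟨z, hz⟩ ∈ (⊥ : Subgroup ↥Z))
    rw [← pow_two]
    exact congrArg Subtype.val this
  have hzi : ∀ z ∈ Z, z⁻¹ = z := fun z hz => inv_eq_of_mul_eq_one_right (hz2 z hz)
  -- commutators
  let cm : T → T → T := fun a b => a * b * a⁻¹ * b⁻¹
  have hcm : ∀ a b, cm a b ∈ Z := fun a b => by
    rw [← QuotientGroup.eq_one_iff]
    simp only [cm, QuotientGroup.mk_mul, QuotientGroup.mk_inv]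
    rw [hQcomm ↑a ↑b]; group
  have hsw : ∀ a b, a * b = cm a b * (b * a) := fun a b => by simp only [cm]; group
  have cl : ∀ a b w, cm (a * b) w = cm a w * cm b w := fun a b w => by
    calc cm (a * b) w = a * cm b w * (w * a⁻¹ * w⁻¹) := by simp only [cm]; group
      _ = cm b w * (a * (w * a⁻¹ * w⁻¹)) := by rw [hcz (hcm b w) a]; group
      _ = cm b w * cm a w := by simp only [cm]; group
      _ = cm a w * cm b w := (hcz (hcm b w) _).symm
  have cs : ∀ a b, cm b a = cm a b := fun a b => by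
    rw [← hzi _ (hcm a b)]; simp only [cm]; group
  have cr : ∀ a w w', cm a (w * w') = cm a w * cm a w' := fun a w w' => by
    rw [← cs, cl, cs a w, cs a w']
  have c0 : ∀ a z, z ∈ Z → cm a z = 1 := fun a z hz => by
    simp only [cm]; rw [hcz hz a]; group
  have ci : ∀ a w, cm a w⁻¹ = cm a w := fun a w => by
    have := cr a w w⁻¹
    rw [mul_inv_cancel, c0 a 1 (one_mem _)] at this
    rw [eq_inv_of_mul_eq_one_right this.symm, hzi _ (hcm a w)]
  have cf : ∀ (e : MulAut T) a b, e (cm a b) = cm (e a) (e b) := fun e a b => by simp [cm, map_mul, map_inv]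
  have cy : ∀ y, cm y (ρ y) = 1 := fun y => by simp only [cm]; rw [h.comm y]; group
  have hid : ∀ u v, cm (ρ u) v = cm u (ρ v) := fun u v => by
    have := cy (u * v)
    rw [map_mul, cl, cr, cr, cy, cy, one_mul, mul_one] at this
    rw [cs v (ρ u), eq_inv_of_mul_eq_one_left this, cs (ρ u) v, hzi _ (hcm _ _)]
  have hσ2 : ∀ u, ρ (ρ u) = (u * ρ u)⁻¹ := fun u => eq_inv_of_mul_eq_one_right (h.prod_eq u)
  have hysq : ∀ y, y * y ∈ Z := fun y => Subgroup.mem_center_iff.2 fun g => by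
    have h1 : cm (y * y) g = 1 := by rw [cl, hz2 _ (hcm y g)]
    rw [hsw (y * y) g, h1, one_mul]
  have hQsq : ∀ q : T ⧸ Z, q * q = 1 := fun q => by
    induction q using QuotientGroup.induction_on with
    | _ y => exact (QuotientGroup.eq_one_iff _).2 (hysq y)
  -- fixed points of `x`
  have hfixz : ∀ w, w⁻¹ * x w ∈ Z → x (w⁻¹ * x w) = w⁻¹ * x w := fun w hw => by
    conv_rhs => rw [← hzi _ hw]
    rw [map_mul, map_inv, hx2]; group
  have hlift : ∀ w, w⁻¹ * x w ∈ Z → w * ρ (w⁻¹ * x w) ∈ C := fun w hw => by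
    rw [hC, map_mul, hxσ, hfixz w hw]
    set z := w⁻¹ * x w with hz
    calc x w * ρ (ρ z) = w * z * ρ (ρ z) := by rw [hz, mul_inv_cancel_left]
      _ = w * (z * ρ z * ρ (ρ z)) * (ρ z)⁻¹ := by
        rw [mul_assoc z (ρ z), hcz (hσZ ρ _ (hσZ ρ _ hw)) (ρ z)]; group
      _ = w * ρ z := by rw [h.prod_eq, mul_one, hzi _ (hσZ ρ _ hw)]
  have hdec : ∀ y, ∃ a ∈ C, ∃ b ∈ C, y = a * ρ b := fun y => by
    have hk : (y * x y)⁻¹ * x (y * x y) ∈ Z := by
      rw [← QuotientGroup.eq, map_mul, hx2, QuotientGroup.mk_mul, QuotientGroup.mk_mul, hQcomm]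
    obtain ⟨b, hb⟩ : ∃ b, b = y * x y * ρ ((y * x y)⁻¹ * x (y * x y)) := ⟨_, rfl⟩
    have hbC : b ∈ C := hb ▸ hlift _ hk
    have hbq : (b : T ⧸ Z) = (y : T ⧸ Z) * (x y : T) := by
      rw [hb, QuotientGroup.mk_mul, (QuotientGroup.eq_one_iff _).2 (hσZ ρ _ hk), mul_one, QuotientGroup.mk_mul]
    have ha : (y * ρ b)⁻¹ * x (y * ρ b) ∈ Z := by
      rw [← QuotientGroup.eq, map_mul, hxσ, (hC b).1 hbC, hσ2, QuotientGroup.mk_mul, QuotientGroup.mk_mul,
        QuotientGroup.mk_inv, QuotientGroup.mk_mul, inv_eq_of_mul_eq_one_right (hQsq _), hbq, ← mul_assoc, ← mul_assoc,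
        hQcomm (x y : T) (y : T), mul_assoc (y : T ⧸ Z) (x y : T) (x y : T), hQsq, mul_one]
    set w := y * ρ b with hw
    refine ⟨w * ρ (w⁻¹ * x w), hlift _ ha, b⁻¹ * (w⁻¹ * x w), mul_mem (inv_mem hbC) ?_, ?_⟩
    · rw [hC]; exact hfixz w ha
    · rw [map_mul ρ b⁻¹, map_inv, show w * ρ (w⁻¹ * x w) * ((ρ b)⁻¹ * ρ (w⁻¹ * x w)) =
        w * (ρ (w⁻¹ * x w) * (ρ b)⁻¹) * ρ (w⁻¹ * x w) by group, ← hcz (hσZ ρ _ ha) (ρ b)⁻¹,
        show w * ((ρ b)⁻¹ * ρ (w⁻¹ * x w)) * ρ (w⁻¹ * x w) = y * (ρ (w⁻¹ * x w) * ρ (w⁻¹ * x w)) by rw [hw]; group,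
        hz2 _ (hσZ ρ _ ha), mul_one]
  have hCcard : Nat.card C = 8 := by
    have hb : Function.Bijective (fun p : ↥C × ↥C => (p.1 : T) * ρ p.2) := by
      refine ⟨fun p q hpq => ?_, fun y => ?_⟩
      · have hpq' : (p.1 : T) * ρ p.2 = q.1 * ρ q.2 := hpq
        have h1 : (q.1 : T)⁻¹ * p.1 = ρ ((q.2 : T) * (p.2 : T)⁻¹) := by
          rw [map_mul, map_inv, eq_mul_inv_iff_mul_eq, mul_assoc, hpq', inv_mul_cancel_left]
        have hm : ((q.2 : T) * (p.2 : T)⁻¹) ∈ C := mul_mem q.2.2 (inv_mem p.2.2)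
        have hm' : (q.1 : T)⁻¹ * p.1 ∈ C := mul_mem (inv_mem q.1.2) p.1.2
        rw [h1, hC, hxσ, (hC _).1 hm] at hm'
        have hone : (q.2 : T) * (p.2 : T)⁻¹ = 1 := hfp _ (ρ.injective hm')
        rw [hone, map_one, inv_mul_eq_one] at h1
        exact Prod.ext (Subtype.ext h1.symm) (Subtype.ext (mul_inv_eq_one.1 hone).symm)
      · obtain ⟨a, ha, b, hb, e⟩ := hdec y
        exact ⟨(⟨a, ha⟩, ⟨b, hb⟩), e.symm⟩
    have := Nat.card_congr (Equiv.ofBijective _ hb)
    rw [Nat.card_prod, hT] at this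
    exact Nat.mul_self_inj.1 (this.trans rfl)
  obtain ⟨i, hi, j, hj, hij⟩ : ∃ i ∈ C, ∃ j ∈ C, cm i j ≠ 1 := by
    by_contra hh
    push Not at hh
    apply hna
    have hcross : ∀ w ∈ C, ∀ w' ∈ C, cm w (ρ w') = 1 := fun w hw w' hw' => by
      have h1 : x (cm w (ρ w')) = cm w (ρ w') := by
        rw [cf, (hC w).1 hw, hxσ, (hC w').1 hw', hσ2, ci, cr, hh w hw w' hw', one_mul]
      have h2 : ρ (cm w (ρ w')) = 1 := by
        rw [cf, hid, h.r3, hh w hw w' hw']
      rwa [← map_one ρ, ρ.injective.eq_iff] at h2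
    refine ⟨⟨fun p q => ?_⟩⟩
    obtain ⟨a, ha, b, hb, rfl⟩ := hdec p
    obtain ⟨a', ha', b', hb', rfl⟩ := hdec q
    rw [hsw (a * ρ b) (a' * ρ b'), cl, cr, cr, hh a ha a' ha', hcross a ha b' hb', cs, hcross a' ha' b hb, ← cf,
      hh b hb b' hb', map_one]
    simp
  set c := cm i j with hc
  have hcZ : c ∈ Z := hcm i j
  have hcC : c ∈ C := mul_mem (mul_mem (mul_mem hi hj) (inv_mem hi)) (inv_mem hj)
  have hxc : x c = c := (hC c).1 hcC
  have hρc : ρ c ∉ C := fun hh => by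
    rw [hC, hxσ, hxc] at hh
    exact hij (hfp _ (ρ.injective hh))
  have hρρc : ρ (ρ c) ≠ c ∧ ρ c ≠ c ∧ ρ (ρ c) ≠ ρ c :=
    ⟨fun e => hρc (by rw [← congrArg ρ e, h.r3]; exact hcC), fun e => hρc (by rw [e]; exact hcC),
      fun e => hij (hfp _ (ρ.injective e))⟩
  have hZmem : ∀ z ∈ Z, z = 1 ∨ z = c ∨ z = ρ c ∨ z = ρ (ρ c) := by
    intro z hz
    classical
    by_contra hne
    push Not at hne
    have hone : ∀ g : T, ρ g = 1 → g = 1 := fun g hg => ρ.injective (hg.trans (map_one ρ).symm)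
    have hsub : ({1, c, ρ c, ρ (ρ c), z} : Finset T) ⊆ (Z : Set T).toFinite.toFinset := by
      intro w hw
      simp only [Finset.mem_insert, Finset.mem_singleton] at hw
      rw [Set.Finite.mem_toFinset]
      rcases hw with rfl | rfl | rfl | rfl | rfl
      exacts [one_mem _, hcZ, hσZ ρ _ hcZ, hσZ ρ _ (hσZ ρ _ hcZ), hz]
    have hle := Finset.card_le_card hsub
    rw [show (Z : Set T).toFinite.toFinset.card = 4 by rw [← Nat.card_eq_card_finite_toFinset]; exact hZc.1,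
      Finset.card_insert_of_notMem, Finset.card_insert_of_notMem, Finset.card_insert_of_notMem,
      Finset.card_insert_of_notMem, Finset.card_singleton] at hle
    · omega
    all_goals simp only [Finset.mem_insert, Finset.mem_singleton, not_or]
    · exact Ne.symm hne.2.2.2
    · exact ⟨Ne.symm hρρc.2.2, Ne.symm hne.2.2.1⟩
    · exact ⟨Ne.symm hρρc.2.1, Ne.symm hρρc.1, Ne.symm hne.2.1⟩
    · exact ⟨Ne.symm hij, fun e => hij (hone _ e.symm), fun e => hij (hone _ (hone _ e.symm)), Ne.symm hne.1⟩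
  have hCZ : ∀ z ∈ Z, z ∈ C → z = 1 ∨ z = c := by
    intro z hz hzC
    rcases hZmem z hz with e | e | e | e
    · exact Or.inl e
    · exact Or.inr e
    · exact absurd (e ▸ hzC) hρc
    · exfalso
      rw [e, hC, hxσ, hxσ, hxc, h.r3] at hzC
      exact hρρc.2.2 hzC.symm
  have hsqC : ∀ w ∈ C, w * w = 1 ∨ w * w = c := fun w hw => hCZ _ (hysq w) (mul_mem hw hw)
  have hprod : ∀ a b, (a * b) * (a * b) = cm b a * (a * a) * (b * b) := fun a b => by
    calc (a * b) * (a * b) = a * (b * a) * b := by group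
      _ = a * cm b a * a * b * b := by rw [hsw b a]; group
      _ = _ := by rw [hcz (hcm b a) a]; group
  -- `C` is dihedral or quaternion, and there are two non-commuting involutions
  have hCuv : (Nonempty (↥C ≃* DihedralGroup 4) ∨ Nonempty (↥C ≃* QuaternionGroup 2)) ∧
      ∃ u v : T, u * u = 1 ∧ v * v = 1 ∧ cm u v = c := by
    have hD : ∀ u ∈ C, ∀ v ∈ C, u * u = 1 → v * v = 1 → cm u v = c →
        (Nonempty (↥C ≃* DihedralGroup 4) ∨ Nonempty (↥C ≃* QuaternionGroup 2)) ∧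
          ∃ u v : T, u * u = 1 ∧ v * v = 1 ∧ cm u v = c := by
      intro u hu v hv hu2 hv2 huv
      refine ⟨Or.inl ?_, u, v, hu2, hv2, huv⟩
      have hr2 : (u * v) * (u * v) = c := by rw [hprod, hu2, hv2, cs, huv, mul_one, mul_one]
      refine Lib.Classical.nonempty_dihedralGroup_mulEquiv 4 (⟨u * v, mul_mem hu hv⟩ : ↥C) ⟨v, hv⟩ ?_ (Subtype.ext hv2)
        (Subtype.ext ?_) ?_ (by rw [hCcard])
      · rw [Subgroup.orderOf_mk]
        refine orderOf_eq_prime_pow (p := 2) (n := 1) (fun e => ?_) ?_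
        · rw [pow_one, pow_two, hr2] at e; exact hij e
        · rw [show 2 ^ (1 + 1) = 2 * 2 by rfl, pow_mul, pow_two (u * v), hr2, pow_two]
          exact hz2 c hcZ
      · show v * (u * v) * v = (u * v)⁻¹
        rw [mul_inv_rev, inv_eq_of_mul_eq_one_right hu2, inv_eq_of_mul_eq_one_right hv2, mul_assoc, mul_assoc, hv2,
          mul_one]
      · intro hmem
        obtain ⟨k, hk⟩ := hmem
        have hk' : (u * v) ^ k = v := congrArg Subtype.val hk
        have hcomm : Commute (u * v) v := by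
          have h0 : Commute (u * v) ((u * v) ^ k) := (Commute.refl _).zpow_right k
          rwa [hk'] at h0
        apply hij
        rw [← huv]
        have h1 := hcomm.eq
        rw [mul_assoc, hv2, mul_one] at h1
        show u * v * u⁻¹ * v⁻¹ = 1
        rw [inv_eq_of_mul_eq_one_right hu2, inv_eq_of_mul_eq_one_right hv2]
        calc u * v * u * v = u * (v * (u * v)) := by group
          _ = 1 := by rw [← h1, hu2]
    have hcii : cm i i = 1 := by simp [cm]
    have hcjj : cm j j = 1 := by simp [cm]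
    rcases hsqC i hi with hi2 | hi2 <;> rcases hsqC j hj with hj2 | hj2
    · exact hD i hi j hj hi2 hj2 rfl
    · exact hD i hi (i * j) (mul_mem hi hj) hi2 (by rw [hprod, hi2, hj2, mul_one, cs, hz2 c hcZ])
        (by rw [cr, hcii, one_mul])
    · exact hD (i * j) (mul_mem hi hj) j hj (by rw [hprod, hi2, hj2, mul_one, cs, hz2 c hcZ]) hj2
        (by rw [cl, hcjj, mul_one])
    · refine ⟨Or.inr ?_, ρ i * j, ρ (ρ i) * j, ?_, ?_, ?_⟩
      · have hji : j * i * j⁻¹ = i⁻¹ := by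
          rw [show j * i * j⁻¹ = cm j i * i by simp only [cm]; group, cs, ← hc, ← hi2,
            eq_inv_iff_mul_eq_one, mul_assoc, hi2, hz2 c hcZ]
        have ho : orderOf (⟨i, hi⟩ : ↥C) = 2 * 2 := by
          rw [Subgroup.orderOf_mk]
          refine orderOf_eq_prime_pow (p := 2) (n := 1) (fun e => ?_) ?_
          · rw [pow_one, pow_two, hi2] at e; exact hij e
          · rw [show 2 ^ (1 + 1) = 2 * 2 by rfl, pow_mul, pow_two i, hi2, pow_two]
            exact hz2 c hcZ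
        have hnot : (⟨j, hj⟩ : ↥C) ∉ Subgroup.zpowers (⟨i, hi⟩ : ↥C) := by
          rintro ⟨k, hk⟩
          have hk' : i ^ k = j := congrArg Subtype.val hk
          have := ((Commute.refl i).zpow_right k).eq
          rw [hk'] at this
          apply hij
          rw [hc]; simp only [cm]; rw [this]; group
        have hidx : (Subgroup.zpowers (⟨i, hi⟩ : ↥C)).index = 2 := by
          have := Subgroup.card_mul_index (Subgroup.zpowers (⟨i, hi⟩ : ↥C))
          rw [Nat.card_zpowers, ho, hCcard] at this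
          omega
        obtain ⟨e⟩ := Lib.TwoGroup.nonempty_mulEquiv_quaternion (m := 2) (a := (⟨i, hi⟩ : ↥C)) (b := ⟨j, hj⟩) ho
          (Subtype.ext (show j * j = i ^ 2 by rw [hj2, pow_two, hi2])) (Subtype.ext hji) hnot ⊤ trivial trivial
          (fun g _ => by
            by_cases hg : g ∈ Subgroup.zpowers (⟨i, hi⟩ : ↥C)
            · exact Or.inl hg
            · exact Or.inr ((Subgroup.mul_mem_iff_of_index_two hidx).2 ⟨fun a => absurd a hnot, fun a => absurd a hg⟩))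
        exact ⟨Subgroup.topEquiv.symm.trans e⟩
      all_goals
        have e1 : cm (ρ i) j = ρ (ρ c) := by
          have hself : cm (ρ i) (ρ j) = ρ c := (cf ρ i j).symm
          have h2 : cm (ρ i) (ρ j) = c * cm (ρ i) j := by
            rw [← hid, hσ2, cs, ci, cr, cs i j, cs (ρ i) j, ← hc]
          rw [hσ2, hzi _ (mul_mem hcZ (hσZ ρ _ hcZ)), ← hself, h2, ← mul_assoc, hz2 c hcZ, one_mul]
        have e2 : cm (ρ (ρ i)) j = ρ c := by
          rw [hσ2 i, cs, ci, cr, cs i j, cs (ρ i) j, ← hc, e1, hσ2, hzi _ (mul_mem hcZ (hσZ ρ _ hcZ)), ← mul_assoc,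
            hz2 c hcZ, one_mul]
        have hp3 : c * ρ c * ρ (ρ c) = 1 := h.prod_eq c
        have hac : ∀ a ∈ Z, ∀ b ∈ Z, a * b = b * a := fun a _ b hb => hcz hb a
      · rw [hprod, cs, e1, show ρ i * ρ i = ρ c by rw [← map_mul, hi2], hj2, hcz hcZ,
          hac _ (hσZ ρ _ (hσZ ρ _ hcZ)) _ (hσZ ρ _ hcZ), ← mul_assoc]
        exact hp3
      · rw [hprod, cs, e2, show ρ (ρ i) * ρ (ρ i) = ρ (ρ c) by rw [← map_mul, ← map_mul, hi2], hj2, hcz hcZ,
          ← mul_assoc]
        exact hp3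
      · rw [cl, cr, cr, cy, hcjj, one_mul, mul_one, e1, cs, e2]
        calc ρ (ρ c) * ρ c = c * c * (ρ c * ρ (ρ c)) := by
              rw [hz2 c hcZ, one_mul, hac _ (hσZ ρ _ hcZ) _ (hσZ ρ _ (hσZ ρ _ hcZ))]
          _ = c * (c * ρ c * ρ (ρ c)) := by group
          _ = c := by rw [hp3, mul_one]
  obtain ⟨hCiso, u, v, hu2, hv2, huv⟩ := hCuv
  refine ⟨?_, hCiso⟩
  haveI : Fintype (GaloisField 2 2) := Fintype.ofFinite _
  set F := GaloisField 2 2
  have hF : Fintype.card F = 4 := by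
    rw [← Nat.card_eq_fintype_card, GaloisField.card 2 2 (by norm_num)]; rfl
  refine ⟨F, inferInstance, inferInstance, hF, ?_⟩
  obtain ⟨ω, hww, hw0, hw1, hw10, h2F, hcov⟩ := four_cases hF
  obtain ⟨ι, ιa, ι1, ιω⟩ := exists_four_hom hw0 hw1 hw10 h2F hcov u (ρ u) hu2
    (by rw [← map_mul, hu2, map_one]) (h.comm u)
  obtain ⟨κ, κa, κ1, κω⟩ := exists_four_hom hw0 hw1 hw10 h2F hcov v (ρ v) hv2
    (by rw [← map_mul, hv2, map_one]) (h.comm v)
  have hc'Z : ρ (ρ c) ∈ Z := hσZ ρ _ (hσZ ρ _ hcZ)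
  obtain ⟨ζ, ζa, ζ1, ζω⟩ := exists_four_hom hw0 hw1 hw10 h2F hcov c (ρ (ρ c)) (hz2 _ hcZ) (hz2 _ hc'Z) (hcz hc'Z c)
  have zero_of : ∀ f : F → T, (∀ a b, f (a + b) = f a * f b) → f 0 = 1 := fun f hf => by
    have := hf 0 0; rw [add_zero] at this; exact left_eq_mul.1 this
  have ι0 := zero_of ι ιa
  have κ0 := zero_of κ κa
  have ζ0 := zero_of ζ ζa
  have ζZ : ∀ a, ζ a ∈ Z := fun a => by
    rcases hcov a with rfl | rfl | rfl | rfl
    · rw [ζ0]; exact one_mem _
    · rw [ζ1]; exact hcZ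
    · rw [ζω]; exact hc'Z
    · rw [ζa, ζω, ζ1]; exact mul_mem hc'Z hcZ
  have huv' : cm (ρ u) (ρ v) = ρ c := by rw [← cf, huv]
  have hu'v : cm (ρ u) v = ρ (ρ c) := by
    have h2 : cm (ρ u) (ρ v) = c * cm (ρ u) v := by
      rw [← hid, hσ2, cs, ci, cr, cs u v, cs (ρ u) v, huv]
    rw [hσ2, hzi _ (mul_mem hcZ (hσZ ρ _ hcZ)), ← huv', h2, ← mul_assoc, hz2 c hcZ, one_mul]
  have huv2 : cm u (ρ v) = ρ (ρ c) := by rw [← hid]; exact hu'v
  have hρc' : ρ c = ζ (ω + 1) := by
    rw [ζa, ζω, ζ1, ← hcz hc'Z c, hσ2, hzi _ (mul_mem hcZ (hσZ ρ _ hcZ)), ← mul_assoc, hz2 c hcZ, one_mul]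
  have hpair : ∀ a b, cm (ι a) (κ b) = ζ (a * b) := by
    have hb : ∀ a, (a = 1 ∨ a = ω) → ∀ b, cm (ι a) (κ b) = ζ (a * b) := by
      have hbb : ∀ a, (a = 1 ∨ a = ω) → ∀ b, (b = 1 ∨ b = ω) → cm (ι a) (κ b) = ζ (a * b) := by
        rintro a (rfl | rfl) b (rfl | rfl)
        · rw [ι1, κ1, mul_one, ζ1, huv]
        · rw [ι1, κω, one_mul, ζω, huv2]
        · rw [ιω, κ1, mul_one, ζω, hu'v]
        · rw [ιω, κω, hww, huv', hρc']
      intro a ha b
      rcases hcov b with rfl | rfl | rfl | rfl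
      · rw [κ0, mul_zero, ζ0, c0 _ 1 (one_mem _)]
      · exact hbb a ha 1 (Or.inl rfl)
      · exact hbb a ha _ (Or.inr rfl)
      · rw [κa, cr, hbb a ha _ (Or.inr rfl), hbb a ha 1 (Or.inl rfl), ← ζa, mul_add]
    intro a b
    rcases hcov a with rfl | rfl | rfl | rfl
    · rw [ι0, zero_mul, ζ0, cs, c0 _ 1 (one_mem _)]
    · exact hb 1 (Or.inl rfl) b
    · exact hb _ (Or.inr rfl) b
    · rw [ιa, cl, hb _ (Or.inr rfl) b, hb 1 (Or.inl rfl) b, ← ζa, add_mul]
  let φ : ↥(upperUni F) →* T := MonoidHom.mk' (fun g => κ (mat g 1 2) * ι (mat g 0 1) * ζ (mat g 0 2)) fun g g' => by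
    obtain ⟨a1, a2, a3, a4, a5, a6⟩ := g.2
    obtain ⟨b1, b2, b3, b4, b5, b6⟩ := g'.2
    have e12 : mat (g * g') 1 2 = mat g 1 2 + mat g' 1 2 := by
      simp [mat, Matrix.mul_apply, Fin.sum_univ_three, *]; try ring
    have e01 : mat (g * g') 0 1 = mat g 0 1 + mat g' 0 1 := by
      simp [mat, Matrix.mul_apply, Fin.sum_univ_three, *]; try ring
    have e02 : mat (g * g') 0 2 = mat g 0 1 * mat g' 1 2 + (mat g 0 2 + mat g' 0 2) := by
      simp [mat, Matrix.mul_apply, Fin.sum_univ_three, *]; try ring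
    show κ (mat (g * g') 1 2) * ι (mat (g * g') 0 1) * ζ (mat (g * g') 0 2) = _
    rw [e12, e01, e02, κa, ιa, ζa, ζa, ← hpair]
    symm
    calc κ (mat g 1 2) * ι (mat g 0 1) * ζ (mat g 0 2) * (κ (mat g' 1 2) * ι (mat g' 0 1) * ζ (mat g' 0 2))
        = κ (mat g 1 2) * (ι (mat g 0 1) * ζ (mat g 0 2) * κ (mat g' 1 2)) * ι (mat g' 0 1) * ζ (mat g' 0 2) := by
          group
      _ = κ (mat g 1 2) * (ι (mat g 0 1) * κ (mat g' 1 2)) * (ζ (mat g 0 2) * ι (mat g' 0 1)) * ζ (mat g' 0 2) := by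
          rw [mul_assoc (ι _) (ζ _) (κ _), ← hcz (ζZ _) (κ _)]; group
      _ = κ (mat g 1 2) * (cm (ι (mat g 0 1)) (κ (mat g' 1 2)) * (κ (mat g' 1 2) * ι (mat g 0 1))) *
            (ι (mat g' 0 1) * ζ (mat g 0 2)) * ζ (mat g' 0 2) := by
          rw [← hsw, hcz (ζZ _) (ι _)]
      _ = κ (mat g 1 2) * (κ (mat g' 1 2) * ι (mat g 0 1) * ι (mat g' 0 1) * cm (ι (mat g 0 1)) (κ (mat g' 1 2))) *
            ζ (mat g 0 2) * ζ (mat g' 0 2) := by
          rw [hcz (hcm _ _) (κ (mat g' 1 2) * ι (mat g 0 1) * ι (mat g' 0 1))]; group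
      _ = _ := by group
  have hφ : Function.Injective φ := by
    refine (injective_iff_map_eq_one φ).2 fun g hg => ?_
    obtain ⟨a1, a2, a3, a4, a5, a6⟩ := g.2
    have hg' : κ (mat g 1 2) * ι (mat g 0 1) * ζ (mat g 0 2) = 1 := hg
    have ζinj : ∀ a, ζ a = 1 → a = 0 := fun a ha => by
      rcases hcov a with rfl | rfl | rfl | rfl
      · rfl
      · exact absurd (ζ1 ▸ ha) hij
      · rw [ζω] at ha; exact absurd (ρ.injective (ha.trans (map_one ρ).symm)) (fun e => hij (ρ.injective (e.trans (map_one ρ).symm)))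
      · rw [← hρc'] at ha; exact absurd (ρ.injective (ha.trans (map_one ρ).symm)) hij
    have hs1 : ∀ a, cm (ι 1) (ι a) = 1 := fun a => by
      simp only [cm]; rw [← ιa, add_comm, ιa]; group
    have hs2 : ∀ a, cm (κ a) (κ 1) = 1 := fun a => by
      simp only [cm]; rw [← κa, add_comm, κa]; group
    have ha0 : mat g 0 1 = 0 := by
      have h1 : cm (κ (mat g 1 2) * ι (mat g 0 1) * ζ (mat g 0 2)) (κ 1) = cm 1 (κ 1) := by rw [hg']
      rw [cl, cl, hs2, one_mul, hpair, mul_one, cs _ (ζ _), c0 _ _ (ζZ _), mul_one, cs _ 1, c0 _ 1 (one_mem _)] at h1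
      exact ζinj _ h1
    have hb0 : mat g 1 2 = 0 := by
      have h1 : cm (ι 1) (κ (mat g 1 2) * ι (mat g 0 1) * ζ (mat g 0 2)) = cm (ι 1) 1 := by rw [hg']
      rw [cr, cr, hs1, mul_one, hpair, one_mul, c0 _ _ (ζZ _), mul_one, c0 _ 1 (one_mem _)] at h1
      exact ζinj _ h1
    have hc0 : mat g 0 2 = 0 := by
      rw [ha0, hb0, κ0, ι0, one_mul, one_mul] at hg'
      exact ζinj _ hg'
    exact upper_ext (ha0.trans (by simp [mat])) (hc0.trans (by simp [mat])) (hb0.trans (by simp [mat]))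
  have hUcard : Nat.card (upperUni F) = 64 := by
    let e : ↥(upperUni F) ≃ F × F × F :=
      { toFun := fun g => (mat g 0 1, mat g 0 2, mat g 1 2)
        invFun := fun p => ⟨⟨!![1, p.1, p.2.1; 0, 1, p.2.2; 0, 0, 1], by simp [Matrix.det_fin_three]⟩, by
          show _ ∧ _; simp⟩
        left_inv := fun g => upper_ext rfl rfl rfl
        right_inv := fun p => rfl }
    rw [Nat.card_congr e, Nat.card_prod, Nat.card_prod, Nat.card_eq_fintype_card, hF]
  have eU : ↥(upperUni F) ≃* T :=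
    MulEquiv.ofBijective φ ((Nat.bijective_iff_injective_and_card φ).2 ⟨hφ, by rw [hUcard, hT]⟩)
  let π := QuotientGroup.mk' (Subgroup.center (Matrix.SpecialLinearGroup (Fin 3) F))
  have hπ : Function.Injective (π.comp (upperUni F).subtype) := by
    refine (injective_iff_map_eq_one _).2 fun g hg => ?_
    obtain ⟨r, -, hr⟩ := Matrix.SpecialLinearGroup.mem_center_iff.1 ((QuotientGroup.eq_one_iff (g : Matrix.SpecialLinearGroup (Fin 3) F)).1 hg)
    have hr00 := congrFun (congrFun hr 0) 0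
    simp [g.2.1] at hr00
    refine Subtype.ext (Subtype.ext ?_)
    rw [← hr, hr00]
    simp
  have hPcard : Nat.card (π.comp (upperUni F).subtype).range = 64 :=
    (Nat.card_congr (MonoidHom.ofInjective hπ).toEquiv).symm.trans hUcard
  have hG : Nat.card (Matrix.ProjectiveSpecialLinearGroup (Fin 3) F) = 20160 := by
    have := Lib.LinGroup.card_PSL_mul (F := F) 3 (by norm_num)
    rw [hF, Fin.prod_univ_three] at this
    norm_num at this
    omega
  refine ⟨Sylow.ofCard (π.comp (upperUni F).subtype).range ?_, ⟨eU.symm.trans (MonoidHom.ofInjective hπ)⟩⟩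
  rw [hPcard, hG, show (20160 : ℕ) = 2 ^ 6 * 315 by norm_num, Nat.factorization_mul (by norm_num) (by norm_num),
    Finsupp.add_apply, Nat.Prime.factorization_pow Nat.prime_two, Finsupp.single_eq_same,
    Nat.factorization_eq_zero_of_not_dvd (by norm_num : ¬ 2 ∣ 315)]
  rfl

end Cfsg.Agent.S3157
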