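import Cfsg.Statements.S3156
import Mathlib
import Cfsg.Agent.S3157
import Cfsg.Agent.Lib.Unitary3.SylowTwo
import Cfsg.Agent.Lib.Classical.UnitaryCentre

set_option autoImplicit false
open Cfsg

namespace Cfsg.Agent.S3156

open Cfsg.Agent.Lib

/-- A permutation of order dividing 3 fixes as many points modulo 3 as there are. -/
theorem card_fixed_mod {α : Type*} [Finite α] (e : Equiv.Perm α) (he : ∀ a, e (e (e a)) = a) :
    Nat.card α % 3 = Nat.card {a : α // e a = a} % 3 := by
  classical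
  haveI : Fact (Nat.Prime 3) := ⟨Nat.prime_three⟩
  have hp : IsPGroup 3 (Subgroup.zpowers e) := by
    rintro ⟨τ, hτ⟩
    obtain ⟨i, rfl⟩ := Subgroup.mem_zpowers_iff.mp hτ
    refine ⟨1, Subtype.ext ?_⟩
    have h3 : e ^ 3 = 1 := Equiv.ext fun a => by simp [pow_succ, he a]
    rw [Subgroup.coe_pow, Subgroup.coe_one, pow_one, ← zpow_natCast, ← zpow_mul, mul_comm, zpow_mul, zpow_natCast, h3,
      one_zpow]
  refine (hp.card_modEq_card_fixedPoints α).trans ?_
  refine congrArg (· % 3) (Nat.card_congr (Equiv.subtypeEquivRight fun a => ⟨fun h => h ⟨e, Subgroup.mem_zpowers e⟩, ?_⟩))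
  rintro (h : e a = a) ⟨τ, hτ⟩
  obtain ⟨i, rfl⟩ := Subgroup.mem_zpowers_iff.mp hτ
  exact Equiv.Perm.zpow_apply_eq_self_of_apply_eq_self h i

/-- A group of type `Syl₂(U₃(4))`, seen from its squaring map, admits no fixed-point-free automorphism
of order three inverted by an involution and no other automorphism of order three. -/
theorem no_sym_three {T : Type*} [Group T] [Finite T] (hT : Nat.card T = 64)
    (hZ : Nat.card (Subgroup.center T) = 4) (hsq : ∀ y : T, y ^ 2 = 1 ↔ y ∈ Subgroup.center T)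
    (hsqc : ∀ y : T, y ^ 2 ∈ Subgroup.center T)
    (hroots : ∀ z ∈ Subgroup.center T, z ≠ 1 → Nat.card {y : T // y ^ 2 = z} = 20)
    (ρ x : MulAut T) (hρ : orderOf ρ = 3) (hx : orderOf x = 2) (hxr : x * ρ * x⁻¹ = ρ⁻¹) : False := by
  haveI : Fact (Nat.Prime 2) := ⟨Nat.prime_two⟩
  classical
  have hρ3 : ρ ^ 3 = 1 := hρ ▸ pow_orderOf_eq_one ρ
  have hr : ∀ y, ρ (ρ (ρ y)) = y := fun y => by
    rw [show ρ (ρ (ρ y)) = (ρ * ρ * ρ) y from rfl, show ρ * ρ * ρ = ρ ^ 3 by simp [pow_succ], hρ3]; rfl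
  let Cρ : Subgroup T :=
    { carrier := {y | ρ y = y}
      mul_mem' := fun {a b} ha hb => by
        show ρ (a * b) = a * b
        rw [map_mul, ha, hb]
      one_mem' := map_one ρ
      inv_mem' := fun {a} ha => by
        show ρ a⁻¹ = a⁻¹
        rw [map_inv, ha] }
  have hmem : ∀ y, y ∈ Cρ ↔ ρ y = y := fun y => Iff.rfl
  have hσZ : ∀ n ∈ Subgroup.center T, ρ n ∈ Subgroup.center T := fun n hn =>
    Subgroup.mem_center_iff.2 fun g => by
      obtain ⟨g, rfl⟩ := ρ.surjective g
      rw [← map_mul, ← map_mul, Subgroup.mem_center_iff.1 hn g]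
  by_cases hall : Subgroup.center T ≤ Cρ
  · -- `ρ` trivial on the centre
    have hroot : ∀ z : ↥(Subgroup.center T), z ≠ 1 → 8 ≤ Nat.card {y : ↥Cρ // (y : T) ^ 2 = z} := by
      intro z hz
      let eR : Equiv.Perm {y : T // y ^ 2 = z} := ρ.toEquiv.subtypeEquiv fun y => by
        show y ^ 2 = (z : T) ↔ ρ y ^ 2 = z
        rw [← map_pow]
        conv_rhs => rw [← (hmem z).1 (hall z.2)]
        exact ρ.injective.eq_iff.symm
      have h1 := card_fixed_mod eR (fun a => Subtype.ext (hr a))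
      rw [hroots z z.2 (fun e => hz (Subtype.ext e))] at h1
      have h2 : Nat.card {a : {y : T // y ^ 2 = z} // eR a = a} = Nat.card {y : ↥Cρ // (y : T) ^ 2 = z} :=
        Nat.card_congr
          { toFun := fun a => ⟨⟨a.1.1, congrArg Subtype.val a.2⟩, a.1.2⟩
            invFun := fun y => ⟨⟨y.1.1, y.2⟩, Subtype.ext y.1.2⟩
            left_inv := fun a => rfl
            right_inv := fun y => rfl }
      rw [h2] at h1
      -- the roots form cosets of the centre
      let Z' := (Subgroup.center T).subgroupOf Cρ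
      let S : Set ↥Cρ := {y : ↥Cρ | (y : T) ^ 2 = z}
      have hS : (QuotientGroup.mk (s := Z')) ⁻¹' ((QuotientGroup.mk (s := Z')) '' S) = S := by
        refine Set.Subset.antisymm ?_ (Set.subset_preimage_image _ _)
        rintro y ⟨w, hw, hwy⟩
        have hc' : w⁻¹ * y ∈ Z' := QuotientGroup.eq.1 hwy
        have hc : (w : T)⁻¹ * (y : T) ∈ Subgroup.center T := hc'
        show (y : T) ^ 2 = z
        have e : (y : T) = w * ((w : T)⁻¹ * y) := by group
        rw [e, (show Commute (w : T) ((w : T)⁻¹ * y) from Subgroup.mem_center_iff.1 hc w).mul_pow, (hsq _).2 hc, mul_one]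
        exact hw
      have h4 : 4 ∣ Nat.card {y : ↥Cρ // (y : T) ^ 2 = z} := by
        have hc4 : Nat.card Z' = 4 := by
          rw [Nat.card_congr (Subgroup.subgroupOfEquivOfLe hall).toEquiv, hZ]
        refine ⟨Nat.card ↥((QuotientGroup.mk (s := Z')) '' S), ?_⟩
        rw [← hc4, ← Nat.card_prod, ← Nat.card_congr (QuotientGroup.preimageMkEquivSubgroupProdSet Z' _), hS]
        rfl
      omega
    let f : ↥Cρ → ↥(Subgroup.center T) := fun y => ⟨(y : T) ^ 2, hsqc y⟩
    haveI : Fintype ↥(Subgroup.center T) := Fintype.ofFinite _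
    have hsum : Nat.card ↥Cρ = ∑ z : ↥(Subgroup.center T), Nat.card {y : ↥Cρ // f y = z} := by
      rw [← Nat.card_sigma, Nat.card_congr (Equiv.sigmaFiberEquiv f)]
    have hbig : ∑ z : ↥(Subgroup.center T), (if z = 1 then 0 else 8) ≤ Nat.card ↥Cρ := by
      rw [hsum]
      refine Finset.sum_le_sum fun z _ => ?_
      split
      · exact Nat.zero_le _
      · rename_i hz
        refine (hroot z hz).trans (le_of_eq ?_)
        exact Nat.card_congr (Equiv.subtypeEquivRight fun y => (Subtype.ext_iff (a1 := f y) (a2 := z)).symm)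
    have hc4' : (Finset.univ : Finset ↥(Subgroup.center T)).card = 4 := by
      rw [Finset.card_univ, ← Nat.card_eq_fintype_card, hZ]
    rw [Finset.sum_ite, Finset.sum_const_zero, zero_add, Finset.sum_const, Finset.filter_ne', Finset.card_erase_of_mem (Finset.mem_univ _),
      hc4'] at hbig
    norm_num at hbig
    have hmod := card_fixed_mod (α := T) ρ.toEquiv hr
    rw [hT, show Nat.card {a : T // ρ.toEquiv a = a} = Nat.card ↥Cρ from rfl] at hmod
    obtain ⟨i, hi, he⟩ := (Nat.dvd_prime_pow Nat.prime_two).1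
      (show Nat.card ↥Cρ ∣ 2 ^ 6 from (show 2 ^ 6 = Nat.card T by rw [hT]; rfl) ▸ Cρ.card_subgroup_dvd_card)
    have htop : Nat.card ↥Cρ = 64 := by
      rw [he] at hbig hmod ⊢
      interval_cases i <;> omega
    have : ρ = 1 := MulEquiv.ext fun y =>
      (hmem y).1 ((Subgroup.eq_top_of_card_eq Cρ (htop.trans hT.symm)) ▸ Subgroup.mem_top y)
    rw [this, orderOf_one] at hρ
    exact absurd hρ (by norm_num)
  · -- `ρ` fixed-point-free
    have hfpf : ∀ y, ρ y = y → y = 1 := by
      let eZ : Equiv.Perm ↥(Subgroup.center T) :=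
        { toFun := fun z => ⟨ρ z, hσZ z z.2⟩
          invFun := fun z => ⟨ρ (ρ z), hσZ _ (hσZ z z.2)⟩
          left_inv := fun z => Subtype.ext (hr z)
          right_inv := fun z => Subtype.ext (hr z) }
      have h1 := card_fixed_mod eZ (fun z => Subtype.ext (hr z))
      have h2 : Nat.card {a : ↥(Subgroup.center T) // eZ a = a} = Nat.card ↥(Cρ ⊓ Subgroup.center T) :=
        Nat.card_congr
          { toFun := fun a => ⟨a.1.1, congrArg Subtype.val a.2, a.1.2⟩
            invFun := fun y => ⟨⟨y.1, y.2.2⟩, Subtype.ext y.2.1⟩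
            left_inv := fun a => rfl
            right_inv := fun y => rfl }
      rw [h2, hZ] at h1
      have h3 : Nat.card ↥(Cρ ⊓ Subgroup.center T) ∣ 4 := hZ ▸ Subgroup.card_dvd_of_le inf_le_right
      have h5 : Nat.card ↥(Cρ ⊓ Subgroup.center T) ≠ 4 := fun e => hall (by
        have := Subgroup.eq_of_le_of_card_ge (inf_le_right : Cρ ⊓ Subgroup.center T ≤ _) (by rw [e, hZ])
        exact this ▸ inf_le_left)
      obtain ⟨i, hi, he⟩ := (Nat.dvd_prime_pow Nat.prime_two).1 (show _ ∣ 2 ^ 2 from h3)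
      have hbot : Cρ ⊓ Subgroup.center T = ⊥ := Subgroup.card_eq_one.1 (by
        rw [he] at h1 h5 ⊢
        interval_cases i <;> omega)
      intro y hy
      have hy2 : y ^ 2 = 1 := (Subgroup.mem_bot).1 (hbot ▸ ⟨pow_mem ((hmem y).2 hy) 2, hsqc y⟩ :
        y ^ 2 ∈ (⊥ : Subgroup T))
      exact (Subgroup.mem_bot).1 (hbot ▸ ⟨(hmem y).2 hy, (hsq y).1 hy2⟩ : y ∈ (⊥ : Subgroup T))
    have hna : ¬ IsMulCommutative T := fun hc => by
      have : Subgroup.center T = ⊤ := (Subgroup.eq_top_iff' _).2 fun a =>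
        Subgroup.mem_center_iff.2 fun b => hc.is_comm.comm b a
      rw [this, Subgroup.card_top, hT] at hZ
      omega
    let C : Subgroup T :=
      { carrier := {y | x y = y}
        mul_mem' := fun {a b} ha hb => by
          show x (a * b) = a * b
          rw [map_mul, ha, hb]
        one_mem' := map_one x
        inv_mem' := fun {a} ha => by
          show x a⁻¹ = a⁻¹
          rw [map_inv, ha] }
    obtain ⟨⟨F, hf, hft, hF, S, ⟨e⟩⟩, -⟩ := S3157.result hT hna ρ x hρ hx hxr hfpf C (fun y => Iff.rfl)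
    -- two non-commuting involutions in the unitriangular group
    let π : Matrix.SpecialLinearGroup (Fin 3) F →* Matrix.ProjectiveSpecialLinearGroup (Fin 3) F :=
      QuotientGroup.mk' (Subgroup.center (Matrix.SpecialLinearGroup (Fin 3) F))
    let U := (S3157.upperUni F).map π
    haveI : CharP F 2 := charP_of_card_eq_prime_pow (f := 2) (by rw [hF]; rfl)
    have h11 : (1 : F) + 1 = 0 := CharTwo.add_self_eq_zero _
    let A : Matrix.SpecialLinearGroup (Fin 3) F := ⟨!![1, 1, 0; 0, 1, 0; 0, 0, 1], by simp [Matrix.det_fin_three]⟩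
    let B : Matrix.SpecialLinearGroup (Fin 3) F := ⟨!![1, 0, 0; 0, 1, 1; 0, 0, 1], by simp [Matrix.det_fin_three]⟩
    have hA : A ∈ S3157.upperUni F := by show _ ∧ _; simp [A]
    have hB : B ∈ S3157.upperUni F := by show _ ∧ _; simp [B]
    have hA2 : A * A = 1 := by
      apply Subtype.ext
      show (!![1, 1, 0; 0, 1, 0; 0, 0, 1] : Matrix (Fin 3) (Fin 3) F) * !![1, 1, 0; 0, 1, 0; 0, 0, 1] = 1
      ext i j
      fin_cases i <;> fin_cases j <;> simp [Matrix.mul_apply, Fin.sum_univ_three, h11]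
    have hUp : IsPGroup 2 ↥U := by
      refine IsPGroup.map ?_ π
      let m : ↥(S3157.upperUni F) → F × F × F := fun g => (S3157.mat g 0 1, S3157.mat g 0 2, S3157.mat g 1 2)
      have hm : Function.Bijective m := by
        refine ⟨fun g g' h => ?_, fun p => ?_⟩
        · simp only [m, Prod.mk.injEq] at h
          exact S3157.upper_ext h.1 h.2.1 h.2.2
        · exact ⟨⟨⟨!![1, p.1, p.2.1; 0, 1, p.2.2; 0, 0, 1], by simp [Matrix.det_fin_three]⟩, by show _ ∧ _; simp⟩, rfl⟩
      refine IsPGroup.of_card (n := 6) ?_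
      rw [Nat.card_congr (Equiv.ofBijective m hm), Nat.card_prod, Nat.card_prod, Nat.card_eq_fintype_card, hF]
      rfl
    obtain ⟨R, hR⟩ := hUp.exists_le_sylow
    have e' : T ≃* ↥(R : Subgroup (Matrix.ProjectiveSpecialLinearGroup (Fin 3) F)) := e.trans (S.equiv R)
    let a := e'.symm ⟨π A, hR ⟨A, hA, rfl⟩⟩
    have ha : a ∈ Subgroup.center T := (hsq a).1 (by
      rw [← map_pow]
      have : (⟨π A, hR ⟨A, hA, rfl⟩⟩ : ↥(R : Subgroup (Matrix.ProjectiveSpecialLinearGroup (Fin 3) F))) ^ 2 = 1 :=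
        Subtype.ext (by show π A ^ 2 = 1; rw [← map_pow, pow_two, hA2, map_one])
      rw [this, map_one])
    have hcomm := congrArg e' (Subgroup.mem_center_iff.1 ha (e'.symm ⟨π B, hR ⟨B, hB, rfl⟩⟩))
    simp only [a, map_mul, MulEquiv.apply_symm_apply] at hcomm
    have h' : π (A * B) = π (B * A) := by
      rw [map_mul, map_mul]; exact (congrArg Subtype.val hcomm).symm
    obtain ⟨r, -, hr'⟩ := Matrix.SpecialLinearGroup.mem_center_iff.1 (QuotientGroup.eq.1 h')
    have hAB : ((A * B : Matrix.SpecialLinearGroup (Fin 3) F) : Matrix (Fin 3) (Fin 3) F) * Matrix.scalar (Fin 3) r =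
        ((B * A : Matrix.SpecialLinearGroup (Fin 3) F) : Matrix (Fin 3) (Fin 3) F) := by
      rw [hr', ← Matrix.SpecialLinearGroup.coe_mul, mul_inv_cancel_left]
    have e00 := congrFun (congrFun hAB 0) 0
    have e02 := congrFun (congrFun hAB 0) 2
    have hprod : ∀ i j, ((!![1, 1, 0; 0, 1, 0; 0, 0, 1] : Matrix (Fin 3) (Fin 3) F) *
        !![1, 0, 0; 0, 1, 1; 0, 0, 1] * Matrix.scalar (Fin 3) r : Matrix (Fin 3) (Fin 3) F) i j =
      ((!![1, 0, 0; 0, 1, 1; 0, 0, 1] : Matrix (Fin 3) (Fin 3) F) * !![1, 1, 0; 0, 1, 0; 0, 0, 1] : Matrix (Fin 3) (Fin 3) F) i j :=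
      fun i j => congrFun (congrFun hAB i) j
    have e00 := hprod 0 0
    have e02 := hprod 0 2
    simp [Matrix.mul_apply, Fin.sum_univ_three] at e00 e02
    rw [e00] at e02
    exact one_ne_zero e02

/-- If a finite group T is isomorphic to a Sylow 2-subgroup of the projective special unitary group of dimension 3 with parameter 4 (realised over the field with 16 elements), then no subgroup of the automorphism group of T is isomorphic to the symmetric group of degree 3. -/
theorem result {T : Type*} [Group T] [Finite T] (hT : (∃ (F : Type) (_ : Field F) (_ : Fintype F), Fintype.card F = 16 ∧ ∃ S : Sylow 2 (Cfsg.PSU 3 F 4), Nonempty (T ≃* ↥(S : Subgroup (Cfsg.PSU 3 F 4))))) (H : Subgroup (MulAut T)) : ¬ Nonempty (↥H ≃* Equiv.Perm (Fin 3)) := by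
  rintro ⟨e⟩
  obtain ⟨F, hf, hft, hF, S, ⟨eT⟩⟩ := hT
  haveI : Fact (Nat.Prime 2) := ⟨Nat.prime_two⟩
  haveI : CharP F 2 := charP_of_card_eq_prime_pow (f := 4) (by rw [hF]; rfl)
  have hF' : Fintype.card F = (2 ^ 2) ^ 2 := by rw [hF]; rfl
  have hF4 : Fintype.card F = 4 ^ 2 := by rw [hF]; rfl
  -- `SU₃(4) = PSU₃(4)`
  have hZ : Subgroup.center ↥(Cfsg.SU 3 F 4) = ⊥ :=
    Subgroup.eq_bot_of_card_eq _ (by rw [Classical.natCard_center_SU hF4 3 (by norm_num)]; rfl)
  let eP : ↥(Cfsg.SU 3 F 4) ≃* Cfsg.PSU 3 F 4 :=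
    ((QuotientGroup.quotientMulEquivOfEq hZ).trans QuotientGroup.quotientBot).symm
  have hSp : IsPGroup 2 ↥((S : Subgroup (Cfsg.PSU 3 F 4)).map eP.symm.toMonoidHom) := S.2.map _
  have hcardS : Nat.card ↥(S : Subgroup (Cfsg.PSU 3 F 4)) = 2 ^ (Nat.card ↥(Cfsg.SU 3 F 4)).factorization 2 := by
    rw [Nat.card_congr eP.toEquiv, S.card_eq_multiplicity]
  let P : Sylow 2 ↥(Cfsg.SU 3 F (2 ^ 2)) := Sylow.ofCard ((S : Subgroup (Cfsg.PSU 3 F 4)).map eP.symm.toMonoidHom) (by
    rw [Subgroup.card_map_of_injective eP.symm.injective]; exact hcardS)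
  obtain ⟨eU⟩ := Unitary3.nonempty_sylow_equiv_unip (n := 2) (by norm_num) hF' P
  have eM : T ≃* ↥(Unitary3.unip (F := F) hF') :=
    eT.trans (((S : Subgroup (Cfsg.PSU 3 F 4)).equivMapOfInjective eP.symm.toMonoidHom eP.symm.injective).trans eU)
  have hq : 2 ≤ 2 ^ 2 := by norm_num
  have hcz : ∀ y, y ∈ Subgroup.center T ↔ eM y ∈ Subgroup.center ↥(Unitary3.unip (F := F) hF') := by
    intro y
    rw [Subgroup.mem_center_iff, Subgroup.mem_center_iff]
    refine ⟨fun h g => ?_, fun h g => eM.injective (by rw [map_mul, map_mul]; exact h _)⟩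
    obtain ⟨g, rfl⟩ := eM.surjective g
    rw [← map_mul, ← map_mul, h g]
  have hcardT : Nat.card T = 64 := by rw [Nat.card_congr eM.toEquiv, Unitary3.natCard_unip]; rfl
  have hcardZ : Nat.card (Subgroup.center T) = 4 := by
    rw [Nat.card_congr (Subgroup.centerCongr eM).toEquiv, Unitary3.natCard_center_unip hF' hq]; rfl
  have hsq : ∀ y : T, y ^ 2 = 1 ↔ y ∈ Subgroup.center T := fun y => by
    rw [hcz, ← Unitary3.sq_eq_one_iff_unip hF' hq, ← map_pow, map_eq_one_iff eM eM.injective]
  have hsqc : ∀ y : T, y ^ 2 ∈ Subgroup.center T := fun y => by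
    rw [hcz, map_pow]; exact Unitary3.sq_mem_center_unip hF' hq _
  -- each non-trivial central element has 20 square roots
  have hroots : ∀ z ∈ Subgroup.center T, z ≠ 1 → Nat.card {y : T // y ^ 2 = z} = 20 := by
    intro z hz hz1
    classical
    let f : T → ↥(Subgroup.center T) := fun y => ⟨y ^ 2, hsqc y⟩
    have hfib : ∀ w : ↥(Subgroup.center T), Nat.card {y : T // f y = w} = Nat.card {y : T // y ^ 2 = (w : T)} :=
      fun w => Nat.card_congr (Equiv.subtypeEquivRight fun y => Subtype.ext_iff)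
    have htr : ∀ w : T, Nat.card {y : T // y ^ 2 = w} =
        Nat.card {y : ↥(Unitary3.unip (F := F) hF') // y ^ 2 = eM w} :=
      fun w => Nat.card_congr (eM.toEquiv.subtypeEquiv fun y => by
        show y ^ 2 = w ↔ eM y ^ 2 = eM w
        rw [← map_pow, eM.injective.eq_iff])
    have heq : ∀ w : ↥(Subgroup.center T), w ≠ 1 → Nat.card {y : T // f y = w} = Nat.card {y : T // y ^ 2 = z} := by
      intro w hw
      rw [hfib, htr, htr z]
      exact Unitary3.natCard_roots_eq hF' hq _ _ ((hcz w).1 w.2)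
        (fun h => hw (Subtype.ext ((map_eq_one_iff eM eM.injective).1 h))) ((hcz z).1 hz)
        (fun h => hz1 ((map_eq_one_iff eM eM.injective).1 h))
    haveI : Fintype ↥(Subgroup.center T) := Fintype.ofFinite _
    have hsum : Nat.card T = ∑ w : ↥(Subgroup.center T), Nat.card {y : T // f y = w} := by
      rw [← Nat.card_sigma, Nat.card_congr (Equiv.sigmaFiberEquiv f)]
    have h1 : Nat.card {y : T // f y = 1} = 4 := by
      rw [hfib, Subgroup.coe_one, Nat.card_congr (Equiv.subtypeEquivRight fun y => hsq y), ← hcardZ]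
    rw [hcardT, ← Finset.add_sum_erase _ _ (Finset.mem_univ (1 : ↥(Subgroup.center T))), h1,
      Finset.sum_congr rfl (fun w hw => heq w (Finset.ne_of_mem_erase hw)), Finset.sum_const,
      Finset.card_erase_of_mem (Finset.mem_univ _), Finset.card_univ, ← Nat.card_eq_fintype_card, hcardZ] at hsum
    norm_num at hsum
    omega
  -- the two generators of `S₃`
  let p : Equiv.Perm (Fin 3) := Equiv.swap 0 1 * Equiv.swap 1 2
  let s : Equiv.Perm (Fin 3) := Equiv.swap 0 1
  have hinj : Function.Injective (H.subtype.comp e.symm.toMonoidHom) := H.subtype_injective.comp e.symm.injective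
  refine no_sym_three hcardT hcardZ hsq hsqc hroots (H.subtype.comp e.symm.toMonoidHom p)
    (H.subtype.comp e.symm.toMonoidHom s) ?_ ?_ ?_
  · rw [orderOf_injective _ hinj]; exact orderOf_eq_prime (by decide) (by decide)
  · rw [orderOf_injective _ hinj]; exact orderOf_eq_prime (by decide) (by decide)
  · rw [← map_inv, ← map_inv, ← map_mul, ← map_mul]
    exact congrArg _ (by decide)

end Cfsg.Agent.S3156
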