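import Cfsg.Statements.S3161
import Mathlib
import Cfsg.Agent.S3157
import Cfsg.Agent.Lib.LinGroup.SylowCard
import Cfsg.Agent.Lib.Unitary3.SuzukiTwo
import Cfsg.Agent.Lib.H59.TwoAut.Square
import Cfsg.Agent.Lib.H59.TwoAut.Quad
-- import your own Cfsg.Agent.* helpers here

set_option autoImplicit false
open Cfsg

namespace Cfsg.Agent.S3161

open Cfsg.Agent.Lib Cfsg.Agent.Lib.H59.TwoAut
open Cfsg.Agent.S3157 (upperUni mat upper_ext)

/-- The three free entries determine an element of `upperUni`. -/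
noncomputable def upperEquiv (F : Type*) [Field F] [Fintype F] : ↥(upperUni F) ≃ F × F × F where
  toFun g := (mat g 0 1, mat g 0 2, mat g 1 2)
  invFun p := ⟨⟨!![1, p.1, p.2.1; 0, 1, p.2.2; 0, 0, 1], by simp [Matrix.det_fin_three]⟩, by
    show _ ∧ _; simp⟩
  left_inv g := upper_ext rfl rfl rfl
  right_inv p := rfl

theorem upper_mul {F : Type*} [Field F] [Fintype F] (g g' : ↥(upperUni F)) :
    mat (g * g') 0 1 = mat g 0 1 + mat g' 0 1 ∧ mat (g * g') 1 2 = mat g 1 2 + mat g' 1 2 ∧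
      mat (g * g') 0 2 = mat g 0 1 * mat g' 1 2 + (mat g 0 2 + mat g' 0 2) := by
  obtain ⟨a1, a2, a3, a4, a5, a6⟩ := g.2
  obtain ⟨b1, b2, b3, b4, b5, b6⟩ := g'.2
  refine ⟨?_, ?_, ?_⟩ <;> simp [mat, Matrix.mul_apply, Fin.sum_univ_three, *] <;> ring

theorem upper_sylow {F : Type*} [Field F] [Fintype F] [CharP F 2] {n : ℕ}
    (hF : Fintype.card F = 2 ^ n) :
    ∃ S : Sylow 2 (Matrix.ProjectiveSpecialLinearGroup (Fin 3) F),
      Nonempty (↥(upperUni F) ≃* ↥(S : Subgroup (Matrix.ProjectiveSpecialLinearGroup (Fin 3) F))) := by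
  have : Fact (Nat.Prime 2) := ⟨Nat.prime_two⟩
  let π := QuotientGroup.mk' (Subgroup.center (Matrix.SpecialLinearGroup (Fin 3) F))
  have hπ : Function.Injective (π.comp (upperUni F).subtype) := by
    refine (injective_iff_map_eq_one _).2 fun g hg => ?_
    obtain ⟨r, -, hr⟩ := Matrix.SpecialLinearGroup.mem_center_iff.1
      ((QuotientGroup.eq_one_iff (g : Matrix.SpecialLinearGroup (Fin 3) F)).1 hg)
    have hr00 := congrFun (congrFun hr 0) 0
    simp [g.2.1] at hr00
    refine Subtype.ext (Subtype.ext ?_)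
    rw [← hr, hr00]
    simp
  set R := (π.comp (upperUni F).subtype).range with hR
  have hRc : Nat.card ↥R = 2 ^ (3 * n) := by
    rw [← Nat.card_congr (MonoidHom.ofInjective hπ).toEquiv, Nat.card_congr (upperEquiv F),
      Nat.card_prod, Nat.card_prod, Nat.card_eq_fintype_card, hF]
    ring
  obtain ⟨S, hS⟩ := (IsPGroup.of_card (p := 2) hRc).exists_le_sylow
  obtain ⟨P, hP⟩ := Sylow.mapSurjective_surjective (QuotientGroup.mk'_surjective
    (Subgroup.center (Matrix.SpecialLinearGroup (Fin 3) F))) 2 S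
  have hSc : Nat.card ↥(S : Subgroup (Matrix.ProjectiveSpecialLinearGroup (Fin 3) F)) ≤ Nat.card ↥R := by
    rw [hRc, ← hP, Sylow.coe_mapSurjective]
    refine (Nat.le_of_dvd Nat.card_pos (Subgroup.card_map_dvd _ _)).trans ?_
    rw [LinGroup.card_sylow_SL 2 3 P, hF, ← pow_mul]
    exact le_of_eq (by ring_nf)
  refine ⟨S, ⟨(MonoidHom.ofInjective hπ).trans (MulEquiv.subgroupCongr ?_)⟩⟩
  exact Subgroup.eq_of_le_of_card_ge hS hSc

theorem equiv_upper {Q : Type*} [Group Q] [Finite Q] {F : Type} [Field F] [Fintype F] [CharP F 2]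
    {n : ℕ} (hF : Fintype.card F = 2 ^ n) (hQ : Nat.card Q = (2 ^ n) ^ 3) {L t : F}
    (ht : t * t + t = L) (ψ : Q →* Multiplicative (F × F)) (χ : Q → F)
    (hs : Function.Surjective ψ) (hc : ∀ a ∈ ψ.ker, ∀ g, g * a = a * g)
    (hadd : ∀ a ∈ ψ.ker, ∀ b ∈ ψ.ker, χ (a * b) = χ a + χ b)
    (hinj : ∀ a ∈ ψ.ker, χ a = 0 → a = 1) (hsqk : ∀ x, x * x ∈ ψ.ker)
    (hq : ∀ x, χ (x * x) = L * (ψ x).toAdd.1 ^ 2 + (ψ x).toAdd.1 * (ψ x).toAdd.2 + (ψ x).toAdd.2 ^ 2) :
    Nonempty (Q ≃* ↥(upperUni F)) := by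
  have h2 : ∀ x : F, x + x = 0 := CharTwo.add_self_eq_zero
  let T : Multiplicative (F × F) →* Multiplicative (F × F) :=
    MonoidHom.mk' (fun v => Multiplicative.ofAdd (v.toAdd.2 + t * v.toAdd.1, v.toAdd.2 + (t + 1) * v.toAdd.1))
      fun u v => by
        rw [← ofAdd_add]
        refine congrArg _ (Prod.ext ?_ ?_) <;> simp <;> ring
  have hTs : Function.Surjective T := fun v => by
    refine ⟨Multiplicative.ofAdd (v.toAdd.1 + v.toAdd.2, v.toAdd.1 + t * (v.toAdd.1 + v.toAdd.2)), ?_⟩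
    apply Multiplicative.toAdd.injective
    refine Prod.ext ?_ ?_
    · show v.toAdd.1 + t * (v.toAdd.1 + v.toAdd.2) + t * (v.toAdd.1 + v.toAdd.2) = v.toAdd.1
      linear_combination h2 (t * (v.toAdd.1 + v.toAdd.2))
    · show v.toAdd.1 + t * (v.toAdd.1 + v.toAdd.2) + (t + 1) * (v.toAdd.1 + v.toAdd.2) = v.toAdd.2
      linear_combination h2 (t * (v.toAdd.1 + v.toAdd.2)) + h2 v.toAdd.1
  have hTk : ∀ v, T v = 1 → v = 1 := fun v hv =>
    (Finite.injective_iff_surjective.2 hTs) (hv.trans (map_one T).symm)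
  set p := T.comp ψ with hp
  have hpk : p.ker = ψ.ker := by
    ext x
    rw [MonoidHom.mem_ker, MonoidHom.mem_ker, hp, MonoidHom.comp_apply]
    exact ⟨fun h => hTk _ h, fun h => by rw [h, map_one]⟩
  let p' : ↥(upperUni F) →* Multiplicative (F × F) :=
    MonoidHom.mk' (fun g => Multiplicative.ofAdd (mat g 0 1, mat g 1 2)) fun g g' => by
      rw [← ofAdd_add, (upper_mul g g').1, (upper_mul g g').2.1]; rfl
  have hp's : Function.Surjective p' := fun v =>
    ⟨(upperEquiv F).symm (v.toAdd.1, 0, v.toAdd.2), rfl⟩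
  have hp'k : ∀ g, g ∈ p'.ker ↔ mat g 0 1 = 0 ∧ mat g 1 2 = 0 := fun g => by
    rw [MonoidHom.mem_ker]
    exact ⟨fun h => ⟨congrArg (fun w => (Multiplicative.toAdd w).1) h,
      congrArg (fun w => (Multiplicative.toAdd w).2) h⟩,
      fun h => congrArg Multiplicative.ofAdd (Prod.ext h.1 h.2)⟩
  have hmem : ∀ a, (upperEquiv F).symm (0, χ a, 0) ∈ p'.ker := fun a => (hp'k _).2 ⟨rfl, rfl⟩
  let χh : ↥p.ker →* ↥p'.ker := MonoidHom.mk' (fun a => ⟨_, hmem a⟩) fun a b => by
    refine Subtype.ext (upper_ext ?_ ?_ ?_)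
    · exact ((upper_mul _ _).1.trans (add_zero (0 : F))).symm
    · refine Eq.trans ?_ (upper_mul _ _).2.2.symm
      show χ ((a : Q) * b) = 0 * 0 + (χ a + χ b)
      rw [hadd _ (hpk ▸ a.2) _ (hpk ▸ b.2)]; ring
    · exact ((upper_mul _ _).2.1.trans (add_zero (0 : F))).symm
  have hχi : Function.Injective χh := by
    refine (injective_iff_map_eq_one χh).2 fun a ha => Subtype.ext (hinj _ (hpk ▸ a.2) ?_)
    exact congrArg (fun g : ↥p'.ker => mat (g : ↥(upperUni F)) 0 2) ha
  have hps : Function.Surjective p := hTs.comp hs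
  have hcard : Nat.card ↥p.ker = Nat.card ↥p'.ker := by
    have h1 := p.ker.card_mul_index
    have h2' := p'.ker.card_mul_index
    rw [Subgroup.index_ker, MonoidHom.range_eq_top.2 hps, Subgroup.card_top, hQ] at h1
    rw [Subgroup.index_ker, MonoidHom.range_eq_top.2 hp's, Subgroup.card_top,
      Nat.card_congr (upperEquiv F), Nat.card_prod, Nat.card_prod, Nat.card_eq_fintype_card (α := F), hF] at h2'
    exact Nat.eq_of_mul_eq_mul_right Nat.card_pos (h1.trans ((by ring : (2 ^ n) ^ 3 = 2 ^ n * (2 ^ n * 2 ^ n)).trans h2'.symm))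
  refine nonempty_mulEquiv_of_sq p p' hps hp's (fun a ha => hc a (hpk ▸ ha)) (fun a ha g => ?_)
    (fun a ha => ?_)
    (MulEquiv.ofBijective χh ((Nat.bijective_iff_injective_and_card χh).2 ⟨hχi, hcard⟩))
    fun g h hgh => ?_
  · obtain ⟨a1, a2⟩ := (hp'k a).1 ha
    refine upper_ext ?_ ?_ ?_
    · rw [(upper_mul _ _).1, (upper_mul _ _).1, add_comm]
    · rw [(upper_mul _ _).2.2, (upper_mul _ _).2.2, a1, a2]; ring
    · rw [(upper_mul _ _).2.1, (upper_mul _ _).2.1, add_comm]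
  · obtain ⟨a1, a2⟩ := (hp'k a).1 ha
    refine upper_ext ?_ ?_ ?_
    · rw [(upper_mul _ _).1, h2]; rfl
    · rw [(upper_mul _ _).2.2, a1, zero_mul, zero_add, h2]; rfl
    · rw [(upper_mul _ _).2.1, h2]; rfl
  · refine ⟨hpk ▸ hsqk g, upper_ext ?_ ?_ ?_⟩
    · rw [(upper_mul h h).1, h2]; rfl
    · rw [(upper_mul h h).2.2, h2, add_zero]
      show χ (g * g) = _
      have e1 : mat h 0 1 = (ψ g).toAdd.2 + t * (ψ g).toAdd.1 :=
        (congrArg (fun w => (Multiplicative.toAdd w).1) hgh).symm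
      have e2 : mat h 1 2 = (ψ g).toAdd.2 + (t + 1) * (ψ g).toAdd.1 :=
        (congrArg (fun w => (Multiplicative.toAdd w).2) hgh).symm
      rw [hq, e1, e2, ← ht]
      linear_combination -h2 ((ψ g).toAdd.1 * (ψ g).toAdd.2 * t)
    · rw [(upper_mul h h).2.1, h2]; rfl

open Polynomial in
theorem equiv_unip {Q : Type*} [Group Q] [Finite Q] {F : Type} [Field F] [Fintype F] [CharP F 2]
    {n : ℕ} (hn : n ≠ 0) (hF : Fintype.card F = 2 ^ n) (hQ : Nat.card Q = (2 ^ n) ^ 3) {L : F}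
    (hL : ∀ t : F, t * t + t ≠ L) (ψ : Q →* Multiplicative (F × F)) (χ : Q → F)
    (hs : Function.Surjective ψ) (hc : ∀ a ∈ ψ.ker, ∀ g, g * a = a * g)
    (hadd : ∀ a ∈ ψ.ker, ∀ b ∈ ψ.ker, χ (a * b) = χ a + χ b)
    (hinj : ∀ a ∈ ψ.ker, χ a = 0 → a = 1) (hsqk : ∀ x, x * x ∈ ψ.ker)
    (hq : ∀ x, χ (x * x) = L * (ψ x).toAdd.1 ^ 2 + (ψ x).toAdd.1 * (ψ x).toAdd.2 + (ψ x).toAdd.2 ^ 2) :
    ∃ (E : Type) (_ : Field E) (_ : Fintype E) (_ : CharP E 2) (hE : Fintype.card E = (2 ^ n) ^ 2),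
      Nonempty (Q ≃* ↥(Unitary3.unip (F := E) hE)) := by
  classical
  set f : F[X] := X ^ 2 + X + C L with hf
  have hfd : f.natDegree = 2 := by rw [hf]; compute_degree!
  have hfm : f.Monic := by rw [hf]; monicity!
  have hroots : ∀ t, ¬ f.IsRoot t := fun t ht => by
    simp only [hf, IsRoot.def, eval_add, eval_pow, eval_X, eval_C] at ht
    exact hL t (by rw [← pow_two]; exact CharTwo.add_eq_zero.1 ht)
  have hirr : Irreducible f := by
    refine (hfm.irreducible_iff_roots_eq_zero_of_degree_le_three (by omega) (by omega)).2 ?_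
    refine Multiset.eq_zero_of_forall_notMem fun t ht => hroots t ?_
    exact (Polynomial.mem_roots hfm.ne_zero).1 ht
  have : Fact (Irreducible f) := ⟨hirr⟩
  let E := AdjoinRoot f
  let pb := AdjoinRoot.powerBasis' hfm
  have : Module.Finite F E := pb.finite
  have : Finite E := Module.finite_of_finite F
  letI : Fintype E := Fintype.ofFinite E
  have : CharP E 2 := charP_of_injective_algebraMap (algebraMap F E).injective 2
  have hE : Fintype.card E = (2 ^ n) ^ 2 := by
    rw [← Nat.card_eq_fintype_card, Module.natCard_eq_pow_finrank (K := F), pb.finrank,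
      AdjoinRoot.powerBasis'_dim, hfd, Nat.card_eq_fintype_card, hF]
  have h2 : ∀ x : E, x + x = 0 := CharTwo.add_self_eq_zero
  set q := 2 ^ n with hqdef
  set ι := algebraMap F E
  have hιq : ∀ x : F, ι x ^ q = ι x := fun x => by
    rw [← map_pow, show q = Fintype.card F from hF.symm, FiniteField.pow_card]
  set ω : E := AdjoinRoot.root f
  have hω : ω ^ 2 + ω + ι L = 0 := by
    have h := AdjoinRoot.eval₂_root f
    simp only [hf, eval₂_add, eval₂_pow, eval₂_X, eval₂_C] at h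
    exact h
  have hfixed : ∀ x : E, x ^ q = x → ∃ y, ι y = x := by
    intro x hx
    have hK := Unitary3.natCard_kernel (F := E) (q := q) hE
    let g : F → {x : E // x ^ q = x} := fun y => ⟨ι y, hιq y⟩
    have hg : Function.Bijective g := (Nat.bijective_iff_injective_and_card g).2
      ⟨fun a b h => ι.injective (congrArg Subtype.val h), by
        rw [hK, Nat.card_eq_fintype_card, hF]⟩
    obtain ⟨y, hy⟩ := hg.2 ⟨x, hx⟩
    exact ⟨y, congrArg Subtype.val hy⟩
  have hωq : ω ^ q = ω + 1 := by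
    have hne : ω ^ q ≠ ω := fun h => by
      obtain ⟨y, hy⟩ := hfixed ω h
      refine hroots y (ι.injective ?_)
      rw [map_zero]
      simp only [hf, eval_add, eval_pow, eval_X, eval_C, map_add, map_pow, hy]
      exact hω
    have hroot : (ω ^ q) ^ 2 + ω ^ q + ι L = 0 := by
      have h := congrArg (fun z => z ^ q) hω
      simp only [Classical.qpow_add hE, hιq, zero_pow (Unitary3.q_ne hE), ← pow_mul, mul_comm 2 q] at h
      rw [← pow_mul]
      exact h
    have hprod : (ω ^ q - ω) * (ω ^ q - (ω + 1)) = 0 := by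
      linear_combination hroot - hω - h2 (ω * ω ^ q) + h2 (ω ^ 2) + h2 (ω) - h2 (ω ^ q)
    exact sub_eq_zero.1 ((mul_eq_zero.1 hprod).resolve_left (sub_ne_zero.2 hne))
  let T : Multiplicative (F × F) →* Multiplicative E :=
    MonoidHom.mk' (fun v => Multiplicative.ofAdd (ι v.toAdd.2 + ω * ι v.toAdd.1)) fun u v => by
      rw [← ofAdd_add]
      refine congrArg _ ?_
      simp only [toAdd_mul, Prod.fst_add, Prod.snd_add, map_add]
      ring
  have hTk : ∀ v, T v = 1 → v = 1 := by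
    intro v hv
    have h : ι v.toAdd.2 + ω * ι v.toAdd.1 = 0 := congrArg Multiplicative.toAdd hv
    have h' := congrArg (fun z => z ^ q) h
    simp only [Classical.qpow_add hE, mul_pow, hιq, hωq, zero_pow (Unitary3.q_ne hE)] at h'
    have h1 : ι v.toAdd.1 = 0 := by linear_combination h' - h
    rw [h1, mul_zero, add_zero] at h
    exact Multiplicative.toAdd.injective
      (Prod.ext ((map_eq_zero_iff ι ι.injective).1 h1) ((map_eq_zero_iff ι ι.injective).1 h))
  have hTs : Function.Surjective T :=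
    ((Nat.bijective_iff_injective_and_card T).2 ⟨(injective_iff_map_eq_one T).2 hTk, by
      rw [Nat.card_congr Multiplicative.toAdd, Nat.card_congr Multiplicative.toAdd, Nat.card_prod,
        Nat.card_eq_fintype_card, Nat.card_eq_fintype_card, hF, hE, pow_two]⟩).2
  set p := T.comp ψ with hp
  have hpk : p.ker = ψ.ker := by
    ext x
    rw [MonoidHom.mem_ker, MonoidHom.mem_ker, hp, MonoidHom.comp_apply]
    exact ⟨fun h => hTk _ h, fun h => by rw [h, map_one]⟩
  let U := Unitary3.unip (F := E) hE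
  let p' : ↥U →* Multiplicative E :=
    MonoidHom.mk' (fun x => Multiplicative.ofAdd ((Unitary3.unipEquiv hE).symm x).1.1) fun x y => by
      obtain ⟨a, rfl⟩ := Unitary3.uPt_surj hE x
      obtain ⟨b, rfl⟩ := Unitary3.uPt_surj hE y
      rw [Unitary3.uPt_mul]
      show Multiplicative.ofAdd ((Unitary3.unipEquiv hE).symm (Unitary3.unipEquiv hE _)).1.1 = _ *
        Multiplicative.ofAdd ((Unitary3.unipEquiv hE).symm (Unitary3.unipEquiv hE b)).1.1
      rw [show Unitary3.uPt hE a = Unitary3.unipEquiv hE a from rfl]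
      simp only [Equiv.symm_apply_apply]
      rfl
  have hp' : ∀ a, p' (Unitary3.uPt hE a) = Multiplicative.ofAdd a.1.1 := fun a => by
    show Multiplicative.ofAdd ((Unitary3.unipEquiv hE).symm (Unitary3.unipEquiv hE a)).1.1 = _
    rw [Equiv.symm_apply_apply]
  have hp'k : ∀ a, Unitary3.uPt hE a ∈ p'.ker ↔ a.1.1 = 0 := fun a => by
    rw [MonoidHom.mem_ker, hp']
    exact ⟨fun h => congrArg Multiplicative.toAdd h, fun h => congrArg Multiplicative.ofAdd h⟩
  have hp's : Function.Surjective p' := fun v => by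
    obtain ⟨⟨b, hb⟩⟩ := (Nat.card_pos_iff.mp
      (show 0 < Nat.card {b : E // Unitary3.uCond q (v.toAdd, b)} by
        rw [Unitary3.natCard_fibre hE]; exact Nat.two_pow_pos n)).1
    exact ⟨Unitary3.uPt hE ⟨(v.toAdd, b), hb⟩, hp' _⟩
  have hcond : ∀ x : F, Unitary3.uCond q ((0 : E), ι x) := fun x => by
    simp [Unitary3.uCond, hιq, h2]
  let χh : ↥p.ker →* ↥p'.ker := MonoidHom.mk'
    (fun a => ⟨Unitary3.uPt hE ⟨(0, ι (χ a)), hcond _⟩, (hp'k _).2 rfl⟩) fun a b => by
      refine Subtype.ext ?_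
      refine Eq.trans ?_ (Unitary3.uPt_mul hE _ _).symm
      refine congrArg (Unitary3.uPt hE) (Subtype.ext (Prod.ext (add_zero (0 : E)).symm ?_))
      show ι (χ ((a : Q) * b)) = ι (χ a) + ι (χ b) + (0 : E) ^ q * 0
      rw [hadd _ (hpk ▸ a.2) _ (hpk ▸ b.2), map_add, mul_zero, add_zero]
  have hχi : Function.Injective χh := by
    refine (injective_iff_map_eq_one χh).2 fun a ha => Subtype.ext (hinj _ (hpk ▸ a.2) ?_)
    have h1 := (Unitary3.uPt_eq_one_iff hE _).1 (congrArg Subtype.val ha)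
    exact (map_eq_zero_iff ι ι.injective).1 (congrArg Prod.snd h1)
  have hps : Function.Surjective p := hTs.comp hs
  have hcard : Nat.card ↥p.ker = Nat.card ↥p'.ker := by
    have h1 := p.ker.card_mul_index
    have h2' := p'.ker.card_mul_index
    rw [Subgroup.index_ker, MonoidHom.range_eq_top.2 hps, Subgroup.card_top, hQ] at h1
    rw [Subgroup.index_ker, MonoidHom.range_eq_top.2 hp's, Subgroup.card_top, Unitary3.natCard_unip] at h2'
    exact Nat.eq_of_mul_eq_mul_right Nat.card_pos (h1.trans h2'.symm)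
  refine ⟨E, inferInstance, inferInstance, inferInstance, hE,
    nonempty_mulEquiv_of_sq p p' hps hp's (fun a ha => hc a (hpk ▸ ha)) (fun a ha g => ?_)
    (fun a ha => ?_)
    (MulEquiv.ofBijective χh ((Nat.bijective_iff_injective_and_card χh).2 ⟨hχi, hcard⟩))
    fun g h hgh => ?_⟩
  · obtain ⟨u, rfl⟩ := Unitary3.uPt_surj hE a
    obtain ⟨v, rfl⟩ := Unitary3.uPt_surj hE g
    have hu := (hp'k u).1 ha
    rw [Unitary3.uPt_mul, Unitary3.uPt_mul]
    refine congrArg _ (Subtype.ext (Prod.ext (add_comm _ _) ?_))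
    simp only [Unitary3.uMul, hu, zero_pow (Unitary3.q_ne hE)]
    ring
  · obtain ⟨u, rfl⟩ := Unitary3.uPt_surj hE a
    rw [← pow_two, Unitary3.uPt_sq, Unitary3.uPt_eq_one_iff, (hp'k u).1 ha]
    simp
  · obtain ⟨u, rfl⟩ := Unitary3.uPt_surj hE h
    refine ⟨hpk ▸ hsqk g, ?_⟩
    rw [← pow_two (Unitary3.uPt hE u), Unitary3.uPt_sq]
    show Unitary3.uPt hE ⟨(0, ι (χ (g * g))), hcond _⟩ = _
    refine congrArg (Unitary3.uPt hE) (Subtype.ext (Prod.ext rfl ?_))
    show ι (χ (g * g)) = u.1.1 ^ q * u.1.1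
    have e1 : u.1.1 = ι (ψ g).toAdd.2 + ω * ι (ψ g).toAdd.1 :=
      (congrArg Multiplicative.toAdd (hgh.trans (hp' u))).symm
    rw [hq, e1, Classical.qpow_add hE, mul_pow, hιq, hιq, hωq, map_add, map_add, map_mul, map_mul,
      map_pow, map_pow]
    linear_combination (ι (ψ g).toAdd.1) ^ 2 * (-hω) -
      h2 (ω * ι (ψ g).toAdd.1 * ι (ψ g).toAdd.2) + (ι (ψ g).toAdd.1) ^ 2 * h2 (ι L)

/-- Let Q be a non-abelian finite 2-group admitting commuting automorphisms α of order 2 and ρ of order 2^n − 1, where n ≥ 2, such that the fixed points of α form an elementary abelian subgroup of order 2^n on whose nonidentity elements the group generated by ρ acts transitively. Then Q is isomorphic to a Sylow 2-subgroup of the projective special unitary group of dimension 3 with parameter 2^n (realised over the field with 4^n elements) or of the projective special linear group of dimension 3 over the field with 2^n elements. -/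
theorem result {Q : Type*} [Group Q] [Finite Q] (hQ : IsPGroup 2 Q) (hna : ¬ IsMulCommutative Q) (n : ℕ) (hn : 2 ≤ n)
    (α ρ : MulAut Q) (hα : orderOf α = 2) (hρ : orderOf ρ = 2 ^ n - 1) (hc : Commute α ρ)
    (C : Subgroup Q) (hC : ∀ x : Q, x ∈ C ↔ α x = x) (hCE : Cfsg.IsElementaryAbelian 2 C ∧ Nat.card ↥C = 2 ^ n)
    (htr : ∀ x y : Q, x ∈ C → y ∈ C → x ≠ 1 → y ≠ 1 → ∃ k : ℕ, (ρ ^ k) x = y) :
    (∃ (F : Type) (_ : Field F) (_ : Fintype F), Fintype.card F = 4 ^ n ∧
        ∃ S : Sylow 2 (Cfsg.PSU 3 F (2 ^ n)), Nonempty (Q ≃* ↥(S : Subgroup (Cfsg.PSU 3 F (2 ^ n))))) ∨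
      (∃ (F : Type) (_ : Field F) (_ : Fintype F), Fintype.card F = 2 ^ n ∧
        ∃ S : Sylow 2 (Matrix.ProjectiveSpecialLinearGroup (Fin 3) F), Nonempty (Q ≃* ↥(S : Subgroup (Matrix.ProjectiveSpecialLinearGroup (Fin 3) F)))) := by
  have hna' : ¬ ∀ x y : Q, x * y = y * x := fun h => hna ⟨⟨h⟩⟩
  have hfix : fixSub α = C := by ext x; exact (hC x).symm
  let d : Datum Q n :=
    { α := α
      ρ := ρ
      two := hQ
      αα := fun x => by
        rw [show α (α x) = (α * α) x from rfl, ← pow_two, ← hα, pow_orderOf_eq_one]; rfl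
      comm := fun x => DFunLike.congr_fun hc.eq x
      card_fix := by rw [hfix]; exact hCE.2
      sq_fix := fun x hx => by rw [← pow_two]; exact hCE.1.2 x ((hC x).2 hx)
      trans := fun x y hx hy h1 h2 => htr x y ((hC x).2 hx) ((hC y).2 hy) h1 h2
      period := by rw [← hρ]; exact pow_orderOf_eq_one ρ
      two_le := hn }
  obtain ⟨F, _, _, _, L, ψ, χ, hF, hcard, hs, hcen, hadd, hinj, hsqk, hq⟩ := exists_quad d hna'
  by_cases hroot : ∃ t : F, t * t + t = L
  · obtain ⟨t, ht⟩ := hroot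
    obtain ⟨e⟩ := equiv_upper hF hcard ht ψ χ hs hcen hadd hinj hsqk hq
    obtain ⟨S, ⟨e'⟩⟩ := upper_sylow (F := F) hF
    exact Or.inr ⟨F, inferInstance, inferInstance, hF, S, ⟨e.trans e'⟩⟩
  · push Not at hroot
    obtain ⟨E, _, _, _, hE, ⟨e⟩⟩ :=
      equiv_unip (by omega) hF hcard hroot ψ χ hs hcen hadd hinj hsqk hq
    have : Fact (Nat.Prime 2) := ⟨Nat.prime_two⟩
    obtain ⟨S⟩ := (inferInstance : Nonempty (Sylow 2 (Cfsg.PSU 3 E (2 ^ n))))
    obtain ⟨e'⟩ := Unitary3.nonempty_sylow_PSU_equiv_unip (by omega : n ≠ 0) hE S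
    refine Or.inl ⟨E, inferInstance, inferInstance, ?_, S, ⟨e.trans e'.symm⟩⟩
    rw [hE, ← pow_mul, show 4 ^ n = (2 ^ 2) ^ n by norm_num, ← pow_mul, mul_comm]

end Cfsg.Agent.S3161
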