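import Cfsg.Statements.S3162
import Mathlib
import Cfsg.Agent.Lib.Unitary3.SylowTwo
import Cfsg.Agent.Lib.PSolvable.Core

set_option autoImplicit false
open Cfsg

namespace Cfsg.Agent.S3162

open Cfsg.Agent.Lib

variable {F : Type*} [Field F] [Fintype F] [CharP F 2] {q : ℕ} (hF : Fintype.card F = q ^ 2)

/-- The first coordinate. -/
noncomputable def cA (x : ↥(Unitary3.unip (F := F) hF)) : F := ((Unitary3.unipEquiv hF).symm x).1.1

/-- The second coordinate. -/
noncomputable def cB (x : ↥(Unitary3.unip (F := F) hF)) : F := ((Unitary3.unipEquiv hF).symm x).1.2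

theorem symm_uPt (p : {p : F × F // Unitary3.uCond q p}) :
    (Unitary3.unipEquiv hF).symm (Unitary3.uPt hF p) = p :=
  (Equiv.symm_apply_eq _).2 rfl

theorem cA_uPt (p : {p : F × F // Unitary3.uCond q p}) : cA hF (Unitary3.uPt hF p) = p.1.1 := by
  rw [cA, symm_uPt]

theorem cB_uPt (p : {p : F × F // Unitary3.uCond q p}) : cB hF (Unitary3.uPt hF p) = p.1.2 := by
  rw [cB, symm_uPt]

theorem cA_mul (x y : ↥(Unitary3.unip (F := F) hF)) : cA hF (x * y) = cA hF x + cA hF y := by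
  obtain ⟨p, rfl⟩ := Unitary3.uPt_surj hF x
  obtain ⟨p', rfl⟩ := Unitary3.uPt_surj hF y
  rw [Unitary3.uPt_mul, cA_uPt, cA_uPt, cA_uPt]
  rfl

theorem cB_mul (x y : ↥(Unitary3.unip (F := F) hF)) :
    cB hF (x * y) = cB hF x + cB hF y + cA hF x ^ q * cA hF y := by
  obtain ⟨p, rfl⟩ := Unitary3.uPt_surj hF x
  obtain ⟨p', rfl⟩ := Unitary3.uPt_surj hF y
  rw [Unitary3.uPt_mul, cB_uPt, cB_uPt, cB_uPt, cA_uPt, cA_uPt]
  rfl

theorem coord_ext {x y : ↥(Unitary3.unip (F := F) hF)} (h1 : cA hF x = cA hF y) (h2 : cB hF x = cB hF y) :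
    x = y := by
  obtain ⟨p, rfl⟩ := Unitary3.uPt_surj hF x
  obtain ⟨p', rfl⟩ := Unitary3.uPt_surj hF y
  rw [cA_uPt, cA_uPt] at h1
  rw [cB_uPt, cB_uPt] at h2
  exact congrArg _ (Subtype.ext (Prod.ext h1 h2))

theorem coord_cond (x : ↥(Unitary3.unip (F := F) hF)) : cB hF x + cB hF x ^ q + cA hF x * cA hF x ^ q = 0 :=
  ((Unitary3.unipEquiv hF).symm x).2

theorem mem_center_iff (hq : 2 ≤ q) (x : ↥(Unitary3.unip (F := F) hF)) :
    x ∈ Subgroup.center ↥(Unitary3.unip (F := F) hF) ↔ cA hF x = 0 := by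
  obtain ⟨p, rfl⟩ := Unitary3.uPt_surj hF x
  rw [cA_uPt]
  exact Unitary3.mem_center_unip hF hq p

include hF in
theorem qz : (0 : F) ^ q = 0 := zero_pow (Unitary3.q_ne hF)

include hF in
theorem fix_add {c d : F} (hc : c ^ q = c) (hd : d ^ q = d) : (c + d) ^ q = c + d := by
  rw [Classical.qpow_add hF, hc, hd]

include hF in
theorem fix_norm (a : F) : (a ^ q * a) ^ q = a ^ q * a := by
  rw [mul_pow, Unitary3.qq2 hF, mul_comm]

include hF in
theorem exists_norm {c : F} (hc : c ^ q = c) : ∃ a : F, a ^ q * a = c := by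
  by_cases h0 : c = 0
  · exact ⟨0, by rw [mul_zero, h0]⟩
  · have h2 := S0754.result hF c h0 hc
    obtain ⟨⟨a, ha⟩⟩ : Nonempty {x : F // x ^ (q + 1) = c} := (Nat.card_pos_iff.1 (by omega)).1
    exact ⟨a, by rw [← pow_succ]; exact ha⟩

include hF in
theorem exists_lift (hq : 2 ≤ q) (a : F) : ∃ b, Unitary3.uCond q (a, b) :=
  let ⟨⟨b, hb⟩⟩ := (Nat.card_pos_iff.mp (show 0 < Nat.card {b : F // Unitary3.uCond q (a, b)} by
    rw [Unitary3.natCard_fibre hF a]; omega)).1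
  ⟨b, hb⟩

include hF in
theorem exists_trace (hq : 2 ≤ q) {c : F} (hc : c ^ q = c) : ∃ b : F, b + b ^ q = c := by
  obtain ⟨a, ha⟩ := exists_norm hF hc
  obtain ⟨b, hb⟩ := exists_lift hF hq a
  simp only [Unitary3.uCond] at hb
  exact ⟨b, by linear_combination hb + ha - (a * a ^ q) * Unitary3.c2 (1 : F)⟩

/-- A lift of an element of `F`. -/
noncomputable def sec (hq : 2 ≤ q) (a : F) : ↥(Unitary3.unip (F := F) hF) :=
  Unitary3.uPt hF ⟨(a, Classical.choose (exists_lift hF hq a)), Classical.choose_spec (exists_lift hF hq a)⟩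

/-- The central element attached to a fixed element of `F`. -/
noncomputable def zel (c : F) (hc : c ^ q = c) : ↥(Unitary3.unip (F := F) hF) :=
  Unitary3.uPt hF ⟨(0, c), by simp [Unitary3.uCond, hc, qz hF, Unitary3.c2]⟩

theorem cA_sec (hq : 2 ≤ q) (a : F) : cA hF (sec hF hq a) = a := cA_uPt hF _

theorem cA_zel (c : F) (hc : c ^ q = c) : cA hF (zel hF c hc) = 0 := cA_uPt hF _

theorem cB_zel (c : F) (hc : c ^ q = c) : cB hF (zel hF c hc) = c := cB_uPt hF _

theorem cB_central (x : ↥(Unitary3.unip (F := F) hF)) (hx : cA hF x = 0) : cB hF x ^ q = cB hF x := by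
  have h := coord_cond hF x
  rw [hx, zero_mul, add_zero] at h
  exact (CharTwo.add_eq_zero.mp h).symm

theorem aut_central (hq : 2 ≤ q) (φ : MulAut ↥(Unitary3.unip (F := F) hF)) (x : ↥(Unitary3.unip (F := F) hF))
    (hx : cA hF x = 0) : cA hF (φ x) = 0 := by
  rw [← mem_center_iff hF hq] at hx ⊢
  exact Subgroup.mem_center_iff.2 fun g => by
    obtain ⟨g, rfl⟩ := φ.surjective g
    rw [← map_mul, ← map_mul, Subgroup.mem_center_iff.1 hx g]

theorem cA_map (hq : 2 ≤ q) (φ : MulAut ↥(Unitary3.unip (F := F) hF)) (x : ↥(Unitary3.unip (F := F) hF)) :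
    cA hF (φ x) = cA hF (φ (sec hF hq (cA hF x))) := by
  obtain ⟨z, hz⟩ : ∃ z, x = sec hF hq (cA hF x) * z := ⟨(sec hF hq (cA hF x))⁻¹ * x, by group⟩
  have h0 : cA hF z = 0 := by
    have := congrArg (cA hF) hz
    rw [cA_mul, cA_sec] at this
    exact left_eq_add.1 this
  conv_lhs => rw [hz, map_mul, cA_mul, aut_central hF hq φ z h0, add_zero]

/-- The action of the automorphism group on the quotient by the centre. -/
noncomputable def Φ (hq : 2 ≤ q) : MulAut ↥(Unitary3.unip (F := F) hF) →* Equiv.Perm F :=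
  MonoidHom.mk' (fun φ =>
    { toFun := fun a => cA hF (φ (sec hF hq a))
      invFun := fun a => cA hF (φ⁻¹ (sec hF hq a))
      left_inv := fun a => by
        show cA hF (φ⁻¹ (sec hF hq (cA hF (φ (sec hF hq a))))) = a
        rw [← cA_map hF hq φ⁻¹, MulAut.inv_apply_self, cA_sec]
      right_inv := fun a => by
        show cA hF (φ (sec hF hq (cA hF (φ⁻¹ (sec hF hq a))))) = a
        rw [← cA_map hF hq φ, MulAut.apply_inv_self, cA_sec] })
    fun φ ψ => Equiv.ext fun a => cA_map hF hq φ (ψ (sec hF hq a))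

theorem Φ_spec (hq : 2 ≤ q) (φ : MulAut ↥(Unitary3.unip (F := F) hF)) (x : ↥(Unitary3.unip (F := F) hF)) :
    cA hF (φ x) = Φ hF hq φ (cA hF x) := cA_map hF hq φ x

open scoped Classical in
/-- The action on the centre. -/
noncomputable def hFun (φ : MulAut ↥(Unitary3.unip (F := F) hF)) (c : F) : F :=
  if h : c ^ q = c then cB hF (φ (zel hF c h)) else 0

theorem hFun_spec (φ : MulAut ↥(Unitary3.unip (F := F) hF)) (x : ↥(Unitary3.unip (F := F) hF))
    (hx : cA hF x = 0) : cB hF (φ x) = hFun hF φ (cB hF x) := by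
  rw [hFun, dif_pos (cB_central hF x hx)]
  congr 2
  exact coord_ext hF (hx.trans (cA_zel hF _ _).symm) (cB_zel hF _ _).symm

theorem hFun_add (hq : 2 ≤ q) (φ : MulAut ↥(Unitary3.unip (F := F) hF)) {c d : F} (hc : c ^ q = c) (hd : d ^ q = d) :
    hFun hF φ (c + d) = hFun hF φ c + hFun hF φ d := by
  rw [hFun, hFun, hFun, dif_pos hc, dif_pos hd, dif_pos (fix_add hF hc hd),
    show zel hF (c + d) (fix_add hF hc hd) = zel hF c hc * zel hF d hd from coord_ext hF
      (by rw [cA_mul, cA_zel, cA_zel, cA_zel, add_zero])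
      (by rw [cB_mul, cB_zel, cB_zel, cB_zel, cA_zel, qz hF, zero_mul, add_zero]),
    map_mul, cB_mul, aut_central hF hq φ _ (cA_zel hF c hc), qz hF, zero_mul, add_zero]

theorem cA_sq (x : ↥(Unitary3.unip (F := F) hF)) : cA hF (x * x) = 0 := by rw [cA_mul, Unitary3.c2]

theorem cB_sq (x : ↥(Unitary3.unip (F := F) hF)) : cB hF (x * x) = cA hF x ^ q * cA hF x := by
  rw [cB_mul, Unitary3.c2, zero_add]

theorem Φ_norm (hq : 2 ≤ q) (φ : MulAut ↥(Unitary3.unip (F := F) hF)) (a : F) :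
    Φ hF hq φ a ^ q * Φ hF hq φ a = hFun hF φ (a ^ q * a) := by
  have h := hFun_spec hF φ (sec hF hq a * sec hF hq a) (cA_sq hF _)
  rw [map_mul, cB_sq, cB_sq, Φ_spec hF hq, cA_sec] at h
  exact h

theorem Φ_add (hq : 2 ≤ q) (φ : MulAut ↥(Unitary3.unip (F := F) hF)) (a b : F) :
    Φ hF hq φ (a + b) = Φ hF hq φ a + Φ hF hq φ b := by
  have h := Φ_spec hF hq φ (sec hF hq a * sec hF hq b)
  rw [map_mul, cA_mul, cA_mul, Φ_spec hF hq, Φ_spec hF hq, cA_sec, cA_sec] at h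
  exact h.symm

theorem frob_apply [Algebra (ZMod 2) F] (i : ℕ) (a : F) :
    (FiniteField.frobeniusAlgHom (ZMod 2) F ^ i) a = a ^ 2 ^ i := by
  induction i generalizing a with
  | zero => simp
  | succ i ih =>
    rw [pow_succ (FiniteField.frobeniusAlgHom (ZMod 2) F), AlgHom.mul_apply, ih,
      FiniteField.coe_frobeniusAlgHom, ZMod.card]
    show (a ^ 2) ^ 2 ^ i = _
    rw [← pow_mul, pow_succ']

omit [CharP F 2] in
theorem finrank_eq [Algebra (ZMod 2) F] {n : ℕ} (h : Fintype.card F = (2 ^ n) ^ 2) :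
    Module.finrank (ZMod 2) F = 2 * n := by
  haveI : Fact (Nat.Prime 2) := ⟨Nat.prime_two⟩
  have h1 := Module.natCard_eq_pow_finrank (K := ZMod 2) (V := F)
  rw [Nat.card_eq_fintype_card, Nat.card_zmod, h, ← pow_mul, mul_comm] at h1
  exact (Nat.pow_right_injective (le_refl 2) h1).symm

theorem frob_inj {n : ℕ} (h : Fintype.card F = (2 ^ n) ^ 2) {i j : ℕ} (hi : i < 2 * n) (hj : j < 2 * n)
    (hij : ∀ a : F, a ^ 2 ^ i = a ^ 2 ^ j) : i = j := by
  haveI : Fact (Nat.Prime 2) := ⟨Nat.prime_two⟩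
  letI : Algebra (ZMod 2) F := ZMod.algebra F 2
  have hb := (FiniteField.bijective_frobeniusAlgHom_pow (ZMod 2) F).1
  exact congrArg Fin.val (@hb ⟨i, (finrank_eq h).symm ▸ hi⟩ ⟨j, (finrank_eq h).symm ▸ hj⟩
    (AlgHom.ext fun a => by
      show (FiniteField.frobeniusAlgHom (ZMod 2) F ^ i) a = (FiniteField.frobeniusAlgHom (ZMod 2) F ^ j) a
      rw [frob_apply, frob_apply, hij]))

include hF in
/-- A similitude of the norm fixing `1` is a field automorphism. -/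
theorem similar_eq_frob {n : ℕ} (hn : Fintype.card F = (2 ^ n) ^ 2) (hq : 2 ≤ q) (g h : F → F)
    (ga : ∀ a b, g (a + b) = g a + g b) (ha : ∀ c d, c ^ q = c → d ^ q = d → h (c + d) = h c + h d)
    (gs : Function.Surjective g) (g1 : g 1 = 1) (hN : ∀ a, g a ^ q * g a = h (a ^ q * a)) :
    ∃ i < 2 * n, ∀ a, g a = a ^ 2 ^ i := by
  haveI : Fact (Nat.Prime 2) := ⟨Nat.prime_two⟩
  have h2 : (2 : F) = 0 := CharTwo.two_eq_zero
  have g0 : g 0 = 0 := by simpa using ga 0 0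
  have h0 : h 0 = 0 := by simpa [g0, qz hF] using (hN 0).symm
  have hqa : ∀ a b : F, (a + b) ^ q = a ^ q + b ^ q := Classical.qpow_add hF
  have hqq : ∀ a : F, (a ^ q) ^ q = a := Unitary3.qq2 hF
  have hBfix : ∀ a b : F, (a ^ q * b + b ^ q * a) ^ q = a ^ q * b + b ^ q * a := fun a b => by
    rw [hqa, mul_pow, mul_pow, hqq, hqq]; ring
  have hB : ∀ a b, g a ^ q * g b + g b ^ q * g a = h (a ^ q * b + b ^ q * a) := by
    intro a b
    have h' := hN (a + b)
    rw [ga, hqa, show (a + b) ^ q * (a + b) = a ^ q * a + b ^ q * b + (a ^ q * b + b ^ q * a) by rw [hqa]; ring,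
      ha _ _ (fix_add hF (fix_norm hF a) (fix_norm hF b)) (hBfix a b), ha _ _ (fix_norm hF a) (fix_norm hF b),
      ← hN a, ← hN b] at h'
    linear_combination h'
  have hT : ∀ a, g a + g a ^ q = h (a + a ^ q) := fun a => by
    have := hB 1 a
    rwa [g1, one_pow, one_mul, mul_one, one_mul, mul_one] at this
  have gfix : ∀ x, x ^ q = x → g x ^ q = g x := fun x hx => by
    have := hT x
    rw [hx, Unitary3.c2, h0] at this
    exact (CharTwo.add_eq_zero.mp this).symm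
  have hmul : ∀ x y, x ^ q = x → y ^ q = y → h (x * y) = g x * h y := by
    intro x y hx hy
    obtain ⟨b, rfl⟩ := exists_trace hF hq hy
    have := hB x b
    rw [hx, gfix x hx, show x * b + b ^ q * x = x * (b + b ^ q) by ring] at this
    rw [← this, ← hT]; ring
  have h1 : h 1 = 1 := by simpa [g1] using (hN 1).symm
  have hgK : ∀ x, x ^ q = x → h x = g x := fun x hx => by
    have := hmul x 1 hx (one_pow q)
    rwa [mul_one, h1, mul_one] at this
  obtain ⟨a₀, ha₀⟩ := Unitary3.exists_ne_fixed (F := F) hF hq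
  have ht₀ : a₀ + a₀ ^ q ≠ 0 := fun e => ha₀ (CharTwo.add_eq_zero.mp e).symm
  have hsemi : ∀ x a, x ^ q = x → g (x * a) = g x * g a := by
    intro x a hx
    set u := g (x * a) + g x * g a with hu
    have hu0 : ∀ b, u ^ q * g b + g b ^ q * u = 0 := by
      intro b
      have e1 := hB (x * a) b
      rw [mul_pow, hx, show x * a ^ q * b + b ^ q * (x * a) = x * (a ^ q * b + b ^ q * a) by ring,
        hmul x _ hx (hBfix a b), ← hB a b] at e1
      rw [hu, hqa, mul_pow, gfix x hx]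
      linear_combination e1 + (g x * g a ^ q * g b + g b ^ q * g x * g a) * h2
    have hu1 := hu0 1
    rw [g1, one_pow, one_mul, mul_one] at hu1
    have huf : u ^ q = u := CharTwo.add_eq_zero.mp hu1
    obtain ⟨b, hb⟩ := gs a₀
    have hu2 := hu0 b
    rw [hb, huf] at hu2
    have : u * (a₀ + a₀ ^ q) = 0 := by linear_combination hu2
    exact CharTwo.add_eq_zero.mp ((mul_eq_zero.mp this).resolve_right ht₀)
  have hTfix : ∀ a : F, (a + a ^ q) ^ q = a + a ^ q := fun a => by rw [hqa, hqq, add_comm]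
  have hsq : ∀ a, g (a * a) = g a * g a := by
    intro a
    rw [show a * a = (a + a ^ q) * a + a ^ q * a by linear_combination -(a ^ q * a) * h2, ga, hsemi _ _ (hTfix a),
      ← hgK _ (hTfix a), ← hT, ← hgK _ (fix_norm hF a), ← hN]
    linear_combination (g a ^ q * g a) * h2
  have hdec : ∀ b : F, ∃ x y : F, x ^ q = x ∧ y ^ q = y ∧ b = x + y * a₀ := by
    intro b
    have hy : ((b + b ^ q) / (a₀ + a₀ ^ q)) ^ q = (b + b ^ q) / (a₀ + a₀ ^ q) := by rw [div_pow, hTfix, hTfix]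
    set y := (b + b ^ q) / (a₀ + a₀ ^ q) with hy'
    refine ⟨b + y * a₀, y, ?_, hy, by linear_combination -(y * a₀) * h2⟩
    have he : y * (a₀ + a₀ ^ q) = b + b ^ q := div_mul_cancel₀ _ ht₀
    rw [hqa, mul_pow, hy]
    linear_combination he + (b ^ q - y * a₀) * h2 - b * 0
  have gmul : ∀ a b, g (a * b) = g a * g b := by
    intro a b
    obtain ⟨x, y, hx, hy, rfl⟩ := hdec a
    obtain ⟨x', y', hx', hy', rfl⟩ := hdec b
    have hm : ∀ {c d : F}, c ^ q = c → d ^ q = d → (c * d) ^ q = c * d := fun hc hd => by rw [mul_pow, hc, hd]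
    have gm : ∀ {c d : F}, c ^ q = c → d ^ q = d → g (c * d) = g c * g d := fun hc _ => hsemi _ _ hc
    rw [show (x + y * a₀) * (x' + y' * a₀) = x * x' + ((x * y' + y * x') * a₀ + y * y' * (a₀ * a₀)) by ring,
      ga, ga, hsemi _ _ (fix_add hF (hm hx hy') (hm hy hx')), hsemi _ _ (hm hy hy'), ga, gm hx hx', gm hx hy',
      gm hy hx', gm hy hy', hsq, ga, ga, hsemi _ _ hy, hsemi _ _ hy']
    ring
  letI : Algebra (ZMod 2) F := ZMod.algebra F 2
  let r : F →+* F := { toFun := g, map_one' := g1, map_mul' := gmul, map_zero' := g0, map_add' := ga }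
  let f : F →ₐ[ZMod 2] F :=
    { r with commutes' := fun c => congrFun (congrArg DFunLike.coe
        (Subsingleton.elim (r.comp (algebraMap (ZMod 2) F)) (algebraMap (ZMod 2) F))) c }
  obtain ⟨i, hi⟩ := (FiniteField.bijective_frobeniusAlgHom_pow (ZMod 2) F).2 f
  refine ⟨i, (finrank_eq hn) ▸ i.2, fun a => ?_⟩
  rw [← frob_apply i.1 a]
  exact (congrArg (fun e : F →ₐ[ZMod 2] F => e a) hi).symm

theorem Φ_range_mem {n : ℕ} (hn : Fintype.card F = (2 ^ n) ^ 2) (hq : 2 ≤ q)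
    (φ : MulAut ↥(Unitary3.unip (F := F) hF)) :
    ∃ μ : Fˣ, ∃ i < 2 * n, ∀ a, Φ hF hq φ a = μ * a ^ 2 ^ i := by
  have h0 : Φ hF hq φ 0 = 0 := by simpa using Φ_add hF hq φ 0 0
  set μ := Φ hF hq φ 1 with hμ
  have hμ0 : μ ≠ 0 := fun e => one_ne_zero ((Φ hF hq φ).injective (e.trans h0.symm))
  have hb : Function.Surjective fun a => μ⁻¹ * Φ hF hq φ a := fun y =>
    ⟨(Φ hF hq φ).symm (μ * y), by simp only [Equiv.apply_symm_apply, inv_mul_cancel_left₀ hμ0]⟩
  obtain ⟨i, hi, h⟩ := similar_eq_frob hF hn hq (fun a => μ⁻¹ * Φ hF hq φ a)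
    (fun c => (μ ^ q * μ)⁻¹ * hFun hF φ c) (fun a b => by rw [Φ_add, mul_add])
    (fun c d hc hd => by rw [hFun_add hF hq φ hc hd, mul_add]) hb
    (inv_mul_cancel₀ hμ0) fun a => by rw [← Φ_norm hF hq, mul_pow, inv_pow, mul_inv]; ring
  refine ⟨Units.mk0 μ hμ0, i, hi, fun a => ?_⟩
  rw [Units.val_mk0, ← h a, mul_inv_cancel_left₀ hμ0]

/-- Every semilinear map is induced. -/
theorem exists_semi (hq : 2 ≤ q) (μ : Fˣ) (i : ℕ) :
    ∃ φ : MulAut ↥(Unitary3.unip (F := F) hF), ∀ a, Φ hF hq φ a = μ * a ^ 2 ^ i := by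
  haveI : Fact (Nat.Prime 2) := ⟨Nat.prime_two⟩
  have hadd : ∀ x y : F, (x + y) ^ 2 ^ i = x ^ 2 ^ i + y ^ 2 ^ i := fun x y => add_pow_char_pow (p := 2) x y i
  have hcond : ∀ x, Unitary3.uCond q ((μ : F) * cA hF x ^ 2 ^ i, (μ : F) ^ q * μ * cB hF x ^ 2 ^ i) := by
    intro x
    have h := congrArg (· ^ 2 ^ i) (coord_cond hF x)
    simp only [hadd, mul_pow, zero_pow (pow_ne_zero i two_ne_zero)] at h
    simp only [Unitary3.uCond, mul_pow, Unitary3.qq2 hF, ← pow_mul, mul_comm (2 ^ i) q]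
    simp only [← pow_mul] at h
    linear_combination ((μ : F) * (μ : F) ^ q) * h
  let f : ↥(Unitary3.unip (F := F) hF) → ↥(Unitary3.unip (F := F) hF) := fun x => Unitary3.uPt hF ⟨_, hcond x⟩
  have hA : ∀ x, cA hF (f x) = μ * cA hF x ^ 2 ^ i := fun x => cA_uPt hF _
  have hB : ∀ x, cB hF (f x) = (μ : F) ^ q * μ * cB hF x ^ 2 ^ i := fun x => cB_uPt hF _
  have hpinj : Function.Injective fun x : F => x ^ 2 ^ i := fun x y e => by
    have : (x + y) ^ 2 ^ i = 0 := by rw [hadd, show x ^ 2 ^ i = y ^ 2 ^ i from e, Unitary3.c2]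
    exact CharTwo.add_eq_zero.mp (eq_zero_of_pow_eq_zero this)
  have hinj : Function.Injective f := fun x y e => by
    have e1 := congrArg (cA hF) e
    have e2 := congrArg (cB hF) e
    rw [hA, hA] at e1
    rw [hB, hB] at e2
    exact coord_ext hF (hpinj (mul_left_cancel₀ μ.ne_zero e1))
      (hpinj (mul_left_cancel₀ (mul_ne_zero (pow_ne_zero q μ.ne_zero) μ.ne_zero) e2))
  let φ₀ : ↥(Unitary3.unip (F := F) hF) →* ↥(Unitary3.unip (F := F) hF) := MonoidHom.mk' f fun x y => by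
    refine coord_ext hF ?_ ?_
    · rw [cA_mul hF (f x), hA, hA, hA, cA_mul, hadd, mul_add]
    · rw [cB_mul hF (f x), hB, hB, hB, hA, hA, cB_mul, hadd, hadd]
      simp only [mul_pow, ← pow_mul, mul_comm (2 ^ i) q]
      ring
  exact ⟨MulEquiv.ofBijective φ₀ (Finite.injective_iff_bijective.1 hinj), fun a => by
    show cA hF (f (sec hF hq a)) = _
    rw [hA, cA_sec]⟩

theorem mem_ker_iff (hq : 2 ≤ q) (φ : MulAut ↥(Unitary3.unip (F := F) hF)) :
    φ ∈ (Φ hF hq).ker ↔ ∀ x, cA hF (φ x) = cA hF x := by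
  refine ⟨fun h x => ?_, fun h => Equiv.ext fun a => ?_⟩
  · rw [Φ_spec hF hq, MonoidHom.mem_ker.1 h]; rfl
  · show cA hF (φ (sec hF hq a)) = a
    rw [h, cA_sec]

theorem ker_fix_center (hq : 2 ≤ q) {φ : MulAut ↥(Unitary3.unip (F := F) hF)} (hφ : φ ∈ (Φ hF hq).ker)
    {z : ↥(Unitary3.unip (F := F) hF)} (hz : cA hF z = 0) : φ z = z := by
  obtain ⟨a, ha⟩ := exists_norm hF (cB_central hF z hz)
  have h := Φ_norm hF hq φ a
  rw [show Φ hF hq φ a = a from by rw [MonoidHom.mem_ker.1 hφ]; rfl, ha] at h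
  exact coord_ext hF ((aut_central hF hq φ z hz).trans hz.symm) ((hFun_spec hF φ z hz).trans h.symm)

theorem ker_mul_apply (hq : 2 ≤ q) {φ ψ : MulAut ↥(Unitary3.unip (F := F) hF)} (hφ : φ ∈ (Φ hF hq).ker)
    (hψ : ψ ∈ (Φ hF hq).ker) (x : ↥(Unitary3.unip (F := F) hF)) :
    φ (ψ x) = x * ((x⁻¹ * φ x) * (x⁻¹ * ψ x)) ∧ cA hF (x⁻¹ * φ x) = 0 := by
  have hz : ∀ {χ : MulAut ↥(Unitary3.unip (F := F) hF)}, χ ∈ (Φ hF hq).ker → cA hF (x⁻¹ * χ x) = 0 := by
    intro χ hχ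
    have h1 : cA hF x + cA hF (x⁻¹ * χ x) = cA hF x + 0 := by
      rw [← cA_mul, mul_inv_cancel_left, (mem_ker_iff hF hq χ).1 hχ x, add_zero]
    exact add_left_cancel h1
  refine ⟨?_, hz hφ⟩
  have : ψ x = x * (x⁻¹ * ψ x) := by group
  rw [this, map_mul, ker_fix_center hF hq hφ (hz hψ)]
  group

theorem ker_elementary (hq : 2 ≤ q) : Cfsg.IsElementaryAbelian 2 (Φ hF hq).ker := by
  refine ⟨⟨⟨fun φ ψ => Subtype.ext (MulEquiv.ext fun x => ?_)⟩⟩, fun φ hφ => MulEquiv.ext fun x => ?_⟩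
  · show φ.1 (ψ.1 x) = ψ.1 (φ.1 x)
    rw [(ker_mul_apply hF hq φ.2 ψ.2 x).1, (ker_mul_apply hF hq ψ.2 φ.2 x).1,
      Subgroup.mem_center_iff.1 ((mem_center_iff hF hq _).2 (ker_mul_apply hF hq ψ.2 φ.2 x).2) (x⁻¹ * φ.1 x)]
  · obtain ⟨h1, h2⟩ := ker_mul_apply hF hq hφ hφ x
    rw [pow_two, MulAut.mul_apply, h1, MulAut.one_apply, mul_eq_left]
    refine coord_ext hF ?_ ?_
    · rw [cA_sq, ← (mem_center_iff hF hq 1).1 (one_mem _)]
    · rw [cB_sq, h2, mul_zero]
      have := cB_mul hF 1 1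
      rw [one_mul, (mem_center_iff hF hq 1).1 (one_mem _), mul_zero, add_zero, Unitary3.c2] at this
      exact this.symm

/-- The fixed elements of `x ↦ x ^ q`. -/
def fixK : AddSubgroup F where
  carrier := {x | x ^ q = x}
  add_mem' := fun hx hy => fix_add hF hx hy
  zero_mem' := qz hF
  neg_mem' := fun {x} hx => by
    show (-x) ^ q = -x
    rw [CharTwo.neg_eq]; exact hx

theorem natCard_addHom {n : ℕ} (hn : Fintype.card F = (2 ^ n) ^ 2) :
    Nat.card (F →+ ↥(fixK hF)) = q ^ (2 * n) := by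
  haveI : Fact (Nat.Prime 2) := ⟨Nat.prime_two⟩
  letI : Algebra (ZMod 2) F := ZMod.algebra F 2
  letI : Module (ZMod 2) ↥(fixK hF) := AddCommGroup.zmodModule fun v => Subtype.ext (by
    show ((2 • v : ↥(fixK hF)) : F) = 0
    rw [AddSubgroup.coe_nsmul, two_nsmul, Unitary3.c2])
  let e : (F →+ ↥(fixK hF)) ≃ (F →ₗ[ZMod 2] ↥(fixK hF)) :=
    { toFun := fun f => f.toZModLinearMap 2
      invFun := fun f => f.toAddMonoidHom
      left_inv := fun f => rfl
      right_inv := fun f => rfl }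
  let b := Module.finBasis (ZMod 2) F
  rw [Nat.card_congr (e.trans (b.constr ℕ).toEquiv.symm), Nat.card_fun, Nat.card_eq_fintype_card (α := Fin _),
    Fintype.card_fin, finrank_eq hn, show Nat.card ↥(fixK hF) = q from Unitary3.natCard_kernel hF]

theorem natCard_ker {n : ℕ} (hn : Fintype.card F = (2 ^ n) ^ 2) (hq : 2 ≤ q) :
    Nat.card (Φ hF hq).ker = q ^ (2 * n) := by
  rw [← natCard_addHom hF hn]
  let dd : (Φ hF hq).ker → F → ↥(fixK hF) := fun φ a =>
    ⟨cB hF ((sec hF hq a)⁻¹ * φ.1 (sec hF hq a)), cB_central hF _ (ker_mul_apply hF hq φ.2 φ.2 _).2⟩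
  have hd : ∀ (φ : (Φ hF hq).ker) (x : ↥(Unitary3.unip (F := F) hF)), cB hF (x⁻¹ * φ.1 x) = dd φ (cA hF x) := by
    intro φ x
    set s := sec hF hq (cA hF x)
    obtain ⟨z, hz⟩ : ∃ z, x = s * z := ⟨s⁻¹ * x, by group⟩
    have h0 : cA hF z = 0 := by
      have := congrArg (cA hF) hz
      rw [cA_mul, cA_sec] at this
      exact left_eq_add.1 this
    have hzc := (mem_center_iff hF hq z).2 h0
    show _ = cB hF (s⁻¹ * φ.1 s)
    congr 1
    rw [hz, map_mul, ker_fix_center hF hq φ.2 h0, mul_inv_rev,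
      show z⁻¹ * s⁻¹ * (φ.1 s * z) = z⁻¹ * ((s⁻¹ * φ.1 s) * z) by group, Subgroup.mem_center_iff.1 hzc (s⁻¹ * φ.1 s),
      inv_mul_cancel_left]
  have hadd : ∀ φ a b, dd φ (a + b) = dd φ a + dd φ b := by
    intro φ a b
    apply Subtype.ext
    have h := hd φ (sec hF hq a * sec hF hq b)
    rw [cA_mul, cA_sec, cA_sec] at h
    rw [← h, map_mul]
    show cB hF _ = cB hF ((sec hF hq a)⁻¹ * φ.1 (sec hF hq a)) + cB hF ((sec hF hq b)⁻¹ * φ.1 (sec hF hq b))
    set u := sec hF hq a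
    set v := sec hF hq b
    rw [show (u * v)⁻¹ * (φ.1 u * φ.1 v) = v⁻¹ * ((u⁻¹ * φ.1 u) * φ.1 v) by group,
      ← Subgroup.mem_center_iff.1 ((mem_center_iff hF hq _).2 (ker_mul_apply hF hq φ.2 φ.2 u).2) (φ.1 v),
      ← mul_assoc v⁻¹, cB_mul, (ker_mul_apply hF hq φ.2 φ.2 u).2, mul_zero, add_zero, add_comm]
  refine Nat.card_congr (Equiv.ofBijective (fun φ => AddMonoidHom.mk' (dd φ) (hadd φ)) ⟨fun φ ψ h => ?_, fun d => ?_⟩)
  · refine Subtype.ext (MulEquiv.ext fun x => ?_)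
    have e : x⁻¹ * φ.1 x = x⁻¹ * ψ.1 x := coord_ext hF
      ((ker_mul_apply hF hq φ.2 φ.2 x).2.trans (ker_mul_apply hF hq ψ.2 ψ.2 x).2.symm)
      (by rw [hd, hd]; exact congrArg Subtype.val (DFunLike.congr_fun h (cA hF x)))
    exact mul_left_cancel e
  · have hdq : ∀ a, ((d a : ↥(fixK hF)) : F) ^ q = d a := fun a => (d a).2
    let f : ↥(Unitary3.unip (F := F) hF) → ↥(Unitary3.unip (F := F) hF) := fun x =>
      x * zel hF (d (cA hF x)) (hdq _)
    have hfA : ∀ x, cA hF (f x) = cA hF x := fun x => by rw [cA_mul, cA_zel, add_zero]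
    have hfB : ∀ x, cB hF (f x) = cB hF x + (d (cA hF x) : F) := fun x => by
      rw [cB_mul, cB_zel, cA_zel, mul_zero, add_zero]
    let φ₀ : ↥(Unitary3.unip (F := F) hF) →* ↥(Unitary3.unip (F := F) hF) := MonoidHom.mk' f fun x y => by
      refine coord_ext hF ?_ ?_
      · rw [cA_mul hF (f x), hfA, hfA, hfA, cA_mul]
      · rw [cB_mul hF (f x), hfB, hfB, hfB, hfA, hfA, cB_mul, cA_mul, map_add, AddSubgroup.coe_add]
        ring
    have hinj : Function.Injective φ₀ := fun x y e => by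
      have e1 : cA hF (f x) = cA hF (f y) := congrArg (cA hF) e
      have e2 : cB hF (f x) = cB hF (f y) := congrArg (cB hF) e
      rw [hfA, hfA] at e1
      rw [hfB, hfB, e1, add_left_inj] at e2
      exact coord_ext hF e1 e2
    let φ : MulAut ↥(Unitary3.unip (F := F) hF) := MulEquiv.ofBijective φ₀ (Finite.injective_iff_bijective.1 hinj)
    have hφ : φ ∈ (Φ hF hq).ker := (mem_ker_iff hF hq φ).2 hfA
    refine ⟨⟨φ, hφ⟩, AddMonoidHom.ext fun a => Subtype.ext ?_⟩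
    show cB hF ((sec hF hq a)⁻¹ * (sec hF hq a * zel hF (d (cA hF (sec hF hq a))) (hdq _))) = _
    rw [inv_mul_cancel_left, cB_zel, cA_sec]

theorem natCard_aut {n : ℕ} (hn : Fintype.card F = (2 ^ n) ^ 2) (hq : 2 ≤ q) :
    Nat.card (MulAut ↥(Unitary3.unip (F := F) hF)) = q ^ (2 * n) * (2 * n * ((2 ^ n) ^ 2 - 1)) := by
  classical
  rw [← (Φ hF hq).ker.card_mul_index, natCard_ker hF hn hq, Subgroup.index_ker]
  congr 1
  have hsurj : ∀ p : Fˣ × Fin (2 * n), ∃ f : ↥(Φ hF hq).range, ∀ a, f.1 a = p.1 * a ^ 2 ^ (p.2 : ℕ) := fun p => by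
    obtain ⟨φ, hφ⟩ := exists_semi hF hq p.1 p.2
    exact ⟨⟨_, φ, rfl⟩, hφ⟩
  choose m hm using hsurj
  have hb : Function.Bijective m := by
    refine ⟨fun p p' h => ?_, fun f => ?_⟩
    · have h1 : ∀ a : F, (p.1 : F) * a ^ 2 ^ (p.2 : ℕ) = p'.1 * a ^ 2 ^ (p'.2 : ℕ) := fun a => by rw [← hm, ← hm, h]
      have h2 : p.1 = p'.1 := Units.ext (by simpa using h1 1)
      refine Prod.ext h2 (Fin.ext (frob_inj hn p.2.2 p'.2.2 fun a => ?_))
      have := h1 a
      rw [← h2] at this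
      exact mul_left_cancel₀ p.1.ne_zero this
    · obtain ⟨φ, hφ⟩ := f.2
      obtain ⟨μ, i, hi, h⟩ := Φ_range_mem hF hn hq φ
      exact ⟨(μ, ⟨i, hi⟩), Subtype.ext (Equiv.ext fun a => by rw [hm, ← hφ, h])⟩
  rw [← Nat.card_congr (Equiv.ofBijective m hb), Nat.card_prod, Nat.card_units, Nat.card_eq_fintype_card (α := Fin _),
    Fintype.card_fin, Nat.card_eq_fintype_card, hn, mul_comm]

theorem pCore_aut {n : ℕ} (hn : Fintype.card F = (2 ^ n) ^ 2) (hq : 2 ≤ q) :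
    Cfsg.pCore 2 (MulAut ↥(Unitary3.unip (F := F) hF)) = (Φ hF hq).ker := by
  haveI : Fact (Nat.Prime 2) := ⟨Nat.prime_two⟩
  refine le_antisymm (fun p hp => ?_) ?_
  · obtain ⟨μ, i, hi, hμ⟩ := Φ_range_mem hF hn hq p
    have hp2 := Lib.PSolvable.pCore_isPGroup (p := 2) (G := MulAut ↥(Unitary3.unip (F := F) hF))
    have hpinj : ∀ (k : ℕ) (x : F), x ^ 2 ^ k = 1 → x = 1 := fun k x hx => by
      have : (x + 1) ^ 2 ^ k = 0 := by rw [add_pow_char_pow, hx, one_pow, Unitary3.c2]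
      exact CharTwo.add_eq_zero.mp (eq_zero_of_pow_eq_zero this)
    have hone : ∀ (c : MulAut ↥(Unitary3.unip (F := F) hF)) (ν : F), c ∈ Cfsg.pCore 2 (MulAut _) →
        (∀ a, Φ hF hq c a = ν * a) → ν = 1 := by
      intro c ν hc hν
      obtain ⟨k, hk⟩ := hp2 ⟨c, hc⟩
      have hk' : c ^ 2 ^ k = 1 := congrArg Subtype.val hk
      have hpow : ∀ (j : ℕ) (a : F), Φ hF hq (c ^ j) a = ν ^ j * a := by
        intro j
        induction j with
        | zero => intro a; simp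
        | succ j ih =>
          intro a
          rw [pow_succ, map_mul, Equiv.Perm.mul_apply, hν, ih, pow_succ, mul_assoc]
      refine hpinj k ν ?_
      have := hpow (2 ^ k) 1
      rw [hk', map_one (Φ hF hq), Equiv.Perm.one_apply, mul_one] at this
      exact this.symm
    have hlin : ∀ l : Fˣ, (l : F) ^ 2 ^ i = l := by
      intro l
      obtain ⟨t, ht⟩ := exists_semi hF hq l 0
      have ht' : ∀ a, Φ hF hq t a = l * a := fun a => by rw [ht, pow_zero, pow_one]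
      have hti : ∀ a, Φ hF hq t⁻¹ a = (l : F)⁻¹ * a := fun a => by
        apply (Φ hF hq t).injective
        rw [ht', ht', map_inv, mul_inv_cancel_left₀ l.ne_zero, ← ht', Equiv.Perm.coe_inv, Equiv.apply_symm_apply]
      have hmem : p * t * p⁻¹ * t⁻¹ ∈ Cfsg.pCore 2 (MulAut _) := by
        rw [show p * t * p⁻¹ * t⁻¹ = p * (t * p⁻¹ * t⁻¹) by group]
        exact mul_mem hp (Subgroup.Normal.conj_mem inferInstance _ (inv_mem hp) t)
      have := hone _ ((l : F) ^ 2 ^ i * (l : F)⁻¹) hmem fun a => by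
        obtain ⟨b, hb⟩ := (Φ hF hq p).surjective ((l : F)⁻¹ * a)
        rw [map_mul, map_mul, map_mul, Equiv.Perm.mul_apply, Equiv.Perm.mul_apply, Equiv.Perm.mul_apply, hti, map_inv]
        rw [← hb, Equiv.Perm.coe_inv, Equiv.symm_apply_apply, ht', hμ, mul_pow, mul_left_comm, ← hμ, hb]
        ring
      rw [← div_eq_mul_inv, div_eq_one_iff_eq l.ne_zero] at this
      exact this
    have hi0 : i = 0 := frob_inj hn hi (by omega) fun a => by
      rw [pow_zero, pow_one]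
      by_cases ha : a = 0
      · rw [ha, zero_pow (pow_ne_zero i two_ne_zero)]
      · exact hlin (Units.mk0 a ha)
    have hμ' : ∀ a, Φ hF hq p a = μ * a := fun a => by rw [hμ, hi0, pow_zero, pow_one]
    exact Equiv.ext fun a => by rw [hμ', hone p μ hp hμ', one_mul]; rfl
  · refine le_sSup ⟨inferInstance, fun x => ⟨1, Subtype.ext ?_⟩⟩
    exact (ker_elementary hF hq).2 x x.2

/-- Let S be a Sylow 2-subgroup of the special unitary group of dimension 3 with parameter q = 2^n (n ≥ 2; realised over the field with q² elements). Then the largest normal 2-subgroup of the automorphism group of S is elementary abelian of order 2^(2n²), and the automorphism group has order 2^(2n²) · 2n(q² − 1). -/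
theorem result {S : Type*} [Group S] [Finite S] (n : ℕ) (hn : 2 ≤ n) {F : Type*} [Field F] [Fintype F] (hF : Fintype.card F = 4 ^ n)
    (P : Sylow 2 ↥(Cfsg.SU 3 F (2 ^ n))) (hS : Nonempty (S ≃* ↥(P : Subgroup ↥(Cfsg.SU 3 F (2 ^ n))))) :
    Cfsg.IsElementaryAbelian 2 (Cfsg.pCore 2 (MulAut S)) ∧ Nat.card ↥(Cfsg.pCore 2 (MulAut S)) = 2 ^ (2 * n ^ 2) ∧
      Nat.card (MulAut S) = 2 ^ (2 * n ^ 2) * (2 * n * ((2 ^ n) ^ 2 - 1)) := by
  haveI : Fact (Nat.Prime 2) := ⟨Nat.prime_two⟩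
  haveI : CharP F 2 := charP_of_card_eq_prime_pow (f := 2 * n) (by rw [hF, pow_mul]; norm_num)
  have hn : Fintype.card F = (2 ^ n) ^ 2 := by rw [hF, ← pow_mul, mul_comm, pow_mul]; norm_num
  have hq : 2 ≤ 2 ^ n := Nat.le_self_pow (by omega) 2
  obtain ⟨eP⟩ := Cfsg.Agent.Lib.Unitary3.nonempty_sylow_equiv_unip (n := n) (by omega) hn P
  obtain ⟨eS⟩ := hS
  let E := MulAut.congr (eS.trans eP)
  have hcore : (Cfsg.pCore 2 (MulAut S)).map E.toMonoidHom = (Φ hn hq).ker := by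
    rw [Cfsg.Agent.Lib.PSolvable.map_pCore_equiv, pCore_aut hn hn hq]
  have hpow : 2 ^ (2 * n ^ 2) = (2 ^ n) ^ (2 * n) := by rw [← pow_mul]; congr 1; ring
  refine ⟨⟨⟨⟨fun a b => ?_⟩⟩, fun a ha => ?_⟩, ?_, ?_⟩
  · have ha : E a.1 ∈ (Φ hn hq).ker := hcore ▸ Subgroup.mem_map_of_mem _ a.2
    have hb : E b.1 ∈ (Φ hn hq).ker := hcore ▸ Subgroup.mem_map_of_mem _ b.2
    refine Subtype.ext (E.injective ?_)
    rw [Subgroup.coe_mul, Subgroup.coe_mul, map_mul, map_mul]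
    exact congrArg Subtype.val ((ker_elementary hn hq).1.is_comm.comm ⟨E a.1, ha⟩ ⟨E b.1, hb⟩)
  · apply E.injective
    rw [map_pow, map_one]
    exact (ker_elementary hn hq).2 _ (hcore ▸ Subgroup.mem_map_of_mem _ ha)
  · rw [← Subgroup.card_map_of_injective E.injective (f := E.toMonoidHom), hcore, natCard_ker hn hn hq, hpow]
  · rw [Nat.card_congr E.toEquiv, natCard_aut hn hn hq, hpow]

end Cfsg.Agent.S3162
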