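import Cfsg.Statements.S3171
import Mathlib
import Cfsg.Agent.Lib.Core.Nilpotent
import Cfsg.Agent.Lib.Golay.M24
import Cfsg.Agent.Lib.Golay.Simple
import Cfsg.Agent.Lib.H59.M24Syl.Abstract
import Cfsg.Agent.Lib.H59.M24Syl.Checks
-- import your own Cfsg.Agent.* helpers here

set_option autoImplicit false
open Cfsg

namespace Cfsg.Agent.S3171

open Cfsg.Agent.Lib.Compute (Coding GensOK PairOK genGroup genAt permOps pairOK_of_permCheck
  gensOK_of_pairCheck forceNat_eq)
open Cfsg.Agent.Lib.Compute.Mathieu (ptCoding ptEquiv)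
open Cfsg.Agent.Lib.H59.M24Syl

/-- The subgroup generated by the steps. -/
noncomputable def sylGroup : Subgroup (Equiv.Perm GolayPt) := pcGroup ptCoding Data.steps

/-- The large abelian subgroup. -/
noncomputable def abGroup : Subgroup (Equiv.Perm GolayPt) := pcGroup ptCoding Data.stepsA

theorem gens_steps : GensOK ptCoding (Data.steps.map Prod.fst) ∧ sylGroup ≤ Cfsg.M24 := by
  obtain ⟨h1, h2⟩ := gensOK_of_pairCheck ptEquiv (by decide) Lib.Compute.Mathieu.gensOK_m24
    Lib.Compute.Mathieu.m24Chain_ok pairs_ok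
  refine ⟨h1, ?_⟩
  rw [← Lib.Golay.genM24_eq_M24, Lib.Compute.Mathieu.genM24_eq]
  exact h2

theorem gens_stepsA : GensOK ptCoding (Data.stepsA.map Prod.fst) := fun p hp => gens_steps.1 p (by
  rw [Data.steps]
  simp only [List.map_cons, List.mem_cons]
  exact Or.inr (Or.inr (Or.inr hp)))

theorem gens_of_check {L : List (ℕ × ℕ)}
    (h : ∀ p ∈ L, Lib.Compute.permCheck 8 24 p.1 p.2 = true ∧
      Lib.Compute.packP 8 (Lib.Compute.getP 8 p.1) 24 = p.1 ∧
      Lib.Compute.packP 8 (Lib.Compute.getP 8 p.2) 24 = p.2) : GensOK ptCoding L := fun p hp =>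
  pairOK_of_permCheck ptEquiv (by decide) (h p hp).1 (h p hp).2.1 (h p hp).2.2

theorem gens_lifts : GensOK ptCoding Data.lifts := gens_of_check fun p hp => by
  have h := List.all_eq_true.1 lifts_ok p hp
  simp only [Bool.and_eq_true] at h
  exact ⟨h.1.1.1, Nat.eq_of_beq_eq_true h.1.1.2, Nat.eq_of_beq_eq_true h.1.2⟩

theorem gens_reps : GensOK ptCoding Data.reps := gens_of_check fun p hp => by
  have h := List.all_eq_true.1 reps_ok p hp
  simp only [Bool.and_eq_true] at h
  exact ⟨h.1.1, Nat.eq_of_beq_eq_true h.1.2, Nat.eq_of_beq_eq_true h.2⟩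

theorem lists_syl : Lists ptCoding sylGroup elemsP ∧ Nat.card ↥sylGroup = 2 ^ 10 ∧
    ∀ c ∈ elemsP, ∃ g ∈ sylGroup, ptCoding.enc g = c :=
  pc_spec ptCoding Data.steps gens_steps.1 steps_ok

theorem lists_ab : Lists ptCoding abGroup elemsA ∧ Nat.card ↥abGroup = 2 ^ 7 ∧
    ∀ c ∈ elemsA, ∃ g ∈ abGroup, ptCoding.enc g = c :=
  pc_spec ptCoding Data.stepsA gens_stepsA stepsA_ok

theorem ab_le : abGroup ≤ sylGroup := by
  intro g hg
  refine (lists_syl.1 g).2 ?_
  rw [elemsP, Data.steps]
  simp only [pcElems, List.mem_append]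
  exact Or.inl (Or.inl (Or.inl ((lists_ab.1 g).1 hg)))

section Abstract

variable {P : Type*} [Group P] [Finite P] (ι : P →* Equiv.Perm GolayPt)
  (hι : Function.Injective ι) (hr : ι.range = sylGroup)
include hι hr

theorem enc_mem (x : P) : ptCoding.enc (ι x) ∈ elemsP :=
  (lists_syl.1 _).1 (hr ▸ ⟨x, rfl⟩)

theorem exists_of_mem {c : ℕ} (hc : c ∈ elemsP) : ∃ x : P, ptCoding.enc (ι x) = c := by
  obtain ⟨g, hg, rfl⟩ := lists_syl.2.2 c hc
  obtain ⟨x, rfl⟩ : g ∈ ι.range := hr ▸ hg
  exact ⟨x, rfl⟩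

theorem card_eq : Nat.card P = 1024 := by
  rw [Nat.card_congr (MonoidHom.ofInjective hι).toEquiv, hr, lists_syl.2.1]
  norm_num

theorem mem_center_iff_code (x : P) : x ∈ Subgroup.center P ↔
    ptCoding.enc (ι x) ∈ [(O24).one, Data.zCode] := by
  rw [← eq_of_beqList center_ok, List.mem_filter, List.all_eq_true]
  constructor
  · intro hx
    refine ⟨enc_mem ι hι hr x, fun p hp => ?_⟩
    obtain ⟨g, -, hg, -⟩ := gens_steps.1 p hp
    obtain ⟨y, rfl⟩ : g ∈ ι.range := hr ▸ Subgroup.subset_closure ⟨p, hp, hg⟩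
    rw [← hg, ptCoding.mul_enc, ptCoding.mul_enc, ← map_mul, ← map_mul,
      Subgroup.mem_center_iff.1 hx y]
    exact Nat.beq_refl _
  · rintro ⟨-, hx⟩
    rw [Subgroup.mem_center_iff]
    intro y
    apply hι
    rw [map_mul, map_mul]
    have hy : ι y ∈ sylGroup := hr ▸ ⟨y, rfl⟩
    have hle : sylGroup ≤ Subgroup.centralizer ({ι x} : Set (Equiv.Perm GolayPt)) := by
      rw [sylGroup, pcGroup, genGroup, Subgroup.closure_le]
      rintro g ⟨p, hp, hg⟩
      rw [SetLike.mem_coe, Subgroup.mem_centralizer_singleton_iff]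
      apply ptCoding.inj
      rw [← ptCoding.mul_enc, ← ptCoding.mul_enc, hg]
      exact Nat.eq_of_beq_eq_true (hx p hp)
    exact Subgroup.mem_centralizer_singleton_iff.1 (hle hy)

theorem exists_z : ∃ z : P, z ∈ Subgroup.center P ∧ ptCoding.enc (ι z) = Data.zCode := by
  have hmem : Data.zCode ∈ elemsP.filter fun c =>
      (Data.steps.map Prod.fst).all fun g => Nat.beq (O24.mul g.1 c) (O24.mul c g.1) := by
    rw [eq_of_beqList center_ok]; simp
  obtain ⟨z, hz⟩ := exists_of_mem ι hι hr (List.mem_filter.1 hmem).1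
  exact ⟨z, (mem_center_iff_code ι hι hr z).2 (by rw [hz]; simp), hz⟩

theorem center_cases {z : P} (hz : ptCoding.enc (ι z) = Data.zCode) {k : P}
    (hk : k ∈ Subgroup.center P) : k = 1 ∨ k = z := by
  have h := (mem_center_iff_code ι hι hr k).1 hk
  rw [List.mem_cons, List.mem_singleton] at h
  rcases h with h | h
  · exact Or.inl (hι (ptCoding.inj (by rw [h, map_one, ptCoding.one_enc])))
  · exact Or.inr (hι (ptCoding.inj (h.trans hz.symm)))

theorem card_center : Nat.card ↥(Subgroup.center P) = 2 := by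
  obtain ⟨z, hz, hze⟩ := exists_z ι hι hr
  have hne : z ≠ 1 := by
    rintro rfl
    rw [map_one, ptCoding.one_enc] at hze
    exact absurd hze (by decide +kernel)
  rw [Nat.card_eq_two_iff' (⟨1, one_mem _⟩ : ↥(Subgroup.center P))]
  refine ⟨⟨z, hz⟩, fun h => hne (congrArg Subtype.val h), ?_⟩
  rintro ⟨k, hk⟩ hk1
  rcases center_cases ι hι hr hze hk with rfl | rfl
  · exact absurd rfl hk1
  · rfl

theorem commute_mk_iff (a b : P) :
    (a : P ⧸ Subgroup.center P) * b = b * a ↔ cmz (ptCoding.enc (ι a)) (ptCoding.enc (ι b)) = true := by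
  obtain ⟨z, hz, hze⟩ := exists_z ι hι hr
  rw [cmz, forceNat_eq, forceNat_eq, Bool.or_eq_true, ← hze, ptCoding.mul_enc, ptCoding.mul_enc,
    ptCoding.mul_enc, ← map_mul, ← map_mul, ← map_mul, ← QuotientGroup.mk_mul,
    ← QuotientGroup.mk_mul, eq_comm, QuotientGroup.eq, Nat.beq_eq, Nat.beq_eq,
    ptCoding.inj.eq_iff, hι.eq_iff, ptCoding.inj.eq_iff, hι.eq_iff]
  constructor
  · intro h
    rcases center_cases ι hι hr hze h with h' | h'
    · exact Or.inl (inv_mul_eq_one.1 h').symm
    · refine Or.inr ?_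
      rw [inv_mul_eq_iff_eq_mul] at h'
      rw [h', Subgroup.mem_center_iff.1 hz]
  · rintro (h | h)
    · rw [h, inv_mul_cancel]; exact one_mem _
    · rw [h, ← Subgroup.mem_center_iff.1 hz (b * a), inv_mul_cancel_left]
      exact hz

theorem card_comap (K : Subgroup (P ⧸ Subgroup.center P)) :
    Nat.card ↥(K.comap (QuotientGroup.mk' (Subgroup.center P))) = 2 * Nat.card ↥K := by
  have h1 := (K.comap (QuotientGroup.mk' (Subgroup.center P))).card_mul_index
  rw [Subgroup.index_comap_of_surjective _ (QuotientGroup.mk'_surjective _), card_eq ι hι hr] at h1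
  have h2 := K.card_mul_index
  have h3 := Subgroup.card_eq_card_quotient_mul_card_subgroup (Subgroup.center P)
  rw [card_center ι hι hr, card_eq ι hι hr] at h3
  have h4 : Nat.card (P ⧸ Subgroup.center P) = 512 := by omega
  rw [h4] at h2
  refine Nat.eq_of_mul_eq_mul_right (Nat.pos_of_ne_zero (Subgroup.index_ne_zero_of_finite (H := K))) ?_
  rw [h1, mul_assoc, h2]
  norm_num

theorem card_quot : Nat.card (P ⧸ Subgroup.center P) = 512 := by
  have h3 := Subgroup.card_eq_card_quotient_mul_card_subgroup (Subgroup.center P)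
  rw [card_center ι hι hr, card_eq ι hι hr] at h3
  omega

theorem two_mul_card_le {K : Subgroup (P ⧸ Subgroup.center P)} {l : List ℕ}
    (h : ∀ x : P, (x : P ⧸ Subgroup.center P) ∈ K → ptCoding.enc (ι x) ∈ l) :
    2 * Nat.card ↥K ≤ l.length := by
  rw [← card_comap ι hι hr, ← Subgroup.card_map_of_injective hι]
  refine card_le_length ptCoding ?_
  rintro _ ⟨x, hx, rfl⟩
  exact h x hx

theorem coord_exists (x : P) : ∃ i < 8, ∃ r a : P,
    ptCoding.enc (ι r) = repCode i ∧ ι a ∈ abGroup ∧ x = r * a := by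
  have h := enc_mem ι hι hr x
  rw [eq_of_beqList coset_ok, List.mem_flatMap] at h
  obtain ⟨i, hi, h⟩ := h
  obtain ⟨c, hc, he⟩ := List.mem_map.1 h
  obtain ⟨g, hg, rfl⟩ := lists_ab.2.2 c hc
  obtain ⟨a, rfl⟩ : g ∈ ι.range := hr ▸ ab_le hg
  obtain ⟨r0, -, hr0, -⟩ : PairOK ptCoding ⊤ (genAt Data.reps O24 i) :=
    Lib.Compute.PairOK.mono _ le_top (Lib.Compute.pairOK_genAt ptCoding gens_reps i)
  have hx : ι x = r0 * ι a := ptCoding.inj (by rw [← ptCoding.mul_enc, hr0]; exact he.symm)
  refine ⟨i, List.mem_range.1 hi, x * a⁻¹, a, ?_, hg, (inv_mul_cancel_right x a).symm⟩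
  rw [map_mul, map_inv, hx, mul_inv_cancel_right]
  exact hr0

set_option maxHeartbeats 1000000 in
theorem all_claims :
    (∀ M : Subgroup (P ⧸ Subgroup.center P), IsCoatom M → Nat.card ↥(Subgroup.center ↥M) ≤ 8) ∧
      (∃ A : Subgroup (P ⧸ Subgroup.center P), Cfsg.IsElementaryAbelian 2 A ∧ Nat.card ↥A = 64) ∧
      ∀ A B : Subgroup (P ⧸ Subgroup.center P), IsMulCommutative ↥A → Nat.card ↥A = 64 →
        IsMulCommutative ↥B → Nat.card ↥B = 64 → A = B := by
  classical
  have hp : IsPGroup 2 P := IsPGroup.of_card (n := 10) (by rw [card_eq ι hι hr]; norm_num)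
  have : Fact (Nat.Prime 2) := ⟨Nat.prime_two⟩
  -- the large abelian subgroup
  set A' : Subgroup P := abGroup.comap ι with hA'
  set A₀ := A'.map (QuotientGroup.mk' (Subgroup.center P)) with hA₀
  have hgensA : ∀ a ∈ A', ∀ p ∈ Data.stepsA.map Prod.fst, ∀ g : P,
      ptCoding.enc (ι g) = p.1 → (g : P ⧸ (Subgroup.center P)) * a = a * g := by
    intro a ha p hp g hg
    rw [commute_mk_iff ι hι hr, hg]
    exact List.all_eq_true.1 (List.all_eq_true.1 elemA_ok p hp) _ ((lists_ab.1 _).1 ha)
  have habA : ∀ a ∈ A', ∀ b ∈ A', (a : P ⧸ (Subgroup.center P)) * b = b * a := by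
    intro a ha b hb
    have hle : abGroup ≤ ((Subgroup.centralizer {(b : P ⧸ (Subgroup.center P))}).comap (QuotientGroup.mk' (Subgroup.center P))).map ι := by
      rw [abGroup, pcGroup, genGroup, Subgroup.closure_le]
      rintro g ⟨p, hp, hg⟩
      obtain ⟨g', rfl⟩ : g ∈ ι.range :=
        hr ▸ ab_le (show g ∈ abGroup from Subgroup.subset_closure ⟨p, hp, hg⟩)
      refine ⟨g', ?_, rfl⟩
      rw [SetLike.mem_coe, Subgroup.mem_comap, Subgroup.mem_centralizer_singleton_iff]
      exact hgensA b hb p hp g' hg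
    obtain ⟨a', ha', he⟩ := hle ha
    rw [hι he, SetLike.mem_coe, Subgroup.mem_comap, Subgroup.mem_centralizer_singleton_iff] at ha'
    exact ha'
  have hzA : ∀ k ∈ (Subgroup.center P), k ∈ A' := by
    intro k hk
    obtain ⟨z, -, hze⟩ := exists_z ι hι hr
    rcases center_cases ι hι hr hze hk with rfl | rfl
    · exact one_mem _
    · refine (lists_ab.1 _).2 ?_
      rw [hze]
      exact memN_iff.1 (by decide +kernel)
  have hcomapA : A₀.comap (QuotientGroup.mk' (Subgroup.center P)) = A' := by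
    rw [hA₀, Subgroup.comap_map_eq_self]
    rw [QuotientGroup.ker_mk']
    exact hzA
  have hcardA : Nat.card ↥A₀ = 64 := by
    have h := card_comap ι hι hr A₀
    rw [hcomapA, ← Subgroup.card_map_of_injective hι, hA', Subgroup.map_comap_eq_self (hr ▸ ab_le),
      lists_ab.2.1] at h
    exact Nat.eq_of_mul_eq_mul_left (by norm_num : 0 < 2) (h.symm.trans (by norm_num))
  have hmemA : ∀ x : P, (x : P ⧸ (Subgroup.center P)) ∈ A₀ ↔ x ∈ A' := fun x => by rw [← hcomapA]; rfl
  have hAnormal : A₀.Normal := by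
    refine ⟨fun u hu v => ?_⟩
    obtain ⟨a, rfl⟩ := QuotientGroup.mk'_surjective (Subgroup.center P) u
    obtain ⟨x, rfl⟩ := QuotientGroup.mk'_surjective (Subgroup.center P) v
    have ha : a ∈ A' := (hmemA a).1 hu
    obtain ⟨i, hi, r, b, hr', hb, rfl⟩ := coord_exists ι hι hr x
    rw [← map_inv, ← map_mul, ← map_mul, QuotientGroup.mk'_apply, hmemA]
    have hmid : b * a * b⁻¹ ∈ A' := mul_mem (mul_mem hb ha) (inv_mem hb)
    have hle : abGroup ≤ abGroup.comap (MulAut.conj (ι r)).toMonoidHom := by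
      rw [abGroup, pcGroup, genGroup, Subgroup.closure_le]
      rintro g ⟨p, hp, hg⟩
      show ι r * g * (ι r)⁻¹ ∈ abGroup
      refine (lists_ab.1 _).2 ?_
      obtain ⟨r1, -, e1, e2⟩ := Lib.Compute.pairOK_genAt ptCoding gens_reps i
      have : ι r = r1 := ptCoding.inj (hr'.trans e1.symm)
      rw [this, ← ptCoding.mul_enc, ← ptCoding.mul_enc, hg, e1, e2]
      exact memN_iff.1 (List.all_eq_true.1 (List.all_eq_true.1 normalA_ok i (List.mem_range.2 hi)) p hp)
    have h2 := hle (show ι (b * a * b⁻¹) ∈ abGroup from hmid)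
    show ι (r * b * a * (r * b)⁻¹) ∈ abGroup
    rw [show r * b * a * (r * b)⁻¹ = r * (b * a * b⁻¹) * r⁻¹ by group, map_mul, map_mul ι r,
      map_inv]
    exact h2
  have hrep : ∀ x : P, (x : P ⧸ (Subgroup.center P)) ∉ A₀ → ∃ i < 8, i ≠ 0 ∧ ∃ r a : P,
      ptCoding.enc (ι r) = repCode i ∧ a ∈ A' ∧ x = r * a := by
    intro x hx
    obtain ⟨i, hi, r, a, hr', ha, rfl⟩ := coord_exists ι hι hr x
    refine ⟨i, hi, ?_, r, a, hr', ha, rfl⟩
    rintro rfl
    apply hx
    rw [hmemA]
    refine mul_mem ?_ ha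
    rw [Nat.eq_of_beq_eq_true repZero_ok, ← ptCoding.one_enc] at hr'
    show ι r ∈ abGroup
    rw [ptCoding.inj hr']
    exact one_mem _
  have hcent : ∀ (S : Set (P ⧸ (Subgroup.center P))) (x : P) (i : ℕ) (r a : P), (x : P ⧸ (Subgroup.center P)) ∈ S →
      ptCoding.enc (ι r) = repCode i → a ∈ A' → x = r * a →
      ∀ y : P, (y : P ⧸ (Subgroup.center P)) ∈ A₀ ⊓ Subgroup.centralizer S →
        cmz (repCode i) (ptCoding.enc (ι y)) = true := by
    intro S x i r a hxS hr' ha hxe y hy
    obtain ⟨hyA, hyC⟩ := hy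
    rw [← hr', ← commute_mk_iff ι hι hr]
    have h1 := Subgroup.mem_centralizer_iff.1 hyC _ hxS
    have h2 := habA a ha y ((hmemA y).1 hyA)
    rw [hxe, QuotientGroup.mk_mul, mul_assoc, h2, ← mul_assoc, ← mul_assoc] at h1
    exact mul_right_cancel h1
  have hfix : ∀ i, i < 8 → ∀ j, j < 8 → i ≠ 0 → j ≠ 0 →
      (elemsA.filter fun a => cmz (repCode i) a && cmz (repCode j) a).length ≤
        (if i = j then 32 else 16) := by
    intro i hi j hj hi0 hj0
    have h := List.all_eq_true.1 (List.all_eq_true.1 fixed_ok i (List.mem_range.2 hi)) j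
      (List.mem_range.2 hj)
    simp only [Bool.or_eq_true, Nat.beq_eq] at h
    rcases h with (h | h) | h
    · exact absurd h hi0
    · exact absurd h hj0
    split_ifs at h ⊢ <;> first | exact Nat.le_of_ble_eq_true h | simp_all
  have hAS : ∀ (y : P) (S : Set (P ⧸ (Subgroup.center P))), (y : P ⧸ (Subgroup.center P)) ∈ A₀ ⊓ Subgroup.centralizer S →
      ptCoding.enc (ι y) ∈ elemsA := fun y S hy => (lists_ab.1 _).1 ((hmemA y).1 hy.1)
  have huniq := fun (A : Subgroup (P ⧸ (Subgroup.center P))) (hA : IsMulCommutative ↥A) (hc : Nat.card ↥A = 64) =>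
    Lib.H59.M24Syl.eq_of_abelian (card_quot ι hι hr) A₀ hcardA
      (fun u hu => by
        obtain ⟨x, rfl⟩ := QuotientGroup.mk'_surjective (Subgroup.center P) u
        obtain ⟨i, hi, hi0, r, a, hr', ha, hxe⟩ := hrep x hu
        have h := two_mul_card_le ι hι hr (K := A₀ ⊓ Subgroup.centralizer {(x : P ⧸ (Subgroup.center P))})
          (l := elemsA.filter fun a => cmz (repCode i) a && cmz (repCode i) a) fun y hy =>
          List.mem_filter.2 ⟨hAS y _ hy, by
            rw [Bool.and_self]; exact hcent {(x : P ⧸ (Subgroup.center P))} x i r a (Set.mem_singleton _) hr' ha hxe y hy⟩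
        have h' := hfix i hi i hi hi0 hi0
        rw [if_pos rfl] at h'
        exact (show Nat.card ↥(A₀ ⊓ Subgroup.centralizer {(x : P ⧸ (Subgroup.center P))}) < 32 by omega))
      (fun u v hu hv huv => by
        obtain ⟨x, rfl⟩ := QuotientGroup.mk'_surjective (Subgroup.center P) u
        obtain ⟨y, rfl⟩ := QuotientGroup.mk'_surjective (Subgroup.center P) v
        obtain ⟨i, hi, hi0, r, a, hr', ha, hxe⟩ := hrep x hu
        obtain ⟨j, hj, hj0, r', a', hr'', ha', hye⟩ := hrep y hv
        have hij : i ≠ j := by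
          rintro rfl
          apply huv
          have : r' = r := hι (ptCoding.inj (hr''.trans hr'.symm))
          rw [← map_inv, ← map_mul, QuotientGroup.mk'_apply, hmemA, hxe, hye, this, mul_inv_rev,
            mul_assoc, inv_mul_cancel_left]
          exact mul_mem (inv_mem ha) ha'
        have h := two_mul_card_le ι hι hr
          (K := A₀ ⊓ Subgroup.centralizer {(x : P ⧸ (Subgroup.center P)), (y : P ⧸ (Subgroup.center P))})
          (l := elemsA.filter fun a => cmz (repCode i) a && cmz (repCode j) a) fun w hw =>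
          List.mem_filter.2 ⟨hAS w _ hw, by
            rw [Bool.and_eq_true]
            exact ⟨hcent {(x : P ⧸ (Subgroup.center P)), (y : P ⧸ (Subgroup.center P))} x i r a (Set.mem_insert _ _) hr' ha hxe w hw,
              hcent {(x : P ⧸ (Subgroup.center P)), (y : P ⧸ (Subgroup.center P))} y j r' a' (Set.mem_insert_of_mem _ rfl) hr'' ha' hye w hw⟩⟩
        have h' := hfix i hi j hj hi0 hj0
        rw [if_neg hij] at h'
        exact (show Nat.card ↥(A₀ ⊓ Subgroup.centralizer {(x : P ⧸ (Subgroup.center P)), (y : P ⧸ (Subgroup.center P))}) < 16 by omega))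
      (by
        obtain ⟨g1, hm1, e1, f1⟩ := Lib.Compute.pairOK_genAt ptCoding gens_reps 1
        obtain ⟨g4, hm4, e4, f4⟩ := Lib.Compute.pairOK_genAt ptCoding gens_reps 4
        have hrepmem : ∀ i ∈ [1, 4], repCode i ∈ elemsP := by
          intro i hi
          rw [eq_of_beqList coset_ok, List.mem_flatMap]
          refine ⟨i, List.mem_range.2 (by simp at hi; omega), List.mem_map.2
            ⟨ptCoding.enc 1, (lists_ab.1 1).1 (one_mem _), ?_⟩⟩
          obtain ⟨g, -, hg, -⟩ := Lib.Compute.pairOK_genAt ptCoding gens_reps i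
          rw [repCode, ← hg, ptCoding.mul_enc, mul_one]
        obtain ⟨x, hx⟩ := exists_of_mem ι hι hr (hrepmem 1 (by simp))
        obtain ⟨y, hy⟩ := exists_of_mem ι hι hr (hrepmem 4 (by simp))
        refine ⟨(x : P ⧸ (Subgroup.center P)), (y : P ⧸ (Subgroup.center P)), ?_⟩
        rw [← QuotientGroup.mk_mul, ← QuotientGroup.mk_mul, ← QuotientGroup.mk_inv,
          ← QuotientGroup.mk_mul, hmemA]
        intro h
        have h1 := memN_iff.2 ((lists_ab.1 _).1 h)
        have hx' : ι x = g1 := ptCoding.inj (hx.trans e1.symm)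
        have hy' : ι y = g4 := ptCoding.inj (hy.trans e4.symm)
        rw [map_mul, map_inv, map_mul, map_mul, hx', hy', mul_inv_rev, ← ptCoding.mul_enc,
          ← ptCoding.mul_enc, ← ptCoding.mul_enc, f1, f4] at h1
        rw [show (genAt Data.reps O24 1).1 = repCode 1 from rfl] at e1
        rw [show (genAt Data.reps O24 4).1 = repCode 4 from rfl] at e4
        rw [e1, e4, nonabelian_ok] at h1
        exact absurd h1 (by simp))
      A (fun a ha b hb => congrArg Subtype.val (hA.is_comm.comm (⟨a, ha⟩ : ↥A) ⟨b, hb⟩)) hc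
  refine ⟨?_, ⟨A₀, ⟨⟨⟨fun u v => ?_⟩⟩, ?_⟩, hcardA⟩, fun A B hA hA' hB hB' =>
    (huniq A hA hA').trans (huniq B hB hB').symm⟩
  · intro M hM
    have hQp : IsPGroup 2 (P ⧸ (Subgroup.center P)) := hp.to_quotient (Subgroup.center P)
    obtain ⟨hMn, hMi⟩ := Lib.Nilp.index_coatom_of_isPGroup (p := 2) hQp hM
    have hliftmem : ∀ i, ∃ g : P, ptCoding.enc (ι g) = (genAt Data.lifts O24 i).1 ∧
        ptCoding.enc (ι g)⁻¹ = (genAt Data.lifts O24 i).2 := by
      intro i
      obtain ⟨g, hg, e1, e2⟩ := Lib.Compute.pairOK_genAt ptCoding gens_lifts i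
      have hle : genGroup ptCoding Data.lifts ≤ ι.range := by
        rw [genGroup, Subgroup.closure_le]
        rintro k ⟨p, hp, hk⟩
        have h := List.all_eq_true.1 lifts_ok p hp
        simp only [Bool.and_eq_true] at h
        rw [hr]
        exact (lists_syl.1 k).2 (hk ▸ memN_iff.1 h.2)
      obtain ⟨g', rfl⟩ := hle hg
      exact ⟨g', e1, e2⟩
    choose l hl hlinv using hliftmem
    let b : List Bool := [decide ((l 0 : P ⧸ (Subgroup.center P)) ∉ M), decide ((l 1 : P ⧸ (Subgroup.center P)) ∉ M),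
      decide ((l 2 : P ⧸ (Subgroup.center P)) ∉ M), decide ((l 3 : P ⧸ (Subgroup.center P)) ∉ M)]
    have hb : ∀ i < 4, b.getD i false = decide ((l i : P ⧸ (Subgroup.center P)) ∉ M) := by
      intro i hi
      interval_cases i <;> rfl
    have hsome : ∃ i < 4, (l i : P ⧸ (Subgroup.center P)) ∉ M := by
      by_contra hall
      push Not at hall
      apply hM.1
      rw [eq_top_iff]
      intro u _
      obtain ⟨x, rfl⟩ := QuotientGroup.mk'_surjective (Subgroup.center P) u
      have hle : sylGroup ≤ (M.comap (QuotientGroup.mk' (Subgroup.center P))).map ι := by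
        rw [sylGroup, pcGroup, genGroup, Subgroup.closure_le]
        rintro g ⟨p, hp, hg⟩
        have hmem : p.1 ∈ Data.words.map wordVal := by
          rw [← eq_of_beqList words_ok]
          exact List.mem_map.2 ⟨p, hp, rfl⟩
        obtain ⟨w, -, hw⟩ := List.mem_map.1 hmem
        have hword : ∀ w : List ℕ, ∃ y : P, (y : P ⧸ (Subgroup.center P)) ∈ M ∧ ptCoding.enc (ι y) = wordVal w := by
          intro w
          induction w with
          | nil => exact ⟨1, by simp [one_mem], by rw [map_one, ptCoding.one_enc]; rfl⟩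
          | cons i w ih =>
            obtain ⟨y, hyM, hy⟩ := ih
            have hli : (l i : P ⧸ (Subgroup.center P)) ∈ M := by
              by_cases hi : i < 4
              · exact hall i hi
              · have h1 : genAt Data.lifts O24 i = (O24.one, O24.one) :=
                  List.getD_eq_default _ _ (by
                    rw [show Data.lifts.length = 4 from rfl]; omega)
                have h2 : ptCoding.enc (ι (l i)) = ptCoding.enc 1 := by
                  rw [hl i, h1, ptCoding.one_enc]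
                rw [hι ((ptCoding.inj h2).trans (map_one ι).symm)]
                simp [one_mem]
            refine ⟨l i * y, by rw [QuotientGroup.mk_mul]; exact mul_mem hli hyM, ?_⟩
            rw [map_mul, ← ptCoding.mul_enc, hl, hy]
            simp only [wordVal, List.foldr_cons, forceNat_eq]
        obtain ⟨y, hyM, hy⟩ := hword w
        exact ⟨y, hyM, ptCoding.inj (by rw [hy, hw, hg])⟩
      obtain ⟨x', hx', he⟩ := hle (show ι x ∈ sylGroup from hr ▸ ⟨x, rfl⟩)
      rw [hι he] at hx'
      exact hx'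
    have hcase : b ∈ Data.cases.map Prod.fst := by
      refine cases_cover _ _ _ _ ?_
      obtain ⟨i, hi, hiM⟩ := hsome
      interval_cases i <;> simp [hiM]
    obtain ⟨⟨b', gl⟩, he, hbe⟩ := List.mem_map.1 hcase
    simp only at hbe
    subst hbe
    have hchk := List.all_eq_true.1 cases_ok _ he
    simp only [Bool.and_eq_true] at hchk
    obtain ⟨hgl, hlen⟩ := hchk
    have hlen := Nat.le_of_ble_eq_true hlen
    have hgl := eq_of_beqList hgl
    subst hgl
    have hglM : ∀ c ∈ glOf b, ∃ g : P, ptCoding.enc (ι g) = c ∧ (g : P ⧸ (Subgroup.center P)) ∈ M := by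
      have hmemb : ∀ i, i ∈ (List.range 4).filter (fun i => b.getD i false) →
          (l i : P ⧸ (Subgroup.center P)) ∉ M := by
        intro i hi
        rw [List.mem_filter, List.mem_range] at hi
        obtain ⟨hi4, hib⟩ := hi
        rw [hb i hi4] at hib
        simpa using hib
      have hmemn : ∀ i, i ∈ (List.range 4).filter (fun i => !b.getD i false) →
          (l i : P ⧸ (Subgroup.center P)) ∈ M := by
        intro i hi
        rw [List.mem_filter, List.mem_range] at hi
        obtain ⟨hi4, hib⟩ := hi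
        rw [hb i hi4] at hib
        simpa using hib
      intro c hc
      simp only [glOf, List.mem_append, List.mem_map, List.mem_flatMap] at hc
      rcases hc with (⟨i, hi, rfl⟩ | ⟨i, hi, j, hj, rfl⟩) | ⟨j, hj, i, hi, rfl⟩
      · exact ⟨l i, hl i, hmemn i hi⟩
      · refine ⟨l i * l j, by rw [map_mul, ← ptCoding.mul_enc, hl, hl], ?_⟩
        rw [QuotientGroup.mk_mul, Subgroup.mul_mem_iff_of_index_two hMi]
        exact iff_of_false (hmemb i hi) (hmemb j hj)
      · refine ⟨l j * l i * (l j)⁻¹, by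
          rw [map_mul, map_mul, map_inv, ← ptCoding.mul_enc, ← ptCoding.mul_enc, hl, hl, hlinv], ?_⟩
        rw [QuotientGroup.mk_mul, QuotientGroup.mk_mul, QuotientGroup.mk_inv]
        exact hMn.conj_mem _ (hmemn i hi) _
    rw [← Subgroup.card_map_of_injective M.subtype_injective]
    have hfold : ∀ (gs : List ℕ) (acc : List ℕ) (c : ℕ), c ∈ acc →
        (∀ g ∈ gs, cmz g c = true) →
        c ∈ gs.foldl (fun acc g => acc.filter fun c => cmz g c) acc := by
      intro gs
      induction gs with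
      | nil => exact fun acc c hc _ => hc
      | cons g gs ih =>
        intro acc c hc hall
        exact ih _ c (List.mem_filter.2 ⟨hc, hall g List.mem_cons_self⟩) fun k hk =>
          hall k (List.mem_cons_of_mem _ hk)
    have h := two_mul_card_le ι hι hr (K := (Subgroup.center ↥M).map M.subtype)
      (l := (glOf b).foldl (fun acc g => acc.filter fun c => cmz g c) elemsP) fun x hx => by
      refine hfold _ _ _ (enc_mem ι hι hr x) fun c hc => ?_
      obtain ⟨g, rfl, hgM⟩ := hglM c hc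
      obtain ⟨⟨x', hxM⟩, hxc, hxe⟩ := hx
      rw [← commute_mk_iff ι hι hr]
      have := congrArg Subtype.val (Subgroup.mem_center_iff.1 hxc ⟨_, hgM⟩)
      simp only [Subgroup.subtype_apply] at hxe
      subst hxe
      exact this
    omega
  · obtain ⟨⟨u, hu⟩, ⟨v, hv⟩⟩ := u, v
    obtain ⟨a, ha, rfl⟩ := hu
    obtain ⟨c, hc, rfl⟩ := hv
    exact Subtype.ext (habA a ha c hc)
  · rintro _ ⟨a, ha, rfl⟩
    rw [← map_pow, QuotientGroup.mk'_apply, QuotientGroup.eq_one_iff,
      mem_center_iff_code ι hι hr, pow_two, map_mul, ← ptCoding.mul_enc]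
    exact memN_iff.1 (List.all_eq_true.1 squareA_ok _ ((lists_ab.1 _).1 ha))

end Abstract

/-- Let P be a Sylow 2-subgroup of the Mathieu group of degree 24 and S the quotient of P by its centre. Then the centre of every maximal subgroup of S has order at most 8; S has an elementary abelian subgroup of order 64; and S has only one abelian subgroup of order 64. -/
theorem result (P : Sylow 2 ↥Cfsg.M24) :
    (∀ M : Subgroup (↥(P : Subgroup ↥Cfsg.M24) ⧸ Subgroup.center ↥(P : Subgroup ↥Cfsg.M24)), IsCoatom M →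
        Nat.card ↥(Subgroup.center ↥M) ≤ 8) ∧
      (∃ A : Subgroup (↥(P : Subgroup ↥Cfsg.M24) ⧸ Subgroup.center ↥(P : Subgroup ↥Cfsg.M24)),
        Cfsg.IsElementaryAbelian 2 A ∧ Nat.card ↥A = 64) ∧
      ∀ A B : Subgroup (↥(P : Subgroup ↥Cfsg.M24) ⧸ Subgroup.center ↥(P : Subgroup ↥Cfsg.M24)),
        IsMulCommutative ↥A → Nat.card ↥A = 64 → IsMulCommutative ↥B → Nat.card ↥B = 64 → A = B := by
  have : Fact (Nat.Prime 2) := ⟨Nat.prime_two⟩
  have hle := gens_steps.2
  have hcard := lists_syl.2.1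
  let H : Subgroup ↥Cfsg.M24 := sylGroup.subgroupOf Cfsg.M24
  have hH : Nat.card ↥H = 2 ^ 10 := by
    rw [Nat.card_congr (Subgroup.subgroupOfEquivOfLe hle).toEquiv, hcard]
  obtain ⟨Q, hQ⟩ := (IsPGroup.of_card (p := 2) hH).exists_le_sylow
  have hQH : (Q : Subgroup ↥Cfsg.M24) = H := by
    obtain ⟨n, hn⟩ := Q.isPGroup'.exists_card_eq
    have hn10 : n ≤ 10 := by
      by_contra hgt
      have h1 : 2 ^ 11 ∣ Nat.card ↥Cfsg.M24 :=
        (Nat.pow_dvd_pow 2 (by omega : 11 ≤ n)).trans (hn ▸ Subgroup.card_subgroup_dvd_card _)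
      rw [Lib.Golay.card_M24] at h1
      norm_num at h1
    refine (Subgroup.eq_of_le_of_card_ge hQ ?_).symm
    rw [hn, hH]
    exact Nat.pow_le_pow_right (by norm_num) hn10
  let e : ↥(P : Subgroup ↥Cfsg.M24) ≃* ↥H := (P.equiv Q).trans (MulEquiv.subgroupCongr hQH)
  let ι : ↥(P : Subgroup ↥Cfsg.M24) →* Equiv.Perm GolayPt :=
    Cfsg.M24.subtype.comp (H.subtype.comp e.toMonoidHom)
  refine all_claims ι
    (Cfsg.M24.subtype_injective.comp (H.subtype_injective.comp e.injective)) ?_
  ext g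
  constructor
  · rintro ⟨x, rfl⟩
    exact (e x).2
  · intro hg
    exact ⟨e.symm ⟨⟨g, hle hg⟩, hg⟩, by simp [ι]⟩

end Cfsg.Agent.S3171
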