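import Cfsg.Statements.S3174
import Mathlib
import Cfsg.Agent.Lib.H59.Rud.Centre
-- import your own Cfsg.Agent.* helpers here

set_option autoImplicit false
open Cfsg

namespace Cfsg.Agent.S3174

/-- Let T be a finite 2-group of order at least 2^14 in which the fourth term of the upper central series has order 16. Let W be the centralizer in T of the third term Z₃(T), and suppose the Frattini subgroup of W has order at most 8 and lies in every subgroup of W of index at most 16. Then T has order exactly 2^14; the derived subgroup of W and the Frattini subgroup of W both equal Z₃(T), which is elementary abelian of order 8; the centre of W has order 8; W is normal in T with quotient dihedral of order 8; and W modulo its derived subgroup is elementary abelian of order 2^8. -/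
theorem result {T : Type*} [Group T] [Finite T]
    (hT : IsPGroup 2 T) (ha : 2 ^ 14 ≤ Nat.card T) (hb : Nat.card ↥(Subgroup.upperCentralSeries T 4) = 16)
    (W : Subgroup T) (hW : W = Subgroup.centralizer ((Subgroup.upperCentralSeries T 3 : Subgroup T) : Set T))
    (hc : Nat.card ↥(frattini ↥W) ≤ 8) (hd : ∀ U : Subgroup ↥W, U.index ≤ 16 → frattini ↥W ≤ U) :
    Nat.card T = 2 ^ 14 ∧
      (commutator ↥W).map W.subtype = Subgroup.upperCentralSeries T 3 ∧
      (frattini ↥W).map W.subtype = Subgroup.upperCentralSeries T 3 ∧
      Nat.card ↥(Subgroup.center ↥W) = 8 ∧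
      Nat.card ↥(Subgroup.upperCentralSeries T 3) = 8 ∧ (∀ z ∈ Subgroup.upperCentralSeries T 3, z ^ 2 = 1) ∧
      (∃ (_ : W.Normal), Nonempty (T ⧸ W ≃* DihedralGroup 4)) ∧
      Nat.card (↥W ⧸ commutator ↥W) = 2 ^ 8 ∧ (∀ x : ↥W ⧸ commutator ↥W, x ^ 2 = 1) := by
  obtain ⟨hn, ⟨c⟩⟩ := Lib.H59.Rud.exists_core hT ha hb W hW hc
  have : Fact (Nat.Prime 2) := ⟨Nat.prime_two⟩
  have hder := c.derived_eq hT ha hb hd
  have hcard3 := Lib.H59.Rud.card_series hT ha hb 3 (by norm_num)
  refine ⟨c.card_T, hder, c.frattini_eq, ?_, by rw [hcard3]; norm_num,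
    c.exponent_two hT ha hb hd, ⟨hn, c.nonempty_dihedral hT ha hb hd⟩, ?_, ?_⟩
  · have hle : Subgroup.upperCentralSeries T 3 ≤ (Subgroup.center ↥W).map W.subtype := fun z hz =>
      ⟨⟨z, c.le_W3 hz⟩, Subgroup.mem_center_iff.2 fun w =>
        (c.commute_of_mem ⟨z, c.le_W3 hz⟩ w hz).symm, rfl⟩
    rw [← Subgroup.card_map_of_injective W.subtype_injective,
      le_antisymm (c.center_le hT ha hb hd) hle, hcard3]
    norm_num
  · have h1 := congrArg (fun H : Subgroup T => Nat.card ↥H) hder
    simp only [Subgroup.card_map_of_injective W.subtype_injective, hcard3] at h1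
    have h2 := Subgroup.card_eq_card_quotient_mul_card_subgroup (commutator ↥W)
    rw [c.card_W, h1] at h2
    omega
  · intro x
    induction x using QuotientGroup.induction_on with
    | _ w =>
      rw [← QuotientGroup.mk_pow, QuotientGroup.eq_one_iff]
      have h := c.sq_mem hT w
      rw [← hder] at h
      exact (Subgroup.mem_map_iff_mem W.subtype_injective).1 h

end Cfsg.Agent.S3174
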