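import Cfsg.Statements.S3175
import Mathlib
import Cfsg.Agent.Lib.H59.Rud.Quotient
-- import your own Cfsg.Agent.* helpers here

set_option autoImplicit false
open Cfsg

namespace Cfsg.Agent.S3175

open scoped commutatorElement

open Cfsg.Agent.Lib.H59.Rud (Core card_series series_le_of_not_le exists_core frattini_le_of_small_index)

theorem fix_step {P : Type*} [Group P] (hP : IsPGroup 2 P) (a : MulAut P) {n : ℕ} (hn : Odd n)
    (han : a ^ n = 1) (v : P) (hk : a (v⁻¹ * a v) = v⁻¹ * a v) : a v = v := by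
  set k := v⁻¹ * a v with hkdef
  have hav : a v = v * k := by rw [hkdef, mul_inv_cancel_left]
  have hpow : ∀ i : ℕ, (a ^ i) v = v * k ^ i := by
    intro i
    induction i with
    | zero => simp
    | succ i ih =>
      rw [pow_succ', MulAut.mul_apply, ih, map_mul, map_pow, hk, hav, mul_assoc, ← pow_succ']
  have h1 : k ^ n = 1 := by
    have := hpow n
    rw [han, MulAut.one_apply] at this
    exact mul_eq_left.1 this.symm
  obtain ⟨m, hm⟩ := hP k
  have hco : Nat.Coprime n (2 ^ m) := (Nat.coprime_two_right.2 hn).pow_right m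
  have hk1 : k = 1 := by
    have := (pow_gcd_eq_one (a := k)).2 ⟨h1, hm⟩
    rwa [Nat.coprime_iff_gcd_eq_one.1 hco, pow_one] at this
  rw [hav, hk1, mul_one]

section Aut

variable {P : Type*} [Group P] [Finite P] (hP : IsPGroup 2 P) (ha : 2 ^ 14 ≤ Nat.card P)
  (hb : Nat.card ↥(Subgroup.upperCentralSeries P 4) = 16)
include hP ha hb

omit hP ha hb [Finite P] in
theorem mem_series_iff (a : MulAut P) (k : ℕ) (v : P) :
    a v ∈ Subgroup.upperCentralSeries P k ↔ v ∈ Subgroup.upperCentralSeries P k := by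
  have h := Subgroup.Characteristic.fixed (H := Subgroup.upperCentralSeries P k) inferInstance a
  conv_rhs => rw [← h]
  rfl

theorem inv_mul_map_mem (a : MulAut P) {k : ℕ} (hk : k ≤ 3) (v : P)
    (hv : v ∈ Subgroup.upperCentralSeries P (k + 1)) :
    v⁻¹ * a v ∈ Subgroup.upperCentralSeries P k := by
  by_cases hvk : v ∈ Subgroup.upperCentralSeries P k
  · exact mul_mem (inv_mem hvk) ((mem_series_iff a k v).2 hvk)
  have hle : Subgroup.upperCentralSeries P k ≤ Subgroup.upperCentralSeries P (k + 1) :=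
    Subgroup.upperCentralSeries_mono P k.le_succ
  have hi : ((Subgroup.upperCentralSeries P k).subgroupOf
      (Subgroup.upperCentralSeries P (k + 1))).index = 2 := by
    have h := ((Subgroup.upperCentralSeries P k).subgroupOf
      (Subgroup.upperCentralSeries P (k + 1))).card_mul_index
    rw [Nat.card_congr (Subgroup.subgroupOfEquivOfLe hle).toEquiv,
      card_series hP ha hb k (by omega), card_series hP ha hb (k + 1) (by omega), pow_succ] at h
    exact Nat.eq_of_mul_eq_mul_left (pow_pos (by norm_num) k) h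
  have h2 := Subgroup.mul_mem_iff_of_index_two hi
    (a := (⟨v, hv⟩ : ↥(Subgroup.upperCentralSeries P (k + 1)))⁻¹)
    (b := ⟨a v, (mem_series_iff a _ v).2 hv⟩)
  exact h2.2 (iff_of_false (fun h => hvk (inv_mem_iff.1 h))
    fun h => hvk ((mem_series_iff a k v).1 h))

/-- An automorphism of odd order of a `2`-group of this shape is trivial. -/
theorem aut_eq_one {W : Subgroup P} [W.Normal] (c : Core W) (a : MulAut P) {n : ℕ} (hn : Odd n)
    (han : a ^ n = 1) : a = 1 := by
  have hfix : ∀ k, k ≤ 3 → ∀ v ∈ Subgroup.upperCentralSeries P k, a v = v := by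
    intro k
    induction k with
    | zero =>
      intro _ v hv
      rw [Subgroup.upperCentralSeries_zero, Subgroup.mem_bot] at hv
      rw [hv, map_one]
    | succ k ih =>
      intro hk v hv
      exact fix_step hP a hn han v (ih (by omega) _ (inv_mul_map_mem hP ha hb a (by omega) v hv))
  have hfix' : ∀ i : ℕ, ∀ v ∈ Subgroup.upperCentralSeries P 3, (a ^ i) v = v := by
    intro i v hv
    induction i with
    | zero => simp
    | succ i ih => rw [pow_succ', MulAut.mul_apply, ih, hfix 3 le_rfl v hv]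
  have hmk : ∀ (b : MulAut P), (∀ v ∈ Subgroup.upperCentralSeries P 3, b v = v) →
      ∀ g, (b g : P ⧸ W) = g := by
    intro b hb' g
    have key : ∀ z ∈ Subgroup.upperCentralSeries P 3,
        MulAut.conj (b g) z = MulAut.conj g z := by
      intro z hz
      have hgz : g * z * g⁻¹ ∈ Subgroup.upperCentralSeries P 3 :=
        (inferInstance : (Subgroup.upperCentralSeries P 3).Normal).conj_mem z hz g
      have := hb' _ hgz
      rw [map_mul, map_mul, map_inv, hb' z hz] at this
      exact this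
    exact c.mk_eq_mk _ _ (key _ (Subgroup.upperCentralSeries_mono P (by norm_num) c.z2_mem))
      (key _ c.z3_mem)
  have hmem : ∀ (i : ℕ) (w : ↥W), (a ^ i) (w : P) ∈ W := by
    intro i w
    rw [← QuotientGroup.eq_one_iff, hmk _ (hfix' i)]
    exact (QuotientGroup.eq_one_iff _).2 w.2
  let b : ℕ → ↥W → ↥W := fun i w => ⟨(a ^ i) (w : P), hmem i w⟩
  have hb_mul : ∀ i u v, b i (u * v) = b i u * b i v := fun i u v => Subtype.ext (map_mul _ _ _)
  let tr : ↥W → P ⧸ W → ZMod 2 := fun w q => ∑ i ∈ Finset.range n, c.F (b i w) q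
  have tr_mul : ∀ u v q, tr (u * v) q = tr u q + tr v q := fun u v q => by
    show ∑ i ∈ Finset.range n, c.F (b i (u * v)) q = _
    simp only [hb_mul, c.F_mul, Finset.sum_add_distrib]
    rfl
  have tr_conj : ∀ g w q, tr (MulAut.conjNormal g w) q = tr w ((g : P ⧸ W)⁻¹ * q) := by
    intro g w q
    refine Finset.sum_congr rfl fun i _ => ?_
    have e1 : b i (MulAut.conjNormal g w) = MulAut.conjNormal ((a ^ i) g) (b i w) := by
      refine Subtype.ext ?_
      show (a ^ i) (g * (w : P) * g⁻¹) = (a ^ i) g * (a ^ i) (w : P) * ((a ^ i) g)⁻¹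
      rw [map_mul, map_mul, map_inv]
    rw [e1, c.F_conj, hmk _ (hfix' i)]
  have tr_Z : ∀ w : ↥W, (w : P) ∈ Subgroup.upperCentralSeries P 3 → ∀ q, tr w q = 0 := by
    intro w hw q
    refine Finset.sum_eq_zero fun i _ => ?_
    rw [show b i w = w from Subtype.ext (hfix' i _ hw)]
    exact (c.F_eq_zero_iff w).2 hw q
  let Kh : ↥W →* Multiplicative (P ⧸ W → ZMod 2) :=
    MonoidHom.mk' (fun w => Multiplicative.ofAdd (tr w)) fun u v => by
      rw [← ofAdd_add]
      exact congrArg Multiplicative.ofAdd (funext fun q => tr_mul u v q)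
  have hKmem : ∀ w, w ∈ Kh.ker ↔ ∀ q, tr w q = 0 := fun w => by
    rw [MonoidHom.mem_ker]
    exact ⟨fun h q => congrFun (congrArg Multiplicative.toAdd h) q,
      fun h => congrArg Multiplicative.ofAdd (funext h)⟩
  have hKn : (Kh.ker.map W.subtype).Normal := ⟨fun x hx g => by
    obtain ⟨w, hw, rfl⟩ := hx
    refine ⟨MulAut.conjNormal g w, ?_, MulAut.conjNormal_apply g w⟩
    rw [SetLike.mem_coe, hKmem] at hw ⊢
    exact fun q => by rw [tr_conj]; exact hw _⟩
  have hKle : Kh.ker.map W.subtype ≤ Subgroup.upperCentralSeries P 3 := by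
    by_contra h
    have h4 := series_le_of_not_le hP ha hb 3 le_rfl h
    obtain ⟨y, hy, hy'⟩ : ∃ y ∈ Subgroup.upperCentralSeries P (3 + 1),
        y ∉ Subgroup.upperCentralSeries P 3 := by
      by_contra hh
      push Not at hh
      have := Subgroup.card_le_of_le (H := Subgroup.upperCentralSeries P (3 + 1))
        (K := Subgroup.upperCentralSeries P 3) hh
      rw [card_series hP ha hb _ (by norm_num), card_series hP ha hb _ (by norm_num)] at this
      norm_num at this
    obtain ⟨w, hw, rfl⟩ := h4 hy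
    rw [SetLike.mem_coe, hKmem] at hw
    refine hy' ((c.F_eq_zero_iff w).1 fun q => ?_)
    have hconst : ∀ i, c.F (b i w) q = c.F w q := by
      intro i
      have h0 := (c.F_eq_zero_iff (w⁻¹ * b i w)).2
        (inv_mul_map_mem hP ha hb (a ^ i) le_rfl (w : P) hy) q
      rw [c.F_mul] at h0
      have h1 := c.F_mul w⁻¹ w q
      rw [inv_mul_cancel, (c.F_eq_zero_iff 1).2 (by simp [one_mem]) q] at h1
      exact add_left_cancel (h0.trans h1)
    have h2 := hw q
    show c.F w q = 0
    rw [show tr w q = ∑ i ∈ Finset.range n, c.F w q from Finset.sum_congr rfl fun i _ => hconst i,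
      Finset.sum_const, Finset.card_range, nsmul_eq_mul] at h2
    rwa [(ZMod.natCast_eq_one_iff_odd).2 hn, one_mul] at h2
  have hWfix : ∀ w : ↥W, a (w : P) = w := by
    intro w
    refine fix_step hP a hn han (w : P) (hfix 3 le_rfl _ ?_)
    have e1 : ((b 1 w : ↥W) : P) = a (w : P) := by simp [b]
    have hshift : ∀ q, tr (b 1 w) q = tr w q := by
      intro q
      obtain ⟨m, rfl⟩ : ∃ m, n = m + 1 := ⟨n - 1, by have := hn.pos; omega⟩
      show ∑ i ∈ Finset.range (m + 1), c.F (b i (b 1 w)) q =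
        ∑ i ∈ Finset.range (m + 1), c.F (b i w) q
      have e2 : ∀ i, b i (b 1 w) = b (i + 1) w := fun i => Subtype.ext (by
        show (a ^ i) ((a ^ 1) (w : P)) = (a ^ (i + 1)) (w : P)
        rw [pow_add, MulAut.mul_apply])
      rw [Finset.sum_congr rfl fun i _ => congrArg (fun v => c.F v q) (e2 i)]
      conv_lhs => rw [Finset.sum_range_succ, show b (m + 1) w = b 0 w from
        Subtype.ext (by show (a ^ (m + 1)) (w : P) = (a ^ 0) (w : P); rw [han, pow_zero])]
      conv_rhs => rw [Finset.sum_range_succ']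
    have hmemK : w⁻¹ * b 1 w ∈ Kh.ker := by
      rw [hKmem]
      intro q
      have h1 := tr_mul w (w⁻¹ * b 1 w) q
      rw [mul_inv_cancel_left, hshift] at h1
      exact left_eq_add.1 h1
    have := hKle (Subgroup.mem_map_of_mem W.subtype hmemK)
    rw [map_mul, map_inv, Subgroup.subtype_apply, Subgroup.subtype_apply, e1] at this
    exact this
  ext g
  rw [MulAut.one_apply]
  refine fix_step hP a hn han g ?_
  have hW' : g⁻¹ * a g ∈ W := QuotientGroup.eq.1 (by
    have := hmk a (hfix 3 le_rfl) g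
    exact this.symm)
  exact hWfix ⟨_, hW'⟩

/-- `W` is the only image of `W` under an injective homomorphism into the group. -/
theorem range_eq {W : Subgroup P} [W.Normal] (c : Core W)
    (hd : ∀ U : Subgroup ↥W, U.index ≤ 16 → frattini ↥W ≤ U)
    (θ : ↥W →* P) (hθ : Function.Injective θ) : θ.range = W := by
  classical
  have hcθ : Nat.card ↥θ.range = Nat.card ↥W := (Nat.card_congr (MonoidHom.ofInjective hθ).toEquiv).symm
  let ρ : ↥W →* P ⧸ W := (QuotientGroup.mk' W).comp θ
  have hρi : ρ.ker.index ≤ 16 := by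
    rw [Subgroup.index_ker]
    have := Subgroup.card_le_card_group ρ.range
    rw [c.card_Q] at this
    omega
  have hΦ := hd _ hρi
  by_cases htriv : ρ.range = ⊥
  · refine Subgroup.eq_of_le_of_card_ge ?_ hcθ.ge
    rintro _ ⟨w, rfl⟩
    rw [← QuotientGroup.eq_one_iff]
    exact (Subgroup.eq_bot_iff_forall _).1 htriv _ ⟨w, rfl⟩
  exfalso
  have hsq : ∀ q ∈ ρ.range, q * q = 1 := by
    rintro _ ⟨w, rfl⟩
    have : Fact (Nat.Prime 2) := ⟨Nat.prime_two⟩
    have h := hΦ (Lib.PFrattini.pow_mem_frattini (p := 2) (hP.to_subgroup W) w)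
    rw [MonoidHom.mem_ker, map_pow, pow_two] at h
    exact h
  have hR : Nat.card ↥ρ.range ≤ 4 := by
    obtain ⟨gr, gs, gh, hrr, hh1, -⟩ := c.exists_gens hP ha hb hd
    obtain ⟨m, hm⟩ := Subgroup.card_subgroup_dvd_card ρ.range
    rw [c.card_Q] at hm
    rcases m with _ | _ | m
    · simp at hm
    · exfalso
      have htop : ρ.range = ⊤ := Subgroup.eq_top_of_card_eq _ (by rw [c.card_Q]; omega)
      exact hh1 (hrr ▸ hsq (gr : P ⧸ W) (htop ▸ Subgroup.mem_top _))
    · by_contra hgt
      have h5 := Nat.mul_le_mul (show 5 ≤ Nat.card ↥ρ.range by omega) (show 2 ≤ m + 1 + 1 by omega)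
      omega
  let V : Subgroup ↥W := (ρ.ker.map θ).subgroupOf W
  have hVle : ρ.ker.map θ ≤ W := by
    rintro _ ⟨w, hw, rfl⟩
    exact (QuotientGroup.eq_one_iff _).1 hw
  have hVi : V.index ≤ 4 := by
    have h1 : Nat.card ↥V = Nat.card ↥ρ.ker := by
      rw [Nat.card_congr (Subgroup.subgroupOfEquivOfLe hVle).toEquiv,
        Subgroup.card_map_of_injective hθ]
    have h2 := V.card_mul_index
    rw [← ρ.ker.card_mul_index, h1] at h2
    rw [Nat.eq_of_mul_eq_mul_left Nat.card_pos h2, Subgroup.index_ker]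
    exact hR
  set Z := Subgroup.upperCentralSeries P 3 with hZ
  let N : Subgroup ↥W := ((frattini ↥W).map θ).subgroupOf W
  have hVmem : ∀ x ∈ V, ∃ u ∈ ρ.ker, θ u = (x : P) := fun x hx => hx
  have hΦle : frattini ↥W ≤ N := by
    refine frattini_le_of_small_index (hP.to_subgroup W) hd (U := V) (by omega) ?_ ?_
    · intro x hx
      obtain ⟨u, -, hu⟩ := hVmem x hx
      have : Fact (Nat.Prime 2) := ⟨Nat.prime_two⟩
      exact ⟨u ^ 2, Lib.PFrattini.pow_mem_frattini (p := 2) (hP.to_subgroup W) u, by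
        rw [map_pow, hu]; rfl⟩
    · intro x hx y hy
      obtain ⟨u, -, hu⟩ := hVmem x hx
      obtain ⟨v, -, hv⟩ := hVmem y hy
      have : Fact (Nat.Prime 2) := ⟨Nat.prime_two⟩
      exact ⟨⁅u, v⁆, Lib.PFrattini.commutator_le_frattini (p := 2) (hP.to_subgroup W)
        (Subgroup.commutator_mem_commutator (Subgroup.mem_top u) (Subgroup.mem_top v)), by
        rw [map_commutatorElement, hu, hv]; rfl⟩
  have hθΦ : (frattini ↥W).map θ = Z := by
    refine (Subgroup.eq_of_le_of_card_ge ?_ ?_).symm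
    · intro z hz
      exact hΦle ((c.mem_frattini_iff ⟨z, c.le_W3 hz⟩).2 hz)
    · rw [hZ, ← c.frattini_eq, Subgroup.card_map_of_injective hθ,
        Subgroup.card_map_of_injective W.subtype_injective]
  obtain ⟨q, ⟨w, rfl⟩, hq⟩ : ∃ q ∈ ρ.range, q ≠ 1 := by
    by_contra h
    push Not at h
    exact htriv ((Subgroup.eq_bot_iff_forall _).2 h)
  set h := ρ w with hh
  have hhh : h * h = 1 := hsq h ⟨w, rfl⟩
  have hhinv : h⁻¹ = h := inv_eq_of_mul_eq_one_right hhh
  have hinv : ∀ v ∈ V, ∀ p, c.F v (h * p) = c.F v p := by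
    intro v hv p
    obtain ⟨u, -, hu⟩ := hVmem v hv
    have hmem : ((MulAut.conjNormal (θ w) v * v⁻¹ : ↥W) : P) ∈ Z := by
      rw [← hθΦ]
      have : Fact (Nat.Prime 2) := ⟨Nat.prime_two⟩
      refine ⟨⁅w, u⁆, Lib.PFrattini.commutator_le_frattini (p := 2) (hP.to_subgroup W)
        (Subgroup.commutator_mem_commutator (Subgroup.mem_top w) (Subgroup.mem_top u)), ?_⟩
      rw [map_commutatorElement, hu]
      rfl
    have h0 := (c.F_eq_zero_iff _).2 hmem p
    have h1 := c.F_mul v v⁻¹ p
    rw [mul_inv_cancel, (c.F_eq_zero_iff 1).2 (by simp [one_mem]) p] at h1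
    rw [c.F_mul, c.F_conj, show ((θ w : P) : P ⧸ W) = h from rfl, hhinv] at h0
    exact add_right_cancel (h0.trans h1)
  obtain ⟨ι⟩ : Nonempty (P ⧸ W ≃ Fin 8) := ⟨c.card_Q ▸ Finite.equivFin (P ⧸ W)⟩
  let D : P ⧸ W → Prop := fun q => ι q < ι (h * q)
  have hhq : ∀ q, h * (h * q) = q := fun q => by rw [← mul_assoc, hhh, one_mul]
  have hD : ∀ q, D (h * q) ↔ ¬ D q := by
    intro q
    simp only [D, hhq, not_lt]
    exact ⟨le_of_lt, fun h' => lt_of_le_of_ne h' fun he => hq (mul_eq_right.1 (ι.injective he))⟩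
  let G : ↥W →* Multiplicative ({q // D q} → ZMod 2) :=
    MonoidHom.mk' (fun v => Multiplicative.ofAdd fun q => c.F v (h * q.1) + c.F v q.1) fun u v => by
      rw [← ofAdd_add]
      refine congrArg _ (funext fun q => ?_)
      simp only [c.F_mul, Pi.add_apply]
      abel
  have hVG : V ≤ G.ker := by
    intro v hv
    rw [MonoidHom.mem_ker]
    refine congrArg Multiplicative.ofAdd (funext fun q => ?_)
    show _ + _ = (0 : ZMod 2)
    rw [hinv v hv, CharTwo.add_self_eq_zero]
  have hGtop : G.range = ⊤ := by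
    rw [MonoidHom.range_eq_top]
    intro f
    obtain ⟨a, haF⟩ := c.F_surj fun q => if hq' : D q then Multiplicative.toAdd f ⟨q, hq'⟩ else 0
    refine ⟨a, ?_⟩
    apply Multiplicative.toAdd.injective
    refine funext fun q => ?_
    show c.F a (h * q.1) + c.F a q.1 = _
    rw [haF]
    simp only [dif_neg (fun hh' => (hD q.1).1 hh' q.2), dif_pos q.2, zero_add]
  have hD4 : 4 ≤ Nat.card {q // D q} := by
    let g2 : Bool × {q // D q} → P ⧸ W := fun p => if p.1 then h * p.2.1 else p.2.1
    have : Function.Surjective g2 := by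
      intro q
      by_cases hq' : D q
      · exact ⟨(false, ⟨q, hq'⟩), rfl⟩
      · exact ⟨(true, ⟨h * q, (hD q).2 hq'⟩), hhq q⟩
    have := Nat.card_le_card_of_surjective g2 this
    rw [Nat.card_prod, c.card_Q, Nat.card_eq_fintype_card (α := Bool), Fintype.card_bool] at this
    omega
  have hGi : G.ker.index = 2 ^ Nat.card {q // D q} := by
    rw [Subgroup.index_ker, hGtop, Subgroup.card_top, Nat.card_congr Multiplicative.toAdd,
      Nat.card_fun, Nat.card_zmod]
  have h1 := Nat.le_of_dvd (Nat.pos_of_ne_zero Subgroup.index_ne_zero_of_finite)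
    (Subgroup.index_dvd_of_le hVG)
  have h2 := Nat.pow_le_pow_right (show 0 < 2 by norm_num) hD4
  omega

end Aut

/-- Let G be a finite group whose Sylow 2-subgroup T has order at least 2^14 and whose upper central series has fourth term of order 16; let W be the centralizer in T of the third term, and suppose the Frattini subgroup of W has order at most 8 and lies in every subgroup of W of index at most 16. Then the normalizer of T in G has a normal 2-complement, and W is weakly closed in T with respect to G. -/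
theorem result {G : Type*} [Group G] [Finite G]
    (T : Sylow 2 G) (ha : 2 ^ 14 ≤ Nat.card ↥(T : Subgroup G))
    (hb : Nat.card ↥(Subgroup.upperCentralSeries ↥(T : Subgroup G) 4) = 16)
    (W : Subgroup ↥(T : Subgroup G))
    (hW : W = Subgroup.centralizer ((Subgroup.upperCentralSeries ↥(T : Subgroup G) 3 : Subgroup ↥(T : Subgroup G)) : Set ↥(T : Subgroup G)))
    (hc : Nat.card ↥(frattini ↥W) ≤ 8)
    (hd : ∀ U : Subgroup ↥W, U.index ≤ 16 → frattini ↥W ≤ U) :
    Cfsg.HasNormalPComplement 2 ↥(Subgroup.normalizer ((T : Subgroup G) : Set G)) ∧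
      Cfsg.IsWeaklyClosed (W.map (T : Subgroup G).subtype) (T : Subgroup G) := by
  have : Fact (Nat.Prime 2) := ⟨Nat.prime_two⟩
  have hP : IsPGroup 2 ↥(T : Subgroup G) := T.isPGroup'
  obtain ⟨hn, ⟨c⟩⟩ := exists_core hP ha hb W hW hc
  refine ⟨?_, ?_⟩
  · set N := Subgroup.normalizer ((T : Subgroup G) : Set G) with hN
    let T0 : Sylow 2 ↥N := T.subtype Subgroup.le_normalizer
    have hT0 : (T0 : Subgroup ↥N) = (T : Subgroup G).subgroupOf N := rfl
    have hT0n : (T0 : Subgroup ↥N).Normal := by rw [hT0]; exact Subgroup.normal_in_normalizer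
    obtain ⟨K, hK⟩ := Subgroup.exists_right_complement'_of_coprime
      (N := (T0 : Subgroup ↥N)) T0.card_coprime_index
    have hodd : Odd (Nat.card ↥K) := by
      rw [← hK.symm.index_eq_card, ← Nat.not_even_iff_odd, even_iff_two_dvd]
      exact T0.not_dvd_index
    have hcomm : ∀ k ∈ K, ∀ t ∈ (T0 : Subgroup ↥N), k * t = t * k := by
      intro k hk t ht
      let a : MulAut ↥(T : Subgroup G) :=
        { toFun := fun x => ⟨(k : G) * x * (k : G)⁻¹, (Subgroup.mem_normalizer_iff.1 k.2 x).1 x.2⟩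
          invFun := fun x => ⟨(k : G)⁻¹ * x * (k : G), (Subgroup.mem_normalizer_iff.1 k.2 _).2 (by
            simp [mul_assoc])⟩
          left_inv := fun x => Subtype.ext (by simp [mul_assoc])
          right_inv := fun x => Subtype.ext (by simp [mul_assoc])
          map_mul' := fun x y => Subtype.ext (by simp [mul_assoc]) }
      have hpow : ∀ (i : ℕ) (x : ↥(T : Subgroup G)),
          (((a ^ i) x : ↥(T : Subgroup G)) : G) = (k : G) ^ i * x * ((k : G) ^ i)⁻¹ := by
        intro i x
        induction i with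
        | zero => simp
        | succ i ih =>
          rw [pow_succ', MulAut.mul_apply]
          show (k : G) * _ * (k : G)⁻¹ = _
          rw [ih, pow_succ' (k : G)]
          group
      have hkn : (k : G) ^ Nat.card ↥K = 1 := by
        have h := pow_card_eq_one' (x := (⟨k, hk⟩ : ↥K))
        exact congrArg (fun x : ↥K => ((x : ↥N) : G)) h
      have ha1 : a = 1 := aut_eq_one hP ha hb c a hodd (by
        ext x
        rw [hpow, hkn]
        simp)
      have := congrArg (fun e : MulAut ↥(T : Subgroup G) => (e ⟨(t : G), ht⟩ : G)) ha1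
      exact Subtype.ext (mul_inv_eq_iff_eq_mul.1 this)
    refine ⟨T0, K, ⟨fun x hx g => ?_⟩, hK.symm⟩
    obtain ⟨⟨t, k'⟩, htk⟩ := hK.2 g
    simp only at htk
    have h1 : (k' : ↥N) * x * (k' : ↥N)⁻¹ ∈ K := mul_mem (mul_mem k'.2 hx) (inv_mem k'.2)
    have h2 := hcomm _ h1 _ t.2
    rw [← htk]
    have e : (t : ↥N) * (k' : ↥N) * x * ((t : ↥N) * (k' : ↥N))⁻¹ =
        (t : ↥N) * ((k' : ↥N) * x * (k' : ↥N)⁻¹) * (t : ↥N)⁻¹ := by group
    rw [e, ← h2, mul_inv_cancel_right]
    exact h1
  · refine ⟨?_, fun g hg => ?_⟩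
    · rintro _ ⟨w, -, rfl⟩
      exact w.2
    let θ : ↥W →* ↥(T : Subgroup G) :=
      MonoidHom.mk' (fun w => ⟨g * ((w : ↥(T : Subgroup G)) : G) * g⁻¹,
        hg ⟨_, Subgroup.mem_map_of_mem _ w.2, rfl⟩⟩) fun u v => Subtype.ext (by simp [mul_assoc])
    have hθ : Function.Injective θ := by
      intro u v huv
      have h' : g * ((u : ↥(T : Subgroup G)) : G) * g⁻¹ = g * ((v : ↥(T : Subgroup G)) : G) * g⁻¹ :=
        congrArg (fun x : ↥(T : Subgroup G) => (x : G)) huv
      exact Subtype.ext (Subtype.ext (mul_left_cancel (mul_right_cancel h')))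
    have hrange := range_eq hP ha hb c hd θ hθ
    ext x
    constructor
    · rintro ⟨_, ⟨w, hw, rfl⟩, rfl⟩
      exact ⟨θ ⟨w, hw⟩, SetLike.le_def.1 hrange.le ⟨⟨w, hw⟩, rfl⟩, rfl⟩
    · rintro ⟨y, hy, rfl⟩
      obtain ⟨w, rfl⟩ : y ∈ θ.range := hrange.ge hy
      exact ⟨_, ⟨(w : ↥(T : Subgroup G)), w.2, rfl⟩, rfl⟩

end Cfsg.Agent.S3175
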