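import Cfsg.Statements.S3178
import Mathlib
import Cfsg.Agent.Lib.Transfer.Criteria

set_option autoImplicit false
open Cfsg

namespace Cfsg.Agent.S3178

/-- Groups with a modular Sylow 2-subgroup have a normal 2-complement. Let S, of order 2^(n+1) with n ≥ 3, be a Sylow 2-subgroup of a finite group G, and suppose S contains an element a of order 2^n and an involution b with b a b⁻¹ = a^(2^(n-1) + 1); so S is the non-abelian 2-group with a cyclic subgroup of index 2 that is neither dihedral, semidihedral nor generalized quaternion. Then G has a normal 2-complement. -/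
theorem result {G : Type*} [Group G] [Finite G]
    (S : Sylow 2 G) (n : ℕ) (hn : 3 ≤ n) (hS : Nat.card ↥(S : Subgroup G) = 2 ^ (n + 1))
    (a b : G) (ha : a ∈ (S : Subgroup G)) (hb : b ∈ (S : Subgroup G))
    (hao : orderOf a = 2 ^ n) (hbo : orderOf b = 2) (hrel : b * a * b⁻¹ = a ^ (2 ^ (n - 1) + 1)) :
    Cfsg.HasNormalPComplement 2 G := by
  have : Fact (Nat.Prime 2) := ⟨Nat.prime_two⟩
  obtain ⟨k, rfl⟩ : ∃ k, n = k + 3 := ⟨n - 3, by omega⟩
  rw [show k + 3 - 1 = k + 2 from rfl] at hrel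
  have hm : ∀ e : ℤ, a ^ e = 1 ↔ (2 : ℤ) ^ (k + 3) ∣ e := fun e => by
    rw [← orderOf_dvd_iff_zpow_eq_one, hao]; push_cast; rfl
  have hbb : b * b = 1 := by rw [← pow_two, ← hbo, pow_orderOf_eq_one]
  have hbinv : b⁻¹ = b := inv_eq_of_mul_eq_one_right hbb
  have hp3 : (2 : ℤ) ^ (k + 3) = 2 * 2 ^ (k + 2) := by ring
  have hp2 : (2 : ℤ) ^ (k + 2) = 2 * 2 ^ (k + 1) := by ring
  have hp1 : (2 : ℤ) ^ (k + 1) = 2 * 2 ^ k := by ring
  have hswap : ∀ i : ℤ, a ^ i * b = b * a ^ (i * (2 ^ (k + 2) + 1)) := fun i => by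
    have h1 : b * a ^ i * b⁻¹ = a ^ (i * (2 ^ (k + 2) + 1)) := by
      rw [← conj_zpow, hrel, ← zpow_natCast, ← zpow_mul]; congr 1; push_cast; ring
    rw [← h1, hbinv, ← mul_assoc, ← mul_assoc, hbb, one_mul]
  have haS : ∀ i : ℤ, a ^ i ∈ (S : Subgroup G) := fun i => zpow_mem ha i
  have hnotmem : b ∉ Subgroup.zpowers a := by
    rintro ⟨i, rfl⟩
    have h1 : a ^ i * a * (a ^ i)⁻¹ = a := by group
    rw [h1] at hrel
    have h2 : a ^ ((2 : ℤ) ^ (k + 2)) = 1 := by
      have h3 : a ^ (2 ^ (k + 2)) = 1 := by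
        rw [pow_succ] at hrel
        exact mul_eq_right.1 hrel.symm
      rw [← h3, ← zpow_natCast]; push_cast; rfl
    rw [hm] at h2
    have h3 := Int.le_of_dvd (by positivity) h2
    have : (0 : ℤ) < 2 ^ (k + 2) := by positivity
    omega
  have hform : ∀ x ∈ (S : Subgroup G), ∃ i : ℤ, x = a ^ i ∨ x = b * a ^ i := by
    intro x hx
    have hA : (Subgroup.zpowers (⟨a, ha⟩ : ↥(S : Subgroup G))).index = 2 := by
      have h := (Subgroup.zpowers (⟨a, ha⟩ : ↥(S : Subgroup G))).card_mul_index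
      rw [Nat.card_zpowers, Subgroup.orderOf_mk, hao, hS, pow_succ 2 (k + 3)] at h
      exact Nat.eq_of_mul_eq_mul_left (by positivity) h
    by_cases hxA : (⟨x, hx⟩ : ↥(S : Subgroup G)) ∈ Subgroup.zpowers ⟨a, ha⟩
    · obtain ⟨i, hi⟩ := hxA
      exact ⟨i, Or.inl (congrArg Subtype.val hi).symm⟩
    · have : (⟨b, hb⟩ : ↥(S : Subgroup G)) * ⟨x, hx⟩ ∈ Subgroup.zpowers ⟨a, ha⟩ := by
        rw [Subgroup.mul_mem_iff_of_index_two hA]
        refine iff_of_false ?_ hxA
        rintro ⟨i, hi⟩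
        exact hnotmem ⟨i, congrArg Subtype.val hi⟩
      obtain ⟨i, hi⟩ := this
      have hi' : a ^ i = b * x := congrArg Subtype.val hi
      exact ⟨i, Or.inr (by rw [hi', ← mul_assoc, hbb, one_mul])⟩
  have hsq : ∀ i : ℤ, b * a ^ i * (b * a ^ i) = a ^ (i * (2 ^ (k + 2) + 2)) := fun i => by
    calc b * a ^ i * (b * a ^ i) = b * (a ^ i * b) * a ^ i := by group
      _ = (b * b) * (a ^ (i * (2 ^ (k + 2) + 1)) * a ^ i) := by rw [hswap]; group
      _ = _ := by rw [hbb, one_mul, ← zpow_add]; congr 1; ring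
  -- fourth powers and squares
  have hfour : ∀ x ∈ (S : Subgroup G), ∀ i : ℤ, (x = a ^ i ∨ x = b * a ^ i) → x ^ 4 = a ^ (4 * i) := by
    rintro x - i (rfl | rfl)
    · rw [← zpow_natCast, ← zpow_mul, mul_comm]; rfl
    · rw [show (b * a ^ i) ^ 4 = (b * a ^ i * (b * a ^ i)) * (b * a ^ i * (b * a ^ i)) by
        simp [pow_succ, mul_assoc], hsq, ← zpow_add, ← mul_inv_eq_one, ← zpow_sub, hm]
      exact ⟨i, by linear_combination (-i) * hp3⟩
  have h4mul : ∀ x ∈ (S : Subgroup G), ∀ y ∈ (S : Subgroup G), (x * y) ^ 4 = x ^ 4 * y ^ 4 := by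
    intro x hx y hy
    obtain ⟨i, hi⟩ := hform x hx
    obtain ⟨j, hj⟩ := hform y hy
    rw [hfour x hx i hi, hfour y hy j hj, ← zpow_add]
    rcases hi with rfl | rfl <;> rcases hj with rfl | rfl
    · rw [hfour _ (mul_mem hx hy) (i + j) (Or.inl (zpow_add _ _ _).symm), mul_add]
    · rw [hfour _ (mul_mem hx hy) (i * (2 ^ (k + 2) + 1) + j)
        (Or.inr (by rw [← mul_assoc, hswap, mul_assoc, ← zpow_add])), ← mul_inv_eq_one, ← zpow_sub, hm]
      exact ⟨2 * i, by rw [hp3]; ring⟩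
    · rw [hfour _ (mul_mem hx hy) (i + j) (Or.inr (by rw [mul_assoc, ← zpow_add])), mul_add]
    · rw [hfour _ (mul_mem hx hy) (i * (2 ^ (k + 2) + 1) + j)
        (Or.inl (by
          calc b * a ^ i * (b * a ^ j) = b * (a ^ i * b) * a ^ j := by group
            _ = (b * b) * (a ^ (i * (2 ^ (k + 2) + 1)) * a ^ j) := by rw [hswap]; group
            _ = _ := by rw [hbb, one_mul, ← zpow_add])), ← mul_inv_eq_one, ← zpow_sub, hm]
      exact ⟨2 * i, by rw [hp3]; ring⟩
  set z := a ^ ((2 : ℤ) ^ (k + 2)) with hz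
  have hz1 : z ≠ 1 := fun h => by
    rw [hz, hm] at h
    have h3 := Int.le_of_dvd (by positivity) h
    have : (0 : ℤ) < 2 ^ (k + 2) := by positivity
    omega
  have hz2 : z * z = 1 := by rw [hz, ← zpow_add, hm]; exact ⟨1, by ring⟩
  have hsqmem : ∀ x ∈ (S : Subgroup G), x * x ∈ Subgroup.zpowers a := by
    intro x hx
    obtain ⟨i, rfl | rfl⟩ := hform x hx
    · exact mul_mem (zpow_mem (Subgroup.mem_zpowers a) i) (zpow_mem (Subgroup.mem_zpowers a) i)
    · rw [hsq]; exact zpow_mem (Subgroup.mem_zpowers a) _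
  have hsqinv : ∀ x ∈ (S : Subgroup G), x * x * (x * x) = 1 → x * x = 1 ∨ x * x = z := by
    intro x hx h
    obtain ⟨i, hi⟩ := hsqmem x hx
    simp only at hi
    rw [← hi, ← zpow_add, hm] at h
    obtain ⟨c, hc⟩ : (2 : ℤ) ^ (k + 2) ∣ i :=
      (mul_dvd_mul_iff_left (two_ne_zero : (2 : ℤ) ≠ 0)).1 (by rw [two_mul i, ← hp3]; exact h)
    rw [← hi]
    rcases Int.even_or_odd' c with ⟨d, rfl | rfl⟩
    · left; rw [hm]; exact ⟨d, by rw [hc]; ring⟩
    · right; rw [hz, ← mul_inv_eq_one, ← zpow_sub, hm]; exact ⟨d, by rw [hc]; ring⟩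
  have hinvol : ∀ x ∈ (S : Subgroup G), x * x = 1 → x = 1 ∨ x = z ∨ x = b ∨ x = b * z := by
    intro x hx h
    have hdiv : ∀ i : ℤ, (2 : ℤ) ^ (k + 2) ∣ i → a ^ i = 1 ∨ a ^ i = z := by
      rintro i ⟨c, hc⟩
      rcases Int.even_or_odd' c with ⟨d, rfl | rfl⟩
      · left; rw [hm]; exact ⟨d, by rw [hc]; ring⟩
      · right; rw [hz, ← mul_inv_eq_one, ← zpow_sub, hm]; exact ⟨d, by rw [hc]; ring⟩
    obtain ⟨i, rfl | rfl⟩ := hform x hx
    · rw [← zpow_add, hm] at h
      rcases hdiv i ((mul_dvd_mul_iff_left (two_ne_zero : (2 : ℤ) ≠ 0)).1 (by rw [two_mul i, ← hp3]; exact h)) with e | e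
      · exact Or.inl e
      · exact Or.inr (Or.inl e)
    · rw [hsq, hm] at h
      have h' : (2 : ℤ) ^ (k + 2) ∣ i * (2 ^ (k + 1) + 1) := by
        obtain ⟨c, hc⟩ := h
        exact ⟨c, mul_left_cancel₀ (two_ne_zero : (2 : ℤ) ≠ 0) (by linear_combination hc + (c : ℤ) * hp3 - i * hp2)⟩
      have hco : IsCoprime ((2 : ℤ) ^ (k + 2)) (2 ^ (k + 1) + 1) :=
        IsCoprime.pow_left (show IsCoprime (2 : ℤ) (2 ^ (k + 1) + 1) from ⟨-2 ^ k, 1, by ring⟩)
      rcases hdiv i (hco.dvd_of_dvd_mul_right h') with e | e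
      · exact Or.inr (Or.inr (Or.inl (by rw [e, mul_one])))
      · exact Or.inr (Or.inr (Or.inr (by rw [e])))
  -- even powers of `a` are central in `S`
  have heven : ∀ i : ℤ, ∀ x ∈ (S : Subgroup G), a ^ (2 * i) * x = x * a ^ (2 * i) := by
    intro i x hx
    obtain ⟨j, rfl | rfl⟩ := hform x hx
    · exact zpow_mul_comm a _ _
    · rw [← mul_assoc, hswap, show a ^ (2 * i * (2 ^ (k + 2) + 1)) = a ^ (2 * i) by
        rw [← mul_inv_eq_one, ← zpow_sub, hm]; exact ⟨i, by rw [hp3]; ring⟩,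
        mul_assoc, zpow_mul_comm, ← mul_assoc]
  -- elements of exponent four commute
  have hord4 : ∀ x ∈ (S : Subgroup G), ∀ y ∈ (S : Subgroup G), x ^ 4 = 1 → y ^ 4 = 1 → x * y = y * x := by
    have h2 : ∀ x ∈ (S : Subgroup G), x ^ 4 = 1 → ∃ i : ℤ, x = a ^ (2 * i) ∨ x = b * a ^ (2 * i) := by
      intro x hx h
      obtain ⟨i, hi⟩ := hform x hx
      rw [hfour x hx i hi, hm] at h
      obtain ⟨c, hc⟩ := h
      exact ⟨2 ^ k * c, by
        have e : i = 2 * (2 ^ k * c) := by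
          have h4 : (4 : ℤ) * i = 4 * (2 * (2 ^ k * c)) := by rw [hc]; ring
          omega
        exact e ▸ hi⟩
    intro x hx y hy hx4 hy4
    obtain ⟨i, rfl | rfl⟩ := h2 x hx hx4 <;> obtain ⟨j, rfl | rfl⟩ := h2 y hy hy4
    · exact heven i _ hy
    · exact heven i _ hy
    · exact (heven j _ hx).symm
    · calc b * a ^ (2 * i) * (b * a ^ (2 * j)) = b * (a ^ (2 * i) * (b * a ^ (2 * j))) := by group
        _ = b * (b * a ^ (2 * j) * a ^ (2 * i)) := by rw [heven i _ hy]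
        _ = b * b * (a ^ (2 * j) * a ^ (2 * i)) := by group
        _ = b * b * (a ^ (2 * i) * a ^ (2 * j)) := by rw [zpow_mul_comm]
        _ = b * (b * a ^ (2 * i) * a ^ (2 * j)) := by group
        _ = b * (a ^ (2 * j) * (b * a ^ (2 * i))) := by rw [heven j _ hx]
        _ = b * a ^ (2 * j) * (b * a ^ (2 * i)) := by group
  rw [Cfsg.Agent.Lib.Transfer.hasNormalPComplement_iff_locallyPTrivial]
  refine Cfsg.Agent.Lib.Transfer.locallyPTrivial_of_sylow S fun Q hQ g hg hgo => ?_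
  have hodd : Odd (orderOf g) := Nat.coprime_two_right.1 hgo
  have hgQ : ∀ q ∈ Q, g * q * g⁻¹ ∈ Q := fun q hq => (Subgroup.mem_normalizer_iff.1 hg q).1 hq
  -- an element moved by a fixed factor is fixed
  have step : ∀ x v : G, g * x * g⁻¹ = x * v → g * v * g⁻¹ = v → v ^ 4 = 1 → g * x * g⁻¹ = x := by
    intro x v hx hv h4
    have hk : ∀ e : ℕ, g ^ e * x * (g ^ e)⁻¹ = x * v ^ e := by
      intro e
      induction e with
      | zero => simp
      | succ e ih =>
        calc g ^ (e + 1) * x * (g ^ (e + 1))⁻¹ = g * (g ^ e * x * (g ^ e)⁻¹) * g⁻¹ := by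
              rw [pow_succ']; group
          _ = (g * x * g⁻¹) * (g * v * g⁻¹) ^ e := by rw [ih, conj_pow]; group
          _ = x * v ^ (e + 1) := by rw [hx, hv, mul_assoc, ← pow_succ']
    have h1 : v ^ orderOf g = 1 := by
      have := hk (orderOf g)
      rw [pow_orderOf_eq_one, one_mul, inv_one, mul_one] at this
      exact left_eq_mul.1 this
    have h2 : orderOf v = 1 := Nat.eq_one_of_dvd_coprimes
      ((Nat.coprime_two_left.2 hodd).pow_left 2) (orderOf_dvd_of_pow_eq_one h4) (orderOf_dvd_of_pow_eq_one h1)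
    rw [hx, orderOf_eq_one_iff.1 h2, mul_one]
  -- `g` fixes `z` when it lies in `Q`
  have hgz : z ∈ Q → g * z * g⁻¹ = z := by
    intro hzQ
    set u := a ^ ((2 : ℤ) * 2 ^ k) with hu
    have huu : u * u = z := by rw [hu, hz, ← zpow_add]; congr 1; ring
    let C := Subgroup.centralizer (Q : Set G)
    have huC : u ∈ C := Subgroup.mem_centralizer_iff.2 fun q hq => (heven _ q (hQ hq)).symm
    have huC' : g * u * g⁻¹ ∈ C := by
      refine Subgroup.mem_centralizer_iff.2 fun q hq => ?_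
      have hq' : g⁻¹ * q * g ∈ Q := by
        simpa using (Subgroup.mem_normalizer_iff.1 (inv_mem hg) q).1 hq
      calc q * (g * u * g⁻¹) = g * ((g⁻¹ * q * g) * u) * g⁻¹ := by group
        _ = g * (u * (g⁻¹ * q * g)) * g⁻¹ := by rw [Subgroup.mem_centralizer_iff.1 huC _ hq']
        _ = g * u * g⁻¹ * q := by group
    have huS : u ∈ (S : Subgroup G) := haS _
    obtain ⟨R₁, hR₁⟩ := ((S.isPGroup'.to_le (Subgroup.zpowers_le.2 huS)).comap_subtype (K := C)).exists_le_sylow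
    obtain ⟨R₂, hR₂⟩ :=
      (((S.isPGroup'.to_le (Subgroup.zpowers_le.2 huS)).map (MulAut.conj g).toMonoidHom).comap_subtype (K := C)).exists_le_sylow
    obtain ⟨c, hc⟩ := MulAction.exists_smul_eq C R₂ R₁
    obtain ⟨P', hP'⟩ := (R₁.isPGroup'.map C.subtype).exists_le_sylow
    obtain ⟨t, ht⟩ := MulAction.exists_smul_eq G P' S
    have hR : ∀ r : C, r ∈ (R₁ : Subgroup C) → t * (r : G) * t⁻¹ ∈ (S : Subgroup G) := by
      intro r hr
      rw [← ht]
      exact ⟨r, hP' ⟨r, hr, rfl⟩, rfl⟩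
    have h1 : (⟨u, huC⟩ : C) ∈ (R₁ : Subgroup C) := hR₁ (Subgroup.mem_zpowers u)
    have h2 : c * ⟨g * u * g⁻¹, huC'⟩ * c⁻¹ ∈ (R₁ : Subgroup C) := by
      rw [← hc]
      exact ⟨⟨g * u * g⁻¹, huC'⟩, hR₂ ⟨u, Subgroup.mem_zpowers u, rfl⟩, rfl⟩
    have hzc : (c : G) * (g * z * g⁻¹) * (c : G)⁻¹ = g * z * g⁻¹ := by
      rw [← Subgroup.mem_centralizer_iff.1 c.2 _ (hgQ z hzQ), mul_inv_cancel_right]
    have e1 : t * u * t⁻¹ * (t * u * t⁻¹) = z := by
      have e : t * u * t⁻¹ * (t * u * t⁻¹) = t * z * t⁻¹ := by rw [← huu]; group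
      rcases hsqinv _ (hR _ h1) (by
          rw [e, show t * z * t⁻¹ * (t * z * t⁻¹) = t * (z * z) * t⁻¹ by group, hz2]; group) with h | h
      · rw [e] at h; exact absurd (conj_eq_one_iff.1 h) hz1
      · exact h
    have hmem2 : t * ((c : G) * (g * u * g⁻¹) * (c : G)⁻¹) * t⁻¹ ∈ (S : Subgroup G) := hR _ h2
    have e2 : t * ((c : G) * (g * u * g⁻¹) * (c : G)⁻¹) * t⁻¹ * (t * ((c : G) * (g * u * g⁻¹) * (c : G)⁻¹) * t⁻¹) = z := by
      have e : t * ((c : G) * (g * u * g⁻¹) * (c : G)⁻¹) * t⁻¹ * (t * ((c : G) * (g * u * g⁻¹) * (c : G)⁻¹) * t⁻¹) =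
          t * (g * z * g⁻¹) * t⁻¹ := by rw [← hzc, ← huu]; group
      rcases hsqinv _ hmem2 (by
          rw [e, show t * (g * z * g⁻¹) * t⁻¹ * (t * (g * z * g⁻¹) * t⁻¹) = t * g * (z * z) * g⁻¹ * t⁻¹ by group, hz2]
          group) with h | h
      · rw [e] at h; exact absurd (conj_eq_one_iff.1 (conj_eq_one_iff.1 h)) hz1
      · exact h
    have a1 : t * z * t⁻¹ = z := by
      conv_rhs => rw [← e1]
      rw [← huu]; group
    have a2 : t * (g * z * g⁻¹) * t⁻¹ = z := by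
      conv_rhs => rw [← e2]
      rw [← hzc, ← huu]; group
    rw [← a1] at a2
    have := mul_left_cancel (mul_right_cancel a2)
    rw [a1] at this
    exact this
  -- involutions of `Q` are fixed
  have hinv1 : ∀ x ∈ Q, x * x = 1 → g * x * g⁻¹ = x := by
    intro x hx h
    have hgx : g * x * g⁻¹ * (g * x * g⁻¹) = 1 := by
      rw [show g * x * g⁻¹ * (g * x * g⁻¹) = g * (x * x) * g⁻¹ by group, h]; group
    by_cases hx1 : x = 1
    · simp [hx1]
    by_cases hxz : x = z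
    · exact hxz ▸ hgz (hxz ▸ hx)
    rcases eq_or_ne (g * x * g⁻¹) z with e | e
    · exfalso
      have hzQ : z ∈ Q := e ▸ hgQ x hx
      exact hxz (mul_left_cancel (mul_right_cancel (e.trans (hgz hzQ).symm)))
    have hgx1 : g * x * g⁻¹ ≠ 1 := fun e => hx1 (conj_eq_one_iff.1 e)
    have hxS := (hinvol x (hQ hx) h).resolve_left hx1 |>.resolve_left hxz
    have hgxS := (hinvol _ (hQ (hgQ x hx)) hgx).resolve_left hgx1 |>.resolve_left e
    rcases eq_or_ne (g * x * g⁻¹) x with e' | e'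
    · exact e'
    have hbz : b * z = z * b := by
      have := heven (2 ^ (k + 1)) b hb
      rw [← hp2] at this
      exact this.symm
    have hv : g * x * g⁻¹ = x * z := by
      rcases hxS with hxS | hxS <;> rcases hgxS with hgxS | hgxS
      · exact absurd (hgxS.trans hxS.symm) e'
      · rw [hgxS, hxS]
      · rw [hgxS, hxS, mul_assoc, hz2, mul_one]
      · exact absurd (hgxS.trans hxS.symm) e'
    have hzQ : z ∈ Q := by
      have := mul_mem (inv_mem hx) (hgQ x hx)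
      rwa [hv, inv_mul_cancel_left] at this
    exact step x z hv (hgz hzQ) (by
      rw [show (4 : ℕ) = 2 + 2 from rfl, pow_add, pow_two, hz2, mul_one])
  -- elements of exponent four are fixed
  have hinv2 : ∀ x ∈ Q, x ^ 4 = 1 → g * x * g⁻¹ = x := by
    intro x hx h
    set y := g * x * g⁻¹ with hy
    have hy4 : y ^ 4 = 1 := by rw [hy, conj_pow, h, mul_one, mul_inv_cancel]
    have hy2 : y * y = x * x := by
      rw [← hinv1 (x * x) (mul_mem hx hx) (by rw [← pow_two, ← pow_two, ← pow_mul]; exact h), hy]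
      group
    have hc := hord4 x (hQ hx) y (hQ (hgQ x hx)) h hy4
    have hv2 : x⁻¹ * y * (x⁻¹ * y) = 1 := by
      calc x⁻¹ * y * (x⁻¹ * y) = x⁻¹ * x⁻¹ * (y * y) := by
            rw [show x⁻¹ * y * (x⁻¹ * y) = x⁻¹ * (y * x⁻¹) * y by group,
              show y * x⁻¹ = x⁻¹ * y from ((show Commute x y from hc).symm.inv_right).eq]
            group
        _ = 1 := by rw [hy2]; group
    exact step x (x⁻¹ * y) (by rw [← hy]; group) (hinv1 _ (mul_mem (inv_mem hx) (hgQ x hx)) hv2)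
      (by rw [show (4 : ℕ) = 2 + 2 from rfl, pow_add, pow_two, hv2, mul_one])
  -- all elements are fixed
  have main : ∀ e : ℕ, ∀ x ∈ Q, x ^ 2 ^ e = 1 → g * x * g⁻¹ = x := by
    intro e
    induction e with
    | zero => intro x _ h; rw [pow_zero, pow_one] at h; simp [h]
    | succ e ih =>
      intro x hx h
      set y := g * x * g⁻¹ with hy
      have hy2 : y * y = x * x := by
        rw [← ih (x * x) (mul_mem hx hx) (by rw [← pow_two, ← pow_mul, ← pow_succ']; exact h), hy]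
        group
      have hxy : x⁻¹ * y ∈ Q := mul_mem (inv_mem hx) (hgQ x hx)
      have h44 : (x⁻¹ * y) ^ 4 = 1 := by
        rw [h4mul _ (inv_mem (hQ hx)) _ (hQ (hgQ x hx)), show (4 : ℕ) = 2 * 2 from rfl, pow_mul, pow_mul,
          pow_two y, hy2, inv_pow, inv_pow, ← pow_two x, inv_mul_cancel]
      exact step x (x⁻¹ * y) (by rw [← hy]; group) (hinv2 _ hxy h44) h44
  rw [Subgroup.mem_centralizer_iff]
  intro q hq
  obtain ⟨e, he⟩ := S.isPGroup' ⟨q, hQ hq⟩
  have := main e q hq (congrArg Subtype.val he)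
  exact (mul_inv_eq_iff_eq_mul.1 this).symm

end Cfsg.Agent.S3178
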