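import Cfsg.Statements.S3179
import Mathlib
import Cfsg.Agent.Lib.LinGroup.Order
import Cfsg.Agent.Lib.LinGroup.ProjLine
import Cfsg.Agent.Lib.Classical.UnitaryCentre
import Cfsg.Agent.Lib.SuzukiSp4.Iso
import Cfsg.Agent.Lib.Suzuki.Group

set_option autoImplicit false
open Cfsg

namespace Cfsg.Agent.S3179

open Matrix

theorem card_GL5 : Nat.card (GL (Fin 5) (ZMod 2)) = 9999360 := by
  rw [Cfsg.Agent.Lib.LinGroup.card_GL_fintype, ZMod.card, Fin.prod_univ_five]
  rfl

/-- The first of two commuting elements of order 3. -/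
def matA : GL (Fin 5) (ZMod 2) :=
  ⟨!![0,1,0,0,0; 1,1,0,0,0; 0,0,1,0,0; 0,0,0,1,0; 0,0,0,0,1], !![1,1,0,0,0; 1,0,0,0,0; 0,0,1,0,0; 0,0,0,1,0; 0,0,0,0,1],
    by decide +kernel, by decide +kernel⟩

/-- The second of two commuting elements of order 3. -/
def matB : GL (Fin 5) (ZMod 2) :=
  ⟨!![1,0,0,0,0; 0,1,0,0,0; 0,0,0,1,0; 0,0,1,1,0; 0,0,0,0,1], !![1,0,0,0,0; 0,1,0,0,0; 0,0,1,1,0; 0,0,1,0,0; 0,0,0,0,1],
    by decide +kernel, by decide +kernel⟩

/-- `GL(5,2)` has no element of order 9. -/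
theorem orderOf_ne_nine (g : GL (Fin 5) (ZMod 2)) : ¬ 9 ∣ orderOf g := by
  intro h9
  haveI : Fact (Nat.Prime 3) := ⟨Nat.prime_three⟩
  set k := g ^ (orderOf g / 9) with hk
  have hko : orderOf k = 9 := by
    rw [hk, orderOf_pow_orderOf_div (orderOf_pos g).ne' h9]
  set P := Subgroup.closure ({matA, matB} : Set (GL (Fin 5) (ZMod 2))) with hP
  have hAB : Commute matA matB := Units.ext (by decide +kernel)
  have hA3 : matA ^ 3 = 1 := Units.ext (by decide +kernel)
  have hB3 : matB ^ 3 = 1 := Units.ext (by decide +kernel)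
  have hexp : ∀ x ∈ P, x ^ 3 = 1 := by
    intro x hx
    haveI := Subgroup.isMulCommutative_closure (k := ({matA, matB} : Set (GL (Fin 5) (ZMod 2)))) (by
      rintro a (rfl | rfl) b (rfl | rfl)
      exacts [rfl, hAB, hAB.symm, rfl])
    induction hx using Subgroup.closure_induction with
    | mem z hz => rcases hz with rfl | rfl; exacts [hA3, hB3]
    | one => exact one_pow 3
    | mul a b ha hb iha ihb =>
      have : Commute a b := congrArg Subtype.val ((IsMulCommutative.is_comm (M := ↥P)).comm ⟨a, ha⟩ ⟨b, hb⟩)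
      rw [this.mul_pow, iha, ihb, one_mul]
    | inv a ha iha => rw [inv_pow, iha, inv_one]
  have hP3 : IsPGroup 3 ↥P := fun x => ⟨1, Subtype.ext (by simpa using hexp x x.2)⟩
  obtain ⟨R, hR⟩ := hP3.exists_le_sylow
  have hRc : Nat.card R = 9 := by
    rw [Sylow.card_eq_multiplicity, card_GL5,
      show Nat.factorization 9999360 3 = 2 by
        rw [show (9999360 : ℕ) = 3 ^ 2 * 1111040 by norm_num, Nat.factorization_mul (by norm_num) (by norm_num),
          Finsupp.add_apply, Nat.Prime.factorization_pow Nat.prime_three, Finsupp.single_eq_same,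
          Nat.factorization_eq_zero_of_not_dvd (by norm_num : ¬ 3 ∣ 1111040)]]
    rfl
  have hA : orderOf matA = 3 := orderOf_eq_prime hA3 (fun e => absurd (congrArg Units.val e) (by decide +kernel))
  have hB : matB ∉ Subgroup.zpowers matA := by
    intro hmem
    obtain ⟨i, hi, he⟩ := (mem_zpowers_iff_mem_range_orderOf.1 hmem |> Finset.mem_image.1)
    rw [hA, Finset.mem_range] at hi
    interval_cases i <;> exact absurd (congrArg Units.val he) (by decide +kernel)
  have hPc : Nat.card P = 9 := by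
    have hdvd : Nat.card P ∣ 3 ^ 2 := by
      rw [show (3 : ℕ) ^ 2 = 9 from rfl, ← hRc]; exact Subgroup.card_dvd_of_le hR
    have hle : Subgroup.zpowers matA ≤ P := Subgroup.zpowers_le.2 (Subgroup.subset_closure (Set.mem_insert _ _))
    have hlt : 3 < Nat.card P := by
      rw [← hA, ← Nat.card_zpowers]
      refine lt_of_le_of_ne (Subgroup.card_le_of_le hle) fun e => hB ?_
      rw [Subgroup.eq_of_le_of_card_ge hle e.ge]
      exact Subgroup.subset_closure (Set.mem_insert_of_mem _ rfl)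
    obtain ⟨i, hi, he⟩ := (Nat.dvd_prime_pow Nat.prime_three).1 hdvd
    interval_cases i <;> simp_all
  have hPR : P = ↑R := Subgroup.eq_of_le_of_card_ge hR (by rw [hPc]; exact hRc.le)
  have hk3 : IsPGroup 3 ↥(Subgroup.zpowers k) := IsPGroup.of_card (n := 2) (by rw [Nat.card_zpowers, hko]; rfl)
  obtain ⟨R', hR'⟩ := hk3.exists_le_sylow
  obtain ⟨c, hc⟩ := MulAction.exists_smul_eq (GL (Fin 5) (ZMod 2)) R R'
  have hmem : k ∈ ((c • R : Sylow 3 _) : Subgroup (GL (Fin 5) (ZMod 2))) := hc ▸ hR' (Subgroup.mem_zpowers k)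
  rw [Sylow.coe_subgroup_smul, Subgroup.mem_pointwise_smul_iff_inv_smul_mem, ← hPR] at hmem
  have := hexp _ hmem
  rw [← smul_pow', smul_eq_iff_eq_inv_smul] at this
  rw [smul_one] at this
  exact absurd (orderOf_dvd_of_pow_eq_one this) (by rw [hko]; norm_num)

/-- `PSL(2,8)` has an element of order 9. -/
theorem exists_orderOf_nine {F : Type} [Field F] [Fintype F] (hF : Fintype.card F = 8) :
    ∃ x : Matrix.ProjectiveSpecialLinearGroup (Fin 2) F, orderOf x = 9 := by
  haveI : Fact (Nat.Prime 2) := ⟨Nat.prime_two⟩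
  haveI : CharP F 2 := charP_of_card_eq_prime_pow (f := 3) (by rw [hF]; rfl)
  have h2 : (2 : F) = 0 := CharTwo.two_eq_zero
  classical
  obtain ⟨g, hg0, hg1⟩ : ∃ g : F, g ≠ 0 ∧ g ≠ 1 := by
    obtain ⟨g, -, hg⟩ := Finset.exists_mem_notMem_of_card_lt_card
      (show ({0, 1} : Finset F).card < (Finset.univ : Finset F).card from
        lt_of_le_of_lt Finset.card_le_two (by rw [Finset.card_univ, hF]; norm_num))
    simp only [Finset.mem_insert, Finset.mem_singleton, not_or] at hg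
    exact ⟨g, hg⟩
  have hg7 : g ^ 7 = 1 := by
    have := FiniteField.pow_card_sub_one_eq_one g hg0
    rwa [hF] at this
  obtain ⟨c, hc⟩ : ∃ c : F, c ^ 3 + c + 1 = 0 := by
    have h : (g - 1) * ((g ^ 3 + g + 1) * (g ^ 3 + g ^ 2 + 1)) = 0 := by
      linear_combination hg7 + (g ^ 4 - g ^ 3) * h2
    rcases mul_eq_zero.1 h with h | h
    · exact absurd (sub_eq_zero.1 h) hg1
    rcases mul_eq_zero.1 h with h | h
    · exact ⟨g, h⟩
    · refine ⟨g⁻¹, ?_⟩
      field_simp
      linear_combination h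
  let M : Matrix.SpecialLinearGroup (Fin 2) F :=
    ⟨!![0, 1; 1, c], by rw [Matrix.det_fin_two_of]; linear_combination - h2⟩
  have hM3 : (↑(M ^ 3) : Matrix (Fin 2) (Fin 2) F) = !![c, 1 + c ^ 2; 1 + c ^ 2, 2 * c + c ^ 3] := by
    rw [Matrix.SpecialLinearGroup.coe_pow]
    simp [M, pow_succ]
    ring
  have hM9 : M ^ 9 = 1 := by
    apply Subtype.ext
    rw [show 9 = 3 * 3 by rfl, pow_mul, Matrix.SpecialLinearGroup.coe_pow, hM3, pow_succ, pow_two,
      Matrix.mul_fin_two, Matrix.mul_fin_two, Matrix.SpecialLinearGroup.coe_one, Matrix.one_fin_two]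
    have hc4 : c ^ 3 = c + 1 := by linear_combination hc - (c + 1) * h2
    ext i j
    fin_cases i <;> fin_cases j <;> simp [hc4, h2] <;> grind
  refine ⟨QuotientGroup.mk' _ M, orderOf_eq_prime_pow (p := 3) (n := 1) ?_ ?_⟩
  · intro h
    rw [pow_one, ← map_pow, QuotientGroup.mk'_apply, QuotientGroup.eq_one_iff,
      Matrix.SpecialLinearGroup.mem_center_iff] at h
    obtain ⟨r, -, hr⟩ := h
    have := congrFun (congrFun hr 0) 1
    rw [hM3] at this
    simp at this
    have hc1 : c = 1 := by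
      have h' : (c + 1) * (c + 1) = 0 := by linear_combination -this + c * h2
      have := mul_self_eq_zero.1 h'
      linear_combination this - h2
    rw [hc1] at hc
    exact one_ne_zero (show (1 : F) = 0 by linear_combination hc - h2)
  · show (QuotientGroup.mk' _ M) ^ 9 = 1
    rw [← map_pow, hM9, map_one]

/-- Let X be a section of the general linear group GL(5, 2), that is, a quotient of a subgroup of it. If X is isomorphic to PSL(2, 2^n) for some n ≥ 2, to a Suzuki group over the field with 2^(2m+1) elements for some m ≥ 1, or to PSU(3, 2^n) for some n ≥ 2, then X is isomorphic to PSL(2, 4). -/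
theorem result {H : Subgroup (GL (Fin 5) (ZMod 2))}
    {K : Subgroup ↥H} [K.Normal]
    (hX : (∃ (n : ℕ) (F : Type) (_ : Field F) (_ : Fintype F), 2 ≤ n ∧ Fintype.card F = 2 ^ n ∧
        Nonempty (↥H ⧸ K ≃* Matrix.ProjectiveSpecialLinearGroup (Fin 2) F)) ∨
      (∃ (m : ℕ) (F : Type) (_ : Field F) (_ : Fintype F), 1 ≤ m ∧ Fintype.card F = 2 ^ (2 * m + 1) ∧
        Nonempty (↥H ⧸ K ≃* ↥(Cfsg.Lie.Sz F (2 ^ (m + 1))))) ∨
      (∃ (n : ℕ) (F : Type) (_ : Field F) (_ : Fintype F), 2 ≤ n ∧ Fintype.card F = 4 ^ n ∧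
        Nonempty (↥H ⧸ K ≃* Cfsg.PSU 3 F (2 ^ n)))) :
    ∃ (F : Type) (_ : Field F) (_ : Fintype F), Fintype.card F = 4 ∧
      Nonempty (↥H ⧸ K ≃* Matrix.ProjectiveSpecialLinearGroup (Fin 2) F) := by
  have hdvd : Nat.card (↥H ⧸ K) ∣ 9999360 :=
    (Subgroup.card_quotient_dvd_card K).trans (card_GL5 ▸ Subgroup.card_subgroup_dvd_card H)
  rcases hX with ⟨n, F, hf, hft, hn, hcard, ⟨e⟩⟩ | ⟨m, F, hf, hft, hm, hcard, ⟨e⟩⟩ | ⟨n, F, hf, hft, hn, hcard, ⟨e⟩⟩
  · rw [Nat.card_congr e.toEquiv] at hdvd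
    have hq := Cfsg.Agent.Lib.LinGroup.card_PSL_two_mul (F := F)
    have hgcd : Nat.gcd 2 (Fintype.card F - 1) = 1 := by
      rw [hcard]
      refine Nat.prime_two.coprime_iff_not_dvd.2 fun h => ?_
      have h2 : 2 ∣ 2 ^ n := dvd_pow_self 2 (by omega)
      have := Nat.two_pow_pos n
      omega
    rw [hgcd, one_mul, hcard] at hq
    have h2n : 2 ≤ 2 ^ n := Nat.le_self_pow (by omega) 2
    have hq' : Nat.card (Matrix.ProjectiveSpecialLinearGroup (Fin 2) F) = 2 ^ n * ((2 ^ n) ^ 2 - 1) := by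
      apply Nat.eq_of_mul_eq_mul_left (show 0 < 2 ^ n - 1 by omega)
      rw [hq, show (2 ^ n) ^ 2 - 2 ^ n = (2 ^ n - 1) * 2 ^ n by rw [pow_two, Nat.sub_mul, one_mul]]
      ring
    rw [hq'] at hdvd
    have hn10 : n ≤ 14 := by
      by_contra hlt
      have h15 : 2 ^ 15 ≤ 2 ^ n := Nat.pow_le_pow_right (by norm_num) (by omega)
      have h1 : 1 ≤ (2 ^ n) ^ 2 - 1 := by
        have := Nat.pow_le_pow_left h2n 2
        omega
      have hle := Nat.le_of_dvd (by norm_num) hdvd
      have h2 : (2 ^ 15) ^ 2 - 1 ≤ (2 ^ n) ^ 2 - 1 := Nat.sub_le_sub_right (Nat.pow_le_pow_left h15 2) 1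
      have := Nat.mul_le_mul h15 h2
      omega
    interval_cases n
    · exact ⟨F, hf, hft, hcard, ⟨e⟩⟩
    · exfalso
      obtain ⟨x, hx⟩ := exists_orderOf_nine (F := F) hcard
      obtain ⟨h, hh⟩ := QuotientGroup.mk'_surjective K (e.symm x)
      have := orderOf_map_dvd (QuotientGroup.mk' K) h
      rw [hh, MulEquiv.orderOf_eq, hx, ← Subgroup.orderOf_coe] at this
      exact orderOf_ne_nine _ this
    all_goals norm_num at hdvd
  · exfalso
    rw [Nat.card_congr e.toEquiv] at hdvd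
    have hh : Cfsg.Agent.Lib.Suzuki.Hyp F m := ⟨hm, hcard⟩
    rw [← Nat.card_congr (Cfsg.Agent.Lib.SuzukiSp4.szEquiv hh).toEquiv, Cfsg.Agent.Lib.Suzuki.card_Sz hh, hcard] at hdvd
    have hm3 : m ≤ 2 := by
      by_contra hlt
      have h128 : 2 ^ 7 ≤ 2 ^ (2 * m + 1) := Nat.pow_le_pow_right (by norm_num) (by omega)
      have hle := Nat.le_of_dvd (by norm_num) hdvd
      have h1 : 1 ≤ 2 ^ (2 * m + 1) - 1 := by omega
      have := Nat.mul_le_mul (Nat.mul_le_mul (Nat.pow_le_pow_left h128 2)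
        (Nat.succ_le_succ (Nat.pow_le_pow_left h128 2))) h1
      simp only [Nat.succ_eq_add_one] at this
      omega
    interval_cases m <;> norm_num at hdvd
  · exfalso
    rw [Nat.card_congr e.toEquiv] at hdvd
    have hcard' : Fintype.card F = (2 ^ n) ^ 2 := by
      rw [hcard, ← pow_mul, show 4 = 2 ^ 2 by rfl, ← pow_mul, mul_comm]
    have hq := Cfsg.Agent.Lib.Classical.natCard_PSU hcard' 3 (by norm_num)
    rw [Finset.prod_range_succ, Finset.prod_range_succ, Finset.prod_range_succ, Finset.prod_range_zero] at hq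
    norm_num [Nat.even_iff] at hq
    have hn4 : n ≤ 5 := by
      by_contra hlt
      have h64 : 2 ^ 6 ≤ 2 ^ n := Nat.pow_le_pow_right (by norm_num) (by omega)
      have hle := Nat.le_of_dvd (by norm_num) hdvd
      have hg : Nat.gcd 3 (2 ^ n + 1) ≤ 3 := Nat.gcd_le_left _ (by norm_num)
      generalize Nat.card (Cfsg.PSU 3 F (2 ^ n)) = N at hle hq
      generalize 2 ^ n = q at h64 hq hg
      generalize Nat.gcd 3 (q + 1) = d at hg hq
      have h1 : d * ((q + 1) * N) ≤ 3 * ((q + 1) * 9999360) :=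
        Nat.mul_le_mul hg (Nat.mul_le_mul_left _ hle)
      rw [hq] at h1
      have h2 : 64 ^ 3 * ((q + 1) * (64 ^ 2 - 1) * 1) ≤ q ^ 3 * ((q + 1) * (q ^ 2 - 1) * (q ^ 3 + 1)) :=
        Nat.mul_le_mul (Nat.pow_le_pow_left h64 3) (Nat.mul_le_mul (Nat.mul_le_mul_left _
          (Nat.sub_le_sub_right (Nat.pow_le_pow_left h64 2) 1)) (Nat.le_add_left 1 _))
      norm_num at h1 h2
      omega
    generalize Nat.card (Cfsg.PSU 3 F (2 ^ n)) = N at hdvd hq
    interval_cases n <;> norm_num at hq <;> (have : N ≠ 0 := by omega) <;>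
      (obtain ⟨r, hr⟩ := hdvd; revert hr; first
        | (rw [show N = 62400 by omega]; omega)
        | (rw [show N = 5515776 by omega]; omega)
        | (intro hr; have := Nat.le_of_dvd (by norm_num) ⟨r, hr⟩; omega))

end Cfsg.Agent.S3179
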