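import Cfsg.Statements.S3180
import Mathlib

set_option autoImplicit false
open Cfsg

namespace Cfsg.Agent.S3180

theorem mem_norm_of_map {J : Type*} [Group J] {P : Subgroup J} {k : J}
    (h : P.map (MulAut.conj k).toMonoidHom = P) : k ∈ Subgroup.normalizer (P : Set J) := by
  rw [Subgroup.mem_normalizer_iff]
  intro a
  constructor
  · intro ha
    rw [← h]; exact ⟨a, ha, rfl⟩
  · intro ha
    rw [← h] at ha
    obtain ⟨b, hb, e⟩ := ha
    have : b = a := by simpa using e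
    exact this ▸ hb

/-- Let P be a Sylow p-subgroup of a finite group J and P₁ a subgroup of P that is weakly closed in P with respect to J. If J acts on a set and two points, each fixed by every element of P₁, lie in one J-orbit, then they lie in one orbit of the normalizer of P₁ in J. -/
theorem result {J : Type*} [Group J] [Finite J]
    {p : ℕ} [Fact p.Prime] (P : Sylow p J) (P₁ : Subgroup J) (hW : Cfsg.IsWeaklyClosed P₁ (P : Subgroup J))
    {Ω : Type*} [MulAction J Ω] (x y : Ω) (hx : ∀ g ∈ P₁, g • x = x) (hy : ∀ g ∈ P₁, g • y = y)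
    (hc : ∃ g : J, g • x = y) :
    ∃ g ∈ Subgroup.normalizer (P₁ : Set J), g • x = y := by
  obtain ⟨g, hg⟩ := hc
  obtain ⟨hWle, hWc⟩ := hW
  have hP1 : IsPGroup p P₁ := P.isPGroup'.to_le hWle
  let St := MulAction.stabilizer J x
  let P₂ : Subgroup J := P₁.map (MulAut.conj g⁻¹).toMonoidHom
  have hP2 : IsPGroup p P₂ := hP1.map _
  have hP1S : P₁ ≤ St := fun a ha => hx a ha
  have hP2S : P₂ ≤ St := by
    rintro _ ⟨a, ha, rfl⟩
    show (g⁻¹ * a * g⁻¹⁻¹) • x = x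
    rw [inv_inv, mul_smul, mul_smul, hg, hy a ha, ← hg, inv_smul_smul]
  obtain ⟨Q₁, hQ₁⟩ := (hP1.comap_subtype (K := St)).exists_le_sylow
  obtain ⟨Q₂, hQ₂⟩ := (hP2.comap_subtype (K := St)).exists_le_sylow
  obtain ⟨h, hh⟩ := MulAction.exists_smul_eq St Q₂ Q₁
  obtain ⟨P', hP'⟩ := (Q₁.isPGroup'.map St.subtype).exists_le_sylow
  obtain ⟨k, hk⟩ := MulAction.exists_smul_eq J P' P
  have key : ∀ q : St, q ∈ (Q₁ : Subgroup St) → k * (q : J) * k⁻¹ ∈ P := by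
    intro q hq
    rw [← hk]
    exact ⟨q, hP' ⟨q, hq, rfl⟩, rfl⟩
  have h1 : P₁.map (MulAut.conj k).toMonoidHom = P₁ := by
    apply hWc
    rintro _ ⟨a, ha, rfl⟩
    exact key ⟨a, hP1S ha⟩ (hQ₁ ha)
  have h2 : P₁.map (MulAut.conj (k * h * g⁻¹)).toMonoidHom = P₁ := by
    apply hWc
    rintro _ ⟨a, ha, rfl⟩
    have hb : g⁻¹ * a * g⁻¹⁻¹ ∈ P₂ := ⟨a, ha, rfl⟩
    have : h * (⟨_, hP2S hb⟩ : St) * h⁻¹ ∈ (Q₁ : Subgroup St) := by
      rw [← hh]; exact ⟨⟨_, hP2S hb⟩, hQ₂ hb, rfl⟩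
    have := key _ this
    show k * ↑h * g⁻¹ * a * (k * ↑h * g⁻¹)⁻¹ ∈ (P : Subgroup J)
    rw [SetLike.mem_coe.symm, Sylow.coe_coe] at *
    simpa [mul_assoc] using this
  have n1 : k ∈ Subgroup.normalizer (P₁ : Set J) := mem_norm_of_map h1
  have n2 := mem_norm_of_map h2
  refine ⟨(k * h * g⁻¹)⁻¹ * k, mul_mem (inv_mem n2) n1, ?_⟩
  have hhx : (h : J)⁻¹ • x = x := inv_smul_eq_iff.2 h.2.symm
  rw [show (k * h * g⁻¹)⁻¹ * k = g * (h : J)⁻¹ by group, mul_smul, hhx, hg]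

end Cfsg.Agent.S3180
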