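import Cfsg.Statements.S3183
import Mathlib

set_option autoImplicit false
open Cfsg

namespace Cfsg.Agent.S3183

theorem central_of_central {G : Type*} [Group G] [Finite G]
    (hCI : ∀ S T : Sylow 2 G, S ≠ T → ∃ U : Sylow 2 G,
      (S : Subgroup G) ⊓ (T : Subgroup G) ≤ (Subgroup.center ↥(U : Subgroup G)).map (U : Subgroup G).subtype)
    (S U : Sylow 2 G) {x : G} (hx : x ∈ (S : Subgroup G))
    (hU : ∀ u ∈ (U : Subgroup G), u * x = x * u) : ∀ s ∈ (S : Subgroup G), s * x = x * s := by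
  by_contra hne
  push Not at hne
  obtain ⟨s₀, hs₀, hs₀x⟩ := hne
  let C := Subgroup.centralizer ({x} : Set G)
  have hxC : ∀ a : G, a ∈ C ↔ x * a = a * x := fun a => by simp [C, Subgroup.mem_centralizer_iff]
  let P : Subgroup G := (S : Subgroup G) ⊓ C
  have hPp : IsPGroup 2 P := S.isPGroup'.to_le inf_le_left
  -- a Sylow subgroup of `G` centralising `x` and containing `P`
  have hUC : (U : Subgroup G) ≤ C := fun u hu => (hxC u).2 (hU u hu).symm
  obtain ⟨Q, hQ⟩ := (hPp.comap_subtype (K := C)).exists_le_sylow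
  obtain ⟨c, hc⟩ := MulAction.exists_smul_eq C (U.subtype hUC) Q
  let U' : Sylow 2 G := (c : G) • U
  have hU'C : (U' : Subgroup G) ≤ C := Sylow.smul_le hUC c
  have hPU' : P ≤ (U' : Subgroup G) := by
    intro a ha
    have h1 : (⟨a, ha.2⟩ : C) ∈ (Q : Subgroup C) := hQ ha
    rw [← hc, Sylow.smul_subtype hUC c] at h1
    exact h1
  have hU'S : U' ≠ S := by
    intro e
    exact hs₀x ((hxC s₀).1 (hU'C (e.symm ▸ hs₀))).symm
  obtain ⟨W, hW⟩ := hCI S U' (Ne.symm hU'S)
  have hPW : ∀ a ∈ P, ∀ w ∈ (W : Subgroup G), w * a = a * w := by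
    intro a ha w hw
    obtain ⟨y, hy, rfl⟩ := hW ⟨ha.1, hPU' ha⟩
    exact congrArg Subtype.val (Subgroup.mem_center_iff.1 hy ⟨w, hw⟩)
  -- normalisers grow in `S`
  have hlt : P.subgroupOf (S : Subgroup G) < ⊤ := by
    refine lt_top_iff_ne_top.2 fun e => hs₀x ?_
    have : (⟨s₀, hs₀⟩ : (S : Subgroup G)) ∈ P.subgroupOf (S : Subgroup G) := e ▸ Subgroup.mem_top _
    exact ((hxC s₀).1 this.2).symm
  have : Group.IsNilpotent (S : Subgroup G) := S.isPGroup'.isNilpotent
  obtain ⟨r, hrN, hrP⟩ := SetLike.exists_of_lt (Group.normalizerCondition_of_isNilpotent _ hlt)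
  -- `r` normalises `P`, so it lies in a Sylow subgroup of `G` inside the normaliser centralising `P`
  let N := Subgroup.normalizer (P : Set G)
  have hr : (r : G) ∈ N := by
    rw [Subgroup.mem_normalizer_iff]
    intro a
    rw [Subgroup.mem_normalizer_iff] at hrN
    constructor
    · intro ha
      exact (hrN ⟨a, ha.1⟩).1 ha
    · intro ha
      have haS : a ∈ (S : Subgroup G) := by
        have := mul_mem (mul_mem (inv_mem r.2) ha.1) r.2
        simpa [mul_assoc] using this
      exact (hrN ⟨a, haS⟩).2 ha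
  have hWN : (W : Subgroup G) ≤ N := by
    intro w hw
    rw [Subgroup.mem_normalizer_iff]
    intro a
    constructor
    · intro ha
      rwa [hPW a ha w hw, mul_inv_cancel_right]
    · intro ha
      have h := hPW _ ha w hw
      have : a = w * a * w⁻¹ := by
        calc a = w⁻¹ * ((w * a * w⁻¹) * w) := by group
          _ = w⁻¹ * (w * (w * a * w⁻¹)) := by rw [h]
          _ = w * a * w⁻¹ := by group
      exact this ▸ ha
  obtain ⟨V, hV⟩ := ((S.isPGroup'.to_le (Subgroup.zpowers_le.2 r.2)).comap_subtype (K := N)).exists_le_sylow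
  obtain ⟨n, hn⟩ := MulAction.exists_smul_eq N (W.subtype hWN) V
  have hrV : (⟨r, hr⟩ : N) ∈ (V : Subgroup N) := hV (Subgroup.mem_zpowers (r : G))
  rw [← hn] at hrV
  obtain ⟨w, hw, e⟩ := hrV
  have hxP : x ∈ P := ⟨hx, (hxC x).2 rfl⟩
  have hcx : (r : G) * x = x * r := by
    have e' : (n : G) * (w : G) * (n : G)⁻¹ = r := congrArg Subtype.val e
    have hax : (n : G)⁻¹ * x * n ∈ P := by
      simpa using (Subgroup.mem_normalizer_iff.1 (inv_mem n.2) x).1 hxP
    have h := hPW _ hax w hw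
    rw [← e']
    calc (n : G) * w * (n : G)⁻¹ * x = n * (w * ((n : G)⁻¹ * x * n)) * (n : G)⁻¹ := by group
      _ = n * (((n : G)⁻¹ * x * n) * w) * (n : G)⁻¹ := by rw [h]
      _ = x * (n * w * (n : G)⁻¹) := by group
  exact hrP ⟨r.2, (hxC r).2 hcx.symm⟩

/-- Let G be a finite group in which the intersection of any two distinct Sylow 2-subgroups is contained in the centre of some Sylow 2-subgroup, and let S be a Sylow 2-subgroup. Then for every x in S the centralizer of x in S is a Sylow 2-subgroup of the centralizer of x in G (no 2-subgroup centralizing x is larger), and for every other Sylow 2-subgroup T the intersection S ∩ T lies in both the centre of S and the centre of T. -/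
theorem result {G : Type*} [Group G] [Finite G]
    (hCI : ∀ S T : Sylow 2 G, S ≠ T → ∃ U : Sylow 2 G,
      (S : Subgroup G) ⊓ (T : Subgroup G) ≤ (Subgroup.center ↥(U : Subgroup G)).map (U : Subgroup G).subtype)
    (S : Sylow 2 G) :
    (∀ x ∈ (S : Subgroup G), ∀ P : Subgroup G, IsPGroup 2 ↥P → P ≤ Subgroup.centralizer ({x} : Set G) →
        Nat.card ↥P ≤ Nat.card ↥((S : Subgroup G) ⊓ Subgroup.centralizer ({x} : Set G))) ∧
    (∀ T : Sylow 2 G, T ≠ S →
        (S : Subgroup G) ⊓ (T : Subgroup G) ≤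
          (Subgroup.center ↥(S : Subgroup G)).map (S : Subgroup G).subtype ⊓
            (Subgroup.center ↥(T : Subgroup G)).map (T : Subgroup G).subtype) := by
  have key : ∀ (S U : Sylow 2 G) (x : G), x ∈ (S : Subgroup G) →
      (∀ u ∈ (U : Subgroup G), u * x = x * u) → ∀ s ∈ (S : Subgroup G), s * x = x * s :=
    fun S U x hx hU => central_of_central hCI S U hx hU
  have part2 : ∀ (S T : Sylow 2 G), T ≠ S → ∀ x : G, x ∈ (S : Subgroup G) → x ∈ (T : Subgroup G) →
      ∀ s ∈ (S : Subgroup G), s * x = x * s := by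
    intro S T hT x hxS hxT
    obtain ⟨U, hU⟩ := hCI S T (Ne.symm hT)
    obtain ⟨y, hy, rfl⟩ := hU ⟨hxS, hxT⟩
    exact key S U _ hxS fun u hu => congrArg Subtype.val (Subgroup.mem_center_iff.1 hy ⟨u, hu⟩)
  constructor
  · intro x hx P hP hPC
    let C := Subgroup.centralizer ({x} : Set G)
    have hxC : ∀ a : G, a ∈ C ↔ x * a = a * x := fun a => by simp [C, Subgroup.mem_centralizer_iff]
    have hCS : IsPGroup 2 ((S : Subgroup G).subgroupOf C) := S.isPGroup'.comap_subtype
    obtain ⟨Q, hQ⟩ := hCS.exists_le_sylow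
    obtain ⟨P', hP'⟩ := (hP.comap_subtype (K := C)).exists_le_sylow
    have hcard : Nat.card P ≤ Nat.card (Q : Subgroup C) := by
      rw [← Nat.card_congr (Subgroup.subgroupOfEquivOfLe hPC).toEquiv, Sylow.card_eq_multiplicity Q,
        ← Sylow.card_eq_multiplicity P']
      exact Nat.le_of_dvd Nat.card_pos (Subgroup.card_dvd_of_le hP')
    have hxx : x ∈ (Q : Subgroup C).map C.subtype :=
      ⟨⟨x, (hxC x).2 rfl⟩, hQ hx, rfl⟩
    obtain ⟨U, hU⟩ := (Q.isPGroup'.map C.subtype).exists_le_sylow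
    refine hcard.trans ?_
    rw [← Subgroup.card_map_of_injective C.subtype_injective (K := (Q : Subgroup C))]
    by_cases hUS : U = S
    · refine Nat.le_of_dvd Nat.card_pos (Subgroup.card_dvd_of_le ?_)
      exact le_inf (hUS ▸ hU) (Subgroup.map_subtype_le _)
    · have hc := part2 S U hUS x hx (hU hxx)
      have e : (S : Subgroup G) ⊓ C = S := inf_eq_left.2 fun s hs => (hxC s).2 (hc s hs).symm
      rw [e, Sylow.card_eq_multiplicity S, ← Sylow.card_eq_multiplicity U]
      exact Nat.le_of_dvd Nat.card_pos (Subgroup.card_dvd_of_le hU)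
  · intro T hT x hx
    refine ⟨⟨⟨x, hx.1⟩, ?_, rfl⟩, ⟨⟨x, hx.2⟩, ?_, rfl⟩⟩
    · exact Subgroup.mem_center_iff.2 fun s => Subtype.ext (part2 S T hT x hx.1 hx.2 s s.2)
    · exact Subgroup.mem_center_iff.2 fun s => Subtype.ext (part2 T S (Ne.symm hT) x hx.2 hx.1 s s.2)

end Cfsg.Agent.S3183
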