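import Cfsg.Statements.S3190
import Mathlib

set_option autoImplicit false
open Cfsg

namespace Cfsg.Agent.S3190

/-- Let p be an odd prime and, inside a finite group, let P be a p-subgroup normalized by a Klein four-group T. Let R be a subgroup of P, normal in P and normalized by T, such that P is the product of R with the centralizer of T in P. If T centralizes the centre of P, then T centralizes the centre of R. -/
theorem result {X : Type*} [Group X] [Finite X]
    {p : ℕ} (hp : p.Prime) (hodd : Odd p) (P T R : Subgroup X) (hP : IsPGroup p ↥P) (hT : IsKleinFour ↥T)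
    (hTP : T ≤ Subgroup.normalizer (P : Set X)) (hRP : R ≤ P) (hRn : (R.subgroupOf P).Normal)
    (hTR : T ≤ Subgroup.normalizer (R : Set X)) (hfac : R ⊔ (P ⊓ Subgroup.centralizer (T : Set X)) = P)
    (hZ : T ≤ Subgroup.centralizer (((Subgroup.center ↥P).map P.subtype : Subgroup X) : Set X)) :
    T ≤ Subgroup.centralizer (((Subgroup.center ↥R).map R.subtype : Subgroup X) : Set X) := by
  intro t ht
  rw [Subgroup.mem_centralizer_iff]
  rintro _ ⟨v, hv, rfl⟩
  -- `v` is a central element of `R`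
  let V : Subgroup X := (Subgroup.center ↥R).map R.subtype
  have hVR : V ≤ R := Subgroup.map_subtype_le _
  have hVc : ∀ a ∈ V, ∀ r ∈ R, r * a = a * r := by
    rintro _ ⟨a, ha, rfl⟩ r hr
    exact congrArg Subtype.val (Subgroup.mem_center_iff.1 ha ⟨r, hr⟩)
  have hVmem : ∀ a ∈ R, (∀ r ∈ R, r * a = a * r) → a ∈ V := fun a ha h =>
    ⟨⟨a, ha⟩, Subgroup.mem_center_iff.2 fun r => Subtype.ext (h r r.2), rfl⟩
  have hVn : ∀ a ∈ V, ∀ n : X, n ∈ Subgroup.normalizer (R : Set X) → n * a * n⁻¹ ∈ V := by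
    intro a ha n hn
    refine hVmem _ ((Subgroup.mem_normalizer_iff.1 hn a).1 (hVR ha)) fun r hr => ?_
    have hr' : n⁻¹ * r * n ∈ R := by
      simpa using (Subgroup.mem_normalizer_iff.1 (inv_mem hn) r).1 hr
    calc r * (n * a * n⁻¹) = n * ((n⁻¹ * r * n) * a) * n⁻¹ := by group
      _ = n * (a * (n⁻¹ * r * n)) * n⁻¹ := by rw [hVc a ha _ hr']
      _ = n * a * n⁻¹ * r := by group
  have ht2 : t * t = 1 := by
    have := IsKleinFour.mul_self (G := T) ⟨t, ht⟩
    exact congrArg Subtype.val this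
  let W : Subgroup X :=
    { carrier := {a | a ∈ V ∧ t * a * t⁻¹ = a⁻¹}
      one_mem' := ⟨V.one_mem, by simp⟩
      mul_mem' := by
        rintro a b ⟨ha, ha'⟩ ⟨hb, hb'⟩
        refine ⟨mul_mem ha hb, ?_⟩
        rw [mul_inv_rev, hVc (a⁻¹) (inv_mem ha) b⁻¹ (inv_mem (hVR hb)), ← ha', ← hb']
        simp [mul_assoc]
      inv_mem' := by
        rintro a ⟨ha, ha'⟩
        refine ⟨inv_mem ha, ?_⟩
        rw [inv_inv]
        calc t * a⁻¹ * t⁻¹ = (t * a * t⁻¹)⁻¹ := by group
          _ = a := by rw [ha', inv_inv] }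
  have hRP' : P ≤ Subgroup.normalizer (R : Set X) :=
    (Subgroup.normal_subgroupOf_iff_le_normalizer hRP).1 hRn
  -- `W` is normalised by `P`
  have hWn : ∀ a ∈ W, ∀ g ∈ P, g * a * g⁻¹ ∈ W := by
    have hWR : ∀ a ∈ W, ∀ g ∈ R, g * a * g⁻¹ = a := fun a ha g hg => by
      rw [hVc a ha.1 g hg, mul_inv_cancel_right]
    intro a ha g hg
    rw [← hfac, Subgroup.sup_eq_closure] at hg
    have key : ∀ g ∈ Subgroup.closure ((R : Set X) ∪ ↑(P ⊓ Subgroup.centralizer (T : Set X))),
        (∀ a ∈ W, g * a * g⁻¹ ∈ W) ∧ (∀ a ∈ W, g⁻¹ * a * g ∈ W) := by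
      intro g hg
      induction hg using Subgroup.closure_induction with
      | mem y hy =>
        rcases hy with hy | hy
        · refine ⟨fun a ha => by rw [hWR a ha y hy]; exact ha, fun a ha => ?_⟩
          have := hWR a ha y⁻¹ (inv_mem hy)
          rw [inv_inv] at this
          rw [this]; exact ha
        · have hyt : ∀ y ∈ P ⊓ Subgroup.centralizer (T : Set X), ∀ a ∈ W, y * a * y⁻¹ ∈ W := by
            intro y hy a ha
            refine ⟨hVn a ha.1 y (hRP' hy.1), ?_⟩
            have hc : t * y = y * t := Subgroup.mem_centralizer_iff.1 hy.2 t ht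
            calc t * (y * a * y⁻¹) * t⁻¹ = (t * y) * a * (t * y)⁻¹ := by group
              _ = y * (t * a * t⁻¹) * y⁻¹ := by rw [hc]; group
              _ = (y * a * y⁻¹)⁻¹ := by rw [ha.2]; group
          refine ⟨fun a ha => hyt y hy a ha, fun a ha => ?_⟩
          simpa using hyt y⁻¹ (inv_mem hy) a ha
      | one => simp
      | mul x y _ _ hx hy =>
        refine ⟨fun a ha => ?_, fun a ha => ?_⟩
        · simpa [mul_assoc] using hx.1 _ (hy.1 a ha)
        · simpa [mul_assoc] using hy.2 _ (hx.2 a ha)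
      | inv x _ hx =>
        refine ⟨fun a ha => ?_, fun a ha => ?_⟩
        · simpa using hx.2 a ha
        · simpa using hx.1 a ha
    exact (key g hg).1 a ha
  have : Fact p.Prime := ⟨hp⟩
  have hW1 : ∀ a ∈ W, a = 1 := by
    by_contra hne
    push Not at hne
    obtain ⟨a, ha, ha1⟩ := hne
    have hWP : W ≤ P := fun b hb => hRP (hVR hb.1)
    have : (W.subgroupOf P).Normal := ⟨fun b hb g => hWn b hb g g.2⟩
    have hntr : Nontrivial (W.subgroupOf P) :=
      ⟨⟨⟨⟨a, hWP ha⟩, ha⟩, 1, fun e => ha1 (congrArg (fun z : W.subgroupOf P => ((z : P) : X)) e)⟩⟩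
    obtain ⟨w, hw, hw1⟩ : ∃ w ∈ W.subgroupOf P ⊓ Subgroup.center P, w ≠ 1 := by
      by_contra h
      push Not at h
      let H := W.subgroupOf P
      have hPc : IsPGroup p (ConjAct P) := hP.of_equiv ConjAct.toConjAct
      have hdvd : p ∣ Nat.card H := by
        rcases (hP.to_subgroup H).card_eq_or_dvd with h' | h'
        · exact absurd h' (Finite.one_lt_card (α := H)).ne'
        · exact h'
      have h1 : (1 : H) ∈ MulAction.fixedPoints (ConjAct P) H := fun g => smul_one g
      obtain ⟨b, hb, hb1⟩ := hPc.exists_fixed_point_of_prime_dvd_card_of_fixed_point H hdvd h1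
      refine hb1 (Subtype.ext (h b ⟨b.2, Subgroup.mem_center_iff.2 fun g => ?_⟩).symm)
      have := congrArg Subtype.val (hb (ConjAct.toConjAct g))
      rw [ConjAct.Subgroup.val_conj_smul, ConjAct.toConjAct_smul, mul_inv_eq_iff_eq_mul] at this
      exact this
    have hc : (w : X) * t = t * w :=
      Subgroup.mem_centralizer_iff.1 (hZ ht) _ ⟨w, hw.2, rfl⟩
    have h2 : t * (w : X) * t⁻¹ = (w : X)⁻¹ := hw.1.2
    rw [← hc, mul_inv_cancel_right] at h2
    have hw2 : (w : P) ^ 2 = 1 := Subtype.ext (by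
      rw [pow_two]; show (w : X) * w = 1; nth_rewrite 1 [h2]; simp)
    obtain ⟨k, hk⟩ := hP w
    refine hw1 (orderOf_eq_one_iff.1 ?_)
    exact Nat.eq_one_of_dvd_coprimes ((Nat.coprime_two_right.2 hodd).pow_left k)
      (orderOf_dvd_of_pow_eq_one hk) (orderOf_dvd_of_pow_eq_one hw2)
  have hvV : (v : X) ∈ V := ⟨v, hv, rfl⟩
  have hu : (v : X)⁻¹ * (t * v * t⁻¹) ∈ W := by
    refine ⟨mul_mem (inv_mem hvV) (hVn _ hvV t (hTR ht)), ?_⟩
    have ht' : t⁻¹ = t := inv_eq_of_mul_eq_one_right ht2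
    have htt : ∀ a : X, t * (t * a * t) * t = a := fun a => by
      calc t * (t * a * t) * t = (t * t) * a * (t * t) := by group
        _ = a := by rw [ht2]; simp
    have hc := hVc _ (hVn _ hvV t (hTR ht)) (v : X)⁻¹ (inv_mem (hVR hvV))
    rw [ht'] at hc ⊢
    calc t * ((v : X)⁻¹ * (t * v * t)) * t
        = (t * (v : X)⁻¹ * t) * (t⁻¹ * t⁻¹) * (t * (t * v * t) * t) * t⁻¹ * t := by group
      _ = (t * (v : X)⁻¹ * t) * v := by rw [htt, ht']; simp [mul_assoc, ht2]
      _ = ((v : X)⁻¹ * (t * v * t))⁻¹ := by rw [mul_inv_rev, mul_inv_rev, ht', mul_inv_rev, ht']; simp [mul_assoc]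
  have := hW1 _ hu
  rw [inv_mul_eq_one] at this
  calc (v : X) * t = t * v * t⁻¹ * t := by rw [← this]
    _ = t * v := by group

end Cfsg.Agent.S3190
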