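import Cfsg.Statements.S3192
import Cfsg.Agent.Lib.ThreeCentralizers.Split
import Cfsg.Agent.Lib.AbelianInvCentralizer.Classify
import Cfsg.Agent.Lib.AbelianInvCentralizer.SylowTwo
import Cfsg.Agent.Lib.LinGroup.Simple
import Cfsg.Agent.S0205
import Cfsg.Agent.S2507
-- import your own Cfsg.Agent.* helpers here

set_option autoImplicit false
set_option linter.style.haveILetI false
open Cfsg

namespace Cfsg.Agent.S3192

open Cfsg.Agent.Lib Cfsg.Agent.Lib.ThreeCentralizers

universe u v

variable {G : Type u} [Group G] [Finite G]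

omit [Finite G] in
theorem classSet_eq_of_equiv {H : Type v} [Group H] (e : G ≃* H) :
    {m : ℕ | ∃ x : G, x ∉ Subgroup.center G ∧ m = (Subgroup.centralizer ({x} : Set G)).index} =
      {m : ℕ | ∃ x : H, x ∉ Subgroup.center H ∧ m = (Subgroup.centralizer ({x} : Set H)).index} := by
  have hc : ∀ x : G, (Subgroup.centralizer ({x} : Set G)).index =
      (Subgroup.centralizer ({e x} : Set H)).index := by
    intro x
    rw [← Subgroup.index_comap_of_surjective (Subgroup.centralizer ({e x} : Set H))
      (f := e.toMonoidHom) e.surjective]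
    congr 1
    ext y
    simp only [Subgroup.mem_comap, Subgroup.mem_centralizer_singleton_iff, MulEquiv.coe_toMonoidHom,
      ← map_mul, e.injective.eq_iff]
  have hz : ∀ x : G, e x ∈ Subgroup.center H ↔ x ∈ Subgroup.center G := by
    intro x
    simp only [Subgroup.mem_center_iff, e.surjective.forall, ← map_mul, e.injective.eq_iff]
  ext m
  constructor
  · rintro ⟨x, hx, rfl⟩
    exact ⟨e x, fun h => hx ((hz x).mp h), hc x⟩
  · rintro ⟨y, hy, rfl⟩
    obtain ⟨x, rfl⟩ := e.surjective y
    exact ⟨x, fun h => hy ((hz x).mpr h), (hc x).symm⟩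

omit [Finite G] in
theorem center_eq_bot [IsSimpleGroup G] (hG : ¬ IsMulCommutative G) : Subgroup.center G = ⊥ := by
  rcases (inferInstance : (Subgroup.center G).Normal).eq_bot_or_eq_top with h | h
  · exact h
  · exact absurd ⟨⟨fun a b => Subgroup.mem_center_iff.mp (h ▸ Subgroup.mem_top b) a⟩⟩ hG

/-- Three index values give three centralizer orders. -/
theorem le_three [IsSimpleGroup G] (hG : ¬ IsMulCommutative G)
    (h : Set.ncard {m : ℕ | ∃ x : G, x ∉ Subgroup.center G ∧
      m = (Subgroup.centralizer ({x} : Set G)).index} = 3)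
    (x y z w : G) (hx : x ≠ 1) (hy : y ≠ 1) (hz : z ≠ 1) (hw : w ≠ 1) (hxy : csz x ≠ csz y)
    (hzx : csz z ≠ csz x) (hzy : csz z ≠ csz y) (hwx : csz w ≠ csz x) (hwy : csz w ≠ csz y) :
    csz w = csz z := by
  classical
  set S := {m : ℕ | ∃ x : G, x ∉ Subgroup.center G ∧ m = (Subgroup.centralizer ({x} : Set G)).index}
  have hmem : ∀ t : G, t ≠ 1 → (cen t).index ∈ S := fun t ht =>
    ⟨t, fun h' => ht (Subgroup.mem_bot.mp (center_eq_bot hG ▸ h')), rfl⟩
  have hinj : ∀ s t : G, csz s ≠ csz t → (cen s).index ≠ (cen t).index := by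
    intro s t hne e
    have h1 := (cen s).card_mul_index
    rw [← (cen t).card_mul_index, e] at h1
    exact hne (Nat.eq_of_mul_eq_mul_right (Nat.pos_of_ne_zero Subgroup.index_ne_zero_of_finite) h1)
  by_contra hne
  have hfin : S.Finite := Set.finite_of_ncard_pos (by rw [h]; norm_num)
  have hsub : (({(cen x).index, (cen y).index, (cen z).index, (cen w).index} : Finset ℕ) : Set ℕ) ⊆ S := by
    intro m hm
    simp only [Finset.coe_insert, Finset.coe_singleton, Set.mem_insert_iff, Set.mem_singleton_iff] at hm
    rcases hm with rfl | rfl | rfl | rfl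
    · exact hmem x hx
    · exact hmem y hy
    · exact hmem z hz
    · exact hmem w hw
  have h4 := Set.ncard_le_ncard hsub hfin
  rw [Set.ncard_coe_finset, h, Finset.card_insert_of_notMem, Finset.card_insert_of_notMem,
    Finset.card_insert_of_notMem, Finset.card_singleton] at h4
  · omega
  · simp [hinj z w (Ne.symm hne)]
  · simp [hinj y z hzy.symm, hinj y w hwy.symm]
  · simp [hinj x y hxy, hinj x z hzx.symm, hinj x w hwx.symm]

theorem forward [IsSimpleGroup G] (hG : ¬ IsMulCommutative G)
    (h : Set.ncard {m : ℕ | ∃ x : G, x ∉ Subgroup.center G ∧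
      m = (Subgroup.centralizer ({x} : Set G)).index} = 3) :
    ∃ (m : ℕ) (F : Type) (_ : Field F) (_ : Fintype F), 2 ≤ m ∧ Fintype.card F = 2 ^ m ∧
      Nonempty (G ≃* Matrix.ProjectiveSpecialLinearGroup (Fin 2) F) := by
  classical
  have hC : AbelianInvCentralizer.HasAbelianCent G := fun t ht a b ha hb =>
    comm_of_three hG (le_three hG h) t (AbelianInvCentralizer.isInv_iff.mp ht) a
      (mem_cen.mpr ha) b (mem_cen.mpr hb)
  have hnsolv : ¬ Group.IsSolvable G := fun hs => hG (by
    haveI := hs
    exact ⟨⟨fun a b => IsSimpleGroup.comm_iff_isSolvable.mpr hs a b⟩⟩)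
  have heven : Even (Nat.card G) := by
    rw [← Nat.not_odd_iff_even]
    exact fun hodd => hnsolv (S0205.result hodd)
  haveI : Fact (Nat.Prime 2) := ⟨Nat.prime_two⟩
  obtain ⟨P⟩ : Nonempty (Sylow 2 G) := inferInstance
  have hPne : (P : Subgroup G) ≠ ⊥ := P.ne_bot_of_dvd_card heven.two_dvd
  rcases AbelianInvCentralizer.sylow_trichotomy hC P with hc | hn | ⟨hF, hS⟩
  · exfalso
    exact SmallGroups.not_normalizer_le_centralizer hG heven.two_dvd P
      (IsCyclic.normalizer_le_centralizer ((Nat.minFac_eq_two_iff _).mpr heven.two_dvd) hc)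
  · exfalso
    rcases hn.eq_bot_or_eq_top with h' | h'
    · exact hPne h'
    · refine hnsolv ?_
      haveI : Group.IsNilpotent G := (Group.isNilpotent_congr (Subgroup.topEquiv (G := G))).mp (by
        rw [← h']; exact P.2.isNilpotent)
      infer_instance
  · obtain ⟨F, hFf, hFt, f, hchar, hf, hcard, -, ⟨e⟩⟩ :=
      AbelianInvCentralizer.exists_slTwo_prod hC hS hF
    haveI : Subsingleton ↥(Subgroup.center G) := by rw [center_eq_bot hG]; infer_instance
    haveI : Subsingleton (Subgroup.center (Matrix.SpecialLinearGroup (Fin 2) F)) := by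
      rw [AbelianInvCentralizer.slTwo_center_eq_bot]; infer_instance
    have hq : Function.Bijective
        (QuotientGroup.mk' (Subgroup.center (Matrix.SpecialLinearGroup (Fin 2) F))) := by
      refine ⟨?_, QuotientGroup.mk'_surjective _⟩
      rw [← MonoidHom.ker_eq_bot_iff, QuotientGroup.ker_mk']
      exact AbelianInvCentralizer.slTwo_center_eq_bot
    refine ⟨f, F, hFf, hFt, hf, hcard, ⟨(e.trans ?_).trans (MulEquiv.ofBijective _ hq)⟩⟩
    exact MulEquiv.ofBijective (MonoidHom.fst _ _)
      ⟨fun x y hxy => Prod.ext hxy (Subsingleton.elim _ _), fun x => ⟨(x, 1), rfl⟩⟩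

omit [Finite G] in
theorem backward {m : ℕ} {F : Type} [Field F] [Fintype F] (hm : 2 ≤ m)
    (hcard : Fintype.card F = 2 ^ m) (e : G ≃* Matrix.ProjectiveSpecialLinearGroup (Fin 2) F) :
    IsSimpleGroup G ∧ ¬ IsMulCommutative G ∧
      Set.ncard {m : ℕ | ∃ x : G, x ∉ Subgroup.center G ∧
        m = (Subgroup.centralizer ({x} : Set G)).index} = 3 := by
  classical
  have h4 : 4 ≤ Fintype.card F := by
    rw [hcard]
    calc 4 = 2 ^ 2 := rfl
      _ ≤ 2 ^ m := Nat.pow_le_pow_right (by omega) hm
  have h2 : 2 ∣ Fintype.card F := hcard ▸ dvd_pow_self 2 (by omega)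
  have hs : IsSimpleGroup (Matrix.ProjectiveSpecialLinearGroup (Fin 2) F) :=
    LinGroup.isSimpleGroup_PSL_fin le_rfl (fun _ => by rw [Nat.card_eq_fintype_card]; exact h4)
  haveI : Nontrivial G := e.toEquiv.nontrivial
  haveI : IsSimpleGroup G :=
    IsSimpleGroup.isSimpleGroup_of_surjective e.symm.toMonoidHom e.symm.surjective
  have hr := S2507.result (F := F) h2 h4
  set q := Fintype.card F
  set P := Matrix.ProjectiveSpecialLinearGroup (Fin 2) F
  have hgt : 1 < q * (q - 1) := by
    calc 1 < 4 * 1 := by norm_num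
      _ ≤ q * (q - 1) := Nat.mul_le_mul h4 (by omega)
  have hZP : Subgroup.center P = ⊥ := by
    rcases (inferInstance : (Subgroup.center P).Normal).eq_bot_or_eq_top with h | h
    · exact h
    · exfalso
      obtain ⟨g, hg⟩ : q * (q - 1) ∈ Set.range (fun g : P =>
          (Subgroup.centralizer ({g} : Set P)).index) := hr ▸ by simp
      have h1 : Subgroup.centralizer ({g} : Set P) = ⊤ := (Subgroup.eq_top_iff' _).mpr fun x =>
        Subgroup.mem_centralizer_singleton_iff.mpr
          (Subgroup.mem_center_iff.mp (h ▸ Subgroup.mem_top g) x)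
      simp only [h1, Subgroup.index_top] at hg
      omega
  refine ⟨inferInstance, fun hc => ?_, ?_⟩
  · have hnt : Nontrivial P := hs.toNontrivial
    obtain ⟨x, hx⟩ := exists_ne (1 : P)
    refine hx (Subgroup.mem_bot.mp (hZP ▸ Subgroup.mem_center_iff.mpr fun y => ?_))
    obtain ⟨a, rfl⟩ := e.surjective x
    obtain ⟨b, rfl⟩ := e.surjective y
    rw [← map_mul, ← map_mul, mul_comm' b a]
  · rw [classSet_eq_of_equiv e]
    have hset : {m : ℕ | ∃ x : P, x ∉ Subgroup.center P ∧
        m = (Subgroup.centralizer ({x} : Set P)).index} =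
        (({q * (q - 1), q ^ 2 - 1, q * (q + 1)} : Finset ℕ) : Set ℕ) := by
      ext n
      simp only [Finset.coe_insert, Finset.coe_singleton, Set.mem_insert_iff, Set.mem_singleton_iff,
        Set.mem_setOf_eq]
      constructor
      · rintro ⟨x, hx, rfl⟩
        have h := hr ▸ Set.mem_range_self (f := fun g : P =>
          (Subgroup.centralizer ({g} : Set P)).index) x
        simp only [Set.mem_insert_iff, Set.mem_singleton_iff] at h
        rcases h with h | h
        · refine absurd (Subgroup.mem_center_iff.mpr fun y => ?_) hx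
          rw [← Subgroup.mem_centralizer_singleton_iff, Subgroup.index_eq_one.mp h]
          exact Subgroup.mem_top y
        · exact h
      · intro hn
        obtain ⟨g, hg⟩ : n ∈ Set.range (fun g : P => (Subgroup.centralizer ({g} : Set P)).index) :=
          hr ▸ Set.mem_insert_of_mem _ hn
        refine ⟨g, fun hgc => ?_, hg.symm⟩
        have h1 : Subgroup.centralizer ({g} : Set P) = ⊤ := (Subgroup.eq_top_iff' _).mpr fun x =>
          Subgroup.mem_centralizer_singleton_iff.mpr (Subgroup.mem_center_iff.mp hgc x)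
        simp only [h1, Subgroup.index_top] at hg
        subst hg
        have h16 : 4 * 4 ≤ q * q := Nat.mul_le_mul h4 h4
        rcases hn with hn | hn | hn
        · omega
        · rw [pow_two] at hn; omega
        · rw [mul_add, mul_one] at hn; omega
    rw [hset, Set.ncard_coe_finset]
    have h16 : 4 * 4 ≤ q * q := Nat.mul_le_mul h4 h4
    have e1 : q * (q - 1) = q * q - q := by rw [Nat.mul_sub, mul_one]
    have hqq : q ≤ q * q := Nat.le_mul_self q
    rw [Finset.card_insert_of_notMem, Finset.card_insert_of_notMem, Finset.card_singleton]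
    · simp only [Finset.mem_singleton, pow_two, mul_add, mul_one]; omega
    · simp only [Finset.mem_insert, Finset.mem_singleton, not_or, pow_two, mul_add, mul_one, e1]
      omega

/-- Simple groups of conjugate type rank three. For a finite group G consider the set of indices of the centralizers of the non-central elements of G. Then G is a non-abelian simple group for which this set has exactly three members if and only if G is isomorphic to PSL(2, 2^m) for some m ≥ 2. -/
theorem result (G : Type*) [Group G] [Finite G] :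
    (IsSimpleGroup G ∧ ¬ IsMulCommutative G ∧
        Set.ncard {m : ℕ | ∃ x : G, x ∉ Subgroup.center G ∧ m = (Subgroup.centralizer ({x} : Set G)).index} = 3) ↔
      ∃ (m : ℕ) (F : Type) (_ : Field F) (_ : Fintype F), 2 ≤ m ∧ Fintype.card F = 2 ^ m ∧
        Nonempty (G ≃* Matrix.ProjectiveSpecialLinearGroup (Fin 2) F) := by
  constructor
  · rintro ⟨hs, hG, h⟩
    exact forward hG h
  · rintro ⟨m, F, _, _, hm, hcard, ⟨e⟩⟩
    exact backward hm hcard e

end Cfsg.Agent.S3192
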