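import Cfsg.Statements.S3195
import Mathlib
import Cfsg.Agent.Lib.Involution.BaerSuzuki

set_option autoImplicit false
open Cfsg

namespace Cfsg.Agent.S3195

/-- Let A be a Klein four-subgroup of a finite group G. If every G-conjugate of every involution of A commutes with some involution of A (its centralizer meets A nontrivially), then A meets the largest normal 2-subgroup O₂(G) nontrivially. -/
theorem result {G : Type*} [Group G] [Finite G]
    (A : Subgroup G) (hA : IsKleinFour ↥A)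
    (h : ∀ a ∈ A, a ≠ 1 → ∀ g : G, A ⊓ Subgroup.centralizer ({g * a * g⁻¹} : Set G) ≠ ⊥) :
    A ⊓ Cfsg.pCore 2 G ≠ ⊥ := by
  have : Fact (Nat.Prime 2) := ⟨Nat.prime_two⟩
  intro hbot
  have hsq : ∀ a ∈ A, a * a = 1 := fun a ha => congrArg Subtype.val (IsKleinFour.mul_self (G := A) ⟨a, ha⟩)
  have hAc : ∀ a ∈ A, ∀ b ∈ A, a * b = b * a := fun a ha b hb => by
    calc a * b = (b * a)⁻¹⁻¹ * (b * a)⁻¹ * (a * b) := by group
      _ = b * a * (a⁻¹ * b⁻¹ * (a * b)) := by group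
      _ = b * a := by
        rw [inv_eq_of_mul_eq_one_right (hsq a ha), inv_eq_of_mul_eq_one_right (hsq b hb),
          hsq _ (mul_mem ha hb), mul_one]
  have hthree : ∀ a ∈ A, ∀ b ∈ A, a ≠ 1 → b ≠ 1 → a ≠ b → ∀ c ∈ A, c = 1 ∨ c = a ∨ c = b ∨ c = a * b := by
    intro a ha b hb ha1 hb1 hab c hc
    by_contra hne
    push Not at hne
    classical
    have h5 : Nat.card A = 4 := IsKleinFour.card_four
    have hsub : ({1, a, b, a * b, c} : Finset G) ⊆ (A : Set G).toFinite.toFinset := by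
      intro z hz
      simp only [Finset.mem_insert, Finset.mem_singleton] at hz
      rw [Set.Finite.mem_toFinset]
      rcases hz with rfl | rfl | rfl | rfl | rfl
      exacts [one_mem _, ha, hb, mul_mem ha hb, hc]
    have hab1 : a * b ≠ 1 := fun e => hab ((mul_left_cancel (e.trans (hsq a ha).symm))).symm
    have hle := Finset.card_le_card hsub
    have hA4 : (A : Set G).toFinite.toFinset.card = 4 := by
      rw [← Nat.card_eq_card_finite_toFinset]; exact h5
    rw [hA4, Finset.card_insert_of_notMem, Finset.card_insert_of_notMem, Finset.card_insert_of_notMem,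
      Finset.card_insert_of_notMem, Finset.card_singleton] at hle
    · omega
    all_goals simp only [Finset.mem_insert, Finset.mem_singleton, not_or]
    · exact Ne.symm hne.2.2.2
    · exact ⟨fun e => ha1 (mul_eq_right.1 e.symm), Ne.symm hne.2.2.1⟩
    · exact ⟨hab, fun e => hb1 (left_eq_mul.1 e), Ne.symm hne.2.1⟩
    · exact ⟨Ne.symm ha1, Ne.symm hb1, Ne.symm hab1, Ne.symm hne.1⟩
  -- each involution of `A` inverts an element of odd order centralised by another one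
  have hodd : ∀ a ∈ A, a ≠ 1 → ∃ x : G, ∃ c ∈ A, x ≠ 1 ∧ Odd (orderOf x) ∧ a * x * a⁻¹ = x⁻¹ ∧
      c ≠ 1 ∧ c ≠ a ∧ Commute c x := by
    intro a ha ha1
    obtain ⟨g, hg⟩ : ∃ g : G, ¬ IsPGroup 2 (Subgroup.closure ({a, g * a * g⁻¹} : Set G)) := by
      by_contra h
      push Not at h
      obtain ⟨N, hN, hNp, haN⟩ := Cfsg.Agent.Lib.Involution.baer_suzuki_element (p := 2) a h
      have : a ∈ A ⊓ Cfsg.pCore 2 G :=
        ⟨ha, (show N ≤ Cfsg.pCore 2 G from le_sSup (show N ∈ {N : Subgroup G | N.Normal ∧ IsPGroup 2 N} from ⟨hN, hNp⟩)) haN⟩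
      rw [hbot] at this
      exact ha1 this
    set b := g * a * g⁻¹ with hb
    have hbb : b * b = 1 := by
      rw [hb, show g * a * g⁻¹ * (g * a * g⁻¹) = g * (a * a) * g⁻¹ by group, hsq a ha]; group
    have hainv : a⁻¹ = a := inv_eq_of_mul_eq_one_right (hsq a ha)
    have hbinv : b⁻¹ = b := inv_eq_of_mul_eq_one_right hbb
    obtain ⟨e, m, hm, hn⟩ := Nat.exists_eq_two_pow_mul_odd (orderOf_pos (a * b)).ne'
    set x := (a * b) ^ 2 ^ e with hx
    have hxo : orderOf x = m := by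
      rw [hx, orderOf_pow' _ (by positivity), hn, Nat.gcd_eq_right (Dvd.intro m rfl),
        Nat.mul_div_cancel_left _ (by positivity)]
    have hab' : a * (a * b) * a⁻¹ = (a * b)⁻¹ := by
      rw [← mul_assoc, hsq a ha, one_mul, mul_inv_rev, hbinv]
    have hx1 : x ≠ 1 := by
      intro h
      apply hg
      have hC : IsPGroup 2 (Subgroup.zpowers (a * b)) := by
        refine IsPGroup.of_card (n := e) ?_
        rw [Nat.card_zpowers, hn, ← hxo, h, orderOf_one, mul_one]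
      have hA2 : IsPGroup 2 (Subgroup.zpowers a) := by
        refine IsPGroup.of_card (n := 1) ?_
        rw [Nat.card_zpowers, orderOf_eq_prime (by rw [pow_two, hsq a ha]) ha1, pow_one]
      have hnorm : Subgroup.zpowers a ≤ Subgroup.normalizer (Subgroup.zpowers (a * b) : Set G) := by
        refine Subgroup.zpowers_le.2 (Subgroup.mem_normalizer_iff.2 fun z => ?_)
        constructor
        · rintro ⟨k, rfl⟩
          refine ⟨-k, ?_⟩
          show (a * b) ^ (-k) = a * (a * b) ^ k * a⁻¹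
          rw [← conj_zpow, hab', inv_zpow']
        · rintro ⟨k, hk⟩
          refine ⟨-k, ?_⟩
          show (a * b) ^ (-k) = z
          replace hk : (a * b) ^ k = a * z * a⁻¹ := hk
          rw [← inv_zpow', ← hab', conj_zpow, hk, hainv, ← mul_assoc, ← mul_assoc, hsq a ha, one_mul, mul_assoc,
            hsq a ha, mul_one]
      refine (hA2.to_sup_of_normal_right' hC hnorm).to_le ?_
      rw [Subgroup.closure_le]
      rintro _ (rfl | rfl)
      · exact Subgroup.mem_sup_left (Subgroup.mem_zpowers _)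
      · have h := mul_mem (Subgroup.mem_sup_left (T := Subgroup.zpowers (a * b)) (Subgroup.mem_zpowers a))
          (Subgroup.mem_sup_right (S := Subgroup.zpowers a) (Subgroup.mem_zpowers (a * b)))
        rwa [← mul_assoc a a b, hsq a ha, one_mul] at h
    have hinvx : a * x * a⁻¹ = x⁻¹ := by rw [hx, ← conj_pow, hab', inv_pow]
    obtain ⟨s, hs⟩ : ∃ s, m = 2 * s + 1 := hm
    have hconj : x ^ (s + 1) * a * (x ^ (s + 1))⁻¹ = a * x⁻¹ := by
      have h1 : x ^ (s + 1) * a = a * (x ^ (s + 1))⁻¹ := by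
        rw [← inv_pow, ← hinvx, conj_pow, hainv, ← mul_assoc, ← mul_assoc, hsq a ha, one_mul]
      rw [h1, mul_assoc, ← mul_inv_rev, ← pow_add]
      congr 2
      rw [show s + 1 + (s + 1) = m + 1 by omega, pow_succ, ← hxo, pow_orderOf_eq_one, one_mul]
    obtain ⟨c, hc, hc1⟩ := (Subgroup.bot_or_exists_ne_one _).resolve_left (h a ha ha1 (x ^ (s + 1)))
    have hcc : Commute c (a * x⁻¹) := by
      have := Subgroup.mem_centralizer_singleton_iff.1 hc.2
      rw [hconj] at this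
      exact this
    refine ⟨x, c, hc.1, hx1, hxo ▸ ⟨s, hs⟩, hinvx, hc1, ?_, ?_⟩
    · rintro rfl
      have hcx : Commute c x⁻¹ := by
        have := (Commute.refl c).inv_right.mul_right hcc
        rwa [inv_mul_cancel_left] at this
      rw [(Commute.inv_right_iff.1 hcx).eq, mul_inv_cancel_right] at hinvx
      have hx2 : x * x = 1 := by
        nth_rewrite 1 [hinvx]
        exact inv_mul_cancel x
      have : orderOf x ∣ 2 := orderOf_dvd_of_pow_eq_one (by rw [pow_two]; exact hx2)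
      rw [hxo] at this
      have := Nat.le_of_dvd two_pos this
      exact hx1 (orderOf_eq_one_iff.1 (by omega))
    · have h2 : Commute c a := hAc c hc.1 a ha
      have := (h2.inv_right).mul_right hcc
      rw [inv_mul_cancel_left] at this
      rwa [Commute.inv_right_iff] at this
  -- no element of odd order is inverted by conjugation of odd order
  have hno : ∀ x y : G, Odd (orderOf x) → Odd (orderOf y) → y ≠ 1 → x * y * x⁻¹ ≠ y⁻¹ := by
    intro x y hx hy hy1 hxy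
    have hk : ∀ k : ℕ, x ^ k * y * (x ^ k)⁻¹ = y ^ ((-1 : ℤ) ^ k) := by
      intro k
      induction k with
      | zero => simp
      | succ k ih =>
        rw [pow_succ', show x * x ^ k * y * (x * x ^ k)⁻¹ = x * (x ^ k * y * (x ^ k)⁻¹) * x⁻¹ by group, ih,
          ← conj_zpow, hxy, pow_succ', inv_zpow', neg_one_mul]
    have h1 := hk (orderOf x)
    rw [pow_orderOf_eq_one, one_mul, inv_one, mul_one, hx.neg_one_pow, zpow_neg_one] at h1
    have : orderOf y ∣ 2 := orderOf_dvd_of_pow_eq_one (by rw [pow_two]; nth_rewrite 1 [h1]; exact inv_mul_cancel y)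
    have := Nat.le_of_dvd two_pos this
    obtain ⟨t, ht⟩ := hy
    exact hy1 (orderOf_eq_one_iff.1 (by omega))
  -- two kinds give a contradiction
  have key : ∀ a₁ ∈ A, ∀ a₂ ∈ A, a₁ ≠ 1 → a₂ ≠ 1 → a₁ ≠ a₂ → ∀ x y : G, x ≠ 1 → y ≠ 1 →
      Odd (orderOf x) → Odd (orderOf y) → Commute a₂ x → a₁ * x * a₁⁻¹ = x⁻¹ →
      Commute a₁ y → a₂ * y * a₂⁻¹ = y⁻¹ → False := by
    intro a₁ ha₁ a₂ ha₂ h1 h2 h12 x y hx hy hxo hyo hcx hix hcy hiy
    set a₃ := a₁ * a₂ with ha3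
    have ha₃ : a₃ ∈ A := mul_mem ha₁ ha₂
    have h3 : a₃ ≠ 1 := fun e => h12 ((mul_left_cancel (e.trans (hsq a₁ ha₁).symm))).symm
    have i1 : a₁⁻¹ = a₁ := inv_eq_of_mul_eq_one_right (hsq _ ha₁)
    have i2 : a₂⁻¹ = a₂ := inv_eq_of_mul_eq_one_right (hsq _ ha₂)
    have i3 : a₃⁻¹ = a₃ := inv_eq_of_mul_eq_one_right (hsq _ ha₃)
    have hix3 : a₃ * x * a₃⁻¹ = x⁻¹ := by
      rw [show a₃ * x * a₃⁻¹ = a₁ * (a₂ * x * a₂⁻¹) * a₁⁻¹ by rw [ha3]; group, hcx.eq, mul_inv_cancel_right, hix]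
    have hiy3 : a₃ * y * a₃⁻¹ = y⁻¹ := by
      rw [ha3, hAc a₁ ha₁ a₂ ha₂, show a₂ * a₁ * y * (a₂ * a₁)⁻¹ = a₂ * (a₁ * y * a₁⁻¹) * a₂⁻¹ by group, hcy.eq,
        mul_inv_cancel_right, hiy]
    have hpow : ∀ (a z : G), a * z * a⁻¹ = z⁻¹ → ∀ l : ℕ, a * z ^ l * a⁻¹ = (z ^ l)⁻¹ := fun a z hz l => by
      rw [← conj_pow, hz, inv_pow]
    have hsplit : ∀ l k : ℕ, x ^ l ≠ 1 → y ^ k ≠ 1 →
        x ^ (2 * l) * y ^ (2 * k) * (x ^ (2 * l) * y ^ (2 * k)) = 1 := by
      intro l k hl hk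
      set d := x ^ (2 * l) * a₃ with hd
      have hd' : d = x ^ l * a₃ * (x ^ l)⁻¹ := by
        have := hpow a₃ x hix3 l
        rw [hd, two_mul, pow_add, show x ^ l * a₃ * (x ^ l)⁻¹ = x ^ l * (a₃ * x ^ l * a₃⁻¹)⁻¹ * a₃ by group, this,
          inv_inv]
      have hne2 : ∀ (z : G) (t : ℕ), Odd (orderOf z) → z ^ t ≠ 1 → z ^ (2 * t) ≠ 1 := by
        intro z t hz ht e
        rw [mul_comm, pow_mul] at e
        obtain ⟨s, hs⟩ := hz
        apply ht
        have : z ^ t = (z ^ t) ^ (2 * s + 1) := by rw [pow_succ, pow_mul, e, one_pow, one_mul]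
        rw [this, ← pow_mul, mul_comm, pow_mul, ← hs, pow_orderOf_eq_one, one_pow]
      -- the conjugate of `a₃` by `y ^ k * x ^ l`
      obtain ⟨c, hc, hc1⟩ := (Subgroup.bot_or_exists_ne_one _).resolve_left (h a₃ ha₃ h3 ((y ^ k)⁻¹ * x ^ l))
      have hcd : Commute (y ^ k * c * (y ^ k)⁻¹) d := by
        have h' := Subgroup.mem_centralizer_singleton_iff.1 hc.2
        rw [hd']
        unfold Commute SemiconjBy
        calc y ^ k * c * (y ^ k)⁻¹ * (x ^ l * a₃ * (x ^ l)⁻¹)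
            = y ^ k * (c * ((y ^ k)⁻¹ * x ^ l * a₃ * ((y ^ k)⁻¹ * x ^ l)⁻¹)) * (y ^ k)⁻¹ := by group
          _ = y ^ k * (((y ^ k)⁻¹ * x ^ l * a₃ * ((y ^ k)⁻¹ * x ^ l)⁻¹) * c) * (y ^ k)⁻¹ := by rw [h']
          _ = _ := by group
      have conjy : ∀ a : G, a * y * a⁻¹ = y⁻¹ → y ^ k * a * (y ^ k)⁻¹ = y ^ (2 * k) * a := fun a ha => by
        rw [two_mul, pow_add, show y ^ k * a * (y ^ k)⁻¹ = y ^ k * (a * y ^ k * a⁻¹)⁻¹ * a by group, hpow a y ha k,
          inv_inv]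
      have hd1 : a₁ * d * a₁⁻¹ ≠ d := by
        intro e
        rw [hd, show a₁ * (x ^ (2 * l) * a₃) * a₁⁻¹ = (a₁ * x ^ (2 * l) * a₁⁻¹) * (a₁ * a₃ * a₁⁻¹) by group,
          hAc a₁ ha₁ a₃ ha₃, mul_inv_cancel_right, hpow a₁ x hix] at e
        have e' := mul_right_cancel e
        have h22 : x ^ (2 * l) * x ^ (2 * l) = 1 := by nth_rewrite 1 [← e']; exact inv_mul_cancel _
        rw [← pow_add, ← two_mul] at h22
        exact hne2 x (2 * l) hxo (hne2 x l hxo hl) h22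
      rcases hthree a₁ ha₁ a₂ ha₂ h1 h2 h12 c hc.1 with e0 | e0 | e0 | e0 <;> rw [e0] at hcd
      · exact absurd e0 hc1
      · rw [(hcy.pow_right k).symm.eq, mul_inv_cancel_right] at hcd
        exact absurd (by rw [hcd.eq, mul_inv_cancel_right]) hd1
      · -- `d` would centralise `y ^ (2 k)`
        rw [conjy _ hiy] at hcd
        have hca2 : Commute a₂ d := by
          rw [hd]; exact (hcx.pow_right _).mul_right (hAc a₂ ha₂ a₃ ha₃)
        have hdy : Commute (y ^ (2 * k)) d := by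
          have := hcd.mul_left hca2
          rwa [mul_assoc, hsq a₂ ha₂, mul_one] at this
        refine absurd ?_ (hno (x ^ (2 * l)) (y ^ (2 * k)) (hxo.of_dvd_nat (orderOf_pow_dvd _))
          (hyo.of_dvd_nat (orderOf_pow_dvd _)) (hne2 y k hyo hk))
        have e : d * y ^ (2 * k) * d⁻¹ = y ^ (2 * k) := by rw [← hdy.eq, mul_inv_cancel_right]
        have e' : x ^ (2 * l) * (y ^ (2 * k))⁻¹ * (x ^ (2 * l))⁻¹ = y ^ (2 * k) := by
          rw [← hpow a₃ y hiy3]
          conv_rhs => rw [← e, hd]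
          group
        calc x ^ (2 * l) * y ^ (2 * k) * (x ^ (2 * l))⁻¹
            = (x ^ (2 * l) * (y ^ (2 * k))⁻¹ * (x ^ (2 * l))⁻¹)⁻¹ := by group
          _ = (y ^ (2 * k))⁻¹ := by rw [e']
      · rw [conjy _ hiy3, hd] at hcd
        have h5 : x ^ (2 * l) * a₃ * (y ^ (2 * k) * a₃) = x ^ (2 * l) * (y ^ (2 * k))⁻¹ := by
          rw [← hpow a₃ y hiy3, i3]; group
        have h6 : y ^ (2 * k) * a₃ * (x ^ (2 * l) * a₃) = y ^ (2 * k) * (x ^ (2 * l))⁻¹ := by
          rw [← hpow a₃ x hix3, i3]; group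
        have h7 : y ^ (2 * k) * (x ^ (2 * l))⁻¹ * (y ^ (2 * k) * (x ^ (2 * l))⁻¹) = 1 := by
          rw [← h6]
          nth_rewrite 2 [hcd.eq]
          rw [show y ^ (2 * k) * a₃ * (x ^ (2 * l) * a₃) * (x ^ (2 * l) * a₃ * (y ^ (2 * k) * a₃)) =
            y ^ (2 * k) * a₃ * ((x ^ (2 * l) * a₃) * (x ^ (2 * l) * a₃)) * (y ^ (2 * k) * a₃) by group,
            show x ^ (2 * l) * a₃ * (x ^ (2 * l) * a₃) = x ^ (2 * l) * (a₃ * x ^ (2 * l) * a₃⁻¹) by rw [i3]; group,
            hpow a₃ x hix3, mul_inv_cancel, mul_one,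
            show y ^ (2 * k) * a₃ * (y ^ (2 * k) * a₃) = y ^ (2 * k) * (a₃ * y ^ (2 * k) * a₃⁻¹) by rw [i3]; group,
            hpow a₃ y hiy3, mul_inv_cancel]
        -- move the inversion to the other factor
        have h8 : a₁ * (y ^ (2 * k) * (x ^ (2 * l))⁻¹) * a₁⁻¹ = y ^ (2 * k) * x ^ (2 * l) := by
          rw [show a₁ * (y ^ (2 * k) * (x ^ (2 * l))⁻¹) * a₁⁻¹ =
            (a₁ * y ^ (2 * k) * a₁⁻¹) * (a₁ * x ^ (2 * l) * a₁⁻¹)⁻¹ by group, (hcy.pow_right _).eq,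
            mul_inv_cancel_right, hpow a₁ x hix, inv_inv]
        have h9 : y ^ (2 * k) * x ^ (2 * l) * (y ^ (2 * k) * x ^ (2 * l)) = 1 := by
          rw [← h8, show a₁ * (y ^ (2 * k) * (x ^ (2 * l))⁻¹) * a₁⁻¹ * (a₁ * (y ^ (2 * k) * (x ^ (2 * l))⁻¹) * a₁⁻¹) =
            a₁ * (y ^ (2 * k) * (x ^ (2 * l))⁻¹ * (y ^ (2 * k) * (x ^ (2 * l))⁻¹)) * a₁⁻¹ by group, h7, mul_one,
            mul_inv_cancel]
        calc x ^ (2 * l) * y ^ (2 * k) * (x ^ (2 * l) * y ^ (2 * k))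
            = (y ^ (2 * k))⁻¹ * (y ^ (2 * k) * x ^ (2 * l) * (y ^ (2 * k) * x ^ (2 * l))) * y ^ (2 * k) := by group
          _ = 1 := by rw [h9, mul_one, inv_mul_cancel]
    obtain ⟨s, hs⟩ := hxo
    obtain ⟨t, ht⟩ := hyo
    have hx' : ∀ u : ℕ, x ^ (u * orderOf x) = 1 := fun u => by rw [mul_comm, pow_mul, pow_orderOf_eq_one, one_pow]
    have hy' : ∀ u : ℕ, y ^ (u * orderOf y) = 1 := fun u => by rw [mul_comm, pow_mul, pow_orderOf_eq_one, one_pow]
    have hx2 : x ^ (2 * (s + 1)) = x := by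
      rw [show 2 * (s + 1) = 1 * orderOf x + 1 by omega, pow_succ, hx', one_mul]
    have hy2 : y ^ (2 * (t + 1)) = y := by
      rw [show 2 * (t + 1) = 1 * orderOf y + 1 by omega, pow_succ, hy', one_mul]
    have ne1 : x ^ (s + 1) ≠ 1 := fun e => hx (by rw [← hx2, mul_comm, pow_mul, e, one_pow])
    have ne2 : y ^ (t + 1) ≠ 1 := fun e => hy (by rw [← hy2, mul_comm, pow_mul, e, one_pow])
    have e1 := hsplit (s + 1) (t + 1) ne1 ne2
    have e2 := hsplit 1 (t + 1) (by rwa [pow_one]) ne2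
    rw [hx2, hy2] at e1
    rw [mul_one, hy2, pow_two] at e2
    refine hno y⁻¹ x (by rw [orderOf_inv]; exact ⟨t, ht⟩) ⟨s, hs⟩ hx ?_
    -- `x y x = y⁻¹` and `x² y x² = y⁻¹`
    have f1 : x * y * x = y⁻¹ := eq_inv_of_mul_eq_one_left (by rw [← e1]; group)
    have f2 : x * x * y * (x * x) = y⁻¹ := eq_inv_of_mul_eq_one_left (by rw [← e2]; group)
    have f3 : x * y⁻¹ * x = y⁻¹ := by
      conv_lhs => rw [← f1]
      conv_rhs => rw [← f2]
      group
    calc y⁻¹ * x * y⁻¹⁻¹ = x⁻¹ * (x * y⁻¹ * x) * y := by group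
      _ = x⁻¹ := by rw [f3]; group
  -- choose the pair
  obtain ⟨a, ha, ha1⟩ : ∃ a ∈ A, a ≠ 1 := by
    by_contra hh
    push Not at hh
    have hb : A = ⊥ := (Subgroup.eq_bot_iff_forall _).2 hh
    have h5 : Nat.card A = 4 := IsKleinFour.card_four
    rw [hb, Subgroup.card_bot] at h5
    omega
  obtain ⟨x, c, hc, hx, hxo, hxi, hc1, hca, hcx⟩ := hodd a ha ha1
  obtain ⟨y, c', hc', hy, hyo, hyi, hc'1, hc'c, hcy⟩ := hodd c hc hc1
  rcases hthree a ha c hc ha1 hc1 (Ne.symm hca) c' hc' with rfl | rfl | rfl | rfl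
  · exact hc'1 rfl
  · exact key _ ha _ hc ha1 hc1 (Ne.symm hca) x y hx hy hxo hyo hcx hxi hcy hyi
  · exact hc'c rfl
  · refine key _ hc' _ hc hc'1 hc1 hc'c x y hx hy hxo hyo hcx ?_ hcy hyi
    rw [show a * c * x * (a * c)⁻¹ = a * (c * x * c⁻¹) * a⁻¹ by group, hcx.eq, mul_inv_cancel_right, hxi]

end Cfsg.Agent.S3195
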