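import Cfsg.Statements.S3196
import Mathlib
import Cfsg.Agent.Lib.Involution.BaerSuzuki

set_option autoImplicit false
open Cfsg
open scoped commutatorElement

namespace Cfsg.Agent.S3196

theorem mem_closure_pair' {G : Type*} [Group G] {x y z : G} (h : Commute x y)
    (hz : z ∈ Subgroup.closure ({x, y} : Set G)) : ∃ i j : ℤ, z = x ^ i * y ^ j := by
  induction hz using Subgroup.closure_induction with
  | mem v hv =>
    rcases hv with rfl | rfl
    · exact ⟨1, 0, by simp⟩
    · exact ⟨0, 1, by simp⟩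
  | one => exact ⟨0, 0, by simp⟩
  | mul a b _ _ ha hb =>
    obtain ⟨i, j, rfl⟩ := ha
    obtain ⟨k, l, rfl⟩ := hb
    refine ⟨i + k, j + l, ?_⟩
    rw [zpow_add, zpow_add, mul_assoc, ← mul_assoc (y ^ j), ← (h.zpow_zpow k j).eq, mul_assoc (x ^ k), ← mul_assoc]
  | inv a _ ha =>
    obtain ⟨i, j, rfl⟩ := ha
    exact ⟨-i, -j, by rw [mul_inv_rev, zpow_neg, zpow_neg, (h.zpow_zpow i j).inv_inv.eq]⟩

/-- Let p be a prime and K a set of subgroups of order p of a finite group G, closed under conjugation, such that at least two distinct members of K commute elementwise, and whenever two distinct members X, Y of K commute: every subgroup of order p of the group XY they generate belongs to K, and every member W of K has centralizer meeting XY nontrivially. Then some member V of K commutes elementwise with every member of K and lies in O_p(G); in particular G is not simple. -/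
theorem result {G : Type*} [Group G] [Finite G]
    {p : ℕ} (hp : p.Prime) (K : Set (Subgroup G)) (hK : ∀ X ∈ K, Nat.card ↥X = p)
    (hKc : ∀ X ∈ K, ∀ g : G, X.map (MulAut.conj g).toMonoidHom ∈ K)
    (hex : ∃ X ∈ K, ∃ Y ∈ K, X ≠ Y ∧ ∀ x ∈ X, ∀ y ∈ Y, x * y = y * x)
    (ha : ∀ X ∈ K, ∀ Y ∈ K, X ≠ Y → (∀ x ∈ X, ∀ y ∈ Y, x * y = y * x) →
      ∀ Z : Subgroup G, Z ≤ X ⊔ Y → Nat.card ↥Z = p → Z ∈ K)
    (hb : ∀ X ∈ K, ∀ Y ∈ K, X ≠ Y → (∀ x ∈ X, ∀ y ∈ Y, x * y = y * x) →
      ∀ W ∈ K, (X ⊔ Y) ⊓ Subgroup.centralizer (W : Set G) ≠ ⊥) :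
    (∃ V ∈ K, (∀ W ∈ K, ∀ v ∈ V, ∀ w ∈ W, v * w = w * v) ∧ V ≤ Cfsg.pCore p G) ∧ ¬ IsSimpleGroup G := by
  have : Fact p.Prime := ⟨hp⟩
  let D : Set G := {x | x ≠ 1 ∧ Subgroup.zpowers x ∈ K}
  have hgen : ∀ X ∈ K, ∀ x ∈ X, x ≠ 1 → Subgroup.zpowers x = X := fun X hX x hx h1 =>
    Subgroup.eq_of_le_of_card_ge (Subgroup.zpowers_le.2 hx) (by
      rw [hK X hX, Nat.card_zpowers]
      have h2 := X.orderOf_dvd_natCard hx
      rw [hK X hX, Nat.dvd_prime hp] at h2
      rcases h2 with h2 | h2
      · exact absurd (orderOf_eq_one_iff.1 h2) h1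
      · exact h2.ge)
  have hord : ∀ x ∈ D, orderOf x = p := fun x hx => by rw [← Nat.card_zpowers]; exact hK _ hx.2
  have hpow : ∀ x ∈ D, ∀ e : ℤ, x ^ e ≠ 1 → x ^ e ∈ D := fun x hx e he =>
    ⟨he, by rw [hgen _ hx.2 _ (zpow_mem (Subgroup.mem_zpowers x) e) he]; exact hx.2⟩
  have hconj : ∀ x ∈ D, ∀ g : G, g * x * g⁻¹ ∈ D := fun x hx g => by
    refine ⟨fun h => hx.1 (conj_eq_one_iff.1 h), ?_⟩
    have := hKc _ hx.2 g
    rw [MonoidHom.map_zpowers] at this
    exact this
  have hpow1 : ∀ x ∈ D, ∀ i : ℤ, x ^ i ≠ 1 → x ∈ Subgroup.zpowers (x ^ i) := fun x hx i hi => by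
    rw [hgen _ hx.2 _ (zpow_mem (Subgroup.mem_zpowers x) i) hi]; exact Subgroup.mem_zpowers x
  have hcpow : ∀ x ∈ D, ∀ i : ℤ, x ^ i ≠ 1 → ∀ u : G, Commute (x ^ i) u → Commute x u := by
    intro x hx i hi u hu
    obtain ⟨t, ht⟩ := hpow1 x hx i hi
    exact ht ▸ hu.zpow_left t
  have hsup : ∀ x y : G, Commute x y → ∀ z ∈ Subgroup.zpowers x ⊔ Subgroup.zpowers y,
      ∃ i j : ℤ, z = x ^ i * y ^ j := by
    intro x y hxy z hz
    rw [Subgroup.zpowers_eq_closure, Subgroup.zpowers_eq_closure, ← Subgroup.closure_union,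
      Set.singleton_union] at hz
    exact mem_closure_pair' hxy hz
  have hclose : ∀ x ∈ D, ∀ y ∈ D, Commute x y → ∀ i j : ℤ, x ^ i * y ^ j ≠ 1 → x ^ i * y ^ j ∈ D := by
    intro x hx y hy hxy i j h
    by_cases he : Subgroup.zpowers x = Subgroup.zpowers y
    · obtain ⟨e, he⟩ : y ∈ Subgroup.zpowers x := he ▸ Subgroup.mem_zpowers y
      subst he
      rw [← zpow_mul, ← zpow_add] at h ⊢
      exact hpow x hx _ h
    refine ⟨h, ha _ hx.2 _ hy.2 he ?_ _ ?_ ?_⟩
    · rintro _ ⟨a, rfl⟩ _ ⟨b, rfl⟩; exact (hxy.zpow_zpow a b).eq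
    · exact Subgroup.zpowers_le.2 (mul_mem (Subgroup.mem_sup_left (zpow_mem (Subgroup.mem_zpowers x) i))
        (Subgroup.mem_sup_right (zpow_mem (Subgroup.mem_zpowers y) j)))
    · rw [Nat.card_zpowers]
      refine orderOf_eq_prime ?_ h
      rw [(hxy.zpow_zpow i j).mul_pow, ← zpow_natCast, ← zpow_natCast, ← zpow_mul, ← zpow_mul, mul_comm i,
        mul_comm j, zpow_mul, zpow_mul, zpow_natCast, zpow_natCast]
      nth_rewrite 1 [← hord x hx]
      rw [← hord y hy, pow_orderOf_eq_one, pow_orderOf_eq_one, one_zpow, one_zpow, one_mul]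
  -- on the line through `x, y`, a point other than `x` commutes with `w`
  have L1 : ∀ x ∈ D, ∀ y ∈ D, Commute x y → ∀ w ∈ D, ¬ Commute w x → ∃ i : ℤ, Commute w (x ^ i * y) := by
    intro x hx y hy hxy w hw hwx
    by_cases hyx : y ∈ Subgroup.zpowers x
    · obtain ⟨e, rfl⟩ := hyx
      exact ⟨-e, by simp [← zpow_add]⟩
    have he : Subgroup.zpowers x ≠ Subgroup.zpowers y := fun e => hyx (e ▸ Subgroup.mem_zpowers y)
    have hne := hb _ hx.2 _ hy.2 he (by rintro _ ⟨a, rfl⟩ _ ⟨b, rfl⟩; exact (hxy.zpow_zpow a b).eq) _ hw.2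
    obtain ⟨q, hq, hq1⟩ := (Subgroup.bot_or_exists_ne_one _).resolve_left hne
    obtain ⟨i, j, rfl⟩ := hsup x y hxy q hq.1
    have hqw : Commute w (x ^ i * y ^ j) := Subgroup.mem_centralizer_iff.1 hq.2 w (Subgroup.mem_zpowers w)
    by_cases hj : y ^ j = 1
    · rw [hj, mul_one] at hqw hq1
      exact absurd (hcpow x hx i hq1 w hqw.symm).symm hwx
    · obtain ⟨t, ht⟩ := hpow1 y hy j hj
      refine ⟨i * t, ?_⟩
      have h2 := hqw.zpow_right t
      rw [(hxy.zpow_zpow i j).mul_zpow, ← zpow_mul, show (y ^ j) ^ t = y from ht] at h2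
      exact h2
  have partner : ∀ w ∈ D, ∃ y ∈ D, Commute w y ∧ y ∉ Subgroup.zpowers w := by
    intro w hw
    obtain ⟨X, hX, Y, hY, hXY, hcom⟩ := hex
    have hX1 : X ≠ ⊥ := fun h => hp.one_lt.ne' (by rw [← hK X hX, h, Subgroup.card_bot])
    have hY1 : Y ≠ ⊥ := fun h => hp.one_lt.ne' (by rw [← hK Y hY, h, Subgroup.card_bot])
    obtain ⟨x, hxX, hx1⟩ := X.bot_or_exists_ne_one.resolve_left hX1
    obtain ⟨y, hyY, hy1⟩ := Y.bot_or_exists_ne_one.resolve_left hY1
    have hx : x ∈ D := ⟨hx1, (hgen X hX x hxX hx1).symm ▸ hX⟩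
    have hy : y ∈ D := ⟨hy1, (hgen Y hY y hyY hy1).symm ▸ hY⟩
    have hxy : Commute x y := hcom x hxX y hyY
    by_cases hwx : Commute w x
    · by_cases hxw : x ∈ Subgroup.zpowers w
      · obtain ⟨e, rfl⟩ := hxw
        refine ⟨y, hy, hcpow w hw e hx1 y hxy, fun h => hXY ?_⟩
        rw [← hgen X hX _ hxX hx1, ← hgen Y hY _ hyY hy1, hgen _ hw.2 y h hy1,
          hgen _ hw.2 _ (zpow_mem (Subgroup.mem_zpowers w) e) hx1]
      · exact ⟨x, hx, hwx, hxw⟩
    · obtain ⟨i, hi⟩ := L1 x hx y hy hxy w hw hwx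
      have h1 : x ^ i * y ≠ 1 := fun e => hXY (by
        rw [mul_eq_one_iff_inv_eq] at e
        rw [← hgen X hX _ hxX hx1, ← hgen Y hY _ hyY hy1]
        exact (hgen _ hx.2 y (e ▸ inv_mem (zpow_mem (Subgroup.mem_zpowers x) i)) hy1).symm)
      refine ⟨x ^ i * y, by simpa using hclose x hx y hy hxy i 1 (by simpa using h1), hi, ?_⟩
      rintro ⟨e, he⟩
      simp only at he
      apply hwx
      refine hcpow w hw e (he ▸ h1) x ?_
      rw [he]
      exact ((Commute.refl x).zpow_left i).mul_left hxy.symm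
  have hfinal : ∃ v ∈ D, ∀ w ∈ D, Commute v w := by
    by_contra hno
    push Not at hno
    -- a member commutes with its image under a noncommuting one
    have hA : ∀ x ∈ D, ∀ w ∈ D, ¬ Commute x w → Commute w (x * w * x⁻¹) := by
      intro x hx w hw hxw
      obtain ⟨y, hy, hwy, hyw⟩ := partner w hw
      obtain ⟨i, hi⟩ := L1 w hw y hy hwy x hx hxw
      set r := w ^ i * y with hr
      have hr1 : r ≠ 1 := fun e => hyw (by
        rw [hr, mul_eq_one_iff_inv_eq] at e; exact e ▸ inv_mem (zpow_mem (Subgroup.mem_zpowers w) i))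
      have hrD : r ∈ D := by simpa using hclose w hw y hy hwy i 1 (by simpa using hr1)
      have hwr : Commute w r := ((Commute.refl w).zpow_right i).mul_right hwy
      by_cases hclique : ∀ r₁ ∈ D, ∀ r₂ ∈ D, Commute x r₁ → Commute w r₁ → Commute x r₂ → Commute w r₂ → Commute r₁ r₂
      · exfalso
        obtain ⟨u, hu, hru⟩ := hno r hrD
        obtain ⟨a, ha'⟩ := L1 r hrD w hw hwr.symm u hu (fun h => hru h.symm)
        set t := r ^ a * w with ht
        have hrt : Commute r t := ((Commute.refl r).zpow_right a).mul_right hwr.symm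
        have ht1 : t ≠ 1 := fun e => hxw (by
          rw [ht, mul_eq_one_iff_inv_eq] at e
          exact e ▸ (hi.zpow_right a).inv_right)
        have htD : t ∈ D := by simpa using hclose r hrD w hw hwr.symm a 1 (by simpa using ht1)
        have hxt : ¬ Commute x t := fun h => hxw (by
          have := (hi.zpow_right a).inv_right.mul_right h
          rwa [ht, inv_mul_cancel_left] at this)
        obtain ⟨b, hb'⟩ := L1 t htD u hu ha'.symm x hx hxt
        set s := t ^ b * u with hs
        have hsr : ∀ s' : G, Commute r s' → s' = s → False := fun s' hs' e => hru (by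
          have := (hrt.zpow_right b).inv_right.mul_right (e ▸ hs')
          rwa [hs, inv_mul_cancel_left] at this)
        by_cases hs1 : s = 1
        · exact hsr 1 (Commute.one_right r) hs1.symm
        have hsD : s ∈ D := by simpa using hclose t htD u hu ha'.symm b 1 (by simpa using hs1)
        obtain ⟨c, hc⟩ := L1 x hx s hsD hb' w hw (fun h => hxw h.symm)
        refine hsr s ?_ rfl
        have hxs' : Commute r (x ^ c * s) := by
          by_cases h1 : x ^ c * s = 1
          · rw [h1]; exact Commute.one_right r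
          · exact hclique r hrD _ (by simpa using hclose x hx s hsD hb' c 1 (by simpa using h1)) hi hwr
              (((Commute.refl x).zpow_right c).mul_right hb') hc
        have := ((hi.symm.zpow_right c).inv_right).mul_right hxs'
        rwa [inv_mul_cancel_left] at this
      · push Not at hclique
        obtain ⟨z, hz, z₂, hz₂, hxz, hwz, hxz₂, hwz₂, hzz⟩ := hclique
        set q := w * z₂ with hq
        have hq1 : q ≠ 1 := fun e => hxw (by
          rw [hq, mul_eq_one_iff_eq_inv] at e; exact e ▸ hxz₂.inv_right)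
        have hqD : q ∈ D := by simpa using hclose w hw z₂ hz₂ hwz₂ 1 1 (by simpa using hq1)
        have hwq : Commute w q := (Commute.refl w).mul_right hwz₂
        have hxq : ¬ Commute x q := fun h => hxw (by
          have := h.mul_right hxz₂.inv_right
          rwa [hq, mul_inv_cancel_right] at this)
        have hqz : ¬ Commute q z := fun h => hzz (by
          have := hwz.inv_left.mul_left h
          rw [hq, inv_mul_cancel_left] at this
          exact this.symm)
        obtain ⟨e, he⟩ := L1 z hz x hx hxz.symm q hqD hqz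
        have hqx : Commute w (x * q * x⁻¹) := by
          have h1 : x * q * x⁻¹ = z ^ (-e) * q * (z ^ (-e))⁻¹ := by
            calc x * q * x⁻¹ = z ^ (-e) * (z ^ e * x * q) * x⁻¹ := by group
              _ = z ^ (-e) * (q * (z ^ e * x)) * x⁻¹ := by rw [← he.eq]
              _ = z ^ (-e) * q * (z ^ (-e))⁻¹ := by group
          rw [h1]
          exact ((hwz.zpow_right _).mul_right hwq).mul_right (hwz.zpow_right _).inv_right
        obtain ⟨k, hk⟩ := L1 w hw q hqD hwq x hx hxw
        have hwk : w ^ k ≠ 1 := fun h => hxq (by rwa [h, one_mul] at hk)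
        have h2 : (x * w * x⁻¹) ^ k = w ^ k * q * (x * q * x⁻¹)⁻¹ := by
          rw [conj_zpow]
          calc x * w ^ k * x⁻¹ = (x * (w ^ k * q) * x⁻¹) * (x * q * x⁻¹)⁻¹ := by group
            _ = w ^ k * q * (x * q * x⁻¹)⁻¹ := by rw [hk.eq, mul_inv_cancel_right]
        have h3 : Commute w ((x * w * x⁻¹) ^ k) :=
          h2 ▸ (((Commute.refl w).zpow_right k).mul_right hwq).mul_right hqx.inv_right
        refine (hcpow _ (hconj w hw x) k (fun h => hwk ?_) w h3.symm).symm
        rw [conj_zpow] at h; exact conj_eq_one_iff.1 h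
    have hB : ∀ x ∈ D, ∀ w ∈ D, ¬ Commute x w →
        (w⁻¹ * (x * w * x⁻¹)) ∈ D ∧ Commute x (w⁻¹ * (x * w * x⁻¹)) ∧ Commute w (w⁻¹ * (x * w * x⁻¹)) := by
      intro x hx w hw hxw
      have hw' := hA x hx w hw hxw
      set w' := x * w * x⁻¹ with hdef
      obtain ⟨i, hi⟩ := L1 w hw w' (hconj w hw x) hw' x hx hxw
      set r := w ^ i * w' with hr
      have hwr : Commute w r := ((Commute.refl w).zpow_right i).mul_right hw'
      have hstep : x * w * x⁻¹ = w ^ (-i) * r := by rw [hr, ← hdef]; group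
      have hiter : ∀ n : ℕ, ∃ m : ℤ, x ^ n * w * (x ^ n)⁻¹ = w ^ ((-i) ^ n) * r ^ m := by
        intro n
        induction n with
        | zero => exact ⟨0, by simp⟩
        | succ n ih =>
          obtain ⟨m, hm⟩ := ih
          refine ⟨(-i) ^ n + m, ?_⟩
          calc x ^ (n + 1) * w * (x ^ (n + 1))⁻¹ = x * (x ^ n * w * (x ^ n)⁻¹) * x⁻¹ := by rw [pow_succ']; group
            _ = (x * w * x⁻¹) ^ ((-i) ^ n) * (x * r * x⁻¹) ^ m := by rw [hm, conj_zpow, conj_zpow]; group
            _ = w ^ ((-i) ^ (n + 1)) * r ^ ((-i) ^ n + m) := by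
              rw [hi.eq, mul_inv_cancel_right, hstep, (hwr.zpow_left _).mul_zpow, ← zpow_mul, ← pow_succ',
                mul_assoc, ← zpow_add]
      obtain ⟨m, hm⟩ := hiter p
      rw [show x ^ p = 1 by rw [← hord x hx, pow_orderOf_eq_one], one_mul, inv_one, mul_one] at hm
      have hrm : r ^ m = 1 := by
        by_contra hne
        have hrD : r ∈ D := by
          have h1 : r ≠ 1 := fun h => hne (by rw [h, one_zpow])
          simpa using hclose w hw w' (hconj w hw x) hw' i 1 (by simpa using h1)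
        obtain ⟨t, ht⟩ := hpow1 r hrD m hne
        have h4 : r ^ m = (w ^ ((-i) ^ p))⁻¹ * w := eq_inv_mul_iff_mul_eq.2 hm.symm
        refine hxw ?_
        have hrw : Commute x w := by
          have h5 : r ∈ Subgroup.zpowers w := by
            rw [← ht]
            refine zpow_mem ?_ t
            rw [h4]
            exact mul_mem (inv_mem (zpow_mem (Subgroup.mem_zpowers w) _)) (Subgroup.mem_zpowers w)
          obtain ⟨s, hs⟩ := h5
          simp only at hs
          exact (hcpow w hw s (fun h => hne (by rw [← hs, h, one_zpow])) x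
            (by rw [show w ^ s = r from hs]; exact hi.symm)).symm
        exact hrw
      rw [hrm, mul_one] at hm
      have hmod : ((-i : ℤ) : ZMod p) = 1 := by
        have h1 : (((-i) ^ p : ℤ) : ZMod p) = ((1 : ℤ) : ZMod p) := by
          rw [ZMod.intCast_eq_intCast_iff, ← hord w hw, ← zpow_eq_zpow_iff_modEq, zpow_one, hord w hw]
          exact hm.symm
        simpa [ZMod.pow_card] using h1
      have hwi : w ^ (-i) = w := by
        conv_rhs => rw [← zpow_one w]
        rw [zpow_eq_zpow_iff_modEq, hord w hw, ← ZMod.intCast_eq_intCast_iff]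
        simpa using hmod
      rw [hwi] at hstep
      have : w⁻¹ * w' = r := by rw [hdef, hstep, inv_mul_cancel_left]
      rw [this]
      have h1 : r ≠ 1 := fun h => hxw (by
        rw [h, mul_one] at hstep
        exact mul_inv_eq_iff_eq_mul.1 hstep)
      exact ⟨by simpa using hclose w hw w' (hconj w hw x) hw' i 1 (by simpa using h1), hi, hwr⟩
    -- any two members generate a `p`-group
    have hzp : ∀ x ∈ D, IsPGroup p (Subgroup.zpowers x) := fun x hx =>
      IsPGroup.of_card (n := 1) (by rw [pow_one, Nat.card_zpowers, hord x hx])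
    have hpair : ∀ x ∈ D, ∀ w ∈ D, IsPGroup p (Subgroup.closure ({x, w} : Set G)) := by
      intro x hx w hw
      by_cases hxw : Commute x w
      · refine ((hzp x hx).to_sup_of_normal_right' (hzp w hw) ?_).to_le ?_
        · refine Subgroup.zpowers_le.2 (Subgroup.mem_normalizer_iff.2 fun a => ?_)
          constructor
          · rintro ⟨e, rfl⟩; exact ⟨e, by simp [(hxw.zpow_right e).eq]⟩
          · rintro ⟨e, he⟩
            refine ⟨e, ?_⟩
            simp only at he ⊢
            have := congrArg (fun z => x⁻¹ * z * x) he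
            simp only [mul_assoc, inv_mul_cancel_left, inv_mul_cancel, mul_one] at this
            rw [← (hxw.zpow_right e).eq, inv_mul_cancel_left] at this
            exact this
        · rw [Subgroup.closure_le]
          rintro _ (rfl | rfl)
          · exact Subgroup.mem_sup_left (Subgroup.mem_zpowers _)
          · exact Subgroup.mem_sup_right (Subgroup.mem_zpowers _)
      · obtain ⟨hrD, hxr, hwr⟩ := hB x hx w hw hxw
        set r := w⁻¹ * (x * w * x⁻¹) with hr
        set E := Subgroup.closure ({w, r} : Set G) with hE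
        have hEp : IsPGroup p E := by
          intro ⟨e, he⟩
          obtain ⟨i, j, rfl⟩ := mem_closure_pair' hwr he
          refine ⟨1, Subtype.ext ?_⟩
          show (w ^ i * r ^ j) ^ p ^ 1 = 1
          rw [pow_one, (hwr.zpow_zpow i j).mul_pow, ← zpow_natCast, ← zpow_natCast, ← zpow_mul, ← zpow_mul,
            mul_comm i, mul_comm j, zpow_mul, zpow_mul, zpow_natCast, zpow_natCast]
          nth_rewrite 1 [← hord w hw]
          rw [← hord r hrD, pow_orderOf_eq_one, pow_orderOf_eq_one, one_zpow, one_zpow, one_mul]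
        have hnorm : x ∈ Subgroup.normalizer (E : Set G) := by
          have hle : E.map (MulAut.conj x).toMonoidHom ≤ E := by
            rw [hE, MonoidHom.map_closure, Subgroup.closure_le]
            rintro _ ⟨v, hv, rfl⟩
            rcases hv with rfl | rfl
            · show x * v * x⁻¹ ∈ E
              rw [show x * v * x⁻¹ = v * r by rw [hr]; group]
              exact mul_mem (Subgroup.subset_closure (Or.inl rfl)) (Subgroup.subset_closure (Or.inr rfl))
            · show x * r * x⁻¹ ∈ E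
              rw [hxr.eq, mul_inv_cancel_right]
              exact Subgroup.subset_closure (Or.inr rfl)
          have heq := Subgroup.eq_of_le_of_card_ge hle
            (Subgroup.card_map_of_injective (MulAut.conj x).injective).ge
          rw [Subgroup.mem_normalizer_iff]
          intro a
          constructor
          · intro ha; rw [← heq]; exact ⟨a, ha, rfl⟩
          · intro ha
            rw [← heq] at ha
            obtain ⟨c, hc, ec⟩ := ha
            have : c = a := by simpa using ec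
            exact this ▸ hc
        refine ((hzp x hx).to_sup_of_normal_right' hEp (Subgroup.zpowers_le.2 hnorm)).to_le ?_
        rw [Subgroup.closure_le]
        rintro _ (rfl | rfl)
        · exact Subgroup.mem_sup_left (Subgroup.mem_zpowers _)
        · exact Subgroup.mem_sup_right (Subgroup.subset_closure (Or.inl rfl))
    set N := Subgroup.closure D with hN
    have hNp : IsPGroup p N := by
      have hcore : IsPGroup p (Cfsg.pCore p G) := Sylow.sSup_of_normal _ (fun _ h => h.2) (fun _ h => h.1)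
      refine hcore.to_le ((Subgroup.closure_le _).2 fun x hx => ?_)
      obtain ⟨M, hMn, hMp, hxM⟩ :=
        Cfsg.Agent.Lib.Involution.baer_suzuki_element x fun g => hpair x hx _ (hconj x hx g)
      exact (show M ≤ Cfsg.pCore p G from le_sSup (show M ∈ {N : Subgroup G | N.Normal ∧ IsPGroup p N} from ⟨hMn, hMp⟩)) hxM
    obtain ⟨n, hn⟩ := Subgroup.isNilpotent_iff_lowerCentralSeries (S := N) |>.1 hNp.isNilpotent
    have hdesc : ∀ m, ∃ v ∈ D, v ∈ N.lowerCentralSeries m := by
      intro m
      induction m with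
      | zero =>
        obtain ⟨X, hX, -⟩ := hex
        have hX1 : X ≠ ⊥ := fun h => hp.one_lt.ne' (by rw [← hK X hX, h, Subgroup.card_bot])
        obtain ⟨x, hxX, hx1⟩ := X.bot_or_exists_ne_one.resolve_left hX1
        have hx : x ∈ D := ⟨hx1, (hgen X hX x hxX hx1).symm ▸ hX⟩
        exact ⟨x, hx, Subgroup.subset_closure hx⟩
      | succ m ih =>
        obtain ⟨v, hv, hvm⟩ := ih
        obtain ⟨u, hu, hvu⟩ := hno v hv
        refine ⟨_, (hB u hu v hv fun h => hvu h.symm).1, ?_⟩
        rw [Subgroup.lowerCentralSeries_succ, show v⁻¹ * (u * v * u⁻¹) = ⁅v⁻¹, u⁆ by rw [commutatorElement_def]; group]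
        exact Subgroup.commutator_mem_commutator (inv_mem hvm) (Subgroup.subset_closure hu)
    obtain ⟨v, hv, hvn⟩ := hdesc n
    rw [hn] at hvn
    exact hv.1 hvn
  obtain ⟨v, hv, hvc⟩ := hfinal
  set M := Subgroup.closure {y : G | ∃ g : G, y = g * v * g⁻¹} with hM
  have hgens : ∀ y ∈ {y : G | ∃ g : G, y = g * v * g⁻¹}, ∀ w ∈ D, Commute y w := by
    rintro y ⟨g, rfl⟩ w hw
    have h1 := hvc _ (hconj w hw g⁻¹)
    rw [inv_inv] at h1
    calc g * v * g⁻¹ * w = g * (v * (g⁻¹ * w * g)) * g⁻¹ := by group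
      _ = g * ((g⁻¹ * w * g) * v) * g⁻¹ := by rw [h1.eq]
      _ = w * (g * v * g⁻¹) := by group
  have hMn : M.Normal := by
    refine ⟨fun a ha g => ?_⟩
    induction ha using Subgroup.closure_induction with
    | mem y hy =>
      obtain ⟨h, rfl⟩ := hy
      exact Subgroup.subset_closure ⟨g * h, by group⟩
    | one => simp
    | mul a b _ _ ha hb =>
      rw [show g * (a * b) * g⁻¹ = (g * a * g⁻¹) * (g * b * g⁻¹) by group]; exact mul_mem ha hb
    | inv a _ ha =>
      rw [show g * a⁻¹ * g⁻¹ = (g * a * g⁻¹)⁻¹ by group]; exact inv_mem ha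
  have hMab : IsMulCommutative M := by
    refine Subgroup.isMulCommutative_closure ?_
    rintro a ha b ⟨h, rfl⟩
    exact hgens a ha _ (hconj v hv h)
  have hMp : IsPGroup p M := by
    intro ⟨a, ha⟩
    refine ⟨1, Subtype.ext ?_⟩
    show a ^ p ^ 1 = 1
    rw [pow_one]
    induction ha using Subgroup.closure_induction with
    | mem y hy =>
      obtain ⟨h, rfl⟩ := hy
      rw [conj_pow, ← hord v hv, pow_orderOf_eq_one, mul_one, mul_inv_cancel]
    | one => simp
    | mul a b ha' hb' ha hb =>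
      have hab : Commute a b := congrArg Subtype.val (hMab.is_comm.comm ⟨a, ha'⟩ ⟨b, hb'⟩)
      rw [hab.mul_pow, ha, hb, mul_one]
    | inv a _ ha => rw [inv_pow, ha, inv_one]
  have hvM : v ∈ M := Subgroup.subset_closure ⟨1, by group⟩
  refine ⟨⟨Subgroup.zpowers v, hv.2, ?_, ?_⟩, ?_⟩
  · rintro W hW _ ⟨i, rfl⟩ u hu
    by_cases hu1 : u = 1
    · simp [hu1]
    · exact ((hvc u ⟨hu1, (hgen W hW u hu hu1).symm ▸ hW⟩).zpow_left i).eq
  · exact (Subgroup.zpowers_le.2 hvM).trans (le_sSup ⟨hMn, hMp⟩)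
  · intro hs
    rcases hs.eq_bot_or_eq_top_of_normal M hMn with h | h
    · rw [h] at hvM; exact hv.1 hvM
    · obtain ⟨X, hX, Y, hY, hXY, hcom⟩ := hex
      have hall : ∀ a b : G, a * b = b * a := fun a b =>
        congrArg Subtype.val (hMab.is_comm.comm ⟨a, h ▸ Subgroup.mem_top a⟩ ⟨b, h ▸ Subgroup.mem_top b⟩)
      have htop : ∀ Z ∈ K, Z = ⊤ := fun Z hZ => by
        refine (hs.eq_bot_or_eq_top_of_normal Z ⟨fun z hz g => ?_⟩).resolve_left fun e => ?_
        · rw [hall g z, mul_inv_cancel_right]; exact hz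
        · exact hp.one_lt.ne' (by rw [← hK Z hZ, e, Subgroup.card_bot])
      exact hXY ((htop X hX).trans (htop Y hY).symm)

end Cfsg.Agent.S3196
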