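import Cfsg.Statements.S3200
import Mathlib
import Cfsg.Agent.Lib.Burnside.Paqb
import Cfsg.Agent.Lib.Hall.Solvable

set_option autoImplicit false
open Cfsg
open scoped Pointwise

namespace Cfsg.Agent.S3200

theorem map_props {G : Type*} [Group G] [Finite G] (N : Subgroup G) [N.Normal] (C : Subgroup G)
    (hC : IsMulCommutative C) (hodd : Odd (Nat.card C)) (hpow : ∃ k, C.index = 2 ^ k) :
    IsMulCommutative (C.map (QuotientGroup.mk' N)) ∧ Odd (Nat.card (C.map (QuotientGroup.mk' N))) ∧
      ∃ k, (C.map (QuotientGroup.mk' N)).index = 2 ^ k := by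
  refine ⟨⟨⟨?_⟩⟩, hodd.of_dvd_nat (C.card_map_dvd _), ?_⟩
  · rintro ⟨_, a, ha, rfl⟩ ⟨_, b, hb, rfl⟩
    apply Subtype.ext
    show QuotientGroup.mk' N a * QuotientGroup.mk' N b = QuotientGroup.mk' N b * QuotientGroup.mk' N a
    rw [← map_mul, ← map_mul, show a * b = b * a from congrArg Subtype.val (hC.is_comm.comm ⟨a, ha⟩ ⟨b, hb⟩)]
  · obtain ⟨k, hk⟩ := hpow
    have := C.index_map_dvd (QuotientGroup.mk'_surjective N)
    rw [hk] at this
    obtain ⟨j, -, hj⟩ := (Nat.dvd_prime_pow Nat.prime_two).1 this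
    exact ⟨j, hj⟩

theorem complement_of {G : Type*} [Group G] [Finite G] (D : Subgroup G) (hD : IsMulCommutative D)
    (hodd : Odd (Nat.card D)) (hpow : ∃ k, D.index = 2 ^ k) :
    ∃ (P : Sylow 2 G) (E : Subgroup G), IsMulCommutative E ∧ Subgroup.IsComplement' (P : Subgroup G) E := by
  have : Fact (Nat.Prime 2) := ⟨Nat.prime_two⟩
  obtain ⟨k, hk⟩ := hpow
  obtain ⟨P⟩ : Nonempty (Sylow 2 G) := inferInstance
  refine ⟨P, D, hD, Subgroup.isComplement'_of_coprime ?_ ?_⟩
  · rw [P.card_eq_multiplicity, ← D.card_mul_index, hk]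
    have : (Nat.card D * 2 ^ k).factorization 2 = k := by
      rw [Nat.factorization_mul Nat.card_pos.ne' (by positivity), Finsupp.add_apply,
        Nat.factorization_eq_zero_of_not_dvd (by rw [← even_iff_two_dvd, Nat.not_even_iff_odd]; exact hodd),
        Nat.Prime.factorization_pow Nat.prime_two]
      simp
    rw [this, mul_comm]
  · obtain ⟨n, hn⟩ := P.isPGroup'.exists_card_eq
    rw [hn]; exact (Nat.coprime_two_left.2 hodd).pow_left n

theorem solvable_of.{u} (n : ℕ) : ∀ (G : Type u) [Group G] [Finite G], Nat.card G = n → ∀ C : Subgroup G,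
    IsMulCommutative C → Odd (Nat.card C) → (∃ k, C.index = 2 ^ k) → Group.IsSolvable G := by
  induction n using Nat.strong_induction_on with
  | _ n ih =>
  intro G _ _ hn C hC hodd hpow
  have : Fact (Nat.Prime 2) := ⟨Nat.prime_two⟩
  rcases subsingleton_or_nontrivial G with h | h
  · infer_instance
  by_cases hbot : C = ⊥
  · obtain ⟨k, hk⟩ := hpow
    rw [hbot, Subgroup.index_bot] at hk
    have := (IsPGroup.of_card hk).isNilpotent
    infer_instance
  by_cases hcomm : ∀ a b : G, a * b = b * a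
  · exact Group.isSolvable_of_comm hcomm
  by_cases hs : IsSimpleGroup G
  · exfalso
    obtain ⟨c, hc, hc1⟩ := C.bot_or_exists_ne_one.resolve_left hbot
    have hle : C ≤ Subgroup.centralizer ({c} : Set G) := fun x hx => by
      rw [Subgroup.mem_centralizer_singleton_iff]
      exact congrArg Subtype.val (hC.is_comm.comm ⟨x, hx⟩ ⟨c, hc⟩)
    obtain ⟨k, hk⟩ := hpow
    have hd : (Subgroup.centralizer ({c} : Set G)).index ∣ 2 ^ k := hk ▸ Subgroup.index_dvd_of_le hle
    obtain ⟨j, -, hj⟩ := (Nat.dvd_prime_pow Nat.prime_two).1 hd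
    rcases Nat.eq_zero_or_pos j with rfl | hj0
    · rw [pow_zero, Subgroup.index_eq_one] at hj
      have hZ : c ∈ Subgroup.center G := Subgroup.mem_center_iff.2 fun g =>
        Subgroup.mem_centralizer_singleton_iff.1 (hj ▸ Subgroup.mem_top g)
      rcases hs.eq_bot_or_eq_top_of_normal (Subgroup.center G) inferInstance with h | h
      · exact hc1 (Subgroup.mem_bot.1 (h ▸ hZ))
      · exact hcomm fun a b => (Subgroup.mem_center_iff.1 (h ▸ Subgroup.mem_top b) a)
    · refine Cfsg.Agent.Lib.Burnside.class_card_ne_prime_pow (g := c) Nat.prime_two hj0 ?_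
      rw [← hj, Subgroup.index]
      refine Nat.card_congr ?_
      refine ((Equiv.subtypeEquivRight fun x => ?_).trans (MulAction.orbitEquivQuotientStabilizer (ConjAct G) c)).trans
        (Quotient.congr ConjAct.ofConjAct.toEquiv fun a b => ?_)
      · rw [ConjAct.mem_orbit_conjAct, isConj_comm]
      · rw [QuotientGroup.leftRel_apply, QuotientGroup.leftRel_apply, MulAction.mem_stabilizer_iff,
          Subgroup.mem_centralizer_singleton_iff]
        show ConjAct.ofConjAct (a⁻¹ * b) * c * (ConjAct.ofConjAct (a⁻¹ * b))⁻¹ = c ↔ _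
        rw [mul_inv_eq_iff_eq_mul]
        rfl
  · obtain ⟨N, hN, hNb, hNt⟩ : ∃ N : Subgroup G, N.Normal ∧ N ≠ ⊥ ∧ N ≠ ⊤ := by
      by_contra h
      push Not at h
      exact hs ⟨fun N hN => (eq_or_ne N ⊥).imp id (h N hN)⟩
    have hNlt : Nat.card N < n := by
      rw [← hn]
      exact lt_of_le_of_ne N.card_le_card_group fun e => hNt (Subgroup.eq_top_of_card_eq N e)
    have hQlt : Nat.card (G ⧸ N) < n := by
      rw [← hn, Subgroup.card_eq_card_quotient_mul_card_subgroup N]
      exact lt_mul_of_one_lt_right Nat.card_pos (N.one_lt_card_iff_ne_bot.mpr hNb)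
    have hNs : Group.IsSolvable N := by
      refine ih _ hNlt N rfl (C.subgroupOf N) ⟨⟨fun a b => ?_⟩⟩ ?_ ?_
      · exact Subtype.ext (Subtype.ext (by
          have := congrArg Subtype.val (hC.is_comm.comm ⟨_, a.2⟩ ⟨_, b.2⟩)
          exact this))
      · refine hodd.of_dvd_nat ?_
        rw [← Subgroup.card_map_of_injective N.subtype_injective, Subgroup.subgroupOf_map_subtype]
        exact Subgroup.card_dvd_of_le inf_le_left
      · obtain ⟨k, hk⟩ := hpow
        have := Cfsg.Agent.Lib.Hall.relIndex_dvd_index_of_normal_right C N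
        rw [hk] at this
        obtain ⟨j, -, hj⟩ := (Nat.dvd_prime_pow Nat.prime_two).1 this
        exact ⟨j, hj⟩
    have hp := map_props N C hC hodd hpow
    have hQs : Group.IsSolvable (G ⧸ N) := ih _ hQlt (G ⧸ N) rfl _ hp.1 hp.2.1 hp.2.2
    exact (Group.isSolvable_iff_subgroup_quotient N).2 ⟨hNs, hQs⟩

/-- Let H be a finite group in which a Sylow 2-subgroup has an abelian complement (an abelian subgroup meeting it trivially whose product with it is all of H). Then H is solvable, and every subgroup and every quotient group of H again has a Sylow 2-subgroup with an abelian complement. -/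
theorem result {H : Type*} [Group H] [Finite H]
    (S : Sylow 2 H) (C : Subgroup H) (hC : IsMulCommutative ↥C) (hSC : Subgroup.IsComplement' (S : Subgroup H) C) :
    Group.IsSolvable H ∧
    (∀ L : Subgroup H, ∃ (P : Sylow 2 ↥L) (D : Subgroup ↥L), IsMulCommutative ↥D ∧ Subgroup.IsComplement' (P : Subgroup ↥L) D) ∧
    (∀ (N : Subgroup H) [N.Normal], ∃ (P : Sylow 2 (H ⧸ N)) (D : Subgroup (H ⧸ N)),
      IsMulCommutative ↥D ∧ Subgroup.IsComplement' (P : Subgroup (H ⧸ N)) D) := by
  have : Fact (Nat.Prime 2) := ⟨Nat.prime_two⟩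
  have hodd : Odd (Nat.card C) := by
    have hi : (S : Subgroup H).index = Nat.card C := hSC.symm.index_eq_card
    rw [← hi]; exact Nat.odd_iff.2 (Nat.two_dvd_ne_zero.1 S.not_dvd_index)
  have hpow : ∃ k, C.index = 2 ^ k := by
    rw [hSC.index_eq_card]; exact S.isPGroup'.exists_card_eq
  have hsolv : Group.IsSolvable H := solvable_of _ H rfl C hC hodd hpow
  obtain ⟨k, hk⟩ := hpow
  have hG : Nat.card H = Nat.card C * 2 ^ k := by rw [← hk, C.card_mul_index]
  have hco : (Nat.card C).Coprime (2 ^ k) := (Nat.coprime_two_right.2 hodd).pow_right k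
  refine ⟨hsolv, fun L => ?_, fun N _ => ?_⟩
  · obtain ⟨m, r, hm, hr⟩ : ∃ m r, Odd m ∧ Nat.card L = m * 2 ^ r := by
      obtain ⟨r, m, hm, hr⟩ := Nat.exists_eq_two_pow_mul_odd (n := Nat.card L) Nat.card_pos.ne'
      exact ⟨m, r, hm, hr.trans (mul_comm _ _)⟩
    obtain ⟨D, hD⟩ := Cfsg.Agent.Lib.Hall.exists_card_eq (G := L) hr ((Nat.coprime_two_right.2 hm).pow_right r)
    have hD' : (Nat.card (D.map L.subtype)).Coprime (2 ^ k) := by
      rw [Subgroup.card_map_of_injective L.subtype_injective, hD]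
      exact (Nat.coprime_two_right.2 hm).pow_right k
    obtain ⟨X, hX, hDX⟩ := Cfsg.Agent.Lib.Hall.exists_card_eq_ge hG hco hD'
    obtain ⟨g, hg⟩ := Cfsg.Agent.Lib.Hall.conj_of_card_eq hG hco rfl hX
    have hDc : IsMulCommutative D := by
      refine ⟨⟨fun a b => Subtype.ext (Subtype.ext ?_)⟩⟩
      have ha : ((a : L) : H) ∈ MulAut.conj g • C := hg ▸ hDX ⟨a, a.2, rfl⟩
      have hb : ((b : L) : H) ∈ MulAut.conj g • C := hg ▸ hDX ⟨b, b.2, rfl⟩
      obtain ⟨x, hx, ea⟩ := ha
      obtain ⟨y, hy, eb⟩ := hb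
      show ((a : L) : H) * b = b * a
      rw [← ea, ← eb]
      show (MulAut.conj g) x * (MulAut.conj g) y = (MulAut.conj g) y * (MulAut.conj g) x
      rw [← map_mul, ← map_mul, show x * y = y * x from congrArg Subtype.val (hC.is_comm.comm ⟨x, hx⟩ ⟨y, hy⟩)]
    refine complement_of D hDc (hD ▸ hm) ⟨r, ?_⟩
    have := D.card_mul_index
    rw [hD, hr] at this
    exact Nat.eq_of_mul_eq_mul_left hm.pos this
  · have hmap := map_props N C hC hodd ⟨k, hk⟩
    exact complement_of _ hmap.1 hmap.2.1 hmap.2.2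

end Cfsg.Agent.S3200
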