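import Cfsg.Statements.S3201
import Mathlib
import Cfsg.Agent.Lib.UniqueInvolution.Basic

set_option autoImplicit false
open Cfsg

namespace Cfsg.Agent.S3201

theorem index_of_isCoatom {G : Type*} [Group G] [Finite G] (hG : IsPGroup 2 G) {M : Subgroup G}
    (hM : IsCoatom M) : M.index = 2 := by
  have : Fact (Nat.Prime 2) := ⟨Nat.prime_two⟩
  have := hG.isNilpotent
  have hn : M.Normal := Subgroup.NormalizerCondition.normal_of_coatom M Group.normalizerCondition_of_isNilpotent hM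
  obtain ⟨k, hk⟩ := hG.index M
  obtain ⟨g, hg⟩ : ∃ g : G ⧸ M, orderOf g = 2 := by
    refine exists_prime_orderOf_dvd_card' 2 ?_
    rw [← M.index_eq_card, hk]
    rcases Nat.eq_zero_or_pos k with rfl | h
    · exact absurd (Subgroup.index_eq_one.1 (by simpa using hk)) hM.1
    · exact dvd_pow_self 2 h.ne'
  have h1 : M < (Subgroup.zpowers g).comap (QuotientGroup.mk' M) := by
    obtain ⟨g₀, rfl⟩ := QuotientGroup.mk'_surjective M g
    refine SetLike.lt_iff_le_and_exists.2 ⟨fun x hx => ?_, g₀, Subgroup.mem_zpowers (QuotientGroup.mk' M g₀), fun h => ?_⟩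
    · rw [Subgroup.mem_comap]
      rw [show QuotientGroup.mk' M x = 1 from (QuotientGroup.eq_one_iff x).2 hx]; exact one_mem _
    · rw [QuotientGroup.mk'_apply, (QuotientGroup.eq_one_iff g₀).2 h, orderOf_one] at hg
      omega
  have h2 := hM.2 _ h1
  have h3 : Subgroup.zpowers g = ⊤ := eq_top_iff.2 fun q _ => by
    obtain ⟨q, rfl⟩ := QuotientGroup.mk'_surjective M q
    exact (h2 ▸ Subgroup.mem_top q : q ∈ (Subgroup.zpowers g).comap _)
  rw [M.index_eq_card, ← Subgroup.card_top (G := G ⧸ M), ← h3, Nat.card_zpowers, hg]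

/-- Let S be a finite 2-group whose centre Z(S) has n ≥ 2 distinct maximal subgroups C₁, …, Cₙ with trivial intersection such that each quotient S/Cᵢ is a non-abelian group with exactly one involution (a generalized quaternion group). Then S is the internal direct product of an elementary abelian subgroup and a non-abelian subgroup with exactly one involution. -/
theorem result {S : Type*} [Group S] [Finite S]
    (hS : IsPGroup 2 S) (n : ℕ) (hn : 2 ≤ n) (C : Fin n → Subgroup ↥(Subgroup.center S))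
    (hCmax : ∀ i, IsCoatom (C i)) (hCinj : Function.Injective C) (hCint : ⨅ i, C i = ⊥)
    (hCq : ∀ i, ∃ (_ : ((C i).map (Subgroup.center S).subtype).Normal),
      ¬ IsMulCommutative (S ⧸ (C i).map (Subgroup.center S).subtype) ∧
      ∃! x : S ⧸ (C i).map (Subgroup.center S).subtype, orderOf x = 2) :
    ∃ E Q : Subgroup S, Cfsg.IsInternalDirectProduct E Q ⊤ ∧ Cfsg.IsElementaryAbelian 2 E ∧
      ¬ IsMulCommutative ↥Q ∧ ∃! x : ↥Q, orderOf x = 2 := by
  have : Fact (Nat.Prime 2) := ⟨Nat.prime_two⟩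
  let C' : Fin n → Subgroup S := fun i => (C i).map (Subgroup.center S).subtype
  have hC'Z : ∀ i, C' i ≤ Subgroup.center S := fun i => Subgroup.map_subtype_le _
  have hmemC : ∀ i (z : ↥(Subgroup.center S)), (z : S) ∈ C' i ↔ z ∈ C i := fun i z =>
    Subgroup.mem_map_iff_mem (Subgroup.subtype_injective _)
  have hCi2 : ∀ i, (C i).index = 2 := fun i => index_of_isCoatom (hS.to_subgroup _) (hCmax i)
  have hCZ : ∀ i, ∀ z ∈ Subgroup.center S, ∀ z' ∈ Subgroup.center S, z ∉ C' i → z' ∉ C' i → z⁻¹ * z' ∈ C' i := by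
    intro i z hz z' hz' h h'
    show ((⟨z, hz⟩⁻¹ * ⟨z', hz'⟩ : ↥(Subgroup.center S)) : S) ∈ C' i
    rw [hmemC, Subgroup.mul_mem_iff_of_index_two (hCi2 i), inv_mem_iff]
    exact iff_of_false (fun e => h ((hmemC i ⟨z, hz⟩).2 e)) (fun e => h' ((hmemC i ⟨z', hz'⟩).2 e))
  have hext : ∀ g : S, (∀ i, g ∈ C' i) → g = 1 := by
    intro g hg
    have h0 : (⟨g, hC'Z ⟨0, by omega⟩ (hg _)⟩ : ↥(Subgroup.center S)) ∈ ⨅ i, C i :=
      Subgroup.mem_iInf.2 fun i => (hmemC i _).1 (hg i)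
    rw [hCint, Subgroup.mem_bot] at h0
    exact congrArg Subtype.val h0
  have hsqC : ∀ i, ∀ z ∈ Subgroup.center S, z * z ∈ C' i := fun i z hz => by
    by_cases h : z ∈ C' i
    · exact mul_mem h h
    · have := hCZ i z⁻¹ (inv_mem hz) z hz (fun e => h (inv_mem_iff.1 e)) h
      rwa [inv_inv] at this
  have hZ2 : ∀ z ∈ Subgroup.center S, z * z = 1 := fun z hz => hext _ fun i => hsqC i z hz
  -- an element with square in `C_i` is central
  have hinvol : ∀ i (g : S), g * g ∈ C' i → g ∈ Subgroup.center S := by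
    intro i g hg
    obtain ⟨hn, -, x, hx, hux⟩ := hCq i
    obtain ⟨⟨z, hz⟩, hzi⟩ : ∃ z : ↥(Subgroup.center S), z ∉ C i := by
      by_contra h
      push Not at h
      exact (hCmax i).1 (eq_top_iff.2 fun z _ => h z)
    have hq : ∀ w : S, w * w ∈ C' i → w ∉ C' i → (QuotientGroup.mk w : S ⧸ C' i) = x := fun w hw hw' =>
      hux _ (orderOf_eq_prime (by rw [pow_two, ← QuotientGroup.mk_mul]; exact (QuotientGroup.eq_one_iff _).2 hw)
        fun e => hw' ((QuotientGroup.eq_one_iff w).1 e))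
    by_cases hgC : g ∈ C' i
    · exact hC'Z i hgC
    · have e := (hq g hg hgC).trans (hq z (hsqC i z hz) fun e => hzi ((hmemC i _).1 e)).symm
      have := hC'Z i (QuotientGroup.eq.1 e)
      exact inv_mem_iff.1 (by simpa using mul_mem this (inv_mem hz))
  obtain ⟨i₀⟩ : Nonempty (Fin n) := ⟨⟨0, by omega⟩⟩
  obtain ⟨hn₀, hna, x, hx, hux⟩ := hCq i₀
  obtain ⟨m, a, hm, ha, hidx, hout⟩ := Cfsg.Agent.Lib.UniqueInvolution.exists_quaternion_gen
    (hS.to_quotient (C' i₀)) (fun b c hb hc => (hux b hb).trans (hux c hc).symm) hna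
  obtain ⟨a₀, rfl⟩ := QuotientGroup.mk_surjective a
  obtain ⟨y₀, hy₀⟩ : ∃ y : S, (QuotientGroup.mk y : S ⧸ C' i₀) ∉ Subgroup.zpowers (QuotientGroup.mk a₀ : S ⧸ C' i₀) := by
    by_contra h
    push Not at h
    have : Subgroup.zpowers (QuotientGroup.mk a₀ : S ⧸ C' i₀) = ⊤ :=
      eq_top_iff.2 fun q _ => by obtain ⟨g, rfl⟩ := QuotientGroup.mk_surjective q; exact h g
    rw [this, Subgroup.index_top] at hidx
    omega
  obtain ⟨hinv, hsq⟩ := hout _ hy₀
  obtain ⟨k, rfl⟩ : ∃ k, m = k + 2 := ⟨m - 2, by omega⟩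
  rw [show k + 2 - 1 = k + 1 from rfl] at hsq
  set w := a₀ ^ 2 ^ (k + 1) with hw
  have hwZ : w ∈ Subgroup.center S := hinvol i₀ w ((QuotientGroup.eq_one_iff _).1 (by
    rw [QuotientGroup.mk_mul, hw, QuotientGroup.mk_pow, ← pow_add, ← two_mul, ← pow_succ', ← ha, pow_orderOf_eq_one]))
  have huZ : a₀ ^ 2 ^ k ∉ Subgroup.center S := by
    intro h
    have e : y₀ * a₀ ^ 2 ^ k * y₀⁻¹ = a₀ ^ 2 ^ k := by rw [Subgroup.mem_center_iff.1 h y₀, mul_inv_cancel_right]
    have e' := congrArg (QuotientGroup.mk (s := C' i₀)) e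
    rw [QuotientGroup.mk_mul, QuotientGroup.mk_mul, QuotientGroup.mk_inv, QuotientGroup.mk_pow, ← conj_pow, hinv,
      inv_pow, inv_eq_iff_mul_eq_one, ← pow_add] at e'
    have := Nat.le_of_dvd (by positivity) (orderOf_dvd_of_pow_eq_one e')
    rw [ha, pow_add] at this
    have : 0 < 2 ^ k := by positivity
    omega
  have hwC : ∀ j, w ∉ C' j := fun j h => huZ (hinvol j _ (by
    rwa [← pow_add, ← two_mul, ← pow_succ']))
  have hyZ : y₀ ∉ Subgroup.center S := by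
    intro h
    have e : y₀ * a₀ * y₀⁻¹ = a₀ := by rw [← Subgroup.mem_center_iff.1 h a₀, mul_inv_cancel_right]
    have e' := congrArg (QuotientGroup.mk (s := C' i₀)) e
    rw [QuotientGroup.mk_mul, QuotientGroup.mk_mul, QuotientGroup.mk_inv, hinv, inv_eq_iff_mul_eq_one,
      ← pow_two] at e'
    have := Nat.le_of_dvd (by norm_num) (orderOf_dvd_of_pow_eq_one e')
    rw [ha, pow_add] at this
    have : 0 < 2 ^ k := by positivity
    omega
  -- the relations hold exactly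
  have hy2 : y₀ * y₀ = w := by
    have hyy : y₀ * y₀ ∈ Subgroup.center S := by
      have h1 : w⁻¹ * (y₀ * y₀) ∈ C' i₀ := QuotientGroup.eq.1 (by
        rw [QuotientGroup.mk_mul, hsq, hw, QuotientGroup.mk_pow])
      simpa using mul_mem hwZ (hC'Z i₀ h1)
    have : w⁻¹ * (y₀ * y₀) = 1 := hext _ fun j =>
      hCZ j w hwZ _ hyy (hwC j) fun h => hyZ (hinvol j y₀ h)
    exact (inv_mul_eq_one.1 this).symm
  have hyaZ : y₀ * a₀ ∉ Subgroup.center S := by
    intro h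
    have e' := congrArg (QuotientGroup.mk (s := C' i₀)) (Subgroup.mem_center_iff.1 h y₀)
    have hcomm : (y₀ : S ⧸ C' i₀) * a₀ * (y₀ : S ⧸ C' i₀)⁻¹ = a₀ := by
      simp only [QuotientGroup.mk_mul, mul_assoc] at e'
      rw [mul_inv_eq_iff_eq_mul]
      exact mul_left_cancel e'
    rw [hinv, inv_eq_iff_mul_eq_one, ← pow_two] at hcomm
    have := Nat.le_of_dvd (by norm_num) (orderOf_dvd_of_pow_eq_one hcomm)
    rw [ha, pow_add] at this
    have : 0 < 2 ^ k := by positivity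
    omega
  have hya : y₀ * a₀ * y₀⁻¹ = a₀⁻¹ := by
    have ht0 : y₀ * a₀ * y₀⁻¹ * a₀ ∈ C' i₀ := (QuotientGroup.eq_one_iff _).1 (by
      rw [QuotientGroup.mk_mul, QuotientGroup.mk_mul, QuotientGroup.mk_mul, QuotientGroup.mk_inv, hinv, inv_mul_cancel])
    refine eq_inv_of_mul_eq_one_left (hext _ fun j => ?_)
    set t := y₀ * a₀ * y₀⁻¹ * a₀ with ht
    have htZ : t ∈ Subgroup.center S := hC'Z _ ht0
    by_contra htj
    refine hyaZ (hinvol j _ ?_)
    have : y₀ * a₀ * (y₀ * a₀) = t * w := by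
      calc y₀ * a₀ * (y₀ * a₀) = (y₀ * a₀ * y₀⁻¹) * (y₀ * y₀) * a₀ := by group
        _ = (y₀ * a₀ * y₀⁻¹) * (a₀ * w) := by rw [hy2, mul_assoc, ← Subgroup.mem_center_iff.1 hwZ a₀]
        _ = t * w := by rw [ht]; group
    rw [this, ← inv_inv t]
    exact hCZ j t⁻¹ (inv_mem htZ) w hwZ (fun e => htj (inv_mem_iff.1 e)) (hwC j)
  have ha2 : a₀ ^ 2 ^ (k + 2) = 1 := by
    rw [pow_succ, pow_mul, pow_two, ← hw]; exact hZ2 w hwZ
  -- the subgroup they generate
  set Q := Subgroup.closure ({a₀, y₀} : Set S) with hQ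
  have haQ : a₀ ∈ Q := Subgroup.subset_closure (Or.inl rfl)
  have hyQ : y₀ ∈ Q := Subgroup.subset_closure (Or.inr rfl)
  have hconjz : ∀ e : ℤ, a₀ ^ e * y₀ = y₀ * a₀ ^ (-e) := fun e => by
    have h1 : y₀ * a₀ ^ (-e) * y₀⁻¹ = a₀ ^ e := by rw [← conj_zpow, hya, inv_zpow', neg_neg]
    rw [← h1]; group
  have hQmem : ∀ g ∈ Q, ∃ e : ℤ, g = a₀ ^ e ∨ g = y₀ * a₀ ^ e := by
    intro g hg
    induction hg using Subgroup.closure_induction with
    | mem v hv =>
      rcases hv with rfl | rfl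
      · exact ⟨1, Or.inl (zpow_one _).symm⟩
      · exact ⟨0, Or.inr (by simp)⟩
    | one => exact ⟨0, Or.inl (by simp)⟩
    | mul u v _ _ hu hv =>
      obtain ⟨e, rfl | rfl⟩ := hu <;> obtain ⟨f, rfl | rfl⟩ := hv
      · exact ⟨e + f, Or.inl (zpow_add _ _ _).symm⟩
      · exact ⟨-e + f, Or.inr (by rw [← mul_assoc, hconjz, mul_assoc, ← zpow_add])⟩
      · exact ⟨e + f, Or.inr (by rw [mul_assoc, ← zpow_add])⟩
      · refine ⟨(2 ^ (k + 1) : ℕ) + (-e + f), Or.inl ?_⟩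
        calc y₀ * a₀ ^ e * (y₀ * a₀ ^ f) = y₀ * (a₀ ^ e * y₀) * a₀ ^ f := by group
          _ = (y₀ * y₀) * (a₀ ^ (-e) * a₀ ^ f) := by rw [hconjz]; group
          _ = _ := by rw [hy2, hw, zpow_add, zpow_natCast, zpow_add]
    | inv u _ hu =>
      obtain ⟨e, rfl | rfl⟩ := hu
      · exact ⟨-e, Or.inl (zpow_neg _ _).symm⟩
      · refine ⟨e + (2 ^ (k + 1) : ℕ), Or.inr ?_⟩
        rw [mul_inv_rev, inv_eq_of_mul_eq_one_right (show y₀ * (y₀ * w) = 1 by rw [← mul_assoc, hy2]; exact hZ2 w hwZ),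
          ← zpow_neg, ← mul_assoc, hconjz, neg_neg, zpow_add, zpow_natCast, ← hw, mul_assoc]
  have hker : ∀ g ∈ Q, g ∈ C' i₀ → g = 1 := by
    intro g hg hgC
    have h1 := (QuotientGroup.eq_one_iff g).2 hgC
    obtain ⟨e, rfl | rfl⟩ := hQmem g hg
    · rw [QuotientGroup.mk_zpow] at h1
      obtain ⟨c, rfl⟩ := orderOf_dvd_iff_zpow_eq_one.2 h1
      rw [ha, zpow_mul, zpow_natCast, ha2, one_zpow]
    · rw [QuotientGroup.mk_mul, mul_eq_one_iff_eq_inv, QuotientGroup.mk_zpow] at h1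
      exact absurd (h1 ▸ inv_mem (zpow_mem (Subgroup.mem_zpowers _) e)) hy₀
  have hsurj : ∀ q : S ⧸ C' i₀, ∃ g ∈ Q, QuotientGroup.mk g = q := by
    intro q
    by_cases hq : q ∈ Subgroup.zpowers (a₀ : S ⧸ C' i₀)
    · obtain ⟨e, rfl⟩ := hq
      exact ⟨a₀ ^ e, zpow_mem haQ e, QuotientGroup.mk_zpow _ _ _⟩
    · have : (y₀ : S ⧸ C' i₀)⁻¹ * q ∈ Subgroup.zpowers (a₀ : S ⧸ C' i₀) := by
        rw [Subgroup.mul_mem_iff_of_index_two hidx, inv_mem_iff]
        exact iff_of_false hy₀ hq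
      obtain ⟨e, he⟩ := this
      refine ⟨y₀ * a₀ ^ e, mul_mem hyQ (zpow_mem haQ e), ?_⟩
      rw [QuotientGroup.mk_mul, QuotientGroup.mk_zpow]
      exact (congrArg ((y₀ : S ⧸ C' i₀) * ·) he).trans (mul_inv_cancel_left _ _)
  let f : ↥Q →* S ⧸ C' i₀ := (QuotientGroup.mk' (C' i₀)).comp Q.subtype
  have hf : Function.Bijective f := by
    refine ⟨(injective_iff_map_eq_one f).2 fun g hg => Subtype.ext (hker g g.2 ((QuotientGroup.eq_one_iff _).1 hg)), fun q => ?_⟩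
    obtain ⟨g, hg, rfl⟩ := hsurj q
    exact ⟨⟨g, hg⟩, rfl⟩
  refine ⟨C' i₀, Q, ⟨le_top, le_top, fun u hu v _ => (Subgroup.mem_center_iff.1 (hC'Z i₀ hu) v).symm, ?_, ?_⟩,
    ⟨⟨⟨fun u v => Subtype.ext (Subgroup.mem_center_iff.1 (hC'Z i₀ v.2) u)⟩⟩, fun u hu => by rw [pow_two]; exact hZ2 u (hC'Z i₀ hu)⟩, ?_, ?_⟩
  · rw [Subgroup.eq_bot_iff_forall]
    exact fun g hg => hker g hg.2 hg.1
  · rw [eq_top_iff]
    intro g _
    obtain ⟨q, hq, e⟩ := hsurj (QuotientGroup.mk g)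
    rw [show g = q * (q⁻¹ * g) by group]
    exact mul_mem (Subgroup.mem_sup_right hq) (Subgroup.mem_sup_left (QuotientGroup.eq.1 e))
  · intro h
    refine hna ⟨⟨fun u v => ?_⟩⟩
    obtain ⟨u, rfl⟩ := hf.2 u
    obtain ⟨v, rfl⟩ := hf.2 v
    rw [← map_mul, ← map_mul, h.is_comm.comm u v]
  · obtain ⟨x', rfl⟩ := hf.2 x
    rw [orderOf_injective f hf.1] at hx
    exact ⟨x', hx, fun v hv => hf.1 (hux (f v) (show orderOf (f v) = 2 by rwa [orderOf_injective f hf.1]))⟩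

end Cfsg.Agent.S3201
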