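import Cfsg.Statements.S3202
import Mathlib
import Cfsg.Agent.Lib.UniqueInvolution.Basic

set_option autoImplicit false
open Cfsg
open scoped commutatorElement

namespace Cfsg.Agent.S3202

/-- Let S be a finite 2-group of 2-rank exactly 2 and D a maximal subgroup of the centre of S such that S/D is a non-abelian group with exactly one involution (a generalized quaternion group). Then S has a nontrivial cyclic characteristic subgroup. -/
theorem result {S : Type*} [Group S]
    [Finite S] (hS : IsPGroup 2 S) (hr2 : Cfsg.PRankLE 2 2 S) (hr1 : ¬ Cfsg.PRankLE 2 1 S)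
    (D : Subgroup ↥(Subgroup.center S)) (hD : IsCoatom D)
    (hq : ∃ (_ : (D.map (Subgroup.center S).subtype).Normal),
      ¬ IsMulCommutative (S ⧸ D.map (Subgroup.center S).subtype) ∧
      ∃! x : S ⧸ D.map (Subgroup.center S).subtype, orderOf x = 2) :
    ∃ C : Subgroup S, C ≠ ⊥ ∧ IsCyclic ↥C ∧ C.Characteristic := by
  obtain ⟨hDn, hna, x₀, hx₀, hux⟩ := hq
  set D' := D.map (Subgroup.center S).subtype with hD'
  obtain ⟨m, a, hm, ha, hidx, hout⟩ := Cfsg.Agent.Lib.UniqueInvolution.exists_quaternion_gen (hS.to_quotient D')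
    (fun b c hb hc => (hux b hb).trans (hux c hc).symm) hna
  have hDc : ∀ d ∈ D', ∀ g : S, g * d = d * g := fun d hd g =>
    Subgroup.mem_center_iff.1 (Subgroup.map_subtype_le D hd) g
  obtain ⟨a₀, rfl⟩ := QuotientGroup.mk_surjective a
  let T : Set S := (D' : Set S) ∪ {a₀}
  set M := Subgroup.closure T with hM
  have hMab : IsMulCommutative M := by
    refine Subgroup.isMulCommutative_closure ?_
    rintro u (hu | rfl) v (hv | rfl)
    · exact hDc v hv u
    · exact (hDc u hu _).symm
    · exact hDc v hv _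
    · rfl
  have hMmem : ∀ g : S, (QuotientGroup.mk g : S ⧸ D') ∈ Subgroup.zpowers (QuotientGroup.mk a₀ : S ⧸ D') → g ∈ M := by
    rintro g ⟨k, hk⟩
    have h1 : (QuotientGroup.mk (a₀ ^ k) : S ⧸ D') = QuotientGroup.mk g := by rw [QuotientGroup.mk_zpow]; exact hk
    obtain ⟨d, hd, rfl⟩ : ∃ d ∈ D', g = a₀ ^ k * d := ⟨_, QuotientGroup.eq.1 h1, by group⟩
    exact mul_mem (zpow_mem (Subgroup.subset_closure (show a₀ ∈ T from Or.inr rfl)) k)
      (Subgroup.subset_closure (show d ∈ T from Or.inl hd))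
  obtain ⟨y, hy⟩ : ∃ y : S, (QuotientGroup.mk y : S ⧸ D') ∉ Subgroup.zpowers (QuotientGroup.mk a₀ : S ⧸ D') := by
    by_contra h
    push Not at h
    have : Subgroup.zpowers (QuotientGroup.mk a₀ : S ⧸ D') = ⊤ :=
      eq_top_iff.2 fun q _ => by obtain ⟨g, rfl⟩ := QuotientGroup.mk_surjective q; exact h g
    rw [this, Subgroup.index_top] at hidx
    omega
  have hgen : ∀ g : S, g ∈ M ∨ y⁻¹ * g ∈ M := fun g => by
    by_cases hg : (QuotientGroup.mk g : S ⧸ D') ∈ Subgroup.zpowers (QuotientGroup.mk a₀ : S ⧸ D')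
    · exact Or.inl (hMmem g hg)
    · refine Or.inr (hMmem _ ?_)
      rw [QuotientGroup.mk_mul, QuotientGroup.mk_inv, Subgroup.mul_mem_iff_of_index_two hidx, inv_mem_iff]
      exact iff_of_false hy hg
  have hMn : ∀ u ∈ M, y * u * y⁻¹ ∈ M := by
    intro u hu
    refine hMmem _ ?_
    rw [QuotientGroup.mk_mul, QuotientGroup.mk_mul, QuotientGroup.mk_inv]
    refine (Subgroup.normal_of_index_eq_two hidx).conj_mem _ ?_ _
    induction hu using Subgroup.closure_induction with
    | mem v hv =>
      rcases hv with hv | rfl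
      · rw [(QuotientGroup.eq_one_iff v).2 hv]; exact one_mem _
      · exact Subgroup.mem_zpowers _
    | one => exact one_mem _
    | mul u v _ _ h1 h2 => rw [QuotientGroup.mk_mul]; exact mul_mem h1 h2
    | inv u _ h => rw [QuotientGroup.mk_inv]; exact inv_mem h
  have hcomm : ∀ u ∈ M, ∀ v ∈ M, u * v = v * u := fun u hu v hv =>
    congrArg Subtype.val (hMab.is_comm.comm ⟨u, hu⟩ ⟨v, hv⟩)
  set c := a₀ * (y * a₀⁻¹ * y⁻¹) with hc
  have ha₀M : a₀ ∈ M := Subgroup.subset_closure (Or.inr rfl)
  have hcM : c ∈ M := mul_mem ha₀M (hMn _ (inv_mem ha₀M))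
  -- `u ↦ u (y u⁻¹ y⁻¹)` maps `M` into `⟨c⟩`
  have hh : ∀ u ∈ M, u * (y * u⁻¹ * y⁻¹) ∈ Subgroup.zpowers c := by
    intro u hu
    induction hu using Subgroup.closure_induction with
    | mem v hv =>
      rcases hv with hv | rfl
      · rw [hDc _ (inv_mem hv) y, mul_inv_cancel_right, mul_inv_cancel]; exact one_mem _
      · exact Subgroup.mem_zpowers c
    | one => simp
    | mul u v hu hv h1 h2 =>
      have : u * v * (y * (u * v)⁻¹ * y⁻¹) = (u * (y * u⁻¹ * y⁻¹)) * (v * (y * v⁻¹ * y⁻¹)) := by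
        have e := hcomm _ (mul_mem hv (hMn _ (inv_mem hv))) _ (hMn _ (inv_mem hu))
        calc u * v * (y * (u * v)⁻¹ * y⁻¹) = u * ((v * (y * v⁻¹ * y⁻¹)) * (y * u⁻¹ * y⁻¹)) := by group
          _ = u * ((y * u⁻¹ * y⁻¹) * (v * (y * v⁻¹ * y⁻¹))) := by rw [e]
          _ = _ := by group
      rw [this]; exact mul_mem h1 h2
    | inv u hu h =>
      have e := hcomm _ hu _ (hMn _ (inv_mem hu))
      have : u⁻¹ * (y * u⁻¹⁻¹ * y⁻¹) = (u * (y * u⁻¹ * y⁻¹))⁻¹ := by
        rw [e]; group
      rw [this]; exact inv_mem h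
  have hCn : (Subgroup.zpowers c).Normal := by
    have hy' : y * c * y⁻¹ ∈ Subgroup.zpowers c := by
      have := mul_mem (inv_mem (hh c hcM)) (Subgroup.mem_zpowers c)
      convert this using 1
      group
    have hconjc : ∀ g : S, g * c * g⁻¹ ∈ Subgroup.zpowers c := by
      intro g
      rcases hgen g with h | h
      · rw [hcomm g h c hcM, mul_inv_cancel_right]; exact Subgroup.mem_zpowers c
      · have := hcomm _ h c hcM
        rwa [show g * c * g⁻¹ = y * ((y⁻¹ * g) * c) * (y⁻¹ * g)⁻¹ * y⁻¹ by group, this,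
          show y * (c * (y⁻¹ * g)) * (y⁻¹ * g)⁻¹ * y⁻¹ = y * c * y⁻¹ by group]
    refine ⟨fun u hu g => ?_⟩
    obtain ⟨k, rfl⟩ := hu
    show g * c ^ k * g⁻¹ ∈ _
    rw [← conj_zpow]
    exact zpow_mem (hconjc g) k
  refine ⟨commutator S, ?_, ?_, inferInstance⟩
  · intro h
    refine hna ⟨⟨fun u v => ?_⟩⟩
    obtain ⟨u, rfl⟩ := QuotientGroup.mk_surjective u
    obtain ⟨v, rfl⟩ := QuotientGroup.mk_surjective v
    have : ⁅u, v⁆ ∈ commutator S :=
      Subgroup.commutator_mem_commutator (Subgroup.mem_top u) (Subgroup.mem_top v)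
    rw [h, Subgroup.mem_bot, commutatorElement_eq_one_iff_mul_comm] at this
    rw [← QuotientGroup.mk_mul, ← QuotientGroup.mk_mul, this]
  · have hle : commutator S ≤ Subgroup.zpowers c := by
      let p := QuotientGroup.mk' (Subgroup.zpowers c)
      have hU : ∀ u ∈ (p '' (T ∪ {y})), ∀ v ∈ (p '' (T ∪ {y})), u * v = v * u := by
        have hya : ∀ v ∈ T, p y * p v = p v * p y := by
          intro v hv
          rw [← map_mul, ← map_mul]
          refine QuotientGroup.eq.2 ?_
          have := hh _ (inv_mem (Subgroup.subset_closure hv))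
          rw [inv_inv] at this
          convert hCn.conj_mem _ (inv_mem this) y⁻¹ using 1
          group
        rintro _ ⟨u, hu, rfl⟩ _ ⟨v, hv, rfl⟩
        rcases hu with hu | rfl <;> rcases hv with hv | rfl
        · rw [← map_mul, ← map_mul, hcomm u (Subgroup.subset_closure hu) v (Subgroup.subset_closure hv)]
        · exact (hya u hu).symm
        · exact hya v hv
        · rfl
      have htop : Subgroup.closure (p '' (T ∪ {y})) = ⊤ := by
        rw [← MonoidHom.map_closure, eq_top_iff]
        intro q _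
        obtain ⟨g, rfl⟩ := QuotientGroup.mk'_surjective (Subgroup.zpowers c) q
        refine ⟨g, ?_, rfl⟩
        have hMle : M ≤ Subgroup.closure (T ∪ {y}) := Subgroup.closure_mono Set.subset_union_left
        rcases hgen g with h | h
        · exact hMle h
        · rw [← mul_inv_cancel_left y g]
          exact mul_mem (Subgroup.subset_closure (Or.inr rfl)) (hMle h)
      have hab := Subgroup.isMulCommutative_closure hU
      rw [htop] at hab
      rw [commutator_def, Subgroup.commutator_le]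
      intro u _ v _
      rw [← QuotientGroup.eq_one_iff, ← QuotientGroup.mk'_apply, map_commutatorElement,
        commutatorElement_eq_one_iff_mul_comm]
      exact congrArg Subtype.val (hab.is_comm.comm ⟨p u, Subgroup.mem_top _⟩ ⟨p v, Subgroup.mem_top _⟩)
    exact isCyclic_of_injective (Subgroup.inclusion hle) (Subgroup.inclusion_injective hle)

end Cfsg.Agent.S3202
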