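import Cfsg.Statements.S3208
import Mathlib
-- import your own Cfsg.Agent.* helpers here

set_option autoImplicit false
open Cfsg

namespace Cfsg.Agent.S3208

/-- Let j be an involution of a finite group G, H a subgroup of G, and T a Sylow 2-subgroup of H ∩ C_G(j) containing j such that ⟨j⟩ is a characteristic subgroup of T. Then T is a Sylow 2-subgroup of H. -/
theorem result {G : Type*} [Group G] [Finite G]
    (j : G) (hj : orderOf j = 2) (H T : Subgroup G) (hT : T ≤ H ⊓ Subgroup.centralizer ({j} : Set G)) (h2 : IsPGroup 2 ↥T)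
    (hSyl : ¬ 2 ∣ T.relIndex (H ⊓ Subgroup.centralizer ({j} : Set G))) (hjT : j ∈ T)
    (hchar : ((Subgroup.zpowers j).subgroupOf T).Characteristic) :
    ¬ 2 ∣ T.relIndex H := by
  haveI : Fact (Nat.Prime 2) := ⟨Nat.prime_two⟩
  have hTH : T ≤ H := hT.trans inf_le_left
  obtain ⟨P, hP⟩ := (h2.of_equiv (Subgroup.subgroupOfEquivOfLe hTH).symm).exists_le_sylow
  set S : Subgroup G := (P : Subgroup H).map H.subtype with hSdef
  have hTS : T ≤ S := fun a ha => ⟨⟨a, hTH ha⟩, hP (Subgroup.mem_subgroupOf.2 ha), rfl⟩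
  have hSH : S ≤ H := Subgroup.map_subtype_le _
  have hS2 : IsPGroup 2 S := P.2.map _
  have hnormT : ∀ s ∈ S, s ∈ Subgroup.normalizer (T : Set G) → s ∈ T := by
    intro s hs hsn
    have hjfix : s * j * s⁻¹ = j := by
      have hφ := hchar.fixed ((Subgroup.normalizerMonoidHom T) ⟨s, hsn⟩)
      have h1 : (⟨j, hjT⟩ : T) ∈ ((Subgroup.zpowers j).subgroupOf T) :=
        Subgroup.mem_subgroupOf.2 (Subgroup.mem_zpowers j)
      rw [← hφ] at h1
      have h1' : s * j * s⁻¹ ∈ Subgroup.zpowers j := by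
        simpa [Subgroup.mem_subgroupOf] using h1
      obtain ⟨k, hk⟩ := Subgroup.mem_zpowers_iff.1 h1'
      rw [← zpow_mod_orderOf, hj] at hk
      rcases Int.emod_two_eq_zero_or_one k with h0 | h0
      · simp [h0] at hk
        rw [eq_comm, mul_inv_eq_one] at hk
        simp at hk
        simp [hk] at hj
      · simp [h0] at hk
        exact hk.symm
    have hsC : s ∈ Subgroup.centralizer ({j} : Set G) := by
      rw [Subgroup.mem_centralizer_singleton_iff]
      exact mul_inv_eq_iff_eq_mul.1 hjfix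
    set U := T ⊔ Subgroup.zpowers s with hU
    have hUS : U ≤ S := sup_le hTS (Subgroup.zpowers_le.2 hs)
    have hUC : U ≤ H ⊓ Subgroup.centralizer ({j} : Set G) :=
      sup_le hT (Subgroup.zpowers_le.2 ⟨hSH hs, hsC⟩)
    have hUp : IsPGroup 2 U := hS2.to_le hUS
    obtain ⟨k, hk⟩ := IsPGroup.iff_card.1 hUp
    have hd : T.relIndex U ∣ T.relIndex (H ⊓ Subgroup.centralizer ({j} : Set G)) :=
      ⟨_, (Subgroup.relIndex_mul_relIndex T U _ le_sup_left hUC).symm⟩
    have hd2 : T.relIndex U ∣ 2 ^ k := hk ▸ Subgroup.relIndex_dvd_card _ _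
    obtain ⟨i, _, hi⟩ := (Nat.dvd_prime_pow Nat.prime_two).1 hd2
    rcases i with _ | i
    · rw [pow_zero, Subgroup.relIndex_eq_one] at hi
      exact hi ((le_sup_right : _ ≤ U) (Subgroup.mem_zpowers s))
    · exact absurd ((dvd_pow_self 2 (Nat.succ_ne_zero i)).trans (hi ▸ hd)) hSyl
  have hTeq : T = S := by
    refine le_antisymm hTS fun s hs => ?_
    haveI : Group.IsNilpotent S := hS2.isNilpotent
    have htop := normalizerCondition_iff_only_full_group_self_normalizing.1
      (Group.normalizerCondition_of_isNilpotent (G := S)) (T.subgroupOf S) (le_antisymm (fun a ha => ?_) Subgroup.le_normalizer)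
    · exact Subgroup.mem_subgroupOf.1 (htop.symm ▸ Subgroup.mem_top (⟨s, hs⟩ : S))
    · refine Subgroup.mem_subgroupOf.2 (hnormT a.1 a.2 ?_)
      rw [Subgroup.mem_normalizer_iff] at ha ⊢
      intro h
      constructor
      · intro hh
        exact Subgroup.mem_subgroupOf.1 ((ha ⟨h, hTS hh⟩).1 (Subgroup.mem_subgroupOf.2 hh))
      · intro hh
        have hh' : h ∈ S := by
          have := S.mul_mem (S.mul_mem (S.inv_mem a.2) (hTS hh)) a.2
          simpa [mul_assoc] using this
        exact Subgroup.mem_subgroupOf.1 ((ha ⟨h, hh'⟩).2 (Subgroup.mem_subgroupOf.2 hh))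
  rw [hTeq, Subgroup.relIndex, Subgroup.subgroupOf,
    Subgroup.comap_map_eq_self_of_injective H.subtype_injective]
  exact P.not_dvd_index

end Cfsg.Agent.S3208
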