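import Cfsg.Statements.S3209
import Mathlib
import Cfsg.Agent.Lib.SL2Central.Basic
-- import your own Cfsg.Agent.* helpers here

set_option autoImplicit false
open Cfsg

namespace Cfsg.Agent.S3209

open Cfsg.Agent.Lib.SL2 Cfsg.Agent.Lib.SL2Central

variable {G : Type*} [Group G] {F : Type*} [Field F] [Fintype F]

theorem hom_data (hF : Odd (Fintype.card F)) (L L' : Subgroup G) (e : ↥L ≃* SLtwo F)
    {j : G} (hj : orderOf j = 2) (hm : L ⊓ L' = Subgroup.zpowers j) :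
    ∃ f : SLtwo F →* G, Function.Injective f ∧ f.range = L ∧ f (-1) = j ∧ (2 : F) ≠ 0 ∧
      ∀ a, f a ∈ L' → a ∈ Subgroup.center (SLtwo F) := by
  have h2 := two_ne_zero_iff_odd.2 hF
  refine ⟨L.subtype.comp e.symm.toMonoidHom, Subtype.coe_injective.comp e.symm.injective, ?_, ?_, h2, ?_⟩
  · rw [MonoidHom.range_comp, MonoidHom.range_eq_top.2 e.symm.surjective, ← MonoidHom.range_eq_map,
      Subgroup.range_subtype]
  all_goals
    have hjL : j ∈ L := (hm.symm.le (Subgroup.mem_zpowers j)).1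
    have hje : e ⟨j, hjL⟩ = -1 := by
      apply eq_neg_one_of_mul_self_eq_one h2
      · rw [← map_mul, ← map_one e]
        congr 1
        apply Subtype.ext
        have := pow_orderOf_eq_one j
        rw [hj, pow_two] at this
        simpa using this
      · intro h
        have : (⟨j, hjL⟩ : L) = 1 := e.injective (h.trans (map_one e).symm)
        rw [Subtype.ext_iff, Subgroup.coe_one] at this
        rw [show j = 1 from this, orderOf_one] at hj; omega
    have hje' : (e.symm (-1) : G) = j := by rw [← hje, MulEquiv.symm_apply_apply]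
  · exact hje'
  · intro a ha
    have h : (e.symm a : G) ∈ L ⊓ L' := ⟨(e.symm a).2, ha⟩
    rw [hm] at h
    obtain ⟨k, hk⟩ := Subgroup.mem_zpowers_iff.1 h
    have : a = (-1 : SLtwo F) ^ k := by
      apply e.symm.injective
      apply Subtype.ext
      rw [← hk, map_zpow, Subgroup.coe_zpow, hje']
    rw [this]
    exact Subgroup.zpow_mem _ neg_one_mem_center k

theorem mem_sup_exists {L L' : Subgroup G} (hc : ∀ x ∈ L, ∀ y ∈ L', x * y = y * x) {w : G}
    (hw : w ∈ L ⊔ L') : ∃ a ∈ L, ∃ b ∈ L', a * b = w := by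
  have h : L' ≤ Subgroup.normalizer (L : Set G) :=
    (Subgroup.le_centralizer_iff.1 fun x hx => Subgroup.mem_centralizer_iff.2 fun y hy => (hc x hx y hy).symm).trans
      (fun u hu => by
        rw [Subgroup.mem_normalizer_iff]
        intro h
        rw [Subgroup.mem_centralizer_iff] at hu
        constructor
        · intro hh; rw [← hu h hh]; simpa using hh
        · intro hh
          have h' := hu _ hh
          have : h = u * h * u⁻¹ := by
            have h'' : u * h * u⁻¹ * u = u * (u * h * u⁻¹) := h'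
            rw [inv_mul_cancel_right] at h''
            exact mul_left_cancel h''
          rw [this]; exact hh)
  have hw' : w ∈ ((L ⊔ L' : Subgroup G) : Set G) := hw
  rw [Subgroup.coe_mul_of_right_le_normalizer_left L L' h] at hw'
  exact Set.mem_mul.1 hw'

theorem weyl_notMem {K : Type*} [Field K] : (weyl : SLtwo K) ∉ Subgroup.center (SLtwo K) := by
  intro h
  have h' := ((mem_center_iff_entries _).1 h).1
  simp [weyl, ofEntries] at h'

theorem hom_sq_cases {K : Type*} [Field K] (k2 : (2 : K) ≠ 0) (f : SLtwo K →* G) {j : G}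
    (hf : f (-1) = j) (c : SLtwo K) (hc : c * c = 1) : f c = 1 ∨ f c = j := by
  rcases eq_or_ne c 1 with rfl | hne
  · exact Or.inl (map_one f)
  · exact Or.inr (by rw [eq_neg_one_of_mul_self_eq_one k2 hc hne, hf])


/-- Let L₁ ≅ SL₂(q₁) and L₂ ≅ SL₂(q₂), q₁ and q₂ odd, be elementwise-commuting subgroups of a finite group meeting in ⟨j⟩ for an involution j. Then L₁L₂ has exactly two conjugacy classes of involutions: the central involution j, and one further class (there is an involution x ≠ j in L₁L₂, and every involution of L₁L₂ other than j is conjugate to x by an element of L₁L₂). -/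
theorem result {G : Type*} [Group G] [Finite G]
    {F₁ : Type*} [Field F₁] [Fintype F₁] {F₂ : Type*} [Field F₂] [Fintype F₂]
    (hF₁ : Odd (Fintype.card F₁)) (hF₂ : Odd (Fintype.card F₂)) (L₁ L₂ : Subgroup G)
    (e₁ : ↥L₁ ≃* Matrix.SpecialLinearGroup (Fin 2) F₁) (e₂ : ↥L₂ ≃* Matrix.SpecialLinearGroup (Fin 2) F₂)
    (hc : ∀ x ∈ L₁, ∀ y ∈ L₂, x * y = y * x) (j : G) (hj : orderOf j = 2) (hm : L₁ ⊓ L₂ = Subgroup.zpowers j) :
    ∃ x ∈ L₁ ⊔ L₂, orderOf x = 2 ∧ x ≠ j ∧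
      ∀ y ∈ L₁ ⊔ L₂, orderOf y = 2 → y = j ∨ ∃ g ∈ L₁ ⊔ L₂, g * x * g⁻¹ = y := by
  obtain ⟨f₁, i₁, r₁, j₁, h2₁, z₁⟩ := hom_data hF₁ L₁ L₂ e₁ hj hm
  obtain ⟨f₂, i₂, r₂, j₂, h2₂, z₂⟩ := hom_data hF₂ L₂ L₁ e₂ hj (inf_comm L₁ L₂ ▸ hm)
  have m₁ : ∀ a, f₁ a ∈ L₁ := fun a => r₁ ▸ ⟨a, rfl⟩
  have m₂ : ∀ b, f₂ b ∈ L₂ := fun b => r₂ ▸ ⟨b, rfl⟩
  have cm : ∀ a b, f₁ a * f₂ b = f₂ b * f₁ a := fun a b => hc _ (m₁ a) _ (m₂ b)
  have hjj : j * j = 1 := by
    have := pow_orderOf_eq_one j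
    rwa [hj, pow_two] at this
  have hsq : ∀ a b, f₁ a * f₂ b * (f₁ a * f₂ b) = f₁ (a * a) * f₂ (b * b) := fun a b => by
    rw [map_mul, map_mul, show f₁ a * f₂ b * (f₁ a * f₂ b) = f₁ a * (f₂ b * f₁ a) * f₂ b by group, ← cm]
    group
  have hmemY : ∀ a b, f₁ a * f₂ b ∈ L₁ ⊔ L₂ := fun a b =>
    mul_mem ((le_sup_left : L₁ ≤ L₁ ⊔ L₂) (m₁ a)) ((le_sup_right : L₂ ≤ L₁ ⊔ L₂) (m₂ b))
  have hwc : (weyl : SLtwo F₁) ∉ Subgroup.center (SLtwo F₁) := weyl_notMem
  set x := f₁ weyl * f₂ weyl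
  have hx1 : ∀ c : SLtwo F₂, x ≠ f₂ c := by
    intro c h
    refine hwc (z₁ _ ?_)
    rw [eq_mul_inv_of_mul_eq h]
    exact mul_mem (m₂ _) (inv_mem (m₂ _))
  refine ⟨x, hmemY _ _, ?_, fun h => hx1 (-1) (h.trans j₂.symm), ?_⟩
  · refine orderOf_eq_prime ?_ (fun h => hx1 1 (h.trans (map_one f₂).symm))
    rw [pow_two, hsq, weyl_mul_weyl, weyl_mul_weyl, j₁, j₂, hjj]
  · intro y hy hy2
    obtain ⟨u, hu, v, hv, rfl⟩ := mem_sup_exists hc hy
    obtain ⟨a, rfl⟩ : u ∈ f₁.range := r₁.symm ▸ hu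
    obtain ⟨b, rfl⟩ : v ∈ f₂.range := r₂.symm ▸ hv
    have h1 : f₁ (a * a) * f₂ (b * b) = 1 := by
      have := pow_orderOf_eq_one (f₁ a * f₂ b)
      rwa [hy2, pow_two, hsq] at this
    have ha : a * a ∈ Subgroup.center (SLtwo F₁) :=
      z₁ _ (by rw [eq_inv_of_mul_eq_one_left h1]; exact inv_mem (m₂ _))
    rcases (mem_center_iff_eq _).1 ha with h | h
    · left
      rw [h, map_one, one_mul] at h1
      have hb : b * b = 1 := i₂ (h1.trans (map_one f₂).symm)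
      have hne : f₁ a * f₂ b ≠ 1 := fun h' => by rw [h', orderOf_one] at hy2; omega
      rcases hom_sq_cases h2₁ f₁ j₁ a h with e | e <;> rcases hom_sq_cases h2₂ f₂ j₂ b hb with e' | e' <;>
        rw [e, e'] at hne ⊢ <;> simp_all
    · right
      rw [h, j₁] at h1
      have hb : b * b = -1 := i₂ (by
        rw [j₂]; exact mul_left_cancel (h1.trans hjj.symm))
      obtain ⟨ga, hga⟩ := isConj_iff.1 (isConj_weyl_of_sq h2₁ h).symm
      obtain ⟨gb, hgb⟩ := isConj_iff.1 (isConj_weyl_of_sq h2₂ hb).symm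
      refine ⟨f₁ ga * f₂ gb, hmemY _ _, ?_⟩
      rw [← hga, ← hgb]
      simp only [map_mul, map_inv]
      have c1 : f₂ gb * f₁ weyl = f₁ weyl * f₂ gb := (cm _ _).symm
      have c2 : f₂ gb * f₂ weyl * (f₂ gb)⁻¹ * (f₁ ga)⁻¹ = (f₁ ga)⁻¹ * (f₂ gb * f₂ weyl * (f₂ gb)⁻¹) := by
        rw [← map_inv f₁, ← map_inv f₂, ← map_mul, ← map_mul, cm]
      calc f₁ ga * f₂ gb * (f₁ weyl * f₂ weyl) * (f₁ ga * f₂ gb)⁻¹
          = f₁ ga * (f₂ gb * f₁ weyl) * f₂ weyl * (f₂ gb)⁻¹ * (f₁ ga)⁻¹ := by group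
        _ = f₁ ga * f₁ weyl * (f₂ gb * f₂ weyl * (f₂ gb)⁻¹ * (f₁ ga)⁻¹) := by rw [c1]; group
        _ = _ := by rw [c2]; group

end Cfsg.Agent.S3209
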