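import Cfsg.Statements.S3210
import Mathlib
import Cfsg.Agent.Lib.SL2Central.Basic
-- import your own Cfsg.Agent.* helpers here

set_option autoImplicit false
open Cfsg

namespace Cfsg.Agent.S3210

open Cfsg.Agent.Lib.SL2 Cfsg.Agent.Lib.SL2Central

variable {G : Type*} [Group G] {F : Type*} [Field F] [Fintype F]

theorem hom_data (hF : Odd (Fintype.card F)) (L L' : Subgroup G) (e : ↥L ≃* SLtwo F)
    {j : G} (hj : orderOf j = 2) (hm : L ⊓ L' = Subgroup.zpowers j) :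
    ∃ f : SLtwo F →* G, Function.Injective f ∧ f.range = L ∧ f (-1) = j ∧ (2 : F) ≠ 0 ∧
      ∀ a, f a ∈ L' → a ∈ Subgroup.center (SLtwo F) := by
  have h2 := two_ne_zero_iff_odd.2 hF
  refine ⟨L.subtype.comp e.symm.toMonoidHom, Subtype.coe_injective.comp e.symm.injective, ?_, ?_, h2, ?_⟩
  · rw [MonoidHom.range_comp, MonoidHom.range_eq_top.2 e.symm.surjective, ← MonoidHom.range_eq_map,
      Subgroup.range_subtype]
  all_goals
    have hjL : j ∈ L := (hm.symm.le (Subgroup.mem_zpowers j)).1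
    have hje : e ⟨j, hjL⟩ = -1 := by
      apply eq_neg_one_of_mul_self_eq_one h2
      · rw [← map_mul, ← map_one e]
        congr 1
        apply Subtype.ext
        have := pow_orderOf_eq_one j
        rw [hj, pow_two] at this
        simpa using this
      · intro h
        have : (⟨j, hjL⟩ : L) = 1 := e.injective (h.trans (map_one e).symm)
        rw [Subtype.ext_iff, Subgroup.coe_one] at this
        rw [show j = 1 from this, orderOf_one] at hj; omega
    have hje' : (e.symm (-1) : G) = j := by rw [← hje, MulEquiv.symm_apply_apply]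
  · exact hje'
  · intro a ha
    have h : (e.symm a : G) ∈ L ⊓ L' := ⟨(e.symm a).2, ha⟩
    rw [hm] at h
    obtain ⟨k, hk⟩ := Subgroup.mem_zpowers_iff.1 h
    have : a = (-1 : SLtwo F) ^ k := by
      apply e.symm.injective
      apply Subtype.ext
      rw [← hk, map_zpow, Subgroup.coe_zpow, hje']
    rw [this]
    exact Subgroup.zpow_mem _ neg_one_mem_center k

theorem mem_sup_exists {L L' : Subgroup G} (hc : ∀ x ∈ L, ∀ y ∈ L', x * y = y * x) {w : G}
    (hw : w ∈ L ⊔ L') : ∃ a ∈ L, ∃ b ∈ L', a * b = w := by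
  have h : L' ≤ Subgroup.normalizer (L : Set G) :=
    (Subgroup.le_centralizer_iff.1 fun x hx => Subgroup.mem_centralizer_iff.2 fun y hy => (hc x hx y hy).symm).trans
      (fun u hu => by
        rw [Subgroup.mem_normalizer_iff]
        intro h
        rw [Subgroup.mem_centralizer_iff] at hu
        constructor
        · intro hh; rw [← hu h hh]; simpa using hh
        · intro hh
          have h' := hu _ hh
          have : h = u * h * u⁻¹ := by
            have h'' : u * h * u⁻¹ * u = u * (u * h * u⁻¹) := h'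
            rw [inv_mul_cancel_right] at h''
            exact mul_left_cancel h''
          rw [this]; exact hh)
  have hw' : w ∈ ((L ⊔ L' : Subgroup G) : Set G) := hw
  rw [Subgroup.coe_mul_of_right_le_normalizer_left L L' h] at hw'
  exact Set.mem_mul.1 hw'

theorem weyl_notMem {K : Type*} [Field K] : (weyl : SLtwo K) ∉ Subgroup.center (SLtwo K) := by
  intro h
  have h' := ((mem_center_iff_entries _).1 h).1
  simp [weyl, ofEntries] at h'

theorem hom_sq_cases {K : Type*} [Field K] (k2 : (2 : K) ≠ 0) (f : SLtwo K →* G) {j : G}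
    (hf : f (-1) = j) (c : SLtwo K) (hc : c * c = 1) : f c = 1 ∨ f c = j := by
  rcases eq_or_ne c 1 with rfl | hne
  · exact Or.inl (map_one f)
  · exact Or.inr (by rw [eq_neg_one_of_mul_self_eq_one k2 hc hne, hf])

theorem proj_dichotomy {K : Type*} [Field K] (k2 : (2 : K) ≠ 0) (f : SLtwo K →* G)
    (fi : Function.Injective f) (A B Y : Subgroup G) (fr : f.range = A) (hAB : A ⊔ B = Y)
    (hcAB : ∀ x ∈ A, ∀ y ∈ B, x * y = y * x)
    (hzB : ∀ a, a ∈ Subgroup.center (SLtwo K) → f a ∈ B)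
    (M M' : Subgroup G) (hMY : M ≤ Y) (hM'Y : M' ≤ Y) (hMn : ∀ y ∈ Y, ∀ m ∈ M, y * m * y⁻¹ ∈ M)
    (hMM' : ∀ x ∈ M, ∀ y ∈ M', x * y = y * x) : M ≤ B ∨ M' ≤ B := by
  by_contra h
  push Not at h
  obtain ⟨m, hmM, hmB⟩ := SetLike.not_le_iff_exists.1 h.1
  obtain ⟨m', hm'M, hm'B⟩ := SetLike.not_le_iff_exists.1 h.2
  obtain ⟨u, hu, v, hv, rfl⟩ := mem_sup_exists hcAB (hAB.symm ▸ hMY hmM)
  obtain ⟨a, rfl⟩ : u ∈ f.range := fr.symm ▸ hu
  have fm : ∀ s, f s ∈ A := fun s => fr ▸ ⟨s, rfl⟩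
  have hAY : A ≤ Y := hAB ▸ le_sup_left
  have hNn : (M.comap f).Normal := ⟨fun s hs t => by
    rw [Subgroup.mem_comap, map_mul, map_mul, map_inv]
    exact hMn _ (hAY (fm t)) _ hs⟩
  have hcom : ∀ g, f (a * g * a⁻¹ * g⁻¹) ∈ M := by
    intro g
    have h1 : f a * v * f g * (f a * v)⁻¹ * (f g)⁻¹ ∈ M := by
      have h3 := M.mul_mem hmM (hMn _ (hAY (fm g)) _ (M.inv_mem hmM))
      simpa [mul_assoc] using h3
    have h2 : f a * v * f g * (f a * v)⁻¹ * (f g)⁻¹ = f (a * g * a⁻¹ * g⁻¹) := by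
      rw [map_mul, map_mul, map_mul, map_inv, map_inv, mul_inv_rev,
        show f a * v * f g = f a * (v * f g) by group, ← hcAB _ (fm g) v hv]
      group
    rwa [h2] at h1
  have hac : a ∉ Subgroup.center (SLtwo K) := fun hac => hmB (mul_mem (hzB a hac) hv)
  obtain ⟨g, hg⟩ := not_forall.1 fun hall => hac (mem_center_of_commutator_central k2 hall)
  obtain ⟨u', hu', v', hv', rfl⟩ := mem_sup_exists hcAB (hAB.symm ▸ hM'Y hm'M)
  obtain ⟨b, rfl⟩ : u' ∈ f.range := fr.symm ▸ hu'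
  refine hm'B (mul_mem (hzB b ?_) hv')
  refine mem_center_of_centralizes_normal k2 (N := M.comap f) (hcom g) hg fun t ht => fi ?_
  have h4 : f t * (f b * v') = f b * v' * f t := hMM' _ ht _ hm'M
  rw [map_mul, map_mul]
  apply mul_right_cancel (b := v')
  rw [show f t * f b * v' = f t * (f b * v') by group, h4,
    mul_assoc (f b) (f t) v', hcAB _ (fm t) v' hv', mul_assoc]

theorem big {K : Type*} [Field K] (k2 : (2 : K) ≠ 0) (f : SLtwo K →* G)
    (fi : Function.Injective f) [Finite G] (A : Subgroup G) (fr : f.range = A) {j : G} (hj : orderOf j = 2)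
    (c : G →* G) (hcinj : Function.Injective c) : ¬ A.map c ≤ Subgroup.zpowers j := by
  intro hA
  have h1 := Subgroup.card_le_of_le hA
  rw [Subgroup.card_map_of_injective hcinj, Nat.card_zpowers, hj] at h1
  have h3 : Function.Injective (fun i : Fin 3 =>
      (⟨f (![1, -1, weyl] i), fr ▸ ⟨_, rfl⟩⟩ : A)) := by
    intro i i' h
    have h' := fi (congrArg Subtype.val h)
    have d1 := neg_one_ne_one k2
    have d2 : (weyl : SLtwo K) ≠ 1 := fun e => weyl_notMem (e ▸ Subgroup.one_mem _)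
    have d3 : (weyl : SLtwo K) ≠ -1 := fun e => weyl_notMem (e ▸ neg_one_mem_center)
    fin_cases i <;> fin_cases i' <;> simp at h' <;>
      first | rfl | (exfalso; first | exact d1 h' | exact d1 h'.symm | exact d2 h' | exact d2 h'.symm | exact d3 h' | exact d3 h'.symm)
  have := Nat.card_le_card_of_injective _ h3
  simp at this
  omega


/-- Let G be a finite group with subgroups L₁ ≅ SL₂(q₁) and L₂ ≅ SL₂(q₂), q₁ and q₂ odd prime powers, which commute elementwise and meet in ⟨j⟩ for an involution j, and suppose L₁L₂ has index 2 in C_G(j). Then every element n of C_G(j) outside L₁L₂ either normalizes both L₁ and L₂, or conjugates L₁ onto L₂; in the second case q₁ = q₂ and there is an element n′ of C_G(j) outside L₁L₂ conjugating L₁ onto L₂ with n′² ∈ ⟨j⟩. -/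
theorem result {G : Type*} [Group G] [Finite G]
    {F₁ : Type*} [Field F₁] [Fintype F₁] {F₂ : Type*} [Field F₂] [Fintype F₂]
    (hF₁ : Odd (Fintype.card F₁)) (hF₂ : Odd (Fintype.card F₂)) (L₁ L₂ : Subgroup G)
    (e₁ : ↥L₁ ≃* Matrix.SpecialLinearGroup (Fin 2) F₁) (e₂ : ↥L₂ ≃* Matrix.SpecialLinearGroup (Fin 2) F₂)
    (hc : ∀ x ∈ L₁, ∀ y ∈ L₂, x * y = y * x) (j : G) (hj : orderOf j = 2) (hm : L₁ ⊓ L₂ = Subgroup.zpowers j)
    (hle : L₁ ⊔ L₂ ≤ Subgroup.centralizer ({j} : Set G)) (hi : (L₁ ⊔ L₂).relIndex (Subgroup.centralizer ({j} : Set G)) = 2) (n : G) (hn : n ∈ Subgroup.centralizer ({j} : Set G)) (hn' : n ∉ L₁ ⊔ L₂) :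
    (L₁.map (MulAut.conj n).toMonoidHom = L₁ ∧ L₂.map (MulAut.conj n).toMonoidHom = L₂) ∨
      (L₁.map (MulAut.conj n).toMonoidHom = L₂ ∧ Fintype.card F₁ = Fintype.card F₂ ∧
        ∃ n' ∈ Subgroup.centralizer ({j} : Set G), n' ∉ L₁ ⊔ L₂ ∧ L₁.map (MulAut.conj n').toMonoidHom = L₂ ∧ n' ^ 2 ∈ Subgroup.zpowers j) := by
  obtain ⟨f₁, i₁, r₁, j₁, h2₁, z₁⟩ := hom_data hF₁ L₁ L₂ e₁ hj hm
  obtain ⟨f₂, i₂, r₂, j₂, h2₂, z₂⟩ := hom_data hF₂ L₂ L₁ e₂ hj (inf_comm L₁ L₂ ▸ hm)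
  set C := Subgroup.centralizer ({j} : Set G)
  set Y := L₁ ⊔ L₂
  have hYn : (Y.subgroupOf C).Normal := Subgroup.normal_of_index_eq_two hi
  set c := (MulAut.conj n).toMonoidHom
  have hcinj : Function.Injective c := (MulAut.conj n).injective
  have hYc : Y.map c = Y := by
    refine Subgroup.eq_of_le_of_card_ge ?_ (Subgroup.card_map_of_injective hcinj).ge
    rintro _ ⟨y, hy, rfl⟩
    exact hYn.conj_mem ⟨y, hle hy⟩ hy ⟨n, hn⟩
  have hcj : c j = j := by
    show n * j * n⁻¹ = j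
    rw [Subgroup.mem_centralizer_singleton_iff.1 hn, mul_inv_cancel_right]
  set M₁ := L₁.map c with hM₁
  set M₂ := L₂.map c with hM₂
  have hM₁Y : M₁ ≤ Y := hYc ▸ Subgroup.map_mono le_sup_left
  have hM₂Y : M₂ ≤ Y := hYc ▸ Subgroup.map_mono le_sup_right
  have hsup : M₁ ⊔ M₂ = Y := by rw [hM₁, hM₂, ← Subgroup.map_sup]; exact hYc
  have hinf : M₁ ⊓ M₂ = Subgroup.zpowers j := by
    rw [hM₁, hM₂, ← Subgroup.map_inf _ _ _ hcinj, hm, MonoidHom.map_zpowers, hcj]
  have hcM : ∀ x ∈ M₁, ∀ y ∈ M₂, x * y = y * x := by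
    rintro _ ⟨x, hx, rfl⟩ _ ⟨y, hy, rfl⟩
    rw [← map_mul, ← map_mul, hc x hx y hy]
  -- conjugates of the factors are normal in `Y`
  have hnormY : ∀ (M M' : Subgroup G), M ⊔ M' = Y → (∀ x ∈ M, ∀ y ∈ M', x * y = y * x) →
      ∀ y ∈ Y, ∀ m ∈ M, y * m * y⁻¹ ∈ M := by
    intro M M' hs hcc y hy m hmm
    rw [← hs] at hy
    obtain ⟨a, ha, b, hb, rfl⟩ := mem_sup_exists hcc hy
    have : a * b * m * (a * b)⁻¹ = a * m * a⁻¹ := by
      rw [mul_inv_rev, mul_assoc a b m, ← hcc m hmm b hb]; group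
    rw [this]
    exact mul_mem (mul_mem ha hmm) (inv_mem ha)
  have hzc₁ : ∀ a, a ∈ Subgroup.center (SLtwo F₁) → f₁ a ∈ L₂ := by
    intro a ha
    rcases (mem_center_iff_eq a).1 ha with rfl | rfl
    · rw [map_one]; exact one_mem _
    · rw [j₁]; exact (hm.symm.le (Subgroup.mem_zpowers j)).2
  have hzc₂ : ∀ a, a ∈ Subgroup.center (SLtwo F₂) → f₂ a ∈ L₁ := by
    intro a ha
    rcases (mem_center_iff_eq a).1 ha with rfl | rfl
    · rw [map_one]; exact one_mem _
    · rw [j₂]; exact (hm.symm.le (Subgroup.mem_zpowers j)).1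
  have hA := proj_dichotomy h2₁ f₁ i₁ L₁ L₂ Y r₁ rfl hc hzc₁ M₁ M₂ hM₁Y hM₂Y (hnormY M₁ M₂ hsup hcM) hcM
  have hB := proj_dichotomy h2₂ f₂ i₂ L₂ L₁ Y r₂ (sup_comm _ _) (fun x hx y hy => (hc y hy x hx).symm) hzc₂ M₁ M₂ hM₁Y hM₂Y (hnormY M₁ M₂ hsup hcM) hcM
  have hfull : ∀ (A B A' B' : Subgroup G), A ⊔ B = Y → A ≤ A' → B ≤ B' → A' ≤ Y → A' ⊓ B' ≤ A ⊓ B →
      (∀ x ∈ A, ∀ y ∈ B, x * y = y * x) → A = A' := by
    intro A B A' B' hs hA' hB' hA'Y hi' hcc
    refine le_antisymm hA' fun x hx => ?_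
    obtain ⟨a, ha, b, hb, rfl⟩ := mem_sup_exists hcc (hs.symm ▸ hA'Y hx)
    have hb' : b ∈ A' := by simpa using A'.mul_mem (A'.inv_mem (hA' ha)) hx
    exact mul_mem ha (hi' ⟨hb', hB' hb⟩).1
  have hL₁Y : L₁ ≤ Y := le_sup_left
  have hL₂Y : L₂ ≤ Y := le_sup_right
  rcases hA with h | h
  · have h' : M₂ ≤ L₁ := hB.resolve_left (fun h' => big h2₁ f₁ i₁ L₁ r₁ hj c hcinj (hm ▸ le_inf h' h))
    have e : M₁ = L₂ := hfull M₁ M₂ L₂ L₁ hsup h h' hL₂Y (by rw [hinf, ← hm, inf_comm]) hcM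
    have e' : M₂ = L₁ := hfull M₂ M₁ L₁ L₂ (sup_comm M₂ M₁ ▸ hsup) h' h hL₁Y
      (by rw [inf_comm M₂, hinf, hm]) (fun x hx y hy => (hcM y hy x hx).symm)
    right
    refine ⟨e, ?_, ?_⟩
    · have hcard : Nat.card L₁ = Nat.card L₂ := by rw [← e, Subgroup.card_map_of_injective hcinj]
      rw [Nat.card_congr e₁.toEquiv, Nat.card_congr e₂.toEquiv, card_SLtwo, card_SLtwo] at hcard
      have q1 : 2 ≤ Fintype.card F₁ := Fintype.one_lt_card
      have q2 : 2 ≤ Fintype.card F₂ := Fintype.one_lt_card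
      have q1' := Nat.pow_le_pow_left q1 2
      have q2' := Nat.pow_le_pow_left q2 2
      rcases lt_trichotomy (Fintype.card F₁) (Fintype.card F₂) with hl | hl | hl
      · exfalso
        have h4 : Fintype.card F₁ ^ 2 < Fintype.card F₂ ^ 2 := Nat.pow_lt_pow_left hl two_ne_zero
        have h5 : Fintype.card F₁ * (Fintype.card F₁ ^ 2 - 1) < Fintype.card F₂ * (Fintype.card F₂ ^ 2 - 1) :=
          Nat.mul_lt_mul_of_lt_of_le hl (by omega) (by omega)
        omega
      · exact hl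
      · exfalso
        have h4 : Fintype.card F₂ ^ 2 < Fintype.card F₁ ^ 2 := Nat.pow_lt_pow_left hl two_ne_zero
        have h5 : Fintype.card F₂ * (Fintype.card F₂ ^ 2 - 1) < Fintype.card F₁ * (Fintype.card F₁ ^ 2 - 1) :=
          Nat.mul_lt_mul_of_lt_of_le hl (by omega) (by omega)
        omega
    · have hn2 : n ^ 2 ∈ Y := by
        have := Subgroup.sq_mem_of_index_two hi (⟨n, hn⟩ : C)
        simpa [Subgroup.mem_subgroupOf] using this
      obtain ⟨a, ha, b, hb, hab⟩ := mem_sup_exists hc hn2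
      set n' := n * a⁻¹ with hn'def
      have haC : a ∈ C := hle (hL₁Y ha)
      have hmap : L₁.map (MulAut.conj n').toMonoidHom = L₂ := by
        rw [hn'def, ← e, hM₁]
        ext x
        constructor
        · rintro ⟨y, hy, rfl⟩
          exact ⟨a⁻¹ * y * a, mul_mem (mul_mem (inv_mem ha) hy) ha, by simp [c, mul_assoc]⟩
        · rintro ⟨y, hy, rfl⟩
          exact ⟨a * y * a⁻¹, mul_mem (mul_mem ha hy) (inv_mem ha), by simp [c, mul_assoc]⟩
      refine ⟨n', mul_mem hn (inv_mem haC), ?_, hmap, ?_⟩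
      · intro h''
        exact hn' (by simpa [hn'def] using mul_mem h'' (hL₁Y ha))
      · have hx : n⁻¹ * a⁻¹ * n ∈ L₂ := by
          have h1 : a⁻¹ ∈ M₂ := e'.symm ▸ inv_mem ha
          obtain ⟨y, hy, hya⟩ := h1
          rw [← hya]
          simpa [c, mul_assoc] using hy
        have h2L : n' ^ 2 ∈ L₂ := by
          have e3 : n' ^ 2 = (a * b) * (n⁻¹ * a⁻¹ * n) * a⁻¹ := by rw [hab, hn'def, pow_two, pow_two]; group
          have e4 : a * b * (n⁻¹ * a⁻¹ * n) * a⁻¹ = b * (n⁻¹ * a⁻¹ * n) := by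
            rw [mul_assoc a b, hc a ha _ (mul_mem hb hx)]; group
          rw [e3, e4]
          exact mul_mem hb hx
        have h1L : n' ^ 2 ∈ L₁ := by
          rw [← hmap] at h2L
          obtain ⟨y, hy, hyn⟩ := h2L
          have hyn' : n' * y * n'⁻¹ = n' ^ 2 := hyn
          have : y = n' ^ 2 := by
            have h9 : n' * y = n' * n' ^ 2 := by rw [mul_inv_eq_iff_eq_mul.1 hyn', ← pow_succ, ← pow_succ']
            exact mul_left_cancel h9
          rwa [← this]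
        rw [← hm]; exact ⟨h1L, h2L⟩
  · have h' : M₁ ≤ L₁ := hB.resolve_right (fun h' => big h2₂ f₂ i₂ L₂ r₂ hj c hcinj (hm ▸ le_inf h' h))
    left
    exact ⟨hfull M₁ M₂ L₁ L₂ hsup h' h hL₁Y (by rw [hinf, hm]) hcM,
      hfull M₂ M₁ L₂ L₁ (sup_comm M₂ M₁ ▸ hsup) h h' hL₂Y (by rw [inf_comm M₂, hinf, ← hm, inf_comm])
        (fun x hx y hy => (hcM y hy x hx).symm)⟩

end Cfsg.Agent.S3210
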