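import Cfsg.Statements.S3213
import Mathlib
-- import your own Cfsg.Agent.* helpers here

set_option autoImplicit false
open Cfsg

namespace Cfsg.Agent.S3213

set_option synthInstance.maxSize 4000 in
theorem sl5_key : ∀ a b c d : ZMod 5, a * d - b * c = 1 →
    !![a, b; c, d] * !![a, b; c, d] * !![a, b; c, d] = 1 → !![a, b; c, d] ≠ 1 →
    ∃ g ∈ [((1 : ZMod 5), (1 : ZMod 5)), (1, 2)],
      (!![a, b; c, d] * (!![g.1, g.2; 0, 1] * !![a, b; c, d] * !![g.1, -g.2; 0, 1])) ^ 2 = -1 ∨
      (!![a, b; c, d] * (!![g.1, g.2; 0, 1] * !![a, b; c, d] * !![g.1, -g.2; 0, 1])) ^ 3 = -1 := by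
  decide +kernel

theorem u5 : (!![(1 : ZMod 5), 1; 0, 1]) ^ 5 = 1 ∧ !![(1 : ZMod 5), 1; 0, 1] ≠ 1 := by decide +kernel

abbrev S5 : Type := Matrix.SpecialLinearGroup (Fin 2) (ZMod 5)

def shear (t : ZMod 5) : S5 := ⟨!![1, t; 0, 1], by simp [Matrix.det_fin_two_of]⟩

theorem shear_inv (t : ZMod 5) : (shear t)⁻¹ = shear (-t) := by
  apply inv_eq_of_mul_eq_one_right
  refine Subtype.ext ?_
  show !![1, t; 0, 1] * !![1, -t; 0, 1] = (1 : Matrix (Fin 2) (Fin 2) (ZMod 5))
  ext i j
  fin_cases i <;> fin_cases j <;>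
    simp [shear, Matrix.SpecialLinearGroup.coe_mul, Matrix.mul_apply, Fin.sum_univ_two, Matrix.of_apply]

variable {F : Type*} [Field F] [Fintype F]

theorem trivial_on_small (hF : Fintype.card F = 3) {W : Type*} [AddCommGroup W] [Module F W]
    [FiniteDimensional F W] (hW : Module.finrank F W ≤ 3) (f : S5 →* Module.End F W) :
    f (shear 1) = 1 := by
  classical
  set b := Module.finBasis F W
  let h : S5 →* GL (Fin (Module.finrank F W)) F :=
    ((LinearMap.toMatrixAlgEquiv b).toAlgHom.toRingHom.toMonoidHom.comp f).toHomUnits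
  have h5 : h (shear 1) ^ 5 = 1 := by
    rw [← map_pow, show shear 1 ^ 5 = 1 from Subtype.ext (by
      rw [Matrix.SpecialLinearGroup.coe_pow]; exact u5.1), map_one]
  have hc : (Nat.card (GL (Fin (Module.finrank F W)) F)).Coprime 5 := by
    rw [Matrix.card_GL_field, hF]
    generalize Module.finrank F W = k at hW ⊢
    interval_cases k <;> norm_num [Fin.prod_univ_succ]
  have h1 : orderOf (h (shear 1)) ∣ Nat.gcd (Nat.card (GL (Fin (Module.finrank F W)) F)) 5 :=
    Nat.dvd_gcd (orderOf_dvd_natCard _) (orderOf_dvd_of_pow_eq_one h5)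
  rw [hc, Nat.dvd_one, orderOf_eq_one_iff] at h1
  have h2 := congrArg (fun u : GL (Fin (Module.finrank F W)) F => (u : Matrix (Fin (Module.finrank F W)) (Fin (Module.finrank F W)) F)) h1
  simp only [h, MonoidHom.coe_toHomUnits, Units.val_one] at h2
  exact (LinearMap.toMatrixAlgEquiv b).injective (h2.trans (map_one _).symm)

theorem three_eq_zero (hF : Fintype.card F = 3) : (3 : F) = 0 := by
  have := Nat.cast_card_eq_zero F
  rw [hF] at this
  exact_mod_cast this

/-- The central involution acts as `-1`. -/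
theorem neg_one_acts (hF : Fintype.card F = 3) {V : Type*} [AddCommGroup V] [Module F V]
    [FiniteDimensional F V] (hV : Module.finrank F V = 4) (ρ : S5 →* Module.End F V)
    (hρ : Function.Injective ρ) (v : V) : ρ (-1) v = -v := by
  set Z := ρ (-1)
  have hZZ : ∀ v, Z (Z v) = v := fun v => by
    show (ρ (-1) * ρ (-1)) v = v
    rw [← map_mul, neg_mul_neg, one_mul, map_one]; rfl
  have hcomm : ∀ g v, Z (ρ g v) = ρ g (Z v) := fun g v => by
    show (ρ (-1) * ρ g) v = (ρ g * ρ (-1)) v
    rw [← map_mul, ← map_mul, neg_one_mul, mul_neg_one]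
  let Wp : Submodule F V := LinearMap.ker (Z - LinearMap.id)
  let Wm : Submodule F V := LinearMap.ker (Z + LinearMap.id)
  by_contra hne
  have hWm : Wm ≠ ⊤ := fun h => hne (by
    have : v ∈ Wm := h ▸ Submodule.mem_top
    simpa [Wm, eq_neg_iff_add_eq_zero] using this)
  have hWp : Wp ≠ ⊤ := fun h => by
    have : Z = 1 := LinearMap.ext fun w => by
      have : w ∈ Wp := h ▸ Submodule.mem_top
      simpa [Wp, sub_eq_zero] using this
    have h1 : ((-1 : S5) : Matrix (Fin 2) (Fin 2) (ZMod 5)) = ((1 : S5) : Matrix (Fin 2) (Fin 2) (ZMod 5)) :=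
      congrArg Subtype.val (hρ (this.trans (map_one ρ).symm))
    exact absurd (congrFun (congrFun h1 0) 0) (by simp; decide)
  have hinvp : ∀ g, ∀ w ∈ Wp, ρ g w ∈ Wp := fun g w hw => by
    simp [Wp, sub_eq_zero] at hw ⊢
    rw [hcomm, hw]
  have hinvm : ∀ g, ∀ w ∈ Wm, ρ g w ∈ Wm := fun g w hw => by
    simp [Wm, ← eq_neg_iff_add_eq_zero] at hw ⊢
    rw [hcomm, hw, map_neg]
  have hfix : ∀ (W : Submodule F V), W ≠ ⊤ → (∀ g, ∀ w ∈ W, ρ g w ∈ W) →
      ∀ w ∈ W, ρ (shear 1) w = w := by
    intro W hW hinv w hw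
    have hlt := Submodule.finrank_lt hW
    have := trivial_on_small hF (W := W) (by omega)
      { toFun := fun g => (ρ g).restrict (hinv g)
        map_one' := by ext u; simp [LinearMap.restrict_apply]
        map_mul' := fun g h => by ext u; simp [LinearMap.restrict_apply] }
    exact congrArg Subtype.val (LinearMap.congr_fun this ⟨w, hw⟩)
  have h1 : ρ (shear 1) = 1 := by
    refine LinearMap.ext fun u => ?_
    have hp : u + Z u ∈ Wp := by simp [Wp, map_add, hZZ, add_comm]
    have hm : u - Z u ∈ Wm := by simp [Wm, map_sub, hZZ]; try abel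
    have e1 := hfix Wp hWp hinvp _ hp
    have e2 := hfix Wm hWm hinvm _ hm
    have h2 : (u + Z u) + (u - Z u) = (2 : F) • u := by rw [two_smul]; abel
    have h3 : ρ (shear 1) ((2 : F) • u) = (2 : F) • u := by
      rw [← h2, map_add, e1, e2]
    rw [map_smul] at h3
    exact smul_right_injective V (show (2 : F) ≠ 0 by
      intro h
      have h4 := three_eq_zero hF
      exact one_ne_zero (α := F) (by linear_combination h4 - h)) h3
  have h4 := congrArg Subtype.val (hρ (h1.trans (map_one ρ).symm))
  exact u5.2 h4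


/-- Let F be the field with 3 elements and K the field with 5 elements. For every injective homomorphism φ from SL₂(K) into the symplectic group Sp₄(F) (4 × 4 matrices g with g J gᵀ = J for the standard alternating matrix J) and every element x of order 3 of SL₂(K), the vectors of F⁴ fixed by φ(x) form a 2-dimensional subspace that is totally isotropic for the alternating form defined by J. -/
theorem result {F : Type*} [Field F] [Fintype F] (hF : Fintype.card F = 3)
    {K : Type*} [Field K] [Fintype K] (hK : Fintype.card K = 5)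
    (φ : Matrix.SpecialLinearGroup (Fin 2) K →* ↥(Matrix.symplecticGroup (Fin 2) F)) (hφ : Function.Injective φ)
    (x : Matrix.SpecialLinearGroup (Fin 2) K) (hx : orderOf x = 3) :
    Module.finrank F ↥(LinearMap.ker (Matrix.toLin' ((φ x : Matrix (Fin 2 ⊕ Fin 2) (Fin 2 ⊕ Fin 2) F)) - LinearMap.id)) = 2 ∧
      ∀ v w : Fin 2 ⊕ Fin 2 → F, (φ x : Matrix (Fin 2 ⊕ Fin 2) (Fin 2 ⊕ Fin 2) F).mulVec v = v →
        (φ x : Matrix (Fin 2 ⊕ Fin 2) (Fin 2 ⊕ Fin 2) F).mulVec w = w →
          dotProduct v ((Matrix.J (Fin 2) F).mulVec w) = 0 := by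
  classical
  have h3 := three_eq_zero hF
  haveI : Fact (Nat.Prime 5) := ⟨by norm_num⟩
  let σ : ZMod 5 ≃+* K := ZMod.ringEquivOfPrime K (by norm_num) hK
  let ψ : S5 →* ↥(Matrix.symplecticGroup (Fin 2) F) := φ.comp (Matrix.SpecialLinearGroup.map σ.toRingHom)
  have hψ : Function.Injective ψ := by
    refine hφ.comp fun a b h => ?_
    ext i j
    have := congrArg (fun m : Matrix.SpecialLinearGroup (Fin 2) K => m i j) h
    exact σ.injective (by simpa using this)
  set y : S5 := Matrix.SpecialLinearGroup.map σ.symm.toRingHom x with hy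
  have hyx : ψ y = φ x := by
    simp only [ψ, MonoidHom.comp_apply]
    congr 1
    ext i j
    simp [hy]
  let ρ : S5 →* Module.End F (Fin 2 ⊕ Fin 2 → F) :=
    (Matrix.toLinAlgEquiv' (R := F)).toAlgHom.toRingHom.toMonoidHom.comp
      ((Matrix.symplecticGroup (Fin 2) F).subtype.comp ψ)
  have hρ : Function.Injective ρ :=
    (Matrix.toLinAlgEquiv' (R := F)).injective.comp (Subtype.coe_injective.comp hψ)
  set M : Matrix (Fin 2 ⊕ Fin 2) (Fin 2 ⊕ Fin 2) F := (φ x : Matrix (Fin 2 ⊕ Fin 2) (Fin 2 ⊕ Fin 2) F) with hM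
  set J := Matrix.J (Fin 2) F with hJ
  have hρy : ∀ v, ρ y v = M.mulVec v := fun v => by simp [ρ, hyx, hM]
  have hMJ : M.transpose * J * M = J := SymplecticGroup.mem_iff'.1 (φ x).2
  have hx3 : x ^ 3 = 1 := by rw [← hx, pow_orderOf_eq_one]
  have hM3 : M * M * M = 1 := by
    have := congrArg (fun u : ↥(Matrix.symplecticGroup (Fin 2) F) => (u : Matrix (Fin 2 ⊕ Fin 2) (Fin 2 ⊕ Fin 2) F))
      (show φ x * φ x * φ x = 1 by rw [← map_mul, ← map_mul, ← pow_three', hx3, map_one])
    simpa using this
  set T := M * M + M + 1 with hT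
  have hJt : J.transpose = -J := Matrix.J_transpose _ _
  have hsa : T.transpose * J = J * T := by
    have h1 : M.transpose * J = J * (M * M) := by
      calc M.transpose * J = M.transpose * J * (M * M * M) := by rw [hM3, mul_one]
        _ = M.transpose * J * M * (M * M) := by simp only [mul_assoc]
        _ = _ := by rw [hMJ]
    rw [hT, Matrix.transpose_add, Matrix.transpose_add, Matrix.transpose_mul, Matrix.transpose_one,
      add_mul, add_mul, mul_assoc, h1, ← mul_assoc, h1]
    simp only [mul_add, mul_one, one_mul, mul_assoc]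
    rw [show M * (M * (M * M)) = (M * M * M) * M by simp only [mul_assoc], hM3, one_mul]
    abel
  set N := M - 1 with hN
  have hneg : (3 : Matrix (Fin 2 ⊕ Fin 2) (Fin 2 ⊕ Fin 2) F) = 0 := by
    rw [show (3 : Matrix (Fin 2 ⊕ Fin 2) (Fin 2 ⊕ Fin 2) F) = algebraMap F _ 3 from (map_ofNat _ 3).symm, h3, map_zero]
  have hNN : N * N = T := by
    rw [hN, hT, sub_mul, mul_sub, mul_one, one_mul]
    have : M * M + M + 1 - (M * M - M - (M - 1)) = 3 * M := by
      rw [show (3 : Matrix (Fin 2 ⊕ Fin 2) (Fin 2 ⊕ Fin 2) F) = 1 + 1 + 1 by norm_num, add_mul, add_mul, one_mul]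
      abel
    rw [hneg, zero_mul, sub_eq_zero] at this
    exact this.symm
  have hNT : N * T = 0 := by
    rw [hN, hT, sub_mul, one_mul, mul_add, mul_add, mul_one, ← mul_assoc, hM3]; abel
  have hT0 : T = 0 := by
    by_contra hne
    obtain ⟨v, hv⟩ : ∃ v, T.mulVec v ≠ 0 := by
      by_contra hh
      push Not at hh
      exact hne (Matrix.toLin'.injective (LinearMap.ext fun v => by simpa using hh v))
    set u := T.mulVec v
    have hdim : ∀ w, ∃ c : F, T.mulVec w = c • u := by
      intro w
      by_contra hh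
      push Not at hh
      have hli : LinearIndependent F ![v, N.mulVec v, T.mulVec v, w, N.mulVec w, T.mulVec w] := by
        rw [Fintype.linearIndependent_iff]
        intro g hg
        simp [Fin.sum_univ_succ] at hg
        have hind : ∀ a b : F, a • T.mulVec v + b • T.mulVec w = 0 → a = 0 ∧ b = 0 := by
          intro a b h
          rcases eq_or_ne b 0 with rfl | hb
          · rw [zero_smul, add_zero, smul_eq_zero] at h
            exact ⟨h.resolve_right hv, rfl⟩
          · exfalso
            apply hh (-(a / b))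
            rw [eq_neg_of_add_eq_zero_left h |> fun h' => (show T.mulVec w = b⁻¹ • (b • T.mulVec w) by
              rw [smul_smul, inv_mul_cancel₀ hb, one_smul]), show b • T.mulVec w = -(a • u) from eq_neg_of_add_eq_zero_right h]
            rw [smul_neg, smul_smul, neg_smul, div_eq_inv_mul]
        have e1 := congrArg T.mulVec hg
        have hTN : T * N = 0 := by rw [← hNN, mul_assoc, hNN, hNT]
        have hTT : T * T = 0 := by
          conv_lhs => arg 1; rw [← hNN]
          rw [mul_assoc, hNT, mul_zero]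
        simp [Matrix.mulVec_add, Matrix.mulVec_smul, hTN, hTT] at e1
        obtain ⟨a0, a3⟩ := hind _ _ e1
        simp [a0, a3] at hg
        have e2 := congrArg N.mulVec hg
        simp [Matrix.mulVec_add, Matrix.mulVec_smul, hNN, hNT] at e2
        obtain ⟨a1, a4⟩ := hind _ _ e2
        simp [a1, a4] at hg
        obtain ⟨a2, a5⟩ := hind _ _ hg
        intro i; fin_cases i <;> assumption
      have := hli.fintype_card_le_finrank
      simp [Module.finrank_pi] at this
    choose c hc using hdim
    have hanti : ∀ a b, dotProduct a (J.mulVec (T.mulVec b)) = -dotProduct b (J.mulVec (T.mulVec a)) := by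
      intro a b
      have hK : (J * T).transpose = -(J * T) := by
        rw [Matrix.transpose_mul, hJt, mul_neg, hsa]
      rw [Matrix.mulVec_mulVec, Matrix.mulVec_mulVec]
      conv_rhs => rw [Matrix.dotProduct_mulVec, ← Matrix.mulVec_transpose, hK, dotProduct_comm,
        Matrix.neg_mulVec, dotProduct_neg, neg_neg]
    have hcv : c v = 1 := by
      have h := hc v
      have h' : (c v - 1) • u = 0 := by rw [sub_smul, one_smul, sub_eq_zero]; exact h.symm
      exact sub_eq_zero.1 ((smul_eq_zero.1 h').resolve_right hv)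
    have hfv : dotProduct v (J.mulVec u) = 0 := by
      have h := hanti v v
      rw [hc v, hcv, one_smul] at h
      linear_combination (-1 : F) * h + dotProduct v (J.mulVec u) * h3
    have hfb : ∀ b, dotProduct b (J.mulVec u) = 0 := by
      intro b
      have h := hanti b v
      rw [hc v, hc b, hcv, one_smul, Matrix.mulVec_smul, dotProduct_smul, hfv, smul_zero, neg_zero] at h
      exact h
    have hJu : J.mulVec u = 0 := dotProduct_eq_zero _ fun b => by rw [dotProduct_comm]; exact hfb b
    have := congrArg J.mulVec hJu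
    rw [Matrix.mulVec_mulVec, Matrix.J_squared, Matrix.mulVec_zero, Matrix.neg_mulVec, Matrix.one_mulVec, neg_eq_zero] at this
    exact hv this
  let L : Module.End F (Fin 2 ⊕ Fin 2 → F) := Matrix.toLin' M - LinearMap.id
  have hL : ∀ v, L v = N.mulVec v := fun v => by simp [L, hN, Matrix.sub_mulVec]
  have hrk : LinearMap.range L ≤ LinearMap.ker L := by
    rintro _ ⟨v, rfl⟩
    rw [LinearMap.mem_ker, hL, hL, Matrix.mulVec_mulVec, hNN, hT0, Matrix.zero_mulVec]
  have hsum := LinearMap.finrank_range_add_finrank_ker L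
  simp [Module.finrank_pi] at hsum
  have hle := Submodule.finrank_mono hrk
  have hy1 : (y : Matrix (Fin 2) (Fin 2) (ZMod 5)) ≠ 1 := by
    intro h
    have : y = 1 := Subtype.ext h
    rw [this, map_one] at hyx
    have := hφ (hyx.symm.trans (map_one φ).symm)
    rw [this, orderOf_one] at hx
    omega
  have hy3 : y ^ 3 = 1 := by rw [hy, ← map_pow, hx3, map_one]
  have hker2 : Module.finrank F (LinearMap.ker L) = 2 := by
    by_contra hne2
    have hbig : 3 ≤ Module.finrank F (LinearMap.ker L) := by omega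
    obtain ⟨g, hmem, hg⟩ := sl5_key (y 0 0) (y 0 1) (y 1 0) (y 1 1)
      (by rw [← Matrix.det_fin_two]; exact y.2)
      (by
        rw [← Matrix.eta_fin_two (y : Matrix (Fin 2) (Fin 2) (ZMod 5))]
        have := congrArg Subtype.val hy3
        simpa [pow_three', Matrix.SpecialLinearGroup.coe_mul] using this)
      (by rw [← Matrix.eta_fin_two (y : Matrix (Fin 2) (Fin 2) (ZMod 5))]; exact hy1)
    have hg1 : g.1 = 1 := by
      simp at hmem
      rcases hmem with rfl | rfl <;> rfl
    let s : S5 := shear g.2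
    let y' : S5 := s * y * s⁻¹
    have hs : ((y * y' : S5) : Matrix (Fin 2) (Fin 2) (ZMod 5)) =
        !![y 0 0, y 0 1; y 1 0, y 1 1] * (!![g.1, g.2; 0, 1] * !![y 0 0, y 0 1; y 1 0, y 1 1] * !![g.1, -g.2; 0, 1]) := by
      rw [← Matrix.eta_fin_two (y : Matrix (Fin 2) (Fin 2) (ZMod 5)), hg1]
      simp only [y', s, shear_inv, Matrix.SpecialLinearGroup.coe_mul]
      rfl
    obtain ⟨k, hk⟩ : ∃ k : ℕ, (y * y') ^ k = -1 := by
      rcases hg with h | h <;> rw [← hs] at h
      · exact ⟨2, Subtype.ext (by simpa using h)⟩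
      · exact ⟨3, Subtype.ext (by simpa using h)⟩
    let W2 : Submodule F (Fin 2 ⊕ Fin 2 → F) := (LinearMap.ker L).map (ρ s)
    have hinj : Function.Injective (ρ s) := by
      intro a b h
      have := congrArg (ρ s⁻¹) h
      simpa [← Module.End.mul_apply, ← map_mul] using this
    have hW2 : Module.finrank F W2 = Module.finrank F (LinearMap.ker L) :=
      (Submodule.equivMapOfInjective _ hinj _).symm.finrank_eq
    have h4 := Submodule.finrank_sup_add_finrank_inf_eq (LinearMap.ker L) W2
    have h5 : Module.finrank F ↥(LinearMap.ker L ⊔ W2) ≤ 4 :=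
      (Submodule.finrank_le _).trans (by simp [Module.finrank_pi])
    obtain ⟨v, hv, hv0⟩ : ∃ v ∈ LinearMap.ker L ⊓ W2, v ≠ 0 := by
      apply Submodule.exists_mem_ne_zero_of_ne_bot
      intro hb
      rw [hb, finrank_bot] at h4
      omega
    have hfixy : ∀ a ∈ LinearMap.ker L, ρ y a = a := fun a ha => by
      rw [LinearMap.mem_ker, hL, hN, Matrix.sub_mulVec, Matrix.one_mulVec, sub_eq_zero] at ha
      rw [hρy, ha]
    have hfix : ρ (y * y') v = v := by
      obtain ⟨a, ha, rfl⟩ := hv.2
      have h6 : ρ y' (ρ s a) = ρ s a := by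
        rw [← Module.End.mul_apply, ← map_mul, show y' * s = s * y by simp [y'], map_mul,
          Module.End.mul_apply, hfixy a ha]
      rw [map_mul, Module.End.mul_apply, h6, hfixy _ hv.1]
    have hpow : ∀ m : ℕ, ρ ((y * y') ^ m) v = v := by
      intro m
      induction m with
      | zero => simp
      | succ m ih => rw [pow_succ, map_mul, Module.End.mul_apply, hfix, ih]
    have h7 := hpow k
    rw [hk, neg_one_acts hF (by simp [Module.finrank_pi]) ρ hρ] at h7
    have h8 : (2 : F) • v = 0 := by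
      rw [two_smul]; nth_rewrite 1 [← h7]; exact neg_add_cancel v
    exact hv0 ((smul_eq_zero.1 h8).resolve_left (fun h => one_ne_zero (α := F) (by linear_combination h3 - h)))
  refine ⟨hker2, fun v w hv hw => ?_⟩
  have hrange : LinearMap.range L = LinearMap.ker L :=
    Submodule.eq_of_le_of_finrank_eq hrk (by omega)
  obtain ⟨z, hz⟩ : w ∈ LinearMap.range L := hrange ▸ (by
    rw [LinearMap.mem_ker, hL, hN, Matrix.sub_mulVec, Matrix.one_mulVec, hw, sub_self])
  rw [← hz, hL, hN, Matrix.sub_mulVec, Matrix.one_mulVec, Matrix.mulVec_sub, dotProduct_sub, sub_eq_zero]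
  conv_rhs => rw [← hMJ, ← Matrix.mulVec_mulVec, ← Matrix.mulVec_mulVec, Matrix.dotProduct_mulVec,
    Matrix.vecMul_transpose, hv]

end Cfsg.Agent.S3213
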