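import Cfsg.Statements.S3215
import Mathlib
import Cfsg.Agent.Lib.SolvableCore.Basic
import Cfsg.Agent.Lib.CyclicPGroup.Basic
import Cfsg.Agent.Lib.Coprime.Generation
import Cfsg.Agent.Lib.Coprime.Quotient
import Cfsg.Agent.Lib.Frobenius.FPF
import Cfsg.Agent.Lib.Core.Fitting
-- import your own Cfsg.Agent.* helpers here

set_option autoImplicit false
open Cfsg

namespace Cfsg.Agent.S3215

variable {H : Type*} [Group H] [Finite H]

/-- An odd-order element centralising an involution centralises every element of the `2`-core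
centralising that involution. -/
theorem commute_of_commute_involution
    (hI : ∀ t : H, orderOf t = 2 → Cfsg.HasNormalPComplement 2 ↥(Subgroup.centralizer ({t} : Set H)))
    {t x y : H} (ht : orderOf t = 2) (hx : Odd (orderOf x)) (hxt : x * t = t * x)
    (hy : y ∈ Cfsg.pCore 2 H) (hyt : y * t = t * y) : x * y = y * x := by
  have hI' := hI t ht
  set C := Subgroup.centralizer ({t} : Set H)
  obtain ⟨P, N, hN, hc⟩ := hI'
  haveI := hN
  have hxC : x ∈ C := Subgroup.mem_centralizer_singleton_iff.2 hxt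
  have hyC : y ∈ C := Subgroup.mem_centralizer_singleton_iff.2 hyt
  obtain ⟨k, hk⟩ := IsPGroup.iff_card.1 P.2
  have hNi : N.index = 2 ^ k := hc.symm.index_eq_card.trans hk
  have hxN : (⟨x, hxC⟩ : C) ∈ N := by
    rw [← QuotientGroup.eq_one_iff (N := N), ← orderOf_eq_one_iff]
    refine Nat.eq_one_of_dvd_coprimes (a := orderOf x) (b := 2 ^ k)
      (Nat.Coprime.pow_right k (Nat.coprime_two_right.2 hx)) ?_ ?_
    · have := orderOf_map_dvd (QuotientGroup.mk' N) (⟨x, hxC⟩ : C)
      rwa [Subgroup.orderOf_mk, QuotientGroup.mk'_apply] at this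
    · rw [← hNi, Subgroup.index_eq_card]; exact orderOf_dvd_natCard _
  set D := (Cfsg.pCore 2 H).subgroupOf C
  haveI := Cfsg.Agent.Lib.PSolvable.pCore_characteristic (p := 2) (G := H)
  have hDp : IsPGroup 2 D := Cfsg.Agent.Lib.PSolvable.pCore_isPGroup.comap_of_injective _ C.subtype_injective
  have hND : N ⊓ D = ⊥ := by
    have : Fact (Nat.Prime 2) := ⟨Nat.prime_two⟩
    refine Subgroup.inf_eq_bot_of_coprime ?_
    obtain ⟨j, hj⟩ := IsPGroup.iff_card.1 hDp
    rw [hj]
    refine Nat.Coprime.pow_right j (Nat.coprime_two_right.2 ?_)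
    rw [← Nat.not_even_iff_odd, even_iff_two_dvd]
    intro h2
    apply P.not_dvd_index
    rw [hc.index_eq_card]
    exact h2
  have h1 : (⟨x, hxC⟩ : C) * ⟨y, hyC⟩ = ⟨y, hyC⟩ * ⟨x, hxC⟩ :=
    Subgroup.commute_of_normal_of_disjoint N D hN inferInstance (disjoint_iff.2 hND) _ _ hxN
      (Subgroup.mem_subgroupOf.2 hy)
  exact congrArg Subtype.val h1

/-- Odd-order elements act fixed-point-freely on the `2`-core. -/
theorem fpf (hsol : Group.IsSolvable H) (hO : Cfsg.oddCore H = ⊥)
    (hI : ∀ t : H, orderOf t = 2 → Cfsg.HasNormalPComplement 2 ↥(Subgroup.centralizer ({t} : Set H)))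
    {x y : H} (hx : Odd (orderOf x)) (hy : y ∈ Cfsg.pCore 2 H) (hxy : x * y = y * x) :
    x = 1 ∨ y = 1 := by
  haveI : Fact (Nat.Prime 2) := ⟨Nat.prime_two⟩
  rcases eq_or_ne y 1 with hy1 | hy1
  · exact Or.inr hy1
  left
  haveI := Cfsg.Agent.Lib.PSolvable.pCore_characteristic (p := 2) (G := H)
  set Y := Cfsg.pCore 2 H
  obtain ⟨k, hk⟩ := (IsPGroup.iff_orderOf.1 Cfsg.Agent.Lib.PSolvable.pCore_isPGroup) ⟨y, hy⟩
  rw [Subgroup.orderOf_mk] at hk
  rcases k with _ | k
  · exact absurd (orderOf_eq_one_iff.1 (by simpa using hk)) hy1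
  set t := y ^ 2 ^ k
  have ht : orderOf t = 2 := by
    rw [orderOf_pow' _ (by positivity), hk, Nat.gcd_eq_right (pow_dvd_pow 2 k.le_succ), pow_succ,
      Nat.mul_div_cancel_left _ (by positivity)]
  have hxt : x * t = t * x := (show Commute x y from hxy).pow_right _
  have hQ : Subgroup.zpowers x ≤ Subgroup.centralizer (Y : Set H) := by
    have hNY : Subgroup.normalizer (Y : Set H) = ⊤ := Subgroup.normalizer_eq_top Y
    refine Cfsg.Agent.Lib.Coprime.thompson_PxQ (p := 2) (P := Subgroup.zpowers t) ?_ ?_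
      Cfsg.Agent.Lib.PSolvable.pCore_isPGroup ?_ (hNY ▸ le_top) (hNY ▸ le_top) ?_
    · exact IsPGroup.of_card (n := 1) (by rw [Nat.card_zpowers, ht, pow_one])
    · rw [Nat.card_zpowers]; exact Nat.coprime_two_right.2 hx
    · rw [Subgroup.zpowers_le, Subgroup.mem_centralizer_iff]
      intro w hw
      obtain ⟨j, rfl⟩ := Subgroup.mem_zpowers_iff.1 hw
      exact ((show Commute x t from hxt).zpow_left j).eq
    · rintro w ⟨hwY, hwt⟩
      simp only [SetLike.mem_coe, Subgroup.mem_centralizer_iff] at hwt ⊢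
      intro z hz
      obtain ⟨j, rfl⟩ := Subgroup.mem_zpowers_iff.1 hz
      have hwt' : w * t = t * w := (hwt t (Subgroup.mem_zpowers t)).symm
      exact ((show Commute x w from commute_of_commute_involution hI ht hx hxt hwY hwt').zpow_left j).eq
  have hxY : x ∈ Y := Cfsg.Agent.Lib.SolvableCore.centralizer_pCore_le hsol hO (hQ (Subgroup.mem_zpowers x))
  obtain ⟨j, hj⟩ := (IsPGroup.iff_orderOf.1 Cfsg.Agent.Lib.PSolvable.pCore_isPGroup) ⟨x, hxY⟩
  rw [Subgroup.orderOf_mk] at hj
  rw [hj] at hx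
  rcases j with _ | j
  · exact orderOf_eq_one_iff.1 (by simpa using hj)
  · rw [Nat.odd_pow_iff (Nat.succ_ne_zero j)] at hx; exact absurd hx (by decide)


/-- Let H be a finite solvable group with no nontrivial normal subgroup of odd order in which the centralizer of every involution has a normal 2-complement. Let X be a Hall 2'-subgroup of H (odd order, index a power of 2) and Y = O₂(H). Then no non-identity element of X commutes with a non-identity element of Y (so for X ≠ 1 the group XY is a Frobenius group with kernel Y), every Sylow subgroup of X is cyclic, XY is normal in H, and H/XY is a cyclic 2-group. -/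
theorem result {H : Type*} [Group H] [Finite H] (hsol : Group.IsSolvable H)
    (hO : Cfsg.oddCore H = ⊥)
    (hI : ∀ t : H, orderOf t = 2 → Cfsg.HasNormalPComplement 2 ↥(Subgroup.centralizer ({t} : Set H)))
    (X : Subgroup H) (hXodd : Odd (Nat.card X)) (hXidx : ∃ k : ℕ, X.index = 2 ^ k) :
    (∀ x ∈ X, x ≠ 1 → ∀ y ∈ Cfsg.pCore 2 H, y ≠ 1 → x * y ≠ y * x) ∧
      (∀ (p : ℕ) [Fact p.Prime] (P : Sylow p ↥X), IsCyclic ↥(P : Subgroup ↥X)) ∧
      (X ⊔ Cfsg.pCore 2 H).Normal ∧
      ∀ hN : (X ⊔ Cfsg.pCore 2 H).Normal, IsCyclic (H ⧸ (X ⊔ Cfsg.pCore 2 H)) ∧ IsPGroup 2 (H ⧸ (X ⊔ Cfsg.pCore 2 H)) := by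
  haveI : Fact (Nat.Prime 2) := ⟨Nat.prime_two⟩
  haveI := hsol
  haveI := Cfsg.Agent.Lib.PSolvable.pCore_characteristic (p := 2) (G := H)
  set Y := Cfsg.pCore 2 H
  have hodd : ∀ x ∈ X, Odd (orderOf x) := fun x hx =>
    hXodd.of_dvd_nat (Subgroup.orderOf_dvd_natCard X hx)
  have h1 : ∀ x ∈ X, x ≠ 1 → ∀ y ∈ Y, y ≠ 1 → x * y ≠ y * x := fun x hx hx1 y hy hy1 h =>
    (fpf hsol hO hI (hodd x hx) hy h).elim hx1 hy1
  have hCY := Cfsg.Agent.Lib.SolvableCore.centralizer_pCore_le (p := 2) hsol hO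
  have h2 : ∀ (p : ℕ) [Fact p.Prime] (P : Sylow p ↥X), IsCyclic ↥(P : Subgroup ↥X) := by
    intro p _ P
    rcases eq_or_ne p 2 with rfl | hp2
    · have : (P : Subgroup X) = ⊥ := by
        obtain ⟨k, hk⟩ := IsPGroup.iff_card.1 P.2
        rw [← Subgroup.card_eq_one, hk]
        have hd := Subgroup.card_subgroup_dvd_card (P : Subgroup X)
        rw [hk] at hd
        have := hXodd.of_dvd_nat hd
        rcases k with _ | k
        · rfl
        · rw [Nat.odd_pow_iff (Nat.succ_ne_zero k)] at this; exact absurd this (by decide)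
      rw [this]; exact isCyclic_of_subsingleton
    refine Cfsg.Agent.Lib.CyclicPGroup.isCyclic_of_forall_mem_zpowers hp2 P.2 ?_
    -- commuting elements of order `p`
    have hcomm : ∀ a b : (P : Subgroup X), Commute a b → a ^ p = 1 → b ^ p = 1 → b ≠ 1 →
        a ∈ Subgroup.zpowers b := by
      intro a b hab ha hb hb1
      by_contra hnot
      set a' : H := ((a : X) : H) with ha'
      set b' : H := ((b : X) : H) with hb'
      have hcop : p.Coprime (Nat.card Y) := by
        obtain ⟨j, hj⟩ := IsPGroup.iff_card.1 (Cfsg.Agent.Lib.PSolvable.pCore_isPGroup (p := 2) (G := H))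
        rw [hj]
        exact ((Nat.coprime_primes Fact.out Nat.prime_two).2 hp2).pow_right j
      have hle : Y ≤ ⊥ := by
        refine Cfsg.Agent.Lib.Coprime.le_of_pair (p := p) (a := a') (b := b') Fact.out hcop
          ((Subgroup.normalizer_eq_top Y).symm ▸ le_top) ?_ ?_ ?_ ?_ ?_ ?_
        · exact (hab.map (P : Subgroup X).subtype).map X.subtype
        · simpa [ha'] using congrArg (fun z : (P : Subgroup X) => ((z : X) : H)) ha
        · simpa [hb'] using congrArg (fun z : (P : Subgroup X) => ((z : X) : H)) hb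
        · exact fun h => hb1 (Subtype.ext (Subtype.ext h))
        · intro h
          obtain ⟨j, hj⟩ := Subgroup.mem_zpowers_iff.1 h
          exact hnot (Subgroup.mem_zpowers_iff.2 ⟨j, Subtype.ext (Subtype.ext (by simpa using hj))⟩)
        · rintro z hz hz1 w ⟨hwY, hwz⟩
          have hzX : z ∈ X := (Subgroup.closure_le X).2 (by
            rintro _ (rfl | rfl)
            exacts [(a : X).2, (b : X).2]) hz
          simp only [SetLike.mem_coe, Subgroup.mem_centralizer_iff] at hwz
          rw [Subgroup.mem_bot]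
          exact (fpf hsol hO hI (hodd z hzX) hwY (hwz z rfl)).resolve_left hz1
      have hall : ∀ g : H, g = 1 := by
        intro g
        have := hCY (show g ∈ Subgroup.centralizer (Y : Set H) by
          rw [Subgroup.mem_centralizer_iff]; intro h hh
          rw [show h = 1 from hle hh]; simp)
        exact hle this
      exact hb1 (Subtype.ext (Subtype.ext (hall _)))
    intro a b ha hb hb1
    haveI : Nontrivial (P : Subgroup X) := ⟨b, 1, hb1⟩
    haveI := P.2.center_nontrivial
    obtain ⟨z, hz⟩ := exists_prime_orderOf_dvd_card' p (show p ∣ Nat.card (Subgroup.center (P : Subgroup X)) from by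
      obtain ⟨k, hk⟩ := IsPGroup.iff_card.1 (P.2.to_subgroup (Subgroup.center (P : Subgroup X)))
      rw [hk]
      refine dvd_pow_self p ?_
      rintro rfl
      have h2 := (Finite.one_lt_card_iff_nontrivial (α := Subgroup.center (P : Subgroup X))).2 inferInstance
      simp [hk] at h2)
    have hz1 : (z : (P : Subgroup X)) ≠ 1 := fun h => by
      have : z = 1 := Subtype.ext h
      rw [this, orderOf_one] at hz
      exact (Fact.out : p.Prime).one_lt.ne hz
    have hzp : (z : (P : Subgroup X)) ^ p = 1 := by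
      have h := congrArg Subtype.val (pow_orderOf_eq_one z)
      rwa [hz] at h
    have hzc : ∀ w, Commute w (z : (P : Subgroup X)) := fun w => Subgroup.mem_center_iff.1 z.2 w
    exact (Subgroup.zpowers_le.2 (hcomm _ _ (hzc b).symm hzp hb hb1)) (hcomm a _ (hzc a) ha hzp hz1)
  obtain ⟨kX, hkX⟩ := hXidx
  set f := QuotientGroup.mk' Y
  have hf : Function.Surjective f := QuotientGroup.mk'_surjective Y
  set Xb := X.map f with hXb
  let φ : X →* H ⧸ Y := f.comp X.subtype
  have hφ : Function.Injective φ := by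
    rw [injective_iff_map_eq_one]
    intro x hx
    have hxY : (x : H) ∈ Y := (QuotientGroup.eq_one_iff (x : H)).1 hx
    exact Subtype.ext ((fpf hsol hO hI (hodd _ x.2) hxY rfl).elim id id)
  have hXbodd : Odd (Nat.card Xb) := hXodd.of_dvd_nat (Subgroup.card_map_dvd _ _)
  have hXbidx : Xb.index ∣ 2 ^ kX := hkX ▸ Subgroup.index_map_dvd _ hf
  have hO2 : Cfsg.pCore 2 (H ⧸ Y) = ⊥ := Cfsg.Agent.Lib.PSolvable.pCore_quotient_eq_bot
  haveI : Group.IsSolvable (H ⧸ Y) := solvable_of_surjective hf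
  set F := Cfsg.fittingSubgroup (H ⧸ Y)
  haveI hFn : F.Normal := Cfsg.Agent.Lib.Fitting.fittingSubgroup_normal
  haveI hFnil : Group.IsNilpotent F := Cfsg.Agent.Lib.Fitting.isNilpotent_fittingSubgroup
  have hFodd : Odd (Nat.card F) := by
    have := Cfsg.Agent.Lib.Fitting.not_dvd_relIndex_pCore_fitting (G := H ⧸ Y) 2
    rw [hO2, Subgroup.relIndex_bot_left] at this
    rw [← Nat.not_even_iff_odd, even_iff_two_dvd]; exact this
  have hFX : F ≤ Xb := by
    rw [← sup_eq_right]
    refine le_antisymm ?_ le_sup_right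
    rw [← Subgroup.relIndex_eq_one]
    have hd1 : Xb.relIndex (F ⊔ Xb) ∣ 2 ^ kX :=
      (Subgroup.relIndex_dvd_index_of_le le_sup_right).trans hXbidx
    have hd2 : Odd (Xb.relIndex (F ⊔ Xb)) := by
      refine Odd.of_dvd_nat ?_ (Subgroup.relIndex_dvd_card _ _)
      exact Nat.coprime_two_right.1 (Cfsg.Agent.Lib.PSolvable.coprime_card_sup (p := 2)
        (Nat.coprime_two_right.2 hFodd) (Nat.coprime_two_right.2 hXbodd))
    exact Nat.eq_one_of_dvd_coprimes ((Nat.coprime_two_right.2 hd2).pow_right kX) (dvd_refl _) hd1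
  haveI : IsZGroup X := ⟨fun p hp P => by haveI := Fact.mk hp; exact h2 p P⟩
  haveI hFc : IsCyclic F := by
    have hle : F ≤ φ.range := by
      rw [MonoidHom.range_comp, Subgroup.range_subtype]; exact hFX
    haveI : IsZGroup F := IsZGroup.of_injective
      (f := (MonoidHom.ofInjective hφ).symm.toMonoidHom.comp (Subgroup.inclusion hle))
      ((MonoidHom.ofInjective hφ).symm.injective.comp (Subgroup.inclusion_injective hle))
    infer_instance
  have hCF : Subgroup.centralizer (F : Set (H ⧸ Y)) ≤ F := Cfsg.Agent.Lib.Fitting.centralizer_fittingSubgroup_le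
  have hcommF : ∀ g h : H ⧸ Y, g * h * g⁻¹ * h⁻¹ ∈ F := by
    intro g h
    have hab : ∀ α β : MulAut F, α * β = β * α := by
      intro α β
      apply (IsCyclic.mulAutMulEquiv F).injective
      rw [map_mul, map_mul, mul_comm]
    have hker : g * h * g⁻¹ * h⁻¹ ∈ (MulAut.conjNormal (H := F) : H ⧸ Y →* MulAut F).ker := by
      rw [MonoidHom.mem_ker, map_mul, map_mul, map_mul, map_inv, map_inv, hab (MulAut.conjNormal g)]
      group
    apply hCF
    rw [Subgroup.mem_centralizer_iff]
    intro w hw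
    have := congrArg Subtype.val (DFunLike.congr_fun (MonoidHom.mem_ker.1 hker) ⟨w, hw⟩)
    rw [MulAut.conjNormal_apply] at this
    exact (mul_inv_eq_iff_eq_mul.1 this).symm
  haveI hXbn : Xb.Normal := ⟨fun n hn g => by
    have := Xb.mul_mem (hFX (hcommF g n)) hn
    simpa [mul_assoc] using this⟩
  have hsupeq : X ⊔ Y = Xb.comap f := by
    rw [hXb, Subgroup.comap_map_eq, QuotientGroup.ker_mk']
  refine ⟨h1, h2, hsupeq ▸ inferInstance, fun hN => ?_⟩
  haveI := hN
  set Q := H ⧸ (X ⊔ Y)
  have hQ2 : IsPGroup 2 Q := by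
    obtain ⟨j, -, hj⟩ := (Nat.dvd_prime_pow Nat.prime_two).1 (hkX ▸ Subgroup.index_dvd_of_le (le_sup_left : X ≤ X ⊔ Y))
    exact IsPGroup.of_card (n := j) (by rw [← Subgroup.index_eq_card, hj])
  refine ⟨?_, hQ2⟩
  have hcommQ : ∀ a b : Q, a * b = b * a := by
    intro a b
    obtain ⟨g, rfl⟩ := QuotientGroup.mk'_surjective _ a
    obtain ⟨h, rfl⟩ := QuotientGroup.mk'_surjective _ b
    rw [← mul_inv_eq_one, ← map_mul, ← map_mul, ← map_inv, ← map_mul, QuotientGroup.mk'_apply,
      QuotientGroup.eq_one_iff, hsupeq, Subgroup.mem_comap]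
    simpa [mul_assoc] using hFX (hcommF (f g) (f h))
  -- each involution of the quotient lifts to an involution of `H ⧸ Y` inverting `F`
  have hFcomm : ∀ u v : F, u * v = v * u := fun u v => (IsCyclic.commGroup (α := F)).mul_comm u v
  have hlift : ∀ q : Q, q ^ 2 = 1 → q ≠ 1 → ∃ g : H, QuotientGroup.mk' (X ⊔ Y) g = q ∧
      ∀ w : H ⧸ Y, w ∈ F → f g * w * (f g)⁻¹ = w⁻¹ := by
    intro q hq hq1
    obtain ⟨g0, hg0⟩ := QuotientGroup.mk'_surjective _ q
    set m := Nat.card Xb
    obtain ⟨j, hj⟩ := hXbodd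
    set g := g0 ^ m
    have hgq : QuotientGroup.mk' (X ⊔ Y) g = q := by
      show QuotientGroup.mk' (X ⊔ Y) (g0 ^ m) = q
      rw [map_pow, hg0, show m = 2 * j + 1 from hj, pow_succ, pow_mul, hq, one_pow, one_mul]
    have hg2 : f g * f g = 1 := by
      have hmem : f g0 ^ 2 ∈ Xb := by
        rw [← map_pow, ← Subgroup.mem_comap, ← hsupeq, ← QuotientGroup.eq_one_iff,
          ← QuotientGroup.mk'_apply, map_pow, hg0, hq]
      have := congrArg Subtype.val (pow_card_eq_one' (G := Xb) (x := ⟨_, hmem⟩))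
      rw [← pow_two, show f g = f g0 ^ m from map_pow f g0 m, ← pow_mul, mul_comm, pow_mul]
      rwa [Subgroup.coe_pow, Subgroup.coe_one] at this
    refine ⟨g, hgq, fun w hw => ?_⟩
    have hA1 : f g ≠ 1 := by
      intro h
      apply hq1
      rw [← hgq, QuotientGroup.mk'_apply, QuotientGroup.eq_one_iff, hsupeq, Subgroup.mem_comap, h]
      exact one_mem _
    have hw' : f g * w * (f g)⁻¹ ∈ F := hFn.conj_mem _ hw _
    set u := w * (f g * w * (f g)⁻¹)
    suffices hu : u = 1 by
      exact eq_inv_of_mul_eq_one_right hu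
    have hufix : f g * u * (f g)⁻¹ = u := by
      have hi : (f g)⁻¹ = f g := inv_eq_of_mul_eq_one_right hg2
      have hc := congrArg Subtype.val (hFcomm ⟨_, hw'⟩ ⟨w, hw⟩)
      show f g * (w * (f g * w * (f g)⁻¹)) * (f g)⁻¹ = w * (f g * w * (f g)⁻¹)
      simp only [hi] at hc ⊢
      rw [show f g * (w * (f g * w * f g)) * f g = (f g * w * f g) * w * (f g * f g) by simp [mul_assoc],
        hg2, mul_one]
      exact hc
    by_contra hu
    obtain ⟨x0, hx0⟩ := hf u
    obtain ⟨e, o, ho, heo⟩ := Nat.exists_eq_two_pow_mul_odd (orderOf_pos x0).ne'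
    set x := x0 ^ 2 ^ e
    have hxo : Odd (orderOf x) := by
      rw [orderOf_pow' _ (by positivity), heo, Nat.gcd_mul_right_left, Nat.mul_div_cancel_left _ (by positivity)]
      exact ho
    have huF : u ∈ F := F.mul_mem hw hw'
    have huo : Odd (orderOf u) := hFodd.of_dvd_nat (Subgroup.orderOf_dvd_natCard F huF)
    have hx1 : x ≠ 1 := by
      intro h
      apply hu
      have h1 : u ^ 2 ^ e = 1 := by rw [← hx0, ← map_pow]; show f x = 1; rw [h, map_one]
      exact orderOf_eq_one_iff.1 (Nat.eq_one_of_dvd_coprimes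
        (Nat.Coprime.pow_right e (Nat.coprime_two_right.2 huo)) dvd_rfl (orderOf_dvd_of_pow_eq_one h1))
    obtain ⟨jY, hjY⟩ := IsPGroup.iff_card.1 (Cfsg.Agent.Lib.PSolvable.pCore_isPGroup (p := 2) (G := H))
    obtain ⟨c, hc, hcY⟩ := Cfsg.Agent.Lib.Coprime.exists_centralizer_mem_leftCoset
      (A := Subgroup.zpowers x) (N := Y) ((Subgroup.normalizer_eq_top Y).symm ▸ le_top)
      (by rw [Nat.card_zpowers, hjY]; exact Nat.Coprime.pow_right jY (Nat.coprime_two_right.2 hxo))
      (Or.inr inferInstance) (k := g) (by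
        intro a ha
        obtain ⟨i, rfl⟩ := Subgroup.mem_zpowers_iff.1 ha
        rw [← QuotientGroup.eq_one_iff, ← QuotientGroup.mk'_apply]
        show f (g⁻¹ * (x ^ i * g * (x ^ i)⁻¹)) = 1
        have hcomm : Commute (f g) u := mul_inv_eq_iff_eq_mul.1 hufix
        have hfx : f x = u ^ 2 ^ e := by rw [← hx0, ← map_pow]
        rw [map_mul, map_mul, map_mul, map_inv, map_inv, map_zpow, hfx,
          ← ((hcomm.pow_right (2 ^ e)).zpow_right i).eq]
        group)
    have hxc : x * c = c * x := Subgroup.mem_centralizer_iff.1 hc x (Subgroup.mem_zpowers x)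
    have hfc : f c = f g := by
      have h3 : f (g⁻¹ * c) = 1 := (QuotientGroup.eq_one_iff _).2 hcY
      rw [map_mul, map_inv, inv_mul_eq_one] at h3
      exact h3.symm
    have hc2Y : c * c ∈ Y := by
      rw [← QuotientGroup.eq_one_iff, ← QuotientGroup.mk'_apply]
      show f (c * c) = 1
      rw [map_mul, hfc, hg2]
    have hc2 : c * c = 1 := (fpf hsol hO hI hxo hc2Y
      ((show Commute x c from hxc).mul_right hxc).eq).resolve_left hx1
    have hc1 : c ≠ 1 := fun h => hA1 (by rw [← hfc, h, map_one])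
    have hco : orderOf c = 2 := orderOf_eq_prime (by rw [pow_two, hc2]) hc1
    obtain ⟨y, hyY, hyc, hy1⟩ : ∃ y ∈ Y, y * c = c * y ∧ y ≠ 1 := by
      have hY1 : Y ≠ ⊥ := by
        intro hb
        apply hc1
        have := hCY (show c ∈ Subgroup.centralizer (Y : Set H) by
          rw [Subgroup.mem_centralizer_iff]; intro h hh
          rw [SetLike.mem_coe, hb, Subgroup.mem_bot] at hh; rw [hh]; simp)
        exact Subgroup.mem_bot.1 (le_of_eq hb this)
      letI := Cfsg.Agent.Lib.Frobenius.FPF.conjAction (Subgroup.zpowers c) Y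
        ((Subgroup.normalizer_eq_top Y).symm ▸ le_top)
      have hp : IsPGroup 2 (Subgroup.zpowers c) :=
        IsPGroup.of_card (n := 1) (by rw [Nat.card_zpowers, hco, pow_one])
      have h2Y : 2 ∣ Nat.card Y := by
        rw [hjY]
        refine dvd_pow_self 2 ?_
        rintro rfl
        exact hY1 (Subgroup.card_eq_one.1 (by simpa using hjY))
      obtain ⟨b, hb, hb1⟩ := hp.exists_fixed_point_of_prime_dvd_card_of_fixed_point Y h2Y
        (a := 1) (fun a => smul_one a)
      refine ⟨b, b.2, ?_, fun h => hb1 (Subtype.ext h.symm)⟩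
      have h3 : c * (b : H) * c⁻¹ = b := congrArg Subtype.val (hb ⟨c, Subgroup.mem_zpowers c⟩)
      exact (mul_inv_eq_iff_eq_mul.1 h3).symm
    exact (fpf hsol hO hI hxo hyY
      (commute_of_commute_involution hI hco hxo hxc hyY hyc)).elim hx1 hy1
  letI : CommGroup Q := { (inferInstance : Group Q) with mul_comm := hcommQ }
  refine Cfsg.Agent.Lib.Coprime.isCyclic_of_forall_mem_zpowers Nat.prime_two hQ2 ?_
  intro a b ha hb hb1
  rcases eq_or_ne a 1 with rfl | ha1
  · exact one_mem _
  obtain ⟨ga, hga, hia⟩ := hlift a ha ha1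
  obtain ⟨gb, hgb, hib⟩ := hlift b hb hb1
  have hmem : f (ga * gb) ∈ F := hCF (by
    rw [Subgroup.mem_centralizer_iff]
    intro w hw
    have : f (ga * gb) * w * (f (ga * gb))⁻¹ = w := by
      rw [map_mul, show f ga * f gb * w * (f ga * f gb)⁻¹ = f ga * (f gb * w * (f gb)⁻¹) * (f ga)⁻¹ by group,
        hib w hw, hia _ (F.inv_mem hw), inv_inv]
    exact (mul_inv_eq_iff_eq_mul.1 this).symm)
  have hab : a * b = 1 := by
    rw [← hga, ← hgb, ← map_mul, QuotientGroup.mk'_apply, QuotientGroup.eq_one_iff, hsupeq, Subgroup.mem_comap]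
    exact hFX hmem
  rw [eq_inv_of_mul_eq_one_left hab]
  exact inv_mem (Subgroup.mem_zpowers b)

end Cfsg.Agent.S3215
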