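import Cfsg.Statements.S3221
import Cfsg.Agent.Lib.PSpFourThree54.Generation
import Cfsg.Agent.Lib.Classical.UnitaryCentre
import Cfsg.Agent.S1614
import Cfsg.Agent.S0822

set_option autoImplicit false
open Cfsg

namespace Cfsg.Agent.S3221

/-- Let F be the field with 3 elements and t₀ an involution of PSp₄(3) = PSp₄(F) lying in the centre of a Sylow 2-subgroup. If G is a finite group of even order that has no subgroup of index 2 and contains an involution t whose centralizer C_G(t) is isomorphic to C_{PSp₄(3)}(t₀), then G ≅ PSp₄(3). -/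
theorem result {G : Type*} [Group G] [Finite G] (hev : Even (Nat.card G))
    (hG : ∀ H : Subgroup G, H.index ≠ 2) {F : Type*} [Field F] [Fintype F] (hF : Fintype.card F = 3)
    (U : Sylow 2 (Cfsg.PSp 2 F)) (t₀ : Cfsg.PSp 2 F) (ht₀ : orderOf t₀ = 2) (ht₀U : t₀ ∈ (U : Subgroup (Cfsg.PSp 2 F)))
    (ht₀c : ∀ u ∈ (U : Subgroup (Cfsg.PSp 2 F)), u * t₀ = t₀ * u) (t : G) (ht : orderOf t = 2)
    (e : ↥(Subgroup.centralizer ({t} : Set G)) ≃* ↥(Subgroup.centralizer ({t₀} : Set (Cfsg.PSp 2 F)))) :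
    Nonempty (G ≃* Cfsg.PSp 2 F) := by
  obtain ⟨el₀, hel₀⟩ := Lib.PSpFourThree54.exists_coded hF U t₀ ht₀ ht₀U ht₀c t ht e
  obtain ⟨el, h⟩ := Lib.PSpFourThree54.exists_ctx hel₀ ht hG
  haveI : Fact (Nat.Prime 2) := ⟨Nat.prime_two⟩
  have h128 : ¬ 128 ∣ Nat.card G := by
    intro hd
    obtain ⟨Q, hQ⟩ := Sylow.exists_subgroup_card_pow_prime (G := G) 2 (n := 7) (by simpa using hd)
    obtain ⟨g, hg⟩ := h.toCoded.exists_conj_le (IsPGroup.of_card hQ)
    have h1 := Subgroup.card_dvd_of_le (H := Q.map (MulAut.conj g).toMonoidHom) (K := h.toCoded.sgS)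
      (by rintro _ ⟨x, hx, rfl⟩; exact hg x hx)
    rw [Subgroup.card_map_of_injective (MulAut.conj g).injective, hQ, h.toCoded.card_sgS] at h1
    exact absurd (Nat.le_of_dvd (by norm_num) h1) (by norm_num)
  have h64 : 64 ∣ Nat.card G := by
    rw [← h.toCoded.card_sgS]
    exact Subgroup.card_subgroup_dvd_card _
  have hperf : ⁅commutator G, commutator G⁆ = commutator G := by
    rw [h.commutator_eq_top hG, ← commutator_def, h.commutator_eq_top hG]
  rcases S1614.result (h.eq_bot_of_solvable hG) hperf h.threeTranspositionClass t mem_conjugatesOf_self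
    h.isSolvable_commuting with ⟨⟨f⟩⟩ | ⟨⟨f⟩⟩ | ⟨K, hK₁, hK₂, hK, hcase⟩
  · rw [Nat.card_congr f.toEquiv, Nat.card_perm, Nat.card_fin] at h64
    norm_num [Nat.factorial] at h64
  · rw [Nat.card_congr f.toEquiv, Nat.card_perm, Nat.card_fin] at h64
    norm_num [Nat.factorial] at h64
  · rcases hcase with ⟨⟨f⟩⟩ | ⟨⟨f⟩⟩
    · obtain ⟨φ⟩ := S0822.result (F := K) (K := F) hK hF
      exact ⟨f.trans φ⟩
    · exfalso
      have hc := Lib.Classical.natCard_PSU (F := K) (q := 2) (by rw [hK]; norm_num) 5 (by norm_num)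
      rw [← Nat.card_congr f.toEquiv] at hc
      norm_num [Finset.prod_range_succ, Nat.even_iff] at hc
      omega

end Cfsg.Agent.S3221
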