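import Cfsg.Statements.S3222
import Cfsg.Agent.Lib.SixRec90.Main
import Cfsg.Agent.Lib.Burnside.Paqb
import Cfsg.Agent.S2911

set_option autoImplicit false
open Cfsg

namespace Cfsg.Agent.S3222

open Cfsg.Agent.Lib Cfsg.Agent.Lib.SixRec90
open scoped commutatorElement

theorem central_prod : ∀ a : Multiplicative (ZMod 2), a = 1 ∨ a = Multiplicative.ofAdd 1 := by
  decide

theorem one_ne_gen : (1 : Multiplicative (ZMod 2)) ≠ Multiplicative.ofAdd 1 := by decide

/-- Let G be a finite group of even order such that (1) some involution t lying in the centre of a Sylow 2-subgroup of G has C_G(t) ≅ Z₂ × S₄, and (2) every Sylow 2-subgroup S of G satisfies C_G(S′) = S, where S′ is the derived subgroup of S. Then G = C_G(t) if G is solvable, and G ≅ S₆ otherwise. -/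
theorem result {G : Type*} [Group G] [Finite G] (hev : Even (Nat.card G))
    (t : G) (ht : orderOf t = 2) (T : Sylow 2 G) (htT : t ∈ (T : Subgroup G)) (htc : ∀ s ∈ (T : Subgroup G), s * t = t * s)
    (e : ↥(Subgroup.centralizer ({t} : Set G)) ≃* (Multiplicative (ZMod 2) × Equiv.Perm (Fin 4)))
    (h2 : ∀ S : Sylow 2 G, Subgroup.centralizer ((⁅(S : Subgroup G), (S : Subgroup G)⁆ : Subgroup G) : Set G) = (S : Subgroup G)) :
    (Group.IsSolvable G → Subgroup.centralizer ({t} : Set G) = ⊤) ∧
      (¬ Group.IsSolvable G → Nonempty (G ≃* Equiv.Perm (Fin 6))) := by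
  haveI : Fact (Nat.Prime 2) := ⟨Nat.prime_two⟩
  set C := Subgroup.centralizer ({t} : Set G) with hC
  let ι : Multiplicative (ZMod 2) × S4 →* G := C.subtype.comp e.symm.toMonoidHom
  have hιinj : Function.Injective ι := C.subtype_injective.comp e.symm.injective
  have hιC : ∀ x, ι x * t = t * ι x := fun x =>
    Subgroup.mem_centralizer_singleton_iff.1 (e.symm x).2
  have hιmem : ∀ g : G, g * t = t * g → ∃ x, ι x = g := fun g hg =>
    ⟨e ⟨g, Subgroup.mem_centralizer_singleton_iff.2 hg⟩, by simp [ι]⟩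
  obtain ⟨⟨a, s⟩, hx⟩ := hιmem t rfl
  have hs : s = 1 := center_trivial s fun u =>
    congrArg Prod.snd (hιinj (by rw [map_mul, map_mul, hx, hιC]) :
      ((a, s) * ((1 : Multiplicative (ZMod 2)), u)) = ((1 : Multiplicative (ZMod 2)), u) * (a, s))
  subst hs
  have ha : a = Multiplicative.ofAdd 1 := (central_prod a).resolve_left fun h => by
    rw [h, show ((1 : Multiplicative (ZMod 2)), (1 : S4)) = 1 from rfl, map_one] at hx
    rw [← hx, orderOf_one] at ht
    omega
  subst ha
  let j : S4 →* G := ι.comp (MonoidHom.inr _ _)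
  have htj : ∀ u : S4, ι (Multiplicative.ofAdd 1, u) = t * j u := fun u => by
    rw [← hx]
    show _ = ι _ * ι (1, u)
    rw [← map_mul, Prod.mk_mul_mk, mul_one, one_mul]
  have hsplit : ∀ x, ι x = j x.2 ∨ ι x = t * j x.2 := fun x => by
    obtain ⟨b, u⟩ := x
    rcases central_prod b with rfl | rfl
    · exact Or.inl rfl
    · exact Or.inr (htj u)
  -- the Sylow subgroup
  let d : DihedralGroup 4 →* S4 := MonoidHom.mk' dmap dmap_mul
  let μ : Multiplicative (ZMod 2) × DihedralGroup 4 →* G :=
    ι.comp ((MonoidHom.id _).prodMap d)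
  have hμinj : Function.Injective μ := by
    rintro ⟨a, x⟩ ⟨b, y⟩ h
    have h' := hιinj h
    exact Prod.ext (congrArg Prod.fst h' :) (dmap_inj x y (congrArg Prod.snd h' :))
  have hμcard : Nat.card μ.range = 16 := by
    rw [← Nat.card_congr (MonoidHom.ofInjective hμinj).toEquiv, Nat.card_prod, dihedral_card,
      Nat.card_eq_fintype_card]
    rfl
  obtain ⟨P, hP⟩ := (IsPGroup.of_card (n := 4) (by rw [hμcard]; rfl) : IsPGroup 2 μ.range).exists_le_sylow
  have hCcard : Nat.card C = 48 := by
    rw [Nat.card_congr e.toEquiv, Nat.card_prod, Nat.card_eq_fintype_card,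
      Nat.card_eq_fintype_card, Fintype.card_perm, Fintype.card_fin]
    rfl
  have hPT : Nat.card P ≤ 16 := by
    rw [P.card_eq_multiplicity, ← T.card_eq_multiplicity]
    have hle : (T : Subgroup G) ≤ C := fun x hx' =>
      Subgroup.mem_centralizer_singleton_iff.2 (htc x hx')
    obtain ⟨n, hn⟩ := IsPGroup.iff_card.1 T.isPGroup'
    have hd : 2 ^ n ∣ 48 := by rw [← hn, ← hCcard]; exact Subgroup.card_dvd_of_le hle
    change Nat.card (T : Subgroup G) ≤ 16
    rw [hn]
    by_contra hlt
    push Not at hlt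
    have h5 : 5 ≤ n := by
      by_contra h5
      push Not at h5
      interval_cases n <;> simp at hlt
    have : 2 ^ 5 ∣ 48 := (pow_dvd_pow 2 h5).trans hd
    norm_num at this
  have hPeq : μ.range = (P : Subgroup G) := Subgroup.eq_of_le_of_card_ge hP (by rw [hμcard]; exact hPT)
  have hjmem : ∀ u : S4, u * z0 = z0 * u → j u ∈ (P : Subgroup G) := fun u hu => by
    obtain ⟨x, rfl⟩ := dmap_surj u hu
    rw [← hPeq]
    exact ⟨(1, x), rfl⟩
  have hder : ⁅(P : Subgroup G), (P : Subgroup G)⁆ ≤ Subgroup.zpowers (j z0) := by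
    rw [← hPeq, Subgroup.commutator_le]
    rintro _ ⟨⟨a, x⟩, rfl⟩ _ ⟨⟨b, y⟩, rfl⟩
    have h1 : ⁅μ (a, x), μ (b, y)⁆ =
        ι (a * b * a⁻¹ * b⁻¹, dmap x * dmap y * (dmap x)⁻¹ * (dmap y)⁻¹) := by
      rw [commutatorElement_def]
      show ι (a, dmap x) * ι (b, dmap y) * (ι (a, dmap x))⁻¹ * (ι (b, dmap y))⁻¹ = _
      simp only [← map_inv, ← map_mul]
      rfl
    rw [h1, show a * b * a⁻¹ * b⁻¹ = 1 by rw [mul_comm a b, mul_inv_cancel_right, mul_inv_cancel]]
    rcases commutator_mem _ _ (dmap_mem x) (dmap_mem y) with h | h <;> rw [h]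
    · rw [show ((1 : Multiplicative (ZMod 2)), (1 : S4)) = 1 from rfl, map_one]
      exact Subgroup.one_mem _
    · exact Subgroup.mem_zpowers _
  have hzder : j z0 ∈ ⁅(P : Subgroup G), (P : Subgroup G)⁆ := by
    rw [← z0_commutator, map_mul, map_mul, map_mul, map_inv, map_inv, ← commutatorElement_def]
    exact Subgroup.commutator_mem_commutator (hjmem _ v1_comm) (hjmem _ a0_comm)
  have hPz : Subgroup.centralizer ({j z0} : Set G) = (P : Subgroup G) := by
    refine le_antisymm ?_ ?_
    · intro g hg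
      rw [Subgroup.mem_centralizer_singleton_iff] at hg
      rw [← h2 P, Subgroup.mem_centralizer_iff]
      intro y hy
      obtain ⟨k, rfl⟩ := hder hy
      exact (show Commute g (j z0) from hg).zpow_right k |>.symm.eq
    · rw [← h2 P]
      exact fun g hg => Subgroup.mem_centralizer_singleton_iff.2
        (Subgroup.mem_centralizer_iff.1 hg _ hzder).symm
  let c : Setting G :=
    { t := t
      j := j
      t_sq := Involution.mul_self_eq_one ht
      t_ne := Involution.ne_one ht
      inj := fun u v h => congrArg Prod.snd (hιinj h)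
      comm := fun u => (hιC _).symm
      notMem := fun u h => by
        have := congrArg Prod.fst (hιinj (h.trans hx.symm))
        exact absurd this one_ne_gen
      cent := fun g hg => by
        obtain ⟨x, rfl⟩ := hιmem g hg
        exact ⟨x.2, hsplit x⟩
      centZ := fun g hg => by
        have hgP : g ∈ (P : Subgroup G) := hPz ▸ Subgroup.mem_centralizer_singleton_iff.2 hg
        rw [← hPeq] at hgP
        obtain ⟨⟨a, x⟩, rfl⟩ := hgP
        exact ⟨dmap x, dmap_mem x, hsplit (a, dmap x)⟩ }
  have hodd : ¬ 2 ∣ (Subgroup.centralizer ({c.j z0} : Set G)).index := by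
    show ¬ 2 ∣ (Subgroup.centralizer ({j z0} : Set G)).index
    rw [hPz]
    exact P.not_dvd_index
  obtain ⟨H, hH⟩ := Cfsg.Agent.S2911.result P
    ⟨((MulEquiv.subgroupCongr hPeq.symm).trans (MonoidHom.ofInjective hμinj).symm)⟩
  have hmain : C = ⊤ ∨ Nonempty (G ≃* Equiv.Perm (Fin 6)) := c.recognise hH hodd
  refine ⟨fun hsol => ?_, fun hns => ?_⟩
  · refine hmain.resolve_right fun ⟨φ⟩ => ?_
    refine Equiv.Perm.not_solvable (Fin 6) (by rw [Cardinal.mk_fin]; norm_num) ?_
    haveI := hsol
    exact solvable_of_surjective (f := φ.toMonoidHom) φ.surjective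
  · refine hmain.resolve_left fun htop => hns ?_
    refine Burnside.isSolvable_of_card_eq_prime_pow_mul (a := 4) (b := 1) Nat.prime_two Nat.prime_three ?_
    rw [← Subgroup.card_top (G := G), ← htop, hCcard]
    rfl

end Cfsg.Agent.S3222
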