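import Mathlib
import Cfsg.Agent.Lib.MaxClass.SmallCentralizer
import Cfsg.Statements.S3224

set_option autoImplicit false
open Cfsg

namespace Cfsg.Agent.S3224

/-- A finite 2-group containing an involution whose centralizer has order 4 is dihedral, quasi-dihedral (semidihedral), or of order 4. -/
theorem result {S : Type*} [Group S] [Finite S] (hS : IsPGroup 2 S)
    (x : S) (hx : orderOf x = 2) (hC : Nat.card ↥(Subgroup.centralizer ({x} : Set S)) = 4) :
    (∃ n : ℕ, Nonempty (S ≃* DihedralGroup n)) ∨ Cfsg.IsQuasiDihedral S ∨ Nat.card S = 4 := by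
  rcases Lib.MaxClass.hasReflection_or_card_eq_four _ S rfl hS x hx hC with h | h
  · have hxx : x * x = 1 := by
      have h1 := pow_orderOf_eq_one x
      rwa [hx, pow_two] at h1
    rcases Lib.MaxClass.eq_dihedral_or_quasi hxx h with h1 | h1
    · exact Or.inl h1
    · exact Or.inr (Or.inl h1)
  · exact Or.inr (Or.inr h)

end Cfsg.Agent.S3224
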