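import Cfsg.Statements.S3225
import Mathlib
-- import your own Cfsg.Agent.* helpers here

set_option autoImplicit false
open Cfsg

namespace Cfsg.Agent.S3225

/-- Let G be a finite group of even order with no subgroup of index 2, S a Sylow 2-subgroup of G and M a subgroup of index 2 in S such that, for some n ≥ 1, every element of S outside M has order greater than 2^(n−1). Then every element of S of order 2ⁿ is conjugate in G to an element of M. -/
theorem result {G : Type*} [Group G] [Finite G] (hev : Even (Nat.card G))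
    (hG : ∀ H : Subgroup G, H.index ≠ 2) (S : Sylow 2 G) (M : Subgroup G) (hMS : M ≤ (S : Subgroup G)) (hM : M.relIndex (S : Subgroup G) = 2)
    (n : ℕ) (hn : 1 ≤ n) (hord : ∀ y ∈ (S : Subgroup G), y ∉ M → 2 ^ (n - 1) < orderOf y)
    (x : G) (hx : x ∈ (S : Subgroup G)) (hxn : orderOf x = 2 ^ n) :
    ∃ g : G, g * x * g⁻¹ ∈ M := by
  haveI : Fact (Nat.Prime 2) := ⟨Nat.prime_two⟩
  classical
  by_contra hne
  push Not at hne
  have hidx : (M.subgroupOf (S : Subgroup G)).index = 2 := hM
  let φ : (S : Subgroup G) →* ℤˣ :=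
    { toFun := fun s => if s ∈ M.subgroupOf (S : Subgroup G) then 1 else -1
      map_one' := by simp
      map_mul' := fun a b => by
        by_cases ha : a ∈ M.subgroupOf (S : Subgroup G) <;>
        by_cases hb : b ∈ M.subgroupOf (S : Subgroup G) <;>
        simp [ha, hb, Subgroup.mul_mem_iff_of_index_two hidx] }
  haveI : Fintype (Quotient (MulAction.orbitRel (Subgroup.zpowers x) (G ⧸ (S : Subgroup G)))) :=
    Fintype.ofFinite _
  have hval : MonoidHom.transfer φ x = -1 := by
    rw [MonoidHom.transfer_eq_prod_quotient_orbitRel_zpowers_quot φ x]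
    have hstep : ∀ q : Quotient (MulAction.orbitRel (Subgroup.zpowers x) (G ⧸ (S : Subgroup G))),
        φ ⟨q.out.out⁻¹ * x ^ Function.minimalPeriod (x • ·) q.out * q.out.out,
          QuotientGroup.out_conj_pow_minimalPeriod_mem (S : Subgroup G) x q.out⟩
        = (-1) ^ Function.minimalPeriod (x • ·) q.out := by
      intro q
      have hdvd : Function.minimalPeriod (x • ·) q.out ∣ 2 ^ n := by
        rw [← hxn, ← MulAction.pow_smul_eq_iff_minimalPeriod_dvd, pow_orderOf_eq_one, one_smul]
      suffices gen : ∀ (k : ℕ) (hm : q.out.out⁻¹ * x ^ k * q.out.out ∈ (S : Subgroup G)), k ∣ 2 ^ n →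
          φ ⟨_, hm⟩ = (-1) ^ k from gen _ _ hdvd
      clear hdvd
      intro k hmem hdvd
      obtain ⟨i, hin, rfl⟩ := (Nat.dvd_prime_pow Nat.prime_two).1 hdvd
      simp only [φ, MonoidHom.coe_mk, OneHom.coe_mk, Subgroup.mem_subgroupOf]
      rcases i with _ | i
      · rw [if_neg (fun h => hne q.out.out⁻¹ (by simpa using h))]
        simp
      · rw [if_pos, Even.neg_one_pow (Nat.even_pow.2 ⟨even_two, Nat.succ_ne_zero i⟩)]
        by_contra hnot
        have h1 := hord _ hmem hnot
        have h2 : orderOf (q.out.out⁻¹ * x ^ 2 ^ (i + 1) * q.out.out) ≤ 2 ^ (n - 1) := by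
          refine Nat.le_of_dvd (by positivity) (orderOf_dvd_of_pow_eq_one ?_)
          have hpow : (x ^ 2 ^ (i + 1)) ^ 2 ^ (n - 1) = 1 := by
            rw [← pow_mul, ← pow_add, show i + 1 + (n - 1) = n + i by omega, pow_add, pow_mul,
              ← hxn, pow_orderOf_eq_one, one_pow]
          have := conj_pow (i := 2 ^ (n - 1)) (a := q.out.out⁻¹) (b := x ^ 2 ^ (i + 1))
          rw [inv_inv] at this
          rw [this, hpow]; simp
        omega
    rw [Finset.prod_congr rfl (fun q _ => hstep q), Finset.prod_pow_eq_pow_sum]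
    have hsum : (∑ q : Quotient (MulAction.orbitRel (Subgroup.zpowers x) (G ⧸ (S : Subgroup G))),
        Function.minimalPeriod (x • ·) q.out) = (S : Subgroup G).index := by
      rw [Subgroup.index, Nat.card_congr (Subgroup.quotientEquivSigmaZMod (S : Subgroup G) x), Nat.card_sigma]
      simp [Nat.card_zmod]
    rw [hsum]
    refine Odd.neg_one_pow ?_
    rw [← Nat.not_even_iff_odd, even_iff_two_dvd]
    exact S.not_dvd_index
  refine hG (MonoidHom.transfer φ).ker ?_
  rw [Subgroup.index_ker]
  have hr : (MonoidHom.transfer φ).range = ⊤ := by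
    rw [eq_top_iff]; intro u _
    rcases Int.units_eq_one_or u with rfl | rfl
    · exact one_mem _
    · exact ⟨x, hval⟩
  simp [hr]

end Cfsg.Agent.S3225
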