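import Cfsg.Statements.S3239
import Cfsg.Agent.Lib.JankoUnique.Weak.Main
import Mathlib

set_option autoImplicit false
open Cfsg

namespace Cfsg.Agent.S3239

open Cfsg.Agent.Lib
open Cfsg.Agent.Lib.JankoOrder (Cen2A5 cz ci)
open Subgroup

theorem cz_facts : cz * cz = (1 : Cen2A5) ∧ cz ≠ 1 ∧ (∀ g : Cen2A5, g * ci * g⁻¹ ≠ cz) ∧
    ∀ g : Cen2A5, g * (cz * ci) * g⁻¹ ≠ cz :=
  ⟨by decide +kernel, by decide +kernel, JankoOrder.cen_misc.2.2.2.2.2.1, JankoOrder.cen_misc.2.2.2.2.2.2⟩

/-- Let t be an involution of a finite group G lying in the centre of a Sylow 2-subgroup of G, and suppose the weak closure of t in C_G(t) — the subgroup generated by all G-conjugates of t that commute with t — is isomorphic to Z₂ × A₅. Then the normal closure ⟨t^G⟩ of t in G is isomorphic to the first Janko group J₁. -/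
theorem result {G : Type*} [Group G] [Finite G]
    (t : G) (ht : orderOf t = 2) (S : Sylow 2 G) (htS : t ∈ (S : Subgroup G)) (htc : ∀ s ∈ (S : Subgroup G), s * t = t * s)
    (hW : Nonempty (↥(Subgroup.closure {x : G | ∃ g : G, x = g * t * g⁻¹ ∧ x * t = t * x}) ≃*
      (Multiplicative (ZMod 2) × ↥(alternatingGroup (Fin 5))))) :
    Cfsg.Spor.IsoJ1 ↥(Subgroup.normalClosure ({t} : Set G)) := by
  classical
  obtain ⟨φ₀⟩ := hW
  set X : Set G := {x : G | ∃ g : G, x = g * t * g⁻¹ ∧ x * t = t * x} with hX
  set W := closure X with hWdef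
  let φ : W ≃* Cen2A5 := φ₀
  have htX : t ∈ X := ⟨1, by group, rfl⟩
  have hcW : ∀ w ∈ W, w * t = t * w := fun w hw => by
    refine (mem_centralizer_singleton_iff.mp ((closure_le (centralizer ({t} : Set G))).mpr ?_ hw) :)
    rintro x ⟨g, -, hx⟩
    exact mem_centralizer_singleton_iff.mpr hx
  let tW : W := ⟨t, Subgroup.subset_closure htX⟩
  have htz : φ tW = cz := by
    have hc : ∀ k : Cen2A5, φ tW * k = k * φ tW := fun k => by
      obtain ⟨w, rfl⟩ := φ.surjective k
      rw [← map_mul, ← map_mul]
      exact congrArg φ (Subtype.ext (hcW w w.2).symm)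
    refine (JankoOrder.cen_center (φ tW) (hc _) (hc _)).resolve_left fun h => ?_
    have h1 : tW = 1 := (map_eq_one_iff φ φ.injective).mp h
    exact Involution.ne_one ht (congrArg Subtype.val h1)
  let ι : Cen2A5 →* G := W.subtype.comp φ.symm.toMonoidHom
  have hι : Function.Injective ι := W.subtype_injective.comp φ.symm.injective
  have hιz : ι cz = t := by
    show ((φ.symm cz : W) : G) = t
    rw [← htz, φ.symm_apply_apply]
  have hmem : ∀ x, IsConj t x → x * t = t * x → x ∈ W := fun x hx hc => by
    obtain ⟨g, rfl⟩ := isConj_iff.mp hx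
    exact Subgroup.subset_closure ⟨g, rfl, hc⟩
  have hweak : ∀ x, IsConj t x → x * t = t * x → ∃ k, ι k = x := fun x hx hc =>
    ⟨φ ⟨x, hmem x hx hc⟩, by show ((φ.symm (φ _) : W) : G) = x; rw [φ.symm_apply_apply]⟩
  have hconjι : ∀ a g : Cen2A5, IsConj (ι a) (ι (g * a * g⁻¹)) := fun a g =>
    isConj_iff.mpr ⟨ι g, by rw [map_mul, map_mul, map_inv]⟩
  -- the class has odd size
  haveI := Fintype.ofFinite G
  set C := centralizer ({t} : Set G) with hC
  have hSC : (S : Subgroup G) ≤ C := fun s hs => mem_centralizer_singleton_iff.mpr (htc s hs)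
  set T := Finset.univ.filter fun u : G => IsConj t u with hT
  have hTodd : (T.card : ZMod 2) = 1 := by
    rw [ZMod.natCast_eq_one_iff_odd, ← Nat.not_even_iff_odd, even_iff_two_dvd]
    intro h2
    have h := Involution.card_isConj_mul_card_centralizer t
    rw [← C.index_mul_card, Nat.card_eq_fintype_card (α := {y : G // IsConj t y}),
      Fintype.card_subtype] at h
    have hi : T.card = C.index := Nat.eq_of_mul_eq_mul_right Nat.card_pos h
    exact S.not_dvd_index (h2.trans (hi ▸ index_dvd_of_le hSC))
  have htt : t * t = 1 := Involution.mul_self_eq_one ht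
  let Tf := T.filter fun u => u * t = t * u
  have hTf : (Tf.card : ZMod 2) = 1 := by
    rw [← hTodd, Finset.card_eq_sum_ones, Finset.card_eq_sum_ones, Nat.cast_sum, Nat.cast_sum]
    rw [← Finset.sum_filter_add_sum_filter_not T (fun x => x * t = t * x)]
    refine (add_eq_left.mpr ?_).symm
    refine Finset.sum_involution (fun x _ => t * x * t⁻¹)
      (fun x _ => by rw [Nat.cast_one]; exact CharTwo.add_self_eq_zero 1)
      (fun x hx _ h => (Finset.mem_filter.mp hx).2 (mul_inv_eq_iff_eq_mul.mp h).symm)
      (fun x hx => ?_) (fun x _ => ?_)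
    · simp only [T, Finset.mem_filter, Finset.mem_univ, true_and] at hx ⊢
      refine ⟨hx.1.trans (isConj_iff.mpr ⟨t, rfl⟩), fun h => hx.2 ?_⟩
      exact mul_left_cancel (a := t) (mul_right_cancel (b := t⁻¹) (by
        calc t * (x * t) * t⁻¹ = (t * x * t⁻¹) * t := by group
          _ = t * (t * x * t⁻¹) := h
          _ = t * (t * x) * t⁻¹ := by group))
    · rw [Involution.inv_eq_self htt]
      calc t * (t * x * t) * t = (t * t) * x * (t * t) := by group
        _ = x := by rw [htt, one_mul, mul_one]
  let F := Finset.univ.filter fun k : Cen2A5 => IsConj t (ι k)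
  have hTfF : Tf = F.image ι := by
    ext u
    simp only [Tf, F, T, Finset.mem_filter, Finset.mem_univ, true_and, Finset.mem_image]
    constructor
    · rintro ⟨hu, hc⟩
      obtain ⟨k, rfl⟩ := hweak u hu hc
      exact ⟨k, hu, rfl⟩
    · rintro ⟨k, hk, rfl⟩
      exact ⟨hk, hcW _ (φ.symm k).2⟩
  rw [hTfF, Finset.card_image_of_injective _ hι] at hTf
  have hinvF : ∀ k ∈ F, k = cz ∨ (∃ g, g * ci * g⁻¹ = k) ∨ ∃ g, g * (cz * ci) * g⁻¹ = k := by
    intro k hk
    simp only [F, Finset.mem_filter, Finset.mem_univ, true_and] at hk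
    have h2 := (Involution.isConj_orderOf hk).trans ht
    by_cases hkz : k = cz
    · exact Or.inl hkz
    exact Or.inr (JankoOrder.cen_involution_conj k
      (hι (by rw [map_mul, map_one]; exact Involution.mul_self_eq_one h2))
      (fun e => Involution.ne_one h2 (by rw [e, map_one])) hkz)
  let A : Finset Cen2A5 := if IsConj t (ι ci) then
    Finset.univ.filter fun k => ∃ g, g * ci * g⁻¹ = k else ∅
  let B : Finset Cen2A5 := if IsConj t (ι (cz * ci)) then
    Finset.univ.filter fun k => ∃ g, g * (cz * ci) * g⁻¹ = k else ∅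
  have hFeq : F = insert cz (A ∪ B) := by
    ext k
    constructor
    · intro hk
      have hk' := hk
      simp only [F, Finset.mem_filter, Finset.mem_univ, true_and] at hk'
      rcases hinvF k hk with h | ⟨g, hg⟩ | ⟨g, hg⟩
      · exact Finset.mem_insert.mpr (Or.inl h)
      · refine Finset.mem_insert_of_mem (Finset.mem_union_left _ ?_)
        have : IsConj t (ι ci) := hk'.trans (hg ▸ (hconjι ci g)).symm
        simp only [A, if_pos this, Finset.mem_filter, Finset.mem_univ, true_and]
        exact ⟨g, hg⟩
      · refine Finset.mem_insert_of_mem (Finset.mem_union_right _ ?_)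
        have : IsConj t (ι (cz * ci)) := hk'.trans (hg ▸ (hconjι (cz * ci) g)).symm
        simp only [B, if_pos this, Finset.mem_filter, Finset.mem_univ, true_and]
        exact ⟨g, hg⟩
    · intro hk
      simp only [F, Finset.mem_filter, Finset.mem_univ, true_and]
      rcases Finset.mem_insert.mp hk with rfl | hk
      · rw [hιz]
      rcases Finset.mem_union.mp hk with hk | hk
      · simp only [A] at hk
        split_ifs at hk with h
        · obtain ⟨-, g, rfl⟩ := Finset.mem_filter.mp hk
          exact h.trans (hconjι ci g)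
        · simp at hk
      · simp only [B] at hk
        split_ifs at hk with h
        · obtain ⟨-, g, rfl⟩ := Finset.mem_filter.mp hk
          exact h.trans (hconjι _ g)
        · simp at hk
  have hcard : F.card = 1 + (if IsConj t (ι ci) then 15 else 0) + (if IsConj t (ι (cz * ci)) then 15 else 0) := by
    have hAB : Disjoint A B := by
      rw [Finset.disjoint_left]
      intro k hkA hkB
      simp only [A, B] at hkA hkB
      split_ifs at hkA hkB <;>
        simp only [Finset.notMem_empty, Finset.mem_filter, Finset.mem_univ, true_and] at hkA hkB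
      exact JankoOrder.cen_fst_ne hkA.choose hkB.choose (by rw [hkA.choose_spec, hkB.choose_spec])
    have hz : cz ∉ A ∪ B := by
      simp only [A, B, Finset.mem_union, not_or]
      constructor <;> split_ifs <;>
        simp only [Finset.notMem_empty, Finset.mem_filter, Finset.mem_univ, true_and, not_false_eq_true]
      · exact not_exists.mpr cz_facts.2.2.1
      · exact not_exists.mpr cz_facts.2.2.2
    rw [hFeq, Finset.card_insert_of_notMem hz, Finset.card_union_of_disjoint hAB, add_comm _ 1, add_assoc]
    congr 1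
    congr 1
    · simp only [A]; split_ifs <;> [exact JankoOrder.cen_card_class.1; rfl]
    · simp only [B]; split_ifs <;> [exact JankoOrder.cen_card_class.2; rfl]
  have hboth : IsConj t (ι ci) ∧ IsConj t (ι (cz * ci)) := by
    by_cases h0 : IsConj t (ι ci) <;> by_cases h1 : IsConj t (ι (cz * ci))
    · exact ⟨h0, h1⟩
    · rw [hcard, if_pos h0, if_neg h1] at hTf; exact absurd hTf JankoOrder.cen_parity.1
    · rw [hcard, if_neg h0, if_pos h1] at hTf; exact absurd hTf JankoOrder.cen_parity.2
    · exfalso
      -- then the weak closure would be abelian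
      have hA : A = ∅ := if_neg h0
      have hB : B = ∅ := if_neg h1
      have hXt : ∀ x ∈ X, x = t := by
        rintro x ⟨g, rfl, hx⟩
        obtain ⟨k, hk⟩ := hweak _ (isConj_iff.mpr ⟨g, rfl⟩) hx
        have hkF : k ∈ F := by
          simp only [F, Finset.mem_filter, Finset.mem_univ, true_and]
          exact hk ▸ isConj_iff.mpr ⟨g, rfl⟩
        rw [hFeq, hA, hB, Finset.empty_union, insert_empty_eq, Finset.mem_singleton] at hkF
        rw [← hk, hkF, hιz]
      have hle : W ≤ zpowers t := (closure_le _).mpr fun x hx => by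
        rw [hXt x hx]; exact mem_zpowers t
      have := card_dvd_of_le hle
      rw [Nat.card_zpowers, ht, Nat.card_congr φ.toEquiv, Nat.card_eq_fintype_card, JankoOrder.cen_card] at this
      norm_num at this
  let D : JankoUnique.Weak.WData G :=
    { hom := ι
      inj := hι
      fus := fun k hk hk1 => by
        rw [hιz]
        by_cases hkz : k = cz
        · rw [hkz, hιz]
        rcases JankoOrder.cen_involution_conj k hk hk1 hkz with ⟨g, rfl⟩ | ⟨g, rfl⟩
        · exact hboth.1.trans (hconjι ci g)
        · exact hboth.2.trans (hconjι _ g)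
      weak := fun x hx hc => hweak x (hιz ▸ hx) (hιz ▸ hc) }
  have := JankoUnique.Weak.main D
  rwa [show D.t = t from hιz] at this

end Cfsg.Agent.S3239
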