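import Mathlib
import Cfsg.Agent.Lib.PSolvable.ConstrainedExt
import Cfsg.Agent.Lib.Involution.NormalFour
import Cfsg.Agent.Lib.Coprime.Generation
import Cfsg.Agent.Lib.LocalChar.Basic
import Cfsg.Statements.S3246

set_option autoImplicit false
open Cfsg

namespace Cfsg.Agent.S3246

open Subgroup

theorem mem_zpowers_two {G : Type*} [Group G] {z w : G} (hzz : z * z = 1) (h : w ∈ zpowers z) :
    w = 1 ∨ w = z := by
  obtain ⟨n, rfl⟩ := mem_zpowers_iff.mp h
  rcases Int.even_or_odd n with ⟨j, hj⟩ | ⟨j, hj⟩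
  · exact Or.inl (by rw [hj, ← two_mul, zpow_mul, zpow_two, hzz, one_zpow])
  · exact Or.inr (by rw [hj, zpow_add, zpow_mul, zpow_two, hzz, one_zpow, one_mul, zpow_one])

theorem mem_closure_four {G : Type*} [Group G] {u z : G} (hu : u * u = 1) (hz : z * z = 1)
    (hc : u * z = z * u) :
    ∀ w ∈ closure ({u, z} : Set G), w = 1 ∨ w = u ∨ w = z ∨ w = z * u := by
  intro w hw
  have h1 : ∀ x, z * (z * x) = x := fun x => by rw [← mul_assoc, hz, one_mul]
  have h2 : ∀ x, u * (u * x) = x := fun x => by rw [← mul_assoc, hu, one_mul]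
  have h3 : ∀ x, u * (z * x) = z * (u * x) := fun x => by rw [← mul_assoc, hc, mul_assoc]
  induction hw using Subgroup.closure_induction with
  | mem x hx => rcases hx with rfl | rfl <;> simp
  | one => simp
  | mul x y _ _ hx hy =>
    rcases hx with rfl | rfl | rfl | rfl <;> rcases hy with rfl | rfl | rfl | rfl <;>
      simp [mul_assoc, hu, hz, hc, h1, h2, h3]
  | inv x _ hx =>
    have hiu := inv_eq_of_mul_eq_one_right hu
    have hiz := inv_eq_of_mul_eq_one_right hz
    rcases hx with rfl | rfl | rfl | rfl <;> simp [mul_inv_rev, hiu, hiz, hc]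

/-- An element with at most two `S`-conjugates has centraliser of index at most `2` in `S`. -/
theorem card_le_two_mul_centralizer {G : Type*} [Group G] [Finite G] (S : Subgroup G) (e : ↥S)
    (he : ∀ g h : ↥S, g * e * g⁻¹ ≠ e → h * e * h⁻¹ ≠ e → g * e * g⁻¹ = h * e * h⁻¹) :
    Nat.card ↥S ≤ 2 * Nat.card ↥(S ⊓ centralizer {(e : G)}) := by
  set C := (S ⊓ centralizer {(e : G)}).subgroupOf S with hC
  have hmem : ∀ g : ↥S, g ∈ C ↔ g * e * g⁻¹ = e := fun g => by
    rw [hC, mem_subgroupOf, mem_inf, mem_centralizer_singleton_iff, mul_inv_eq_iff_eq_mul,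
      Subtype.ext_iff]
    exact ⟨fun h => h.2, fun h => ⟨g.2, h⟩⟩
  have hidx : C.index ≤ 2 := by
    by_cases hall : ∀ g, g ∈ C
    · rw [show C = ⊤ from eq_top_iff.mpr fun g _ => hall g, index_top]; norm_num
    · rw [not_forall] at hall
      obtain ⟨g, hg⟩ := hall
      refine le_of_eq (index_eq_two_iff.mpr ⟨g, fun b => ?_⟩)
      by_cases hb : b ∈ C
      · exact Or.inr ⟨hb, fun h => hg ((mul_mem_cancel_left hb).mp h)⟩
      · refine Or.inl ⟨(hmem _).mpr ?_, hb⟩
        have h1 : b⁻¹ * e * b⁻¹⁻¹ ≠ e := fun h => hb (inv_mem_iff.mp ((hmem _).mpr h))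
        have h2 := he g b⁻¹ (fun h => hg ((hmem g).mpr h)) h1
        calc b * g * e * (b * g)⁻¹ = b * (g * e * g⁻¹) * b⁻¹ := by group
          _ = e := by rw [h2]; group
  have h3 := C.card_mul_index
  rw [Nat.card_congr (subgroupOfEquivOfLe inf_le_left).toEquiv] at h3
  rw [← h3, mul_comm]
  exact Nat.mul_le_mul_right _ hidx

theorem normalizer_zpowers_eq {G : Type*} [Group G] {t : G} (ht : orderOf t = 2) :
    Subgroup.normalizer (zpowers t : Set G) = centralizer ({t} : Set G) := by
  have htt : t * t = 1 := by rw [← pow_two, ← ht, pow_orderOf_eq_one]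
  have ht1 : t ≠ 1 := fun h => by simp [h] at ht
  ext g
  rw [mem_centralizer_singleton_iff, mem_normalizer_iff]
  constructor
  · intro h
    rcases mem_zpowers_two htt ((h t).mp (mem_zpowers t)) with h1 | h1
    · refine absurd ?_ ht1
      calc t = g⁻¹ * (g * t * g⁻¹) * g := by group
        _ = 1 := by rw [h1]; group
    · exact mul_inv_eq_iff_eq_mul.mp h1
  · intro h w
    constructor
    · intro hw
      rcases mem_zpowers_two htt hw with rfl | rfl
      · simp
      · rw [h, mul_inv_cancel_right]; exact mem_zpowers _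
    · intro hw
      have hfix : g⁻¹ * t * g = t := by rw [mul_assoc, ← h, inv_mul_cancel_left]
      rcases mem_zpowers_two htt hw with h1 | h1
      · have : w = 1 := by
          calc w = g⁻¹ * (g * w * g⁻¹) * g := by group
            _ = 1 := by rw [h1]; group
        rw [this]; exact one_mem _
      · have : w = g⁻¹ * t * g := by rw [← h1]; group
        rw [this, hfix]; exact mem_zpowers _

/-- An element of odd order acting on a `2`-group `R` and centralising a subgroup of index at most `2`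
centralises `R`. -/
theorem mem_centralizer_of_relIndex_le_two {G : Type*} [Group G] [Finite G] {R K : Subgroup G}
    (hR : IsPGroup 2 ↥R) (hKR : K ≤ R) (hidx : K.relIndex R ≤ 2) {x : G}
    (hx : Nat.Coprime (orderOf x) 2) (hxR : x ∈ normalizer (R : Set G))
    (hxK : x ∈ centralizer (K : Set G)) : x ∈ centralizer (R : Set G) := by
  refine Lib.LocalChar.mem_centralizer_of_two_step hR hKR hx hxK fun r hr => ?_
  have hr' : x * r⁻¹ * x⁻¹ ∈ R := (mem_normalizer_iff.mp hxR r⁻¹).mp (inv_mem hr)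
  have hpos : K.relIndex R ≠ 0 := Subgroup.index_ne_zero_of_finite
  rcases (show K.relIndex R = 1 ∨ K.relIndex R = 2 by omega) with h | h
  · have hRK := Subgroup.relIndex_eq_one.mp h
    refine hRK ?_
    rw [commutatorElement_def, mul_assoc r, mul_assoc r]
    exact R.mul_mem hr hr'
  · have hiff : r ∈ K ↔ x * r⁻¹ * x⁻¹ ∈ K := by
      constructor
      · intro hk
        rwa [← Subgroup.mem_centralizer_iff.mp hxK _ (inv_mem hk), mul_inv_cancel_right, inv_mem_iff]
      · intro hk
        have := Subgroup.mem_centralizer_iff.mp hxK _ hk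
        rw [inv_mul_cancel_right] at this
        have h1 : r⁻¹ = x * r⁻¹ * x⁻¹ := mul_left_cancel this
        rw [← h1, inv_mem_iff] at hk
        exact hk
    have h2 := Subgroup.mul_mem_iff_of_index_two (H := K.subgroupOf R) h
      (a := (⟨r, hr⟩ : R)) (b := ⟨x * r⁻¹ * x⁻¹, hr'⟩)
    rw [mem_subgroupOf, mem_subgroupOf, mem_subgroupOf] at h2
    rw [commutatorElement_def, mul_assoc r, mul_assoc r]
    exact h2.mpr hiff

/-- A `2`-element `e` of a Sylow `2`-subgroup `S`, whose centraliser in `S` has index at most `2`,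
centralises nothing in an `S`-invariant subgroup of odd order, if `C(e)` has characteristic `2`. -/
theorem inf_centralizer_eq_bot {G : Type*} [Group G] [Finite G] (S : Sylow 2 G) (X : Subgroup G)
    (hX : Odd (Nat.card ↥X)) (hSX : (S : Subgroup G) ≤ normalizer (X : Set G)) (e : G)
    (hidx : Nat.card ↥(S : Subgroup G) ≤ 2 * Nat.card ↥((S : Subgroup G) ⊓ centralizer {e}))
    (hL : centralizer (pCore 2 ↥(centralizer ({e} : Set G)) : Set ↥(centralizer ({e} : Set G))) ≤
      pCore 2 ↥(centralizer ({e} : Set G))) :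
    X ⊓ centralizer {e} = ⊥ := by
  have : Fact (Nat.Prime 2) := ⟨Nat.prime_two⟩
  set L := centralizer ({e} : Set G) with hLdef
  set Se := (S : Subgroup G) ⊓ L with hSe
  set R := pCoreOf 2 L with hRdef
  have hRp : IsPGroup 2 ↥R := Lib.CharP.pCoreOf_isPGroup L
  have hSep : IsPGroup 2 ↥Se := S.isPGroup'.to_le inf_le_left
  have hRL : R ≤ L := Lib.CharP.pCoreOf_le L
  have hLR : L ≤ normalizer (R : Set G) := Lib.CharP.le_normalizer_pCoreOf L
  have hP : IsPGroup 2 ↥(Se ⊔ R) := hSep.to_sup_of_normal_right' hRp (inf_le_right.trans hLR)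
  obtain ⟨P, hPle⟩ := hP.exists_le_sylow
  have hcard : Nat.card ↥(Se ⊔ R : Subgroup G) ≤ Nat.card ↥(S : Subgroup G) := by
    refine (Nat.le_of_dvd Nat.card_pos (card_dvd_of_le hPle)).trans (le_of_eq ?_)
    rw [P.card_eq_multiplicity, S.card_eq_multiplicity]
  have hrel : Se.relIndex (Se ⊔ R) ≤ 2 := by
    have h1 := Lib.PSolvable.card_mul_relIndex (le_sup_left : Se ≤ Se ⊔ R)
    have h2 : 0 < Nat.card ↥Se := Nat.card_pos
    nlinarith [h1, h2, hidx, hcard]
  have hKidx : (Se ⊓ R).relIndex R ≤ 2 := by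
    rw [Subgroup.inf_relIndex_right]
    exact (Subgroup.relIndex_le_of_le_right le_sup_right Subgroup.index_ne_zero_of_finite).trans hrel
  rw [eq_bot_iff]
  intro y hy
  have hyodd : Nat.Coprime (orderOf y) 2 :=
    Nat.coprime_two_right.mpr (hX.of_dvd_nat (X.orderOf_dvd_natCard hy.1))
  rw [Subgroup.mem_bot]
  refine Lib.CharP.eq_one_of_centralizes_pCoreOf hL hy.2 hyodd
    (mem_centralizer_of_relIndex_le_two hRp inf_le_right hKidx hyodd (hLR hy.2) ?_)
  refine Subgroup.mem_centralizer_iff.mpr fun k hk => ?_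
  have hk1 : k * y * k⁻¹ * y⁻¹ ∈ X :=
    X.mul_mem ((mem_normalizer_iff.mp (hSX hk.1.1) y).mp hy.1) (inv_mem hy.1)
  have hk2 : k * y * k⁻¹ * y⁻¹ ∈ R := by
    rw [mul_assoc k, mul_assoc k]
    exact R.mul_mem hk.2 ((mem_normalizer_iff.mp (hLR hy.2) k⁻¹).mp (inv_mem hk.2))
  have h1 : k * y * k⁻¹ * y⁻¹ = 1 :=
    Lib.CharP.eq_one_of_mem_of_coprime hRp hk2
      (Nat.coprime_two_right.mpr (hX.of_dvd_nat (X.orderOf_dvd_natCard hk1)))
  rwa [mul_inv_eq_one, mul_inv_eq_iff_eq_mul] at h1

/-- Let G be a finite group whose Sylow 2-subgroup S has a self-centralizing normal subgroup of rank at least 3. Suppose that either every maximal 2-local subgroup of G is 2-constrained with no nontrivial normal subgroup of odd order, or the centralizer of every involution of G is 2-constrained with no nontrivial normal subgroup of odd order. Then S normalizes no nontrivial subgroup of G of odd order and every 2-local subgroup of G is 2-constrained. -/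
theorem result {G : Type*} [Group G] [Finite G]
    (S : Sylow 2 G) (A : Subgroup G) (hA : Cfsg.IsSCN (S : Subgroup G) A) (hA3 : ¬ Cfsg.PRankLE 2 2 ↥A)
    (h : (∀ M : Subgroup G, Cfsg.IsMaximalTwoLocal M → Cfsg.IsPConstrained 2 ↥M ∧ Cfsg.oddCore ↥M = ⊥) ∨
      (∀ t : G, orderOf t = 2 → Cfsg.IsPConstrained 2 ↥(Subgroup.centralizer ({t} : Set G)) ∧
        Cfsg.oddCore ↥(Subgroup.centralizer ({t} : Set G)) = ⊥)) :
    (∀ X : Subgroup G, Odd (Nat.card ↥X) → (S : Subgroup G) ≤ Subgroup.normalizer (X : Set G) → X = ⊥) ∧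
      (∀ T : Subgroup G, IsPGroup 2 ↥T → T ≠ ⊥ → Cfsg.IsPConstrained 2 ↥(Subgroup.normalizer (T : Set G))) := by
  have : Fact (Nat.Prime 2) := ⟨Nat.prime_two⟩
  have hchar : ∀ t : G, orderOf t = 2 →
      centralizer (pCore 2 ↥(centralizer ({t} : Set G)) : Set ↥(centralizer ({t} : Set G))) ≤
        pCore 2 ↥(centralizer ({t} : Set G)) := by
    intro t ht
    rcases h with h | h
    · have hn : Subgroup.normalizer (zpowers t : Set G) = centralizer ({t} : Set G) := by
        exact normalizer_zpowers_eq ht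
      have htp : IsPGroup 2 ↥(zpowers t) :=
        IsPGroup.of_card (n := 1) (by rw [Nat.card_zpowers, ht, pow_one])
      have hloc : IsTwoLocal (centralizer ({t} : Set G)) :=
        ⟨zpowers t, htp, fun h0 => by simp [zpowers_eq_bot.mp h0] at ht, hn.symm⟩
      obtain ⟨M, hCM, hM⟩ := Finite.exists_le_maximal (p := IsTwoLocal) hloc
      have hMmax : IsMaximalTwoLocal M := ⟨hM.1, fun N hN hle => le_antisymm (hM.2 hN hle) hle⟩
      obtain ⟨hMc, hM0⟩ := h M hMmax
      have hMchar := (Lib.PSolvable.isPConstrained_iff_of_pPrimeCore_eq_bot hM0).mp hMc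
      have htM : zpowers t ≤ M :=
        zpowers_le.mpr (hCM (mem_centralizer_singleton_iff.mpr rfl))
      have htp' : IsPGroup 2 ↥((zpowers t).subgroupOf M) := htp.comap_subtype
      have h2 := Lib.CharP.centralizer_pCore_normalizer_le hMchar htp'
      rw [← subgroupOf_normalizer_eq htM, hn] at h2
      exact Lib.PSolvable.centralizer_pCore_le_of_equiv (subgroupOfEquivOfLe hCM) h2
    · exact (Lib.PSolvable.isPConstrained_iff_of_pPrimeCore_eq_bot (h t ht).2).mp (h t ht).1
  refine ⟨fun X hX hSX => ?_, fun T hT hT1 =>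
    Lib.PSolvable.isPConstrained_normalizer_of_centralizers (fun t ht =>
      (Lib.PSolvable.isPConstrained_iff_of_pPrimeCore_eq_bot
        (Lib.PSolvable.pPrimeCore_eq_bot_of_centralizer_pCore_le (hchar t ht))).mpr (hchar t ht))
      hT hT1⟩
  -- an elementary abelian subgroup of order 8 of `S`
  obtain ⟨B, hBc, hB2, hBcard⟩ : ∃ B : Subgroup A, IsMulCommutative B ∧ (∀ a ∈ B, a ^ 2 = 1) ∧
      2 ^ 2 < Nat.card B := by
    by_contra hne
    exact hA3 fun B hBc hB2 => le_of_not_gt fun hlt => hne ⟨B, hBc, hB2, hlt⟩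
  have hBp : IsPGroup 2 ↥B := fun b => ⟨1, Subtype.ext (by rw [pow_one]; exact hB2 b b.2)⟩
  obtain ⟨m, hm⟩ := IsPGroup.iff_card.mp hBp
  have hm3 : 3 ≤ m := by
    by_contra hlt
    have : 2 ^ m ≤ 2 ^ 2 := Nat.pow_le_pow_right (by norm_num) (by omega)
    omega
  obtain ⟨E0, hE0⟩ := Sylow.exists_subgroup_card_pow_prime 2 (G := ↥B)
    (show 2 ^ 3 ∣ Nat.card ↥B from hm ▸ pow_dvd_pow 2 hm3)
  let ι : ↥B →* ↥(S : Subgroup G) := (Subgroup.inclusion hA.1).comp B.subtype
  have hι : Function.Injective ι := (Subgroup.inclusion_injective hA.1).comp B.subtype_injective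
  obtain ⟨z, u, hz, hzc, hu, huz, hu'⟩ := Lib.Involution.exists_normal_four S.isPGroup'
    (E0.map ι) (by rw [card_map_of_injective hι, hE0]; norm_num) (by
      rintro _ ⟨b, hb, rfl⟩
      have hbb : b * b = 1 := Subtype.ext (by rw [← pow_two]; exact hB2 _ b.2)
      rw [← map_mul, hbb, map_one])
  have hzz : z * z = 1 := by
    have h0 := pow_orderOf_eq_one z
    rwa [hz, pow_two] at h0
  have huu : u * u = 1 := by
    have h0 := pow_orderOf_eq_one u
    rwa [hu, pow_two] at h0
  have huzc : Commute u z := hzc u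
  have hzu : ¬ u ∈ zpowers z := fun hmem => by
    rcases (mem_zpowers_two hzz hmem) with h1 | h1
    · simp [h1] at hu
    · exact huz h1
  have hV : ∀ w ∈ closure ({(u : G), (z : G)} : Set G), w = 1 ∨ w = (u : G) ∨ w = (z : G) ∨
      w = (z : G) * (u : G) :=
    mem_closure_four (congrArg Subtype.val huu) (congrArg Subtype.val hzz)
      (congrArg Subtype.val huzc.eq)
  have hidx : ∀ e : ↥(S : Subgroup G), (∀ g h : ↥(S : Subgroup G), g * e * g⁻¹ ≠ e →
      h * e * h⁻¹ ≠ e → g * e * g⁻¹ = h * e * h⁻¹) →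
      Nat.card ↥(S : Subgroup G) ≤ 2 * Nat.card ↥((S : Subgroup G) ⊓ centralizer {(e : G)}) :=
    fun e he => card_le_two_mul_centralizer (S : Subgroup G) e he
  have hkey : ∀ e : ↥(S : Subgroup G), orderOf e = 2 → (∀ g h : ↥(S : Subgroup G), g * e * g⁻¹ ≠ e →
      h * e * h⁻¹ ≠ e → g * e * g⁻¹ = h * e * h⁻¹) → X ⊓ centralizer {(e : G)} = ⊥ := by
    intro e he hconj
    exact inf_centralizer_eq_bot S X hX hSX e (hidx e hconj)
      (hchar e ((Subgroup.orderOf_coe e).trans he))
  refine le_bot_iff.mp (Lib.Coprime.le_of_pair Nat.prime_two (K := X) (L := ⊥) (a := (u : G))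
    (b := (z : G)) (Nat.coprime_two_left.mpr hX) ?_ (congrArg Subtype.val huzc.eq) ?_ ?_ ?_ ?_ ?_)
  · refine ((closure_le _).mpr ?_).trans hSX
    rintro w (rfl | rfl)
    exacts [u.2, z.2]
  · rw [pow_two]; exact congrArg Subtype.val huu
  · rw [pow_two]; exact congrArg Subtype.val hzz
  · intro h1
    rw [OneMemClass.coe_eq_one] at h1
    simp [h1] at hz
  · intro hmem
    rcases mem_zpowers_two (congrArg Subtype.val hzz) hmem with h1 | h1
    · rw [OneMemClass.coe_eq_one] at h1; simp [h1] at hu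
    · exact huz (Subtype.ext h1)
  · intro w hw hw1
    rcases hV w hw with h1 | h1 | h1 | h1
    · exact absurd h1 hw1
    · subst h1
      refine (hkey u hu fun g h hg hh => ?_).le
      rw [(hu' g).resolve_left hg, (hu' h).resolve_left hh]
    · subst h1
      refine (hkey z hz fun g h hg hh => ?_).le
      exact absurd (by rw [hzc g, mul_inv_cancel_right]) hg
    · subst h1
      have hzu' : orderOf (z * u) = 2 := by
        refine orderOf_eq_prime ?_ fun h1 => huz ?_
        · rw [pow_two, mul_assoc, ← mul_assoc u, huzc.eq, mul_assoc z u, huu, mul_one, hzz]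
        · rw [mul_eq_one_iff_eq_inv] at h1
          rw [← inv_inv u, ← h1, inv_eq_of_mul_eq_one_right hzz]
      have hcj : ∀ g : ↥(S : Subgroup G), g * (z * u) * g⁻¹ = z * (g * u * g⁻¹) := fun g => by
        rw [← mul_assoc g, hzc g]; simp only [mul_assoc]
      refine ((hkey (z * u) hzu' fun g h hg hh => ?_)).le
      rw [hcj] at hg hh ⊢
      rw [hcj]
      rcases hu' g with h1 | h1
      · exact absurd (by rw [h1]) hg
      rcases hu' h with h2 | h2
      · exact absurd (by rw [h2]) hh
      rw [h1, h2]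

end Cfsg.Agent.S3246
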