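import Mathlib
import Cfsg.Agent.Lib.PSolvable.ConstrainedExt
import Cfsg.Statements.S3247

set_option autoImplicit false
open Cfsg

namespace Cfsg.Agent.S3247

/-- Let G be a finite group and p a prime; here a p-local subgroup means the normalizer of a nontrivial p-subgroup, other than G itself. If every p-local subgroup of G that is maximal among p-local subgroups is p-constrained, or if the centralizer of every element of order p of G is p-constrained, then every p-local subgroup of G is p-constrained. -/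
theorem result {G : Type*} [Group G] [Finite G] (p : ℕ) [hp : Fact p.Prime]
    (h : (∀ M : Subgroup G, (∃ T : Subgroup G, IsPGroup p ↥T ∧ T ≠ ⊥ ∧ M = Subgroup.normalizer (T : Set G)) → M ≠ ⊤ →
        (∀ M' : Subgroup G, (∃ T' : Subgroup G, IsPGroup p ↥T' ∧ T' ≠ ⊥ ∧ M' = Subgroup.normalizer (T' : Set G)) → M' ≠ ⊤ → M ≤ M' → M = M') →
        Cfsg.IsPConstrained p ↥M) ∨
      (∀ x : G, orderOf x = p → Cfsg.IsPConstrained p ↥(Subgroup.centralizer ({x} : Set G))))
    (T : Subgroup G) (hT : IsPGroup p ↥T) (hT1 : T ≠ ⊥) (hTG : Subgroup.normalizer (T : Set G) ≠ ⊤) :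
    Cfsg.IsPConstrained p ↥(Subgroup.normalizer (T : Set G)) := by
  rcases h with h | h
  · classical
    let P : Subgroup G → Prop := fun M =>
      (∃ T : Subgroup G, IsPGroup p ↥T ∧ T ≠ ⊥ ∧ M = Subgroup.normalizer (T : Set G)) ∧ M ≠ ⊤
    obtain ⟨M, hNM, hM⟩ := Finite.exists_le_maximal
      (α := Subgroup G) (p := P) (a := Subgroup.normalizer (T : Set G)) ⟨⟨T, hT, hT1, rfl⟩, hTG⟩
    have hMc : IsPConstrained p ↥M := h M hM.1.1 hM.1.2
      (fun M' h1 h2 hle => le_antisymm hle (hM.2 ⟨h1, h2⟩ hle))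
    have hTp : IsPGroup p ↥(T.subgroupOf M) := hT.comap_subtype
    have h1 := Lib.PSolvable.isPConstrained_normalizer hMc hTp
    have hTM : T ≤ M := Subgroup.le_normalizer.trans hNM
    rw [← Subgroup.subgroupOf_normalizer_eq hTM] at h1
    exact Lib.PSolvable.isPConstrained_congr (Subgroup.subgroupOfEquivOfLe hNM) h1
  · exact Lib.PSolvable.isPConstrained_normalizer_of_centralizers h hT hT1

end Cfsg.Agent.S3247
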