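import Cfsg.Statements.S3261
import Cfsg.Agent.S3035
import Cfsg.Agent.Lib.Classical.Dihedral
import Cfsg.Agent.Lib.PSolvable.Core

set_option autoImplicit false
open Cfsg

namespace Cfsg.Agent.S3261

open Equiv

/-- a double transposition -/
def dblSwap : Perm (Fin 6) := swap 0 1 * swap 2 3

theorem dblSwap_facts :
    dblSwap.cycleType = {2, 2} ∧
      (Finset.univ.filter fun g : alternatingGroup (Fin 6) =>
        (g : Perm (Fin 6)) * dblSwap = dblSwap * (g : Perm (Fin 6))).card = 8 := by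
  constructor
  · decide +kernel
  · decide +kernel

theorem dblSwap_gens :
    let r : Perm (Fin 6) := swap 0 2 * swap 2 1 * swap 1 3 * swap 4 5
    let s : Perm (Fin 6) := swap 0 1 * swap 4 5
    (Equiv.Perm.sign r = 1 ∧ Equiv.Perm.sign s = 1) ∧
      r * dblSwap = dblSwap * r ∧ s * dblSwap = dblSwap * s ∧ r ^ 4 = 1 ∧ r ^ 2 ≠ 1 ∧
      s * s = 1 ∧ s * r * s = r⁻¹ ∧ s ≠ 1 ∧ s ≠ r ∧ s ≠ r ^ 2 ∧ s ≠ r ^ 3 := by
  decide +kernel

/-- the centraliser of a double transposition in the alternating group of degree six -/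
theorem centralizer_dihedral (a : ↥(alternatingGroup (Fin 6))) (ha : orderOf a = 2)
    (hs : (a : Perm (Fin 6)).support.card = 4) :
    Nonempty (↥(Subgroup.centralizer ({a} : Set ↥(alternatingGroup (Fin 6)))) ≃* DihedralGroup 4) := by
  classical
  obtain ⟨hct, hcard⟩ := dblSwap_facts
  have ha' : orderOf (a : Perm (Fin 6)) = 2 := by rw [Subgroup.orderOf_coe]; exact ha
  obtain ⟨k, hk⟩ := Equiv.Perm.cycleType_prime_order (σ := (a : Perm (Fin 6))) (by rw [ha']; exact Nat.prime_two)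
  rw [ha'] at hk
  have hk1 : k = 1 := by
    have h := Equiv.Perm.sum_cycleType (a : Perm (Fin 6))
    rw [hk, hs, Multiset.sum_replicate, smul_eq_mul] at h
    omega
  obtain ⟨g, hg⟩ := isConj_iff.1 (Equiv.Perm.isConj_iff_cycleType_eq.2
    (show (a : Perm (Fin 6)).cycleType = dblSwap.cycleType by rw [hk, hk1, hct]; rfl))
  let b : ↥(alternatingGroup (Fin 6)) := ⟨dblSwap, by
    rw [← hg]; exact (inferInstance : (alternatingGroup (Fin 6)).Normal).conj_mem _ a.2 g⟩
  let φ : ↥(alternatingGroup (Fin 6)) ≃* ↥(alternatingGroup (Fin 6)) :=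
    MulAut.conjNormal g
  have hφ : φ a = b := Subtype.ext (by rw [MulAut.conjNormal_apply]; exact hg)
  let ψ : ↥(Subgroup.centralizer ({a} : Set ↥(alternatingGroup (Fin 6)))) ≃*
      ↥(Subgroup.centralizer ({b} : Set ↥(alternatingGroup (Fin 6)))) :=
    { toFun := fun x => ⟨φ x.1, Subgroup.mem_centralizer_singleton_iff.2 (by
        rw [← hφ, ← map_mul, ← map_mul, Subgroup.mem_centralizer_singleton_iff.1 x.2])⟩
      invFun := fun x => ⟨φ.symm x.1, Subgroup.mem_centralizer_singleton_iff.2 (φ.injective (by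
        rw [map_mul, map_mul, φ.apply_symm_apply, hφ, Subgroup.mem_centralizer_singleton_iff.1 x.2]))⟩
      left_inv := fun x => Subtype.ext (φ.symm_apply_apply _)
      right_inv := fun x => Subtype.ext (φ.apply_symm_apply _)
      map_mul' := fun x y => Subtype.ext (map_mul φ _ _) }
  obtain ⟨⟨hr, hs'⟩, hrc, hsc, h4, h2, hss, hsr, hn0, hn1, hn2, hn3⟩ := dblSwap_gens
  set r : Perm (Fin 6) := swap 0 2 * swap 2 1 * swap 1 3 * swap 4 5
  set s : Perm (Fin 6) := swap 0 1 * swap 4 5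
  let r' : ↥(Subgroup.centralizer ({b} : Set ↥(alternatingGroup (Fin 6)))) :=
    ⟨⟨r, Equiv.Perm.mem_alternatingGroup.2 hr⟩, Subgroup.mem_centralizer_singleton_iff.2 (Subtype.ext hrc)⟩
  let s' : ↥(Subgroup.centralizer ({b} : Set ↥(alternatingGroup (Fin 6)))) :=
    ⟨⟨s, Equiv.Perm.mem_alternatingGroup.2 hs'⟩, Subgroup.mem_centralizer_singleton_iff.2 (Subtype.ext hsc)⟩
  have hcoe : ∀ x : ↥(Subgroup.centralizer ({b} : Set ↥(alternatingGroup (Fin 6)))), ∀ y : ↥(Subgroup.centralizer ({b} : Set ↥(alternatingGroup (Fin 6)))),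
      x = y ↔ ((x.1 : Perm (Fin 6)) = y.1) := fun x y => by
    rw [Subtype.ext_iff, Subtype.ext_iff]
  have ho : orderOf r' = 4 := by
    rw [← Subgroup.orderOf_coe, ← Subgroup.orderOf_coe]
    have : Fact (Nat.Prime 2) := ⟨Nat.prime_two⟩
    exact orderOf_eq_prime_pow (p := 2) (n := 1) (by simpa using h2) (by simpa using h4)
  obtain ⟨e⟩ := Cfsg.Agent.Lib.Classical.nonempty_dihedralGroup_mulEquiv 4 r' s' ho
    ((hcoe _ _).2 hss) ((hcoe _ _).2 hsr)
    (fun h => by
      obtain ⟨i, hi, hi'⟩ := (by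
        rw [mem_zpowers_iff_mem_range_orderOf, Finset.mem_image] at h
        exact h : ∃ i ∈ Finset.range (orderOf r'), r' ^ i = s')
      rw [ho, Finset.mem_range] at hi
      have hv : r ^ i = s := (hcoe _ _).1 hi'
      interval_cases i
      · exact hn0 (by rw [← hv, pow_zero])
      · exact hn1 (by rw [← hv, pow_one])
      · exact hn2 hv.symm
      · exact hn3 hv.symm)
    (by
      rw [Nat.card_congr (Equiv.subtypeEquivRight fun x => (show x ∈ Subgroup.centralizer ({b} : Set ↥(alternatingGroup (Fin 6))) ↔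
          (x : Perm (Fin 6)) * dblSwap = dblSwap * (x : Perm (Fin 6)) by
        rw [Subgroup.mem_centralizer_singleton_iff, Subtype.ext_iff]; rfl)),
        Nat.card_eq_fintype_card, Fintype.card_subtype, hcard])
  exact ⟨ψ.trans e⟩

theorem sl32_no_two_index : Nonempty (Matrix.SpecialLinearGroup (Fin 3) (ZMod 2) ≃* Matrix.ProjectiveSpecialLinearGroup (Fin 2) (ZMod 7)) := by
  haveI : Fact (Nat.Prime 7) := ⟨by norm_num⟩
  haveI : Fact (Nat.Prime 2) := ⟨Nat.prime_two⟩
  obtain ⟨e2⟩ := Cfsg.Agent.S0255.result (F := ZMod 7) (K := ZMod 2) (ZMod.card 7) (ZMod.card 2)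
  have hcen : Subgroup.center (Matrix.SpecialLinearGroup (Fin 3) (ZMod 2)) = ⊥ := by
    rw [eq_bot_iff]
    intro A hA
    obtain ⟨r, hr, hA'⟩ := Matrix.SpecialLinearGroup.mem_center_iff.mp hA
    rw [Fintype.card_fin] at hr
    rw [Subgroup.mem_bot]
    refine Subtype.ext ?_
    rw [← hA', Cfsg.Agent.S3035.zmod_two_cube r hr]; simp
  exact ⟨(e2.trans ((QuotientGroup.quotientMulEquivOfEq hcen).trans QuotientGroup.quotientBot)).symm⟩

/-- A symmetric group has a subgroup of index two. -/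
theorem perm_index_two {G : Type*} [Group G] {n : ℕ} (hn : 2 ≤ n) (e : G ≃* Equiv.Perm (Fin n)) :
    ∃ H : Subgroup G, H.index = 2 := by
  haveI : Nontrivial (Fin n) := Fin.nontrivial_iff_two_le.2 hn
  exact ⟨(alternatingGroup (Fin n)).comap e.toMonoidHom,
    by rw [Subgroup.index_comap_of_surjective _ e.surjective, alternatingGroup.index_eq_two]⟩


/-- Let α̃ be an involution of the alternating group A₆ that is a product of two disjoint transpositions (it lies in the centre of a Sylow 2-subgroup of A₆; its centralizer is dihedral of order 8). Let G be a finite group that has no subgroup of index 2 and contains an involution α, central in some Sylow 2-subgroup of G, with C_G(α) ≅ C_{A₆}(α̃). Then G is isomorphic to A₆ or to PSL₂(7). -/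
theorem result {G : Type*} [Group G] [Finite G]
    (hG : ∀ H : Subgroup G, H.index ≠ 2)
    (αt : ↥(alternatingGroup (Fin 6))) (hαt : orderOf αt = 2) (hsupp : (αt : Equiv.Perm (Fin 6)).support.card = 4)
    (α : G) (hα : orderOf α = 2) (S : Sylow 2 G) (hαS : α ∈ (S : Subgroup G)) (hαc : ∀ s ∈ (S : Subgroup G), s * α = α * s)
    (e : ↥(Subgroup.centralizer ({α} : Set G)) ≃* ↥(Subgroup.centralizer ({αt} : Set ↥(alternatingGroup (Fin 6))))) :
    Nonempty (G ≃* ↥(alternatingGroup (Fin 6))) ∨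
      (∃ (F : Type) (_ : Field F) (_ : Fintype F), Fintype.card F = 7 ∧ Nonempty (G ≃* Matrix.ProjectiveSpecialLinearGroup (Fin 2) F)) := by
  classical
  obtain ⟨e₀⟩ := centralizer_dihedral αt hαt hsupp
  rcases Cfsg.Agent.S3035.result α hα ⟨e.trans e₀⟩ with h | ⟨⟨i⟩⟩ | ⟨⟨i⟩⟩ | ⟨⟨i⟩⟩ | ⟨⟨i⟩⟩
  · exfalso
    haveI : Fact (Nat.Prime 2) := ⟨Nat.prime_two⟩
    haveI hO : (Cfsg.oddCore G).Normal := by
      have := Cfsg.Agent.Lib.PSolvable.pPrimeCore_characteristic (p := 2) (G := G)
      exact inferInstanceAs (Cfsg.pPrimeCore 2 G).Normal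
    set C := Subgroup.centralizer ({α} : Set G)
    have hC : IsPGroup 2 C := IsPGroup.of_card (n := 3) (by
      rw [Nat.card_congr (e.trans e₀).toEquiv, DihedralGroup.nat_card]; rfl)
    have hQ : IsPGroup 2 (G ⧸ Cfsg.oddCore G) := by
      refine hC.of_surjective ((QuotientGroup.mk' (Cfsg.oddCore G)).comp C.subtype) ?_
      intro y
      obtain ⟨x, rfl⟩ := QuotientGroup.mk'_surjective _ y
      obtain ⟨c, hc, o, ho, rfl⟩ := Subgroup.mem_sup_of_normal_right.1 (h ▸ Subgroup.mem_top x)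
      exact ⟨⟨c, hc⟩, by simp [(QuotientGroup.eq_one_iff o).2 ho]⟩
    have hα' : α ∉ Cfsg.oddCore G := fun hmem => by
      have hd := Subgroup.orderOf_dvd_natCard _ hmem
      rw [hα] at hd
      exact Cfsg.Agent.Lib.PSolvable.pPrimeCore_not_dvd hd
    obtain ⟨k, hk⟩ := hQ.exists_card_eq
    have hk0 : k ≠ 0 := by
      rintro rfl
      rw [pow_zero, Nat.card_eq_one_iff_unique] at hk
      haveI := hk.1
      exact hα' ((QuotientGroup.eq_one_iff α).1 (Subsingleton.elim _ _))
    obtain ⟨K, hK⟩ := Sylow.exists_subgroup_card_pow_prime 2 (G := G ⧸ Cfsg.oddCore G) (n := k - 1)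
      (by rw [hk]; exact pow_dvd_pow 2 (Nat.sub_le k 1))
    refine hG (K.comap (QuotientGroup.mk' _)) ?_
    rw [Subgroup.index_comap_of_surjective _ (QuotientGroup.mk'_surjective _)]
    have := K.index_mul_card
    rw [hk, hK, show 2 ^ k = 2 * 2 ^ (k - 1) by rw [← pow_succ', Nat.sub_add_cancel (Nat.one_le_iff_ne_zero.2 hk0)]] at this
    exact Nat.eq_of_mul_eq_mul_right (by positivity) this
  · obtain ⟨H, hH⟩ := perm_index_two (by norm_num) i
    exact absurd hH (hG H)
  · obtain ⟨H, hH⟩ := perm_index_two (by norm_num) i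
    exact absurd hH (hG H)
  · obtain ⟨j⟩ := sl32_no_two_index
    haveI : Fact (Nat.Prime 7) := ⟨by norm_num⟩
    exact Or.inr ⟨ZMod 7, inferInstance, inferInstance, ZMod.card 7, ⟨i.trans j⟩⟩
  · exact Or.inl ⟨i⟩

end Cfsg.Agent.S3261
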