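import Cfsg.Statements.S3265
import Cfsg.Agent.Lib.OddProductPerm.Main

set_option autoImplicit false
open Cfsg

namespace Cfsg.Agent.S3265

open Cfsg.Agent.Lib.OddProductPerm Equiv

lemma cycleType_sq_one {n : ℕ} {z : Equiv.Perm (Fin n)} (hz : z * z = 1) :
    z.cycleType = Multiset.replicate (z.support.card / 2) 2 := by
  have h2 : ∀ m ∈ z.cycleType, m = 2 := by
    intro m hm
    have h1 := Perm.two_le_of_mem_cycleType hm
    have h3 : m ∣ 2 := (Perm.dvd_of_mem_cycleType hm).trans
      (orderOf_dvd_of_pow_eq_one (by rw [sq]; exact hz))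
    have := Nat.le_of_dvd two_pos h3
    omega
  have hr := Multiset.eq_replicate_of_mem h2
  have hs := Perm.sum_cycleType z
  rw [hr, Multiset.sum_replicate, smul_eq_mul] at hs
  rw [← hs, Nat.mul_div_cancel _ two_pos]
  exact hr


/-- Let n ≥ 5 and let X be a conjugacy class of involutions of the symmetric group of degree n. The graph on X joining two distinct involutions whose product has odd order is connected and has diameter exactly 2. -/
theorem result (n : ℕ) (hn : 5 ≤ n) (t : Equiv.Perm (Fin n)) (ht : orderOf t = 2) :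
    (SimpleGraph.fromRel fun x y : {x : Equiv.Perm (Fin n) // IsConj t x} =>
        Odd (orderOf (x.1 * y.1))).Connected ∧
      (SimpleGraph.fromRel fun x y : {x : Equiv.Perm (Fin n) // IsConj t x} =>
        Odd (orderOf (x.1 * y.1))).diam = 2 := by
  classical
  set R : {x : Equiv.Perm (Fin n) // IsConj t x} → {x : Equiv.Perm (Fin n) // IsConj t x} → Prop :=
    fun x y => Odd (orderOf (x.1 * y.1)) with hR
  have htt : t * t = 1 := by rw [← sq, ← ht]; exact pow_orderOf_eq_one t
  have hord : ∀ x : {x : Equiv.Perm (Fin n) // IsConj t x}, x.1 * x.1 = 1 ∧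
      x.1.support.card = t.support.card := fun x => by
    obtain ⟨c, hc⟩ := isConj_iff.1 x.2
    refine ⟨?_, ?_⟩
    · rw [← hc, show c * t * c⁻¹ * (c * t * c⁻¹) = c * (t * t) * c⁻¹ by group, htt]; simp
    · rw [← hc, Perm.card_support_conj]
  have hconj : ∀ z : Equiv.Perm (Fin n), z * z = 1 → z.support.card = t.support.card → IsConj t z :=
    fun z hz hc => Perm.isConj_iff_cycleType_eq.2 (by rw [cycleType_sq_one htt, cycleType_sq_one hz, hc])
  have hle : ∀ x y, (SimpleGraph.fromRel R).edist x y ≤ 2 := by
    intro x y
    obtain ⟨z, hz, hzc, h1, h2⟩ := exists_mid (by rwa [Fintype.card_fin]) (hord x).1 (hord y).1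
      ((hord x).2.trans (hord y).2.symm)
    set z' : {x : Equiv.Perm (Fin n) // IsConj t x} := ⟨z, hconj z hz (hzc.trans (hord x).2)⟩
    have step : ∀ a b, R a b → (SimpleGraph.fromRel R).edist a b ≤ 1 := by
      intro a b hab
      by_cases e : a = b
      · subst e; simp
      · exact le_of_eq (SimpleGraph.edist_eq_one_iff_adj.2
          ((SimpleGraph.fromRel_adj R a b).2 ⟨e, Or.inl hab⟩))
    calc (SimpleGraph.fromRel R).edist x y
        ≤ (SimpleGraph.fromRel R).edist x z' + (SimpleGraph.fromRel R).edist z' y :=
          SimpleGraph.edist_triangle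
      _ ≤ 1 + 1 := add_le_add (step x z' ((oddPow_iff _).1 h1))
          (step z' y ((oddPow_iff _).1 (oddPow_of_inv (hord y).1 hz h2)))
      _ = 2 := by norm_num
  have hconn : (SimpleGraph.fromRel R).Connected :=
    { preconnected := fun x y => SimpleGraph.reachable_of_edist_ne_top
        (ne_top_of_le_ne_top (by simp) (hle x y))
      nonempty := ⟨⟨t, IsConj.refl t⟩⟩ }
  refine ⟨hconn, ?_⟩
  -- two commuting members
  obtain ⟨u, hut, hcomm, hu⟩ : ∃ u, IsConj t u ∧ t * u = u * t ∧ u ≠ t := by
    obtain ⟨a, ha⟩ : ∃ a, t a ≠ a := by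
      by_contra h
      have : t = 1 := Equiv.ext fun a => not_not.1 fun e => h ⟨a, e⟩
      rw [this, orderOf_one] at ht
      omega
    set b := t a with hb
    have hba : t b = a := by rw [hb, ← Perm.mul_apply, htt]; rfl
    by_cases h : ∃ c, t c ≠ c ∧ c ≠ a ∧ c ≠ b
    · obtain ⟨c, hc, hca, hcb⟩ := h
      set d := t c with hd
      have hdc : t d = c := by rw [hd, ← Perm.mul_apply, htt]; rfl
      have hda : d ≠ a := fun e => hcb (by rw [← hdc, e, ← hb])
      have hdb : d ≠ b := fun e => hca (t.injective (by rw [← hd, e, ← hb]))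
      have hf : Function.Injective ![a, b, c, d] := by
        intro i j hij
        fin_cases i <;> fin_cases j <;> simp at hij ⊢ <;> exfalso <;> grind
      let ι : Fin 4 ↪ Fin n := ⟨![a, b, c, d], hf⟩
      have ax : ∀ i, t (ι i) = ι ((swap 0 1 * swap 2 3 : Perm (Fin 4)) i) := by
        intro i; fin_cases i
        exacts [rfl, hba, rfl, hdc]
      obtain ⟨fx, qx, ex⟩ := peel htt ι _ (by decide) (fun i _ => ax i)
        (fun i hi => by rw [ax, hi])
      set r := emb ι (swap 0 1 * swap 2 3) * t with hr
      have hwin : ∀ g : Perm (Fin 4), Within (emb ι g) (Finset.univ.map ι) :=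
        fun g a ha => emb_notMem ι g ha
      refine ⟨emb ι (swap 0 2 * swap 1 3) * r, ?_, ?_, ?_⟩
      · refine hconj _ (sq_mul (hwin _) fx (by rw [← map_mul,
          show swap (0 : Fin 4) 2 * swap 1 3 * (swap 0 2 * swap 1 3) = 1 by decide, map_one]) qx) ?_
        conv_rhs => rw [← ex]
        rw [supp_mul (hwin _) fx, supp_mul (hwin _) fx, emb_support, emb_support, Finset.card_map,
          Finset.card_map]
        congr 1
      · have hc1 : Commute (emb ι (swap 0 1 * swap 2 3)) r := (disjoint_of (hwin _) fx).commute
        have hc2 : Commute (emb ι (swap 0 2 * swap 1 3)) r := (disjoint_of (hwin _) fx).commute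
        have hc3 : Commute (emb ι (swap 0 1 * swap 2 3)) (emb ι (swap 0 2 * swap 1 3)) := by
          rw [Commute, SemiconjBy, ← map_mul, ← map_mul]
          congr 1
          decide
        have hall : Commute t (emb ι (swap 0 2 * swap 1 3) * r) := by
          rw [← ex]
          exact Commute.mul_left (Commute.mul_right hc3 hc1)
            (Commute.mul_right hc2.symm (Commute.refl r))
        exact hall.eq
      · intro e
        have := congrArg (fun g : Perm (Fin n) => g (ι 0)) e
        simp only [Perm.mul_apply, fx _ (Finset.mem_map_of_mem ι (Finset.mem_univ 0)), emb_apply] at this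
        rw [ax] at this
        exact absurd (ι.injective this) (by decide)
    · simp only [not_exists, not_and, not_not] at h
      have hts : t = swap a b := by
        refine Equiv.ext fun c => ?_
        by_cases hca : c = a
        · rw [hca, swap_apply_left, hb]
        by_cases hcb : c = b
        · rw [hcb, swap_apply_right, hba]
        rw [swap_apply_of_ne_of_ne hca hcb]
        exact not_not.1 fun e => hcb (h c e hca)
      obtain ⟨c, -, hc⟩ := Finset.exists_mem_notMem_of_card_lt_card (s := ({a, b} : Finset (Fin n)))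
        (t := (Finset.univ : Finset (Fin n))) (by
          rw [Finset.card_univ, Fintype.card_fin]; exact lt_of_le_of_lt Finset.card_le_two (by omega))
      obtain ⟨d, -, hd⟩ := Finset.exists_mem_notMem_of_card_lt_card (s := ({a, b, c} : Finset (Fin n)))
        (t := (Finset.univ : Finset (Fin n))) (by
          rw [Finset.card_univ, Fintype.card_fin]; exact lt_of_le_of_lt Finset.card_le_three (by omega))
      simp only [Finset.mem_insert, Finset.mem_singleton, not_or] at hc hd
      refine ⟨swap c d, ?_, ?_, ?_⟩
      · rw [hts]; exact Equiv.Perm.isConj_swap ha.symm (Ne.symm hd.2.2)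
      · rw [hts]
        refine (Perm.Disjoint.commute fun x => ?_).eq
        by_cases hx : x = c ∨ x = d
        · left
          rcases hx with rfl | rfl
          · exact swap_apply_of_ne_of_ne hc.1 hc.2
          · exact swap_apply_of_ne_of_ne hd.1 hd.2.1
        · right
          simp only [not_or] at hx
          exact swap_apply_of_ne_of_ne hx.1 hx.2
      · rw [hts]
        intro e
        have := congrArg (fun g : Perm (Fin n) => g c) e
        rw [swap_apply_left, swap_apply_of_ne_of_ne hc.1 hc.2] at this
        exact hd.2.2 this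
  have hne2 : orderOf (t * u) = 2 := by
    have hu2 : u * u = 1 := (hord ⟨u, hut⟩).1
    refine orderOf_eq_prime ?_ ?_
    · rw [sq]
      have hc : Commute u t := hcomm.symm
      rw [hc.mul_mul_mul_comm, htt, hu2, mul_one]
    · intro e
      apply hu
      calc u = t * t * u := by rw [htt, one_mul]
        _ = t := by rw [mul_assoc, e, mul_one]
  have hd : (SimpleGraph.fromRel R).ediam = 2 := by
    refine le_antisymm (SimpleGraph.ediam_le_of_edist_le hle) ?_
    refine le_trans ?_ (SimpleGraph.edist_le_ediam
      (u := (⟨t, IsConj.refl t⟩ : {x // IsConj t x})) (v := ⟨u, hut⟩))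
    by_contra h
    have h' : (SimpleGraph.fromRel R).edist ⟨t, IsConj.refl t⟩ ⟨u, hut⟩ ≤ 1 :=
      Order.le_of_lt_succ (by simpa [one_add_one_eq_two] using not_le.1 h)
    rcases SimpleGraph.edist_le_one_iff_adj_or_eq.1 h' with h1 | h1
    · rcases ((SimpleGraph.fromRel_adj R _ _).1 h1).2 with h2 | h2
      · simp only [hR, hne2] at h2
        exact absurd h2 (by decide)
      · simp only [hR, ← hcomm, hne2] at h2
        exact absurd h2 (by decide)
    · exact hu (congrArg Subtype.val h1).symm
  rw [SimpleGraph.diam, hd]
  rfl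

end Cfsg.Agent.S3265
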