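import Cfsg.Statements.S3266
import Cfsg.Agent.Lib.SL2.OddProductGraph

set_option autoImplicit false
open Cfsg

namespace Cfsg.Agent.S3266

open Cfsg.Agent.Lib.SL2 Cfsg.Agent.Lib.SL2.OddProductGraph

/-- Let F be a finite field with at least 4 elements and let X be a conjugacy class of involutions of PSL(2, F). The graph on X joining two distinct involutions whose product has odd order is connected and has diameter exactly 2. -/
theorem result {F : Type*} [Field F] [Fintype F] (hF : 4 ≤ Fintype.card F)
    (t : Matrix.ProjectiveSpecialLinearGroup (Fin 2) F) (ht : orderOf t = 2) :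
    (SimpleGraph.fromRel fun x y : {x : Matrix.ProjectiveSpecialLinearGroup (Fin 2) F // IsConj t x} =>
        Odd (orderOf (x.1 * y.1))).Connected ∧
      (SimpleGraph.fromRel fun x y : {x : Matrix.ProjectiveSpecialLinearGroup (Fin 2) F // IsConj t x} =>
        Odd (orderOf (x.1 * y.1))).diam = 2 := by
  classical
  set R : {x : Matrix.ProjectiveSpecialLinearGroup (Fin 2) F // IsConj t x} →
      {x : Matrix.ProjectiveSpecialLinearGroup (Fin 2) F // IsConj t x} → Prop :=
    fun x y => Odd (orderOf (x.1 * y.1)) with hR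
  -- all involutions are conjugate, and the two key facts
  obtain ⟨hconj, hmid, u, w, hu, hw, huw, hnad⟩ :
      (∀ z : Matrix.ProjectiveSpecialLinearGroup (Fin 2) F, orderOf z = 2 → IsConj t z) ∧
      (∀ x y : Matrix.ProjectiveSpecialLinearGroup (Fin 2) F, orderOf x = 2 → orderOf y = 2 → x ≠ y →
        ∃ z, orderOf z = 2 ∧ Odd (orderOf (x * z)) ∧ Odd (orderOf (z * y))) ∧
      ∃ u w : Matrix.ProjectiveSpecialLinearGroup (Fin 2) F,
        orderOf u = 2 ∧ orderOf w = 2 ∧ u ≠ w ∧ ¬ Odd (orderOf (u * w)) := by
    by_cases h2 : (2 : F) = 0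
    · haveI : CharP F 2 := (CharP.charP_iff_prime_eq_zero Nat.prime_two).2 (by simpa using h2)
      refine ⟨fun z hz => ?_, fun x y hx hy _ => exists_third_even hx hy, exists_commuting_even hF⟩
      obtain ⟨k, hk⟩ := involution_conj_upper ht
      obtain ⟨l, hl⟩ := involution_conj_upper hz
      exact (isConj_iff.2 ⟨k, hk⟩).trans (isConj_iff.2 ⟨l, hl⟩).symm
    · refine ⟨fun z hz => ?_, fun x y hx hy hxy => exists_third_odd h2 hF hx hy hxy,
        exists_commuting_odd h2⟩
      obtain ⟨g, rfl⟩ := proj_surjective t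
      obtain ⟨h, rfl⟩ := proj_surjective z
      exact isConj_trace_zero h2 (tr_zero_of_involution ht) (tr_zero_of_involution hz)
  have hord : ∀ x : {x : Matrix.ProjectiveSpecialLinearGroup (Fin 2) F // IsConj t x},
      orderOf x.1 = 2 := fun x => by
    obtain ⟨c, hc⟩ := isConj_iff.1 x.2
    rw [← hc]
    exact (orderOf_injective (MulAut.conj c).toMonoidHom (MulAut.conj c).injective t).trans ht
  have hle : ∀ x y, (SimpleGraph.fromRel R).edist x y ≤ 2 := by
    intro x y
    by_cases hxy : x = y
    · subst hxy; simp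
    obtain ⟨z, hz, h1, h2⟩ := hmid x.1 y.1 (hord x) (hord y) (fun e => hxy (Subtype.ext e))
    set z' : {x : Matrix.ProjectiveSpecialLinearGroup (Fin 2) F // IsConj t x} := ⟨z, hconj z hz⟩
    have step : ∀ a b, R a b → (SimpleGraph.fromRel R).edist a b ≤ 1 := by
      intro a b hab
      by_cases e : a = b
      · subst e; simp
      · exact le_of_eq (SimpleGraph.edist_eq_one_iff_adj.2
          ((SimpleGraph.fromRel_adj R a b).2 ⟨e, Or.inl hab⟩))
    calc (SimpleGraph.fromRel R).edist x y
        ≤ (SimpleGraph.fromRel R).edist x z' + (SimpleGraph.fromRel R).edist z' y :=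
          SimpleGraph.edist_triangle
      _ ≤ 1 + 1 := add_le_add (step x z' h1) (step z' y h2)
      _ = 2 := by norm_num
  have hne : Nonempty {x : Matrix.ProjectiveSpecialLinearGroup (Fin 2) F // IsConj t x} :=
    ⟨⟨t, IsConj.refl t⟩⟩
  have hconn : (SimpleGraph.fromRel R).Connected :=
    { preconnected := fun x y => SimpleGraph.reachable_of_edist_ne_top
        (ne_top_of_le_ne_top (by simp) (hle x y))
      nonempty := hne }
  refine ⟨hconn, ?_⟩
  have hd : (SimpleGraph.fromRel R).ediam = 2 := by
    refine le_antisymm (SimpleGraph.ediam_le_of_edist_le hle) ?_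
    refine le_trans ?_ (SimpleGraph.edist_le_ediam
      (u := (⟨u, hconj u hu⟩ : {x // IsConj t x})) (v := ⟨w, hconj w hw⟩))
    by_contra h
    have h' : (SimpleGraph.fromRel R).edist ⟨u, hconj u hu⟩ ⟨w, hconj w hw⟩ ≤ 1 :=
      Order.le_of_lt_succ (by simpa [one_add_one_eq_two] using not_le.1 h)
    rcases SimpleGraph.edist_le_one_iff_adj_or_eq.1 h' with h1 | h1
    · rcases ((SimpleGraph.fromRel_adj R _ _).1 h1).2 with h2 | h2
      · exact hnad h2
      · apply hnad
        have e : u * w = u * (w * u) * u⁻¹ := by group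
        have e' := orderOf_injective (MulAut.conj u).toMonoidHom (MulAut.conj u).injective (w * u)
        simp only [MulEquiv.coe_toMonoidHom, MulAut.conj_apply] at e'
        rw [e, e']
        exact h2
    · exact huw (congrArg Subtype.val h1)
  rw [SimpleGraph.diam, hd]
  rfl

end Cfsg.Agent.S3266
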