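import Cfsg.Statements.S3269
import Cfsg.Agent.S0215
import Mathlib

set_option autoImplicit false
open Cfsg

namespace Cfsg.Agent.S3269

open scoped commutatorElement

/-- The generalized quaternion group has exactly one involution, and it is a commutator. -/
theorem quat_invo (k : ℕ) :
    (∀ x : QuaternionGroup (2 ^ (k + 1)), x * x = 1 → x = 1 ∨ x = .a (2 ^ (k + 1) : ℕ)) ∧
    (∃ p q : QuaternionGroup (2 ^ (k + 1)), ⁅p, q⁆ = .a (2 ^ (k + 1) : ℕ)) ∧
    (.a (2 ^ (k + 1) : ℕ) : QuaternionGroup (2 ^ (k + 1))) ≠ 1 := by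
  haveI : NeZero (2 ^ (k + 1)) := ⟨(Nat.two_pow_pos _).ne'⟩
  have hne : ((2 ^ (k + 1) : ℕ) : ZMod (2 * 2 ^ (k + 1))) ≠ 0 := by
    rw [Ne, ZMod.natCast_eq_zero_iff]
    intro h
    have h0 := Nat.two_pow_pos (k + 1)
    have := Nat.le_of_dvd h0 h
    omega
  refine ⟨?_, ⟨.a (2 ^ k : ℕ), .xa 0, ?_⟩, ?_⟩
  · rintro (i | i) hx
    · rw [QuaternionGroup.a_mul_a, QuaternionGroup.one_def, QuaternionGroup.a.injEq] at hx
      have hi : ((i.val + i.val : ℕ) : ZMod (2 * 2 ^ (k + 1))) = 0 := by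
        rw [Nat.cast_add, ZMod.natCast_zmod_val]; exact hx
      rw [ZMod.natCast_eq_zero_iff] at hi
      obtain ⟨c, hc⟩ := hi
      have hlt := ZMod.val_lt i
      have hc2 : c < 2 := by
        by_contra hc2
        have : (2 * 2 ^ (k + 1)) * 2 ≤ (2 * 2 ^ (k + 1)) * c := Nat.mul_le_mul_left _ (by omega)
        omega
      interval_cases c
      · left
        rw [QuaternionGroup.one_def, QuaternionGroup.a.injEq, ← ZMod.val_eq_zero]
        omega
      · right
        rw [QuaternionGroup.a.injEq, ← ZMod.natCast_zmod_val i]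
        congr 1
        omega
    · rw [QuaternionGroup.xa_mul_xa, QuaternionGroup.one_def, QuaternionGroup.a.injEq] at hx
      exact absurd (by simpa using hx) hne
  · rw [commutatorElement_def, mul_inv_eq_iff_eq_mul, mul_inv_eq_iff_eq_mul]
    simp only [QuaternionGroup.a_mul_xa, QuaternionGroup.xa_mul_a, QuaternionGroup.xa.injEq]
    push_cast [pow_succ]
    ring
  · rw [Ne, QuaternionGroup.one_def, QuaternionGroup.a.injEq]
    exact hne

/-- Uniqueness of the two parts of an element of an internal direct product. -/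
theorem parts_unique {G : Type*} [Group G] {Q R : Subgroup G} (h : Q ⊓ R = ⊥) {q q' r r' : G}
    (hq : q ∈ Q) (hq' : q' ∈ Q) (hr : r ∈ R) (hr' : r' ∈ R) (he : q * r = q' * r') :
    q = q' ∧ r = r' := by
  have h1 : q'⁻¹ * q = r' * r⁻¹ := by
    rw [eq_mul_inv_iff_mul_eq, mul_assoc, he, inv_mul_cancel_left]
  have h2 : q'⁻¹ * q ∈ Q ⊓ R :=
    ⟨Q.mul_mem (Q.inv_mem hq') hq, by rw [h1]; exact R.mul_mem hr' (R.inv_mem hr)⟩
  rw [h, Subgroup.mem_bot] at h2
  constructor
  · exact (inv_mul_eq_one.mp h2).symm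
  · rw [h1, mul_inv_eq_one] at h2
    exact h2.symm

/-- Let G be a finite group whose Sylow 2-subgroup S is an internal direct product Q × R with Q generalized quaternion (of order at least 8) and R a subgroup all of whose involutions are central in R. Then G is not simple. In particular no finite simple group has a Sylow 2-subgroup that is a direct product of one or more generalized quaternion groups. -/
theorem result {G : Type*} [Group G] [Finite G]
    (S : Sylow 2 G) (Q R : Subgroup G) (hQR : Cfsg.IsInternalDirectProduct Q R (S : Subgroup G))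
    (n : ℕ) (hn : 1 ≤ n) (eQ : ↥Q ≃* QuaternionGroup (2 ^ n))
    (hR : ∀ r ∈ R, orderOf r = 2 → ∀ s ∈ R, r * s = s * r) :
    ¬ IsSimpleGroup G := by
  classical
  intro hsimp
  haveI := hsimp
  obtain ⟨hQS, hRS, hcomm, hdisj, hsup⟩ := hQR
  obtain ⟨k, rfl⟩ : ∃ k, n = k + 1 := ⟨n - 1, by omega⟩
  obtain ⟨huniq, ⟨p₀, q₀, hpq⟩, hne⟩ := quat_invo k
  set z : ↥Q := eQ.symm (.a (2 ^ (k + 1) : ℕ)) with hzdef
  set p : ↥Q := eQ.symm p₀
  set q : ↥Q := eQ.symm q₀
  have hzpq : (z : G) = ⁅(p : G), (q : G)⁆ := by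
    rw [hzdef, ← hpq, map_commutatorElement]; rfl
  have hz1 : (z : G) ≠ 1 := by
    intro h
    apply hne
    have : z = 1 := Subtype.ext h
    simpa [hzdef] using congrArg eQ this
  have hQinv : ∀ x ∈ Q, x * x = 1 → x = 1 ∨ x = (z : G) := by
    intro x hx hxx
    rcases huniq (eQ ⟨x, hx⟩) (by
      rw [← map_mul, show (⟨x, hx⟩ : ↥Q) * ⟨x, hx⟩ = 1 from Subtype.ext hxx, map_one]) with h | h
    · left
      have := congrArg Subtype.val ((map_eq_one_iff eQ eQ.injective).mp h)
      exact this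
    · right
      rw [hzdef, ← h, MulEquiv.symm_apply_apply]
  have hzz : (z : G) * z = 1 := by
    have : z * z = 1 := by
      rw [hzdef, ← map_mul, QuaternionGroup.a_mul_a]
      have h0 : ((2 ^ (k + 1) : ℕ) : ZMod (2 * 2 ^ (k + 1))) + (2 ^ (k + 1) : ℕ) = 0 := by
        rw [← Nat.cast_add, ← two_mul, ZMod.natCast_self]
      rw [h0]
      exact map_one eQ.symm
    exact congrArg Subtype.val this
  have hzR : (z : G) ∉ R := fun h =>
    hz1 ((Subgroup.mem_bot).mp (hdisj ▸ Subgroup.mem_inf.mpr ⟨z.2, h⟩))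
  have decomp : ∀ s ∈ (S : Subgroup G), ∃ a ∈ Q, ∃ b ∈ R, a * b = s := by
    intro s hs
    rw [← hsup] at hs
    have hnorm : R ≤ Subgroup.normalizer (Q : Set G) := fun b hb => by
      rw [Subgroup.mem_normalizer_iff]
      intro x
      constructor
      · intro hx
        rwa [← hcomm x hx b hb, mul_inv_cancel_right]
      · intro hx
        have h1 := hcomm _ hx b hb
        rw [inv_mul_cancel_right] at h1
        have h2 : x = b * x * b⁻¹ := mul_left_cancel (h1.trans (by group))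
        rwa [h2]
    rw [← SetLike.mem_coe, Subgroup.coe_mul_of_right_le_normalizer_left Q R hnorm] at hs
    exact Set.mem_mul.mp hs
  -- every involution of `S` is central in `S`
  have hcent : ∀ x ∈ (S : Subgroup G), x * x = 1 → ∀ s ∈ (S : Subgroup G), x * s = s * x := by
    intro x hx hxx s hs
    obtain ⟨a, ha, b, hb, rfl⟩ := decomp x hx
    obtain ⟨c, hc, d, hd, rfl⟩ := decomp s hs
    have e1 : (a * a) * (b * b) = 1 * 1 := by
      rw [one_mul]
      calc (a * a) * (b * b) = a * (a * b) * b := by group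
        _ = a * (b * a) * b := by rw [hcomm a ha b hb]
        _ = 1 := by rw [← hxx]; group
    obtain ⟨haa, hbb⟩ := parts_unique hdisj (Q.mul_mem ha ha) Q.one_mem (R.mul_mem hb hb)
      R.one_mem e1
    have hac : a * c = c * a := by
      rcases hQinv a ha haa with rfl | rfl
      · simp
      · have h2 : c * (z : G) * c⁻¹ = (z : G) := by
          rcases hQinv (c * (z : G) * c⁻¹) (Q.mul_mem (Q.mul_mem hc z.2) (Q.inv_mem hc))
            (by calc c * (z : G) * c⁻¹ * (c * z * c⁻¹) = c * ((z : G) * z) * c⁻¹ := by group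
                  _ = 1 := by rw [hzz]; group) with h | h
          · exact absurd (conj_eq_one_iff.mp h) hz1
          · exact h
        exact (mul_inv_eq_iff_eq_mul.mp h2).symm
    have hbd : b * d = d * b := by
      by_cases hb1 : b = 1
      · simp [hb1]
      · exact hR b hb (orderOf_eq_prime (by rw [pow_two]; exact hbb) hb1) d hd
    calc a * b * (c * d) = a * (b * c) * d := by group
      _ = a * (c * b) * d := by rw [hcomm c hc b hb]
      _ = (a * c) * (b * d) := by group
      _ = (c * a) * (d * b) := by rw [hac, hbd]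
      _ = c * (a * d) * b := by group
      _ = c * (d * a) * b := by rw [hcomm a ha d hd]
      _ = c * d * (a * b) := by group
  -- the images of `z` under the normalizer of `S`
  have key : ∀ g ∈ Subgroup.normalizer ((S : Subgroup G) : Set G),
      g * (z : G) * g⁻¹ = (z : G) ∨ g * (z : G) * g⁻¹ ∈ R := by
    intro g hg
    set z' := g * (z : G) * g⁻¹ with hz'
    by_cases hin : z' ∈ R
    · exact Or.inr hin
    left
    have hgS : ∀ x ∈ (S : Subgroup G), g * x * g⁻¹ ∈ (S : Subgroup G) := fun x hx =>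
      (Subgroup.mem_normalizer_iff.mp hg x).mp hx
    have hgS' : ∀ x ∈ (S : Subgroup G), g⁻¹ * x * g ∈ (S : Subgroup G) := fun x hx =>
      (Subgroup.mem_normalizer_iff''.mp hg x).mp hx
    have hz'z : z' * z' = 1 := by
      rw [hz']
      calc g * (z : G) * g⁻¹ * (g * z * g⁻¹) = g * ((z : G) * z) * g⁻¹ := by group
        _ = 1 := by rw [hzz]; group
    -- the conjugate of `Q` centralizes `R` modulo nothing
    have hparts : ∀ x ∈ Q, ∀ a ∈ Q, ∀ b ∈ R, a * b = g * x * g⁻¹ → ∀ r ∈ R, b * r = r * b := by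
      intro x hx a ha b hb hab r hr
      by_contra hne'
      set c := ⁅g * x * g⁻¹, r⁆ with hc
      have hc1 : c = ⁅b, r⁆ := by
        rw [hc, ← hab, commutatorElement_def, commutatorElement_def]
        calc a * b * r * (a * b)⁻¹ * r⁻¹ = a * (b * r * b⁻¹) * a⁻¹ * r⁻¹ := by group
          _ = (b * r * b⁻¹) * a * a⁻¹ * r⁻¹ := by
            rw [hcomm a ha _ (R.mul_mem (R.mul_mem hb hr) (R.inv_mem hb))]
          _ = b * r * b⁻¹ * r⁻¹ := by group
      have hcR : c ∈ R := by
        rw [hc1, commutatorElement_def]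
        exact R.mul_mem (R.mul_mem (R.mul_mem hb hr) (R.inv_mem hb)) (R.inv_mem hr)
      have hcne : c ≠ 1 := by
        rw [hc1]
        exact fun h => hne' (commutatorElement_eq_one_iff_mul_comm.mp h)
      -- `c` lies in the conjugate of `Q`
      obtain ⟨a', ha', b', hb', hab'⟩ := decomp _ (hgS' r (hRS hr))
      have hcQ : g⁻¹ * c * g ∈ Q := by
        have e : g⁻¹ * c * g = x * (a' * (b' * x⁻¹ * b'⁻¹) * a'⁻¹) := by
          rw [hc, commutatorElement_def]
          calc g⁻¹ * (g * x * g⁻¹ * r * (g * x * g⁻¹)⁻¹ * r⁻¹) * g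
              = x * (g⁻¹ * r * g) * x⁻¹ * (g⁻¹ * r * g)⁻¹ := by group
            _ = x * (a' * b') * x⁻¹ * (a' * b')⁻¹ := by rw [hab']
            _ = x * (a' * (b' * x⁻¹ * b'⁻¹) * a'⁻¹) := by group
        rw [e, show b' * x⁻¹ * b'⁻¹ = x⁻¹ from by
          rw [← hcomm x⁻¹ (Q.inv_mem hx) b' hb', mul_inv_cancel_right]]
        exact Q.mul_mem hx (Q.mul_mem (Q.mul_mem ha' (Q.inv_mem hx)) (Q.inv_mem ha'))
      obtain ⟨j, hj⟩ := S.isPGroup' ⟨c, hRS hcR⟩
      have hj' : c ^ 2 ^ j = 1 := congrArg Subtype.val hj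
      have hord : 2 ∣ orderOf c := by
        obtain ⟨i, -, hi⟩ := (Nat.dvd_prime_pow Nat.prime_two).mp (orderOf_dvd_of_pow_eq_one hj')
        rcases i with _ | i
        · exact absurd (orderOf_eq_one_iff.mp (by simpa using hi)) hcne
        · exact hi ▸ dvd_pow_self 2 (Nat.succ_ne_zero i)
      obtain ⟨m, hm⟩ := hord
      have hmpos : 0 < m := by
        rcases Nat.eq_zero_or_pos m with rfl | h
        · simp [orderOf_eq_zero_iff] at hm
          exact absurd (isOfFinOrder_of_finite c) hm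
        · exact h
      have hcm : c ^ m * c ^ m = 1 := by rw [← pow_add, ← two_mul, ← hm, pow_orderOf_eq_one]
      have hcm1 : c ^ m ≠ 1 := fun h => by
        have := Nat.le_of_dvd hmpos (orderOf_dvd_of_pow_eq_one h)
        omega
      rcases hQinv (g⁻¹ * c ^ m * g) (by
          rw [show g⁻¹ * c ^ m * g = (g⁻¹ * c * g) ^ m from by
            rw [show g⁻¹ * c * g = g⁻¹ * c * g⁻¹⁻¹ from by group, conj_pow, inv_inv]]
          exact Q.pow_mem hcQ m)
        (by calc g⁻¹ * c ^ m * g * (g⁻¹ * c ^ m * g) = g⁻¹ * (c ^ m * c ^ m) * g := by group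
              _ = 1 := by rw [hcm]; group) with h | h
      · apply hcm1
        calc c ^ m = g * (g⁻¹ * c ^ m * g) * g⁻¹ := by group
          _ = 1 := by rw [h]; group
      · apply hin
        have : c ^ m = z' := by
          rw [hz', ← h]; group
        exact this ▸ R.pow_mem hcR m
    obtain ⟨a₁, ha₁, b₁, hb₁, h₁⟩ := decomp _ (hgS _ (hQS p.2))
    obtain ⟨a₂, ha₂, b₂, hb₂, h₂⟩ := decomp _ (hgS _ (hQS q.2))
    have hb12 : b₁ * b₂ = b₂ * b₁ := hparts _ p.2 a₁ ha₁ b₁ hb₁ h₁ b₂ hb₂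
    have hzQ : z' ∈ Q := by
      have e : z' = ⁅a₁, a₂⁆ := by
        rw [hz', hzpq, conjugate_commutatorElement, ← h₁, ← h₂, commutatorElement_def,
          commutatorElement_def]
        have c1 := hcomm a₂ ha₂ b₁ hb₁
        calc a₁ * b₁ * (a₂ * b₂) * (a₁ * b₁)⁻¹ * (a₂ * b₂)⁻¹
            = a₁ * (b₁ * a₂) * b₂ * b₁⁻¹ * a₁⁻¹ * b₂⁻¹ * a₂⁻¹ := by group
          _ = a₁ * a₂ * (b₁ * b₂) * b₁⁻¹ * a₁⁻¹ * b₂⁻¹ * a₂⁻¹ := by rw [← c1]; group
          _ = a₁ * a₂ * (b₂ * a₁⁻¹) * b₂⁻¹ * a₂⁻¹ := by rw [hb12]; group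
          _ = a₁ * a₂ * a₁⁻¹ * a₂⁻¹ := by rw [← hcomm a₁⁻¹ (Q.inv_mem ha₁) b₂ hb₂]; group
      rw [e, commutatorElement_def]
      exact Q.mul_mem (Q.mul_mem (Q.mul_mem ha₁ ha₂) (Q.inv_mem ha₁)) (Q.inv_mem ha₂)
    rcases hQinv z' hzQ hz'z with h | h
    · exact absurd (h ▸ R.one_mem) hin
    · exact h
  -- the product of the orbit of `z`
  set Z : Subgroup G := (S : Subgroup G) ⊓ Subgroup.centralizer ((S : Subgroup G) : Set G) with hZ
  letI : CommGroup ↥Z :=
    { (inferInstance : Group ↥Z) with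
      mul_comm := fun x y => Subtype.ext ((Subgroup.mem_centralizer_iff.mp y.2.2 x.1 x.2.1)) }
  have hzZ : (z : G) ∈ Z := ⟨hQS z.2, Subgroup.mem_centralizer_iff.mpr fun s hs =>
    (hcent _ (hQS z.2) hzz s hs).symm⟩
  set z₁ : ↥Z := ⟨z, hzZ⟩ with hz₁
  have := Fintype.ofFinite ↥Z
  let O : Finset ↥Z := Finset.univ.filter fun x =>
    ∃ g ∈ Subgroup.normalizer ((S : Subgroup G) : Set G), (x : G) = g * (z : G) * g⁻¹
  have hz₁O : z₁ ∈ O := Finset.mem_filter.mpr ⟨Finset.mem_univ _, 1, one_mem _, by simp [hz₁]⟩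
  set w : G := ((∏ x ∈ O, x : ↥Z) : G) with hw
  have hwR : ∃ r ∈ R, w = (z : G) * r := by
    refine ⟨((∏ x ∈ O.erase z₁, x : ↥Z) : G), ?_, ?_⟩
    · refine Finset.prod_induction (fun x => x) (fun x : ↥Z => (x : G) ∈ R)
        (fun a b ha hb => R.mul_mem ha hb) R.one_mem fun x hx => ?_
      obtain ⟨hxne, hxO⟩ := Finset.mem_erase.mp hx
      obtain ⟨g, hg, hxg⟩ := (Finset.mem_filter.mp hxO).2
      rcases key g hg with h | h
      · exact absurd (Subtype.ext (hxg.trans h)) hxne
      · rwa [hxg]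
    · rw [hw, ← Finset.mul_prod_erase O (fun x => x) hz₁O]
      rfl
  have hwZ : w ∈ Z := (∏ x ∈ O, x : ↥Z).2
  have hOinv : ∀ x ∈ O, (x : G) * x = 1 := by
    intro x hx
    obtain ⟨g, -, hxg⟩ := (Finset.mem_filter.mp hx).2
    rw [hxg]
    calc g * (z : G) * g⁻¹ * (g * z * g⁻¹) = g * ((z : G) * z) * g⁻¹ := by group
      _ = 1 := by rw [hzz]; group
  have hww : w * w = 1 := by
    have : (∏ x ∈ O, x : ↥Z) * ∏ x ∈ O, x = 1 := by
      rw [← Finset.prod_mul_distrib]
      exact Finset.prod_eq_one fun x hx => Subtype.ext (hOinv x hx)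
    exact congrArg Subtype.val this
  have hw1 : w ≠ 1 := by
    intro h
    obtain ⟨r, hr, hwr⟩ := hwR
    exact hzR (by rw [eq_inv_of_mul_eq_one_left (hwr.symm.trans h)]; exact R.inv_mem hr)
  have hwfix : ∀ g ∈ Subgroup.normalizer ((S : Subgroup G) : Set G), g * w * g⁻¹ = w := by
    intro g hg
    have hgZ : ∀ x ∈ Z, g * x * g⁻¹ ∈ Z := fun x hx =>
      ⟨(Subgroup.mem_normalizer_iff.mp hg x).mp hx.1, Subgroup.mem_centralizer_iff.mpr fun s hs => by
        have h1 := Subgroup.mem_centralizer_iff.mp hx.2 _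
          ((Subgroup.mem_normalizer_iff''.mp hg s).mp hs)
        calc s * (g * x * g⁻¹) = g * ((g⁻¹ * s * g) * x) * g⁻¹ := by group
          _ = g * (x * (g⁻¹ * s * g)) * g⁻¹ := by rw [h1]
          _ = g * x * g⁻¹ * s := by group⟩
    let f : ↥Z →* ↥Z :=
      { toFun := fun x => ⟨g * x * g⁻¹, hgZ x x.2⟩
        map_one' := Subtype.ext (by simp)
        map_mul' := fun x y => Subtype.ext (by simp [mul_assoc]) }
    have hf : Function.Injective f := fun x y h => Subtype.ext (by
      have := congrArg Subtype.val h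
      exact mul_left_cancel (mul_right_cancel this))
    have himg : O.image f = O := by
      refine Finset.eq_of_subset_of_card_le ?_ (by rw [Finset.card_image_of_injective _ hf])
      intro y hy
      obtain ⟨x, hx, rfl⟩ := Finset.mem_image.mp hy
      obtain ⟨h, hh, hxh⟩ := (Finset.mem_filter.mp hx).2
      exact Finset.mem_filter.mpr ⟨Finset.mem_univ _, g * h, mul_mem hg hh, by
        show g * (x : G) * g⁻¹ = _
        rw [hxh]; group⟩
    have : f (∏ x ∈ O, x) = ∏ x ∈ O, x := by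
      rw [map_prod]
      conv_rhs => rw [← himg]
      rw [Finset.prod_image fun a _ b _ h => hf h]
    exact congrArg Subtype.val this
  -- isolation and the Z* theorem
  have hw2 : orderOf w = 2 := orderOf_eq_prime (by rw [pow_two]; exact hww) hw1
  have hiso : ∀ g : G, g * w * g⁻¹ ∈ S → g * w * g⁻¹ = w := by
    intro g hg
    have hww' : g * w * g⁻¹ * (g * w * g⁻¹) = 1 := by
      calc g * w * g⁻¹ * (g * w * g⁻¹) = g * (w * w) * g⁻¹ := by group
        _ = 1 := by rw [hww]; group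
    obtain ⟨m, hm, he⟩ := Sylow.conj_eq_normalizer_conj_of_mem_centralizer S w g⁻¹ hwZ.2
      (Subgroup.mem_centralizer_iff.mpr fun s hs => by
        rw [inv_inv]; exact (hcent _ hg hww' s hs).symm)
    rw [inv_inv] at he
    rw [he]
    simpa using hwfix m⁻¹ (inv_mem hm)
  obtain ⟨N, hN, hNodd, hNc⟩ := Cfsg.Agent.S0215.result S w hw2 hwZ.1 hiso
  have hNbot : N = ⊥ := by
    refine (IsSimpleGroup.eq_bot_or_eq_top_of_normal N hN).resolve_right fun h => ?_
    rw [h, Subgroup.card_top] at hNodd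
    exact (Nat.not_even_iff_odd.mpr hNodd)
      (even_iff_two_dvd.mpr (hw2 ▸ orderOf_dvd_natCard w))
  have hwc : w ∈ Subgroup.center G := Subgroup.mem_center_iff.mpr fun g => by
    have h := hNc g
    rw [hNbot, Subgroup.mem_bot] at h
    calc g * w = (w * g * w⁻¹ * g⁻¹) * (g * w) := by rw [h, one_mul]
      _ = w * g := by group
  have htop : Subgroup.center G = ⊤ :=
    (IsSimpleGroup.eq_bot_or_eq_top_of_normal (Subgroup.center G) inferInstance).resolve_left
      fun h => hw1 (by rw [h, Subgroup.mem_bot] at hwc; exact hwc)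
  exact hz1 (by
    rw [hzpq, commutatorElement_eq_one_iff_mul_comm]
    exact Subgroup.mem_center_iff.mp (htop ▸ Subgroup.mem_top (q : G)) (p : G))

end Cfsg.Agent.S3269
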