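import Cfsg.Statements.S3276
import Mathlib
-- import your own Cfsg.Agent.* helpers here

set_option autoImplicit false
open Cfsg

namespace Cfsg.Agent.S3276

lemma inv_of_orderOf_two {G : Type*} [Group G] {x : G} (h : orderOf x = 2) : x⁻¹ = x := by
  have := pow_orderOf_eq_one x
  rw [h, pow_two] at this
  exact inv_eq_of_mul_eq_one_right this

lemma exists_central {G : Type*} [Group G] [Finite G] {x y : G} (hx : orderOf x = 2) (hy : orderOf y = 2)
    (h : ¬ IsConj x y) : ∃ u : G, orderOf u = 2 ∧ Commute u x ∧ Commute u y := by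
  have hx' := inv_of_orderOf_two hx
  have hy' := inv_of_orderOf_two hy
  have hxx : x * x = 1 := by rw [mul_eq_one_iff_inv_eq]; exact hx'
  have hyy : y * y = 1 := by rw [mul_eq_one_iff_inv_eq]; exact hy'
  have hconjx : ∀ n : ℕ, x * (x * y) ^ n * x⁻¹ = ((x * y) ^ n)⁻¹ := by
    intro n
    rw [← conj_pow, ← inv_pow]
    congr 1
    rw [mul_inv_rev, hx', hy', ← mul_assoc, hxx, one_mul]
  rcases Nat.even_or_odd (orderOf (x * y)) with ⟨m, hm⟩ | ⟨m, hm⟩
  · refine ⟨(x * y) ^ m, ?_, ?_, ?_⟩
    · have hpos := orderOf_pos (x * y)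
      rw [orderOf_pow' _ (by omega), hm, Nat.gcd_eq_right ⟨2, by omega⟩]
      exact Nat.div_eq_of_eq_mul_left (by omega) (by omega)
    all_goals
      have hu : ((x * y) ^ m)⁻¹ = (x * y) ^ m := by
        apply inv_eq_of_mul_eq_one_right
        rw [← pow_add, ← hm, pow_orderOf_eq_one]
      have h1 : Commute ((x * y) ^ m) x := by
        have := hconjx m
        rw [hu, mul_inv_eq_iff_eq_mul] at this
        exact this.symm
    · exact h1
    · have h2 : Commute ((x * y) ^ m) (x * y) := (Commute.refl (x * y)).pow_left m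
      have h3 := h1.mul_right h2
      rwa [← mul_assoc, hxx, one_mul] at h3
  · exfalso; apply h
    refine isConj_iff.2 ⟨(x * y) ^ m, ?_⟩
    have hk : (x * y) ^ (2 * m + 1) = 1 := by rw [← hm, pow_orderOf_eq_one]
    have h1 : ((x * y) ^ m)⁻¹ = x * (x * y) ^ m * x⁻¹ := (hconjx m).symm
    rw [h1, hx']
    calc (x * y) ^ m * x * (x * (x * y) ^ m * x)
        = (x * y) ^ m * (x * x) * (x * y) ^ m * x := by group
      _ = (x * y) ^ (2 * m + 1) * (y⁻¹ * x⁻¹ * x) := by
          rw [hxx, pow_succ, two_mul, pow_add]; simp [mul_assoc, hyy, hy', hx', hxx]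
      _ = y := by rw [hk, hy']; group

/-- Let x and y be commuting, non-conjugate involutions of a finite group G, and suppose that for every involution u commuting with x, each conjugate of y that commutes with u also commutes with y. Then the normal closure of y is a proper, normal, elementary abelian 2-subgroup of G; and if y is the only involution of that normal closure commuting with x, it has order at most 4. -/
theorem result {G : Type*} [Group G] [Finite G] (x y : G) (hx : orderOf x = 2) (hy : orderOf y = 2)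
    (hxy : Commute x y) (hnc : ¬ IsConj x y)
    (hstar : ∀ u : G, orderOf u = 2 → Commute u x → ∀ g : G, Commute (g * y * g⁻¹) u → Commute (g * y * g⁻¹) y) :
    Subgroup.normalClosure ({y} : Set G) ≠ ⊤ ∧ Cfsg.IsElementaryAbelian 2 (Subgroup.normalClosure ({y} : Set G)) ∧
      ((∀ u ∈ Subgroup.normalClosure ({y} : Set G), orderOf u = 2 → Commute u x → u = y) →
        Nat.card ↥(Subgroup.normalClosure ({y} : Set G)) ≤ 4) := by
  set N := Subgroup.normalClosure ({y} : Set G) with hN
  have hcy : ∀ g : G, Commute (g * y * g⁻¹) y := by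
    intro g
    have hg : orderOf (g * y * g⁻¹) = 2 := by
      rw [← hy]; exact (MulAut.conj g).orderOf_eq y
    have hncg : ¬ IsConj x (g * y * g⁻¹) := fun hc => hnc (hc.trans (isConj_iff.2 ⟨g⁻¹, by group⟩))
    obtain ⟨u, hu, hux, huy⟩ := exists_central hx hg hncg
    exact hstar u hu hux g huy.symm
  have hall : ∀ g h : G, Commute (g * y * g⁻¹) (h * y * h⁻¹) := by
    intro g h
    have := (hcy (h⁻¹ * g)).map (MulAut.conj h).toMonoidHom
    simpa [MulAut.conj_apply, mul_assoc] using this
  have hmem : ∀ s ∈ Group.conjugatesOfSet ({y} : Set G), ∃ g, g * y * g⁻¹ = s := by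
    intro s hs
    obtain ⟨a, ha, hc⟩ := Group.mem_conjugatesOfSet_iff.1 hs
    rw [Set.mem_singleton_iff] at ha
    subst ha
    exact isConj_iff.1 hc
  haveI hcomm : IsMulCommutative N := by
    refine Subgroup.isMulCommutative_closure ?_
    intro a ha b hb
    obtain ⟨g, rfl⟩ := hmem a ha
    obtain ⟨h, rfl⟩ := hmem b hb
    exact hall g h
  have hcN : ∀ a ∈ N, ∀ b ∈ N, a * b = b * a := by
    intro a ha b hb
    have := (IsMulCommutative.is_comm (M := N)).comm ⟨a, ha⟩ ⟨b, hb⟩
    exact congrArg Subtype.val this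
  have hexp : ∀ a ∈ N, a ^ 2 = 1 := by
    intro a ha
    induction ha using Subgroup.closure_induction with
    | mem a ha =>
      obtain ⟨g, rfl⟩ := hmem a ha
      rw [conj_pow]
      have h := pow_orderOf_eq_one y
      rw [hy] at h
      simp [h]
    | one => simp
    | mul a b ha hb iha ihb => rw [Commute.mul_pow (hcN a ha b hb), iha, ihb, one_mul]
    | inv a ha iha => rw [inv_pow, iha, inv_one]
  have hyN : y ∈ N := Subgroup.subset_normalClosure rfl
  refine ⟨?_, ⟨hcomm, hexp⟩, ?_⟩
  · intro htop
    have hab : ∀ a b : G, a * b = b * a := fun a b =>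
      hcN a (htop ▸ Subgroup.mem_top a) b (htop ▸ Subgroup.mem_top b)
    have hle : N ≤ Subgroup.zpowers y := by
      rw [hN, Subgroup.normalClosure, Subgroup.closure_le]
      intro s hs
      obtain ⟨g, rfl⟩ := hmem s hs
      rw [hab g y]; simp
    have hxz : x ∈ Subgroup.zpowers y := hle (htop ▸ Subgroup.mem_top x)
    obtain ⟨k, rfl⟩ := Subgroup.mem_zpowers_iff.1 hxz
    apply hnc
    rw [← zpow_mod_orderOf, hy] at hx ⊢
    rcases Int.emod_two_eq_zero_or_one k with h0 | h0
    · simp [h0] at hx
    · exact isConj_iff.2 ⟨1, by simp [h0]⟩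
  · intro huniq
    classical
    have hker : ∀ a ∈ N, Commute a x → a = 1 ∨ a = y := by
      intro a ha hax
      rcases eq_or_ne a 1 with h1 | h1
      · exact Or.inl h1
      · exact Or.inr (huniq a ha (orderOf_eq_prime (hexp a ha) h1) hax)
    have hxN : ∀ a ∈ N, x * a * x⁻¹ ∈ N := fun a ha => Subgroup.normalClosure_normal.conj_mem a ha x
    let f : N →* N :=
      { toFun := fun a => ⟨a.1 * (x * a.1 * x⁻¹), N.mul_mem a.2 (hxN _ a.2)⟩
        map_one' := by ext; simp
        map_mul' := fun a b => by
          ext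
          simp only [Subgroup.coe_mul]
          rw [show a.1 * b.1 * (x * (a.1 * b.1) * x⁻¹) = a.1 * (b.1 * (x * a.1 * x⁻¹)) * (x * b.1 * x⁻¹) by group,
            hcN b.1 b.2 _ (hxN _ a.2)]
          group }
    have hsmall : ∀ K : Subgroup N, (∀ a ∈ K, Commute (a : G) x) → Nat.card K ≤ 2 := by
      intro K hK
      refine le_trans (Nat.card_le_card_of_injective
        (fun a : K => decide ((a.1 : G) = 1)) ?_) (by simp)
      intro a b hab
      simp only [decide_eq_decide] at hab
      have := hker _ a.1.2 (hK _ a.2)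
      have := hker _ b.1.2 (hK _ b.2)
      apply Subtype.ext; apply Subtype.ext
      rcases hker _ a.1.2 (hK _ a.2) with h1 | h1 <;> rcases hker _ b.1.2 (hK _ b.2) with h2 | h2 <;>
        simp_all
    have hxx : x * x = 1 := by
      have := pow_orderOf_eq_one x
      rwa [hx, pow_two] at this
    have hk : Nat.card f.ker ≤ 2 := hsmall _ fun a ha => by
      have h1 : a.1 * (x * a.1 * x⁻¹) = 1 := congrArg Subtype.val (MonoidHom.mem_ker.1 ha)
      have h2 : a.1⁻¹ = a.1 := by
        have h3 := hexp a.1 a.2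
        rw [pow_two] at h3
        exact inv_eq_of_mul_eq_one_right h3
      have h4 : x * a.1 * x⁻¹ = a.1 := by
        rw [mul_eq_one_iff_inv_eq, h2] at h1
        exact h1.symm
      rw [mul_inv_eq_iff_eq_mul] at h4
      exact h4.symm
    have hr : Nat.card f.range ≤ 2 := hsmall _ fun a ha => by
      obtain ⟨b, rfl⟩ := ha
      show (b.1 * (x * b.1 * x⁻¹)) * x = x * (b.1 * (x * b.1 * x⁻¹))
      have hxi : x⁻¹ = x := inv_of_orderOf_two hx
      rw [hcN b.1 b.2 _ (hxN _ b.2), hxi]
      simp only [mul_assoc]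
      congr 1
      rw [← mul_assoc x b.1 (x * b.1), ← mul_assoc (x * b.1) x b.1]
      have := hcN b.1 b.2 _ (hxN _ b.2)
      rw [hxi] at this
      simp only [mul_assoc] at this ⊢
      rw [← this]
    have := f.ker.card_eq_card_quotient_mul_card_subgroup
    rw [Nat.card_congr (QuotientGroup.quotientKerEquivRange f).toEquiv] at this
    calc Nat.card N = Nat.card f.range * Nat.card f.ker := this
      _ ≤ 4 := Nat.mul_le_mul hr hk

end Cfsg.Agent.S3276
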