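import Cfsg.Statements.S3277
import Cfsg.Agent.Lib.CommPairs.Basic
import Cfsg.Agent.Lib.Involution.ThompsonTransfer
import Cfsg.Agent.Lib.ConjFunctor.Basic
import Cfsg.Agent.Lib.MinimalNormal
import Cfsg.Agent.Lib.PSolvable.Core
import Cfsg.Agent.Lib.SECount.Zassenhaus
import Cfsg.Agent.Lib.SL2.Basic
import Cfsg.Agent.S0252
-- import your own Cfsg.Agent.* helpers here

set_option autoImplicit false
open Cfsg

namespace Cfsg.Agent.S3277


universe u

section TwoGroup

open scoped commutatorElement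

variable {S : Type*} [Group S] [Finite S]

lemma commutator_le_coatom (hS : IsPGroup 2 S) (M : Subgroup S) (hM : IsCoatom M) :
    commutator S ≤ M := by
  have : Fact (Nat.Prime 2) := ⟨Nat.prime_two⟩
  have : Group.IsNilpotent S := hS.isNilpotent
  have : M.Normal := Subgroup.NormalizerCondition.normal_of_coatom M Group.normalizerCondition_of_isNilpotent hM
  obtain ⟨g, hg⟩ : ∃ g : S, g ∉ M := by
    by_contra h
    push Not at h
    exact hM.1 ((Subgroup.eq_top_iff' M).mpr h)
  have htop : Subgroup.zpowers g ⊔ M = ⊤ :=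
    hM.2 _ (lt_of_le_of_ne le_sup_right fun h => hg (h ▸ Subgroup.mem_sup_left (Subgroup.mem_zpowers g)))
  have hgen : ∀ q : S ⧸ M, q ∈ Subgroup.zpowers (g : S ⧸ M) := by
    intro q
    obtain ⟨a, rfl⟩ := QuotientGroup.mk_surjective q
    have ha : a ∈ Subgroup.zpowers g ⊔ M := htop ▸ Subgroup.mem_top a
    obtain ⟨b, hb, c, hc, rfl⟩ := Subgroup.mem_sup_of_normal_right.mp ha
    rw [QuotientGroup.mk_mul, (QuotientGroup.eq_one_iff c).mpr hc, mul_one]
    obtain ⟨i, rfl⟩ := Subgroup.mem_zpowers_iff.mp hb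
    exact Subgroup.mem_zpowers_iff.mpr ⟨i, by simp⟩
  rw [commutator_def, Subgroup.commutator_le]
  intro a _ b _
  obtain ⟨i, hi⟩ := Subgroup.mem_zpowers_iff.mp (hgen a)
  obtain ⟨j, hj⟩ := Subgroup.mem_zpowers_iff.mp (hgen b)
  rw [← QuotientGroup.eq_one_iff, ← QuotientGroup.mk'_apply, map_commutatorElement,
    commutatorElement_eq_one_iff_commute, QuotientGroup.mk'_apply, QuotientGroup.mk'_apply,
    ← hi, ← hj]
  exact (Commute.refl _).zpow_zpow i j

lemma not_generated_mod_commutator (hS : IsPGroup 2 S) (hnc : ¬ ∀ a b : S, a * b = b * a) (g : S) :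
    Subgroup.zpowers g ⊔ commutator S ≠ ⊤ := by
  intro h
  have h1 : Subgroup.zpowers g ⊔ frattini S = ⊤ := top_le_iff.mp (h ▸ sup_le_sup_left
    (show commutator S ≤ frattini S from le_iInf₂ fun M hM => commutator_le_coatom hS M hM) _)
  have h2 := frattini_nongenerating h1
  refine hnc fun a b => ?_
  obtain ⟨i, rfl⟩ := Subgroup.mem_zpowers_iff.mp (h2 ▸ Subgroup.mem_top a)
  obtain ⟨j, rfl⟩ := Subgroup.mem_zpowers_iff.mp (h2 ▸ Subgroup.mem_top b)
  exact ((Commute.refl g).zpow_zpow i j).eq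

lemma conj_mem_coset {y : S} {c : S} (hc : c ∈ (ConjClasses.mk y).carrier) :
    y⁻¹ * c ∈ commutator S := by
  obtain ⟨k, rfl⟩ := isConj_iff.mp
    (ConjClasses.mk_eq_mk_iff_isConj.mp (ConjClasses.mem_carrier_iff_mk_eq.mp hc).symm)
  have : y⁻¹ * (k * y * k⁻¹) = ⁅y⁻¹, k⁆ := by rw [commutatorElement_def]; group
  rw [this]
  exact Subgroup.commutator_mem_commutator (Subgroup.mem_top _) (Subgroup.mem_top _)

lemma class_card (y : S) :
    Nat.card (ConjClasses.mk y).carrier * Nat.card (Subgroup.centralizer ({y} : Set S)) =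
      Nat.card S :=
  Lib.SL2.card_class_mul_centralizer y

/-- If some element outside the centre of a noncommutative 2-group has centralizer of order at
most 4, there is a subgroup of index 2 avoiding all involutions with this property. -/
lemma exists_avoiding (hS : IsPGroup 2 S) (x₀ : S) (hx₀ : x₀ * x₀ = 1)
    (hC₀ : Nat.card (Subgroup.centralizer ({x₀} : Set S)) ≤ 4) (hnc : ¬ ∀ a b : S, a * b = b * a)
    (Y : Set S) (hY : ∀ y ∈ Y, y * y = 1 ∧ Nat.card (Subgroup.centralizer ({y} : Set S)) ≤ 4) :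
    ∃ M : Subgroup S, M.index = 2 ∧ ∀ y ∈ Y, y ∉ M := by
  classical
  set D := commutator S with hD
  have hbig : ∀ y : S, Nat.card (Subgroup.centralizer ({y} : Set S)) ≤ 4 →
      Nat.card S ≤ 4 * Nat.card (ConjClasses.mk y).carrier := by
    intro y hy
    rw [← class_card y, mul_comm 4]
    exact Nat.mul_le_mul_left _ hy
  have hinj : ∀ y : S, Nat.card (ConjClasses.mk y).carrier ≤ Nat.card D := fun y =>
    Nat.card_le_card_of_injective (fun c => (⟨y⁻¹ * c.1, conj_mem_coset c.2⟩ : D))
      fun a b h => Subtype.ext (mul_left_cancel (congrArg Subtype.val h))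
  have hidx : D.index ≤ 4 := by
    have h1 := (hbig x₀ hC₀).trans (Nat.mul_le_mul_left 4 (hinj x₀))
    rw [← D.card_mul_index, mul_comm (Nat.card D)] at h1
    exact Nat.le_of_mul_le_mul_right h1 Nat.card_pos
  have hgen := not_generated_mod_commutator hS hnc
  have hDtop : D ≠ ⊤ := fun h => hgen 1 (by rw [← hD, h, sup_top_eq])
  have hord : ∀ g : S, orderOf (g : S ⧸ D) < D.index := by
    intro g
    refine lt_of_le_of_ne (Nat.le_of_dvd Nat.card_pos (orderOf_dvd_natCard _)) fun h => hgen g ?_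
    have h2 : Subgroup.zpowers (g : S ⧸ D) = ⊤ :=
      Subgroup.eq_top_of_card_eq _ (by rw [Nat.card_zpowers]; exact h)
    have h3 := congrArg (Subgroup.comap (QuotientGroup.mk' D)) h2
    rw [Subgroup.comap_top, ← QuotientGroup.mk'_apply, ← MonoidHom.map_zpowers,
      Subgroup.comap_map_eq, QuotientGroup.ker_mk'] at h3
    exact h3
  have : Fact (Nat.Prime 2) := ⟨Nat.prime_two⟩
  obtain ⟨k, hk⟩ := hS.index D
  have hidx4 : D.index = 4 := by
    have h0 : D.index ≠ 1 := fun h => hDtop (Subgroup.index_eq_one.mp h)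
    obtain ⟨g, hg⟩ : ∃ g : S, g ∉ D := by
      by_contra h
      push Not at h
      exact hDtop ((Subgroup.eq_top_iff' D).mpr h)
    have h2 : 2 ≤ orderOf (g : S ⧸ D) := by
      have := orderOf_pos (g : S ⧸ D)
      have : orderOf (g : S ⧸ D) ≠ 1 := fun h => hg ((QuotientGroup.eq_one_iff g).mp (orderOf_eq_one_iff.mp h))
      omega
    have := hord g
    rw [hk] at hidx h0 this ⊢
    rcases k with _ | _ | _ | m
    · simp at h0
    · simp at this; omega
    · rfl
    · exfalso
      have : 8 ≤ 2 ^ (m + 3) := by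
        calc 8 = 2 ^ 3 := rfl
          _ ≤ 2 ^ (m + 3) := Nat.pow_le_pow_right (by norm_num) (by omega)
      omega
  have hord2 : ∀ g : S, g ∉ D → orderOf (g : S ⧸ D) = 2 := by
    intro g hg
    have h1 := hord g
    have h2 : orderOf (g : S ⧸ D) ≠ 1 := fun h =>
      hg ((QuotientGroup.eq_one_iff g).mp (orderOf_eq_one_iff.mp h))
    have h3 : orderOf (g : S ⧸ D) ∣ 4 := hidx4 ▸ orderOf_dvd_natCard _
    rw [hidx4] at h1
    have h4 := orderOf_pos (g : S ⧸ D)
    rcases (show orderOf (g : S ⧸ D) = 2 ∨ orderOf (g : S ⧸ D) = 3 by omega) with h | h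
    · exact h
    · rw [h] at h3; norm_num at h3
  have hnotD : ∀ y : S, y * y = 1 → Nat.card (Subgroup.centralizer ({y} : Set S)) ≤ 4 → y ∉ D := by
    intro y hy hCy hyD
    have hsurj : Function.Bijective (fun c : (ConjClasses.mk y).carrier =>
        (⟨y⁻¹ * c.1, conj_mem_coset c.2⟩ : D)) := by
      refine (Nat.bijective_iff_injective_and_card _).mpr
        ⟨fun a b h => Subtype.ext (mul_left_cancel (congrArg Subtype.val h)), ?_⟩
      refine le_antisymm (hinj y) ?_
      have h1 := hbig y hCy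
      rw [← D.card_mul_index, hidx4] at h1
      omega
    obtain ⟨c, hc⟩ := hsurj.2 ⟨y⁻¹, inv_mem hyD⟩
    have hc1 : c.1 = 1 := mul_left_cancel ((congrArg Subtype.val hc).trans (mul_one _).symm)
    have h1 := ConjClasses.mem_carrier_iff_mk_eq.mp c.2
    rw [hc1, ConjClasses.mk_eq_mk_iff_isConj] at h1
    have hy1 : y = 1 := isConj_one_right.mp h1
    subst hy1
    have h2 : Subgroup.centralizer ({1} : Set S) = ⊤ := by
      ext a; simp [Subgroup.mem_centralizer_singleton_iff]
    rw [h2, Subgroup.card_top] at hCy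
    -- a 2-group of order at most 4 is commutative
    have h4 : Nat.card D * 4 ≤ 4 := by rw [← hidx4, D.card_mul_index]; simpa [hidx4] using hCy
    have hDb : D = ⊥ := Subgroup.eq_bot_of_card_le _ (by omega)
    refine hnc fun a b => ?_
    have h5 : ⁅a, b⁆ ∈ D := Subgroup.commutator_mem_commutator (Subgroup.mem_top _) (Subgroup.mem_top _)
    rw [hDb, Subgroup.mem_bot, commutatorElement_eq_one_iff_mul_comm] at h5
    exact h5
  -- a coset without such elements
  by_cases hex : ∃ d : S, d ∉ D ∧ ∀ y ∈ Y, y⁻¹ * d ∉ D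
  · obtain ⟨d, hd, hdY⟩ := hex
    refine ⟨(Subgroup.zpowers (d : S ⧸ D)).comap (QuotientGroup.mk' D), ?_, ?_⟩
    · rw [Subgroup.index_comap_of_surjective _ (QuotientGroup.mk'_surjective D)]
      have hm := (Subgroup.zpowers (d : S ⧸ D)).card_mul_index
      rw [Nat.card_zpowers, hord2 d hd] at hm
      have h4 : Nat.card (S ⧸ D) = 4 := hidx4
      omega
    · intro y hy hyM
      obtain ⟨i, hi⟩ := Subgroup.mem_zpowers_iff.mp (Subgroup.mem_comap.mp hyM)
      have hord := hord2 d hd
      rw [← zpow_mod_orderOf, hord] at hi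
      rcases Int.emod_two_eq i with h | h <;> simp [h] at hi
      · exact hnotD y (hY y hy).1 (hY y hy).2 ((QuotientGroup.eq_one_iff y).mp hi.symm)
      · exact hdY y hy (QuotientGroup.eq.mp hi.symm)
  · exfalso
    push Not at hex
    -- every element outside `D` is an involution with small centralizer
    have hout : ∀ d : S, d ∉ D → d * d = 1 ∧ Nat.card (Subgroup.centralizer ({d} : Set S)) ≤ 4 := by
      intro d hd
      obtain ⟨y, hy, hyd⟩ := hex d hd
      obtain ⟨hy2, hyC⟩ := hY y hy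
      have hsurj : Function.Bijective (fun c : (ConjClasses.mk y).carrier =>
          (⟨y⁻¹ * c.1, conj_mem_coset c.2⟩ : D)) := by
        refine (Nat.bijective_iff_injective_and_card _).mpr
          ⟨fun a b h => Subtype.ext (mul_left_cancel (congrArg Subtype.val h)), ?_⟩
        refine le_antisymm (hinj y) ?_
        have h1 := hbig y hyC
        rw [← D.card_mul_index, hidx4] at h1
        omega
      obtain ⟨c, hc⟩ := hsurj.2 ⟨y⁻¹ * d, hyd⟩
      have hc1 : c.1 = d := mul_left_cancel (congrArg Subtype.val hc)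
      obtain ⟨g, hg⟩ := isConj_iff.mp
        (ConjClasses.mk_eq_mk_iff_isConj.mp (ConjClasses.mem_carrier_iff_mk_eq.mp c.2).symm)
      rw [hc1] at hg
      subst hg
      refine ⟨?_, ?_⟩
      · calc g * y * g⁻¹ * (g * y * g⁻¹) = g * (y * y) * g⁻¹ := by group
          _ = 1 := by rw [hy2]; group
      · refine le_trans (Nat.card_le_card_of_injective (fun a => (⟨g⁻¹ * a.1 * g, ?_⟩ :
          Subgroup.centralizer ({y} : Set S))) fun a b h => ?_) hyC
        · have ha := Subgroup.mem_centralizer_singleton_iff.mp a.2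
          rw [Subgroup.mem_centralizer_singleton_iff]
          calc g⁻¹ * a.1 * g * y = g⁻¹ * (a.1 * (g * y * g⁻¹)) * g := by group
            _ = g⁻¹ * ((g * y * g⁻¹) * a.1) * g := by rw [ha]
            _ = y * (g⁻¹ * a.1 * g) := by group
        · have := congrArg Subtype.val h
          simp only [mul_left_inj, mul_right_inj] at this
          exact Subtype.ext this
    have hx₀D := hnotD x₀ hx₀ hC₀
    -- so `D` is inverted, hence centralized, by every element outside
    have hinv : ∀ s : S, s ∉ D → ∀ d ∈ D, s * d * s = d⁻¹ := by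
      intro s hs d hd
      have h1 : s * d ∉ D := fun h => hs (by simpa using mul_mem h (inv_mem hd))
      exact eq_inv_of_mul_eq_one_left (by rw [← (hout _ h1).1]; group)
    obtain ⟨t, ht, htx⟩ : ∃ t : S, t ∉ D ∧ x₀⁻¹ * t ∉ D := by
      by_contra h
      push Not at h
      refine hgen x₀ ((Subgroup.eq_top_iff' _).mpr fun a => ?_)
      by_cases ha : a ∈ D
      · exact Subgroup.mem_sup_right ha
      · exact Subgroup.mem_sup_of_normal_right.mpr ⟨x₀, Subgroup.mem_zpowers x₀, x₀⁻¹ * a, h a ha, by group⟩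
    have hx₀inv : x₀⁻¹ = x₀ := inv_eq_of_mul_eq_one_right hx₀
    rw [hx₀inv] at htx
    have hsq : ∀ d ∈ D, d * d = 1 := by
      intro d hd
      have h1 := hinv x₀ hx₀D d hd
      have h2 := hinv t ht d hd
      have h3 := hinv (x₀ * t) htx d hd
      have htinv : t⁻¹ = t := inv_eq_of_mul_eq_one_right (hout t ht).1
      have hxt : x₀ * t = t * x₀ := by
        have := inv_eq_of_mul_eq_one_right (hout _ htx).1
        rw [mul_inv_rev, hx₀inv, htinv] at this
        exact this.symm
      have h5 : x₀ * t * d * (x₀ * t) = x₀ * (t * d * t) * x₀ := by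
        conv_lhs => rw [hxt]; arg 1; arg 1; rw [← hxt]
        group
      rw [h5, h2] at h3
      have h4 : x₀ * d⁻¹ * x₀ = d := by
        have h6 := congrArg (fun a : S => a⁻¹) h1
        simp only [mul_inv_rev, inv_inv, hx₀inv] at h6
        rw [mul_assoc]; exact h6
      rw [h4] at h3
      nth_rewrite 1 [h3]
      group
    have hcomm : ∀ a b : S, a * b = b * a := by
      have hall : ∀ a : S, a * a = 1 := fun a => by
        by_cases ha : a ∈ D
        · exact hsq a ha
        · exact (hout a ha).1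
      intro a b
      have hi : ∀ c : S, c⁻¹ = c := fun c => inv_eq_of_mul_eq_one_right (hall c)
      have := hi (a * b)
      rw [mul_inv_rev, hi a, hi b] at this
      exact this.symm
    exact hnc hcomm

end TwoGroup

section Main

variable {G : Type u} [Group G] [Finite G]

lemma mem_cases {x z : G} (hC4 : Nat.card ↥(Subgroup.centralizer ({x} : Set G)) = 4)
    (hx1 : x ≠ 1) (hz1 : z ≠ 1) (hxz : z ≠ x) (hxx : x * x = 1) (hzz : z * z = 1)
    (hz : z ∈ Subgroup.centralizer ({x} : Set G)) {c : G}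
    (hc : c ∈ Subgroup.centralizer ({x} : Set G)) : c = 1 ∨ c = x ∨ c = z ∨ c = x * z := by
  classical
  have hxC : x ∈ Subgroup.centralizer ({x} : Set G) := Subgroup.mem_centralizer_singleton_iff.mpr rfl
  by_contra hcon
  push Not at hcon
  obtain ⟨h1, h2, h3, h4⟩ := hcon
  let f : Fin 5 → Subgroup.centralizer ({x} : Set G) :=
    ![1, ⟨x, hxC⟩, ⟨z, hz⟩, ⟨x * z, mul_mem hxC hz⟩, ⟨c, hc⟩]
  have hxz1 : x * z ≠ 1 := fun h => hxz (by rw [← inv_eq_of_mul_eq_one_right h, inv_eq_of_mul_eq_one_right hxx])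
  have hxzx : x * z ≠ x := fun h => hz1 (mul_left_cancel (h.trans (mul_one x).symm))
  have hxzz : x * z ≠ z := fun h => hx1 (mul_right_cancel (h.trans (one_mul z).symm))
  have hf : Function.Injective f := by
    intro i j h
    have h' := congrArg Subtype.val h
    fin_cases i <;> fin_cases j <;> simp [f] at h' ⊢ <;>
      first
      | exact absurd h' (by assumption)
      | exact absurd h'.symm (by assumption)
  have := Nat.card_le_card_of_injective f hf
  rw [Nat.card_fin, hC4] at this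
  omega

lemma pairs_bound (x : G) (hx : orderOf x = 2)
    (hC4 : Nat.card ↥(Subgroup.centralizer ({x} : Set G)) = 4) (N : Subgroup G) [N.Normal]
    (hN : N.index = 2) (hxN : x ∉ N) :
    Nat.card N ^ 2 ≤ 4 * Lib.CommPairs.pairs N := by
  classical
  let X := (ConjClasses.mk x).carrier
  have hXcard : Nat.card X * 4 = 2 * Nat.card N := by
    rw [← hC4, Lib.SL2.card_class_mul_centralizer, ← N.card_mul_index, hN, mul_comm]
  have hXinv : ∀ u ∈ X, u * u = 1 := by
    intro u hu
    obtain ⟨g, rfl⟩ := isConj_iff.mp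
      (ConjClasses.mk_eq_mk_iff_isConj.mp (ConjClasses.mem_carrier_iff_mk_eq.mp hu).symm)
    have hxx : x * x = 1 := by rw [← pow_two, ← hx, pow_orderOf_eq_one]
    calc g * x * g⁻¹ * (g * x * g⁻¹) = g * (x * x) * g⁻¹ := by group
      _ = 1 := by rw [hxx]; group
  have hXN : ∀ u ∈ X, u ∉ N := by
    intro u hu huN
    obtain ⟨g, rfl⟩ := isConj_iff.mp
      (ConjClasses.mk_eq_mk_iff_isConj.mp (ConjClasses.mem_carrier_iff_mk_eq.mp hu).symm)
    refine hxN ?_
    have := (inferInstance : N.Normal).conj_mem _ huN g⁻¹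
    simpa [mul_assoc] using this
  have hmul : ∀ u ∈ X, ∀ v ∈ X, u * v ∈ N := fun u hu v hv =>
    (Subgroup.mul_mem_iff_of_index_two hN).mpr (iff_of_false (hXN u hu) (hXN v hv))
  have hu0 : ∀ a : G, ∃ u₀ : G, ∀ u ∈ X, u * a ∈ X → u₀ ∈ X ∧ u₀ * a ∈ X := by
    intro a
    by_cases h : ∃ u ∈ X, u * a ∈ X
    · obtain ⟨u, hu⟩ := h; exact ⟨u, fun _ _ _ => hu⟩
    · exact ⟨1, fun u h1 h2 => absurd ⟨u, h1, h2⟩ h⟩
  choose u₀ hu₀ using hu0
  have key : ∀ u v : X, u₀ (u.1 * v.1) ∈ X ∧ u₀ (u.1 * v.1) * (u.1 * v.1) ∈ X := fun u v =>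
    hu₀ _ u.1 u.2 (by rw [← mul_assoc, hXinv _ u.2, one_mul]; exact v.2)
  have hinv : ∀ u a : G, u * u = 1 → (u * a) * (u * a) = 1 → u * a * u = a⁻¹ := fun u a _ h2 =>
    eq_inv_of_mul_eq_one_left (by rw [← h2]; group)
  have hcomm : ∀ u v : X, Commute (u.1 * v.1) (u₀ (u.1 * v.1) * u.1) := by
    intro u v
    obtain ⟨h1, h2⟩ := key u v
    have e1 := hinv _ _ (hXinv _ h1) (hXinv _ h2)
    have e2 : u.1 * (u.1 * v.1) * u.1 = (u.1 * v.1)⁻¹ := by
      rw [mul_inv_rev, inv_eq_of_mul_eq_one_right (hXinv _ v.2),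
        inv_eq_of_mul_eq_one_right (hXinv _ u.2), ← mul_assoc u.1, hXinv _ u.2, one_mul]
    show (u.1 * v.1) * (u₀ (u.1 * v.1) * u.1) = (u₀ (u.1 * v.1) * u.1) * (u.1 * v.1)
    generalize u₀ (u.1 * v.1) = w at e1 h1 ⊢
    generalize u.1 * v.1 = a at e1 e2 ⊢
    have hw : w⁻¹ = w := inv_eq_of_mul_eq_one_right (hXinv _ h1)
    have hui : u.1⁻¹ = u.1 := inv_eq_of_mul_eq_one_right (hXinv _ u.2)
    have e1' : a * w = w * a⁻¹ := by
      rw [← e1, ← mul_assoc, ← mul_assoc, hXinv _ h1, one_mul]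
    have e2' : a⁻¹ * u.1 = u.1 * a := by
      rw [← e2, mul_assoc, hXinv _ u.2, mul_one]
    rw [← mul_assoc, e1', mul_assoc, e2', mul_assoc]
  have hle : Nat.card (X × X) ≤ Lib.CommPairs.pairs N := by
    refine Nat.card_le_card_of_injective (fun q =>
      ⟨(⟨q.1.1 * q.2.1, hmul _ q.1.2 _ q.2.2⟩,
        ⟨u₀ (q.1.1 * q.2.1) * q.1.1, hmul _ (key q.1 q.2).1 _ q.1.2⟩),
        Subtype.ext (hcomm q.1 q.2).eq⟩) ?_
    rintro ⟨u, v⟩ ⟨u', v'⟩ h
    have h1 := congrArg (fun z => (z.1.1 : G)) h
    have h2 := congrArg (fun z => (z.1.2 : G)) h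
    simp only at h1 h2
    rw [h1] at h2
    have hu : u.1 = u'.1 := mul_left_cancel h2
    rw [hu] at h1
    exact Prod.ext (Subtype.ext hu) (Subtype.ext (mul_left_cancel h1))
  rw [Nat.card_prod] at hle
  nlinarith

/-- In a solvable group an involution with centralizer a four-group, lying in a larger Sylow
2-subgroup, forces a normal subgroup of order 2 or 4. -/
lemma exists_small_normal (hsol : Group.IsSolvable G) (x z s : G) (hxx : x * x = 1) (hx1 : x ≠ 1)
    (hzz : z * z = 1) (hz1 : z ≠ 1) (hzx : z ≠ x)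
    (hC4 : Nat.card ↥(Subgroup.centralizer ({x} : Set G)) = 4)
    (hz : z ∈ Subgroup.centralizer ({x} : Set G)) (hsx : s * x * s⁻¹ = x * z) (hsz : s * z * s⁻¹ = z) :
    ∃ E : Subgroup G, E.Normal ∧ Cfsg.IsElementaryAbelian 2 E ∧ (Nat.card E = 2 ∨ Nat.card E = 4) := by
  classical
  have : Fact (Nat.Prime 2) := ⟨Nat.prime_two⟩
  have hV := fun c (hc : c ∈ Subgroup.centralizer ({x} : Set G)) =>
    mem_cases hC4 hx1 hz1 hzx hxx hzz hz hc
  have hxz : x * z = z * x := (Subgroup.mem_centralizer_singleton_iff.mp hz).symm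
  have hxinv : x⁻¹ = x := inv_eq_of_mul_eq_one_right hxx
  set O := pPrimeCore 2 G with hOdef
  have hOn : O.Normal := inferInstance
  have hOodd : ¬ 2 ∣ Nat.card O := Lib.PSolvable.pPrimeCore_not_dvd
  have hO1 : ∀ o ∈ O, o * o = 1 → o = 1 := by
    intro o ho h
    by_contra h1
    refine hOodd ?_
    rw [← orderOf_eq_prime (show o ^ 2 = 1 by rw [pow_two, h]) h1]
    exact Subgroup.orderOf_dvd_natCard O ho
  have hOC : ∀ o ∈ O, x * o = o * x → o = 1 := by
    intro o ho h
    have := hV o (Subgroup.mem_centralizer_singleton_iff.mpr h.symm)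
    refine hO1 o ho ?_
    rcases this with rfl | rfl | rfl | rfl
    · rw [one_mul]
    · exact hxx
    · exact hzz
    · calc x * z * (x * z) = x * z * (z * x) := by rw [← hxz]
        _ = x * (z * z) * x := by group
        _ = 1 := by rw [hzz, mul_one, hxx]
  have hOinv : ∀ o ∈ O, x * o * x = o⁻¹ := by
    have hmem : ∀ o : O, (o : G)⁻¹ * (x * o * x) ∈ O := fun o => by
      refine mul_mem (inv_mem o.2) ?_
      have := hOn.conj_mem _ o.2 x
      rwa [hxinv] at this
    let φ : O → O := fun o => ⟨(o : G)⁻¹ * (x * o * x), hmem o⟩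
    have hφ : Function.Injective φ := by
      intro a b h
      have h1 : (a : G)⁻¹ * (x * a * x) = (b : G)⁻¹ * (x * b * x) := congrArg Subtype.val h
      have h2 : x * ((b : G) * (a : G)⁻¹) = ((b : G) * (a : G)⁻¹) * x := by
        have h3 : (b : G) * (a : G)⁻¹ * (x * a) = x * b := by
          have := congrArg (fun t => (b : G) * t * x⁻¹) h1
          simpa [mul_assoc] using this
        calc x * ((b : G) * (a : G)⁻¹) = (x * b) * (a : G)⁻¹ := by group
          _ = (b : G) * (a : G)⁻¹ * (x * a) * (a : G)⁻¹ := by rw [h3]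
          _ = ((b : G) * (a : G)⁻¹) * x := by group
      have h4 := hOC _ (mul_mem b.2 (inv_mem a.2)) h2
      exact Subtype.ext (mul_inv_eq_one.mp h4).symm
    intro o ho
    obtain ⟨w, hw⟩ := (Finite.injective_iff_surjective.mp hφ) ⟨o, ho⟩
    have hw' : (w : G)⁻¹ * (x * w * x) = o := congrArg Subtype.val hw
    rw [← hw']
    calc x * ((w : G)⁻¹ * (x * w * x)) * x = x * (w : G)⁻¹ * x * w * (x * x) := by group
      _ = ((w : G)⁻¹ * (x * w * x))⁻¹ := by
        rw [hxx, mul_one, mul_inv_rev, mul_inv_rev, mul_inv_rev, hxinv, inv_inv]; group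
  have hOab : ∀ a ∈ O, ∀ b ∈ O, a * b = b * a := by
    intro a ha b hb
    have h1 := hOinv _ (mul_mem ha hb)
    have h2 : x * (a * b) * x = (x * a * x) * (x * b * x) := by
      calc x * (a * b) * x = x * a * (x * x) * b * x := by rw [hxx]; group
        _ = _ := by group
    rw [h2, hOinv a ha, hOinv b hb, mul_inv_rev] at h1
    exact inv_injective (by rw [mul_inv_rev, mul_inv_rev]; exact h1.symm)
  have hzO : ∀ o ∈ O, z * o = o * z := by
    intro o ho
    have hoz : x * z * o * (x * z) = o⁻¹ := by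
      have ho' : s⁻¹ * o * s ∈ O := by simpa using hOn.conj_mem _ ho s⁻¹
      rw [← hsx]
      calc s * x * s⁻¹ * o * (s * x * s⁻¹) = s * (x * (s⁻¹ * o * s) * x) * s⁻¹ := by group
        _ = o⁻¹ := by rw [hOinv _ ho']; group
    have h5 : x * (z * o * z) * x = o⁻¹ := by
      rw [← hoz]
      calc x * (z * o * z) * x = x * z * o * (z * x) := by group
        _ = _ := by rw [← hxz]
    have h7 : z * o * z = x * o⁻¹ * x := by
      have := congrArg (fun t => x⁻¹ * t * x⁻¹) h5
      simp only [hxinv] at this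
      rw [← this]
      calc z * o * z = (x * x) * (z * o * z) * (x * x) := by rw [hxx]; group
        _ = _ := by group
    rw [hOinv _ (inv_mem ho), inv_inv] at h7
    calc z * o = z * o * (z * z) := by rw [hzz, mul_one]
      _ = (z * o * z) * z := by group
      _ = o * z := by rw [h7]
  -- the quotient
  set f := QuotientGroup.mk' O with hf
  have hker : ∀ a : G, f a = 1 ↔ a ∈ O := fun a => QuotientGroup.eq_one_iff a
  have h1O : ∀ a : G, a * a = 1 → a ≠ 1 → f a ≠ 1 := fun a ha ha1 h => ha1 (hO1 a ((hker a).mp h) ha)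
  have hfix : ∀ y : G, Commute (f y) (f x) →
      f y = 1 ∨ f y = f x ∨ f y = f z ∨ f y = f (x * z) := by
    intro y hy
    set o := x⁻¹ * (y * x * y⁻¹) with hodef
    have ho : o ∈ O := by
      rw [← hker, hodef]
      simp only [map_mul, map_inv]
      rw [hy.eq]; group
    set k := (Nat.card O - 1) / 2 with hk
    set o' := o ^ k with ho'
    have ho'O : o' ∈ O := pow_mem ho k
    have hsq : o' * o' * o = 1 := by
      rw [ho', ← pow_add, ← pow_succ]
      have hodd : k + k + 1 = Nat.card O := by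
        have h2 : Nat.card O % 2 = 1 := by omega
        omega
      rw [hodd]
      exact orderOf_dvd_iff_pow_eq_one.mp (Subgroup.orderOf_dvd_natCard O ho)
    have hconj : o' * x * o'⁻¹ = x * o := by
      have h1 : x * o'⁻¹ * x = o' := by rw [hOinv _ (inv_mem ho'O), inv_inv]
      have h2 : o = (o'⁻¹) * (o'⁻¹) := by
        rw [← mul_inv_rev]; exact eq_inv_of_mul_eq_one_right hsq
      calc o' * x * o'⁻¹ = (x * o'⁻¹ * x) * x * o'⁻¹ := by rw [h1]
        _ = x * o'⁻¹ * (x * x) * o'⁻¹ := by group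
        _ = x * o := by rw [hxx, h2]; group
    have hmem : o'⁻¹ * y ∈ Subgroup.centralizer ({x} : Set G) := by
      rw [Subgroup.mem_centralizer_singleton_iff]
      have h1 : y * x * y⁻¹ = o' * x * o'⁻¹ := by rw [hconj, hodef]; group
      calc o'⁻¹ * y * x = o'⁻¹ * (y * x * y⁻¹) * y := by group
        _ = x * (o'⁻¹ * y) := by rw [h1]; group
    have hfy : f y = f (o'⁻¹ * y) := by
      rw [map_mul, map_inv, (hker o').mpr ho'O, inv_one, one_mul]
    rw [hfy]
    rcases hV _ hmem with h | h | h | h <;> rw [h]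
    · exact Or.inl (map_one f)
    · exact Or.inr (Or.inl rfl)
    · exact Or.inr (Or.inr (Or.inl rfl))
    · exact Or.inr (Or.inr (Or.inr rfl))
  have hQbot : pPrimeCore 2 (G ⧸ O) = ⊥ := Lib.PSolvable.pPrimeCore_quotient_eq_bot
  have hQne : (⊤ : Subgroup (G ⧸ O)) ≠ ⊥ := fun h =>
    h1O z hzz hz1 (Subgroup.mem_bot.mp (h ▸ Subgroup.mem_top (f z)))
  obtain ⟨E, hEn, hEne, -, hEmin⟩ :=
    Lib.MinimalNormal.exists_minimal_normal_le (M := (⊤ : Subgroup (G ⧸ O))) inferInstance hQne
  have : Group.IsSolvable (G ⧸ O) :=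
    Group.isSolvable_of_surjective (f := f) (QuotientGroup.mk'_surjective O)
  obtain ⟨hEc, p, hp, hEp⟩ := Lib.MinimalNormal.elementaryAbelian E hEne hEmin
  have hp2 : p = 2 := by
    by_contra hne
    have : Fact p.Prime := ⟨hp⟩
    have hEpg : IsPGroup p E := fun e => ⟨1, Subtype.ext (by rw [pow_one]; exact hEp e e.2)⟩
    obtain ⟨k, hk⟩ := IsPGroup.iff_card.mp hEpg
    refine hEne (le_bot_iff.mp (hQbot ▸ Lib.PSolvable.le_pPrimeCore ?_))
    rw [hk]
    exact Nat.Coprime.pow_left k ((Nat.coprime_primes hp Nat.prime_two).mpr hne)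
  subst hp2
  have hEcomm : ∀ a ∈ E, ∀ b ∈ E, a * b = b * a := fun a ha b hb =>
    congrArg Subtype.val (hEc.is_comm.comm ⟨a, ha⟩ ⟨b, hb⟩)
  set fx := f x with hfx
  have hfxx : fx * fx = 1 := by rw [hfx, ← map_mul, hxx, map_one]
  have hfxinv : fx⁻¹ = fx := inv_eq_of_mul_eq_one_right hfxx
  set K := E ⊓ Subgroup.centralizer ({fx} : Set (G ⧸ O)) with hK
  have hKcases : ∀ e ∈ K, e = 1 ∨ e = fx ∨ e = f z ∨ e = f (x * z) := by
    intro e he
    obtain ⟨y, rfl⟩ := QuotientGroup.mk'_surjective O e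
    exact hfix y (Subgroup.mem_centralizer_singleton_iff.mp he.2)
  have hcx : ∀ e ∈ E, e * (fx * e * fx) ∈ K := by
    intro e he
    have h1 : fx * e * fx ∈ E := by
      have := hEn.conj_mem e he fx
      rwa [hfxinv] at this
    refine Subgroup.mem_inf.mpr ⟨mul_mem he h1, ?_⟩
    rw [Subgroup.mem_centralizer_singleton_iff]
    calc e * (fx * e * fx) * fx = (fx * e * fx) * e * fx := by rw [hEcomm e he _ h1]
      _ = fx * (e * (fx * e * fx)) := by group
  -- the order of `E`
  have hKmem : ∀ e ∈ E, fx * e = e * fx → e ∈ K := fun e he h =>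
    Subgroup.mem_inf.mpr ⟨he, Subgroup.mem_centralizer_singleton_iff.mpr h.symm⟩
  have hEker : ∀ e ∈ E, e * (fx * e * fx) = 1 → e ∈ K := by
    intro e he h
    refine hKmem e he ?_
    have h1 : e⁻¹ = e := inv_eq_of_mul_eq_one_right (by rw [← pow_two]; exact hEp e he)
    have h2 : fx * e * fx = e := (inv_eq_of_mul_eq_one_right h).symm.trans h1
    calc fx * e = fx * e * (fx * fx) := by rw [hfxx, mul_one]
      _ = (fx * e * fx) * fx := by group
      _ = e * fx := by rw [h2]
  have hsfx : f (x * z) = f s * fx * (f s)⁻¹ := by rw [← hsx, map_mul, map_mul, map_inv]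
  have hfxE : ∀ e ∈ E, e = fx ∨ e = f (x * z) → fx ∈ E := by
    rintro e he (rfl | rfl)
    · exact he
    · rw [hsfx] at he
      have := hEn.conj_mem _ he (f s)⁻¹
      simpa [mul_assoc] using this
  have hfzE : f z ∈ E := by
    by_cases hxE : fx ∈ E
    · have h1 : f (x * z) ∈ E := hsfx ▸ hEn.conj_mem _ hxE (f s)
      have := mul_mem hxE h1
      rwa [hfx, ← map_mul, ← mul_assoc, hxx, one_mul] at this
    · obtain ⟨e, he, he1⟩ : ∃ e ∈ E, e ≠ 1 := by
        by_contra h
        push Not at h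
        exact hEne ((Subgroup.eq_bot_iff_forall E).mpr h)
      obtain ⟨k, hk, hk1⟩ : ∃ k ∈ K, k ≠ 1 := by
        by_cases h1 : e * (fx * e * fx) = 1
        · exact ⟨e, hEker e he h1, he1⟩
        · exact ⟨_, hcx e he, h1⟩
      rcases hKcases k hk with h | h | h | h
      · exact absurd h hk1
      · exact absurd (hfxE k (Subgroup.mem_inf.mp hk).1 (Or.inl h)) hxE
      · exact h ▸ (Subgroup.mem_inf.mp hk).1
      · exact absurd (hfxE k (Subgroup.mem_inf.mp hk).1 (Or.inr h)) hxE
  have hKcard : Nat.card K ≤ 4 := by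
    let g4 : Fin 4 → G ⧸ O := ![1, fx, f z, f (x * z)]
    have hex : ∀ k : K, ∃ i, g4 i = k := fun k => by
      rcases hKcases k.1 k.2 with h | h | h | h
      · exact ⟨0, h.symm⟩
      · exact ⟨1, h.symm⟩
      · exact ⟨2, h.symm⟩
      · exact ⟨3, h.symm⟩
    choose i hi using hex
    have := Nat.card_le_card_of_injective i fun a b h =>
      Subtype.ext (by rw [← hi a, ← hi b, h])
    rwa [Nat.card_fin] at this
  have hEcard : Nat.card E ≤ 4 := by
    by_cases hxE : fx ∈ E
    · have hle : E ≤ K := fun e he => hKmem e he (hEcomm fx hxE e he)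
      exact (Subgroup.card_le_of_le hle).trans hKcard
    · have hK2 : Nat.card K ≤ 2 := by
        let g2 : Fin 2 → G ⧸ O := ![1, f z]
        have hex : ∀ k : K, ∃ i, g2 i = k := fun k => by
          rcases hKcases k.1 k.2 with h | h | h | h
          · exact ⟨0, h.symm⟩
          · exact absurd (hfxE k.1 (Subgroup.mem_inf.mp k.2).1 (Or.inl h)) hxE
          · exact ⟨1, h.symm⟩
          · exact absurd (hfxE k.1 (Subgroup.mem_inf.mp k.2).1 (Or.inr h)) hxE
        choose i hi using hex
        have := Nat.card_le_card_of_injective i fun a b h =>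
          Subtype.ext (by rw [← hi a, ← hi b, h])
        rwa [Nat.card_fin] at this
      have hr : ∀ k : K, ∃ r : E, ∀ e ∈ E, e * (fx * e * fx) = k →
          (r : G ⧸ O) * (fx * r * fx) = k := by
        intro k
        by_cases h : ∃ r : E, (r : G ⧸ O) * (fx * r * fx) = k
        · obtain ⟨r, hr⟩ := h; exact ⟨r, fun _ _ _ => hr⟩
        · exact ⟨1, fun e he h' => absurd ⟨⟨e, he⟩, h'⟩ h⟩
      choose r hr using hr
      have hker2 : ∀ e : E, (e : G ⧸ O) * r ⟨_, hcx e e.2⟩ ∈ K := by
        intro e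
        refine hEker _ (mul_mem e.2 (r _).2) ?_
        have h1 := hr ⟨_, hcx e e.2⟩ e e.2 rfl
        generalize hR : (r ⟨_, hcx e e.2⟩ : G ⧸ O) = R at h1 ⊢
        have hRE : R ∈ E := hR ▸ (r _).2
        have hconjE : ∀ a ∈ E, fx * a * fx ∈ E := fun a ha => by
          have := hEn.conj_mem a ha fx
          rwa [hfxinv] at this
        calc (e : G ⧸ O) * R * (fx * ((e : G ⧸ O) * R) * fx)
            = (e : G ⧸ O) * (R * (fx * e * fx)) * (fx * R * fx) := by
              rw [show fx * ((e : G ⧸ O) * R) * fx = fx * e * (fx * fx) * R * fx by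
                rw [hfxx, mul_one]; group]
              group
          _ = ((e : G ⧸ O) * (fx * e * fx)) * (R * (fx * R * fx)) := by
              rw [hEcomm R hRE _ (hconjE _ e.2)]; group
          _ = 1 := by
              have h2 : R * (fx * R * fx) = (e : G ⧸ O) * (fx * e * fx) := h1
              rw [h2, ← pow_two]
              exact hEp _ (Subgroup.mem_inf.mp (hcx e e.2)).1
      have := Nat.card_le_card_of_injective (fun e : E =>
          ((⟨_, hcx e e.2⟩ : K), (⟨_, hker2 e⟩ : K))) (fun a b h => by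
        have h1 := congrArg Prod.fst h
        have h2 := congrArg (fun q : K × K => (q.2 : G ⧸ O)) h
        simp only at h1 h2
        rw [h1] at h2
        exact Subtype.ext (mul_right_cancel h2))
      rw [Nat.card_prod] at this
      nlinarith
  -- the normal subgroup
  set Y := E.comap f ⊓ Subgroup.centralizer (O : Set G) with hY
  have hYn : Y.Normal := by
    have : (E.comap f).Normal := hEn.comap f
    infer_instance
  have hYc : ∀ a ∈ Y, ∀ o ∈ O, o * a = a * o := fun a ha o ho =>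
    Subgroup.mem_centralizer_iff.mp (Subgroup.mem_inf.mp ha).2 o ho
  have hcommR : ∀ a ∈ Y, ∀ b ∈ Y, a * a = 1 → b * b = 1 → a * b = b * a := by
    intro a ha b hb _ hbb
    have hab : a * b * a⁻¹ * b⁻¹ ∈ O := by
      rw [← hker]
      simp only [map_mul, map_inv]
      rw [hEcomm _ (Subgroup.mem_inf.mp ha).1 _ (Subgroup.mem_inf.mp hb).1]
      group
    have hcb := hYc b hb _ hab
    generalize hc : a * b * a⁻¹ * b⁻¹ = c at hab hcb
    have h2 : (c * b) * (c * b) = 1 := by
      rw [← hc]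
      calc a * b * a⁻¹ * b⁻¹ * b * (a * b * a⁻¹ * b⁻¹ * b) = a * (b * b) * a⁻¹ := by group
        _ = 1 := by rw [hbb]; group
    have h3 : c * c = 1 := by
      calc c * c = c * c * (b * b) := by rw [hbb, mul_one]
        _ = c * (c * b) * b := by group
        _ = c * (b * c) * b := by rw [hcb]
        _ = (c * b) * (c * b) := by group
        _ = 1 := h2
    have h4 := hO1 c hab h3
    rw [← hc, mul_inv_eq_one, mul_inv_eq_iff_eq_mul] at h4
    exact h4
  let R : Subgroup G :=
    { carrier := {y | y ∈ Y ∧ y * y = 1}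
      one_mem' := ⟨one_mem Y, mul_one 1⟩
      mul_mem' := fun {a b} ha hb => ⟨mul_mem ha.1 hb.1, by
        calc a * b * (a * b) = a * (b * a) * b := by group
          _ = a * (a * b) * b := by rw [← hcommR a ha.1 b hb.1 ha.2 hb.2]
          _ = (a * a) * (b * b) := by group
          _ = 1 := by rw [ha.2, hb.2, mul_one]⟩
      inv_mem' := fun {a} ha => ⟨inv_mem ha.1, by rw [← mul_inv_rev, ha.2, inv_one]⟩ }
  have hRn : R.Normal := ⟨fun a ha g => ⟨hYn.conj_mem a ha.1 g, by
    calc g * a * g⁻¹ * (g * a * g⁻¹) = g * (a * a) * g⁻¹ := by group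
      _ = 1 := by rw [ha.2]; group⟩⟩
  have hzR : z ∈ R := ⟨Subgroup.mem_inf.mpr ⟨hfzE, Subgroup.mem_centralizer_iff.mpr
    fun o ho => (hzO o ho).symm⟩, hzz⟩
  refine ⟨R, hRn, ⟨⟨⟨fun a b => Subtype.ext (hcommR a a.2.1 b b.2.1 a.2.2 b.2.2)⟩⟩,
    fun a ha => by rw [pow_two]; exact ha.2⟩, ?_⟩
  have hle : Nat.card R ≤ 4 := by
    refine (Nat.card_le_card_of_injective
      (fun a : R => (⟨f a, (Subgroup.mem_inf.mp a.2.1).1⟩ : E)) fun a b h => ?_).trans hEcard
    have h1 : f (a : G) = f b := congrArg Subtype.val h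
    have h2 : (a : G)⁻¹ * b ∈ O := by rw [← hker, map_mul, map_inv, h1, inv_mul_cancel]
    have h3 : (a : G)⁻¹ * b ∈ R := mul_mem (inv_mem a.2) b.2
    exact Subtype.ext (inv_mul_eq_one.mp (hO1 _ h2 h3.2))
  have hRp : IsPGroup 2 R := fun a => ⟨1, Subtype.ext (by rw [pow_one, pow_two]; exact a.2.2)⟩
  obtain ⟨k, hk⟩ := IsPGroup.iff_card.mp hRp
  have h2 : 2 ≤ Nat.card R := (Subgroup.one_lt_card_iff_ne_bot R).mpr fun h =>
    hz1 (Subgroup.mem_bot.mp (h ▸ hzR))
  rw [hk] at hle h2 ⊢
  rcases k with _ | _ | _ | k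
  · omega
  · exact Or.inl rfl
  · exact Or.inr rfl
  · exfalso
    have : 8 ≤ 2 ^ (k + 3) := by
      calc 8 = 2 ^ 3 := rfl
        _ ≤ 2 ^ (k + 3) := Nat.pow_le_pow_right (by norm_num) (by omega)
    omega

end Main

/-- Let G be a finite group containing an involution whose centralizer is elementary abelian of order 4. If G has no normal 2-complement and no normal elementary abelian 2-subgroup of order 2 or 4, then G is isomorphic to the alternating group of degree 5 (that is, to PSL(2, 5)). -/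
theorem result {G : Type*} [Group G] [Finite G] (x : G) (hx : orderOf x = 2)
    (hC4 : Nat.card ↥(Subgroup.centralizer ({x} : Set G)) = 4) (hCe : ∀ c ∈ Subgroup.centralizer ({x} : Set G), c ^ 2 = 1)
    (hnc : ¬ Cfsg.HasNormalPComplement 2 G)
    (hne : ∀ E : Subgroup G, E.Normal → Cfsg.IsElementaryAbelian 2 E → Nat.card ↥E ≠ 2 ∧ Nat.card ↥E ≠ 4) :
    Nonempty (G ≃* ↥(alternatingGroup (Fin 5))) := by
  classical
  have : Fact (Nat.Prime 2) := ⟨Nat.prime_two⟩
  set V := Subgroup.centralizer ({x} : Set G) with hVdef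
  have hxx : x * x = 1 := by rw [← pow_two, ← hx, pow_orderOf_eq_one]
  have hx1 : x ≠ 1 := fun h => by rw [h, orderOf_one] at hx; omega
  have hxV : x ∈ V := Subgroup.mem_centralizer_singleton_iff.mpr rfl
  have hinvV : ∀ c ∈ V, c⁻¹ = c := fun c hc =>
    inv_eq_of_mul_eq_one_right (by rw [← pow_two]; exact hCe c hc)
  have hVab : ∀ a ∈ V, ∀ b ∈ V, a * b = b * a := by
    intro a ha b hb
    have := hinvV _ (mul_mem ha hb)
    rw [mul_inv_rev, hinvV a ha, hinvV b hb] at this
    exact this.symm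
  have hVp : IsPGroup 2 V := fun c => ⟨1, Subtype.ext (by rw [pow_one]; exact hCe c c.2)⟩
  obtain ⟨S, hVS⟩ := hVp.exists_le_sylow
  by_cases hS4 : Nat.card S = 4
  · have hSV : V = (S : Subgroup G) :=
      Subgroup.eq_of_le_of_card_ge hVS (by rw [hC4]; exact hS4.le)
    obtain ⟨g, hgN, hgC⟩ : ∃ g ∈ Subgroup.normalizer (S : Set G),
        g ∉ Subgroup.centralizer (S : Set G) := by
      by_contra h
      push Not at h
      exact hnc ⟨S, _, MonoidHom.normal_ker _, MonoidHom.ker_transferSylow_isComplement' S h⟩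
    have hgS : ∀ c ∈ V, g * c * g⁻¹ ∈ V := fun c hc =>
      hSV ▸ (Subgroup.mem_normalizer_iff.mp hgN c).mp (hSV ▸ hc)
    have hgV : g ∉ V := fun h => hgC (Subgroup.mem_centralizer_iff.mpr fun c hc =>
      hVab c (hSV ▸ hc) g h)
    set x' := g * x * g⁻¹ with hx'
    set x'' := g * x' * g⁻¹ with hx''
    have hx'x : x' ≠ x := fun h => hgV (Subgroup.mem_centralizer_singleton_iff.mpr
      (mul_inv_eq_iff_eq_mul.mp h))
    have hx'1 : x' ≠ 1 := fun h => hx1 (by rwa [hx', conj_eq_one_iff] at h)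
    have hx'V : x' ∈ V := hgS x hxV
    have hx'' : x'' ∈ V := hgS x' hx'V
    have hx''1 : x'' ≠ 1 := fun h => hx'1 (by rwa [conj_eq_one_iff] at h)
    have hx''x' : x'' ≠ x' := fun h => hx'x (mul_left_cancel (mul_right_cancel h))
    have hx''x : x'' ≠ x := by
      intro h
      have hg2 : g * g ∈ V := Subgroup.mem_centralizer_singleton_iff.mpr (by
        calc g * g * x = (g * (g * x * g⁻¹) * g⁻¹) * (g * g) := by group
          _ = x * (g * g) := by rw [show g * (g * x * g⁻¹) * g⁻¹ = x from h])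
      have hp : IsPGroup 2 (Subgroup.zpowers g) := by
        have h4 : g ^ (2 ^ 2) = 1 := by
          rw [show (2 : ℕ) ^ 2 = 2 * 2 from rfl, pow_mul, pow_two g]
          exact hCe _ hg2
        obtain ⟨i, -, hi⟩ := (Nat.dvd_prime_pow Nat.prime_two).mp (orderOf_dvd_of_pow_eq_one h4)
        exact IsPGroup.of_card (n := i) (by rw [Nat.card_zpowers, hi])
      have hsup := S.2.to_sup_of_normal_left' hp (Subgroup.zpowers_le.2 hgN)
      exact hgV (hSV ▸ (S.is_maximal' hsup le_sup_left ▸
        le_sup_right (a := (S : Subgroup G)) (Subgroup.mem_zpowers g)))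
    have hx'sq : x' * x' = 1 := by rw [← pow_two]; exact hCe _ hx'V
    have hcases := fun c (hc : c ∈ V) => mem_cases hC4 hx1 hx'1 hx'x hxx hx'sq hx'V hc
    have h''eq : x'' = x * x' := by
      rcases hcases _ hx'' with h | h | h | h
      · exact absurd h hx''1
      · exact absurd h hx''x
      · exact absurd h hx''x'
      · exact h
    have hconj : ∀ t ∈ V, t ≠ 1 → ∃ h : G, t = h * x * h⁻¹ := by
      intro t ht ht1
      rcases hcases t ht with h | h | h | h
      · exact absurd h ht1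
      · exact ⟨1, by simp [h]⟩
      · exact ⟨g, h⟩
      · exact ⟨g * g, by rw [h, ← h''eq]; simp only [x'', x']; group⟩
    have hC : Lib.SECount.ElemCentralizers G := by
      intro t ht
      have hp : IsPGroup 2 (Subgroup.zpowers t) :=
        IsPGroup.of_card (n := 1) (by rw [Nat.card_zpowers, ht, pow_one])
      obtain ⟨Q, hQ⟩ := hp.exists_le_sylow
      obtain ⟨c, hc⟩ := MulAction.exists_smul_eq G Q S
      have htc : c * t * c⁻¹ ∈ V := by
        rw [hSV, ← hc]
        show _ ∈ ((c • Q : Sylow 2 G) : Subgroup G)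
        rw [Sylow.smul_def, Sylow.pointwise_smul_def,
          Subgroup.mem_pointwise_smul_iff_inv_smul_mem]
        simpa [MulAut.smul_def, mul_assoc] using hQ (Subgroup.mem_zpowers t)
      have ht1 : c * t * c⁻¹ ≠ 1 := fun h => by
        rw [conj_eq_one_iff] at h
        rw [h, orderOf_one] at ht
        omega
      obtain ⟨h, hh⟩ := hconj _ htc ht1
      have hd : t = (c⁻¹ * h) * x * (c⁻¹ * h)⁻¹ := by
        calc t = c⁻¹ * (c * t * c⁻¹) * c := by group
          _ = _ := by rw [hh]; group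
      have hmem : ∀ a ∈ Subgroup.centralizer ({t} : Set G),
          (c⁻¹ * h)⁻¹ * a * (c⁻¹ * h) ∈ V := by
        intro a ha
        have ha' := Subgroup.mem_centralizer_singleton_iff.mp ha
        generalize c⁻¹ * h = d at hd ⊢
        subst hd
        rw [Subgroup.mem_centralizer_singleton_iff]
        calc d⁻¹ * a * d * x = d⁻¹ * (a * (d * x * d⁻¹)) * d := by group
          _ = d⁻¹ * (d * x * d⁻¹ * a) * d := by rw [ha']
          _ = x * (d⁻¹ * a * d) := by group
      refine ⟨⟨⟨fun a b => Subtype.ext ?_⟩⟩, fun a ha => ?_⟩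
      · have := hVab _ (hmem a a.2) _ (hmem b b.2)
        generalize c⁻¹ * h = d at this
        exact mul_right_cancel (b := d) (by simpa [mul_assoc] using this)
      · have := hCe _ (hmem a ha)
        generalize c⁻¹ * h = d at this
        rw [pow_two] at this ⊢
        simpa [mul_assoc, mul_eq_one_iff_inv_eq] using congrArg (fun q => d * q * d⁻¹) this
    have hTn : ¬ (S : Subgroup G).Normal := fun hn => (hne (S : Subgroup G) hn
      ⟨⟨⟨fun a b => Subtype.ext
          (hVab a (by rw [hSV]; exact a.2) b (by rw [hSV]; exact b.2))⟩⟩,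
        fun a ha => hCe a (by rw [hSV]; exact ha)⟩).2 hS4
    have hTc : ¬ IsCyclic (S : Subgroup G) := by
      intro hcyc
      obtain ⟨a, ha⟩ := hcyc.exists_generator
      have h1 := orderOf_eq_card_of_forall_mem_zpowers ha
      have h2 : orderOf a ∣ 2 := orderOf_dvd_of_pow_eq_one (Subtype.ext (hCe a (by rw [hSV]; exact a.2)))
      have := Nat.le_of_dvd (by norm_num) h2
      omega
    obtain ⟨F, hFi, hFt, hchar, hFT, ⟨e⟩⟩ := Lib.SECount.exists_sl_mulEquiv S hTc hTn hC
    obtain ⟨eA⟩ := Cfsg.Agent.S0252.result (F := F) (hFT.trans hS4)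
    have h2F : (2 : F) = 0 := CharP.ofNat_eq_zero F 2
    have hbij : Function.Bijective (QuotientGroup.mk'
        (Subgroup.center (Matrix.SpecialLinearGroup (Fin 2) F))) := by
      refine ⟨?_, QuotientGroup.mk'_surjective _⟩
      rw [← MonoidHom.ker_eq_bot_iff, QuotientGroup.ker_mk']
      exact Lib.SL2.center_eq_bot_even h2F
    exact ⟨(e.trans (MulEquiv.ofBijective _ hbij)).trans eA⟩
  exfalso
  have hSgt : 4 < Nat.card S :=
    lt_of_le_of_ne (hC4 ▸ Subgroup.card_le_of_le hVS) (Ne.symm hS4)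
  have hnotc : ¬ ∀ a ∈ (S : Subgroup G), x * a = a * x := by
    intro h
    have : (S : Subgroup G) ≤ V := fun a ha =>
      Subgroup.mem_centralizer_singleton_iff.mpr (h a ha).symm
    exact absurd (Subgroup.card_le_of_le this) (by rw [hC4]; exact not_le.mpr hSgt)
  have : Nontrivial (S : Subgroup G) := Finite.one_lt_card_iff_nontrivial.mp (by omega)
  have := S.2.center_nontrivial
  obtain ⟨n, hn, hcard⟩ := (S.2.to_subgroup (Subgroup.center (S : Subgroup G))).nontrivial_iff_card.1
    inferInstance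
  obtain ⟨z₁, hz₁⟩ := exists_prime_orderOf_dvd_card' (G := Subgroup.center (S : Subgroup G)) 2
    (hcard ▸ dvd_pow_self 2 (by omega))
  set z : G := z₁.1.1 with hzdef
  have hzo : orderOf z = 2 := by rw [hzdef, Subgroup.orderOf_coe, Subgroup.orderOf_coe, hz₁]
  have hzz : z * z = 1 := by rw [← pow_two, ← hzo, pow_orderOf_eq_one]
  have hz1 : z ≠ 1 := fun h => by rw [h, orderOf_one] at hzo; omega
  have hzc : ∀ a ∈ (S : Subgroup G), a * z = z * a := fun a ha =>
    congrArg Subtype.val (Subgroup.mem_center_iff.1 z₁.2 ⟨a, ha⟩)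
  have hxS : x ∈ (S : Subgroup G) := hVS hxV
  have hzV : z ∈ V := Subgroup.mem_centralizer_singleton_iff.mpr (hzc x hxS).symm
  have hzx : z ≠ x := fun h => hnotc fun a ha => by rw [← h]; exact (hzc a ha).symm
  have hlt : V < (S : Subgroup G) := lt_of_le_of_ne hVS fun h =>
    absurd hC4 (by
      intro h'
      have : Nat.card V = Nat.card S := by rw [h]
      omega)
  obtain ⟨s, hs, hsV⟩ := SetLike.exists_of_lt (Lib.ConjFunctor.lt_inf_normalizer S.2 hlt)
  have hsS := (Subgroup.mem_inf.mp hs).1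
  have hsz : s * z * s⁻¹ = z := by rw [hzc s hsS]; group
  have hsx : s * x * s⁻¹ = x * z := by
    have hm : s * x * s⁻¹ ∈ V := (Subgroup.mem_normalizer_iff.mp (Subgroup.mem_inf.mp hs).2 x).mp hxV
    rcases mem_cases hC4 hx1 hz1 hzx hxx hzz hzV hm with h | h | h | h
    · exact absurd (conj_eq_one_iff.mp h) hx1
    · exact absurd (Subgroup.mem_centralizer_singleton_iff.mpr (mul_inv_eq_iff_eq_mul.mp h)) hsV
    · exact absurd (mul_left_cancel (mul_right_cancel (hsz.trans h.symm))) hzx
    · exact h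
  have hncS : ¬ ∀ a b : (S : Subgroup G), a * b = b * a := fun h =>
    hnotc fun a ha => congrArg Subtype.val (h ⟨x, hxS⟩ ⟨a, ha⟩)
  have hsmall : ∀ (y : (S : Subgroup G)) (g : G), g * x * g⁻¹ = y →
      y * y = 1 ∧ Nat.card (Subgroup.centralizer ({y} : Set (S : Subgroup G))) ≤ 4 := by
    intro y g hy
    refine ⟨Subtype.ext ?_, ?_⟩
    · show (y : G) * y = 1
      rw [← hy]
      calc g * x * g⁻¹ * (g * x * g⁻¹) = g * (x * x) * g⁻¹ := by group
        _ = 1 := by rw [hxx]; group
    · rw [← hC4]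
      refine Nat.card_le_card_of_injective (fun a => (⟨g⁻¹ * (a.1 : G) * g, ?_⟩ : V)) fun a b h => ?_
      · have ha : (a.1 : G) * y = y * a.1 :=
          congrArg Subtype.val (Subgroup.mem_centralizer_singleton_iff.mp a.2)
        rw [← hy] at ha
        rw [hVdef, Subgroup.mem_centralizer_singleton_iff]
        calc g⁻¹ * (a.1 : G) * g * x = g⁻¹ * ((a.1 : G) * (g * x * g⁻¹)) * g := by group
          _ = g⁻¹ * (g * x * g⁻¹ * (a.1 : G)) * g := by rw [ha]
          _ = x * (g⁻¹ * (a.1 : G) * g) := by group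
      · have := congrArg Subtype.val h
        simp only [mul_left_inj, mul_right_inj] at this
        exact Subtype.ext (Subtype.ext this)
  obtain ⟨M, hMi, hMY⟩ := exists_avoiding S.2 ⟨x, hxS⟩ (Subtype.ext hxx)
    (hsmall ⟨x, hxS⟩ 1 (by simp)).2 hncS {y | ∃ g : G, g * x * g⁻¹ = (y : G)}
    (fun y ⟨g, hg⟩ => hsmall y g hg)
  have hQi : (M.map (S : Subgroup G).subtype).index % 4 = 2 := by
    rw [← Subgroup.relIndex_mul_index (Subgroup.map_subtype_le M), Subgroup.relIndex,
      Subgroup.subgroupOf, Subgroup.comap_map_eq_self_of_injective (Subgroup.subtype_injective _),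
      hMi]
    have : ¬ 2 ∣ (S : Subgroup G).index := S.not_dvd_index
    omega
  obtain ⟨N, hNn, hNi, hxN⟩ := Lib.Involution.exists_index_two_of_no_conj _ hQi x hx fun g hg => by
    obtain ⟨y, hy, hyx⟩ := Subgroup.mem_map.mp hg
    exact hMY y ⟨g, hyx.symm⟩ hy
  have hNs : Group.IsSolvable N :=
    Lib.CommPairs.isSolvable_of_quarter _ N rfl (pairs_bound x hx hC4 N hNi hxN)
  have hQs : Group.IsSolvable (G ⧸ N) := by
    have : Group.IsNilpotent (G ⧸ N) :=
      (IsPGroup.of_card (p := 2) (n := 1) (by rw [pow_one]; exact hNi)).isNilpotent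
    infer_instance
  have hsol : Group.IsSolvable G :=
    Group.isSolvable_of_ker_le_range N.subtype (QuotientGroup.mk' N) (by simp)
  obtain ⟨E, hE, hEe, hEc⟩ :=
    exists_small_normal hsol x z s hxx hx1 hzz hz1 hzx hC4 hzV hsx hsz
  have h := hne E hE hEe
  rcases hEc with h' | h'
  · exact h.1 h'
  · exact h.2 h'

end Cfsg.Agent.S3277
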