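import Cfsg.Statements.S3278
import Cfsg.Agent.S0945
import Cfsg.Agent.S0946
import Cfsg.Agent.S0948
import Cfsg.Agent.Lib.KleinOrder.Four
import Cfsg.Agent.Lib.Involution.ThompsonTransfer
import Cfsg.Agent.Lib.SmallGroups.Basic
import Cfsg.Agent.Lib.CharCount.Basic
import Cfsg.Agent.Lib.Involution.NormalFour
import Cfsg.Agent.Lib.LinGroup.ProjLine
import Cfsg.Agent.Lib.PGroup.Frattini

set_option autoImplicit false
open Cfsg

namespace Cfsg.Agent.S3278


open Cfsg.Agent.Lib

/-- In a 2-group whose element `x` of order 2 has centraliser of order 4, either the group has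
order at most 4 or `x` is carried into no ... : the structural dichotomy used below. -/
theorem exists_bad_max {T : Type*} [Group T] [Finite T] (hT : IsPGroup 2 T) (x : T)
    (hC : Nat.card (Subgroup.centralizer ({x} : Set T)) = 4) (h8 : 4 < Nat.card T) :
    x ∉ commutator T ∧ (commutator T).index = 4 ∧ ∀ u : T, u * x⁻¹ ∈ commutator T →
      ∃ t : T, t * x * t⁻¹ = u := by
  classical
  haveI : Fact (Nat.Prime 2) := ⟨Nat.prime_two⟩
  set D := commutator T with hD
  let f : T ⧸ Subgroup.centralizer ({x} : Set T) → {u : T // u * x⁻¹ ∈ D} := fun q =>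
    ⟨q.out * x * q.out⁻¹, by
      rw [hD, commutator_def]
      exact Subgroup.commutator_mem_commutator (Subgroup.mem_top _) (Subgroup.mem_top _)⟩
  have hf : Function.Injective f := by
    intro a b h
    have h' : a.out * x * a.out⁻¹ = b.out * x * b.out⁻¹ := congrArg Subtype.val h
    rw [← QuotientGroup.out_eq' a, ← QuotientGroup.out_eq' b, QuotientGroup.eq,
      Subgroup.mem_centralizer_singleton_iff]
    calc a.out⁻¹ * b.out * x = a.out⁻¹ * (b.out * x * b.out⁻¹) * b.out := by group
      _ = a.out⁻¹ * (a.out * x * a.out⁻¹) * b.out := by rw [h']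
      _ = x * (a.out⁻¹ * b.out) := by group
  have hcardU : Nat.card {u : T // u * x⁻¹ ∈ D} = Nat.card D :=
    Nat.card_congr ((Equiv.mulRight x⁻¹).subtypeEquiv fun u => Iff.rfl)
  have hle : (Subgroup.centralizer ({x} : Set T)).index ≤ Nat.card D :=
    hcardU ▸ Nat.card_le_card_of_injective f hf
  have hTC := (Subgroup.centralizer ({x} : Set T)).card_mul_index
  rw [hC] at hTC
  have hTD := D.card_mul_index
  have hna : D ≠ ⊥ := fun h => by
    rw [h, Subgroup.card_bot] at hle
    omega
  -- the abelianisation is not cyclic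
  have hncyc : ∀ g : T, Subgroup.zpowers g ⊔ D ≠ ⊤ := by
    intro g hg
    have hfr : D ≤ frattini T := by rw [hD]; exact PFrattini.commutator_le_frattini hT
    have htop : Subgroup.zpowers g = ⊤ := frattini_nongenerating (by
      rw [eq_top_iff, ← hg]; exact sup_le le_sup_left (hfr.trans le_sup_right))
    refine hna ((Subgroup.eq_bot_iff_forall _).2 fun d hd => ?_)
    have : commutator T = ⊥ := by
      rw [commutator_def, Subgroup.commutator_eq_bot_iff_le_centralizer]
      intro a _
      rw [Subgroup.mem_centralizer_iff]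
      intro b _
      obtain ⟨i, rfl⟩ := Subgroup.mem_zpowers_iff.1 (htop ▸ Subgroup.mem_top a :)
      obtain ⟨j, rfl⟩ := Subgroup.mem_zpowers_iff.1 (htop ▸ Subgroup.mem_top b :)
      rw [← zpow_add, ← zpow_add, add_comm]
    rw [hD, this] at hd
    exact Subgroup.mem_bot.1 hd
  have hidx : 4 ≤ D.index := by
    by_contra hlt
    obtain ⟨k, hk⟩ := hT.index D
    have hk2 : k ≤ 1 := by
      by_contra hk'
      have : 2 ^ 2 ≤ 2 ^ k := Nat.pow_le_pow_right (by norm_num) (by omega)
      omega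
    interval_cases k
    · apply hncyc 1
      rw [pow_zero, Subgroup.index_eq_one] at hk
      rw [hk, sup_top_eq]
    · haveI : D.Normal := by rw [hD]; infer_instance
      have hcy : IsCyclic (T ⧸ D) := isCyclic_of_prime_card (p := 2)
        (by rw [← Subgroup.index_eq_card, hk, pow_one])
      obtain ⟨g, hg⟩ := IsCyclic.exists_generator (α := T ⧸ D)
      obtain ⟨g, rfl⟩ := QuotientGroup.mk_surjective g
      apply hncyc g
      rw [eq_top_iff]
      intro a _
      obtain ⟨i, hi⟩ := Subgroup.mem_zpowers_iff.1 (hg a)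
      rw [← QuotientGroup.mk_zpow, QuotientGroup.eq] at hi
      have : a = g ^ i * ((g ^ i)⁻¹ * a) := by group
      rw [this]
      exact Subgroup.mul_mem_sup (Subgroup.zpow_mem _ (Subgroup.mem_zpowers g) i) hi
  have hDpos : 0 < Nat.card D := Nat.card_pos
  have h4 : D.index = 4 := by nlinarith
  have hfb : Function.Bijective f := hf.bijective_of_nat_card_le (by
    rw [hcardU, ← Subgroup.index_eq_card]
    rw [h4] at hTD
    omega)
  have hall : ∀ u : T, u * x⁻¹ ∈ D → ∃ t : T, t * x * t⁻¹ = u := fun u hu => by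
    obtain ⟨q, hq⟩ := hfb.2 ⟨u, hu⟩
    exact ⟨q.out, congrArg Subtype.val hq⟩
  refine ⟨fun hxD => ?_, h4, hall⟩
  obtain ⟨t, ht⟩ := hall 1 (by simpa using hxD)
  have hx1 : x = 1 := conj_eq_one_iff.1 ht
  have : Subgroup.centralizer ({x} : Set T) = ⊤ := by
    rw [eq_top_iff]
    intro a _
    rw [Subgroup.mem_centralizer_singleton_iff, hx1, one_mul, mul_one]
  rw [this, Subgroup.card_top] at hC
  omega

/-- A Sylow 2-subgroup of a simple group containing an involution whose centraliser in it has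
order 4 has itself order 4, when the centraliser of the involution has no 2-subgroup of order
above 4. -/
theorem sylow_card_le_four {G : Type*} [Group G] [Finite G] [IsSimpleGroup G]
    (hna : ¬ IsMulCommutative G) (x : G) (hx : orderOf x = 2) (T : Sylow 2 G)
    (hxT : x ∈ (T : Subgroup G))
    (hC : Nat.card (Subgroup.centralizer ({(⟨x, hxT⟩ : (T : Subgroup G))} : Set (T : Subgroup G))) = 4)
    (hbound : ∀ K : Subgroup G, IsPGroup 2 K → K ≤ Subgroup.centralizer ({x} : Set G) →
      Nat.card K ≤ 4) :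
    Nat.card (T : Subgroup G) ≤ 4 := by
  classical
  by_contra h8
  rw [not_le] at h8
  haveI : Fact (Nat.Prime 2) := ⟨Nat.prime_two⟩
  set x' : (T : Subgroup G) := ⟨x, hxT⟩ with hx'
  obtain ⟨hxD, hD4, hclass⟩ := exists_bad_max T.isPGroup' x' hC h8
  set D := commutator (T : Subgroup G) with hD
  have hno : ∀ H : Subgroup G, H.index ≠ 2 := fun H hH => by
    haveI := Subgroup.normal_of_index_eq_two hH
    rcases (inferInstance : H.Normal).eq_bot_or_eq_top with h | h
    · rw [h, Subgroup.index_bot] at hH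
      exact SmallGroups.not_prime_card hna (hH ▸ Nat.prime_two)
    · rw [h, Subgroup.index_top] at hH; omega
  have hxx : x * x = 1 := by rw [← pow_two, ← hx, pow_orderOf_eq_one]
  have hx'2 : x' * x' = 1 := Subtype.ext hxx
  haveI hDn : D.Normal := by rw [hD]; infer_instance
  let Q := (T : Subgroup G) ⧸ D
  have hQ : Nat.card Q = 4 := by rw [← Subgroup.index_eq_card, hD4]
  have hcomm : ∀ a b : Q, a * b = b * a := fun a b => by
    induction a using QuotientGroup.induction_on with | _ a =>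
    induction b using QuotientGroup.induction_on with | _ b =>
    rw [← QuotientGroup.mk_mul, ← QuotientGroup.mk_mul, QuotientGroup.eq,
      show (a * b)⁻¹ * (b * a) = b⁻¹ * a⁻¹ * b⁻¹⁻¹ * a⁻¹⁻¹ by group, ← commutatorElement_def, hD,
      commutator_def]
    exact Subgroup.commutator_mem_commutator (Subgroup.mem_top _) (Subgroup.mem_top _)
  -- a central involution of `D`
  obtain ⟨z, hzD, hzc, hz1⟩ : ∃ z : (T : Subgroup G), z ∈ D ∧
      z ∈ Subgroup.center (T : Subgroup G) ∧ orderOf z = 2 := by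
    have hne : Nontrivial D := by
      rw [← Finite.one_lt_card_iff_nontrivial]
      have h := D.card_mul_index
      rw [hD4] at h
      omega
    obtain ⟨c, hc, hc1, hcc⟩ := Involution.exists_central_ne_one_of_normal (p := 2) T.isPGroup' D
      hDn ((Subgroup.nontrivial_iff_ne_bot D).1 hne)
    obtain ⟨k, hk⟩ := T.isPGroup' c
    have hne0 : orderOf c ≠ 1 := fun h => hc1 (orderOf_eq_one_iff.1 h)
    have hdvd : orderOf c ∣ 2 ^ k := orderOf_dvd_of_pow_eq_one hk
    obtain ⟨l, -, hl⟩ := (Nat.dvd_prime_pow Nat.prime_two).1 hdvd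
    obtain ⟨l, rfl⟩ : ∃ m, l = m + 1 := ⟨l - 1, by
      have : l ≠ 0 := fun h => hne0 (by rw [hl, h, pow_zero])
      omega⟩
    refine ⟨c ^ 2 ^ l, pow_mem hc _, pow_mem (Subgroup.mem_center_iff.2 hcc) _, ?_⟩
    rw [orderOf_pow' c (by positivity), hl, Nat.gcd_eq_right (pow_dvd_pow 2 l.le_succ), pow_succ,
      Nat.mul_div_cancel_left _ (by positivity)]
  have hzx : z * x' = x' * z := (Subgroup.mem_center_iff.1 hzc x').symm
  have hz2 : z * z = 1 := by
    have h := pow_orderOf_eq_one z
    rwa [hz1, pow_two] at h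
  have hzne : z ≠ 1 := fun h => by rw [h, orderOf_one] at hz1; omega
  -- the centraliser of `x` maps into `⟨x̄⟩`
  have hCimg : ∀ y ∈ Subgroup.centralizer ({x'} : Set (T : Subgroup G)),
      (y = 1 ∨ y = z) ∨ (y : Q) = (x' : Q) := by
    intro y hy
    let S : Finset (T : Subgroup G) := {1, z, x', z * x'}
    have hzxne : z * x' ≠ 1 := fun h => hxD (by
      have := mul_eq_one_iff_inv_eq.1 h
      rw [← this]; exact D.inv_mem hzD)
    have hS : S.card = 4 := by
      have n1 : z ≠ x' := fun h => hxD (h ▸ hzD)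
      have n2 : x' ≠ 1 := fun h => hxD (h ▸ D.one_mem)
      have n3 : z * x' ≠ z := fun h => n2 (mul_eq_left.1 h)
      have n4 : z * x' ≠ x' := fun h => hzne (mul_eq_right.1 h)
      simp [S, hzne.symm, n1, n2.symm, hzxne.symm, n3.symm, n4.symm]
    have hsub : (S : Set (T : Subgroup G)) ⊆ Subgroup.centralizer ({x'} : Set (T : Subgroup G)) := by
      intro v hv
      rw [SetLike.mem_coe, Subgroup.mem_centralizer_singleton_iff]
      simp only [S, Finset.coe_insert, Finset.coe_singleton, Set.mem_insert_iff,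
        Set.mem_singleton_iff] at hv
      rcases hv with rfl | rfl | rfl | rfl
      · simp
      · exact hzx
      · rfl
      · rw [← mul_assoc x' z, ← hzx]
    have heq : (S : Set (T : Subgroup G)) = Subgroup.centralizer ({x'} : Set (T : Subgroup G)) := by
      refine Set.eq_of_subset_of_ncard_le hsub ?_ (Set.toFinite _)
      rw [Set.ncard_coe_finset, hS, ← Nat.card_coe_set_eq]
      exact hC.le
    have hyS : y ∈ (S : Set (T : Subgroup G)) := heq ▸ hy
    have hz0 : (z : Q) = 1 := (QuotientGroup.eq_one_iff z).2 hzD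
    simp only [S, Finset.coe_insert, Finset.coe_singleton, Set.mem_insert_iff,
      Set.mem_singleton_iff] at hyS
    rcases hyS with rfl | rfl | rfl | rfl
    · exact Or.inl (Or.inl rfl)
    · exact Or.inl (Or.inr rfl)
    · exact Or.inr rfl
    · exact Or.inr (by rw [QuotientGroup.mk_mul, hz0, one_mul])
  have himg : ∀ u t : (T : Subgroup G), u * (t * x' * t⁻¹) = t * x' * t⁻¹ * u →
      (u : Q) = 1 ∨ (u : Q) = (x' : Q) := by
    intro u t h
    have hy : t⁻¹ * u * t ∈ Subgroup.centralizer ({x'} : Set (T : Subgroup G)) := by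
      rw [Subgroup.mem_centralizer_singleton_iff]
      calc t⁻¹ * u * t * x' = t⁻¹ * (u * (t * x' * t⁻¹)) * t := by group
        _ = t⁻¹ * (t * x' * t⁻¹ * u) * t := by rw [h]
        _ = x' * (t⁻¹ * u * t) := by group
    have h' : ((t⁻¹ * u * t : (T : Subgroup G)) : Q) = u := by
      rw [QuotientGroup.mk_mul, QuotientGroup.mk_mul, hcomm _ (u : Q), mul_assoc,
        ← QuotientGroup.mk_mul, inv_mul_cancel, QuotientGroup.mk_one, mul_one]
    rw [← h']
    refine (hCimg _ hy).imp_left fun h1 => ?_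
    rcases h1 with h1 | h1 <;> rw [h1]
    · exact QuotientGroup.mk_one _
    · exact (QuotientGroup.eq_one_iff z).2 hzD
  have hxq2 : (x' : Q) * x' = 1 := by rw [← QuotientGroup.mk_mul, hx'2, QuotientGroup.mk_one]
  have hxq1 : (x' : Q) ≠ 1 := by rwa [Ne, QuotientGroup.eq_one_iff]
  have hconjx : ∀ u : (T : Subgroup G), (u : Q) = x' → ∃ t, t * x' * t⁻¹ = u := fun u hu =>
    hclass u (by rw [← QuotientGroup.eq_one_iff, QuotientGroup.mk_mul, QuotientGroup.mk_inv, hu,
      mul_inv_cancel])
  have hconjsq : ∀ u : (T : Subgroup G), (u : Q) = x' → u * u = 1 := fun u hu => by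
    obtain ⟨t, rfl⟩ := hconjx u hu
    rw [show t * x' * t⁻¹ * (t * x' * t⁻¹) = t * (x' * x') * t⁻¹ by group, hx'2, mul_one,
      mul_inv_cancel]
  -- the quotient has exponent two
  have hsq : ∀ v : Q, v * v = 1 := by
    intro v
    by_contra hv
    have h1 : v ^ 4 = 1 := hQ ▸ pow_card_eq_one'
    have h4 : orderOf v = 4 := orderOf_eq_prime_pow (p := 2) (n := 1)
      (by rwa [pow_one, pow_two]) h1
    have htop : Subgroup.zpowers v = ⊤ := by
      apply Subgroup.eq_top_of_card_eq
      rw [Nat.card_zpowers, h4, hQ]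
    obtain ⟨i, hi⟩ : ∃ i : ℕ, v ^ i = (x' : Q) :=
      Submonoid.mem_powers_iff _ _ |>.1 ((mem_powers_iff_mem_zpowers).2
        (htop ▸ Subgroup.mem_top _))
    have hi2 : (x' : Q) = v * v := by
      rw [← hi, ← pow_mod_orderOf, h4]
      have h2 : v ^ (2 * i) = 1 := by rw [mul_comm, pow_mul, hi, pow_two, hxq2]
      have hd : 4 ∣ 2 * i := h4 ▸ orderOf_dvd_of_pow_eq_one h2
      have hn : ¬ 4 ∣ i := fun h => hxq1 (by
        rw [← hi]; exact orderOf_dvd_iff_pow_eq_one.1 (h4 ▸ h))
      rw [show i % 4 = 2 by omega, pow_two]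
    obtain ⟨c, rfl⟩ := QuotientGroup.mk_surjective v
    obtain ⟨t, ht⟩ := hconjx (c * c) (by rw [QuotientGroup.mk_mul, hi2])
    rcases himg c t (by rw [ht, mul_assoc]) with h | h
    · exact hv (by rw [h, mul_one])
    · exact hv (by rw [h, hxq2])
  have hord : ∀ v : Q, v ≠ 1 → orderOf v = 2 := fun v hv =>
    orderOf_eq_prime (by rw [pow_two]; exact hsq v) hv
  -- transfer: each subgroup `D ∪ vD` contains a conjugate of `x`, outside `D`
  have htrans : ∀ v : Q, v ≠ 1 → ∃ a : (T : Subgroup G), a * a = 1 ∧ (a : Q) = v := by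
    intro v hv
    let U : Subgroup (T : Subgroup G) := (Subgroup.zpowers v).comap (QuotientGroup.mk' D)
    have hU : U.index = 2 := by
      rw [Subgroup.index_comap_of_surjective _ (QuotientGroup.mk'_surjective D)]
      have := (Subgroup.zpowers v).card_mul_index
      rw [Nat.card_zpowers, hord v hv, hQ] at this
      omega
    obtain ⟨g, a, haU, ha⟩ := Involution.exists_conj_mem_of_no_index_two hno T
      (U.map (T : Subgroup G).subtype) (Subgroup.map_subtype_le U) (by
        rw [Subgroup.relIndex, Subgroup.subgroupOf,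
          Subgroup.comap_map_eq_self_of_injective (T : Subgroup G).subtype_injective, hU]) x hx
    have ha' : (a : G) = g * x * g⁻¹ := ha
    have ha2 : a * a = 1 := Subtype.ext (by
      show (a : G) * a = 1
      rw [ha', show g * x * g⁻¹ * (g * x * g⁻¹) = g * (x * x) * g⁻¹ by group, hxx, mul_one,
        mul_inv_cancel])
    refine ⟨a, ha2, ?_⟩
    obtain ⟨i, hi⟩ := Subgroup.mem_zpowers_iff.1 (haU :)
    have hi' : v ^ i = (a : Q) := hi
    rcases Int.even_or_odd i with ⟨j, rfl⟩ | ⟨j, rfl⟩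
    · exfalso
      have haD : (a : Q) = 1 := by
        rw [← hi', ← two_mul, zpow_mul, zpow_two, hsq, one_zpow]
      -- `a` is then an involution of `D` centralising `x'`
      have hax2 := hconjsq (a * x') (by rw [QuotientGroup.mk_mul, haD, one_mul])
      have hcommax : a * x' = x' * a := by
        calc a * x' = (x' * x') * (a * x') * (a * a) := by rw [hx'2, ha2, one_mul, mul_one]
          _ = x' * ((x' * a) * (x' * a)) * a := by group
          _ = x' * a := by
            rw [show x' * a * (x' * a) = a⁻¹ * ((a * x') * (a * x')) * a by group, hax2,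
              mul_one, inv_mul_cancel, mul_one]
      have haC : a ∈ Subgroup.centralizer ({x'} : Set (T : Subgroup G)) :=
        Subgroup.mem_centralizer_singleton_iff.2 hcommax
      have ha1 : a ≠ 1 := fun h => by
        have hgx : g * x * g⁻¹ = 1 := by rw [← ha', h]; rfl
        rw [conj_eq_one_iff] at hgx
        rw [hgx, orderOf_one] at hx; omega
      have haz : a = z := (hCimg a haC).elim (fun h => (h.resolve_left ha1))
        fun h => absurd (haD ▸ h).symm hxq1
      have hacen : ∀ s : (T : Subgroup G), s * a = a * s := fun s => by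
        rw [haz]; exact Subgroup.mem_center_iff.1 hzc s
      have hT' : (T : Subgroup G).map (MulAut.conj g⁻¹).toMonoidHom ≤
          Subgroup.centralizer ({x} : Set G) := by
        rintro _ ⟨s, hs, rfl⟩
        rw [Subgroup.mem_centralizer_singleton_iff]
        have h2 : s * (g * x * g⁻¹) = g * x * g⁻¹ * s := by
          rw [← ha']; exact congrArg Subtype.val (hacen ⟨s, hs⟩)
        show g⁻¹ * s * g⁻¹⁻¹ * x = x * (g⁻¹ * s * g⁻¹⁻¹)
        calc g⁻¹ * s * g⁻¹⁻¹ * x = g⁻¹ * (s * (g * x * g⁻¹)) * g := by group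
          _ = g⁻¹ * (g * x * g⁻¹ * s) * g := by rw [h2]
          _ = x * (g⁻¹ * s * g⁻¹⁻¹) := by group
      have hle4 := hbound _ (T.isPGroup'.map _) hT'
      rw [Subgroup.card_map_of_injective (MulAut.conj g⁻¹).injective] at hle4
      omega
    · rw [← hi', zpow_add_one, zpow_mul, zpow_two, hsq, one_zpow, one_mul]
  obtain ⟨v, hv1, hvx⟩ : ∃ v : Q, v ≠ 1 ∧ v ≠ (x' : Q) := by
    by_contra h
    push Not at h
    haveI := Fintype.ofFinite Q
    have hsub : (Finset.univ : Finset Q) ⊆ {1, (x' : Q)} := fun v _ => by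
      rw [Finset.mem_insert, Finset.mem_singleton]
      exact (em (v = 1)).imp_right (h v)
    have := (Finset.card_le_card hsub).trans Finset.card_le_two
    rw [Finset.card_univ, ← Nat.card_eq_fintype_card, hQ] at this
    omega
  obtain ⟨a, ha2, ha⟩ := htrans v hv1
  obtain ⟨b, hb2, hb⟩ := htrans ((x' : Q) * v) fun h => hvx (mul_left_cancel (h.trans hxq2.symm))
  have hab : ((a * b : (T : Subgroup G)) : Q) = x' := by
    rw [QuotientGroup.mk_mul, ha, hb, ← mul_assoc, hcomm v, mul_assoc, hsq, mul_one]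
  obtain ⟨t, ht⟩ := hconjx (a * b) hab
  have habsq := hconjsq _ hab
  have hba : b * a = a * b := by
    calc b * a = (a * a) * (b * a) * (b * b) := by rw [ha2, hb2, one_mul, mul_one]
      _ = a * ((a * b) * (a * b)) * b := by group
      _ = a * b := by rw [habsq, mul_one]
  rcases himg a t (by rw [ht, mul_assoc a b a, hba]) with h | h
  · exact hv1 (ha ▸ h)
  · exact hvx (ha ▸ h)


/-- Let G be a finite simple group with an involution x such that a Sylow 2-subgroup of C_G(x) is a Klein four-group which is normal in C_G(x). Then G is isomorphic to the alternating group of degree 5 (that is, to PSL(2, 5)). -/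
theorem result {G : Type*} [Group G] [Finite G] [IsSimpleGroup G] (x : G) (hx : orderOf x = 2)
    (S₀ : Subgroup G) (hle : S₀ ≤ Subgroup.centralizer ({x} : Set G)) (hK : IsKleinFour ↥S₀)
    (hodd : ¬ 2 ∣ S₀.relIndex (Subgroup.centralizer ({x} : Set G))) (hn : (S₀.subgroupOf (Subgroup.centralizer ({x} : Set G))).Normal) :
    Nonempty (G ≃* ↥(alternatingGroup (Fin 5))) := by
  classical
  haveI : Fact (Nat.Prime 2) := ⟨Nat.prime_two⟩
  cases nonempty_fintype G
  have hxx : x * x = 1 := by rw [← pow_two, ← hx, pow_orderOf_eq_one]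
  have hx1 : x ≠ 1 := fun h => by rw [h, orderOf_one] at hx; omega
  haveI := hK
  have h4 : Nat.card S₀ = 4 := hK.card_four
  have hna : ¬ IsMulCommutative G := by
    intro hc
    haveI := hc
    letI : CommGroup G := { ‹Group G› with mul_comm := hc.1.1 }
    have hp : (Nat.card G).Prime := IsSimpleGroup.prime_card
    have hd : 4 ∣ Nat.card G := h4 ▸ S₀.card_subgroup_dvd_card
    rcases hp.eq_one_or_self_of_dvd 4 hd with h | h
    · omega
    · rw [← h] at hp; exact absurd hp (by norm_num)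
  set C := Subgroup.centralizer ({x} : Set G) with hCdef
  -- `S₀` is the Sylow subgroup of the centraliser
  have hsubS : ∀ K : Subgroup G, IsPGroup 2 K → K ≤ C → K ≤ S₀ := by
    intro K hK2 hKC
    have hN : IsPGroup 2 (S₀.subgroupOf C) :=
      IsPGroup.of_card (n := 2) (by
        rw [Nat.card_congr (Subgroup.subgroupOfEquivOfLe hle).toEquiv, h4]; rfl)
    haveI := hn
    let P : Sylow 2 C := hN.toSylow hodd
    haveI : (P : Subgroup C).Normal := hn
    haveI : Subsingleton (Sylow 2 C) := by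
      obtain ⟨_, h⟩ := Sylow.unique_of_normal P hn
      exact ⟨fun a b => (h a).trans (h b).symm⟩
    obtain ⟨R, hR⟩ := (hK2.comap_of_injective C.subtype C.subtype_injective).exists_le_sylow
    intro k hk
    have h1 : (⟨k, hKC hk⟩ : C) ∈ (R : Subgroup C) := hR (show k ∈ K from hk)
    rw [Subsingleton.elim R P] at h1
    exact h1
  have hbound : ∀ K : Subgroup G, IsPGroup 2 K → K ≤ C → Nat.card K ≤ 4 := fun K h1 h2 =>
    h4 ▸ Nat.card_le_card_of_injective _ (Subgroup.inclusion_injective (hsubS K h1 h2))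
  have hS2 : IsPGroup 2 S₀ := IsPGroup.of_card (n := 2) (by rw [h4]; rfl)
  have hxS : x ∈ S₀ := hsubS _ (IsPGroup.of_card (n := 1) (by rw [Nat.card_zpowers, hx]; rfl))
    (Subgroup.zpowers_le.2 (Subgroup.mem_centralizer_singleton_iff.2 rfl)) (Subgroup.mem_zpowers x)
  obtain ⟨T, hT⟩ := hS2.exists_le_sylow
  have hT4 : Nat.card (T : Subgroup G) ≤ 4 := by
    refine sylow_card_le_four hna x hx T (hT hxS) ?_ hbound
    let e : Subgroup.centralizer ({(⟨x, hT hxS⟩ : (T : Subgroup G))} : Set (T : Subgroup G)) ≃ S₀ :=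
      { toFun := fun y => ⟨((y : (T : Subgroup G)) : G), hsubS ((T : Subgroup G) ⊓ C)
          (T.isPGroup'.to_le inf_le_left) inf_le_right ⟨(y : (T : Subgroup G)).2,
            Subgroup.mem_centralizer_singleton_iff.2
              (congrArg Subtype.val (Subgroup.mem_centralizer_singleton_iff.1 y.2))⟩⟩
        invFun := fun s => ⟨⟨(s : G), hT s.2⟩, Subgroup.mem_centralizer_singleton_iff.2
          (Subtype.ext (Subgroup.mem_centralizer_singleton_iff.1 (hle s.2)))⟩
        left_inv := fun _ => Subtype.ext (Subtype.ext rfl)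
        right_inv := fun _ => Subtype.ext rfl }
    rw [Nat.card_congr e, h4]
  have hTS : (T : Subgroup G) = S₀ := (Subgroup.eq_of_le_of_card_ge hT (by omega)).symm
  have hP : IsKleinFour (T : Subgroup G) := hTS ▸ hK
  have hxP : x ∈ (T : Subgroup G) := hT hxS
  obtain ⟨e⟩ := IsKleinFour.nonempty_mulEquiv (G₁ := (T : Subgroup G))
    (G₂ := Multiplicative (ZMod 2 × ZMod 2))
  have hT2 : 2 ∣ Nat.card G := hx ▸ orderOf_dvd_natCard x
  have hnTne : ¬ (T : Subgroup G).Normal := fun hN => by
    rcases hN.eq_bot_or_eq_top with h | h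
    · exact hx1 (Subgroup.mem_bot.1 (h ▸ hxP))
    · have := T.isPGroup'
      rw [h] at this
      exact SmallGroups.not_isPGroup hna (this.of_equiv Subgroup.topEquiv)
  have hnc : ¬ ∃ N : Subgroup G, N.Normal ∧ Subgroup.IsComplement' N (T : Subgroup G) := by
    rintro ⟨N, hN, hc⟩
    rcases hN.eq_bot_or_eq_top with h | h
    · subst h
      exact hnTne ((Subgroup.isComplement'_bot_left.1 hc) ▸ inferInstance)
    · subst h
      exact hx1 (Subgroup.mem_bot.1 ((Subgroup.isComplement'_top_left.1 hc) ▸ hxP))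
  have hone := (Cfsg.Agent.S0946.result T 1 le_rfl e).resolve_left hnc
  obtain ⟨hrel, hcz⟩ := Cfsg.Agent.S0945.result T 1 le_rfl e
  set CP := Subgroup.centralizer ((T : Subgroup G) : Set G) with hCP
  set NP := Subgroup.normalizer ((T : Subgroup G) : Set G) with hNP
  have hrel1 : CP.relIndex NP ≠ 1 := fun h1 => by
    have hle' : NP ≤ CP := Subgroup.relIndex_eq_one.1 h1
    exact hnc ⟨_, inferInstance, MonoidHom.ker_transferSylow_isComplement' T hle'⟩
  have hrel3 : CP.relIndex NP = 3 := hrel.resolve_left hrel1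
  have hCle : CP ≤ C := fun g hg => Subgroup.mem_centralizer_singleton_iff.2
    ((Subgroup.mem_centralizer_iff.1 hg x hxP).symm)
  have hCN : C ≤ NP := by
    intro g hg
    rw [hNP, hTS, Subgroup.mem_normalizer_iff]
    intro s
    constructor
    · intro hs
      exact hn.conj_mem ⟨s, hle hs⟩ hs ⟨g, hg⟩
    · intro hs
      have h2 := hn.conj_mem ⟨g * s * g⁻¹, hle hs⟩ hs ⟨g⁻¹, inv_mem hg⟩
      have h3 : g⁻¹ * (g * s * g⁻¹) * g⁻¹⁻¹ = s := by group
      exact h3 ▸ h2
  have hCC : C = CP := le_antisymm (fun g hg =>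
    (hcz hrel1 x hxP hx1).le ⟨hg, hCN hg⟩) hCle
  obtain ⟨M, hM⟩ := CharCount.exists_isPModular 2 Nat.prime_two
  haveI := Cfsg.Agent.Lib.Blocks.isPModular_isPrime hM
  obtain ⟨ζ₂, ζ₃, ζ₄, ε, hε, n2, n3, n23, n24, n34, hB, hval, d2, d3, d4, -⟩ :=
    Cfsg.Agent.S0948.result M hM T hP hone
  have n4 : (ζ₄ : G → ℂ) ≠ fun _ => 1 := fun h => by
    have := (hval x hx).2.2
    rw [h] at this
    norm_num at this
  have hF : KleinOrder.FourBlock M ζ₂ ζ₃ ζ₄ := ⟨hB, n2, n3, n4, n23, n24, n34⟩
  have hv : (ζ₂ : G → ℂ) x = ((1 : ℤ) : ℂ) ∧ (ζ₃ : G → ℂ) x = (ε : ℂ) ∧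
      (ζ₄ : G → ℂ) x = ((-1 : ℤ) : ℂ) :=
    ⟨by simpa using (hval x hx).1, (hval x hx).2.1, by simpa using (hval x hx).2.2⟩
  have hd := KleinOrder.degree_sum T hP hxP hx hM hF hv
  have hcube := KleinOrder.order_cube T hP hone hxP hx hM hF hv
    ⟨Or.inl rfl, hε, Or.inr rfl⟩
  rw [← hCdef, ← hCP, hCC] at hcube
  have hG : Nat.card G = 3 * NP.index * Nat.card CP := by
    have hle' : CP ≤ NP := hCC ▸ hCN
    rw [← NP.card_mul_index, ← hrel3]
    have h1 := Subgroup.relIndex_mul_index hle'
    have h2 := CP.card_mul_index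
    have h3 := NP.card_mul_index
    calc Nat.card NP * NP.index = Nat.card CP * CP.index := by rw [h3, h2]
      _ = CP.relIndex NP * NP.index * Nat.card CP := by rw [← h1]; ring
  rw [hG] at hcube
  set x₁ := Cfsg.charDegree (ζ₂ : G → ℂ)
  set x₂ := Cfsg.charDegree (ζ₃ : G → ℂ)
  set x₃ := Cfsg.charDegree (ζ₄ : G → ℂ)
  have p1 : 1 ≤ x₁ := (KleinOrder.degree_spec ζ₂).2
  have p2 : 1 ≤ x₂ := (KleinOrder.degree_spec ζ₃).2
  have p3 : 1 ≤ x₃ := (KleinOrder.degree_spec ζ₄).2
  set n := NP.index with hn'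
  have hcpos : (0 : ℚ) < (Nat.card CP : ℚ) := Nat.cast_pos.2 Nat.card_pos
  have hkey : 3 * (n : ℤ) * ((x₁ + 1) * (x₂ + ε) * (x₃ - 1)) = 8 * (x₁ * x₂ * x₃) := by
    have h3 : (Nat.card CP : ℚ) ^ 3 ≠ 0 := pow_ne_zero _ hcpos.ne'
    have : (3 : ℚ) * n * ((x₁ + 1) * (x₂ + ε) * (x₃ - 1)) = 8 * (x₁ * x₂ * x₃) := by
      apply mul_left_cancel₀ h3
      push_cast at hcube
      linear_combination hcube
    exact_mod_cast this
  have hn5 : n ≤ 5 := by
    by_contra hc
    have hnc' : (6 : ℤ) ≤ n := by omega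
    have q1 : (1 : ℤ) ≤ x₁ := by exact_mod_cast p1
    have q2 : (1 : ℤ) ≤ x₂ := by exact_mod_cast p2
    have q3 : (3 : ℤ) ≤ x₃ := by omega
    have h3' : 2 * (x₃ : ℤ) ≤ 3 * (x₃ - 1) := by omega
    rcases hε with rfl | rfl
    · have : (x₁ : ℤ) * x₂ < (x₁ + 1) * (x₂ + 1) := by nlinarith
      have hA : 2 * (x₃ : ℤ) * ((x₁ : ℤ) * x₂) < 3 * (x₃ - 1) * ((x₁ + 1) * (x₂ + 1)) :=
        lt_of_lt_of_le (by nlinarith) (mul_le_mul_of_nonneg_right h3' (by positivity))
      have hY : (0 : ℤ) ≤ (x₁ + 1) * (x₂ + 1) * (x₃ - 1) := by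
        have : (0 : ℤ) ≤ x₃ - 1 := by omega
        positivity
      nlinarith [mul_le_mul_of_nonneg_right hnc' hY]
    · have q2' : (3 : ℤ) ≤ x₂ := by omega
      have h2' : 2 * (x₂ : ℤ) ≤ 3 * (x₂ - 1) := by omega
      have hA : (2 * (x₂ : ℤ)) * (2 * x₃) ≤ (3 * (x₂ - 1)) * (3 * (x₃ - 1)) :=
        mul_le_mul h2' h3' (by omega) (by omega)
      have hB' : (x₁ : ℤ) * (2 * x₂ * (2 * x₃)) < (x₁ + 1) * (3 * (x₂ - 1) * (3 * (x₃ - 1))) :=
        lt_of_lt_of_le (mul_lt_mul_of_pos_right (lt_add_one _) (by nlinarith))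
          (mul_le_mul_of_nonneg_left hA (by omega))
      nlinarith [mul_le_mul_of_nonneg_right hnc'
        (show (0 : ℤ) ≤ (x₁ + 1) * (x₂ - 1) * (x₃ - 1) by
          have : (0 : ℤ) ≤ x₃ - 1 := by omega
          have : (0 : ℤ) ≤ (x₂ : ℤ) - 1 := by omega
          positivity)]
  have hnodd : ¬ 2 ∣ n := fun h =>
    T.not_dvd_index (h.trans (Subgroup.index_dvd_of_le Subgroup.le_normalizer))
  have hNtop : NP ≠ ⊤ := SmallGroups.normalizer_sylow_ne_top hna hT2 T
  have hn1 : n ≠ 1 := fun h => hNtop (Subgroup.index_eq_one.1 h)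
  have hf := SmallGroups.two_mul_card_dvd_factorial hna hNtop
  rw [← hn', hG] at hf
  have hCP4 : 4 ∣ Nat.card CP := by
    rw [← hCC, ← h4]; exact Subgroup.card_dvd_of_le hle
  obtain ⟨m, hm⟩ := hCP4
  have hn35 : n = 3 ∨ n = 5 := by omega
  rcases hn35 with h | h
  · exfalso
    rw [h, hm, show Nat.factorial 3 = 6 from rfl] at hf
    have hmpos : 0 < m := by
      rcases Nat.eq_zero_or_pos m with h0 | h0
      · have : 0 < Nat.card CP := Nat.card_pos
        rw [hm, h0] at this
        omega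
      · exact h0
    have := Nat.le_of_dvd (by norm_num) hf
    omega
  · haveI : FaithfulSMul G (G ⧸ NP) :=
      ⟨fun {a b} hab => SmallGroups.toPermHom_injective hNtop (Equiv.ext hab)⟩
    haveI := Fintype.ofFinite (G ⧸ NP)
    refine LinGroup.nonempty_mulEquiv_alternating (α := G ⧸ NP)
      (by rw [← Subgroup.index_eq_card, ← hn', h]) ?_
    rw [h, hm, show Nat.factorial 5 = 120 from rfl] at hf
    rw [hG, h, hm, show Nat.factorial 5 = 120 from rfl]
    have hmpos : 0 < m := by
      rcases Nat.eq_zero_or_pos m with h0 | h0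
      · have : 0 < Nat.card CP := Nat.card_pos
        rw [hm, h0] at this
        omega
      · exact h0
    have := Nat.le_of_dvd (by norm_num) hf
    omega

end Cfsg.Agent.S3278
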