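import Cfsg.Statements.S3279
import Cfsg.Agent.Lib.ZStar.Final
import Cfsg.Agent.Lib.Involution.KleinFourSylow
import Cfsg.Agent.Lib.Involution.Basic

set_option autoImplicit false
open Cfsg

namespace Cfsg.Agent.S3279

open Subgroup
open Cfsg.Agent.Lib

universe u

theorem zstar_here : ZStar.ZStarStatement.{u} := ZStar.zStar

theorem isConj_of_mem_centralizer {G : Type u} [Group G] [Finite G] [IsSimpleGroup G] {x y : G}
    (hx : orderOf x = 2) (hxy : IsConj x y) (hne : y ≠ x) (hc : Commute x y)
    (h3 : Nat.card {u : ↥(centralizer ({x} : Set G)) // orderOf u = 2} ≤ 3)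
    (v : G) (hv : orderOf v = 2) (hvx : Commute x v) : IsConj x v := by
  classical
  haveI := Fintype.ofFinite G
  by_contra hnv
  have hy : orderOf y = 2 := (Involution.isConj_orderOf hxy).trans hx
  obtain ⟨g, hg⟩ := isConj_iff.mp hxy
  have hbound : (Finset.univ.filter fun u : G => orderOf u = 2 ∧ Commute x u).card ≤ 3 := by
    refine le_trans (le_of_eq ?_) h3
    rw [← Fintype.card_subtype, ← Nat.card_eq_fintype_card]
    exact Nat.card_congr
      { toFun := fun u => ⟨⟨u.1, mem_centralizer_singleton_iff.mpr u.2.2.eq.symm⟩,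
          by rw [← orderOf_coe]; exact u.2.1⟩
        invFun := fun u => ⟨u.1.1, by rw [orderOf_coe]; exact u.2,
          (mem_centralizer_singleton_iff.mp u.1.2).symm⟩
        left_inv := fun u => rfl
        right_inv := fun u => rfl }
  have hvy' : v ≠ y := fun h => hnv (h ▸ hxy)
  have hvx' : v ≠ x := fun h => hnv (h ▸ IsConj.refl x)
  have hfour : ∀ u : G, ¬ (u = x ∨ u = y ∨ u = v) → ({u, x, y, v} : Finset G).card = 4 := by
    intro u h
    push Not at h
    exact Finset.card_eq_four.mpr
      ⟨u, x, y, v, h.1, h.2.1, h.2.2, hne.symm, hvx'.symm, hvy'.symm, rfl⟩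
  have hset : ∀ u : G, orderOf u = 2 → Commute x u → u = x ∨ u = y ∨ u = v := by
    intro u hu hux
    by_contra h
    have hsub : ({u, x, y, v} : Finset G) ⊆
        Finset.univ.filter fun u : G => orderOf u = 2 ∧ Commute x u := by
      intro w hw
      simp only [Finset.mem_insert, Finset.mem_singleton] at hw
      rw [Finset.mem_filter]
      refine ⟨Finset.mem_univ _, ?_⟩
      rcases hw with rfl | rfl | rfl | rfl
      exacts [⟨hu, hux⟩, ⟨hx, Commute.refl _⟩, ⟨hy, hc⟩, ⟨hv, hvx⟩]
    have := Finset.card_le_card hsub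
    have := hfour u h
    omega
  have hvy : Commute v y := by
    rcases hset (v * y * v⁻¹) ((Involution.orderOf_conj_eq v y).trans hy)
      (((hvx.mul_right hc).mul_right hvx.inv_right)) with h | h | h
    · refine absurd ?_ hne
      rw [show y = v⁻¹ * x * v by rw [← h]; group, mul_assoc, hvx.eq, inv_mul_cancel_left]
    · exact mul_inv_eq_iff_eq_mul.mp h
    · refine absurd ?_ hvy'
      exact (mul_left_cancel (mul_inv_eq_iff_eq_mul.mp h)).symm
  have hsety : ∀ u : G, orderOf u = 2 → Commute y u → u = x ∨ u = y ∨ u = v := by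
    intro u hu huy
    by_contra h
    have key : ∀ a : G, orderOf a = 2 → Commute y a →
        g⁻¹ * a * g ∈ Finset.univ.filter fun u : G => orderOf u = 2 ∧ Commute x u := by
      intro a ha hya
      rw [Finset.mem_filter]
      refine ⟨Finset.mem_univ _, ?_, ?_⟩
      · rw [show g⁻¹ * a * g = g⁻¹ * a * g⁻¹⁻¹ by rw [inv_inv], Involution.orderOf_conj_eq, ha]
      · rw [show x = g⁻¹ * y * g by rw [← hg]; group]
        show _ = _
        calc g⁻¹ * y * g * (g⁻¹ * a * g) = g⁻¹ * (y * a) * g := by group
          _ = g⁻¹ * (a * y) * g := by rw [hya.eq]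
          _ = _ := by group
    have hsub : ({u, x, y, v} : Finset G).image (fun w => g⁻¹ * w * g) ⊆
        Finset.univ.filter fun u : G => orderOf u = 2 ∧ Commute x u := by
      intro w hw
      rw [Finset.mem_image] at hw
      obtain ⟨a, ha, rfl⟩ := hw
      simp only [Finset.mem_insert, Finset.mem_singleton] at ha
      rcases ha with rfl | rfl | rfl | rfl
      exacts [key _ hu huy, key _ hx hc.symm, key _ hy (Commute.refl _), key _ hv hvy.symm]
    have := Finset.card_le_card hsub
    rw [Finset.card_image_of_injective _ (fun a b hab => by simpa using hab), hfour u h] at this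
    omega
  have hall : ∀ h : G, Commute v (h * v * h⁻¹) := by
    intro h
    set u := h * v * h⁻¹ with hu
    have huo : orderOf u = 2 := (Involution.orderOf_conj_eq h v).trans hv
    have hxx := Involution.mul_self_eq_one hx
    have huu := Involution.mul_self_eq_one huo
    have hnu : ¬ IsConj x u := fun hh => hnv (hh.trans (isConj_iff.mpr ⟨h, rfl⟩).symm)
    have hfin : u = x ∨ u = y ∨ u = v → Commute v u := by
      rintro (e | e | e)
      · exact absurd (e ▸ IsConj.refl x) hnu
      · exact absurd (e ▸ hxy) hnu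
      · exact e ▸ Commute.refl v
    rcases Nat.even_or_odd (orderOf (x * u)) with hev | hodd
    · rcases hset _ (Involution.orderOf_half_pow hev)
        (Involution.commute_half_pow_left hxx huu hev).symm with hw | hw | hw
      · exact hfin (hset u huo (hw ▸ Involution.commute_half_pow_right hxx huu hev))
      · exact hfin (hsety u huo (hw ▸ Involution.commute_half_pow_right hxx huu hev))
      · exact hw ▸ Involution.commute_half_pow_right hxx huu hev
    · exact absurd (Involution.isConj_of_odd hxx huu hodd) hnu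
  have hle : normalClosure ({v} : Set G) ≤ centralizer ({v} : Set G) := by
    rw [normalClosure, closure_le]
    intro a ha
    obtain ⟨b, hb, hab⟩ := Group.mem_conjugatesOfSet_iff.mp ha
    obtain rfl := Set.mem_singleton_iff.mp hb
    obtain ⟨h, rfl⟩ := isConj_iff.mp hab
    exact mem_centralizer_singleton_iff.mpr (hall h).eq.symm
  have hne1 : v ≠ 1 := Involution.ne_one hv
  have htop : normalClosure ({v} : Set G) = ⊤ :=
    normalClosure_normal.eq_bot_or_eq_top.resolve_left fun h =>
      hne1 (by simpa [h] using subset_normalClosure (Set.mem_singleton v))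
  have hvc : v ∈ center G := mem_center_iff.mpr fun a =>
    mem_centralizer_singleton_iff.mp (hle (htop ▸ mem_top a))
  have hctop : center G = ⊤ := (inferInstance : (center G).Normal).eq_bot_or_eq_top.resolve_left
    fun h => hne1 (by simpa [h] using hvc)
  refine hne ?_
  rw [← hg, mem_center_iff.mp (hctop ▸ mem_top x : x ∈ center G) g, mul_inv_cancel_right]


/-- Let G be a finite simple group and x an involution of G whose centralizer contains at most three involutions. Then C_G(x) contains a Sylow 2-subgroup of G, and all involutions of G are conjugate. -/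
theorem result {G : Type*} [Group G] [Finite G] [IsSimpleGroup G] (x : G) (hx : orderOf x = 2)
    (h3 : Nat.card {u : ↥(Subgroup.centralizer ({x} : Set G)) // orderOf u = 2} ≤ 3) :
    (∃ S : Sylow 2 G, (S : Subgroup G) ≤ Subgroup.centralizer ({x} : Set G)) ∧
      ∀ u v : G, orderOf u = 2 → orderOf v = 2 → IsConj u v := by

  haveI : Fact (Nat.Prime 2) := ⟨Nat.prime_two⟩
  have hx1 := Involution.ne_one hx
  have hall : ∀ v : G, orderOf v = 2 → Commute x v → IsConj x v := by
    by_cases hiso : Cfsg.IsIsolatedInvolution x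
    · have hxc : x ∈ center G := by
        have hO : Cfsg.oddCore G = ⊥ :=
          ((inferInstance : (Cfsg.pPrimeCore 2 G).Normal)).eq_bot_or_eq_top.resolve_right fun h => by
            have hodd : (Nat.card (Cfsg.pPrimeCore 2 G)).Coprime 2 := PSolvable.pPrimeCore_coprime
            rw [h, card_top] at hodd
            have h2 : 2 ∣ Nat.card G := hx ▸ _root_.orderOf_dvd_natCard x
            exact absurd (Nat.eq_one_of_dvd_coprimes hodd h2 (dvd_refl 2)) (by norm_num)
        refine mem_center_iff.mpr fun g => ?_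
        have h := zstar_here G x hiso g
        rw [show Cfsg.oddCore G = ⊥ from hO, mem_bot, mul_inv_eq_one, mul_inv_eq_iff_eq_mul] at h
        exact h.symm
      intro v hv _
      have htop : zpowers x = ⊤ := by
        refine Subgroup.Normal.eq_bot_or_eq_top ?_ |>.resolve_left (mt zpowers_eq_bot.mp hx1)
        exact ⟨fun n hn g => by
          obtain ⟨k, rfl⟩ := hn
          have : g * x ^ k * g⁻¹ = x ^ k := by
            rw [mem_center_iff.mp (zpow_mem hxc k) g, mul_inv_cancel_right]
          exact this ▸ ⟨k, rfl⟩⟩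
      have := Involution.eq_of_mem_zpowers hv hx (htop ▸ mem_top v) (mem_zpowers x)
      exact this ▸ IsConj.refl v
    · rw [Cfsg.IsIsolatedInvolution, and_iff_right hx] at hiso
      push Not at hiso
      obtain ⟨g, hg, hne⟩ := hiso
      exact fun v hv hvx =>
        isConj_of_mem_centralizer hx (isConj_iff.mpr ⟨g, rfl⟩) hne hg h3 v hv hvx
  obtain ⟨S⟩ : Nonempty (Sylow 2 G) := inferInstance
  obtain ⟨h, hh⟩ := Involution.exists_conj_mem_sylow_two S hx
  haveI : Nontrivial ↥(S : Subgroup G) := ⟨⟨⟨_, hh⟩, 1, fun e => hx1 (by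
    have e' : h * x * h⁻¹ = 1 := congrArg Subtype.val e
    simpa using e')⟩⟩
  haveI := S.isPGroup'.center_nontrivial
  obtain ⟨z, hz⟩ := Involution.exists_orderOf_eq_two (center ↥(S : Subgroup G)) (by
    obtain ⟨n, hn⟩ := IsPGroup.iff_card.mp (S.isPGroup'.to_subgroup (center ↥(S : Subgroup G)))
    rw [hn]
    rcases n with _ | n
    · exact absurd hn (by simpa using (Finite.one_lt_card (α := center ↥(S : Subgroup G))).ne')
    · exact ⟨2 ^ n, by rw [pow_succ]; omega⟩)
  have hz2 : orderOf (z : G) = 2 := by rw [orderOf_coe]; exact hz.2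
  have hzS : ∀ s ∈ (S : Subgroup G), Commute (z : G) s := fun s hs =>
    (congrArg Subtype.val (mem_center_iff.mp hz.1 ⟨s, hs⟩)).symm
  have hzc : IsConj x (h⁻¹ * (z : G) * h) := by
    refine hall _ ?_ ?_
    · rw [show h⁻¹ * (z : G) * h = h⁻¹ * (z : G) * h⁻¹⁻¹ by rw [inv_inv], Involution.orderOf_conj_eq, hz2]
    · have e := (hzS _ hh).eq
      show _ = _
      calc x * (h⁻¹ * (z : G) * h) = h⁻¹ * (h * x * h⁻¹ * z) * h := by group
        _ = h⁻¹ * (z * (h * x * h⁻¹)) * h := by rw [e]
        _ = _ := by group
  obtain ⟨k, hk⟩ := isConj_iff.mp (hzc.trans (isConj_iff.mpr ⟨h, by group⟩ : IsConj _ (z : G))).symm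
  have hto : ∀ s ∈ (S : Subgroup G), Commute x (k * s * k⁻¹) := fun s hs => by
    rw [← hk]
    show _ = _
    calc k * z * k⁻¹ * (k * s * k⁻¹) = k * (z * s) * k⁻¹ := by group
      _ = k * (s * z) * k⁻¹ := by rw [(hzS s hs).eq]
      _ = _ := by group
  refine ⟨⟨k • S, ?_⟩, ?_⟩
  · rw [Sylow.coe_subgroup_smul]
    rintro a ⟨s, hs, rfl⟩
    exact mem_centralizer_singleton_iff.mpr (hto s hs).eq.symm
  · have hone : ∀ u : G, orderOf u = 2 → IsConj x u := by
      intro u hu
      obtain ⟨a, ha⟩ := Involution.exists_conj_mem_sylow_two S hu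
      have h1 := hall _ ((Involution.orderOf_conj_eq k _).trans ((Involution.orderOf_conj_eq a u).trans hu))
        (hto _ ha)
      exact h1.trans (isConj_iff.mpr ⟨a⁻¹ * k⁻¹, by group⟩)
    exact fun u v hu hv => (hone u hu).symm.trans (hone v hv)

end Cfsg.Agent.S3279
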