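import Cfsg.Statements.S3280
import Cfsg.Agent.Lib.CentFour74.Main
-- import your own Cfsg.Agent.* helpers here

set_option autoImplicit false
open Cfsg

namespace Cfsg.Agent.S3280

/-- A non-cyclic finite simple group containing an element whose centralizer has order at most 4 is isomorphic to the alternating group of degree 5, 6 or 7, or to PSL(2, 7). -/
theorem result {G : Type*} [Group G] [Finite G] [IsSimpleGroup G] (hG : ¬ IsCyclic G)
    (w : G) (hw : Nat.card ↥(Subgroup.centralizer ({w} : Set G)) ≤ 4) :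
    Nonempty (G ≃* ↥(alternatingGroup (Fin 5))) ∨ Nonempty (G ≃* ↥(alternatingGroup (Fin 6))) ∨
      Nonempty (G ≃* ↥(alternatingGroup (Fin 7))) ∨
      (∃ (F : Type) (_ : Field F) (_ : Fintype F), Fintype.card F = 7 ∧ Nonempty (G ≃* Matrix.ProjectiveSpecialLinearGroup (Fin 2) F)) := by
  classical
  haveI : Fact (Nat.Prime 7) := ⟨by norm_num⟩
  haveI : Finite (Subgroup.centralizer ({w} : Set G)) := inferInstance
  have hw1 : w ≠ 1 := by
    intro h
    have htop : Subgroup.centralizer ({w} : Set G) = ⊤ := eq_top_iff.2 fun g _ =>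
      Subgroup.mem_centralizer_singleton_iff.2 (by rw [h, one_mul, mul_one])
    rw [htop, Subgroup.card_top] at hw
    have := Cfsg.Agent.S0493.result hG (by omega)
    omega
  have hle : Subgroup.zpowers w ≤ Subgroup.centralizer ({w} : Set G) :=
    Subgroup.zpowers_le.2 (Subgroup.mem_centralizer_singleton_iff.2 rfl)
  have ho : orderOf w ≤ 4 := by
    rw [← Nat.card_zpowers]
    exact (Subgroup.card_le_of_le hle).trans hw
  have ho1 : orderOf w ≠ 1 := fun h => hw1 (orderOf_eq_one_iff.1 h)
  have hpos := orderOf_pos w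
  obtain h | h | h : orderOf w = 2 ∨ orderOf w = 3 ∨ orderOf w = 4 := by omega
  · exact Or.inl (Cfsg.Agent.Lib.CentFour74.of_order_two hG h hw)
  · rcases Cfsg.Agent.Lib.CentFour74.of_order_three hG h hw with e | e
    · exact Or.inl e
    · exact Or.inr (Or.inr (Or.inr ⟨ZMod 7, inferInstance, inferInstance, ZMod.card 7, e⟩))
  · obtain ⟨P, x, c⟩ := Cfsg.Agent.Lib.CentFour74.of_order_four hG h hw
    rcases c.conclusion hG with e | e | e
    · exact Or.inr (Or.inl e)
    · exact Or.inr (Or.inr (Or.inl e))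
    · exact Or.inr (Or.inr (Or.inr ⟨ZMod 7, inferInstance, inferInstance, ZMod.card 7, e⟩))

end Cfsg.Agent.S3280
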