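import Cfsg.Statements.S3283
import Cfsg.Agent.Lib.LargeNine45.Final

set_option autoImplicit false
open Cfsg

namespace Cfsg.Agent.S3283

open Lib.LargeExtra Lib.LargeNine45

/-- Let G be a finite group with an involution z whose centralizer M has Q = O₂(M) extraspecial of order 2⁹ with C_M(Q) ≤ Q, and M/Q isomorphic to S₃ × A₆ or to S₃ × S₆. Then G is not simple. -/
theorem result {G : Type*} [Group G] [Finite G] (z : G) (hz : orderOf z = 2)
    (hQ : Cfsg.IsExtraspecial 2 ↥(Cfsg.pCore 2 ↥(Subgroup.centralizer ({z} : Set G)))) (hQ9 : Nat.card ↥(Cfsg.pCore 2 ↥(Subgroup.centralizer ({z} : Set G))) = 2 ^ 9)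
    (hCQ : Subgroup.centralizer ((Cfsg.pCore 2 ↥(Subgroup.centralizer ({z} : Set G))) : Set ↥(Subgroup.centralizer ({z} : Set G))) ≤ Cfsg.pCore 2 ↥(Subgroup.centralizer ({z} : Set G)))
    (hMQ : Nonempty (↥(Subgroup.centralizer ({z} : Set G)) ⧸ Cfsg.pCore 2 ↥(Subgroup.centralizer ({z} : Set G)) ≃* (Equiv.Perm (Fin 3) × ↥(alternatingGroup (Fin 6)))) ∨
      Nonempty (↥(Subgroup.centralizer ({z} : Set G)) ⧸ Cfsg.pCore 2 ↥(Subgroup.centralizer ({z} : Set G)) ≃* (Equiv.Perm (Fin 3) × Equiv.Perm (Fin 6)))) :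
    ¬ IsSimpleGroup G := by
  let O := Cfsg.pCore 2 ↥(Subgroup.centralizer ({z} : Set G))
  haveI : O.Normal :=
    @Subgroup.normal_of_characteristic _ _ _ (Cfsg.Agent.Lib.PSolvable.pCore_characteristic)
  obtain ⟨ι, hι, hA, hS⟩ : ∃ ι : (↥(Subgroup.centralizer ({z} : Set G)) ⧸ O) →*
      Equiv.Perm (Fin 3) × Equiv.Perm (Fin 6), Function.Injective ι ∧
      (∀ q, Equiv.Perm.sign q = 1 → ∃ h, ι h = (1, q)) ∧ ∀ s, ∃ h, ι h = (s, 1) := by
    rcases hMQ with h | h
    · have e := h.some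
      refine ⟨((MonoidHom.id _).prodMap (alternatingGroup (Fin 6)).subtype).comp e.toMonoidHom,
        ?_, ?_, ?_⟩
      · intro a b h
        refine e.injective (Prod.ext ?_ (Subtype.ext ?_))
        exacts [congrArg (Prod.fst : Equiv.Perm (Fin 3) × Equiv.Perm (Fin 6) → _) h,
          congrArg (Prod.snd : Equiv.Perm (Fin 3) × Equiv.Perm (Fin 6) → _) h]
      · intro q hq
        exact ⟨e.symm (1, ⟨q, Equiv.Perm.mem_alternatingGroup.2 hq⟩), by simp⟩
      · intro s
        exact ⟨e.symm (s, 1), by simp⟩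
    · have e := h.some
      exact ⟨e.toMonoidHom, e.injective, fun q _ => ⟨e.symm (1, q), by simp⟩,
        fun s => ⟨e.symm (s, 1), by simp⟩⟩
  let Q : G → Subgroup G := fun x => (Cfsg.pCore 2 ↥(Subgroup.centralizer ({x} : Set G))).map
    (Subgroup.centralizer ({x} : Set G)).subtype
  have hcore : IsCoreMap Q := fun x => rfl
  obtain ⟨hE, hC⟩ : Cfsg.IsExtraspecial 2 ↥(Q z) ∧
      Subgroup.centralizer ((Q z : Subgroup G) : Set G) ≤ Q z :=
    extra_self_of_core z hQ hCQ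
  refine Glob.not_simple (Q := Q) (z := z) (φ := ι.comp (QuotientGroup.mk' O))
    ⟨hcore, hz, hE, hC, ?_, ?_, ?_, fun p _ => ?_⟩ ?_
  · show Nat.card ↥(O.map (Subgroup.centralizer ({z} : Set G)).subtype) = 512
    rw [Subgroup.card_map_of_injective (Subgroup.subtype_injective _), hQ9]
    norm_num
  · show (ι.comp (QuotientGroup.mk' O)).ker =
      (O.map (Subgroup.centralizer ({z} : Set G)).subtype).subgroupOf _
    rw [Subgroup.subgroupOf, Subgroup.comap_map_eq_self_of_injective (Subgroup.subtype_injective _),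
      ← MonoidHom.comap_ker, (MonoidHom.ker_eq_bot_iff _).2 hι, MonoidHom.comap_bot, QuotientGroup.ker_mk']
  · intro q hq
    obtain ⟨h, hh⟩ := hA q hq
    obtain ⟨m, rfl⟩ := QuotientGroup.mk'_surjective O h
    exact ⟨m, hh⟩
  · obtain ⟨h, hh⟩ := hS p
    obtain ⟨m, rfl⟩ := QuotientGroup.mk'_surjective O h
    exact ⟨m, hh⟩
  · intro s
    obtain ⟨h, hh⟩ := hS s
    obtain ⟨m, rfl⟩ := QuotientGroup.mk'_surjective O h
    exact ⟨m, hh⟩

end Cfsg.Agent.S3283
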