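import Cfsg.Statements.S3284
import Cfsg.Agent.Lib.LargeNine45.Even.Main
import Cfsg.Agent.Lib.Components.GenFitting

set_option autoImplicit false
open Cfsg

namespace Cfsg.Agent.S3284

open Lib.LargeExtra Lib.LargeNine45

/-- There is no non-abelian finite simple group with an involution z whose centralizer M has generalized Fitting subgroup Q = F*(M) extraspecial of order 2⁹ and M/Q isomorphic to the subgroup of S₃ × S₆ consisting of the pairs of permutations with equal sign (a group (3 × A₆)·2 in which an involution outside 3 × A₆ induces S₃ on the first factor and S₆ on the second). -/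
theorem result {G : Type*} [Group G] [Finite G] [IsSimpleGroup G] (hG : ¬ IsMulCommutative G) (z : G) (hz : orderOf z = 2)
    [hn : (Cfsg.generalizedFittingSubgroup ↥(Subgroup.centralizer ({z} : Set G))).Normal]
    (hQ : Cfsg.IsExtraspecial 2 ↥(Cfsg.generalizedFittingSubgroup ↥(Subgroup.centralizer ({z} : Set G)))) (hQ9 : Nat.card ↥(Cfsg.generalizedFittingSubgroup ↥(Subgroup.centralizer ({z} : Set G))) = 2 ^ 9)
    (e : (↥(Subgroup.centralizer ({z} : Set G)) ⧸ Cfsg.generalizedFittingSubgroup ↥(Subgroup.centralizer ({z} : Set G))) ≃*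
      ↥(MonoidHom.ker (Equiv.Perm.sign.comp (MonoidHom.fst (Equiv.Perm (Fin 3)) (Equiv.Perm (Fin 6))) *
          Equiv.Perm.sign.comp (MonoidHom.snd (Equiv.Perm (Fin 3)) (Equiv.Perm (Fin 6)))))) :
    False := by
  haveI : Fact (Nat.Prime 2) := ⟨Nat.prime_two⟩
  have hQC : Cfsg.generalizedFittingSubgroup ↥(Subgroup.centralizer ({z} : Set G)) =
      Cfsg.pCore 2 ↥(Subgroup.centralizer ({z} : Set G)) :=
    le_antisymm (Lib.PSolvable.le_pCore hQ.1.1)
      ((Lib.Components.pCore_le_fittingSubgroup 2).trans le_sup_right)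
  have hCQ := Lib.Components.centralizer_generalizedFittingSubgroup_le
    (G := ↥(Subgroup.centralizer ({z} : Set G)))
  rw [hQC] at hQ hQ9 hCQ
  let Q : G → Subgroup G := fun x => (Cfsg.pCore 2 ↥(Subgroup.centralizer ({x} : Set G))).map
    (Subgroup.centralizer ({x} : Set G)).subtype
  obtain ⟨hE, hC⟩ : Cfsg.IsExtraspecial 2 ↥(Q z) ∧
      Subgroup.centralizer ((Q z : Subgroup G) : Set G) ≤ Q z :=
    extra_self_of_core z hQ hCQ
  let O := Cfsg.generalizedFittingSubgroup ↥(Subgroup.centralizer ({z} : Set G))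
  let P := MonoidHom.ker (Equiv.Perm.sign.comp (MonoidHom.fst (Equiv.Perm (Fin 3)) (Equiv.Perm (Fin 6))) *
    Equiv.Perm.sign.comp (MonoidHom.snd (Equiv.Perm (Fin 3)) (Equiv.Perm (Fin 6))))
  let φ : ↥(Subgroup.centralizer ({z} : Set G)) →* Equiv.Perm (Fin 3) × Equiv.Perm (Fin 6) :=
    P.subtype.comp (e.toMonoidHom.comp (QuotientGroup.mk' O))
  have hP : ∀ r, r ∈ P ↔ Equiv.Perm.sign r.1 = Equiv.Perm.sign r.2 := fun r => by
    show Equiv.Perm.sign r.1 * Equiv.Perm.sign r.2 = 1 ↔ _
    rw [mul_eq_one_iff_eq_inv, Int.units_inv_eq_self]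
  have hsurj : ∀ r, Equiv.Perm.sign r.1 = Equiv.Perm.sign r.2 → ∃ h, φ h = r := fun r hr => by
    obtain ⟨m, hm⟩ := QuotientGroup.mk'_surjective O (e.symm ⟨r, (hP r).2 hr⟩)
    refine ⟨m, ?_⟩
    show (e (QuotientGroup.mk' O m)).1 = r
    rw [hm, MulEquiv.apply_symm_apply]
  refine Lib.LargeNine45.Even.false_of_even (Q := Q) (z := z) (φ := φ)
    ⟨fun x => rfl, hz, hE, hC, ?_, ?_, fun q hq => hsurj _ (by rw [map_one, hq]),
      fun p hp => hsurj _ (by rw [map_one, sign_three_cycle p hp])⟩
    (fun h => (hP _).1 (e (QuotientGroup.mk' O h)).2) hsurj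
  · show Nat.card ↥((Cfsg.pCore 2 _).map (Subgroup.centralizer ({z} : Set G)).subtype) = 512
    rw [Subgroup.card_map_of_injective (Subgroup.subtype_injective _), hQ9]
    norm_num
  · show φ.ker = ((Cfsg.pCore 2 _).map (Subgroup.centralizer ({z} : Set G)).subtype).subgroupOf _
    have hinj : Function.Injective (P.subtype.comp e.toMonoidHom) :=
      P.subtype_injective.comp e.injective
    rw [Subgroup.subgroupOf, Subgroup.comap_map_eq_self_of_injective (Subgroup.subtype_injective _),
      ← hQC, show φ = (P.subtype.comp e.toMonoidHom).comp (QuotientGroup.mk' O) from rfl,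
      ← MonoidHom.comap_ker, (MonoidHom.ker_eq_bot_iff _).2 hinj, MonoidHom.comap_bot,
      QuotientGroup.ker_mk']

end Cfsg.Agent.S3284
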