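import Mathlib
import Cfsg.Agent.Lib.LargeExtra.FixedCoset
import Cfsg.Agent.Lib.TransferOrbit.Basic
import Cfsg.Agent.Lib.Transfer.PResidual
import Cfsg.Statements.S3299

set_option autoImplicit false
open Cfsg

namespace Cfsg.Agent.S3299

open Lib.LargeExtra

/-- A hyperplane of the extraspecial group not containing it has an involution outside it. -/
theorem exists_involution_not_mem {G : Type*} [Group G] [Finite G] {X : Subgroup G} {z : G}
    (h : Good X z) (hcard : 16 < Nat.card X) {y p : G} (hy : y ∈ X) (hp : p ∈ X)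
    (hpy : p * y * p⁻¹ = y * z) :
    ∃ e ∈ X, e * e = 1 ∧ p * e * p⁻¹ = e * z := by
  classical
  haveI := Fintype.ofFinite G
  rcases h.sq_cases hy with hy2 | hy2
  · exact ⟨y, hy, hy2, hpy⟩
  by_cases hD : ∃ d ∈ X, d * y = y * d ∧ d * p = p * d ∧ d * d = z
  · obtain ⟨d, hd, hdy, hdp, hdd⟩ := hD
    refine ⟨d * y, mul_mem hd hy, ?_, ?_⟩
    · calc d * y * (d * y) = d * (y * d) * y := by group
        _ = d * (d * y) * y := by rw [hdy]
        _ = (d * d) * (y * y) := by group
        _ = 1 := by rw [hdd, hy2, h.x_sq]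
    · calc p * (d * y) * p⁻¹ = (p * d) * p⁻¹ * (p * y * p⁻¹) := by group
        _ = (d * p) * p⁻¹ * (y * z) := by rw [hdp, hpy]
        _ = d * y * z := by group
  exfalso
  have hyz : y ∉ Subgroup.zpowers z := by
    intro hh
    have : p * y * p⁻¹ = y := by
      obtain ⟨i, rfl⟩ := Subgroup.mem_zpowers_iff.1 hh
      exact conj_eq_iff_comm.2 ((show Commute p z from h.le_cent p hp).zpow_right i)
    rw [this] at hpy
    exact h.x_ne (by simpa using hpy.symm)
  let S1 := extend h (Subgroup.zpowers z) (Subgroup.zpowers_le.2 h.x_mem)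
    (Subgroup.mem_zpowers z) y hy
  have hzS1 : z ∈ S1 := Or.inl (Subgroup.mem_zpowers z)
  let S2 := extend h S1 (extend_le _ _ _ _ _ _) hzS1 p hp
  have hS2z : z ∈ S2 := Or.inl (Or.inl (Subgroup.mem_zpowers z))
  have hS2y : y ∈ S2 := Or.inl (self_mem_extend _ _ _ _ _ _)
  have hS2p : p ∈ S2 := self_mem_extend _ _ _ _ _ _
  have hS2card : Nat.card S2 ≤ 8 := by
    have h1 : Nat.card S1 = 4 := by
      rw [card_extend h _ _ _ _ _ hyz, Nat.card_zpowers,
        orderOf_eq_prime (p := 2) (by rw [pow_two, h.x_sq]) h.x_ne]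
    have hpS1 : p ∉ S1 := by
      intro hh
      have hc : Commute p y := by
        rcases eq_or_of_mem_extend_zpowers h hy hh with e1 | e1 | e1 | e1
        · rw [e1]; exact Commute.one_left _
        · rw [e1]; exact (h.le_cent y hy).symm
        · rw [e1]
        · rw [e1]; exact (Commute.refl y).mul_left (h.le_cent y hy).symm
      have h2 := conj_eq_iff_comm.2 hc.eq
      rw [hpy] at h2
      exact h.x_ne (by simpa using h2)
    exact le_of_eq ((card_extend h S1 _ hzS1 p hp hpS1).trans (by rw [h1]))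
  -- the centraliser of `S2` is abelian
  let D : Subgroup G := X ⊓ Subgroup.centralizer (S2 : Set G)
  have hDmem : ∀ d, d ∈ D ↔ d ∈ centIn X S2 := fun d => by
    simp only [D, Subgroup.mem_inf, Subgroup.mem_centralizer_iff, centIn, Set.mem_setOf_eq,
      SetLike.mem_coe]
    exact ⟨fun hh => ⟨hh.1, fun a ha => (hh.2 a ha).symm⟩, fun hh => ⟨hh.1, fun a ha => (hh.2 a ha).symm⟩⟩
  have hDsq : ∀ d ∈ D, d * d = 1 := fun d hd => by
    have hd' := (hDmem d).1 hd
    exact (h.sq_cases hd'.1).resolve_right fun e1 =>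
      hD ⟨d, hd'.1, hd'.2 y hS2y, hd'.2 p hS2p, e1⟩
  have hzD : z ∈ D := (hDmem z).2 ⟨h.x_mem, fun a ha =>
    (h.le_cent a (extend_le _ _ _ _ _ _ ha)).symm⟩
  have hDc : ∀ a ∈ D, ∀ b ∈ D, a * b = b * a := fun a ha b hb => by
    have h1 := hDsq (a * b) (mul_mem ha hb)
    have h2 := hDsq a ha
    have h3 := hDsq b hb
    calc a * b = a * b * (a * b) * (b * a) := by
          calc a * b = a * b * (a * (b * b) * a) := by rw [h3, mul_one, h2, mul_one]
            _ = _ := by group
      _ = b * a := by rw [h1, one_mul]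
  have hyD : y ∉ D := fun hh => hD ⟨y, hy, rfl, ((hDmem y).1 hh).2 p hS2p, hy2⟩
  have hbound : 2 * Nat.card D ≤ (centIn X D).ncard := by
    have hsub : (D : Set G) ∪ (y * ·) '' (D : Set G) ⊆ centIn X D := by
      rintro g (hg | ⟨d, hd, rfl⟩)
      · exact ⟨hg.1, fun a ha => hDc g hg a ha⟩
      · refine ⟨mul_mem hy hd.1, fun a ha => ?_⟩
        exact ((show Commute a y from ((hDmem a).1 ha).2 y hS2y).symm.mul_left (hDc d hd a ha)).eq
    have hdis : Disjoint (D : Set G) ((y * ·) '' (D : Set G)) := by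
      rw [Set.disjoint_left]
      rintro g hg ⟨d, hd, rfl⟩
      exact hyD (by simpa using mul_mem hg (inv_mem hd))
    refine le_trans ?_ (Set.ncard_le_ncard hsub)
    rw [Set.ncard_union_eq hdis, Set.ncard_image_of_injective _ (mul_right_injective y),
      ← Nat.card_coe_set_eq]
    exact le_of_eq (two_mul _)
  have h1 := le_mul_centIn h S2 (extend_le _ _ _ _ _ _) hS2z
  have hcentD : (centIn X S2).ncard = Nat.card D := by
    rw [← Nat.card_coe_set_eq]
    exact Nat.card_congr (Equiv.subtypeEquivRight fun d => (hDmem d).symm)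
  rw [hcentD] at h1
  have h2 := mul_centIn_le h D inf_le_left hzD
  have h3 : Nat.card S2 * Nat.card D ≤ 8 * Nat.card D := Nat.mul_le_mul_right _ hS2card
  have h4 : Nat.card D * (2 * Nat.card D) ≤ Nat.card D * (centIn X D).ncard :=
    Nat.mul_le_mul_left _ hbound
  nlinarith

/-- Let G be a finite group with no nontrivial 2-group quotient (O^2(G) = G), z an involution of G with H = C_G(z), and suppose E = O_2(H) is extraspecial with C_G(E) ≤ E and of order 2^(2n+1) with n ≥ 2. Then E is contained in every normal subgroup of H of index 2. -/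
theorem result {G : Type*} [Group G] [Finite G] (hres : Cfsg.pResidual 2 G = ⊤) (z : G) (hz : orderOf z = 2)
    (E : Subgroup G) (hE : E = (Cfsg.pCore 2 ↥(Subgroup.centralizer ({z} : Set G))).map (Subgroup.centralizer ({z} : Set G)).subtype)
    (hext : Cfsg.IsExtraspecial 2 ↥E) (hcent : Subgroup.centralizer (E : Set G) ≤ E) (n : ℕ) (hn : 2 ≤ n) (hcard : Nat.card ↥E = 2 ^ (2 * n + 1))
    (K : Subgroup G) (hKH : K ≤ Subgroup.centralizer ({z} : Set G))
    (hKn : ∀ h ∈ Subgroup.centralizer ({z} : Set G), K.map (MulAut.conj h).toMonoidHom = K)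
    (hKi : K.relIndex (Subgroup.centralizer ({z} : Set G)) = 2) : E ≤ K := by
  classical
  set H := Subgroup.centralizer ({z} : Set G) with hH
  let Q : G → Subgroup G := fun x => (Cfsg.pCore 2 ↥(Subgroup.centralizer ({x} : Set G))).map
    (Subgroup.centralizer ({x} : Set G)).subtype
  have hQ : IsCoreMap Q := fun x => rfl
  subst hE
  have hgood : ∀ g : G, Good (Q (g * z * g⁻¹)) (g * z * g⁻¹) := fun g =>
    hQ.good_conj hz hext hcent g
  have hX : Good (Q z) z := by
    have := hgood 1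
    simpa using this
  have hX8 : 8 < Nat.card (Q z) := by
    show 8 < Nat.card ↥((Cfsg.pCore 2 ↥H).map H.subtype)
    rw [hcard]
    have : 2 ^ 5 ≤ 2 ^ (2 * n + 1) := Nat.pow_le_pow_right (by norm_num) (by omega)
    omega
  have hX16 : 16 < Nat.card (Q z) := by
    show 16 < Nat.card ↥((Cfsg.pCore 2 ↥H).map H.subtype)
    rw [hcard]
    have : 2 ^ 5 ≤ 2 ^ (2 * n + 1) := Nat.pow_le_pow_right (by norm_num) (by omega)
    omega
  have hzH : ∀ a, a ∈ H ↔ a * z = z * a := fun a => Subgroup.mem_centralizer_singleton_iff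
  have hXH : Q z ≤ H := fun a ha => (hzH a).2 (hX.le_cent a ha)
  have hmul : ∀ a ∈ H, ∀ b ∈ H, (a * b ∈ K ↔ (a ∈ K ↔ b ∈ K)) := fun a ha b hb =>
    Subgroup.mul_mem_iff_of_index_two (H := K.subgroupOf H) hKi (a := ⟨a, ha⟩) (b := ⟨b, hb⟩)
  have hKconj : ∀ h ∈ H, ∀ a, a ∈ K → h * a * h⁻¹ ∈ K := fun h hh a ha => by
    rw [← hKn h hh]; exact ⟨a, ha, rfl⟩
  by_contra hEK
  obtain ⟨y, hy, hyK⟩ := Set.not_subset.1 hEK
  set W := Q z ⊓ K with hW
  have hzK : z ∈ K := by
    obtain ⟨a, ha, b, hb, hab⟩ := hX.nonab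
    have e1 : a * b * a⁻¹ = b * z :=
      (hX.comm a ha b hb).resolve_left fun e2 => hab (conj_eq_iff_comm.1 e2)
    have h2 : z = b⁻¹ * (a * b * a⁻¹) := by rw [e1]; group
    rw [h2, hmul _ (hXH (inv_mem hb)) _ (hXH (mul_mem (mul_mem ha hb) (inv_mem ha))), inv_mem_iff]
    constructor
    · exact hKconj a (hXH ha) b
    · intro hh
      have := hKconj a⁻¹ (hXH (inv_mem ha)) _ hh
      simpa [mul_assoc] using this
  obtain ⟨p, hp, hpW, hpy⟩ := exists_separating hX W inf_le_left ⟨hX.x_mem, hzK⟩ hy fun hh => hyK hh.2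
  obtain ⟨e, he, hee, hpe⟩ := exists_involution_not_mem hX hX16 hy hp hpy
  have hdecomp : ∀ q ∈ Q z, q ∈ W ∨ y⁻¹ * q ∈ W := by
    intro q hq
    by_cases hqK : q ∈ K
    · exact Or.inl ⟨hq, hqK⟩
    · refine Or.inr (Subgroup.mem_inf.2 ⟨mul_mem (inv_mem hy) hq, ?_⟩)
      rw [hmul _ (hXH (inv_mem hy)) _ (hXH hq), inv_mem_iff]
      exact iff_of_false hyK hqK
  have hfix : ∀ h, h * z = z * h → h * p * h⁻¹ = p ∨ h * p * h⁻¹ = p * z := by
    intro h hh
    have hhH : h ∈ H := (hzH h).2 hh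
    set p' := h * p * h⁻¹ with hp'
    have hp'X : p' ∈ Q z := hX.norm h hh p hp
    have hp'W : ∀ a ∈ W, p' * a = a * p' := by
      intro a ha
      have hh' : h⁻¹ * z = z * h⁻¹ := Commute.inv_left (hh : Commute h z)
      have h1 : h⁻¹ * a * h⁻¹⁻¹ ∈ W :=
        ⟨hX.norm h⁻¹ hh' a ha.1, hKconj h⁻¹ (H.inv_mem hhH) a ha.2⟩
      have h2 := hpW _ h1
      calc p' * a = h * (p * (h⁻¹ * a * h⁻¹⁻¹)) * h⁻¹ := by rw [hp']; group
        _ = a * p' := by rw [h2, hp']; group
    have hp'y : p' * y * p'⁻¹ = y * z := by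
      refine (hX.comm p' hp'X y hy).resolve_left fun e1 => ?_
      have hcen : ∀ b ∈ Q z, p' * b = b * p' := by
        intro b hb
        rcases hdecomp b hb with hbW | hbW
        · exact hp'W b hbW
        · have h2 : Commute p' (y * (y⁻¹ * b)) :=
            (show Commute p' y from conj_eq_iff_comm.1 e1).mul_right (hp'W _ hbW)
          rwa [mul_inv_cancel_left] at h2
      have hpz : p = 1 ∨ p = z := by
        rcases hX.centre p' hp'X hcen with e2 | e2
        · left
          calc p = h⁻¹ * p' * h := by rw [hp']; group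
            _ = 1 := by rw [e2]; group
        · right
          calc p = h⁻¹ * p' * h := by rw [hp']; group
            _ = h⁻¹ * (h * z) := by rw [e2, mul_assoc, ← hh]
            _ = z := by group
      rcases hpz with e2 | e2
      · rw [e2, one_mul, inv_one, mul_one] at hpy
        exact hX.x_ne (by simpa using hpy.symm)
      · rw [e2, ← hX.le_cent y hy, mul_inv_cancel_right] at hpy
        exact hX.x_ne (by simpa using hpy.symm)
    have hcen : ∀ b ∈ Q z, (p⁻¹ * p') * b = b * (p⁻¹ * p') := by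
      intro b hb
      rcases hdecomp b hb with hbW | hbW
      · exact ((Commute.inv_left (hpW b hbW : Commute p b)).mul_left (hp'W b hbW)).eq
      · have h1 : Commute (p⁻¹ * p') y := by
          show (p⁻¹ * p') * y = y * (p⁻¹ * p')
          rw [← conj_eq_iff_comm]
          calc p⁻¹ * p' * y * (p⁻¹ * p')⁻¹ = p⁻¹ * (p' * y * p'⁻¹) * p := by group
            _ = p⁻¹ * (p * y * p⁻¹) * p := by rw [hp'y, hpy]
            _ = y := by group
        have h2 := h1.mul_right
          ((Commute.inv_left (hpW _ hbW : Commute p (y⁻¹ * b))).mul_left (hp'W _ hbW))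
        rwa [mul_inv_cancel_left] at h2
    rcases hX.centre _ (mul_mem (inv_mem hp) hp'X) hcen with e2 | e2
    · exact Or.inl (inv_mul_eq_one.1 e2).symm
    · exact Or.inr (by rw [← e2, mul_inv_cancel_left])
  have hzne := hX.x_ne
  have heK : e ∉ K := fun hh => by
    have h1 := conj_eq_iff_comm.2 (hpW e ⟨he, hh⟩)
    rw [hpe] at h1
    exact hzne (by simpa using h1)
  have he1 : e ≠ 1 := fun hh => heK (hh ▸ K.one_mem)
  have hnotconj : ∀ g : G, g * z * g⁻¹ ≠ e ∧ g * z * g⁻¹ ≠ e * z := by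
    intro g
    refine ⟨fun hh => ?_, fun hh => ?_⟩
    · exact hQ.not_isConj_of_fixed_coset hX (hh ▸ hgood g) hX8 he hp hpe hfix ⟨g, hh⟩
    · have hh' : p⁻¹ * g * z * (p⁻¹ * g)⁻¹ = e := by
        calc p⁻¹ * g * z * (p⁻¹ * g)⁻¹ = p⁻¹ * (g * z * g⁻¹) * p := by group
          _ = p⁻¹ * (p * e * p⁻¹) * p := by rw [hh, hpe]
          _ = e := by group
      exact hQ.not_isConj_of_fixed_coset hX (hh' ▸ hgood (p⁻¹ * g)) hX8 he hp hpe hfix ⟨_, hh'⟩
  -- the character of `H` with kernel `K`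
  have hiff : ∀ a b : H, ((a * b : H) : G) ∈ K ↔ ((a : G) ∈ K ↔ (b : G) ∈ K) := fun a b =>
    hmul a a.2 b b.2
  let φ : H →* ℤˣ := MonoidHom.mk' (fun a => if (a : G) ∈ K then 1 else -1) fun a b => by
    by_cases ha : (a : G) ∈ K <;> by_cases hb : (b : G) ∈ K <;>
      simp only [ha, hb, hiff a b, if_true, if_false] <;> simp
  have heH : e ∈ H := hXH he
  have hφe : φ ⟨e, heH⟩ = -1 := if_neg heK
  have hV : MonoidHom.transfer φ e = 1 := by
    have hp2 : IsPGroup 2 ℤˣ := fun a => ⟨1, by rw [pow_one]; exact Int.units_sq a⟩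
    have h1 : pResidual 2 G ≤ (MonoidHom.transfer φ).ker :=
      Lib.Transfer.pResidual_le_ker hp2 _
    rw [hres] at h1
    exact MonoidHom.mem_ker.1 (h1 (Subgroup.mem_top e))
  -- evaluate over the orbits of `P = C_X(e)`
  set P := Q z ⊓ Subgroup.centralizer ({e} : Set G) with hP
  have heP : e ∈ P := ⟨he, Subgroup.mem_centralizer_singleton_iff.2 rfl⟩
  haveI : Fintype (MulAction.orbitRel.Quotient P (G ⧸ H)) := Fintype.ofFinite _
  set a0 : MulAction.orbitRel.Quotient P (G ⧸ H) :=
    Quotient.mk'' ((1 : G) : G ⧸ H) with ha0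
  have hfixorbit : ∀ a : G ⧸ H, (∀ s : P, s • a = a) → a = ((1 : G) : G ⧸ H) := by
    intro a ha
    obtain ⟨g, rfl⟩ := QuotientGroup.mk_surjective a
    have hgP : ∀ s ∈ P, g⁻¹ * s * g ∈ H := fun s hs => by
      have h1 := QuotientGroup.eq.1 (ha ⟨s, hs⟩).symm
      simpa [mul_assoc] using h1
    set w := g * z * g⁻¹ with hw
    have hwP : ∀ s ∈ P, s * w = w * s := fun s hs => by
      have h1 := (hzH _).1 (hgP s hs)
      calc s * w = g * ((g⁻¹ * s * g) * z) * g⁻¹ := by rw [hw]; group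
        _ = w * s := by rw [h1, hw]; group
    have hwz : w * z = z * w :=
      (hwP z ⟨hX.x_mem, Subgroup.mem_centralizer_singleton_iff.2 (hX.le_cent e he).symm⟩).symm
    have hwe : w * e = e * w := (hwP e heP).symm
    have hwX : w ∈ Q z := by
      refine mem_of_fix_coset hX he hp hpe (hfix w hwz) fun a ha hae => Or.inl ?_
      exact conj_eq_iff_comm.2 (hwP a ⟨ha, Subgroup.mem_centralizer_singleton_iff.2 hae⟩).symm
    have h4 := mem_four_of_commute hX he hwX fun a ha hae =>
      hwP a ⟨ha, Subgroup.mem_centralizer_singleton_iff.2 hae⟩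
    rcases h4 with e1 | e1 | e1 | e1
    · exfalso
      refine hzne ?_
      calc z = g⁻¹ * w * g := by rw [hw]; group
        _ = 1 := by rw [e1]; group
    · rw [QuotientGroup.eq, mul_one, inv_mem_iff, hzH]
      exact mul_inv_eq_iff_eq_mul.1 (hw ▸ e1)
    · exact absurd e1 (hnotconj g).1
    · exact absurd e1 (hnotconj g).2
  rw [show e = ((⟨e, heP⟩ : P) : G) from rfl,
    Lib.TransferOrbit.transfer_eq_prod_orbits φ P ⟨e, heP⟩,
    Finset.prod_eq_single a0 ?_ (fun hh => absurd (Finset.mem_univ a0) hh)] at hV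
  · -- the trivial coset
    have hout : a0.out = ((1 : G) : G ⧸ H) := by
      obtain ⟨s, hs⟩ : a0.out ∈ MulAction.orbit P ((1 : G) : G ⧸ H) :=
        Quotient.exact' (Quotient.out_eq' a0)
      rw [← hs]
      refine QuotientGroup.eq.2 ?_
      simpa using H.inv_mem (hXH s.2.1)
    have htop : MulAction.stabilizer P a0.out = ⊤ := by
      rw [hout, eq_top_iff]
      intro s _
      refine QuotientGroup.eq.2 ?_
      simpa using H.inv_mem (hXH s.2.1)
    rw [Lib.TransferOrbit.transfer_of_eq_top _ htop] at hV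
    have hc : a0.out.out ∈ H := by
      have h1 : (a0.out.out : G ⧸ H) = ((1 : G) : G ⧸ H) := by rw [QuotientGroup.out_eq', hout]
      simpa using QuotientGroup.eq.1 h1
    rw [Lib.TransferOrbit.orbitHom_apply φ P a0.out
      ⟨⟨e, heP⟩, htop ▸ Subgroup.mem_top _⟩ (H.mul_mem (H.mul_mem (H.inv_mem hc) heH) hc),
      show (⟨a0.out.out⁻¹ * e * a0.out.out, H.mul_mem (H.mul_mem (H.inv_mem hc) heH) hc⟩ : H) =
        (⟨a0.out.out, hc⟩ : H)⁻¹ * ⟨e, heH⟩ * ⟨a0.out.out, hc⟩ from rfl,
      map_mul, map_mul, map_inv, mul_comm, mul_inv_cancel_left, hφe] at hV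
    exact absurd hV (by decide)
  · -- the other orbits
    intro a _ hne
    have hnfix : MulAction.stabilizer P a.out ≠ ⊤ := by
      intro htop
      refine hne ?_
      rw [ha0, ← hfixorbit a.out fun s => MulAction.mem_stabilizer_iff.1 (htop ▸ Subgroup.mem_top s)]
      exact (Quotient.out_eq' a).symm
    rw [MonoidHom.transfer_eq_pow _ _ fun k g₀ _ => ?_]
    · have hp2 : IsPGroup 2 ↥P :=
        (hQ.isPGroup z).to_le inf_le_left
      haveI : Fact (Nat.Prime 2) := ⟨Nat.prime_two⟩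
      obtain ⟨k, hk⟩ := hp2.index (MulAction.stabilizer P a.out)
      obtain ⟨k, rfl⟩ : ∃ j, k = j + 1 := ⟨k - 1, by
        rcases k with _ | k
        · exact absurd (Subgroup.index_eq_one.1 (by simpa using hk)) hnfix
        · omega⟩
      have he2 : (⟨e, heP⟩ : P) ^ (MulAction.stabilizer P a.out).index = 1 := by
        rw [hk, pow_succ', pow_mul]
        refine Subtype.ext ?_
        simp [pow_two, hee]
      simp_rw [he2]
      exact map_one (Lib.TransferOrbit.orbitHom φ P a.out)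
    · refine Subtype.ext ?_
      have hc : Commute (e : G) (g₀ : G) :=
        (Subgroup.mem_centralizer_singleton_iff.1 g₀.2.2).symm
      show ((g₀ : G)⁻¹ * e ^ k * g₀) = e ^ k
      rw [mul_assoc, (hc.pow_left k).eq, inv_mul_cancel_left]

end Cfsg.Agent.S3299
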