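import Mathlib
import Cfsg.Agent.Lib.LargeExtra.ResidualTransfer
import Cfsg.Agent.Lib.ExtraspecialOrder.Basic
import Cfsg.Statements.S3301

set_option autoImplicit false
open Cfsg

namespace Cfsg.Agent.S3301

open Lib.LargeExtra

/-- Characters separating an element of `2`-power order, not an involution, from the involutions. -/
theorem exists_sign_character {B : Type*} [CommGroup B] [Finite B] {q : B}
    (hq : ∃ k : ℕ, orderOf q = 2 ^ k) (hq2 : q ^ 2 ≠ 1) :
    ∃ χ : B →* ℤˣ, (∀ u, u ^ 2 = 1 → χ u = 1) ∧ ∃ b, χ b ≠ 1 := by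
  classical
  set sq : B →* B := powMonoidHom 2 with hsq
  set N := sq.ker ⊔ sq.range with hN
  have hNtop : N ≠ ⊤ := by
    intro h
    let f : sq.range → sq.range := fun r => ⟨(r : B) ^ 2, ⟨r, rfl⟩⟩
    have hsurj : Function.Surjective f := by
      rintro ⟨_, w, rfl⟩
      obtain ⟨u, hu, v, hv, rfl⟩ := Subgroup.mem_sup.1 (show w ∈ N from h ▸ Subgroup.mem_top w)
      refine ⟨⟨v, hv⟩, Subtype.ext ?_⟩
      show v ^ 2 = (u * v) ^ 2
      rw [mul_pow, show u ^ 2 = 1 from hu, one_mul]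
    have hinj : Function.Injective f := Finite.injective_iff_surjective.2 hsurj
    obtain ⟨k, hk⟩ := hq
    have key : ∀ j, ∀ r : sq.range, (r : B) ^ 2 ^ j = 1 → r = 1 := by
      intro j
      induction j with
      | zero => intro r hr; exact Subtype.ext (by simpa using hr)
      | succ j ih =>
        intro r hr
        have h1 : f r = 1 := ih (f r) (by
          show ((r : B) ^ 2) ^ 2 ^ j = 1
          rw [← pow_mul, ← pow_succ']; exact hr)
        exact hinj (h1.trans (Subtype.ext (one_pow 2).symm))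
    refine hq2 (congrArg Subtype.val (key k ⟨q ^ 2, q, rfl⟩ ?_))
    show (q ^ 2) ^ 2 ^ k = 1
    rw [← pow_mul, mul_comm, pow_mul, ← hk, pow_orderOf_eq_one, one_pow]
  haveI : HasEnoughRootsOfUnity ℤ 2 :=
    { prim := ⟨-1, IsPrimitiveRoot.neg_one 0 (by norm_num)⟩
      cyc := rootsOfUnity.isCyclic ℤ 2 }
  have hexp : Monoid.exponent (B ⧸ N) ∣ 2 :=
    Monoid.exponent_dvd_of_forall_pow_eq_one fun e => by
      obtain ⟨e, rfl⟩ := QuotientGroup.mk'_surjective N e
      rw [← map_pow]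
      exact (QuotientGroup.eq_one_iff _).2 (Subgroup.mem_sup_right ⟨e, rfl⟩)
  haveI := (inferInstance : HasEnoughRootsOfUnity ℤ 2).of_dvd ℤ hexp
  obtain ⟨b, hb⟩ : ∃ b, b ∉ N := by
    by_contra hcon
    exact hNtop (eq_top_iff.2 fun b _ => by rw [not_exists] at hcon; exact not_not.1 (hcon b))
  obtain ⟨φ, hφ⟩ := CommGroup.exists_apply_ne_one_of_hasEnoughRootsOfUnity (B ⧸ N) ℤ
    (show QuotientGroup.mk' N b ≠ 1 from fun h => hb ((QuotientGroup.eq_one_iff b).1 h))
  refine ⟨φ.comp (QuotientGroup.mk' N), fun u hu => ?_, b, hφ⟩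
  rw [MonoidHom.comp_apply, show QuotientGroup.mk' N u = 1 from
    (QuotientGroup.eq_one_iff u).2 (Subgroup.mem_sup_left hu), map_one]

/-- The case `|O₂(C(z))| = 8`: a `2`-element squares into the derived subgroup. -/
theorem sq_mem_commutator_of_eight {G : Type*} [Group G] [Finite G] {X : Subgroup G} {z : G}
    (hX : Good X z) (hXp : IsPGroup 2 X) (h8 : Nat.card X = 8) {t : G} (htz : t * z = z * t)
    (ht : IsPGroup 2 ↥(Subgroup.zpowers t)) :
    t * t ∈ X ∧ ∃ a ∈ Subgroup.centralizer ({z} : Set G), ∃ b ∈ Subgroup.centralizer ({z} : Set G),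
      ∃ a' ∈ Subgroup.centralizer ({z} : Set G), ∃ b' ∈ Subgroup.centralizer ({z} : Set G),
        t * t = (a * b * a⁻¹ * b⁻¹) * (a' * b' * a'⁻¹ * b'⁻¹) := by
  classical
  haveI : Fact (Nat.Prime 2) := ⟨Nat.prime_two⟩
  haveI := Fintype.ofFinite G
  have hXC : ∀ x ∈ X, x ∈ Subgroup.centralizer ({z} : Set G) := fun x hx =>
    Subgroup.mem_centralizer_singleton_iff.2 (hX.le_cent x hx)
  have htC : t ∈ Subgroup.centralizer ({z} : Set G) := Subgroup.mem_centralizer_singleton_iff.2 htz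
  obtain ⟨a, ha, b, hb, hab⟩ := hX.nonab
  have habz : a * b * a⁻¹ * b⁻¹ = z := by
    rw [(hX.comm a ha b hb).resolve_left fun e => hab (conj_eq_iff_comm.1 e), hX.le_cent b hb,
      mul_inv_cancel_right]
  have hone : ∀ c : G, c * c * c⁻¹ * c⁻¹ = 1 := fun c => by group
  have hz2 : ∀ u, u = 1 ∨ u = z → ∃ p ∈ Subgroup.centralizer ({z} : Set G),
      ∃ r ∈ Subgroup.centralizer ({z} : Set G), u = p * r * p⁻¹ * r⁻¹ := by
    rintro u (rfl | rfl)
    · exact ⟨a, hXC a ha, a, hXC a ha, (hone a).symm⟩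
    · exact ⟨a, hXC a ha, b, hXC b hb, habz.symm⟩
  by_cases htX : t ∈ X
  · refine ⟨mul_mem htX htX, ?_⟩
    obtain ⟨p, hp, r, hr, hpr⟩ := hz2 _ (hX.sq_cases htX)
    exact ⟨p, hp, r, hr, a, hXC a ha, a, hXC a ha, by rw [hone, mul_one, hpr]⟩
  -- `P = X⟨t⟩` and a fixed coset `w`
  have hnorm : Subgroup.zpowers t ≤ Subgroup.normalizer (X : Set G) := Subgroup.zpowers_le.2 (by
    rw [Subgroup.mem_normalizer_iff]
    refine fun q => ⟨fun hq => hX.norm _ htz q hq, fun hq => ?_⟩
    have := hX.norm _ (Commute.inv_left (htz : Commute t z)) _ hq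
    simpa [mul_assoc] using this)
  set P := Subgroup.zpowers t ⊔ X with hP
  have hPp : IsPGroup 2 P := ht.to_sup_of_normal_right' hXp hnorm
  have hXP : X ≤ P := le_sup_right
  have hPz : ∀ p ∈ P, p * z = z * p := by
    have : P ≤ Subgroup.centralizer ({z} : Set G) := sup_le (Subgroup.zpowers_le.2 htC) hXC
    exact fun p hp => Subgroup.mem_centralizer_singleton_iff.1 (this hp)
  have htP : t ∈ P := le_sup_left (α := Subgroup G) (Subgroup.mem_zpowers t)
  set z' : P := ⟨z, hXP hX.x_mem⟩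
  set t' : P := ⟨t, htP⟩
  have hE : SmallDerived (X.subgroupOf P) z' := by
    refine ⟨⟨fun c hc p => ?_⟩, hX.x_mem, Subtype.ext hX.x_sq, fun p => Subtype.ext (hPz p p.2),
      fun c hc => ?_, fun c hc d hd => ?_⟩
    · rw [Subgroup.mem_subgroupOf] at hc ⊢
      exact hX.norm _ (hPz p p.2) _ hc
    · rcases hX.sq_cases (a := (c : G)) hc with e | e
      · exact Or.inl (Subtype.ext e)
      · exact Or.inr (Subtype.ext e)
    · rcases hX.comm (c : G) hc (d : G) hd with e | e
      · exact Or.inl (Subtype.ext e)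
      · exact Or.inr (Subtype.ext e)
  set S : Subgroup P := Subgroup.zpowers t' ⊔ Subgroup.zpowers z' with hS
  have hScomm : ∀ s ∈ S, ∀ u ∈ S, (s : P) * u = u * s := by
    have hgen : S ≤ Subgroup.centralizer (({t', z'} : Set P)) := by
      refine sup_le (Subgroup.zpowers_le.2 ?_) (Subgroup.zpowers_le.2 ?_) <;>
        refine Subgroup.mem_centralizer_iff.2 ?_ <;> rintro m (rfl | rfl)
      · rfl
      · exact (hE.central t').symm
      · exact hE.central t'
      · rfl
    intro s hs u hu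
    have h1 : Subgroup.closure ({t', z'} : Set P) ≤ Subgroup.centralizer (S : Set P) :=
      (Subgroup.closure_le _).2 fun m hm => Subgroup.mem_centralizer_iff.2 fun v hv =>
        (Subgroup.mem_centralizer_iff.1 (hgen hv) m hm).symm
    have h2 : S ≤ Subgroup.closure ({t', z'} : Set P) :=
      sup_le (Subgroup.zpowers_le.2 (Subgroup.subset_closure (Or.inl rfl)))
        (Subgroup.zpowers_le.2 (Subgroup.subset_closure (Or.inr rfl)))
    exact Subgroup.mem_centralizer_iff.1 (h1 (h2 hu)) s hs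
  have hzS : z' ∈ S := Subgroup.mem_sup_right (Subgroup.mem_zpowers _)
  have htS : t' ∈ S := Subgroup.mem_sup_left (Subgroup.mem_zpowers _)
  obtain ⟨w, hwX, hw1, hwz, hwt⟩ : ∃ w ∈ X, w ≠ 1 ∧ w ≠ z ∧
      (t * w * t⁻¹ = w ∨ t * w * t⁻¹ = w * z) := by
    by_cases hex : ∃ s ∈ S, (s : G) ∈ X ∧ (s : G) ≠ 1 ∧ (s : G) ≠ z
    · obtain ⟨s, hs, h1, h2, h3⟩ := hex
      exact ⟨s, h1, h2, h3, Or.inl (conj_eq_iff_comm.2 (congrArg Subtype.val (hScomm t' htS s hs)))⟩
    · push Not at hex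
      have hXS : ¬ X.subgroupOf P ≤ S := fun hle => hab (congrArg Subtype.val
        (hScomm ⟨a, hXP ha⟩ (hle ha) ⟨b, hXP hb⟩ (hle hb)))
      obtain ⟨e, heX, heS, -, hcom⟩ := exists_step hE hPp hXS hzS
      refine ⟨e, heX, fun h => heS ?_, fun h => heS ?_, ?_⟩
      · rw [show e = 1 from Subtype.ext h]; exact S.one_mem
      · rw [show e = z' from Subtype.ext h]; exact hzS
      · obtain ⟨hd1, hd2⟩ := hcom t'⁻¹ (S.inv_mem htS)
        set d : G := t * ((e : G)⁻¹ * t⁻¹ * (e : G)) with hd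
        have hdX : d ∈ X := by
          have : ((t'⁻¹)⁻¹ * (e⁻¹ * t'⁻¹ * e) : P).1 ∈ X := hd1
          simpa [hd, t'] using this
        have hd' : d = 1 ∨ d = z := by
          by_contra hcon
          rw [not_or] at hcon
          have := hex _ hd2 hd1 (by simpa [hd, t'] using hcon.1)
          exact hcon.2 (by simpa [hd, t'] using this)
        rcases hd' with h1 | h1
        · left
          rw [conj_eq_iff_comm]
          calc t * (e : G) = t * ((e : G)⁻¹ * t⁻¹ * (e : G))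
                * (((e : G)⁻¹ * t⁻¹ * (e : G))⁻¹ * (e : G)) := by group
            _ = (e : G)⁻¹ * t * (e : G) * (e : G) := by rw [← hd, h1]; group
            _ = (e : G)⁻¹ * t * ((e : G) * (e : G)) := by group
            _ = (e : G)⁻¹ * ((e : G) * (e : G)) * t := by
              rw [mul_assoc, mul_assoc]
              congr 1
              rcases hX.sq_cases (a := (e : G)) heX with h2 | h2 <;> rw [h2]
              · group
              · exact htz
            _ = (e : G) * t := by group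
        · right
          have h3 : (e : G)⁻¹ * t⁻¹ * (e : G) = t⁻¹ * z := by
            calc (e : G)⁻¹ * t⁻¹ * (e : G) = t⁻¹ * d := by rw [hd]; group
              _ = t⁻¹ * z := by rw [h1]
          have h4 : t⁻¹ * (e : G) * t = (e : G) * z := by
            calc t⁻¹ * (e : G) * t = (e : G) * ((e : G)⁻¹ * t⁻¹ * (e : G)) * t := by group
              _ = (e : G) * (t⁻¹ * z) * t := by rw [h3]
              _ = (e : G) * (t⁻¹ * (z * t)) := by group
              _ = (e : G) * z := by rw [← htz]; group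
          calc t * (e : G) * t⁻¹ = t * ((e : G) * z) * t⁻¹ * (t * z * t⁻¹)⁻¹ := by group
            _ = (e : G) * z⁻¹ := by
              rw [← h4, htz, mul_inv_cancel_right]; group
            _ = (e : G) * z := by rw [inv_eq_of_mul_eq_one_right hX.x_sq]
  have hzw : Commute w z := hX.le_cent w hwX
  -- `X = W ∪ cW`
  set W := extend hX (Subgroup.zpowers z) (Subgroup.zpowers_le.2 hX.x_mem)
    (Subgroup.mem_zpowers z) w hwX with hW
  have hwnz : w ∉ Subgroup.zpowers z := fun h => (eq_or_of_mem_zpowers hX.x_sq h).elim hw1 hwz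
  have hWcard : Nat.card W = 4 := by
    rw [hW, card_extend hX _ _ _ _ _ hwnz, Nat.card_zpowers,
      orderOf_eq_prime (p := 2) (by rw [pow_two, hX.x_sq]) hX.x_ne]
  -- the elements fixed modulo `z`
  have hmulz : ∀ u, u = 1 ∨ u = z → ∀ v, v = 1 ∨ v = z → u * v = 1 ∨ u * v = z := by
    rintro u (rfl | rfl) v (rfl | rfl) <;> simp [hX.x_sq]
  let F : Subgroup G :=
    { carrier := {x | x ∈ X ∧ (x⁻¹ * (t * x * t⁻¹) = 1 ∨ x⁻¹ * (t * x * t⁻¹) = z)}
      one_mem' := ⟨X.one_mem, Or.inl (by group)⟩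
      mul_mem' := by
        rintro x y ⟨hx, hx'⟩ ⟨hy, hy'⟩
        refine ⟨mul_mem hx hy, ?_⟩
        have hc : y⁻¹ * (x⁻¹ * (t * x * t⁻¹)) * y = x⁻¹ * (t * x * t⁻¹) := by
          rcases hx' with e | e <;> rw [e]
          · group
          · rw [mul_assoc, ← hX.le_cent y hy, inv_mul_cancel_left]
        have : (x * y)⁻¹ * (t * (x * y) * t⁻¹) =
            (x⁻¹ * (t * x * t⁻¹)) * (y⁻¹ * (t * y * t⁻¹)) := by
          calc (x * y)⁻¹ * (t * (x * y) * t⁻¹)
              = (y⁻¹ * (x⁻¹ * (t * x * t⁻¹)) * y) * (y⁻¹ * (t * y * t⁻¹)) := by group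
            _ = _ := by rw [hc]
        rw [this]
        exact hmulz _ hx' _ hy'
      inv_mem' := by
        rintro x ⟨hx, hx'⟩
        refine ⟨inv_mem hx, ?_⟩
        have : x⁻¹⁻¹ * (t * x⁻¹ * t⁻¹) = x * (x⁻¹ * (t * x * t⁻¹))⁻¹ * x⁻¹ := by group
        rw [this]
        rcases hx' with e | e <;> rw [e]
        · exact Or.inl (by group)
        · right
          rw [inv_eq_of_mul_eq_one_right hX.x_sq, hX.le_cent x hx, mul_inv_cancel_right] }
  have hFz : z ∈ F := ⟨hX.x_mem, Or.inl (by rw [htz, mul_inv_cancel_right, inv_mul_cancel])⟩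
  have hFw : w ∈ F := ⟨hwX, by
    rcases hwt with e | e <;> rw [e]
    · exact Or.inl (inv_mul_cancel _)
    · exact Or.inr (inv_mul_cancel_left _ _)⟩
  have hWF : W ≤ F := by
    intro x hx
    rcases eq_or_of_mem_extend_zpowers hX hwX hx with e | e | e | e <;> rw [e]
    exacts [F.one_mem, hFz, hFw, F.mul_mem hFw hFz]
  have hWX : W ≤ X := extend_le _ _ _ _ _ _
  have hidx : (W.subgroupOf X).index = 2 := by
    have h1 := (W.subgroupOf X).card_mul_index
    rw [Nat.card_congr (Subgroup.subgroupOfEquivOfLe hWX).toEquiv, hWcard, h8] at h1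
    omega
  have hdecW : ∀ c ∈ X, c ∉ W → ∀ q ∈ X, q ∈ W ∨ c⁻¹ * q ∈ W := by
    intro c hc hcW q hq
    by_cases hqW : q ∈ W
    · exact Or.inl hqW
    · exact Or.inr ((Subgroup.mul_mem_iff_of_index_two hidx (a := ⟨c⁻¹, inv_mem hc⟩)
        (b := ⟨q, hq⟩)).2 (iff_of_false (fun h => hcW (by
          have := W.inv_mem (show c⁻¹ ∈ W from h)
          rwa [inv_inv] at this)) hqW))
  obtain ⟨c, hc, hcF⟩ : ∃ c ∈ X, c ∉ F := by
    by_contra hcon
    push Not at hcon
    refine htX (mem_of_inner hX t fun q hq => ?_)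
    rcases (hcon q hq).2 with e | e
    · exact Or.inl (inv_mul_eq_one.1 e).symm
    · exact Or.inr (by rw [← e, mul_inv_cancel_left])
  have hcW : c ∉ W := fun h => hcF (hWF h)
  have hF4 : ∀ x ∈ F, x ∈ W := fun x hx => by
    rcases hdecW c hc hcW x hx.1 with e | e
    · exact e
    · exact absurd (by simpa [mul_assoc] using F.mul_mem hx (F.inv_mem (hWF e))) hcF
  set d := c⁻¹ * (t * c * t⁻¹) with hd
  have hdX : d ∈ X := mul_mem (inv_mem hc) (hX.norm t htz c hc)
  have hdW : d ∈ W := by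
    rcases hdecW c hc hcW d hdX with e | e
    · exact e
    · exfalso
      -- `t c t⁻¹ ≡ 1`
      have h1 : c⁻¹ * c⁻¹ ∈ W := by
        rcases hX.sq_cases (inv_mem hc) with e1 | e1 <;> rw [e1]
        exacts [W.one_mem, Or.inl (Subgroup.mem_zpowers z)]
      have h2 : t * c * t⁻¹ ∈ W := by
        have := W.mul_mem (W.inv_mem h1) e
        simpa [hd, mul_assoc] using this
      obtain ⟨hcX', hc'⟩ := hWF h2
      refine hcF ⟨hc, ?_⟩
      rcases hc' with e1 | e1
      · left
        calc c⁻¹ * (t * c * t⁻¹) = t⁻¹ * ((t * c * t⁻¹)⁻¹ * (t * (t * c * t⁻¹) * t⁻¹)) * t := by group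
          _ = 1 := by rw [e1]; group
      · right
        calc c⁻¹ * (t * c * t⁻¹) = t⁻¹ * ((t * c * t⁻¹)⁻¹ * (t * (t * c * t⁻¹) * t⁻¹)) * t := by group
          _ = z := by rw [e1, mul_assoc, ← htz, inv_mul_cancel_left]
  -- `t²` fixes everything modulo `z`
  have htz2 : t * t * z = z * (t * t) := by rw [mul_assoc, htz, ← mul_assoc, htz, mul_assoc]
  have hzw2 : ∀ q ∈ W, (t * t) * q * (t * t)⁻¹ = q := by
    intro q hq
    obtain ⟨hqX, hq'⟩ := hWF hq
    rcases hq' with e1 | e1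
    · have e2 : t * q * t⁻¹ = q := (inv_mul_eq_one.1 e1).symm
      calc (t * t) * q * (t * t)⁻¹ = t * (t * q * t⁻¹) * t⁻¹ := by group
        _ = q := by rw [e2, e2]
    · have e2 : t * q * t⁻¹ = q * z := by rw [← e1, mul_inv_cancel_left]
      calc (t * t) * q * (t * t)⁻¹ = t * (t * q * t⁻¹) * t⁻¹ := by group
        _ = t * (q * z) * t⁻¹ := by rw [e2]
        _ = (t * q * t⁻¹) * (t * z * t⁻¹) := by group
        _ = q := by rw [e2, htz, mul_inv_cancel_right, mul_assoc, hX.x_sq, mul_one]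
  have hd2 : ∀ q ∈ W, q * q = 1 ∨ q * q = z := fun q hq => hX.sq_cases (hWX hq)
  have htc : (t * t) * c * (t * t)⁻¹ = c ∨ (t * t) * c * (t * t)⁻¹ = c * z := by
    have e1 : t * c * t⁻¹ = c * d := by rw [hd]; group
    have e3 : (t * t) * c * (t * t)⁻¹ = c * (d * (t * d * t⁻¹)) := by
      calc (t * t) * c * (t * t)⁻¹ = t * (t * c * t⁻¹) * t⁻¹ := by group
        _ = t * (c * d) * t⁻¹ := by rw [e1]
        _ = (t * c * t⁻¹) * (t * d * t⁻¹) := by group
        _ = _ := by rw [e1]; group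
    have e4 : d * (t * d * t⁻¹) = 1 ∨ d * (t * d * t⁻¹) = z := by
      have : d * (t * d * t⁻¹) = (d * d) * (d⁻¹ * (t * d * t⁻¹)) := by group
      rw [this]
      exact hmulz _ (hd2 d hdW) _ (hWF hdW).2
    rcases e4 with e | e
    · exact Or.inl (by rw [e3, e, mul_one])
    · exact Or.inr (by rw [e3, e])
  have htt : t * t ∈ X := by
    refine mem_of_inner hX _ fun q hq => ?_
    rcases hdecW c hc hcW q hq with e | e
    · exact Or.inl (hzw2 q e)
    · have h1 := hzw2 _ e
      have h2 : (t * t) * q * (t * t)⁻¹ =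
          ((t * t) * c * (t * t)⁻¹) * ((t * t) * (c⁻¹ * q) * (t * t)⁻¹) := by group
      rcases htc with e1 | e1
      · left; rw [h2, h1, e1, mul_inv_cancel_left]
      · right; rw [h2, h1, e1, mul_assoc, ← hX.le_cent _ (hWX e)]; group
  refine ⟨htt, ?_⟩
  have httW : t * t ∈ W := hF4 _ ⟨htt, Or.inl (by group)⟩
  have hdmem : ∃ p ∈ Subgroup.centralizer ({z} : Set G), ∃ r ∈ Subgroup.centralizer ({z} : Set G),
      d = p * r * p⁻¹ * r⁻¹ := ⟨c⁻¹, hXC _ (inv_mem hc), t, htC, by rw [hd]; group⟩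
  have hdnz : d ≠ 1 ∧ d ≠ z := ⟨fun e => hcF ⟨hc, Or.inl e⟩, fun e => hcF ⟨hc, Or.inr e⟩⟩
  have hWcases := eq_or_of_mem_extend_zpowers hX hwX httW
  have hdcases := eq_or_of_mem_extend_zpowers hX hwX hdW
  obtain ⟨u, hu, hval⟩ : ∃ u, (u = 1 ∨ u = z) ∧ (t * t = u ∨ t * t = d * u) := by
    have hw' : w = d ∨ w = d * z := by
      rcases hdcases with e | e | e | e
      · exact absurd e hdnz.1
      · exact absurd e hdnz.2
      · exact Or.inl e.symm
      · exact Or.inr (by rw [e, mul_assoc, hX.x_sq, mul_one])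
    rcases hWcases with e | e | e | e
    · exact ⟨1, Or.inl rfl, Or.inl e⟩
    · exact ⟨z, Or.inr rfl, Or.inl e⟩
    · rcases hw' with h | h
      · exact ⟨1, Or.inl rfl, Or.inr (by rw [e, h, mul_one])⟩
      · exact ⟨z, Or.inr rfl, Or.inr (by rw [e, h])⟩
    · rcases hw' with h | h
      · exact ⟨z, Or.inr rfl, Or.inr (by rw [e, h])⟩
      · exact ⟨1, Or.inl rfl, Or.inr (by rw [e, h, mul_assoc, hX.x_sq])⟩
  obtain ⟨p, hp, r, hr, hpr⟩ := hz2 u hu
  obtain ⟨p', hp', r', hr', hpr'⟩ := hdmem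
  rcases hval with e | e
  · exact ⟨p, hp, r, hr, a, hXC a ha, a, hXC a ha, by rw [hone, mul_one, ← hpr, e]⟩
  · exact ⟨p', hp', r', hr', p, hp, r, hr, by rw [← hpr, ← hpr', e]⟩

/-- Let G be a finite group with no nontrivial 2-group quotient (O^2(G) = G), z an involution of G with H = C_G(z), and suppose E = O_2(H) is extraspecial with C_G(E) ≤ E. Then the Sylow 2-subgroups of H/[H, H] are elementary abelian: every element of 2-power order of the abelianization of H has order at most 2. -/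
theorem result {G : Type*} [Group G] [Finite G] (hres : Cfsg.pResidual 2 G = ⊤) (z : G) (hz : orderOf z = 2)
    (E : Subgroup G) (hE : E = (Cfsg.pCore 2 ↥(Subgroup.centralizer ({z} : Set G))).map (Subgroup.centralizer ({z} : Set G)).subtype)
    (hext : Cfsg.IsExtraspecial 2 ↥E) (hcent : Subgroup.centralizer (E : Set G) ≤ E) :
    ∀ q : Abelianization ↥(Subgroup.centralizer ({z} : Set G)), (∃ k : ℕ, orderOf q = 2 ^ k) → q ^ 2 = 1 := by
  classical
  set H := Subgroup.centralizer ({z} : Set G) with hH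
  let Q : G → Subgroup G := fun x => (Cfsg.pCore 2 ↥(Subgroup.centralizer ({x} : Set G))).map
    (Subgroup.centralizer ({x} : Set G)).subtype
  have hQ : IsCoreMap Q := fun x => rfl
  subst hE
  have hX : Good (Q z) z := by
    have := hQ.good_conj hz hext hcent 1
    simpa using this
  have hzH : ∀ a, a ∈ H ↔ a * z = z * a := fun a => Subgroup.mem_centralizer_singleton_iff
  intro q hq
  by_contra hq2
  haveI : Fact (Nat.Prime 2) := ⟨Nat.prime_two⟩
  obtain ⟨n, hn1, hn⟩ := Lib.ExtraspecialOrder.exists_card_eq hext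
  by_cases hn2 : 2 ≤ n
  · have hX32 : 32 ≤ Nat.card (Q z) := by
      show 32 ≤ Nat.card ↥((Cfsg.pCore 2 ↥H).map H.subtype)
      rw [hn]
      calc 32 = 2 ^ 5 := by norm_num
        _ ≤ _ := Nat.pow_le_pow_right (by norm_num) (by omega)
    obtain ⟨χ₀, hkill, hne⟩ := exists_sign_character hq hq2
    set χ : H →* ℤˣ := χ₀.comp Abelianization.of with hχ
    have hprop : ∀ a b : H, a * a = b * b → χ a = χ b := fun a b hab => by
      have h1 : (Abelianization.of a * (Abelianization.of b)⁻¹) ^ 2 = 1 := by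
        rw [mul_pow, inv_pow, pow_two, pow_two, ← map_mul, ← map_mul, hab, mul_inv_cancel]
      have h2 := hkill _ h1
      rw [map_mul, map_inv, mul_inv_eq_one] at h2
      exact h2
    refine false_of_character hres hX (hQ.isPGroup z) hzH χ ?_ fun g hgz hgc => ?_
    · obtain ⟨b, hb⟩ := hne
      obtain ⟨h, rfl⟩ : ∃ h, Abelianization.of h = b := QuotientGroup.mk'_surjective _ b
      exact ⟨h, hb⟩
    set A := Q z ⊓ Subgroup.centralizer ({g * z * g⁻¹} : Set G) with hA
    have hmk : ∀ x ∈ A, g⁻¹ * x * g ∈ H := fun x hx =>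
      (hzH _).2 ((commute_conj_iff g x z).2 (mem_centralizer_singleton'.1 hx.2))
    have hzA : z ∈ A := ⟨hX.x_mem, mem_centralizer_singleton'.2 hgc.symm⟩
    let ψ : A →* ℤˣ := MonoidHom.mk' (fun a => χ ⟨g⁻¹ * (a : G) * g, hmk a a.2⟩) fun a b => by
      rw [← map_mul]; exact congrArg χ (Subtype.ext (by
        show g⁻¹ * ((a : G) * b) * g = (g⁻¹ * (a : G) * g) * (g⁻¹ * (b : G) * g)
        group))
    have hψ : ∀ a b : A, (a : G) * a = (b : G) * b → ψ a = ψ b := fun a b hab => by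
      refine hprop _ _ (Subtype.ext ?_)
      show g⁻¹ * (a : G) * g * (g⁻¹ * (a : G) * g) = g⁻¹ * (b : G) * g * (g⁻¹ * (b : G) * g)
      calc g⁻¹ * (a : G) * g * (g⁻¹ * (a : G) * g) = g⁻¹ * ((a : G) * a) * g := by group
        _ = g⁻¹ * ((b : G) * b) * g := by rw [hab]
        _ = _ := by group
    have hψz : ψ ⟨z, hzA⟩ = 1 :=
      (hψ ⟨z, hzA⟩ 1 (by show z * z = 1 * 1; rw [hX.x_sq, one_mul])).trans (map_one ψ)
    by_cases h4 : 4 * Nat.card ↥A ≤ Nat.card ↥(Q z)
    · refine Or.inr (Or.inl ⟨fun c hc => ?_, h4⟩)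
      rw [← hψz]
      exact congrArg χ (Subtype.ext (by show (c : G) = g⁻¹ * z * g; rw [← hc]; group))
    refine Or.inl fun c hc => ?_
    have hcA : g * (c : G) * g⁻¹ ∈ A := by
      refine ⟨hc, mem_centralizer_singleton'.2 ((commute_conj_iff g _ z).1 ?_)⟩
      have h1 : g⁻¹ * (g * (c : G) * g⁻¹) * g = c := by group
      rw [h1]; exact (hzH _).1 c.2
    have hcψ : χ c = ψ ⟨_, hcA⟩ := congrArg χ (Subtype.ext (by
      show (c : G) = g⁻¹ * (g * (c : G) * g⁻¹) * g
      group))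
    rw [hcψ]
    by_contra hne'
    set a0 : A := ⟨_, hcA⟩ with ha0
    have ha0z : (a0 : G) * a0 = z := by
      rcases hX.sq_cases a0.2.1 with e | e
      · exact absurd ((hψ a0 1 (by rw [e, Subgroup.coe_one, one_mul])).trans (map_one ψ)) hne'
      · exact e
    have hind : ∀ x : A, (ψ x = 1 ↔ (x : G) * x = 1) := fun x => by
      rcases hX.sq_cases x.2.1 with e | e
      · exact iff_of_true ((hψ x 1 (by rw [e, Subgroup.coe_one, one_mul])).trans (map_one ψ)) e
      · exact iff_of_false (fun h1 => hne' ((hψ a0 x (by rw [ha0z, e])).trans h1))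
          (by rw [e]; exact hX.x_ne)
    obtain ⟨a, ha, b, hb, hab⟩ : ∃ a ∈ A, ∃ b ∈ A, a * b ≠ b * a := by
      by_contra hcon
      push Not at hcon
      have h2 := sq_card_le_of_comm hX A inf_le_left hzA hcon
      nlinarith
    have hconj : b * a * b⁻¹ = a * z :=
      (hX.comm b hb.1 a ha.1).resolve_left fun e => hab (conj_eq_iff_comm.1 e).symm
    have hprod : (a * b) * (a * b) = (a * a) * (b * b) * z := by
      calc (a * b) * (a * b) = a * (b * a * b⁻¹) * (b * b) := by group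
        _ = a * (a * z) * (b * b) := by rw [hconj]
        _ = (a * a) * (z * (b * b)) := by group
        _ = _ := by rw [← hX.le_cent (b * b) (mul_mem hb.1 hb.1)]; group
    have hz1 := hX.x_ne
    have ia := hind ⟨a, ha⟩
    have ib := hind ⟨b, hb⟩
    have iab := hind (⟨a, ha⟩ * ⟨b, hb⟩)
    rw [map_mul] at iab
    simp only [Subgroup.coe_mul] at ia ib iab
    rw [hprod] at iab
    rcases hX.sq_cases ha.1 with ea | ea <;> rcases hX.sq_cases hb.1 with eb | eb
    · rw [ia.2 ea, ib.2 eb, ea, eb, one_mul, one_mul, one_mul] at iab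
      exact hz1 (iab.1 rfl)
    · rw [ia.2 ea, ea, eb, one_mul, one_mul, hX.x_sq] at iab
      exact hz1 (eb ▸ ib.1 (iab.2 rfl))
    · rw [ib.2 eb, ea, eb, mul_one, mul_one, hX.x_sq] at iab
      exact hz1 (ea ▸ ia.1 (iab.2 rfl))
    · have h1 : ψ ⟨a, ha⟩ ≠ 1 := fun h => hz1 (ea ▸ ia.1 h)
      have h2 : ψ ⟨b, hb⟩ ≠ 1 := fun h => hz1 (eb ▸ ib.1 h)
      rw [(Int.units_eq_one_or _).resolve_left h1, (Int.units_eq_one_or _).resolve_left h2, ea, eb,
        hX.x_sq, one_mul] at iab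
      exact hz1 (iab.1 (by decide))
  · have h8 : Nat.card (Q z) = 8 := by
      show Nat.card ↥((Cfsg.pCore 2 ↥H).map H.subtype) = 8
      rw [hn, show n = 1 by omega]; norm_num
    obtain ⟨h, rfl⟩ : ∃ h, Abelianization.of h = q := QuotientGroup.mk'_surjective _ q
    obtain ⟨k, m, hm, hkm⟩ := Nat.exists_eq_pow_mul_and_not_dvd (orderOf_pos h).ne' 2 (by norm_num)
    have hm0 : m ≠ 0 := fun h0 => hm (by rw [h0]; exact dvd_zero _)
    obtain ⟨j, hj⟩ := hq
    -- `of h` is a power of `of (h ^ m)`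
    have hco : Nat.Coprime m (orderOf (Abelianization.of h)) := by
      rw [hj]; exact ((Nat.prime_two.coprime_iff_not_dvd.2 hm).symm).pow_right _
    obtain ⟨m', hm'⟩ := exists_pow_eq_self_of_coprime hco
    set t : H := h ^ m with ht
    have htp : IsPGroup 2 ↥(Subgroup.zpowers (t : G)) := by
      refine IsPGroup.of_card (n := k) ?_
      rw [Nat.card_zpowers, Subgroup.orderOf_coe, ht, orderOf_pow_of_dvd hm0 ⟨2 ^ k, by rw [hkm, mul_comm]⟩,
        hkm, Nat.mul_div_cancel _ (Nat.pos_of_ne_zero hm0)]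
    obtain ⟨-, a, ha, b, hb, a', ha', b', hb', hval⟩ :=
      sq_mem_commutator_of_eight hX (hQ.isPGroup z) h8 ((hzH _).1 t.2) htp
    have h1 : t * t = (⟨a, ha⟩ * ⟨b, hb⟩ * ⟨a, ha⟩⁻¹ * ⟨b, hb⟩⁻¹) *
        ((⟨a', ha'⟩ : H) * ⟨b', hb'⟩ * ⟨a', ha'⟩⁻¹ * ⟨b', hb'⟩⁻¹) := Subtype.ext hval
    have h2 : Abelianization.of t ^ 2 = 1 := by
      rw [pow_two, ← map_mul, h1]
      simp only [map_mul, map_inv]
      simp only [mul_inv_cancel_comm, mul_inv_cancel, one_mul]
    refine hq2 ?_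
    rw [← hm', ← map_pow Abelianization.of h m, ← ht, ← pow_mul, mul_comm, pow_mul, h2, one_pow]

end Cfsg.Agent.S3301
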