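import Cfsg.Statements.S3303
import Mathlib
import Cfsg.Agent.Lib.SylowIntersection.Quotient
import Cfsg.Agent.Lib.SolvableCore.Basic
-- import your own Cfsg.Agent.* helpers here

set_option autoImplicit false
open Cfsg

namespace Cfsg.Agent.S3303

/-- Let G be a finite solvable group in which the intersection of any two distinct Sylow 2-subgroups is cyclic. Then G/O(G) has a normal Sylow 2-subgroup, where O(G) is the largest normal subgroup of odd order. -/
theorem result {G : Type*} [Group G] [Finite G] (hs : Group.IsSolvable G)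
    (hC : ∀ S T : Sylow 2 G, S ≠ T → IsCyclic ↥((S : Subgroup G) ⊓ (T : Subgroup G))) :
    ∃ P : Sylow 2 (G ⧸ Cfsg.oddCore G), (P : Subgroup (G ⧸ Cfsg.oddCore G)).Normal := by
  haveI : Fact (Nat.Prime 2) := ⟨Nat.prime_two⟩
  haveI : Group.IsSolvable G := hs
  set Q := G ⧸ Cfsg.oddCore G
  have hQ : ∀ S T : Sylow 2 Q, S ≠ T → IsCyclic ↥((S : Subgroup Q) ⊓ (T : Subgroup Q)) :=
    Cfsg.Agent.Lib.SylowIntersection.isCyclic_inter_quotient hC _
  obtain ⟨P⟩ : Nonempty (Sylow 2 Q) := inferInstance
  rcases subsingleton_or_nontrivial (Sylow 2 Q) with h | h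
  · exact ⟨P, P.normal_of_subsingleton⟩
  · obtain ⟨S, T, hne⟩ := h
    haveI := hQ S T hne
    have hc : IsCyclic (Cfsg.pCore 2 Q) :=
      isCyclic_of_injective (Subgroup.inclusion (le_inf (Cfsg.Agent.Lib.PSolvable.pCore_le_sylow S)
        (Cfsg.Agent.Lib.PSolvable.pCore_le_sylow T))) (Subgroup.inclusion_injective _)
    haveI : Group.IsSolvable Q := solvable_of_surjective (QuotientGroup.mk'_surjective _)
    have h2 := Cfsg.Agent.Lib.SolvableCore.isPGroup_two_of_isCyclic_pCore (G := Q) inferInstance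
      Cfsg.Agent.Lib.PSolvable.pPrimeCore_quotient_eq_bot hc
    have htop : IsPGroup 2 (⊤ : Subgroup Q) := h2.to_subgroup _
    exact absurd (Sylow.ext ((S.3 htop le_top).symm.trans (T.3 htop le_top))) hne

end Cfsg.Agent.S3303
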