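import Cfsg.Statements.S3309
import Mathlib
import Cfsg.Agent.Lib.Involution.ThompsonTransfer
-- import your own Cfsg.Agent.* helpers here

set_option autoImplicit false
open Cfsg

namespace Cfsg.Agent.S3309

abbrev P0 : Type := Multiplicative (ZMod 2) × DihedralGroup 4
def cc : P0 := (Multiplicative.ofAdd 1, 1)
def zz : P0 := (1, DihedralGroup.r 2)
def aa (e : ZMod 2) (j : ZMod 4) : P0 := (Multiplicative.ofAdd e, DihedralGroup.sr j)
def chi (e d : ZMod 2) : P0 → ZMod 2
  | (x, .r i) => Multiplicative.toAdd x + (i.val : ZMod 2) * (e + d)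
  | (x, .sr j) => Multiplicative.toAdd x + if j.val % 2 = 0 then e else d
def swapMap : P0 → P0
  | (x, .r i) => (x, .r i)
  | (x, .sr j) => (x, .sr (j + 1))

theorem basic : (cc * cc = 1 ∧ cc ≠ 1) ∧ (cc * zz * (cc * zz) = 1 ∧ cc * zz ≠ 1) ∧ (zz * zz = 1 ∧ zz ≠ 1) ∧
    cc * (cc * zz) = zz ∧ cc ≠ aa 0 0 ∧ cc * zz * zz = cc ∧ cc * zz ≠ zz ∧ cc ≠ cc * zz := by decide +kernel
theorem basic4 : cc ≠ zz := by decide +kernel
theorem basic2 : zz = ((1, DihedralGroup.r 1) : P0) * (1, DihedralGroup.r 1) := by decide +kernel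
theorem basic3 : ∀ y, cc * zz * y = y * (cc * zz) := by decide +kernel
theorem swap_vals : swapMap cc = cc ∧ swapMap zz = zz ∧ swapMap (cc * zz) = cc * zz ∧
    swapMap (aa 0 0) = aa 0 1 ∧ swapMap (aa 1 0) = aa 1 1 ∧ swapMap (aa 0 1) = aa 0 2 ∧ swapMap (aa 1 1) = aa 1 2 ∧
    Function.Injective swapMap := by decide +kernel
theorem chi_mul : ∀ (e d : ZMod 2) (x y : P0), chi e d (x * y) = chi e d x + chi e d y := by
  decide +kernel
theorem chi_inv : ∀ (e d : ZMod 2) (x : P0), chi e d x⁻¹ = chi e d x := by decide +kernel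
set_option synthInstance.maxSize 2000 in
theorem chi_invol : ∀ (e d : ZMod 2) (x : P0), chi e d x = 0 → x * x = 1 → x ≠ 1 →
    x = zz ∨ x = aa e 0 ∨ x = aa e 2 ∨ x = aa d 1 ∨ x = aa d 3 := by decide +kernel
theorem aa_conj : ∀ e : ZMod 2, (∃ y : P0, y * aa e 0 * y⁻¹ = aa e 2) ∧
    (∃ y : P0, y * aa e 1 * y⁻¹ = aa e 3) := by decide +kernel
theorem swap_mul : ∀ x y : P0, swapMap (x * y) = swapMap x * swapMap y := by decide +kernel
theorem sq_cases : ∀ x : P0, x * x = 1 ∨ x * x = zz := by decide +kernel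
theorem central : ∀ x : P0, cc * x = x * cc ∧ zz * x = x * zz := by decide +kernel
theorem invol_cases : ∀ x : P0, x * x = 1 → x ≠ 1 → x = cc ∨ x = zz ∨ x = cc * zz ∨
    (∃ e, x = aa e 0 ∨ x = aa e 2) ∨ (∃ e, x = aa e 1 ∨ x = aa e 3) := by decide +kernel
theorem final : ∀ w y : P0,
    (y = cc * zz ∨ ∃ e, y = aa e 1 ∨ y = aa e 3) → (w = cc ∨ ∃ e, w = aa e 0 ∨ w = aa e 2) →
    w * y = zz → w = cc := by decide +kernel

def chiKer (e d : ZMod 2) : Subgroup P0 where
  carrier := {x | chi e d x = 0}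
  mul_mem' {a b} ha hb := by simp only [Set.mem_ofPred_eq] at *; rw [chi_mul, ha, hb, add_zero]
  one_mem' := by
    simp only [Set.mem_ofPred_eq]
    have := chi_mul e d 1 1
    rw [mul_one] at this
    simpa using this
  inv_mem' {a} ha := by simp only [Set.mem_ofPred_eq] at *; rw [chi_inv, ha]

theorem chiKer_index (e d : ZMod 2) : (chiKer e d).index = 2 := by
  have h : Nat.card (chiKer e d) = 8 := by
    rw [show Nat.card (chiKer e d) = Nat.card {x : P0 // chi e d x = 0} from rfl, Nat.card_eq_fintype_card]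
    revert e d
    decide +kernel
  have h16 : Nat.card P0 = 16 := by rw [Nat.card_eq_fintype_card]; decide +kernel
  have := Subgroup.card_mul_index (chiKer e d)
  rw [h, h16] at this
  omega

variable {G : Type*} [Group G] [Finite G]

/-- The relation "conjugate in `G`" pulled back to the Sylow subgroup. -/
def R (ι : P0 →* G) (x y : P0) : Prop := IsConj (ι x) (ι y)

theorem key (hno : ∀ H : Subgroup G, H.index ≠ 2) (ι : P0 →* G) (hι : Function.Injective ι)
    (S : Sylow 2 G) (hr : ι.range = (S : Subgroup G))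
    (hz : ¬ R ι cc zz) (hz' : ¬ R ι (cc * zz) zz) (hcz : ¬ R ι cc (cc * zz))
    (hA : R ι cc (aa 0 0) ∧ R ι cc (aa 1 0))
    (hB : R ι (cc * zz) (aa 0 1) ∧ R ι (cc * zz) (aa 1 1)) : False := by
  haveI : Fact (Nat.Prime 2) := ⟨Nat.prime_two⟩
  have hA' : ∀ e, R ι cc (aa e 0) ∧ R ι cc (aa e 2) := by
    intro e
    have h0 : R ι cc (aa e 0) := by fin_cases e; exacts [hA.1, hA.2]
    obtain ⟨y, hy⟩ := (aa_conj e).1
    refine ⟨h0, h0.trans (isConj_iff.2 ⟨ι y, ?_⟩)⟩
    rw [← map_inv, ← map_mul, ← map_mul, hy]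
  have hB' : ∀ e, R ι (cc * zz) (aa e 1) ∧ R ι (cc * zz) (aa e 3) := by
    intro e
    have h0 : R ι (cc * zz) (aa e 1) := by fin_cases e; exacts [hB.1, hB.2]
    obtain ⟨y, hy⟩ := (aa_conj e).2
    refine ⟨h0, h0.trans (isConj_iff.2 ⟨ι y, ?_⟩)⟩
    rw [← map_inv, ← map_mul, ← map_mul, hy]
  obtain ⟨g0, hg0⟩ := isConj_iff.1 (hA' 0).1.symm
  set C := Subgroup.centralizer ({ι cc} : Set G)
  set A0 : Subgroup P0 := Subgroup.closure {cc, zz}
  have hP : IsPGroup 2 P0 := IsPGroup.of_card (n := 4) (by rw [Nat.card_eq_fintype_card]; decide +kernel)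
  let f : P0 →* G := (MulAut.conj g0).toMonoidHom.comp ι
  have hU : A0.map f ≤ C := by
    rw [Subgroup.map_le_iff_le_comap, Subgroup.closure_le]
    intro x hx
    rw [SetLike.mem_coe, Subgroup.mem_comap, Subgroup.mem_centralizer_singleton_iff]
    have hcom : x * aa 0 0 = aa 0 0 * x := by
      rcases hx with rfl | rfl
      exacts [(central _).1, (central _).2]
    show g0 * ι x * g0⁻¹ * ι cc = ι cc * (g0 * ι x * g0⁻¹)
    rw [← hg0, show g0 * ι x * g0⁻¹ * (g0 * ι (aa 0 0) * g0⁻¹) = g0 * (ι x * ι (aa 0 0)) * g0⁻¹ by group,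
      ← map_mul, hcom, map_mul]
    group
  have hUp : IsPGroup 2 ((A0.map f).subgroupOf C) :=
    (((hP.to_subgroup A0).map f)).of_equiv (Subgroup.subgroupOfEquivOfLe hU).symm
  obtain ⟨T, hT⟩ := hUp.exists_le_sylow
  have hSC : (S : Subgroup G) ≤ C := by
    rw [← hr]
    rintro _ ⟨x, rfl⟩
    rw [Subgroup.mem_centralizer_singleton_iff, ← map_mul, ← map_mul, (central x).1]
  obtain ⟨h, hh⟩ := MulAction.exists_smul_eq C T (S.subtype hSC)
  set g := (h : G) * g0
  have hga : g * ι (aa 0 0) * g⁻¹ = ι cc := by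
    have hhc : (h : G) * ι cc = ι cc * h := Subgroup.mem_centralizer_singleton_iff.1 h.2
    rw [show g * ι (aa 0 0) * g⁻¹ = (h : G) * (g0 * ι (aa 0 0) * g0⁻¹) * (h : G)⁻¹ by simp [g, mul_assoc],
      hg0, hhc]
    group
  have himg : ∀ x ∈ A0, ∃ w : P0, ι w = g * ι x * g⁻¹ := by
    intro x hx
    rw [← MonoidHom.mem_range, hr]
    have h1 : (⟨_, hU (Subgroup.mem_map_of_mem f hx)⟩ : C) ∈ (T : Subgroup C) :=
      hT (Subgroup.mem_subgroupOf.2 (Subgroup.mem_map_of_mem f hx))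
    have h2 := Subgroup.smul_mem_pointwise_smul _ (MulAut.conj h) _ h1
    have h2' : MulAut.conj h • (⟨_, hU (Subgroup.mem_map_of_mem f hx)⟩ : C) ∈ ((h • T : Sylow 2 C) : Subgroup C) := h2
    rw [hh] at h2'
    rw [Sylow.coe_subtype, Subgroup.mem_subgroupOf] at h2'
    simpa [f, g, mul_assoc] using h2'
  have hcls : ∀ x ∈ A0, x * x = 1 → x ≠ 1 → ∀ w, ι w = g * ι x * g⁻¹ →
      (R ι x w ∧ w * w = 1 ∧ w ≠ 1) := by
    intro x _ hxx hx1 w hw
    refine ⟨isConj_iff.2 ⟨g, hw.symm⟩, hι ?_, ?_⟩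
    · rw [map_mul, map_one, hw, show g * ι x * g⁻¹ * (g * ι x * g⁻¹) = g * (ι x * ι x) * g⁻¹ by group,
        ← map_mul, hxx, map_one]; group
    · intro h1
      rw [h1, map_one] at hw
      apply hx1
      apply hι
      rw [map_one]
      exact conj_eq_one_iff.1 hw.symm
  have hc : cc ∈ A0 := Subgroup.subset_closure (by simp)
  have hz0 : zz ∈ A0 := Subgroup.subset_closure (by simp)
  obtain ⟨wc, hwc⟩ := himg _ hc
  obtain ⟨wy, hwy⟩ := himg _ (A0.mul_mem hc hz0)
  obtain ⟨wz, hwz⟩ := himg _ hz0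
  obtain ⟨Rc, sc, nc⟩ := hcls _ hc basic.1.1 basic.1.2 _ hwc
  obtain ⟨Ry, sy, ny⟩ := hcls _ (A0.mul_mem hc hz0) basic.2.1.1 basic.2.1.2 _ hwy
  obtain ⟨Rz, sz, nz⟩ := hcls _ hz0 basic.2.2.1.1 basic.2.2.1.2 _ hwz
  have ez : wz = zz := by
    rcases invol_cases wz sz nz with rfl | rfl | rfl | ⟨e, rfl | rfl⟩ | ⟨e, rfl | rfl⟩
    · exact absurd Rz.symm hz
    · rfl
    · exact absurd Rz.symm hz'
    · exact absurd ((hA' e).1.trans Rz.symm) hz
    · exact absurd ((hA' e).2.trans Rz.symm) hz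
    · exact absurd ((hB' e).1.trans Rz.symm) hz'
    · exact absurd ((hB' e).2.trans Rz.symm) hz'
  have ey : wy = cc * zz ∨ ∃ e, wy = aa e 1 ∨ wy = aa e 3 := by
    rcases invol_cases wy sy ny with rfl | rfl | rfl | ⟨e, rfl | rfl⟩ | h
    · exact absurd Ry.symm hcz
    · exact absurd Ry hz'
    · exact Or.inl rfl
    · exact absurd ((hA' e).1.trans Ry.symm) hcz
    · exact absurd ((hA' e).2.trans Ry.symm) hcz
    · exact Or.inr h
  have ec : wc = cc ∨ ∃ e, wc = aa e 0 ∨ wc = aa e 2 := by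
    rcases invol_cases wc sc nc with rfl | rfl | rfl | h | ⟨e, rfl | rfl⟩
    · exact Or.inl rfl
    · exact absurd Rc hz
    · exact absurd Rc hcz
    · exact Or.inr h
    · exact absurd (Rc.trans (hB' e).1.symm) hcz
    · exact absurd (Rc.trans (hB' e).2.symm) hcz
  have hmul : wc * wy = zz := by
    rw [← ez]
    apply hι
    rw [map_mul, hwc, hwy, hwz, show g * ι cc * g⁻¹ * (g * ι (cc * zz) * g⁻¹) = g * (ι cc * ι (cc * zz)) * g⁻¹ by group,
      ← map_mul, basic.2.2.2.1]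
  have e1 := final wc wy ey ec hmul
  rw [e1] at hwc
  have : ι cc = ι (aa 0 0) := by
    apply mul_left_cancel (a := g)
    apply mul_right_cancel (b := g⁻¹)
    rw [← hwc, hga]
  exact basic.2.2.2.2.1 (hι this)


/-- A finite group whose Sylow 2-subgroups are isomorphic to the direct product of a group of order 2 and the dihedral group of order 8 is not a non-abelian simple group. -/
theorem result {G : Type*} [Group G] [Finite G] (S : Sylow 2 G) (hS : Nonempty (↥(S : Subgroup G) ≃* Multiplicative (ZMod 2) × DihedralGroup 4))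
    [IsSimpleGroup G] (hG : ¬ IsMulCommutative G) : False := by
  obtain ⟨eS⟩ := hS
  haveI : Fact (Nat.Prime 2) := ⟨Nat.prime_two⟩
  have hno : ∀ H : Subgroup G, H.index ≠ 2 := by
    intro H hH
    rcases (Subgroup.normal_of_index_eq_two hH).eq_bot_or_eq_top with h | h
    · rw [h, Subgroup.index_bot] at hH
      haveI : Fact (Nat.card G).Prime := ⟨hH ▸ Nat.prime_two⟩
      haveI : IsCyclic G := isCyclic_of_prime_card rfl
      exact hG inferInstance
    · rw [h, Subgroup.index_top] at hH; omega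
  let ι : P0 →* G := (S : Subgroup G).subtype.comp eS.symm.toMonoidHom
  have hι : Function.Injective ι := Subtype.coe_injective.comp eS.symm.injective
  have hr : ι.range = (S : Subgroup G) := by
    rw [MonoidHom.range_comp, MonoidHom.range_eq_top.2 eS.symm.surjective, ← MonoidHom.range_eq_map,
      Subgroup.range_subtype]
  have hmemS : ∀ x : P0, ι x ∈ (S : Subgroup G) := fun x => hr ▸ ⟨x, rfl⟩
  have hcen : ∀ x : P0, (∀ y, x * y = y * x) → ι x ∈ Subgroup.centralizer ((S : Subgroup G) : Set G) := by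
    intro x hx
    rw [Subgroup.mem_centralizer_iff]
    intro s hs
    rw [SetLike.mem_coe, ← hr] at hs
    obtain ⟨y, rfl⟩ := hs
    rw [← map_mul, ← map_mul, hx y]
  -- Burnside: conjugation between central elements happens in the normalizer, which fixes `zz`
  have hburn : ∀ u v : P0, (∀ y, u * y = y * u) → (∀ y, v * y = y * v) → R ι u v →
      ∃ n : G, n * ι u * n⁻¹ = ι v ∧ n ∈ Subgroup.normalizer ((S : Subgroup G) : Set G) ∧
        n * ι zz * n⁻¹ = ι zz := by
    intro u v hu hv huv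
    obtain ⟨g, hg⟩ := isConj_iff.1 huv
    obtain ⟨n, hn, hn'⟩ := S.conj_eq_normalizer_conj_of_mem_centralizer (ι u) g⁻¹ (hcen u hu)
      (by simpa [hg] using hcen v hv)
    refine ⟨n⁻¹, by simpa [hg] using hn'.symm, inv_mem hn, ?_⟩
    have hn2 := inv_mem hn
    have h1 : n⁻¹ * ι (1, DihedralGroup.r 1) * n⁻¹⁻¹ ∈ (S : Subgroup G) :=
      ((Subgroup.mem_normalizer_iff.1 hn2) _).1 (hmemS _)
    rw [← hr] at h1
    obtain ⟨w, hw⟩ := h1
    have h2 : n⁻¹ * ι zz * n⁻¹⁻¹ = ι (w * w) := by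
      rw [map_mul, hw, basic2, map_mul]
      group
    rcases sq_cases w with h3 | h3
    · exfalso
      rw [h3, map_one, conj_eq_one_iff] at h2
      exact basic.2.2.1.2 (hι (h2.trans (map_one ι).symm))
    · rw [h2, h3]
  have hczc := basic3
  have hz : ¬ R ι cc zz := by
    intro h
    obtain ⟨n, h1, -, h2⟩ := hburn cc zz (fun y => (central y).1) (fun y => (central y).2) h
    rw [← h2] at h1
    exact basic4 (hι (mul_left_cancel (mul_right_cancel h1)))
  have hz' : ¬ R ι (cc * zz) zz := by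
    intro h
    obtain ⟨n, h1, -, h2⟩ := hburn _ zz hczc (fun y => (central y).2) h
    rw [← h2] at h1
    exact basic.2.2.2.2.2.2.1 (hι (mul_left_cancel (mul_right_cancel h1)))
  have hcz : ¬ R ι cc (cc * zz) := by
    intro h
    obtain ⟨n, h1, hn, h2⟩ := hburn cc _ (fun y => (central y).1) hczc h
    have h3 : n ^ 2 * ι cc * (n ^ 2)⁻¹ = ι cc := by
      have : n * ι (cc * zz) * n⁻¹ = ι cc := by
        rw [map_mul, show n * (ι cc * ι zz) * n⁻¹ = (n * ι cc * n⁻¹) * (n * ι zz * n⁻¹) by group, h1, h2,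
          ← map_mul, basic.2.2.2.2.2.1]
      rw [← h1] at this
      rw [pow_two]
      simpa [mul_assoc] using this
    obtain ⟨k, hk⟩ := Nat.odd_iff.2 (Nat.two_dvd_ne_zero.1
      (fun hd => S.not_dvd_index (hd.trans ⟨_, (Subgroup.relIndex_mul_index
        (Subgroup.le_normalizer (H := (S : Subgroup G)))).symm⟩)) :
          ((S : Subgroup G).relIndex (Subgroup.normalizer ((S : Subgroup G) : Set G))) % 2 = 1)
    have h4 : n ^ (2 * k + 1) ∈ (S : Subgroup G) := by
      have h5 := Subgroup.pow_index_mem ((S : Subgroup G).subgroupOf (Subgroup.normalizer ((S : Subgroup G) : Set G))) ⟨n, hn⟩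
      rw [← Subgroup.relIndex, hk] at h5
      simpa [Subgroup.mem_subgroupOf] using h5
    have h6 : n ^ (2 * k + 1) * ι cc = ι cc * n ^ (2 * k + 1) :=
      (Subgroup.mem_centralizer_iff.1 (hcen cc (fun y => (central y).1)) _ h4)
    have h7 : Commute (n ^ 2) (ι cc) := mul_inv_eq_iff_eq_mul.1 h3
    have h8 : (n ^ 2) ^ k * ι cc = ι cc * (n ^ 2) ^ k := h7.pow_left k
    have h9 : n * ι cc = ι cc * n := by
      rw [pow_succ', pow_mul] at h6
      have : n * ι cc * (n ^ 2) ^ k = ι cc * n * (n ^ 2) ^ k := by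
        rw [mul_assoc, ← h8, ← mul_assoc, h6, mul_assoc]
      exact mul_right_cancel this
    rw [h9, mul_assoc, mul_inv_cancel, mul_one] at h1
    exact basic.2.2.2.2.2.2.2 (hι h1)
  -- Thompson transfer
  have hall : ∀ u : P0, u * u = 1 → u ≠ 1 → ¬ R ι u zz →
      ∀ e d, R ι u (aa e 0) ∨ R ι u (aa d 1) := by
    intro u hu hu1 hnz e d
    obtain ⟨g, hg⟩ := Cfsg.Agent.Lib.Involution.exists_conj_mem_of_no_index_two hno S
      ((chiKer e d).map ι) (hr ▸ Subgroup.map_le_range _ _) (by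
        rw [← hr, MonoidHom.range_eq_map, Subgroup.relIndex_map_map_of_injective _ _ hι,
          Subgroup.relIndex_top_right, chiKer_index]) (ι u)
      (by rw [orderOf_injective ι hι]; exact orderOf_eq_prime (by rw [pow_two, hu]) hu1)
    obtain ⟨x, hx, hxg⟩ := hg
    have hR : R ι u x := isConj_iff.2 ⟨g, hxg.symm⟩
    have hxx : x * x = 1 := hι (by
      rw [map_mul, map_one, hxg, show g * ι u * g⁻¹ * (g * ι u * g⁻¹) = g * (ι u * ι u) * g⁻¹ by group,
        ← map_mul, hu, map_one]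
      group)
    have hx1 : x ≠ 1 := fun h => by
      rw [h, map_one, eq_comm, conj_eq_one_iff] at hxg
      exact hu1 (hι (hxg.trans (map_one ι).symm))
    rcases chi_invol e d x hx hxx hx1 with rfl | rfl | rfl | rfl | rfl
    · exact absurd hR hnz
    · exact Or.inl hR
    · obtain ⟨y, hy⟩ := (aa_conj e).1
      exact Or.inl (hR.trans (IsConj.symm (isConj_iff.2 ⟨ι y, by rw [← map_inv, ← map_mul, ← map_mul, hy]⟩)))
    · exact Or.inr hR
    · obtain ⟨y, hy⟩ := (aa_conj d).2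
      exact Or.inr (hR.trans (IsConj.symm (isConj_iff.2 ⟨ι y, by rw [← map_inv, ← map_mul, ← map_mul, hy]⟩)))
  have hside : ∀ u : P0, u * u = 1 → u ≠ 1 → ¬ R ι u zz →
      (R ι u (aa 0 0) ∧ R ι u (aa 1 0)) ∨ (R ι u (aa 0 1) ∧ R ι u (aa 1 1)) := by
    intro u h1 h2 h3
    have := hall u h1 h2 h3 0 0
    have := hall u h1 h2 h3 0 1
    have := hall u h1 h2 h3 1 0
    have := hall u h1 h2 h3 1 1
    tauto
  rcases hside cc basic.1.1 basic.1.2 hz, hside (cc * zz) basic.2.1.1 basic.2.1.2 hz' with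
    ⟨hc | hc, hy | hy⟩
  · exact hcz (hc.1.trans hy.1.symm)
  · exact key hno ι hι S hr hz hz' hcz hc hy
  · -- exchange the two classes of noncentral involutions
    let σ : P0 →* P0 := MonoidHom.mk' swapMap swap_mul
    have hσ : Function.Bijective σ := Finite.injective_iff_bijective.1
      swap_vals.2.2.2.2.2.2.2
    have hr' : (ι.comp σ).range = (S : Subgroup G) := by
      rw [MonoidHom.range_comp, MonoidHom.range_eq_top.2 hσ.2, ← MonoidHom.range_eq_map, hr]
    have e1 : σ cc = cc := swap_vals.1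
    have e2 : σ zz = zz := swap_vals.2.1
    have e3 : σ (cc * zz) = cc * zz := swap_vals.2.2.1
    obtain ⟨y0, hy0⟩ := (aa_conj 0).1
    obtain ⟨y1, hy1⟩ := (aa_conj 1).1
    refine key hno (ι.comp σ) (hι.comp hσ.1) S hr' ?_ ?_ ?_ ?_ ?_
    · simpa [R, e1, e2] using hz
    · simpa [R, e2, e3] using hz'
    · simpa [R, e1, e3] using hcz
    · constructor
      · simpa [R, e1, show σ (aa 0 0) = aa 0 1 from swap_vals.2.2.2.1] using hc.1
      · simpa [R, e1, show σ (aa 1 0) = aa 1 1 from swap_vals.2.2.2.2.1] using hc.2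
    · constructor
      · simpa [R, e3, show σ (aa 0 1) = aa 0 2 from swap_vals.2.2.2.2.2.1] using
          hy.1.trans (isConj_iff.2 ⟨ι y0, by rw [← map_inv, ← map_mul, ← map_mul, hy0]⟩)
      · simpa [R, e3, show σ (aa 1 1) = aa 1 2 from swap_vals.2.2.2.2.2.2.1] using
          hy.2.trans (isConj_iff.2 ⟨ι y1, by rw [← map_inv, ← map_mul, ← map_mul, hy1]⟩)
  · exact hcz (hc.1.trans hy.1.symm)

end Cfsg.Agent.S3309
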