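import Cfsg.Statements.S3313
import Cfsg.Agent.Lib.JankoTwoType.Adapter
import Cfsg.Agent.Lib.JankoTwoType.Order
-- import your own Cfsg.Agent.* helpers here

set_option autoImplicit false
open Cfsg

namespace Cfsg.Agent.S3313

/-- The order of a simple group with the involution pattern of the Hall–Janko group. Let G be a non-abelian finite simple group with exactly two conjugacy classes of involutions, represented by z and t, such that: F*(C_G(z)) is an extraspecial 2-group; Q = O₂(C_G(z)) has order 32 and C_G(z) is the semidirect product of Q by a subgroup isomorphic to A₅; every involution of Q is conjugate to z and every other involution of C_G(z) is conjugate to t; C_G(t) is an internal direct product V × B with V a four-group containing t and B ≅ A₅; every involution of B is conjugate to z and every other involution of C_G(t) is conjugate to t. Then |G| = 604800. -/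
theorem result {G : Type*} [Group G] [Finite G]
    [IsSimpleGroup G] (hna : ¬ IsMulCommutative G) (z t : G) (hz : orderOf z = 2) (ht : orderOf t = 2)
    (hzt : ¬ IsConj z t) (hcl : ∀ x : G, orderOf x = 2 → IsConj x z ∨ IsConj x t)
    (hex : Cfsg.IsExtraspecial 2 ↥(Cfsg.generalizedFittingSubgroup ↥(Subgroup.centralizer ({z} : Set G))))
    (hQ : Nat.card ↥(Cfsg.pCore 2 ↥(Subgroup.centralizer ({z} : Set G))) = 32)
    (K : Subgroup G) (hK : Nonempty (↥K ≃* alternatingGroup (Fin 5)))
    (hKC : K ⊔ (Cfsg.pCore 2 ↥(Subgroup.centralizer ({z} : Set G))).map (Subgroup.centralizer ({z} : Set G)).subtype = Subgroup.centralizer ({z} : Set G))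
    (hKQ : K ⊓ (Cfsg.pCore 2 ↥(Subgroup.centralizer ({z} : Set G))).map (Subgroup.centralizer ({z} : Set G)).subtype = ⊥)
    (hQz : ∀ x ∈ (Cfsg.pCore 2 ↥(Subgroup.centralizer ({z} : Set G))).map (Subgroup.centralizer ({z} : Set G)).subtype, orderOf x = 2 → IsConj x z)
    (hCz : ∀ x ∈ Subgroup.centralizer ({z} : Set G), orderOf x = 2 →
      x ∉ (Cfsg.pCore 2 ↥(Subgroup.centralizer ({z} : Set G))).map (Subgroup.centralizer ({z} : Set G)).subtype → IsConj x t)
    (V B : Subgroup G) (hVB : Cfsg.IsInternalDirectProduct V B (Subgroup.centralizer ({t} : Set G)))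
    (hV : Nat.card ↥V = 4) (hV2 : ∀ v ∈ V, v ^ 2 = 1) (htV : t ∈ V) (hB : Nonempty (↥B ≃* alternatingGroup (Fin 5)))
    (hBz : ∀ x ∈ B, orderOf x = 2 → IsConj x z)
    (hCt : ∀ x ∈ Subgroup.centralizer ({t} : Set G), orderOf x = 2 → x ∉ B → IsConj x t) :
    Nat.card G = 604800 := by
  haveI : Fact (Nat.Prime 2) := ⟨Nat.prime_two⟩
  set Qc := Cfsg.pCore 2 ↥(Subgroup.centralizer ({z} : Set G)) with hQc
  haveI hN : Qc.Normal := inferInstance
  have hF : Cfsg.generalizedFittingSubgroup ↥(Subgroup.centralizer ({z} : Set G)) = Qc :=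
    le_antisymm (le_sSup ⟨Cfsg.Agent.Lib.Components.generalizedFittingSubgroup_normal, hex.1.1⟩)
      ((Cfsg.Agent.Lib.Components.pCore_le_fittingSubgroup 2).trans le_sup_right)
  have hQe : Cfsg.IsExtraspecial 2 ↥Qc := hF ▸ hex
  -- the index of `Q`
  have hKle : K ≤ Subgroup.centralizer ({z} : Set G) := hKC ▸ le_sup_left
  have hK60 : Nat.card ↥K = 60 := by
    obtain ⟨e⟩ := hK
    rw [Nat.card_congr e.toEquiv, nat_card_alternatingGroup, Nat.card_fin]
    decide
  have hindex : Qc.index = 60 := by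
    rw [← hK60, Subgroup.index_eq_card]
    refine (Nat.card_eq_of_bijective
      (fun k : ↥K => ((⟨k, hKle k.2⟩ : ↥(Subgroup.centralizer ({z} : Set G))) :
        ↥(Subgroup.centralizer ({z} : Set G)) ⧸ Qc)) ⟨?_, ?_⟩).symm
    · intro a b hab
      have h := QuotientGroup.eq.mp hab
      refine Subtype.ext (inv_mul_eq_one.mp ?_)
      rw [← Subgroup.mem_bot, ← hKQ]
      exact Subgroup.mem_inf.mpr ⟨mul_mem (inv_mem a.2) b.2, ⟨_, h, rfl⟩⟩
    · intro q
      obtain ⟨c, rfl⟩ := QuotientGroup.mk_surjective q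
      have hc : c ∈ K.subgroupOf (Subgroup.centralizer ({z} : Set G)) ⊔ Qc := by
        have h : K.subgroupOf (Subgroup.centralizer ({z} : Set G)) ⊔ Qc = ⊤ := by
          refine Subgroup.map_injective (Subgroup.subtype_injective _) ?_
          rw [Subgroup.map_sup, Subgroup.map_subgroupOf_eq_of_le hKle, hKC, ← MonoidHom.range_eq_map,
            Subgroup.range_subtype]
        rw [h]; trivial
      obtain ⟨a, ha, b, hb, rfl⟩ := Subgroup.mem_sup_of_normal_right.mp hc
      refine ⟨⟨a, ha⟩, QuotientGroup.eq.mpr ?_⟩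
      simpa using hb
  have hcard : Nat.card (Subgroup.centralizer ({z} : Set G)) = 1920 := by
    rw [← Subgroup.card_mul_index Qc, hindex, hQ]
  -- a non-central involution of `Q`
  have hX := Cfsg.Agent.Lib.ExtraStruct.extraLike_of_isExtraspecial hQe
  obtain ⟨u, hu, hu2⟩ := Cfsg.Agent.Lib.ExtraStruct.hasInvolution_of_card hX (by rw [hQ]; norm_num)
  have hu1 : u ≠ 1 := fun h => hu (h ▸ one_mem _)
  have huz : (((u : ↥(Subgroup.centralizer ({z} : Set G)))) : G) ≠ z := fun h => hu
    (Subgroup.mem_center_iff.mpr fun x => Subtype.ext (Subtype.ext (by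
      simp only [Subgroup.coe_mul, h]
      exact (Subgroup.mem_centralizer_singleton_iff.mp (x : ↥(Subgroup.centralizer ({z} : Set G))).2))))
  have huo : orderOf (((u : ↥(Subgroup.centralizer ({z} : Set G)))) : G) = 2 := by
    rw [Subgroup.orderOf_coe, Subgroup.orderOf_coe]
    exact orderOf_eq_prime hu2 hu1
  have hself : Subgroup.centralizer (Qc : Set ↥(Subgroup.centralizer ({z} : Set G))) ≤ Qc := by
    have := Cfsg.Agent.Lib.Components.centralizer_generalizedFittingSubgroup_le
      (G := ↥(Subgroup.centralizer ({z} : Set G)))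
    rwa [hF] at this
  obtain ⟨P, hPz, -, hPu⟩ := Cfsg.Agent.Lib.JankoTwoType.exists_pre z hz Qc hself hQe hQ
    (by rw [hcard]; norm_num) u.1 u.2 huz
    (by rw [← pow_two, ← huo, pow_orderOf_eq_one])
    (fun h => hu1 (Subtype.ext (Subtype.ext h)))
  subst hPz
  exact Cfsg.Agent.Lib.JankoTwoType.Hyp.card_G
    ⟨P, hcard, hPu ▸ (hQz _ ⟨_, u.2, rfl⟩ huo).symm, ⟨P.z, t, hz, ht, hzt⟩⟩

end Cfsg.Agent.S3313
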