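import Mathlib
import Cfsg.Agent.Lib.Unitary3.SylowTwo
import Cfsg.Agent.Lib.TwoSquaring.InvolutoryAut
import Cfsg.Statements.S3315

set_option autoImplicit false
open Cfsg

namespace Cfsg.Agent.S3315

/-- Let S be a Sylow 2-subgroup of SU₃(2ⁿ), n ≥ 2 (realised over the field with 4ⁿ elements). If a finite 2-group R contains a subgroup S' of index 2 isomorphic to S, then the centre of S' is contained in the centre of R. -/
theorem result {R : Type*} [Group R] [Finite R]
    (hR : IsPGroup 2 R) (n : ℕ) (hn : 2 ≤ n) {F : Type*} [Field F] [Fintype F] (hF : Fintype.card F = 4 ^ n)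
    (P : Sylow 2 ↥(Cfsg.SU 3 F (2 ^ n))) (S' : Subgroup R) (hS : Nonempty (↥S' ≃* ↥(P : Subgroup ↥(Cfsg.SU 3 F (2 ^ n)))))
    (hidx : S'.index = 2) :
    (Subgroup.center ↥S').map S'.subtype ≤ Subgroup.center R := by
  haveI : Fact (Nat.Prime 2) := ⟨Nat.prime_two⟩
  haveI : CharP F 2 := by
    obtain ⟨p, hp⟩ := CharP.exists F
    obtain ⟨e, hpp, hcard⟩ := FiniteField.card F p
    have h2 : p ∣ 4 ^ n := by rw [← hF, hcard]; exact dvd_pow_self p e.pos.ne'
    have h3 : p ∣ 2 := hpp.dvd_of_dvd_pow (n := 2 * n) (by rw [pow_mul]; exact h2)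
    rw [(Nat.prime_dvd_prime_iff_eq hpp Nat.prime_two).mp h3] at hp
    exact hp
  have hF' : Fintype.card F = (2 ^ n) ^ 2 := by rw [hF, ← pow_mul, mul_comm, pow_mul]; norm_num
  have hq : 2 ≤ 2 ^ n := Nat.le_self_pow (by omega) 2
  obtain ⟨e⟩ := hS
  obtain ⟨e'⟩ := Lib.Unitary3.nonempty_sylow_equiv_unip (by omega : n ≠ 0) hF' P
  set E := e.trans e' with hE
  haveI : S'.Normal := Subgroup.normal_of_index_eq_two hidx
  rintro _ ⟨z, hz, rfl⟩
  rw [Subgroup.mem_center_iff]
  intro r
  let β : ↥S' ≃* ↥S' := MulAut.conjNormal r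
  have hr2 : r * r ∈ S' := Subgroup.mul_self_mem_of_index_two hidx r
  have hfix := Lib.TwoSquaring.fixes_center hq (Lib.Unitary3.natCard_unip hF')
    (Lib.Unitary3.natCard_center_unip hF' hq) (Lib.Unitary3.sq_mem_center_unip hF' hq)
    (Lib.Unitary3.sq_eq_one_iff_unip hF' hq)
    (fun y hy hy1 w hw hw1 => Lib.Unitary3.natCard_roots_eq hF' hq y w hy hy1 hw hw1)
    ((E.symm.trans β).trans E) (E ⟨r * r, hr2⟩) (fun x => by
      obtain ⟨y, rfl⟩ := E.surjective x
      simp only [MulEquiv.trans_apply, MulEquiv.symm_apply_apply]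
      rw [← map_inv E, ← map_mul, ← map_mul]
      refine congrArg E (Subtype.ext ?_)
      simp [β, MulAut.conjNormal_apply, mul_assoc])
    (E z) (by
      rw [Subgroup.mem_center_iff]
      intro g
      obtain ⟨g, rfl⟩ := E.surjective g
      rw [← map_mul, ← map_mul, Subgroup.mem_center_iff.mp hz g])
  simp only [MulEquiv.trans_apply, MulEquiv.symm_apply_apply] at hfix
  have h1 := congrArg Subtype.val (E.injective hfix)
  simp only [β, MulAut.conjNormal_apply] at h1
  exact mul_inv_eq_iff_eq_mul.mp h1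

end Cfsg.Agent.S3315
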