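import Cfsg.Statements.S3344
import Mathlib
import Cfsg.Agent.Lib.S3344.Types
import Cfsg.Agent.Lib.S3344.Fuse
import Cfsg.Agent.Lib.S3344.CaseA
import Cfsg.Agent.Lib.S3344.CaseB

set_option autoImplicit false
open Cfsg

namespace Cfsg.Agent.S3344

/-- Let G be a finite group with an involution s, L = C_G(s) and Q = O₂(L). Suppose Q is extraspecial of order 32, L/Q is isomorphic to Sym(3), C_Q(X) = ⟨s⟩ for a Sylow 3-subgroup X of L, and s is not weakly closed in Q with respect to G (some conjugate of s other than s lies in Q). Then either G has an elementary abelian normal subgroup of order 8 with quotient isomorphic to PSL(3,2), or G is isomorphic to the alternating group of degree 8 or 9, or to the Mathieu group M₁₂. -/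
theorem result {G : Type*} [Group G] [Finite G]
    (s : G) (hs : orderOf s = 2) (L : Subgroup G) (hL : L = Subgroup.centralizer ({s} : Set G))
    (Q : Subgroup G) (hQ : Q = (Cfsg.pCore 2 L).map L.subtype)
    (hQex : Cfsg.IsExtraspecial 2 Q) (hQcard : Nat.card Q = 32)
    (e : L ⧸ Cfsg.pCore 2 L ≃* Equiv.Perm (Fin 3))
    (X : Sylow 3 L) (hCQX : Q ⊓ Subgroup.centralizer (((X : Subgroup L).map L.subtype : Subgroup G) : Set G) = Subgroup.zpowers s)
    (hnwc : ∃ g : G, g * s * g⁻¹ ∈ Q ∧ g * s * g⁻¹ ≠ s) :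
    (∃ (N : Subgroup G) (hN : N.Normal), IsMulCommutative N ∧ (∀ n ∈ N, n ^ 2 = 1) ∧ Nat.card N = 8 ∧
        Nonempty (G ⧸ N ≃* Matrix.ProjectiveSpecialLinearGroup (Fin 3) (ZMod 2))) ∨
    Nonempty (G ≃* alternatingGroup (Fin 8)) ∨ Nonempty (G ≃* alternatingGroup (Fin 9)) ∨ Cfsg.Spor.IsoM12 G := by
  classical
  obtain ⟨f, sw, tau, hsw, htau, T, hcover⟩ :=
    Lib.S3344.exists_gens s hs L hL Q hQ hQex hQcard e X hCQX
  obtain ⟨g, hgQ, hgne⟩ := hnwc
  obtain ⟨a, ha, hfa⟩ := hcover _ hgQ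
  have ha' : a < 192 := by omega
  have hss : s * s = 1 := by rw [← pow_two, ← hs]; exact pow_orderOf_eq_one s
  have hs1 : s ≠ 1 := fun h => by rw [h, orderOf_one] at hs; exact absurd hs (by norm_num)
  have hsq : f a * f a = 1 := by
    rw [hfa, show g * s * g⁻¹ * (g * s * g⁻¹) = g * (s * s) * g⁻¹ by group, hss]; group
  have hconj : IsConj s (f a) := isConj_iff.2 ⟨g, hfa.symm⟩
  have ha16 : a ≠ 16 := fun h => hgne (by rw [← hfa, h, T.inv_eq])
  have ha0 : a ≠ 0 := fun h => hs1 (by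
    rw [h, T.one] at hfa
    exact conj_eq_one_iff.1 hfa.symm)
  obtain rfl := Lib.S3344.tau_eq_zero T hsw htau ha ha0 ha16 hsq hconj
  have ha2 : Lib.S3344.mulL sw 0 a a = 0 := T.inj _ (Lib.S3344.mulL_lt ..) _ (by norm_num) (by
    rw [T.mul a ha' a ha', hsq, T.one])
  rcases (show sw = 0 ∨ sw = 1 by omega) with rfl | rfl
  · obtain ⟨hlt, hback, hcls⟩ := Lib.S3344.Tab.class_of_twelve ha ha0 ha16 ha2
    rcases Lib.S3344.caseA s _ T.twelve ⟨_, hlt, hcls, by simp only [hback]; exact hconj⟩ with h | h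
    · exact Or.inl h
    · exact Or.inr (Or.inr (Or.inr h))
  · rcases Lib.S3344.caseB hs T.toB ha ha0 ha16
      (by rw [Lib.S3344.mulB_eq ha' ha']; exact ha2) hconj with h | h | h
    · exact Or.inl h
    · exact Or.inr (Or.inl h)
    · exact Or.inr (Or.inr (Or.inl h))

end Cfsg.Agent.S3344
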