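import Cfsg.Statements.S3349
import Mathlib
-- import your own Cfsg.Agent.* helpers here

set_option autoImplicit false
open Cfsg

namespace Cfsg.Agent.S3349

/-- Let Q be a finite extraspecial p-group and α an automorphism of Q fixing every element of some maximal abelian subgroup of Q. Then the order of α is a power of p. -/
theorem result {Q : Type*} [Group Q] [Finite Q]
    (p : ℕ) [Fact p.Prime] (hQ : Cfsg.IsExtraspecial p Q) (α : MulAut Q)
    (A : Subgroup Q) (hA : IsMulCommutative A) (hmax : ∀ B : Subgroup Q, A ≤ B → IsMulCommutative B → B = A)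
    (hfix : ∀ a ∈ A, α a = a) :
    ∃ k : ℕ, orderOf α = p ^ k := by
  obtain ⟨⟨hP, hfr, hcomm⟩, hcard⟩ := hQ
  have hAc : ∀ a ∈ A, ∀ b ∈ A, a * b = b * a := fun a ha b hb =>
    congrArg Subtype.val (mul_comm' (⟨a, ha⟩ : A) ⟨b, hb⟩)
  have key : ∀ c : Q, (∀ a ∈ A, c * a = a * c) → c ∈ A := by
    intro c hc
    have hB : ∀ x ∈ insert c (A : Set Q), ∀ y ∈ insert c (A : Set Q), x * y = y * x := by
      rintro x (rfl | hx) y (rfl | hy)
      · rfl
      · exact hc y hy
      · exact (hc x hx).symm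
      · exact hAc x hx y hy
    have h := hmax (Subgroup.closure (insert c (A : Set Q)))
      (fun a ha => Subgroup.subset_closure (Set.mem_insert_of_mem _ ha))
      (Subgroup.isMulCommutative_closure hB)
    rw [← h]
    exact Subgroup.subset_closure (Set.mem_insert _ _)
  have hZA : Subgroup.center Q ≤ A := fun z hz => key z fun a _ =>
    (Subgroup.mem_center_iff.mp hz a).symm
  have hn : ∀ g : Q, ∀ a ∈ A, g * a * g⁻¹ ∈ A := by
    intro g a ha
    have h1 : g * a * g⁻¹ * a⁻¹ ∈ A :=
      hZA (hcomm ▸ Subgroup.commutator_mem_commutator (Subgroup.mem_top g) (Subgroup.mem_top a))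
    simpa [mul_assoc] using A.mul_mem h1 ha
  have hc : ∀ g : Q, g⁻¹ * α g ∈ A := by
    intro g
    refine key _ fun a ha => ?_
    have h2 := hfix _ (hn g a ha)
    rw [map_mul, map_mul, map_inv, hfix a ha] at h2
    calc g⁻¹ * α g * a = g⁻¹ * (α g * a * (α g)⁻¹) * α g := by group
      _ = g⁻¹ * (g * a * g⁻¹) * α g := by rw [h2]
      _ = a * (g⁻¹ * α g) := by group
  have hpow : ∀ (n : ℕ) (g : Q), (α ^ n) g = g * (g⁻¹ * α g) ^ n := by
    intro n g
    induction n with
    | zero => simp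
    | succ n ih =>
      rw [pow_succ', MulAut.mul_apply, ih, map_mul, map_pow, hfix _ (hc g),
        pow_succ' (g⁻¹ * α g) n, ← mul_assoc g, mul_inv_cancel_left]
  obtain ⟨k, hk⟩ := (hP.to_subgroup A).exists_card_eq
  have : α ^ (p ^ k) = 1 := by
    ext g
    rw [hpow, MulAut.one_apply]
    have h3 := congrArg Subtype.val (pow_card_eq_one' (x := (⟨_, hc g⟩ : A)))
    rw [hk] at h3
    push_cast at h3
    rw [h3, mul_one]
  obtain ⟨j, -, hj⟩ := (Nat.dvd_prime_pow Fact.out).mp (orderOf_dvd_of_pow_eq_one this)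
  exact ⟨j, hj⟩

end Cfsg.Agent.S3349
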