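import Cfsg.Statements.S3356
import Mathlib
import Cfsg.Agent.Lib.Perm.HalfTransitiveWielandt
-- import your own Cfsg.Agent.* helpers here

set_option autoImplicit false
open Cfsg
open scoped commutatorElement
open Cfsg.Agent.Lib

namespace Cfsg.Agent.S3356

/-- Let G be a finite 3/2-transitive permutation group: G acts faithfully and transitively on a finite set, the point stabilizers are non-trivial, and for each point a all orbits of G_a on the remaining points have the same size. Suppose G has a regular normal subgroup N and G is not a Frobenius group (some two-point stabilizer is non-trivial). Then N is an elementary abelian p-group for some prime p, and every non-trivial normal subgroup of G contains N (so N is the unique minimal normal subgroup). -/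
theorem result {G Ω : Type*} [Group G] [Finite G]
    [MulAction G Ω] [FaithfulSMul G Ω] [Finite Ω] (htrans : MulAction.IsPretransitive G Ω)
    (hne : ∀ a : Ω, MulAction.stabilizer G a ≠ ⊥)
    (hhalf : ∀ a b c : Ω, b ≠ a → c ≠ a →
      Nat.card (MulAction.orbit (MulAction.stabilizer G a) b) = Nat.card (MulAction.orbit (MulAction.stabilizer G a) c))
    (N : Subgroup G) [hN : N.Normal] (hNt : MulAction.IsPretransitive N Ω) (hNr : ∀ a : Ω, MulAction.stabilizer N a = ⊥)
    (hnotF : ∃ a b : Ω, a ≠ b ∧ MulAction.stabilizer G a ⊓ MulAction.stabilizer G b ≠ ⊥) :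
    (∃ p : ℕ, p.Prime ∧ IsMulCommutative N ∧ ∀ x ∈ N, x ^ p = 1) ∧
    (∀ M : Subgroup G, M.Normal → M ≠ ⊥ → N ≤ M) := by
  classical
  obtain ⟨a, b₀, hab₀, hnf⟩ := hnotF
  set A := MulAction.stabilizer G a with hA
  have hmax : ∀ X : Subgroup G, A < X → X = ⊤ := fun X hX =>
    HalfTransitive.eq_top_of_stabilizer_lt hhalf ⟨a, b₀, hab₀, hnf⟩ a hX
  have hfree : ∀ n ∈ N, n • a = a → n = 1 := fun n hn h => by
    have h1 : (⟨n, hn⟩ : N) ∈ MulAction.stabilizer N a := h
    rw [hNr, Subgroup.mem_bot] at h1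
    exact congrArg Subtype.val h1
  -- `N` is a minimal normal subgroup
  have hmin : ∀ M : Subgroup G, M.Normal → M ≤ N → M = ⊥ ∨ M = N := by
    intro M hM hMN
    by_cases hMb : M = ⊥
    · exact Or.inl hMb
    refine Or.inr (le_antisymm hMN fun n hn => ?_)
    have htop : A ⊔ M = ⊤ := by
      refine hmax _ (lt_of_le_of_ne le_sup_left fun h => hMb ?_)
      rw [eq_bot_iff]
      intro m hm
      rw [Subgroup.mem_bot]
      exact hfree m (hMN hm) ((h.symm ▸ Subgroup.mem_sup_right hm : m ∈ A))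
    obtain ⟨m, hm, h, hh, hmh⟩ : ∃ m ∈ M, ∃ h ∈ A, m * h = n := by
      have hn' : n ∈ M ⊔ A := by rw [sup_comm, htop]; trivial
      exact Subgroup.mem_sup_of_normal_left.mp hn'
    have h1 : h ∈ N := by
      have := N.mul_mem (N.inv_mem (hMN hm)) hn
      rwa [← hmh, inv_mul_cancel_left] at this
    rw [← hmh, hfree h h1 hh, mul_one]
    exact hm
  -- centralizers in `A` of elements of `N`
  let cent : G → Subgroup G := fun x => A ⊓ MulAction.stabilizer G (x • a)
  have hcent : ∀ x ∈ N, ∀ k, k ∈ cent x ↔ (k ∈ A ∧ k * x * k⁻¹ = x) := by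
    intro x hx k
    constructor
    · rintro ⟨hk, hkx⟩
      refine ⟨hk, ?_⟩
      have h1 : (x⁻¹ * (k * x * k⁻¹)) • a = a := by
        rw [mul_smul, mul_smul, mul_smul, (inv_smul_eq_iff.mpr hk.symm : k⁻¹ • a = a),
          (hkx : k • x • a = x • a), inv_smul_smul]
      exact (inv_mul_eq_one.mp (hfree _ (N.mul_mem (N.inv_mem hx) (hN.conj_mem x hx k)) h1)).symm
    · rintro ⟨hk, hkx⟩
      refine ⟨hk, ?_⟩
      show k • x • a = x • a
      conv_rhs => rw [← hkx, mul_smul, mul_smul, (inv_smul_eq_iff.mpr hk.symm : k⁻¹ • a = a)]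
  have hne' : ∀ x ∈ N, x ≠ 1 → a ≠ x • a := fun x hx h1 h => h1 (hfree x hx h.symm)
  have hcentle : ∀ x ∈ N, ∀ y ∈ N, x ≠ 1 → y ≠ 1 → cent x ≤ cent y → cent x = cent y := by
    intro x hx y hy hx1 hy1 h
    exact HalfTransitive.twoPoint_eq_of_le hhalf (hne' x hx hx1) (hne' y hy hy1) h
  -- the common orbit length is prime to `|N|`
  have hcardN : Nat.card N = Nat.card Ω := by
    refine Nat.card_congr (Equiv.ofBijective (fun n : N => (n : G) • a) ⟨fun u v h => ?_, fun w => ?_⟩)
    · refine Subtype.ext (inv_mul_eq_one.mp (hfree _ (N.mul_mem (N.inv_mem v.2) u.2) ?_)).symm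
      simp only at h
      rw [mul_smul, h, inv_smul_smul]
    · obtain ⟨n, hn⟩ := MulAction.exists_smul_eq N a w
      exact ⟨n, hn⟩
  set s := (MulAction.orbit A b₀).ncard with hs
  have hs' : ∀ b, b ≠ a → (MulAction.orbit A b).ncard = s := fun b hb => by
    rw [hs, ← Nat.card_coe_set_eq, ← Nat.card_coe_set_eq]
    exact hhalf a b b₀ hb hab₀.symm
  have hsN : s ∣ Nat.card N - 1 := by
    have h := HalfTransitive.dvd_ncard_of_orbits (K := ↥A) ((Set.univ : Set Ω) \ {a}) ?_
      (fun t ht => hs' t ht.2)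
    · rwa [Set.ncard_sdiff_singleton_of_mem (Set.mem_univ a), Set.ncard_univ, ← hcardN] at h
    · rintro ⟨k, hk⟩ t ⟨-, ht⟩
      refine ⟨trivial, fun h => ht ?_⟩
      exact smul_left_cancel k (h.trans (hk : k • a = a).symm)
  -- `A_x` fixes the whole `N`-class of `x`
  have hclass : ∀ x ∈ N, x ≠ 1 → ∀ n ∈ N, cent x = cent (n * x * n⁻¹) := by
    intro x hx hx1 n₀ hn₀
    let Cl : Set G := {y | ∃ n ∈ N, y = n * x * n⁻¹}
    have hClN : ∀ y ∈ Cl, y ∈ N := by
      rintro y ⟨n, -, rfl⟩; exact hN.conj_mem x hx n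
    have hCl1 : ∀ y ∈ Cl, y ≠ 1 := by
      rintro y ⟨n, -, rfl⟩ h; exact hx1 (conj_eq_one_iff.mp h)
    let K : Subgroup G := A ⊓ (Subgroup.normalizer (Cl : Set G))
    let act : MulAction K G := MulAction.compHom G (MulAut.conj.comp K.subtype)
    have hK : ∀ y ∈ Cl, cent y ≤ K := by
      intro y hy k hk
      have hkc := (hcent y (hClN y hy) k).mp hk
      refine ⟨hkc.1, ?_⟩
      obtain ⟨n, hn, rfl⟩ := hy
      have key : ∀ z ∈ Cl, k * z * k⁻¹ ∈ Cl := by
        rintro z ⟨m, hm, rfl⟩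
        refine ⟨k * (m * n⁻¹) * k⁻¹ * n,
          N.mul_mem (hN.conj_mem _ (N.mul_mem hm (N.inv_mem hn)) k) hn, ?_⟩
        calc k * (m * x * m⁻¹) * k⁻¹
            = k * (m * n⁻¹) * k⁻¹ * (k * (n * x * n⁻¹) * k⁻¹) * (k * (m * n⁻¹) * k⁻¹)⁻¹ := by group
          _ = k * (m * n⁻¹) * k⁻¹ * (n * x * n⁻¹) * (k * (m * n⁻¹) * k⁻¹)⁻¹ := by rw [hkc.2]
          _ = _ := by group
      exact Subgroup.mem_normalizer_fintype key
    have hKorb : ∀ y ∈ Cl, (MulAction.orbit K y).ncard * Nat.card ↥(cent y) = Nat.card K := by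
      intro y hy
      rw [← MulAction.index_stabilizer]
      have h : Nat.card ↥(MulAction.stabilizer K y) = Nat.card ↥(cent y) :=
        Nat.card_congr
          { toFun := fun k => ⟨(k : K), (hcent y (hClN y hy) _).mpr ⟨(k : K).2.1, k.2⟩⟩
            invFun := fun g => ⟨⟨g, hK y hy g.2⟩, ((hcent y (hClN y hy) g).mp g.2).2⟩
            left_inv := fun k => rfl
            right_inv := fun g => rfl }
      rw [mul_comm, ← h, Subgroup.card_mul_index]
    have hxCl : x ∈ Cl := ⟨1, N.one_mem, by simp⟩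
    set e := (MulAction.orbit K x).ncard with he
    have hKinv : ∀ (k : K), ∀ y ∈ Cl, k • y ∈ Cl := fun k y hy =>
      (Subgroup.mem_set_normalizer_iff.mp k.2.2 y).mp hy
    have he' : ∀ y ∈ Cl, (MulAction.orbit K y).ncard = e := by
      intro y hy
      have h := hKorb y hy
      rw [← hKorb x hxCl, HalfTransitive.card_twoPoint_eq hhalf (hne' y (hClN y hy) (hCl1 y hy))
        (hne' x hx hx1)] at h
      exact Nat.eq_of_mul_eq_mul_right Nat.card_pos h
    have heN : e ∣ Nat.card N := by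
      refine (HalfTransitive.dvd_ncard_of_orbits Cl hKinv he').trans ?_
      let actN : MulAction N G := MulAction.compHom G (MulAut.conj.comp N.subtype)
      have h2 : Cl = MulAction.orbit N x := by
        ext y
        constructor
        · rintro ⟨n, hn, rfl⟩; exact ⟨⟨n, hn⟩, rfl⟩
        · rintro ⟨n, rfl⟩; exact ⟨n, n.2, rfl⟩
      rw [h2, ← MulAction.index_stabilizer]
      exact Subgroup.index_dvd_card _
    have hes : e ∣ s := by
      refine ⟨K.relIndex A, Nat.eq_of_mul_eq_mul_right (Nat.card_pos (α := ↥(cent x))) ?_⟩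
      rw [← hs' (x • a) (hne' x hx hx1).symm, HalfTransitive.ncard_orbit_mul_card, mul_comm e,
        mul_assoc, hKorb x hxCl, mul_comm, ← Subgroup.relIndex_bot_left, ← Subgroup.relIndex_bot_left,
        Subgroup.relIndex_mul_relIndex _ _ _ bot_le inf_le_left]
    have he1 : e = 1 :=
      Nat.eq_one_of_dvd_coprimes ((Nat.coprime_self_sub_left Nat.card_pos).mpr
        (Nat.coprime_one_left (Nat.card N))) (hes.trans hsN) heN
    have hcK : ∀ y ∈ Cl, cent y = K := fun y hy =>
      Subgroup.eq_of_le_of_card_ge (hK y hy) (by rw [← hKorb y hy, he' y hy, he1, one_mul])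
    rw [hcK x hxCl, hcK _ ⟨n₀, hn₀, rfl⟩]
  -- `N` is abelian
  have hNcomm : ∀ x ∈ N, ∀ y ∈ N, x * y = y * x := by
    by_contra hcon
    let Z : Subgroup G := N ⊓ Subgroup.centralizer (N : Set G)
    have hZ : Z = ⊥ := by
      refine (hmin Z inferInstance inf_le_left).resolve_right fun h => hcon fun x hx y hy => ?_
      exact ((h.symm ▸ hy : y ∈ Z).2 x hx)
    have hnc : ∀ x ∈ N, x ≠ 1 → ∃ y ∈ N, x * y ≠ y * x := by
      intro x hx hx1
      by_contra! h
      exact hx1 (Subgroup.mem_bot.mp (hZ ▸ ⟨hx, fun y hy => (h y hy).symm⟩))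
    have hone : ∀ x y : G, x * y ≠ y * x → x ≠ 1 ∧ y ≠ 1 := fun x y h =>
      ⟨fun e => h (by rw [e, one_mul, mul_one]), fun e => h (by rw [e, one_mul, mul_one])⟩
    have hpair : ∀ x ∈ N, ∀ y ∈ N, x * y ≠ y * x → cent x = cent y := by
      intro x hx y hy hxy
      obtain ⟨hx1, hy1⟩ := hone x y hxy
      set c := ⁅x, y⁆ with hc
      have hc1 : c ≠ 1 := fun h => hxy (commutatorElement_eq_one_iff_mul_comm.mp h)
      have hcN : c ∈ N :=
        N.mul_mem (N.mul_mem (N.mul_mem hx hy) (N.inv_mem hx)) (N.inv_mem hy)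
      refine (hcentle x hx c hcN hx1 hc1 fun k hk => ?_).trans
        (hcentle y hy c hcN hy1 hc1 fun k hk => ?_).symm
      · rw [hcent c hcN]
        obtain ⟨hkA, hkx⟩ := (hcent x hx k).mp hk
        obtain ⟨-, hky⟩ := (hcent _ (hN.conj_mem x hx y) k).mp ((hclass x hx hx1 y hy) ▸ hk)
        refine ⟨hkA, ?_⟩
        calc k * c * k⁻¹ = (k * x * k⁻¹) * (k * (y * x * y⁻¹) * k⁻¹)⁻¹ := by
              rw [hc, commutatorElement_def]; group
          _ = x * (y * x * y⁻¹)⁻¹ := by rw [hkx, hky]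
          _ = c := by rw [hc, commutatorElement_def]; group
      · rw [hcent c hcN]
        obtain ⟨hkA, hky⟩ := (hcent y hy k).mp hk
        obtain ⟨-, hkx⟩ := (hcent _ (hN.conj_mem y hy x) k).mp ((hclass y hy hy1 x hx) ▸ hk)
        refine ⟨hkA, ?_⟩
        calc k * c * k⁻¹ = (k * (x * y * x⁻¹) * k⁻¹) * (k * y * k⁻¹)⁻¹ := by
              rw [hc, commutatorElement_def]; group
          _ = x * y * x⁻¹ * y⁻¹ := by rw [hkx, hky]
          _ = c := by rw [hc, commutatorElement_def]
    -- any two nontrivial elements have a common non-commuting partner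
    have hall : ∀ x ∈ N, x ≠ 1 → ∀ y ∈ N, y ≠ 1 → cent x = cent y := by
      intro x hx hx1 y hy hy1
      obtain ⟨u, hu, hxu⟩ := hnc x hx hx1
      obtain ⟨v, hv, hyv⟩ := hnc y hy hy1
      by_cases h1 : y * u = u * y
      · by_cases h2 : x * v = v * x
        · have h3 : x * (u * v) ≠ (u * v) * x := fun h => hxu (by
            apply mul_right_cancel (b := v)
            calc x * u * v = x * (u * v) := by group
              _ = u * v * x := h
              _ = u * (v * x) := by group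
              _ = u * x * v := by rw [← h2]; group)
          have h4 : y * (u * v) ≠ (u * v) * y := fun h => hyv (by
            apply mul_left_cancel (a := u)
            calc u * (y * v) = (u * y) * v := by group
              _ = y * (u * v) := by rw [← h1]; group
              _ = u * (v * y) := by rw [h]; group)
          exact (hpair x hx _ (N.mul_mem hu hv) h3).trans (hpair y hy _ (N.mul_mem hu hv) h4).symm
        · exact (hpair x hx v hv h2).trans (hpair y hy v hv hyv).symm
      · exact (hpair x hx u hu hxu).trans (hpair y hy u hu h1).symm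
    obtain ⟨k, hk, hk1⟩ := (Subgroup.bot_or_exists_ne_one _).resolve_left hnf
    obtain ⟨⟨n₀, hn₀⟩, hnb : n₀ • a = b₀⟩ := MulAction.exists_smul_eq N a b₀
    have hn1 : n₀ ≠ 1 := fun h => hab₀ (by rw [← hnb, h, one_smul])
    have hk0 : k ∈ cent n₀ := by
      show k ∈ A ⊓ MulAction.stabilizer G (n₀ • a)
      rw [hnb]; exact hk
    refine hk1 (eq_of_smul_eq_smul fun w : Ω => ?_)
    rw [one_smul]
    obtain ⟨⟨n, hn⟩, rfl⟩ : ∃ n : N, (n : G) • a = w := MulAction.exists_smul_eq N a w
    by_cases hn' : n = 1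
    · subst hn'
      show k • (1 : G) • a = (1 : G) • a
      rw [one_smul]
      exact hk.1
    · exact ((hall n₀ hn₀ hn1 n hn hn') ▸ hk0).2
  have hNne : N ≠ ⊥ := by
    intro h
    obtain ⟨⟨n₀, hn₀⟩, hnb : n₀ • a = b₀⟩ := MulAction.exists_smul_eq N a b₀
    rw [h, Subgroup.mem_bot] at hn₀
    exact hab₀ (by rw [← hnb, hn₀, one_smul])
  refine ⟨?_, fun M hM hMne => ?_⟩
  · obtain ⟨p, hp, hpd⟩ := Nat.exists_prime_and_dvd (mt Subgroup.card_eq_one.mp hNne)
    have := Fact.mk hp
    refine ⟨p, hp, ⟨⟨fun u v => Subtype.ext (hNcomm u u.2 v v.2)⟩⟩, ?_⟩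
    let T : Subgroup G :=
      { carrier := {x | x ∈ N ∧ x ^ p = 1}
        one_mem' := ⟨N.one_mem, one_pow p⟩
        mul_mem' := fun {x y} hx hy => ⟨N.mul_mem hx.1 hy.1, by
          rw [Commute.mul_pow (hNcomm x hx.1 y hy.1), hx.2, hy.2, one_mul]⟩
        inv_mem' := fun {x} hx => ⟨N.inv_mem hx.1, by rw [inv_pow, hx.2, inv_one]⟩ }
    have hTn : T.Normal := ⟨fun t ht g => ⟨hN.conj_mem t ht.1 g, by
      rw [conj_pow, ht.2, mul_one, mul_inv_cancel]⟩⟩
    obtain ⟨u, hu⟩ := exists_prime_orderOf_dvd_card' p hpd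
    have hT : T = N := (hmin T hTn (fun x hx => hx.1)).resolve_left fun h => by
      have huT : (u : G) ∈ T := ⟨u.2, by rw [← hu, ← Subgroup.orderOf_coe, pow_orderOf_eq_one]⟩
      rw [h, Subgroup.mem_bot] at huT
      rw [← Subgroup.orderOf_coe, huT, orderOf_one] at hu
      exact hp.ne_one hu.symm
    intro x hx
    exact (hT.symm ▸ hx : x ∈ T).2
  · rcases hmin (M ⊓ N) inferInstance inf_le_right with h | h
    · exfalso
      apply hMne
      rw [eq_bot_iff]
      intro m hm
      have hmc : ∀ n ∈ N, n * m = m * n := by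
        intro n hn
        have h1 : n * m * n⁻¹ * m⁻¹ ∈ M ⊓ N := by
          refine ⟨M.mul_mem (hM.conj_mem m hm n) (M.inv_mem hm), ?_⟩
          rw [mul_assoc, mul_assoc, ← mul_assoc m]
          exact N.mul_mem hn (hN.conj_mem _ (N.inv_mem hn) m)
        rw [h, Subgroup.mem_bot, mul_inv_eq_one] at h1
        exact mul_inv_eq_iff_eq_mul.mp h1
      obtain ⟨⟨n, hn⟩, hna : n • a = m • a⟩ := MulAction.exists_smul_eq N a (m • a)
      have hfix : (n⁻¹ * m) • a = a := by rw [mul_smul, ← hna, inv_smul_smul]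
      have hmn : n⁻¹ * m = 1 := by
        refine eq_of_smul_eq_smul fun w : Ω => ?_
        obtain ⟨⟨v, hv⟩, rfl⟩ : ∃ v : N, (v : G) • a = w := MulAction.exists_smul_eq N a w
        rw [one_smul, smul_smul]
        have h5 : n⁻¹ * m * v = v * (n⁻¹ * m) := by
          rw [mul_assoc, ← hmc v hv, ← mul_assoc, ← mul_assoc, hNcomm v hv _ (N.inv_mem hn)]
        rw [show n⁻¹ * m * ((⟨v, hv⟩ : N) : G) = v * (n⁻¹ * m) from h5, mul_smul, hfix]
      have hmN : m ∈ N := by rw [inv_mul_eq_one] at hmn; exact hmn ▸ hn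
      rw [← h]
      exact ⟨hm, hmN⟩
    · exact h.symm.le.trans inf_le_left

end Cfsg.Agent.S3356
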