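import Cfsg.Statements.S3362
import Mathlib
import Cfsg.Agent.Lib.Compute.Perm
-- import your own Cfsg.Agent.* helpers here

set_option autoImplicit false
open Cfsg

namespace Cfsg.Agent.S3362

open Cfsg.Agent.Lib.Compute

/-- Generators, with inverses. -/
def gens12 : List (ℕ × ℕ) := [(0x9ba687354210, 0xa9b768435210), (0x543ba9876210, 0x876543ba9210), (0xa74b85963210, 0x8b57a4693210), (0x49865ab73210, 0x56a9487b3210), (0x95746b8a3210, 0x64b597a83210), (0x98ba67540213, 0x98ba67540213), (0x876ba9543201, 0x876ba9543201), (0x687a9b543120, 0x687a9b543120)]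

/-- The first seven generators. -/
def gens11 : List (ℕ × ℕ) := [(0x9ba687354210, 0xa9b768435210), (0x543ba9876210, 0x876543ba9210), (0xa74b85963210, 0x8b57a4693210), (0x49865ab73210, 0x56a9487b3210), (0x95746b8a3210, 0x64b597a83210), (0x98ba67540213, 0x98ba67540213), (0x876ba9543201, 0x876ba9543201)]

def chain12Orb0 : Tree := (.node (.node (.node (.node .leaf ⟨0, 0xa9b687543102, 0x9ba768543021, 2, 1, 6⟩ .leaf) ⟨1, 0x687a9b543120, 0x687a9b543120, 1, 2, 7⟩ (.node .leaf ⟨2, 0xba9876543210, 0xba9876543210, 0, 2, 0⟩ .leaf)) ⟨3, 0xb6a978542103, 0xb9867a540321, 3, 0, 5⟩ (.node (.node .leaf ⟨4, 0x6ab789425103, 0x9a678b350421, 4, 3, 0⟩ .leaf) ⟨5, 0xab6897254103, 0xab7869430521, 5, 4, 0⟩ .leaf)) ⟨6, 0x978542b6a103, 0x53b9a4870621, 4, 3, 1⟩ (.node (.node (.node .leaf ⟨7, 0x7894256ab103, 0x349ab5680721, 5, 4, 1⟩ .leaf) ⟨8, 0x897254ab6103, 0x45ab93760821, 6, 5, 1⟩ .leaf) ⟨9, 0x542b6a978103,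 0x865347ba0921, 5, 6, 1⟩ (.node (.node .leaf ⟨10, 0x9264b8a75103, 0x75b649380a21, 5, 4, 4⟩ .leaf) ⟨11, 0x269b8475a103, 0x83975a460b21, 5, 6, 4⟩ .leaf)))

def chain12Orb1 : Tree := (.node (.node (.node (.node .leaf ⟨0, 0xba9876543210, 0xba9876543210, 0, 0, 0⟩ .leaf) ⟨1, 0xb946758a1203, 0xb4a578690231, 2, 3, 0⟩ .leaf) ⟨3, 0x7584ba960231, 0x7659b4a81203, 1, 0, 0⟩ (.node (.node .leaf ⟨4, 0x9b64578012a3, 0xa1b569780234, 4, 6, 0⟩ .leaf) ⟨5, 0x4685a907b231, 0x37694a8b1205, 4, 6, 1⟩ .leaf)) ⟨6, 0x578690b4a231, 0x5379a8b41206, 3, 7, 1⟩ (.node (.node (.node .leaf ⟨7, 0x64870ba59231, 0x65398b4a1207, 2, 3, 1⟩ .leaf) ⟨8, 0xb570164a8293, 0xb41396a50278, 4, 11, 1⟩ .leaf) ⟨9, 0x140ab5763289, 0x7801546a32b9, 5, 8, 0⟩ (.node (.node .leaf ⟨10, 0xa07b81654293, 0x8b179543026a, 5, 8, 1⟩ .leaf) ⟨11, 0xa75648b1293, 0x4a159786023b, 3, 7, 0⟩ .leaf)))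

def chain12Orb2 : Tree := (.node (.node (.node (.node .leaf ⟨1, 0xba9876543210, 0xba9876543210, 0, 1, 0⟩ .leaf) ⟨3, 0xa735b6481290, 0x7b14a6859230, 1, 1, 0⟩ .leaf) ⟨4, 0x3679a481b250, 0x37859a16b240, 2, 3, 1⟩ (.node (.node .leaf ⟨5, 0x6ab834195270, 0x9a481b367250, 3, 4, 0⟩ .leaf) ⟨6, 0xb4a761953280, 0xb951874a3260, 4, 5, 1⟩ .leaf)) ⟨7, 0x67a5189342b0, 0x1956ab834270, 4, 11, 0⟩ (.node (.node (.node .leaf ⟨8, 0x96a1b5437280, 0x79b13a654280, 1, 1, 1⟩ .leaf) ⟨9, 0x7b14a6859230, 0xa735b6481290, 2, 3, 0⟩ .leaf) ⟨10, 0x71496835b2a0, 0x3186b74952a0, 5, 7, 0⟩ (.node .leaf ⟨11, 0x16b37859a240, 0x93467a5182b0, 3, 9, 1⟩ .leaf)))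

def chain12Orb3 : Tree := (.node (.node (.node (.node .leaf ⟨3, 0xba9876543210, 0xba9876543210, 0, 3, 0⟩ .leaf) ⟨4, 0x9845a673b210, 0x37ba56894210, 3, 7, 1⟩ .leaf) ⟨5, 0xb647593a8210, 0xb4638a795210, 4, 4, 1⟩ (.node .leaf ⟨6, 0x597a8364b210, 0x38a795b46210, 2, 11, 0⟩ .leaf)) ⟨7, 0x6b4a38579210, 0xa8364b597210, 2, 8, 1⟩ (.node (.node (.node .leaf ⟨8, 0x89437ba56210, 0x65ab73498210, 1, 3, 0⟩ .leaf) ⟨9, 0x543ba9876210, 0x876543ba9210, 4, 4, 0⟩ .leaf) ⟨10, 0xb376a5489210, 0xb7349865a210, 3, 6, 1⟩ (.node .leaf ⟨11, 0x36958b47a210, 0x63974a85b210, 1, 3, 1⟩ .leaf)))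

def chain12Orb4 : Tree := (.node (.node (.node (.node .leaf ⟨4, 0xba9876543210, 0xba9876543210, 0, 4, 0⟩ .leaf) ⟨5, 0x786ab9453210, 0x786ab9453210, 2, 10, 0⟩ .leaf) ⟨6, 0x8b57a4693210, 0xa74b85963210, 2, 10, 1⟩ (.node .leaf ⟨7, 0x56a9487b3210, 0x49865ab73210, 3, 5, 1⟩ .leaf)) ⟨8, 0x95746b8a3210, 0x64b597a83210, 3, 5, 0⟩ (.node (.node .leaf ⟨9, 0xa74b85963210, 0x8b57a4693210, 2, 11, 0⟩ .leaf) ⟨10, 0x64b597a83210, 0x95746b8a3210, 1, 4, 0⟩ (.node .leaf ⟨11, 0x49865ab73210, 0x56a9487b3210, 1, 4, 1⟩ .leaf)))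

def chain12 : List Lvl :=
  [⟨2, chain12Orb0, [(0x7659b4a81203, 0x7584ba960231), (0x849a653b7210, 0x489b376a5210)], [[(7, 7), (6, 3), (1, 7)], [(3, 9), (1, 5), (0, 0)]]⟩,
   ⟨0, chain12Orb1, [(0x7b14a6859230, 0xa735b6481290), (0x79b13a654280, 0x96a1b5437280)], [[(0, 11), (0, 7), (0, 7)], [(0, 9), (0, 8), (1, 9)]]⟩,
   ⟨1, chain12Orb2, [(0x65ab73498210, 0x89437ba56210), (0x63974a85b210, 0x36958b47a210)], [[(0, 8), (0, 4), (1, 3)], [(1, 11)]]⟩,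
   ⟨3, chain12Orb3, [(0x95746b8a3210, 0x64b597a83210), (0x56a9487b3210, 0x49865ab73210)], [[(1, 11), (1, 3), (1, 6)], [(1, 3), (1, 9), (0, 5)]]⟩,
   ⟨4, chain12Orb4, [], []⟩]

def chain11Orb0 : Tree := (.node (.node (.node (.node .leaf ⟨0, 0x98ba67540213, 0x98ba67540213, 1, 3, 5⟩ .leaf) ⟨1, 0xa6798b540231, 0x6b879a541203, 2, 0, 6⟩ .leaf) ⟨3, 0xba9876543210, 0xba9876543210, 0, 3, 0⟩ (.node (.node .leaf ⟨4, 0xa9b768435210, 0x9ba687354210, 1, 3, 0⟩ .leaf) ⟨5, 0x9ba687354210, 0xa9b768435210, 2, 4, 0⟩ .leaf)) ⟨6, 0x876543ba9210, 0x543ba9876210, 1, 3, 1⟩ (.node (.node (.node .leaf ⟨7, 0x768435a9b210, 0x3549ba687210, 2, 4, 1⟩ .leaf) ⟨8, 0x6873549ba210, 0x435a9b768210, 3, 5, 1⟩ .leaf) ⟨9, 0x543ba9876210, 0x876543ba9210, 2, 6, 1⟩ (.node (.node .leaf ⟨10, 0x83a4b6975210, 0x795b4638a210, 2, 4, 4⟩ .leaf) ⟨11, 0x3a8b64759210, 0x8a395746b210, 2, 6, 4⟩ .leaf)))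

def chain11Orb1 : Tree := (.node (.node (.node (.node .leaf ⟨0, 0x980675ab3214, 0x45ba78603219, 5, 8, 1⟩ .leaf) ⟨1, 0x675980ab3241, 0x4587ab913206, 6, 0, 2⟩ .leaf) ⟨4, 0xba9876543210, 0xba9876543210, 0, 4, 0⟩ (.node (.node .leaf ⟨5, 0x786ab9453210, 0x786ab9453210, 2, 9, 0⟩ .leaf) ⟨6, 0x596b740a3218, 0x84a079b63215, 1, 4, 1⟩ .leaf)) ⟨7, 0xa869450732b1, 0x1b8a49673205, 3, 10, 2⟩ (.node (.node (.node .leaf ⟨8, 0x6b847095321a, 0xa0597b483216, 4, 11, 0⟩ .leaf) ⟨9, 0xa74b85963210, 0x8b57a4693210, 1, 4, 0⟩ .leaf) ⟨10, 0x945a8607321b, 0x8b7469a3215, 2, 9, 1⟩ (.node .leaf ⟨11, 0x4697b508321a, 0x70948a6b3215, 3, 5, 1⟩ .leaf)))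

def chain11Orb2 : Tree := (.node (.node (.node (.node .leaf ⟨0, 0xba9876543210, 0xba9876543210, 0, 0, 0⟩ .leaf) ⟨1, 0xa68175b43209, 0x5b097a643281, 3, 11, 1⟩ .leaf) ⟨5, 0x57918b0432a6, 0x6197a0b43285, 1, 0, 0⟩ (.node .leaf ⟨6, 0x6197a0b43285, 0x57918b0432a6, 3, 11, 0⟩ .leaf)) ⟨7, 0x1b67059432a8, 0xa150896432b7, 4, 1, 1⟩ (.node (.node (.node .leaf ⟨8, 0xb7801a943265, 0xb659a1043278, 4, 1, 0⟩ .leaf) ⟨9, 0x860a5b943217, 0x685b0a743219, 3, 10, 1⟩ .leaf) ⟨10, 0x1078ab643259, 0x6708951432ba, 2, 5, 1⟩ (.node .leaf ⟨11, 0x89a1564327b, 0x89a1564327b, 2, 5, 0⟩ .leaf)))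

def chain11Orb3 : Tree := (.node (.node (.node (.node .leaf ⟨1, 0xba9876543210, 0xba9876543210, 0, 1, 0⟩ .leaf) ⟨5, 0x96b78a143250, 0x96b78a143250, 2, 11, 0⟩ .leaf) ⟨6, 0x758b916432a0, 0x8179b5a43260, 1, 1, 1⟩ (.node .leaf ⟨7, 0xa9651b743280, 0x6ba159843270, 2, 6, 0⟩ .leaf)) ⟨8, 0x6ba159843270, 0xa9651b743280, 2, 11, 1⟩ (.node (.node .leaf ⟨9, 0x5816a79432b0, 0x175a68b43290, 3, 5, 0⟩ .leaf) ⟨10, 0x8179b5a43260, 0x758b916432a0, 3, 5, 1⟩ (.node .leaf ⟨11, 0x175a68b43290, 0x5816a79432b0, 1, 1, 0⟩ .leaf)))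

def chain11 : List Lvl :=
  [⟨3, chain11Orb0, [(0x8b57a4693210, 0xa74b85963210), (0x84a079b63215, 0x596b740a3218), (0x876ba9543201, 0x876ba9543201)], [[(1, 10), (6, 1), (2, 1)], [(5, 8), (2, 4), (4, 1)], [(6, 8), (3, 9), (1, 6)]]⟩,
   ⟨4, chain11Orb1, [(0x6197a0b43285, 0x57918b0432a6), (0x190b86a43275, 0x85a7160432b9)], [[(0, 5), (1, 6), (0, 8)], [(2, 1), (0, 6), (0, 7)]]⟩,
   ⟨0, chain11Orb2, [(0x5816a79432b0, 0x175a68b43290), (0x8179b5a43260, 0x758b916432a0)], [[(1, 11), (0, 7), (1, 10)], [(1, 8), (1, 0), (1, 0)]]⟩,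
   ⟨1, chain11Orb3, [], []⟩]


/-- Coding of permutations of twelve points. -/
noncomputable def cd : Coding (Equiv.Perm (Fin 12)) (permOps 4 12) :=
  permCoding 4 (Equiv.refl (Fin 12)) (by decide)

theorem chain12_ok : chainCheck (permOps 4 12) gens12 chain12 = true := by decide +kernel

theorem chain11_ok : chainCheck (permOps 4 12) gens11 chain11 = true := by decide +kernel

theorem eq_one_of_fix {G : Type*} [Group G] [Finite G] {O : Ops} (C : Coding G O) :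
    ∀ {L : List Lvl} {S : List (ℕ × ℕ)}, GensOK C S → chainCheck O S L = true →
      ∀ g ∈ genGroup C S, (∀ l ∈ L, O.act (C.enc g) l.b = l.b) → g = 1 := by
  intro L
  induction L with
  | nil =>
    intro S hS h g hg _
    have hc := card_genGroup C hS h
    rw [chainSize, Subgroup.card_eq_one] at hc
    exact Subgroup.mem_bot.mp (hc ▸ hg)
  | cons l ls ih =>
    intro S hS h g hg hfix
    exact ih (gensOK_next C hS h) (chainCheck_cons C hS h).2.2.2.2.2 g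
      ((genGroup_next_eq C hS h).mpr ⟨hg, hfix l List.mem_cons_self⟩)
      (fun l' hl' => hfix l' (List.mem_cons_of_mem _ hl'))

/-- An explicit construction of the Mathieu groups of degrees 11 and 12. On the points 0, …, 11 let s = (3 4 5)(6 7 8)(9 10 11), t = (3 6 9)(4 7 10)(5 8 11), u = (4 6 5 9)(7 8 11 10), v = (4 7 5 11)(6 10 9 8), w = (4 10 5 8)(6 11 9 7), x₁ = (0 3)(6 7)(8 10)(9 11), x₂ = (0 1)(6 9)(7 10)(8 11), x₃ = (1 2)(6 11)(7 9)(8 10) (each written as a product of transpositions). Then the group M₁₂ generated by all eight permutations is sharply 5-transitive on the 12 points and has order 95040, and the group M₁₁ generated by the first seven has order 7920 and is the stabilizer of the point 2 in M₁₂. -/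
theorem result
    (s t u v w x₁ x₂ x₃ : Equiv.Perm (Fin 12))
    (hs : s = Equiv.swap (3 : Fin 12) 5 * Equiv.swap (3 : Fin 12) 4 * Equiv.swap (6 : Fin 12) 8 * Equiv.swap (6 : Fin 12) 7 * Equiv.swap (9 : Fin 12) 11 * Equiv.swap (9 : Fin 12) 10) (ht : t = Equiv.swap (3 : Fin 12) 9 * Equiv.swap (3 : Fin 12) 6 * Equiv.swap (4 : Fin 12) 10 * Equiv.swap (4 : Fin 12) 7 * Equiv.swap (5 : Fin 12) 11 * Equiv.swap (5 : Fin 12) 8)
    (hu : u = Equiv.swap (4 : Fin 12) 9 * Equiv.swap (4 : Fin 12) 5 * Equiv.swap (4 : Fin 12) 6 * Equiv.swap (7 : Fin 12) 10 * Equiv.swap (7 : Fin 12) 11 * Equiv.swap (7 : Fin 12) 8) (hv : v = Equiv.swap (4 : Fin 12) 11 * Equiv.swap (4 : Fin 12) 5 * Equiv.swap (4 : Fin 12) 7 * Equiv.swap (6 : Fin 12) 8 * Equiv.swap (6 : Fin 12) 9 * Equiv.swap (6 : Fin 12) 10) (hw : w = Equiv.swap (4 : Fin 12) 8 * Equiv.swap (4 : Fin 12) 5 * Equiv.swap (4 : Fin 12) 10 * Equiv.swap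 (6 : Fin 12) 7 * Equiv.swap (6 : Fin 12) 9 * Equiv.swap (6 : Fin 12) 11)
    (hx₁ : x₁ = Equiv.swap (0 : Fin 12) 3 * Equiv.swap (6 : Fin 12) 7 * Equiv.swap (8 : Fin 12) 10 * Equiv.swap (9 : Fin 12) 11) (hx₂ : x₂ = Equiv.swap (0 : Fin 12) 1 * Equiv.swap (6 : Fin 12) 9 * Equiv.swap (7 : Fin 12) 10 * Equiv.swap (8 : Fin 12) 11)
    (hx₃ : x₃ = Equiv.swap (1 : Fin 12) 2 * Equiv.swap (6 : Fin 12) 11 * Equiv.swap (7 : Fin 12) 9 * Equiv.swap (8 : Fin 12) 10)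
    (M₁₂ M₁₁ : Subgroup (Equiv.Perm (Fin 12))) (hM₁₂ : M₁₂ = Subgroup.closure {s, t, u, v, w, x₁, x₂, x₃})
    (hM₁₁ : M₁₁ = Subgroup.closure {s, t, u, v, w, x₁, x₂}) :
    MulAction.IsMultiplyPretransitive M₁₂ (Fin 12) 5 ∧ (∀ y : Fin 5 ↪ Fin 12, MulAction.stabilizer M₁₂ y = ⊥) ∧
    Nat.card M₁₂ = 95040 ∧ Nat.card M₁₁ = 7920 ∧
    M₁₁ = M₁₂ ⊓ MulAction.stabilizer (Equiv.Perm (Fin 12)) (2 : Fin 12) := by
  classical
  have hg12 : gensList cd [s, t, u, v, w, x₁, x₂, x₃] = gens12 := by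
    subst hs ht hu hv hw hx₁ hx₂ hx₃
    show [_, _, _, _, _, _, _, _] = gens12
    unfold gens12
    repeat' (first | apply List.cons_eq_cons.mpr; refine ⟨?_, ?_⟩)
    all_goals first
      | rfl
      | (refine Prod.ext ?_ ?_ <;> decide +kernel)
  have hg11 : gensList cd [s, t, u, v, w, x₁, x₂] = gens11 := by
    have h := congrArg (List.take 7) hg12
    rw [gensList, ← List.map_take] at h
    exact h.trans (by decide +kernel)
  have hS : {g | g ∈ [s, t, u, v, w, x₁, x₂, x₃]} = ({s, t, u, v, w, x₁, x₂, x₃} : Set _) := by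
    ext g; simp
  have hT : {g | g ∈ [s, t, u, v, w, x₁, x₂]} = ({s, t, u, v, w, x₁, x₂} : Set _) := by
    ext g; simp
  have h12 : M₁₂ = genGroup cd gens12 := by
    rw [hM₁₂, ← hg12, genGroup_gensList, hS]
  have h11 : M₁₁ = genGroup cd gens11 := by
    rw [hM₁₁, ← hg11, genGroup_gensList, hT]
  have ok12 : GensOK cd gens12 := hg12 ▸ gensOK_gensList cd _
  have ok11 : GensOK cd gens11 := hg11 ▸ gensOK_gensList cd _
  have hact : ∀ (g : Equiv.Perm (Fin 12)) (a : Fin 12),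
      (permOps 4 12).act (cd.enc g) a = a ↔ g a = a := fun g a =>
    permCoding_act_eq_iff 4 (Equiv.refl (Fin 12)) _ g a
  have c12 : Nat.card M₁₂ = 95040 := by
    rw [h12, card_genGroup cd ok12 chain12_ok]; decide +kernel
  have c11 : Nat.card M₁₁ = 7920 := by
    rw [h11, card_genGroup cd ok11 chain11_ok]; decide +kernel
  -- the stabiliser of one base tuple is trivial
  let y₀ : Fin 5 ↪ Fin 12 := ⟨![2, 0, 1, 3, 4], by decide⟩
  have hy₀ : MulAction.stabilizer M₁₂ y₀ = ⊥ := by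
    rw [eq_bot_iff]
    intro g hg
    rw [Subgroup.mem_bot]
    apply Subtype.ext
    refine eq_one_of_fix cd ok12 chain12_ok g.1 (by rw [← h12]; exact g.2) ?_
    have hfix : ∀ i, (g : Equiv.Perm (Fin 12)) (y₀ i) = y₀ i := fun i => by
      have h := congrArg (fun z : Fin 5 ↪ Fin 12 => z i) (MulAction.mem_stabilizer_iff.mp hg)
      simpa [Function.Embedding.smul_apply, Subgroup.smul_def] using h
    have hb : ∀ l ∈ chain12, ∃ i, l.b = (y₀ i : ℕ) := by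
      intro l hl
      simp only [chain12, List.mem_cons, List.not_mem_nil, or_false] at hl
      rcases hl with rfl | rfl | rfl | rfl | rfl
      exacts [⟨0, rfl⟩, ⟨1, rfl⟩, ⟨2, rfl⟩, ⟨3, rfl⟩, ⟨4, rfl⟩]
    intro l hl
    obtain ⟨i, hi⟩ := hb l hl
    rw [hi]
    exact (hact _ _).mpr (hfix i)
  have horb : MulAction.orbit M₁₂ y₀ = Set.univ := by
    refine Set.eq_of_subset_of_ncard_le (Set.subset_univ _) ?_ (Set.toFinite _)
    have hi : (MulAction.stabilizer M₁₂ y₀).index = (MulAction.orbit M₁₂ y₀).ncard :=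
      MulAction.index_stabilizer _ _
    rw [hy₀, Subgroup.index_bot, c12] at hi
    rw [Set.ncard_univ, ← hi, Nat.card_eq_fintype_card, Fintype.card_embedding_eq, Fintype.card_fin,
      Fintype.card_fin]
    decide
  have htr : MulAction.IsMultiplyPretransitive M₁₂ (Fin 12) 5 :=
    (MulAction.isPretransitive_iff_orbit_eq_univ y₀).mpr horb
  refine ⟨htr, fun y => ?_, c12, c11, ?_⟩
  · obtain ⟨g, hg⟩ := (horb.symm ▸ Set.mem_univ y : y ∈ MulAction.orbit M₁₂ y₀)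
    replace hg : g • y₀ = y := hg
    have hc : MulAction.stabilizer M₁₂ (g • y₀) =
        (MulAction.stabilizer M₁₂ y₀).map (MulAut.conj g).toMonoidHom :=
      MulAction.stabilizer_smul_eq_stabilizer_map_conj g y₀
    rw [← hg, hc, hy₀, Subgroup.map_bot]
  · have hle : M₁₁ ≤ M₁₂ ⊓ MulAction.stabilizer (Equiv.Perm (Fin 12)) (2 : Fin 12) := by
      refine le_inf (by rw [hM₁₁, hM₁₂]; exact Subgroup.closure_mono (by grind)) ?_
      rw [hM₁₁, Subgroup.closure_le]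
      intro g hg
      subst hs ht hu hv hw hx₁ hx₂
      simp only [Set.mem_insert_iff, Set.mem_singleton_iff] at hg
      rcases hg with rfl | rfl | rfl | rfl | rfl | rfl | rfl <;>
        (simp only [SetLike.mem_coe, MulAction.mem_stabilizer_iff, Equiv.Perm.smul_def]; decide +kernel)
    refine Subgroup.eq_of_le_of_card_ge hle ?_
    have heq : M₁₂ ⊓ MulAction.stabilizer (Equiv.Perm (Fin 12)) (2 : Fin 12) =
        genGroup cd (chain12.head (by simp [chain12])).T := by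
      ext g
      rw [genGroup_next_eq cd ok12 (l := chain12.head (by simp [chain12])) chain12_ok,
        Subgroup.mem_inf, MulAction.mem_stabilizer_iff, ← h12, Equiv.Perm.smul_def]
      exact and_congr_right fun _ => (hact g 2).symm
    rw [c11, heq, card_genGroup cd (gensOK_next cd ok12 (l := chain12.head (by simp [chain12])) chain12_ok)
      (chainCheck_cons cd ok12 (l := chain12.head (by simp [chain12])) chain12_ok).2.2.2.2.2]
    decide +kernel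

end Cfsg.Agent.S3362
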