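import Cfsg.Statements.S3366
import Cfsg.Agent.Lib.JacobiThree.Recognise
import Cfsg.Agent.Lib.JacobiThree.Target
import Cfsg.Prelude.Def_CaseTheorems

set_option autoImplicit false
open Cfsg
open scoped commutatorElement

namespace Cfsg.Agent.S3366

/-- Let X be a finite group with O₃(X) extraspecial of order 27 and exponent 3, X/O₃(X) isomorphic to SL(2,3), O₂(X) = 1, and a Sylow 3-subgroup of X containing an elementary abelian subgroup of order 27. Then X is isomorphic to the centralizer in PSp(4,3) of a 3-central element of order 3 (an element of order 3 in the centre of a Sylow 3-subgroup). -/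
theorem result {X : Type*} [Group X] [Finite X]
    (hR : Cfsg.IsExtraspecial 3 (Cfsg.pCore 3 X)) (hRcard : Nat.card (Cfsg.pCore 3 X) = 27)
    (hRexp : ∀ r ∈ Cfsg.pCore 3 X, r ^ 3 = 1)
    (e : X ⧸ Cfsg.pCore 3 X ≃* Matrix.SpecialLinearGroup (Fin 2) (ZMod 3))
    (hO2 : Cfsg.pCore 2 X = ⊥)
    (hE : ∃ E : Subgroup X, IsMulCommutative E ∧ (∀ a ∈ E, a ^ 3 = 1) ∧ Nat.card E = 27)
    (F : Type*) [Field F] [Fintype F] (hF : Fintype.card F = 3) :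
    ∃ (c : Cfsg.PSp 2 F) (S : Sylow 3 (Cfsg.PSp 2 F)), orderOf c = 3 ∧ c ∈ (S : Subgroup (Cfsg.PSp 2 F)) ∧
      c ∈ Subgroup.centralizer ((S : Subgroup (Cfsg.PSp 2 F)) : Set (Cfsg.PSp 2 F)) ∧
      Nonempty (X ≃* Subgroup.centralizer ({c} : Set (Cfsg.PSp 2 F))) := by
  classical
  obtain ⟨⟨-, -, hcomm⟩, hcen⟩ := hR
  haveI : (Cfsg.pCore 3 X).Normal := Cfsg.pCore_normal 3 X
  let π : X →* Cfsg.Agent.Lib.JacobiThree.SL23 :=
    e.toMonoidHom.comp (QuotientGroup.mk' (Cfsg.pCore 3 X))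
  have hπ : Function.Surjective π := e.surjective.comp (QuotientGroup.mk'_surjective _)
  have hker : π.ker = Cfsg.pCore 3 X := by
    ext x
    simp [π, MonoidHom.mem_ker]
  have hcom : ∀ r ∈ Cfsg.pCore 3 X, ∀ s ∈ Cfsg.pCore 3 X, ∀ u ∈ Cfsg.pCore 3 X,
      Commute ((r * s)⁻¹ * (s * r)) u := by
    intro r hr s hs u hu
    have h : ((⟨r, hr⟩ : Cfsg.pCore 3 X) * ⟨s, hs⟩)⁻¹ * (⟨s, hs⟩ * ⟨r, hr⟩) ∈
        commutator (Cfsg.pCore 3 X) := by
      have e1 : ((⟨r, hr⟩ : Cfsg.pCore 3 X) * ⟨s, hs⟩)⁻¹ * (⟨s, hs⟩ * ⟨r, hr⟩) =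
          ⁅(⟨s, hs⟩ : Cfsg.pCore 3 X)⁻¹, (⟨r, hr⟩ : Cfsg.pCore 3 X)⁻¹⁆ := by
        rw [commutatorElement_def]; group
      rw [e1]
      exact Subgroup.commutator_mem_commutator (Subgroup.mem_top _) (Subgroup.mem_top _)
    rw [hcomm, Subgroup.mem_center_iff] at h
    exact (congrArg Subtype.val (h ⟨u, hu⟩)).symm
  have hnab : ∃ a ∈ Cfsg.pCore 3 X, ∃ b ∈ Cfsg.pCore 3 X, ¬ Commute a b := by
    by_contra hh
    push Not at hh
    have htop : Subgroup.center (Cfsg.pCore 3 X) = ⊤ := eq_top_iff.mpr fun a _ =>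
      Subgroup.mem_center_iff.mpr fun b => Subtype.ext (hh b.1 b.2 a.1 a.2)
    rw [htop, Subgroup.card_top, hRcard] at hcen
    omega
  obtain ⟨i⟩ := Cfsg.Agent.Lib.JacobiThree.nonempty_jac (Cfsg.pCore 3 X) π hπ hker hRexp hO2
    hRcard hcom hnab hE
  obtain ⟨c, S, h1, h2, h3, ⟨j⟩⟩ := Cfsg.Agent.Lib.JacobiThree.main F hF
  exact ⟨c, S, h1, h2, h3, ⟨i.symm.trans j⟩⟩

end Cfsg.Agent.S3366
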