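import Cfsg.Statements.S3370
import Mathlib
import Cfsg.Agent.Lib.PUnique.Basic
import Cfsg.Agent.Lib.Recognition.AffineGroup
-- import your own Cfsg.Agent.* helpers here

set_option autoImplicit false
open Cfsg

namespace Cfsg.Agent.S3370

theorem odd_dvd_two_pow {d a : ℕ} (hd : ¬ 2 ∣ d) (h : d ∣ 2 ^ a) : d = 1 := by
  obtain ⟨k, -, rfl⟩ := (Nat.dvd_prime_pow Nat.prime_two).mp h
  rcases k with _ | k
  · rfl
  · exact absurd (dvd_pow_self 2 k.succ_ne_zero) hd

theorem two_pow_sub_one_eq_pow {n p a : ℕ} (hn : 2 ≤ n) (hp : p.Prime) (h : 2 ^ n - 1 = p ^ a) :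
    a = 1 := by
  obtain ⟨m, rfl⟩ : ∃ m, n = m + 2 := ⟨n - 2, by omega⟩
  have h4 : 2 ^ (m + 2) = 4 * 2 ^ m := by ring
  have hpos : 0 < 2 ^ m := by positivity
  rcases hp.eq_two_or_odd with rfl | hodd
  · rcases a with _ | a
    · rw [pow_zero] at h; omega
    · rw [pow_succ] at h; omega
  obtain ⟨c, rfl⟩ : ∃ c, p = 2 * c + 1 := ⟨p / 2, by omega⟩
  have hc : ∀ b, ∃ t, (2 * c + 1) ^ (2 * b) = 1 + 2 * (2 * c + 1 + 1) * t := by
    intro b
    induction b with
    | zero => exact ⟨0, by simp⟩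
    | succ b ih =>
      obtain ⟨t, ht⟩ := ih
      refine ⟨c + (2 * c + 1) ^ 2 * t, ?_⟩
      rw [Nat.mul_succ, pow_add, ht]; ring
  obtain ⟨b, rfl | rfl⟩ := Nat.even_or_odd' a
  · obtain ⟨t, ht⟩ := hc b
    rw [ht, show 2 * (2 * c + 1 + 1) * t = 4 * ((c + 1) * t) by ring] at h
    omega
  · obtain ⟨t, ht⟩ := hc b
    rw [pow_succ (2 * c + 1), ht] at h
    have he : 2 ^ (m + 2) = (2 * c + 1 + 1) * (1 + 2 * ((2 * c + 1) * t)) := by
      have : (1 + 2 * (2 * c + 1 + 1) * t) * (2 * c + 1) + 1 =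
          (2 * c + 1 + 1) * (1 + 2 * ((2 * c + 1) * t)) := by ring
      omega
    have h1 := odd_dvd_two_pow (d := 1 + 2 * ((2 * c + 1) * t)) (by omega) ⟨_, he.trans (mul_comm _ _)⟩
    have ht0 : t = 0 := by
      rcases Nat.eq_zero_or_pos t with h0 | h0
      · exact h0
      · have : 0 < (2 * c + 1) * t := by positivity
        omega
    subst ht0
    rcases b with _ | b
    · rfl
    · have : 1 < (2 * c + 1) ^ (2 * (b + 1)) := Nat.one_lt_pow (by omega) hp.one_lt
      omega

theorem pow_sub_one_eq_two_pow {q n a : ℕ} (hq : q.Prime) (hq2 : q ≠ 2) (hn : 1 ≤ n)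
    (h : q ^ n - 1 = 2 ^ a) : n = 1 ∨ (q = 3 ∧ n = 2) := by
  have hodd := hq.eq_two_or_odd.resolve_left hq2
  obtain ⟨c, rfl⟩ : ∃ c, q = 2 * c + 1 := ⟨q / 2, by omega⟩
  have hc0 : 0 < c := by have := hq.two_le; omega
  obtain ⟨m, rfl | rfl⟩ := Nat.even_or_odd' n
  · right
    have h1 : ((2 * c + 1) ^ m + 1) * ((2 * c + 1) ^ m - 1) = 2 ^ a := by
      rw [← h, ← Nat.sq_sub_sq, one_pow, ← pow_mul, mul_comm m 2]
    obtain ⟨j, -, hj⟩ := (Nat.dvd_prime_pow Nat.prime_two).mp (Dvd.intro _ h1)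
    obtain ⟨i, -, hi⟩ := (Nat.dvd_prime_pow Nat.prime_two).mp (Dvd.intro_left _ h1)
    have hge : 2 * c + 1 ≤ (2 * c + 1) ^ m := Nat.le_self_pow (by omega) _
    have ho : ¬ 2 ∣ (2 * c + 1) ^ m := fun hd => by
      have := Nat.prime_two.dvd_of_dvd_pow hd
      omega
    obtain ⟨i', rfl⟩ : ∃ i', i = i' + 1 := ⟨i - 1, by
      rcases i with _ | i
      · simp only [pow_zero] at hi; omega
      · omega⟩
    rw [pow_succ] at hi
    rcases i' with _ | i'
    · simp only [pow_zero] at hi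
      have hm : (2 * c + 1) ^ m = 3 := by omega
      have hc1 : c = 1 := by omega
      subst hc1
      have := Nat.pow_right_injective (show 2 ≤ 2 * 1 + 1 by norm_num) (hm.trans (pow_one 3).symm)
      omega
    · rw [pow_succ] at hi
      rcases j with _ | _ | j
      · simp only [pow_zero] at hj; omega
      · simp only [zero_add, pow_one] at hj; omega
      · rw [pow_succ, pow_succ] at hj; omega
  · left
    have hc : ∀ b, ∃ t, (2 * c + 1) ^ (2 * b) = 1 + 2 * (2 * c) * t := by
      intro b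
      induction b with
      | zero => exact ⟨0, by simp⟩
      | succ b ih =>
        obtain ⟨t, ht⟩ := ih
        refine ⟨c + 1 + (2 * c + 1) ^ 2 * t, ?_⟩
        rw [Nat.mul_succ, pow_add, ht]; ring
    obtain ⟨t, ht⟩ := hc m
    rw [pow_succ (2 * c + 1), ht, show (1 + 2 * (2 * c) * t) * (2 * c + 1) =
      1 + 2 * c * (1 + 2 * ((2 * c + 1) * t)) by ring, Nat.add_sub_cancel_left] at h
    have h1 := odd_dvd_two_pow (d := 1 + 2 * ((2 * c + 1) * t)) (by omega) (Dvd.intro_left _ h)
    rcases Nat.eq_zero_or_pos t with rfl | h0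
    · rcases m with _ | m
      · rfl
      · have : 1 < (2 * c + 1) ^ (2 * (m + 1)) := Nat.one_lt_pow (by omega) hq.one_lt
        omega
    · have : 0 < (2 * c + 1) * t := by positivity
      omega

/-- A semidihedral subgroup of order 16 of `GL(2,3)`. -/
def sdMats : List (Matrix (Fin 2) (Fin 2) (ZMod 3)) :=
  [!![1, 0; 0, 1], !![1, 1; 2, 1], !![0, 2; 1, 0], !![1, 2; 1, 1], !![2, 0; 0, 2], !![2, 2; 1, 2],
   !![0, 1; 2, 0], !![2, 1; 2, 2], !![1, 0; 0, 2], !![1, 2; 2, 2], !![0, 1; 1, 0], !![1, 1; 1, 2],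
   !![2, 0; 0, 1], !![2, 1; 1, 1], !![0, 2; 2, 0], !![2, 2; 2, 1]]

theorem sd_one : (1 : Matrix (Fin 2) (Fin 2) (ZMod 3)) ∈ sdMats := by decide +kernel

theorem sd_mul : ∀ a ∈ sdMats, ∀ b ∈ sdMats, a * b ∈ sdMats := by decide +kernel

theorem sd_pow : ∀ a ∈ sdMats, a ^ 8 = 1 := by decide +kernel

/-- An element of order 8. -/
def sdA : GL (Fin 2) (ZMod 3) :=
  ⟨!![1, 1; 2, 1], !![2, 1; 2, 2], by decide +kernel, by decide +kernel⟩

/-- An involution. -/
def sdB : GL (Fin 2) (ZMod 3) :=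
  ⟨!![1, 0; 0, 2], !![1, 0; 0, 2], by decide +kernel, by decide +kernel⟩

theorem sd_facts : (sdA ^ 4 ≠ 1 ∧ sdA ^ 8 = 1 ∧ sdB ^ 2 = 1 ∧ sdB ≠ 1 ∧
    sdB * sdA * sdB⁻¹ = sdA ^ 3) ∧ ((sdA : Matrix (Fin 2) (Fin 2) (ZMod 3)) ∈ sdMats ∧
    ((sdA⁻¹ : GL (Fin 2) (ZMod 3)) : Matrix (Fin 2) (Fin 2) (ZMod 3)) ∈ sdMats ∧
    (sdB : Matrix (Fin 2) (Fin 2) (ZMod 3)) ∈ sdMats ∧
    ((sdB⁻¹ : GL (Fin 2) (ZMod 3)) : Matrix (Fin 2) (Fin 2) (ZMod 3)) ∈ sdMats) := by
  decide +kernel

theorem isQuasiDihedral_of_sixteen {G : Type*} [Group G] [Finite G] (f : G →* GL (Fin 2) (ZMod 3))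
    (hf : Function.Injective f) (hc : Nat.card G = 16) : Cfsg.IsQuasiDihedral G := by
  classical
  have : Fact (Nat.Prime 2) := ⟨Nat.prime_two⟩
  have : Fact (Nat.Prime 3) := ⟨Nat.prime_three⟩
  have hGL : Nat.card (GL (Fin 2) (ZMod 3)) = 48 := by
    rw [Matrix.card_GL_field]
    simp [Fin.prod_univ_two]
  have hr : Nat.card f.range = 16 := by
    rw [← hc]
    exact (Nat.card_congr (MonoidHom.ofInjective hf).toEquiv).symm
  have h16 : ∀ P : Sylow 2 (GL (Fin 2) (ZMod 3)), Nat.card P = 16 := fun P => by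
    rw [P.card_eq_multiplicity, hGL, show (48 : ℕ) = 2 ^ 4 * 3 by norm_num,
      Nat.factorization_mul (by norm_num) (by norm_num), Nat.Prime.factorization_pow Nat.prime_two]
    simp [Nat.factorization_eq_zero_of_not_dvd]
  have hS : IsPGroup 2 (Lib.Affine.listGroup sdMats sd_one sd_mul) := fun g =>
    ⟨3, (Lib.Affine.pow_eq_one_iff_listGroup g _).mpr (sd_pow _ (Lib.Affine.mem_of_mem_listGroup g.2))⟩
  obtain ⟨Q, hQ⟩ := hS.exists_le_sylow
  obtain ⟨P, hP⟩ := (IsPGroup.of_card (p := 2) (n := 4) (by rw [hr]; norm_num : Nat.card f.range = 2 ^ 4)).exists_le_sylow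
  have hPr : (P : Subgroup _) = f.range :=
    (Subgroup.eq_of_le_of_card_ge hP (by rw [hr, h16])).symm
  obtain ⟨g, hg⟩ := MulAction.exists_smul_eq (GL (Fin 2) (ZMod 3)) Q P
  have hmem : ∀ u ∈ (Q : Subgroup _), g * u * g⁻¹ ∈ f.range := fun u hu => by
    rw [← hPr, ← hg, Sylow.coe_subgroup_smul, Subgroup.mem_pointwise_smul_iff_inv_smul_mem]
    simpa [MulAut.smul_def, MulAut.conj_symm_apply, mul_assoc] using hu
  obtain ⟨⟨a4, a8, b2, b1, hba⟩, hA, hA', hB, hB'⟩ := sd_facts
  obtain ⟨x, hx⟩ := hmem sdA (hQ ⟨hA, hA'⟩)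
  obtain ⟨y, hy⟩ := hmem sdB (hQ ⟨hB, hB'⟩)
  refine ⟨3, le_rfl, hc, x, y, ?_, ?_, ?_⟩
  · rw [← orderOf_injective f hf, hx, ← MulAut.conj_apply, MulEquiv.orderOf_eq]
    exact orderOf_eq_prime_pow (p := 2) (n := 2) a4 a8
  · rw [← orderOf_injective f hf, hy, ← MulAut.conj_apply, MulEquiv.orderOf_eq]
    exact orderOf_eq_prime b2 b1
  · apply hf
    rw [map_mul, map_mul, map_inv, map_pow, hx, hy, show 2 ^ (3 - 1) - 1 = 3 from rfl, conj_pow,
      ← hba]
    group

/-- Let q be a prime, V a non-trivial finite vector space over the field with q elements, and G a non-trivial finite p-group (p prime) acting faithfully and linearly on V and transitively on the non-zero vectors. Then either q = 2 and G has prime order p = |V| − 1; or p = 2, V has q elements with q = 2^m + 1 and G is cyclic of order 2^m; or p = 2, q = 3, V has 9 elements and G is cyclic of order 8, quaternion of order 8, or semidihedral of order 16. -/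
theorem result (q : ℕ) [Fact q.Prime] {V : Type*} [AddCommGroup V] [Module (ZMod q) V] [Finite V] [Nontrivial V]
    {G : Type*} [Group G] [Finite G] [Nontrivial G] (p : ℕ) [Fact p.Prime] (hG : IsPGroup p G)
    (ρ : G →* (V ≃ₗ[ZMod q] V)) (hρ : Function.Injective ρ)
    (htrans : ∀ v w : V, v ≠ 0 → w ≠ 0 → ∃ g : G, ρ g v = w) :
    (q = 2 ∧ p = Nat.card V - 1 ∧ Nat.card G = p) ∨
    (p = 2 ∧ Nat.card V = q ∧ (∃ m : ℕ, q = 2 ^ m + 1 ∧ Nat.card G = 2 ^ m) ∧ IsCyclic G) ∨
    (p = 2 ∧ q = 3 ∧ Nat.card V = 9 ∧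
      ((IsCyclic G ∧ Nat.card G = 8) ∨ Nonempty (G ≃* QuaternionGroup 2) ∨ (Cfsg.IsQuasiDihedral G ∧ Nat.card G = 16))) := by
  classical
  have hpp := Fact.out (p := p.Prime)
  have hqq := Fact.out (p := q.Prime)
  set n := Module.finrank (ZMod q) V
  let b : Module.Basis (Fin n) (ZMod q) V := Module.finBasis (ZMod q) V
  let E : (V ≃ₗ[ZMod q] V) ≃* GL (Fin n) (ZMod q) :=
    (LinearMap.GeneralLinearGroup.generalLinearEquiv (ZMod q) V).symm.trans
      (Units.mapEquiv (LinearMap.toMatrixAlgEquiv b).toMulEquiv)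
  let f : G →* GL (Fin n) (ZMod q) := E.toMonoidHom.comp ρ
  have hf : Function.Injective f := E.injective.comp hρ
  have hV : Nat.card V = q ^ n := by
    rw [Module.natCard_eq_pow_finrank (K := ZMod q), Nat.card_zmod]
  have hn : 1 ≤ n := Module.finrank_pos
  obtain ⟨k, hk⟩ := hG.exists_card_eq
  have hk1 : 1 ≤ k := by
    rcases k with _ | k
    · rw [pow_zero] at hk
      have := Finite.one_lt_card (α := G)
      omega
    · omega
  -- the orbit of a non-zero vector
  let _ : MulAction G V :=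
    { smul := fun g v => ρ g v
      one_smul := fun v => show ρ 1 v = v by rw [map_one]; rfl
      mul_smul := fun g h v => show ρ (g * h) v = ρ g (ρ h v) by rw [map_mul]; rfl }
  obtain ⟨v₀, hv₀⟩ := exists_ne (0 : V)
  have horb : MulAction.orbit G v₀ = {(0 : V)}ᶜ := by
    ext w
    constructor
    · rintro ⟨g, rfl⟩
      show ρ g v₀ ≠ 0
      exact fun h => hv₀ ((LinearEquiv.map_eq_zero_iff _).mp h)
    · intro hw
      exact htrans v₀ w hv₀ hw
  have hidx : (MulAction.stabilizer G v₀).index = q ^ n - 1 := by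
    rw [MulAction.index_stabilizer, horb, Set.ncard_compl, Set.ncard_singleton, hV]
  obtain ⟨a, -, ha⟩ := (Nat.dvd_prime_pow hpp).mp
    (hk ▸ (hidx ▸ Subgroup.index_dvd_card _) : q ^ n - 1 ∣ p ^ k)
  by_cases hq2 : q = 2
  · left
    subst hq2
    have hn2 : 2 ≤ n := by
      by_contra hc
      have hn1 : n = 1 := by omega
      have h2 : Nat.card V = 2 := by rw [hV, hn1, pow_one]
      have key : ∀ g : G, g = 1 := fun g => by
        refine hρ (LinearEquiv.ext fun v => ?_)
        rw [map_one]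
        show ρ g v = v
        by_cases hv : v = 0
        · rw [hv, map_zero]
        have hu : ∀ w : V, w ≠ 0 → w = v := fun w hw => by
          by_contra hwv
          have h3 : ({0, v, w} : Set V).ncard = 3 := by
            rw [Set.ncard_eq_three]
            exact ⟨0, v, w, Ne.symm hv, Ne.symm hw, Ne.symm hwv, rfl⟩
          have := Set.ncard_le_card ({0, v, w} : Set V)
          omega
        exact hu _ fun h => hv ((LinearEquiv.map_eq_zero_iff _).mp h)
      obtain ⟨g, hg⟩ := exists_ne (1 : G)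
      exact hg (key g)
    obtain rfl := two_pow_sub_one_eq_pow hn2 hpp ha
    rw [pow_one] at ha
    refine ⟨rfl, by rw [hV, ha], ?_⟩
    have hd : p ^ k ∣ ∏ i : Fin n, (2 ^ n - 2 ^ (i : ℕ)) := by
      have h1 := Subgroup.card_dvd_of_injective f hf
      rw [hk, Matrix.card_GL_field, ZMod.card] at h1
      exact h1
    obtain ⟨m, hm⟩ : ∃ m, n = m + 1 := ⟨n - 1, by omega⟩
    have hsplit : ∏ i : Fin n, (2 ^ n - 2 ^ (i : ℕ)) =
        p * ∏ i ∈ Finset.range m, (2 ^ n - 2 ^ (i + 1)) := by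
      rw [Fin.prod_univ_eq_prod_range (fun i => 2 ^ n - 2 ^ i) n, ← ha]
      rw [show Finset.range n = Finset.range (m + 1) from congrArg _ hm]
      rw [Finset.prod_range_succ', pow_zero, mul_comm]
    have hcop : Nat.Coprime p (∏ i ∈ Finset.range m, (2 ^ n - 2 ^ (i + 1))) := by
      refine Nat.Coprime.prod_right fun i hi => ?_
      rw [Finset.mem_range] at hi
      rw [hpp.coprime_iff_not_dvd]
      intro h
      obtain ⟨d, hd⟩ : ∃ d, n = (i + 1) + (d + 1) := ⟨n - i - 2, by omega⟩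
      rw [hd, pow_add, ← Nat.mul_sub_one] at h
      have hlt : 2 ^ (d + 1) < 2 ^ n := Nat.pow_lt_pow_right (by norm_num) (by omega)
      have h2 : 2 ≤ 2 ^ (d + 1) := Nat.le_self_pow (by omega) 2
      rcases hpp.dvd_mul.mp h with h | h
      · have := Nat.le_of_dvd two_pos (hpp.dvd_of_dvd_pow h)
        have h4 : 2 ^ 2 ≤ 2 ^ n := Nat.pow_le_pow_right (by norm_num) hn2
        omega
      · have := Nat.le_of_dvd (by omega) h
        omega
    have hle : p ^ k ∣ p := by
      rw [hsplit] at hd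
      exact (hcop.pow_left k).dvd_of_dvd_mul_right hd
    have : k ≤ 1 := by
      rw [← Nat.pow_dvd_pow_iff_le_right hpp.one_lt (k := k) (l := 1), pow_one]
      exact hle
    rw [hk, show k = 1 by omega, pow_one]
  · right
    have hq3 : 3 ≤ q := by have := hqq.two_le; omega
    have hp2 : p = 2 := by
      have hodd : ¬ 2 ∣ q ^ n := fun h => hq2
        ((Nat.prime_dvd_prime_iff_eq Nat.prime_two hqq).mp (Nat.prime_two.dvd_of_dvd_pow h)).symm
      have h2 : 2 ∣ p ^ a := by rw [← ha]; omega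
      exact ((Nat.prime_dvd_prime_iff_eq Nat.prime_two hpp).mp (Nat.prime_two.dvd_of_dvd_pow h2)).symm
    subst hp2
    rcases pow_sub_one_eq_two_pow hqq hq2 hn ha with hn1 | ⟨rfl, hn2⟩
    · left
      rw [hn1, pow_one] at hV ha hidx
      have : Subsingleton (Fin n) := by rw [hn1]; infer_instance
      let d : G →* ZMod q := (Units.coeHom (ZMod q)).comp (Matrix.GeneralLinearGroup.det.comp f)
      have hd : Function.Injective d := by
        intro x y h
        apply hf
        refine Units.ext (Matrix.ext fun i j => ?_)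
        have hdet : ∀ g : GL (Fin n) (ZMod q), (g : Matrix (Fin n) (Fin n) (ZMod q)).det = g i i := fun g =>
          Matrix.det_eq_elem_of_subsingleton _ i
        rw [Subsingleton.elim j i, ← hdet, ← hdet]
        exact h
      have hcyc : IsCyclic G := isCyclic_of_subgroup_isDomain d hd
      have hle : Nat.card G ≤ q - 1 := by
        let d' : G →* (ZMod q)ˣ := Matrix.GeneralLinearGroup.det.comp f
        refine (Nat.card_le_card_of_injective d' fun x y h => hd (congrArg Units.val h)).trans ?_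
        rw [Nat.card_eq_fintype_card, ZMod.card_units]
      refine ⟨rfl, hV, ⟨a, by omega, ?_⟩, hcyc⟩
      rw [← ha]
      refine le_antisymm hle ?_
      rw [← hidx]
      exact Nat.le_of_dvd Nat.card_pos (Subgroup.index_dvd_card _)
    · right
      rw [hn2] at hV hidx
      norm_num at hV hidx
      refine ⟨rfl, rfl, hV, ?_⟩
      have h8 : 8 ∣ Nat.card G := hidx ▸ Subgroup.index_dvd_card _
      have h48 : Nat.card G ∣ 48 := by
        refine (Subgroup.card_dvd_of_injective f hf).trans (dvd_of_eq ?_)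
        rw [Matrix.card_GL_field, ZMod.card, Fin.prod_univ_eq_prod_range (fun i => 3 ^ n - 3 ^ i) n, hn2]
        decide
      have hk4 : k = 3 ∨ k = 4 := by
        rw [hk] at h8 h48
        have hlo : 3 ≤ k := (Nat.pow_dvd_pow_iff_le_right (by norm_num : 1 < 2)).mp (show 2 ^ 3 ∣ 2 ^ k from h8)
        have hhi : k ≤ 4 := by
          by_contra hc
          exact absurd ((pow_dvd_pow 2 (show 5 ≤ k by omega)).trans h48) (by decide)
        omega
      rcases hk4 with rfl | rfl
      · norm_num at hk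
        have hst : MulAction.stabilizer G v₀ = ⊥ := by
          refine Subgroup.eq_bot_of_card_eq _ ?_
          have := (MulAction.stabilizer G v₀).card_mul_index
          rw [hidx, hk] at this
          omega
        have hfree : ∀ g : G, ∀ v : V, v ≠ 0 → ρ g v = v → g = 1 := by
          intro g v hv hgv
          obtain ⟨h, hh⟩ := htrans v₀ v hv₀ hv
          have hm : h⁻¹ * g * h ∈ MulAction.stabilizer G v₀ := by
            rw [MulAction.mem_stabilizer_iff]
            show ρ (h⁻¹ * g * h) v₀ = v₀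
            rw [map_mul, map_mul, LinearEquiv.mul_apply, LinearEquiv.mul_apply, hh, hgv, map_inv]
            show (ρ h).symm v = v₀
            rw [← hh, LinearEquiv.symm_apply_apply]
          rw [hst, Subgroup.mem_bot, mul_eq_one_iff_eq_inv, mul_eq_left] at hm
          exact hm
        have hinv : ∀ g : G, orderOf g = 2 → ∀ v : V, ρ g v = -v := by
          intro g hg v
          have h2 : g ^ 2 = 1 := orderOf_dvd_iff_pow_eq_one.mp hg.dvd
          have hfix : ρ g (v + ρ g v) = v + ρ g v := by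
            rw [map_add, ← LinearEquiv.mul_apply, ← map_mul, ← pow_two, h2, map_one]
            exact add_comm _ _
          by_contra hne
          have h0 : v + ρ g v ≠ 0 := fun h => hne (eq_neg_of_add_eq_zero_right h)
          rw [hfree g _ h0 hfix, orderOf_one] at hg
          omega
        have huniq : ∀ H K : Subgroup G, Nat.card H = 2 → Nat.card K = 2 → H = K := by
          intro H K hH hK
          obtain ⟨g, hg⟩ := exists_prime_orderOf_dvd_card' (G := H) 2 (by rw [hH])
          obtain ⟨g', hg'⟩ := exists_prime_orderOf_dvd_card' (G := K) 2 (by rw [hK])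
          rw [← Subgroup.orderOf_coe] at hg hg'
          have he : (g : G) = (g' : G) := hρ (LinearEquiv.ext fun v => (hinv _ hg v).trans (hinv _ hg' v).symm)
          have eH : Subgroup.zpowers (g : G) = H := Subgroup.eq_of_le_of_card_ge
            (Subgroup.zpowers_le.mpr g.2) (by rw [Nat.card_zpowers, hg, hH])
          have eK : Subgroup.zpowers (g' : G) = K := Subgroup.eq_of_le_of_card_ge
            (Subgroup.zpowers_le.mpr g'.2) (by rw [Nat.card_zpowers, hg', hK])
          rw [← eH, ← eK, he]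
        rcases Cfsg.Agent.Lib.PUnique.isCyclic_or_quaternion hG huniq with hc | ⟨-, m, ⟨e⟩⟩
        · exact Or.inl ⟨hc, hk⟩
        · refine Or.inr (Or.inl ?_)
          have h4 := Nat.card_congr e.toEquiv
          rw [hk, Nat.card_eq_fintype_card, QuaternionGroup.card] at h4
          rw [show 2 ^ m = 2 by omega] at e
          exact ⟨e⟩
      · norm_num at hk
        refine Or.inr (Or.inr ⟨?_, hk⟩)
        let E2 : GL (Fin n) (ZMod 3) ≃* GL (Fin 2) (ZMod 3) :=
          Units.mapEquiv (Matrix.reindexAlgEquiv (ZMod 3) (ZMod 3) (finCongr hn2)).toMulEquiv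
        exact isQuasiDihedral_of_sixteen (E2.toMonoidHom.comp f) (E2.injective.comp hf) hk

end Cfsg.Agent.S3370
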