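import Cfsg.Statements.S3371
import Cfsg.Agent.Lib.Elem69.HalfTransitiveBlocks
import Cfsg.Agent.Lib.Elem69.HalfTransitiveDihedral

set_option autoImplicit false
open Cfsg

namespace Cfsg.Agent.S3371

open Cfsg.Agent.Lib.Elem69 Cfsg.Agent.Lib.Elem69.Half

theorem result (q : ℕ) [Fact q.Prime] {V : Type*} [AddCommGroup V] [Module (ZMod q) V] [Finite V] [Nontrivial V]
    {G : Type*} [Group G] [Finite G] (p : ℕ) [Fact p.Prime] (hG : IsPGroup p G)
    (ρ : G →* (V ≃ₗ[ZMod q] V)) (hρ : Function.Injective ρ)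
    (hhalf : ∀ v w : V, v ≠ 0 → w ≠ 0 → Nat.card {u : V | ∃ g : G, ρ g v = u} = Nat.card {u : V | ∃ g : G, ρ g w = u}) :
    ((IsCyclic G ∨ ∃ n : ℕ, Nonempty (G ≃* QuaternionGroup n)) ∧ ∀ v : V, v ≠ 0 → ∀ g : G, ρ g v = v → g = 1) ∨
    (Nat.card V = q ^ 2 ∧ ∃ m : ℕ, q = 2 ^ m - 1 ∧
      (Nonempty (G ≃* DihedralGroup (2 ^ m)) ∨ (Cfsg.IsQuasiDihedral G ∧ Nat.card G = 2 ^ (m + 2)))) ∨
    (Nat.card V = q ^ 2 ∧ (∃ m : ℕ, q = 2 ^ m + 1) ∧
      ∃ e : V ≃ₗ[ZMod q] (Fin 2 → ZMod q), ∀ f : (Fin 2 → ZMod q) ≃ₗ[ZMod q] (Fin 2 → ZMod q),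
        (∃ g : G, f = e.symm.trans ((ρ g).trans e)) ↔
        ∃ a s : ZMod q, a ≠ 0 ∧ (s = 1 ∨ s = -1) ∧
          ((∀ v, f v = ![a * v 0, s * a⁻¹ * v 1]) ∨ (∀ v, f v = ![s * a⁻¹ * v 1, a * v 0]))) ∨
    (Nat.card V = 81 ∧ q = 3 ∧ p = 2) := by
  classical
  have hpp := Fact.out (p := p.Prime)
  have hs : EqStab ρ := eqStab_of_orbits ρ hhalf
  by_cases hfree : ∀ v : V, v ≠ 0 → ∀ g : G, ρ g v = v → g = 1
  · refine Or.inl ⟨?_, hfree⟩
    by_cases hpq : p = q
    · have h1 := card_eq_one_of_eq ρ hρ hG hs hpq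
      haveI := (Nat.card_eq_one_iff_unique.mp h1).1
      exact Or.inl inferInstance
    · rcases cyclic_or_quaternion ρ hG hpq hfree with h | ⟨-, n, h⟩
      · exact Or.inl h
      · exact Or.inr ⟨_, h⟩
  right
  push Not at hfree
  obtain ⟨v0, hv0, g0, hg0, hg01⟩ := hfree
  have hns : ∃ v : V, v ≠ 0 ∧ stab ρ v ≠ ⊥ :=
    ⟨v0, hv0, fun h => hg01 ((Subgroup.eq_bot_iff_forall _).mp h g0 hg0)⟩
  have hqp : p ≠ q := fun h => by
    haveI := (Nat.card_eq_one_iff_unique.mp (card_eq_one_of_eq ρ hρ hG hs h)).1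
    exact hg01 (Subsingleton.elim g0 1)
  have hirr := fun W hW => irreducible ρ hρ hG hqp hs hns W hW
  -- elements of order `p` are not all central
  have hcen : ¬ ∀ y : G, y ^ p = 1 → y ∈ Subgroup.center G := fun h =>
    hg01 (free_of_central ρ hρ hG hirr h v0 hv0 g0 hg0)
  have hnc : ¬ IsCyclic G := fun h => hcen fun y _ => by
    haveI := h
    exact Subgroup.mem_center_iff.mpr fun g => IsCyclic.commutative.is_comm.comm g y
  have blocks : ∀ E : Subgroup G, E.Normal → Cfsg.IsElementaryAbelian p E → Nat.card E = p ^ 2 →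
    p = 2 ∧ ((Nat.card V = 81 ∧ q = 3) ∨
      (Nat.card V = q ^ 2 ∧ (∃ m : ℕ, q = 2 ^ m + 1) ∧
      ∃ e : V ≃ₗ[ZMod q] (Fin 2 → ZMod q), ∀ f : (Fin 2 → ZMod q) ≃ₗ[ZMod q] (Fin 2 → ZMod q),
        (∃ g : G, f = e.symm.trans ((ρ g).trans e)) ↔
        ∃ a s : ZMod q, a ≠ 0 ∧ (s = 1 ∨ s = -1) ∧
          ((∀ v, f v = ![a * v 0, s * a⁻¹ * v 1]) ∨ (∀ v, f v = ![s * a⁻¹ * v 1, a * v 0])))) := by
    intro E hEn hE hEc
    obtain ⟨H, W, hHi, hsup, hind, hHW, hker, hperm⟩ := exists_blocks q p hG ρ hρ hirr E hEn hE hEc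
    exact blocks_case ρ hρ hG hqp hs H W hHi hsup hind hHW hker hperm
  by_cases hp2 : p = 2
  swap
  · obtain ⟨E, h1, h2, h3, -⟩ := exists_normal_elementary_sq hp2 hG hnc
    exact absurd (blocks E h1 h2 h3).1 hp2
  subst hp2
  have hq2 : q ≠ 2 := Ne.symm hqp
  rcases exists_normal_klein_or hG with ⟨E, h1, h2, h3⟩ | h | ⟨k, ⟨φ⟩⟩ | ⟨k, ⟨φ⟩⟩ | h
  · rcases (blocks E h1 h2 h3).2 with h | h
    · exact Or.inr (Or.inr ⟨h.1, h.2, rfl⟩)
    · exact Or.inr (Or.inl h)
  · exact absurd h hnc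
  · -- quaternion groups have a central involution only
    exfalso
    haveI : NeZero k := ⟨by
      rintro rfl
      haveI : Finite (QuaternionGroup 0) := Finite.of_equiv G φ.toEquiv
      haveI : Infinite (ZMod (2 * 0)) := Int.infinite
      exact (Infinite.of_injective (α := QuaternionGroup 0) QuaternionGroup.a fun a b h => by injection h).not_finite
        inferInstance⟩
    refine hcen fun y hy => Subgroup.mem_center_iff.mpr fun g => φ.injective ?_
    have hy' : φ y ^ 2 = 1 := by rw [← map_pow, hy, map_one]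
    rw [map_mul, map_mul]
    obtain ⟨i, hi⟩ | ⟨i, hi⟩ : (∃ i, φ y = QuaternionGroup.a i) ∨ ∃ i, φ y = QuaternionGroup.xa i := by
      cases φ y with
      | a i => exact Or.inl ⟨i, rfl⟩
      | xa i => exact Or.inr ⟨i, rfl⟩
    · rw [hi] at hy' ⊢
      rw [pow_two, QuaternionGroup.a_mul_a, QuaternionGroup.one_def, QuaternionGroup.a.injEq] at hy'
      cases φ g with
      | a j => simp [QuaternionGroup.a_mul_a, add_comm]
      | xa j =>
        rw [QuaternionGroup.xa_mul_a, QuaternionGroup.a_mul_xa, QuaternionGroup.xa.injEq]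
        linear_combination hy'
    · rw [hi] at hy'
      have := orderOf_dvd_of_pow_eq_one hy'
      rw [QuaternionGroup.orderOf_xa] at this
      exact absurd this (by norm_num)
  · -- dihedral groups
    haveI hk0 : NeZero k := ⟨by
      rintro rfl
      haveI : Finite (DihedralGroup 0) := Finite.of_equiv G φ.toEquiv
      haveI : Infinite (ZMod 0) := Int.infinite
      exact (Infinite.of_injective (α := DihedralGroup 0) DihedralGroup.r fun a b h => by injection h).not_finite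
        inferInstance⟩
    obtain ⟨N, hN⟩ := IsPGroup.iff_card.mp hG
    have hcardk : 2 * k = 2 ^ N := by rw [← hN, Nat.card_congr φ.toEquiv, DihedralGroup.nat_card]
    obtain ⟨n, rfl⟩ : ∃ n, N = n + 1 := Nat.exists_eq_add_one_of_ne_zero (by rintro rfl; simp at hcardk)
    obtain rfl : k = 2 ^ n := by rw [pow_succ] at hcardk; omega
    have hn : 2 ≤ n := by
      by_contra hn
      refine hcen fun y _ => Subgroup.mem_center_iff.mpr fun g => φ.injective ?_
      rw [map_mul, map_mul]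
      obtain rfl | rfl : n = 0 ∨ n = 1 := by omega
      · exact (show ∀ a b : DihedralGroup 1, a * b = b * a by decide) (φ g) (φ y)
      · exact (show ∀ a b : DihedralGroup 2, a * b = b * a by decide) (φ g) (φ y)
    let x := φ.symm (DihedralGroup.r 1)
    let y := φ.symm (DihedralGroup.sr 0)
    have hx : orderOf x = 2 ^ n := by
      rw [MulEquiv.orderOf_eq, DihedralGroup.orderOf_r_one]
    have hy2 : y ^ 2 = 1 := by
      rw [← map_pow, pow_two, DihedralGroup.sr_mul_self, map_one]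
    have hy : y ∉ Subgroup.zpowers x := by
      intro h
      obtain ⟨i, hi⟩ := Subgroup.mem_zpowers_iff.mp h
      rw [← map_zpow] at hi
      have := φ.symm.injective hi
      rw [DihedralGroup.r_one_zpow] at this
      cases this
    have hyx : y * x * y⁻¹ = x ^ (-1 : ℤ) := by
      rw [← map_inv, ← map_mul, ← map_mul, ← map_zpow]
      congr 1
      simp [DihedralGroup.r_one_zpow]
    have hT : Nat.card {t : G // t ∉ Subgroup.zpowers x ∧ t ^ 2 = 1} = 2 ^ n :=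
      card_outer_involutions hx hy2 hy hyx hN 1 (2 ^ n) (one_mul _) (by simp)
    obtain ⟨hV, hq⟩ := dihedral_like ρ hρ hq2 hirr hs hns hn hx hy2 hy hyx (by norm_num) hN hn hT
    exact Or.inl ⟨hV, n, hq, Or.inl ⟨φ⟩⟩
  · -- semidihedral groups
    obtain ⟨n, hn, hN, x, y, hx, hyo, hyx⟩ := h
    have hy2 : y ^ 2 = 1 := hyo ▸ pow_orderOf_eq_one y
    rw [← zpow_natCast] at hyx
    set c : ℤ := ((2 ^ (n - 1) - 1 : ℕ) : ℤ) with hcdef
    have hc1 : c + 1 = ((2 ^ (n - 1) : ℕ) : ℤ) := by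
      rw [hcdef, Nat.cast_sub (Nat.one_le_two_pow), Nat.cast_one, sub_add_cancel]
    have h2n : ((2 ^ n : ℕ) : ℤ) = ((2 ^ (n - 1) : ℕ) : ℤ) * 2 := by
      rw [← Nat.cast_ofNat (n := 2) (R := ℤ), ← Nat.cast_mul, ← pow_succ, show n - 1 + 1 = n by omega]
    have h4 : (4 : ℤ) ∣ c + 1 := by
      rw [hc1]
      refine ⟨((2 ^ (n - 3) : ℕ) : ℤ), ?_⟩
      rw [show n - 1 = n - 3 + 2 by omega, pow_add]
      push_cast; ring
    have hy : y ∉ Subgroup.zpowers x := by
      intro h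
      obtain ⟨i, rfl⟩ := Subgroup.mem_zpowers_iff.mp h
      have h1 : x ^ c = x ^ (1 : ℤ) := by
        rw [← hyx, zpow_one, (((Commute.refl x).zpow_left i)).eq, mul_inv_cancel_right]
      have h2 := dvd_of_zpow_eq_zpow hx h1
      obtain ⟨k, hk⟩ := h4
      obtain ⟨l, hl⟩ := h2
      rw [show n = n - 2 + 2 by omega, pow_add] at hl
      push_cast at hl
      have hl' : c - 1 = 4 * ((2 : ℤ) ^ (n - 2) * l) := by rw [hl]; ring
      omega
    have hT : Nat.card {t : G // t ∉ Subgroup.zpowers x ∧ t ^ 2 = 1} = 2 ^ (n - 1) := by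
      refine card_outer_involutions hx hy2 hy hyx hN 2 (2 ^ (n - 1))
        (by rw [← pow_succ']; congr 1; omega) fun i => ?_
      rw [hc1, h2n]
      exact mul_dvd_mul_iff_left (by positivity)
    obtain ⟨hV, hq⟩ := dihedral_like ρ hρ hq2 hirr hs hns (by omega) hx hy2 hy hyx h4 hN (by omega) hT
    exact Or.inl ⟨hV, n - 1, hq, Or.inr ⟨⟨n, hn, hN, x, y, hx, hyo, by rw [← zpow_natCast]; exact hyx⟩,
      by rw [hN]; congr 1; omega⟩⟩

end Cfsg.Agent.S3371
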