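import Cfsg.Statements.S3374
import Mathlib
import Cfsg.Agent.S3378
import Cfsg.Agent.Lib.Recognition.AffineGroup
-- import your own Cfsg.Agent.* helpers here

set_option autoImplicit false
open Cfsg

namespace Cfsg.Agent.S3374

/-- First generator in `SL(2,11)`. -/
def tx : Matrix.SpecialLinearGroup (Fin 2) (ZMod 11) := ⟨!![0, 1; 10, 10], by decide⟩

/-- Second generator in `SL(2,11)`. -/
def ty : Matrix.SpecialLinearGroup (Fin 2) (ZMod 11) := ⟨!![0, 2; 5, 3], by decide⟩

/-- The central involution of `SL(2,11)`. -/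
def tz : Matrix.SpecialLinearGroup (Fin 2) (ZMod 11) := ⟨!![10, 0; 0, 10], by decide⟩

/-- The element named by a word. -/
def tau (w : List ℕ) : Matrix.SpecialLinearGroup (Fin 2) (ZMod 11) :=
  (w.map fun i => if i = 0 then tx else ty).prod

theorem range_words :
    ((Cfsg.Agent.S3378.words.map tau).map fun s => [s.1 0 0, s.1 0 1, s.1 1 0, s.1 1 1]).Nodup := by
  decide +kernel

theorem trace_words :
    ∀ s ∈ Cfsg.Agent.S3378.words.map tau, s = 1 ∨ s.1 0 0 + s.1 1 1 ≠ 2 := by
  decide +kernel

theorem fix_eq_zero (s : Matrix.SpecialLinearGroup (Fin 2) (ZMod 11)) (hs : s.1 0 0 + s.1 1 1 ≠ 2)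
    (v : Fin 2 → ZMod 11) (hv : s.1.mulVec v = v) : v = 0 := by
  have : Fact (Nat.Prime 11) := ⟨by norm_num⟩
  refine Matrix.eq_zero_of_mulVec_eq_zero (M := s.1 - 1) ?_ (by rw [Matrix.sub_mulVec, hv, Matrix.one_mulVec, sub_self])
  have hd := s.2
  rw [Matrix.det_fin_two] at hd
  rw [Matrix.det_fin_two]
  simp only [Matrix.sub_apply, Matrix.one_apply_eq, Matrix.one_apply_ne (show (0 : Fin 2) ≠ 1 by decide),
    Matrix.one_apply_ne (show (1 : Fin 2) ≠ 0 by decide), sub_zero]
  intro h
  apply hs
  linear_combination hd - h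

/-- SL(2,5) occurs as a Frobenius complement: there is a finite group L with a subgroup H isomorphic to SL(2,5) which is a non-trivial proper subgroup meeting each conjugate gHg⁻¹ with g outside H trivially. -/
theorem result :
    ∃ (L : Type) (_ : Group L) (_ : Finite L) (H : Subgroup L),
      Cfsg.IsFrobeniusComplement H ∧ Nonempty (H ≃* Matrix.SpecialLinearGroup (Fin 2) (ZMod 5)) := by
  classical
  have : Fact (Nat.Prime 11) := ⟨by norm_num⟩
  obtain ⟨hfin, hle⟩ := Cfsg.Agent.S3378.card_le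
  obtain ⟨e5⟩ := Cfsg.Agent.S3378.sl_iso
  have hrel : ∀ r ∈ Cfsg.Agent.S3378.rels, FreeGroup.lift ![tx, ty, tz] r = 1 := by
    simp only [Cfsg.Agent.S3378.rels, Set.mem_insert_iff, Set.mem_singleton_iff]
    rintro r (rfl | rfl | rfl | rfl | rfl | rfl) <;>
      simp only [map_pow, map_mul, map_inv, FreeGroup.lift_apply_of, Matrix.cons_val_zero,
        Matrix.cons_val_one, Matrix.cons_val] <;> decide +kernel
  let θ := PresentedGroup.toGroup hrel
  let T := ((Cfsg.Agent.S3378.words.map tau).toFinset : Set (Matrix.SpecialLinearGroup (Fin 2) (ZMod 11)))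
  have hsub : T ⊆ θ.range := by
    intro s hs
    simp only [T, List.coe_toFinset, List.mem_map, Set.mem_ofPred_eq] at hs
    obtain ⟨w, -, rfl⟩ := hs
    refine list_prod_mem fun a ha => ?_
    obtain ⟨i, -, rfl⟩ := List.mem_map.mp ha
    split_ifs
    · exact ⟨PresentedGroup.of 0, PresentedGroup.toGroup.of hrel⟩
    · exact ⟨PresentedGroup.of 1, PresentedGroup.toGroup.of hrel⟩
  have hT : Nat.card T = 120 := by
    rw [Nat.card_eq_card_toFinset, Finset.toFinset_coe, List.toFinset_card_of_nodup (List.Nodup.of_map _ range_words),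
      List.length_map]
    decide +kernel
  have hR : Nat.card θ.range ≤ 120 :=
    (Nat.card_le_card_of_surjective θ.rangeRestrict θ.rangeRestrict_surjective).trans hle
  have hTeq : T = (θ.range : Set (Matrix.SpecialLinearGroup (Fin 2) (ZMod 11))) := by
    refine Set.eq_of_subset_of_ncard_le hsub ?_ (Set.toFinite _)
    rw [← Nat.card_coe_set_eq, ← Nat.card_coe_set_eq, hT]
    exact hR
  have hinj : Function.Injective θ := by
    have h : Nat.card (PresentedGroup Cfsg.Agent.S3378.rels) = Nat.card θ.range := by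
      refine le_antisymm (hle.trans ?_) (Nat.card_le_card_of_surjective θ.rangeRestrict θ.rangeRestrict_surjective)
      rw [← hT, hTeq]
      exact le_rfl
    have hb := (Nat.bijective_iff_surjective_and_card θ.rangeRestrict).mpr ⟨θ.rangeRestrict_surjective, h⟩
    exact fun a b hab => hb.1 (Subtype.ext hab)
  let ρ : PresentedGroup Cfsg.Agent.S3378.rels →* GL (Fin 2) (ZMod 11) :=
    Matrix.SpecialLinearGroup.toGL.comp θ
  have hρ : Lib.Affine.FPF ρ := by
    intro h h1 v hv
    have hmem : θ h ∈ T := hTeq ▸ (⟨h, rfl⟩ : θ h ∈ θ.range)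
    simp only [T, List.coe_toFinset, Set.mem_ofPred_eq] at hmem
    rcases trace_words _ hmem with he | he
    · exact absurd (hinj (he.trans (map_one θ).symm)) h1
    · exact fix_eq_zero _ he v hv
  have : Nontrivial (Matrix.SpecialLinearGroup (Fin 2) (ZMod 5)) := ⟨⟨Cfsg.Agent.S3378.sz, 1, by decide +kernel⟩⟩
  have : Nontrivial (PresentedGroup Cfsg.Agent.S3378.rels) := e5.toEquiv.nontrivial
  refine ⟨Lib.Affine.Aff ρ, inferInstance, Lib.Affine.finite_aff ρ,
    (SemidirectProduct.inr : PresentedGroup Cfsg.Agent.S3378.rels →* Lib.Affine.Aff ρ).range,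
    Lib.Affine.isFrobeniusComplement_range_inr ρ hρ, ⟨?_⟩⟩
  exact (MonoidHom.ofInjective SemidirectProduct.inr_injective).symm.trans e5

end Cfsg.Agent.S3374
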