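import Cfsg.Statements.S3375
import Mathlib
-- import your own Cfsg.Agent.* helpers here

set_option autoImplicit false
open Cfsg

namespace Cfsg.Agent.S3375

/-- Let γ be an automorphism of order 2 of a finite group H. (i) If γ fixes only the identity, then H is abelian and γ inverts every element. (ii) If γ has exactly two fixed points and H has a subgroup of index 2, then H has a γ-invariant abelian subgroup of index 2 on which γ acts by inversion. -/
theorem result {H : Type*} [Group H] [Finite H] (γ : MulAut H) (hγ : orderOf γ = 2) :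
    ((∀ h : H, γ h = h → h = 1) → (∀ a b : H, a * b = b * a) ∧ ∀ h : H, γ h = h⁻¹) ∧
    ((Nat.card {h : H // γ h = h} = 2 ∧ ∃ M : Subgroup H, M.index = 2) →
      ∃ A : Subgroup H, A.index = 2 ∧ IsMulCommutative A ∧ (∀ a ∈ A, γ a ∈ A) ∧ ∀ a ∈ A, γ a = a⁻¹) := by
  classical
  have hγ2 : ∀ h : H, γ (γ h) = h := fun h => by
    have h1 : γ ^ 2 = 1 := hγ ▸ pow_orderOf_eq_one γ
    rw [← MulAut.mul_apply, ← pow_two, h1, MulAut.one_apply]
  set d : H → H := fun h => h⁻¹ * γ h with hd
  have hinv : ∀ h : H, γ (d h) = (d h)⁻¹ := fun h => by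
    simp [hd, map_mul, map_inv, hγ2]
  refine ⟨fun hfix => ?_, ?_⟩
  · have hinj : Function.Injective d := by
      intro a b hab
      have h : γ (a * b⁻¹) = a * b⁻¹ := by
        have h1 : γ a = a * (b⁻¹ * γ b) := by
          rw [← show d b = b⁻¹ * γ b from rfl, ← hab, hd]; group
        rw [map_mul, map_inv, h1]
        group
      exact mul_inv_eq_one.mp (hfix _ h)
    have hall : ∀ x : H, γ x = x⁻¹ := fun x => by
      obtain ⟨h, rfl⟩ := (Finite.injective_iff_surjective.mp hinj) x
      exact hinv h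
    refine ⟨fun a b => ?_, hall⟩
    have h := map_mul γ a b
    rw [hall, hall, hall, mul_inv_rev] at h
    calc a * b = (b⁻¹ * a⁻¹)⁻¹ := by group
      _ = (a⁻¹ * b⁻¹)⁻¹ := by rw [h]
      _ = b * a := by group
  rintro ⟨hcard, M₀, hM₀⟩
  obtain ⟨M, hM2, hMinv⟩ : ∃ M : Subgroup H, M.index = 2 ∧ ∀ h : H, γ h ∈ M ↔ h ∈ M := by
    by_cases hsame : ∀ h : H, γ h ∈ M₀ ↔ h ∈ M₀
    · exact ⟨M₀, hM₀, hsame⟩
    push Not at hsame
    obtain ⟨a, ha⟩ := hsame
    let M : Subgroup H :=
      { carrier := {h | γ h ∈ M₀ ↔ h ∈ M₀}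
        one_mem' := by simp
        mul_mem' := fun {x y} hx hy => by
          simp only [Set.mem_ofPred_eq] at hx hy ⊢
          rw [map_mul, Subgroup.mul_mem_iff_of_index_two hM₀,
            Subgroup.mul_mem_iff_of_index_two hM₀, hx, hy]
        inv_mem' := fun {x} hx => by
          simp only [Set.mem_ofPred_eq] at hx ⊢
          rw [map_inv, inv_mem_iff, inv_mem_iff, hx] }
    have hmem : ∀ h : H, h ∈ M ↔ (γ h ∈ M₀ ↔ h ∈ M₀) := fun h => Iff.rfl
    refine ⟨M, ?_, fun h => by rw [hmem, hmem, hγ2]; exact ⟨fun e => e.symm, fun e => e.symm⟩⟩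
    rw [Subgroup.index_eq_two_iff]
    refine ⟨a, fun b => ?_⟩
    rw [hmem, hmem, map_mul, Subgroup.mul_mem_iff_of_index_two hM₀,
      Subgroup.mul_mem_iff_of_index_two hM₀]
    simp only [Xor, xor_def]
    rcases ha with ⟨h1, h2⟩ | ⟨h1, h2⟩ <;> tauto
  have hdM : ∀ h, d h ∈ M := fun h => by
    rw [hd, Subgroup.mul_mem_iff_of_index_two hM2, inv_mem_iff, hMinv]
  -- the fibres of `d` have size at most two
  have : Fintype H := Fintype.ofFinite H
  have hfib : ∀ y ∈ (Finset.univ.image d), (Finset.univ.filter fun h => d h = y).card ≤ 2 := by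
    intro y hy
    obtain ⟨b, -, rfl⟩ := Finset.mem_image.mp hy
    rw [Nat.card_eq_fintype_card, Fintype.card_subtype] at hcard
    rw [← hcard]
    refine Finset.card_le_card_of_injOn (fun h => h * b⁻¹) (fun h hh => ?_)
      (fun u _ v _ huv => mul_right_cancel huv)
    simp only [Finset.coe_filter, Finset.mem_univ, true_and, Set.mem_ofPred_eq] at hh ⊢
    have h1 : γ h = h * (b⁻¹ * γ b) := by
      rw [← show d b = b⁻¹ * γ b from rfl, ← hh, hd]; group
    rw [map_mul, map_inv, h1]
    group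
  have h1 : Fintype.card H ≤ 2 * (Finset.univ.image d).card :=
    Finset.card_le_mul_card_image Finset.univ 2 hfib
  have h2 : Nat.card M * 2 = Fintype.card H := by
    rw [← hM2, Subgroup.card_mul_index, Nat.card_eq_fintype_card]
  have h3 : Finset.univ.image d = (M : Set H).toFinset := by
    refine Finset.eq_of_subset_of_card_le (fun x hx => ?_) ?_
    · obtain ⟨h, -, rfl⟩ := Finset.mem_image.mp hx
      rw [Set.mem_toFinset]
      exact hdM h
    · rw [Set.toFinset_card]
      rw [Nat.card_eq_fintype_card] at h2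
      have : Fintype.card ↥(↑M : Set H) = Fintype.card M := Fintype.card_congr (Equiv.refl _)
      omega
  have hall : ∀ x ∈ M, γ x = x⁻¹ := fun x hx => by
    have : x ∈ Finset.univ.image d := by rw [h3, Set.mem_toFinset]; exact hx
    obtain ⟨h, -, rfl⟩ := Finset.mem_image.mp this
    exact hinv h
  refine ⟨M, hM2, ⟨⟨fun a b => Subtype.ext ?_⟩⟩, fun a ha => (hMinv a).mpr ha, hall⟩
  have h := map_mul γ (a : H) b
  rw [hall _ a.2, hall _ b.2, hall _ (M.mul_mem a.2 b.2), mul_inv_rev] at h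
  show (a : H) * b = (b : H) * a
  calc (a : H) * b = ((b : H)⁻¹ * (a : H)⁻¹)⁻¹ := by group
    _ = ((a : H)⁻¹ * (b : H)⁻¹)⁻¹ := by rw [h]
    _ = (b : H) * a := by group

end Cfsg.Agent.S3375
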