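import Cfsg.Statements.S3376
import Cfsg.Agent.Lib.RankOne.Nilpotent

set_option autoImplicit false
open Cfsg

namespace Cfsg.Agent.S3376

/-- Let G be a group of order 162 = 3⁴·2 with Sylow 3-subgroup S and Sylow 2-subgroup T, having an elementary abelian normal subgroup J of order 27, such that Z = Z(S) has order 3, Z centralizes T, and C_S(T) ≠ S. Then G is isomorphic to the centralizer in Sym(9) of a product of three disjoint 3-cycles. -/
theorem result {G : Type*} [Group G] [Finite G] (hG : Nat.card G = 162)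
    (S : Sylow 3 G) (T : Sylow 2 G) (J : Subgroup G) [hJn : J.Normal] (hJcomm : IsMulCommutative J)
    (hJexp : ∀ a ∈ J, a ^ 3 = 1) (hJcard : Nat.card J = 27)
    (Z : Subgroup G) (hZ : Z = (S : Subgroup G) ⊓ Subgroup.centralizer ((S : Subgroup G) : Set G)) (hZcard : Nat.card Z = 3)
    (hZT : Z ≤ Subgroup.centralizer ((T : Subgroup G) : Set G))
    (hST : (S : Subgroup G) ⊓ Subgroup.centralizer ((T : Subgroup G) : Set G) ≠ S) :
    Nonempty (G ≃* Subgroup.centralizer ({Equiv.swap (0 : Fin 9) 1 * Equiv.swap 1 2 * Equiv.swap 3 4 * Equiv.swap 4 5 * Equiv.swap 6 7 * Equiv.swap 7 8} : Set (Equiv.Perm (Fin 9)))) := by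
  classical
  set Q : Subgroup G := (S : Subgroup G) with hQdef
  have hp3 : Fact (Nat.Prime 3) := ⟨Nat.prime_three⟩
  have hp2 : Fact (Nat.Prime 2) := ⟨Nat.prime_two⟩
  have e3 : Nat.factorization 162 3 = 4 := by
    rw [show (162 : ℕ) = 3 ^ 4 * 2 by norm_num, Nat.factorization_mul (by norm_num) (by norm_num),
      Nat.Prime.factorization_pow Nat.prime_three, Nat.Prime.factorization Nat.prime_two]
    simp
  have e2 : Nat.factorization 162 2 = 1 := by
    rw [show (162 : ℕ) = 3 ^ 4 * 2 by norm_num, Nat.factorization_mul (by norm_num) (by norm_num),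
      Nat.Prime.factorization_pow Nat.prime_three, Nat.Prime.factorization Nat.prime_two]
    simp
  have hS81 : Nat.card Q = 81 := by rw [hQdef, S.card_eq_multiplicity, hG, e3]; norm_num
  have hT2 : Nat.card (T : Subgroup G) = 2 := by rw [T.card_eq_multiplicity, hG, e2]; norm_num
  obtain ⟨t, htne, hTt⟩ : ∃ t : G, t ≠ 1 ∧ (T : Subgroup G) = Subgroup.zpowers t := by
    haveI : IsCyclic (T : Subgroup G) := isCyclic_of_prime_card hT2
    obtain ⟨t, ht⟩ := (T : Subgroup G).isCyclic_iff_exists_zpowers_eq_top.mp inferInstance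
    refine ⟨t, ?_, ht.symm⟩
    rintro rfl
    rw [Subgroup.zpowers_one_eq_bot] at ht
    rw [← ht, Subgroup.card_bot] at hT2
    norm_num at hT2
  have htT : t ∈ (T : Subgroup G) := by rw [hTt]; exact Subgroup.mem_zpowers t
  have ht2 : t * t = 1 := by
    have : (⟨t, htT⟩ : (T : Subgroup G)) ^ Nat.card (T : Subgroup G) = 1 := pow_card_eq_one'
    rw [hT2, pow_two] at this
    exact congrArg Subtype.val this
  have hti : t⁻¹ = t := inv_eq_of_mul_eq_one_right ht2
  have hJQ : J ≤ Q := by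
    have hJp : IsPGroup 3 J := IsPGroup.iff_card.mpr ⟨3, by rw [hJcard]; norm_num⟩
    obtain ⟨R, hR⟩ := hJp.exists_le_sylow
    obtain ⟨g, hg⟩ := MulAction.exists_smul_eq G R S
    intro x hx
    have h1 : g⁻¹ * x * g ∈ (R : Subgroup G) := hR (by simpa using hJn.conj_mem x hx g⁻¹)
    have h2 := Subgroup.smul_mem_pointwise_smul _ (MulAut.conj g) _ h1
    rw [← Sylow.coe_subgroup_smul, hg] at h2
    simpa [MulAut.smul_def, mul_assoc] using h2
  have hQn : Q.Normal := Subgroup.normal_of_index_eq_two (by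
    have := Q.card_mul_index
    rw [hS81, hG] at this
    omega)
  have hcm : ∀ a ∈ J, ∀ b ∈ J, a * b = b * a := fun a ha b hb =>
    congrArg Subtype.val (hJcomm.is_comm.comm (⟨a, ha⟩ : J) ⟨b, hb⟩)
  have hidx : J.relIndex Q = 3 := by
    have := Subgroup.relIndex_mul_index (H := J) (K := Q) hJQ
    have h1 := J.card_mul_index
    have h2 := Q.card_mul_index
    rw [hJcard, hG] at h1
    rw [hS81, hG] at h2
    have hJi : J.index = 6 := by omega
    have hQi : Q.index = 2 := by omega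
    rw [hJi, hQi] at this
    omega
  have hcube : ∀ x ∈ Q, x ^ 3 ∈ J := by
    intro x hx
    have h := Subgroup.pow_index_mem (J.subgroupOf Q) (⟨x, hx⟩ : Q)
    have hi : (J.subgroupOf Q).index = 3 := hidx
    rw [hi] at h
    exact h
  have hgen : ∀ x ∈ Q, x ∉ J → ∀ y ∈ Q, ∃ a ∈ J, ∃ n : ℕ, n < 3 ∧ y = x ^ n * a := by
    intro x hx hxJ y hy
    haveI : Fact (Nat.Prime 3) := hp3
    have hc : Nat.card (↥Q ⧸ J.subgroupOf Q) = 3 := hidx
    have hx1 : QuotientGroup.mk' (J.subgroupOf Q) ⟨x, hx⟩ ≠ 1 := fun h =>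
      hxJ (Subgroup.mem_subgroupOf.mp ((QuotientGroup.eq_one_iff _).mp h))
    have hmem := mem_powers_of_prime_card (g' := QuotientGroup.mk' (J.subgroupOf Q) ⟨y, hy⟩) hc hx1
    obtain ⟨n, hn⟩ := hmem
    simp only at hn
    have hx3 : (QuotientGroup.mk' (J.subgroupOf Q) ⟨x, hx⟩) ^ 3 = 1 := by rw [← hc]; exact pow_card_eq_one'
    rw [← Nat.div_add_mod n 3, pow_add, pow_mul, hx3, one_pow, one_mul, ← map_pow] at hn
    have h' := QuotientGroup.eq.mp hn
    rw [Subgroup.mem_subgroupOf] at h'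
    refine ⟨(x ^ (n % 3))⁻¹ * y, by simpa using h', n % 3, Nat.mod_lt _ (by norm_num), ?_⟩
    group
  have hZJ : Z ≤ J := by
    have hne : J.subgroupOf Q ≠ ⊥ := by
      intro h
      have := congrArg (Subgroup.map Q.subtype) h
      rw [Subgroup.map_subgroupOf_eq_of_le hJQ, Subgroup.map_bot] at this
      rw [this, Subgroup.card_bot] at hJcard
      norm_num at hJcard
    haveI := (S.2.isNilpotent : Group.IsNilpotent Q)
    have hmeet := Cfsg.Agent.Lib.Nilp.inf_center_ne_bot_of_normal (N := J.subgroupOf Q) hne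
    obtain ⟨w, hw, hw1⟩ := (Subgroup.bot_or_exists_ne_one _).resolve_left hmeet
    obtain ⟨hwJ, hwc⟩ := Subgroup.mem_inf.mp hw
    have hwZ : (w : G) ∈ Z := by
      rw [hZ]
      refine ⟨w.2, Subgroup.mem_centralizer_iff.mpr fun y hy => ?_⟩
      exact congrArg Subtype.val (Subgroup.mem_center_iff.mp hwc ⟨y, hy⟩)
    intro z hz
    have hw1' : (⟨(w : G), hwZ⟩ : Z) ≠ 1 := fun h => hw1 (Subtype.ext (congrArg Subtype.val h :))
    obtain ⟨n, hn⟩ := mem_zpowers_of_prime_card (g' := (⟨z, hz⟩ : Z)) hZcard hw1'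
    have : (w : G) ^ n = z := congrArg Subtype.val hn
    rw [← this]
    exact zpow_mem (Subgroup.mem_subgroupOf.mp hwJ) n
  have hZc : ∀ x ∈ Q, ∀ z ∈ Z, x * z = z * x := by
    intro x hx z hz
    rw [hZ] at hz
    exact Subgroup.mem_centralizer_iff.mp hz.2 x hx
  have hZt : ∀ z ∈ Z, t * z = z * t := fun z hz => Subgroup.mem_centralizer_iff.mp (hZT hz) t htT
  -- fixed points of an element outside `J`
  have hfix : ∀ x ∈ Q, x ∉ J → ∀ a ∈ J, x * a = a * x → a ∈ Z := by
    intro x hx hxJ a ha hax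
    rw [hZ]
    refine ⟨hJQ ha, Subgroup.mem_centralizer_iff.mpr fun y hy => ?_⟩
    obtain ⟨b, hb, n, -, rfl⟩ := hgen x hx hxJ y hy
    have h1 : Commute (x ^ n) a := (show Commute x a from hax).pow_left n
    calc x ^ n * b * a = x ^ n * (a * b) := by rw [mul_assoc, hcm b hb a ha]
      _ = a * (x ^ n * b) := by rw [← mul_assoc, h1.eq, mul_assoc]
  have hodd : ∀ x : G, x ∈ Q → x * x = 1 → x = 1 := by
    intro x hx h
    have h81 : (⟨x, hx⟩ : Q) ^ Nat.card Q = 1 := pow_card_eq_one'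
    rw [hS81] at h81
    have h81' : x ^ 81 = 1 := congrArg Subtype.val h81
    rw [show (81 : ℕ) = 2 * 40 + 1 from rfl, pow_succ, pow_mul, pow_two, h, one_pow, one_mul] at h81'
    exact h81'
  -- a `3`-element outside `J` inverted by `t`
  have htau : ∀ x ∈ Q, t * x * t ∈ Q := fun x hx => by
    have := hQn.conj_mem x hx t
    rwa [hti] at this
  have htJ : ∀ x ∈ J, t * x * t ∈ J := fun x hx => by
    have := hJn.conj_mem x hx t
    rwa [hti] at this
  obtain ⟨x₀, hx₀, hx₀J⟩ : ∃ x ∈ Q, x ∉ J := by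
    by_contra hcon
    push Not at hcon
    have := Subgroup.card_le_of_le (K := J) hcon
    omega
  have htt : ∀ x : G, t * (t * x * t) * t = x := by
    intro x
    calc t * (t * x * t) * t = (t * t) * x * (t * t) := by simp only [mul_assoc]
      _ = x := by rw [ht2, one_mul, mul_one]
  let D : G → G → G := fun x a => x * a * x⁻¹ * a⁻¹
  have hcJ : ∀ (x a : G), a ∈ J → x * a * x⁻¹ ∈ J := fun x a ha => hJn.conj_mem a ha x
  have hDJ : ∀ x a, a ∈ J → D x a ∈ J := fun x a ha => mul_mem (hcJ x a ha) (inv_mem ha)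
  have hDmul : ∀ x a b, a ∈ J → b ∈ J → D x (a * b) = D x a * D x b := by
    intro x a b ha hb
    simp only [D]
    calc x * (a * b) * x⁻¹ * (a * b)⁻¹ = (x * a * x⁻¹) * ((x * b * x⁻¹ * b⁻¹) * a⁻¹) := by group
      _ = (x * a * x⁻¹) * (a⁻¹ * (x * b * x⁻¹ * b⁻¹)) := by
          rw [hcm _ (hDJ x b hb) _ (inv_mem ha)]
      _ = _ := by group
  have hconjmul : ∀ (x a b : G), x * (a * b) * x⁻¹ = (x * a * x⁻¹) * (x * b * x⁻¹) := fun x a b => by group
  open scoped IsMulCommutative in
  have hJ3 : ∀ (u v w : J), (u * v⁻¹) * (u * v⁻¹)⁻¹ = 1 ∧ u ^ 3 = 1 := fun u v w =>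
    ⟨mul_inv_cancel _, Subtype.ext (hJexp u u.2)⟩
  -- `D x` is nilpotent
  have hD3 : ∀ x ∈ Q, ∀ a ∈ J, D x (D x (D x a)) = 1 := by
    intro x hx a ha
    have hc3 : x ^ 3 * a * (x ^ 3)⁻¹ = a := by
      rw [hcm _ (hcube x hx) a ha]; group
    set A : J := ⟨a, ha⟩
    set B : J := ⟨x * a * x⁻¹, hcJ x a ha⟩
    set C : J := ⟨x * (x * a * x⁻¹) * x⁻¹, hcJ x _ B.2⟩
    open scoped IsMulCommutative in
    let c : J →* J :=
      { toFun := fun u => ⟨x * u * x⁻¹, hcJ x u u.2⟩
        map_one' := by ext; simp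
        map_mul' := fun u v => Subtype.ext (hconjmul x u v) }
    have hcc : c (c (c A)) = A := by
      apply Subtype.ext
      show x * (x * (x * a * x⁻¹) * x⁻¹) * x⁻¹ = a
      refine Eq.trans ?_ hc3
      simp only [pow_succ, pow_zero, one_mul, mul_inv_rev, mul_assoc]
    open scoped IsMulCommutative in
    have key : D x (D x (D x a)) =
        (((c (c (c A * A⁻¹) * (c A * A⁻¹)⁻¹)) * (c (c A * A⁻¹) * (c A * A⁻¹)⁻¹)⁻¹ : J) : G) := rfl
    rw [key]
    open scoped IsMulCommutative in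
    have hf : c (c (c A * A⁻¹) * (c A * A⁻¹)⁻¹) * (c (c A * A⁻¹) * (c A * A⁻¹)⁻¹)⁻¹ = 1 := by
      have hab : ∀ {M : Type _} [AddCommGroup M] (a b c : M),
          ((a - c) - (c - b)) - ((c - b) - (b - a)) = (3 : ℕ) • b - (3 : ℕ) • c := fun a b c => by abel
      have h := hab (M := Additive J) (Additive.ofMul A) (Additive.ofMul (c A)) (Additive.ofMul (c (c A)))
      have h' : A / c (c A) / (c (c A) / c A) / (c (c A) / c A / (c A / A)) = c A ^ 3 / c (c A) ^ 3 := h
      simp only [map_mul, map_inv, hcc]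
      simp only [← div_eq_mul_inv]
      rw [h', (hJ3 (c A) A A).2, (hJ3 (c (c A)) A A).2]
      simp
    rw [hf]
    rfl
  obtain ⟨x, hx, hxJ, hxinv, hx3⟩ : ∃ x ∈ Q, x ∉ J ∧ t * x * t = x⁻¹ ∧ x ^ 3 = 1 := by
    obtain ⟨j, hj, n, hn, hy⟩ := hgen x₀ hx₀ hx₀J (t * x₀ * t) (htau x₀ hx₀)
    interval_cases n
    · exfalso
      rw [pow_zero, one_mul] at hy
      have := htJ _ hj
      rw [← hy, htt] at this
      exact hx₀J this
    · -- `t` would centralize `Q`
      exfalso
      rw [pow_one] at hy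
      have hDt : ∀ a ∈ J, D x₀ (t * a * t) = t * D x₀ a * t := by
        intro a ha
        have h1 : t * D x₀ a * t = (t * x₀ * t) * (t * a * t) * (t * x₀ * t)⁻¹ * (t * a * t)⁻¹ := by
          simp only [D, mul_inv_rev, hti]
          calc t * (x₀ * a * x₀⁻¹ * a⁻¹) * t
              = t * x₀ * (t * t) * a * (t * t) * x₀⁻¹ * (t * t) * a⁻¹ * t := by
                rw [ht2]; group
            _ = _ := by group
        rw [h1, hy, mul_inv_rev]
        simp only [D]
        congr 1
        calc x₀ * (t * a * t) * x₀⁻¹ = x₀ * ((t * a * t) * (j * j⁻¹)) * x₀⁻¹ := by group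
          _ = x₀ * (j * (t * a * t) * j⁻¹) * x₀⁻¹ := by
              rw [← mul_assoc (t * a * t) j, hcm _ (htJ a ha) j hj]
          _ = _ := by group
      have hd : ∀ a ∈ J, D x₀ a = 1 → t * a * t = a := by
        intro a ha h
        have hz := hfix x₀ hx₀ hx₀J a ha (by
          simp only [D, mul_inv_eq_one, mul_inv_eq_iff_eq_mul] at h; simpa using h)
        rw [hZt a hz, mul_assoc, ht2, mul_one]
      have hstep : ∀ a ∈ J, t * D x₀ a * t = D x₀ a → t * a * t = a := by
        intro a ha h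
        have hta := htJ a ha
        have hu : t * a * t * a⁻¹ ∈ J := mul_mem hta (inv_mem ha)
        have hDu : D x₀ (t * a * t * a⁻¹) = 1 := by
          have h' : D x₀ (t * a * t * a⁻¹) * D x₀ a = D x₀ a := by
            rw [← hDmul x₀ _ _ hu ha, show t * a * t * a⁻¹ * a = t * a * t by group, hDt a ha, h]
          exact mul_eq_right.mp h'
        have h2 := hd _ hu hDu
        have h3 : t * (t * a * t * a⁻¹) * t = a * (t * a * t)⁻¹ := by
          simp only [mul_inv_rev, hti]
          calc t * (t * a * t * a⁻¹) * t = (t * t) * a * (t * a⁻¹ * t) := by simp only [mul_assoc]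
            _ = _ := by rw [ht2, one_mul]; simp only [mul_assoc]
        rw [h3] at h2
        have h4 : (t * a * t * a⁻¹) * (t * a * t * a⁻¹) = 1 := by
          nth_rewrite 1 [← h2]
          group
        exact mul_inv_eq_one.mp (hodd _ (hJQ hu) h4)
      have hJfix : ∀ a ∈ J, t * a * t = a := fun a ha =>
        hstep a ha (hstep _ (hDJ _ a ha) (hstep _ (hDJ _ _ (hDJ _ a ha)) (by rw [hD3 x₀ hx₀ a ha, mul_one, ht2])))
      have hj1 : j = 1 := by
        refine hodd j (hJQ hj) ?_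
        have h := htt x₀
        rw [hy] at h
        have e : t * (x₀ * j) * t = (t * x₀ * t) * (t * j * t) := by
          calc t * (x₀ * j) * t = t * x₀ * (t * t) * j * t := by rw [ht2]; group
            _ = _ := by simp only [mul_assoc]
        rw [e, hy, hJfix j hj, mul_assoc] at h
        exact mul_eq_left.mp h
      rw [hj1, mul_one] at hy
      apply hST
      refine inf_eq_left.mpr fun y hy' => Subgroup.mem_centralizer_iff.mpr ?_
      intro u hu
      have hu' : u ∈ Subgroup.zpowers t := hTt ▸ hu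
      obtain ⟨k, rfl⟩ := hu'
      refine ((show Commute t y from ?_).zpow_left k).eq
      have hyfix : t * y * t = y := by
        obtain ⟨b, hb, m, -, rfl⟩ := hgen x₀ hx₀ hx₀J y hy'
        have hc : Commute t x₀ := by
          show t * x₀ = x₀ * t
          calc t * x₀ = t * x₀ * (t * t) := by rw [ht2, mul_one]
            _ = _ := by rw [← mul_assoc, hy]
        rw [← mul_assoc, (hc.pow_right m).eq, mul_assoc, mul_assoc, ← mul_assoc t b t, hJfix b hb]
      show t * y = y * t
      calc t * y = t * y * (t * t) := by rw [ht2, mul_one]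
        _ = _ := by rw [← mul_assoc, hyfix]
    · -- the inverting case
      refine ⟨x₀⁻¹ * (t * x₀ * t), mul_mem (inv_mem hx₀) (htau _ hx₀), ?_, ?_, ?_⟩
      · intro h
        rw [hy, show x₀⁻¹ * (x₀ ^ 2 * j) = x₀ * j by group] at h
        exact hx₀J (by simpa using mul_mem h (inv_mem hj))
      · simp only [mul_inv_rev, inv_inv, hti]
        calc t * (x₀⁻¹ * (t * x₀ * t)) * t = t * x₀⁻¹ * t * x₀ * (t * t) := by simp only [mul_assoc]
          _ = _ := by rw [ht2]; simp only [mul_assoc, mul_one]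
      · set w := x₀⁻¹ * (t * x₀ * t) with hw
        have hwQ : w ∈ Q := mul_mem (inv_mem hx₀) (htau _ hx₀)
        have hwJ : w ∉ J := by
          intro h
          rw [hw, hy, show x₀⁻¹ * (x₀ ^ 2 * j) = x₀ * j by group] at h
          exact hx₀J (by simpa using mul_mem h (inv_mem hj))
        have hinv : t * w * t = w⁻¹ := by
          rw [hw]
          simp only [mul_inv_rev, inv_inv, hti]
          calc t * (x₀⁻¹ * (t * x₀ * t)) * t = t * x₀⁻¹ * t * x₀ * (t * t) := by simp only [mul_assoc]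
            _ = _ := by rw [ht2]; simp only [mul_assoc, mul_one]
        have hz := hfix w hwQ hwJ _ (hcube w hwQ) ((Commute.refl w).pow_right 3).eq
        have h1 : t * w ^ 3 * t = w ^ 3 := by rw [hZt _ hz, mul_assoc, ht2, mul_one]
        have h2 : t * w ^ 3 * t = (w ^ 3)⁻¹ := by
          have := conj_pow (i := 3) (a := t) (b := w)
          rw [hti] at this
          rw [← this, hinv, inv_pow]
        refine hodd _ (hJQ (hcube w hwQ)) ?_
        nth_rewrite 1 [← h1]
        rw [h2, inv_mul_cancel]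
  -- the norm map
  let N : G → G := fun a => a * (x * a * x⁻¹) * (x * (x * a * x⁻¹) * x⁻¹)
  have hNJ : ∀ a ∈ J, N a ∈ J := fun a ha =>
    mul_mem (mul_mem ha (hcJ x a ha)) (hcJ x _ (hcJ x a ha))
  have hND : ∀ a ∈ J, N a = D x (D x a) := by
    intro a ha
    set A : J := ⟨a, ha⟩
    set B : J := ⟨x * a * x⁻¹, hcJ x a ha⟩
    set C : J := ⟨x * (x * a * x⁻¹) * x⁻¹, hcJ x _ B.2⟩
    have e1 : D x (D x a) = (((C * B⁻¹) * (B * A⁻¹)⁻¹ : J) : G) := by
      simp only [D, Subgroup.coe_mul, Subgroup.coe_inv, A, B, C]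
      group
    have e0 : N a = ((A * B * C : J) : G) := rfl
    rw [e0, e1]
    open scoped IsMulCommutative in
    apply congrArg Subtype.val
    open scoped IsMulCommutative in
    have hB : B⁻¹ * B⁻¹ = B := by
      have h := (hJ3 B B B).2
      rw [pow_succ, pow_two] at h
      rw [← mul_inv_rev, inv_eq_iff_mul_eq_one, h]
    open scoped IsMulCommutative in
    calc A * B * C = A * (B⁻¹ * B⁻¹) * C := by rw [hB]
      _ = _ := by simp [mul_comm, mul_left_comm, mul_assoc]
  have hDker : ∀ a ∈ J, D x a = 1 → a ∈ Z := fun a ha h => hfix x hx hxJ a ha (by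
    simp only [D, mul_inv_eq_one, mul_inv_eq_iff_eq_mul] at h; simpa using h)
  have hDZ : ∀ z ∈ Z, D x z = 1 := fun z hz => by
    simp only [D]; rw [hZc x hx z hz]; group
  have hNZ : ∀ a ∈ J, N a ∈ Z := fun a ha => by
    rw [hND a ha]
    exact hDker _ (hDJ x _ (hDJ x a ha)) (hD3 x hx a ha)
  obtain ⟨b, hb, hNb⟩ : ∃ b ∈ J, N b ≠ 1 := by
    by_contra hcon
    push Not at hcon
    open scoped IsMulCommutative in
    let d : J →* J :=
      { toFun := fun a => ⟨D x a, hDJ x a a.2⟩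
        map_one' := by ext; simp [D]
        map_mul' := fun a b => Subtype.ext (hDmul x a b a.2 b.2) }
    have hk : Nat.card d.ker ≤ 3 := by
      rw [← hZcard]
      refine Nat.card_le_card_of_injective (fun a => (⟨a.1.1, hDker _ a.1.2 (congrArg Subtype.val a.2)⟩ : Z)) ?_
      intro a b h
      exact Subtype.ext (Subtype.ext (congrArg (fun z : Z => (z : G)) h))
    have hr : Nat.card d.range ≤ 3 := by
      rw [← hZcard]
      refine Nat.card_le_card_of_injective (fun a => (⟨a.1.1, ?_⟩ : Z)) ?_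
      · obtain ⟨u, hu⟩ := a.2
        refine hDker _ a.1.2 ?_
        rw [← hu]
        show D x (D x u.1) = 1
        rw [← hND u.1 u.2]
        exact hcon u.1 u.2
      · intro a b h
        exact Subtype.ext (Subtype.ext (congrArg (fun z : Z => (z : G)) h))
    have := d.ker.card_mul_index
    rw [hJcard, Subgroup.index_ker] at this
    nlinarith
  set a := b * (t * b * t) with hadef
  have haJ : a ∈ J := mul_mem hb (htJ b hb)
  have hat : t * a * t = a := by
    rw [hadef, show t * (b * (t * b * t)) * t = (t * b * t) * (b * (t * t)) by simp only [mul_assoc],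
      ht2, mul_one, hcm _ (htJ b hb) b hb]
  set a1 := x * a * x⁻¹ with ha1
  set a2 := x * a1 * x⁻¹ with ha2
  have ha1J : a1 ∈ J := hcJ x a haJ
  have ha2J : a2 ∈ J := hcJ x _ ha1J
  have hx2 : x * x = x⁻¹ := by
    rw [eq_inv_iff_mul_eq_one, ← pow_two, ← pow_succ, hx3]
  have hxt : ∀ u : G, t * (x * u * x⁻¹) * t = x * (x * (t * u * t) * x⁻¹) * x⁻¹ := by
    intro u
    calc t * (x * u * x⁻¹) * t = (t * x * t) * (t * u * t) * (t * x * t)⁻¹ := by
          simp only [mul_inv_rev, hti, mul_assoc]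
          simp only [← mul_assoc t t, ht2, one_mul]
      _ = x⁻¹ * (t * u * t) * x⁻¹⁻¹ := by rw [hxinv]
      _ = (x * x) * (t * u * t) * (x * x)⁻¹ := by rw [hx2]
      _ = _ := by group
  have ht12 : t * a1 * t = a2 := by rw [ha1, hxt, hat, ha2, ha1]
  set z := a * a1 * a2 with hz
  have hzN : N a = z := rfl
  have hzZ : z ∈ Z := hNZ a haJ
  have hz1 : z ≠ 1 := by
    intro h
    have hNmul : ∀ u v, u ∈ J → v ∈ J → N (u * v) = N u * N v := fun u v hu hv => by
      rw [hND _ (mul_mem hu hv), hND _ hu, hND _ hv, hDmul x u v hu hv,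
        hDmul x _ _ (hDJ x u hu) (hDJ x v hv)]
    have htN : N (t * b * t) = t * N b * t := by
      simp only [N]
      rw [show t * (b * (x * b * x⁻¹) * (x * (x * b * x⁻¹) * x⁻¹)) * t =
        (t * b * t) * (t * (x * b * x⁻¹) * t) * (t * (x * (x * b * x⁻¹) * x⁻¹) * t) by
          simp only [mul_assoc]; simp only [← mul_assoc t t, ht2, one_mul]]
      rw [hxt, hxt (x * b * x⁻¹), hxt]
      have h3' : x * (x * (x * (x * (t * b * t) * x⁻¹) * x⁻¹) * x⁻¹) * x⁻¹ = x * (t * b * t) * x⁻¹ := by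
        have : x ^ 3 * (x * (t * b * t) * x⁻¹) * (x ^ 3)⁻¹ = x * (t * b * t) * x⁻¹ := by
          rw [hx3]; group
        refine Eq.trans ?_ this
        simp only [pow_succ, pow_zero, one_mul, mul_inv_rev, mul_assoc]
      rw [h3', mul_assoc, hcm _ (hcJ x _ (htJ b hb)) _ (hcJ x _ (hcJ x _ (htJ b hb))), ← mul_assoc]
    have hsq : N a = N b * N b := by
      rw [hadef, hNmul b _ hb (htJ b hb), htN, hZt _ (hNZ b hb), mul_assoc (N b) t t, ht2, mul_one]
    rw [hzN, h] at hsq
    exact hNb (hodd _ (hJQ (hNJ b hb)) hsq.symm)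
  -- the subgroup generated by `a1, a2`
  let A : Subgroup G :=
    { carrier := {g | ∃ i j : ℕ, g = a1 ^ i * a2 ^ j}
      one_mem' := ⟨0, 0, by simp⟩
      mul_mem' := by
        rintro _ _ ⟨i, j, rfl⟩ ⟨k, l, rfl⟩
        refine ⟨i + k, j + l, ?_⟩
        have := hcm _ (pow_mem ha2J j) _ (pow_mem ha1J k)
        rw [pow_add, pow_add]
        calc a1 ^ i * a2 ^ j * (a1 ^ k * a2 ^ l) = a1 ^ i * (a2 ^ j * a1 ^ k) * a2 ^ l := by group
          _ = _ := by rw [this]; group
      inv_mem' := by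
        rintro _ ⟨i, j, rfl⟩
        refine ⟨2 * i, 2 * j, inv_eq_of_mul_eq_one_right ?_⟩
        have := hcm _ (pow_mem ha2J j) _ (pow_mem ha1J (2 * i))
        calc a1 ^ i * a2 ^ j * (a1 ^ (2 * i) * a2 ^ (2 * j))
            = a1 ^ i * (a2 ^ j * a1 ^ (2 * i)) * a2 ^ (2 * j) := by group
          _ = a1 ^ (3 * i) * a2 ^ (3 * j) := by
              rw [this, show 3 * i = i + 2 * i by ring, show 3 * j = j + 2 * j by ring, pow_add, pow_add]
              group
          _ = 1 := by rw [pow_mul, pow_mul, hJexp _ ha1J, hJexp _ ha2J]; simp }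
  have hAJ : A ≤ J := by
    rintro _ ⟨i, j, rfl⟩
    exact mul_mem (pow_mem ha1J i) (pow_mem ha2J j)
  have h3mod : ∀ w ∈ J, ∀ i : ℕ, w ^ i = w ^ (i % 3) := fun w hw i => by
    conv_lhs => rw [← Nat.div_add_mod i 3, pow_add, pow_mul, hJexp w hw, one_pow, one_mul]
  have hA9 : Nat.card A ≤ 9 := by
    have := Nat.card_le_card_of_surjective (fun q : Fin 3 × Fin 3 =>
      (⟨a1 ^ (q.1 : ℕ) * a2 ^ (q.2 : ℕ), _, _, rfl⟩ : A)) (by
        rintro ⟨_, i, j, rfl⟩
        refine ⟨(⟨i % 3, Nat.mod_lt _ (by norm_num)⟩, ⟨j % 3, Nat.mod_lt _ (by norm_num)⟩), Subtype.ext ?_⟩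
        show a1 ^ (i % 3) * a2 ^ (j % 3) = a1 ^ i * a2 ^ j
        rw [← h3mod a1 ha1J, ← h3mod a2 ha2J])
    simpa using this
  have ha1A : a1 ∈ A := ⟨1, 0, by simp⟩
  have ha2A : a2 ∈ A := ⟨0, 1, by simp⟩
  have hxa2 : x * a2 * x⁻¹ = a := by
    have : x ^ 3 * a * (x ^ 3)⁻¹ = a := by rw [hx3]; group
    refine Eq.trans ?_ this
    rw [ha2, ha1]
    simp only [pow_succ, pow_zero, one_mul, mul_inv_rev, mul_assoc]
  have hspan : ∀ E : Subgroup G, E ≤ J → a ∈ E → (∀ u ∈ E, x * u * x⁻¹ ∈ E) → 27 ≤ Nat.card E := by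
    intro E hEJ haE hxE
    have hzE : z ∈ E := mul_mem (mul_mem haE (hxE a haE)) (hxE _ (hxE a haE))
    open scoped IsMulCommutative in
    let d : E →* E :=
      { toFun := fun u => ⟨D x u, mul_mem (hxE u u.2) (inv_mem u.2)⟩
        map_one' := by ext; simp [D]
        map_mul' := fun u v => Subtype.ext (hDmul x u v (hEJ u.2) (hEJ v.2)) }
    have h1 : (d.comp d).ker ≠ ⊤ := by
      intro h
      have : (⟨a, haE⟩ : E) ∈ (d.comp d).ker := h ▸ Subgroup.mem_top _
      have h' : D x (D x a) = 1 := congrArg Subtype.val this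
      rw [← hND a haJ, hzN] at h'
      exact hz1 h'
    have hle : d.ker ≤ (d.comp d).ker := fun u hu => by
      rw [MonoidHom.mem_ker] at hu ⊢
      rw [MonoidHom.comp_apply, hu, map_one]
    have h2 : d.ker ≠ (d.comp d).ker := by
      intro h
      have hm : d ⟨a, haE⟩ ∈ (d.comp d).ker := by
        rw [MonoidHom.mem_ker, MonoidHom.comp_apply]
        exact Subtype.ext (hD3 x hx a haJ)
      rw [← h, MonoidHom.mem_ker] at hm
      have h' : D x (D x a) = 1 := congrArg Subtype.val hm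
      rw [← hND a haJ, hzN] at h'
      exact hz1 h'
    have h3 : d.ker ≠ ⊥ := by
      intro h
      have hm : (⟨z, hzE⟩ : E) ∈ d.ker := Subtype.ext (hDZ z hzZ)
      rw [h, Subgroup.mem_bot] at hm
      exact hz1 (congrArg Subtype.val hm)
    have hEp : IsPGroup 3 E := fun u => ⟨1, Subtype.ext (hJexp u (hEJ u.2))⟩
    have lt_card : ∀ {K L : Subgroup E}, K < L → 3 * Nat.card K ≤ Nat.card L := by
      intro K L hKL
      obtain ⟨k, hk⟩ := Subgroup.card_dvd_of_le hKL.le
      obtain ⟨i, hi⟩ := IsPGroup.iff_card.mp (hEp.to_subgroup L)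
      have hk1 : k ≠ 1 := by
        rintro rfl
        exact hKL.ne (Subgroup.eq_of_le_of_card_ge hKL.le (by rw [hk, mul_one]))
      have hkd : k ∣ 3 ^ i := ⟨Nat.card K, by rw [← hi, hk, mul_comm]⟩
      obtain ⟨m, -, rfl⟩ := (Nat.dvd_prime_pow Nat.prime_three).mp hkd
      have : m ≠ 0 := fun h => hk1 (by rw [h, pow_zero])
      rw [hk, mul_comm]
      exact Nat.mul_le_mul_left _ (Nat.le_self_pow this 3)
    have c1 := lt_card (bot_lt_iff_ne_bot.mpr h3)
    have c2 := lt_card (lt_of_le_of_ne hle h2)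
    have c3 := lt_card (lt_top_iff_ne_top.mpr h1)
    rw [Subgroup.card_bot] at c1
    rw [Subgroup.card_top] at c3
    omega
  have hxA : ∀ u ∈ A, ∀ E : Subgroup G, A ≤ E → a ∈ E → x * u * x⁻¹ ∈ E := by
    rintro _ ⟨i, j, rfl⟩ E hE haE
    rw [hconjmul, ← conj_pow, ← conj_pow, ← ha2, hxa2]
    exact mul_mem (pow_mem (hE ha2A) i) (pow_mem haE j)
  have haz : a = z * (a1 * a2)⁻¹ := by rw [hz]; group
  have hzA : z ∉ A := by
    intro hzA'
    have haA : a ∈ A := by rw [haz]; exact mul_mem hzA' (inv_mem (mul_mem ha1A ha2A))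
    have := hspan A hAJ haA fun u hu => hxA u hu A le_rfl haA
    omega
  let E : Subgroup G :=
    { carrier := {g | ∃ u ∈ A, ∃ k : ℕ, g = u * z ^ k}
      one_mem' := ⟨1, A.one_mem, 0, by simp⟩
      mul_mem' := by
        rintro _ _ ⟨u, hu, k, rfl⟩ ⟨v, hv, l, rfl⟩
        refine ⟨u * v, mul_mem hu hv, k + l, ?_⟩
        rw [pow_add]
        have := hcm _ (pow_mem (hZJ hzZ) k) v (hAJ hv)
        calc u * z ^ k * (v * z ^ l) = u * (z ^ k * v) * z ^ l := by group
          _ = _ := by rw [this]; group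
      inv_mem' := by
        rintro _ ⟨u, hu, k, rfl⟩
        refine ⟨u⁻¹, inv_mem hu, 2 * k, inv_eq_of_mul_eq_one_right ?_⟩
        have := hcm _ (pow_mem (hZJ hzZ) k) u⁻¹ (inv_mem (hAJ hu))
        calc u * z ^ k * (u⁻¹ * z ^ (2 * k)) = u * (z ^ k * u⁻¹) * z ^ (2 * k) := by group
          _ = z ^ (3 * k) := by rw [this, show 3 * k = k + 2 * k by ring, pow_add]; group
          _ = 1 := by rw [pow_mul, hJexp _ (hZJ hzZ), one_pow] }
  have hA9e : Nat.card A = 9 := by
    have hAE : A ≤ E := fun u hu => ⟨u, hu, 0, by simp⟩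
    have hzE : z ∈ E := ⟨1, A.one_mem, 1, by simp⟩
    have haE : a ∈ E := by rw [haz]; exact mul_mem hzE (inv_mem (hAE (mul_mem ha1A ha2A)))
    have hEJ : E ≤ J := by
      rintro _ ⟨u, hu, k, rfl⟩
      exact mul_mem (hAJ hu) (pow_mem (hZJ hzZ) k)
    have h27 := hspan E hEJ haE fun u hu => by
      obtain ⟨v, hv, k, rfl⟩ := hu
      rw [hconjmul, ← conj_pow, hZc x hx z hzZ, mul_inv_cancel_right]
      exact mul_mem (hxA v hv E hAE haE) (pow_mem hzE k)
    have hle := Nat.card_le_card_of_surjective (fun q : A × Fin 3 =>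
      (⟨(q.1 : G) * z ^ (q.2 : ℕ), _, q.1.2, _, rfl⟩ : E)) (by
        rintro ⟨_, u, hu, k, rfl⟩
        refine ⟨(⟨u, hu⟩, ⟨k % 3, Nat.mod_lt _ (by norm_num)⟩), Subtype.ext ?_⟩
        show u * z ^ (k % 3) = u * z ^ k
        rw [← h3mod z (hZJ hzZ)])
    rw [Nat.card_prod, Nat.card_eq_fintype_card (α := Fin 3), Fintype.card_fin] at hle
    omega
  -- the subgroup of index 9
  have htA : ∀ u ∈ A, t * u * t ∈ A := by
    rintro _ ⟨i, j, rfl⟩
    have e : t * (a1 ^ i * a2 ^ j) * t = (t * a1 ^ i * t) * (t * a2 ^ j * t) := by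
      simp only [mul_assoc]; simp only [← mul_assoc t t, ht2, one_mul]
    have e2' : t * a2 * t = a1 := by rw [← ht12, htt]
    have p1 := conj_pow (i := i) (a := t) (b := a1)
    have p2 := conj_pow (i := j) (a := t) (b := a2)
    rw [hti] at p1 p2
    rw [e, ← p1, ← p2, ht12, e2']
    refine ⟨j, i, ?_⟩
    exact hcm _ (pow_mem ha2J i) _ (pow_mem ha1J j)
  let H : Subgroup G :=
    { carrier := {g | g ∈ A ∨ g * t ∈ A}
      one_mem' := Or.inl A.one_mem
      mul_mem' := by
        rintro g h (hg | hg) (hh | hh)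
        · exact Or.inl (mul_mem hg hh)
        · exact Or.inr (by rw [mul_assoc]; exact mul_mem hg hh)
        · refine Or.inr ?_
          have := mul_mem hg (htA h hh)
          have e : g * t * (t * h * t) = g * h * t := by
            simp only [mul_assoc]; simp only [← mul_assoc t t, ht2, one_mul]
          rwa [e] at this
        · refine Or.inl ?_
          have := mul_mem hg (htA _ hh)
          have e : g * t * (t * (h * t) * t) = g * h := by
            simp only [mul_assoc]; simp only [← mul_assoc t t, ht2, one_mul, mul_one]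
          rwa [e] at this
      inv_mem' := by
        rintro g (hg | hg)
        · exact Or.inl (inv_mem hg)
        · refine Or.inr ?_
          have := htA _ (inv_mem hg)
          have e : t * (g * t)⁻¹ * t = g⁻¹ * t := by
            rw [mul_inv_rev, hti]; simp only [mul_assoc]; simp only [← mul_assoc t t, ht2, one_mul]
          rwa [e] at this }
  have htQ : t ∉ Q := fun h => htne (hodd t h ht2)
  have hHQ : ∀ g ∈ H, g ∈ Q → g ∈ A := by
    rintro g (hg | hg) hgQ
    · exact hg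
    · refine absurd ?_ htQ
      have := mul_mem (inv_mem hgQ) (hJQ (hAJ hg))
      simpa using this
  have hH18 : Nat.card H ≤ 18 := by
    have := Nat.card_le_card_of_surjective (fun q : A × Bool =>
      (if q.2 then (⟨(q.1 : G) * t, Or.inr (by rw [mul_assoc, ht2, mul_one]; exact q.1.2)⟩ : H)
        else ⟨q.1, Or.inl q.1.2⟩)) (by
        rintro ⟨g, hg | hg⟩
        · exact ⟨(⟨g, hg⟩, false), by simp⟩
        · exact ⟨(⟨g * t, hg⟩, true), by
            simp only [if_true]
            apply Subtype.ext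
            show g * t * t = g
            rw [mul_assoc, ht2, mul_one]⟩)
    rw [Nat.card_prod] at this
    simp only [Nat.card_eq_fintype_card (α := Bool), Fintype.card_bool] at this
    omega
  have hzc : ∀ g : G, g * z = z * g := by
    intro g
    have hgS : g ∈ Q ∨ g * t ∈ Q := by
      by_cases h : g ∈ Q
      · exact Or.inl h
      · refine Or.inr ?_
        have hQi : Q.index = 2 := by
          have := Q.card_mul_index
          rw [hS81, hG] at this
          omega
        exact (Subgroup.mul_mem_iff_of_index_two hQi).mpr (iff_of_false h htQ)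
    rcases hgS with h | h
    · exact hZc g h z hzZ
    · have h1 := hZc _ h z hzZ
      have hg : g = g * t * t := by rw [mul_assoc, ht2, mul_one]
      calc g * z = g * t * (t * z) := by conv_lhs => rw [hg]; rw [mul_assoc]
        _ = g * t * z * t := by rw [hZt z hzZ, ← mul_assoc]
        _ = z * (g * t * t) := by rw [h1]; group
        _ = _ := by rw [← hg]
  -- labelling of the cosets
  let f : Fin 9 → G ⧸ H := fun n => ((z ^ ((n : ℕ) % 3) * x ^ ((n : ℕ) / 3) : G) : G ⧸ H)
  have hfinj : Function.Injective f := by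
    intro n m hnm
    have h0 := QuotientGroup.eq.mp hnm
    have hzx : ∀ i j, Commute (x ^ i) (z ^ j) := fun i j => (show Commute x z from hzc x).pow_pow i j
    have hA' : (x ^ ((n : ℕ) / 3))⁻¹ * x ^ ((m : ℕ) / 3) * ((z ^ ((n : ℕ) % 3))⁻¹ * z ^ ((m : ℕ) % 3)) ∈ A := by
      refine hHQ _ ?_ ?_
      · convert h0 using 1
        rw [mul_inv_rev]
        calc (x ^ ((n : ℕ) / 3))⁻¹ * x ^ ((m : ℕ) / 3) * ((z ^ ((n : ℕ) % 3))⁻¹ * z ^ ((m : ℕ) % 3))
            = (x ^ ((n : ℕ) / 3))⁻¹ * (x ^ ((m : ℕ) / 3) * (z ^ ((n : ℕ) % 3))⁻¹) * z ^ ((m : ℕ) % 3) := by group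
          _ = (x ^ ((n : ℕ) / 3))⁻¹ * ((z ^ ((n : ℕ) % 3))⁻¹ * x ^ ((m : ℕ) / 3)) * z ^ ((m : ℕ) % 3) := by
              rw [((hzx _ _).inv_right).eq]
          _ = (x ^ ((n : ℕ) / 3))⁻¹ * (z ^ ((n : ℕ) % 3))⁻¹ * (x ^ ((m : ℕ) / 3) * z ^ ((m : ℕ) % 3)) := by group
          _ = _ := by rw [(hzx _ _).eq]
      · exact mul_mem (mul_mem (inv_mem (pow_mem hx _)) (pow_mem hx _))
          (hJQ (mul_mem (inv_mem (pow_mem (hZJ hzZ) _)) (pow_mem (hZJ hzZ) _)))
    have hzJ' : (z ^ ((n : ℕ) % 3))⁻¹ * z ^ ((m : ℕ) % 3) ∈ J :=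
      mul_mem (inv_mem (pow_mem (hZJ hzZ) _)) (pow_mem (hZJ hzZ) _)
    have hxd : (x ^ ((n : ℕ) / 3))⁻¹ * x ^ ((m : ℕ) / 3) ∈ J := by
      have := mul_mem (hAJ hA') (inv_mem hzJ')
      rwa [mul_inv_cancel_right] at this
    have key : ∀ (w : G) (K : Subgroup G), w ∉ K → w ^ 3 = 1 → ∀ i j : ℕ, i < 3 → j < 3 →
        (w ^ i)⁻¹ * w ^ j ∈ K → i = j := by
      intro w K hw hw3 i j hi hj h
      have hw2 : w ^ 2 = w⁻¹ := by rw [eq_inv_iff_mul_eq_one, ← pow_succ, hw3]
      interval_cases i <;> interval_cases j <;> first | rfl | (exfalso; apply hw)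
      · simpa using h
      · simpa [hw2] using inv_mem h
      · simpa using inv_mem h
      · simpa [pow_two] using h
      · simpa [hw2] using h
      · simpa [pow_two] using inv_mem h
    have e1 : (n : ℕ) / 3 = (m : ℕ) / 3 := key x J hxJ hx3 _ _ (by omega) (by omega) hxd
    rw [e1, inv_mul_cancel, one_mul] at hA'
    have e2' : (n : ℕ) % 3 = (m : ℕ) % 3 := key z A hzA (hJexp _ (hZJ hzZ)) _ _ (by omega) (by omega) hA'
    exact Fin.ext (by omega)
  have hidxH : H.index = 9 := by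
    have h162 := H.card_mul_index
    rw [hG] at h162
    have h9d : 9 ∣ Nat.card H := hA9e ▸ Subgroup.card_dvd_of_le (fun u hu => Or.inl hu)
    have h2d : 2 ∣ Nat.card H := by
      have htH : t ∈ H := Or.inr (by rw [ht2]; exact A.one_mem)
      have := Subgroup.card_dvd_of_le (Subgroup.zpowers_le.mpr htH)
      rw [← hTt, hT2] at this
      exact this
    have hpos : 0 < Nat.card H := Nat.card_pos
    have h18 : Nat.card H = 18 := by omega
    rw [h18] at h162
    omega
  have hfbij : Function.Bijective f := by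
    refine (Nat.bijective_iff_injective_and_card f).mpr ⟨hfinj, ?_⟩
    rw [Nat.card_eq_fintype_card, Fintype.card_fin]
    exact hidxH.symm
  let e : Fin 9 ≃ G ⧸ H := Equiv.ofBijective f hfbij
  let φ : G →* Equiv.Perm (Fin 9) :=
    e.symm.permCongrHom.toMonoidHom.comp (MulAction.toPermHom G (G ⧸ H))
  have hφapp : ∀ (g : G) (n : Fin 9), f (φ g n) = g • f n := fun g n => e.apply_symm_apply _
  set σ : Equiv.Perm (Fin 9) :=
    Equiv.swap 0 1 * Equiv.swap 1 2 * Equiv.swap 3 4 * Equiv.swap 4 5 * Equiv.swap 6 7 * Equiv.swap 7 8 with hσ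
  have hzσ : φ z = σ := by
    ext n : 1
    apply hfinj
    rw [hφapp]
    have hσn : ((σ n : Fin 9) : ℕ) % 3 = ((n : ℕ) % 3 + 1) % 3 ∧ ((σ n : Fin 9) : ℕ) / 3 = (n : ℕ) / 3 := by
      rw [hσ]; revert n; decide
    show z • ((z ^ ((n : ℕ) % 3) * x ^ ((n : ℕ) / 3) : G) : G ⧸ H) = _
    rw [MulAction.Quotient.smul_coe, smul_eq_mul, ← mul_assoc, ← pow_succ']
    show _ = ((z ^ (((σ n : Fin 9) : ℕ) % 3) * x ^ (((σ n : Fin 9) : ℕ) / 3) : G) : G ⧸ H)
    rw [hσn.1, hσn.2, ← h3mod z (hZJ hzZ)]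
  have hmem : ∀ g, φ g ∈ Subgroup.centralizer ({σ} : Set (Equiv.Perm (Fin 9))) := by
    intro g
    rw [Subgroup.mem_centralizer_singleton_iff, ← hzσ, ← map_mul, ← map_mul, hzc g]
  have hcore : H.normalCore = ⊥ := by
    set K := H.normalCore
    have hKQ : K ⊓ Q = ⊥ := by
      by_contra hne
      have hne' : (K ⊓ Q).subgroupOf Q ≠ ⊥ := fun h => hne (by
        have := congrArg (Subgroup.map Q.subtype) h
        rwa [Subgroup.map_subgroupOf_eq_of_le inf_le_right, Subgroup.map_bot] at this)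
      haveI := (S.2.isNilpotent : Group.IsNilpotent Q)
      haveI : ((K ⊓ Q).subgroupOf Q).Normal := inferInstance
      have hmeet := Cfsg.Agent.Lib.Nilp.inf_center_ne_bot_of_normal (N := (K ⊓ Q).subgroupOf Q) hne'
      obtain ⟨w, hw, hw1⟩ := (Subgroup.bot_or_exists_ne_one _).resolve_left hmeet
      obtain ⟨hwK, hwc⟩ := Subgroup.mem_inf.mp hw
      have hwZ : (w : G) ∈ Z := by
        rw [hZ]
        refine ⟨w.2, Subgroup.mem_centralizer_iff.mpr fun y hy => ?_⟩
        exact congrArg Subtype.val (Subgroup.mem_center_iff.mp hwc ⟨y, hy⟩)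
      have hw1' : (⟨(w : G), hwZ⟩ : Z) ≠ 1 := fun h => hw1 (Subtype.ext (congrArg Subtype.val h :))
      obtain ⟨n, hn⟩ := mem_zpowers_of_prime_card (g' := (⟨z, hzZ⟩ : Z)) hZcard hw1'
      have hn' : (w : G) ^ n = z := congrArg Subtype.val hn
      refine hzA (hHQ z ?_ (hJQ (hZJ hzZ)))
      rw [← hn']
      exact zpow_mem (H.normalCore_le (Subgroup.mem_subgroupOf.mp hwK).1) n
    have hQi : Q.index = 2 := by
      have := Q.card_mul_index
      rw [hS81, hG] at this
      omega
    have hK2 : ∀ k ∈ K, k ≠ 1 → k * k = 1 ∧ ∀ g : G, g * k = k * g := by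
      intro k hk hk1
      have hkQ : k ∉ Q := fun h => hk1 (by
        have : k ∈ K ⊓ Q := ⟨hk, h⟩
        rwa [hKQ, Subgroup.mem_bot] at this)
      constructor
      · have : k * k ∈ K ⊓ Q := ⟨mul_mem hk hk, (Subgroup.mul_mem_iff_of_index_two hQi).mpr Iff.rfl⟩
        rwa [hKQ, Subgroup.mem_bot] at this
      · intro g
        have h1 : g * k * g⁻¹ * k⁻¹ ∈ K ⊓ Q := by
          refine Subgroup.mem_inf.mpr ⟨mul_mem ((inferInstance : K.Normal).conj_mem k hk g) (inv_mem hk), ?_⟩
          show g * k * g⁻¹ * k⁻¹ ∈ Q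
          rw [Subgroup.mul_mem_iff_of_index_two hQi, inv_mem_iff]
          refine iff_of_false (fun h => hkQ ?_) hkQ
          have := hQn.conj_mem _ h g⁻¹
          simpa [mul_assoc] using this
        rw [hKQ, Subgroup.mem_bot, mul_inv_eq_one, mul_inv_eq_iff_eq_mul] at h1
        exact h1
    rw [Subgroup.eq_bot_iff_forall]
    intro k hk
    by_contra hk1
    obtain ⟨hkk, hkc⟩ := hK2 k hk hk1
    have hkH := H.normalCore_le hk
    rcases hkH with h | h
    · exact hk1 (hodd k (hJQ (hAJ h)) hkk)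
    · -- `k t` has order dividing two inside `A`
      have hkt : k * t = 1 := by
        refine hodd _ (hJQ (hAJ h)) ?_
        calc k * t * (k * t) = k * (t * k) * t := by group
          _ = (k * k) * (t * t) := by rw [hkc t]; group
          _ = 1 := by rw [hkk, ht2, one_mul]
      have hkt' : k = t := by rw [eq_inv_of_mul_eq_one_left hkt, hti]
      apply hST
      refine inf_eq_left.mpr fun y _ => Subgroup.mem_centralizer_iff.mpr ?_
      intro u hu
      obtain ⟨m, rfl⟩ := (hTt ▸ hu : u ∈ Subgroup.zpowers t)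
      exact ((show Commute t y from (hkt' ▸ hkc y).symm).zpow_left m).eq
  have hφinj : Function.Injective φ := by
    rw [← MonoidHom.ker_eq_bot_iff, ← hcore, Subgroup.normalCore_eq_ker]
    ext g
    simp [φ, MonoidHom.mem_ker]
  have hcard : Nat.card (Subgroup.centralizer ({σ} : Set (Equiv.Perm (Fin 9)))) = 162 := by
    have hct : σ.cycleType = {3, 3, 3} := by rw [hσ]; decide
    rw [Equiv.Perm.nat_card_centralizer, hct]
    decide
  refine ⟨MulEquiv.ofBijective (φ.codRestrict _ hmem) ((Nat.bijective_iff_injective_and_card _).mpr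
    ⟨fun u v h => hφinj (congrArg Subtype.val h), ?_⟩)⟩
  rw [hG, hcard]

end Cfsg.Agent.S3376
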