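import Cfsg.Statements.S3379
import Mathlib
-- import your own Cfsg.Agent.* helpers here

set_option autoImplicit false
open Cfsg

namespace Cfsg.Agent.S3379

/-- Let G be a finite group all of whose Sylow subgroups are cyclic. Then G is generated by two elements x and y of coprime orders n and m with x⁻¹yx = y^r, where gcd(r − 1, m) = 1 and r^n ≡ 1 (mod m). -/
theorem result {G : Type*} [Group G] [Finite G]
    (hZ : ∀ (p : ℕ) [Fact p.Prime] (P : Sylow p G), IsCyclic (P : Subgroup G)) :
    ∃ (x y : G) (n m r : ℕ), Subgroup.closure {x, y} = ⊤ ∧ orderOf x = n ∧ orderOf y = m ∧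
      x⁻¹ * y * x = y ^ r ∧ Nat.Coprime (r - 1) m ∧ Nat.Coprime n m ∧ 1 ≤ r ∧ r ^ n % m = 1 % m := by
  have : IsZGroup G := ⟨fun p hp P => @hZ p ⟨hp⟩ P⟩
  set C : Subgroup G := commutator G with hC
  obtain ⟨H, hH⟩ := Subgroup.exists_right_complement'_of_coprime
    (IsZGroup.coprime_commutator_index G)
  obtain ⟨y', hy'⟩ := (IsZGroup.isCyclic_commutator G).exists_generator
  let e : Abelianization G ≃* H := hH.symm.QuotientMulEquiv
  have hHc : IsCyclic H := isCyclic_of_surjective e e.surjective
  obtain ⟨x', hx'⟩ := hHc.exists_generator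
  set x : G := (x' : G)
  set y : G := (y' : G)
  have hCy : C = Subgroup.zpowers y := by
    ext a
    refine ⟨fun ha => ?_, fun ha => (Subgroup.zpowers_le.mpr y'.2) ha⟩
    obtain ⟨i, hi⟩ := Subgroup.mem_zpowers_iff.mp (hy' ⟨a, ha⟩)
    exact ⟨i, congrArg Subtype.val hi⟩
  have hHx : H = Subgroup.zpowers x := by
    ext a
    refine ⟨fun ha => ?_, fun ha => (Subgroup.zpowers_le.mpr x'.2) ha⟩
    obtain ⟨i, hi⟩ := Subgroup.mem_zpowers_iff.mp (hx' ⟨a, ha⟩)
    exact ⟨i, congrArg Subtype.val hi⟩
  have hgen : Subgroup.closure {x, y} = ⊤ := by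
    rw [eq_top_iff, ← hH.sup_eq_top, show commutator G = Subgroup.zpowers y from hCy, hHx]
    exact sup_le (Subgroup.zpowers_le.mpr (Subgroup.subset_closure (by simp)))
      (Subgroup.zpowers_le.mpr (Subgroup.subset_closure (by simp)))
  have hmem : x⁻¹ * y * x ∈ Subgroup.zpowers y := by
    rw [← hCy]
    exact Subgroup.Normal.conj_mem' inferInstance y y'.2 x
  obtain ⟨r₀, hr₀ : y ^ r₀ = x⁻¹ * y * x⟩ :=
    (IsOfFinOrder.mem_powers_iff_mem_zpowers (isOfFinOrder_of_finite y)).2 hmem
  set m := orderOf y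
  have hm : 0 < m := orderOf_pos y
  set r := r₀ + m
  have hr : x⁻¹ * y * x = y ^ r := by rw [pow_add, pow_orderOf_eq_one, mul_one, hr₀]
  set n := orderOf x
  have hn : n = C.index := by rw [hH.symm.index_eq_card, hHx, Nat.card_zpowers]
  have hcop : Nat.Coprime n m := by
    have h := IsZGroup.coprime_commutator_index G
    rw [← hC] at h
    rw [hn, show m = Nat.card C by rw [hCy, Nat.card_zpowers]]
    exact h.symm
  have hpow : ∀ k : ℕ, (x ^ k)⁻¹ * y * x ^ k = y ^ (r ^ k) := by
    intro k
    induction k with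
    | zero => simp
    | succ k ih =>
      rw [pow_succ x k, pow_succ' r k, pow_mul]
      calc (x ^ k * x)⁻¹ * y * (x ^ k * x) = x⁻¹ * ((x ^ k)⁻¹ * y * x ^ k) * x := by group
        _ = (x⁻¹ * y * x) ^ (r ^ k) := by
          rw [ih]
          have h := map_pow (MulAut.conj x⁻¹) y (r ^ k)
          simpa [MulAut.conj_apply] using h
        _ = (y ^ r) ^ (r ^ k) := by rw [hr]
  refine ⟨x, y, n, m, r, hgen, rfl, rfl, hr, ?_, hcop, by omega, ?_⟩
  · set L : Subgroup G := Subgroup.zpowers (y ^ (r - 1)) with hL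
    have hgenL : ∀ g : G, L.map (MulAut.conj g).toMonoidHom ≤ L := by
      intro g
      have hg : g ∈ Subgroup.normalizer (L : Set G) := by
        have : ⊤ ≤ Subgroup.normalizer (L : Set G) := by
          rw [← hgen, Subgroup.closure_le]
          rintro z (rfl | rfl)
          · rw [SetLike.mem_coe, ← inv_mem_iff]
            have hsub : L.map (MulAut.conj x⁻¹).toMonoidHom ≤ L := by
              rw [hL, MonoidHom.map_zpowers, Subgroup.zpowers_le]
              refine Subgroup.mem_zpowers_iff.mpr ⟨r, ?_⟩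
              rw [zpow_natCast, map_pow]
              simp only [MulEquiv.toMonoidHom_eq_coe, MonoidHom.coe_coe, MulAut.conj_apply, inv_inv]
              rw [hr, ← pow_mul, ← pow_mul, mul_comm]
            refine Subgroup.mem_normalizer_iff_map_conj_eq.mpr
              (Subgroup.eq_of_le_of_card_ge hsub (le_of_eq ?_))
            exact Nat.card_congr (Subgroup.equivMapOfInjective L _ (MulAut.conj x⁻¹).injective).toEquiv
          · refine Subgroup.centralizer_le_normalizer _ fun l hl => ?_
            obtain ⟨i, rfl⟩ := hl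
            exact ((Commute.refl y).pow_left (r - 1)).zpow_left i
        exact this (Subgroup.mem_top g)
      exact (Subgroup.mem_normalizer_iff_map_conj_eq.mp hg).le
    have hLn : L.Normal := ⟨fun l hl g => hgenL g ⟨l, hl, rfl⟩⟩
    have hxy : (x : G ⧸ L) * y = y * x := by
      rw [← QuotientGroup.mk_mul, ← QuotientGroup.mk_mul, QuotientGroup.eq]
      have h1 : (x * y)⁻¹ * (y * x) = y⁻¹ * (x⁻¹ * y * x) := by group
      rw [h1, hr, show y⁻¹ * y ^ r = y ^ (r - 1) by
        conv_lhs => rw [show r = (r - 1) + 1 by omega, pow_succ']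
        rw [inv_mul_cancel_left]]
      exact Subgroup.mem_zpowers _
    have hcl : Subgroup.closure {(x : G ⧸ L), (y : G ⧸ L)} = ⊤ := by
      have h := congrArg (Subgroup.map (QuotientGroup.mk' L)) hgen
      rw [MonoidHom.map_closure, Set.image_pair,
        Subgroup.map_top_of_surjective _ (QuotientGroup.mk'_surjective L)] at h
      exact h
    have hcomm : IsMulCommutative (⊤ : Subgroup (G ⧸ L)) := by
      rw [← hcl]
      refine Subgroup.isMulCommutative_closure ?_
      rintro a (rfl | rfl) b (rfl | rfl) <;> first | rfl | exact hxy | exact hxy.symm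
    have hCL : C ≤ L := by
      rw [hC, commutator_def, Subgroup.commutator_le]
      intro a _ b _
      rw [← QuotientGroup.eq_one_iff]
      have h := congrArg Subtype.val (mul_comm'
        (⟨(a : G ⧸ L), trivial⟩ : (⊤ : Subgroup (G ⧸ L))) ⟨(b : G ⧸ L), trivial⟩)
      simp only [Subgroup.coe_mul] at h
      simp [commutatorElement_def, h]
    have h1 : m ∣ orderOf (y ^ (r - 1)) := by
      obtain ⟨i, hi⟩ := hCL (hCy ▸ Subgroup.mem_zpowers y : y ∈ C)
      exact (congrArg orderOf hi).symm.dvd.trans (orderOf_dvd_of_mem_zpowers ⟨i, rfl⟩)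
    have h2 : orderOf (y ^ (r - 1)) = m :=
      Nat.dvd_antisymm (orderOf_pow_dvd _) h1
    rw [(isOfFinOrder_of_finite y).orderOf_pow] at h2
    exact Nat.coprime_comm.mp ((Nat.div_eq_self.mp h2).resolve_left hm.ne')
  · have h := hpow n
    rw [pow_orderOf_eq_one, inv_one, one_mul, mul_one] at h
    have h' : y ^ (r ^ n) = y ^ 1 := by rw [pow_one]; exact h.symm
    exact pow_eq_pow_iff_modEq.mp h'

end Cfsg.Agent.S3379
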