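import Cfsg.Statements.S3380
import Cfsg.Agent.Lib.Elem69.TwoGroupNoKlein
import Cfsg.Agent.Lib.Elem69.ImprimitiveBlocks

set_option autoImplicit false
open Cfsg

namespace Cfsg.Agent.S3380

/-- Let a finite p-group G act faithfully and irreducibly on a non-trivial finite vector space V over the field with q elements (q prime), and suppose G is not cyclic, generalized quaternion, dihedral or semidihedral. Then G has a subgroup H of index p and V is the direct sum of p subspaces, each invariant under H, on none of which H acts faithfully, and which every element of G outside H permutes in a single p-cycle. -/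
theorem result
    (q : ℕ) [Fact q.Prime] {V : Type*} [AddCommGroup V] [Module (ZMod q) V] [Finite V] [Nontrivial V]
    {G : Type*} [Group G] [Finite G] (p : ℕ) [Fact p.Prime] (hG : IsPGroup p G)
    (ρ : G →* (V ≃ₗ[ZMod q] V)) (hρ : Function.Injective ρ)
    (hirr : ∀ W : Submodule (ZMod q) V, (∀ g : G, ∀ w ∈ W, ρ g w ∈ W) → W = ⊥ ∨ W = ⊤)
    (hnc : ¬ IsCyclic G) (hnq : ∀ n : ℕ, ¬ Nonempty (G ≃* QuaternionGroup n))
    (hnd : ∀ n : ℕ, ¬ Nonempty (G ≃* DihedralGroup n)) (hnsd : ¬ Cfsg.IsQuasiDihedral G) :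
    ∃ (H : Subgroup G) (W : Fin p → Submodule (ZMod q) V), H.index = p ∧
      iSup W = ⊤ ∧ iSupIndep W ∧
      (∀ h ∈ H, ∀ i, ∀ w ∈ W i, ρ h w ∈ W i) ∧
      (∀ i, ∃ h ∈ H, h ≠ 1 ∧ ∀ w ∈ W i, ρ h w = w) ∧
      ∀ g : G, g ∉ H → ∃ σ : Equiv.Perm (Fin p), orderOf σ = p ∧ ∀ i, (W i).map (ρ g : V →ₗ[ZMod q] V) = W (σ i) := by
  classical
  have hpp := Fact.out (p := p.Prime)
  have hqq := Fact.out (p := q.Prime)
  obtain ⟨E, hEn, hE, hEc⟩ : ∃ E : Subgroup G, E.Normal ∧ Cfsg.IsElementaryAbelian p E ∧ Nat.card E = p ^ 2 := by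
    by_cases hp2 : p = 2
    · subst hp2
      rcases Lib.Elem69.exists_normal_klein_or hG with ⟨E, h1, h2, h3⟩ | h | ⟨m, h⟩ | ⟨m, h⟩ | h
      · exact ⟨E, h1, h2, h3⟩
      · exact absurd h hnc
      · exact absurd h (hnq m)
      · exact absurd h (hnd m)
      · exact absurd h hnsd
    · obtain ⟨E, h1, h2, h3, -⟩ := Lib.Elem69.exists_normal_elementary_sq hp2 hG hnc
      exact ⟨E, h1, h2, h3⟩
  exact Lib.Elem69.exists_blocks q p hG ρ hρ hirr E hEn hE hEc

end Cfsg.Agent.S3380
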