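import Mathlib
import Cfsg.Statements.S3381

set_option autoImplicit false
open Cfsg

namespace Cfsg.Agent.S3381

variable {q : ℕ} [Fact q.Prime] {V : Type*} [AddCommGroup V] [Module (ZMod q) V] [Finite V]
  {G : Type*} [Group G] [Finite G] (ρ : G →* (V ≃ₗ[ZMod q] V))

theorem fixers_eq (hstab : ∀ v : V, v ≠ 0 → Nat.card {g : G // ρ g v = v} = 2)
    {v : V} (hv : v ≠ 0) {s t : G} (hs : ρ s v = v) (ht : ρ t v = v) (hs1 : s ≠ 1) (ht1 : t ≠ 1) :
    s = t := by
  obtain ⟨x, y, hxy, huniv⟩ := Nat.card_eq_two_iff.1 (hstab v hv)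
  have h : ∀ a : {g : G // ρ g v = v}, a = x ∨ a = y := fun a => by
    have : a ∈ ({x, y} : Set {g : G // ρ g v = v}) := huniv ▸ Set.mem_univ a
    simpa using this
  have h1 : ρ (1 : G) v = v := by simp
  rcases h ⟨1, h1⟩ with e1 | e1 <;> rcases h ⟨s, hs⟩ with es | es <;> rcases h ⟨t, ht⟩ with et | et <;>
    simp_all [Subtype.ext_iff]

theorem exists_fixer (hstab : ∀ v : V, v ≠ 0 → Nat.card {g : G // ρ g v = v} = 2)
    {v : V} (hv : v ≠ 0) : ∃ t : G, orderOf t = 2 ∧ ρ t v = v := by
  obtain ⟨x, y, hxy, -⟩ := Nat.card_eq_two_iff.1 (hstab v hv)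
  obtain ⟨s, hs, hs1⟩ : ∃ s : G, ρ s v = v ∧ s ≠ 1 := by
    by_cases hx : (x : G) = 1
    · exact ⟨y, y.2, fun hy => hxy (Subtype.ext (hx.trans hy.symm))⟩
    · exact ⟨x, x.2, hx⟩
  refine ⟨s, orderOf_eq_prime ?_ hs1, hs⟩
  by_contra h2
  have h2v : ρ (s ^ 2) v = v := by rw [pow_two, map_mul, LinearEquiv.mul_apply, hs, hs]
  have := fixers_eq ρ hstab hv h2v hs h2 hs1
  rw [pow_two] at this
  exact hs1 (mul_eq_left.1 this)

theorem apply_twice {z : G} (hz : orderOf z = 2) (v : V) : ρ z (ρ z v) = v := by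
  rw [← LinearEquiv.mul_apply, ← map_mul, ← pow_two, ← hz, pow_orderOf_eq_one, map_one]; rfl

/-- A central involution inverts every vector, and `q` is odd. -/
theorem central_neg (hρ : Function.Injective ρ)
    (hstab : ∀ v : V, v ≠ 0 → Nat.card {g : G // ρ g v = v} = 2)
    {z : G} (hz : orderOf z = 2) (hzc : z ∈ Subgroup.center G) :
    q ≠ 2 ∧ ∀ v : V, ρ z v = -v := by
  have hz1 : z ≠ 1 := fun h => by simp [h] at hz
  obtain ⟨v, hv⟩ : ∃ v, ρ z v ≠ v := by
    by_contra h
    push_neg at h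
    exact hz1 (hρ (by ext v; simp [h v]))
  have hv0 : v ≠ 0 := by rintro rfl; simp at hv
  have hcomm : ∀ g : G, ∀ u : V, ρ g (ρ z u) = ρ z (ρ g u) := by
    intro g u
    rw [← LinearEquiv.mul_apply, ← map_mul, Subgroup.mem_center_iff.1 hzc g, map_mul,
      LinearEquiv.mul_apply]
  have hq2 : q ≠ 2 := by
    intro hq
    subst hq
    obtain ⟨t, ht2, htv⟩ := exists_fixer ρ hstab hv0
    have ht1 : t ≠ 1 := fun h => by simp [h] at ht2
    set w := v + ρ z v with hw
    have hw0 : w ≠ 0 := by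
      intro h0
      have : ρ z v = -v := eq_neg_of_add_eq_zero_right h0
      have h2 : ((2 : ℕ) : ZMod 2) • v = 0 := by rw [ZMod.natCast_self, zero_smul]
      rw [Nat.cast_smul_eq_nsmul, two_nsmul] at h2
      exact hv (this.trans (neg_eq_of_add_eq_zero_left h2))
    have hzw : ρ z w = w := by rw [hw, map_add, apply_twice ρ hz, add_comm]
    have htw : ρ t w = w := by rw [hw, map_add, hcomm, htv]
    have := fixers_eq ρ hstab hw0 htw hzw ht1 hz1
    exact hv (this ▸ htv)
  refine ⟨hq2, ?_⟩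
  have htwo : ∀ u : V, u + u = 0 → u = 0 := by
    intro u hu
    have h2 : (2 : ZMod q) ≠ 0 := by
      intro h
      have : ((2 : ℕ) : ZMod q) = 0 := by exact_mod_cast h
      have := (ZMod.natCast_eq_zero_iff 2 q).1 this
      exact hq2 ((Nat.prime_dvd_prime_iff_eq Fact.out Nat.prime_two).1 this)
    have : (2 : ZMod q) • u = 0 := by rw [two_smul]; exact hu
    exact (smul_eq_zero.1 this).resolve_left h2
  have hfix : ∀ c : V, ρ z c = c → c = 0 := by
    intro c hc
    by_contra hc0
    set w := v - ρ z v with hw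
    have hw0 : w ≠ 0 := fun h0 => hv (sub_eq_zero.1 h0).symm
    have hzw : ρ z w = -w := by rw [hw, map_sub, apply_twice ρ hz]; abel
    have hu0 : c + w ≠ 0 := by
      intro h0
      have h1 : ρ z (c + w) = 0 := by rw [h0, map_zero]
      rw [map_add, hc, hzw] at h1
      have : c + c = 0 := by
        have : (c + w) + (c + -w) = 0 := by rw [h0, h1, add_zero]
        simpa using (by rw [← this]; abel : c + c = 0)
      exact hc0 (htwo c this)
    obtain ⟨t, ht2, htu⟩ := exists_fixer ρ hstab hu0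
    have ht1 : t ≠ 1 := fun h => by simp [h] at ht2
    have htzu : ρ t (c + -w) = c + -w := by
      have := hcomm t (c + w)
      rwa [htu, map_add (ρ z), hc, hzw] at this
    have htc : ρ t c = c := by
      have h1 : ρ t ((c + w) + (c + -w)) = (c + w) + (c + -w) := by rw [map_add, htu, htzu]
      have e : (c + w) + (c + -w) = c + c := by abel
      rw [e, map_add] at h1
      exact sub_eq_zero.1 (htwo _ (by rw [← sub_eq_zero] at h1; rw [← h1]; abel))
    have := fixers_eq ρ hstab hc0 htc hc ht1 hz1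
    subst this
    rw [map_add, hc, hzw, add_right_inj, neg_eq_iff_add_eq_zero] at htu
    exact hw0 (htwo w htu)
  intro u
  have : ρ z (u + ρ z u) = u + ρ z u := by rw [map_add, apply_twice ρ hz, add_comm]
  exact eq_neg_of_add_eq_zero_right (hfix _ this)

/-- the fixed space of an element -/
def fixSp (t : G) : Submodule (ZMod q) V := LinearMap.eqLocus (ρ t : V →ₗ[ZMod q] V) LinearMap.id

theorem mem_fixSp {t : G} {v : V} : v ∈ fixSp ρ t ↔ ρ t v = v := Iff.rfl

/-- Let G be a finite group acting faithfully and linearly on a non-trivial finite vector space V over the field with q elements (q prime) so that every non-zero vector has a stabilizer of order 2, and suppose G has a central involution. Then V has q^(2r) elements for some r and G contains exactly q^r + 1 non-central involutions. -/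
theorem result
    (q : ℕ) [Fact q.Prime] {V : Type*} [AddCommGroup V] [Module (ZMod q) V] [Finite V] [Nontrivial V]
    {G : Type*} [Group G] [Finite G] (ρ : G →* (V ≃ₗ[ZMod q] V)) (hρ : Function.Injective ρ)
    (hstab : ∀ v : V, v ≠ 0 → Nat.card {g : G // ρ g v = v} = 2)
    (z : G) (hz : orderOf z = 2) (hzc : z ∈ Subgroup.center G) :
    ∃ r : ℕ, Nat.card V = q ^ (2 * r) ∧
      Nat.card {g : G // orderOf g = 2 ∧ g ∉ Subgroup.center G} = q ^ r + 1 := by
  classical
  haveI : Fintype G := Fintype.ofFinite G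
  haveI : Fintype V := Fintype.ofFinite V
  obtain ⟨hq2, hzneg⟩ := central_neg ρ hρ hstab hz hzc
  have hne1 : ∀ {t : G}, orderOf t = 2 → t ≠ 1 := fun {t} h e => by simp [e] at h
  have hcz : ∀ t : G, orderOf t = 2 → t ∈ Subgroup.center G → t = z := fun t ht htc =>
    hρ (by ext v; rw [(central_neg ρ hρ hstab ht htc).2 v, hzneg])
  have hV0 : ∀ v : V, v + v = 0 → v = 0 := by
    intro u hu
    have h2 : (2 : ZMod q) ≠ 0 := by
      intro h
      have : ((2 : ℕ) : ZMod q) = 0 := by exact_mod_cast h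
      exact hq2 ((Nat.prime_dvd_prime_iff_eq Fact.out Nat.prime_two).1
        ((ZMod.natCast_eq_zero_iff 2 q).1 this))
    exact (smul_eq_zero.1 (by rw [two_smul]; exact hu : (2 : ZMod q) • u = 0)).resolve_left h2
  let N : Type _ := {g : G // orderOf g = 2 ∧ g ∉ Subgroup.center G}
  have hfx : ∀ v : V, v ≠ 0 → ∃ t : N, ρ (t : G) v = v := by
    intro v hv
    obtain ⟨t, ht, htv⟩ := exists_fixer ρ hstab hv
    refine ⟨⟨t, ht, fun htc => ?_⟩, htv⟩
    rw [hcz t ht htc, hzneg] at htv
    exact hv (hV0 v (neg_eq_iff_add_eq_zero.1 htv))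
  have huniq : ∀ v : V, v ≠ 0 → ∀ s t : N, ρ (s : G) v = v → ρ (t : G) v = v → s = t :=
    fun v hv s t hs ht => Subtype.ext (fixers_eq ρ hstab hv hs ht (hne1 s.2.1) (hne1 t.2.1))
  have hdisj : ∀ s t : N, s ≠ t → Disjoint (fixSp ρ (s : G)) (fixSp ρ (t : G)) := by
    intro s t hst
    rw [Submodule.disjoint_def]
    intro v hs ht
    by_contra hv
    exact hst (huniq v hv s t hs ht)
  have hle : ∀ s t : N, s ≠ t → Module.finrank (ZMod q) (fixSp ρ (s : G)) +
      Module.finrank (ZMod q) (fixSp ρ (t : G)) ≤ Module.finrank (ZMod q) V := fun s t hst =>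
    Submodule.finrank_add_finrank_le_of_disjoint (hdisj s t hst)
  -- the partner of an involution
  let zt : N → N := fun t => ⟨z * t, by
    have hcm : Commute z (t : G) := (Subgroup.mem_center_iff.1 hzc _).symm
    refine ⟨orderOf_eq_prime ?_ ?_, fun hc => t.2.2 ?_⟩
    · have h1 : z ^ 2 = 1 := by
        have := pow_orderOf_eq_one z
        rwa [hz] at this
      have h2 : (t : G) ^ 2 = 1 := by
        have := pow_orderOf_eq_one (t : G)
        rwa [t.2.1] at this
      rw [hcm.mul_pow, h1, h2, mul_one]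
    · intro h
      refine t.2.2 ?_
      rw [← inv_eq_of_mul_eq_one_right h]
      exact inv_mem hzc
    · have := mul_mem (inv_mem hzc) hc
      rwa [inv_mul_cancel_left] at this⟩
  have hztne : ∀ t : N, t ≠ zt t := fun t h => hne1 hz (by
    have : (t : G) = z * t := congrArg Subtype.val h
    exact right_eq_mul.1 this)
  have hztapp : ∀ (t : N) (v : V), ρ ((zt t : N) : G) v = -ρ (t : G) v := by
    intro t v
    show ρ (z * t) v = _
    rw [map_mul, LinearEquiv.mul_apply, hzneg]
  have hcompl : ∀ t : N, Module.finrank (ZMod q) (fixSp ρ (t : G)) +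
      Module.finrank (ZMod q) (fixSp ρ ((zt t : N) : G)) = Module.finrank (ZMod q) V := by
    intro t
    have hsup : fixSp ρ (t : G) ⊔ fixSp ρ ((zt t : N) : G) = ⊤ := by
      refine eq_top_iff.2 fun v _ => ?_
      have h2 : (2 : ZMod q) ≠ 0 := by
        intro h
        obtain ⟨u, hu⟩ := exists_ne (0 : V)
        exact hu (hV0 u (by rw [← two_smul (ZMod q), h, zero_smul]))
      have hv : v = (2 : ZMod q)⁻¹ • (v + ρ (t : G) v) + (2 : ZMod q)⁻¹ • (v - ρ (t : G) v) := by
        rw [← smul_add, show (v + ρ (t : G) v) + (v - ρ (t : G) v) = (2 : ZMod q) • v by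
          rw [two_smul]; abel, smul_smul, inv_mul_cancel₀ h2, one_smul]
      rw [hv]
      refine Submodule.add_mem_sup (Submodule.smul_mem _ _ ?_) (Submodule.smul_mem _ _ ?_)
      · rw [mem_fixSp, map_add, apply_twice ρ t.2.1, add_comm]
      · rw [mem_fixSp, hztapp, map_sub, apply_twice ρ t.2.1]; abel
    rw [← Submodule.finrank_sup_add_finrank_inf_eq, hsup,
      (hdisj t (zt t) (hztne t)).eq_bot, finrank_top, finrank_bot, add_zero]
  obtain ⟨v₀, hv₀⟩ := exists_ne (0 : V)
  obtain ⟨t₀, ht₀⟩ := hfx v₀ hv₀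
  set a := Module.finrank (ZMod q) (fixSp ρ (t₀ : G)) with ha
  have hpos : ∀ t : N, 0 < Module.finrank (ZMod q) (fixSp ρ (t : G)) := by
    intro t
    refine Nat.pos_of_ne_zero fun h0 => t.2.2 ?_
    have hb := Submodule.finrank_eq_zero.1 h0
    have : (t : G) = z := hρ (by
      ext v
      have hm : v + ρ (t : G) v ∈ fixSp ρ (t : G) := by
        rw [mem_fixSp, map_add, apply_twice ρ t.2.1, add_comm]
      rw [hb, Submodule.mem_bot] at hm
      rw [hzneg]
      exact eq_neg_of_add_eq_zero_right hm)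
    rw [this]; exact hzc
  obtain ⟨t₁, ht₁a, ht₁b⟩ : ∃ t₁ : N, t₁ ≠ t₀ ∧ t₁ ≠ zt t₀ := by
    obtain ⟨⟨w, hw⟩, hw0⟩ : ∃ w : fixSp ρ ((zt t₀ : N) : G), w ≠ 0 := by
      have := hpos (zt t₀)
      haveI := Module.finrank_pos_iff.1 this
      exact exists_ne 0
    have hw0' : w ≠ 0 := fun h => hw0 (Subtype.ext h)
    have hsum : v₀ + w ≠ 0 := by
      intro h
      have : w ∈ fixSp ρ (t₀ : G) := by
        rw [eq_neg_of_add_eq_zero_right h]
        exact Submodule.neg_mem _ ht₀
      exact hw0' (Submodule.disjoint_def.1 (hdisj _ _ (hztne t₀)) w this hw)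
    obtain ⟨t₁, h1⟩ := hfx _ hsum
    refine ⟨t₁, fun h => ?_, fun h => ?_⟩
    · subst h
      rw [map_add, ht₀, add_right_inj] at h1
      exact hw0' (Submodule.disjoint_def.1 (hdisj _ _ (hztne t₁)) w h1 hw)
    · subst h
      rw [map_add, show ρ ((zt t₀ : N) : G) w = w from hw, add_left_inj] at h1
      exact hv₀ (Submodule.disjoint_def.1 (hdisj _ _ (hztne t₀)) v₀ ht₀ h1)
  have hhalf : Module.finrank (ZMod q) V = 2 * a := by
    have h1 := hle t₁ t₀ ht₁a
    have h2 := hle t₁ (zt t₀) ht₁b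
    have h3 := hcompl t₀
    have h4 := hcompl t₁
    have h5 : zt t₁ ≠ t₀ := fun h => ht₁b (by
      rw [← h]; refine Subtype.ext ?_
      show (t₁ : G) = z * (z * t₁)
      have hzz : z * z = 1 := by
        have := pow_orderOf_eq_one z
        rwa [hz, pow_two] at this
      rw [← mul_assoc, hzz, one_mul])
    have h6 : zt t₁ ≠ zt t₀ := fun h => ht₁a (Subtype.ext
      (mul_left_cancel (congrArg Subtype.val h)))
    have h7 := hle _ _ h5
    have h8 := hle _ _ h6
    omega
  have hall : ∀ t : N, Module.finrank (ZMod q) (fixSp ρ (t : G)) = a := by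
    intro t
    by_cases h0 : t = t₀
    · rw [h0]
    by_cases h1 : t = zt t₀
    · have := hcompl t₀; rw [h1]; omega
    have ha' := hle t t₀ h0
    have hb' := hle t (zt t₀) h1
    have h3 := hcompl t₀
    have h4 := hcompl t
    by_cases h5 : zt t = t₀
    · rw [h5] at h4; omega
    have h7 := hle _ _ h5
    omega
  refine ⟨a, ?_, ?_⟩
  · rw [Module.natCard_eq_pow_finrank (K := ZMod q), hhalf, Nat.card_zmod]
  have hq1 : 1 < q ^ a := Nat.one_lt_pow (by have := hpos t₀; omega) (Fact.out : q.Prime).one_lt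
  let e : (Σ t : N, {w : fixSp ρ (t : G) // w ≠ 0}) ≃ {v : V // v ≠ 0} :=
    Equiv.ofBijective (fun p => ⟨(p.2.1 : V), fun h => p.2.2 (Subtype.ext h)⟩)
      ⟨by
        rintro ⟨s, ⟨w, hw⟩, hw0⟩ ⟨t, ⟨u, hu⟩, hu0⟩ h
        have hwu : w = u := congrArg Subtype.val h
        subst hwu
        have hw' : w ≠ 0 := fun h => hw0 (Subtype.ext h)
        obtain rfl := huniq w hw' s t hw hu
        rfl,
      fun ⟨v, hv⟩ => by
        obtain ⟨t, ht⟩ := hfx v hv
        exact ⟨⟨t, ⟨v, ht⟩, fun h => hv (congrArg Subtype.val h)⟩, rfl⟩⟩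
  have hcard := Nat.card_congr e
  rw [Nat.card_sigma] at hcard
  have hne : ∀ (W : Submodule (ZMod q) V), Nat.card {w : W // w ≠ 0} = Nat.card W - 1 := by
    intro W
    have := Fintype.card_subtype_compl (fun w : W => w = 0)
    rw [Fintype.card_subtype_eq] at this
    simp only [Nat.card_eq_fintype_card]
    exact this
  have hnV : Nat.card {v : V // v ≠ 0} = Nat.card V - 1 := by
    have := Fintype.card_subtype_compl (fun w : V => w = 0)
    rw [Fintype.card_subtype_eq] at this
    simp only [Nat.card_eq_fintype_card]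
    exact this
  rw [hnV, Module.natCard_eq_pow_finrank (K := ZMod q) (V := V), hhalf, Nat.card_zmod] at hcard
  have hterm : ∀ t : N, Nat.card {w : fixSp ρ (t : G) // w ≠ 0} = q ^ a - 1 := fun t => by
    rw [hne, Module.natCard_eq_pow_finrank (K := ZMod q), hall t, Nat.card_zmod]
  rw [Finset.sum_congr rfl (fun t _ => hterm t), Finset.sum_const, Finset.card_univ,
    smul_eq_mul] at hcard
  rw [show Nat.card {g : G // orderOf g = 2 ∧ g ∉ Subgroup.center G} = Fintype.card N from
    Nat.card_eq_fintype_card]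
  have hsq : q ^ (2 * a) - 1 = (q ^ a + 1) * (q ^ a - 1) := by
    rw [two_mul, pow_add, ← Nat.sq_sub_sq, one_pow, pow_two]
  rw [hsq] at hcard
  exact Nat.eq_of_mul_eq_mul_right (by omega) hcard

end Cfsg.Agent.S3381
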