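import Mathlib
import Cfsg.Statements.S3382
import Cfsg.Agent.Lib.Monomial2Aut.Basic
import Cfsg.Agent.Lib.Monomial2Aut.Maps

set_option autoImplicit false
open Cfsg

namespace Cfsg.Agent.S3382

/-- Let q = 2^m + 1 be a prime other than 5. Then the automorphism group of the group of linear maps of F_q² of the forms (x, y) ↦ (a x, ± a⁻¹ y) and (x, y) ↦ (± a⁻¹ y, a x) with a ≠ 0 is itself a 2-group. -/
theorem result (q m : ℕ) [Fact q.Prime] (hq : q = 2 ^ m + 1) (hq5 : q ≠ 5)
    (T : Subgroup ((Fin 2 → ZMod q) ≃ₗ[ZMod q] (Fin 2 → ZMod q)))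
    (hT : ∀ f, f ∈ T ↔ ∃ a s : ZMod q, a ≠ 0 ∧ (s = 1 ∨ s = -1) ∧
      ((∀ v, f v = ![a * v 0, s * a⁻¹ * v 1]) ∨ (∀ v, f v = ![s * a⁻¹ * v 1, a * v 0]))) :
    IsPGroup 2 (MulAut T) := by
  classical
  haveI : Finite ((Fin 2 → ZMod q) ≃ₗ[ZMod q] (Fin 2 → ZMod q)) :=
    Finite.of_injective _ DFunLike.coe_injective
  haveI : Finite (MulAut T) := Finite.of_injective _ DFunLike.coe_injective
  have hf2 : ∀ (u : ZMod q), u = 1 ∨ u = -1 → u * u = 1 := by
    rintro u (rfl | rfl) <;> simp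
  have hneg : ∀ u : (ZMod q)ˣ, u * u = 1 → (u : ZMod q) = 1 ∨ (u : ZMod q) = -1 := fun u hu =>
    mul_self_eq_one_iff.mp (by rw [← Units.val_mul, hu, Units.val_one])
  let Ω : Subgroup (ZMod q)ˣ := (powMonoidHom 2 : (ZMod q)ˣ →* (ZMod q)ˣ).ker
  have hΩ : ∀ s : Ω, (s : (ZMod q)ˣ) * s = 1 := fun s => by rw [← pow_two]; exact s.2
  let ι : (ZMod q)ˣ × Ω →* (ZMod q)ˣ × (ZMod q)ˣ := (MonoidHom.id _).prodMap Ω.subtype
  have hι : Function.Injective ι := Function.injective_id.prodMap Subtype.val_injective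
  have hDT : ∀ p, Lib.Monomial2Aut.pairHom (ZMod q) (ι p) ∈ T := fun p => (hT _).mpr
    ⟨p.1, p.2.1, p.1.ne_zero, hneg _ (hΩ _),
      Or.inl fun v => Lib.Monomial2Aut.pairHom_apply (ZMod q) (ι p) v⟩
  have hwT : Lib.Monomial2Aut.swapEquiv (ZMod q) ∈ T := (hT _).mpr
    ⟨1, 1, one_ne_zero, Or.inl rfl, Or.inr fun v => by
      rw [Lib.Monomial2Aut.swapEquiv_apply, inv_one, one_mul, one_mul, one_mul]⟩
  let δ : (ZMod q)ˣ × Ω →* T :=
    ((Lib.Monomial2Aut.pairHom (ZMod q)).comp ι).codRestrict T hDT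
  let w : T := ⟨_, hwT⟩
  have hδinj : Function.Injective δ := fun a b h =>
    hι (Lib.Monomial2Aut.pairHom_injective (ZMod q) (congrArg Subtype.val h))
  let A : Subgroup T := δ.range
  have hcases : ∀ x : T, x ∈ A ∨ ∃ p, x = w * δ p := by
    rintro ⟨f, hf⟩
    obtain ⟨a, s, ha, hs, hf'⟩ := (hT f).mp hf
    have hs0 : s ≠ 0 := fun h => by have := hf2 s hs; rw [h] at this; simp at this
    let p : (ZMod q)ˣ × Ω := (Units.mk0 a ha, ⟨Units.mk0 s hs0, Units.ext (by
      simpa [pow_two] using hf2 s hs)⟩)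
    rcases hf' with h | h
    · exact Or.inl ⟨p, Subtype.ext (LinearEquiv.ext fun v => by
        show Lib.Monomial2Aut.pairHom (ZMod q) (ι p) v = f v
        rw [Lib.Monomial2Aut.pairHom_apply, h]; rfl)⟩
    · exact Or.inr ⟨p, Subtype.ext (LinearEquiv.ext fun v => by
        show f v = Lib.Monomial2Aut.swapEquiv (ZMod q) (Lib.Monomial2Aut.pairHom (ZMod q) (ι p) v)
        rw [Lib.Monomial2Aut.swapEquiv_apply, Lib.Monomial2Aut.pairHom_apply, h]; rfl)⟩
  have hwA : w ∉ A := by
    rintro ⟨p, hp⟩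
    exact Lib.Monomial2Aut.swap_not_pair (ZMod q) (ι p) (congrArg Subtype.val hp)
  have hwsq : ∀ p, (w * δ p) * (w * δ p) = δ ((p.2 : (ZMod q)ˣ), 1) := fun p =>
    Subtype.ext (Lib.Monomial2Aut.swap_pair_sq (ZMod q) (ι p) (hΩ p.2))
  have hqne : q ≠ 0 := (Fact.out : q.Prime).ne_zero
  -- the orders
  have hU : Nat.card (ZMod q)ˣ = 2 ^ m := by
    rw [Nat.card_eq_fintype_card, ZMod.card_units q, hq]; omega
  have hΩ2 : ∀ s : Ω, s * s = 1 := fun s => Subtype.ext (hΩ s)
  rw [IsPGroup.iff_orderOf]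
  intro β
  refine ⟨(orderOf β).factorization 2, ?_⟩
  by_contra hne
  obtain ⟨r, hr, hrd, hr2⟩ : ∃ r, r.Prime ∧ r ∣ orderOf β ∧ r ≠ 2 := by
    by_contra hcon
    push Not at hcon
    refine hne ?_
    have h := Nat.eq_prime_pow_of_unique_prime_dvd (n := orderOf β) (p := 2) (orderOf_pos β).ne'
      fun {d} hd hdvd => hcon d hd hdvd
    conv_rhs => rw [h]
    rw [Nat.Prime.factorization_pow Nat.prime_two] at *
    simp at *
    exact h
  obtain ⟨α, hα, hαr⟩ : ∃ α : MulAut T, α ^ r = 1 ∧ α ≠ 1 := by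
    refine ⟨β ^ (orderOf β / r), ?_, fun h => ?_⟩
    · rw [← pow_mul, Nat.div_mul_cancel hrd, pow_orderOf_eq_one]
    · have hlt : orderOf β / r < orderOf β := Nat.div_lt_self (orderOf_pos β) hr.one_lt
      exact pow_ne_one_of_lt_orderOf (Nat.div_pos (Nat.le_of_dvd (orderOf_pos β) hrd) hr.pos).ne' hlt h
  have hodd : Odd r := hr.odd_of_ne_two hr2
  refine hαr ?_
  obtain ⟨a0, ha0⟩ : ∃ a0 : (ZMod q)ˣ, orderOf a0 = 2 ^ m := by
    obtain ⟨a0, h⟩ := IsCyclic.exists_generator (α := (ZMod q)ˣ)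
    exact ⟨a0, by rw [orderOf_eq_card_of_forall_mem_zpowers h, hU]⟩
  rcases le_or_gt 3 m with hm | hm
  · -- the main case
    have hne1 : (-1 : (ZMod q)ˣ) ≠ 1 := by
      intro h
      have h2 : ((2 : ℕ) : ZMod q) = 0 := by
        have := congrArg Units.val h
        simp only [Units.val_neg, Units.val_one] at this
        push_cast
        linear_combination -this
      rw [ZMod.natCast_eq_zero_iff] at h2
      have := Nat.le_of_dvd (by norm_num) h2
      have h8 : 8 ≤ 2 ^ m := (Nat.pow_le_pow_right (show 2 > 0 by norm_num) hm)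
      omega
    have hmem1 : (-1 : (ZMod q)ˣ) ∈ Ω := by show (-1 : (ZMod q)ˣ) ^ 2 = 1; simp
    let e : Ω := ⟨-1, hmem1⟩
    have hΩcases : ∀ s : Ω, s = 1 ∨ s = e := fun s => by
      rcases hneg _ (hΩ s) with h | h
      · exact Or.inl (Subtype.ext (Units.ext h))
      · exact Or.inr (Subtype.ext (Units.ext (by simpa [e] using h)))
    have hord : ∀ p : (ZMod q)ˣ × Ω, orderOf (δ p) = orderOf p := orderOf_injective δ hδinj
    have hneg1 : a0 ^ (2 ^ (m - 1)) = -1 := by
      have h2 : a0 ^ (2 ^ (m - 1)) * a0 ^ (2 ^ (m - 1)) = 1 := by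
        rw [← pow_add, ← two_mul, ← pow_succ', show m - 1 + 1 = m by omega, ← ha0, pow_orderOf_eq_one]
      rcases hneg _ h2 with h | h
      · exfalso
        have := Nat.le_of_dvd (by positivity) (orderOf_dvd_of_pow_eq_one (Units.ext h))
        rw [ha0] at this
        exact absurd this (not_le.mpr (Nat.pow_lt_pow_right (by norm_num) (by omega)))
      · exact Units.ext (by simpa using h)
    refine Lib.Monomial2Aut.trivial_of_odd hodd hα A ?_ hm (δ (a0, 1)) (δ (1, e)) (δ (-1, 1)) w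
      ⟨_, rfl⟩ ⟨_, rfl⟩ ?_ ?_ ?_ ?_ ?_ ?_ ?_ ?_ hwA ?_
    · rintro _ ⟨x, rfl⟩ _ ⟨y, rfl⟩
      rw [← map_mul, ← map_mul, mul_comm]
    · rw [hord, Prod.orderOf, ha0, orderOf_one, Nat.lcm_one_right]
    · rw [← map_mul, hord, Prod.mk_mul_mk, one_mul, mul_one, Prod.orderOf, ha0]
      refine Nat.lcm_eq_left ((orderOf_dvd_of_pow_eq_one (n := 2) ?_).trans (dvd_pow_self 2 (by omega)))
      rw [pow_two, hΩ2]
    · rw [← map_mul, Prod.mk_mul_mk, one_mul, hΩ2]; exact map_one δ
    · intro h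
      obtain ⟨i, hi⟩ := Subgroup.mem_zpowers_iff.mp h
      rw [← map_zpow] at hi
      have h2 := congrArg Prod.snd (hδinj hi)
      rw [Prod.pow_snd, one_zpow] at h2
      exact hne1 (congrArg Subtype.val h2).symm
    · rw [← map_pow, Prod.pow_mk, one_pow, hneg1]
    · rintro _ ⟨⟨b, s⟩, rfl⟩
      obtain ⟨i, rfl⟩ : ∃ i : ℕ, a0 ^ i = b := by
        refine (mem_powers_iff_mem_zpowers.mpr ?_)
        rw [show Subgroup.zpowers a0 = ⊤ from Subgroup.eq_top_of_card_eq _ (by
          rw [Nat.card_zpowers, ha0, hU])]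
        trivial
      refine Subgroup.mem_zpowers_iff.mpr ⟨(i : ℤ), ?_⟩
      rw [zpow_natCast, ← map_mul, ← map_pow, ← map_mul]
      congr 1
      refine Prod.ext ?_ ?_
      · show (a0 * a0) ^ i = a0 ^ i * a0 ^ i
        exact mul_pow _ _ _
      · show (1 * 1 : Ω) ^ i = s * s
        rw [one_mul, one_pow, hΩ2]
    · rintro _ ⟨⟨b, s⟩, rfl⟩ hx
      rw [← map_mul, ← map_one δ] at hx
      have hb : b * b = 1 := congrArg Prod.fst (hδinj hx)
      have hb' : b = 1 ∨ b = -1 := by
        rcases hneg b hb with h | h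
        · exact Or.inl (Units.ext h)
        · exact Or.inr (Units.ext (by simpa using h))
      rcases hb' with rfl | rfl <;> rcases hΩcases s with rfl | rfl
      · exact Or.inl (map_one δ)
      · exact Or.inr (Or.inr (Or.inl rfl))
      · exact Or.inr (Or.inl rfl)
      · exact Or.inr (Or.inr (Or.inr (by rw [← map_mul, Prod.mk_mul_mk, one_mul, mul_one])))
    · intro x hx
      obtain ⟨p, rfl⟩ := (hcases x).resolve_left hx
      refine ⟨?_, δ p, ⟨p, rfl⟩, rfl⟩
      rw [show (w * δ p) ^ 4 = (w * δ p * (w * δ p)) * (w * δ p * (w * δ p)) by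
        rw [pow_succ, pow_three']; group, hwsq, ← map_mul, Prod.mk_mul_mk, hΩ, one_mul]
      exact map_one δ
    · rintro _ ⟨⟨b, s⟩, rfl⟩
      obtain ⟨i, rfl⟩ : ∃ i : ℕ, a0 ^ i = b := by
        refine (mem_powers_iff_mem_zpowers.mpr ?_)
        rw [show Subgroup.zpowers a0 = ⊤ from Subgroup.eq_top_of_card_eq _ (by
          rw [Nat.card_zpowers, ha0, hU])]
        trivial
      rcases hΩcases s with rfl | rfl
      · exact ⟨i, 0, by rw [pow_zero, mul_one, ← map_pow, Prod.pow_mk, one_pow]⟩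
      · exact ⟨i, 1, by rw [pow_one, ← map_pow, ← map_mul, Prod.pow_mk, one_pow, Prod.mk_mul_mk,
          mul_one, one_mul]⟩
  · -- degree at most three
    have hm1 : m ≤ 1 := by
      by_contra hm1
      obtain rfl : m = 2 := by omega
      exact hq5 (by rw [hq]; norm_num)
    have hb : ∀ b : (ZMod q)ˣ, b = 1 ∨ b = -1 := fun b => by
      have h2 : b * b = 1 := by
        rw [← pow_two]
        refine orderOf_dvd_iff_pow_eq_one.mp ?_
        refine (orderOf_dvd_natCard b).trans ?_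
        rw [hU]
        exact (pow_dvd_pow 2 hm1).trans (by norm_num)
      rcases hneg b h2 with h | h
      · exact Or.inl (Units.ext h)
      · exact Or.inr (Units.ext (by simpa using h))
    have hmem1 : (-1 : (ZMod q)ˣ) ∈ Ω := by show (-1 : (ZMod q)ˣ) ^ 2 = 1; simp
    let e : Ω := ⟨-1, hmem1⟩
    have hΩcases : ∀ s : Ω, s = 1 ∨ s = e := fun s => by
      rcases hb s with h | h
      · exact Or.inl (Subtype.ext h)
      · exact Or.inr (Subtype.ext h)
    by_cases hone : (-1 : (ZMod q)ˣ) = 1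
    · -- only two elements
      have hall : ∀ x : T, x = 1 ∨ x = w := by
        have hp : ∀ p : (ZMod q)ˣ × Ω, p = 1 := fun p => Prod.ext
          ((hb p.1).elim id fun h => h.trans hone)
          ((hΩcases p.2).elim id fun h => h.trans (Subtype.ext hone))
        intro x
        rcases hcases x with ⟨p, rfl⟩ | ⟨p, rfl⟩
        · left; rw [hp p, map_one]
        · right; rw [hp p, map_one, mul_one]
      refine MulEquiv.ext fun x => ?_
      rw [MulAut.one_apply]
      rcases hall x with rfl | rfl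
      · exact map_one α
      · refine (hall (α w)).resolve_left fun h => ?_
        exact hwA ⟨1, by rw [map_one]; exact (α.injective (h.trans (map_one α).symm)).symm⟩
    set c := δ (-1, 1) with hcdef
    set r0 := δ (1, e) with hr0def
    set k := w * r0 with hkdef
    have hce : ∀ p : (ZMod q)ˣ × Ω, δ p = 1 ∨ δ p = c ∨ δ p = r0 ∨ δ p = r0 * c := by
      rintro ⟨b, s⟩
      rcases hb b with rfl | rfl <;> rcases hΩcases s with rfl | rfl
      · exact Or.inl (map_one δ)
      · exact Or.inr (Or.inr (Or.inl rfl))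
      · exact Or.inr (Or.inl rfl)
      · exact Or.inr (Or.inr (Or.inr (by
          rw [hr0def, hcdef, ← map_mul, Prod.mk_mul_mk, one_mul, mul_one])))
    have hcne : c ≠ 1 := fun h => hone (congrArg Prod.fst (hδinj (h.trans (map_one δ).symm)))
    have hrc : r0 ≠ c := fun h => hone (congrArg Prod.fst (hδinj h)).symm
    have hkk : k * k = c := hwsq (1, e)
    have hcc : c * c = 1 := by
      rw [hcdef, ← map_mul, Prod.mk_mul_mk, neg_mul_neg, one_mul, one_mul]; exact map_one δ
    have hrr : r0 * r0 = 1 := by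
      rw [hr0def, ← map_mul, Prod.mk_mul_mk, one_mul, hΩ2]; exact map_one δ
    have hsq : ∀ x : T, (x * x = 1 ∨ x * x = c) ∧ (x * x = c → x = k ∨ x = k * c) := by
      intro x
      rcases hcases x with ⟨p, rfl⟩ | ⟨⟨b, s⟩, rfl⟩
      · have h1 : δ p * δ p = 1 := by
          rw [← map_mul, show p * p = 1 from Prod.ext ?_ (hΩ2 p.2)]
          · exact map_one δ
          · show p.1 * p.1 = 1
            rcases hb p.1 with h | h <;> simp [h]
        exact ⟨Or.inl h1, fun h => absurd (h.symm.trans h1) hcne⟩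
      · rw [hwsq]
        rcases hΩcases s with rfl | rfl
        · exact ⟨Or.inl (map_one δ), fun h => absurd (h.symm.trans (map_one δ)) hcne⟩
        · refine ⟨Or.inr rfl, fun _ => ?_⟩
          rcases hb b with rfl | rfl
          · exact Or.inl rfl
          · right
            rw [hkdef, mul_assoc, hr0def, hcdef, ← map_mul, Prod.mk_mul_mk, one_mul, mul_one]
    have hαc : α c = c := by
      rcases (hsq (α k)).1 with h | h <;> rw [← map_mul, hkk] at h
      · exact absurd (α.injective (h.trans (map_one α).symm)) hcne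
      · exact h
    have hαk : α k = k := by
      rcases (hsq (α k)).2 (by rw [← map_mul, hkk, hαc]) with h | h
      · exact h
      · exact Lib.Monomial2Aut.fixed_of_shift hodd hα h hαc (n := 1) (by rw [pow_one, pow_two, hcc])
    have hK : ∀ x : T, ∃ y, (y = 1 ∨ y = c ∨ y = k ∨ y = k * c) ∧ (x = y ∨ x = r0 * y) := by
      intro x
      have hww : w * w = 1 := by
        have := hwsq 1
        rw [map_one, mul_one] at this
        rw [this]; exact map_one δ
      have hkc : k * c = r0 * w := by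
        refine mul_left_cancel (a := k) ?_
        rw [← mul_assoc, hkk, hcc, hkdef, mul_assoc, ← mul_assoc r0, hrr, one_mul, hww]
      have hwk : w = r0 * (k * c) := by rw [hkc, ← mul_assoc, hrr, one_mul]
      rcases hcases x with ⟨p, rfl⟩ | ⟨p, rfl⟩
      · rcases hce p with h | h | h | h
        · exact ⟨1, Or.inl rfl, Or.inl h⟩
        · exact ⟨c, Or.inr (Or.inl rfl), Or.inl h⟩
        · exact ⟨1, Or.inl rfl, Or.inr (by rw [mul_one]; exact h)⟩
        · exact ⟨c, Or.inr (Or.inl rfl), Or.inr h⟩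
      · rcases hce p with h | h | h | h <;> rw [h]
        · exact ⟨k * c, Or.inr (Or.inr (Or.inr rfl)), Or.inr (by rw [mul_one]; exact hwk)⟩
        · refine ⟨k, Or.inr (Or.inr (Or.inl rfl)), Or.inr ?_⟩
          rw [hwk, mul_assoc, mul_assoc, hcc, mul_one]
        · exact ⟨k, Or.inr (Or.inr (Or.inl rfl)), Or.inl rfl⟩
        · exact ⟨k * c, Or.inr (Or.inr (Or.inr rfl)), Or.inl (by rw [← mul_assoc])⟩
    have hKfix : ∀ y, (y = 1 ∨ y = c ∨ y = k ∨ y = k * c) → α y = y ∧ y ^ (2 ^ 2) = 1 := by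
      have h4 : ∀ y : T, y * y = 1 ∨ y * y = c → y ^ (2 ^ 2) = 1 := by
        intro y h
        rw [pow_succ, pow_one, pow_mul, pow_two, pow_two]
        rcases h with h | h <;> rw [h]
        · exact one_mul 1
        · exact hcc
      intro y hy
      refine ⟨?_, h4 y (hsq y).1⟩
      rcases hy with rfl | rfl | rfl | rfl
      · exact map_one α
      · exact hαc
      · exact hαk
      · rw [map_mul, hαk, hαc]
    have hαr : α r0 = r0 := by
      obtain ⟨y, hy, hxy | hxy⟩ := hK (α r0)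
      · have h : r0 = y := α.injective (hxy.trans (hKfix y hy).1.symm)
        rcases hy with rfl | rfl | rfl | rfl
        · exact hxy.trans h.symm
        · exact absurd h hrc
        · exact absurd (h ▸ hrr) (by rw [hkk]; exact hcne)
        · exact hxy.trans h.symm
      · exact Lib.Monomial2Aut.fixed_of_shift hodd hα hxy (hKfix y hy).1 (hKfix y hy).2
    refine MulEquiv.ext fun x => ?_
    rw [MulAut.one_apply]
    obtain ⟨y, hy, rfl | rfl⟩ := hK x
    · exact (hKfix _ hy).1
    · rw [map_mul, hαr, (hKfix y hy).1]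

end Cfsg.Agent.S3382
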