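import Cfsg.Statements.S3383
import Mathlib
import Cfsg.Agent.Lib.Frobenius.Basic
-- import your own Cfsg.Agent.* helpers here

set_option autoImplicit false
open Cfsg
open Cfsg.Agent.Lib
open scoped Pointwise

namespace Cfsg.Agent.S3383

/-- Let H be a Frobenius complement in a finite group L and K the Frobenius kernel (as a subgroup). Then K is characteristic in L, and every normal subgroup of L either contains K or is contained in K. -/
theorem result {L : Type*} [Group L] [Finite L]
    (H : Subgroup L) (hH : Cfsg.IsFrobeniusComplement H)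
    (K : Subgroup L) (hK : (K : Set L) = Cfsg.frobeniusKernel H) :
    K.Characteristic ∧ ∀ N : Subgroup L, N.Normal → K ≤ N ∨ N ≤ K := by
  have hmem : ∀ x : L, x ∈ K ↔ x ∈ Cfsg.frobeniusKernel H := fun x => by rw [← hK]; rfl
  have hKn : K.Normal := ⟨fun x hx g =>
    (hmem _).mpr (Frobenius.conj_mem_frobeniusKernel g ((hmem x).mp hx))⟩
  have hcK : Nat.card K = H.index := by
    have h := Frobenius.card_frobeniusKernel hH
    rw [← hK] at h
    exact h
  have hcop : (Nat.card H).Coprime H.index := Frobenius.coprime_card_index hH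
  have hKi : K.index = Nat.card H := by
    have h1 := Subgroup.card_mul_index K
    rw [← Subgroup.card_mul_index H, hcK] at h1
    exact Nat.eq_of_mul_eq_mul_left (hcK ▸ Nat.card_pos : 0 < H.index) (h1.trans (mul_comm _ _))
  refine ⟨?_, fun N hN => ?_⟩
  · have hsub : ∀ A : Subgroup L, Nat.card A ∣ H.index → A ≤ K := by
      intro A hA a ha
      rw [← QuotientGroup.eq_one_iff, ← orderOf_eq_one_iff]
      apply Nat.eq_one_of_dvd_coprimes hcop
      · rw [← hKi, Subgroup.index_eq_card]
        exact orderOf_dvd_natCard _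
      · refine ((orderOf_map_dvd (QuotientGroup.mk' K) a).trans ?_).trans hA
        exact Subgroup.orderOf_dvd_natCard A ha
    refine Subgroup.characteristic_iff_map_le.mpr fun φ => hsub _ ?_
    rw [← Nat.card_congr (K.equivMapOfInjective φ.toMonoidHom φ.injective).toEquiv, hcK]
  · by_cases hNH : N ⊓ H = ⊥
    · right
      intro x hx
      by_cases hx1 : x = 1
      · exact hx1 ▸ K.one_mem
      refine (hmem x).mpr (Or.inr fun g hg => ?_)
      rw [Frobenius.mem_conj_smul_iff] at hg
      have h' : g⁻¹ * x * g ∈ N ⊓ H := ⟨hN.conj_mem' x hx g, hg⟩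
      rw [hNH, Subgroup.mem_bot] at h'
      apply hx1
      calc x = g * (g⁻¹ * x * g) * g⁻¹ := by group
        _ = 1 := by rw [h']; group
    · left
      obtain ⟨h, ⟨hhN, hhH⟩, hh1⟩ := (Subgroup.bot_or_exists_ne_one (N ⊓ H)).resolve_left hNH
      let f : K → ↥(N ⊓ K) := fun k => ⟨(k : L) * h * (k : L)⁻¹ * h⁻¹,
        N.mul_mem (hN.conj_mem h hhN k) (N.inv_mem hhN), by
          rw [mul_assoc, mul_assoc, ← mul_assoc h]
          exact K.mul_mem k.2 (hKn.conj_mem _ (K.inv_mem k.2) h)⟩
      have hinj : Function.Injective f := by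
        intro a b hab
        have h1 : (a : L) * h * (a : L)⁻¹ * h⁻¹ = (b : L) * h * (b : L)⁻¹ * h⁻¹ :=
          congrArg Subtype.val hab
        have h2 : ((b : L)⁻¹ * a) * h = h * ((b : L)⁻¹ * a) := by
          have h1' := mul_right_cancel h1
          calc ((b : L)⁻¹ * a) * h = (b : L)⁻¹ * ((a : L) * h * (a : L)⁻¹) * a := by group
            _ = (b : L)⁻¹ * ((b : L) * h * (b : L)⁻¹) * a := by rw [h1']
            _ = _ := by group
        have h3 : (b : L)⁻¹ * a ∈ H := by
          refine Frobenius.centralizer_le hH hhH hh1 ?_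
          exact Subgroup.mem_centralizer_singleton_iff.mpr h2
        have h4 := Frobenius.eq_one_of_mem_frobeniusKernel
          ((hmem _).mp (K.mul_mem (K.inv_mem b.2) a.2)) h3
        exact Subtype.ext (inv_mul_eq_one.mp h4).symm
      have heq : N ⊓ K = K := Subgroup.eq_of_le_of_card_ge inf_le_right
        (Nat.card_le_card_of_injective f hinj)
      exact heq.symm.le.trans inf_le_left

end Cfsg.Agent.S3383
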