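import Cfsg.Statements.S3685
import Cfsg.Agent.Lib.ThompsonWielandt.Action
import Cfsg.Agent.Lib.Trivalent.Setup
import Cfsg.Agent.Lib.Trivalent.Shape

set_option autoImplicit false
open Cfsg

namespace Cfsg.Agent.S3685

/-- An odd-order element fixing a point of a 3-point invariant set fixes all of it. -/
theorem smul_eq_of_odd {G Ω : Type*} [Group G] [MulAction G Ω] {s : Set Ω} (hs : s.ncard = 3)
    {x : G} (hinv : ∀ y ∈ s, x • y ∈ s) {b y : Ω} (hb : b ∈ s) (hxb : x • b = b)
    (ho : (orderOf x).Coprime 2) (hy : y ∈ s) : x • y = y := by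
  by_cases hyb : y = b
  · rw [hyb, hxb]
  have hfin : s.Finite := Set.finite_of_ncard_ne_zero (by omega)
  have h2 : (s \ {b}).ncard = 2 := by rw [Set.ncard_sdiff_singleton_of_mem hb, hs]
  obtain ⟨u, v, huv, he⟩ := Set.ncard_eq_two.mp h2
  have hmove : ∀ z ∈ s \ {b}, x • z ∈ s \ {b} := fun z hz => ⟨hinv z hz.1, fun e =>
    hz.2 (MulAction.injective x ((Set.mem_singleton_iff.mp e).trans hxb.symm))⟩
  have hsq : (x ^ 2) • y = y := by
    have hy1 : y ∈ s \ {b} := ⟨hy, hyb⟩
    have hy2 := hmove y hy1
    have hy3 := hmove _ hy2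
    rw [sq, mul_smul]
    by_contra hne
    have h12 : x • y ≠ y := fun e => hne (by rw [e, e])
    have h23 : x • x • y ≠ x • y := fun e => h12 (MulAction.injective x e)
    simp only [he, Set.mem_insert_iff, Set.mem_singleton_iff] at hy1 hy2 hy3
    grind
  obtain ⟨m, hm⟩ := exists_pow_eq_self_of_coprime ho.symm
  have hk : ∀ k : ℕ, ((x ^ 2) ^ k) • y = y := by
    intro k
    induction k with
    | zero => simp
    | succ k ih => rw [pow_succ, mul_smul, hsq, ih]
  have := hk m
  rwa [hm] at this

/-- Let a finite group G act faithfully and primitively on a set Ω, and suppose the stabilizer of a point a has an orbit of length 3. Then the stabilizer of a is isomorphic to one of: the cyclic group of order 3, the symmetric group of degree 3, the dihedral group of order 12, the symmetric group of degree 4, or the direct product of the symmetric group of degree 4 with a group of order 2. -/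
theorem result {G Ω : Type*} [Group G] [Finite G] [MulAction G Ω] [FaithfulSMul G Ω] [Finite Ω]
    (hprim : MulAction.IsPreprimitive G Ω) (a b : Ω) (h3 : Nat.card (MulAction.orbit (MulAction.stabilizer G a) b) = 3) :
    Nonempty (MulAction.stabilizer G a ≃* Multiplicative (ZMod 3)) ∨ Nonempty (MulAction.stabilizer G a ≃* Equiv.Perm (Fin 3)) ∨
      Nonempty (MulAction.stabilizer G a ≃* DihedralGroup 6) ∨ Nonempty (MulAction.stabilizer G a ≃* Equiv.Perm (Fin 4)) ∨
      Nonempty (MulAction.stabilizer G a ≃* Equiv.Perm (Fin 4) × Multiplicative (ZMod 2)) := by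
  classical
  have s := Cfsg.Agent.Lib.ThompsonWielandt.setup_of_suborbit hprim a b 3 h3 (by omega)
  haveI := hprim
  set H := MulAction.stabilizer G a with hH
  set M := MulAction.stabilizer G b with hM
  haveI : MulAction.IsPretransitive G Ω := inferInstance
  set P := H ⊓ M with hP
  obtain ⟨g₀, hg₀⟩ := MulAction.exists_smul_eq G a b
  have hMg : ∀ g : G, g • a = b → M = H.map (MulAut.conj g).toMonoidHom := fun g hg => by
    rw [hM, ← hg]; exact MulAction.stabilizer_smul_eq_stabilizer_map_conj g a
  have hHM : Nat.card M = Nat.card H := by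
    rw [hMg g₀ hg₀, Subgroup.card_map_of_injective (MulAut.conj g₀).injective]
  have hc1 : Nat.card H = 3 * Nat.card P := by
    have := Cfsg.Agent.Lib.ThompsonWielandt.card_eq_orbit_mul H b
    rwa [h3] at this
  have h3' : Nat.card (MulAction.orbit M a) = 3 := by
    have := Cfsg.Agent.Lib.ThompsonWielandt.card_eq_orbit_mul M a
    rw [hHM, hc1, inf_comm] at this
    exact (Nat.eq_of_mul_eq_mul_right Nat.card_pos this).symm
  -- odd order elements of `P` are normalised by both stabilisers
  have key : ∀ (a' b' : Ω), Nat.card (MulAction.orbit (MulAction.stabilizer G a') b') = 3 →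
      ∀ h ∈ MulAction.stabilizer G a', ∀ x : G, x • a' = a' → x • b' = b' →
        (orderOf x).Coprime 2 → (h * x * h⁻¹) • a' = a' ∧ (h * x * h⁻¹) • b' = b' := by
    intro a' b' hd h hh x hxa hxb ho
    rw [MulAction.mem_stabilizer_iff] at hh
    have hhi : h⁻¹ • a' = a' := by rw [inv_smul_eq_iff, hh]
    refine ⟨by rw [mul_smul, mul_smul, hhi, hxa, hh], ?_⟩
    have hy : h⁻¹ • b' ∈ MulAction.orbit (MulAction.stabilizer G a') b' :=
      ⟨⟨h⁻¹, hhi⟩, rfl⟩
    have := smul_eq_of_odd (s := MulAction.orbit (MulAction.stabilizer G a') b')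
      (by rw [← Nat.card_coe_set_eq, hd]) (x := x)
      (fun y hy => by
        obtain ⟨k, rfl⟩ := hy
        exact ⟨⟨x, hxa⟩ * k, (mul_smul (⟨x, hxa⟩ : MulAction.stabilizer G a') k b')⟩)
      (MulAction.mem_orbit_self b') hxb ho hy
    rw [mul_smul, mul_smul, this, smul_inv_smul]
  have hres : Cfsg.Agent.Lib.ThompsonWielandt.res 2 P = ⊥ := by
    refine s.eq_bot_of_normalized ((Cfsg.Agent.Lib.ThompsonWielandt.res_le 2 P).trans inf_le_left)
      (fun h hh => Cfsg.Agent.Lib.ThompsonWielandt.mem_normalizer_res fun x hx ho => ?_)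
      (fun h hh => Cfsg.Agent.Lib.ThompsonWielandt.mem_normalizer_res fun x hx ho => ?_)
    · exact ⟨(key a b h3 h hh x hx.1 hx.2 ho).1, (key a b h3 h hh x hx.1 hx.2 ho).2⟩
    · exact ⟨(key b a h3' h hh x hx.2 hx.1 ho).2, (key b a h3' h hh x hx.2 hx.1 ho).1⟩
  haveI : Fact (Nat.Prime 2) := ⟨Nat.prime_two⟩
  obtain ⟨t, ht⟩ := IsPGroup.iff_card.mp
    (Cfsg.Agent.Lib.ThompsonWielandt.isPGroup_of_res_eq_bot hres)
  rw [ht] at hc1
  by_cases hn : H ≤ Subgroup.normalizer (P : Set G)
  · -- regular case
    left
    have hgP : (P.map (MulAut.conj g₀).toMonoidHom) = P := by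
      have hnM : M ≤ Subgroup.normalizer (P.map (MulAut.conj g₀).toMonoidHom : Set G) := by
        rw [hMg g₀ hg₀]
        exact (Subgroup.map_mono hn).trans (Subgroup.le_normalizer_map _)
      have hle := Cfsg.Agent.Lib.Trivalent.le_of_normalized (hHM.trans hc1)
        ((Subgroup.map_mono inf_le_left).trans (hMg g₀ hg₀).ge) hnM
        ((IsPGroup.of_card ht).map _) (inf_le_right : P ≤ M) ht
      exact Subgroup.eq_of_le_of_card_ge hle
        (Subgroup.card_map_of_injective (MulAut.conj g₀).injective).ge
    have hPb : P = ⊥ := s.eq_bot_of_normalized inf_le_left hn (by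
      rw [hMg g₀ hg₀, ← hgP]
      exact (Subgroup.map_mono hn).trans (Subgroup.le_normalizer_map _))
    rw [hPb, Subgroup.card_bot] at ht
    rw [← ht, mul_one] at hc1
    haveI : Fact (Nat.Prime 3) := ⟨Nat.prime_three⟩
    haveI : IsCyclic H := isCyclic_of_prime_card hc1
    exact ⟨mulEquivOfCyclicCardEq (by
      rw [hc1, Nat.card_congr Multiplicative.toAdd, Nat.card_zmod])⟩
  · obtain ⟨g, hg, hgne⟩ : ∃ g : G, g • a = b ∧ P.map (MulAut.conj g).toMonoidHom ≠ P := by
      by_contra hall
      push Not at hall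
      refine hn fun h hh => ?_
      have hha : h • a = a := hh
      have e2 := hall (g₀ * h) (by rw [mul_smul, hha, hg₀])
      have e1 := hall g₀ hg₀
      have : P.map (MulAut.conj h).toMonoidHom = P := by
        refine Subgroup.map_injective (f := (MulAut.conj g₀).toMonoidHom)
          (MulAut.conj g₀).injective ?_
        rw [Subgroup.map_map, e1]
        refine Eq.trans ?_ e2
        congr 1
        ext y
        simp [mul_assoc]
      rw [Subgroup.mem_normalizer_iff]
      intro y
      constructor
      · intro hy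
        exact this ▸ Subgroup.mem_map_of_mem _ hy
      · intro hy
        rw [← this] at hy
        obtain ⟨z, hz, e'⟩ := hy
        rwa [(MulAut.conj h).injective e'] at hz
    have hgH : g ∉ H := fun h' => s.ne (by rw [hM, ← hg, show g • a = a from h'])
    obtain ⟨c, hc, ⟨e⟩⟩ := Cfsg.Agent.Lib.Trivalent.exists_tri s.maxH s.coreH hgH P
      (by rw [hP, hMg g hg]) ht hc1 hgne
    right
    rcases hc.iso with h | h | h | h
    · exact Or.inl (h.map e.trans)
    · exact Or.inr (Or.inl (h.map e.trans))
    · exact Or.inr (Or.inr (Or.inl (h.map e.trans)))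
    · exact Or.inr (Or.inr (Or.inr (h.map e.trans)))

end Cfsg.Agent.S3685
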