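import Cfsg.Statements.S3389
import Mathlib
-- import your own Cfsg.Agent.* helpers here

set_option autoImplicit false
open Cfsg

namespace Cfsg.Agent.S3389

/-- Let G be a finite group acting faithfully and transitively on a finite set Ω with fixity k ≥ 1: every non-identity element fixes at most k points and some non-identity element fixes exactly k points. Then |Z(G)| divides k; if k = 2 then |G| is even; and for every prime p > k dividing |G| and every point α, either p does not divide |G_α| or G_α contains a Sylow p-subgroup of G. -/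
theorem result {G : Type*} [Group G] [Finite G] {Ω : Type*} [Fintype Ω] [MulAction G Ω] [FaithfulSMul G Ω]
    (htr : MulAction.IsPretransitive G Ω) (k : ℕ) (hk : 1 ≤ k)
    (hfix : ∀ g : G, g ≠ 1 → Nat.card (MulAction.fixedBy Ω g) ≤ k) (hex : ∃ g : G, g ≠ 1 ∧ Nat.card (MulAction.fixedBy Ω g) = k) :
    Nat.card (Subgroup.center G) ∣ k ∧ (k = 2 → 2 ∣ Nat.card G) ∧
      ∀ (p : ℕ), p.Prime → k < p → p ∣ Nat.card G → ∀ α : Ω,
        ¬ p ∣ Nat.card (MulAction.stabilizer G α) ∨ ¬ p ∣ (MulAction.stabilizer G α).index := by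
  classical
  obtain ⟨g₀, hg₀, hg₀k⟩ := hex
  have hsmall : ∀ (T : Set G), (∃ g ∈ T, g ≠ 1) →
      Nat.card {ω : Ω // ∀ g ∈ T, g • ω = ω} ≤ k := by
    rintro T ⟨g, hgT, hg1⟩
    refine le_trans ?_ (hfix g hg1)
    exact Nat.card_le_card_of_injective (fun ω => (⟨ω.1, ω.2 g hgT⟩ : MulAction.fixedBy Ω g))
      (fun a b h => Subtype.ext (congrArg (fun z : MulAction.fixedBy Ω g => (z : Ω)) h))
  refine ⟨?_, ?_, ?_⟩
  · set Z := Subgroup.center G
    let F : Set Ω := MulAction.fixedBy Ω g₀
    let act : MulAction Z F :=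
      { smul := fun z w => ⟨(z : G) • (w : Ω), by
          show g₀ • (z : G) • (w : Ω) = _
          rw [smul_smul, Subgroup.mem_center_iff.mp z.2 g₀, ← smul_smul, w.2]⟩
        one_smul := fun w => Subtype.ext (one_smul G (w : Ω))
        mul_smul := fun a b w => Subtype.ext (mul_smul (a : G) (b : G) (w : Ω)) }
    have hfree : ∀ w : F, MulAction.stabilizer Z w = ⊥ := by
      intro w
      rw [eq_bot_iff]
      intro z hz
      have hz' : (z : G) • (w : Ω) = w := congrArg Subtype.val hz
      have h1 : (z : G) = 1 := eq_of_smul_eq_smul fun v : Ω => by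
        obtain ⟨g, rfl⟩ := MulAction.exists_smul_eq G (w : Ω) v
        rw [one_smul, smul_smul, ← Subgroup.mem_center_iff.mp z.2 g, ← smul_smul, hz']
      exact Subtype.ext h1
    have he := Nat.card_congr (MulAction.selfEquivSigmaOrbitsQuotientStabilizer Z F)
    rw [Nat.card_sigma] at he
    rw [show k = Nat.card F from hg₀k.symm, he]
    refine Finset.dvd_sum fun o _ => ?_
    rw [hfree, ← Subgroup.index_eq_card, Subgroup.index_bot]
  · rintro rfl
    by_contra hodd
    have hoddg : ∀ g : G, Odd (orderOf g) := fun g => by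
      rw [← Nat.not_even_iff_odd, even_iff_two_dvd]
      exact fun h => hodd (h.trans (orderOf_dvd_natCard g))
    rw [Nat.card_coe_set_eq, Set.ncard_eq_two] at hg₀k
    obtain ⟨α, β, hαβ, hF⟩ := hg₀k
    have hFg : ∀ ω, g₀ • ω = ω ↔ (ω = α ∨ ω = β) := fun ω => by
      have := Set.ext_iff.mp hF ω; simpa using this
    obtain ⟨p, hp, hpd⟩ := Nat.exists_prime_and_dvd (orderOf_eq_one_iff.not.mpr hg₀)
    have := Fact.mk hp
    set g := g₀ ^ (orderOf g₀ / p) with hgdef
    have hgo : orderOf g = p := orderOf_pow_orderOf_div (orderOf_pos g₀).ne' hpd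
    have hg1 : g ≠ 1 := fun h => by rw [h, orderOf_one] at hgo; exact hp.ne_one hgo.symm
    have hgα : g • α = α := by
      have h : g₀ ∈ MulAction.stabilizer G α := (hFg α).mpr (Or.inl rfl)
      exact pow_mem h _
    have hgβ : g • β = β := by
      have h : g₀ ∈ MulAction.stabilizer G β := (hFg β).mpr (Or.inr rfl)
      exact pow_mem h _
    -- a nontrivial element fixes no third point
    have htwo : ∀ u : G, u ≠ 1 → u • α = α → u • β = β → ∀ ω, u • ω = ω → ω = α ∨ ω = β := by
      intro u hu ha hb ω hω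
      by_contra h
      push Not at h
      have h3 := hfix u hu
      rw [Nat.card_coe_set_eq] at h3
      have hsub : ({α, β, ω} : Set Ω) ⊆ MulAction.fixedBy Ω u := by
        rintro v (rfl | rfl | rfl) <;> assumption
      have := Set.ncard_le_ncard hsub (Set.toFinite _)
      rw [Set.ncard_eq_three.mpr ⟨α, β, ω, hαβ, fun e => h.1 e.symm, fun e => h.2 e.symm, rfl⟩] at this
      omega
    set Gα := MulAction.stabilizer G α
    have hgp : IsPGroup p (Subgroup.zpowers (⟨g, hgα⟩ : Gα)) :=
      IsPGroup.of_card (n := 1) (by rw [Nat.card_zpowers, pow_one, ← hgo, ← Subgroup.orderOf_coe])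
    obtain ⟨R, hR⟩ := hgp.exists_le_sylow
    have hgR : (⟨g, hgα⟩ : Gα) ∈ (R : Subgroup Gα) := hR (Subgroup.mem_zpowers _)
    have hRnt : Nontrivial (R : Subgroup Gα) :=
      ⟨⟨⟨_, hgR⟩, 1, fun h => hg1 (congrArg Subtype.val (congrArg Subtype.val h))⟩⟩
    obtain ⟨⟨z, hzc⟩, hz1⟩ := @exists_ne _ (IsPGroup.center_nontrivial R.isPGroup')
      (1 : Subgroup.center (R : Subgroup Gα))
    have hz1' : ((z : Gα) : G) ≠ 1 := fun h => hz1 (Subtype.ext (Subtype.ext (Subtype.ext h)))
    have hcommR : ∀ r : (R : Subgroup Gα), ((z : Gα) : G) * ((r : Gα) : G) =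
        ((r : Gα) : G) * ((z : Gα) : G) := fun r => by
      have h := Subgroup.mem_center_iff.mp hzc r
      exact (congrArg Subtype.val (congrArg Subtype.val h)).symm
    have hzα : ((z : Gα) : G) • α = α := (z : Gα).2
    have hzβ : ((z : Gα) : G) • β = β := by
      have h : g • ((z : Gα) : G) • β = ((z : Gα) : G) • β := by
        rw [smul_smul, ← hcommR ⟨_, hgR⟩, ← smul_smul]
        show _ • (g • β) = _
        rw [hgβ]
      rcases htwo g hg1 hgα hgβ _ h with h' | h'
      · exact absurd (smul_left_cancel _ (h'.trans hzα.symm)).symm hαβ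
      · exact h'
    have hRβ : ∀ r : (R : Subgroup Gα), ((r : Gα) : G) • β = β := by
      intro r
      have h : ((z : Gα) : G) • ((r : Gα) : G) • β = ((r : Gα) : G) • β := by
        rw [smul_smul, hcommR r, ← smul_smul, hzβ]
      rcases htwo _ hz1' hzα hzβ _ h with h' | h'
      · have hr : ((r : Gα) : G) • α = α := (r : Gα).2
        exact absurd (smul_left_cancel _ (h'.trans hr.symm)).symm hαβ
      · exact h'
    obtain ⟨h, hh⟩ := MulAction.exists_smul_eq G α β
    set R' : Subgroup G := ((R : Subgroup Gα).map Gα.subtype).map (MulAut.conj h⁻¹).toMonoidHom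
    have hR'le : R' ≤ Gα := by
      rintro _ ⟨_, ⟨r, hr, rfl⟩, rfl⟩
      show _ • α = α
      simp only [MulEquiv.toMonoidHom_eq_coe, MonoidHom.coe_coe, MulAut.conj_apply, inv_inv,
        Subgroup.coe_subtype]
      rw [mul_smul, hh, mul_smul, hRβ ⟨r, hr⟩, ← hh, inv_smul_smul]
    have hcard' : Nat.card (R'.subgroupOf Gα) = Nat.card (R : Subgroup Gα) := by
      rw [Nat.card_congr (Subgroup.subgroupOfEquivOfLe hR'le).toEquiv,
        ← Nat.card_congr (Subgroup.equivMapOfInjective _ (MulAut.conj h⁻¹).toMonoidHom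
          (MulAut.conj h⁻¹).injective).toEquiv,
        ← Nat.card_congr (Subgroup.equivMapOfInjective _ _ Gα.subtype_injective).toEquiv]
    let R₂ : Sylow p Gα := Sylow.ofCard (R'.subgroupOf Gα) (hcard'.trans R.card_eq_multiplicity)
    obtain ⟨u, hu⟩ := MulAction.exists_smul_eq Gα R R₂
    set v : G := h * (u : G) with hvdef
    have hvα : v • α = β := by rw [hvdef, mul_smul, show (u : G) • α = α from u.2, hh]
    -- `v` permutes the fixed points of `R`
    have hfixv : ∀ r : (R : Subgroup Gα), ((r : Gα) : G) • (v • β) = v • β := by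
      intro r
      have h1 : ((r : Gα) : G) ∈ ((R : Subgroup Gα).map Gα.subtype) :=
        Subgroup.mem_map_of_mem Gα.subtype r.2
      have h2 : h⁻¹ * ((r : Gα) : G) * h ∈ R' := ⟨_, h1, by simp⟩
      have h3 : (⟨_, hR'le h2⟩ : Gα) ∈ (R₂ : Subgroup Gα) := h2
      rw [← hu] at h3
      obtain ⟨r', hr', hrr⟩ := h3
      have h4 : (u : G) * (r' : G) * (u : G)⁻¹ = h⁻¹ * ((r : Gα) : G) * h :=
        congrArg Subtype.val hrr
      have h5 : ((r : Gα) : G) = v * (r' : G) * v⁻¹ := by
        rw [hvdef, mul_inv_rev]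
        calc ((r : Gα) : G) = h * (h⁻¹ * ((r : Gα) : G) * h) * h⁻¹ := by group
          _ = h * ((u : G) * (r' : G) * (u : G)⁻¹) * h⁻¹ := by rw [h4]
          _ = _ := by group
      rw [h5, mul_smul, inv_smul_smul, mul_smul, hRβ ⟨r', hr'⟩]
    have hvβ : v • β = α := by
      rcases htwo g hg1 hgα hgβ _ (hfixv ⟨_, hgR⟩) with h' | h'
      · exact h'
      · exact absurd (smul_left_cancel v (h'.trans hvα.symm)).symm hαβ
    have heven : ∀ j : ℕ, v ^ (2 * j) • α = α := by
      intro j
      induction j with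
      | zero => simp
      | succ j ih =>
        rw [show 2 * (j + 1) = (2 * j) + 2 by ring, pow_add, mul_smul, pow_two, mul_smul, hvα, hvβ, ih]
    obtain ⟨j, hj⟩ := hoddg v
    apply hαβ
    have h6 : v ^ (orderOf v) • α = β := by
      rw [hj, pow_succ', mul_smul, heven, hvα]
    rwa [pow_orderOf_eq_one, one_smul] at h6
  · intro p hp hkp hpG α
    have := Fact.mk hp
    set Gα := MulAction.stabilizer G α
    by_contra h
    push Not at h
    obtain ⟨P⟩ := (inferInstance : Nonempty (Sylow p Gα))
    set P' : Subgroup G := (P : Subgroup Gα).map Gα.subtype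
    have hP'p : IsPGroup p P' := P.2.map _
    obtain ⟨S, hS⟩ := hP'p.exists_le_sylow
    by_cases hPS : P' = (S : Subgroup G)
    · have h1 : Gα.index ∣ (S : Subgroup G).index :=
        Subgroup.index_dvd_of_le (hPS ▸ Subgroup.map_subtype_le _)
      exact S.not_dvd_index (h.2.trans h1)
    · have hlt : P'.subgroupOf (S : Subgroup G) < ⊤ := lt_top_iff_ne_top.mpr fun he =>
        hPS (le_antisymm hS (Subgroup.subgroupOf_eq_top.mp he))
      have : Group.IsNilpotent (S : Subgroup G) := S.2.isNilpotent
      obtain ⟨x, hxN, hxP⟩ := SetLike.exists_of_lt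
        (Group.normalizerCondition_of_isNilpotent (G := (S : Subgroup G)) _ hlt)
      have hxP' : (x : G) ∉ P' := hxP
      have hxn : ∀ a, a ∈ P' → (x : G) * a * (x : G)⁻¹ ∈ P' := by
        intro a ha
        exact (Subgroup.mem_normalizer_iff.mp hxN ⟨a, hS ha⟩).mp ha
      -- the group generated by `P'` and `x` acts on the fixed points of `P'`
      let X : Subgroup (S : Subgroup G) := Subgroup.normalizer (P'.subgroupOf (S : Subgroup G) : Set (S : Subgroup G))
      let T : Set Ω := {ω | ∀ a ∈ P', a • ω = ω}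
      let act : MulAction X T :=
        { smul := fun y w => ⟨((y : (S : Subgroup G)) : G) • (w : Ω), fun a ha => by
            have h2 := (Subgroup.mem_normalizer_iff.mp (X.inv_mem y.2) ⟨a, hS ha⟩).mp ha
            have h3 := w.2 _ h2
            simp only [inv_inv] at h3
            rw [smul_smul]
            have h4 : (((y : (S : Subgroup G)) : G)⁻¹ * a * ((y : (S : Subgroup G)) : G)) • (w : Ω) = w := h3
            conv_rhs => rw [← h4]
            rw [smul_smul]
            congr 1
            group⟩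
          one_smul := fun w => Subtype.ext (one_smul G (w : Ω))
          mul_smul := fun a b w => Subtype.ext
            (mul_smul ((a : (S : Subgroup G)) : G) ((b : (S : Subgroup G)) : G) (w : Ω)) }
      have hαT : α ∈ T := by
        rintro _ ⟨a, -, rfl⟩
        exact a.2
      have hPne : ∃ a ∈ (P' : Set G), a ≠ 1 := by
        have hne := P.ne_bot_of_dvd_card h.1
        obtain ⟨a, ha, ha1⟩ := (Subgroup.bot_or_exists_ne_one (P : Subgroup Gα)).resolve_left hne
        exact ⟨_, Subgroup.mem_map_of_mem Gα.subtype ha, fun e => ha1 (Subtype.ext e)⟩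
      have hT : Nat.card T ≤ k := hsmall (P' : Set G) hPne
      have hX : IsPGroup p X := S.2.to_subgroup X
      obtain ⟨i, hi⟩ := hX.card_orbit (⟨α, hαT⟩ : T)
      have hle : Nat.card (MulAction.orbit X (⟨α, hαT⟩ : T)) ≤ Nat.card T :=
        Nat.card_le_card_of_injective _ Subtype.val_injective
      have hi0 : i = 0 := by
        by_contra hi'
        have : p ≤ p ^ i := Nat.le_self_pow hi' p
        omega
      rw [hi0, pow_zero, Nat.card_eq_one_iff_unique] at hi
      have := hi.1
      have hxα : (x : G) • α = α := by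
        have h5 := Subsingleton.elim (α := MulAction.orbit X (⟨α, hαT⟩ : T))
          ⟨_, MulAction.mem_orbit _ (⟨x, hxN⟩ : X)⟩ ⟨_, MulAction.mem_orbit_self _⟩
        exact congrArg Subtype.val (congrArg Subtype.val h5)
      -- so `P` is not maximal among `p`-subgroups of the stabilizer
      set Q : Subgroup Gα := (S : Subgroup G).subgroupOf Gα
      have hQ : IsPGroup p Q := by
        refine S.2.comap_of_injective Gα.subtype Gα.subtype_injective
      have hPQ : (P : Subgroup Gα) ≤ Q := fun a ha => hS (Subgroup.mem_map_of_mem Gα.subtype ha)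
      have hQP : Q = P := P.3 hQ hPQ
      apply hxP'
      refine ⟨⟨(x : G), hxα⟩, ?_, rfl⟩
      show _ ∈ (P : Subgroup Gα)
      rw [← hQP]
      exact x.2

end Cfsg.Agent.S3389
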