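import Cfsg.Statements.S3390
import Mathlib
import Cfsg.Agent.Lib.MaxClass.SmallCentralizer

set_option autoImplicit false
open Cfsg

namespace Cfsg.Agent.S3390

open MulAction Subgroup

section
variable {G : Type*} [Group G] [Finite G] {Ω : Type*} [Fintype Ω] [MulAction G Ω] [FaithfulSMul G Ω]

/-- A nontrivial element fixing two distinct points fixes nothing else. -/
lemma fix_two (hfix : ∀ g : G, g ≠ 1 → Nat.card (MulAction.fixedBy Ω g) ≤ 2) {x : G} (hx : x ≠ 1)
    {a b c : Ω} (hab : a ≠ b) (ha : x • a = a) (hb : x • b = b) (hc : x • c = c) : c = a ∨ c = b := by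
  classical
  by_contra h
  rw [not_or] at h
  have hs : ({a, b, c} : Set Ω) ⊆ MulAction.fixedBy Ω x := by
    intro y hy
    simp only [Set.mem_insert_iff, Set.mem_singleton_iff] at hy
    rcases hy with rfl | rfl | rfl
    · exact ha
    · exact hb
    · exact hc
  have h3 : ({a, b, c} : Set Ω).ncard = 3 := by
    rw [Set.ncard_insert_of_notMem, Set.ncard_pair (Ne.symm h.2)]
    simp [hab, Ne.symm h.1]
  have := Set.ncard_le_ncard hs (Set.toFinite _)
  have h2 := hfix x hx
  rw [Nat.card_coe_set_eq] at h2
  omega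

/-- The stabiliser-type facts when every fixed point of a Sylow 2-subgroup element lies in a 2-element orbit. -/
lemma exists_index_two (P : Sylow 2 G) (T : Subgroup G) (hTP : T ≤ (P : Subgroup G))
    (h2 : T.relIndex (P : Subgroup G) = 2)
    (hno : ∀ x ∈ (P : Subgroup G), x ∉ T → ∀ ω : Ω, x • ω ≠ ω)
    (hyes : ∀ x ∈ T, ∃ ω : Ω, x • ω = ω) :
    ∃ N : Subgroup G, N.Normal ∧ N.index = 2 ∧ T ≤ N ∧
      (∀ x ∈ (P : Subgroup G), x ∈ N → x ∈ T) ∧ (∀ g, g ∉ N → ∀ ω : Ω, g • ω ≠ ω) := by
  classical
  haveI : Fact (Nat.Prime 2) := ⟨Nat.prime_two⟩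
  set S : Subgroup G := (P : Subgroup G) with hS
  set T0 := T.subgroupOf S with hT0
  haveI : T0.Normal := Subgroup.normal_of_index_eq_two h2
  have hfoc : S.focalSubgroupOf ≤ T0 := by
    rw [focalSubgroupOf_eq_closure, closure_le]
    rintro g ⟨x, hx, u, hg⟩
    have e : (g : G) = x * (u * x⁻¹ * u⁻¹) := by rw [hg, commutatorElement_def]; group
    set y : G := u * x⁻¹ * u⁻¹ with hy
    have hyS : y ∈ S := by
      have : y = x⁻¹ * g := by rw [e]; group
      rw [this]; exact mul_mem (inv_mem hx) g.2
    have hiff : x ∈ T ↔ y ∈ T := by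
      constructor
      · intro h
        by_contra hyT
        obtain ⟨ω, hω⟩ := hyes _ (inv_mem h)
        exact hno y hyS hyT (u • ω) (by rw [hy, mul_smul, mul_smul, inv_smul_smul, hω])
      · intro h
        by_contra hxT
        obtain ⟨ω, hω⟩ := hyes _ h
        refine hno x hx hxT (u⁻¹ • ω) ?_
        have h' : x⁻¹ • (u⁻¹ • ω) = u⁻¹ • ω := by
          conv_rhs => rw [← hω, hy, mul_smul, mul_smul, inv_smul_smul]
        conv_lhs => rw [← h']
        rw [smul_inv_smul]
    have hge : g = (⟨x, hx⟩ : S) * ⟨y, hyS⟩ := Subtype.ext e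
    rw [hge]
    show _ ∈ T0
    rw [mul_mem_iff_of_index_two h2]
    simp only [hT0, mem_subgroupOf]
    exact hiff
  set φ : S ⧸ S.focalSubgroupOf →* S ⧸ T0 :=
    QuotientGroup.map _ T0 (MonoidHom.id S) (by rw [Subgroup.comap_id]; exact hfoc) with hφ
  have hodd : Odd S.index := Nat.not_even_iff_odd.mp fun h => P.not_dvd_index (even_iff_two_dvd.mp h)
  set V : G →* S ⧸ T0 := φ.comp S.transferFocal with hV
  have hq2 : ∀ q : S ⧸ T0, q ^ 2 = 1 := by
    intro q
    have h : Nat.card (S ⧸ T0) = 2 := h2
    rw [← h]; exact pow_card_eq_one'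
  have hVS : ∀ x : S, V x = (x : S ⧸ T0) := by
    intro x
    rw [hV, MonoidHom.comp_apply, transferFocal_eq_pow, map_pow, hφ, QuotientGroup.map_mk,
      MonoidHom.id_apply]
    obtain ⟨k, hk⟩ := hodd
    rw [hk, pow_succ, pow_mul, hq2, one_pow, one_mul]
  have hsur : Function.Surjective V := by
    intro q
    obtain ⟨x, rfl⟩ := QuotientGroup.mk_surjective q
    exact ⟨x, hVS x⟩
  have hmem : ∀ x : S, (x : G) ∈ V.ker ↔ (x : G) ∈ T := by
    intro x
    rw [MonoidHom.mem_ker, hVS, QuotientGroup.eq_one_iff]
    rfl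
  refine ⟨V.ker, inferInstance, ?_, fun x hx => (hmem ⟨x, hTP hx⟩).mpr hx,
    fun x hx hxN => (hmem ⟨x, hx⟩).mp hxN, ?_⟩
  · rw [index_ker, MonoidHom.range_eq_top.mpr hsur, Subgroup.card_top]
    exact h2
  · intro g hg ω hω
    obtain ⟨e, m, hm, hem⟩ := Nat.exists_eq_pow_mul_and_not_dvd (orderOf_pos g).ne' 2 (by norm_num)
    have hmodd : Odd m := Nat.not_even_iff_odd.mp fun h => hm (even_iff_two_dvd.mp h)
    have hVg : V (g ^ m) = V g := by
      obtain ⟨k, hk⟩ := hmodd
      rw [hk, map_pow, pow_succ, pow_mul, hq2, one_pow, one_mul]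
    have hpg : IsPGroup 2 (zpowers (g ^ m)) := by
      refine IsPGroup.of_card (n := e) ?_
      rw [Nat.card_zpowers, orderOf_pow' g (Nat.pos_of_ne_zero (fun h => hm (by rw [h]; exact dvd_zero 2))).ne', hem,
        Nat.gcd_mul_left_left, Nat.mul_div_cancel _ (Nat.pos_of_ne_zero (fun h => hm (by rw [h]; exact dvd_zero 2)))]
    obtain ⟨Q, hQ⟩ := hpg.exists_le_sylow
    obtain ⟨h, hh⟩ := MulAction.exists_smul_eq G Q P
    set x : G := h * g ^ m * h⁻¹ with hx
    have hxS : x ∈ S := by
      rw [hS, ← hh, Sylow.coe_subgroup_smul, Subgroup.mem_pointwise_smul_iff_inv_smul_mem]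
      have : (MulAut.conj h)⁻¹ • x = g ^ m := by
        rw [← map_inv, MulAut.smul_def, MulAut.conj_apply, hx]; group
      rw [this]
      exact hQ (mem_zpowers _)
    have hxV : V x ≠ 1 := by
      rw [hx, map_mul, map_mul, map_inv, hVg]
      intro h1
      exact hg (MonoidHom.mem_ker.mpr (by
        rw [mul_inv_eq_one, mul_eq_left] at h1
        exact h1))
    refine hno x hxS (fun hT => hxV ?_) (h • ω) ?_
    · exact MonoidHom.mem_ker.mp ((hmem ⟨x, hxS⟩).mpr hT)
    · have hgm : g ^ m • ω = ω := (MulAction.stabilizer G ω).pow_mem (by exact hω) m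
      rw [hx, mul_smul, mul_smul, inv_smul_smul, hgm]


set_option maxHeartbeats 1000000 in
/-- The point stabiliser is a Frobenius complement of the index two subgroup `N`. -/
lemma frobenius_of_index_two (P : Sylow 2 G) (α β : Ω) (hαβ : α ≠ β) (u : G) (huα : u • α = β)
    (hfix : ∀ g : G, g ≠ 1 → Nat.card (MulAction.fixedBy Ω g) ≤ 2)
    (htr : MulAction.IsPretransitive G Ω)
    (hT1 : (P : Subgroup G) ⊓ stabilizer G α ≠ ⊥)
    (hTα : ∀ t ∈ (P : Subgroup G) ⊓ stabilizer G α, t • β = β)
    (N : Subgroup G) [N.Normal] (hN : N.index = 2) (huN : u ∉ N)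
    (hTN : (P : Subgroup G) ⊓ stabilizer G α ≤ N)
    (hPN : ∀ x ∈ (P : Subgroup G), x ∈ N → x ∈ (P : Subgroup G) ⊓ stabilizer G α)
    (hfree : ∀ g, g ∉ N → ∀ ω : Ω, g • ω ≠ ω) :
    ∃ H : Subgroup ↥N, Cfsg.IsFrobeniusComplement H := by
  classical
  haveI : Fact (Nat.Prime 2) := ⟨Nat.prime_two⟩
  set T : Subgroup G := (P : Subgroup G) ⊓ stabilizer G α with hT
  have hstab : ∀ ω : Ω, stabilizer G ω ≤ N := fun ω g hg => by
    by_contra h; exact hfree g h ω (mem_stabilizer_iff.mp hg)
  have hβnot : β ∉ orbit ↥N α := by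
    rintro ⟨n, hn⟩
    have hn' : (n : G) • α = u • α := hn.trans huα.symm
    have h1 : (n : G)⁻¹ * u ∈ N := hstab α (by
      rw [mem_stabilizer_iff, mul_smul, ← hn', inv_smul_smul])
    exact huN (by have := mul_mem n.2 h1; rwa [mul_inv_cancel_left] at this)
  refine ⟨(stabilizer G α).subgroupOf N, ?_, ?_, ?_⟩
  · intro h
    obtain ⟨t, ht, ht1⟩ := (Subgroup.bot_or_exists_ne_one T).resolve_left hT1
    have : (⟨t, hTN ht⟩ : N) ∈ (stabilizer G α).subgroupOf N := (inf_le_right : T ≤ _) ht
    rw [h, mem_bot] at this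
    exact ht1 (congrArg Subtype.val this)
  · intro h
    rw [subgroupOf_eq_top] at h
    obtain ⟨t, ht, ht1⟩ := (Subgroup.bot_or_exists_ne_one T).resolve_left hT1
    refine ht1 (FaithfulSMul.eq_of_smul_eq_smul (α := Ω) fun ω => ?_)
    obtain ⟨g, rfl⟩ := htr.exists_smul_eq α ω
    have h1 : g⁻¹ * t * g⁻¹⁻¹ ∈ N := Subgroup.Normal.conj_mem inferInstance _ (hTN ht) g⁻¹
    have h2 := mem_stabilizer_iff.mp (h h1)
    rw [inv_inv, mul_smul, mul_smul, inv_smul_eq_iff] at h2
    rw [one_smul, h2]
  · intro g hg
    rw [eq_bot_iff]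
    intro x hx
    obtain ⟨hxα, hxg⟩ := Subgroup.mem_inf.mp hx
    rw [Subgroup.mem_bot]
    rw [mem_pointwise_smul_iff_inv_smul_mem] at hxg
    rw [mem_subgroupOf, mem_stabilizer_iff] at hxα hxg
    rw [← map_inv, MulAut.smul_def, MulAut.conj_apply, inv_inv] at hxg
    simp only [Subgroup.coe_mul, Subgroup.coe_inv, mul_smul, inv_smul_eq_iff] at hxg
    set γ : Ω := (g : G) • α with hγ
    have hγα : γ ≠ α := fun h => hg (by rw [mem_subgroupOf, mem_stabilizer_iff]; exact h)
    by_contra hx1
    have hxG : (x : G) ≠ 1 := fun h => hx1 (Subtype.ext h)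
    obtain ⟨r, hr, hrd⟩ := Nat.exists_prime_and_dvd
      (n := orderOf (x : G)) (fun h => hxG (orderOf_eq_one_iff.mp h))
    set i : G := (x : G) ^ (orderOf (x : G) / r) with hi
    have hiord : orderOf i = r := orderOf_pow_orderOf_div (orderOf_pos _).ne' hrd
    have hi1 : i ≠ 1 := fun h => hr.one_lt.ne (by rw [← hiord, h, orderOf_one])
    have hiα : i • α = α := (stabilizer G α).pow_mem (mem_stabilizer_iff.mpr hxα) _
    have hiγ : i • γ = γ := (stabilizer G γ).pow_mem (mem_stabilizer_iff.mpr hxg) _
    have hiN : i ∈ N := N.pow_mem x.2 _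
    by_cases hr2 : r = 2
    · -- an involution is conjugate into `T`, and fixes one point in each orbit
      have hpg : IsPGroup 2 (zpowers i) := IsPGroup.of_card (n := 1) (by
        rw [Nat.card_zpowers, hiord, hr2, pow_one])
      obtain ⟨Q, hQ⟩ := hpg.exists_le_sylow
      obtain ⟨h, hh⟩ := MulAction.exists_smul_eq G Q P
      set t : G := h * i * h⁻¹ with ht
      have htP : t ∈ (P : Subgroup G) := by
        rw [← hh, Sylow.coe_subgroup_smul, Subgroup.mem_pointwise_smul_iff_inv_smul_mem]
        have : (MulAut.conj h)⁻¹ • t = i := by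
          rw [← map_inv, MulAut.smul_def, MulAut.conj_apply, ht]; group
        rw [this]
        exact hQ (mem_zpowers _)
      have htN : t ∈ N := Subgroup.Normal.conj_mem inferInstance _ hiN h
      have htT := hPN t htP htN
      have ht1 : t ≠ 1 := fun h' => hi1 (conj_eq_one_iff.mp h')
      have e1 : t • (h • α) = h • α := by rw [ht, mul_smul, mul_smul, inv_smul_smul, hiα]
      have e2 : t • (h • γ) = h • γ := by rw [ht, mul_smul, mul_smul, inv_smul_smul, hiγ]
      have c1 := fix_two hfix ht1 hαβ (mem_stabilizer_iff.mp (Subgroup.mem_inf.mp htT).2)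
        (hTα t htT) e1
      have c2 := fix_two hfix ht1 hαβ (mem_stabilizer_iff.mp (Subgroup.mem_inf.mp htT).2)
        (hTα t htT) e2
      have hne : h • α ≠ h • γ := fun h' => hγα (smul_left_cancel h h').symm
      have hconj : h * (g : G) * h⁻¹ ∈ N := Subgroup.Normal.conj_mem inferInstance _ g.2 h
      have hrel : (h * (g : G) * h⁻¹) • (h • α) = h • γ := by
        rw [mul_smul, mul_smul, inv_smul_smul]
      rcases c1 with c1 | c1 <;> rcases c2 with c2 | c2
      · exact hne (c1.trans c2.symm)
      · exact hβnot ⟨⟨_, hconj⟩, by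
          show (h * (g : G) * h⁻¹) • α = β
          rw [c1, c2] at hrel; exact hrel⟩
      · rw [c1, c2] at hrel
        exact hβnot ⟨⟨_, inv_mem hconj⟩, by
          show (h * (g : G) * h⁻¹)⁻¹ • α = β
          rw [inv_smul_eq_iff, hrel]⟩
      · exact hne (c1.trans c2.symm)
    · -- odd prime: count fixed points in the two orbits
      haveI : Fact r.Prime := ⟨hr⟩
      set i' : N := ⟨i, hiN⟩ with hi'
      set C : Subgroup N := zpowers i' with hC
      have hCp : IsPGroup r C := IsPGroup.of_card (n := 1) (by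
        rw [Nat.card_zpowers, pow_one]
        exact (Subgroup.orderOf_coe i').symm.trans hiord)
      have hfixC : ∀ (b : Ω) (z : orbit ↥N b), z ∈ fixedPoints C (orbit ↥N b) ↔ i • (z : Ω) = z := by
        intro b z
        constructor
        · intro hz
          exact congrArg Subtype.val (hz ⟨i', mem_zpowers _⟩)
        · intro hz c
          obtain ⟨c, hc⟩ := c
          have : c ∈ stabilizer ↥N (z : Ω) := (zpowers_le.mpr (show i' ∈ stabilizer ↥N (z : Ω) from hz)) hc
          exact Subtype.ext (mem_stabilizer_iff.mp this)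
      have hγo : γ ∈ orbit ↥N α := ⟨g, rfl⟩
      have hA : Nat.card (fixedPoints C (orbit ↥N α)) = 2 := by
        have hset : (fixedPoints C (orbit ↥N α)) = {⟨α, mem_orbit_self α⟩, ⟨γ, hγo⟩} := by
          ext z
          rw [hfixC, Set.mem_insert_iff, Set.mem_singleton_iff, Subtype.ext_iff, Subtype.ext_iff]
          constructor
          · intro hz; exact fix_two hfix hi1 hγα.symm hiα hiγ hz
          · rintro (h | h) <;> rw [h] <;> assumption
        rw [Nat.card_coe_set_eq, hset, Set.ncard_pair]
        intro h; exact hγα (congrArg Subtype.val h).symm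
      have hB : Nat.card (fixedPoints C (orbit ↥N β)) = 0 := by
        rw [Nat.card_coe_set_eq, Set.ncard_eq_zero, Set.eq_empty_iff_forall_notMem]
        intro z hz
        rw [hfixC] at hz
        have hz2 : (z : Ω) ∈ orbit ↥N α := by
          rcases fix_two hfix hi1 hγα.symm hiα hiγ hz with h | h
          · rw [h]; exact mem_orbit_self α
          · rw [h]; exact hγo
        have h1 : orbit ↥N (z : Ω) = orbit ↥N α := orbit_eq_iff.mpr hz2
        have h2 : orbit ↥N (z : Ω) = orbit ↥N β := orbit_eq_iff.mpr z.2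
        exact hβnot (by rw [← h1, h2]; exact mem_orbit_self β)
      have hcard : Nat.card (orbit ↥N β) = Nat.card (orbit ↥N α) := by
        rw [Nat.card_coe_set_eq, Nat.card_coe_set_eq]
        have : orbit ↥N β = (fun ω => u • ω) '' orbit ↥N α := by
          ext z
          constructor
          · rintro ⟨n, rfl⟩
            refine ⟨(u⁻¹ * (n : G) * u) • α, ⟨⟨u⁻¹ * (n : G) * u, ?_⟩, rfl⟩, ?_⟩
            · simpa using Subgroup.Normal.conj_mem (H := N) inferInstance _ n.2 u⁻¹
            · show u • _ = (n : G) • β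
              rw [mul_smul, mul_smul, huα, smul_inv_smul]
          · rintro ⟨_, ⟨n, rfl⟩, rfl⟩
            refine ⟨⟨u * (n : G) * u⁻¹, Subgroup.Normal.conj_mem inferInstance _ n.2 u⟩, ?_⟩
            show (u * (n : G) * u⁻¹) • β = u • ((n : G) • α)
            rw [← huα, mul_smul, mul_smul, inv_smul_smul]
        rw [this, Set.ncard_image_of_injective _ (MulAction.injective u)]
      have m1 := hCp.card_modEq_card_fixedPoints (orbit ↥N α)
      have m2 := hCp.card_modEq_card_fixedPoints (orbit ↥N β)
      rw [hA] at m1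
      rw [hB, hcard] at m2
      have h20 : 2 ≡ 0 [MOD r] := m1.symm.trans m2
      have := (Nat.modEq_zero_iff_dvd).mp h20
      exact hr2 ((Nat.prime_dvd_prime_iff_eq hr Nat.prime_two).mp this)


end

end Cfsg.Agent.S3390

namespace Cfsg.Agent.S3390

/-- Let G be a finite group acting faithfully and transitively on a finite set Ω with fixity 2 (every non-identity element fixes at most two points, and some fixes exactly two). Let α ∈ Ω and S a Sylow 2-subgroup of G. Then one of the following holds: the stabilizer S_α of α in S is trivial; S is dihedral or semidihedral and either |S_α| = 2 or |S : S_α| = 2; |S| ≥ 4, S has exactly one orbit of size 2 on Ω, every other S-orbit is regular, and G has a normal subgroup of index 2 or of index |S| which is a Frobenius group; or S ≤ G_α. -/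
theorem result {G : Type*} [Group G] [Finite G] {Ω : Type*} [Fintype Ω] [MulAction G Ω] [FaithfulSMul G Ω] (htr : MulAction.IsPretransitive G Ω)
    (hfix : ∀ g : G, g ≠ 1 → Nat.card (MulAction.fixedBy Ω g) ≤ 2) (hex : ∃ g : G, g ≠ 1 ∧ Nat.card (MulAction.fixedBy Ω g) = 2) (α : Ω) (S : Sylow 2 G) :
    (S : Subgroup G) ⊓ MulAction.stabilizer G α = ⊥ ∨
    (((∃ n : ℕ, Nonempty (↥(S : Subgroup G) ≃* DihedralGroup n)) ∨ Cfsg.IsQuasiDihedral ↥(S : Subgroup G)) ∧
       (Nat.card ↥((S : Subgroup G) ⊓ MulAction.stabilizer G α) = 2 ∨ ((S : Subgroup G) ⊓ MulAction.stabilizer G α).relIndex (S : Subgroup G) = 2)) ∨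
    (4 ≤ Nat.card (S : Subgroup G) ∧
       (∃ ω : Ω, Nat.card (MulAction.orbit ↥(S : Subgroup G) ω) = 2 ∧
          ∀ ω' : Ω, ω' ∉ MulAction.orbit ↥(S : Subgroup G) ω → Nat.card (MulAction.orbit ↥(S : Subgroup G) ω') = Nat.card (S : Subgroup G)) ∧
       ∃ N : Subgroup G, N.Normal ∧ (N.index = 2 ∨ N.index = Nat.card (S : Subgroup G)) ∧ (∃ H : Subgroup ↥N, Cfsg.IsFrobeniusComplement H)) ∨
    (S : Subgroup G) ≤ MulAction.stabilizer G α := by
  classical
  haveI : Fact (Nat.Prime 2) := ⟨Nat.prime_two⟩
  set P : Subgroup G := (S : Subgroup G) with hP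
  have hPp : IsPGroup 2 P := S.isPGroup'
  set T : Subgroup G := P ⊓ MulAction.stabilizer G α with hT
  by_cases hT1 : T = ⊥
  · exact Or.inl hT1
  by_cases hTP : P ≤ MulAction.stabilizer G α
  · exact Or.inr (Or.inr (Or.inr hTP))
  right
  have hfix_two : ∀ {x : G}, x ≠ 1 → ∀ {a b c : Ω}, a ≠ b → x • a = a → x • b = b → x • c = c →
      c = a ∨ c = b := fun {x} hx {a b c} hab ha hb hc => fix_two hfix hx hab ha hb hc
  have hTle : T ≤ P := inf_le_left
  have hTmem : ∀ x, x ∈ T ↔ x ∈ P ∧ x • α = α := fun x => by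
    rw [hT, Subgroup.mem_inf, MulAction.mem_stabilizer_iff]
  obtain ⟨t, htT, ht1⟩ := (Subgroup.bot_or_exists_ne_one T).resolve_left hT1
  -- elements of `P` normalising a subgroup
  let NP : Subgroup G → Subgroup G := fun X => P ⊓ Subgroup.normalizer (X : Set G)
  have hgrow : ∀ X : Subgroup G, X ≤ P → ¬ P ≤ X →
      ∃ v ∈ P, v ∉ X ∧ v ∈ Subgroup.normalizer (X : Set G) := by
    intro X hX hne
    haveI : Group.IsNilpotent P := hPp.isNilpotent
    have hlt : X.subgroupOf P < ⊤ := lt_top_iff_ne_top.mpr (by rwa [Ne, Subgroup.subgroupOf_eq_top])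
    have := Group.normalizerCondition_of_isNilpotent (X.subgroupOf P) hlt
    obtain ⟨v, hv, hv'⟩ := SetLike.exists_of_lt this
    refine ⟨v, v.2, hv', ?_⟩
    rw [Subgroup.mem_normalizer_iff]
    intro x
    constructor
    · intro hx
      have := (Subgroup.mem_normalizer_iff.mp hv ⟨x, hX hx⟩).mp hx
      exact this
    · intro hx
      have hxP : x ∈ P := by
        have h := mul_mem (mul_mem (inv_mem v.2) (hX hx)) v.2
        simpa [mul_assoc] using h
      exact (Subgroup.mem_normalizer_iff.mp hv ⟨x, hxP⟩).mpr hx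
  obtain ⟨u, huP, huT, huN⟩ := hgrow T hTle (fun h => hTP (h.trans inf_le_right))
  set β : Ω := u • α with hβ
  have hαβ : α ≠ β := fun h => huT ((hTmem u).mpr ⟨huP, h.symm⟩)
  have hmoved : ∀ v, v ∈ Subgroup.normalizer (T : Set G) → ∀ s ∈ T, s • (v • α) = v • α := by
    intro v hv s hs
    have h1 : v⁻¹ * s * v ∈ T := by
      have h := (Subgroup.mem_normalizer_iff.mp (inv_mem hv) s).mp hs
      simpa using h
    have := ((hTmem _).mp h1).2
    rwa [mul_smul, mul_smul, inv_smul_eq_iff] at this
  have hTβ : ∀ s ∈ T, s • β = β := hmoved u huN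
  have hor : ∀ v, v ∈ Subgroup.normalizer (T : Set G) → v • α = α ∨ v • α = β := fun v hv =>
    hfix_two ht1 hαβ ((hTmem t).mp htT).2 (hTβ t htT) (hmoved v hv t htT)
  set N : Subgroup G := P ⊓ Subgroup.normalizer (T : Set G) with hN
  have hTN : T ≤ N := le_inf hTle Subgroup.le_normalizer
  have huN' : u ∈ N := ⟨huP, huN⟩
  have hNcases : ∀ v ∈ N, v ∈ T ∨ u⁻¹ * v ∈ T := by
    intro v hv
    rcases hor v hv.2 with h | h
    · exact Or.inl ((hTmem v).mpr ⟨hv.1, h⟩)
    · refine Or.inr ((hTmem _).mpr ⟨mul_mem (inv_mem huP) hv.1, ?_⟩)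
      rw [mul_smul, h, hβ, inv_smul_smul]
  have hNidx : T.relIndex N = 2 := by
    rw [Subgroup.relIndex, Subgroup.index_eq_two_iff']
    refine ⟨⟨u, huN'⟩⁻¹, fun b => ?_⟩
    rw [Subgroup.mem_subgroupOf, Subgroup.mem_subgroupOf]
    rcases hNcases b b.2 with h | h
    · refine Or.inr ⟨h, fun h' => huT ?_⟩
      have := mul_mem h' (inv_mem h)
      simpa using this
    · refine Or.inl ⟨h, fun h' => huT ?_⟩
      have := mul_mem h' (inv_mem h)
      simpa [mul_assoc] using this
  obtain ⟨a, ha⟩ := IsPGroup.iff_card.mp (hPp.to_le hTle)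
  have ha0 : a ≠ 0 := by
    rintro rfl
    exact hT1 (Subgroup.eq_bot_of_card_eq _ (by rw [ha, pow_zero]))
  have hNcard : Nat.card N = Nat.card T * 2 := by
    rw [← Subgroup.relIndex_bot_left N, ← Subgroup.relIndex_mul_relIndex ⊥ T N bot_le hTN, hNidx,
      Subgroup.relIndex_bot_left]
  by_cases hidx : T.relIndex P = 2
  · -- `P` has an orbit `{α, β}`
    have hPN : N = P := by
      apply Subgroup.eq_of_le_of_card_ge inf_le_left
      rw [hNcard, ← Subgroup.relIndex_bot_left P, ← Subgroup.relIndex_mul_relIndex ⊥ T P bot_le hTle,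
        hidx, Subgroup.relIndex_bot_left]
    have hPmem : ∀ x ∈ P, x ∈ N := fun x hx => by rw [hPN]; exact hx
    by_cases hB : ∃ v ∈ P, v ≠ 1 ∧ ∃ ω : Ω, ω ≠ α ∧ ω ≠ β ∧ v • ω = ω
    · obtain ⟨v, hvP, hv1, ω, hωα, hωβ, hvω⟩ := hB
      have honly : ∀ s ∈ T, s • ω = ω → s = 1 := by
        intro s hs hsω
        by_contra h
        rcases hfix_two h hαβ ((hTmem s).mp hs).2 (hTβ s hs) hsω with h' | h'
        · exact hωα h'
        · exact hωβ h'
      have hvT : v ∉ T := fun h => hv1 (honly v h hvω)
      have hsq : ∀ w ∈ P, w ∉ T → w * w ∈ T := by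
        intro w hw hwT
        have h := Subgroup.mul_self_mem_of_index_two (show (T.subgroupOf P).index = 2 from hidx) ⟨w, hw⟩
        exact h
      have hvv : v * v = 1 := honly _ (hsq v hvP hvT) (by rw [mul_smul, hvω, hvω])
      set V : P := ⟨v, hvP⟩ with hV
      have hVord : orderOf V = 2 := orderOf_eq_prime (by rw [pow_two]; exact Subtype.ext hvv)
        (fun h => hv1 (congrArg Subtype.val h))
      set C := Subgroup.centralizer ({V} : Set P) with hC
      set T' := T.subgroupOf P with hT'
      have hCT : ∀ w : P, w ∈ C → w ∈ T' → (w : G) • ω ∈ MulAction.fixedBy Ω v := by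
        intro w hw _
        have h1 := congrArg Subtype.val (Subgroup.mem_centralizer_singleton_iff.mp hw)
        simp only [Subgroup.coe_mul, hV] at h1
        show v • ((w : G) • ω) = (w : G) • ω
        rw [← mul_smul, ← h1, mul_smul, hvω]
      have hCT2 : Nat.card ↥(C ⊓ T' : Subgroup P) ≤ 2 := by
        refine le_trans ?_ (hfix v hv1)
        refine Nat.card_le_card_of_injective
          (fun w : ↥(C ⊓ T' : Subgroup P) => (⟨((w : P) : G) • ω, hCT w w.2.1 w.2.2⟩ :
            MulAction.fixedBy Ω v)) ?_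
        intro x y hxy
        have h := congrArg Subtype.val hxy
        simp only at h
        have h1 : ((y : P) : G)⁻¹ * ((x : P) : G) = 1 :=
          honly _ (mul_mem (inv_mem y.2.2) x.2.2) (by rw [mul_smul, h, inv_smul_smul])
        exact Subtype.ext (Subtype.ext (inv_mul_eq_one.mp h1).symm)
      have hC4 : Nat.card C ≤ 4 := by
        have h1 : (C ⊓ T').relIndex C ≤ 2 := by
          rw [Subgroup.inf_relIndex_left]
          have h2 : T'.index = 2 := hidx
          haveI : T'.Normal := Subgroup.normal_of_index_eq_two h2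
          exact Nat.le_of_dvd two_pos (h2 ▸ Subgroup.relIndex_dvd_index_of_normal T' C)
        have h3 := Subgroup.relIndex_mul_relIndex ⊥ (C ⊓ T') C bot_le inf_le_left
        rw [Subgroup.relIndex_bot_left, Subgroup.relIndex_bot_left] at h3
        rw [← h3]
        exact Nat.mul_le_mul hCT2 h1
      obtain ⟨b, hb⟩ := IsPGroup.iff_card.mp (hPp.to_subgroup C)
      have hP4 : 4 ≤ Nat.card P := by
        have h1 : Nat.card P = Nat.card T * 2 := by rw [← hPN]; exact hNcard
        have : 2 ≤ 2 ^ a := Nat.le_self_pow ha0 2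
        omega
      have hCeq : Nat.card C = 4 := by
        refine le_antisymm hC4 ?_
        by_contra hlt
        have hb1 : b ≤ 1 := by
          by_contra h
          have : 2 ^ 2 ≤ 2 ^ b := Nat.pow_le_pow_right two_pos (by omega)
          omega
        have hVC : Subgroup.zpowers V ≤ C :=
          Subgroup.zpowers_le.mpr (Subgroup.mem_centralizer_singleton_iff.mpr rfl)
        have hCz : C = Subgroup.zpowers V := (Subgroup.eq_of_le_of_card_ge hVC (by
          rw [Nat.card_zpowers, hVord, hb]
          exact le_trans (Nat.pow_le_pow_right two_pos hb1) le_rfl)).symm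
        haveI : Nontrivial P := ⟨V, 1, fun h => hv1 (congrArg Subtype.val h)⟩
        haveI := hPp.center_nontrivial
        obtain ⟨c, hc⟩ := exists_ne (1 : Subgroup.center P)
        have hcC : (c : P) ∈ Subgroup.zpowers V := hCz ▸
          Subgroup.mem_centralizer_singleton_iff.mpr (Subgroup.mem_center_iff.mp c.2 V).symm
        have hVc : V = c := by
          haveI : Fact (Nat.Prime 2) := ⟨Nat.prime_two⟩
          have hle : Subgroup.zpowers (c : P) ≤ Subgroup.zpowers V := Subgroup.zpowers_le.mpr hcC
          have heq : Subgroup.zpowers (c : P) = Subgroup.zpowers V := by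
            refine Subgroup.eq_of_le_of_card_ge hle ?_
            rw [Nat.card_zpowers, Nat.card_zpowers, hVord]
            have h1 : orderOf (c : P) ≠ 1 := fun h => hc (Subtype.ext (orderOf_eq_one_iff.mp h))
            have h2 := orderOf_pos (c : P)
            omega
          obtain ⟨k, hk⟩ := Subgroup.mem_zpowers_iff.mp hcC
          rw [← zpow_mod_orderOf, hVord] at hk
          rcases Int.emod_two_eq_zero_or_one k with h | h <;> simp [h] at hk
          · exact absurd (Subtype.ext hk.symm) hc
          · exact hk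
        have htop : C = ⊤ := eq_top_iff.mpr fun g _ =>
          Subgroup.mem_centralizer_singleton_iff.mpr (by rw [hVc]; exact Subgroup.mem_center_iff.mp c.2 g)
        rw [htop, Subgroup.card_top] at hlt
        exact hlt hP4
      left
      refine ⟨?_, Or.inr hidx⟩
      rcases Cfsg.Agent.Lib.MaxClass.hasReflection_or_card_eq_four _ P rfl hPp V hVord hCeq with h | h
      · exact Cfsg.Agent.Lib.MaxClass.eq_dihedral_or_quasi
          (Subtype.ext hvv : V * V = 1) h
      · left
        have hT2 : Nat.card T = 2 := by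
          have : Nat.card P = Nat.card T * 2 := by rw [← hPN]; exact hNcard
          omega
        have hexp : ∀ w : P, w * w = 1 := by
          have htt : t * t = 1 := by
            have h1 : (⟨t, htT⟩ : T) ^ Nat.card T = 1 := pow_card_eq_one'
            rw [hT2, pow_two] at h1
            exact congrArg Subtype.val h1
          intro w
          have htop : C = ⊤ := Subgroup.eq_top_of_card_eq C (hCeq.trans h.symm)
          have hwC : w ∈ C := by rw [htop]; exact Subgroup.mem_top w
          have hcomm : Commute (w : G) v := congrArg Subtype.val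
            (Subgroup.mem_centralizer_singleton_iff.mp hwC)
          have hTel : ∀ s ∈ T, s * s = 1 := by
            intro s hs
            have h1 : (⟨s, hs⟩ : T) ^ Nat.card T = 1 := pow_card_eq_one'
            rw [hT2, pow_two] at h1
            exact congrArg Subtype.val h1
          apply Subtype.ext
          show (w : G) * w = 1
          by_cases hw : (w : G) ∈ T
          · exact hTel _ hw
          · have h1 : v * (w : G) ∈ T :=
              (Subgroup.mul_mem_iff_of_index_two (show (T.subgroupOf P).index = 2 from hidx)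
                (a := V) (b := w)).mpr ⟨fun h => absurd h hvT, fun h => absurd h hw⟩
            have h2 := hTel _ h1
            calc (w : G) * w = v * v * ((w : G) * w) := by rw [hvv, one_mul]
              _ = v * w * (v * w) := by
                rw [mul_assoc v (w : G), ← mul_assoc (w : G) v, hcomm.eq]; simp only [mul_assoc]
              _ = 1 := h2
        haveI : IsKleinFour P := ⟨h, by
          haveI : Nontrivial P := ⟨V, 1, fun h => hv1 (congrArg Subtype.val h)⟩
          exact (Monoid.exponent_eq_prime_iff Nat.prime_two).mpr fun g hg =>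
            orderOf_eq_prime (by rw [pow_two, hexp]) hg⟩
        exact ⟨2, IsKleinFour.nonempty_mulEquiv⟩
    · -- all other orbits are regular
      push Not at hB
      right; left
      have hstab : ∀ ω : Ω, ω ≠ α → ω ≠ β → MulAction.stabilizer ↥P ω = ⊥ := by
        intro ω hα hβ'
        rw [Subgroup.eq_bot_iff_forall]
        intro v hv
        by_contra h
        exact hB v v.2 (fun h' => h (Subtype.ext h')) ω hα hβ' (MulAction.mem_stabilizer_iff.mp hv)
      have huu : u • β = α := by
        rcases hor (u * u) (mul_mem huN huN) with h | h <;> rw [mul_smul, ← hβ] at h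
        · exact h
        · exact absurd (smul_left_cancel u (h.trans hβ)).symm hαβ
      have horb : MulAction.orbit ↥P α = {α, β} := by
        ext z
        constructor
        · rintro ⟨v, rfl⟩
          have := hor v (hPmem v v.2).2
          simpa [Subgroup.smul_def] using this
        · intro hz
          rcases hz with rfl | rfl
          · exact MulAction.mem_orbit_self _
          · exact ⟨⟨u, huP⟩, rfl⟩
      have hP4 : 4 ≤ Nat.card P := by
        have h1 : Nat.card P = Nat.card T * 2 := by rw [← hPN]; exact hNcard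
        have : 2 ≤ 2 ^ a := Nat.le_self_pow ha0 2
        omega
      refine ⟨hP4, ⟨α, ?_, ?_⟩, ?_⟩
      · rw [horb, Nat.card_coe_set_eq, Set.ncard_pair hαβ]
      · intro ω hω
        rw [horb] at hω
        simp only [Set.mem_insert_iff, Set.mem_singleton_iff, not_or] at hω
        have h := MulAction.index_stabilizer ↥P ω
        rw [hstab ω hω.1 hω.2, Subgroup.index_bot] at h
        rw [Nat.card_coe_set_eq, ← h]
      · obtain ⟨M, hM, hM2, hTM, hMP, hfree⟩ := exists_index_two (Ω := Ω) S T hTle hidx (by
          intro x hx hxT ω hω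
          by_cases h1 : ω = α
          · subst h1; exact hxT ((hTmem x).mpr ⟨hx, hω⟩)
          by_cases h2 : ω = β
          · subst h2
            rcases hor x (hPmem x hx).2 with h | h
            · exact hxT ((hTmem x).mpr ⟨hx, h⟩)
            · exact hαβ (smul_left_cancel x (h.trans hω.symm))
          exact hB x hx (fun h => hxT (h ▸ one_mem _)) ω h1 h2 hω) (fun x hx => ⟨α, ((hTmem x).mp hx).2⟩)
        haveI := hM
        exact ⟨M, hM, Or.inl hM2, frobenius_of_index_two S α β hαβ u hβ.symm hfix htr hT1 hTβ M hM2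
          (fun h => huT (hMP u huP h)) hTM hMP hfree⟩
  · -- the orbit of `α` is longer
    left
    have hT2 : Nat.card T = 2 := by
      by_contra hne
      apply hidx
      have hPle : P ≤ N := by
        by_contra hnot
        obtain ⟨v, hvP, hvN, hvn⟩ := hgrow N inf_le_left hnot
        apply hvN
        refine ⟨hvP, ?_⟩
        have hconjN : ∀ x ∈ T, v * x * v⁻¹ ∈ N := fun x hx =>
          (Subgroup.mem_normalizer_iff.mp hvn x).mp (hTN hx)
        -- a nontrivial common element
        have hcom : ∃ x ∈ T, x ≠ 1 ∧ v * x * v⁻¹ ∈ T := by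
          by_contra hcon
          push Not at hcon
          let f : T → N := fun x => ⟨v * x * v⁻¹, hconjN x x.2⟩
          have hout : ∀ x : T, (x : G) ≠ 1 → u⁻¹ * (v * x * v⁻¹) ∈ T := fun x hx =>
            (hNcases _ (f x).2).resolve_left (hcon x x.2 hx)
          have h4 : 2 < Nat.card T := by
            have : 2 ≤ 2 ^ a := Nat.le_self_pow ha0 2
            omega
          obtain ⟨x, hx, y, hy, hxy⟩ : ∃ x : T, (x : G) ≠ 1 ∧ ∃ y : T, (y : G) ≠ 1 ∧ x ≠ y := by
            haveI := Fintype.ofFinite T
            rw [Nat.card_eq_fintype_card] at h4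
            obtain ⟨x, y, z, hxy, hxz, hyz⟩ := Fintype.two_lt_card_iff.mp h4
            by_cases hx : (x : G) = 1
            · exact ⟨y, fun h => hxy (Subtype.ext (hx.trans h.symm)), z,
                fun h => hxz (Subtype.ext (hx.trans h.symm)), hyz⟩
            by_cases hy : (y : G) = 1
            · exact ⟨x, hx, z, fun h => hyz (Subtype.ext (hy.trans h.symm)), hxz⟩
            exact ⟨x, hx, y, hy, hxy⟩
          have h1 := mul_mem (inv_mem (hout x hx)) (hout y hy)
          have h2 : v * ((x : G)⁻¹ * y) * v⁻¹ ∈ T := by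
            have e : v * ((x : G)⁻¹ * y) * v⁻¹ = (u⁻¹ * (v * x * v⁻¹))⁻¹ * (u⁻¹ * (v * y * v⁻¹)) := by
              group
            rw [e]; exact h1
          exact hcon _ (mul_mem (inv_mem x.2) y.2)
            (fun h => hxy (Subtype.ext (inv_mul_eq_one.mp h))) h2
        obtain ⟨x, hxT, hx1, hxv⟩ := hcom
        set s := v * x * v⁻¹ with hs
        have hs1 : s ≠ 1 := fun h => hx1 (conj_eq_one_iff.mp h)
        have hsva : s • (v • α) = v • α := by
          rw [hs, mul_smul, mul_smul, inv_smul_smul, ((hTmem x).mp hxT).2]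
        have hsvb : s • (v • β) = v • β := by
          rw [hs, mul_smul, mul_smul, inv_smul_smul, hTβ x hxT]
        have ca := hfix_two hs1 hαβ ((hTmem s).mp hxv).2 (hTβ s hxv) hsva
        have cb := hfix_two hs1 hαβ ((hTmem s).mp hxv).2 (hTβ s hxv) hsvb
        have hne' : v • α ≠ v • β := fun h => hαβ (smul_left_cancel v h)
        have hfixα : ∀ y ∈ T, (v * y * v⁻¹) • α = α := by
          intro y hy
          have hya : (v * y * v⁻¹) • (v • α) = v • α := by
            rw [mul_smul, mul_smul, inv_smul_smul, ((hTmem y).mp hy).2]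
          have hyb : (v * y * v⁻¹) • (v • β) = v • β := by
            rw [mul_smul, mul_smul, inv_smul_smul, hTβ y hy]
          rcases ca with h | h
          · rwa [h] at hya
          · rcases cb with h' | h'
            · rwa [h'] at hyb
            · exact absurd (h.trans h'.symm) hne'
        exact Subgroup.mem_normalizer_fintype fun y hy =>
          (hTmem _).mpr ⟨mul_mem (mul_mem hvP (hTle hy)) (inv_mem hvP), hfixα y hy⟩
      rw [show N = P from le_antisymm inf_le_left hPle] at hNidx
      exact hNidx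
    refine ⟨?_, Or.inl hT2⟩
    have htt : orderOf (⟨t, hTle htT⟩ : P) = 2 := by
      refine orderOf_eq_prime ?_ (fun h => ht1 (congrArg Subtype.val h))
      have h1 : (⟨t, htT⟩ : T) ^ Nat.card T = 1 := pow_card_eq_one'
      rw [hT2] at h1
      exact Subtype.ext (show t ^ 2 = 1 by simpa using congrArg Subtype.val h1)
    have hTel : ∀ s ∈ T, s = 1 ∨ s = t := by
      intro s hs
      by_contra h
      rw [not_or] at h
      haveI := Fintype.ofFinite T
      rw [Nat.card_eq_fintype_card] at hT2
      have := Fintype.two_lt_card_iff.mpr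
        ⟨(1 : T), (⟨s, hs⟩ : T), (⟨t, htT⟩ : T),
          fun e => h.1 (congrArg Subtype.val e).symm, fun e => ht1 (congrArg Subtype.val e).symm,
          fun e => h.2 (congrArg Subtype.val e)⟩
      omega
    have hC : Nat.card (Subgroup.centralizer ({⟨t, hTle htT⟩} : Set P)) = 4 := by
      have heq : Subgroup.centralizer ({⟨t, hTle htT⟩} : Set P) = N.subgroupOf P := by
        ext w
        rw [Subgroup.mem_centralizer_singleton_iff, Subgroup.mem_subgroupOf]
        constructor
        · intro hw
          have hw' : (w : G) * t = t * w := congrArg Subtype.val hw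
          refine ⟨w.2, Subgroup.mem_normalizer_fintype fun s hs => ?_⟩
          rcases hTel s hs with rfl | rfl
          · simp [T.one_mem]
          · rw [hw', mul_inv_cancel_right]; exact htT
        · intro hw
          apply Subtype.ext
          show (w : G) * t = t * w
          have h1 := (Subgroup.mem_normalizer_iff.mp hw.2 t).mp htT
          rcases hTel _ h1 with h | h
          · exact absurd (conj_eq_one_iff.mp h) ht1
          · exact mul_inv_eq_iff_eq_mul.mp h
      rw [heq, Nat.card_congr (Subgroup.subgroupOfEquivOfLe (inf_le_left : N ≤ P)).toEquiv, hNcard, hT2]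
    rcases Cfsg.Agent.Lib.MaxClass.hasReflection_or_card_eq_four _ P rfl hPp _ htt hC with h | h
    · refine Cfsg.Agent.Lib.MaxClass.eq_dihedral_or_quasi ?_ h
      rw [← pow_two, ← htt]; exact pow_orderOf_eq_one _
    · exfalso
      apply hidx
      have := Subgroup.relIndex_mul_relIndex ⊥ T P bot_le hTle
      rw [Subgroup.relIndex_bot_left, Subgroup.relIndex_bot_left, hT2, h] at this
      omega

end Cfsg.Agent.S3390
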