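import Cfsg.Statements.S3391
import Mathlib
import Cfsg.Agent.Lib.SuzukiSolv.Count
import Cfsg.Agent.Lib.SuzukiSp4.Iso

set_option autoImplicit false
open Cfsg

namespace Cfsg.Agent.S3391

open Cfsg.Agent.Lib Cfsg.Agent.Lib.Suzuki Cfsg.Agent.Lib.SuzukiSubgroups Cfsg.Agent.Lib.SuzukiSolv MulAction

section
variable {F : Type*} [Field F] [Fintype F] {m : ℕ} (h : Hyp F m) {X : Type*} [MulAction (Cfsg.Sz F m) X] [Finite X]
include h

theorem moved_le {c : Cfsg.Sz F m} (hc : Nat.card (fixedBy X c) ≤ 2) (α : X) (K : Subgroup (Cfsg.Sz F m))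
    (Y : Finset (Cfsg.Sz F m)) (hYK : ∀ y ∈ Y, y ∈ K) (hY : ∀ y ∈ Y, (y⁻¹ * c * y) • α = α) :
    Y.card ≤ 2 * Nat.card ↥(K ⊓ stabilizer (Cfsg.Sz F m) α) := by
  classical
  have := SuzukiSylow.finite_Sz h
  let _ : Fintype (Cfsg.Sz F m) := Fintype.ofFinite _
  let I := Y.image (fun y => y • α)
  have hI : I.card ≤ 2 := by
    refine le_trans ?_ hc
    rw [← Nat.card_eq_finsetCard I]
    refine Nat.card_le_card_of_injective (fun p => ⟨p.1, ?_⟩) fun p p' e => by
      exact Subtype.ext (congrArg Subtype.val e :)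
    obtain ⟨y, hy, e⟩ := Finset.mem_image.1 p.2
    show c • p.1 = p.1
    have := hY y hy
    rw [mul_smul, mul_smul, inv_smul_eq_iff] at this
    rw [← e, this]
  refine le_trans (Finset.card_le_mul_card_image_of_maps_to (f := fun y => y • α) (s := Y) (t := I)
    (fun y hy => Finset.mem_image_of_mem _ hy) (Nat.card ↥(K ⊓ stabilizer (Cfsg.Sz F m) α)) ?_) ?_
  · intro p hp
    rcases (Y.filter fun y => y • α = p).eq_empty_or_nonempty with e | ⟨y₀, hy₀⟩
    · simp [e]
    rw [Nat.card_eq_fintype_card, Fintype.card_subtype]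
    refine Finset.card_le_card_of_injOn (fun y => y₀⁻¹ * y) ?_ fun _ _ _ _ e => mul_left_cancel e
    intro y hy
    simp only [Finset.coe_filter, Set.mem_setOf_eq, Finset.mem_filter] at hy hy₀
    simp only [Finset.coe_filter, Set.mem_setOf_eq, Finset.mem_univ, true_and, Subgroup.mem_inf,
      mem_stabilizer_iff]
    exact ⟨K.mul_mem (K.inv_mem (hYK _ hy₀.1)) (hYK _ hy.1), by rw [mul_smul, inv_smul_eq_iff, hy.2, hy₀.2]⟩
  · rw [mul_comm]; exact Nat.mul_le_mul_right _ hI

theorem stab_cases (htr : IsPretransitive (Cfsg.Sz F m) X)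
    (hfix : ∀ g : Cfsg.Sz F m, g ≠ 1 → Nat.card (fixedBy X g) ≤ 2)
    (hex : ∃ g : Cfsg.Sz F m, g ≠ 1 ∧ Nat.card (fixedBy X g) = 2) (α : X) :
    (∃ p : Cfsg.suzukiOvoid F m, stabilizer (Cfsg.Sz F m) α = stabilizer (Cfsg.Sz F m) p) ∨
      Nat.card (stabilizer (Cfsg.Sz F m) α) = Fintype.card F - 1 := by
  classical
  have := SuzukiSylow.finite_Sz h
  have := Fact.mk Nat.prime_two
  let _ : Fintype (Cfsg.Sz F m) := Fintype.ofFinite _
  set H := stabilizer (Cfsg.Sz F m) α with hH
  obtain ⟨h8, h4, hr, -⟩ := numbers h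
  have hne : H ≠ ⊥ := by
    obtain ⟨g, hg, hg2⟩ := hex
    intro e
    have : Nonempty (fixedBy X g) := (Nat.card_pos_iff.1 (by rw [hg2]; norm_num)).1
    obtain ⟨β, hβ⟩ := this
    obtain ⟨k, rfl⟩ := exists_smul_eq (Cfsg.Sz F m) α β
    have : k⁻¹ * g * k ∈ H := by
      rw [hH, mem_stabilizer_iff, mul_smul, mul_smul, show g • k • α = k • α from hβ, inv_smul_smul]
    rw [e, Subgroup.mem_bot] at this
    exact hg (by
      calc g = k * (k⁻¹ * g * k) * k⁻¹ := by group
        _ = 1 := by rw [this]; group)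
  have hHtop : H ≠ ⊤ := by
    intro e
    obtain ⟨g, hg, hg2⟩ := hex
    have hall : ∀ β : X, β = α := fun β => by
      obtain ⟨k, rfl⟩ := exists_smul_eq (Cfsg.Sz F m) α β
      exact (e ▸ Subgroup.mem_top k : k ∈ H)
    have hle : Nat.card (fixedBy X g) ≤ 1 :=
      Finite.card_le_one_iff_subsingleton.2 ⟨fun a b => Subtype.ext ((hall a.1).trans (hall b.1).symm)⟩
    omega
  by_cases h2 : 2 ∣ Nat.card H
  · left
    obtain ⟨t, ht⟩ := exists_prime_orderOf_dvd_card' 2 h2
    have ht' : orderOf (t : Cfsg.Sz F m) = 2 := by rw [Subgroup.orderOf_coe, ht]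
    have ht0 : (t : Cfsg.Sz F m) * t = 1 ∧ (t : Cfsg.Sz F m) ≠ 1 := by
      rw [← sq]; exact orderOf_eq_prime_iff.1 ht'
    obtain ⟨p, hp⟩ := invol_mem_transAt h ht0.1
    refine ⟨p, ?_⟩
    obtain ⟨k, rfl⟩ := exists_move h p
    rw [transAt_eq h rfl] at hp
    obtain ⟨t₀, hT₀, htk⟩ := hp
    change k * t₀ * k⁻¹ = t at htk
    obtain ⟨a, b, rfl⟩ := hT₀
    have ht₀2 : orderOf (szT h a b) = 2 := by
      rw [← ht', ← htk]; exact (MulEquiv.orderOf_eq (MulAut.conj k) _).symm
    obtain ⟨ha, hb⟩ := (szT_orders h a b).1.1 ht₀2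
    subst ha
    -- work with the point k⁻¹ • α
    set α' := k⁻¹ • α with hα'
    set H' := stabilizer (Cfsg.Sz F m) α' with hH'
    have hmem : ∀ y, y ∈ H' ↔ k * y * k⁻¹ ∈ H := by
      intro y
      rw [hH', hH, mem_stabilizer_iff, mem_stabilizer_iff, hα', mul_smul, mul_smul, ← eq_inv_smul_iff (g := k)]
    have htH : szT h 0 b ∈ H' := (hmem _).2 (htk ▸ t.2)
    have hb1 : szT h 0 b ≠ 1 := fun e => hb (szT_inj h (e.trans (szT_one h).symm)).2
    have hT : Nat.card (transl h) ≤ 2 * Nat.card ↥(transl h ⊓ H') := by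
      rw [Nat.card_eq_fintype_card, Fintype.card_subtype]
      refine moved_le h (hfix _ hb1) α' (transl h) _
        (fun y hy => (Finset.mem_filter.1 hy).2) fun y hy => ?_
      obtain ⟨c, d, rfl⟩ := (Finset.mem_filter.1 hy).2
      have e : szT h 0 b * szT h c d = szT h c d * szT h 0 b := by
        rw [szT_mul, szT_mul]
        simp [theta_zero, add_comm b d]
      rw [mul_assoc, e, inv_mul_cancel_left]
      exact mem_stabilizer_iff.1 htH
    set Z₁ := Finset.univ.filter fun x : F => x ≠ 0 ∧ szT h 0 x ∈ H' with hZ₁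
    set B := stabilizer (Cfsg.Sz F m) (ovInf F m) with hB
    -- the central involutions in the point stabiliser
    have hZ : Fintype.card F ≤ 2 * (Z₁.card + 1) := by
      let Zc : AddSubgroup F :=
        { carrier := {x | szT h 0 x ∈ H'}
          zero_mem' := by show szT h 0 0 ∈ H'; rw [szT_one]; exact H'.one_mem
          add_mem' := fun {x y} hx hy => by
            have := H'.mul_mem hx hy
            rw [szT_mul] at this
            show szT h 0 (x + y) ∈ H'
            simpa [theta_zero] using this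
          neg_mem' := fun {x} hx => by
            have := h.charP
            rw [CharTwo.neg_eq]; exact hx }
      let j : Multiplicative F →* transl h :=
        { toFun := fun x => ⟨szT h 0 (Multiplicative.toAdd x), szT_mem_transl h _ _⟩
          map_one' := Subtype.ext (szT_one h)
          map_mul' := fun x y => Subtype.ext (by
            show _ = szT h 0 _ * szT h 0 _
            rw [szT_mul]; simp [theta_zero]) }
      have hidx : (H'.subgroupOf (transl h)).index ≤ 2 := by
        have h1 := Subgroup.card_mul_index (H'.subgroupOf (transl h))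
        rw [show Nat.card ↥(H'.subgroupOf (transl h)) = Nat.card ↥(transl h ⊓ H') from
          Nat.card_congr
            { toFun := fun g => ⟨(g.1 : Cfsg.Sz F m), g.1.2, Subgroup.mem_subgroupOf.1 g.2⟩
              invFun := fun g => ⟨⟨g.1, g.2.1⟩, Subgroup.mem_subgroupOf.2 g.2.2⟩
              left_inv := fun _ => rfl
              right_inv := fun _ => rfl }] at h1
        have : 0 < Nat.card ↥(transl h ⊓ H') := Nat.card_pos
        rw [← h1] at hT
        nlinarith
      have hcom : ((H'.subgroupOf (transl h)).comap j).index ≤ 2 :=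
        le_trans (Nat.le_of_dvd (Nat.pos_of_ne_zero Subgroup.index_ne_zero_of_finite) (by
          rw [Subgroup.index_comap]
          rcases Nat.eq_zero_or_pos ((H'.subgroupOf (transl h)).index - 1) with e | e
          · have e1 : (H'.subgroupOf (transl h)).index = 1 := by
              have := Nat.pos_of_ne_zero (Subgroup.index_ne_zero_of_finite (H := H'.subgroupOf (transl h)))
              omega
            rw [Subgroup.index_eq_one.1 e1, Subgroup.relIndex_top_left, Subgroup.index_top]
          · have : (H'.subgroupOf (transl h)).index = 2 := by omega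
            have := Subgroup.normal_of_index_eq_two this
            exact Subgroup.relIndex_dvd_index_of_normal _ _)) hidx
      have hz := Subgroup.card_mul_index ((H'.subgroupOf (transl h)).comap j)
      rw [show Nat.card (Multiplicative F) = Fintype.card F from
        (Nat.card_congr Multiplicative.toAdd).trans Nat.card_eq_fintype_card] at hz
      have hcard : Nat.card ↥((H'.subgroupOf (transl h)).comap j) = Z₁.card + 1 := by
        rw [← Finset.card_insert_of_notMem (show (0 : F) ∉ Z₁ by simp [hZ₁]), ← Nat.card_eq_finsetCard]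
        refine Nat.card_congr (Equiv.subtypeEquiv Multiplicative.toAdd fun x => ?_)
        rw [Subgroup.mem_comap, Subgroup.mem_subgroupOf]
        simp only [Finset.mem_insert, hZ₁, Finset.mem_filter, Finset.mem_univ, true_and]
        constructor
        · intro hx
          rcases eq_or_ne (Multiplicative.toAdd x) 0 with e | e
          · exact Or.inl e
          · exact Or.inr ⟨e, hx⟩
        · rintro (e | ⟨-, hx⟩)
          · show szT h 0 (Multiplicative.toAdd x) ∈ H'
            rw [e, szT_one]; exact H'.one_mem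
          · exact hx
      rw [hcard] at hz
      rw [← hz, mul_comm]
      exact Nat.mul_le_mul_right _ hcom
    have hc : ∀ x ∈ Z₁, ∃ y ∈ B, y⁻¹ * szT h 0 b * y = szT h 0 x := by
      intro x hx
      simp only [hZ₁, Finset.mem_filter, Finset.mem_univ, true_and] at hx
      obtain ⟨c, hc⟩ := conj_invol_normal h 0 x rfl hx.1
      obtain ⟨d, hd⟩ := conj_invol_normal h 0 b rfl hb
      refine ⟨d⁻¹ * c, ?_, ?_⟩
      · have hfix1 : ∀ (e : Cfsg.Sz F m) (s : F), s ≠ 0 → e * szT h 0 s * e⁻¹ = szT h 0 1 →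
            e • ovInf F m = ovInf F m := fun e s hs he =>
          SuzukiSylow.smul_inf_of_conj h (fun e1 => hs (szT_inj h (e1.trans (szT_one h).symm)).2)
            (he ▸ szT_mem_transl h 0 1)
        rw [hB, mem_stabilizer_iff, mul_smul, hfix1 c x hx.1 hc, inv_smul_eq_iff, hfix1 d b hb hd]
      · rw [show (d⁻¹ * c)⁻¹ * szT h 0 b * (d⁻¹ * c) = c⁻¹ * (d * szT h 0 b * d⁻¹) * c by group, hd, ← hc]
        group
    choose! y hyB hy using hc
    have hBH : Nat.card (transl h) * Z₁.card ≤ 2 * Nat.card ↥(B ⊓ H') := by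
      rw [Nat.card_eq_fintype_card, Fintype.card_subtype, ← Finset.card_product]
      let Y := ((Finset.univ.filter fun u => u ∈ transl h) ×ˢ Z₁).image (fun uz => uz.1 * y uz.2)
      have hcomm : ∀ u ∈ transl h, u⁻¹ * szT h 0 b * u = szT h 0 b := by
        rintro _ ⟨c, d, rfl⟩
        have e : szT h 0 b * szT h c d = szT h c d * szT h 0 b := by
          rw [szT_mul, szT_mul]
          simp [theta_zero, add_comm b d]
        rw [mul_assoc, e, inv_mul_cancel_left]
      have hval : ∀ u ∈ transl h, ∀ z ∈ Z₁, (u * y z)⁻¹ * szT h 0 b * (u * y z) = szT h 0 z := by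
        intro u hu z hz
        rw [show (u * y z)⁻¹ * szT h 0 b * (u * y z) = (y z)⁻¹ * (u⁻¹ * szT h 0 b * u) * y z by group,
          hcomm u hu, hy z hz]
      have hYc : Y.card = ((Finset.univ.filter fun u => u ∈ transl h) ×ˢ Z₁).card := by
        refine Finset.card_image_of_injOn ?_
        rintro ⟨u, z⟩ hu ⟨u', z'⟩ hu' e
        simp only [Finset.coe_product, Set.mem_prod, Finset.mem_coe, Finset.mem_filter, Finset.mem_univ, true_and] at hu hu'
        simp only at e
        obtain rfl : z = z' := (szT_inj h ((hval u hu.1 z hu.2).symm.trans (e ▸ hval u' hu'.1 z' hu'.2))).2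
        rw [mul_right_cancel e]
      rw [← hYc]
      refine moved_le h (hfix _ hb1) α' B Y ?_ ?_
      · intro g hg
        obtain ⟨⟨u, z⟩, huz, rfl⟩ := Finset.mem_image.1 hg
        simp only [Finset.mem_product, Finset.mem_filter, Finset.mem_univ, true_and] at huz
        exact B.mul_mem (transl_le_stab h huz.1) (hyB z huz.2)
      · intro g hg
        obtain ⟨⟨u, z⟩, huz, rfl⟩ := Finset.mem_image.1 hg
        simp only [Finset.mem_product, Finset.mem_filter, Finset.mem_univ, true_and] at huz
        rw [hval u huz.1 z huz.2]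
        exact mem_stabilizer_iff.1 (Finset.mem_filter.1 huz.2).2.2
    -- compute the index
    set L := H'.subgroupOf B with hL
    have hLc : Nat.card L = Nat.card ↥(B ⊓ H') := Nat.card_congr
      { toFun := fun g => ⟨(g.1 : Cfsg.Sz F m), g.1.2, Subgroup.mem_subgroupOf.1 g.2⟩
        invFun := fun g => ⟨⟨g.1, g.2.1⟩, Subgroup.mem_subgroupOf.2 g.2.2⟩
        left_inv := fun _ => rfl
        right_inv := fun _ => rfl }
    let φ : L →* Fˣ := (lam h).toHomUnits.comp L.subtype
    have hker : Nat.card φ.ker = Nat.card ↥(transl h ⊓ H') := by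
      have hk : ∀ g : L, g ∈ φ.ker ↔ ((g : B) : Cfsg.Sz F m) ∈ transl h := fun g => by
        rw [MonoidHom.mem_ker, ← lam_eq_one h (g := (g : B))]
        exact ⟨fun e => congrArg Units.val e, fun e => Units.ext e⟩
      exact Nat.card_congr
        { toFun := fun g => ⟨((g.1 : B) : Cfsg.Sz F m), (hk g.1).1 g.2, Subgroup.mem_subgroupOf.1 g.1.2⟩
          invFun := fun g => ⟨⟨⟨g.1, transl_le_stab h g.2.1⟩, Subgroup.mem_subgroupOf.2 g.2.2⟩, (hk _).2 g.2.1⟩
          left_inv := fun _ => rfl
          right_inv := fun _ => rfl }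
    have hrange : Nat.card φ.range ∣ Fintype.card F - 1 := by
      have h1 := Subgroup.card_subgroup_dvd_card φ.range
      have e : Nat.card Fˣ = Fintype.card F - 1 := by rw [Nat.card_units, Nat.card_eq_fintype_card]
      exact h1.trans (dvd_of_eq e)
    have hLmul : Nat.card φ.ker * Nat.card φ.range = Nat.card L := by
      rw [← Subgroup.index_ker, Subgroup.card_mul_index]
    have hidx2 : L.index ≤ 2 := by
      have hs := Subgroup.card_dvd_of_le (inf_le_left : transl h ⊓ H' ≤ transl h)
      rw [← hker] at hs hT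
      rw [← hLc, ← hLmul] at hBH
      have hBc : Nat.card L * L.index = Fintype.card F ^ 2 * (Fintype.card F - 1) := by
        rw [Subgroup.card_mul_index, hB, card_stab_inf h]
      rw [← hLmul] at hBc
      rw [card_transl h] at hs hT hBH
      obtain ⟨e, he⟩ := hs
      obtain ⟨d, hd⟩ := hrange
      have hker0 : 0 < Nat.card φ.ker := Nat.card_pos
      have hrg0 : 0 < Nat.card φ.range := Nat.card_pos
      have he2 : e ≤ 2 := by rw [he] at hT; nlinarith
      have hidx : L.index = e * d := by
        refine Nat.eq_of_mul_eq_mul_left (Nat.mul_pos hker0 hrg0) ?_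
        rw [hBc, he, hd]; ring
      have hq8 : 8 ≤ Fintype.card F := h.hF ▸ h8
      have hdodd : d % 2 = 1 := by
        have h1 : Fintype.card F % 2 = 0 := Nat.mod_eq_zero_of_dvd (two_dvd_card_field h)
        have h2 : (Nat.card φ.range * d) % 2 = 1 := by rw [← hd]; omega
        rw [Nat.mul_mod] at h2
        rcases Nat.mod_two_eq_zero_or_one d with e' | e'
        · simp [e'] at h2
        · exact e'
      have hd1 : d = 1 := by
        by_contra hd1
        have hd3 : 3 ≤ d := by omega
        have h3 : 3 * Nat.card φ.range ≤ Fintype.card F - 1 := by rw [hd, mul_comm 3]; exact Nat.mul_le_mul_left _ hd3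
        have hd3' : ¬ 3 ∣ Fintype.card F - 1 := fun h' => three_not_dvd_card h (by
          rw [card_Sz h]; exact dvd_mul_of_dvd_right h' _)
        have hd5 : 5 ≤ d := by
          rcases Nat.lt_or_ge d 5 with h' | h'
          · exfalso
            obtain rfl : d = 3 := by omega
            exact hd3' (hd ▸ dvd_mul_left 3 _)
          · exact h'
        have h5 : 5 * Nat.card φ.range ≤ Fintype.card F - 1 := by rw [hd, mul_comm 5]; exact Nat.mul_le_mul_left _ hd5
        rw [he] at hBH
        have h1 : Nat.card φ.ker * (e * Z₁.card) ≤ Nat.card φ.ker * (2 * Nat.card φ.range) := by linarith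
        have h2 := Nat.le_of_mul_le_mul_left h1 hker0
        have he0 : 0 < e := Nat.pos_of_ne_zero fun e0 => by
          rw [e0, mul_zero] at he
          exact absurd he (by positivity)
        have h6 : Z₁.card ≤ 2 * Nat.card φ.range := le_trans (Nat.le_mul_of_pos_left _ he0) h2
        omega
      rw [hidx, hd1, mul_one]; exact he2
    have hLtop : L = ⊤ := by
      have hN : L.Normal := by
        have h0 := Nat.pos_of_ne_zero (Subgroup.index_ne_zero_of_finite (H := L))
        rcases Nat.lt_or_eq_of_le hidx2 with e | e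
        · rw [Subgroup.index_eq_one.1 (show L.index = 1 by omega)]; infer_instance
        · exact Subgroup.normal_of_index_eq_two e
      have hodd : ∀ g : B, Odd (orderOf g) → g ∈ L := by
        intro g hg
        have h1 := Subgroup.pow_index_mem L g
        have h0 := Nat.pos_of_ne_zero (Subgroup.index_ne_zero_of_finite (H := L))
        rcases Nat.lt_or_eq_of_le hidx2 with e | e
        · rwa [show L.index = 1 by omega, pow_one] at h1
        · obtain ⟨j, hj⟩ := exists_pow_eq_self_of_coprime (x := g) (n := 2)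
            (show Nat.Coprime 2 (orderOf g) from Nat.coprime_two_left.2 hg)
          rw [e] at h1
          exact hj ▸ L.pow_mem h1 j
      have hH1 : ∀ u : Fˣ, u ≠ 1 → ∀ c d, ∀ hm : szT h c d * szH h u ∈ B, (⟨_, hm⟩ : B) ∈ L := by
        intro u hu c d hm
        refine hodd _ ?_
        rw [← Subgroup.orderOf_coe]
        show Odd (orderOf (szT h c d * szH h u))
        have hg1 : szT h c d * szH h u ≠ 1 := fun e1 => hu
          (szT_szH_inj h (e1.trans (by rw [szT_one, szH_one, one_mul] : (1 : Cfsg.Sz F m) = szT h 0 0 * szH h 1))).2.2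
        rcases eq_conj_of_fix_inf h hg1 hm with hT' | ⟨l, v, -, e⟩
        · exfalso
          obtain ⟨c', d', e⟩ := hT'
          exact hu (szT_szH_inj h (e.trans (by rw [szH_one, mul_one] : szT h c' d' = szT h c' d' * szH h 1))).2.2
        · rw [e, show l * szH h v * l⁻¹ = MulAut.conj l (szH h v) from rfl, MulEquiv.orderOf_eq]
          exact (odd_card_cyc h (Or.inl ⟨1, (cmap_one _).symm⟩ : CycU h (szHHom h).range)).of_dvd_nat
            (Subgroup.orderOf_dvd_natCard (szHHom h).range ⟨v, rfl⟩)
      rw [eq_top_iff]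
      rintro ⟨g, hg⟩ -
      obtain ⟨a', b', u, rfl⟩ := eq_szT_szH_of_fix h hg
      by_cases hu : u = 1
      · obtain ⟨u₀, hu₀⟩ : ∃ u : Fˣ, u ≠ 1 := by
          by_contra hc
          push Not at hc
          have hcard : Fintype.card Fˣ ≤ 1 := Fintype.card_le_one_iff.2 fun a b => by rw [hc a, hc b]
          rw [Fintype.card_units, h.hF] at hcard
          omega
        have hm1 : szT h a' b' * szH h u₀ ∈ B := by
          rw [hB, mem_stabilizer_iff, mul_smul, szH_inf, szT_inf]
        have hm2 : szT h 0 0 * szH h u₀ ∈ B := by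
          rw [hB, mem_stabilizer_iff, mul_smul, szH_inf, szT_inf]
        have := L.mul_mem (hH1 u₀ hu₀ a' b' hm1) (L.inv_mem (hH1 u₀ hu₀ 0 0 hm2))
        convert this using 1
        refine Subtype.ext ?_
        show szT h a' b' * szH h u = szT h a' b' * szH h u₀ * (szT h 0 0 * szH h u₀)⁻¹
        rw [hu, szH_one, szT_one, one_mul, mul_one, mul_inv_cancel_right]
      · exact hH1 u hu a' b' hg
    have hle : B ≤ H' := fun g hg => by
      have := hLtop ▸ Subgroup.mem_top (⟨g, hg⟩ : B)
      exact Subgroup.mem_subgroupOf.1 this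
    have hH'top : H' ≠ ⊤ := fun e => hHtop (by
      rw [eq_top_iff]
      intro g _
      have := (hmem (k⁻¹ * g * k)).1 (e ▸ Subgroup.mem_top _)
      simpa [mul_assoc] using this)
    have heq : B = H' := ((SuzukiSylow.isCoatom_stab h (ovInf F m)).le_iff.1 hle).resolve_left hH'top |>.symm
    ext g
    constructor
    · intro hg
      have hg' : k⁻¹ * g * k ∈ H' := (hmem _).2 (by simpa [mul_assoc] using hg)
      rw [← heq, hB, mem_stabilizer_iff, mul_smul, mul_smul, inv_smul_eq_iff] at hg'
      exact hg'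
    · intro hg
      rw [mem_stabilizer_iff] at hg
      have hg' : k⁻¹ * g * k ∈ H' := by
        rw [← heq, hB, mem_stabilizer_iff, mul_smul, mul_smul, hg, inv_smul_smul]
      have := (hmem _).1 hg'
      simpa [mul_assoc] using this
  · right
    have hodd : Odd (Nat.card H) := Nat.not_even_iff_odd.1 fun he => h2 (even_iff_two_dvd.1 he)
    have hcyc : ∀ g ∈ H, g ≠ 1 → ∃ U, CycU h U ∧ g ∈ U := by
      intro g hg hg1
      rcases exists_member h hg1 with ⟨p, hp⟩ | hU
      · exfalso
        have h1 := Subgroup.orderOf_dvd_natCard _ hp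
        rw [card_transAt h p] at h1
        exact hg1 (orderOf_eq_one_iff.1 (Nat.eq_one_of_dvd_coprimes
          ((Nat.coprime_two_left.2 hodd).pow_left _) h1 (Subgroup.orderOf_dvd_natCard H hg)))
      · exact hU
    obtain ⟨u, hu, hu1⟩ := H.bot_or_exists_ne_one.resolve_left hne
    obtain ⟨U, hU, huU⟩ := hcyc u hu hu1
    have hUH : U ≤ H := by
      have h1 : Nat.card U ≤ 2 * Nat.card ↥(U ⊓ H) := by
        rw [Nat.card_eq_fintype_card, Fintype.card_subtype]
        refine moved_le h (hfix u hu1) α U _ (fun y hy => (Finset.mem_filter.1 hy).2) fun y hy => ?_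
        rw [mul_assoc, cyc_comm h hU huU (Finset.mem_filter.1 hy).2, inv_mul_cancel_left]
        exact mem_stabilizer_iff.1 hu
      obtain ⟨d, hd⟩ := Subgroup.card_dvd_of_le (inf_le_left : U ⊓ H ≤ U)
      have hUodd := odd_card_cyc h hU
      rw [hd] at hUodd
      have hd1 : d = 1 := by
        have hp : 0 < Nat.card ↥(U ⊓ H) := Nat.card_pos
        have : d ≤ 2 := by nlinarith
        rcases (Nat.odd_mul.1 hUodd).2 with ⟨j, rfl⟩
        omega
      rw [hd1, mul_one] at hd
      exact inf_eq_left.1 (Subgroup.eq_of_le_of_card_ge inf_le_left (le_of_eq hd))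
    set N := Subgroup.normalizer (U : Set (Cfsg.Sz F m)) with hN
    have hNH : ∀ y ∈ N, y ∈ H → y ∈ U := by
      intro y hy hyH
      rcases mem_or_pow_four h hU hy with e | h4
      · exact e
      · rw [orderOf_eq_one_iff.1 (Nat.eq_one_of_dvd_coprimes ((Nat.coprime_two_left.2 hodd).pow_left 2)
          (orderOf_dvd_of_pow_eq_one h4) (Subgroup.orderOf_dvd_natCard H hyH))]
        exact U.one_mem
    have hNU : Nat.card N ≤ 2 * Nat.card U := by
      refine le_trans ?_ (Nat.mul_le_mul_left 2 (Subgroup.card_le_of_le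
        (show N ⊓ H ≤ U from fun y hy => hNH y hy.1 hy.2)))
      rw [Nat.card_eq_fintype_card, Fintype.card_subtype]
      refine moved_le h (hfix u hu1) α N _ (fun y hy => (Finset.mem_filter.1 hy).2) fun y hy => ?_
      have h1 := (Subgroup.mem_normalizer_iff.1 (N.inv_mem (Finset.mem_filter.1 hy).2) u).1 huU
      rw [inv_inv] at h1
      exact mem_stabilizer_iff.1 (hUH h1)
    rcases cyc_types h hU with ⟨⟨k, rfl⟩, hUc, -⟩ | ⟨hT, -, hN4⟩
    swap
    · exfalso
      have h5 := two_le_card_torus h hT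
      rw [hN] at hNU
      omega
    have hab : ¬ NoAb H := fun hab => hne (eq_bot_of_odd h hab le_rfl
      (fun x hx => le_of_eq (mem_normalizer_iff_cmap.1 (Subgroup.le_normalizer hx))) hodd)
    simp only [NoAb, not_forall] at hab
    obtain ⟨A, hAM, hinv, hcomm, hA⟩ := hab
    obtain ⟨a, ha, ha1⟩ := A.bot_or_exists_ne_one.resolve_left hA
    obtain ⟨V, hV, haV⟩ := hcyc a (hAM ha) ha1
    have hHV : H ≤ V := by
      intro x hx
      have hxN : x ∈ Subgroup.normalizer (V : Set (Cfsg.Sz F m)) := by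
        rw [mem_normalizer_iff_cmap]
        refine cyc_eq_of_mem h (cycU_cmap h hV x) hV ⟨a, haV, rfl⟩ ?_ (fun e => ha1 (conj_eq_one_iff.1 e))
        rw [← cyc_centralizer h hV haV ha1, Subgroup.mem_centralizer_singleton_iff]
        exact hcomm _ (hinv x hx ⟨a, ha, rfl⟩) a ha
      rcases mem_or_pow_four h hV hxN with e | h4
      · exact e
      · rw [orderOf_eq_one_iff.1 (Nat.eq_one_of_dvd_coprimes ((Nat.coprime_two_left.2 hodd).pow_left 2)
          (orderOf_dvd_of_pow_eq_one h4) (Subgroup.orderOf_dvd_natCard H hx))]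
        exact V.one_mem
    have hVU : cmap k (szHHom h).range = V := cyc_eq_of_mem h hU hV huU (hHV hu) hu1
    rw [show H = cmap k (szHHom h).range from le_antisymm (hVU ▸ hHV) hUH, hUc, h.hF]

end


/-- Let q = 2^{2m+1} ≥ 8 and let G be isomorphic to the Suzuki group Sz(q). If G acts faithfully and transitively on a finite set Ω with fixity 2 (every non-identity element fixes at most two points, and some fixes exactly two), then either |Ω| = q² + 1 and the action is 2-transitive, or |Ω| = q²(q² + 1) and the point stabilizers have order q − 1. -/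
theorem result {G : Type*} [Group G] [Finite G] (F : Type) [Field F] [Fintype F] (m : ℕ) (hm : 1 ≤ m) (hF : Fintype.card F = 2 ^ (2 * m + 1))
    (e : G ≃* ↥(Cfsg.Lie.Sz F (2 ^ (m + 1)))) {Ω : Type*} [Fintype Ω] [MulAction G Ω] [FaithfulSMul G Ω] (htr : MulAction.IsPretransitive G Ω)
    (hfix : ∀ g : G, g ≠ 1 → Nat.card (MulAction.fixedBy Ω g) ≤ 2) (hex : ∃ g : G, g ≠ 1 ∧ Nat.card (MulAction.fixedBy Ω g) = 2) :
    (Fintype.card Ω = Fintype.card F ^ 2 + 1 ∧ MulAction.IsMultiplyPretransitive G Ω 2) ∨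
    (Fintype.card Ω = Fintype.card F ^ 2 * (Fintype.card F ^ 2 + 1) ∧ ∀ α : Ω, Nat.card (MulAction.stabilizer G α) = Fintype.card F - 1) := by
  have h : Hyp F m := ⟨hm, hF⟩
  let f : Cfsg.Sz F m ≃* G := (SuzukiSp4.szEquiv h).trans e.symm
  let _ : MulAction (Cfsg.Sz F m) Ω := MulAction.compHom Ω f.toMonoidHom
  have := SuzukiSylow.finite_Sz h
  have htr' : IsPretransitive (Cfsg.Sz F m) Ω := ⟨fun a b => by
    obtain ⟨g, hg⟩ := MulAction.exists_smul_eq G a b
    exact ⟨f.symm g, by show f (f.symm g) • a = b; rw [f.apply_symm_apply, hg]⟩⟩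
  have hfix' : ∀ g : Cfsg.Sz F m, g ≠ 1 → Nat.card (fixedBy Ω g) ≤ 2 := fun g hg =>
    hfix (f g) fun e => hg (f.injective (e.trans (map_one f).symm))
  have hex' : ∃ g : Cfsg.Sz F m, g ≠ 1 ∧ Nat.card (fixedBy Ω g) = 2 := by
    obtain ⟨g, hg, hg2⟩ := hex
    refine ⟨f.symm g, fun e => hg (f.symm.injective (e.trans (map_one f.symm).symm)), ?_⟩
    have e1 : fixedBy Ω (f.symm g) = fixedBy Ω g := by
      ext a
      show f (f.symm g) • a = a ↔ g • a = a
      rw [f.apply_symm_apply]
    rw [e1, hg2]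
  obtain ⟨α₀⟩ : Nonempty Ω := by
    obtain ⟨g, -, hg2⟩ := hex
    exact (Nat.card_pos_iff.1 (by rw [hg2]; norm_num : 0 < Nat.card (fixedBy Ω g))).1.map Subtype.val
  have hmul : ∀ α : Ω, Nat.card (stabilizer G α) = Nat.card (stabilizer (Cfsg.Sz F m) α) := fun α =>
    Nat.card_congr (f.toEquiv.subtypeEquiv fun g => Iff.rfl).symm
  have horb : ∀ α : Ω, Fintype.card Ω * Nat.card (stabilizer (Cfsg.Sz F m) α) = Nat.card (Cfsg.Sz F m) := by
    intro α
    rw [← Nat.card_eq_fintype_card, ← MulAction.index_stabilizer_of_transitive (Cfsg.Sz F m) α, mul_comm,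
      Subgroup.card_mul_index]
  rcases stab_cases h htr' hfix' hex' α₀ with ⟨p, hp⟩ | hcard
  · left
    have hcardΩ : Fintype.card Ω = Fintype.card F ^ 2 + 1 := by
      have h1 := horb α₀
      rw [hp, card_stab h, card_Sz h, ← hF] at h1
      have h2 : 2 ≤ Fintype.card F := Fintype.one_lt_card
      refine Nat.eq_of_mul_eq_mul_right (Nat.mul_pos (by positivity) (by omega)) (h1.trans ?_)
      ring
    refine ⟨hcardΩ, ?_⟩
    have := isPretransitive_ovoid h
    have key : ∀ a : Ω, ∃ r : Cfsg.suzukiOvoid F m,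
        stabilizer (Cfsg.Sz F m) a = stabilizer (Cfsg.Sz F m) r ∧ ∃ g : Cfsg.Sz F m, g • α₀ = a ∧ g • p = r := by
      intro a
      obtain ⟨g, rfl⟩ := MulAction.exists_smul_eq (Cfsg.Sz F m) α₀ a
      exact ⟨g • p, by rw [stabilizer_smul_eq_stabilizer_map_conj, stabilizer_smul_eq_stabilizer_map_conj, hp],
        g, rfl, rfl⟩
    rw [is_two_pretransitive_iff]
    intro a b c d hab hcd
    obtain ⟨ga, rfl⟩ := MulAction.exists_smul_eq (Cfsg.Sz F m) α₀ a
    obtain ⟨gb, rfl⟩ := MulAction.exists_smul_eq (Cfsg.Sz F m) α₀ b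
    obtain ⟨gc, rfl⟩ := MulAction.exists_smul_eq (Cfsg.Sz F m) α₀ c
    obtain ⟨gd, rfl⟩ := MulAction.exists_smul_eq (Cfsg.Sz F m) α₀ d
    have hinj : ∀ g g' : Cfsg.Sz F m, g • p = g' • p ↔ g • α₀ = g' • α₀ := by
      intro g g'
      rw [← inv_smul_eq_iff, ← inv_smul_eq_iff (a := g • α₀) (b := α₀), ← mul_smul, ← mul_smul,
        ← mem_stabilizer_iff, ← mem_stabilizer_iff, hp]
    obtain ⟨g, hg1, hg2⟩ := (is_two_pretransitive_iff.1 (isMultiplyPretransitive_two h))
      (fun e => hab ((hinj ga gb).1 e)) (fun e => hcd ((hinj gc gd).1 e))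
    refine ⟨f g, ?_, ?_⟩
    · show g • ga • α₀ = gc • α₀
      rw [← mul_smul]; exact (hinj _ _).1 (by rw [mul_smul, hg1])
    · show g • gb • α₀ = gd • α₀
      rw [← mul_smul]; exact (hinj _ _).1 (by rw [mul_smul, hg2])
  · right
    have h2 : 2 ≤ Fintype.card F := Fintype.one_lt_card
    refine ⟨?_, fun α => ?_⟩
    · have h1 := horb α₀
      rw [hcard, card_Sz h] at h1
      exact Nat.eq_of_mul_eq_mul_right (show 0 < Fintype.card F - 1 by omega) h1
    · rw [hmul α, ← hcard]
      have h1 := horb α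
      rw [← horb α₀] at h1
      have : 0 < Fintype.card Ω := Fintype.card_pos_iff.2 ⟨α₀⟩
      exact Nat.eq_of_mul_eq_mul_left this h1

end Cfsg.Agent.S3391
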