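import Cfsg.Statements.S3410
import Cfsg.Agent.Lib.ONan64.Coord
import Cfsg.Agent.Lib.ONan64.Field
import Cfsg.Agent.Lib.ONan64.Proj

set_option autoImplicit false
open Cfsg

namespace Cfsg.Agent.S3410

open Cfsg.Agent.Lib.ONan64

/-- Passing to the elements of prime exponent and spreading them over all the points. -/
theorem exists_sys {G X : Type*} [Group G] [Finite G] [MulAction G X]
    (h2 : MulAction.IsMultiplyPretransitive G X 2) (x : X)
    (N : Subgroup G) (hNle : N ≤ MulAction.stabilizer G x)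
    (hNnormal : ∀ g ∈ MulAction.stabilizer G x, ∀ n ∈ N, g * n * g⁻¹ ∈ N)
    (hcomm : ∀ a ∈ N, ∀ b ∈ N, a * b = b * a)
    {n : G} (hn : n ∈ N) (hn1 : n ≠ 1) {y : X} (hyx : y ≠ x) (hy : n • y = y) :
    ∃ (p : ℕ) (Nf : X → Subgroup G), Sys Nf p := by
  classical
  set p := (orderOf n).minFac with hpdef
  have hp : p.Prime := Nat.minFac_prime (by simpa [orderOf_eq_one_iff] using hn1)
  set m := n ^ (orderOf n / p) with hmdef
  have hordm : orderOf m = p :=
    orderOf_pow_orderOf_div (orderOf_pos n).ne' (Nat.minFac_dvd _)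
  have hm1 : m ≠ 1 := by
    intro e
    rw [e, orderOf_one] at hordm
    exact hp.ne_one hordm.symm
  have hmy : m • y = y :=
    MulAction.mem_stabilizer_iff.1 (pow_mem (MulAction.mem_stabilizer_iff.2 hy) _)
  let N₁ : Subgroup G :=
    { carrier := {g | g ∈ N ∧ g ^ p = 1}
      one_mem' := ⟨one_mem N, one_pow p⟩
      mul_mem' := fun {a b} ha hb => ⟨mul_mem ha.1 hb.1, by
        rw [Commute.mul_pow (hcomm a ha.1 b hb.1), ha.2, hb.2, one_mul]⟩
      inv_mem' := fun {a} ha => ⟨inv_mem ha.1, by rw [inv_pow, ha.2, inv_one]⟩ }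
  have hN₁ : ∀ g : G, g ∈ N₁ ↔ g ∈ N ∧ g ^ p = 1 := fun g => Iff.rfl
  have hnorm : ∀ k : G, k • x = x → ∀ a ∈ N₁, k * a * k⁻¹ ∈ N₁ := fun k hk a ha =>
    (hN₁ _).2 ⟨hNnormal k (MulAction.mem_stabilizer_iff.2 hk) a ((hN₁ a).1 ha).1,
      by rw [conj_pow, ((hN₁ a).1 ha).2, mul_one, mul_inv_cancel]⟩
  have h2' : ∀ a b c d : X, a ≠ b → c ≠ d → ∃ g : G, g • a = c ∧ g • b = d := fun a b c d hab hcd =>
    MulAction.is_two_pretransitive_iff.1 h2 hab hcd
  have htr : ∀ z : X, ∃ g : G, g • x = z := by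
    intro z
    by_cases hz : z = x
    · exact ⟨1, by rw [one_smul, hz]⟩
    · obtain ⟨g, hg, -⟩ := h2' x z z x (Ne.symm hz) hz
      exact ⟨g, hg⟩
  choose t ht using htr
  have ht' : ∀ z, (t z)⁻¹ • z = x := fun z => inv_smul_eq_iff.2 (ht z).symm
  let Nf : X → Subgroup G := fun z => N₁.comap (MulAut.conj (t z)⁻¹).toMonoidHom
  have hNf : ∀ z g, g ∈ Nf z ↔ (t z)⁻¹ * g * t z ∈ N₁ := fun z g => by
    simp [Nf, MulAut.conj_apply]
  have hback : ∀ z g, g = t z * ((t z)⁻¹ * g * t z) * (t z)⁻¹ := fun z g => by group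
  have hconj : ∀ (g : G) (z : X), ∀ a ∈ Nf z, g * a * g⁻¹ ∈ Nf (g • z) := by
    intro g z a ha
    rw [hNf] at ha ⊢
    have hk : ((t (g • z))⁻¹ * g * t z) • x = x := by rw [mul_smul, mul_smul, ht, ht']
    have := hnorm _ hk _ ha
    convert this using 1
    group
  refine ⟨p, Nf, ⟨hp, fun z a ha => ?_, hconj, fun z a ha b hb => ?_, fun z a ha => ?_,
    fun u v huv => ?_, h2'⟩⟩
  · have h := MulAction.mem_stabilizer_iff.1 (hNle ((hN₁ _).1 ((hNf z a).1 ha)).1)
    rw [mul_smul, mul_smul, ht, inv_smul_eq_iff, ht] at h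
    exact h
  · have h := hcomm _ ((hN₁ _).1 ((hNf z a).1 ha)).1 _ ((hN₁ _).1 ((hNf z b).1 hb)).1
    have e : (t z)⁻¹ * (a * b) * t z = (t z)⁻¹ * (b * a) * t z := by
      convert h using 1 <;> group
    exact mul_left_cancel (mul_right_cancel e)
  · have h := ((hN₁ _).1 ((hNf z a).1 ha)).2
    rw [hback z a, conj_pow, h, mul_one, mul_inv_cancel]
  · obtain ⟨g, hgx, hgy⟩ := h2' x y u v (Ne.symm hyx) huv
    have hmx : m ∈ Nf x := by
      rw [hNf]
      have hk : (t x)⁻¹ • x = x := ht' x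
      have := hnorm _ hk m ((hN₁ m).2 ⟨pow_mem hn _, by rw [← hordm, pow_orderOf_eq_one]⟩)
      rwa [inv_inv] at this
    refine ⟨g * m * g⁻¹, hgx ▸ hconj g x m hmx, fun e => hm1 ?_, ?_⟩
    · rwa [conj_eq_one_iff] at e
    · rw [← hgy, mul_smul, inv_smul_smul, mul_smul, hmy]

/-- Let a finite group G act faithfully and 2-transitively on a finite set X, and let N be an abelian normal subgroup of the stabilizer of a point x which is not semiregular on the remaining points (some non-identity element of N fixes a second point). Then the generalized Fitting subgroup of G is isomorphic to PSL_n(F) for some n ≥ 3 and some finite field F. -/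
theorem result {G X : Type*} [Group G] [Finite G] [Fintype X]
    [MulAction G X] [FaithfulSMul G X] (h2 : MulAction.IsMultiplyPretransitive G X 2) (x : X)
    (N : Subgroup G) (hNle : N ≤ MulAction.stabilizer G x)
    (hNnormal : ∀ g ∈ MulAction.stabilizer G x, ∀ n ∈ N, g * n * g⁻¹ ∈ N) (hNab : IsMulCommutative N)
    (hnsr : ∃ n ∈ N, n ≠ 1 ∧ ∃ y : X, y ≠ x ∧ n • y = y) :
    ∃ (F : Type) (_ : Field F) (_ : Fintype F) (n : ℕ), 3 ≤ n ∧
      Nonempty (↥(Cfsg.generalizedFittingSubgroup G) ≃* Matrix.ProjectiveSpecialLinearGroup (Fin n) F) := by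
  classical
  obtain ⟨n, hn, hn1, y, hyx, hy⟩ := hnsr
  have hcomm : ∀ a ∈ N, ∀ b ∈ N, a * b = b * a := fun a ha b hb =>
    congrArg Subtype.val (hNab.is_comm.comm ⟨a, ha⟩ ⟨b, hb⟩)
  obtain ⟨p, Nf, S⟩ := exists_sys h2 x N hNle hNnormal hcomm hn hn1 hyx hy
  obtain ⟨F, iF, iFF, D, φ, hE⟩ := S.exists_family field (Ne.symm hyx)
  exact ⟨F, iF, iFF, D + 1, by have := hE.dim; omega, proj G X F D φ Nf hE⟩

end Cfsg.Agent.S3410
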