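import Cfsg.Statements.S3413
import Mathlib
import Cfsg.Agent.Lib.Fusion.Mathieu.Identify
import Cfsg.Agent.Lib.Recognition.GraphCheckM11Cert
import Cfsg.Agent.Lib.Recognition.GraphCheckM11Aut

set_option autoImplicit false
open Cfsg

namespace Cfsg.Agent.S3413

open Cfsg.Agent.Lib Cfsg.Agent.Lib.Compute Cfsg.Agent.Lib.Compute.Mathieu

theorem noTwo {G : Type*} [Group G] [IsSimpleGroup G] (hG : Nat.card G ≠ 2) (S : Subgroup G) :
    S.index ≠ 2 := by
  intro h
  have hN := Subgroup.normal_of_index_eq_two h
  rcases hN.eq_bot_or_eq_top with rfl | rfl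
  · exact hG (Subgroup.index_bot.symm.trans h)
  · simp at h

theorem main {H : Type*} [Group H] [Finite H]
    (f : {h : H // h ≠ 1} ≃ {g : genGroup ptCoding m11Gens // g ≠ 1})
    (hf : ∀ x y : {h : H // h ≠ 1}, (x : H) * y = y * x ↔
      (f x : genGroup ptCoding m11Gens) * f y = f y * f x) :
    Nonempty (H ≃* genGroup ptCoding m11Gens) := by
  have hS : GensOK ptCoding m11Gens := (gensOK_of_check pairsInM24_m11).1
  obtain ⟨t, ht, hM, hdeg, hcov⟩ := CommGraph.of_cert ptCoding hS m11Chain_ok
    (by rw [m11Chain_size]; omega) CommGraphData.m11GCert_ok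
  obtain ⟨F, hF1, hF⟩ := CommGraph.exists_extension f hf
  have := isSimpleGroup_m11
  have hA := GraphAut.card_autGroup_le rfl _ _ CommGraphData.m11GAut_ok
  refine CommGraph.nonempty_mulEquiv CommGraphData.m11GMask t ht hM 48 hdeg hcov ?_
    (noTwo (by rw [card_m11]; omega)) F hF1 hF
  rw [card_m11]
  omega

/-- Let H be a finite group whose commuting graph (vertices the non-identity elements, two joined when they commute) is isomorphic to that of the Mathieu group M_11: there is a bijection between the non-identity elements of H and of M_11 under which two elements commute exactly when their images do. Then H ≅ M_11. -/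
theorem result {H : Type*} [Group H] [Finite H]
    (f : {h : H // h ≠ 1} ≃ {g : ↥Cfsg.Spor.M11 // g ≠ 1})
    (hf : ∀ x y : {h : H // h ≠ 1}, (x : H) * y = y * x ↔ ((f x) : ↥Cfsg.Spor.M11) * (f y) = (f y) * (f x)) :
    Nonempty (H ≃* ↥Cfsg.Spor.M11) := by
  have e := Fusion.Mathieu.eq_m11
  revert f
  rw [e]
  exact fun f hf => main f hf

end Cfsg.Agent.S3413
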