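import Cfsg.Statements.S3419
import Cfsg.Agent.Lib.NumberTheory.TwoPrimes
import Cfsg.Agent.Lib.Recognition.NonadjacentPrimes
-- import your own Cfsg.Agent.* helpers here

set_option autoImplicit false
open Cfsg
open Cfsg.Agent.Lib

namespace Cfsg.Agent.S3419

/-- Let n ≥ 5 and let G be a finite group with the same order and the same set of element orders as the alternating group of degree n. Then G is not solvable. -/
theorem result {G : Type*} [Group G] [Finite G] (n : ℕ) (hn : 5 ≤ n)
    (hcard : Nat.card G = Nat.card ↥(alternatingGroup (Fin n)))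
    (hspec : Set.range (orderOf : G → ℕ) = Set.range (orderOf : ↥(alternatingGroup (Fin n)) → ℕ)) :
    ¬ Group.IsSolvable G := by
  have hdf : Nat.card G ∣ n.factorial :=
    hcard ▸ NonadjacentPrimes.card_alternatingGroup_dvd n
  have main : ∀ p q : ℕ, p.Prime → q.Prime → p ≠ q → p ≠ 2 → q ≠ 2 → p ≤ n → q ≤ n →
      n < p + q → (∀ k, 1 ≤ k → p ^ k ∣ Nat.card G → p ^ k % q ≠ 1) →
      (∀ k, 1 ≤ k → q ^ k ∣ Nat.card G → q ^ k % p ≠ 1) → ¬ Group.IsSolvable G :=
    fun p q hp hq hpq hp2 hq2 hpn hqn hsum h1 h2 =>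
      NonadjacentPrimes.not_isSolvable hp hq hpq
        (hcard ▸ NonadjacentPrimes.dvd_card_alternatingGroup (by omega) hp hp2 hpn)
        (hcard ▸ NonadjacentPrimes.dvd_card_alternatingGroup (by omega) hq hq2 hqn) h1 h2
        (NonadjacentPrimes.orderOf_ne_of_alternating hspec hp hq hpq hsum)
  have small : ∀ p q : ℕ, ∀ b : ℕ, ¬ p ^ (b + 1) ∣ n.factorial →
      (∀ k, 1 ≤ k → k ≤ b → p ^ k % q ≠ 1) → ∀ k, 1 ≤ k → p ^ k ∣ Nat.card G → p ^ k % q ≠ 1 :=
    fun p q b hb h k hk hd => h k hk (by
      by_contra hkb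
      exact hb ((pow_dvd_pow p (by omega)).trans (hd.trans hdf)))
  by_cases h11 : 11 ≤ n
  · obtain ⟨p, q, hp, hq, hpq, hp2, hqn⟩ := TwoPrimes.exists_two_primes_half n h11
    exact main p q hp hq hpq.ne (by omega) (by omega) (by omega) hqn (by omega)
      (fun k hk hd => NonadjacentPrimes.big_primes_mod hdf hp hq hpq.ne hp2 (by omega) (by omega)
        hqn hn hk hd)
      (fun k hk hd => NonadjacentPrimes.big_primes_mod hdf hq hp hpq.ne' (by omega) hp2 hqn
        (by omega) hn hk hd)
  have p3 : Nat.Prime 3 := by norm_num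
  have p5 : Nat.Prime 5 := by norm_num
  have p7 : Nat.Prime 7 := by norm_num
  interval_cases n
  · exact main 3 5 p3 p5 (by omega) (by omega) (by omega) (by omega) (by omega) (by omega)
      (small 3 5 1 (by decide) (fun k h1 h2 => by interval_cases k <;> decide))
      (small 5 3 1 (by decide) (fun k h1 h2 => by interval_cases k <;> decide))
  · exact main 3 5 p3 p5 (by omega) (by omega) (by omega) (by omega) (by omega) (by omega)
      (small 3 5 2 (by decide) (fun k h1 h2 => by interval_cases k <;> decide))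
      (small 5 3 1 (by decide) (fun k h1 h2 => by interval_cases k <;> decide))
  all_goals
    exact main 5 7 p5 p7 (by omega) (by omega) (by omega) (by omega) (by omega) (by omega)
      (small 5 7 2 (by decide) (fun k h1 h2 => by interval_cases k <;> decide))
      (small 7 5 1 (by decide) (fun k h1 h2 => by interval_cases k <;> decide))

end Cfsg.Agent.S3419
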