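import Cfsg.Statements.S3420
import Cfsg.Agent.Lib.NumberTheory.TwoPrimes
import Cfsg.Agent.Lib.Recognition.NonadjacentPrimes
-- import your own Cfsg.Agent.* helpers here

set_option autoImplicit false
open Cfsg
open Cfsg.Agent.Lib

namespace Cfsg.Agent.S3420

/-- Let n ≥ 11 and let G be a finite group with the same order and the same set of element orders as the alternating group of degree n. Then G has normal subgroups N < H such that H/N is a non-abelian simple group whose order is divisible by every prime p with n/2 < p ≤ n. -/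
theorem result {G : Type*} [Group G] [Finite G] (n : ℕ) (hn : 11 ≤ n)
    (hcard : Nat.card G = Nat.card ↥(alternatingGroup (Fin n)))
    (hspec : Set.range (orderOf : G → ℕ) = Set.range (orderOf : ↥(alternatingGroup (Fin n)) → ℕ)) :
    ∃ (N H : Subgroup G) (_ : N.Normal), H.Normal ∧ N < H ∧
      IsSimpleGroup (↥H ⧸ N.subgroupOf H) ∧ ¬ IsMulCommutative (↥H ⧸ N.subgroupOf H) ∧
      ∀ p : ℕ, p.Prime → n < 2 * p → p ≤ n → p ∣ Nat.card (↥H ⧸ N.subgroupOf H) := by
  have hdf : Nat.card G ∣ n.factorial :=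
    hcard ▸ NonadjacentPrimes.card_alternatingGroup_dvd n
  obtain ⟨p, q, hp, hq, hpq, hp2, hqn⟩ := TwoPrimes.exists_two_primes_half n hn
  let π : Set ℕ := {r | r.Prime ∧ n < 2 * r ∧ r ≤ n}
  have hπ : ∀ r ∈ π, r.Prime ∧ r ∣ Nat.card G := fun r ⟨h1, h2, h3⟩ =>
    ⟨h1, hcard ▸ NonadjacentPrimes.dvd_card_alternatingGroup (by omega) h1 (by omega) h3⟩
  obtain ⟨N, H, hNn, hHn, hNH, hs, hna, hall⟩ :=
    NonadjacentPrimes.exists_simple_section π hπ (p := p) (q := q) ⟨hp, hp2, by omega⟩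
      ⟨hq, by omega, hqn⟩ hpq.ne
      (fun h => NonadjacentPrimes.not_sq_dvd_factorial hp hp2 (h.trans hdf))
      (fun a ⟨ha, ha2, han⟩ b ⟨hb, hb2, hbn⟩ hab k hk hd =>
        NonadjacentPrimes.big_primes_mod hdf ha hb hab ha2 hb2 han hbn (by omega) hk hd)
      (fun a ⟨ha, ha2, han⟩ b ⟨hb, hb2, hbn⟩ hab g =>
        NonadjacentPrimes.orderOf_ne_of_alternating hspec ha hb hab (by omega) g)
  exact ⟨N, H, hNn, hHn, hNH, hs, hna, fun r h1 h2 h3 => hall r ⟨h1, h2, h3⟩⟩

end Cfsg.Agent.S3420
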