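import Cfsg.Statements.S3421
import Cfsg.Agent.Lib.PSLSpectrum.Recognise
import Cfsg.Agent.Lib.PSLSpectrum.Abelian
import Cfsg.Agent.Lib.SL2.Dickson
import Cfsg.Agent.S1230

set_option autoImplicit false
open Cfsg

namespace Cfsg.Agent.S3421

open Cfsg.Agent.Lib Cfsg.Agent.Lib.SL2

/-- Transport of a recognition over some field of the right order to the given field. -/
theorem of_card_eq {G : Type*} [Group G] {F : Type*} [Field F] [Fintype F] {K : Type}
    [Field K] [Fintype K] (hK : Fintype.card K = Fintype.card F)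
    (e : G ≃* Matrix.ProjectiveSpecialLinearGroup (Fin 2) K) :
    Nonempty (G ≃* Matrix.ProjectiveSpecialLinearGroup (Fin 2) F) :=
  ⟨e.trans (pslCongr (FiniteField.ringEquivOfCardEq hK))⟩

theorem range_eq_of_mulEquiv {G H : Type*} [Group G] [Group H] (e : G ≃* H) :
    Set.range (orderOf : G → ℕ) = Set.range (orderOf : H → ℕ) :=
  Set.ext fun n => ⟨fun ⟨x, hx⟩ => ⟨e x, by rw [MulEquiv.orderOf_eq, hx]⟩,
    fun ⟨x, hx⟩ => ⟨e.symm x, by rw [MulEquiv.orderOf_eq, hx]⟩⟩

theorem of_even {G : Type*} [Group G] [Finite G] {F : Type*} [Field F] [Fintype F]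
    (hF : 3 < Fintype.card F) (hev : Even (Fintype.card F))
    (hr : Set.range (orderOf : G → ℕ) = Set.range (orderOf : PSLtwo F → ℕ))
    (hc : Nat.card G = Nat.card (PSLtwo F)) :
    Nonempty (G ≃* Matrix.ProjectiveSpecialLinearGroup (Fin 2) F) := by
  classical
  haveI : Fact (Nat.Prime 2) := ⟨Nat.prime_two⟩
  set q := Fintype.card F with hq
  obtain ⟨r, hrc⟩ := CharP.exists F
  obtain ⟨f, hrp, hqr⟩ := FiniteField.card F r
  rw [← hq] at hqr
  have hr2 : r = 2 := by
    by_contra hne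
    exact (Nat.not_even_iff_odd.2 (hqr ▸ (hrp.odd_of_ne_two hne).pow)) hev
  subst hr2
  have hgcd : Nat.gcd 2 (q - 1) = 1 :=
    Nat.coprime_two_left.2 (Nat.Even.sub_odd (by omega) hev odd_one)
  have hodd1 : Odd (q - 1) := Nat.Even.sub_odd (by omega) hev odd_one
  have hodd2 : Odd (q + 1) := hev.add_one
  have hspec : ∀ g : G, orderOf g = 2 ∨ Odd (orderOf g) := by
    intro g
    obtain ⟨x, hx⟩ : orderOf g ∈ Set.range (orderOf : PSLtwo F → ℕ) := hr ▸ ⟨g, rfl⟩
    rcases PSLSpectrum.orderOf_psl_cases 2 x with h | h | h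
    · exact Or.inl (hx ▸ h)
    · rw [← hq, hgcd, Nat.div_one] at h
      exact Or.inr (hx ▸ hodd1.of_dvd_nat h)
    · rw [← hq, hgcd, Nat.div_one] at h
      exact Or.inr (hx ▸ hodd2.of_dvd_nat h)
  have hcard : Nat.card G = q * ((q + 1) * (q - 1)) := hc.trans (PSLSpectrum.card_psl_even hev)
  have hsq : ∀ (S : Sylow 2 G), ∀ a ∈ (S : Subgroup G), a * a = 1 := by
    intro S a ha
    obtain ⟨k, hk⟩ := IsPGroup.iff_orderOf.1 S.isPGroup' ⟨a, ha⟩
    rw [Subgroup.orderOf_mk] at hk
    rcases hspec a with h | h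
    · exact Involution.mul_self_eq_one h
    · rcases Nat.eq_zero_or_pos k with rfl | hk0
      · rw [pow_zero, orderOf_eq_one_iff] at hk
        rw [hk, one_mul]
      · exact absurd (hk ▸ h) (Nat.not_odd_iff_even.2 ((even_two).pow_of_ne_zero hk0.ne'))
  have hScard : ∀ S : Sylow 2 G, Nat.card (S : Subgroup G) = q := by
    intro S
    have hne : ¬ 2 ∣ (q + 1) * (q - 1) := fun h =>
      (Nat.not_even_iff_odd.2 (hodd2.mul hodd1)) (even_iff_two_dvd.2 h)
    have hpos : (q + 1) * (q - 1) ≠ 0 := Nat.mul_ne_zero (by omega) (by omega)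
    rw [S.card_eq_multiplicity, hcard, Nat.factorization_mul (by omega) hpos, Finsupp.add_apply,
      Nat.factorization_eq_zero_of_not_dvd hne, add_zero, hqr, Nat.prime_two.factorization_pow,
      Finsupp.single_eq_same]
  have hC : ∀ t : G, orderOf t = 2 → ∀ c ∈ Subgroup.centralizer ({t} : Set G), c * c = 1 := by
    intro t ht c hc'
    rcases hspec c with h | h
    · exact Involution.mul_self_eq_one h
    · by_cases h1 : orderOf c = 1
      · rw [orderOf_eq_one_iff.1 h1, one_mul]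
      exfalso
      have hco : (orderOf c).Coprime (orderOf t) := by
        rw [ht]
        exact Nat.coprime_two_right.2 h
      have hct : Commute c t := Subgroup.mem_centralizer_singleton_iff.1 hc'
      have hm := hct.orderOf_mul_eq_mul_orderOf_of_coprime hco
      rw [ht] at hm
      rcases hspec (c * t) with h2 | h2
      · rw [hm] at h2
        omega
      · rw [hm] at h2
        exact (Nat.not_even_iff_odd.2 h2) (even_two.mul_left _)
  obtain ⟨T⟩ : Nonempty (Sylow 2 G) := inferInstance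
  have hTnc : ¬ IsCyclic (T : Subgroup G) := by
    intro hcy
    obtain ⟨y, hy⟩ := IsCyclic.exists_generator (α := (T : Subgroup G))
    have h1 := orderOf_eq_card_of_forall_mem_zpowers hy
    rw [hScard T, ← Subgroup.orderOf_coe] at h1
    have h2 : orderOf (y : G) ∣ 2 :=
      orderOf_dvd_of_pow_eq_one (by rw [pow_two]; exact hsq T _ y.2)
    have := Nat.le_of_dvd (by norm_num) h2
    omega
  have hTnn : ¬ (T : Subgroup G).Normal := by
    intro hN
    haveI := hN
    obtain ⟨t, htT, ht1⟩ : ∃ t ∈ (T : Subgroup G), t ≠ 1 := by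
      haveI : Nontrivial (T : Subgroup G) :=
        Finite.one_lt_card_iff_nontrivial.1 (by rw [hScard T]; omega)
      obtain ⟨y, hy⟩ := exists_ne (1 : (T : Subgroup G))
      exact ⟨y, y.2, fun h => hy (Subtype.ext h)⟩
    have ht := Involution.orderOf_eq_two (hsq T t htT) ht1
    have hclass : Nat.card {y : G // IsConj t y} ≤ q := by
      rw [← hScard T]
      refine Nat.card_le_card_of_injective (fun y => (⟨y.1, ?_⟩ : (T : Subgroup G)))
        (fun a b h => Subtype.ext (congrArg (fun z : (T : Subgroup G) => (z : G)) h))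
      obtain ⟨g, hg⟩ := isConj_iff.1 y.2
      exact hg ▸ hN.conj_mem t htT g
    have hCp : IsPGroup 2 (Subgroup.centralizer ({t} : Set G)) :=
      fun c => ⟨1, Subtype.ext (by rw [pow_one, pow_two]; exact hC t ht c c.2)⟩
    obtain ⟨S, hS⟩ := hCp.exists_le_sylow
    have hCle : Nat.card (Subgroup.centralizer ({t} : Set G)) ≤ q :=
      hScard S ▸ Nat.card_le_card_of_injective _ (Subgroup.inclusion_injective hS)
    have h1 := Involution.card_isConj_mul_card_centralizer t
    rw [hcard] at h1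
    have h2 : q * ((q + 1) * (q - 1)) ≤ q * q := h1 ▸ Nat.mul_le_mul hclass hCle
    have h3 : (q + 1) * 3 ≤ (q + 1) * (q - 1) := Nat.mul_le_mul_left _ (by omega)
    have := Nat.le_of_mul_le_mul_left h2 (by omega)
    omega
  obtain ⟨K, _, _, hK, ⟨e⟩⟩ := Cfsg.Agent.S1230.result T hTnc hTnn fun t ht =>
    ⟨⟨⟨fun a b => Subtype.ext (by
      have hab := hC t ht _ (mul_mem a.2 b.2)
      have ha := hC t ht _ a.2
      have hb := hC t ht _ b.2
      show (a : G) * b = b * a
      rw [← Involution.inv_eq_self hab, mul_inv_rev, Involution.inv_eq_self ha,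
        Involution.inv_eq_self hb])⟩⟩,
      fun c hc' => by rw [pow_two]; exact hC t ht c hc'⟩
  exact of_card_eq (hK.trans (hScard T)) e

theorem of_odd {G : Type*} [Group G] [Finite G] {F : Type*} [Field F] [Fintype F]
    (hF : 3 < Fintype.card F) (hodd : Odd (Fintype.card F))
    (hr : Set.range (orderOf : G → ℕ) = Set.range (orderOf : PSLtwo F → ℕ))
    (hc : Nat.card G = Nat.card (PSLtwo F)) :
    Nonempty (G ≃* Matrix.ProjectiveSpecialLinearGroup (Fin 2) F) := by
  classical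
  set q := Fintype.card F with hq
  obtain ⟨p, hpc⟩ := CharP.exists F
  obtain ⟨f, hp, hqp⟩ := FiniteField.card F p
  rw [← hq] at hqp
  haveI : Fact p.Prime := ⟨hp⟩
  have hp2 : p ≠ 2 := by
    rintro rfl
    exact (Nat.not_even_iff_odd.2 hodd) (hqp ▸ even_two.pow_of_ne_zero f.ne_zero)
  obtain ⟨k, hk⟩ := hodd
  have hgcd : Nat.gcd 2 (q - 1) = 2 := Nat.gcd_eq_left ⟨k, by omega⟩
  have hspec : ∀ g : G, orderOf g = p ∨ orderOf g ∣ k ∨ orderOf g ∣ k + 1 := by
    intro g
    obtain ⟨x, hx⟩ : orderOf g ∈ Set.range (orderOf : PSLtwo F → ℕ) := hr ▸ ⟨g, rfl⟩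
    rw [← hx]
    have := PSLSpectrum.orderOf_psl_cases p x
    rwa [← hq, hgcd, show (q - 1) / 2 = k by omega, show (q + 1) / 2 = k + 1 by omega] at this
  obtain ⟨a, ha⟩ : ∃ g : G, orderOf g = k := by
    obtain ⟨x, hx⟩ := PSLSpectrum.exists_orderOf_psl_minus (F := F) (by omega)
    obtain ⟨g, hg⟩ : orderOf x ∈ Set.range (orderOf : G → ℕ) := hr ▸ ⟨x, rfl⟩
    exact ⟨g, by rw [hg, hx, ← hq, hgcd]; omega⟩
  obtain ⟨b, hb⟩ : ∃ g : G, orderOf g = k + 1 := by
    obtain ⟨x, hx⟩ := PSLSpectrum.exists_orderOf_psl_plus (F := F)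
    obtain ⟨g, hg⟩ : orderOf x ∈ Set.range (orderOf : G → ℕ) := hr ▸ ⟨x, rfl⟩
    exact ⟨g, by rw [hg, hx, ← hq, hgcd]; omega⟩
  have hcard : Nat.card G = 2 * (q * k * (k + 1)) := by
    have h2 := PSLSpectrum.card_psl_odd (F := F) ⟨k, hk⟩
    rw [← hq, ← hc] at h2
    have h3 : (q + 1) * (q - 1) = 4 * (k * (k + 1)) := by
      rw [show q + 1 = 2 * (k + 1) by omega, show q - 1 = 2 * k by omega]; ring
    rw [h3] at h2
    refine Nat.eq_of_mul_eq_mul_left (show 0 < 2 by omega) (h2.trans ?_)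
    ring
  obtain ⟨e, o, h⟩ : ∃ e o : ℕ, PSLSpectrum.Hyp G p q e o := by
    rcases Nat.even_or_odd k with hke | hko
    · exact ⟨k, k + 1, hp, hp2, by omega, ⟨f, hqp⟩, hke, hke.add_one, Or.inl ⟨hk, rfl⟩, hcard,
        hspec, ⟨a, ha⟩, ⟨b, hb⟩⟩
    · exact ⟨k + 1, k, hp, hp2, by omega, ⟨f, hqp⟩, hko.add_one, hko, Or.inr ⟨by omega, rfl⟩,
        by rw [hcard]; ring, fun g => (hspec g).imp id Or.symm, ⟨b, hb⟩, ⟨a, ha⟩⟩
  obtain ⟨K, _, _, hK, ⟨e⟩⟩ := h.exists_psl_mulEquiv h.sylow_abelian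
  exact of_card_eq hK e

/-- Let F be a finite field with more than 3 elements. A finite group G is isomorphic to PSL(2, F) if and only if G has the same set of element orders and the same order as PSL(2, F). -/
theorem result {G : Type*} [Group G] [Finite G] {F : Type*} [Field F] [Fintype F] (hF : 3 < Fintype.card F) :
    Nonempty (G ≃* Matrix.ProjectiveSpecialLinearGroup (Fin 2) F) ↔
      (Set.range (orderOf : G → ℕ) = Set.range (orderOf : Matrix.ProjectiveSpecialLinearGroup (Fin 2) F → ℕ) ∧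
        Nat.card G = Nat.card (Matrix.ProjectiveSpecialLinearGroup (Fin 2) F)) := by
  constructor
  · rintro ⟨e⟩
    exact ⟨range_eq_of_mulEquiv e, Nat.card_congr e.toEquiv⟩
  · rintro ⟨hr, hc⟩
    rcases Nat.even_or_odd (Fintype.card F) with hev | hodd
    · exact of_even hF hev hr hc
    · exact of_odd hF hodd hr hc

end Cfsg.Agent.S3421
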