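import Cfsg.Statements.S3427
import Cfsg.Agent.Lib.SpecG2Two.ModelGroup
import Cfsg.Agent.Lib.SpecG2Two.Main

set_option autoImplicit false
open Cfsg Cfsg.Agent.Lib.SpecG2Two

namespace Cfsg.Agent.S3427

/-- Let F be the field with 2 elements and let M be the Chevalley group of type G₂ over F (a non-simple group of order 12096 whose derived subgroup, of index 2, is isomorphic to PSU(3, 3)). A finite group G is isomorphic to M if and only if G has the same set of element orders and the same order as M. -/
theorem result {G : Type*} [Group G] [Finite G] {F : Type*} [Field F] [Fintype F] (hF : Fintype.card F = 2) :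
    Nonempty (G ≃* ↥(Cfsg.Lie.chevG2.group F)) ↔
      (Set.range (orderOf : G → ℕ) = Set.range (orderOf : ↥(Cfsg.Lie.chevG2.group F) → ℕ) ∧ Nat.card G = Nat.card ↥(Cfsg.Lie.chevG2.group F)) := by
  constructor
  · rintro ⟨e⟩
    refine ⟨Set.ext fun n => ⟨?_, ?_⟩, Nat.card_congr e.toEquiv⟩
    · rintro ⟨g, rfl⟩
      exact ⟨e g, e.orderOf_eq g⟩
    · rintro ⟨g, rfl⟩
      exact ⟨e.symm g, e.symm.orderOf_eq g⟩
  · rintro ⟨hrange, hcard⟩
    obtain ⟨⟨e⟩, hStd⟩ := Model.exists_iso hF
    have hM := Model.spec_group hF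
    have hspec : Spec G := by
      have key : ∀ g : G, ∃ m : ↥(Cfsg.Lie.chevG2.group F), orderOf m = orderOf g := fun g => by
        have : orderOf g ∈ Set.range (orderOf : G → ℕ) := ⟨g, rfl⟩
        rw [hrange] at this
        exact this
      refine ⟨fun g h => ?_, fun g h => ?_, fun g h => ?_⟩ <;> obtain ⟨m, hm⟩ := key g
      · exact hM.no9 m (hm.trans h)
      · exact hM.no14 m (hm.trans h)
      · exact hM.no21 m (hm.trans h)
    obtain ⟨e'⟩ := exists_iso_Std hspec (by rw [hcard, Nat.card_congr e.toEquiv, hStd])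
    exact ⟨e'.trans e.symm⟩

end Cfsg.Agent.S3427
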