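import Cfsg.Statements.S3430
import Mathlib
import Cfsg.Agent.Lib.PPD.Size
-- import your own Cfsg.Agent.* helpers here

set_option autoImplicit false
open Cfsg

namespace Cfsg.Agent.S3430

/-- A witness by explicit check. -/
theorem witness_of_check {q n p : ℕ} (hp : p.Prime) (hd : p ∣ q ^ n - 1)
    (hmin : ∀ i ∈ List.range' 1 (n - 1), ¬ p ∣ q ^ i - 1) (hbig : n + 1 < p) :
    ∃ p : ℕ, p.Prime ∧ p ∣ q ^ n - 1 ∧ (∀ i : ℕ, 1 ≤ i → i < n → ¬ p ∣ q ^ i - 1) ∧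
      (n + 1 < p ∨ p ^ 2 ∣ q ^ n - 1) :=
  ⟨p, hp, hd, fun i hi hin => hmin i (List.mem_range'_1.mpr ⟨hi, by omega⟩), Or.inl hbig⟩

theorem case_two (q : ℕ) (hq : 2 ≤ q) (h : ¬ ∃ s t : ℕ, t ≤ 1 ∧ q + 1 = 2 ^ s * 3 ^ t) :
    ∃ p : ℕ, p.Prime ∧ p ∣ q ^ 2 - 1 ∧ (∀ i : ℕ, 1 ≤ i → i < 2 → ¬ p ∣ q ^ i - 1) ∧
      (2 + 1 < p ∨ p ^ 2 ∣ q ^ 2 - 1) := by
  have key : ∀ p : ℕ, p.Prime → p ≠ 2 → p ∣ q + 1 →
      p ∣ q ^ 2 - 1 ∧ ∀ i : ℕ, 1 ≤ i → i < 2 → ¬ p ∣ q ^ i - 1 := by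
    intro p hp hp2 hpd
    refine ⟨?_, fun i hi hi2 hd => ?_⟩
    · rw [← one_pow 2, Nat.sq_sub_sq]
      exact hpd.mul_right _
    · obtain rfl : i = 1 := by omega
      rw [pow_one] at hd
      have h3 : p ∣ (q + 1) - (q - 1) := Nat.dvd_sub hpd hd
      rw [show q + 1 - (q - 1) = 2 by omega] at h3
      exact hp2 ((Nat.prime_dvd_prime_iff_eq hp Nat.prime_two).mp h3)
  obtain ⟨s, r, hr2, hsr⟩ :=
    Nat.exists_eq_pow_mul_and_not_dvd (show q + 1 ≠ 0 by omega) 2 (by norm_num)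
  by_cases hbig : ∃ p : ℕ, p.Prime ∧ p ∣ r ∧ 3 < p
  · obtain ⟨p, hp, hpr, hp3⟩ := hbig
    obtain ⟨h1, h2⟩ := key p hp (by omega) (hsr ▸ hpr.mul_left _)
    exact ⟨p, hp, h1, h2, Or.inl hp3⟩
  · push Not at hbig
    have hr0 : r ≠ 0 := by rintro rfl; simp at hr2
    have hpow : r = 3 ^ r.primeFactorsList.length := by
      refine Nat.eq_prime_pow_of_unique_prime_dvd hr0 fun {d} hd hdr => ?_
      have h2d := hd.two_le
      have hle := hbig d hd hdr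
      have hne : d ≠ 2 := fun e => hr2 (e ▸ hdr)
      omega
    have ht : 2 ≤ r.primeFactorsList.length := by
      by_contra hc
      exact h ⟨s, r.primeFactorsList.length, by omega, by rw [← hpow]; exact hsr⟩
    have h9 : 3 ^ 2 ∣ q + 1 := by
      rw [hsr, hpow]
      exact (pow_dvd_pow 3 ht).mul_left _
    obtain ⟨h1, h2⟩ := key 3 Nat.prime_three (by omega) ((dvd_pow_self 3 two_ne_zero).trans h9)
    refine ⟨3, Nat.prime_three, h1, h2, Or.inr ?_⟩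
    rw [← one_pow 2, Nat.sq_sub_sq]
    exact h9.mul_right _

/-- Let q, n ≥ 2 be integers. Unless (n = 2 and q + 1 = 2^s·3^t for some s ≥ 0 and t ≤ 1), or (q = 2 and n ∈ {4, 6, 10, 12, 18}), or (q = 3 and n ∈ {4, 6}), or (q, n) = (5, 6), there is a prime p dividing q^n − 1 but no q^i − 1 with 1 ≤ i < n (a primitive prime divisor), such that p > n + 1 or p² divides q^n − 1. -/
theorem result (q n : ℕ) (hq : 2 ≤ q) (hn : 2 ≤ n)
    (h1 : ¬ (n = 2 ∧ ∃ s t : ℕ, t ≤ 1 ∧ q + 1 = 2 ^ s * 3 ^ t))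
    (h2 : ¬ (q = 2 ∧ (n = 4 ∨ n = 6 ∨ n = 10 ∨ n = 12 ∨ n = 18)))
    (h3 : ¬ (q = 3 ∧ (n = 4 ∨ n = 6))) (h4 : ¬ (q = 5 ∧ n = 6)) :
    ∃ p : ℕ, p.Prime ∧ p ∣ q ^ n - 1 ∧ (∀ i : ℕ, 1 ≤ i → i < n → ¬ p ∣ q ^ i - 1) ∧ (n + 1 < p ∨ p ^ 2 ∣ q ^ n - 1) := by
  rcases eq_or_lt_of_le hn with rfl | hn3
  · exact case_two q hq fun hc => h1 ⟨rfl, hc⟩
  by_cases hmem : (q, n) ∈ Lib.PPD.smallPairs
  · simp only [Lib.PPD.smallPairs, List.mem_cons, List.not_mem_nil, or_false, Prod.mk.injEq] at hmem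
    rcases hmem with h | h | h | h | h | h | h | h | h | h | h | h | h <;> obtain ⟨rfl, rfl⟩ := h
    · simp at h2
    · simp at h2
    · simp at h2
    · simp at h2
    · simp at h2
    · simp at h3
    · simp at h3
    · simp at h4
    · exact witness_of_check (p := 7) (by norm_num) (by decide +kernel) (by decide +kernel) (by norm_num)
    · exact witness_of_check (p := 17) (by norm_num) (by decide +kernel) (by decide +kernel) (by norm_num)
    · exact witness_of_check (p := 41) (by norm_num) (by decide +kernel) (by decide +kernel) (by norm_num)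
    · exact witness_of_check (p := 7) (by norm_num) (by decide +kernel) (by decide +kernel) (by norm_num)
    · exact witness_of_check (p := 13) (by norm_num) (by decide +kernel) (by decide +kernel) (by norm_num)
  obtain ⟨m, hm, hcop, hge⟩ := Lib.PPD.exists_large_primitive_divisor hq hn3 hmem
  have hprim : ∀ p : ℕ, p.Prime → p ∣ m →
      p ∣ q ^ n - 1 ∧ ∀ i : ℕ, 1 ≤ i → i < n → ¬ p ∣ q ^ i - 1 := fun p hp hpm =>
    ⟨hpm.trans hm, fun i hi hin hd => hp.ne_one (Nat.eq_one_of_dvd_coprimes (hcop i hi hin) hpm hd)⟩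
  by_cases hbig : ∃ p : ℕ, p.Prime ∧ p ∣ m ∧ n + 1 < p
  · obtain ⟨p, hp, hpm, hpb⟩ := hbig
    exact ⟨p, hp, (hprim p hp hpm).1, (hprim p hp hpm).2, Or.inl hpb⟩
  push Not at hbig
  have hall : ∀ {d : ℕ}, d.Prime → d ∣ m → d = n + 1 := fun {d} hd hdm => by
    obtain ⟨h5, h6⟩ := hprim d hd hdm
    have := Lib.PPD.lt_of_primitive hd (show 1 ≤ q by omega) (show 1 ≤ n by omega) h5 h6
    have := hbig d hd hdm
    omega
  obtain ⟨p, hp, hpm⟩ := Nat.exists_prime_and_dvd (show m ≠ 1 by omega)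
  obtain rfl := hall hp hpm
  have hpow := Nat.eq_prime_pow_of_unique_prime_dvd (show m ≠ 0 by omega) hall
  have ht : 2 ≤ m.primeFactorsList.length := by
    by_contra hc
    have h7 : (n + 1) ^ m.primeFactorsList.length ≤ (n + 1) ^ 1 :=
      Nat.pow_le_pow_right (by omega) (by omega)
    rw [← hpow, pow_one] at h7
    omega
  refine ⟨n + 1, hp, (hprim _ hp hpm).1, (hprim _ hp hpm).2, Or.inr ?_⟩
  refine dvd_trans ?_ hm
  rw [hpow]
  exact pow_dvd_pow _ ht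

end Cfsg.Agent.S3430
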