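import Cfsg.Statements.S3433
import Cfsg.Agent.Lib.SpecFive.Main
import Cfsg.Agent.S0494
import Cfsg.Agent.S0497

set_option autoImplicit false
open Cfsg Cfsg.Agent.Lib.SpecFive

namespace Cfsg.Agent.S3433

/-- A finite group whose set of element orders is exactly {1, 2, 3, 4, 5} is isomorphic to the alternating group of degree 6, or has a normal elementary abelian 2-subgroup with quotient isomorphic to the alternating group of degree 5. -/
theorem result {G : Type*} [Group G] [Finite G] (h : Set.range (orderOf : G → ℕ) = {k : ℕ | 1 ≤ k ∧ k ≤ 5}) :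
    Nonempty (G ≃* ↥(alternatingGroup (Fin 6))) ∨
      ∃ (N : Subgroup G) (_ : N.Normal), Cfsg.IsElementaryAbelian 2 N ∧ Nonempty (G ⧸ N ≃* ↥(alternatingGroup (Fin 5))) := by
  classical
  have : Fact (Nat.Prime 2) := ⟨Nat.prime_two⟩
  have hP : P5 G := fun g => ((h ▸ Set.mem_range_self g : orderOf g ∈ {k : ℕ | 1 ≤ k ∧ k ≤ 5})).2
  have hdiv : ∀ k : ℕ, 1 ≤ k → k ≤ 5 → k ∣ Nat.card G := by
    intro k h1 h2
    obtain ⟨g, rfl⟩ : k ∈ Set.range (orderOf : G → ℕ) := h ▸ (⟨h1, h2⟩ : 1 ≤ k ∧ k ≤ 5)
    exact orderOf_dvd_natCard g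
  obtain ⟨S⟩ : Nonempty (Sylow 2 G) := inferInstance
  let E : Subgroup G := (S : Subgroup G).normalCore
  have hEn : E.Normal := (S : Subgroup G).normalCore_normal
  have hEp : IsPGroup 2 E := S.2.to_le (S : Subgroup G).normalCore_le
  have hmax : ∀ M : Subgroup G, M.Normal → IsPGroup 2 M → M ≤ E := fun M hM hMp =>
    Subgroup.normal_le_normalCore.mpr (hMp.le_sylow_of_normal S)
  by_cases hE : E = ⊥
  · have hc : CoreFree G := coreFree_of_two hP (hdiv 2 (by omega) (by omega))
      (hdiv 3 (by omega) (by omega)) (hdiv 5 (by omega) (by omega))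
      fun M hM hMp => le_bot_iff.mp (hE ▸ hmax M hM hMp)
    have h1 : Nat.card G ≠ 1 := fun e => by
      have := hdiv 2 (by omega) (by omega)
      rw [e] at this
      omega
    have hg := orderBelow (Nat.card G + 1) G (Nat.lt_succ_self _) hP hc h1
    have hs := isSimpleGroup_of_coreFree hP hc hg
    rcases hg with hg | hg
    · right
      obtain ⟨f⟩ := Cfsg.Agent.S0494.result hg
      refine ⟨⊥, inferInstance, ⟨inferInstance, ?_⟩, ⟨(QuotientGroup.quotientBot (G := G)).trans f⟩⟩
      intro a ha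
      rw [Subgroup.mem_bot.mp ha, one_pow]
    · left
      exact Cfsg.Agent.S0497.result hg
  · right
    have hnn : ∀ T : Sylow 2 G, ¬ (T : Subgroup G).Normal := by
      intro T hT
      obtain ⟨hidx, -⟩ := index_normal_sylow hP T hT
        (T.ne_bot_of_dvd_card (hdiv 2 (by omega) (by omega)))
      obtain ⟨n, hn⟩ := IsPGroup.iff_card.mp T.2
      have key : ∀ r : ℕ, r.Prime → r ≠ 2 → r ∣ Nat.card G → r ∣ (T : Subgroup G).index := by
        intro r hr hr2 hrd
        rw [← (T : Subgroup G).card_mul_index, hn] at hrd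
        exact ((Nat.coprime_primes hr Nat.prime_two).mpr hr2).pow_right n |>.dvd_of_dvd_mul_left hrd
      have e3 := key 3 Nat.prime_three (by norm_num) (hdiv 3 (by omega) (by omega))
      have e5 := key 5 Nat.prime_five (by norm_num) (hdiv 5 (by omega) (by omega))
      omega
    obtain ⟨k, q, hl⟩ := exists_local hP (orderBelow (Nat.card G)) le_rfl E hEp hE hmax hnn
    obtain ⟨n, hn⟩ := IsPGroup.iff_card.mp hEp
    have hg : Nat.card G = Nat.card E * 60 := by
      rcases hl.shape with ⟨rfl, hq⟩ | ⟨rfl, -⟩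
      · exfalso
        have e := hl.card_eq.1 rfl
        rw [hn] at e
        have key : ∀ r : ℕ, r.Prime → r ≠ 2 → r ∣ Nat.card G → r ∣ 2 * q := by
          intro r hr hr2 hrd
          rw [e] at hrd
          exact ((Nat.coprime_primes hr Nat.prime_two).mpr hr2).pow_right n |>.dvd_of_dvd_mul_left hrd
        have e3 := key 3 Nat.prime_three (by norm_num) (hdiv 3 (by omega) (by omega))
        have e5 := key 5 Nat.prime_five (by norm_num) (hdiv 5 (by omega) (by omega))
        omega
      · exact hl.card_eq.2 rfl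
    have hQ : Nat.card (G ⧸ E) = 60 := by
      have := E.index_mul_card
      rw [hg, mul_comm] at this
      exact Nat.eq_of_mul_eq_mul_left Nat.card_pos this
    have hc : CoreFree (G ⧸ E) := by
      refine coreFree_of_two (hP.quotient E) (by rw [hQ]; norm_num) (by rw [hQ]; norm_num)
        (by rw [hQ]; norm_num) fun M hM hMp => ?_
      have hk : (QuotientGroup.mk' E).ker = E := QuotientGroup.ker_mk' E
      have hle : M.comap (QuotientGroup.mk' E) ≤ E :=
        hmax _ (hM.comap _) (hMp.comap_of_ker_isPGroup _ (hk.symm ▸ hEp))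
      rw [eq_bot_iff]
      intro x hx
      obtain ⟨g, rfl⟩ := QuotientGroup.mk_surjective x
      exact Subgroup.mem_bot.mpr ((QuotientGroup.eq_one_iff g).mpr (hle (Subgroup.mem_comap.mpr hx)))
    have hs := isSimpleGroup_of_coreFree (hP.quotient E) hc (Or.inl hQ)
    refine ⟨E, hEn, ⟨⟨⟨fun a b => Subtype.ext ?_⟩⟩, fun a ha => by rw [sq]; exact hl.exp a ha⟩,
      Cfsg.Agent.S0494.result hQ⟩
    exact mul_sq_of_comm (hl.exp a a.2) (hl.exp b b.2) (hl.exp _ (E.mul_mem a.2 b.2))

end Cfsg.Agent.S3433
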