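import Cfsg.Statements.S3495
import Cfsg.Agent.Lib.ExtPrim.Manning

set_option linter.style.haveILetI false

set_option autoImplicit false
open Cfsg

namespace Cfsg.Agent.S3495

/-- Let a finite group G act faithfully and primitively on a finite set Ω with non-trivial point stabilizers, each acting primitively on every one of its orbits (an extremely primitive group), and suppose G has an elementary abelian normal p-subgroup N acting regularly on Ω (affine type). Then every non-trivial subgroup M of a point stabilizer G_α that is normal in G_α has the same orbits on Ω as G_α, and normalizes no subgroup of N other than 1 and N. -/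
theorem result {G : Type*} [Group G] [Finite G] {Ω : Type*} [Fintype Ω] [MulAction G Ω] [FaithfulSMul G Ω] (hprim : MulAction.IsPreprimitive G Ω) (hH : ∀ α : Ω, MulAction.stabilizer G α ≠ ⊥) (hep : ∀ (α : Ω) (ω : Ω), MulAction.IsPreprimitive (MulAction.stabilizer G α) (MulAction.orbit (MulAction.stabilizer G α) ω))
    (N : Subgroup G) [N.Normal] (hNc : IsMulCommutative N) (p : ℕ) (hp : p.Prime) (hNp : ∀ n ∈ N, n ^ p = 1)
    (hNtr : MulAction.IsPretransitive N Ω) (hNreg : ∀ ω : Ω, MulAction.stabilizer N ω = ⊥) (α : Ω) (M : Subgroup G) (hM : M ≠ ⊥) (hMle : M ≤ MulAction.stabilizer G α)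
    (hMn : MulAction.stabilizer G α ≤ Subgroup.normalizer (M : Set G)) :
    (∀ ω : Ω, MulAction.orbit M ω = MulAction.orbit (MulAction.stabilizer G α) ω) ∧
    (∀ L : Subgroup G, L ≤ N → M ≤ Subgroup.normalizer (L : Set G) → L = ⊥ ∨ L = N) := by
  have horb := Lib.ExtPrim.orbit_eq hprim hep α M hM hMle hMn
  refine ⟨horb, fun L hLN hML => ?_⟩
  haveI := hprim
  haveI := hNtr
  haveI := hNc
  haveI := hNtr
  have huniq : ∀ a ∈ N, ∀ b ∈ N, a • α = b • α → a = b := by
    intro a ha b hb hab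
    have h1 := Lib.Perm.stabilizer_subgroup_eq_bot_iff.mp (hNreg α) (b⁻¹ * a)
      (N.mul_mem (N.inv_mem hb) ha) (by rw [mul_smul, hab, inv_smul_smul])
    exact (inv_mul_eq_one.mp h1).symm
  have hconj : ∀ h ∈ MulAction.stabilizer G α, ∀ l ∈ L, h * l * h⁻¹ ∈ L := by
    intro h hh l hl
    have hhi : h⁻¹ • α = α := (MulAction.stabilizer G α).inv_mem hh
    have h1 : h • l • α ∈ MulAction.orbit M (l • α) := by
      rw [horb]; exact ⟨⟨h, hh⟩, rfl⟩
    obtain ⟨m, hm, he⟩ := Lib.ExtPrim.mem_orbit_subgroup.mp h1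
    have hmi : m⁻¹ • α = α := (MulAction.stabilizer G α).inv_mem (hMle hm)
    have hml : m * l * m⁻¹ ∈ L := (Subgroup.mem_normalizer_iff.mp (hML hm) l).mp hl
    have h2 : h * l * h⁻¹ = m * l * m⁻¹ := by
      refine huniq _ ((inferInstance : N.Normal).conj_mem l (hLN hl) h) _ (hLN hml) ?_
      rw [mul_smul, mul_smul, hhi, mul_smul, mul_smul, hmi, he]
    rw [h2]; exact hml
  have hnL : L.Normal := by
    constructor
    intro l hl g
    obtain ⟨n, hn, hnα⟩ := Lib.Perm.exists_mem_smul_eq N α (g • α)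
    have hh : n⁻¹ * g ∈ MulAction.stabilizer G α := by
      rw [MulAction.mem_stabilizer_iff, mul_smul, ← hnα, inv_smul_smul]
    have h1 := hconj _ hh l hl
    have h2 : n * ((n⁻¹ * g) * l * (n⁻¹ * g)⁻¹) * n⁻¹ = (n⁻¹ * g) * l * (n⁻¹ * g)⁻¹ := by
      have := congrArg Subtype.val (mul_comm' (⟨n, hn⟩ : N) ⟨_, hLN h1⟩)
      rw [mul_inv_eq_iff_eq_mul]; exact this
    have h3 : g * l * g⁻¹ = (n⁻¹ * g) * l * (n⁻¹ * g)⁻¹ := by rw [← h2]; group
    rw [h3]; exact h1
  by_cases hL : L = ⊥
  · exact Or.inl hL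
  refine Or.inr (le_antisymm hLN fun n hn => ?_)
  haveI := hnL
  haveI := Lib.Perm.normal_isPretransitive_of_ne_bot (X := Ω) L hL
  obtain ⟨l, hl, hlα⟩ := Lib.Perm.exists_mem_smul_eq L α (n • α)
  rw [← huniq l (hLN hl) n hn hlα]; exact hl

end Cfsg.Agent.S3495
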