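import Cfsg.Statements.S3496
import Cfsg.Agent.Lib.ExtPrim.Abelian
import Cfsg.Agent.Lib.ExtPrim.SemilinearField
import Cfsg.Agent.Lib.Primitive62.Basic
import Cfsg.Agent.S3495

set_option linter.style.haveILetI false
set_option linter.unusedVariables false

set_option autoImplicit false
open Cfsg

namespace Cfsg.Agent.S3496

/-- The soluble extremely primitive groups. Let a finite solvable group G act faithfully and primitively on a finite set Ω with p ^ d points (p prime), with non-trivial point stabilizers each acting primitively on every one of its orbits. Then there is a prime q such that every orbit of a point stabilizer G_α other than {α} has exactly q points, q divides p ^ d − 1 but no p ^ i − 1 with 0 < i < d, and G_α has a normal subgroup T of order q with G_α generated by T and one further element and the order of G_α dividing q·d (so G_α is cyclic of order q, or an extension of T by a cyclic group of order dividing d). -/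
theorem result {G : Type*} [Group G] [Finite G] {Ω : Type*} [Fintype Ω] [MulAction G Ω] [FaithfulSMul G Ω] [Group.IsSolvable G] (p d : ℕ) (hp : p.Prime) (hcard : Fintype.card Ω = p ^ d)
    (hprim : MulAction.IsPreprimitive G Ω) (hH : ∀ α : Ω, MulAction.stabilizer G α ≠ ⊥) (hep : ∀ (α : Ω) (ω : Ω), MulAction.IsPreprimitive (MulAction.stabilizer G α) (MulAction.orbit (MulAction.stabilizer G α) ω)) (α : Ω) :
    ∃ q : ℕ, q.Prime ∧ (∀ ω : Ω, ω ≠ α → Nat.card (MulAction.orbit (MulAction.stabilizer G α) ω) = q) ∧
      q ∣ p ^ d - 1 ∧ (∀ i : ℕ, 0 < i → i < d → ¬ q ∣ p ^ i - 1) ∧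
      ∃ T : Subgroup G, T ≤ MulAction.stabilizer G α ∧ MulAction.stabilizer G α ≤ Subgroup.normalizer (T : Set G) ∧ Nat.card T = q ∧
        (∃ h : G, MulAction.stabilizer G α = T ⊔ Subgroup.zpowers h) ∧ Nat.card (MulAction.stabilizer G α) ∣ q * d := by
  classical
  haveI := hprim
  haveI hpf : Fact p.Prime := ⟨hp⟩
  haveI : Nonempty Ω := ⟨α⟩
  obtain ⟨ω₁, hω₁⟩ := Lib.ExtPrim.exists_ne_of_stabilizer_ne_bot (hH α)
  haveI : Nontrivial Ω := ⟨⟨ω₁, α, hω₁⟩⟩
  have hsimple : ∀ (S : Type) [Group S] [IsSimpleGroup S], Group.IsSolvable S → IsMulCommutative S :=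
    fun S _ _ h => IsMulCommutative.of_comm fun a b => IsSimpleGroup.comm_iff_isSolvable.mpr h a b
  -- the regular normal subgroup
  obtain ⟨N, hNn, hN, -, hNmin⟩ := Lib.Primitive62.exists_minimal_normal (⊤ : Subgroup G) (by
    intro h
    exact hH α (le_bot_iff.mp (h ▸ le_top)))
  have hNt := Lib.Perm.normal_isPretransitive_of_ne_bot (X := Ω) N hN
  rcases Lib.Primitive62.minimal_normal_cases N hN hNmin with ⟨hNc, r, hr, hNr⟩ | ⟨S, iS, iSs, iSf, k, hk, hS, ⟨e⟩⟩
  swap
  · refine absurd (hsimple S ?_) hS
    exact Group.isSolvable_of_isSolvable_injective (f := (N.subtype.comp e.symm.toMonoidHom).comp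
      (MonoidHom.mulSingle (fun _ : Fin k => S) ⟨0, hk⟩))
      fun a b h => Pi.mulSingle_injective _ (e.symm.injective (Subtype.ext h))
  have hreg : ∀ ω : Ω, MulAction.stabilizer N ω = ⊥ := Lib.Perm.stabilizer_eq_bot_of_comm_transitive N
  have hNcard : Nat.card N = p ^ d := by
    rw [Lib.Perm.card_eq_of_regular N (hreg α), Nat.card_eq_fintype_card, hcard]
  haveI : Nontrivial N := (Subgroup.nontrivial_iff_ne_bot N).mpr hN
  obtain rfl : r = p := by
    obtain ⟨x, hx⟩ := exists_ne (1 : N)
    have h1 : orderOf x = r := by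
      haveI : Fact r.Prime := ⟨hr⟩
      exact orderOf_eq_prime (Subtype.ext (hNr x x.2)) hx
    have h2 : r ∣ p ^ d := h1 ▸ hNcard ▸ orderOf_dvd_natCard x
    exact (Nat.prime_dvd_prime_iff_eq hr hp).mp (hr.dvd_of_dvd_pow h2)
  -- a minimal normal subgroup of the stabilizer
  set H := MulAction.stabilizer G α with hHdef
  obtain ⟨T, hTn, hT, -, hTmin⟩ := Lib.Primitive62.exists_minimal_normal (⊤ : Subgroup H) (by
    intro h
    have := (Subgroup.nontrivial_iff_ne_bot H).mpr (hH α)
    exact top_ne_bot h)
  rcases Lib.Primitive62.minimal_normal_cases T hT hTmin with ⟨hTc, q, hq, hTq⟩ | ⟨S, iS, iSs, iSf, k, hk, hS, ⟨e⟩⟩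
  swap
  · refine absurd (hsimple S ?_) hS
    exact Group.isSolvable_of_isSolvable_injective (f := (T.subtype.comp e.symm.toMonoidHom).comp
      (MonoidHom.mulSingle (fun _ : Fin k => S) ⟨0, hk⟩))
      fun a b h => Pi.mulSingle_injective _ (e.symm.injective (Subtype.ext h))
  let T' : Subgroup G := T.map H.subtype
  have hT' : T' ≠ ⊥ := by
    rwa [ne_eq, Subgroup.map_eq_bot_iff_of_injective _ H.subtype_injective]
  have hTle : T' ≤ H := Subgroup.map_subtype_le T
  have hTnorm : H ≤ Subgroup.normalizer (T' : Set G) := by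
    intro g hg
    rw [Subgroup.mem_normalizer_iff]
    intro k
    constructor
    · rintro ⟨x, hx, rfl⟩
      exact ⟨⟨g, hg⟩ * x * ⟨g, hg⟩⁻¹, hTn.conj_mem x hx _, by simp⟩
    · rintro ⟨x, hx, hxe⟩
      refine ⟨⟨g, hg⟩⁻¹ * x * ⟨g, hg⟩, by simpa using hTn.conj_mem x hx (⟨g, hg⟩⁻¹), ?_⟩
      simp only [map_mul, map_inv, Subgroup.coe_subtype] at hxe ⊢
      rw [hxe]; group
  haveI : IsMulCommutative T' := by
    refine IsMulCommutative.of_comm ?_
    rintro ⟨a, a', ha, rfl⟩ ⟨b, b', hb, rfl⟩
    exact Subtype.ext (congrArg (fun z : T => ((z : H) : G)) (mul_comm' (⟨a', ha⟩ : T) ⟨b', hb⟩))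
  haveI := hNc
  have hfix := (S3495.result hprim hH hep N hNc r hp hNr hNt hreg α T' hT' hTle hTnorm).2
  letI : CommGroup N := { (inferInstance : Group N) with mul_comm := fun a b => mul_comm' a b }
  let c : H →* AddMonoid.End (Additive N) :=
    { toFun := fun h => MonoidHom.toAdditive (MulAut.conjNormal (h : G) : N ≃* N).toMonoidHom
      map_one' := AddMonoidHom.ext fun x => by
        show Additive.ofMul (MulAut.conjNormal (1 : G) (Additive.toMul x)) = x
        simp
      map_mul' := fun a b => AddMonoidHom.ext fun x => by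
        show Additive.ofMul (MulAut.conjNormal ((a : G) * b) (Additive.toMul x)) =
          Additive.ofMul (MulAut.conjNormal (a : G) (MulAut.conjNormal (b : G) (Additive.toMul x)))
        rw [map_mul]; rfl }
  haveI := hTn
  haveI := hTc
  obtain ⟨hTcard, hdvd, hord, ⟨h₀, hgen⟩, hHcard⟩ :=
    Lib.ExtPrim.semilinear_one_dim (V := Additive N) c (d := d) (p := r) hq hNcard T hT hTq
      (by
        intro t ht v hv
        have h1 : (t : G) * (Additive.toMul v : N) * (t : G)⁻¹ = (Additive.toMul v : N) := by
          have h2 : MulAut.conjNormal (t : G) (Additive.toMul v : N) = Additive.toMul v :=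
            congrArg Additive.toMul hv
          have h5 := congrArg Subtype.val h2
          rwa [MulAut.conjNormal_apply] at h5
        by_cases hv0 : ((Additive.toMul v : N) : G) • α = α
        · right
          have h3 := Lib.Perm.stabilizer_subgroup_eq_bot_iff.mp (hreg α) _ (Additive.toMul v).2 hv0
          exact Additive.toMul.injective (Subtype.ext h3)
        · left
          have h4 : (t : G) • ((Additive.toMul v : N) : G) • α = ((Additive.toMul v : N) : G) • α := by
            rw [← mul_smul, mul_inv_eq_iff_eq_mul.mp h1, mul_smul]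
            rw [show (t : G) • α = α from t.2]
          exact Subtype.ext (Lib.ExtPrim.abelian_semiregular hprim hep α T' hT' hTle hTnorm hv0
            ⟨t, ht, rfl⟩ h4))
      (by
        intro W hW
        let L : Subgroup G := (AddSubgroup.toSubgroup' W).map N.subtype
        have hLN : L ≤ N := Subgroup.map_subtype_le _
        have hmem : ∀ x : N, Additive.ofMul x ∈ W ↔ (x : G) ∈ L := fun x =>
          ⟨fun h => ⟨x, h, rfl⟩, fun ⟨y, hy, he⟩ => Subtype.ext he ▸ hy⟩
        rcases hfix L hLN (fun g hg => by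
          obtain ⟨t, ht, rfl⟩ := hg
          have key : ∀ t ∈ T, ∀ x ∈ L, (t : G) * x * (t : G)⁻¹ ∈ L := by
            intro t ht x hx
            obtain ⟨y, hy, rfl⟩ := hx
            refine ⟨MulAut.conjNormal (t : G) y, hW t ht (Additive.ofMul y) hy, ?_⟩
            simp [MulAut.conjNormal_apply]
          rw [Subgroup.mem_normalizer_iff]
          refine fun x => ⟨key t ht x, fun hx => ?_⟩
          have := key t⁻¹ (T.inv_mem ht) _ hx
          simpa [mul_assoc] using this) with h | h
        · left
          refine (AddSubgroup.eq_bot_iff_forall W).mpr fun v hv => ?_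
          have h1 := (hmem (Additive.toMul v)).mp hv
          rw [h, Subgroup.mem_bot] at h1
          exact Additive.toMul.injective (Subtype.ext h1)
        · right
          refine (AddSubgroup.eq_top_iff' W).mpr fun v => (hmem (Additive.toMul v)).mpr ?_
          rw [h]; exact (Additive.toMul v).2)
      (by
        intro h hh
        obtain ⟨x, hx, he⟩ := Lib.ExtPrim.abelian_centralizing hprim hep α T' hT' hTle hTnorm
          (h := (h : G)) h.2 (by rintro _ ⟨t, ht, rfl⟩; exact congrArg Subtype.val (hh t ht))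
        rwa [← Subtype.ext he])
  have hT'card : Nat.card T' = q := by
    rw [Subgroup.card_map_of_injective H.subtype_injective, hTcard]
  refine ⟨q, hq, fun ω hω => ?_, hdvd, hord, T', hTle, hTnorm, hT'card, ⟨h₀, ?_⟩, hHcard⟩
  · rw [← Lib.ExtPrim.orbit_eq hprim hep α T' hT' hTle hTnorm ω, ← hT'card]
    refine (Nat.card_congr (Equiv.ofBijective (fun t : T' => (⟨t • ω, t, rfl⟩ : MulAction.orbit T' ω))
      ⟨fun a b hab => ?_, fun ⟨x, t, hx⟩ => ⟨t, Subtype.ext hx⟩⟩)).symm
    have h1 : (a : G) • ω = (b : G) • ω := congrArg Subtype.val hab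
    exact Subtype.ext (inv_mul_eq_one.mp (Lib.ExtPrim.abelian_semiregular hprim hep α T' hT' hTle hTnorm hω
      (T'.mul_mem (T'.inv_mem b.2) a.2) (by rw [mul_smul, h1, inv_smul_smul]))).symm
  · have h1 := congrArg (Subgroup.map H.subtype) hgen
    rw [Subgroup.map_sup, MonoidHom.map_zpowers, ← MonoidHom.range_eq_map, Subgroup.range_subtype] at h1
    exact h1

end Cfsg.Agent.S3496
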