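import Cfsg.Statements.S3497
import Cfsg.Agent.Lib.ExtPrim.Abelian
import Cfsg.Agent.Lib.Fitting.Nilpotent
import Cfsg.Agent.Lib.ExtPrim.ElemAbHom

set_option linter.style.haveILetI false
set_option linter.unusedVariables false

set_option autoImplicit false
open Cfsg

namespace Cfsg.Agent.S3497

/-- Restrictions on the point stabilizer of an extremely primitive group. Let a finite group G act faithfully and primitively on a finite set Ω with point stabilizers H = G_α whose order is neither 1 nor a prime, each acting primitively on every one of its orbits. Then H has trivial center, the Fitting subgroup F(H) is an elementary abelian p-group for some prime p, and if F(H) ≠ 1 has order p ^ e then p ^ e divides the number of points minus one and H / F(H) embeds in GL_e(p) (there is a homomorphism from H to GL_e(p) with kernel exactly F(H)). -/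
theorem result {G : Type*} [Group G] [Finite G] {Ω : Type*} [Fintype Ω] [MulAction G Ω] [FaithfulSMul G Ω] (hprim : MulAction.IsPreprimitive G Ω) (hep : ∀ (α : Ω) (ω : Ω), MulAction.IsPreprimitive (MulAction.stabilizer G α) (MulAction.orbit (MulAction.stabilizer G α) ω)) (α : Ω)
    (hH1 : MulAction.stabilizer G α ≠ ⊥) (hHp : ¬ (Nat.card (MulAction.stabilizer G α)).Prime) :
    Subgroup.center (MulAction.stabilizer G α) = ⊥ ∧
    IsMulCommutative (Cfsg.fittingSubgroup (MulAction.stabilizer G α)) ∧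
    ∃ p e : ℕ, p.Prime ∧ Nat.card (Cfsg.fittingSubgroup (MulAction.stabilizer G α)) = p ^ e ∧
      (∀ x ∈ Cfsg.fittingSubgroup (MulAction.stabilizer G α), x ^ p = 1) ∧
      (Cfsg.fittingSubgroup (MulAction.stabilizer G α) ≠ ⊥ →
        p ^ e ∣ Fintype.card Ω - 1 ∧
        ∃ φ : MulAction.stabilizer G α →* GL (Fin e) (ZMod p), φ.ker = Cfsg.fittingSubgroup (MulAction.stabilizer G α)) := by
  classical
  set H := MulAction.stabilizer G α with hHdef
  have hnorm : ∀ M : Subgroup H, M.Normal →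
      H ≤ Subgroup.normalizer ((M.map H.subtype : Subgroup G) : Set G) := by
    intro M hM g hg
    rw [Subgroup.mem_normalizer_iff]
    intro k
    constructor
    · rintro ⟨x, hx, rfl⟩
      exact ⟨⟨g, hg⟩ * x * ⟨g, hg⟩⁻¹, hM.conj_mem x hx _, by simp⟩
    · rintro ⟨x, hx, hxe⟩
      refine ⟨⟨g, hg⟩⁻¹ * x * ⟨g, hg⟩, by simpa using hM.conj_mem x hx (⟨g, hg⟩⁻¹), ?_⟩
      simp only [map_mul, map_inv, Subgroup.coe_subtype] at hxe ⊢
      rw [hxe]; group
  -- properties of abelian normal subgroups of the stabilizer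
  have hcent : ∀ M : Subgroup H, M.Normal → IsMulCommutative M → M ≠ ⊥ →
      ∀ x : H, (∀ m ∈ M, x * m = m * x) → x ∈ M := by
    intro M hM hc hne x hx
    haveI : IsMulCommutative (M.map H.subtype : Subgroup G) := by
      refine IsMulCommutative.of_comm ?_
      rintro ⟨a, a', ha, rfl⟩ ⟨b, b', hb, rfl⟩
      exact Subtype.ext (congrArg (fun z : M => ((z : H) : G)) (mul_comm' (⟨a', ha⟩ : M) ⟨b', hb⟩))
    have h1 := Lib.ExtPrim.abelian_centralizing hprim hep α (M.map H.subtype)
      (by rwa [ne_eq, Subgroup.map_eq_bot_iff_of_injective _ H.subtype_injective])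
      (Subgroup.map_subtype_le M) (hnorm M hM) (h := (x : G)) x.2
      (by rintro _ ⟨m, hm, rfl⟩; exact congrArg Subtype.val (hx m hm))
    obtain ⟨m, hm, he⟩ := h1
    rwa [← Subtype.ext he]
  have hdvd : ∀ M : Subgroup H, M.Normal → IsMulCommutative M → M ≠ ⊥ →
      Nat.card M ∣ Fintype.card Ω - 1 := by
    intro M hM hc hne
    haveI : IsMulCommutative (M.map H.subtype : Subgroup G) := by
      refine IsMulCommutative.of_comm ?_
      rintro ⟨a, a', ha, rfl⟩ ⟨b, b', hb, rfl⟩
      exact Subtype.ext (congrArg (fun z : M => ((z : H) : G)) (mul_comm' (⟨a', ha⟩ : M) ⟨b', hb⟩))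
    have h1 := Lib.ExtPrim.card_dvd_card_sub_one hprim hep α (M.map H.subtype)
      (by rwa [ne_eq, Subgroup.map_eq_bot_iff_of_injective _ H.subtype_injective])
      (Subgroup.map_subtype_le M) (hnorm M hM)
    rwa [Subgroup.card_map_of_injective H.subtype_injective, Nat.card_eq_fintype_card (α := Ω)] at h1
  -- the centre is trivial
  have hZ : Subgroup.center H = ⊥ := by
    by_contra hne
    have hall : ∀ x : H, x ∈ Subgroup.center H := fun x =>
      hcent _ inferInstance inferInstance hne x fun m hm => Subgroup.mem_center_iff.mp hm x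
    haveI : Nonempty Ω := ⟨α⟩
    obtain ⟨ω, hω⟩ := Lib.ExtPrim.exists_ne_of_stabilizer_ne_bot hH1
    haveI := hep α ω
    let ω₀ : MulAction.orbit H ω := ⟨ω, MulAction.mem_orbit_self ω⟩
    haveI : IsMulCommutative H := IsMulCommutative.of_comm fun a b => (Subgroup.mem_center_iff.mp (hall b) a)
    have hfree : ∀ h : H, (h : G) • ω = ω → h = 1 := fun h hh => Subtype.ext
      (Lib.ExtPrim.abelian_semiregular hprim hep α H hH1 le_rfl Subgroup.le_normalizer hω h.2 hh)
    haveI : Nontrivial H := (Subgroup.nontrivial_iff_ne_bot H).mpr hH1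
    haveI : Nontrivial (MulAction.orbit H ω) := by
      obtain ⟨h, hh⟩ := exists_ne (1 : H)
      exact ⟨⟨ω₀, h • ω₀, fun e => hh (hfree h (congrArg Subtype.val e).symm)⟩⟩
    have hmax := MulAction.IsPreprimitive.isCoatom_stabilizer_of_isPreprimitive H ω₀
    have hst : MulAction.stabilizer H ω₀ = ⊥ :=
      (Subgroup.eq_bot_iff_forall _).mpr fun h hh => hfree h (congrArg Subtype.val hh)
    rw [hst] at hmax
    obtain ⟨q, hq, hqd⟩ := Nat.exists_prime_and_dvd (n := Nat.card H) Finite.one_lt_card.ne'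
    haveI : Fact q.Prime := ⟨hq⟩
    obtain ⟨x, hx⟩ := exists_prime_orderOf_dvd_card' (G := H) q hqd
    have hx1 : x ≠ 1 := fun h => hq.ne_one (by rw [← hx, h, orderOf_one])
    have htop : Subgroup.zpowers x = ⊤ :=
      hmax.2 _ (bot_lt_iff_ne_bot.mpr fun h => hx1 (Subgroup.zpowers_eq_bot.mp h))
    apply hHp
    rw [← Subgroup.card_top (G := H), ← htop, Nat.card_zpowers, hx]
    exact hq
  -- the Fitting subgroup
  set F := Cfsg.fittingSubgroup H with hFdef
  clear_value F
  haveI hFn : F.Normal := by rw [hFdef]; exact Lib.Fitting.fittingSubgroup_normal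
  haveI hFnil : Group.IsNilpotent F := by subst hFdef; exact Lib.Fitting.fittingSubgroup_isNilpotent
  by_cases hF : F = ⊥
  · refine ⟨hZ, ?_, 2, 0, Nat.prime_two, by rw [hF]; simp, fun x hx => ?_, fun h => absurd hF h⟩
    · rw [hF]; exact IsMulCommutative.of_comm fun a b => Subsingleton.elim _ _
    · rw [hF, Subgroup.mem_bot] at hx
      rw [hx, one_pow]
  haveI : Nontrivial F := (Subgroup.nontrivial_iff_ne_bot F).mpr hF
  -- F is abelian
  let Z : Subgroup H := (Subgroup.center F).map F.subtype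
  haveI hZn : Z.Normal := ConjAct.normal_of_characteristic_of_normal
  have hZc : IsMulCommutative Z := by
    refine IsMulCommutative.of_comm ?_
    rintro ⟨a, a', ha, rfl⟩ ⟨b, b', hb, rfl⟩
    exact Subtype.ext (congrArg F.subtype (Subgroup.mem_center_iff.mp hb a'))
  have hZne : Z ≠ ⊥ := by
    rw [ne_eq, Subgroup.map_eq_bot_iff_of_injective _ F.subtype_injective]
    exact fun h => by
      have := Group.IsNilpotent.center_ne_bot (G := F)
      exact this h
  have hFZ : ∀ x ∈ F, x ∈ Z := fun x hx => hcent Z hZn hZc hZne x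
    (by rintro _ ⟨z, hz, rfl⟩; exact congrArg F.subtype (Subgroup.mem_center_iff.mp hz ⟨x, hx⟩))
  have hFc : IsMulCommutative F := IsMulCommutative.of_comm fun a b => by
    obtain ⟨b', hb', hbe⟩ := hFZ b b.2
    obtain rfl : b' = b := Subtype.ext hbe
    exact Subgroup.mem_center_iff.mp hb' a
  obtain ⟨p, hp, hpd⟩ := Nat.exists_prime_and_dvd (n := Nat.card F) Finite.one_lt_card.ne'
  haveI : Fact p.Prime := ⟨hp⟩
  let M : Subgroup H :=
    { carrier := {x | x ∈ F ∧ x ^ p = 1}
      one_mem' := ⟨F.one_mem, one_pow p⟩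
      mul_mem' := fun {a b} ha hb => ⟨F.mul_mem ha.1 hb.1, by
        rw [Commute.mul_pow (congrArg F.subtype (mul_comm' (⟨a, ha.1⟩ : F) ⟨b, hb.1⟩)), ha.2, hb.2, one_mul]⟩
      inv_mem' := fun {a} ha => ⟨F.inv_mem ha.1, by rw [inv_pow, ha.2, inv_one]⟩ }
  have hMn : M.Normal := ⟨fun x hx g => ⟨hFn.conj_mem x hx.1 g, by
    rw [conj_pow, hx.2]; group⟩⟩
  have hMc : IsMulCommutative M := IsMulCommutative.of_comm fun a b =>
    Subtype.ext (congrArg F.subtype (mul_comm' (⟨a, a.2.1⟩ : F) ⟨b, b.2.1⟩))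
  have hMne : M ≠ ⊥ := by
    obtain ⟨x, hx⟩ := exists_prime_orderOf_dvd_card' (G := F) p hpd
    intro h
    have hxM : (x : H) ∈ M := ⟨x.2, by rw [← hx, ← Subgroup.orderOf_coe]; exact pow_orderOf_eq_one _⟩
    rw [h, Subgroup.mem_bot] at hxM
    exact hp.ne_one (by rw [← hx, ← Subgroup.orderOf_coe, hxM, orderOf_one])
  have hFp : ∀ x ∈ F, x ^ p = 1 := fun x hx =>
    (hcent M hMn hMc hMne x fun m hm =>
      congrArg F.subtype (mul_comm' (⟨x, hx⟩ : F) ⟨m, hm.1⟩)).2
  have hpg : IsPGroup p F := fun x => ⟨1, Subtype.ext (by rw [pow_one]; exact hFp x x.2)⟩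
  obtain ⟨e, he⟩ := IsPGroup.iff_card.mp hpg
  refine ⟨hZ, hFc, p, e, hp, he, hFp, fun _ => ⟨he ▸ hdvd F hFn hFc hF, ?_⟩⟩
  haveI := hFc
  obtain ⟨φ, hφ⟩ := Lib.ExtPrim.exists_hom_GL p e F hFp he
  refine ⟨φ, ?_⟩
  ext h
  exact (hφ h).trans ⟨fun hh => hcent F hFn hFc hF h hh,
    fun hh f hf => congrArg F.subtype (mul_comm' (⟨h, hh⟩ : F) ⟨f, hf⟩)⟩

end Cfsg.Agent.S3497
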