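import Cfsg.Statements.S3498
import Mathlib

set_option linter.style.haveILetI false

set_option autoImplicit false
open Cfsg

namespace Cfsg.Agent.S3498

/-- A maximal subgroup of a finite almost simple group does not have prime order. Here G is almost simple in the sense that it has a non-abelian simple normal subgroup T with trivial centralizer. -/
theorem result {G : Type*} [Group G] [Finite G] (T : Subgroup G) [T.Normal] (hT : IsSimpleGroup T) (hTc : ¬ IsMulCommutative T)
    (hC : Subgroup.centralizer (T : Set G) = ⊥) (H : Subgroup G) (hmax : IsCoatom H) : ¬ (Nat.card H).Prime := by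
  classical
  intro hq
  set q := Nat.card H with hqdef
  haveI : Fact q.Prime := ⟨hq⟩
  have hHne : H ≠ ⊥ := fun h => by
    apply hq.ne_one
    rw [hqdef, h, Subgroup.card_bot]
  have hH : IsPGroup q H := IsPGroup.of_card (n := 1) (by rw [pow_one])
  haveI hcycH : IsCyclic H := isCyclic_of_prime_card rfl
  have hHnn : ¬ H.Normal := by
    intro hn
    have hd : Nat.card (H ⊓ T : Subgroup G) ∣ q := Subgroup.card_dvd_of_le inf_le_left
    rcases (Nat.dvd_prime hq).mp hd with h | h
    · have hb : H ⊓ T = ⊥ := Subgroup.eq_bot_of_card_eq _ h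
      have hc : H ≤ Subgroup.centralizer (T : Set G) := by
        rw [← Subgroup.commutator_eq_bot_iff_le_centralizer, eq_bot_iff, ← hb]
        exact Subgroup.commutator_le_inf H T
      rw [hC] at hc
      exact hHne (eq_bot_iff.mpr hc)
    · have hHT : H ≤ T := by
        rw [← inf_eq_left]
        exact Subgroup.eq_of_le_of_card_ge inf_le_left h.ge
      haveI : (H.subgroupOf T).Normal := hn.subgroupOf T
      haveI := hT
      rcases (inferInstance : (H.subgroupOf T).Normal).eq_bot_or_eq_top with h' | h'
      · rw [Subgroup.subgroupOf_eq_bot, disjoint_iff, inf_eq_left.mpr hHT] at h'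
        exact hHne h'
      · rw [Subgroup.subgroupOf_eq_top] at h'
        have : H = T := le_antisymm hHT h'
        subst this
        exact hTc ⟨⟨fun a b => by letI := IsCyclic.commGroup (α := H); exact mul_comm a b⟩⟩
  have hN : Subgroup.normalizer (H : Set G) = H := by
    rcases hmax.le_iff.mp (Subgroup.le_normalizer (H := H)) with h | h
    · exact absurd (Subgroup.normalizer_eq_top_iff.mp h) hHnn
    · exact h
  -- `H` is a Sylow subgroup
  obtain ⟨P, hP⟩ := hH.exists_le_sylow
  have hPH : (P : Subgroup G) = H := by
    by_contra hne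
    haveI := P.isPGroup'.isNilpotent
    have hlt : (H.subgroupOf P) < ⊤ := by
      rw [lt_top_iff_ne_top]
      intro h
      rw [Subgroup.subgroupOf_eq_top] at h
      exact hne (le_antisymm h hP)
    obtain ⟨x, hx, hxn⟩ := SetLike.exists_of_lt (Group.normalizerCondition_of_isNilpotent _ hlt)
    apply hxn
    rw [Subgroup.mem_subgroupOf]
    rw [← hN, Subgroup.mem_normalizer_iff]
    rw [Subgroup.mem_normalizer_iff] at hx
    intro h
    constructor
    · intro hh
      exact (hx ⟨h, hP hh⟩).mp hh
    · intro hh
      have hm : h ∈ (P : Subgroup G) := by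
        have h' := P.mul_mem (P.mul_mem (P.inv_mem x.2) (hP hh)) x.2
        simpa [mul_assoc] using h'
      exact (hx ⟨h, hm⟩).mpr hh
  haveI := hT
  by_cases hHT : H ≤ T
  · -- `G` is simple
    have hTtop : T = ⊤ := by
      rcases hmax.le_iff.mp hHT with h | h
      · exact h
      · subst h
        exact absurd (⟨⟨fun a b => by letI := IsCyclic.commGroup (α := T); exact mul_comm a b⟩⟩) hTc
    have hc : Subgroup.normalizer ((P : Subgroup G) : Set G) ≤ Subgroup.centralizer ((P : Subgroup G) : Set G) := by
      rw [hPH, hN]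
      intro x hx y hy
      letI := IsCyclic.commGroup (α := H)
      exact congrArg Subtype.val (mul_comm (⟨y, hy⟩ : H) ⟨x, hx⟩)
    have hK := MonoidHom.ker_transferSylow_isComplement' P hc
    set K := (MonoidHom.transferSylow P hc).ker
    haveI : IsSimpleGroup G := by
      subst hTtop
      exact MulEquiv.isSimpleGroup (H := (⊤ : Subgroup G)) Subgroup.topEquiv.symm
    rcases (inferInstance : K.Normal).eq_bot_or_eq_top with h | h
    · rw [h, Subgroup.isComplement'_bot_left, hPH] at hK
      exact hmax.1 hK
    · rw [h, Subgroup.isComplement'_top_left, hPH] at hK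
      exact hHne hK
  · have hinf : H ⊓ T = ⊥ := by
      rcases (Nat.dvd_prime hq).mp (Subgroup.card_dvd_of_le (inf_le_left : H ⊓ T ≤ H)) with h | h
      · exact Subgroup.eq_bot_of_card_eq _ h
      · exact absurd (inf_eq_left.mp (Subgroup.eq_of_le_of_card_ge inf_le_left h.ge)) hHT
    have hqT : ¬ q ∣ Nat.card T := by
      intro hd
      obtain ⟨t, ht⟩ := exists_prime_orderOf_dvd_card' (G := T) q hd
      obtain ⟨Q, hQ⟩ := (IsPGroup.of_card (n := 1) (G := Subgroup.zpowers (t : G))
        (by rw [Nat.card_zpowers, Subgroup.orderOf_coe, ht, pow_one])).exists_le_sylow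
      obtain ⟨c, rfl⟩ := MulAction.exists_smul_eq G P Q
      have hmem : c⁻¹ * (t : G) * c ∈ H := by
        have h := hQ (Subgroup.mem_zpowers (t : G))
        rw [Sylow.smul_def, Sylow.pointwise_smul_def, Subgroup.mem_pointwise_smul_iff_inv_smul_mem, hPH,
          MulAut.smul_def, MulAut.conj_inv_apply] at h
        exact h
      have : c⁻¹ * (t : G) * c ∈ H ⊓ T := ⟨hmem, by
        simpa using Subgroup.Normal.conj_mem inferInstance (t : G) t.2 c⁻¹⟩
      rw [hinf, Subgroup.mem_bot] at this
      have := congrArg (fun z => c * z * c⁻¹) this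
      simp [mul_assoc] at this
      rw [this, orderOf_one] at ht
      exact hq.ne_one ht.symm
    obtain ⟨s, hs, hsd⟩ := Nat.exists_prime_and_dvd (show Nat.card T ≠ 1 from fun h => by
      haveI : Subsingleton T := (Nat.card_eq_one_iff_unique.mp h).1
      exact not_nontrivial T inferInstance)
    haveI : Fact s.Prime := ⟨hs⟩
    letI : MulAction H (Sylow s T) :=
      MulAction.compHom (Sylow s T) (MulAut.conjNormal.comp H.subtype : H →* MulAut T)
    have hfix : ∃ R : Sylow s T, ∀ h : H, h • R = R := by
      have hcard : ¬ q ∣ Nat.card (Sylow s T) := fun h =>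
        hqT (h.trans ((default : Sylow s T).card_dvd_index.trans (Subgroup.index_dvd_card _)))
      obtain ⟨R, hR⟩ := hH.nonempty_fixed_point_of_prime_not_dvd_card (α := Sylow s T) hcard
      exact ⟨R, hR⟩
    obtain ⟨R, hR⟩ := hfix
    have hle : H ≤ Subgroup.normalizer ((R : Subgroup T).map T.subtype : Set G) := by
      intro h hh
      have key : ∀ h ∈ H, ∀ x ∈ (R : Subgroup T).map T.subtype, h * x * h⁻¹ ∈ (R : Subgroup T).map T.subtype := by
        rintro h hh _ ⟨y, hy, rfl⟩
        have h1 := hR ⟨h, hh⟩
        have h2 : MulAut.conjNormal h y ∈ (R : Subgroup T) := by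
          rw [← congrArg (fun S : Sylow s T => (S : Subgroup T)) h1]
          exact Subgroup.smul_mem_pointwise_smul y (MulAut.conjNormal h) _ hy
        exact ⟨_, h2, rfl⟩
      rw [Subgroup.mem_normalizer_iff]
      intro x
      refine ⟨key h hh x, fun hx => ?_⟩
      have h3 := key h⁻¹ (H.inv_mem hh) _ hx
      simpa [mul_assoc] using h3
    have hRmap : (R : Subgroup T).map T.subtype ≤ T := Subgroup.map_subtype_le _
    have hRne : (R : Subgroup T) ≠ ⊥ := R.ne_bot_of_dvd_card hsd
    rcases hmax.le_iff.mp hle with h | h
    · have hn := Subgroup.normalizer_eq_top_iff.mp h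
      have hn' : (((R : Subgroup T).map T.subtype).subgroupOf T).Normal := hn.subgroupOf T
      rw [show ((R : Subgroup T).map T.subtype).subgroupOf T = R from
        Subgroup.comap_map_eq_self_of_injective T.subtype_injective _] at hn'
      rcases hn'.eq_bot_or_eq_top with h' | h'
      · exact hRne h'
      · have hpg : IsPGroup s T := IsPGroup.of_equiv (h' ▸ R.isPGroup') Subgroup.topEquiv
        haveI := hpg.center_nontrivial
        rcases (inferInstance : (Subgroup.center T).Normal).eq_bot_or_eq_top with hc | hc
        · exact (Subgroup.nontrivial_iff_ne_bot _).mp inferInstance hc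
        · exact hTc ⟨⟨fun a b => (Subgroup.mem_center_iff.mp (hc ▸ Subgroup.mem_top b) a)⟩⟩
    · have hRH : (R : Subgroup T).map T.subtype ≤ H := Subgroup.le_normalizer.trans h.le
      have : (R : Subgroup T).map T.subtype ≤ H ⊓ T := le_inf hRH hRmap
      rw [hinf, le_bot_iff, Subgroup.map_eq_bot_iff_of_injective _ T.subtype_injective] at this
      exact hRne this

end Cfsg.Agent.S3498
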