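import Cfsg.Statements.S3501
import Cfsg.Agent.Lib.Primitive62.PowerSocle
import Cfsg.Agent.Lib.Primitive62.Sharp

set_option linter.style.haveILetI false

set_option autoImplicit false
open Cfsg

namespace Cfsg.Agent.S3501

/-- Let a finite group G act faithfully and primitively on a finite set Ω with at least two points, and suppose G is not almost simple (it has no non-abelian simple normal subgroup with trivial centralizer). Then the derangements of G form a single conjugacy class if and only if G is sharply 2-transitive (2-transitive, and no non-identity element fixes two points). -/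
theorem result {G : Type*} [Group G] [Finite G] {Ω : Type*} [Fintype Ω] [MulAction G Ω] [FaithfulSMul G Ω] (hΩ : 2 ≤ Fintype.card Ω) (hprim : MulAction.IsPreprimitive G Ω) (hnas : ¬ ∃ T : Subgroup G, T.Normal ∧ IsSimpleGroup T ∧ ¬ IsMulCommutative T ∧ Subgroup.centralizer (T : Set G) = ⊥) :
    Nat.card {c : ConjClasses G // ∃ g : G, ConjClasses.mk g = c ∧ ∀ ω : Ω, g • ω ≠ ω} = 1 ↔ (MulAction.IsMultiplyPretransitive G Ω 2 ∧ ∀ g : G, g ≠ 1 → ∀ a b : Ω, a ≠ b → g • a = a → g • b ≠ b) := by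
  haveI := hprim
  haveI : Nontrivial Ω := Fintype.one_lt_card_iff_nontrivial.mp hΩ
  constructor
  · intro h1
    obtain ⟨hsub, ⟨c₀⟩⟩ := Nat.card_eq_one_iff_unique.mp h1
    have hall : ∀ x y : G, (∀ ω : Ω, x • ω ≠ ω) → (∀ ω : Ω, y • ω ≠ ω) → IsConj x y := fun x y hx hy =>
      ConjClasses.mk_eq_mk_iff_isConj.mp (congrArg Subtype.val
        (hsub.elim ⟨_, x, rfl, hx⟩ ⟨_, y, rfl, hy⟩))
    rcases Lib.Primitive62.primitive_cases (G := G) (Ω := Ω) with
      ⟨N, r, hr, hNn, hN, hc, -, hNt, hreg⟩ | hAS | ⟨N, hNn, hNt, -, S, iS, iSs, iSf, k, hk, hS, ⟨e⟩, hcase⟩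
    · have hder : ∀ n ∈ N, n ≠ 1 → ∀ ω : Ω, n • ω ≠ ω := fun n hn hn1 ω hω =>
        hn1 (Lib.Perm.stabilizer_subgroup_eq_bot_iff.mp (hreg ω) n hn hω)
      refine ⟨Lib.Primitive62.two_transitive_of_conjugate N fun m n hm hn hm1 hn1 =>
        hall m n (hder m hm hm1) (hder n hn hn1), ?_⟩
      obtain ⟨n₀, hn₀, hn₀1⟩ := N.bot_or_exists_ne_one.resolve_left hN
      refine Lib.Primitive62.smul_ne_of_fixedBy_le_one
        (Lib.Primitive62.fixedBy_le_one_of_derangements_subset N hreg fun g hg => ?_)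
      obtain ⟨c, hc'⟩ := isConj_iff.mp (hall n₀ g (hder n₀ hn₀ hn₀1) hg)
      rw [← hc']
      exact hNn.conj_mem _ hn₀ c
    · exact absurd hAS hnas
    · obtain ⟨f, hf, hinj⟩ := Lib.Primitive62.three_derangement_classes (Ω := Ω) hS e hk hcase
      exact absurd (hinj 0 1 (hall _ _ (hf 0) (hf 1))) (by decide)
  · rintro ⟨h2, hs⟩
    exact Lib.Primitive62.card_derangementClasses_of_sharp h2 hs

end Cfsg.Agent.S3501
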