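import Cfsg.Statements.S3504
import Mathlib

set_option linter.style.haveILetI false

set_option autoImplicit false
open Cfsg

namespace Cfsg.Agent.S3504

/-- For n ≥ 5, the fixed-point-free permutations of prime order in the symmetric group of degree n form a single conjugacy class if and only if n is a prime power. -/
theorem result (n : ℕ) (hn : 5 ≤ n) :
    Nat.card {c : ConjClasses (Equiv.Perm (Fin n)) // ∃ g : Equiv.Perm (Fin n), ConjClasses.mk g = c ∧ (orderOf g).Prime ∧ ∀ i : Fin n, g i ≠ i} = 1 ↔ IsPrimePow n := by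
  classical
  rw [isPrimePow_iff_card_primeFactors_eq_one]
  have htype : ∀ g : Equiv.Perm (Fin n), (orderOf g).Prime → (∀ i, g i ≠ i) →
      orderOf g ∣ n ∧ g.cycleType = Multiset.replicate (n / orderOf g) (orderOf g) := by
    intro g hp hfix
    obtain ⟨k, hk⟩ := Equiv.Perm.cycleType_prime_order hp
    have hsum := g.sum_cycleType
    have hsupp : g.support = Finset.univ := Finset.eq_univ_of_forall fun i => Equiv.Perm.mem_support.mpr (hfix i)
    rw [hk, Multiset.sum_replicate, smul_eq_mul, hsupp, Finset.card_univ, Fintype.card_fin] at hsum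
    refine ⟨⟨k + 1, hsum.symm.trans (mul_comm _ _)⟩, ?_⟩
    rw [hk]
    congr 1
    exact ((congrArg (· / orderOf g) hsum).symm.trans (Nat.mul_div_cancel _ hp.pos)).symm
  have hex : ∀ p ∈ n.primeFactors, ∃ g : Equiv.Perm (Fin n),
      orderOf g = p ∧ (∀ i, g i ≠ i) ∧ g.cycleType = Multiset.replicate (n / p) p := by
    intro p hp
    have hpp := Nat.prime_of_mem_primeFactors hp
    have hpd := Nat.dvd_of_mem_primeFactors hp
    obtain ⟨g, hg⟩ := (Equiv.Perm.exists_with_cycleType_iff (Fin n) (m := Multiset.replicate (n / p) p)).mpr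
      ⟨by rw [Multiset.sum_replicate, smul_eq_mul, Fintype.card_fin, Nat.div_mul_cancel hpd],
       fun a ha => by rw [Multiset.eq_of_mem_replicate ha]; exact hpp.two_le⟩
    have hpos : 0 < n / p := Nat.div_pos (Nat.le_of_dvd (by omega) hpd) hpp.pos
    refine ⟨g, ?_, ?_, hg⟩
    · rw [← Equiv.Perm.lcm_cycleType, hg]
      refine Nat.dvd_antisymm (Multiset.lcm_dvd.mpr fun b hb => by rw [Multiset.eq_of_mem_replicate hb]) ?_
      exact Multiset.dvd_lcm (Multiset.mem_replicate.mpr ⟨hpos.ne', rfl⟩)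
    · intro i
      rw [← Equiv.Perm.mem_support]
      have hsum := g.sum_cycleType
      rw [hg, Multiset.sum_replicate, smul_eq_mul, Nat.div_mul_cancel hpd] at hsum
      rw [Finset.eq_univ_of_card g.support (by rw [← hsum, Fintype.card_fin])]
      exact Finset.mem_univ i
  choose g hg1 hg2 hg3 using hex
  let f : {p // p ∈ n.primeFactors} →
      {c : ConjClasses (Equiv.Perm (Fin n)) // ∃ g : Equiv.Perm (Fin n), ConjClasses.mk g = c ∧ (orderOf g).Prime ∧ ∀ i : Fin n, g i ≠ i} :=
    fun p => ⟨ConjClasses.mk (g p.1 p.2), g p.1 p.2, rfl, by rw [hg1]; exact Nat.prime_of_mem_primeFactors p.2, hg2 _ _⟩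
  have hf : Function.Bijective f := by
    constructor
    · intro p q h
      have h1 := Equiv.Perm.isConj_iff_cycleType_eq.mp (ConjClasses.mk_eq_mk_iff_isConj.mp (congrArg Subtype.val h))
      apply Subtype.ext
      rw [← hg1 p.1 p.2, ← hg1 q.1 q.2, ← Equiv.Perm.lcm_cycleType, ← Equiv.Perm.lcm_cycleType, h1]
    · rintro ⟨_, x, rfl, hx, hfix⟩
      obtain ⟨hd, hc⟩ := htype x hx hfix
      have hm : orderOf x ∈ n.primeFactors := Nat.mem_primeFactors.mpr ⟨hx, hd, by omega⟩
      refine ⟨⟨orderOf x, hm⟩, Subtype.ext (ConjClasses.mk_eq_mk_iff_isConj.mpr ?_)⟩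
      rw [Equiv.Perm.isConj_iff_cycleType_eq, hg3, hc]
  rw [← Nat.card_eq_of_bijective f hf, Nat.card_eq_fintype_card, Fintype.card_coe]

end Cfsg.Agent.S3504
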