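import Cfsg.Statements.S3508
import Mathlib

set_option linter.style.haveILetI false

set_option autoImplicit false
open Cfsg

namespace Cfsg.Agent.S3508

private theorem iterate_affine {M : Type*} [AddCommGroup M] (p : ℕ) [Fact p.Prime] [Module (ZMod p) M]
    [Finite M] (φ : M →+ M) (v0 : M) {m r s : ℕ} (hM : Nat.card M = p ^ m)
    (hr : ∀ z, (fun z => φ z + v0)^[p ^ r] z = z) (hs : m < p ^ s) :
    ∀ z, (fun z => φ z + v0)^[p ^ s] z = z := by
  set L := φ.toZModLinearMap p
  let Φ : Module.End (ZMod p) (M × ZMod p) :=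
    { toFun := fun z => (L z.1 + z.2 • v0, z.2)
      map_add' := fun x y => by
        refine Prod.ext ?_ rfl
        simp only [Prod.fst_add, Prod.snd_add, map_add, add_smul]
        abel
      map_smul' := fun c x => by
        refine Prod.ext ?_ rfl
        simp only [Prod.smul_fst, Prod.smul_snd, map_smul, smul_add, RingHom.id_apply, smul_eq_mul, mul_smul] }
  have hΦ : ∀ (k : ℕ) (x : M), (Φ ^ k) (x, 1) = ((fun z => φ z + v0)^[k] x, 1) := by
    intro k
    induction k with
    | zero => intro x; simp
    | succ k ih =>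
      intro x
      rw [pow_succ', Module.End.mul_apply, ih, Function.iterate_succ_apply']
      exact Prod.ext (by show L _ + (1 : ZMod p) • v0 = _; rw [one_smul]; rfl) rfl
  have hpr : Φ ^ (p ^ r) = 1 := by
    apply LinearMap.ext
    rintro ⟨x, c⟩
    have hsplit : ((x, c) : M × ZMod p) = ((x, 1) - (0, 1)) + c • ((0, 1) : M × ZMod p) := by
      ext <;> simp
    rw [Module.End.one_apply]
    conv_lhs => rw [hsplit, map_add, map_sub, map_smul, hΦ, hΦ, hr, hr]
    exact hsplit.symm
  haveI : CharP (Module.End (ZMod p) (M × ZMod p)) p :=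
    charP_of_injective_algebraMap (R := ZMod p) (algebraMap (ZMod p) (Module.End (ZMod p) (M × ZMod p))).injective p
  have hnil : IsNilpotent (Φ - 1) := ⟨p ^ r, by
    rw [sub_pow_char_pow_of_commute (p := p) (h := Commute.one_right Φ), hpr, one_pow, sub_self]⟩
  have hfr : Module.finrank (ZMod p) (M × ZMod p) ≤ p ^ s := by
    have h := Module.natCard_eq_pow_finrank (K := ZMod p) (V := M × ZMod p)
    rw [Nat.card_prod, hM, Nat.card_zmod, ← pow_succ] at h
    have := Nat.pow_right_injective (Fact.out : p.Prime).two_le h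
    omega
  have hz : (Φ - 1) ^ Module.finrank (ZMod p) (M × ZMod p) = 0 := by
    have := (Φ - 1).aeval_self_charpoly
    rwa [hnil.charpoly_eq_X_pow_finrank, map_pow, Polynomial.aeval_X] at this
  have h0 : Φ ^ (p ^ s) = 1 := by
    have := pow_eq_zero_of_le hfr hz
    rwa [sub_pow_char_pow_of_commute (p := p) (h := Commute.one_right Φ), one_pow, sub_eq_zero] at this
  intro z
  have := hΦ (p ^ s) z
  rw [h0, Module.End.one_apply] at this
  exact (congrArg Prod.fst this).symm

/-- Let a finite group G act faithfully on a set Ω with p ^ m points (p prime) and have an elementary abelian normal p-subgroup N acting regularly on Ω (so G is a group of affine transformations of an m-dimensional space over the field with p elements). If G contains an element of order p ^ r with r ≥ 1, then p ^ (r − 1) ≤ m. In particular an element of order p ^ m forces m ≤ 2, and m ≤ 1 when p is odd. -/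
theorem result {G : Type*} [Group G] [Finite G] {Ω : Type*} [Fintype Ω] [MulAction G Ω] [FaithfulSMul G Ω] (p m : ℕ) (hp : p.Prime) (hcard : Fintype.card Ω = p ^ m)
    (N : Subgroup G) [N.Normal] (hNc : IsMulCommutative N) (hNp : ∀ n ∈ N, n ^ p = 1)
    (hNtr : MulAction.IsPretransitive N Ω) (hNreg : ∀ ω : Ω, MulAction.stabilizer N ω = ⊥)
    (g : G) (r : ℕ) (hr : 1 ≤ r) (hg : orderOf g = p ^ r) :
    p ^ (r - 1) ≤ m ∧ (r = m → m ≤ 2 ∧ (2 < p → m ≤ 1)) := by
  classical
  haveI : Fact p.Prime := ⟨hp⟩
  have hkey : p ^ (r - 1) ≤ m := by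
    by_contra hlt
    rw [not_le] at hlt
    obtain ⟨ω0⟩ : Nonempty Ω := Fintype.card_pos_iff.mp (by rw [hcard]; exact pow_pos hp.pos m)
    letI : CommGroup N := { (inferInstance : Group N) with mul_comm := hNc.is_comm.comm }
    letI : Module (ZMod p) (Additive N) := AddCommGroup.zmodModule (n := p) fun x => by
      apply Additive.toMul.injective
      apply Subtype.ext
      show ((x.toMul ^ p : N) : G) = 1
      rw [Subgroup.coe_pow]
      exact hNp _ x.toMul.2
    have hreg : ∀ a b : N, (a : G) • ω0 = (b : G) • ω0 → a = b := by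
      intro a b h
      have hm : b⁻¹ * a ∈ MulAction.stabilizer N ω0 := by
        rw [MulAction.mem_stabilizer_iff, mul_smul]
        exact inv_smul_eq_iff.mpr h
      rw [hNreg, Subgroup.mem_bot, inv_mul_eq_one] at hm
      exact hm.symm
    haveI := hNtr
    obtain ⟨v0, hv0⟩ := MulAction.exists_smul_eq N ω0 (g • ω0)
    let φ : Additive N →+ Additive N := MonoidHom.toAdditive (MulAut.conjNormal g : MulAut N).toMonoidHom
    let f : Additive N → Additive N := fun z => φ z + Additive.ofMul v0
    have hstep : ∀ x : N, g • ((x : G) • ω0) = (((f (Additive.ofMul x)).toMul : N) : G) • ω0 := by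
      intro x
      show g • ((x : G) • ω0) = ((MulAut.conjNormal g x * v0 : N) : G) • ω0
      rw [Subgroup.coe_mul, MulAut.conjNormal_apply, mul_smul (_ * _)]
      rw [show (v0 : G) • ω0 = g • ω0 from hv0, ← mul_smul, ← mul_smul]
      group
    have hiter : ∀ (k : ℕ) (x : N), (g ^ k) • ((x : G) • ω0) = (((f^[k] (Additive.ofMul x)).toMul : N) : G) • ω0 := by
      intro k
      induction k with
      | zero => intro x; simp
      | succ k ih =>
        intro x
        rw [pow_succ', mul_smul, ih x, hstep, Function.iterate_succ_apply']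
        rfl
    have hlift : ∀ k : ℕ, (g ^ k = 1 ↔ ∀ z, f^[k] z = z) := by
      intro k
      constructor
      · intro h z
        have h2 := hiter k z.toMul
        rw [h, one_smul] at h2
        exact Additive.toMul.injective (hreg _ _ h2).symm
      · intro h
        apply eq_of_smul_eq_smul (α := Ω)
        intro ω
        obtain ⟨x, rfl⟩ := MulAction.exists_smul_eq N ω0 ω
        show g ^ k • (x : G) • ω0 = (1 : G) • (x : G) • ω0
        rw [hiter, h, one_smul]
        rfl
    have hNcard : Nat.card (Additive N) = p ^ m := by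
      rw [Nat.card_congr Additive.toMul, ← hcard, ← Nat.card_eq_fintype_card]
      exact Nat.card_eq_of_bijective (fun x : N => (x : G) • ω0)
        ⟨fun a b h => hreg a b h, fun ω => MulAction.exists_smul_eq N ω0 ω⟩
    have hg1 : g ^ (p ^ (r - 1)) = 1 := (hlift _).mpr
      (iterate_affine p φ (Additive.ofMul v0) hNcard ((hlift _).mp (by rw [← hg, pow_orderOf_eq_one])) hlt)
    have h1 := orderOf_dvd_of_pow_eq_one hg1
    rw [hg, Nat.pow_dvd_pow_iff_le_right hp.one_lt] at h1
    omega
  refine ⟨hkey, fun hrm => ?_⟩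
  subst hrm
  constructor
  · by_contra h
    have h2 : 2 ^ (r - 1) ≤ p ^ (r - 1) := Nat.pow_le_pow_left hp.two_le _
    have h3 : r < 2 ^ (r - 1) := by
      obtain ⟨j, rfl⟩ : ∃ j, r = j + 3 := ⟨r - 3, by omega⟩
      have := Nat.lt_two_pow_self (n := j)
      rw [show j + 3 - 1 = j + 2 by omega, pow_add]
      omega
    omega
  · intro hp2
    by_contra h
    have h2 : 3 ^ (r - 1) ≤ p ^ (r - 1) := Nat.pow_le_pow_left (by omega) _
    have h3 : r < 3 ^ (r - 1) := by
      obtain ⟨j, rfl⟩ : ∃ j, r = j + 2 := ⟨r - 2, by omega⟩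
      have := Nat.lt_pow_self (n := j) (show 1 < 3 by norm_num)
      rw [show j + 2 - 1 = j + 1 by omega, pow_succ]
      omega
    omega

end Cfsg.Agent.S3508
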