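import Cfsg.Statements.S3511
import Mathlib

set_option autoImplicit false
open Cfsg

namespace Cfsg.Agent.S3511

/-- Let a finite group G act faithfully on a set Ω. If every element of G of square-free order has a regular cycle (an orbit of the cyclic group it generates with trivial stabilizer), then every element of G has a regular cycle. -/
theorem result {G : Type*} [Group G] [Finite G] {Ω : Type*} [MulAction G Ω] [FaithfulSMul G Ω]
    (h : ∀ g : G, Squarefree (orderOf g) → ∃ ω : Ω, MulAction.stabilizer (Subgroup.zpowers g) ω = ⊥) (g : G) :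
    ∃ ω : Ω, MulAction.stabilizer (Subgroup.zpowers g) ω = ⊥ := by
  classical
  set n := orderOf g with hn
  have hn0 : n ≠ 0 := (orderOf_pos g).ne'
  set r := ∏ p ∈ n.primeFactors, p with hr
  have hrn : r ∣ n := Nat.prod_primeFactors_dvd n
  have hr0 : r ≠ 0 := fun h0 => hn0 (by simpa [h0] using hrn)
  have hsf : Squarefree r := by
    rw [Nat.squarefree_iff_prime_squarefree]
    intro q hq hdvd
    have : r.primeFactors = n.primeFactors := Nat.primeFactors_prod (fun p hp => Nat.prime_of_mem_primeFactors hp)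
    have h1 : q ∈ n.primeFactors := by
      rw [← this]; exact Nat.mem_primeFactors.mpr ⟨hq, dvd_trans (dvd_mul_left q q) hdvd, hr0⟩
    rw [hr, ← Finset.mul_prod_erase _ _ h1, Nat.mul_dvd_mul_iff_left hq.pos] at hdvd
    obtain ⟨p, hp, hqp⟩ := (Prime.dvd_finsetProd_iff hq.prime _).mp hdvd
    have := (Nat.prime_dvd_prime_iff_eq hq (Nat.prime_of_mem_primeFactors (Finset.mem_of_mem_erase hp))).mp hqp
    exact (Finset.ne_of_mem_erase hp) this.symm
  have horder : orderOf (g ^ (n / r)) = r := by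
    rw [orderOf_pow]
    rw [← hn, Nat.gcd_eq_right (Nat.div_dvd_of_dvd hrn), Nat.div_div_self hrn hn0]
  obtain ⟨ω, hω⟩ := h (g ^ (n / r)) (by rw [horder]; exact hsf)
  refine ⟨ω, ?_⟩
  by_contra hne
  obtain ⟨q, hqdvd⟩ : ∃ q, q.Prime ∧ q ∣ Nat.card (MulAction.stabilizer (Subgroup.zpowers g) ω) :=
    Nat.exists_prime_and_dvd (fun hc => hne (Subgroup.eq_bot_of_card_eq _ hc))
  haveI : Fact q.Prime := ⟨hqdvd.1⟩
  obtain ⟨x, hx⟩ := exists_prime_orderOf_dvd_card' q hqdvd.2
  have hxG : orderOf ((x : Subgroup.zpowers g) : G) = q := by rw [Subgroup.orderOf_coe, Subgroup.orderOf_coe]; exact hx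
  have hqn : q ∣ n := by
    have := orderOf_dvd_natCard (x : Subgroup.zpowers g)
    rw [Subgroup.orderOf_coe, hx, Nat.card_zpowers] at this
    exact this
  have hqr : q ∣ r := Finset.dvd_prod_of_mem _ (Nat.mem_primeFactors.mpr ⟨hqdvd.1, hqn, hn0⟩)
  have hmem : ((x : Subgroup.zpowers g) : G) ∈ Subgroup.zpowers (g ^ (n / r)) := by
    obtain ⟨i, hi⟩ := (mem_powers_iff_mem_zpowers.mpr (x : Subgroup.zpowers g).2)
    have h1 : n ∣ i * r := by
      rw [hn, orderOf_dvd_iff_pow_eq_one, pow_mul]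
      have : g ^ i = ((x : Subgroup.zpowers g) : G) := hi
      rw [this, ← orderOf_dvd_iff_pow_eq_one, hxG]
      exact hqr
    have h2 : n / r ∣ i := by
      rw [← Nat.mul_dvd_mul_iff_right (Nat.pos_of_ne_zero hr0), Nat.div_mul_cancel hrn]; exact h1
    obtain ⟨c, hc⟩ := h2
    rw [← hi]
    show g ^ i ∈ _
    rw [hc, pow_mul]
    exact pow_mem (Subgroup.mem_zpowers _) c
  have hfix : ((x : Subgroup.zpowers g) : G) • ω = ω := x.2
  have h3 : (⟨_, hmem⟩ : Subgroup.zpowers (g ^ (n / r))) = 1 := by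
    rw [← Subgroup.mem_bot, ← hω]; exact hfix
  have h4 : ((x : Subgroup.zpowers g) : G) = 1 := congrArg Subtype.val h3
  rw [h4, orderOf_one] at hxG
  exact hqdvd.1.ne_one hxG.symm

end Cfsg.Agent.S3511
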