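import Cfsg.Statements.S3514
import Mathlib

set_option linter.style.haveILetI false

set_option autoImplicit false
open Cfsg

namespace Cfsg.Agent.S3514

private theorem relIndex_eq {G : Type*} [Group G] [Finite G] (T K : Subgroup G) [K.Normal] :
    T.relIndex (T ⊔ K) = T.relIndex K := by
  have h1 := Subgroup.relIndex_mul_relIndex (T ⊓ K) T (T ⊔ K) inf_le_left le_sup_left
  have h2 := Subgroup.relIndex_mul_relIndex (T ⊓ K) K (T ⊔ K) inf_le_right le_sup_right
  rw [Subgroup.inf_relIndex_left] at h1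
  rw [Subgroup.inf_relIndex_right, Subgroup.relIndex_sup_right] at h2
  rw [← h1, mul_comm (T.relIndex K)] at h2
  exact (Nat.eq_of_mul_eq_mul_left (Nat.pos_of_ne_zero Subgroup.index_ne_zero_of_finite) h2).symm

private theorem card_orbit_eq {G X : Type*} [Group G] [MulAction G X] (K : Subgroup G) (v : X) :
    Nat.card {u : X | ∃ k ∈ K, k • v = u} = (MulAction.stabilizer G v).relIndex K := by
  have hset : {u : X | ∃ k ∈ K, k • v = u} = MulAction.orbit K v := by
    ext u
    exact ⟨fun ⟨k, hk, h⟩ => ⟨⟨k, hk⟩, h⟩, fun ⟨k, h⟩ => ⟨k.1, k.2, h⟩⟩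
  rw [hset, Nat.card_coe_set_eq, ← MulAction.index_stabilizer]
  rfl


/-- Let p be a prime, V a finite vector space over the field with p elements, and H a group of linear transformations of V all of whose orbits on V have size coprime to p. (i) Every normal subgroup K of H has all its orbits on V of size coprime to p. (ii) If N is a group of linear transformations of V of order coprime to p that is normalized by H, then the group generated by N and H has all its orbits on V of size coprime to p. -/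
theorem result (p : ℕ) [Fact p.Prime] {V : Type*} [AddCommGroup V] [Module (ZMod p) V] [Finite V]
    (H : Subgroup (V ≃ₗ[ZMod p] V)) (hH : ∀ v : V, ¬ p ∣ Nat.card {u : V | ∃ h ∈ H, h v = u}) :
    (∀ K : Subgroup (V ≃ₗ[ZMod p] V), K ≤ H → H ≤ Subgroup.normalizer (K : Set (V ≃ₗ[ZMod p] V)) →
        ∀ v : V, ¬ p ∣ Nat.card {u : V | ∃ k ∈ K, k v = u}) ∧
    (∀ N : Subgroup (V ≃ₗ[ZMod p] V), ¬ p ∣ Nat.card N → H ≤ Subgroup.normalizer (N : Set (V ≃ₗ[ZMod p] V)) →
        ∀ v : V, ¬ p ∣ Nat.card {u : V | ∃ x ∈ N ⊔ H, x v = u}) := by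
  classical
  haveI : Finite (V ≃ₗ[ZMod p] V) := DFunLike.finite _
  have hp : p.Prime := Fact.out
  constructor
  · intro K hKH hnorm v
    have h1 := hH v
    rw [show {u : V | ∃ h ∈ H, h v = u} = {u : V | ∃ h ∈ H, h • v = u} from rfl, card_orbit_eq] at h1
    rw [show {u : V | ∃ k ∈ K, k v = u} = {u : V | ∃ k ∈ K, k • v = u} from rfl, card_orbit_eq]
    set S := MulAction.stabilizer (V ≃ₗ[ZMod p] V) v
    haveI : (K.subgroupOf H).Normal := (Subgroup.normal_subgroupOf_iff_le_normalizer hKH).mpr hnorm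
    have h2 := relIndex_eq (S.subgroupOf H) (K.subgroupOf H)
    rw [Subgroup.relIndex_subgroupOf hKH] at h2
    intro hd
    exact h1 (hd.trans (h2 ▸ Subgroup.relIndex_dvd_index_of_le le_sup_left))
  · intro N hN hnorm v
    have h1 := hH v
    rw [show {u : V | ∃ h ∈ H, h v = u} = {u : V | ∃ h ∈ H, h • v = u} from rfl, card_orbit_eq] at h1
    rw [show {u : V | ∃ x ∈ N ⊔ H, x v = u} = {u : V | ∃ x ∈ N ⊔ H, x • v = u} from rfl, card_orbit_eq]
    set S := MulAction.stabilizer (V ≃ₗ[ZMod p] V) v
    haveI : (N.subgroupOf (N ⊔ H)).Normal :=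
      (Subgroup.normal_subgroupOf_iff_le_normalizer le_sup_left).mpr (sup_le Subgroup.le_normalizer hnorm)
    have h2 := relIndex_eq (H.subgroupOf (N ⊔ H)) (N.subgroupOf (N ⊔ H))
    rw [← Subgroup.subgroupOf_sup le_sup_right le_sup_left, sup_comm H N, Subgroup.subgroupOf_self,
      Subgroup.relIndex_top_right, Subgroup.relIndex_subgroupOf le_sup_left] at h2
    have h3 : H.relIndex (N ⊔ H) ∣ Nat.card N := by
      change (H.subgroupOf (N ⊔ H)).index ∣ _
      rw [h2]
      exact Subgroup.index_dvd_card _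
    intro hd
    have h4 : S.relIndex (N ⊔ H) ∣ S.relIndex H * H.relIndex (N ⊔ H) := by
      have := Subgroup.relIndex_mul_relIndex (S ⊓ H) H (N ⊔ H) inf_le_right le_sup_right
      rw [Subgroup.inf_relIndex_right] at this
      rw [this]
      exact Subgroup.relIndex_dvd_of_le_left _ inf_le_left
    rcases (Nat.Prime.dvd_mul hp).mp (hd.trans h4) with h | h
    · exact h1 h
    · exact hN (h.trans h3)

end Cfsg.Agent.S3514
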