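import Cfsg.Statements.S3515
import Cfsg.Agent.Lib.Affine62.Basic

set_option linter.style.haveILetI false

set_option autoImplicit false
open Cfsg

namespace Cfsg.Agent.S3515

private theorem plane_points : ∀ y : Fin 2 → ZMod 2, y = 0 ∨ y = ![1, 0] ∨ y = ![0, 1] ∨ y = ![1, 1] := by decide

/-- Every primitive affine permutation group of degree p² is 3-closed. Let p be a prime and G a group of permutations of the plane V = F_p² consisting of affine maps x ↦ Ax + b, containing all translations, and acting primitively on V. Then any permutation σ of V that agrees on every triple of points with some element of G (σ preserves every G-orbit on ordered triples) already lies in G. -/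
theorem result (p : ℕ) [Fact p.Prime] (G : Subgroup (Equiv.Perm (Fin 2 → ZMod p)))
    (haff : (G : Set (Equiv.Perm (Fin 2 → ZMod p))) ⊆ {τ : Equiv.Perm (Fin 2 → ZMod p) | ∃ (A : (Fin 2 → ZMod p) ≃ₗ[ZMod p] (Fin 2 → ZMod p)) (b : Fin 2 → ZMod p), ∀ x, τ x = A x + b})
    (htrans : ∀ b : Fin 2 → ZMod p, ∃ g ∈ G, ∀ x, g x = x + b) (hprim : MulAction.IsPreprimitive G (Fin 2 → ZMod p))
    (σ : Equiv.Perm (Fin 2 → ZMod p)) (hσ : (∀ t : Fin 3 → (Fin 2 → ZMod p), ∃ g ∈ G, ∀ i, σ (t i) = g (t i))) : σ ∈ G := by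
  obtain ⟨g, hg, hgt⟩ := hσ ![0, ![1, 0], ![0, 1]]
  have h0 : σ 0 = g 0 := hgt 0
  have h1 : σ ![1, 0] = g ![1, 0] := hgt 1
  have h2 : σ ![0, 1] = g ![0, 1] := hgt 2
  suffices h : σ = g by rw [h]; exact hg
  rcases eq_or_ne p 2 with rfl | hp
  · ext1 x
    by_contra hne
    have hx : x = ![1, 1] := by
      have : ∀ y : Fin 2 → ZMod 2, y = 0 ∨ y = ![1, 0] ∨ y = ![0, 1] ∨ y = ![1, 1] := plane_points
      rcases this x with rfl | rfl | rfl | rfl
      · exact absurd h0 hne
      · exact absurd h1 hne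
      · exact absurd h2 hne
      · rfl
    have hother : ∀ y, y ≠ x → σ y = g y := by
      intro y hy
      have : ∀ z : Fin 2 → ZMod 2, z = 0 ∨ z = ![1, 0] ∨ z = ![0, 1] ∨ z = ![1, 1] := plane_points
      rcases this y with rfl | rfl | rfl | rfl
      · exact h0
      · exact h1
      · exact h2
      · exact absurd hx.symm hy
    obtain ⟨y, hy⟩ := σ.surjective (g x)
    rcases eq_or_ne y x with rfl | hyx
    · exact hne hy
    · exact hyx (g.injective ((hother y hyx).symm.trans hy))
  · obtain ⟨B, v, hB⟩ := haff hg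
    obtain ⟨A, b, hA⟩ := Lib.Affine62.affine_of_collinear hp σ fun a c k => by
      obtain ⟨g', hg', hgt'⟩ := hσ ![a, c, a + k • (c - a)]
      obtain ⟨A', v', hA'⟩ := haff hg'
      have e0 : σ a = g' a := hgt' 0
      have e1 : σ c = g' c := hgt' 1
      have e2 : σ (a + k • (c - a)) = g' (a + k • (c - a)) := hgt' 2
      rw [e0, e1, e2, hA', hA', hA', map_add, map_smul, map_sub, add_sub_add_right_eq_sub]
      abel
    rw [hA, hB, map_zero, map_zero, zero_add, zero_add] at h0
    subst h0
    rw [hA, hB, add_left_inj] at h1 h2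
    ext1 x
    rw [hA, hB, add_left_inj]
    rw [show x = x 0 • ![1, 0] + x 1 • ![0, 1] by ext i; fin_cases i <;> simp]
    simp only [map_add, map_smul, h1, h2]

end Cfsg.Agent.S3515
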