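import Cfsg.Statements.S3516
import Cfsg.Agent.Lib.Affine62.Basic

set_option linter.style.haveILetI false

set_option autoImplicit false
open Cfsg

namespace Cfsg.Agent.S3516

/-- Let p be an odd prime, d ≥ 3, and G a group of affine permutations x ↦ Ax + b of V = F_p^d containing all translations and all maps x ↦ Ax with A of determinant 1. Then the 3-closure of G is the full affine group: a permutation σ of V agrees on every triple of points with some element of G if and only if σ is an affine map. -/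
theorem result (p : ℕ) [Fact p.Prime] (hp : p ≠ 2) (d : ℕ) (hd : 3 ≤ d) (G : Subgroup (Equiv.Perm (Fin d → ZMod p)))
    (haff : (G : Set (Equiv.Perm (Fin d → ZMod p))) ⊆ {τ : Equiv.Perm (Fin d → ZMod p) | ∃ (A : (Fin d → ZMod p) ≃ₗ[ZMod p] (Fin d → ZMod p)) (b : Fin d → ZMod p), ∀ x, τ x = A x + b})
    (htrans : ∀ b : Fin d → ZMod p, ∃ g ∈ G, ∀ x, g x = x + b)
    (hsl : ∀ A : (Fin d → ZMod p) ≃ₗ[ZMod p] (Fin d → ZMod p), LinearMap.det (A : (Fin d → ZMod p) →ₗ[ZMod p] (Fin d → ZMod p)) = 1 → ∃ g ∈ G, ∀ x, g x = A x)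
    (σ : Equiv.Perm (Fin d → ZMod p)) :
    (∀ t : Fin 3 → (Fin d → ZMod p), ∃ g ∈ G, ∀ i, σ (t i) = g (t i)) ↔ σ ∈ {τ : Equiv.Perm (Fin d → ZMod p) | ∃ (A : (Fin d → ZMod p) ≃ₗ[ZMod p] (Fin d → ZMod p)) (b : Fin d → ZMod p), ∀ x, τ x = A x + b} := by
  constructor
  · intro h
    refine Lib.Affine62.affine_of_collinear hp σ fun a b c => ?_
    obtain ⟨g, hg, hgt⟩ := h ![a, b, a + c • (b - a)]
    obtain ⟨A, v, hA⟩ := haff hg
    have h0 : σ a = g a := hgt 0
    have h1 : σ b = g b := hgt 1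
    have h2 : σ (a + c • (b - a)) = g (a + c • (b - a)) := hgt 2
    rw [h0, h1, h2, hA, hA, hA, map_add, map_smul, map_sub, add_sub_add_right_eq_sub]
    abel
  · rintro ⟨A, b, hA⟩ t
    set W := Submodule.span (ZMod p) (Set.range ![t 1 - t 0, t 2 - t 0]) with hW
    have hWne : W ≠ ⊤ := by
      intro h
      have h1 : Module.finrank (ZMod p) W ≤ 2 := by
        have := finrank_range_le_card (R := ZMod p) ![t 1 - t 0, t 2 - t 0]
        simpa [Set.finrank] using this
      rw [h, finrank_top, Module.finrank_fin_fun] at h1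
      omega
    obtain ⟨B, hB, hBW⟩ := Lib.Affine62.exists_det_one A W hWne
    obtain ⟨gB, hgB, hgB'⟩ := hsl B hB
    obtain ⟨gT, hgT, hgT'⟩ := htrans (σ (t 0) - B (t 0))
    refine ⟨gT * gB, mul_mem hgT hgB, fun i => ?_⟩
    rw [Equiv.Perm.mul_apply, hgB', hgT']
    have hm : t i - t 0 ∈ W := by
      match i with
      | 0 => rw [sub_self]; exact W.zero_mem
      | 1 => exact Submodule.subset_span ⟨0, rfl⟩
      | 2 => exact Submodule.subset_span ⟨1, rfl⟩
    have h2 := hBW _ hm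
    rw [map_sub, map_sub] at h2
    rw [hA, hA, show B (t i) = B (t 0) + (A (t i) - A (t 0)) by rw [← h2]; abel]
    abel

end Cfsg.Agent.S3516
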