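import Cfsg.Statements.S3517
import Cfsg.Agent.Lib.Affine62.Basic

set_option linter.style.haveILetI false

set_option autoImplicit false
open Cfsg

namespace Cfsg.Agent.S3517

private theorem two_values : ∀ a : ZMod 2, a = 0 ∨ a = 1 := by decide

/-- For d ≥ 3, the 3-closure of the affine group AGL_d(2) acting on F_2^d is the full symmetric group: every permutation of F_2^d agrees on every ordered triple of points with some affine map (AGL_d(2) is 3-transitive). -/
theorem result (d : ℕ) (hd : 3 ≤ d) (σ : Equiv.Perm (Fin d → ZMod 2)) (t : Fin 3 → (Fin d → ZMod 2)) :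
    ∃ (A : (Fin d → ZMod 2) ≃ₗ[ZMod 2] (Fin d → ZMod 2)) (b : Fin d → ZMod 2), ∀ i, σ (t i) = A (t i) + b := by
  haveI : Fact (Nat.Prime 2) := ⟨Nat.prime_two⟩
  have key : ∀ a b : Fin d → ZMod 2, a + b = 0 ↔ a = b := fun a b => by
    rw [add_eq_zero_iff_eq_neg, show -b = b from funext fun i => ZMod.neg_eq_self_mod_two _]
  have hiff : ∀ i j, t i - t j = 0 ↔ σ (t i) - σ (t j) = 0 := fun i j => by
    rw [sub_eq_zero, sub_eq_zero, σ.injective.eq_iff]
  obtain ⟨A, hA⟩ := Lib.Affine62.exists_equiv_of_relations (F := ZMod 2) (ι := Fin 2)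
    ![t 1 - t 0, t 2 - t 0] ![σ (t 1) - σ (t 0), σ (t 2) - σ (t 0)] (fun c => by
      have hc : ∀ a : ZMod 2, a = 0 ∨ a = 1 := two_values
      simp only [Fin.sum_univ_two, Matrix.cons_val_zero, Matrix.cons_val_one]
      rcases hc (c 0) with h0 | h0 <;> rcases hc (c 1) with h1 | h1 <;>
        simp only [h0, h1, zero_smul, one_smul, add_zero, zero_add]
      · exact hiff 2 0
      · exact hiff 1 0
      · rw [key, key, sub_left_inj, sub_left_inj, σ.injective.eq_iff])
  refine ⟨A, σ (t 0) - A (t 0), fun i => ?_⟩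
  have h1 : A (t 1 - t 0) = σ (t 1) - σ (t 0) := hA 0
  have h2 : A (t 2 - t 0) = σ (t 2) - σ (t 0) := hA 1
  rw [map_sub] at h1 h2
  match i with
  | 0 => abel
  | 1 => rw [← sub_add_cancel (σ (t 1)) (σ (t 0)), ← h1]; abel
  | 2 => rw [← sub_add_cancel (σ (t 2)) (σ (t 0)), ← h2]; abel

end Cfsg.Agent.S3517
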