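import Cfsg.Statements.S3518
import Mathlib

set_option linter.style.haveILetI false

set_option autoImplicit false
open Cfsg

namespace Cfsg.Agent.S3518

open Polynomial in
/-- A map whose difference quotients lie in a proper subgroup of the units is affine. -/
private theorem affine_of_quotients (p : ℕ) [Fact p.Prime] (M : Subgroup (ZMod p)ˣ) (hM : M ≠ ⊤)
    (σ : Equiv.Perm (ZMod p))
    (hσ : ∀ x y, x ≠ y → ∃ a ∈ M, σ x - σ y = (a : ZMod p) * (x - y)) :
    ∃ a b : ZMod p, ∀ x, σ x = a * x + b := by
  classical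
  have hp : p.Prime := Fact.out
  set m := Fintype.card M with hm
  have hmpos : 0 < m := Fintype.card_pos
  have h2m : 2 * m ≤ p - 1 := by
    have h1 : M.index * Nat.card M = p - 1 := by
      rw [Subgroup.index_mul_card, Nat.card_eq_fintype_card, ZMod.card_units p]
    rw [Nat.card_eq_fintype_card, ← hm] at h1
    have h2 : 2 ≤ M.index := by
      have h3 : M.index ≠ 1 := fun h => hM (Subgroup.index_eq_one.mp h)
      have h4 : M.index ≠ 0 := Subgroup.index_ne_zero_of_finite
      omega
    calc 2 * m ≤ M.index * m := Nat.mul_le_mul_right _ h2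
      _ = p - 1 := h1
  -- power sums
  let S : ℕ → ZMod p := fun j => ∑ u : M, ((u : (ZMod p)ˣ) : ZMod p) ^ j
  have hS0 : ∀ j, 0 < j → j < m → S j = 0 := by
    intro j hj0 hjm
    obtain ⟨g, hg⟩ : ∃ g : M, ((g : (ZMod p)ˣ) : ZMod p) ^ j ≠ 1 := by
      by_contra h
      push Not at h
      have hsub : (Finset.univ.image fun u : M => ((u : (ZMod p)ˣ) : ZMod p)).val ⊆
          Polynomial.nthRoots j (1 : ZMod p) := by
        intro x hx
        obtain ⟨u, -, rfl⟩ := Finset.mem_image.mp (Finset.mem_val.mp hx)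
        exact (Polynomial.mem_nthRoots hj0).mpr (h u)
      have h1 := (Multiset.card_le_card ((Multiset.le_iff_subset (Finset.nodup _)).mpr hsub)).trans
        (Polynomial.card_nthRoots j (1 : ZMod p))
      rw [Finset.card_val, Finset.card_image_of_injective _ (fun a b h => Subtype.ext (Units.ext h)),
        Finset.card_univ] at h1
      omega
    have h1 : S j = ((g : (ZMod p)ˣ) : ZMod p) ^ j * S j := by
      simp only [S]
      rw [Finset.mul_sum]
      refine (Fintype.sum_bijective (fun u => g * u) (Group.mulLeft_bijective g) _ _ fun u => ?_).symm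
      rw [Subgroup.coe_mul, Units.val_mul, mul_pow]
    by_contra hne
    exact hg (mul_right_cancel₀ hne (h1.symm.trans (one_mul _).symm))
  have hSm : S m = (m : ZMod p) := by
    have : ∀ u : M, ((u : (ZMod p)ˣ) : ZMod p) ^ m = 1 := fun u => by
      rw [← Units.val_pow_eq_pow_val, ← Subgroup.coe_pow, hm, pow_card_eq_one]
      simp
    simp only [S, this, Finset.sum_const, Finset.card_univ, ← hm, nsmul_eq_mul, mul_one]
  -- translating by `M`
  have hperm : ∀ x (w : ℕ), ∑ u : M, σ (x + ((u : (ZMod p)ˣ) : ZMod p)) ^ w =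
      ∑ u : M, (σ x + ((u : (ZMod p)ˣ) : ZMod p)) ^ w := by
    intro x w
    have hex : ∀ u : M, ∃ v : M, σ (x + ((u : (ZMod p)ˣ) : ZMod p)) = σ x + ((v : (ZMod p)ˣ) : ZMod p) := by
      intro u
      obtain ⟨a, ha, h⟩ := hσ (x + ((u : (ZMod p)ˣ) : ZMod p)) x (by simp)
      refine ⟨⟨a * u.1, M.mul_mem ha u.2⟩, ?_⟩
      rw [Units.val_mul]
      linear_combination h
    choose v hv using hex
    have hinj : Function.Injective v := fun a b hab => by
      have := hv a
      rw [hab, ← hv b] at this
      exact Subtype.ext (Units.ext (add_left_cancel (σ.injective this)))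
    exact Fintype.sum_bijective v (Finite.injective_iff_bijective.mp hinj) _ _ fun u => by rw [hv]
  have heig : ∀ x (w : ℕ), w < m →
      ∑ u : M, σ (x + ((u : (ZMod p)ˣ) : ZMod p)) ^ w = (m : ZMod p) * σ x ^ w := by
    intro x w hw
    rw [hperm]
    simp only [add_pow]
    rw [Finset.sum_comm, Finset.sum_eq_single w]
    · simp [← hm, Finset.card_univ, nsmul_eq_mul]
    · intro j hj hjw
      have hj' : j < w := by rw [Finset.mem_range] at hj; omega
      rw [← Finset.sum_mul, ← Finset.mul_sum]
      show σ x ^ j * S (w - j) * _ = 0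
      rw [hS0 (w - j) (by omega) (by omega)]
      ring
    · intro h; simp at h
  -- polynomials of degree below `p` in that eigenspace have degree below `m`
  have hzero : ∀ P : (ZMod p)[X], P.natDegree < p → (∀ x, P.eval x = 0) → P = 0 := fun P hP h =>
    Polynomial.eq_zero_of_natDegree_lt_card_of_eval_eq_zero P (ι := ZMod p) Function.injective_id h
      (by rwa [ZMod.card])
  have hdeg : ∀ h : (ZMod p)[X], h.natDegree < p →
      (∀ x, ∑ u : M, h.eval (x + ((u : (ZMod p)ˣ) : ZMod p)) = (m : ZMod p) * h.eval x) → h.natDegree < m := by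
    intro h hhp heq
    by_contra hlt
    rw [not_lt] at hlt
    set k := h.natDegree with hk
    let Q : (ZMod p)[X] := (∑ u : M, h.comp (X + C ((u : (ZMod p)ˣ) : ZMod p))) - C (m : ZMod p) * h
    have hQ : Q = 0 := by
      refine hzero Q ?_ fun x => ?_
      · refine lt_of_le_of_lt ?_ hhp
        refine (natDegree_sub_le _ _).trans (max_le ?_ (natDegree_C_mul_le _ _))
        refine natDegree_sum_le_of_forall_le _ _ fun u _ => ?_
        refine natDegree_comp_le.trans ?_
        rw [natDegree_X_add_C, mul_one]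
      · simp only [Q, eval_sub, eval_mul, eval_C, eval_finsetSum, eval_comp, eval_add, eval_X, heq, sub_self]
    have hc : ∀ (u : ZMod p) (n : ℕ), (h.comp (X + C u)).coeff n =
        ∑ i ∈ Finset.range (k + 1), h.coeff i * (u ^ (i - n) * (i.choose n : ZMod p)) := by
      intro u n
      conv_lhs => rw [h.as_sum_range_C_mul_X_pow, sum_comp]
      rw [finsetSum_coeff]
      refine Finset.sum_congr rfl fun i _ => ?_
      rw [mul_comp, C_comp, pow_comp, X_comp, coeff_C_mul, coeff_X_add_C_pow]
    have h0 := congrArg (fun P : (ZMod p)[X] => P.coeff (k - m)) hQ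
    simp only [Q, coeff_sub, coeff_zero, finsetSum_coeff, hc, coeff_C_mul] at h0
    rw [Finset.sum_comm] at h0
    have hterm : ∀ i ∈ Finset.range (k + 1), (∑ u : M, h.coeff i *
        ((((u : (ZMod p)ˣ) : ZMod p)) ^ (i - (k - m)) * (i.choose (k - m) : ZMod p))) =
        h.coeff i * (S (i - (k - m)) * (i.choose (k - m) : ZMod p)) := by
      intro i _
      simp only [S, Finset.sum_mul, Finset.mul_sum]
    rw [Finset.sum_congr rfl hterm, Finset.sum_range_succ,
      Finset.sum_eq_single (k - m)] at h0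
    · rw [Nat.sub_self, Nat.choose_self, show k - (k - m) = m by omega, hSm] at h0
      have hS00 : S 0 = (m : ZMod p) := by simp [S, ← hm]
      rw [hS00] at h0
      have h1 : h.coeff k * ((m : ZMod p) * (k.choose (k - m) : ZMod p)) = 0 := by
        push_cast at h0
        linear_combination h0
      have hcz : ∀ n : ℕ, ¬ p ∣ n → (n : ZMod p) ≠ 0 := fun n hn h => hn ((ZMod.natCast_eq_zero_iff n p).mp h)
      have hne : h.coeff k ≠ 0 := by
        rw [hk]
        exact leadingCoeff_ne_zero.mpr fun h0 => by simp [hk, h0] at hlt; omega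
      refine mul_ne_zero hne (mul_ne_zero (hcz m ?_) (hcz _ ?_)) h1
      · exact fun hd => absurd (Nat.le_of_dvd hmpos hd) (by omega)
      · intro hd
        have := (Nat.choose_mul_factorial_mul_factorial (show k - m ≤ k by omega))
        have h2 : p ∣ k.factorial := this ▸ (hd.mul_right _).mul_right _
        have := hp.dvd_factorial.mp h2
        omega
    · intro i hi hne
      rw [Finset.mem_range] at hi
      rcases lt_or_gt_of_ne hne with hlt' | hgt
      · rw [Nat.choose_eq_zero_of_lt hlt']; simp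
      · rw [hS0 _ (by omega) (by omega)]; simp
    · intro hnot
      exact absurd (Finset.mem_range.mpr (by omega)) hnot
  -- conclusion
  rcases eq_or_ne m 1 with h1 | h1
  · refine ⟨1, σ 0, fun x => ?_⟩
    rcases eq_or_ne x 0 with rfl | hx
    · simp
    · obtain ⟨a, ha, h⟩ := hσ x 0 hx
      have : (⟨a, ha⟩ : M) = 1 := (Fintype.card_eq_one_iff.mp (hm ▸ h1)).elim fun z hz => (hz _).trans (hz _).symm
      rw [show a = 1 from congrArg Subtype.val this] at h
      simp only [Units.val_one] at h
      linear_combination h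
  · set f := Lagrange.interpolate (Finset.univ : Finset (ZMod p)) id σ with hf
    have hfe : ∀ x, f.eval x = σ x := fun x =>
      Lagrange.eval_interpolate_at_node _ Function.injective_id.injOn (Finset.mem_univ x)
    have hfd : f.natDegree < p := by
      rcases eq_or_ne f 0 with h0 | h0
      · rw [h0]; simpa using hp.pos
      · rw [natDegree_lt_iff_degree_lt h0]
        have := Lagrange.degree_interpolate_lt (s := (Finset.univ : Finset (ZMod p))) (v := id) σ Function.injective_id.injOn
        rwa [Finset.card_univ, ZMod.card] at this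
    have hpow : ∀ w, w < m → (f ^ w).natDegree < m := by
      intro w
      induction w with
      | zero => intro h; simpa using h
      | succ w ih =>
        intro hw
        have hfm : f.natDegree < m := hdeg f hfd fun x => by
          simp only [hfe]
          simpa using heig x 1 (by omega)
        refine hdeg _ ?_ fun x => ?_
        · have h3 := (ih (by omega))
          have h4 : (f ^ (w + 1)).natDegree ≤ (f ^ w).natDegree + f.natDegree := by
            rw [pow_succ]; exact natDegree_mul_le
          omega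
        · simp only [eval_pow, hfe]
          exact heig x (w + 1) hw
    have := hpow (m - 1) (by omega)
    rw [natDegree_pow] at this
    have hle : f.natDegree ≤ 1 := by
      by_contra hgt
      have : (m - 1) * 2 ≤ (m - 1) * f.natDegree := Nat.mul_le_mul_left _ (by omega)
      omega
    refine ⟨f.coeff 1, f.coeff 0, fun x => ?_⟩
    rw [← hfe, eq_X_add_C_of_natDegree_le_one hle]
    simp


/-- Closures of subgroups of the one-dimensional affine group. Let p be a prime and G a group of permutations of F_p lying in the affine group AGL₁(p) = {x ↦ ax + b, a ≠ 0} and containing all translations. (1) If G is a proper subgroup of AGL₁(p), then G is 2-closed: a permutation of F_p agreeing on every ordered pair of points with some element of G lies in G. (2) Every permutation of F_p agrees on every ordered pair with some element of AGL₁(p) (the 2-closure of AGL₁(p) is the symmetric group). (3) AGL₁(p) is 3-closed: a permutation agreeing on every ordered triple with some affine map is affine. -/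
theorem result (p : ℕ) [Fact p.Prime] (G : Subgroup (Equiv.Perm (ZMod p))) (hG : G ≤ Cfsg.affineGroup (ZMod p))
    (htrans : ∀ b : ZMod p, ∃ g ∈ G, ∀ x, g x = x + b) :
    (G ≠ Cfsg.affineGroup (ZMod p) → ∀ σ : Equiv.Perm (ZMod p), (∀ t : Fin 2 → ZMod p, ∃ g ∈ G, ∀ i, σ (t i) = g (t i)) → σ ∈ G) ∧
    (∀ σ : Equiv.Perm (ZMod p), (∀ t : Fin 2 → ZMod p, ∃ g ∈ Cfsg.affineGroup (ZMod p), ∀ i, σ (t i) = g (t i))) ∧
    (∀ σ : Equiv.Perm (ZMod p), (∀ t : Fin 3 → ZMod p, ∃ g ∈ Cfsg.affineGroup (ZMod p), ∀ i, σ (t i) = g (t i)) → σ ∈ Cfsg.affineGroup (ZMod p)) := by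
  classical
  refine ⟨fun hne σ hσ => ?_, fun σ t => ?_, fun σ hσ => ?_⟩
  · let M : Subgroup (ZMod p)ˣ :=
      { carrier := {a | ∃ g ∈ G, ∀ x, g x = (a : ZMod p) * x}
        one_mem' := ⟨1, G.one_mem, fun x => by simp⟩
        mul_mem' := fun {a b} ⟨g, hg, hg'⟩ ⟨h, hh, hh'⟩ => ⟨g * h, G.mul_mem hg hh, fun x => by
          rw [Equiv.Perm.mul_apply, hh', hg', Units.val_mul, mul_assoc]⟩
        inv_mem' := fun {a} ⟨g, hg, hg'⟩ => ⟨g⁻¹, G.inv_mem hg, fun x => by
          rw [Equiv.Perm.inv_eq_iff_eq, hg', Units.mul_inv_cancel_left]⟩ }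
    have hlin : ∀ g ∈ G, ∀ (a : (ZMod p)ˣ) (b : ZMod p), (∀ x, g x = (a : ZMod p) * x + b) → a ∈ M := by
      intro g hg a b hab
      obtain ⟨t, ht, ht'⟩ := htrans (-b)
      refine ⟨t * g, G.mul_mem ht hg, fun x => ?_⟩
      rw [Equiv.Perm.mul_apply, ht', hab]
      ring
    have hmem : ∀ τ : Equiv.Perm (ZMod p), ∀ a ∈ M, ∀ b, (∀ x, τ x = ((a : (ZMod p)ˣ) : ZMod p) * x + b) → τ ∈ G := by
      rintro τ a ⟨g, hg, hg'⟩ b hτ
      obtain ⟨t, ht, ht'⟩ := htrans b
      have : τ = t * g := Equiv.ext fun x => by rw [Equiv.Perm.mul_apply, ht', hg', hτ]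
      exact this ▸ G.mul_mem ht hg
    have hM : M ≠ ⊤ := by
      intro h
      refine hne (le_antisymm hG ?_)
      rintro τ ⟨a, b, hτ⟩
      exact hmem τ a (h ▸ Subgroup.mem_top a) b hτ
    have hq : ∀ x y, x ≠ y → ∃ a ∈ M, σ x - σ y = ((a : (ZMod p)ˣ) : ZMod p) * (x - y) := by
      intro x y _
      obtain ⟨g, hg, hgt⟩ := hσ ![x, y]
      obtain ⟨a, b, hab⟩ := hG hg
      refine ⟨a, hlin g hg a b hab, ?_⟩
      have h0 : σ x = g x := hgt 0
      have h1 : σ y = g y := hgt 1
      rw [h0, h1, hab, hab]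
      ring
    obtain ⟨a, b, hab⟩ := affine_of_quotients p M hM σ hq
    obtain ⟨c, hc, hcc⟩ := hq 1 0 one_ne_zero
    refine hmem σ c hc b fun x => ?_
    rw [hab, hab] at hcc
    rw [hab]
    linear_combination x * hcc
  · have hdiff : t 1 - t 0 ≠ 0 → σ (t 1) - σ (t 0) ≠ 0 := fun h h' =>
      h (sub_eq_zero.mpr (σ.injective (sub_eq_zero.mp h')))
    obtain ⟨a, ha⟩ : ∃ a : (ZMod p)ˣ, σ (t 1) - σ (t 0) = (a : ZMod p) * (t 1 - t 0) := by
      rcases eq_or_ne (t 1 - t 0) 0 with h | h
      · exact ⟨1, by rw [sub_eq_zero.mp h]; simp⟩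
      · exact ⟨Units.mk0 _ (div_ne_zero (hdiff h) h), (div_mul_cancel₀ _ h).symm⟩
    let e : Equiv.Perm (ZMod p) := (Units.mulLeft a).trans (Equiv.addRight (σ (t 0) - a * t 0))
    refine ⟨e, ⟨a, σ (t 0) - a * t 0, fun x => rfl⟩, fun i => ?_⟩
    show σ (t i) = (a : ZMod p) * t i + (σ (t 0) - a * t 0)
    match i with
    | 0 => ring
    | 1 => linear_combination ha
  · have hd : σ 1 - σ 0 ≠ 0 := fun h => one_ne_zero (σ.injective (sub_eq_zero.mp h))
    refine ⟨Units.mk0 _ hd, σ 0, fun x => ?_⟩
    obtain ⟨g, ⟨a, b, hab⟩, hgt⟩ := hσ ![0, 1, x]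
    have h0 : σ 0 = g 0 := hgt 0
    have h1 : σ 1 = g 1 := hgt 1
    have h2 : σ x = g x := hgt 2
    rw [hab] at h0 h1 h2
    rw [Units.val_mk0, h2, h1, h0]
    ring

end Cfsg.Agent.S3518
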