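import Cfsg.Statements.S3520
import Cfsg.Agent.Lib.Primitive62.PowerSocle
import Cfsg.Agent.Lib.Primitive62.Sharp

set_option linter.style.haveILetI false

set_option autoImplicit false
open Cfsg

namespace Cfsg.Agent.S3520

/-- Let a finite group G act faithfully and primitively on a finite set Ω with at least two points, suppose G is not almost simple (no non-abelian simple normal subgroup with trivial centralizer), and suppose the derangements of G form exactly two conjugacy classes. Then either Ω has 3 points and G has order 3; or G has a non-trivial abelian normal subgroup N acting regularly, every non-identity element of G fixes at most one point (so, when n > 3, G is a Frobenius group with kernel N), the number n of points is odd and a point stabilizer has order (n − 1)/2; or G is 2-transitive with a non-trivial abelian regular normal subgroup and some non-identity element fixes at least two points (a non-Frobenius 2-transitive affine group). -/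
theorem result {G : Type*} [Group G] [Finite G] {Ω : Type*} [Fintype Ω] [MulAction G Ω] [FaithfulSMul G Ω] (hΩ : 2 ≤ Fintype.card Ω) (hprim : MulAction.IsPreprimitive G Ω) (hnas : ¬ ∃ T : Subgroup G, T.Normal ∧ IsSimpleGroup T ∧ ¬ IsMulCommutative T ∧ Subgroup.centralizer (T : Set G) = ⊥)
    (hκ : Nat.card {c : ConjClasses G // ∃ g : G, ConjClasses.mk g = c ∧ ∀ ω : Ω, g • ω ≠ ω} = 2) (α : Ω) :
    (Fintype.card Ω = 3 ∧ Nat.card G = 3) ∨
    ((∃ N : Subgroup G, N.Normal ∧ N ≠ ⊥ ∧ IsMulCommutative N ∧ ∀ ω : Ω, MulAction.stabilizer N ω = ⊥) ∧ (∀ g : G, g ≠ 1 → Nat.card (MulAction.fixedBy Ω g) ≤ 1) ∧ ¬ 2 ∣ Fintype.card Ω ∧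
        2 * Nat.card (MulAction.stabilizer G α) = Fintype.card Ω - 1) ∨
    ((∃ N : Subgroup G, N.Normal ∧ N ≠ ⊥ ∧ IsMulCommutative N ∧ ∀ ω : Ω, MulAction.stabilizer N ω = ⊥) ∧ MulAction.IsMultiplyPretransitive G Ω 2 ∧ ∃ g : G, g ≠ 1 ∧ 2 ≤ Nat.card (MulAction.fixedBy Ω g)) := by
  classical
  haveI := hprim
  haveI : Nontrivial Ω := Fintype.one_lt_card_iff_nontrivial.mp hΩ
  let Cl := {c : ConjClasses G // ∃ g : G, ConjClasses.mk g = c ∧ ∀ ω : Ω, g • ω ≠ ω}
  let cl : ∀ x : G, (∀ ω : Ω, x • ω ≠ ω) → Cl := fun x hx => ⟨ConjClasses.mk x, x, rfl, hx⟩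
  have hconj : ∀ x y hx hy, cl x hx = cl y hy → IsConj x y := fun x y hx hy h =>
    ConjClasses.mk_eq_mk_iff_isConj.mp (congrArg Subtype.val h)
  rcases Lib.Primitive62.primitive_cases (G := G) (Ω := Ω) with
    ⟨N, r, hr, hNn, hN, hc, -, hNt, hreg⟩ | hAS | ⟨N, hNn, hNt, -, S, iS, iSs, iSf, k, hk, hS, ⟨e⟩, hcase⟩
  swap
  · exact absurd hAS hnas
  swap
  · obtain ⟨f, hf, hinj⟩ := Lib.Primitive62.three_derangement_classes (Ω := Ω) hS e hk hcase
    have hle := Nat.card_le_card_of_injective (fun l => cl (f l) (hf l))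
      fun l m h => hinj l m (hconj (f l) (f m) (hf l) (hf m) h)
    rw [Nat.card_fin] at hle
    change 3 ≤ Nat.card {c : ConjClasses G // ∃ g : G, ConjClasses.mk g = c ∧ ∀ ω : Ω, g • ω ≠ ω} at hle
    omega
  have haff : ∃ N : Subgroup G, N.Normal ∧ N ≠ ⊥ ∧ IsMulCommutative N ∧
      ∀ ω : Ω, MulAction.stabilizer N ω = ⊥ := ⟨N, hNn, hN, hc, hreg⟩
  have hder : ∀ n ∈ N, n ≠ 1 → ∀ ω : Ω, n • ω ≠ ω := fun n hn hn1 ω hω =>
    hn1 (Lib.Perm.stabilizer_subgroup_eq_bot_iff.mp (hreg ω) n hn hω)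
  by_cases hallN : ∀ m n : G, m ∈ N → n ∈ N → m ≠ 1 → n ≠ 1 → IsConj m n
  · have h2 := Lib.Primitive62.two_transitive_of_conjugate (Ω := Ω) N hallN
    refine Or.inr (Or.inr ⟨haff, h2, ?_⟩)
    by_contra hno
    push Not at hno
    have := Lib.Primitive62.card_derangementClasses_of_sharp h2
      (Lib.Primitive62.smul_ne_of_fixedBy_le_one fun g hg => Nat.lt_succ_iff.mp (hno g hg))
    omega
  push Not at hallN
  obtain ⟨m, n, hm, hn, hm1, hn1, hmn⟩ := hallN
  -- the two classes lie in `N`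
  have hne : cl m (hder m hm hm1) ≠ cl n (hder n hn hn1) := fun h => hmn (hconj m n (hder m hm hm1) (hder n hn hn1) h)
  have hclasses : ∀ c : Cl, c = cl m (hder m hm hm1) ∨ c = cl n (hder n hn hn1) := by
    haveI : Fintype Cl := Fintype.ofFinite _
    have huniv : ({cl m (hder m hm hm1), cl n (hder n hn hn1)} : Finset Cl) = Finset.univ := by
      apply Finset.eq_univ_of_card
      rw [Finset.card_pair hne, ← Nat.card_eq_fintype_card]
      exact hκ.symm
    intro c
    have := huniv ▸ Finset.mem_univ c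
    simpa using this
  have hsub : ∀ g : G, (∀ ω : Ω, g • ω ≠ ω) → g ∈ N := by
    intro g hg
    rcases hclasses (cl g hg) with h | h
    · obtain ⟨c, hc'⟩ := isConj_iff.mp (hconj g m hg (hder m hm hm1) h).symm
      exact hc' ▸ hNn.conj_mem _ hm c
    · obtain ⟨c, hc'⟩ := isConj_iff.mp (hconj g n hg (hder n hn hn1) h).symm
      exact hc' ▸ hNn.conj_mem _ hn c
  have hfix := Lib.Primitive62.fixedBy_le_one_of_derangements_subset N hreg hsub
  let H := MulAction.stabilizer G α
  -- derangements correspond to two copies of the stabilizer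
  let x : Bool → G := fun b => cond b m n
  have hxN : ∀ b, x b ∈ N := fun b => by cases b <;> assumption
  have hx1 : ∀ b, x b ≠ 1 := fun b => by cases b <;> assumption
  have key : ∀ (b : Bool) (h : H),
      ((h : G) * x b * (h : G)⁻¹) ∈ N ∧ (h : G) * x b * (h : G)⁻¹ ≠ 1 := fun b h =>
    ⟨hNn.conj_mem _ (hxN b) _, by simpa using hx1 b⟩
  have hbij : Function.Bijective fun bh : Bool × H =>
      (⟨(bh.2 : G) * x bh.1 * (bh.2 : G)⁻¹, key bh.1 bh.2⟩ : {y : G // y ∈ N ∧ y ≠ 1}) := by
    constructor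
    · rintro ⟨b, h⟩ ⟨b', h'⟩ heq
      have he : (h : G) * x b * (h : G)⁻¹ = (h' : G) * x b' * (h' : G)⁻¹ := congrArg Subtype.val heq
      have hbb : b = b' := by
        have hcj : IsConj (x b) (x b') :=
          (isConj_iff.mpr ⟨(h : G), he⟩).trans
            (isConj_iff.mpr ⟨(h' : G), rfl⟩ : IsConj (x b') ((h' : G) * x b' * (h' : G)⁻¹)).symm
        cases b <;> cases b' <;> first | rfl | exact absurd hcj hmn | exact absurd hcj.symm hmn
      subst hbb
      refine Prod.ext rfl (Subtype.ext ?_)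
      by_contra hne'
      have hne'' : (h : G) ≠ h' := hne'
      set c := (h' : G)⁻¹ * (h : G) with hc'
      have hc1 : c ≠ 1 := fun e => hne'' (inv_mul_eq_one.mp e).symm
      have hcα : c • α = α := H.mul_mem (H.inv_mem h'.2) h.2
      have hcx : c * x b = x b * c := by
        rw [hc']
        calc (h' : G)⁻¹ * h * x b = (h' : G)⁻¹ * ((h : G) * x b * (h : G)⁻¹) * h := by group
          _ = (h' : G)⁻¹ * ((h' : G) * x b * (h' : G)⁻¹) * h := by rw [he]
          _ = x b * ((h' : G)⁻¹ * h) := by group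
      refine Lib.Primitive62.smul_ne_of_fixedBy_le_one hfix c hc1 α (x b • α)
        (Ne.symm (hder _ (hxN b) (hx1 b) α)) hcα ?_
      rw [← mul_smul, hcx, mul_smul, hcα]
    · rintro ⟨y, hy, hy1⟩
      obtain ⟨b, hb⟩ : ∃ b, IsConj (x b) y := by
        rcases hclasses (cl y (hder y hy hy1)) with h | h
        · exact ⟨true, (hconj y m (hder y hy hy1) (hder m hm hm1) h).symm⟩
        · exact ⟨false, (hconj y n (hder y hy hy1) (hder n hn hn1) h).symm⟩
      obtain ⟨g, hg⟩ := isConj_iff.mp hb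
      obtain ⟨l, hl, hlα⟩ := Lib.Perm.exists_mem_smul_eq N α (g • α)
      refine ⟨(b, ⟨l⁻¹ * g, ?_⟩), Subtype.ext ?_⟩
      · show (l⁻¹ * g) • α = α
        rw [mul_smul, ← hlα, inv_smul_smul]
      · show l⁻¹ * g * x b * (l⁻¹ * g)⁻¹ = y
        have hly : y * l = l * y := congrArg Subtype.val (mul_comm' (⟨y, hy⟩ : N) ⟨l, hl⟩)
        calc l⁻¹ * g * x b * (l⁻¹ * g)⁻¹ = l⁻¹ * (g * x b * g⁻¹) * l := by group
          _ = l⁻¹ * (y * l) := by rw [hg]; group
          _ = y := by rw [hly, inv_mul_cancel_left]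
  have hcard := Nat.card_congr (Equiv.ofBijective _ hbij)
  rw [Nat.card_prod, Nat.card_eq_fintype_card (α := Bool), Fintype.card_bool] at hcard
  have hN' : Nat.card {y : G // y ∈ N ∧ y ≠ 1} + 1 = Nat.card N := by
    letI : Fintype G := Fintype.ofFinite G
    rw [Nat.card_eq_fintype_card, Nat.card_eq_fintype_card, Fintype.card_subtype, Fintype.card_subtype,
      ← Finset.filter_filter, Finset.filter_ne',
      Finset.card_erase_add_one (Finset.mem_filter.mpr ⟨Finset.mem_univ _, N.one_mem⟩)]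
  rw [Lib.Perm.card_eq_of_regular N (hreg α), Nat.card_eq_fintype_card (α := Ω)] at hN'
  refine Or.inr (Or.inl ⟨haff, hfix, ?_, ?_⟩)
  · rintro ⟨j, hj⟩
    rw [hj] at hN'
    have : 0 < Nat.card H := Nat.card_pos
    omega
  · show 2 * Nat.card H = _
    omega

end Cfsg.Agent.S3520
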