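import Cfsg.Statements.S3532
import Cfsg.Agent.Lib.Spectrum62.AffineLine
import Cfsg.Agent.Lib.SL2.ToriExist

set_option linter.style.haveILetI false

set_option autoImplicit false
open Cfsg

namespace Cfsg.Agent.S3532

open Lib.SL2 in
private theorem spectrum_PSL {F : Type*} [Field F] [Fintype F] (hF : 4 ≤ Fintype.card F) (p : ℕ)
    [Fact p.Prime] [CharP F p] :
    Set.range (orderOf : PSLtwo F → ℕ) = {n | n ∣ p ∨
      n ∣ (Fintype.card F - 1) / Nat.gcd 2 (Fintype.card F - 1) ∨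
      n ∣ (Fintype.card F + 1) / Nat.gcd 2 (Fintype.card F - 1)} := by
  classical
  have hp : p.Prime := Fact.out
  have htor : ∀ x : PSLtwo F, IsSemi x → orderOf x ∣ Nat.card (torus x) := fun x hx => by
    have h := orderOf_dvd_natCard (⟨x, mem_torus_self x⟩ : torus x)
    rwa [Subgroup.orderOf_mk] at h
  ext n
  constructor
  · rintro ⟨x, rfl⟩
    rcases semi_or_unip x with hx | hx
    · rcases card_torus_semi hx with h | h
      · exact Or.inr (Or.inl (h ▸ htor x hx))
      · exact Or.inr (Or.inr (h ▸ htor x hx))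
    · exact Or.inl (orderOf_dvd_of_unip p hx)
  · have hcyc : ∀ x : PSLtwo F, IsSemi x → ∀ d, d ∣ Nat.card (torus x) →
        d ∈ Set.range (orderOf : PSLtwo F → ℕ) := by
      intro x hx d hd
      haveI := isCyclic_torus_semi hx
      obtain ⟨g, hg⟩ := IsCyclic.exists_ofOrder_eq_natCard (α := torus x)
      refine ⟨((g ^ (Nat.card (torus x) / d) : torus x) : PSLtwo F), ?_⟩
      rw [Subgroup.orderOf_coe, orderOf_pow_of_dvd (Nat.div_pos (Nat.le_of_dvd Nat.card_pos hd)
          (Nat.pos_of_dvd_of_pos hd Nat.card_pos)).ne'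
          (by rw [hg]; exact Nat.div_dvd_of_dvd hd), hg, Nat.div_div_self hd Nat.card_pos.ne']
    obtain ⟨gs, hgs⟩ := exists_split (F := F) hF
    obtain ⟨ge, hge⟩ := exists_elliptic (F := F)
    rintro (h | h | h)
    · rcases (Nat.dvd_prime hp).mp h with rfl | rfl
      · exact ⟨1, orderOf_one⟩
      · refine ⟨proj (upper 1), orderOf_eq_prime ?_ ?_⟩
        · rw [← map_pow, pow_char_of_tr_two n (by simp [tr, upper, ofEntries]; norm_num), map_one]
        · intro h1
          rw [proj_eq_one_iff, Matrix.SpecialLinearGroup.mem_center_iff] at h1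
          obtain ⟨r, -, hr⟩ := h1
          have := congrFun (congrFun hr 0) 1
          simp [upper, ofEntries] at this
    · exact hcyc _ ⟨gs, rfl, Or.inr hgs⟩ n (card_torus_split hgs ▸ h)
    · exact hcyc _ ⟨ge, rfl, Or.inl hge⟩ n (card_torus_elliptic hge ▸ h)


/-- Let q ≥ 4 be a prime power and L = PSL(2,q). There is a finite solvable group with the same set of element orders as L × L (so L × L is not determined by its spectrum). -/
theorem result {F : Type*} [Field F] [Fintype F] (hF : 4 ≤ Fintype.card F) :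
    ∃ (H : Type) (_ : Group H) (_ : Finite H), Group.IsSolvable H ∧
      Set.range (orderOf : H → ℕ) = Set.range (orderOf : Matrix.ProjectiveSpecialLinearGroup (Fin 2) F × Matrix.ProjectiveSpecialLinearGroup (Fin 2) F → ℕ) := by
  classical
  obtain ⟨p, hchar⟩ := CharP.exists F
  haveI := hchar
  haveI : Fact p.Prime := ⟨CharP.char_is_prime F p⟩
  obtain ⟨k, -, hk⟩ := FiniteField.card F p
  have hp : p.Prime := Fact.out
  set q := Fintype.card F with hq
  set e2 := (q - 1) / Nat.gcd 2 (q - 1) with he2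
  set e3 := (q + 1) / Nat.gcd 2 (q - 1) with he3
  let K := GaloisField p (2 * (k : ℕ))
  have hK : Nat.card Kˣ = (q - 1) * (q + 1) := by
    rw [Nat.card_units, GaloisField.card p _ (by have := k.pos; omega), two_mul, pow_add, ← hk, mul_comm (q - 1),
      ← Nat.sq_sub_sq, one_pow, sq]
  have hd2 : Nat.gcd 2 (q - 1) ∣ q - 1 := Nat.gcd_dvd_right _ _
  have hd3 : Nat.gcd 2 (q - 1) ∣ q + 1 := by
    rw [show q + 1 = (q - 1) + 2 by omega]
    exact Nat.dvd_add hd2 (Nat.gcd_dvd_left _ _)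
  haveI : IsCyclic Kˣ := inferInstance
  have hsub : ∀ e, e ∣ Nat.card Kˣ → ∃ C : Subgroup Kˣ, Nat.card C = e := by
    intro e he
    obtain ⟨g, hg⟩ := IsCyclic.exists_ofOrder_eq_natCard (α := Kˣ)
    have he0 := Nat.pos_of_dvd_of_pos he Nat.card_pos
    refine ⟨Subgroup.zpowers (g ^ (Nat.card Kˣ / e)), ?_⟩
    rw [Nat.card_zpowers, orderOf_pow_of_dvd (Nat.div_pos (Nat.le_of_dvd Nat.card_pos he) he0).ne'
      (by rw [hg]; exact Nat.div_dvd_of_dvd he), hg, Nat.div_div_self he Nat.card_pos.ne']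
  obtain ⟨C2, hC2⟩ := hsub e2 (by rw [hK]; exact (Nat.div_dvd_of_dvd hd2).trans (dvd_mul_right _ _))
  obtain ⟨C3, hC3⟩ := hsub e3 (by rw [hK]; exact (Nat.div_dvd_of_dvd hd3).trans (dvd_mul_left _ _))
  haveI := Lib.Spectrum62.isSolvable_affineLine C2
  haveI := Lib.Spectrum62.isSolvable_affineLine C3
  refine ⟨Lib.Spectrum62.AffineLine C2 × Lib.Spectrum62.AffineLine C3, inferInstance, inferInstance,
    inferInstance, ?_⟩
  have hA := Lib.Spectrum62.range_orderOf_affineLine p C2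
  have hB := Lib.Spectrum62.range_orderOf_affineLine p C3
  have hL := spectrum_PSL hF p
  rw [hC2] at hA
  rw [hC3] at hB
  ext n
  constructor
  · rintro ⟨⟨a, b⟩, rfl⟩
    have ha : orderOf a ∈ Set.range (orderOf : Matrix.ProjectiveSpecialLinearGroup (Fin 2) F → ℕ) := by
      rw [hL]
      rcases (hA ▸ Set.mem_range_self a : orderOf a ∈ {n | n ∣ p ∨ n ∣ e2}) with h | h
      · exact Or.inl h
      · exact Or.inr (Or.inl h)
    have hb : orderOf b ∈ Set.range (orderOf : Matrix.ProjectiveSpecialLinearGroup (Fin 2) F → ℕ) := by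
      rw [hL]
      rcases (hB ▸ Set.mem_range_self b : orderOf b ∈ {n | n ∣ p ∨ n ∣ e3}) with h | h
      · exact Or.inl h
      · exact Or.inr (Or.inr h)
    obtain ⟨x, hx⟩ := ha
    obtain ⟨y, hy⟩ := hb
    exact ⟨(x, y), by rw [Prod.orderOf, Prod.orderOf, hx, hy]⟩
  · rintro ⟨⟨x, y⟩, rfl⟩
    rw [Prod.orderOf]
    have key : ∀ u v : ℕ, u ∣ p ∨ u ∣ e2 → v ∣ p ∨ v ∣ e3 →
        Nat.lcm u v ∈ Set.range (orderOf : Lib.Spectrum62.AffineLine C2 × Lib.Spectrum62.AffineLine C3 → ℕ) := by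
      intro u v hu hv
      obtain ⟨a, rfl⟩ := (hA.symm ▸ hu : u ∈ Set.range (orderOf : Lib.Spectrum62.AffineLine C2 → ℕ))
      obtain ⟨b, rfl⟩ := (hB.symm ▸ hv : v ∈ Set.range (orderOf : Lib.Spectrum62.AffineLine C3 → ℕ))
      exact ⟨(a, b), Prod.orderOf _⟩
    have hx : orderOf x ∈ _ := Set.mem_range_self x
    have hy : orderOf y ∈ _ := Set.mem_range_self y
    rw [hL] at hx hy
    rcases hx with hx | hx | hx <;> rcases hy with hy | hy | hy
    · exact key _ _ (Or.inl hx) (Or.inl hy)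
    · rw [Nat.lcm_comm]; exact key _ _ (Or.inr hy) (Or.inl hx)
    · exact key _ _ (Or.inl hx) (Or.inr hy)
    · exact key _ _ (Or.inr hx) (Or.inl hy)
    · simpa using key _ 1 (Or.inr (Nat.lcm_dvd hx hy)) (Or.inl (one_dvd _))
    · exact key _ _ (Or.inr hx) (Or.inr hy)
    · rw [Nat.lcm_comm]; exact key _ _ (Or.inl hy) (Or.inr hx)
    · rw [Nat.lcm_comm]; exact key _ _ (Or.inr hy) (Or.inr hx)
    · simpa using key 1 _ (Or.inl (one_dvd _)) (Or.inr (Nat.lcm_dvd hx hy))

end Cfsg.Agent.S3532
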