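import Cfsg.Statements.S3547
import Cfsg.Agent.Lib.DerangementSubgroup.Basic

set_option linter.style.haveILetI false

set_option autoImplicit false
open Cfsg

namespace Cfsg.Agent.S3547

/-- Let G act faithfully and transitively on a finite set Ω, let D be the subgroup generated by the derangements, and let r_G and r_D be the numbers of orbits of G and of D on ordered pairs of points (the permutation ranks). Then r_D − 1 = (r_G − 1)·[G : D]. -/
theorem result {G Ω : Type*} [Group G] [Finite G] [MulAction G Ω] [FaithfulSMul G Ω] [Finite Ω]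
    (htrans : MulAction.IsPretransitive G Ω) :
    Nat.card (MulAction.orbitRel.Quotient ↥(Subgroup.closure {g : G | ∀ ω : Ω, g • ω ≠ ω}) (Ω × Ω)) - 1 =
      (Nat.card (MulAction.orbitRel.Quotient G (Ω × Ω)) - 1) * (Subgroup.closure {g : G | ∀ ω : Ω, g • ω ≠ ω}).index := by
  classical
  haveI := Fintype.ofFinite G
  set D := Subgroup.closure {g : G | ∀ ω : Ω, g • ω ≠ ω} with hD
  rcases isEmpty_or_nonempty Ω with h | h
  · have h1 : ∀ (K : Subgroup G), IsEmpty (MulAction.orbitRel.Quotient K (Ω × Ω)) := fun K =>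
      ⟨fun q => Quotient.inductionOn' q fun x => isEmptyElim x.1⟩
    haveI : IsEmpty (MulAction.orbitRel.Quotient G (Ω × Ω)) :=
      ⟨fun q => Quotient.inductionOn' q fun x => isEmptyElim x.1⟩
    haveI := h1 D
    simp
  have hfix : ∀ g : G, Nat.card (MulAction.fixedBy (Ω × Ω) g) = Nat.card (MulAction.fixedBy Ω g) ^ 2 := by
    intro g
    rw [pow_two, ← Nat.card_prod]
    exact Nat.card_congr
      { toFun := fun x => (⟨x.1.1, congrArg Prod.fst x.2⟩, ⟨x.1.2, congrArg Prod.snd x.2⟩)
        invFun := fun x => ⟨(x.1.1, x.2.1), Prod.ext x.1.2 x.2.2⟩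
        left_inv := fun x => rfl
        right_inv := fun x => rfl }
  have hG := Lib.Primitive62.sum_fixedBy G (Ω × Ω)
  have hD' := Lib.Primitive62.sum_fixedBy D (Ω × Ω)
  have h1 : ∑ x ∈ Finset.univ.filter (fun x : G => x ∈ D), Nat.card (MulAction.fixedBy (Ω × Ω) x) =
      Nat.card (MulAction.orbitRel.Quotient D (Ω × Ω)) * Nat.card D := by
    rw [Finset.sum_subtype (p := fun x : G => x ∈ D) _ (fun x => by simp)
      (fun x => Nat.card (MulAction.fixedBy (Ω × Ω) x))]
    exact hD'
  have h2 : ∀ x ∈ Finset.univ.filter (fun x : G => ¬ x ∈ D),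
      Nat.card (MulAction.fixedBy (Ω × Ω) x) = 1 := fun x hx => by
    rw [hfix, Lib.DerangementSubgroup.card_fixedBy_eq_one htrans (Finset.mem_filter.mp hx).2, one_pow]
  have hcnt : Nat.card D + ∑ _x ∈ Finset.univ.filter (fun x : G => ¬ x ∈ D), 1 = Nat.card G := by
    rw [Nat.card_eq_fintype_card (α := D), Fintype.card_subtype, Nat.card_eq_fintype_card (α := G),
      ← Finset.card_univ, Finset.card_eq_sum_ones, Finset.sum_filter_add_sum_filter_not,
      Finset.card_eq_sum_ones]
  rw [← Finset.sum_filter_add_sum_filter_not Finset.univ (fun x : G => x ∈ D), h1,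
    Finset.sum_congr rfl h2] at hG
  have hi := Subgroup.card_mul_index D
  set rD := Nat.card (MulAction.orbitRel.Quotient D (Ω × Ω))
  set rG := Nat.card (MulAction.orbitRel.Quotient G (Ω × Ω))
  have hd : 0 < Nat.card D := Nat.card_pos
  have hrD : 1 ≤ rD := by
    haveI : Nonempty (MulAction.orbitRel.Quotient D (Ω × Ω)) :=
      ⟨Quotient.mk'' (Classical.arbitrary (Ω × Ω))⟩
    exact Nat.card_pos
  have hrG : 1 ≤ rG := by
    haveI : Nonempty (MulAction.orbitRel.Quotient G (Ω × Ω)) :=
      ⟨Quotient.mk'' (Classical.arbitrary (Ω × Ω))⟩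
    exact Nat.card_pos
  apply Nat.eq_of_mul_eq_mul_right hd
  rw [mul_assoc, mul_comm D.index, hi, Nat.sub_mul, Nat.sub_mul, one_mul, one_mul]
  omega

end Cfsg.Agent.S3547
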