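import Cfsg.Statements.S3548
import Cfsg.Agent.Lib.DerangementSubgroup.Basic

set_option linter.style.haveILetI false

set_option autoImplicit false
open Cfsg

namespace Cfsg.Agent.S3548

/-- Let G act faithfully and transitively on a finite set with n ≥ 2 points and let D be the subgroup generated by the derangements. Then the index of D in G divides n − 1, and if it equals n − 1 then n is a prime power. -/
theorem result {G Ω : Type*} [Group G] [Finite G] [MulAction G Ω] [FaithfulSMul G Ω] [Finite Ω]
    (htrans : MulAction.IsPretransitive G Ω) (hΩ : 2 ≤ Nat.card Ω) :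
    (Subgroup.closure {g : G | ∀ ω : Ω, g • ω ≠ ω}).index ∣ Nat.card Ω - 1 ∧
    ((Subgroup.closure {g : G | ∀ ω : Ω, g • ω ≠ ω}).index = Nat.card Ω - 1 → IsPrimePow (Nat.card Ω)) := by
  classical
  haveI : Nontrivial Ω := Finite.one_lt_card_iff_nontrivial.mp hΩ
  refine ⟨Lib.DerangementSubgroup.index_dvd_card_sub_one htrans, fun he => ?_⟩
  set D := Subgroup.closure {g : G | ∀ ω : Ω, g • ω ≠ ω} with hD
  haveI := htrans
  haveI : D.Normal := Lib.DerangementSubgroup.derangementClosure_normal
  haveI : MulAction.IsPretransitive D Ω := Lib.DerangementSubgroup.isPretransitive htrans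
  obtain ⟨α⟩ := (inferInstance : Nonempty Ω)
  set H := MulAction.stabilizer G α with hH
  -- every orbit of the stabiliser on the other points is everything
  have horb : ∀ β : Ω, β ≠ α → Nat.card (MulAction.orbit H β) = Nat.card Ω - 1 ∧
      MulAction.orbit H β = ({α}ᶜ : Set Ω) := by
    intro β hβ
    have hsub : MulAction.orbit H β ⊆ ({α}ᶜ : Set Ω) := by
      rintro x ⟨h, rfl⟩ hx
      exact hβ (smul_left_cancel (h : G) ((Set.mem_singleton_iff.mp hx).trans h.2.symm))
    have hdvd := Lib.DerangementSubgroup.index_dvd_card D α (MulAction.orbit H β)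
      (fun hα => hsub hα rfl)
      (fun g hg x hx => by
        obtain ⟨h, rfl⟩ := hx
        exact ⟨⟨g, hg⟩ * h, mul_smul g (h : G) β⟩)
      (fun g hg x hx hgx => by
        by_contra hgD
        exact hsub hx (Lib.DerangementSubgroup.smul_ne_of_stabilizer htrans hgD hgx hg))
    rw [he] at hdvd
    have hle : Nat.card (MulAction.orbit H β) ≤ Nat.card Ω - 1 := by
      rw [Nat.card_coe_set_eq, ← Set.ncard_singleton α, ← Set.ncard_compl ({α} : Set Ω)]
      exact Set.ncard_le_ncard hsub
    haveI : Nonempty (MulAction.orbit H β) := ⟨⟨β, MulAction.mem_orbit_self β⟩⟩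
    have hpos : 0 < Nat.card (MulAction.orbit H β) := Nat.card_pos
    have heq := le_antisymm hle (Nat.le_of_dvd hpos hdvd)
    refine ⟨heq, Set.eq_of_subset_of_ncard_le hsub ?_⟩
    rw [Set.ncard_compl, Set.ncard_singleton, ← Nat.card_coe_set_eq, heq]
  -- the stabiliser in `D` fixes everything
  have hDα : ∀ d ∈ D, d • α = α → d = 1 := by
    intro d hd hdα
    refine FaithfulSMul.eq_of_smul_eq_smul (α := Ω) fun β => ?_
    rw [one_smul]
    by_cases hβ : β = α
    · rw [hβ, hdα]
    have hle : MulAction.stabilizer H β ≤ D.subgroupOf H := fun h hh => by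
      rw [Subgroup.mem_subgroupOf]
      by_contra hgD
      exact hβ (Lib.DerangementSubgroup.smul_ne_of_stabilizer htrans hgD
        (show (h : G) • β = β from hh) h.2)
    have htop : H ⊔ D = ⊤ := by
      refine eq_top_iff.mpr fun g _ => ?_
      obtain ⟨d, hd, hdd⟩ := Lib.Perm.exists_mem_smul_eq D α (g • α)
      have h1 : d⁻¹ * g ∈ H := by
        rw [hH, MulAction.mem_stabilizer_iff, mul_smul, ← hdd, inv_smul_smul]
      rw [show g = d * (d⁻¹ * g) by group]
      exact Subgroup.mul_mem _ (Subgroup.mem_sup_right hd) (Subgroup.mem_sup_left h1)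
    have hi : (D.subgroupOf H).index = D.index := by
      show D.relIndex H = D.index
      rw [← Subgroup.relIndex_sup_right, htop, Subgroup.relIndex_top_right]
    have heq : MulAction.stabilizer H β = D.subgroupOf H := by
      refine Subgroup.eq_of_le_of_card_ge hle ?_
      have h1 := Subgroup.card_mul_index (MulAction.stabilizer H β)
      have h2 := Subgroup.card_mul_index (D.subgroupOf H)
      rw [MulAction.index_stabilizer, ← Nat.card_coe_set_eq, (horb β hβ).1] at h1
      rw [hi, he, ← h1] at h2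
      exact le_of_eq (Nat.eq_of_mul_eq_mul_right (by omega) h2)
    have hmem : (⟨d, hdα⟩ : H) ∈ D.subgroupOf H := hd
    rw [← heq] at hmem
    exact hmem
  -- `D` is regular and all its non-trivial elements are conjugate
  have hreg : MulAction.stabilizer D α = ⊥ := Lib.Perm.stabilizer_subgroup_eq_bot_iff.mpr hDα
  have hcard := Lib.Perm.card_eq_of_regular D hreg
  have hconj : ∀ a ∈ D, ∀ b ∈ D, a ≠ 1 → b ≠ 1 → orderOf a = orderOf b := by
    intro a ha b hb ha1 hb1
    have haα : a • α ≠ α := fun h => ha1 (hDα a ha h)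
    have hbα : b • α ≠ α := fun h => hb1 (hDα b hb h)
    obtain ⟨h, hh⟩ : b • α ∈ MulAction.orbit H (a • α) := by
      rw [(horb (a • α) haα).2]; exact hbα
    have h1 : b⁻¹ * ((h : G) * a * (h : G)⁻¹) = 1 := by
      refine hDα _ (D.mul_mem (D.inv_mem hb) ((inferInstance : D.Normal).conj_mem a ha _)) ?_
      rw [mul_smul, mul_smul, mul_smul, show (h : G)⁻¹ • α = α from H.inv_mem h.2,
        show (h : G) • a • α = b • α from hh, inv_smul_smul]
    rw [inv_mul_eq_one.mp h1, ← MulAut.conj_apply, MulEquiv.orderOf_eq]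
  obtain ⟨r, hr, hrd⟩ := Nat.exists_prime_and_dvd (n := Nat.card D) (by rw [hcard]; omega)
  haveI : Fact r.Prime := ⟨hr⟩
  obtain ⟨x, hx⟩ := exists_prime_orderOf_dvd_card' (G := D) r hrd
  have hpg : IsPGroup r D := fun y => ⟨1, by
    rw [pow_one]
    by_cases hy : y = 1
    · rw [hy, one_pow]
    have hx1 : (x : G) ≠ 1 := fun h => hr.ne_one (by rw [← hx, Subtype.ext h (a2 := (1 : D)), orderOf_one])
    have := hconj _ y.2 _ x.2 (fun h => hy (Subtype.ext h)) hx1
    rw [Subgroup.orderOf_coe, Subgroup.orderOf_coe, hx] at this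
    rw [← this, pow_orderOf_eq_one]⟩
  obtain ⟨j, hj⟩ := IsPGroup.iff_card.mp hpg
  rw [hcard] at hj
  rw [hj]
  refine hr.isPrimePow.pow ?_
  rintro rfl
  rw [pow_zero] at hj
  omega

end Cfsg.Agent.S3548
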