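import Cfsg.Statements.S3549
import Cfsg.Agent.Lib.DerangementSubgroup.Basic

set_option linter.style.haveILetI false

set_option autoImplicit false
open Cfsg
open scoped Pointwise

namespace Cfsg.Agent.S3549

/-- Let G act faithfully, transitively but imprimitively on a finite set with n points, and let D be the subgroup generated by the derangements. Then the index of D in G is at most √n − 1. -/
theorem result {G Ω : Type*} [Group G] [Finite G] [MulAction G Ω] [FaithfulSMul G Ω] [Finite Ω]
    (htrans : MulAction.IsPretransitive G Ω) (himp : ¬ MulAction.IsPreprimitive G Ω) :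
    ((Subgroup.closure {g : G | ∀ ω : Ω, g • ω ≠ ω}).index : ℝ) ≤ Real.sqrt (Nat.card Ω) - 1 := by
  classical
  haveI := htrans
  set D := Subgroup.closure {g : G | ∀ ω : Ω, g • ω ≠ ω} with hD
  haveI : D.Normal := Lib.DerangementSubgroup.derangementClosure_normal
  haveI : MulAction.IsPretransitive D Ω := Lib.DerangementSubgroup.isPretransitive htrans
  obtain ⟨B, hB, hBnt⟩ : ∃ B : Set Ω, MulAction.IsBlock G B ∧ ¬ MulAction.IsTrivialBlock B := by
    by_contra h
    push Not at h
    exact himp ⟨fun {B} hB => h B hB⟩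
  obtain ⟨hBsub, hBuniv⟩ := not_or.mp hBnt
  obtain ⟨α, hα, β, hβ, hαβ⟩ : ∃ α ∈ B, ∃ β ∈ B, α ≠ β := by
    by_contra h
    push Not at h
    exact hBsub fun x hx y hy => h x hx y hy
  -- first divisibility
  have he1 : D.index ∣ Nat.card (B \ {α} : Set Ω) :=
    Lib.DerangementSubgroup.index_dvd_card D α (B \ {α}) (by simp)
      (fun g hg x hx => by
        refine ⟨?_, fun h => hx.2 (smul_left_cancel g (h.trans hg.symm))⟩
        rcases hB.smul_eq_or_disjoint g with h | h
        · rw [← h]; exact Set.smul_mem_smul_set hx.1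
        · exact absurd (show g • α ∈ B by rw [hg]; exact hα)
            (Set.disjoint_left.mp h (Set.smul_mem_smul_set hα)))
      (fun g hg x hx hgx => by
        by_contra hgD
        exact hx.2 (Lib.DerangementSubgroup.smul_ne_of_stabilizer htrans hgD hgx hg))
  -- the action on blocks
  let X : Type _ := MulAction.orbit G B
  haveI : Finite X := (Set.finite_range _).to_subtype
  haveI : Nonempty X := ⟨⟨B, MulAction.mem_orbit_self B⟩⟩
  have hblock : ∀ c : G, ∀ g : G, g • c • α = c • α → g • c • B = c • B := by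
    intro c g hgc
    rcases (hB.translate c).smul_eq_or_disjoint g with h | h
    · exact h
    · exact absurd (show g • c • α ∈ c • B by rw [hgc]; exact Set.smul_mem_smul_set hα)
        (Set.disjoint_left.mp h (Set.smul_mem_smul_set (Set.smul_mem_smul_set hα)))
  haveI : MulAction.IsPretransitive D X := by
    refine ⟨?_⟩
    rintro ⟨_, a, rfl⟩ ⟨_, b, rfl⟩
    obtain ⟨d, hd, hdd⟩ := Lib.Perm.exists_mem_smul_eq D (a • α) (b • α)
    refine ⟨⟨d, hd⟩, Subtype.ext ?_⟩
    show d • a • B = b • B
    have hfx : (b⁻¹ * (d * a)) • α = α := by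
      rw [mul_smul, mul_smul, hdd, inv_smul_smul]
    rcases hB.smul_eq_or_disjoint (b⁻¹ * (d * a)) with h | h
    · conv_rhs => rw [← h]
      rw [smul_smul, smul_smul, mul_inv_cancel_left]
    · exact absurd (show (b⁻¹ * (d * a)) • α ∈ B by rw [hfx]; exact hα)
        (Set.disjoint_left.mp h (Set.smul_mem_smul_set hα))
  have hfixX : ∀ g : G, g ∉ D → ∃ b : X, g • b = b := by
    intro g hg
    obtain ⟨ω, hω⟩ := Lib.DerangementSubgroup.smul_ne_of_notMem (Ω := Ω) hg
    obtain ⟨c, rfl⟩ := MulAction.exists_smul_eq G α ω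
    exact ⟨⟨c • B, c, rfl⟩, Subtype.ext (hblock c g hω)⟩
  let B0 : X := ⟨B, MulAction.mem_orbit_self B⟩
  have he2 : D.index ∣ Nat.card ({B0}ᶜ : Set X) :=
    Lib.DerangementSubgroup.index_dvd_card D B0 ({B0}ᶜ : Set X) (by simp)
      (fun g hg x hx h => hx (smul_left_cancel g ((Set.mem_singleton_iff.mp h).trans hg.symm)))
      (fun g hg x hx hgx => by
        by_contra hgD
        have h1 := Lib.DerangementSubgroup.fixedBy_eq_one (Ω' := X) D hfixX hgD
        obtain ⟨hsub, -⟩ := Nat.card_eq_one_iff_unique.mp h1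
        exact hx (congrArg Subtype.val (hsub.elim (⟨x, hgx⟩ : MulAction.fixedBy X g) ⟨B0, hg⟩)))
  rw [Nat.card_coe_set_eq, Set.ncard_sdiff (Set.singleton_subset_iff.mpr hα), Set.ncard_singleton] at he1
  rw [Nat.card_coe_set_eq, Set.ncard_compl, Set.ncard_singleton] at he2
  have hn := hB.ncard_block_mul_ncard_orbit_eq ⟨α, hα⟩
  rw [← Nat.card_coe_set_eq (MulAction.orbit G B)] at hn
  have hX : Nat.card X = Nat.card (MulAction.orbit G B) := rfl
  have hb2 : 2 ≤ B.ncard := (Set.one_lt_ncard (Set.toFinite _)).mpr ⟨α, hα, β, hβ, hαβ⟩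
  have hX2 : 2 ≤ Nat.card X := by
    by_contra h
    rw [not_le] at h
    have h1 : Nat.card X = 1 := by
      have : 0 < Nat.card X := Nat.card_pos
      omega
    apply hBuniv
    apply Set.eq_univ_of_forall
    intro x
    obtain ⟨g, rfl⟩ := MulAction.exists_smul_eq G α x
    obtain ⟨hsub, -⟩ := Nat.card_eq_one_iff_unique.mp h1
    have h2 : g • B = B := congrArg Subtype.val (hsub.elim (⟨g • B, g, rfl⟩ : X) B0)
    rw [← h2]
    exact Set.smul_mem_smul_set hα
  have hle1 : D.index + 1 ≤ B.ncard := by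
    have := Nat.le_of_dvd (by omega) he1; omega
  have hle2 : D.index + 1 ≤ Nat.card X := by
    have := Nat.le_of_dvd (by omega) he2; omega
  have hmul : (D.index + 1) * (D.index + 1) ≤ Nat.card Ω := by
    rw [← hn]
    exact Nat.mul_le_mul hle1 (hX ▸ hle2)
  have hreal : ((D.index : ℝ) + 1) * ((D.index : ℝ) + 1) ≤ (Nat.card Ω : ℝ) := by exact_mod_cast hmul
  have h := Real.sqrt_le_sqrt hreal
  rw [Real.sqrt_mul_self (by positivity)] at h
  linarith

end Cfsg.Agent.S3549
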