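import Cfsg.Statements.S3550
import Cfsg.Agent.Lib.DerangedIndex.Main

set_option autoImplicit false
open Cfsg

namespace Cfsg.Agent.S3550

/-- Let G act faithfully and primitively on a finite set with n ≥ 2 points and suppose G has no non-trivial abelian normal subgroup (G is not of affine type). Let D be the subgroup generated by the derangements. Then the index of D in G is at most √n − 1. -/
theorem result {G Ω : Type*} [Group G] [Finite G] [MulAction G Ω] [FaithfulSMul G Ω] [Finite Ω]
    (hprim : MulAction.IsPreprimitive G Ω) (hΩ : 2 ≤ Nat.card Ω) (hna : ∀ N : Subgroup G, N.Normal → IsMulCommutative ↥N → N = ⊥) :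
    ((Subgroup.closure {g : G | ∀ ω : Ω, g • ω ≠ ω}).index : ℝ) ≤ Real.sqrt (Nat.card Ω) - 1 := by
  classical
  by_cases hn : 4 ≤ Nat.card Ω
  · rcases Cfsg.Agent.Lib.DerangedIndex.index_bound_or_frobenius hprim.toIsPretransitive hn with
      h | ⟨⟨N, hN, hNc, hNne⟩, -⟩
    · rw [le_sub_iff_add_le]
      refine Real.le_sqrt_of_sq_le ?_
      exact_mod_cast h
    · exact absurd (hna N hN hNc) hNne
  · exfalso
    haveI := hprim.toIsPretransitive
    haveI := Fintype.ofFinite Ω
    haveI : Nontrivial Ω := Finite.one_lt_card_iff_nontrivial.1 (by omega)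
    let φ : G →* ℤˣ := Equiv.Perm.sign.comp (MulAction.toPermHom G Ω)
    have hcomm : IsMulCommutative φ.ker := by
      let f : φ.ker →* alternatingGroup Ω := ((MulAction.toPermHom G Ω).comp φ.ker.subtype).codRestrict _
        fun g => g.2
      have hf : Function.Injective f := fun a b e =>
        Subtype.ext (MulAction.toPerm_injective (congrArg Subtype.val e))
      have hA : Nat.card (alternatingGroup Ω) = 1 ∨ Nat.card (alternatingGroup Ω) = 3 := by
        have h2 := two_mul_nat_card_alternatingGroup (α := Ω)
        rw [Nat.card_perm] at h2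
        rcases (show Nat.card Ω = 2 ∨ Nat.card Ω = 3 by omega) with h | h <;> rw [h] at h2 <;>
          simp [Nat.factorial] at h2 ⊢ <;> omega
      refine ⟨⟨fun a b => hf ?_⟩⟩
      rw [map_mul, map_mul]
      rcases hA with h | h
      · haveI := (Nat.card_eq_one_iff_unique.1 h).1
        exact Subsingleton.elim _ _
      · haveI : Fact (Nat.Prime 3) := ⟨by norm_num⟩
        haveI := isCyclic_of_prime_card h
        exact mul_comm' _ _
    have hker : φ.ker = ⊥ := hna _ (MonoidHom.normal_ker φ) hcomm
    have hinj : Function.Injective φ := (MonoidHom.ker_eq_bot_iff φ).1 hker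
    have htop := hna ⊤ inferInstance ⟨⟨fun a b => Subtype.ext (hinj (by
      show φ ((a : G) * b) = φ ((b : G) * a)
      rw [map_mul, map_mul, mul_comm]))⟩⟩
    obtain ⟨x, y, hxy⟩ := exists_pair_ne Ω
    obtain ⟨g, hg⟩ := MulAction.exists_smul_eq G x y
    have h1 : g ∈ (⊤ : Subgroup G) := Subgroup.mem_top g
    rw [htop, Subgroup.mem_bot] at h1
    rw [h1, one_smul] at hg
    exact hxy hg

end Cfsg.Agent.S3550
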