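import Cfsg.Statements.S3554
import Mathlib

set_option autoImplicit false
open Cfsg

namespace Cfsg.Agent.S3554

/-- Let G act faithfully and transitively on a finite set and suppose G has a non-trivial cyclic normal subgroup. Then some element of G of prime order fixes no point. -/
theorem result {G Ω : Type*} [Group G] [Finite G] [MulAction G Ω] [FaithfulSMul G Ω] [Finite Ω]
    (htrans : MulAction.IsPretransitive G Ω) (C : Subgroup G) (hC : C.Normal) (hC1 : C ≠ ⊥) (hcyc : IsCyclic ↥C) :
    ∃ g : G, (orderOf g).Prime ∧ ∀ ω : Ω, g • ω ≠ ω := by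
  haveI := hC
  haveI := hcyc
  obtain ⟨q, hq, hqd⟩ := Nat.exists_prime_and_dvd (n := Nat.card C)
    (fun hc => hC1 (Subgroup.eq_bot_of_card_eq _ hc))
  haveI : Fact q.Prime := ⟨hq⟩
  obtain ⟨x, hx⟩ := exists_prime_orderOf_dvd_card' q hqd
  refine ⟨(x : G), by rw [Subgroup.orderOf_coe, hx]; exact hq, ?_⟩
  intro ω hfix
  have hall : ∀ g : G, (x : G) • (g • ω) = g • ω := by
    intro g
    set y : C := ⟨g⁻¹ * (x : G) * g, by simpa using hC.conj_mem _ x.2 g⁻¹⟩ with hy
    have hyo : orderOf y = q := by
      rw [← Subgroup.orderOf_coe, hy]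
      show orderOf (g⁻¹ * (x : G) * g) = q
      have h5 : g⁻¹ * (x : G) * g = MulAut.conj g⁻¹ (x : G) := by simp
      rw [h5, MulEquiv.orderOf_eq, Subgroup.orderOf_coe, hx]
    have hsub : Subgroup.zpowers y = Subgroup.zpowers x := by
      classical
      haveI : Fintype C := Fintype.ofFinite _
      have key : ∀ z : C, orderOf z = q →
          (Subgroup.zpowers z : Set C) = ↑(Finset.univ.filter fun a : C => a ^ q = 1) := by
        intro z hz
        refine Set.eq_of_subset_of_ncard_le ?_ ?_ (Set.toFinite _)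
        · intro a ha
          simp only [Finset.coe_filter, Finset.mem_univ, true_and, Set.mem_setOf_eq]
          obtain ⟨i, rfl⟩ := Subgroup.mem_zpowers_iff.mp ha
          rw [← zpow_natCast, ← zpow_mul, mul_comm, zpow_mul, zpow_natCast, ← hz, pow_orderOf_eq_one, one_zpow]
        · rw [Set.ncard_coe_finset, ← Nat.card_coe_set_eq]
          refine le_trans (IsCyclic.card_pow_eq_one_le hq.pos) (le_of_eq ?_)
          exact (hz.symm.trans (Nat.card_zpowers z).symm)
      exact SetLike.coe_injective ((key y hyo).trans (key x hx).symm)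
    obtain ⟨k, hk⟩ := Subgroup.mem_zpowers_iff.mp (hsub ▸ Subgroup.mem_zpowers y)
    have hk' : (x : G) ^ k = g⁻¹ * (x : G) * g := by
      have := congrArg Subtype.val hk
      simpa [hy] using this
    have h1 : ((x : G) ^ k) • ω = ω := MulAction.mem_stabilizer_iff.mp
      (zpow_mem (show (x : G) ∈ MulAction.stabilizer G ω from hfix) k)
    rw [hk', mul_smul, mul_smul] at h1
    rwa [inv_smul_eq_iff] at h1
  haveI := htrans
  have h1 : (x : G) = 1 := by
    apply FaithfulSMul.eq_of_smul_eq_smul (α := Ω)
    intro a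
    obtain ⟨g, rfl⟩ := MulAction.exists_smul_eq G ω a
    rw [one_smul]; exact hall g
  rw [← Subgroup.orderOf_coe, h1, orderOf_one] at hx
  exact hq.ne_one hx.symm

end Cfsg.Agent.S3554
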