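import Cfsg.Statements.S3555
import Mathlib

set_option autoImplicit false
open Cfsg

namespace Cfsg.Agent.S3555

open scoped Pointwise
open MulAction

variable {G Ω : Type*} [Group G] [MulAction G Ω]

theorem mul_self_of_orderOf_two {g : G} (h : orderOf g = 2) : g * g = 1 := by
  rw [← pow_two, ← h]; exact pow_orderOf_eq_one g

/-- Every element moving `w` fixes at most one point. -/
theorem outside_stabilizer_fixes_le_one [Finite G] [Finite Ω] [IsPretransitive G Ω]
    (hinv : ∀ g : G, (∀ a : Ω, g • a ≠ a) → orderOf g = 2) (w : Ω) (g : G) (hg : g • w ≠ w)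
    (a b : Ω) (ha : g • a = a) (hb : g • b = b) : a = b := by
  classical
  haveI := Fintype.ofFinite G
  haveI := Fintype.ofFinite Ω
  let π : G → ℕ := fun g => (Finset.univ.filter fun a : Ω => g • a = a).card
  let D : Finset G := Finset.univ.filter fun g : G => ∀ a : Ω, g • a ≠ a
  let H : Finset G := Finset.univ.filter fun g : G => g • w = w
  -- the mean number of fixed points is one
  have hsum : ∑ g : G, π g = Fintype.card G := by
    haveI : Nonempty Ω := ⟨w⟩
    haveI : Unique (orbitRel.Quotient G Ω) :=
      { default := Quotient.mk'' w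
        uniq := fun q => by
          induction q using Quotient.inductionOn'
          exact Quotient.sound' (MulAction.exists_smul_eq G w _) }
    have h := MulAction.sum_card_fixedBy_eq_card_orbits_mul_card_group G Ω
    rw [Fintype.card_unique, one_mul] at h
    rw [← h]
    refine Finset.sum_congr rfl fun g _ => ?_
    exact ((Fintype.card_ofFinset _ _).trans rfl).symm.trans (Fintype.card_congr (Equiv.refl _))
  -- so derangements balance the excess fixed points
  have hbal : D.card = ∑ g : G, (π g - 1) := by
    have h1 : ∀ g : G, π g + (if g ∈ D then 1 else 0) = (π g - 1) + 1 := by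
      intro g
      by_cases hd : g ∈ D
      · have hd' : ∀ a : Ω, g • a ≠ a := (Finset.mem_filter.mp hd).2
        have h0 : π g = 0 := Finset.card_eq_zero.mpr (Finset.filter_eq_empty_iff.mpr fun a _ => hd' a)
        simp [h0, hd]
      · have hd' : ¬ ∀ a : Ω, g • a ≠ a := fun h => hd (Finset.mem_filter.mpr ⟨Finset.mem_univ _, h⟩)
        push_neg at hd'
        obtain ⟨a, ha⟩ := hd'
        have h0 : 0 < π g := Finset.card_pos.mpr ⟨a, Finset.mem_filter.mpr ⟨Finset.mem_univ _, ha⟩⟩
        simp [hd]; omega
    have h2 := Finset.sum_congr rfl (fun g (_ : g ∈ (Finset.univ : Finset G)) => h1 g)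
    rw [Finset.sum_add_distrib, Finset.sum_add_distrib, hsum, Finset.sum_boole,
      Finset.sum_const, Finset.card_univ, smul_eq_mul, mul_one, Finset.filter_mem_eq_inter,
      Finset.univ_inter, Nat.cast_id] at h2
    omega
  -- the derangements sending `w` to `a` inject into the stabiliser of `w` and `a`
  have hfib : ∀ a ∈ Finset.univ.erase w,
      (D.filter fun x => x • w = a).card ≤ (H.filter fun h => h • a = a).card := by
    intro a _
    rcases (D.filter fun x => x • w = a).eq_empty_or_nonempty with he | ⟨x0, hx0⟩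
    · simp [he]
    · simp only [D, Finset.mem_filter, Finset.mem_univ, true_and] at hx0
      refine Finset.card_le_card_of_injOn (fun x => x0 * x) ?_ (fun _ _ _ _ h => mul_left_cancel h)
      intro x hx
      simp only [D, Finset.coe_filter, Finset.mem_filter, Finset.mem_univ, true_and,
        Set.mem_setOf_eq] at hx
      simp only [H, Finset.coe_filter, Finset.mem_filter, Finset.mem_univ, true_and,
        Set.mem_setOf_eq]
      have e0 : x0 • a = w := by
        rw [← hx0.2, smul_smul, mul_self_of_orderOf_two (hinv x0 hx0.1), one_smul]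
      have e : x • a = w := by
        rw [← hx.2, smul_smul, mul_self_of_orderOf_two (hinv x hx.1), one_smul]
      exact ⟨by rw [mul_smul, hx.2, e0], by rw [mul_smul, e, hx0.2]⟩
  have hDle : D.card ≤ ∑ h ∈ H, (π h - 1) := by
    calc D.card = ∑ a ∈ Finset.univ.erase w, (D.filter fun x => x • w = a).card :=
          Finset.card_eq_sum_card_fiberwise fun x hx =>
            Finset.mem_erase.mpr ⟨(Finset.mem_filter.mp hx).2 w, Finset.mem_univ _⟩
      _ ≤ ∑ a ∈ Finset.univ.erase w, (H.filter fun h => h • a = a).card :=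
          Finset.sum_le_sum hfib
      _ = ∑ h ∈ H, ((Finset.univ.erase w).filter fun a => h • a = a).card := by
          simp only [Finset.card_filter]; exact Finset.sum_comm
      _ = ∑ h ∈ H, (π h - 1) := by
          refine Finset.sum_congr rfl fun h hh => ?_
          have hw : w ∈ Finset.univ.filter fun a : Ω => h • a = a :=
            Finset.mem_filter.mpr ⟨Finset.mem_univ _, (Finset.mem_filter.mp hh).2⟩
          rw [Finset.filter_erase, Finset.card_erase_of_mem hw]
  have hgH : g ∉ H := fun h => hg (Finset.mem_filter.mp h).2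
  have hle : ∑ h ∈ insert g H, (π h - 1) ≤ ∑ g : G, (π g - 1) :=
    Finset.sum_le_sum_of_subset (Finset.subset_univ _)
  rw [Finset.sum_insert hgH] at hle
  have hπ : π g ≤ 1 := by omega
  exact Finset.card_le_one.mp hπ a (Finset.mem_filter.mpr ⟨Finset.mem_univ _, ha⟩) b
    (Finset.mem_filter.mpr ⟨Finset.mem_univ _, hb⟩)

theorem fixes_le_one [Finite G] [Finite Ω] [IsPretransitive G Ω] [FaithfulSMul G Ω]
    (hinv : ∀ g : G, (∀ a : Ω, g • a ≠ a) → orderOf g = 2) (g : G) (hg : g ≠ 1)
    (a b : Ω) (ha : g • a = a) (hb : g • b = b) : a = b := by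
  have : ∃ c : Ω, g • c ≠ c := by
    by_contra h
    push_neg at h
    exact hg (FaithfulSMul.eq_of_smul_eq_smul (α := Ω) (fun c => by rw [h c, one_smul]))
  obtain ⟨c, hc⟩ := this
  exact outside_stabilizer_fixes_le_one hinv c g hc a b ha hb

theorem mem_conj_stabilizer {w : Ω} {x g : G} :
    x ∈ MulAut.conj g • stabilizer G w ↔ x • (g • w) = g • w := by
  rw [Subgroup.mem_pointwise_smul_iff_inv_smul_mem, mem_stabilizer_iff, MulAut.smul_def,
    ← map_inv, MulAut.conj_apply, inv_inv, mul_smul, mul_smul, inv_smul_eq_iff]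

/-- Let G act faithfully and transitively on a finite set and suppose every element of G fixing no point is an involution. Then either G is an elementary abelian 2-group, or G is a Frobenius group whose Frobenius kernel is an elementary abelian 2-group: G has a Frobenius complement H, and the elements lying in no conjugate of H, together with the identity, pairwise commute and square to the identity. -/
theorem result {G Ω : Type*} [Group G] [Finite G] [MulAction G Ω] [FaithfulSMul G Ω] [Finite Ω]
    (htrans : MulAction.IsPretransitive G Ω) (hinv : ∀ g : G, (∀ ω : Ω, g • ω ≠ ω) → orderOf g = 2) :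
    (IsMulCommutative G ∧ ∀ g : G, g ^ 2 = 1) ∨
    (∃ H : Subgroup G, Cfsg.IsFrobeniusComplement H ∧
      (∀ x ∈ Cfsg.frobeniusKernel H, x ^ 2 = 1) ∧
      ∀ x ∈ Cfsg.frobeniusKernel H, ∀ y ∈ Cfsg.frobeniusKernel H, x * y = y * x) := by
  classical
  haveI := htrans
  by_cases hreg : ∀ g : G, g ≠ 1 → ∀ a : Ω, g • a ≠ a
  · left
    have hsq : ∀ g : G, g ^ 2 = 1 := fun g => by
      by_cases hg : g = 1
      · simp [hg]
      · rw [← hinv g (hreg g hg)]; exact pow_orderOf_eq_one g
    refine ⟨⟨⟨fun x y => ?_⟩⟩, hsq⟩
    have inv_eq : ∀ g : G, g⁻¹ = g := fun g => by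
      rw [inv_eq_iff_mul_eq_one, ← pow_two, hsq]
    calc x * y = (x * y)⁻¹ := (inv_eq _).symm
      _ = y * x := by rw [mul_inv_rev, inv_eq, inv_eq]
  · right
    push_neg at hreg
    obtain ⟨g₀, hg₀, w, hw⟩ := hreg
    have hne : ∀ g : G, g ∉ stabilizer G w → g • w ≠ w := fun g hg => by
      simpa [mem_stabilizer_iff] using hg
    have hker : ∀ x, x ∈ Cfsg.frobeniusKernel (stabilizer G w) → x ≠ 1 → ∀ a : Ω, x • a ≠ a := by
      intro x hx hx1 a ha
      rcases hx with hx | hx
      · exact hx1 hx
      · obtain ⟨g, rfl⟩ := exists_smul_eq G w a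
        exact hx g (mem_conj_stabilizer.mpr ha)
    have hinvol : ∀ x ∈ Cfsg.frobeniusKernel (stabilizer G w), x ^ 2 = 1 := fun x hx => by
      by_cases hx1 : x = 1
      · simp [hx1]
      · rw [← hinv x (hker x hx hx1)]; exact pow_orderOf_eq_one x
    refine ⟨stabilizer G w, ⟨?_, ?_, ?_⟩, hinvol, ?_⟩
    · intro h
      have : g₀ ∈ stabilizer G w := mem_stabilizer_iff.mpr hw
      rw [h, Subgroup.mem_bot] at this
      exact hg₀ this
    · intro h
      refine hg₀ (FaithfulSMul.eq_of_smul_eq_smul (α := Ω) fun a => ?_)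
      obtain ⟨g, rfl⟩ := exists_smul_eq G w a
      have : g⁻¹ * g₀ * g ∈ stabilizer G w := h ▸ Subgroup.mem_top _
      rw [mem_stabilizer_iff, mul_smul, mul_smul, inv_smul_eq_iff] at this
      rw [this, one_smul]
    · intro g hg
      rw [Subgroup.eq_bot_iff_forall]
      intro x hx
      by_contra hx1
      exact hne g hg (fixes_le_one hinv x hx1 (g • w) w (mem_conj_stabilizer.mp hx.2)
        (mem_stabilizer_iff.mp hx.1))
    · intro x hx y hy
      by_cases hxy1 : x = 1
      · simp [hxy1]
      have hx2 : x * x = 1 := by rw [← pow_two]; exact hinvol x hx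
      have hy2 : y * y = 1 := by rw [← pow_two]; exact hinvol y hy
      have hix : x⁻¹ = x := inv_eq_iff_mul_eq_one.mpr hx2
      have hiy : y⁻¹ = y := inv_eq_iff_mul_eq_one.mpr hy2
      by_cases hu : x * y = 1
      · have : y = x := by rw [← inv_eq_of_mul_eq_one_right hu, hix]
        rw [this]
      by_cases hd : ∀ a : Ω, (x * y) • a ≠ a
      · have h2 := mul_self_of_orderOf_two (hinv (x * y) hd)
        calc x * y = (x * y)⁻¹ := (inv_eq_of_mul_eq_one_right h2).symm
          _ = y * x := by rw [mul_inv_rev, hix, hiy]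
      · exfalso
        push_neg at hd
        obtain ⟨a, ha⟩ := hd
        refine hker x hx hxy1 a (fixes_le_one hinv (x * y) hu (x • a) a ?_ ha)
        have h1 : (x * y)⁻¹ • a = a := inv_smul_eq_iff.mpr ha.symm
        have h3 : x * y * x = x * (x * y)⁻¹ := by rw [mul_inv_rev, hix, hiy, mul_assoc]
        rw [smul_smul, h3, mul_smul, h1]

end Cfsg.Agent.S3555
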