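import Cfsg.Statements.S3556
import Cfsg.Agent.Lib.Primitive62.PowerSocle

set_option linter.style.haveILetI false

set_option autoImplicit false
open Cfsg

namespace Cfsg.Agent.S3556

/-- Let G act faithfully and primitively on a finite set with at least two points, and suppose that for some fixed prime p every element of G fixing no point has order a power of p. Then G is of affine type (it has a regular normal subgroup that is an elementary abelian r-group for some prime r) or almost simple (it has a non-abelian simple normal subgroup with trivial centralizer). -/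
theorem result {G Ω : Type*} [Group G] [Finite G] [MulAction G Ω] [FaithfulSMul G Ω] [Finite Ω]
    (hprim : MulAction.IsPreprimitive G Ω) (hΩ : 2 ≤ Nat.card Ω) (p : ℕ) (hp : p.Prime)
    (hder : ∀ g : G, (∀ ω : Ω, g • ω ≠ ω) → ∃ k : ℕ, orderOf g = p ^ k) :
    (∃ (N : Subgroup G) (r : ℕ), r.Prime ∧ N.Normal ∧ Cfsg.IsElementaryAbelian r N ∧
      MulAction.IsPretransitive N Ω ∧ ∀ a : Ω, MulAction.stabilizer N a = ⊥) ∨
    (∃ T : Subgroup G, T.Normal ∧ IsSimpleGroup ↥T ∧ ¬ IsMulCommutative ↥T ∧
      Subgroup.centralizer (T : Set G) = ⊥) := by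
  haveI := hprim
  haveI : Nontrivial Ω := Finite.one_lt_card_iff_nontrivial.mp hΩ
  rcases Lib.Primitive62.primitive_cases (G := G) (Ω := Ω) with
    ⟨N, r, hr, hNn, -, hc, he, hNt, hreg⟩ | hAS | ⟨N, hNn, hNt, -, S, iS, iSs, iSf, k, hk, hS, ⟨e⟩, hcase⟩
  · exact Or.inl ⟨N, r, hr, hNn, ⟨hc, he⟩, hNt, hreg⟩
  · exact Or.inr hAS
  exfalso
  let i : Fin k := ⟨0, hk⟩
  rcases Lib.Primitive62.coordinate_cases' (Ω := Ω) e i with hsingle | ⟨t, -, ht⟩
  · refine Lib.Primitive62.not_isPGroup_of_simple' hS hp fun s => ?_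
    by_cases hs : s = 1
    · exact ⟨0, by simp [hs]⟩
    obtain ⟨j, hj⟩ := hder _ (hsingle s hs)
    rw [Lib.Primitive62.orderOf_single] at hj
    exact ⟨j, hj ▸ pow_orderOf_eq_one s⟩
  · rcases hcase with h2 | hreg
    · let l : Fin k := ⟨1, h2⟩
      have hil : i ≠ l := by simp [i, l, Fin.ext_iff]
      refine Lib.Primitive62.not_isPGroup_of_simple' hS hp fun u => ?_
      obtain ⟨j, hj⟩ := hder _ (ht (Pi.mulSingle i t * Pi.mulSingle l u) (by simp [hil]))
      rw [Subgroup.orderOf_coe, MulEquiv.orderOf_eq] at hj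
      refine ⟨j, ?_⟩
      have h1 := pow_orderOf_eq_one (Pi.mulSingle i t * Pi.mulSingle l u : Fin k → S)
      rw [hj] at h1
      have := congrFun h1 l
      simpa [hil.symm] using this
    · refine Lib.Primitive62.not_isPGroup_of_simple' hS hp fun s => ?_
      by_cases hs : s = 1
      · exact ⟨0, by simp [hs]⟩
      obtain ⟨j, hj⟩ := hder ((e.symm (Pi.mulSingle i s) : N) : G) fun ω hω => hs (by
        have h1 : e.symm (Pi.mulSingle i s) = 1 := by rw [← Subgroup.mem_bot, ← hreg ω]; exact hω
        exact Pi.mulSingle_eq_one_iff.mp (e.symm.injective (h1.trans (map_one _).symm)))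
      rw [Lib.Primitive62.orderOf_single] at hj
      exact ⟨j, hj ▸ pow_orderOf_eq_one s⟩

end Cfsg.Agent.S3556
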