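import Cfsg.Statements.S3557
import Cfsg.Agent.Lib.Regular.Huppert

set_option autoImplicit false
open Cfsg

namespace Cfsg.Agent.S3557

open MulAction

theorem orbit_card_dvd {G Ω : Type*} [Group G] [Finite G] [MulAction G Ω] [Finite Ω]
    (htrans : IsPretransitive G Ω) {p : ℕ} [Fact p.Prime] (hcard : Nat.card Ω = 2 * p ^ 2)
    (P : Sylow p G) (a : Ω) : p ^ 2 ∣ Nat.card (orbit (P : Subgroup G) a) := by
  have e1 : Nat.card (orbit (P : Subgroup G) a) * Nat.card (stabilizer (P : Subgroup G) a) =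
      Nat.card (P : Subgroup G) := by
    rw [← Nat.card_prod, Nat.card_congr (orbitProdStabilizerEquivGroup (P : Subgroup G) a)]
  have e2 : 2 * p ^ 2 * Nat.card (stabilizer G a) = Nat.card G := by
    have h := Nat.card_congr (orbitProdStabilizerEquivGroup G a)
    rwa [Nat.card_prod, orbit_eq_univ, Nat.card_coe_set_eq, Set.ncard_univ, hcard] at h
  obtain ⟨k, hk⟩ := IsPGroup.iff_card.mp
    (P.isPGroup'.to_subgroup (stabilizer (P : Subgroup G) a))
  have h3 : Nat.card (stabilizer (P : Subgroup G) a) ∣ Nat.card (stabilizer G a) :=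
    Subgroup.card_dvd_of_injective (((P : Subgroup G).subtype.comp
      (stabilizer (P : Subgroup G) a).subtype).codRestrict (stabilizer G a) fun x => x.2)
      fun x y h => Subtype.ext (Subtype.ext (congrArg (fun w : stabilizer G a => (w : G)) h))
  have h4 : p ^ (k + 2) ∣ Nat.card G := by
    rw [← e2, pow_add, ← hk, mul_assoc, mul_comm (Nat.card _) (p ^ 2)]
    exact dvd_mul_of_dvd_right (mul_dvd_mul_left _ h3) 2
  have h5 : p ^ (k + 2) ∣ Nat.card (P : Subgroup G) := P.pow_dvd_card_of_pow_dvd_card h4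
  rw [← e1, hk, pow_add, mul_comm (Nat.card _) (p ^ k)] at h5
  exact Nat.dvd_of_mul_dvd_mul_left (pow_pos (Fact.out (p := p.Prime)).pos k) h5


/-- Let G act faithfully and transitively on a finite set with 2p² points, p a prime, and suppose G is 2-closed: every permutation of the set which, on each ordered pair of points, agrees with some element of G, is itself induced by an element of G. Then some element of G of prime order fixes no point. -/
theorem result {G Ω : Type*} [Group G] [Finite G] [MulAction G Ω] [FaithfulSMul G Ω] [Finite Ω]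
    (htrans : MulAction.IsPretransitive G Ω) (p : ℕ) (hp : p.Prime) (hcard : Nat.card Ω = 2 * p ^ 2)
    (hcl : ∀ σ : Equiv.Perm Ω, (∀ a b : Ω, ∃ g : G, σ a = g • a ∧ σ b = g • b) → ∃ g : G, ∀ a : Ω, σ a = g • a) :
    ∃ g : G, (orderOf g).Prime ∧ ∀ ω : Ω, g • ω ≠ ω := by

  classical
  haveI := Fact.mk hp
  haveI := htrans
  obtain ⟨P⟩ := (inferInstance : Nonempty (Sylow p G))
  have hP : IsPGroup p (P : Subgroup G) := P.isPGroup'
  obtain ⟨x0⟩ : Nonempty Ω := (Nat.card_pos_iff.mp (by rw [hcard]; have := hp.pos; positivity)).1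
  have horb := fun a => orbit_card_dvd htrans hcard P a
  have hPne : (⊤ : Subgroup (P : Subgroup G)) ≠ ⊥ := fun h => by
    have h1 := horb x0
    haveI : Subsingleton (P : Subgroup G) := subsingleton_iff.mpr fun u v => by
      have hu : u ∈ (⊥ : Subgroup (P : Subgroup G)) := h ▸ Subgroup.mem_top u
      have hv : v ∈ (⊥ : Subgroup (P : Subgroup G)) := h ▸ Subgroup.mem_top v
      rw [Subgroup.mem_bot] at hu hv
      rw [hu, hv]
    have h2 : Nat.card (orbit (P : Subgroup G) x0) ≤ Nat.card (P : Subgroup G) :=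
      Nat.card_le_card_of_surjective (fun g => ⟨g • x0, g, rfl⟩) fun ⟨y, g, hg⟩ => ⟨g, Subtype.ext hg⟩
    rw [show Nat.card (P : Subgroup G) = 1 from Nat.card_eq_one_iff_unique.mpr ⟨inferInstance, ⟨1⟩⟩] at h2
    have h3 := Nat.le_of_dvd (Nat.card_pos_iff.mpr ⟨⟨⟨x0, mem_orbit_self x0⟩⟩, inferInstance⟩) h1
    have := hp.two_le
    nlinarith
  obtain ⟨z, -, hzc, hzo⟩ := Lib.Regular.exists_central_order_p hP hPne
  have hzcomm : ∀ g : (P : Subgroup G), g * z = z * g := fun g => Subgroup.mem_center_iff.mp hzc g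
  have hzG : orderOf (z : G) = p := by rw [Subgroup.orderOf_coe, hzo]
  by_cases hfix : ∀ ω : Ω, (z : G) • ω ≠ ω
  · exact ⟨z, hzG.symm ▸ hp, hfix⟩
  push Not at hfix
  obtain ⟨a, ha⟩ := hfix
  obtain ⟨b, hb⟩ : ∃ b : Ω, z • b ≠ b := by
    by_contra h
    push Not at h
    have h1 : (z : G) = 1 := eq_of_smul_eq_smul (α := Ω) fun x => by rw [one_smul]; exact h x
    rw [h1, orderOf_one] at hzG
    exact hp.ne_one hzG.symm
  set A := orbit (P : Subgroup G) a with hA
  set B := orbit (P : Subgroup G) b with hB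
  have hzA : ∀ x ∈ A, z • x = x := by
    rintro _ ⟨g, rfl⟩
    show z • (g • a) = g • a
    rw [← mul_smul, ← hzcomm g, mul_smul]
    exact congrArg (g • ·) ha
  have hzB : ∀ x ∈ B, z • x ≠ x := by
    rintro _ ⟨g, rfl⟩ h
    change z • (g • b) = g • b at h
    rw [← mul_smul, ← hzcomm g, mul_smul] at h
    exact hb (smul_left_cancel g h)
  have hdisj : Disjoint A B := Set.disjoint_left.mpr fun x hx hx' => hzB x hx' (hzA x hx)
  have hposA : 0 < A.ncard := (Set.ncard_pos).mpr ⟨a, mem_orbit_self a⟩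
  have hposB : 0 < B.ncard := (Set.ncard_pos).mpr ⟨b, mem_orbit_self b⟩
  have hlA : p ^ 2 ≤ A.ncard :=
    Nat.le_of_dvd hposA (by rw [← Nat.card_coe_set_eq]; exact horb a)
  have hlB : p ^ 2 ≤ B.ncard :=
    Nat.le_of_dvd hposB (by rw [← Nat.card_coe_set_eq]; exact horb b)
  have hsum : (A ∪ B).ncard = A.ncard + B.ncard := Set.ncard_union_eq hdisj
  have hle : (A ∪ B).ncard ≤ 2 * p ^ 2 := by
    rw [← hcard, ← Set.ncard_univ]; exact Set.ncard_le_ncard (Set.subset_univ _)
  have hcA : A.ncard = p ^ 2 := by omega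
  have hcB : B.ncard = p ^ 2 := by omega
  have hAB : ∀ x, x ∈ A ∨ x ∈ B := fun x => by
    have h1 : A ∪ B = Set.univ := Set.eq_of_subset_of_ncard_le (Set.subset_univ _)
      (by rw [Set.ncard_univ, hcard]; omega)
    exact (h1 ▸ Set.mem_univ x : x ∈ A ∪ B)
  -- the subgroup `S`
  set S := stabilizer (P : Subgroup G) b ⊔ Subgroup.zpowers z with hSdef
  haveI hZn : (Subgroup.zpowers z).Normal := Lib.Regular.zpowers_normal_of_mem_center hzc
  have hidx : (stabilizer (P : Subgroup G) b).index = p ^ 2 := by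
    rw [index_stabilizer, hcB]
  have hidxA : (stabilizer (P : Subgroup G) a).index = p ^ 2 := by
    rw [index_stabilizer, hcA]
  have hSb : ∀ h ∈ S, ∃ i : ℤ, h • b = (z ^ i) • b := by
    intro h hh
    obtain ⟨s, hs, v, ⟨i, rfl⟩, rfl⟩ := Subgroup.mem_sup_of_normal_right.mp hh
    refine ⟨i, ?_⟩
    show (s * z ^ i) • b = z ^ i • b
    rw [((Commute.zpow_right (show Commute s z from hzcomm s) i)).eq, mul_smul,
      mem_stabilizer_iff.mp hs]
  have hSidx : S.index = p := by
    have hd : S.index ∣ p ^ 2 := hidx ▸ Subgroup.index_dvd_of_le le_sup_left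
    obtain ⟨k, hk, hk'⟩ := (Nat.dvd_prime_pow hp).mp hd
    interval_cases k
    · exfalso
      rw [pow_zero, Subgroup.index_eq_one] at hk'
      have h2 : B ⊆ (fun i : ℕ => (z ^ i) • b) '' Set.Iio p := by
        rintro _ ⟨g, rfl⟩
        obtain ⟨i, hi⟩ := hSb g (hk' ▸ Subgroup.mem_top g)
        refine ⟨(i % p).toNat, ?_, ?_⟩
        · have := Int.emod_lt_of_pos i (Int.natCast_pos.mpr hp.pos)
          have := Int.emod_nonneg i (Int.natCast_ne_zero.mpr hp.ne_zero)
          simp only [Set.mem_Iio]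
          omega
        · show (z ^ (i % p).toNat) • b = g • b
          rw [hi, ← zpow_natCast, Int.toNat_of_nonneg
            (Int.emod_nonneg i (Int.natCast_ne_zero.mpr hp.ne_zero)),
            ← zpow_eq_zpow_emod i (x := z) (by rw [zpow_natCast]; exact orderOf_dvd_iff_pow_eq_one.mp hzo.dvd)]
      have h3 := (Set.ncard_le_ncard h2).trans (Set.ncard_image_le (Set.finite_Iio p))
      rw [hcB, show (Set.Iio p).ncard = p by
        rw [← Finset.coe_Iio, Set.ncard_coe_finset, Nat.card_Iio]] at h3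
      have := hp.two_le
      nlinarith
    · simpa using hk'
    · exfalso
      have h2 : stabilizer (P : Subgroup G) b = S := by
        refine Subgroup.eq_of_le_of_card_ge le_sup_left ?_
        have e1 := (stabilizer (P : Subgroup G) b).card_mul_index
        have e2 := S.card_mul_index
        rw [hidx] at e1
        rw [hk', ← e1] at e2
        exact (Nat.eq_of_mul_eq_mul_right (pow_pos hp.pos 2) e2).le
      exact hb (mem_stabilizer_iff.mp
        (h2 ▸ Subgroup.mem_sup_right (Subgroup.mem_zpowers z) : z ∈ stabilizer (P : Subgroup G) b))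
  haveI hSn : S.Normal := Subgroup.normal_of_index_eq_minFac_card (by
    obtain ⟨n, hn⟩ := IsPGroup.iff_card.mp hP
    have hn0 : n ≠ 0 := by
      rintro rfl
      have := S.index_dvd_card
      rw [hn, hSidx, pow_zero, Nat.dvd_one] at this
      exact hp.ne_one this
    rw [hSidx, hn, Nat.Prime.pow_minFac hp hn0])
  -- the element `w`
  set K := (stabilizer (P : Subgroup G) a).normalCore with hK
  have hKA : ∀ h ∈ K, ∀ x ∈ A, h • x = x := by
    rintro h hh _ ⟨g, rfl⟩
    have h1 : g⁻¹ * h * g⁻¹⁻¹ ∈ stabilizer (P : Subgroup G) a := hh g⁻¹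
    have h2 := mem_stabilizer_iff.mp h1
    rw [inv_inv, mul_smul, mul_smul, inv_smul_eq_iff] at h2
    exact h2
  have hSK : S.map (QuotientGroup.mk' K) ≠ ⊥ := by
    intro h
    rw [Subgroup.map_eq_bot_iff, QuotientGroup.ker_mk'] at h
    have h2 := Subgroup.index_dvd_of_le (h.trans (Subgroup.normalCore_le _))
    rw [hidxA, hSidx] at h2
    have := Nat.le_of_dvd hp.pos h2
    have := hp.two_le
    nlinarith
  haveI := hSn.map (QuotientGroup.mk' K) (QuotientGroup.mk'_surjective K)
  obtain ⟨_, ⟨w, hwS, rfl⟩, hwc, hwo⟩ :=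
    Lib.Regular.exists_central_order_p (hP.to_quotient K) hSK
  have hwcomm : ∀ g : (P : Subgroup G), ∀ x ∈ A, w • g • x = g • w • x := by
    intro g x hx
    have h1 := Subgroup.mem_center_iff.mp hwc (QuotientGroup.mk' K g)
    rw [← map_mul, ← map_mul, QuotientGroup.mk'_apply, QuotientGroup.mk'_apply,
      QuotientGroup.eq] at h1
    have h2 := hKA _ h1 x hx
    rw [mul_smul, inv_smul_eq_iff, mul_smul, mul_smul] at h2
    exact h2
  have hwA : ∀ x ∈ A, w • x ≠ x := by
    intro x hx h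
    have hall : ∀ y ∈ A, w • y = y := by
      intro y hy
      obtain ⟨g, rfl⟩ : ∃ g : (P : Subgroup G), g • x = y := by
        change y ∈ orbit (P : Subgroup G) a at hy
        rw [← orbit_eq_iff.mpr hx] at hy
        exact hy
      rw [hwcomm g x hx, h]
    have h1 : w ∈ K := fun g => mem_stabilizer_iff.mpr (by
      rw [mul_smul, mul_smul, hall (g⁻¹ • a) ⟨g⁻¹, rfl⟩, smul_inv_smul])
    rw [QuotientGroup.mk'_apply, (QuotientGroup.eq_one_iff w).mpr h1, orderOf_one] at hwo
    exact hp.ne_one hwo.symm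
  have hwp : ∀ x ∈ A, (w ^ p) • x = x := fun x hx => hKA _ (by
    rw [← QuotientGroup.eq_one_iff, QuotientGroup.mk_pow]
    rw [QuotientGroup.mk'_apply] at hwo
    exact orderOf_dvd_iff_pow_eq_one.mp hwo.dvd) x hx
  -- the permutation
  have hAinv : ∀ (g : (P : Subgroup G)), ∀ x ∈ A, g • x ∈ A := by
    rintro g _ ⟨h, rfl⟩
    exact ⟨g * h, mul_smul g h a⟩
  let f : Ω → Ω := fun x => if x ∈ A then w • x else x
  have hfinj : Function.Injective f := by
    intro x y h
    simp only [f] at h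
    by_cases hx : x ∈ A <;> by_cases hy : y ∈ A
    · rw [if_pos hx, if_pos hy] at h; exact smul_left_cancel w h
    · rw [if_pos hx, if_neg hy] at h; exact absurd (h ▸ hAinv w x hx) hy
    · rw [if_neg hx, if_pos hy] at h; exact absurd (h.symm ▸ hAinv w y hy) hx
    · rwa [if_neg hx, if_neg hy] at h
  let σ : Equiv.Perm Ω := Equiv.ofBijective f (Finite.injective_iff_bijective.mp hfinj)
  have hσA : ∀ x ∈ A, σ x = w • x := fun x hx => if_pos hx
  have hσB : ∀ x ∈ B, σ x = x := fun x hx => if_neg fun h => hzB x hx (hzA x h)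
  have hmixed : ∀ x ∈ A, ∀ y ∈ B, ∃ g : (P : Subgroup G), w • x = g • x ∧ y = g • y := by
    rintro x hx _ ⟨g, rfl⟩
    have hws : g⁻¹ * w * g⁻¹⁻¹ ∈ S := hSn.conj_mem w hwS g⁻¹
    obtain ⟨i, hi⟩ := hSb _ hws
    rw [inv_inv, mul_smul, mul_smul, inv_smul_eq_iff] at hi
    refine ⟨(z ^ i)⁻¹ * w, ?_, ?_⟩
    · rw [mul_smul]
      have h1 : z ^ i ∈ stabilizer (P : Subgroup G) (w • x) :=
        Subgroup.zpow_mem _ (hzA _ (hAinv w x hx)) i
      exact (mem_stabilizer_iff.mp (inv_mem h1)).symm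
    · show g • b = ((z ^ i)⁻¹ * w) • (g • b)
      rw [mul_smul, hi, eq_inv_smul_iff, ← mul_smul, ← mul_smul]
      rw [((Commute.zpow_right (show Commute g z from hzcomm g) i)).eq]
  obtain ⟨g0, hg0⟩ := hcl σ fun x y => by
    rcases hAB x with hx | hx <;> rcases hAB y with hy | hy
    · exact ⟨w, by rw [hσA x hx]; rfl, by rw [hσA y hy]; rfl⟩
    · obtain ⟨g, h1, h2⟩ := hmixed x hx y hy
      exact ⟨g, by rw [hσA x hx, h1]; rfl, by rw [hσB y hy]; exact h2⟩
    · obtain ⟨g, h1, h2⟩ := hmixed y hy x hx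
      exact ⟨g, by rw [hσB x hx]; exact h2, by rw [hσA y hy, h1]; rfl⟩
    · exact ⟨1, by rw [hσB x hx, one_smul], by rw [hσB y hy, one_smul]⟩
  have hnew : ∀ x, (x ∈ A → (g0 * (z : G)) • x = w • x) ∧ (x ∈ B → (g0 * (z : G)) • x = z • x) := by
    intro x
    refine ⟨fun hx => ?_, fun hx => ?_⟩
    · rw [mul_smul, show (z : G) • x = x from hzA x hx, ← hg0, hσA x hx]
    · rw [mul_smul, ← hg0]
      refine hσB _ ?_
      obtain ⟨g, rfl⟩ := hx
      exact ⟨z * g, mul_smul z g b⟩
  have hne : ∀ x, (g0 * (z : G)) • x ≠ x := fun x => by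
    rcases hAB x with hx | hx
    · rw [(hnew x).1 hx]; exact hwA x hx
    · rw [(hnew x).2 hx]; exact hzB x hx
  refine ⟨g0 * (z : G), ?_, hne⟩
  have hpow : (g0 * (z : G)) ^ p = 1 := eq_of_smul_eq_smul (α := Ω) fun x => by
    rw [one_smul]
    rcases hAB x with hx | hx
    · have h1 : ∀ n : ℕ, (g0 * (z : G)) ^ n • x = (w ^ n) • x := by
        intro n
        induction n with
        | zero => simp
        | succ n ih =>
          rw [pow_succ', mul_smul (g0 * (z : G)), ih, (hnew _).1 (hAinv _ x hx), ← mul_smul,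
            ← pow_succ']
      rw [h1 p, hwp x hx]
    · have h1 : ∀ n : ℕ, (g0 * (z : G)) ^ n • x = (z ^ n) • x := by
        intro n
        induction n with
        | zero => simp
        | succ n ih =>
          rw [pow_succ', mul_smul (g0 * (z : G)), ih, pow_succ', mul_smul z]
          refine (hnew _).2 ?_
          obtain ⟨g, rfl⟩ := hx
          exact ⟨z ^ n * g, mul_smul _ g b⟩
      rw [h1 p, orderOf_dvd_iff_pow_eq_one.mp hzo.dvd, one_smul]
  rw [orderOf_eq_prime hpow fun h => hne x0 (by rw [h, one_smul])]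
  exact hp

end Cfsg.Agent.S3557
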