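import Cfsg.Statements.S3559
import Mathlib
import Cfsg.Agent.Lib.CyclicBGroup.Basic

set_option autoImplicit false
open Cfsg

namespace Cfsg.Agent.S3559

/-- Let G act faithfully and transitively on a finite set whose number of points n ≥ 2 is not a prime power, and suppose G has a cyclic subgroup acting regularly (transitively with trivial point stabilizers). Then G is imprimitive or doubly transitive. -/
theorem result {G Ω : Type*} [Group G] [Finite G] [MulAction G Ω] [FaithfulSMul G Ω] [Finite Ω]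
    (htrans : MulAction.IsPretransitive G Ω) (hn : 2 ≤ Nat.card Ω) (hnp : ¬ IsPrimePow (Nat.card Ω))
    (C : Subgroup G) (hcyc : IsCyclic ↥C) (hC : MulAction.IsPretransitive ↥C Ω ∧ ∀ a : Ω, MulAction.stabilizer ↥C a = ⊥) :
    ¬ MulAction.IsPreprimitive G Ω ∨ MulAction.IsMultiplyPretransitive G Ω 2 := by
  classical
  by_cases hprim : MulAction.IsPreprimitive G Ω
  swap
  · exact Or.inl hprim
  refine Or.inr (MulAction.is_two_pretransitive_iff.mpr ?_)
  obtain ⟨hCt, hCs⟩ := hC
  haveI := hCt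
  haveI := hcyc
  obtain ⟨ω⟩ : Nonempty Ω := (Nat.card_pos_iff.mp (by omega)).1
  have hbij : Function.Bijective fun c : C => c • ω := by
    refine ⟨fun a b hab => ?_, fun w => MulAction.exists_smul_eq C ω w⟩
    have h : b⁻¹ * a ∈ MulAction.stabilizer C ω := by
      rw [MulAction.mem_stabilizer_iff, mul_smul, show a • ω = b • ω from hab, inv_smul_smul]
    rw [hCs, Subgroup.mem_bot, inv_mul_eq_one] at h
    exact h.symm
  set n := Nat.card C with hn_def
  have hcard : n = Nat.card Ω := Nat.card_congr (Equiv.ofBijective _ hbij)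
  haveI : NeZero n := ⟨by omega⟩
  let ψ : Multiplicative (ZMod n) ≃* C := zmodCyclicMulEquiv hcyc
  let e : ZMod n ≃ Ω := (Multiplicative.ofAdd.trans ψ.toEquiv).trans (Equiv.ofBijective _ hbij)
  have he : ∀ k a : ZMod n, e (k + a) = ((ψ (Multiplicative.ofAdd a) : C) : G) • e k := fun k a => by
    show ((ψ (Multiplicative.ofAdd (k + a)) : C) : G) • ω =
      ((ψ (Multiplicative.ofAdd a) : C) : G) • ((ψ (Multiplicative.ofAdd k) : C) : G) • ω
    rw [smul_smul, ← Subgroup.coe_mul, ← map_mul, ← ofAdd_add, add_comm]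
  let φ : G →* Equiv.Perm (ZMod n) :=
    MonoidHom.mk' (fun γ => e.trans ((MulAction.toPerm γ).trans e.symm))
      fun a b => by ext k; simp [mul_smul]
  have hφ : ∀ (γ : G) (k : ZMod n), e (φ γ k) = γ • e k := fun γ k => by simp [φ]
  have htr : ∀ a : ZMod n, Equiv.addRight a ∈ φ.range := fun a =>
    ⟨((ψ (Multiplicative.ofAdd a) : C) : G), Equiv.ext fun k => e.injective (by
      rw [hφ]; exact (he k a).symm)⟩
  obtain ⟨p, hp, q, hpq, hq⟩ : ∃ p : ℕ, p.Prime ∧ ∃ q : ℕ, n = p * q ∧ 1 < q := by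
    obtain ⟨p, hp, q, hq⟩ : ∃ p : ℕ, p.Prime ∧ p ∣ n := Nat.exists_prime_and_dvd (by omega)
    refine ⟨p, hp, q, hq, ?_⟩
    rcases q with - | - | q
    · simp at hq; omega
    · exfalso; exact hnp (by rw [← hcard, hq, zero_add, mul_one]; exact hp.isPrimePow)
    · omega
  have hΓ : Cfsg.Agent.Lib.CyclicBGroup.Prim φ.range := by
    intro L hLb hLt hL
    have hG : ∀ γ : G, ∀ i j : ZMod n, j - i ∈ L → e.symm (γ • e j) - e.symm (γ • e i) ∈ L :=
      fun γ i j h => hL (φ γ) ⟨γ, rfl⟩ i j h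
    set B : Set Ω := {w | e.symm w ∈ L}
    have hB : MulAction.IsBlock G B := by
      rw [MulAction.isBlock_iff_smul_eq_of_nonempty]
      rintro γ ⟨w, ⟨u, hu, rfl⟩, hw⟩
      have huL : e.symm (γ • u) ∈ L := hw
      have hu' : e.symm u ∈ L := hu
      ext v
      constructor
      · rintro ⟨v, hv, rfl⟩
        have := L.add_mem (hG γ (e.symm u) (e.symm v) (L.sub_mem hv hu')) huL
        rw [e.apply_symm_apply, e.apply_symm_apply, sub_add_cancel] at this
        exact this
      · intro hv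
        refine ⟨γ⁻¹ • v, ?_, smul_inv_smul γ v⟩
        show e.symm _ ∈ L
        have := L.add_mem (hG γ⁻¹ (e.symm (γ • u)) (e.symm v) (L.sub_mem hv huL)) hu'
        simp only [e.apply_symm_apply, inv_smul_smul, sub_add_cancel] at this
        exact this
    rcases hprim.isTrivialBlock_of_isBlock hB with h | h
    · obtain ⟨a, b, hab⟩ := ((AddSubgroup.nontrivial_iff_ne_bot L).mpr hLb).exists_pair_ne
      exact hab (Subtype.ext (e.injective
        (h (show e.symm (e a.1) ∈ L by simp) (show e.symm (e b.1) ∈ L by simp))))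
    · refine hLt ((AddSubgroup.eq_top_iff' L).mpr fun x => ?_)
      have : e x ∈ B := h ▸ Set.mem_univ _
      simpa [B] using this
  haveI := Fact.mk hp
  intro a b c d hab hcd
  have hx : e.symm b - e.symm a ≠ 0 := sub_ne_zero.mpr fun h => hab (e.symm.injective h).symm
  have hy : e.symm d - e.symm c ≠ 0 := sub_ne_zero.mpr fun h => hcd (e.symm.injective h).symm
  obtain ⟨_, ⟨γ, rfl⟩, i, hi⟩ := Cfsg.Agent.Lib.CyclicBGroup.transitive_nonzero
    (Γ := φ.range) htr hpq hq hΓ hx hy
  obtain ⟨α, hα⟩ := htr (i - e.symm a)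
  obtain ⟨β, hβ⟩ := htr (e.symm c - φ γ i)
  refine ⟨β * γ * α, ?_, ?_⟩
  · have h1 : α • a = e i := by
      rw [← e.apply_symm_apply a, ← hφ, hα]; simp
    rw [mul_smul, mul_smul, h1, ← hφ, ← hφ, hβ]
    simp
  · have h1 : α • b = e (i + (e.symm b - e.symm a)) := by
      rw [← e.apply_symm_apply b, ← hφ, hα]; simp; abel_nf
    rw [mul_smul, mul_smul, h1, ← hφ, ← hφ, hβ]
    simp only [Equiv.coe_addRight]
    rw [show φ γ (i + (e.symm b - e.symm a)) + (e.symm c - φ γ i) = e.symm d by
      rw [sub_eq_iff_eq_add.mp hi]; abel, e.apply_symm_apply]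

end Cfsg.Agent.S3559
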