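import Cfsg.Statements.S3560
import Mathlib

set_option autoImplicit false
open Cfsg

namespace Cfsg.Agent.S3560

open Finset

section Hamming

variable {ι β : Type*} [Fintype ι] [DecidableEq ι] [DecidableEq β]

/-- Coordinatewise permutations combined with a permutation of the coordinates. -/
def wrPerm (π : ι → Equiv.Perm β) (τ : Equiv.Perm ι) : Equiv.Perm (ι → β) where
  toFun x i := π i (x (τ i))
  invFun y i := (π (τ.symm i)).symm (y (τ.symm i))
  left_inv x := by funext i; simp
  right_inv y := by
    funext i
    simp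

theorem hammingDist_wrPerm (π : ι → Equiv.Perm β) (τ : Equiv.Perm ι) (x y : ι → β) :
    hammingDist (wrPerm π τ x) (wrPerm π τ y) = hammingDist x y := by
  unfold hammingDist
  refine card_equiv τ fun i => ?_
  simp [wrPerm]

theorem exists_of_hammingDist_one {x y : ι → β} (h : hammingDist x y = 1) :
    ∃ i, x i ≠ y i ∧ ∀ j, j ≠ i → x j = y j := by
  unfold hammingDist at h
  obtain ⟨i, hi⟩ := card_eq_one.mp h
  refine ⟨i, ?_, fun j hj => ?_⟩
  · have := (Finset.ext_iff.mp hi i).mpr (mem_singleton_self i)
    simpa using this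
  · by_contra hne
    exact hj (mem_singleton.mp ((Finset.ext_iff.mp hi j).mp (by simpa using hne)))

theorem hammingDist_update_eq_one (x : ι → β) {i : ι} {c : β} (hc : c ≠ x i) :
    hammingDist x (Function.update x i c) = 1 := by
  unfold hammingDist
  rw [card_eq_one]
  refine ⟨i, ext fun j => ?_⟩
  by_cases hj : j = i
  · subst hj; simp [Ne.symm hc]
  · simp [hj]

theorem closed_eq_univ [Nonempty β] {B : Set (ι → β)} (hne : B.Nonempty)
    (h : ∀ z ∈ B, ∀ w, hammingDist z w = 1 → w ∈ B) : B = Set.univ := by
  obtain ⟨z, hz⟩ := hne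
  refine Set.eq_univ_of_forall fun w => ?_
  have : ∀ s : Finset ι, (fun i => if i ∈ s then w i else z i) ∈ B := by
    intro s
    induction s using Finset.induction_on with
    | empty => simpa using hz
    | @insert i s hi ih =>
      have e : (fun j => if j ∈ insert i s then w j else z j) =
          Function.update (fun j => if j ∈ s then w j else z j) i (w i) := by
        funext j
        by_cases hj : j = i
        · subst hj; simp
        · simp [hj]
      rw [e]
      by_cases hw : w i = (fun j => if j ∈ s then w j else z j) i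
      · rw [hw, Function.update_eq_self]; exact ih
      · exact h _ ih _ (hammingDist_update_eq_one _ hw)
  simpa using this univ

/-- The permutations of `X` preserving the Hamming distance of the coordinates. -/
def hammingAut {X : Type*} (c : X ≃ (ι → β)) : Subgroup (Equiv.Perm X) where
  carrier := {σ | ∀ x y, hammingDist (c (σ x)) (c (σ y)) = hammingDist (c x) (c y)}
  one_mem' := fun x y => rfl
  mul_mem' := fun {a b} ha hb x y => (ha _ _).trans (hb x y)
  inv_mem' := fun {a} ha x y => by
    rw [← ha (a⁻¹ x) (a⁻¹ y)]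
    simp

theorem wr_mem_hammingAut {X : Type*} (c : X ≃ (ι → β)) (π : ι → Equiv.Perm β) (τ : Equiv.Perm ι) :
    c.symm.permCongr (wrPerm π τ) ∈ hammingAut c := fun x y => by
  show hammingDist (c (c.symm (wrPerm π τ _))) (c (c.symm (wrPerm π τ _))) = _
  simp [hammingDist_wrPerm]

theorem isPreprimitive_hammingAut [Fintype β] {X : Type*} (c : X ≃ (ι → β))
    (hm : 3 ≤ Fintype.card β) : MulAction.IsPreprimitive ↥(hammingAut c) X := by
  classical
  haveI : Nonempty β := Fintype.card_pos_iff.mp (by omega)
  have move : ∀ (π : ι → Equiv.Perm β) (τ : Equiv.Perm ι) (z : X),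
      (⟨_, wr_mem_hammingAut c π τ⟩ : ↥(hammingAut c)) • z = c.symm (wrPerm π τ (c z)) :=
    fun π τ z => rfl
  haveI htrans : MulAction.IsPretransitive ↥(hammingAut c) X := ⟨fun x y =>
    ⟨⟨_, wr_mem_hammingAut c (fun i => Equiv.swap (c x i) (c y i)) 1⟩, by
      rw [move]; apply c.injective; funext i; simp [wrPerm]⟩⟩
  refine { htrans with isTrivialBlock_of_isBlock := fun {B} hB => ?_ }
  by_cases hsub : B.Subsingleton
  · exact Or.inl hsub
  right
  rw [Set.not_subsingleton_iff] at hsub
  obtain ⟨a, ha, b, hb, hab⟩ := hsub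
  have hblk : ∀ (g : ↥(hammingAut c)) (z : X), z ∈ B → g • z ∈ B → ∀ w ∈ B, g • w ∈ B := by
    intro g z hz hgz w hw
    have := (MulAction.isBlock_iff_smul_eq_of_nonempty.mp hB)
      (g := g) ⟨g • z, Set.smul_mem_smul_set hz, hgz⟩
    rw [← this]
    exact Set.smul_mem_smul_set hw
  -- two points of `B` at distance one
  obtain ⟨i, hi⟩ : ∃ i, c a i ≠ c b i := by
    by_contra h
    push Not at h
    exact hab (c.injective (funext h))
  obtain ⟨d, hd⟩ : ∃ d, d ≠ c a i ∧ d ≠ c b i := by
    obtain ⟨d, -, hd⟩ := exists_mem_notMem_of_card_lt_card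
      (show ({c a i, c b i} : Finset β).card < (univ : Finset β).card from
        lt_of_le_of_lt Finset.card_le_two (by rw [card_univ]; omega))
    simp only [mem_insert, mem_singleton, not_or] at hd
    exact ⟨d, hd⟩
  set π : ι → Equiv.Perm β := Function.update (fun _ => 1) i (Equiv.swap (c b i) d) with hπ
  have hga : (⟨_, wr_mem_hammingAut c π 1⟩ : ↥(hammingAut c)) • a = a := by
    rw [move]
    apply c.injective
    funext j
    by_cases hj : j = i
    · subst hj; simp [wrPerm, π, Equiv.swap_apply_of_ne_of_ne hi hd.1.symm]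
    · simp [wrPerm, π, hj]
  set b' := (⟨_, wr_mem_hammingAut c π 1⟩ : ↥(hammingAut c)) • b with hb'
  have hb'B : b' ∈ B := hblk _ a ha (by rw [hga]; exact ha) b hb
  have hbb' : hammingDist (c b) (c b') = 1 := by
    have e : c b' = Function.update (c b) i d := by
      rw [hb', move]
      funext j
      by_cases hj : j = i
      · subst hj; simp [wrPerm, π]
      · simp [wrPerm, π, hj]
    rw [e]
    exact hammingDist_update_eq_one _ hd.2
  -- closed under neighbours
  have hclosed : ∀ z ∈ B, ∀ w, hammingDist (c z) (c w) = 1 → w ∈ B := by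
    intro z hz w hw
    obtain ⟨g, hg⟩ := MulAction.exists_smul_eq ↥(hammingAut c) b z
    have hv : g • b' ∈ B := hblk g b hb (by rw [hg]; exact hz) b' hb'B
    set v := g • b' with hvdef
    have hzv : hammingDist (c z) (c v) = 1 := by
      rw [← hbb', ← hg, hvdef]
      exact g.2 b b'
    obtain ⟨j, hj, hj'⟩ := exists_of_hammingDist_one hzv
    obtain ⟨l, hl, hl'⟩ := exists_of_hammingDist_one hw
    set τ : Equiv.Perm ι := Equiv.swap j l with hτ
    set ρ : ι → Equiv.Perm β := fun k =>
      if k = l then (Equiv.swap (c z j) (c z l)).trans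
        (Equiv.swap (Equiv.swap (c z j) (c z l) (c v j)) (c w l))
      else Equiv.swap (c z (τ k)) (c z k) with hρ
    have h1 : (⟨_, wr_mem_hammingAut c ρ τ⟩ : ↥(hammingAut c)) • z = z := by
      rw [move]
      apply c.injective
      funext k
      by_cases hk : k = l
      · subst hk
        simp only [Equiv.apply_symm_apply, wrPerm, Equiv.coe_fn_mk, ρ, ↓reduceIte, τ,
          Equiv.swap_apply_right, Equiv.trans_apply, Equiv.swap_apply_left]
        refine Equiv.swap_apply_of_ne_of_ne ?_ hl
        intro h
        apply hj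
        apply (Equiv.swap (c z j) (c z k)).injective
        rw [Equiv.swap_apply_left]
        exact h
      · simp [wrPerm, ρ, hk]
    have h2 : (⟨_, wr_mem_hammingAut c ρ τ⟩ : ↥(hammingAut c)) • v = w := by
      rw [move]
      apply c.injective
      funext k
      by_cases hk : k = l
      · subst hk
        simp [wrPerm, ρ, τ]
      · have hτk : τ k ≠ j := fun h => hk (τ.injective (h.trans (Equiv.swap_apply_right j l).symm))
        rw [Equiv.apply_symm_apply]
        show ρ k (c v (τ k)) = c w k
        rw [← hj' (τ k) hτk, ← hl' k hk]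
        simp [ρ, hk]
    rw [← h2]
    exact hblk _ z hz (by rw [h1]; exact hz) v hv
  have huniv := closed_eq_univ (B := c '' B) ⟨c a, a, ha, rfl⟩ (by
    rintro _ ⟨z, hz, rfl⟩ w hw
    exact ⟨c.symm w, hclosed z hz _ (by simpa using hw), by simp⟩)
  refine Set.eq_univ_of_forall fun x => ?_
  have hx : c x ∈ c '' B := huniv ▸ Set.mem_univ _
  obtain ⟨y, hy, hyx⟩ := hx
  rwa [← c.injective hyx]

theorem not_two_transitive [Fintype β] {X : Type*} (c : X ≃ (ι → β))
    (hm : 3 ≤ Fintype.card β) (hr : 2 ≤ Fintype.card ι) :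
    ¬ MulAction.IsMultiplyPretransitive ↥(hammingAut c) X 2 := by
  classical
  intro h
  obtain ⟨x⟩ : Nonempty β := Fintype.card_pos_iff.mp (by omega)
  obtain ⟨y, hy⟩ := Fintype.exists_ne_of_one_lt_card (by omega) x
  obtain ⟨i⟩ : Nonempty ι := Fintype.card_pos_iff.mp (by omega)
  set a : X := c.symm (fun _ => x) with ha
  set b : X := c.symm (Function.update (fun _ => x) i y) with hb
  set d : X := c.symm (fun _ => y) with hd
  have hab : hammingDist (c a) (c b) = 1 := by
    simp only [ha, hb, Equiv.apply_symm_apply]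
    exact hammingDist_update_eq_one (fun _ => x) hy
  have had : hammingDist (c a) (c d) = Fintype.card ι := by
    simp only [ha, hd, Equiv.apply_symm_apply]
    simp [hammingDist, hy.symm]
  have h1 : a ≠ b := fun e => by rw [e, hammingDist_self] at hab; omega
  have h2 : a ≠ d := fun e => by rw [e, hammingDist_self] at had; omega
  obtain ⟨g, hga, hgb⟩ := MulAction.is_two_pretransitive_iff.mp h h1 h2
  have h3 : hammingDist (c (g • a)) (c (g • b)) = hammingDist (c a) (c b) := g.2 a b
  rw [hga, hgb, had, hab] at h3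
  omega

end Hamming


/-- Let K be a finite group isomorphic to a direct product of r ≥ 2 groups all of the same order m ≥ 3. Then K is not a B-group: there is a primitive but not doubly transitive permutation group (on some finite set) containing a regular subgroup isomorphic to K. -/
theorem result {K : Type*} [Group K] [Finite K] {ι : Type*} [Fintype ι] (F : ι → Type*) [∀ i, Group (F i)]
    (hr : 2 ≤ Fintype.card ι) (m : ℕ) (hm : 3 ≤ m) (hcard : ∀ i, Nat.card (F i) = m) (e : K ≃* (∀ i, F i)) :
    ∃ (n : ℕ) (G R : Subgroup (Equiv.Perm (Fin n))), R ≤ G ∧ Nonempty (↥R ≃* K) ∧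
      MulAction.IsPretransitive ↥R (Fin n) ∧ (∀ a : Fin n, MulAction.stabilizer ↥R a = ⊥) ∧
      MulAction.IsPreprimitive ↥G (Fin n) ∧ ¬ MulAction.IsMultiplyPretransitive ↥G (Fin n) 2 := by

  classical
  haveI : ∀ i, Finite (F i) := fun i => Nat.finite_of_card_ne_zero (by rw [hcard]; omega)
  let f : ∀ i, F i ≃ Fin m := fun i => Finite.equivFinOfCardEq (hcard i)
  let E : Fin (Nat.card K) ≃ K := (Finite.equivFin K).symm
  let c : Fin (Nat.card K) ≃ (ι → Fin m) := E.trans (e.toEquiv.trans (Equiv.piCongrRight f))
  let L : K →* Equiv.Perm (Fin (Nat.card K)) :=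
    E.symm.permCongrHom.toMonoidHom.comp (MulAction.toPermHom K K)
  have hL : ∀ k x, L k x = E.symm (k * E x) := fun k x => rfl
  have hLinj : Function.Injective L := fun k k' h => by
    have := DFunLike.congr_fun h (E.symm 1)
    rw [hL, hL] at this
    simpa using this
  refine ⟨Nat.card K, hammingAut c, L.range, ?_, ⟨(MonoidHom.ofInjective hLinj).symm⟩, ?_, ?_,
    isPreprimitive_hammingAut c (by simpa using hm), not_two_transitive c (by simpa using hm) hr⟩
  · rintro _ ⟨k, rfl⟩ x y
    simp only [hammingDist]
    congr 1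
    ext i
    simp [c, hL, map_mul]
  · refine ⟨fun x y => ⟨⟨_, E y * (E x)⁻¹, rfl⟩, ?_⟩⟩
    show L (E y * (E x)⁻¹) x = y
    rw [hL, inv_mul_cancel_right, Equiv.symm_apply_apply]
  · intro a
    rw [Subgroup.eq_bot_iff_forall]
    rintro ⟨_, k, rfl⟩ hk
    have hk' : L k a = a := hk
    rw [hL, Equiv.symm_apply_eq, mul_eq_right] at hk'
    subst hk'
    exact Subtype.ext (map_one L)

end Cfsg.Agent.S3560
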