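import Mathlib
import Cfsg.Agent.Lib.AltLargestPrime.Basic
import Cfsg.Agent.Lib.AltAut.Main
import Cfsg.Agent.Lib.Perm.Basic
import Cfsg.Statements.S3571
-- import your own Cfsg.Agent.* helpers here

set_option autoImplicit false
open Cfsg
open scoped commutatorElement Pointwise

namespace Cfsg.Agent.S3571

/-- Let G be an almost simple group whose socle is an alternating group of degree m ≥ 5 (G has a normal subgroup T isomorphic to that alternating group with trivial centralizer), acting faithfully and primitively on a finite set Ω with at least two points, and let r be the largest prime divisor of the number of points. Then G contains an element of order r fixing no point. -/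
theorem result {G Ω : Type*} [Group G] [Finite G] [MulAction G Ω] [FaithfulSMul G Ω] [Finite Ω]
    (T : Subgroup G) (hT : T.Normal) (hTc : Subgroup.centralizer (T : Set G) = ⊥) (m : ℕ) (hm : 5 ≤ m)
    (eT : ↥T ≃* ↥(alternatingGroup (Fin m))) (hprim : MulAction.IsPreprimitive G Ω) (hΩ : 2 ≤ Nat.card Ω)
    (r : ℕ) (hr : r.Prime) (hrd : r ∣ Nat.card Ω) (hmax : ∀ s : ℕ, s.Prime → s ∣ Nat.card Ω → s ≤ r) :
    ∃ g : G, orderOf g = r ∧ ∀ ω : Ω, g • ω ≠ ω := by
  classical
  haveI := hT
  haveI := hprim
  haveI : Nontrivial Ω := Finite.one_lt_card_iff_nontrivial.1 hΩ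
  obtain ⟨ω⟩ : Nonempty Ω := inferInstance
  have hm' : 5 ≤ Fintype.card (Fin m) := by rwa [Fintype.card_fin]
  haveI hsimple : IsSimpleGroup ↥(alternatingGroup (Fin m)) :=
    alternatingGroup.isSimpleGroup (by rwa [Nat.card_eq_fintype_card])
  have hT0 : T ≠ ⊥ := fun h => by
    have := Nat.card_congr eT.toEquiv
    rw [h, Subgroup.card_bot] at this
    exact not_subsingleton ↥(alternatingGroup (Fin m)) (Nat.card_eq_one_iff_unique.1 this.symm).1
  haveI : MulAction.IsPretransitive ↥T Ω := Cfsg.Agent.Lib.Perm.normal_isPretransitive_of_ne_bot T hT0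
  set K : Subgroup ↥(alternatingGroup (Fin m)) := (MulAction.stabilizer ↥T ω).map eT.toMonoidHom with hK
  have hKidx : K.index = Nat.card Ω := by
    rw [hK]
    exact (Subgroup.index_map_equiv _ eT).trans (MulAction.index_stabilizer_of_transitive ↥T ω)
  have hmemK : ∀ y : ↥(alternatingGroup (Fin m)), y ∈ K ↔ ((eT.symm y : ↥T) : G) • ω = ω := fun y => by
    rw [hK, Subgroup.mem_map_equiv]
    rfl
  have hKtop : K ≠ ⊤ := fun h => by
    rw [h, Subgroup.index_top] at hKidx
    omega
  rw [← hKidx] at hrd
  obtain ⟨x, hx, hxK⟩ := Cfsg.Agent.Lib.AltLargestPrime.exists_not_conj_mem K hm' hKtop hr hrd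
    (fun s hs hd => hmax s hs (hKidx ▸ hd)) (by
      intro h6 S hSpos hSle hKS hNS
      set L : Subgroup ↥(alternatingGroup (Fin m)) :=
        (MulAction.stabilizer (Equiv.Perm (Fin m)) S).subgroupOf (alternatingGroup (Fin m)) with hL
      have hKL : K ≤ L := fun k hk => hKS k hk
      have hLidx : L.index = (Fintype.card (Fin m)).choose S.card := by
        have hodd : ∃ σ ∈ MulAction.stabilizer (Equiv.Perm (Fin m)) S, Equiv.Perm.sign σ = -1 := by
          obtain ⟨u, hu, v, hv, huv⟩ := Finset.one_lt_card.1 (show 1 < Sᶜ.card by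
            rw [Finset.card_compl]; omega)
          exact ⟨Equiv.swap u v, Cfsg.Agent.Lib.SymHall.swap_mem_stabilizer S
            (Or.inr ⟨Finset.mem_compl.1 hu, Finset.mem_compl.1 hv⟩), Equiv.Perm.sign_swap huv⟩
        rw [← Cfsg.Agent.Lib.SymHall.index_stabilizer_finset,
          ← Cfsg.Agent.Lib.SymHall.relIndex_inf_eq le_rfl hodd, Subgroup.inf_relIndex_right]
        rfl
      rw [← hLidx]
      congr 1
      refine le_antisymm hKL fun y hy => ?_
      -- the image of `L` in `G` is normalised by the point stabiliser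
      set L' : Subgroup G := (L.comap eT.toMonoidHom).map T.subtype with hL'
      set H := MulAction.stabilizer G ω with hH
      have hmemL : ∀ z : ↥T, (z : G) ∈ L' ↔ eT z ∈ L := fun z => by
        rw [hL', show (z : G) = T.subtype z from rfl, Subgroup.mem_map_iff_mem T.subtype_injective]
        rfl
      have hconj : ∀ h ∈ H, ∀ z ∈ L', h * z * h⁻¹ ∈ L' := by
        intro h hh z hz
        obtain ⟨z, hz', rfl⟩ := hz
        obtain ⟨σ, hσ⟩ := Cfsg.Agent.Lib.AltAut.conjNormal_surjective (by omega) h6
          ((eT.symm.trans (MulAut.conjNormal h : MulAut ↥T)).trans eT)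
        have hval : ∀ w, MulAut.conjNormal σ w = eT ((MulAut.conjNormal h : MulAut ↥T) (eT.symm w)) :=
          fun w => DFunLike.congr_fun hσ w
        have hS' : σ • S = S := hNS σ fun k hk => by
          rw [hmemK] at hk ⊢
          rw [hval, eT.symm_apply_apply, MulAut.conjNormal_apply, mul_smul, mul_smul]
          have hinv : h⁻¹ • ω = ω := inv_smul_eq_iff.2 (MulAction.mem_stabilizer_iff.1 hh).symm
          rw [hinv, hk]
          exact hh
        have hzw : h * (T.subtype z) * h⁻¹ = (((MulAut.conjNormal h : MulAut ↥T) z : ↥T) : G) :=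
          (MulAut.conjNormal_apply h z).symm
        rw [hzw, hmemL]
        have := hval (eT z)
        rw [eT.symm_apply_apply] at this
        rw [← this]
        show (MulAut.conjNormal σ (eT z) : Equiv.Perm (Fin m)) • S = S
        rw [MulAut.conjNormal_apply, mul_smul, mul_smul, inv_smul_eq_iff.2 hS'.symm]
        have hz'' : ((eT z : ↥(alternatingGroup (Fin m))) : Equiv.Perm (Fin m)) • S = S := hz'
        rw [hz'', hS']
      have hnorm : H ≤ Subgroup.normalizer (L' : Set G) := fun h hh => by
        rw [Subgroup.mem_normalizer_iff]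
        refine fun z => ⟨hconj h hh z, fun hz => ?_⟩
        have := hconj h⁻¹ (inv_mem hh) _ hz
        simpa [mul_assoc] using this
      have hcoatom : IsCoatom H := (MulAction.isCoatom_stabilizer_iff_preprimitive G ω).2 hprim
      have hle : H ⊔ L' = H := by
        rcases hcoatom.le_iff.1 (le_sup_left : H ≤ H ⊔ L') with h | h
        · exfalso
          have hn : L'.Normal := Subgroup.normalizer_eq_top_iff.1
            (top_le_iff.1 (h ▸ sup_le hnorm Subgroup.le_normalizer))
          have hnL : L.Normal := ⟨fun a ha b => by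
            obtain ⟨a, rfl⟩ := eT.surjective a
            obtain ⟨b, rfl⟩ := eT.surjective b
            rw [← map_inv, ← map_mul, ← map_mul, ← hmemL]
            exact hn.conj_mem _ ((hmemL a).2 ha) _⟩
          have hidx1 : L.index ≠ 1 := by
            rw [hLidx]
            intro h1
            rcases Nat.choose_eq_one_iff.1 h1 with h | h <;> omega
          rcases hnL.eq_bot_or_eq_top with h' | h'
          · obtain ⟨u, hu, v, hv, w, hw, huv, huw, hvw⟩ := Finset.two_lt_card.1
              (show 2 < Sᶜ.card by rw [Finset.card_compl]; omega)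
            rw [Finset.mem_compl] at hu hv hw
            have hmem : Equiv.swap u v * Equiv.swap u w ∈ MulAction.stabilizer (Equiv.Perm (Fin m)) S :=
              mul_mem (Cfsg.Agent.Lib.SymHall.swap_mem_stabilizer S (Or.inr ⟨hu, hv⟩))
                (Cfsg.Agent.Lib.SymHall.swap_mem_stabilizer S (Or.inr ⟨hu, hw⟩))
            have h3 := Equiv.Perm.isThreeCycle_swap_mul_swap_same huv huw hvw
            have hmem' : (⟨_, h3.mem_alternatingGroup⟩ : ↥(alternatingGroup (Fin m))) ∈ L := hmem
            rw [h', Subgroup.mem_bot] at hmem'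
            have hone : Equiv.swap u v * Equiv.swap u w = 1 := congrArg Subtype.val hmem'
            rw [hone] at h3
            exact h3.isCycle.ne_one rfl
          · exact hidx1 (h' ▸ Subgroup.index_top)
        · exact h
      rw [hmemK]
      refine MulAction.mem_stabilizer_iff.1 (hle ▸ Subgroup.mem_sup_right ?_ : ((eT.symm y : ↥T) : G) ∈ H)
      rw [hmemL, eT.apply_symm_apply]
      exact hy)
  refine ⟨((eT.symm x : ↥T) : G), ?_, fun ω' hω' => ?_⟩
  · rw [Subgroup.orderOf_coe, ← hx]
    exact eT.symm.orderOf_eq x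
  · obtain ⟨t, ht⟩ := MulAction.exists_smul_eq ↥T ω ω'
    apply hxK (eT t⁻¹)
    rw [hmemK, map_inv, inv_inv, ← map_inv, map_mul, map_mul, eT.symm_apply_apply, eT.symm_apply_apply]
    show ((t⁻¹ * eT.symm x * t : ↥T) : G) • ω = ω
    have e1 : (t : G) • ω = ω' := ht
    simp only [Subgroup.coe_mul, Subgroup.coe_inv, mul_smul, e1, hω']
    exact inv_smul_eq_iff.2 e1.symm

end Cfsg.Agent.S3571
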