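import Cfsg.Statements.S3573
import Mathlib

set_option autoImplicit false
open Cfsg

namespace Cfsg.Agent.S3573

open Finset

variable {n r : ℕ} [hr : Fact r.Prime]

theorem fixed_modEq (σ : Equiv.Perm (Fin n)) (hσ : σ ^ r = 1) (U : Finset (Fin n))
    (hU : U.image σ = U) : (U.filter fun x => σ x = x).card ≡ U.card [MOD r] := by
  classical
  have hmem : ∀ x, x ∈ U ↔ σ x ∈ U := fun x => by
    constructor
    · intro h; rw [← hU]; exact mem_image_of_mem _ h
    · intro h
      rw [← hU, mem_image] at h
      obtain ⟨y, hy, hyx⟩ := h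
      rwa [← σ.injective hyx]
  let τ : Equiv.Perm U := σ.subtypePerm fun x => (hmem x).symm
  have hτ : τ ^ r ^ 1 = 1 := by
    rw [pow_one]
    refine Equiv.ext fun a => Subtype.ext ?_
    have h1 : ∀ i : ℕ, (((τ ^ i) a : U) : Fin n) = (σ ^ i) a := by
      intro i
      induction i with
      | zero => simp
      | succ i ih =>
        rw [pow_succ', pow_succ', Equiv.Perm.mul_apply, Equiv.Perm.mul_apply, ← ih]
        rfl
    rw [h1, hσ]
    simp
  have h := Equiv.Perm.card_compl_support_modEq hτ
  rw [Fintype.card_coe] at h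
  refine (Nat.ModEq.trans ?_ h)
  refine congrArg (· % r) (Finset.card_bij (fun x hx => (⟨x, (mem_filter.mp hx).1⟩ : U)) ?_ ?_ ?_)
  · intro x hx
    rw [mem_compl, Equiv.Perm.mem_support, not_not]
    exact Subtype.ext (mem_filter.mp hx).2
  · intro a _ b _ h; exact congrArg Subtype.val h
  · intro b hb
    rw [mem_compl, Equiv.Perm.mem_support, not_not] at hb
    exact ⟨b, mem_filter.mpr ⟨b.2, congrArg Subtype.val hb⟩, rfl⟩

theorem exists_invariant (σ : Equiv.Perm (Fin n)) (hσ : σ ^ r = 1) (U : Finset (Fin n))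
    (hU : U.image σ = U) (k : ℕ) (hk : k ≤ U.card) (hmod : k % r ≤ U.card % r) :
    ∃ s ⊆ U, s.card = k ∧ s.image σ = s := by
  classical
  induction hc : U.card using Nat.strong_induction_on generalizing U k with
  | _ m ih =>
  subst hc
  have hf := fixed_modEq σ hσ U hU
  set Fx := U.filter fun x => σ x = x with hFx
  by_cases hkf : k ≤ Fx.card
  · obtain ⟨s, hs, hsc⟩ := exists_subset_card_eq hkf
    refine ⟨s, hs.trans (filter_subset _ _), hsc, ?_⟩
    exact (image_congr fun x hx => (mem_filter.mp (hs hx)).2).trans image_id'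
  have hkr : r ≤ k := by
    by_contra h
    rw [not_le] at h
    rw [Nat.mod_eq_of_lt h] at hmod
    have h1 : U.card % r ≤ Fx.card := by rw [← hf]; exact Nat.mod_le _ _
    omega
  obtain ⟨x, hxU, hx⟩ : ∃ x ∈ U, σ x ≠ x := by
    by_contra h
    push Not at h
    exact hkf (by rw [hFx, filter_true_of_mem h]; exact hk)
  set O := (range r).image fun i => (σ ^ i) x with hO
  have hinj : Set.InjOn (fun i => (σ ^ i) x) (range r) := by
    have key : ∀ i j, i < j → j < r → (σ ^ i) x ≠ (σ ^ j) x := by
      intro i j hij hj h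
      apply hx
      have h1 : (σ ^ (j - i)) x = x := by
        apply (σ ^ i).injective
        rw [← Equiv.Perm.mul_apply, ← pow_add, show i + (j - i) = j by omega]
        exact h.symm
      have hcop : (j - i).Coprime r :=
        (hr.out.coprime_iff_not_dvd.mpr fun hd => by
          have := Nat.le_of_dvd (by omega) hd
          omega).symm
      obtain ⟨c, hc⟩ := exists_pow_eq_self_of_coprime (n := j - i)
        (hcop.coprime_dvd_right (orderOf_dvd_of_pow_eq_one hσ))
      rw [← hc]
      have : ∀ d : ℕ, ((σ ^ (j - i)) ^ d) x = x := fun d => by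
        induction d with
        | zero => simp
        | succ d ih => rw [pow_succ, Equiv.Perm.mul_apply, h1, ih]
      exact this c
    intro a ha b hb h
    simp only [coe_range, Set.mem_Iio] at ha hb
    rcases lt_trichotomy a b with h' | h' | h'
    · exact absurd h (key a b h' hb)
    · exact h'
    · exact absurd h.symm (key b a h' ha)
  have hOc : O.card = r := by rw [hO, card_image_of_injOn hinj, card_range]
  have hOim : O.image σ = O := by
    refine eq_of_subset_of_card_le ?_ (by rw [card_image_of_injective _ σ.injective])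
    intro y hy
    rw [hO, mem_image] at hy
    obtain ⟨z, hz, rfl⟩ := hy
    rw [mem_image] at hz
    obtain ⟨i, hi, rfl⟩ := hz
    rw [← Equiv.Perm.mul_apply, ← pow_succ', hO, mem_image]
    refine ⟨(i + 1) % r, mem_range.mpr (Nat.mod_lt _ hr.out.pos), ?_⟩
    rw [← pow_eq_pow_mod (i + 1) hσ]
  have hOU : O ⊆ U := by
    intro y hy
    rw [hO, mem_image] at hy
    obtain ⟨i, -, rfl⟩ := hy
    induction i with
    | zero => simpa using hxU
    | succ i ih =>
      rw [pow_succ', Equiv.Perm.mul_apply, ← hU]
      exact mem_image_of_mem _ ih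
  have hU' : (U \ O).image σ = U \ O := by
    rw [image_sdiff _ _ σ.injective, hU, hOim]
  have hc' : (U \ O).card = U.card - r := by rw [card_sdiff_of_subset hOU, hOc]
  have hrU : r ≤ U.card := hkr.trans hk
  obtain ⟨s, hs, hsc, hsi⟩ := ih (U \ O).card (by rw [hc']; have := hr.out.pos; omega) (U \ O) hU'
    (k - r) (by omega) (by
      rw [hc', ← Nat.mod_eq_sub_mod hkr, ← Nat.mod_eq_sub_mod hrU]; exact hmod) rfl
  refine ⟨s ∪ O, union_subset (hs.trans sdiff_subset) hOU, ?_, by rw [image_union, hsi, hOim]⟩
  rw [card_union_of_disjoint (disjoint_of_subset_left hs sdiff_disjoint), hsc, hOc]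
  omega

/-- The permutation made of `n / r` blocks of length `r`. -/
theorem exists_max_perm (hn : r ≤ n) : ∃ σ : Equiv.Perm (Fin n), orderOf σ = r ∧
    ∀ x : Fin n, σ x = x → n / r * r ≤ (x : ℕ) := by
  have hr2 := hr.out.two_le
  have hb : ∀ x : Fin n, (x : ℕ) < n / r * r → (x : ℕ) / r * r + ((x : ℕ) + 1) % r < n / r * r := by
    intro x hx
    have h1 : (x : ℕ) / r < n / r := by
      rw [Nat.div_lt_iff_lt_mul hr.out.pos]; exact hx
    have h2 : ((x : ℕ) + 1) % r < r := Nat.mod_lt _ hr.out.pos
    have h3 : ((x : ℕ) / r + 1) * r ≤ n / r * r := Nat.mul_le_mul_right r h1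
    rw [add_mul] at h3
    omega
  let f : Fin n → Fin n := fun x =>
    if h : (x : ℕ) < n / r * r then
      ⟨(x : ℕ) / r * r + ((x : ℕ) + 1) % r, (hb x h).trans_le (Nat.div_mul_le_self n r)⟩ else x
  have hf : ∀ (i : ℕ) (x : Fin n), (x : ℕ) < n / r * r →
      ((f^[i] x : Fin n) : ℕ) = (x : ℕ) / r * r + ((x : ℕ) + i) % r := by
    intro i
    induction i with
    | zero =>
      intro x _
      rw [Function.iterate_zero_apply, add_zero, Nat.div_add_mod']
    | succ i ih =>
      intro x hx
      rw [Function.iterate_succ_apply']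
      set y := f^[i] x with hy
      have hyv := ih x hx
      have h2 : ((x : ℕ) + i) % r < r := Nat.mod_lt _ hr.out.pos
      have hq : (y : ℕ) / r = (x : ℕ) / r := by
        rw [hyv, mul_comm, Nat.mul_add_div hr.out.pos, Nat.div_eq_of_lt h2, add_zero]
      have hlt : (y : ℕ) < n / r * r := by
        have h1 : (x : ℕ) / r < n / r := by rw [Nat.div_lt_iff_lt_mul hr.out.pos]; exact hx
        have h3 : ((x : ℕ) / r + 1) * r ≤ n / r * r := Nat.mul_le_mul_right r h1
        rw [add_mul] at h3
        omega
      simp only [f, dif_pos hlt, hq]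
      congr 1
      rw [hyv, mul_comm, add_assoc, Nat.mul_add_mod, Nat.mod_add_mod, add_assoc]
  have hfix : ∀ (i : ℕ) (x : Fin n), ¬ (x : ℕ) < n / r * r → f^[i] x = x := by
    intro i x hx
    induction i with
    | zero => rfl
    | succ i ih => rw [Function.iterate_succ_apply', ih]; simp [f, hx]
  have hper : ∀ x, f^[r] x = x := by
    intro x
    by_cases hx : (x : ℕ) < n / r * r
    · apply Fin.ext
      rw [hf r x hx, Nat.add_mod_right, Nat.div_add_mod']
    · exact hfix r x hx
  let σ : Equiv.Perm (Fin n) := Equiv.ofBijective f (Finite.injective_iff_bijective.mp fun a b h => by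
    rw [← hper a, ← hper b, show r = r - 1 + 1 by omega, Function.iterate_succ_apply,
      Function.iterate_succ_apply, h])
  have hmove : ∀ x : Fin n, σ x = x → n / r * r ≤ (x : ℕ) := by
    intro x h
    by_contra hx
    rw [not_le] at hx
    have h1 := hf 1 x hx
    rw [Function.iterate_one] at h1
    have h2 : ((f x : Fin n) : ℕ) = x := congrArg Fin.val h
    rw [h2] at h1
    have h3 := Nat.div_add_mod' (x : ℕ) r
    have h4 := Nat.mod_lt (x : ℕ) hr.out.pos
    rcases Nat.lt_or_ge ((x : ℕ) % r + 1) r with h5 | h5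
    · rw [Nat.add_mod, Nat.mod_eq_of_lt (show 1 < r by omega), Nat.mod_eq_of_lt h5] at h1
      omega
    · have h6 : (x : ℕ) % r + 1 = r := by omega
      rw [Nat.add_mod, Nat.mod_eq_of_lt (show 1 < r by omega), h6, Nat.mod_self] at h1
      omega
  refine ⟨σ, orderOf_eq_prime (Equiv.ext fun x => ?_) fun h => ?_, hmove⟩
  · rw [Equiv.Perm.coe_pow]
    exact hper x
  · have h1 := hmove ⟨0, by omega⟩ (by rw [h]; rfl)
    have h2 : 1 ≤ n / r := Nat.div_pos hn hr.out.pos
    simp only [nonpos_iff_eq_zero, mul_eq_zero] at h1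
    omega

theorem forall_invariant_iff {k : ℕ} (hkn : k ≤ n) (hn : r ≤ n) :
    (∀ σ : Equiv.Perm (Fin n), orderOf σ = r → ∃ s : Finset (Fin n), s.card = k ∧ s.image σ = s) ↔
      k % r ≤ n % r := by
  constructor
  · intro h
    obtain ⟨σ, hσ, hfix⟩ := exists_max_perm (r := r) hn
    obtain ⟨s, hs, hsi⟩ := h σ hσ
    have h1 := fixed_modEq (r := r) σ (by rw [← hσ, pow_orderOf_eq_one]) s hsi
    have h2 : (s.filter fun x => σ x = x).card ≤ n % r := by
      calc (s.filter fun x => σ x = x).card ≤ (Finset.Ico (n / r * r) n).card :=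
            Finset.card_le_card_of_injOn (fun x => (x : ℕ))
              (fun x hx => by simpa using hfix x (mem_filter.mp hx).2)
              (fun a _ b _ h => Fin.ext h)
        _ = n % r := by rw [Nat.card_Ico]; have := Nat.div_add_mod' n r; omega
    rw [← hs, ← h1]
    exact (Nat.mod_le _ _).trans h2
  · intro h σ hσ
    obtain ⟨s, -, hs⟩ := exists_invariant (r := r) σ (by rw [← hσ, pow_orderOf_eq_one]) univ
      (image_univ_equiv σ) k (by simpa using hkn) (by simpa using h)
    exact ⟨s, hs⟩

theorem lt_of_dvd_choose {k : ℕ} (hk : k < r) (hd : r ∣ n.choose k) : n % r < k := by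
  by_contra h
  rw [not_lt] at h
  have h1 : r ∣ n.descFactorial k := by
    rw [Nat.descFactorial_eq_factorial_mul_choose]; exact hd.mul_left _
  rw [Nat.descFactorial_eq_prod_range, (Nat.prime_iff.mp hr.out).dvd_finsetProd_iff] at h1
  obtain ⟨i, hi, hdi⟩ := h1
  rw [mem_range] at hi
  have h2 := Nat.mod_lt n hr.out.pos
  have h3 := Nat.mod_le n r
  obtain ⟨c, hc⟩ := hdi
  have h4 : n % r = i := by
    have : n = i + r * c := by omega
    rw [this, Nat.add_mul_mod_self_left, Nat.mod_eq_of_lt (by omega)]
  omega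


/-- Let 1 ≤ k with 2k < n and consider the symmetric group of degree n acting on the k-subsets of an n-set. Let r be a prime dividing the number C(n,k) of k-subsets. If r is odd, then every permutation of order r fixes some k-subset if and only if r ≤ k and the remainder of k modulo r is at most the remainder of n modulo r. If r = 2, then every involution fixes some k-subset if and only if k is even or n is odd. -/
theorem result (n k : ℕ) (hk : 1 ≤ k) (hkn : 2 * k < n) (r : ℕ) (hr : r.Prime) (hrd : r ∣ Nat.choose n k) :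
    (r ≠ 2 → ((∀ σ : Equiv.Perm (Fin n), orderOf σ = r → ∃ s : Finset (Fin n), s.card = k ∧ s.image σ = s) ↔
      (r ≤ k ∧ k % r ≤ n % r))) ∧
    (r = 2 → ((∀ σ : Equiv.Perm (Fin n), orderOf σ = 2 → ∃ s : Finset (Fin n), s.card = k ∧ s.image σ = s) ↔
      (Even k ∨ Odd n))) := by

  haveI := Fact.mk hr
  have hn : r ≤ n := by
    by_contra h
    rw [not_le] at h
    have h1 : r ∣ n.factorial := by
      rw [← Nat.choose_mul_factorial_mul_factorial (show k ≤ n by omega), mul_assoc]
      exact hrd.mul_right _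
    exact absurd ((Nat.Prime.dvd_factorial hr).mp h1) (by omega)
  have key := forall_invariant_iff (r := r) (k := k) (show k ≤ n by omega) hn
  refine ⟨fun _ => ⟨fun h => ⟨?_, key.mp h⟩, fun h => key.mpr h.2⟩, fun h2 => ?_⟩
  · by_contra hlt
    rw [not_le] at hlt
    have h1 := key.mp h
    rw [Nat.mod_eq_of_lt hlt] at h1
    exact absurd (lt_of_dvd_choose hlt hrd) (by omega)
  · subst h2
    rw [key, Nat.even_iff, Nat.odd_iff]
    omega

end Cfsg.Agent.S3573
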