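import Cfsg.Agent.Lib.UniformPart.Perm
import Cfsg.Statements.S3575

set_option autoImplicit false
open Cfsg

namespace Cfsg.Agent.S3575

/-- Let a, b ≥ 2 and consider the symmetric group of degree a·b acting on the partitions of an (a·b)-set into b parts of size a (encoded as maps onto a b-element set all of whose fibres have a elements; a permutation fixes such a partition when it permutes the fibres). Let r be a prime dividing the number (ab)!/((a!)^b·b!) of such partitions, and let ℓ and k be the remainders of a and b modulo r. Then every permutation of order r fixes some such partition if and only if r ≤ a and one of the following holds: ℓ = 0; or k = 0 and ℓ = 1; or ℓ and k are non-zero, k·ℓ < r, and either b < r or (k + r)·ℓ ≤ k·a + r. -/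
theorem result (a b : ℕ) (ha : 2 ≤ a) (hb : 2 ≤ b) (r : ℕ) (hr : r.Prime)
    (hrd : r ∣ (a * b).factorial / (a.factorial ^ b * b.factorial)) :
    (∀ σ : Equiv.Perm (Fin (a * b)), orderOf σ = r →
        ∃ f : Fin (a * b) → Fin b, (∀ j : Fin b, Nat.card {x : Fin (a * b) // f x = j} = a) ∧
          ∃ π : Equiv.Perm (Fin b), ∀ x : Fin (a * b), f (σ x) = π (f x)) ↔
      (r ≤ a ∧ (a % r = 0 ∨ (b % r = 0 ∧ a % r = 1) ∨
        (a % r ≠ 0 ∧ b % r ≠ 0 ∧ (b % r) * (a % r) < r ∧ (b < r ∨ (b % r + r) * (a % r) ≤ (b % r) * a + r)))) := by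
  haveI := Fact.mk hr
  have hrab : r ≤ a * b := by
    refine (Nat.Prime.dvd_factorial hr).1 (hrd.trans (Nat.div_dvd_of_dvd ?_))
    exact ⟨Nat.uniformBell b a, by
      rw [mul_comm a b, ← Nat.uniformBell_mul_eq b (show a ≠ 0 by omega)]
      ring⟩
  rw [← Cfsg.Agent.Lib.UniformPart.feasible_all_iff a b r ha hb hr.two_le hrab]
  constructor
  · intro h t ht1 ht
    obtain ⟨σ, hσ, hs⟩ := Cfsg.Agent.Lib.UniformPart.exists_perm (r := r) (a * b) t ht1 ht
    exact Cfsg.Agent.Lib.UniformPart.feasible_of_fixes ha (hσ ▸ pow_orderOf_eq_one σ) hs (h σ hσ)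
  · intro h σ hσ
    classical
    have hp : σ ^ r = 1 := hσ ▸ pow_orderOf_eq_one σ
    obtain ⟨t, ht⟩ := Cfsg.Agent.Lib.UniformPart.card_moved_dvd (r := r) hp
    have ht1 : 1 ≤ t := by
      rcases Nat.eq_zero_or_pos t with rfl | h'
      · rw [mul_zero, Finset.card_eq_zero, Equiv.Perm.support_eq_empty_iff] at ht
        rw [ht, orderOf_one] at hσ
        exact absurd hσ (by have := hr.two_le; omega)
      · exact h'
    exact Cfsg.Agent.Lib.UniformPart.fixes_of_feasible
      (h t ht1 (ht ▸ (Finset.card_le_univ _).trans_eq (Fintype.card_fin _))) σ hp ht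

end Cfsg.Agent.S3575
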