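import Cfsg.Statements.S3580
import Cfsg.Agent.Lib.SylowFix.Bound

set_option autoImplicit false
open Cfsg

namespace Cfsg.Agent.S3580

/-- Let G act faithfully and transitively on a finite set Ω, let p be an odd prime dividing the order of G and P a Sylow p-subgroup of G. Then the number of orbits of P on Ω is at most (p/(2p − 1))·(number of points). -/
theorem result {G Ω : Type*} [Group G] [Finite G] [MulAction G Ω] [FaithfulSMul G Ω] [Finite Ω]
    (htrans : MulAction.IsPretransitive G Ω) (p : ℕ) [Fact p.Prime] (hp2 : p ≠ 2) (hpG : p ∣ Nat.card G)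
    (P : Sylow p G) :
    (2 * p - 1) * Nat.card (MulAction.orbitRel.Quotient ↥(P : Subgroup G) Ω) ≤ p * Nat.card Ω := by
  classical
  haveI : Fintype Ω := Fintype.ofFinite Ω
  haveI := htrans
  have hp : p.Prime := Fact.out
  have hP : P ∈ Lib.SylowFix.syl p G (∅ : Finset Ω) := Lib.SylowFix.mem_syl.2 (by simp)
  -- no point is fixed by all Sylow subgroups
  have hmoved : Lib.SylowFix.Moved p G (∅ : Finset Ω) Finset.univ := by
    intro v _ h
    have hfix : ∀ w : Ω, Lib.SylowFix.Fixes P w := by
      intro w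
      obtain ⟨g, rfl⟩ := MulAction.exists_smul_eq G v w
      rw [← smul_inv_smul g P, Lib.SylowFix.fixes_smul]
      exact h _ (Lib.SylowFix.mem_syl.2 (by simp))
    have h1 : (P : Subgroup G) = ⊥ := (Subgroup.eq_bot_iff_forall _).2 fun g hg =>
      FaithfulSMul.eq_of_smul_eq_smul (α := Ω) fun w => by rw [one_smul]; exact hfix w g hg
    exact P.ne_bot_of_dvd_card hpG h1
  have hb := Lib.SylowFix.fixIn_le (∅ : Finset Ω) Finset.univ (fun g _ v _ => Finset.mem_univ _)
    hmoved hP
  set f := Lib.SylowFix.fixIn P (Finset.univ : Finset Ω) with hf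
  -- orbits of length one come from fixed points
  haveI : Fintype (MulAction.orbitRel.Quotient ↥(P : Subgroup G) Ω) := Fintype.ofFinite _
  set O := MulAction.orbitRel.Quotient ↥(P : Subgroup G) Ω
  let small : Finset O := Finset.univ.filter fun ω => Nat.card ω.orbit = 1
  have hsmall : small.card ≤ f := by
    refine Finset.card_le_card_of_injOn Quotient.out (fun ω hω => ?_) (Quotient.out_injective.injOn)
    rw [Finset.mem_coe, Finset.mem_filter] at hω ⊢
    refine ⟨Finset.mem_univ _, fun g hg => ?_⟩
    have h1 := hω.2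
    rw [Nat.card_eq_one_iff_unique] at h1
    haveI := h1.1
    rw [MulAction.orbitRel.Quotient.orbit_eq_orbit_out _ Quotient.out_eq'] at h1
    exact congrArg Subtype.val (@Subsingleton.elim _ h1.1
      ⟨(⟨g, hg⟩ : ↥(P : Subgroup G)) • ω.out, MulAction.mem_orbit _ _⟩
      ⟨ω.out, MulAction.mem_orbit_self _⟩)
  have hsum : p * Fintype.card O ≤ Fintype.card Ω + (p - 1) * small.card := by
    have h1 : Fintype.card Ω = ∑ ω : O, Nat.card ω.orbit := by
      rw [← Nat.card_sigma, ← Nat.card_eq_fintype_card]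
      exact Nat.card_congr (MulAction.selfEquivSigmaOrbits' _ _)
    have h2 : (p - 1) * small.card = ∑ ω : O, if Nat.card ω.orbit = 1 then p - 1 else 0 := by
      rw [← Finset.sum_filter, Finset.sum_const, smul_eq_mul, mul_comm]
    rw [h1, h2, ← Finset.sum_add_distrib, mul_comm, ← smul_eq_mul, ← Finset.card_univ,
      ← Finset.sum_const]
    refine Finset.sum_le_sum fun ω _ => ?_
    have h := P.2.card_orbit ω.out
    rw [← MulAction.orbitRel.Quotient.orbit_eq_orbit_out ω Quotient.out_eq'] at h
    obtain ⟨k, hk⟩ := h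
    rw [hk]
    rcases k with - | k
    · rw [pow_zero, if_pos rfl]; omega
    · exact le_add_right (Nat.le_self_pow (Nat.succ_ne_zero k) p)
  rw [Nat.card_eq_fintype_card, Nat.card_eq_fintype_card]
  rw [Finset.card_univ] at hb
  have h2 : 2 * p - 1 = (p - 1) + p := by have := hp.two_le; omega
  refine Nat.le_of_mul_le_mul_left ?_ hp.pos
  rw [h2] at hb ⊢
  obtain ⟨q, rfl⟩ := Nat.exists_eq_add_of_le hp.one_le
  rw [Nat.add_sub_cancel_left] at hb hsum ⊢
  nlinarith [Nat.mul_le_mul_left q hsmall, Nat.mul_le_mul_left q hb]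

end Cfsg.Agent.S3580
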