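import Cfsg.Statements.S3592
import Mathlib
import Cfsg.Agent.Lib.M11Order.Simple
import Cfsg.Agent.Lib.M11Order.Count
import Cfsg.Agent.Lib.Recog7920.Iso

set_option autoImplicit false
open Cfsg

namespace Cfsg.Agent.S3592

/-- Let M be the Mathieu group M₁₁ (order 7920). If a finite group G has the same order as M and the same set of values of the function 'number of elements of order n' (taken over the element orders n that occur), then G is isomorphic to M. -/
theorem result {G : Type*} [Group G] [Finite G]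
    (hcard : Nat.card G = Nat.card ↥Cfsg.Spor.M11)
    (hnse : {c : ℕ | 0 < c ∧ ∃ n : ℕ, c = Nat.card {g : G // orderOf g = n}} =
      {c : ℕ | 0 < c ∧ ∃ n : ℕ, c = Nat.card {g : ↥Cfsg.Spor.M11 // orderOf g = n}}) :
    Nonempty (G ≃* ↥Cfsg.Spor.M11) := by
  have hM : Nat.card ↥Cfsg.Spor.M11 = 7920 := by
    rw [Cfsg.Agent.Lib.Fusion.Mathieu.eq_m11]
    exact Cfsg.Agent.Lib.Compute.Mathieu.card_m11
  rw [hM] at hcard
  have hmem : ∀ n, 0 < Nat.card {g : G // orderOf g = n} →
      Nat.card {g : G // orderOf g = n} ∈ [1, 165, 440, 990, 1584, 1320, 1980, 1440] := fun n hn =>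
    Cfsg.Agent.Lib.M11Order.m11_card_mem hn
      (((Set.ext_iff.mp hnse _).mp ⟨hn, n, rfl⟩).2)
  open Cfsg.Agent.Lib.SmallGroups in
  have hcount : ∀ p m : ℕ, [Fact p.Prime] → 7920 = p * m → ¬ p ∣ m →
      ∃ s, s ∣ m ∧ s % p = 1 ∧ Nat.card {g : G // orderOf g = p} = s * (p - 1) ∧
        s * (p - 1) ∈ [1, 165, 440, 990, 1584, 1320, 1980, 1440] := by
    intro p m hp hpm hm
    have hP : Nat.card ((default : Sylow p G) : Subgroup G) = p := by
      rw [card_sylow_eq default (k := 1) (m := m) (by rw [hcard, pow_one]; exact hpm) hm, pow_one]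
    have h1 := card_orderOf_eq_prime (default : Sylow p G) hP
    refine ⟨Nat.card (Sylow p G), ?_, ?_, h1, ?_⟩
    · exact card_sylow_dvd (k := 1) (m := m) (by rw [hcard, pow_one]; exact hpm) hm
    · have h := card_sylow_modEq_one p G
      rw [Nat.ModEq, Nat.mod_eq_of_lt hp.out.one_lt] at h
      exact h
    · rw [← h1]
      refine hmem p ?_
      rw [h1]
      exact Nat.mul_pos Nat.card_pos (by have := hp.out.two_le; omega)
  haveI : Fact (Nat.Prime 11) := ⟨by norm_num⟩
  haveI : Fact (Nat.Prime 5) := ⟨by norm_num⟩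
  have h11 : Nat.card {g : G // orderOf g = 11} = 1440 := by
    obtain ⟨s, hs1, hs2, h1, hs3⟩ := hcount 11 720 (by norm_num) (by norm_num)
    have hm : s ∈ (Nat.divisors 720).filter (fun d => d % 11 = 1) :=
      Finset.mem_filter.mpr ⟨Nat.mem_divisors.mpr ⟨hs1, by norm_num⟩, hs2⟩
    rw [show (Nat.divisors 720).filter (fun d => d % 11 = 1) = {1, 12, 45, 144} by decide +kernel] at hm
    simp only [Finset.mem_insert, Finset.mem_singleton] at hm
    simp only [List.mem_cons, List.not_mem_nil, or_false] at hs3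
    rw [h1]
    omega
  have h5 : Nat.card {g : G // orderOf g = 5} = 1584 := by
    obtain ⟨s, hs1, hs2, h1, hs3⟩ := hcount 5 1584 (by norm_num) (by norm_num)
    have hm : s ∈ (Nat.divisors 1584).filter (fun d => d % 5 = 1) :=
      Finset.mem_filter.mpr ⟨Nat.mem_divisors.mpr ⟨hs1, by norm_num⟩, hs2⟩
    rw [show (Nat.divisors 1584).filter (fun d => d % 5 = 1) = {1, 6, 11, 16, 36, 66, 176, 396} by
      decide +kernel] at hm
    simp only [Finset.mem_insert, Finset.mem_singleton] at hm
    simp only [List.mem_cons, List.not_mem_nil, or_false] at hs3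
    rw [h1]
    omega
  have hsimple := Cfsg.Agent.Lib.M11Order.isSimpleGroup hcard h11 h5
  have hK : IsM11 ↥Cfsg.Spor.M11 := by
    refine ⟨?_, hM⟩
    rw [Cfsg.Agent.Lib.Fusion.Mathieu.eq_m11]
    exact Cfsg.Agent.Lib.Compute.Mathieu.isSimpleGroup_m11
  exact Cfsg.Agent.Lib.Recog7920.nonempty_mulEquiv ⟨hsimple, hcard⟩ hK

end Cfsg.Agent.S3592
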