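import Cfsg.Statements.S3594
import Cfsg.Agent.Lib.M22Nse57.Hist
import Cfsg.Agent.Lib.M22Nse57.Model
import Cfsg.Agent.Lib.M22Nse57.LocalA
import Cfsg.Agent.Lib.M22Nse57.Identify
import Cfsg.Agent.Lib.M22Nse57.GraphQuot
import Cfsg.Agent.Lib.M22Nse57.GraphIso
import Cfsg.Agent.Lib.M22Nse57.GraphCoords
import Cfsg.Agent.Lib.M22Nse57.GraphIndex

set_option autoImplicit false
open Cfsg

namespace Cfsg.Agent.S3594

/-- Let M be the Mathieu group M₂₂ (order 443520). If a finite group G has the same order as M and the same set of values of the function 'number of elements of order n' (taken over the element orders n that occur), then G is isomorphic to M. -/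
theorem result {G : Type*} [Group G] [Finite G]
    (hcard : Nat.card G = Nat.card ↥Cfsg.Spor.M22)
    (hnse : {c : ℕ | 0 < c ∧ ∃ n : ℕ, c = Nat.card {g : G // orderOf g = n}} =
      {c : ℕ | 0 < c ∧ ∃ n : ℕ, c = Nat.card {g : ↥Cfsg.Spor.M22 // orderOf g = n}}) :
    Nonempty (G ≃* ↥Cfsg.Spor.M22) := by
  have hG : Nat.card G = 443520 := by
    rw [hcard, Cfsg.Agent.Lib.Fusion.Mathieu.eq_m22]
    exact Cfsg.Agent.Lib.Compute.Mathieu.card_m22
  rw [Lib.M22Nse57.m22_count_set] at hnse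
  have hset : ∀ c : ℕ, (0 < c ∧ ∃ n : ℕ, c = Nat.card {g : G // orderOf g = n}) ↔
      c ∈ [1, 1155, 12320, 41580, 88704, 36960, 126720, 55440, 80640] := fun c => by
    have h := Set.ext_iff.1 hnse c
    simpa using h
  have F : Lib.M22Nse57.Facts G := Lib.M22Nse57.facts_of_counts hG
    (fun n hn => (hset _).1 ⟨hn, n, rfl⟩) (fun c hc => ((hset c).2 hc).2)
  obtain ⟨A, L⟩ := Lib.M22Nse57.exists_local F
  obtain ⟨S⟩ := Lib.M22Nse57.Graph.exists_seed F L
  obtain ⟨π, hπ, hker⟩ := Lib.M22Nse57.Graph.exists_pi F L S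
  let Q : Lib.M22Nse57.Graph.Quot A :=
    ⟨π, hπ, hker, Lib.M22Nse57.Graph.six_index, Lib.M22Nse57.Graph.six_order_eight⟩
  obtain ⟨sel, ⟨C⟩⟩ := Lib.M22Nse57.Graph.exists_coded F L S Q
  obtain ⟨hsel, φ, h0, hadj, hgroup⟩ := Lib.M22Nse57.Graph.exists_phi F L S Q C
  obtain ⟨H, hH⟩ := Lib.M22Nse57.Graph.exists_index_of_phi F L S Q C hsel φ h0 hadj hgroup
    (fun T hT => Lib.M22Nse57.Graph.norm_index F L S T hT)
  exact Lib.M22Nse57.nonempty_mulEquiv_of_index F H hH

end Cfsg.Agent.S3594
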