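import Cfsg.Statements.S3595
import Cfsg.Agent.Lib.M23Nse5.Main
import Cfsg.Agent.Lib.M23Nse5.Inv
import Cfsg.Agent.Lib.M23Nse5.LocalA
import Cfsg.Agent.Lib.M23Nse5.Orbits
import Cfsg.Agent.Lib.M23Nse5.Model

set_option autoImplicit false
open Cfsg Cfsg.Agent.Lib.M23Nse5

namespace Cfsg.Agent.S3595

/-- Let M be the Mathieu group M₂₃ (order 10200960). If a finite group G has the same order as M and the same set of values of the function 'number of elements of order n' (taken over the element orders n that occur), then G is isomorphic to M. -/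
theorem result {G : Type*} [Group G] [Finite G]
    (hcard : Nat.card G = Nat.card ↥Cfsg.Spor.M23)
    (hnse : {c : ℕ | 0 < c ∧ ∃ n : ℕ, c = Nat.card {g : G // orderOf g = n}} =
      {c : ℕ | 0 < c ∧ ∃ n : ℕ, c = Nat.card {g : ↥Cfsg.Spor.M23 // orderOf g = n}}) :
    Nonempty (G ≃* ↥Cfsg.Spor.M23) := by
  have hG : Nat.card G = 10200960 := hcard.trans card_spor_m23
  rw [nse_m23] at hnse
  have F : Facts G := facts_of_counts hG
    (fun n hn => by
      have h := (Set.ext_iff.1 hnse _).1 ⟨hn, n, rfl⟩
      simp only [Set.mem_insert_iff, Set.mem_singleton_iff] at h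
      simpa using h)
    (fun c hc => ((Set.ext_iff.1 hnse c).2 (by
      simp only [Set.mem_insert_iff, Set.mem_singleton_iff]
      simpa using hc)).2)
  obtain ⟨A0, hA⟩ := exists_local F (inv_of_facts F) (card_cent_three F)
  have hloc : ∀ B ∈ Conjs A0, Local B := by
    rintro B ⟨g, rfl⟩
    exact local_conj hA g
  exact nonempty_mulEquiv_of_orbits hG A0 hloc fun B hB => orbits F (hloc B hB)

end Cfsg.Agent.S3595
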