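import Cfsg.Statements.S3598
import Cfsg.Agent.Lib.PSLSqDegrees77.Main
import Cfsg.Agent.Lib.LinGroup.ProjLine
import Cfsg.Agent.Lib.SmallGroups.Basic
import Cfsg.Agent.S3378
import Cfsg.Agent.S0252
import Cfsg.Agent.S0494
-- import your own Cfsg.Agent.* helpers here

set_option autoImplicit false
open Cfsg

namespace Cfsg.Agent.S3598

open Cfsg.Agent

/-- A perfect group of order 60 is simple. -/
theorem isSimpleGroup_of_perfect_sixty {G : Type*} [Group G] [Finite G] (hc : Nat.card G = 60)
    (hperf : commutator G = ⊤) : IsSimpleGroup G := by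
  have : Nontrivial G := Finite.one_lt_card_iff_nontrivial.1 (by omega)
  refine ⟨fun N hN => ?_⟩
  by_contra hcon
  rw [not_or] at hcon
  have h1 := (Subgroup.one_lt_card_iff_ne_bot N).mpr hcon.1
  have h2 : N.index ≠ 1 := fun h => hcon.2 (Subgroup.index_eq_one.1 h)
  have hmul := N.card_mul_index
  rw [hc] at hmul
  have h3 : N.index < 60 := by nlinarith [Subgroup.index_ne_zero_of_finite (H := N)]
  have hsol : Group.IsSolvable (G ⧸ N) :=
    Cfsg.Agent.S3378.isSolvable_of_card_lt _ (G ⧸ N) rfl (by rwa [← Subgroup.index_eq_card])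
  have : Nontrivial (G ⧸ N) := Finite.one_lt_card_iff_nontrivial.1 (by
    rw [← Subgroup.index_eq_card]
    have := Subgroup.index_ne_zero_of_finite (H := N)
    omega)
  refine (Group.IsSolvable.commutator_lt_top_of_nontrivial (G ⧸ N)).ne ?_
  rw [commutator_def, ← Subgroup.map_top_of_surjective (QuotientGroup.mk' N)
    (QuotientGroup.mk'_surjective N), ← Subgroup.map_commutator, ← commutator_def, hperf]

/-- Let p be a prime and F a field with p² elements. If a finite group G has, for every d, the same number of irreducible complex characters of degree d as PSL(2,F) (the same first column of the character table, with multiplicities), then G is isomorphic to PSL(2,F). -/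
theorem result {F : Type*} [Field F] [Fintype F] (p : ℕ) (hp : p.Prime)
    (hF : Fintype.card F = p ^ 2) {G : Type*} [Group G] [Finite G]
    (h : ∀ d : ℕ, Nat.card {χ : Cfsg.IrrCharacter G // (χ : G → ℂ) 1 = (d : ℂ)} =
      Nat.card {χ : Cfsg.IrrCharacter (Matrix.ProjectiveSpecialLinearGroup (Fin 2) F) // (χ : Matrix.ProjectiveSpecialLinearGroup (Fin 2) F → ℂ) 1 = (d : ℂ)}) :
    Nonempty (G ≃* Matrix.ProjectiveSpecialLinearGroup (Fin 2) F) := by
  classical
  obtain ⟨σ, hσ⟩ := Lib.PSLSqDegrees77.exists_equiv h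
  obtain ⟨hcard, hdegs, hidx⟩ := Lib.PSLSqDegrees77.data_of_equiv σ hσ
  have hq4 : 4 ≤ Fintype.card F := by rw [hF]; nlinarith [hp.two_le]
  haveI : IsSimpleGroup (Matrix.ProjectiveSpecialLinearGroup (Fin 2) F) :=
    Matrix.ProjectiveSpecialLinearGroup.rank_two_simple
      (by rw [Nat.card_eq_fintype_card]; omega)
  have h2 := Lib.LinGroup.card_PSL_two_mul (F := F)
  rcases eq_or_ne p 2 with rfl | hp2
  · have hF4 : Fintype.card F = 4 := by rw [hF]; norm_num
    obtain ⟨e⟩ := Cfsg.Agent.S0252.result hF4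
    have h60 : Nat.card (Matrix.ProjectiveSpecialLinearGroup (Fin 2) F) = 60 := by
      rw [Nat.card_congr e.toEquiv, nat_card_alternatingGroup, Nat.card_fin]; rfl
    have hperfP := Lib.SmallGroups.commutator_eq_top
      (G := Matrix.ProjectiveSpecialLinearGroup (Fin 2) F)
      (Lib.SmallGroups.not_isMulCommutative_of_not_prime (by rw [h60]; norm_num))
    have hperf : commutator G = ⊤ := by
      rw [← Subgroup.index_eq_one, hidx, hperfP, Subgroup.index_top]
    haveI := isSimpleGroup_of_perfect_sixty (hcard.trans h60) hperf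
    obtain ⟨f⟩ := Cfsg.Agent.S0494.result (hcard.trans h60)
    exact ⟨f.trans e.symm⟩
  obtain ⟨h4, h9⟩ := Lib.PSLSqDegrees77.sq_mod_four hp hp2
  have hodd : Odd (Fintype.card F) := Nat.odd_iff.2 (by omega)
  have hc2 := Lib.PSLSpectrum.card_psl_odd hodd
  rw [← hcard, hF] at hc2
  have hnp : ¬ (Nat.card (Matrix.ProjectiveSpecialLinearGroup (Fin 2) F)).Prime := by
    rw [← hcard]
    intro hpr
    have h80 : 80 ≤ (p ^ 2 + 1) * (p ^ 2 - 1) :=
      le_trans (by norm_num) (Nat.mul_le_mul (show 10 ≤ p ^ 2 + 1 by omega)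
        (show 8 ≤ p ^ 2 - 1 by omega))
    have hd : p ^ 2 ∣ Nat.card G := by
      refine (Nat.Coprime.pow_left 2 ((hp.coprime_iff_not_dvd).2 fun hd => ?_)).dvd_of_dvd_mul_left
        (hc2.symm ▸ dvd_mul_right _ _ : p ^ 2 ∣ 2 * Nat.card G)
      exact hp2 ((Nat.prime_dvd_prime_iff_eq hp Nat.prime_two).1 hd)
    rcases (Nat.dvd_prime hpr).1 hd with h1 | h1
    · omega
    · have := (h1 ▸ hpr : (p ^ 2).Prime).eq_one_of_pow
      omega
  have hperf : (commutator G).index = 1 := by
    rw [hidx, Lib.SmallGroups.commutator_eq_top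
      (Lib.SmallGroups.not_isMulCommutative_of_not_prime hnp), Subgroup.index_top]
  have hdeg : ∀ χ : Cfsg.IrrCharacter G,
      Lib.PSLSqDegrees77.DegreesPSL (p ^ 2) (Cfsg.charDegree (χ : G → ℂ)) := fun χ => by
    rw [← hF]
    exact Lib.PSLSqDegrees77.charDegrees_PSL_sub (by omega) (hdegs ▸ ⟨χ, rfl⟩)
  exact Lib.PSLSqDegrees77.nonempty_mulEquiv_of_centralizers hp hp2 hF hc2
    fun x c k hk hx1 hxc => Lib.PSLSqDegrees77.exists_orderOf_eq_pow_of_commute hp rfl (by omega)
      h4 hc2 hdeg hperf hk hx1 hxc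

end Cfsg.Agent.S3598
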