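import Cfsg.Statements.S3599
import Mathlib
import Cfsg.Agent.Lib.ElementOrders.Basic
-- import your own Cfsg.Agent.* helpers here

set_option autoImplicit false
open Cfsg

namespace Cfsg.Agent.S3599

/-- The properties of a minimal non-abelian `{q, r}`-group of Frobenius type. -/
def IsMinFrob (q r : ℕ) (X : Type) [Group X] : Prop :=
  (∀ x : X, orderOf x = 1 ∨ orderOf x = q ∨ orderOf x = r) ∧
  (∃ x : X, orderOf x = q) ∧
  (∀ z : X, (∀ x : X, x * z = z * x) → z = 1) ∧
  (∀ x y : X, orderOf x = q → orderOf y = q → x * y = y * x) ∧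
  (∃ x y : X, orderOf x = r ∧ orderOf y = r ∧ x * y ≠ y * x) ∧
  (∀ (H : Subgroup X) (x y : X), x ∈ H → orderOf x = q → y ∈ H → orderOf y = r → H = ⊤) ∧
  (∀ N : Subgroup X, N.Normal → N ≠ ⊥ → ∀ x : X, orderOf x = q → x ∈ N)

theorem exists_minFrob (q r : ℕ) (hq : q.Prime) (hr : r.Prime) (hne : q ≠ r) :
    ∃ (X : Type) (_ : Group X) (_ : Fintype X), IsMinFrob q r X := by
  classical
  haveI := Fact.mk hq
  haveI := Fact.mk hr
  have hq0 : (q : ZMod r) ≠ 0 := by
    rw [Ne, ZMod.natCast_eq_zero_iff]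
    exact fun h => hne ((Nat.prime_dvd_prime_iff_eq hr hq).1 h).symm
  set f := orderOf (q : ZMod r) with hf
  have hfpos : 0 < f := by
    refine IsOfFinOrder.orderOf_pos (isOfFinOrder_iff_pow_eq_one.2 ⟨r - 1, ?_, ZMod.pow_card_sub_one_eq_one hq0⟩)
    have := hr.two_le; omega
  let K := GaloisField q f
  haveI : Fintype K := Fintype.ofFinite K
  have hKcard : Nat.card K = q ^ f := GaloisField.card q f hfpos.ne'
  have hrdvd : r ∣ Nat.card Kˣ := by
    rw [Nat.card_units, hKcard, ← ZMod.natCast_eq_zero_iff, Nat.cast_sub (Nat.one_le_pow _ _ hq.pos),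
      Nat.cast_pow, pow_orderOf_eq_one, Nat.cast_one, sub_self]
  obtain ⟨ζ, hζ⟩ := exists_prime_orderOf_dvd_card' r hrdvd
  let C := Subgroup.zpowers ζ
  let φ : C →* MulAut (Multiplicative K) :=
    { toFun := fun c => AddEquiv.toMultiplicative
        { toFun := fun v => ((c : Kˣ) : K) * v
          invFun := fun v => (((c : Kˣ)⁻¹ : Kˣ) : K) * v
          left_inv := fun v => by simp
          right_inv := fun v => by simp
          map_add' := fun v w => mul_add _ v w }
      map_one' := by
        refine MulEquiv.ext fun v => Multiplicative.toAdd.injective ?_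
        show ((1 : Kˣ) : K) * v.toAdd = v.toAdd
        simp
      map_mul' := fun a b => by
        refine MulEquiv.ext fun v => Multiplicative.toAdd.injective ?_
        show (((a : Kˣ) * b : Kˣ) : K) * v.toAdd = ((a : Kˣ) : K) * (((b : Kˣ) : K) * v.toAdd)
        simp [mul_assoc] }
  let X := Multiplicative K ⋊[φ] C
  haveI : Fintype X := Fintype.ofEquiv _ SemidirectProduct.equivProd.symm
  -- coordinates
  let e : X → K := fun x => x.left.toAdd
  let u : X → K := fun x => ((x.right : Kˣ) : K)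
  have e_mul : ∀ x y : X, e (x * y) = e x + u x * e y := fun x y => rfl
  have u_mul : ∀ x y : X, u (x * y) = u x * u y := fun x y => rfl
  have e_one : e 1 = 0 := rfl
  have u_one : u 1 = 1 := by simp [u]
  have ext' : ∀ x y : X, e x = e y → u x = u y → x = y := fun x y h1 h2 =>
    SemidirectProduct.ext (Multiplicative.toAdd.injective h1) (Subtype.ext (Units.ext h2))
  have e_pow : ∀ (x : X) (n : ℕ), e (x ^ n) = (∑ i ∈ Finset.range n, u x ^ i) * e x := by
    intro x n
    induction n with
    | zero => simp [e_one]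
    | succ n ih =>
      rw [pow_succ', e_mul, ih, Finset.sum_range_succ']
      simp only [pow_succ', ← Finset.mul_sum, pow_zero]
      ring
  have u_pow : ∀ (x : X) (n : ℕ), u (x ^ n) = u x ^ n := fun x n => by
    induction n with
    | zero => rw [pow_zero, pow_zero, u_one]
    | succ n ih => rw [pow_succ, pow_succ, u_mul, ih]
  have u_r : ∀ x : X, u x ^ r = 1 := fun x => by
    have h := x.right.2
    rw [Subgroup.mem_zpowers_iff] at h
    obtain ⟨k, hk⟩ := h
    show ((x.right : Kˣ) : K) ^ r = 1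
    rw [← Units.val_pow_eq_pow_val, ← hk, ← zpow_natCast, ← zpow_mul, mul_comm, zpow_mul, zpow_natCast,
      ← hζ, pow_orderOf_eq_one, one_zpow, Units.val_one]
  let mkX : K → C → X := fun v c => ⟨Multiplicative.ofAdd v, c⟩
  let ζ' : C := ⟨ζ, Subgroup.mem_zpowers ζ⟩
  have hζ1 : (ζ : K) ≠ 1 := fun h => by
    have : ζ = 1 := Units.ext h
    rw [this, orderOf_one] at hζ
    exact hr.one_lt.ne hζ
  have u_right : ∀ x : X, u x = ((x.right : Kˣ) : K) := fun x => rfl
  have em : ∀ v c, e (mkX v c) = v := fun v c => rfl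
  have um : ∀ v (c : C), u (mkX v c) = ((c : Kˣ) : K) := fun v c => rfl
  clear_value mkX e u
  have ordq : ∀ x : X, u x = 1 → x ≠ 1 → orderOf x = q := by
    intro x hx hx1
    refine orderOf_eq_prime (ext' _ _ ?_ ?_) hx1
    · rw [e_pow, hx, e_one]; simp [CharP.cast_eq_zero K q]
    · rw [u_pow, hx, one_pow, u_one]
  have ordr : ∀ x : X, u x ≠ 1 → orderOf x = r := by
    intro x hx
    refine orderOf_eq_prime (ext' _ _ ?_ ?_) (fun h => hx (by rw [h]; exact u_one))
    · have h := geom_sum_mul (u x) r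
      rw [u_r, sub_self] at h
      rw [e_pow, (mul_eq_zero.1 h).resolve_right (sub_ne_zero.2 hx), zero_mul, e_one]
    · rw [u_pow, u_r, u_one]
  have u_of_ordq : ∀ x : X, orderOf x = q → u x = 1 := by
    intro x hx
    by_contra h
    exact hne (hx.symm.trans (ordr x h))
  have u_of_ordr : ∀ x : X, orderOf x = r → u x ≠ 1 := by
    intro x hx h
    by_cases hx1 : x = 1
    · rw [hx1, orderOf_one] at hx; exact hr.one_lt.ne hx
    · exact hne ((ordq x h hx1).symm.trans hx)
  -- a subgroup of translations invariant under multiplication by some `a ≠ 1` is everything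
  have irr : ∀ (S : AddSubgroup K) (w : K), w ∈ S → w ≠ 0 → ∀ y : X, u y ≠ 1 →
      (∀ v ∈ S, u y * v ∈ S) → ∀ v : K, v ∈ S := by
    intro S w hw hw0 y hy hS
    let R : Subring K :=
      { carrier := {a | ∀ v ∈ S, a * v ∈ S}
        one_mem' := fun v hv => by simpa using hv
        mul_mem' := fun {a b} ha hb v hv => by rw [mul_assoc]; exact ha _ (hb v hv)
        zero_mem' := fun v hv => by simp
        add_mem' := fun {a b} ha hb v hv => by rw [add_mul]; exact S.add_mem (ha v hv) (hb v hv)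
        neg_mem' := fun {a} ha v hv => by rw [neg_mul]; exact S.neg_mem (ha v hv) }
    haveI : Fintype R := Fintype.ofFinite R
    letI : Field R := Fintype.fieldOfDomain R
    obtain ⟨d, hd⟩ : ∃ d, Fintype.card R = q ^ d := by
      haveI : CharP R q := inferInstance
      obtain ⟨n, -, hn⟩ := FiniteField.card R q
      exact ⟨n, hn⟩
    have hy1 : (⟨u y, hS⟩ : R) ≠ 1 := fun h => hy (congrArg Subtype.val h)
    have hyr : (⟨u y, hS⟩ : R) ^ r = 1 := Subtype.ext (by simpa using u_r y)
    have hyo : orderOf (⟨u y, hS⟩ : R) = r := orderOf_eq_prime hyr hy1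
    have hy0 : (⟨u y, hS⟩ : R) ≠ 0 := fun h => by
      rw [h, zero_pow hr.ne_zero] at hyr; exact zero_ne_one hyr
    have hdvd : r ∣ q ^ d - 1 := by
      rw [← hd, ← hyo]
      exact orderOf_dvd_of_pow_eq_one (FiniteField.pow_card_sub_one_eq_one _ hy0)
    have hfd : f ∣ d := by
      refine orderOf_dvd_of_pow_eq_one ?_
      rw [← ZMod.natCast_eq_zero_iff, Nat.cast_sub (Nat.one_le_pow _ _ hq.pos), sub_eq_zero, Nat.cast_pow,
        Nat.cast_one] at hdvd
      exact hdvd
    have hd0 : d ≠ 0 := by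
      rintro rfl
      have := Fintype.one_lt_card (α := R)
      simp [hd] at this
    have htop : ∀ a : K, a ∈ R := by
      intro a
      have hle : Nat.card K ≤ Nat.card R.toAddSubgroup := by
        rw [hKcard]
        refine (Nat.pow_le_pow_right hq.pos (Nat.le_of_dvd (Nat.pos_of_ne_zero hd0) hfd)).trans ?_
        rw [← hd, ← Nat.card_eq_fintype_card]
        exact le_rfl
      have := AddSubgroup.eq_top_of_le_card R.toAddSubgroup hle
      show a ∈ R.toAddSubgroup
      rw [this]; trivial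
    intro v
    have := htop (v * w⁻¹) w hw
    rwa [mul_assoc, inv_mul_cancel₀ hw0, mul_one] at this
  have subK : ∀ H : Subgroup X, ∃ S : AddSubgroup K, ∀ v, v ∈ S ↔ mkX v 1 ∈ H := fun H =>
    ⟨{ carrier := {v | mkX v 1 ∈ H}
       zero_mem' := by
        show mkX 0 1 ∈ H
        have : mkX 0 1 = 1 := ext' _ _ (by rw [em, e_one]) (by rw [um, u_one]; simp)
        rw [this]; exact H.one_mem
       add_mem' := fun {a b} ha hb => by
        show mkX (a + b) 1 ∈ H
        have : mkX (a + b) 1 = mkX a 1 * mkX b 1 := ext' _ _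
          (by rw [e_mul, em, em, em, um]; simp) (by rw [u_mul, um, um, um]; simp)
        rw [this]; exact H.mul_mem ha hb
       neg_mem' := fun {a} ha => by
        show mkX (-a) 1 ∈ H
        have : mkX (-a) 1 = (mkX a 1)⁻¹ := by
          rw [eq_inv_iff_mul_eq_one]
          exact ext' _ _ (by rw [e_mul, em, em, um, e_one]; simp) (by rw [u_mul, um, um, u_one]; simp)
        rw [this]; exact H.inv_mem ha },
      fun v => Iff.rfl⟩
  have conjK : ∀ (y : X) (v : K), y * mkX v 1 * y⁻¹ = mkX (u y * v) 1 := by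
    intro y v
    rw [mul_inv_eq_iff_eq_mul]
    exact ext' _ _ (by rw [e_mul, e_mul, em, em, um]; simp [add_comm]) (by rw [u_mul, u_mul, um, um]; simp)
  have eqmk : ∀ x : X, u x = 1 → x = mkX (e x) 1 := fun x hx => ext' _ _ (by rw [em]) (by rw [um, hx]; simp)
  refine ⟨X, inferInstance, inferInstance, fun x => ?_, ⟨mkX 1 1, ordq _ (by rw [um]; simp) fun h => ?_⟩, fun z hz => ?_,
    fun x y hx hy => ?_, ⟨mkX 0 ζ', mkX 1 ζ', ordr _ (by rw [um]; exact hζ1), ordr _ (by rw [um]; exact hζ1), fun h => ?_⟩,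
    fun H x y hxH hx hyH hy => ?_, fun N hN hNne x hx => ?_⟩
  · by_cases hx1 : x = 1
    · left; rw [hx1, orderOf_one]
    by_cases hu : u x = 1
    · exact Or.inr (Or.inl (ordq x hu hx1))
    · exact Or.inr (Or.inr (ordr x hu))
  · have := congrArg e h; rw [em, e_one] at this; exact one_ne_zero this
  · have h1 := congrArg e (hz (mkX 1 1))
    have h2 := congrArg e (hz (mkX 0 ζ'))
    simp only [e_mul, em, um] at h1 h2
    have hu : u z = 1 := by
      have : e z + 1 = e z + u z := by
        calc e z + 1 = 1 + (((1 : C) : Kˣ) : K) * e z := by simp [add_comm]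
          _ = _ := h1
          _ = e z + u z := by simp
      exact (add_left_cancel this).symm
    rw [hu, zero_add, one_mul, add_zero] at h2
    have he : e z = 0 := by
      by_contra h0
      exact hζ1 ((mul_eq_right₀ h0).1 (by simpa [ζ'] using h2))
    exact ext' _ _ (by rw [he, e_one]) (by rw [hu, u_one])
  · exact ext' _ _ (by rw [e_mul, e_mul, u_of_ordq x hx, u_of_ordq y hy]; ring) (by rw [u_mul, u_mul]; ring)
  · have := congrArg e h
    simp only [e_mul, em, um, ζ'] at this
    simp at this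
    exact hζ1 (congrArg Units.val this)
  · obtain ⟨S, hS⟩ := subK H
    have hux := u_of_ordq x hx
    have hxe : e x ∈ S := (hS _).2 (eqmk x hux ▸ hxH)
    have hxe0 : e x ≠ 0 := fun h => by
      have hx1 : x = 1 := ext' _ _ (by rw [h, e_one]) (by rw [hux, u_one])
      rw [hx1, orderOf_one] at hx
      exact hq.one_lt.ne hx
    have hall := irr S _ hxe hxe0 y (u_of_ordr y hy) fun v hv => by
      rw [hS, ← conjK]
      exact H.mul_mem (H.mul_mem hyH ((hS v).1 hv)) (H.inv_mem hyH)
    have hyC : Subgroup.zpowers y.right = ⊤ := by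
      refine Subgroup.eq_top_of_le_card _ ?_
      rw [Nat.card_zpowers, Nat.card_zpowers, hζ]
      have : orderOf y.right = r := by
        refine orderOf_eq_prime ?_ ?_
        · apply Subtype.ext; apply Units.ext
          have := u_r y
          rw [u_right] at this
          simpa using this
        · intro h
          exact u_of_ordr y hy (by rw [u_right, h]; simp)
      rw [this]
    refine Subgroup.eq_top_iff' H |>.2 fun z => ?_
    obtain ⟨k, hk⟩ := Subgroup.mem_zpowers_iff.1 (hyC ▸ Subgroup.mem_top z.right : z.right ∈ Subgroup.zpowers y.right)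
    have hu1 : u (z * (y ^ k)⁻¹) = 1 := by
      rw [u_right]
      have hyk : (y ^ k).right = y.right ^ k := map_zpow SemidirectProduct.rightHom y k
      have h0 : (z * (y ^ k)⁻¹).right = z.right * ((y ^ k).right)⁻¹ := rfl
      rw [h0, hyk, hk, mul_inv_cancel]; simp
    have hmem : z * (y ^ k)⁻¹ ∈ H := by
      rw [eqmk _ hu1]; exact (hS _).1 (hall _)
    have h := H.mul_mem hmem (H.zpow_mem hyH k)
    have e' : z * (y ^ k)⁻¹ * y ^ k = z := inv_mul_cancel_right z (y ^ k)
    rwa [e'] at h
  · obtain ⟨S, hS⟩ := subK N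
    obtain ⟨n, hn⟩ := Subgroup.ne_bot_iff_exists_ne_one.1 hNne
    have hn1 : (n : X) ≠ 1 := fun h => hn (Subtype.ext h)
    obtain ⟨w, hw, hw0⟩ : ∃ w ∈ S, w ≠ 0 := by
      by_cases hu : u (n : X) = 1
      · refine ⟨e (n : X), (hS _).2 (eqmk _ hu ▸ n.2), fun h => hn1 (ext' _ _ (by rw [h, e_one]) (by rw [hu, u_one]))⟩
      · refine ⟨u (n : X) - 1, (hS _).2 ?_, sub_ne_zero.2 hu⟩
        have h1 : (n : X) * (mkX 1 1 * (n : X)⁻¹ * (mkX 1 1)⁻¹) ∈ N :=
          N.mul_mem n.2 (hN.conj_mem _ (N.inv_mem n.2) _)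
        have h2 : (n : X) * (mkX 1 1 * (n : X)⁻¹ * (mkX 1 1)⁻¹) = mkX (u (n : X) - 1) 1 := by
          rw [← mul_assoc, ← mul_assoc, conjK, mul_one, mul_inv_eq_iff_eq_mul]
          exact ext' _ _ (by rw [e_mul, em, em, em, um]; simp) (by rw [u_mul, um, um, um]; simp)
        rw [← h2]; exact h1
    have hall := irr S w hw hw0 (mkX 0 ζ') (by rw [um]; exact hζ1) fun v hv => by
      rw [hS, ← conjK]
      exact hN.conj_mem _ ((hS v).1 hv) _
    rw [eqmk x (u_of_ordq x hx)]
    exact (hS _).1 (hall _)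

theorem orderOf_single {ι : Type*} [DecidableEq ι] {G : ι → Type*} [∀ i, Group (G i)] (j : ι) (x : G j) :
    orderOf (Pi.mulSingle j x) = orderOf x :=
  orderOf_injective (MonoidHom.mulSingle G j) (Pi.mulSingle_injective j) x



/-- A finite group is critical with respect to a set Ω of natural numbers when its set of element orders is Ω while no proper section H/N (H a subgroup, N normal in H, (H, N) ≠ (whole group, 1)) has Ω as its set of element orders. Let s ≥ 1 and let p(j,0), p(j,1) (j < s) be 2s pairwise distinct primes, and let Ω be the set of all products c(0)·…·c(s−1) with each c(j) ∈ {1, p(j,0), p(j,1)}. Then there are 2^s pairwise non-isomorphic finite groups critical with respect to Ω. -/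
theorem result (s : ℕ) (hs : 1 ≤ s) (p : Fin s → Fin 2 → ℕ)
    (hp : ∀ j i, (p j i).Prime) (hinj : ∀ j i j' i', p j i = p j' i' → j = j' ∧ i = i') :
    ∃ (G : Fin (2 ^ s) → Type) (_ : ∀ a, Group (G a)) (_ : ∀ a, Fintype (G a)),
      (∀ a b, a ≠ b → ¬ Nonempty (G a ≃* G b)) ∧
      ∀ a, Set.range (orderOf : (G a) → ℕ) = {m : ℕ | ∃ c : Fin s → ℕ, (∀ j, c j = 1 ∨ c j = p j 0 ∨ c j = p j 1) ∧ m = ∏ j, c j} ∧
      ∀ (H : Subgroup (G a)) (N : Subgroup ↥H) [N.Normal], (H ≠ ⊤ ∨ N ≠ ⊥) → Set.range (orderOf : (↥H ⧸ N) → ℕ) ≠ {m : ℕ | ∃ c : Fin s → ℕ, (∀ j, c j = 1 ∨ c j = p j 0 ∨ c j = p j 1) ∧ m = ∏ j, c j} := by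
  classical
  have hex : ∀ (j : Fin s) (i : Fin 2), ∃ (X : Type) (_ : Group X) (_ : Fintype X),
      IsMinFrob (p j i) (p j (1 - i)) X := fun j i =>
    exists_minFrob _ _ (hp j i) (hp j (1 - i)) fun h => by
      have h01 : ∀ i : Fin 2, i ≠ 1 - i := by decide
      exact h01 i (hinj j i j (1 - i) h).2
  choose X iG iF hX using hex
  let e : Fin (2 ^ s) ≃ (Fin s → Fin 2) := finFunctionFinEquiv.symm
  letI inst : ∀ (a : Fin (2 ^ s)) (j : Fin s), Group (X j (e a j)) := fun a j => iG j (e a j)
  letI instF : ∀ (a : Fin (2 ^ s)) (j : Fin s), Fintype (X j (e a j)) := fun a j => iF j (e a j)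
  have hflip : ∀ i i' : Fin 2, i' = i ∨ i' = 1 - i := by decide
  -- the order of a component is `1` or one of the two primes
  have hord : ∀ (a : Fin (2 ^ s)) (j : Fin s) (x : X j (e a j)),
      orderOf x = 1 ∨ orderOf x = p j 0 ∨ orderOf x = p j 1 := by
    intro a j x
    have h01 : ∀ i : Fin 2, i = 0 ∨ i = 1 := by decide
    rcases (hX j (e a j)).1 x with h | h | h
    · exact Or.inl h
    · rcases h01 (e a j) with h' | h'
      exacts [Or.inr (Or.inl (h.trans (congrArg (p j) h'))), Or.inr (Or.inr (h.trans (congrArg (p j) h')))]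
    · rcases h01 (1 - e a j) with h' | h'
      exacts [Or.inr (Or.inl (h.trans (congrArg (p j) h'))), Or.inr (Or.inr (h.trans (congrArg (p j) h')))]
  -- components of coprime orders
  have hsupp : ∀ (a : Fin (2 ^ s)) (f : ∀ j, X j (e a j)) (j : Fin s) (i : Fin 2) (n : ℕ),
      f ^ ((p j i) ^ n) = 1 → f = Pi.mulSingle j (f j) := by
    intro a f j i n hn
    funext k
    by_cases hk : k = j
    · subst hk; simp
    · rw [Pi.mulSingle_eq_of_ne hk]
      have h1 : orderOf (f k) ∣ (p j i) ^ n := orderOf_dvd_of_pow_eq_one (congrFun hn k)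
      rcases hord a k (f k) with h | h | h
      · exact orderOf_eq_one_iff.1 h
      · rw [h] at h1
        exact absurd (hinj k 0 j i ((Nat.prime_dvd_prime_iff_eq (hp k 0) (hp j i)).1 ((hp k 0).dvd_of_dvd_pow h1))).1 hk
      · rw [h] at h1
        exact absurd (hinj k 1 j i ((Nat.prime_dvd_prime_iff_eq (hp k 1) (hp j i)).1 ((hp k 1).dvd_of_dvd_pow h1))).1 hk
  have hexist : ∀ (a : Fin (2 ^ s)) (j : Fin s) (i : Fin 2), ∃ x : X j (e a j), orderOf x = p j i := by
    intro a j i
    obtain ⟨-, hq, -, -, ⟨y, -, hy, -, -⟩, -, -⟩ := hX j (e a j)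
    rcases hflip (e a j) i with h | h
    · rw [h]; exact hq
    · rw [h]; exact ⟨y, hy⟩
  refine ⟨fun a => ∀ j, X j (e a j), fun a => inferInstance, fun a => inferInstance, fun a b hab => ?_, fun a => ⟨?_, ?_⟩⟩
  · -- the bit `j` is seen in the group
    rintro ⟨φ⟩
    apply hab
    apply e.injective
    funext j
    by_contra hne
    have hb : e b j = 1 - e a j := (hflip (e a j) (e b j)).resolve_left (Ne.symm hne)
    obtain ⟨-, -, -, -, ⟨x, y, hx, hy, hxy⟩, -, -⟩ := hX j (e a j)
    have hkey : ∀ z : X j (e a j), orderOf z = p j (1 - e a j) →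
        φ (Pi.mulSingle j z) = Pi.mulSingle j ((φ (Pi.mulSingle j z)) j) ∧
          (φ (Pi.mulSingle j z) j = 1 ∨ orderOf (φ (Pi.mulSingle j z) j) = p j (e b j)) := by
      intro z hz
      have h1 : (φ (Pi.mulSingle j z)) ^ (p j (1 - e a j)) ^ 1 = 1 := by
        rw [pow_one, ← map_pow, ← hz, ← orderOf_single (G := fun k => X k (e a k)) j z, pow_orderOf_eq_one, map_one]
      refine ⟨hsupp b _ j (1 - e a j) 1 h1, ?_⟩
      rw [pow_one] at h1
      rw [show p j (e b j) = p j (1 - e a j) from congrArg (p j) hb]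
      rcases (Nat.dvd_prime (hp j (1 - e a j))).1 (orderOf_dvd_of_pow_eq_one (congrFun h1 j)) with h | h
      · exact Or.inl (orderOf_eq_one_iff.1 h)
      · exact Or.inr h
    obtain ⟨sx, ox⟩ := hkey x hx
    obtain ⟨sy, oy⟩ := hkey y hy
    have hc : φ (Pi.mulSingle j x) j * φ (Pi.mulSingle j y) j = φ (Pi.mulSingle j y) j * φ (Pi.mulSingle j x) j := by
      rcases ox with h | hox
      · rw [h, one_mul, mul_one]
      rcases oy with h | hoy
      · rw [h, one_mul, mul_one]
      exact (hX j (e b j)).2.2.2.1 _ _ hox hoy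
    apply hxy
    have h2 : Pi.mulSingle (M := fun k => X k (e a k)) j (x * y) = Pi.mulSingle j (y * x) := by
      apply φ.injective
      rw [Pi.mulSingle_mul, Pi.mulSingle_mul, map_mul, map_mul, sx, sy, ← Pi.mulSingle_mul, hc, Pi.mulSingle_mul]
    exact Pi.mulSingle_injective j h2
  · -- element orders
    ext m
    constructor
    · rintro ⟨f, rfl⟩
      refine ⟨fun j => orderOf (f j), fun j => hord a j (f j), ?_⟩
      have hcop : (↑(Finset.univ : Finset (Fin s)) : Set (Fin s)).Pairwise
          (Function.onFun Nat.Coprime fun j => orderOf (f j)) := by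
        intro j _ k _ hjk
        show (orderOf (f j)).Coprime (orderOf (f k))
        rcases hord a j (f j) with h | h | h <;> rcases hord a k (f k) with h' | h' | h' <;> rw [h, h'] <;>
          first
            | exact Nat.coprime_one_left _
            | exact Nat.coprime_one_right _
            | exact (Nat.coprime_primes (hp _ _) (hp _ _)).2 fun he => hjk (hinj _ _ _ _ he).1
      rw [Cfsg.Agent.Lib.ElementOrders.pi_orderOf_eq_lcm, Finset.lcm_eq_prod hcop]
    · rintro ⟨c, hc, rfl⟩
      have hex' : ∀ j, ∃ x : X j (e a j), orderOf x = c j := by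
        intro j
        rcases hc j with h | h | h
        · exact ⟨1, by rw [orderOf_one, h]⟩
        · rw [h]; exact hexist a j 0
        · rw [h]; exact hexist a j 1
      choose f hf using hex'
      refine ⟨f, ?_⟩
      have hcop : (↑(Finset.univ : Finset (Fin s)) : Set (Fin s)).Pairwise (Function.onFun Nat.Coprime c) := by
        intro j _ k _ hjk
        show (c j).Coprime (c k)
        rcases hc j with h | h | h <;> rcases hc k with h' | h' | h' <;> rw [h, h'] <;>
          first
            | exact Nat.coprime_one_left _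
            | exact Nat.coprime_one_right _
            | exact (Nat.coprime_primes (hp _ _) (hp _ _)).2 fun he => hjk (hinj _ _ _ _ he).1
      rw [Cfsg.Agent.Lib.ElementOrders.pi_orderOf_eq_lcm]
      simp only [hf]
      exact Finset.lcm_eq_prod hcop
  · -- criticality
    intro H N _ hHN hran
    have hmem : ∀ (j : Fin s) (i : Fin 2), ∃ h : ↥H, orderOf (h : ↥H ⧸ N) = p j i := by
      intro j i
      have : p j i ∈ Set.range (orderOf : (↥H ⧸ N) → ℕ) := by
        rw [hran]
        refine ⟨fun k => if k = j then p j i else 1, fun k => ?_, ?_⟩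
        · by_cases hk : k = j
          · subst hk
            simp only [if_pos rfl]
            fin_cases i <;> simp
          · simp [hk]
        · simp
      obtain ⟨x, hx⟩ := this
      obtain ⟨h, rfl⟩ := QuotientGroup.mk_surjective x
      exact ⟨h, hx⟩
    have hsingle : ∀ (j : Fin s) (i : Fin 2), ∃ x : X j (e a j), orderOf x = p j i ∧ Pi.mulSingle j x ∈ H := by
      intro j i
      obtain ⟨h, hh⟩ := hmem j i
      have hd : p j i ∣ orderOf h := hh ▸ orderOf_map_dvd (QuotientGroup.mk' N) h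
      have hg : orderOf (h ^ (orderOf h / p j i)) = p j i := orderOf_pow_orderOf_div (orderOf_pos h).ne' hd
      set g := h ^ (orderOf h / p j i)
      have hg' : orderOf (g : ∀ j, X j (e a j)) = p j i := by rw [Subgroup.orderOf_coe, hg]
      have hs' := hsupp a (g : ∀ j, X j (e a j)) j i 1 (by rw [pow_one, ← hg', pow_orderOf_eq_one])
      refine ⟨(g : ∀ j, X j (e a j)) j, ?_, hs' ▸ g.2⟩
      rw [← orderOf_single (G := fun k => X k (e a k)) j, ← hs', hg']
    have hH : H = ⊤ := by
      refine Subgroup.eq_top_iff' H |>.2 fun f => ?_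
      refine Subgroup.pi_mem_of_mulSingle_mem f fun j => ?_
      obtain ⟨x, hx, hxH⟩ := hsingle j (e a j)
      obtain ⟨y, hy, hyH⟩ := hsingle j (1 - e a j)
      have := (hX j (e a j)).2.2.2.2.2.1 (H.comap (MonoidHom.mulSingle (fun k => X k (e a k)) j)) x y hxH hx hyH hy
      exact (this ▸ Subgroup.mem_top (f j) : f j ∈ H.comap (MonoidHom.mulSingle (fun k => X k (e a k)) j))
    have hN : N ≠ ⊥ := hHN.resolve_left (not_not_intro hH)
    obtain ⟨n, hn⟩ := Subgroup.ne_bot_iff_exists_ne_one.1 hN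
    obtain ⟨j, hj⟩ : ∃ j, ((n : ↥H) : ∀ j, X j (e a j)) j ≠ 1 := by
      by_contra hc; push Not at hc
      exact hn (Subtype.ext (Subtype.ext (funext hc)))
    obtain ⟨x, hx⟩ : ∃ x : X j (e a j), x * ((n : ↥H) : ∀ j, X j (e a j)) j ≠ ((n : ↥H) : ∀ j, X j (e a j)) j * x := by
      by_contra hc; push Not at hc
      exact hj ((hX j (e a j)).2.2.1 _ hc)
    let ι : X j (e a j) →* ↥H :=
      { toFun := fun z => ⟨Pi.mulSingle j z, by rw [hH]; trivial⟩
        map_one' := Subtype.ext (Pi.mulSingle_one j)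
        map_mul' := fun z w => Subtype.ext (Pi.mulSingle_mul (f := fun k => X k (e a k)) j z w) }
    set nj := ((n : ↥H) : ∀ j, X j (e a j)) j with hnj
    have hcN : ι (x * nj * x⁻¹ * nj⁻¹) ∈ N := by
      have h1 : ι x * (n : ↥H) * (ι x)⁻¹ * (n : ↥H)⁻¹ ∈ N :=
        N.mul_mem (Subgroup.Normal.conj_mem inferInstance _ n.2 _) (N.inv_mem n.2)
      convert h1 using 1
      apply Subtype.ext
      funext k
      by_cases hk : k = j
      · subst hk; simp [ι, hnj]
      · simp [ι, Pi.mulSingle_eq_of_ne hk]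
    have hNj := (hX j (e a j)).2.2.2.2.2.2 (N.comap ι) inferInstance (fun hbot => ?_)
    swap
    · have hm : x * nj * x⁻¹ * nj⁻¹ ∈ N.comap ι := hcN
      rw [hbot, Subgroup.mem_bot] at hm
      exact hx (mul_inv_eq_iff_eq_mul.1 (by rwa [mul_inv_eq_one] at hm))
    obtain ⟨h, hh⟩ := hmem j (e a j)
    set q := p j (e a j) with hq
    have hq' : q.Prime := hp _ _
    obtain ⟨k, m, hqm, hkm⟩ : ∃ k m, ¬ q ∣ m ∧ orderOf h = q ^ k * m :=
      Nat.exists_eq_pow_mul_and_not_dvd (orderOf_pos h).ne' q hq'.ne_one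
    have hg1 : ((h ^ m : ↥H) : ∀ j, X j (e a j)) ^ q ^ k = 1 := by
      rw [← Subgroup.coe_pow, ← pow_mul, mul_comm, ← hkm, pow_orderOf_eq_one]; rfl
    have hs1 := hsupp a _ j (e a j) k hg1
    have hgN : h ^ m ∈ N := by
      have hz : h ^ m = ι (((h ^ m : ↥H) : ∀ j, X j (e a j)) j) := Subtype.ext hs1
      by_cases hz1 : ((h ^ m : ↥H) : ∀ j, X j (e a j)) j = 1
      · rw [hz, hz1, map_one]; exact N.one_mem
      · rw [hz]
        refine hNj _ ?_
        have hdd : orderOf (((h ^ m : ↥H) : ∀ j, X j (e a j)) j) ∣ q ^ k := orderOf_dvd_of_pow_eq_one (congrFun hg1 j)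
        rcases (hX j (e a j)).1 (((h ^ m : ↥H) : ∀ j, X j (e a j)) j) with h0 | h0 | h0
        · exact absurd (orderOf_eq_one_iff.1 h0) hz1
        · exact h0
        · exfalso
          rw [h0] at hdd
          have := (Nat.prime_dvd_prime_iff_eq (hp _ _) hq').1 ((hp _ _).dvd_of_dvd_pow hdd)
          have h01 : ∀ i : Fin 2, 1 - i ≠ i := by decide
          exact h01 _ (hinj _ _ _ _ this).2
    have : q ∣ m := by
      rw [← hh]
      exact orderOf_dvd_of_pow_eq_one (by rw [← QuotientGroup.mk_pow, QuotientGroup.eq_one_iff]; exact hgN)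
    exact hqm this

end Cfsg.Agent.S3599
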