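import Cfsg.Statements.S3600
import Cfsg.Agent.S3433
import Cfsg.Agent.Lib.SpecFive.Critical.Module

set_option autoImplicit false
open Cfsg

namespace Cfsg.Agent.S3600

open Cfsg.Agent.Lib.SpecFive Cfsg.Agent.Lib.CosetTable.HeSp44

/-- The matrices with last row `(0, 0, 1)` are closed. -/
theorem mem_affine (M : Matrix.SpecialLinearGroup (Fin 3) K4) :
    M ∈ Subgroup.closure {M : Matrix.SpecialLinearGroup (Fin 3) K4 |
      (M : Matrix (Fin 3) (Fin 3) K4) 2 0 = 0 ∧ (M : Matrix (Fin 3) (Fin 3) K4) 2 1 = 0 ∧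
      (M : Matrix (Fin 3) (Fin 3) K4) 2 2 = 1} ↔
    (M : Matrix (Fin 3) (Fin 3) K4) 2 0 = 0 ∧ (M : Matrix (Fin 3) (Fin 3) K4) 2 1 = 0 ∧
      (M : Matrix (Fin 3) (Fin 3) K4) 2 2 = 1 := by
  refine ⟨fun h => ?_, fun h => Subgroup.subset_closure h⟩
  let P : Matrix.SpecialLinearGroup (Fin 3) K4 → Prop := fun M =>
    (M : Matrix (Fin 3) (Fin 3) K4) 2 0 = 0 ∧ (M : Matrix (Fin 3) (Fin 3) K4) 2 1 = 0 ∧
      (M : Matrix (Fin 3) (Fin 3) K4) 2 2 = 1
  have hmul : ∀ x y, P x → P y → P (x * y) := by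
    rintro x y ⟨a, b, c⟩ ⟨a', b', c'⟩
    refine ⟨?_, ?_, ?_⟩ <;>
      simp [Matrix.mul_apply, Fin.sum_univ_three, a, b, c, a', b', c']
  induction h using Subgroup.closure_induction with
  | mem x hx => exact hx
  | one => simp
  | mul x y _ _ hx hy => exact hmul x y hx hy
  | inv x _ hx =>
    have hpow : ∀ n : ℕ, P (x ^ n) := by
      intro n
      induction n with
      | zero => simp [P]
      | succ n ih => rw [pow_succ]; exact hmul _ _ ih hx
    have e : x⁻¹ = x ^ (orderOf x - 1) := by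
      apply inv_eq_of_mul_eq_one_left
      rw [← pow_succ, Nat.sub_add_cancel (orderOf_pos x), pow_orderOf_eq_one]
    rw [e]
    exact hpow _

/-- A finite group is critical with respect to a set Ω of natural numbers when its set of element orders is Ω while no proper section has Ω as its set of element orders. A finite group critical with respect to {1, 2, 3, 4, 5} (the set of element orders of the alternating group of degree 6) is isomorphic either to the alternating group of degree 6 or to the affine group F² ⋊ SL(2,F) over the field F with four elements (realised as the matrices of SL(3,F) with last row (0, 0, 1)). -/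
theorem result {G : Type*} [Group G] [Finite G]
    (hcrit : Set.range (orderOf : G → ℕ) = ({1, 2, 3, 4, 5} : Set ℕ) ∧
      ∀ (H : Subgroup G) (N : Subgroup ↥H) [N.Normal], (H ≠ ⊤ ∨ N ≠ ⊥) → Set.range (orderOf : (↥H ⧸ N) → ℕ) ≠ ({1, 2, 3, 4, 5} : Set ℕ)) :
    Nonempty (G ≃* alternatingGroup (Fin 6)) ∨
      ∃ (F : Type) (_ : Field F) (_ : Fintype F), Fintype.card F = 4 ∧
        Nonempty (G ≃* ↥(Subgroup.closure {M : Matrix.SpecialLinearGroup (Fin 3) F |
          (M : Matrix (Fin 3) (Fin 3) F) 2 0 = 0 ∧ (M : Matrix (Fin 3) (Fin 3) F) 2 1 = 0 ∧ (M : Matrix (Fin 3) (Fin 3) F) 2 2 = 1})) := by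
  classical
  obtain ⟨hspec, hc⟩ := hcrit
  have hspec' : Set.range (orderOf : G → ℕ) = {k : ℕ | 1 ≤ k ∧ k ≤ 5} := by
    rw [hspec]
    ext k
    simp only [Set.mem_insert_iff, Set.mem_singleton_iff, Set.mem_setOf_eq]
    omega
  have hP : P5 G := fun g =>
    ((hspec' ▸ Set.mem_range_self g : orderOf g ∈ {k : ℕ | 1 ≤ k ∧ k ≤ 5})).2
  rcases Cfsg.Agent.S3433.result hspec' with hA | ⟨E, hEn, ⟨-, hexp⟩, ⟨f⟩⟩
  · exact Or.inl hA
  right
  refine ⟨K4, inferInstance, inferInstance, K4.card_eq, ?_⟩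
  have : Fact (Nat.Prime 2) := ⟨Nat.prime_two⟩
  let π : G →* Critical.A5 := f.toMonoidHom.comp (QuotientGroup.mk' E)
  have hπ : Function.Surjective π := f.surjective.comp (QuotientGroup.mk'_surjective E)
  have hker : π.ker = E := by
    ext g
    show f (QuotientGroup.mk' E g) = 1 ↔ g ∈ E
    rw [map_eq_one_iff f f.injective]
    exact QuotientGroup.eq_one_iff g
  have hexp' : ∀ x ∈ E, x * x = 1 := fun x hx => by rw [← sq]; exact hexp x hx
  have hE : IsPGroup 2 E := fun x => ⟨1, Subtype.ext (by simpa using hexp x x.2)⟩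
  have hne : E ≠ ⊥ := by
    intro e
    obtain ⟨g, hg⟩ : (4 : ℕ) ∈ Set.range (orderOf : G → ℕ) := by rw [hspec]; simp
    have hinj : Function.Injective π := (MonoidHom.ker_eq_bot_iff π).mp (hker.trans e)
    rw [← orderOf_injective π hinj g] at hg
    have key : ∀ x : Critical.A5, x ^ 4 = 1 → x ^ 2 = 1 := by decide +kernel
    have h1 := orderOf_dvd_iff_pow_eq_one.mpr (key (π g) (orderOf_dvd_iff_pow_eq_one.mp hg.dvd))
    rw [hg] at h1
    norm_num at h1
  refine Critical.nonempty_equiv hP hE hne hexp' π hπ hker ?_ _ mem_affine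
  intro H hH e
  refine hc H ⊥ (Or.inl hH) ?_
  rw [← e]
  ext n
  constructor
  · rintro ⟨x, rfl⟩
    exact ⟨QuotientGroup.quotientBot x, orderOf_injective
      (QuotientGroup.quotientBot : _ ≃* ↥H).toMonoidHom (MulEquiv.injective _) x⟩
  · rintro ⟨x, rfl⟩
    exact ⟨QuotientGroup.quotientBot.symm x, orderOf_injective
      (QuotientGroup.quotientBot : _ ≃* ↥H).symm.toMonoidHom (MulEquiv.injective _) x⟩

end Cfsg.Agent.S3600
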