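import Cfsg.Statements.S3619
import Mathlib
-- import your own Cfsg.Agent.* helpers here

set_option autoImplicit false
open Cfsg

namespace Cfsg.Agent.S3619

open Pointwise

/-- A quasiprimitive group with a primitive Jordan set is primitive. -/
theorem preprimitive {G Ω : Type*} [Group G] [MulAction G Ω] [Finite Ω]
    (hqp : ∀ N : Subgroup G, N.Normal → N ≠ ⊥ → MulAction.IsPretransitive ↥N Ω)
    (Γ : Set Ω) (hΓ1 : 1 < Γ.ncard)
    (hJ : MulAction.IsPretransitive ↥(fixingSubgroup G Γᶜ) ↥(SubMulAction.ofFixingSubgroup G Γᶜ))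
    (hJp : MulAction.IsPreprimitive ↥(fixingSubgroup G Γᶜ) ↥(SubMulAction.ofFixingSubgroup G Γᶜ)) :
    MulAction.IsPreprimitive G Ω := by
  classical
  obtain ⟨a, ha, a', ha', haa'⟩ := (Set.one_lt_ncard (Set.toFinite Γ)).1 hΓ1
  have hmemJ : ∀ z ∈ Γ, z ∈ SubMulAction.ofFixingSubgroup G Γᶜ := fun z hz => by
    rw [SubMulAction.mem_ofFixingSubgroup_iff]; exact fun h => h hz
  have hmove : ∀ u ∈ Γ, ∀ v ∈ Γ, ∃ h ∈ fixingSubgroup G Γᶜ, h • u = v := by
    intro u hu v hv
    obtain ⟨h, hh⟩ := hJ.exists_smul_eq ⟨u, hmemJ u hu⟩ ⟨v, hmemJ v hv⟩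
    exact ⟨h, h.2, congrArg Subtype.val hh⟩
  obtain ⟨h₀, hh₀, hh₀a⟩ := hmove a ha a' ha'
  have hne : h₀ ≠ 1 := fun h => haa' (by rw [← hh₀a, h, one_smul])
  have htop : (⊤ : Subgroup G) ≠ ⊥ := fun h => hne (by
    have := Subgroup.mem_top h₀; rwa [h, Subgroup.mem_bot] at this)
  haveI htr : MulAction.IsPretransitive G Ω := ⟨fun u v => by
    obtain ⟨g, hg⟩ := (hqp ⊤ inferInstance htop).exists_smul_eq u v
    exact ⟨g, hg⟩⟩
  refine MulAction.IsPreprimitive.of_isTrivialBlock_base a fun {B} haB hB => ?_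
  by_contra hnt
  simp only [MulAction.IsTrivialBlock, not_or] at hnt
  have hres : MulAction.IsBlock ↥(fixingSubgroup G Γᶜ)
      (Subtype.val ⁻¹' B : Set ↥(SubMulAction.ofFixingSubgroup G Γᶜ)) :=
    MulAction.IsBlock.subtype_val_preimage (hB.subgroup)
  rcases hJp.isTrivialBlock_of_isBlock hres with hsub | huniv
  · obtain ⟨c, hc, hca⟩ := Set.not_subsingleton_iff.1 hnt.1 |>.exists_ne a
    have hcΓ : c ∉ Γ := fun h => hca (congrArg Subtype.val
      (hsub (x := ⟨c, hmemJ c h⟩) hc (y := ⟨a, hmemJ a ha⟩) haB))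
    have hfix : h₀ • c = c := (mem_fixingSubgroup_iff G).1 hh₀ c hcΓ
    have hBB : h₀ • B = B := hB.smul_eq_of_mem hc (by rw [hfix]; exact hc)
    have : a' ∈ B := by
      rw [← hBB, ← hh₀a]; exact Set.smul_mem_smul_set haB
    exact haa' (congrArg Subtype.val
      (hsub (x := ⟨a, hmemJ a ha⟩) haB (y := ⟨a', hmemJ a' ha'⟩) this))
  · have hΓB : Γ ⊆ B := fun z hz => by
      have : (⟨z, hmemJ z hz⟩ : ↥(SubMulAction.ofFixingSubgroup G Γᶜ)) ∈ Subtype.val ⁻¹' B := by
        rw [huniv]; trivial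
      exact this
    let K : Subgroup G := ⨅ g : G, MulAction.stabilizer G (g • B)
    have hKn : K.Normal := ⟨fun k hk g => by
      simp only [K, Subgroup.mem_iInf, MulAction.mem_stabilizer_iff] at hk ⊢
      intro g'
      rw [mul_smul, mul_smul, smul_smul g⁻¹ g' B, hk (g⁻¹ * g'), smul_smul, mul_inv_cancel_left]⟩
    have hKh : h₀ ∈ K := by
      simp only [K, Subgroup.mem_iInf, MulAction.mem_stabilizer_iff]
      intro g
      by_cases hg : g • B = B
      · rw [hg]
        exact hB.smul_eq_of_mem haB (by rw [hh₀a]; exact hΓB ha')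
      · have hd : Disjoint (g • B) B := (MulAction.isBlock_iff_smul_eq_or_disjoint.1 hB g).resolve_left hg
        have hfix : ∀ z ∈ g • B, h₀ • z = z := fun z hz =>
          (mem_fixingSubgroup_iff G).1 hh₀ z (fun hzΓ => Set.disjoint_left.1 hd hz (hΓB hzΓ))
        ext z
        constructor
        · rintro ⟨w, hw, rfl⟩
          show h₀ • w ∈ g • B
          rwa [hfix w hw]
        · exact fun hz => ⟨z, hz, hfix z hz⟩
    have hKt := hqp K hKn (fun h => hne (by rwa [h, Subgroup.mem_bot] at hKh))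
    apply hnt.2
    refine Set.eq_univ_of_forall fun z => ?_
    obtain ⟨k, hk⟩ := hKt.exists_smul_eq a z
    have hkB : (k : G) • B = B := by
      have := k.2
      simp only [K, Subgroup.mem_iInf, MulAction.mem_stabilizer_iff] at this
      simpa using this 1
    rw [← hk, ← hkB]
    exact Set.smul_mem_smul_set haB


/-- Let G act faithfully on a finite set in such a way that every non-trivial normal subgroup of G is transitive (G is quasiprimitive). Let Γ be a subset with more than one point and not the whole set, such that the pointwise stabilizer of the complement of Γ acts transitively on Γ (a Jordan set). If that pointwise stabilizer acts primitively on Γ, then G is k-fold transitive where k is one more than the number of points outside Γ (the Jordan set is a trivial one). -/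
theorem result {G Ω : Type*} [Group G] [Finite G] [MulAction G Ω] [FaithfulSMul G Ω] [Finite Ω]
    (hqp : ∀ N : Subgroup G, N.Normal → N ≠ ⊥ → MulAction.IsPretransitive ↥N Ω)
    (Γ : Set Ω) (hΓ1 : 1 < Γ.ncard) (hΓ2 : Γ.ncard < Nat.card Ω)
    (hJ : MulAction.IsPretransitive ↥(fixingSubgroup G Γᶜ) ↥(SubMulAction.ofFixingSubgroup G Γᶜ))
    (hJp : MulAction.IsPreprimitive ↥(fixingSubgroup G Γᶜ) ↥(SubMulAction.ofFixingSubgroup G Γᶜ)) :
    MulAction.IsMultiplyPretransitive G Ω (Nat.card Ω - Γ.ncard + 1) := by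
  classical
  have hprim : MulAction.IsPreprimitive G Ω := preprimitive hqp Γ hΓ1 hJ hJp
  have hc := Set.ncard_add_ncard_compl Γ
  obtain ⟨n, hn⟩ : ∃ n, Γᶜ.ncard = n + 1 := ⟨Γᶜ.ncard - 1, by omega⟩
  have h := hprim.isMultiplyPreprimitive hn (by omega) hJp
  have h2 : n + 2 = Nat.card Ω - Γ.ncard + 1 := by omega
  rw [← h2]
  exact MulAction.IsMultiplyPreprimitive.isMultiplyPretransitive G Ω (n + 2)

end Cfsg.Agent.S3619
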