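import Cfsg.Statements.S3626
import Cfsg.Agent.S1159
import Cfsg.Agent.Lib.ReeCube.Main
-- import your own Cfsg.Agent.* helpers here

set_option autoImplicit false
open Cfsg

namespace Cfsg.Agent.S3626

/-- Let R be the small Ree group over the field with q = 3^(2m+1) ≥ 27 elements. Then there are finite groups of arbitrarily large order with exactly the same set of element orders as R × R × R. -/
theorem result {K : Type*} [Field K] [Fintype K] {m : ℕ} (hm : 1 ≤ m) (hK : Fintype.card K = 3 ^ (2 * m + 1)) (N : ℕ) :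
    ∃ (H : Type) (_ : Group H) (_ : Fintype H), N < Fintype.card H ∧
      Set.range (orderOf : H → ℕ) = Set.range (orderOf : ↥(Cfsg.Lie.twistedG2 K (3 ^ m)) × ↥(Cfsg.Lie.twistedG2 K (3 ^ m)) × ↥(Cfsg.Lie.twistedG2 K (3 ^ m)) → ℕ) := by
  classical
  have : Fact (Nat.Prime 3) := ⟨Nat.prime_three⟩
  have : CharP K 3 := charP_of_card_eq_prime_pow hK
  refine Cfsg.Agent.Lib.ReeCube.cube_large hK (3 ^ (2 * m + 1) - 3 ^ (m + 1) + 1)
    (3 ^ (2 * m + 1) + 3 ^ (m + 1) + 1) (fun d => ?_) N
  rw [Cfsg.Agent.S1159.result hm hK d]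
  simp only [Cfsg.Agent.Lib.ReeCube.CubeBound, or_and_right, exists_or, exists_eq_left]
  simp only [or_assoc]

end Cfsg.Agent.S3626
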