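import Cfsg.Statements.S3627
import Cfsg.Agent.Lib.JankoOne.Orders
import Mathlib.GroupTheory.SemidirectProduct
import Mathlib.GroupTheory.SpecificGroups.Dihedral

/-!
`H = J × J × J × K` where `K` is the product of a large generalised dihedral group of exponent 6 and the
dihedral group of order 10. The element orders of `K` are 1, 2, 3, 5, 6, 10, 15, all of them occur in
the first Janko group, whose other element orders are 7, 11, 19; of four of these, two are equal.
-/

set_option autoImplicit false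
open Cfsg

namespace Cfsg.Agent.S3627

open Cfsg.Agent.Lib.JankoOne

theorem wordG_append : ∀ v w : List Bool, wordG (v ++ w) = wordG v * wordG w
  | [], w => (one_mul _).symm
  | b :: v, w => by rw [List.cons_append, wordG, wordG, wordG_append v w, mul_assoc]

theorem wordG_pow (w : List Bool) : ∀ k : ℕ, wordG (List.replicate k w).flatten = wordG w ^ k
  | 0 => rfl
  | k + 1 => by rw [List.replicate_succ, List.flatten_cons, wordG_append, wordG_pow w k, pow_succ']

/-- Test whether a power of a word is trivial. -/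
noncomputable def powIsOne (w : List Bool) (k : ℕ) : Bool :=
  Nat.beq (wordC (List.replicate k w).flatten) oneC

theorem powIsOne_iff (w : List Bool) (k : ℕ) : powIsOne w k = true ↔ wordG w ^ k = 1 := by
  rw [powIsOne, ← encG_wordG, wordG_pow, ← encG_one]
  exact ⟨fun h => encG_injective (Nat.eq_of_beq_eq_true h), fun h => by rw [h]; exact Nat.beq_refl _⟩

theorem orderOf_word {w : List Bool} {n p q : ℕ} (hn : powIsOne w n = true)
    (hp : powIsOne w (n / p) = false) (hq : powIsOne w (n / q) = false) (hnpos : 0 < n)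
    (hpq : ∀ r : ℕ, r.Prime → r ∣ n → r = p ∨ r = q) : orderOf (wordG w) = n := by
  refine orderOf_eq_of_pow_and_pow_div_prime hnpos ((powIsOne_iff w n).1 hn) fun r hr hrn h => ?_
  rcases hpq r hr hrn with rfl | rfl
  · rw [(powIsOne_iff w _).2 h] at hp; exact Bool.noConfusion hp
  · rw [(powIsOne_iff w _).2 h] at hq; exact Bool.noConfusion hq

theorem prime_dvd_two {r a b : ℕ} (hr : r.Prime) (ha : a.Prime) (hb : b.Prime) (h : r ∣ a * b) :
    r = a ∨ r = b :=
  (hr.dvd_mul.1 h).imp (Nat.prime_dvd_prime_iff_eq hr ha).1 (Nat.prime_dvd_prime_iff_eq hr hb).1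

/-- An element of every order dividing 6, 10 or 15. -/
theorem exists_janko_order {d : ℕ} (h : d ∣ 6 ∨ d ∣ 10 ∨ d ∣ 15) :
    ∃ g : ↥Cfsg.Spor.J1, orderOf g = d := by
  have key : ∀ (w : List Bool) (n : ℕ), orderOf (wordG w) = n → n ≠ 0 → d ∣ n →
      ∃ g : ↥Cfsg.Spor.J1, orderOf g = d := by
    intro w n hw hn hd
    obtain ⟨c, rfl⟩ := hd
    refine ⟨⟨wordG w, wordG_mem w⟩ ^ c, ?_⟩
    rw [← Subgroup.orderOf_coe, Subgroup.coe_pow]
    rw [orderOf_pow_of_dvd (by rintro rfl; simp at hn) (by rw [hw]; exact dvd_mul_left c d), hw]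
    exact Nat.mul_div_cancel d (Nat.pos_of_ne_zero (by rintro rfl; simp at hn))
  rcases h with h | h | h
  · exact key [true, true, true, false] 6 (orderOf_word (p := 2) (q := 3) (by decide +kernel)
      (by decide +kernel) (by decide +kernel) (by norm_num)
      fun r hr hrn => prime_dvd_two hr Nat.prime_two Nat.prime_three hrn) (by norm_num) h
  · exact key [true, false] 10 (orderOf_word (p := 2) (q := 5) (by decide +kernel)
      (by decide +kernel) (by decide +kernel) (by norm_num)
      fun r hr hrn => prime_dvd_two hr Nat.prime_two Nat.prime_five hrn) (by norm_num) h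
  · exact key [true, true, false, true, false, true, true, false, false] 15
      (orderOf_word (p := 3) (q := 5) (by decide +kernel)
      (by decide +kernel) (by decide +kernel) (by norm_num)
      fun r hr hrn => prime_dvd_two hr Nat.prime_three Nat.prime_five hrn) (by norm_num) h

/-- The inversion action of a group of order two. -/
def invAct (A : Type) [CommGroup A] : Multiplicative (ZMod 2) →* MulAut A where
  toFun t := if t = 1 then 1 else MulEquiv.inv A
  map_one' := if_pos rfl
  map_mul' s t := by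
    rcases (by decide : ∀ z : Multiplicative (ZMod 2), z = 1 ∨ z = Multiplicative.ofAdd 1) s with rfl | rfl <;>
      rcases (by decide : ∀ z : Multiplicative (ZMod 2), z = 1 ∨ z = Multiplicative.ofAdd 1) t with rfl | rfl
    · simp
    · simp
    · simp
    · ext a
      rw [if_pos (by decide), if_neg (by decide)]
      simp

/-- The generalised dihedral group on `(ℤ/3)^a`. -/
abbrev genDih (a : ℕ) :=
  SemidirectProduct (Multiplicative (Fin a → ZMod 3)) (Multiplicative (ZMod 2)) (invAct _)

theorem genDih_pow (a : ℕ) (x : genDih a) : x ^ 2 = 1 ∨ x ^ 3 = 1 := by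
  obtain ⟨v, t⟩ := x
  rcases (by decide : ∀ z : Multiplicative (ZMod 2), z = 1 ∨ z = Multiplicative.ofAdd 1) t with rfl | rfl
  · right
    have hv : v ^ 3 = 1 := by
      apply Multiplicative.toAdd.injective
      rw [toAdd_pow, toAdd_one]
      ext i
      show 3 • v.toAdd i = 0
      rw [nsmul_eq_mul, show ((3 : ℕ) : ZMod 3) = 0 from by decide, zero_mul]
    show (SemidirectProduct.inl v : genDih a) ^ 3 = 1
    rw [← map_pow, hv, map_one]
  · left
    rw [pow_two]
    refine SemidirectProduct.ext ?_ ?_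
    · rw [SemidirectProduct.mul_left]
      simp only [invAct, MonoidHom.coe_mk, OneHom.coe_mk, SemidirectProduct.one_left]
      rw [if_neg (by decide)]
      simp
    · rw [SemidirectProduct.mul_right]
      exact (by decide : Multiplicative.ofAdd (1 : ZMod 2) * Multiplicative.ofAdd 1 = 1)

theorem dih5_pow : ∀ y : DihedralGroup 5, y ^ 2 = 1 ∨ y ^ 5 = 1 := by decide

/-- The small factor. -/
abbrev smallFactor (a : ℕ) := genDih a × DihedralGroup 5

theorem order_smallFactor {a : ℕ} (k : smallFactor a) :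
    orderOf k ∣ 6 ∨ orderOf k ∣ 10 ∨ orderOf k ∣ 15 := by
  obtain ⟨x, y⟩ := k
  rw [Prod.orderOf]
  rcases genDih_pow a x with hx | hx <;> rcases dih5_pow y with hy | hy <;>
    have hx := orderOf_dvd_of_pow_eq_one hx <;> have hy := orderOf_dvd_of_pow_eq_one hy
  · exact Or.inl (Nat.lcm_dvd (hx.trans (by norm_num)) (hy.trans (by norm_num)))
  · exact Or.inr (Or.inl (Nat.lcm_dvd (hx.trans (by norm_num)) (hy.trans (by norm_num))))
  · exact Or.inl (Nat.lcm_dvd (hx.trans (by norm_num)) (hy.trans (by norm_num)))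
  · exact Or.inr (Or.inr (Nat.lcm_dvd (hx.trans (by norm_num)) (hy.trans (by norm_num))))

theorem exists_smallFactor_order {a : ℕ} (ha : 0 < a) {d : ℕ} (h : d ∣ 6 ∨ d ∣ 10 ∨ d ∣ 15) :
    ∃ k : smallFactor a, orderOf k = d := by
  let v : Multiplicative (Fin a → ZMod 3) := Multiplicative.ofAdd fun _ => 1
  have hv : orderOf v = 3 := by
    refine orderOf_eq_prime ?_ ?_
    · apply Multiplicative.toAdd.injective
      rw [toAdd_pow, toAdd_one]
      ext i
      show 3 • (1 : ZMod 3) = 0
      decide
    · intro hv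
      exact one_ne_zero (congrFun (congrArg Multiplicative.toAdd hv) ⟨0, ha⟩)
  have hx : orderOf (SemidirectProduct.inl v : genDih a) = 3 := by
    rw [orderOf_injective _ SemidirectProduct.inl_injective, hv]
  have ht : orderOf (SemidirectProduct.inr (Multiplicative.ofAdd 1) : genDih a) = 2 := by
    rw [orderOf_injective _ SemidirectProduct.inr_injective]
    exact orderOf_eq_prime (by decide) (by decide)
  have hr : orderOf (DihedralGroup.r 1 : DihedralGroup 5) = 5 := DihedralGroup.orderOf_r_one
  have hs : orderOf (DihedralGroup.sr 0 : DihedralGroup 5) = 2 := DihedralGroup.orderOf_sr 0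
  have key : ∀ (k : smallFactor a) (n : ℕ), orderOf k = n → n ≠ 0 → d ∣ n →
      ∃ k : smallFactor a, orderOf k = d := by
    intro k n hk hn hd
    obtain ⟨c, rfl⟩ := hd
    refine ⟨k ^ c, ?_⟩
    rw [orderOf_pow_of_dvd (by rintro rfl; simp at hn) (by rw [hk]; exact dvd_mul_left c d), hk]
    exact Nat.mul_div_cancel d (Nat.pos_of_ne_zero (by rintro rfl; simp at hn))
  rcases h with h | h | h
  · exact key (SemidirectProduct.inl v, DihedralGroup.sr 0) 6
      (by rw [Prod.orderOf, hx, hs]; rfl) (by norm_num) h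
  · exact key (SemidirectProduct.inr (Multiplicative.ofAdd 1), DihedralGroup.r 1) 10
      (by rw [Prod.orderOf, ht, hr]; rfl) (by norm_num) h
  · exact key (SemidirectProduct.inl v, DihedralGroup.r 1) 15
      (by rw [Prod.orderOf, hx, hr]; rfl) (by norm_num) h

theorem janko_order_cases (g : ↥Cfsg.Spor.J1) :
    (orderOf g ∣ 6 ∨ orderOf g ∣ 10 ∨ orderOf g ∣ 15) ∨
      orderOf g = 7 ∨ orderOf g = 11 ∨ orderOf g = 19 := by
  obtain ⟨n, hn, hdvd⟩ := exists_pow_eq_one g.2
  rw [Subgroup.orderOf_coe] at hdvd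
  have hprime : ∀ p : ℕ, p.Prime → orderOf g ∣ p → orderOf g ∣ 6 ∨ orderOf g = p := by
    intro p hp h
    rcases (Nat.dvd_prime hp).1 h with h1 | h1
    · exact Or.inl (h1 ▸ one_dvd 6)
    · exact Or.inr h1
  simp only [List.mem_cons, List.not_mem_nil, or_false] at hn
  rcases hn with rfl | rfl | rfl | rfl | rfl | rfl
  · exact Or.inl (Or.inl hdvd)
  · exact (hprime 7 (by norm_num) hdvd).imp Or.inl Or.inl
  · exact Or.inl (Or.inr (Or.inl hdvd))
  · exact (hprime 11 (by norm_num) hdvd).imp Or.inl fun h => Or.inr (Or.inl h)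
  · exact Or.inl (Or.inr (Or.inr hdvd))
  · exact (hprime 19 (by norm_num) hdvd).imp Or.inl fun h => Or.inr (Or.inr h)

/-- The group. -/
abbrev bigGroup (a : ℕ) :=
  ↥Cfsg.Spor.J1 × ↥Cfsg.Spor.J1 × ↥Cfsg.Spor.J1 × smallFactor a

theorem range_bigGroup {a : ℕ} (ha : 0 < a) :
    Set.range (orderOf : bigGroup a → ℕ) = Set.range
      (orderOf : ↥Cfsg.Spor.J1 × ↥Cfsg.Spor.J1 × ↥Cfsg.Spor.J1 × ↥Cfsg.Spor.J1 → ℕ) := by
  ext n
  constructor
  · rintro ⟨⟨x, y, z, k⟩, rfl⟩
    obtain ⟨g, hg⟩ := exists_janko_order (order_smallFactor k)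
    exact ⟨(x, y, z, g), by simp only [Prod.orderOf, hg]⟩
  · rintro ⟨⟨x, y, z, w⟩, rfl⟩
    rcases janko_order_cases w with hw | hw
    · obtain ⟨k, hk⟩ := exists_smallFactor_order ha hw
      exact ⟨(x, y, z, k), by simp only [Prod.orderOf, hk]⟩
    rcases janko_order_cases x with hx | hx
    · obtain ⟨k, hk⟩ := exists_smallFactor_order ha hx
      exact ⟨(w, y, z, k), by simp only [Prod.orderOf, hk]; ac_rfl⟩
    rcases janko_order_cases y with hy | hy
    · obtain ⟨k, hk⟩ := exists_smallFactor_order ha hy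
      exact ⟨(x, w, z, k), by simp only [Prod.orderOf, hk]; ac_rfl⟩
    rcases janko_order_cases z with hz | hz
    · obtain ⟨k, hk⟩ := exists_smallFactor_order ha hz
      exact ⟨(x, y, w, k), by simp only [Prod.orderOf, hk]; ac_rfl⟩
    have hpig : orderOf x = orderOf y ∨ orderOf x = orderOf z ∨ orderOf x = orderOf w ∨
        orderOf y = orderOf z ∨ orderOf y = orderOf w ∨ orderOf z = orderOf w := by omega
    rcases hpig with h | h | h | h | h | h
    · refine ⟨(y, z, w, 1), ?_⟩
      simp only [Prod.orderOf, orderOf_one, Nat.lcm_one_right, h]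
      rw [← Nat.lcm_assoc (orderOf y) (orderOf y), Nat.lcm_self]
    · refine ⟨(y, z, w, 1), ?_⟩
      simp only [Prod.orderOf, orderOf_one, Nat.lcm_one_right, h]
      rw [Nat.lcm_comm (orderOf z) (Nat.lcm _ _), Nat.lcm_assoc, Nat.lcm_assoc,
        Nat.lcm_comm (orderOf w) (orderOf z), ← Nat.lcm_assoc (orderOf z) (orderOf z), Nat.lcm_self]
    · refine ⟨(x, y, z, 1), ?_⟩
      simp only [Prod.orderOf, orderOf_one, Nat.lcm_one_right, ← h]
      rw [Nat.lcm_comm (orderOf z) (orderOf x), ← Nat.lcm_assoc (orderOf y),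
        Nat.lcm_comm (orderOf y) (orderOf x), Nat.lcm_assoc (orderOf x) (orderOf y),
        ← Nat.lcm_assoc (orderOf x) (orderOf x), Nat.lcm_self]
    · refine ⟨(x, y, w, 1), ?_⟩
      simp only [Prod.orderOf, orderOf_one, Nat.lcm_one_right, ← h]
      rw [← Nat.lcm_assoc (orderOf y) (orderOf y), Nat.lcm_self]
    · refine ⟨(x, y, z, 1), ?_⟩
      simp only [Prod.orderOf, orderOf_one, Nat.lcm_one_right, ← h]
      rw [Nat.lcm_comm (orderOf z) (orderOf y), ← Nat.lcm_assoc (orderOf y) (orderOf y), Nat.lcm_self]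
    · refine ⟨(x, y, z, 1), ?_⟩
      simp only [Prod.orderOf, orderOf_one, Nat.lcm_one_right, ← h, Nat.lcm_self]

/-- Let J be the first Janko group. Then there are finite groups of arbitrarily large order with exactly the same set of element orders as J × J × J × J. -/
theorem result (N : ℕ) : ∃ (H : Type) (_ : Group H) (_ : Fintype H), N < Fintype.card H ∧
      Set.range (orderOf : H → ℕ) = Set.range (orderOf : ↥Cfsg.Spor.J1 × ↥Cfsg.Spor.J1 × ↥Cfsg.Spor.J1 × ↥Cfsg.Spor.J1 → ℕ) := by
  have : Finite (genDih (N + 1)) := Finite.of_equiv _ SemidirectProduct.equivProd.symm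
  letI : Fintype (bigGroup (N + 1)) := Fintype.ofFinite _
  refine ⟨bigGroup (N + 1), inferInstance, this, ?_, range_bigGroup (Nat.succ_pos N)⟩
  rw [← Nat.card_eq_fintype_card, Nat.card_prod, Nat.card_prod, Nat.card_prod, Nat.card_prod,
    SemidirectProduct.card]
  have h1 : N < Nat.card (Multiplicative (Fin (N + 1) → ZMod 3)) := by
    rw [Nat.card_congr Multiplicative.toAdd, Nat.card_fun, Nat.card_zmod, Nat.card_fin]
    calc N < N + 1 := N.lt_succ_self
      _ < 3 ^ (N + 1) := Nat.lt_pow_self (by norm_num)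
  refine h1.trans_le (le_trans ?_ (Nat.le_mul_of_pos_left _ Nat.card_pos))
  refine le_trans ?_ (Nat.le_mul_of_pos_left _ Nat.card_pos)
  refine le_trans ?_ (Nat.le_mul_of_pos_left _ Nat.card_pos)
  exact le_trans (Nat.le_mul_of_pos_right _ Nat.card_pos) (Nat.le_mul_of_pos_right _ Nat.card_pos)

end Cfsg.Agent.S3627
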