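import Cfsg.Statements.S3639
import Mathlib
import Cfsg.Agent.Lib.PrimeGraph.FpfExtension
import Cfsg.Agent.Lib.SzNatural.FixedVector
-- import your own Cfsg.Agent.* helpers here

set_option autoImplicit false
open Cfsg

namespace Cfsg.Agent.S3639

open Cfsg.Agent.Lib.PrimeGraph

/-- The antidiagonal permutation matrix. -/
def antiMat (F : Type*) [Field F] : Matrix (Fin 4) (Fin 4) F :=
  !![0, 0, 0, 1; 0, 0, 1, 0; 0, 1, 0, 0; 1, 0, 0, 0]

theorem antiMat_sq (F : Type*) [Field F] : antiMat F * antiMat F = 1 := by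
  ext i j
  fin_cases i <;> fin_cases j <;> simp [antiMat, Matrix.mul_apply, Fin.sum_univ_four]

/-- The antidiagonal involution. -/
def antiUnit (F : Type*) [Field F] : GL (Fin 4) F :=
  ⟨antiMat F, antiMat F, antiMat_sq F, antiMat_sq F⟩

theorem antiUnit_mem {F : Type*} [Field F] [CharP F 2] (n : ℕ) : antiUnit F ∈ Cfsg.Lie.Sz F (2 ^ n) := by
  refine Subgroup.subset_closure ⟨?_, ?_⟩
  · intro u v
    simp [antiUnit, antiMat, Cfsg.Lie.altForm4, Matrix.mulVec, dotProduct, Fin.sum_univ_four]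
    ring
  · ext p r
    fin_cases p <;> fin_cases r <;>
      simp [antiUnit, antiMat, Cfsg.Lie.star4, Cfsg.Lie.pairOf, CharTwo.neg_eq]

theorem two_dvd_card {F : Type*} [Field F] [Finite F] [CharP F 2] (n : ℕ) :
    2 ∣ Nat.card ↥(Cfsg.Lie.Sz F (2 ^ n)) := by
  haveI : Fact (Nat.Prime 2) := ⟨Nat.prime_two⟩
  have h : orderOf (⟨antiUnit F, antiUnit_mem n⟩ : ↥(Cfsg.Lie.Sz F (2 ^ n))) = 2 := by
    rw [Subgroup.orderOf_mk]
    refine orderOf_eq_prime (Units.ext (by rw [pow_two]; exact antiMat_sq F)) fun h => ?_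
    have := Matrix.ext_iff.2 (congrArg Units.val h) 0 0
    simp [antiUnit, antiMat] at this
  calc 2 = _ := h.symm
    _ ∣ _ := orderOf_dvd_natCard _


/-- Let S be the Suzuki group over the field with q = 2^(2m+1) ≥ 8 elements. Then there are finite groups of arbitrarily large order with the same prime graph as S. -/
theorem result {F : Type*} [Field F] [Fintype F] {m : ℕ} (hm : 1 ≤ m) (hF : Fintype.card F = 2 ^ (2 * m + 1)) (N : ℕ) :
    ∃ (H : Type) (_ : Group H) (_ : Fintype H), N < Fintype.card H ∧ ((∀ r : ℕ, r.Prime → (r ∣ Nat.card ↥(Cfsg.Lie.Sz F (2 ^ (m + 1))) ↔ r ∣ Nat.card H)) ∧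
      (∀ r s : ℕ, r.Prime → s.Prime → r ≠ s → ((∃ x : ↥(Cfsg.Lie.Sz F (2 ^ (m + 1))), orderOf x = r * s) ↔ (∃ y : H, orderOf y = r * s)))) := by
  classical
  haveI : Fact (Nat.Prime 2) := ⟨Nat.prime_two⟩
  haveI : CharP F 2 := charP_of_card_eq_prime_pow (f := 2 * m + 1) hF
  obtain ⟨H, iH, fH, hlt, hsame⟩ := exists_large
    (S := ↥(Cfsg.Lie.Sz F (2 ^ (m + 1)))) (ι := Fin 4) (F := F)
    (Cfsg.Lie.Sz F (2 ^ (m + 1))).subtype 2 (two_dvd_card (m + 1))
    (fun g v hv h => ⟨2, Subtype.ext (Lib.SzNatural.pow_four_of_fixed (m + 1) g.2 hv h)⟩) N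
  exact ⟨H, iH, fH, hlt, hsame⟩

end Cfsg.Agent.S3639
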