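import Cfsg.Statements.S3641
import Mathlib
import Cfsg.Agent.S0732
import Cfsg.Agent.Lib.Perm.ProjCongr

set_option autoImplicit false
open Cfsg

namespace Cfsg.Agent.S3641

open MulAction

section PermSide

/-- The order of a freely acting group divides the number of points. -/
theorem card_dvd_of_free_action {H : Type*} [Group H] {X : Type*} [MulAction H X] [Finite H]
    [Finite X] (h : ∀ (g : H) (x : X), g • x = x → g = 1) : Nat.card H ∣ Nat.card X := by
  classical
  have : Fintype (orbitRel.Quotient H X) := Fintype.ofFinite _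
  rw [Nat.card_congr (selfEquivSigmaOrbitsQuotientStabilizer H X), Nat.card_sigma]
  refine Finset.dvd_sum fun w _ => ?_
  have hs : stabilizer H w.out = ⊥ := by
    rw [Subgroup.eq_bot_iff_forall]
    exact fun g hg => h g _ (mem_stabilizer_iff.mp hg)
  rw [← Subgroup.index, hs, Subgroup.index_bot]

variable {H : Type*} [Group H] [Finite H] {α : Type*} [MulAction H α]

/-- In every point stabiliser there is a normal subgroup of order seventeen. -/
def HasSeventeen (H : Type*) [Group H] (α : Type*) [MulAction H α] : Prop :=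
  ∀ a : α, ∃ U : Subgroup H, Nat.card U = 17 ∧ (∀ u ∈ U, u • a = a) ∧
    (∀ h : H, h • a = a → ∀ u ∈ U, h * u * h⁻¹ ∈ U)

theorem seventeen_orbit [Finite α] [FaithfulSMul H α] (h18 : Nat.card α = 18) {a : α}
    {U : Subgroup H} (hU : Nat.card U = 17) (hUa : ∀ u ∈ U, u • a = a) (b : α) (hb : b ≠ a) :
    (∀ u ∈ U, u • b = b → u = 1) ∧ (∀ c : α, c ≠ a → ∃ u ∈ U, u • b = c) := by
  classical
  have : Fact (Nat.card U).Prime := ⟨by rw [hU]; norm_num⟩
  have free : ∀ x : α, ¬ (∀ u ∈ U, u • x = x) →
      stabilizer U x = ⊥ ∧ (orbit U x).ncard = 17 := by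
    intro x hx
    have hs : stabilizer U x = ⊥ := by
      rcases (stabilizer U x).eq_bot_or_eq_top_of_prime_card with h | h
      · exact h
      · refine absurd (fun u hu => ?_) hx
        have : (⟨u, hu⟩ : U) ∈ stabilizer U x := h ▸ Subgroup.mem_top _
        exact this
    refine ⟨hs, ?_⟩
    rw [← index_stabilizer, hs, Subgroup.index_bot, hU]
  have hbfree : ¬ (∀ u ∈ U, u • b = b) := by
    intro hfix
    have hne : ∃ u ∈ U, u ≠ (1 : H) := by
      by_contra hc
      push Not at hc
      have : U = ⊥ := (Subgroup.eq_bot_iff_forall U).mpr hc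
      rw [this, Subgroup.card_bot] at hU
      omega
    obtain ⟨u, hu, hu1⟩ := hne
    obtain ⟨c, hc⟩ : ∃ c : α, u • c ≠ c := by
      by_contra hc
      push Not at hc
      exact hu1 (eq_of_smul_eq_smul (α := α) fun x => by rw [hc x, one_smul])
    obtain ⟨-, hcard⟩ := free c (fun h => hc (h u hu))
    have hcO : ∀ x : α, (∀ u ∈ U, u • x = x) → x ∉ orbit U c := by
      intro x hx hxo
      obtain ⟨v, hv⟩ := hxo
      apply hc
      have hv' : (v : H) • c = x := hv
      have h1 : c = x := by
        rw [← inv_smul_smul (v : H) c, hv', hx _ (inv_mem v.2)]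
      rw [h1, hx u hu]
    have hsub : ({a, b} : Set α) ∪ orbit U c ⊆ Set.univ := Set.subset_univ _
    have hdis : Disjoint ({a, b} : Set α) (orbit U c) := by
      rw [Set.disjoint_left]
      rintro x (rfl | rfl)
      · exact hcO _ hUa
      · exact hcO _ hfix
    have h1 := Set.ncard_le_ncard hsub
    rw [Set.ncard_union_eq hdis, Set.ncard_pair hb.symm, hcard, Set.ncard_univ, h18] at h1
    omega
  obtain ⟨hstab, hcard⟩ := free b hbfree
  refine ⟨fun u hu hub => ?_, fun c hc => ?_⟩
  · have h : (⟨u, hu⟩ : U) ∈ stabilizer U b := hub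
    rw [hstab, Subgroup.mem_bot] at h
    exact congrArg Subtype.val h
  · have hsub : orbit U b ⊆ ({a}ᶜ : Set α) := by
      rintro x ⟨v, rfl⟩ (hx : v • b = a)
      have hx' : (v : H) • b = a := hx
      exact hb (smul_left_cancel (v : H) (hx'.trans (hUa _ v.2).symm))
    have heq : orbit U b = ({a}ᶜ : Set α) := by
      refine Set.eq_of_subset_of_ncard_le hsub ?_
      rw [hcard, Set.ncard_compl, Set.ncard_singleton, h18]
    obtain ⟨v, hv⟩ : c ∈ orbit U b := by rw [heq]; exact hc
    exact ⟨v, v.2, hv⟩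

variable [Finite α] [FaithfulSMul H α] (h18 : Nat.card α = 18) (hHS : HasSeventeen H α)
include h18 hHS

theorem three_point {h : H} {a b c : α} (hab : b ≠ a) (hca : c ≠ a) (hcb : c ≠ b)
    (ha : h • a = a) (hb : h • b = b) (hc : h • c = c) : h = 1 := by
  obtain ⟨U, hU, hUa, hnorm⟩ := hHS a
  obtain ⟨hfree, htrans⟩ := seventeen_orbit h18 hU hUa b hab
  obtain ⟨u, hu, huc⟩ := htrans c hca
  have hconj : h * u * h⁻¹ = u := by
    have h1 : (u⁻¹ * (h * u * h⁻¹)) • b = b := by
      have h2 : h⁻¹ • b = b := by rw [inv_smul_eq_iff, hb]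
      rw [mul_smul, mul_smul, mul_smul, h2, huc, hc, inv_smul_eq_iff, huc]
    have := hfree _ (mul_mem (inv_mem hu) (hnorm h ha u hu)) h1
    rwa [inv_mul_eq_one, eq_comm] at this
  have hu1 : u ≠ 1 := fun e => hcb (by rw [← huc, e, one_smul])
  have : Fact (Nat.Prime 17) := ⟨by norm_num⟩
  apply eq_of_smul_eq_smul (α := α)
  intro x
  rw [one_smul]
  by_cases hx : x = a
  · rw [hx, ha]
  · obtain ⟨v, hv, rfl⟩ := htrans x hx
    have hgen : (⟨v, hv⟩ : U) ∈ Subgroup.zpowers (⟨u, hu⟩ : U) :=
      mem_zpowers_of_prime_card hU (fun e => hu1 (congrArg Subtype.val e))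
    obtain ⟨k, hk⟩ := Subgroup.mem_zpowers_iff.mp hgen
    have hk' : u ^ k = v := by
      have := congrArg Subtype.val hk
      simpa using this
    have hcomm : Commute h (u ^ k) :=
      Commute.zpow_right (show h * u = u * h by rw [mul_inv_eq_iff_eq_mul] at hconj; exact hconj) k
    rw [hk'] at hcomm
    rw [smul_smul, hcomm.eq, mul_smul, hb]

variable [IsPretransitive H α]

theorem two_trans {a b a' b' : α} (hab : b ≠ a) (hab' : b' ≠ a') :
    ∃ h : H, h • a = a' ∧ h • b = b' := by
  obtain ⟨g, hg⟩ := exists_smul_eq H a a'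
  obtain ⟨U, hU, hUa, -⟩ := hHS a'
  have hgb : g • b ≠ a' := fun e => hab (smul_left_cancel g (e.trans hg.symm))
  obtain ⟨u, hu, hub⟩ := (seventeen_orbit h18 hU hUa (g • b) hgb).2 b' hab'
  exact ⟨u * g, by rw [mul_smul, hg, hUa u hu], by rw [mul_smul, hub]⟩

/-- The order: `18 * 17` times that of a two point stabiliser, which divides sixteen. -/
theorem order_data {a b : α} (hab : b ≠ a) :
    Nat.card H = 18 * 17 * Nat.card (stabilizer (stabilizer H a) b) ∧
      Nat.card (stabilizer (stabilizer H a) b) ∣ 16 := by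
  obtain ⟨U, hU, hUa, -⟩ := hHS a
  have horb : orbit (stabilizer H a) b = ({a}ᶜ : Set α) := by
    refine Set.Subset.antisymm ?_ ?_
    · rintro x ⟨v, rfl⟩ (hx : v • b = a)
      have hx' : (v : H) • b = a := hx
      have hv : (v : H) • a = a := v.2
      exact hab (smul_left_cancel (v : H) (hx'.trans hv.symm))
    · intro x hx
      obtain ⟨u, hu, hub⟩ := (seventeen_orbit h18 hU hUa b hab).2 x hx
      exact ⟨⟨u, hUa u hu⟩, hub⟩
  refine ⟨?_, ?_⟩
  · have h1 := (stabilizer H a).index_mul_card
    have h2 := (stabilizer (stabilizer H a) b).index_mul_card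
    rw [index_stabilizer, horb, Set.ncard_compl, Set.ncard_singleton, h18] at h2
    rw [index_stabilizer_of_transitive, h18] at h1
    rw [← h1, ← h2]
    ring
  · let X : SubMulAction (stabilizer (stabilizer H a) b) α :=
      { carrier := {x | x ≠ a ∧ x ≠ b}
        smul_mem' := fun g x hx => by
          refine ⟨fun e => hx.1 ?_, fun e => hx.2 ?_⟩
          · exact smul_left_cancel ((g : stabilizer H a) : H)
              ((show ((g : stabilizer H a) : H) • x = a from e).trans
                (show ((g : stabilizer H a) : H) • a = a from g.1.2).symm)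
          · exact smul_left_cancel ((g : stabilizer H a) : H)
              ((show ((g : stabilizer H a) : H) • x = b from e).trans
                (show ((g : stabilizer H a) : H) • b = b from g.2).symm) }
    have hX : Nat.card X = 16 := by
      have e : (X : Set α) = ({a, b} : Set α)ᶜ := by
        ext x
        show (x ≠ a ∧ x ≠ b) ↔ x ∉ ({a, b} : Set α)
        simp
      calc Nat.card X = (X : Set α).ncard := Nat.card_coe_set_eq (X : Set α)
        _ = 16 := by rw [e, Set.ncard_compl, Set.ncard_pair hab.symm, h18]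
    rw [← hX]
    refine card_dvd_of_free_action fun g x hgx => ?_
    obtain ⟨⟨g, hga⟩, hgb⟩ := g
    have hgx' : g • (x : α) = x := congrArg Subtype.val hgx
    have := three_point h18 hHS hab x.2.1 x.2.2 hga hgb hgx'
    subst this
    rfl

theorem two_count {a b : α} (hab : b ≠ a)
    (hd : 3 ≤ Nat.card (stabilizer (stabilizer H a) b)) : Nat.card (Sylow 2 H) = 153 := by
  classical
  have : Fact (Nat.Prime 2) := ⟨Nat.prime_two⟩
  obtain ⟨hcard, hd16⟩ := order_data h18 hHS hab
  let S : Subgroup H :=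
    { carrier := {h | (h • a = a ∧ h • b = b) ∨ (h • a = b ∧ h • b = a)}
      one_mem' := Or.inl ⟨one_smul H a, one_smul H b⟩
      mul_mem' := by
        rintro x y (⟨h1, h2⟩ | ⟨h1, h2⟩) (⟨h3, h4⟩ | ⟨h3, h4⟩) <;>
          simp [mul_smul, h1, h2, h3, h4]
      inv_mem' := by
        rintro x (⟨h1, h2⟩ | ⟨h1, h2⟩)
        · exact Or.inl ⟨by rw [inv_smul_eq_iff, h1], by rw [inv_smul_eq_iff, h2]⟩
        · exact Or.inr ⟨by rw [inv_smul_eq_iff, h2], by rw [inv_smul_eq_iff, h1]⟩ }
  have hS : ∀ h : H, h ∈ S ↔ ((h • a = a ∧ h • b = b) ∨ (h • a = b ∧ h • b = a)) := fun _ => Iff.rfl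
  obtain ⟨s, hsa, hsb⟩ := two_trans h18 hHS hab hab.symm
  have horb : orbit S a = ({a, b} : Set α) := by
    refine Set.Subset.antisymm ?_ ?_
    · rintro x ⟨⟨v, hv⟩, rfl⟩
      rcases (hS v).mp hv with ⟨h1, -⟩ | ⟨h1, -⟩
      · exact Or.inl h1
      · exact Or.inr h1
    · rintro x (rfl | rfl)
      · exact ⟨1, one_smul _ _⟩
      · exact ⟨⟨s, (hS s).mpr (Or.inr ⟨hsa, hsb⟩)⟩, hsa⟩
  have hScard : Nat.card S = 2 * Nat.card (stabilizer (stabilizer H a) b) := by
    have h1 := (stabilizer S a).index_mul_card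
    rw [index_stabilizer, horb, Set.ncard_pair hab.symm] at h1
    rw [← h1]
    congr 1
    refine Nat.card_congr
      { toFun := fun g => ⟨⟨g.1.1, g.2⟩, by
          rcases (hS g.1.1).mp g.1.2 with ⟨-, h2⟩ | ⟨h2, -⟩
          · exact h2
          · exact absurd (h2.symm.trans g.2) hab⟩
        invFun := fun g => ⟨⟨g.1.1, (hS g.1.1).mpr (Or.inl ⟨g.1.2, g.2⟩)⟩, g.1.2⟩
        left_inv := fun g => rfl
        right_inv := fun g => rfl }
  obtain ⟨k, -, hk⟩ := (Nat.dvd_prime_pow Nat.prime_two (m := 4)).mp (show _ ∣ 2 ^ 4 from hd16)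
  have hindex : S.index = 153 := by
    have h1 := S.index_mul_card
    rw [hScard, hcard] at h1
    have : 0 < Nat.card (stabilizer (stabilizer H a) b) := by omega
    nlinarith [h1]
  have hp : IsPGroup 2 S := IsPGroup.of_card (n := k + 1) (by rw [hScard, hk]; ring)
  let P : Sylow 2 H := hp.toSylow (by rw [hindex]; norm_num)
  have hN : Subgroup.normalizer (S : Set H) = S := by
    refine le_antisymm (fun n hn => ?_) Subgroup.le_normalizer
    rw [Subgroup.mem_normalizer_iff] at hn
    have key : ∀ c : α, (c = a ∨ c = b) → n • c = a ∨ n • c = b := by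
      intro c hc
      by_contra hcon
      push Not at hcon
      let f : stabilizer (stabilizer H a) b → ({n • a, n • b} : Set α) := fun g =>
        ⟨(g.1 : H) • n • c, by
          have hg : n⁻¹ * (g.1 : H) * n ∈ S := by
            refine (hn _).mpr ?_
            rw [show n * (n⁻¹ * (g.1 : H) * n) * n⁻¹ = (g.1 : H) by group]
            exact (hS _).mpr (Or.inl ⟨g.1.2, g.2⟩)
          have h1 : (g.1 : H) • n • c = n • ((n⁻¹ * (g.1 : H) * n) • c) := by
            simp only [smul_smul]; congr 1; group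
          rw [h1]
          rcases (hS _).mp hg with ⟨h2, h3⟩ | ⟨h2, h3⟩ <;> rcases hc with rfl | rfl <;>
            simp [h2, h3]⟩
      have hinj : Function.Injective f := by
        intro g1 g2 h12
        have h' : (g1.1 : H) • n • c = (g2.1 : H) • n • c := congrArg Subtype.val h12
        have hg : ∀ (x : α), (g1.1 : H) • x = x → (g2.1 : H) • x = x →
            ((g2.1 : H)⁻¹ * (g1.1 : H)) • x = x := fun x h1 h2 => by
          rw [mul_smul, h1, inv_smul_eq_iff, h2]
        have h3 : ((g2.1 : H)⁻¹ * (g1.1 : H)) • (n • c) = n • c := by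
          rw [mul_smul, h', inv_smul_smul]
        have := three_point h18 hHS hab hcon.1 hcon.2 (hg a g1.1.2 g2.1.2) (hg b g1.2 g2.2) h3
        rw [inv_mul_eq_one] at this
        exact Subtype.ext (Subtype.ext this.symm)
      have hle := Nat.card_le_card_of_injective f hinj
      rw [Nat.card_coe_set_eq, Set.ncard_pair (fun e => hab (smul_left_cancel n e).symm)] at hle
      omega
    rw [hS]
    rcases key a (Or.inl rfl) with h1 | h1 <;> rcases key b (Or.inr rfl) with h2 | h2
    · exact absurd (smul_left_cancel n (h2.trans h1.symm)) hab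
    · exact Or.inl ⟨h1, h2⟩
    · exact Or.inr ⟨h1, h2⟩
    · exact absurd (smul_left_cancel n (h2.trans h1.symm)) hab
  rw [P.card_eq_index_normalizer]
  show (Subgroup.normalizer (S : Set H)).index = 153
  rw [hN, hindex]

theorem three_count {a b : α} (hab : b ≠ a) : Nat.card (Sylow 3 H) = 136 := by
  classical
  have : Fact (Nat.Prime 3) := ⟨Nat.prime_three⟩
  obtain ⟨hcard, hd16⟩ := order_data h18 hHS hab
  obtain ⟨k, hk4, hk⟩ := (Nat.dvd_prime_pow Nat.prime_two (m := 4)).mp (show _ ∣ 2 ^ 4 from hd16)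
  rw [hk] at hcard
  obtain ⟨P⟩ : Nonempty (Sylow 3 H) := inferInstance
  have hval : ((Nat.card H).factorization 3) = 2 := by
    rw [hcard, show 18 * 17 * 2 ^ k = 3 ^ 2 * (34 * 2 ^ k) by ring,
      Nat.factorization_mul (by norm_num) (by positivity), Finsupp.add_apply,
      Nat.factorization_pow, Nat.prime_three.factorization,
      Nat.factorization_eq_zero_of_not_dvd]
    · simp
    · intro h
      rcases Nat.prime_three.dvd_mul.mp h with h | h
      · omega
      · have := Nat.prime_three.dvd_of_dvd_pow h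
        omega
  have hsylcard : ∀ Q : Sylow 3 H, Nat.card Q = 9 := fun Q => by
    rw [Q.card_eq_multiplicity, hval]
    norm_num
  have hstab : ∀ c : α, Nat.card (stabilizer H c) = 17 * 2 ^ k := fun c => by
    have h1 := (stabilizer H c).index_mul_card
    rw [index_stabilizer_of_transitive, h18, hcard] at h1
    omega
  -- three-elements have no fixed points
  have nofix : ∀ x : H, x ≠ 1 → x ^ 9 = 1 → ∀ c : α, x • c ≠ c := by
    intro x hx1 hx9 c hc
    apply hx1
    rw [← orderOf_eq_one_iff]
    have h1 : orderOf x ∣ 9 := orderOf_dvd_of_pow_eq_one hx9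
    have h2 : orderOf x ∣ 17 * 2 ^ k := by
      rw [← hstab c]
      exact Subgroup.orderOf_dvd_natCard _ hc
    have h3 := Nat.dvd_gcd h1 h2
    have hco : Nat.Coprime 9 (17 * 2 ^ k) :=
      Nat.Coprime.mul_right (by norm_num) (Nat.Coprime.pow_right _ (by norm_num))
    rw [hco.gcd_eq_one] at h3
    exact Nat.dvd_one.mp h3
  have pow9 : ∀ (Q : Sylow 3 H) (x : H), x ∈ Q → x ^ 9 = 1 := fun Q x hx => by
    have h : (⟨x, hx⟩ : Q) ^ Nat.card Q = 1 := pow_card_eq_one'
    rw [hsylcard] at h
    simpa using congrArg Subtype.val h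
  -- centralisers of three-elements act freely
  have cent : ∀ x : H, x ≠ 1 → x ^ 9 = 1 →
      Nat.card (Subgroup.centralizer ({x} : Set H)) ∣ 18 := by
    intro x hx1 hx9
    rw [← h18]
    refine card_dvd_of_free_action fun g c hgc => ?_
    obtain ⟨g, hg⟩ := g
    have hgc' : g • c = c := hgc
    rw [Subgroup.mem_centralizer_singleton_iff] at hg
    have hcomm : Commute g x := hg
    have e1 : g • (x • c) = x • c := by rw [smul_smul, hcomm.eq, mul_smul, hgc']
    have e2 : g • ((x * x) • c) = (x * x) • c := by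
      rw [smul_smul, (hcomm.mul_right hcomm).eq, mul_smul, hgc']
    have hxx : x * x ≠ 1 := by
      intro h
      apply hx1
      calc x = x ^ 9 * x⁻¹ ^ 8 := by group
        _ = x⁻¹ ^ 8 := by rw [hx9, one_mul]
        _ = ((x * x)⁻¹) ^ 4 := by group
        _ = 1 := by rw [h]; group
    have n1 := nofix x hx1 hx9 c
    have n2 := nofix (x * x) hxx (by rw [← pow_two, ← pow_mul, mul_comm, pow_mul, hx9, one_pow]) c
    have n3 : (x * x) • c ≠ x • c := fun e => n1 (smul_left_cancel x (by rwa [smul_smul]))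
    have := three_point h18 hHS n1 n2 n3 hgc' e1 e2
    subst this
    rfl
  have habel : ∀ (Q : Sylow 3 H) (x y : H), x ∈ Q → y ∈ Q → x * y = y * x := by
    intro Q x y hx hy
    have h9 : Nat.card Q = 3 ^ 2 := by rw [hsylcard]; norm_num
    exact congrArg Subtype.val
      ((IsPGroup.commutative_of_card_eq_prime_sq h9) ⟨x, hx⟩ ⟨y, hy⟩)
  let X : SubMulAction P (Sylow 3 H) :=
    { carrier := {Q | Q ≠ P}
      smul_mem' := fun g Q hQ e => hQ (by
        have h1 : (g : H) • P = P :=
          Sylow.smul_eq_iff_mem_normalizer.mpr (Subgroup.le_normalizer g.2)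
        exact smul_left_cancel (g : H) ((show (g : H) • Q = P from e).trans h1.symm)) }
  have hX : Nat.card X + 1 = Nat.card (Sylow 3 H) := by
    have e : (X : Set (Sylow 3 H)) = ({P} : Set (Sylow 3 H))ᶜ := rfl
    have h1 : Nat.card X = (X : Set (Sylow 3 H)).ncard :=
      Nat.card_coe_set_eq (X : Set (Sylow 3 H))
    rw [h1, e]
    have h2 := Set.ncard_add_ncard_compl ({P} : Set (Sylow 3 H))
    rw [Set.ncard_singleton] at h2
    omega
  have hfree : Nat.card P ∣ Nat.card X := by
    refine card_dvd_of_free_action fun g Q hgQ => ?_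
    by_contra hg1
    obtain ⟨g, hgP⟩ := g
    have hg1' : g ≠ 1 := fun e => hg1 (Subtype.ext e)
    have hgQ' : g • (Q : Sylow 3 H) = Q := congrArg Subtype.val hgQ
    rw [Sylow.smul_eq_iff_mem_normalizer] at hgQ'
    have hgQ2 : g ∈ (Q : Sylow 3 H) := by
      have hz : IsPGroup 3 (Subgroup.zpowers g) := P.2.to_le (Subgroup.zpowers_le.mpr hgP)
      have h1 := hz.inf_normalizer_sylow (Q : Sylow 3 H)
      rw [inf_eq_left.mpr (Subgroup.zpowers_le.mpr hgQ')] at h1
      exact inf_eq_left.mp h1.symm (Subgroup.mem_zpowers g)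
    let C := Subgroup.centralizer ({g} : Set H)
    have hPC : (P : Subgroup H) ≤ C := fun y hy =>
      Subgroup.mem_centralizer_singleton_iff.mpr (habel P g y hgP hy).symm
    have hQC : ((Q : Sylow 3 H) : Subgroup H) ≤ C := fun y hy =>
      Subgroup.mem_centralizer_singleton_iff.mpr (habel _ g y hgQ2 hy).symm
    have hC : Nat.card C ∣ 18 := cent g hg1' (pow9 P g hgP)
    have hidx : ((P : Subgroup H).subgroupOf C).index ≤ 2 := by
      have h1 := ((P : Subgroup H).subgroupOf C).index_mul_card
      rw [Nat.card_congr (Subgroup.subgroupOfEquivOfLe hPC).toEquiv, hsylcard P] at h1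
      have := Nat.le_of_dvd (by norm_num) hC
      omega
    have hn : ((P.subtype hPC : Sylow 3 C) : Subgroup C).Normal := by
      rw [Sylow.coe_subtype]
      rcases Nat.lt_or_ge ((P : Subgroup H).subgroupOf C).index 2 with h | h
      · have : ((P : Subgroup H).subgroupOf C) = ⊤ := by
          rw [← Subgroup.index_eq_one]
          have := Subgroup.index_ne_zero_of_finite (H := (P : Subgroup H).subgroupOf C)
          omega
        rw [this]; infer_instance
      · exact Subgroup.normal_of_index_eq_two (by omega)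
    have := Sylow.unique_of_normal _ hn
    have heq : P.subtype hPC = (Q : Sylow 3 H).subtype hQC := Subsingleton.elim _ _
    exact Q.2 (Sylow.subtype_injective heq).symm
  rw [hsylcard P] at hfree
  have hdvd : Nat.card (Sylow 3 H) ∣ 544 := by
    have h1 := Sylow.card_dvd_index P
    have h2 := (P : Subgroup H).index_mul_card
    rw [hsylcard P, hcard] at h2
    have h3 : (P : Subgroup H).index = 34 * 2 ^ k := by omega
    rw [h3] at h1
    exact h1.trans (Dvd.dvd.trans (mul_dvd_mul_left 34 (Nat.pow_dvd_pow 2 hk4)) (by norm_num))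
  have hne1 : Nat.card (Sylow 3 H) ≠ 1 := by
    intro h1
    have hsub : Subsingleton (Sylow 3 H) := (Nat.card_eq_one_iff_unique.mp h1).1
    have hPn : (P : Subgroup H).Normal := P.normal_of_subsingleton
    obtain ⟨U, hU, hUa, -⟩ := hHS a
    obtain ⟨x, hxP, hx1⟩ : ∃ x ∈ (P : Subgroup H), x ≠ 1 := by
      by_contra hc
      push Not at hc
      have h2 : (P : Subgroup H) = ⊥ := (Subgroup.eq_bot_iff_forall _).mpr hc
      have h3 : Nat.card (P : Subgroup H) = 9 := hsylcard P
      rw [h2, Subgroup.card_bot] at h3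
      omega
    have hxa := nofix x hx1 (pow9 P x hxP) a
    obtain ⟨c, hca, hcx⟩ : ∃ c : α, c ≠ a ∧ c ≠ x • a := by
      by_contra hc
      push Not at hc
      have : Set.univ ⊆ ({a, x • a} : Set α) := fun c _ => by
        rcases Classical.em (c = a) with h | h
        · exact Or.inl h
        · exact Or.inr (hc c h)
      have h8 := Set.ncard_le_ncard this
      rw [Set.ncard_univ, h18, Set.ncard_pair hxa.symm] at h8
      omega
    obtain ⟨u, hu, hux⟩ := (seventeen_orbit h18 hU hUa (x • a) hxa).2 c hca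
    have hcomm : u * x = x * u := by
      have h2 : orderOf (MulAut.toPerm (P : Subgroup H) (MulAut.conjNormal u)) ∣ 17 := by
        refine (orderOf_map_dvd _ _).trans ((orderOf_map_dvd _ _).trans ?_)
        rw [← hU]
        exact Subgroup.orderOf_dvd_natCard U hu
      have h3 : orderOf (MulAut.toPerm (P : Subgroup H) (MulAut.conjNormal u)) ∣ Nat.factorial 9 := by
        have h4 := orderOf_dvd_natCard (MulAut.toPerm (P : Subgroup H) (MulAut.conjNormal u))
        rwa [Nat.card_perm, hsylcard P] at h4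
      have h4 := Nat.dvd_gcd h2 h3
      rw [show Nat.gcd 17 (Nat.factorial 9) = 1 by decide] at h4
      have h5 := orderOf_eq_one_iff.mp (Nat.dvd_one.mp h4)
      have h6 := congrArg (fun e : Equiv.Perm (P : Subgroup H) => ((e ⟨x, hxP⟩ : (P : Subgroup H)) : H)) h5
      have h7 : u * x * u⁻¹ = x := h6
      rwa [mul_inv_eq_iff_eq_mul] at h7
    apply hcx
    rw [← hux, smul_smul, hcomm, mul_smul, hUa u hu]
  obtain ⟨m, hm⟩ := hfree
  obtain ⟨x, y, hx, hy, hxy⟩ := Nat.dvd_mul.mp (show Nat.card (Sylow 3 H) ∣ 17 * 32 from hdvd)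
  obtain ⟨i, hi, rfl⟩ := (Nat.dvd_prime_pow Nat.prime_two (m := 5)).mp (show y ∣ 2 ^ 5 from hy)
  have h17 : Nat.Prime 17 := by norm_num
  rcases (Nat.dvd_prime h17).mp hx with rfl | rfl <;> interval_cases i <;> omega

end PermSide

section GroupSide

variable {G : Type*} [Group G] [Finite G]

theorem mem_of_normalizes {p : ℕ} [Fact p.Prime] (P : Sylow p G) {x : G}
    (hxp : ∃ k : ℕ, orderOf x = p ^ k) (hx : x ∈ Subgroup.normalizer (P : Set G)) :
    x ∈ P := by
  obtain ⟨k, hk⟩ := hxp
  have hz : IsPGroup p (Subgroup.zpowers x) := IsPGroup.of_card (n := k) (by rw [Nat.card_zpowers, hk])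
  have h1 := hz.inf_normalizer_sylow P
  rw [inf_eq_left.mpr (Subgroup.zpowers_le.mpr hx)] at h1
  exact inf_eq_left.mp h1.symm (Subgroup.mem_zpowers x)

theorem eq_of_normalizes {p : ℕ} [Fact p.Prime] (P Q : Sylow p G)
    (h : (P : Subgroup G) ≤ Subgroup.normalizer (Q : Set G)) : P = Q := by
  have h1 := P.2.inf_normalizer_sylow Q
  rw [inf_eq_left.mpr h] at h1
  exact Sylow.ext (P.is_maximal' Q.2 (inf_eq_left.mp h1.symm)).symm

theorem ker_normalizes {p : ℕ} [Fact p.Prime] {H : Type*} [Group H] (f : G →* H)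
    (hf : Function.Surjective f) (hle : Nat.card (Sylow p G) ≤ Nat.card (Sylow p H))
    (P : Sylow p G) {k : G} (hk : k ∈ f.ker) :
    k ∈ Subgroup.normalizer (P : Set G) := by
  have : Finite H := Finite.of_surjective f hf
  have hbij := (Sylow.mapSurjective_surjective hf p).bijective_of_nat_card_le hle
  rw [← Sylow.smul_eq_iff_mem_normalizer]
  apply hbij.1
  apply Sylow.ext
  rw [Sylow.coe_mapSurjective, Sylow.coe_mapSurjective]
  rw [MonoidHom.mem_ker] at hk
  ext y
  rw [Subgroup.mem_map, Subgroup.mem_map]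
  constructor
  · rintro ⟨z, hz, rfl⟩
    rw [Sylow.coe_subgroup_smul, Subgroup.mem_pointwise_smul_iff_inv_smul_mem] at hz
    refine ⟨_, hz, ?_⟩
    simp [MulAut.smul_def, hk]
  · rintro ⟨z, hz, rfl⟩
    refine ⟨k * z * k⁻¹, ?_, by simp [hk]⟩
    rw [Sylow.coe_subgroup_smul, Subgroup.mem_pointwise_smul_iff_inv_smul_mem]
    simpa [MulAut.smul_def, mul_assoc] using hz

theorem commute_of_coprime_normalizing {A B : Subgroup G}
    (hco : (Nat.card A).Coprime (Nat.card B)) {a b : G} (ha : a ∈ A) (hb : b ∈ B)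
    (hA : b * a⁻¹ * b⁻¹ ∈ A) (hB : a * b * a⁻¹ ∈ B) : a * b = b * a := by
  have h1 : a * b * a⁻¹ * b⁻¹ ∈ A ⊓ B := by
    refine ⟨?_, show a * b * a⁻¹ * b⁻¹ ∈ B from mul_mem hB (inv_mem hb)⟩
    show a * b * a⁻¹ * b⁻¹ ∈ A
    simpa [mul_assoc] using mul_mem ha hA
  rw [Subgroup.inf_eq_bot_of_coprime hco, Subgroup.mem_bot, mul_inv_eq_one, mul_inv_eq_iff_eq_mul] at h1
  exact h1

end GroupSide

/-- Let G be a finite group with trivial centre whose set of Sylow numbers (numbers of Sylow r-subgroups, r over the prime divisors of its order) is exactly {18, 136, 153}. Then G is isomorphic to PSL(2, 17) or to PGL(2, 17). -/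
theorem result {G : Type*} [Group G] [Finite G] (hZ : Subgroup.center G = ⊥) (hNS : {c : ℕ | ∃ r : ℕ, r.Prime ∧ r ∣ Nat.card G ∧ c = Nat.card (Sylow r G)} = ({18, 136, 153} : Set ℕ))
    {F : Type*} [Field F] [Fintype F] (hF : Fintype.card F = 17) :
    Nonempty (G ≃* Matrix.ProjectiveSpecialLinearGroup (Fin 2) F) ∨ Nonempty (G ≃* (GL (Fin 2) F ⧸ Subgroup.center (GL (Fin 2) F))) := by
  classical
  have hN : ∀ r : ℕ, r.Prime → r ∣ Nat.card G →
      Nat.card (Sylow r G) = 18 ∨ Nat.card (Sylow r G) = 136 ∨ Nat.card (Sylow r G) = 153 := by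
    intro r hr hdvd
    have h : Nat.card (Sylow r G) ∈ ({18, 136, 153} : Set ℕ) := hNS ▸ ⟨r, hr, hdvd, rfl⟩
    simpa using h
  have hmod : ∀ r : ℕ, r.Prime → Nat.card (Sylow r G) % r = 1 := by
    intro r hr
    have : Fact r.Prime := ⟨hr⟩
    have h : Nat.card (Sylow r G) % r = 1 % r := card_sylow_modEq_one r G
    rwa [Nat.mod_eq_of_lt hr.one_lt] at h
  have : Fact (Nat.Prime 17) := ⟨by norm_num⟩
  have : Fact (Nat.Prime 2) := ⟨Nat.prime_two⟩
  have : Fact (Nat.Prime 3) := ⟨Nat.prime_three⟩
  have h17 : 17 ∣ Nat.card G ∧ Nat.card (Sylow 17 G) = 18 := by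
    have h18 : (18 : ℕ) ∈ {c : ℕ | ∃ r : ℕ, r.Prime ∧ r ∣ Nat.card G ∧ c = Nat.card (Sylow r G)} := by
      rw [hNS]; simp
    obtain ⟨r, hr, hdvd, hc⟩ := h18
    have h1 := hmod r hr
    rw [← hc] at h1
    have h2 : r ∣ 17 := by
      have h3 := Nat.sub_mod_eq_zero_of_mod_eq (h1.trans (Nat.mod_eq_of_lt hr.one_lt).symm)
      exact Nat.dvd_of_mod_eq_zero h3
    obtain rfl := (Nat.prime_dvd_prime_iff_eq hr (by norm_num)).mp h2
    exact ⟨hdvd, hc.symm⟩
  obtain ⟨h17dvd, hn17⟩ := h17
  have h18G : 18 ∣ Nat.card G := by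
    rw [← hn17, (default : Sylow 17 G).card_eq_index_normalizer]
    exact Subgroup.index_dvd_card _
  have hn2 : Nat.card (Sylow 2 G) = 153 := by
    have h1 := hmod 2 Nat.prime_two
    rcases hN 2 Nat.prime_two (Nat.dvd_trans (by norm_num) h18G) with h | h | h <;>
      simp_all
  have hn3 : Nat.card (Sylow 3 G) = 136 := by
    have h1 := hmod 3 Nat.prime_three
    rcases hN 3 Nat.prime_three (Nat.dvd_trans (by norm_num) h18G) with h | h | h <;>
      simp_all
  -- the action on the eighteen points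
  let α := Sylow 17 G
  have : Fintype α := Fintype.ofFinite _
  let H : Subgroup (Equiv.Perm α) := (MulAction.toPermHom G α).range
  let f : G →* H := (MulAction.toPermHom G α).rangeRestrict
  have hf : Function.Surjective f := MonoidHom.rangeRestrict_surjective _
  have hact : ∀ (g : G) (P : α), (f g) • P = g • P := fun g P => rfl
  have htr : IsPretransitive H α := ⟨fun P Q => by
    obtain ⟨g, hg⟩ := exists_smul_eq G P Q
    exact ⟨f g, by rw [hact, hg]⟩⟩
  have h18 : Nat.card α = 18 := hn17
  have hPne : ∀ P : α, (P : Subgroup G).map f ≠ ⊥ := by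
    intro P h
    have hfix : ∀ Q : α, P = Q := fun Q => eq_of_normalizes P Q (fun x hx => by
      have h1 : f x = 1 := by
        rw [← Subgroup.mem_bot, ← h]
        exact Subgroup.mem_map_of_mem f hx
      rw [← Sylow.smul_eq_iff_mem_normalizer, ← hact, h1, one_smul])
    have : Subsingleton α := ⟨fun A B => (hfix A).symm.trans (hfix B)⟩
    have := Nat.card_of_subsingleton P
    omega
  have hHS : HasSeventeen H α := by
    intro P
    refine ⟨(P : Subgroup G).map f, ?_, ?_, ?_⟩
    · have hp : IsPGroup 17 ((P : Subgroup G).map f) := P.2.map f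
      obtain ⟨n, hn⟩ := IsPGroup.iff_card.mp hp
      have h1 : Nat.card ((P : Subgroup G).map f) ∣ Nat.factorial 18 := by
        rw [← h18, ← Nat.card_perm]
        exact (Subgroup.card_subgroup_dvd_card _).trans (Subgroup.card_subgroup_dvd_card H)
      rw [hn] at h1
      rcases n with _ | _ | n
      · refine absurd ?_ (hPne P)
        rw [← Subgroup.card_eq_one, hn, pow_zero]
      · simpa using hn
      · exact absurd ((Nat.pow_dvd_pow 17 (show 2 ≤ n + 2 by omega)).trans h1) (by decide)
    · rintro u ⟨x, hx, rfl⟩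
      rw [hact, Sylow.smul_eq_iff_mem_normalizer]
      exact Subgroup.le_normalizer hx
    · intro h hh u hu
      obtain ⟨x, hx, rfl⟩ := hu
      obtain ⟨g, rfl⟩ := hf h
      rw [hact, Sylow.smul_eq_iff_mem_normalizer] at hh
      exact ⟨g * x * g⁻¹, ((Subgroup.mem_normalizer_iff (H := (P : Subgroup G))).mp hh x).mp hx,
        by simp⟩
  obtain ⟨a⟩ : Nonempty α := inferInstance
  obtain ⟨b, hab⟩ : ∃ b : α, b ≠ a := by
    by_contra hc
    push Not at hc
    have : Subsingleton α := ⟨fun A B => (hc A).trans (hc B).symm⟩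
    have := Nat.card_of_subsingleton a
    omega
  obtain ⟨hcardH, hd16⟩ := order_data h18 hHS hab
  have hdpos : 0 < Nat.card (stabilizer (stabilizer H a) b) := Nat.card_pos
  have hiso := Cfsg.Agent.S0732.result (α := α) (p := 17)
    (d := Nat.card (stabilizer (stabilizer H a) b)) (by norm_num)
    (by rw [← Nat.card_eq_fintype_card, h18]) H hcardH
    (lt_of_le_of_lt (Nat.le_of_dvd (by norm_num) hd16) (by norm_num))
  have hcase : (Nat.card (stabilizer (stabilizer H a) b) = 16 ∧
        Nonempty (H ≃* Matrix.ProjGenLinGroup (Fin 2) (ZMod 17))) ∨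
      (Nat.card (stabilizer (stabilizer H a) b) = 8 ∧
        Nonempty (H ≃* Matrix.ProjectiveSpecialLinearGroup (Fin 2) (ZMod 17))) := by
    rcases hiso with ⟨h1, h2⟩ | ⟨h1, h2⟩ | ⟨q, -, hq, -⟩
    · exact Or.inl ⟨h1, h2⟩
    · exact Or.inr ⟨by omega, h2⟩
    · exfalso
      have : q < 5 := by
        by_contra hc
        have := Nat.pow_le_pow_right (show 0 < 2 by norm_num) (not_lt.mp hc)
        omega
      interval_cases q <;> omega
  have hd3 : 3 ≤ Nat.card (stabilizer (stabilizer H a) b) := by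
    rcases hcase with ⟨h, -⟩ | ⟨h, -⟩ <;> omega
  have hH2 := two_count h18 hHS hab hd3
  have hH3 := three_count h18 hHS hab
  -- the kernel normalises the Sylow subgroups at 2, 3, 17
  have hK17 : ∀ (P : Sylow 17 G) (k : G), k ∈ f.ker →
      k ∈ Subgroup.normalizer (P : Set G) := by
    intro P k hk
    rw [← Sylow.smul_eq_iff_mem_normalizer, ← hact, MonoidHom.mem_ker.mp hk, one_smul]
  -- no further primes
  have hprimes : ∀ r : ℕ, r.Prime → r ∣ Nat.card G → r = 2 ∨ r = 3 ∨ r = 17 := by
    intro r hr hdvd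
    by_contra hcon
    push Not at hcon
    obtain ⟨hr2, hr3, hr17⟩ := hcon
    have : Fact r.Prime := ⟨hr⟩
    have hHco : ¬ r ∣ Nat.card H := by
      rw [hcardH]
      intro h
      obtain ⟨k, -, hk⟩ := (Nat.dvd_prime_pow Nat.prime_two (m := 4)).mp (show _ ∣ 2 ^ 4 from hd16)
      rw [hk, show 18 * 17 * 2 ^ k = 3 ^ 2 * (17 * 2 ^ (k + 1)) by ring] at h
      rcases hr.dvd_mul.mp h with h | h
      · exact hr3 ((Nat.prime_dvd_prime_iff_eq hr Nat.prime_three).mp (hr.dvd_of_dvd_pow h))
      rcases hr.dvd_mul.mp h with h | h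
      · exact hr17 ((Nat.prime_dvd_prime_iff_eq hr (by norm_num)).mp h)
      · exact hr2 ((Nat.prime_dvd_prime_iff_eq hr Nat.prime_two).mp (hr.dvd_of_dvd_pow h))
    obtain ⟨P⟩ : Nonempty (Sylow r G) := inferInstance
    have hPK : (P : Subgroup G) ≤ f.ker := by
      intro x hx
      rw [MonoidHom.mem_ker]
      obtain ⟨n, hn⟩ := IsPGroup.iff_orderOf.mp P.2 ⟨x, hx⟩
      rw [Subgroup.orderOf_mk] at hn
      have h1 : orderOf (f x) ∣ r ^ n := hn ▸ orderOf_map_dvd f x
      obtain ⟨i, -, hi⟩ := (Nat.dvd_prime_pow hr).mp h1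
      rcases i with _ | i
      · exact orderOf_eq_one_iff.mp (by simpa using hi)
      · exact absurd ((Dvd.intro_left _ (pow_succ r i).symm : r ∣ r ^ (i + 1)).trans
          (hi ▸ orderOf_dvd_natCard (f x))) hHco
    have hr17' : Nat.card (Sylow r G) = 136 ∨ Nat.card (Sylow r G) = 153 := by
      rcases hN r hr hdvd with h | h | h
      · exfalso
        have h1 := hmod r hr
        rw [h] at h1
        have h3 := Nat.sub_mod_eq_zero_of_mod_eq (h1.trans (Nat.mod_eq_of_lt hr.one_lt).symm)
        exact hr17 ((Nat.prime_dvd_prime_iff_eq hr (by norm_num)).mp (Nat.dvd_of_mod_eq_zero h3))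
      · exact Or.inl h
      · exact Or.inr h
    obtain ⟨Q⟩ : Nonempty (Sylow 17 G) := inferInstance
    let L : Subgroup G := f.ker ⊓ (Q : Subgroup G)
    have hL : IsPGroup 17 L := Q.2.to_le inf_le_right
    have hPL : ∀ y ∈ P, ∀ c ∈ L, y * c * y⁻¹ ∈ L := by
      intro y hy c hc
      exact ⟨(MonoidHom.normal_ker f).conj_mem c hc.1 y,
        (Subgroup.mem_normalizer_iff.mp (hK17 Q y (hPK hy)) c).mp hc.2⟩
    have hLP : ∀ c ∈ L, c • P = P := by
      have hinv : ∀ (y : (P : Subgroup G)) (R : Sylow r G), R ∈ orbit L P →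
          (y : G) • R ∈ orbit L P := by
        rintro y R ⟨⟨c, hc⟩, rfl⟩
        refine ⟨⟨(y : G) * c * (y : G)⁻¹, hPL y y.2 c hc⟩, ?_⟩
        show ((y : G) * c * (y : G)⁻¹) • P = (y : G) • c • P
        have h1 : (y : G)⁻¹ • P = P :=
          Sylow.smul_eq_iff_mem_normalizer.mpr (inv_mem (Subgroup.le_normalizer y.2))
        rw [mul_smul, mul_smul, h1]
      let X : SubMulAction (P : Subgroup G) (Sylow r G) :=
        { carrier := orbit L P
          smul_mem' := fun y R hR => hinv y R hR }
      have hXcard : Nat.card X = (orbit L P).ncard := Nat.card_coe_set_eq (orbit L P)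
      have hfix : fixedPoints (P : Subgroup G) X = {⟨P, mem_orbit_self P⟩} := by
        ext R
        rw [Set.mem_singleton_iff, mem_fixedPoints]
        constructor
        · intro hR
          refine Subtype.ext (eq_of_normalizes P (R : Sylow r G) fun y hy => ?_).symm
          rw [← Sylow.smul_eq_iff_mem_normalizer]
          exact congrArg Subtype.val (hR ⟨y, hy⟩)
        · rintro rfl y
          exact Subtype.ext (Sylow.smul_eq_iff_mem_normalizer.mpr (Subgroup.le_normalizer y.2))
      have h1 : Nat.card X ≡ 1 [MOD r] := by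
        have := P.2.card_modEq_card_fixedPoints X
        rw [hfix, Nat.card_coe_set_eq, Set.ncard_singleton] at this
        exact this
      obtain ⟨i, hi⟩ := hL.card_orbit P
      have hle : (orbit L P).ncard ≤ Nat.card (Sylow r G) := by
        rw [← Set.ncard_univ]
        exact Set.ncard_le_ncard (Set.subset_univ _)
      rw [Nat.card_coe_set_eq] at hi
      rw [hXcard, hi] at h1
      rw [hi] at hle
      have hone : (orbit L P).ncard = 1 := by
        rcases i with _ | _ | i
        · simpa using hi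
        · exfalso
          have h16 : r ∣ 2 ^ 4 := by
            have := (Nat.modEq_iff_dvd' (by norm_num)).mp h1.symm
            simpa using this
          exact hr2 ((Nat.prime_dvd_prime_iff_eq hr Nat.prime_two).mp (hr.dvd_of_dvd_pow h16))
        · exfalso
          have := Nat.pow_le_pow_right (show 0 < 17 by norm_num) (show 2 ≤ i + 1 + 1 by omega)
          rcases hr17' with h | h <;> rw [h] at hle <;> omega
      intro c hc
      obtain ⟨R, hR⟩ := Set.ncard_eq_one.mp hone
      have e1 : c • P = R := by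
        have : c • P ∈ orbit L P := ⟨⟨c, hc⟩, rfl⟩
        rwa [hR] at this
      have e2 : P = R := by
        have := mem_orbit_self (M := L) P
        rwa [hR] at this
      rw [e1, ← e2]
    have hco : (Nat.card L).Coprime (Nat.card P) := by
      obtain ⟨i, hi⟩ := IsPGroup.iff_card.mp hL
      obtain ⟨j, hj⟩ := IsPGroup.iff_card.mp P.2
      rw [hi, hj]
      exact Nat.Coprime.pow _ _ ((Nat.coprime_primes (by norm_num) hr).mpr (Ne.symm hr17))
    have hQP : (Q : Subgroup G) ≤ Subgroup.normalizer (P : Set G) := by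
      intro x hx
      have hcomm : ∀ y ∈ P, x * y * x⁻¹ = y := by
        intro y hy
        have hc : x * y * x⁻¹ * y⁻¹ ∈ L := by
          refine ⟨f.ker.mul_mem ((MonoidHom.normal_ker f).conj_mem y (hPK hy) x) (f.ker.inv_mem (hPK hy)), ?_⟩
          show x * y * x⁻¹ * y⁻¹ ∈ (Q : Subgroup G)
          have := (Q : Subgroup G).mul_mem hx ((Subgroup.mem_normalizer_iff.mp (hK17 Q y (hPK hy)) x⁻¹).mp
            ((Q : Subgroup G).inv_mem hx))
          simpa [mul_assoc] using this
        generalize hcdef : x * y * x⁻¹ * y⁻¹ = c at hc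
        have hcy : c * y = y * c := by
          refine commute_of_coprime_normalizing hco hc hy ?_ ?_
          · exact hPL y hy _ (inv_mem hc)
          · have := Sylow.smul_eq_iff_mem_normalizer.mp (hLP c hc)
            exact (Subgroup.mem_normalizer_iff.mp this y).mp hy
        have hco' : (orderOf c).Coprime (orderOf y) :=
          Nat.Coprime.of_dvd (Subgroup.orderOf_dvd_natCard L hc)
            (Subgroup.orderOf_dvd_natCard (P : Subgroup G) hy) hco
        have h2 := (show Commute c y from hcy).orderOf_mul_eq_mul_orderOf_of_coprime hco'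
        have h3 : c * y = x * y * x⁻¹ := by rw [← hcdef]; group
        rw [h3, show orderOf (x * y * x⁻¹) = orderOf y from
          orderOf_injective (MulAut.conj x).toMonoidHom (MulAut.conj x).injective y] at h2
        have h4 : orderOf c = 1 := by
          have := orderOf_pos y
          nlinarith [h2]
        rw [orderOf_eq_one_iff] at h4
        rw [h4, one_mul] at h3
        exact h3.symm
      refine (Subgroup.mem_normalizer_iff (H := (P : Subgroup G))).mpr fun y => ?_
      constructor
      · intro hy; rwa [hcomm y hy]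
      · intro hy
        have := hcomm _ hy
        have e : x * y * x⁻¹ = y := mul_left_cancel (mul_right_cancel this)
        rwa [e] at hy
    have h2 := Subgroup.index_dvd_of_le hQP
    rw [← P.card_eq_index_normalizer] at h2
    have h3 := Q.not_dvd_index
    apply h3
    rcases hr17' with h | h <;> rw [h] at h2
    · exact Nat.dvd_trans (by norm_num) h2
    · exact Nat.dvd_trans (by norm_num) h2
  have hKnorm : ∀ r : ℕ, r.Prime → ∀ (P : Sylow r G) (k : G), k ∈ f.ker →
      k ∈ Subgroup.normalizer (P : Set G) := by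
    intro r hr P k hk
    have : Fact r.Prime := ⟨hr⟩
    by_cases hdvd : r ∣ Nat.card G
    · rcases hprimes r hr hdvd with rfl | rfl | rfl
      · exact ker_normalizes f hf (by rw [hn2, hH2]) P hk
      · exact ker_normalizes f hf (by rw [hn3, hH3]) P hk
      · exact hK17 P k hk
    · have : (P : Subgroup G) = ⊥ := by
        rw [← Subgroup.card_eq_one, P.card_eq_multiplicity,
          Nat.factorization_eq_zero_of_not_dvd hdvd, pow_zero]
      refine (Subgroup.mem_normalizer_iff (H := (P : Subgroup G))).mpr fun y => ?_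
      rw [this]
      simp
  have hker : f.ker = ⊥ := by
    by_contra hne
    obtain ⟨r, hr, hrdvd⟩ := Nat.exists_prime_and_dvd
      (show Nat.card f.ker ≠ 1 from fun h => hne (Subgroup.card_eq_one.mp h))
    have : Fact r.Prime := ⟨hr⟩
    obtain ⟨⟨x, hxK⟩, hx⟩ := exists_prime_orderOf_dvd_card' r hrdvd
    rw [Subgroup.orderOf_mk] at hx
    obtain ⟨P⟩ : Nonempty (Sylow r G) := inferInstance
    let R : Subgroup G := f.ker ⊓ (P : Subgroup G).normalCore
    have hRn : R.Normal := inferInstance
    have hxR : x ∈ R := by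
      refine ⟨hxK, fun g => ?_⟩
      refine mem_of_normalizes P ⟨1, ?_⟩ (hKnorm r hr P _ ((MonoidHom.normal_ker f).conj_mem x hxK g))
      rw [show orderOf (g * x * g⁻¹) = orderOf x from
        orderOf_injective (MulAut.conj g).toMonoidHom (MulAut.conj g).injective x, hx, pow_one]
    have hRP : R ≤ (P : Subgroup G) := inf_le_right.trans (Subgroup.normalCore_le _)
    obtain ⟨z, hzR, hz1, hzP⟩ : ∃ z ∈ R, z ≠ 1 ∧ ∀ y ∈ P, y * z = z * y := by
      letI : MulAction (P : Subgroup G) R :=
        MulAction.compHom R ((MulAut.conjNormal (H := R)).comp (P : Subgroup G).subtype)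
      have hsmul : ∀ (y : (P : Subgroup G)) (w : R), ((y • w : R) : G) = (y : G) * w * (y : G)⁻¹ :=
        fun y w => rfl
      have hdvd : r ∣ Nat.card R := by
        rw [← hx]
        exact Subgroup.orderOf_dvd_natCard R hxR
      have h1 : (1 : R) ∈ fixedPoints (P : Subgroup G) R := by
        intro y
        exact Subtype.ext (by rw [hsmul]; simp)
      obtain ⟨z, hz, hz1⟩ := P.2.exists_fixed_point_of_prime_dvd_card_of_fixed_point R hdvd h1
      refine ⟨z, z.2, fun e => hz1 (Subtype.ext e.symm), fun y hy => ?_⟩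
      have := congrArg Subtype.val (hz ⟨y, hy⟩)
      rw [hsmul] at this
      rwa [mul_inv_eq_iff_eq_mul] at this
    apply hz1
    rw [← Subgroup.mem_bot, ← hZ, ← SetLike.mem_coe, ← Set.singleton_subset_iff,
      ← Subgroup.centralizer_eq_top_iff_subset, ← Subgroup.index_eq_one]
    by_contra hidx
    obtain ⟨s, hs, hsdvd⟩ := Nat.exists_prime_and_dvd hidx
    have : Fact s.Prime := ⟨hs⟩
    obtain ⟨Q, hQ⟩ : ∃ Q : Sylow s G, (Q : Subgroup G) ≤ Subgroup.centralizer {z} := by
      by_cases hsr : s = r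
      · subst hsr
        exact ⟨P, fun y hy => Subgroup.mem_centralizer_singleton_iff.mpr (hzP y hy)⟩
      · obtain ⟨Q⟩ : Nonempty (Sylow s G) := inferInstance
        refine ⟨Q, fun y hy => Subgroup.mem_centralizer_singleton_iff.mpr ?_⟩
        have hco : (Nat.card R).Coprime (Nat.card Q) := by
          obtain ⟨i, hi⟩ := IsPGroup.iff_card.mp (P.2.to_le hRP)
          obtain ⟨j, hj⟩ := IsPGroup.iff_card.mp Q.2
          rw [hi, hj]
          exact Nat.Coprime.pow _ _ ((Nat.coprime_primes hr hs).mpr (Ne.symm hsr))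
        exact (commute_of_coprime_normalizing hco hzR hy (hRn.conj_mem _ (inv_mem hzR) y)
          ((Subgroup.mem_normalizer_iff.mp (hKnorm s hs Q z hzR.1) y).mp hy)).symm
    exact Q.not_dvd_index (hsdvd.trans (Subgroup.index_dvd_of_le hQ))
  have e : G ≃* H := MulEquiv.ofBijective f ⟨(MonoidHom.ker_eq_bot_iff f).mp hker, hf⟩
  obtain ⟨eF⟩ : Nonempty (ZMod 17 ≃+* F) :=
    ⟨(ZMod.ringEquivOfPrime F (by norm_num) (by rw [← hF]))⟩
  rcases hcase with ⟨-, ⟨eh⟩⟩ | ⟨-, ⟨eh⟩⟩
  · obtain ⟨ep⟩ := Cfsg.Agent.Lib.Perm.ProjCongr.nonempty_pgl (Fin 2) eF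
    exact Or.inr ⟨(e.trans eh).trans ep⟩
  · obtain ⟨ep⟩ := Cfsg.Agent.Lib.Perm.ProjCongr.nonempty_psl (Fin 2) eF
    exact Or.inl ⟨(e.trans eh).trans ep⟩

end Cfsg.Agent.S3641
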