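import Cfsg.Statements.S3643
import Cfsg.Agent.Lib.DegreeGraphM12.Main

set_option autoImplicit false
open Cfsg

namespace Cfsg.Agent.S3643

/-- Let G be a finite group of the same order as the Mathieu group M₁₂ whose character degree graph equals that of M₁₂ (same primes dividing some irreducible complex character degree, same pairs of distinct primes whose product divides some degree). Then G is isomorphic to M₁₂ or to the direct product of the alternating group of degree 4 with M₁₁. -/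
theorem result {G : Type*} [Group G] [Finite G] (hcard : Nat.card G = Nat.card ↥Cfsg.Spor.M12) (hΔ : Cfsg.degreePrimes G = Cfsg.degreePrimes ↥Cfsg.Spor.M12 ∧ Cfsg.degreeGraph G = Cfsg.degreeGraph ↥Cfsg.Spor.M12) :
    Nonempty (G ≃* ↥Cfsg.Spor.M12) ∨ Nonempty (G ≃* alternatingGroup (Fin 4) × ↥Cfsg.Spor.M11) := by
  have hM := Cfsg.Agent.Lib.Recog95040.isM12_M12
  haveI : Finite ↥Cfsg.Spor.M12 := Nat.finite_of_card_ne_zero (by rw [hM.2]; norm_num)
  obtain ⟨h5, h3⟩ := Cfsg.Agent.Lib.DegreeGraphM12.adj_of_isM12 hM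
  rw [← hΔ.2] at h5 h3
  obtain ⟨-, -, -, _, ⟨χ, rfl⟩, hχ⟩ := h5
  obtain ⟨-, -, -, _, ⟨χ', rfl⟩, hχ'⟩ := h3
  rcases Cfsg.Agent.Lib.DegreeGraphM12.main (hcard.trans hM.2) ⟨χ, hχ⟩ ⟨χ', hχ'⟩ with h | h
  · exact Or.inl (Cfsg.Agent.Lib.Recog95040.nonempty_mulEquiv_of_isM12 h hM)
  · exact Or.inr h

end Cfsg.Agent.S3643
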