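import Cfsg.Statements.S3648
import Cfsg.Agent.Lib.NsePGL94.Counting
import Cfsg.Agent.Lib.NsePGL94.Local
import Cfsg.Agent.Lib.Perm.ProjCongr
import Cfsg.Agent.Lib.LinGroup.Order
-- import your own Cfsg.Agent.* helpers here

set_option autoImplicit false
open Cfsg

namespace Cfsg.Agent.S3648

/-- For a finite group X let nse(X) be the set of values of the function 'number of elements of order k' over the element orders k that occur. Let F be a finite field of odd order q > 3 and P = PGL(2, F) = GL(2, F) modulo its centre. If G is a finite group with the same order as P and nse(G) = nse(P), then G is isomorphic to P. -/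
theorem result {F : Type*} [Field F] [Fintype F] (hodd : Odd (Fintype.card F)) (h3 : 3 < Fintype.card F)
    {G : Type*} [Group G] [Finite G] (hcard : Nat.card G = Nat.card (GL (Fin 2) F ⧸ Subgroup.center (GL (Fin 2) F)))
    (hnse : {c : ℕ | 0 < c ∧ ∃ n : ℕ, c = Nat.card {g : G // orderOf g = n}} = {c : ℕ | 0 < c ∧ ∃ n : ℕ, c = Nat.card {g : (GL (Fin 2) F ⧸ Subgroup.center (GL (Fin 2) F)) // orderOf g = n}}) :
    Nonempty (G ≃* (GL (Fin 2) F ⧸ Subgroup.center (GL (Fin 2) F))) := by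
  classical
  obtain ⟨p, hchar⟩ := CharP.exists F
  obtain ⟨a, hp, hqe⟩ := FiniteField.card F p
  have : Fact p.Prime := ⟨hp⟩
  have hp2 : p ≠ 2 := by
    rintro rfl
    rw [hqe] at hodd
    exact (Nat.not_even_iff_odd.2 hodd) ((Nat.even_pow' a.ne_zero).2 even_two)
  have h2 : (2 : F) ≠ 0 := Ring.two_ne_zero (by rwa [ringChar.eq F p])
  have hcardP : Nat.card (GL (Fin 2) F ⧸ Subgroup.center (GL (Fin 2) F)) =
      Fintype.card F * (Fintype.card F ^ 2 - 1) := by
    have h := Cfsg.Agent.Lib.Perm.ZassenhausPGL.card_PGL_two (K := F)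
    rw [show Fintype.card F ^ 2 - 1 = (Fintype.card F + 1) * (Fintype.card F - 1) by
      simpa using Nat.sq_sub_sq (Fintype.card F) 1, mul_left_comm]
    exact h
  have hqF : Nat.card F = p ^ (a : ℕ) := by rw [Nat.card_eq_fintype_card, hqe]
  have hdvd : p ^ (a : ℕ) ∣ Nat.card (GL (Fin 2) F ⧸ Subgroup.center (GL (Fin 2) F)) := by
    rw [hcardP, ← hqe]; exact dvd_mul_right _ _
  have hval : ∀ n, 0 < Lib.NsePGL94.ordCount G n →
      Lib.NsePGL94.ordCount G n = 1 ∨ Lib.NsePGL94.ordCount G n = Fintype.card F ^ 2 ∨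
      Lib.NsePGL94.ordCount G n = Fintype.card F ^ 2 - 1 ∨
      (Fintype.card F ∣ Lib.NsePGL94.ordCount G n ∧ Even (Lib.NsePGL94.ordCount G n)) := by
    intro n hn
    obtain ⟨-, m, hm⟩ := hnse.subset ⟨hn, n, rfl⟩
    have h := Lib.NsePGL94.ordCount_cases (F := F) (p := p) h2 hqF hdvd m
    have e : Lib.NsePGL94.ordCount G n =
        Lib.NsePGL94.ordCount (GL (Fin 2) F ⧸ Subgroup.center (GL (Fin 2) F)) m := hm
    rw [Nat.card_eq_fintype_card (α := F)] at h
    rw [e]
    exact h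
  have hsq : ∃ n, Lib.NsePGL94.ordCount G n = Fintype.card F ^ 2 := by
    have h := Lib.NsePGL94.ordCount_two (F := F) h2
    rw [Nat.card_eq_fintype_card (α := F)] at h
    obtain ⟨-, n, hn⟩ := hnse.symm.subset
      (show Fintype.card F ^ 2 ∈ _ from ⟨pow_pos Fintype.card_pos 2, 2, h.symm⟩)
    exact ⟨n, hn.symm⟩
  obtain ⟨hm2, hmp, hord⟩ :=
    Lib.NsePGL94.counts hp hp2 hqe h3 (hcard.trans hcardP) hval hsq
  obtain ⟨K, iK, iF, hK, ⟨e⟩⟩ := Lib.NsePGL94.Data.exists_pgl
    (⟨hp, hp2, hqe, h3, hcard.trans hcardP, hm2, hmp, hord⟩ :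
      Lib.NsePGL94.Data G p a (Fintype.card F))
  obtain ⟨e'⟩ := Cfsg.Agent.Lib.Perm.ProjCongr.nonempty_pgl (Fin 2)
    (FiniteField.ringEquivOfCardEq (K := K) (K' := F) hK)
  exact ⟨e.trans e'⟩

end Cfsg.Agent.S3648
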