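import Cfsg.Statements.S3660
import Mathlib
import Cfsg.Agent.Lib.PrimeGraph.FpfExtension
import Cfsg.Agent.Lib.SL2.Basic
-- import your own Cfsg.Agent.* helpers here

set_option autoImplicit false
open Cfsg

namespace Cfsg.Agent.S3660

open Cfsg.Agent.Lib Cfsg.Agent.Lib.PrimeGraph

/-- In characteristic two `PSL₂ = SL₂`. -/
noncomputable def psl_equiv {F : Type*} [Field F] [CharP F 2] :
    Matrix.ProjectiveSpecialLinearGroup (Fin 2) F ≃* SL2.SLtwo F :=
  (QuotientGroup.quotientMulEquivOfEq (SL2.center_eq_bot_even (CharTwo.two_eq_zero (R := F)))).trans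
    QuotientGroup.quotientBot

theorem fix_sq {F : Type*} [Field F] [CharP F 2] (g : SL2.SLtwo F) (v : Fin 2 → F) (hv : v ≠ 0)
    (h : (g : Matrix (Fin 2) (Fin 2) F).mulVec v = v) : g ^ 2 = 1 := by
  have hdet : ((g : Matrix (Fin 2) (Fin 2) F) - 1).det = 0 :=
    Matrix.exists_mulVec_eq_zero_iff.1 ⟨v, hv, by rw [Matrix.sub_mulVec, Matrix.one_mulVec, h, sub_self]⟩
  have hd := SL2.det_entries g
  rw [Matrix.det_fin_two] at hdet
  simp at hdet
  have h2 : (2 : F) = 0 := CharTwo.two_eq_zero
  have ht : g 0 0 + g 1 1 = 0 := by linear_combination -hdet + hd + h2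
  rw [pow_two]
  apply SL2.ext_entries
  · rw [SL2.mul_00]; simp; linear_combination (g 0 0) * ht - hd - h2
  · rw [SL2.mul_01]; simp; linear_combination (g 0 1) * ht
  · rw [SL2.mul_10]; simp; linear_combination (g 1 0) * ht
  · rw [SL2.mul_11]; simp; linear_combination (g 1 1) * ht - hd - h2

/-- Arbitrarily large groups with the prime graph of `SL₂(F)`, `F` of characteristic two. -/
theorem exists_large_SL2 {F : Type*} [Field F] [Fintype F] [CharP F 2] (N : ℕ) :
    ∃ (H : Type) (_ : Group H) (_ : Fintype H), N < Fintype.card H ∧ SamePrimeGraph (SL2.SLtwo F) H := by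
  classical
  refine exists_large (Matrix.SpecialLinearGroup.toGL : SL2.SLtwo F →* GL (Fin 2) F) 2 ?_ (fun g v hv h => ⟨1, ?_⟩) N
  · have hu : orderOf (SL2.upper (1 : F)) = 2 := by
      refine orderOf_eq_prime ?_ fun h => ?_
      · rw [SL2.upper_pow]
        norm_num
        rw [CharTwo.two_eq_zero, SL2.upper_zero]
      · have := congrArg (fun m : SL2.SLtwo F => m 0 1) h
        simp [SL2.upper] at this
    calc 2 = orderOf (SL2.upper (1 : F)) := hu.symm
      _ ∣ _ := orderOf_dvd_natCard _
  · rw [pow_one]; exact fix_sq g v hv h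


/-- The prime graph of a finite group has the prime divisors of its order as vertices, two distinct primes p, q being joined when the group has an element of order pq; two groups have the same prime graph when they have the same prime divisors and the same joined pairs. Let F be a finite field of characteristic 2 with at least 4 elements. Then there are finite groups of arbitrarily large order with the same prime graph as PSL(2,F); in particular PSL(2,F) is not determined by its prime graph. -/
theorem result {F : Type*} [Field F] [Fintype F] [CharP F 2] (hF : 4 ≤ Fintype.card F) (N : ℕ) :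
    ∃ (H : Type) (_ : Group H) (_ : Finite H), N < Nat.card H ∧
      ((∀ p : ℕ, p.Prime → (p ∣ Nat.card (Matrix.ProjectiveSpecialLinearGroup (Fin 2) F) ↔ p ∣ Nat.card H)) ∧
      (∀ p q : ℕ, p.Prime → q.Prime → p ≠ q → ((∃ g : (Matrix.ProjectiveSpecialLinearGroup (Fin 2) F), orderOf g = p * q) ↔ (∃ g : H, orderOf g = p * q)))) := by
  classical
  obtain ⟨H, iH, fH, hlt, hsame⟩ := exists_large_SL2 (F := F) N
  refine ⟨H, iH, inferInstance, by rwa [Nat.card_eq_fintype_card], ?_⟩
  exact ((SamePrimeGraph.of_mulEquiv psl_equiv).trans hsame)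

end Cfsg.Agent.S3660
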