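import Cfsg.Statements.S3663
import Mathlib
import Cfsg.Agent.Lib.UnitalCode.Code
import Cfsg.Agent.Lib.PSUThreeTwo.Transport
import Cfsg.Agent.Lib.Classical.UnitaryCentre

set_option autoImplicit false
open Cfsg

namespace Cfsg.Agent.S3663

open Cfsg.Agent.Lib Cfsg.Agent.Lib.UnitalCode
open scoped Matrix

/-- The form is preserved once it is preserved on the columns. -/
theorem mem_SU_of_cols (M : Matrix.SpecialLinearGroup (Fin 3) Hex)
    (h : ∀ i j : Fin 3, hForm (fun k => (M : Matrix (Fin 3) (Fin 3) Hex) k i)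
      (fun k => (M : Matrix (Fin 3) (Fin 3) Hex) k j) = if i = j then 1 else 0) :
    M ∈ Cfsg.SU 3 Hex 4 := by
  have hadd : ∀ a b : Hex, (a + b) ^ 4 = a ^ 4 + b ^ 4 := by decide +kernel
  intro u v
  show hForm ((M : Matrix (Fin 3) (Fin 3) Hex) *ᵥ u) ((M : Matrix (Fin 3) (Fin 3) Hex) *ᵥ v) = hForm u v
  have h00 := h 0 0; have h01 := h 0 1; have h02 := h 0 2
  have h10 := h 1 0; have h11 := h 1 1; have h12 := h 1 2
  have h20 := h 2 0; have h21 := h 2 1; have h22 := h 2 2
  simp only [hForm, Cfsg.hermForm, Fin.sum_univ_three, Matrix.mulVec, dotProduct, hadd, mul_pow,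
    Fin.isValue, if_pos, Fin.reduceEq, if_false] at h00 h01 h02 h10 h11 h12 h20 h21 h22 ⊢
  linear_combination (u 0 * v 0 ^ 4) * h00 + (u 0 * v 1 ^ 4) * h01 + (u 0 * v 2 ^ 4) * h02 +
    (u 1 * v 0 ^ 4) * h10 + (u 1 * v 1 ^ 4) * h11 + (u 1 * v 2 ^ 4) * h12 +
    (u 2 * v 0 ^ 4) * h20 + (u 2 * v 1 ^ 4) * h21 + (u 2 * v 2 ^ 4) * h22

/-- The element of order 13. -/
def el13 : hGroup := ⟨⟨mat13, by decide +kernel⟩, mem_SU_of_cols _ (by decide +kernel)⟩

/-- The element of order 10. -/
def el10 : hGroup := ⟨⟨mat10, by decide +kernel⟩, mem_SU_of_cols _ (by decide +kernel)⟩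

/-- The element of order 15. -/
def el15 : hGroup := ⟨⟨mat15, by decide +kernel⟩, mem_SU_of_cols _ (by decide +kernel)⟩

theorem orderOf_el13 : orderOf el13 = 13 := by
  haveI : Fact (Nat.Prime 13) := ⟨by norm_num⟩
  exact orderOf_eq_prime (Subtype.ext (Subtype.ext (by
    show mat13 ^ 13 = 1
    decide +kernel))) (fun h => (by decide +kernel : mat13 ≠ 1) (congrArg (fun g : hGroup => hMat g) h))

theorem orderOf_el10 : orderOf el10 = 10 := by
  rw [orderOf_eq_iff (by norm_num)]
  refine ⟨Subtype.ext (Subtype.ext (by show mat10 ^ 10 = 1; decide +kernel)), fun m hm hm0 h => ?_⟩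
  have h' : mat10 ^ m = 1 := congrArg (fun g : hGroup => hMat g) h
  revert h'
  interval_cases m <;> decide +kernel

theorem orderOf_el15 : orderOf el15 = 15 := by
  rw [orderOf_eq_iff (by norm_num)]
  refine ⟨Subtype.ext (Subtype.ext (by show mat15 ^ 15 = 1; decide +kernel)), fun m hm hm0 h => ?_⟩
  have h' : mat15 ^ m = 1 := congrArg (fun g : hGroup => hMat g) h
  revert h'
  interval_cases m <;> decide +kernel

theorem act_mul {V S : Type*} [AddCommGroup V] [Group S] (act : S →* AddMonoid.End V) (a b : S) (v : V) :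
    act (a * b) v = act a (act b v) := by
  rw [map_mul]; rfl

theorem act_one {V S : Type*} [AddCommGroup V] [Group S] (act : S →* AddMonoid.End V) (v : V) :
    act 1 v = v := by
  rw [map_one]; rfl

theorem fixed_conj {V S : Type*} [AddCommGroup V] [Group S] (act : S →* AddMonoid.End V) {g x y : S} {v : V}
    (hfix : act g v = v) (hmem : y⁻¹ * x * y ∈ Subgroup.zpowers g) : act x (act y v) = act y v := by
  let K : Subgroup S :=
    { carrier := {a | act a v = v}
      one_mem' := act_one act v
      mul_mem' := fun {a b} ha hb => by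
        show act (a * b) v = v
        rw [act_mul, hb, ha]
      inv_mem' := fun {a} ha => by
        show act a⁻¹ v = v
        conv_lhs => rw [← ha]
        rw [← act_mul, inv_mul_cancel, act_one] }
  have h : act (y⁻¹ * x * y) v = v := (Subgroup.zpowers_le.2 (show g ∈ K from hfix)) hmem
  calc act x (act y v) = act (y * (y⁻¹ * x * y)) v := by rw [← act_mul]; group
    _ = act y v := by rw [act_mul, h]

theorem eq_zero_of_act {V S : Type*} [AddCommGroup V] [Group S] (act : S →* AddMonoid.End V) (y : S) {v : V}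
    (h : act y v = 0) : v = 0 := by
  rw [← act_one act v, ← inv_mul_cancel y, act_mul, h, map_zero]

theorem natCard_hGroup : Nat.card hGroup = 62400 := by
  have hF : Fintype.card Hex = 4 ^ 2 := by rw [card_hex]; norm_num
  have h1 := Classical.succ_mul_natCard_SU hF 3 (by norm_num)
  rw [Classical.natCard_GU hF 3] at h1
  norm_num [Finset.prod_range_succ, Nat.even_iff] at h1
  show Nat.card ↥(Cfsg.SU 3 Hex 4) = 62400
  omega

/-- The prime graph of a finite group has the prime divisors of its order as vertices, two distinct primes p, q being joined when the group has an element of order pq; two groups have the same prime graph when they have the same prime divisors and the same joined pairs. Let F be the field with 16 elements and L = PSU(3,4) realised over F. There are finite groups of arbitrarily large order with the same prime graph as L. -/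
theorem result {F : Type*} [Field F] [Fintype F] (hF : Fintype.card F = 16) (N : ℕ) :
    ∃ (H : Type) (_ : Group H) (_ : Finite H), N < Nat.card H ∧
      ((∀ p : ℕ, p.Prime → (p ∣ Nat.card (Cfsg.PSU 3 F 4) ↔ p ∣ Nat.card H)) ∧
      (∀ p q : ℕ, p.Prime → q.Prime → p ≠ q → ((∃ g : (Cfsg.PSU 3 F 4), orderOf g = p * q) ↔ (∃ g : H, orderOf g = p * q)))) := by
  classical
  haveI : Fact (Nat.Prime 5) := ⟨by norm_num⟩
  haveI : Fact (Nat.Prime 13) := ⟨by norm_num⟩
  haveI := modV_nontrivial
  have hZ : Subgroup.center hGroup = ⊥ := by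
    rw [← Subgroup.card_eq_one, Classical.natCard_center_SU (by rw [card_hex]; norm_num) 3 (by norm_num)]
    norm_num
  let e : hGroup ≃* Cfsg.PSU 3 F 4 :=
    (((QuotientGroup.quotientMulEquivOfEq hZ).trans QuotientGroup.quotientBot).symm).trans
      (PSUThreeTwo.psuMap (FiniteField.ringEquivOfCardEq (by rw [card_hex, hF])))
  suffices hfix : ∀ (g : hGroup) (v : modV), v ≠ 0 → modAct g v = v → ∀ r : ℕ, r.Prime → r ≠ 5 →
      orderOf g = r → ∃ s : hGroup, orderOf s = r * 5 by
    obtain ⟨H, iH, fH, hN, hsame⟩ := PrimeGraph.exists_large_module modAct 5 nsmul_five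
      (by rw [natCard_hGroup]; norm_num) hfix N
    exact ⟨H, iH, fH, hN, ((PrimeGraph.SamePrimeGraph.of_mulEquiv e).symm).trans hsame⟩
  intro g v hv hfix r hr hr5 hg
  have hd : r ∣ 2 ^ 6 * (3 * (5 ^ 2 * 13)) := by
    rw [show (2 ^ 6 * (3 * (5 ^ 2 * 13)) : ℕ) = 62400 by norm_num, ← natCard_hGroup, ← hg]
    exact orderOf_dvd_natCard g
  rcases hr.dvd_mul.1 hd with h | h
  · obtain rfl := (Nat.prime_dvd_prime_iff_eq hr Nat.prime_two).1 (hr.dvd_of_dvd_pow h)
    exact ⟨el10, orderOf_el10⟩
  rcases hr.dvd_mul.1 h with h | h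
  · obtain rfl := (Nat.prime_dvd_prime_iff_eq hr Nat.prime_three).1 h
    exact ⟨el15, orderOf_el15⟩
  rcases hr.dvd_mul.1 h with h | h
  · exact absurd ((Nat.prime_dvd_prime_iff_eq hr (by norm_num)).1 (hr.dvd_of_dvd_pow h)) hr5
  obtain rfl := (Nat.prime_dvd_prime_iff_eq hr (by norm_num)).1 h
  exfalso
  -- elements of order 13 generate conjugate subgroups
  have hsyl : ∀ x : hGroup, orderOf x = 13 → ∃ P : Sylow 13 hGroup, (P : Subgroup hGroup) = Subgroup.zpowers x := by
    intro x hx
    have hcard : Nat.card (Subgroup.zpowers x) = 13 ^ (Nat.card hGroup).factorization 13 := by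
      rw [Nat.card_zpowers, hx, natCard_hGroup]
      rw [show (62400 : ℕ) = 13 * 4800 by norm_num, Nat.factorization_mul (by norm_num) (by norm_num),
        Finsupp.add_apply, Nat.Prime.factorization_self (by norm_num),
        Nat.factorization_eq_zero_of_not_dvd (by norm_num : ¬ 13 ∣ 4800)]
      norm_num
    exact ⟨Sylow.ofCard _ hcard, rfl⟩
  obtain ⟨P, hP⟩ := hsyl g hg
  obtain ⟨Q, hQ⟩ := hsyl el13 orderOf_el13
  obtain ⟨y, hy⟩ := MulAction.exists_smul_eq hGroup P Q
  have hmem : y⁻¹ * el13 * y ∈ Subgroup.zpowers g := by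
    have h : el13 ∈ ((y • P : Sylow 13 hGroup) : Subgroup hGroup) := by
      rw [hy, hQ]; exact Subgroup.mem_zpowers _
    rw [Sylow.coe_subgroup_smul, Subgroup.mem_pointwise_smul_iff_inv_smul_mem, hP] at h
    simpa using h
  have h0 := fixed_eq_zero (X := el13) rfl (fixed_conj modAct hfix hmem)
  exact hv (eq_zero_of_act modAct y h0)

end Cfsg.Agent.S3663
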