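import Cfsg.Statements.S3664
import Cfsg.Agent.S2469
import Cfsg.Agent.S2472
import Cfsg.Agent.Lib.SympPrimeGraph.Transfer
import Cfsg.Agent.Lib.SympPrimeGraph.Eigen
import Cfsg.Agent.Lib.PrimeGraph.ModuleSemidirect
import Cfsg.Agent.Lib.SuzEightExt.Module

/-!
`V^N ⋊ (Sz(8):3)`, `V` of dimension 48 over the field with two elements, has the prime graph of
`PSp(6,3)`: edges 2-3, 2-5, 2-7, 3-5 and an isolated vertex 13.
-/

set_option autoImplicit false
open Cfsg

namespace Cfsg.Agent.S3664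

open Polynomial

section Symp

variable {F : Type*} [Field F] [Fintype F]

theorem dvd_card_iff (hF : Fintype.card F = 3) {r : ℕ} (hr : r.Prime) :
    r ∣ Nat.card (Cfsg.PSp 3 F) ↔ r ∈ [2, 3, 5, 7, 13] := by
  have hsp : Nat.card ↥(Matrix.symplecticGroup (Fin 3) F) = 2 ^ 10 * 3 ^ 9 * 5 * 7 * 13 := by
    rw [Lib.Classical.natCard_symplecticGroup, Nat.card_eq_fintype_card, hF]
    norm_num [Finset.prod_range_succ]
  have hc : Nat.card (Subgroup.center (Matrix.symplecticGroup (Fin 3) F)) = 2 := by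
    rw [Lib.Classical.natCard_center_symplecticGroup 3 (by norm_num), hF]; rfl
  have h := Subgroup.card_eq_card_quotient_mul_card_subgroup (Subgroup.center (Matrix.symplecticGroup (Fin 3) F))
  rw [hsp, hc] at h
  have hP : Nat.card (Cfsg.PSp 3 F) = 2 ^ 9 * 3 ^ 9 * 5 * 7 * 13 := by
    change _ = Nat.card (Cfsg.PSp 3 F) * 2 at h
    omega
  rw [hP]
  simp only [List.mem_cons, List.not_mem_nil, or_false]
  constructor
  · intro hd
    have e : ∀ q : ℕ, q.Prime → r ∣ q → r = q := fun q hq hd => (Nat.prime_dvd_prime_iff_eq hr hq).1 hd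
    rcases hr.dvd_mul.1 hd with hd | hd
    · rcases hr.dvd_mul.1 hd with hd | hd
      · rcases hr.dvd_mul.1 hd with hd | hd
        · rcases hr.dvd_mul.1 hd with hd | hd
          · exact Or.inl (e 2 Nat.prime_two (hr.dvd_of_dvd_pow hd))
          · exact Or.inr (Or.inl (e 3 Nat.prime_three (hr.dvd_of_dvd_pow hd)))
        · exact Or.inr (Or.inr (Or.inl (e 5 Nat.prime_five hd)))
      · exact Or.inr (Or.inr (Or.inr (Or.inl (e 7 (by norm_num) hd))))
    · exact Or.inr (Or.inr (Or.inr (Or.inr (e 13 (by norm_num) hd))))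
  · rintro (rfl | rfl | rfl | rfl | rfl) <;> norm_num

theorem orderOf_three_mod {r k : ℕ} [NeZero r] (hk : 0 < k) (h1 : (3 : ZMod r) ^ k = 1)
    (h2 : ∀ m < k, 0 < m → (3 : ZMod r) ^ m ≠ 1) : orderOf ((3 : ℕ) : ZMod r) = k := by
  rw [Nat.cast_ofNat]
  exact (orderOf_eq_iff hk).2 ⟨h1, h2⟩

/-- An element of order `4r` in `Sp` gives one of order `2r` in `PSp`. -/
theorem exists_two_mul {r : ℕ} (g : ↥(Matrix.symplecticGroup (Fin 3) F)) (hg : orderOf g = 4 * r) (hr : Odd r) :
    ∃ x : Cfsg.PSp 3 F, orderOf x = 2 * r := by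
  let x : Cfsg.PSp 3 F := QuotientGroup.mk g
  set d := orderOf x with hd
  have hz : g ^ d ∈ Subgroup.center (Matrix.symplecticGroup (Fin 3) F) :=
    (QuotientGroup.eq_one_iff _).1 ((QuotientGroup.mk_pow _ g d).trans (pow_orderOf_eq_one x))
  have h2 : (g ^ d) ^ 2 = 1 := by
    apply Subtype.ext
    rw [SubmonoidClass.coe_pow]
    rcases (Lib.Classical.center_symplecticGroup 3 _).1 hz with h | h <;> simp [h]
  have hdiv : 2 * r ∣ d := by
    have := orderOf_dvd_of_pow_eq_one ((pow_mul g d 2).trans h2)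
    rw [hg, show 4 * r = 2 * r * 2 by ring] at this
    exact Nat.dvd_of_mul_dvd_mul_right two_pos this
  have hx : IsOfFinOrder x := isOfFinOrder_of_finite x
  exact ⟨x ^ (d / (2 * r)), orderOf_pow_orderOf_div hx.orderOf_pos.ne' hdiv⟩

theorem exists_edges_two (hF : Fintype.card F = 3) :
    (∃ x : Cfsg.PSp 3 F, orderOf x = 2 * 3) ∧ (∃ x : Cfsg.PSp 3 F, orderOf x = 2 * 5) ∧
      (∃ x : Cfsg.PSp 3 F, orderOf x = 2 * 7) := by
  have : CharP F 3 := charP_of_card_eq_prime hF
  obtain ⟨t, ht⟩ := Lib.SympPrimeGraph.exists_orderOf_char (F := F) 3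
  obtain ⟨a, ha⟩ := Lib.SympPrimeGraph.exists_orderOf_pow_add_one hF (m := 1) le_rfl
  obtain ⟨b, hb⟩ := Lib.SympPrimeGraph.exists_orderOf_pow_add_one hF (m := 2) (by norm_num)
  obtain ⟨c, hc⟩ := Lib.SympPrimeGraph.exists_orderOf_pow_add_one hF (m := 3) (by norm_num)
  refine ⟨?_, ?_, ?_⟩
  · obtain ⟨g, hg⟩ := Lib.SympPrimeGraph.exists_orderOf_sum (n := 3) (by norm_num) t a
    exact exists_two_mul g (r := 3) (by rw [hg, ht, ha]; rfl) (by decide)
  · obtain ⟨g, hg⟩ := Lib.SympPrimeGraph.exists_orderOf_sum (n := 3) (by norm_num) b a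
    exact exists_two_mul g (r := 5) (by rw [hg, hb, ha]; rfl) (by decide)
  · exact exists_two_mul c (r := 7) (by rw [hc]; norm_num) (by decide)

theorem six_le_signed (N : ℕ) [NeZero N] (h : Nat.Coprime 3 N) (u : Fin 6 → (ZMod N)ˣ) (hu : Function.Injective u)
    (hmem : ∀ i, u i ∈ Lib.SympPrimeGraph.signedQ 3 N h) :
    6 ≤ Nat.card ↥(Lib.SympPrimeGraph.signedQ 3 N h) := by
  have := Nat.card_le_card_of_injective (fun i => (⟨u i, hmem i⟩ : ↥(Lib.SympPrimeGraph.signedQ 3 N h)))
    fun i j hij => hu (congrArg Subtype.val hij)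
  simpa using this

/-- `x ^ m` acts as a scalar when all six distinct eigenvalues have the same `m`-th power. -/
theorem pow_eq_scalar {ι : Type*} [Fintype ι] [DecidableEq ι] {A : Matrix ι ι F}
    (hA : (Lib.SympPrimeGraph.eigs A).card = Fintype.card ι) {m : ℕ} (hm : 0 < m) (c : F)
    (h : ∀ ξ ∈ Lib.SympPrimeGraph.eigs A, ξ ^ m = algebraMap F (AlgebraicClosure F) c) :
    A ^ m = Matrix.scalar ι c := by
  classical
  let φ := (algebraMap F (AlgebraicClosure F)).mapMatrix (m := ι)
  set f := A.charpoly.map (algebraMap F (AlgebraicClosure F)) with hf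
  have hfm : f.Monic := A.charpoly_monic.map _
  have hdeg : f.natDegree = Fintype.card ι := by rw [hf, natDegree_map, A.charpoly_natDegree_eq_dim]
  have hcard : f.roots.toFinset.card = f.natDegree := by rw [hdeg, ← hA]; unfold Lib.SympPrimeGraph.eigs; congr!
  have h1 : f.roots.card = f.natDegree := le_antisymm (card_roots' f) (hcard ▸ Multiset.toFinset_card_le _)
  have hnd : f.roots.Nodup := by
    rw [← Multiset.toFinset_card_eq_card_iff_nodup, hcard, h1]
  have hprod := prod_multiset_X_sub_C_of_monic_of_roots_card_eq hfm h1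
  have hp0 : (X ^ m - C (algebraMap F (AlgebraicClosure F) c) : (AlgebraicClosure F)[X]) ≠ 0 :=
    (monic_X_pow_sub_C _ hm.ne').ne_zero
  have hdvd : f ∣ X ^ m - C (algebraMap F (AlgebraicClosure F) c) := by
    rw [← hprod, Multiset.prod_X_sub_C_dvd_iff_le_roots hp0]
    refine (Multiset.le_iff_subset hnd).2 fun ξ hξ => ?_
    rw [mem_roots hp0, IsRoot, eval_sub, eval_pow, eval_X, eval_C, sub_eq_zero]
    refine h ξ ?_
    rw [Lib.SympPrimeGraph.mem_eigs]
    rw [mem_roots hfm.ne_zero, IsRoot, eval_map] at hξ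
    exact hξ
  obtain ⟨d, hd⟩ := hdvd
  have hCH : aeval (φ A) f = 0 := by
    rw [show f = (φ A).charpoly from (Matrix.charpoly_map A _).symm]
    exact Matrix.aeval_self_charpoly _
  have h2 := congrArg (aeval (φ A)) hd
  rw [map_mul, hCH, zero_mul, map_sub, map_pow, aeval_X, aeval_C, sub_eq_zero] at h2
  have h3 : φ (A ^ m) = φ (Matrix.scalar ι c) := by
    rw [map_pow, h2]
    ext i j
    by_cases hij : i = j <;> simp [φ, Matrix.algebraMap_matrix_apply, Matrix.scalar_apply, Matrix.diagonal_apply, hij]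
  ext i j
  exact (algebraMap F (AlgebraicClosure F)).injective (congrFun (congrFun h3 i) j)

theorem not_edge_two_thirteen (hF : Fintype.card F = 3) : ¬ ∃ x : Cfsg.PSp 3 F, orderOf x = 2 * 13 := by
  rintro ⟨x, hx⟩
  have : CharP F 3 := charP_of_card_eq_prime hF
  obtain ⟨g, rfl⟩ := QuotientGroup.mk_surjective x
  set A : Matrix (Fin 3 ⊕ Fin 3) (Fin 3 ⊕ Fin 3) F := g.1 with hA
  have hnot : ∀ m : ℕ, ¬ (2 * 13) ∣ m → g ^ m ∉ Subgroup.center (Matrix.symplecticGroup (Fin 3) F) := by
    intro m hm hc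
    apply hm
    rw [← hx]
    exact orderOf_dvd_of_pow_eq_one ((QuotientGroup.mk_pow _ g m).symm.trans ((QuotientGroup.eq_one_iff _).2 hc))
  have hcen : g ^ 26 ∈ Subgroup.center (Matrix.symplecticGroup (Fin 3) F) := by
    refine (QuotientGroup.eq_one_iff _).1 ((QuotientGroup.mk_pow _ g 26).trans ?_)
    exact orderOf_dvd_iff_pow_eq_one.1 (by rw [hx])
  have h52 : A ^ (13 * 4) = 1 := by
    rw [show 13 * 4 = 26 * 2 by norm_num, pow_mul, hA, ← SubmonoidClass.coe_pow]
    rcases (Lib.Classical.center_symplecticGroup 3 _).1 hcen with h | h <;> simp [h]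
  have h4 : A ^ 4 ≠ 1 := fun h => hnot 4 (by norm_num) ((Lib.Classical.center_symplecticGroup 3 _).2
    (Or.inl (by rw [SubmonoidClass.coe_pow]; exact h)))
  have h13 : ((13 : ℕ) : F) ≠ 0 := by rw [Ne, CharP.cast_eq_zero_iff F 3]; norm_num
  obtain ⟨ξ, hξ, hξ52, hξ4⟩ := Lib.SympPrimeGraph.exists_eig h13 h52 h4
  have hq : ∀ y ∈ Lib.SympPrimeGraph.eigs A, y ^ 3 ∈ Lib.SympPrimeGraph.eigs A := fun y hy =>
    Lib.SympPrimeGraph.eigs_pow_mem hF hy
  have hi : ∀ y ∈ Lib.SympPrimeGraph.eigs A, y⁻¹ ∈ Lib.SympPrimeGraph.eigs A := fun y hy =>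
    Lib.SympPrimeGraph.eigs_inv_mem g.2 hy
  have hle := Lib.SympPrimeGraph.card_eigs_le A
  rw [show Fintype.card (Fin 3 ⊕ Fin 3) = 6 by simp] at hle
  have hbound : ∀ (N : ℕ) [NeZero N] (h : Nat.Coprime 3 N), orderOf ξ = N →
      6 ≤ Nat.card ↥(Lib.SympPrimeGraph.signedQ 3 N h) →
      (Lib.SympPrimeGraph.eigs A).card = 6 ∧ (∀ y ∈ Lib.SympPrimeGraph.eigs A, orderOf y = N) ∧
        Nat.card ↥(Lib.SympPrimeGraph.signedQ 3 N h) ≤ 6 := by
    intro N _ h hN h6
    have h1 := Lib.SympPrimeGraph.card_signedQ_le hq hi h hN hξ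
    have h2 := Finset.card_filter_le (Lib.SympPrimeGraph.eigs A) fun y => orderOf y = N
    refine ⟨by omega, ?_, by omega⟩
    have h3 : (Lib.SympPrimeGraph.eigs A).filter (fun y => orderOf y = N) = Lib.SympPrimeGraph.eigs A :=
      Finset.eq_of_subset_of_card_le (Finset.filter_subset _ _) (by omega)
    intro y hy
    rw [← h3] at hy
    exact (Finset.mem_filter.1 hy).2
  have gen : ∀ (N : ℕ) (h : Nat.Coprime 3 N) (j : ℕ) (b : Bool), (bif b then (-1 : (ZMod N)ˣ) else 1) *
      ZMod.unitOfCoprime 3 h ^ j ∈ Lib.SympPrimeGraph.signedQ 3 N h := by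
    intro N h j b
    refine mul_mem ?_ (pow_mem (Subgroup.subset_closure (Set.mem_insert _ _)) j)
    cases b
    · exact one_mem _
    · exact Subgroup.subset_closure (Set.mem_insert_of_mem _ rfl)
  have finish : ∀ N : ℕ, orderOf ξ = N → (N = 13 ∨ N = 26) → False := by
    intro N hN hN'
    obtain ⟨h6, hall, -⟩ : (Lib.SympPrimeGraph.eigs A).card = 6 ∧ (∀ y ∈ Lib.SympPrimeGraph.eigs A, orderOf y = N) ∧ True := by
      rcases hN' with rfl | rfl
      · obtain ⟨a, b, -⟩ := hbound 13 (by decide) hN (six_le_signed 13 _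
          (fun i => (bif decide (3 ≤ i.val) then -1 else 1) * ZMod.unitOfCoprime 3 (by decide) ^ (i.val % 3))
          (by decide) (fun i => gen 13 _ _ _))
        exact ⟨a, b, trivial⟩
      · obtain ⟨a, b, -⟩ := hbound 26 (by decide) hN (six_le_signed 26 _
          (fun i => (bif decide (3 ≤ i.val) then -1 else 1) * ZMod.unitOfCoprime 3 (by decide) ^ (i.val % 3))
          (by decide) (fun i => gen 26 _ _ _))
        exact ⟨a, b, trivial⟩
    rcases hN' with rfl | rfl
    · have := pow_eq_scalar (A := A) (by simpa using h6) (m := 13) (by norm_num) 1 fun y hy => by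
        rw [map_one, ← hall y hy, pow_orderOf_eq_one]
      refine hnot 13 (by norm_num) ((Lib.Classical.center_symplecticGroup 3 _).2 (Or.inl ?_))
      rw [SubmonoidClass.coe_pow]
      exact this.trans (map_one _)
    · have := pow_eq_scalar (A := A) (by simpa using h6) (m := 13) (by norm_num) (-1) fun y hy => by
        rw [map_neg, map_one]
        have h2 : (y ^ 13) ^ 2 = 1 := by rw [← pow_mul]; exact orderOf_dvd_iff_pow_eq_one.1 (by rw [hall y hy])
        rcases sq_eq_one_iff.1 h2 with h | h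
        · have := orderOf_dvd_of_pow_eq_one h
          rw [hall y hy] at this
          norm_num at this
        · exact h
      refine hnot 13 (by norm_num) ((Lib.Classical.center_symplecticGroup 3 _).2 (Or.inr ?_))
      rw [SubmonoidClass.coe_pow]
      exact this.trans ((map_neg _ _).trans (congrArg _ (map_one _)))
  have hdvd : orderOf ξ ∣ 52 := orderOf_dvd_of_pow_eq_one hξ52
  have hndvd : ¬ orderOf ξ ∣ 4 := fun h => hξ4 (orderOf_dvd_iff_pow_eq_one.1 h)
  have hmem : orderOf ξ ∈ Nat.divisors 52 := Nat.mem_divisors.2 ⟨hdvd, by norm_num⟩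
  rw [show Nat.divisors 52 = {1, 2, 4, 13, 26, 52} by decide] at hmem
  simp only [Finset.mem_insert, Finset.mem_singleton] at hmem
  rcases hmem with h | h | h | h | h | h
  · exact hndvd (h ▸ one_dvd 4)
  · exact hndvd (h ▸ (by norm_num))
  · exact hndvd (h ▸ dvd_rfl)
  · exact finish 13 h (Or.inl rfl)
  · exact finish 26 h (Or.inr rfl)
  · have h1 := Lib.SympPrimeGraph.card_signedQ_le hq hi (N := 52) (by decide) h hξ
    have h12 : 12 ≤ Nat.card ↥(Lib.SympPrimeGraph.signedQ 3 52 (by decide)) := by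
      have hinj : Function.Injective fun i : Fin 12 => ((bif decide (6 ≤ i.val) then -1 else 1) *
          ZMod.unitOfCoprime 3 (by decide) ^ (i.val % 6) : (ZMod 52)ˣ) := by decide
      let f12 : Fin 12 → ↥(Lib.SympPrimeGraph.signedQ 3 52 (by decide)) := fun i =>
        ⟨(bif decide (6 ≤ i.val) then -1 else 1) * ZMod.unitOfCoprime 3 (by decide) ^ (i.val % 6),
          gen 52 (by decide) (i.val % 6) (decide (6 ≤ i.val))⟩
      have := Nat.card_le_card_of_injective f12
        fun i j hij => hinj (congrArg Subtype.val hij)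
      simpa using this
    have h2 := Finset.card_filter_le (Lib.SympPrimeGraph.eigs A) fun y => orderOf y = 52
    omega

end Symp

section Suzuki

open Cfsg.Agent.Lib.SuzEightExt Cfsg.Agent.Lib.G2Natural

/-- Sz(8):3. -/
abbrev baseGroup := ↥szExt

instance finite_baseGroup : Finite baseGroup := by have := finite_auto12; infer_instance

theorem orderOf_base_dvd (g : baseGroup) : orderOf g ∣ 12 ∨ orderOf g ∣ 15 ∨ orderOf g ∣ 7 ∨ orderOf g ∣ 13 := by
  rcases class_of_mem g.2 with ⟨n, hn, hp⟩ | ⟨u, -, e, m, hp, -⟩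
  · have hd : orderOf g ∣ n := orderOf_dvd_of_pow_eq_one (Subtype.ext hp)
    simp at hn
    rcases hn with rfl | rfl | rfl
    · exact Or.inl hd
    · exact Or.inr (Or.inl hd)
    · exact Or.inr (Or.inr (Or.inl hd))
  · exact Or.inr (Or.inr (Or.inr (orderOf_dvd_of_pow_eq_one (Subtype.ext hp))))

/-- Test whether a power of a word is trivial. -/
noncomputable def powTriv (w : List Bool) (n : ℕ) : Bool := eqR (powList (wordL w) n) bitId

theorem orderOf_word_prime {w : List Bool} {p : ℕ} [Fact p.Prime] (h : powTriv w p = true) (v : ℕ) (hv : v < 4096)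
    (hne : bitApply (wordL w) v ≠ v) : orderOf (⟨wordU w, wordU_mem w⟩ : baseGroup) = p := by
  refine orderOf_eq_prime (Subtype.ext (Units.ext ?_)) fun h1 => hne ?_
  · rw [SubmonoidClass.coe_pow, Units.val_pow_eq_pow_val, ← bitEnd_wordL, ← bitEnd_powList (wordL_bounded w),
      eq_of_eqR h, bitEnd_id]
    rfl
  · have h2 : bitEnd (wordL w) = 1 := by
      rw [bitEnd_wordL]; exact congrArg (fun u : baseGroup => ((u.1 : Auto12) : AddMonoid.End Bit12)) h1
    have h3 := bitEnd_code (wordL_bounded w) (bit12 v)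
    rw [h2, bit12_code hv] at h3
    rw [← h3]
    exact bit12_code hv

theorem exists_order_thirteen : ∃ g : baseGroup, orderOf g = 13 :=
  have : Fact (Nat.Prime 13) := ⟨by norm_num⟩
  ⟨_, orderOf_word_prime (w := wordThirteen) (by decide +kernel) 1 (by norm_num) (by decide +kernel)⟩

theorem exists_fixed (r : ℕ) (hr : r = 3 ∨ r = 5 ∨ r = 7) :
    ∃ (g : baseGroup) (v : twistModule), v ≠ 0 ∧ twistAct g v = v ∧ orderOf g = r := by
  have key : ∀ (w : List Bool) (F : List ℕ), orderOf (⟨wordU w, wordU_mem w⟩ : baseGroup) = r →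
      boundedR F = true → eqR (compR F scalar) (compR scalarFour F) = true →
      eqR (compR (wordL w) F) (compR F (wordL w)) = true → bitApply F 1 ≠ 0 →
      ∃ (g : baseGroup) (v : twistModule), v ≠ 0 ∧ twistAct g v = v ∧ orderOf g = r := by
    intro w F hg h1 h2 h3 h4
    obtain ⟨f, hf, hc⟩ := fixed_ok (wordL w) F (wordL_bounded w) h1 h2 h3 h4
    exact ⟨_, f, hf, (twistAct_fixed_iff _ f).2 (by rw [bitEnd_wordL] at hc; exact hc), hg⟩
  rcases hr with rfl | rfl | rfl
  · exact key wordThree fixThree (orderOf_word_prime (by decide +kernel) 1 (by norm_num) (by decide +kernel))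
      (by decide +kernel) (by decide +kernel) (by decide +kernel) (by decide +kernel)
  · have : Fact (Nat.Prime 5) := ⟨by norm_num⟩
    exact key wordFive fixFive (orderOf_word_prime (by decide +kernel) 1 (by norm_num) (by decide +kernel))
      (by decide +kernel) (by decide +kernel) (by decide +kernel) (by decide +kernel)
  · have : Fact (Nat.Prime 7) := ⟨by norm_num⟩
    exact key wordSeven fixSeven (orderOf_word_prime (by decide +kernel) 1 (by norm_num) (by decide +kernel))
      (by decide +kernel) (by decide +kernel) (by decide +kernel) (by decide +kernel)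

theorem exists_order_fifteen : ∃ g : baseGroup, orderOf g = 3 * 5 := by
  refine ⟨⟨wordU wordFifteen, wordU_mem _⟩, orderOf_eq_of_pow_and_pow_div_prime (by norm_num) ?_ ?_⟩
  · apply Subtype.ext; apply Units.ext
    rw [SubmonoidClass.coe_pow, Units.val_pow_eq_pow_val, ← bitEnd_wordL, ← bitEnd_powList (wordL_bounded _),
      eq_of_eqR (show eqR (powList (wordL wordFifteen) (3 * 5)) bitId = true by decide +kernel), bitEnd_id]
    rfl
  · intro p hp hd h
    have key : ∀ k : ℕ, bitApply (powList (wordL wordFifteen) k) 1 ≠ 1 →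
        (⟨wordU wordFifteen, wordU_mem _⟩ : baseGroup) ^ k ≠ 1 := by
      intro k hne h1
      apply hne
      have h2 : bitEnd (powList (wordL wordFifteen) k) = 1 := by
        rw [bitEnd_powList (wordL_bounded _), bitEnd_wordL, ← Units.val_pow_eq_pow_val]
        exact congrArg (fun u : baseGroup => ((u.1 : Auto12) : AddMonoid.End Bit12)) h1
      have h3 := bitEnd_code (powList_bounded (wordL_bounded wordFifteen) k) (bit12 1)
      rw [h2, bit12_code (by norm_num)] at h3
      rw [← h3]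
      exact bit12_code (by norm_num)
    rcases hp.dvd_mul.1 hd with h' | h'
    · obtain rfl := (Nat.prime_dvd_prime_iff_eq hp Nat.prime_three).1 h'
      exact key _ (by decide +kernel) h
    · obtain rfl := (Nat.prime_dvd_prime_iff_eq hp Nat.prime_five).1 h'
      exact key _ (by decide +kernel) h

end Suzuki

open Cfsg.Agent.Lib.SuzEightExt in
/-- The prime graph of a finite group has the prime divisors of its order as vertices, two distinct primes p, q being joined when the group has an element of order pq; two groups have the same prime graph when they have the same prime divisors and the same joined pairs. Let F be the field with 3 elements and L = PSp(6,F). There are finite groups of arbitrarily large order with the same prime graph as L (a prime graph shared by the orthogonal groups Ω₇(3) and PΩ⁺₈(3)). -/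
theorem result {F : Type*} [Field F] [Fintype F] (hF : Fintype.card F = 3) (N : ℕ) :
    ∃ (H : Type) (_ : Group H) (_ : Finite H), N < Nat.card H ∧
      ((∀ p : ℕ, p.Prime → (p ∣ Nat.card (Cfsg.PSp 3 F) ↔ p ∣ Nat.card H)) ∧
      (∀ p q : ℕ, p.Prime → q.Prime → p ≠ q → ((∃ g : (Cfsg.PSp 3 F), orderOf g = p * q) ↔ (∃ g : H, orderOf g = p * q)))) := by
  have : CharP F 3 := charP_of_card_eq_prime hF
  have := finite_auto12
  have : Finite ↥twistModule := by
    have : Finite (AddMonoid.End Lib.G2Natural.Bit12) :=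
      Finite.of_injective (fun f : AddMonoid.End Lib.G2Natural.Bit12 =>
        (f : Lib.G2Natural.Bit12 → Lib.G2Natural.Bit12)) DFunLike.coe_injective
    infer_instance
  obtain ⟨g3, v3, hv3, hfx3, hg3⟩ := exists_fixed 3 (Or.inl rfl)
  have : Nontrivial ↥twistModule := ⟨v3, 0, hv3⟩
  -- the prime divisors of the base group
  have hbase : ∀ r : ℕ, r.Prime → (r ∣ Nat.card baseGroup ↔ r ∈ [2, 3, 5, 7, 13]) := by
    intro r hr
    have := Fact.mk hr
    constructor
    · intro hd
      obtain ⟨g, hg⟩ := exists_prime_orderOf_dvd_card' r hd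
      have hdv := orderOf_base_dvd g
      rw [hg] at hdv
      simp only [List.mem_cons, List.not_mem_nil, or_false]
      rcases hdv with h | h | h | h
      · have := Nat.le_of_dvd (by norm_num) h
        interval_cases r <;> first | omega | exact absurd hr (by norm_num)
      · have := Nat.le_of_dvd (by norm_num) h
        interval_cases r <;> first | omega | exact absurd hr (by norm_num)
      · have := (Nat.prime_dvd_prime_iff_eq hr (by norm_num)).1 h; omega
      · have := (Nat.prime_dvd_prime_iff_eq hr (by norm_num)).1 h; omega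
    · simp only [List.mem_cons, List.not_mem_nil, or_false]
      intro hr5
      have hex : ∀ k : ℕ, (∃ g : baseGroup, orderOf g = k) → k ∣ Nat.card baseGroup :=
        fun k ⟨g, hg⟩ => hg ▸ orderOf_dvd_natCard g
      have hfix : ∀ k : ℕ, k = 3 ∨ k = 5 ∨ k = 7 → k ∣ Nat.card baseGroup := fun k hk => by
        obtain ⟨g, -, -, -, hg⟩ := exists_fixed k hk
        exact hex k ⟨g, hg⟩
      rcases hr5 with rfl | rfl | rfl | rfl | rfl
      · exact hex 2 ⟨⟨wordU wordSix, wordU_mem _⟩ ^ 3, by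
          have : Fact (Nat.Prime 2) := ⟨Nat.prime_two⟩
          refine orderOf_eq_prime ?_ fun h1 => ?_
          · rw [← pow_mul]
            apply Subtype.ext; apply Units.ext
            rw [SubmonoidClass.coe_pow, Units.val_pow_eq_pow_val, ← bitEnd_wordL,
              ← bitEnd_powList (wordL_bounded _),
              eq_of_eqR (show eqR (powList (wordL wordSix) (3 * 2)) Lib.G2Natural.bitId = true by decide +kernel),
              Lib.G2Natural.bitEnd_id]
            rfl
          · have h2 : Lib.G2Natural.bitEnd (powList (wordL wordSix) 3) = 1 := by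
              rw [bitEnd_powList (wordL_bounded _), bitEnd_wordL, ← Units.val_pow_eq_pow_val]
              exact congrArg (fun u : baseGroup => ((u.1 : Auto12) : AddMonoid.End Lib.G2Natural.Bit12)) h1
            have h3 := Lib.G2Natural.bitEnd_code (powList_bounded (wordL_bounded wordSix) 3) (Lib.G2Natural.bit12 1)
            rw [h2, Lib.G2Natural.bit12_code (by norm_num)] at h3
            exact absurd (h3.symm.trans (Lib.G2Natural.bit12_code (by norm_num))) (by decide +kernel)⟩
      · exact hfix 3 (Or.inl rfl)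
      · exact hfix 5 (Or.inr (Or.inl rfl))
      · exact hfix 7 (Or.inr (Or.inr rfl))
      · exact hex 13 exists_order_thirteen
  obtain ⟨H, iH, fH, hN, hdiv, hedge⟩ := Lib.PrimeGraph.exists_large_semidirect twistAct 2 Nat.prime_two
    (fun v => Subtype.ext (two_nsmul_end v.1)) ((hbase 2 Nat.prime_two).2 (by decide)) N
  refine ⟨H, iH, fH, hN, fun p hp => by rw [dvd_card_iff hF hp, hdiv p hp, hbase p hp], ?_⟩
  have o3 : ∀ (r : ℕ) [NeZero r] (k : ℕ), 0 < k → (3 : ZMod r) ^ k = 1 → (∀ m < k, 0 < m → (3 : ZMod r) ^ m ≠ 1) →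
      k = orderOf ((Fintype.card F : ℕ) : ZMod r) := fun r _ k hk h1 h2 => by
    rw [hF, orderOf_three_mod hk h1 h2]
  have k5 : 4 = orderOf ((Fintype.card F : ℕ) : ZMod 5) := o3 5 4 (by norm_num) (by decide) (by decide)
  have k7 : 6 = orderOf ((Fintype.card F : ℕ) : ZMod 7) := o3 7 6 (by norm_num) (by decide) (by decide)
  have k13 : 3 = orderOf ((Fintype.card F : ℕ) : ZMod 13) := o3 13 3 (by norm_num) (by decide) (by decide)
  have hd : ∀ r : ℕ, r.Prime → r ∈ [2, 3, 5, 7, 13] → r ∣ Nat.card (Cfsg.PSp 3 F) := fun r hr h =>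
    (dvd_card_iff hF hr).2 h
  obtain ⟨e23, e25, e27⟩ := exists_edges_two hF
  have L35 : ∃ g : Cfsg.PSp 3 F, orderOf g = 3 * 5 := by
    by_contra hne
    have := (S2472.result 3 3 (by norm_num) (fun h => absurd h (by norm_num)) 5 (by norm_num) (by norm_num)
      (by norm_num) (hd 5 (by norm_num) (by decide)) 4 2 k5 (Or.inr ⟨by decide, rfl⟩)).1
      (fun ⟨g, hg⟩ => hne ⟨g, hg.trans (mul_comm 5 3)⟩)
    omega
  have nchar : ∀ (r k η : ℕ), r.Prime → r ≠ 2 → r ≠ 3 → r ∈ [2, 3, 5, 7, 13] →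
      k = orderOf ((Fintype.card F : ℕ) : ZMod r) → ((Odd k ∧ η = k) ∨ (Even k ∧ 2 * η = k)) → 2 < η →
      ¬ ∃ g : Cfsg.PSp 3 F, orderOf g = r * 3 := by
    intro r k η hr hr2 hr3 hm hk hη h2 ⟨g, hg⟩
    exact (S2472.result 3 3 (by norm_num) (fun h => absurd h (by norm_num)) r hr hr2 hr3 (hd r hr hm) k η hk hη).2
      (by omega) ⟨g, hg⟩
  have N37 := nchar 7 6 3 (by norm_num) (by norm_num) (by norm_num) (by decide) k7 (Or.inr ⟨by decide, rfl⟩) (by norm_num)
  have N313 := nchar 13 3 3 (by norm_num) (by norm_num) (by norm_num) (by decide) k13 (Or.inl ⟨by decide, rfl⟩) (by norm_num)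
  have nodd : ∀ (r s k l ηk ηl : ℕ), r.Prime → s.Prime → r ≠ 2 → s ≠ 2 → r ≠ 3 → s ≠ 3 → r ≠ s →
      r ∈ [2, 3, 5, 7, 13] → s ∈ [2, 3, 5, 7, 13] →
      k = orderOf ((Fintype.card F : ℕ) : ZMod r) → l = orderOf ((Fintype.card F : ℕ) : ZMod s) →
      ((Odd k ∧ ηk = k) ∨ (Even k ∧ 2 * ηk = k)) → ((Odd l ∧ ηl = l) ∨ (Even l ∧ 2 * ηl = l)) →
      ηk ≤ ηl → 3 < ηk + ηl → (¬ ∃ t : ℕ, Odd t ∧ l = k * t) → ¬ ∃ g : Cfsg.PSp 3 F, orderOf g = r * s := by
    intro r s k l a b hr hs hr2 hs2 hr3 hs3 hrs hmr hms hk hl ha hb hab h3 ht ⟨g, hg⟩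
    exact (S2469.result 3 3 (by norm_num) (fun h => absurd h (by norm_num)) r s hr hs hr2 hs2 hr3 hs3 hrs
      (hd r hr hmr) (hd s hs hms) k l a b hk hl ha hb hab).2 ⟨h3, ht⟩ ⟨g, hg⟩
  have N57 : ¬ ∃ g : Cfsg.PSp 3 F, orderOf g = 5 * 7 := nodd 5 7 4 6 2 3 (by norm_num) (by norm_num) (by norm_num)
    (by norm_num) (by norm_num) (by norm_num) (by norm_num) (by decide) (by decide) k5 k7
    (Or.inr ⟨by decide, rfl⟩) (Or.inr ⟨by decide, rfl⟩) (by norm_num) (by norm_num) (fun ⟨t, _, ht⟩ => by omega)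
  have N513 : ¬ ∃ g : Cfsg.PSp 3 F, orderOf g = 5 * 13 := nodd 5 13 4 3 2 3 (by norm_num) (by norm_num) (by norm_num)
    (by norm_num) (by norm_num) (by norm_num) (by norm_num) (by decide) (by decide) k5 k13
    (Or.inr ⟨by decide, rfl⟩) (Or.inl ⟨by decide, rfl⟩) (by norm_num) (by norm_num) (fun ⟨t, _, ht⟩ => by omega)
  have N713 : ¬ ∃ g : Cfsg.PSp 3 F, orderOf g = 7 * 13 := nodd 7 13 6 3 3 3 (by norm_num) (by norm_num) (by norm_num)
    (by norm_num) (by norm_num) (by norm_num) (by norm_num) (by decide) (by decide) k7 k13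
    (Or.inr ⟨by decide, rfl⟩) (Or.inl ⟨by decide, rfl⟩) (by norm_num) (by norm_num) (fun ⟨t, _, ht⟩ => by omega)
  have N213 := not_edge_two_thirteen (F := F) hF
  -- base group edges
  have bno : ∀ m : ℕ, ¬ m ∣ 12 → ¬ m ∣ 15 → ¬ m ∣ 7 → ¬ m ∣ 13 → ¬ ∃ g : baseGroup, orderOf g = m := by
    rintro m h1 h2 h3 h4 ⟨g, hg⟩
    rcases orderOf_base_dvd g with h | h | h | h <;> rw [hg] at h <;> contradiction
  have main : ∀ p q : ℕ, p.Prime → q.Prime → p < q →
      ((∃ g : Cfsg.PSp 3 F, orderOf g = p * q) ↔ ∃ g : H, orderOf g = p * q) := by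
    intro p q hp hq hpq
    rw [hedge p q hp hq hpq.ne]
    by_cases hm : p ∈ [2, 3, 5, 7, 13] ∧ q ∈ [2, 3, 5, 7, 13]
    swap
    · have l : ∀ (X : Type _) [Group X], (∀ r : ℕ, r.Prime → (r ∣ Nat.card X → r ∈ [2, 3, 5, 7, 13])) →
          ¬ ∃ g : X, orderOf g = p * q := fun X _ h ⟨g, hg⟩ =>
        hm ⟨h p hp ((hg ▸ dvd_mul_right p q).trans (orderOf_dvd_natCard g)),
          h q hq ((hg ▸ dvd_mul_left q p).trans (orderOf_dvd_natCard g))⟩
      refine iff_of_false (l _ fun r hr => (dvd_card_iff hF hr).1) ?_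
      rintro (h | ⟨rfl, g, v, -, -, hg⟩ | ⟨rfl, g, v, -, -, hg⟩)
      · obtain ⟨g, hg⟩ := h
        exact hm ⟨(hbase p hp).1 ((hg ▸ dvd_mul_right p q).trans (orderOf_dvd_natCard g)),
          (hbase q hq).1 ((hg ▸ dvd_mul_left q p).trans (orderOf_dvd_natCard g))⟩
      · exact hm ⟨by decide, (hbase q hq).1 (hg ▸ orderOf_dvd_natCard g)⟩
      · exact hm ⟨(hbase p hp).1 (hg ▸ orderOf_dvd_natCard g), by decide⟩
    obtain ⟨hmp, hmq⟩ := hm
    simp only [List.mem_cons, List.not_mem_nil, or_false] at hmp hmq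
    rcases hmp with rfl | rfl | rfl | rfl | rfl <;> rcases hmq with rfl | rfl | rfl | rfl | rfl <;>
      first | omega | skip
    · exact iff_of_true e23 (Or.inr (Or.inl ⟨rfl, g3, v3, hv3, hfx3, hg3⟩))
    · exact iff_of_true e25 (Or.inr (Or.inl ⟨rfl, exists_fixed 5 (Or.inr (Or.inl rfl))⟩))
    · exact iff_of_true e27 (Or.inr (Or.inl ⟨rfl, exists_fixed 7 (Or.inr (Or.inr rfl))⟩))
    · refine iff_of_false N213 ?_
      rintro (h | ⟨-, g, v, hv, hfix, hg⟩ | ⟨h, -⟩)
      · exact bno _ (by norm_num) (by norm_num) (by norm_num) (by norm_num) h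
      · exact fixed_order_ne_thirteen g v hv hfix hg
      · norm_num at h
    · exact iff_of_true L35 (Or.inl exists_order_fifteen)
    all_goals refine iff_of_false ?_ ?_
    · exact fun ⟨g, hg⟩ => N37 ⟨g, hg.trans (mul_comm 3 7)⟩
    · rintro (h | ⟨h, -⟩ | ⟨h, -⟩)
      · exact bno _ (by norm_num) (by norm_num) (by norm_num) (by norm_num) h
      all_goals norm_num at h
    · exact fun ⟨g, hg⟩ => N313 ⟨g, hg.trans (mul_comm 3 13)⟩
    · rintro (h | ⟨h, -⟩ | ⟨h, -⟩)
      · exact bno _ (by norm_num) (by norm_num) (by norm_num) (by norm_num) h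
      all_goals norm_num at h
    · exact N57
    · rintro (h | ⟨h, -⟩ | ⟨h, -⟩)
      · exact bno _ (by norm_num) (by norm_num) (by norm_num) (by norm_num) h
      all_goals norm_num at h
    · exact N513
    · rintro (h | ⟨h, -⟩ | ⟨h, -⟩)
      · exact bno _ (by norm_num) (by norm_num) (by norm_num) (by norm_num) h
      all_goals norm_num at h
    · exact N713
    · rintro (h | ⟨h, -⟩ | ⟨h, -⟩)
      · exact bno _ (by norm_num) (by norm_num) (by norm_num) (by norm_num) h
      all_goals norm_num at h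
  intro p q hp hq hne
  rcases hne.lt_or_gt with h | h
  · exact main p q hp hq h
  · have := main q p hq hp h
    rwa [mul_comm q p] at this

end Cfsg.Agent.S3664
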