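import Cfsg.Statements.S3669
import Mathlib
import Cfsg.Agent.S0169
import Cfsg.Agent.S0494
import Cfsg.Agent.Lib.SL2.SmallId
import Cfsg.Agent.Lib.Chars.PermChar

set_option autoImplicit false
open Cfsg

namespace Cfsg.Agent.S3669

open Cfsg.Agent.Lib

universe u

lemma card_sylow_five {G : Type u} [Group G] [Finite G] (hcard : Nat.card G = 60)
    [Fact (Nat.Prime 5)] (P : Sylow 5 G) : Nat.card (P : Subgroup G) = 5 := by
  have h := SmallGroups.card_sylow_eq (p := 5) (k := 1) (m := 12) P (by rw [hcard]; norm_num) (by norm_num)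
  simpa using h

lemma card_normalizer_five {G : Type u} [Group G] [Finite G] [Fact (Nat.Prime 5)]
    (hcard : Nat.card G = 60) (hn : Nat.card (Sylow 5 G) = 6) (P : Sylow 5 G) :
    Nat.card (Subgroup.normalizer ((P : Subgroup G) : Set G)) = 10 := by
  have h := P.card_eq_index_normalizer
  have h' := Subgroup.index_mul_card (Subgroup.normalizer ((P : Subgroup G) : Set G))
  change Nat.card (Sylow 5 G) = (Subgroup.normalizer ((P : Subgroup G) : Set G)).index at h
  rw [← h, hn, hcard] at h'
  omega

/-- A group of order 60 with six Sylow 5-subgroups has an irreducible character of degree 5. -/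
lemma five_mem_degreePrimes {G : Type u} [Group G] [Finite G] [Fact (Nat.Prime 5)]
    (hcard : Nat.card G = 60) (hn : Nat.card (Sylow 5 G) = 6) : 5 ∈ Cfsg.degreePrimes G := by
  classical
  have hnt : Nontrivial (Sylow 5 G) := Finite.one_lt_card_iff_nontrivial.1 (by omega)
  have key : ∀ {P Q Q' : Sylow 5 G}, Q ≠ P → Q' ≠ P → ∃ g : G, g • P = P ∧ g • Q = Q' := by
    intro P Q Q' hQ hQ'
    have hsmul : ∀ g ∈ (P : Subgroup G), g • P = P := fun g hg =>
      Sylow.smul_eq_iff_mem_normalizer.2 (Subgroup.le_normalizer hg)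
    have horb : ∀ R : Sylow 5 G, R ≠ P → Nat.card (MulAction.orbit (P : Subgroup G) R) = 5 := by
      intro R hR
      have h5 : Nat.card (MulAction.orbit (P : Subgroup G) R) ∣ 5 := by
        rw [Nat.card_coe_set_eq, ← MulAction.index_stabilizer]
        have := Subgroup.index_dvd_card (MulAction.stabilizer (P : Subgroup G) R)
        rwa [card_sylow_five hcard P] at this
      rcases (by norm_num : Nat.Prime 5).eq_one_or_self_of_dvd _ h5 with h1 | h1
      · exfalso
        refine hR ?_
        obtain ⟨hs, -⟩ := Nat.card_eq_one_iff_unique.1 h1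
        have hle : (P : Subgroup G) ≤ Subgroup.normalizer ((R : Subgroup G) : Set G) := by
          intro g hg
          refine Sylow.smul_eq_iff_mem_normalizer.1 ?_
          have := hs.elim ⟨(⟨g, hg⟩ : (P : Subgroup G)) • R, MulAction.mem_orbit R _⟩
            ⟨R, MulAction.mem_orbit_self R⟩
          exact congrArg Subtype.val this
        exact Sylow.ext (R.is_maximal' (P.isPGroup'.to_sup_of_normal_right' R.isPGroup' hle) le_sup_right ▸
          le_sup_left |> fun h => Subgroup.eq_of_le_of_card_ge h (by rw [card_sylow_five hcard P, card_sylow_five hcard R])).symm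
      · exact h1
    have hall : MulAction.orbit (P : Subgroup G) Q = {R | R ≠ P} := by
      refine Set.eq_of_subset_of_ncard_le ?_ ?_ (Set.toFinite _)
      · rintro R ⟨⟨g, hg⟩, rfl⟩ e
        have e' : g • Q = g • P := by rw [hsmul g hg]; exact e
        exact hQ (smul_left_cancel g e')
      · rw [← Nat.card_coe_set_eq (MulAction.orbit _ _), horb Q hQ]
        have : ({R | R ≠ P} : Set (Sylow 5 G)) = {P}ᶜ := rfl
        rw [this, Set.ncard_compl, hn, Set.ncard_singleton]
    obtain ⟨⟨g, hg⟩, e⟩ : Q' ∈ MulAction.orbit (P : Subgroup G) Q := by rw [hall]; exact hQ'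
    exact ⟨g, hsmul g hg, e⟩
  have h2 : MulAction.IsMultiplyPretransitive G (Sylow 5 G) 2 := by
    rw [MulAction.is_two_pretransitive_iff]
    intro a b c d hab hcd
    obtain ⟨g, hg⟩ := MulAction.exists_smul_eq G a c
    have hgb : g • b ≠ c := fun e => hab (smul_left_cancel g (hg.trans e.symm))
    obtain ⟨k, hk1, hk2⟩ := key hgb (Ne.symm hcd)
    exact ⟨k * g, by rw [mul_smul, hg, hk1], by rw [mul_smul, hk2]⟩
  refine ⟨by norm_num, 5, ⟨⟨_, (Chars.isIrrCharacter_permChar_sub_one_iff (Sylow 5 G)).2 h2⟩, ?_⟩,
    dvd_refl 5⟩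
  simp [Cfsg.charDegree, Chars.permChar, MulAction.fixedBy, hn]

/-- An abelian normal subgroup bounds the degree primes by its index. -/
lemma dvd_index_of_mem_degreePrimes {G : Type u} [Group G] [Finite G] {p : ℕ}
    (hp : p ∈ Cfsg.degreePrimes G) (A : Subgroup G) [A.Normal]
    (hA : ∀ a ∈ A, ∀ b ∈ A, a * b = b * a) : p ∣ A.index := by
  obtain ⟨-, d, ⟨⟨χ, n, ρ, hρ, rfl⟩, rfl⟩, hpd⟩ := hp
  have := hρ
  refine hpd.trans ?_
  have h := S0169.result ρ A hA
  simpa [Cfsg.charDegree, Representation.char_one] using h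

/-- The character degree graph of a finite group has as vertices the primes dividing some irreducible complex character degree, two distinct primes being joined when their product divides some irreducible character degree; two groups have the same character degree graph when they have the same vertices and the same joined pairs. A finite group of order 60 with the same character degree graph as the alternating group A₅ (whose character degrees are 1, 3, 4, 5, so the graph has vertices 2, 3, 5 and no edges) is isomorphic to A₅. -/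
theorem result {G : Type*} [Group G] [Finite G] (hcard : Nat.card G = 60)
    (hΓ : Cfsg.degreePrimes G = Cfsg.degreePrimes (alternatingGroup (Fin 5)) ∧ Cfsg.degreeGraph G = Cfsg.degreeGraph (alternatingGroup (Fin 5))) : Nonempty (G ≃* alternatingGroup (Fin 5)) := by
  classical
  haveI : Fact (Nat.Prime 5) := ⟨by norm_num⟩
  haveI : Fact (Nat.Prime 3) := ⟨Nat.prime_three⟩
  haveI : IsSimpleGroup (alternatingGroup (Fin 5)) := alternatingGroup.isSimpleGroup_five
  have hA : Nat.card (alternatingGroup (Fin 5)) = 60 := by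
    rw [nat_card_alternatingGroup, Nat.card_eq_fintype_card, Fintype.card_fin]
    rfl
  have hA5 : Nat.card (Sylow 5 (alternatingGroup (Fin 5))) = 6 := by
    have hnc := SmallGroups.not_isMulCommutative_of_not_prime (G := alternatingGroup (Fin 5))
      (by rw [hA]; norm_num)
    have h := SmallGroups.card_sylow_mem hnc (p := 5) (k := 1) (m := 12) (by rw [hA]; norm_num)
      (by norm_num) (by norm_num)
    rwa [show (Nat.divisors 12).filter (fun d => d % 5 = 1 ∧ d ≠ 1) = {6} by decide,
      Finset.mem_singleton] at h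
  have h5 : 5 ∈ Cfsg.degreePrimes G := hΓ.1 ▸ five_mem_degreePrimes hA hA5
  obtain ⟨P⟩ : Nonempty (Sylow 5 G) := inferInstance
  have hP := card_sylow_five hcard P
  obtain ⟨⟨y, hyP⟩, hy⟩ := exists_prime_orderOf_dvd_card' 5 (by rw [hP] : 5 ∣ Nat.card (P : Subgroup G))
  have hidx : (P : Subgroup G).index = 12 := by
    have := Subgroup.index_mul_card (P : Subgroup G)
    rw [hP, hcard] at this
    omega
  -- six Sylow 5-subgroups
  have hn : Nat.card (Sylow 5 G) = 6 := by
    have h2 : Nat.card (Sylow 5 G) % 5 = 1 := card_sylow_modEq_one 5 G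
    have h3 := P.card_dvd_index
    rw [hidx] at h3
    have h12 := Nat.le_of_dvd (by norm_num) h3
    have h1 : Nat.card (Sylow 5 G) ≠ 1 := by
      intro h1
      have : Subsingleton (Sylow 5 G) := (Nat.card_eq_one_iff_unique.1 h1).1
      haveI := P.normal_of_subsingleton
      have := dvd_index_of_mem_degreePrimes h5 (P : Subgroup G) (fun a ha b hb => by
        haveI : IsCyclic (P : Subgroup G) := isCyclic_of_prime_card hP
        exact congrArg Subtype.val (mul_comm' (⟨a, ha⟩ : (P : Subgroup G)) ⟨b, hb⟩))
      rw [hidx] at this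
      norm_num at this
    interval_cases Nat.card (Sylow 5 G) <;> omega
  have hN : Nat.card (Subgroup.normalizer ((P : Subgroup G) : Set G)) = 10 :=
    card_normalizer_five hcard hn P
  rw [Subgroup.orderOf_mk] at hy
  have hyZ : Subgroup.zpowers y = (P : Subgroup G) :=
    Subgroup.eq_of_le_of_card_ge (Subgroup.zpowers_le.2 hyP)
      (by rw [hP, Nat.card_zpowers, hy])
  have hCN : Subgroup.centralizer ({y} : Set G) ≤
      Subgroup.normalizer ((P : Subgroup G) : Set G) := by
    rw [← hyZ, ← Subgroup.centralizer_closure, ← Subgroup.zpowers_eq_closure]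
    exact Subgroup.centralizer_le_normalizer _
  set C := Subgroup.centralizer ({y} : Set G) with hCdef
  have hC5 : 5 ∣ Nat.card C := by
    have := Subgroup.card_dvd_of_le (Subgroup.zpowers_le.2
      (Subgroup.mem_centralizer_singleton_iff.2 rfl) : Subgroup.zpowers y ≤ C)
    rwa [hyZ, hP] at this
  have hC10 : Nat.card C ∣ 10 := hN ▸ Subgroup.card_dvd_of_le hCN
  by_cases hC : Nat.card C = 5
  · exact SL2.iso_alternating_five (y := y) hy hC hcard
  exfalso
  have hC' : Nat.card C = 10 := by
    have := Nat.le_of_dvd (by norm_num) hC10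
    interval_cases Nat.card C <;> omega
  -- otherwise there is a normal subgroup of index 5
  have hNC : Subgroup.normalizer ((P : Subgroup G) : Set G) ≤
      Subgroup.centralizer ((P : Subgroup G) : Set G) := by
    rw [← Subgroup.eq_of_le_of_card_ge hCN (by rw [hN, hC']), hCdef, ← hyZ,
      Subgroup.zpowers_eq_closure, Subgroup.centralizer_closure]
  set K := (MonoidHom.transferSylow P hNC).ker with hKdef
  have hK : Subgroup.IsComplement' K (P : Subgroup G) :=
    MonoidHom.ker_transferSylow_isComplement' P hNC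
  have hK5 : K.index = 5 := by rw [hK.symm.index_eq_card, hP]
  obtain ⟨S⟩ : Nonempty (Sylow 3 K) := inferInstance
  have hS : Nat.card (S : Subgroup K) = 3 := by
    have hK12 : Nat.card K = 12 := by
      have := Subgroup.index_mul_card K
      rw [hK5, hcard] at this
      omega
    simpa using SmallGroups.card_sylow_eq (p := 3) (k := 1) (m := 4) S (by rw [hK12]; norm_num)
      (by norm_num)
  set S' := (S : Subgroup K).map K.subtype with hS'def
  have hS' : Nat.card S' = 3 := by
    rw [hS'def, Subgroup.card_map_of_injective K.subtype_injective, hS]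
  have hsup : Subgroup.normalizer (S' : Set G) ⊔ K = ⊤ := Sylow.normalizer_sup_eq_top S
  have hdvd : 5 ∣ Nat.card (Subgroup.normalizer (S' : Set G)) := by
    have h1 : K.relIndex (Subgroup.normalizer (S' : Set G)) = 5 := by
      rw [← Subgroup.relIndex_sup_right, hsup, Subgroup.relIndex_top_right, hK5]
    exact h1 ▸ Subgroup.relIndex_dvd_card _ _
  obtain ⟨⟨z, hzN⟩, hz⟩ := exists_prime_orderOf_dvd_card' 5 hdvd
  rw [Subgroup.orderOf_mk] at hz
  obtain ⟨⟨s, hsS⟩, hs⟩ := exists_prime_orderOf_dvd_card' 3 (by rw [hS'] : 3 ∣ Nat.card S')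
  rw [Subgroup.orderOf_mk] at hs
  have hsZ : Subgroup.zpowers s = S' :=
    Subgroup.eq_of_le_of_card_ge (Subgroup.zpowers_le.2 hsS)
      (by rw [hS', Nat.card_zpowers, hs])
  have hs3 : s ^ 3 = 1 := by rw [← hs]; exact pow_orderOf_eq_one _
  have hmem : z * s * z⁻¹ ∈ S' := (Subgroup.mem_normalizer_iff.1 hzN s).1 hsS
  rw [← hsZ, mem_zpowers_iff_mem_range_orderOf, hs, Finset.mem_image] at hmem
  obtain ⟨i, hi, hzs⟩ := hmem
  rw [Finset.mem_range] at hi
  have hcomm : Commute z s := by
    interval_cases i
    · exfalso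
      rw [pow_zero] at hzs
      have := conj_eq_one_iff.1 hzs.symm
      rw [← orderOf_eq_one_iff, hs] at this
      norm_num at this
    · rw [pow_one] at hzs
      exact mul_inv_eq_iff_eq_mul.1 hzs.symm
    · have e : z * s * z⁻¹ = s⁻¹ := by
        rw [← hzs, eq_inv_iff_mul_eq_one, ← pow_succ]; exact hs3
      have e2 : Commute (z ^ 2) s := by
        rw [Commute, SemiconjBy, ← mul_inv_eq_iff_eq_mul, pow_two]
        calc z * z * s * (z * z)⁻¹ = z * (z * s * z⁻¹) * z⁻¹ := by group
          _ = (z * s * z⁻¹)⁻¹ := by rw [e]; rw [← conj_inv]; rw [e]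
          _ = s := by rw [e, inv_inv]
      have hz6 : (z ^ 2) ^ 3 = z := by
        rw [← pow_mul, show 2 * 3 = 5 + 1 by norm_num, pow_succ, ← hz, pow_orderOf_eq_one, one_mul]
      exact hz6 ▸ e2.pow_left 3
  -- `z` and `s` commute, but centralisers of elements of order 5 have order 10
  have hzp : IsPGroup 5 (Subgroup.zpowers z) :=
    IsPGroup.of_card (n := 1) (by rw [Nat.card_zpowers, hz, pow_one])
  obtain ⟨Q, hQ⟩ := hzp.exists_le_sylow
  have hQz : Subgroup.zpowers z = (Q : Subgroup G) :=
    Subgroup.eq_of_le_of_card_ge hQ (by rw [card_sylow_five hcard Q, Nat.card_zpowers, hz])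
  have hsQ : s ∈ Subgroup.normalizer ((Q : Subgroup G) : Set G) := by
    rw [← hQz]
    refine Subgroup.centralizer_le_normalizer _ ?_
    rw [Subgroup.zpowers_eq_closure, Subgroup.centralizer_closure,
      Subgroup.mem_centralizer_singleton_iff]
    exact hcomm.eq.symm
  have h10 : Nat.card (Subgroup.normalizer ((Q : Subgroup G) : Set G)) = 10 :=
    card_normalizer_five hcard hn Q
  have h3 := Subgroup.orderOf_dvd_natCard _ hsQ
  rw [h10, hs] at h3
  norm_num at h3

end Cfsg.Agent.S3669
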