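import Cfsg.Statements.S3670
import Mathlib
import Cfsg.Agent.Lib.SmallUnitary.Generation
import Cfsg.Agent.Lib.SmallUnitary.SolvableModel

set_option autoImplicit false
open Cfsg

namespace Cfsg.Agent.S3670

/-- the graph of a group of order 6048 with all three edges -/
theorem graph_facts {G : Type*} [Group G] [Fintype G] (hcard : Nat.card G = 6048)
    (h : ∀ m : ℕ, m = 21 ∨ m = 14 ∨ m = 6 → ∃ d ∈ Cfsg.charDegrees G, m ∣ d) :
    Cfsg.degreePrimes G = {2, 3, 7} ∧
      ∀ p q, (Cfsg.degreeGraph G).Adj p q ↔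
        p ≠ q ∧ (p = 2 ∨ p = 3 ∨ p = 7) ∧ (q = 2 ∨ q = 3 ∨ q = 7) := by
  have key : ∀ p : ℕ, p.Prime → (∃ d ∈ Cfsg.charDegrees G, p ∣ d) → p = 2 ∨ p = 3 ∨ p = 7 := by
    rintro p hp ⟨d, ⟨χ, rfl⟩, hpd⟩
    obtain ⟨e, -, he, hed⟩ := Lib.Chars.irr_degree_dvd_card χ
    have hdeg : Cfsg.charDegree (χ : G → ℂ) = e := by
      rw [Cfsg.charDegree, he, Complex.natCast_re, Nat.floor_natCast]
    rw [hdeg] at hpd
    have h6 : p ∣ 2 ^ 5 * (3 ^ 3 * 7) := by
      have := hpd.trans hed
      rw [hcard] at this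
      exact this
    rcases (Nat.Prime.dvd_mul hp).1 h6 with h2 | h2
    · exact Or.inl ((Nat.prime_dvd_prime_iff_eq hp Nat.prime_two).1 (hp.dvd_of_dvd_pow h2))
    · rcases (Nat.Prime.dvd_mul hp).1 h2 with h3 | h3
      · exact Or.inr (Or.inl ((Nat.prime_dvd_prime_iff_eq hp Nat.prime_three).1 (hp.dvd_of_dvd_pow h3)))
      · exact Or.inr (Or.inr ((Nat.prime_dvd_prime_iff_eq hp (by norm_num)).1 h3))
  have hp : ∀ p : ℕ, p = 2 ∨ p = 3 ∨ p = 7 → p.Prime := by
    rintro p (rfl | rfl | rfl) <;> norm_num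
  have hpair : ∀ p q : ℕ, (p = 2 ∨ p = 3 ∨ p = 7) → (q = 2 ∨ q = 3 ∨ q = 7) → p ≠ q →
      ∃ d ∈ Cfsg.charDegrees G, p * q ∣ d := by
    intro p q h1 h2 hne
    refine h (p * q) ?_
    rcases h1 with rfl | rfl | rfl <;> rcases h2 with rfl | rfl | rfl <;> simp at hne ⊢
  refine ⟨Set.ext fun p => ⟨fun hm => ?_, fun hm => ?_⟩, fun p q => ⟨fun ha => ?_, fun ha => ?_⟩⟩
  · simpa using key p hm.1 hm.2
  · have hm' : p = 2 ∨ p = 3 ∨ p = 7 := by simpa using hm
    refine ⟨hp p hm', ?_⟩
    obtain ⟨q, hq, hne⟩ : ∃ q : ℕ, (q = 2 ∨ q = 3 ∨ q = 7) ∧ p ≠ q := by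
      rcases hm' with rfl | rfl | rfl
      exacts [⟨3, by simp, by simp⟩, ⟨2, by simp, by simp⟩, ⟨2, by simp, by simp⟩]
    obtain ⟨d, hd, hdd⟩ := hpair p q hm' hq hne
    exact ⟨d, hd, (dvd_mul_right p q).trans hdd⟩
  · obtain ⟨hne, h1, h2, d, hd, hdd⟩ := ha
    exact ⟨hne, key p h1 ⟨d, hd, (dvd_mul_right p q).trans hdd⟩, key q h2 ⟨d, hd, (dvd_mul_left q p).trans hdd⟩⟩
  · exact ⟨ha.1, hp p ha.2.1, hp q ha.2.2, hpair p q ha.2.1 ha.2.2 ha.1⟩


/-- The character degree graph of a finite group has as vertices the primes dividing some irreducible complex character degree, two distinct primes being joined when their product divides some irreducible character degree; two groups have the same character degree graph when they have the same vertices and the same joined pairs. Let F be the field with 9 elements and L = PSU(3,3) realised over F (order 6048). There is a finite solvable group of order 6048 with the same character degree graph as L; so L is not determined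 by its order together with its character degree graph. -/
theorem result {F : Type*} [Field F] [Fintype F] (hF : Fintype.card F = 9) :
    ∃ (H : Type) (_ : Group H) (_ : Fintype H), Group.IsSolvable H ∧ Nat.card H = 6048 ∧ Cfsg.degreePrimes H = Cfsg.degreePrimes (Cfsg.PSU 3 F 3) ∧ Cfsg.degreeGraph H = Cfsg.degreeGraph (Cfsg.PSU 3 F 3) := by
  obtain ⟨hcard, hdeg⟩ := Lib.SmallUnitary.psu_facts hF
  have : Fintype (Cfsg.PSU 3 F 3) := @Fintype.ofFinite _ (Nat.finite_of_card_ne_zero (by rw [hcard]; norm_num))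
  have hH := graph_facts Lib.SmallUnitary.natCard_SolvH fun m hm =>
    ⟨42, Lib.SmallUnitary.forty_two_mem, by rcases hm with rfl | rfl | rfl <;> norm_num⟩
  have hL := graph_facts hcard hdeg
  refine ⟨Lib.SmallUnitary.SolvH, inferInstance, inferInstance, Lib.SmallUnitary.isSolvable_SolvH,
    Lib.SmallUnitary.natCard_SolvH, by rw [hH.1, hL.1], SimpleGraph.ext ?_⟩
  funext p q
  exact propext ((hH.2 p q).trans (hL.2 p q).symm)

end Cfsg.Agent.S3670
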