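import Cfsg.Statements.S3678
import Mathlib
import Cfsg.Agent.Lib.SL2.Orders
import Cfsg.Agent.S3660
-- import your own Cfsg.Agent.* helpers here

set_option autoImplicit false
open Cfsg

namespace Cfsg.Agent.S3678

open Cfsg.Agent.Lib Cfsg.Agent.Lib.PrimeGraph

theorem pow_cases {F : Type*} [Field F] [Fintype F] (p : ℕ) [Fact p.Prime] [CharP F p] (g : SL2.SLtwo F) :
    g ^ (Fintype.card F + 1) = 1 ∨ g ^ (Fintype.card F - 1) = 1 ∨ g ^ (2 * p) = 1 := by
  rcases SL2.elliptic_or_split_or_parabolic g with h | h | h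
  · left
    rw [← SL2.card_centralizer_elliptic h]
    exact orderOf_dvd_iff_pow_eq_one.1 (SL2.orderOf_dvd_card_centralizer g)
  · right; left
    rw [← SL2.card_centralizer_split h]
    exact orderOf_dvd_iff_pow_eq_one.1 (SL2.orderOf_dvd_card_centralizer g)
  · right; right; exact SL2.pow_two_char_of_parabolic p h

/-- If every element has prime power order, no two primes are adjacent. -/
theorem no_edge {G : Type*} [Group G] (h : ∀ x : G, ∃ a k : ℕ, a.Prime ∧ x ^ (a ^ k) = 1) {r s : ℕ}
    (hr : r.Prime) (hs : s.Prime) (hrs : r ≠ s) (x : G) : orderOf x ≠ r * s := by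
  intro hx
  obtain ⟨a, k, ha, hk⟩ := h x
  have hd : r * s ∣ a ^ k := hx ▸ orderOf_dvd_of_pow_eq_one hk
  exact hrs (((Nat.prime_dvd_prime_iff_eq hr ha).1 (hr.dvd_of_dvd_pow (dvd_trans (dvd_mul_right r s) hd))).trans
    ((Nat.prime_dvd_prime_iff_eq hs ha).1 (hs.dvd_of_dvd_pow (dvd_trans (dvd_mul_left s r) hd))).symm)

theorem same {F E : Type*} [Field F] [Fintype F] [Field E] [Fintype E] (hF : Fintype.card F = 7)
    (hE : Fintype.card E = 8) :
    SamePrimeGraph (Matrix.ProjectiveSpecialLinearGroup (Fin 2) F) (SL2.SLtwo E) := by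
  haveI : Fact (Nat.Prime 7) := ⟨by norm_num⟩
  haveI : Fact (Nat.Prime 2) := ⟨Nat.prime_two⟩
  haveI : CharP F 7 := charP_of_card_eq_prime_pow (f := 1) (by rw [hF, pow_one])
  haveI : CharP E 2 := charP_of_card_eq_prime_pow (f := 3) (by rw [hE]; norm_num)
  have c1 : Nat.card (Matrix.ProjectiveSpecialLinearGroup (Fin 2) F) = 168 := by
    rw [SL2.card_PSL, hF]; rfl
  have c2 : Nat.card (SL2.SLtwo E) = 504 := by rw [SL2.card_SLtwo, hE]; norm_num
  refine ⟨fun r hr => ?_, fun r s hr hs hrs => ?_⟩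
  · rw [c1, c2]
    exact ⟨fun h => dvd_trans h (by norm_num),
      fun h => hr.dvd_of_dvd_pow (n := 2) (dvd_trans h (by norm_num))⟩
  have hE' : ∀ x : SL2.SLtwo E, ∃ a k : ℕ, a.Prime ∧ x ^ (a ^ k) = 1 := by
    intro x
    rcases pow_cases 2 x with h | h | h
    · rw [hE] at h; exact ⟨3, 2, by norm_num, h⟩
    · rw [hE] at h; exact ⟨7, 1, by norm_num, h⟩
    · exact ⟨2, 2, by norm_num, h⟩
  have h20 : (2 : F) ≠ 0 := SL2.two_ne_zero_iff_odd.2 (by rw [hF]; decide)
  have hF' : ∀ x : Matrix.ProjectiveSpecialLinearGroup (Fin 2) F, ∃ a k : ℕ, a.Prime ∧ x ^ (a ^ k) = 1 := by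
    intro x
    obtain ⟨g, rfl⟩ := QuotientGroup.mk_surjective x
    have key : ∀ n : ℕ, g ^ (n * 2) = 1 → g ^ n ∈ Subgroup.center (SL2.SLtwo F) := by
      intro n hn
      rw [pow_mul, pow_two] at hn
      by_cases h1 : g ^ n = 1
      · rw [h1]; exact Subgroup.one_mem _
      · rw [SL2.eq_neg_one_of_mul_self_eq_one h20 hn h1]; exact SL2.neg_one_mem_center
    rcases pow_cases 7 g with h | h | h
    · refine ⟨2, 3, by norm_num, ?_⟩
      rw [← QuotientGroup.mk_pow]
      rw [hF] at h
      rw [show (2 : ℕ) ^ 3 = 7 + 1 by norm_num, h]; rfl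
    · refine ⟨3, 1, by norm_num, ?_⟩
      rw [← QuotientGroup.mk_pow, QuotientGroup.eq_one_iff]
      rw [hF] at h
      exact key _ h
    · refine ⟨7, 1, by norm_num, ?_⟩
      rw [← QuotientGroup.mk_pow, QuotientGroup.eq_one_iff]
      exact key _ (by rw [mul_comm]; simpa using h)
  exact ⟨fun ⟨x, hx⟩ => absurd hx (no_edge hF' hr hs hrs x),
    fun ⟨x, hx⟩ => absurd hx (no_edge hE' hr hs hrs x)⟩


/-- The prime graph of a finite group has the prime divisors of its order as vertices, two distinct primes p, q being joined when the group has an element of order pq; two groups have the same prime graph when they have the same prime divisors and the same joined pairs. Let F be the field with 7 elements. There are finite groups of arbitrarily large order with the same prime graph as PSL(2,F) (the graph on {2, 3, 7} with no edges, which is also the prime graph of PSL(2,8)). -/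
theorem result {F : Type*} [Field F] [Fintype F] (hF : Fintype.card F = 7) (N : ℕ) :
    ∃ (H : Type) (_ : Group H) (_ : Finite H), N < Nat.card H ∧
      ((∀ p : ℕ, p.Prime → (p ∣ Nat.card (Matrix.ProjectiveSpecialLinearGroup (Fin 2) F) ↔ p ∣ Nat.card H)) ∧
      (∀ p q : ℕ, p.Prime → q.Prime → p ≠ q → ((∃ g : (Matrix.ProjectiveSpecialLinearGroup (Fin 2) F), orderOf g = p * q) ↔ (∃ g : H, orderOf g = p * q)))) := by
  classical
  haveI : Fact (Nat.Prime 2) := ⟨Nat.prime_two⟩
  haveI : Fact (Nat.Prime 7) := ⟨by norm_num⟩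
  haveI : Fintype (GaloisField 2 3) := Fintype.ofFinite _
  have hE : Fintype.card (GaloisField 2 3) = 8 := by
    rw [← Nat.card_eq_fintype_card, GaloisField.card 2 3 (by norm_num)]; norm_num
  obtain ⟨H, iH, fH, hlt, hsame⟩ := S3660.exists_large_SL2 (F := GaloisField 2 3) N
  refine ⟨H, iH, inferInstance, by rwa [Nat.card_eq_fintype_card], ?_⟩
  exact ((same hF hE).trans hsame)

end Cfsg.Agent.S3678
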