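import Cfsg.Statements.S3680
import Mathlib
import Cfsg.Agent.Lib.MinimalNormal
import Cfsg.Agent.Lib.CharSimple.Basic
-- import your own Cfsg.Agent.* helpers here

set_option autoImplicit false
open Cfsg

namespace Cfsg.Agent.S3680

/-- The socle of a finite primitive permutation group. Let a finite group G act faithfully and primitively on a set Ω, and let N be the subgroup generated by the minimal normal subgroups of G. Then either N is an elementary abelian p-group for some prime p and acts regularly on Ω (transitively with trivial point stabilizers), or N is isomorphic to a direct product of m ≥ 1 copies of a non-abelian simple group. -/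
theorem result {G Ω : Type*} [Group G] [Finite G] [MulAction G Ω] [FaithfulSMul G Ω] [Finite Ω]
    (hprim : MulAction.IsPreprimitive G Ω) (N : Subgroup G)
    (hN : N = sSup {V : Subgroup G | V.Normal ∧ V ≠ ⊥ ∧ ∀ M : Subgroup G, M.Normal → M ≤ V → M = ⊥ ∨ M = V}) :
    (∃ p : ℕ, p.Prime ∧ IsMulCommutative N ∧ (∀ x : N, x ^ p = 1) ∧
      MulAction.IsPretransitive N Ω ∧ ∀ ω : Ω, MulAction.stabilizer N ω = ⊥) ∨
    (∃ (T : Type) (_ : Group T) (m : ℕ), 1 ≤ m ∧ IsSimpleGroup T ∧ ¬ IsMulCommutative T ∧ Nonempty (N ≃* (Fin m → T))) := by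
  classical
  haveI := hprim
  by_cases hGt : Nontrivial G
  swap
  · -- the trivial group
    rw [not_nontrivial_iff_subsingleton] at hGt
    have hΩ : Subsingleton Ω := by
      by_contra h
      rw [not_subsingleton_iff_nontrivial] at h
      obtain ⟨x, y, hxy⟩ := h
      obtain ⟨g, hg⟩ := MulAction.exists_smul_eq G x y
      rw [Subsingleton.elim g 1, one_smul] at hg
      exact hxy hg
    refine Or.inl ⟨2, Nat.prime_two, ⟨⟨fun a b => Subsingleton.elim _ _⟩⟩, fun x => Subsingleton.elim _ _, ?_, ?_⟩
    · exact ⟨fun x y => ⟨1, Subsingleton.elim _ _⟩⟩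
    · exact fun ω => Subsingleton.elim _ _
  haveI : Nontrivial Ω := by
    by_contra h
    rw [not_nontrivial_iff_subsingleton] at h
    obtain ⟨g, hg⟩ := exists_ne (1 : G)
    exact hg (eq_of_smul_eq_smul (α := Ω) fun x => Subsingleton.elim _ _)
  obtain ⟨V, hVn, hV1, -, hVmin⟩ :=
    Cfsg.Agent.Lib.MinimalNormal.exists_minimal_normal_le (G := G) (M := ⊤) inferInstance top_ne_bot
  haveI := hVn
  have htr : ∀ U : Subgroup G, U.Normal → U ≠ ⊥ → MulAction.IsPretransitive U Ω := by
    intro U hU hU1
    haveI := hU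
    refine MulAction.IsQuasiPreprimitive.isPretransitive_of_normal (G := G) fun h => hU1 ?_
    rw [eq_bot_iff]
    intro x hx
    rw [Subgroup.mem_bot]
    refine eq_of_smul_eq_smul (α := Ω) fun z => ?_
    have hz : z ∈ MulAction.fixedPoints U Ω := by rw [h]; trivial
    rw [one_smul]
    exact hz ⟨x, hx⟩
  have hVt := htr V hVn hV1
  set C := Subgroup.centralizer (V : Set G) with hC
  haveI hCn : C.Normal := inferInstance
  -- the centraliser of a transitive subgroup is semiregular
  have semi : ∀ (U : Subgroup G), MulAction.IsPretransitive U Ω → ∀ c ∈ Subgroup.centralizer (U : Set G),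
      ∀ z : Ω, c • z = z → c = 1 := by
    intro U hU c hc z hz
    refine eq_of_smul_eq_smul (α := Ω) fun y => ?_
    obtain ⟨u, rfl⟩ := hU.exists_smul_eq z y
    rw [one_smul]
    show c • (u : G) • z = (u : G) • z
    rw [smul_smul, ← hc u u.2, ← smul_smul, hz]
  -- every minimal normal subgroup is `V` or `C`
  have hother : ∀ U : Subgroup G, U.Normal → U ≠ ⊥ →
      (∀ M : Subgroup G, M.Normal → M ≤ U → M = ⊥ ∨ M = U) → U = V ∨ U = C := by
    intro U hU hU1 hUmin
    haveI := hU
    by_cases hUV : U = V
    · exact Or.inl hUV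
    right
    have hinf : U ⊓ V = ⊥ := by
      rcases hUmin (U ⊓ V) inferInstance inf_le_left with h | h
      · exact h
      · rcases hVmin (U ⊓ V) inferInstance inf_le_right with h' | h'
        · exact h'
        · exact absurd (h.symm.trans h') hUV
    have hUC : U ≤ C := by
      intro u hu v hv
      exact (Subgroup.commute_of_normal_of_disjoint V U hVn hU (disjoint_iff.2 (inf_comm V U ▸ hinf)) v u hv hu).eq
    refine le_antisymm hUC fun c hc => ?_
    obtain ⟨z⟩ : Nonempty Ω := inferInstance
    obtain ⟨u, hu⟩ := (htr U hU hU1).exists_smul_eq z (c • z)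
    change (u : G) • z = c • z at hu
    have := semi V hVt ((u : G)⁻¹ * c) (C.mul_mem (C.inv_mem (hUC u.2)) hc) z (by rw [mul_smul, ← hu, inv_smul_smul])
    rw [← inv_mul_eq_one.1 this]
    exact u.2
  have hNle : ∀ U : Subgroup G, U.Normal → U ≠ ⊥ →
      (∀ M : Subgroup G, M.Normal → M ≤ U → M = ⊥ ∨ M = U) → U ≤ N := fun U h1 h2 h3 =>
    hN ▸ le_sSup ⟨h1, h2, h3⟩
  have hNsup : N ≤ V ⊔ C := by
    rw [hN]
    refine sSup_le fun U hU => ?_
    rcases hother U hU.1 hU.2.1 hU.2.2 with rfl | rfl
    exacts [le_sup_left, le_sup_right]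
  obtain ⟨z⟩ : Nonempty Ω := inferInstance
  by_cases hab : IsMulCommutative V
  · -- abelian socle
    left
    have hCV : C = V := by
      refine le_antisymm (fun c hc => ?_) (fun v hv w hw => ?_)
      · obtain ⟨u, hu⟩ := hVt.exists_smul_eq z (c • z)
        change (u : G) • z = c • z at hu
        have hu' : (u : G) ∈ C := fun w hw => congrArg Subtype.val (mul_comm' (⟨w, hw⟩ : V) u)
        have := semi V hVt ((u : G)⁻¹ * c) (C.mul_mem (C.inv_mem hu') hc) z (by rw [mul_smul, ← hu, inv_smul_smul])
        rw [← inv_mul_eq_one.1 this]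
        exact u.2
      · exact congrArg Subtype.val (mul_comm' (⟨w, hw⟩ : V) ⟨v, hv⟩)
    have hNV : N = V := le_antisymm (hNsup.trans (by rw [hCV, sup_idem])) (hNle V hVn hV1 hVmin)
    haveI : Group.IsSolvable V := Group.isSolvable_of_comm fun a b => mul_comm' a b
    obtain ⟨hc, p, hp, hexp⟩ := Cfsg.Agent.Lib.MinimalNormal.elementaryAbelian V hV1 hVmin
    subst hNV
    refine ⟨p, hp, hc, fun x => Subtype.ext (by simpa using hexp x x.2), hVt, fun ω => ?_⟩
    rw [eq_bot_iff]
    intro x hx
    rw [Subgroup.mem_bot]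
    have hxC : (x : G) ∈ C := by rw [hCV]; exact x.2
    exact Subtype.ext (semi _ hVt x hxC ω hx)
  · right
    haveI : Nontrivial V := (Subgroup.nontrivial_iff_ne_bot V).2 hV1
    obtain ⟨T, iT, hT, m, hm, ⟨φ⟩⟩ := Cfsg.Agent.Lib.CharSimple.exists_mulEquiv_pi (G := V) (fun H hH => by
      haveI := hH
      haveI hn : (H.map V.subtype).Normal := ConjAct.normal_of_characteristic_of_normal
      rcases hVmin (H.map V.subtype) hn (Subgroup.map_subtype_le H) with h | h
      · exact Or.inl ((Subgroup.map_eq_bot_iff_of_injective H V.subtype_injective).1 h)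
      · right
        rw [← Subgroup.comap_map_eq_self_of_injective V.subtype_injective H, h]
        ext x
        simp)
    have hTna : ¬ IsMulCommutative T := fun h => hab ⟨⟨fun a b => φ.injective (by
      rw [map_mul, map_mul]
      funext i
      exact mul_comm' _ _)⟩⟩
    by_cases hC1 : C = ⊥
    · have hNV : N = V := le_antisymm (hNsup.trans (by rw [hC1, sup_bot_eq])) (hNle V hVn hV1 hVmin)
      subst hNV
      exact ⟨T, iT, m, hm, hT, hTna, ⟨φ⟩⟩
    -- two regular minimal normal subgroups
    have hCt := htr C hCn hC1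
    have hdis : V ⊓ C = ⊥ := by
      rcases hVmin (V ⊓ C) inferInstance inf_le_left with h | h
      · exact h
      · exfalso
        apply hab
        have hle : V ≤ C := by rw [← h]; exact inf_le_right
        exact ⟨⟨fun a b => Subtype.ext (hle b.2 a a.2)⟩⟩
    have hCmin : ∀ M : Subgroup G, M.Normal → M ≤ C → M = ⊥ ∨ M = C := by
      intro M hM hMC
      obtain ⟨U, hUn, hU1, hUle, hUmin⟩ : ∃ U : Subgroup G, U.Normal ∧ U ≠ ⊥ ∧ U ≤ C ∧
          ∀ K : Subgroup G, K.Normal → K ≤ U → K = ⊥ ∨ K = U :=
        Cfsg.Agent.Lib.MinimalNormal.exists_minimal_normal_le hCn hC1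
      rcases hother U hUn hU1 hUmin with rfl | rfl
      · exact absurd (inf_eq_left.2 hUle ▸ hdis) hU1
      · exact hUmin M hM hMC
    have hNVC : N = V ⊔ C := le_antisymm hNsup (sup_le (hNle V hVn hV1 hVmin) (hNle C hCn hC1 hCmin))
    have hcomm : ∀ (v : V) (c : C), Commute (v : G) (c : G) := fun v c => c.2 v v.2
    have hVC : V ≤ Subgroup.centralizer (C : Set G) := fun v hv c hc => (hc v hv).symm
    choose w hw using fun v : V => hCt.exists_smul_eq ((v : G) • z) z
    have huniq : ∀ c d : C, (c : G) • z = (d : G) • z → c = d := by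
      intro c d h
      exact Subtype.ext (inv_mul_eq_one.1 (semi V hVt ((d : G)⁻¹ * c) (C.mul_mem (C.inv_mem d.2) c.2) z
        (by rw [mul_smul, h, inv_smul_smul]))).symm
    have hw' : ∀ v : V, (v : G) • z = ((w v : G))⁻¹ • z := fun v => by
      rw [eq_inv_smul_iff]; exact hw v
    let f : V →* C :=
      { toFun := w
        map_one' := by
          apply huniq
          have := hw 1
          rw [Subgroup.coe_one, one_smul] at this
          rw [Subgroup.coe_one, one_smul]
          exact this
        map_mul' := fun a b => by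
          apply inv_injective
          apply huniq
          simp only [Subgroup.coe_inv, Subgroup.coe_mul, mul_inv_rev]
          rw [← hw' (a * b), Subgroup.coe_mul, mul_smul, mul_smul, hw' b, smul_smul,
            ((hcomm a (w b)).inv_right).eq, ← smul_smul, hw' a] }
    have hfb : Function.Bijective f := by
      refine ⟨(injective_iff_map_eq_one f).2 fun v hv => ?_, fun c => ?_⟩
      · have h := hw' v
        change w v = 1 at hv
        rw [hv, Subgroup.coe_one, inv_one, one_smul] at h
        exact Subtype.ext (semi C hCt v (hVC v.2) z h)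
      · obtain ⟨v, hv⟩ := hVt.exists_smul_eq z (((c : G))⁻¹ • z)
        refine ⟨v, inv_injective (huniq _ _ ?_)⟩
        rw [Subgroup.coe_inv, Subgroup.coe_inv]
        show ((w v : G))⁻¹ • z = _
        rw [← hw' v]; exact hv
    let μ : V × C →* G :=
      { toFun := fun x => (x.1 : G) * x.2
        map_one' := by simp
        map_mul' := fun x y => by
          show ((x.1 * y.1 : V) : G) * ((x.2 * y.2 : C) : G) = _
          rw [Subgroup.coe_mul, Subgroup.coe_mul, mul_assoc, ← mul_assoc (y.1 : G), (hcomm y.1 x.2).eq]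
          group }
    have hμr : μ.range = N := by
      rw [hNVC]
      refine le_antisymm ?_ (sup_le (fun v hv => ⟨(⟨v, hv⟩, 1), by simp [μ]⟩) (fun c hc => ⟨(1, ⟨c, hc⟩), by simp [μ]⟩))
      rintro _ ⟨x, rfl⟩
      exact Subgroup.mul_mem_sup x.1.2 x.2.2
    have hμi : Function.Injective μ := by
      rw [injective_iff_map_eq_one]
      rintro ⟨v, c⟩ h
      change (v : G) * c = 1 at h
      have hv : (v : G) ∈ V ⊓ C := ⟨v.2, by rw [eq_inv_of_mul_eq_one_left h]; exact C.inv_mem c.2⟩
      rw [hdis, Subgroup.mem_bot] at hv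
      rw [hv, one_mul] at h
      exact Prod.ext (Subtype.ext hv) (Subtype.ext h)
    refine ⟨T, iT, m + m, by omega, hT, hTna, ⟨?_⟩⟩
    refine ((MulEquiv.subgroupCongr hμr).symm.trans (MonoidHom.ofInjective hμi).symm).trans ?_
    refine ((MulEquiv.refl V).prodCongr (MulEquiv.ofBijective f hfb).symm).trans ((φ.prodCongr φ).trans ?_)
    exact { toEquiv := Fin.appendEquiv m m
            map_mul' := fun a b => by
              funext i
              refine Fin.addCases (fun k => ?_) (fun k => ?_) i <;>
                simp [-Fin.natAdd_eq_addNat, Fin.append_left, Fin.append_right] }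

end Cfsg.Agent.S3680
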