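import Cfsg.Statements.S3681
import Mathlib
-- import your own Cfsg.Agent.* helpers here

set_option autoImplicit false
open Cfsg

namespace Cfsg.Agent.S3681

open Equiv in
/-- Bochert's bound for a primitive permutation group not containing the alternating group. -/
theorem bochert {Ω : Type*} [Fintype Ω] [DecidableEq Ω] (R : Subgroup (Equiv.Perm Ω))
    (hRp : MulAction.IsPreprimitive R Ω) (hA : ¬ alternatingGroup Ω ≤ R) :
    Nat.card R * Nat.factorial ((Fintype.card Ω + 1) / 2) ≤ Nat.factorial (Fintype.card Ω) := by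
  classical
  let S := (Finset.univ : Finset (Finset Ω)).filter
    (fun D => ∀ g ∈ R, (∀ d ∈ D, g d = d) → g = 1)
  have hS : S.Nonempty := ⟨Finset.univ, by
    simp only [S, Finset.mem_filter, Finset.mem_univ, true_and]
    intro g _ h; exact Equiv.ext fun d => h d trivial⟩
  obtain ⟨Δ, hΔS, hmin⟩ := S.exists_min_image Finset.card hS
  have hΔ : ∀ g ∈ R, (∀ d ∈ Δ, g d = d) → g = 1 := (Finset.mem_filter.1 hΔS).2
  have hsmall : ∀ D : Finset Ω, D.card < Δ.card → ∃ g ∈ R, (∀ d ∈ D, g d = d) ∧ g ≠ 1 := by
    intro D hD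
    by_contra hc
    push Not at hc
    have := hmin D (Finset.mem_filter.2 ⟨Finset.mem_univ _, hc⟩)
    omega
  have hhalf : 2 * Δ.card ≤ Fintype.card Ω := by
    by_contra hc
    obtain ⟨x, hxR, hxΓ, hx1⟩ := hsmall Δᶜ (by rw [Finset.card_compl]; omega)
    obtain ⟨a, ha⟩ : ∃ a, x a ≠ a := by
      by_contra h; push Not at h; exact hx1 (Equiv.ext h)
    have haΔ : a ∈ Δ := by
      by_contra h; exact ha (hxΓ a (Finset.mem_compl.2 h))
    obtain ⟨y, hyR, hyΔ, hy1⟩ := hsmall (Δ.erase a)
      (Finset.card_erase_lt_of_mem haΔ)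
    have hya : y a ≠ a := fun h => hy1 (hΔ y hyR fun d hd => by
      by_cases hda : d = a
      · rw [hda, h]
      · exact hyΔ d (Finset.mem_erase.2 ⟨hda, hd⟩))
    have fx : ∀ z, z ∉ Δ → x z = z := fun z hz => hxΓ z (Finset.mem_compl.2 hz)
    have fy : ∀ z, z ∈ Δ → z ≠ a → y z = z := fun z hz hza => hyΔ z (Finset.mem_erase.2 ⟨hza, hz⟩)
    have fx' : ∀ z, z ∉ Δ → x⁻¹ z = z := fun z hz => by rw [Perm.inv_eq_iff_eq, fx z hz]
    have fy' : ∀ z, z ∈ Δ → z ≠ a → y⁻¹ z = z := fun z hz hza => by rw [Perm.inv_eq_iff_eq, fy z hz hza]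
    have hd : x a ∈ Δ := by
      by_contra h; exact ha (x.injective (fx _ h))
    have hb : y a ∉ Δ := by
      intro h; exact hya (y.injective (fy _ h hya))
    have hbd : y a ≠ x a := fun h => hb (h ▸ hd)
    have hc3 : x * y * x⁻¹ * y⁻¹ = swap a (y a) * swap a (x a) := by
      ext z
      simp only [Perm.mul_apply]
      by_cases hza : z = a
      · subst hza
        have h1 : y⁻¹ z ∉ Δ := fun h => by
          have h2 := fy _ h (fun he => hya (by
            have h3 : y (y⁻¹ z) = z := by simp
            rwa [he] at h3))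
          simp at h2
          exact hya (Perm.eq_inv_iff_eq.1 h2)
        rw [fx' _ h1]
        simp [swap_apply_of_ne_of_ne ha hbd.symm]
      by_cases hzb : z = y a
      · subst hzb
        have h1 : x⁻¹ a ∈ Δ := by
          by_contra h
          have h2 := fx _ h; simp at h2
          exact ha (Perm.eq_inv_iff_eq.1 h2)
        have h2 : x⁻¹ a ≠ a := fun h => ha (Perm.inv_eq_iff_eq.1 h).symm
        rw [show y⁻¹ (y a) = a by simp, fy _ h1 h2]
        simp [swap_apply_of_ne_of_ne hya hbd]
      by_cases hzd : z = x a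
      · subst hzd
        simp [fy' _ hd ha, fx _ hb]
      rw [swap_apply_of_ne_of_ne hza hzd, swap_apply_of_ne_of_ne hza hzb]
      by_cases hz : z ∈ Δ
      · rw [fy' _ hz hza]
        have h2 : x⁻¹ z ≠ a := fun h => hzd (Perm.inv_eq_iff_eq.1 h)
        have h1 : x⁻¹ z ∈ Δ := by
          by_contra h
          have h3 := fx _ h; simp at h3
          exact h (h3 ▸ hz)
        rw [fy _ h1 h2]; simp
      · have h2 : y⁻¹ z ≠ a := fun h => hzb (Perm.inv_eq_iff_eq.1 h)
        have h1 : y⁻¹ z ∉ Δ := fun h => by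
          have h3 := fy _ h h2; simp at h3
          exact hz (h3 ▸ h)
        rw [fx' _ h1]
        simp [fx _ hz]
    have h3 : (x * y * x⁻¹ * y⁻¹).IsThreeCycle := by
      rw [hc3]; exact Perm.isThreeCycle_swap_mul_swap_same hya.symm ha.symm hbd
    exact hA (Perm.alternatingGroup_le_of_isPreprimitive_of_isThreeCycle_mem hRp h3
      (R.mul_mem (R.mul_mem (R.mul_mem hxR hyR) (R.inv_mem hxR)) (R.inv_mem hyR)))
  let f : R → (Δ ↪ Ω) := fun g => ⟨fun d => (g : Perm Ω) d, fun d e h => Subtype.ext ((g : Perm Ω).injective h)⟩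
  have hf : Function.Injective f := by
    intro g h hgh
    have := hΔ ((h : Perm Ω)⁻¹ * g) (R.mul_mem (R.inv_mem h.2) g.2) (fun d hd => by
      have := congrArg (fun e : Δ ↪ Ω => e ⟨d, hd⟩) hgh
      simp only [f] at this
      change (g : Perm Ω) d = (h : Perm Ω) d at this
      show (h : Perm Ω)⁻¹ ((g : Perm Ω) d) = d
      rw [this]; simp)
    exact Subtype.ext (inv_mul_eq_one.1 this).symm
  have hle : Nat.card R ≤ (Fintype.card Ω).descFactorial Δ.card := by
    have := Nat.card_le_card_of_injective f hf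
    simpa [Nat.card_eq_fintype_card, Fintype.card_embedding_eq] using this
  calc Nat.card R * ((Fintype.card Ω + 1) / 2).factorial
      ≤ (Fintype.card Ω).descFactorial Δ.card * (Fintype.card Ω - Δ.card).factorial :=
        Nat.mul_le_mul hle (Nat.factorial_le (by omega))
    _ = (Fintype.card Ω).factorial := by
        rw [mul_comm]; exact Nat.factorial_mul_descFactorial (by omega)


/-- Bochert's bound for primitive groups. Let a finite group G act faithfully and primitively on a finite set Ω with n elements, and suppose the image of G in the symmetric group of Ω does not contain the alternating group of Ω. Then |G| · ⌊(n + 1)/2⌋! ≤ n!, that is, the index of G in the symmetric group is at least ⌊(n + 1)/2⌋!. -/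
theorem result {G Ω : Type*} [Group G] [Finite G] [MulAction G Ω] [FaithfulSMul G Ω] [Fintype Ω] [DecidableEq Ω]
    (hprim : MulAction.IsPreprimitive G Ω) (hA : ¬ alternatingGroup Ω ≤ (MulAction.toPermHom G Ω).range) :
    Nat.card G * Nat.factorial ((Fintype.card Ω + 1) / 2) ≤ Nat.factorial (Fintype.card Ω) := by
  classical
  set R := (MulAction.toPermHom G Ω).range with hR
  have hcardR : Nat.card G = Nat.card R :=
    Nat.card_congr (MonoidHom.ofInjective (f := MulAction.toPermHom G Ω) MulAction.toPerm_injective).toEquiv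
  rw [hcardR]
  have hRp : MulAction.IsPreprimitive R Ω :=
    MulAction.IsPreprimitive.of_surjective
      (f := (⟨id, fun g x => rfl⟩ : Ω →ₑ[(MulAction.toPermHom G Ω).rangeRestrict] Ω)) Function.surjective_id
  exact bochert R hRp hA

end Cfsg.Agent.S3681
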