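import Cfsg.Statements.S3683
import Mathlib
-- import your own Cfsg.Agent.* helpers here

set_option autoImplicit false
open Cfsg

namespace Cfsg.Agent.S3683

/-- Let a finite group G act faithfully and primitively on a set Ω, and suppose the stabilizer of a point a fixes a second point b ≠ a (a suborbit of length 1 other than {a}). Then the stabilizer of a is trivial and G is cyclic of prime order. -/
theorem result {G Ω : Type*} [Group G] [Finite G] [MulAction G Ω] [FaithfulSMul G Ω] [Finite Ω]
    (hprim : MulAction.IsPreprimitive G Ω) (a b : Ω) (hab : a ≠ b) (hfix : ∀ g : G, g • a = a → g • b = b) :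
    MulAction.stabilizer G a = ⊥ ∧ IsCyclic G ∧ (Nat.card G).Prime := by
  classical
  haveI := hprim
  haveI : Nontrivial Ω := ⟨⟨a, b, hab⟩⟩
  haveI htr : MulAction.IsPretransitive G Ω := inferInstance
  have hco := hprim.isCoatom_stabilizer_of_isPreprimitive (G := G) a
  obtain ⟨g, hg⟩ := MulAction.exists_smul_eq G a b
  have heq : MulAction.stabilizer G a = MulAction.stabilizer G b :=
    Subgroup.eq_of_le_of_card_ge (fun x hx => hfix x hx) (by
      exact (Nat.card_congr (MulAction.stabilizerEquivStabilizer hg.symm).toEquiv).ge)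
  have hbot : MulAction.stabilizer G a = ⊥ := by
    have hgn : g ∈ Subgroup.normalizer (MulAction.stabilizer G a : Set G) := by
      rw [Subgroup.mem_normalizer_iff]
      intro x
      constructor
      · intro hx
        rw [heq, MulAction.mem_stabilizer_iff, ← hg, mul_smul, mul_smul, inv_smul_smul, hx]
      · intro hx
        have : (g * x * g⁻¹) • b = b := by
          rw [heq] at hx; exact hx
        rw [← hg, mul_smul, mul_smul, inv_smul_smul] at this
        exact MulAction.injective g this
    have hgs : g ∉ MulAction.stabilizer G a := fun h => hab (h.symm.trans hg)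
    have htop : Subgroup.normalizer (MulAction.stabilizer G a : Set G) = ⊤ := by
      refine hco.2 _ (lt_of_le_of_ne Subgroup.le_normalizer fun h => hgs ?_)
      rw [h]; exact hgn
    rw [Subgroup.normalizer_eq_top_iff] at htop
    rw [eq_bot_iff]
    intro x hx
    rw [Subgroup.mem_bot]
    refine eq_of_smul_eq_smul (α := Ω) fun z => ?_
    obtain ⟨k, rfl⟩ := MulAction.exists_smul_eq G a z
    rw [one_smul]
    have h2 := htop.conj_mem x hx k⁻¹
    rw [inv_inv, MulAction.mem_stabilizer_iff, mul_smul, mul_smul] at h2
    exact (inv_smul_eq_iff.1 h2)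
  rw [hbot] at hco
  haveI : Nontrivial G := by
    by_contra h
    rw [not_nontrivial_iff_subsingleton] at h
    exact hco.1 (Subgroup.eq_top_iff' _ |>.2 fun x => by rw [Subgroup.mem_bot]; exact Subsingleton.elim _ _)
  have hcard : 1 < Nat.card G := Finite.one_lt_card
  obtain ⟨q, hq, hqd⟩ := Nat.exists_prime_and_dvd hcard.ne'
  haveI : Fact q.Prime := ⟨hq⟩
  obtain ⟨x, hx⟩ := exists_prime_orderOf_dvd_card' q hqd
  have hz : Subgroup.zpowers x = ⊤ := by
    refine hco.2 _ (bot_lt_iff_ne_bot.2 fun h => hq.one_lt.ne ?_)
    rw [Subgroup.zpowers_eq_bot] at h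
    rw [h, orderOf_one] at hx
    exact hx
  refine ⟨hbot, ⟨⟨x, fun y => (show y ∈ Subgroup.zpowers x by rw [hz]; trivial)⟩⟩, ?_⟩
  rw [← Subgroup.card_top (G := G), ← hz, Nat.card_zpowers, hx]
  exact hq

end Cfsg.Agent.S3683
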