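import Cfsg.Statements.S3684
import Mathlib
-- import your own Cfsg.Agent.* helpers here

set_option autoImplicit false
open Cfsg

namespace Cfsg.Agent.S3684

/-- The homomorphism from a dihedral group given by a rotation and a reflection. -/
def dihedralHom {G : Type*} [Group G] (r s : G) (m : ℕ) [NeZero m] (hr : r ^ m = 1) (hs : s * s = 1)
    (hsr : s * r * s = r⁻¹) : DihedralGroup m →* G where
  toFun x := match x with
    | .r i => r ^ i.val
    | .sr i => s * r ^ i.val
  map_one' := by
    show r ^ (0 : ZMod m).val = 1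
    simp
  map_mul' := by
    have hadd : ∀ i j : ZMod m, r ^ (i + j).val = r ^ i.val * r ^ j.val := by
      intro i j
      rw [ZMod.val_add, ← pow_add, ← pow_eq_pow_mod _ hr]
    have hneg : ∀ i j : ZMod m, r ^ (j - i).val = (r ^ i.val)⁻¹ * r ^ j.val := by
      intro i j
      rw [eq_inv_mul_iff_mul_eq, ← hadd]
      congr 2
      abel
    have hsinv : s⁻¹ = s := inv_eq_of_mul_eq_one_left hs
    have hcomm : ∀ k : ℕ, r ^ k * s = s * (r ^ k)⁻¹ := by
      intro k
      rw [← inv_pow, ← hsr]
      have h : (s * r * s) ^ k = s * r ^ k * s := by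
        have := conj_pow (i := k) (a := s) (b := r)
        rwa [hsinv] at this
      rw [h, ← mul_assoc, ← mul_assoc, hs, one_mul]
    rintro (i | i) (j | j)
    · rw [DihedralGroup.r_mul_r]; exact hadd i j
    · rw [DihedralGroup.r_mul_sr]
      show s * r ^ (j - i).val = r ^ i.val * (s * r ^ j.val)
      rw [hneg, ← mul_assoc, ← mul_assoc, hcomm]
    · rw [DihedralGroup.sr_mul_r]
      show s * r ^ (i + j).val = s * r ^ i.val * r ^ j.val
      rw [hadd, mul_assoc]
    · rw [DihedralGroup.sr_mul_sr]
      show r ^ (j - i).val = s * r ^ i.val * (s * r ^ j.val)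
      rw [hneg, ← mul_assoc, mul_assoc s (r ^ i.val) s, hcomm, ← mul_assoc, hs, one_mul]

theorem dihedralHom_sr {G : Type*} [Group G] (r s : G) (m : ℕ) [NeZero m] (hr : r ^ m = 1) (hs : s * s = 1)
    (hsr : s * r * s = r⁻¹) : dihedralHom r s m hr hs hsr (DihedralGroup.sr 0) = s := by
  show s * r ^ (0 : ZMod m).val = s
  simp

theorem dihedralHom_r_one {G : Type*} [Group G] (r s : G) (m : ℕ) [NeZero m] (hr : r ^ m = 1) (hs : s * s = 1)
    (hsr : s * r * s = r⁻¹) : dihedralHom r s m hr hs hsr (DihedralGroup.r 1) = r := by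
  show r ^ (1 : ZMod m).val = r
  rw [ZMod.val_one_eq_one_mod, ← pow_eq_pow_mod _ hr, pow_one]


/-- Let a finite group G act faithfully and primitively on a set Ω, and suppose the stabilizer of a point a has an orbit of length 2. Then the stabilizer of a has order 2 and G is isomorphic to the dihedral group of order 2p for some prime p. -/
theorem result {G Ω : Type*} [Group G] [Finite G] [MulAction G Ω] [FaithfulSMul G Ω] [Finite Ω]
    (hprim : MulAction.IsPreprimitive G Ω) (a b : Ω) (h2 : Nat.card (MulAction.orbit (MulAction.stabilizer G a) b) = 2) :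
    Nat.card (MulAction.stabilizer G a) = 2 ∧ ∃ p : ℕ, p.Prime ∧ Nonempty (G ≃* DihedralGroup p) := by
  classical
  haveI := hprim
  set H := MulAction.stabilizer G a with hH
  haveI : Nontrivial Ω := by
    by_contra h
    rw [not_nontrivial_iff_subsingleton] at h
    have : Nat.card (MulAction.orbit H b) ≤ 1 := Finite.card_le_one_iff_subsingleton.2 inferInstance
    omega
  haveI htr : MulAction.IsPretransitive G Ω := inferInstance
  have hcoa : ∀ z : Ω, IsCoatom (MulAction.stabilizer G z) := fun z =>
    hprim.isCoatom_stabilizer_of_isPreprimitive (G := G) z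
  set K := MulAction.stabilizer G a ⊓ MulAction.stabilizer G b with hK
  -- K has index 2 in both stabilisers
  have h1 : (K.subgroupOf H).index = 2 := by
    have : K.subgroupOf H = MulAction.stabilizer H b := by
      ext x
      simp only [hK, hH, Subgroup.mem_subgroupOf, Subgroup.mem_inf, MulAction.mem_stabilizer_iff]
      exact ⟨fun h => h.2, fun h => ⟨x.2, h⟩⟩
    rw [this, MulAction.index_stabilizer, ← Nat.card_coe_set_eq, h2]
  obtain ⟨g, hg⟩ := MulAction.exists_smul_eq G a b
  have hcab : Nat.card (MulAction.stabilizer G b) = Nat.card H :=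
    (Nat.card_congr (MulAction.stabilizerEquivStabilizer hg.symm).toEquiv).symm
  have hKc : Nat.card H = 2 * Nat.card K := by
    rw [← Subgroup.index_mul_card (K.subgroupOf H), h1,
      Nat.card_congr (Subgroup.subgroupOfEquivOfLe (inf_le_left : K ≤ H)).toEquiv]
  have h1' : (K.subgroupOf (MulAction.stabilizer G b)).index = 2 := by
    have h := Subgroup.index_mul_card (K.subgroupOf (MulAction.stabilizer G b))
    rw [Nat.card_congr (Subgroup.subgroupOfEquivOfLe (inf_le_right : K ≤ MulAction.stabilizer G b)).toEquiv,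
      hcab, hKc] at h
    exact Nat.eq_of_mul_eq_mul_right Nat.card_pos h
  have hKbot : K = ⊥ := by
    haveI := Subgroup.normal_of_index_eq_two h1
    haveI := Subgroup.normal_of_index_eq_two h1'
    have hle1 : H ≤ Subgroup.normalizer (K : Set G) :=
      (Subgroup.normal_subgroupOf_iff_le_normalizer inf_le_left).1 inferInstance
    have hle2 : MulAction.stabilizer G b ≤ Subgroup.normalizer (K : Set G) :=
      (Subgroup.normal_subgroupOf_iff_le_normalizer inf_le_right).1 inferInstance
    have htop : Subgroup.normalizer (K : Set G) = ⊤ := by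
      rcases eq_or_lt_of_le hle1 with h | h
      · exfalso
        have heq : MulAction.stabilizer G b = H :=
          Subgroup.eq_of_le_of_card_ge (h ▸ hle2) hcab.ge
        have hKH : K = H := by rw [hK, heq, ← hH, inf_idem]
        rw [hKH, Subgroup.subgroupOf_self, Subgroup.index_top] at h1
        omega
      · exact (hcoa a).2 _ h
    rw [Subgroup.normalizer_eq_top_iff] at htop
    rw [eq_bot_iff]
    intro x hx
    rw [Subgroup.mem_bot]
    refine eq_of_smul_eq_smul (α := Ω) fun z => ?_
    obtain ⟨k, rfl⟩ := MulAction.exists_smul_eq G a z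
    rw [one_smul]
    have h : k⁻¹ * x * k ∈ MulAction.stabilizer G a := by
      simpa using (htop.conj_mem x hx k⁻¹).1
    rw [MulAction.mem_stabilizer_iff, mul_smul, mul_smul] at h
    exact inv_smul_eq_iff.1 h
  have hH2 : Nat.card H = 2 := by rw [hKc, hKbot, Subgroup.card_bot]
  refine ⟨hH2, ?_⟩
  obtain ⟨s, hs⟩ := exists_prime_orderOf_dvd_card' (G := H) 2 (by rw [hH2])
  obtain ⟨t, ht⟩ := exists_prime_orderOf_dvd_card' (G := MulAction.stabilizer G b) 2 (by rw [hcab, hH2])
  have hsH : H = Subgroup.zpowers (s : G) := by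
    refine (Subgroup.eq_of_le_of_card_ge (by simp [Subgroup.zpowers_le]) ?_).symm
    rw [Nat.card_zpowers, Subgroup.orderOf_coe, hs, hH2]
  have hs2 : (s : G) * s = 1 := by
    rw [← pow_two, ← hs, ← Subgroup.orderOf_coe, pow_orderOf_eq_one]
  have ht2 : (t : G) * t = 1 := by
    rw [← pow_two, ← ht, ← Subgroup.orderOf_coe, pow_orderOf_eq_one]
  have hst : (s : G) ≠ t := by
    intro h
    have : (s : G) ∈ K := ⟨s.2, h ▸ t.2⟩
    rw [hKbot, Subgroup.mem_bot, ← orderOf_eq_one_iff, Subgroup.orderOf_coe] at this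
    omega
  set r : G := (s : G) * t with hr
  set m := orderOf r with hm
  haveI : NeZero m := ⟨(orderOf_pos r).ne'⟩
  have hsr : (s : G) * r * s = r⁻¹ := by
    rw [hr, mul_inv_rev, inv_eq_of_mul_eq_one_left ht2, inv_eq_of_mul_eq_one_left hs2,
      ← mul_assoc, hs2, one_mul]
  let e := dihedralHom r (s : G) m (pow_orderOf_eq_one r) hs2 hsr
  have hes : e (DihedralGroup.sr 0) = s := by simp [e, dihedralHom_sr]
  have her : e (DihedralGroup.r 1) = r := dihedralHom_r_one r (s : G) m _ _ _
  have hsurj : Function.Surjective e := by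
    rw [← MonoidHom.range_eq_top]
    refine (hcoa a).2 _ (lt_of_le_of_ne ?_ ?_)
    · rw [← hH, hsH, Subgroup.zpowers_le]; exact ⟨_, hes⟩
    · intro h
      have hr' : r ∈ MulAction.stabilizer G a := by rw [h]; exact ⟨_, her⟩
      have ht' : (t : G) ∈ MulAction.stabilizer G a := by
        have := Subgroup.mul_mem _ s.2 hr'
        rwa [hr, ← mul_assoc, hs2, one_mul] at this
      have : (t : G) ∈ K := ⟨ht', t.2⟩
      rw [hKbot, Subgroup.mem_bot, ← orderOf_eq_one_iff, Subgroup.orderOf_coe] at this
      omega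
  have hm1 : m ≠ 1 := by
    intro h
    rw [hm, orderOf_eq_one_iff, hr, mul_eq_one_iff_eq_inv, inv_eq_of_mul_eq_one_left ht2] at h
    exact hst h
  have hsne : (s : G) ≠ 1 := fun h => by
    rw [← orderOf_eq_one_iff, Subgroup.orderOf_coe] at h; omega
  have hsnot : ∀ i : ℕ, r ^ i ≠ s := by
    intro i hi
    -- otherwise the stabiliser would be normal in G
    have hcomm : ∀ x : G, Commute (s : G) x := by
      intro x
      obtain ⟨y, rfl⟩ := hsurj x
      have hsr' : Commute (s : G) r := hi ▸ (Commute.refl r).pow_left i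
      rcases y with j | j
      · exact hsr'.pow_right _
      · exact (Commute.refl _).mul_right (hsr'.pow_right _)
    apply hsne
    refine eq_of_smul_eq_smul (α := Ω) fun z => ?_
    obtain ⟨k, rfl⟩ := MulAction.exists_smul_eq G a z
    rw [one_smul, smul_smul, (hcomm k).eq, ← smul_smul, s.2]
  have hinj : Function.Injective e := by
    rw [injective_iff_map_eq_one]
    rintro (j | j) hj
    · have : r ^ j.val = 1 := hj
      have h0 : j.val = 0 := Nat.eq_zero_of_dvd_of_lt (orderOf_dvd_of_pow_eq_one this) (ZMod.val_lt j)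
      rw [(ZMod.val_eq_zero j).1 h0]; rfl
    · exfalso
      have h : (s : G) * r ^ j.val = 1 := hj
      rw [mul_eq_one_iff_inv_eq, inv_eq_of_mul_eq_one_left hs2] at h
      exact hsnot _ h.symm
  let E := MulEquiv.ofBijective e ⟨hinj, hsurj⟩
  refine ⟨m, ?_, ⟨E.symm⟩⟩
  obtain ⟨q, hq, hqm⟩ := Nat.exists_prime_and_dvd hm1
  suffices m = q by rw [this]; exact hq
  haveI : NeZero q := ⟨hq.ne_zero⟩
  let ψ : DihedralGroup m →* DihedralGroup q :=
    { toFun := fun x => match x with
        | .r i => .r (ZMod.castHom hqm (ZMod q) i)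
        | .sr i => .sr (ZMod.castHom hqm (ZMod q) i)
      map_one' := by
        show DihedralGroup.r (ZMod.castHom hqm (ZMod q) 0) = DihedralGroup.r 0
        rw [map_zero]
      map_mul' := by
        rintro (i | i) (j | j) <;>
          simp [DihedralGroup.r_mul_r, DihedralGroup.r_mul_sr, DihedralGroup.sr_mul_r,
            DihedralGroup.sr_mul_sr, -ZMod.castHom_apply, map_add, map_sub] }
  let P := ((Subgroup.zpowers (DihedralGroup.sr (0 : ZMod q))).comap ψ).map e
  have hzq : ∀ x ∈ Subgroup.zpowers (DihedralGroup.sr (0 : ZMod q)),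
      x = 1 ∨ x = DihedralGroup.sr 0 := by
    intro x hx
    obtain ⟨k, rfl⟩ := Subgroup.mem_zpowers_iff.1 hx
    have h2' : (DihedralGroup.sr (0 : ZMod q)) ^ (2 : ℤ) = 1 := by
      rw [zpow_two, DihedralGroup.sr_mul_self]
    rcases Int.even_or_odd' k with ⟨l, rfl | rfl⟩
    · left; rw [zpow_mul, h2', one_zpow]
    · right; rw [zpow_add_one, zpow_mul, h2', one_zpow, one_mul]
  have hψsr : DihedralGroup.sr (0 : ZMod m) ∈ (Subgroup.zpowers (DihedralGroup.sr (0 : ZMod q))).comap ψ := by
    rw [Subgroup.mem_comap]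
    have : ψ (DihedralGroup.sr 0) = DihedralGroup.sr (ZMod.castHom hqm (ZMod q) 0) := rfl
    rw [this, map_zero]; exact Subgroup.mem_zpowers _
  have hPH : P = H := by
    have hle : H ≤ P := by
      rw [hsH, Subgroup.zpowers_le, ← hes]
      exact Subgroup.mem_map_of_mem e hψsr
    rcases eq_or_lt_of_le hle with h | h
    · exact h.symm
    · exfalso
      have hP := (hcoa a).2 _ h
      have hrP : r ∈ P := hP ▸ Subgroup.mem_top r
      rw [← her, Subgroup.mem_map_iff_mem hinj, Subgroup.mem_comap] at hrP
      haveI := Fact.mk hq.one_lt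
      rcases hzq _ hrP with h | h
      · change DihedralGroup.r (ZMod.castHom hqm (ZMod q) 1) = DihedralGroup.r 0 at h
        rw [map_one, DihedralGroup.r.injEq] at h
        exact one_ne_zero h
      · change DihedralGroup.r (ZMod.castHom hqm (ZMod q) 1) = DihedralGroup.sr 0 at h
        simp at h
  have hrq : r ^ q ∈ H := by
    rw [← hPH, ← her, ← map_pow]
    refine Subgroup.mem_map_of_mem e ?_
    rw [DihedralGroup.r_one_pow, Subgroup.mem_comap]
    have : ψ (DihedralGroup.r (q : ZMod m)) = DihedralGroup.r (ZMod.castHom hqm (ZMod q) q) := rfl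
    rw [this, map_natCast, ZMod.natCast_self]
    exact Subgroup.one_mem _
  rw [hsH, Subgroup.mem_zpowers_iff] at hrq
  obtain ⟨k, hk⟩ := hrq
  rcases Int.even_or_odd' k with ⟨l, rfl | rfl⟩
  · rw [zpow_mul, zpow_two, hs2, one_zpow] at hk
    exact Nat.dvd_antisymm (orderOf_dvd_of_pow_eq_one hk.symm) hqm
  · rw [zpow_add_one, zpow_mul, zpow_two, hs2, one_zpow, one_mul] at hk
    exact absurd hk.symm (hsnot q)

end Cfsg.Agent.S3684
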