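import Cfsg.Statements.S3687
import Cfsg.Agent.Lib.ThompsonWielandt.Alternating

set_option autoImplicit false
open Cfsg

namespace Cfsg.Agent.S3687

/-- Let a finite group G act faithfully and primitively on a set Ω, let a and b be points such that the orbit Δ of b under the stabilizer H of a has d ≥ 6 elements, and suppose that the permutation group induced by H on Δ contains the alternating group of Δ (the image of H in the symmetric group of Δ has index at most 2) while H does not act faithfully on Δ. Then either H induces exactly the alternating group of Δ and H is isomorphic to the direct product of the alternating groups of degrees d and d - 1; or H induces the full symmetric group of Δ and H is isomorphic to one of: the direct product of the symmetric groups of degrees d and d - 1, the direct product of the symmetric group of degree d with the alternating group of degree d - 1, or the subgroup of the direct product of the symmetric groups of degrees d and d - 1 consisting of the pairs of permutations with equal signs. -/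
theorem result {G Ω : Type*} [Group G] [Finite G] [MulAction G Ω] [FaithfulSMul G Ω] [Finite Ω]
    (hprim : MulAction.IsPreprimitive G Ω) (a b : Ω) (d : ℕ) (hd : Nat.card (MulAction.orbit (MulAction.stabilizer G a) b) = d) (h6 : 6 ≤ d)
    (halt : (MulAction.toPermHom (MulAction.stabilizer G a) (MulAction.orbit (MulAction.stabilizer G a) b)).range.index ≤ 2)
    (hunf : ¬ Function.Injective (MulAction.toPermHom (MulAction.stabilizer G a) (MulAction.orbit (MulAction.stabilizer G a) b))) :
    ((MulAction.toPermHom (MulAction.stabilizer G a) (MulAction.orbit (MulAction.stabilizer G a) b)).range.index = 2 ∧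
      Nonempty (MulAction.stabilizer G a ≃* alternatingGroup (Fin d) × alternatingGroup (Fin (d - 1)))) ∨
    ((MulAction.toPermHom (MulAction.stabilizer G a) (MulAction.orbit (MulAction.stabilizer G a) b)).range = ⊤ ∧
      (Nonempty (MulAction.stabilizer G a ≃* Equiv.Perm (Fin d) × Equiv.Perm (Fin (d - 1))) ∨
       Nonempty (MulAction.stabilizer G a ≃* Equiv.Perm (Fin d) × alternatingGroup (Fin (d - 1))) ∨
       Nonempty (MulAction.stabilizer G a ≃* ((Equiv.Perm.sign.comp (MonoidHom.fst (Equiv.Perm (Fin d)) (Equiv.Perm (Fin (d - 1))))) *
         (Equiv.Perm.sign.comp (MonoidHom.snd (Equiv.Perm (Fin d)) (Equiv.Perm (Fin (d - 1)))))).ker))) := by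
  open Cfsg.Agent.Lib.ThompsonWielandt in
  have h1 : (sideOfOrbit (G := G) a b d hd).π.range.index ≤ 2 :=
    (sideOfOrbit_range_index a b d hd).trans_le halt
  have s := Lib.ThompsonWielandt.setup_of_suborbit hprim a b d hd (by omega)
  haveI := hprim
  have hd' : Nat.card (MulAction.orbit (MulAction.stabilizer G b) a) = d := by
    obtain ⟨g, hg⟩ := s.conj
    have hcard : Nat.card (MulAction.stabilizer G a) = Nat.card (MulAction.stabilizer G b) := by
      rw [hg]
      exact Nat.card_congr
        ((MulAction.stabilizer G a).equivMapOfInjective _ (MulAut.conj g).injective).toEquiv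
    have e1 := Lib.ThompsonWielandt.card_eq_orbit_mul (MulAction.stabilizer G a) b
    have e2 := Lib.ThompsonWielandt.card_eq_orbit_mul (MulAction.stabilizer G b) a
    rw [inf_comm, ← hcard] at e2
    rw [hd] at e1
    exact Nat.eq_of_mul_eq_mul_right Nat.card_pos (e2.symm.trans e1)
  have hK : Lib.ThompsonWielandt.kerK (MulAction.stabilizer G a) (MulAction.stabilizer G b) ≠ ⊥ := by
    intro h0
    refine hunf ((injective_iff_map_eq_one _).mpr fun x hx => Subtype.ext ?_)
    have := (Lib.ThompsonWielandt.mem_ker_toPermHom a b x).mp hx
    rw [h0] at this
    exact Subgroup.mem_bot.mp this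
  have hidx := Lib.ThompsonWielandt.sideOfOrbit_range_index (G := G) a b d hd
  rcases Lib.ThompsonWielandt.alternating_structure s (Lib.ThompsonWielandt.sideOfOrbit a b d hd)
      (Lib.ThompsonWielandt.sideOfOrbit b a d hd') h1 h6 hK with ⟨h2, he⟩ | ⟨h2, he⟩
  · exact Or.inl ⟨hidx ▸ h2, he⟩
  · refine Or.inr ⟨Subgroup.index_eq_one.mp (hidx ▸ ?_), he⟩
    rw [h2, Subgroup.index_top]

end Cfsg.Agent.S3687
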