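import Cfsg.Statements.S3696
import Mathlib
-- import your own Cfsg.Agent.* helpers here

set_option autoImplicit false
open Cfsg

namespace Cfsg.Agent.S3696

theorem amgm (L : List ℕ) : L.prod * L.length ^ L.length ≤ L.sum ^ L.length := by
  rcases Nat.eq_zero_or_pos L.length with h | h
  · rw [List.length_eq_zero_iff.1 h]; simp
  have hw : (0:ℝ) < ∑ _i ∈ (Finset.univ : Finset (Fin L.length)), (1:ℝ) := by simp [h]
  have := Real.geom_mean_le_arith_mean (Finset.univ : Finset (Fin L.length)) (fun _ => (1:ℝ))
    (fun i => (L.get i : ℝ)) (fun _ _ => zero_le_one) hw (fun _ _ => by positivity)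
  simp only [Real.rpow_one, one_mul, Finset.sum_const, Finset.card_univ, Fintype.card_fin,
    nsmul_eq_mul, mul_one] at this
  have h2 := pow_le_pow_left₀ (by positivity) this L.length
  rw [Real.rpow_inv_natCast_pow (by positivity) h.ne', div_pow, le_div_iff₀ (by positivity)] at h2
  have hp' : (∏ i : Fin L.length, L.get i) = L.prod := by
    rw [← List.prod_ofFn, List.ofFn_get]
  have hs' : (∑ i : Fin L.length, L.get i) = L.sum := by
    rw [← List.sum_ofFn, List.ofFn_get]
  rw [← hp', ← hs']
  exact_mod_cast h2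

/-- `p^e` is split into `r` parts of sum at most `p^e`. -/
theorem split (p e r : ℕ) (hp : 2 ≤ p) (hr : 1 ≤ r) (hre : r ≤ e) :
    (r - 1) * p + p ^ (e - r + 1) ≤ p ^ e := by
  induction r, hr using Nat.le_induction generalizing e with
  | base => simp [show e - 1 + 1 = e by omega]
  | succ r hr ih =>
    obtain ⟨e, rfl⟩ : ∃ e', e = e' + 1 := ⟨e - 1, by omega⟩
    have h1 := ih e (by omega)
    have h2 : p ≤ p ^ e := Nat.le_self_pow (by omega) p
    have h3 : p ^ e + p ^ e ≤ p ^ (e + 1) := by rw [pow_succ]; nlinarith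
    rw [show e + 1 - (r + 1) + 1 = e - r + 1 by omega, show r + 1 - 1 = (r - 1) + 1 by omega]
    nlinarith

theorem key {Ω : Type*} [Fintype Ω] (p : ℕ) [Fact p.Prime] (A : Subgroup (Equiv.Perm Ω))
    [IsMulCommutative A] (hA : IsPGroup p A) (B : Subgroup A) :
    ∀ k : ℕ, Nat.card {x : B // x ^ p = 1} = p ^ k →
    ∃ L : List ℕ, L.length = k ∧ (∀ l ∈ L, 1 ≤ l) ∧ Nat.card B ≤ L.prod ∧
      L.sum ≤ Nat.card {z : Ω // ∃ b ∈ B, (b : Equiv.Perm Ω) z ≠ z} := by
  classical
  have hp : p.Prime := Fact.out
  induction B using WellFoundedLT.induction with | _ B ih =>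
  intro k hk
  let T : Subgroup A :=
    { carrier := {x | x ^ p = 1}
      one_mem' := one_pow p
      mul_mem' := fun {x y} hx hy => by
        show (x * y) ^ p = 1
        rw [Commute.mul_pow (mul_comm' x y), hx, hy, one_mul]
      inv_mem' := fun {x} hx => by
        show x⁻¹ ^ p = 1
        rw [inv_pow, hx, inv_one] }
  have hW : ∀ C : Subgroup A, Nat.card {x : C // x ^ p = 1} = Nat.card (C ⊓ T : Subgroup A) :=
    fun C => Nat.card_congr
      { toFun := fun x => ⟨x.1.1, x.1.2, by
          show (x.1.1 : A) ^ p = 1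
          have := congrArg Subtype.val x.2; simpa using this⟩
        invFun := fun x => ⟨⟨x.1, x.2.1⟩, Subtype.ext (show (x.1 : A) ^ p = 1 from x.2.2)⟩
        left_inv := fun _ => rfl
        right_inv := fun _ => rfl }
  by_cases hB : B = ⊥
  · subst hB
    have : k = 0 := by
      by_contra hk0
      have h1 : Nat.card {x : (⊥ : Subgroup A) // x ^ p = 1} ≤ 1 :=
        Finite.card_le_one_iff_subsingleton.2 inferInstance
      have h2 : p ≤ p ^ k := Nat.le_self_pow hk0 p
      have := hp.two_le; omega
    exact ⟨[], by simp [this], by simp, by simp, by simp⟩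
  · obtain ⟨b, hbB, hb1⟩ := (Subgroup.ne_bot_iff_exists_ne_one.1 hB |> fun ⟨⟨b, hb⟩, h⟩ =>
      (⟨b, hb, fun e => h (Subtype.ext e)⟩ : ∃ b, b ∈ B ∧ b ≠ 1))
    obtain ⟨t, ht⟩ := hA b
    -- an element of order p in B
    have hdvd : p ∣ Nat.card B := by
      have hpg : IsPGroup p B := hA.to_subgroup B
      obtain ⟨n, hn⟩ := hpg.exists_card_eq
      rcases n with _ | n
      · have h1 : Nat.card B = 1 := by simpa using hn
        exact absurd (Subgroup.card_eq_one.1 h1) hB
      · rw [hn]; exact dvd_pow_self p (by omega)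
    obtain ⟨c, hc⟩ := exists_prime_orderOf_dvd_card' p hdvd
    have hc1 : ((c : A) : Equiv.Perm Ω) ≠ 1 := fun h => by
      have : c = 1 := Subtype.ext (Subtype.ext h)
      rw [this, orderOf_one] at hc; exact hp.one_lt.ne hc
    obtain ⟨a, ha⟩ : ∃ a, ((c : A) : Equiv.Perm Ω) a ≠ a := by
      by_contra h; push Not at h; exact hc1 (Equiv.ext h)
    let C : Subgroup A := B ⊓ MulAction.stabilizer A a
    have hcC : (c : A) ∉ C := fun h => ha h.2
    have hlt : C < B := lt_of_le_of_ne inf_le_left fun h => hcC (h.symm ▸ c.2)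
    obtain ⟨kC, hkC⟩ : ∃ kC, Nat.card (C ⊓ T : Subgroup A) = p ^ kC :=
      (hA.to_subgroup (C ⊓ T)).exists_card_eq
    obtain ⟨L, hLlen, hLpos, hLprod, hLsum⟩ := ih C hlt kC (by rw [hW, hkC])
    -- the orbit of a
    have horb : Nat.card (MulAction.orbit B a) * Nat.card C = Nat.card B := by
      have h1 : MulAction.stabilizer B a = C.subgroupOf B := by
        ext x
        simp only [C, Subgroup.mem_subgroupOf, Subgroup.mem_inf, MulAction.mem_stabilizer_iff]
        exact ⟨fun h => ⟨x.2, h⟩, fun h => h.2⟩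
      have := Subgroup.index_mul_card (MulAction.stabilizer B a)
      rw [MulAction.index_stabilizer, h1,
        Nat.card_congr (Subgroup.subgroupOfEquivOfLe hlt.le).toEquiv, ← Nat.card_coe_set_eq] at this
      exact this
    obtain ⟨e, he⟩ := (hA.to_subgroup B).card_orbit a
    have hle : Nat.card (B ⊓ T : Subgroup A) ≤ p ^ e * p ^ kC := by
      rw [← hkC, ← he]
      have h1 := Subgroup.index_mul_card ((C ⊓ T).subgroupOf (B ⊓ T))
      rw [Nat.card_congr (Subgroup.subgroupOfEquivOfLe (inf_le_inf_right T hlt.le)).toEquiv] at h1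
      rw [← h1]
      apply Nat.mul_le_mul_right
      have h2 : (C ⊓ T).subgroupOf (B ⊓ T) =
          MulAction.stabilizer (B ⊓ T : Subgroup A) a := by
        ext x
        simp only [C, Subgroup.mem_subgroupOf, Subgroup.mem_inf, MulAction.mem_stabilizer_iff]
        exact ⟨fun h => h.1.2, fun h => ⟨⟨x.2.1, h⟩, x.2.2⟩⟩
      rw [h2, MulAction.index_stabilizer, ← Nat.card_coe_set_eq]
      refine Nat.card_mono (Set.toFinite _) ?_
      rintro _ ⟨x, rfl⟩
      exact ⟨⟨x.1, x.2.1⟩, rfl⟩
    have hlt2 : p ^ kC < p ^ k := by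
      rw [← hk, hW, ← hkC]
      refine lt_of_not_ge fun h => hcC ?_
      have heq := Subgroup.eq_of_le_of_card_ge (inf_le_inf_right T hlt.le) h
      have hcT : (c : A) ∈ B ⊓ T := ⟨c.2, by
        show (c : A) ^ p = 1
        rw [← Subgroup.coe_pow, ← hc, pow_orderOf_eq_one]; rfl⟩
      rw [← heq] at hcT
      exact hcT.1
    have hkk : kC < k := (Nat.pow_lt_pow_iff_right hp.one_lt).1 hlt2
    have hke : k ≤ e + kC := by
      rw [← hW, hk, ← pow_add] at hle
      exact (Nat.pow_le_pow_iff_right hp.one_lt).1 hle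
    set r := k - kC with hr
    refine ⟨L ++ (List.replicate (r - 1) p ++ [p ^ (e - r + 1)]), ?_, ?_, ?_, ?_⟩
    · simp [hLlen]; omega
    · intro l hl
      simp only [List.mem_append, List.mem_replicate, List.mem_singleton] at hl
      rcases hl with h | ⟨_, h⟩ | h
      · exact hLpos l h
      · rw [h]; exact hp.one_lt.le
      · rw [h]; exact Nat.one_le_pow _ _ hp.pos
    · rw [← horb, he, List.prod_append, List.prod_append, List.prod_replicate, List.prod_singleton,
        ← pow_add, show r - 1 + (e - r + 1) = e by omega, mul_comm (p ^ e)]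
      exact Nat.mul_le_mul_right _ hLprod
    · rw [List.sum_append, List.sum_append, List.sum_replicate, List.sum_singleton, smul_eq_mul]
      refine le_trans (Nat.add_le_add hLsum ((split p e r hp.two_le (by omega) (by omega)).trans he.ge)) ?_
      rw [← Nat.card_sum]
      refine Nat.card_le_card_of_injective (Sum.elim
        (fun z => ⟨z.1, by obtain ⟨x, hx, hz⟩ := z.2; exact ⟨x, hlt.le hx, hz⟩⟩)
        (fun z => ⟨z.1, c, c.2, ?_⟩)) ?_
      · obtain ⟨x, hx⟩ := z.2
        have hxc : ((c : A) : Equiv.Perm Ω) * ((x : A) : Equiv.Perm Ω) = (x : A) * (c : A) :=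
          congrArg Subtype.val (mul_comm' (c : A) (x : A))
        intro h
        rw [← hx] at h
        apply ha
        apply ((x : A) : Equiv.Perm Ω).injective
        have := congrArg (fun g : Equiv.Perm Ω => g a) hxc
        simp only [Equiv.Perm.mul_apply] at this
        exact this.symm.trans h
      · rintro (u | u) (v | v) h <;> simp only [Sum.elim_inl, Sum.elim_inr, Subtype.mk.injEq] at h
        · rw [Subtype.ext h]
        · exfalso
          obtain ⟨x, hx, hu⟩ := u.2
          obtain ⟨y, hy⟩ := v.2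
          apply hu
          rw [h, ← hy]
          have hxy : ((x : A) : Equiv.Perm Ω) * ((y : A) : Equiv.Perm Ω) = (y : A) * (x : A) :=
            congrArg Subtype.val (mul_comm' x (y : A))
          have h2 : ((x : A) : Equiv.Perm Ω) a = a := hx.2
          have := congrArg (fun g : Equiv.Perm Ω => g a) hxy
          simp only [Equiv.Perm.mul_apply, h2] at this
          exact this
        · exfalso
          obtain ⟨x, hx, hv⟩ := v.2
          obtain ⟨y, hy⟩ := u.2
          apply hv
          rw [← h, ← hy]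
          have hxy : ((x : A) : Equiv.Perm Ω) * ((y : A) : Equiv.Perm Ω) = (y : A) * (x : A) :=
            congrArg Subtype.val (mul_comm' x (y : A))
          have h2 : ((x : A) : Equiv.Perm Ω) a = a := hx.2
          have := congrArg (fun g : Equiv.Perm Ω => g a) hxy
          simp only [Equiv.Perm.mul_apply, h2] at this
          exact this
        · rw [Subtype.ext h]


/-- Let p be a prime, Ω a finite set with n ≥ p elements, and A an abelian p-subgroup of the symmetric group on Ω whose elements of order dividing p number p^k (so k is the rank of A). Then |A| · k^k ≤ n^k, that is, |A| ≤ (n/k)^k. -/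
theorem result {Ω : Type*} [Fintype Ω] [DecidableEq Ω]
    (p : ℕ) (hp : p.Prime) (hn : p ≤ Fintype.card Ω) (A : Subgroup (Equiv.Perm Ω)) (hA : IsPGroup p A) (hab : IsMulCommutative A)
    (k : ℕ) (hk : Nat.card {x : A // x ^ p = 1} = p ^ k) :
    Nat.card A * k ^ k ≤ Fintype.card Ω ^ k := by
  classical
  haveI := hab
  letI : CommGroup A := { (inferInstance : Group A) with mul_comm := fun x y => mul_comm' x y }
  haveI : Fact p.Prime := ⟨hp⟩
  have hk' : Nat.card {x : (⊤ : Subgroup A) // x ^ p = 1} = p ^ k := by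
    rw [← hk]
    exact Nat.card_congr (Equiv.subtypeEquiv Subgroup.topEquiv.toEquiv
      (fun x => by
        constructor <;> intro h
        · have := congrArg (fun y : (⊤ : Subgroup A) => (y : A)) h
          simpa using this
        · apply Subtype.ext; simpa using h))
  obtain ⟨L, hLlen, hLpos, hLprod, hLsum⟩ := key p A hA (⊤ : Subgroup A) k hk'
  rw [Subgroup.card_top] at hLprod
  have h1 := amgm L
  rw [hLlen] at h1
  calc Nat.card A * k ^ k ≤ L.prod * k ^ k := Nat.mul_le_mul_right _ hLprod
    _ ≤ L.sum ^ k := h1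
    _ ≤ Fintype.card Ω ^ k := Nat.pow_le_pow_left (hLsum.trans (by
          rw [Nat.card_eq_fintype_card.symm]
          exact Nat.card_le_card_of_injective Subtype.val Subtype.val_injective)) _

end Cfsg.Agent.S3696
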