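import Cfsg.Statements.S3703
import Mathlib
import Cfsg.Agent.Lib.Frobenius.Basic
import Cfsg.Agent.Lib.Coprime.Sylow
import Cfsg.Agent.Lib.Coprime.Basic
-- import your own Cfsg.Agent.* helpers here

set_option autoImplicit false
open Cfsg

namespace Cfsg.Agent.S3703

open scoped commutatorElement

variable {G : Type*} [Group G] [Finite G]

/-- A Sylow subgroup of `M` of order prime to `|N|` not centralising `N`. -/
theorem exists_noncentral {N M : Subgroup G} [N.Normal] {Fb : Subgroup (G ⧸ N)} (hNM : N ≤ M)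
    (hmapM : M.map (QuotientGroup.mk' N) = Fb) (hcop : (Nat.card Fb).Coprime (Nat.card N))
    (hnot : ¬ Fb ≤ (Subgroup.centralizer (N : Set G)).map (QuotientGroup.mk' N)) :
    ∃ r, r.Prime ∧ ¬ r ∣ Nat.card N ∧ ∃ R : Subgroup G, IsPGroup r R ∧ R ≤ M ∧
      ¬ r ∣ R.relIndex M ∧ ¬ R ≤ Subgroup.centralizer (N : Set G) := by
  classical
  by_contra hno
  push Not at hno
  apply hnot
  set C := (Subgroup.centralizer (N : Set G)).map (QuotientGroup.mk' N)
  suffices h : Nat.card Fb ∣ Nat.card (C ⊓ Fb : Subgroup (G ⧸ N)) by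
    have := Subgroup.eq_of_le_of_card_ge inf_le_right (Nat.le_of_dvd Nat.card_pos h)
    exact inf_eq_right.1 this
  rw [← Nat.factorization_le_iff_dvd Nat.card_pos.ne' Nat.card_pos.ne']
  intro r
  by_cases h0 : (Nat.card Fb).factorization r = 0
  · rw [h0]; exact zero_le
  have hr : r.Prime := Nat.prime_of_mem_primeFactors (Nat.support_factorization _ ▸ Finsupp.mem_support_iff.2 h0)
  have hrF : r ∣ Nat.card Fb := Nat.dvd_of_factorization_pos h0
  have hrN : ¬ r ∣ Nat.card N := fun h => hr.not_dvd_one (hcop ▸ Nat.dvd_gcd hrF h)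
  haveI := Fact.mk hr
  obtain ⟨Q⟩ : Nonempty (Sylow r M) := inferInstance
  set R := (Q : Subgroup M).map M.subtype with hR
  have hidx : ¬ r ∣ R.relIndex M := by
    rw [hR, Subgroup.relIndex, Subgroup.subgroupOf, Subgroup.comap_map_eq_self_of_injective M.subtype_injective]
    exact Q.not_dvd_index
  have hcen := hno r hr hrN R (Q.2.map _) (Subgroup.map_subtype_le _) hidx
  have hle : R.map (QuotientGroup.mk' N) ≤ C ⊓ Fb := le_inf (Subgroup.map_mono hcen)
    (hmapM ▸ Subgroup.map_mono (Subgroup.map_subtype_le _))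
  have hcardR : Nat.card (R.map (QuotientGroup.mk' N)) = Nat.card R := by
    have hinj : Function.Injective ((QuotientGroup.mk' N).comp R.subtype) := by
      rw [injective_iff_map_eq_one]
      intro x hx
      have hxN : (x : G) ∈ N := (QuotientGroup.eq_one_iff _).1 hx
      obtain ⟨t, ht⟩ := (Q.2.map M.subtype).exists_card_eq
      have hd : orderOf x ∣ 1 := by
        have h1 : orderOf x ∣ Nat.card R := orderOf_dvd_natCard x
        have h2 := orderOf_dvd_natCard (⟨_, hxN⟩ : N)
        rw [Subgroup.orderOf_mk, Subgroup.orderOf_coe] at h2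
        have hc : Nat.Coprime (Nat.card R) (Nat.card N) := by
          rw [hR, ht]; exact Nat.Coprime.pow_left _ ((hr.coprime_iff_not_dvd).2 hrN)
        rw [← hc]
        exact Nat.dvd_gcd h1 h2
      exact orderOf_eq_one_iff.1 (Nat.dvd_one.1 hd)
    have := Nat.card_congr (MonoidHom.ofInjective hinj).toEquiv
    rw [this, MonoidHom.range_comp, Subgroup.range_subtype]
  have h1 : Nat.card M = Nat.card Fb * Nat.card N := by
    have h := Subgroup.index_mul_card (N.subgroupOf M)
    rw [Nat.card_congr (Subgroup.subgroupOfEquivOfLe hNM).toEquiv] at h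
    rw [← h, ← hmapM]
    congr 1
    have := Subgroup.relIndex_ker (QuotientGroup.mk' N) (K := M)
    rw [QuotientGroup.ker_mk'] at this
    rw [← this]; rfl
  have hcR : Nat.card R = r ^ (Nat.card Fb).factorization r := by
    rw [hR, ← Nat.card_congr ((Q : Subgroup M).equivMapOfInjective _ M.subtype_injective).toEquiv,
      Q.card_eq_multiplicity, h1, Nat.factorization_mul Nat.card_pos.ne' Nat.card_pos.ne', Finsupp.add_apply,
      Nat.factorization_eq_zero_of_not_dvd hrN, add_zero]
  have hd := Subgroup.card_dvd_of_le hle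
  rw [hcardR, hcR] at hd
  exact (hr.pow_dvd_iff_le_factorization Nat.card_pos.ne').1 hd

/-- An invariant Sylow subgroup of `N` not centralised by `R`, with its Frattini argument. -/
theorem exists_invariant {N R : Subgroup G} [N.Normal] (hRN : R ≤ Subgroup.normalizer (N : Set G))
    (hcop : (Nat.card R).Coprime (Nat.card N)) (hsol : Group.IsSolvable R)
    (hnc : ¬ R ≤ Subgroup.centralizer (N : Set G)) :
    ∃ q, q.Prime ∧ ∃ P : Subgroup G, (IsPGroup q P ∧ Subgroup.normalizer (P : Set G) ⊔ N = ⊤) ∧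
      P ≤ N ∧ R ≤ Subgroup.normalizer (P : Set G) ∧ ¬ R ≤ Subgroup.centralizer (P : Set G) := by
  classical
  by_contra hno
  push Not at hno
  apply hnc
  rw [← Subgroup.le_centralizer_iff]
  suffices h : Nat.card N ∣ Nat.card (Subgroup.centralizer (R : Set G) ⊓ N : Subgroup G) by
    have := Subgroup.eq_of_le_of_card_ge inf_le_right (Nat.le_of_dvd Nat.card_pos h)
    exact inf_eq_right.1 this
  rw [← Nat.factorization_le_iff_dvd Nat.card_pos.ne' Nat.card_pos.ne']
  intro q
  by_cases h0 : (Nat.card N).factorization q = 0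
  · rw [h0]; exact zero_le
  have hq : q.Prime := Nat.prime_of_mem_primeFactors (Nat.support_factorization _ ▸ Finsupp.mem_support_iff.2 h0)
  haveI := Fact.mk hq
  obtain ⟨Q, hQ⟩ := Cfsg.Agent.Lib.Coprime.exists_invariant_sylow (p := q) hRN hcop (Or.inl hsol)
  set P := (Q : Subgroup N).map N.subtype with hP
  have hcen := hno q hq P ⟨Q.2.map _, Sylow.normalizer_sup_eq_top Q⟩ (Subgroup.map_subtype_le _) hQ
  have hle : P ≤ Subgroup.centralizer (R : Set G) ⊓ N :=
    le_inf (Subgroup.le_centralizer_iff.1 hcen) (Subgroup.map_subtype_le _)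
  have hd := Subgroup.card_dvd_of_le hle
  rw [hP, ← Nat.card_congr ((Q : Subgroup N).equivMapOfInjective _ N.subtype_injective).toEquiv,
    Q.card_eq_multiplicity] at hd
  exact (hq.pow_dvd_iff_le_factorization Nat.card_pos.ne').1 hd

/-- If all `(v * h) ^ n` vanish on a group `P` normalised by `R⟨h⟩` (`h` fixed-point-free on `R`),
then `R` centralises `P`. -/
theorem centralizes (h : G) (n : ℕ) (hn : 0 < n) (hhn : h ^ n = 1) (R : Subgroup G) {r : ℕ} (hR : IsPGroup r R)
    (hhR : h ∈ Subgroup.normalizer (R : Set G))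
    (hfpf : ∀ i < n, i ≠ 0 → ∀ x ∈ R, Commute (h ^ i) x → x = 1)
    {q : ℕ} [Fact q.Prime] (P : Subgroup G) (hP : IsPGroup q P) (hhP : h ∈ Subgroup.normalizer (P : Set G))
    (hRP : R ≤ Subgroup.normalizer (P : Set G)) (hcop : (Nat.card R).Coprime (Nat.card P))
    (hall : ∀ v ∈ P, (v * h) ^ n = 1) : R ≤ Subgroup.centralizer (P : Set G) := by
  classical
  induction hk : Nat.card P using Nat.strong_induction_on generalizing P with
  | _ k ih =>
    subst hk
    haveI : Fintype R := Fintype.ofFinite R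
    rw [← Subgroup.le_centralizer_iff, ← Subgroup.commutator_eq_bot_iff_le_centralizer]
    by_cases hPbot : P = ⊥
    · rw [hPbot, Subgroup.commutator_bot_left]
    let cj : Subgroup.normalizer (P : Set G) →* MulAut P := P.normalizerMonoidHom
    let A := Abelianization P
    let act : Subgroup.normalizer (P : Set G) →* MulAut A :=
      { toFun := fun g => (cj g).abelianizationCongr
        map_one' := by
          apply MulEquiv.ext
          intro a
          obtain ⟨x, rfl⟩ : ∃ x, Abelianization.of x = a := Quot.exists_rep a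
          rw [abelianizationCongr_of, map_one]; rfl
        map_mul' := fun g g' => by
          apply MulEquiv.ext
          intro a
          obtain ⟨x, rfl⟩ : ∃ x, Abelianization.of x = a := Quot.exists_rep a
          rw [abelianizationCongr_of, map_mul, MulAut.mul_apply, MulAut.mul_apply, abelianizationCongr_of,
            abelianizationCongr_of] }
    have hact : ∀ g (x : P), act g (Abelianization.of x) = Abelianization.of (cj g x) :=
      fun g x => abelianizationCongr_of _ _
    let X : Subgroup.normalizer (P : Set G) := ⟨h, hhP⟩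
    let ι : R →* Subgroup.normalizer (P : Set G) := Subgroup.inclusion hRP
    have hXn : X ^ n = 1 := Subtype.ext (by simp [X, hhn])
    have hsum : ∀ a : A, ∏ i ∈ Finset.range n, act (X ^ i) a = 1 := by
      intro a
      obtain ⟨v, rfl⟩ : ∃ x, Abelianization.of x = a := Quot.exists_rep a
      have hpos : ∀ i : ℕ, ∃ w : P, (w : G) = ((v : G) * h) ^ i * (h ^ i)⁻¹ ∧
          Abelianization.of w = ∏ j ∈ Finset.range i, act (X ^ j) (Abelianization.of v) := by
        intro i
        induction i with
        | zero => exact ⟨1, by simp, by simp⟩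
        | succ i ih =>
          obtain ⟨w, hw, hw'⟩ := ih
          refine ⟨v * cj X w, ?_, ?_⟩
          · show (v : G) * (h * (w : G) * h⁻¹) = _
            rw [hw, pow_succ' ((v : G) * h), pow_succ' h]; group
          · rw [map_mul, ← hact, hw', map_prod, Finset.prod_range_succ', mul_comm]
            congr 1
            · exact Finset.prod_congr rfl fun j _ => by rw [pow_succ', map_mul, MulAut.mul_apply]
            · simp
      obtain ⟨w, hw, hw'⟩ := hpos n
      rw [← hw']
      have : w = 1 := Subtype.ext (by rw [hw, hall _ v.2, hhn]; simp)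
      rw [this, map_one]
    have hconj : ∀ (y : R) (a : A), ∏ i ∈ Finset.range n, act ((ι y * X * (ι y)⁻¹) ^ i) a = 1 := by
      intro y a
      have : ∀ i, act ((ι y * X * (ι y)⁻¹) ^ i) a = act (ι y) (act (X ^ i) (act (ι y)⁻¹ a)) := by
        intro i
        simp only [conj_pow, map_mul, MulAut.mul_apply]
      simp_rw [this]
      rw [← map_prod, hsum, map_one]
    have hfix : ∀ (a : A) (y0 : R), act (ι y0) a = a := by
      intro a
      set S := ∏ y : R, act (ι y) a with hS
      have hSfix : ∀ (b : A) (y0 : R), act (ι y0) (∏ y : R, act (ι y) b) = ∏ y : R, act (ι y) b := by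
        intro b y0
        rw [map_prod]
        refine (Finset.prod_congr rfl fun y _ => ?_).trans
          (Equiv.prod_comp (Equiv.mulLeft y0) (fun y => act (ι y) b))
        simp [map_mul, MulAut.mul_apply]
      have hall' : ∏ i ∈ Finset.range n, ∏ y : R, act ((ι y * X * (ι y)⁻¹) ^ i) a = 1 := by
        rw [Finset.prod_comm]
        exact Finset.prod_eq_one fun y _ => hconj y a
      obtain ⟨n', hn'⟩ : ∃ n', n = n' + 1 := ⟨n - 1, by omega⟩
      rw [hn', Finset.prod_range_succ'] at hall'
      have hterm : ∀ i ∈ Finset.range n', ∀ y0 : R,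
          act (ι y0) (∏ y : R, act ((ι y * X * (ι y)⁻¹) ^ (i + 1)) a) =
            ∏ y : R, act ((ι y * X * (ι y)⁻¹) ^ (i + 1)) a := by
        intro i hi
        rw [Finset.mem_range] at hi
        set j := i + 1 with hj
        have hxjR : h ^ j ∈ Subgroup.normalizer (R : Set G) := pow_mem hhR j
        let τ : R → R := fun y => y * ⟨h ^ j * (y : G)⁻¹ * (h ^ j)⁻¹,
          (Subgroup.mem_normalizer_iff.1 hxjR _).1 (R.inv_mem y.2)⟩
        have hτ : ∀ y : R, (ι y * X * (ι y)⁻¹) ^ j = ι (τ y) * X ^ j := by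
          intro y
          apply Subtype.ext
          simp only [conj_pow, Subgroup.coe_mul, Subgroup.coe_inv, SubmonoidClass.coe_pow]
          show (y : G) * h ^ j * (y : G)⁻¹ = (y : G) * (h ^ j * (y : G)⁻¹ * (h ^ j)⁻¹) * h ^ j
          simp [mul_assoc]
        have hinj : Function.Injective τ := by
          intro a b hab
          have h' : (a : G) * (h ^ j * (a : G)⁻¹ * (h ^ j)⁻¹) = (b : G) * (h ^ j * (b : G)⁻¹ * (h ^ j)⁻¹) :=
            congrArg Subtype.val hab
          have h4 : Commute (h ^ j) ((b : G)⁻¹ * a) := by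
            have h5 : (a : G) * (h ^ j * (a : G)⁻¹) = (b : G) * (h ^ j * (b : G)⁻¹) := by
              have := congrArg (· * h ^ j) h'
              simpa [mul_assoc] using this
            have h6 := congrArg (fun t => (b : G)⁻¹ * t * (a : G)) h5
            simp only [mul_assoc, inv_mul_cancel, mul_one, inv_mul_cancel_left] at h6
            exact Commute.symm (by rw [Commute, SemiconjBy, mul_assoc]; exact h6)
          exact Subtype.ext (inv_mul_eq_one.1 (hfpf j (by omega) (by omega) _ (R.mul_mem (R.inv_mem b.2) a.2) h4)).symm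
        have hre : ∏ y : R, act ((ι y * X * (ι y)⁻¹) ^ j) a = ∏ y : R, act (ι y) (act (X ^ j) a) := by
          refine (Finset.prod_congr rfl fun y _ => ?_).trans (Equiv.prod_comp
            (Equiv.ofBijective τ (Finite.injective_iff_bijective.1 hinj)) (fun y => act (ι y) (act (X ^ j) a)))
          rw [hτ, map_mul, MulAut.mul_apply]
          rfl
        rw [hre]; exact hSfix _
      intro y0
      have h2 := congrArg (act (ι y0)) hall'
      rw [map_mul, map_prod, Finset.prod_congr rfl (fun i hi => hterm i hi y0), map_one, ← hall'] at h2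
      have h3 := mul_left_cancel h2
      simp only [pow_zero, map_one, MulAut.one_apply, Finset.prod_const, Finset.card_univ, map_pow] at h3
      have hd : (Fintype.card R).Coprime (Nat.card A) := by
        rw [Fintype.card_eq_nat_card]
        exact hcop.coprime_dvd_right (Subgroup.card_quotient_dvd_card _)
      have hinj := (powCoprime (G := A) hd.symm).injective
      exact hinj h3
    have hle : ⁅P, R⁆ ≤ ⁅P, P⁆ := by
      rw [Subgroup.commutator_le]
      intro x hx y hy
      have h3 := hfix (Abelianization.of (⟨x, hx⟩ : P)) ⟨y, hy⟩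
      rw [hact] at h3
      have hmem : (⟨x, hx⟩ : P) * (cj (ι ⟨y, hy⟩) ⟨x, hx⟩)⁻¹ ∈ commutator P := by
        rw [← Abelianization.ker_of, MonoidHom.mem_ker, map_mul, map_inv, h3, mul_inv_cancel]
      have hmap := Subgroup.mem_map_of_mem P.subtype hmem
      rw [commutator_def, Subgroup.map_commutator, ← MonoidHom.range_eq_map, Subgroup.range_subtype] at hmap
      have e : P.subtype ((⟨x, hx⟩ : P) * (cj (ι ⟨y, hy⟩) ⟨x, hx⟩)⁻¹) = ⁅x, y⁆ := by
        show x * (y * x * y⁻¹)⁻¹ = _
        rw [commutatorElement_def]; group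
      rwa [e] at hmap
    have hlt : ⁅P, R⁆ < P := by
      refine lt_of_le_of_lt hle ?_
      exact Cfsg.Agent.Lib.Coprime.commutator_lt_of_isPGroup hP hP Subgroup.le_normalizer hPbot
    have hnR : R ≤ Subgroup.normalizer (R : Set G) := Subgroup.le_normalizer
    have hz : Subgroup.zpowers h ≤ Subgroup.normalizer ((⁅P, R⁆ : Subgroup G) : Set G) :=
      Cfsg.Agent.Lib.Coprime.le_normalizer_commutator (Subgroup.zpowers_le.2 hhP) (Subgroup.zpowers_le.2 hhR)
    have hclt : Nat.card (⁅P, R⁆ : Subgroup G) < Nat.card P :=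
      lt_of_not_ge fun hge => hlt.ne (Subgroup.eq_of_le_of_card_ge hlt.le hge)
    have h1 := ih (Nat.card (⁅P, R⁆ : Subgroup G)) hclt ⁅P, R⁆
      (hP.to_le hlt.le) (hz (Subgroup.mem_zpowers h))
      (Cfsg.Agent.Lib.Coprime.le_normalizer_commutator hRP hnR)
      (hcop.coprime_dvd_right (Subgroup.card_dvd_of_le hlt.le)) (fun v hv => hall v (hlt.le hv)) rfl
    refine Cfsg.Agent.Lib.Coprime.commutator_eq_bot_of_commutator_commutator_eq_bot hRP hcop ?_
    rw [Subgroup.commutator_eq_bot_iff_le_centralizer, Subgroup.le_centralizer_iff]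
    exact h1


/-- Let N be a normal subgroup of the finite group G such that G/N is a Frobenius group with kernel F and cyclic complement H, where the order of F is coprime to that of N and F is not contained in the image of C_G(N) in G/N. Then G has an element of order p·#H for some prime p dividing the order of N. (A standard tool in recognising groups by their element orders.) -/
theorem result {G : Type*} [Group G] [Finite G] (N : Subgroup G) [N.Normal]
    (Fb Hb : Subgroup (G ⧸ N)) [Fb.Normal] (hHb : Cfsg.IsFrobeniusComplement Hb) (hker : Cfsg.frobeniusKernel Hb = (Fb : Set (G ⧸ N)))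
    (hcyc : IsCyclic Hb) (hcop : (Nat.card Fb).Coprime (Nat.card N))
    (hnot : ¬ Fb ≤ (Subgroup.centralizer (N : Set G)).map (QuotientGroup.mk' N)) :
    ∃ p : ℕ, p.Prime ∧ p ∣ Nat.card N ∧ ∃ g : G, orderOf g = p * Nat.card Hb := by
  classical
  set M : Subgroup G := Fb.comap (QuotientGroup.mk' N) with hM
  have hNM : N ≤ M := fun x hx => by
    show (QuotientGroup.mk' N) x ∈ Fb
    have : (QuotientGroup.mk' N) x = 1 := (QuotientGroup.eq_one_iff x).2 hx
    rw [this]; exact Fb.one_mem
  haveI hMn : M.Normal := inferInstance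
  have hmapM : M.map (QuotientGroup.mk' N) = Fb :=
    Subgroup.map_comap_eq_self_of_surjective (QuotientGroup.mk'_surjective N) Fb
  -- a Sylow subgroup `R` of `M` of order prime to `|N|` which does not centralise `N`
  obtain ⟨r, hr, hrN, R, hR, hRM, hRidx, hRnc⟩ := exists_noncentral hNM hmapM hcop hnot
  haveI := Fact.mk hr
  have hcopR : (Nat.card R).Coprime (Nat.card N) := by
    obtain ⟨t, ht⟩ := hR.exists_card_eq
    rw [ht]
    exact Nat.Coprime.pow_left _ ((hr.coprime_iff_not_dvd).2 hrN)
  have hRNn : R ≤ Subgroup.normalizer (N : Set G) := by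
    rw [Subgroup.normalizer_eq_top_iff.2 inferInstance]; exact le_top
  have hsolR : Group.IsSolvable R := by
    haveI := hR.isNilpotent
    infer_instance
  obtain ⟨q, hq, P, hP, hPN, hRP, hRPnc⟩ := exists_invariant hRNn hcopR hsolR hRnc
  haveI := Fact.mk hq
  have hqN : q ∣ Nat.card N := by
    by_contra h
    obtain ⟨t, ht⟩ := hP.1.exists_card_eq
    have hd := Subgroup.card_dvd_of_le hPN
    rw [ht] at hd
    rcases t with _ | t
    · rw [pow_zero] at ht
      apply hRPnc
      rw [Subgroup.card_eq_one.1 ht]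
      intro x _ y hy
      rw [SetLike.mem_coe, Subgroup.mem_bot] at hy
      simp [hy]
    · exact h ((dvd_pow_self q (Nat.succ_ne_zero t)).trans hd)
  set G1 := Subgroup.normalizer (P : Set G) with hG1
  have hG1N : G1 ⊔ N = ⊤ := hP.2
  set M1 := M.subgroupOf G1 with hM1
  -- `R` is a Sylow subgroup of `M1`
  have hRQ : IsPGroup r ((R.subgroupOf G1).subgroupOf M1) := (hR.comap_subtype).comap_subtype
  have hidx : ¬ r ∣ ((R.subgroupOf G1).subgroupOf M1).index := by
    intro h
    apply hRidx
    have e1 : ((R.subgroupOf G1).subgroupOf M1).index = R.relIndex (M ⊓ G1) := by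
      show (R.subgroupOf G1).relIndex M1 = _
      rw [show M1 = (M ⊓ G1).subgroupOf G1 by rw [hM1, Subgroup.inf_subgroupOf_right],
        Subgroup.relIndex_subgroupOf inf_le_right]
    rw [e1] at h
    exact h.trans ⟨(M ⊓ G1).relIndex M, (Subgroup.relIndex_mul_relIndex R (M ⊓ G1) M (le_inf hRM hRP) inf_le_left).symm⟩
  set Q := hRQ.toSylow hidx with hQ
  have hfr : Subgroup.normalizer ((R.subgroupOf G1 : Subgroup G1) : Set G1) ⊔ M1 = ⊤ := by
    have h := Sylow.normalizer_sup_eq_top Q
    have hle : R.subgroupOf G1 ≤ M1 := Subgroup.comap_mono hRM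
    have e : (Q : Subgroup M1).map M1.subtype = R.subgroupOf G1 := by
      rw [hQ, IsPGroup.toSylow_coe, Subgroup.subgroupOf_map_subtype, inf_of_le_left hle]
    rwa [e] at h
  -- lift a generator of the complement
  obtain ⟨γ, hγ⟩ := hcyc.exists_generator
  obtain ⟨g0, hg0⟩ := QuotientGroup.mk'_surjective N (γ : G ⧸ N)
  obtain ⟨g1, hg1, n1, hn1, rfl⟩ := Subgroup.mem_sup_of_normal_right.1 (hG1N ▸ Subgroup.mem_top g0)
  obtain ⟨h1, hh1, m1, hm1, he⟩ := Subgroup.mem_sup_of_normal_right.1
    (hfr ▸ Subgroup.mem_top (⟨g1, hg1⟩ : G1))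
  set h : G := (h1 : G) with hh
  have hhP : h ∈ Subgroup.normalizer (P : Set G) := h1.2
  have hhR : h ∈ Subgroup.normalizer (R : Set G) := by
    have key : ∀ k : G1, k ∈ Subgroup.normalizer ((R.subgroupOf G1 : Subgroup G1) : Set G1) →
        ∀ y ∈ R, (k : G) * y * (k : G)⁻¹ ∈ R := fun k hk y hy =>
      (Subgroup.mem_normalizer_iff.1 hk ⟨y, hRP hy⟩).1 hy
    rw [Subgroup.mem_normalizer_iff]
    intro y
    refine ⟨key h1 hh1 y, fun hy => ?_⟩
    have := key h1⁻¹ (inv_mem hh1) _ hy
    simpa [hh, mul_assoc] using this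
  -- the image of `h` generates a complement
  set π := QuotientGroup.mk' N with hπ
  have hbh : π h * π (m1 : G) = (γ : G ⧸ N) := by
    rw [← hg0, map_mul π g1 n1, show π n1 = 1 from (QuotientGroup.eq_one_iff n1).2 hn1, mul_one, ← map_mul]
    exact congrArg π (congrArg Subtype.val he)
  have hm1F : π (m1 : G) ∈ Fb := hm1
  have hFH : ∀ x ∈ Fb, x ∈ Hb → x = 1 := fun x hx hxH =>
    Cfsg.Agent.Lib.Frobenius.eq_one_of_mem_frobeniusKernel (H := Hb) (by rw [hker]; exact hx) hxH
  have hγ1 : (γ : G ⧸ N) ≠ 1 := by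
    intro e
    apply hHb.1
    rw [eq_bot_iff]
    intro x hx
    obtain ⟨k, hk⟩ := Subgroup.mem_zpowers_iff.1 (hγ ⟨x, hx⟩)
    rw [Subgroup.mem_bot]
    have := congrArg Subtype.val hk
    simp only [Subgroup.coe_zpow, e, one_zpow] at this
    exact this.symm
  have hγord : orderOf (γ : G ⧸ N) = Nat.card Hb := by
    rw [Subgroup.orderOf_coe]; exact orderOf_eq_card_of_forall_mem_zpowers hγ
  have hquot : ∀ k : ℕ, π h ^ k ∈ Fb → Nat.card Hb ∣ k := by
    intro k hk
    rw [← hγord]
    apply orderOf_dvd_of_pow_eq_one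
    refine hFH _ ?_ (Hb.pow_mem γ.2 k)
    rw [← QuotientGroup.eq_one_iff] at hk ⊢
    rw [QuotientGroup.mk_pow] at hk ⊢
    rw [← hbh, QuotientGroup.mk_mul, (QuotientGroup.eq_one_iff _).2 hm1F, mul_one]
    exact hk
  have hconj : ∃ c, c⁻¹ * π h * c ∈ Hb := by
    by_contra hc
    push Not at hc
    have : π h ∈ Fb := by
      rw [← SetLike.mem_coe, ← hker, Cfsg.Agent.Lib.Frobenius.mem_frobeniusKernel_iff]
      exact Or.inr hc
    apply hγ1
    refine hFH _ ?_ γ.2
    rw [← hbh]
    exact Fb.mul_mem this hm1F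
  obtain ⟨c, hc⟩ := hconj
  set n := Nat.card Hb with hn
  have hordπ : orderOf (π h) = n := by
    refine Nat.dvd_antisymm ?_ (hquot _ (by rw [pow_orderOf_eq_one]; exact Fb.one_mem))
    have h' := orderOf_dvd_natCard (⟨_, hc⟩ : Hb)
    rw [Subgroup.orderOf_mk] at h'
    rwa [show c⁻¹ * π h * c = MulAut.conj c⁻¹ (π h) by simp, MulEquiv.orderOf_eq] at h'
  have hdvd : n ∣ orderOf h := hordπ ▸ orderOf_map_dvd π h
  by_cases hm : orderOf h = n
  swap
  · -- `h` already has too large an order
    obtain ⟨k, hk⟩ := hdvd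
    have hn0 : 0 < n := Nat.card_pos
    have hk1 : k ≠ 1 := fun h1' => hm (by rw [hk, h1', mul_one])
    obtain ⟨p, hp, hpk⟩ := Nat.exists_prime_and_dvd hk1
    refine ⟨p, hp, ?_, h ^ (orderOf h / (p * n)), orderOf_pow_orderOf_div (orderOf_pos h).ne' ?_⟩
    · have hNmem : h ^ n ∈ N := by
        rw [← QuotientGroup.eq_one_iff, QuotientGroup.mk_pow]
        show π h ^ n = 1
        rw [← hordπ, pow_orderOf_eq_one]
      have hd := orderOf_dvd_natCard (⟨h ^ n, hNmem⟩ : N)
      rw [Subgroup.orderOf_mk, orderOf_pow_of_dvd hn0.ne' ⟨k, hk⟩, hk, Nat.mul_div_cancel_left _ hn0] at hd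
      exact hpk.trans hd
    · rw [hk, mul_comm p n]; exact Nat.mul_dvd_mul_left n hpk
  have hhn : h ^ n = 1 := by rw [← hm, pow_orderOf_eq_one]
  have hn0 : 0 < n := Nat.card_pos
  have hcopP : (Nat.card R).Coprime (Nat.card P) := hcopR.coprime_dvd_right (Subgroup.card_dvd_of_le hPN)
  have hfpf : ∀ i < n, i ≠ 0 → ∀ x ∈ R, Commute (h ^ i) x → x = 1 := by
    intro i hi hi0 x hx hcomm
    have hx' : π x ∈ Fb := hRM hx
    have hne : (c⁻¹ * π h * c) ^ i ≠ 1 := by
      intro e
      have e' : π h ^ i = 1 := by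
        rw [show c⁻¹ * π h * c = MulAut.conj c⁻¹ (π h) by simp, ← map_pow] at e
        exact (MulEquiv.map_eq_one_iff _).1 e
      exact absurd (Nat.le_of_dvd (Nat.pos_of_ne_zero hi0) (hquot i (by rw [e']; exact Fb.one_mem))) (by omega)
    have hx1 : c⁻¹ * π x * c ∈ Hb := by
      refine Cfsg.Agent.Lib.Frobenius.centralizer_le hHb (Hb.pow_mem hc i) hne ?_
      rw [Subgroup.mem_centralizer_singleton_iff]
      have h2 : Commute (MulAut.conj c⁻¹ (π h) ^ i) (MulAut.conj c⁻¹ (π x)) := by
        rw [← map_pow, ← map_pow]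
        exact (hcomm.map π).map (MulAut.conj c⁻¹)
      simpa using h2.eq.symm
    have hx2 : c⁻¹ * π x * c ∈ Fb := by
      have := (inferInstance : Fb.Normal).conj_mem _ hx' c⁻¹
      simpa using this
    have h1' := hFH _ hx2 hx1
    have hxN : x ∈ N := by
      rw [← QuotientGroup.eq_one_iff]
      show π x = 1
      have := congrArg (fun t => c * t * c⁻¹) h1'
      simpa [mul_assoc] using this
    have hd : orderOf (⟨x, hx⟩ : R) ∣ 1 := by
      rw [← hcopR]
      refine Nat.dvd_gcd (orderOf_dvd_natCard _) ?_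
      rw [Subgroup.orderOf_mk]
      have := orderOf_dvd_natCard (⟨x, hxN⟩ : N)
      rwa [Subgroup.orderOf_mk] at this
    rw [Nat.dvd_one, orderOf_eq_one_iff] at hd
    exact congrArg Subtype.val hd
  obtain ⟨v, hv, hvne⟩ : ∃ v ∈ P, (v * h) ^ n ≠ 1 := by
    by_contra hall
    push Not at hall
    exact hRPnc (centralizes h n hn0 hhn R hR hhR hfpf P hP.1 hhP hRP hcopP hall)
  obtain ⟨t, ht⟩ : ∃ t, orderOf ((v * h) ^ n) = q ^ t := by
    have hmem : (v * h) ^ n ∈ P := by
      have key : ∀ i : ℕ, (v * h) ^ i * (h ^ i)⁻¹ ∈ P := by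
        intro i
        induction i with
        | zero => simp
        | succ i ih =>
          have e : (v * h) ^ (i + 1) * (h ^ (i + 1))⁻¹ = v * (h * ((v * h) ^ i * (h ^ i)⁻¹) * h⁻¹) := by
            rw [pow_succ' (v * h), pow_succ' h]; group
          rw [e]
          exact P.mul_mem hv ((Subgroup.mem_normalizer_iff.1 hhP _).1 ih)
      have := key n
      rwa [hhn, inv_one, mul_one] at this
    obtain ⟨t, ht⟩ := IsPGroup.iff_orderOf.1 hP.1 ⟨_, hmem⟩
    exact ⟨t, by rwa [Subgroup.orderOf_mk] at ht⟩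
  have ht0 : t ≠ 0 := fun e => hvne (by rw [e, pow_zero, orderOf_eq_one_iff] at ht; exact ht)
  have hnd : n ∣ orderOf (v * h) := by
    rw [← hordπ]
    have : π (v * h) = π h := by
      rw [map_mul, show π v = 1 from (QuotientGroup.eq_one_iff v).2 (hPN hv), one_mul]
    rw [← this]; exact orderOf_map_dvd π _
  refine ⟨q, hq, hqN, (v * h) ^ (orderOf (v * h) / (q * n)), orderOf_pow_orderOf_div (orderOf_pos _).ne' ?_⟩
  rw [orderOf_pow_of_dvd hn0.ne' hnd] at ht
  rw [← Nat.div_mul_cancel hnd, ht]
  exact Nat.mul_dvd_mul_right (dvd_pow_self q ht0) n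

end Cfsg.Agent.S3703
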