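import Cfsg.Statements.S3704
import Mathlib
-- import your own Cfsg.Agent.* helpers here

set_option autoImplicit false
open Cfsg

namespace Cfsg.Agent.S3704

open Pointwise
open scoped Matrix

variable {G Ω : Type*} [Group G] [MulAction G Ω]

/-- Incidence matrix between cosets of `H` and points, for the `H`-orbit of `a`. -/
noncomputable def inc (H : Subgroup G) (a : Ω) : Matrix (G ⧸ H) Ω ℚ := by
  classical exact Matrix.of fun c x => if c.out⁻¹ • x ∈ MulAction.orbit H a then 1 else 0

theorem inc_apply_one (H : Subgroup G) (a : Ω) (g : G) (x : Ω) :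
    ((g : G ⧸ H).out⁻¹ • x ∈ MulAction.orbit H a) ↔ g⁻¹ • x ∈ MulAction.orbit H a := by
  obtain ⟨h, hh⟩ := QuotientGroup.mk_out_eq_mul H g
  rw [hh, mul_inv_rev, mul_smul]
  show (h⁻¹ : H) • (g⁻¹ • x) ∈ MulAction.orbit H a ↔ _
  rw [← MulAction.orbit_eq_iff, MulAction.orbit_smul, MulAction.orbit_eq_iff]

theorem inc_smul (H : Subgroup G) (a : Ω) (g : G) (c : G ⧸ H) (x : Ω) :
    inc H a (g • c) (g • x) = inc H a c x := by
  classical
  induction c using QuotientGroup.induction_on with
  | H k =>
    simp only [inc, Matrix.of_apply, MulAction.Quotient.smul_mk]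
    have : ((g * k : G))⁻¹ • g • x = k⁻¹ • x := by rw [mul_inv_rev, mul_smul, inv_smul_smul]
    rw [if_congr (by rw [inc_apply_one, smul_eq_mul, this, ← inc_apply_one]) rfl rfl]

variable [Finite G] [Fintype Ω]

theorem no_three (h2 : MulAction.IsMultiplyPretransitive G Ω 2) (H : Subgroup G)
    (hidx : H.index = Nat.card Ω) (hnt : ¬ MulAction.IsPretransitive H Ω) (a b c : Ω)
    (hab : b ∉ MulAction.orbit H a) (hac : c ∉ MulAction.orbit H a) (hbc : c ∉ MulAction.orbit H b) : False := by
  classical
  haveI : Fintype (G ⧸ H) := Fintype.ofFinite _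
  have h2' : ∀ {x y z w : Ω}, x ≠ y → z ≠ w → ∃ g : G, g • x = z ∧ g • y = w :=
    MulAction.is_two_pretransitive_iff.1 h2
  haveI htr : MulAction.IsPretransitive G Ω := MulAction.isPretransitive_of_is_two_pretransitive
  set n : ℚ := (Fintype.card Ω : ℚ) with hn
  have hcard : Fintype.card (G ⧸ H) = Fintype.card Ω := by
    rw [← Nat.card_eq_fintype_card, ← Subgroup.index_eq_card, hidx, Nat.card_eq_fintype_card]
  -- products of two incidence matrices lie in the span of `1` and `J`
  have key : ∀ p q : Ω, ∃ s t : ℚ, (inc H p)ᵀ * inc H q = s • (1 : Matrix Ω Ω ℚ) + t • Matrix.of (fun _ _ => 1) := by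
    intro p q
    have hinv : ∀ (g : G) (x y : Ω), ((inc H p)ᵀ * inc H q) (g • x) (g • y) = ((inc H p)ᵀ * inc H q) x y := by
      intro g x y
      simp only [Matrix.mul_apply, Matrix.transpose_apply]
      rw [← Equiv.sum_comp (MulAction.toPerm g)]
      exact Finset.sum_congr rfl fun k _ => by simp [inc_smul]
    obtain ⟨x0⟩ : Nonempty Ω := ⟨a⟩
    have hby : b ≠ a := fun h => hab (h ▸ MulAction.mem_orbit_self _)
    refine ⟨((inc H p)ᵀ * inc H q) a a - ((inc H p)ᵀ * inc H q) a b, ((inc H p)ᵀ * inc H q) a b, ?_⟩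
    ext x y
    simp only [Matrix.add_apply, Matrix.smul_apply, Matrix.one_apply, Matrix.of_apply, smul_eq_mul, mul_one]
    by_cases hxy : x = y
    · subst hxy
      obtain ⟨g, hg⟩ := MulAction.exists_smul_eq G a x
      rw [← hg, hinv]; simp
    · obtain ⟨g, hg, hg'⟩ := h2' hby.symm hxy
      rw [← hg, ← hg', hinv]; simp [hby.symm]
  have hrow : ∀ (p : Ω) (k : G ⧸ H), ∑ x, inc H p k x = (Nat.card (MulAction.orbit H p) : ℚ) := by
    intro p k
    simp only [inc, Matrix.of_apply]
    rw [Finset.sum_boole, Nat.card_coe_set_eq, ← Set.ncard_coe_finset]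
    congr 1
    rw [← Set.ncard_smul_set k.out (MulAction.orbit H p)]
    congr 1
    ext x
    simp [Set.mem_smul_set_iff_inv_smul_mem]
  have hcol : ∀ (p x : Ω), ∑ k, inc H p k x = (Nat.card (MulAction.orbit H p) : ℚ) := by
    intro p
    have hconst : ∀ x, ∑ k, inc H p k x = ∑ k, inc H p k a := by
      intro x
      obtain ⟨g, rfl⟩ := MulAction.exists_smul_eq G a x
      rw [← Equiv.sum_comp (MulAction.toPerm g)]
      exact Finset.sum_congr rfl fun k _ => by simp [inc_smul]
    intro x
    have h1 : ∑ x, ∑ k, inc H p k x = ∑ k : G ⧸ H, ∑ x, inc H p k x := Finset.sum_comm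
    simp only [hconst, hrow, Finset.sum_const, Finset.card_univ, nsmul_eq_mul, hcard] at h1
    rw [hconst]
    exact mul_left_cancel₀ (by exact_mod_cast (Fintype.card_pos_iff.2 ⟨a⟩).ne') h1
  set A := inc H a with hA
  set k : ℚ := (Nat.card (MulAction.orbit H a) : ℚ) with hk
  have hk0 : k ≠ 0 := by
    rw [hk]
    haveI : Nonempty (MulAction.orbit H a) := ⟨⟨a, MulAction.mem_orbit_self a⟩⟩
    exact_mod_cast Nat.card_pos.ne'
  have hkn : k ≠ n := by
    intro h
    apply hnt
    have huniv : MulAction.orbit H a = Set.univ := by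
      refine Set.eq_of_subset_of_ncard_le (Set.subset_univ _) ?_
      rw [Set.ncard_univ, ← Nat.card_coe_set_eq]
      rw [hk, hn, Nat.cast_inj] at h
      rw [h, Nat.card_eq_fintype_card]
    refine ⟨fun x y => ?_⟩
    have hx : x ∈ MulAction.orbit H a := huniv ▸ Set.mem_univ _
    have hy : y ∈ MulAction.orbit H a := huniv ▸ Set.mem_univ _
    rw [← MulAction.orbit_eq_iff.2 hx] at hy
    exact hy
  obtain ⟨s0, t0, hAA⟩ := key a a
  -- `A ᵀ A` has non-zero `1`-coefficient
  have hA2 : ∀ k' x, A k' x * A k' x = A k' x := by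
    intro k' x; simp only [hA, inc, Matrix.of_apply]; split_ifs <;> simp
  have hdiag : s0 + t0 = k := by
    have h := congrFun (congrFun hAA a) a
    simp only [Matrix.mul_apply, Matrix.transpose_apply, Matrix.add_apply, Matrix.smul_apply,
      Matrix.one_apply_eq, Matrix.of_apply, smul_eq_mul, mul_one, ← hA, hA2] at h
    rw [hA, hcol a a] at h
    exact h.symm
  have hsum : s0 + t0 * n = k * k := by
    have h : ∑ y, ((inc H a)ᵀ * inc H a) a y = ∑ y, (s0 • (1 : Matrix Ω Ω ℚ) + t0 • Matrix.of (fun _ _ => (1 : ℚ)) : Matrix Ω Ω ℚ) a y := by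
      rw [hAA]
    simp only [Matrix.mul_apply, Matrix.transpose_apply, Matrix.add_apply, Matrix.smul_apply,
      Matrix.one_apply, Matrix.of_apply, smul_eq_mul, mul_one, mul_ite, mul_zero, Finset.sum_add_distrib,
      Finset.sum_ite_eq, Finset.mem_univ, if_true, Finset.sum_const, Finset.card_univ, nsmul_eq_mul] at h
    rw [Finset.sum_comm] at h
    simp only [← Finset.mul_sum, hrow, ← Finset.sum_mul, hcol, ← hk, ← hn] at h
    linarith
  have hs0 : s0 ≠ 0 := by
    intro h
    rw [h, zero_add] at hdiag hsum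
    rw [hdiag] at hsum
    exact hkn (mul_left_cancel₀ hk0 hsum).symm
  -- `A ᵀ` is injective
  have hinj : Function.Injective A.mulVec := by
    rw [← Matrix.coe_mulVecLin, ← LinearMap.ker_eq_bot, Submodule.eq_bot_iff]
    intro v hv
    rw [LinearMap.mem_ker, Matrix.mulVecLin_apply] at hv
    have h : (Aᵀ * A) *ᵥ v = 0 := by rw [← Matrix.mulVec_mulVec, hv, Matrix.mulVec_zero]
    rw [hA, hAA] at h
    have h' : ∀ x, s0 * v x + t0 * ∑ y, v y = 0 := by
      intro x
      have := congrFun h x
      simpa [Matrix.add_mulVec, Matrix.smul_mulVec, Matrix.mulVec, dotProduct, Matrix.one_apply,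
        Finset.mul_sum, add_mul, Finset.sum_add_distrib] using this
    have hS : (s0 + t0 * n) * ∑ y, v y = 0 := by
      have := Finset.sum_eq_zero (s := Finset.univ) fun x _ => h' x
      rw [Finset.sum_add_distrib, ← Finset.mul_sum, Finset.sum_const, Finset.card_univ, nsmul_eq_mul, ← hn] at this
      linarith
    rw [hsum] at hS
    have hS' : ∑ y, v y = 0 := (mul_eq_zero.1 hS).resolve_left (mul_self_ne_zero.2 hk0)
    funext x
    have := h' x
    rw [hS', mul_zero, add_zero] at this
    exact (mul_eq_zero.1 this).resolve_left hs0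
  let e : (G ⧸ H) ≃ Ω := Fintype.equivOfCardEq hcard
  have hTinj : Function.Injective Aᵀ.mulVec := by
    have h1 : IsUnit (A.submatrix e.symm id) := by
      rw [← Matrix.mulVec_injective_iff_isUnit]
      intro v w hvw
      apply hinj
      funext j
      have := congrFun hvw (e j)
      simpa [Matrix.mulVec, dotProduct] using this
    have h2 : IsUnit (A.submatrix e.symm id)ᵀ := by rwa [Matrix.isUnit_transpose]
    have h3 := Matrix.mulVec_injective_iff_isUnit.2 h2
    intro v w hvw
    have : v ∘ e.symm = w ∘ e.symm := by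
      apply h3
      funext x
      have := congrFun hvw x
      simp only [Matrix.mulVec, dotProduct, Matrix.transpose_apply, Matrix.submatrix_apply, id, Function.comp_apply] at this ⊢
      rw [Equiv.sum_comp e.symm (fun j => A j x * v j), Equiv.sum_comp e.symm (fun j => A j x * w j)]
      exact this
    funext j
    have := congrFun this (e j)
    simpa using this
  obtain ⟨s1, t1, hAB⟩ := key a b
  set σ : ℚ := s1 / s0
  set τ : ℚ := (t1 - σ * t0) / k
  have hB : inc H b = σ • A + τ • Matrix.of (fun _ _ => (1 : ℚ)) := by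
    have hcols : ∀ y, Aᵀ *ᵥ (fun j => inc H b j y) = Aᵀ *ᵥ (fun j => σ * A j y + τ * 1) := by
      intro y
      funext x
      have h1 := congrFun (congrFun hAB x) y
      have h0 := congrFun (congrFun hAA x) y
      simp only [Matrix.mul_apply, Matrix.transpose_apply, Matrix.add_apply, Matrix.smul_apply,
        Matrix.of_apply, smul_eq_mul, mul_one, ← hA] at h1 h0
      simp only [Matrix.mulVec, dotProduct, Matrix.transpose_apply, mul_one, mul_add, Finset.sum_add_distrib]
      rw [h1, ← Finset.sum_mul]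
      simp only [mul_left_comm _ σ, ← Finset.mul_sum]
      rw [h0, hA, hcol a x, ← hk]
      have e1 : σ * s0 = s1 := div_mul_cancel₀ _ hs0
      have e2 : τ * k = t1 - σ * t0 := div_mul_cancel₀ _ hk0
      linear_combination -(1 : Matrix Ω Ω ℚ) x y * e1 - e2
    ext j y
    have := congrFun (hTinj (hcols y)) j
    simpa using this
  have hval : ∀ x, inc H b ((1 : G) : G ⧸ H) x = σ * A ((1 : G) : G ⧸ H) x + τ := by
    intro x
    have := congrFun (congrFun hB ((1 : G) : G ⧸ H)) x
    simpa using this
  have e1 : ∀ p x : Ω, inc H p ((1 : G) : G ⧸ H) x = if x ∈ MulAction.orbit H p then 1 else 0 := by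
    intro p x
    simp only [inc, Matrix.of_apply]
    exact if_congr (by rw [inc_apply_one, inv_one, one_smul]) rfl rfl
  have vb := hval b
  have vc := hval c
  rw [hA, e1, e1, if_pos (MulAction.mem_orbit_self b), if_neg hab] at vb
  rw [hA, e1, e1, if_neg hbc, if_neg hac] at vc
  linarith


/-- Let G be a finite group acting faithfully and 2-transitively on a finite set Ω of size n, and let H be a subgroup of index n in G which is not transitive on Ω and fixes no point of Ω. Then H has exactly two orbits on Ω. -/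
theorem result {G Ω : Type*} [Group G] [Finite G] [MulAction G Ω] [FaithfulSMul G Ω] [Finite Ω] (h2 : MulAction.IsMultiplyPretransitive G Ω 2) (H : Subgroup G) (hidx : H.index = Nat.card Ω) (hnt : ¬ MulAction.IsPretransitive H Ω) (hfix : ∀ a : Ω, ∃ h : H, h • a ≠ a) : Nat.card (MulAction.orbitRel.Quotient H Ω) = 2 := by
  classical
  letI : Fintype Ω := Fintype.ofFinite Ω
  set Q := MulAction.orbitRel.Quotient H Ω with hQ
  haveI : Fintype Q := Fintype.ofFinite Q
  have hne : Nonempty Ω := by
    by_contra h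
    exact hnt ⟨fun x => absurd ⟨x⟩ h⟩
  have hge : 2 ≤ Nat.card Q := by
    by_contra h
    apply hnt
    haveI : Subsingleton Q := Finite.card_le_one_iff_subsingleton.1 (by omega)
    refine ⟨fun x y => ?_⟩
    have : MulAction.orbitRel H Ω y x := Quotient.exact (Subsingleton.elim (Quotient.mk'' y : Q) (Quotient.mk'' x))
    exact MulAction.orbitRel_apply.1 this
  refine le_antisymm ?_ hge
  by_contra h
  rw [not_le, Nat.card_eq_fintype_card, Fintype.two_lt_card_iff] at h
  obtain ⟨u, v, w, huv, huw, hvw⟩ := h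
  obtain ⟨a, rfl⟩ := Quotient.exists_rep u
  obtain ⟨b, rfl⟩ := Quotient.exists_rep v
  obtain ⟨c, rfl⟩ := Quotient.exists_rep w
  exact no_three h2 H hidx hnt a b c (fun h => huv (Quotient.sound (MulAction.orbitRel_apply.2 h)).symm)
    (fun h => huw (Quotient.sound (MulAction.orbitRel_apply.2 h)).symm)
    (fun h => hvw (Quotient.sound (MulAction.orbitRel_apply.2 h)).symm)

end Cfsg.Agent.S3704
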