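import Cfsg.Statements.S3709
import Cfsg.Agent.Lib.Phan.Rigid

set_option autoImplicit false
open Cfsg

namespace Cfsg.Agent.S3709

open Cfsg.Agent.Lib.Phan

/-- Recognition of unitary groups from a weak Phan system. Let F be a finite field with q² elements, q > 3, and n ≥ 3. Let G be a group with subgroups U_0, …, U_{n−1}, each isomorphic to SU(2, q²), and, for each pair of consecutive indices, a subgroup V_{i,i+1} in which U_i and U_{i+1} form a standard pair (some isomorphism from SU(3, q²), or from its central quotient PSU(3, q²), onto V_{i,i+1} carries the two block-diagonal SU(2, q²) subgroups, or their images, onto U_i and U_{i+1}). Suppose that U_i and U_j commute elementwise whenever the indices differ by at least 2, and that G is generated by the U_i together with the V_{i,i+1}. Then G is a homomorphic image of SU(n+1, q²). (G is not assumed finite.) -/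
theorem result {G : Type*} [Group G] (n : ℕ) (hn : 3 ≤ n)
    (F : Type*) [Field F] [Fintype F] (q : ℕ) (hq : 3 < q) (hF : Fintype.card F = q ^ 2)
    (U : Fin n → Subgroup G) (e : ∀ i, ↥(Cfsg.SU 2 F q) ≃* ↥(U i))
    (V : Fin n → Fin n → Subgroup G)
    (h1 : ∀ i j : Fin n, (i : ℕ) + 2 ≤ j → ∀ x ∈ U i, ∀ y ∈ U j, x * y = y * x)
    (h2 : ∀ i j : Fin n, (i : ℕ) + 1 = j → Cfsg.IsStandardUnitaryPair (V i j) (U i) (U j) F q)
    (hgen : (⨆ i, U i) ⊔ (⨆ (i : Fin n) (j : Fin n) (_ : (i : ℕ) + 1 = j), V i j) = ⊤) :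
    ∃ f : ↥(Cfsg.SU (n + 1) F q) →* G, Function.Surjective f := by
  classical
  obtain ⟨m, rfl⟩ : ∃ m, n = m + 2 := ⟨n - 2, by omega⟩
  have mk : ∀ i : ℕ, i ≤ m → ∃ φ : Cfsg.SU 3 F q →* G,
      GoodPair hF φ (U (Fin.ofNat (m + 2) i)) (U (Fin.ofNat (m + 2) (i + 1))) ∧
        φ.range = V (Fin.ofNat (m + 2) i) (Fin.ofNat (m + 2) (i + 1)) := fun i hi => by
    refine exists_good hF (h2 _ _ ?_)
    simp [Nat.mod_eq_of_lt (show i < m + 2 by omega), Nat.mod_eq_of_lt (show i + 1 < m + 2 by omega)]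
  let P : ℕ → (Cfsg.SU 3 F q →* G) → Prop := fun i φ => i ≤ m →
    GoodPair hF φ (U (Fin.ofNat (m + 2) i)) (U (Fin.ofNat (m + 2) (i + 1))) ∧
      φ.range = V (Fin.ofNat (m + 2) i) (Fin.ofNat (m + 2) (i + 1))
  have step : ∀ i φ, P i φ → ∃ φ', P (i + 1) φ' ∧
      (i + 1 ≤ m → ∀ x : Cfsg.SU 2 F q, φ' (blk hF 0 (by omega) x) = φ (blk hF 1 (by omega) x)) := by
    intro i φ hφ
    by_cases hi : i + 1 ≤ m
    · obtain ⟨ψ, hψ, hψr⟩ := mk (i + 1) hi
      obtain ⟨φ', h1', h2', h3'⟩ := exists_next hF hq (hφ (by omega)).1 hψ fun a ha c hc =>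
        h1 _ _ (by simp [Nat.mod_eq_of_lt (show i < m + 2 by omega),
          Nat.mod_eq_of_lt (show i + 1 + 1 < m + 2 by omega)]) a ha c hc
      exact ⟨φ', fun _ => ⟨h1', h2'.trans hψr⟩, fun _ => h3'⟩
    · exact ⟨φ, fun h => absurd h hi, fun h => absurd h hi⟩
  obtain ⟨φ₀, hφ₀⟩ := mk 0 (Nat.zero_le _)
  choose next hnext1 hnext2 using step
  let Φ : ∀ i, {φ // P i φ} := fun i =>
    Nat.rec ⟨φ₀, fun _ => hφ₀⟩ (fun i prev => ⟨next i prev.1 prev.2, hnext1 i prev.1 prev.2⟩) i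
  let φ : ℕ → (Cfsg.SU 3 F q →* G) := fun i => (Φ i).1
  have hg : ∀ i, i ≤ m → GoodPair hF (φ i) (U (Fin.ofNat (m + 2) i)) (U (Fin.ofNat (m + 2) (i + 1))) ∧
      (φ i).range = V (Fin.ofNat (m + 2) i) (Fin.ofNat (m + 2) (i + 1)) := fun i hi => (Φ i).2 hi
  have hlink : ∀ i, i + 1 ≤ m → ∀ x : Cfsg.SU 2 F q,
      φ (i + 1) (blk hF 0 (by omega) x) = φ i (blk hF 1 (by omega) x) := fun i hi => hnext2 i (Φ i).1 (Φ i).2 hi
  let u : ℕ → (Cfsg.SU 2 F q →* G) := fun i =>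
    if i ≤ m then (φ i).comp (blk hF 0 (show 0 + 2 ≤ 3 by omega)) else (φ m).comp (blk hF 1 (show 1 + 2 ≤ 3 by omega))
  have hu : ∀ j, j ≤ m + 1 → ∀ x, u j x ∈ U (Fin.ofNat (m + 2) j) := fun j hj x => by
    by_cases h : j ≤ m
    · simp only [u, if_pos h]
      exact (hg j h).1.2.1 ▸ ⟨x, rfl⟩
    · simp only [u, if_neg h]
      obtain rfl : j = m + 1 := by omega
      exact (hg m le_rfl).1.2.2 ▸ ⟨x, rfl⟩
  obtain ⟨f, hf⟩ := exists_amalgam hF hq m φ u (fun i hi x => by simp only [u, if_pos hi]; rfl)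
    (fun i hi x => by
      by_cases h : i + 1 ≤ m
      · simp only [u, if_pos h]; exact (hlink i h x).symm
      · simp only [u, if_neg h]
        obtain rfl : i = m := by omega
        rfl)
    (fun i j hij hj x y => h1 _ _ (by simp [Nat.mod_eq_of_lt (show i < m + 2 by omega),
      Nat.mod_eq_of_lt (show j < m + 2 by omega), hij]) _ (hu i (by omega) x) _ (hu j hj y))
  have hV : ∀ i, i ≤ m → (φ i).range ≤ f.range := fun i hi => by
    rintro _ ⟨x, rfl⟩
    exact ⟨blk hF i (by omega) x, hf i (by omega) x⟩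
  refine ⟨f, MonoidHom.range_eq_top.mp (top_le_iff.mp (hgen ▸ ?_))⟩
  refine sup_le (iSup_le fun i => ?_) (iSup_le fun i => iSup_le fun j => iSup_le fun hij => ?_)
  · rcases (show (i : ℕ) ≤ m ∨ (i : ℕ) = m + 1 by omega) with hi | hi
    · have e := (hg i hi).1.2.1
      rw [Fin.ofNat_val_eq_self] at e
      exact e ▸ (by rintro _ ⟨x, rfl⟩; exact hV i hi ⟨_, rfl⟩)
    · have e := (hg m le_rfl).1.2.2
      rw [show Fin.ofNat (m + 2) (m + 1) = i from Fin.ext (by simp [hi])] at e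
      exact e ▸ (by rintro _ ⟨x, rfl⟩; exact hV m le_rfl ⟨_, rfl⟩)
  · have hi : (i : ℕ) ≤ m := by omega
    have e := (hg i hi).2
    rw [Fin.ofNat_val_eq_self, show Fin.ofNat (m + 2) ((i : ℕ) + 1) = j from
      Fin.ext (by simp [hij])] at e
    exact e ▸ hV i hi

end Cfsg.Agent.S3709
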