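import Cfsg.Statements.S3713
import Cfsg.Agent.Lib.SpAmalgam.Main

set_option autoImplicit false
open Cfsg

namespace Cfsg.Agent.S3713

/-- A presentation of the symplectic group as the universal completion of an amalgam of small subgroups. Let F be a field with more than two elements, n ≥ 2, and Sp the group of 2n × 2n matrices over F preserving the standard alternating form, acting on column vectors; write e_k, f_k for the standard basis vectors of the two halves (a hyperbolic basis). For each k let S_k be the subgroup of Sp fixing e_l and f_l for all l ≠ k (a copy of SL(2, F) on the plane of e_k, f_k), and for each i with i + 1 < n let M_i be the subgroup fixing every e_l and fixing f_l for all l other than i, i+1 (an abelian group isomorphic to the additive group of F³). Then Sp is the universal completion of the amalgam formed by the S_k, the M_i and the subgroups generated by two of them: for every group H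 and homomorphisms σ_k : S_k → H, μ_i : M_i → H such that for each pair of these subgroups some homomorphism on the subgroup they generate restricts to the given ones, there is exactly one homomorphism Sp → H restricting to every σ_k and μ_i. -/
theorem result
    (F : Type*) [Field F] (hF : ∃ a : F, a ≠ 0 ∧ a ≠ 1) (n : ℕ) (hn : 2 ≤ n)
    (S M : Fin n → Subgroup ↥(Matrix.symplecticGroup (Fin n) F))
    (hS : ∀ j : Fin n, S j = Subgroup.closure {A : ↥(Matrix.symplecticGroup (Fin n) F) | ∀ k : Fin n, k ≠ j →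
      ((A : ↥(Matrix.symplecticGroup (Fin n) F)) : Matrix (Fin n ⊕ Fin n) (Fin n ⊕ Fin n) F).mulVec (Pi.single (Sum.inl k) (1 : F)) = (Pi.single (Sum.inl k) (1 : F)) ∧ ((A : ↥(Matrix.symplecticGroup (Fin n) F)) : Matrix (Fin n ⊕ Fin n) (Fin n ⊕ Fin n) F).mulVec (Pi.single (Sum.inr k) (1 : F)) = (Pi.single (Sum.inr k) (1 : F))})
    (hM : ∀ i : Fin n, (i : ℕ) + 1 < n → M i = Subgroup.closure {A : ↥(Matrix.symplecticGroup (Fin n) F) |
      (∀ k : Fin n, ((A : ↥(Matrix.symplecticGroup (Fin n) F)) : Matrix (Fin n ⊕ Fin n) (Fin n ⊕ Fin n) F).mulVec (Pi.single (Sum.inl k) (1 : F)) = (Pi.single (Sum.inl k) (1 : F))) ∧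
        ∀ k : Fin n, (k : ℕ) ≠ i → (k : ℕ) ≠ (i : ℕ) + 1 → ((A : ↥(Matrix.symplecticGroup (Fin n) F)) : Matrix (Fin n ⊕ Fin n) (Fin n ⊕ Fin n) F).mulVec (Pi.single (Sum.inr k) (1 : F)) = (Pi.single (Sum.inr k) (1 : F))})
    {H : Type*} [Group H] (σ : ∀ j : Fin n, ↥(S j) →* H) (μ : ∀ i : Fin n, ↥(M i) →* H)
    (hSS : ∀ j l : Fin n, j ≠ l → ∃ Ψ : ↥(S j ⊔ S l) →* H,
      (∀ (g : ↥(Matrix.symplecticGroup (Fin n) F)) (hg : g ∈ S j), Ψ ⟨g, Subgroup.mem_sup_left hg⟩ = σ j ⟨g, hg⟩) ∧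
        (∀ (g : ↥(Matrix.symplecticGroup (Fin n) F)) (hg : g ∈ S l), Ψ ⟨g, Subgroup.mem_sup_right hg⟩ = σ l ⟨g, hg⟩))
    (hMM : ∀ i i' : Fin n, i ≠ i' → (i : ℕ) + 1 < n → (i' : ℕ) + 1 < n → ∃ Ψ : ↥(M i ⊔ M i') →* H,
      (∀ (g : ↥(Matrix.symplecticGroup (Fin n) F)) (hg : g ∈ M i), Ψ ⟨g, Subgroup.mem_sup_left hg⟩ = μ i ⟨g, hg⟩) ∧
        (∀ (g : ↥(Matrix.symplecticGroup (Fin n) F)) (hg : g ∈ M i'), Ψ ⟨g, Subgroup.mem_sup_right hg⟩ = μ i' ⟨g, hg⟩))
    (hMS : ∀ i j : Fin n, (i : ℕ) + 1 < n → ∃ Ψ : ↥(M i ⊔ S j) →* H,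
      (∀ (g : ↥(Matrix.symplecticGroup (Fin n) F)) (hg : g ∈ M i), Ψ ⟨g, Subgroup.mem_sup_left hg⟩ = μ i ⟨g, hg⟩) ∧
        (∀ (g : ↥(Matrix.symplecticGroup (Fin n) F)) (hg : g ∈ S j), Ψ ⟨g, Subgroup.mem_sup_right hg⟩ = σ j ⟨g, hg⟩)) :
    ∃! Φ : ↥(Matrix.symplecticGroup (Fin n) F) →* H,
      (∀ (j : Fin n) (g : ↥(Matrix.symplecticGroup (Fin n) F)) (hg : g ∈ S j), Φ g = σ j ⟨g, hg⟩) ∧
        (∀ (i : Fin n), (i : ℕ) + 1 < n → ∀ (g : ↥(Matrix.symplecticGroup (Fin n) F)) (hg : g ∈ M i), Φ g = μ i ⟨g, hg⟩) := by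
  classical
  have hS' : ∀ j, S j = Lib.SpAmalgam.sSub j := fun j =>
    (hS j).trans (Subgroup.closure_eq (Lib.SpAmalgam.sSub j))
  have hM' : ∀ i : Fin n, (i : ℕ) + 1 < n → M i = Lib.SpAmalgam.mSub i := fun i hi =>
    (hM i hi).trans (Subgroup.closure_eq (Lib.SpAmalgam.mSub i))
  let A : Lib.SpAmalgam.Amalg F n (H × ↥(Matrix.symplecticGroup (Fin n) F)) :=
    { π := MonoidHom.snd _ _
      sg := fun j => Lib.SpAmalgam.pairUp (S j) (σ j)
      mu := fun i => Lib.SpAmalgam.pairUp (M i) (μ i)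
      sg_hom := fun j => by rw [← hS' j]; exact Lib.SpAmalgam.homOn_pairUp _ _
      mu_hom := fun i hi => by rw [← hM' i hi]; exact Lib.SpAmalgam.homOn_pairUp _ _
      π_sg := fun _ _ _ => rfl
      π_mu := fun _ _ _ _ => rfl
      ss := fun j l h => by
        rw [← hS' j, ← hS' l]; exact Lib.SpAmalgam.coh_pairUp (hSS j l h)
      mm := fun i l h hi hl => by
        rw [← hM' i hi, ← hM' l hl]; exact Lib.SpAmalgam.coh_pairUp (hMM i l h hi hl)
      ms := fun i j hi => by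
        rw [← hM' i hi, ← hS' j]; exact Lib.SpAmalgam.coh_pairUp (hMS i j hi) }
  obtain ⟨⟨ψ, hψ⟩, htop⟩ := Lib.SpAmalgam.exists_ext_zero A hF (by omega)
  have hmem : ∀ x : ↥(Matrix.symplecticGroup (Fin n) F), x ∈ Lib.SpAmalgam.Gm 0 := fun x => by
    rw [Lib.SpAmalgam.gm_zero]; exact Subgroup.mem_top x
  refine ⟨MonoidHom.mk' (fun g => (ψ g).1) (fun x y => by
    rw [hψ.hom x (hmem x) y (hmem y)]; rfl), ⟨?_, ?_⟩, ?_⟩
  · intro j g hg
    show (ψ g).1 = _
    rw [hψ.on_s j (Nat.zero_le _) g (hS' j ▸ hg)]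
    exact Lib.SpAmalgam.pairUp_fst (S j) (σ j) hg
  · intro i hi g hg
    show (ψ g).1 = _
    rw [hψ.on_m i (Nat.zero_le _) hi g (hM' i hi ▸ hg)]
    exact Lib.SpAmalgam.pairUp_fst (M i) (μ i) hg
  · rintro Φ ⟨h1, h2⟩
    refine MonoidHom.eq_of_eqOn_dense htop ?_
    rintro g ⟨j, -, hg | ⟨hj, hg⟩⟩
    · rw [← hS' j] at hg
      show Φ g = (ψ g).1
      rw [h1 j g hg, hψ.on_s j (Nat.zero_le _) g (hS' j ▸ hg)]
      exact (Lib.SpAmalgam.pairUp_fst (S j) (σ j) hg).symm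
    · rw [← hM' j hj] at hg
      show Φ g = (ψ g).1
      rw [h2 j hj g hg, hψ.on_m j (Nat.zero_le _) hj g (hM' j hj ▸ hg)]
      exact (Lib.SpAmalgam.pairUp_fst (M j) (μ j) hg).symm

end Cfsg.Agent.S3713
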