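import Cfsg.Statements.S3733
import Mathlib

set_option autoImplicit false
open Cfsg

namespace Cfsg.Agent.S3733

/-- Let A and V be subgroups of a finite group with V abelian and nontrivial and A normalizing V. Suppose a nonempty finite family of proper subgroups of A partitions A: every non-identity element of A lies in exactly one member. If the number of members minus one is coprime to the order of V, then some member B of the family has a non-identity fixed point on V, that is V ∩ C(B) ≠ 1. -/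
theorem result {G : Type*} [Group G] [Finite G] (A V : Subgroup G) (hVab : IsMulCommutative V) (hV : V ≠ ⊥) (hAV : A ≤ Subgroup.normalizer (V : Set G)) (𝒜 : Finset (Subgroup G)) (hne : 𝒜.Nonempty) (hprop : ∀ B ∈ 𝒜, B < A) (hpart : ∀ a ∈ A, a ≠ 1 → ∃! B, B ∈ 𝒜 ∧ a ∈ B) (hk : (𝒜.card - 1).Coprime (Nat.card V)) : ∃ B ∈ 𝒜, V ⊓ Subgroup.centralizer (B : Set G) ≠ ⊥ := by
  classical
  by_contra hcon
  push Not at hcon
  haveI := Fintype.ofFinite G
  haveI : IsMulCommutative V := hVab
  letI : CommGroup V := { (inferInstance : Group V) with mul_comm := fun a b => IsMulCommutative.is_comm.comm a b }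
  -- conjugation by an element of `A` preserves `V`
  have hconj : ∀ a ∈ A, ∀ v ∈ V, a * v * a⁻¹ ∈ V := fun a ha v hv =>
    (Subgroup.mem_normalizer_iff.1 (hAV ha) v).1 hv
  let φ : ↥A → ↥V → ↥V := fun a v => ⟨(a : G) * v * (a : G)⁻¹, hconj a a.2 v v.2⟩
  -- a sum over a subgroup of `A` is a fixed point of that subgroup
  let σ : Subgroup G → ↥V → ↥V := fun B v => ∏ b ∈ Finset.univ.filter (fun a : ↥A => (a : G) ∈ B), φ b v
  have hfix : ∀ B ≤ A, ∀ v, ((σ B v : ↥V) : G) ∈ Subgroup.centralizer (B : Set G) := by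
    intro B hB v
    rw [Subgroup.mem_centralizer_iff]
    intro c hc
    have hmul : ∀ x y : ↥V, φ ⟨c, hB hc⟩ (x * y) = φ ⟨c, hB hc⟩ x * φ ⟨c, hB hc⟩ y := by
      intro x y
      ext
      simp [φ, mul_assoc]
    let f : ↥V →* ↥V := MonoidHom.mk' (φ ⟨c, hB hc⟩) hmul
    have he : f (σ B v) = σ B v := by
      simp only [σ, map_prod]
      refine Finset.prod_bij' (fun a _ => ⟨c, hB hc⟩ * a) (fun a _ => ⟨c, hB hc⟩⁻¹ * a)
        ?_ ?_ ?_ ?_ ?_
      · intro a ha; simp only [Finset.mem_filter, Finset.mem_univ, true_and] at ha ⊢; exact mul_mem hc ha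
      · intro a ha; simp only [Finset.mem_filter, Finset.mem_univ, true_and] at ha ⊢
        exact mul_mem (inv_mem hc) ha
      · intro a _; simp
      · intro a _; simp
      · intro a _
        ext
        simp [f, φ, mul_assoc]
    have := congrArg (fun z : ↥V => (z : G)) he
    simp only [f, MonoidHom.mk'_apply, φ] at this
    exact mul_inv_eq_iff_eq_mul.1 this
  have hσ : ∀ B ∈ 𝒜, ∀ v, σ B v = 1 := by
    intro B hB v
    have : ((σ B v : ↥V) : G) ∈ V ⊓ Subgroup.centralizer (B : Set G) :=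
      ⟨(σ B v).2, hfix B (hprop B hB).le v⟩
    rw [hcon B hB, Subgroup.mem_bot] at this
    exact Subtype.ext this
  have hσA : ∀ v, σ A v = 1 := by
    intro v
    obtain ⟨B, hB⟩ := hne
    have : ((σ A v : ↥V) : G) ∈ V ⊓ Subgroup.centralizer (B : Set G) :=
      ⟨(σ A v).2, Subgroup.centralizer_le (hprop B hB).le (hfix A le_rfl v)⟩
    rw [hcon B hB, Subgroup.mem_bot] at this
    exact Subtype.ext this
  have hcount : ∀ v, ∏ B ∈ 𝒜, σ B v = σ A v * v ^ (𝒜.card - 1) := by
    intro v
    have h1 : ∏ B ∈ 𝒜, σ B v = ∏ a : ↥A, (φ a v) ^ (𝒜.filter (fun B => (a : G) ∈ B)).card := by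
      simp only [σ]
      rw [Finset.prod_comm' (t' := Finset.univ) (s' := fun a : ↥A => 𝒜.filter (fun B => (a : G) ∈ B))]
      · simp only [Finset.prod_const]
      · intro B a; simp [and_comm]
    have h2 : σ A v = ∏ a : ↥A, φ a v := by
      simp only [σ]
      rw [Finset.filter_true_of_mem]
      intro a _; exact a.2
    rw [h1, h2, ← Finset.mul_prod_erase Finset.univ _ (Finset.mem_univ (1 : ↥A)),
      ← Finset.mul_prod_erase Finset.univ (fun a => φ a v) (Finset.mem_univ (1 : ↥A))]
    have hone : φ 1 v = v := by ext; simp [φ]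
    have hc1 : (𝒜.filter (fun B => ((1 : ↥A) : G) ∈ B)).card = 𝒜.card := by
      rw [Finset.filter_true_of_mem]; intro B _; simp [B.one_mem]
    have hrest : ∀ a ∈ Finset.univ.erase (1 : ↥A), φ a v ^ (𝒜.filter (fun B => (a : G) ∈ B)).card = φ a v := by
      intro a ha
      have ha1 : (a : G) ≠ 1 := by simpa using ha
      obtain ⟨B, hB, huniq⟩ := hpart a a.2 ha1
      have : 𝒜.filter (fun B => (a : G) ∈ B) = {B} := by
        ext C; simp only [Finset.mem_filter, Finset.mem_singleton]
        exact ⟨huniq C, fun h => h ▸ hB⟩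
      simp [this]
    rw [Finset.prod_congr rfl hrest, hone, hc1]
    obtain ⟨m, hm⟩ := Nat.exists_eq_add_of_le hne.card_pos
    rw [hm, Nat.add_sub_cancel_left, pow_add, pow_one]
    ac_rfl
  apply hV
  rw [eq_bot_iff]
  intro v hv
  have h3 := hcount ⟨v, hv⟩
  rw [Finset.prod_eq_one (fun B hB => hσ B hB _), hσA, one_mul] at h3
  have h4 : orderOf (⟨v, hv⟩ : ↥V) ∣ Nat.gcd (𝒜.card - 1) (Nat.card V) :=
    Nat.dvd_gcd (orderOf_dvd_of_pow_eq_one h3.symm) (orderOf_dvd_natCard _)
  rw [hk.gcd_eq_one, Nat.dvd_one, orderOf_eq_one_iff] at h4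
  exact Subgroup.mem_bot.2 (congrArg Subtype.val h4)

end Cfsg.Agent.S3733
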