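import Cfsg.Statements.S3734
import Cfsg.Agent.Lib.Coprime.Cocyclic

set_option autoImplicit false
open Cfsg

namespace Cfsg.Agent.S3734

/-- Let A and G be subgroups of a finite group with A abelian, A normalizing G and the orders of A and G coprime. Then G is generated by the fixed-point subgroups C_G(B) of those subgroups B of A for which A/B is cyclic (that is, A = ⟨B, a⟩ for some a), and [G, A] is generated by the commutator subgroups [C_G(B), A] over the same subgroups B. -/
theorem result {X : Type*} [Group X] [Finite X] (A G : Subgroup X) (hAab : IsMulCommutative A) (hAG : A ≤ Subgroup.normalizer (G : Set X)) (hcop : (Nat.card A).Coprime (Nat.card G)) : (⨆ B ∈ {B : Subgroup X | B ≤ A ∧ ∃ a ∈ A, B ⊔ Subgroup.zpowers a = A}, G ⊓ Subgroup.centralizer (B : Set X)) = G ∧ (⨆ B ∈ {B : Subgroup X | B ≤ A ∧ ∃ a ∈ A, B ⊔ Subgroup.zpowers a = A}, ⁅G ⊓ Subgroup.centralizer (B : Set X), A⁆) = ⁅G, A⁆ := by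
  haveI := hAab
  set S := {B : Subgroup X | B ≤ A ∧ ∃ a ∈ A, B ⊔ Subgroup.zpowers a = A} with hS
  set L := ⨆ B ∈ S, ⁅G ⊓ Subgroup.centralizer (B : Set X), A⁆ with hL
  refine ⟨Cfsg.Agent.Lib.Coprime.iSup_cocyclic_eq hAG hcop, ?_⟩
  have hle : ∀ B ∈ S, ⁅G ⊓ Subgroup.centralizer (B : Set X), A⁆ ≤ L := fun B hB =>
    le_iSup₂ (f := fun B (_ : B ∈ S) => ⁅G ⊓ Subgroup.centralizer (B : Set X), A⁆) B hB
  have hnorm : ∀ T : Subgroup X, T ≤ Subgroup.normalizer (G : Set X) →
      T ≤ Subgroup.normalizer (A : Set X) →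
      (∀ B ∈ S, T ≤ Subgroup.normalizer (B : Set X)) → T ≤ Subgroup.normalizer (L : Set X) := by
    intro T hTG hTA hTB
    refine Cfsg.Agent.Lib.Coprime.le_normalizer_of_conj_mem fun t ht x hx => ?_
    have h : L ≤ L.comap (MulAut.conj t).toMonoidHom := by
      refine iSup₂_le fun B hB y hy => ?_
      refine Subgroup.mem_comap.mpr (hle B hB ?_)
      exact Cfsg.Agent.Lib.Coprime.conj_mem_of_le_normalizer
        (Cfsg.Agent.Lib.Coprime.le_normalizer_commutator
          (Cfsg.Agent.Lib.Coprime.le_normalizer_inf_centralizer hTG (hTB B hB)) hTA) ht hy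
    exact h hx
  have hAA : A ≤ Subgroup.centralizer (A : Set X) :=
    Subgroup.le_centralizer_iff_isMulCommutative.mpr hAab
  have hAB : ∀ B ∈ S, A ≤ Subgroup.normalizer (B : Set X) := fun B hB =>
    (Subgroup.le_centralizer_iff.mp (hB.1.trans hAA)).trans (Subgroup.centralizer_le_normalizer _)
  have hCA : G ⊓ Subgroup.centralizer (A : Set X) ≤ Subgroup.centralizer (A : Set X) := inf_le_right
  refine le_antisymm (iSup₂_le fun B _ => Subgroup.commutator_mono inf_le_left le_rfl) ?_
  refine Cfsg.Agent.Lib.Coprime.commutator_le_of_cocyclic hAG hcop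
    (hnorm A hAG Subgroup.le_normalizer hAB) ?_ fun B hB g hg hBg => hle B ⟨hB, g, hg, hBg⟩
  refine hnorm _ (inf_le_left.trans Subgroup.le_normalizer)
    (hCA.trans (Subgroup.centralizer_le_normalizer _)) fun B hB => ?_
  exact (hCA.trans (Subgroup.centralizer_le (show (B : Set X) ⊆ (A : Set X) from hB.1))).trans
    (Subgroup.centralizer_le_normalizer _)

end Cfsg.Agent.S3734
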