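import Cfsg.Statements.S3735
import Mathlib

set_option autoImplicit false
open Cfsg

namespace Cfsg.Agent.S3735

/-- Clifford's Theorem for actions on finite abelian groups, first part. Let H and V be subgroups of a finite group with V abelian and H normalizing V, and let A be a normal subgroup of H. If every H-invariant subgroup of V has an H-invariant complement in V, then every A-invariant subgroup of V has an A-invariant complement in V. -/
theorem result {G : Type*} [Group G] [Finite G] (H A V : Subgroup G) (hVab : IsMulCommutative V) (hHV : H ≤ Subgroup.normalizer (V : Set G)) (hAH : A ≤ H) (hAn : H ≤ Subgroup.normalizer (A : Set G)) (hss : ∀ U : Subgroup G, U ≤ V → H ≤ Subgroup.normalizer (U : Set G) → ∃ W : Subgroup G, W ≤ V ∧ H ≤ Subgroup.normalizer (W : Set G) ∧ U ⊓ W = ⊥ ∧ U ⊔ W = V) (U : Subgroup G) (hUV : U ≤ V) (hAU : A ≤ Subgroup.normalizer (U : Set G)) : ∃ W : Subgroup G, W ≤ V ∧ A ≤ Subgroup.normalizer (W : Set G) ∧ U ⊓ W = ⊥ ∧ U ⊔ W = V := by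
  haveI : IsMulCommutative V := hVab
  -- conjugates and joins
  have hsupn : ∀ {L U₁ U₂ : Subgroup G}, L ≤ Subgroup.normalizer (U₁ : Set G) →
      L ≤ Subgroup.normalizer (U₂ : Set G) → L ≤ Subgroup.normalizer ((U₁ ⊔ U₂ : Subgroup G) : Set G) :=
    fun h₁ h₂ => (le_inf h₁ h₂).trans (Subgroup.normalizer_inf_normalizer_le_normalizer_sup _ _)
  -- minimal `A`-invariant subgroups
  let atom : Subgroup G → Prop := fun S => S ≤ V ∧ A ≤ Subgroup.normalizer (S : Set G) ∧ S ≠ ⊥ ∧
    ∀ T : Subgroup G, T ≤ S → A ≤ Subgroup.normalizer (T : Set G) → T ≠ ⊥ → T = S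
  have hexists : ∀ W : Subgroup G, W ≤ V → A ≤ Subgroup.normalizer (W : Set G) → W ≠ ⊥ →
      ∃ S, atom S ∧ S ≤ W := by
    intro W hWV hWA hW
    obtain ⟨S, hS, hmin⟩ := Set.Finite.exists_minimal
      (s := {S : Subgroup G | S ≤ W ∧ A ≤ Subgroup.normalizer (S : Set G) ∧ S ≠ ⊥})
      (Set.toFinite _) ⟨W, le_rfl, hWA, hW⟩
    exact ⟨S, ⟨hS.1.trans hWV, hS.2.1, hS.2.2, fun T hTS hTA hT =>
      le_antisymm hTS (hmin ⟨hTS.trans hS.1, hTA, hT⟩ hTS)⟩, hS.1⟩
  -- their join is invariant under `H`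
  set T := sSup {S : Subgroup G | atom S} with hT
  have hTV : T ≤ V := sSup_le fun S hS => hS.1
  have hconj : ∀ g ∈ H, ∀ S, atom S → atom (S.map (MulAut.conj g).toMonoidHom) := by
    intro g hg S hS
    have hV : V.map (MulAut.conj g).toMonoidHom = V := by
      ext v
      simp only [Subgroup.mem_map]
      constructor
      · rintro ⟨w, hw, rfl⟩
        simpa using (Subgroup.mem_normalizer_iff.1 (hHV hg) w).1 hw
      · intro hv
        exact ⟨g⁻¹ * v * g, by simpa using (Subgroup.mem_normalizer_iff.1 (hHV (inv_mem hg)) v).1 hv,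
          by simp [mul_assoc]⟩
    have hA' : ∀ c ∈ H, ∀ U : Subgroup G, A ≤ Subgroup.normalizer (U : Set G) →
        A ≤ Subgroup.normalizer ((U.map (MulAut.conj c).toMonoidHom : Subgroup G) : Set G) := by
      intro c hc U hU a ha
      have ha' : c⁻¹ * a * c ∈ A := by
        simpa using (Subgroup.mem_normalizer_iff.1 (hAn (inv_mem hc)) a).1 ha
      have h1 := Subgroup.le_normalizer_map (H := U) (MulAut.conj c).toMonoidHom
        ⟨c⁻¹ * a * c, hU ha', rfl⟩
      simpa [mul_assoc] using h1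
    refine ⟨hV ▸ Subgroup.map_mono hS.1, hA' g hg S hS.2.1, ?_, ?_⟩
    · rw [Ne, Subgroup.map_eq_bot_iff_of_injective _ (MulAut.conj g).injective]
      exact hS.2.2.1
    · intro T hTS hTA hT
      have hback : ∀ U : Subgroup G,
          (U.map (MulAut.conj g⁻¹).toMonoidHom).map (MulAut.conj g).toMonoidHom = U := by
        intro U
        rw [Subgroup.map_map]
        convert Subgroup.map_id U using 2
        ext x
        simp [mul_assoc]
      have h1 : T.map (MulAut.conj g⁻¹).toMonoidHom = S := by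
        refine hS.2.2.2 _ ?_ (hA' _ (inv_mem hg) T hTA) ?_
        · rintro _ ⟨t, ht, rfl⟩
          obtain ⟨s, hs, rfl⟩ := hTS ht
          simpa [mul_assoc] using hs
        · rw [Ne, Subgroup.map_eq_bot_iff_of_injective _ (MulAut.conj g⁻¹).injective]
          exact hT
      rw [← h1, hback]
  have hTH : H ≤ Subgroup.normalizer (T : Set G) := by
    intro g hg
    rw [Subgroup.mem_normalizer_iff]
    have hle : ∀ c ∈ H, T.map (MulAut.conj c).toMonoidHom ≤ T := by
      intro c hc
      rw [hT, (Subgroup.gc_map_comap _).l_sSup]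
      exact iSup₂_le fun S hS => le_sSup (hconj c hc S hS)
    intro y
    constructor
    · intro hy
      simpa using hle g hg ⟨y, hy, rfl⟩
    · intro hy
      simpa [mul_assoc] using hle g⁻¹ (inv_mem hg) ⟨_, hy, rfl⟩
  -- hence it is the whole of `V`
  have hTtop : T = V := by
    obtain ⟨W, hWV, hWH, hdisj, hsup⟩ := hss T hTV hTH
    by_contra hne
    have hWne : W ≠ ⊥ := by
      rintro rfl
      exact hne (by simpa using hsup)
    obtain ⟨S, hS, hSW⟩ := hexists W hWV (hAH.trans hWH) hWne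
    exact hS.2.2.1 (le_bot_iff.1 (hdisj ▸ le_inf (le_sSup hS) hSW))
  -- a maximal invariant subgroup meeting `U` trivially is a complement
  obtain ⟨W, hW, hmax⟩ := Set.Finite.exists_maximal
    (s := {W : Subgroup G | W ≤ V ∧ A ≤ Subgroup.normalizer (W : Set G) ∧ U ⊓ W = ⊥})
    (Set.toFinite _) ⟨⊥, bot_le, by rw [Subgroup.normalizer_eq_top]; exact le_top, inf_bot_eq _⟩
  refine ⟨W, hW.1, hW.2.1, hW.2.2, le_antisymm (sup_le hUV hW.1) ?_⟩
  rw [← hTtop]
  refine sSup_le fun S hS => ?_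
  by_contra hSUW
  have hnorm : A ≤ Subgroup.normalizer ((S ⊓ (U ⊔ W) : Subgroup G) : Set G) := by
    intro a ha
    rw [Subgroup.mem_normalizer_iff]
    intro y
    rw [Subgroup.mem_inf, Subgroup.mem_inf, Subgroup.mem_normalizer_iff.1 (hS.2.1 ha) y,
      Subgroup.mem_normalizer_iff.1 (hsupn hAU hW.2.1 ha) y]
  have hint : S ⊓ (U ⊔ W) = ⊥ := by
    by_contra hne
    exact hSUW (inf_eq_left.1 (hS.2.2.2 _ inf_le_left hnorm hne))
  have hbot : U ⊓ (W ⊔ S) = ⊥ := by
    rw [eq_bot_iff]
    intro u hu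
    obtain ⟨huU, huWS'⟩ := Subgroup.mem_inf.1 hu
    have huWS : u ∈ ((W ⊔ S : Subgroup G) : Set G) := huWS'
    have hWSn : S ≤ Subgroup.normalizer (W : Set G) := by
      intro s hs
      rw [Subgroup.mem_normalizer_iff]
      have hsw : ∀ w ∈ V, s * w * s⁻¹ = w := fun w hw => by
        rw [setLike_mul_comm (hS.1 hs) hw, mul_inv_cancel_right]
      intro y
      constructor
      · intro hy; rwa [hsw y (hW.1 hy)]
      · intro hy
        have hyV : y ∈ V := by
          simpa [mul_assoc] using mul_mem (mul_mem (inv_mem (hS.1 hs)) (hW.1 hy)) (hS.1 hs)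
        rwa [hsw y hyV] at hy
    rw [Subgroup.coe_mul_of_right_le_normalizer_left W S hWSn] at huWS
    obtain ⟨w, hw, s, hs, rfl⟩ := huWS
    have hs' : s ∈ S ⊓ (U ⊔ W) := ⟨hs, by
      have := mul_mem (Subgroup.mem_sup_right (inv_mem hw) : w⁻¹ ∈ U ⊔ W)
        (Subgroup.mem_sup_left huU : w * s ∈ U ⊔ W)
      simpa using this⟩
    rw [hint, Subgroup.mem_bot] at hs'
    subst hs'
    exact hW.2.2.le ⟨huU, by simpa using hw⟩
  have : W ⊔ S ≤ W := hmax ⟨sup_le hW.1 hS.1, hsupn hW.2.1 hS.2.1, hbot⟩ le_sup_left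
  exact hSUW ((le_sup_right.trans this).trans le_sup_right)

end Cfsg.Agent.S3735
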