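import Cfsg.Statements.S3737
import Mathlib
import Cfsg.Agent.Lib.PGroupAut.MinimalAction
import Cfsg.Agent.Lib.PGroupAut.BaerTrick

set_option autoImplicit false
open Cfsg

namespace Cfsg.Agent.S3737

open Cfsg.Agent.Lib Subgroup in
open scoped commutatorElement in
/-- The minimal case: `Q` acts irreducibly, nontrivially, on `G`; then some fixed point of `P` is
moved by `Q`. -/
theorem minimal_case {X : Type*} [Group X] [Finite X] {p : ℕ} [Fact p.Prime] (hp : p ≠ 2)
    (P Q G : Subgroup X) (hP : IsPGroup p P) (hQ : (Nat.card Q).Coprime p)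
    (hPQ : P ≤ Subgroup.normalizer (Q : Set X)) (hG : IsPGroup p G)
    (hPG : P ≤ Subgroup.normalizer (G : Set X)) (hQG : Q ≤ Subgroup.normalizer (G : Set X))
    (hnt : ⁅G, Q⁆ ≠ ⊥) (h : PGroupAut.MinimalActionData p (P ⊔ Q) Q G) :
    ¬ (G ⊓ Subgroup.centralizer (P : Set X) ≤ Subgroup.centralizer (Q : Set X)) := by
  intro hC
  letI := Fintype.ofFinite Q
  have hpr : p.Prime := Fact.out
  obtain ⟨k, hk⟩ := hpr.odd_of_ne_two hp
  have hcent : ∀ x ∈ G, ∀ y ∈ G, ⁅x, y⁆ ∈ Subgroup.centralizer (G : Set X) := fun x hx y hy =>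
    h.frattini_le_centralizer (by
      have h1 : ((⁅(⟨x, hx⟩ : G), (⟨y, hy⟩ : G)⁆ : G) : X) ∈ (frattini ↥G).map G.subtype :=
        ⟨_, PFrattini.commutator_le_frattini hG (Subgroup.commutator_mem_commutator
          (mem_top _) (mem_top _)), rfl⟩
      exact h1)
  have hiff : ∀ z : G, z ∈ center G ↔ (z : X) ∈ centralizer (G : Set X) := fun z => by
    rw [mem_center_iff, mem_centralizer_iff]
    exact ⟨fun h y hy => congrArg Subtype.val (h ⟨y, hy⟩), fun h y => Subtype.ext (h y y.2)⟩
  have hbd : PGroupAut.BaerData G (k + 1) := by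
    refine ⟨fun a b => (hiff _).mpr (hcent a a.2 b b.2), fun a b => ?_⟩
    have h1 : ⁅a, b⁆ ^ p = 1 := by
      apply Subtype.ext
      rw [SubgroupClass.coe_pow]
      exact h.exponent hp _ (⁅a, b⁆ : G).2
    rw [show 2 * (k + 1) = p + 1 by omega, pow_succ, h1, one_mul]
  -- conjugation
  let cP : P →* MulAut G := Coprime.conjAut hPG
  let cQ : Q →* MulAut G := Coprime.conjAut hQG
  -- every point of `G` fixed by `Q` is a commutator, hence central
  have hQfix : ∀ x : G, (∀ q : Q, cQ q x = x) → (x : X) ∈ ⁅G, G⁆ := by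
    intro x hx
    refine h.fixed_le_commutator (Subgroup.mem_inf.mpr ⟨x.2, ?_⟩)
    rw [Subgroup.mem_centralizer_iff]
    intro q hq
    have := congrArg Subtype.val (hx ⟨q, hq⟩)
    simp only [cQ, Coprime.conjAut_coe] at this
    exact mul_inv_eq_iff_eq_mul.mp this
  have hder : ∀ x : G, (x : X) ∈ ⁅G, G⁆ → x ∈ center G ∧ ∀ q : Q, cQ q x = x := by
    intro x hx
    rw [← G.map_subtype_commutator] at hx
    have hF : (x : X) ∈ (frattini ↥G).map G.subtype :=
      Subgroup.map_mono (PFrattini.commutator_le_frattini hG) hx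
    refine ⟨(hiff x).mpr (h.frattini_le_centralizer hF), fun q => Subtype.ext ?_⟩
    simp only [cQ, Coprime.conjAut_coe]
    rw [Subgroup.mem_centralizer_iff.mp (h.frattini_fixed hF) q q.2, mul_inv_cancel_right]
  -- a coset modulo the commutator subgroup fixed by `P`
  set D : Subgroup G := _root_.commutator G with hD
  have hDmem : ∀ x : G, x ∈ D ↔ (x : X) ∈ ⁅G, G⁆ := fun x => by
    rw [← G.map_subtype_commutator]
    exact ⟨fun h => ⟨x, h, rfl⟩, fun ⟨w, hw, hwx⟩ => by
      rwa [← Subtype.ext (show (w : X) = x from hwx)]⟩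
  haveI : Nontrivial G := (nontrivial_iff_ne_bot G).mpr fun h0 => hnt (by rw [h0, commutator_bot_left])
  have hDne : D ≠ ⊤ := fun h0 => by
    obtain ⟨M, hM⟩ := IsCoatomic.exists_coatom (Subgroup G)
    exact hM.1 (top_le_iff.mp (h0 ▸ PFrattini.commutator_le_of_isCoatom hG hM))
  have hdvd : p ∣ Nat.card (G ⧸ D) := by
    rcases (hG.to_quotient D).card_eq_or_dvd with h0 | h0
    · exact absurd (Subgroup.index_eq_one.mp h0) hDne
    · exact h0
  letI actQ : MulAction P (G ⧸ D) := MulAction.compHom (G ⧸ D)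
    (show P →* Equiv.Perm (G ⧸ D) from
      { toFun := fun a => (QuotientGroup.congr D D (cP a)
          (Subgroup.characteristic_iff_map_eq.mp inferInstance (cP a))).toEquiv
        map_one' := by
          ext x
          obtain ⟨x, rfl⟩ := QuotientGroup.mk_surjective x
          show QuotientGroup.mk (cP 1 x) = _
          rw [map_one]; rfl
        map_mul' := fun a b => by
          ext x
          obtain ⟨x, rfl⟩ := QuotientGroup.mk_surjective x
          show QuotientGroup.mk (cP (a * b) x) = _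
          rw [map_mul]; rfl })
  have hone : (1 : G ⧸ D) ∈ MulAction.fixedPoints P (G ⧸ D) := fun a => by
    show QuotientGroup.mk (cP a 1) = _
    rw [map_one]; rfl
  obtain ⟨x', hx', hne⟩ := hP.exists_fixed_point_of_prime_dvd_card_of_fixed_point _ hdvd hone
  obtain ⟨x, rfl⟩ := QuotientGroup.mk_surjective x'
  have hxD : x ∉ D := fun h0 => hne ((QuotientGroup.eq_one_iff x).mpr h0).symm
  have hxfix : ∀ a : P, x⁻¹ * cP a x ∈ D := fun a => QuotientGroup.eq.mp (hx' a).symm
  -- the norm over `Q` for the abelian law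
  let ν : PGroupAut.Baer hbd →* PGroupAut.Baer hbd := ∏ q : Q, PGroupAut.Baer.lift hbd (cQ q)
  have hν : ∀ v, ν v = ∏ q : Q, PGroupAut.Baer.lift hbd (cQ q) v := fun v => by
    simp [ν, MonoidHom.finsetProd_apply]
  have hνQ : ∀ v (q : Q), PGroupAut.Baer.lift hbd (cQ q) (ν v) = ν v := by
    intro v q
    rw [hν, map_prod]
    refine Fintype.prod_equiv (Equiv.mulLeft q) _ _ fun r => ?_
    apply PGroupAut.Baer.ext
    simp [map_mul, MulAut.mul_apply]
  have hνD : ∀ v, (ν v).val ∈ D := fun v =>
    (hDmem _).mpr (hQfix _ fun q => congrArg PGroupAut.Baer.val (hνQ v q))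
  have hνfix : ∀ v : PGroupAut.Baer hbd, v.val ∈ D → ν v = v ^ Nat.card Q := by
    intro v hv
    rw [hν, Nat.card_eq_fintype_card, ← Finset.card_univ, ← Finset.prod_const]
    exact Finset.prod_congr rfl fun q _ => PGroupAut.Baer.ext ((hder _ ((hDmem _).mp hv)).2 q)
  have hνP : ∀ v (a : P), PGroupAut.Baer.lift hbd (cP a) (ν v) =
      ν (PGroupAut.Baer.lift hbd (cP a) v) := by
    intro v a
    rw [hν, hν, map_prod]
    let e : Q ≃ Q := (Coprime.conjAut hPQ a).toEquiv
    refine Fintype.prod_equiv e _ _ fun r => ?_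
    apply PGroupAut.Baer.ext
    apply Subtype.ext
    simp [e, cP, cQ, mul_assoc]
  -- the canonical representative of the coset
  let v : PGroupAut.Baer hbd := ⟨x⟩
  let s : PGroupAut.Baer hbd := v ^ Nat.card Q * (ν v)⁻¹
  have hsfix : ∀ a : P, PGroupAut.Baer.lift hbd (cP a) s = s := by
    intro a
    let z : PGroupAut.Baer hbd := ⟨x⁻¹ * cP a x⟩
    have hzc : z.val ∈ center G := (hder _ ((hDmem _).mp (hxfix a))).1
    have hva : PGroupAut.Baer.lift hbd (cP a) v = v * z :=
      PGroupAut.Baer.ext (by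
        rw [PGroupAut.Baer.mul_val_of_mem_center hzc]
        show cP a x = x * (x⁻¹ * cP a x)
        rw [mul_inv_cancel_left])
    rw [show s = v ^ Nat.card Q * (ν v)⁻¹ from rfl, map_mul, map_inv, map_pow, hνP, hva, map_mul,
      hνfix z (hxfix a), mul_pow]
    group
  have hsD : s.val ∈ D := by
    refine (hDmem _).mpr (hQfix _ fun q => Subtype.ext ?_)
    have hs : (s.val : X) ∈ Subgroup.centralizer (Q : Set X) := by
      refine hC (Subgroup.mem_inf.mpr ⟨s.val.2, ?_⟩)
      rw [Subgroup.mem_centralizer_iff]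
      intro a ha
      have := congrArg (fun w : PGroupAut.Baer hbd => (w.val : X)) (hsfix ⟨a, ha⟩)
      simp only [PGroupAut.Baer.lift_val, cP, Coprime.conjAut_coe] at this
      exact mul_inv_eq_iff_eq_mul.mp this
    simp only [cQ, Coprime.conjAut_coe]
    rw [Subgroup.mem_centralizer_iff.mp hs q q.2, mul_inv_cancel_right]
  have hpowD : x ^ Nat.card Q ∈ D := by
    have h1 : v ^ Nat.card Q = s * ν v := (inv_mul_cancel_right _ _).symm
    have h2 := congrArg PGroupAut.Baer.val h1
    rw [PGroupAut.Baer.pow_val,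
      PGroupAut.Baer.mul_val_of_mem_center ((hder _ ((hDmem _).mp (hνD v))).1)] at h2
    rw [show x = v.val from rfl, h2]
    exact mul_mem hsD (hνD v)
  apply hxD
  rw [← QuotientGroup.eq_one_iff, ← orderOf_eq_one_iff]
  obtain ⟨j, hj⟩ := (hG.to_quotient D).exists_card_eq
  refine Nat.eq_one_of_dvd_coprimes (hQ.pow_right j) (orderOf_dvd_of_pow_eq_one ?_)
    (hj ▸ orderOf_dvd_natCard _)
  rw [← QuotientGroup.mk_pow, QuotientGroup.eq_one_iff]
  exact hpowD

/-- Thompson's strengthening of the P × Q lemma for odd primes. Let p be an odd prime and let P, Q and G be subgroups of a finite group with P a p-group, Q of order prime to p and normalized by P, and G a p-group normalized by both P and Q. If every element of G centralized by P is centralized by Q, then Q centralizes G. -/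
theorem result {X : Type*} [Group X] [Finite X] {p : ℕ} [Fact p.Prime] (hp : p ≠ 2) (P Q G : Subgroup X) (hP : IsPGroup p P) (hQ : (Nat.card Q).Coprime p) (hPQ : P ≤ Subgroup.normalizer (Q : Set X)) (hG : IsPGroup p G) (hPG : P ≤ Subgroup.normalizer (G : Set X)) (hQG : Q ≤ Subgroup.normalizer (G : Set X)) (hC : G ⊓ Subgroup.centralizer (P : Set X) ≤ Subgroup.centralizer (Q : Set X)) : Q ≤ Subgroup.centralizer (G : Set X) := by
  rw [Subgroup.le_centralizer_iff, ← Subgroup.commutator_eq_bot_iff_le_centralizer]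
  suffices h : ∀ n, ∀ H : Subgroup X, Nat.card H = n → H ≤ G →
      P ⊔ Q ≤ Subgroup.normalizer (H : Set X) → ⁅H, Q⁆ = ⊥ from
    h _ G rfl le_rfl (sup_le hPG hQG)
  intro n
  induction n using Nat.strong_induction_on with
  | _ n ih =>
    intro H hn hHG hH
    by_contra hne
    have hmin : ∀ U : Subgroup X, U < H → P ⊔ Q ≤ Subgroup.normalizer (U : Set X) → ⁅U, Q⁆ = ⊥ := by
      intro U hU hUn
      refine ih (Nat.card U) ?_ U rfl (hU.le.trans hHG) hUn
      rw [← hn]
      exact Set.Finite.card_lt_card (Set.toFinite (H : Set X)) (SetLike.coe_ssubset_coe.2 hU)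
    have hcop : (Nat.card Q).Coprime (Nat.card H) := by
      obtain ⟨j, hj⟩ := (hG.to_le hHG).exists_card_eq
      exact hj ▸ hQ.pow_right j
    exact minimal_case hp P Q H hP hQ hPQ (hG.to_le hHG) (le_sup_left.trans hH)
      (le_sup_right.trans hH) hne
      (Cfsg.Agent.Lib.PGroupAut.minimalAction (hG.to_le hHG) hH le_sup_right
        (sup_le hPQ Subgroup.le_normalizer) hcop hne hmin)
      ((inf_le_inf_right _ hHG).trans hC)

end Cfsg.Agent.S3737
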