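import Cfsg.Statements.S3739
import Mathlib
import Cfsg.Agent.Lib.Coprime.Generation
import Cfsg.Agent.Lib.PSolvable.Core
import Cfsg.Agent.Lib.PGroup.Critical
import Cfsg.Agent.S3738

set_option autoImplicit false
open Cfsg

namespace Cfsg.Agent.S3739

open Cfsg.Agent.Lib in
/-- A subgroup of a group of order at most four with three distinct elements is the whole group. -/
theorem eq_of_three_mem {G : Type*} [Group G] [Finite G] {U V : Subgroup G} (hUV : U ≤ V)
    (hV : Nat.card V ≤ 4) {a b : G} (ha : a ∈ U) (hb : b ∈ U) (ha1 : a ≠ 1) (hb1 : b ≠ 1)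
    (hab : a ≠ b) : U = V := by
  classical
  haveI := Fintype.ofFinite U
  have h3 : ({1, ⟨a, ha⟩, ⟨b, hb⟩} : Finset U).card = 3 := by
    rw [Finset.card_eq_three]
    exact ⟨1, ⟨a, ha⟩, ⟨b, hb⟩, fun e => ha1 (congrArg Subtype.val e).symm,
      fun e => hb1 (congrArg Subtype.val e).symm, fun e => hab (congrArg Subtype.val e), rfl⟩
  have h3' := Finset.card_le_univ ({1, ⟨a, ha⟩, ⟨b, hb⟩} : Finset U)
  rw [h3, ← Nat.card_eq_fintype_card] at h3'
  refine Subgroup.eq_of_le_of_card_ge hUV ?_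
  obtain ⟨k, hk⟩ := Subgroup.card_dvd_of_le hUV
  rcases k with _ | _ | k
  · rw [Nat.mul_zero] at hk; exact absurd hk Nat.card_pos.ne'
  · rw [hk]; simp
  · exfalso; rw [hk] at hV; nlinarith

/-- An element of order three fixing a non-identity element of a group of order at most four
centralizes it. -/
theorem centralizes_of_fixed {G : Type*} [Group G] [Finite G] {U : Subgroup G}
    (hU : Nat.card U ≤ 4) {s : G} (hs : s ^ 3 = 1) (hsU : ∀ u ∈ U, s * u * s⁻¹ ∈ U) {c : G}
    (hc : c ∈ U) (hc1 : c ≠ 1) (hsc : s * c = c * s) : ∀ u ∈ U, s * u = u * s := by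
  classical
  intro u hu
  by_contra hne
  have hf1 : s * u * s⁻¹ ≠ u := fun e => hne (mul_inv_eq_iff_eq_mul.mp e)
  have hu1 : u ≠ 1 := fun e => hne (by simp [e])
  have hcs : s * c * s⁻¹ = c := by rw [hsc, mul_inv_cancel_right]
  have hs3 : s * (s * (s * u * s⁻¹) * s⁻¹) * s⁻¹ = u := by
    calc s * (s * (s * u * s⁻¹) * s⁻¹) * s⁻¹ = (s * s * s) * u * (s * s * s)⁻¹ := by group
      _ = u := by rw [show s * s * s = s ^ 3 by simp [pow_succ], hs]; group
  have hinj : Function.Injective (fun x : G => s * x * s⁻¹) := fun x y h => by simpa using h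
  have huc : u ≠ c := fun e => hne (by rw [e]; exact hsc)
  set v := s * u * s⁻¹ with hv
  set w := s * v * s⁻¹ with hw
  have hwu : w ≠ u := fun e => by rw [e] at hs3; exact hf1 hs3
  have hwv : w ≠ v := fun e => hf1 (hinj e)
  have hv1 : v ≠ 1 := fun e => hu1 (conj_eq_one_iff.mp e)
  have hw1 : w ≠ 1 := fun e => hv1 (conj_eq_one_iff.mp e)
  have hvc : v ≠ c := fun e => huc (hinj (e.trans hcs.symm))
  have hwc : w ≠ c := fun e => hvc (hinj (e.trans hcs.symm))
  haveI := Fintype.ofFinite U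
  let S : Finset U := {1, ⟨c, hc⟩, ⟨u, hu⟩, ⟨v, hsU u hu⟩, ⟨w, hsU v (hsU u hu)⟩}
  have h5 : S.card = 5 := by
    simp only [S]
    rw [Finset.card_insert_of_notMem, Finset.card_insert_of_notMem, Finset.card_insert_of_notMem,
      Finset.card_pair]
    · exact fun e => hwv (congrArg Subtype.val e).symm
    · simp [hwu.symm, hf1.symm]
    · simp [huc.symm, hvc.symm, hwc.symm]
    · simp [Subtype.ext_iff, hc1.symm, hu1.symm, hv1.symm, hw1.symm]
  have := Finset.card_le_univ S
  rw [h5, ← Nat.card_eq_fintype_card] at this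
  omega

/-- Commuting: an elementary abelian group of order four normalizing an elementary group `Z` of order
at most four, with no non-identity element centralizing `Z`, does not exist. -/
theorem not_faithful_four {G : Type*} [Group G] [Finite G] {W Z : Subgroup G}
    (hWp : IsPGroup 2 W) (hW : Nat.card W = 4) (hZp : IsPGroup 2 Z) (hZ : Nat.card Z ≤ 4)
    (hZne : Z ≠ ⊥) (hWZ : ∀ w ∈ W, ∀ z ∈ Z, w * z * w⁻¹ ∈ Z)
    (hfaith : ∀ w ∈ W, (∀ z ∈ Z, w * z = z * w) → w = 1) : False := by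
  haveI : Fact (Nat.Prime 2) := ⟨Nat.prime_two⟩
  letI : MulAction W Z := MulAction.compHom Z (Cfsg.Agent.Lib.Coprime.conjAut (K := Z)
    (Cfsg.Agent.Lib.Coprime.le_normalizer_of_conj_mem hWZ))
  have hcoe : ∀ (w : W) (z : Z), ((w • z : Z) : G) = w * z * (w : G)⁻¹ := fun w z => rfl
  have hd2 : 2 ∣ Nat.card Z := hZp.card_eq_or_dvd.resolve_left fun h => hZne (Subgroup.eq_bot_of_card_eq _ h)
  obtain ⟨c, hc, hc1⟩ := hWp.exists_fixed_point_of_prime_dvd_card_of_fixed_point Z hd2 (a := 1)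
    (fun w => Subtype.ext (by rw [hcoe]; simp))
  have hcfix : ∀ w : W, (w : G) * c = c * w := fun w =>
    mul_inv_eq_iff_eq_mul.mp ((hcoe w c).symm.trans (congrArg Subtype.val (hc w)))
  obtain ⟨z, hzfix⟩ : ∃ z : Z, ¬ ∀ w : W, (w : G) * z = z * w := by
    by_contra h
    push Not at h
    haveI : Nontrivial W := Finite.one_lt_card_iff_nontrivial.mp (by omega)
    obtain ⟨w, hw⟩ := exists_ne (1 : W)
    exact hw (Subtype.ext (hfaith w w.2 fun y hy => h ⟨y, hy⟩ w))
  have hc1' : (c : G) ≠ 1 := fun e => hc1 (Subtype.ext e).symm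
  have hz1 : (z : G) ≠ 1 := fun e => hzfix fun w => by simp [e]
  have hzc : (z : G) ≠ c := fun e => hzfix fun w => by rw [e]; exact hcfix w
  have hstab : MulAction.stabilizer W z = ⊥ := by
    rw [eq_bot_iff]
    intro w hw
    have hwz : (w : G) * z = z * w :=
      mul_inv_eq_iff_eq_mul.mp ((hcoe w z).symm.trans (congrArg Subtype.val hw))
    refine Subgroup.mem_bot.mpr (Subtype.ext (hfaith w w.2 ?_))
    have heq := eq_of_three_mem (U := Z ⊓ Subgroup.centralizer {(w : G)}) inf_le_left hZ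
      ⟨c.2, Subgroup.mem_centralizer_singleton_iff.mpr (hcfix w).symm⟩
      ⟨z.2, Subgroup.mem_centralizer_singleton_iff.mpr hwz.symm⟩ hc1' hz1 (Ne.symm hzc)
    intro y hy
    exact (Subgroup.mem_centralizer_singleton_iff.mp (heq.symm ▸ hy : y ∈ Z ⊓ Subgroup.centralizer {(w : G)}).2).symm
  have horb : Nat.card (MulAction.orbit W z) = 4 := by
    rw [Nat.card_congr (MulAction.orbitEquivQuotientStabilizer W z), hstab,
      Nat.card_congr (QuotientGroup.quotientBot (G := W)).toEquiv, hW]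
  have hmiss : (1 : Z) ∉ MulAction.orbit W z := by
    rintro ⟨w, hw⟩
    exact hz1 (conj_eq_one_iff.mp ((hcoe w z).symm.trans (congrArg Subtype.val hw)))
  haveI := Fintype.ofFinite Z
  have hlt : Nat.card (MulAction.orbit W z) < Nat.card Z := by
    rw [Nat.card_coe_set_eq, ← Set.ncard_univ]
    exact Set.ncard_lt_ncard (lt_of_le_of_ne (Set.subset_univ _) fun e => hmiss (by rw [e]; trivial))
      (Set.toFinite _)
  omega

open Cfsg.Agent.Lib in
/-- The end of the argument: two commuting elements of order three. -/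
theorem two_elements {G : Type*} [Group G] [Finite G] {Q W : Subgroup G} (hQp : IsPGroup 2 Q)
    (hQn : Q.Normal) (hchar : Subgroup.centralizer (Q : Set G) ≤ Q) {d z : G} (hd3 : d ^ 3 = 1)
    (hz3 : z ^ 3 = 1) (hd1 : d ≠ 1) (hz1 : z ≠ 1) (hzd : Commute z d)
    (hW : W ≠ ⊥) (hzW : ∀ w ∈ W, z * w = w * z)
    (hdfree : ∀ w ∈ W, d * w = w * d → w = 1)
    (hfpfQ : ∀ x : G, (∀ w ∈ W, x * w = w * x → w = 1) → Q ⊓ Subgroup.centralizer {x} = ⊥) :
    False := by
  haveI : Fact (Nat.Prime 3) := ⟨Nat.prime_three⟩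
  have hgen : ∀ a y : G, a ^ 3 = 1 → a ≠ 1 → y ^ 3 = 1 → y ∈ Subgroup.zpowers a → y ≠ 1 →
      a ∈ Subgroup.zpowers y := by
    intro a y ha ha1 hy hmem hy1
    have : Subgroup.zpowers y = Subgroup.zpowers a := by
      refine Subgroup.eq_of_le_of_card_ge (Subgroup.zpowers_le.mpr hmem) ?_
      rw [Nat.card_zpowers, Nat.card_zpowers, orderOf_eq_prime ha ha1, orderOf_eq_prime hy hy1]
    exact this.symm ▸ Subgroup.mem_zpowers a
  have hcent : ∀ a y v : G, a * v = v * a → y ∈ Subgroup.zpowers a → y * v = v * y := by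
    intro a y v h hy
    obtain ⟨i, rfl⟩ := Subgroup.mem_zpowers_iff.mp hy
    exact ((show Commute a v from h).zpow_left i).eq
  have hznd : z ∉ Subgroup.zpowers d := fun h => hW ((Subgroup.eq_bot_iff_forall _).mpr fun w hw =>
    hdfree w hw (hcent z d w (hzW w hw) (hgen d z hd3 hd1 hz3 h hz1)))
  have hQz : Q ≤ Q ⊓ Subgroup.centralizer {z} := by
    refine Coprime.le_of_pair Nat.prime_three ?_ ?_ hzd hz3 hd3 hd1 hznd ?_
    · obtain ⟨k, hk⟩ := hQp.exists_card_eq
      rw [hk]; exact Nat.Coprime.pow_right k (by norm_num)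
    · rw [Subgroup.normalizer_eq_top_iff.mpr hQn]; exact le_top
    · intro x hx hx1
      have hform : ∃ i j : ℤ, x = z ^ i * d ^ j := by
        clear hx1
        induction hx using Subgroup.closure_induction with
        | mem y hy =>
          rcases hy with rfl | rfl
          · exact ⟨1, 0, by simp⟩
          · exact ⟨0, 1, by simp⟩
        | one => exact ⟨0, 0, by simp⟩
        | mul u v _ _ hu hv =>
          obtain ⟨i, j, rfl⟩ := hu
          obtain ⟨k, l, rfl⟩ := hv
          refine ⟨i + k, j + l, ?_⟩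
          rw [zpow_add, zpow_add]
          calc z ^ i * d ^ j * (z ^ k * d ^ l) = z ^ i * (d ^ j * z ^ k) * d ^ l := by group
            _ = z ^ i * (z ^ k * d ^ j) * d ^ l := by rw [(hzd.symm.zpow_zpow j k).eq]
            _ = z ^ i * z ^ k * (d ^ j * d ^ l) := by group
        | inv u _ hu =>
          obtain ⟨i, j, rfl⟩ := hu
          exact ⟨-i, -j, by rw [mul_inv_rev, ← zpow_neg, ← zpow_neg, (hzd.symm.zpow_zpow _ _).eq]⟩
      obtain ⟨i, j, rfl⟩ := hform
      have h3 : ∀ a : G, a ^ 3 = 1 → ∀ k : ℤ, (a ^ k) ^ 3 = 1 := by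
        intro a ha k
        rw [← zpow_natCast, ← zpow_mul, mul_comm, zpow_mul, zpow_natCast, ha, one_zpow]
      by_cases hdj : d ^ j = 1
      · rw [hdj, mul_one] at hx1 ⊢
        rintro q ⟨hq, hqc⟩
        refine ⟨hq, Subgroup.mem_centralizer_singleton_iff.mpr ?_⟩
        exact (hcent _ z q (Subgroup.mem_centralizer_singleton_iff.mp hqc).symm
          (hgen z _ hz3 hz1 (h3 z hz3 i) (zpow_mem (Subgroup.mem_zpowers z) i) hx1)).symm
      · rw [hfpfQ (z ^ i * d ^ j)]
        · exact bot_le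
        · intro w hw hcomm
          have hdw : d ^ j * w = w * d ^ j := by
            refine mul_left_cancel (a := z ^ i) ?_
            rw [← mul_assoc, hcomm, ← mul_assoc,
              ← hcent z (z ^ i) w (hzW w hw) (zpow_mem (Subgroup.mem_zpowers z) i), mul_assoc]
          exact hdfree w hw (hcent _ d w hdw
            (hgen d _ hd3 hd1 (h3 d hd3 j) (zpow_mem (Subgroup.mem_zpowers d) j) hdj))
  have hzQ : z ∈ Q := hchar (Subgroup.mem_centralizer_iff.mpr fun q hq =>
    Subgroup.mem_centralizer_singleton_iff.mp (hQz hq).2)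
  obtain ⟨a, ha⟩ := hQp ⟨z, hzQ⟩
  refine hz1 (orderOf_eq_one_iff.mp (Nat.eq_one_of_dvd_coprimes
    (Nat.Coprime.pow_left a (by norm_num : Nat.Coprime 2 3))
    (orderOf_dvd_of_pow_eq_one (congrArg Subtype.val ha)) (orderOf_dvd_of_pow_eq_one hz3)))

theorem smul_one_aux {A U : Type*} [Group A] [Group U] {φ : A →* MulAut U} (a : A) :
    φ a (1 : U) = 1 := map_one (φ a)

/-- Let G be a finite group with C_G(O₂(G)) ≤ O₂(G) containing an element of order 6, and let d be a non-identity 3-element of G normalizing a nontrivial elementary abelian 2-subgroup W with C_W(d) = 1. Then G has an elementary abelian subgroup of order 8. -/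
theorem result {G : Type*} [Group G] [Finite G] (hchar : Subgroup.centralizer (Cfsg.pCore 2 G : Set G) ≤ Cfsg.pCore 2 G) (hsix : ∃ g : G, orderOf g = 6) (d : G) (hd1 : d ≠ 1) (hd : IsPGroup 3 ↥(Subgroup.zpowers d)) (W : Subgroup G) (hW : Cfsg.IsElementaryAbelian 2 W) (hW1 : W ≠ ⊥) (hdW : d ∈ Subgroup.normalizer (W : Set G)) (hfpf : W ⊓ Subgroup.centralizer {d} = ⊥) : ∃ E : Subgroup G, Cfsg.IsElementaryAbelian 2 E ∧ Nat.card E = 8 := by
  classical
  haveI : Fact (Nat.Prime 2) := ⟨Nat.prime_two⟩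
  haveI : Fact (Nat.Prime 3) := ⟨Nat.prime_three⟩
  by_contra hcon
  push Not at hcon
  have hrk : ∀ E : Subgroup G, Cfsg.IsElementaryAbelian 2 E → Nat.card E ≤ 4 := by
    intro E hE
    obtain ⟨k, hk⟩ := (show IsPGroup 2 E from fun e => ⟨1, Subtype.ext (by simpa using hE.2 e e.2)⟩).exists_card_eq
    by_contra hlt
    have hk3 : 2 ^ 3 ∣ Nat.card E := by
      rw [hk]
      refine pow_dvd_pow 2 ?_
      by_contra h
      have := Nat.pow_le_pow_right two_pos (show k ≤ 2 by omega)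
      omega
    obtain ⟨F, hF⟩ := Sylow.exists_subgroup_card_pow_prime (G := E) 2 hk3
    refine hcon (F.map E.subtype) (Cfsg.Agent.Lib.ElemAbelian.mono hE (Subgroup.map_subtype_le _)) ?_
    rw [Subgroup.card_map_of_injective E.subtype_injective, hF]
    norm_num
  set Q := Cfsg.pCore 2 G with hQdef
  have hQp : IsPGroup 2 Q := Cfsg.Agent.Lib.PSolvable.pCore_isPGroup
  haveI hQn : Q.Normal := inferInstance
  have hQconj : ∀ g : G, ∀ q ∈ Q, g * q * g⁻¹ ∈ Q := fun g q hq => hQn.conj_mem q hq g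
  haveI hWc := hW.1
  have hWcomm : ∀ a ∈ W, ∀ b ∈ W, a * b = b * a := fun a ha b hb => setLike_mul_comm ha hb
  have hdW' : ∀ w ∈ W, d * w * d⁻¹ ∈ W := fun w hw => (Subgroup.mem_normalizer_iff.mp hdW w).mp hw
  have hdfree : ∀ w ∈ W, d * w = w * d → w = 1 := fun w hw h =>
    Subgroup.mem_bot.mp (hfpf ▸ ⟨hw, Subgroup.mem_centralizer_singleton_iff.mpr h.symm⟩)
  have hWp : IsPGroup 2 W := fun e => ⟨1, Subtype.ext (by simpa using hW.2 e e.2)⟩
  have hW4le : Nat.card W ≤ 4 := hrk W hW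
  -- invariant subgroups of `W`
  have hinv : ∀ U : Subgroup G, U ≤ W → U ≠ ⊥ → (∀ u ∈ U, d * u * d⁻¹ ∈ U) → U = W := by
    intro U hUW hU hUd
    obtain ⟨u, hu, hu1⟩ := (Subgroup.bot_or_exists_ne_one U).resolve_left hU
    exact eq_of_three_mem hUW hW4le hu (hUd u hu) hu1 (fun e => hu1 (conj_eq_one_iff.mp e))
      (fun e => hu1 (hdfree u (hUW hu) (mul_inv_eq_iff_eq_mul.mp e.symm)))
  have hW4 : Nat.card W = 4 := by
    obtain ⟨u, hu, hu1⟩ := (Subgroup.bot_or_exists_ne_one W).resolve_left hW1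
    obtain ⟨i, hi⟩ := hWp.exists_card_eq
    have hlt : 2 < Nat.card W := by
      haveI := Fintype.ofFinite W
      have h3 : ({1, ⟨u, hu⟩, ⟨_, hdW' u hu⟩} : Finset W).card = 3 := by
        rw [Finset.card_eq_three]
        exact ⟨1, ⟨u, hu⟩, ⟨_, hdW' u hu⟩, fun e => hu1 (congrArg Subtype.val e).symm,
          fun e => hu1 (conj_eq_one_iff.mp (congrArg Subtype.val e).symm),
          fun e => hu1 (hdfree u hu (mul_inv_eq_iff_eq_mul.mp (congrArg Subtype.val e).symm)), rfl⟩
      have h3' := Finset.card_le_univ ({1, ⟨u, hu⟩, ⟨_, hdW' u hu⟩} : Finset W)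
      rw [h3, ← Nat.card_eq_fintype_card] at h3'
      omega
    rw [hi] at hlt hW4le ⊢
    have hi2 : i ≤ 2 := (Nat.pow_le_pow_iff_right one_lt_two).mp (hW4le : 2 ^ i ≤ 2 ^ 2)
    interval_cases i <;> simp_all
  -- the elementary part of the centre of `Q`
  let Z : Subgroup G :=
    { carrier := {z | z ∈ Q ∧ z ∈ Subgroup.centralizer (Q : Set G) ∧ z ^ 2 = 1}
      one_mem' := ⟨one_mem _, one_mem _, one_pow 2⟩
      mul_mem' := fun {a b} ha hb => ⟨mul_mem ha.1 hb.1, mul_mem ha.2.1 hb.2.1, by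
        rw [(show Commute a b from Subgroup.mem_centralizer_iff.mp hb.2.1 a ha.1).mul_pow, ha.2.2, hb.2.2, one_mul]⟩
      inv_mem' := fun {a} ha => ⟨inv_mem ha.1, inv_mem ha.2.1, by rw [inv_pow, ha.2.2, inv_one]⟩ }
  have hZmem : ∀ z, z ∈ Z ↔ z ∈ Q ∧ z ∈ Subgroup.centralizer (Q : Set G) ∧ z ^ 2 = 1 := fun z => Iff.rfl
  have hZel : Cfsg.IsElementaryAbelian 2 Z :=
    Cfsg.Agent.Lib.ElemAbelian.of_comm_of_pow
      (fun a ha b hb => Subgroup.mem_centralizer_iff.mp hb.2.1 a ha.1) (fun a ha => ha.2.2)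
  have hZconj : ∀ g : G, ∀ z ∈ Z, g * z * g⁻¹ ∈ Z := by
    intro g z hz
    refine ⟨hQconj g z hz.1, Subgroup.mem_centralizer_iff.mpr fun q hq => ?_, by rw [conj_pow, hz.2.2]; group⟩
    have hq' : g⁻¹ * q * g ∈ Q := by simpa using hQconj g⁻¹ q hq
    have h := Subgroup.mem_centralizer_iff.mp hz.2.1 _ hq'
    calc q * (g * z * g⁻¹) = g * (g⁻¹ * q * g * z) * g⁻¹ := by group
      _ = g * (z * (g⁻¹ * q * g)) * g⁻¹ := by rw [h]
      _ = g * z * g⁻¹ * q := by group
  obtain ⟨g6, hg6⟩ := hsix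
  have hQne : Q ≠ ⊥ := by
    intro h
    have hg : g6 ∈ Q := hchar (by rw [h, Subgroup.mem_centralizer_iff]; intro x hx; simp at hx; simp [hx])
    rw [h, Subgroup.mem_bot] at hg
    simp [hg] at hg6
  have hZne : Z ≠ ⊥ := by
    haveI : Nontrivial Q := (Subgroup.nontrivial_iff_ne_bot Q).mpr hQne
    rcases (hQp.to_subgroup (Subgroup.center Q)).card_eq_or_dvd with h | h
    · exact absurd h (haveI := hQp.center_nontrivial; Finite.one_lt_card.ne')
    · obtain ⟨z, hz⟩ := exists_prime_orderOf_dvd_card' 2 h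
      intro hbot
      have hzZ : ((z : Q) : G) ∈ Z := ⟨(z : Q).2, Subgroup.mem_centralizer_iff.mpr fun q hq =>
        congrArg Subtype.val (Subgroup.mem_center_iff.mp z.2 ⟨q, hq⟩), by
        have h1 := pow_orderOf_eq_one z
        rw [hz] at h1
        exact congrArg (fun u : Subgroup.center Q => ((u : Q) : G)) h1⟩
      rw [hbot, Subgroup.mem_bot] at hzZ
      have hz1 : z = 1 := Subtype.ext (Subtype.ext hzZ)
      simp [hz1] at hz
  -- involutions centralizing `W` lie in `W`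
  have hinW : ∀ y : G, y ^ 2 = 1 → (∀ w ∈ W, y * w = w * y) → y ∈ W := by
    intro y hy hyW
    have hgen : W ⊔ Subgroup.zpowers y ≤ Subgroup.closure ((W : Set G) ∪ {y}) := sup_le
      (fun w hw => Subgroup.subset_closure (Or.inl hw))
      (Subgroup.zpowers_le.mpr (Subgroup.subset_closure (Or.inr rfl)))
    haveI := Subgroup.isMulCommutative_closure (k := (W : Set G) ∪ {y}) (by
      rintro a (ha | rfl) b (hb | rfl)
      · exact hWcomm a ha b hb
      · exact (hyW a ha).symm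
      · exact hyW b hb
      · rfl)
    have hel : Cfsg.IsElementaryAbelian 2 (W ⊔ Subgroup.zpowers y) :=
      Cfsg.Agent.Lib.ElemAbelian.of_comm_of_pow (fun a ha b hb => setLike_mul_comm (hgen ha) (hgen hb))
        (fun a ha => Subgroup.closure_induction (p := fun u _ => u ^ 2 = 1)
          (by rintro u (hu | rfl)
              · exact hW.2 u hu
              · exact hy)
          (one_pow 2)
          (fun u v hu hv h1 h2 => by
            rw [(show Commute u v from setLike_mul_comm hu hv).mul_pow, h1, h2, one_mul])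
          (fun u _ h1 => by rw [inv_pow, h1, inv_one]) (hgen ha))
    have := Subgroup.eq_of_le_of_card_ge (le_sup_left : W ≤ W ⊔ Subgroup.zpowers y)
      ((hrk _ hel).trans hW4.ge)
    rw [this]
    exact Subgroup.mem_sup_right (Subgroup.mem_zpowers y)
  -- `W` is the elementary part of the centre
  have hZp : IsPGroup 2 Z := fun e => ⟨1, Subtype.ext (by simpa using e.2.2.2)⟩
  set U := W ⊓ Subgroup.centralizer (Z : Set G) with hU
  have hUd : ∀ u ∈ U, d * u * d⁻¹ ∈ U := by
    intro u hu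
    refine ⟨hdW' u hu.1, Subgroup.mem_centralizer_iff.mpr fun z hz => ?_⟩
    have hz' : d⁻¹ * z * d ∈ Z := by simpa using hZconj d⁻¹ z hz
    have h := Subgroup.mem_centralizer_iff.mp hu.2 _ hz'
    calc z * (d * u * d⁻¹) = d * (d⁻¹ * z * d * u) * d⁻¹ := by group
      _ = d * (u * (d⁻¹ * z * d)) * d⁻¹ := by rw [h]
      _ = d * u * d⁻¹ * z := by group
  have hWZ : ∀ w ∈ W, ∀ z ∈ Z, w * z = z * w := by
    by_cases hUb : U = ⊥
    · exfalso
      refine not_faithful_four hWp hW4 hZp (hrk Z hZel) hZne (fun w _ z hz => hZconj w z hz) fun w hw hwc => ?_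
      exact Subgroup.mem_bot.mp (hUb ▸ ⟨hw, Subgroup.mem_centralizer_iff.mpr fun z hz => (hwc z hz).symm⟩)
    · intro w hw z hz
      exact (Subgroup.mem_centralizer_iff.mp ((hinv U inf_le_left hUb hUd).symm ▸ hw : w ∈ U).2 z hz).symm
  have hZW : Z = W :=
    hinv Z (fun z hz => hinW z hz.2.2 fun w hw => (hWZ w hw z hz).symm) hZne (hZconj d)
  have hWconj : ∀ g : G, ∀ w ∈ W, g * w * g⁻¹ ∈ W := fun g w hw => hZW ▸ hZconj g w (hZW.symm ▸ hw)
  have hWQ : ∀ w ∈ W, w ∈ Q ∧ ∀ q ∈ Q, q * w = w * q := fun w hw =>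
    ⟨(hZW.symm ▸ hw : w ∈ Z).1, Subgroup.mem_centralizer_iff.mp (hZW.symm ▸ hw : w ∈ Z).2.1⟩
  -- the element of order `6`
  set t := g6 ^ 3 with ht
  set s := g6 ^ 2 with hs
  have ht2 : t ^ 2 = 1 := by
    rw [ht, ← pow_mul]
    have h6 := pow_orderOf_eq_one g6
    rw [hg6] at h6
    exact h6
  have ht1 : t ≠ 1 := fun e => by
    have := orderOf_dvd_of_pow_eq_one e
    rw [hg6] at this; norm_num at this
  have hs3 : orderOf s = 3 := by
    rw [hs, orderOf_pow_of_dvd two_ne_zero (by rw [hg6]; norm_num), hg6]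
  have hsp : IsPGroup 3 (Subgroup.zpowers s) := IsPGroup.of_card (n := 1) (by rw [Nat.card_zpowers, hs3, pow_one])
  have hst : Commute s t := (Commute.refl g6).pow_pow 2 3
  have hs1 : s ^ 3 = 1 := hs3 ▸ pow_orderOf_eq_one s
  have hsW : ∀ w ∈ W, s * w = w * s := by
    by_cases htW : t ∈ W
    · exact centralizes_of_fixed hW4.le hs1 (hWconj s) htW ht1 hst.eq
    · letI : MulAction (Subgroup.zpowers t) W := MulAction.compHom W
        (Cfsg.Agent.Lib.Coprime.conjAut (K := W) (Cfsg.Agent.Lib.Coprime.le_normalizer_of_conj_mem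
          fun a _ z hz => hWconj a z hz))
      have htp : IsPGroup 2 (Subgroup.zpowers t) :=
        IsPGroup.of_card (n := 1) (by rw [Nat.card_zpowers, orderOf_eq_prime ht2 ht1, pow_one])
      obtain ⟨c, hc, hc1⟩ := htp.exists_fixed_point_of_prime_dvd_card_of_fixed_point W
        (by rw [hW4]; norm_num) (a := 1) (fun a => smul_one_aux a)
      have htc : t * c = c * t :=
        mul_inv_eq_iff_eq_mul.mp (congrArg Subtype.val (hc ⟨t, Subgroup.mem_zpowers t⟩))
      have hc1' : (c : G) ≠ 1 := fun e => hc1 (Subtype.ext e).symm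
      refine centralizes_of_fixed hW4.le hs1 (hWconj s) c.2 hc1' ?_
      by_contra hne
      have hc'F : s * c * s⁻¹ * t = t * (s * c * s⁻¹) := by
        calc s * c * s⁻¹ * t = s * c * (s⁻¹ * t) := by group
          _ = s * c * (t * s⁻¹) := by rw [hst.inv_left.eq]
          _ = s * (c * t) * s⁻¹ := by group
          _ = s * (t * c) * s⁻¹ := by rw [htc]
          _ = (s * t) * c * s⁻¹ := by group
          _ = (t * s) * c * s⁻¹ := by rw [hst.eq]
          _ = t * (s * c * s⁻¹) := by group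
      have heq := eq_of_three_mem (U := W ⊓ Subgroup.centralizer {t}) inf_le_left hW4.le
        ⟨c.2, Subgroup.mem_centralizer_singleton_iff.mpr htc.symm⟩
        ⟨hWconj s c c.2, Subgroup.mem_centralizer_singleton_iff.mpr hc'F⟩ hc1'
        (fun e => hc1' (conj_eq_one_iff.mp e))
        (fun e => hne (mul_inv_eq_iff_eq_mul.mp e.symm))
      exact htW (hinW t ht2 fun w hw =>
        (Subgroup.mem_centralizer_singleton_iff.mp (heq.symm ▸ hw : w ∈ W ⊓ Subgroup.centralizer {t}).2).symm)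
  set C := Subgroup.centralizer (W : Set G) with hC
  have hCn : ∀ g : G, ∀ c ∈ C, g * c * g⁻¹ ∈ C := by
    intro g c hc
    rw [hC, Subgroup.mem_centralizer_iff]
    intro w hw
    have hw' : g⁻¹ * w * g ∈ W := by simpa using hWconj g⁻¹ w hw
    have h := Subgroup.mem_centralizer_iff.mp hc _ hw'
    calc w * (g * c * g⁻¹) = g * (g⁻¹ * w * g * c) * g⁻¹ := by group
      _ = g * (c * (g⁻¹ * w * g)) * g⁻¹ := by rw [h]
      _ = g * c * g⁻¹ * w := by group
  have hCnormal : C.Normal := ⟨fun c hc g => hCn g c hc⟩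
  -- a central element of order three in a Sylow subgroup
  obtain ⟨S, hdS⟩ := hd.exists_le_sylow
  obtain ⟨S', hsS'⟩ := hsp.exists_le_sylow
  obtain ⟨g, hg⟩ := MulAction.exists_smul_eq G S' S
  have hsS : g * s * g⁻¹ ∈ (S : Subgroup G) := by
    rw [← hg, Sylow.coe_subgroup_smul]
    exact ⟨s, hsS' (Subgroup.mem_zpowers s), by simp⟩
  have hsC : g * s * g⁻¹ ∈ C :=
    hCn g s (Subgroup.mem_centralizer_iff.mpr fun w hw => (hsW w hw).symm)
  set K := C.subgroupOf (S : Subgroup G) with hK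
  haveI : K.Normal := hCnormal.subgroupOf (S : Subgroup G)
  have hKne : K ≠ ⊥ := fun e => by
    have h1 : (⟨_, hsS⟩ : (S : Subgroup G)) ∈ K := hsC
    rw [e, Subgroup.mem_bot] at h1
    have h2 : s = 1 := conj_eq_one_iff.mp (congrArg Subtype.val h1)
    simp [h2] at hs3
  obtain ⟨z₁, hz₁K, hz₁Z, hz₁1⟩ := Cfsg.Agent.Lib.Critical.exists_center_mem S.2 hKne
  obtain ⟨z, hzK, hzZ, hz3⟩ : ∃ z ∈ K, z ∈ Subgroup.center (S : Subgroup G) ∧ orderOf z = 3 := by
    obtain ⟨i, hi⟩ := IsPGroup.iff_orderOf.mp S.2 z₁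
    have hi0 : i ≠ 0 := by
      rintro rfl
      rw [pow_zero, orderOf_eq_one_iff] at hi
      exact hz₁1 hi
    refine ⟨z₁ ^ 3 ^ (i - 1), pow_mem hz₁K _, pow_mem hz₁Z _, ?_⟩
    rw [orderOf_pow_of_dvd (by positivity) (by rw [hi]; exact pow_dvd_pow 3 (by omega)), hi,
      Nat.pow_div (by omega) (by norm_num), show i - (i - 1) = 1 by omega, pow_one]
  set z' : G := ((z : (S : Subgroup G)) : G) with hz'
  have hz'3 : z' ^ 3 = 1 := by
    have h1 := pow_orderOf_eq_one z
    rw [hz3] at h1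
    exact congrArg Subtype.val h1
  have hz'1 : z' ≠ 1 := fun e => by
    have : z = 1 := Subtype.ext e
    simp [this] at hz3
  have hz'd : Commute z' d :=
    congrArg Subtype.val (Subgroup.mem_center_iff.mp hzZ ⟨d, hdS (Subgroup.mem_zpowers d)⟩).symm
  have hz'W : ∀ w ∈ W, z' * w = w * z' := fun w hw =>
    (Subgroup.mem_centralizer_iff.mp (Subgroup.mem_subgroupOf.mp hzK) w hw).symm
  -- elements acting on `W` as fixed-point-free automorphisms are fixed-point-free on `Q`
  have hfpfQ : ∀ x : G, (∀ w ∈ W, x * w = w * x → w = 1) → Q ⊓ Subgroup.centralizer {x} = ⊥ := by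
    intro x hx
    by_contra hne
    rcases (hQp.to_le (inf_le_left : Q ⊓ Subgroup.centralizer {x} ≤ Q)).card_eq_or_dvd with h | h
    · exact hne (Subgroup.eq_bot_of_card_eq _ h)
    · obtain ⟨y, hy⟩ := exists_prime_orderOf_dvd_card' 2 h
      have hy2 : (y : G) ^ 2 = 1 := by
        rw [← SubgroupClass.coe_pow, ← hy, pow_orderOf_eq_one]; rfl
      have hyW := hinW y hy2 fun w hw => (hWQ w hw).2 y y.2.1
      have hy1 : (y : G) = 1 :=
        hx y hyW (Subgroup.mem_centralizer_singleton_iff.mp y.2.2).symm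
      have : y = 1 := Subtype.ext hy1
      simp [this] at hy
  -- `d` has order three
  obtain ⟨n, hn⟩ := IsPGroup.iff_orderOf.mp hd ⟨d, Subgroup.mem_zpowers d⟩
  rw [Subgroup.orderOf_mk] at hn
  have hn1 : 1 ≤ n := by
    by_contra h
    rw [show n = 0 by omega, pow_zero, orderOf_eq_one_iff] at hn
    exact hd1 hn
  have hd3 : orderOf d = 3 := by
    refine Cfsg.Agent.S3738.result d n hn1 hn Q hQp ?_ ?_ (hfpfQ d hdfree) ?_
    · rw [Subgroup.normalizer_eq_top]; exact Subgroup.mem_top d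
    · rw [eq_bot_iff]
      rintro x ⟨hxd, hxc⟩
      have hxQ := hchar hxc
      obtain ⟨a, ha⟩ := hQp ⟨x, hxQ⟩
      obtain ⟨b, hb⟩ := hd ⟨x, hxd⟩
      have ha' : x ^ 2 ^ a = 1 := congrArg Subtype.val ha
      have hb' : x ^ 3 ^ b = 1 := congrArg Subtype.val hb
      rw [Subgroup.mem_bot, ← orderOf_eq_one_iff]
      exact Nat.eq_one_of_dvd_coprimes (Nat.Coprime.pow a b (by norm_num))
        (orderOf_dvd_of_pow_eq_one ha') (orderOf_dvd_of_pow_eq_one hb')
    · intro V _ hV A hA hA2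
      have hel : Cfsg.IsElementaryAbelian 2 (A.map V.subtype) := by
        refine Cfsg.Agent.Lib.ElemAbelian.of_comm_of_pow ?_ ?_
        · rintro _ ⟨a, ha, rfl⟩ _ ⟨b, hb, rfl⟩
          exact congrArg Subtype.val (setLike_mul_comm ha hb)
        · rintro _ ⟨a, ha, rfl⟩
          exact congrArg Subtype.val (hA2 a ha)
      have := hrk _ hel
      rwa [Subgroup.card_map_of_injective V.subtype_injective] at this
  have hd3' : d ^ 3 = 1 := hd3 ▸ pow_orderOf_eq_one d
  exact two_elements hQp hQn hchar hd3' hz'3 hd1 hz'1 hz'd hW1 hz'W hdfree hfpfQ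

end Cfsg.Agent.S3739
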