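import Cfsg.Statements.S3740
import Mathlib
import Cfsg.Agent.Lib.SL2Fusion.Normalized
-- import your own Cfsg.Agent.* helpers here

set_option autoImplicit false
set_option linter.style.haveILetI false
open Cfsg

namespace Cfsg.Agent.S3740

open Subgroup
open scoped Pointwise
open Cfsg.Agent.Lib
open Cfsg.Agent.Lib.SL2 (SLtwo)

theorem exists_triple {G : Type*} [Group G] (a c : G) (R : Subgroup G) (hcR : c ∈ R)
    (haR : a ∈ normalizer (R : Set G)) (hc4 : c ^ 4 = 1)
    (hout : ∀ x ∈ R, x ∉ zpowers c → x * c * x⁻¹ = c⁻¹ ∧ x * x = c ^ 2)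
    (hcos : ∀ x ∈ R, x ∉ zpowers c → ∀ k ∈ R, k ∉ zpowers c → ∃ j : ℤ, k = x * c ^ j)
    (h1 : ∀ g ∈ R, g * (a * g * a⁻¹) = a * g * a⁻¹ * g → a * g = g * a)
    (h2 : ∀ g ∈ R, g * (a * a * g * (a * a)⁻¹) = a * a * g * (a * a)⁻¹ * g → a * g = g * a)
    (hne : a * c ≠ c * a) :
    ∃ C H : G, C ∈ R ∧ H ∈ R ∧ zpowers C = zpowers c ∧ H ∉ zpowers c ∧ C ^ 4 = 1 ∧ H * H = C * C ∧
      H * C = C ^ 3 * H ∧ a * C = H * a ∧ a * H = C * H * a ∧ a * a * a * C = C * (a * a * a) := by
  set x := a * c * a⁻¹ with hx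
  set k := a * x * a⁻¹ with hk
  have hxR : x ∈ R := (mem_normalizer_iff.mp haR c).mp hcR
  have hkR : k ∈ R := (mem_normalizer_iff.mp haR x).mp hxR
  have hxc : x ∉ zpowers c := fun h => by
    obtain ⟨i, hi⟩ := mem_zpowers_iff.mp h
    exact hne (h1 c hcR (by rw [← hx, ← hi]; exact (Commute.self_zpow c i).eq))
  have hkc : k ∉ zpowers c := fun h => by
    obtain ⟨i, hi⟩ := mem_zpowers_iff.mp h
    refine hne (h2 c hcR ?_)
    rw [show a * a * c * (a * a)⁻¹ = k by rw [hk, hx]; group, ← hi]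
    exact (Commute.self_zpow c i).eq
  obtain ⟨hxinv, hxsq⟩ := hout x hxR hxc
  obtain ⟨j, hj⟩ := hcos x hxR hxc k hkR hkc
  have hxc' : x * c = c⁻¹ * x := mul_inv_eq_iff_eq_mul.mp hxinv
  have hc3 : c⁻¹ = c ^ 3 := inv_eq_of_mul_eq_one_right (by rw [← pow_succ', hc4])
  have hj4 : c ^ j = c ^ (j % 4) := by
    conv_lhs => rw [← Int.mul_ediv_add_emod j 4]
    rw [zpow_add, zpow_mul, show c ^ (4 : ℤ) = 1 by exact_mod_cast hc4, one_zpow, one_mul]
  have heven : ¬ (x * k = k * x) := fun h => hne (by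
    have h3 := h1 x hxR (by rw [← hk]; exact h)
    rw [hx] at h3
    calc a * c = a * c * a⁻¹ * a := by group
      _ = c * a := by
        have h4 : a * c * a⁻¹ = c := by
          calc a * c * a⁻¹ = a⁻¹ * (a * (a * c * a⁻¹)) := by group
            _ = a⁻¹ * ((a * c * a⁻¹) * a) := by rw [h3]
            _ = c := by group
        rw [h4])
  rw [hj4] at hj
  have hxc2 : x * c ^ 2 = c ^ 2 * x := by rw [← hxsq, ← mul_assoc]
  obtain hcase | hcase | hcase | hcase : j % 4 = 0 ∨ j % 4 = 1 ∨ j % 4 = 2 ∨ j % 4 = 3 := by omega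
  all_goals rw [hcase] at hj
  · exact absurd (by rw [hj]; simp) heven
  · -- replace `c` by its inverse
    rw [zpow_one] at hj
    refine ⟨c⁻¹, x⁻¹, inv_mem hcR, inv_mem hxR, zpowers_inv, fun h => hxc (inv_mem_iff.mp h),
      by rw [inv_pow, hc4, inv_one], by rw [← mul_inv_rev, hxsq, ← mul_inv_rev, sq], ?_, ?_, ?_, ?_⟩
    · rw [show (c⁻¹) ^ 3 = c by rw [inv_pow, ← hc3, inv_inv]]
      calc x⁻¹ * c⁻¹ = x⁻¹ * (c⁻¹ * x) * x⁻¹ := by group
        _ = x⁻¹ * (x * c) * x⁻¹ := by rw [hxc']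
        _ = c * x⁻¹ := by group
    · rw [hx]; group
    · calc a * x⁻¹ = k⁻¹ * a := by rw [hk]; group
        _ = c⁻¹ * x⁻¹ * a := by rw [hj, mul_inv_rev]
    · have hcyc : a * k * a⁻¹ = c := by
        calc a * k * a⁻¹ = k * x := by
              conv_lhs => rw [hj]
              rw [hk, hx]; group
          _ = x * c * x := by rw [hj]
          _ = c⁻¹ * (x * x) := by rw [hxc', mul_assoc]
          _ = c := by rw [hxsq, sq, inv_mul_cancel_left]
      have : a * a * a * c = c * (a * a * a) := by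
        calc a * a * a * c = (a * k * a⁻¹) * (a * a * a) := by rw [hk, hx]; group
          _ = c * (a * a * a) := by rw [hcyc]
      exact (Commute.inv_right this).eq
  · refine absurd ?_ heven
    rw [hj, show ((2 : ℤ)) = ((2 : ℕ) : ℤ) from rfl, zpow_natCast, mul_assoc x (c ^ 2) x, ← hxc2]
  · rw [show ((3 : ℤ)) = ((3 : ℕ) : ℤ) from rfl, zpow_natCast, ← hc3] at hj
    have hj' : k = c * x := by
      rw [hj]
      calc x * c⁻¹ = c * (c⁻¹ * x) * c⁻¹ := by group
        _ = c * (x * c) * c⁻¹ := by rw [hxc']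
        _ = c * x := by group
    refine ⟨c, x, hcR, hxR, rfl, hxc, hc4, by rw [hxsq, sq], by rw [hxc', hc3], ?_, ?_, ?_⟩
    · rw [hx]; group
    · rw [← hj', hk]; group
    · have hcyc : a * k * a⁻¹ = c := by
        calc a * k * a⁻¹ = x * k := by
              conv_lhs => rw [hj']
              rw [hk, hx]; group
          _ = x * c * x := by rw [hj', ← mul_assoc]
          _ = c⁻¹ * (x * x) := by rw [hxc', mul_assoc]
          _ = c := by rw [hxsq, sq, inv_mul_cancel_left]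
      calc a * a * a * c = (a * k * a⁻¹) * (a * a * a) := by rw [hk, hx]; group
        _ = c * (a * a * a) := by rw [hcyc]


/-- Let F be a finite field of odd characteristic p and let a be a p-element of SL₂(F) normalizing a subgroup R of order prime to p with [R, a] ≠ 1. Then p = 3, R is a quaternion group of order 8, and R⟨a⟩ is isomorphic to SL₂(3). -/
theorem result (F : Type) [Field F] [Fintype F] {p : ℕ} [Fact p.Prime] [CharP F p] (hp : p ≠ 2) (a : Matrix.SpecialLinearGroup (Fin 2) F) (ha : IsPGroup p ↥(Subgroup.zpowers a)) (R : Subgroup (Matrix.SpecialLinearGroup (Fin 2) F)) (hR : (Nat.card R).Coprime p) (haR : a ∈ Subgroup.normalizer (R : Set (Matrix.SpecialLinearGroup (Fin 2) F))) (hnt : ⁅R, Subgroup.zpowers a⁆ ≠ ⊥) : p = 3 ∧ Nonempty (↥R ≃* QuaternionGroup 2) ∧ Nonempty (↥(R ⊔ Subgroup.zpowers a) ≃* Matrix.SpecialLinearGroup (Fin 2) (ZMod 3)) := by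
  haveI : Finite (Matrix.SpecialLinearGroup (Fin 2) F) := inferInstance
  have hp' : p.Prime := Fact.out
  obtain ⟨k, hk'⟩ := ha ⟨a, mem_zpowers a⟩
  have hk : a ^ p ^ k = 1 := congrArg Subtype.val hk'
  have hRa : ⁅R, zpowers a⁆ = ⊥ ↔ R ≤ centralizer {a} := by
    rw [commutator_eq_bot_iff_le_centralizer, zpowers_eq_closure, centralizer_closure]
  have hnc : ¬ R ≤ centralizer {a} := fun h => hnt (hRa.mpr h)
  have ha1 : a ≠ 1 := fun h => hnc fun g _ => mem_centralizer_singleton_iff.mpr (by simp [h])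
  have hR2 := SL2Fusion.isPGroup_two hp hk ha1 hR haR
  obtain ⟨c, hc, hidx, hout, hne⟩ := SL2Fusion.quaternion_data hp hk ha1 hR2 haR hnc
  obtain ⟨e, -, hcard⟩ := (Nat.dvd_prime_pow hp').mp (orderOf_dvd_of_pow_eq_one hk)
  have hodd : (orderOf a).Coprime 2 := by
    rw [hcard]; exact Nat.Coprime.pow_left _ ((Nat.coprime_primes hp' Nat.prime_two).mpr hp)
  have hmemz : ∀ x : R, (x : Matrix.SpecialLinearGroup (Fin 2) F) ∈ zpowers c.1 ↔ x ∈ zpowers c := by
    intro x
    constructor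
    · intro h
      obtain ⟨i, hi⟩ := mem_zpowers_iff.mp h
      exact mem_zpowers_iff.mpr ⟨i, Subtype.ext (by simpa using hi)⟩
    · intro h
      obtain ⟨i, rfl⟩ := mem_zpowers_iff.mp h
      simp
  obtain ⟨C, H, hCR, hHR, hCz, hHz, hC4, hHH, hHC, haC, haH, ha3C⟩ := exists_triple a c.1 R c.2 haR
    (by rw [← hc, ← orderOf_coe c, pow_orderOf_eq_one])
    (fun x hx hxz => by
      obtain ⟨h1, h2⟩ := hout ⟨x, hx⟩ fun h => hxz ((hmemz ⟨x, hx⟩).mpr h)
      exact ⟨congrArg Subtype.val h1, congrArg Subtype.val h2⟩)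
    (fun x hx hxz y hy hyz => by
      have h := (mul_mem_iff_of_index_two hidx (a := (⟨x, hx⟩ : R)⁻¹) (b := ⟨y, hy⟩)).mpr
        (iff_of_false (fun h => hxz ((hmemz ⟨x, hx⟩).mpr (inv_mem_iff.mp h)))
          (fun h => hyz ((hmemz ⟨y, hy⟩).mpr h)))
      obtain ⟨j, hj⟩ := mem_zpowers_iff.mp ((hmemz _).mpr h)
      exact ⟨j, by rw [hj]; simp⟩)
    (fun g _ h => SL2Fusion.commute_of_commute_conj hp hk h)
    (fun g _ h => by
      have h2 := SL2Fusion.commute_of_commute_conj hp (k := k)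
        (show (a * a) ^ p ^ k = 1 by rw [(Commute.refl a).mul_pow, hk, one_mul]) h
      obtain ⟨m, hm⟩ := exists_pow_eq_self_of_coprime hodd.symm
      rw [← hm, sq]
      exact ((show Commute (a * a) g from h2).pow_left m).eq)
    hne
  have hC2 : C * C ≠ 1 := by
    intro h
    have h2 : orderOf C ∣ 2 := orderOf_dvd_of_pow_eq_one (by rw [sq, h])
    have h4 : orderOf C = 4 := by rw [← Nat.card_zpowers, hCz, Nat.card_zpowers, orderOf_coe, hc]
    rw [h4] at h2
    exact absurd h2 (by decide)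
  have hCa : a * C ≠ C * a := fun h => by
    have h1 : H = C := by
      have h2 := haC.symm.trans h
      exact mul_right_cancel h2
    exact hHz (h1 ▸ hCz ▸ mem_zpowers C)
  have hp3 : p = 3 := by
    by_contra h3
    refine hCa ?_
    have hco : (orderOf a).Coprime 3 := by
      rw [hcard]; exact Nat.Coprime.pow_left _ ((Nat.coprime_primes hp' Nat.prime_three).mpr h3)
    obtain ⟨m, hm⟩ := exists_pow_eq_self_of_coprime hco.symm
    have h1 : Commute (a ^ 3) C := by rw [pow_three', Commute, SemiconjBy]; exact ha3C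
    rw [← hm]
    exact (h1.pow_left m).eq
  subst hp3
  have ha3 : a ^ 3 = 1 := by
    by_contra h
    have h1 : C ^ (2 * 3) = 1 := SL2Fusion.pow_two_mul_eq_one hp (k := k) (a := a ^ 3)
      (by rw [← pow_mul, mul_comm, pow_mul, hk, one_pow]) h (by rw [pow_three']; exact ha3C.symm)
    rw [show 2 * 3 = 4 + 2 from rfl, pow_add, hC4, one_mul, sq] at h1
    exact hC2 h1
  haveI : Fact (Nat.Prime 3) := ⟨Nat.prime_three⟩
  have hoa : orderOf a = 3 := orderOf_eq_prime ha3 ha1
  have hcardR : Nat.card R = 8 := by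
    rw [← (zpowers c).card_mul_index, hidx, Nat.card_zpowers, hc]
  have hdisj : R ⊓ zpowers a = ⊥ := disjoint_iff.mp (disjoint_of_coprime_natCard (by rw [Nat.card_zpowers, hoa]; exact hR))
  refine ⟨rfl, ?_, ?_⟩
  · have hHnot : (⟨H, hHR⟩ : R) ∉ zpowers c := fun h => hHz ((hmemz ⟨H, hHR⟩).mpr h)
    obtain ⟨e'⟩ := TwoGroup.nonempty_mulEquiv_quaternion (m := 2) (a := c) (b := ⟨H, hHR⟩)
      (by rw [hc]) (hout _ hHnot).2 (hout _ hHnot).1 hHnot ⊤ (mem_top _) (mem_top _) (fun g _ => by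
        by_cases hg : g ∈ zpowers c
        · exact Or.inl hg
        · exact Or.inr ((mul_mem_iff_of_index_two hidx).mpr (iff_of_false hHnot hg)))
    exact ⟨topEquiv.symm.trans e'⟩
  · set M := R ⊔ zpowers a with hM
    let C' : M := ⟨C, mem_sup_left hCR⟩
    let H' : M := ⟨H, mem_sup_left hHR⟩
    let T' : M := ⟨a, mem_sup_right (mem_zpowers a)⟩
    have hinj : Function.Injective (SolvLinear.wordVal C' H' T') := by
      rintro ⟨i, j, l⟩ ⟨i', j', l'⟩ h
      have h0 : C ^ (i : ℕ) * H ^ (j : ℕ) * a ^ (l : ℕ) = C ^ (i' : ℕ) * H ^ (j' : ℕ) * a ^ (l' : ℕ) := by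
        have := congrArg Subtype.val h
        simpa [SolvLinear.wordVal, C', H', T'] using this
      have h1 : (C ^ (i' : ℕ) * H ^ (j' : ℕ))⁻¹ * (C ^ (i : ℕ) * H ^ (j : ℕ)) =
          a ^ (l' : ℕ) * (a ^ (l : ℕ))⁻¹ := by
        calc (C ^ (i' : ℕ) * H ^ (j' : ℕ))⁻¹ * (C ^ (i : ℕ) * H ^ (j : ℕ))
            = (C ^ (i' : ℕ) * H ^ (j' : ℕ))⁻¹ * (C ^ (i : ℕ) * H ^ (j : ℕ) * a ^ (l : ℕ)) *
                (a ^ (l : ℕ))⁻¹ := by group
          _ = _ := by rw [h0]; group
      have hmem : a ^ (l' : ℕ) * (a ^ (l : ℕ))⁻¹ ∈ R ⊓ zpowers a := mem_inf.mpr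
        ⟨h1 ▸ mul_mem (inv_mem (mul_mem (pow_mem hCR _) (pow_mem hHR _)))
          (mul_mem (pow_mem hCR _) (pow_mem hHR _)),
          mul_mem (pow_mem (mem_zpowers a) _) (inv_mem (pow_mem (mem_zpowers a) _))⟩
      rw [hdisj, mem_bot, mul_inv_eq_one] at hmem
      have hl : l' = l := Fin.ext (pow_injOn_Iio_orderOf (by simp [hoa, l'.isLt]) (by simp [hoa, l.isLt]) hmem)
      subst hl
      rw [mul_inv_cancel, inv_mul_eq_one] at h1
      have hj : j = j' := by
        by_contra hne'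
        refine hHz ?_
        rw [← hCz]
        fin_cases j <;> fin_cases j' <;> simp at hne' h1
        · have : H = (C ^ (i' : ℕ))⁻¹ * C ^ (i : ℕ) := by rw [← h1]; group
          rw [this]
          exact mul_mem (inv_mem (pow_mem (mem_zpowers C) _)) (pow_mem (mem_zpowers C) _)
        · have : H = (C ^ (i : ℕ))⁻¹ * C ^ (i' : ℕ) := by rw [h1]; group
          rw [this]
          exact mul_mem (inv_mem (pow_mem (mem_zpowers C) _)) (pow_mem (mem_zpowers C) _)
      subst hj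
      have hC : orderOf C = 4 := by rw [← Nat.card_zpowers, hCz, Nat.card_zpowers, orderOf_coe, hc]
      have hi : i = i' := Fin.ext (pow_injOn_Iio_orderOf (by simp [hC, i.isLt]) (by simp [hC, i'.isLt])
        (mul_right_cancel h1).symm)
      rw [hi]
    obtain ⟨f, hf⟩ := SolvLinear.exists_hom_slTwoThree (M := M) (a := C') (b := H') (t := T')
      (Subtype.ext hC4) (Subtype.ext hHH) (Subtype.ext hHC) (Subtype.ext ha3) (Subtype.ext haC)
      (Subtype.ext haH) hinj
    have hcardM : Nat.card M ≤ Nat.card (Matrix.SpecialLinearGroup (Fin 2) (ZMod 3)) := by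
      rw [← Nat.card_congr (Equiv.ofBijective _ SolvLinear.slWord_bijective)]
      have h1 : ((M : Set (Matrix.SpecialLinearGroup (Fin 2) F))) = (R : Set (Matrix.SpecialLinearGroup (Fin 2) F)) * (zpowers a : Set (Matrix.SpecialLinearGroup (Fin 2) F)) := by
        rw [hM]
        exact coe_mul_of_right_le_normalizer_left R (zpowers a) (zpowers_le.mpr haR)
      rw [← SetLike.coe_sort_coe, Nat.card_coe_set_eq, h1]
      refine le_trans (Set.natCard_mul_le (s := (R : Set (Matrix.SpecialLinearGroup (Fin 2) F))) (t := (zpowers a : Set (Matrix.SpecialLinearGroup (Fin 2) F)))) ?_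
      simp [hcardR, Nat.card_zpowers, hoa, SolvLinear.Word, Nat.card_prod]
    exact ⟨(MulEquiv.ofBijective f ((Nat.bijective_iff_injective_and_card f).mpr
      ⟨hf, le_antisymm (Nat.card_le_card_of_injective f hf) hcardM⟩)).symm⟩

end Cfsg.Agent.S3740
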