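import Cfsg.Statements.S3741
import Mathlib

set_option autoImplicit false
open Cfsg

namespace Cfsg.Agent.S3741

open scoped commutatorElement in
/-- One inequality: the pairing by commutators into a central subgroup of order at most `p`. -/
theorem index_le {G : Type*} [Group G] [Finite G] {p : ℕ} [hp : Fact p.Prime] (hG : IsPGroup p G)
    (A B : Subgroup G) (hcard : Nat.card ↥⁅A, B⁆ ≤ p)
    (hcenA : ∀ a ∈ A, ∀ k ∈ ⁅A, B⁆, a * k = k * a) :
    (A ⊓ Subgroup.centralizer (B : Set G)).relIndex A ≤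
      (B ⊓ Subgroup.centralizer (A : Set G)).relIndex B := by
  set C := B ⊓ Subgroup.centralizer (A : Set G) with hC
  suffices h : ∀ n, ∀ B' : Subgroup G, C ≤ B' → B' ≤ B → Nat.card B' = n →
      (A ⊓ Subgroup.centralizer (B' : Set G)).relIndex A ≤ C.relIndex B' from
    h _ B inf_le_left le_rfl rfl
  intro n
  induction n using Nat.strong_induction_on with
  | _ n ih => ?_
  intro B'' hCB hB'' hn
  rcases eq_or_lt_of_le hCB with rfl | hlt
  · have : A ≤ Subgroup.centralizer (C : Set G) :=
      Subgroup.le_centralizer_iff.1 inf_le_right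
    rw [inf_eq_left.2 this, Subgroup.relIndex_self, Subgroup.relIndex_self]
  obtain ⟨B', hB', hmax⟩ := Set.Finite.exists_maximal
    (s := {X : Subgroup G | C ≤ X ∧ X < B''}) (Set.toFinite _) ⟨C, le_rfl, hlt⟩
  obtain ⟨hCB', hB'lt⟩ := hB'
  obtain ⟨b, hb, hb'⟩ := SetLike.exists_of_lt hB'lt
  have hgen : B' ⊔ Subgroup.zpowers b = B'' := by
    rcases eq_or_lt_of_le (sup_le hB'lt.le (Subgroup.zpowers_le.2 hb)) with h | h
    · exact h
    · exact absurd (hmax ⟨hCB'.trans le_sup_left, h⟩ le_sup_left (Subgroup.mem_sup_right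
        (Subgroup.mem_zpowers b))) hb'
  have hcardlt : Nat.card B' < n := by
    rw [← hn]
    exact Set.Finite.card_lt_card (Set.toFinite (B'' : Set G)) (SetLike.coe_ssubset_coe.2 hB'lt)
  have hIH := ih (Nat.card B') hcardlt
    B' hCB' (hB'lt.le.trans hB'') rfl
  -- the gain on the side of `B`
  have hgain : p ≤ B'.relIndex B'' := by
    obtain ⟨k, hk⟩ := ((hG.to_subgroup B'').index (B'.subgroupOf B''))
    have hk' : B'.relIndex B'' = p ^ k := hk
    rw [hk']
    refine Nat.le_self_pow ?_ p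
    rintro rfl
    rw [pow_zero, Subgroup.relIndex_eq_one] at hk'
    exact hB'lt.not_ge hk'
  -- the loss on the side of `A`
  set D := A ⊓ Subgroup.centralizer (B' : Set G) with hD
  set D' := A ⊓ Subgroup.centralizer (B'' : Set G) with hD'
  have hmem : ∀ x : ↥D, ⁅(x : G), b⁆ ∈ ⁅A, B⁆ := fun x =>
    Subgroup.commutator_mem_commutator x.2.1 (hB'' hb)
  let f : ↥D →* ↥⁅A, B⁆ := MonoidHom.mk' (fun x => ⟨⁅(x : G), b⁆, hmem x⟩) (by
    intro x y
    ext
    have h1 := hcenA x x.2.1 _ (hmem y)
    have h2 : ⁅((x * y : ↥D) : G), b⁆ = (x : G) * ⁅(y : G), b⁆ * (x : G)⁻¹ * ⁅(x : G), b⁆ := by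
      simp [commutatorElement_def, mul_assoc]
    change ⁅((x * y : ↥D) : G), b⁆ = ⁅(x : G), b⁆ * ⁅(y : G), b⁆
    rw [h2, h1, mul_inv_cancel_right]
    have : IsMulCommutative ↥⁅A, B⁆ := by
      rcases (hG.to_subgroup ⁅A, B⁆).exists_card_eq with ⟨k, hk⟩
      have : k ≤ 1 := (Nat.pow_le_pow_iff_right hp.out.one_lt).1 (by simpa [← hk] using hcard)
      interval_cases k
      · have := Subgroup.eq_bot_of_card_eq _ (by simpa using hk)
        haveI : Subsingleton ↥⁅A, B⁆ := (Nat.card_eq_one_iff_unique.1 (by simpa using hk)).1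
        exact ⟨⟨fun u v => Subsingleton.elim _ _⟩⟩
      · have := isCyclic_of_prime_card (p := p) (by simpa using hk)
        exact IsCyclic.isMulCommutative
    exact setLike_mul_comm (hmem y) (hmem x))
  have hker : D'.subgroupOf D = f.ker := by
    ext x
    rw [MonoidHom.mem_ker, Subgroup.mem_subgroupOf, hD']
    simp only [Subgroup.mem_inf, x.2.1, true_and, f, MonoidHom.mk'_apply, Subtype.ext_iff,
      OneMemClass.coe_one, commutatorElement_eq_one_iff_mul_comm]
    constructor
    · intro h; exact (Subgroup.mem_centralizer_iff.1 h.2 b hb).symm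
    · intro h
      refine ⟨x.2.1, ?_⟩
      rw [← hgen, Subgroup.mem_centralizer_iff]
      have hle : B' ⊔ Subgroup.zpowers b ≤ Subgroup.centralizer {(x : G)} := by
        refine sup_le ?_ (Subgroup.zpowers_le.2 ?_)
        · intro y hy
          rw [Subgroup.mem_centralizer_singleton_iff]
          exact (Subgroup.mem_centralizer_iff.1 x.2.2 y hy)
        · rw [Subgroup.mem_centralizer_singleton_iff]; exact h.symm
      intro y hy
      exact Subgroup.mem_centralizer_singleton_iff.1 (hle hy)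
  have hloss : D'.relIndex D ≤ p := by
    show (D'.subgroupOf D).index ≤ p
    rw [hker, Subgroup.index_ker]
    exact (Nat.le_of_dvd Nat.card_pos (Subgroup.card_subgroup_dvd_card _)).trans hcard
  have hD'D : D' ≤ D := inf_le_inf_left _ (Subgroup.centralizer_le hB'lt.le)
  calc D'.relIndex A = D'.relIndex D * D.relIndex A :=
        (Subgroup.relIndex_mul_relIndex D' D A hD'D inf_le_left).symm
    _ ≤ B'.relIndex B'' * C.relIndex B' := Nat.mul_le_mul (hloss.trans hgain) hIH
    _ = C.relIndex B'' := by rw [mul_comm, Subgroup.relIndex_mul_relIndex C B' B'' hCB' hB'lt.le]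

/-- Let A and B be subgroups of a finite p-group with [A, B] ≤ A ∩ B and [A, B] of order at most p. Then |A : C_A(B)| = |B : C_B(A)|. -/
theorem result {G : Type*} [Group G] [Finite G] {p : ℕ} [Fact p.Prime] (hG : IsPGroup p G) (A B : Subgroup G) (hAB : ⁅A, B⁆ ≤ A ⊓ B) (hcard : Nat.card ↥⁅A, B⁆ ≤ p) : (A ⊓ Subgroup.centralizer (B : Set G)).relIndex A = (B ⊓ Subgroup.centralizer (A : Set G)).relIndex B := by
  -- the commutator subgroup is centralized by `A` and by `B`
  have hcen : ∀ x ∈ A ⊔ B, ∀ k ∈ ⁅A, B⁆, x * k = k * x := by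
    intro x hx k hk
    have hn : A ⊔ B ≤ Subgroup.normalizer ((⁅A, B⁆ : Subgroup G) : Set G) :=
      sup_le (Subgroup.normalizer_commutator_ge_left A B) (Subgroup.normalizer_commutator_ge_right A B)
    have hle : ⁅⁅A, B⁆, A ⊔ B⁆ ≤ ⁅A, B⁆ := Subgroup.le_normalizer_iff_commutator_le_left.1 hn
    haveI : Group.IsNilpotent G := hG.isNilpotent
    have hbot : ⁅⁅A, B⁆, A ⊔ B⁆ = ⊥ := by
      by_contra hne
      have hdvd := Subgroup.card_dvd_of_le hle
      obtain ⟨i, hi⟩ := (hG.to_subgroup ⁅⁅A, B⁆, A ⊔ B⁆).exists_card_eq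
      have hi0 : i ≠ 0 := by
        rintro rfl
        exact hne (Subgroup.eq_bot_of_card_eq _ (by simpa using hi))
      have heq : ⁅⁅A, B⁆, A ⊔ B⁆ = ⁅A, B⁆ := by
        refine Subgroup.eq_of_le_of_card_ge hle (hcard.trans ?_)
        rw [hi]
        exact Nat.le_self_pow hi0 p
      have hall : ∀ j, ⁅A, B⁆ ≤ (⊤ : Subgroup G).lowerCentralSeries j := by
        intro j
        induction j with
        | zero => simp
        | succ j ihj =>
          rw [← heq, Subgroup.lowerCentralSeries_succ]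
          exact Subgroup.commutator_mono ihj le_top
      obtain ⟨j, hj⟩ := nilpotent_iff_lowerCentralSeries.1 (inferInstance : Group.IsNilpotent G)
      apply hne
      rw [heq, eq_bot_iff, ← hj]
      exact hall j
    exact (Subgroup.mem_centralizer_iff.1
      (Subgroup.commutator_eq_bot_iff_le_centralizer.1 hbot hk) x hx)
  refine le_antisymm (index_le hG A B hcard fun a ha => hcen a (Subgroup.mem_sup_left ha)) ?_
  refine index_le hG B A (by rwa [Subgroup.commutator_comm]) ?_
  rw [Subgroup.commutator_comm]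
  exact fun b hb => hcen b (Subgroup.mem_sup_right hb)

end Cfsg.Agent.S3741
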