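import Cfsg.Statements.S3743
import Mathlib
import Cfsg.Agent.Lib.Components.GenFitting
import Cfsg.Agent.Lib.OddLocal.PiCore
import Cfsg.Agent.Lib.Coprime.Quotient

set_option autoImplicit false
open Cfsg

namespace Cfsg.Agent.S3743

theorem piCore_characteristic {G : Type*} [Group G] [Finite G] (π : Set ℕ) :
    (piCore π G).Characteristic := by
  refine Subgroup.characteristic_iff_map_le.mpr fun φ => ?_
  refine le_sSup ⟨Subgroup.Normal.map inferInstance _ φ.surjective, fun p hp hd => ?_⟩
  exact Cfsg.Agent.Lib.OddLocal.piCore_isPi π G hp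
    (dvd_trans hd (Subgroup.card_map_dvd _ φ.toMonoidHom))

theorem le_piCore_of_subnormal {G : Type*} [Group G] [Finite G] (π : Set ℕ) {A : Subgroup G}
    (hA : A.IsSubnormal) (hπ : ∀ p : ℕ, p.Prime → p ∣ Nat.card A → p ∈ π) : A ≤ piCore π G := by
  suffices h : ∀ K : Subgroup G, K.IsSubnormal → ∀ R : Subgroup G, R ≤ K →
      K ≤ Subgroup.normalizer (R : Set G) → (∀ p : ℕ, p.Prime → p ∣ Nat.card R → p ∈ π) →
      R ≤ piCore π G from h A hA A le_rfl Subgroup.le_normalizer hπ
  intro K hK
  induction hK with
  | top =>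
    intro R _ hn hπ
    exact le_sSup ⟨Subgroup.normalizer_eq_top_iff.mp (top_le_iff.mp hn), hπ⟩
  | step K K' hle _ hN ih =>
    intro R hRK hn hπ
    have := piCore_characteristic (G := K) π
    have hRT : R ≤ (piCore π K).map K.subtype := by
      rw [← Subgroup.map_subgroupOf_eq_of_le hRK]
      refine Subgroup.map_mono (le_sSup ⟨Subgroup.normal_subgroupOf_of_le_normalizer hn, ?_⟩)
      intro p hp hd
      exact hπ p hp (by rwa [Nat.card_congr (Subgroup.subgroupOfEquivOfLe hRK).toEquiv] at hd)
    refine hRT.trans (ih _ ((Subgroup.map_subtype_le _).trans hle) ?_ fun p hp hd => ?_)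
    · exact ((Subgroup.normal_subgroupOf_iff_le_normalizer hle).mp hN).trans
        (Cfsg.Agent.Lib.Coprime.normalizer_le_normalizer_map_of_characteristic _)
    · exact Cfsg.Agent.Lib.OddLocal.piCore_isPi π K hp (dvd_trans hd (Subgroup.card_map_dvd _ _))

theorem le_fittingSubgroup_of_subnormal {G : Type*} [Group G] [Finite G] {A : Subgroup G}
    (hA : A.IsSubnormal) (hnil : Group.IsNilpotent A) : A ≤ fittingSubgroup G := by
  suffices h : ∀ K : Subgroup G, K.IsSubnormal → ∀ R : Subgroup G, R ≤ K →
      K ≤ Subgroup.normalizer (R : Set G) → Group.IsNilpotent R →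
      R ≤ fittingSubgroup G from h A hA A le_rfl Subgroup.le_normalizer hnil
  intro K hK
  induction hK with
  | top =>
    intro R _ hn hπ
    exact le_sSup ⟨Subgroup.normalizer_eq_top_iff.mp (top_le_iff.mp hn), hπ⟩
  | step K K' hle _ hN ih =>
    intro R hRK hn hπ
    have := Cfsg.Agent.Lib.Components.fittingSubgroup_characteristic (G := K)
    have hRT : R ≤ (fittingSubgroup K).map K.subtype := by
      rw [← Subgroup.map_subgroupOf_eq_of_le hRK]
      refine Subgroup.map_mono (le_sSup ⟨Subgroup.normal_subgroupOf_of_le_normalizer hn, ?_⟩)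
      exact Group.nilpotent_of_mulEquiv (Subgroup.subgroupOfEquivOfLe hRK).symm
    refine hRT.trans (ih _ ((Subgroup.map_subtype_le _).trans hle) ?_ ?_)
    · exact ((Subgroup.normal_subgroupOf_iff_le_normalizer hle).mp hN).trans
        (Cfsg.Agent.Lib.Coprime.normalizer_le_normalizer_map_of_characteristic _)
    · have := Cfsg.Agent.Lib.Components.fittingSubgroup_isNilpotent (G := K)
      exact Group.nilpotent_of_mulEquiv
        (Subgroup.equivMapOfInjective (fittingSubgroup K) K.subtype K.subtype_injective)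

/-- In a finite group G, every subnormal nilpotent subgroup lies in the Fitting subgroup F(G), and, for a set of primes π, every subnormal subgroup all of whose prime divisors lie in π lies in O_π(G). -/
theorem result {G : Type*} [Group G] [Finite G] (A : Subgroup G) (hA : A.IsSubnormal) : (Group.IsNilpotent A → A ≤ Cfsg.fittingSubgroup G) ∧ ∀ π : Set ℕ, (∀ p : ℕ, p.Prime → p ∣ Nat.card A → p ∈ π) → A ≤ Cfsg.piCore π G := by
  exact ⟨le_fittingSubgroup_of_subnormal hA, fun π h => le_piCore_of_subnormal π hA h⟩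

end Cfsg.Agent.S3743
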