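import Cfsg.Statements.S3744
import Mathlib
import Cfsg.Agent.Lib.Hall.PSolvable

set_option autoImplicit false
open Cfsg

namespace Cfsg.Agent.S3744

/-- A finite p-soluble group has a p-complement, all its p-complements are conjugate, and every subgroup of order prime to p lies in one of them. Here a p-complement is a subgroup of order prime to p whose index is a power of p. -/
theorem result {G : Type*} [Group G] [Finite G] {p : ℕ} [Fact p.Prime] (hG : Cfsg.IsPSolvable p G) : (∃ H : Subgroup G, (Nat.card H).Coprime p ∧ ∃ n : ℕ, H.index = p ^ n) ∧ (∀ H₁ H₂ : Subgroup G, (Nat.card H₁).Coprime p → (∃ n : ℕ, H₁.index = p ^ n) → (Nat.card H₂).Coprime p → (∃ n : ℕ, H₂.index = p ^ n) → ∃ g : G, H₂ = H₁.map (MulAut.conj g).toMonoidHom) ∧ (∀ U : Subgroup G, (Nat.card U).Coprime p → ∃ H : Subgroup G, (Nat.card H).Coprime p ∧ (∃ n : ℕ, H.index = p ^ n) ∧ ∃ g : G, U.map (MulAut.conj g).toMonoidHom ≤ H) := by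
  have hP := Cfsg.Agent.Lib.Hall.hallProperties_compl_of_isPSolvable hG
  have hiff := fun H : Subgroup G => Cfsg.Agent.Lib.Hall.isPiHall_compl_iff (p := p) H
  refine ⟨?_, ?_, ?_⟩
  · obtain ⟨H, hH⟩ := hP.1
    exact ⟨H, (hiff H).mp hH⟩
  · intro H₁ H₂ c₁ i₁ c₂ i₂
    obtain ⟨g, hg⟩ := hP.2.1 H₁ H₂ ((hiff H₁).mpr ⟨c₁, i₁⟩) ((hiff H₂).mpr ⟨c₂, i₂⟩)
    exact ⟨g, hg.symm⟩
  · intro U hU
    obtain ⟨H, hH, hUH⟩ := hP.2.2 U (Cfsg.Agent.Lib.Hall.isPiNumber_compl_of_coprime hU)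
    refine ⟨H, ((hiff H).mp hH).1, ((hiff H).mp hH).2, 1, ?_⟩
    rintro x ⟨y, hy, rfl⟩
    simpa using hUH hy

end Cfsg.Agent.S3744
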