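import Cfsg.Statements.S3746
import Mathlib
import Cfsg.Agent.Lib.Components.PComponent

set_option autoImplicit false
open Cfsg
open scoped commutatorElement

namespace Cfsg.Agent.S3746

/-- Let Z ≤ Z(G) be a central subgroup of a finite group G and E a subgroup of G containing Z whose image E/Z is a component of G/Z (subnormal and quasisimple). Then the derived subgroup [E, E] is a component of G. -/
theorem result {G : Type*} [Group G] [Finite G] (Z : Subgroup G) (hZ : Z ≤ Subgroup.center G) [Z.Normal] (E : Subgroup G) (hZE : Z ≤ E) (hE : Cfsg.IsComponent (E.map (QuotientGroup.mk' Z))) : Cfsg.IsComponent ⁅E, E⁆ := by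
  set π := QuotientGroup.mk' Z with hπ
  have hsurj : Function.Surjective π := QuotientGroup.mk'_surjective Z
  have hcomap : (E.map π).comap π = E := by
    rw [Subgroup.comap_map_eq, hπ, QuotientGroup.ker_mk']
    exact sup_eq_left.mpr hZE
  have hEsub : E.IsSubnormal := hcomap ▸ Subgroup.IsSubnormal.comap π hE.1
  have hn : (⁅E, E⁆.subgroupOf E).Normal := Subgroup.normal_subgroupOf_of_le_normalizer
    (Subgroup.normalizer_commutator_ge_left E E)
  have hsub : ⁅E, E⁆.IsSubnormal :=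
    Subgroup.IsSubnormal.step _ E (Subgroup.commutator_le_self E) hEsub hn
  have hmap : ⁅E, E⁆.map π = E.map π := by
    rw [Subgroup.map_commutator]
    exact Cfsg.Agent.Lib.Components.quasisimple_commutator_self hE.2
  have hEeq : E = ⁅E, E⁆ ⊔ Z := by
    conv_lhs => rw [← hcomap, ← hmap, Subgroup.comap_map_eq, hπ, QuotientGroup.ker_mk']
  have hcen : ∀ z ∈ Z, ∀ g : G, g * z = z * g := fun z hz g => Subgroup.mem_center_iff.mp (hZ hz) g
  have hperf : ⁅⁅E, E⁆, ⁅E, E⁆⁆ = ⁅E, E⁆ := by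
    refine le_antisymm (Subgroup.commutator_le_self _) ?_
    conv_lhs => rw [hEeq]
    rw [Subgroup.commutator_le]
    intro x hx y hy
    rw [← SetLike.mem_coe, Subgroup.mul_normal] at hx hy
    obtain ⟨a, ha, z, hz, rfl⟩ := hx
    obtain ⟨b, hb, w, hw, rfl⟩ := hy
    have h1 : ⁅a * z, b * w⁆ = ⁅a, b⁆ := by
      simp only [commutatorElement_def]
      calc a * z * (b * w) * (a * z)⁻¹ * (b * w)⁻¹
          = a * (z * b) * w * z⁻¹ * a⁻¹ * w⁻¹ * b⁻¹ := by group
        _ = a * (b * z) * w * z⁻¹ * a⁻¹ * w⁻¹ * b⁻¹ := by rw [hcen z hz b]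
        _ = a * b * (z * w) * z⁻¹ * a⁻¹ * w⁻¹ * b⁻¹ := by group
        _ = a * b * (w * z) * z⁻¹ * a⁻¹ * w⁻¹ * b⁻¹ := by rw [hcen w hw z]
        _ = a * b * (w * a⁻¹) * w⁻¹ * b⁻¹ := by group
        _ = a * b * (a⁻¹ * w) * w⁻¹ * b⁻¹ := by rw [hcen w hw a⁻¹]
        _ = a * b * a⁻¹ * b⁻¹ := by group
    show ⁅a * z, b * w⁆ ∈ _
    rw [h1]
    exact Subgroup.commutator_mem_commutator ha hb
  refine ⟨hsub, ?_⟩
  refine Cfsg.Agent.Lib.Components.quasisimple_of_central_extension
    (Subgroup.isPerfect_iff.mpr hperf) (π.subgroupMap_surjective ⁅E, E⁆) ?_ (hmap.symm ▸ hE.2)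
  intro x hx
  rw [MonoidHom.mem_ker] at hx
  have hxZ : (x : G) ∈ Z := (QuotientGroup.eq_one_iff _).mp (congrArg Subtype.val hx)
  rw [Subgroup.mem_center_iff]
  exact fun y => Subtype.ext (hcen _ hxZ y)

end Cfsg.Agent.S3746
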