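import Cfsg.Statements.S3747
import Mathlib
import Cfsg.Agent.Lib.Components.Basic
import Cfsg.Agent.Lib.Components.GenFitting
import Cfsg.Agent.Lib.Core.Fitting

set_option autoImplicit false
open Cfsg

namespace Cfsg.Agent.S3747

open Cfsg.Agent.Lib.Components in
/-- A normal subgroup inside the normal closure of a centreless component is trivial or all of it. -/
theorem minimal_normalClosure {G : Type*} [Group G] [Finite G] {K : Subgroup G}
    (hK : Cfsg.IsComponent K) (hZ : Subgroup.center ↥K = ⊥) (N : Subgroup G) (hN : N.Normal)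
    (hle : N ≤ Subgroup.normalClosure (K : Set G)) :
    N = ⊥ ∨ N = Subgroup.normalClosure (K : Set G) := by
  classical
  set S : Set (Subgroup G) := Set.range fun g : G => K.map (MulAut.conj g).toMonoidHom with hS
  have hcomp : ∀ L ∈ S, Cfsg.IsComponent L := by
    rintro _ ⟨g, rfl⟩
    exact isComponent_conj hK g
  have hC : Subgroup.normalClosure (K : Set G) ≤ sSup S := by
    refine (Subgroup.closure_le _).mpr fun x hx => ?_
    obtain ⟨a, ha, hax⟩ := Group.mem_conjugatesOfSet_iff.mp hx
    obtain ⟨c, rfl⟩ := isConj_iff.mp hax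
    exact (le_sSup (show K.map (MulAut.conj c).toMonoidHom ∈ S from ⟨c, rfl⟩)) ⟨a, ha, by simp⟩
  by_cases h : ∃ L ∈ S, L ≤ N
  · obtain ⟨_, ⟨g, rfl⟩, hL⟩ := h
    refine Or.inr (le_antisymm hle (Subgroup.normalClosure_le_normal fun x hx => ?_))
    have h1 : g * x * g⁻¹ ∈ N := hL ⟨x, hx, by simp⟩
    simpa [mul_assoc] using hN.conj_mem _ h1 g⁻¹
  · left
    push Not at h
    rw [eq_bot_iff]
    intro x hx
    have hcent : x ∈ Subgroup.centralizer ((sSup S : Subgroup G) : Set G) := by
      rw [Subgroup.mem_centralizer_iff]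
      intro y hy
      have hle2 : sSup S ≤ Subgroup.centralizer (N : Set G) := sSup_le fun L hL =>
        isComponent_le_centralizer_of_not_le (hcomp L hL) hN.isSubnormal (h L hL)
      exact ((Subgroup.mem_centralizer_iff.mp (hle2 hy)) x hx).symm
    have h1 := mem_iSup_center_of_mem_sSup hcomp (hC (hle hx)) hcent
    have h2 : (⨆ L ∈ S, (Subgroup.center ↥(L : Subgroup G)).map L.subtype) = ⊥ := by
      rw [eq_bot_iff]
      refine iSup₂_le ?_
      rintro _ ⟨g, rfl⟩
      intro y hy
      obtain ⟨z, hz, rfl⟩ := hy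
      obtain ⟨w, hw, hwz⟩ := z.2
      have hw2 : (⟨w, hw⟩ : K) ∈ Subgroup.center K := by
        rw [Subgroup.mem_center_iff]
        intro u
        have h3 := congrArg Subtype.val (Subgroup.mem_center_iff.mp hz
          ⟨(MulAut.conj g) u, ⟨u, u.2, rfl⟩⟩)
        refine Subtype.ext ((MulAut.conj g).injective ?_)
        simp only [Subgroup.coe_mul, map_mul]
        simp only [Subgroup.coe_mul] at h3
        rw [← hwz] at h3
        exact h3
      rw [hZ, Subgroup.mem_bot] at hw2
      have hw1 : w = 1 := congrArg Subtype.val hw2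
      rw [Subgroup.mem_bot]
      show (z : G) = 1
      rw [← hwz, hw1, map_one]
    rwa [h2] at h1

/-- Let G be a finite group. (a) If K is a component of G with trivial centre, then the normal closure of K in G is a minimal normal subgroup of G. (b) If the Fitting subgroup of G is trivial, then the layer E(G) is generated by the minimal normal subgroups of G. -/
theorem result {G : Type*} [Group G] [Finite G] : (∀ K : Subgroup G, Cfsg.IsComponent K → Subgroup.center ↥K = ⊥ → (Subgroup.normalClosure (K : Set G) ≠ ⊥ ∧ ∀ N : Subgroup G, N.Normal → N ≤ Subgroup.normalClosure (K : Set G) → N = ⊥ ∨ N = Subgroup.normalClosure (K : Set G))) ∧ (Cfsg.fittingSubgroup G = ⊥ → sSup {N : Subgroup G | N ≠ ⊥ ∧ N.Normal ∧ ∀ N' : Subgroup G, N'.Normal → N' ≤ N → N' = ⊥ ∨ N' = N} = Cfsg.layer G) := by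
  classical
  open Cfsg.Agent.Lib.Components in
  have hne : ∀ K : Subgroup G, Cfsg.IsComponent K → Subgroup.normalClosure (K : Set G) ≠ ⊥ := by
    intro K hK h
    exact isComponent_ne_bot hK (le_bot_iff.mp (h ▸ Subgroup.le_normalClosure))
  refine ⟨fun K hK hZ => ⟨hne K hK, fun N hN hle => minimal_normalClosure hK hZ N hN hle⟩, fun hF => ?_⟩
  have hZ : ∀ K : Subgroup G, Cfsg.IsComponent K → Subgroup.center ↥K = ⊥ := by
    intro K hK
    have hsn : ((Subgroup.center ↥K).map K.subtype).IsSubnormal :=
      (inferInstance : (Subgroup.center ↥K).Normal).isSubnormal.trans' hK.1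
    have hnil : Group.IsNilpotent ((Subgroup.center ↥K).map K.subtype : Subgroup G) :=
      Subgroup.isNilpotent_of_lowerCentralSeries_eq_bot (n := 1) (by
        rw [Subgroup.lowerCentralSeries_succ, Subgroup.lowerCentralSeries_zero,
          Subgroup.commutator_eq_bot_iff_le_centralizer]
        rintro _ ⟨a, ha, rfl⟩
        rw [Subgroup.mem_centralizer_iff]
        rintro _ ⟨b, -, rfl⟩
        exact congrArg Subtype.val (Subgroup.mem_center_iff.mp ha b))
    have h := Cfsg.Agent.Lib.Fitting.le_fittingSubgroup_of_isSubnormal hsn hnil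
    rw [hF, le_bot_iff] at h
    exact (Subgroup.map_eq_bot_iff_of_injective _ K.subtype_injective).mp h
  have hgfs : Cfsg.generalizedFittingSubgroup G = Cfsg.layer G := by
    show Cfsg.layer G ⊔ Cfsg.fittingSubgroup G = _
    rw [hF, sup_bot_eq]
  apply le_antisymm
  · refine sSup_le ?_
    rintro N ⟨hN0, hN, hmin⟩
    by_cases h : ∃ L, Cfsg.IsComponent L ∧ L ≤ N
    · obtain ⟨L, hL, hLN⟩ := h
      haveI := hN
      haveI := Cfsg.Agent.Lib.Components.layer_normal (G := G)
      have hle : Subgroup.normalClosure (L : Set G) ≤ N := Subgroup.normalClosure_le_normal hLN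
      rw [← (hmin _ inferInstance hle).resolve_left (hne L hL)]
      exact Subgroup.normalClosure_le_normal (Cfsg.Agent.Lib.Components.isComponent_le_layer hL)
    · push Not at h
      rw [← hgfs]
      refine le_trans (fun x hx => Subgroup.mem_centralizer_iff.mpr fun y hy => ?_)
        Cfsg.Agent.Lib.Components.centralizer_generalizedFittingSubgroup_le
      rw [hgfs] at hy
      have hle : Cfsg.layer G ≤ Subgroup.centralizer (N : Set G) :=
        Cfsg.Agent.Lib.Components.layer_le_iff.mpr fun L hL =>
          Cfsg.Agent.Lib.Components.isComponent_le_centralizer_of_not_le hL hN.isSubnormal (h L hL)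
      exact (Subgroup.mem_centralizer_iff.mp (hle hy) x hx).symm
  · refine Cfsg.Agent.Lib.Components.layer_le_iff.mpr fun K hK => ?_
    exact le_trans Subgroup.le_normalClosure (le_sSup (⟨hne K hK, inferInstance,
      fun N hN hle => minimal_normalClosure hK (hZ K hK) N hN hle⟩ :
      Subgroup.normalClosure (K : Set G) ∈ {N : Subgroup G | N ≠ ⊥ ∧ N.Normal ∧
        ∀ N' : Subgroup G, N'.Normal → N' ≤ N → N' = ⊥ ∨ N' = N}))

end Cfsg.Agent.S3747
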