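import Cfsg.Statements.S3748
import Mathlib
import Cfsg.Agent.Lib.Components.GenFitting

set_option autoImplicit false
open Cfsg

namespace Cfsg.Agent.S3748

/-- Call a proper subgroup M of G primitive when M = N_G(N) for every non-trivial normal subgroup N of M. If M is a primitive subgroup of the finite group G, then no non-trivial subnormal subgroup of G is contained in M; in particular M ∩ F(G) = 1. -/
theorem result {G : Type*} [Group G] [Finite G] (M : Subgroup G) (hM : M ≠ ⊤) (hprim : ∀ N : Subgroup G, N ≤ M → M ≤ Subgroup.normalizer (N : Set G) → N ≠ ⊥ → Subgroup.normalizer (N : Set G) = M) : (∀ L : Subgroup G, L.IsSubnormal → L ≤ M → L = ⊥) ∧ M ⊓ Cfsg.fittingSubgroup G = ⊥ := by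
  have hconjM : ∀ g ∈ M, M.map (MulAut.conj g).toMonoidHom ≤ M := by
    rintro g hg _ ⟨x, hx, rfl⟩
    simpa using mul_mem (mul_mem hg hx) (inv_mem hg)
  have key : ∀ L : Subgroup G, L.IsSubnormal → L ≤ M → L = ⊥ := by
    set S := sSup {L : Subgroup G | L.IsSubnormal ∧ L ≤ M} with hS
    have hSM : S ≤ M := sSup_le fun L hL => hL.2
    have hSn : M ≤ Subgroup.normalizer (S : Set G) := by
      have hle : ∀ g ∈ M, S.map (MulAut.conj g).toMonoidHom ≤ S := by
        intro g hg
        rw [hS, (Subgroup.gc_map_comap _).l_sSup]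
        exact iSup₂_le fun L hL => le_sSup
          ⟨hL.1.map (MulAut.conj g).surjective, (Subgroup.map_mono hL.2).trans (hconjM g hg)⟩
      intro g hg
      rw [Subgroup.mem_normalizer_iff]
      intro y
      constructor
      · intro hy; simpa using hle g hg ⟨y, hy, rfl⟩
      · intro hy; simpa [mul_assoc] using hle g⁻¹ (inv_mem hg) ⟨_, hy, rfl⟩
    have hsub : S.IsSubnormal :=
      Cfsg.Agent.Lib.Components.subnormal_sSup _ fun L hL => hL.1
    have hbot : S = ⊥ := by
      by_contra hne
      have hN := hprim S hSM hSn hne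
      rcases Subgroup.IsSubnormal.iff_eq_top_or_exists.1 hsub with h | ⟨K, hlt, hK, hn⟩
      · exact hM (top_le_iff.1 (h ▸ hSM))
      · have hKM : K ≤ M := hN ▸ (Subgroup.normal_subgroupOf_iff_le_normalizer hlt.le).1 hn
        exact hlt.not_ge (le_sSup ⟨hK, hKM⟩)
    exact fun L hL hLM => le_bot_iff.1 (hbot ▸ le_sSup ⟨hL, hLM⟩)
  refine ⟨key, ?_⟩
  set F := Cfsg.fittingSubgroup G with hF
  haveI hFn : F.Normal := Cfsg.Agent.Lib.Components.fittingSubgroup_normal
  by_contra hne
  have hXn : M ≤ Subgroup.normalizer ((M ⊓ F : Subgroup G) : Set G) := by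
    intro g hg
    rw [Subgroup.mem_normalizer_iff]
    intro y
    rw [Subgroup.mem_inf, Subgroup.mem_inf, Subgroup.mem_normalizer_iff.1 (Subgroup.le_normalizer hg) y]
    refine and_congr Iff.rfl ⟨fun h => hFn.conj_mem y h g, fun h => ?_⟩
    simpa [mul_assoc] using hFn.conj_mem _ h g⁻¹
  have hN := hprim _ inf_le_left hXn hne
  haveI : Group.IsNilpotent F := Cfsg.Agent.Lib.Components.fittingSubgroup_isNilpotent
  have htop : (M ⊓ F).subgroupOf F = ⊤ := by
    by_contra hlt
    obtain ⟨y, hy, hy'⟩ := SetLike.exists_of_lt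
      (Group.normalizerCondition_of_isNilpotent (G := F) _ (lt_top_iff_ne_top.2 hlt))
    apply hy'
    rw [Subgroup.mem_subgroupOf, Subgroup.mem_inf]
    refine ⟨hN.le ?_, y.2⟩
    rw [Subgroup.mem_normalizer_iff]
    intro x
    rw [Subgroup.mem_normalizer_iff] at hy
    constructor
    · intro hx
      exact (hy ⟨x, hx.2⟩).1 (Subgroup.mem_subgroupOf.2 hx)
    · intro hx
      have hxF : x ∈ F := by
        simpa [mul_assoc] using hFn.conj_mem _ hx.2 (y : G)⁻¹
      exact Subgroup.mem_subgroupOf.1 ((hy ⟨x, hxF⟩).2 hx)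
  have hFM : F ≤ M := (Subgroup.subgroupOf_eq_top.1 htop).trans inf_le_left
  exact hne (le_bot_iff.1 (inf_le_right.trans (key F hFn.isSubnormal hFM).le))

end Cfsg.Agent.S3748
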