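import Cfsg.Statements.S3749
import Mathlib
import Cfsg.Agent.Lib.Coprime.Sylow
import Cfsg.Agent.Lib.PSolvable.Core

set_option autoImplicit false
open Cfsg

namespace Cfsg.Agent.S3749

/-- Call a proper subgroup M of G primitive when M = N_G(N) for every non-trivial normal subgroup N of M. Let M be a primitive subgroup of the finite group G, p a prime with O_p(M) ≠ 1, and N a normal subgroup of G with M ∩ N = 1. Then p does not divide the order of N; for every prime q there is exactly one Sylow q-subgroup of N normalized by M; and if the order of N has at least two prime divisors then M is not a maximal subgroup of G. -/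
theorem result {G : Type*} [Group G] [Finite G] (M : Subgroup G) (hM : M ≠ ⊤) (hprim : ∀ N : Subgroup G, N ≤ M → M ≤ Subgroup.normalizer (N : Set G) → N ≠ ⊥ → Subgroup.normalizer (N : Set G) = M) {p : ℕ} [Fact p.Prime] (hOp : Cfsg.pCore p ↥M ≠ ⊥) (N : Subgroup G) [N.Normal] (hMN : M ⊓ N = ⊥) : ¬ p ∣ Nat.card N ∧ (∀ q : ℕ, [Fact q.Prime] → ∃! Q : Sylow q ↥N, M ≤ Subgroup.normalizer ((Q : Subgroup ↥N).map N.subtype : Set G)) ∧ ((∃ q r : ℕ, q.Prime ∧ r.Prime ∧ q ≠ r ∧ q ∣ Nat.card N ∧ r ∣ Nat.card N) → ¬ IsCoatom M) := by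
  classical
  have hp : p.Prime := Fact.out
  set P := (Cfsg.pCore p ↥M).map M.subtype with hP
  have hPM : P ≤ M := Subgroup.map_subtype_le _
  have hPp : IsPGroup p P := (Cfsg.Agent.Lib.PSolvable.pCore_isPGroup).map _
  have hPne : P ≠ ⊥ := by
    rw [hP, Ne, Subgroup.map_eq_bot_iff_of_injective _ M.subtype_injective]
    exact hOp
  have hMP : M ≤ Subgroup.normalizer (P : Set G) :=
    Subgroup.le_normalizer.trans
      (Cfsg.Agent.Lib.Coprime.normalizer_le_normalizer_map_of_characteristic
        (hC := Subgroup.characteristic_iff_map_le.mpr fun φ =>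
          (Cfsg.Agent.Lib.PSolvable.map_pCore_le φ.surjective)) _)
  have hNP : Subgroup.normalizer (P : Set G) = M := hprim P hPM hMP hPne
  have hPN : P ≤ Subgroup.normalizer (N : Set G) := by
    rw [Subgroup.normalizer_eq_top]; exact le_top
  have hfix : ∀ x ∈ N, x ∈ Subgroup.centralizer (P : Set G) → x = 1 := fun x hx hxc =>
    Subgroup.mem_bot.mp (hMN ▸ ⟨hNP ▸ Cfsg.Agent.Lib.Coprime.le_normalizer_of_conj_mem
      (A := Subgroup.zpowers x) (L := P) (fun a ha y hy => by
        have hac : a ∈ Subgroup.centralizer (P : Set G) := Subgroup.zpowers_le.mpr hxc ha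
        rw [← Subgroup.mem_centralizer_iff.mp hac y hy, mul_inv_cancel_right]
        exact hy) (Subgroup.mem_zpowers x), hx⟩)
  -- `p` does not divide the order of `N`
  have hnd : ¬ p ∣ Nat.card N := by
    intro hd
    letI := Cfsg.Agent.Lib.Coprime.sylowAction (p := p) hPN
    obtain ⟨S, hS⟩ := hPp.nonempty_fixed_point_of_prime_not_dvd_card (Sylow p N)
      (not_dvd_card_sylow p N)
    have hSn := (Cfsg.Agent.Lib.Coprime.sylow_fixed_iff hPN S).mp hS
    set U := (S : Subgroup N).map N.subtype with hU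
    have hUp : IsPGroup p U := S.2.map _
    letI : MulAction P U := MulAction.compHom U (Cfsg.Agent.Lib.Coprime.conjAut hSn)
    have hUd : p ∣ Nat.card U := by
      rcases hUp.card_eq_or_dvd with h | h
      · exfalso
        have h1 := S.pow_dvd_card_of_pow_dvd_card (n := 1) (by rwa [pow_one])
        rw [hU, Subgroup.card_map_of_injective N.subtype_injective] at h
        rw [pow_one, h] at h1
        exact hp.one_lt.ne' (Nat.dvd_one.mp h1)
      · exact h
    have hone : (1 : U) ∈ MulAction.fixedPoints P U := fun a => map_one (Cfsg.Agent.Lib.Coprime.conjAut hSn a)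
    obtain ⟨u, hu, hune⟩ := hPp.exists_fixed_point_of_prime_dvd_card_of_fixed_point _ hUd hone
    refine hune (Subtype.ext (hfix u ((Subgroup.map_subtype_le _) u.2) ?_)).symm
    rw [Subgroup.mem_centralizer_iff]
    intro a ha
    have h1 := congrArg Subtype.val (hu ⟨a, ha⟩)
    exact mul_inv_eq_iff_eq_mul.mp h1
  have hcop : (Nat.card P).Coprime (Nat.card N) := by
    obtain ⟨k, hk⟩ := hPp.exists_card_eq
    exact hk ▸ Nat.Coprime.pow_left k (hp.coprime_iff_not_dvd.mpr hnd)
  have hsolv : Group.IsSolvable P ∨ Group.IsSolvable N := by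
    left
    haveI := hPp.isNilpotent
    infer_instance
  have huni : ∀ q : ℕ, [Fact q.Prime] → ∃! Q : Sylow q ↥N,
      M ≤ Subgroup.normalizer ((Q : Subgroup ↥N).map N.subtype : Set G) := by
    intro q hq
    have huniqP : ∀ Q R : Sylow q N,
        P ≤ Subgroup.normalizer ((Q : Subgroup ↥N).map N.subtype : Set G) →
        P ≤ Subgroup.normalizer ((R : Subgroup ↥N).map N.subtype : Set G) → Q = R := by
      intro Q R hQ hR
      obtain ⟨c, hc, hcQ⟩ := Cfsg.Agent.Lib.Coprime.exists_centralizer_conj_eq hPN hcop hsolv hQ hR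
      have : c = 1 := Subtype.ext (hfix c c.2 hc)
      rw [this, one_smul] at hcQ
      exact hcQ
    obtain ⟨Q, hQ⟩ := Cfsg.Agent.Lib.Coprime.exists_invariant_sylow (p := q) hPN hcop hsolv
    have hMNn : M ≤ Subgroup.normalizer (N : Set G) := by
      rw [Subgroup.normalizer_eq_top]; exact le_top
    refine ⟨Q, ?_, fun R hR => huniqP R Q (hPM.trans hR) hQ⟩
    letI := Cfsg.Agent.Lib.Coprime.sylowAction (p := q) hMNn
    refine (Cfsg.Agent.Lib.Coprime.sylow_fixed_iff hMNn Q).mp fun m => huniqP _ _ ?_ hQ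
    intro a ha
    rw [Subgroup.mem_normalizer_iff]
    have hcoe : (((m • Q : Sylow q N) : Subgroup N).map N.subtype : Subgroup G) =
        ((Q : Subgroup N).map N.subtype).map (MulAut.conj (m : G)).toMonoidHom := by
      rw [Cfsg.Agent.Lib.Coprime.sylowAction_coe, Subgroup.map_map, Subgroup.map_map]
      congr 1
    rw [hcoe]
    have hma : (m : G)⁻¹ * a * m ∈ P := by
      simpa using (Subgroup.mem_normalizer_iff.mp (hMP (inv_mem m.2)) a).mp ha
    have hQm := Subgroup.mem_normalizer_iff.mp (hQ hma)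
    intro y
    simp only [Subgroup.mem_map_equiv, MulAut.conj_symm_apply]
    constructor
    · intro hy
      have := (hQm _).mp hy
      simpa [mul_assoc] using this
    · intro hy
      refine (hQm _).mpr ?_
      simpa [mul_assoc] using hy
  refine ⟨hnd, huni, ?_⟩
  rintro ⟨q, r, hq, hr, hqr, hqN, hrN⟩ hcoat
  haveI := Fact.mk hq
  obtain ⟨Q, hQ, -⟩ := huni q
  set S := (Q : Subgroup N).map N.subtype with hSdef
  have hSN : S ≤ N := Subgroup.map_subtype_le _
  have hSne : S ≠ ⊥ := by
    rw [hSdef, Ne, Subgroup.map_eq_bot_iff_of_injective _ N.subtype_injective]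
    exact Q.ne_bot_of_dvd_card hqN
  have hlt : M < M ⊔ S := by
    refine lt_of_le_of_ne le_sup_left fun h => hSne ?_
    have hSM : S ≤ M := h ▸ le_sup_right
    exact le_bot_iff.mp (hMN ▸ le_inf hSM hSN)
  have htop := hcoat.2 _ hlt
  haveI hSnormal : S.Normal := Subgroup.normalizer_eq_top_iff.mp
    (top_le_iff.mp (htop ▸ sup_le hQ Subgroup.le_normalizer))
  have h1 : S.relIndex M = S.index := by
    rw [← Subgroup.relIndex_top_right, ← htop, Subgroup.relIndex_sup_right]
  have h2 : Nat.card S * Nat.card M = Nat.card G := by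
    rw [← Subgroup.card_mul_index S, ← h1]
    have : S.relIndex M = Nat.card M := by
      rw [← Subgroup.inf_relIndex_right, show S ⊓ M = ⊥ from
        le_bot_iff.mp (hMN ▸ le_inf inf_le_right (inf_le_left.trans hSN)), Subgroup.relIndex_bot_left]
    rw [this]
  have h3 : Nat.card M * Nat.card N ≤ Nat.card G := by
    rw [← Subgroup.card_mul_index N, mul_comm]
    refine Nat.mul_le_mul_left _ ?_
    rw [← Subgroup.relIndex_top_right]
    have h4 : N.relIndex M = Nat.card M := by
      rw [← Subgroup.inf_relIndex_right, inf_comm, hMN, Subgroup.relIndex_bot_left]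
    exact h4 ▸ Subgroup.relIndex_le_of_le_right (le_top : M ≤ ⊤) (by rw [Subgroup.relIndex_top_right]; exact Subgroup.index_ne_zero_of_finite)
  have h5 : Nat.card N ≤ Nat.card S := by
    refine Nat.le_of_mul_le_mul_left (h3.trans (le_of_eq ?_)) (Nat.card_pos : 0 < Nat.card M)
    rw [← h2, mul_comm]
  have hSeq := Subgroup.eq_of_le_of_card_ge hSN h5
  obtain ⟨k, hk⟩ := (Q.2.map N.subtype).exists_card_eq
  rw [show ((Q : Subgroup N).map N.subtype) = N from hSeq] at hk
  rw [hk] at hrN
  exact hqr.symm ((Nat.prime_dvd_prime_iff_eq hr hq).mp (hr.dvd_of_dvd_pow hrN))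

end Cfsg.Agent.S3749
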