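import Cfsg.Statements.S3750
import Mathlib
import Cfsg.Agent.Lib.FStar.Basic
import Cfsg.Agent.S3748

set_option autoImplicit false
open Cfsg

namespace Cfsg.Agent.S3750

/-- Call a proper subgroup M of G primitive when M = N_G(N) for every non-trivial normal subgroup N of M. Let M be a primitive subgroup of the finite group G and N a normal subgroup of G with M ∩ F*(N) ≠ 1. Then F(G) = 1 and F*(N) = F*(G) = E(G); in particular every minimal normal subgroup of G is contained in N. -/
theorem result {G : Type*} [Group G] [Finite G] (M : Subgroup G) (hM : M ≠ ⊤) (hprim : ∀ N : Subgroup G, N ≤ M → M ≤ Subgroup.normalizer (N : Set G) → N ≠ ⊥ → Subgroup.normalizer (N : Set G) = M) (N : Subgroup G) [N.Normal] (hMF : M ⊓ (Cfsg.generalizedFittingSubgroup ↥N).map N.subtype ≠ ⊥) : Cfsg.fittingSubgroup G = ⊥ ∧ (Cfsg.generalizedFittingSubgroup ↥N).map N.subtype = Cfsg.generalizedFittingSubgroup G ∧ Cfsg.generalizedFittingSubgroup G = Cfsg.layer G ∧ ∀ K : Subgroup G, K.Normal → K ≠ ⊥ → (∀ K' : Subgroup G, K'.Normal → K' ≤ K → K' = ⊥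 ∨ K' = K) → K ≤ N := by
  classical
  rw [Cfsg.Agent.Lib.FStar.map_generalizedFittingSubgroup_of_subnormal
    (inferInstance : N.Normal).isSubnormal] at hMF ⊢
  haveI := Cfsg.Agent.Lib.Components.generalizedFittingSubgroup_normal (G := G)
  haveI := Cfsg.Agent.Lib.Components.fittingSubgroup_normal (G := G)
  obtain ⟨hkey, -⟩ := Cfsg.Agent.S3748.result M hM hprim
  set S := Cfsg.generalizedFittingSubgroup G ⊓ N with hS
  have hXn : M ≤ Subgroup.normalizer ((M ⊓ S : Subgroup G) : Set G) := fun g hg => by
    rw [Subgroup.mem_normalizer_iff]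
    intro y
    rw [Subgroup.mem_inf (p := M), Subgroup.mem_inf (p := M),
      Subgroup.mem_normalizer_iff.1 (Subgroup.le_normalizer hg) y]
    refine and_congr Iff.rfl ⟨fun h => (inferInstance : S.Normal).conj_mem y h g, fun h => ?_⟩
    have h' := (inferInstance : S.Normal).conj_mem _ h g⁻¹
    rwa [show g⁻¹ * (g * y * g⁻¹) * g⁻¹⁻¹ = y by group] at h'
  have hN := hprim _ inf_le_left hXn hMF
  -- the centralizer of `F*(N)` is trivial
  have hC : Subgroup.centralizer (S : Set G) = ⊥ := by
    refine hkey _ (inferInstance : (Subgroup.centralizer (S : Set G)).Normal).isSubnormal ?_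
    refine le_trans ?_ hN.le
    exact (Subgroup.centralizer_le (inf_le_right : M ⊓ S ≤ S)).trans (Subgroup.centralizer_le_normalizer _)
  have hF : Cfsg.fittingSubgroup G = ⊥ := by
    haveI := Cfsg.Agent.Lib.Components.fittingSubgroup_isNilpotent (G := G)
    by_contra hne
    haveI : Nontrivial (Cfsg.fittingSubgroup G) := (Subgroup.nontrivial_iff_ne_bot _).mpr hne
    have hle : (Subgroup.center (Cfsg.fittingSubgroup G)).map (Cfsg.fittingSubgroup G).subtype ≤
        Subgroup.centralizer (S : Set G) := by
      refine le_trans ?_ (Subgroup.centralizer_le inf_le_left)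
      rintro _ ⟨z, hz, rfl⟩
      rw [Subgroup.mem_centralizer_iff]
      intro y hy
      have h1 : Cfsg.generalizedFittingSubgroup G ≤ Subgroup.centralizer {(z : G)} := by
        refine sup_le (fun l hl => ?_) (fun f hf => ?_)
        · exact Subgroup.mem_centralizer_singleton_iff.mpr (Subgroup.mem_centralizer_iff.mp
            (Cfsg.Agent.Lib.Components.layer_le_centralizer_fittingSubgroup hl) z z.2).symm
        · exact Subgroup.mem_centralizer_singleton_iff.mpr
            (congrArg Subtype.val (Subgroup.mem_center_iff.mp hz ⟨f, hf⟩))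
      exact Subgroup.mem_centralizer_singleton_iff.mp (h1 hy)
    rw [hC, le_bot_iff, Subgroup.map_eq_bot_iff_of_injective _
      (Cfsg.fittingSubgroup G).subtype_injective] at hle
    exact (Group.IsNilpotent.center_ne_bot (G := Cfsg.fittingSubgroup G)) hle
  have hgfs : Cfsg.generalizedFittingSubgroup G = Cfsg.layer G := by
    show Cfsg.layer G ⊔ Cfsg.fittingSubgroup G = _
    rw [hF, sup_bot_eq]
  have hEN : Cfsg.layer G ≤ N := Cfsg.Agent.Lib.Components.layer_le_iff.mpr fun L hL => by
    by_contra h
    refine Cfsg.Agent.Lib.Components.isComponent_ne_bot hL (le_bot_iff.mp (hC ▸ ?_))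
    exact (Cfsg.Agent.Lib.Components.isComponent_le_centralizer_of_not_le hL
      (inferInstance : N.Normal).isSubnormal h).trans (Subgroup.centralizer_le inf_le_right)
  refine ⟨hF, inf_eq_left.mpr (hgfs.le.trans hEN), hgfs, fun K hK hK0 hmin => ?_⟩
  haveI := hK
  rcases hmin (K ⊓ N) inferInstance inf_le_left with h | h
  · exfalso
    refine hK0 (le_bot_iff.mp (hC ▸ ?_))
    refine le_trans ?_ (Subgroup.centralizer_le (inf_le_right : S ≤ N))
    rw [← Subgroup.commutator_eq_bot_iff_le_centralizer, ← le_bot_iff, ← h]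
    exact Subgroup.commutator_le_inf K N
  · exact inf_eq_left.mp h

end Cfsg.Agent.S3750
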