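import Cfsg.Statements.S3751
import Mathlib
import Cfsg.Prelude.Def_SylowChains
import Cfsg.Agent.Lib.BenderPair.Basic
-- import your own Cfsg.Agent.* helpers here

set_option autoImplicit false
set_option linter.style.haveILetI false
open Cfsg

namespace Cfsg.Agent.S3751

open Subgroup
open Cfsg.Agent.Lib
open Cfsg.Agent.Lib.BenderPair

variable {G : Type*} [Group G] [Finite G] {p : ℕ} [Fact p.Prime]

theorem exists_normalizer_gt {T U : Subgroup G} (hU : IsPGroup p U) (hTU : T < U) :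
    ∃ V : Subgroup G, V ≤ U ∧ V ≤ normalizer (T : Set G) ∧ T < V := by
  haveI := hU.isNilpotent
  have h : T.subgroupOf U < normalizer ((T.subgroupOf U : Subgroup U) : Set U) :=
    Group.normalizerCondition_of_isNilpotent _ (lt_top_iff_ne_top.mpr fun h =>
      hTU.not_ge (subgroupOf_eq_top.mp h))
  obtain ⟨x, hx, hxn⟩ := SetLike.exists_of_lt h
  refine ⟨U ⊓ normalizer (T : Set G), inf_le_left, inf_le_right,
    lt_of_le_of_ne (le_inf hTU.le le_normalizer) fun he => hxn ?_⟩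
  rw [mem_subgroupOf, he]
  refine ⟨x.2, mem_normalizer_iff.mpr fun y => ?_⟩
  constructor
  · intro hy
    exact (mem_normalizer_iff.mp hx ⟨y, hTU.le hy⟩).mp hy
  · intro hy
    have hy' : y ∈ U := by
      have := mul_mem (mul_mem (inv_mem x.2) (hTU.le hy)) x.2
      simpa [mul_assoc] using this
    exact (mem_normalizer_iff.mp hx ⟨y, hy'⟩).mpr hy

theorem pCoreOf_ne_bot {M : Subgroup G} (hM : IsPLocal p M) : pCoreOf p M ≠ ⊥ := by
  obtain ⟨T, hT, hT1, rfl⟩ := hM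
  exact fun h => hT1 (le_bot_iff.mp (h ▸ le_pCoreOf le_normalizer le_rfl hT))

theorem normalizer_pCoreOf_eq {M : Subgroup G} (hM : IsMaximalPLocal p M) :
    normalizer ((pCoreOf p M : Subgroup G) : Set G) = M :=
  hM.2 _ ⟨_, isPGroup_pCoreOf p M, pCoreOf_ne_bot hM.1, rfl⟩ (le_normalizer_pCoreOf p M)

theorem normalizer_le_of_le_normalizer (hloc : IsOfLocalCharacteristic p G) {M A : Subgroup G}
    (hM : IsMaximalPLocal p M) (hA : A ≠ ⊥) (hAM : A ≤ M) (hMA : M ≤ normalizer (A : Set G)) :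
    normalizer (A : Set G) ≤ M := by
  have hchar : normalizer (A : Set G) ≤ normalizer ((pCoreOf p A : Subgroup G) : Set G) :=
    Coprime.normalizer_le_normalizer_map_of_characteristic (K := A)
      (hC := PSolvable.pCore_characteristic) _
  have hB : pCoreOf p A ≠ ⊥ := by
    intro hB
    obtain ⟨T, hT, hT1, hMT⟩ := hM.1
    have hc : centralizer (pCore p ↥M : Set ↥M) ≤ pCore p ↥M := by
      rw [hMT]; exact hloc.2 T hT hT1
    have hinf : A ⊓ pCoreOf p M = ⊥ := le_bot_iff.mp (hB ▸ le_pCoreOf inf_le_left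
      (fun a ha => by
        rw [mem_normalizer_iff]
        intro x
        simp only [mem_inf, ← (mem_normalizer_iff.mp (le_normalizer_pCoreOf p M (hAM ha)) x),
          ← (mem_normalizer_iff.mp (Subgroup.le_normalizer ha) x)])
      ((isPGroup_pCoreOf p M).to_le inf_le_right))
    have hcent : A ≤ centralizer (pCoreOf p M : Set G) := by
      rw [← commutator_eq_bot_iff_le_centralizer, eq_bot_iff, ← hinf]
      refine le_inf ?_ (le_normalizer_iff_commutator_le_right.mp (hAM.trans (le_normalizer_pCoreOf p M)))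
      rw [commutator_comm]
      exact le_normalizer_iff_commutator_le_right.mp ((pCoreOf_le p M).trans hMA)
    refine hA (le_bot_iff.mp (hinf ▸ le_inf le_rfl fun a ha => ?_))
    exact ⟨⟨a, hAM ha⟩, hc (mem_centralizer_iff.mpr fun w hw => Subtype.ext
      (mem_centralizer_iff.mp (hcent ha) w ⟨w, hw, rfl⟩)), rfl⟩
  exact (hchar.trans (hM.2 _ ⟨_, isPGroup_pCoreOf p A, hB, rfl⟩ (hMA.trans hchar)).le)

theorem primitive_of_maximal (hloc : IsOfLocalCharacteristic p G) {M L : Subgroup G}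
    (hM : IsMaximalPLocal p M) (hL : IsMaximalPLocal p L) (A : Subgroup G) (hA : A ≠ ⊥)
    (hAD : A ≤ M ⊓ L) :
    (M ≤ normalizer (A : Set G) → L ⊓ normalizer (A : Set G) = M ⊓ L) ∧
      (L ≤ normalizer (A : Set G) → M ⊓ normalizer (A : Set G) = M ⊓ L) := by
  refine ⟨fun h => ?_, fun h => ?_⟩
  · rw [le_antisymm (normalizer_le_of_le_normalizer hloc hM hA (hAD.trans inf_le_left) h) h, inf_comm]
  · rw [le_antisymm (normalizer_le_of_le_normalizer hloc hL hA (hAD.trans inf_le_right) h) h]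

theorem isMaximalPLocal_conj {M : Subgroup G} (hM : IsMaximalPLocal p M) (g : G) :
    IsMaximalPLocal p (M.map (MulAut.conj g).toMonoidHom) := by
  have key : ∀ (h : G) {N : Subgroup G}, IsPLocal p N → IsPLocal p (N.map (MulAut.conj h).toMonoidHom) := by
    rintro h N ⟨Q, hQ, hQ1, rfl⟩
    exact ⟨Q.map _, hQ.map _, (map_eq_bot_iff_of_injective _ (MulAut.conj h).injective).not.mpr hQ1,
      map_equiv_normalizer_eq Q (MulAut.conj h)⟩
  have hcancel : ∀ (h : G) (N : Subgroup G),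
      (N.map (MulAut.conj h).toMonoidHom).map (MulAut.conj h⁻¹).toMonoidHom = N := by
    intro h N
    rw [Subgroup.map_map]
    convert N.map_id
    ext x
    simp [mul_assoc]
  refine ⟨key g hM.1, fun N hN hle => ?_⟩
  have h1 := hM.2 _ (key g⁻¹ hN) (by
    have := Subgroup.map_mono (f := (MulAut.conj g⁻¹).toMonoidHom) hle
    rwa [hcancel] at this)
  have h2 := hcancel g⁻¹ N
  rw [inv_inv] at h2
  rw [← h2, h1]

theorem map_conj_ne {M : Subgroup G} (hM : IsMaximalPLocal p M) {g : G} (hg : g ∉ M) :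
    M.map (MulAut.conj g).toMonoidHom ≠ M := fun h => hg (by
  rw [← normalizer_pCoreOf_eq hM]
  exact Coprime.normalizer_le_normalizer_map_of_characteristic (K := M)
    (hC := PSolvable.pCore_characteristic) _ (mem_normalizer_iff_map_conj_eq.mpr h))

theorem pCoreOf_le_of_maximal {M T : Subgroup G} (hTM : T ≤ M) (hT : IsPGroup p T)
    (h : ∀ U : Subgroup G, IsPGroup p U → T ≤ U → U ≤ M → U = T) : pCoreOf p M ≤ T := by
  have h' := h (T ⊔ pCoreOf p M)
    (hT.to_sup_of_normal_right' (isPGroup_pCoreOf p M) (hTM.trans (le_normalizer_pCoreOf p M)))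
    le_sup_left (sup_le hTM (pCoreOf_le p M))
  exact h' ▸ le_sup_right


/-- Two distinct subgroups M₁, M₂ of G form a primitive pair when, for {i, j} = {1, 2}, every non-trivial normal subgroup A of M_i contained in M₁ ∩ M₂ satisfies N_{M_j}(A) = M₁ ∩ M₂; the pair has characteristic p when moreover C_{M_i}(O_p(M_i)) ≤ O_p(M_i) for both i and O_p(M₁)O_p(M₂) ≤ M₁ ∩ M₂. Let G be a finite group, p a prime dividing its order, with O_p(G) = 1 and every p-local subgroup of characteristic p. Then either G has a primitive pair of characteristic p, or every maximal p-local subgroup M of G is strongly p-embedded in G: M is a proper subgroup, p divides its order, and for every g ∉ M the order of M ∩ gMg⁻¹ is prime to p. -/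
theorem result {G : Type*} [Group G] [Finite G] {p : ℕ} [Fact p.Prime] (hloc : Cfsg.IsOfLocalCharacteristic p G) (hOp : Cfsg.pCore p G = ⊥) : (∃ M₁ M₂ : Subgroup G, M₁ ≠ M₂ ∧ (∀ A : Subgroup G, A ≠ ⊥ → A ≤ M₁ ⊓ M₂ → (M₁ ≤ Subgroup.normalizer (A : Set G) → M₂ ⊓ Subgroup.normalizer (A : Set G) = M₁ ⊓ M₂) ∧ (M₂ ≤ Subgroup.normalizer (A : Set G) → M₁ ⊓ Subgroup.normalizer (A : Set G) = M₁ ⊓ M₂)) ∧ Subgroup.centralizer (Cfsg.pCore p ↥M₁ : Set ↥M₁) ≤ Cfsg.pCore p ↥M₁ ∧ Subgroup.centralizer (Cfsg.pCore p ↥M₂ : Set ↥M₂) ≤ Cfsg.pCore p ↥M₂ ∧ (Cfsg.pCore p ↥M₁).map M₁.subtype ⊔ (Cfsg.pCore p ↥M₂).map M₂.subtype ≤ M₁ ⊓ M₂) ∨ (∀ M : Subgroup G, (∃ T : Subgroup G, IsPGroup p T ∧ T ≠ ⊥ ∧ M = Subgroup.normalizer (T : Set G)) → (∀ L : Subgroup G, (∃ T : Subgroup G, IsPGroup p T ∧ T ≠ ⊥ ∧ L = Subgroup.normalizer (T : Set G)) → M ≤ L → L = M) → M ≠ ⊤ ∧ p ∣ Nat.card M ∧ ∀ g : G, g ∉ M → ¬ p ∣ Nat.card ↥(M ⊓ M.map (MulAut.conj g).toMonoidHom))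 := by
  classical
  by_cases hall : ∀ M : Subgroup G, IsMaximalPLocal p M → M ≠ ⊤ ∧ p ∣ Nat.card M ∧
      ∀ g : G, g ∉ M → ¬ p ∣ Nat.card ↥(M ⊓ M.map (MulAut.conj g).toMonoidHom)
  · exact Or.inr fun M h1 h2 => hall M ⟨h1, fun N hN hle => h2 N hN hle⟩
  left
  push Not at hall
  obtain ⟨M₀, hM₀, hfail⟩ := hall
  obtain ⟨T₀, hT₀, hT₀1, hMT₀⟩ := hM₀.1
  have hne0 : M₀ ≠ ⊤ := fun h => hT₀1 (le_bot_iff.mp (hOp ▸
    PSolvable.le_pCore (hN := normalizer_eq_top_iff.mp (hMT₀ ▸ h)) hT₀))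
  obtain ⟨g₀, hg₀, hdvd⟩ := hfail hne0 ((hT₀.card_eq_or_dvd.resolve_left fun h =>
    hT₀1 (eq_bot_of_card_eq T₀ h)).trans (card_dvd_of_le (hMT₀ ▸ le_normalizer)))
  haveI : Finite (Subgroup G) := Finite.of_injective _ SetLike.coe_injective
  set S := {T : Subgroup G | IsPGroup p T ∧ T ≠ ⊥ ∧ ∃ M L, IsMaximalPLocal p M ∧
    IsMaximalPLocal p L ∧ M ≠ L ∧ T ≤ M ∧ T ≤ L}
  have hS : S.Nonempty := by
    obtain ⟨x, hx⟩ := exists_prime_orderOf_dvd_card' p hdvd
    rw [← orderOf_coe] at hx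
    refine ⟨zpowers (x : G), IsPGroup.of_card (n := 1) (by rw [Nat.card_zpowers, hx, pow_one]),
      fun h => ?_, M₀, _, hM₀, isMaximalPLocal_conj hM₀ g₀, (map_conj_ne hM₀ hg₀).symm,
      zpowers_le.mpr x.2.1, zpowers_le.mpr x.2.2⟩
    rw [zpowers_eq_bot.mp h, orderOf_one] at hx
    exact (Fact.out : p.Prime).ne_one hx.symm
  obtain ⟨T, ⟨hT, hT1, M, L, hM, hL, hML, hTM, hTL⟩, hTmax⟩ := Set.Finite.exists_maximal
    (s := S) (Set.toFinite _) hS
  obtain ⟨K, ⟨hK, hNK⟩, hKmax⟩ := Set.Finite.exists_maximal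
    (s := {K : Subgroup G | IsPLocal p K ∧ normalizer (T : Set G) ≤ K}) (Set.toFinite _)
    ⟨_, ⟨T, hT, hT1, rfl⟩, le_rfl⟩
  have hK' : IsMaximalPLocal p K :=
    ⟨hK, fun N hN hle => le_antisymm (hKmax ⟨hN, hNK.trans hle⟩ hle) hle⟩
  have hnotmax : ∀ N : Subgroup G, IsMaximalPLocal p N →
      (¬ ∀ U : Subgroup G, IsPGroup p U → T ≤ U → U ≤ N → U = T) → N = K := by
    intro N hN hnot
    by_contra hNne
    push Not at hnot
    obtain ⟨U, hU, hTU, hUN, hne⟩ := hnot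
    obtain ⟨V, hVU, hVN, hTV⟩ := exists_normalizer_gt hU (lt_of_le_of_ne hTU (Ne.symm hne))
    exact hTV.not_ge (hTmax ⟨hU.to_le hVU, fun h => hT1 (le_bot_iff.mp (h ▸ hTV.le)), N, K, hN, hK',
      hNne, hVU.trans hUN, hVN.trans hNK⟩ hTV.le)
  have mk : ∀ M₁ M₂ : Subgroup G, IsMaximalPLocal p M₁ → IsMaximalPLocal p M₂ → M₁ ≠ M₂ →
      pCoreOf p M₁ ≤ T → pCoreOf p M₂ ≤ T → T ≤ M₁ → T ≤ M₂ →
      ∃ M₁ M₂ : Subgroup G, M₁ ≠ M₂ ∧ (∀ A : Subgroup G, A ≠ ⊥ → A ≤ M₁ ⊓ M₂ →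
        (M₁ ≤ normalizer (A : Set G) → M₂ ⊓ normalizer (A : Set G) = M₁ ⊓ M₂) ∧
        (M₂ ≤ normalizer (A : Set G) → M₁ ⊓ normalizer (A : Set G) = M₁ ⊓ M₂)) ∧
        centralizer (pCore p ↥M₁ : Set ↥M₁) ≤ pCore p ↥M₁ ∧
        centralizer (pCore p ↥M₂ : Set ↥M₂) ≤ pCore p ↥M₂ ∧
        (pCore p ↥M₁).map M₁.subtype ⊔ (pCore p ↥M₂).map M₂.subtype ≤ M₁ ⊓ M₂ := by
    intro M₁ M₂ h1 h2 hne e1 e2 t1 t2
    refine ⟨M₁, M₂, hne, primitive_of_maximal hloc h1 h2, ?_, ?_,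
      (sup_le e1 e2).trans (le_inf t1 t2)⟩
    · obtain ⟨Q, hQ, hQ1, rfl⟩ := h1.1; exact hloc.2 Q hQ hQ1
    · obtain ⟨Q, hQ, hQ1, rfl⟩ := h2.1; exact hloc.2 Q hQ hQ1
  -- the case of a Sylow subgroup of one member only
  have one : ∀ M L : Subgroup G, IsMaximalPLocal p M → T ≤ M →
      (∀ U : Subgroup G, IsPGroup p U → T ≤ U → U ≤ M → U = T) →
      (∃ U : Subgroup G, IsPGroup p U ∧ T ≤ U ∧ U ≤ L ∧ U ≠ T) →
      ∃ g : G, M.map (MulAut.conj g).toMonoidHom ≠ M ∧ T ≤ M.map (MulAut.conj g).toMonoidHom ∧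
        pCoreOf p (M.map (MulAut.conj g).toMonoidHom) ≤ T := by
    intro M L hM hTM hmax ⟨U, hU, hTU, _, hne⟩
    obtain ⟨V, hVU, hVN, hTV⟩ := exists_normalizer_gt hU (lt_of_le_of_ne hTU (Ne.symm hne))
    obtain ⟨g, hgV, hgM⟩ := SetLike.not_le_iff_exists.mp
      (fun h : V ≤ M => hTV.ne (hmax V (hU.to_le hVU) hTV.le h).symm)
    have hgT : T.map (MulAut.conj g).toMonoidHom = T := mem_normalizer_iff_map_conj_eq.mp (hVN hgV)
    refine ⟨g, map_conj_ne hM hgM, hgT ▸ Subgroup.map_mono hTM, ?_⟩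
    set M' := M.map (MulAut.conj g).toMonoidHom with hM'
    have hinj : Function.Injective (MulAut.conj g).toMonoidHom := (MulAut.conj g).injective
    set P := (pCoreOf p M').comap (MulAut.conj g).toMonoidHom
    have hP : pCoreOf p M' = P.map (MulAut.conj g).toMonoidHom :=
      (map_comap_eq_self_of_surjective (MulAut.conj g).surjective _).symm
    have hPM : P ≤ pCoreOf p M := by
      refine le_pCoreOf ?_ ?_ ((isPGroup_pCoreOf p M').comap_of_injective _ hinj)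
      · intro x hx
        obtain ⟨y, hy, hxy⟩ := pCoreOf_le p M' hx
        exact hinj hxy ▸ hy
      · intro m hm
        have h := mem_normalizer_iff.mp (le_normalizer_pCoreOf p M' ⟨m, hm, rfl⟩)
        rw [mem_normalizer_iff]
        intro x
        simp only [P, mem_comap, map_mul, map_inv]
        exact h _
    rw [hP, ← hgT]
    exact Subgroup.map_mono (hPM.trans (pCoreOf_le_of_maximal hTM hT hmax))
  by_cases hMs : ∀ U : Subgroup G, IsPGroup p U → T ≤ U → U ≤ M → U = T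
  · by_cases hLs : ∀ U : Subgroup G, IsPGroup p U → T ≤ U → U ≤ L → U = T
    · exact mk M L hM hL hML (pCoreOf_le_of_maximal hTM hT hMs) (pCoreOf_le_of_maximal hTL hT hLs) hTM hTL
    · push Not at hLs
      obtain ⟨g, hne, hTg, hg⟩ := one M L hM hTM hMs hLs
      exact mk M _ hM (isMaximalPLocal_conj hM g) hne.symm (pCoreOf_le_of_maximal hTM hT hMs) hg hTM hTg
  · have hLs : ∀ U : Subgroup G, IsPGroup p U → T ≤ U → U ≤ L → U = T := by
      by_contra h
      exact hML ((hnotmax M hM hMs).trans (hnotmax L hL h).symm)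
    push Not at hMs
    obtain ⟨g, hne, hTg, hg⟩ := one L M hL hTL hLs hMs
    exact mk L _ hL (isMaximalPLocal_conj hL g) hne.symm (pCoreOf_le_of_maximal hTL hT hLs) hg hTL hTg

end Cfsg.Agent.S3751
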