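import Cfsg.Statements.S3752
import Mathlib
import Cfsg.Agent.Lib.BenderPair.Basic
-- import your own Cfsg.Agent.* helpers here

set_option autoImplicit false
set_option linter.style.haveILetI false
open Cfsg

namespace Cfsg.Agent.S3752

open Subgroup
open Cfsg.Agent.Lib
open Cfsg.Agent.Lib.BenderPair

variable {G : Type*} [Group G] [Finite G]

/-- The layer of a subgroup containing the generalized Fitting subgroup. -/
theorem layer_eq {M D : Subgroup G} (hDM : D ≤ M)
    (hF : (generalizedFittingSubgroup ↥M).map M.subtype ≤ D) :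
    (layer ↥D).map D.subtype = (layer ↥M).map M.subtype := by
  rw [generalizedFittingSubgroup, Subgroup.map_sup, sup_le_iff] at hF
  haveI : (layer ↥M).Normal := Components.layer_normal
  haveI : (fittingSubgroup ↥M).Normal := Components.fittingSubgroup_normal
  refine le_antisymm ?_ ?_
  · rw [map_le_iff_le_comap, Components.layer_le_iff]
    intro K hK
    rw [← map_le_iff_le_comap]
    set H := ((layer ↥M).map M.subtype).subgroupOf D
    haveI : H.Normal :=
      normal_subgroupOf_of_le_normalizer (hDM.trans (le_normalizer_map_subtype_of_normal _))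
    by_cases hKH : K ≤ H
    · rintro _ ⟨k, hk, rfl⟩
      exact hKH hk
    exfalso
    have hKc := Components.isComponent_le_centralizer_of_not_le hK (H := H) (Normal.isSubnormal inferInstance) hKH
    set N := ((fittingSubgroup ↥M).map M.subtype).subgroupOf D
    haveI : N.Normal :=
      normal_subgroupOf_of_le_normalizer (hDM.trans (le_normalizer_map_subtype_of_normal _))
    have hNnil : Group.IsNilpotent N := by
      haveI := Components.fittingSubgroup_isNilpotent (G := ↥M)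
      exact Group.nilpotent_of_mulEquiv ((subgroupOfEquivOfLe hF.2).trans
        ((fittingSubgroup ↥M).equivMapOfInjective M.subtype M.subtype_injective).symm).symm
    have hKF : K ≤ centralizer (N : Set D) :=
      (Components.isComponent_le_layer hK).trans (Components.layer_le_centralizer_fittingSubgroup.trans
        (centralizer_le (Components.le_fittingSubgroup inferInstance hNnil)))
    have hc : ∀ k : D, k ∈ K → ∀ w ∈ generalizedFittingSubgroup ↥M, (w : G) * k = k * w := by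
      intro k hk w hw
      have hle : (generalizedFittingSubgroup ↥M).map M.subtype ≤ centralizer ({(k : G)} : Set G) := by
        rw [generalizedFittingSubgroup, Subgroup.map_sup]
        refine sup_le (fun v hv => ?_) fun v hv => ?_
        · exact mem_centralizer_singleton_iff.mpr (congrArg Subtype.val
            (mem_centralizer_iff.mp (hKc hk) (⟨v, hF.1 hv⟩ : D) hv))
        · exact mem_centralizer_singleton_iff.mpr (congrArg Subtype.val
            (mem_centralizer_iff.mp (hKF hk) (⟨v, hF.2 hv⟩ : D) hv))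
      exact mem_centralizer_singleton_iff.mp (hle ⟨w, hw, rfl⟩)
    refine Components.isComponent_not_le_centralizer hK fun k hk => ?_
    have hkF : (⟨k, hDM k.2⟩ : M) ∈ generalizedFittingSubgroup ↥M :=
      Components.centralizer_generalizedFittingSubgroup_le (mem_centralizer_iff.mpr fun w hw =>
        Subtype.ext (hc k hk w hw))
    exact mem_centralizer_iff.mpr fun l hl => Subtype.ext (hc l hl _ hkF).symm
  · have h1 : layer ↥M ≤ D.subgroupOf M := fun x hx => hF.1 ⟨x, hx, rfl⟩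
    refine (Subgroup.map_mono (Components.layer_le_map_layer h1)).trans (le_of_eq ?_)
    rw [← Components.layer_map_equiv (subgroupOfEquivOfLe hDM), Subgroup.map_map, Subgroup.map_map]
    rfl

theorem pCoreOf_le_map_fitting {r : ℕ} (hr : r.Prime) (M : Subgroup G) :
    pCoreOf r M ≤ (fittingSubgroup ↥M).map M.subtype := by
  rw [map_fitting_eq]
  exact le_iSup (fun s : Nat.Primes => pCoreOf s M) ⟨r, hr⟩

theorem fitting_eq_pCore {M : Subgroup G} {p : ℕ} (hp : p.Prime)
    (h : ∀ r : ℕ, r.Prime → pCoreOf r M ≠ ⊥ → r = p) : fittingSubgroup ↥M = pCore p ↥M := by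
  refine map_injective M.subtype_injective (le_antisymm ?_ (pCoreOf_le_map_fitting hp M))
  rw [map_fitting_eq]
  refine iSup_le fun r => ?_
  by_cases hr : pCoreOf r M = ⊥
  · rw [hr]; exact bot_le
  · rw [h r r.2 hr]; exact le_rfl

/-- A local core of one member centralises, and so lies in, the Fitting subgroup of the other. -/
theorem eq_bot_of_unique {M N : Subgroup G} {p q : ℕ} [Fact p.Prime] [Fact q.Prime] (hpq : q ≠ p)
    (hC : centralizer ((fittingSubgroup ↥M : Subgroup M) : Set M) ≤ fittingSubgroup ↥M)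
    (hone : ∀ r : ℕ, r.Prime → pCoreOf r M ≠ ⊥ → r = p)
    (hMN : pCoreOf p M ≤ N) (hNM : pCoreOf q N ≤ M) : pCoreOf q N = ⊥ := by
  have hF : fittingSubgroup ↥M = pCore p ↥M := fitting_eq_pCore Fact.out hone
  have hc : pCoreOf q N ≤ centralizer (pCoreOf p M : Set G) :=
    pCoreOf_le_centralizer hpq (isPGroup_pCoreOf q N) (isPGroup_pCoreOf p M)
      (hNM.trans (le_normalizer_pCoreOf p M)) (hMN.trans (le_normalizer_pCoreOf q N))
  have hle : pCoreOf q N ≤ pCoreOf p M := fun x hx => by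
    refine ⟨⟨x, hNM hx⟩, hF ▸ hC (mem_centralizer_iff.mpr fun w hw => Subtype.ext ?_), rfl⟩
    rw [SetLike.mem_coe, hF] at hw
    exact mem_centralizer_iff.mp (hc hx) w ⟨w, hw, rfl⟩
  rw [eq_bot_iff]
  exact (le_inf le_rfl hle).trans
    (IsPGroup.disjoint_of_ne q p hpq _ _ (isPGroup_pCoreOf q N) (isPGroup_pCoreOf p M)).le_bot

theorem eq_bot_of_centralizer_le {M : Subgroup G}
    (hC : centralizer ((fittingSubgroup ↥M : Subgroup M) : Set M) ≤ fittingSubgroup ↥M)
    (h : ∀ r : ℕ, r.Prime → pCoreOf r M = ⊥) : M = ⊥ := by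
  have hF : fittingSubgroup ↥M = ⊥ := by
    refine map_injective M.subtype_injective ?_
    rw [map_fitting_eq, Subgroup.map_bot]
    simp [fun r : Nat.Primes => h r r.2]
  rw [hF] at hC
  rw [eq_bot_iff]
  intro x hx
  have h1 : (⟨x, hx⟩ : M) ∈ centralizer ((⊥ : Subgroup M) : Set M) :=
    mem_centralizer_iff.mpr fun w hw => by rw [mem_bot.mp hw]; simp
  exact congrArg Subtype.val (mem_bot.mp (hC h1))


/-- Bender's Theorem on primitive pairs. Two distinct subgroups M₁, M₂ of G form a primitive pair when, for {i, j} = {1, 2}, every non-trivial normal subgroup A of M_i contained in M₁ ∩ M₂ satisfies N_{M_j}(A) = M₁ ∩ M₂; the pair has characteristic p when moreover C_{M_i}(O_p(M_i)) ≤ O_p(M_i) for both i and O_p(M₁)O_p(M₂) ≤ M₁ ∩ M₂. If (M₁, M₂) is a primitive pair of the finite group G with F*(M₁) ≤ M₂ and F*(M₂) ≤ M₁, then for some prime p the pair has characteristic p. -/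
theorem result {G : Type*} [Group G] [Finite G] (M₁ M₂ : Subgroup G) (hne : M₁ ≠ M₂) (hP : ∀ A : Subgroup G, A ≠ ⊥ → A ≤ M₁ ⊓ M₂ → (M₁ ≤ Subgroup.normalizer (A : Set G) → M₂ ⊓ Subgroup.normalizer (A : Set G) = M₁ ⊓ M₂) ∧ (M₂ ≤ Subgroup.normalizer (A : Set G) → M₁ ⊓ Subgroup.normalizer (A : Set G) = M₁ ⊓ M₂)) (h₁ : (Cfsg.generalizedFittingSubgroup ↥M₁).map M₁.subtype ≤ M₂) (h₂ : (Cfsg.generalizedFittingSubgroup ↥M₂).map M₂.subtype ≤ M₁) : ∃ p : ℕ, p.Prime ∧ Subgroup.centralizer (Cfsg.pCore p ↥M₁ : Set ↥M₁) ≤ Cfsg.pCore p ↥M₁ ∧ Subgroup.centralizer (Cfsg.pCore p ↥M₂ : Set ↥M₂) ≤ Cfsg.pCore p ↥M₂ ∧ (Cfsg.pCore p ↥M₁).map M₁.subtype ⊔ (Cfsg.pCore p ↥M₂).map M₂.subtype ≤ M₁ ⊓ M₂ := by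
  classical
  set D := M₁ ⊓ M₂ with hD
  have hD1 : D ≤ M₁ := inf_le_left
  have hD2 : D ≤ M₂ := inf_le_right
  have hf1 : (generalizedFittingSubgroup ↥M₁).map M₁.subtype ≤ D := le_inf (map_subtype_le _) h₁
  have hf2 : (generalizedFittingSubgroup ↥M₂).map M₂.subtype ≤ D := le_inf h₂ (map_subtype_le _)
  -- both members are normalisers of nontrivial common normal subgroups
  have hcommon : ∀ A : Subgroup G, A ≤ D → M₁ ≤ normalizer (A : Set G) →
      M₂ ≤ normalizer (A : Set G) → A = ⊥ := by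
    intro A hAD hA1 hA2
    by_contra hA
    have e1 := (hP A hA hAD).1 hA1
    have e2 := (hP A hA hAD).2 hA2
    rw [inf_eq_left.mpr hA2] at e1
    rw [inf_eq_left.mpr hA1] at e2
    exact hne (e2.trans e1.symm)
  have hE := layer_eq hD1 hf1
  have hE' := layer_eq hD2 hf2
  haveI : (layer ↥M₁).Normal := Components.layer_normal
  haveI : (layer ↥M₂).Normal := Components.layer_normal
  have hE0 : (layer ↥D).map D.subtype = ⊥ := hcommon _ (map_subtype_le _)
    (hE.symm ▸ le_normalizer_map_subtype_of_normal _) (hE'.symm ▸ le_normalizer_map_subtype_of_normal _)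
  have hC : ∀ M : Subgroup G, (layer ↥M).map M.subtype = ⊥ →
      centralizer ((fittingSubgroup ↥M : Subgroup M) : Set M) ≤ fittingSubgroup ↥M := fun M hM => by
    have h := Components.centralizer_generalizedFittingSubgroup_le (G := ↥M)
    rwa [generalizedFittingSubgroup, map_injective M.subtype_injective (hM.trans (Subgroup.map_bot _).symm),
      bot_sup_eq] at h
  have hC1 := hC M₁ (hE.symm.trans hE0)
  have hC2 := hC M₂ (hE'.symm.trans hE0)
  have hsub1 : ∀ r : ℕ, r.Prime → pCoreOf r M₁ ≤ D := fun r hr =>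
    ((pCoreOf_le_map_fitting hr M₁).trans (Subgroup.map_mono le_sup_right)).trans hf1
  have hsub2 : ∀ r : ℕ, r.Prime → pCoreOf r M₂ ≤ D := fun r hr =>
    ((pCoreOf_le_map_fitting hr M₂).trans (Subgroup.map_mono le_sup_right)).trans hf2
  have hM1 : ∃ p : ℕ, p.Prime ∧ pCoreOf p M₁ ≠ ⊥ := by
    by_contra hcon
    push Not at hcon
    have e1 : M₁ = ⊥ := eq_bot_of_centralizer_le hC1 hcon
    refine hne (e1.trans (eq_bot_of_centralizer_le hC2 fun r hr => ?_).symm)
    exact le_bot_iff.mp (e1 ▸ (hsub2 r hr).trans hD1)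
  have hM2 : ∃ p : ℕ, p.Prime ∧ pCoreOf p M₂ ≠ ⊥ := by
    by_contra hcon
    push Not at hcon
    have e2 : M₂ = ⊥ := eq_bot_of_centralizer_le hC2 hcon
    refine hne ((eq_bot_of_centralizer_le hC1 fun r hr => ?_).trans e2.symm)
    exact le_bot_iff.mp (e2 ▸ (hsub1 r hr).trans hD2)
  obtain ⟨p, hp, hp1⟩ := hM1
  obtain ⟨s, hs, hs2⟩ := hM2
  haveI := Fact.mk hp
  haveI := Fact.mk hs
  -- two primes on both sides kill the local core
  have htwo : ∀ q : ℕ, q.Prime → ∀ a : ℕ, a.Prime → a ≠ q → pCoreOf a M₁ ≠ ⊥ →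
      ∀ b : ℕ, b.Prime → b ≠ q → pCoreOf b M₂ ≠ ⊥ → pCoreOf q M₁ = ⊥ := by
    intro q hq a ha haq ha1 b hb hbq hb2
    haveI := Fact.mk hq
    haveI := Fact.mk ha
    haveI := Fact.mk hb
    have e1 : pCoreOf q D ≤ pCoreOf q M₁ := pCoreOf_inf_le hbq hC1 (fun r hr => (hsub1 r hr).trans hD2)
      ((hsub2 b hb).trans hD1) ((hP _ hb2 (hsub2 b hb)).2 (le_normalizer_pCoreOf b M₂))
    have e2 : pCoreOf q D ≤ pCoreOf q M₂ := by
      rw [hD, inf_comm]
      refine pCoreOf_inf_le haq hC2 (fun r hr => (hsub2 r hr).trans hD1)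
        ((hsub1 a ha).trans hD2) ?_
      rw [(hP _ ha1 (hsub1 a ha)).1 (le_normalizer_pCoreOf a M₁), inf_comm]
    have f1 : pCoreOf q M₁ ≤ pCoreOf q D :=
      le_pCoreOf (hsub1 q hq) (hD1.trans (le_normalizer_pCoreOf q M₁)) (isPGroup_pCoreOf q M₁)
    have f2 : pCoreOf q M₂ ≤ pCoreOf q D :=
      le_pCoreOf (hsub2 q hq) (hD2.trans (le_normalizer_pCoreOf q M₂)) (isPGroup_pCoreOf q M₂)
    refine hcommon _ (hsub1 q hq) (le_normalizer_pCoreOf q M₁) ?_
    rw [show pCoreOf q M₁ = pCoreOf q M₂ from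
      (le_antisymm f1 e1).trans (le_antisymm e2 f2)]
    exact le_normalizer_pCoreOf q M₂
  have hone : (∀ r : ℕ, r.Prime → pCoreOf r M₁ ≠ ⊥ → r = p) ∧
      (∀ r : ℕ, r.Prime → pCoreOf r M₂ ≠ ⊥ → r = p) := by
    by_cases hu1 : ∀ r : ℕ, r.Prime → pCoreOf r M₁ ≠ ⊥ → r = p
    · refine ⟨hu1, fun r hr hr2 => ?_⟩
      by_contra hrp
      haveI := Fact.mk hr
      exact hr2 (eq_bot_of_unique hrp hC1 hu1 ((hsub1 p hp).trans hD2) ((hsub2 r hr).trans hD1))
    exfalso
    push Not at hu1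
    obtain ⟨p', hp', hp'1, hp'p⟩ := hu1
    haveI := Fact.mk hp'
    by_cases hu2 : ∀ r : ℕ, r.Prime → pCoreOf r M₂ ≠ ⊥ → r = s
    · have key : ∀ (r : ℕ) [Fact r.Prime], pCoreOf r M₁ ≠ ⊥ → r = s := fun r _ hr1 => by
        by_contra hrs
        exact hr1 (eq_bot_of_unique hrs hC2 hu2 ((hsub2 s hs).trans hD1) ((hsub1 r Fact.out).trans hD2))
      exact hp'p ((key p' hp'1).trans (key p hp1).symm)
    push Not at hu2
    obtain ⟨s', hs', hs'2, hs's⟩ := hu2
    by_cases hsp : s = p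
    · exact hp1 (htwo p hp p' hp' hp'p hp'1 s' hs' (hsp ▸ hs's) hs'2)
    · exact hp1 (htwo p hp p' hp' hp'p hp'1 s hs hsp hs2)
  refine ⟨p, hp, ?_, ?_, sup_le (hsub1 p hp) (hsub2 p hp)⟩
  · rw [← fitting_eq_pCore hp hone.1]; exact hC1
  · rw [← fitting_eq_pCore hp hone.2]; exact hC2

end Cfsg.Agent.S3752
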