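import Cfsg.Statements.S3753
import Cfsg.Agent.Lib.PrimPair.Basic

set_option autoImplicit false
open Cfsg
open Cfsg.Agent

namespace Cfsg.Agent.S3753

/-- Two distinct subgroups M₁, M₂ of G form a primitive pair when, for {i, j} = {1, 2}, every non-trivial normal subgroup A of M_i contained in M₁ ∩ M₂ satisfies N_{M_j}(A) = M₁ ∩ M₂; the pair has characteristic p when moreover C_{M_i}(O_p(M_i)) ≤ O_p(M_i) for both i and O_p(M₁)O_p(M₂) ≤ M₁ ∩ M₂. If the finite group G has a primitive pair (M₁, M₂) of characteristic p for some prime p, then M₁ or M₂ has non-abelian Sylow 2-subgroups. In particular no group of odd order has a primitive pair of characteristic p. -/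
theorem result {G : Type*} [Group G] [Finite G] {p : ℕ} [Fact p.Prime] (M₁ M₂ : Subgroup G) (hne : M₁ ≠ M₂) (hP : ∀ A : Subgroup G, A ≠ ⊥ → A ≤ M₁ ⊓ M₂ → (M₁ ≤ Subgroup.normalizer (A : Set G) → M₂ ⊓ Subgroup.normalizer (A : Set G) = M₁ ⊓ M₂) ∧ (M₂ ≤ Subgroup.normalizer (A : Set G) → M₁ ⊓ Subgroup.normalizer (A : Set G) = M₁ ⊓ M₂)) (hc₁ : Subgroup.centralizer (Cfsg.pCore p ↥M₁ : Set ↥M₁) ≤ Cfsg.pCore p ↥M₁) (hc₂ : Subgroup.centralizer (Cfsg.pCore p ↥M₂ : Set ↥M₂) ≤ Cfsg.pCore p ↥M₂) (hO : (Cfsg.pCore p ↥M₁).map M₁.subtype ⊔ (Cfsg.pCore p ↥M₂).map M₂.subtype ≤ M₁ ⊓ M₂) : (∃ S : Sylow 2 ↥M₁, ¬ IsMulCommutative (S : Subgroup ↥M₁)) ∨ (∃ S : Sylow 2 ↥M₂, ¬ IsMulCommutative (S : Subgroup ↥M₂)) := by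
  classical
  by_contra hcon
  push Not at hcon
  obtain ⟨hA₁, hA₂⟩ := hcon
  set Q₁ := (Cfsg.pCore p ↥M₁).map M₁.subtype with hQ₁
  set Q₂ := (Cfsg.pCore p ↥M₂).map M₂.subtype with hQ₂
  have hQ₁p : IsPGroup p Q₁ := Lib.PSolvable.pCore_isPGroup.map _
  have hQ₂p : IsPGroup p Q₂ := Lib.PSolvable.pCore_isPGroup.map _
  -- a nontrivial subgroup normal in both members is impossible
  have final : ∀ W : Subgroup G, W ≠ ⊥ → W ≤ M₁ ⊓ M₂ → M₁ ≤ Subgroup.normalizer (W : Set G) →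
      M₂ ≤ Subgroup.normalizer (W : Set G) → False := by
    intro W hW hWD h1 h2
    have e2 := (hP W hW hWD).1 h1
    have e1 := (hP W hW hWD).2 h2
    rw [inf_eq_left.mpr h1] at e1
    rw [inf_eq_left.mpr h2] at e2
    exact hne (e1.trans e2.symm)
  have hnorm : ∀ M : Subgroup G, M ≤ Subgroup.normalizer (((Cfsg.pCore p ↥M).map M.subtype : Subgroup G) : Set G) := by
    intro M g hg
    haveI := Lib.KInfinity.pCore_normal' (G := ↥M) (p := p)
    rw [Subgroup.mem_normalizer_iff]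
    intro x
    constructor
    · rintro ⟨y, hy, rfl⟩
      exact ⟨_, (inferInstance : (Cfsg.pCore p ↥M).Normal).conj_mem y hy ⟨g, hg⟩, rfl⟩
    · rintro ⟨y, hy, hyx⟩
      refine ⟨_, (inferInstance : (Cfsg.pCore p ↥M).Normal).conj_mem y hy ⟨g, hg⟩⁻¹, ?_⟩
      simp only [Subgroup.coe_subtype] at hyx ⊢
      simp [hyx, mul_assoc]
  have hbot : ∀ M : Subgroup G, Subgroup.centralizer (Cfsg.pCore p ↥M : Set ↥M) ≤ Cfsg.pCore p ↥M →
      Cfsg.pCore p ↥M = ⊥ → M = ⊥ := by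
    intro M hc hb
    rw [hb, Subgroup.coe_bot] at hc
    rw [Subgroup.eq_bot_iff_forall]
    intro x hx
    have : (⟨x, hx⟩ : M) ∈ (⊥ : Subgroup M) := hc (by simp [Subgroup.mem_centralizer_iff])
    exact congrArg Subtype.val (Subgroup.mem_bot.mp this)
  have hQne : Q₁ ⊔ Q₂ ≠ ⊥ := by
    intro h
    obtain ⟨h1, h2⟩ := sup_eq_bot_iff.mp h
    rw [hQ₁, Subgroup.map_eq_bot_iff_of_injective _ M₁.subtype_injective] at h1
    rw [hQ₂, Subgroup.map_eq_bot_iff_of_injective _ M₂.subtype_injective] at h2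
    exact hne ((hbot M₁ hc₁ h1).trans (hbot M₂ hc₂ h2).symm)
  by_cases hp : p = 2
  · subst hp
    -- each 2-core is the unique Sylow 2-subgroup
    have hsyl : ∀ M : Subgroup G, Subgroup.centralizer (Cfsg.pCore 2 ↥M : Set ↥M) ≤ Cfsg.pCore 2 ↥M →
        (∀ S : Sylow 2 ↥M, IsMulCommutative (S : Subgroup ↥M)) →
        ∀ R : Subgroup G, R ≤ M → IsPGroup 2 R → R ≤ (Cfsg.pCore 2 ↥M).map M.subtype := by
      intro M hc hA R hRM hR x hx
      obtain ⟨S, hS⟩ := (hR.comap_subtype (K := M)).exists_le_sylow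
      refine ⟨⟨x, hRM hx⟩, hc ?_, rfl⟩
      intro y hy
      exact congrArg Subtype.val ((hA S).is_comm.comm
        (⟨y, Lib.PSolvable.pCore_le_sylow S hy⟩ : (S : Subgroup ↥M)) ⟨⟨x, hRM hx⟩, hS (Subgroup.mem_subgroupOf.mpr hx)⟩)
    have e : Q₁ = Q₂ := le_antisymm
      (hsyl M₂ hc₂ hA₂ Q₁ ((le_sup_left.trans hO).trans inf_le_right) hQ₁p)
      (hsyl M₁ hc₁ hA₁ Q₂ ((le_sup_right.trans hO).trans inf_le_left) hQ₂p)
    refine final Q₁ ?_ (le_sup_left.trans hO) (hnorm M₁) (e ▸ hnorm M₂)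
    intro h
    exact hQne (by rw [← e, h, sup_idem])
  · set X := Q₁ ⊔ Q₂
    have hXp : IsPGroup p X :=
      hQ₁p.to_sup_of_normal_left' hQ₂p ((le_sup_right.trans hO).trans (inf_le_left.trans (hnorm M₁)))
    set W := Cfsg.inducedFunctor Cfsg.kInfLower X
    have hW : W ≠ ⊥ := by
      intro h
      haveI : Nontrivial X := (Subgroup.nontrivial_iff_ne_bot _).mpr hQne
      refine Lib.KInfinity.center_ne_bot hXp (le_bot_iff.mp (Lib.KInfinity.center_le_kInfLower.trans ?_))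
      exact ((Subgroup.map_eq_bot_iff_of_injective _ X.subtype_injective).mp h).le
    have hnormW : ∀ M : Subgroup G, X ≤ M → (Cfsg.pCore p ↥M).map M.subtype ≤ X →
        Subgroup.centralizer (Cfsg.pCore p ↥M : Set ↥M) ≤ Cfsg.pCore p ↥M →
        (∀ S : Sylow 2 ↥M, IsMulCommutative (S : Subgroup ↥M)) →
        M ≤ Subgroup.normalizer (W : Set G) := by
      intro M hXM hQX hc hA
      have hn := Lib.PrimPair.kInfLower_normal (X.subgroupOf M) hXp.comap_subtype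
        (fun y hy => Subgroup.mem_subgroupOf.mpr (hQX (Subgroup.mem_map_of_mem _ hy))) hc
        (fun N _ => Lib.PrimPair.stable_of_commSylowTwo hp hA N)
      have hWeq : (Cfsg.inducedFunctor Cfsg.kInfLower (X.subgroupOf M)).map M.subtype = W := by
        show ((Cfsg.kInfLower ↥(X.subgroupOf M)).map (X.subgroupOf M).subtype).map M.subtype = _
        show _ = (Cfsg.kInfLower ↥X).map X.subtype
        rw [← (Lib.KInfinity.map_kInf_equiv (Subgroup.subgroupOfEquivOfLe hXM)).1, Subgroup.map_map,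
          Subgroup.map_map]
        rfl
      intro g hg
      rw [← hWeq, Subgroup.mem_normalizer_iff]
      intro x
      constructor
      · rintro ⟨y, hy, rfl⟩
        exact ⟨_, hn.conj_mem y hy ⟨g, hg⟩, rfl⟩
      · rintro ⟨y, hy, hyx⟩
        refine ⟨_, hn.conj_mem y hy ⟨g, hg⟩⁻¹, ?_⟩
        simp only [Subgroup.coe_subtype] at hyx ⊢
        simp [hyx, mul_assoc]
    exact final W hW ((Subgroup.map_subtype_le _).trans hO)
      (hnormW M₁ (hO.trans inf_le_left) le_sup_left hc₁ hA₁)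
      (hnormW M₂ (hO.trans inf_le_right) le_sup_right hc₂ hA₂)

end Cfsg.Agent.S3753
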