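import Cfsg.Statements.S3754
import Mathlib
import Cfsg.Agent.Lib.PSolvable.DualHallHigman
import Cfsg.Agent.Lib.Coprime.Cocyclic
import Cfsg.Agent.Lib.PGroup.Frattini
import Cfsg.Agent.Lib.BenderPair.Basic
-- import your own Cfsg.Agent.* helpers here

set_option autoImplicit false
set_option linter.style.haveILetI false
open Cfsg

namespace Cfsg.Agent.S3754

open Subgroup
open scoped commutatorElement
open Cfsg.Agent.Lib

/-- Elementary: the commutator `[H, K]` is normalised by `H`. -/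
theorem self_le_normalizer_commutator {G : Type*} [Group G] (H K : Subgroup G) :
    H ≤ normalizer ((⁅H, K⁆ : Subgroup G) : Set G) := by
  have key : ∀ h ∈ H, ∀ y ∈ ⁅H, K⁆, h * y * h⁻¹ ∈ ⁅H, K⁆ := by
    intro h hh y hy
    have hle : ⁅H, K⁆ ≤ (⁅H, K⁆ : Subgroup G).comap (MulAut.conj h).toMonoidHom := by
      refine commutator_le.mpr fun a ha b hb => ?_
      rw [mem_comap]
      have h1 : h * ⁅a, b⁆ * h⁻¹ = ⁅h * a, b⁆ * ⁅h, b⁆⁻¹ := by
        simp only [commutatorElement_def]; group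
      show h * ⁅a, b⁆ * h⁻¹ ∈ ⁅H, K⁆
      rw [h1]
      exact mul_mem (commutator_mem_commutator (mul_mem hh ha) hb)
        (inv_mem (commutator_mem_commutator hh hb))
    exact hle hy
  intro h hh
  rw [mem_normalizer_iff]
  refine fun y => ⟨key h hh y, fun hy => ?_⟩
  simpa [mul_assoc] using key h⁻¹ (inv_mem hh) _ hy

/-- `O^p(G)` is normal. -/
theorem pResidual_normal (p : ℕ) {G : Type*} [Group G] : (pResidual p G).Normal := by
  refine ⟨fun n hn g => ?_⟩
  have hle : pResidual p G ≤ (pResidual p G).comap (MulAut.conj g).toMonoidHom := by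
    rw [pResidual, closure_le]
    intro w hw
    refine subset_closure ?_
    show (orderOf ((MulAut.conj g).toMonoidHom w)).Coprime p
    rw [orderOf_injective _ (MulAut.conj g).injective]
    exact hw
  exact hle hn

/-- An element of `p'`-order in the join of a normal subgroup with a `p`-group lies in the former. -/
theorem mem_of_orderOf_coprime {G : Type*} [Group G] [Finite G] {p : ℕ} [Fact p.Prime]
    {N A : Subgroup G} [N.Normal] (hA : IsPGroup p A) {w : G} (hw : w ∈ N ⊔ A)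
    (ho : (orderOf w).Coprime p) : w ∈ N := by
  rw [← QuotientGroup.eq_one_iff, ← orderOf_eq_one_iff]
  have hmem : (w : G ⧸ N) ∈ A.map (QuotientGroup.mk' N) := by
    have h : (w : G ⧸ N) ∈ (N ⊔ A).map (QuotientGroup.mk' N) := mem_map_of_mem (QuotientGroup.mk' N) hw
    rwa [Subgroup.map_sup, QuotientGroup.map_mk'_self, bot_sup_eq] at h
  obtain ⟨j, hj⟩ := (hA.map (QuotientGroup.mk' N)) ⟨_, hmem⟩
  exact Nat.eq_one_of_dvd_coprimes (ho.pow_right j) (orderOf_map_dvd (QuotientGroup.mk' N) w)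
    (orderOf_dvd_of_pow_eq_one (congrArg Subtype.val hj))

/-- Conjugate complements of a normal `p'`-subgroup are conjugate inside it. -/
theorem exists_conj_eq {G : Type*} [Group G] [Finite G] {p : ℕ} [Fact p.Prime]
    {N A A' L : Subgroup G} [N.Normal] (hN : (Nat.card N).Coprime p) (hA : IsPGroup p A)
    (hA' : IsPGroup p A') (hAL : A ≤ L) (hA'L : A' ≤ L) (hL : L ≤ N ⊔ A)
    (hcard : Nat.card A' = Nat.card A) :
    ∃ q ∈ L, q ∈ N ∧ A.map (MulAut.conj q).toMonoidHom = A' := by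
  let S : Sylow p L :=
    { toSubgroup := A.subgroupOf L
      isPGroup' := hA.of_equiv (subgroupOfEquivOfLe hAL).symm
      is_maximal' := by
        intro U hU hle
        refine le_antisymm (fun u hu => ?_) hle
        have hu' : (u : G) ∈ N ⊔ A := hL u.2
        rw [← SetLike.mem_coe, normal_mul] at hu'
        obtain ⟨n, hn, a, ha, hna⟩ := hu'
        have hnL : n ∈ L := by
          have := mul_mem u.2 (inv_mem (hAL ha))
          rwa [← show n * a = u from hna, mul_inv_cancel_right] at this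
        have hnU : (⟨n, hnL⟩ : L) ∈ U := by
          have h := mul_mem hu (inv_mem (hle (show (⟨a, hAL ha⟩ : L) ∈ A.subgroupOf L from ha)))
          convert h using 1
          exact Subtype.ext (by simp [← show n * a = u from hna])
        have hn1 : n ∈ N ⊓ U.map L.subtype := ⟨hn, _, hnU, rfl⟩
        rw [inf_comm, PSolvable.inf_eq_bot_of_isPGroup_of_coprime (hU.map _) hN, mem_bot] at hn1
        show (u : G) ∈ A
        rw [← show n * a = u from hna, hn1, one_mul]
        exact ha }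
  obtain ⟨T, hT⟩ := (hA'.of_equiv (subgroupOfEquivOfLe hA'L).symm).exists_le_sylow
  obtain ⟨l, hl⟩ := MulAction.exists_smul_eq L S T
  have hAT : A.map (MulAut.conj (l : G)).toMonoidHom = (T : Subgroup L).map L.subtype := by
    rw [← hl, Sylow.coe_subgroup_smul]
    ext x
    constructor
    · rintro ⟨a, ha, rfl⟩
      refine ⟨_, ⟨⟨a, hAL ha⟩, ha, rfl⟩, ?_⟩
      simp
    · rintro ⟨_, ⟨a, ha, rfl⟩, rfl⟩
      exact ⟨a, ha, by simp⟩
  have hA'T : A' = (T : Subgroup L).map L.subtype := by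
    refine eq_of_le_of_card_ge (fun a ha => ⟨⟨a, hA'L ha⟩, hT ha, rfl⟩) ?_
    rw [← hAT, card_map_of_injective (f := (MulAut.conj (l : G)).toMonoidHom) (MulAut.conj (l : G)).injective, hcard]
  have hl' : (l : G) ∈ N ⊔ A := hL l.2
  rw [← SetLike.mem_coe, normal_mul] at hl'
  obtain ⟨q, hq, a, ha, hqa⟩ := hl'
  have hql : q = (l : G) * a⁻¹ := by rw [← show q * a = l from hqa, mul_inv_cancel_right]
  refine ⟨q, hql ▸ mul_mem l.2 (inv_mem (hAL ha)), hq, ?_⟩
  rw [hA'T, ← hAT]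
  have hconj : A.map (MulAut.conj a).toMonoidHom = A :=
    mem_normalizer_iff_map_conj_eq.mp (Subgroup.le_normalizer ha)
  conv_rhs => rw [← show q * a = l from hqa]
  rw [show (MulAut.conj (q * a)).toMonoidHom = (MulAut.conj q).toMonoidHom.comp (MulAut.conj a).toMonoidHom by
    rw [map_mul]; rfl, ← Subgroup.map_map, hconj]

variable {M : Type*} [Group M] [Finite M] {p : ℕ} [Fact p.Prime]

/-- Lifting an element of a `p'`-group to a `p'`-element of a subgroup. -/
theorem exists_pResidual_lift {G : Type*} [Group G] (f : M →* G) {L : Subgroup M} {z : M} (hz : z ∈ L)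
    (ho : (orderOf (f z)).Coprime p) :
    ∃ y ∈ (pResidual p ↥L).map L.subtype, y ∈ L ∧ f y = f z := by
  obtain ⟨e, m, hm, hem⟩ := Nat.exists_eq_pow_mul_and_not_dvd
    (orderOf_pos z).ne' p (Fact.out : p.Prime).ne_one
  obtain ⟨j, hj⟩ := exists_pow_eq_self_of_coprime (x := f z) (n := p ^ e) (ho.symm.pow_left e)
  refine ⟨(z ^ p ^ e) ^ j, ?_, pow_mem (pow_mem hz _) _, by rw [map_pow, map_pow, hj]⟩
  refine ⟨(⟨z, hz⟩ ^ p ^ e) ^ j, subset_closure ?_, by simp⟩
  show (orderOf ((⟨z, hz⟩ ^ p ^ e) ^ j : L)).Coprime p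
  refine Nat.Coprime.coprime_dvd_left ?_ ((Fact.out : p.Prime).coprime_iff_not_dvd.mpr hm).symm
  refine orderOf_dvd_of_pow_eq_one ?_
  rw [← pow_mul, ← pow_mul, mul_comm j m, ← mul_assoc, pow_mul, ← hem]
  have h1 : (⟨z, hz⟩ : L) ^ orderOf z = 1 := Subtype.ext (by simpa using pow_orderOf_eq_one z)
  rw [h1, one_pow]


/-- Let M be a finite p-soluble group and A a p-subgroup of M with Φ(A) ≤ O_p(M) but A ≰ O_p(M). Then there is x ∈ O_{p,p'}(M) such that L = ⟨A, xAx⁻¹⟩ satisfies: x ∈ O^p(L) and O^p(L) ≤ O_{p,p'}(M); [O^p(L), A] = O^p(L); A ∩ O_p(L) has index p in A; and [A ∩ O_p(L), L] ≤ O_p(M). Here O^p(L) is the subgroup generated by the p'-elements of L and O_{p,p'}(M) the preimage of O_{p'}(M/O_p(M)). -/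
theorem result {M : Type*} [Group M] [Finite M] {p : ℕ} [Fact p.Prime] (hM : Cfsg.IsPSolvable p M) (A : Subgroup M) (hA : IsPGroup p A) (hΦ : (frattini ↥A).map A.subtype ≤ Cfsg.pCore p M) (hnot : ¬ A ≤ Cfsg.pCore p M) : ∃ x ∈ (Cfsg.pPrimeCore p (M ⧸ Cfsg.pCore p M)).comap (QuotientGroup.mk' (Cfsg.pCore p M)), x ∈ (Cfsg.pResidual p ↥(A ⊔ A.map (MulAut.conj x).toMonoidHom)).map (A ⊔ A.map (MulAut.conj x).toMonoidHom).subtype ∧ (Cfsg.pResidual p ↥(A ⊔ A.map (MulAut.conj x).toMonoidHom)).map (A ⊔ A.map (MulAut.conj x).toMonoidHom).subtype ≤ (Cfsg.pPrimeCore p (M ⧸ Cfsg.pCore p M)).comap (QuotientGroup.mk' (Cfsg.pCore p M)) ∧ ⁅(Cfsg.pResidual p ↥(A ⊔ A.map (MulAut.conj x).toMonoidHom)).map (A ⊔ A.map (MulAut.conj x).toMonoidHom).subtype, A⁆ = (Cfsg.pResidual p ↥(A ⊔ A.map (MulAut.conj x).toMonoidHom)).map (A ⊔ A.map (MulAut.conj x).toMonoidHom).subtype ∧ (A ⊓ (Cfsg.pCore p ↥(A ⊔ A.map (MulAut.conj x).toMonoidHom)).map (A ⊔ A.map (MulAut.conj x).toMonoidHom).subtype).relIndex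 A = p ∧ ⁅A ⊓ (Cfsg.pCore p ↥(A ⊔ A.map (MulAut.conj x).toMonoidHom)).map (A ⊔ A.map (MulAut.conj x).toMonoidHom).subtype, A ⊔ A.map (MulAut.conj x).toMonoidHom⁆ ≤ Cfsg.pCore p M := by
  classical
  set P := pCore p M with hP
  set f := QuotientGroup.mk' P with hf
  set Q := pPrimeCore p (M ⧸ P) with hQ
  set Ab := A.map f with hAb
  have hfP : ∀ z : M, f z = 1 ↔ z ∈ P := fun z => QuotientGroup.eq_one_iff z
  haveI hAc : IsMulCommutative Ab := by
    refine ⟨⟨?_⟩⟩
    rintro ⟨_, a, ha, rfl⟩ ⟨_, b, hb, rfl⟩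
    refine Subtype.ext (show f a * f b = f b * f a from ?_)
    rw [← commutatorElement_eq_one_iff_mul_comm, ← map_commutatorElement, hfP]
    refine hΦ ⟨⁅(⟨a, ha⟩ : A), ⟨b, hb⟩⁆, PFrattini.commutator_le_frattini hA ?_, rfl⟩
    exact commutator_mem_commutator (mem_top _) (mem_top _)
  have hApow : ∀ a ∈ A, f a ^ p = 1 := fun a ha => by
    rw [← map_pow, hfP]
    exact hΦ ⟨(⟨a, ha⟩ : A) ^ p, PFrattini.pow_mem_frattini hA _, rfl⟩
  have hAbp : IsPGroup p Ab := hA.map f
  haveI hQn : Q.Normal := by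
    have := PSolvable.pPrimeCore_characteristic (p := p) (G := M ⧸ P)
    infer_instance
  have hQcop : (Nat.card Q).Coprime p := PSolvable.pPrimeCore_coprime
  have hAQ : Ab ≤ normalizer (Q : Set (M ⧸ P)) := by rw [normalizer_eq_top]; exact le_top
  have hdisj : Ab ⊓ Q = ⊥ := PSolvable.inf_eq_bot_of_isPGroup_of_coprime hAbp hQcop
  have hcomm_of : ∀ z ∈ Q, z ∈ normalizer (Ab : Set (M ⧸ P)) → z ∈ centralizer (Ab : Set (M ⧸ P)) := by
    intro z hz hzn
    refine mem_centralizer_iff.mpr fun a ha => ?_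
    have h1 : z * a * z⁻¹ * a⁻¹ ∈ Ab ⊓ Q := by
      refine mem_inf.mpr ⟨mul_mem ((mem_normalizer_iff.mp hzn a).mp ha) (inv_mem ha), ?_⟩
      rw [show z * a * z⁻¹ * a⁻¹ = z * (a * z⁻¹ * a⁻¹) by group]
      exact mul_mem hz (hQn.conj_mem _ (inv_mem hz) a)
    rw [hdisj, mem_bot, mul_inv_eq_one, mul_inv_eq_iff_eq_mul] at h1
    exact h1.symm
  -- a hyperplane of the image of `A`
  obtain ⟨B, g, hBA, hg, hBg, hnot⟩ : ∃ B g, B ≤ Ab ∧ g ∈ Ab ∧ B ⊔ zpowers g = Ab ∧
      ¬ Q ⊓ centralizer (B : Set (M ⧸ P)) ≤ centralizer (Ab : Set (M ⧸ P)) := by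
    by_contra hcon
    push Not at hcon
    have hcopA : (Nat.card Ab).Coprime (Nat.card Q) := by
      obtain ⟨n, hn⟩ := IsPGroup.iff_card.mp hAbp
      rw [hn]
      exact hQcop.symm.pow_left n
    have h1 := Coprime.le_of_cocyclic (L := centralizer (Ab : Set (M ⧸ P))) hAQ hcopA
      fun B hB g hg hBg => hcon B g hB hg hBg
    have h2 : Ab ≤ Q := (le_centralizer_iff.mp h1).trans
      (PSolvable.centralizer_pPrimeCore_le_of_isPSolvable (PSolvable.isPSolvable_quotient hM P)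
        PSolvable.pCore_quotient_eq_bot)
    rw [inf_eq_left.mpr h2] at hdisj
    exact hnot fun a ha => (hfP a).mp (mem_bot.mp (hdisj ▸ mem_map_of_mem f ha))
  have hgB : g ∉ B := fun h => by
    rw [sup_eq_left.mpr (zpowers_le.mpr h)] at hBg
    exact hnot (hBg ▸ inf_le_right)
  set L : M → Subgroup M := fun z => A ⊔ A.map (MulAut.conj z).toMonoidHom with hLdef
  set S := {z : M | f z ∈ Q ⊓ centralizer (B : Set (M ⧸ P)) ∧ f z ∉ centralizer (Ab : Set (M ⧸ P))}
  have hS : S.Nonempty := by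
    obtain ⟨q, hq, hqn⟩ := SetLike.not_le_iff_exists.mp hnot
    obtain ⟨z, rfl⟩ := QuotientGroup.mk'_surjective P q
    exact ⟨z, hq, hqn⟩
  obtain ⟨x₀, hx₀, hmin⟩ := Set.exists_min_image S (fun z => Nat.card (L z)) (Set.toFinite _) hS
  have hLQ : ∀ z ∈ S, (L z).map f ≤ Q ⊔ Ab := by
    intro z hz
    rw [hLdef, Subgroup.map_sup]
    refine sup_le le_sup_right ?_
    rintro _ ⟨_, ⟨a, ha, rfl⟩, rfl⟩
    simp only [MulEquiv.coe_toMonoidHom, MulAut.conj_apply, map_mul, map_inv]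
    exact mul_mem (mul_mem (mem_sup_left hz.1.1) (mem_sup_right (mem_map_of_mem f ha)))
      (inv_mem (mem_sup_left hz.1.1))
  -- replace `x₀` by an element of `O^p(L)`
  obtain ⟨x, hxS, hxO⟩ : ∃ x ∈ S, x ∈ (pResidual p ↥(L x)).map (L x).subtype := by
    have hAL : A ≤ L x₀ := le_sup_left
    have hcard : Nat.card ↥(Ab.map (MulAut.conj (f x₀)).toMonoidHom) = Nat.card Ab :=
      card_map_of_injective (f := (MulAut.conj (f x₀)).toMonoidHom) (MulAut.conj (f x₀)).injective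
    have hA'L : Ab.map (MulAut.conj (f x₀)).toMonoidHom ≤ (L x₀).map f := by
      rintro _ ⟨_, ⟨a, ha, rfl⟩, rfl⟩
      refine ⟨x₀ * a * x₀⁻¹, mem_sup_right ⟨a, ha, rfl⟩, ?_⟩
      simp
    obtain ⟨q, hqL, hqQ, hq⟩ := exists_conj_eq hQcop hAbp (hAbp.map _) (Subgroup.map_mono hAL) hA'L
      (hLQ x₀ hx₀) hcard
    set d := (f x₀)⁻¹ * q
    have hdQ : d ∈ Q := mul_mem (inv_mem hx₀.1.1) hqQ
    have hdn : d ∈ normalizer (Ab : Set (M ⧸ P)) := by
      rw [mem_normalizer_iff_map_conj_eq,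
        show ((MulAut.conj d) : (M ⧸ P) →* (M ⧸ P)) =
          (MulAut.conj (f x₀)⁻¹).toMonoidHom.comp (MulAut.conj q).toMonoidHom by
          simp only [d, map_mul]; rfl, ← Subgroup.map_map, hq, Subgroup.map_map]
      convert Ab.map_id
      ext w
      simp [mul_assoc]
    have hdc := hcomm_of d hdQ hdn
    have hqd : q = f x₀ * d := (mul_inv_cancel_left (f x₀) q).symm
    obtain ⟨w, hw, hwq⟩ := hqL
    obtain ⟨y, hyO, hyL, hyq⟩ := exists_pResidual_lift (p := p) f hw (by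
      have h := _root_.orderOf_dvd_natCard (⟨q, hqQ⟩ : Q); rw [← orderOf_coe] at h; rw [hwq]; exact hQcop.coprime_dvd_left h)
    rw [hwq] at hyq
    have hyS : y ∈ S := by
      refine ⟨⟨hyq ▸ hqQ, hyq ▸ hqd ▸ mul_mem hx₀.1.2 (centralizer_le hBA hdc)⟩, fun h => hx₀.2 ?_⟩
      rw [hyq] at h
      rw [show f x₀ = q * d⁻¹ by rw [hqd, mul_inv_cancel_right]]
      exact mul_mem h (inv_mem hdc)
    have hle : L y ≤ L x₀ := sup_le hAL (by
      rintro _ ⟨a, ha, rfl⟩
      exact mul_mem (mul_mem hyL (hAL ha)) (inv_mem hyL))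
    have heq : L y = L x₀ := eq_of_le_of_card_ge hle (hmin y hyS)
    exact ⟨y, hyS, by rw [heq]; exact hyO⟩
  set O := (pResidual p ↥(L x)).map (L x).subtype with hO
  have hxL : x ∈ L x := map_subtype_le _ hxO
  have hAL : A ≤ L x := le_sup_left
  have hOQ : O ≤ Q.comap f := by
    rw [hO, map_le_iff_le_comap, pResidual, closure_le]
    intro w hw
    exact mem_of_orderOf_coprime hAbp (hLQ x hxS ⟨w, w.2, rfl⟩)
      (Nat.Coprime.coprime_dvd_left ((orderOf_map_dvd f (w : M)).trans (orderOf_coe w).dvd) hw)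
  have hOnL : L x ≤ normalizer (O : Set M) := by
    haveI : (pResidual p ↥(L x)).Normal := pResidual_normal p
    exact BenderPair.le_normalizer_map_subtype_of_normal _
  have hLeq : L x = O ⊔ A := le_antisymm (sup_le le_sup_right (by
      rintro _ ⟨a, ha, rfl⟩
      exact mul_mem (mul_mem (mem_sup_left hxO) (mem_sup_right ha)) (inv_mem (mem_sup_left hxO))))
    (sup_le (map_subtype_le _) hAL)
  set N := ⁅O, A⁆ with hNdef
  have hNn : L x ≤ normalizer (N : Set M) := by
    rw [hLeq]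
    exact sup_le (self_le_normalizer_commutator O A)
      (Coprime.le_normalizer_commutator (hAL.trans hOnL) Subgroup.le_normalizer)
  have hOA : ⁅O, A⁆ = O := by
    refine le_antisymm (Coprime.commutator_le_of_le_normalizer (hAL.trans hOnL)) ?_
    haveI : (N.subgroupOf (L x)).Normal := normal_subgroupOf_of_le_normalizer hNn
    have hgen : (⊤ : Subgroup (L x)) ≤ N.subgroupOf (L x) ⊔ A.subgroupOf (L x) := by
      intro w _
      have hle : L x ≤ ((N.subgroupOf (L x) ⊔ A.subgroupOf (L x))).map (L x).subtype := by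
        refine sup_le (fun a ha => ⟨⟨a, hAL ha⟩, mem_sup_right ha, rfl⟩) ?_
        rintro _ ⟨a, ha, rfl⟩
        refine ⟨⟨⁅x, a⁆, mul_mem (mul_mem (mul_mem hxL (hAL ha)) (inv_mem hxL)) (inv_mem (hAL ha))⟩ *
          ⟨a, hAL ha⟩, mul_mem (mem_sup_left (commutator_mem_commutator hxO ha)) (mem_sup_right ha), ?_⟩
        simp [commutatorElement_def]
      obtain ⟨v, hv, hvw⟩ := hle w.2
      exact (Subtype.ext hvw : v = w) ▸ hv
    rw [hO, map_le_iff_le_comap, pResidual, closure_le]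
    intro w hw
    exact mem_subgroupOf.mp (mem_of_orderOf_coprime (hA.of_equiv (subgroupOfEquivOfLe hAL).symm)
      (hgen (mem_top w)) hw)
  -- the part of `A` in `O_p(L)`
  set A₀ := A ⊓ B.comap f with hA₀
  have hfLB : (L x).map f ≤ centralizer (B : Set (M ⧸ P)) := by
    have hAB : Ab ≤ centralizer (B : Set (M ⧸ P)) := fun a ha => mem_centralizer_iff.mpr fun b hb =>
      setLike_mul_comm (hBA hb) ha
    rw [hLdef, Subgroup.map_sup]
    refine sup_le hAB ?_
    rintro _ ⟨_, ⟨a, ha, rfl⟩, rfl⟩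
    simp only [MulEquiv.coe_toMonoidHom, MulAut.conj_apply, map_mul, map_inv]
    exact mul_mem (mul_mem hxS.1.2 (hAB (mem_map_of_mem f ha))) (inv_mem hxS.1.2)
  have hA₀P : ∀ a ∈ A₀, ∀ l ∈ L x, ⁅a, l⁆ ∈ P := by
    intro a ha l hl
    rw [← hfP, map_commutatorElement, commutatorElement_eq_one_iff_mul_comm]
    exact mem_centralizer_iff.mp (hfLB ⟨l, hl, rfl⟩) _ ha.2
  set O' := (pCore p ↥(L x)).map (L x).subtype with hO'
  have hA₀O : A₀ ≤ O' := by
    set N0 := A₀ ⊔ (P ⊓ L x)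
    have h1 : N0 ≤ L x := sup_le (inf_le_left.trans hAL) inf_le_right
    have hp0 : IsPGroup p N0 := by
      refine IsPGroup.to_sup_of_normal_right' (hA.to_le inf_le_left)
        (PSolvable.pCore_isPGroup.to_le inf_le_left) ?_
      intro a ha
      have haP : a ∈ normalizer (P : Set M) := by rw [normalizer_eq_top]; exact mem_top a
      rw [mem_normalizer_iff]
      intro w
      simp only [mem_inf, ← mem_normalizer_iff.mp haP w,
        ← mem_normalizer_iff.mp (Subgroup.le_normalizer (hAL (inf_le_left (b := B.comap f) ha))) w]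
    refine le_trans le_sup_left (BenderPair.le_pCoreOf (M := L x) h1 ?_ hp0)
    intro l hl
    have hconj : ∀ l ∈ L x, ∀ w ∈ N0, l * w * l⁻¹ ∈ N0 := by
      intro l hl w hw
      have hle : N0 ≤ N0.comap (MulAut.conj l).toMonoidHom := sup_le (fun a ha => by
          show l * a * l⁻¹ ∈ N0
          rw [show l * a * l⁻¹ = ⁅a, l⁆⁻¹ * a by simp only [commutatorElement_def]; group]
          have hcm : ⁅a, l⁆ ∈ L x := mul_mem (mul_mem (mul_mem (h1 (mem_sup_left ha)) hl)
            (inv_mem (h1 (mem_sup_left ha)))) (inv_mem hl)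
          exact mul_mem (inv_mem (mem_sup_right ⟨hA₀P a ha l hl, hcm⟩)) (mem_sup_left ha))
        (fun a ha => mem_sup_right (mem_inf.mpr ⟨(inferInstance : P.Normal).conj_mem a ha.1 l,
          mul_mem (mul_mem hl ha.2) (inv_mem hl)⟩))
      exact hle hw
    rw [mem_normalizer_iff]
    refine fun w => ⟨hconj l hl w, fun hw => ?_⟩
    simpa [mul_assoc] using hconj l⁻¹ (inv_mem hl) _ hw
  have hAnot : ¬ A ≤ O' := by
    intro h
    have hL' : L x ≤ O' := sup_le h (by
      rintro _ ⟨a, ha, rfl⟩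
      exact (mem_normalizer_iff.mp (BenderPair.le_normalizer_pCoreOf p (L x) hxL) a).mp (h ha))
    have hLp : IsPGroup p (L x) := (PSolvable.pCore_isPGroup.map _).to_le hL'
    have hres : pResidual p ↥(L x) = ⊥ := by
      rw [pResidual, closure_eq_bot_iff]
      intro w hw
      obtain ⟨j, hj⟩ := hLp w
      exact orderOf_eq_one_iff.mp (Nat.eq_one_of_dvd_coprimes (Nat.Coprime.pow_right j hw) dvd_rfl
        (orderOf_dvd_of_pow_eq_one hj))
    rw [hO, hres, Subgroup.map_bot, mem_bot] at hxO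
    exact hxS.2 (by rw [hxO, map_one]; exact one_mem _)
  have hBn : Ab ≤ normalizer (B : Set (M ⧸ P)) := fun a ha =>
    centralizer_le_normalizer _ (mem_centralizer_iff.mpr fun b hb => setLike_mul_comm (hBA hb) ha)
  have hI : A ⊓ O' = A₀ := by
    refine le_antisymm (fun a ha => ⟨ha.1, ?_⟩) (le_inf inf_le_left hA₀O)
    by_contra hna
    refine hAnot fun c hc => ?_
    obtain ⟨a₁, ha₁, rfl⟩ := hg
    obtain ⟨i, hi⟩ : ∃ i : ℤ, (f a₁ ^ i)⁻¹ * f a ∈ B := by
      have h := mem_map_of_mem f ha.1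
      rw [← hAb, ← hBg, ← SetLike.mem_coe, coe_mul_of_right_le_normalizer_left B (zpowers (f a₁))
        ((zpowers_le.mpr (mem_map_of_mem f ha₁)).trans hBn)] at h
      obtain ⟨b, hb, _, ⟨i, rfl⟩, hbi⟩ := h
      refine ⟨i, ?_⟩
      rw [← show b * f a₁ ^ i = f a from hbi, setLike_mul_comm (hBA hb) (zpow_mem (mem_map_of_mem f ha₁) i),
        inv_mul_cancel_left]
      exact hb
    have hmem : a₁ ^ i ∈ O' := by
      have h0 : (a₁ ^ i)⁻¹ * a ∈ A₀ := mem_inf.mpr ⟨mul_mem (inv_mem (zpow_mem ha₁ i)) ha.1,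
        by show f ((a₁ ^ i)⁻¹ * a) ∈ B; rwa [map_mul, map_inv, map_zpow]⟩
      have := mul_mem (mem_inf.mp ha).2 (inv_mem (hA₀O h0))
      simpa using this
    have hco : ¬ (p : ℤ) ∣ i := by
      rintro ⟨t, rfl⟩
      refine hna ?_
      rw [zpow_mul, zpow_natCast, hApow a₁ ha₁, one_zpow, inv_one, one_mul] at hi
      exact hi
    have ha₁O : a₁ ∈ O' := by
      obtain ⟨k, hk⟩ := hA ⟨a₁, ha₁⟩
      have hk' : a₁ ^ p ^ k = 1 := congrArg Subtype.val hk
      obtain ⟨u, v, huv⟩ : IsCoprime ((p : ℤ) ^ k) i :=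
        ((Nat.prime_iff_prime_int.mp Fact.out).coprime_iff_not_dvd.mpr hco).pow_left
      have : a₁ = (a₁ ^ i) ^ v := by
        rw [← zpow_mul]
        calc a₁ = a₁ ^ (u * (p : ℤ) ^ k + v * i) := by rw [huv, zpow_one]
          _ = a₁ ^ (i * v) := by
            rw [zpow_add, show u * (p : ℤ) ^ k = ((p ^ k : ℕ) : ℤ) * u by push_cast; ring,
              zpow_mul, zpow_natCast, hk', one_zpow, one_mul, mul_comm]
      rw [this]
      exact zpow_mem hmem v
    have hc' := mem_map_of_mem f hc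
    rw [← hAb, ← hBg, ← SetLike.mem_coe, coe_mul_of_right_le_normalizer_left B (zpowers (f a₁))
        ((zpowers_le.mpr (mem_map_of_mem f ha₁)).trans hBn)] at hc'
    obtain ⟨b, hb, _, ⟨j, rfl⟩, hbj⟩ := hc'
    have h0 : c * (a₁ ^ j)⁻¹ ∈ A₀ := mem_inf.mpr ⟨mul_mem hc (inv_mem (zpow_mem ha₁ j)), by
      show f (c * (a₁ ^ j)⁻¹) ∈ B
      rw [map_mul, map_inv, map_zpow, ← show b * f a₁ ^ j = f c from hbj, mul_inv_cancel_right]
      exact hb⟩
    have := mul_mem (hA₀O h0) (zpow_mem ha₁O j)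
    simpa using this
  refine ⟨x, hxS.1.1, hxO, hOQ, hOA, ?_, ?_⟩
  · show (A ⊓ O').relIndex A = p
    rw [hI, hA₀, inf_relIndex_left, relIndex_comap, ← hAb]
    have hgp : g ^ p = 1 := by obtain ⟨a₁, ha₁, rfl⟩ := hg; exact hApow a₁ ha₁
    have hog : orderOf g = p := orderOf_eq_prime hgp fun h => hgB (h ▸ one_mem B)
    have hdj : Disjoint (B.subgroupOf Ab) ((zpowers g).subgroupOf Ab) := by
      rw [disjoint_def]
      intro w hw hw'
      by_contra hw1
      refine hgB ?_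
      haveI := Fact.mk (Fact.out : p.Prime)
      have h1 : (⟨g, mem_zpowers g⟩ : zpowers g) ∈ zpowers (⟨w, hw'⟩ : zpowers g) :=
        mem_zpowers_of_prime_card (p := p) (by rw [Nat.card_zpowers, hog])
          (fun h => hw1 (Subtype.ext (congrArg Subtype.val h :)))
      obtain ⟨i, hi⟩ := mem_zpowers_iff.mp h1
      have hi' : (w : M ⧸ P) ^ i = g := by simpa using congrArg Subtype.val hi
      rw [← hi']
      exact zpow_mem hw i
    have hcompl : IsComplement' (B.subgroupOf Ab) ((zpowers g).subgroupOf Ab) := by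
      refine isComplement'_of_disjoint_and_mul_eq_univ hdj ?_
      haveI : (B.subgroupOf Ab).Normal :=
        ⟨fun n hn a => by rw [setLike_mul_comm (s := (⊤ : Subgroup Ab)) (mem_top a) (mem_top n), mul_inv_cancel_right]; exact hn⟩
      rw [← normal_mul, ← subgroupOf_sup hBA (zpowers_le.mpr hg), hBg, subgroupOf_self, coe_top]
    rw [relIndex, hcompl.symm.index_eq_card, Nat.card_congr (subgroupOfEquivOfLe (zpowers_le.mpr hg)).toEquiv,
      Nat.card_zpowers, hog]
  · show ⁅A ⊓ O', L x⁆ ≤ P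
    rw [hI]
    exact commutator_le.mpr hA₀P

end Cfsg.Agent.S3754
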