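import Cfsg.Statements.S3755
import Mathlib
import Cfsg.Agent.Lib.Offenders.Basic
import Cfsg.Agent.Lib.Involves.Basic
import Cfsg.Agent.Lib.Involves.Dihedral
import Cfsg.Agent.Lib.HallHigmanOdd.Main
-- import your own Cfsg.Agent.* helpers here

set_option autoImplicit false
set_option linter.style.haveILetI false
open Cfsg

namespace Cfsg.Agent.S3755

open Subgroup
open scoped commutatorElement
open Cfsg.Agent.Lib

variable {G : Type*} [Group G] [Finite G]

/-- If every hyperplane step in the fixed points has index at least 4 then `|A|² |C_V(A)| ≤ |V|`. -/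
theorem card_sq_mul_le {V Q : Subgroup G} (hQ : (Nat.card Q).Coprime 2) :
    ∀ (n : ℕ) (A : Subgroup G), Nat.card A = n → IsElementaryAbelian 2 A →
      A ≤ normalizer (Q : Set G) → A ⊓ centralizer (Q : Set G) = ⊥ →
      (∀ A' B : Subgroup G, A' ≤ A → B ≤ A' → Nat.card A' = 2 * Nat.card B →
        ¬ Q ⊓ centralizer (B : Set G) ≤ centralizer (A' : Set G) →
        4 * Nat.card ↥(V ⊓ centralizer (A' : Set G)) ≤ Nat.card ↥(V ⊓ centralizer (B : Set G))) →
      Nat.card A ^ 2 * Nat.card ↥(V ⊓ centralizer (A : Set G)) ≤ Nat.card V := by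
  haveI := Fact.mk Nat.prime_two
  intro n
  induction n using Nat.strong_induction_on with
  | _ n ih =>
  intro A hn hA hAQ hf hstep
  rcases eq_or_ne A ⊥ with rfl | hA1
  · rw [card_bot, one_pow, one_mul]; exact card_le_of_le inf_le_left
  have hne : ¬ Q ≤ centralizer (A : Set G) := fun h =>
    hA1 (le_bot_iff.1 (hf ▸ le_inf le_rfl (le_centralizer_iff.1 h)))
  obtain ⟨B, hBA, hcard, hBne, -⟩ := Offenders.exists_hyperplane hA hAQ hQ hne (C := ⊥)
    (fun h => hne (h.trans (sup_le inf_le_right bot_le)))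
  have hlt : Nat.card B < n := by
    rw [← hn, hcard]
    exact lt_mul_of_one_lt_left Nat.card_pos Nat.one_lt_two
  have hIH := ih _ hlt B rfl (ElemAbelian.mono hA hBA) (hBA.trans hAQ)
    (le_bot_iff.1 ((inf_le_inf_right _ hBA).trans hf.le))
    (fun A' B' h1 => hstep A' B' (h1.trans hBA))
  have h4 := hstep A B le_rfl hBA hcard hBne
  calc Nat.card A ^ 2 * Nat.card ↥(V ⊓ centralizer (A : Set G))
      = Nat.card B ^ 2 * (4 * Nat.card ↥(V ⊓ centralizer (A : Set G))) := by rw [hcard]; ring
    _ ≤ Nat.card B ^ 2 * Nat.card ↥(V ⊓ centralizer (B : Set G)) := Nat.mul_le_mul_left _ h4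
    _ ≤ Nat.card V := hIH

/-- An element of odd order inverted by a transvection has order divisible by 3. -/
theorem three_dvd_orderOf {W : Subgroup G} (hW : IsElementaryAbelian 2 W) {a u : G}
    (ha : a ∈ normalizer (W : Set G)) (hu : u ∈ normalizer (W : Set G)) (hodd : (orderOf u).Coprime 2)
    (ha2 : a * a = 1) (hinv : a * u * a⁻¹ = u⁻¹)
    (hidx : (W ⊓ centralizer ({a} : Set G)).relIndex W ≤ 2)
    (hne : ¬ W ≤ centralizer ({u} : Set G)) : 3 ∣ orderOf u := by
  classical
  haveI := Fact.mk Nat.prime_two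
  set C := W ⊓ centralizer ({a} : Set G) ⊓ centralizer ({u * a * u⁻¹} : Set G) with hC
  have hidx2 : (W ⊓ centralizer ({u * a * u⁻¹} : Set G)).relIndex W ≤ 2 := by
    set c := (MulAut.conj u).toMonoidHom
    have hc : Function.Injective c := (MulAut.conj u).injective
    have h1 : (W ⊓ centralizer ({a} : Set G)).map c = W ⊓ centralizer ({u * a * u⁻¹} : Set G) := by
      rw [Subgroup.map_inf _ _ c hc, show W.map c = W from mem_normalizer_iff_map_conj_eq.mp hu]
      congr 1
      ext x
      simp only [mem_map, mem_centralizer_singleton_iff, c, MulEquiv.coe_toMonoidHom,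
        MulAut.conj_apply]
      constructor
      · rintro ⟨y, hy, rfl⟩
        calc u * y * u⁻¹ * (u * a * u⁻¹) = u * (y * a) * u⁻¹ := by group
          _ = u * (a * y) * u⁻¹ := by rw [hy]
          _ = u * a * u⁻¹ * (u * y * u⁻¹) := by group
      · intro hx
        refine ⟨u⁻¹ * x * u, ?_, by group⟩
        calc u⁻¹ * x * u * a = u⁻¹ * (x * (u * a * u⁻¹)) * u := by group
          _ = u⁻¹ * (u * a * u⁻¹ * x) * u := by rw [hx]
          _ = a * (u⁻¹ * x * u) := by group
    calc (W ⊓ centralizer ({u * a * u⁻¹} : Set G)).relIndex W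
        = ((W ⊓ centralizer ({a} : Set G)).map c).relIndex (W.map c) := by
          rw [h1, show W.map c = W from mem_normalizer_iff_map_conj_eq.mp hu]
      _ ≤ 2 := by rw [relIndex_map_map_of_injective _ _ hc]; exact hidx
  have hCW : C ≤ W := inf_le_left.trans inf_le_left
  have hCeq : C = (W ⊓ centralizer ({a} : Set G)) ⊓ (W ⊓ centralizer ({u * a * u⁻¹} : Set G)) := by
    refine le_antisymm (le_inf inf_le_left (le_inf hCW inf_le_right)) ?_
    exact le_inf inf_le_left (inf_le_right.trans inf_le_right)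
  have hidx4 : C.relIndex W ≤ 4 := by
    rw [hCeq]
    exact relIndex_inf_le.trans (Nat.mul_le_mul hidx hidx2)
  -- `u` centralises `C`
  have hfixC : ∀ x ∈ C, u * x = x * u := by
    intro x hx
    have hle : u * u ∈ centralizer ({x} : Set G) := by
      have h1 : a⁻¹ = a := inv_eq_of_mul_eq_one_right ha2
      have h2 : a * u⁻¹ * a⁻¹ = u := by
        have := congrArg (·⁻¹) hinv
        simpa [mul_assoc] using this
      rw [show u * u = (u * a * u⁻¹) * a by
        rw [show u * a * u⁻¹ * a = u * (a * u⁻¹ * a⁻¹) by rw [h1]; group, h2]]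
      exact mul_mem (mem_centralizer_singleton_iff.mpr (mem_centralizer_singleton_iff.mp hx.2).symm)
        (mem_centralizer_singleton_iff.mpr (mem_centralizer_singleton_iff.mp hx.1.2).symm)
    obtain ⟨m, hm⟩ := exists_pow_eq_self_of_coprime (x := u) (n := 2) hodd.symm
    rw [← hm, sq]
    exact mem_centralizer_singleton_iff.mp (pow_mem hle m)
  by_contra h3
  refine hne ?_
  haveI := hW.1
  set H := zpowers u
  set φ := Coprime.conjAut (A := H) (K := W) (zpowers_le.mpr hu) with hφ
  set N := C.subgroupOf W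
  haveI : N.Normal := ⟨fun x hx g => by
    rw [show g * x = x * g from Subtype.ext (setLike_mul_comm g.2 x.2), mul_inv_cancel_right]
    exact hx⟩
  have hfixN : ∀ g : H, ∀ x ∈ N, φ g x = x := by
    intro g x hx
    refine Subtype.ext ?_
    have hc : (g : G) ∈ centralizer ({(x : G)} : Set G) :=
      (zpowers_le.mpr (mem_centralizer_singleton_iff.mpr (hfixC x hx))) g.2
    show (g : G) * x * (g : G)⁻¹ = x
    rw [mem_centralizer_singleton_iff.mp hc, mul_inv_cancel_right]
  have hN : ∀ g : H, ∀ x ∈ N, φ g x ∈ N := fun g x hx => by rw [hfixN g x hx]; exact hx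
  set ψ := Wielandt.quotientAct φ N hN
  set g : H := ⟨u, mem_zpowers u⟩
  have hψ : ψ g = 1 := by
    have h1 : orderOf (ψ g) ∣ orderOf u := (orderOf_map_dvd ψ g).trans (orderOf_coe g).symm.dvd
    have hinj : Function.Injective (MulAut.toPerm (W ⧸ N)) := fun e e' h =>
      MulEquiv.ext fun x => DFunLike.congr_fun h x
    have h2 : orderOf (ψ g) ∣ 24 := by
      rw [← orderOf_injective _ hinj]
      refine (_root_.orderOf_dvd_natCard _).trans ?_
      rw [Nat.card_perm, show (24 : ℕ) = Nat.factorial 4 from rfl]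
      exact Nat.factorial_dvd_factorial hidx4
    refine orderOf_eq_one_iff.mp (Nat.eq_one_of_dvd_coprimes ?_ h1 h2)
    rw [show (24 : ℕ) = 2 ^ 3 * 3 from rfl]
    exact Nat.Coprime.mul_right (hodd.pow_right 3) (Nat.prime_three.coprime_iff_not_dvd.mpr h3).symm
  have hcop : (Nat.card H).Coprime (Nat.card W) := by
    obtain ⟨k, hk⟩ := IsPGroup.iff_card.mp (ElemAbelian.isPGroup hW)
    rw [Nat.card_zpowers, hk]
    exact hodd.pow_right k
  have hone : φ g = 1 := HallHigmanOdd.map_eq_one_of_stabilizes φ hcop N (fun x hx => hfixN g x hx)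
    fun x => QuotientGroup.eq.mp (show (x : W ⧸ N) = (φ g x : W ⧸ N) from
      (DFunLike.congr_fun hψ (x : W ⧸ N)).symm)
  intro x hx
  rw [mem_centralizer_singleton_iff]
  exact (mul_inv_eq_iff_eq_mul.mp
    (congrArg Subtype.val (DFunLike.congr_fun hone (⟨x, hx⟩ : W)))).symm

/-- `D₆ ≅ S₃`. -/
theorem dihedral_three_equiv : Nonempty (DihedralGroup 3 ≃* Equiv.Perm (Fin 3)) := by
  let f : DihedralGroup 3 → Equiv.Perm (Fin 3) := fun g => match g with
    | DihedralGroup.r i => (finRotate 3) ^ (i : Fin 3).val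
    | DihedralGroup.sr i => Equiv.swap 1 2 * (finRotate 3) ^ (i : Fin 3).val
  have hmul : ∀ x y, f (x * y) = f x * f y := by
    rintro (i | i) (j | j) <;> fin_cases i <;> fin_cases j <;> decide
  have hinj : Function.Injective f := by
    rintro (i | i) (j | j) <;> fin_cases i <;> fin_cases j <;> decide
  exact ⟨MulEquiv.ofBijective (MonoidHom.mk' f hmul)
    ((Nat.bijective_iff_injective_and_card _).mpr
      ⟨hinj, by rw [DihedralGroup.nat_card, Nat.card_perm, Nat.card_fin]; rfl⟩)⟩


/-- Let M and V be subgroups of a finite group with V an elementary abelian 2-group, M normalizing V and acting faithfully on it (M ∩ C(V) = 1), and C_M(O_{2'}(M)) ≤ O_{2'}(M). If some elementary abelian 2-subgroup A of M satisfies |V : C_V(A)| < |A|², then M has a section isomorphic to the symmetric group of degree 3. -/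
theorem result {X : Type*} [Group X] [Finite X] (M V : Subgroup X) (hV : Cfsg.IsElementaryAbelian 2 V) (hMV : M ≤ Subgroup.normalizer (V : Set X)) (hfaith : M ⊓ Subgroup.centralizer (V : Set X) = ⊥) (hcon : Subgroup.centralizer (Cfsg.pPrimeCore 2 ↥M : Set ↥M) ≤ Cfsg.pPrimeCore 2 ↥M) (A : Subgroup X) (hAM : A ≤ M) (hA : Cfsg.IsElementaryAbelian 2 A) (hsmall : (V ⊓ Subgroup.centralizer (A : Set X)).relIndex V < Nat.card A ^ 2) : Cfsg.Involves (Equiv.Perm (Fin 3)) ↥M := by
  classical
  haveI := Fact.mk Nat.prime_two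
  haveI := hA.1
  have hS : Offenders.Setup 2 V M := ⟨hV, hMV, hfaith, hcon⟩
  set Q := Offenders.core 2 M with hQdef
  have hQ : (Nat.card Q).Coprime 2 := Offenders.core_coprime
  have hAQ : A ≤ normalizer (Q : Set X) := hAM.trans Offenders.le_normalizer_core
  have hf : A ⊓ centralizer (Q : Set X) = ⊥ := hS.faithful_core hAM (ElemAbelian.isPGroup hA)
  obtain ⟨A', B, hA'A, hBA', hcard, hne, hlt⟩ : ∃ A' B : Subgroup X, A' ≤ A ∧ B ≤ A' ∧
      Nat.card A' = 2 * Nat.card B ∧ ¬ Q ⊓ centralizer (B : Set X) ≤ centralizer (A' : Set X) ∧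
      Nat.card ↥(V ⊓ centralizer (B : Set X)) < 4 * Nat.card ↥(V ⊓ centralizer (A' : Set X)) := by
    by_contra hcon'
    push Not at hcon'
    have h1 := card_sq_mul_le (V := V) hQ _ A rfl hA hAQ hf hcon'
    rw [← PSolvable.card_mul_relIndex (inf_le_left : V ⊓ centralizer (A : Set X) ≤ V),
      mul_comm (Nat.card A ^ 2)] at h1
    exact absurd (Nat.le_of_mul_le_mul_left h1 Nat.card_pos) (Nat.not_le.mpr hsmall)
  obtain ⟨q, hq, hqn⟩ := SetLike.not_le_iff_exists.mp hne
  rw [mem_centralizer_iff] at hqn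
  push Not at hqn
  obtain ⟨a, ha, haq⟩ := hqn
  have haA : a ∈ A := hA'A ha
  have ha2 : a * a = 1 := by rw [← sq]; exact hA.2 a haA
  have hainv : a⁻¹ = a := inv_eq_of_mul_eq_one_right ha2
  have haB : a ∈ centralizer (B : Set X) := mem_centralizer_iff.mpr fun b hb =>
    setLike_mul_comm (hA'A (hBA' hb)) haA
  set u := ⁅q, a⁆ with hu
  have hinv : a * u * a⁻¹ = u⁻¹ := by
    rw [hu, commutatorElement_inv]
    simp only [commutatorElement_def, hainv, mul_assoc, ha2, mul_one]
  have hu1 : u ≠ 1 := fun h => haq (commutatorElement_eq_one_iff_mul_comm.mp h).symm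
  have huQ : u ∈ Q := by
    rw [hu, commutatorElement_def, show q * a * q⁻¹ * a⁻¹ = q * (a * q⁻¹ * a⁻¹) by group]
    exact mul_mem hq.1 ((mem_normalizer_iff.mp (hAQ haA) q⁻¹).mp (inv_mem hq.1))
  have huB : u ∈ centralizer (B : Set X) := by
    rw [hu, commutatorElement_def]
    exact mul_mem (mul_mem (mul_mem hq.2 haB) (inv_mem hq.2)) (inv_mem haB)
  have huM : u ∈ M := Offenders.core_le huQ
  have hodd : (orderOf u).Coprime 2 := by
    have h := _root_.orderOf_dvd_natCard (⟨u, huQ⟩ : Q)
    rw [← orderOf_coe] at h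
    exact hQ.coprime_dvd_left h
  set W := V ⊓ centralizer (B : Set X) with hW
  have hWn : ∀ g ∈ M, g ∈ centralizer (B : Set X) → g ∈ normalizer (W : Set X) := fun g hg hgB =>
    Coprime.le_normalizer_inf_centralizer (zpowers_le.mpr (hMV hg))
      ((zpowers_le.mpr hgB).trans (centralizer_le_normalizer _)) (mem_zpowers g)
  have h3 : 3 ∣ orderOf u := by
    refine three_dvd_orderOf (ElemAbelian.mono hV inf_le_left) (hWn a (hAM haA) haB) (hWn u huM huB)
      hodd ha2 hinv ?_ ?_
    · have hle : V ⊓ centralizer (A' : Set X) ≤ W ⊓ centralizer ({a} : Set X) :=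
        le_inf (inf_le_inf_left _ (centralizer_le (SetLike.coe_subset_coe.2 hBA')))
          (inf_le_right.trans (centralizer_le (Set.singleton_subset_iff.mpr ha)))
      have h1 := PSolvable.card_mul_relIndex (inf_le_left : W ⊓ centralizer ({a} : Set X) ≤ W)
      have h2 : (W ⊓ centralizer ({a} : Set X)).relIndex W < 4 := by
        refine Nat.lt_of_mul_lt_mul_left (a := Nat.card ↥(W ⊓ centralizer ({a} : Set X))) ?_
        rw [h1, mul_comm]
        exact lt_of_lt_of_le hlt (Nat.mul_le_mul_left 4 (card_le_of_le hle))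
      obtain ⟨k, hk⟩ := IsPGroup.iff_card.mp
        (ElemAbelian.isPGroup (ElemAbelian.mono hV (inf_le_left : W ≤ V)))
      obtain ⟨i, -, hi⟩ := (Nat.dvd_prime_pow Nat.prime_two).mp
        (hk ▸ relIndex_dvd_card (W ⊓ centralizer ({a} : Set X)) W)
      rw [hi] at h2 ⊢
      have hi1 : i < 2 := (Nat.pow_lt_pow_iff_right (by norm_num)).mp (h2.trans_eq (by norm_num : 4 = 2 ^ 2))
      exact Nat.pow_le_pow_right two_pos (Nat.le_of_lt_succ hi1) |>.trans_eq (pow_one 2)
    · intro h
      refine hu1 ?_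
      have hYV : zpowers u ≤ centralizer (V : Set X) := by
        refine Coprime.thompson_PxQ (ElemAbelian.isPGroup (ElemAbelian.mono hA (hBA'.trans hA'A)))
          (by rw [Nat.card_zpowers]; exact hodd) (ElemAbelian.isPGroup hV)
          (le_centralizer_iff.1 (zpowers_le.mpr huB)) ((hBA'.trans hA'A).trans (hAM.trans hMV))
          (zpowers_le.mpr (hMV huM)) ?_
        exact h.trans (by rw [zpowers_eq_closure, centralizer_closure])
      have hmem : u ∈ M ⊓ centralizer (V : Set X) := ⟨huM, hYV (mem_zpowers u)⟩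
      rwa [hfaith, mem_bot] at hmem
  haveI : Fact (Nat.Prime 3) := ⟨Nat.prime_three⟩
  set y := u ^ (orderOf u / 3)
  have hy : orderOf y = 3 := orderOf_pow_orderOf_div (orderOf_pos u).ne' h3
  have hyinv : a * y * a⁻¹ = y⁻¹ := by rw [← conj_pow, hinv, inv_pow]
  have ha1 : a ≠ 1 := fun h => haq (by rw [h, one_mul, mul_one])
  have hD := Involves.involves_dihedral (G := M) (p := 3) (by norm_num) (x := ⟨a, hAM haA⟩)
    (y := ⟨y, pow_mem huM _⟩)
    ⟨1, orderOf_eq_prime (Subtype.ext (by simpa [sq] using ha2))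
      (fun h => ha1 (congrArg Subtype.val h))⟩
    ⟨1, by rw [orderOf_mk, hy, pow_one]⟩
    (fun h => by
      have h' : y = 1 := congrArg Subtype.val h
      rw [h', orderOf_one] at hy
      norm_num at hy)
    (Subtype.ext hyinv)
  obtain ⟨e⟩ := dihedral_three_equiv
  exact Involves.of_mulEquiv e hD

end Cfsg.Agent.S3755
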