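import Cfsg.Statements.S3756
import Mathlib
import Cfsg.Agent.Lib.SFourFree.Factor
import Cfsg.Agent.Lib.PGroup.SylowCentre
import Cfsg.Agent.Lib.PGroup.Omega

set_option autoImplicit false
open Cfsg

namespace Cfsg.Agent.S3756

open Cfsg.Agent.Lib

theorem lt_inf_normalizer {G : Type*} [Group G] [Finite G] {T U : Subgroup G} (hU : IsPGroup 2 U)
    (h : T < U) : T < U ⊓ Subgroup.normalizer (T : Set G) := by
  have : Fact (Nat.Prime 2) := ⟨Nat.prime_two⟩
  have := hU.isNilpotent
  have hlt : T.subgroupOf U < ⊤ := lt_top_iff_ne_top.2 fun e =>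
    h.not_ge (Subgroup.subgroupOf_eq_top.1 e)
  obtain ⟨x, hx, hxT⟩ := SetLike.exists_of_lt
    (Group.normalizerCondition_of_isNilpotent _ hlt)
  refine lt_of_le_of_ne (le_inf h.le Subgroup.le_normalizer) fun e => hxT ?_
  rw [Subgroup.mem_subgroupOf]
  refine e.ge ⟨x.2, Subgroup.mem_normalizer_iff.2 fun t => ⟨fun ht => ?_, fun ht => ?_⟩⟩
  · exact Subgroup.mem_subgroupOf.1
      ((Subgroup.mem_normalizer_iff.1 hx ⟨t, h.le ht⟩).1 (Subgroup.mem_subgroupOf.2 ht))
  · have htU : t ∈ U := by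
      have := U.mul_mem (U.mul_mem (U.inv_mem x.2) (h.le ht)) x.2
      simpa [mul_assoc] using this
    exact Subgroup.mem_subgroupOf.1
      ((Subgroup.mem_normalizer_iff.1 hx ⟨t, htU⟩).2 (Subgroup.mem_subgroupOf.2 ht))

theorem le_normalizer_subgroupOf {G : Type*} [Group G] {X V L : Subgroup G}
    (h : X ≤ Subgroup.normalizer (V : Set G)) :
    X.subgroupOf L ≤ Subgroup.normalizer (V.subgroupOf L : Set L) :=
  (Subgroup.comap_mono h).trans (Subgroup.le_normalizer_comap L.subtype)

theorem isTwoLocal_map {G : Type*} [Group G] {L : Subgroup G} (hL : Cfsg.IsTwoLocal L) (φ : MulAut G) :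
    Cfsg.IsTwoLocal (L.map φ.toMonoidHom) := by
  obtain ⟨T, hT, hT1, rfl⟩ := hL
  refine ⟨T.map φ.toMonoidHom, hT.map _, fun h => hT1 ?_, Subgroup.map_equiv_normalizer_eq T φ⟩
  exact (Subgroup.map_eq_bot_iff_of_injective _ φ.injective).1 h

theorem centre_ne_bot {G : Type*} [Group G] [Finite G] {T : Subgroup G} (hT : IsPGroup 2 T)
    (h1 : T ≠ ⊥) : Cfsg.omegaOne 2 (T ⊓ Subgroup.centralizer (T : Set G)) ≠ ⊥ := by
  have : Fact (Nat.Prime 2) := ⟨Nat.prime_two⟩
  refine Omega.ne_bot_of_isPGroup (hT.to_le inf_le_left) fun h => ?_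
  obtain ⟨z, hz, hz1, -, hzc⟩ := PReduced.exists_order_p_central hT le_rfl Subgroup.le_normalizer h1
  have hmem : z ∈ T ⊓ Subgroup.centralizer (T : Set G) := ⟨hz, hzc⟩
  rw [h, Subgroup.mem_bot] at hmem
  exact hz1 hmem


/-- Let G be a finite group of even order with O₂(G) = 1 such that every 2-local subgroup of G is solvable, of characteristic 2, and has no section isomorphic to the symmetric group of degree 4. Then every maximal 2-local subgroup of G is strongly embedded in G. -/
theorem result {G : Type*} [Group G] [Finite G] (heven : Even (Nat.card G)) (hO : Cfsg.pCore 2 G = ⊥) (hloc : ∀ M : Subgroup G, Cfsg.IsTwoLocal M → Group.IsSolvable M ∧ Cfsg.IsOfCharacteristicTwo ↥M ∧ ¬ Cfsg.Involves (Equiv.Perm (Fin 4)) ↥M) (M : Subgroup G) (hM : Cfsg.IsMaximalTwoLocal M) : Cfsg.IsStronglyEmbedded M := by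

  classical
  have : Fact (Nat.Prime 2) := ⟨Nat.prime_two⟩
  obtain ⟨S⟩ : Nonempty (Sylow 2 G) := inferInstance
  have hS1 : (S : Subgroup G) ≠ ⊥ := S.ne_bot_of_dvd_card (even_iff_two_dvd.1 heven)
  have hS2 : 2 ∣ Nat.card (S : Subgroup G) := S.isPGroup'.card_eq_or_dvd.resolve_left
    fun h => hS1 (Subgroup.eq_bot_of_card_eq _ h)
  set J := Cfsg.thompsonSubgroupOf 2 (S : Subgroup G) with hJ
  set N2 := Subgroup.normalizer (J : Set G) with hN2
  have hN2loc : Cfsg.IsTwoLocal N2 := ⟨J, S.isPGroup'.to_le (Thompson.thompsonSubgroupOf_le _ _),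
    Thompson.thompsonSubgroupOf_ne_bot hS2, rfl⟩
  have hSN2 : (S : Subgroup G) ≤ N2 := Subgroup.le_normalizer.trans (Thompson.normalizer_le 2 _)
  obtain ⟨hsol2, hch2, hfr2⟩ := hloc N2 hN2loc
  haveI : Group.IsSolvable ↥N2 := hsol2
  set V0 := SylowCentre.omegaJoin 2 ↥N2 with hV0
  haveI hV0n : V0.Normal := SylowCentre.normal_omegaJoin
  have hV0el : Cfsg.IsElementaryAbelian 2 V0 := SylowCentre.isElementaryAbelian_omegaJoin hch2
  set V := V0.map N2.subtype with hV
  have hVel : Cfsg.IsElementaryAbelian 2 V := ElemAbelian.map hV0el _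
  have hVrig : SFourFree.Rigid N2 V := SFourFree.rigid_of_normal N2 hfr2 V0 hV0el
    (SFourFree.twoKer_le (SylowCentre.pCore_quotient_eq_bot SylowCentre.omegaJoin_le_fixed))
  have hVS : V ≤ (S : Subgroup G) := by
    rintro _ ⟨v, hv, rfl⟩
    have h := PSolvable.pCore_le_sylow (S.subtype hSN2)
      (PSolvable.le_pCore (ElemAbelian.isPGroup hV0el) hv)
    exact Subgroup.mem_subgroupOf.1 h
  have hN2V : N2 ≤ Subgroup.normalizer (V : Set G) := fun g hg =>
    Subgroup.le_normalizer_map N2.subtype (Subgroup.mem_map_of_mem N2.subtype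
      ((Subgroup.normalizer_eq_top (H := V0)).ge (Subgroup.mem_top (⟨g, hg⟩ : N2))))
  have hV1 : V ≠ ⊥ := by
    intro h
    have hV00 : V0 = ⊥ := (Subgroup.map_eq_bot_iff_of_injective _ N2.subtype_injective).1 h
    refine centre_ne_bot (S.subtype hSN2).isPGroup' ?_ (le_bot_iff.1 (hV00 ▸
      le_iSup (fun T : Sylow 2 ↥N2 => Cfsg.omegaOne 2 ((T : Subgroup ↥N2) ⊓
        Subgroup.centralizer ((T : Subgroup ↥N2) : Set ↥N2))) (S.subtype hSN2)))
    refine (S.subtype hSN2).ne_bot_of_dvd_card (hS2.trans (Subgroup.card_dvd_of_le hSN2))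
  set M0 := Subgroup.normalizer (V : Set G) with hM0
  have hM0loc : Cfsg.IsTwoLocal M0 := ⟨V, ElemAbelian.isPGroup hVel, hV1, rfl⟩
  have hSM0 : (S : Subgroup G) ≤ M0 := hSN2.trans hN2V
  have hbase : ∀ L : Subgroup G, Cfsg.IsTwoLocal L → (S : Subgroup G) ≤ L → L ≤ M0 := by
    intro L hL hSL
    obtain ⟨hsol, hch, hfr⟩ := hloc L hL
    haveI : Group.IsSolvable ↥L := hsol
    have h := SFourFree.factorization hfr hch (S.subtype hSL)
      (ElemAbelian.subgroupOf hVel L) (le_normalizer_subgroupOf hSM0)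
      ((hVrig.mono hSN2).subgroupOf hSL (hVS.trans hSL))
    have h' := congrArg (Subgroup.map L.subtype) h
    rw [Subgroup.map_sup, ← MonoidHom.range_eq_map, Subgroup.range_subtype] at h'
    rw [← h']
    refine sup_le ?_ ((Subgroup.le_normalizer_map L.subtype).trans ?_)
    · rw [SFourFree.centralizer_subgroupOf (hVS.trans hSL)]
      exact (Subgroup.map_comap_le _ _).trans (Subgroup.centralizer_le_normalizer _)
    · rw [← Thompson.thompsonSubgroupOf_map L.subtype_injective, S.coe_subtype hSL,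
        Subgroup.map_subgroupOf_eq_of_le hSL]
      exact hN2V
  -- every local subgroup meeting `M0` in even order lies in `M0`
  have claim : ∀ T1 : Subgroup G, T1 ≤ M0 → IsPGroup 2 T1 → T1 ≠ ⊥ →
      ∀ L : Subgroup G, Cfsg.IsTwoLocal L → T1 ≤ L → L ≤ M0 := by
    intro T1
    induction hk : Nat.card (S : Subgroup G) - Nat.card T1 using Nat.strong_induction_on
      generalizing T1 with
    | _ k ih =>
    intro hT1M hT1 hT1ne L hL hT1L
    subst hk
    obtain ⟨U, hU⟩ := (hT1.comap_of_injective M0.subtype M0.subtype_injective).exists_le_sylow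
    obtain ⟨m, hm⟩ := MulAction.exists_smul_eq ↥M0 (S.subtype hSM0) U
    set S' := (S : Subgroup G).map (MulAut.conj (m : G)).toMonoidHom with hS'
    have hT1S' : T1 ≤ S' := by
      intro t ht
      have h : (⟨t, hT1M ht⟩ : M0) ∈ (U : Subgroup ↥M0) := hU ht
      rw [← hm, Sylow.coe_subgroup_smul, Subgroup.pointwise_smul_def] at h
      obtain ⟨s, hs, he⟩ := h
      exact ⟨(s : G), Subgroup.mem_subgroupOf.1 hs, congrArg Subtype.val he⟩
    have hS'M : S' ≤ M0 := by
      rintro _ ⟨s, hs, rfl⟩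
      exact M0.mul_mem (M0.mul_mem m.2 (hSM0 hs)) (M0.inv_mem m.2)
    have hS'card : Nat.card S' = Nat.card (S : Subgroup G) :=
      Subgroup.card_map_of_injective (MulAut.conj (m : G)).injective
    rcases eq_or_lt_of_le hT1S' with hTS | hTS
    · -- `T1` is a Sylow 2-subgroup of `G`
      have hle := hbase _ (isTwoLocal_map hL (MulAut.conj (m : G)⁻¹)) (by
        intro s hs
        refine ⟨(m : G) * s * (m : G)⁻¹, hT1L (hTS.ge ⟨s, hs, rfl⟩), ?_⟩
        simp [mul_assoc])
      intro l hl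
      have h := hle ⟨l, hl, rfl⟩
      have h2 := M0.mul_mem (M0.mul_mem m.2 h) (M0.inv_mem m.2)
      simpa [mul_assoc] using h2
    have hS'2 : IsPGroup 2 S' := S.isPGroup'.map _
    set T3 := S' ⊓ Subgroup.normalizer (T1 : Set G) with hT3
    have hlt3 : T1 < T3 := lt_inf_normalizer hS'2 hTS
    have hT1card : ∀ T : Subgroup G, T1 < T → Nat.card T1 < Nat.card T := fun T h =>
      lt_of_le_of_ne (Subgroup.card_le_of_le h.le)
        fun e => h.ne (Subgroup.eq_of_le_of_card_ge h.le e.ge)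
    have hbig : ∀ T : Subgroup G, T1 < T → IsPGroup 2 T → T ≤ M0 →
        ∀ L' : Subgroup G, Cfsg.IsTwoLocal L' → T ≤ L' → L' ≤ M0 := by
      intro T hT hT2 hTM
      refine ih _ ?_ T rfl hTM hT2 (ne_bot_of_gt hT)
      have h1 := hT1card T hT
      have h2 : Nat.card T1 < Nat.card (S : Subgroup G) := hS'card ▸ hT1card S' hTS
      omega
    have hN1 : Subgroup.normalizer (T1 : Set G) ≤ M0 :=
      hbig T3 hlt3 (hS'2.to_le inf_le_left) (inf_le_left.trans hS'M) _ ⟨T1, hT1, hT1ne, rfl⟩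
        inf_le_right
    obtain ⟨hsol, hch, hfr⟩ := hloc L hL
    haveI : Group.IsSolvable ↥L := hsol
    obtain ⟨T, hT⟩ := (hT1.comap_of_injective L.subtype L.subtype_injective).exists_le_sylow
    set TL := (T : Subgroup ↥L).map L.subtype with hTL
    have hT1TL : T1 ≤ TL := fun t ht => ⟨⟨t, hT1L ht⟩, hT ht, rfl⟩
    rcases eq_or_lt_of_le hT1TL with hTT | hTT
    swap
    · exact hbig _ (lt_inf_normalizer (T.isPGroup'.map _) hTT)
        ((T.isPGroup'.map L.subtype).to_le inf_le_left) (inf_le_right.trans hN1) L hL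
        (inf_le_left.trans (Subgroup.map_subtype_le _))
    set W := SylowCentre.omegaJoin 2 ↥L with hW
    haveI hWn : W.Normal := SylowCentre.normal_omegaJoin
    have hWel : Cfsg.IsElementaryAbelian 2 W := SylowCentre.isElementaryAbelian_omegaJoin hch
    have hWrig : SFourFree.Rigid (T : Subgroup ↥L) W := by
      intro R _ h1 h2
      refine (SFourFree.bound hfr W hWel R h1 h2).trans (Nat.mul_le_mul_left _
        (Nat.pow_le_pow_left (Subgroup.card_le_of_le (inf_le_inf_left _ ?_)) 2))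
      exact SFourFree.twoKer_le (SylowCentre.pCore_quotient_eq_bot SylowCentre.omegaJoin_le_fixed)
    have h := SFourFree.factorization hfr hch T hWel
      (fun g _ => by rw [Subgroup.normalizer_eq_top]; exact Subgroup.mem_top g) hWrig
    have h' := congrArg (Subgroup.map L.subtype) h
    rw [Subgroup.map_sup, ← MonoidHom.range_eq_map, Subgroup.range_subtype] at h'
    rw [← h']
    set Z := Cfsg.omegaOne 2 (T1 ⊓ Subgroup.centralizer (T1 : Set G)) with hZ
    have hT12 : 2 ∣ Nat.card T1 := hT1.card_eq_or_dvd.resolve_left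
      fun e => hT1ne (Subgroup.eq_bot_of_card_eq _ e)
    refine sup_le ?_ ((Subgroup.le_normalizer_map L.subtype).trans ?_)
    · have hZW : Z ≤ W.map L.subtype := by
        rw [hZ, hTT, hTL, ← SylowCentre.map_omegaCentre L.subtype_injective]
        exact Subgroup.map_mono (le_iSup (fun T : Sylow 2 ↥L => Cfsg.omegaOne 2
          ((T : Subgroup ↥L) ⊓ Subgroup.centralizer ((T : Subgroup ↥L) : Set ↥L))) T)
      refine le_trans ?_ (hbig T3 hlt3 (hS'2.to_le inf_le_left) (inf_le_left.trans hS'M)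
        (Subgroup.normalizer (Z : Set G))
        ⟨Z, hT1.to_le ((Omega.le_self _ _).trans inf_le_left), centre_ne_bot hT1 hT1ne, rfl⟩
        (inf_le_right.trans ((Coprime.le_normalizer_inf_centralizer le_rfl le_rfl).trans
          (Omega.normalizer_le 2 _))))
      refine le_trans ?_ (Subgroup.centralizer_le_normalizer _)
      rw [SFourFree.centralizer_map_subtype]
      exact inf_le_right.trans (Subgroup.centralizer_le (SetLike.coe_subset_coe.2 hZW))
    · rw [← Thompson.thompsonSubgroupOf_map L.subtype_injective, ← hTL, ← hTT]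
      exact hbig T3 hlt3 (hS'2.to_le inf_le_left) (inf_le_left.trans hS'M) _
        ⟨_, hT1.to_le (Thompson.thompsonSubgroupOf_le _ _), Thompson.thompsonSubgroupOf_ne_bot hT12, rfl⟩
        (inf_le_right.trans (Thompson.normalizer_le 2 T1))
  -- `M` is a conjugate of `M0`
  obtain ⟨g, hg⟩ : ∃ g : G, M = M0.map (MulAut.conj g).toMonoidHom := by
    obtain ⟨T, hT, hT1, hMT⟩ := hM.1
    obtain ⟨U, hU⟩ := hT.exists_le_sylow
    obtain ⟨g, hg⟩ := MulAction.exists_smul_eq G S U
    refine ⟨g, (hM.2 _ (isTwoLocal_map hM0loc (MulAut.conj g)) ?_).symm⟩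
    rw [← hg, Sylow.coe_subgroup_smul, Subgroup.pointwise_smul_def] at hU
    set ψ := MulAut.conj g⁻¹ with hψ
    have hle : M.map ψ.toMonoidHom ≤ M0 := by
      refine claim (T.map ψ.toMonoidHom) ?_ (hT.map _) (fun h => hT1
        ((Subgroup.map_eq_bot_iff_of_injective _ ψ.injective).1 h)) _
        (isTwoLocal_map hM.1 ψ) (Subgroup.map_mono (hMT ▸ Subgroup.le_normalizer))
      rintro _ ⟨t, ht, rfl⟩
      obtain ⟨s, hs, he⟩ := hU ht
      have he' : g * s * g⁻¹ = t := he
      have : ψ.toMonoidHom t = s := by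
        simp [hψ, ← he', mul_assoc]
      rw [this]
      exact hSM0 hs
    intro x hx
    refine ⟨ψ x, hle ⟨x, hx, rfl⟩, ?_⟩
    simp [hψ, mul_assoc]
  -- `M0` is strongly embedded
  have hSE : ∀ x : G, Even (Nat.card ↥(M0 ⊓ M0.map (MulAut.conj x).toMonoidHom)) → x ∈ M0 := by
    intro x hev
    obtain ⟨t, ht⟩ := exists_prime_orderOf_dvd_card' (G := ↥(M0 ⊓ M0.map (MulAut.conj x).toMonoidHom))
      2 (even_iff_two_dvd.1 hev)
    have hto : orderOf (t : G) = 2 := by rwa [Subgroup.orderOf_coe]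
    have hTle : Subgroup.zpowers (t : G) ≤ M0 ⊓ M0.map (MulAut.conj x).toMonoidHom :=
      Subgroup.zpowers_le.2 t.2
    have hle := claim (Subgroup.zpowers (t : G)) (hTle.trans inf_le_left)
      (IsPGroup.of_card (n := 1) (by rw [Nat.card_zpowers, hto, pow_one]))
      (Subgroup.zpowers_ne_bot.2 fun e => by rw [e, orderOf_one] at hto; norm_num at hto)
      _ (isTwoLocal_map hM0loc (MulAut.conj x)) (hTle.trans inf_le_right)
    have heq := Subgroup.eq_of_le_of_card_ge hle
      (Subgroup.card_map_of_injective (MulAut.conj x).injective).ge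
    set O := (Cfsg.pCore 2 ↥M0).map M0.subtype with hO'
    have hO1 : O ≠ ⊥ := fun h => by
      have h' : Cfsg.pCore 2 ↥M0 = ⊥ :=
        (Subgroup.map_eq_bot_iff_of_injective _ M0.subtype_injective).1 h
      have h2 : Subgroup.centralizer ((Cfsg.pCore 2 ↥M0 : Subgroup ↥M0) : Set ↥M0) = ⊤ := by
        rw [eq_top_iff]
        intro y _
        refine Subgroup.mem_centralizer_iff.2 fun z hz => ?_
        rw [h', SetLike.mem_coe, Subgroup.mem_bot] at hz
        rw [hz, one_mul, mul_one]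
      have h3 : (⊤ : Subgroup ↥M0) ≤ ⊥ := by rw [← h2, ← h']; exact (hloc M0 hM0loc).2.1
      refine hS1 (le_bot_iff.1 fun s hs => ?_)
      exact congrArg Subtype.val (Subgroup.mem_bot.1 (h3 (Subgroup.mem_top (⟨s, hSM0 hs⟩ : M0))))
    have hOS : O ≤ (S : Subgroup G) := by
      rintro _ ⟨o, ho, rfl⟩
      exact Subgroup.mem_subgroupOf.1 (PSolvable.pCore_le_sylow (S.subtype hSM0) ho)
    have hM0O : M0 ≤ Subgroup.normalizer (O : Set G) := fun y hy =>
      Subgroup.le_normalizer_map M0.subtype (Subgroup.mem_map_of_mem M0.subtype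
        ((Subgroup.normalizer_eq_top (H := Cfsg.pCore 2 ↥M0)).ge (Subgroup.mem_top (⟨y, hy⟩ : M0))))
    have hNO : Subgroup.normalizer (O : Set G) ≤ M0 := claim (S : Subgroup G) hSM0 S.isPGroup' hS1
      _ ⟨O, S.isPGroup'.to_le hOS, hO1, rfl⟩ (hSM0.trans hM0O)
    refine hNO ?_
    let φ : ↥M0 ≃* ↥M0 :=
      ((MulAut.conj x).subgroupMap M0).trans (MulEquiv.subgroupCongr heq)
    have hOx : O.map (MulAut.conj x).toMonoidHom = O := by
      have h1 := PSolvable.map_pCore_equiv (p := 2) φ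
      conv_rhs => rw [hO', ← h1]
      rw [hO', Subgroup.map_map, Subgroup.map_map]
      rfl
    rw [Subgroup.mem_normalizer_iff]
    intro y
    constructor
    · intro hy
      rw [← hOx]
      exact ⟨y, hy, rfl⟩
    · intro hy
      rw [← hOx] at hy
      obtain ⟨z, hz, he⟩ := hy
      rwa [← (MulAut.conj x).injective he]
  have hM0top : M0 ≠ ⊤ := by
    intro h
    haveI : V.Normal := Subgroup.normalizer_eq_top_iff.1 h
    exact hV1 (le_bot_iff.1 (hO ▸ PSolvable.le_pCore (ElemAbelian.isPGroup hVel)))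
  have hinj : Function.Injective (MulAut.conj g).toMonoidHom := (MulAut.conj g).injective
  subst hg
  refine ⟨fun h => hM0top ?_, ?_, fun x hx => ?_⟩
  · refine Subgroup.map_injective hinj ?_
    rw [h, Subgroup.map_top_of_surjective _ (MulAut.conj g).surjective]
  · rw [Subgroup.card_map_of_injective hinj]
    exact even_iff_two_dvd.2 (hS2.trans (Subgroup.card_dvd_of_le hSM0))
  · rw [← Nat.not_even_iff_odd]
    intro hev
    refine hx ⟨g⁻¹ * x * g, hSE _ ?_, by simp [mul_assoc]⟩
    have e : (M0.map (MulAut.conj g).toMonoidHom).map (MulAut.conj x).toMonoidHom =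
        (M0.map (MulAut.conj (g⁻¹ * x * g)).toMonoidHom).map (MulAut.conj g).toMonoidHom := by
      rw [SFourFree.map_conj_mul, SFourFree.map_conj_mul]
      simp [mul_assoc]
    rwa [e, ← Subgroup.map_inf _ _ _ hinj, Subgroup.card_map_of_injective hinj] at hev

end Cfsg.Agent.S3756
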