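import Cfsg.Statements.S3760
import Mathlib

set_option autoImplicit false
open Cfsg

namespace Cfsg.Agent.S3760

/-- Let the group G act transitively on a set X, let x ∈ X with stabilizer H = G_x, and let K ≤ H. Then N_G(K) acts transitively on the set of fixed points of K if and only if every G-conjugate of K contained in H is already an H-conjugate of K. -/
theorem result {G : Type*} [Group G] {X : Type*} [MulAction G X] (htrans : ∀ a b : X, ∃ g : G, g • a = b) (x : X) (K : Subgroup G) (hK : K ≤ MulAction.stabilizer G x) : (∀ a b : X, (∀ k ∈ K, k • a = a) → (∀ k ∈ K, k • b = b) → ∃ g ∈ Subgroup.normalizer (K : Set G), g • a = b) ↔ ∀ g : G, K.map (MulAut.conj g).toMonoidHom ≤ MulAction.stabilizer G x → ∃ h ∈ MulAction.stabilizer G x, K.map (MulAut.conj g).toMonoidHom = K.map (MulAut.conj h).toMonoidHom := by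
  constructor
  · intro h g hg
    have hfix : ∀ k ∈ K, k • (g⁻¹ • x) = g⁻¹ • x := by
      intro k hk
      have hmem : g * k * g⁻¹ ∈ MulAction.stabilizer G x := hg ⟨k, hk, by simp⟩
      rw [MulAction.mem_stabilizer_iff, mul_smul, mul_smul] at hmem
      exact eq_inv_smul_iff.2 hmem
    obtain ⟨n, hn, hnx⟩ := h x (g⁻¹ • x) (fun k hk => hK hk) hfix
    refine ⟨g * n, ?_, ?_⟩
    · rw [MulAction.mem_stabilizer_iff, mul_smul, hnx, smul_inv_smul]
    · ext y
      simp only [Subgroup.mem_map]
      constructor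
      · rintro ⟨k, hk, rfl⟩
        refine ⟨n⁻¹ * k * n, ?_, by simp [mul_assoc]⟩
        have := (Subgroup.mem_normalizer_iff.1 (inv_mem hn) k).1 hk
        simpa using this
      · rintro ⟨k, hk, rfl⟩
        exact ⟨n * k * n⁻¹, (Subgroup.mem_normalizer_iff.1 hn k).1 hk, by simp [mul_assoc]⟩
  · intro h a b ha hb
    have key : ∀ a : X, (∀ k ∈ K, k • a = a) → ∃ n ∈ Subgroup.normalizer (K : Set G), n • x = a := by
      intro a ha
      obtain ⟨g, rfl⟩ := htrans x a
      have hle : K.map (MulAut.conj g⁻¹).toMonoidHom ≤ MulAction.stabilizer G x := by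
        rintro _ ⟨k, hk, rfl⟩
        simp [MulAction.mem_stabilizer_iff, mul_smul, ha k hk]
      obtain ⟨m, hm, hmK⟩ := h g⁻¹ hle
      refine ⟨g * m, ?_, by rw [mul_smul, MulAction.mem_stabilizer_iff.1 hm]⟩
      rw [Subgroup.mem_normalizer_iff]
      intro k
      have h1 := SetLike.ext_iff.1 hmK (m * k * m⁻¹)
      have h2 : ∀ c : G, ∀ y : G, y ∈ K.map (MulAut.conj c).toMonoidHom ↔ c⁻¹ * y * c ∈ K := by
        intro c y
        simp only [Subgroup.mem_map]
        constructor
        · rintro ⟨z, hz, rfl⟩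
          simpa [mul_assoc] using hz
        · exact fun hz => ⟨_, hz, by simp [mul_assoc]⟩
      rw [h2, h2] at h1
      simpa [mul_assoc] using h1.symm
    obtain ⟨n, hn, rfl⟩ := key a ha
    obtain ⟨m, hm, rfl⟩ := key b hb
    exact ⟨m * n⁻¹, mul_mem hm (inv_mem hn), by rw [mul_smul, inv_smul_smul]⟩

end Cfsg.Agent.S3760
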