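import Cfsg.Statements.S3761
import Mathlib
import Cfsg.Agent.Lib.TwoGroup.Recognition

set_option autoImplicit false
open Cfsg

namespace Cfsg.Agent.S3761

open Subgroup in
/-- Powers of a product `v * y` with `v = u ^ l` and `y` acting on `⟨u⟩` as `u ↦ u ^ a`. -/
theorem mul_pow_formula {G : Type*} [Group G] {u y : G} {a : ℤ} (h : y * u * y⁻¹ = u ^ a) (l : ℤ)
    (m : ℕ) : (u ^ l * y) ^ m = u ^ (l * ∑ i ∈ Finset.range m, a ^ i) * y ^ m := by
  have hpow : ∀ (i : ℕ) (k : ℤ), y ^ i * u ^ k = u ^ (a ^ i * k) * y ^ i := by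
    intro i
    induction i with
    | zero => intro k; simp
    | succ i ih =>
      intro k
      rw [pow_succ', mul_assoc, ih k, ← mul_assoc, ← mul_assoc]
      have : y * u ^ (a ^ i * k) = u ^ (a ^ (i + 1) * k) * y := by
        rw [← mul_inv_eq_iff_eq_mul, ← conj_zpow, h, ← zpow_mul]
        congr 1
        ring
      rw [this, mul_assoc]
  induction m with
  | zero => simp
  | succ m ih =>
    rw [pow_succ, ih, ← mul_assoc, mul_assoc _ (y ^ m), hpow, ← mul_assoc, ← zpow_add,
      mul_assoc, ← pow_succ]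
    congr 2
    rw [Finset.sum_range_succ]
    ring

/-- The geometric sum is `p` times a unit. -/
theorem geom_sum_unit {p : ℕ} (hp : p.Prime) {a : ℤ}
    (h : (p ≠ 2 ∧ (p : ℤ) ∣ a - 1) ∨ (p = 2 ∧ (4 : ℤ) ∣ a - 1)) :
    ∃ s : ℤ, (∑ i ∈ Finset.range p, a ^ i) = p * s ∧ ¬ (p : ℤ) ∣ s := by
  have hp0 : (p : ℤ) ≠ 0 := Int.natCast_ne_zero.mpr hp.ne_zero
  have hpp : Prime (p : ℤ) := Nat.prime_iff_prime_int.mp hp
  rcases h with ⟨hp2, hd⟩ | ⟨rfl, hd⟩
  · have key : ∀ m : ℕ, ∃ t : ℤ, 2 * ∑ i ∈ Finset.range m, a ^ i =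
        2 * m + (a - 1) * m * (m - 1) + (a - 1) ^ 2 * t := by
      intro m
      induction m with
      | zero => exact ⟨0, by simp⟩
      | succ m ih =>
        obtain ⟨t, ht⟩ := ih
        have hb : ∀ i : ℕ, ∃ r : ℤ, a ^ i = 1 + i * (a - 1) + (a - 1) ^ 2 * r := by
          intro i
          induction i with
          | zero => exact ⟨0, by simp⟩
          | succ i ih =>
            obtain ⟨r, hr⟩ := ih
            exact ⟨(i : ℤ) + r * a, by rw [pow_succ, hr]; push_cast; ring⟩
        obtain ⟨r, hr⟩ := hb m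
        refine ⟨t + 2 * r, ?_⟩
        rw [Finset.sum_range_succ, mul_add, ht, hr]
        push_cast
        ring
    obtain ⟨t, ht⟩ := key p
    obtain ⟨c, hc⟩ := hd
    obtain ⟨e, rfl⟩ : ∃ e, p = 2 * e + 1 := (hp.odd_of_ne_two hp2)
    set S := ∑ i ∈ Finset.range (2 * e + 1), a ^ i with hS
    rw [hc] at ht
    push_cast at ht hp0 hpp ⊢
    have h2 : 2 * (S - (2 * (e : ℤ) + 1)) =
        (2 * (e : ℤ) + 1) ^ 2 * (c * (2 * (e : ℤ)) + c ^ 2 * t) := by linear_combination ht
    have hev : Even (c * (2 * (e : ℤ)) + c ^ 2 * t) := by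
      rcases Int.even_or_odd (c * (2 * (e : ℤ)) + c ^ 2 * t) with h | h
      · exact h
      · exfalso
        have h3 : Odd ((2 * (e : ℤ) + 1) ^ 2 * (c * (2 * (e : ℤ)) + c ^ 2 * t)) :=
          ((odd_two_mul_add_one (e : ℤ)).pow).mul h
        rw [← h2] at h3
        exact Int.not_even_iff_odd.mpr h3 (even_two_mul _)
    obtain ⟨d, hd⟩ := hev
    rw [hd] at h2
    refine ⟨1 + (2 * e + 1) * d, by linarith, fun hdvd => ?_⟩
    have h1 : (2 * (e : ℤ) + 1) ∣ 1 := (dvd_add_left (Dvd.intro d rfl)).mp hdvd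
    exact hpp.not_isUnit (isUnit_of_dvd_one h1)
  · obtain ⟨c, hc⟩ := hd
    refine ⟨1 + 2 * c, ?_, by omega⟩
    rw [show a = 1 + 4 * c by linarith]
    simp [Finset.sum_range_succ]
    ring

/-- The sum for a power of the generator acting trivially modulo `q`. -/
theorem dvd_pow_sub_one_of_dvd {q a : ℤ} (h : q ∣ a - 1) (j : ℕ) : q ∣ a ^ j - 1 :=
  h.trans (sub_one_dvd_pow_sub_one a j)

/-- Let G be a finite non-abelian p-group with a cyclic normal subgroup U of order p^n such that C_G(U) = U. Then either p = 2 and G is dihedral, generalized quaternion or semidihedral of order 2^(n+1); or, writing U₁ for the subgroup generated by the p-th powers of elements of U and M = C_G(U₁), the subgroup U has index p in M and the subgroup Ω₁(M) generated by the elements of M of order dividing p is elementary abelian of order p² and characteristic in G. -/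
theorem result {G : Type*} [Group G] [Finite G] {p : ℕ} [Fact p.Prime] (hG : IsPGroup p G) (hna : ¬ IsMulCommutative G) (U : Subgroup G) [U.Normal] (hU : IsCyclic U) (n : ℕ) (hUn : Nat.card U = p ^ n) (hC : Subgroup.centralizer (U : Set G) = U) : (p = 2 ∧ Nat.card G = 2 ^ (n + 1) ∧ ((∃ m : ℕ, Nonempty (G ≃* DihedralGroup m)) ∨ (∃ m : ℕ, Nonempty (G ≃* QuaternionGroup m)) ∨ Cfsg.IsQuasiDihedral G)) ∨ (U.relIndex (Subgroup.centralizer (Cfsg.powerClosure p 1 U : Set G)) = p ∧ Cfsg.IsElementaryAbelian p (Cfsg.omegaOne p (Subgroup.centralizer (Cfsg.powerClosure p 1 U : Set G))) ∧ Nat.card ↥(Cfsg.omegaOne p (Subgroup.centralizer (Cfsg.powerClosure p 1 U : Set G))) = p ^ 2 ∧ (Cfsg.omegaOne p (Subgroup.centralizer (Cfsg.powerClosure p 1 U : Set G))).Characteristic) := by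
  classical
  have hp : p.Prime := Fact.out
  have hpp : Prime (p : ℤ) := Nat.prime_iff_prime_int.mp hp
  obtain ⟨⟨u, hu⟩, hgen⟩ := hU.exists_generator
  have hUu : U = Subgroup.zpowers u := by
    refine le_antisymm (fun x hx => ?_) (Subgroup.zpowers_le.mpr hu)
    obtain ⟨k, hk⟩ := Subgroup.mem_zpowers_iff.mp (hgen ⟨x, hx⟩)
    exact Subgroup.mem_zpowers_iff.mpr ⟨k, congrArg Subtype.val hk⟩
  have ho : orderOf u = p ^ n := by rw [← Nat.card_zpowers, ← hUu, hUn]
  -- the exponent of the action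
  have hact : ∀ g : G, ∃ a : ℤ, g * u * g⁻¹ = u ^ a := by
    intro g
    have h1 : g * u * g⁻¹ ∈ Subgroup.zpowers u := hUu ▸ (inferInstance : U.Normal).conj_mem u hu g
    obtain ⟨a, ha⟩ := Subgroup.mem_zpowers_iff.mp h1
    exact ⟨a, ha.symm⟩
  choose act hact using hact
  have hzero : ∀ k : ℤ, u ^ k = 1 ↔ ((p : ℤ) ^ n) ∣ k := fun k => by
    rw [← orderOf_dvd_iff_zpow_eq_one, ho]; push_cast; rfl
  have hzeq : ∀ k l : ℤ, u ^ k = u ^ l ↔ ((p : ℤ) ^ n) ∣ k - l := fun k l => by
    rw [← hzero, zpow_sub, mul_inv_eq_one]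
  have hconj : ∀ (g : G) (k : ℤ), g * u ^ k * g⁻¹ = u ^ (act g * k) := fun g k => by
    rw [← conj_zpow, hact, ← zpow_mul]
  have hmemU : ∀ g : G, g ∈ U ↔ ((p : ℤ) ^ n) ∣ act g - 1 := by
    intro g
    rw [← hzeq, zpow_one, ← hact, mul_inv_eq_iff_eq_mul]
    constructor
    · intro hg
      exact (Subgroup.mem_centralizer_iff.mp (hC.ge hg) u hu).symm
    · intro hg
      refine hC.le (Subgroup.mem_centralizer_iff.mpr fun x hx => ?_)
      rw [hUu] at hx
      obtain ⟨k, rfl⟩ := Subgroup.mem_zpowers_iff.mp hx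
      exact ((show Commute g u from hg).zpow_right k).symm.eq
  have hmul : ∀ g h : G, ((p : ℤ) ^ n) ∣ act (g * h) - act g * act h := by
    intro g h
    rw [← hzeq, ← hact, ← hconj, ← hact]
    group
  -- `n ≥ 2`
  have hn2 : 2 ≤ n := by
    by_contra hlt
    haveI : Nontrivial G := by
      by_contra hh
      rw [not_nontrivial_iff_subsingleton] at hh
      exact hna ⟨⟨fun a b => Subsingleton.elim _ _⟩⟩
    have htop : U = ⊤ := by
      rw [eq_top_iff]
      intro g _
      rw [hmemU]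
      rcases (show n = 0 ∨ n = 1 by omega) with rfl | rfl
      · simp
      · -- an element of a `p`-group acts trivially on a group of order `p`
        rw [pow_one]
        obtain ⟨k, hk⟩ := hG g
        have hk' : ∀ i : ℕ, ((p : ℤ) ^ 1) ∣ act (g ^ i) - act g ^ i := by
          intro i
          induction i with
          | zero =>
            rw [pow_zero, pow_zero, ← hzeq, ← hact, zpow_one]; group
          | succ i ih =>
            have h1 := hmul (g ^ i) g
            rw [← pow_succ] at h1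
            have h2 : act (g ^ (i + 1)) - act g ^ (i + 1) =
                (act (g ^ (i + 1)) - act (g ^ i) * act g) + (act (g ^ i) - act g ^ i) * act g := by ring
            rw [h2]
            exact dvd_add h1 (ih.mul_right _)
        have h1 := hk' (p ^ k)
        rw [hk] at h1
        have h2 : ((p : ℤ) ^ 1) ∣ act 1 - 1 := by
          rw [← hzeq, ← hact, zpow_one]; group
        rw [pow_one] at h1 h2
        have h3 : ((act g : ℤ) : ZMod p) ^ (p ^ k) = 1 := by
          have := (ZMod.intCast_zmod_eq_zero_iff_dvd _ p).mpr (dvd_sub h2 h1)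
          push_cast at this
          linear_combination this
        rw [ZMod.pow_card_pow] at h3
        rw [← ZMod.intCast_zmod_eq_zero_iff_dvd]
        push_cast
        rw [h3, sub_self]
    exact hna ⟨⟨fun a b => by
      have ha : a ∈ Subgroup.zpowers u := hUu ▸ htop ▸ Subgroup.mem_top a
      have hb : b ∈ Subgroup.zpowers u := hUu ▸ htop ▸ Subgroup.mem_top b
      obtain ⟨i, rfl⟩ := Subgroup.mem_zpowers_iff.mp ha
      obtain ⟨j, rfl⟩ := Subgroup.mem_zpowers_iff.mp hb
      exact (Commute.refl u).zpow_zpow i j⟩⟩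
  set q : ℕ := p ^ (n - 1) with hq
  have hpq : (p : ℤ) ^ n = p * q := by
    rw [hq, Nat.cast_pow, ← pow_succ']; congr 1; omega
  have hq0 : (q : ℤ) ≠ 0 := by rw [hq]; exact_mod_cast (pow_pos hp.pos _).ne'
  have hp0 : (p : ℤ) ≠ 0 := Int.natCast_ne_zero.mpr hp.ne_zero
  rw [hpq] at hzero hzeq hmemU hmul
  have hU1 : Cfsg.powerClosure p 1 U = Subgroup.zpowers (u ^ (p : ℤ)) := by
    refine le_antisymm ((Subgroup.closure_le _).mpr ?_) (Subgroup.zpowers_le.mpr ?_)
    · rintro _ ⟨x, hx, rfl⟩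
      rw [hUu] at hx
      obtain ⟨k, rfl⟩ := Subgroup.mem_zpowers_iff.mp hx
      rw [SetLike.mem_coe, pow_one, Subgroup.mem_zpowers_iff]
      exact ⟨k, by rw [← zpow_natCast, ← zpow_mul, ← zpow_mul, mul_comm]⟩
    · exact Subgroup.subset_closure ⟨u, hu, by rw [pow_one, zpow_natCast]⟩
  rw [hU1]
  set M := Subgroup.centralizer (Subgroup.zpowers (u ^ (p : ℤ)) : Set G) with hM
  have hmemM : ∀ g : G, g ∈ M ↔ (q : ℤ) ∣ act g - 1 := by
    intro g
    rw [← mul_dvd_mul_iff_left hp0, mul_sub, mul_one, mul_comm _ (act g), ← hzeq, ← hconj,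
      mul_inv_eq_iff_eq_mul, hM, Subgroup.zpowers_eq_closure, Subgroup.centralizer_closure,
      Subgroup.mem_centralizer_singleton_iff]
  have hUM : U ≤ M := fun g hg => (hmemM g).mpr ((dvd_mul_left _ _).trans ((hmemU g).mp hg))
  haveI hMn : M.Normal := by
    haveI : (Subgroup.zpowers (u ^ (p : ℤ))).Normal := ⟨fun x hx g => by
      obtain ⟨k, rfl⟩ := Subgroup.mem_zpowers_iff.mp hx
      rw [← zpow_mul, hconj, Subgroup.mem_zpowers_iff]
      exact ⟨act g * k, by rw [← zpow_mul]; congr 1; ring⟩⟩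
    rw [hM]; infer_instance
  set z := u ^ (q : ℤ) with hz
  have hzp : z ^ p = 1 := by rw [hz, ← zpow_natCast, ← zpow_mul, hzero, mul_comm]
  have hzM : ∀ g ∈ M, g * z = z * g := by
    intro g hg
    refine (Subgroup.mem_centralizer_iff.mp hg z (Subgroup.mem_zpowers_iff.mpr ?_)).symm
    refine ⟨((p ^ (n - 2) : ℕ) : ℤ), ?_⟩
    rw [hz, ← zpow_mul, hq, ← Nat.cast_mul, ← pow_succ', show n - 2 + 1 = n - 1 by omega]
  by_cases hB : U ≠ M ∧ ¬ (p = 2 ∧ n = 2)
  · -- the main case
    obtain ⟨hne, hsmall⟩ := hB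
    right
    have hq4 : p = 2 → (4 : ℤ) ∣ (q : ℤ) := fun h2 => by
      subst h2
      rw [hq]
      exact_mod_cast (pow_dvd_pow 2 (show 2 ≤ n - 1 by omega) : 2 ^ 2 ∣ 2 ^ (n - 1))
    have hqp : (p : ℤ) ∣ (q : ℤ) := by
      rw [hq]; exact_mod_cast (dvd_pow_self p (show n - 1 ≠ 0 by omega))
    have hsum : ∀ a : ℤ, (q : ℤ) ∣ a - 1 →
        ∃ s : ℤ, (∑ i ∈ Finset.range p, a ^ i) = p * s ∧ ¬ (p : ℤ) ∣ s := fun a ha =>
      geom_sum_unit hp (by
        by_cases h2 : p = 2
        · exact Or.inr ⟨h2, (hq4 h2).trans ha⟩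
        · exact Or.inl ⟨h2, hqp.trans ha⟩)
    let χ : M →* Subgroup.zpowers z := MonoidHom.mk'
      (fun g => ⟨(g : G) * u * (g : G)⁻¹ * u⁻¹, by
        obtain ⟨c, hc⟩ := (hmemM g).mp g.2
        rw [hact, ← zpow_sub_one, hc, zpow_mul, ← hz]
        exact zpow_mem (Subgroup.mem_zpowers z) c⟩)
      (fun g h => Subtype.ext (by
        show (g : G) * h * u * ((g : G) * h)⁻¹ * u⁻¹ =
          (g : G) * u * (g : G)⁻¹ * u⁻¹ * ((h : G) * u * (h : G)⁻¹ * u⁻¹)
        obtain ⟨c, hc⟩ := (hmemM h).mp h.2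
        have hh : (h : G) * u * (h : G)⁻¹ = z ^ c * u := by
          rw [hact, hz, ← zpow_mul, ← hc, ← zpow_add_one, sub_add_cancel]
        have hgz : Commute (g : G) (z ^ c) := Commute.zpow_right (hzM g g.2) c
        have huz : Commute (z ^ c) u := by rw [hz, ← zpow_mul]; exact (Commute.refl u).zpow_left _
        calc (g : G) * h * u * ((g : G) * h)⁻¹ * u⁻¹
            = (g : G) * ((h : G) * u * (h : G)⁻¹) * (g : G)⁻¹ * u⁻¹ := by group
          _ = ((g : G) * z ^ c) * u * (g : G)⁻¹ * u⁻¹ := by rw [hh]; group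
          _ = (z ^ c * g) * u * (g : G)⁻¹ * u⁻¹ := by rw [hgz.eq]
          _ = z ^ c * ((g : G) * u * (g : G)⁻¹ * u⁻¹) := by group
          _ = z ^ c * u ^ (act g - 1) := by rw [hact, zpow_sub_one]
          _ = u ^ (act g - 1) * z ^ c := (huz.zpow_right _).eq
          _ = _ := by rw [hh, mul_inv_cancel_right, hact, zpow_sub_one]))
    have hker : χ.ker = U.subgroupOf M := by
      ext g
      rw [MonoidHom.mem_ker, Subgroup.mem_subgroupOf, hmemU, ← hzeq, zpow_one, ← hact]
      show (⟨_, _⟩ : Subgroup.zpowers z) = 1 ↔ _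
      rw [Subgroup.mk_eq_one, mul_inv_eq_one]
    have hrel : U.relIndex M = p := by
      have hdvd : U.relIndex M ∣ p := by
        rw [Subgroup.relIndex, ← hker, Subgroup.index_ker]
        exact (Subgroup.card_subgroup_dvd_card _).trans
          (by rw [Nat.card_zpowers]; exact orderOf_dvd_of_pow_eq_one hzp)
      refine ((Nat.dvd_prime hp).mp hdvd).resolve_left fun h1 => hne ?_
      exact le_antisymm hUM (Subgroup.relIndex_eq_one.mp h1)
    obtain ⟨y, hyM, hyU⟩ := SetLike.exists_of_lt (lt_of_le_of_ne hUM hne)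
    have hyp : y ^ p ∈ U := by
      have h1 := Subgroup.pow_index_mem (U.subgroupOf M) (⟨y, hyM⟩ : M)
      rw [show (U.subgroupOf M).index = p from hrel] at h1
      exact h1
    have ha := (hmemM y).mp hyM
    obtain ⟨k, hk⟩ := Subgroup.mem_zpowers_iff.mp (hUu ▸ hyp)
    -- `y ^ p` is a `p`-th power in `U`
    obtain ⟨k', hk'⟩ : (p : ℤ) ∣ k := by
      have h1 : u ^ (act y * k) = u ^ k := by rw [← hconj, hk]; group
      rw [hzeq, ← sub_one_mul] at h1
      obtain ⟨b, hb⟩ := ha
      rw [hb, mul_assoc, mul_comm (p : ℤ) (q : ℤ), mul_dvd_mul_iff_left hq0] at h1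
      refine (hpp.dvd_or_dvd h1).resolve_left fun hpb => hyU ?_
      rw [hmemU, hb, mul_comm (p : ℤ) (q : ℤ)]
      exact mul_dvd_mul_left _ hpb
    -- adjust `y` to an element of order `p`
    obtain ⟨s, hs, hsp⟩ := hsum _ ha
    have hcop : IsCoprime s (q : ℤ) := by
      rw [hq, Nat.cast_pow]
      exact IsCoprime.pow_right ((hpp.coprime_iff_not_dvd.mpr hsp).symm)
    obtain ⟨e, f, hef⟩ := hcop
    set w := u ^ (-k' * e) * y with hw
    have hwp : w ^ p = 1 := by
      rw [hw, mul_pow_formula (hact y), ← hk, ← zpow_add, hzero, hs, hk']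
      exact ⟨k' * f, by linear_combination (-(p : ℤ) * k') * hef⟩
    have hwM : w ∈ M := mul_mem (hUM (hUu ▸ zpow_mem (Subgroup.mem_zpowers u) _)) hyM
    have hwU : w ∉ U := fun h => hyU (by
      have h1 := mul_mem (inv_mem (hUu.symm ▸ zpow_mem (Subgroup.mem_zpowers u) (-k' * e) : u ^ (-k' * e) ∈ U)) h
      rwa [hw, inv_mul_cancel_left] at h1)
    have hw1 : w ≠ 1 := fun h => hwU (h ▸ one_mem U)
    have howp : orderOf w = p := orderOf_eq_prime hwp hw1
    have hzne : z ≠ 1 := by
      rw [hz, Ne, hzero]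
      rintro ⟨c, hc⟩
      exact hpp.not_isUnit (IsUnit.of_mul_eq_one c
        (mul_left_cancel₀ hq0 (by linear_combination (-1 : ℤ) * hc)))
    have hzo : orderOf z = p := orderOf_eq_prime hzp hzne
    have hcwz : Commute w z := hzM w hwM
    -- the generators of `Ω₁(M)`
    have hgenM : M = U ⊔ Subgroup.zpowers w := by
      have hle : U ⊔ Subgroup.zpowers w ≤ M := sup_le hUM (Subgroup.zpowers_le.mpr hwM)
      refine le_antisymm ?_ hle
      have hmul := Subgroup.relIndex_mul_relIndex U (U ⊔ Subgroup.zpowers w) M le_sup_left hle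
      rw [hrel] at hmul
      rcases (Nat.dvd_prime hp).mp (Dvd.intro_left _ hmul :
          (U ⊔ Subgroup.zpowers w).relIndex M ∣ p) with h1 | h1
      · exact Subgroup.relIndex_eq_one.mp h1
      · exfalso
        rw [h1, Nat.mul_eq_right hp.ne_zero, Subgroup.relIndex_eq_one] at hmul
        exact hwU (hmul (Subgroup.mem_sup_right (Subgroup.mem_zpowers w)))
    set E := Subgroup.zpowers z ⊔ Subgroup.zpowers w with hE
    have hnorm : Subgroup.zpowers z ≤ Subgroup.normalizer (Subgroup.zpowers w : Set G) := by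
      refine le_trans ?_ (Subgroup.centralizer_le_normalizer _)
      rw [Subgroup.zpowers_le, Subgroup.mem_centralizer_iff]
      rintro _ ⟨i, rfl⟩
      exact (hcwz.zpow_left i).eq
    have hEmem : ∀ x ∈ E, ∃ i j : ℤ, x = z ^ i * w ^ j := by
      intro x hx
      rw [hE, ← SetLike.mem_coe, Subgroup.coe_mul_of_left_le_normalizer_right _ _ hnorm] at hx
      obtain ⟨_, ⟨i, rfl⟩, _, ⟨j, rfl⟩, rfl⟩ := hx
      exact ⟨i, j, rfl⟩
    have hom : Cfsg.omegaOne p M = E := by
      refine le_antisymm ((Subgroup.closure_le _).mpr ?_) (sup_le (Subgroup.zpowers_le.mpr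
        (Subgroup.subset_closure ⟨hUM (hUu.symm ▸ zpow_mem (Subgroup.mem_zpowers u) _), hzp⟩))
        (Subgroup.zpowers_le.mpr (Subgroup.subset_closure ⟨hwM, hwp⟩)))
      rintro x ⟨hxM, hxp⟩
      rw [hgenM, ← SetLike.mem_coe, Subgroup.normal_mul] at hxM
      obtain ⟨v, hv, wj, hwj, rfl⟩ := hxM
      rw [SetLike.mem_coe, hUu] at hv
      obtain ⟨l, rfl⟩ := Subgroup.mem_zpowers_iff.mp hv
      obtain ⟨j, rfl⟩ := (mem_powers_iff_mem_zpowers (x := w)).mpr hwj
      dsimp only at hxp ⊢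
      have hwjM : w ^ j ∈ M := pow_mem hwM j
      obtain ⟨s', hs', hsp'⟩ := hsum _ ((hmemM _).mp hwjM)
      rw [mul_pow_formula (hact (w ^ j)), ← pow_mul, mul_comm j p, pow_mul, hwp, one_pow, mul_one,
        hzero, hs', ← mul_assoc, mul_comm l, mul_assoc, mul_dvd_mul_iff_left hp0] at hxp
      have hcop' : IsCoprime (q : ℤ) s' := by
        rw [hq, Nat.cast_pow]
        exact IsCoprime.pow_left (hpp.coprime_iff_not_dvd.mpr hsp')
      obtain ⟨c, rfl⟩ := hcop'.dvd_of_dvd_mul_right hxp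
      rw [zpow_mul, ← hz]
      exact mul_mem (Subgroup.mem_sup_left (zpow_mem (Subgroup.mem_zpowers z) c))
        (Subgroup.mem_sup_right (pow_mem (Subgroup.mem_zpowers w) j))
    have hEel : Cfsg.IsElementaryAbelian p E := by
      refine ⟨⟨⟨fun a b => Subtype.ext ?_⟩⟩, fun a ha => ?_⟩
      · show (a : G) * b = b * a
        obtain ⟨i, j, e1⟩ := hEmem a a.2
        obtain ⟨i', j', e2⟩ := hEmem b b.2
        rw [e1, e2]
        exact ((((Commute.refl z).zpow_zpow i i').mul_right (hcwz.symm.zpow_zpow i j')).mul_left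
          ((hcwz.zpow_zpow j i').mul_right ((Commute.refl w).zpow_zpow j j'))).eq
      · obtain ⟨i, j, rfl⟩ := hEmem a ha
        rw [((hcwz.symm).zpow_zpow i j).mul_pow, ← zpow_natCast, ← zpow_natCast, zpow_comm z,
          zpow_comm w, zpow_natCast, zpow_natCast, hzp, hwp, one_zpow, one_zpow, one_mul]
    have hdisj : Disjoint (Subgroup.zpowers z) (Subgroup.zpowers w) := by
      rw [disjoint_iff, eq_bot_iff]
      rintro x ⟨hxz, hxw⟩
      have hxU : x ∈ U := (Subgroup.zpowers_le.mpr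
        (hUu.symm ▸ zpow_mem (Subgroup.mem_zpowers u) _ : z ∈ U)) hxz
      rw [Subgroup.mem_bot]
      by_contra hx1
      apply hwU
      have h1 : Subgroup.zpowers x = Subgroup.zpowers w := by
        refine Subgroup.eq_of_le_of_card_ge (Subgroup.zpowers_le.mpr hxw) ?_
        have hd := orderOf_dvd_of_mem_zpowers hxw
        rw [howp] at hd
        rw [Nat.card_zpowers, Nat.card_zpowers, howp,
          ((Nat.dvd_prime hp).mp hd).resolve_left fun h => hx1 (orderOf_eq_one_iff.mp h)]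
      exact Subgroup.zpowers_le.mpr hxU (h1 ▸ Subgroup.mem_zpowers w)
    have hEcard : Nat.card E = p ^ 2 := by
      have h1 : Nat.card E = Nat.card (Subgroup.zpowers z × Subgroup.zpowers w) := by
        refine (Nat.card_eq_of_bijective (fun t : Subgroup.zpowers z × Subgroup.zpowers w =>
          (⟨(t.1 : G) * t.2, mul_mem (Subgroup.mem_sup_left t.1.2) (Subgroup.mem_sup_right t.2.2)⟩ : E))
          ⟨fun a b hab => ?_, fun a => ?_⟩).symm
        · exact Subgroup.mul_injective_of_disjoint hdisj (congrArg Subtype.val hab)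
        · obtain ⟨i, j, e1⟩ := hEmem a a.2
          exact ⟨(⟨z ^ i, i, rfl⟩, ⟨w ^ j, j, rfl⟩), Subtype.ext e1.symm⟩
      rw [h1, Nat.card_prod, Nat.card_zpowers, Nat.card_zpowers, hzo, howp, sq]
    refine ⟨hrel, hom ▸ hEel, hom ▸ hEcard, ?_⟩
    -- characteristic
    have hinv : ∀ g x : G, x ∈ E → g * x * g⁻¹ ∈ E := by
      intro g x hx
      have hle : (Cfsg.omegaOne p M).map (MulAut.conj g).toMonoidHom ≤ Cfsg.omegaOne p M := by
        unfold Cfsg.omegaOne
        rw [MonoidHom.map_closure]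
        refine Subgroup.closure_mono ?_
        rintro _ ⟨y, ⟨hy1, hy2⟩, rfl⟩
        exact ⟨hMn.conj_mem y hy1 g, by
          show ((MulAut.conj g) y) ^ p = 1
          rw [← map_pow, hy2, map_one]⟩
      rw [← hom] at hx ⊢
      exact hle ⟨x, hx, rfl⟩
    rw [hom, Subgroup.characteristic_iff_map_le]
    rintro φ _ ⟨x, hx, rfl⟩
    show φ x ∈ E
    have hexp : ∀ x ∈ E, x ^ p = 1 := hEel.2
    rw [← hom]
    refine Subgroup.subset_closure ⟨(hmemM _).mpr ?_, by rw [← map_pow, hexp x hx, map_one]⟩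
    -- the commutator of `φ x` with `u` lies in `φ E`
    have hmem : φ.symm (φ x * u * (φ x)⁻¹ * u⁻¹) ∈ E := by
      rw [map_mul, map_mul, map_mul, map_inv, map_inv, MulEquiv.symm_apply_apply, mul_assoc, mul_assoc,
        ← mul_assoc (φ.symm u)]
      exact mul_mem hx (hinv _ _ (inv_mem hx))
    have h1 := congrArg φ (hexp _ hmem)
    rw [map_pow, MulEquiv.apply_symm_apply, map_one, hact, ← zpow_sub_one, ← zpow_natCast,
      ← zpow_mul, hzero, mul_comm (act (φ x) - 1)] at h1
    exact (mul_dvd_mul_iff_left hp0).mp h1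
  · -- maximal class
    have hsplit : U = M ∨ (p = 2 ∧ n = 2) := by
      by_cases h : U = M
      · exact Or.inl h
      · exact Or.inr (by by_contra h2; exact hB ⟨h, h2⟩)
    have hact1 : ((p : ℤ) * q) ∣ act 1 - 1 := by
      rw [← hzeq, ← hact, zpow_one]; group
    have hpowact : ∀ (g : G) (i : ℕ), ((p : ℤ) * q) ∣ act (g ^ i) - act g ^ i := by
      intro g i
      induction i with
      | zero => rw [pow_zero, pow_zero]; exact hact1
      | succ i ih =>
        have h1 := hmul (g ^ i) g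
        rw [← pow_succ] at h1
        have h2 : act (g ^ (i + 1)) - act g ^ (i + 1) =
            (act (g ^ (i + 1)) - act (g ^ i) * act g) + (act (g ^ i) - act g ^ i) * act g := by ring
        rw [h2]
        exact dvd_add h1 (ih.mul_right _)
    have hsqU : ∀ (g : G) (i : ℕ), g ^ i ∈ U → ((p : ℤ) * q) ∣ act g ^ i - 1 := fun g i hg => by
      have h1 := dvd_sub ((hmemU _).mp hg) (hpowact g i)
      rwa [show act (g ^ i) - 1 - (act (g ^ i) - act g ^ i) = act g ^ i - 1 by ring] at h1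
    have hexists : ∀ g : G, g ∉ U → ∃ i : ℕ, g ^ p ^ i ∉ U ∧ g ^ p ^ (i + 1) ∈ U := by
      intro g hg
      obtain ⟨k, hk⟩ := hG g
      have hex : ∃ i, g ^ p ^ i ∈ U := ⟨k, hk ▸ one_mem U⟩
      have h0 : Nat.find hex ≠ 0 := fun h => hg (by
        have := Nat.find_spec hex
        rwa [h, pow_zero, pow_one] at this)
      refine ⟨Nat.find hex - 1, Nat.find_min hex (by omega), ?_⟩
      rw [show Nat.find hex - 1 + 1 = Nat.find hex by omega]
      exact Nat.find_spec hex
    obtain ⟨g₀, hg₀⟩ : ∃ g₀, g₀ ∉ U := by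
      by_contra h
      push Not at h
      exact hna ⟨⟨fun a b => (Subgroup.mem_centralizer_iff.mp (hC.ge (h b)) a (h a))⟩⟩
    have hp2 : p = 2 := by
      rcases hsplit with hUMeq | h
      · by_contra hp2
        obtain ⟨i, hi, hi1⟩ := hexists g₀ hg₀
        rw [pow_succ, pow_mul] at hi1
        set h := g₀ ^ p ^ i with hh
        have h1 := hsqU h p hi1
        have hF : (p : ℤ) ∣ act h - 1 := by
          have h2 := (ZMod.intCast_zmod_eq_zero_iff_dvd _ p).mpr ((dvd_mul_right _ _).trans h1)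
          push_cast at h2
          rw [ZMod.pow_card] at h2
          rw [← ZMod.intCast_zmod_eq_zero_iff_dvd]
          push_cast
          exact h2
        obtain ⟨s, hs, hsp⟩ := geom_sum_unit hp (Or.inl ⟨hp2, hF⟩)
        rw [← geom_sum_mul, hs, mul_assoc, mul_dvd_mul_iff_left hp0] at h1
        have hcop : IsCoprime (q : ℤ) s := by
          rw [hq, Nat.cast_pow]
          exact IsCoprime.pow_left (hpp.coprime_iff_not_dvd.mpr hsp)
        exact hi (hUMeq.symm ▸ (hmemM h).mpr (hcop.dvd_of_dvd_mul_left h1))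
      · exact h.1
    subst hp2
    push_cast at hzero hzeq hmemU hmul hact1 hpowact hsqU
    have hq2 : (2 : ℤ) ∣ (q : ℤ) := by
      rw [hq]; exact_mod_cast (dvd_pow_self 2 (show n - 1 ≠ 0 by omega))
    have hq4 : 3 ≤ n → (4 : ℤ) ∣ (q : ℤ) := fun h => by
      rw [hq]
      exact_mod_cast (pow_dvd_pow 2 (show 2 ≤ n - 1 by omega) : 2 ^ 2 ∣ 2 ^ (n - 1))
    have hn2q : n = 2 → (q : ℤ) = 2 := fun h => by rw [hq, h]; norm_num
    -- the action of an element outside `U` whose square is in `U`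
    have hkey : ∀ h : G, h ∉ U → h ^ 2 ∈ U →
        (2 * (q : ℤ)) ∣ act h + 1 ∨ (3 ≤ n ∧ (2 * (q : ℤ)) ∣ act h + 1 - q) := by
      intro h hh hh2
      have h1 := hsqU h 2 hh2
      obtain ⟨d, hd⟩ := hq2
      have hodd : ∃ c, act h = 2 * c + 1 := by
        rcases Int.even_or_odd (act h) with ⟨c, hc⟩ | ⟨c, hc⟩
        · exfalso
          obtain ⟨e, he⟩ := h1
          rw [hc] at he
          have h5 : (2 : ℤ) ∣ 1 := ⟨2 * c ^ 2 - (q : ℤ) * e, by linear_combination (-1 : ℤ) * he⟩
          norm_num at h5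
        · exact ⟨c, hc⟩
      obtain ⟨c, hc⟩ := hodd
      have h3 : (q : ℤ) ∣ 2 * c * (c + 1) := by
        obtain ⟨e, he⟩ := h1
        rw [hc] at he
        exact ⟨e, by linarith⟩
      have hqc : IsCoprime (2 : ℤ) c → (q : ℤ) ∣ act h + 1 := fun hcop => by
        have hcq : IsCoprime (q : ℤ) c := by
          rw [hq, Nat.cast_pow]; exact IsCoprime.pow_left (by exact_mod_cast hcop)
        rw [hc, show 2 * c + 1 + 1 = 2 * (c + 1) by ring]
        exact hcq.dvd_of_dvd_mul_left (by rwa [← mul_assoc, mul_comm c 2])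
      have hplus : (q : ℤ) ∣ act h + 1 := by
        rcases Int.even_or_odd c with hce | hco
        · have hcq : IsCoprime (q : ℤ) (c + 1) := by
            rw [hq, Nat.cast_pow]
            refine IsCoprime.pow_left ?_
            obtain ⟨e, he⟩ := hce
            exact ⟨-e, 1, by push_cast; linarith⟩
          have h4 : (q : ℤ) ∣ act h - 1 := by
            rw [hc, add_sub_cancel_right]
            exact hcq.dvd_of_dvd_mul_right h3
          rcases hsplit with hUMeq | ⟨-, hn⟩
          · exact absurd (hUMeq.symm ▸ (hmemM h).mpr h4) hh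
          · rw [hn2q hn, hc]; exact ⟨c + 1, by ring⟩
        · refine hqc ?_
          obtain ⟨e, he⟩ := hco
          exact ⟨-e, 1, by linarith⟩
      obtain ⟨t, ht⟩ := hplus
      rcases Int.even_or_odd t with ⟨e, he⟩ | ⟨e, he⟩
      · exact Or.inl ⟨e, by rw [ht, he]; ring⟩
      · refine Or.inr ⟨?_, e, by rw [ht, he]; ring⟩
        by_contra hn3
        refine hh ((hmemU h).mpr ⟨e, ?_⟩)
        rw [he, hn2q (by omega)] at ht
        rw [hn2q (by omega)]
        linarith
    have hplus' : ∀ h : G, h ∉ U → h ^ 2 ∈ U → (q : ℤ) ∣ act h + 1 := fun h hh hh2 => by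
      rcases hkey h hh hh2 with hd | ⟨-, hd⟩
      · exact (dvd_mul_left _ _).trans hd
      · simpa using dvd_add ((dvd_mul_left _ _).trans hd) (dvd_refl (q : ℤ))
    have hsq : ∀ g : G, g ^ 2 ∈ U := by
      intro g
      by_cases hg : g ∈ U
      · exact pow_mem hg 2
      by_contra hg2
      obtain ⟨i, hi, hi1⟩ := hexists g hg
      cases i with
      | zero => exact hg2 (by simpa using hi1)
      | succ i =>
        set h := g ^ 2 ^ i with hh
        have e1 : g ^ 2 ^ (i + 1) = h ^ 2 := by rw [hh, ← pow_mul, pow_succ]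
        have e2 : g ^ 2 ^ (i + 1 + 1) = (h ^ 2) ^ 2 := by rw [← e1, ← pow_mul, pow_succ]
        rw [e1] at hi
        rw [e2] at hi1
        by_cases hn3 : 3 ≤ n
        · have hd := (hq4 hn3).trans (hplus' _ hi hi1)
          have hd2 : (4 : ℤ) ∣ act (h ^ 2) - act h ^ 2 := by
            refine dvd_trans ?_ (hpowact h 2)
            exact (hq4 hn3).trans (dvd_mul_left _ _)
          have h1 := dvd_sub hd hd2
          rw [show act (h ^ 2) + 1 - (act (h ^ 2) - act h ^ 2) = act h ^ 2 + 1 by ring] at h1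
          have h2 := (ZMod.intCast_zmod_eq_zero_iff_dvd _ 4).mpr (by exact_mod_cast h1)
          push_cast at h2
          revert h2
          generalize ((act h : ℤ) : ZMod 4) = x
          revert x
          decide
        · have hn : n = 2 := by omega
          refine hi ((hmemU _).mpr ?_)
          have h1 := hpowact h 2
          have hodd : (2 : ℤ) * q ∣ act h ^ 2 - 1 := by
            rw [hn2q hn]
            rcases Int.even_or_odd (act h) with ⟨c, hc⟩ | ⟨c, hc⟩
            · exfalso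
              have h2 := hmul h h⁻¹
              rw [mul_inv_cancel, hc] at h2
              obtain ⟨e, he⟩ := dvd_sub hact1 h2
              have h5 : (2 : ℤ) ∣ 1 := ⟨c * act h⁻¹ - (q : ℤ) * e, by linear_combination (-1 : ℤ) * he⟩
              norm_num at h5
            · exact ⟨c * (c + 1), by rw [hc]; ring⟩
          have := dvd_add h1 hodd
          rwa [sub_add_sub_cancel] at this
    have hprod : ∀ g h : G, g ∉ U → h ∉ U → g * h ∈ U := by
      intro g h hg hh
      have h3 : (q : ℤ) ∣ act g * act h - 1 := by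
        have := dvd_sub ((hplus' h hh (hsq h)).mul_left (act g)) (hplus' g hg (hsq g))
        rwa [show act g * (act h + 1) - (act g + 1) = act g * act h - 1 by ring] at this
      rcases hsplit with hUMeq | ⟨-, hn⟩
      · rw [hUMeq, hmemM]
        have h4 := dvd_add ((dvd_mul_left _ _).trans (hmul g h)) h3
        rwa [sub_add_sub_cancel] at h4
      · rw [hmemU]
        have hd : ∀ x : G, x ∉ U → (2 * (q : ℤ)) ∣ act x + 1 := fun x hx =>
          (hkey x hx (hsq x)).resolve_right fun h' => by omega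
        have h4 := dvd_sub ((hd h hh).mul_left (act g)) (hd g hg)
        rw [show act g * (act h + 1) - (act g + 1) = act g * act h - 1 by ring] at h4
        have := dvd_add (hmul g h) h4
        rwa [sub_add_sub_cancel] at this
    have hidx : U.index = 2 := by
      rw [← Subgroup.relIndex_top_right]
      refine Cfsg.Agent.Lib.TwoGroup.relIndex_eq_two (Subgroup.mem_top g₀) hg₀ le_top fun b _ => ?_
      by_cases hb : b ∈ U
      · exact Or.inl hb
      · exact Or.inr (hprod b g₀ hb hg₀)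
    have hcard : Nat.card G = 2 ^ (n + 1) := by
      rw [← Subgroup.card_mul_index U, hidx, hUn, pow_succ]
    left
    refine ⟨rfl, hcard, ?_⟩
    obtain ⟨k, hk⟩ := Subgroup.mem_zpowers_iff.mp (hUu ▸ hsq g₀)
    have hH : ∀ b : G, b ∉ U → ∀ g ∈ (⊤ : Subgroup G),
        g ∈ Subgroup.zpowers u ∨ b * g ∈ Subgroup.zpowers u := by
      intro b hb g _
      by_cases hg : g ∈ U
      · exact Or.inl (hUu ▸ hg)
      · exact Or.inr (hUu ▸ hprod b g hb hg)
    have hfix : (2 * (q : ℤ)) ∣ (act g₀ - 1) * k := by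
      rw [sub_one_mul, ← hzeq, ← hconj, hk]
      group
    have hou : orderOf u = 2 * q := by rw [ho, hq, ← pow_succ']; congr 1; omega
    have hnot : ∀ b : G, b ∉ U → b ∉ Subgroup.zpowers u := fun b hb h => hb (hUu ▸ h)
    rcases hkey g₀ hg₀ (hsq g₀) with hd | ⟨hn3, hd⟩
    · have hkq : (q : ℤ) ∣ k := by
        have h2 := dvd_sub (hd.mul_right k) hfix
        rw [show (act g₀ + 1) * k - (act g₀ - 1) * k = 2 * k by ring,
          mul_dvd_mul_iff_left (two_ne_zero)] at h2
        exact h2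
      have hba : g₀ * u * g₀⁻¹ = u⁻¹ := by
        rw [hact, ← zpow_neg_one, hzeq, sub_neg_eq_add]
        exact hd
      obtain ⟨t, ht⟩ := hkq
      rcases Int.even_or_odd t with ⟨e, he⟩ | ⟨e, he⟩
      · refine Or.inl ⟨2 * q, ?_⟩
        have hb : g₀ * g₀ = 1 := by
          rw [← sq, ← hk, hzero]; exact ⟨e, by rw [ht, he]; ring⟩
        obtain ⟨f⟩ := Cfsg.Agent.Lib.TwoGroup.nonempty_mulEquiv_dihedral hou hb hba (hnot _ hg₀) ⊤
          (Subgroup.mem_top _) (Subgroup.mem_top _) (hH g₀ hg₀)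
        exact ⟨Subgroup.topEquiv.symm.trans f⟩
      · refine Or.inr (Or.inl ⟨q, ?_⟩)
        have hb : g₀ * g₀ = u ^ q := by
          rw [← sq, ← hk, ← zpow_natCast u q, hzeq]; exact ⟨e, by rw [ht, he]; ring⟩
        obtain ⟨f⟩ := Cfsg.Agent.Lib.TwoGroup.nonempty_mulEquiv_quaternion hou hb hba (hnot _ hg₀) ⊤
          (Subgroup.mem_top _) (Subgroup.mem_top _) (hH g₀ hg₀)
        exact ⟨Subgroup.topEquiv.symm.trans f⟩
    · refine Or.inr (Or.inr ⟨n, hn3, hcard, ?_⟩)
      obtain ⟨d, hqd⟩ := hq4 hn3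
      have hkq : (q : ℤ) ∣ k := by
        have h2 := dvd_sub (hd.mul_right k) hfix
        rw [show (act g₀ + 1 - q) * k - (act g₀ - 1) * k = 2 * ((1 - 2 * d) * k) by rw [hqd]; ring,
          mul_dvd_mul_iff_left (two_ne_zero)] at h2
        refine IsCoprime.dvd_of_dvd_mul_left ?_ h2
        rw [hq, Nat.cast_pow]
        exact IsCoprime.pow_left ⟨d, 1, by push_cast; ring⟩
      obtain ⟨t, ht⟩ := hkq
      obtain ⟨y, hyU, hy2, hyact⟩ : ∃ y : G, y ∉ U ∧ y * y = 1 ∧ y * u * y⁻¹ = g₀ * u * g₀⁻¹ := by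
        rcases Int.even_or_odd t with ⟨e, he⟩ | ⟨e, he⟩
        · exact ⟨g₀, hg₀, by rw [← sq, ← hk, hzero]; exact ⟨e, by rw [ht, he]; ring⟩, rfl⟩
        · refine ⟨g₀ * u, fun h => hg₀ ?_, ?_, by group⟩
          · have := mul_mem h (inv_mem hu)
            rwa [mul_inv_cancel_right] at this
          · calc g₀ * u * (g₀ * u) = g₀ * u * g₀⁻¹ * g₀ ^ 2 * u := by group
              _ = u ^ (act g₀ + k + 1) := by rw [hact, ← hk]; group
              _ = 1 := by
                rw [hzero]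
                obtain ⟨r, hr⟩ := hd
                exact ⟨r + e + 1, by rw [ht, he]; linear_combination hr⟩
      refine ⟨u, y, ho, orderOf_eq_prime (by rw [sq, hy2]) (fun h => hyU (h ▸ one_mem U)), ?_⟩
      have hcast : ((2 ^ (n - 1) - 1 : ℕ) : ℤ) = (q : ℤ) - 1 := by
        rw [← hq, Nat.cast_sub (Nat.one_le_iff_ne_zero.mpr (by exact_mod_cast hq0)), Nat.cast_one]
      rw [hyact, hact, ← zpow_natCast, hcast, hzeq]
      rw [show act g₀ - ((q : ℤ) - 1) = act g₀ + 1 - q by ring]
      exact hd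

end Cfsg.Agent.S3761
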