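import Cfsg.Statements.S3762
import Cfsg.Agent.Lib.SymplecticType.Basic
import Cfsg.Agent.Lib.PGroup.Critical
import Cfsg.Agent.Lib.ExtraCube.Basic
import Cfsg.Agent.S3761

set_option autoImplicit false
open Cfsg

namespace Cfsg.Agent.S3762

open Subgroup Cfsg.Agent.Lib
open scoped commutatorElement

set_option linter.style.haveILetI false

theorem commutator_pow_left_of_commute {G : Type*} [Group G] {x g : G} (h : Commute x ⁅x, g⁆)
    (n : ℕ) : ⁅x ^ n, g⁆ = ⁅x, g⁆ ^ n := by
  induction n with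
  | zero => simp [commutatorElement_one_left]
  | succ n ih =>
    have h1 : ⁅x * x ^ n, g⁆ = x * ⁅x ^ n, g⁆ * x⁻¹ * ⁅x, g⁆ := by
      simp [commutatorElement_def, mul_assoc]
    rw [pow_succ', h1, ih, (h.pow_right n).eq, mul_inv_cancel_right, pow_succ]

theorem isExtraspecial_of {E : Type*} [Group E] [Finite E] {p : ℕ} [hp : Fact p.Prime]
    (hE : IsPGroup p E) (hz : Nat.card (center E) = p) (hne : ∃ a b : E, a * b ≠ b * a)
    (hc : ∀ a b : E, ⁅a, b⁆ ∈ center E) (hpow : ∀ a : E, a ^ p ∈ center E) :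
    Cfsg.IsExtraspecial p E := by
  have hle : commutator E ≤ center E := by
    rw [commutator_def, Subgroup.commutator_le]
    exact fun a _ b _ => hc a b
  have hcomm : commutator E = center E := by
    refine eq_of_le_of_card_ge hle ?_
    rw [hz]
    obtain ⟨k, hk⟩ := IsPGroup.iff_card.1 (hE.to_subgroup (commutator E))
    rw [hk]
    refine Nat.le_self_pow ?_ p
    rintro rfl
    rw [pow_zero, card_eq_one] at hk
    obtain ⟨a, b, hab⟩ := hne
    apply hab
    have hab' := Subgroup.commutator_mem_commutator (mem_top a) (mem_top b)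
    rw [← commutator_def, hk, mem_bot, commutatorElement_eq_one_iff_mul_comm] at hab'
    exact hab'
  refine ⟨⟨hE, le_antisymm ?_ ?_, hcomm⟩, hz⟩
  · exact PFrattini.frattini_le hle hpow
  · rw [← hcomm]; exact PFrattini.commutator_le_frattini hE

/-- Elements commuting with generators of `A ⊔ B` commute with all of it. -/
theorem mem_centralizer_of_le_sup {G : Type*} [Group G] {A B C : Subgroup G} (hC : C ≤ A ⊔ B)
    {x : G} (hA : x ∈ centralizer (A : Set G)) (hB : x ∈ centralizer (B : Set G)) :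
    x ∈ centralizer (C : Set G) := by
  have hle : A ⊔ B ≤ centralizer ({x} : Set G) :=
    sup_le (fun a ha => mem_centralizer_singleton_iff.mpr (mem_centralizer_iff.mp hA a ha))
      (fun b hb => mem_centralizer_singleton_iff.mpr (mem_centralizer_iff.mp hB b hb))
  exact mem_centralizer_iff.mpr fun c hc => mem_centralizer_singleton_iff.mp (hle (hC hc))

theorem mem_of_zpow_mem {G : Type*} [Group G] {p : ℕ} (hp : p.Prime) {H : Subgroup G} {x : G}
    {i : ℤ} (hi : ¬ (p : ℤ) ∣ i) (h1 : x ^ i ∈ H) (h2 : x ^ p ∈ H) : x ∈ H := by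
  obtain ⟨u, v, huv⟩ := (Nat.prime_iff_prime_int.1 hp).coprime_iff_not_dvd.2 hi
  rw [← zpow_one x, ← huv, zpow_add, mul_comm u, mul_comm v, zpow_mul, zpow_mul, zpow_natCast]
  exact mul_mem (zpow_mem h2 u) (zpow_mem h1 v)

/-- Let G be a finite p-group of symplectic type: every characteristic abelian subgroup of G is cyclic. Then G = E ∗ R is a central product of subgroups E and R (they commute elementwise and generate G) where E is extraspecial or trivial, and R is cyclic, or p = 2 and R is dihedral, semidihedral or generalized quaternion of order at least 16. -/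
theorem result {G : Type*} [Group G] [Finite G] {p : ℕ} [Fact p.Prime] (hG : IsPGroup p G) (hsymp : ∀ A : Subgroup G, A.Characteristic → IsMulCommutative A → IsCyclic A) : ∃ E R : Subgroup G, (∀ e ∈ E, ∀ r ∈ R, e * r = r * e) ∧ E ⊔ R = ⊤ ∧ (E = ⊥ ∨ Cfsg.IsExtraspecial p ↥E) ∧ (IsCyclic R ∨ (p = 2 ∧ 16 ≤ Nat.card R ∧ ((∃ m : ℕ, Nonempty (↥R ≃* DihedralGroup m)) ∨ (∃ m : ℕ, Nonempty (↥R ≃* QuaternionGroup m)) ∨ Cfsg.IsQuasiDihedral ↥R))) := by
  classical
  have hp : p.Prime := Fact.out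
  obtain ⟨C, hC⟩ := Critical.exists_critical hG
  haveI := hC.char
  set Z := C ⊓ centralizer (C : Set G) with hZdef
  haveI hZchar : Z.Characteristic := characteristic_inf
  haveI hZab : IsMulCommutative Z := ⟨⟨fun a b => Subtype.ext
    ((mem_centralizer_iff.mp (mem_inf.mp a.2).2 _ (mem_inf.mp b.2).1).symm)⟩⟩
  have hZcyc : IsCyclic Z := hsymp Z hZchar hZab
  rcases subsingleton_or_nontrivial G with hss | hnt
  · exact ⟨⊥, ⊤, fun e _ r _ => Subsingleton.elim _ _, bot_sup_eq _, Or.inl rfl, Or.inl inferInstance⟩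
  -- the generator of `Z` and the subgroup of order `p`
  obtain ⟨⟨c, hcZ⟩, hcgen⟩ := hZcyc.exists_generator
  have hcZ' : zpowers c = Z := le_antisymm (zpowers_le.mpr hcZ) fun x hx => by
    obtain ⟨k, hk⟩ := mem_zpowers_iff.mp (hcgen ⟨x, hx⟩)
    exact mem_zpowers_iff.mpr ⟨k, congrArg Subtype.val hk⟩
  haveI : Nontrivial (center G) := hG.center_nontrivial
  obtain ⟨z1, hz1o⟩ := exists_prime_orderOf_dvd_card' (G := center G) p (by
    obtain ⟨k, hk⟩ := IsPGroup.iff_card.1 (hG.to_subgroup (center G))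
    rw [hk]
    refine dvd_pow_self p fun h0 => ?_
    rw [h0, pow_zero] at hk
    exact (Finite.one_lt_card (α := center G)).ne' hk)
  set Z1 := zpowers (z1 : G) with hZ1
  have hz1' : orderOf (z1 : G) = p := (orderOf_coe z1).trans hz1o
  have hz1p : (z1 : G) ^ p = 1 := orderOf_dvd_iff_pow_eq_one.mp (dvd_of_eq hz1')
  have hz1ne : (z1 : G) ≠ 1 := fun h => by rw [h, orderOf_one] at hz1'; exact hp.one_lt.ne hz1'
  have hZ1card : Nat.card Z1 = p := by rw [hZ1, Nat.card_zpowers, hz1']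
  have hZ1cen : Z1 ≤ center G := zpowers_le.mpr z1.2
  have hZ1pow : ∀ a ∈ Z1, a ^ p = 1 := by
    intro a ha
    obtain ⟨i, rfl⟩ := mem_zpowers_iff.mp ha
    rw [← zpow_natCast, zpow_comm, zpow_natCast, hz1p, one_zpow]
  have hcenZ : center G ≤ Z := fun a ha =>
    mem_inf.mpr ⟨hC.centralizer_le (center_le_centralizer _ ha), center_le_centralizer _ ha⟩
  have hZ1Z : Z1 ≤ Z := hZ1cen.trans hcenZ
  haveI : IsMulCommutative Z1 := ⟨⟨fun a b => Subtype.ext
    ((mem_center_iff.mp (hZ1cen a.2) b).symm)⟩⟩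
  haveI hZ1n : Z1.Normal := ⟨fun a ha g => by
    rw [mem_center_iff.mp (hZ1cen ha) g, mul_inv_cancel_right]; exact ha⟩
  have hom1 : ∀ a ∈ Z, a ^ p = 1 → a ∈ Z1 := fun a ha hap =>
    SymplecticType.mem_zpowers_of_pow_eq_one hZcyc ha (hZ1Z (mem_zpowers _)) hap hz1p hz1ne
  -- commutators
  have hcommZ : ∀ x ∈ C, ∀ g : G, ⁅x, g⁆ ∈ Z := fun x hx g =>
    hC.comm_le (commutator_mem_commutator hx (mem_top g))
  have hcomm1 : ∀ x ∈ C, ∀ g : G, Commute (x ^ p) g → ⁅x, g⁆ ∈ Z1 := by
    intro x hx g hxg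
    refine hom1 _ (hcommZ x hx g) ?_
    have hcm : Commute x ⁅x, g⁆ := mem_centralizer_iff.mp (mem_inf.mp (hcommZ x hx g)).2 x hx
    rw [← commutator_pow_left_of_commute hcm, commutatorElement_eq_one_iff_mul_comm]
    exact hxg.eq
  have hCC : ∀ x ∈ C, ∀ y ∈ C, ⁅x, y⁆ ∈ Z1 := fun x hx y hy => hcomm1 x hx y
    (mem_centralizer_iff.mp (mem_inf.mp (hC.pow_mem x hx)).2 y hy).symm
  -- the extraspecial part
  obtain ⟨E, hEC, hCE, hEZ, hEes⟩ : ∃ E : Subgroup G, E ≤ C ∧ C ≤ E ⊔ Z ∧ E ⊓ Z ≤ Z1 ∧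
      (E = ⊥ ∨ Z1 ≤ E ∧ Cfsg.IsExtraspecial p E) := by
    by_cases hCab : C ≤ Z
    · exact ⟨⊥, bot_le, hCab.trans le_sup_right, by simp, Or.inl rfl⟩
    haveI : Finite (Subgroup G) := Finite.of_injective _ SetLike.coe_injective
    obtain ⟨E, ⟨hE1, hEC, hEZ⟩, hmax⟩ := Set.Finite.exists_maximal
      (s := {E : Subgroup G | Z1 ≤ E ∧ E ≤ C ∧ E ⊓ Z ≤ Z1}) (Set.toFinite _)
      ⟨Z1, le_rfl, hZ1Z.trans inf_le_left, inf_le_left⟩
    have key : ∀ y ∈ C, ∀ e ∈ E, y * e * y⁻¹ ∈ E := fun y hy e he => by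
      rw [show y * e * y⁻¹ = ⁅y, e⁆ * e by group]
      exact mul_mem (hE1 (hCC y hy e (hEC he))) he
    have hEn : C ≤ normalizer (E : Set G) := by
      intro x hx
      rw [mem_normalizer_iff]
      refine fun e => ⟨key x hx e, fun h => ?_⟩
      have := key x⁻¹ (inv_mem hx) _ h
      rwa [inv_inv, show x⁻¹ * (x * e * x⁻¹) * x = e by group] at this
    have hCE : C ≤ E ⊔ Z := by
      intro x hx
      by_contra hxE
      obtain ⟨z, hz, hzp⟩ : ∃ z ∈ Z, (x * z) ^ p ∈ Z1 := by
        have hxZ : x ^ p ∈ Z := hC.pow_mem x hx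
        by_cases hcp : c ^ p = 1
        · refine ⟨1, one_mem _, ?_⟩
          rw [mul_one]
          refine hom1 _ hxZ ?_
          obtain ⟨i, hi⟩ := mem_zpowers_iff.mp (hcZ'.symm ▸ hxZ)
          rw [← hi, ← zpow_natCast, zpow_comm, zpow_natCast, hcp, one_zpow]
        · obtain ⟨j, hj⟩ := mem_zpowers_iff.mp (SymplecticType.pow_mem_pow_center hG hsymp hcZ' hcp
            (fun a ha b hb => ⟨hcZ'.symm ▸ hcommZ a ha b, hZ1pow _ (hCC a ha b hb)⟩) x hx)
          refine ⟨c ^ (-j), zpow_mem hcZ _, ?_⟩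
          have hcm : Commute x (c ^ (-j)) :=
            mem_centralizer_iff.mp (mem_inf.mp (zpow_mem hcZ (-j))).2 x hx
          rw [hcm.mul_pow, ← hj, ← zpow_natCast (c ^ (-j)), zpow_comm, zpow_natCast, ← zpow_add,
            add_neg_cancel, zpow_zero]
          exact one_mem _
      set x' := x * z with hx'
      have hx'C : x' ∈ C := mul_mem hx (mem_inf.mp hz).1
      have hx'E : x' ∉ E ⊔ Z := fun h => hxE (by
        have := mul_mem h (mem_sup_right (inv_mem hz) : z⁻¹ ∈ E ⊔ Z)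
        rwa [hx', mul_inv_cancel_right] at this)
      have hS : E ⊔ zpowers x' ∈ {E : Subgroup G | Z1 ≤ E ∧ E ≤ C ∧ E ⊓ Z ≤ Z1} := by
        refine ⟨hE1.trans le_sup_left, sup_le hEC (zpowers_le.mpr hx'C), ?_⟩
        intro a ha
        obtain ⟨ha1, ha2⟩ := mem_inf.mp ha
        rw [← SetLike.mem_coe, coe_mul_of_right_le_normalizer_left _ _
          ((zpowers_le.mpr hx'C).trans hEn)] at ha1
        obtain ⟨e, he, _, ⟨i, rfl⟩, rfl⟩ := ha1
        refine hEZ (mem_inf.mpr ⟨mul_mem he ?_, ha2⟩)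
        by_cases hi : (p : ℤ) ∣ i
        · obtain ⟨k, rfl⟩ := hi
          show x' ^ ((p : ℤ) * k) ∈ E
          rw [zpow_mul, zpow_natCast]
          exact hE1 (zpow_mem hzp k)
        · refine absurd (mem_of_zpow_mem hp hi ?_ (mem_sup_left (hE1 hzp))) hx'E
          have h := mul_mem (mem_sup_left (inv_mem he) : e⁻¹ ∈ E ⊔ Z) (mem_sup_right ha2)
          rwa [inv_mul_cancel_left] at h
      exact hx'E (mem_sup_left (hmax hS le_sup_left (mem_sup_right (mem_zpowers x'))))
    refine ⟨E, hEC, hCE, hEZ, Or.inr ⟨hE1, ?_⟩⟩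
    have hne : ∃ a b : E, a * b ≠ b * a := by
      by_contra hcon
      push_neg at hcon
      have hEc : E ≤ centralizer (C : Set G) := fun a ha => mem_centralizer_of_le_sup hCE
        (mem_centralizer_iff.mpr fun b hb => congrArg Subtype.val (hcon ⟨b, hb⟩ ⟨a, ha⟩))
        (mem_centralizer_iff.mpr fun b hb =>
          (mem_centralizer_iff.mp (mem_inf.mp hb).2 a (hEC ha)).symm)
      exact hCab fun x hx => mem_inf.mpr ⟨hx, (sup_le hEc inf_le_right) (hCE hx)⟩
    have hcen : center E = Z1.subgroupOf E := by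
      ext ⟨a, ha⟩
      rw [mem_center_iff, mem_subgroupOf]
      refine ⟨fun h => hEZ (mem_inf.mpr ⟨ha, mem_inf.mpr ⟨hEC ha, ?_⟩⟩),
        fun h b => Subtype.ext (mem_center_iff.mp (hZ1cen h) b)⟩
      exact mem_centralizer_of_le_sup hCE
        (mem_centralizer_iff.mpr fun b hb => congrArg Subtype.val (h ⟨b, hb⟩))
        (mem_centralizer_iff.mpr fun b hb =>
          (mem_centralizer_iff.mp (mem_inf.mp hb).2 a (hEC ha)).symm)
    refine isExtraspecial_of (hG.to_subgroup E) ?_ hne (fun a b => ?_) fun a => ?_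
    · rw [hcen, Nat.card_congr (subgroupOfEquivOfLe hE1).toEquiv, hZ1card]
    · rw [hcen, mem_subgroupOf]
      exact hCC a (hEC a.2) b (hEC b.2)
    · rw [hcen, mem_subgroupOf]
      exact hEZ (mem_inf.mpr ⟨pow_mem a.2 p, hC.pow_mem a (hEC a.2)⟩)
  have hEp : ∀ e ∈ E, e ^ p ∈ Z1 := fun e he =>
    hEZ (mem_inf.mpr ⟨pow_mem he p, hC.pow_mem e (hEC he)⟩)
  -- `[E, G] ≤ Z1`
  have hEG : ∀ e ∈ E, ∀ g : G, ⁅e, g⁆ ∈ Z1 := fun e he g => hcomm1 e (hEC he) g
    (mem_center_iff.mp (hZ1cen (hEp e he)) g).symm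
  haveI hEn : E.Normal := by
    rcases hEes with rfl | ⟨hE1, -⟩
    · infer_instance
    · refine ⟨fun e he g => ?_⟩
      rw [show g * e * g⁻¹ = ⁅e, g⁆⁻¹ * e by group]
      exact mul_mem (inv_mem (hE1 (hEG e he g))) he
  set R := centralizer (E : Set G) with hR
  have hcommER : ∀ e ∈ E, ∀ r ∈ R, e * r = r * e := fun e he r hr =>
    mem_centralizer_iff.mp hr e he
  have hsup : E ⊔ R = ⊤ := by
    rcases hEes with rfl | ⟨hE1, -⟩
    · rw [bot_sup_eq, hR, eq_top_iff]
      exact fun g _ => mem_centralizer_iff.mpr fun b hb => by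
        rw [SetLike.mem_coe, mem_bot] at hb; rw [hb, one_mul, mul_one]
    · have hcount := SymplecticType.relIndex_centralizer_le (P := ⊤) hZ1card.le
        (hZ1cen.trans (center_le_centralizer _)) (hZ1cen.trans (center_le_centralizer _)) _ E rfl
        (hG.to_subgroup E) hE1 fun g _ x hx => by
          rw [← commutatorElement_inv x g]; exact inv_mem (hEG x hx g)
      rw [top_inf_eq, relIndex_top_right, ← hR] at hcount
      haveI : R.Normal := by rw [hR]; infer_instance
      have hRE : R ⊓ E = Z1 := by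
        refine le_antisymm (fun a ha => ?_) (le_inf (hZ1cen.trans (center_le_centralizer _)) hE1)
        obtain ⟨haR, haE⟩ := mem_inf.mp ha
        exact hEZ (mem_inf.mpr ⟨haE, mem_inf.mpr ⟨hEC haE, mem_centralizer_of_le_sup hCE haR
          (mem_centralizer_iff.mpr fun b hb =>
            (mem_centralizer_iff.mp (mem_inf.mp hb).2 a (hEC haE)).symm)⟩⟩)
      have h1 : R.relIndex (E ⊔ R) = Z1.relIndex E := by
        rw [relIndex_sup_right, ← inf_relIndex_right, hRE]
      have h2 := relIndex_mul_index (le_sup_right : R ≤ E ⊔ R)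
      rw [h1] at h2
      have hpos : 0 < Z1.relIndex E := Nat.pos_of_ne_zero index_ne_zero_of_finite
      have hpos' : 0 < (E ⊔ R).index := Nat.pos_of_ne_zero index_ne_zero_of_finite
      rw [← index_eq_one]
      nlinarith
  have hZR : Z ≤ R := inf_le_right.trans (centralizer_le (SetLike.coe_subset_coe.2 hEC))
  have hRZ : ∀ x ∈ R, x ∈ centralizer (Z : Set G) → x ∈ Z := fun x hx hxZ =>
    have hxC := mem_centralizer_of_le_sup hCE hx hxZ
    mem_inf.mpr ⟨hC.centralizer_le hxC, hxC⟩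
  have hEes' : E = ⊥ ∨ Cfsg.IsExtraspecial p E := hEes.imp id And.right
  by_cases hRab : IsMulCommutative R
  · have hRZ' : R = Z := le_antisymm (fun x hx => hRZ x hx (mem_centralizer_iff.mpr fun b hb =>
      setLike_mul_comm (hZR hb) hx)) hZR
    exact ⟨E, R, hcommER, hsup, hEes', Or.inl (hRZ' ▸ hZcyc)⟩
  have hne : ∃ a b : R, a * b ≠ b * a := by
    by_contra hcon
    push_neg at hcon
    exact hRab ⟨⟨hcon⟩⟩
  set f := QuotientGroup.mk' Z1 with hf
  have hiff : ∀ a b : G, Commute (f a) (f b) ↔ ⁅a, b⁆ ∈ Z1 := fun a b => by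
    rw [Commute, SemiconjBy, ← commutatorElement_eq_one_iff_mul_comm, ← map_commutatorElement,
      hf, QuotientGroup.mk'_apply, QuotientGroup.eq_one_iff]
  -- if `R` has order `p ^ 3` then `G` is extraspecial
  have hcube : Nat.card R = p ^ 3 → ∃ E R : Subgroup G, (∀ e ∈ E, ∀ r ∈ R, e * r = r * e) ∧
      E ⊔ R = ⊤ ∧ (E = ⊥ ∨ Cfsg.IsExtraspecial p E) ∧ IsCyclic R := by
    intro h3
    refine ⟨⊤, ⊥, fun e _ r hr => by rw [mem_bot.mp hr, mul_one, one_mul], by simp, Or.inr ?_,
      isCyclic_of_subsingleton⟩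
    have hcenR := ExtraCube.card_center h3 hne
    have hcR : center R = Z1.subgroupOf R := by
      refine (eq_of_le_of_card_ge (fun a ha => mem_center_iff.mpr fun b =>
        Subtype.ext (mem_center_iff.mp (hZ1cen ha) b)) ?_).symm
      rw [hcenR, Nat.card_congr (subgroupOfEquivOfLe (hZ1Z.trans hZR)).toEquiv, hZ1card]
    have hcG : center G = Z1 := le_antisymm (fun a ha => by
      have h : (⟨a, hZR (hcenZ ha)⟩ : R) ∈ center R :=
        mem_center_iff.mpr fun b => Subtype.ext (mem_center_iff.mp ha b)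
      rwa [hcR, mem_subgroupOf] at h) hZ1cen
    have hi : Nat.card (R ⧸ center R) = p ^ 2 := by
      have h := (center R).card_mul_index
      rw [hcenR, h3, pow_succ' p 2] at h
      rw [← index_eq_card]; exact Nat.eq_of_mul_eq_mul_left hp.pos h
    have hRpow : ∀ r : R, r ^ p ∈ center R := by
      intro r
      rw [← QuotientGroup.eq_one_iff, QuotientGroup.mk_pow]
      have hd := orderOf_dvd_natCard (r : R ⧸ center R)
      rw [hi] at hd
      obtain ⟨k, hk, hkk⟩ := (Nat.dvd_prime_pow hp).mp hd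
      rw [← orderOf_dvd_iff_pow_eq_one, hkk]
      rcases (show k ≤ 1 ∨ k = 2 by omega) with h | rfl
      · exact (pow_dvd_pow p h).trans (pow_one p).dvd
      · exfalso
        have hcyc : IsCyclic (R ⧸ center R) :=
          isCyclic_of_orderOf_eq_card (r : R ⧸ center R) (hkk.trans hi.symm)
        obtain ⟨a, b, hab⟩ := hne
        exact hab (commutative_of_cyclic_center_quotient (QuotientGroup.mk' (center R))
          (QuotientGroup.ker_mk' _).le a b)
    have hRcomm : ∀ r ∈ R, ∀ s ∈ R, ⁅r, s⁆ ∈ Z1 := by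
      intro r hr s hs
      have h : ⁅(⟨r, hr⟩ : R), ⟨s, hs⟩⁆ ∈ center R :=
        ExtraCube.commutator_le_center h3 hne
          (commutator_mem_commutator (mem_top _) (mem_top _))
      rwa [hcR, mem_subgroupOf] at h
    have hdec : ∀ g : G, ∃ e ∈ E, ∃ r ∈ R, g = e * r := fun g => by
      obtain ⟨e, he, r, hr, rfl⟩ := mem_sup_of_normal_left.mp (hsup ▸ mem_top g : g ∈ E ⊔ R)
      exact ⟨e, he, r, hr, rfl⟩
    have hq : ∀ a b : G, ⁅a, b⁆ ∈ Z1 := by
      intro a b
      rw [← hiff]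
      obtain ⟨e, he, r, hr, rfl⟩ := hdec a
      obtain ⟨e', he', r', hr', rfl⟩ := hdec b
      rw [map_mul f e r, map_mul f e' r']
      exact (((hiff e e').mpr (hEG e he e')).mul_right ((hiff e r').mpr (hEG e he r'))).mul_left
        (((hiff e' r).mpr (hEG e' he' r)).symm.mul_right ((hiff r r').mpr (hRcomm r hr r' hr')))
    refine isExtraspecial_of (hG.to_subgroup ⊤) ?_ ?_ ?_ ?_
    · have h : center (⊤ : Subgroup G) = (center G).subgroupOf ⊤ := by
        ext a
        rw [mem_center_iff, mem_subgroupOf, mem_center_iff]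
        exact ⟨fun h b => congrArg Subtype.val (h ⟨b, mem_top b⟩), fun h b => Subtype.ext (h b)⟩
      rw [h, hcG, Nat.card_congr (subgroupOfEquivOfLe le_top).toEquiv, hZ1card]
    · obtain ⟨a, b, hab⟩ := hne
      exact ⟨⟨a, mem_top _⟩, ⟨b, mem_top _⟩, fun h => hab (Subtype.ext (congrArg Subtype.val h :
        (a : G) * b = b * a))⟩
    · exact fun a b => mem_center_iff.mpr fun x => Subtype.ext
        (mem_center_iff.mp (hZ1cen (hq a b)) x)
    · intro a
      obtain ⟨e, he, r, hr, har⟩ := hdec a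
      refine mem_center_iff.mpr fun x => Subtype.ext (mem_center_iff.mp (hZ1cen ?_) x)
      show (a : G) ^ p ∈ Z1
      rw [har, Commute.mul_pow (hcommER e he r hr)]
      refine mul_mem (hEp e he) ?_
      have h := hRpow ⟨r, hr⟩
      rwa [hcR, mem_subgroupOf] at h
  -- `Z` is a self-centralising cyclic normal subgroup of `R`
  obtain ⟨n, hn⟩ := IsPGroup.iff_card.1 (hG.to_subgroup Z)
  have hUcyc : IsCyclic (Z.subgroupOf R) := by
    rw [(subgroupOfEquivOfLe hZR).isCyclic]; exact hZcyc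
  have hUn : Nat.card (Z.subgroupOf R) = p ^ n := by
    rw [Nat.card_congr (subgroupOfEquivOfLe hZR).toEquiv, hn]
  have hUC : centralizer (Z.subgroupOf R : Set R) = Z.subgroupOf R := by
    ext ⟨x, hx⟩
    rw [mem_subgroupOf, mem_centralizer_iff]
    refine ⟨fun h => hRZ x hx (mem_centralizer_iff.mpr fun b hb =>
      congrArg Subtype.val (h ⟨b, hZR hb⟩ hb)), fun h b hb => Subtype.ext ?_⟩
    exact setLike_mul_comm (s := Z) (mem_subgroupOf.mp hb) h
  have hn1 : 1 ≤ n := by
    have h0 := card_le_of_le hZ1Z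
    rw [hZ1card, hn] at h0
    by_contra hn0
    rw [show n = 0 by omega, pow_zero] at h0
    exact hp.one_lt.not_ge h0
  rcases Cfsg.Agent.S3761.result (hG.to_subgroup R) hRab (Z.subgroupOf R) hUcyc n hUn hUC with
    ⟨rfl, hcard, hshape⟩ | ⟨hM, -⟩
  · rcases Nat.lt_or_ge (Nat.card R) 16 with hlt | hge
    · obtain ⟨E', R', h1, h2, h3, h4⟩ := hcube (by
        rw [hcard] at hlt ⊢
        have hn3 : n + 1 < 4 := (Nat.pow_lt_pow_iff_right (by norm_num)).mp hlt
        rcases (show n = 1 ∨ n = 2 by omega) with rfl | rfl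
        · obtain ⟨a, b, hab⟩ := hne
          exact absurd
            ((IsPGroup.isMulCommutative_of_card_eq_prime_sq (G := R) hcard).is_comm.comm a b) hab
        · rfl)
      exact ⟨E', R', h1, h2, h3, Or.inl h4⟩
    · exact ⟨E, R, hcommER, hsup, hEes', Or.inr ⟨rfl, hge, hshape⟩⟩
  -- the exceptional case
  set K := centralizer ({c ^ p} : Set G) with hKdef
  have hMK : centralizer (Cfsg.powerClosure p 1 (Z.subgroupOf R) : Set R) = K.subgroupOf R := by
    ext ⟨x, hx⟩
    rw [mem_centralizer_iff, mem_subgroupOf, hKdef, mem_centralizer_singleton_iff]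
    constructor
    · intro h
      exact (congrArg Subtype.val (h ⟨c ^ p, hZR (pow_mem hcZ p)⟩
        (Subgroup.subset_closure ⟨⟨c, hZR hcZ⟩, hcZ, by rw [pow_one]; rfl⟩))).symm
    · intro h b hb
      have hle : Cfsg.powerClosure p 1 (Z.subgroupOf R) ≤ centralizer ({(⟨x, hx⟩ : R)} : Set R) := by
        refine (closure_le _).mpr ?_
        rintro _ ⟨y, hy, rfl⟩
        rw [SetLike.mem_coe, mem_centralizer_singleton_iff]
        refine Subtype.ext ?_
        obtain ⟨i, hi⟩ := mem_zpowers_iff.mp ((mem_subgroupOf.mp hy : (y : G) ∈ Z) |> (le_of_eq hcZ'.symm ·))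
        show ((y : G)) ^ p ^ 1 * x = x * (y : G) ^ p ^ 1
        rw [← hi, pow_one, ← zpow_natCast, zpow_comm, zpow_natCast]
        exact ((show Commute x (c ^ p) from h).symm.zpow_left i).eq
      exact mem_centralizer_singleton_iff.mp (hle hb)
  rw [hMK, ← inf_subgroupOf_right K R, relIndex_subgroupOf inf_le_right] at hM
  by_cases hcp2 : c ^ p ∈ Z1
  · -- `M = R`
    have hRK : R ≤ K := fun x _ => mem_centralizer_singleton_iff.mpr
      (mem_center_iff.mp (hZ1cen hcp2) x)
    rw [inf_eq_right.mpr hRK] at hM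
    have hcard : Nat.card R = p ^ (n + 1) := by
      rw [pow_succ, ← hn, ← hM, ← Nat.card_congr (subgroupOfEquivOfLe hZR).toEquiv]
      exact (card_mul_index (Z.subgroupOf R)).symm
    obtain ⟨E', R', h1, h2, h3, h4⟩ := hcube (by
      have hn2 : n ≤ 2 := by
        have h2 : orderOf c ∣ p ^ 2 := orderOf_dvd_of_pow_eq_one (by
          rw [sq, pow_mul]; exact hZ1pow _ hcp2)
        rw [← Nat.card_zpowers, hcZ', hn, Nat.pow_dvd_pow_iff_le_right hp.one_lt] at h2
        exact h2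
      rcases (show n = 1 ∨ n = 2 by omega) with rfl | rfl
      · obtain ⟨a, b, hab⟩ := hne
        exact absurd
          ((IsPGroup.isMulCommutative_of_card_eq_prime_sq (G := R) hcard).is_comm.comm a b) hab
      · exact hcard)
    exact ⟨E', R', h1, h2, h3, Or.inl h4⟩
  exfalso
  haveI hKchar : K.Characteristic := by
    haveI := SymplecticType.characteristic_zpowers_pow hcZ' p
    rw [hKdef, ← centralizer_closure, ← zpowers_eq_closure]
    infer_instance
  have hM' : ¬ K ⊓ R ≤ Z := fun h => hp.one_lt.ne ((relIndex_eq_one.mpr h).symm.trans hM)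
  obtain ⟨w, hwM, hwZ⟩ := SetLike.not_le_iff_exists.mp hM'
  obtain ⟨hwK, hwR⟩ := mem_inf.mp hwM
  have hEK : E ≤ K := fun e he => mem_centralizer_singleton_iff.mpr
    (mem_centralizer_iff.mp (mem_inf.mp (pow_mem hcZ p)).2 e (hEC he))
  have hZK : Z ≤ K := fun z hz => mem_centralizer_singleton_iff.mpr
    (setLike_mul_comm hz (pow_mem hcZ p))
  -- `M = K ⊓ R` is generated by `Z` and any element outside
  have hMgen : K ⊓ R ≤ Z ⊔ zpowers w := by
    have hle : Z ⊔ zpowers w ≤ K ⊓ R := sup_le (le_inf hZK hZR) (zpowers_le.mpr hwM)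
    have hmul := relIndex_mul_relIndex Z (Z ⊔ zpowers w) (K ⊓ R) le_sup_left hle
    rw [hM] at hmul
    rcases (Nat.dvd_prime hp).mp (Dvd.intro_left _ hmul :
        (Z ⊔ zpowers w).relIndex (K ⊓ R) ∣ p) with h1 | h1
    · exact relIndex_eq_one.mp h1
    · exfalso
      rw [h1, Nat.mul_eq_right hp.ne_zero, relIndex_eq_one] at hmul
      exact hwZ (hmul (mem_sup_right (mem_zpowers w)))
  have hKgen : K ≤ E ⊔ (Z ⊔ zpowers w) := by
    intro g hg
    obtain ⟨e, he, r, hr, rfl⟩ := mem_sup_of_normal_left.mp (hsup ▸ mem_top g : g ∈ E ⊔ R)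
    have hrK : r ∈ K := (mul_mem_cancel_left (hEK he)).mp hg
    exact mul_mem (mem_sup_left he) (mem_sup_right (hMgen (mem_inf.mpr ⟨hrK, hr⟩)))
  have hcw : ¬ Commute c w := by
    intro h
    refine hwZ (hRZ w hwR (mem_centralizer_iff.mpr fun z hz => ?_))
    obtain ⟨i, rfl⟩ := mem_zpowers_iff.mp (hcZ'.symm ▸ hz : z ∈ zpowers c)
    exact (h.zpow_left i).eq
  have hKcen : K ⊓ centralizer (K : Set G) = zpowers (c ^ p) := by
    refine le_antisymm (fun a ha => ?_) (zpowers_le.mpr (mem_inf.mpr ⟨hZK (pow_mem hcZ p),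
      mem_centralizer_iff.mpr fun g hg => mem_centralizer_singleton_iff.mp hg⟩))
    obtain ⟨haK, haC⟩ := mem_inf.mp ha
    have haR : a ∈ R := mem_centralizer_iff.mpr fun e he => mem_centralizer_iff.mp haC e (hEK he)
    have haZ : a ∈ Z := hRZ a haR (mem_centralizer_iff.mpr fun z hz =>
      mem_centralizer_iff.mp haC z (hZK hz))
    obtain ⟨i, rfl⟩ := mem_zpowers_iff.mp (hcZ'.symm ▸ haZ : a ∈ zpowers c)
    by_cases hi : (p : ℤ) ∣ i
    · obtain ⟨k, rfl⟩ := hi
      exact mem_zpowers_iff.mpr ⟨k, by rw [zpow_mul, zpow_natCast]⟩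
    · refine absurd (mem_centralizer_singleton_iff.mp (mem_of_zpow_mem hp hi
        (H := centralizer ({w} : Set G)) (x := c) ?_ ?_)) hcw
      · exact mem_centralizer_singleton_iff.mpr (mem_centralizer_iff.mp haC w hwK).symm
      · exact mem_centralizer_singleton_iff.mpr (mem_centralizer_singleton_iff.mp hwK).symm
  -- commutators of `K`
  have hq : ∀ a ∈ K, ∀ b ∈ K, ⁅a, b⁆ ∈ Z1 := by
    have hwc : Commute (f c) (f w) := (hiff c w).mpr (hcomm1 c (mem_inf.mp hcZ).1 w
      (mem_centralizer_singleton_iff.mp hwK).symm)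
    have hgenC : K.map f ≤ closure (f '' ((E : Set G) ∪ {c, w})) := by
      rw [← MonoidHom.map_closure]
      refine map_mono (hKgen.trans (sup_le (fun e he => subset_closure (Or.inl he)) (sup_le ?_ ?_)))
      · rw [← hcZ', zpowers_le]; exact subset_closure (Or.inr (Or.inl rfl))
      · rw [zpowers_le]; exact subset_closure (Or.inr (Or.inr rfl))
    have hpair : ∀ x ∈ f '' ((E : Set G) ∪ {c, w}), ∀ y ∈ f '' ((E : Set G) ∪ {c, w}),
        x * y = y * x := by
      rintro _ ⟨x, hx, rfl⟩ _ ⟨y, hy, rfl⟩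
      rcases hx with hx | hx
      · exact ((hiff x y).mpr (hEG x hx y)).eq
      rcases hy with hy | hy
      · exact ((hiff y x).mpr (hEG y hy x)).symm.eq
      rcases hx with rfl | rfl <;> rcases hy with rfl | rfl
      · rfl
      · exact hwc.eq
      · exact hwc.symm.eq
      · rfl
    intro a ha b hb
    refine (hiff a b).mp ?_
    haveI := Subgroup.isMulCommutative_closure hpair
    exact setLike_mul_comm (hgenC (mem_map_of_mem f ha)) (hgenC (mem_map_of_mem f hb))
  have hcp : (c ^ p) ^ p ≠ 1 := fun h => hcp2 (hom1 _ (pow_mem hcZ p) h)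
  have hL := SymplecticType.pow_mem_pow_center hG hsymp hKcen.symm hcp (fun a ha b hb =>
    ⟨hKcen ▸ mem_inf.mpr ⟨mul_mem (mul_mem (mul_mem ha hb) (inv_mem ha)) (inv_mem hb),
      center_le_centralizer _ (hZ1cen (hq a ha b hb))⟩, hZ1pow _ (hq a ha b hb)⟩) c (hZK hcZ)
  obtain ⟨i, hi⟩ := mem_zpowers_iff.mp hL
  apply hcp
  obtain ⟨m, hm⟩ := hG (c ^ p)
  have h1 : c ^ p = 1 := by
    obtain ⟨u, v, huv⟩ := (show IsCoprime (p : ℤ) ((p : ℤ) * i - 1) from
      ⟨i, -1, by ring⟩).pow_left (m := m)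
    have h0 : (c ^ p) ^ ((p : ℤ) * i - 1) = 1 := by
      rw [zpow_sub_one, zpow_mul, zpow_natCast, hi, mul_inv_cancel]
    rw [← zpow_one (c ^ p), ← huv, zpow_add, mul_comm u, mul_comm v, zpow_mul, zpow_mul, h0,
      ← Nat.cast_pow, zpow_natCast, hm, one_zpow, one_zpow, one_mul]
  rw [h1, one_pow]

end Cfsg.Agent.S3762
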