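import Cfsg.Statements.S3763
import Mathlib
import Cfsg.Agent.Lib.Extraspecial.Structure

set_option autoImplicit false
open Cfsg

namespace Cfsg.Agent.S3763

open Cfsg.Agent.Lib.ExtraStruct Subgroup
open scoped commutatorElement

universe u

theorem plus_succ_iff {G : Type u} [Group G] [Finite G] (h : ExtraLike 2 G) (k : ℕ) :
    IsPlusType (k + 1) G ↔ ∃ x y : G, ⁅x, y⁆ ≠ 1 ∧ x ^ 2 = 1 ∧ y ^ 2 = 1 ∧
      IsPlusType k (centralizer ({x, y} : Set G)) := by
  haveI : Fact (Nat.Prime 2) := ⟨Nat.prime_two⟩
  match k with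
  | 0 =>
    simp only [IsPlusType, and_true]
    refine ⟨fun hi => exists_pair_involutions h hi, ?_⟩
    rintro ⟨x, y, hxy, hx, -⟩
    exact ⟨x, fun hz => hxy (commutatorElement_eq_one_iff_mul_comm.mpr (mem_center_iff.mp hz y).symm), hx⟩
  | k + 1 => exact Iff.rfl

/-- Elementary abelian subgroups of extraspecial 2-groups. -/
theorem rank_facts : ∀ (k : ℕ) (G : Type u) [Group G] [Finite G],
    Nat.card G = 2 ^ (2 * k + 1) → ExtraLike 2 G →
    (∀ A : Subgroup G, IsMulCommutative A → (∀ a ∈ A, a ^ 2 = 1) →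
      Nat.card A ≤ 2 ^ (k + 1) ∧ (¬ IsPlusType k G → Nat.card A ≤ 2 ^ k)) ∧
    (∃ A : Subgroup G, IsMulCommutative A ∧ (∀ a ∈ A, a ^ 2 = 1) ∧ Nat.card A = 2 ^ k) ∧
    (IsPlusType k G →
      ∃ A : Subgroup G, IsMulCommutative A ∧ (∀ a ∈ A, a ^ 2 = 1) ∧ Nat.card A = 2 ^ (k + 1)) := by
  haveI : Fact (Nat.Prime 2) := ⟨Nat.prime_two⟩
  intro k
  induction k with
  | zero =>
    intro G _ _ hG h
    have hsq : ∀ a : G, a ^ 2 = 1 := fun a => by
      have h1 := pow_card_eq_one' (x := a)
      rw [hG] at h1
      simpa using h1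
    refine ⟨fun A _ _ => ⟨(Subgroup.card_le_card_group A).trans (by rw [hG]),
      fun hn => absurd trivial hn⟩, ⟨⊥, inferInstance, fun a _ => hsq a, by simp⟩, fun _ => ?_⟩
    refine ⟨⊤, ⟨⟨fun a b => Subtype.ext ?_⟩⟩, fun a _ => hsq a, by rw [card_top, hG]⟩
    haveI := isCyclic_of_prime_card (p := 2) (hG.trans (by norm_num))
    exact Std.Commutative.comm (op := fun x y : G => x * y) _ _
  | succ k ih =>
    intro G _ _ hG h
    have hcardC : ∀ {x y : G}, ⁅x, y⁆ ≠ 1 →
        Nat.card (centralizer ({x, y} : Set G)) = 2 ^ (2 * k + 1) := by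
      intro x y hxy
      have h1 := card_eq_mul h hxy
      rw [hG, show 2 * (k + 1) + 1 = 2 + (2 * k + 1) by ring, pow_add] at h1
      exact (Nat.eq_of_mul_eq_mul_left (by norm_num) h1).symm
    have hbig : ∀ x y : G, ⁅x, y⁆ ≠ 1 → x ^ 2 = 1 →
        ∀ A : Subgroup (centralizer ({x, y} : Set G)), IsMulCommutative A → (∀ a ∈ A, a ^ 2 = 1) →
        ∃ B : Subgroup G, IsMulCommutative B ∧ (∀ a ∈ B, a ^ 2 = 1) ∧ Nat.card B = 2 * Nat.card A := by
      intro x y hxy hx
      set C := centralizer ({x, y} : Set G) with hC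
      intro A hA hA2
      set A' := A.map C.subtype with hA'
      have hxC : ∀ c ∈ A', Commute x c := by
        rintro _ ⟨c, -, rfl⟩
        exact mem_centralizer_iff.mp c.2 x (Set.mem_insert _ _)
      have hcomm : ∀ c ∈ A', ∀ d ∈ A', c * d = d * c := by
        rintro _ ⟨c, hc, rfl⟩ _ ⟨d, hd, rfl⟩
        exact congrArg Subtype.val (setLike_mul_comm hc hd)
      have hx1 : x ≠ 1 := fun e => hxy (by rw [e, commutatorElement_one_left])
      have hxA : x ∉ A' := by
        rintro ⟨c, -, hc⟩
        refine hxy (commutatorElement_eq_one_iff_mul_comm.mpr ?_)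
        rw [← hc]
        exact (mem_centralizer_iff.mp c.2 y (Set.mem_insert_of_mem _ rfl)).symm
      let B : Subgroup G :=
        { carrier := {g | g ∈ A' ∨ x * g ∈ A'}
          one_mem' := Or.inl (one_mem _)
          mul_mem' := by
            have hxx : x * x = 1 := by rw [← sq, hx]
            rintro a b (ha | ha) (hb | hb)
            · exact Or.inl (mul_mem ha hb)
            · refine Or.inr ?_
              rw [← mul_assoc, (hxC a ha).eq, mul_assoc]
              exact mul_mem ha hb
            · exact Or.inr (by rw [← mul_assoc]; exact mul_mem ha hb)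
            · refine Or.inl ?_
              have hc := mul_mem ha hb
              have e : x * a * (x * b) = a * b := by
                have h1 : x * a * x = x * (x * a) := (hxC _ ha).eq.symm
                rw [← mul_assoc, h1, ← mul_assoc x x a, hxx, one_mul]
              rwa [e] at hc
          inv_mem' := by
            rintro a (ha | ha)
            · exact Or.inl (inv_mem ha)
            · refine Or.inr ?_
              have h1 := inv_mem ha
              have e : x * a⁻¹ = (x * a)⁻¹ := by
                have h2 := (hxC _ h1).eq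
                rw [mul_inv_rev] at h2 ⊢
                rw [inv_mul_cancel_right, ← mul_assoc] at h2
                rw [inv_eq_of_mul_eq_one_right (show x * x = 1 by rw [← sq, hx])]
                calc x * a⁻¹ = x * a⁻¹ * x⁻¹ * x := by group
                  _ = a⁻¹ * x := by rw [h2]
              exact e ▸ h1 }
      have hxx : x * x = 1 := by rw [← sq, hx]
      have hBmem : ∀ g ∈ B, ∃ c ∈ A', g = c ∨ g = x * c := by
        rintro g (hg | hg)
        · exact ⟨g, hg, Or.inl rfl⟩
        · exact ⟨x * g, hg, Or.inr (by rw [← mul_assoc, hxx, one_mul])⟩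
      refine ⟨B, ⟨⟨fun a b => Subtype.ext ?_⟩⟩, fun a ha => ?_, ?_⟩
      · show (a : G) * b = b * a
        obtain ⟨c, hc, e | e⟩ := hBmem a a.2 <;> obtain ⟨d, hd, e' | e'⟩ := hBmem b b.2 <;> rw [e, e']
        · exact hcomm c hc d hd
        · exact (((hxC c hc).symm).mul_right (hcomm c hc d hd)).eq
        · exact ((hxC d hd).mul_left (hcomm c hc d hd)).eq
        · exact ((((Commute.refl x).mul_right (hxC d hd)).mul_left
            (((hxC c hc).symm).mul_right (hcomm c hc d hd)))).eq
      · obtain ⟨c, hc, e | e⟩ := hBmem a ha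
        · rw [e]
          obtain ⟨c', hc', rfl⟩ := hc
          exact congrArg Subtype.val (hA2 c' hc')
        · rw [e, (hxC c hc).mul_pow, hx, one_mul]
          obtain ⟨c', hc', rfl⟩ := hc
          exact congrArg Subtype.val (hA2 c' hc')
      · have hle : A' ≤ B := fun g hg => Or.inl hg
        have hrel : A'.relIndex B = 2 := by
          rw [Subgroup.relIndex, Subgroup.index_eq_two_iff]
          refine ⟨⟨x, Or.inr (by rw [hxx]; exact one_mem _)⟩, fun b => ?_⟩
          simp only [mem_subgroupOf, Subgroup.coe_mul]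
          obtain ⟨c, hc, e | e⟩ := hBmem b b.2
          · refine Or.inr ⟨e ▸ hc, fun hbx => hxA ?_⟩
            have := mul_mem (inv_mem (e ▸ hc : (b : G) ∈ A')) hbx
            rwa [inv_mul_cancel_left] at this
          · refine Or.inl ⟨?_, fun hb => hxA ?_⟩
            · rw [e, (hxC c hc).eq, mul_assoc, hxx, mul_one]
              exact hc
            · rw [e] at hb
              have := mul_mem hb (inv_mem hc)
              rwa [mul_inv_cancel_right] at this
        rw [← relIndex_bot_left B, ← relIndex_mul_relIndex ⊥ A' B bot_le hle, relIndex_bot_left, hrel,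
          hA', card_map_of_injective C.subtype_injective, mul_comm]
    have hk1 : Nat.card G ≠ 2 := fun e => by
      rw [hG] at e
      have := Nat.pow_lt_pow_right (a := 2) one_lt_two (show 1 < 2 * (k + 1) + 1 by omega)
      omega
    refine ⟨fun A hA hA2 => ?_, ?_, fun hp => ?_⟩
    · by_cases hAZ : A ≤ center G
      · have h1 : Nat.card A ≤ 2 := (card_le_of_le hAZ).trans h.card_center.le
        have h2 : 2 ≤ 2 ^ (k + 1) := le_self_pow one_le_two (Nat.succ_ne_zero k)
        exact ⟨by omega, fun _ => by omega⟩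
      obtain ⟨a, haA, haZ⟩ := SetLike.not_le_iff_exists.mp hAZ
      rw [mem_center_iff] at haZ
      push Not at haZ
      obtain ⟨y, hy⟩ := haZ
      have hay : ⁅a, y⁆ ≠ 1 := fun he => hy (commutatorElement_eq_one_iff_mul_comm.mp he).symm
      have ha2 := hA2 a haA
      have hbound : ∀ y : G, ⁅a, y⁆ ≠ 1 →
          Nat.card A ≤ 2 * Nat.card (A.subgroupOf (centralizer ({a, y} : Set G))) := by
        intro y hay
        set C := centralizer ({a, y} : Set G) with hC
        let f : Bool × A.subgroupOf C → A := fun t =>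
          ⟨(if t.1 then a else 1) * ((t.2 : C) : G), mul_mem (by split_ifs <;> [exact haA; exact one_mem A]) t.2.2⟩
        have hf : Function.Surjective f := by
          intro g
          obtain ⟨i, j, c, hc, hg⟩ := exists_decomp h hay (g : G)
          have hga : ⁅(g : G), a⁆ = 1 :=
            commutatorElement_eq_one_iff_mul_comm.mpr (setLike_mul_comm g.2 haA)
          have hj : ⁅y, a⁆ ^ j = 1 := by
            have h1 : pairHom h a y (g : G) = pairHom h a y (y ^ j) * pairHom h a y (a ^ i) := by
              rw [hg, map_mul, map_mul, (show pairHom h a y c = 1 from by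
                rw [← MonoidHom.mem_ker, ker_pairHom]; exact hc), mul_one]
            have h2 := congrArg (fun q => (q.1 : G)) h1
            change ⁅(g : G), a⁆ = ⁅y ^ j, a⁆ * ⁅a ^ i, a⁆ at h2
            rwa [hga, commutator_zpow_left h a a, commutatorElement_self, one_zpow, mul_one,
              commutator_zpow_left h, eq_comm] at h2
          have hyne : ⁅y, a⁆ ≠ 1 := fun e => hay (by rw [← commutatorElement_inv y a, e, inv_one])
          have hyj : y ^ j ∈ C := by
            refine center_le_centralizer a y ?_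
            rw [← orderOf_dvd_iff_zpow_eq_one, orderOf_eq_of_mem_center h (h.comm_mem y a) hyne] at hj
            obtain ⟨l, rfl⟩ := hj
            rw [zpow_mul, zpow_natCast]
            exact zpow_mem (h.pow_mem y) l
          have hcy : Commute (y ^ j) (a ^ i) :=
            (Commute.zpow_right (mem_centralizer_iff.mp hyj a (Set.mem_insert _ _)).symm i)
          have hg' : (g : G) = a ^ i * (y ^ j * c) := by rw [hg, hcy.eq, mul_assoc]
          obtain ⟨b, hb⟩ : ∃ b : Bool, a ^ i = if b then a else 1 := by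
            rcases Int.even_or_odd i with ⟨l, hl⟩ | ⟨l, hl⟩
            · exact ⟨false, by rw [hl, ← two_mul, zpow_mul, zpow_two, ← sq, ha2, one_zpow]; rfl⟩
            · exact ⟨true, by rw [hl, zpow_add_one, zpow_mul, zpow_two, ← sq, ha2, one_zpow, one_mul]; rfl⟩
          refine ⟨(b, ⟨⟨y ^ j * c, mul_mem hyj hc⟩, ?_⟩), Subtype.ext ?_⟩
          · show y ^ j * c ∈ A
            have := mul_mem (inv_mem (zpow_mem haA i)) g.2
            rwa [hg', inv_mul_cancel_left] at this
          · show (if b then a else 1) * (y ^ j * c) = g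
            rw [← hb, hg']
        refine (Nat.card_le_card_of_surjective f hf).trans ?_
        rw [Nat.card_prod, show Nat.card Bool = 2 by simp]
      have hcommA : ∀ C : Subgroup G, IsMulCommutative (A.subgroupOf C) := fun C =>
        ⟨⟨fun u v => Subtype.ext (Subtype.ext (setLike_mul_comm (S := Subgroup G) u.2 v.2))⟩⟩
      have hexp : ∀ C : Subgroup G, ∀ u ∈ A.subgroupOf C, u ^ 2 = 1 := fun C u hu =>
        Subtype.ext (hA2 u hu)
      refine ⟨?_, fun hnp => ?_⟩
      · have h1 := ((ih _ (hcardC hay) (extraLike_centralizer h hay)).1 _ (hcommA _) (hexp _)).1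
        calc Nat.card A ≤ _ := hbound y hay
          _ ≤ 2 * 2 ^ (k + 1) := Nat.mul_le_mul_left 2 h1
          _ = _ := by ring
      · obtain ⟨z, haz, hz2⟩ : ∃ z : G, ⁅a, z⁆ ≠ 1 ∧ z ^ 2 = 1 := by
          by_cases hy2 : y ^ 2 = 1
          · exact ⟨y, hay, hy2⟩
          refine ⟨a * y, ?_, ?_⟩
          · rw [Cfsg.Agent.Lib.Extraspecial.commutator_mul_right (h.comm_mem a y),
              commutatorElement_self, one_mul]
            exact hay
          · rw [Cfsg.Agent.Lib.Extraspecial.mul_pow_eq (h.comm_mem y a), ha2, one_mul,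
              show Nat.choose 2 2 = 1 from rfl, pow_one]
            have hya : ⁅y, a⁆ ≠ 1 := fun he => hay (by rw [← commutatorElement_inv y a, he, inv_one])
            rw [eq_of_mem_center_two h (h.pow_mem y) hy2 (h.comm_mem y a) hya, ← sq,
              ← orderOf_eq_of_mem_center h (h.comm_mem y a) hya]
            exact pow_orderOf_eq_one _
        have hnp' : ¬ IsPlusType k (centralizer ({a, z} : Set G)) := fun hpl =>
          hnp ((plus_succ_iff h k).mpr ⟨a, z, haz, ha2, hz2, hpl⟩)
        have h1 := ((ih _ (hcardC haz) (extraLike_centralizer h haz)).1 _ (hcommA _) (hexp _)).2 hnp'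
        calc Nat.card A ≤ _ := hbound z haz
          _ ≤ 2 * 2 ^ k := Nat.mul_le_mul_left 2 h1
          _ = _ := by ring
    · by_cases hi : ∃ x y : G, ⁅x, y⁆ ≠ 1 ∧ x ^ 2 = 1
      · obtain ⟨x, y, hxy, hx⟩ := hi
        obtain ⟨A, hA, hA2, hAc⟩ := (ih _ (hcardC hxy) (extraLike_centralizer h hxy)).2.1
        obtain ⟨B, hB, hB2, hBc⟩ := hbig x y hxy hx A hA hA2
        exact ⟨B, hB, hB2, by rw [hBc, hAc]; ring⟩
      · have hk0 : k = 0 := by
          by_contra hk
          obtain ⟨x, y, h1, h2, -⟩ := exists_pair_involutions h (hasInvolution_of_card h (by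
            rw [hG]
            exact Nat.pow_lt_pow_right (a := 2) one_lt_two (show 3 < 2 * (k + 1) + 1 by omega)))
          exact hi ⟨x, y, h1, h2⟩
        subst hk0
        refine ⟨center G, inferInstance, fun a ha => ?_, by rw [h.card_center]; norm_num⟩
        by_cases ha1 : a = 1
        · simp [ha1]
        · rw [← orderOf_eq_of_mem_center h ha ha1]; exact pow_orderOf_eq_one a
    · obtain ⟨x, y, hxy, hx, -, hpl⟩ := (plus_succ_iff h k).mp hp
      obtain ⟨A, hA, hA2, hAc⟩ := (ih _ (hcardC hxy) (extraLike_centralizer h hxy)).2.2 hpl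
      obtain ⟨B, hB, hB2, hBc⟩ := hbig x y hxy hx A hA hA2
      exact ⟨B, hB, hB2, by rw [hBc, hAc]; ring⟩

open Classical in
theorem rankLE_iff {G : Type u} [Group G] [Finite G] (h : Cfsg.IsExtraspecial 2 G) (n : ℕ)
    (hn : Nat.card G = 2 ^ (2 * n + 1)) (j : ℕ) :
    Cfsg.PRankLE 2 j G ↔ (if IsPlusType n G then n + 1 else n) ≤ j := by
  haveI : Fact (Nat.Prime 2) := ⟨Nat.prime_two⟩
  obtain ⟨hup, ⟨A, hA, hA2, hAc⟩, hplus⟩ := rank_facts n G hn (extraLike_of_isExtraspecial h)
  constructor
  · intro hr
    split_ifs with hp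
    · obtain ⟨B, hB, hB2, hBc⟩ := hplus hp
      exact (Nat.pow_le_pow_iff_right one_lt_two).mp (hBc ▸ hr B hB hB2)
    · exact (Nat.pow_le_pow_iff_right one_lt_two).mp (hAc ▸ hr A hA hA2)
  · intro hle B hB hB2
    split_ifs at hle with hp
    · exact (hup B hB hB2).1.trans (Nat.pow_le_pow_right two_pos hle)
    · exact ((hup B hB hB2).2 hp).trans (Nat.pow_le_pow_right two_pos hle)

/-- Let E be an extraspecial 2-group of order 2^(2n+1). Then the largest elementary abelian subgroups of E have order 2^n or 2^(n+1); and two extraspecial 2-groups of the same order whose largest elementary abelian subgroups have the same order are isomorphic. -/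
theorem result {E : Type*} [Group E] [Finite E] (hE : Cfsg.IsExtraspecial 2 E) (n : ℕ) (hn : Nat.card E = 2 ^ (2 * n + 1)) : ((Cfsg.PRankLE 2 n E ∧ ¬ Cfsg.PRankLE 2 (n - 1) E) ∨ (Cfsg.PRankLE 2 (n + 1) E ∧ ¬ Cfsg.PRankLE 2 n E)) ∧ ∀ (E' : Type*) [Group E'] [Finite E'], Cfsg.IsExtraspecial 2 E' → Nat.card E' = Nat.card E → (∀ k : ℕ, Cfsg.PRankLE 2 k E ↔ Cfsg.PRankLE 2 k E') → Nonempty (E ≃* E') := by
  classical
  haveI : Fact (Nat.Prime 2) := ⟨Nat.prime_two⟩
  refine ⟨?_, fun E' _ _ hE' hc hr => ?_⟩
  · rw [rankLE_iff hE n hn, rankLE_iff hE n hn, rankLE_iff hE n hn]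
    by_cases hp : IsPlusType n E
    · rw [if_pos hp]
      exact Or.inr ⟨le_rfl, by omega⟩
    · rw [if_neg hp]
      have : n ≠ 0 := fun e => hp (by subst e; simp [IsPlusType])
      exact Or.inl ⟨le_rfl, by omega⟩
  · have hn' : Nat.card E' = 2 ^ (2 * n + 1) := hc.trans hn
    refine exists_mulEquiv_of_type n E E' hn hn' (extraLike_of_isExtraspecial hE)
      (extraLike_of_isExtraspecial hE') ?_
    have h1 := hr n
    rw [rankLE_iff hE n hn, rankLE_iff hE' n hn'] at h1
    by_cases hp : IsPlusType n E <;> by_cases hp' : IsPlusType n E' <;>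
      simp only [hp, hp', if_true, if_false] at h1 <;> first | exact iff_of_true hp hp' | exact iff_of_false hp hp' | omega

end Cfsg.Agent.S3763
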