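import Cfsg.Statements.S3764
import Mathlib
import Cfsg.Agent.Lib.HallHigmanExc.Subgroups

set_option autoImplicit false
set_option linter.style.haveILetI false
open Cfsg

namespace Cfsg.Agent.S3764

open Subgroup
open scoped commutatorElement
open Cfsg.Agent.Lib


/-- Let p, q, r be distinct primes and let X, Q, V be subgroups of a finite group with X of order r, Q an extraspecial q-group normalized by X with C_Q(X) = Z(Q), and V an elementary abelian p-group normalized by X and Q on which XQ acts faithfully ((X ⊔ Q) ∩ C(V) = 1). If C_V(X) = 1, then q = 2, r = 2^n + 1 for some n, and Q has order 2^(2n+1). -/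
theorem result {G : Type*} [Group G] [Finite G] {p q r : ℕ} (hp : p.Prime) (hq : q.Prime) (hr : r.Prime) (hpq : p ≠ q) (hpr : p ≠ r) (hqr : q ≠ r) (X Q V : Subgroup G) (hX : Nat.card X = r) (hQ : Cfsg.IsExtraspecial q ↥Q) (hXQ : X ≤ Subgroup.normalizer (Q : Set G)) (hCQ : Q ⊓ Subgroup.centralizer (X : Set G) = (Subgroup.center ↥Q).map Q.subtype) (hV : Cfsg.IsElementaryAbelian p V) (hXV : X ≤ Subgroup.normalizer (V : Set G)) (hQV : Q ≤ Subgroup.normalizer (V : Set G)) (hfaith : (X ⊔ Q) ⊓ Subgroup.centralizer (V : Set G) = ⊥) (hCV : V ⊓ Subgroup.centralizer (X : Set G) = ⊥) : q = 2 ∧ ∃ n : ℕ, r = 2 ^ n + 1 ∧ Nat.card Q = 2 ^ (2 * n + 1) := by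
  haveI := Fact.mk hq
  have hqp := Extraspecial.isPGroup hQ
  set Z := (center ↥Q).map Q.subtype with hZdef
  have hmemZ : ∀ z ∈ Z, ∃ c : Q, c ∈ center ↥Q ∧ (c : G) = z := fun z ⟨c, hc, h⟩ => ⟨c, hc, h⟩
  have hcomm : ∀ x ∈ Q, ∀ y ∈ Q, ⁅x, y⁆ ∈ Z := fun x hx y hy =>
    ⟨⁅(⟨x, hx⟩ : Q), ⟨y, hy⟩⁆, Extraspecial.commutator_mem_center hQ _ _, rfl⟩
  obtain ⟨k, h1, h2, h3⟩ := HallHigmanExc.exceptional_of_subgroups hp hq hr hpq hpr hqr (Z := Z)
    hX hqp hXQ (map_subtype_le _)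
    (fun z hz => mem_centralizer_iff.mpr fun y hy => by
      obtain ⟨c, hc, rfl⟩ := hmemZ z hz
      exact congrArg Subtype.val (mem_center_iff.mp hc ⟨y, hy⟩))
    ((le_of_eq hCQ.symm).trans inf_le_right) hV hXV hQV hfaith hcomm
    (fun x hx => ⟨(⟨x, hx⟩ : Q) ^ q, Extraspecial.pow_mem_center hQ _, rfl⟩)
    (fun z hz => by
      obtain ⟨c, hc, rfl⟩ := hmemZ z hz
      rw [← SubgroupClass.coe_pow, Extraspecial.pow_eq_one_of_mem_center hQ hc]
      rfl)
    hCQ.le
    (fun K _ hK x hx hxZ => by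
      obtain ⟨y, hy⟩ := Extraspecial.exists_not_commute_of_not_mem_center
        (x := (⟨x, hx⟩ : Q)) (fun h => hxZ ⟨_, h, rfl⟩)
      refine ⟨y, y.2, fun hmem => hK ?_⟩
      have hz := Extraspecial.zpowers_eq_center hQ
        (Extraspecial.commutator_mem_center hQ y (⟨x, hx⟩ : Q))
        (fun h => hy (commutatorElement_eq_one_iff_mul_comm.mp h))
      rw [commutator_le]
      intro a ha b hb
      obtain ⟨c, hc, hcz⟩ := hmemZ _ (hcomm a ha b hb)
      rw [← hz, mem_zpowers_iff] at hc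
      obtain ⟨i, rfl⟩ := hc
      rw [← hcz]
      exact zpow_mem hmem i)
    (fun h => by
      obtain ⟨a, b, hab⟩ := Extraspecial.exists_not_commute hQ
      refine hab (Subtype.ext (commutatorElement_eq_one_iff_mul_comm.mp ?_))
      have h1 := commutator_mem_commutator (H₁ := Q) (H₂ := Q) a.2 b.2
      rwa [h, mem_bot] at h1)
    hCV
  subst h1
  have hZ : Nat.card Z = 2 := by
    rw [hZdef, card_map_of_injective Q.subtype_injective, Extraspecial.card_center hQ]
  exact ⟨rfl, k, h2, by rw [h3, hZ, pow_succ']⟩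

end Cfsg.Agent.S3764
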